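import Groth.Agent.Lib.AntiAffine_lead

/-! # Morphisms from an anti-affine group into an affine scheme are constant (lead) -/

set_option backward.isDefEq.respectTransparency false
set_option backward.isDefEq.respectTransparency.types false
set_option linter.unusedSimpArgs false
set_option linter.unusedVariables false
set_option linter.unusedSectionVars false
set_option linter.style.longLine false
set_option linter.style.haveILetI false
set_option maxHeartbeats 800000

universe u

open CategoryTheory CategoryTheory.Limits MonoidalCategory CartesianMonoidalCategory MonObj GrpObj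
  AlgebraicGeometry Opposite Topology

namespace Groth.Agent.Lib.AntiAffine

open Groth.Agent.Lib.AssocBundle Groth.Agent.Lib.IsogKernel

/-- if `p : X ⟶ S` is an isomorphism on global sections (`S` affine), every morphism from `X` to an
affine scheme factors through `p` -/
theorem factor_affine {X Y S : Scheme.{u}} (p : X ⟶ S) [IsAffine S] [IsAffine Y] [IsIso p.appTop]
    (n : X ⟶ Y) : ∃ c : S ⟶ Y, n = p ≫ c := by
  have h1 : n ≫ Y.toSpecΓ = X.toSpecΓ ≫ Spec.map n.appTop := Scheme.toSpecΓ_naturality n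
  have h2 : p ≫ S.toSpecΓ = X.toSpecΓ ≫ Spec.map p.appTop := Scheme.toSpecΓ_naturality p
  haveI : IsIso (Spec.map p.appTop) := inferInstance
  have h3 : X.toSpecΓ = p ≫ S.toSpecΓ ≫ inv (Spec.map p.appTop) := by
    rw [← Category.assoc, h2, Category.assoc, IsIso.hom_inv_id, Category.comp_id]
  refine ⟨S.toSpecΓ ≫ inv (Spec.map p.appTop) ≫ Spec.map n.appTop ≫ inv Y.toSpecΓ, ?_⟩
  calc n = (n ≫ Y.toSpecΓ) ≫ inv Y.toSpecΓ := by
        rw [Category.assoc, IsIso.hom_inv_id, Category.comp_id]
    _ = (X.toSpecΓ ≫ Spec.map n.appTop) ≫ inv Y.toSpecΓ := by rw [h1]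
    _ = ((p ≫ S.toSpecΓ ≫ inv (Spec.map p.appTop)) ≫ Spec.map n.appTop) ≫ inv Y.toSpecΓ := by
        rw [← h3]
    _ = _ := by simp only [Category.assoc]

variable {k : Type u} [Field k]

/-- a morphism from an anti-affine group to an affine `k`-scheme is constant -/
theorem const_of_aa {G N : Over (Spec (CommRingCat.of k))} [GrpObj G] (hG : AA G)
    [IsAffine N.left] (n : G ⟶ N) : ∃ c : 𝟙_ (Over (Spec (CommRingCat.of k))) ⟶ N,
      n = toUnit G ≫ c := by
  haveI : IsIso G.hom.appTop := hG
  obtain ⟨c₀, hc₀⟩ := factor_affine G.hom n.left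
  -- `G.hom` is an epimorphism
  haveI : Surjective G.hom := by
    haveI : Subsingleton ↥(Spec (CommRingCat.of k)) :=
      inferInstanceAs (Subsingleton (PrimeSpectrum k))
    exact ⟨fun s => ⟨(η[G]).left.base s, Subsingleton.elim _ _⟩⟩
  haveI : Epi G.hom := Flat.epi_of_flat_of_surjective G.hom
  have hw : c₀ ≫ N.hom = 𝟙 (Spec (CommRingCat.of k)) := by
    rw [← cancel_epi G.hom, ← Category.assoc, ← hc₀, Over.w n, Category.comp_id]
  refine ⟨Over.homMk c₀ hw, ?_⟩
  apply Over.OverMorphism.ext
  rw [Over.comp_left, Over.toUnit_left]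
  exact hc₀

section main

variable {G H N A : Over (Spec (CommRingCat.of k))} [GrpObj G] [GrpObj H] [GrpObj A]
  (i : N ⟶ H) (α : H ⟶ A) [IsMonHom α] (hker : AlgGrp.IsKernel i α)

include hker in
theorem rigid (hG : AA G) [IsAffine N.left] (f f' : G ⟶ H) (hf : η[G] ≫ f = η[H])
    (hf' : η[G] ≫ f' = η[H]) (hα : f ≫ α = f' ≫ α) : f = f' := by
  obtain ⟨n, hn⟩ := ker_diff_left i α hker f' f hα.symm
  obtain ⟨c, hc⟩ := const_of_aa hG n
  -- evaluate at the unit
  have e1 : η[G] ≫ f' = ((η[G] ≫ n) ≫ i) * (η[G] ≫ f) := by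
    rw [hn, MonObj.comp_mul, Category.assoc]
  have e2 : η[G] ≫ n = c := by
    rw [hc, ← Category.assoc]
    have : η[G] ≫ toUnit G = 𝟙 _ := toUnit_unique _ _
    rw [this, Category.id_comp]
  rw [hf, hf', e2] at e1
  have e3 : η[H] = (1 : 𝟙_ (Over (Spec (CommRingCat.of k))) ⟶ H) := by
    rw [Hom.one_def]
    have : toUnit (𝟙_ (Over (Spec (CommRingCat.of k)))) = 𝟙 _ := toUnit_unique _ _
    rw [this, Category.id_comp]
  rw [e3] at e1
  have e4 : c ≫ i = 1 := by
    have := e1
    rw [_root_.mul_one] at this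
    exact this.symm
  have e5 : n ≫ i = 1 := by
    rw [hc, Category.assoc, e4, Hom.one_def, Hom.one_def, ← Category.assoc]
    congr 1
  rw [hn, e5, _root_.one_mul]

end main

end Groth.Agent.Lib.AntiAffine
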