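import Mathlib

/-!
# fpqc descent of closed subschemes / quasi-coherent ideal sheaves (helper7)
-/

set_option autoImplicit false
set_option backward.isDefEq.respectTransparency false
set_option backward.isDefEq.respectTransparency.types false
universe u
open CategoryTheory CategoryTheory.Limits AlgebraicGeometry

namespace Groth.Agent.Lib.ClosedDescent_helper7

open Scheme

/-- Sections inject along flat surjective morphisms. -/
theorem app_injective_of_flat_surjective {X Y : Scheme.{u}} (f : X ⟶ Y) [Flat f] [Surjective f]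
    (U : Y.Opens) : Function.Injective (f.app U) := by
  rw [injective_iff_map_eq_zero]
  intro s hs
  refine TopCat.Presheaf.section_ext Y.sheaf U s 0 fun y hy => ?_
  obtain ⟨x, rfl⟩ := f.surjective y
  have hinj : Function.Injective (f.stalkMap x) := by
    algebraize [(f.stalkMap x).hom]
    have : Module.FaithfullyFlat (Y.presheaf.stalk (f x)) (X.presheaf.stalk x) :=
      @Module.FaithfullyFlat.of_flat_of_isLocalHom _ _ _ _ _ _ _
        (Flat.stalkMap f x) (f.toLRSHom.prop x)
    exact ‹RingHom.FaithfullyFlat _›.injective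
  apply hinj
  show f.stalkMap x (Y.presheaf.germ U (f x) hy s) = f.stalkMap x (Y.presheaf.germ U (f x) hy 0)
  rw [Scheme.Hom.germ_stalkMap_apply, Scheme.Hom.germ_stalkMap_apply, hs, map_zero, map_zero,
    map_zero]

theorem ker_eq_bot_of_flat_surjective {X Y : Scheme.{u}} (f : X ⟶ Y) [Flat f] [Surjective f]
    [QuasiCompact f] : f.ker = ⊥ := by
  refine IdealSheafData.ext (funext fun U => ?_)
  rw [Scheme.Hom.ker_apply, IdealSheafData.ideal_bot, Pi.bot_apply]
  exact (RingHom.injective_iff_ker_eq_bot _).1 (app_injective_of_flat_surjective f U.1)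

theorem isSTD_of_flat_surjective {X Y : Scheme.{u}} (f : X ⟶ Y) [Flat f] [Surjective f]
    [QuasiCompact f] : IsSchemeTheoreticallyDominant f := ⟨ker_eq_bot_of_flat_surjective f⟩

theorem ker_toImage {X Y : Scheme.{u}} (f : X ⟶ Y) [QuasiCompact f] : f.toImage.ker = ⊥ := by
  refine IdealSheafData.ext_of_iSup_eq_top (ι := Y.affineOpens)
    (fun W => ⟨f.imageι ⁻¹ᵁ W.1, W.2.preimage f.imageι⟩) ?_ ?_
  · show ⨆ W : Y.affineOpens, f.imageι ⁻¹ᵁ W.1 = ⊤
    rw [← Scheme.Hom.preimage_iSup, iSup_affineOpens_eq_top]
    rfl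
  · intro W
    rw [Scheme.Hom.ker_apply, IdealSheafData.ideal_bot, Pi.bot_apply]
    exact (RingHom.injective_iff_ker_eq_bot _).1 (f.toImage_app_injective W)

/-- Flat base change of the kernel (scheme-theoretic image) of a quasi-compact morphism. -/
theorem ker_snd_of_flat {X Y S : Scheme.{u}} (f : X ⟶ S) (g : Y ⟶ S) [QuasiCompact f] [Flat g] :
    (pullback.snd f g).ker = f.ker.comap g := by
  have hf : f.toImage ≫ f.imageι = f := f.toImage_imageι
  let t' : pullback f g ⟶ pullback g f.imageι :=
    pullback.lift (pullback.snd f g) (pullback.fst f g ≫ f.toImage) (by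
      rw [Category.assoc, hf]; exact pullback.condition.symm)
  have h1 : t' ≫ pullback.fst g f.imageι = pullback.snd f g := pullback.lift_fst _ _ _
  have h2 : t' ≫ pullback.snd g f.imageι = pullback.fst f g ≫ f.toImage := pullback.lift_snd _ _ _
  have sqR : IsPullback (pullback.fst g f.imageι) (pullback.snd g f.imageι) g f.imageι :=
    IsPullback.of_hasPullback g f.imageι
  have sqO : IsPullback (t' ≫ pullback.fst g f.imageι) (pullback.fst f g) g
      (f.toImage ≫ f.imageι) := by
    rw [h1, hf]; exact (IsPullback.of_hasPullback f g).flip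
  have sqL : IsPullback t' (pullback.fst f g) (pullback.snd g f.imageι) f.toImage :=
    IsPullback.of_right sqO h2 sqR
  haveI : IsSchemeTheoreticallyDominant f.toImage := ⟨ker_toImage f⟩
  haveI : Flat (pullback.snd g f.imageι) :=
    MorphismProperty.pullback_snd (P := @Flat) _ _ inferInstance
  haveI : IsSchemeTheoreticallyDominant t' := IsSchemeTheoreticallyDominant.of_isPullback sqL.flip
  rw [← h1, Scheme.Hom.ker_comp, t'.ker_eq_bot, IdealSheafData.map_bot]
  rfl

theorem ker_snd_of_isClosedImmersion {Z X Y : Scheme.{u}} (i : Z ⟶ Y) (f : X ⟶ Y)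
    [IsClosedImmersion i] : (pullback.snd i f).ker = i.ker.comap f := by
  rw [← IdealSheafData.ker_fst_of_isClosedImmersion i f, ← pullbackSymmetry_hom_comp_fst i f,
    Scheme.Hom.ker_comp_of_isIso]

/-- Existence half of fpqc descent for quasi-coherent ideal sheaves (single quasi-compact cover). -/
theorem comap_map_of_stable {S S' : Scheme.{u}} (g : S' ⟶ S) [Flat g] [Surjective g]
    [QuasiCompact g] (J' : S'.IdealSheafData)
    (h : J'.comap (pullback.fst g g) = J'.comap (pullback.snd g g)) :
    (J'.map g).comap g = J' := by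
  apply le_antisymm (IdealSheafData.comap_map_le J' g)
  have e1 : (J'.map g).comap g = (pullback.snd (J'.subschemeι ≫ g) g).ker :=
    (ker_snd_of_flat (J'.subschemeι ≫ g) g).symm
  have e2 : (pullbackRightPullbackFstIso g g J'.subschemeι).hom ≫
      pullback.snd (J'.subschemeι ≫ g) g =
      pullback.snd J'.subschemeι (pullback.fst g g) ≫ pullback.snd g g :=
    pullbackRightPullbackFstIso_hom_snd _ _ _
  have e3 : (pullback.snd (J'.subschemeι ≫ g) g).ker =
      (J'.comap (pullback.fst g g)).map (pullback.snd g g) := by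
    rw [← Scheme.Hom.ker_comp_of_isIso (pullbackRightPullbackFstIso g g J'.subschemeι).hom, e2,
      Scheme.Hom.ker_comp, ker_snd_of_isClosedImmersion, IdealSheafData.ker_subschemeι]
  rw [e1, e3, h]
  exact IdealSheafData.le_map_comap J' (pullback.snd g g)

/-- Injectivity half. -/
theorem map_comap_eq {X Y : Scheme.{u}} (π : X ⟶ Y) [Flat π] [Surjective π] [QuasiCompact π]
    (J : Y.IdealSheafData) : (J.comap π).map π = J := by
  haveI : Flat (pullback.snd π J.subschemeι) :=
    MorphismProperty.pullback_snd (P := @Flat) _ _ inferInstance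
  haveI : Surjective (pullback.snd π J.subschemeι) :=
    MorphismProperty.pullback_snd (P := @Surjective) _ _ inferInstance
  haveI : QuasiCompact (pullback.snd π J.subschemeι) :=
    MorphismProperty.pullback_snd (P := @QuasiCompact) _ _ inferInstance
  show ((pullback.fst π J.subschemeι).ker).map π = J
  rw [IdealSheafData.map_ker, pullback.condition, Scheme.Hom.ker_comp,
    ker_eq_bot_of_flat_surjective, IdealSheafData.map_bot, IdealSheafData.ker_subschemeι]

theorem comap_injective {X Y : Scheme.{u}} (π : X ⟶ Y) [Flat π] [Surjective π] [QuasiCompact π]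
    {J₁ J₂ : Y.IdealSheafData} (h : J₁.comap π = J₂.comap π) : J₁ = J₂ := by
  rw [← map_comap_eq π J₁, h, map_comap_eq]

theorem S5136 {S S' : Scheme.{u}} (g : S' ⟶ S) [Flat g] [Surjective g]
    [QuasiCompact g] (J' : S'.IdealSheafData)
    (h : J'.comap (pullback.fst g g) = J'.comap (pullback.snd g g)) :
    ∃ J : S.IdealSheafData, J.comap g = J' :=
  ⟨J'.map g, comap_map_of_stable g J' h⟩

section Sub

variable {X : Scheme.{u}}

/-- The closed subobject attached to an ideal sheaf. -/
noncomputable def subOf (I : X.IdealSheafData) : Subobject X := Subobject.mk I.subschemeι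

theorem subOf_arrow (I : X.IdealSheafData) :
    (subOf I).arrow = (Subobject.underlyingIso I.subschemeι).hom ≫ I.subschemeι :=
  (Subobject.underlyingIso_hom_comp_eq_mk _).symm

theorem subOf_arrow_isClosedImmersion (I : X.IdealSheafData) :
    IsClosedImmersion (subOf I).arrow := by
  rw [subOf_arrow]; infer_instance

theorem subOf_arrow_ker (I : X.IdealSheafData) : (subOf I).arrow.ker = I := by
  rw [subOf_arrow, Scheme.Hom.ker_comp_of_isIso, IdealSheafData.ker_subschemeι]

theorem sub_eq_subOf_ker (Y : Subobject X) (h : IsClosedImmersion Y.arrow) :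
    Y = subOf Y.arrow.ker := by
  haveI := h
  exact Subobject.eq_mk_of_comm _ (asIso Y.arrow.toImage) Y.arrow.toImage_imageι

theorem sub_eq_of_ker_eq (Y₁ Y₂ : Subobject X) (h₁ : IsClosedImmersion Y₁.arrow)
    (h₂ : IsClosedImmersion Y₂.arrow) (h : Y₁.arrow.ker = Y₂.arrow.ker) : Y₁ = Y₂ :=
  (sub_eq_subOf_ker Y₁ h₁).trans ((congrArg subOf h).trans (sub_eq_subOf_ker Y₂ h₂).symm)

theorem pullback_closed {X Y : Scheme.{u}} (f : X ⟶ Y) (Y' : Subobject Y)
    (h : IsClosedImmersion Y'.arrow) :
    IsClosedImmersion ((Subobject.pullback f).obj Y').arrow ∧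
      ((Subobject.pullback f).obj Y').arrow.ker = Y'.arrow.ker.comap f := by
  have sq := Subobject.isPullback f Y'
  haveI := h
  have hc : IsClosedImmersion ((Subobject.pullback f).obj Y').arrow :=
    MorphismProperty.of_isPullback (P := @IsClosedImmersion) sq h
  refine ⟨hc, ?_⟩
  rw [← sq.flip.isoPullback_hom_fst, Scheme.Hom.ker_comp_of_isIso,
    IdealSheafData.ker_fst_of_isClosedImmersion]

end Sub

theorem S5233 {X X' : Scheme.{u}} (π : X ⟶ X') [Flat π] [Surjective π] [QuasiCompact π] :
    Set.BijOn (Subobject.pullback π).obj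
      {Y' : Subobject X' | IsClosedImmersion Y'.arrow}
      {Y : Subobject X | IsClosedImmersion Y.arrow ∧
        (Subobject.pullback (pullback.fst π π)).obj Y =
          (Subobject.pullback (pullback.snd π π)).obj Y} := by
  refine ⟨?_, ?_, ?_⟩
  · intro Y' hY'
    refine ⟨(pullback_closed π Y' hY').1, ?_⟩
    rw [← Subobject.pullback_comp, ← Subobject.pullback_comp, pullback.condition]
  · intro Y₁ h₁ Y₂ h₂ h
    apply sub_eq_of_ker_eq _ _ h₁ h₂
    have e₁ := (pullback_closed π Y₁ h₁).2
    have e₂ := (pullback_closed π Y₂ h₂).2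
    have h' : (Subobject.pullback π).obj Y₁ = (Subobject.pullback π).obj Y₂ := h
    have : Y₁.arrow.ker.comap π = Y₂.arrow.ker.comap π := by rw [← e₁, ← e₂, h']
    exact comap_injective π this
  · rintro Y ⟨hY, hst⟩
    have k1 := (pullback_closed (pullback.fst π π) Y hY).2
    have k2 := (pullback_closed (pullback.snd π π) Y hY).2
    have hK : Y.arrow.ker.comap (pullback.fst π π) = Y.arrow.ker.comap (pullback.snd π π) := by
      rw [← k1, ← k2, hst]
    have hJ := comap_map_of_stable π Y.arrow.ker hK
    refine ⟨subOf (Y.arrow.ker.map π), subOf_arrow_isClosedImmersion _, ?_⟩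
    have c := pullback_closed π (subOf (Y.arrow.ker.map π)) (subOf_arrow_isClosedImmersion _)
    apply sub_eq_of_ker_eq _ _ c.1 hY
    rw [c.2, subOf_arrow_ker, hJ]

end Groth.Agent.Lib.ClosedDescent_helper7
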