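import Mathlib

/-!
# Etale over reduced is reduced (helper7)

Pure Mathlib: an etale algebra over a reduced ring is reduced (by Noetherian approximation and
Mathlib's result in the Noetherian case), and a scheme etale over a reduced scheme is reduced.
-/

set_option autoImplicit false
universe u
open CategoryTheory CategoryTheory.Limits AlgebraicGeometry Opposite TensorProduct

namespace Groth.Agent.Lib.EtaleReduced_helper7

/-- A scheme etale over the spectrum of a field is reduced. -/
theorem isReduced_of_etale_field' {V : Scheme.{u}} {K : Type u} [Field K]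
    (ρ : V ⟶ Spec (CommRingCat.of K)) [Etale ρ] : IsReduced V := by
  haveI : ∀ i, IsReduced (V.affineCover.X i) := fun i => by
    have hg : Etale ((V.affineCover.X i).isoSpec.inv ≫ V.affineCover.f i ≫ ρ) := inferInstance
    obtain ⟨φ, hφ⟩ := Spec.map_surjective ((V.affineCover.X i).isoSpec.inv ≫ V.affineCover.f i ≫ ρ)
    rw [← hφ, HasRingHomProperty.Spec_iff (P := @Etale)] at hg
    algebraize [φ.hom]
    haveI : _root_.IsReduced Γ(V.affineCover.X i, ⊤) :=
      Algebra.FormallyUnramified.isReduced_of_field K Γ(V.affineCover.X i, ⊤)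
    exact isReduced_of_isAffine_isReduced _
  exact IsReduced.of_openCover V V.affineCover

/-- Etale morphisms are geometrically reduced. -/
theorem geometricallyReduced_of_etale {X Y : Scheme.{u}} (f : X ⟶ Y) [Etale f] :
    GeometricallyReduced f := by
  refine ⟨fun K _ y Z fst snd hsq => ?_⟩
  haveI : Etale snd := MorphismProperty.of_isPullback (P := @Etale) hsq inferInstance
  exact isReduced_of_etale_field' snd

/-- An etale algebra over a reduced Noetherian ring is reduced. -/
theorem isReduced_of_etale_of_isNoetherianRing (A B : Type u) [CommRing A] [CommRing B]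
    [Algebra A B] [Algebra.Etale A B] [_root_.IsReduced A] [IsNoetherianRing A] :
    _root_.IsReduced B := by
  have h : Etale (Spec.map (CommRingCat.ofHom (algebraMap A B))) := by
    rw [HasRingHomProperty.Spec_iff (P := @Etale)]
    exact RingHom.etale_algebraMap.2 inferInstance
  haveI := geometricallyReduced_of_etale (Spec.map (CommRingCat.ofHom (algebraMap A B)))
  haveI : IsReduced (Spec (CommRingCat.of A)) := (affine_isReduced_iff _).2 inferInstance
  haveI : IsLocallyNoetherian (Spec (CommRingCat.of A)) := inferInstance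
  have := GeometricallyReduced.isReduced_of_flat_of_isLocallyNoetherian
    (Spec.map (CommRingCat.ofHom (algebraMap A B)))
  exact (affine_isReduced_iff (CommRingCat.of B)).1 this

/-- An etale algebra over a reduced ring is reduced. -/
theorem isReduced_of_etale (A B : Type u) [CommRing A] [CommRing B]
    [Algebra A B] [Algebra.Etale A B] [_root_.IsReduced A] : _root_.IsReduced B := by
  obtain ⟨A₀, B₀, _, _, hfg, hB₀, ⟨e⟩⟩ := Algebra.Etale.exists_subalgebra_fg ℤ A B
  suffices h : _root_.IsReduced (A ⊗[A₀] B₀) from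
    isReduced_of_injective e.toRingHom e.injective
  haveI : Algebra.FiniteType ℤ A₀ := (Subalgebra.fg_iff_finiteType A₀).1 hfg
  haveI : IsNoetherianRing A₀ := Algebra.FiniteType.isNoetherianRing ℤ A₀
  refine ⟨fun x hx => ?_⟩
  obtain ⟨T, rfl⟩ := TensorProduct.exists_finset x
  classical
  let A₁ : Subalgebra A₀ A := Algebra.adjoin A₀ ((T.image Prod.fst : Finset A) : Set A)
  haveI : Algebra.FiniteType A₀ A₁ :=
    (Subalgebra.fg_iff_finiteType A₁).1 (Subalgebra.fg_adjoin_finset _)
  haveI : IsNoetherianRing A₁ := Algebra.FiniteType.isNoetherianRing A₀ A₁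
  haveI : _root_.IsReduced A₁ := isReduced_of_injective A₁.val Subtype.val_injective
  haveI : _root_.IsReduced (A₁ ⊗[A₀] B₀) :=
    isReduced_of_etale_of_isNoetherianRing A₁ (A₁ ⊗[A₀] B₀)
  have hmem : ∀ i ∈ T, i.1 ∈ A₁ := fun i hi =>
    Algebra.subset_adjoin (Finset.mem_coe.2 (Finset.mem_image_of_mem Prod.fst hi))
  let φ : A₁ ⊗[A₀] B₀ →ₐ[A₀] A ⊗[A₀] B₀ := Algebra.TensorProduct.map A₁.val (AlgHom.id A₀ B₀)
  have hφinj : Function.Injective φ := by
    have : (φ : A₁ ⊗[A₀] B₀ → A ⊗[A₀] B₀) = LinearMap.rTensor B₀ A₁.val.toLinearMap := by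
      ext y
      induction y using TensorProduct.induction_on with
      | zero => simp
      | tmul a b =>
        change Algebra.TensorProduct.map A₁.val (AlgHom.id A₀ B₀) (a ⊗ₜ[A₀] b) = _
        rw [Algebra.TensorProduct.map_tmul]
        rfl
      | add a b ha hb => simp [map_add, ha, hb]
    rw [this]
    exact Module.Flat.rTensor_preserves_injective_linearMap _ Subtype.val_injective
  let y : A₁ ⊗[A₀] B₀ := ∑ i ∈ T.attach, (⟨i.1.1, hmem i.1 i.2⟩ : A₁) ⊗ₜ[A₀] i.1.2
  have hy : φ y = ∑ i ∈ T, i.1 ⊗ₜ[A₀] i.2 := by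
    simp only [y, map_sum, φ, Algebra.TensorProduct.map_tmul, Subalgebra.coe_val, AlgHom.coe_id,
      id_eq]
    exact Finset.sum_attach T (fun i => i.1 ⊗ₜ[A₀] i.2)
  obtain ⟨n, hn⟩ := hx
  have hyn : y ^ n = 0 := by
    apply hφinj
    rw [map_pow, hy, hn, map_zero]
  have hy0 : y = 0 := (IsNilpotent.eq_zero ⟨n, hyn⟩)
  rw [← hy, hy0, map_zero]

/-- A scheme etale over a reduced scheme is reduced. -/
theorem isReduced_of_etale_scheme {X Y : Scheme.{u}} (f : X ⟶ Y) [Etale f] [IsReduced Y] :
    IsReduced X := by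
  haveI : ∀ x : X, _root_.IsReduced (X.presheaf.stalk x) := by
    intro x
    obtain ⟨_, ⟨U, hU, rfl⟩, hxU, -⟩ :=
      Y.isBasis_affineOpens.exists_subset_of_mem_open (Set.mem_univ (f x)) isOpen_univ
    obtain ⟨_, ⟨V, hV, rfl⟩, hxV, hVU⟩ :=
      X.isBasis_affineOpens.exists_subset_of_mem_open (show x ∈ f ⁻¹ᵁ U from hxU)
        (f ⁻¹ᵁ U).isOpen
    have hE : (f.appLE U V hVU).hom.Etale :=
      HasRingHomProperty.appLE (P := @Etale) f inferInstance ⟨U, hU⟩ ⟨V, hV⟩ hVU
    algebraize [(f.appLE U V hVU).hom]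
    haveI : _root_.IsReduced Γ(X, V) := isReduced_of_etale Γ(Y, U) Γ(X, V)
    letI : Algebra Γ(X, V) (X.presheaf.stalk x) := (X.presheaf.germ V x hxV).hom.toAlgebra
    haveI := hV.isLocalization_stalk ⟨x, hxV⟩
    exact isReduced_localizationPreserves (hV.primeIdealOf ⟨x, hxV⟩).asIdeal.primeCompl _
      inferInstance
  exact isReduced_of_isReduced_stalk X

end Groth.Agent.Lib.EtaleReduced_helper7

namespace Groth.Agent.Lib.EtaleReduced_helper7

/-- A scheme smooth over a reduced scheme is reduced. -/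
theorem isReduced_of_smooth_scheme {X Y : Scheme.{u}} (f : X ⟶ Y) [Smooth f] [IsReduced Y] :
    IsReduced X := by
  haveI : ∀ x : X, _root_.IsReduced (X.presheaf.stalk x) := by
    intro x
    obtain ⟨U, hU, V, hV, hxV, e, hf⟩ := (Smooth.iff_forall_exists_isStandardSmooth f).1 ‹_› x
    obtain ⟨n, g, hg, hge⟩ := RingHom.IsStandardSmooth.exists_etale_mvPolynomial hf
    algebraize [g]
    haveI : _root_.IsReduced Γ(X, V) := isReduced_of_etale (MvPolynomial (Fin n) Γ(Y, U)) Γ(X, V)
    letI : Algebra Γ(X, V) (X.presheaf.stalk x) := (X.presheaf.germ V x hxV).hom.toAlgebra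
    haveI := hV.isLocalization_stalk ⟨x, hxV⟩
    exact isReduced_localizationPreserves (hV.primeIdealOf ⟨x, hxV⟩).asIdeal.primeCompl _
      inferInstance
  exact isReduced_of_isReduced_stalk X

end Groth.Agent.Lib.EtaleReduced_helper7
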