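import Mathlib
import Groth.Prelude.Def_ActBC

/-!
# Equivariant morphisms of fpqc torsors are isomorphisms (helper7)

* `isIso_orbitMap`: for a pseudo-torsor with a section, the orbit map is an isomorphism.
* `isIso_of_fpqc`: a morphism of `S`-schemes which becomes an isomorphism after base change to the
  members of an fpqc covering family is an isomorphism.
-/

set_option autoImplicit false
universe u
open CategoryTheory CategoryTheory.Limits AlgebraicGeometry MonoidalCategory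
  CartesianMonoidalCategory MonObj GrpObj

namespace Groth.Agent.Lib.TorsorIso_helper7

section Orbit

variable {S : Scheme.{u}} {G X X' : Over S} [GrpObj G]

theorem isIso_orbitMap (a : AlgGrp.Action G X) (ha : NonAbH1.IsPseudoTorsorSch a)
    (x : 𝟙_ (Over S) ⟶ X) : IsIso (a.orbitMap x) := by
  obtain ⟨σ, hσ⟩ : ∃ σ : G ⊗ X ⟶ X ⊗ X, σ = lift a.act (snd G X) := ⟨_, rfl⟩
  haveI : IsIso σ := by rw [hσ]; exact ha
  obtain ⟨j, hj⟩ : ∃ j : G ⟶ G ⊗ X, j = lift (𝟙 G) (toUnit G ≫ x) := ⟨_, rfl⟩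
  obtain ⟨k, hk⟩ : ∃ k : X ⟶ X ⊗ X, k = lift (𝟙 X) (toUnit X ≫ x) := ⟨_, rfl⟩
  obtain ⟨m, hm⟩ : ∃ m : X ⟶ G ⊗ X, m = k ≫ inv σ := ⟨_, rfl⟩
  have hmσ : m ≫ σ = k := by rw [hm, Category.assoc, IsIso.inv_hom_id, Category.comp_id]
  have hm1 : m ≫ a.act = 𝟙 X := by
    have h := congrArg (fun t => t ≫ fst X X) hmσ
    simp only [hσ, hk, Category.assoc, lift_fst] at h
    exact h
  have hm2 : m ≫ snd G X = toUnit X ≫ x := by
    have h := congrArg (fun t => t ≫ snd X X) hmσ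
    simp only [hσ, hk, Category.assoc, lift_snd] at h
    exact h
  have horb : a.orbitMap x = j ≫ a.act := by rw [hj]; rfl
  have hjσ : j ≫ σ = a.orbitMap x ≫ k := by
    apply CartesianMonoidalCategory.hom_ext
    · simp only [hσ, hk, Category.assoc, lift_fst, Category.comp_id, horb]
    · simp only [hσ, hk, hj, Category.assoc, lift_snd, comp_toUnit_assoc]
  refine ⟨⟨m ≫ fst G X, ?_, ?_⟩⟩
  · calc a.orbitMap x ≫ m ≫ fst G X = (a.orbitMap x ≫ k) ≫ inv σ ≫ fst G X := by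
          rw [hm]; simp only [Category.assoc]
      _ = j ≫ fst G X := by rw [← hjσ]; simp only [Category.assoc, IsIso.hom_inv_id_assoc]
      _ = 𝟙 G := by rw [hj, lift_fst]
  · calc (m ≫ fst G X) ≫ a.orbitMap x = lift (m ≫ fst G X) (m ≫ snd G X) ≫ a.act := by
          rw [horb, hj, hm2]
          simp only [Category.assoc, comp_lift_assoc, comp_lift, Category.comp_id,
            comp_toUnit_assoc]
      _ = m ≫ a.act := by rw [← comp_lift, lift_fst_snd, Category.comp_id]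
      _ = 𝟙 X := hm1

theorem isIso_of_section (a : AlgGrp.Action G X) (a' : AlgGrp.Action G X')
    (ha : NonAbH1.IsPseudoTorsorSch a) (ha' : NonAbH1.IsPseudoTorsorSch a')
    (φ : X ⟶ X') (hφ : AlgGrp.Action.IsEquivariant a a' φ) (x : 𝟙_ (Over S) ⟶ X) : IsIso φ := by
  haveI := isIso_orbitMap a ha x
  haveI := isIso_orbitMap a' ha' (x ≫ φ)
  have hφ' : a.act ≫ φ = (G ◁ φ) ≫ a'.act := hφ
  have h : a.orbitMap x ≫ φ = a'.orbitMap (x ≫ φ) := by
    unfold AlgGrp.Action.orbitMap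
    rw [Category.assoc, hφ', ← Category.assoc, lift_whiskerLeft, Category.assoc]
  have h2 : φ = inv (a.orbitMap x) ≫ a'.orbitMap (x ≫ φ) := by
    rw [← h, IsIso.inv_hom_id_assoc]
  rw [h2]
  infer_instance

end Orbit

section Descent

/-- isomorphisms descend along finite affine flat jointly surjective covers of an affine scheme -/
theorem isIso_of_flat_cover {Z : Scheme.{u}} [IsAffine Z] {m : ℕ} (W : Fin m → Scheme.{u})
    (c : ∀ j, W j ⟶ Z) (hW : ∀ j, IsAffine (W j)) (hc : ∀ j, Flat (c j))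
    (hs : ∀ z : Z, ∃ j, z ∈ Set.range (c j)) {V : Scheme.{u}} (f : V ⟶ Z)
    (h : ∀ j, IsIso (pullback.snd f (c j))) : IsIso f := by
  have := hW
  have := hc
  let Q : MorphismProperty Scheme.{u} := MorphismProperty.isomorphisms Scheme.{u}
  let σ : ∐ W ⟶ Z := Sigma.desc c
  have hσs : Surjective σ := by
    refine ⟨fun z => ?_⟩
    obtain ⟨j, w, rfl⟩ := hs z
    refine ⟨Sigma.ι W j w, ?_⟩
    rw [← Scheme.Hom.comp_apply, Sigma.ι_desc]
  have hqc : QuasiCompact σ := inferInstance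
  have hfl : Flat σ := inferInstance
  change Q f
  refine MorphismProperty.of_pullback_snd_of_descendsAlong (P := Q)
    (Q := @Surjective ⊓ @Flat ⊓ @QuasiCompact) (f := f) (g := σ) ⟨⟨hσs, hfl⟩, hqc⟩ ?_
  rw [IsZariskiLocalAtTarget.iff_of_openCover (P := Q) (AlgebraicGeometry.sigmaOpenCover W)]
  intro j
  change Q (pullback.snd (pullback.snd f σ) (Sigma.ι W j))
  have sq1 := (IsPullback.of_hasPullback (pullback.snd f σ) (Sigma.ι W j)).paste_horiz
    (IsPullback.of_hasPullback f σ)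
  have e : Sigma.ι W j ≫ σ = c j := Sigma.ι_desc _ _
  rw [e] at sq1
  have sq2 := IsPullback.of_hasPullback f (c j)
  have he : (sq1.isoIsPullback _ _ sq2).hom ≫ pullback.snd f (c j) =
      pullback.snd (pullback.snd f σ) (Sigma.ι W j) := sq1.isoIsPullback_hom_snd _ _ sq2
  rw [← he, MorphismProperty.cancel_left_of_respectsIso (P := Q)]
  exact h j

theorem isIso_snd_of_factor {A B B' W BT : Scheme.{u}} (h0 : A ⟶ B) (ι' : B' ⟶ B) (c : W ⟶ B')
    (q : BT ⟶ B) (r : W ⟶ BT) (hr : r ≫ q = c ≫ ι') (hq : IsIso (pullback.snd h0 q)) :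
    IsIso (pullback.snd (pullback.snd h0 ι') c) := by
  have outer : IsPullback (pullback.fst (pullback.snd h0 ι') c ≫ pullback.fst h0 ι')
      (pullback.snd (pullback.snd h0 ι') c) h0 (c ≫ ι') :=
    (IsPullback.of_hasPullback (pullback.snd h0 ι') c).paste_horiz (IsPullback.of_hasPullback h0 ι')
  rw [← hr] at outer
  have hcomm : (pullback.fst (pullback.snd h0 ι') c ≫ pullback.fst h0 ι') ≫ h0 =
      (pullback.snd (pullback.snd h0 ι') c ≫ r) ≫ q := by
    simpa only [Category.assoc] using outer.w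
  let l : pullback (pullback.snd h0 ι') c ⟶ pullback h0 q :=
    pullback.lift (pullback.fst (pullback.snd h0 ι') c ≫ pullback.fst h0 ι')
      (pullback.snd (pullback.snd h0 ι') c ≫ r) hcomm
  have hl1 : l ≫ pullback.fst h0 q =
      pullback.fst (pullback.snd h0 ι') c ≫ pullback.fst h0 ι' := pullback.lift_fst _ _ _
  have hl2 : l ≫ pullback.snd h0 q = pullback.snd (pullback.snd h0 ι') c ≫ r :=
    pullback.lift_snd _ _ _
  rw [← hl1] at outer
  have left := IsPullback.of_right outer hl2 (IsPullback.of_hasPullback h0 q)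
  exact (MorphismProperty.isomorphisms Scheme.{u}).of_isPullback left hq

theorem local_case {A B S : Scheme.{u}} (h0 : A ⟶ B) (p : B ⟶ S)
    (𝒰 : Scheme.Cover.{u + 1} (Scheme.precoverage @Flat) S)
    [QuasiCompactCover 𝒰.toPreZeroHypercover]
    (h : ∀ k, IsIso (pullback.snd h0 (pullback.fst p (𝒰.f k))))
    (U : S.Opens) (B' : B.Opens) (hU : IsAffineOpen U) (hB' : IsAffineOpen B')
    (hle : B' ≤ p ⁻¹ᵁ U) : IsIso (pullback.snd h0 B'.ι) := by
  haveI : IsAffine U.toScheme := hU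
  haveI : IsAffine B'.toScheme := hB'
  have hp' : p.resLE U B' hle ≫ U.ι = B'.ι ≫ p := Scheme.Hom.resLE_comp_ι _ _
  haveI : QuasiCompactCover (𝒰.pullback₁ U.ι).toPreZeroHypercover :=
    (inferInstance : QuasiCompactCover (𝒰.toPreZeroHypercover.pullback₁ U.ι))
  obtain ⟨𝒱, F, hfin, -⟩ := QuasiCompactCover.exists_hom (𝒰.pullback₁ U.ι)
  haveI := hfin
  obtain ⟨n, ⟨e⟩⟩ := Finite.exists_equiv_fin 𝒱.I₀
  refine isIso_of_flat_cover (fun k : Fin n => pullback (p.resLE U B' hle) (𝒱.f (e.symm k)))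
    (fun k => pullback.fst (p.resLE U B' hle) (𝒱.f (e.symm k))) (fun k => inferInstance)
    (fun k => MorphismProperty.pullback_fst (P := @Flat) _ _ (𝒱.map_prop _)) ?_ _ ?_
  · intro z
    obtain ⟨l, w, hw⟩ : ∃ l, ∃ w, 𝒱.f l w = p.resLE U B' hle z := ⟨𝒱.idx _, 𝒱.covers _⟩
    obtain ⟨k, rfl⟩ : ∃ k, e.symm k = l := ⟨e l, e.symm_apply_apply l⟩
    obtain ⟨t, ht, -⟩ := Scheme.Pullback.exists_preimage_pullback z w hw.symm
    exact ⟨k, t, ht⟩
  · intro k
    have hw := F.w₀ (e.symm k)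
    have hcond := pullback.condition (f := U.ι) (g := 𝒰.f (F.s₀ (e.symm k)))
    have hcomm : (pullback.fst (p.resLE U B' hle) (𝒱.f (e.symm k)) ≫ B'.ι) ≫ p =
        (pullback.snd (p.resLE U B' hle) (𝒱.f (e.symm k)) ≫ F.h₀ (e.symm k) ≫
          pullback.snd U.ι (𝒰.f (F.s₀ (e.symm k)))) ≫ 𝒰.f (F.s₀ (e.symm k)) := by
      have h1 : F.h₀ (e.symm k) ≫ pullback.fst U.ι (𝒰.f (F.s₀ (e.symm k))) = 𝒱.f (e.symm k) := hw
      have hkey : 𝒱.f (e.symm k) ≫ U.ι = F.h₀ (e.symm k) ≫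
          pullback.snd U.ι (𝒰.f (F.s₀ (e.symm k))) ≫ 𝒰.f (F.s₀ (e.symm k)) :=
        (congrArg (fun t => t ≫ U.ι) h1).symm.trans
          ((Category.assoc _ _ _).trans (congrArg (fun t => F.h₀ (e.symm k) ≫ t) hcond))
      rw [Category.assoc, ← hp', ← Category.assoc, pullback.condition]
      simp only [Category.assoc]
      exact congrArg (fun t => pullback.snd (p.resLE U B' hle) (𝒱.f (e.symm k)) ≫ t) hkey
    exact isIso_snd_of_factor h0 B'.ι _ (pullback.fst p (𝒰.f (F.s₀ (e.symm k))))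
      (pullback.lift _ _ hcomm) (pullback.lift_fst _ _ _) (h _)

theorem isIso_of_fpqc_aux {A B S : Scheme.{u}} (h0 : A ⟶ B) (p : B ⟶ S) {R : Presieve S}
    (hR : R ∈ Scheme.fpqcPrecoverage S)
    (h : ∀ ⦃T : Scheme.{u}⦄ (f : T ⟶ S), R f → IsIso (pullback.snd h0 (pullback.fst p f))) :
    IsIso h0 := by
  obtain ⟨𝒰, hqc, rfl⟩ := Scheme.mem_propQCPrecoverage_iff_exists_quasiCompactCover.1
    (show R ∈ Scheme.propQCPrecoverage @Flat S from hR)
  have key : ∀ b : B, ∃ (U : S.Opens) (B' : B.Opens), IsAffineOpen U ∧ IsAffineOpen B' ∧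
      b ∈ B' ∧ B' ≤ p ⁻¹ᵁ U := by
    intro b
    obtain ⟨U, hU, hbU, -⟩ := exists_isAffineOpen_mem_and_subset (x := p b) (U := ⊤) trivial
    obtain ⟨B', hB', hbB', hle⟩ :=
      exists_isAffineOpen_mem_and_subset (x := b) (U := p ⁻¹ᵁ U) hbU
    exact ⟨U, B', hU, hB', hbB', hle⟩
  choose U B' hU hB' hb hle using key
  have hcov : TopologicalSpace.IsOpenCover B' := by
    apply TopologicalSpace.IsOpenCover.mk
    rw [eq_top_iff]
    intro b _
    exact TopologicalSpace.Opens.mem_iSup.2 ⟨b, hb b⟩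
  change (MorphismProperty.isomorphisms Scheme.{u}) h0
  rw [IsZariskiLocalAtTarget.iff_of_openCover (P := MorphismProperty.isomorphisms Scheme.{u})
    (B.openCoverOfIsOpenCover B' hcov)]
  intro b
  change IsIso (pullback.snd h0 (B' b).ι)
  exact local_case h0 p 𝒰 (fun k => h (𝒰.f k) ⟨k⟩) (U b) (B' b) (hU b) (hB' b) (hle b)

theorem isIso_snd_of_isIso_pullback_map {S T : Scheme.{u}} (f : T ⟶ S) {X X' : Over S}
    (φ : X ⟶ X') (hφ : IsIso ((Over.pullback f).map φ)) :
    IsIso (pullback.snd φ.left (pullback.fst X'.hom f)) := by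
  obtain ⟨ψ, hψ⟩ : ∃ ψ : pullback X.hom f ⟶ pullback X'.hom f,
      ψ = ((Over.pullback f).map φ).left := ⟨_, rfl⟩
  haveI : IsIso ψ := by
    rw [hψ]
    exact (inferInstance : IsIso ((Over.forget T).map ((Over.pullback f).map φ)))
  have hψ1 : ψ ≫ pullback.fst X'.hom f = pullback.fst X.hom f ≫ φ.left := by
    rw [hψ]; exact pullback.lift_fst _ _ _
  have hψ2 : ψ ≫ pullback.snd X'.hom f = pullback.snd X.hom f := by
    rw [hψ]; exact pullback.lift_snd _ _ _
  have outer : IsPullback (pullback.fst X.hom f) (ψ ≫ pullback.snd X'.hom f)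
      (φ.left ≫ X'.hom) f := by
    rw [hψ2, Over.w φ]; exact IsPullback.of_hasPullback X.hom f
  have top := IsPullback.of_bot outer hψ1.symm (IsPullback.of_hasPullback X'.hom f)
  have e := top.isoPullback_hom_snd
  have h2 : pullback.snd φ.left (pullback.fst X'.hom f) = top.isoPullback.inv ≫ ψ := by
    rw [Iso.eq_inv_comp]; exact e
  rw [h2]
  infer_instance

theorem isIso_of_fpqc {S : Scheme.{u}} {X X' : Over S} (φ : X ⟶ X') {R : Presieve S}
    (hR : R ∈ Scheme.fpqcPrecoverage S)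
    (h : ∀ ⦃T : Scheme.{u}⦄ (f : T ⟶ S), R f → IsIso ((Over.pullback f).map φ)) : IsIso φ := by
  haveI : IsIso ((Over.forget S).map φ) :=
    isIso_of_fpqc_aux φ.left X'.hom hR
      (fun T f hf => isIso_snd_of_isIso_pullback_map f φ (h f hf))
  exact isIso_of_reflects_iso φ (Over.forget S)

end Descent

section Main

variable {S : Scheme.{u}} {G X X' : Over S} [GrpObj G]

theorem main (a : AlgGrp.Action G X) (a' : AlgGrp.Action G X')
    (ha : NonAbH1.IsTorsorFor Scheme.fpqcPrecoverage a)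
    (ha' : NonAbH1.IsTorsorFor Scheme.fpqcPrecoverage a')
    (f : X ⟶ X') (hf : AlgGrp.Action.IsEquivariant a a' f) : IsIso f := by
  obtain ⟨R, hR, hsec⟩ := ha.2
  apply isIso_of_fpqc f hR
  intro T g hg
  obtain ⟨s, hs⟩ := hsec g hg
  let x : 𝟙_ (Over T) ⟶ Red.bc g X :=
    Over.homMk (pullback.lift s (𝟙 T) (by rw [hs]; exact (Category.id_comp g).symm))
      (pullback.lift_snd _ _ _)
  exact isIso_of_section (a.bc g) (a'.bc g) (NonAbH1.isPseudoTorsorSch_bc g ha.1)
    (NonAbH1.isPseudoTorsorSch_bc g ha'.1) _ (AlgGrp.Action.isEquivariant_bc g hf) x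

end Main

end Groth.Agent.Lib.TorsorIso_helper7
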