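import Mathlib
import Groth.Prelude.Def_ActBC
import Groth.Agent.Lib.TorsorIso_helper7

/-!
# Properties of fpqc torsors inherited from the group (helper7)
-/

set_option autoImplicit false
universe u
open CategoryTheory CategoryTheory.Limits AlgebraicGeometry MonoidalCategory
  CartesianMonoidalCategory MonObj GrpObj

namespace Groth.Agent.Lib.TorsorProp_helper7

open Groth.Agent.Lib.TorsorIso_helper7

/-! ### More descent instances -/

theorem quasiCompact_descends :
    MorphismProperty.DescendsAlong (@QuasiCompact)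
      (@Surjective ⊓ @Flat ⊓ @QuasiCompact : MorphismProperty Scheme.{u}) where
  of_isPullback {A X Y Z fst snd f g} h hf hfst := by
    haveI : Surjective f := hf.1.1
    haveI : QuasiCompact f := hf.2
    haveI : QuasiCompact fst := hfst
    haveI : Surjective snd := MorphismProperty.of_isPullback (P := @Surjective) h hf.1.1
    haveI : QuasiCompact (snd ≫ g) := by rw [← h.w]; infer_instance
    refine ⟨fun U hU hUc => ?_⟩
    have hc : IsCompact ((snd ≫ g) ⁻¹' U) := QuasiCompact.isCompact_preimage U hU hUc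
    have e : g ⁻¹' U = snd '' ((snd ≫ g) ⁻¹' U) := by
      ext y
      constructor
      · intro hy
        obtain ⟨a, rfl⟩ := (inferInstance : Surjective snd).surj y
        exact ⟨a, by simpa [Scheme.Hom.comp_apply] using hy, rfl⟩
      · rintro ⟨a, ha, rfl⟩
        simpa [Scheme.Hom.comp_apply] using ha
    rw [e]
    exact hc.image snd.continuous

theorem isClosedImmersion_descends :
    MorphismProperty.DescendsAlong (@IsClosedImmersion)
      (@Surjective ⊓ @Flat ⊓ @QuasiCompact : MorphismProperty Scheme.{u}) where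
  of_isPullback {A X Y Z fst snd f g} h hf hfst := by
    haveI : IsClosedImmersion fst := hfst
    have hm : Mono g := by
      have : (MorphismProperty.monomorphisms Scheme.{u}).DescendsAlong
          (@Surjective ⊓ @Flat ⊓ @QuasiCompact) := by
        rw [← MorphismProperty.diagonal_isomorphisms]
        infer_instance
      exact MorphismProperty.of_isPullback_of_descendsAlong
        (P := MorphismProperty.monomorphisms Scheme.{u}) h hf (inferInstance : Mono fst)
    have huc : UniversallyClosed g :=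
      MorphismProperty.of_isPullback_of_descendsAlong (P := @UniversallyClosed) h hf inferInstance
    have hlft : LocallyOfFiniteType g :=
      MorphismProperty.of_isPullback_of_descendsAlong (P := @LocallyOfFiniteType) h hf
        inferInstance
    have : IsProper g := {}
    exact (IsClosedImmersion.iff_isProper_and_mono (f := g)).2 ⟨this, hm⟩

theorem isSeparated_descends :
    MorphismProperty.DescendsAlong (@IsSeparated)
      (@Surjective ⊓ @Flat ⊓ @QuasiCompact : MorphismProperty Scheme.{u}) := by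
  haveI := isClosedImmersion_descends.{u}
  rw [IsSeparated.isSeparated_eq_diagonal_isClosedImmersion]
  infer_instance

theorem isFinite_descends :
    MorphismProperty.DescendsAlong (@IsFinite)
      (@Surjective ⊓ @Flat ⊓ @QuasiCompact : MorphismProperty Scheme.{u}) where
  of_isPullback {A X Y Z fst snd f g} h hf hfst := by
    haveI : IsFinite fst := hfst
    haveI := isSeparated_descends.{u}
    have hsep : IsSeparated g :=
      MorphismProperty.of_isPullback_of_descendsAlong (P := @IsSeparated) h hf inferInstance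
    have huc : UniversallyClosed g :=
      MorphismProperty.of_isPullback_of_descendsAlong (P := @UniversallyClosed) h hf inferInstance
    have hlft : LocallyOfFiniteType g :=
      MorphismProperty.of_isPullback_of_descendsAlong (P := @LocallyOfFiniteType) h hf
        inferInstance
    haveI : IsProper g := {}
    have hfib : ∀ z, (g ⁻¹' {z}).Finite := by
      intro z
      obtain ⟨x, rfl⟩ := hf.1.1.surj z
      have hfin : (fst ⁻¹' {x}).Finite := fst.finite_preimage_singleton x
      refine (hfin.image snd).subset ?_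
      intro y hy
      obtain ⟨w, hw1, hw2⟩ :=
        Scheme.Pullback.exists_preimage_pullback x y (show f x = g y from hy.symm)
      refine ⟨h.isoPullback.inv w, ?_, ?_⟩
      · show fst (h.isoPullback.inv w) = x
        rw [← Scheme.Hom.comp_apply, h.isoPullback_inv_fst]
        exact hw1
      · rw [← Scheme.Hom.comp_apply, h.isoPullback_inv_snd]
        exact hw2
    haveI : LocallyQuasiFinite g := LocallyQuasiFinite.of_finite_preimage_singleton g hfib
    exact (IsFinite.iff_isProper_and_locallyQuasiFinite (f := g)).2 ⟨inferInstance, inferInstance⟩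

/-! ### Descent of a property along an fpqc covering family of a base -/

section Gen

variable (P : MorphismProperty Scheme.{u}) [IsZariskiLocalAtTarget P] [P.IsStableUnderBaseChange]
  [P.DescendsAlong (@Surjective ⊓ @Flat ⊓ @QuasiCompact)]

theorem P_of_flat_cover {Z : Scheme.{u}} [IsAffine Z] {m : ℕ} (W : Fin m → Scheme.{u})
    (c : ∀ j, W j ⟶ Z) (hW : ∀ j, IsAffine (W j)) (hc : ∀ j, Flat (c j))
    (hs : ∀ z : Z, ∃ j, z ∈ Set.range (c j)) {V : Scheme.{u}} (f : V ⟶ Z)
    (h : ∀ j, P (pullback.snd f (c j))) : P f := by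
  have := hW
  have := hc
  let σ : ∐ W ⟶ Z := Sigma.desc c
  have hσs : Surjective σ := by
    refine ⟨fun z => ?_⟩
    obtain ⟨j, w, rfl⟩ := hs z
    refine ⟨Sigma.ι W j w, ?_⟩
    rw [← Scheme.Hom.comp_apply, Sigma.ι_desc]
  have hqc : QuasiCompact σ := inferInstance
  have hfl : Flat σ := inferInstance
  refine MorphismProperty.of_pullback_snd_of_descendsAlong (P := P)
    (Q := @Surjective ⊓ @Flat ⊓ @QuasiCompact) (f := f) (g := σ) ⟨⟨hσs, hfl⟩, hqc⟩ ?_
  rw [IsZariskiLocalAtTarget.iff_of_openCover (P := P) (AlgebraicGeometry.sigmaOpenCover W)]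
  intro j
  change P (pullback.snd (pullback.snd f σ) (Sigma.ι W j))
  have sq1 := (IsPullback.of_hasPullback (pullback.snd f σ) (Sigma.ι W j)).paste_horiz
    (IsPullback.of_hasPullback f σ)
  have e : Sigma.ι W j ≫ σ = c j := Sigma.ι_desc _ _
  rw [e] at sq1
  have sq2 := IsPullback.of_hasPullback f (c j)
  have he : (sq1.isoIsPullback _ _ sq2).hom ≫ pullback.snd f (c j) =
      pullback.snd (pullback.snd f σ) (Sigma.ι W j) := sq1.isoIsPullback_hom_snd _ _ sq2
  rw [← he, MorphismProperty.cancel_left_of_respectsIso (P := P)]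
  exact h j

theorem P_snd_of_factor {A B B' W BT : Scheme.{u}} (h0 : A ⟶ B) (ι' : B' ⟶ B) (c : W ⟶ B')
    (q : BT ⟶ B) (r : W ⟶ BT) (hr : r ≫ q = c ≫ ι') (hq : P (pullback.snd h0 q)) :
    P (pullback.snd (pullback.snd h0 ι') c) := by
  have outer : IsPullback (pullback.fst (pullback.snd h0 ι') c ≫ pullback.fst h0 ι')
      (pullback.snd (pullback.snd h0 ι') c) h0 (c ≫ ι') :=
    (IsPullback.of_hasPullback (pullback.snd h0 ι') c).paste_horiz (IsPullback.of_hasPullback h0 ι')
  rw [← hr] at outer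
  have hcomm : (pullback.fst (pullback.snd h0 ι') c ≫ pullback.fst h0 ι') ≫ h0 =
      (pullback.snd (pullback.snd h0 ι') c ≫ r) ≫ q := by
    simpa only [Category.assoc] using outer.w
  let l : pullback (pullback.snd h0 ι') c ⟶ pullback h0 q :=
    pullback.lift (pullback.fst (pullback.snd h0 ι') c ≫ pullback.fst h0 ι')
      (pullback.snd (pullback.snd h0 ι') c ≫ r) hcomm
  have hl1 : l ≫ pullback.fst h0 q =
      pullback.fst (pullback.snd h0 ι') c ≫ pullback.fst h0 ι' := pullback.lift_fst _ _ _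
  have hl2 : l ≫ pullback.snd h0 q = pullback.snd (pullback.snd h0 ι') c ≫ r :=
    pullback.lift_snd _ _ _
  rw [← hl1] at outer
  have left := IsPullback.of_right outer hl2 (IsPullback.of_hasPullback h0 q)
  exact P.of_isPullback left hq

theorem P_snd_precomp {A B T T' : Scheme.{u}} (h0 : A ⟶ B) (q : T ⟶ B) (r : T' ⟶ T)
    (q' : T' ⟶ B) (hr : r ≫ q = q') (hq : P (pullback.snd h0 q)) : P (pullback.snd h0 q') := by
  subst hr
  have hcomm : pullback.fst h0 (r ≫ q) ≫ h0 = (pullback.snd h0 (r ≫ q) ≫ r) ≫ q := by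
    rw [Category.assoc]; exact pullback.condition
  let l : pullback h0 (r ≫ q) ⟶ pullback h0 q := pullback.lift _ _ hcomm
  have hl1 : l ≫ pullback.fst h0 q = pullback.fst h0 (r ≫ q) := pullback.lift_fst _ _ _
  have hl2 : l ≫ pullback.snd h0 q = pullback.snd h0 (r ≫ q) ≫ r := pullback.lift_snd _ _ _
  have outer : IsPullback (pullback.fst h0 (r ≫ q)) (pullback.snd h0 (r ≫ q)) h0 (r ≫ q) :=
    IsPullback.of_hasPullback _ _
  rw [← hl1] at outer
  have left := IsPullback.of_right outer hl2 (IsPullback.of_hasPullback h0 q)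
  exact P.of_isPullback left hq

theorem P_local_case {A B S : Scheme.{u}} (h0 : A ⟶ B) (p : B ⟶ S)
    (𝒰 : Scheme.Cover.{u + 1} (Scheme.precoverage @Flat) S)
    [QuasiCompactCover 𝒰.toPreZeroHypercover]
    (h : ∀ k, P (pullback.snd h0 (pullback.fst p (𝒰.f k))))
    (U : S.Opens) (B' : B.Opens) (hU : IsAffineOpen U) (hB' : IsAffineOpen B')
    (hle : B' ≤ p ⁻¹ᵁ U) : P (pullback.snd h0 B'.ι) := by
  haveI : IsAffine U.toScheme := hU
  haveI : IsAffine B'.toScheme := hB'
  have hp' : p.resLE U B' hle ≫ U.ι = B'.ι ≫ p := Scheme.Hom.resLE_comp_ι _ _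
  haveI : QuasiCompactCover (𝒰.pullback₁ U.ι).toPreZeroHypercover :=
    (inferInstance : QuasiCompactCover (𝒰.toPreZeroHypercover.pullback₁ U.ι))
  obtain ⟨𝒱, F, hfin, -⟩ := QuasiCompactCover.exists_hom (𝒰.pullback₁ U.ι)
  haveI := hfin
  obtain ⟨n, ⟨e⟩⟩ := Finite.exists_equiv_fin 𝒱.I₀
  refine P_of_flat_cover P (fun k : Fin n => pullback (p.resLE U B' hle) (𝒱.f (e.symm k)))
    (fun k => pullback.fst (p.resLE U B' hle) (𝒱.f (e.symm k))) (fun k => inferInstance)
    (fun k => MorphismProperty.pullback_fst (P := @Flat) _ _ (𝒱.map_prop _)) ?_ _ ?_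
  · intro z
    obtain ⟨l, w, hw⟩ : ∃ l, ∃ w, 𝒱.f l w = p.resLE U B' hle z := ⟨𝒱.idx _, 𝒱.covers _⟩
    obtain ⟨k, rfl⟩ : ∃ k, e.symm k = l := ⟨e l, e.symm_apply_apply l⟩
    obtain ⟨t, ht, -⟩ := Scheme.Pullback.exists_preimage_pullback z w hw.symm
    exact ⟨k, t, ht⟩
  · intro k
    have hw := F.w₀ (e.symm k)
    have hcond := pullback.condition (f := U.ι) (g := 𝒰.f (F.s₀ (e.symm k)))
    have hcomm : (pullback.fst (p.resLE U B' hle) (𝒱.f (e.symm k)) ≫ B'.ι) ≫ p =
        (pullback.snd (p.resLE U B' hle) (𝒱.f (e.symm k)) ≫ F.h₀ (e.symm k) ≫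
          pullback.snd U.ι (𝒰.f (F.s₀ (e.symm k)))) ≫ 𝒰.f (F.s₀ (e.symm k)) := by
      have h1 : F.h₀ (e.symm k) ≫ pullback.fst U.ι (𝒰.f (F.s₀ (e.symm k))) = 𝒱.f (e.symm k) := hw
      have hkey : 𝒱.f (e.symm k) ≫ U.ι = F.h₀ (e.symm k) ≫
          pullback.snd U.ι (𝒰.f (F.s₀ (e.symm k))) ≫ 𝒰.f (F.s₀ (e.symm k)) :=
        (congrArg (fun t => t ≫ U.ι) h1).symm.trans
          ((Category.assoc _ _ _).trans (congrArg (fun t => F.h₀ (e.symm k) ≫ t) hcond))
      rw [Category.assoc, ← hp', ← Category.assoc, pullback.condition]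
      simp only [Category.assoc]
      exact congrArg (fun t => pullback.snd (p.resLE U B' hle) (𝒱.f (e.symm k)) ≫ t) hkey
    exact P_snd_of_factor P h0 B'.ι _ (pullback.fst p (𝒰.f (F.s₀ (e.symm k))))
      (pullback.lift _ _ hcomm) (pullback.lift_fst _ _ _) (h _)

theorem P_of_fpqc_aux {A B S : Scheme.{u}} (h0 : A ⟶ B) (p : B ⟶ S) {R : Presieve S}
    (hR : R ∈ Scheme.fpqcPrecoverage S)
    (h : ∀ ⦃T : Scheme.{u}⦄ (f : T ⟶ S), R f → P (pullback.snd h0 (pullback.fst p f))) :
    P h0 := by
  obtain ⟨𝒰, hqc, rfl⟩ := Scheme.mem_propQCPrecoverage_iff_exists_quasiCompactCover.1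
    (show R ∈ Scheme.propQCPrecoverage @Flat S from hR)
  have key : ∀ b : B, ∃ (U : S.Opens) (B' : B.Opens), IsAffineOpen U ∧ IsAffineOpen B' ∧
      b ∈ B' ∧ B' ≤ p ⁻¹ᵁ U := by
    intro b
    obtain ⟨U, hU, hbU, -⟩ := exists_isAffineOpen_mem_and_subset (x := p b) (U := ⊤) trivial
    obtain ⟨B', hB', hbB', hle⟩ :=
      exists_isAffineOpen_mem_and_subset (x := b) (U := p ⁻¹ᵁ U) hbU
    exact ⟨U, B', hU, hB', hbB', hle⟩
  choose U B' hU hB' hb hle using key
  have hcov : TopologicalSpace.IsOpenCover B' := by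
    apply TopologicalSpace.IsOpenCover.mk
    rw [eq_top_iff]
    intro b _
    exact TopologicalSpace.Opens.mem_iSup.2 ⟨b, hb b⟩
  rw [IsZariskiLocalAtTarget.iff_of_openCover (P := P) (B.openCoverOfIsOpenCover B' hcov)]
  intro b
  change P (pullback.snd h0 (B' b).ι)
  exact P_local_case P h0 p 𝒰 (fun k => h (𝒰.f k) ⟨k⟩) (U b) (B' b) (hU b) (hB' b) (hle b)

variable {S : Scheme.{u}} {G X : Over S} [GrpObj G]

theorem prop_of_torsor (a : AlgGrp.Action G X)
    (ha : NonAbH1.IsTorsorFor Scheme.fpqcPrecoverage a) (hG : P G.hom) : P X.hom := by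
  obtain ⟨R, hR, hsec⟩ := ha.2
  refine P_of_fpqc_aux P X.hom (𝟙 S) hR (fun T g hg => ?_)
  obtain ⟨s, hs⟩ := hsec g hg
  let x : 𝟙_ (Over T) ⟶ Red.bc g X :=
    Over.homMk (pullback.lift s (𝟙 T) (by rw [hs]; exact (Category.id_comp g).symm))
      (pullback.lift_snd _ _ _)
  haveI := isIso_orbitMap (a.bc g) (NonAbH1.isPseudoTorsorSch_bc g ha.1) x
  have hGT : P (pullback.snd G.hom g) := P.pullback_snd _ _ hG
  have hXT : P (pullback.snd X.hom g) := by
    have hw : ((a.bc g).orbitMap x).left ≫ pullback.snd X.hom g = pullback.snd G.hom g :=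
      Over.w ((a.bc g).orbitMap x)
    haveI : IsIso ((a.bc g).orbitMap x).left :=
      (inferInstance : IsIso ((Over.forget T).map ((a.bc g).orbitMap x)))
    rw [← hw] at hGT
    exact (P.cancel_left_of_respectsIso _ _).1 hGT
  exact P_snd_precomp P X.hom g (pullback.snd (𝟙 S) g) (pullback.fst (𝟙 S) g)
    (pullback.condition.symm.trans (Category.comp_id _)) hXT

end Gen

variable {S : Scheme.{u}} {G X : Over S} [GrpObj G]

theorem main (a : AlgGrp.Action G X) (ha : NonAbH1.IsTorsorFor Scheme.fpqcPrecoverage a) :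
    (LocallyOfFiniteType G.hom → LocallyOfFiniteType X.hom) ∧
      (QuasiCompact G.hom → QuasiCompact X.hom) ∧
      (IsFinite G.hom → IsFinite X.hom) ∧ (Smooth G.hom → Smooth X.hom) ∧
      (Etale G.hom → Etale X.hom) := by
  haveI := quasiCompact_descends.{u}
  haveI := isFinite_descends.{u}
  exact ⟨prop_of_torsor @LocallyOfFiniteType a ha, prop_of_torsor @QuasiCompact a ha,
    prop_of_torsor @IsFinite a ha, prop_of_torsor @Smooth a ha, prop_of_torsor @Etale a ha⟩

end Groth.Agent.Lib.TorsorProp_helper7
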