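import Mathlib
import Groth.Prelude.Def_ActBC
import Groth.Agent.Lib.TorsorProp_helper7

/-!
# fpqc torsors under a flat quasi-compact group are faithfully flat quasi-compact (helper7)
-/

set_option autoImplicit false
universe u
open CategoryTheory CategoryTheory.Limits AlgebraicGeometry MonoidalCategory
  CartesianMonoidalCategory MonObj GrpObj

namespace Groth.Agent.Lib.TorsorFF_helper7

open Groth.Agent.Lib.TorsorIso_helper7 Groth.Agent.Lib.TorsorProp_helper7

/-- Flatness of ring maps codescends along faithfully flat ring maps. -/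
theorem flat_codescends :
    RingHom.CodescendsAlong RingHom.Flat RingHom.FaithfullyFlat.{u, u} := by
  apply RingHom.CodescendsAlong.mk _ RingHom.Flat.respectsIso
  introv h H
  rw [RingHom.faithfullyFlat_algebraMap_iff] at h
  rw [RingHom.flat_algebraMap_iff] at H ⊢
  exact Module.Flat.of_flat_tensorProduct R T S

/-- Flatness descends along fpqc covers. -/
theorem flat_descends :
    MorphismProperty.DescendsAlong (@Flat.{u}) (@Surjective ⊓ @Flat ⊓ @QuasiCompact) :=
  HasRingHomProperty.descendsAlong_flat flat_codescends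

variable {S : Scheme.{u}}

theorem surjective_grp_hom (G : Over S) [GrpObj G] : Surjective G.hom := by
  have h : (MonObj.one : 𝟙_ (Over S) ⟶ G).left ≫ G.hom = 𝟙 S :=
    Over.w (MonObj.one : 𝟙_ (Over S) ⟶ G)
  haveI : Surjective ((MonObj.one : 𝟙_ (Over S) ⟶ G).left ≫ G.hom) := by
    rw [h]; exact ⟨fun x => ⟨x, rfl⟩⟩
  exact Surjective.of_comp (MonObj.one : 𝟙_ (Over S) ⟶ G).left G.hom

theorem main (G X : Over S) [GrpObj G] [Flat G.hom] [QuasiCompact G.hom]
    (a : AlgGrp.Action G X) :
    NonAbH1.IsTorsorFor Scheme.fpqcPrecoverage a ↔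
      (NonAbH1.IsPseudoTorsorSch a ∧ Surjective X.hom ∧ Flat X.hom ∧ QuasiCompact X.hom) := by
  constructor
  · intro ha
    haveI := quasiCompact_descends.{u}
    haveI := flat_descends.{u}
    exact ⟨ha.1, prop_of_torsor @Surjective a ha (surjective_grp_hom G),
      prop_of_torsor @Flat a ha inferInstance, prop_of_torsor @QuasiCompact a ha inferInstance⟩
  · rintro ⟨h1, h2, h3, h4⟩
    refine ⟨h1, Presieve.singleton X.hom, X.hom.singleton_mem_fpqcPrecoverage, ?_⟩
    intro T f hf
    cases hf
    exact ⟨𝟙 _, Category.id_comp _⟩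

end Groth.Agent.Lib.TorsorFF_helper7
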