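import Mathlib
import Groth.Prelude.Def_ActBC
import Groth.Agent.Lib.TorsorFF_helper7

/-!
# fpqc descent of affine morphisms; fpqc torsors under affine flat groups (helper7)
-/

set_option autoImplicit false
universe u
open CategoryTheory CategoryTheory.Limits AlgebraicGeometry MonoidalCategory
  CartesianMonoidalCategory MonObj GrpObj

namespace Groth.Agent.Lib.AffineDescent_helper7

open Groth.Agent.Lib.TorsorIso_helper7 Groth.Agent.Lib.TorsorProp_helper7
  Groth.Agent.Lib.TorsorFF_helper7

theorem quasiSeparated_descends :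
    MorphismProperty.DescendsAlong (@QuasiSeparated)
      (@Surjective ⊓ @Flat ⊓ @QuasiCompact : MorphismProperty Scheme.{u}) := by
  haveI := quasiCompact_descends.{u}
  rw [quasiSeparated_eq_diagonal_is_quasiCompact]
  infer_instance

theorem isIso_of_isAffine_of_isIso_appTop {X Y : Scheme.{u}} [IsAffine X] [IsAffine Y]
    (f : X ⟶ Y) (hf : IsIso f.appTop) : IsIso f := by
  have h := Scheme.toSpecΓ_naturality f
  haveI : IsIso (Spec.map f.appTop) := inferInstance
  haveI : IsIso (f ≫ Y.toSpecΓ) := by rw [h]; infer_instance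
  exact IsIso.of_isIso_comp_right f Y.toSpecΓ

/-- The key step: a scheme over an affine base which becomes affine after a faithfully flat affine
base change is affine. -/
theorem isAffine_of_pullback {A B Y : Scheme.{u}} [IsAffine A] [IsAffine B] (p : A ⟶ B)
    [Flat p] [Surjective p] (g : Y ⟶ B) [IsAffine (pullback p g)] : IsAffine Y := by
  haveI : Surjective (pullback.snd p g) :=
    MorphismProperty.pullback_snd (P := @Surjective) _ _ inferInstance
  haveI : CompactSpace Y :=
    Function.Surjective.compactSpace (pullback.snd p g).continuous (pullback.snd p g).surjective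
  haveI := quasiSeparated_descends.{u}
  have hQ : (@Surjective ⊓ @Flat ⊓ @QuasiCompact : MorphismProperty Scheme.{u}) p :=
    ⟨⟨inferInstance, inferInstance⟩, inferInstance⟩
  haveI : QuasiSeparated g :=
    MorphismProperty.of_pullback_fst_of_descendsAlong (P := @QuasiSeparated)
      (Q := @Surjective ⊓ @Flat ⊓ @QuasiCompact) (f := p) (g := g) hQ inferInstance
  haveI : QuasiSeparatedSpace Y := quasiSeparatedSpace_of_quasiSeparated g
  let h : Y ⟶ Spec Γ(Y, ⊤) := Y.toSpecΓ
  let c : Spec Γ(Y, ⊤) ⟶ B := Spec.map g.appTop ≫ inv B.toSpecΓ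
  have hc : h ≫ c = g := by
    have hn := Scheme.toSpecΓ_naturality g
    show Y.toSpecΓ ≫ Spec.map g.appTop ≫ inv B.toSpecΓ = g
    rw [← Category.assoc, ← hn, Category.assoc, IsIso.hom_inv_id, Category.comp_id]
  let q : pullback p c ⟶ Spec Γ(Y, ⊤) := pullback.snd p c
  haveI : Flat q := MorphismProperty.pullback_snd (P := @Flat) _ _ inferInstance
  haveI : Surjective q := MorphismProperty.pullback_snd (P := @Surjective) _ _ inferInstance
  have hqQ : (@Surjective ⊓ @Flat ⊓ @QuasiCompact : MorphismProperty Scheme.{u}) q :=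
    ⟨⟨inferInstance, inferInstance⟩, inferInstance⟩
  have sq1 : IsPullback (pullback.fst q h) (pullback.snd q h) q h := IsPullback.of_hasPullback q h
  have sq2 : IsPullback (pullback.fst p c) q p c := IsPullback.of_hasPullback p c
  have sq3 : IsPullback (pullback.fst q h ≫ pullback.fst p c) (pullback.snd q h) p g := by
    have := sq1.paste_horiz sq2
    rwa [hc] at this
  haveI : IsAffine (pullback q h) := IsAffine.of_isIso sq3.isoPullback.hom
  have H : IsPullback (pullback.snd q h) (pullback.fst q h) h q := sq1.flip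
  have hUST : (⊤ : (pullback p c).Opens) ≤ q ⁻¹ᵁ ⊤ := le_top
  have hUSX : (⊤ : Y.Opens) ≤ h ⁻¹ᵁ ⊤ := le_top
  have hUY : (⊤ : (pullback q h).Opens) = pullback.snd q h ⁻¹ᵁ ⊤ ⊓ pullback.fst q h ⁻¹ᵁ ⊤ := by
    simp
  haveI hiso : IsIso (pushoutSection H hUST hUSX hUY) :=
    isIso_pushoutSection_of_isQuasiSeparated_of_flat_right H hUST hUSX hUY
      (isAffineOpen_top _) (isAffineOpen_top _)
      (show IsCompact ((⊤ : Y.Opens) : Set Y) from by
        rw [TopologicalSpace.Opens.coe_top]; exact isCompact_univ)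
      (show IsQuasiSeparated ((⊤ : Y.Opens) : Set Y) from by
        rw [TopologicalSpace.Opens.coe_top]; exact isQuasiSeparated_univ)
  have e0 : h.appLE ⊤ ⊤ hUSX = (Scheme.ΓSpecIso Γ(Y, ⊤)).hom :=
    (Scheme.Hom.appLE_eq_app h (U := ⊤)).trans (Scheme.toSpecΓ_appTop Y)
  haveI : IsIso (h.appLE ⊤ ⊤ hUSX) := by rw [e0]; infer_instance
  have e1 : pushout.inr (h.appLE ⊤ ⊤ hUSX) (q.appLE ⊤ ⊤ hUST) ≫
      pushoutSection H hUST hUSX hUY =
      (pullback.fst q h).appLE ⊤ ⊤ le_top := pushout.inr_desc _ _ _
  have e2 : (pullback.fst q h).appTop = (pullback.fst q h).appLE ⊤ ⊤ le_top :=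
    (Scheme.Hom.appLE_eq_app (pullback.fst q h) (U := ⊤)).symm
  have hfst : IsIso (pullback.fst q h).appTop := by
    rw [e2, ← e1]; infer_instance
  haveI : IsIso (pullback.fst q h) := isIso_of_isAffine_of_isIso_appTop _ hfst
  have hh : MorphismProperty.isomorphisms Scheme.{u} h :=
    MorphismProperty.of_pullback_fst_of_descendsAlong
      (P := MorphismProperty.isomorphisms Scheme.{u})
      (Q := @Surjective ⊓ @Flat ⊓ @QuasiCompact) (f := q) (g := h) hqQ
      (inferInstance : IsIso (pullback.fst q h))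
  exact ⟨hh⟩

theorem isAffineHom_descends :
    MorphismProperty.DescendsAlong (@IsAffineHom)
      (@Surjective ⊓ @Flat ⊓ @QuasiCompact : MorphismProperty Scheme.{u}) := by
  refine IsZariskiLocalAtTarget.descendsAlong_inf_quasiCompact _ _ ?_ ?_
  · rw [inf_comm]
    exact inf_le_inf le_rfl (IsLocalIso.le_of_isZariskiLocalAtSource _)
  · intro R S Y φ g hφ hfst
    haveI : Surjective (Spec.map φ) := hφ.1
    haveI : Flat (Spec.map φ) := hφ.2
    haveI : IsAffineHom (pullback.fst (Spec.map φ) g) := hfst
    haveI : IsAffine (pullback (Spec.map φ) g) :=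
      isAffine_of_isAffineHom (pullback.fst (Spec.map φ) g)
    haveI : IsAffine Y := isAffine_of_pullback (Spec.map φ) g
    infer_instance

variable {S : Scheme.{u}}

theorem main (G X : Over S) [GrpObj G] [IsAffineHom G.hom] [Flat G.hom]
    (a : AlgGrp.Action G X) (h : NonAbH1.IsTorsorFor Scheme.fpqcPrecoverage a) :
    IsAffineHom X.hom ∧ Flat X.hom := by
  haveI := isAffineHom_descends.{u}
  haveI := flat_descends.{u}
  exact ⟨prop_of_torsor @IsAffineHom a h inferInstance, prop_of_torsor @Flat a h inferInstance⟩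

end Groth.Agent.Lib.AffineDescent_helper7
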