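import Mathlib

/-!
# Tensor products of domains over an algebraically closed field (lead)

`isDomain_tensor_of_isAlgClosed`: if `Ω` is algebraically closed and `A`, `B` are `Ω`-algebras which
are domains then `A ⊗[Ω] B` is a domain.
-/

set_option autoImplicit false
universe u v w
open TensorProduct

namespace Groth.Agent.Lib.GeomIrr

/-- Weak Nullstellensatz: a nonzero element of a reduced finitely generated algebra over an
algebraically closed field is nonzero at some `Ω`-point. -/
theorem exists_algHom_apply_ne_zero (Ω : Type u) [Field Ω] [IsAlgClosed Ω] (D : Type v) [CommRing D]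
    [Algebra Ω D] [Algebra.FiniteType Ω D] [IsReduced D] {d : D} (hd : d ≠ 0) :
    ∃ φ : D →ₐ[Ω] Ω, φ d ≠ 0 := by
  haveI : IsJacobsonRing D := isJacobsonRing_of_finiteType (A := Ω) (B := D)
  have hrad : (⊥ : Ideal D).IsRadical := by
    intro x hx
    obtain ⟨n, hn⟩ := hx
    have hnil : IsNilpotent x := ⟨n, by simpa using hn⟩
    rw [Ideal.mem_bot]
    exact hnil.eq_zero
  have hjac : (⊥ : Ideal D).jacobson = ⊥ := IsJacobsonRing.out' _ hrad
  have hd' : d ∉ (⊥ : Ideal D).jacobson := by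
    rw [hjac, Ideal.mem_bot]; exact hd
  rw [Ideal.jacobson, Ideal.mem_sInf] at hd'
  push_neg at hd'
  obtain ⟨m, ⟨-, hm⟩, hdm⟩ := hd'
  haveI := hm
  letI : Field (D ⧸ m) := Ideal.Quotient.field m
  haveI : Algebra.FiniteType Ω (D ⧸ m) :=
    Algebra.FiniteType.of_surjective (Ideal.Quotient.mkₐ Ω m) (Ideal.Quotient.mkₐ_surjective Ω m)
  haveI : Module.Finite Ω (D ⧸ m) := finite_of_finite_type_of_isJacobsonRing Ω (D ⧸ m)
  haveI : Algebra.IsIntegral Ω (D ⧸ m) := Algebra.IsIntegral.of_finite Ω (D ⧸ m)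
  have hbij : Function.Bijective (algebraMap Ω (D ⧸ m)) :=
    IsAlgClosed.algebraMap_bijective_of_isIntegral
  let e : Ω ≃ₐ[Ω] (D ⧸ m) := AlgEquiv.ofBijective (Algebra.ofId Ω (D ⧸ m)) hbij
  refine ⟨(e.symm : (D ⧸ m) →ₐ[Ω] Ω).comp (Ideal.Quotient.mkₐ Ω m), ?_⟩
  intro h
  apply hdm
  have h2 : e.symm ((Ideal.Quotient.mkₐ Ω m) d) = 0 := h
  have h3 : (Ideal.Quotient.mkₐ Ω m) d = 0 := by
    have := congrArg e h2
    rwa [AlgEquiv.apply_symm_apply, map_zero] at this
  exact Ideal.Quotient.eq_zero_iff_mem.1 h3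

/-- Two elements of `A ⊗ B` come from `A ⊗ D` for a common finitely generated subalgebra `D ⊆ B`. -/
theorem exists_fg_lift₂ {R : Type u} {A : Type v} {B : Type w} [CommRing R] [CommRing A]
    [CommRing B] [Algebra R A] [Algebra R B] (x y : A ⊗[R] B) :
    ∃ D : Subalgebra R B, D.FG ∧ ∃ x' y' : A ⊗[R] D,
      Algebra.TensorProduct.map (AlgHom.id A A) D.val x' = x ∧
      Algebra.TensorProduct.map (AlgHom.id A A) D.val y' = y := by
  obtain ⟨D1, hD1, z1, hz1⟩ := exists_fg_and_mem_baseChange x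
  obtain ⟨D2, hD2, z2, hz2⟩ := exists_fg_and_mem_baseChange y
  have key : ∀ (E F : Subalgebra R B) (h : E ≤ F) (z : A ⊗[R] E),
      Algebra.TensorProduct.map (AlgHom.id A A) F.val
        (Algebra.TensorProduct.map (AlgHom.id A A) (Subalgebra.inclusion h) z) =
      Algebra.TensorProduct.map (AlgHom.id A A) E.val z := by
    intro E F h z
    induction z using TensorProduct.induction_on with
    | zero => simp
    | tmul a b => simp
    | add z w hz hw => simp only [map_add, hz, hw]
  refine ⟨D1 ⊔ D2, hD1.sup hD2,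
    Algebra.TensorProduct.map (AlgHom.id A A) (Subalgebra.inclusion le_sup_left) z1,
    Algebra.TensorProduct.map (AlgHom.id A A) (Subalgebra.inclusion le_sup_right) z2, ?_, ?_⟩
  · rw [key]; exact hz1
  · rw [key]; exact hz2

/-- Over an algebraically closed field the tensor product of two domains is a domain. -/
theorem isDomain_tensor_of_isAlgClosed (Ω : Type u) [Field Ω] [IsAlgClosed Ω] (A : Type v)
    (B : Type w) [CommRing A] [CommRing B] [Algebra Ω A] [Algebra Ω B] [IsDomain A] [IsDomain B] :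
    IsDomain (A ⊗[Ω] B) := by
  classical
  haveI : Nontrivial (A ⊗[Ω] B) := by
    have hinj : Function.Injective (Algebra.TensorProduct.includeLeft : A →ₐ[Ω] A ⊗[Ω] B) :=
      Algebra.TensorProduct.includeLeft_injective (RingHom.injective (algebraMap Ω B))
    exact hinj.nontrivial
  haveI : NoZeroDivisors (A ⊗[Ω] B) := by
    refine ⟨fun {x y} hxy => ?_⟩
    by_contra hne
    push_neg at hne
    obtain ⟨hx, hy⟩ := hne
    obtain ⟨D, hDfg, x', y', rfl, rfl⟩ := exists_fg_lift₂ x y
    have hιinj : Function.Injective (Algebra.TensorProduct.map (AlgHom.id A A) D.val) :=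
      Module.Flat.lTensor_preserves_injective_linearMap _ Subtype.val_injective
    have hx' : x' ≠ 0 := fun h => hx (by rw [h, map_zero])
    have hy' : y' ≠ 0 := fun h => hy (by rw [h, map_zero])
    have hxy' : x' * y' = 0 := hιinj (by rw [map_mul, hxy, map_zero])
    let 𝒜 := Module.Free.chooseBasis Ω A
    obtain ⟨bx, hbx⟩ := TensorProduct.eq_repr_basis_left 𝒜 x'
    obtain ⟨by', hby⟩ := TensorProduct.eq_repr_basis_left 𝒜 y'
    have hbx0 : bx ≠ 0 := by
      rintro rfl; apply hx'; rw [← hbx]; simp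
    have hby0 : by' ≠ 0 := by
      rintro rfl; apply hy'; rw [← hby]; simp
    obtain ⟨i0, hi0⟩ := Finsupp.ne_iff.1 hbx0
    obtain ⟨j0, hj0⟩ := Finsupp.ne_iff.1 hby0
    simp only [Finsupp.coe_zero, Pi.zero_apply] at hi0 hj0
    haveI : Algebra.FiniteType Ω D := (Subalgebra.fg_iff_finiteType D).1 hDfg
    have hd : bx i0 * by' j0 ≠ 0 := mul_ne_zero hi0 hj0
    obtain ⟨φ, hφ⟩ := exists_algHom_apply_ne_zero Ω D hd
    let ψ : A ⊗[Ω] D →ₐ[Ω] A :=
      Algebra.TensorProduct.lift (AlgHom.id Ω A) ((Algebra.ofId Ω A).comp φ)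
        (fun _ _ => Commute.all _ _)
    have hψ : ∀ (c : Module.Free.ChooseBasisIndex Ω A →₀ D),
        ψ (c.sum fun i n => 𝒜 i ⊗ₜ[Ω] n) = ∑ i ∈ c.support, φ (c i) • 𝒜 i := by
      intro c
      rw [Finsupp.sum, map_sum]
      refine Finset.sum_congr rfl fun i _ => ?_
      show ψ (𝒜 i ⊗ₜ[Ω] c i) = _
      rw [Algebra.TensorProduct.lift_tmul]
      simp [Algebra.smul_def, mul_comm]
    have hprod : ψ x' * ψ y' = 0 := by rw [← map_mul, hxy', map_zero]
    have hli := linearIndependent_iff'.1 𝒜.linearIndependent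
    rcases mul_eq_zero.1 hprod with h0 | h0
    · rw [← hbx, hψ] at h0
      have hz := hli bx.support (fun i => φ (bx i)) h0 i0 (Finsupp.mem_support_iff.2 hi0)
      exact hφ (by rw [map_mul, hz, zero_mul])
    · rw [← hby, hψ] at h0
      have hz := hli by'.support (fun i => φ (by' i)) h0 j0 (Finsupp.mem_support_iff.2 hj0)
      exact hφ (by rw [map_mul, hz, mul_zero])
  exact NoZeroDivisors.to_isDomain _

end Groth.Agent.Lib.GeomIrr
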