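import Mathlib
import Groth.Prelude.Def_CAlgX
import Groth.Agent.Lib.GeomIrr1_lead

/-!
# Irreducibility of spectra of tensor products over separably closed fields (lead)
-/

set_option autoImplicit false
universe u v w w'
open TensorProduct

namespace Groth.Agent.Lib.GeomIrr

theorem nilradical_isPrime_of_injective {A : Type u} {B : Type v} [CommRing A] [CommRing B]
    (f : A →+* B) (hf : Function.Injective f) (hB : (nilradical B).IsPrime) :
    (nilradical A).IsPrime := by
  have h : nilradical A = (nilradical B).comap f := by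
    ext x
    rw [Ideal.mem_comap, mem_nilradical, mem_nilradical]
    exact (IsNilpotent.map_iff hf).symm
  rw [h]
  haveI := hB
  exact Ideal.comap_isPrime f _

theorem nilradical_isPrime_of_ker_le {A : Type u} {B : Type v} [CommRing A] [CommRing B]
    [IsDomain B] (f : A →+* B) (hker : RingHom.ker f ≤ nilradical A) :
    (nilradical A).IsPrime := by
  have hk : (RingHom.ker f).IsPrime := RingHom.ker_isPrime f
  have h : nilradical A = RingHom.ker f := le_antisymm (nilradical_le_prime _) hker
  rw [h]; exact hk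

theorem exists_pow_eq_one_tmul {k : Type u} {E : Type v} {R : Type w} [Field k] [Field E]
    [Algebra k E] [IsPurelyInseparable k E] [CommRing R] [Algebra k R] (q : ℕ) [ExpChar k q]
    [ExpChar (E ⊗[k] R) q] (x : E ⊗[k] R) : ∃ (n : ℕ) (r : R), x ^ q ^ n = 1 ⊗ₜ[k] r := by
  induction x using TensorProduct.induction_on with
  | zero => exact ⟨0, 0, by simp⟩
  | tmul e r =>
    obtain ⟨n, c, hc⟩ := IsPurelyInseparable.pow_mem k q e
    refine ⟨n, c • r ^ q ^ n, ?_⟩
    rw [Algebra.TensorProduct.tmul_pow, ← hc, Algebra.algebraMap_eq_smul_one,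
      TensorProduct.smul_tmul]
  | add x y hx hy =>
    obtain ⟨n, a, ha⟩ := hx
    obtain ⟨m, b, hb⟩ := hy
    refine ⟨n + m, a ^ q ^ m + b ^ q ^ n, ?_⟩
    rw [add_pow_expChar_pow, pow_add, pow_mul, ha, mul_comm (q ^ n) (q ^ m), pow_mul, hb,
      Algebra.TensorProduct.tmul_pow, Algebra.TensorProduct.tmul_pow, one_pow, one_pow,
      TensorProduct.tmul_add]

/-- A purely inseparable base change keeps the nilradical prime. -/
theorem nilradical_isPrime_tensor_of_isPurelyInseparable {k : Type u} {E : Type v} {R : Type w}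
    [Field k] [Field E] [Algebra k E] [IsPurelyInseparable k E] [CommRing R] [Algebra k R]
    (hR : (nilradical R).IsPrime) : (nilradical (E ⊗[k] R)).IsPrime := by
  haveI : Nontrivial R := by
    refine ⟨⟨0, 1, fun h01 => hR.ne_top ?_⟩⟩
    rw [Ideal.eq_top_iff_one, mem_nilradical]
    exact ⟨1, by rw [pow_one]; exact h01.symm⟩
  have hincl : Function.Injective (Algebra.TensorProduct.includeRight : R →ₐ[k] E ⊗[k] R) :=
    Algebra.TensorProduct.includeRight_injective (RingHom.injective (algebraMap k E))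
  haveI : Nontrivial (E ⊗[k] R) := hincl.nontrivial
  obtain ⟨q, hq⟩ := ExpChar.exists k
  haveI := hq
  haveI : ExpChar (E ⊗[k] R) q :=
    expChar_of_injective_algebraMap (RingHom.injective (algebraMap k (E ⊗[k] R))) q
  have hqpos : 0 < q := expChar_pos k q
  refine Ideal.isPrime_iff.2 ⟨?_, ?_⟩
  · rw [Ideal.ne_top_iff_one, mem_nilradical]
    rintro ⟨n, hn⟩
    rw [one_pow] at hn
    exact one_ne_zero hn
  · intro x y hxy
    obtain ⟨n, a, ha⟩ := exists_pow_eq_one_tmul (k := k) q x
    obtain ⟨m, b, hb⟩ := exists_pow_eq_one_tmul (k := k) q y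
    have hN : q ^ (n + m) ≠ 0 := (pow_pos hqpos _).ne'
    have hxN : x ^ q ^ (n + m) = 1 ⊗ₜ[k] (a ^ q ^ m) := by
      rw [pow_add, pow_mul, ha, Algebra.TensorProduct.tmul_pow, one_pow]
    have hyN : y ^ q ^ (n + m) = 1 ⊗ₜ[k] (b ^ q ^ n) := by
      rw [pow_add, mul_comm, pow_mul, hb, Algebra.TensorProduct.tmul_pow, one_pow]
    have hnil : IsNilpotent ((x * y) ^ q ^ (n + m)) := by
      obtain ⟨j, hj⟩ := mem_nilradical.1 hxy
      exact ⟨j, by rw [← pow_mul, mul_comm (q ^ (n + m)) j, pow_mul, hj, zero_pow hN]⟩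
    have hnil2 : IsNilpotent ((Algebra.TensorProduct.includeRight : R →ₐ[k] E ⊗[k] R)
        (a ^ q ^ m * b ^ q ^ n)) := by
      have : (Algebra.TensorProduct.includeRight : R →ₐ[k] E ⊗[k] R) (a ^ q ^ m * b ^ q ^ n) =
          (x * y) ^ q ^ (n + m) := by
        rw [mul_pow, hxN, hyN, Algebra.TensorProduct.tmul_mul_tmul, one_mul]
        rfl
      rw [this]; exact hnil
    have hnil3 : IsNilpotent (a ^ q ^ m * b ^ q ^ n) := (IsNilpotent.map_iff hincl).1 hnil2
    have hlift : ∀ (z : E ⊗[k] R) (N : ℕ) (c : R), z ^ N = 1 ⊗ₜ[k] c → c ∈ nilradical R →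
        z ∈ nilradical (E ⊗[k] R) := by
      intro z N c hz hc
      have h1 : IsNilpotent ((Algebra.TensorProduct.includeRight : R →ₐ[k] E ⊗[k] R) c) :=
        (mem_nilradical.1 hc).map _
      have h2 : IsNilpotent (z ^ N) := by rw [hz]; exact h1
      obtain ⟨j, hj⟩ := h2
      exact mem_nilradical.2 ⟨N * j, by rw [pow_mul]; exact hj⟩
    rcases hR.mem_or_mem (mem_nilradical.2 hnil3) with h | h
    · exact Or.inl (hlift x _ _ hxN h)
    · exact Or.inr (hlift y _ _ hyN h)

/-- Over an algebraically closed field the tensor product of two rings with prime nilradical has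
prime nilradical. -/
theorem nilradical_isPrime_tensor_of_isAlgClosed (Ω : Type u) [Field Ω] [IsAlgClosed Ω]
    (A : Type v) (B : Type w) [CommRing A] [CommRing B] [Algebra Ω A] [Algebra Ω B]
    (hA : (nilradical A).IsPrime) (hB : (nilradical B).IsPrime) :
    (nilradical (A ⊗[Ω] B)).IsPrime := by
  haveI := hA
  haveI := hB
  haveI : IsDomain (A ⧸ nilradical A) := Ideal.Quotient.isDomain _
  haveI : IsDomain (B ⧸ nilradical B) := Ideal.Quotient.isDomain _
  haveI : IsDomain ((A ⧸ nilradical A) ⊗[Ω] (B ⧸ nilradical B)) :=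
    isDomain_tensor_of_isAlgClosed Ω _ _
  let f : A →ₐ[Ω] A ⧸ nilradical A := Ideal.Quotient.mkₐ Ω _
  let g : B →ₐ[Ω] B ⧸ nilradical B := Ideal.Quotient.mkₐ Ω _
  have hf : Function.Surjective f := Ideal.Quotient.mkₐ_surjective Ω _
  have hg : Function.Surjective g := Ideal.Quotient.mkₐ_surjective Ω _
  apply nilradical_isPrime_of_ker_le (Algebra.TensorProduct.map f g).toRingHom
  have hker := Algebra.TensorProduct.map_ker f g hf hg
  intro z hz
  have hz' : z ∈ RingHom.ker (Algebra.TensorProduct.map f g) := hz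
  rw [hker] at hz'
  have h1 : (RingHom.ker f).map (Algebra.TensorProduct.includeLeft : A →ₐ[Ω] A ⊗[Ω] B) ≤
      nilradical (A ⊗[Ω] B) := by
    rw [Ideal.map_le_iff_le_comap]
    intro a ha
    have ha' : a ∈ nilradical A := by
      have : RingHom.ker f = nilradical A := Ideal.Quotient.mkₐ_ker Ω _
      rw [← this]; exact ha
    exact mem_nilradical.2 ((mem_nilradical.1 ha').map _)
  have h2 : (RingHom.ker g).map (Algebra.TensorProduct.includeRight : B →ₐ[Ω] A ⊗[Ω] B) ≤
      nilradical (A ⊗[Ω] B) := by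
    rw [Ideal.map_le_iff_le_comap]
    intro b hb
    have hb' : b ∈ nilradical B := by
      have : RingHom.ker g = nilradical B := Ideal.Quotient.mkₐ_ker Ω _
      rw [← this]; exact hb
    exact mem_nilradical.2 ((mem_nilradical.1 hb').map _)
  exact (sup_le h1 h2) hz'

/-- `R ⊗[k] S` embeds into `(Ω ⊗[k] R) ⊗[Ω] (Ω ⊗[k] S)`. -/
theorem exists_injective_ringHom_baseChange (k : Type u) [Field k] (Ω : Type v) [Field Ω]
    [Algebra k Ω] (R : Type w) (S : Type w') [CommRing R] [CommRing S] [Algebra k R] [Algebra k S] :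
    ∃ ψ : R ⊗[k] S →+* (Ω ⊗[k] R) ⊗[Ω] (Ω ⊗[k] S), Function.Injective ψ := by
  let f1 : R ⊗[k] S →ₐ[k] (Ω ⊗[k] R) ⊗[k] S :=
    Algebra.TensorProduct.map (Algebra.TensorProduct.includeRight : R →ₐ[k] Ω ⊗[k] R)
      (AlgHom.id k S)
  have hf1 : Function.Injective f1 :=
    Module.Flat.rTensor_preserves_injective_linearMap _
      (Algebra.TensorProduct.includeRight_injective (RingHom.injective (algebraMap k Ω)))
  let e := Algebra.TensorProduct.cancelBaseChange k Ω Ω (Ω ⊗[k] R) S
  exact ⟨e.symm.toRingEquiv.toRingHom.comp f1.toRingHom,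
    fun a b h => hf1 (e.symm.injective h)⟩

/-- **Main theorem**: over a separably closed field, the tensor product of two algebras with prime
nilradical (i.e. irreducible spectrum) has prime nilradical. -/
theorem nilradical_isPrime_tensor_of_isSepClosed {k : Type u} [Field k] [IsSepClosed k]
    {R : Type v} {S : Type w} [CommRing R] [CommRing S] [Algebra k R] [Algebra k S]
    (hR : (nilradical R).IsPrime) (hS : (nilradical S).IsPrime) :
    (nilradical (R ⊗[k] S)).IsPrime := by
  have h1 : (nilradical (AlgebraicClosure k ⊗[k] R)).IsPrime :=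
    nilradical_isPrime_tensor_of_isPurelyInseparable hR
  have h2 : (nilradical (AlgebraicClosure k ⊗[k] S)).IsPrime :=
    nilradical_isPrime_tensor_of_isPurelyInseparable hS
  have h3 := nilradical_isPrime_tensor_of_isAlgClosed (AlgebraicClosure k)
    (AlgebraicClosure k ⊗[k] R) (AlgebraicClosure k ⊗[k] S) h1 h2
  obtain ⟨ψ, hψ⟩ := exists_injective_ringHom_baseChange k (AlgebraicClosure k) R S
  exact nilradical_isPrime_of_injective ψ hψ h3

theorem hasUniqueMinimalPrime_iff (A : Type u) [CommRing A] :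
    CAlgX.HasUniqueMinimalPrime A ↔ (nilradical A).IsPrime := by
  constructor
  · rintro ⟨p, hp, huniq⟩
    have hset : minimalPrimes A = {p} :=
      Set.eq_singleton_iff_unique_mem.2 ⟨hp, fun q hq => huniq q hq⟩
    have h : sInf (minimalPrimes A) = nilradical A := Ideal.sInf_minimalPrimes (I := (⊥ : Ideal A))
    have h' : nilradical A = p := by rw [← h, hset, sInf_singleton]
    rw [h']; exact Ideal.minimalPrimes_isPrime hp
  · intro h
    haveI := h
    refine ⟨nilradical A, ?_, ?_⟩
    · show nilradical A ∈ minimalPrimes A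
      rw [minimalPrimes_eq_minimals]
      refine ⟨h, fun q hq _ => ?_⟩
      haveI := hq
      exact nilradical_le_prime q
    · intro q hq
      have hqp : q.IsPrime := Ideal.minimalPrimes_isPrime hq
      haveI := hqp
      have hle : nilradical A ≤ q := nilradical_le_prime q
      rw [minimalPrimes_eq_minimals] at hq
      exact le_antisymm (hq.2 h hle) hle

theorem main_S2112 {k R S : Type u} [Field k] [IsSepClosed k] [CommRing R] [CommRing S]
    [Algebra k R] [Algebra k S] (hR : CAlgX.HasUniqueMinimalPrime R)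
    (hS : CAlgX.HasUniqueMinimalPrime S) : CAlgX.HasUniqueMinimalPrime (R ⊗[k] S) :=
  (hasUniqueMinimalPrime_iff _).2 (nilradical_isPrime_tensor_of_isSepClosed
    ((hasUniqueMinimalPrime_iff _).1 hR) ((hasUniqueMinimalPrime_iff _).1 hS))

end Groth.Agent.Lib.GeomIrr
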