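import Mathlib
import Groth.Agent.Lib.GeomIrr2_lead

/-!
# Geometric irreducibility / integrality over fields: equivalent conditions (lead)
-/

set_option autoImplicit false
set_option maxSynthPendingDepth 3
universe u v w
open TensorProduct

namespace Groth.Agent.Lib.GeomIrr

theorem nilradical_isPrime_of_ker_le_nilradical {A : Type u} {B : Type v} [CommRing A]
    [CommRing B] (f : A →+* B) (hker : RingHom.ker f ≤ nilradical A)
    (hB : (nilradical B).IsPrime) : (nilradical A).IsPrime := by
  have h : nilradical A = (nilradical B).comap f := by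
    ext x
    rw [Ideal.mem_comap, mem_nilradical, mem_nilradical]
    constructor
    · intro hx; exact hx.map f
    · rintro ⟨n, hn⟩
      have hmem : x ^ n ∈ RingHom.ker f := by rw [RingHom.mem_ker, map_pow]; exact hn
      obtain ⟨j, hj⟩ := mem_nilradical.1 (hker hmem)
      exact ⟨n * j, by rw [pow_mul]; exact hj⟩
  rw [h]
  haveI := hB
  exact Ideal.comap_isPrime f _

/-- `k' ⊗[k] R` embeds in `L ⊗[K] (K ⊗[k] R)` for `L` a residue field of `K ⊗[k] k'`. -/
theorem exists_injective_to_common_ext {k K k' R : Type u} [Field k] [Field K] [Field k']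
    [Algebra k K] [Algebra k k'] [CommRing R] [Algebra k R] (m : Ideal (K ⊗[k] k'))
    [hm : m.IsMaximal] :
    ∃ ψ : k' ⊗[k] R →+* ((K ⊗[k] k') ⧸ m) ⊗[K] (K ⊗[k] R), Function.Injective ψ := by
  haveI : Nontrivial ((K ⊗[k] k') ⧸ m) := Ideal.Quotient.nontrivial_iff.2 hm.ne_top
  let ι : k' →ₐ[k] (K ⊗[k] k') ⧸ m :=
    (Ideal.Quotient.mkₐ k m).comp Algebra.TensorProduct.includeRight
  have hι : Function.Injective ι := RingHom.injective ι.toRingHom
  have hinj : Function.Injective (Algebra.TensorProduct.map ι (AlgHom.id k R)) :=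
    Module.Flat.rTensor_preserves_injective_linearMap _ hι
  let e := Algebra.TensorProduct.cancelBaseChange k K K ((K ⊗[k] k') ⧸ m) R
  exact ⟨e.symm.toRingEquiv.toRingHom.comp (Algebra.TensorProduct.map ι (AlgHom.id k R)).toRingHom,
    fun a b hab => hinj (e.symm.injective hab)⟩

theorem nontrivial_tensor_field (k K k' : Type u) [Field k] [Field K] [Field k']
    [Algebra k K] [Algebra k k'] : Nontrivial (K ⊗[k] k') := by
  have hinj : Function.Injective (Algebra.TensorProduct.includeLeft : K →ₐ[k] K ⊗[k] k') :=
    Algebra.TensorProduct.includeLeft_injective (RingHom.injective (algebraMap k k'))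
  exact hinj.nontrivial

/-- If `K/k` is separably closed and `K ⊗[k] R` has irreducible spectrum, so does `k' ⊗[k] R` for
every field extension `k'/k`. -/
theorem nilradical_isPrime_tensor_of_isSepClosed_ext {k K R : Type u} [Field k] [Field K]
    [Algebra k K] [IsSepClosed K] [CommRing R] [Algebra k R]
    (h : (nilradical (K ⊗[k] R)).IsPrime) (k' : Type u) [Field k'] [Algebra k k'] :
    (nilradical (k' ⊗[k] R)).IsPrime := by
  haveI := nontrivial_tensor_field k K k'
  obtain ⟨m, hm⟩ := Ideal.exists_maximal (K ⊗[k] k')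
  haveI := hm
  haveI : IsDomain ((K ⊗[k] k') ⧸ m) := Ideal.Quotient.isDomain m
  have hL : (nilradical ((K ⊗[k] k') ⧸ m)).IsPrime := by
    rw [nilradical_eq_zero, Ideal.zero_eq_bot]; exact Ideal.isPrime_bot
  have h1 : (nilradical (((K ⊗[k] k') ⧸ m) ⊗[K] (K ⊗[k] R))).IsPrime :=
    nilradical_isPrime_tensor_of_isSepClosed hL h
  obtain ⟨ψ, hψ⟩ := exists_injective_to_common_ext (R := R) m
  exact nilradical_isPrime_of_injective ψ hψ (by exact h1)

theorem intermediateField_map_inclusion {k K R : Type u} [Field k] [Field K] [Algebra k K]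
    [CommRing R] [Algebra k R] {E F : IntermediateField k K} (h : E ≤ F) (z : E ⊗[k] R) :
    Algebra.TensorProduct.map F.val (AlgHom.id k R)
      (Algebra.TensorProduct.map (IntermediateField.inclusion h) (AlgHom.id k R) z) =
    Algebra.TensorProduct.map E.val (AlgHom.id k R) z := by
  induction z using TensorProduct.induction_on with
  | zero => simp
  | tmul a b => simp
  | add z w hz hw => simp only [map_add, hz, hw]

theorem exists_finite_intermediateField_lift {k K R : Type u} [Field k] [Field K] [Algebra k K]
    [Algebra.IsAlgebraic k K] [CommRing R] [Algebra k R] (x : K ⊗[k] R) :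
    ∃ (E : IntermediateField k K), FiniteDimensional k E ∧ ∃ x' : E ⊗[k] R,
      Algebra.TensorProduct.map E.val (AlgHom.id k R) x' = x := by
  induction x using TensorProduct.induction_on with
  | zero =>
    exact ⟨IntermediateField.adjoin k {(0 : K)},
      IntermediateField.adjoin.finiteDimensional (Algebra.IsIntegral.isIntegral _), 0, map_zero _⟩
  | tmul c r =>
    refine ⟨IntermediateField.adjoin k {c},
      IntermediateField.adjoin.finiteDimensional (Algebra.IsIntegral.isIntegral c),
      ⟨c, IntermediateField.mem_adjoin_simple_self k c⟩ ⊗ₜ r, ?_⟩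
    simp
  | add x y hx hy =>
    obtain ⟨E1, hE1, x1, rfl⟩ := hx
    obtain ⟨E2, hE2, x2, rfl⟩ := hy
    haveI := hE1
    haveI := hE2
    refine ⟨E1 ⊔ E2, inferInstance,
      Algebra.TensorProduct.map (IntermediateField.inclusion (le_sup_left : E1 ≤ E1 ⊔ E2))
        (AlgHom.id k R) x1 +
      Algebra.TensorProduct.map (IntermediateField.inclusion (le_sup_right : E2 ≤ E1 ⊔ E2))
        (AlgHom.id k R) x2, ?_⟩
    rw [map_add, intermediateField_map_inclusion, intermediateField_map_inclusion]

theorem exists_finite_intermediateField_lift₂ {k K R : Type u} [Field k] [Field K] [Algebra k K]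
    [Algebra.IsAlgebraic k K] [CommRing R] [Algebra k R] (x y : K ⊗[k] R) :
    ∃ (E : IntermediateField k K), FiniteDimensional k E ∧ ∃ x' y' : E ⊗[k] R,
      Algebra.TensorProduct.map E.val (AlgHom.id k R) x' = x ∧
      Algebra.TensorProduct.map E.val (AlgHom.id k R) y' = y := by
  obtain ⟨E1, hE1, x1, rfl⟩ := exists_finite_intermediateField_lift x
  obtain ⟨E2, hE2, y2, rfl⟩ := exists_finite_intermediateField_lift y
  haveI := hE1
  haveI := hE2
  exact ⟨E1 ⊔ E2, inferInstance, _, _, intermediateField_map_inclusion le_sup_left x1,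
    intermediateField_map_inclusion le_sup_right y2⟩

theorem intermediateField_map_injective {k K R : Type u} [Field k] [Field K] [Algebra k K]
    [CommRing R] [Algebra k R] (E : IntermediateField k K) :
    Function.Injective (Algebra.TensorProduct.map E.val (AlgHom.id k R)) :=
  Module.Flat.rTensor_preserves_injective_linearMap _ (RingHom.injective E.val.toRingHom)

/-- Limit argument for irreducibility. -/
theorem nilradical_isPrime_of_forall_finite {k K R : Type u} [Field k] [Field K] [Algebra k K]
    [Algebra.IsAlgebraic k K] [CommRing R] [Algebra k R]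
    (h : ∀ E : IntermediateField k K, FiniteDimensional k E → (nilradical (E ⊗[k] R)).IsPrime) :
    (nilradical (K ⊗[k] R)).IsPrime := by
  refine Ideal.isPrime_iff.2 ⟨?_, ?_⟩
  · rw [Ideal.ne_top_iff_one, mem_nilradical]
    intro h1
    have h0 := h (IntermediateField.adjoin k {(0 : K)})
      (IntermediateField.adjoin.finiteDimensional (Algebra.IsIntegral.isIntegral _))
    apply h0.ne_top
    rw [Ideal.eq_top_iff_one, mem_nilradical]
    apply (IsNilpotent.map_iff (intermediateField_map_injective (R := R) _)).1
    rwa [map_one]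
  · intro x y hxy
    obtain ⟨E, hE, x', y', rfl, rfl⟩ := exists_finite_intermediateField_lift₂ x y
    have hp := h E hE
    have hmem : x' * y' ∈ nilradical (E ⊗[k] R) := by
      rw [mem_nilradical]
      apply (IsNilpotent.map_iff (intermediateField_map_injective (R := R) E)).1
      rw [map_mul]; exact mem_nilradical.1 hxy
    rcases hp.mem_or_mem hmem with h1 | h1
    · exact Or.inl (mem_nilradical.2 ((mem_nilradical.1 h1).map _))
    · exact Or.inr (mem_nilradical.2 ((mem_nilradical.1 h1).map _))

/-- Limit argument for integrality. -/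
theorem isDomain_of_forall_finite {k K R : Type u} [Field k] [Field K] [Algebra k K]
    [Algebra.IsAlgebraic k K] [CommRing R] [Algebra k R]
    (h : ∀ E : IntermediateField k K, FiniteDimensional k E → IsDomain (E ⊗[k] R)) :
    IsDomain (K ⊗[k] R) := by
  haveI : Nontrivial (K ⊗[k] R) := by
    haveI := h (IntermediateField.adjoin k {(0 : K)})
      (IntermediateField.adjoin.finiteDimensional (Algebra.IsIntegral.isIntegral _))
    exact (intermediateField_map_injective (R := R) (IntermediateField.adjoin k {(0 : K)})).nontrivial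
  haveI : NoZeroDivisors (K ⊗[k] R) := by
    refine ⟨fun {x y} hxy => ?_⟩
    obtain ⟨E, hE, x', y', rfl, rfl⟩ := exists_finite_intermediateField_lift₂ x y
    haveI := h E hE
    have h0 : x' * y' = 0 := by
      apply intermediateField_map_injective (R := R) E
      rw [map_mul, hxy, map_zero]
    rcases mul_eq_zero.1 h0 with h1 | h1
    · exact Or.inl (by rw [h1, map_zero])
    · exact Or.inr (by rw [h1, map_zero])
  exact NoZeroDivisors.to_isDomain _

theorem tfae_geomIrr {k R : Type u} [Field k] [CommRing R] [Algebra k R] :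
    [∀ (k' : Type u) [Field k'] [Algebra k k'], IrreducibleSpace (PrimeSpectrum (k' ⊗[k] R)),
      ∀ (k' : Type u) [Field k'] [Algebra k k'] [Module.Finite k k'] [Algebra.IsSeparable k k'],
        IrreducibleSpace (PrimeSpectrum (k' ⊗[k] R)),
      IrreducibleSpace (PrimeSpectrum (SeparableClosure k ⊗[k] R)),
      IrreducibleSpace (PrimeSpectrum (AlgebraicClosure k ⊗[k] R))].TFAE := by
  tfae_have 1 → 2 := fun h k' _ _ _ _ => h k'
  tfae_have 2 → 3 := by
    intro h
    rw [PrimeSpectrum.irreducibleSpace_iff_isPrime_nilradical]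
    apply nilradical_isPrime_of_forall_finite
    intro E hE
    haveI := hE
    haveI : Algebra.IsSeparable k E :=
      Algebra.isSeparable_tower_bot_of_isSeparable k E (SeparableClosure k)
    exact PrimeSpectrum.irreducibleSpace_iff_isPrime_nilradical.1 (h E)
  tfae_have 3 → 1 := by
    intro h k' _ _
    rw [PrimeSpectrum.irreducibleSpace_iff_isPrime_nilradical] at h ⊢
    exact nilradical_isPrime_tensor_of_isSepClosed_ext h k'
  tfae_have 1 → 4 := fun h => h _
  tfae_have 4 → 1 := by
    intro h k' _ _
    rw [PrimeSpectrum.irreducibleSpace_iff_isPrime_nilradical] at h ⊢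
    exact nilradical_isPrime_tensor_of_isSepClosed_ext h k'
  tfae_finish

theorem tfae_geomIntegral {k S : Type u} [Field k] [CommRing S] [Algebra k S] :
    [∀ (k' : Type u) [Field k'] [Algebra k k'], IsDomain (k' ⊗[k] S),
      ∀ (k' : Type u) [Field k'] [Algebra k k'] [Module.Finite k k'], IsDomain (k' ⊗[k] S),
      IsDomain (AlgebraicClosure k ⊗[k] S)].TFAE := by
  tfae_have 1 → 2 := fun h k' _ _ _ => h k'
  tfae_have 2 → 3 := by
    intro h
    apply isDomain_of_forall_finite
    intro E hE
    haveI := hE
    exact h E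
  tfae_have 3 → 1 := by
    intro h k' _ _
    haveI := h
    haveI := nontrivial_tensor_field k (AlgebraicClosure k) k'
    obtain ⟨m, hm⟩ := Ideal.exists_maximal (AlgebraicClosure k ⊗[k] k')
    haveI := hm
    haveI : IsDomain ((AlgebraicClosure k ⊗[k] k') ⧸ m) := Ideal.Quotient.isDomain m
    haveI : IsDomain (((AlgebraicClosure k ⊗[k] k') ⧸ m) ⊗[AlgebraicClosure k]
        (AlgebraicClosure k ⊗[k] S)) := isDomain_tensor_of_isAlgClosed _ _ _
    obtain ⟨ψ, hψ⟩ := exists_injective_to_common_ext (R := S) m
    exact Function.Injective.isDomain ψ hψ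
  tfae_finish

/-- Transitivity of geometric irreducibility. -/
theorem geomIrr_trans {k K S : Type u} [Field k] [Field K] [Algebra k K] [CommRing S]
    [Algebra K S] [Algebra k S] [IsScalarTower k K S]
    (hK : ∀ (k' : Type u) [Field k'] [Algebra k k'], (nilradical (k' ⊗[k] K)).IsPrime)
    (hS : ∀ (K' : Type u) [Field K'] [Algebra K K'], (nilradical (K' ⊗[K] S)).IsPrime)
    (k' : Type u) [Field k'] [Algebra k k'] : (nilradical (k' ⊗[k] S)).IsPrime := by
  have hT : (nilradical (K ⊗[k] k')).IsPrime :=
    nilradical_isPrime_of_injective (Algebra.TensorProduct.comm k K k').toRingEquiv.toRingHom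
      (Algebra.TensorProduct.comm k K k').injective (by exact hK k')
  haveI := hT
  haveI : IsDomain ((K ⊗[k] k') ⧸ nilradical (K ⊗[k] k')) := Ideal.Quotient.isDomain _
  have hF : (nilradical (S ⊗[K] FractionRing ((K ⊗[k] k') ⧸ nilradical (K ⊗[k] k')))).IsPrime :=
    nilradical_isPrime_of_injective (Algebra.TensorProduct.comm K S _).toRingEquiv.toRingHom
      (Algebra.TensorProduct.comm K S _).injective (by exact hS _)
  let g1 : (K ⊗[k] k') →ₐ[K] (K ⊗[k] k') ⧸ nilradical (K ⊗[k] k') := Ideal.Quotient.mkₐ K _
  let g2 : ((K ⊗[k] k') ⧸ nilradical (K ⊗[k] k')) →ₐ[K]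
      FractionRing ((K ⊗[k] k') ⧸ nilradical (K ⊗[k] k')) := IsScalarTower.toAlgHom K _ _
  have hg1 : Function.Surjective g1 := Ideal.Quotient.mkₐ_surjective K _
  have hg2 : Function.Injective g2 := IsFractionRing.injective _ _
  have hχ2 : Function.Injective (Algebra.TensorProduct.map (AlgHom.id K S) g2) :=
    Module.Flat.lTensor_preserves_injective_linearMap _ hg2
  have hker1 : RingHom.ker (Algebra.TensorProduct.map (AlgHom.id K S) g1) ≤
      nilradical (S ⊗[K] (K ⊗[k] k')) := by
    rw [Algebra.TensorProduct.lTensor_ker g1 hg1, Ideal.map_le_iff_le_comap]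
    intro a ha
    have ha' : a ∈ nilradical (K ⊗[k] k') := by
      have : RingHom.ker g1 = nilradical (K ⊗[k] k') := Ideal.Quotient.mkₐ_ker K _
      rw [← this]; exact ha
    exact mem_nilradical.2 ((mem_nilradical.1 ha').map _)
  have h2 : (nilradical (S ⊗[K] ((K ⊗[k] k') ⧸ nilradical (K ⊗[k] k')))).IsPrime :=
    nilradical_isPrime_of_injective (Algebra.TensorProduct.map (AlgHom.id K S) g2).toRingHom hχ2 (by exact hF)
  have h1 : (nilradical (S ⊗[K] (K ⊗[k] k'))).IsPrime :=
    nilradical_isPrime_of_ker_le_nilradical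
      (Algebra.TensorProduct.map (AlgHom.id K S) g1).toRingHom hker1 (by exact h2)
  let e := Algebra.TensorProduct.cancelBaseChange k K K S k'
  have h0 : (nilradical (S ⊗[k] k')).IsPrime :=
    nilradical_isPrime_of_injective e.symm.toRingEquiv.toRingHom e.symm.injective (by exact h1)
  exact nilradical_isPrime_of_injective (Algebra.TensorProduct.comm k k' S).toRingEquiv.toRingHom
    (Algebra.TensorProduct.comm k k' S).injective (by exact h0)

end Groth.Agent.Lib.GeomIrr
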