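import Mathlib
import Groth.Agent.Lib.GeomIrr3_lead

/-!
# Geometric irreducibility of a field extension and separable elements (lead)
-/

set_option autoImplicit false
set_option maxSynthPendingDepth 3
universe u
open TensorProduct Polynomial

namespace Groth.Agent.Lib.GeomIrr

theorem mem_range_of_isSeparable_of_geomIrr {k K : Type u} [Field k] [Field K] [Algebra k K]
    (hGI : ∀ (k' : Type u) [Field k'] [Algebra k k'], (nilradical (k' ⊗[k] K)).IsPrime)
    (α : K) (hsep : IsSeparable k α) : α ∈ Set.range (algebraMap k K) := by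
  by_contra hα
  have hint : IsIntegral k α := hsep.isIntegral
  have hirr : Irreducible (minpoly k α) := minpoly.irreducible hint
  haveI : Fact (Irreducible (minpoly k α)) := ⟨hirr⟩
  have hfne : minpoly k α ≠ 0 := minpoly.ne_zero hint
  have hdeg2 : 2 ≤ (minpoly k α).natDegree := by
    have h0 : 0 < (minpoly k α).natDegree := minpoly.natDegree_pos hint
    have h1 : (minpoly k α).natDegree ≠ 1 := by
      intro h1
      apply hα
      have hd : (minpoly k α).degree = 1 := by rw [degree_eq_natDegree hfne, h1]; rfl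
      exact RingHom.mem_range.1 (minpoly.mem_range_of_degree_eq_one k α hd)
    omega
  have hT : (nilradical (K ⊗[k] AdjoinRoot (minpoly k α))).IsPrime :=
    nilradical_isPrime_of_injective
      (Algebra.TensorProduct.comm k K (AdjoinRoot (minpoly k α))).toRingEquiv.toRingHom
      (Algebra.TensorProduct.comm k K (AdjoinRoot (minpoly k α))).injective
      (by exact hGI (AdjoinRoot (minpoly k α)))
  set fK := (minpoly k α).map (algebraMap k K) with hfK
  have hroot : IsRoot fK α := by
    rw [IsRoot.def, hfK, eval_map_algebraMap]; exact minpoly.aeval k α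
  set g := fK /ₘ (X - C α) with hg
  have hfac : (X - C α) * g = fK := mul_divByMonic_eq_iff_isRoot.2 hroot
  have hsepK : fK.Separable := Separable.map hsep
  have hgα : g.eval α ≠ 0 := by
    intro h0
    have hdvd : (X - C α) ∣ g := dvd_iff_isRoot.2 h0
    obtain ⟨g', hg'⟩ := hdvd
    have hsq : (X - C α) * (X - C α) ∣ fK := ⟨g', by rw [← hfac, hg', mul_assoc]⟩
    exact not_isUnit_X_sub_C α (hsepK.squarefree _ hsq)
  have hgdeg : g.natDegree ≠ 0 := by
    have h1 : g.natDegree = fK.natDegree - 1 := by
      rw [hg, natDegree_divByMonic _ (monic_X_sub_C α), natDegree_X_sub_C]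
    rw [h1, hfK, natDegree_map]; omega
  have hev : ∀ x : K, aeval x g = g.eval x := fun x => by rw [coe_aeval_eq_eval]
  let t : K ⊗[k] AdjoinRoot (minpoly k α) := (1 : K) ⊗ₜ[k] AdjoinRoot.root (minpoly k α)
  have ht : aeval t fK = 0 := by
    rw [hfK, aeval_map_algebraMap]
    have ht' : t = (Algebra.TensorProduct.includeRight :
        AdjoinRoot (minpoly k α) →ₐ[k] K ⊗[k] AdjoinRoot (minpoly k α))
        (AdjoinRoot.root (minpoly k α)) := rfl
    rw [ht', aeval_algHom_apply, AdjoinRoot.aeval_eq, AdjoinRoot.mk_self, map_zero]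
  have hab : (t - algebraMap K (K ⊗[k] AdjoinRoot (minpoly k α)) α) * aeval t g = 0 := by
    rw [← ht, ← hfac, map_mul, map_sub, aeval_X, aeval_C]
  -- the K-point
  let σE : AdjoinRoot (minpoly k α) →ₐ[k] K :=
    AdjoinRoot.liftAlgHom (minpoly k α) (Algebra.ofId k K) α (by
      rw [Algebra.toRingHom_ofId, ← aeval_def]; exact minpoly.aeval k α)
  let σ : K ⊗[k] AdjoinRoot (minpoly k α) →ₐ[K] K :=
    Algebra.TensorProduct.lift (AlgHom.id K K) σE (fun _ _ => Commute.all _ _)
  have hσt : σ t = α := by
    show σ ((1 : K) ⊗ₜ[k] AdjoinRoot.root (minpoly k α)) = α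
    rw [Algebra.TensorProduct.lift_tmul]; simp [σE]
  have hb : ¬ IsNilpotent (aeval t g) := by
    intro hnil
    have h1 : IsNilpotent (σ (aeval t g)) := hnil.map σ
    rw [← aeval_algHom_apply, hσt] at h1
    have h2 : aeval α g = 0 := h1.eq_zero
    exact hgα (by rw [← hev]; exact h2)
  -- the other point
  obtain ⟨α', hα'⟩ := IsAlgClosed.exists_aeval_eq_zero (AlgebraicClosure K) g
    (degree_ne_of_natDegree_ne hgdeg)
  have hne : α' ≠ algebraMap K (AlgebraicClosure K) α := by
    rintro rfl
    rw [aeval_algebraMap_apply] at hα'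
    have h2 : aeval α g = 0 :=
      (algebraMap K (AlgebraicClosure K)).injective (by rw [hα', map_zero])
    exact hgα (by rw [← hev]; exact h2)
  have hα'f : (minpoly k α).eval₂ (Algebra.ofId k (AlgebraicClosure K)) α' = 0 := by
    have h1 : aeval α' fK = 0 := by rw [← hfac, map_mul, hα', mul_zero]
    rw [hfK, aeval_map_algebraMap] at h1
    rw [Algebra.toRingHom_ofId, ← aeval_def]; exact h1
  let τE : AdjoinRoot (minpoly k α) →ₐ[k] AlgebraicClosure K :=
    AdjoinRoot.liftAlgHom (minpoly k α) (Algebra.ofId k _) α' hα'f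
  let τ : K ⊗[k] AdjoinRoot (minpoly k α) →ₐ[k] AlgebraicClosure K :=
    Algebra.TensorProduct.productMap (IsScalarTower.toAlgHom k K (AlgebraicClosure K)) τE
  have ha : ¬ IsNilpotent (t - algebraMap K (K ⊗[k] AdjoinRoot (minpoly k α)) α) := by
    intro hnil
    have h1 := hnil.map τ
    have e1 : τ t = α' := by
      show τ ((1 : K) ⊗ₜ[k] AdjoinRoot.root (minpoly k α)) = α'
      rw [Algebra.TensorProduct.productMap_apply_tmul]; simp [τE]
    have e2 : τ (algebraMap K (K ⊗[k] AdjoinRoot (minpoly k α)) α) =
        algebraMap K (AlgebraicClosure K) α := by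
      rw [Algebra.TensorProduct.algebraMap_apply, Algebra.TensorProduct.productMap_apply_tmul]
      simp
    rw [map_sub, e1, e2] at h1
    exact hne (sub_eq_zero.1 h1.eq_zero)
  have h0 : (t - algebraMap K (K ⊗[k] AdjoinRoot (minpoly k α)) α) * aeval t g ∈
      nilradical (K ⊗[k] AdjoinRoot (minpoly k α)) := by
    rw [hab]; exact Ideal.zero_mem _
  rcases hT.mem_or_mem h0 with h | h
  · exact ha (mem_nilradical.1 h)
  · exact hb (mem_nilradical.1 h)

theorem irreducible_map_of_sepClosed_in {k K : Type u} [Field k] [Field K] [Algebra k K]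
    (hK : ∀ α : K, IsSeparable k α → α ∈ Set.range (algebraMap k K))
    (h : k[X]) (hirr : Irreducible h) (hsep : h.Separable) :
    Irreducible (h.map (algebraMap k K)) := by
  have hnu : ¬ IsUnit (h.map (algebraMap k K)) := by
    rw [isUnit_map]; exact hirr.not_isUnit
  obtain ⟨p, hpm, hpirr, hpdvd⟩ := exists_monic_irreducible_factor _ hnu
  have hcoeff : ∀ n, p.coeff n ∈ Set.range (algebraMap k K) := by
    intro n
    apply hK
    have hsplit : (p.map (algebraMap K (AlgebraicClosure K))).Splits := IsAlgClosed.splits _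
    have hmon : (p.map (algebraMap K (AlgebraicClosure K))).Monic := hpm.map _
    have hroots : ∀ a ∈ (p.map (algebraMap K (AlgebraicClosure K))).roots,
        a ∈ (algebraMap (separableClosure k (AlgebraicClosure K)) (AlgebraicClosure K)).range := by
      intro a ha
      have hra : IsRoot (p.map (algebraMap K (AlgebraicClosure K))) a :=
        (mem_roots hmon.ne_zero).1 ha
      have hah : aeval a h = 0 := by
        have h1 : (p.map (algebraMap K (AlgebraicClosure K))) ∣
            ((h.map (algebraMap k K)).map (algebraMap K (AlgebraicClosure K))) :=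
          Polynomial.map_dvd _ hpdvd
        have h2 := hra.dvd h1
        rw [Polynomial.map_map, ← IsScalarTower.algebraMap_eq, IsRoot.def, eval_map_algebraMap] at h2
        exact h2
      have hsepa : IsSeparable k a := hsep.of_dvd (minpoly.dvd k a hah)
      exact ⟨⟨a, mem_separableClosure_iff.2 hsepa⟩, rfl⟩
    have hlift := hsplit.mem_lift_of_roots_mem_range hmon
      (algebraMap (separableClosure k (AlgebraicClosure K)) (AlgebraicClosure K)) hroots
    rw [lifts_iff_coeff_lifts] at hlift
    obtain ⟨s, hs⟩ := hlift n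
    rw [coeff_map] at hs
    have hsepc : IsSeparable k (algebraMap K (AlgebraicClosure K) (p.coeff n)) := by
      rw [← hs]; exact mem_separableClosure_iff.1 s.2
    have hmp := minpoly.algebraMap_eq (A := k) (algebraMap K (AlgebraicClosure K)).injective
      (p.coeff n)
    unfold IsSeparable at hsepc ⊢
    rwa [hmp] at hsepc
  obtain ⟨p0, hp0⟩ := (mem_lifts p).1 ((lifts_iff_coeff_lifts p).2 hcoeff)
  have hdvd0 : p0 ∣ h := (map_dvd_map' (algebraMap k K)).1 (by rw [hp0]; exact hpdvd)
  rcases hirr.dvd_iff.1 hdvd0 with hu | hass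
  · exfalso
    apply hpirr.not_isUnit
    rw [← hp0, isUnit_map]; exact hu
  · have hass' : Associated (h.map (algebraMap k K)) p := by
      rw [← hp0]; exact hass.map (mapRingHom (algebraMap k K))
    exact hass'.symm.irreducible hpirr

theorem isDomain_tensor_of_finite_separable {k K k' : Type u} [Field k] [Field K] [Algebra k K]
    [Field k'] [Algebra k k'] [FiniteDimensional k k'] [Algebra.IsSeparable k k']
    (hK : ∀ α : K, IsSeparable k α → α ∈ Set.range (algebraMap k K)) : IsDomain (K ⊗[k] k') := by
  obtain ⟨β, hβ⟩ := Field.exists_primitive_element k k'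
  have hint : IsIntegral k β := Algebra.IsIntegral.isIntegral β
  have hirrK : Irreducible ((minpoly k β).map (algebraMap k K)) :=
    irreducible_map_of_sepClosed_in hK _ (minpoly.irreducible hint)
      (Algebra.IsSeparable.isSeparable k β)
  haveI : Fact (Irreducible ((minpoly k β).map (algebraMap k K))) := ⟨hirrK⟩
  let t : K ⊗[k] k' := (1 : K) ⊗ₜ[k] β
  have ht : ((minpoly k β).map (algebraMap k K)).eval₂ (Algebra.ofId K (K ⊗[k] k')) t = 0 := by
    rw [Algebra.toRingHom_ofId, ← aeval_def, aeval_map_algebraMap]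
    have ht' : t = (Algebra.TensorProduct.includeRight : k' →ₐ[k] K ⊗[k] k') β := rfl
    rw [ht', aeval_algHom_apply, minpoly.aeval, map_zero]
  let φ : AdjoinRoot ((minpoly k β).map (algebraMap k K)) →ₐ[K] K ⊗[k] k' :=
    AdjoinRoot.liftAlgHom _ (Algebra.ofId K _) t ht
  haveI := nontrivial_tensor_field k K k'
  have hφinj : Function.Injective φ := RingHom.injective φ.toRingHom
  have hφsurj : Function.Surjective φ := by
    have hβmem : ∀ c : k', (1 : K) ⊗ₜ[k] c ∈ φ.range := by
      intro c
      have hc : c ∈ Algebra.adjoin k {β} := by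
        have h1 : (IntermediateField.adjoin k {β}).toSubalgebra = Algebra.adjoin k {β} :=
          IntermediateField.adjoin_simple_toSubalgebra_of_isAlgebraic hint.isAlgebraic
        rw [← h1, hβ, IntermediateField.top_toSubalgebra]; exact Algebra.mem_top
      have hle : Algebra.adjoin k {β} ≤ (φ.range.restrictScalars k).comap
          (Algebra.TensorProduct.includeRight : k' →ₐ[k] K ⊗[k] k') :=
        Algebra.adjoin_le (by
          intro x hx
          have hx' : x = β := hx
          rw [hx']
          show (Algebra.TensorProduct.includeRight : k' →ₐ[k] K ⊗[k] k') β ∈ φ.range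
          exact ⟨AdjoinRoot.root _, AdjoinRoot.liftAlgHom_root _ _ _ _⟩)
      exact hle hc
    intro z
    induction z using TensorProduct.induction_on with
    | zero => exact ⟨0, map_zero _⟩
    | tmul a c =>
      have hac : a ⊗ₜ[k] c = a • ((1 : K) ⊗ₜ[k] c) := by
        rw [TensorProduct.smul_tmul', smul_eq_mul, mul_one]
      rw [hac]
      exact (AlgHom.mem_range φ).1 (φ.range.smul_mem (hβmem c) a)
    | add x y hx hy =>
      obtain ⟨x', rfl⟩ := hx
      obtain ⟨y', rfl⟩ := hy
      exact ⟨x' + y', map_add _ _ _⟩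
  let e := AlgEquiv.ofBijective φ ⟨hφinj, hφsurj⟩
  exact Function.Injective.isDomain e.symm.toRingEquiv.toRingHom e.symm.injective

theorem geomIrr_of_sepClosed_in {k K : Type u} [Field k] [Field K] [Algebra k K]
    (hK : ∀ α : K, IsSeparable k α → α ∈ Set.range (algebraMap k K)) :
    ∀ (k' : Type u) [Field k'] [Algebra k k'], IrreducibleSpace (PrimeSpectrum (k' ⊗[k] K)) := by
  apply ((tfae_geomIrr (k := k) (R := K)).out 1 0).1
  intro k' _ _ _ _
  rw [PrimeSpectrum.irreducibleSpace_iff_isPrime_nilradical]
  haveI : IsDomain (K ⊗[k] k') := isDomain_tensor_of_finite_separable hK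
  have h1 : (nilradical (K ⊗[k] k')).IsPrime := by
    rw [nilradical_eq_zero, Ideal.zero_eq_bot]; exact Ideal.isPrime_bot
  exact nilradical_isPrime_of_injective (Algebra.TensorProduct.comm k k' K).toRingEquiv.toRingHom
    (Algebra.TensorProduct.comm k k' K).injective (by exact h1)

theorem main_S2150 {k K : Type u} [Field k] [Field K] [Algebra k K] :
    (∀ (k' : Type u) [Field k'] [Algebra k k'], IrreducibleSpace (PrimeSpectrum (k' ⊗[k] K))) ↔
      ∀ α : K, IsSeparable k α → α ∈ Set.range (algebraMap k K) :=
  ⟨fun h α hα => mem_range_of_isSeparable_of_geomIrr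
    (fun k' _ _ => PrimeSpectrum.irreducibleSpace_iff_isPrime_nilradical.1 (h k')) α hα,
   fun h => geomIrr_of_sepClosed_in h⟩

end Groth.Agent.Lib.GeomIrr
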