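import Groth.Prelude.Def_FDesc
import Mathlib.AlgebraicGeometry.Geometrically.Integral
import Mathlib.AlgebraicGeometry.Morphisms.Flat
import Mathlib.AlgebraicGeometry.PullbackCarrier
import Mathlib.RingTheory.Flat.Basic

/-!
# Geometric properties and extension of the base field (helper4)

`geometrically P f ↔ geometrically P (FBase.bcStr f K)` for object properties `P` that descend
along flat surjective morphisms (connected, irreducible, reduced, integral).
-/

set_option autoImplicit false
set_option linter.style.haveILetI false
universe u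

open CategoryTheory AlgebraicGeometry CategoryTheory.Limits

namespace Groth.Agent.Lib.GeomBC_helper4

/-- Two field extensions of `k` embed in a common field, compatibly with `k`. -/
theorem exists_compositum (k K L : Type u) [Field k] [Field K] [Field L] [Algebra k K]
    [Algebra k L] :
    ∃ (M : Type u) (_ : Field M) (iK : K →+* M) (iL : L →+* M),
      iK.comp (algebraMap k K) = iL.comp (algebraMap k L) := by
  classical
  haveI : Nontrivial (TensorProduct k K L) :=
    Algebra.TensorProduct.nontrivial_of_algebraMap_injective_of_flat_left k K L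
      (algebraMap k L).injective
  obtain ⟨m, hm⟩ := Ideal.exists_maximal (TensorProduct k K L)
  letI : Field (TensorProduct k K L ⧸ m) := Ideal.Quotient.field m
  refine ⟨TensorProduct k K L ⧸ m, inferInstance,
    (Ideal.Quotient.mk m).comp (Algebra.TensorProduct.includeLeftRingHom),
    (Ideal.Quotient.mk m).comp
      (Algebra.TensorProduct.includeRight (R := k) (A := K) (B := L)).toRingHom, ?_⟩
  ext c
  simp only [RingHom.comp_apply]
  congr 1
  show (Algebra.TensorProduct.includeLeft (R := k) (S := k) (A := K) (B := L))
      (algebraMap k K c) =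
    (Algebra.TensorProduct.includeRight (R := k) (A := K) (B := L)) (algebraMap k L c)
  rw [AlgHom.commutes, AlgHom.commutes]

/-- An object property of schemes descends along flat surjective morphisms. -/
def DescendsFlatSurj (P : ObjectProperty Scheme.{u}) : Prop :=
  ∀ ⦃Z' Z : Scheme.{u}⦄ (q : Z' ⟶ Z) [Flat q] [Surjective q], P Z' → P Z

theorem descendsFlatSurj_connected : DescendsFlatSurj (fun X : Scheme.{u} => ConnectedSpace X) :=
  fun _ _ q _ _ _ => q.surjective.connectedSpace q.continuous

theorem descendsFlatSurj_irreducible :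
    DescendsFlatSurj (fun X : Scheme.{u} => IrreducibleSpace X) :=
  fun _ _ q _ _ _ => q.surjective.irreducibleSpace q.continuous

theorem descendsFlatSurj_reduced : DescendsFlatSurj (fun X : Scheme.{u} => IsReduced X) := by
  intro Z' Z q _ _ hZ'
  haveI : IsReduced Z' := hZ'
  haveI : ∀ x : Z, _root_.IsReduced (Z.presheaf.stalk x) := by
    intro x
    obtain ⟨x', rfl⟩ := q.surjective x
    have hinj : Function.Injective (q.stalkMap x').hom := by
      algebraize [(q.stalkMap x').hom]
      have : Module.FaithfullyFlat (Z.presheaf.stalk (q x')) (Z'.presheaf.stalk x') :=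
        @Module.FaithfullyFlat.of_flat_of_isLocalHom _ _ _ _ _ _ _
          (Flat.stalkMap q x') (q.toLRSHom.prop x')
      exact ‹RingHom.FaithfullyFlat _›.injective
    exact isReduced_of_injective (q.stalkMap x').hom hinj
  exact isReduced_of_isReduced_stalk Z

theorem descendsFlatSurj_inf {P Q : ObjectProperty Scheme.{u}} (hP : DescendsFlatSurj P)
    (hQ : DescendsFlatSurj Q) : DescendsFlatSurj (P ⊓ Q) :=
  fun _ _ q _ _ h => ⟨hP q h.1, hQ q h.2⟩

variable {k : Type u} [Field k] {X : Scheme.{u}}

/-- If `X ⊗_k K` is geometrically `P` over `K` then `X` is geometrically `P` over `k`, provided `P`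
descends along flat surjective morphisms. -/
theorem geometrically_of_bcStr {P : ObjectProperty Scheme.{u}} (hP : DescendsFlatSurj P)
    (f : X ⟶ Spec (CommRingCat.of k)) (K : Type u) [Field K] [Algebra k K]
    (h : geometrically P (FBase.bcStr f K)) : geometrically P f := by
  rw [geometrically_iff_of_commRing]
  intro L _ _ Z fst snd hZ
  obtain ⟨M, _, iK, iL, hcomp⟩ := exists_compositum k K L
  -- base change of Z to M
  let ZM := pullback snd (Spec.map (CommRingCat.ofHom iL))
  have hcompSpec : Spec.map (CommRingCat.ofHom iL) ≫ Spec.map (CommRingCat.ofHom (algebraMap k L)) =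
      Spec.map (CommRingCat.ofHom iK) ≫ Spec.map (CommRingCat.ofHom (algebraMap k K)) := by
    rw [← Spec.map_comp, ← Spec.map_comp, ← CommRingCat.ofHom_comp, ← CommRingCat.ofHom_comp, hcomp]
  -- big square: ZM is the pullback of f along Spec M → Spec k
  have hbig : IsPullback (pullback.fst snd (Spec.map (CommRingCat.ofHom iL)) ≫ fst)
      (pullback.snd snd (Spec.map (CommRingCat.ofHom iL))) f
      (Spec.map (CommRingCat.ofHom iL) ≫ Spec.map (CommRingCat.ofHom (algebraMap k L))) :=
    (IsPullback.of_hasPullback snd (Spec.map (CommRingCat.ofHom iL))).paste_horiz hZ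
  rw [hcompSpec] at hbig
  -- the map ZM → X_K
  have hK : IsPullback (FBase.bcπ f K) (FBase.bcStr f K) f
      (Spec.map (CommRingCat.ofHom (algebraMap k K))) :=
    IsPullback.of_hasPullback f _
  let t : ZM ⟶ FBase.bc f K := hK.lift
    (pullback.fst snd (Spec.map (CommRingCat.ofHom iL)) ≫ fst)
    (pullback.snd snd (Spec.map (CommRingCat.ofHom iL)) ≫ Spec.map (CommRingCat.ofHom iK))
    (by rw [hbig.w, Category.assoc])
  have ht1 : t ≫ FBase.bcπ f K = pullback.fst snd (Spec.map (CommRingCat.ofHom iL)) ≫ fst :=
    hK.lift_fst _ _ _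
  have ht2 : t ≫ FBase.bcStr f K =
      pullback.snd snd (Spec.map (CommRingCat.ofHom iL)) ≫ Spec.map (CommRingCat.ofHom iK) :=
    hK.lift_snd _ _ _
  have hleft : IsPullback t (pullback.snd snd (Spec.map (CommRingCat.ofHom iL)))
      (FBase.bcStr f K) (Spec.map (CommRingCat.ofHom iK)) := by
    refine IsPullback.of_right ?_ ht2 hK
    rw [ht1]
    exact hbig
  have hPZM : P ZM := h (Spec.map (CommRingCat.ofHom iK)) t _ hleft
  -- descend along ZM → Z
  haveI : Flat (Spec.map (CommRingCat.ofHom iL)) := by
    rw [Flat.SpecMap_iff]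
    algebraize [iL]
    exact (inferInstanceAs (Module.Flat L M))
  haveI : Surjective (Spec.map (CommRingCat.ofHom iL)) :=
    ⟨Function.surjective_to_subsingleton _⟩
  exact hP (pullback.fst snd (Spec.map (CommRingCat.ofHom iL))) hPZM

theorem geometrically_iff_bcStr {P : ObjectProperty Scheme.{u}} (hP : DescendsFlatSurj P)
    (f : X ⟶ Spec (CommRingCat.of k)) (K : Type u) [Field K] [Algebra k K] :
    geometrically P f ↔ geometrically P (FBase.bcStr f K) :=
  ⟨fun h => (geometrically P).pullback_snd _ _ h, geometrically_of_bcStr hP f K⟩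

end Groth.Agent.Lib.GeomBC_helper4
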