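import Mathlib
import Groth.Prelude.Def_Curv2
import Groth.Prelude.Def_FDesc
import Groth.Agent.Lib.GeomIrr2_lead
import Groth.Agent.Lib.GeomBC_helper4

set_option autoImplicit false
set_option linter.style.haveILetI false
set_option linter.unusedSectionVars false
universe u
open scoped TensorProduct
open CategoryTheory CategoryTheory.Limits AlgebraicGeometry

namespace Groth.Agent.Lib.GeomIrrSchH4

section top

theorem isConnected_preimage_of_isOpenMap {α β : Type*} [TopologicalSpace α] [TopologicalSpace β]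
    {f : α → β} (hf : IsOpenMap f) (hfib : ∀ t : β, IsConnected (f ⁻¹' {t})) {Z : Set β}
    (hZ : IsConnected Z) : IsConnected (f ⁻¹' Z) := by
  have hsurj : Function.Surjective f := fun t => let ⟨x, hx⟩ := (hfib t).1; ⟨x, hx⟩
  refine ⟨hZ.nonempty.preimage hsurj, ?_⟩
  rintro u v hu hv huv ⟨a, haZ, hau⟩ ⟨b, hbZ, hbv⟩
  have h1 : Z ⊆ f '' u ∪ f '' v := by
    intro z hz
    obtain ⟨x, rfl⟩ := hsurj z
    rcases huv hz with h | h
    · exact Or.inl ⟨x, h, rfl⟩
    · exact Or.inr ⟨x, h, rfl⟩
  obtain ⟨z, hzZ, ⟨x1, hx1u, hx1⟩, ⟨x2, hx2v, hx2⟩⟩ :=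
    hZ.isPreconnected (f '' u) (f '' v) (hf u hu) (hf v hv) h1
      ⟨f a, haZ, a, hau, rfl⟩ ⟨f b, hbZ, b, hbv, rfl⟩
  have hF : f ⁻¹' {z} ⊆ u ∪ v := by
    intro x hx
    have hx' : f x = z := hx
    exact huv (show f x ∈ Z by rw [hx']; exact hzZ)
  obtain ⟨y, hyF, hyu, hyv⟩ := (hfib z).isPreconnected u v hu hv hF
    ⟨x1, hx1, hx1u⟩ ⟨x2, hx2, hx2v⟩
  have hyF' : f y = z := hyF
  exact ⟨y, (show f y ∈ Z by rw [hyF']; exact hzZ), hyu, hyv⟩

end top

variable {k : Type u} [Field k]

instance subsingleton_spec_field : Subsingleton ↥(Spec (CommRingCat.of k)) :=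
  inferInstanceAs (Subsingleton (PrimeSpectrum k))

theorem universallyOpen_specMap (K : Type u) [Field K] [Algebra k K] :
    UniversallyOpen (Spec.map (CommRingCat.ofHom (algebraMap k K))) := inferInstance

theorem geomIrr_specMap [IsSepClosed k] (K : Type u) [Field K] [Algebra k K] :
    GeometricallyIrreducible (Spec.map (CommRingCat.ofHom (algebraMap k K))) := by
  refine ⟨(geometrically_iff_of_commRing_of_isClosedUnderIsomorphisms).mpr fun L _ _ => ?_⟩
  have hK : (nilradical K).IsPrime := by rw [nilradical_eq_zero]; exact Ideal.isPrime_bot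
  have hL : (nilradical L).IsPrime := by rw [nilradical_eq_zero]; exact Ideal.isPrime_bot
  have hnil : (nilradical (K ⊗[k] L)).IsPrime :=
    Groth.Agent.Lib.GeomIrr.nilradical_isPrime_tensor_of_isSepClosed hK hL
  haveI : IrreducibleSpace (PrimeSpectrum (K ⊗[k] L)) :=
    PrimeSpectrum.irreducibleSpace_iff_isPrime_nilradical.mpr hnil
  haveI : IrreducibleSpace ↥(Spec (CommRingCat.of (K ⊗[k] L))) := ‹_›
  exact (pullbackSpecIso k K L).hom.homeomorph.irreducibleSpace_iff.mpr inferInstance

theorem geomConn_specMap [IsSepClosed k] (K : Type u) [Field K] [Algebra k K] :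
    GeometricallyConnected (Spec.map (CommRingCat.ofHom (algebraMap k K))) := by
  refine ⟨(geometrically_iff_of_commRing_of_isClosedUnderIsomorphisms).mpr fun L _ _ => ?_⟩
  haveI : IrreducibleSpace ↥(pullback (Spec.map (CommRingCat.ofHom (algebraMap k K)))
      (Spec.map (CommRingCat.ofHom (algebraMap k L)))) :=
    pullback_of_geometrically (geomIrr_specMap (k := k) K).1 L _
  show ConnectedSpace ↥(pullback (Spec.map (CommRingCat.ofHom (algebraMap k K)))
      (Spec.map (CommRingCat.ofHom (algebraMap k L))))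
  infer_instance

theorem geomIrr_of_irreducible [IsSepClosed k] {X : Scheme.{u}}
    (f : X ⟶ Spec (CommRingCat.of k)) [IrreducibleSpace X] : GeometricallyIrreducible f := by
  refine ⟨(geometrically_iff_of_commRing_of_isClosedUnderIsomorphisms).mpr fun K _ _ => ?_⟩
  haveI := geomIrr_specMap (k := k) K
  haveI := universallyOpen_specMap (k := k) K
  show IrreducibleSpace ↥(pullback f (Spec.map (CommRingCat.ofHom (algebraMap k K))))
  infer_instance

theorem geomConn_of_connected [IsSepClosed k] {X : Scheme.{u}}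
    (f : X ⟶ Spec (CommRingCat.of k)) [ConnectedSpace X] : GeometricallyConnected f := by
  refine ⟨(geometrically_iff_of_commRing_of_isClosedUnderIsomorphisms).mpr fun K _ _ => ?_⟩
  haveI := geomConn_specMap (k := k) K
  haveI := universallyOpen_specMap (k := k) K
  show ConnectedSpace ↥(pullback f (Spec.map (CommRingCat.ofHom (algebraMap k K))))
  infer_instance

theorem main2500 [IsAlgClosed k] {X : Scheme.{u}} (f : X ⟶ Spec (CommRingCat.of k))
    [IrreducibleSpace X] : GeometricallyIrreducible f := geomIrr_of_irreducible f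

theorem main2501 [IsAlgClosed k] {X : Scheme.{u}} (f : X ⟶ Spec (CommRingCat.of k))
    [ConnectedSpace X] : GeometricallyConnected f := geomConn_of_connected f

theorem isIrreducible_preimage [IsSepClosed k] (K : Type u) [Field K] [Algebra k K]
    {X : Scheme.{u}} (f : X ⟶ Spec (CommRingCat.of k)) {Z : Set X} (hZ : IsIrreducible Z) :
    IsIrreducible ((FBase.bcπ f K).base ⁻¹' Z) := by
  haveI := geomIrr_specMap (k := k) K
  haveI := universallyOpen_specMap (k := k) K
  haveI : GeometricallyIrreducible (FBase.bcπ f K) :=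
    (inferInstance : GeometricallyIrreducible
      (pullback.fst f (Spec.map (CommRingCat.ofHom (algebraMap k K)))))
  have hopen : IsOpenMap (FBase.bcπ f K) :=
    (pullback.fst f (Spec.map (CommRingCat.ofHom (algebraMap k K)))).isOpenMap
  exact Scheme.Hom.isIrreducible_preimage (FBase.bcπ f K) hopen hZ

theorem isConnected_preimage [IsSepClosed k] (K : Type u) [Field K] [Algebra k K]
    {X : Scheme.{u}} (f : X ⟶ Spec (CommRingCat.of k)) {Z : Set X} (hZ : _root_.IsConnected Z) :
    _root_.IsConnected ((FBase.bcπ f K).base ⁻¹' Z) := by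
  haveI := geomConn_specMap (k := k) K
  haveI := universallyOpen_specMap (k := k) K
  haveI : GeometricallyConnected (FBase.bcπ f K) :=
    (inferInstance : GeometricallyConnected
      (pullback.fst f (Spec.map (CommRingCat.ofHom (algebraMap k K)))))
  have hopen : IsOpenMap (FBase.bcπ f K) :=
    (pullback.fst f (Spec.map (CommRingCat.ofHom (algebraMap k K)))).isOpenMap
  exact isConnected_preimage_of_isOpenMap hopen
    (fun t => Scheme.Hom.isConnected_preimage_singleton (FBase.bcπ f K) t) hZ

theorem main2531 {K : Type u} [IsAlgClosed k] [Field K] [Algebra k K] {X : Scheme.{u}}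
    (f : X ⟶ Spec (CommRingCat.of k)) {Z : Set X} (hZ : IsIrreducible Z) :
    IsIrreducible ((FBase.bcπ f K).base ⁻¹' Z) := isIrreducible_preimage K f hZ

theorem main2532 {K : Type u} [IsAlgClosed k] [Field K] [Algebra k K] {X : Scheme.{u}}
    (f : X ⟶ Spec (CommRingCat.of k)) {Z : Set X} (hZ : _root_.IsConnected Z) :
    _root_.IsConnected ((FBase.bcπ f K).base ⁻¹' Z) := isConnected_preimage K f hZ

theorem main1547 (k : Type u) [Field k] (X : Scheme.{u}) [X.Over (Spec (CommRingCat.of k))]
    [IsSepClosed k] (K : Type u) [Field K] [Algebra k K]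
    (T T' : Set (Curv2.bc k X K : Type u)) (hT : T ∈ irreducibleComponents (Curv2.bc k X K : Type u))
    (hT' : T' ∈ irreducibleComponents (Curv2.bc k X K : Type u))
    (h : (Curv2.bcFst k X K).base '' T = (Curv2.bcFst k X K).base '' T') : T = T' := by
  haveI := geomIrr_specMap (k := k) K
  haveI := universallyOpen_specMap (k := k) K
  have hopen : IsOpenMap (Curv2.bcFst k X K) := (Curv2.bcFst k X K).isOpenMap
  have h' := (Scheme.Hom.irreducibleComponentsEquiv (Curv2.bcFst k X K) hopen).injective
    (a₁ := ⟨T, hT⟩) (a₂ := ⟨T', hT'⟩) (Subtype.ext h)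
  exact congrArg Subtype.val h'

theorem main1538 (k : Type u) [Field k] (X : Scheme.{u}) [X.Over (Spec (CommRingCat.of k))]
    [IrreducibleSpace (Curv2.bc k X (SeparableClosure k))] :
    GeometricallyIrreducible (X ↘ (Spec (CommRingCat.of k))) := by
  haveI : IrreducibleSpace ↥(FBase.bc (X ↘ Spec (CommRingCat.of k)) (SeparableClosure k)) := ‹_›
  have h1 : GeometricallyIrreducible
      (FBase.bcStr (X ↘ Spec (CommRingCat.of k)) (SeparableClosure k)) :=
    geomIrr_of_irreducible _
  exact ⟨Groth.Agent.Lib.GeomBC_helper4.geometrically_of_bcStr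
    Groth.Agent.Lib.GeomBC_helper4.descendsFlatSurj_irreducible _ (SeparableClosure k) h1.1⟩

theorem main1559 (k : Type u) [Field k] (X : Scheme.{u}) [X.Over (Spec (CommRingCat.of k))]
    [ConnectedSpace (Curv2.bc k X (SeparableClosure k))] :
    GeometricallyConnected (X ↘ (Spec (CommRingCat.of k))) := by
  haveI : ConnectedSpace ↥(FBase.bc (X ↘ Spec (CommRingCat.of k)) (SeparableClosure k)) := ‹_›
  have h1 : GeometricallyConnected
      (FBase.bcStr (X ↘ Spec (CommRingCat.of k)) (SeparableClosure k)) :=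
    geomConn_of_connected _
  exact ⟨Groth.Agent.Lib.GeomBC_helper4.geometrically_of_bcStr
    Groth.Agent.Lib.GeomBC_helper4.descendsFlatSurj_connected _ (SeparableClosure k) h1.1⟩

end Groth.Agent.Lib.GeomIrrSchH4
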