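import Mathlib.RingTheory.Flat.FaithfullyFlat.Basic
import Mathlib.RingTheory.Flat.FaithfullyFlat.Algebra
import Mathlib.RingTheory.RingHom.Flat
import Mathlib.RingTheory.RingHom.FaithfullyFlat
import Mathlib.LinearAlgebra.TensorProduct.Tower

/-!
# Flatness descends along a faithfully flat second map (helper4)

`A → B → C` with `C` faithfully flat over `B` and flat over `A`: then `B` is flat over `A`.
-/

set_option autoImplicit false
universe u

open TensorProduct

namespace Groth.Agent.Lib.FlatDescent_helper4

theorem flat_of_faithfullyFlat_of_flat (A B C : Type u) [CommRing A] [CommRing B] [CommRing C]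
    [Algebra A B] [Algebra B C] [Algebra A C] [IsScalarTower A B C]
    [Module.FaithfullyFlat B C] [Module.Flat A C] : Module.Flat A B := by
  rw [Module.Flat.iff_lTensor_preserves_injective_linearMap]
  intro N P _ _ _ _ f hf
  have h1 : Function.Injective (LinearMap.lTensor C f) :=
    Module.Flat.lTensor_preserves_injective_linearMap f hf
  have h2 : Function.Injective (f.baseChange B) := by
    rw [← Module.FaithfullyFlat.lTensor_injective_iff_injective B C]
    have hsq : ∀ x : C ⊗[B] (B ⊗[A] N),
        (AlgebraTensorModule.cancelBaseChange A B C C P) (LinearMap.lTensor C (f.baseChange B) x) =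
          LinearMap.lTensor C f ((AlgebraTensorModule.cancelBaseChange A B C C N) x) := by
      intro x
      induction x using TensorProduct.induction_on with
      | zero => simp
      | add x y hx hy => simp only [map_add, hx, hy]
      | tmul c y =>
        induction y using TensorProduct.induction_on with
        | zero => simp
        | add y z hy hz => simp only [tmul_add, map_add, hy, hz]
        | tmul b n => simp
    intro x y hxy
    have := congrArg (AlgebraTensorModule.cancelBaseChange A B C C P) hxy
    rw [hsq, hsq] at this
    exact (AlgebraTensorModule.cancelBaseChange A B C C N).injective (h1 this)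
  exact h2

/-- `RingHom` version: if `g ∘ f` is flat and `g` is faithfully flat then `f` is flat. -/
theorem ringHom_flat_of_comp {A B C : Type u} [CommRing A] [CommRing B] [CommRing C]
    (f : A →+* B) (g : B →+* C) (hg : g.FaithfullyFlat) (hgf : (g.comp f).Flat) : f.Flat := by
  algebraize [f, g, g.comp f]
  exact flat_of_faithfullyFlat_of_flat A B C

end Groth.Agent.Lib.FlatDescent_helper4
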