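import Mathlib

/-!
# Flat + formally unramified + finite type over a ring with finitely many minimal primes
is of finite presentation (hence étale).  (helper4)
-/

open TensorProduct AlgebraicGeometry CategoryTheory

universe u

namespace Groth.Agent.Lib.FlatUnramFPH4

section Top

theorem finite_irreducibleComponents_of_isOpenEmbedding {A B : Type*} [TopologicalSpace A]
    [TopologicalSpace B] {j : A → B} (hj : Topology.IsOpenEmbedding j)
    (hB : (irreducibleComponents B).Finite) : (irreducibleComponents A).Finite := by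
  refine (hB.image (fun t => j ⁻¹' t)).subset ?_
  intro W hW
  have hirr : IsIrreducible (j '' W) := hW.1.image j hj.continuous.continuousOn
  obtain ⟨t, ht, hWt⟩ := exists_mem_irreducibleComponents_subset_of_isIrreducible (j '' W) hirr
  have hne : (t ∩ Set.range j).Nonempty := by
    obtain ⟨w, hw⟩ := hW.1.1
    exact ⟨j w, hWt ⟨w, hw, rfl⟩, w, rfl⟩
  have hcomp := preimage_mem_irreducibleComponents ht hj hne
  have hsub : W ⊆ j ⁻¹' t := fun w hw => hWt ⟨w, hw, rfl⟩
  exact ⟨t, ht, Set.Subset.antisymm (hW.2 hcomp.1 hsub) hsub⟩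

end Top

section Alg

theorem comap_mem_minimalPrimes {R A : Type*} [CommRing R] [CommRing A] [Algebra R A]
    [Algebra.HasGoingDown R A] {q : Ideal A} (hq : q ∈ minimalPrimes A) :
    q.comap (algebraMap R A) ∈ minimalPrimes R := by
  have hqp : q.IsPrime := hq.1.1
  refine ⟨⟨Ideal.comap_isPrime _ _, bot_le⟩, ?_⟩
  rintro p' ⟨hp', -⟩ hle
  haveI := hp'
  obtain ⟨P, hPq, hP, hPo⟩ :=
    Ideal.exists_ideal_le_liesOver_of_le (p := p') (q := q.under R) q hle
  have hqP : q ≤ P := hq.2 ⟨hP, bot_le⟩ hPq
  have hPeq : P = q := le_antisymm hPq hqP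
  have hp'eq : p' = q.under R := by rw [hPo.over, hPeq]
  exact hp'eq ▸ le_rfl

theorem finite_minimalPrimes_of_flat_quasiFinite {R A : Type*} [CommRing R] [CommRing A]
    [Algebra R A] [Module.Flat R A] [Algebra.QuasiFinite R A]
    (h : (minimalPrimes R).Finite) : (minimalPrimes A).Finite := by
  have h1 : (PrimeSpectrum.asIdeal ⁻¹' (minimalPrimes R) : Set (PrimeSpectrum R)).Finite :=
    h.preimage (fun p _ q _ hpq => PrimeSpectrum.ext hpq)
  have h2 := Algebra.QuasiFinite.finite_comap_preimage (S := A) h1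
  refine (h2.image PrimeSpectrum.asIdeal).subset ?_
  intro q hq
  have hqp : q.IsPrime := hq.1.1
  exact ⟨⟨q, hqp⟩, comap_mem_minimalPrimes hq, rfl⟩

theorem exists_mul_eq_of_flat {A B : Type*} [CommRing A] [CommRing B] [Algebra A B]
    [Module.Flat A B] (hsurj : Function.Surjective (algebraMap A B)) {a : A}
    (ha : algebraMap A B a = 0) : ∃ b : A, algebraMap A B b = 0 ∧ a = a * b := by
  have hrel : ∑ i : Unit, (fun _ : Unit => a) i • (fun _ : Unit => (1 : B)) i = 0 := by
    rw [Fintype.sum_unique]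
    simp [Algebra.smul_def, ha]
  obtain ⟨k, a', y, h1, h2⟩ := Module.Flat.isTrivialRelation_of_sum_smul_eq_zero
    (f := fun _ : Unit => a) (x := fun _ : Unit => (1 : B)) hrel
  choose c hc using fun j => hsurj (y j)
  have h1' : (1 : B) = ∑ j, a' () j • y j := h1 ()
  have h2' : ∀ j, a * a' () j = 0 := fun j => by
    have := h2 j
    rw [Fintype.sum_unique] at this
    exact this
  refine ⟨1 - ∑ j, a' () j * c j, ?_, ?_⟩
  · rw [map_sub, map_one, map_sum, sub_eq_zero]
    refine h1'.trans (Finset.sum_congr rfl fun j _ => ?_)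
    rw [map_mul, hc, Algebra.smul_def]
  · have h3 : ∑ j, a * (a' () j * c j) = 0 :=
      Finset.sum_eq_zero fun j _ => by rw [← mul_assoc, h2' j, zero_mul]
    rw [mul_sub, mul_one, Finset.mul_sum, h3, sub_zero]

/-- An algebra `B` over a formally unramified `R`-algebra `A` (essentially of finite type) which is
flat over `R` is flat over `A`: it is a direct summand of `A ⊗[R] B`. -/
theorem flat_of_formallyUnramified {R A B : Type*} [CommRing R] [CommRing A] [CommRing B]
    [Algebra R A] [Algebra R B] [Algebra A B] [IsScalarTower R A B]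
    [Algebra.FormallyUnramified R A] [Algebra.EssFiniteType R A] [Module.Flat R B] :
    Module.Flat A B := by
  obtain ⟨e₀, he₀, hI⟩ :=
    (Ideal.isIdempotentElem_iff_of_fg _ (KaehlerDifferential.ideal_fg R A)).mp
      ((Ideal.cotangent_subsingleton_iff _).mp (inferInstanceAs <| Subsingleton Ω[A⁄R]))
  let ψ : A ⊗[R] A →ₐ[R] A ⊗[R] B :=
    Algebra.TensorProduct.map (AlgHom.id R A) (IsScalarTower.toAlgHom R A B)
  let μ : A ⊗[R] B →ₐ[A] B :=
    Algebra.TensorProduct.lift (Algebra.ofId A B) (AlgHom.id R B) (fun _ _ => Commute.all _ _)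
  obtain ⟨ε, hε⟩ : ∃ ε, ε = ψ e₀ := ⟨_, rfl⟩
  have hεidem : ε * ε = ε := by rw [hε, ← map_mul, he₀.eq]
  have hμψ : ∀ t, μ (ψ t) = algebraMap A B (Algebra.TensorProduct.lmul' R t) := by
    intro t
    induction t using TensorProduct.induction_on with
    | zero => simp
    | tmul a a' => simp [ψ, μ, Algebra.ofId_apply]
    | add x y hx hy => simp only [map_add, hx, hy]
  have he₀mem : e₀ ∈ KaehlerDifferential.ideal R A := hI ▸ Submodule.mem_span_singleton_self e₀
  have hμε : μ ε = 0 := by
    rw [hε, hμψ, RingHom.mem_ker.mp he₀mem, map_zero]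
  have hkey : ∀ a : A, (1 - ε) * ((1 : A) ⊗ₜ[R] (algebraMap A B a)) =
      (1 - ε) * (a ⊗ₜ[R] (1 : B)) := by
    intro a
    have hmem : (1 : A) ⊗ₜ[R] a - a ⊗ₜ[R] (1 : A) ∈ KaehlerDifferential.ideal R A :=
      KaehlerDifferential.one_smul_sub_smul_one_mem_ideal R a
    rw [hI] at hmem
    obtain ⟨t, ht⟩ := Submodule.mem_span_singleton.mp hmem
    rw [smul_eq_mul] at ht
    have h1 : (1 : A) ⊗ₜ[R] (algebraMap A B a) - a ⊗ₜ[R] (1 : B) = ψ t * ε := by
      rw [hε, ← map_mul, ht, map_sub]
      simp [ψ]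
    have h2 : (1 - ε) * ((1 : A) ⊗ₜ[R] (algebraMap A B a) - a ⊗ₜ[R] (1 : B)) = 0 := by
      rw [h1, mul_comm (ψ t), ← mul_assoc, sub_mul, one_mul, hεidem, sub_self, zero_mul]
    rw [mul_sub] at h2
    exact sub_eq_zero.mp h2
  let i : B →ₗ[A] A ⊗[R] B :=
    { toFun := fun b => (1 - ε) * ((1 : A) ⊗ₜ[R] b)
      map_add' := fun b b' => by rw [TensorProduct.tmul_add, mul_add]
      map_smul' := fun a b => by
        simp only [RingHom.id_apply]
        have h1 : (1 : A) ⊗ₜ[R] (a • b) =
            ((1 : A) ⊗ₜ[R] algebraMap A B a) * ((1 : A) ⊗ₜ[R] b) := by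
          rw [Algebra.TensorProduct.tmul_mul_tmul, one_mul, Algebra.smul_def]
        have h2 : a • ((1 - ε) * ((1 : A) ⊗ₜ[R] b)) =
            (1 - ε) * ((a ⊗ₜ[R] (1 : B)) * ((1 : A) ⊗ₜ[R] b)) := by
          rw [← mul_smul_comm, TensorProduct.smul_tmul', smul_eq_mul, mul_one,
            Algebra.TensorProduct.tmul_mul_tmul, mul_one, one_mul]
        rw [h1, h2, ← mul_assoc, ← mul_assoc, hkey a] }
  refine Module.Flat.of_retract i μ.toLinearMap ?_
  ext b
  show μ ((1 - ε) * ((1 : A) ⊗ₜ[R] b)) = b
  rw [map_mul, map_sub, map_one, hμε, sub_zero, one_mul]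
  simp [μ]

theorem ker_fg_of_flat {A B : Type*} [CommRing A] [CommRing B] [Algebra A B] [Module.Flat A B]
    (hsurj : Function.Surjective (algebraMap A B)) (hA : (minimalPrimes A).Finite) :
    (RingHom.ker (algebraMap A B)).FG := by
  obtain ⟨I, hIdef⟩ : ∃ I, I = RingHom.ker (algebraMap A B) := ⟨_, rfl⟩
  rw [← hIdef]
  have hrange : Set.range (PrimeSpectrum.comap (algebraMap A B)) =
      PrimeSpectrum.zeroLocus (I : Set A) := by
    rw [hIdef]
    exact _root_.range_comap_of_surjective _ (algebraMap A B) hsurj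
  have hstab : StableUnderGeneralization (PrimeSpectrum.zeroLocus (I : Set A)) := by
    rw [← hrange]
    exact (Algebra.HasGoingDown.iff_generalizingMap_primeSpectrumComap.mp
      inferInstance).stableUnderGeneralization_range
  have hclosed : IsClosed (PrimeSpectrum.zeroLocus (I : Set A)) :=
    PrimeSpectrum.isClosed_zeroLocus _
  have hopen : IsOpen (PrimeSpectrum.zeroLocus (I : Set A)) := by
    rw [← isClosed_compl_iff]
    have hcompl : (PrimeSpectrum.zeroLocus (I : Set A))ᶜ =
        ⋃ p ∈ {p ∈ minimalPrimes A | ¬ I ≤ p}, PrimeSpectrum.zeroLocus (p : Set A) := by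
      ext x
      constructor
      · intro hx
        have hx' : ¬ I ≤ x.asIdeal := fun h => hx ((PrimeSpectrum.mem_zeroLocus _ _).mpr h)
        obtain ⟨p, hp, hpx⟩ := Ideal.exists_minimalPrimes_le (I := ⊥) (J := x.asIdeal) bot_le
        exact Set.mem_biUnion (show p ∈ {p ∈ minimalPrimes A | ¬ I ≤ p} from
          ⟨hp, fun hIp => hx' (hIp.trans hpx)⟩) ((PrimeSpectrum.mem_zeroLocus _ _).mpr hpx)
      · intro hx
        obtain ⟨p, ⟨hp, hIp⟩, hpx⟩ := Set.mem_iUnion₂.mp hx
        have hpx' : p ≤ x.asIdeal := (PrimeSpectrum.mem_zeroLocus _ _).mp hpx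
        intro hIx
        have hpp : p.IsPrime := hp.1.1
        have hspec : (⟨p, hpp⟩ : PrimeSpectrum A) ⤳ x :=
          (PrimeSpectrum.le_iff_specializes _ _).mp hpx'
        have hmem := hstab hspec hIx
        exact hIp ((PrimeSpectrum.mem_zeroLocus _ _).mp hmem)
    rw [hcompl]
    exact (hA.subset (Set.sep_subset _ _)).isClosed_biUnion
      fun p _ => PrimeSpectrum.isClosed_zeroLocus _
  obtain ⟨e, he, hZ⟩ := PrimeSpectrum.isClopen_iff_zeroLocus.mp ⟨hclosed, hopen⟩
  have hI : I = Ideal.span {e} := by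
    apply le_antisymm
    · intro a ha
      obtain ⟨b, hb, hab⟩ := exists_mul_eq_of_flat hsurj
        (RingHom.mem_ker.mp (hIdef ▸ ha))
      have hbI : b ∈ I := hIdef ▸ RingHom.mem_ker.mpr hb
      have hbrad : b ∈ (Ideal.span {e}).radical := by
        rw [← PrimeSpectrum.vanishingIdeal_zeroLocus_eq_radical, PrimeSpectrum.zeroLocus_span,
          ← hZ, PrimeSpectrum.mem_vanishingIdeal]
        intro x hx
        exact ((PrimeSpectrum.mem_zeroLocus _ _).mp hx) hbI
      obtain ⟨n, hn⟩ := hbrad
      have habn : ∀ m : ℕ, a = a * b ^ m := by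
        intro m
        induction m with
        | zero => simp
        | succ m ih => rw [pow_succ, ← mul_assoc, ← ih]; exact hab
      rw [habn n]
      exact Ideal.mul_mem_left _ _ hn
    · rw [Ideal.span_singleton_le_iff_mem]
      have herad : e ∈ I.radical := by
        rw [← PrimeSpectrum.vanishingIdeal_zeroLocus_eq_radical, hZ,
          PrimeSpectrum.mem_vanishingIdeal]
        intro x hx
        exact (PrimeSpectrum.mem_zeroLocus _ _).mp hx (Set.mem_singleton e)
      obtain ⟨n, hn⟩ := herad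
      rcases n with _ | n
      · rw [pow_zero] at hn
        simpa using I.mul_mem_left e hn
      · rwa [he.pow_succ_eq] at hn
  rw [hI]
  exact ⟨{e}, by simp⟩

theorem finitePresentation_away {R S : Type u} [CommRing R] [CommRing S] [Algebra R S]
    [Algebra.FiniteType R S] [Module.Flat R S] [Algebra.FormallyUnramified R S]
    (hfin : (minimalPrimes R).Finite) (q : Ideal S) [q.IsPrime] :
    ∃ g ∉ q, Algebra.FinitePresentation R (Localization.Away g) := by
  obtain ⟨g, hgq, P, φ, hφ⟩ :=
    Algebra.IsUnramifiedAt.exists_hasStandardEtaleSurjectionOn (R := R) q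
  refine ⟨g, hgq, ?_⟩
  letI : Algebra P.Ring (Localization.Away g) := φ.toRingHom.toAlgebra
  haveI : IsScalarTower R P.Ring (Localization.Away g) :=
    IsScalarTower.of_algebraMap_eq fun r => (φ.commutes r).symm
  haveI : Module.Flat R (Localization.Away g) := Module.Flat.trans R S (Localization.Away g)
  haveI : Module.Flat P.Ring (Localization.Away g) := flat_of_formallyUnramified (R := R)
  have hsurj : Function.Surjective (algebraMap P.Ring (Localization.Away g)) := hφ
  have hAfin : (minimalPrimes P.Ring).Finite :=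
    finite_minimalPrimes_of_flat_quasiFinite (R := R) hfin
  have hker_fg : (RingHom.ker φ.toRingHom).FG := ker_fg_of_flat hsurj hAfin
  exact Algebra.FinitePresentation.of_surjective hφ hker_fg

theorem finitePresentation_of_flat_of_formallyUnramified {R S : Type u} [CommRing R] [CommRing S]
    [Algebra R S] [Algebra.FiniteType R S] [Module.Flat R S] [Algebra.FormallyUnramified R S]
    (hfin : (minimalPrimes R).Finite) : Algebra.FinitePresentation R S := by
  refine Algebra.FinitePresentation.of_span_eq_top_target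
    {g : S | Algebra.FinitePresentation R (Localization.Away g)} ?_ (fun g hg => hg)
  by_contra hne
  obtain ⟨m, hm, hle⟩ := Ideal.exists_le_maximal _ hne
  haveI := hm.isPrime
  obtain ⟨g, hgm, hg⟩ := finitePresentation_away hfin m
  exact hgm (hle (Ideal.subset_span hg))

theorem ringHom_finitePresentation {R S : Type u} [CommRing R] [CommRing S] (φ : R →+* S)
    (hfin : (minimalPrimes R).Finite) (h1 : φ.FiniteType) (h2 : φ.Flat)
    (h3 : φ.FormallyUnramified) : φ.FinitePresentation := by
  algebraize [φ]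
  exact finitePresentation_of_flat_of_formallyUnramified hfin

end Alg

section Sch

theorem finite_minimalPrimes_of_affineOpen {Y : Scheme.{u}} {U V : Y.Opens} (hV : IsAffineOpen V)
    (hVU : V ≤ U) (hfin : (irreducibleComponents (U : Set Y)).Finite) :
    (minimalPrimes Γ(Y, V)).Finite := by
  let j : PrimeSpectrum Γ(Y, V) → (U : Set Y) := Set.codRestrict (⇑hV.fromSpec) (U : Set Y)
    (fun x => hVU (by
      rw [← SetLike.mem_coe, ← hV.range_fromSpec]; exact Set.mem_range_self x))
  have hj : Topology.IsOpenEmbedding j :=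
    (Topology.IsOpenEmbedding.of_comp_iff j U.isOpen.isOpenEmbedding_subtypeVal).mp
      hV.fromSpec.isOpenEmbedding
  have h1 := finite_irreducibleComponents_of_isOpenEmbedding hj hfin
  haveI : Finite (irreducibleComponents (PrimeSpectrum Γ(Y, V))) := h1.to_subtype
  haveI : Finite (minimalPrimes Γ(Y, V)) :=
    Finite.of_equiv _ (minimalPrimes.equivIrreducibleComponents Γ(Y, V)).symm.toEquiv
  exact Set.toFinite _

theorem main {X Y : Scheme.{u}} (f : X ⟶ Y)
    [LocallyOfFiniteType f] [Flat f] [FormallyUnramified f]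
    (hY : ∀ y : Y, ∃ U : Y.Opens, y ∈ U ∧ (irreducibleComponents (U : Set Y)).Finite) :
    Etale f := by
  have hfp : LocallyOfFinitePresentation f := by
    rw [HasRingHomProperty.iff_exists_appLE (P := @LocallyOfFinitePresentation)
      (RingHom.finitePresentation_stableUnderComposition.stableUnderCompositionWithLocalizationAway
        RingHom.finitePresentation_holdsForLocalizationAway).left]
    intro x
    obtain ⟨U, hyU, hfin⟩ := hY (f x)
    obtain ⟨V, hV, hyV, hVU⟩ := TopologicalSpace.Opens.isBasis_iff_nbhd.mp Y.isBasis_affineOpens hyU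
    obtain ⟨W, hW, hxW, e⟩ := TopologicalSpace.Opens.isBasis_iff_nbhd.mp X.isBasis_affineOpens
      (show x ∈ f ⁻¹ᵁ V from hyV)
    refine ⟨⟨V, hV⟩, ⟨W, hW⟩, hxW, e, ?_⟩
    exact ringHom_finitePresentation _ (finite_minimalPrimes_of_affineOpen hV hVU hfin)
      (HasRingHomProperty.appLE @LocallyOfFiniteType f inferInstance ⟨V, hV⟩ ⟨W, hW⟩ e)
      (HasRingHomProperty.appLE @Flat f inferInstance ⟨V, hV⟩ ⟨W, hW⟩ e)
      (HasRingHomProperty.appLE @FormallyUnramified f inferInstance ⟨V, hV⟩ ⟨W, hW⟩ e)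
  exact Etale.of_formallyUnramified_of_flat (f := f)

end Sch

end Groth.Agent.Lib.FlatUnramFPH4
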