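import Mathlib
import Groth.Agent.Lib.FlatUnramFP_helper4

/-!
# Pointwise: flat + unramified ⇒ étale; flatness through an unramified map  (helper4)
-/

open TensorProduct AlgebraicGeometry CategoryTheory

universe u

namespace Groth.Agent.Lib.FlatUnramPtH4

open Groth.Agent.Lib.FlatUnramFPH4

section Alg

/-- Flatness descends along a faithfully flat map: `R → A → B`, `B` faithfully flat over `A`
and flat over `R` implies `A` flat over `R`. -/
theorem flat_of_faithfullyFlat_comp (R A B : Type*) [CommRing R] [CommRing A] [CommRing B]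
    [Algebra R A] [Algebra A B] [Algebra R B] [IsScalarTower R A B]
    [Module.FaithfullyFlat A B] [Module.Flat R B] : Module.Flat R A := by
  rw [Module.Flat.iff_lTensor_preserves_injective_linearMap]
  intro N P _ _ _ _ f hf
  have hB : Function.Injective (LinearMap.lTensor B f) :=
    Module.Flat.lTensor_preserves_injective_linearMap f hf
  have hbc : Function.Injective (f.baseChange A) := by
    rw [← Module.FaithfullyFlat.lTensor_injective_iff_injective A B]
    have key : ∀ t : B ⊗[A] (A ⊗[R] N),
        TensorProduct.AlgebraTensorModule.cancelBaseChange R A B B P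
          (LinearMap.lTensor B (f.baseChange A) t) =
        LinearMap.lTensor B f
          (TensorProduct.AlgebraTensorModule.cancelBaseChange R A B B N t) := by
      intro t
      induction t using TensorProduct.induction_on with
      | zero => simp
      | tmul b s =>
        induction s using TensorProduct.induction_on with
        | zero => simp
        | tmul a n => simp
        | add s s' hs hs' => simp only [TensorProduct.tmul_add, map_add, hs, hs']
      | add t t' ht ht' => simp only [map_add, ht, ht']
    intro t t' htt'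
    apply (TensorProduct.AlgebraTensorModule.cancelBaseChange R A B B N).injective
    apply hB
    rw [← key, ← key, htt']
  rw [← LinearMap.baseChange_eq_ltensor]
  exact hbc

/-- `R → A → B` with `A → B` a local homomorphism of local rings, `A` formally unramified and
essentially of finite type over `R`, and `B` flat over `R`.  Then `A` is flat over `R` and `B`
is flat over `A`. -/
theorem flat_of_comp_flat_of_formallyUnramified {R A B : Type u} [CommRing R] [CommRing A]
    [CommRing B] [IsLocalRing A] [IsLocalRing B] (φ : R →+* A) (ψ : A →+* B) [IsLocalHom ψ]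
    (h1 : φ.FormallyUnramified) (h2 : φ.EssFiniteType) (h3 : (ψ.comp φ).Flat) :
    φ.Flat ∧ ψ.Flat := by
  algebraize [φ, ψ, ψ.comp φ]
  have : Algebra.EssFiniteType R A := h2
  have : IsLocalHom (algebraMap A B) := ‹IsLocalHom ψ›
  have hAB : Module.Flat A B := flat_of_formallyUnramified (R := R)
  have : Module.FaithfullyFlat A B := Module.FaithfullyFlat.of_flat_of_isLocalHom
  have hRA : Module.Flat R A := flat_of_faithfullyFlat_comp R A B
  exact ⟨RingHom.flat_algebraMap_iff.mpr hRA, RingHom.flat_algebraMap_iff.mpr hAB⟩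

open Algebra IsLocalRing in
/-- Pointwise version of "flat + unramified ⇒ étale" for a finitely presented ring map. -/
theorem formallySmooth_localRingHom {R S : Type u} [CommRing R] [CommRing S] (φ : R →+* S)
    (hφ : φ.FinitePresentation) (p : Ideal R) (q : Ideal S) [p.IsPrime] [q.IsPrime]
    (hpq : p = q.comap φ)
    (h1 : (Localization.localRingHom p q φ hpq).Flat)
    (h2 : (Localization.localRingHom p q φ hpq).FormallyUnramified) :
    (Localization.localRingHom p q φ hpq).FormallySmooth := by
  algebraize [φ]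
  have : q.LiesOver p := ⟨hpq⟩
  let Rp := Localization.AtPrime p
  let Sp := Localization (algebraMapSubmonoid S p.primeCompl)
  let Sq := Localization.AtPrime q
  let := Localization.AtPrime.algebraOfLiesOver p q
  have hmap : algebraMap Rp Sq = Localization.localRingHom p q φ hpq := rfl
  have : Module.Flat Rp Sq := RingHom.flat_algebraMap_iff.mp (hmap ▸ h1)
  have : Algebra.FormallyUnramified Rp Sq := RingHom.formallyUnramified_algebraMap.mp (hmap ▸ h2)
  let f : Sp →ₐ[S] Sq := IsLocalization.liftAlgHom (M := algebraMapSubmonoid S p.primeCompl)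
        (f := Algebra.ofId _ _) (by
      rintro ⟨_, x, hx, rfl⟩
      simpa using! IsLocalization.map_units (M := q.primeCompl) Sq ⟨algebraMap _ _ x,
        by simp_all [q.over_def p]⟩)
  algebraize [f.toRingHom]
  have : IsScalarTower R Sp Sq := .to₁₃₄ _ S _ _
  have : IsScalarTower Rp Sp Sq := .of_algebraMap_eq' <| by
    apply IsLocalization.ringHom_ext p.primeCompl
    simp only [RingHom.comp_assoc, ← IsScalarTower.algebraMap_eq]
  have : IsLocalization (algebraMapSubmonoid Sp q.primeCompl) Sq :=
    .isLocalization_of_submonoid_le _ _ (algebraMapSubmonoid S p.primeCompl) _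
    (by rintro _ ⟨x, hx, rfl⟩; simp_all [q.over_def p])
  have : FinitePresentation Rp Sp := by
    have : Algebra.IsPushout R Rp S Sp :=
      .symm <| Algebra.isPushout_of_isLocalization p.primeCompl _ _ _
    exact .equiv (Algebra.IsPushout.equiv R Rp S Sp)
  have : Algebra.EssFiniteType Sp Sq :=
    Algebra.EssFiniteType.of_isLocalization Sq (algebraMapSubmonoid Sp q.primeCompl)
  have : Algebra.EssFiniteType Rp Sq := Algebra.EssFiniteType.comp Rp Sp Sq
  have : Algebra.FormallySmooth (ResidueField Rp) (ResidueField Rp ⊗[Rp] Sq) := by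
    have : Algebra.FormallyEtale (ResidueField Rp) (ResidueField Rp ⊗[Rp] Sq) :=
      Algebra.FormallyEtale.of_formallyUnramified_of_field _ _
    infer_instance
  have : Algebra.FormallySmooth Rp Sq :=
    FormallySmooth.of_formallySmooth_residueField_tensor
      (R := Rp) (S := Sq) (P := Sp) (algebraMapSubmonoid _ q.primeCompl)
  rw [← hmap]
  exact RingHom.formallySmooth_algebraMap.mpr this

end Alg

section Sch

theorem formallyUnramified_stalkMap_of_comp {V Y S : Scheme.{u}} (j : V ⟶ Y) [IsOpenImmersion j]
    (h : Y ⟶ S) (v : V) (y : Y) (hy : j.base v = y)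
    (H : ((j ≫ h).stalkMap v).hom.FormallyUnramified) :
    (h.stalkMap y).hom.FormallyUnramified := by
  subst hy
  refine (RingHom.FormallyUnramified.respectsIso.cancel_right_isIso _ (j.stalkMap v)).mp ?_
  rw [← CommRingCat.hom_comp, ← Scheme.Hom.stalkMap_comp]
  exact H

theorem main2738 {X Y S : Scheme.{u}} (h : Y ⟶ S)
    [LocallyOfFinitePresentation h] (g : X ⟶ Y) (x : X)
    (hu : ∃ V : Y.Opens, g.base x ∈ V ∧ FormallyUnramified (V.ι ≫ h))
    (hf : ((g ≫ h).stalkMap x).hom.Flat) :
    (∃ V : Y.Opens, g.base x ∈ V ∧ Etale (V.ι ≫ h)) ∧ (g.stalkMap x).hom.Flat := by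
  obtain ⟨V₀, hyV₀, hV₀⟩ := hu
  have hunr : (h.stalkMap (g.base x)).hom.FormallyUnramified :=
    formallyUnramified_stalkMap_of_comp V₀.ι h ⟨g.base x, hyV₀⟩ (g.base x) rfl
      (FormallyUnramified.stalkMap (V₀.ι ≫ h) ⟨g.base x, hyV₀⟩)
  have hess : (h.stalkMap (g.base x)).hom.EssFiniteType :=
    LocallyOfFiniteType.stalkMap h (g.base x)
  have hf' : ((g.stalkMap x).hom.comp (h.stalkMap (g.base x)).hom).Flat := by
    rw [← CommRingCat.hom_comp, ← Scheme.Hom.stalkMap_comp]
    exact hf
  obtain ⟨hφ, hψ⟩ := flat_of_comp_flat_of_formallyUnramified (h.stalkMap (g.base x)).hom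
    (g.stalkMap x).hom hunr hess hf'
  refine ⟨?_, hψ⟩
  have hsm : (h.stalkMap (g.base x)).hom.FormallySmooth := by
    obtain ⟨_, ⟨U, hU, rfl⟩, hxU, -⟩ :=
      S.isBasis_affineOpens.exists_subset_of_mem_open
        (Set.mem_univ (h.base (g.base x))) isOpen_univ
    obtain ⟨_, ⟨V, hV, rfl⟩, hxV, hVU⟩ :=
      Y.isBasis_affineOpens.exists_subset_of_mem_open hxU (U.2.preimage h.continuous)
    have iso := IsAffineOpen.arrowStalkMapIso h U hU V hV hVU hxV
    refine (RingHom.FormallySmooth.respectsIso.arrow_mk_iso_iff iso).mpr ?_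
    rw [CommRingCat.hom_ofHom]
    refine formallySmooth_localRingHom _ (h.finitePresentation_appLE hU hV hVU) _ _ _ ?_ ?_
    · exact (RingHom.Flat.respectsIso.arrow_mk_iso_iff iso).mp hφ
    · exact (RingHom.FormallyUnramified.respectsIso.arrow_mk_iso_iff iso).mp hunr
  have hy : g.base x ∈ h.smoothLocus := hsm
  refine ⟨h.smoothLocus ⊓ V₀, ⟨hy, hyV₀⟩, ?_⟩
  have hWs : Smooth ((h.smoothLocus ⊓ V₀).ι ≫ h) := by
    rw [← Scheme.Hom.smoothLocus_eq_top_iff, ← Scheme.Hom.preimage_smoothLocus_eq, eq_top_iff]
    intro z _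
    have hz : (h.smoothLocus ⊓ V₀).ι.base z ∈ h.smoothLocus ⊓ V₀ := z.2
    exact hz.1
  have hWu : FormallyUnramified ((h.smoothLocus ⊓ V₀).ι ≫ h) := by
    have heq : (h.smoothLocus ⊓ V₀).ι ≫ h =
        Y.homOfLE (inf_le_right : h.smoothLocus ⊓ V₀ ≤ V₀) ≫ (V₀.ι ≫ h) := by
      rw [← Category.assoc, Scheme.homOfLE_ι]
    rw [heq]
    exact MorphismProperty.comp_mem _ _ _ inferInstance hV₀
  exact Etale.iff_flat_and_formallyUnramified.mpr ⟨inferInstance, hWu, inferInstance⟩

end Sch

end Groth.Agent.Lib.FlatUnramPtH4
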