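import Mathlib
import Groth.Agent.Lib.FlatUnramPt_helper4

/-!
# The unramified locus of a morphism of schemes and pointwise descent  (helper4)
-/

open AlgebraicGeometry CategoryTheory CategoryTheory.Limits TensorProduct

universe u

namespace Groth.Agent.Lib.UnramLocH4

section Transfer

/-- Transfer of a stalk-map property along open immersions. -/
theorem stalk_transfer {P : ∀ {R S : Type u} [CommRing R] [CommRing S], (R →+* S) → Prop}
    (hP : RingHom.RespectsIso @P)
    {A B C D : Scheme.{u}} (p : A ⟶ B) (q : B ⟶ D) (r : A ⟶ C) (s : C ⟶ D)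
    (w : p ≫ q = r ≫ s) [IsOpenImmersion p] [IsOpenImmersion s] (a : A) :
    P (r.stalkMap a).hom ↔ P (q.stalkMap (p.base a)).hom := by
  have h1 : P ((p ≫ q).stalkMap a).hom ↔ P (q.stalkMap (p.base a)).hom := by
    refine Iff.trans ?_ (hP.cancel_right_isIso (q.stalkMap (p.base a)) (p.stalkMap a))
    rw [← CommRingCat.hom_comp, ← Scheme.Hom.stalkMap_comp]
    exact Iff.rfl
  have h2 : P ((r ≫ s).stalkMap a).hom ↔ P (r.stalkMap a).hom := by
    refine Iff.trans ?_ (hP.cancel_left_isIso (s.stalkMap (r.base a)) (r.stalkMap a))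
    rw [← CommRingCat.hom_comp, ← Scheme.Hom.stalkMap_comp]
    exact Iff.rfl
  have h3 : ∀ (φ ψ : A ⟶ D), φ = ψ → (P (φ.stalkMap a).hom ↔ P (ψ.stalkMap a).hom) := by
    rintro φ _ rfl; rfl
  exact h2.symm.trans ((h3 _ _ w).symm.trans h1)

theorem stalk_congr_point {P : ∀ {R S : Type u} [CommRing R] [CommRing S], (R →+* S) → Prop}
    {X Y : Scheme.{u}} (f : X ⟶ Y) {a b : X} (h : a = b) :
    P (f.stalkMap a).hom ↔ P (f.stalkMap b).hom := by
  subst h; rfl

end Transfer

section Stalk

variable {X Y : Scheme.{u}}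

lemma formallyUnramified_stalkMap_iff {f : X ⟶ Y} {x : X} (U : Y.Opens)
      (hU : IsAffineOpen U) (V : X.Opens) (hV : IsAffineOpen V) (hVU : V ≤ f ⁻¹ᵁ U)
      (hx : x ∈ V) :
    letI := (f.appLE U V hVU).hom.toAlgebra
    (f.stalkMap x).hom.FormallyUnramified ↔
      hV.primeIdealOf ⟨x, hx⟩ ∈ Algebra.unramifiedLocus Γ(Y, U) Γ(X, V) := by
  let := (f.appLE U V hVU).hom.toAlgebra
  let p := (hU.primeIdealOf ⟨f x, hVU hx⟩).asIdeal
  let q := (hV.primeIdealOf ⟨x, hx⟩).asIdeal
  have : q.LiesOver p :=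
    ⟨congr($(IsAffineOpen.comap_primeIdealOf_appLE U hU V hV hVU hx).1).symm⟩
  let := Localization.AtPrime.algebraOfLiesOver p q
  trans Algebra.FormallyUnramified (Localization.AtPrime p) (Localization.AtPrime q)
  · rw [← RingHom.formallyUnramified_algebraMap]
    exact RingHom.FormallyUnramified.respectsIso.arrow_mk_iso_iff
      (IsAffineOpen.arrowStalkMapIso f U hU V hV hVU hx)
  · exact ⟨fun _ ↦ Algebra.FormallyUnramified.comp _ (Localization.AtPrime p) _,
      fun (_ : Algebra.FormallyUnramified Γ(Y, U) (Localization.AtPrime q)) ↦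
        Algebra.FormallyUnramified.of_restrictScalars Γ(Y, U) _ _⟩

set_option backward.defeqAttrib.useBackward true in
set_option backward.isDefEq.respectTransparency false in
lemma exists_formallyUnramified_of_stalk
    (f : X ⟶ Y) [LocallyOfFiniteType f]
    (x : X) (H : (f.stalkMap x).hom.FormallyUnramified) :
    ∃ (U : Y.Opens) (_ : IsAffineOpen U) (V : X.Opens) (_ : IsAffineOpen V) (hVU : V ≤ f ⁻¹ᵁ U),
      x ∈ V ∧ (f.appLE U V hVU).hom.FormallyUnramified := by
  obtain ⟨_, ⟨U, hU, rfl⟩, hxU, -⟩ :=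
    Y.isBasis_affineOpens.exists_subset_of_mem_open (Set.mem_univ (f x)) isOpen_univ
  obtain ⟨_, ⟨V, hV, rfl⟩, hxV, hVU⟩ :=
    X.isBasis_affineOpens.exists_subset_of_mem_open hxU (U.2.preimage f.continuous)
  have := f.finiteType_appLE hU hV hVU
  algebraize [(f.appLE U V hVU).hom]
  have : Algebra.IsUnramifiedAt _ _ := (formallyUnramified_stalkMap_iff U hU V hV hVU hxV).mp H
  obtain ⟨r, hrx, hr⟩ := Algebra.exists_formallyUnramified_of_isUnramifiedAt (R := Γ(Y, U))
    (hV.primeIdealOf ⟨x, hxV⟩).asIdeal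
  refine ⟨_, hU, _, hV.basicOpen r, (X.basicOpen_le r).trans hVU, ?_, ?_⟩
  · rwa [← PrimeSpectrum.mem_basicOpen, IsAffineOpen.primeIdealOf,
      ← hV.fromSpec_preimage_basicOpen, Scheme.Hom.mem_preimage, ← Scheme.Hom.comp_apply,
      IsAffineOpen.isoSpec_hom, IsAffineOpen.toSpecΓ_fromSpec] at hrx
  · have := hV.isLocalization_basicOpen r
    rw [← RingHom.formallyUnramified_algebraMap] at hr
    convert!
      RingHom.FormallyUnramified.propertyIsLocal.respectsIso.1 _
        (IsLocalization.algEquiv (.powers r) _ Γ(X, X.basicOpen r)).toRingEquiv hr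
    ext
    dsimp
    simp only [IsScalarTower.algebraMap_apply Γ(Y, U) Γ(X, V) (Localization _),
      IsLocalization.map_eq]
    simp only [RingHom.algebraMap_toAlgebra, RingHomCompTriple.comp_apply, ← ConcreteCategory.comp_apply,
      Scheme.Hom.appLE_map]

instance : MorphismProperty.RespectsRight @FormallyUnramified @IsOpenImmersion where
  postcomp i hi f hf := by
    have := hi
    have := hf
    exact MorphismProperty.comp_mem _ f i hf inferInstance

lemma formallyUnramified_of_forall_stalk (f : X ⟶ Y) [LocallyOfFiniteType f]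
    (H : ∀ x, (f.stalkMap x).hom.FormallyUnramified) : FormallyUnramified f := by
  refine IsZariskiLocalAtSource.iff_exists_resLE.mpr fun x ↦ ?_
  obtain ⟨U, hU, V, hV, hVU, hxV, H⟩ := exists_formallyUnramified_of_stalk f _ (H x)
  refine ⟨U, V, hxV, hVU, ?_⟩
  have : IsAffine _ := hU
  have : IsAffine _ := hV
  rw [HasRingHomProperty.iff_of_isAffine (P := @FormallyUnramified)]
  exact (RingHom.FormallyUnramified.propertyIsLocal.respectsIso.arrow_mk_iso_iff
    (arrowResLEAppIso f U V hVU)).mpr H

lemma stalk_of_nhd (f : X ⟶ Y) (x : X) (U : X.Opens) (hx : x ∈ U)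
    (hU : FormallyUnramified (U.ι ≫ f)) :
    (f.stalkMap x).hom.FormallyUnramified :=
  FlatUnramPtH4.formallyUnramified_stalkMap_of_comp U.ι f ⟨x, hx⟩ x rfl
    (FormallyUnramified.stalkMap (U.ι ≫ f) ⟨x, hx⟩)

lemma isOpen_unramLocus (f : X ⟶ Y) [LocallyOfFiniteType f] :
    IsOpen {x | (f.stalkMap x).hom.FormallyUnramified} := by
  refine isOpen_iff_forall_mem_open.mpr fun x hx ↦ ?_
  obtain ⟨U, hU, V, hV, hVU, hxV, H⟩ := exists_formallyUnramified_of_stalk f x hx
  algebraize [(f.appLE U V hVU).hom]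
  refine ⟨V, fun y hy ↦ (formallyUnramified_stalkMap_iff U hU V hV hVU hy).mpr ?_, V.2, hxV⟩
  have h := Algebra.unramifiedLocus_eq_univ_iff.mpr
    (inferInstance : Algebra.FormallyUnramified Γ(Y, U) Γ(X, V))
  rw [h]; trivial

/-- The unramified locus as an open. -/
noncomputable def unramLocus (f : X ⟶ Y) [LocallyOfFiniteType f] : X.Opens :=
  ⟨{x | (f.stalkMap x).hom.FormallyUnramified}, isOpen_unramLocus f⟩

lemma formallyUnramified_unramLocus (f : X ⟶ Y) [LocallyOfFiniteType f] :
    FormallyUnramified ((unramLocus f).ι ≫ f) := by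
  apply formallyUnramified_of_forall_stalk
  intro z
  have hz : (f.stalkMap ((unramLocus f).ι.base z)).hom.FormallyUnramified := z.2
  have := (RingHom.FormallyUnramified.respectsIso.cancel_right_isIso
    (f.stalkMap ((unramLocus f).ι.base z)) ((unramLocus f).ι.stalkMap z)).mpr hz
  rwa [← CommRingCat.hom_comp, ← Scheme.Hom.stalkMap_comp] at this

lemma exists_nhd_iff_stalk (f : X ⟶ Y) [LocallyOfFiniteType f] (x : X) :
    (∃ U : X.Opens, x ∈ U ∧ FormallyUnramified (U.ι ≫ f)) ↔
      (f.stalkMap x).hom.FormallyUnramified := by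
  constructor
  · rintro ⟨U, hx, hU⟩
    exact stalk_of_nhd f x U hx hU
  · intro H
    exact ⟨unramLocus f, H, formallyUnramified_unramLocus f⟩

end Stalk

section Ring

open IsLocalRing

/-- If `L ⊗ N` is nontrivial for a field `L` with `ker (B → L) = q'`, then `q' ∈ Supp N`. -/
theorem mem_support_of_nontrivial_tensor {B N L : Type*} [CommRing B] [AddCommGroup N]
    [Module B N] [Field L] [Algebra B L] (q' : PrimeSpectrum B)
    (hker : RingHom.ker (algebraMap B L) = q'.asIdeal)
    [Nontrivial (L ⊗[B] N)] : q' ∈ Module.support B N := by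
  by_contra hq
  rw [Module.notMem_support_iff'] at hq
  have : Subsingleton (L ⊗[B] N) := by
    refine subsingleton_of_forall_eq 0 fun z ↦ ?_
    induction z using TensorProduct.induction_on with
    | zero => rfl
    | tmul l n =>
      obtain ⟨r, hr, hrn⟩ := hq n
      have hu : algebraMap B L r ≠ 0 := by
        intro h0
        apply hr
        rw [← hker]
        exact RingHom.mem_ker.mpr h0
      calc l ⊗ₜ[B] n = (r • (l * (algebraMap B L r)⁻¹)) ⊗ₜ[B] n := by
            rw [Algebra.smul_def, mul_comm l, ← mul_assoc, mul_inv_cancel₀ hu, one_mul]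
        _ = (l * (algebraMap B L r)⁻¹) ⊗ₜ[B] (r • n) := by rw [TensorProduct.smul_tmul]
        _ = 0 := by rw [hrn, TensorProduct.tmul_zero]
    | add x y hx hy => rw [hx, hy, add_zero]
  exact not_subsingleton _ this

theorem nontrivial_tensor_of_mem_support {A M L : Type*} [CommRing A] [AddCommGroup M]
    [Module A M] [Module.Finite A M] [Field L] [Algebra A L] (q : PrimeSpectrum A)
    (hker : RingHom.ker (algebraMap A L) = q.asIdeal) (hq : q ∈ Module.support A M) :
    Nontrivial (L ⊗[A] M) := by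
  rw [Module.mem_support_iff_nontrivial_residueField_tensorProduct] at hq
  let φ : q.asIdeal.ResidueField →+* L := Ideal.ResidueField.lift q.asIdeal (algebraMap A L)
    hker.ge (by
      intro x hx
      simp only [Submonoid.mem_comap, IsUnit.mem_submonoid_iff]
      refine IsUnit.mk0 _ fun h0 ↦ hx ?_
      rw [← hker]; exact RingHom.mem_ker.mpr h0)
  letI : Algebra q.asIdeal.ResidueField L := φ.toAlgebra
  haveI : IsScalarTower A q.asIdeal.ResidueField L := IsScalarTower.of_algebraMap_eq' (by
    ext r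
    show algebraMap A L r = φ (algebraMap A q.asIdeal.ResidueField r)
    simp only [φ, Ideal.ResidueField.lift_algebraMap])
  let e : L ⊗[q.asIdeal.ResidueField] (q.asIdeal.ResidueField ⊗[A] M) ≃ₗ[L] L ⊗[A] M :=
    AlgebraTensorModule.cancelBaseChange A q.asIdeal.ResidueField L L M
  exact e.symm.toEquiv.nontrivial

theorem mem_support_baseChange {A B M : Type*} [CommRing A] [CommRing B] [Algebra A B]
    [AddCommGroup M] [Module A M] [Module.Finite A M] (q' : PrimeSpectrum B)
    (h : PrimeSpectrum.comap (algebraMap A B) q' ∈ Module.support A M) :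
    q' ∈ Module.support B (B ⊗[A] M) := by
  let L := q'.asIdeal.ResidueField
  have hkerB : RingHom.ker (algebraMap B L) = q'.asIdeal := Ideal.ker_algebraMap_residueField _
  have hkerA : RingHom.ker (algebraMap A L) =
      (PrimeSpectrum.comap (algebraMap A B) q').asIdeal := by
    rw [IsScalarTower.algebraMap_eq A B L, ← RingHom.comap_ker, hkerB]; rfl
  haveI : Nontrivial (L ⊗[A] M) := nontrivial_tensor_of_mem_support _ hkerA h
  let e : L ⊗[B] (B ⊗[A] M) ≃ₗ[L] L ⊗[A] M := AlgebraTensorModule.cancelBaseChange A B L L M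
  haveI : Nontrivial (L ⊗[B] (B ⊗[A] M)) := e.toEquiv.nontrivial
  exact mem_support_of_nontrivial_tensor q' hkerB

/-- Unramifiedness at a point descends along arbitrary base change. -/
theorem unramifiedLocus_descent (R T A B : Type*) [CommRing R] [CommRing T] [CommRing A]
    [CommRing B] [Algebra R T] [Algebra R A] [Algebra R B] [Algebra A B] [Algebra T B]
    [IsScalarTower R A B] [IsScalarTower R T B]
    [Algebra.IsPushout R T A B] [Algebra.EssFiniteType R A]
    (q' : PrimeSpectrum B) (h : q' ∈ Algebra.unramifiedLocus T B) :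
    PrimeSpectrum.comap (algebraMap A B) q' ∈ Algebra.unramifiedLocus R A := by
  rw [Algebra.unramifiedLocus_eq_compl_support] at h ⊢
  intro hq
  apply h
  have := mem_support_baseChange (A := A) (B := B) (M := Ω[A⁄R]) q' hq
  rwa [(KaehlerDifferential.tensorKaehlerEquiv R T A B).support_eq] at this

/-- Unramifiedness descends along a flat local homomorphism (EGA IV 17.7.7, local form). -/
theorem formallyUnramified_of_faithfullyFlat_comp {A B C : Type u} [CommRing A] [CommRing B]
    [CommRing C] [IsLocalRing A] [IsLocalRing B] [IsLocalRing C] (φ : A →+* B) (ψ : B →+* C)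
    [IsLocalHom φ] [IsLocalHom ψ]
    (h1 : φ.EssFiniteType) (h2 : (ψ.comp φ).EssFiniteType)
    (h3 : (ψ.comp φ).FormallyUnramified) (h4 : ψ.Flat) :
    φ.FormallyUnramified := by
  algebraize [φ, ψ, ψ.comp φ]
  have : IsLocalHom (algebraMap A B) := ‹IsLocalHom φ›
  have : IsLocalHom (algebraMap B C) := ‹IsLocalHom ψ›
  have : IsLocalHom (algebraMap A C) := by
    rw [IsScalarTower.algebraMap_eq A B C]; exact RingHom.isLocalHom_comp _ _
  have : Module.FaithfullyFlat B C := Module.FaithfullyFlat.of_flat_of_isLocalHom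
  show (algebraMap A B).FormallyUnramified
  rw [RingHom.formallyUnramified_algebraMap, Algebra.FormallyUnramified.iff_map_maximalIdeal_eq]
  obtain ⟨hsep, hmax⟩ := Algebra.FormallyUnramified.iff_map_maximalIdeal_eq.mp
    (inferInstance : Algebra.FormallyUnramified A C)
  refine ⟨?_, ?_⟩
  · exact Algebra.isSeparable_tower_bot_of_isSeparable (ResidueField A) (ResidueField B)
      (ResidueField C)
  · rw [← IsLocalRing.maximalIdeal_comap (algebraMap B C), ← hmax,
      IsScalarTower.algebraMap_eq A B C, ← Ideal.map_map,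
      Ideal.comap_map_eq_self_of_faithfullyFlat]

end Ring

section Descent

lemma specUnr {R S : Type u} [CommRing R] [CommRing S] [Algebra R S] (q : PrimeSpectrum S) :
    ((Spec.map (CommRingCat.ofHom (algebraMap R S))).stalkMap q).hom.FormallyUnramified ↔
      q ∈ Algebra.unramifiedLocus R S := by
  let p := (PrimeSpectrum.comap (algebraMap R S) q).asIdeal
  have : q.asIdeal.LiesOver p := ⟨rfl⟩
  let := Localization.AtPrime.algebraOfLiesOver p q.asIdeal
  trans Algebra.FormallyUnramified (Localization.AtPrime p) (Localization.AtPrime q.asIdeal)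
  · rw [← RingHom.formallyUnramified_algebraMap]
    exact RingHom.FormallyUnramified.respectsIso.arrow_mk_iso_iff
      (Scheme.arrowStalkMapSpecIso (CommRingCat.ofHom (algebraMap R S)) q)
  · exact ⟨fun _ ↦ Algebra.FormallyUnramified.comp _ (Localization.AtPrime p) _,
      fun (_ : Algebra.FormallyUnramified R (Localization.AtPrime q.asIdeal)) ↦
        Algebra.FormallyUnramified.of_restrictScalars R _ _⟩

attribute [local instance] Algebra.TensorProduct.rightAlgebra in
lemma spec_descent (R A T : Type u) [CommRing R] [CommRing A] [CommRing T] [Algebra R A]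
    [Algebra R T] [Algebra.FiniteType R A] (q' : PrimeSpectrum (A ⊗[R] T))
    (h : ((Spec.map (CommRingCat.ofHom (algebraMap T (A ⊗[R] T)))).stalkMap
      q').hom.FormallyUnramified) :
    ((Spec.map (CommRingCat.ofHom (algebraMap R A))).stalkMap
      ((Spec.map (CommRingCat.ofHom (algebraMap A (A ⊗[R] T)))).base
        q')).hom.FormallyUnramified := by
  rw [specUnr] at h
  have := unramifiedLocus_descent R T A (A ⊗[R] T) q' h
  exact (specUnr _).mpr this

attribute [local instance] Algebra.TensorProduct.rightAlgebra in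
lemma pullback_spec_descent {R S T : CommRingCat.{u}} (φ : R ⟶ S) (ψ : R ⟶ T)
    (hφ : φ.hom.FiniteType) (x₀ : ↑(pullback (Spec.map φ) (Spec.map ψ)))
    (h : ((pullback.snd (Spec.map φ) (Spec.map ψ)).stalkMap x₀).hom.FormallyUnramified) :
    ((Spec.map φ).stalkMap
      ((pullback.fst (Spec.map φ) (Spec.map ψ)).base x₀)).hom.FormallyUnramified := by
  algebraize [φ.hom, ψ.hom]
  have hpo := CommRingCat.isPushout_of_isPushout (R : Type u) (S : Type u) (T : Type u)
    ((S : Type u) ⊗[(R : Type u)] (T : Type u))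
  have hpb : IsPullback
      (Spec.map (CommRingCat.ofHom (algebraMap S ((S : Type u) ⊗[(R : Type u)] (T : Type u)))))
      (Spec.map (CommRingCat.ofHom (algebraMap T ((S : Type u) ⊗[(R : Type u)] (T : Type u)))))
      (Spec.map φ) (Spec.map ψ) :=
    isPullback_SpecMap_of_isPushout _ _ _ _ hpo
  obtain ⟨q', rfl⟩ : ∃ q', hpb.isoPullback.hom.base q' = x₀ :=
    ⟨hpb.isoPullback.inv.base x₀, by
      rw [← Scheme.Hom.comp_apply, hpb.isoPullback.inv_hom_id]; rfl⟩
  have hsnd : hpb.isoPullback.hom ≫ pullback.snd _ _ =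
      Spec.map (CommRingCat.ofHom
        (algebraMap T ((S : Type u) ⊗[(R : Type u)] (T : Type u)))) ≫ 𝟙 _ := by
    rw [Category.comp_id]; exact hpb.isoPullback_hom_snd
  have h' := (stalk_transfer RingHom.FormallyUnramified.respectsIso hpb.isoPullback.hom
    (pullback.snd _ _) _ (𝟙 _) hsnd q').mpr h
  have h'' := spec_descent (R : Type u) (S : Type u) (T : Type u) q' h'
  have hfst : (pullback.fst (Spec.map φ) (Spec.map ψ)).base (hpb.isoPullback.hom.base q') =
      (Spec.map (CommRingCat.ofHom
        (algebraMap S ((S : Type u) ⊗[(R : Type u)] (T : Type u))))).base q' := by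
    rw [← Scheme.Hom.comp_apply, hpb.isoPullback_hom_fst]
  exact (stalk_congr_point (P := RingHom.FormallyUnramified) (Spec.map φ) hfst).mpr h''

/-- Unramifiedness at a point descends along an arbitrary base change. -/
theorem stalk_unramified_descent {X Y Y' : Scheme.{u}} (f : X ⟶ Y) [LocallyOfFiniteType f]
    (g : Y' ⟶ Y) (x' : ↑(pullback f g))
    (h : ((pullback.snd f g).stalkMap x').hom.FormallyUnramified) :
    (f.stalkMap ((pullback.fst f g).base x')).hom.FormallyUnramified := by
  have hxy : f.base ((pullback.fst f g).base x') = g.base ((pullback.snd f g).base x') := by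
    rw [← Scheme.Hom.comp_apply, ← Scheme.Hom.comp_apply, pullback.condition]
  obtain ⟨_, ⟨V, hV, rfl⟩, hyV, -⟩ :=
    Y.isBasis_affineOpens.exists_subset_of_mem_open
      (Set.mem_univ (f.base ((pullback.fst f g).base x'))) isOpen_univ
  obtain ⟨_, ⟨W, hW, rfl⟩, hxW, hWV⟩ :=
    X.isBasis_affineOpens.exists_subset_of_mem_open hyV (V.2.preimage f.continuous)
  have hyV' : g.base ((pullback.snd f g).base x') ∈ (V : Set Y) := by rw [← hxy]; exact hyV
  obtain ⟨_, ⟨V', hV', rfl⟩, hy'V', hV'V⟩ :=
    Y'.isBasis_affineOpens.exists_subset_of_mem_open hyV' (V.2.preimage g.continuous)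
  have e₁ : Spec.map (f.appLE V W hWV) ≫ hV.fromSpec = hW.fromSpec ≫ f :=
    IsAffineOpen.SpecMap_appLE_fromSpec f hV hW hWV
  have e₂ : Spec.map (g.appLE V V' hV'V) ≫ hV.fromSpec = hV'.fromSpec ≫ g :=
    IsAffineOpen.SpecMap_appLE_fromSpec g hV hV' hV'V
  let ι := pullback.map (Spec.map (f.appLE V W hWV)) (Spec.map (g.appLE V V' hV'V)) f g
    hW.fromSpec hV'.fromSpec hV.fromSpec e₁ e₂
  have hr : x' ∈ Set.range ι.base := by
    rw [Scheme.Pullback.range_map]
    refine ⟨?_, ?_⟩
    · rw [Set.mem_preimage, hW.range_fromSpec]; exact hxW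
    · rw [Set.mem_preimage, hV'.range_fromSpec]; exact hy'V'
  obtain ⟨x₀, rfl⟩ := hr
  have hιsnd : ι ≫ pullback.snd f g = pullback.snd _ _ ≫ hV'.fromSpec :=
    pullback.lift_snd _ _ _
  have hιfst : ι ≫ pullback.fst f g = pullback.fst _ _ ≫ hW.fromSpec :=
    pullback.lift_fst _ _ _
  have h₀ := (stalk_transfer RingHom.FormallyUnramified.respectsIso ι (pullback.snd f g)
    (pullback.snd _ _) hV'.fromSpec hιsnd x₀).mpr h
  have h₁ := pullback_spec_descent (f.appLE V W hWV) (g.appLE V V' hV'V)
    (f.finiteType_appLE hV hW hWV) x₀ h₀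
  have h₂ := (stalk_transfer RingHom.FormallyUnramified.respectsIso hW.fromSpec f
    (Spec.map (f.appLE V W hWV)) hV.fromSpec e₁.symm
    ((pullback.fst (Spec.map (f.appLE V W hWV)) (Spec.map (g.appLE V V' hV'V))).base x₀)).mp h₁
  have hpt : hW.fromSpec.base ((pullback.fst (Spec.map (f.appLE V W hWV))
      (Spec.map (g.appLE V V' hV'V))).base x₀) = (pullback.fst f g).base (ι.base x₀) := by
    rw [← Scheme.Hom.comp_apply, ← Scheme.Hom.comp_apply, hιfst]
  exact (stalk_congr_point (P := RingHom.FormallyUnramified) f hpt).mp h₂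

/-- EGA IV 17.7.7 (unramified), stalk form. -/
theorem stalk_unramified_of_flat_comp {X Y S : Scheme.{u}} (f : Y ⟶ S) [LocallyOfFiniteType f]
    (g : X ⟶ Y) [LocallyOfFiniteType (g ≫ f)] (x : X) (hg : (g.stalkMap x).hom.Flat)
    (hh : ((g ≫ f).stalkMap x).hom.FormallyUnramified) :
    (f.stalkMap (g.base x)).hom.FormallyUnramified := by
  have h1 : (f.stalkMap (g.base x)).hom.EssFiniteType := LocallyOfFiniteType.stalkMap f (g.base x)
  have h2 : ((g ≫ f).stalkMap x).hom.EssFiniteType := LocallyOfFiniteType.stalkMap (g ≫ f) x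
  rw [Scheme.Hom.stalkMap_comp] at h2 hh
  exact formallyUnramified_of_faithfullyFlat_comp (f.stalkMap (g.base x)).hom
    (g.stalkMap x).hom h1 h2 hh hg

end Descent

end Groth.Agent.Lib.UnramLocH4
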