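import Mathlib
import Groth.Agent.Lib.UnramLoc_helper4

/-!
# Pointwise descent of smoothness along a base change that is flat at the point (helper4)
-/

open AlgebraicGeometry CategoryTheory CategoryTheory.Limits TensorProduct

universe u

namespace Groth.Agent.Lib.UnramLocH4

section RingSmooth

/-- Support and flat base change (no finiteness). -/
theorem mem_support_baseChange_of_flat {A B M : Type*} [CommRing A] [CommRing B] [Algebra A B]
    [Module.Flat A B] [AddCommGroup M] [Module A M] (q' : PrimeSpectrum B)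
    (h : PrimeSpectrum.comap (algebraMap A B) q' ∈ Module.support A M) :
    q' ∈ Module.support B (B ⊗[A] M) := by
  obtain ⟨m, hm⟩ := Module.mem_support_iff_exists_annihilator.mp h
  have hN : PrimeSpectrum.comap (algebraMap A B) q' ∈
      Module.support A (Submodule.span A {m}) := by
    rw [Module.mem_support_iff_of_finite]
    exact hm
  have h1 := mem_support_baseChange (A := A) (B := B) (M := Submodule.span A {m}) q' hN
  have hinj : Function.Injective ((Submodule.span A {m}).subtype.baseChange B) := by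
    rw [LinearMap.baseChange_eq_ltensor]
    exact Module.Flat.lTensor_preserves_injective_linearMap _ (Submodule.injective_subtype _)
  exact Module.support_subset_of_injective _ hinj h1

set_option backward.isDefEq.respectTransparency false in
/-- The free locus of a finitely presented module descends along flat ring maps. -/
theorem freeLocus_descent_of_flat {A B M : Type*} [CommRing A] [CommRing B] [Algebra A B]
    [Module.Flat A B] [AddCommGroup M] [Module A M] [Module.FinitePresentation A M]
    (q' : PrimeSpectrum B) (h : q' ∈ Module.freeLocus B (B ⊗[A] M)) :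
    PrimeSpectrum.comap (algebraMap A B) q' ∈ Module.freeLocus A M := by
  let Aq := Localization.AtPrime (PrimeSpectrum.comap (algebraMap A B) q').asIdeal
  let Bq := Localization.AtPrime q'.asIdeal
  rw [Module.mem_freeLocus_iff_tensor _ Bq] at h
  rw [Module.mem_freeLocus_iff_tensor _ Aq]
  let algebra : Algebra Aq Bq := (Localization.localRingHom
    (PrimeSpectrum.comap (algebraMap A B) q').asIdeal q'.asIdeal (algebraMap A B) rfl).toAlgebra
  have : IsScalarTower A Aq Bq := IsScalarTower.of_algebraMap_eq'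
    (by simp [Aq, Bq, algebra, RingHom.algebraMap_toAlgebra, Localization.localRingHom,
        ← IsScalarTower.algebraMap_eq])
  let e := AlgebraTensorModule.cancelBaseChange A Aq Bq Bq M ≪≫ₗ
    (AlgebraTensorModule.cancelBaseChange A B Bq Bq M).symm
  have hfree : Module.Free Bq (Bq ⊗[Aq] (Aq ⊗[A] M)) := Module.Free.of_equiv e.symm
  have hflatB : Module.Flat Bq (Bq ⊗[Aq] (Aq ⊗[A] M)) := inferInstance
  have h1 : Module.Flat A Bq := Module.Flat.trans A B Bq
  have h2 : Module.Flat Aq Bq :=
    (Module.flat_iff_of_isLocalization Aq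
      (PrimeSpectrum.comap (algebraMap A B) q').asIdeal.primeCompl Bq).mpr h1
  have h3 : IsLocalHom (algebraMap Aq Bq) :=
    Localization.isLocalHom_localRingHom _ _ _ rfl
  have h4 : Module.FaithfullyFlat Aq Bq := Module.FaithfullyFlat.of_flat_of_isLocalHom
  have h5 : Module.Flat Aq (Aq ⊗[A] M) := Module.Flat.of_flat_tensorProduct Aq (Aq ⊗[A] M) Bq
  exact Module.free_of_flat_of_isLocalRing

attribute [local instance] Algebra.TensorProduct.rightAlgebra

variable (R A T : Type u) [CommRing R] [CommRing A] [CommRing T] [Algebra R A] [Algebra R T]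

lemma flat_rightAlgebra [Module.Flat R T] : Module.Flat A (T ⊗[R] A) := by
  let e : A ⊗[R] T ≃ₗ[A] T ⊗[R] A :=
    { (TensorProduct.comm R A T) with
      map_smul' := fun a x => by
        show (TensorProduct.comm R A T) (a • x) = a • (TensorProduct.comm R A T) x
        induction x using TensorProduct.induction_on with
        | zero => simp
        | tmul b t =>
          have key : a • (t ⊗ₜ[R] b : T ⊗[R] A) = t ⊗ₜ[R] (a * b) := by
            rw [Algebra.smul_def, Algebra.TensorProduct.right_algebraMap_apply,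
              Algebra.TensorProduct.tmul_mul_tmul, one_mul]
          rw [TensorProduct.smul_tmul', TensorProduct.comm_tmul, TensorProduct.comm_tmul, key,
            smul_eq_mul]
        | add x y hx hy => rw [smul_add, map_add, hx, hy, map_add, smul_add] }
  exact Module.Flat.of_linearEquiv e.symm

/-- The `T ⊗ A`-linear comparison map for `H¹` of the cotangent complex. -/
noncomputable def h1Map :
    (T ⊗[R] A) ⊗[A] Algebra.H1Cotangent R A →ₗ[T ⊗[R] A] Algebra.H1Cotangent T (T ⊗[R] A) :=
  LinearMap.liftBaseChange (T ⊗[R] A) (Algebra.H1Cotangent.map R T A (T ⊗[R] A))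

noncomputable def h1G :
    T ⊗[R] Algebra.H1Cotangent R A →ₗ[R] (T ⊗[R] A) ⊗[A] Algebra.H1Cotangent R A :=
  TensorProduct.lift (LinearMap.mk₂ R
    (fun (t : T) (m : Algebra.H1Cotangent R A) => ((t ⊗ₜ[R] (1 : A)) ⊗ₜ[A] m))
    (fun t₁ t₂ m => by simp only [TensorProduct.add_tmul])
    (fun r t m => by simp only [TensorProduct.smul_tmul'])
    (fun t m₁ m₂ => by simp only [TensorProduct.tmul_add])
    (fun r t m => by simp only [TensorProduct.tmul_smul]))

lemma h1G_tmul (t : T) (m : Algebra.H1Cotangent R A) :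
    h1G R A T (t ⊗ₜ[R] m) = (t ⊗ₜ[R] (1 : A)) ⊗ₜ[A] m := by
  simp [h1G]

lemma h1Map_h1G [Module.Flat R T] (w : T ⊗[R] Algebra.H1Cotangent R A) :
    h1Map R A T (h1G R A T w) = Algebra.tensorH1CotangentOfFlat R A T w := by
  induction w using TensorProduct.induction_on with
  | zero => simp
  | tmul t m =>
    rw [Algebra.tensorH1CotangentOfFlat_tmul, h1G_tmul, h1Map, LinearMap.liftBaseChange_tmul,
      ← algebraMap_smul (T ⊗[R] A) t (Algebra.H1Cotangent.map R T A (T ⊗[R] A) m)]
    simp [Algebra.TensorProduct.algebraMap_apply]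
  | add x y hx hy => simp only [map_add, hx, hy]

lemma h1G_surjective : Function.Surjective (h1G R A T) := by
  intro z
  induction z using TensorProduct.induction_on with
  | zero => exact ⟨0, map_zero _⟩
  | tmul x m =>
    induction x using TensorProduct.induction_on with
    | zero => exact ⟨0, by simp⟩
    | tmul t a =>
      refine ⟨t ⊗ₜ[R] (a • m), ?_⟩
      rw [h1G_tmul, ← TensorProduct.smul_tmul]
      congr 1
      rw [Algebra.smul_def, Algebra.TensorProduct.right_algebraMap_apply,
        Algebra.TensorProduct.tmul_mul_tmul, one_mul, mul_one]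
    | add x y hx hy =>
      obtain ⟨wx, hwx⟩ := hx
      obtain ⟨wy, hwy⟩ := hy
      exact ⟨wx + wy, by rw [map_add, hwx, hwy, TensorProduct.add_tmul]⟩
  | add x y hx hy =>
    obtain ⟨wx, hwx⟩ := hx
    obtain ⟨wy, hwy⟩ := hy
    exact ⟨wx + wy, by rw [map_add, hwx, hwy]⟩

lemma h1Map_injective [Module.Flat R T] : Function.Injective (h1Map R A T) := by
  rw [injective_iff_map_eq_zero]
  intro z hz
  obtain ⟨w, rfl⟩ := h1G_surjective R A T z
  rw [h1Map_h1G] at hz
  have : w = 0 := (Algebra.tensorH1CotangentOfFlat R A T).injective (by rw [hz, map_zero])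
  rw [this, map_zero]

/-- Smoothness at a point descends along flat base change. -/
theorem smoothLocus_descent [Module.Flat R T] [Algebra.FinitePresentation R A]
    (q' : PrimeSpectrum (T ⊗[R] A)) (h : q' ∈ Algebra.smoothLocus T (T ⊗[R] A)) :
    PrimeSpectrum.comap (algebraMap A (T ⊗[R] A)) q' ∈ Algebra.smoothLocus R A := by
  haveI := flat_rightAlgebra R A T
  rw [Algebra.smoothLocus_eq_compl_support_inter] at h ⊢
  obtain ⟨h1, h2⟩ := h
  refine ⟨?_, ?_⟩
  · intro hq
    apply h1
    have := mem_support_baseChange_of_flat (A := A) (B := T ⊗[R] A)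
      (M := Algebra.H1Cotangent R A) q' hq
    exact Module.support_subset_of_injective (h1Map R A T) (h1Map_injective R A T) this
  · have h2' : q' ∈ Module.freeLocus (T ⊗[R] A) ((T ⊗[R] A) ⊗[A] Ω[A⁄R]) := by
      rwa [Module.freeLocus_congr (KaehlerDifferential.tensorKaehlerEquiv R T A (T ⊗[R] A))]
    exact freeLocus_descent_of_flat q' h2'

end RingSmooth

section SchemeSmooth

lemma specSmooth {R S : Type u} [CommRing R] [CommRing S] [Algebra R S] (q : PrimeSpectrum S) :
    ((Spec.map (CommRingCat.ofHom (algebraMap R S))).stalkMap q).hom.FormallySmooth ↔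
      q ∈ Algebra.smoothLocus R S := by
  let p := (PrimeSpectrum.comap (algebraMap R S) q).asIdeal
  have : q.asIdeal.LiesOver p := ⟨rfl⟩
  let := Localization.AtPrime.algebraOfLiesOver p q.asIdeal
  trans Algebra.FormallySmooth (Localization.AtPrime p) (Localization.AtPrime q.asIdeal)
  · rw [← RingHom.formallySmooth_algebraMap]
    exact RingHom.FormallySmooth.respectsIso.arrow_mk_iso_iff
      (Scheme.arrowStalkMapSpecIso (CommRingCat.ofHom (algebraMap R S)) q)
  · exact Algebra.FormallySmooth.iff_restrictScalars.symm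

attribute [local instance] Algebra.TensorProduct.rightAlgebra in
lemma spec_descent_smooth (R A T : Type u) [CommRing R] [CommRing A] [CommRing T] [Algebra R A]
    [Algebra R T] [Module.Flat R T] [Algebra.FinitePresentation R A]
    (q' : PrimeSpectrum (T ⊗[R] A))
    (h : ((Spec.map (CommRingCat.ofHom (algebraMap T (T ⊗[R] A)))).stalkMap
      q').hom.FormallySmooth) :
    ((Spec.map (CommRingCat.ofHom (algebraMap R A))).stalkMap
      ((Spec.map (CommRingCat.ofHom (algebraMap A (T ⊗[R] A)))).base
        q')).hom.FormallySmooth := by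
  rw [specSmooth] at h
  exact (specSmooth _).mpr (smoothLocus_descent R A T q' h)

attribute [local instance] Algebra.TensorProduct.rightAlgebra in
lemma pullback_spec_descent_smooth {R S T : CommRingCat.{u}} (φ : R ⟶ S) (ψ : R ⟶ T)
    (hφ : φ.hom.FinitePresentation) (hψ : ψ.hom.Flat)
    (x₀ : ↑(pullback (Spec.map φ) (Spec.map ψ)))
    (h : ((pullback.snd (Spec.map φ) (Spec.map ψ)).stalkMap x₀).hom.FormallySmooth) :
    ((Spec.map φ).stalkMap
      ((pullback.fst (Spec.map φ) (Spec.map ψ)).base x₀)).hom.FormallySmooth := by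
  algebraize [φ.hom, ψ.hom]
  have hpo := CommRingCat.isPushout_of_isPushout (R : Type u) (S : Type u) (T : Type u)
    ((T : Type u) ⊗[(R : Type u)] (S : Type u))
  have hpb : IsPullback
      (Spec.map (CommRingCat.ofHom (algebraMap S ((T : Type u) ⊗[(R : Type u)] (S : Type u)))))
      (Spec.map (CommRingCat.ofHom (algebraMap T ((T : Type u) ⊗[(R : Type u)] (S : Type u)))))
      (Spec.map φ) (Spec.map ψ) :=
    isPullback_SpecMap_of_isPushout _ _ _ _ hpo
  obtain ⟨q', rfl⟩ : ∃ q', hpb.isoPullback.hom.base q' = x₀ :=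
    ⟨hpb.isoPullback.inv.base x₀, by
      rw [← Scheme.Hom.comp_apply, hpb.isoPullback.inv_hom_id]; rfl⟩
  have hsnd : hpb.isoPullback.hom ≫ pullback.snd _ _ =
      Spec.map (CommRingCat.ofHom
        (algebraMap T ((T : Type u) ⊗[(R : Type u)] (S : Type u)))) ≫ 𝟙 _ := by
    rw [Category.comp_id]; exact hpb.isoPullback_hom_snd
  have h' := (stalk_transfer RingHom.FormallySmooth.respectsIso hpb.isoPullback.hom
    (pullback.snd _ _) _ (𝟙 _) hsnd q').mpr h
  have h'' := spec_descent_smooth (R : Type u) (S : Type u) (T : Type u) q' h'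
  have hfst : (pullback.fst (Spec.map φ) (Spec.map ψ)).base (hpb.isoPullback.hom.base q') =
      (Spec.map (CommRingCat.ofHom
        (algebraMap S ((T : Type u) ⊗[(R : Type u)] (S : Type u))))).base q' := by
    rw [← Scheme.Hom.comp_apply, hpb.isoPullback_hom_fst]
  exact (stalk_congr_point (P := RingHom.FormallySmooth) (Spec.map φ) hfst).mpr h''

/-- Smoothness at a point descends along a flat base change. -/
theorem stalk_smooth_descent_of_flat {X Y Y' : Scheme.{u}} (f : X ⟶ Y)
    [LocallyOfFinitePresentation f] (g : Y' ⟶ Y) [Flat g] (x' : ↑(pullback f g))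
    (h : ((pullback.snd f g).stalkMap x').hom.FormallySmooth) :
    (f.stalkMap ((pullback.fst f g).base x')).hom.FormallySmooth := by
  have hxy : f.base ((pullback.fst f g).base x') = g.base ((pullback.snd f g).base x') := by
    rw [← Scheme.Hom.comp_apply, ← Scheme.Hom.comp_apply, pullback.condition]
  obtain ⟨_, ⟨V, hV, rfl⟩, hyV, -⟩ :=
    Y.isBasis_affineOpens.exists_subset_of_mem_open
      (Set.mem_univ (f.base ((pullback.fst f g).base x'))) isOpen_univ
  obtain ⟨_, ⟨W, hW, rfl⟩, hxW, hWV⟩ :=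
    X.isBasis_affineOpens.exists_subset_of_mem_open hyV (V.2.preimage f.continuous)
  have hyV' : g.base ((pullback.snd f g).base x') ∈ (V : Set Y) := by rw [← hxy]; exact hyV
  obtain ⟨_, ⟨V', hV', rfl⟩, hy'V', hV'V⟩ :=
    Y'.isBasis_affineOpens.exists_subset_of_mem_open hyV' (V.2.preimage g.continuous)
  have e₁ : Spec.map (f.appLE V W hWV) ≫ hV.fromSpec = hW.fromSpec ≫ f :=
    IsAffineOpen.SpecMap_appLE_fromSpec f hV hW hWV
  have e₂ : Spec.map (g.appLE V V' hV'V) ≫ hV.fromSpec = hV'.fromSpec ≫ g :=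
    IsAffineOpen.SpecMap_appLE_fromSpec g hV hV' hV'V
  let ι := pullback.map (Spec.map (f.appLE V W hWV)) (Spec.map (g.appLE V V' hV'V)) f g
    hW.fromSpec hV'.fromSpec hV.fromSpec e₁ e₂
  have hr : x' ∈ Set.range ι.base := by
    rw [Scheme.Pullback.range_map]
    refine ⟨?_, ?_⟩
    · rw [Set.mem_preimage, hW.range_fromSpec]; exact hxW
    · rw [Set.mem_preimage, hV'.range_fromSpec]; exact hy'V'
  obtain ⟨x₀, rfl⟩ := hr
  have hιsnd : ι ≫ pullback.snd f g = pullback.snd _ _ ≫ hV'.fromSpec :=
    pullback.lift_snd _ _ _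
  have hιfst : ι ≫ pullback.fst f g = pullback.fst _ _ ≫ hW.fromSpec :=
    pullback.lift_fst _ _ _
  have h₀ := (stalk_transfer RingHom.FormallySmooth.respectsIso ι (pullback.snd f g)
    (pullback.snd _ _) hV'.fromSpec hιsnd x₀).mpr h
  have h₁ := pullback_spec_descent_smooth (f.appLE V W hWV) (g.appLE V V' hV'V)
    (f.finitePresentation_appLE hV hW hWV) (g.flat_appLE hV hV' hV'V) x₀ h₀
  have h₂ := (stalk_transfer RingHom.FormallySmooth.respectsIso hW.fromSpec f
    (Spec.map (f.appLE V W hWV)) hV.fromSpec e₁.symm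
    ((pullback.fst (Spec.map (f.appLE V W hWV)) (Spec.map (g.appLE V V' hV'V))).base x₀)).mp h₁
  have hpt : hW.fromSpec.base ((pullback.fst (Spec.map (f.appLE V W hWV))
      (Spec.map (g.appLE V V' hV'V))).base x₀) = (pullback.fst f g).base (ι.base x₀) := by
    rw [← Scheme.Hom.comp_apply, ← Scheme.Hom.comp_apply, hιfst]
  exact (stalk_congr_point (P := RingHom.FormallySmooth) f hpt).mp h₂

instance flat_fromSpecStalk {X : Scheme.{u}} (x : X) : Flat (X.fromSpecStalk x) := by
  obtain ⟨_, ⟨U, hU, rfl⟩, hxU, -⟩ :=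
    X.isBasis_affineOpens.exists_subset_of_mem_open (Set.mem_univ x) isOpen_univ
  rw [← hU.fromSpecStalk_eq_fromSpecStalk hxU]
  dsimp [IsAffineOpen.fromSpecStalk]
  have : Flat (Spec.map (X.presheaf.germ U x hxU)) := by
    rw [Flat.SpecMap_iff]
    letI : Algebra Γ(X, U) (X.presheaf.stalk x) := (X.presheaf.germ U x hxU).hom.toAlgebra
    haveI := hU.isLocalization_stalk ⟨x, hxU⟩
    exact RingHom.flat_algebraMap_iff.mpr
      (IsLocalization.flat _ (hU.primeIdealOf ⟨x, hxU⟩).asIdeal.primeCompl)
  infer_instance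

theorem main2757 {X Y Y' : Scheme.{u}} (f : X ⟶ Y) [LocallyOfFinitePresentation f]
    (g : Y' ⟶ Y) (x' : ↑(pullback f g))
    (hg : (g.stalkMap ((pullback.snd f g).base x')).hom.Flat)
    (h : ∃ U' : (pullback f g).Opens, x' ∈ U' ∧ Smooth (U'.ι ≫ pullback.snd f g)) :
    ∃ U : X.Opens, (pullback.fst f g).base x' ∈ U ∧ Smooth (U.ι ≫ f) := by
  obtain ⟨U', hx', hU'⟩ := h
  let j := Y'.fromSpecStalk ((pullback.snd f g).base x')
  haveI : Flat (j ≫ g) := by
    rw [← Scheme.SpecMap_stalkMap_fromSpecStalk g]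
    haveI : Flat (Spec.map (g.stalkMap ((pullback.snd f g).base x'))) :=
      Flat.SpecMap_iff.mpr hg
    infer_instance
  let κ : pullback f (j ≫ g) ⟶ pullback f g :=
    pullback.map f (j ≫ g) f g (𝟙 X) j (𝟙 Y) (by simp) (by simp)
  have hκsnd : κ ≫ pullback.snd f g = pullback.snd f (j ≫ g) ≫ j := pullback.lift_snd _ _ _
  have hκfst : κ ≫ pullback.fst f g = pullback.fst f (j ≫ g) :=
    (pullback.lift_fst _ _ _).trans (Category.comp_id _)
  have hr : x' ∈ Set.range κ.base := by
    rw [Scheme.Pullback.range_map]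
    refine ⟨⟨(pullback.fst f g).base x', rfl⟩, ?_⟩
    exact ⟨IsLocalRing.closedPoint _, Scheme.fromSpecStalk_closedPoint⟩
  obtain ⟨xt, hxt⟩ := hr
  have big : IsPullback (κ ≫ pullback.fst f g) (pullback.snd f (j ≫ g)) f (j ≫ g) := by
    rw [hκfst]; exact IsPullback.of_hasPullback f (j ≫ g)
  have left : IsPullback κ (pullback.snd f (j ≫ g)) (pullback.snd f g) j :=
    IsPullback.of_right big hκsnd (IsPullback.of_hasPullback f g)
  have top : IsPullback (κ ∣_ U') (κ ⁻¹ᵁ U').ι U'.ι κ := isPullback_morphismRestrict κ U'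
  have sq := top.paste_vert left
  have hsm : Smooth ((κ ⁻¹ᵁ U').ι ≫ pullback.snd f (j ≫ g)) :=
    MorphismProperty.of_isPullback (P := @Smooth) sq hU'
  have hxtU : xt ∈ κ ⁻¹ᵁ U' := by
    show κ.base xt ∈ U'
    rw [hxt]; exact hx'
  have hxtsm : ((pullback.snd f (j ≫ g)).stalkMap xt).hom.FormallySmooth := by
    have h1 : ((κ ⁻¹ᵁ U').ι ≫ pullback.snd f (j ≫ g)).smoothLocus = ⊤ :=
      Scheme.Hom.smoothLocus_eq_top _
    have h2 : (⟨xt, hxtU⟩ : ↥(κ ⁻¹ᵁ U')) ∈
        (κ ⁻¹ᵁ U').ι ⁻¹ᵁ (pullback.snd f (j ≫ g)).smoothLocus := by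
      rw [Scheme.Hom.preimage_smoothLocus_eq, h1]; trivial
    exact h2
  have key := stalk_smooth_descent_of_flat f (j ≫ g) xt hxtsm
  have hpt : (pullback.fst f (j ≫ g)).base xt = (pullback.fst f g).base x' := by
    rw [← hκfst, Scheme.Hom.comp_apply, hxt]
  have hmem : (pullback.fst f g).base x' ∈ f.smoothLocus := by
    rw [← hpt]; exact key
  refine ⟨f.smoothLocus, hmem, ?_⟩
  rw [← Scheme.Hom.smoothLocus_eq_top_iff, ← Scheme.Hom.preimage_smoothLocus_eq, eq_top_iff]
  intro z _
  exact z.2

end SchemeSmooth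

end Groth.Agent.Lib.UnramLocH4
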