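import Mathlib
import Groth.Agent.Lib.FlatDescent_helper4
import Groth.Agent.Lib.SmoothDesc_helper4
import Groth.Agent.Lib.UnramLoc_helper4

/-!
# Flatness at a point and flat base change (helper4)
-/

open AlgebraicGeometry CategoryTheory Limits MorphismProperty

universe u

set_option autoImplicit false
set_option linter.style.haveILetI false

namespace Groth.Agent.Lib.FlatPtBCH4

theorem faithfullyFlat_stalkMap {X Y : Scheme.{u}} (f : X ⟶ Y) [Flat f] (x : X) :
    (f.stalkMap x).hom.FaithfullyFlat := by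
  letI : Algebra (Y.presheaf.stalk (f x)) (X.presheaf.stalk x) := (f.stalkMap x).hom.toAlgebra
  exact @Module.FaithfullyFlat.of_flat_of_isLocalHom _ _ _ _ _ _ _
    (Flat.stalkMap f x) (f.toLRSHom.prop x)

theorem isIso_stalkMap_of_flat_of_isPreimmersion {X Y : Scheme.{u}} (f : X ⟶ Y) [Flat f]
    [IsPreimmersion f] (x : X) : IsIso (f.stalkMap x) := by
  rw [ConcreteCategory.isIso_iff_bijective]
  exact ⟨(faithfullyFlat_stalkMap f x).injective, f.stalkMap_surjective x⟩

theorem flat_of_flat_baseChange {F₂ F₁ X₁ X₀ : Scheme.{u}}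
    {v : F₂ ⟶ F₁} {d' : F₂ ⟶ X₁} {d : F₁ ⟶ X₀} {u : X₁ ⟶ X₀}
    (h : IsPullback v d' d u) [Flat u] (x : F₂) (hx : (d'.stalkMap x).hom.Flat) :
    (d.stalkMap (v.base x)).hom.Flat := by
  haveI : Flat v := MorphismProperty.of_isPullback (P := @Flat) h.flip inferInstance
  have hcomp : ((d'.stalkMap x).hom.comp (u.stalkMap (d' x)).hom).Flat :=
    RingHom.Flat.comp (Flat.stalkMap u (d' x)) hx
  have h1 : ((d' ≫ u).stalkMap x).hom.Flat := by
    rw [Scheme.Hom.stalkMap_comp]; exact hcomp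
  have h2 : ((v ≫ d).stalkMap x).hom.Flat := by rw [h.w]; exact h1
  rw [Scheme.Hom.stalkMap_comp] at h2
  have h2' : ((v.stalkMap x).hom.comp (d.stalkMap (v x)).hom).Flat := h2
  exact Groth.Agent.Lib.FlatDescent_helper4.ringHom_flat_of_comp _ _
    (faithfullyFlat_stalkMap v x) h2'

set_option maxHeartbeats 800000 in
theorem flat_baseChange_of_flat {F₂ F₁ X₁ X₀ : Scheme.{u}}
    {v : F₂ ⟶ F₁} {d' : F₂ ⟶ X₁} {d : F₁ ⟶ X₀} {u : X₁ ⟶ X₀}
    (h : IsPullback v d' d u) (x : F₂) (hx : (d.stalkMap (v.base x)).hom.Flat) :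
    (d'.stalkMap x).hom.Flat := by
  haveI : Flat (Spec.map (d.stalkMap (v.base x))) := Flat.SpecMap_iff.mpr hx
  haveI : Flat (F₁.fromSpecStalk (v.base x) ≫ d) := by
    rw [← Scheme.SpecMap_stalkMap_fromSpecStalk d]
    infer_instance
  have s1 : IsPullback (pullback.fst (F₁.fromSpecStalk (v.base x)) v)
      (pullback.snd (F₁.fromSpecStalk (v.base x)) v) (F₁.fromSpecStalk (v.base x)) v :=
    IsPullback.of_hasPullback _ v
  have s2 := s1.paste_vert h
  haveI : Flat (pullback.snd (F₁.fromSpecStalk (v.base x)) v ≫ d') :=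
    MorphismProperty.of_isPullback (P := @Flat) s2 inferInstance
  haveI : Flat (pullback.snd (F₁.fromSpecStalk (v.base x)) v) :=
    MorphismProperty.of_isPullback (P := @Flat) s1 inferInstance
  obtain ⟨x', -, hx'⟩ := Scheme.Pullback.exists_preimage_pullback
    (f := F₁.fromSpecStalk (v.base x)) (g := v) (IsLocalRing.closedPoint _) x
    Scheme.fromSpecStalk_closedPoint
  haveI := isIso_stalkMap_of_flat_of_isPreimmersion
    (pullback.snd (F₁.fromSpecStalk (v.base x)) v) x'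
  have h2 : (d'.stalkMap ((pullback.snd (F₁.fromSpecStalk (v.base x)) v) x')).hom.Flat := by
    refine (RingHom.Flat.respectsIso.cancel_right_isIso
      (d'.stalkMap ((pullback.snd (F₁.fromSpecStalk (v.base x)) v) x'))
      ((pullback.snd (F₁.fromSpecStalk (v.base x)) v).stalkMap x')).mp ?_
    have hfl := Flat.stalkMap (pullback.snd (F₁.fromSpecStalk (v.base x)) v ≫ d') x'
    rw [Scheme.Hom.stalkMap_comp] at hfl
    exact hfl
  exact (Groth.Agent.Lib.UnramLocH4.stalk_congr_point (P := RingHom.Flat) d' hx').mp h2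

theorem main5223 {F₂ F₁ X₁ X₀ : Scheme.{u}}
    {v : F₂ ⟶ F₁} {d' : F₂ ⟶ X₁} {d : F₁ ⟶ X₀} {u : X₁ ⟶ X₀}
    (h : IsPullback v d' d u) [Flat u] (x : F₂) :
    (d'.stalkMap x).hom.Flat ↔ (d.stalkMap (v.base x)).hom.Flat :=
  ⟨flat_of_flat_baseChange h x, flat_baseChange_of_flat h x⟩

end Groth.Agent.Lib.FlatPtBCH4
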