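import Mathlib

/-!
Over a perfect field, the tensor product of two reduced commutative algebras is reduced.
Application: the nilradical of a commutative Hopf algebra over a perfect field is a Hopf ideal.

`isReduced_pi`, `isReduced_tensor_fg`, `isReduced_tensor_of_geomReduced` are copied from
`Lib/GammaRed_helper1`, and `isReduced_tensor_of_isSeparable` from `Lib/GeomNormalSep_helper3`
(to keep this file's imports light).
-/

set_option autoImplicit false
universe u
open scoped TensorProduct

namespace Groth.Agent.Lib.PerfectRed

theorem isReduced_pi {ι : Type*} (R : ι → Type*) [∀ i, CommRing (R i)] [∀ i, IsReduced (R i)] :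
    IsReduced (∀ i, R i) := by
  constructor
  intro x hx
  funext i
  exact (hx.map (Pi.evalRingHom R i)).eq_zero

theorem isReduced_tensor_fg (K : Type u) [Field K] (R₁ D : Type u) [CommRing R₁] [CommRing D]
    [Algebra K R₁] [Algebra K D]
    (h₁ : ∀ (L : Type u) [Field L] [Algebra K L], IsReduced (R₁ ⊗[K] L))
    [Algebra.FiniteType K D] [IsReduced D] : IsReduced (R₁ ⊗[K] D) := by
  classical
  haveI : IsNoetherianRing D := Algebra.FiniteType.isNoetherianRing K D
  have hfin : (minimalPrimes D).Finite := minimalPrimes.finite_of_isNoetherianRing D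
  haveI : Fintype (minimalPrimes D) := hfin.fintype
  haveI hprime : ∀ p : minimalPrimes D, (p : Ideal D).IsPrime :=
    fun p => Ideal.minimalPrimes_isPrime p.2
  obtain ⟨ψ, hψdef⟩ : ∃ ψ : D →ₐ[K] (∀ p : minimalPrimes D, FractionRing (D ⧸ (p : Ideal D))),
      ∀ x p, ψ x p = algebraMap (D ⧸ (p : Ideal D)) (FractionRing (D ⧸ (p : Ideal D)))
        (Ideal.Quotient.mk (p : Ideal D) x) :=
    ⟨Pi.algHom K _ (fun p => (IsScalarTower.toAlgHom K (D ⧸ (p : Ideal D))
      (FractionRing (D ⧸ (p : Ideal D)))).comp (Ideal.Quotient.mkₐ K (p : Ideal D))),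
      fun x p => rfl⟩
  have hψ : Function.Injective ψ := by
    rw [injective_iff_map_eq_zero]
    intro x hx
    have hmem : ∀ p ∈ minimalPrimes D, x ∈ p := by
      intro p hp
      have h0 := congrFun hx ⟨p, hp⟩
      rw [hψdef] at h0
      haveI : p.IsPrime := Ideal.minimalPrimes_isPrime hp
      have h1 : Ideal.Quotient.mk p x = 0 :=
        (map_eq_zero_iff _ (IsFractionRing.injective (D ⧸ p) (FractionRing (D ⧸ p)))).1 h0
      exact Ideal.Quotient.eq_zero_iff_mem.1 h1
    have hx' : x ∈ sInf (minimalPrimes D) := Submodule.mem_sInf.2 hmem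
    rw [minimalPrimes, Ideal.sInf_minimalPrimes] at hx'
    have h2 : x ∈ nilradical D := hx'
    rw [nilradical_eq_zero] at h2
    exact h2
  haveI : ∀ p : minimalPrimes D, IsReduced (R₁ ⊗[K] FractionRing (D ⧸ (p : Ideal D))) :=
    fun p => h₁ _
  haveI : IsReduced (∀ p : minimalPrimes D, R₁ ⊗[K] FractionRing (D ⧸ (p : Ideal D))) :=
    isReduced_pi _
  have hinj1 : Function.Injective (Algebra.TensorProduct.map (AlgHom.id K R₁) ψ) :=
    Module.Flat.lTensor_preserves_injective_linearMap _ hψ
  obtain ⟨e, -⟩ : ∃ e : (R₁ ⊗[K] (∀ p : minimalPrimes D, FractionRing (D ⧸ (p : Ideal D)))) ≃ₐ[K]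
      (∀ p : minimalPrimes D, R₁ ⊗[K] FractionRing (D ⧸ (p : Ideal D))), True :=
    ⟨Algebra.TensorProduct.piRight K K R₁ (fun p : minimalPrimes D =>
      FractionRing (D ⧸ (p : Ideal D))), trivial⟩
  exact isReduced_of_injective
    (e.toAlgHom.comp (Algebra.TensorProduct.map (AlgHom.id K R₁) ψ)) (e.injective.comp hinj1)

theorem isReduced_tensor_of_geomReduced (K : Type u) [Field K] (R₁ R₂ : Type u) [CommRing R₁]
    [CommRing R₂] [Algebra K R₁] [Algebra K R₂]
    (h₁ : ∀ (L : Type u) [Field L] [Algebra K L], IsReduced (R₁ ⊗[K] L))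
    [IsReduced R₂] : IsReduced (R₁ ⊗[K] R₂) := by
  apply IsReduced.tensorProduct_of_flat_of_forall_fg
  intro D hD
  haveI : Algebra.FiniteType K D := (Subalgebra.fg_iff_finiteType D).1 hD
  haveI : IsReduced D := isReduced_of_injective D.val Subtype.val_injective
  exact isReduced_tensor_fg K R₁ D h₁

/-- `k' ⊗[k] K` is reduced for `k'/k` separable algebraic and `K` any field. -/
theorem isReduced_tensor_of_isSeparable (k k' K : Type u) [Field k] [Field k'] [Field K]
    [Algebra k k'] [Algebra k K] [Algebra.IsSeparable k k'] : IsReduced (k' ⊗[k] K) := by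
  have h1 : IsReduced (K ⊗[k] k') := by
    apply IsReduced.tensorProduct_of_flat_of_forall_fg
    intro B hB
    have hfield : IsField B := Subalgebra.isField_of_algebraic B
    letI := hfield.toField
    haveI : Algebra.IsSeparable k B := Algebra.isSeparable_tower_bot_of_isSeparable k B k'
    haveI : Algebra.FormallyUnramified k B := Algebra.FormallyUnramified.of_isSeparable k B
    haveI : Algebra.FiniteType k B := (Subalgebra.fg_iff_finiteType B).1 hB
    exact Algebra.FormallyUnramified.isReduced_of_field K (K ⊗[k] B)
  exact isReduced_of_injective (Algebra.TensorProduct.comm k k' K).toAlgHom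
    (Algebra.TensorProduct.comm k k' K).injective

/-- Separably generated field extensions stay reduced after any field base change. -/
theorem lemmaA (k K : Type u) [Field k] [Field K] [Algebra k K] (F : Type u) [Field F]
    [Algebra k F] [Algebra F K] [IsScalarTower k F K]
    [Algebra.IsSeparable F K] (ι : Type u) (e₀ : FractionRing (MvPolynomial ι k) ≃ₐ[k] F)
    (L' : Type u) [Field L'] [Algebra k L'] : IsReduced (K ⊗[k] L') := by
  haveI h1 : IsReduced (L' ⊗[k] MvPolynomial ι k) :=
    isReduced_of_injective (MvPolynomial.algebraTensorAlgEquiv k L') (AlgEquiv.injective _)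
  haveI h2 : IsReduced (MvPolynomial ι k ⊗[k] L') :=
    isReduced_of_injective (Algebra.TensorProduct.comm k (MvPolynomial ι k) L')
      (AlgEquiv.injective _)
  have h3' := isReduced_localizationPreserves
      (Algebra.algebraMapSubmonoid (MvPolynomial ι k ⊗[k] L')
        (nonZeroDivisors (MvPolynomial ι k)))
      ((MvPolynomial ι k ⊗[k] L') ⊗[MvPolynomial ι k] FractionRing (MvPolynomial ι k)) h2
  haveI h3 : IsReduced ((MvPolynomial ι k ⊗[k] L') ⊗[MvPolynomial ι k]
      FractionRing (MvPolynomial ι k)) := h3'
  haveI h4 : IsReduced (FractionRing (MvPolynomial ι k) ⊗[MvPolynomial ι k]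
      (MvPolynomial ι k ⊗[k] L')) :=
    isReduced_of_injective (Algebra.TensorProduct.comm (MvPolynomial ι k)
      (FractionRing (MvPolynomial ι k)) (MvPolynomial ι k ⊗[k] L')) (AlgEquiv.injective _)
  haveI h5 : IsReduced (FractionRing (MvPolynomial ι k) ⊗[k] L') :=
    isReduced_of_injective (Algebra.TensorProduct.cancelBaseChange k (MvPolynomial ι k)
      (FractionRing (MvPolynomial ι k)) (FractionRing (MvPolynomial ι k)) L').symm
      (AlgEquiv.injective _)
  haveI h6 : IsReduced (F ⊗[k] L') :=
    isReduced_of_injective (Algebra.TensorProduct.congr e₀.symm (AlgEquiv.refl (R := k) (A₁ := L')))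
      (AlgEquiv.injective _)
  haveI h7 : IsReduced (K ⊗[F] (F ⊗[k] L')) :=
    isReduced_tensor_of_geomReduced F K (F ⊗[k] L')
      (fun Ω _ _ => isReduced_tensor_of_isSeparable F K Ω)
  exact isReduced_of_injective (Algebra.TensorProduct.cancelBaseChange k F K K L').symm
    (AlgEquiv.injective _)

/-- Over a perfect field, the tensor product of two fields is reduced. -/
theorem lemmaB (k : Type u) [Field k] [PerfectField k] (L L' : Type u) [Field L] [Field L']
    [Algebra k L] [Algebra k L'] : IsReduced (L' ⊗[k] L) := by
  apply IsReduced.tensorProduct_of_flat_of_forall_fg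
  intro B hB
  haveI : Algebra.FiniteType k B := (Subalgebra.fg_iff_finiteType B).1 hB
  haveI : Algebra.EssFiniteType B (FractionRing B) :=
    Algebra.EssFiniteType.of_isLocalization (FractionRing B) (nonZeroDivisors B)
  haveI : Algebra.EssFiniteType k (FractionRing B) :=
    Algebra.EssFiniteType.comp k B (FractionRing B)
  obtain ⟨s, hs, hsep⟩ :=
    exists_isTranscendenceBasis_and_isSeparable_of_perfectField k (FractionRing B)
  haveI := hsep
  have hrange : Set.range ((↑) : s → FractionRing B) = (s : Set (FractionRing B)) := by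
    ext y; simp
  let e₀ : FractionRing (MvPolynomial s k) ≃ₐ[k]
      IntermediateField.adjoin k (s : Set (FractionRing B)) :=
    (hs.1.aevalEquivField).trans (IntermediateField.equivOfEq (by rw [hrange]))
  haveI h1 : IsReduced (FractionRing B ⊗[k] L') :=
    lemmaA k (FractionRing B) (IntermediateField.adjoin k (s : Set (FractionRing B))) s e₀ L'
  haveI h2 : IsReduced (L' ⊗[k] FractionRing B) :=
    isReduced_of_injective (Algebra.TensorProduct.comm k L' (FractionRing B))
      (AlgEquiv.injective _)
  have hinj : Function.Injective (IsScalarTower.toAlgHom k B (FractionRing B)) :=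
    IsFractionRing.injective B (FractionRing B)
  exact isReduced_of_injective
    (Algebra.TensorProduct.map (AlgHom.id k L') (IsScalarTower.toAlgHom k B (FractionRing B)))
    (Module.Flat.lTensor_preserves_injective_linearMap _ hinj)

/-- Over a perfect field, the tensor product of two reduced algebras is reduced. -/
theorem isReduced_tensor_of_perfectField (k : Type u) [Field k] [PerfectField k]
    (A B : Type u) [CommRing A] [CommRing B] [Algebra k A] [Algebra k B]
    [IsReduced A] [IsReduced B] : IsReduced (A ⊗[k] B) := by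
  have C1 : ∀ (L : Type u) [Field L] [Algebra k L], IsReduced (L ⊗[k] A) := fun L _ _ =>
    isReduced_tensor_of_geomReduced k L A (fun L' _ _ => lemmaB k L' L)
  have C2 : ∀ (L : Type u) [Field L] [Algebra k L], IsReduced (A ⊗[k] L) := fun L _ _ =>
    haveI := C1 L
    isReduced_of_injective (Algebra.TensorProduct.comm k A L) (AlgEquiv.injective _)
  exact isReduced_tensor_of_geomReduced k A B C2

theorem nilradical_isHopfIdeal (k : Type u) [Field k] [PerfectField k] (A : Type u) [CommRing A]
    [HopfAlgebra k A] : (nilradical A).IsHopfIdeal k := by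
  haveI hred : IsReduced (A ⧸ nilradical A) :=
    (Ideal.isRadical_iff_quotient_reduced _).mp (Ideal.radical_isRadical (⊥ : Ideal A))
  haveI hred2 : IsReduced ((A ⧸ nilradical A) ⊗[k] (A ⧸ nilradical A)) :=
    isReduced_tensor_of_perfectField k _ _
  have key : ∀ a ∈ nilradical A,
      ((Algebra.TensorProduct.map (Ideal.Quotient.mkₐ k (nilradical A))
        (Ideal.Quotient.mkₐ k (nilradical A))).comp (Bialgebra.comulAlgHom k A)) a = 0 := by
    intro a ha
    have hnil : IsNilpotent a := mem_nilradical.mp ha
    exact (hnil.map _).eq_zero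
  haveI hco : ((nilradical A).restrictScalars k).IsCoideal := by
    refine ⟨?_, ?_⟩
    · intro x hx
      have hnil : IsNilpotent x := mem_nilradical.mp hx
      exact (hnil.map (Bialgebra.counitAlgHom k A)).eq_zero
    · intro x hx
      exact key x hx
  refine ⟨?_⟩
  intro x hx
  have hnil : IsNilpotent x := mem_nilradical.mp hx
  exact mem_nilradical.mpr (hnil.map (HopfAlgebra.antipodeAlgHom k A))

/-- A geometrically reduced algebra stays reduced after base change to ANY field extension
(Mathlib only has the algebraic case). -/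
theorem isReduced_tensor_of_isGeometricallyReduced (k S K : Type u) [Field k] [CommRing S]
    [Algebra k S] [Algebra.IsGeometricallyReduced k S] [Field K] [Algebra k K] :
    IsReduced (K ⊗[k] S) := by
  haveI hS : IsReduced (AlgebraicClosure k ⊗[k] S) :=
    (Algebra.isGeometricallyReduced_field_iff k S).mp inferInstance
  let φ : AlgebraicClosure k →ₐ[k] AlgebraicClosure K := IsAlgClosed.lift
  letI : Algebra (AlgebraicClosure k) (AlgebraicClosure K) := φ.toRingHom.toAlgebra
  haveI : IsScalarTower k (AlgebraicClosure k) (AlgebraicClosure K) :=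
    IsScalarTower.of_algebraMap_eq (fun x => (φ.commutes x).symm)
  haveI h1 : IsReduced (AlgebraicClosure K ⊗[AlgebraicClosure k] (AlgebraicClosure k ⊗[k] S)) :=
    isReduced_tensor_of_perfectField (AlgebraicClosure k) (AlgebraicClosure K)
      (AlgebraicClosure k ⊗[k] S)
  haveI h2 : IsReduced (AlgebraicClosure K ⊗[k] S) :=
    isReduced_of_injective
      (Algebra.TensorProduct.cancelBaseChange k (AlgebraicClosure k) (AlgebraicClosure K)
        (AlgebraicClosure K) S).symm (AlgEquiv.injective _)
  exact isReduced_of_injective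
    (Algebra.TensorProduct.map (IsScalarTower.toAlgHom k K (AlgebraicClosure K)) (AlgHom.id k S))
    (Module.Flat.rTensor_preserves_injective_linearMap _ (RingHom.injective _))

/-- `A ⊗[k] B` is reduced when `A` is geometrically reduced over `k` and `B` is reduced. -/
theorem isReduced_tensor_of_isGeometricallyReduced_of_isReduced (k A B : Type u) [Field k]
    [CommRing A] [CommRing B] [Algebra k A] [Algebra k B] [Algebra.IsGeometricallyReduced k A]
    [IsReduced B] : IsReduced (A ⊗[k] B) := by
  apply isReduced_tensor_of_geomReduced k A B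
  intro L _ _
  haveI := isReduced_tensor_of_isGeometricallyReduced k A L
  exact isReduced_of_injective (Algebra.TensorProduct.comm k A L) (AlgEquiv.injective _)

end Groth.Agent.Lib.PerfectRed
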