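import Mathlib
import Groth.Prelude.Def_Curv2
import Groth.Agent.Lib.FlatPtBC_helper4
import Groth.Agent.Lib.PerfectRed_lead

set_option autoImplicit false
set_option linter.style.haveILetI false
set_option linter.unusedSectionVars false
universe u
open scoped TensorProduct
open CategoryTheory CategoryTheory.Limits AlgebraicGeometry

attribute [local instance] Curv2.stalkAlgebra

namespace Groth.Agent.Lib.StalkDictH4

open Groth.Agent.Lib.FlatPtBCH4

variable (k : Type u) [Field k] (X : Scheme.{u}) [X.Over (Spec (CommRingCat.of k))]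

theorem fromSpecStalk_comp (x : X) :
    X.fromSpecStalk x ≫ (X ↘ Spec (CommRingCat.of k)) =
      Spec.map (CommRingCat.ofHom (algebraMap k (X.presheaf.stalk x))) := by
  apply ext_of_isAffine
  have hφ : CommRingCat.ofHom (algebraMap k (X.presheaf.stalk x)) =
      (Scheme.ΓSpecIso (CommRingCat.of k)).inv ≫ (X ↘ Spec (CommRingCat.of k)).appTop ≫
        X.presheaf.germ ⊤ x trivial := rfl
  have nat := Scheme.ΓSpecIso_inv_naturality ((Scheme.ΓSpecIso (CommRingCat.of k)).inv ≫
    (X ↘ Spec (CommRingCat.of k)).appTop ≫ X.presheaf.germ ⊤ x trivial)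
  rw [hφ, ← cancel_epi (Scheme.ΓSpecIso (CommRingCat.of k)).inv, ← nat,
    Scheme.Hom.comp_appTop, Scheme.fromSpecStalk_appTop]
  simp

variable (K : Type u) [Field K] [Algebra k K]

theorem isReduced_Z (x : X) (h : _root_.IsReduced (K ⊗[k] X.presheaf.stalk x)) :
    IsReduced (pullback (X.fromSpecStalk x) (Curv2.bcFst k X K)) := by
  let e1 := pullbackRightPullbackFstIso (X ↘ Spec (CommRingCat.of k))
    (Spec.map (CommRingCat.ofHom (algebraMap k K))) (X.fromSpecStalk x)
  let e2 := pullback.congrHom (fromSpecStalk_comp k X x)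
    (rfl : Spec.map (CommRingCat.ofHom (algebraMap k K)) = _)
  let e3 := pullbackSpecIso k (X.presheaf.stalk x) K
  haveI : _root_.IsReduced (X.presheaf.stalk x ⊗[k] K) :=
    isReduced_of_injective (Algebra.TensorProduct.comm k (X.presheaf.stalk x) K)
      (AlgEquiv.injective _)
  haveI : IsReduced (Spec (CommRingCat.of (X.presheaf.stalk x ⊗[k] K))) := inferInstance
  exact isReduced_of_isOpenImmersion (e1 ≪≫ e2 ≪≫ e3).hom

theorem stalk_reduced_of_tensor (x' : Curv2.bc k X K)
    (h : _root_.IsReduced (K ⊗[k] X.presheaf.stalk (Curv2.bcFst k X K x'))) :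
    _root_.IsReduced ((Curv2.bc k X K).presheaf.stalk x') := by
  haveI hZ := isReduced_Z k X K (Curv2.bcFst k X K x') h
  obtain ⟨z', -, hz2⟩ := Scheme.Pullback.exists_preimage_pullback
    (f := X.fromSpecStalk (Curv2.bcFst k X K x')) (g := Curv2.bcFst k X K)
    (IsLocalRing.closedPoint _) x' Scheme.fromSpecStalk_closedPoint
  have hinj := (faithfullyFlat_stalkMap
    (pullback.snd (X.fromSpecStalk (Curv2.bcFst k X K x')) (Curv2.bcFst k X K)) z').injective
  have hred : _root_.IsReduced ((Curv2.bc k X K).presheaf.stalk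
      ((pullback.snd (X.fromSpecStalk (Curv2.bcFst k X K x')) (Curv2.bcFst k X K)) z')) :=
    isReduced_of_injective _ hinj
  exact hz2 ▸ hred

theorem main1560 [PerfectField k] (x : X) [_root_.IsReduced (X.presheaf.stalk x)] :
    Curv2.IsGeomReducedAt k X x := by
  intro K _ _ x' hx
  subst hx
  exact stalk_reduced_of_tensor k X K x'
    (Groth.Agent.Lib.PerfectRed.isReduced_tensor_of_perfectField k K _)

end Groth.Agent.Lib.StalkDictH4
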