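import Mathlib
import Groth.Prelude.Def_Curv2
import Groth.Agent.Lib.StalkDict_helper4
import Groth.Agent.Lib.GeomIrrSch_helper4

set_option autoImplicit false
set_option linter.style.haveILetI false
set_option linter.unusedSectionVars false
universe u
open scoped TensorProduct
open CategoryTheory CategoryTheory.Limits AlgebraicGeometry

namespace Groth.Agent.Lib.RatPtsH4

attribute [local instance] Curv2.stalkAlgebra

theorem fromSpecResidueField_comp (k : Type u) [Field k] (X : Scheme.{u})
    [X.Over (Spec (CommRingCat.of k))] (x : X) :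
    X.fromSpecResidueField x ≫ (X ↘ Spec (CommRingCat.of k)) =
      Spec.map (CommRingCat.ofHom (Curv2.resMap k X x)) := by
  have h := Groth.Agent.Lib.StalkDictH4.fromSpecStalk_comp k X x
  unfold Scheme.fromSpecResidueField
  rw [Category.assoc, h, ← Spec.map_comp]
  rfl

theorem surjective_specMap (k : Type u) [Field k] (K : Type u) [Field K] [Algebra k K] :
    Surjective (Spec.map (CommRingCat.ofHom (algebraMap k K))) := by
  refine ⟨fun y => ?_⟩
  obtain ⟨z⟩ : Nonempty ↥(Spec (CommRingCat.of K)) := inferInstanceAs (Nonempty (PrimeSpectrum K))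
  exact ⟨z, Subsingleton.elim _ _⟩

theorem irreducibleSpace_pullback_of_dense {X S Y : Scheme.{u}} (f : X ⟶ S) (g : Y ⟶ S)
    [UniversallyOpen g] [Surjective g] [IrreducibleSpace ↥X]
    (hd : Dense {x : ↥X | Subsingleton ↥((pullback.fst f g).fiber x)}) :
    IrreducibleSpace ↥(pullback f g) := by
  have hopen : IsOpenMap (pullback.fst f g) := (pullback.fst f g).isOpenMap
  have hs : Function.Surjective (pullback.fst f g) := (pullback.fst f g).surjective
  have hpre : IsPreirreducible ((pullback.fst f g) ⁻¹' (Set.univ : Set ↥X)) := by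
    refine (IrreducibleSpace.isIrreducible_univ ↥X).isPreirreducible.preimage_of_dense_isPreirreducible_fiber
      _ hopen ?_
    intro y _
    rw [Set.univ_inter]
    refine closure_mono ?_ (hd y)
    intro x hx
    haveI : Subsingleton ↥((pullback.fst f g).fiber x) := hx
    show IsPreirreducible ((pullback.fst f g) ⁻¹' {x})
    rw [← Scheme.Hom.range_fiberι]
    exact (Set.subsingleton_range _).isPreirreducible
  rw [Set.preimage_univ] at hpre
  haveI : Nonempty ↥(pullback f g) :=
    (inferInstance : Nonempty ↥X).elim fun x => (hs x).elim fun z _ => ⟨z⟩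
  exact { isPreirreducible_univ := hpre, toNonempty := inferInstance }

theorem subsingleton_fiber (k : Type u) [Field k] (X : Scheme.{u})
    [X.Over (Spec (CommRingCat.of k))] (K : Type u) [Field K] [Algebra k K] (x : X)
    (hx : Function.Surjective (Curv2.resMap k X x)) :
    Subsingleton ↥((pullback.fst (X ↘ Spec (CommRingCat.of k))
      (Spec.map (CommRingCat.ofHom (algebraMap k K)))).fiber x) := by
  letI : Algebra k (X.residueField x) := (Curv2.resMap k X x).toAlgebra
  have hsurj : Function.Surjective
      (Algebra.TensorProduct.includeRight : K →ₐ[k] (X.residueField x) ⊗[k] K) :=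
    Algebra.TensorProduct.includeRight_surjective K hx
  have hinj := PrimeSpectrum.comap_injective_of_surjective
    (Algebra.TensorProduct.includeRight : K →ₐ[k] (X.residueField x) ⊗[k] K).toRingHom hsurj
  haveI : Subsingleton (PrimeSpectrum (X.residueField x ⊗[k] K)) := hinj.subsingleton
  haveI : Subsingleton ↥(Spec (CommRingCat.of (X.residueField x ⊗[k] K))) := ‹_›
  let e1 : (pullback.fst (X ↘ Spec (CommRingCat.of k))
      (Spec.map (CommRingCat.ofHom (algebraMap k K)))).fiber x ≅
      pullback (X.fromSpecResidueField x) (pullback.fst (X ↘ Spec (CommRingCat.of k))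
      (Spec.map (CommRingCat.ofHom (algebraMap k K)))) := pullbackSymmetry _ _
  let e2 : pullback (X.fromSpecResidueField x) (pullback.fst (X ↘ Spec (CommRingCat.of k))
      (Spec.map (CommRingCat.ofHom (algebraMap k K)))) ≅
      pullback (X.fromSpecResidueField x ≫ (X ↘ Spec (CommRingCat.of k)))
        (Spec.map (CommRingCat.ofHom (algebraMap k K))) := pullbackRightPullbackFstIso _ _ _
  let e3 : pullback (X.fromSpecResidueField x ≫ (X ↘ Spec (CommRingCat.of k)))
        (Spec.map (CommRingCat.ofHom (algebraMap k K))) ≅
      pullback (Spec.map (CommRingCat.ofHom (algebraMap k (X.residueField x))))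
        (Spec.map (CommRingCat.ofHom (algebraMap k K))) :=
    pullback.congrHom (fromSpecResidueField_comp k X x) rfl
  let e4 := pullbackSpecIso k (X.residueField x) K
  exact (e1 ≪≫ e2 ≪≫ e3 ≪≫ e4).hom.homeomorph.injective.subsingleton

theorem main7596 (k : Type u) [Field k] (X : Scheme.{u}) [X.Over (Spec (CommRingCat.of k))]
    [IrreducibleSpace ↥X]
    (hd : Dense {x : ↥X | Function.Surjective (Curv2.resMap k X x)}) :
    GeometricallyIrreducible (X ↘ (Spec (CommRingCat.of k))) := by
  refine ⟨(geometrically_iff_of_commRing_of_isClosedUnderIsomorphisms).mpr fun K _ _ => ?_⟩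
  haveI := GeomIrrSchH4.universallyOpen_specMap (k := k) K
  haveI : Surjective (Spec.map (CommRingCat.ofHom (algebraMap k K))) := surjective_specMap k K
  show IrreducibleSpace ↥(pullback (X ↘ Spec (CommRingCat.of k))
    (Spec.map (CommRingCat.ofHom (algebraMap k K))))
  exact irreducibleSpace_pullback_of_dense _ _
    (hd.mono fun x hx => subsingleton_fiber k X K x hx)

end Groth.Agent.Lib.RatPtsH4
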