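import Mathlib
import Groth.Prelude.Def_Curv2
import Groth.Agent.Lib.RatPts_helper4
import Groth.Agent.Lib.GeomIrr4_lead

set_option autoImplicit false
set_option linter.style.haveILetI false
set_option linter.unusedSectionVars false
universe u
open scoped TensorProduct
open CategoryTheory CategoryTheory.Limits AlgebraicGeometry

namespace Groth.Agent.Lib.GeomIrrProdH4

section alg
open Polynomial

set_option maxSynthPendingDepth 3 in
theorem mem_range_core {k K : Type u} [Field k] [Field K] [Algebra k K]
    (α : K) (hsep : IsSeparable k α)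
    (hT : (nilradical (K ⊗[k] AdjoinRoot (minpoly k α))).IsPrime) :
    α ∈ Set.range (algebraMap k K) := by
  by_contra hα
  have hint : IsIntegral k α := hsep.isIntegral
  have hirr : Irreducible (minpoly k α) := minpoly.irreducible hint
  haveI : Fact (Irreducible (minpoly k α)) := ⟨hirr⟩
  have hfne : minpoly k α ≠ 0 := minpoly.ne_zero hint
  have hdeg2 : 2 ≤ (minpoly k α).natDegree := by
    have h0 : 0 < (minpoly k α).natDegree := minpoly.natDegree_pos hint
    have h1 : (minpoly k α).natDegree ≠ 1 := by
      intro h1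
      apply hα
      have hd : (minpoly k α).degree = 1 := by rw [degree_eq_natDegree hfne, h1]; rfl
      exact RingHom.mem_range.1 (minpoly.mem_range_of_degree_eq_one k α hd)
    omega
  set fK := (minpoly k α).map (algebraMap k K) with hfK
  have hroot : IsRoot fK α := by
    rw [IsRoot.def, hfK, eval_map_algebraMap]; exact minpoly.aeval k α
  set g := fK /ₘ (X - C α) with hg
  have hfac : (X - C α) * g = fK := mul_divByMonic_eq_iff_isRoot.2 hroot
  have hsepK : fK.Separable := Separable.map hsep
  have hgα : g.eval α ≠ 0 := by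
    intro h0
    have hdvd : (X - C α) ∣ g := dvd_iff_isRoot.2 h0
    obtain ⟨g', hg'⟩ := hdvd
    have hsq : (X - C α) * (X - C α) ∣ fK := ⟨g', by rw [← hfac, hg', mul_assoc]⟩
    exact not_isUnit_X_sub_C α (hsepK.squarefree _ hsq)
  have hgdeg : g.natDegree ≠ 0 := by
    have h1 : g.natDegree = fK.natDegree - 1 := by
      rw [hg, natDegree_divByMonic _ (monic_X_sub_C α), natDegree_X_sub_C]
    rw [h1, hfK, natDegree_map]; omega
  have hev : ∀ x : K, aeval x g = g.eval x := fun x => by rw [coe_aeval_eq_eval]
  let t : K ⊗[k] AdjoinRoot (minpoly k α) := (1 : K) ⊗ₜ[k] AdjoinRoot.root (minpoly k α)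
  have ht : aeval t fK = 0 := by
    rw [hfK, aeval_map_algebraMap]
    have ht' : t = (Algebra.TensorProduct.includeRight :
        AdjoinRoot (minpoly k α) →ₐ[k] K ⊗[k] AdjoinRoot (minpoly k α))
        (AdjoinRoot.root (minpoly k α)) := rfl
    rw [ht', aeval_algHom_apply, AdjoinRoot.aeval_eq, AdjoinRoot.mk_self, map_zero]
  have hab : (t - algebraMap K (K ⊗[k] AdjoinRoot (minpoly k α)) α) * aeval t g = 0 := by
    rw [← ht, ← hfac, map_mul, map_sub, aeval_X, aeval_C]
  -- the K-point
  let σE : AdjoinRoot (minpoly k α) →ₐ[k] K :=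
    AdjoinRoot.liftAlgHom (minpoly k α) (Algebra.ofId k K) α (by
      rw [Algebra.toRingHom_ofId, ← aeval_def]; exact minpoly.aeval k α)
  let σ : K ⊗[k] AdjoinRoot (minpoly k α) →ₐ[K] K :=
    Algebra.TensorProduct.lift (AlgHom.id K K) σE (fun _ _ => Commute.all _ _)
  have hσt : σ t = α := by
    show σ ((1 : K) ⊗ₜ[k] AdjoinRoot.root (minpoly k α)) = α
    rw [Algebra.TensorProduct.lift_tmul]; simp [σE]
  have hb : ¬ IsNilpotent (aeval t g) := by
    intro hnil
    have h1 : IsNilpotent (σ (aeval t g)) := hnil.map σ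
    rw [← aeval_algHom_apply, hσt] at h1
    have h2 : aeval α g = 0 := h1.eq_zero
    exact hgα (by rw [← hev]; exact h2)
  -- the other point
  obtain ⟨α', hα'⟩ := IsAlgClosed.exists_aeval_eq_zero (AlgebraicClosure K) g
    (degree_ne_of_natDegree_ne hgdeg)
  have hne : α' ≠ algebraMap K (AlgebraicClosure K) α := by
    rintro rfl
    rw [aeval_algebraMap_apply] at hα'
    have h2 : aeval α g = 0 :=
      (algebraMap K (AlgebraicClosure K)).injective (by rw [hα', map_zero])
    exact hgα (by rw [← hev]; exact h2)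
  have hα'f : (minpoly k α).eval₂ (Algebra.ofId k (AlgebraicClosure K)) α' = 0 := by
    have h1 : aeval α' fK = 0 := by rw [← hfac, map_mul, hα', mul_zero]
    rw [hfK, aeval_map_algebraMap] at h1
    rw [Algebra.toRingHom_ofId, ← aeval_def]; exact h1
  let τE : AdjoinRoot (minpoly k α) →ₐ[k] AlgebraicClosure K :=
    AdjoinRoot.liftAlgHom (minpoly k α) (Algebra.ofId k _) α' hα'f
  let τ : K ⊗[k] AdjoinRoot (minpoly k α) →ₐ[k] AlgebraicClosure K :=
    Algebra.TensorProduct.productMap (IsScalarTower.toAlgHom k K (AlgebraicClosure K)) τE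
  have ha : ¬ IsNilpotent (t - algebraMap K (K ⊗[k] AdjoinRoot (minpoly k α)) α) := by
    intro hnil
    have h1 := hnil.map τ
    have e1 : τ t = α' := by
      show τ ((1 : K) ⊗ₜ[k] AdjoinRoot.root (minpoly k α)) = α'
      rw [Algebra.TensorProduct.productMap_apply_tmul]; simp [τE]
    have e2 : τ (algebraMap K (K ⊗[k] AdjoinRoot (minpoly k α)) α) =
        algebraMap K (AlgebraicClosure K) α := by
      rw [Algebra.TensorProduct.algebraMap_apply, Algebra.TensorProduct.productMap_apply_tmul]
      simp
    rw [map_sub, e1, e2] at h1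
    exact hne (sub_eq_zero.1 h1.eq_zero)
  have h0 : (t - algebraMap K (K ⊗[k] AdjoinRoot (minpoly k α)) α) * aeval t g ∈
      nilradical (K ⊗[k] AdjoinRoot (minpoly k α)) := by
    rw [hab]; exact Ideal.zero_mem _
  rcases hT.mem_or_mem h0 with h | h
  · exact ha (mem_nilradical.1 h)
  · exact hb (mem_nilradical.1 h)


set_option maxSynthPendingDepth 3 in
theorem mem_range_of_tensor_self {k K : Type u} [Field k] [Field K] [Algebra k K]
    (hKK : (nilradical (K ⊗[k] K)).IsPrime) (α : K) (hsep : IsSeparable k α) :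
    α ∈ Set.range (algebraMap k K) := by
  have hint : IsIntegral k α := hsep.isIntegral
  haveI : Fact (Irreducible (minpoly k α)) := ⟨minpoly.irreducible hint⟩
  let σE : AdjoinRoot (minpoly k α) →ₐ[k] K :=
    AdjoinRoot.liftAlgHom (minpoly k α) (Algebra.ofId k K) α (by
      rw [Algebra.toRingHom_ofId, ← aeval_def]; exact minpoly.aeval k α)
  have hσE : Function.Injective σE := (σE : AdjoinRoot (minpoly k α) →+* K).injective
  have hinj : Function.Injective (Algebra.TensorProduct.map (AlgHom.id K K) σE) :=
    Module.Flat.lTensor_preserves_injective_linearMap (M := K) σE.toLinearMap hσE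
  exact mem_range_core α hsep
    (Groth.Agent.Lib.GeomIrr.nilradical_isPrime_of_injective
      (Algebra.TensorProduct.map (AlgHom.id K K) σE).toRingHom hinj hKK)

end alg

section top

theorem isIrreducible_of_generic_mem {Z : Type*} [TopologicalSpace Z] {ζ : Z}
    (hζ : IsGenericPoint ζ (Set.univ : Set Z)) {t : Set Z} (ht : ζ ∈ t) : IsIrreducible t := by
  refine ⟨⟨ζ, ht⟩, ?_⟩
  rintro u v hu hv ⟨a, -, hau⟩ ⟨b, -, hbv⟩
  exact ⟨ζ, ht, (hζ.mem_open_set_iff hu).mpr ⟨a, trivial, hau⟩,
    (hζ.mem_open_set_iff hv).mpr ⟨b, trivial, hbv⟩⟩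

end top

theorem irreducibleSpace_fiber_generic {Z Y : Scheme.{u}} (f : Z ⟶ Y) [IrreducibleSpace ↥Z]
    [IrreducibleSpace ↥Y] (hf : Function.Surjective f) :
    IrreducibleSpace ↥(f.fiber (genericPoint ↥Y)) := by
  have h1 : IsGenericPoint (f (genericPoint ↥Z)) (closure (f '' Set.univ)) :=
    (genericPoint_spec ↥Z).image f.continuous
  rw [Set.image_univ_of_surjective hf, closure_univ] at h1
  have h2 : f (genericPoint ↥Z) = genericPoint ↥Y := h1.eq (genericPoint_spec ↥Y)
  have h3 : IsIrreducible (f ⁻¹' {genericPoint ↥Y}) :=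
    isIrreducible_of_generic_mem (genericPoint_spec ↥Z)
      (show genericPoint ↥Z ∈ f ⁻¹' {genericPoint ↥Y} from h2)
  haveI : IrreducibleSpace ↥(f ⁻¹' {genericPoint ↥Y}) := isIrreducible_iff_irreducibleSpace.mp h3
  exact (f.fiberHomeo (genericPoint ↥Y)).irreducibleSpace_iff.mpr inferInstance

theorem irreducibleSpace_pullback_of_dense' {X S Y : Scheme.{u}} (f : X ⟶ S) (g : Y ⟶ S)
    [UniversallyOpen g] [Surjective g] [IrreducibleSpace ↥X]
    (hd : Dense {x : ↥X | PreirreducibleSpace ↥((pullback.fst f g).fiber x)}) :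
    IrreducibleSpace ↥(pullback f g) := by
  have hopen : IsOpenMap (pullback.fst f g) := (pullback.fst f g).isOpenMap
  have hs : Function.Surjective (pullback.fst f g) := (pullback.fst f g).surjective
  have hpre : IsPreirreducible ((pullback.fst f g) ⁻¹' (Set.univ : Set ↥X)) := by
    refine (IrreducibleSpace.isIrreducible_univ ↥X).isPreirreducible.preimage_of_dense_isPreirreducible_fiber
      _ hopen ?_
    intro y _
    rw [Set.univ_inter]
    refine closure_mono ?_ (hd y)
    intro x hx
    haveI : PreirreducibleSpace ↥((pullback.fst f g).fiber x) := hx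
    show IsPreirreducible ((pullback.fst f g) ⁻¹' {x})
    rw [← Scheme.Hom.range_fiberι, ← Set.image_univ]
    exact (PreirreducibleSpace.isPreirreducible_univ :
      IsPreirreducible (Set.univ : Set ↥((pullback.fst f g).fiber x))).image _
      ((pullback.fst f g).fiberι x).continuous.continuousOn
  rw [Set.preimage_univ] at hpre
  haveI : Nonempty ↥(pullback f g) :=
    (inferInstance : Nonempty ↥X).elim fun x => (hs x).elim fun z _ => ⟨z⟩
  exact { isPreirreducible_univ := hpre, toNonempty := inferInstance }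

attribute [local instance] Curv2.resAlgebra

theorem nonempty_fiberIso (k : Type u) [Field k] (X : Scheme.{u})
    [X.Over (Spec (CommRingCat.of k))] (K : Type u) [Field K] [Algebra k K] (x : X) :
    Nonempty ((pullback.fst (X ↘ Spec (CommRingCat.of k))
      (Spec.map (CommRingCat.ofHom (algebraMap k K)))).fiber x ≅
      Spec (CommRingCat.of (X.residueField x ⊗[k] K))) := by
  let e1 : (pullback.fst (X ↘ Spec (CommRingCat.of k))
      (Spec.map (CommRingCat.ofHom (algebraMap k K)))).fiber x ≅
      pullback (X.fromSpecResidueField x) (pullback.fst (X ↘ Spec (CommRingCat.of k))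
      (Spec.map (CommRingCat.ofHom (algebraMap k K)))) := pullbackSymmetry _ _
  let e2 : pullback (X.fromSpecResidueField x) (pullback.fst (X ↘ Spec (CommRingCat.of k))
      (Spec.map (CommRingCat.ofHom (algebraMap k K)))) ≅
      pullback (X.fromSpecResidueField x ≫ (X ↘ Spec (CommRingCat.of k)))
        (Spec.map (CommRingCat.ofHom (algebraMap k K))) := pullbackRightPullbackFstIso _ _ _
  let e3 : pullback (X.fromSpecResidueField x ≫ (X ↘ Spec (CommRingCat.of k)))
        (Spec.map (CommRingCat.ofHom (algebraMap k K))) ≅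
      pullback (Spec.map (CommRingCat.ofHom (algebraMap k (X.residueField x))))
        (Spec.map (CommRingCat.ofHom (algebraMap k K))) :=
    pullback.congrHom (RatPtsH4.fromSpecResidueField_comp k X x) rfl
  let e4 := pullbackSpecIso k (X.residueField x) K
  exact ⟨e1 ≪≫ e2 ≪≫ e3 ≪≫ e4⟩

theorem nonempty_fiber_snd_iso (k : Type u) [Field k] (X : Scheme.{u})
    [X.Over (Spec (CommRingCat.of k))] (η : X) :
    Nonempty ((pullback.snd (X ↘ Spec (CommRingCat.of k))
        (X ↘ Spec (CommRingCat.of k))).fiber η ≅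
      pullback (X ↘ Spec (CommRingCat.of k))
        (Spec.map (CommRingCat.ofHom (algebraMap k (X.residueField η))))) := by
  let e1 : pullback (pullback.snd (X ↘ Spec (CommRingCat.of k)) (X ↘ Spec (CommRingCat.of k)))
        (X.fromSpecResidueField η) ≅
      pullback (X ↘ Spec (CommRingCat.of k))
        (X.fromSpecResidueField η ≫ (X ↘ Spec (CommRingCat.of k))) :=
    pullbackLeftPullbackSndIso _ _ _
  let e2 : pullback (X ↘ Spec (CommRingCat.of k))
        (X.fromSpecResidueField η ≫ (X ↘ Spec (CommRingCat.of k))) ≅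
      pullback (X ↘ Spec (CommRingCat.of k))
        (Spec.map (CommRingCat.ofHom (algebraMap k (X.residueField η)))) :=
    pullback.congrHom rfl (RatPtsH4.fromSpecResidueField_comp k X η)
  exact ⟨e1 ≪≫ e2⟩

theorem surjective_of_nonempty {k : Type u} [Field k] {X : Scheme.{u}}
    (f : X ⟶ Spec (CommRingCat.of k)) [Nonempty ↥X] : Surjective f :=
  ⟨fun _ => (inferInstance : Nonempty ↥X).elim fun x => ⟨x, Subsingleton.elim _ _⟩⟩

theorem irreducibleSpace_of_prod (k : Type u) [Field k] (X : Scheme.{u})
    [X.Over (Spec (CommRingCat.of k))]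
    [h : IrreducibleSpace ↥(pullback (X ↘ Spec (CommRingCat.of k))
      (X ↘ Spec (CommRingCat.of k)))] : IrreducibleSpace ↥X := by
  obtain ⟨z0⟩ : Nonempty ↥(pullback (X ↘ Spec (CommRingCat.of k))
      (X ↘ Spec (CommRingCat.of k))) := inferInstance
  haveI : Nonempty ↥X := ⟨(pullback.fst (X ↘ Spec (CommRingCat.of k))
      (X ↘ Spec (CommRingCat.of k))) z0⟩
  haveI : Surjective (X ↘ Spec (CommRingCat.of k)) := surjective_of_nonempty _
  have hs2 : Function.Surjective (pullback.snd (X ↘ Spec (CommRingCat.of k))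
      (X ↘ Spec (CommRingCat.of k))) := Scheme.Hom.surjective _
  have h3 := (IrreducibleSpace.isIrreducible_univ ↥(pullback (X ↘ Spec (CommRingCat.of k))
      (X ↘ Spec (CommRingCat.of k)))).image
    (pullback.snd (X ↘ Spec (CommRingCat.of k)) (X ↘ Spec (CommRingCat.of k)))
    (pullback.snd (X ↘ Spec (CommRingCat.of k))
      (X ↘ Spec (CommRingCat.of k))).continuous.continuousOn
  rw [Set.image_univ_of_surjective hs2] at h3
  exact (irreducibleSpace_def _).mpr h3

theorem nilradical_tensor_self_isPrime (k : Type u) [Field k] (X : Scheme.{u})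
    [X.Over (Spec (CommRingCat.of k))] [IrreducibleSpace ↥X]
    [h : IrreducibleSpace ↥(pullback (X ↘ Spec (CommRingCat.of k))
      (X ↘ Spec (CommRingCat.of k)))] :
    (nilradical (X.residueField (genericPoint ↥X) ⊗[k]
      X.residueField (genericPoint ↥X))).IsPrime := by
  haveI : Surjective (X ↘ Spec (CommRingCat.of k)) := surjective_of_nonempty _
  haveI hb : IrreducibleSpace ↥((pullback.snd (X ↘ Spec (CommRingCat.of k))
      (X ↘ Spec (CommRingCat.of k))).fiber (genericPoint ↥X)) :=
    irreducibleSpace_fiber_generic _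
      (pullback.snd (X ↘ Spec (CommRingCat.of k)) (X ↘ Spec (CommRingCat.of k))).surjective
  obtain ⟨e⟩ := nonempty_fiber_snd_iso k X (genericPoint ↥X)
  haveI hc : IrreducibleSpace ↥(pullback (X ↘ Spec (CommRingCat.of k))
      (Spec.map (CommRingCat.ofHom (algebraMap k (X.residueField (genericPoint ↥X)))))) :=
    e.hom.homeomorph.irreducibleSpace_iff.mp hb
  haveI : Surjective (Spec.map (CommRingCat.ofHom
      (algebraMap k (X.residueField (genericPoint ↥X))))) :=
    RatPtsH4.surjective_specMap k _
  haveI hd : IrreducibleSpace ↥((pullback.fst (X ↘ Spec (CommRingCat.of k))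
      (Spec.map (CommRingCat.ofHom (algebraMap k
        (X.residueField (genericPoint ↥X)))))).fiber (genericPoint ↥X)) :=
    irreducibleSpace_fiber_generic _ (Scheme.Hom.surjective _)
  obtain ⟨e'⟩ := nonempty_fiberIso k X (X.residueField (genericPoint ↥X)) (genericPoint ↥X)
  have he : IrreducibleSpace ↥(Spec (CommRingCat.of (X.residueField (genericPoint ↥X) ⊗[k]
      X.residueField (genericPoint ↥X)))) :=
    e'.hom.homeomorph.irreducibleSpace_iff.mp hd
  exact PrimeSpectrum.irreducibleSpace_iff_isPrime_nilradical.mp he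

theorem geomIrr_of_generic (k : Type u) [Field k] (X : Scheme.{u})
    [X.Over (Spec (CommRingCat.of k))] [IrreducibleSpace ↥X]
    (hK : ∀ (L : Type u) [Field L] [Algebra k L],
      IrreducibleSpace (PrimeSpectrum (L ⊗[k] X.residueField (genericPoint ↥X)))) :
    GeometricallyIrreducible (X ↘ Spec (CommRingCat.of k)) := by
  refine ⟨(geometrically_iff_of_commRing_of_isClosedUnderIsomorphisms).mpr fun L _ _ => ?_⟩
  haveI := GeomIrrSchH4.universallyOpen_specMap (k := k) L
  haveI : Surjective (Spec.map (CommRingCat.ofHom (algebraMap k L))) :=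
    RatPtsH4.surjective_specMap k L
  show IrreducibleSpace ↥(pullback (X ↘ Spec (CommRingCat.of k))
    (Spec.map (CommRingCat.ofHom (algebraMap k L))))
  refine irreducibleSpace_pullback_of_dense' _ _ ?_
  have hdense : Dense ({genericPoint ↥X} : Set ↥X) :=
    dense_iff_closure_eq.mpr (genericPoint_spec ↥X).def
  refine hdense.mono (Set.singleton_subset_iff.mpr ?_)
  show PreirreducibleSpace _
  obtain ⟨e'⟩ := nonempty_fiberIso k X L (genericPoint ↥X)
  have h1 : (nilradical (X.residueField (genericPoint ↥X) ⊗[k] L)).IsPrime :=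
    Groth.Agent.Lib.GeomIrr.nilradical_isPrime_of_injective
      (Algebra.TensorProduct.comm k (X.residueField (genericPoint ↥X)) L).toRingEquiv.toRingHom
      (Algebra.TensorProduct.comm k (X.residueField (genericPoint ↥X)) L).injective
      (PrimeSpectrum.irreducibleSpace_iff_isPrime_nilradical.mp (hK L))
  have h2 : IrreducibleSpace ↥(Spec (CommRingCat.of
      (X.residueField (genericPoint ↥X) ⊗[k] L))) :=
    PrimeSpectrum.irreducibleSpace_iff_isPrime_nilradical.mpr h1
  haveI h3 := e'.hom.homeomorph.irreducibleSpace_iff.mpr h2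
  infer_instance

theorem main7594 (k : Type u) [Field k] (X : Scheme.{u}) [X.Over (Spec (CommRingCat.of k))] :
    GeometricallyIrreducible (X ↘ (Spec (CommRingCat.of k))) ↔
      IrreducibleSpace ↥(pullback (X ↘ (Spec (CommRingCat.of k)))
        (X ↘ (Spec (CommRingCat.of k)))) := by
  constructor
  · intro h
    haveI := h
    haveI : Nonempty ↥(Spec (CommRingCat.of k)) := inferInstanceAs (Nonempty (PrimeSpectrum k))
    haveI : IrreducibleSpace ↥X :=
      GeometricallyIrreducible.irreducibleSpace_of_subsingleton (X ↘ Spec (CommRingCat.of k))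
    infer_instance
  · intro h
    haveI := h
    haveI : IrreducibleSpace ↥X := irreducibleSpace_of_prod k X
    have h1 := nilradical_tensor_self_isPrime k X
    have h2 : ∀ α : X.residueField (genericPoint ↥X), IsSeparable k α →
        α ∈ Set.range (algebraMap k (X.residueField (genericPoint ↥X))) :=
      fun α hα => mem_range_of_tensor_self h1 α hα
    exact geomIrr_of_generic k X (Groth.Agent.Lib.GeomIrr.geomIrr_of_sepClosed_in h2)

end Groth.Agent.Lib.GeomIrrProdH4
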