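import Mathlib
import Groth.Prelude.Def_Curv2
import Groth.Agent.Lib.GeomIrrProd_helper4

set_option autoImplicit false
set_option linter.style.haveILetI false
set_option linter.unusedSectionVars false
universe u
open scoped TensorProduct
open CategoryTheory CategoryTheory.Limits AlgebraicGeometry

namespace Groth.Agent.Lib.GeomIrrFinH4

attribute [local instance] Curv2.resAlgebra

theorem irreducibleSpace_of_bc (k : Type u) [Field k] (X : Scheme.{u})
    [X.Over (Spec (CommRingCat.of k))] (K : Type u) [Field K] [Algebra k K]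
    [IrreducibleSpace ↥(Curv2.bc k X K)] : IrreducibleSpace ↥X := by
  haveI : Surjective (Spec.map (CommRingCat.ofHom (algebraMap k K))) :=
    RatPtsH4.surjective_specMap k K
  have hs : Function.Surjective (Curv2.bcFst k X K) := Scheme.Hom.surjective _
  have h3 := (IrreducibleSpace.isIrreducible_univ ↥(Curv2.bc k X K)).image (Curv2.bcFst k X K)
    (Curv2.bcFst k X K).continuous.continuousOn
  rw [Set.image_univ_of_surjective hs] at h3
  exact (irreducibleSpace_def _).mpr h3

/-- If `X` and `X_K` are irreducible, then `Spec (κ(η) ⊗ K)` is irreducible (η the generic point). -/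
theorem nilradical_generic_tensor (k : Type u) [Field k] (X : Scheme.{u})
    [X.Over (Spec (CommRingCat.of k))] (K : Type u) [Field K] [Algebra k K]
    [IrreducibleSpace ↥X] [IrreducibleSpace ↥(Curv2.bc k X K)] :
    (nilradical (X.residueField (genericPoint ↥X) ⊗[k] K)).IsPrime := by
  haveI : IrreducibleSpace ↥(pullback (X ↘ Spec (CommRingCat.of k))
      (Spec.map (CommRingCat.ofHom (algebraMap k K)))) := ‹IrreducibleSpace ↥(Curv2.bc k X K)›
  haveI : Surjective (Spec.map (CommRingCat.ofHom (algebraMap k K))) :=
    RatPtsH4.surjective_specMap k K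
  have hd : IrreducibleSpace ↥((pullback.fst (X ↘ Spec (CommRingCat.of k))
      (Spec.map (CommRingCat.ofHom (algebraMap k K)))).fiber (genericPoint ↥X)) :=
    GeomIrrProdH4.irreducibleSpace_fiber_generic _ (Scheme.Hom.surjective _)
  obtain ⟨e'⟩ := GeomIrrProdH4.nonempty_fiberIso k X K (genericPoint ↥X)
  have he : IrreducibleSpace ↥(Spec (CommRingCat.of
      (X.residueField (genericPoint ↥X) ⊗[k] K))) :=
    e'.hom.homeomorph.irreducibleSpace_iff.mp hd
  exact PrimeSpectrum.irreducibleSpace_iff_isPrime_nilradical.mp he

theorem main1539 (k : Type u) [Field k] (X : Scheme.{u}) [X.Over (Spec (CommRingCat.of k))]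
    (h : ∀ (k' : Type u) [Field k'] [Algebra k k'] [FiniteDimensional k k']
      [Algebra.IsSeparable k k'], IrreducibleSpace (Curv2.bc k X k')) :
    GeometricallyIrreducible (X ↘ (Spec (CommRingCat.of k))) := by
  haveI hk : IrreducibleSpace ↥(Curv2.bc k X k) := h k
  haveI : IrreducibleSpace ↥X := irreducibleSpace_of_bc k X k
  refine GeomIrrProdH4.geomIrr_of_generic k X ?_
  apply ((Groth.Agent.Lib.GeomIrr.tfae_geomIrr (k := k)
    (R := X.residueField (genericPoint ↥X))).out 1 0).1
  intro k' _ _ _ _
  haveI : IrreducibleSpace ↥(Curv2.bc k X k') := h k'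
  have h1 := nilradical_generic_tensor k X k'
  rw [PrimeSpectrum.irreducibleSpace_iff_isPrime_nilradical]
  exact Groth.Agent.Lib.GeomIrr.nilradical_isPrime_of_injective
      (Algebra.TensorProduct.comm k k' (X.residueField (genericPoint ↥X))).toRingEquiv.toRingHom
      (Algebra.TensorProduct.comm k k' (X.residueField (genericPoint ↥X))).injective h1

end Groth.Agent.Lib.GeomIrrFinH4
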