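import Mathlib
import Groth.Prelude.Def_Curv2
import Groth.Agent.Lib.GeomIrrFin_helper4

set_option autoImplicit false
set_option linter.style.haveILetI false
set_option linter.unusedSectionVars false
universe u
open scoped TensorProduct
open CategoryTheory CategoryTheory.Limits AlgebraicGeometry

namespace Groth.Agent.Lib.GeomIrrGenH4

attribute [local instance] Curv2.resAlgebra

theorem irreducibleSpace_bc_of_geomIrr (k : Type u) [Field k] (X : Scheme.{u})
    [X.Over (Spec (CommRingCat.of k))]
    (h : GeometricallyIrreducible (X ↘ (Spec (CommRingCat.of k))))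
    (K : Type u) [Field K] [Algebra k K] : IrreducibleSpace ↥(Curv2.bc k X K) :=
  pullback_of_geometrically h.1 K _

theorem main1540 (k : Type u) [Field k] (X : Scheme.{u}) [X.Over (Spec (CommRingCat.of k))]
    [IrreducibleSpace X] :
    GeometricallyIrreducible (X ↘ (Spec (CommRingCat.of k))) ↔
      ∀ a : X.residueField (genericPoint X), IsSeparable k a →
        a ∈ Set.range (algebraMap k (X.residueField (genericPoint X))) := by
  constructor
  · intro h a ha
    haveI : IrreducibleSpace ↥(Curv2.bc k X (X.residueField (genericPoint ↥X))) :=
      irreducibleSpace_bc_of_geomIrr k X h _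
    exact GeomIrrProdH4.mem_range_of_tensor_self
      (GeomIrrFinH4.nilradical_generic_tensor k X (X.residueField (genericPoint ↥X))) a ha
  · intro h2
    exact GeomIrrProdH4.geomIrr_of_generic k X
      (Groth.Agent.Lib.GeomIrr.geomIrr_of_sepClosed_in h2)

end Groth.Agent.Lib.GeomIrrGenH4
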