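import Mathlib
import Groth.Prelude.Def_Curv2
import Groth.Prelude.Def_FDesc
import Groth.Agent.Lib.GeomIrrGen_helper4

set_option autoImplicit false
set_option linter.style.haveILetI false
set_option linter.unusedSectionVars false
universe u
open scoped TensorProduct
open CategoryTheory CategoryTheory.Limits AlgebraicGeometry

namespace Groth.Agent.Lib.GeomConnPtH4

section top

theorem preconnectedSpace_of_open_closed {A B : Type*} [TopologicalSpace A] [TopologicalSpace B]
    {p : A → B} (ho : IsOpenMap p) (hcl : IsClosedMap p) [PreconnectedSpace B] (b : B)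
    (T : Set A) (hT : IsPreconnected T) (hbT : p ⁻¹' {b} ⊆ T) : PreconnectedSpace A := by
  rw [preconnectedSpace_iff_clopen]
  intro s hs
  by_contra hne
  push_neg at hne
  obtain ⟨hs0, hs1⟩ := hne
  have hsne : s.Nonempty := by
    first | exact hs0 | exact Set.nonempty_iff_ne_empty.mpr hs0
  have hscne : sᶜ.Nonempty := Set.nonempty_compl.mpr hs1
  have h1 : p '' s = Set.univ :=
    (isClopen_iff.mp ⟨hcl s hs.1, ho s hs.2⟩).resolve_left (hsne.image p).ne_empty
  have h2 : p '' sᶜ = Set.univ :=
    (isClopen_iff.mp ⟨hcl _ hs.compl.1, ho _ hs.compl.2⟩).resolve_left (hscne.image p).ne_empty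
  obtain ⟨a1, ha1s, ha1b⟩ : b ∈ p '' s := h1 ▸ Set.mem_univ b
  obtain ⟨a2, ha2s, ha2b⟩ : b ∈ p '' sᶜ := h2 ▸ Set.mem_univ b
  have hsub : T ⊆ s := hT.subset_isClopen hs ⟨a1, hbT ha1b, ha1s⟩
  exact ha2s (hsub (hbT ha2b))

end top

theorem isIntegralHom_specMap (k K : Type u) [Field k] [Field K] [Algebra k K]
    [Algebra.IsIntegral k K] : IsIntegralHom (Spec.map (CommRingCat.ofHom (algebraMap k K))) :=
  IsIntegralHom.SpecMap_iff.mpr (algebraMap_isIntegral_iff.mpr inferInstance)

/-- Core: for `K/k` algebraic, `X` connected, if some fibre of `X_K → X` is contained in a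
preconnected subset, then `X_K` is connected. -/
theorem connectedSpace_bc_of_fibre (k : Type u) [Field k] (X : Scheme.{u})
    [X.Over (Spec (CommRingCat.of k))] (K : Type u) [Field K] [Algebra k K]
    [Algebra.IsIntegral k K] [ConnectedSpace ↥X] (x : ↥X) (T : Set ↥(Curv2.bc k X K))
    (hT : _root_.IsPreconnected T) (hxT : (Curv2.bcFst k X K) ⁻¹' {x} ⊆ T) :
    ConnectedSpace ↥(Curv2.bc k X K) := by
  haveI := GeomIrrSchH4.universallyOpen_specMap (k := k) K
  haveI := isIntegralHom_specMap k K
  haveI : Surjective (Spec.map (CommRingCat.ofHom (algebraMap k K))) :=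
    RatPtsH4.surjective_specMap k K
  have hopen : IsOpenMap (Curv2.bcFst k X K) := (Curv2.bcFst k X K).isOpenMap
  have hclosed : IsClosedMap (Curv2.bcFst k X K) := (Curv2.bcFst k X K).isClosedMap
  have hs : Function.Surjective (Curv2.bcFst k X K) := Scheme.Hom.surjective _
  haveI : PreconnectedSpace ↥(Curv2.bc k X K) :=
    preconnectedSpace_of_open_closed hopen hclosed x T hT hxT
  haveI : Nonempty ↥(Curv2.bc k X K) := (hs x).elim fun z _ => ⟨z⟩
  exact { toNonempty := inferInstance }

attribute [local instance] Curv2.resAlgebra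

theorem irreducibleSpace_fiber_of_sepClosed (k : Type u) [Field k] (X : Scheme.{u})
    [X.Over (Spec (CommRingCat.of k))] (K : Type u) [Field K] [Algebra k K] (x : ↥X)
    (hsc : ∀ α : X.residueField x, IsSeparable k α →
      α ∈ Set.range (algebraMap k (X.residueField x))) :
    IrreducibleSpace ↥((pullback.fst (X ↘ Spec (CommRingCat.of k))
      (Spec.map (CommRingCat.ofHom (algebraMap k K)))).fiber x) := by
  obtain ⟨e'⟩ := GeomIrrProdH4.nonempty_fiberIso k X K x
  have h1 : (nilradical (X.residueField x ⊗[k] K)).IsPrime :=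
    Groth.Agent.Lib.GeomIrr.nilradical_isPrime_of_injective
      (Algebra.TensorProduct.comm k (X.residueField x) K).toRingEquiv.toRingHom
      (Algebra.TensorProduct.comm k (X.residueField x) K).injective
      (PrimeSpectrum.irreducibleSpace_iff_isPrime_nilradical.mp
        (Groth.Agent.Lib.GeomIrr.geomIrr_of_sepClosed_in hsc K))
  have h2 : IrreducibleSpace ↥(Spec (CommRingCat.of (X.residueField x ⊗[k] K))) :=
    PrimeSpectrum.irreducibleSpace_iff_isPrime_nilradical.mpr h1
  exact e'.hom.homeomorph.irreducibleSpace_iff.mpr h2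

theorem main4619 {k : Type u} [Field k] {X : Scheme.{u}}
    [ConnectedSpace X] (f : X ⟶ Spec (CommRingCat.of k)) (x : X)
    (hx : FBase.ResidueFieldProp f x (fun K _ _ => separableClosure k K = ⊥)) :
    GeometricallyConnected f := by
  letI : X.Over (Spec (CommRingCat.of k)) := ⟨f⟩
  obtain ⟨φ, hφ, hsep⟩ := hx
  have hφ' : φ = Curv2.resMap k X x := by
    have h1 : Spec.map (CommRingCat.ofHom φ) =
        Spec.map (CommRingCat.ofHom (Curv2.resMap k X x)) := by
      rw [hφ]; exact RatPtsH4.fromSpecResidueField_comp k X x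
    exact congrArg CommRingCat.Hom.hom (Spec.map_injective h1)
  subst hφ'
  have hsep' : separableClosure k (X.residueField x) = ⊥ := hsep
  have hsc : ∀ α : X.residueField x, IsSeparable k α →
      α ∈ Set.range (algebraMap k (X.residueField x)) := by
    intro α hα
    have h1 : α ∈ separableClosure k (X.residueField x) := mem_separableClosure_iff.mpr hα
    rw [hsep'] at h1
    exact IntermediateField.mem_bot.mp h1
  haveI hirr := irreducibleSpace_fiber_of_sepClosed k X (SeparableClosure k) x hsc
  have hfib : _root_.IsPreconnected ((Curv2.bcFst k X (SeparableClosure k)) ⁻¹' {x}) := by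
    rw [← Scheme.Hom.range_fiberι]
    exact isPreconnected_range ((Curv2.bcFst k X (SeparableClosure k)).fiberι x).continuous
  haveI : ConnectedSpace ↥(Curv2.bc k X (SeparableClosure k)) :=
    connectedSpace_bc_of_fibre k X (SeparableClosure k) x _ hfib subset_rfl
  exact GeomIrrSchH4.main1559 k X

theorem main2502 {k : Type u} [Field k]
    {X Y : Scheme.{u}} (g : Y ⟶ X) (f : X ⟶ Spec (CommRingCat.of k)) [Nonempty Y]
    [ConnectedSpace X] [hY : GeometricallyConnected (g ≫ f)] : GeometricallyConnected f := by
  letI : X.Over (Spec (CommRingCat.of k)) := ⟨f⟩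
  haveI hYK : ConnectedSpace ↥(pullback (g ≫ f)
      (Spec.map (CommRingCat.ofHom (algebraMap k (SeparableClosure k))))) :=
    pullback_of_geometrically hY.1 (SeparableClosure k) _
  let G : pullback (g ≫ f) (Spec.map (CommRingCat.ofHom (algebraMap k (SeparableClosure k)))) ⟶
      pullback f (Spec.map (CommRingCat.ofHom (algebraMap k (SeparableClosure k)))) :=
    pullback.lift (pullback.fst (g ≫ f) _ ≫ g) (pullback.snd (g ≫ f) _)
      (by rw [Category.assoc]; exact pullback.condition)
  have hG1 : G ≫ pullback.fst f _ = pullback.fst (g ≫ f) _ ≫ g := pullback.lift_fst _ _ _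
  have hG2 : G ≫ pullback.snd f _ = pullback.snd (g ≫ f) _ := pullback.lift_snd _ _ _
  have hpb : IsPullback G (pullback.fst (g ≫ f)
      (Spec.map (CommRingCat.ofHom (algebraMap k (SeparableClosure k)))))
      (pullback.fst f (Spec.map (CommRingCat.ofHom (algebraMap k (SeparableClosure k))))) g := by
    refine IsPullback.of_right ?_ hG1 (IsPullback.of_hasPullback f _).flip
    rw [hG2]
    exact (IsPullback.of_hasPullback (g ≫ f) _).flip
  obtain ⟨y⟩ := ‹Nonempty ↥Y›
  haveI : ConnectedSpace ↥(Curv2.bc k X (SeparableClosure k)) := by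
    refine connectedSpace_bc_of_fibre k X (SeparableClosure k) (g y) (Set.range G)
      (isPreconnected_range G.continuous) ?_
    intro z hz
    obtain ⟨w, hw1, -⟩ := Scheme.Pullback.exists_preimage_pullback
      (f := pullback.fst f (Spec.map (CommRingCat.ofHom (algebraMap k (SeparableClosure k)))))
      (g := g) z y hz
    refine ⟨hpb.isoPullback.inv w, ?_⟩
    rw [← Scheme.Hom.comp_apply, hpb.isoPullback_inv_fst]
    exact hw1
  exact GeomIrrSchH4.main1559 k X

end Groth.Agent.Lib.GeomConnPtH4
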