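import Groth.Agent.Lib.IsogKernel_lead
import Groth.Agent.Lib.AffineDescent_helper7
import Groth.Agent.Lib.GeomConnPt_helper4

/-! # Extensions of algebraic groups: affine / smooth / connected (lead) -/

set_option backward.isDefEq.respectTransparency false
set_option backward.isDefEq.respectTransparency.types false
set_option linter.unusedSimpArgs false
set_option linter.unusedVariables false
set_option linter.unusedSectionVars false
set_option linter.style.longLine false
set_option linter.style.haveILetI false
set_option maxHeartbeats 800000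

universe u

open CategoryTheory CategoryTheory.Limits MonoidalCategory CartesianMonoidalCategory MonObj GrpObj
  AlgebraicGeometry Opposite Topology

namespace Groth.Agent.Lib.ExtProps

open Groth.Agent.Lib.AssocBundle Groth.Agent.Lib.IsogKernel

/-- the identity is geometrically connected -/
theorem geomConn_id (S : Scheme.{u}) : GeometricallyConnected (𝟙 S) := by
  refine ⟨geometrically_iff_of_isClosedUnderIsomorphisms.mpr fun K _ y => ?_⟩
  haveI : IsIso (pullback.snd (𝟙 S) y) := inferInstance
  exact Function.Surjective.connectedSpace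
    (pullback.snd (𝟙 S) y).homeomorph.symm.surjective
    (pullback.snd (𝟙 S) y).homeomorph.symm.continuous

/-- geometric connectedness descends along surjective base change -/
theorem geomConn_descends {A X Y Z : Scheme.{u}} {fst : A ⟶ X} {snd : A ⟶ Y} {f : X ⟶ Z}
    {g : Y ⟶ Z} (h : IsPullback fst snd f g) [Surjective f] [hfst : GeometricallyConnected fst] :
    GeometricallyConnected g := by
  refine ⟨fun K _ y W p₁ p₂ sq => ?_⟩
  obtain ⟨pt⟩ := (inferInstance : Nonempty ↥(Spec (CommRingCat.of K)))
  obtain ⟨x, hx⟩ := (inferInstance : Surjective f).surj (y pt)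
  obtain ⟨w, hw1, hw2⟩ := Scheme.Pullback.exists_preimage_pullback x pt hx
  obtain ⟨x', t, hcond⟩ : ∃ (x' : Spec (CommRingCat.of ((pullback f y).residueField w)) ⟶ X)
      (t : Spec (CommRingCat.of ((pullback f y).residueField w)) ⟶ Spec (CommRingCat.of K)),
      x' ≫ f = t ≫ y :=
    ⟨(pullback f y).fromSpecResidueField w ≫ pullback.fst f y,
      (pullback f y).fromSpecResidueField w ≫ pullback.snd f y, by
        rw [Category.assoc, Category.assoc, pullback.condition]⟩
  -- `t` is surjective
  haveI : Subsingleton ↥(Spec (CommRingCat.of K)) :=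
    inferInstanceAs (Subsingleton (PrimeSpectrum K))
  obtain ⟨pt'⟩ := (inferInstance :
    Nonempty ↥(Spec (CommRingCat.of ((pullback f y).residueField w))))
  haveI ht : Surjective t := ⟨fun p => ⟨pt', Subsingleton.elim _ _⟩⟩
  -- base change of `W` along `t`
  obtain ⟨P', π₁, π₂, sqP⟩ : ∃ (P' : Scheme.{u}) (π₁ : P' ⟶ W)
      (π₂ : P' ⟶ Spec (CommRingCat.of ((pullback f y).residueField w))), IsPullback π₁ π₂ p₂ t :=
    ⟨_, _, _, IsPullback.of_hasPullback p₂ t⟩
  have hπ₁ : Surjective π₁ := MorphismProperty.of_isPullback (P := @Surjective) sqP.flip ht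
  have big : IsPullback (π₁ ≫ p₁) π₂ g (t ≫ y) := sqP.paste_horiz sq
  have cond : (π₂ ≫ x') ≫ f = (π₁ ≫ p₁) ≫ g := by
    calc (π₂ ≫ x') ≫ f = π₂ ≫ t ≫ y := by rw [Category.assoc, hcond]
      _ = (π₁ ≫ p₂) ≫ y := by rw [sqP.w, Category.assoc]
      _ = π₁ ≫ p₁ ≫ g := by rw [Category.assoc, sq.w]
      _ = (π₁ ≫ p₁) ≫ g := by rw [Category.assoc]
  obtain ⟨a, ha1, ha2⟩ : ∃ a : P' ⟶ A, a ≫ fst = π₂ ≫ x' ∧ a ≫ snd = π₁ ≫ p₁ :=
    ⟨h.lift _ _ cond, h.lift_fst _ _ _, h.lift_snd _ _ _⟩
  have big' : IsPullback (a ≫ snd) π₂ g (x' ≫ f) := by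
    rw [ha2, hcond]
    exact big
  have sqA : IsPullback a π₂ fst x' := IsPullback.of_right big' ha1 h.flip
  haveI : ConnectedSpace ↥P' := hfst.geometrically_connectedSpace x' a π₂ sqA
  exact Function.Surjective.connectedSpace hπ₁.surj π₁.continuous

section ext

variable {k : Type u} [Field k]
  {N G Q : Over (Spec (CommRingCat.of k))} [GrpObj N] [GrpObj G] [GrpObj Q]
  (i : N ⟶ G) (q : G ⟶ Q) [IsMonHom q] [Flat q.left] [Surjective q.left]
  (hker : AlgGrp.IsKernel i q)

/-- a connected group scheme over a field is geometrically connected -/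
theorem geomConn_grp (N : Over (Spec (CommRingCat.of k))) [GrpObj N] [ConnectedSpace N.left] :
    GeometricallyConnected N.hom := by
  haveI : Nonempty ↥(𝟙_ (Over (Spec (CommRingCat.of k)))).left := by
    show Nonempty ↥(Spec (CommRingCat.of k))
    infer_instance
  haveI : GeometricallyConnected ((η[N]).left ≫ N.hom) := by
    have e : (η[N]).left ≫ N.hom = 𝟙 (Spec (CommRingCat.of k)) := Over.w η[N]
    rw [e]
    exact geomConn_id _
  exact GeomConnPtH4.main2502 (η[N]).left N.hom

include hker in
theorem qc_q [QuasiCompact G.hom] [LocallyOfFiniteType Q.hom] : QuasiCompact q.left := by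
  haveI : IsNoetherianRing (CommRingCat.of k) := inferInstanceAs (IsNoetherianRing k)
  haveI : IsLocallyNoetherian Q.left := LocallyOfFiniteType.isLocallyNoetherian Q.hom
  haveI : QuasiSeparated Q.hom := QuasiSeparated.of_quasiSeparatedSpace Q.hom
  haveI : QuasiCompact (q.left ≫ Q.hom) := by rw [Over.w q]; infer_instance
  exact QuasiCompact.of_comp q.left Q.hom

include hker in
theorem affine_ext [QuasiCompact G.hom] [LocallyOfFiniteType Q.hom]
    (hN : IsAffine N.left) (hQ : IsAffine Q.left) : IsAffine G.left := by
  haveI := Groth.Agent.Lib.AffineDescent_helper7.isAffineHom_descends.{u}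
  haveI : QuasiCompact q.left := qc_q i q hker
  haveI : IsAffineHom N.hom := inferInstance
  haveI : IsAffineHom q.left := prop_of_kernel i q hker @IsAffineHom ‹IsAffineHom N.hom›
  exact isAffine_of_isAffineHom q.left

include hker in
theorem smooth_ext [QuasiCompact G.hom] [LocallyOfFiniteType Q.hom]
    (hN : Smooth N.hom) (hQ : Smooth Q.hom) : Smooth G.hom := by
  haveI : QuasiCompact q.left := qc_q i q hker
  haveI : Smooth q.left := prop_of_kernel i q hker @Smooth hN
  haveI : Smooth (q.left ≫ Q.hom) := inferInstance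
  have e : q.left ≫ Q.hom = G.hom := Over.w q
  rwa [e] at this

include hker in
theorem connected_ext [LocallyOfFiniteType G.hom] [LocallyOfFiniteType Q.hom]
    (hN : ConnectedSpace N.left) (hQ : ConnectedSpace Q.left) : ConnectedSpace G.left := by
  haveI : IsNoetherianRing (CommRingCat.of k) := inferInstanceAs (IsNoetherianRing k)
  haveI : IsLocallyNoetherian Q.left := LocallyOfFiniteType.isLocallyNoetherian Q.hom
  haveI : LocallyOfFiniteType (q.left ≫ Q.hom) := by rw [Over.w q]; infer_instance
  haveI : LocallyOfFiniteType q.left := locallyOfFiniteType_of_comp q.left Q.hom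
  haveI : LocallyOfFinitePresentation q.left := inferInstance
  haveI : UniversallyOpen q.left := inferInstance
  haveI hNgc : GeometricallyConnected N.hom := geomConn_grp N
  haveI : GeometricallyConnected (snd N G).left :=
    MorphismProperty.of_isPullback (P := @GeometricallyConnected)
      (IsPullback.of_hasPullback N.hom G.hom :
        IsPullback (fst N G).left (snd N G).left N.hom G.hom) hNgc
  have sq : IsPullback (snd N G).left ((i ▷ G) ≫ μ[G]).left q.left q.left :=
    ((cart_q i q hker).map (Over.forget _)).flip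
  haveI : GeometricallyConnected q.left := geomConn_descends sq
  exact GeometricallyConnected.connectedSpace q.left q.left.isOpenMap

end ext

end Groth.Agent.Lib.ExtProps
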