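import Mathlib

/-! Morphisms of schemes generating an fpqc-covering sieve: effective epimorphisms, stable under
base change and composition; descent of morphisms in `Over S` along them. -/

set_option autoImplicit false
universe u
open CategoryTheory CategoryTheory.Limits AlgebraicGeometry MonoidalCategory CartesianMonoidalCategory

namespace SchFpqcCovH7

/-- the sieve generated by `f` is fpqc-covering -/
def IsCov {X Y : Scheme.{u}} (f : X ⟶ Y) : Prop :=
  Sieve.generate (Presieve.singleton f) ∈ Scheme.fpqcTopology Y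

theorem isCov_of_data {Z Y : Scheme.{u}} (q : Z ⟶ Y) (hfl : Flat q) (hs : Surjective q)
    (h : ∀ V : Y.Opens, IsAffineOpen V →
      ∃ W : Z.Opens, IsCompact (W : Set Z) ∧ q.base '' (W : Set Z) = (V : Set Y)) : IsCov q := by
  haveI : QuasiCompactCover (Scheme.Hom.cover.{u} (P := @Flat) q hfl).toPreZeroHypercover := by
    refine ⟨fun {U} hU => ?_⟩
    obtain ⟨W, hWc, hWU⟩ := h U hU
    rw [IsCompactOpenCovered.iff_of_unique]
    exact ⟨W, hWc, hWU⟩
  have h1 := Scheme.Cover.mem_propQCTopology (P := @Flat) (Scheme.Hom.cover.{u} (P := @Flat) q hfl)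
  unfold IsCov
  rw [Scheme.fpqcTopology_eq_propQCTopology]
  convert h1 using 1
  rw [← Scheme.Hom.presieve₀_cover q hfl]

theorem IsCov.of_factor {X Z Y : Scheme.{u}} (q : Z ⟶ Y) (r : Z ⟶ X) (p : X ⟶ Y) (h : r ≫ p = q)
    (hq : IsCov q) : IsCov p := by
  unfold IsCov at *
  apply GrothendieckTopology.superset_covering _ _ hq
  rw [Sieve.generate_le_iff]
  rintro W g ⟨⟩
  exact ⟨X, r, p, Presieve.singleton.mk, h⟩

theorem IsCov.effectiveEpi {X Y : Scheme.{u}} {f : X ⟶ Y} (h : IsCov f) : EffectiveEpi f := by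
  rw [← Sieve.effectiveEpimorphic_singleton,
    Presieve.EffectiveEpimorphic.iff_forall_isSheafFor_yoneda]
  intro Z
  exact (GrothendieckTopology.Subcanonical.isSheaf_of_isRepresentable _).isSheafFor _ h

theorem IsCov.of_isPullback {P X Y Y' : Scheme.{u}} {fst : P ⟶ X} {snd : P ⟶ Y'} {f : X ⟶ Y}
    {g : Y' ⟶ Y} (sq : IsPullback fst snd f g) (h : IsCov f) : IsCov snd := by
  unfold IsCov at *
  have h1 := (Scheme.fpqcTopology).pullback_stable g h
  apply GrothendieckTopology.superset_covering _ _ h1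
  intro W k hk
  obtain ⟨X', a, b, ⟨⟩, hab⟩ := hk
  exact ⟨P, sq.lift a k hab, snd, Presieve.singleton.mk, sq.lift_snd _ _ _⟩

theorem IsCov.comp {X Y Z : Scheme.{u}} {f : X ⟶ Y} {g : Y ⟶ Z} (hf : IsCov f) (hg : IsCov g) :
    IsCov (f ≫ g) := by
  unfold IsCov at *
  apply (Scheme.fpqcTopology).transitive hg
  intro W h hh
  obtain ⟨Y', k, b, ⟨⟩, hkb⟩ := hh
  have h1 := (Scheme.fpqcTopology).pullback_stable k hf
  apply GrothendieckTopology.superset_covering _ _ h1
  intro V l hl
  obtain ⟨X', a, b', ⟨⟩, hab⟩ := hl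
  exact ⟨X, a, f ≫ g, Presieve.singleton.mk, by
    rw [← Category.assoc, hab, Category.assoc, hkb]⟩

variable {S : Scheme.{u}}

theorem epi_of_isCov {A B : Over S} (c : A ⟶ B) (hc : IsCov c.left) : Epi c := by
  haveI : EffectiveEpi c.left := hc.effectiveEpi
  haveI : Epi c.left := inferInstance
  exact (Over.forget S).epi_of_epi_map (by exact ‹Epi c.left›)

theorem desc_of_isCov {A B X : Over S} (c : A ⟶ B) (hc : IsCov c.left) (f : A ⟶ X)
    (hf : ∀ (T : Over S) (a₁ a₂ : T ⟶ A), a₁ ≫ c = a₂ ≫ c → a₁ ≫ f = a₂ ≫ f) :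
    ∃ f' : B ⟶ X, c ≫ f' = f := by
  haveI : EffectiveEpi c.left := hc.effectiveEpi
  haveI : Epi c.left := inferInstance
  have hcoeq : ∀ {Z : Scheme.{u}} (g₁ g₂ : Z ⟶ A.left), g₁ ≫ c.left = g₂ ≫ c.left →
      g₁ ≫ f.left = g₂ ≫ f.left := by
    intro Z g₁ g₂ h
    have hA : g₁ ≫ A.hom = g₂ ≫ A.hom := by
      rw [← Over.w c, ← Category.assoc, h, Category.assoc]
    let T : Over S := Over.mk (g₁ ≫ A.hom)
    let t₁ : T ⟶ A := Over.homMk g₁ rfl
    let t₂ : T ⟶ A := Over.homMk g₂ hA.symm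
    have ht : t₁ ≫ c = t₂ ≫ c := by ext; exact h
    exact congrArg (fun k => k.left) (hf T t₁ t₂ ht)
  let ψ : B.left ⟶ X.left := EffectiveEpi.desc c.left f.left hcoeq
  have hψ : c.left ≫ ψ = f.left := EffectiveEpi.fac c.left f.left hcoeq
  have hψw : ψ ≫ X.hom = B.hom := by
    rw [← cancel_epi c.left, ← Category.assoc, hψ, Over.w f, Over.w c]
  refine ⟨Over.homMk ψ hψw, ?_⟩
  ext
  exact hψ

theorem isCov_whiskerRight {A B : Over S} (c : A ⟶ B) (A' : Over S) (hc : IsCov c.left) :
    IsCov (c ▷ A').left := by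
  have hpb : IsPullback (c ▷ A').left (fst A A').left (fst B A').left c.left := by
    apply IsPullback.of_right (h₁₂ := (snd B A').left) (h₂₂ := B.hom) (v₁₃ := A'.hom)
    · have : (c ▷ A').left ≫ (snd B A').left = (snd A A').left := by simp
      rw [this, Over.w c]
      exact (IsPullback.of_hasPullback A.hom A'.hom).flip
    · simp
    · exact (IsPullback.of_hasPullback B.hom A'.hom).flip
  exact IsCov.of_isPullback hpb.flip hc

theorem isCov_whiskerLeft (B : Over S) {A' B' : Over S} (c' : A' ⟶ B') (hc : IsCov c'.left) :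
    IsCov (B ◁ c').left := by
  have hpb : IsPullback (B ◁ c').left (snd B A').left (snd B B').left c'.left := by
    apply IsPullback.of_right (h₁₂ := (fst B B').left) (h₂₂ := B'.hom) (v₁₃ := B.hom)
    · have h1 : (B ◁ c').left ≫ (fst B B').left = (fst B A').left := by simp
      rw [h1, Over.w c']
      exact IsPullback.of_hasPullback B.hom A'.hom
    · simp
    · exact IsPullback.of_hasPullback B.hom B'.hom
  exact IsCov.of_isPullback hpb.flip hc

theorem isCov_tensorHom {A B A' B' : Over S} (c : A ⟶ B) (c' : A' ⟶ B') (hc : IsCov c.left)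
    (hc' : IsCov c'.left) : IsCov (c ⊗ₘ c').left := by
  rw [MonoidalCategory.tensorHom_def]
  exact IsCov.comp (isCov_whiskerRight c A' hc) (isCov_whiskerLeft B c' hc')

end SchFpqcCovH7
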