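import Groth.Agent.Lib.BundleStages_lead
import Groth.Agent.Lib.SchFpqcCov_helper7
import Groth.Statements.S14884
import Groth.Statements.S14883
import Groth.Statements.S14886

/-! # Associated bundles `G ×^H X` (lead) -/

set_option backward.isDefEq.respectTransparency false
set_option backward.isDefEq.respectTransparency.types false
set_option linter.unusedSimpArgs false
set_option linter.unusedVariables false
set_option linter.unusedSectionVars false
set_option linter.style.longLine false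
set_option maxHeartbeats 800000

universe u

open CategoryTheory CategoryTheory.Limits MonoidalCategory CartesianMonoidalCategory MonObj GrpObj
  AlgebraicGeometry Opposite

namespace Groth.Agent.Lib.AssocBundle

open Groth.Agent.Lib.BundleStages Groth.Agent.Lib.TorsorSeq SchFpqcCovH7

theorem isPullback_of_exists_unique {C : Type*} [Category C] {P X Y Z : C} (fst : P ⟶ X)
    (snd : P ⟶ Y) (f : X ⟶ Z) (g : Y ⟶ Z) (w : fst ≫ f = snd ≫ g)
    (h : ∀ (T : C) (a : T ⟶ X) (b : T ⟶ Y), a ≫ f = b ≫ g → ∃ l : T ⟶ P, l ≫ fst = a ∧ l ≫ snd = b)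
    (huniq : ∀ (T : C) (l l' : T ⟶ P), l ≫ fst = l' ≫ fst → l ≫ snd = l' ≫ snd → l = l') :
    IsPullback fst snd f g :=
  ⟨⟨w⟩, ⟨PullbackCone.IsLimit.mk _ (fun s => (h s.pt s.fst s.snd s.condition).choose)
    (fun s => (h _ _ _ s.condition).choose_spec.1) (fun s => (h _ _ _ s.condition).choose_spec.2)
    (fun s m h1 h2 => huniq _ _ _ (h1.trans (h _ _ _ s.condition).choose_spec.1.symm)
      (h2.trans (h _ _ _ s.condition).choose_spec.2.symm))⟩⟩

theorem comp_eq_of_cover {C : Type*} [Category C] {T₂ T₁ T A Z : C} (a₁ a₂ : T₂ ⟶ T₁) (P1 : T₁ ⟶ T)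
    (f : T₁ ⟶ A) (k : A ⟶ Z) (v : T ⟶ Z) (hfk : f ≫ k = P1 ≫ v) (ha : a₁ ≫ P1 = a₂ ≫ P1) :
    (a₁ ≫ f) ≫ k = (a₂ ≫ f) ≫ k := by
  rw [Category.assoc, Category.assoc, hfk, ← Category.assoc, ← Category.assoc, ha]

variable {S : Scheme.{u}}

theorem isPullback_of_isIso_PsiY {G X Y : Over S} [GrpObj G] (a : AlgGrp.Action G X) (φ : X ⟶ Y)
    (h : GIT.IsInvariant a φ) [IsIso (GIT.PsiY a φ h)] :
    IsPullback a.act (snd G X) φ φ := by
  have h1 : IsPullback a.act.left (snd G X).left φ.left φ.left := by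
    refine IsPullback.of_iso_pullback ⟨h.left⟩ (asIso (GIT.PsiY a φ h)) ?_ ?_
    · exact pullback.lift_fst _ _ _
    · exact pullback.lift_snd _ _ _
  exact IsPullback.of_map (Over.forget S) h h1

theorem isCov_of_flat {X Y : Scheme.{u}} (f : X ⟶ Y) [Flat f] [Surjective f] [QuasiCompact f] :
    IsCov f :=
  Precoverage.generate_mem_toGrothendieck f.singleton_mem_fpqcPrecoverage

theorem exists_lift_cover {A Q : Over S} (q : A ⟶ Q)
    (hc : Flat q.left ∧ Surjective q.left ∧ QuasiCompact q.left) {T : Over S} (u : T ⟶ Q) :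
    ∃ (T₁ : Over S) (P1 : T₁ ⟶ T) (P2 : T₁ ⟶ A), IsCov P1.left ∧ Surjective P1.left ∧
      P1 ≫ u = P2 ≫ q := by
  obtain ⟨h1, h2, h3⟩ := hc
  let T₁ : Over S := Over.mk (pullback.fst u.left q.left ≫ T.hom)
  let P1 : T₁ ⟶ T := Over.homMk (pullback.fst u.left q.left) rfl
  have hw : pullback.snd u.left q.left ≫ A.hom = pullback.fst u.left q.left ≫ T.hom := by
    have := pullback.condition (f := u.left) (g := q.left)
    calc pullback.snd u.left q.left ≫ A.hom
        = pullback.snd u.left q.left ≫ q.left ≫ Q.hom := by rw [Over.w q]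
      _ = pullback.fst u.left q.left ≫ u.left ≫ Q.hom := by
          rw [← Category.assoc, ← this, Category.assoc]
      _ = _ := by rw [Over.w u]
  let P2 : T₁ ⟶ A := Over.homMk (pullback.snd u.left q.left) hw
  refine ⟨T₁, P1, P2, ?_, ?_, ?_⟩
  · show IsCov (pullback.fst u.left q.left)
    exact isCov_of_flat _
  · show Surjective (pullback.fst u.left q.left)
    infer_instance
  · ext
    exact pullback.condition

theorem lift_eta {A B : Over S} {T : Over S} (z : T ⟶ A ⊗ B) :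
    z = lift (z ≫ fst A B) (z ≫ snd A B) := by
  apply CartesianMonoidalCategory.hom_ext
  · rw [lift_fst]
  · rw [lift_snd]

theorem qc_left {A Q : Over S} (q : A ⟶ Q) [QuasiCompact A.hom] [QuasiSeparated Q.hom] :
    QuasiCompact q.left := by
  haveI : QuasiCompact (q.left ≫ Q.hom) := by rw [Over.w q]; infer_instance
  exact QuasiCompact.of_comp q.left Q.hom

instance qc_tensor {A B : Over S} [QuasiCompact A.hom] [QuasiCompact B.hom] :
    QuasiCompact (A ⊗ B).hom := by
  rw [Over.tensorObj_hom]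
  infer_instance

theorem isPullback_whiskerLeft (B : Over S) {A' B' : Over S} (c' : A' ⟶ B') :
    IsPullback (B ◁ c').left (snd B A').left (snd B B').left c'.left := by
  apply IsPullback.of_right (h₁₂ := (fst B B').left) (h₂₂ := B'.hom) (v₁₃ := B.hom)
  · have h1 : (B ◁ c').left ≫ (fst B B').left = (fst B A').left := by simp
    rw [h1, Over.w c']
    exact IsPullback.of_hasPullback B.hom A'.hom
  · simp
  · exact IsPullback.of_hasPullback B.hom B'.hom

instance whiskerLeft_isOpenImmersion (B : Over S) {A' B' : Over S} (c' : A' ⟶ B')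
    [IsOpenImmersion c'.left] : IsOpenImmersion (B ◁ c').left :=
  MorphismProperty.of_isPullback (P := @IsOpenImmersion) (isPullback_whiskerLeft B c').flip
    inferInstance

/-- A principal bundle (quotient by a free action, fpqc-locally trivial). -/
structure IsPB {H A Q : Over S} [GrpObj H] (b : AlgGrp.Action H A) (q : A ⟶ Q) : Prop where
  inv : b.act ≫ q = snd H A ≫ q
  pb : IsPullback b.act (snd H A) q q
  cov : Flat q.left ∧ Surjective q.left ∧ QuasiCompact q.left

theorem IsPB.of {H A Q : Over S} [GrpObj H] (b : AlgGrp.Action H A) (q : A ⟶ Q)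
    (hinv : GIT.IsInvariant b q) (hs : Function.Surjective q.left.base)
    (hiso : IsIso (GIT.PsiY b q hinv)) (hfl : Flat q.left) [QuasiCompact A.hom]
    [QuasiSeparated Q.hom] : IsPB b q :=
  ⟨hinv, isPullback_of_isIso_PsiY b q hinv, hfl, ⟨hs⟩, qc_left q⟩

theorem IsPB.act_q {H A Q : Over S} [GrpObj H] {b : AlgGrp.Action H A} {q : A ⟶ Q}
    (hA : IsPB b q) {T : Over S} (h : T ⟶ H) (z : T ⟶ A) :
    (lift h z ≫ b.act) ≫ q = z ≫ q := by
  rw [Category.assoc, hA.inv, ← Category.assoc, lift_snd]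

/-! ## Open immersions -/

theorem cart_of_openImm {H A A' Q Q' : Over S} [GrpObj H] (b : AlgGrp.Action H A)
    (c : AlgGrp.Action H A') (i' : A ⟶ A') [IsOpenImmersion i'.left]
    (hi' : b.act ≫ i' = (H ◁ i') ≫ c.act)
    (q : A ⟶ Q) (hA : IsPB b q) (q' : A' ⟶ Q') (hPB' : IsPullback c.act (snd H A') q' q')
    (m : Q ⟶ Q') (hm : q ≫ m = i' ≫ q') :
    IsPullback i' q q' m := by
  haveI : Mono i'.left := inferInstance
  haveI : Mono i' := Over.mono_of_mono_left i'
  apply isPullback_of_exists_unique _ _ _ _ hm.symm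
  · intro T v u huv
    obtain ⟨T₁, P1, P2, hcov, hsurj, e1⟩ := exists_lift_cover q hA.cov u
    have e2 : (P1 ≫ v) ≫ q' = (P2 ≫ i') ≫ q' := by
      rw [Category.assoc, huv, ← Category.assoc, e1, Category.assoc, hm, Category.assoc]
    obtain ⟨h, hh⟩ := exists_of_pb c.act q' hPB' (P1 ≫ v) (P2 ≫ i') e2
    have hw' : (lift h P2 ≫ b.act) ≫ i' = P1 ≫ v := by
      rw [Category.assoc, hi', ← Category.assoc, lift_whiskerLeft, hh]
    have hw'q : (lift h P2 ≫ b.act) ≫ q = P1 ≫ u := by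
      rw [hA.act_q, e1]
    have hw'l : (lift h P2 ≫ b.act).left ≫ i'.left = P1.left ≫ v.left :=
      congrArg (fun k => k.left) hw'
    have hrange : Set.range v.left ⊆ Set.range i'.left := by
      rintro _ ⟨t, rfl⟩
      obtain ⟨t1, rfl⟩ := hsurj.surj t
      refine ⟨(lift h P2 ≫ b.act).left t1, ?_⟩
      have := congrArg (fun k : T₁.left ⟶ A'.left => k t1) hw'l
      simpa using this
    have hw₀ : IsOpenImmersion.lift i'.left v.left hrange ≫ i'.left = v.left :=
      IsOpenImmersion.lift_fac _ _ _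
    have hw₀S : IsOpenImmersion.lift i'.left v.left hrange ≫ A.hom = T.hom := by
      rw [← Over.w i', ← Category.assoc, hw₀, Over.w v]
    let w : T ⟶ A := Over.homMk (IsOpenImmersion.lift i'.left v.left hrange) hw₀S
    have hw : w ≫ i' = v := by
      ext
      exact hw₀
    haveI := epi_of_isCov P1 hcov
    have h3 : P1 ≫ w = lift h P2 ≫ b.act := by
      rw [← cancel_mono i', Category.assoc, hw, hw']
    refine ⟨w, hw, ?_⟩
    rw [← cancel_epi P1, ← Category.assoc, h3, hw'q]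
  · intro T l l' h1 _
    exact (cancel_mono i').mp h1

theorem openImm {H A A' Q Q' : Over S} [GrpObj H] (b : AlgGrp.Action H A)
    (c : AlgGrp.Action H A') (i' : A ⟶ A') [IsOpenImmersion i'.left]
    (hi' : b.act ≫ i' = (H ◁ i') ≫ c.act)
    (q : A ⟶ Q) (hA : IsPB b q) (q' : A' ⟶ Q') (hA' : IsPB c q')
    (m : Q ⟶ Q') (hm : q ≫ m = i' ≫ q') :
    IsOpenImmersion m.left := by
  have hpb : IsPullback i'.left q.left q'.left m.left :=
    (cart_of_openImm b c i' hi' q hA q' hA'.pb m hm).map (Over.forget S)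
  obtain ⟨h1, h2, h3⟩ := hA'.cov
  exact MorphismProperty.of_isPullback_of_descendsAlong (P := @IsOpenImmersion)
    (Q := @Surjective ⊓ @Flat ⊓ @QuasiCompact) hpb ⟨⟨h2, h1⟩, h3⟩
    (inferInstance : IsOpenImmersion i'.left)

theorem whiskerLeft_equivariant {G H X Y : Over S} [GrpObj G] [GrpObj H] (j : H ⟶ G)
    (aX : AlgGrp.Action H X) (aY : AlgGrp.Action H Y) (i : X ⟶ Y)
    (hi : aX.act ≫ i = (H ◁ i) ≫ aY.act)
    (b : AlgGrp.Action H (G ⊗ X))
    (hb : ∀ (T : Over S) (h : T ⟶ H) (g : T ⟶ G) (x : T ⟶ X),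
      lift h (lift g x) ≫ b.act = lift (g * (h ≫ j)⁻¹) (lift h x ≫ aX.act))
    (c : AlgGrp.Action H (G ⊗ Y))
    (hc : ∀ (T : Over S) (h : T ⟶ H) (g : T ⟶ G) (x : T ⟶ Y),
      lift h (lift g x) ≫ c.act = lift (g * (h ≫ j)⁻¹) (lift h x ≫ aY.act)) :
    b.act ≫ (G ◁ i) = (H ◁ (G ◁ i)) ≫ c.act := by
  have hid : 𝟙 (H ⊗ (G ⊗ X)) = lift (fst _ _) (lift (snd _ _ ≫ fst _ _) (snd _ _ ≫ snd _ _)) := by
    apply CartesianMonoidalCategory.hom_ext
    · rw [lift_fst, Category.id_comp]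
    · rw [lift_snd, Category.id_comp]
      exact lift_eta _
  have key : ∀ (T : Over S) (h : T ⟶ H) (g : T ⟶ G) (x : T ⟶ X),
      lift h (lift g x) ≫ b.act ≫ (G ◁ i) = lift h (lift g x) ≫ (H ◁ (G ◁ i)) ≫ c.act := by
    intro T h g x
    have L : lift h (lift g x) ≫ b.act ≫ (G ◁ i) =
        lift (g * (h ≫ j)⁻¹) (lift h (x ≫ i) ≫ aY.act) := by
      rw [← Category.assoc, hb, lift_whiskerLeft, Category.assoc, hi, ← Category.assoc,
        lift_whiskerLeft]
    have R : lift h (lift g x) ≫ (H ◁ (G ◁ i)) ≫ c.act =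
        lift (g * (h ≫ j)⁻¹) (lift h (x ≫ i) ≫ aY.act) := by
      rw [← Category.assoc, lift_whiskerLeft, lift_whiskerLeft, hc]
    rw [L, R]
  have := key _ (fst _ _) (snd _ _ ≫ fst _ _) (snd _ _ ≫ snd _ _)
  rwa [← hid, Category.id_comp, Category.id_comp] at this

/-! ## The bundle over `G/H` -/

section bundle

variable {G H B : Over S} [GrpObj G] [GrpObj H] (j : H ⟶ G) [IsMonHom j] [Mono j]

theorem uniq_bundle {X QX : Over S} (aX : AlgGrp.Action H X) (b : AlgGrp.Action H (G ⊗ X))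
    (hb : ∀ (T : Over S) (h : T ⟶ H) (g : T ⟶ G) (x : T ⟶ X),
      lift h (lift g x) ≫ b.act = lift (g * (h ≫ j)⁻¹) (lift h x ≫ aX.act))
    (qX : G ⊗ X ⟶ QX) (hX : IsPB b qX)
    {T : Over S} (g : T ⟶ G) (x1 x2 : T ⟶ X) (e : lift g x1 ≫ qX = lift g x2 ≫ qX) : x1 = x2 := by
  obtain ⟨h, hh⟩ := exists_of_pb b.act qX hX.pb (lift g x1) (lift g x2) e
  rw [hb] at hh
  have h1 : g * (h ≫ j)⁻¹ = g := by
    simpa only [lift_fst] using congrArg (fun k => k ≫ fst G X) hh
  have h2 : lift h x2 ≫ aX.act = x1 := by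
    simpa only [lift_snd] using congrArg (fun k => k ≫ snd G X) hh
  have h3 : h ≫ j = 1 := by
    have := congrArg (fun t => g⁻¹ * t) h1
    simp only [inv_mul_cancel_left, inv_mul_cancel] at this
    exact inv_eq_one.mp this
  have h4 : h = 1 := by
    rw [← cancel_mono j, h3, MonObj.one_comp]
  rw [← h2, h4, act_one' aX]

theorem cartG (r : AlgGrp.Action H G)
    (hr : ∀ (T : Over S) (h : T ⟶ H) (g : T ⟶ G), lift h g ≫ r.act = g * (h ≫ j)⁻¹)
    (π : G ⟶ B) (hπ : IsPullback r.act (snd H G) π π)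
    {X QX : Over S} (aX : AlgGrp.Action H X) (b : AlgGrp.Action H (G ⊗ X))
    (hb : ∀ (T : Over S) (h : T ⟶ H) (g : T ⟶ G) (x : T ⟶ X),
      lift h (lift g x) ≫ b.act = lift (g * (h ≫ j)⁻¹) (lift h x ≫ aX.act))
    (qX : G ⊗ X ⟶ QX) (hX : IsPB b qX) (pX : QX ⟶ B) (hpX : qX ≫ pX = fst G X ≫ π) :
    IsPullback qX (fst G X) pX π := by
  have huniq : ∀ (T : Over S) (l l' : T ⟶ G ⊗ X), l ≫ qX = l' ≫ qX →
      l ≫ fst G X = l' ≫ fst G X → l = l' := by
    intro T l l' h1 h2
    have e1 : l = lift (l ≫ fst G X) (l ≫ snd G X) := lift_eta l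
    have e2 : l' = lift (l ≫ fst G X) (l' ≫ snd G X) := by rw [h2]; exact lift_eta l'
    have := uniq_bundle j aX b hb qX hX (l ≫ fst G X) (l ≫ snd G X) (l' ≫ snd G X)
      (by rw [← e1, ← e2]; exact h1)
    calc l = lift (l ≫ fst G X) (l ≫ snd G X) := e1
      _ = lift (l ≫ fst G X) (l' ≫ snd G X) := by rw [this]
      _ = l' := e2.symm
  apply isPullback_of_exists_unique _ _ _ _ hpX
  · intro T u g hug
    obtain ⟨T₁, P1, P2, hcov, hsurj, e1⟩ := exists_lift_cover qX hX.cov u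
    have e2 : (P1 ≫ g) ≫ π = (P2 ≫ fst G X) ≫ π := by
      rw [Category.assoc, ← hug, ← Category.assoc, e1, Category.assoc, hpX, Category.assoc]
    obtain ⟨h, hh⟩ := exists_of_pb r.act π hπ (P1 ≫ g) (P2 ≫ fst G X) e2
    obtain ⟨g', x', rfl⟩ : ∃ g' x', P2 = lift g' x' := ⟨_, _, lift_eta P2⟩
    rw [lift_fst, hr] at hh
    have hw'q : (lift h (lift g' x') ≫ b.act) ≫ qX = P1 ≫ u := by
      rw [hX.act_q, e1]
    have hw'f : (lift h (lift g' x') ≫ b.act) ≫ fst G X = P1 ≫ g := by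
      rw [hb, lift_fst, hh]
    obtain ⟨w, hw⟩ := desc_of_isCov P1 hcov (lift h (lift g' x') ≫ b.act)
      (fun T₂ a₁ a₂ ha => huniq T₂ _ _
        (comp_eq_of_cover a₁ a₂ P1 _ qX u hw'q ha)
        (comp_eq_of_cover a₁ a₂ P1 _ (fst G X) g hw'f ha))
    haveI := epi_of_isCov P1 hcov
    refine ⟨w, ?_, ?_⟩
    · rw [← cancel_epi P1, ← Category.assoc, hw, hw'q]
    · rw [← cancel_epi P1, ← Category.assoc, hw, hw'f]
  · exact huniq

theorem proper_pX (r : AlgGrp.Action H G)
    (hr : ∀ (T : Over S) (h : T ⟶ H) (g : T ⟶ G), lift h g ≫ r.act = g * (h ≫ j)⁻¹)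
    (π : G ⟶ B) (hπ : IsPB r π)
    {X QX : Over S} (aX : AlgGrp.Action H X) (b : AlgGrp.Action H (G ⊗ X))
    (hb : ∀ (T : Over S) (h : T ⟶ H) (g : T ⟶ G) (x : T ⟶ X),
      lift h (lift g x) ≫ b.act = lift (g * (h ≫ j)⁻¹) (lift h x ≫ aX.act))
    (qX : G ⊗ X ⟶ QX) (hX : IsPB b qX) (pX : QX ⟶ B) (hpX : qX ≫ pX = fst G X ≫ π)
    [IsProper X.hom] [IsSeparated B.hom] [LocallyOfFiniteType QX.hom] [QuasiCompact QX.hom]
    [IsSeparated QX.hom] : IsProper pX.left := by
  have hpb : IsPullback qX.left (fst G X).left pX.left π.left :=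
    (cartG j r hr π hπ.pb aX b hb qX hX pX hpX).map (Over.forget S)
  obtain ⟨h1, h2, h3⟩ := hπ.cov
  haveI : UniversallyClosed (fst G X).left := by rw [Over.fst_left]; infer_instance
  have huc : UniversallyClosed pX.left :=
    MorphismProperty.of_isPullback_of_descendsAlong (P := @UniversallyClosed)
      (Q := @Surjective ⊓ @Flat ⊓ @QuasiCompact) hpb.flip ⟨⟨h2, h1⟩, h3⟩ inferInstance
  haveI : IsSeparated (pX.left ≫ B.hom) := by rw [Over.w pX]; infer_instance
  haveI : IsSeparated pX.left := IsSeparated.of_comp pX.left B.hom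
  haveI : LocallyOfFiniteType (pX.left ≫ B.hom) := by rw [Over.w pX]; infer_instance
  haveI : LocallyOfFiniteType pX.left := locallyOfFiniteType_of_comp pX.left B.hom
  exact (isProper_iff _).mpr ⟨inferInstance, huc, inferInstance⟩

end bundle

end Groth.Agent.Lib.AssocBundle
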