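import Groth.Statements.S11428
import Groth.Statements.S11441
import Groth.Agent.Lib.AssocBundle_lead

/-! # Geometric quotients: separatedness and closed orbits (lead) -/

set_option backward.isDefEq.respectTransparency false
set_option backward.isDefEq.respectTransparency.types false
set_option linter.unusedSimpArgs false
set_option linter.unusedVariables false
set_option linter.unusedSectionVars false
set_option linter.style.longLine false
set_option linter.style.haveILetI false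
set_option maxHeartbeats 800000

universe u

open CategoryTheory CategoryTheory.Limits MonoidalCategory CartesianMonoidalCategory MonObj GrpObj
  AlgebraicGeometry Opposite Topology

namespace Groth.Agent.Lib.GeomQuotSep

open Groth.Agent.Lib.AssocBundle

variable {S : Scheme.{u}}

theorem isPullback_whiskerRight (B : Over S) {A' B' : Over S} (c' : A' ⟶ B') :
    IsPullback (c' ▷ B).left (fst A' B).left (fst B' B).left c'.left := by
  apply IsPullback.of_right (h₁₂ := (snd B' B).left) (h₂₂ := B'.hom) (v₁₃ := B.hom)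
  · have h1 : (c' ▷ B).left ≫ (snd B' B).left = (snd A' B).left := by simp
    rw [h1, Over.w c']
    exact (IsPullback.of_hasPullback A'.hom B.hom).flip
  · simp
  · exact (IsPullback.of_hasPullback B'.hom B.hom).flip

theorem sep_iff {Y S : Scheme.{u}} (g : Y ⟶ S) :
    IsSeparated g ↔ IsClosed (Set.range (pullback.diagonal g).base) := by
  constructor
  · intro h
    exact (pullback.diagonal g).isClosedEmbedding.isClosed_range
  · intro h
    exact ⟨IsClosedImmersion.of_isPreimmersion (pullback.diagonal g) h⟩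

theorem sep_core {GX XX YX YY X Y : Scheme.{u}} (φ : X ⟶ Y) (s p : GX ⟶ X) (f1 f2 : XX ⟶ X)
    (g1 g2 : YY ⟶ Y)
    (Ψ : GX ⟶ XX) (hΨ1 : Ψ ≫ f1 = s) (hΨ2 : Ψ ≫ f2 = p)
    (hXX : ∀ {T : Scheme.{u}} (a b : T ⟶ XX), a ≫ f1 = b ≫ f1 → a ≫ f2 = b ≫ f2 → a = b)
    (hYY : ∀ {T : Scheme.{u}} (a b : T ⟶ YY), a ≫ g1 = b ≫ g1 → a ≫ g2 = b ≫ g2 → a = b)
    (incl : pullback φ φ ⟶ XX) (hι1 : incl ≫ f1 = pullback.fst φ φ) (hι2 : incl ≫ f2 = pullback.snd φ φ)
    (PsiY : GX ⟶ pullback φ φ) (hP1 : PsiY ≫ pullback.fst φ φ = s)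
    (hP2 : PsiY ≫ pullback.snd φ φ = p) (hPs : Function.Surjective PsiY.base)
    (m1 : XX ⟶ YX) (m2 : YX ⟶ YY) (hm1 : (m1 ≫ m2) ≫ g1 = f1 ≫ φ) (hm2 : (m1 ≫ m2) ≫ g2 = f2 ≫ φ)
    (Δ : Y ⟶ YY) (hΔ1 : Δ ≫ g1 = 𝟙 Y) (hΔ2 : Δ ≫ g2 = 𝟙 Y)
    (hinv : s ≫ φ = p ≫ φ) :
    m1.base ⁻¹' (m2.base ⁻¹' (Set.range Δ.base)) = Set.range Ψ.base := by
  obtain ⟨mm, hmm⟩ : ∃ mm : XX ⟶ YY, mm = m1 ≫ m2 := ⟨_, rfl⟩
  rw [← hmm] at hm1 hm2
  have hpt : ∀ z : XX, m2.base (m1.base z) = mm.base z := by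
    intro z
    rw [hmm]
    exact (Scheme.Hom.comp_apply m1 m2 z).symm
  ext z
  constructor
  · rintro ⟨y, hy⟩
    have hy' : mm.base z = Δ.base y := by rw [← hpt]; exact hy.symm
    obtain ⟨t, ht1, ht2⟩ := Scheme.Pullback.exists_preimage_pullback (f := mm) (g := Δ) z y hy'
    have e1 : (pullback.fst mm Δ ≫ f1) ≫ φ = pullback.snd mm Δ := by
      calc (pullback.fst mm Δ ≫ f1) ≫ φ = (pullback.fst mm Δ ≫ mm) ≫ g1 := by
            rw [Category.assoc, Category.assoc, hm1]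
        _ = (pullback.snd mm Δ ≫ Δ) ≫ g1 := by rw [pullback.condition]
        _ = pullback.snd mm Δ := by rw [Category.assoc, hΔ1, Category.comp_id]
    have e2 : (pullback.fst mm Δ ≫ f2) ≫ φ = pullback.snd mm Δ := by
      calc (pullback.fst mm Δ ≫ f2) ≫ φ = (pullback.fst mm Δ ≫ mm) ≫ g2 := by
            rw [Category.assoc, Category.assoc, hm2]
        _ = (pullback.snd mm Δ ≫ Δ) ≫ g2 := by rw [pullback.condition]
        _ = pullback.snd mm Δ := by rw [Category.assoc, hΔ2, Category.comp_id]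
    obtain ⟨q, hq1, hq2⟩ : ∃ q : pullback mm Δ ⟶ pullback φ φ,
        q ≫ pullback.fst φ φ = pullback.fst mm Δ ≫ f1 ∧
        q ≫ pullback.snd φ φ = pullback.fst mm Δ ≫ f2 :=
      ⟨pullback.lift _ _ (e1.trans e2.symm), pullback.lift_fst _ _ _, pullback.lift_snd _ _ _⟩
    have hq : q ≫ incl = pullback.fst mm Δ :=
      hXX _ _ (by rw [Category.assoc, hι1, hq1]) (by rw [Category.assoc, hι2, hq2])
    have hΨι : PsiY ≫ incl = Ψ :=
      hXX _ _ (by rw [Category.assoc, hι1, hP1, hΨ1]) (by rw [Category.assoc, hι2, hP2, hΨ2])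
    obtain ⟨r, hr⟩ := hPs (q.base t)
    refine ⟨r, ?_⟩
    calc Ψ.base r = (PsiY ≫ incl).base r := by rw [hΨι]
      _ = incl.base (PsiY.base r) := Scheme.Hom.comp_apply _ _ r
      _ = incl.base (q.base t) := by rw [hr]
      _ = (q ≫ incl).base t := (Scheme.Hom.comp_apply _ _ t).symm
      _ = (pullback.fst mm Δ).base t := by rw [hq]
      _ = z := ht1
  · rintro ⟨w, rfl⟩
    have e : Ψ ≫ mm = (p ≫ φ) ≫ Δ := by
      apply hYY
      · calc (Ψ ≫ mm) ≫ g1 = (Ψ ≫ f1) ≫ φ := by rw [Category.assoc, hm1, Category.assoc]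
          _ = p ≫ φ := by rw [hΨ1, hinv]
          _ = ((p ≫ φ) ≫ Δ) ≫ g1 := by rw [Category.assoc, hΔ1, Category.comp_id]
      · calc (Ψ ≫ mm) ≫ g2 = (Ψ ≫ f2) ≫ φ := by rw [Category.assoc, hm2, Category.assoc]
          _ = p ≫ φ := by rw [hΨ2]
          _ = ((p ≫ φ) ≫ Δ) ≫ g2 := by rw [Category.assoc, hΔ2, Category.comp_id]
    refine ⟨(p ≫ φ).base w, ?_⟩
    show Δ.base ((p ≫ φ).base w) = m2.base (m1.base (Ψ.base w))
    rw [hpt]
    calc Δ.base ((p ≫ φ).base w) = ((p ≫ φ) ≫ Δ).base w := (Scheme.Hom.comp_apply _ _ w).symm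
      _ = (Ψ ≫ mm).base w := by rw [e]
      _ = mm.base (Ψ.base w) := Scheme.Hom.comp_apply _ _ w

theorem sep_main {G X Y : Over S} [GrpObj G] (a : AlgGrp.Action G X) (φ : X ⟶ Y)
    (h : GIT.IsGeomQuot a φ) :
    IsSeparated Y.hom ↔ IsClosed (Set.range (GIT.psi a (𝟙 X)).left.base) := by
  have h1 : IsQuotientMap (φ ▷ X).left.base := h.subm _ _ _ (isPullback_whiskerRight X φ)
  have h2 : IsQuotientMap (Y ◁ φ).left.base := h.subm _ _ _ (isPullback_whiskerLeft Y φ)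
  have hm1 : (φ ▷ X ≫ Y ◁ φ) ≫ fst Y Y = fst X X ≫ φ := by
    rw [Category.assoc, whiskerLeft_fst, whiskerRight_fst]
  have hm2 : (φ ▷ X ≫ Y ◁ φ) ≫ snd Y Y = snd X X ≫ φ := by
    rw [Category.assoc, whiskerLeft_snd, ← Category.assoc, whiskerRight_snd]
  have hΨ1 : GIT.psi a (𝟙 X) ≫ fst X X = a.act := by
    unfold GIT.psi
    rw [lift_fst, MonoidalCategory.whiskerLeft_id, Category.id_comp]
  have hΨ2 : GIT.psi a (𝟙 X) ≫ snd X X = snd G X := by
    unfold GIT.psi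
    rw [lift_snd]
  have hι : pullback.fst φ.left φ.left ≫ X.hom = pullback.snd φ.left φ.left ≫ X.hom := by
    rw [← Over.w φ, ← Category.assoc, pullback.condition, Category.assoc]
  have hΔ : (lift (𝟙 Y) (𝟙 Y)).left = pullback.diagonal Y.hom := by
    apply pullback.hom_ext
    · rw [pullback.diagonal_fst]
      exact congrArg CommaMorphism.left (lift_fst (𝟙 Y) (𝟙 Y))
    · rw [pullback.diagonal_snd]
      exact congrArg CommaMorphism.left (lift_snd (𝟙 Y) (𝟙 Y))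
  have hcore := sep_core (φ := φ.left) (s := a.act.left) (p := (snd G X).left)
    (f1 := (fst X X).left) (f2 := (snd X X).left) (g1 := (fst Y Y).left) (g2 := (snd Y Y).left)
    (Ψ := (GIT.psi a (𝟙 X)).left) (congrArg CommaMorphism.left hΨ1)
    (congrArg CommaMorphism.left hΨ2)
    (fun a b e1 e2 => pullback.hom_ext e1 e2) (fun a b e1 e2 => pullback.hom_ext e1 e2)
    (incl := pullback.lift (pullback.fst φ.left φ.left) (pullback.snd φ.left φ.left) hι)
    (pullback.lift_fst _ _ _) (pullback.lift_snd _ _ _)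
    (PsiY := GIT.PsiY a φ h.inv) (pullback.lift_fst _ _ _) (pullback.lift_snd _ _ _) h.orbit
    (m1 := (φ ▷ X).left) (m2 := (Y ◁ φ).left) (congrArg CommaMorphism.left hm1)
    (congrArg CommaMorphism.left hm2)
    (Δ := (lift (𝟙 Y) (𝟙 Y)).left) (congrArg CommaMorphism.left (lift_fst (𝟙 Y) (𝟙 Y)))
    (congrArg CommaMorphism.left (lift_snd (𝟙 Y) (𝟙 Y))) h.inv.left
  rw [sep_iff, ← hΔ, ← hcore]
  exact Iff.trans h2.isClosed_preimage.symm h1.isClosed_preimage.symm

/-! ## closed orbits -/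

theorem isClosed_range_section {Z T : Scheme.{u}} (p : Z ⟶ T) (s : T ⟶ Z) (hs : s ≫ p = 𝟙 T)
    {Ω : Type u} [Field Ω] (e : T ≅ Spec (CommRingCat.of Ω)) : IsClosed (Set.range s.base) := by
  haveI : IsAffine T := IsAffine.of_isIso e.hom
  have hsub : ∀ t t' : T, t = t' := by
    intro t t'
    apply e.hom.homeomorph.injective
    haveI : Subsingleton (Spec (CommRingCat.of Ω)) := by
      show Subsingleton (PrimeSpectrum Ω)
      infer_instance
    exact Subsingleton.elim _ _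
  rw [TopologicalSpace.IsOpenCover.isClosed_iff_coe_preimage (iSup_affineOpens_eq_top Z)]
  intro U
  by_cases hU : ∃ t : T, s.base t ∈ (U : Z.Opens)
  · obtain ⟨t₀, ht₀⟩ := hU
    have hr : Set.range s.base ⊆ Set.range (U : Z.Opens).ι.base := by
      rintro _ ⟨t, rfl⟩
      rw [Scheme.Opens.range_ι, hsub t t₀]
      exact ht₀
    haveI : IsAffine ((U : Z.Opens) : Scheme) := U.2
    obtain ⟨s', hs'⟩ : ∃ s' : T ⟶ ((U : Z.Opens) : Scheme), s' ≫ (U : Z.Opens).ι = s :=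
      ⟨IsOpenImmersion.lift (U : Z.Opens).ι s hr, IsOpenImmersion.lift_fac _ _ _⟩
    have h1 : s' ≫ ((U : Z.Opens).ι ≫ p) = 𝟙 T := by rw [← Category.assoc, hs', hs]
    haveI : IsClosedImmersion (s' ≫ ((U : Z.Opens).ι ≫ p)) := by rw [h1]; infer_instance
    haveI : IsClosedImmersion s' := IsClosedImmersion.of_comp s' ((U : Z.Opens).ι ≫ p)
    have hcl : IsClosed (Set.range s'.base) := s'.isClosedEmbedding.isClosed_range
    have hset : (U : Z.Opens).ι.base ⁻¹' Set.range s.base = Set.range s'.base := by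
      ext x
      constructor
      · rintro ⟨t, ht⟩
        refine ⟨t, ?_⟩
        apply (U : Z.Opens).ι.isOpenEmbedding.injective
        rw [← ht, ← Scheme.Hom.comp_apply, hs']
      · rintro ⟨t, rfl⟩
        refine ⟨t, ?_⟩
        rw [← Scheme.Hom.comp_apply, hs']
    have key : IsClosed ((U : Z.Opens).ι.base ⁻¹' Set.range s.base) := by rw [hset]; exact hcl
    exact key
  · have hset : (Subtype.val ⁻¹' Set.range s.base : Set (U : Z.Opens)) = ∅ := by
      ext x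
      simp only [Set.mem_preimage, Set.mem_range, Set.mem_empty_iff_false, iff_false]
      rintro ⟨t, ht⟩
      exact hU ⟨t, by rw [ht]; exact x.2⟩
    have key : IsClosed (Subtype.val ⁻¹' Set.range s.base : Set (U : Z.Opens)) := by
      rw [hset]; exact isClosed_empty
    exact key

theorem closed_core {GX GT XT YT X Y T : Scheme.{u}} (φ : X ⟶ Y) (s p : GX ⟶ X) (f : T ⟶ X)
    (PsiY : GX ⟶ pullback φ φ) (hP1 : PsiY ≫ pullback.fst φ φ = s)
    (hP2 : PsiY ≫ pullback.snd φ φ = p)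
    (hPs : Function.Surjective PsiY.base) (hinv : s ≫ φ = p ≫ φ)
    (gf : GT ⟶ GX) (gs : GT ⟶ T) (hGT : IsPullback gf gs p f)
    (x1 : XT ⟶ X) (x2 : XT ⟶ T)
    (hXT : ∀ {W : Scheme.{u}} (a b : W ⟶ XT), a ≫ x1 = b ≫ x1 → a ≫ x2 = b ≫ x2 → a = b)
    (y1 : YT ⟶ Y) (y2 : YT ⟶ T)
    (hYT : ∀ {W : Scheme.{u}} (a b : W ⟶ YT), a ≫ y1 = b ≫ y1 → a ≫ y2 = b ≫ y2 → a = b)
    (ρ : XT ⟶ YT) (hρ1 : ρ ≫ y1 = x1 ≫ φ) (hρ2 : ρ ≫ y2 = x2)
    (sy : T ⟶ YT) (hs1 : sy ≫ y1 = f ≫ φ) (hs2 : sy ≫ y2 = 𝟙 T)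
    (ψ : GT ⟶ XT) (hψ1 : ψ ≫ x1 = gf ≫ s) (hψ2 : ψ ≫ x2 = gs) :
    ρ.base ⁻¹' (Set.range sy.base) = Set.range ψ.base := by
  ext z
  constructor
  · rintro ⟨t, ht⟩
    obtain ⟨pt, hp1, hp2⟩ :=
      Scheme.Pullback.exists_preimage_pullback (f := ρ) (g := sy) z t ht.symm
    have e0 : pullback.fst ρ sy ≫ x2 = pullback.snd ρ sy := by
      calc pullback.fst ρ sy ≫ x2 = (pullback.fst ρ sy ≫ ρ) ≫ y2 := by rw [Category.assoc, hρ2]
        _ = (pullback.snd ρ sy ≫ sy) ≫ y2 := by rw [pullback.condition]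
        _ = pullback.snd ρ sy := by rw [Category.assoc, hs2, Category.comp_id]
    have hc : (pullback.fst ρ sy ≫ x1) ≫ φ = (pullback.snd ρ sy ≫ f) ≫ φ := by
      calc (pullback.fst ρ sy ≫ x1) ≫ φ = (pullback.fst ρ sy ≫ ρ) ≫ y1 := by
            rw [Category.assoc, Category.assoc, hρ1]
        _ = (pullback.snd ρ sy ≫ sy) ≫ y1 := by rw [pullback.condition]
        _ = (pullback.snd ρ sy ≫ f) ≫ φ := by rw [Category.assoc, hs1, Category.assoc]
    obtain ⟨q, hq1, hq2⟩ : ∃ q : pullback ρ sy ⟶ pullback φ φ,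
        q ≫ pullback.fst φ φ = pullback.fst ρ sy ≫ x1 ∧
        q ≫ pullback.snd φ φ = pullback.snd ρ sy ≫ f :=
      ⟨pullback.lift _ _ hc, pullback.lift_fst _ _ _, pullback.lift_snd _ _ _⟩
    obtain ⟨r, hr⟩ := hPs (q.base pt)
    obtain ⟨w, hw1, hw2⟩ :=
      Scheme.Pullback.exists_preimage_pullback (f := PsiY) (g := q) r pt hr
    have hmw : pullback.fst PsiY q ≫ p = (pullback.snd PsiY q ≫ pullback.snd ρ sy) ≫ f := by
      calc pullback.fst PsiY q ≫ p = (pullback.fst PsiY q ≫ PsiY) ≫ pullback.snd φ φ := by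
            rw [Category.assoc, hP2]
        _ = (pullback.snd PsiY q ≫ q) ≫ pullback.snd φ φ := by rw [pullback.condition]
        _ = (pullback.snd PsiY q ≫ pullback.snd ρ sy) ≫ f := by
            rw [Category.assoc, hq2, Category.assoc]
    obtain ⟨m, hm1, hm2⟩ : ∃ m : pullback PsiY q ⟶ GT, m ≫ gf = pullback.fst PsiY q ∧
        m ≫ gs = pullback.snd PsiY q ≫ pullback.snd ρ sy :=
      ⟨hGT.lift _ _ hmw, hGT.lift_fst _ _ _, hGT.lift_snd _ _ _⟩
    have e : m ≫ ψ = pullback.snd PsiY q ≫ pullback.fst ρ sy := by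
      apply hXT
      · calc (m ≫ ψ) ≫ x1 = (m ≫ gf) ≫ s := by rw [Category.assoc, hψ1, Category.assoc]
          _ = (pullback.fst PsiY q ≫ PsiY) ≫ pullback.fst φ φ := by
              rw [hm1, Category.assoc, hP1]
          _ = (pullback.snd PsiY q ≫ q) ≫ pullback.fst φ φ := by rw [pullback.condition]
          _ = (pullback.snd PsiY q ≫ pullback.fst ρ sy) ≫ x1 := by
              rw [Category.assoc, hq1, Category.assoc]
      · calc (m ≫ ψ) ≫ x2 = m ≫ gs := by rw [Category.assoc, hψ2]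
          _ = pullback.snd PsiY q ≫ pullback.snd ρ sy := hm2
          _ = (pullback.snd PsiY q ≫ pullback.fst ρ sy) ≫ x2 := by rw [Category.assoc, e0]
    refine ⟨m.base w, ?_⟩
    calc ψ.base (m.base w) = (m ≫ ψ).base w := (Scheme.Hom.comp_apply m ψ w).symm
      _ = (pullback.snd PsiY q ≫ pullback.fst ρ sy).base w := by rw [e]
      _ = (pullback.fst ρ sy).base ((pullback.snd PsiY q).base w) :=
          Scheme.Hom.comp_apply _ _ w
      _ = (pullback.fst ρ sy).base pt := congrArg _ hw2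
      _ = z := hp1
  · rintro ⟨w, rfl⟩
    refine ⟨gs.base w, ?_⟩
    have e : ψ ≫ ρ = gs ≫ sy := by
      apply hYT
      · calc (ψ ≫ ρ) ≫ y1 = (ψ ≫ x1) ≫ φ := by rw [Category.assoc, hρ1, Category.assoc]
          _ = gf ≫ s ≫ φ := by rw [hψ1, Category.assoc]
          _ = gf ≫ p ≫ φ := by rw [hinv]
          _ = (gs ≫ f) ≫ φ := by rw [← Category.assoc, hGT.w]
          _ = (gs ≫ sy) ≫ y1 := by rw [Category.assoc, Category.assoc, hs1]
      · calc (ψ ≫ ρ) ≫ y2 = ψ ≫ x2 := by rw [Category.assoc, hρ2]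
          _ = gs := hψ2
          _ = (gs ≫ sy) ≫ y2 := by rw [Category.assoc, hs2, Category.comp_id]
    calc sy.base (gs.base w) = (gs ≫ sy).base w := (Scheme.Hom.comp_apply _ _ w).symm
      _ = (ψ ≫ ρ).base w := by rw [e]
      _ = ρ.base (ψ.base w) := Scheme.Hom.comp_apply _ _ w

theorem closed_main {G X Y : Over S} [GrpObj G] (a : AlgGrp.Action G X) (φ : X ⟶ Y)
    (h : GIT.IsGeomQuot a φ) : GIT.IsClosedAction a := by
  intro Ω _ _ T e f
  have hρ1 : φ ▷ T ≫ fst Y T = fst X T ≫ φ := whiskerRight_fst φ T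
  have hρ2 : φ ▷ T ≫ snd Y T = snd X T := whiskerRight_snd φ T
  have hψ1 : GIT.psi a f ≫ fst X T = (G ◁ f) ≫ a.act := by
    unfold GIT.psi
    rw [lift_fst]
  have hψ2 : GIT.psi a f ≫ snd X T = snd G T := by
    unfold GIT.psi
    rw [lift_snd]
  have hs2 : (lift (f ≫ φ) (𝟙 T)).left ≫ (snd Y T).left = 𝟙 T.left :=
    congrArg CommaMorphism.left (lift_snd (f ≫ φ) (𝟙 T))
  have hcore := closed_core (φ := φ.left) (s := a.act.left) (p := (snd G X).left) (f := f.left)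
    (PsiY := GIT.PsiY a φ h.inv) (pullback.lift_fst _ _ _) (pullback.lift_snd _ _ _) h.orbit
    h.inv.left
    (gf := (G ◁ f).left) (gs := (snd G T).left) (isPullback_whiskerLeft G f)
    (x1 := (fst X T).left) (x2 := (snd X T).left) (fun a b e1 e2 => pullback.hom_ext e1 e2)
    (y1 := (fst Y T).left) (y2 := (snd Y T).left) (fun a b e1 e2 => pullback.hom_ext e1 e2)
    (ρ := (φ ▷ T).left) (congrArg CommaMorphism.left hρ1) (congrArg CommaMorphism.left hρ2)
    (sy := (lift (f ≫ φ) (𝟙 T)).left) (congrArg CommaMorphism.left (lift_fst (f ≫ φ) (𝟙 T))) hs2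
    (ψ := (GIT.psi a f).left) (congrArg CommaMorphism.left hψ1) (congrArg CommaMorphism.left hψ2)
  rw [← hcore]
  exact (isClosed_range_section (snd Y T).left (lift (f ≫ φ) (𝟙 T)).left hs2 e).preimage
    (φ ▷ T).left.continuous

end Groth.Agent.Lib.GeomQuotSep
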