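import Groth.Statements.S19679
import Groth.Agent.Lib.GeomQuotSep_lead
import Groth.Prelude.Def_ChGrp

/-! # Quotients of balanced products: `(G ×^H Z)//G ≅ Z//H` (lead) -/

set_option backward.isDefEq.respectTransparency false
set_option backward.isDefEq.respectTransparency.types false
set_option linter.unusedSimpArgs false
set_option linter.unusedVariables false
set_option linter.unusedSectionVars false
set_option linter.style.longLine false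
set_option linter.style.haveILetI false
set_option maxHeartbeats 800000

universe u

open CategoryTheory CategoryTheory.Limits MonoidalCategory CartesianMonoidalCategory MonObj GrpObj
  AlgebraicGeometry Opposite Topology

namespace Groth.Agent.Lib.BalProdQuot

open Groth.Agent.Lib.AssocBundle Groth.Agent.Lib.GeomQuotSep Groth.Agent.Lib.BundleStages
  Groth.Agent.Lib.TorsorSeq SchFpqcCovH7

variable {S : Scheme.{u}}

section general

variable {G H Z Y P Q : Over S} [GrpObj G] [GrpObj H] (i : H ⟶ G) [IsMonHom i]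
  (aZ : AlgGrp.Action H Z) (aY : AlgGrp.Action G Y) (j : G ⊗ Z ⟶ Y)

theorem comp_unitSection {T : Over S} (z' : T ⟶ Z) :
    z' ≫ lift (toUnit Z ≫ η[G]) (𝟙 Z) = lift (1 : T ⟶ G) z' := by
  have h : z' ≫ toUnit Z ≫ η[G] = (1 : T ⟶ G) := by
    rw [Hom.one_def, ← Category.assoc]
    congr 1
    exact toUnit_unique _ _
  rw [comp_lift, Category.comp_id, h]

theorem E1
    (heq : AlgGrp.Action.IsEquivariant
      ((NonAbH1.trivialAction G).prod (AlgGrp.Action.trivial G Z)) aY j)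
    {T : Over S} (g' g : T ⟶ G) (z : T ⟶ Z) :
    lift (g' * g) z ≫ j = lift g' (lift g z ≫ j) ≫ aY.act := by
  have heq' : ((NonAbH1.trivialAction G).prod (AlgGrp.Action.trivial G Z)).act ≫ j
      = (G ◁ j) ≫ aY.act := heq
  have h1 : lift g' (lift g z) ≫
      ((NonAbH1.trivialAction G).prod (AlgGrp.Action.trivial G Z)).act = lift (g' * g) z := by
    rw [AlgGrp.Action.lift_prod_act, AlgGrp.Action.lift_trivial_act]
    show lift (lift g' g ≫ μ[G]) z = _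
    rw [← Hom.mul_def]
  calc lift (g' * g) z ≫ j
      = (lift g' (lift g z) ≫
          ((NonAbH1.trivialAction G).prod (AlgGrp.Action.trivial G Z)).act) ≫ j := by rw [h1]
    _ = lift g' (lift g z) ≫ (G ◁ j) ≫ aY.act := by rw [Category.assoc, heq']
    _ = lift g' (lift g z ≫ j) ≫ aY.act := by rw [lift_whiskerLeft_assoc]

theorem K1 (πZ : Z ⟶ P) (hPinv : aZ.act ≫ πZ = snd H Z ≫ πZ) :
    (ChGrp.twist i aZ).act ≫ snd G Z ≫ πZ = snd H (G ⊗ Z) ≫ snd G Z ≫ πZ := by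
  have e1 : (ChGrp.twist i aZ).act ≫ snd G Z = (H ◁ snd G Z) ≫ aZ.act := by
    rw [ChGrp.twist, AlgGrp.Action.prod_act, lift_snd]
  calc (ChGrp.twist i aZ).act ≫ snd G Z ≫ πZ
      = ((ChGrp.twist i aZ).act ≫ snd G Z) ≫ πZ := (Category.assoc _ _ _).symm
    _ = ((H ◁ snd G Z) ≫ aZ.act) ≫ πZ := by rw [e1]
    _ = (H ◁ snd G Z) ≫ snd H Z ≫ πZ := by rw [Category.assoc, hPinv]
    _ = snd H (G ⊗ Z) ≫ snd G Z ≫ πZ := by rw [whiskerLeft_snd_assoc]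

theorem main_general (hY : ChGrp.IsBalProd Scheme.fppfPrecoverage i aZ aY j)
    (πZ : Z ⟶ P) (hP : GIT.IsCatQuot aZ πZ) (πY : Y ⟶ Q) (hQ : GIT.IsCatQuot aY πY) :
    ∃ (φ : P ⟶ Q) (χ : Q ⟶ P), φ ≫ χ = 𝟙 P ∧ χ ≫ φ = 𝟙 Q ∧
      πZ ≫ φ = lift (toUnit Z ≫ η[G]) (𝟙 Z) ≫ j ≫ πY ∧ j ≫ πY ≫ χ = snd G Z ≫ πZ := by
  obtain ⟨heq, hpb, hloc⟩ := hY
  have hPinv : aZ.act ≫ πZ = snd H Z ≫ πZ := hP.1
  have hQinv : aY.act ≫ πY = snd G Y ≫ πY := hQ.1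
  have hcov : IsCov j.left := by
    have h' : NonAbH1.IsLocallyTrivialFor Scheme.fpqcPrecoverage
        (Over.mk j.left : Over Y.left) := by
      obtain ⟨R, hR, hs⟩ := hloc
      exact ⟨R, Scheme.fppfPrecoverage_le_fpqcPrecoverage _ hR, hs⟩
    exact isCov_of_locallyTrivial _ h'
  haveI : Epi j := epi_of_isCov j hcov
  haveI : Epi (G ◁ j) := epi_of_isCov _ (isCov_whiskerLeft G j hcov)
  have E2 : ∀ {T : Over S} (g : T ⟶ G) (z : T ⟶ Z),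
      lift g z ≫ j ≫ πY = lift 1 z ≫ j ≫ πY := by
    intro T g z
    have h1 := E1 aY j heq g 1 z
    rw [_root_.mul_one] at h1
    calc lift g z ≫ j ≫ πY = (lift g z ≫ j) ≫ πY := (Category.assoc _ _ _).symm
      _ = (lift g (lift 1 z ≫ j) ≫ aY.act) ≫ πY := by rw [h1]
      _ = lift g (lift 1 z ≫ j) ≫ snd G Y ≫ πY := by rw [Category.assoc, hQinv]
      _ = lift 1 z ≫ j ≫ πY := by rw [lift_snd_assoc, Category.assoc]
  -- the map `ψ : Y ⟶ P`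
  obtain ⟨ψ, hψ⟩ := desc_of_isCov j hcov (snd G Z ≫ πZ) (by
    intro T p₁ p₂ h
    have hw1 := hpb.lift_fst p₁ p₂ h
    have hw2 := hpb.lift_snd p₁ p₂ h
    calc p₁ ≫ snd G Z ≫ πZ
        = (hpb.lift p₁ p₂ h ≫ (ChGrp.twist i aZ).act) ≫ snd G Z ≫ πZ := by rw [hw1]
      _ = hpb.lift p₁ p₂ h ≫ snd H (G ⊗ Z) ≫ snd G Z ≫ πZ := by
          rw [Category.assoc, K1 i aZ πZ hPinv]
      _ = (hpb.lift p₁ p₂ h ≫ snd H (G ⊗ Z)) ≫ snd G Z ≫ πZ := (Category.assoc _ _ _).symm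
      _ = p₂ ≫ snd G Z ≫ πZ := by rw [hw2])
  have hψinv : GIT.IsInvariant aY ψ := by
    show aY.act ≫ ψ = snd G Y ≫ ψ
    rw [← cancel_epi (G ◁ j)]
    have heq' : ((NonAbH1.trivialAction G).prod (AlgGrp.Action.trivial G Z)).act ≫ j
        = (G ◁ j) ≫ aY.act := heq
    have e2 : ((NonAbH1.trivialAction G).prod (AlgGrp.Action.trivial G Z)).act ≫ snd G Z
        = snd G (G ⊗ Z) ≫ snd G Z := by
      rw [AlgGrp.Action.prod_act, lift_snd, AlgGrp.Action.trivial_act, whiskerLeft_snd]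
    calc (G ◁ j) ≫ aY.act ≫ ψ
        = (((NonAbH1.trivialAction G).prod (AlgGrp.Action.trivial G Z)).act ≫ j) ≫ ψ := by
          rw [heq', Category.assoc]
      _ = ((NonAbH1.trivialAction G).prod (AlgGrp.Action.trivial G Z)).act ≫ snd G Z ≫ πZ := by
          rw [Category.assoc, hψ]
      _ = (((NonAbH1.trivialAction G).prod (AlgGrp.Action.trivial G Z)).act ≫ snd G Z) ≫ πZ :=
          (Category.assoc _ _ _).symm
      _ = (snd G (G ⊗ Z) ≫ snd G Z) ≫ πZ := by rw [e2]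
      _ = snd G (G ⊗ Z) ≫ snd G Z ≫ πZ := Category.assoc _ _ _
      _ = (G ◁ j) ≫ snd G Y ≫ ψ := by rw [whiskerLeft_snd_assoc, hψ]
  have hζinv : GIT.IsInvariant aZ (lift (toUnit Z ≫ η[G]) (𝟙 Z) ≫ j ≫ πY) := by
    show aZ.act ≫ lift (toUnit Z ≫ η[G]) (𝟙 Z) ≫ j ≫ πY
      = snd H Z ≫ lift (toUnit Z ≫ η[G]) (𝟙 Z) ≫ j ≫ πY
    apply AlgGrp.Action.hom_ext_lift₂
    intro T h z
    have hw := hpb.w
    have h1 : lift (1 : T ⟶ G) (lift h z ≫ aZ.act) ≫ j = lift (h ≫ i) z ≫ j := by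
      have := congrArg (fun k => lift h (lift (h ≫ i) z) ≫ k) hw
      rw [ChGrp.lift_twist_act_assoc, _root_.mul_inv_cancel, lift_snd_assoc] at this
      exact this
    calc lift h z ≫ aZ.act ≫ lift (toUnit Z ≫ η[G]) (𝟙 Z) ≫ j ≫ πY
        = ((lift h z ≫ aZ.act) ≫ lift (toUnit Z ≫ η[G]) (𝟙 Z)) ≫ j ≫ πY := by
          simp only [Category.assoc]
      _ = lift (1 : T ⟶ G) (lift h z ≫ aZ.act) ≫ j ≫ πY := by rw [comp_unitSection]
      _ = (lift (1 : T ⟶ G) (lift h z ≫ aZ.act) ≫ j) ≫ πY := (Category.assoc _ _ _).symm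
      _ = (lift (h ≫ i) z ≫ j) ≫ πY := by rw [h1]
      _ = lift (h ≫ i) z ≫ j ≫ πY := Category.assoc _ _ _
      _ = lift 1 z ≫ j ≫ πY := E2 _ _
      _ = (z ≫ lift (toUnit Z ≫ η[G]) (𝟙 Z)) ≫ j ≫ πY := by rw [comp_unitSection]
      _ = lift h z ≫ snd H Z ≫ lift (toUnit Z ≫ η[G]) (𝟙 Z) ≫ j ≫ πY := by
          rw [lift_snd_assoc, Category.assoc]
  obtain ⟨φ, hφ, -⟩ := hP.2 Q _ hζinv
  obtain ⟨χ, hχ, -⟩ := hQ.2 P ψ hψinv
  refine ⟨φ, χ, ?_, ?_, hφ, ?_⟩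
  · refine (hP.2 P πZ hP.1).unique ?_ (Category.comp_id _)
    calc πZ ≫ φ ≫ χ = (πZ ≫ φ) ≫ χ := (Category.assoc _ _ _).symm
      _ = (lift (toUnit Z ≫ η[G]) (𝟙 Z) ≫ j ≫ πY) ≫ χ := by rw [hφ]
      _ = lift (toUnit Z ≫ η[G]) (𝟙 Z) ≫ j ≫ πY ≫ χ := by simp only [Category.assoc]
      _ = lift (toUnit Z ≫ η[G]) (𝟙 Z) ≫ snd G Z ≫ πZ := by rw [hχ, hψ]
      _ = πZ := by rw [lift_snd_assoc, Category.id_comp]
  · refine (hQ.2 Q πY hQ.1).unique ?_ (Category.comp_id _)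
    have h2 : ψ ≫ φ = πY := by
      rw [← cancel_epi j]
      have h3 : j ≫ ψ ≫ φ = snd G Z ≫ lift (toUnit Z ≫ η[G]) (𝟙 Z) ≫ j ≫ πY := by
        calc j ≫ ψ ≫ φ = (j ≫ ψ) ≫ φ := (Category.assoc _ _ _).symm
          _ = (snd G Z ≫ πZ) ≫ φ := by rw [hψ]
          _ = snd G Z ≫ lift (toUnit Z ≫ η[G]) (𝟙 Z) ≫ j ≫ πY := by rw [Category.assoc, hφ]
      rw [h3]
      apply AlgGrp.Action.hom_ext_lift₂
      intro T g z
      calc lift g z ≫ snd G Z ≫ lift (toUnit Z ≫ η[G]) (𝟙 Z) ≫ j ≫ πY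
          = (z ≫ lift (toUnit Z ≫ η[G]) (𝟙 Z)) ≫ j ≫ πY := by
            rw [lift_snd_assoc, Category.assoc]
        _ = lift 1 z ≫ j ≫ πY := by rw [comp_unitSection]
        _ = lift g z ≫ j ≫ πY := (E2 g z).symm
    calc πY ≫ χ ≫ φ = (πY ≫ χ) ≫ φ := (Category.assoc _ _ _).symm
      _ = ψ ≫ φ := by rw [hχ]
      _ = πY := h2
  · rw [hχ, hψ]

end general

theorem main
    (k : Type u) [Field k]
    (G H Z Y P Q : Over (Spec (CommRingCat.of k))) [GrpObj G] [GrpObj H]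
    (i : H ⟶ G) [IsMonHom i]
    (aZ : AlgGrp.Action H Z) (aY : AlgGrp.Action G Y) (j : G ⊗ Z ⟶ Y)
    (hY : ChGrp.IsBalProd Scheme.fppfPrecoverage i aZ aY j)
    (πZ : Z ⟶ P) (hP : GIT.IsCatQuot aZ πZ) (πY : Y ⟶ Q) (hQ : GIT.IsCatQuot aY πY) :
    ∃ (φ : P ⟶ Q) (χ : Q ⟶ P), φ ≫ χ = 𝟙 P ∧ χ ≫ φ = 𝟙 Q ∧
      πZ ≫ φ = lift (toUnit Z ≫ η[G]) (𝟙 Z) ≫ j ≫ πY ∧ j ≫ πY ≫ χ = snd G Z ≫ πZ :=
  main_general i aZ aY j hY πZ hP πY hQ

end Groth.Agent.Lib.BalProdQuot
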