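import Groth.Statements.S19681
import Groth.Agent.Lib.BalProdQuot_lead

/-! # Closed invariant subschemes of balanced products (lead) -/

set_option backward.isDefEq.respectTransparency false
set_option backward.isDefEq.respectTransparency.types false
set_option linter.unusedSimpArgs false
set_option linter.unusedVariables false
set_option linter.unusedSectionVars false
set_option linter.style.longLine false
set_option linter.style.haveILetI false
set_option maxHeartbeats 800000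

universe u

open CategoryTheory CategoryTheory.Limits MonoidalCategory CartesianMonoidalCategory MonObj GrpObj
  AlgebraicGeometry Opposite Topology

namespace Groth.Agent.Lib.BalProdSub

open Groth.Agent.Lib.AssocBundle Groth.Agent.Lib.GeomQuotSep Groth.Agent.Lib.BundleStages
  Groth.Agent.Lib.TorsorSeq SchFpqcCovH7 Groth.Agent.Lib.BalProdQuot

variable {S : Scheme.{u}}

theorem hom_ext_lift₂₂ {A B C X : Over S} {f g : A ⊗ (B ⊗ C) ⟶ X}
    (h : ∀ (T : Over S) (a : T ⟶ A) (b : T ⟶ B) (c : T ⟶ C),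
      lift a (lift b c) ≫ f = lift a (lift b c) ≫ g) : f = g := by
  have e : lift (fst A (B ⊗ C)) (lift (snd A (B ⊗ C) ≫ fst B C) (snd A (B ⊗ C) ≫ snd B C))
      = 𝟙 (A ⊗ (B ⊗ C)) := by
    apply CartesianMonoidalCategory.hom_ext
    · rw [lift_fst, Category.id_comp]
    · rw [lift_snd, Category.id_comp, ← comp_lift, lift_fst_snd, Category.comp_id]
  have := h _ (fst A (B ⊗ C)) (snd A (B ⊗ C) ≫ fst B C) (snd A (B ⊗ C) ≫ snd B C)
  rwa [e, Category.id_comp, Category.id_comp] at this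

theorem prod_triv_pt {G Z : Over S} [GrpObj G] {T : Over S} (g' g : T ⟶ G) (z : T ⟶ Z) :
    lift g' (lift g z) ≫ ((NonAbH1.trivialAction G).prod (AlgGrp.Action.trivial G Z)).act
      = lift (g' * g) z := by
  rw [AlgGrp.Action.lift_prod_act, AlgGrp.Action.lift_trivial_act]
  show lift (lift g' g ≫ μ[G]) z = _
  rw [← Hom.mul_def]

theorem act_cancel {G X : Over S} [GrpObj G] (a : AlgGrp.Action G X) {T : Over S} (g₁ g₂ : T ⟶ G)
    (x₁ x₂ : T ⟶ X) (h : lift g₁ x₁ ≫ a.act = lift g₂ x₂ ≫ a.act) :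
    x₁ = lift (g₁⁻¹ * g₂) x₂ ≫ a.act := by
  calc x₁ = lift 1 x₁ ≫ a.act := (act_one' a x₁).symm
    _ = lift (g₁⁻¹ * g₁) x₁ ≫ a.act := by rw [_root_.inv_mul_cancel]
    _ = lift g₁⁻¹ (lift g₁ x₁ ≫ a.act) ≫ a.act := act_mul' a _ _ _
    _ = lift g₁⁻¹ (lift g₂ x₂ ≫ a.act) ≫ a.act := by rw [h]
    _ = lift (g₁⁻¹ * g₂) x₂ ≫ a.act := (act_mul' a _ _ _).symm

/-! ### The action on a fibre product of equivariant maps -/

section pbAction

variable {H A B C : Over S} [GrpObj H] (a : AlgGrp.Action H A) (b : AlgGrp.Action H B)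
  (c : AlgGrp.Action H C) (f : A ⟶ C) (g : B ⟶ C)

noncomputable def pbAct (hf : a.act ≫ f = (H ◁ f) ≫ c.act) (hg : b.act ≫ g = (H ◁ g) ≫ c.act) :
    H ⊗ pullback f g ⟶ pullback f g :=
  pullback.lift ((H ◁ pullback.fst f g) ≫ a.act) ((H ◁ pullback.snd f g) ≫ b.act) (by
    calc ((H ◁ pullback.fst f g) ≫ a.act) ≫ f
        = (H ◁ pullback.fst f g) ≫ (H ◁ f) ≫ c.act := by rw [Category.assoc, hf]
      _ = (H ◁ (pullback.fst f g ≫ f)) ≫ c.act := by
          rw [MonoidalCategory.whiskerLeft_comp, Category.assoc]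
      _ = (H ◁ (pullback.snd f g ≫ g)) ≫ c.act := by rw [pullback.condition]
      _ = (H ◁ pullback.snd f g) ≫ (H ◁ g) ≫ c.act := by
          rw [MonoidalCategory.whiskerLeft_comp, Category.assoc]
      _ = ((H ◁ pullback.snd f g) ≫ b.act) ≫ g := by rw [Category.assoc, hg])

variable (hf : a.act ≫ f = (H ◁ f) ≫ c.act) (hg : b.act ≫ g = (H ◁ g) ≫ c.act)

theorem pbAct_fst_pt {T : Over S} (h : T ⟶ H) (p : T ⟶ pullback f g) :
    lift h p ≫ pbAct a b c f g hf hg ≫ pullback.fst f g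
      = lift h (p ≫ pullback.fst f g) ≫ a.act := by
  rw [pbAct, pullback.lift_fst, lift_whiskerLeft_assoc]

theorem pbAct_snd_pt {T : Over S} (h : T ⟶ H) (p : T ⟶ pullback f g) :
    lift h p ≫ pbAct a b c f g hf hg ≫ pullback.snd f g
      = lift h (p ≫ pullback.snd f g) ≫ b.act := by
  rw [pbAct, pullback.lift_snd, lift_whiskerLeft_assoc]

noncomputable def pbAction : AlgGrp.Action H (pullback f g) where
  act := pbAct a b c f g hf hg
  one_act := by
    apply pullback.hom_ext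
    · apply AlgGrp.Action.hom_ext_lift₂
      intro T u p
      have hu : u ≫ η[H] = 1 := by rw [Hom.one_def, toUnit_unique (toUnit T) u]
      simp only [Category.assoc]
      rw [lift_whiskerRight_assoc, pbAct_fst_pt, leftUnitor_hom, lift_snd_assoc, hu,
        AlgGrp.Action.lift_one_act]
    · apply AlgGrp.Action.hom_ext_lift₂
      intro T u p
      have hu : u ≫ η[H] = 1 := by rw [Hom.one_def, toUnit_unique (toUnit T) u]
      simp only [Category.assoc]
      rw [lift_whiskerRight_assoc, pbAct_snd_pt, leftUnitor_hom, lift_snd_assoc, hu,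
        AlgGrp.Action.lift_one_act]
  mul_act := by
    apply pullback.hom_ext
    · apply AlgGrp.Action.hom_ext_lift₃
      intro T h h' p
      simp only [Category.assoc]
      have L : lift (lift h h') p ≫ (μ[H] ▷ pullback f g) ≫ pbAct a b c f g hf hg ≫
          pullback.fst f g = lift h (lift h' (p ≫ pullback.fst f g) ≫ a.act) ≫ a.act := by
        rw [lift_whiskerRight_assoc, ← Hom.mul_def, pbAct_fst_pt, AlgGrp.Action.lift_mul_act]
      have R : lift (lift h h') p ≫ (α_ H H (pullback f g)).hom ≫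
          (H ◁ pbAct a b c f g hf hg) ≫ pbAct a b c f g hf hg ≫ pullback.fst f g
          = lift h (lift h' (p ≫ pullback.fst f g) ≫ a.act) ≫ a.act := by
        rw [lift_lift_associator_hom_assoc, lift_whiskerLeft_assoc, pbAct_fst_pt, Category.assoc,
          pbAct_fst_pt]
      rw [L, R]
    · apply AlgGrp.Action.hom_ext_lift₃
      intro T h h' p
      simp only [Category.assoc]
      have L : lift (lift h h') p ≫ (μ[H] ▷ pullback f g) ≫ pbAct a b c f g hf hg ≫
          pullback.snd f g = lift h (lift h' (p ≫ pullback.snd f g) ≫ b.act) ≫ b.act := by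
        rw [lift_whiskerRight_assoc, ← Hom.mul_def, pbAct_snd_pt, AlgGrp.Action.lift_mul_act]
      have R : lift (lift h h') p ≫ (α_ H H (pullback f g)).hom ≫
          (H ◁ pbAct a b c f g hf hg) ≫ pbAct a b c f g hf hg ≫ pullback.snd f g
          = lift h (lift h' (p ≫ pullback.snd f g) ≫ b.act) ≫ b.act := by
        rw [lift_lift_associator_hom_assoc, lift_whiskerLeft_assoc, pbAct_snd_pt, Category.assoc,
          pbAct_snd_pt]
      rw [L, R]

theorem pbAction_fst_pt {T : Over S} (h : T ⟶ H) (p : T ⟶ pullback f g) :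
    (lift h p ≫ (pbAction a b c f g hf hg).act) ≫ pullback.fst f g
      = lift h (p ≫ pullback.fst f g) ≫ a.act := by
  rw [Category.assoc]
  exact pbAct_fst_pt a b c f g hf hg h p

theorem pbAction_snd_pt {T : Over S} (h : T ⟶ H) (p : T ⟶ pullback f g) :
    (lift h p ≫ (pbAction a b c f g hf hg).act) ≫ pullback.snd f g
      = lift h (p ≫ pullback.snd f g) ≫ b.act := by
  rw [Category.assoc]
  exact pbAct_snd_pt a b c f g hf hg h p

end pbAction

/-! ### The main construction -/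

section main

variable {G H Z Y Y' : Over S} [GrpObj G] [GrpObj H] (i : H ⟶ G) [IsMonHom i]
  (aZ : AlgGrp.Action H Z) (aY : AlgGrp.Action G Y) (j : G ⊗ Z ⟶ Y)
  (c : Y' ⟶ Y) (aY' : AlgGrp.Action G Y')

/-- `z ↦ j(e, z)` -/
noncomputable def iota (j : G ⊗ Z ⟶ Y) : Z ⟶ Y := lift (toUnit Z ≫ η[G]) (𝟙 Z) ≫ j

theorem comp_iota {T : Over S} (z : T ⟶ Z) : z ≫ iota j = lift (1 : T ⟶ G) z ≫ j := by
  rw [iota, ← Category.assoc, comp_unitSection]

variable (heq : AlgGrp.Action.IsEquivariant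
      ((NonAbH1.trivialAction G).prod (AlgGrp.Action.trivial G Z)) aY j)
  (hpb : IsPullback (ChGrp.twist i aZ).act (snd H (G ⊗ Z)) j j)
  (hc : aY'.act ≫ c = (G ◁ c) ≫ aY.act)

include heq hpb in
theorem iota_equiv_pt {T : Over S} (h : T ⟶ H) (z : T ⟶ Z) :
    (lift h z ≫ aZ.act) ≫ iota j = lift (h ≫ i) (z ≫ iota j) ≫ aY.act := by
  rw [comp_iota, comp_iota]
  have hw := hpb.w
  have h1 : lift (1 : T ⟶ G) (lift h z ≫ aZ.act) ≫ j = lift (h ≫ i) z ≫ j := by
    have := congrArg (fun k => lift h (lift (h ≫ i) z) ≫ k) hw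
    rw [ChGrp.lift_twist_act_assoc, _root_.mul_inv_cancel, lift_snd_assoc] at this
    exact this
  rw [h1, ← E1 aY j heq, _root_.mul_one]

include heq hpb in
theorem iota_equiv : aZ.act ≫ iota j = (H ◁ iota j) ≫ (aY.restrict i).act := by
  apply AlgGrp.Action.hom_ext_lift₂
  intro T h z
  rw [lift_whiskerLeft_assoc, AlgGrp.Action.lift_restrict_act, ← Category.assoc]
  exact iota_equiv_pt i aZ aY j heq hpb h z

include hc in
theorem restrict_equiv : (aY'.restrict i).act ≫ c = (H ◁ c) ≫ (aY.restrict i).act := by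
  apply AlgGrp.Action.hom_ext_lift₂
  intro T h y
  rw [AlgGrp.Action.lift_restrict_act_assoc, lift_whiskerLeft_assoc,
    AlgGrp.Action.lift_restrict_act, hc, lift_whiskerLeft_assoc]

include hc in
theorem hc_pt {T : Over S} (g₀ : T ⟶ G) (y₀ : T ⟶ Y') :
    (lift g₀ y₀ ≫ aY'.act) ≫ c = lift g₀ (y₀ ≫ c) ≫ aY.act := by
  rw [Category.assoc, hc, lift_whiskerLeft_assoc]

include heq hc in
theorem subj_comp :
    ((G ◁ pullback.snd (iota j) c) ≫ aY'.act) ≫ c = (G ◁ pullback.fst (iota j) c) ≫ j := by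
  apply AlgGrp.Action.hom_ext_lift₂
  intro T g z'
  calc lift g z' ≫ ((G ◁ pullback.snd (iota j) c) ≫ aY'.act) ≫ c
      = (lift g (z' ≫ pullback.snd (iota j) c) ≫ aY'.act) ≫ c := by
        simp only [Category.assoc, lift_whiskerLeft_assoc]
    _ = lift g ((z' ≫ pullback.snd (iota j) c) ≫ c) ≫ aY.act := hc_pt aY c aY' hc _ _
    _ = lift g ((z' ≫ pullback.fst (iota j) c) ≫ iota j) ≫ aY.act := by
        rw [Category.assoc, ← pullback.condition, ← Category.assoc]
    _ = lift g (lift 1 (z' ≫ pullback.fst (iota j) c) ≫ j) ≫ aY.act := by rw [comp_iota]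
    _ = lift (g * 1) (z' ≫ pullback.fst (iota j) c) ≫ j := (E1 aY j heq _ _ _).symm
    _ = lift g z' ≫ (G ◁ pullback.fst (iota j) c) ≫ j := by
        rw [_root_.mul_one, lift_whiskerLeft_assoc]

theorem subj_equiv :
    AlgGrp.Action.IsEquivariant
      ((NonAbH1.trivialAction G).prod (AlgGrp.Action.trivial G (pullback (iota j) c))) aY'
      ((G ◁ pullback.snd (iota j) c) ≫ aY'.act) := by
  show ((NonAbH1.trivialAction G).prod (AlgGrp.Action.trivial G (pullback (iota j) c))).act ≫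
      ((G ◁ pullback.snd (iota j) c) ≫ aY'.act)
    = (G ◁ ((G ◁ pullback.snd (iota j) c) ≫ aY'.act)) ≫ aY'.act
  apply hom_ext_lift₂₂
  intro T g' g z'
  calc lift g' (lift g z') ≫
        ((NonAbH1.trivialAction G).prod (AlgGrp.Action.trivial G (pullback (iota j) c))).act ≫
        ((G ◁ pullback.snd (iota j) c) ≫ aY'.act)
      = (lift g' (lift g z') ≫
        ((NonAbH1.trivialAction G).prod (AlgGrp.Action.trivial G (pullback (iota j) c))).act) ≫
        ((G ◁ pullback.snd (iota j) c) ≫ aY'.act) := (Category.assoc _ _ _).symm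
    _ = lift (g' * g) z' ≫ ((G ◁ pullback.snd (iota j) c) ≫ aY'.act) := by rw [prod_triv_pt]
    _ = lift (g' * g) (z' ≫ pullback.snd (iota j) c) ≫ aY'.act := by
        rw [lift_whiskerLeft_assoc]
    _ = lift g' (lift g (z' ≫ pullback.snd (iota j) c) ≫ aY'.act) ≫ aY'.act := act_mul' aY' _ _ _
    _ = lift g' (lift g z') ≫ (G ◁ ((G ◁ pullback.snd (iota j) c) ≫ aY'.act)) ≫ aY'.act := by
        rw [lift_whiskerLeft_assoc, lift_whiskerLeft_assoc]

include heq hc in
theorem exists_lift_sub {T : Over S} (p : T ⟶ G ⊗ Z) (y' : T ⟶ Y') (hp : p ≫ j = y' ≫ c) :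
    ∃ p' : T ⟶ G ⊗ pullback (iota j) c,
      p' ≫ ((G ◁ pullback.snd (iota j) c) ≫ aY'.act) = y' := by
  obtain ⟨g, z, rfl⟩ : ∃ (g : T ⟶ G) (z : T ⟶ Z), p = lift g z := ⟨_, _, lift_eta p⟩
  have hcond : z ≫ iota j = (lift g⁻¹ y' ≫ aY'.act) ≫ c := by
    rw [hc_pt aY c aY' hc, ← hp, ← E1 aY j heq, _root_.inv_mul_cancel, comp_iota]
  refine ⟨lift g (pullback.lift z (lift g⁻¹ y' ≫ aY'.act) hcond), ?_⟩
  rw [lift_whiskerLeft_assoc, pullback.lift_snd, ← act_mul' aY', _root_.mul_inv_cancel,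
    act_one' aY']

include heq hc in
theorem sub_locTriv
    (hloc : NonAbH1.IsLocallyTrivialFor Scheme.fppfPrecoverage (Over.mk j.left : Over Y.left)) :
    NonAbH1.IsLocallyTrivialFor Scheme.fppfPrecoverage
      (Over.mk ((G ◁ pullback.snd (iota j) c) ≫ aY'.act).left : Over Y'.left) := by
  obtain ⟨R, hR, hsec⟩ := hloc
  have wj : j.left ≫ Y.hom = (G ⊗ Z).hom := Over.w j
  have wc : c.left ≫ Y.hom = Y'.hom := Over.w c
  refine ⟨R.pullbackArrows c.left, Precoverage.pullbackArrows_mem c.left hR, ?_⟩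
  rintro T f ⟨Z₀, u, hu⟩
  obtain ⟨s, hs⟩ := hsec u hu
  have hs' : s ≫ j.left = u := hs
  have hpw : (pullback.fst u c.left ≫ s) ≫ (G ⊗ Z).hom = pullback.snd u c.left ≫ Y'.hom := by
    rw [← wj, ← wc]
    simp only [Category.assoc]
    rw [reassoc_of% hs', pullback.condition_assoc]
  let W : Over S := Over.mk (pullback.snd u c.left ≫ Y'.hom)
  let y' : W ⟶ Y' := Over.homMk (pullback.snd u c.left) rfl
  let p : W ⟶ G ⊗ Z := Over.homMk (pullback.fst u c.left ≫ s) hpw
  have hp : p ≫ j = y' ≫ c := by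
    ext
    show (pullback.fst u c.left ≫ s) ≫ j.left = pullback.snd u c.left ≫ c.left
    rw [Category.assoc, hs', pullback.condition]
  obtain ⟨p', hp'⟩ := exists_lift_sub aY j c aY' heq hc p y' hp
  refine ⟨p'.left, ?_⟩
  have := congrArg (fun k => k.left) hp'
  exact this

variable (hι' : aZ.act ≫ iota j = (H ◁ iota j) ≫ (aY.restrict i).act)
  (hc' : (aY'.restrict i).act ≫ c = (H ◁ c) ≫ (aY.restrict i).act)

theorem T2 {T : Over S} (h : T ⟶ H) (z' : T ⟶ pullback (iota j) c) :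
    (lift h z' ≫ (pbAction aZ (aY'.restrict i) (aY.restrict i) (iota j) c hι' hc').act) ≫
        pullback.snd (iota j) c
      = lift (h ≫ i) (z' ≫ pullback.snd (iota j) c) ≫ aY'.act := by
  rw [pbAction_snd_pt, AlgGrp.Action.lift_restrict_act]

theorem T3 {T : Over S} (h : T ⟶ H) (z' : T ⟶ pullback (iota j) c) :
    (lift h z' ≫ (pbAction aZ (aY'.restrict i) (aY.restrict i) (iota j) c hι' hc').act) ≫
        pullback.fst (iota j) c
      = lift h (z' ≫ pullback.fst (iota j) c) ≫ aZ.act := by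
  rw [pbAction_fst_pt]

theorem TW :
    (H ◁ (G ◁ pullback.fst (iota j) c)) ≫ (ChGrp.twist i aZ).act
      = (ChGrp.twist i (pbAction aZ (aY'.restrict i) (aY.restrict i) (iota j) c hι' hc')).act ≫
        (G ◁ pullback.fst (iota j) c) := by
  apply hom_ext_lift₂₂
  intro T h g z'
  calc lift h (lift g z') ≫ (H ◁ (G ◁ pullback.fst (iota j) c)) ≫ (ChGrp.twist i aZ).act
      = lift h (lift g (z' ≫ pullback.fst (iota j) c)) ≫ (ChGrp.twist i aZ).act := by
        rw [lift_whiskerLeft_assoc, lift_whiskerLeft]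
    _ = lift (g * (h ≫ i)⁻¹) (lift h (z' ≫ pullback.fst (iota j) c) ≫ aZ.act) :=
        ChGrp.lift_twist_act i aZ h g _
    _ = lift (g * (h ≫ i)⁻¹)
          ((lift h z' ≫ (pbAction aZ (aY'.restrict i) (aY.restrict i) (iota j) c hι' hc').act) ≫
            pullback.fst (iota j) c) := by rw [T3]
    _ = lift (g * (h ≫ i)⁻¹)
          (lift h z' ≫ (pbAction aZ (aY'.restrict i) (aY.restrict i) (iota j) c hι' hc').act) ≫
          (G ◁ pullback.fst (iota j) c) := by rw [lift_whiskerLeft]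
    _ = (lift h (lift g z') ≫
          (ChGrp.twist i (pbAction aZ (aY'.restrict i) (aY.restrict i) (iota j) c hι' hc')).act) ≫
          (G ◁ pullback.fst (iota j) c) := by rw [ChGrp.lift_twist_act]
    _ = lift h (lift g z') ≫
          (ChGrp.twist i (pbAction aZ (aY'.restrict i) (aY.restrict i) (iota j) c hι' hc')).act ≫
          (G ◁ pullback.fst (iota j) c) := Category.assoc _ _ _

theorem subj_twist_pt {T : Over S} (h : T ⟶ H) (g : T ⟶ G) (z' : T ⟶ pullback (iota j) c) :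
    (lift h (lift g z') ≫
        (ChGrp.twist i (pbAction aZ (aY'.restrict i) (aY.restrict i) (iota j) c hι' hc')).act) ≫
        ((G ◁ pullback.snd (iota j) c) ≫ aY'.act)
      = lift g (z' ≫ pullback.snd (iota j) c) ≫ aY'.act := by
  rw [ChGrp.lift_twist_act, lift_whiskerLeft_assoc, T2, ← act_mul' aY',
    _root_.inv_mul_cancel_right]

include heq hpb hc in
theorem sub_isPullback :
    IsPullback
      (ChGrp.twist i (pbAction aZ (aY'.restrict i) (aY.restrict i) (iota j) c hι' hc')).act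
      (snd H (G ⊗ pullback (iota j) c))
      ((G ◁ pullback.snd (iota j) c) ≫ aY'.act) ((G ◁ pullback.snd (iota j) c) ≫ aY'.act) := by
  apply isPullback_of_exists_unique
  · apply hom_ext_lift₂₂
    intro T h g z'
    rw [← Category.assoc, subj_twist_pt, lift_snd_assoc, lift_whiskerLeft_assoc]
  · intro T p₁ p₂ hq
    obtain ⟨g₁, z₁, rfl⟩ : ∃ (g : T ⟶ G) (z : T ⟶ pullback (iota j) c), p₁ = lift g z :=
      ⟨_, _, lift_eta p₁⟩
    obtain ⟨g₂, z₂, rfl⟩ : ∃ (g : T ⟶ G) (z : T ⟶ pullback (iota j) c), p₂ = lift g z :=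
      ⟨_, _, lift_eta p₂⟩
    have hY' : lift g₁ (z₁ ≫ pullback.snd (iota j) c) ≫ aY'.act
        = lift g₂ (z₂ ≫ pullback.snd (iota j) c) ≫ aY'.act := by
      have := hq
      rw [lift_whiskerLeft_assoc, lift_whiskerLeft_assoc] at this
      exact this
    have hq' : lift g₁ (z₁ ≫ pullback.fst (iota j) c) ≫ j
        = lift g₂ (z₂ ≫ pullback.fst (iota j) c) ≫ j := by
      calc lift g₁ (z₁ ≫ pullback.fst (iota j) c) ≫ j
          = lift g₁ z₁ ≫ (G ◁ pullback.fst (iota j) c) ≫ j := by rw [lift_whiskerLeft_assoc]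
        _ = lift g₁ z₁ ≫ ((G ◁ pullback.snd (iota j) c) ≫ aY'.act) ≫ c := by
            rw [subj_comp aY j c aY' heq hc]
        _ = (lift g₁ z₁ ≫ ((G ◁ pullback.snd (iota j) c) ≫ aY'.act)) ≫ c :=
            (Category.assoc _ _ _).symm
        _ = (lift g₂ z₂ ≫ ((G ◁ pullback.snd (iota j) c) ≫ aY'.act)) ≫ c := by rw [hq]
        _ = lift g₂ z₂ ≫ ((G ◁ pullback.snd (iota j) c) ≫ aY'.act) ≫ c := Category.assoc _ _ _
        _ = lift g₂ z₂ ≫ (G ◁ pullback.fst (iota j) c) ≫ j := by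
            rw [subj_comp aY j c aY' heq hc]
        _ = lift g₂ (z₂ ≫ pullback.fst (iota j) c) ≫ j := by rw [lift_whiskerLeft_assoc]
    have hw1 := hpb.lift_fst _ _ hq'
    have hw2 := hpb.lift_snd _ _ hq'
    set w₀ := hpb.lift _ _ hq' with hw₀
    have hw₀e : w₀ = lift (w₀ ≫ fst H (G ⊗ Z)) (lift g₂ (z₂ ≫ pullback.fst (iota j) c)) := by
      rw [← hw2]
      exact lift_eta w₀
    have hh := hw1
    rw [hw₀e, ChGrp.lift_twist_act] at hh
    have e1 : g₂ * ((w₀ ≫ fst H (G ⊗ Z)) ≫ i)⁻¹ = g₁ := by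
      have := congrArg (fun k => k ≫ fst G Z) hh
      simpa only [lift_fst] using this
    have e2 : lift (w₀ ≫ fst H (G ⊗ Z)) (z₂ ≫ pullback.fst (iota j) c) ≫ aZ.act
        = z₁ ≫ pullback.fst (iota j) c := by
      have := congrArg (fun k => k ≫ snd G Z) hh
      simpa only [lift_snd] using this
    refine ⟨lift (w₀ ≫ fst H (G ⊗ Z)) (lift g₂ z₂), ?_, lift_snd _ _⟩
    rw [ChGrp.lift_twist_act, e1]
    congr 1
    apply pullback.hom_ext
    · rw [T3, e2]
    · rw [T2]
      have h3 := act_cancel aY' g₁ g₂ _ _ hY'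
      have h4 : g₁⁻¹ * g₂ = (w₀ ≫ fst H (G ⊗ Z)) ≫ i := by
        rw [← e1]
        group
      rw [h4] at h3
      exact h3.symm
  · intro T l l' h1 h2
    have hm : l ≫ (H ◁ (G ◁ pullback.fst (iota j) c)) = l' ≫ (H ◁ (G ◁ pullback.fst (iota j) c)) := by
      apply hpb.hom_ext
      · rw [Category.assoc, Category.assoc, TW i aZ aY j c aY' hι' hc', ← Category.assoc,
          ← Category.assoc, h1]
      · rw [Category.assoc, Category.assoc, whiskerLeft_snd, ← Category.assoc, ← Category.assoc, h2]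
    have hf : l ≫ fst H _ = l' ≫ fst H _ := by
      have := congrArg (fun k => k ≫ fst H (G ⊗ Z)) hm
      simpa only [Category.assoc, whiskerLeft_fst] using this
    rw [lift_eta l, lift_eta l', hf, h2]

end main

theorem main_general {G H Z Y Y' : Over S} [GrpObj G] [GrpObj H] (i : H ⟶ G) [IsMonHom i]
    (aZ : AlgGrp.Action H Z) (aY : AlgGrp.Action G Y) (j : G ⊗ Z ⟶ Y)
    (hY : ChGrp.IsBalProd Scheme.fppfPrecoverage i aZ aY j)
    (c : Y' ⟶ Y) [IsClosedImmersion c.left]
    (aY' : AlgGrp.Action G Y') (hc : AlgGrp.Action.IsEquivariant aY' aY c) :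
    ∃ (Z' : Over S) (c' : Z' ⟶ Z) (aZ' : AlgGrp.Action H Z') (j' : G ⊗ Z' ⟶ Y'),
      IsClosedImmersion c'.left ∧ AlgGrp.Action.IsEquivariant aZ' aZ c' ∧
      j' ≫ c = (G ◁ c') ≫ j ∧ ChGrp.IsBalProd Scheme.fppfPrecoverage i aZ' aY' j' := by
  obtain ⟨heq, hpb, hloc⟩ := hY
  have hc0 : aY'.act ≫ c = (G ◁ c) ≫ aY.act := hc
  have hι' := iota_equiv i aZ aY j heq hpb
  have hc' := restrict_equiv i aY c aY' hc0
  refine ⟨pullback (iota j) c, pullback.fst (iota j) c,
    pbAction aZ (aY'.restrict i) (aY.restrict i) (iota j) c hι' hc',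
    (G ◁ pullback.snd (iota j) c) ≫ aY'.act, ?_, ?_, ?_, ?_⟩
  · have sq : IsPullback (pullback.fst (iota j) c).left (pullback.snd (iota j) c).left
        (iota j).left c.left :=
      (IsPullback.of_hasPullback (iota j) c).map (Over.forget S)
    exact MorphismProperty.of_isPullback (P := @IsClosedImmersion) sq.flip inferInstance
  · show pbAct aZ (aY'.restrict i) (aY.restrict i) (iota j) c hι' hc' ≫ pullback.fst (iota j) c
      = (H ◁ pullback.fst (iota j) c) ≫ aZ.act
    exact pullback.lift_fst _ _ _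
  · exact subj_comp aY j c aY' heq hc0
  · exact ⟨subj_equiv j c aY', sub_isPullback i aZ aY j c aY' heq hpb hc0 hι' hc',
      sub_locTriv aY j c aY' heq hc0 hloc⟩

end Groth.Agent.Lib.BalProdSub
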