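import Groth.Statements.S19098
import Groth.Agent.Lib.BalProdSub_lead

/-! # The stabiliser over a conjugacy class as a balanced product (lead) -/

set_option backward.isDefEq.respectTransparency false
set_option backward.isDefEq.respectTransparency.types false
set_option linter.unusedSimpArgs false
set_option linter.unusedVariables false
set_option linter.unusedSectionVars false
set_option linter.style.longLine false
set_option linter.style.haveILetI false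
set_option maxHeartbeats 800000

universe u

open CategoryTheory CategoryTheory.Limits MonoidalCategory CartesianMonoidalCategory MonObj GrpObj
  AlgebraicGeometry Opposite Topology

namespace Groth.Agent.Lib.ConjClassBal

open Groth.Agent.Lib.AssocBundle Groth.Agent.Lib.GeomQuotSep Groth.Agent.Lib.BundleStages
  Groth.Agent.Lib.TorsorSeq SchFpqcCovH7 Groth.Agent.Lib.BalProdQuot Groth.Agent.Lib.BalProdSub

variable {S : Scheme.{u}}

theorem eta₂₂ {A B C T : Over S} (l : T ⟶ A ⊗ (B ⊗ C)) :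
    l = lift (l ≫ fst _ _) (lift (l ≫ snd _ _ ≫ fst _ _) (l ≫ snd _ _ ≫ snd _ _)) := by
  apply CartesianMonoidalCategory.hom_ext
  · rw [lift_fst]
  · rw [lift_snd]
    apply CartesianMonoidalCategory.hom_ext
    · rw [lift_fst, Category.assoc]
    · rw [lift_snd, Category.assoc]

section

variable {G X Z Ψ Xh SΨ : Over S} [GrpObj G] [GrpObj Z]
    (a : AlgGrp.Action G X) (h : 𝟙_ (Over S) ⟶ G)
    (i : Z ⟶ G) [IsMonHom i]
    (ψ : Ψ ⟶ G) [Mono ψ] (aΨ : AlgGrp.Action G Ψ)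
    (hψ : aΨ.act ≫ ψ = fst G Ψ * (snd G Ψ ≫ ψ) * (fst G Ψ)⁻¹)
    (o : 𝟙_ (Over S) ⟶ Ψ) (ho : o ≫ ψ = h)
    (hpb : IsPullback (fst G Z) ((G ◁ i) ≫ μ[G]) (aΨ.orbitMap o) (aΨ.orbitMap o))
    (incl : Xh ⟶ X) [Mono incl]
    (hXh : ∀ (T : Over S) (x : T ⟶ X), (∃ y : T ⟶ Xh, y ≫ incl = x) ↔ lift (toUnit T ≫ h) x ≫ a.act = x)
    (aXh : AlgGrp.Action Z Xh) (hincl : AlgGrp.Action.IsEquivariant aXh (a.restrict i) incl)
    (σ : SΨ ⟶ G ⊗ X) [Mono σ]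
    (hSΨ : ∀ (T : Over S) (g : T ⟶ G) (x : T ⟶ X),
      (∃ q : T ⟶ SΨ, q ≫ σ = lift g x) ↔ ((∃ y : T ⟶ Ψ, y ≫ ψ = g) ∧ lift g x ≫ a.act = x))
    (aS : AlgGrp.Action G SΨ)
    (hσ : aS.act ≫ σ = lift (fst G SΨ * (snd G SΨ ≫ σ ≫ fst G X) * (fst G SΨ)⁻¹)
      (lift (fst G SΨ) (snd G SΨ ≫ σ ≫ snd G X) ≫ a.act))
    (Φ : G ⊗ Xh ⟶ SΨ)
    (hΦ : Φ ≫ σ = lift (fst G Xh * (toUnit (G ⊗ Xh) ≫ h) * (fst G Xh)⁻¹)
      (lift (fst G Xh) (snd G Xh ≫ incl) ≫ a.act))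

include hψ ho in
theorem orb_psi {T : Over S} (g : T ⟶ G) :
    g ≫ aΨ.orbitMap o ≫ ψ = g * (toUnit T ≫ h) * g⁻¹ := by
  rw [AlgGrp.Action.comp_orbitMap_assoc, hψ]
  simp only [comp_mul, comp_inv, lift_fst, lift_snd_assoc, Category.assoc, ho]

include hpb in
theorem orb_mul {T : Over S} (g : T ⟶ G) (z : T ⟶ Z) :
    (g * (z ≫ i)) ≫ aΨ.orbitMap o = g ≫ aΨ.orbitMap o := by
  have := congrArg (fun k => lift g z ≫ k) hpb.w
  simp only [Category.assoc, lift_fst_assoc, lift_whiskerLeft_assoc] at this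
  rw [this, Hom.mul_def, Category.assoc]

include hpb in
theorem orb_mul_inv {T : Over S} (g : T ⟶ G) (z : T ⟶ Z) :
    (g * (z ≫ i)⁻¹) ≫ aΨ.orbitMap o = g ≫ aΨ.orbitMap o := by
  have := orb_mul i aΨ o hpb (g * (z ≫ i)⁻¹) z
  rw [_root_.inv_mul_cancel_right] at this
  exact this.symm

include hpb in
theorem i_cancel {T : Over S} (z z' : T ⟶ Z) (hz : z ≫ i = z' ≫ i) : z = z' := by
  have : lift (1 : T ⟶ G) z = lift 1 z' := by
    apply hpb.hom_ext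
    · rw [lift_fst, lift_fst]
    · rw [lift_whiskerLeft_assoc, lift_whiskerLeft_assoc, hz]
  have := congrArg (fun k => k ≫ snd G Z) this
  simpa only [lift_snd] using this

include hΦ in
theorem Phi_pt {T : Over S} (g : T ⟶ G) (y : T ⟶ Xh) :
    lift g y ≫ Φ ≫ σ = lift (g * (toUnit T ≫ h) * g⁻¹) (lift g (y ≫ incl) ≫ a.act) := by
  rw [hΦ, comp_lift]
  congr 1
  · simp only [comp_mul, comp_inv, lift_fst, comp_toUnit_assoc]
  · rw [comp_lift_assoc, lift_fst, lift_snd_assoc]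

include hσ in
theorem aS_pt {T : Over S} (g : T ⟶ G) (s : T ⟶ SΨ) :
    lift g s ≫ aS.act ≫ σ
      = lift (g * (s ≫ σ ≫ fst G X) * g⁻¹) (lift g (s ≫ σ ≫ snd G X) ≫ a.act) := by
  rw [hσ, comp_lift]
  congr 1
  · simp only [comp_mul, comp_inv, lift_fst, lift_snd_assoc]
  · rw [comp_lift_assoc, lift_fst, lift_snd_assoc]

include hincl in
theorem incl_act {T : Over S} (z : T ⟶ Z) (y : T ⟶ Xh) :
    lift z y ≫ aXh.act ≫ incl = lift (z ≫ i) (y ≫ incl) ≫ a.act := by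
  have h' : aXh.act ≫ incl = (Z ◁ incl) ≫ (a.restrict i).act := hincl
  rw [h', lift_whiskerLeft_assoc, AlgGrp.Action.lift_restrict_act]

include hσ hΦ in
theorem equivariant :
    AlgGrp.Action.IsEquivariant ((NonAbH1.trivialAction G).prod (AlgGrp.Action.trivial G Xh)) aS Φ := by
  show ((NonAbH1.trivialAction G).prod (AlgGrp.Action.trivial G Xh)).act ≫ Φ = (G ◁ Φ) ≫ aS.act
  apply hom_ext_lift₂₂
  intro T g' g y
  rw [← cancel_mono σ]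
  have e1 : (lift g' (lift g y) ≫
      ((NonAbH1.trivialAction G).prod (AlgGrp.Action.trivial G Xh)).act ≫ Φ) ≫ σ
      = lift (g' * g) y ≫ Φ ≫ σ := by
    rw [← Category.assoc, prod_triv_pt, Category.assoc]
  have e2 : (lift g' (lift g y) ≫ (G ◁ Φ) ≫ aS.act) ≫ σ
      = lift g' (lift g y ≫ Φ) ≫ aS.act ≫ σ := by
    rw [lift_whiskerLeft_assoc, Category.assoc]
  rw [e1, e2, Phi_pt a h incl σ Φ hΦ, aS_pt a σ aS hσ]
  have e3 : (lift g y ≫ Φ) ≫ σ ≫ fst G X = g * (toUnit T ≫ h) * g⁻¹ := by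
    have := congrArg (fun k => k ≫ fst G X) (Phi_pt a h incl σ Φ hΦ g y)
    simpa only [Category.assoc, lift_fst] using this
  have e4 : (lift g y ≫ Φ) ≫ σ ≫ snd G X = lift g (y ≫ incl) ≫ a.act := by
    have := congrArg (fun k => k ≫ snd G X) (Phi_pt a h incl σ Φ hΦ g y)
    simpa only [Category.assoc, lift_snd] using this
  rw [e3, e4, act_mul' a]
  congr 1
  simp only [_root_.mul_inv_rev, _root_.mul_assoc]

include hψ ho hpb hincl hΦ in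
theorem cart : IsPullback (ChGrp.twist i aXh).act (snd Z (G ⊗ Xh)) Φ Φ := by
  apply isPullback_of_exists_unique
  · apply hom_ext_lift₂₂
    intro T z g y
    rw [← cancel_mono σ]
    have e1 : (lift z (lift g y) ≫ (ChGrp.twist i aXh).act ≫ Φ) ≫ σ
        = lift (g * (z ≫ i)⁻¹) (lift z y ≫ aXh.act) ≫ Φ ≫ σ := by
      rw [ChGrp.lift_twist_act_assoc, Category.assoc]
    have e2 : (lift z (lift g y) ≫ snd Z (G ⊗ Xh) ≫ Φ) ≫ σ = lift g y ≫ Φ ≫ σ := by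
      rw [lift_snd_assoc, Category.assoc]
    rw [e1, e2, Phi_pt a h incl σ Φ hΦ, Phi_pt a h incl σ Φ hΦ]
    congr 1
    · rw [← orb_psi h ψ aΨ hψ o ho, ← orb_psi h ψ aΨ hψ o ho, ← Category.assoc,
        orb_mul_inv i aΨ o hpb, Category.assoc]
    · rw [Category.assoc, incl_act a i incl aXh hincl, ← act_mul' a, _root_.inv_mul_cancel_right]
  · intro T p₁ p₂ hp
    obtain ⟨g₁, y₁, rfl⟩ : ∃ (g : T ⟶ G) (y : T ⟶ Xh), p₁ = lift g y := ⟨_, _, lift_eta p₁⟩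
    obtain ⟨g₂, y₂, rfl⟩ : ∃ (g : T ⟶ G) (y : T ⟶ Xh), p₂ = lift g y := ⟨_, _, lift_eta p₂⟩
    have hσ' : lift g₁ y₁ ≫ Φ ≫ σ = lift g₂ y₂ ≫ Φ ≫ σ := by
      rw [← Category.assoc, hp, Category.assoc]
    rw [Phi_pt a h incl σ Φ hΦ, Phi_pt a h incl σ Φ hΦ] at hσ'
    have h1 := congrArg (fun k => k ≫ fst G X) hσ'
    have h2 := congrArg (fun k => k ≫ snd G X) hσ'
    simp only [lift_fst, lift_snd] at h1 h2
    have horb : g₁ ≫ aΨ.orbitMap o = g₂ ≫ aΨ.orbitMap o := by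
      rw [← cancel_mono ψ, Category.assoc, Category.assoc, orb_psi h ψ aΨ hψ o ho,
        orb_psi h ψ aΨ hψ o ho]
      exact h1
    have hm1 : hpb.lift g₁ g₂ horb ≫ fst G Z = g₁ := hpb.lift_fst _ _ _
    have hm2 : hpb.lift g₁ g₂ horb ≫ (G ◁ i) ≫ μ[G] = g₂ := hpb.lift_snd _ _ _
    generalize hpb.lift g₁ g₂ horb = m at hm1 hm2
    obtain ⟨g₀, zz, rfl⟩ : ∃ (g : T ⟶ G) (z : T ⟶ Z), m = lift g z := ⟨_, _, lift_eta m⟩
    rw [lift_fst] at hm1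
    subst hm1
    rw [lift_whiskerLeft_assoc, ← Hom.mul_def] at hm2
    subst hm2
    refine ⟨lift zz (lift (g₀ * (zz ≫ i)) y₂), ?_, lift_snd _ _⟩
    rw [ChGrp.lift_twist_act, _root_.mul_inv_cancel_right]
    congr 1
    rw [← cancel_mono incl, Category.assoc, incl_act a i incl aXh hincl]
    have := act_cancel a _ _ _ _ h2
    rw [_root_.inv_mul_cancel_left] at this
    exact this.symm
  · intro T l l' h1 h2
    rw [eta₂₂ l, eta₂₂ l'] at h1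
    rw [ChGrp.lift_twist_act, ChGrp.lift_twist_act] at h1
    have h3 := congrArg (fun k => k ≫ fst G Xh) h1
    simp only [lift_fst] at h3
    have h4 : l ≫ snd Z (G ⊗ Xh) ≫ fst G Xh = l' ≫ snd Z (G ⊗ Xh) ≫ fst G Xh := by
      rw [← Category.assoc, h2, Category.assoc]
    rw [h4] at h3
    have h5 : (l ≫ fst Z (G ⊗ Xh)) ≫ i = (l' ≫ fst Z (G ⊗ Xh)) ≫ i :=
      inv_injective (mul_left_cancel h3)
    apply CartesianMonoidalCategory.hom_ext _ _ (i_cancel i aΨ o hpb _ _ h5) h2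

include hSΨ in
theorem exists_pi : ∃ π : SΨ ⟶ Ψ, π ≫ ψ = σ ≫ fst G X := by
  have := (hSΨ SΨ (σ ≫ fst G X) (σ ≫ snd G X)).1 ⟨𝟙 _, by rw [Category.id_comp]; exact lift_eta σ⟩
  exact this.1

include hSΨ in
theorem fixed_pt {T : Over S} (q : T ⟶ SΨ) :
    lift (q ≫ σ ≫ fst G X) (q ≫ σ ≫ snd G X) ≫ a.act = q ≫ σ ≫ snd G X :=
  ((hSΨ T _ _).1 ⟨q, by
    have := lift_eta (q ≫ σ)
    simpa only [Category.assoc] using this⟩).2

include hψ ho hXh hSΨ hΦ in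
theorem exists_lift_Phi (π : SΨ ⟶ Ψ) (hπ : π ≫ ψ = σ ≫ fst G X) {T : Over S} (q : T ⟶ SΨ)
    (g : T ⟶ G) (hg : g ≫ aΨ.orbitMap o = q ≫ π) : ∃ p : T ⟶ G ⊗ Xh, p ≫ Φ = q := by
  have hγ : q ≫ σ ≫ fst G X = g * (toUnit T ≫ h) * g⁻¹ := by
    rw [← orb_psi h ψ aΨ hψ o ho, ← Category.assoc g, hg, Category.assoc, hπ]
  have hfix := fixed_pt a ψ σ hSΨ q
  have hx₀ : lift (toUnit T ≫ h) (lift g⁻¹ (q ≫ σ ≫ snd G X) ≫ a.act) ≫ a.act
      = lift g⁻¹ (q ≫ σ ≫ snd G X) ≫ a.act := by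
    calc lift (toUnit T ≫ h) (lift g⁻¹ (q ≫ σ ≫ snd G X) ≫ a.act) ≫ a.act
        = lift ((toUnit T ≫ h) * g⁻¹) (q ≫ σ ≫ snd G X) ≫ a.act := (act_mul' a _ _ _).symm
      _ = lift (g⁻¹ * (q ≫ σ ≫ fst G X)) (q ≫ σ ≫ snd G X) ≫ a.act := by
          rw [hγ]
          congr 2
          simp only [← _root_.mul_assoc, _root_.inv_mul_cancel, _root_.one_mul]
      _ = lift g⁻¹ (lift (q ≫ σ ≫ fst G X) (q ≫ σ ≫ snd G X) ≫ a.act) ≫ a.act :=
          act_mul' a _ _ _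
      _ = lift g⁻¹ (q ≫ σ ≫ snd G X) ≫ a.act := by rw [hfix]
  obtain ⟨y, hy⟩ := (hXh T _).2 hx₀
  refine ⟨lift g y, ?_⟩
  rw [← cancel_mono σ, Category.assoc, Phi_pt a h incl σ Φ hΦ, hy, ← hγ, ← act_mul' a,
    _root_.mul_inv_cancel, act_one' a]
  have := lift_eta (q ≫ σ)
  simpa only [Category.assoc] using this.symm

include hψ ho hXh hSΨ hΦ in
theorem locTriv
    (hloc : NonAbH1.IsLocallyTrivialFor Scheme.fppfPrecoverage
      (Over.mk (aΨ.orbitMap o).left : Over Ψ.left)) :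
    NonAbH1.IsLocallyTrivialFor Scheme.fppfPrecoverage (Over.mk Φ.left : Over SΨ.left) := by
  obtain ⟨R, hR, hsec⟩ := hloc
  obtain ⟨π, hπ⟩ := exists_pi a ψ σ hSΨ
  have wπ : π.left ≫ Ψ.hom = SΨ.hom := Over.w π
  have wo : (aΨ.orbitMap o).left ≫ Ψ.hom = G.hom := Over.w _
  refine ⟨R.pullbackArrows π.left, Precoverage.pullbackArrows_mem π.left hR, ?_⟩
  rintro T f ⟨Z₀, u, hu⟩
  obtain ⟨s, hs⟩ := hsec u hu
  have hs' : s ≫ (aΨ.orbitMap o).left = u := hs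
  have hpw : (pullback.fst u π.left ≫ s) ≫ G.hom = pullback.snd u π.left ≫ SΨ.hom := by
    rw [← wo, ← wπ]
    simp only [Category.assoc]
    rw [reassoc_of% hs', pullback.condition_assoc]
  let W : Over S := Over.mk (pullback.snd u π.left ≫ SΨ.hom)
  let q : W ⟶ SΨ := Over.homMk (pullback.snd u π.left) rfl
  let g : W ⟶ G := Over.homMk (pullback.fst u π.left ≫ s) hpw
  have hg : g ≫ aΨ.orbitMap o = q ≫ π := by
    ext
    show (pullback.fst u π.left ≫ s) ≫ (aΨ.orbitMap o).left = pullback.snd u π.left ≫ π.left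
    rw [Category.assoc, hs', pullback.condition]
  obtain ⟨p, hp⟩ := exists_lift_Phi a h ψ aΨ hψ o ho incl hXh σ hSΨ Φ hΦ π hπ q g hg
  refine ⟨p.left, ?_⟩
  have := congrArg (fun k => k.left) hp
  exact this

end

theorem main {G X Z Ψ Xh SΨ : Over S} [GrpObj G] [GrpObj Z]
    (a : AlgGrp.Action G X) (h : 𝟙_ (Over S) ⟶ G)
    (i : Z ⟶ G) [IsMonHom i]
    (ψ : Ψ ⟶ G) [Mono ψ] (aΨ : AlgGrp.Action G Ψ)
    (hψ : aΨ.act ≫ ψ = fst G Ψ * (snd G Ψ ≫ ψ) * (fst G Ψ)⁻¹)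
    (o : 𝟙_ (Over S) ⟶ Ψ) (ho : o ≫ ψ = h)
    (hhom : ChGrp.IsHomog Scheme.fppfPrecoverage i aΨ o)
    (incl : Xh ⟶ X) [Mono incl]
    (hXh : ∀ (T : Over S) (x : T ⟶ X), (∃ y : T ⟶ Xh, y ≫ incl = x) ↔ lift (toUnit T ≫ h) x ≫ a.act = x)
    (aXh : AlgGrp.Action Z Xh) (hincl : AlgGrp.Action.IsEquivariant aXh (a.restrict i) incl)
    (σ : SΨ ⟶ G ⊗ X) [Mono σ]
    (hSΨ : ∀ (T : Over S) (g : T ⟶ G) (x : T ⟶ X),
      (∃ q : T ⟶ SΨ, q ≫ σ = lift g x) ↔ ((∃ y : T ⟶ Ψ, y ≫ ψ = g) ∧ lift g x ≫ a.act = x))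
    (aS : AlgGrp.Action G SΨ)
    (hσ : aS.act ≫ σ = lift (fst G SΨ * (snd G SΨ ≫ σ ≫ fst G X) * (fst G SΨ)⁻¹)
      (lift (fst G SΨ) (snd G SΨ ≫ σ ≫ snd G X) ≫ a.act))
    (Φ : G ⊗ Xh ⟶ SΨ)
    (hΦ : Φ ≫ σ = lift (fst G Xh * (toUnit (G ⊗ Xh) ≫ h) * (fst G Xh)⁻¹)
      (lift (fst G Xh) (snd G Xh ≫ incl) ≫ a.act)) :
    ChGrp.IsBalProd Scheme.fppfPrecoverage i aXh aS Φ := by
  obtain ⟨_, hpb, hloc⟩ := hhom
  exact ⟨equivariant a h incl σ aS hσ Φ hΦ,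
    cart a h i ψ aΨ hψ o ho hpb incl aXh hincl σ Φ hΦ,
    locTriv a h ψ aΨ hψ o ho incl hXh σ hSΨ Φ hΦ hloc⟩

end Groth.Agent.Lib.ConjClassBal
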