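import Groth.Statements.S19099
import Groth.Agent.Lib.ConjClassBal_lead
import Groth.Agent.Lib.TorsorProp_helper7

/-! # Fixed locus of a central element in a balanced product (lead) -/

set_option backward.isDefEq.respectTransparency false
set_option backward.isDefEq.respectTransparency.types false
set_option linter.unusedSimpArgs false
set_option linter.unusedVariables false
set_option linter.unusedSectionVars false
set_option linter.style.longLine false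
set_option linter.style.haveILetI false
set_option maxHeartbeats 800000

universe u

open CategoryTheory CategoryTheory.Limits MonoidalCategory CartesianMonoidalCategory MonObj GrpObj
  AlgebraicGeometry Opposite Topology

namespace Groth.Agent.Lib.BalProdFix

open Groth.Agent.Lib.AssocBundle Groth.Agent.Lib.GeomQuotSep Groth.Agent.Lib.BundleStages
  Groth.Agent.Lib.TorsorSeq SchFpqcCovH7 Groth.Agent.Lib.BalProdQuot Groth.Agent.Lib.BalProdSub
  Groth.Agent.Lib.ConjClassBal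

variable {S : Scheme.{u}}

theorem exists_lift_cov {A Q : Over S} (q : A ⟶ Q) (hc : IsCov q.left) {T : Over S} (u : T ⟶ Q) :
    ∃ (T₁ : Over S) (P1 : T₁ ⟶ T) (P2 : T₁ ⟶ A), IsCov P1.left ∧ P1 ≫ u = P2 ≫ q := by
  let T₁ : Over S := Over.mk (pullback.fst u.left q.left ≫ T.hom)
  let P1 : T₁ ⟶ T := Over.homMk (pullback.fst u.left q.left) rfl
  have hw : pullback.snd u.left q.left ≫ A.hom = pullback.fst u.left q.left ≫ T.hom := by
    have := pullback.condition (f := u.left) (g := q.left)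
    calc pullback.snd u.left q.left ≫ A.hom
        = pullback.snd u.left q.left ≫ q.left ≫ Q.hom := by rw [Over.w q]
      _ = pullback.fst u.left q.left ≫ u.left ≫ Q.hom := by
          rw [← Category.assoc, ← this, Category.assoc]
      _ = _ := by rw [Over.w u]
  let P2 : T₁ ⟶ A := Over.homMk (pullback.snd u.left q.left) hw
  refine ⟨T₁, P1, P2, ?_, ?_⟩
  · show IsCov (pullback.fst u.left q.left)
    exact IsCov.of_isPullback (IsPullback.of_hasPullback u.left q.left).flip hc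
  · ext
    exact pullback.condition

theorem mono_of_local {A' Y' Y : Over S} (j' : A' ⟶ Y') (hc : IsCov j'.left) (m : Y' ⟶ Y)
    (H : ∀ (T : Over S) (p₁ p₂ : T ⟶ A'), p₁ ≫ j' ≫ m = p₂ ≫ j' ≫ m → p₁ ≫ j' = p₂ ≫ j') :
    Mono m := by
  constructor
  intro T y₁ y₂ hy
  obtain ⟨T₁, c₁, p₁, hc₁, e₁⟩ := exists_lift_cov j' hc y₁
  obtain ⟨T₂, c₂, p₂, hc₂, e₂⟩ := exists_lift_cov j' hc (c₁ ≫ y₂)
  haveI : Epi c₁ := epi_of_isCov _ hc₁
  haveI : Epi c₂ := epi_of_isCov _ hc₂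
  rw [← cancel_epi c₁, ← cancel_epi c₂]
  have h1 : (c₂ ≫ p₁) ≫ j' ≫ m = p₂ ≫ j' ≫ m := by
    calc (c₂ ≫ p₁) ≫ j' ≫ m = c₂ ≫ (p₁ ≫ j') ≫ m := by simp only [Category.assoc]
      _ = c₂ ≫ (c₁ ≫ y₁) ≫ m := by rw [e₁]
      _ = c₂ ≫ c₁ ≫ y₂ ≫ m := by rw [Category.assoc, hy]
      _ = (c₂ ≫ c₁ ≫ y₂) ≫ m := by simp only [Category.assoc]
      _ = (p₂ ≫ j') ≫ m := by rw [e₂]
      _ = p₂ ≫ j' ≫ m := Category.assoc _ _ _
  have h2 := H T₂ (c₂ ≫ p₁) p₂ h1
  rw [e₂, e₁, ← Category.assoc, h2]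

theorem factors_of_local {Y' Y T T₁ : Over S} (m : Y' ⟶ Y) [Mono m] (c : T₁ ⟶ T)
    (hc : IsCov c.left) (y : T ⟶ Y) (y₁ : T₁ ⟶ Y') (hy : y₁ ≫ m = c ≫ y) :
    ∃ y' : T ⟶ Y', y' ≫ m = y := by
  obtain ⟨y', hy'⟩ := desc_of_isCov c hc y₁ (by
    intro T' a₁ a₂ ha
    rw [← cancel_mono m, Category.assoc, Category.assoc, hy, ← Category.assoc, ha,
      Category.assoc])
  haveI : Epi c := epi_of_isCov _ hc
  refine ⟨y', ?_⟩
  rw [← cancel_epi c, ← Category.assoc, hy', hy]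

section general

variable {Q G Z Y : Over S} [GrpObj Q] [GrpObj G] (i : G ⟶ Q) [IsMonHom i]
  (aZ : AlgGrp.Action G Z) (j : Q ⊗ Z ⟶ Y)
  (hpb : IsPullback (ChGrp.twist i aZ).act (snd G (Q ⊗ Z)) j j)

include hpb in
theorem j_twist {T : Over S} (g : T ⟶ G) (q : T ⟶ Q) (z : T ⟶ Z) :
    lift (q * (g ≫ i)⁻¹) (lift g z ≫ aZ.act) ≫ j = lift q z ≫ j := by
  have := congrArg (fun k => lift g (lift q z) ≫ k) hpb.w
  simp only [ChGrp.lift_twist_act_assoc, lift_snd_assoc] at this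
  exact this

include hpb in
theorem j_cart {T : Over S} (q₁ q₂ : T ⟶ Q) (z₁ z₂ : T ⟶ Z)
    (hh : lift q₁ z₁ ≫ j = lift q₂ z₂ ≫ j) :
    ∃ g : T ⟶ G, q₁ = q₂ * (g ≫ i)⁻¹ ∧ z₁ = lift g z₂ ≫ aZ.act := by
  have e1 : hpb.lift _ _ hh ≫ (ChGrp.twist i aZ).act = lift q₁ z₁ := hpb.lift_fst _ _ _
  have e2 : hpb.lift _ _ hh ≫ snd G (Q ⊗ Z) = lift q₂ z₂ := hpb.lift_snd _ _ _
  generalize hpb.lift _ _ hh = l at e1 e2
  rw [eta₂₂ l] at e1
  have e3 : l ≫ snd G (Q ⊗ Z) ≫ fst Q Z = q₂ := by rw [← Category.assoc, e2, lift_fst]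
  have e4 : l ≫ snd G (Q ⊗ Z) ≫ snd Q Z = z₂ := by rw [← Category.assoc, e2, lift_snd]
  rw [e3, e4, ChGrp.lift_twist_act] at e1
  refine ⟨l ≫ fst _ _, ?_, ?_⟩
  · have := congrArg (fun k => k ≫ fst Q Z) e1
    simpa only [lift_fst] using this.symm
  · have := congrArg (fun k => k ≫ snd Q Z) e1
    simpa only [lift_snd] using this.symm

end general

section

variable {Q G X Xh Y Y' : Over S} [GrpObj Q] [GrpObj G]
    (i : G ⟶ Q) [IsMonHom i] [Mono i]
    (h : 𝟙_ (Over S) ⟶ G)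
    (hcent : ∀ (T : Over S) (q : T ⟶ Q), q * (toUnit T ≫ h ≫ i) = (toUnit T ≫ h ≫ i) * q)
    (a : AlgGrp.Action G X)
    (incl : Xh ⟶ X) [Mono incl]
    (hXh : ∀ (T : Over S) (x : T ⟶ X), (∃ y : T ⟶ Xh, y ≫ incl = x) ↔ lift (toUnit T ≫ h) x ≫ a.act = x)
    (aXh : AlgGrp.Action G Xh) (hincl : AlgGrp.Action.IsEquivariant aXh a incl)
    (aY : AlgGrp.Action Q Y) (j : Q ⊗ X ⟶ Y)
    (heq : AlgGrp.Action.IsEquivariant
      ((NonAbH1.trivialAction Q).prod (AlgGrp.Action.trivial Q X)) aY j)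
    (hpb : IsPullback (ChGrp.twist i a).act (snd G (Q ⊗ X)) j j)
    (aY' : AlgGrp.Action Q Y') (j' : Q ⊗ Xh ⟶ Y')
    (hpb' : IsPullback (ChGrp.twist i aXh).act (snd G (Q ⊗ Xh)) j' j')
    (m : Y' ⟶ Y) (hm : j' ≫ m = (Q ◁ incl) ≫ j)

include hcent heq hpb in
theorem hQ_act {T : Over S} (q : T ⟶ Q) (x : T ⟶ X) :
    lift (toUnit T ≫ h ≫ i) (lift q x ≫ j) ≫ aY.act
      = lift q (lift (toUnit T ≫ h) x ≫ a.act) ≫ j := by
  rw [← E1 aY j heq, ← hcent T q]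
  have := j_twist i a j hpb (toUnit T ≫ h) (q * (toUnit T ≫ h ≫ i)) x
  rw [Category.assoc, _root_.mul_inv_cancel_right] at this
  exact this.symm

include hcent heq hpb in
theorem fix_iff {T : Over S} (q : T ⟶ Q) (x : T ⟶ X) :
    lift (toUnit T ≫ h ≫ i) (lift q x ≫ j) ≫ aY.act = lift q x ≫ j
      ↔ lift (toUnit T ≫ h) x ≫ a.act = x := by
  rw [hQ_act i h hcent a aY j heq hpb]
  constructor
  · intro hh
    obtain ⟨g, hg1, hg2⟩ := j_cart i a j hpb _ _ _ _ hh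
    have h3 : (g ≫ i)⁻¹ = 1 := left_eq_mul.mp hg1
    have h4 : g ≫ i = 1 := inv_eq_one.mp h3
    have hg : g = 1 := by
      rw [← cancel_mono i, h4, MonObj.one_comp]
    rw [hg2, hg, act_one' a]
  · intro hh
    rw [hh]

include hincl hpb hpb' hm in
theorem mono_m (hcov' : IsCov j'.left) : Mono m := by
  apply mono_of_local j' hcov' m
  intro T p₁ p₂ hp
  obtain ⟨q₁, x₁, rfl⟩ : ∃ (q : T ⟶ Q) (x : T ⟶ Xh), p₁ = lift q x := ⟨_, _, lift_eta p₁⟩
  obtain ⟨q₂, x₂, rfl⟩ : ∃ (q : T ⟶ Q) (x : T ⟶ Xh), p₂ = lift q x := ⟨_, _, lift_eta p₂⟩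
  rw [hm, lift_whiskerLeft_assoc, lift_whiskerLeft_assoc] at hp
  obtain ⟨g, hg1, hg2⟩ := j_cart i a j hpb _ _ _ _ hp
  have hincl' : aXh.act ≫ incl = (G ◁ incl) ≫ a.act := hincl
  have hx : x₁ = lift g x₂ ≫ aXh.act := by
    rw [← cancel_mono incl, hg2, Category.assoc, hincl', lift_whiskerLeft_assoc]
  rw [hg1, hx]
  exact j_twist i aXh j' hpb' g q₂ x₂

include hcent hXh hincl heq hpb hpb' hm in
theorem fixed_iff (hcov : IsCov j.left) (hcov' : IsCov j'.left) [Mono m] {T : Over S}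
    (y : T ⟶ Y) :
    (∃ y' : T ⟶ Y', y' ≫ m = y) ↔ lift (toUnit T ≫ h ≫ i) y ≫ aY.act = y := by
  constructor
  · rintro ⟨y', rfl⟩
    obtain ⟨T₁, c, p, hc, e⟩ := exists_lift_cov j' hcov' y'
    haveI : Epi c := epi_of_isCov _ hc
    obtain ⟨q, x', rfl⟩ : ∃ (q : T₁ ⟶ Q) (x : T₁ ⟶ Xh), p = lift q x := ⟨_, _, lift_eta p⟩
    rw [← cancel_epi c]
    have e' : c ≫ y' ≫ m = lift q (x' ≫ incl) ≫ j := by
      rw [← Category.assoc, e, Category.assoc, hm, lift_whiskerLeft_assoc]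
    have hx : lift (toUnit T₁ ≫ h) (x' ≫ incl) ≫ a.act = x' ≫ incl := (hXh T₁ _).1 ⟨x', rfl⟩
    calc c ≫ lift (toUnit T ≫ h ≫ i) (y' ≫ m) ≫ aY.act
        = lift (toUnit T₁ ≫ h ≫ i) (c ≫ y' ≫ m) ≫ aY.act := by
          rw [comp_lift_assoc, comp_toUnit_assoc]
      _ = lift (toUnit T₁ ≫ h ≫ i) (lift q (x' ≫ incl) ≫ j) ≫ aY.act := by rw [e']
      _ = lift q (x' ≫ incl) ≫ j := (fix_iff i h hcent a aY j heq hpb q _).2 hx
      _ = c ≫ y' ≫ m := e'.symm
  · intro hy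
    obtain ⟨T₁, c, p, hc, e⟩ := exists_lift_cov j hcov y
    obtain ⟨q, x, rfl⟩ : ∃ (q : T₁ ⟶ Q) (x : T₁ ⟶ X), p = lift q x := ⟨_, _, lift_eta p⟩
    have h1 : lift (toUnit T₁ ≫ h ≫ i) (lift q x ≫ j) ≫ aY.act = lift q x ≫ j := by
      have := congrArg (fun k => c ≫ k) hy
      simp only [comp_lift_assoc, comp_toUnit_assoc] at this
      rw [e] at this
      exact this
    have hx := (fix_iff i h hcent a aY j heq hpb q x).1 h1
    obtain ⟨x', hx'⟩ := (hXh T₁ x).2 hx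
    apply factors_of_local m c hc y (lift q x' ≫ j')
    rw [Category.assoc, hm, lift_whiskerLeft_assoc, hx', e]

include hcent hXh hincl heq hpb hpb' hm in
theorem cart_m (hcov : IsCov j.left) (hcov' : IsCov j'.left) [Mono m] :
    IsPullback j' (Q ◁ incl) m j := by
  apply isPullback_of_exists_unique _ _ _ _ hm
  · intro T y' p hp
    obtain ⟨q, x, rfl⟩ : ∃ (q : T ⟶ Q) (x : T ⟶ X), p = lift q x := ⟨_, _, lift_eta p⟩
    have h1 : lift (toUnit T ≫ h ≫ i) (lift q x ≫ j) ≫ aY.act = lift q x ≫ j := by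
      rw [← hp]
      exact (fixed_iff i h hcent a incl hXh aXh hincl aY j heq hpb j' hpb' m hm hcov hcov'
        _).1 ⟨y', rfl⟩
    have hx := (fix_iff i h hcent a aY j heq hpb q x).1 h1
    obtain ⟨x', rfl⟩ := (hXh T x).2 hx
    refine ⟨lift q x', ?_, lift_whiskerLeft _ _ _⟩
    rw [← cancel_mono m, Category.assoc, hm, lift_whiskerLeft_assoc, hp]
  · intro T l l' _ h2
    obtain ⟨q, x, rfl⟩ : ∃ (q : T ⟶ Q) (x : T ⟶ Xh), l = lift q x := ⟨_, _, lift_eta l⟩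
    obtain ⟨q₂, x₂, rfl⟩ : ∃ (q : T ⟶ Q) (x : T ⟶ Xh), l' = lift q x := ⟨_, _, lift_eta l'⟩
    rw [lift_whiskerLeft, lift_whiskerLeft] at h2
    have e1 := congrArg (fun k => k ≫ fst Q X) h2
    have e2 := congrArg (fun k => k ≫ snd Q X) h2
    simp only [lift_fst, lift_snd] at e1 e2
    rw [e1, (cancel_mono incl).1 e2]

open Groth.Agent.Lib.TorsorProp_helper7 in
include hcent hXh hincl heq hpb hpb' hm in
theorem closedImm (hcov : IsCov j.left) (hcov' : IsCov j'.left) [Mono m]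
    (hloc : NonAbH1.IsLocallyTrivialFor Scheme.fppfPrecoverage (Over.mk j.left : Over Y.left))
    (hinc : IsClosedImmersion incl.left) : IsClosedImmersion m.left := by
  obtain ⟨R, hR, hsec⟩ := hloc
  haveI := isClosedImmersion_descends.{u}
  have sq0 := cart_m i h hcent a incl hXh aXh hincl aY j heq hpb j' hpb' m hm hcov hcov'
  have sq : IsPullback j'.left (Q ◁ incl).left m.left j.left := sq0.map (Over.forget S)
  have hQi : IsClosedImmersion (Q ◁ incl).left :=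
    MorphismProperty.of_isPullback (P := @IsClosedImmersion) (isPullback_whiskerLeft Q incl).flip
      hinc
  have hbase : IsClosedImmersion (pullback.snd m.left j.left) := by
    have e : sq.isoPullback.hom ≫ pullback.snd m.left j.left = (Q ◁ incl).left :=
      sq.isoPullback_hom_snd
    have e' : pullback.snd m.left j.left = sq.isoPullback.inv ≫ (Q ◁ incl).left :=
      (Iso.eq_inv_comp _).2 e
    rw [e']
    infer_instance
  refine P_of_fpqc_aux @IsClosedImmersion m.left (𝟙 Y.left)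
    (Scheme.fppfPrecoverage_le_fpqcPrecoverage _ hR) (fun T f hf => ?_)
  obtain ⟨s, hs⟩ := hsec f hf
  have hs' : s ≫ j.left = f := hs
  have h1 : IsClosedImmersion (pullback.snd m.left f) :=
    P_snd_precomp @IsClosedImmersion m.left j.left s f hs' hbase
  exact P_snd_precomp @IsClosedImmersion m.left f (pullback.snd (𝟙 Y.left) f)
    (pullback.fst (𝟙 Y.left) f) (pullback.condition.symm.trans (Category.comp_id _)) h1

end

theorem main {Q G X Xh Y Y' : Over S} [GrpObj Q] [GrpObj G]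
    (i : G ⟶ Q) [IsMonHom i] [Mono i]
    (h : 𝟙_ (Over S) ⟶ G)
    (hcent : ∀ (T : Over S) (q : T ⟶ Q), q * (toUnit T ≫ h ≫ i) = (toUnit T ≫ h ≫ i) * q)
    (a : AlgGrp.Action G X)
    (incl : Xh ⟶ X) [Mono incl]
    (hXh : ∀ (T : Over S) (x : T ⟶ X), (∃ y : T ⟶ Xh, y ≫ incl = x) ↔ lift (toUnit T ≫ h) x ≫ a.act = x)
    (aXh : AlgGrp.Action G Xh) (hincl : AlgGrp.Action.IsEquivariant aXh a incl)
    (aY : AlgGrp.Action Q Y) (j : Q ⊗ X ⟶ Y) (hY : ChGrp.IsBalProd Scheme.fppfPrecoverage i a aY j)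
    (aY' : AlgGrp.Action Q Y') (j' : Q ⊗ Xh ⟶ Y') (hY' : ChGrp.IsBalProd Scheme.fppfPrecoverage i aXh aY' j')
    (m : Y' ⟶ Y) (hm : j' ≫ m = (Q ◁ incl) ≫ j) :
    Mono m ∧
      (∀ (T : Over S) (y : T ⟶ Y), (∃ y' : T ⟶ Y', y' ≫ m = y) ↔ lift (toUnit T ≫ h ≫ i) y ≫ aY.act = y) ∧
      (IsClosedImmersion incl.left → IsClosedImmersion m.left) := by
  obtain ⟨heq, hpb, hloc⟩ := hY
  obtain ⟨heq', hpb', hloc'⟩ := hY'
  have hcov : IsCov j.left := by
    have h' : NonAbH1.IsLocallyTrivialFor Scheme.fpqcPrecoverage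
        (Over.mk j.left : Over Y.left) := by
      obtain ⟨R, hR, hs⟩ := hloc
      exact ⟨R, Scheme.fppfPrecoverage_le_fpqcPrecoverage _ hR, hs⟩
    exact isCov_of_locallyTrivial _ h'
  have hcov' : IsCov j'.left := by
    have h' : NonAbH1.IsLocallyTrivialFor Scheme.fpqcPrecoverage
        (Over.mk j'.left : Over Y'.left) := by
      obtain ⟨R, hR, hs⟩ := hloc'
      exact ⟨R, Scheme.fppfPrecoverage_le_fpqcPrecoverage _ hR, hs⟩
    exact isCov_of_locallyTrivial _ h'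
  haveI hmono : Mono m := mono_m i a incl aXh hincl j hpb j' hpb' m hm hcov'
  exact ⟨hmono,
    fun T y => fixed_iff i h hcent a incl hXh aXh hincl aY j heq hpb j' hpb' m hm hcov hcov' y,
    closedImm i h hcent a incl hXh aXh hincl aY j heq hpb j' hpb' m hm hcov hcov' hloc⟩

end Groth.Agent.Lib.BalProdFix
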