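import Groth.Statements.S8007
import Groth.Agent.Lib.BalProdFix_lead
import Groth.Agent.Lib.TorsorProp_helper7
import Groth.Agent.S1128

/-! # Towers of homogeneous spaces `G/H → G/H'` with fibre `H'/H` (lead) -/

set_option backward.isDefEq.respectTransparency false
set_option backward.isDefEq.respectTransparency.types false
set_option linter.unusedSimpArgs false
set_option linter.unusedVariables false
set_option linter.unusedSectionVars false
set_option linter.style.longLine false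
set_option linter.style.haveILetI false
set_option maxHeartbeats 800000

universe u

open CategoryTheory CategoryTheory.Limits MonoidalCategory CartesianMonoidalCategory MonObj GrpObj
  AlgebraicGeometry Opposite Topology

namespace Groth.Agent.Lib.HomogTower

open Groth.Agent.Lib.AssocBundle Groth.Agent.Lib.BalProdFix Groth.Agent.Lib.TorsorProp_helper7
  SchFpqcCovH7

variable {S : Scheme.{u}}

section quot

variable {G H X : Over S} [GrpObj G] (i : H ⟶ G) (π : G ⟶ X)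
  (sq : IsPullback (fst G H) ((G ◁ i) ≫ μ[G]) π π)

theorem mulr_pt {T : Over S} (g : T ⟶ G) (h : T ⟶ H) :
    lift g h ≫ (G ◁ i) ≫ μ[G] = g * (h ≫ i) := by
  rw [lift_whiskerLeft_assoc, Hom.mul_def]

include sq in
theorem inv_pt {T : Over S} (g : T ⟶ G) (h : T ⟶ H) : (g * (h ≫ i)) ≫ π = g ≫ π := by
  have h1 := sq.w
  calc (g * (h ≫ i)) ≫ π = (lift g h ≫ (G ◁ i) ≫ μ[G]) ≫ π := by rw [mulr_pt]
    _ = lift g h ≫ ((G ◁ i) ≫ μ[G]) ≫ π := by rw [Category.assoc]
    _ = lift g h ≫ fst G H ≫ π := by rw [← h1]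
    _ = g ≫ π := by rw [← Category.assoc, lift_fst]

include sq in
theorem diff_pt {T : Over S} (g₁ g₂ : T ⟶ G) (e : g₁ ≫ π = g₂ ≫ π) :
    ∃ h : T ⟶ H, g₂ = g₁ * (h ≫ i) := by
  obtain ⟨z, h1, h2⟩ : ∃ z : T ⟶ G ⊗ H, z ≫ fst G H = g₁ ∧ z ≫ ((G ◁ i) ≫ μ[G]) = g₂ :=
    ⟨sq.lift g₁ g₂ e, sq.lift_fst g₁ g₂ e, sq.lift_snd g₁ g₂ e⟩
  refine ⟨z ≫ snd G H, ?_⟩
  have hz : lift g₁ (z ≫ snd G H) = z := by
    apply CartesianMonoidalCategory.hom_ext
    · rw [lift_fst, h1]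
    · rw [lift_snd]
  rw [← mulr_pt, hz, h2]

end quot

section general

variable {G H H' X X' Y : Over S} [GrpObj G] [GrpObj H] [GrpObj H']
  (i : H ⟶ G) (i' : H' ⟶ G) [IsMonHom i'] [Mono i'] (l : H ⟶ H') (hl : l ≫ i' = i)
  (π : G ⟶ X) (π' : G ⟶ X') (ρ : H' ⟶ Y)
  (sqX : IsPullback (fst G H) ((G ◁ i) ≫ μ[G]) π π)
  (sqX' : IsPullback (fst G H') ((G ◁ i') ≫ μ[G]) π' π')
  (sqY : IsPullback (fst H' H) ((H' ◁ l) ≫ μ[H']) ρ ρ)
  (qbar : X ⟶ X') (hq : π ≫ qbar = π')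

/-- `(g, h') ↦ π(g i'(h'))` -/
noncomputable def mt : G ⊗ H' ⟶ X := ((G ◁ i') ≫ μ[G]) ≫ π

theorem mt_pt {T : Over S} (g : T ⟶ G) (h' : T ⟶ H') :
    lift g h' ≫ mt i' π = (g * (h' ≫ i')) ≫ π := by
  unfold mt
  rw [← Category.assoc, mulr_pt]

theorem mt_eta {T : Over S} (a : T ⟶ G ⊗ H') :
    a ≫ mt i' π = ((a ≫ fst G H') * ((a ≫ snd G H') ≫ i')) ≫ π := by
  have := mt_pt i' π (a ≫ fst G H') (a ≫ snd G H')
  rwa [← lift_eta a] at this

include hl sqX sqY in
theorem mt_coeq {T : Over S} (a₁ a₂ : T ⟶ G ⊗ H') (h : a₁ ≫ (G ◁ ρ) = a₂ ≫ (G ◁ ρ)) :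
    a₁ ≫ mt i' π = a₂ ≫ mt i' π := by
  have e1 : a₁ ≫ fst G H' = a₂ ≫ fst G H' := by
    have := congrArg (· ≫ fst G Y) h
    simpa only [Category.assoc, whiskerLeft_fst] using this
  have e2 : (a₁ ≫ snd G H') ≫ ρ = (a₂ ≫ snd G H') ≫ ρ := by
    have := congrArg (· ≫ snd G Y) h
    simpa only [Category.assoc, whiskerLeft_snd] using this
  obtain ⟨h₀, hh⟩ := diff_pt l ρ sqY _ _ e2
  have e3 : ((a₁ ≫ snd G H') * (h₀ ≫ l)) ≫ i' = ((a₁ ≫ snd G H') ≫ i') * (h₀ ≫ i) := by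
    rw [MonObj.mul_comp, Category.assoc h₀ l i', hl]
  rw [mt_eta, mt_eta, ← e1, hh, e3, ← _root_.mul_assoc, inv_pt i π sqX]

include hl sqX sqX' sqY hq in
/-- the cartesian square `G × (H'/H) ≅ G ×_{G/H'} G/H` -/
theorem exists_cart (hπ : IsCov π.left) (hρ : IsCov ρ.left) :
    ∃ m : G ⊗ Y ⟶ X, IsPullback (fst G Y) m π' qbar := by
  have hcov : IsCov (G ◁ ρ).left := isCov_whiskerLeft G ρ hρ
  haveI : Epi (G ◁ ρ) := epi_of_isCov _ hcov
  obtain ⟨m, hm⟩ := desc_of_isCov (G ◁ ρ) hcov (mt i' π)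
    (fun T a₁ a₂ h => mt_coeq i i' l hl π ρ sqX sqY a₁ a₂ h)
  refine ⟨m, ?_⟩
  have m_pt : ∀ {T : Over S} (g : T ⟶ G) (h' : T ⟶ H'),
      lift g (h' ≫ ρ) ≫ m = (g * (h' ≫ i')) ≫ π := by
    intro T g h'
    rw [← mt_pt, ← hm, ← Category.assoc, lift_whiskerLeft]
  obtain ⟨M, hMdef⟩ : ∃ M : G ⊗ Y ⟶ G ⊗ X, M = lift (fst G Y) m := ⟨_, rfl⟩
  have hMfst : M ≫ fst G X = fst G Y := by rw [hMdef, lift_fst]
  have hMsnd : M ≫ snd G X = m := by rw [hMdef, lift_snd]
  have hGM : (G ◁ ρ) ≫ M = lift (fst G H') (mt i' π) := by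
    rw [hMdef, comp_lift, whiskerLeft_fst, hm]
  have hM : Mono M := by
    apply mono_of_local (G ◁ ρ) hcov M
    intro T p₁ p₂ hp
    rw [hGM, comp_lift, comp_lift] at hp
    have hp1 : p₁ ≫ fst G H' = p₂ ≫ fst G H' := by
      have := congrArg (· ≫ fst G X) hp
      simpa only [lift_fst] using this
    have hp2 : p₁ ≫ mt i' π = p₂ ≫ mt i' π := by
      have := congrArg (· ≫ snd G X) hp
      simpa only [lift_snd] using this
    rw [mt_eta, mt_eta, ← hp1] at hp2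
    obtain ⟨h₀, hh⟩ := diff_pt i π sqX _ _ hp2
    rw [_root_.mul_assoc] at hh
    have hh' := _root_.mul_left_cancel hh
    have e4 : ((p₁ ≫ snd G H') ≫ i') * (h₀ ≫ i) = ((p₁ ≫ snd G H') * (h₀ ≫ l)) ≫ i' := by
      rw [MonObj.mul_comp, Category.assoc h₀ l i', hl]
    rw [e4] at hh'
    have hh'' : p₂ ≫ snd G H' = (p₁ ≫ snd G H') * (h₀ ≫ l) := (cancel_mono i').1 hh'
    have e5 : (p₂ ≫ snd G H') ≫ ρ = (p₁ ≫ snd G H') ≫ ρ := by
      rw [hh'', inv_pt l ρ sqY]
    apply CartesianMonoidalCategory.hom_ext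
    · rw [Category.assoc, Category.assoc, whiskerLeft_fst, hp1]
    · rw [Category.assoc, Category.assoc, whiskerLeft_snd, ← Category.assoc, ← Category.assoc, e5]
  apply isPullback_of_exists_unique
  · rw [← cancel_epi (G ◁ ρ)]
    calc (G ◁ ρ) ≫ fst G Y ≫ π' = fst G H' ≫ π' := by rw [← Category.assoc, whiskerLeft_fst]
      _ = ((G ◁ i') ≫ μ[G]) ≫ π' := sqX'.w
      _ = ((G ◁ i') ≫ μ[G]) ≫ π ≫ qbar := by rw [hq]
      _ = mt i' π ≫ qbar := by unfold mt; simp only [Category.assoc]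
      _ = (G ◁ ρ) ≫ m ≫ qbar := by rw [← hm, Category.assoc]
  · intro T g x hgx
    obtain ⟨T₁, c, g₁, hc, e⟩ := exists_lift_cov π hπ x
    have e' : (c ≫ g) ≫ π' = g₁ ≫ π' := by
      rw [Category.assoc, hgx, ← Category.assoc, e, Category.assoc, hq]
    obtain ⟨h', hh'⟩ := diff_pt i' π' sqX' _ _ e'
    have hy₁ : lift (c ≫ g) (h' ≫ ρ) ≫ M = c ≫ lift g x := by
      rw [hMdef, comp_lift, comp_lift, lift_fst, m_pt, ← hh', ← e]
    obtain ⟨y', hy'⟩ := factors_of_local M c hc (lift g x) _ hy₁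
    refine ⟨y', ?_, ?_⟩
    · rw [← hMfst, ← Category.assoc, hy', lift_fst]
    · rw [← hMsnd, ← Category.assoc, hy', lift_snd]
  · intro T t t' h1 h2
    rw [← cancel_mono M]
    apply CartesianMonoidalCategory.hom_ext
    · rw [Category.assoc, Category.assoc, hMfst, h1]
    · rw [Category.assoc, Category.assoc, hMsnd, h2]

end general

section field

theorem main (k : Type u) [Field k]
    (G H H' : Over (Spec (CommRingCat.of k))) [GrpObj G] [GrpObj H] [GrpObj H']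
    [QuasiCompact G.hom] [QuasiCompact H'.hom]
    (i : H ⟶ G) (i' : H' ⟶ G) [IsMonHom i'] [IsClosedImmersion i'.left]
    (l : H ⟶ H') (hl : l ≫ i' = i)
    (X : Over (Spec (CommRingCat.of k))) (a : AlgGrp.Action G X) (o : 𝟙_ _ ⟶ X) (hX : AGF.IsQuotient i X a o)
    (X' : Over (Spec (CommRingCat.of k))) (a' : AlgGrp.Action G X') (o' : 𝟙_ _ ⟶ X') (hX' : AGF.IsQuotient i' X' a' o')
    (Y : Over (Spec (CommRingCat.of k))) (b : AlgGrp.Action H' Y) (y : 𝟙_ _ ⟶ Y) (hY : AGF.IsQuotient l Y b y)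
    (qbar : X ⟶ X') (hq : a.orbitMap o ≫ qbar = a'.orbitMap o') :
    (Flat qbar.left ∧ Surjective qbar.left) ∧ (Smooth Y.hom → Smooth qbar.left) ∧
      (IsFinite Y.hom → IsFinite qbar.left ∧ Flat qbar.left) := by
  obtain ⟨hXl, hXf, hXs, sqX⟩ := hX
  obtain ⟨hXl', hXf', hXs', sqX'⟩ := hX'
  obtain ⟨hYl, hYf, hYs, sqY⟩ := hY
  haveI := hXl; haveI := hXf; haveI := hXs
  haveI := hXl'; haveI := hXf'; haveI := hXs'
  haveI := hYl; haveI := hYf; haveI := hYs
  haveI : IsNoetherianRing (CommRingCat.of k) := inferInstanceAs (IsNoetherianRing k)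
  haveI : IsLocallyNoetherian X.left := LocallyOfFiniteType.isLocallyNoetherian X.hom
  haveI : IsLocallyNoetherian X'.left := LocallyOfFiniteType.isLocallyNoetherian X'.hom
  haveI : IsLocallyNoetherian Y.left := LocallyOfFiniteType.isLocallyNoetherian Y.hom
  haveI : CompactSpace G.left := QuasiCompact.compactSpace_of_compactSpace G.hom
  haveI : CompactSpace H'.left := QuasiCompact.compactSpace_of_compactSpace H'.hom
  haveI : QuasiCompact (a.orbitMap o).left := quasiCompact_of_compactSpace _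
  haveI : QuasiCompact (a'.orbitMap o').left := quasiCompact_of_compactSpace _
  haveI : QuasiCompact (b.orbitMap y).left := quasiCompact_of_compactSpace _
  have hπ : IsCov (a.orbitMap o).left := isCov_of_flat _
  have hρ : IsCov (b.orbitMap y).left := isCov_of_flat _
  haveI : Mono i' := (Over.forget _).mono_of_mono_map (by exact inferInstanceAs (Mono i'.left))
  obtain ⟨m, sq⟩ := exists_cart i i' l hl (a.orbitMap o) (a'.orbitMap o') (b.orbitMap y)
    sqX sqX' sqY qbar hq hπ hρ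
  have sqS : IsPullback (fst G Y).left m.left (a'.orbitMap o').left qbar.left :=
    sq.map (Over.forget _)
  have hcov' : (@Surjective ⊓ @Flat ⊓ @QuasiCompact : MorphismProperty Scheme.{u})
      (a'.orbitMap o').left := ⟨⟨hXs', hXf'⟩, inferInstance⟩
  have hbc : IsPullback (snd G Y).left (fst G Y).left Y.hom G.hom :=
    (IsPullback.of_hasPullback G.hom Y.hom).flip
  have hl' : (a.orbitMap o).left ≫ qbar.left = (a'.orbitMap o').left :=
    congrArg (fun z => z.left) hq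
  haveI : Surjective ((a.orbitMap o).left ≫ qbar.left) := by rw [hl']; exact hXs'
  haveI : Flat ((a.orbitMap o).left ≫ qbar.left) := by rw [hl']; exact hXf'
  have hflat : Flat qbar.left := Groth.Agent.S1128.result (a.orbitMap o).left qbar.left
  refine ⟨⟨hflat, Surjective.of_comp (a.orbitMap o).left qbar.left⟩, ?_, ?_⟩
  · intro hsm
    exact MorphismProperty.of_isPullback_of_descendsAlong (P := @Smooth) sqS hcov'
      (MorphismProperty.of_isPullback (P := @Smooth) hbc hsm)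
  · intro hfin
    haveI := isFinite_descends.{u}
    exact ⟨MorphismProperty.of_isPullback_of_descendsAlong (P := @IsFinite) sqS hcov'
      (MorphismProperty.of_isPullback (P := @IsFinite) hbc hfin), hflat⟩

end field

end Groth.Agent.Lib.HomogTower
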