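import Groth.Agent.Lib.GenFlatSch2_helper8
import Groth.Agent.Lib.EtaleReduced_helper7
import Groth.Agent.Lib.ExtProps_lead
import Groth.Agent.Lib.HomogTower_lead

/-! # Equivariant surjections from a group onto a reduced scheme are flat (lead)

Generic flatness over a reduced base (helper8) + homogeneity (translation by T-points). -/

set_option backward.isDefEq.respectTransparency false
set_option backward.isDefEq.respectTransparency.types false
set_option linter.unusedSimpArgs false
set_option linter.unusedVariables false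
set_option linter.unusedSectionVars false
set_option linter.style.longLine false
set_option linter.style.haveILetI false
set_option maxHeartbeats 800000

universe u

open CategoryTheory CategoryTheory.Limits MonoidalCategory CartesianMonoidalCategory MonObj GrpObj
  AlgebraicGeometry Opposite Topology

namespace Groth.Agent.Lib.GenFlatHom

open Groth.Agent.Lib.AssocBundle Groth.Agent.Lib.IsogKernel Groth.Agent.Lib.HomogTower
  Groth.Agent.Lib.TorsorSeq

section general

variable {S : Scheme.{u}}

theorem isPullback_fst_snd (A B : Over S) :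
    IsPullback (fst A B) (snd A B) (toUnit A) (toUnit B) := by
  apply isPullback_of_exists_unique
  · exact toUnit_unique _ _
  · intro T a b _
    exact ⟨lift a b, lift_fst _ _, lift_snd _ _⟩
  · intro T l l' h1 h2
    exact CartesianMonoidalCategory.hom_ext _ _ h1 h2

variable {G X : Over S} [GrpObj G] (act : G ⊗ X ⟶ X)
  (hone : ∀ (T : Over S) (x : T ⟶ X), lift (1 : T ⟶ G) x ≫ act = x)
  (hmul : ∀ (T : Over S) (g h : T ⟶ G) (x : T ⟶ X),
      lift (g * h) x ≫ act = lift g (lift h x ≫ act) ≫ act)

include hone hmul in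
/-- `(g, x) ↦ (g, g · x)` is an automorphism of `G × X`: the action map is a projection -/
theorem isPullback_fst_act : IsPullback (fst G X) act (toUnit G) (toUnit X) := by
  apply isPullback_of_exists_unique
  · exact toUnit_unique _ _
  · intro T a b _
    refine ⟨lift a (lift a⁻¹ b ≫ act), lift_fst _ _, ?_⟩
    rw [← hmul, _root_.mul_inv_cancel, hone]
  · intro T l l' h1 h2
    have key : ∀ m : T ⟶ G ⊗ X,
        m ≫ snd G X = lift ((m ≫ fst G X)⁻¹) (m ≫ act) ≫ act := by
      intro m
      have hm : lift (m ≫ fst G X) (m ≫ snd G X) = m := lift_comp_fst_snd m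
      calc m ≫ snd G X = lift (1 : T ⟶ G) (m ≫ snd G X) ≫ act := (hone _ _).symm
        _ = lift ((m ≫ fst G X)⁻¹ * (m ≫ fst G X)) (m ≫ snd G X) ≫ act := by
            rw [_root_.inv_mul_cancel]
        _ = lift ((m ≫ fst G X)⁻¹) (lift (m ≫ fst G X) (m ≫ snd G X) ≫ act) ≫ act :=
            hmul _ _ _ _
        _ = lift ((m ≫ fst G X)⁻¹) (m ≫ act) ≫ act := by rw [hm]
    apply CartesianMonoidalCategory.hom_ext
    · exact h1
    · rw [key l, key l', h1, h2]

include hone hmul in
theorem prop_act (P : MorphismProperty Scheme.{u}) [P.IsStableUnderBaseChange] (h : P G.hom) :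
    P act.left := by
  have sq : IsPullback (fst G X).left act.left (toUnit G).left (toUnit X).left :=
    (isPullback_fst_act act hone hmul).map (Over.forget S)
  have h1 : P (toUnit G).left := by rw [Over.toUnit_left]; exact h
  exact P.of_isPullback sq h1

theorem prop_mu (P : MorphismProperty Scheme.{u}) [P.IsStableUnderBaseChange] (h : P G.hom) :
    P (μ[G]).left := by
  refine prop_act μ[G] ?_ ?_ P h
  · intro T x
    rw [← Hom.mul_def, _root_.one_mul]
  · intro T g h x
    simp only [← Hom.mul_def, _root_.mul_assoc]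

theorem orbit_pt (a : AlgGrp.Action G X) (x₀ : 𝟙_ (Over S) ⟶ X) {T : Over S} (g : T ⟶ G) :
    g ≫ a.orbitMap x₀ = lift g (toUnit T ≫ x₀) ≫ a.act := by
  unfold AlgGrp.Action.orbitMap
  rw [← Category.assoc, comp_lift, Category.comp_id, ← Category.assoc g (toUnit G) x₀,
    toUnit_unique (g ≫ toUnit G) (toUnit T)]

theorem orbit_mul (a : AlgGrp.Action G X) (x₀ : 𝟙_ (Over S) ⟶ X) {T : Over S} (g h : T ⟶ G) :
    (g * h) ≫ a.orbitMap x₀ = lift g (h ≫ a.orbitMap x₀) ≫ a.act := by
  rw [orbit_pt, orbit_pt, act_mul' a]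

end general

section field

variable {k : Type u} [Field k] {G X : Over (Spec (CommRingCat.of k))} [GrpObj G]
  (act : G ⊗ X ⟶ X)
  (hone : ∀ (T : Over (Spec (CommRingCat.of k))) (x : T ⟶ X), lift (1 : T ⟶ G) x ≫ act = x)
  (hmul : ∀ (T : Over (Spec (CommRingCat.of k))) (g h : T ⟶ G) (x : T ⟶ X),
      lift (g * h) x ≫ act = lift g (lift h x ≫ act) ≫ act)
  (π : G ⟶ X)
  (hπ : ∀ (T : Over (Spec (CommRingCat.of k))) (g h : T ⟶ G),
      (g * h) ≫ π = lift g (h ≫ π) ≫ act)

include hone hmul hπ in
/-- homogeneity: flatness on a nonempty open of `G` spreads out -/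
theorem flat_of_open (V : G.left.Opens) (hV : (V : Set G.left).Nonempty)
    (hflat : Flat (V.ι ≫ π.left)) : Flat π.left := by
  let Vo : Over (Spec (CommRingCat.of k)) := Over.mk (V.ι ≫ G.hom)
  let j : Vo ⟶ G := Over.homMk V.ι rfl
  haveI : IsOpenImmersion j.left := by
    show IsOpenImmersion V.ι
    infer_instance
  have hjπ : (j ≫ π).left = V.ι ≫ π.left := rfl
  haveI : Flat (j ≫ π).left := by rw [hjπ]; exact hflat
  let s : G ⊗ Vo ⟶ G := (G ◁ j) ≫ μ[G]
  have hs : s = fst G Vo * (snd G Vo ≫ j) := by
    have h := mulr_pt j (fst G Vo) (snd G Vo)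
    rwa [lift_fst_snd, Category.id_comp] at h
  haveI hG : Flat G.hom := inferInstance
  haveI hμ : Flat (μ[G]).left := prop_mu @Flat hG
  haveI : Flat s.left := by
    have e : s.left = (G ◁ j).left ≫ (μ[G]).left := rfl
    rw [e]; infer_instance
  haveI : Surjective s.left := by
    let θ : G ⊗ Vo ⟶ G ⊗ Vo := lift (fst G Vo * (snd G Vo ≫ j)⁻¹) (snd G Vo)
    have hθ : θ ≫ s = fst G Vo := by
      have h := mulr_pt j (fst G Vo * (snd G Vo ≫ j)⁻¹) (snd G Vo)
      rw [_root_.inv_mul_cancel_right] at h
      exact h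
    haveI : Subsingleton ↥(Spec (CommRingCat.of k)) :=
      inferInstanceAs (Subsingleton (PrimeSpectrum k))
    haveI : Surjective Vo.hom := ⟨fun p => by
      obtain ⟨v, hv⟩ := hV
      exact ⟨(⟨v, hv⟩ : ↥V), Subsingleton.elim _ _⟩⟩
    have sq : IsPullback (snd G Vo).left (fst G Vo).left (toUnit Vo).left (toUnit G).left :=
      ((isPullback_fst_snd G Vo).map (Over.forget _)).flip
    haveI : Surjective (fst G Vo).left := by
      refine MorphismProperty.of_isPullback (P := @Surjective) sq ?_
      rw [Over.toUnit_left]; infer_instance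
    haveI : Surjective (θ.left ≫ s.left) := by
      rw [← Over.comp_left, hθ]; infer_instance
    exact Surjective.of_comp θ.left s.left
  have hsπ : s ≫ π = (G ◁ (j ≫ π)) ≫ act := by
    rw [hs, hπ]
    congr 1
  haveI : Flat act.left := prop_act act hone hmul @Flat hG
  haveI : Flat (G ◁ (j ≫ π)).left :=
    MorphismProperty.of_isPullback (P := @Flat) (isPullback_whiskerLeft G (j ≫ π)).flip
      inferInstance
  haveI : Flat (s.left ≫ π.left) := by
    rw [← Over.comp_left, hsπ, Over.comp_left]; infer_instance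
  exact Groth.Agent.S1128.result s.left π.left

/-- a finite type `k`-scheme is noetherian -/
theorem isNoetherian_of_ft (G : Over (Spec (CommRingCat.of k))) [LocallyOfFiniteType G.hom]
    [QuasiCompact G.hom] : IsNoetherian G.left := by
  haveI : IsNoetherianRing (CommRingCat.of k) := inferInstanceAs (IsNoetherianRing k)
  haveI : IsLocallyNoetherian G.left := LocallyOfFiniteType.isLocallyNoetherian G.hom
  haveI : CompactSpace G.left := QuasiCompact.compactSpace_of_compactSpace G.hom
  exact {}

theorem lft_hom {A B : Over (Spec (CommRingCat.of k))} (f : A ⟶ B) [LocallyOfFiniteType A.hom] :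
    LocallyOfFiniteType f.left := by
  haveI : LocallyOfFiniteType (f.left ≫ B.hom) := by rw [Over.w f]; infer_instance
  exact locallyOfFiniteType_of_comp f.left B.hom

/-- generic flatness: flat on a nonempty open of the source -/
theorem exists_open_flat [LocallyOfFiniteType G.hom] [QuasiCompact G.hom]
    [IsReduced X.left] [Surjective π.left] (hne : Nonempty G.left) :
    ∃ V : G.left.Opens, (V : Set G.left).Nonempty ∧ Flat (V.ι ≫ π.left) := by
  haveI : IsNoetherian G.left := isNoetherian_of_ft G
  haveI : LocallyOfFiniteType π.left := lft_hom π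
  obtain ⟨U, hU, hflat, -⟩ := GenFlatSch2H8.generic_flat_fp π.left
  obtain ⟨g₀⟩ := hne
  haveI : Nonempty ↥X.left := ⟨π.left.base g₀⟩
  obtain ⟨x, hx⟩ : (U : Set X.left).Nonempty := hU.nonempty
  obtain ⟨g, hg⟩ := π.left.surjective x
  refine ⟨π.left ⁻¹ᵁ U, ⟨g, ?_⟩, ?_⟩
  · show π.left g ∈ U
    rw [hg]; exact hx
  · have e : (π.left ⁻¹ᵁ U).ι ≫ π.left = (π.left ∣_ U) ≫ U.ι := (morphismRestrict_ι π.left U).symm
    rw [e]
    infer_instance

include hone hmul hπ in
/-- **Main**: an equivariant surjection from a finite type `k`-group onto a reduced `k`-scheme is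
flat. -/
theorem flat_of_equivariant [LocallyOfFiniteType G.hom] [QuasiCompact G.hom]
    [IsReduced X.left] [Surjective π.left] : Flat π.left := by
  have hne : Nonempty G.left := by
    haveI : Nonempty ↥(Spec (CommRingCat.of k)) := inferInstance
    exact ⟨(η[G]).left.base (Classical.arbitrary ↥(Spec (CommRingCat.of k)))⟩
  obtain ⟨V, hV, hflat⟩ := exists_open_flat π hne
  exact flat_of_open act hone hmul π hπ V hV hflat

/-- a surjective homomorphism onto a reduced group is flat -/
theorem flat_hom {G H : Over (Spec (CommRingCat.of k))} [GrpObj G] [GrpObj H] (φ : G ⟶ H)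
    [IsMonHom φ] [LocallyOfFiniteType G.hom] [QuasiCompact G.hom] [IsReduced H.left]
    [Surjective φ.left] : Flat φ.left := by
  refine flat_of_equivariant ((φ ▷ H) ≫ μ[H]) ?_ ?_ φ ?_
  · intro T x
    rw [act_pt, MonObj.one_comp, _root_.one_mul]
  · intro T g h x
    rw [act_pt, act_pt, act_pt, MonObj.mul_comp, _root_.mul_assoc]
  · intro T g h
    rw [act_pt, MonObj.mul_comp]

/-- a surjective orbit map onto a reduced scheme is flat -/
theorem flat_orbit (a : AlgGrp.Action G X) (x₀ : 𝟙_ (Over (Spec (CommRingCat.of k))) ⟶ X)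
    [LocallyOfFiniteType G.hom] [QuasiCompact G.hom] [IsReduced X.left]
    [Surjective (a.orbitMap x₀).left] : Flat (a.orbitMap x₀).left :=
  flat_of_equivariant a.act (fun T x => act_one' a x) (fun T g h x => act_mul' a g h x)
    (a.orbitMap x₀) (fun T g h => orbit_mul a x₀ g h)

theorem isReduced_of_smooth (H : Over (Spec (CommRingCat.of k))) [Smooth H.hom] :
    IsReduced H.left := by
  haveI : _root_.IsReduced (CommRingCat.of k) := inferInstanceAs (_root_.IsReduced k)
  exact Groth.Agent.Lib.EtaleReduced_helper7.isReduced_of_smooth_scheme H.hom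

end field

end Groth.Agent.Lib.GenFlatHom
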