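import Mathlib

/-!
# The algebraic closure of `k` in a finitely generated field extension is finite (helper1)
-/

namespace Groth.Agent.Lib.AlgClosureFGH1

universe u

open IntermediateField
open scoped IntermediateField.algebraAdjoinAdjoin

theorem algClosure_finite {k K : Type u} [Field k] [Field K] [Algebra k K]
    (hfg : (⊤ : IntermediateField k K).FG) :
    FiniteDimensional k (algebraicClosure k K) := by
  classical
  have hess : Algebra.EssFiniteType k K := IntermediateField.fg_top_iff.mp hfg
  obtain ⟨s, hs⟩ := hfg
  have : Algebra.IsAlgebraic (Algebra.adjoin k (s : Set K)) K := by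
    rw [← isAlgebraic_adjoin_iff_top, hs, Algebra.isAlgebraic_iff_isIntegral]
    exact Algebra.isIntegral_of_surjective IntermediateField.topEquiv.surjective
  obtain ⟨t, hts, ht⟩ := exists_isTranscendenceBasis_subset (R := k) (s : Set K)
  have halg : Algebra.IsAlgebraic (IntermediateField.adjoin k t) K := by
    convert! ht.isAlgebraic_field <;> simp
  have hess2 : Algebra.EssFiniteType (IntermediateField.adjoin k t) K :=
    Algebra.EssFiniteType.of_comp k _ K
  have hfin : Module.Finite (IntermediateField.adjoin k t) K :=
    Algebra.finite_of_essFiniteType_of_isAlgebraic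
  have hx' : AlgebraicIndependent (algebraicClosure k K) ((↑) : t → K) := ht.1.algebraicClosure
  have key : ∀ (S : Finset (algebraicClosure k K)),
      LinearIndependent k (fun i : S => (i : algebraicClosure k K)) →
      LinearIndependent (IntermediateField.adjoin k t) (fun i : S => ((i : algebraicClosure k K) : K)) := by
    intro S hc
    rw [← LinearIndependent.iff_fractionRing (Algebra.adjoin k t) (IntermediateField.adjoin k t)]
    rw [Fintype.linearIndependent_iff]
    intro g hg
    have hP : ∀ i, ∃ P : MvPolynomial t k, MvPolynomial.aeval ((↑) : t → K) P = (g i : K) := by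
      intro i
      have h5 : ∀ y : K, y ∈ Algebra.adjoin k t →
          ∃ P : MvPolynomial t k, MvPolynomial.aeval ((↑) : t → K) P = y := by
        intro y hy
        rw [Algebra.adjoin_eq_range] at hy
        exact hy
      exact h5 _ (g i).2
    choose P hP using hP
    let Q : MvPolynomial t (algebraicClosure k K) :=
      ∑ i : S, MvPolynomial.C (i : algebraicClosure k K) *
        MvPolynomial.map (algebraMap k (algebraicClosure k K)) (P i)
    have hQ : MvPolynomial.aeval ((↑) : t → K) Q = 0 := by
      simp only [Q, map_sum, map_mul, MvPolynomial.aeval_C, MvPolynomial.aeval_map_algebraMap, hP]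
      rw [← hg]
      refine Finset.sum_congr rfl fun i _ => ?_
      rw [Subalgebra.smul_def, smul_eq_mul, mul_comm]
      rfl
    have hQ0 : Q = 0 := by
      apply hx'
      rw [hQ, map_zero]
    have hP0 : ∀ i, P i = 0 := by
      have hcoef : ∀ α, ∑ i : S, (MvPolynomial.coeff α (P i)) • (i : algebraicClosure k K) = 0 := by
        intro α
        have h3 := congrArg (MvPolynomial.coeff α) hQ0
        simp only [Q, MvPolynomial.coeff_sum, MvPolynomial.coeff_C_mul, MvPolynomial.coeff_map,
          MvPolynomial.coeff_zero] at h3
        rw [← h3]
        refine Finset.sum_congr rfl fun i _ => ?_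
        rw [Algebra.smul_def, mul_comm]
      intro i
      ext α
      exact (Fintype.linearIndependent_iff.mp hc) (fun i => MvPolynomial.coeff α (P i)) (hcoef α) i
    intro i
    apply Subtype.ext
    rw [← hP i, hP0 i, map_zero]
    rfl
  have hrank : Module.rank k (algebraicClosure k K) ≤
      (Module.finrank (IntermediateField.adjoin k t) K : ℕ) := by
    apply rank_le
    intro S hS
    have h4 := (key S hS).fintype_card_le_finrank
    simpa using h4
  exact Module.rank_lt_aleph0_iff.mp (hrank.trans_lt Cardinal.natCast_lt_aleph0)

end Groth.Agent.Lib.AlgClosureFGH1
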