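import Mathlib

/-!
# Étale algebras over normal domains are normal (helper4)

Built on Mathlib's `TensorProduct.toIntegralClosure_bijective_of_smooth` (smooth base change
commutes with integral closure).
-/

universe u

set_option linter.style.haveILetI false

open TensorProduct

namespace Groth.Agent.Lib.EtNormalH4

section Core

variable {A B S : Type u} [CommRing A] [IsDomain A] [IsIntegrallyClosed A]
  [CommRing B] [Algebra A B]
  [CommRing S] [Algebra B S] [Algebra A S] [IsScalarTower A B S]

/-- A localization `S` of a smooth algebra `B` over an integrally closed domain `A` is integrally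
closed in `S ⊗[A] Frac A`. -/
theorem exists_of_isIntegral [Algebra.Smooth A B] (M : Submonoid B) [IsLocalization M S]
    (z : S ⊗[A] FractionRing A) (hz : IsIntegral S z) :
    ∃ s : S, algebraMap S (S ⊗[A] FractionRing A) s = z := by
  have hbij : Function.Bijective (TensorProduct.toIntegralClosure A S (FractionRing A)) :=
    TensorProduct.toIntegralClosure_bijective_of_tower (S := B) (T := S)
      TensorProduct.toIntegralClosure_bijective_of_smooth
      (TensorProduct.toIntegralClosure_bijective_of_isLocalization M)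
  obtain ⟨t, ht⟩ := hbij.2 ⟨z, hz⟩
  have key : ∀ t : S ⊗[A] integralClosure A (FractionRing A),
      ∃ s : S, algebraMap S (S ⊗[A] FractionRing A) s =
        ((TensorProduct.toIntegralClosure A S (FractionRing A) t :
          integralClosure S (S ⊗[A] FractionRing A)) : S ⊗[A] FractionRing A) := by
    intro t
    induction t using TensorProduct.induction_on with
    | zero => exact ⟨0, by simp⟩
    | tmul s k =>
      obtain ⟨k, hk⟩ := k
      obtain ⟨a, rfl⟩ := IsIntegrallyClosed.isIntegral_iff.mp hk
      refine ⟨a • s, ?_⟩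
      have h1 : ((TensorProduct.toIntegralClosure A S (FractionRing A)
          (s ⊗ₜ[A] (⟨algebraMap A (FractionRing A) a, hk⟩ : integralClosure A (FractionRing A))) :
          integralClosure S (S ⊗[A] FractionRing A)) : S ⊗[A] FractionRing A) =
          s ⊗ₜ[A] (algebraMap A (FractionRing A) a) := by
        simp [TensorProduct.toIntegralClosure]
      rw [h1, Algebra.TensorProduct.algebraMap_apply, Algebra.algebraMap_eq_smul_one a,
        TensorProduct.tmul_smul, TensorProduct.smul_tmul']
      simp
    | add x y hx hy =>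
      obtain ⟨sx, hsx⟩ := hx
      obtain ⟨sy, hsy⟩ := hy
      exact ⟨sx + sy, by rw [map_add, map_add, hsx, hsy]; rfl⟩
  obtain ⟨s, hs⟩ := key t
  exact ⟨s, by rw [hs, ht]⟩

/-- For a local ring `S` which is a localization of an étale algebra over an integrally closed
domain `A`, the ring `S ⊗[A] Frac A` is a field. -/
theorem isField_tensor [Algebra.Etale A B] (M : Submonoid B) [IsLocalization M S] [IsLocalRing S] :
    IsField (S ⊗[A] FractionRing A) := by
  classical
  haveI : Module.Flat B S := IsLocalization.flat S M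
  haveI : Module.Flat A S := Module.Flat.trans A B S
  have hinj : Function.Injective (algebraMap S (S ⊗[A] FractionRing A)) :=
    Algebra.TensorProduct.includeLeft_injective (S := S) (IsFractionRing.injective A (FractionRing A))
  -- `T = B ⊗ K` is Artinian and reduced
  haveI : Module.Finite (FractionRing A) (FractionRing A ⊗[A] B) :=
    Algebra.FormallyUnramified.finite_of_free (FractionRing A) (FractionRing A ⊗[A] B)
  haveI : IsArtinianRing (FractionRing A ⊗[A] B) := IsArtinianRing.of_finite (FractionRing A) _
  haveI : IsReduced (FractionRing A ⊗[A] B) :=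
    Algebra.FormallyUnramified.isReduced_of_field (FractionRing A) (FractionRing A ⊗[A] B)
  let e : B ⊗[A] FractionRing A ≃ₐ[A] FractionRing A ⊗[A] B :=
    Algebra.TensorProduct.comm A B (FractionRing A)
  haveI : IsArtinianRing (B ⊗[A] FractionRing A) :=
    Function.Surjective.isArtinianRing (f := (e.symm : FractionRing A ⊗[A] B →+* B ⊗[A] FractionRing A))
      e.symm.surjective
  haveI : IsReduced (B ⊗[A] FractionRing A) := isReduced_of_injective e e.injective
  -- `L = S ⊗ K` is a localization of `T`
  letI : Algebra (B ⊗[A] FractionRing A) (S ⊗[A] FractionRing A) :=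
    (Algebra.TensorProduct.map (IsScalarTower.toAlgHom A B S)
      (AlgHom.id A (FractionRing A))).toRingHom.toAlgebra
  have hcomp : algebraMap B (S ⊗[A] FractionRing A) =
      (algebraMap (B ⊗[A] FractionRing A) (S ⊗[A] FractionRing A)).comp
        (algebraMap B (B ⊗[A] FractionRing A)) := by
    ext b
    simp [RingHom.algebraMap_toAlgebra, Algebra.TensorProduct.algebraMap_apply]
  haveI : IsScalarTower B (B ⊗[A] FractionRing A) (S ⊗[A] FractionRing A) :=
    IsScalarTower.of_algebraMap_eq' hcomp
  haveI : IsLocalization (Algebra.algebraMapSubmonoid (B ⊗[A] FractionRing A) M)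
      (S ⊗[A] FractionRing A) :=
    IsLocalization.tensorProduct_tensorProduct A (FractionRing A) M S
      (by ext; simp [RingHom.algebraMap_toAlgebra])
  haveI : IsArtinianRing (S ⊗[A] FractionRing A) :=
    IsArtinianRing.localization_artinian
      (Algebra.algebraMapSubmonoid (B ⊗[A] FractionRing A) M) (S ⊗[A] FractionRing A)
  haveI : IsReduced (S ⊗[A] FractionRing A) :=
    isReduced_localizationPreserves
      (Algebra.algebraMapSubmonoid (B ⊗[A] FractionRing A) M) (S ⊗[A] FractionRing A) inferInstance
  haveI : Nontrivial (S ⊗[A] FractionRing A) := hinj.nontrivial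
  -- `L` is local, by the idempotent argument
  have hsub : ∀ I J : MaximalSpectrum (S ⊗[A] FractionRing A), I = J := by
    intro I J
    by_contra hIJ
    let φ := IsArtinianRing.equivPi (S ⊗[A] FractionRing A)
    let v : ∀ I : MaximalSpectrum (S ⊗[A] FractionRing A),
      (S ⊗[A] FractionRing A) ⧸ I.asIdeal := Pi.single I 1
    have hv : v * v = v := by
      ext i
      by_cases h : i = I
      · subst h; simp [v]
      · simp [v, Pi.single_eq_of_ne h]
    let ε := φ.symm v
    have hε : ε * ε = ε := by rw [← map_mul, hv]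
    have hint : IsIntegral S ε :=
      ⟨Polynomial.X ^ 2 - Polynomial.X, Polynomial.monic_X_pow_sub (by simp), by
        simp [pow_two, hε]⟩
    obtain ⟨s, hs⟩ := exists_of_isIntegral M ε hint
    have hss : s * s = s := hinj (by rw [map_mul, hs, hε])
    have h0 : s * (1 - s) = 0 := by rw [mul_sub, mul_one, hss, sub_self]
    haveI hJ : Nontrivial ((S ⊗[A] FractionRing A) ⧸ J.asIdeal) :=
      Ideal.Quotient.nontrivial_iff.mpr J.isMaximal.ne_top
    haveI hI : Nontrivial ((S ⊗[A] FractionRing A) ⧸ I.asIdeal) :=
      Ideal.Quotient.nontrivial_iff.mpr I.isMaximal.ne_top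
    have hφε : φ ε = v := φ.apply_symm_apply v
    rcases IsLocalRing.isUnit_or_isUnit_one_sub_self s with h | h
    · have h1 : 1 - s = 0 := (h.mul_right_eq_zero).mp h0
      have hs1 : s = 1 := (sub_eq_zero.mp h1).symm
      have : ε = 1 := by rw [← hs, hs1, map_one]
      have hv1 : v = 1 := by rw [← hφε, this, map_one]
      have : v J = 1 := by rw [hv1]; rfl
      have hvJ : v J = 0 := Pi.single_eq_of_ne (fun h => hIJ h.symm) 1
      rw [hvJ] at this
      exact zero_ne_one this
    · have hs0 : s = 0 := (h.mul_left_eq_zero).mp h0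
      have : ε = 0 := by rw [← hs, hs0, map_zero]
      have hv0 : v = 0 := by rw [← hφε, this, map_zero]
      have : v I = 0 := by rw [hv0]; rfl
      have hvI : v I = 1 := Pi.single_eq_same I 1
      rw [hvI] at this
      exact one_ne_zero this
  obtain ⟨m, hm⟩ := Ideal.exists_maximal (S ⊗[A] FractionRing A)
  haveI : IsLocalRing (S ⊗[A] FractionRing A) :=
    IsLocalRing.of_unique_max_ideal ⟨m, hm, fun m' hm' =>
      congrArg MaximalSpectrum.asIdeal (hsub ⟨m', hm'⟩ ⟨m, hm⟩)⟩
  exact IsArtinianRing.isField_of_isReduced_of_isLocalRing (S ⊗[A] FractionRing A)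

/-- A local ring which is a localization of an étale algebra over an integrally closed domain is an
integrally closed domain. -/
theorem isDomain_and_isIntegrallyClosed [Algebra.Etale A B] (M : Submonoid B) [IsLocalization M S]
    [IsLocalRing S] : IsDomain S ∧ IsIntegrallyClosed S := by
  have hF : IsField (S ⊗[A] FractionRing A) := isField_tensor (A := A) (B := B) M
  haveI : Module.Flat B S := IsLocalization.flat S M
  haveI : Module.Flat A S := Module.Flat.trans A B S
  have hinj : Function.Injective (algebraMap S (S ⊗[A] FractionRing A)) :=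
    Algebra.TensorProduct.includeLeft_injective (S := S) (IsFractionRing.injective A (FractionRing A))
  haveI : IsDomain (S ⊗[A] FractionRing A) := hF.isDomain
  haveI : IsDomain S := hinj.isDomain (algebraMap S (S ⊗[A] FractionRing A))
  refine ⟨inferInstance, ?_⟩
  haveI hloc : IsLocalization (Algebra.algebraMapSubmonoid S (nonZeroDivisors A))
      (S ⊗[A] FractionRing A) := inferInstance
  haveI : IsFractionRing S (S ⊗[A] FractionRing A) := by
    refine IsLocalization.of_le (M := Algebra.algebraMapSubmonoid S (nonZeroDivisors A))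
      (nonZeroDivisors S) ?_ ?_
    · rintro _ ⟨a, ha, rfl⟩
      have ha0 : a ≠ 0 := nonZeroDivisors.ne_zero ha
      have : algebraMap A S a ≠ 0 := by
        intro h0
        have h1 : algebraMap S (S ⊗[A] FractionRing A) (algebraMap A S a) = 0 := by
          rw [h0, map_zero]
        have hu := IsLocalization.map_units (S ⊗[A] FractionRing A)
          (⟨algebraMap A S a, ⟨a, ha, rfl⟩⟩ : Algebra.algebraMapSubmonoid S (nonZeroDivisors A))
        rw [h1] at hu
        exact not_isUnit_zero hu
      exact mem_nonZeroDivisors_of_ne_zero this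
    · intro r hr
      have hr0 : r ≠ 0 := nonZeroDivisors.ne_zero hr
      have : algebraMap S (S ⊗[A] FractionRing A) r ≠ 0 := fun h =>
        hr0 (hinj (by rw [h, map_zero]))
      obtain ⟨w, hw⟩ := hF.mul_inv_cancel this
      exact IsUnit.of_mul_eq_one _ hw
  rw [isIntegrallyClosed_iff_isIntegrallyClosedIn (S ⊗[A] FractionRing A), isIntegrallyClosedIn_iff]
  exact ⟨hinj, fun {x} hx => exists_of_isIntegral M x hx⟩

end Core

section BaseChange

attribute [local instance] Algebra.TensorProduct.rightAlgebra

/-- Let `R → B` be étale, `q` a prime of `B`, and `A` a localization of `R` which is an integrally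
closed domain and through which `R → B_q` factors. Then `B_q` is an integrally closed domain. -/
theorem normal_of_etale {R B : Type u} [CommRing R] [CommRing B] [Algebra R B] [Algebra.Etale R B]
    (q : Ideal B) [q.IsPrime] (Bq : Type u) [CommRing Bq] [Algebra B Bq]
    [IsLocalization.AtPrime Bq q]
    (M : Submonoid R) (A : Type u) [CommRing A] [Algebra R A] [IsLocalization M A] [IsDomain A]
    [IsIntegrallyClosed A] [Algebra A Bq] [Algebra R Bq] [IsScalarTower R A Bq]
    [IsScalarTower R B Bq] : IsDomain Bq ∧ IsIntegrallyClosed Bq := by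
  haveI : IsLocalization (Algebra.algebraMapSubmonoid B M) (A ⊗[R] B) :=
    IsLocalization.tensorRight (R := R) (S := B) A M
  let ψ : A ⊗[R] B →ₐ[A] Bq :=
    Algebra.TensorProduct.lift (Algebra.ofId A Bq) (IsScalarTower.toAlgHom R B Bq)
      (fun _ _ => Commute.all _ _)
  letI : Algebra (A ⊗[R] B) Bq := ψ.toRingHom.toAlgebra
  haveI : IsScalarTower A (A ⊗[R] B) Bq :=
    IsScalarTower.of_algebraMap_eq' (by
      ext a
      simp [RingHom.algebraMap_toAlgebra, ψ, Algebra.TensorProduct.algebraMap_apply,
        Algebra.ofId_apply])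
  have hcompB : algebraMap B Bq = (algebraMap (A ⊗[R] B) Bq).comp (algebraMap B (A ⊗[R] B)) := by
    ext b
    simp [RingHom.algebraMap_toAlgebra, ψ]
  haveI : IsScalarTower B (A ⊗[R] B) Bq := IsScalarTower.of_algebraMap_eq' hcompB
  have hle : Algebra.algebraMapSubmonoid B M ≤ q.primeCompl := by
    rintro _ ⟨r, hr, rfl⟩
    rw [← IsLocalization.AtPrime.isUnit_to_map_iff Bq q]
    have h1 : algebraMap B Bq (algebraMap R B r) = algebraMap A Bq (algebraMap R A r) := by
      rw [← IsScalarTower.algebraMap_apply, ← IsScalarTower.algebraMap_apply]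
    rw [h1]
    exact (IsLocalization.map_units A ⟨r, hr⟩).map _
  haveI : IsLocalization (q.primeCompl.map (algebraMap B (A ⊗[R] B))) Bq :=
    IsLocalization.isLocalization_of_submonoid_le (A ⊗[R] B) Bq
      (Algebra.algebraMapSubmonoid B M) q.primeCompl hle
  haveI : IsLocalRing Bq := IsLocalization.AtPrime.isLocalRing Bq q
  exact isDomain_and_isIntegrallyClosed (A := A) (B := A ⊗[R] B) (S := Bq)
    (q.primeCompl.map (algebraMap B (A ⊗[R] B)))

end BaseChange

/-- Normality descends along faithfully flat ring maps. -/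
theorem isDomain_and_isIntegrallyClosed_of_faithfullyFlat {A S : Type u} [CommRing A] [CommRing S]
    [Algebra A S] [Module.FaithfullyFlat A S] [IsDomain S] [IsIntegrallyClosed S] :
    IsDomain A ∧ IsIntegrallyClosed A := by
  have hinj : Function.Injective (algebraMap A S) := FaithfulSMul.algebraMap_injective A S
  haveI : IsDomain A := hinj.isDomain (algebraMap A S)
  refine ⟨inferInstance, ?_⟩
  rw [isIntegrallyClosed_iff (FractionRing A)]
  intro z hz
  let g : A →+* FractionRing S := (algebraMap S (FractionRing S)).comp (algebraMap A S)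
  have hg : Function.Injective g := (IsFractionRing.injective S (FractionRing S)).comp hinj
  let ι : FractionRing A →+* FractionRing S := IsFractionRing.lift hg
  have hι : ∀ a : A, ι (algebraMap A (FractionRing A) a) = g a := fun a =>
    IsFractionRing.lift_algebraMap hg a
  -- `ι z` is integral over `S`
  have hιz : IsIntegral S (ι z) := by
    obtain ⟨p, hp, hpz⟩ := hz
    refine ⟨p.map (algebraMap A S), hp.map _, ?_⟩
    rw [Polynomial.eval₂_map]
    have : (algebraMap S (FractionRing S)).comp (algebraMap A S) =
        ι.comp (algebraMap A (FractionRing A)) := by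
      ext a; exact (hι a).symm
    rw [this, ← Polynomial.hom_eval₂, hpz, map_zero]
  obtain ⟨s, hs⟩ := (isIntegrallyClosed_iff (FractionRing S)).mp inferInstance hιz
  obtain ⟨⟨a, b⟩, hab⟩ := IsLocalization.surj (nonZeroDivisors A) z
  dsimp only at hab
  -- `s * b = a` in `S`
  have h1 : s * algebraMap A S b = algebraMap A S a := by
    apply IsFractionRing.injective S (FractionRing S)
    rw [map_mul, hs]
    have := congrArg ι hab
    rw [map_mul, hι, hι] at this
    exact this
  -- hence `a ∈ (b)`
  have h2 : a ∈ ((Ideal.span {(b : A)}).map (algebraMap A S)).comap (algebraMap A S) := by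
    rw [Ideal.mem_comap, ← h1]
    exact Ideal.mul_mem_left _ _ (Ideal.mem_map_of_mem _ (Ideal.mem_span_singleton_self _))
  rw [Ideal.comap_map_eq_self_of_faithfullyFlat, Ideal.mem_span_singleton'] at h2
  obtain ⟨c, hc⟩ := h2
  refine ⟨c, ?_⟩
  have hu : IsUnit (algebraMap A (FractionRing A) (b : A)) :=
    IsLocalization.map_units (FractionRing A) b
  apply hu.mul_left_injective
  dsimp only
  rw [hab, ← map_mul, hc]

open AlgebraicGeometry CategoryTheory in
/-- The local ring of the source of an étale morphism is a normal domain as soon as the local ring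
of the image point is. -/
theorem stalk_normal_of_etale {X Y : Scheme.{u}} (f : X ⟶ Y) [Etale f] (x : X)
    (h : IsDomain (Y.presheaf.stalk (f x)) ∧ IsIntegrallyClosed (Y.presheaf.stalk (f x))) :
    IsDomain (X.presheaf.stalk x) ∧ IsIntegrallyClosed (X.presheaf.stalk x) := by
  obtain ⟨hdom, hic⟩ := h
  obtain ⟨V, hV, hyV, -⟩ := AlgebraicGeometry.exists_isAffineOpen_mem_and_subset (X := Y) (x := f x) (U := ⊤) trivial
  obtain ⟨U, hU, hxU, hUV⟩ :=
    AlgebraicGeometry.exists_isAffineOpen_mem_and_subset (X := X) (x := x) (U := f ⁻¹ᵁ V) hyV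
  have e : U ≤ f ⁻¹ᵁ V := hUV
  have hφ : (f.appLE V U e).hom.Etale := f.etale_appLE hV hU e
  letI : Algebra Γ(Y, V) Γ(X, U) := (f.appLE V U e).hom.toAlgebra
  haveI : Algebra.Etale Γ(Y, V) Γ(X, U) := hφ
  letI := Y.presheaf.algebra_section_stalk ⟨f x, hyV⟩
  haveI := hV.isLocalization_stalk ⟨f x, hyV⟩
  letI := X.presheaf.algebra_section_stalk ⟨x, hxU⟩
  haveI := hU.isLocalization_stalk ⟨x, hxU⟩
  letI : Algebra (Y.presheaf.stalk (f x)) (X.presheaf.stalk x) := (f.stalkMap x).hom.toAlgebra
  letI : Algebra Γ(Y, V) (X.presheaf.stalk x) :=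
    ((algebraMap Γ(X, U) (X.presheaf.stalk x)).comp (algebraMap Γ(Y, V) Γ(X, U))).toAlgebra
  haveI : IsScalarTower Γ(Y, V) Γ(X, U) (X.presheaf.stalk x) :=
    IsScalarTower.of_algebraMap_eq (fun _ => rfl)
  haveI : IsScalarTower Γ(Y, V) (Y.presheaf.stalk (f x)) (X.presheaf.stalk x) := by
    refine IsScalarTower.of_algebraMap_eq (fun a => ?_)
    change X.presheaf.germ U x hxU (f.appLE V U e a) =
      f.stalkMap x (Y.presheaf.germ V (f x) hyV a)
    rw [Scheme.Hom.germ_stalkMap_apply, Scheme.Hom.appLE, CommRingCat.comp_apply,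
      TopCat.Presheaf.germ_res_apply]
  exact normal_of_etale (R := Γ(Y, V)) (B := Γ(X, U)) (hU.primeIdealOf ⟨x, hxU⟩).asIdeal
    (X.presheaf.stalk x) (hV.primeIdealOf ⟨f x, hyV⟩).asIdeal.primeCompl
    (Y.presheaf.stalk (f x))

open AlgebraicGeometry CategoryTheory in
/-- Conversely, normality of the local ring descends along a flat morphism. -/
theorem stalk_normal_of_flat {X Y : Scheme.{u}} (f : X ⟶ Y) [Flat f] (x : X)
    (h : IsDomain (X.presheaf.stalk x) ∧ IsIntegrallyClosed (X.presheaf.stalk x)) :
    IsDomain (Y.presheaf.stalk (f x)) ∧ IsIntegrallyClosed (Y.presheaf.stalk (f x)) := by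
  obtain ⟨hdom, hic⟩ := h
  letI : Algebra (Y.presheaf.stalk (f x)) (X.presheaf.stalk x) := (f.stalkMap x).hom.toAlgebra
  haveI : Module.FaithfullyFlat (Y.presheaf.stalk (f x)) (X.presheaf.stalk x) :=
    @Module.FaithfullyFlat.of_flat_of_isLocalHom _ _ _ _ _ _ _
      (Flat.stalkMap f x) (f.toLRSHom.prop x)
  exact isDomain_and_isIntegrallyClosed_of_faithfullyFlat (A := Y.presheaf.stalk (f x))
    (S := X.presheaf.stalk x)

open AlgebraicGeometry CategoryTheory in
theorem main0066 {X Y : Scheme.{u}} (f : X ⟶ Y) [AlgebraicGeometry.Etale f] (x : X) :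
    (IsDomain (X.presheaf.stalk x) ∧ IsIntegrallyClosed (X.presheaf.stalk x)) ↔
      (IsDomain (Y.presheaf.stalk (f.base x)) ∧
        IsIntegrallyClosed (Y.presheaf.stalk (f.base x))) :=
  ⟨fun h => stalk_normal_of_flat f x h, fun h => stalk_normal_of_etale f x h⟩

end Groth.Agent.Lib.EtNormalH4
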