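import Mathlib
import Groth.Prelude.Def_Curv2
import Groth.Prelude.Def_FDesc
import Groth.Agent.Lib.FlatPtBC_helper4
import Groth.Agent.Lib.EtNormal_helper4

set_option autoImplicit false
set_option linter.style.haveILetI false
set_option linter.unusedSectionVars false
universe u
open scoped TensorProduct
open CategoryTheory CategoryTheory.Limits AlgebraicGeometry

namespace Groth.Agent.Lib.BCPointH4

open Groth.Agent.Lib.FlatPtBCH4

/-- A property of rings that descends along faithfully flat ring homomorphisms. -/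
def Descends (P : ∀ (R : Type u) [CommRing R], Prop) : Prop :=
  ∀ (R S : Type u) [CommRing R] [CommRing S] (φ : S →+* R), φ.FaithfullyFlat → P R → P S

theorem descends_reduced : Descends (fun (R : Type u) [CommRing R] => _root_.IsReduced R) := by
  intro R S _ _ φ hφ hR
  haveI : _root_.IsReduced R := hR
  exact isReduced_of_injective φ hφ.injective

theorem descends_domain : Descends (fun (R : Type u) [CommRing R] => IsDomain R) := by
  intro R S _ _ φ hφ hR
  haveI : IsDomain R := hR
  exact hφ.injective.isDomain φ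

theorem descends_normal :
    Descends (fun (R : Type u) [CommRing R] => IsDomain R ∧ IsIntegrallyClosed R) := by
  intro R S _ _ φ hφ hR
  letI : Algebra S R := φ.toAlgebra
  haveI : Module.FaithfullyFlat S R := hφ
  haveI := hR.1
  haveI := hR.2
  exact Groth.Agent.Lib.EtNormalH4.isDomain_and_isIntegrallyClosed_of_faithfullyFlat (A := S) (S := R)

theorem P_iso {P : ∀ (R : Type u) [CommRing R], Prop} (hP : Descends P) {A B : Scheme.{u}}
    (e : A ≅ B) (a : A) :
    P (A.presheaf.stalk a) ↔ P (B.presheaf.stalk (e.hom a)) := by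
  constructor
  · intro h
    exact hP _ _ (e.hom.stalkMap a).hom
      (RingHom.FaithfullyFlat.of_bijective
        ((ConcreteCategory.isIso_iff_bijective _).mp inferInstance)) h
  · intro h
    exact hP _ _ (inv (e.hom.stalkMap a)).hom
      (RingHom.FaithfullyFlat.of_bijective
        ((ConcreteCategory.isIso_iff_bijective _).mp inferInstance)) h

section bcMap

variable {k : Type u} [Field k] {X : Scheme.{u}} (f : X ⟶ Spec (CommRingCat.of k))
variable (K M : Type u) [Field K] [Field M] [Algebra k K] [Algebra k M] [Algebra K M]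
  [IsScalarTower k K M]

theorem specMap_comp_eq :
    Spec.map (CommRingCat.ofHom (algebraMap K M)) ≫ Spec.map (CommRingCat.ofHom (algebraMap k K)) =
      Spec.map (CommRingCat.ofHom (algebraMap k M)) := by
  rw [← Spec.map_comp, ← CommRingCat.ofHom_comp, ← IsScalarTower.algebraMap_eq]

/-- The canonical morphism `X_M ⟶ X_K` for a tower `k → K → M`. -/
noncomputable def bcMap : FBase.bc f M ⟶ FBase.bc f K :=
  pullback.lift (FBase.bcπ f M)
    (FBase.bcStr f M ≫ Spec.map (CommRingCat.ofHom (algebraMap K M)))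
    (by rw [Category.assoc, specMap_comp_eq]; exact pullback.condition)

theorem bcMap_fst : bcMap f K M ≫ FBase.bcπ f K = FBase.bcπ f M := pullback.lift_fst _ _ _

theorem bcMap_snd : bcMap f K M ≫ FBase.bcStr f K =
    FBase.bcStr f M ≫ Spec.map (CommRingCat.ofHom (algebraMap K M)) := pullback.lift_snd _ _ _

theorem isPullback_bcMap : IsPullback (bcMap f K M) (FBase.bcStr f M) (FBase.bcStr f K)
    (Spec.map (CommRingCat.ofHom (algebraMap K M))) := by
  have hK : IsPullback (FBase.bcπ f K) (FBase.bcStr f K) f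
      (Spec.map (CommRingCat.ofHom (algebraMap k K))) := IsPullback.of_hasPullback f _
  have hM : IsPullback (FBase.bcπ f M) (FBase.bcStr f M) f
      (Spec.map (CommRingCat.ofHom (algebraMap k M))) := IsPullback.of_hasPullback f _
  refine IsPullback.of_right ?_ (bcMap_snd f K M) hK
  rw [bcMap_fst, specMap_comp_eq]
  exact hM

/-- `X_M ≅ (X_K)_M`. -/
noncomputable def eBC : FBase.bc f M ≅ FBase.bc (FBase.bcStr f K) M :=
  (isPullback_bcMap f K M).isoPullback

theorem eBC_hom_fst : (eBC f K M).hom ≫ FBase.bcπ (FBase.bcStr f K) M = bcMap f K M :=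
  (isPullback_bcMap f K M).isoPullback_hom_fst

instance flat_bcMap : Flat (bcMap f K M) := by
  haveI : Flat (Spec.map (CommRingCat.ofHom (algebraMap K M))) :=
    Flat.SpecMap_iff.mpr (RingHom.flat_algebraMap_iff.mpr inferInstance)
  exact MorphismProperty.of_isPullback (P := @Flat) (isPullback_bcMap f K M).flip inferInstance

theorem descend_core {P : ∀ (R : Type u) [CommRing R], Prop} (hP : Descends P)
    (x' : ↥(FBase.bc f K))
    (h : ∀ (M : Type u) [Field M] [Algebra K M] (x'' : ↥(FBase.bc (FBase.bcStr f K) M)),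
      (FBase.bcπ (FBase.bcStr f K) M) x'' = x' →
        P ((FBase.bc (FBase.bcStr f K) M).presheaf.stalk x''))
    (z : ↥(FBase.bc f M)) (hz : bcMap f K M z = x') :
    P ((FBase.bc f M).presheaf.stalk z) := by
  have hx'' : (FBase.bcπ (FBase.bcStr f K) M) ((eBC f K M).hom z) = x' := by
    rw [← Scheme.Hom.comp_apply, eBC_hom_fst, hz]
  exact (P_iso hP (eBC f K M) z).mpr (h M _ hx'')

theorem descend_flat {P : ∀ (R : Type u) [CommRing R], Prop} (hP : Descends P)
    (z : ↥(FBase.bc f M)) (hz : P ((FBase.bc f M).presheaf.stalk z)) :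
    P ((FBase.bc f K).presheaf.stalk (bcMap f K M z)) :=
  hP _ _ ((bcMap f K M).stalkMap z).hom (faithfullyFlat_stalkMap (bcMap f K M) z) hz

end bcMap

section main

variable {k : Type u} [Field k] {X : Scheme.{u}} (f : X ⟶ Spec (CommRingCat.of k))

theorem ascend_pt {P : ∀ (R : Type u) [CommRing R], Prop} (hP : Descends P)
    (K : Type u) [Field K] [Algebra k K] (x' : ↥(FBase.bc f K))
    (h : ∀ (L : Type u) [Field L] [Algebra k L] (y : ↥(FBase.bc f L)),
      (FBase.bcπ f L) y = (FBase.bcπ f K) x' → P ((FBase.bc f L).presheaf.stalk y))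
    (M : Type u) [Field M] [Algebra K M] (x'' : ↥(FBase.bc (FBase.bcStr f K) M))
    (hx'' : (FBase.bcπ (FBase.bcStr f K) M) x'' = x') :
    P ((FBase.bc (FBase.bcStr f K) M).presheaf.stalk x'') := by
  letI : Algebra k M := ((algebraMap K M).comp (algebraMap k K)).toAlgebra
  haveI : IsScalarTower k K M := IsScalarTower.of_algebraMap_eq (fun _ => rfl)
  have hy : (FBase.bcπ f M) ((eBC f K M).inv x'') = (FBase.bcπ f K) x' := by
    rw [← bcMap_fst f K M, Scheme.Hom.comp_apply, ← eBC_hom_fst, Scheme.Hom.comp_apply,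
      Scheme.inv_hom_apply, hx'']
  have h1 := h M ((eBC f K M).inv x'') hy
  exact (P_iso hP (eBC f K M).symm x'').mpr h1

theorem exists_compositum_pt_aux (K L : Type u) [Field K] [Field L] [Algebra k K] [Algebra k L]
    (M : Type u) [Field M]
    (ι : Spec (CommRingCat.of M) ⟶ pullback (FBase.bcπ f K) (FBase.bcπ f L))
    (x' : ↥(FBase.bc f K)) (y : ↥(FBase.bc f L))
    (h1 : (ι ≫ pullback.fst (FBase.bcπ f K) (FBase.bcπ f L)) (IsLocalRing.closedPoint M) = x')
    (h2 : (ι ≫ pullback.snd (FBase.bcπ f K) (FBase.bcπ f L)) (IsLocalRing.closedPoint M) = y) :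
    ∃ (_ : Algebra k M) (_ : Algebra K M) (_ : Algebra L M) (_ : IsScalarTower k K M)
      (_ : IsScalarTower k L M) (z : ↥(FBase.bc f M)),
      bcMap f K M z = x' ∧ bcMap f L M z = y := by
  let gK : Spec (CommRingCat.of M) ⟶ Spec (CommRingCat.of K) :=
    ι ≫ pullback.fst (FBase.bcπ f K) (FBase.bcπ f L) ≫ FBase.bcStr f K
  let gL : Spec (CommRingCat.of M) ⟶ Spec (CommRingCat.of L) :=
    ι ≫ pullback.snd (FBase.bcπ f K) (FBase.bcπ f L) ≫ FBase.bcStr f L
  let iK : K →+* M := (Spec.preimage gK).hom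
  let iL : L →+* M := (Spec.preimage gL).hom
  have hiK : Spec.map (CommRingCat.ofHom iK) = gK := Spec.map_preimage gK
  have hiL : Spec.map (CommRingCat.ofHom iL) = gL := Spec.map_preimage gL
  have c1 : FBase.bcStr f K ≫ Spec.map (CommRingCat.ofHom (algebraMap k K)) =
      FBase.bcπ f K ≫ f := pullback.condition.symm
  have c2 : FBase.bcStr f L ≫ Spec.map (CommRingCat.ofHom (algebraMap k L)) =
      FBase.bcπ f L ≫ f := pullback.condition.symm
  have c3 : pullback.fst (FBase.bcπ f K) (FBase.bcπ f L) ≫ FBase.bcπ f K =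
      pullback.snd (FBase.bcπ f K) (FBase.bcπ f L) ≫ FBase.bcπ f L := pullback.condition
  have hgK : gK ≫ Spec.map (CommRingCat.ofHom (algebraMap k K)) =
      ι ≫ pullback.fst (FBase.bcπ f K) (FBase.bcπ f L) ≫ FBase.bcπ f K ≫ f := by
    show (ι ≫ pullback.fst (FBase.bcπ f K) (FBase.bcπ f L) ≫ FBase.bcStr f K) ≫ _ = _
    rw [Category.assoc, Category.assoc, c1]
  have hgL : gL ≫ Spec.map (CommRingCat.ofHom (algebraMap k L)) =
      ι ≫ pullback.fst (FBase.bcπ f K) (FBase.bcπ f L) ≫ FBase.bcπ f K ≫ f := by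
    show (ι ≫ pullback.snd (FBase.bcπ f K) (FBase.bcπ f L) ≫ FBase.bcStr f L) ≫ _ = _
    rw [Category.assoc, Category.assoc, c2, reassoc_of% c3]
  have hcomp : iK.comp (algebraMap k K) = iL.comp (algebraMap k L) := by
    have hS : Spec.map (CommRingCat.ofHom (iK.comp (algebraMap k K))) =
        Spec.map (CommRingCat.ofHom (iL.comp (algebraMap k L))) := by
      rw [CommRingCat.ofHom_comp, CommRingCat.ofHom_comp, Spec.map_comp, Spec.map_comp, hiK, hiL,
        hgK, hgL]
    have h' := Spec.map_injective hS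
    exact congrArg CommRingCat.Hom.hom h'
  letI ak : Algebra k M := (iK.comp (algebraMap k K)).toAlgebra
  letI aK : Algebra K M := iK.toAlgebra
  letI aL : Algebra L M := iL.toAlgebra
  haveI tK : IsScalarTower k K M := IsScalarTower.of_algebraMap_eq (fun _ => rfl)
  haveI tL : IsScalarTower k L M :=
    IsScalarTower.of_algebraMap_eq (fun c => RingHom.congr_fun hcomp c)
  have hs : (ι ≫ pullback.fst (FBase.bcπ f K) (FBase.bcπ f L) ≫ FBase.bcπ f K) ≫ f =
      𝟙 (Spec (CommRingCat.of M)) ≫ Spec.map (CommRingCat.ofHom (algebraMap k M)) := by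
    rw [Category.id_comp, show algebraMap k M = iK.comp (algebraMap k K) from rfl,
      CommRingCat.ofHom_comp, Spec.map_comp, hiK, hgK, Category.assoc, Category.assoc]
  let s : Spec (CommRingCat.of M) ⟶ FBase.bc f M :=
    pullback.lift (ι ≫ pullback.fst (FBase.bcπ f K) (FBase.bcπ f L) ≫ FBase.bcπ f K) (𝟙 _) hs
  have hs1 : s ≫ FBase.bcπ f M =
      ι ≫ pullback.fst (FBase.bcπ f K) (FBase.bcπ f L) ≫ FBase.bcπ f K := pullback.lift_fst _ _ _
  have hs2 : s ≫ FBase.bcStr f M = 𝟙 _ := pullback.lift_snd _ _ _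
  have hAK : (s ≫ bcMap f K M) ≫ FBase.bcπ f K =
      (ι ≫ pullback.fst (FBase.bcπ f K) (FBase.bcπ f L)) ≫ FBase.bcπ f K := by
    rw [Category.assoc, bcMap_fst, hs1, Category.assoc]
  have hBK : (s ≫ bcMap f K M) ≫ FBase.bcStr f K =
      (ι ≫ pullback.fst (FBase.bcπ f K) (FBase.bcπ f L)) ≫ FBase.bcStr f K := by
    rw [Category.assoc, bcMap_snd, ← Category.assoc, hs2, Category.id_comp, Category.assoc]
    exact hiK
  have hsK : s ≫ bcMap f K M = ι ≫ pullback.fst (FBase.bcπ f K) (FBase.bcπ f L) :=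
    pullback.hom_ext (f := f) (g := Spec.map (CommRingCat.ofHom (algebraMap k K))) hAK hBK
  have hAL : (s ≫ bcMap f L M) ≫ FBase.bcπ f L =
      (ι ≫ pullback.snd (FBase.bcπ f K) (FBase.bcπ f L)) ≫ FBase.bcπ f L := by
    rw [Category.assoc, bcMap_fst, hs1, Category.assoc, c3]
  have hBL : (s ≫ bcMap f L M) ≫ FBase.bcStr f L =
      (ι ≫ pullback.snd (FBase.bcπ f K) (FBase.bcπ f L)) ≫ FBase.bcStr f L := by
    rw [Category.assoc, bcMap_snd, ← Category.assoc, hs2, Category.id_comp, Category.assoc]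
    exact hiL
  have hsL : s ≫ bcMap f L M = ι ≫ pullback.snd (FBase.bcπ f K) (FBase.bcπ f L) :=
    pullback.hom_ext (f := f) (g := Spec.map (CommRingCat.ofHom (algebraMap k L))) hAL hBL
  refine ⟨ak, aK, aL, tK, tL, s (IsLocalRing.closedPoint M), ?_, ?_⟩
  · rw [← Scheme.Hom.comp_apply, hsK]; exact h1
  · rw [← Scheme.Hom.comp_apply, hsL]; exact h2

theorem exists_compositum_pt (K L : Type u) [Field K] [Field L] [Algebra k K] [Algebra k L]
    (x' : ↥(FBase.bc f K)) (y : ↥(FBase.bc f L))
    (hy : (FBase.bcπ f L) y = (FBase.bcπ f K) x') :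
    ∃ (M : Type u) (_ : Field M) (_ : Algebra k M) (_ : Algebra K M) (_ : Algebra L M)
      (_ : IsScalarTower k K M) (_ : IsScalarTower k L M) (z : ↥(FBase.bc f M)),
      bcMap f K M z = x' ∧ bcMap f L M z = y := by
  obtain ⟨w, hw1, hw2⟩ := Scheme.Pullback.exists_preimage_pullback
    (f := FBase.bcπ f K) (g := FBase.bcπ f L) x' y hy.symm
  refine ⟨((pullback (FBase.bcπ f K) (FBase.bcπ f L)).residueField w), inferInstance, ?_⟩
  exact exists_compositum_pt_aux f K L
    ((pullback (FBase.bcπ f K) (FBase.bcπ f L)).residueField w)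
    ((pullback (FBase.bcπ f K) (FBase.bcπ f L)).fromSpecResidueField w) x' y
    (by rw [Scheme.Hom.comp_apply]
        exact (congrArg _ (Scheme.fromSpecResidueField_apply w _)).trans hw1)
    (by rw [Scheme.Hom.comp_apply]
        exact (congrArg _ (Scheme.fromSpecResidueField_apply w _)).trans hw2)

theorem descend_pt {P : ∀ (R : Type u) [CommRing R], Prop} (hP : Descends P)
    (K : Type u) [Field K] [Algebra k K] (x' : ↥(FBase.bc f K))
    (h : ∀ (M : Type u) [Field M] [Algebra K M] (x'' : ↥(FBase.bc (FBase.bcStr f K) M)),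
      (FBase.bcπ (FBase.bcStr f K) M) x'' = x' →
        P ((FBase.bc (FBase.bcStr f K) M).presheaf.stalk x''))
    (L : Type u) [Field L] [Algebra k L] (y : ↥(FBase.bc f L))
    (hy : (FBase.bcπ f L) y = (FBase.bcπ f K) x') : P ((FBase.bc f L).presheaf.stalk y) := by
  obtain ⟨M, _, ak, aK, aL, tK, tL, z, hz1, hz2⟩ := exists_compositum_pt f K L x' y hy
  have hPz := descend_core f K M hP x' h z hz1
  have h3 := descend_flat f L M hP z hPz
  exact hz2 ▸ h3

end main

theorem main4630 {k K : Type u} [Field k] [Field K] [Algebra k K]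
    {X : Scheme.{u}} (f : X ⟶ Spec (CommRingCat.of k)) (x' : ↥(FBase.bc f K)) :
    FBase.IsGeomPtIntegralAt f ((FBase.bcπ f K) x') ↔
      FBase.IsGeomPtIntegralAt (FBase.bcStr f K) x' := by
  constructor
  · intro h M _ _ x'' hx''
    exact ascend_pt f descends_domain K x' (fun L _ _ y hy => h L y hy) M x'' hx''
  · intro h L _ _ y hy
    exact descend_pt f descends_domain K x' (fun M _ _ x'' hx'' => h M x'' hx'') L y hy

theorem main1545 (k : Type u) [Field k] (X : Scheme.{u}) [X.Over (Spec (CommRingCat.of k))]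
    (k' : Type u) [Field k'] [Algebra k k']
    (x : X) (x' : Curv2.bc k X k') (hx : Curv2.bcFst k X k' x' = x) :
    Curv2.IsGeomReducedAt k X x ↔
      @Curv2.IsGeomReducedAt k' _ (Curv2.bc k X k') ⟨Curv2.bcSnd k X k'⟩ x' := by
  subst hx
  constructor
  · intro h M _ _ x'' hx''
    exact ascend_pt (X ↘ Spec (CommRingCat.of k)) descends_reduced k' x'
      (fun L _ _ y hy => h L y hy) M x'' hx''
  · intro h L _ _ y hy
    exact descend_pt (X ↘ Spec (CommRingCat.of k)) descends_reduced k' x'
      (fun M _ _ x'' hx'' => h M x'' hx'') L y hy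

theorem main7600 (k : Type u) [Field k] (X : Scheme.{u}) [X.Over (Spec (CommRingCat.of k))]
    (k' : Type u) [Field k'] [Algebra k k'] (x' : ↥(Curv2.bc k X k'))
    (h : letI : (Curv2.bc k X k').Over (Spec (CommRingCat.of k')) := ⟨Curv2.bcSnd k X k'⟩
      ∀ (k'' : Type u) [Field k''] [Algebra k' k'']
        (x'' : ↥(Curv2.bc k' (Curv2.bc k X k') k'')),
        Curv2.bcFst k' (Curv2.bc k X k') k'' x'' = x' →
          IsDomain ↥((Curv2.bc k' (Curv2.bc k X k') k'').presheaf.stalk x'') ∧
          IsIntegrallyClosed ↥((Curv2.bc k' (Curv2.bc k X k') k'').presheaf.stalk x'')) :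
    ∀ (K : Type u) [Field K] [Algebra k K] (y : ↥(Curv2.bc k X K)),
      Curv2.bcFst k X K y = (Curv2.bcFst k X k' x') →
        IsDomain ↥((Curv2.bc k X K).presheaf.stalk y) ∧
        IsIntegrallyClosed ↥((Curv2.bc k X K).presheaf.stalk y) := by
  intro K _ _ y hy
  exact descend_pt (X ↘ Spec (CommRingCat.of k)) descends_normal k' x'
    (fun M _ _ x'' hx'' => h M x'' hx'') K y hy

end Groth.Agent.Lib.BCPointH4
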