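import Mathlib
import Groth.Prelude.Def_Curv2
import Groth.Prelude.Def_FDesc
import Groth.Agent.Lib.GeomConnPt_helper4
import Groth.Agent.Lib.BCPoint_helper4
import Groth.Agent.Lib.GeomBC_helper4

set_option autoImplicit false
set_option linter.style.haveILetI false
set_option linter.unusedSectionVars false
universe u
open scoped TensorProduct
open CategoryTheory CategoryTheory.Limits AlgebraicGeometry

namespace Groth.Agent.Lib.GeomConnPt2H4

local notation:max "sm[" k ", " K "]" => Spec.map (CommRingCat.ofHom (algebraMap k K))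

section top

theorem isPreconnected_preimage_of_open_closed {A B : Type*} [TopologicalSpace A]
    [TopologicalSpace B] {p : A → B} (ho : IsOpenMap p) (hcl : IsClosedMap p) {Z : Set B}
    (hZ : _root_.IsPreconnected Z) (b : B) (hb : b ∈ Z) (T : Set A)
    (hT : _root_.IsPreconnected T) (hbT : p ⁻¹' {b} ⊆ T) (hTZ : T ⊆ p ⁻¹' Z) :
    _root_.IsPreconnected (p ⁻¹' Z) := by
  haveI : PreconnectedSpace ↥Z := isPreconnected_iff_preconnectedSpace.mp hZ
  have ho' : IsOpenMap (Z.restrictPreimage p) := ho.restrictPreimage Z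
  have hcl' : IsClosedMap (Z.restrictPreimage p) := hcl.restrictPreimage Z
  have hT' : _root_.IsPreconnected ((Subtype.val : ↥(p ⁻¹' Z) → A) ⁻¹' T) := by
    rw [← Topology.IsInducing.subtypeVal.isPreconnected_image]
    have himg : (Subtype.val : ↥(p ⁻¹' Z) → A) '' ((Subtype.val : ↥(p ⁻¹' Z) → A) ⁻¹' T) = T := by
      rw [Subtype.image_preimage_coe]
      exact Set.inter_eq_self_of_subset_right hTZ
    rw [himg]; exact hT
  haveI := GeomConnPtH4.preconnectedSpace_of_open_closed ho' hcl' ⟨b, hb⟩ _ hT' (by
    rintro ⟨a, haZ⟩ ha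
    have hab : p a = b := congrArg Subtype.val ha
    exact hbT hab)
  exact isPreconnected_iff_preconnectedSpace.mpr this

end top

theorem exists_G {k : Type u} [Field k] {X Y : Scheme.{u}} (g : Y ⟶ X)
    (f : X ⟶ Spec (CommRingCat.of k)) (K : Type u) [Field K] [Algebra k K] :
    ∃ G : pullback (g ≫ f) sm[k, K] ⟶ pullback f sm[k, K],
      G ≫ pullback.fst f sm[k, K] = pullback.fst (g ≫ f) sm[k, K] ≫ g ∧
      ∀ y : Y, (pullback.fst f sm[k, K]) ⁻¹' {g y} ⊆ Set.range G := by
  let G : pullback (g ≫ f) sm[k, K] ⟶ pullback f sm[k, K] :=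
    pullback.lift (pullback.fst (g ≫ f) _ ≫ g) (pullback.snd (g ≫ f) _)
      (by rw [Category.assoc]; exact pullback.condition)
  have hG1 : G ≫ pullback.fst f _ = pullback.fst (g ≫ f) _ ≫ g := pullback.lift_fst _ _ _
  have hG2 : G ≫ pullback.snd f _ = pullback.snd (g ≫ f) _ := pullback.lift_snd _ _ _
  have hpb : IsPullback G (pullback.fst (g ≫ f) sm[k, K]) (pullback.fst f sm[k, K]) g := by
    refine IsPullback.of_right ?_ hG1 (IsPullback.of_hasPullback f _).flip
    rw [hG2]
    exact (IsPullback.of_hasPullback (g ≫ f) _).flip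
  refine ⟨G, hG1, fun y z hz => ?_⟩
  obtain ⟨w, hw1, -⟩ := Scheme.Pullback.exists_preimage_pullback
    (f := pullback.fst f sm[k, K]) (g := g) z y hz
  refine ⟨hpb.isoPullback.inv w, ?_⟩
  rw [← Scheme.Hom.comp_apply, hpb.isoPullback_inv_fst]
  exact hw1

theorem stepA {k : Type u} [Field k] {X Y : Scheme.{u}} (f : X ⟶ Spec (CommRingCat.of k))
    (h : Y ⟶ X) [hg : GeometricallyConnected (h ≫ f)] (y : Y) :
    _root_.IsConnected ((pullback.fst f sm[k, SeparableClosure k]) ⁻¹'
      connectedComponent (h y)) := by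
  haveI : Nonempty ↥(Spec (CommRingCat.of k)) := inferInstanceAs (Nonempty (PrimeSpectrum k))
  haveI : ConnectedSpace ↥Y := GeometricallyConnected.connectedSpace_of_subsingleton (h ≫ f)
  have hrange : Set.range h ⊆ connectedComponent (h y) :=
    (isPreconnected_range h.continuous).subset_connectedComponent (Set.mem_range_self y)
  haveI := GeomIrrSchH4.universallyOpen_specMap (k := k) (SeparableClosure k)
  haveI := GeomConnPtH4.isIntegralHom_specMap k (SeparableClosure k)
  haveI : Surjective sm[k, SeparableClosure k] := RatPtsH4.surjective_specMap k _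
  have hopen : IsOpenMap (pullback.fst f sm[k, SeparableClosure k]) :=
    (pullback.fst f sm[k, SeparableClosure k]).isOpenMap
  have hclosed : IsClosedMap (pullback.fst f sm[k, SeparableClosure k]) :=
    (pullback.fst f sm[k, SeparableClosure k]).isClosedMap
  have hs : Function.Surjective (pullback.fst f sm[k, SeparableClosure k]) :=
    Scheme.Hom.surjective _
  haveI hYK : ConnectedSpace ↥(pullback (h ≫ f) sm[k, SeparableClosure k]) :=
    pullback_of_geometrically hg.1 (SeparableClosure k) _
  obtain ⟨G, hG1, hG⟩ := exists_G h f (SeparableClosure k)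
  refine ⟨?_, isPreconnected_preimage_of_open_closed hopen hclosed
    isPreconnected_connectedComponent (h y) mem_connectedComponent (Set.range G)
    (isPreconnected_range G.continuous) (hG y) ?_⟩
  · obtain ⟨z, hz⟩ := hs (h y)
    refine ⟨z, ?_⟩
    show (pullback.fst f sm[k, SeparableClosure k]) z ∈ connectedComponent (h y)
    rw [hz]; exact mem_connectedComponent
  · rintro _ ⟨w', rfl⟩
    show (pullback.fst f sm[k, SeparableClosure k]) (G w') ∈ connectedComponent (h y)
    rw [← Scheme.Hom.comp_apply, hG1, Scheme.Hom.comp_apply]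
    exact hrange (Set.mem_range_self _)

theorem main4621 {k K : Type u} [Field k] [Field K] [Algebra k K]
    {X Y : Scheme.{u}} (f : X ⟶ Spec (CommRingCat.of k)) (g : Y ⟶ Spec (CommRingCat.of k))
    (h : Y ⟶ X) (w : h ≫ f = g) [hg : GeometricallyConnected g] (y : Y) :
    _root_.IsConnected (⇑(FBase.bcπ f K) ⁻¹' connectedComponent (h y)) := by
  subst w
  have hA : _root_.IsConnected ((FBase.bcπ f (SeparableClosure k)) ⁻¹'
      connectedComponent (h y)) := stepA f h y
  obtain ⟨Ω, _, iK, iS, hcomp⟩ := GeomBC_helper4.exists_compositum k K (SeparableClosure k)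
  letI : Algebra K Ω := iK.toAlgebra
  letI : Algebra (SeparableClosure k) Ω := iS.toAlgebra
  letI : Algebra k Ω := (iK.comp (algebraMap k K)).toAlgebra
  haveI : IsScalarTower k K Ω := IsScalarTower.of_algebraMap_eq (fun _ => rfl)
  haveI : IsScalarTower k (SeparableClosure k) Ω :=
    IsScalarTower.of_algebraMap_eq (fun x => RingHom.congr_fun hcomp x)
  have hB1 := GeomIrrSchH4.isConnected_preimage (k := SeparableClosure k) Ω
    (FBase.bcStr f (SeparableClosure k)) hA
  have hV : _root_.IsConnected ((FBase.bcπ f Ω) ⁻¹' connectedComponent (h y)) := by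
    have hcat : (BCPointH4.eBC f (SeparableClosure k) Ω).hom ≫
        FBase.bcπ (FBase.bcStr f (SeparableClosure k)) Ω ≫ FBase.bcπ f (SeparableClosure k) =
        FBase.bcπ f Ω := by
      rw [← Category.assoc, BCPointH4.eBC_hom_fst, BCPointH4.bcMap_fst]
    have h1 : ∀ z, (FBase.bcπ f (SeparableClosure k))
        ((FBase.bcπ (FBase.bcStr f (SeparableClosure k)) Ω)
          ((BCPointH4.eBC f (SeparableClosure k) Ω).hom z)) = (FBase.bcπ f Ω) z := fun z => by
      rw [← hcat, Scheme.Hom.comp_apply, Scheme.Hom.comp_apply]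
    have e : (FBase.bcπ f Ω) ⁻¹' connectedComponent (h y) =
        (BCPointH4.eBC f (SeparableClosure k) Ω).hom.homeomorph ⁻¹'
          ((FBase.bcπ (FBase.bcStr f (SeparableClosure k)) Ω) ⁻¹'
            ((FBase.bcπ f (SeparableClosure k)) ⁻¹' connectedComponent (h y))) := by
      ext z
      constructor
      · intro hz
        show (FBase.bcπ f (SeparableClosure k))
          ((FBase.bcπ (FBase.bcStr f (SeparableClosure k)) Ω)
            ((BCPointH4.eBC f (SeparableClosure k) Ω).hom z)) ∈ connectedComponent (h y)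
        rw [h1]; exact hz
      · intro hz
        have hz' : (FBase.bcπ f (SeparableClosure k))
          ((FBase.bcπ (FBase.bcStr f (SeparableClosure k)) Ω)
            ((BCPointH4.eBC f (SeparableClosure k) Ω).hom z)) ∈ connectedComponent (h y) := hz
        rw [h1] at hz'; exact hz'
    rw [e]
    exact (Homeomorph.isConnected_preimage _).mpr hB1
  haveI : Surjective sm[K, Ω] := RatPtsH4.surjective_specMap K Ω
  haveI : Surjective (BCPointH4.bcMap f K Ω) :=
    MorphismProperty.of_isPullback (P := @Surjective) (BCPointH4.isPullback_bcMap f K Ω).flip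
      inferInstance
  have hsurj : Function.Surjective (BCPointH4.bcMap f K Ω) := Scheme.Hom.surjective _
  have e3 : (FBase.bcπ f Ω) ⁻¹' connectedComponent (h y) =
      (BCPointH4.bcMap f K Ω) ⁻¹' ((FBase.bcπ f K) ⁻¹' connectedComponent (h y)) := by
    ext z
    show (FBase.bcπ f Ω) z ∈ connectedComponent (h y) ↔
      (FBase.bcπ f K) ((BCPointH4.bcMap f K Ω) z) ∈ connectedComponent (h y)
    rw [← Scheme.Hom.comp_apply, BCPointH4.bcMap_fst]
  have e2 : (FBase.bcπ f K) ⁻¹' connectedComponent (h y) =
      (BCPointH4.bcMap f K Ω) '' ((FBase.bcπ f Ω) ⁻¹' connectedComponent (h y)) := by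
    rw [e3, Set.image_preimage_eq _ hsurj]
  rw [e2]
  exact hV.image _ (BCPointH4.bcMap f K Ω).continuous.continuousOn

end Groth.Agent.Lib.GeomConnPt2H4
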