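import Mathlib
import Groth.Prelude.Def_Curv2
import Groth.Prelude.Def_FDesc
import Groth.Agent.Lib.GeomConnPt2_helper4
import Groth.Agent.Lib.GeomIrr3_lead

set_option autoImplicit false
set_option linter.style.haveILetI false
set_option linter.unusedSectionVars false
universe u
open scoped TensorProduct
open CategoryTheory CategoryTheory.Limits AlgebraicGeometry

namespace Groth.Agent.Lib.GeomConnFinH4

local notation:max "sm[" k ", " K "]" => Spec.map (CommRingCat.ofHom (algebraMap k K))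

section alg

theorem exists_finite_lift_right {k K R : Type u} [Field k] [Field K] [Algebra k K]
    [Algebra.IsAlgebraic k K] [CommRing R] [Algebra k R] (x : R ⊗[k] K) :
    ∃ E : IntermediateField k K, FiniteDimensional k E ∧ ∃ x' : R ⊗[k] E,
      Algebra.TensorProduct.map (AlgHom.id k R) E.val x' = x := by
  obtain ⟨E, hE, y, hy⟩ := Groth.Agent.Lib.GeomIrr.exists_finite_intermediateField_lift
    (Algebra.TensorProduct.comm k R K x)
  refine ⟨E, hE, Algebra.TensorProduct.comm k E R y, ?_⟩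
  have hnat : ∀ z : E ⊗[k] R,
      Algebra.TensorProduct.map (AlgHom.id k R) E.val (Algebra.TensorProduct.comm k E R z) =
        Algebra.TensorProduct.comm k K R
          (Algebra.TensorProduct.map E.val (AlgHom.id k R) z) := by
    intro z
    induction z using TensorProduct.induction_on with
    | zero => simp
    | tmul a b => simp
    | add z w hz hw => simp only [map_add, hz, hw]
  rw [hnat, hy, ← Algebra.TensorProduct.comm_symm k R K]
  exact (Algebra.TensorProduct.comm k R K).symm_apply_apply x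

end alg

section bcm

variable {k : Type u} [Field k] {X : Scheme.{u}} (f : X ⟶ Spec (CommRingCat.of k))
variable (K M : Type u) [Field K] [Field M] [Algebra k K] [Algebra k M] [Algebra K M]
  [IsScalarTower k K M]

theorem sm_comp : sm[K, M] ≫ sm[k, K] = sm[k, M] := by
  rw [← Spec.map_comp, ← CommRingCat.ofHom_comp, ← IsScalarTower.algebraMap_eq]

noncomputable def bm : pullback f sm[k, M] ⟶ pullback f sm[k, K] :=
  pullback.lift (pullback.fst f sm[k, M]) (pullback.snd f sm[k, M] ≫ sm[K, M])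
    (by rw [Category.assoc, sm_comp]; exact pullback.condition)

@[reassoc]
theorem bm_fst : bm f K M ≫ pullback.fst f sm[k, K] = pullback.fst f sm[k, M] :=
  pullback.lift_fst _ _ _

@[reassoc]
theorem bm_snd : bm f K M ≫ pullback.snd f sm[k, K] = pullback.snd f sm[k, M] ≫ sm[K, M] :=
  pullback.lift_snd _ _ _

theorem isPullback_bm : IsPullback (bm f K M) (pullback.snd f sm[k, M])
    (pullback.snd f sm[k, K]) sm[K, M] := by
  have hK : IsPullback (pullback.fst f sm[k, K]) (pullback.snd f sm[k, K]) f sm[k, K] :=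
    IsPullback.of_hasPullback f _
  have hM : IsPullback (pullback.fst f sm[k, M]) (pullback.snd f sm[k, M]) f sm[k, M] :=
    IsPullback.of_hasPullback f _
  refine IsPullback.of_right ?_ (bm_snd f K M) hK
  rw [bm_fst, sm_comp]
  exact hM

theorem bm_fst_apply (z : ↥(pullback f sm[k, M])) :
    (pullback.fst f sm[k, K]) ((bm f K M) z) = (pullback.fst f sm[k, M]) z := by
  rw [← Scheme.Hom.comp_apply, bm_fst]

end bcm

section affine

variable {k : Type u} [Field k] (R : Type u) [CommRing R] [Algebra k R]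
variable (K : Type u) [Field K] [Algebra k K] (E : IntermediateField k K)

noncomputable abbrev jmap : R ⊗[k] E →ₐ[k] R ⊗[k] K :=
  Algebra.TensorProduct.map (AlgHom.id k R) E.val

theorem transition :
    (pullbackSpecIso k R K).inv ≫ bm sm[k, R] E K =
      Spec.map (CommRingCat.ofHom (jmap R K E).toRingHom) ≫ (pullbackSpecIso k R E).inv := by
  refine pullback.hom_ext (f := sm[k, R]) (g := sm[k, ↥E]) ?_ ?_
  · rw [Category.assoc, Category.assoc, bm_fst, pullbackSpecIso_inv_fst, pullbackSpecIso_inv_fst,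
      ← Spec.map_comp, ← CommRingCat.ofHom_comp]
    congr 2
  · rw [Category.assoc, Category.assoc, bm_snd, pullbackSpecIso_inv_snd,
      pullbackSpecIso_inv_snd_assoc, ← Spec.map_comp, ← Spec.map_comp, ← CommRingCat.ofHom_comp,
      ← CommRingCat.ofHom_comp]
    congr 2

theorem transition' :
    bm sm[k, R] E K ≫ (pullbackSpecIso k R E).hom =
      (pullbackSpecIso k R K).hom ≫ Spec.map (CommRingCat.ofHom (jmap R K E).toRingHom) := by
  have h := transition R K E
  rw [Iso.inv_comp_eq] at h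
  rw [h]
  simp

theorem key_affine [Algebra.IsAlgebraic k K] (s : Set ↥(pullback sm[k, R] sm[k, K]))
    (hs : IsClopen s) (a : ↥(pullback sm[k, R] sm[k, K])) (ha : a ∈ s) :
    ∃ E : IntermediateField k K, FiniteDimensional k E ∧
      ∀ c : ↥(pullback sm[k, R] sm[k, K]),
        (bm sm[k, R] E K) c = (bm sm[k, R] E K) a → c ∈ s := by
  have hinv : ∀ z, (pullbackSpecIso k R K).inv ((pullbackSpecIso k R K).hom z) = z := fun z => by
    rw [← Scheme.Hom.comp_apply, Iso.hom_inv_id]; rfl
  have hs' : IsClopen ((pullbackSpecIso k R K).inv ⁻¹' s) :=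
    hs.preimage (pullbackSpecIso k R K).inv.continuous
  obtain ⟨e, he, hse⟩ := (PrimeSpectrum.isClopen_iff (R := R ⊗[k] K)).mp hs'
  obtain ⟨E, hE, e', he'⟩ := exists_finite_lift_right (R := R) e
  refine ⟨E, hE, fun c hc => ?_⟩
  have htr : ∀ z : ↥(pullback sm[k, R] sm[k, K]),
      PrimeSpectrum.comap (R := R ⊗[k] ↥E) (S := R ⊗[k] K) (jmap R K E).toRingHom ((pullbackSpecIso k R K).hom z) =
        (pullbackSpecIso k R E).hom ((bm sm[k, R] E K) z) := fun z => by
    have h1 := congrArg (fun (φ : pullback sm[k, R] sm[k, K] ⟶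
      Spec (CommRingCat.of (R ⊗[k] ↥E))) => φ z) (transition' R K E)
    exact h1.symm
  have key : PrimeSpectrum.comap (R := R ⊗[k] ↥E) (S := R ⊗[k] K) (jmap R K E).toRingHom ((pullbackSpecIso k R K).hom c) =
      PrimeSpectrum.comap (R := R ⊗[k] ↥E) (S := R ⊗[k] K) (jmap R K E).toRingHom ((pullbackSpecIso k R K).hom a) := by
    rw [htr, htr, hc]
  have hPa : (pullbackSpecIso k R K).hom a ∈ (pullbackSpecIso k R K).inv ⁻¹' s := by
    show (pullbackSpecIso k R K).inv ((pullbackSpecIso k R K).hom a) ∈ s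
    rw [hinv]; exact ha
  rw [hse] at hPa
  have hPa' : e ∉ ((pullbackSpecIso k R K).hom a :
      PrimeSpectrum (R ⊗[k] K)).asIdeal := hPa
  have h1 : e' ∉ (PrimeSpectrum.comap (R := R ⊗[k] ↥E) (S := R ⊗[k] K) (jmap R K E).toRingHom
      ((pullbackSpecIso k R K).hom a)).asIdeal := fun h => hPa' (by
    have h' : (jmap R K E) e' ∈ ((pullbackSpecIso k R K).hom a :
      PrimeSpectrum (R ⊗[k] K)).asIdeal := h
    rwa [he'] at h')
  rw [← key] at h1
  have h2 : (pullbackSpecIso k R K).hom c ∈ (pullbackSpecIso k R K).inv ⁻¹' s := by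
    rw [hse]
    show e ∉ ((pullbackSpecIso k R K).hom c : PrimeSpectrum (R ⊗[k] K)).asIdeal
    intro h
    apply h1
    show (jmap R K E) e' ∈ ((pullbackSpecIso k R K).hom c :
      PrimeSpectrum (R ⊗[k] K)).asIdeal
    rw [he']; exact h
  have h3 : (pullbackSpecIso k R K).inv ((pullbackSpecIso k R K).hom c) ∈ s := h2
  rwa [hinv] at h3

end affine

section reduce

variable {k : Type u} [Field k] {X W : Scheme.{u}} (f : X ⟶ Spec (CommRingCat.of k))
  (c : W ⟶ X) (g : W ⟶ Spec (CommRingCat.of k)) (hg : g = c ≫ f)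
variable (L : Type u) [Field L] [Algebra k L]

noncomputable def Gm : pullback g sm[k, L] ⟶ pullback f sm[k, L] :=
  pullback.lift (pullback.fst g sm[k, L] ≫ c) (pullback.snd g sm[k, L])
    (by rw [Category.assoc, ← hg]; exact pullback.condition)

@[reassoc]
theorem Gm_fst : Gm f c g hg L ≫ pullback.fst f sm[k, L] = pullback.fst g sm[k, L] ≫ c :=
  pullback.lift_fst _ _ _

@[reassoc]
theorem Gm_snd : Gm f c g hg L ≫ pullback.snd f sm[k, L] = pullback.snd g sm[k, L] :=
  pullback.lift_snd _ _ _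

theorem isPullback_Gm : IsPullback (Gm f c g hg L) (pullback.fst g sm[k, L])
    (pullback.fst f sm[k, L]) c := by
  refine IsPullback.of_right ?_ (Gm_fst f c g hg L) (IsPullback.of_hasPullback f _).flip
  rw [Gm_snd, ← hg]
  exact (IsPullback.of_hasPullback g _).flip

theorem isOpenImmersion_Gm [IsOpenImmersion c] : IsOpenImmersion (Gm f c g hg L) :=
  MorphismProperty.of_isPullback (P := @IsOpenImmersion) (isPullback_Gm f c g hg L).flip
    inferInstance

theorem mem_range_Gm (z : ↥(pullback f sm[k, L])) (w : ↥W)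
    (hz : (pullback.fst f sm[k, L]) z = c w) : z ∈ Set.range (Gm f c g hg L) := by
  obtain ⟨t, ht1, -⟩ := Scheme.Pullback.exists_preimage_pullback
    (f := pullback.fst f sm[k, L]) (g := c) z w hz
  refine ⟨(isPullback_Gm f c g hg L).isoPullback.inv t, ?_⟩
  rw [← Scheme.Hom.comp_apply, (isPullback_Gm f c g hg L).isoPullback_inv_fst]
  exact ht1

theorem Gm_bm (K M : Type u) [Field K] [Field M] [Algebra k K] [Algebra k M] [Algebra K M]
    [IsScalarTower k K M] :
    bm g K M ≫ Gm f c g hg K = Gm f c g hg M ≫ bm f K M := by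
  refine pullback.hom_ext (f := f) (g := sm[k, K]) ?_ ?_
  · rw [Category.assoc, Category.assoc, Gm_fst, bm_fst, bm_fst_assoc, Gm_fst]
  · rw [Category.assoc, Category.assoc, Gm_snd, bm_snd, bm_snd, Gm_snd_assoc]

theorem key_reduce [IsOpenImmersion c] (K : Type u) [Field K] [Algebra k K]
    (hW : ∀ (s₀ : Set ↥(pullback g sm[k, K])) (_ : IsClopen s₀) (a₀ : ↥(pullback g sm[k, K]))
      (_ : a₀ ∈ s₀), ∃ E : IntermediateField k K, FiniteDimensional k E ∧
        ∀ c₀ : ↥(pullback g sm[k, K]), (bm g E K) c₀ = (bm g E K) a₀ → c₀ ∈ s₀)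
    (s : Set ↥(pullback f sm[k, K])) (hs : IsClopen s) (a₀ : ↥(pullback g sm[k, K]))
    (ha : (Gm f c g hg K) a₀ ∈ s) :
    ∃ E : IntermediateField k K, FiniteDimensional k E ∧
      ∀ z : ↥(pullback f sm[k, K]),
        (bm f E K) z = (bm f E K) ((Gm f c g hg K) a₀) → z ∈ s := by
  obtain ⟨E, hE, hc⟩ := hW ((Gm f c g hg K) ⁻¹' s) (hs.preimage (Gm f c g hg K).continuous) a₀ ha
  refine ⟨E, hE, fun z hz => ?_⟩
  have hπ : (pullback.fst f sm[k, K]) z = c ((pullback.fst g sm[k, K]) a₀) := by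
    rw [← bm_fst_apply f E K z, hz, bm_fst_apply, ← Scheme.Hom.comp_apply, Gm_fst,
      Scheme.Hom.comp_apply]
  obtain ⟨z₀, rfl⟩ := mem_range_Gm f c g hg K z _ hπ
  have h3 : (Gm f c g hg E) ((bm g E K) z₀) = (Gm f c g hg E) ((bm g E K) a₀) := by
    rw [← Scheme.Hom.comp_apply, ← Scheme.Hom.comp_apply, Gm_bm, Scheme.Hom.comp_apply,
      Scheme.Hom.comp_apply, hz]
  haveI := isOpenImmersion_Gm f c g hg E
  have h4 := (Gm f c g hg E).isOpenEmbedding.injective h3
  exact hc z₀ h4

end reduce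

theorem key_general {k : Type u} [Field k] {X : Scheme.{u}} (f : X ⟶ Spec (CommRingCat.of k))
    (K : Type u) [Field K] [Algebra k K] [Algebra.IsAlgebraic k K]
    (s : Set ↥(pullback f sm[k, K])) (hs : IsClopen s) (a : ↥(pullback f sm[k, K]))
    (ha : a ∈ s) :
    ∃ E : IntermediateField k K, FiniteDimensional k E ∧
      ∀ z : ↥(pullback f sm[k, K]), (bm f E K) z = (bm f E K) a → z ∈ s := by
  obtain ⟨i, w, hw⟩ := X.affineCover.exists_eq ((pullback.fst f sm[k, K]) a)
  let c' : Spec Γ(X.affineCover.X i, ⊤) ⟶ X := (X.affineCover.X i).isoSpec.inv ≫ X.affineCover.f i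
  let φ : CommRingCat.of k ⟶ Γ(X.affineCover.X i, ⊤) := Spec.preimage (c' ≫ f)
  letI : Algebra k Γ(X.affineCover.X i, ⊤) := φ.hom.toAlgebra
  have hg : sm[k, Γ(X.affineCover.X i, ⊤)] = c' ≫ f := Spec.map_preimage (c' ≫ f)
  have hw' : (pullback.fst f sm[k, K]) a = c' ((X.affineCover.X i).isoSpec.hom w) := by
    show _ = ((X.affineCover.X i).isoSpec.inv ≫ X.affineCover.f i) _
    rw [Scheme.Hom.comp_apply, ← Scheme.Hom.comp_apply _ (X.affineCover.X i).isoSpec.inv,
      Iso.hom_inv_id]
    exact hw.symm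
  have hW := fun (s₀ : Set ↥(pullback sm[k, Γ(X.affineCover.X i, ⊤)] sm[k, K])) (hs₀ : IsClopen s₀)
      (b₀ : ↥(pullback sm[k, Γ(X.affineCover.X i, ⊤)] sm[k, K])) (hb₀ : b₀ ∈ s₀) =>
    key_affine (k := k) (↑Γ(X.affineCover.X i, ⊤)) K s₀ hs₀ b₀ hb₀
  obtain ⟨a₀, ha₀⟩ := mem_range_Gm f c' sm[k, Γ(X.affineCover.X i, ⊤)] hg K a _ hw'
  rw [← ha₀] at ha ⊢
  exact key_reduce f c' sm[k, Γ(X.affineCover.X i, ⊤)] hg K hW s hs a₀ ha

theorem connectedSpace_bc_sepClosure (k : Type u) [Field k] (X : Scheme.{u})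
    [X.Over (Spec (CommRingCat.of k))]
    (h : ∀ (k' : Type u) [Field k'] [Algebra k k'] [FiniteDimensional k k']
      [Algebra.IsSeparable k k'], ConnectedSpace ↥(Curv2.bc k X k')) :
    ConnectedSpace ↥(Curv2.bc k X (SeparableClosure k)) := by
  haveI hk := h k
  obtain ⟨z0⟩ : Nonempty ↥(Curv2.bc k X k) := inferInstance
  haveI : Surjective sm[k, SeparableClosure k] := RatPtsH4.surjective_specMap k _
  obtain ⟨a0, -⟩ := (pullback.fst (X ↘ Spec (CommRingCat.of k))
    sm[k, SeparableClosure k]).surjective ((Curv2.bcFst k X k) z0)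
  haveI : Nonempty ↥(Curv2.bc k X (SeparableClosure k)) := ⟨a0⟩
  haveI : PreconnectedSpace ↥(Curv2.bc k X (SeparableClosure k)) := by
    rw [preconnectedSpace_iff_clopen]
    intro s hs
    by_contra hne
    push_neg at hne
    obtain ⟨hs0, hs1⟩ := hne
    obtain ⟨a, ha⟩ : s.Nonempty := by
      first | exact hs0 | exact Set.nonempty_iff_ne_empty.mpr hs0
    obtain ⟨b, hb⟩ : sᶜ.Nonempty := Set.nonempty_compl.mpr hs1
    obtain ⟨E, hE, hkey⟩ := key_general (X ↘ Spec (CommRingCat.of k)) (SeparableClosure k) s hs a ha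
    haveI := hE
    haveI : ConnectedSpace ↥(pullback (X ↘ Spec (CommRingCat.of k)) sm[k, ↥E]) := h ↥E
    haveI : UniversallyOpen sm[↥E, SeparableClosure k] :=
      GeomIrrSchH4.universallyOpen_specMap (k := ↥E) (SeparableClosure k)
    haveI : IsIntegralHom sm[↥E, SeparableClosure k] :=
      GeomConnPtH4.isIntegralHom_specMap ↥E (SeparableClosure k)
    haveI : UniversallyOpen (bm (X ↘ Spec (CommRingCat.of k)) ↥E (SeparableClosure k)) :=
      MorphismProperty.of_isPullback (P := @UniversallyOpen)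
        (isPullback_bm (X ↘ Spec (CommRingCat.of k)) ↥E (SeparableClosure k)).flip inferInstance
    haveI : IsIntegralHom (bm (X ↘ Spec (CommRingCat.of k)) ↥E (SeparableClosure k)) :=
      MorphismProperty.of_isPullback (P := @IsIntegralHom)
        (isPullback_bm (X ↘ Spec (CommRingCat.of k)) ↥E (SeparableClosure k)).flip inferInstance
    have hopen := (bm (X ↘ Spec (CommRingCat.of k)) ↥E (SeparableClosure k)).isOpenMap
    have hclosed := (bm (X ↘ Spec (CommRingCat.of k)) ↥E (SeparableClosure k)).isClosedMap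
    have h2 : (bm (X ↘ Spec (CommRingCat.of k)) ↥E (SeparableClosure k)) '' sᶜ = Set.univ :=
      (isClopen_iff.mp ⟨hclosed _ hs.compl.1, hopen _ hs.compl.2⟩).resolve_left
        (Set.Nonempty.image _ ⟨b, hb⟩).ne_empty
    obtain ⟨c, hcs, hc⟩ : (bm (X ↘ Spec (CommRingCat.of k)) ↥E (SeparableClosure k)) a ∈
        (bm (X ↘ Spec (CommRingCat.of k)) ↥E (SeparableClosure k)) '' sᶜ := h2 ▸ Set.mem_univ _
    exact hcs (hkey c hc)
  exact { toNonempty := inferInstance }

theorem main7591 (k : Type u) [Field k] (X : Scheme.{u}) [X.Over (Spec (CommRingCat.of k))] :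
    GeometricallyConnected (X ↘ (Spec (CommRingCat.of k))) ↔
      ∀ (k' : Type u) [Field k'] [Algebra k k'] [FiniteDimensional k k']
        [Algebra.IsSeparable k k'], ConnectedSpace ↥(Curv2.bc k X k') := by
  constructor
  · intro h k' _ _ _ _
    exact pullback_of_geometrically h.1 k' _
  · intro h
    haveI := connectedSpace_bc_sepClosure k X h
    exact GeomIrrSchH4.main1559 k X

theorem main2523 {k : Type u} [Field k] {X : Scheme.{u}}
    (f : X ⟶ Spec (CommRingCat.of k))
    (h : ∀ (K : Type u) [Field K] [Algebra k K] [FiniteDimensional k K] [Algebra.IsSeparable k K],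
      ConnectedSpace ↥(FBase.bc f K)) :
    GeometricallyConnected f := by
  letI : X.Over (Spec (CommRingCat.of k)) := ⟨f⟩
  exact (main7591 k X).mpr (fun k' _ _ _ _ => h k')

end Groth.Agent.Lib.GeomConnFinH4
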