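import Mathlib
import Groth.Prelude.Def_Curv2
import Groth.Prelude.Def_FDesc
import Groth.Agent.Lib.GeomConnFin_helper4

set_option autoImplicit false
set_option linter.style.haveILetI false
set_option linter.unusedSectionVars false
universe u
open scoped TensorProduct
open CategoryTheory CategoryTheory.Limits AlgebraicGeometry

namespace Groth.Agent.Lib.GeomCompCardH4

open Groth.Agent.Lib.GeomConnFinH4

local notation:max "sm[" k ", " K "]" => Spec.map (CommRingCat.ofHom (algebraMap k K))

section

variable {k : Type u} [Field k] {X : Scheme.{u}} (f : X ⟶ Spec (CommRingCat.of k))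
variable (K M : Type u) [Field K] [Field M] [Algebra k K] [Algebra k M] [Algebra K M]
  [IsScalarTower k K M]

theorem surjective_bm : Surjective (bm f K M) :=
  haveI : Surjective sm[K, M] := RatPtsH4.surjective_specMap K M
  MorphismProperty.of_isPullback (P := @Surjective) (isPullback_bm f K M).flip inferInstance

theorem universallyOpen_bm : UniversallyOpen (bm f K M) :=
  haveI : UniversallyOpen sm[K, M] := GeomIrrSchH4.universallyOpen_specMap (k := K) M
  MorphismProperty.of_isPullback (P := @UniversallyOpen) (isPullback_bm f K M).flip inferInstance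

theorem card_cc_le :
    Cardinal.mk (_root_.ConnectedComponents ↥(pullback f sm[k, K])) ≤
      Cardinal.mk (_root_.ConnectedComponents ↥(pullback f sm[k, M])) := by
  haveI := surjective_bm f K M
  have hs : Function.Surjective (bm f K M) := (bm f K M).surjective
  have hs' : Function.Surjective
      (Continuous.connectedComponentsMap (bm f K M).continuous) := by
    intro c
    obtain ⟨x, rfl⟩ := ConnectedComponents.surjective_coe c
    obtain ⟨z, rfl⟩ := hs x
    exact ⟨ConnectedComponents.mk z, rfl⟩
  exact Cardinal.mk_le_of_surjective hs'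

theorem card_cc_eq [IsSepClosed K] :
    Cardinal.mk (_root_.ConnectedComponents ↥(pullback f sm[k, M])) =
      Cardinal.mk (_root_.ConnectedComponents ↥(pullback f sm[k, K])) := by
  haveI : GeometricallyConnected sm[K, M] := GeomIrrSchH4.geomConn_specMap (k := K) M
  haveI : GeometricallyConnected (bm f K M) :=
    MorphismProperty.of_isPullback (P := @GeometricallyConnected) (isPullback_bm f K M).flip
      inferInstance
  haveI := universallyOpen_bm f K M
  haveI := surjective_bm f K M
  have hopen : IsOpenMap (bm f K M) := (bm f K M).isOpenMap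
  have hco : Topology.IsCoinducing (bm f K M) :=
    (hopen.isQuotientMap (bm f K M).continuous (bm f K M).surjective).isCoinducing
  have hbij := hco.connectedComponentsMap_bijective
    (fun y => Scheme.Hom.isConnected_preimage_singleton (bm f K M) y)
  exact Cardinal.mk_congr (Equiv.ofBijective _ hbij)

theorem card_irr_le :
    Cardinal.mk ↥(irreducibleComponents ↥(pullback f sm[k, K])) ≤
      Cardinal.mk ↥(irreducibleComponents ↥(pullback f sm[k, M])) := by
  haveI := surjective_bm f K M
  have hs : Function.Surjective (bm f K M) := (bm f K M).surjective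
  have hex : ∀ T : ↥(irreducibleComponents ↥(pullback f sm[k, K])),
      ∃ T' : ↥(irreducibleComponents ↥(pullback f sm[k, M])),
        closure ((bm f K M) '' T'.1) = T.1 := by
    rintro ⟨T, hT⟩
    have hTirr : IsIrreducible T := hT.1
    have hTcl : IsClosed T := isClosed_of_mem_irreducibleComponents T hT
    obtain ⟨t, ht⟩ : ∃ t, IsGenericPoint t T := QuasiSober.sober hTirr hTcl
    obtain ⟨t', rfl⟩ := hs t
    refine ⟨⟨irreducibleComponent t', irreducibleComponent_mem_irreducibleComponents t'⟩, ?_⟩
    have h1 : IsIrreducible (closure ((bm f K M) '' irreducibleComponent t')) :=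
      (isIrreducible_irreducibleComponent.image _ (bm f K M).continuous.continuousOn).closure
    have h2 : T ⊆ closure ((bm f K M) '' irreducibleComponent t') := by
      rw [← ht.def]
      exact closure_mono (Set.singleton_subset_iff.mpr ⟨t', mem_irreducibleComponent, rfl⟩)
    exact Set.Subset.antisymm (hT.2 h1 h2) h2
  choose Φ hΦ using hex
  have hinj : Function.Injective Φ := fun T₁ T₂ h =>
    Subtype.ext (by rw [← hΦ T₁, ← hΦ T₂, h])
  exact Cardinal.mk_le_of_injective hinj

theorem card_irr_eq [IsSepClosed K] :
    Cardinal.mk ↥(irreducibleComponents ↥(pullback f sm[k, M])) =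
      Cardinal.mk ↥(irreducibleComponents ↥(pullback f sm[k, K])) := by
  haveI : GeometricallyIrreducible sm[K, M] := GeomIrrSchH4.geomIrr_specMap (k := K) M
  haveI : GeometricallyIrreducible (bm f K M) :=
    MorphismProperty.of_isPullback (P := @GeometricallyIrreducible) (isPullback_bm f K M).flip
      inferInstance
  haveI := universallyOpen_bm f K M
  have hopen : IsOpenMap (bm f K M) := (bm f K M).isOpenMap
  exact Cardinal.mk_congr (Scheme.Hom.irreducibleComponentsEquiv (bm f K M) hopen)

end

theorem main4618 {k K Ω : Type u} [Field k] [Field K] [Algebra k K]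
    [Field Ω] [Algebra k Ω] [IsAlgClosed Ω] {X : Scheme.{u}} (f : X ⟶ Spec (CommRingCat.of k)) :
    Cardinal.mk (_root_.ConnectedComponents ↥(FBase.bc f K)) ≤
      Cardinal.mk (_root_.ConnectedComponents ↥(FBase.bc f Ω)) := by
  obtain ⟨M, _, iK, iΩ, hcomp⟩ := GeomBC_helper4.exists_compositum k K Ω
  letI : Algebra K M := iK.toAlgebra
  letI : Algebra Ω M := iΩ.toAlgebra
  letI : Algebra k M := (iK.comp (algebraMap k K)).toAlgebra
  haveI : IsScalarTower k K M := IsScalarTower.of_algebraMap_eq (fun _ => rfl)
  haveI : IsScalarTower k Ω M :=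
    IsScalarTower.of_algebraMap_eq (fun x => RingHom.congr_fun hcomp x)
  exact (card_cc_le f K M).trans (card_cc_eq f Ω M).le

theorem main4617 {k K Ω : Type u} [Field k] [Field K] [Algebra k K]
    [Field Ω] [Algebra k Ω] [IsAlgClosed Ω] {X : Scheme.{u}} (f : X ⟶ Spec (CommRingCat.of k)) :
    Cardinal.mk ↥(irreducibleComponents ↥(FBase.bc f K)) ≤
      Cardinal.mk ↥(irreducibleComponents ↥(FBase.bc f Ω)) := by
  obtain ⟨M, _, iK, iΩ, hcomp⟩ := GeomBC_helper4.exists_compositum k K Ω
  letI : Algebra K M := iK.toAlgebra
  letI : Algebra Ω M := iΩ.toAlgebra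
  letI : Algebra k M := (iK.comp (algebraMap k K)).toAlgebra
  haveI : IsScalarTower k K M := IsScalarTower.of_algebraMap_eq (fun _ => rfl)
  haveI : IsScalarTower k Ω M :=
    IsScalarTower.of_algebraMap_eq (fun x => RingHom.congr_fun hcomp x)
  exact (card_irr_le f K M).trans (card_irr_eq f Ω M).le

end Groth.Agent.Lib.GeomCompCardH4
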