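import Mathlib
import Groth.Prelude.Def_Curv2
import Groth.Prelude.Def_FDesc
import Groth.Agent.Lib.RatPts_helper4
import Groth.Agent.Lib.GeomIrrProd_helper4
import Groth.Agent.Lib.GeomConnPt_helper4
import Groth.Agent.Lib.GeomCompCard_helper4
import Groth.Agent.Lib.GeomIrr4_lead

set_option autoImplicit false
set_option linter.style.haveILetI false
set_option linter.unusedSectionVars false

universe u

open scoped TensorProduct
open CategoryTheory CategoryTheory.Limits AlgebraicGeometry

namespace Groth.Agent.Lib.ConnCompCountH4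

local notation:max "sm[" k ", " K "]" => Spec.map (CommRingCat.ofHom (algebraMap k K))

section Topology

theorem exists_inter_connectedComponent {Y : Type*} [TopologicalSpace Y] {ι : Type*} [Finite ι]
    (T : ι → Set Y) (hT : ∀ i, _root_.IsPreconnected (T i))
    (hmeet : ∀ s : Set Y, IsClopen s → s.Nonempty → ∃ i, (T i ∩ s).Nonempty) (y : Y) :
    ∃ i, (T i ∩ connectedComponent y).Nonempty := by
  classical
  haveI := Fintype.ofFinite ι
  have claim : ∀ n : ℕ, ∀ V : Set Y, IsClopen V → y ∈ V →
      (Finset.univ.filter (fun i => (T i ∩ V).Nonempty)).card ≤ n →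
      ∃ i, (T i ∩ connectedComponent y).Nonempty := by
    intro n
    induction n with
    | zero =>
      intro V hV hyV hcard
      obtain ⟨i, hi⟩ := hmeet V hV ⟨y, hyV⟩
      have hmem : i ∈ Finset.univ.filter (fun i => (T i ∩ V).Nonempty) :=
        Finset.mem_filter.mpr ⟨Finset.mem_univ _, hi⟩
      have h0 : (Finset.univ.filter (fun i => (T i ∩ V).Nonempty)) = ∅ :=
        Finset.card_eq_zero.mp (Nat.le_zero.mp hcard)
      rw [h0] at hmem
      exact absurd hmem (Finset.notMem_empty i)
    | succ n ih =>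
      intro V hV hyV hcard
      by_cases hpre : _root_.IsPreconnected V
      · obtain ⟨i, z, hzT, hzV⟩ := hmeet V hV ⟨y, hyV⟩
        exact ⟨i, z, hzT, hpre.subset_connectedComponent hyV hzV⟩
      · have hex : ∃ u v : Set Y, IsOpen u ∧ IsOpen v ∧ V ⊆ u ∪ v ∧ (V ∩ u).Nonempty ∧
            (V ∩ v).Nonempty ∧ ¬ (V ∩ (u ∩ v)).Nonempty := by
          by_contra hcon
          apply hpre
          intro u v hu hv hsub hnu hnv
          by_contra hne
          exact hcon ⟨u, v, hu, hv, hsub, hnu, hnv, hne⟩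
        obtain ⟨u, v, hu, hv, hsub, hnu, hnv, hempty⟩ := hex
        have hAeq : V ∩ u = V ∩ vᶜ := by
          ext z
          constructor
          · rintro ⟨hzV, hzu⟩
            exact ⟨hzV, fun hzv => hempty ⟨z, hzV, hzu, hzv⟩⟩
          · rintro ⟨hzV, hzv⟩
            rcases hsub hzV with h | h
            · exact ⟨hzV, h⟩
            · exact absurd h hzv
        have hBeq : V ∩ v = V ∩ uᶜ := by
          ext z
          constructor
          · rintro ⟨hzV, hzv⟩
            exact ⟨hzV, fun hzu => hempty ⟨z, hzV, hzu, hzv⟩⟩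
          · rintro ⟨hzV, hzu⟩
            rcases hsub hzV with h | h
            · exact absurd h hzu
            · exact ⟨hzV, h⟩
        have hA : IsClopen (V ∩ u) :=
          ⟨hAeq ▸ hV.1.inter hv.isClosed_compl, hV.2.inter hu⟩
        have hB : IsClopen (V ∩ v) :=
          ⟨hBeq ▸ hV.1.inter hu.isClosed_compl, hV.2.inter hv⟩
        have hdisj : Disjoint (V ∩ u) (V ∩ v) :=
          Set.disjoint_left.mpr (fun z hz1 hz2 => hempty ⟨z, hz1.1, hz1.2, hz2.2⟩)
        have step : ∀ A B : Set Y, IsClopen A → IsClopen B → A ⊆ V → B ⊆ V → Disjoint A B →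
            B.Nonempty → y ∈ A → ∃ i, (T i ∩ connectedComponent y).Nonempty := by
          intro A B hA hB hAV hBV hdisj hBne hyA
          apply ih A hA hyA
          obtain ⟨j, hj⟩ := hmeet B hB hBne
          have hsub' : Finset.univ.filter (fun i => (T i ∩ A).Nonempty) ⊆
              (Finset.univ.filter (fun i => (T i ∩ V).Nonempty)).erase j := by
            intro i hi
            rw [Finset.mem_filter] at hi
            rw [Finset.mem_erase, Finset.mem_filter]
            refine ⟨?_, Finset.mem_univ _, hi.2.mono (Set.inter_subset_inter_right _ hAV)⟩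
            rintro rfl
            obtain ⟨a, haT, haA⟩ := hi.2
            obtain ⟨b, hbT, hbB⟩ := hj
            have h1 : T i ⊆ A := (hT i).subset_isClopen hA ⟨a, haT, haA⟩
            exact Set.disjoint_left.mp hdisj (h1 hbT) hbB
          have hjmem : j ∈ Finset.univ.filter (fun i => (T i ∩ V).Nonempty) :=
            Finset.mem_filter.mpr
              ⟨Finset.mem_univ _, hj.mono (Set.inter_subset_inter_right _ hBV)⟩
          have h2 := Finset.card_le_card hsub'
          rw [Finset.card_erase_of_mem hjmem] at h2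
          have h3 : 0 < (Finset.univ.filter (fun i => (T i ∩ V).Nonempty)).card :=
            Finset.card_pos.mpr ⟨j, hjmem⟩
          omega
        rcases hsub hyV with hyu | hyv
        · exact step (V ∩ u) (V ∩ v) hA hB Set.inter_subset_left Set.inter_subset_left hdisj hnv
            ⟨hyV, hyu⟩
        · exact step (V ∩ v) (V ∩ u) hB hA Set.inter_subset_left Set.inter_subset_left
            hdisj.symm hnu ⟨hyV, hyv⟩
  exact claim _ Set.univ isClopen_univ (Set.mem_univ y) le_rfl

theorem finite_connectedComponents_of_cover {Y : Type*} [TopologicalSpace Y] {ι : Type*}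
    [Finite ι] (T : ι → Set Y) (hT : ∀ i, _root_.IsPreconnected (T i))
    (hmeet : ∀ s : Set Y, IsClopen s → s.Nonempty → ∃ i, (T i ∩ s).Nonempty) :
    Finite (_root_.ConnectedComponents Y) ∧
      Nat.card (_root_.ConnectedComponents Y) ≤ Nat.card ι := by
  have hex : ∀ c : _root_.ConnectedComponents Y, ∃ i, ∃ z, z ∈ T i ∧
      (z : _root_.ConnectedComponents Y) = c := by
    intro c
    obtain ⟨y, rfl⟩ := ConnectedComponents.surjective_coe c
    obtain ⟨i, z, hzT, hzc⟩ := exists_inter_connectedComponent T hT hmeet y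
    exact ⟨i, z, hzT, ConnectedComponents.coe_eq_coe'.mpr hzc⟩
  choose g hg using hex
  have hinj : Function.Injective g := by
    intro c c' hcc
    obtain ⟨z, hzT, hzc⟩ := hg c
    obtain ⟨z', hzT', hzc'⟩ := hg c'
    rw [hcc] at hzT
    have h1 : z' ∈ connectedComponent z := (hT (g c')).subset_connectedComponent hzT hzT'
    have h2 : (z' : _root_.ConnectedComponents Y) = z := ConnectedComponents.coe_eq_coe'.mpr h1
    rw [← hzc, ← hzc', h2]
  exact ⟨Finite.of_injective g hinj, Nat.card_le_card_of_injective g hinj⟩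

theorem finite_cc_of_open_closed {A B : Type*} [TopologicalSpace A] [TopologicalSpace B]
    {p : A → B} (ho : IsOpenMap p) (hcl : IsClosedMap p) [PreconnectedSpace B] (b : B)
    {ι : Type*} [Finite ι] (T : ι → Set A) (hT : ∀ i, _root_.IsPreconnected (T i))
    (hb : p ⁻¹' {b} ⊆ ⋃ i, T i) :
    Finite (_root_.ConnectedComponents A) ∧
      Nat.card (_root_.ConnectedComponents A) ≤ Nat.card ι := by
  apply finite_connectedComponents_of_cover T hT
  intro s hs hne
  have h1 : p '' s = Set.univ :=
    (isClopen_iff.mp ⟨hcl s hs.1, ho s hs.2⟩).resolve_left (hne.image p).ne_empty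
  have hbmem : b ∈ p '' s := h1 ▸ Set.mem_univ b
  obtain ⟨a, has, hab⟩ := hbmem
  obtain ⟨i, hi⟩ := Set.mem_iUnion.mp (hb (show a ∈ p ⁻¹' {b} from hab))
  exact ⟨i, a, hi, has⟩

end Topology

section L1

variable (k κ K E : Type u) [Field k] [Field κ] [Field K] [Field E] [Algebra k κ] [Algebra k K]
  [Algebra k E] [Algebra E κ] [IsScalarTower k E κ] [Algebra E K] [IsScalarTower k E K]

/-- The canonical map `κ ⊗[k] K → K ⊗[E] κ`. -/
noncomputable def psi : κ ⊗[k] K →+* K ⊗[E] κ :=
  ((Algebra.TensorProduct.comm E κ K : κ ⊗[E] K ≃ₐ[E] K ⊗[E] κ) :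
      κ ⊗[E] K →+* K ⊗[E] κ).comp
    ((Algebra.TensorProduct.mapOfCompatibleSMul E k k κ K : κ ⊗[k] K →ₐ[k] κ ⊗[E] K) :
      κ ⊗[k] K →+* κ ⊗[E] K)

theorem psi_tmul (x : κ) (y : K) : psi k κ K E (x ⊗ₜ[k] y) = y ⊗ₜ[E] x := by
  change (Algebra.TensorProduct.comm E κ K)
    ((Algebra.TensorProduct.mapOfCompatibleSMul E k k κ K) (x ⊗ₜ[k] y)) = _
  rw [Algebra.TensorProduct.mapOfCompatibleSMul_tmul, Algebra.TensorProduct.comm_tmul]

variable {k κ K E}

theorem isIrreducible_range_psi
    (hE : ∀ a : κ, IsSeparable E a → a ∈ Set.range (algebraMap E κ)) :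
    IsIrreducible (Set.range (PrimeSpectrum.comap (psi k κ K E))) := by
  haveI : IrreducibleSpace (PrimeSpectrum (K ⊗[E] κ)) :=
    Groth.Agent.Lib.GeomIrr.geomIrr_of_sepClosed_in hE K
  have h1 := (IrreducibleSpace.isIrreducible_univ (PrimeSpectrum (K ⊗[E] κ))).image
    (PrimeSpectrum.comap (psi k κ K E))
    (PrimeSpectrum.continuous_comap (psi k κ K E)).continuousOn
  rwa [Set.image_univ] at h1

theorem mem_range_psi (P : PrimeSpectrum (κ ⊗[k] K))
    (hP : ∀ a : E, (algebraMap E κ a) ⊗ₜ[k] (1 : K) - (1 : κ) ⊗ₜ[k] (algebraMap E K a) ∈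
      P.asIdeal) :
    P ∈ Set.range (PrimeSpectrum.comap (psi k κ K E)) := by
  let φ : κ ⊗[k] K →+* P.asIdeal.ResidueField := algebraMap (κ ⊗[k] K) P.asIdeal.ResidueField
  have hφ : ∀ z, φ z = 0 ↔ z ∈ P.asIdeal := fun z => Ideal.algebraMap_residueField_eq_zero
  let i₁ : κ →+* P.asIdeal.ResidueField := φ.comp Algebra.TensorProduct.includeLeftRingHom
  let i₂ : K →+* P.asIdeal.ResidueField :=
    φ.comp (Algebra.TensorProduct.includeRight : K →ₐ[k] κ ⊗[k] K).toRingHom
  let g : κ →ₐ[E] P.asIdeal.ResidueField :=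
    { i₁ with
      commutes' := fun a =>
        (IsScalarTower.algebraMap_apply E (κ ⊗[k] K) P.asIdeal.ResidueField a).symm }
  let f : K →ₐ[E] P.asIdeal.ResidueField :=
    { i₂ with
      commutes' := fun a => by
        rw [IsScalarTower.algebraMap_apply E (κ ⊗[k] K) P.asIdeal.ResidueField a]
        change φ ((1 : κ) ⊗ₜ[k] (algebraMap E K a)) = φ ((algebraMap E κ a) ⊗ₜ[k] (1 : K))
        have h1 := (hφ _).mpr (hP a)
        rw [map_sub, sub_eq_zero] at h1
        exact h1.symm }
  let θ : K ⊗[E] κ →ₐ[E] P.asIdeal.ResidueField :=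
    Algebra.TensorProduct.lift f g (fun _ _ => Commute.all _ _)
  have hθ : ∀ z : κ ⊗[k] K, θ (psi k κ K E z) = φ z := by
    intro z
    induction z using TensorProduct.induction_on with
    | zero => rw [map_zero, map_zero, map_zero]
    | tmul x y =>
      rw [psi_tmul, Algebra.TensorProduct.lift_tmul]
      change φ ((1 : κ) ⊗ₜ[k] y) * φ (x ⊗ₜ[k] (1 : K)) = φ (x ⊗ₜ[k] y)
      rw [← map_mul, Algebra.TensorProduct.tmul_mul_tmul, one_mul, mul_one]
    | add x y hx hy => rw [map_add, map_add, map_add, hx, hy]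
  haveI : (RingHom.ker (θ : K ⊗[E] κ →+* P.asIdeal.ResidueField)).IsPrime :=
    RingHom.ker_isPrime _
  refine ⟨⟨RingHom.ker (θ : K ⊗[E] κ →+* P.asIdeal.ResidueField), inferInstance⟩, ?_⟩
  apply PrimeSpectrum.ext
  ext z
  rw [PrimeSpectrum.comap_asIdeal, Ideal.mem_comap, RingHom.mem_ker]
  change θ (psi k κ K E z) = 0 ↔ z ∈ P.asIdeal
  rw [hθ, hφ]

theorem range_psi_subset (P : PrimeSpectrum (κ ⊗[k] K))
    (hP : P ∈ Set.range (PrimeSpectrum.comap (psi k κ K E))) (a : E) :
    (algebraMap E κ a) ⊗ₜ[k] (1 : K) - (1 : κ) ⊗ₜ[k] (algebraMap E K a) ∈ P.asIdeal := by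
  obtain ⟨Q, rfl⟩ := hP
  rw [PrimeSpectrum.comap_asIdeal, Ideal.mem_comap, map_sub, psi_tmul, psi_tmul]
  have h1 : (algebraMap E K a) ⊗ₜ[E] (1 : κ) = (1 : K) ⊗ₜ[E] (algebraMap E κ a) := by
    rw [Algebra.algebraMap_eq_smul_one, Algebra.algebraMap_eq_smul_one, TensorProduct.smul_tmul]
  rw [h1, sub_self]
  exact zero_mem _

end L1

section L2

variable {k κ K E : Type u} [Field k] [Field κ] [Field K] [Field E] [Algebra k κ] [Algebra k K]
  [Algebra k E] [Algebra E κ] [IsScalarTower k E κ]

theorem exists_sigma [IsSepClosed K] [Algebra.IsSeparable k E] (P : PrimeSpectrum (κ ⊗[k] K)) :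
    ∃ σ : E →ₐ[k] K, ∀ a : E,
      (algebraMap E κ a) ⊗ₜ[k] (1 : K) - (1 : κ) ⊗ₜ[k] (σ a) ∈ P.asIdeal := by
  let φ : κ ⊗[k] K →+* P.asIdeal.ResidueField := algebraMap (κ ⊗[k] K) P.asIdeal.ResidueField
  have hφ : ∀ z, φ z = 0 ↔ z ∈ P.asIdeal := fun z => Ideal.algebraMap_residueField_eq_zero
  let i₁ : κ →+* P.asIdeal.ResidueField := φ.comp Algebra.TensorProduct.includeLeftRingHom
  let i₂ : K →+* P.asIdeal.ResidueField :=
    φ.comp (Algebra.TensorProduct.includeRight : K →ₐ[k] κ ⊗[k] K).toRingHom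
  have htens : ∀ c : k, (algebraMap k κ c) ⊗ₜ[k] (1 : K) = (1 : κ) ⊗ₜ[k] (algebraMap k K c) := by
    intro c
    rw [Algebra.algebraMap_eq_smul_one, Algebra.algebraMap_eq_smul_one, TensorProduct.smul_tmul]
  have hcompat : ∀ c : k, i₁ (algebraMap k κ c) = i₂ (algebraMap k K c) := by
    intro c
    change φ ((algebraMap k κ c) ⊗ₜ[k] (1 : K)) = φ ((1 : κ) ⊗ₜ[k] (algebraMap k K c))
    rw [htens]
  have hi₂ : Function.Injective i₂ := i₂.injective
  have hex : ∀ a : E, ∃ b : K, i₂ b = i₁ (algebraMap E κ a) := by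
    intro a
    have hsep : (minpoly k a).Separable := Algebra.IsSeparable.isSeparable k a
    have hint : IsIntegral k a := (Algebra.IsSeparable.isSeparable k a).isIntegral
    have hsplit : ((minpoly k a).map (algebraMap k K)).Splits :=
      IsSepClosed.splits_codomain (minpoly k a) hsep
    have hne : (minpoly k a).map (algebraMap k K) ≠ 0 :=
      Polynomial.map_ne_zero (minpoly.ne_zero hint)
    have hroot : (((minpoly k a).map (algebraMap k K)).map i₂).IsRoot
        (i₁ (algebraMap E κ a)) := by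
      rw [Polynomial.map_map, Polynomial.IsRoot.def, Polynomial.eval_map]
      have h1 : i₂.comp (algebraMap k K) = i₁.comp (algebraMap k κ) :=
        RingHom.ext (fun c => (hcompat c).symm)
      rw [h1, ← Polynomial.hom_eval₂]
      have h2 : Polynomial.eval₂ (algebraMap k κ) (algebraMap E κ a) (minpoly k a) = 0 := by
        rw [← Polynomial.aeval_def, Polynomial.aeval_algebraMap_apply, minpoly.aeval, map_zero]
      rw [h2, map_zero]
    obtain ⟨b, hb⟩ := hsplit.mem_range_of_isRoot hne hroot
    exact ⟨b, hb⟩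
  choose s hs using hex
  let σ : E →ₐ[k] K :=
    { toFun := s
      map_one' := hi₂ (by rw [hs, map_one, map_one, map_one])
      map_mul' := fun a a' => hi₂ (by rw [hs, map_mul, map_mul, map_mul, hs, hs])
      map_zero' := hi₂ (by rw [hs, map_zero, map_zero, map_zero])
      map_add' := fun a a' => hi₂ (by rw [hs, map_add, map_add, map_add, hs, hs])
      commutes' := fun c => hi₂ (by
        rw [hs, ← IsScalarTower.algebraMap_apply k E κ]
        exact hcompat c) }
  refine ⟨σ, fun a => ?_⟩
  rw [← hφ, map_sub, sub_eq_zero]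
  exact (hs a).symm

theorem exists_cover [IsSepClosed K] [Algebra.IsSeparable k E]
    (hE : ∀ a : κ, IsSeparable E a → a ∈ Set.range (algebraMap E κ)) :
    ∃ T : (E →ₐ[k] K) → Set (PrimeSpectrum (κ ⊗[k] K)),
      (∀ σ, _root_.IsPreconnected (T σ)) ∧ ∀ P, ∃ σ, P ∈ T σ := by
  refine ⟨fun σ => {P | ∀ a : E,
    (algebraMap E κ a) ⊗ₜ[k] (1 : K) - (1 : κ) ⊗ₜ[k] (σ a) ∈ P.asIdeal}, ?_,
    fun P => exists_sigma P⟩
  intro σ
  letI : Algebra E K := σ.toRingHom.toAlgebra
  haveI : IsScalarTower k E K := IsScalarTower.of_algebraMap_eq (fun c => (σ.commutes c).symm)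
  have hirr := isIrreducible_range_psi (k := k) (κ := κ) (K := K) (E := E) hE
  have heq : {P : PrimeSpectrum (κ ⊗[k] K) | ∀ a : E,
      (algebraMap E κ a) ⊗ₜ[k] (1 : K) - (1 : κ) ⊗ₜ[k] (σ a) ∈ P.asIdeal} =
      Set.range (PrimeSpectrum.comap (psi k κ K E)) := by
    ext P
    constructor
    · intro hP
      exact mem_range_psi P hP
    · intro hP a
      exact range_psi_subset P hP a
  beta_reduce
  rw [heq]
  exact hirr.2.isPreconnected

end L2

section Main

attribute [local instance] Curv2.resAlgebra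

theorem main2548 {k Ω : Type u} [Field k] [Field Ω] [Algebra k Ω]
    [IsAlgClosed Ω] {X : Scheme.{u}} [ConnectedSpace X] (f : X ⟶ Spec (CommRingCat.of k)) (x : X) :
    FBase.ResidueFieldProp f x (fun K _ _ =>
      FiniteDimensional k (separableClosure k K) →
        Finite (_root_.ConnectedComponents ↥(FBase.bc f Ω)) ∧
          Nat.card (_root_.ConnectedComponents ↥(FBase.bc f Ω)) ≤
            Module.finrank k (separableClosure k K)) := by
  letI : X.Over (Spec (CommRingCat.of k)) := ⟨f⟩
  refine ⟨Curv2.resMap k X x, (RatPtsH4.fromSpecResidueField_comp k X x).symm, ?_⟩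
  intro hfd
  haveI : FiniteDimensional k ↥(separableClosure k (X.residueField x)) := hfd
  haveI hsc : IsSepClosure k ↥(separableClosure k Ω) := inferInstance
  haveI : IsSepClosed ↥(separableClosure k Ω) := hsc.sep_closed
  haveI : Algebra.IsSeparable k ↥(separableClosure k Ω) := hsc.separable
  haveI : Algebra.IsIntegral k ↥(separableClosure k Ω) := inferInstance
  have hcard := GeomCompCardH4.card_cc_eq f ↥(separableClosure k Ω) Ω
  have hE : ∀ a : X.residueField x,
      IsSeparable ↥(separableClosure k (X.residueField x)) a →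
      a ∈ Set.range (algebraMap ↥(separableClosure k (X.residueField x)) (X.residueField x)) := by
    intro a ha
    have h1 : a ∈ separableClosure ↥(separableClosure k (X.residueField x))
        (X.residueField x) := mem_separableClosure_iff.mpr ha
    rw [separableClosure.separableClosure_eq_bot] at h1
    exact IntermediateField.mem_bot.mp h1
  have key : Finite (_root_.ConnectedComponents
        ↥(pullback f sm[k, ↥(separableClosure k Ω)])) ∧
      Nat.card (_root_.ConnectedComponents ↥(pullback f sm[k, ↥(separableClosure k Ω)])) ≤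
        Module.finrank k ↥(separableClosure k (X.residueField x)) := by
    haveI := GeomIrrSchH4.universallyOpen_specMap (k := k) ↥(separableClosure k Ω)
    haveI := GeomConnPtH4.isIntegralHom_specMap k ↥(separableClosure k Ω)
    have hopen : IsOpenMap (pullback.fst f sm[k, ↥(separableClosure k Ω)]) :=
      (pullback.fst f sm[k, ↥(separableClosure k Ω)]).isOpenMap
    have hclosed : IsClosedMap (pullback.fst f sm[k, ↥(separableClosure k Ω)]) :=
      (pullback.fst f sm[k, ↥(separableClosure k Ω)]).isClosedMap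
    obtain ⟨T, hTpre, hTcov⟩ := exists_cover (k := k) (κ := X.residueField x)
      (K := ↥(separableClosure k Ω)) (E := ↥(separableClosure k (X.residueField x))) hE
    obtain ⟨eF⟩ := GeomIrrProdH4.nonempty_fiberIso k X ↥(separableClosure k Ω) x
    let j : PrimeSpectrum (X.residueField x ⊗[k] ↥(separableClosure k Ω)) →
        ↥(pullback f sm[k, ↥(separableClosure k Ω)]) := fun P =>
      ((pullback.fst f sm[k, ↥(separableClosure k Ω)]).fiberι x) (eF.inv P)
    have hj : Continuous j :=
      ((pullback.fst f sm[k, ↥(separableClosure k Ω)]).fiberι x).continuous.comp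
        eF.inv.continuous
    have hjrange : (pullback.fst f sm[k, ↥(separableClosure k Ω)]) ⁻¹' {x} ⊆ Set.range j := by
      intro z hz
      rw [← Scheme.Hom.range_fiberι] at hz
      obtain ⟨w, rfl⟩ := hz
      refine ⟨eF.hom w, ?_⟩
      change ((pullback.fst f sm[k, ↥(separableClosure k Ω)]).fiberι x)
        (eF.inv (eF.hom w)) = _
      rw [Scheme.hom_inv_apply]
    have hres := finite_cc_of_open_closed hopen hclosed x (fun σ => j '' T σ)
      (fun σ => (hTpre σ).image j hj.continuousOn) (by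
        intro z hz
        obtain ⟨P, rfl⟩ := hjrange hz
        obtain ⟨σ, hσ⟩ := hTcov P
        exact Set.mem_iUnion.mpr ⟨σ, P, hσ, rfl⟩)
    exact ⟨hres.1, hres.2.trans (card_algHom_le_finrank k
      ↥(separableClosure k (X.residueField x)) ↥(separableClosure k Ω))⟩
  obtain ⟨e⟩ := Cardinal.eq.mp hcard
  exact ⟨@Finite.of_equiv _ _ key.1 e.symm, (Nat.card_congr e).trans_le key.2⟩

end Main

end Groth.Agent.Lib.ConnCompCountH4
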