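import Mathlib

/-!
# Base change of geometrically reduced schemes over a field to arbitrary reduced schemes
-/

open CategoryTheory AlgebraicGeometry Limits TensorProduct

universe u

namespace Groth.Agent.Lib.GeomRedBC

/-- Geometric reducedness is stable under precomposition with open immersions. -/
theorem geometricallyReduced_comp_of_isOpenImmersion {U X Y : Scheme.{u}} (j : U ⟶ X) (f : X ⟶ Y)
    [IsOpenImmersion j] [GeometricallyReduced f] : GeometricallyReduced (j ≫ f) := by
  rw [geometricallyReduced_iff]
  intro K _ y Z fst snd h
  have hP : IsReduced (pullback f y) :=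
    pullback_of_geometrically (GeometricallyReduced.geometrically_isReduced (f := f)) K y
  let l : Z ⟶ pullback f y := pullback.lift (fst ≫ j) snd (by simpa using h.w)
  have hl : IsPullback fst l j (pullback.fst f y) := by
    refine IsPullback.of_bot (h₃₁ := y) (v₂₁ := pullback.snd f y) (v₂₂ := f) ?_
      (pullback.lift_fst _ _ _).symm (IsPullback.of_hasPullback f y)
    have e : l ≫ pullback.snd f y = snd := pullback.lift_snd _ _ _
    rw [e]
    exact h
  have : IsOpenImmersion l := MorphismProperty.of_isPullback hl ‹IsOpenImmersion j›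
  exact isReduced_of_isOpenImmersion l

/-- Affine case. -/
theorem isReduced_tensor {k A R : Type u} [Field k] [CommRing A] [CommRing R] [Algebra k A]
    [Algebra k R] [GeometricallyReduced (Spec.map (CommRingCat.ofHom (algebraMap k A)))]
    [_root_.IsReduced R] : _root_.IsReduced (A ⊗[k] R) := by
  apply IsReduced.tensorProduct_of_flat_of_forall_fg
  intro B hB
  have : Algebra.FiniteType k B := (Subalgebra.fg_iff_finiteType B).mp hB
  have : IsNoetherianRing B := Algebra.FiniteType.isNoetherianRing k B
  have : _root_.IsReduced B := isReduced_of_injective B.val Subtype.val_injective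
  have : Flat (Spec.map (CommRingCat.ofHom (algebraMap k A))) := by
    rw [HasRingHomProperty.Spec_iff (P := @Flat)]
    exact (RingHom.flat_algebraMap_iff).mpr inferInstance
  have h : AlgebraicGeometry.IsReduced (pullback (Spec.map (CommRingCat.ofHom (algebraMap k A)))
      (Spec.map (CommRingCat.ofHom (algebraMap k B)))) := inferInstance
  have h2 : AlgebraicGeometry.IsReduced (Spec (.of (A ⊗[k] B))) :=
    isReduced_of_isOpenImmersion (pullbackSpecIso k A B).inv
  exact (affine_isReduced_iff _).mp h2

theorem affine_case {k : Type u} [Field k] (A R : CommRingCat.{u}) (φ : Spec A ⟶ Spec (.of k))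
    (ψ : Spec R ⟶ Spec (.of k)) [GeometricallyReduced φ] [AlgebraicGeometry.IsReduced (Spec R)] :
    AlgebraicGeometry.IsReduced (pullback φ ψ) := by
  obtain ⟨a, rfl⟩ := Spec.map_surjective φ
  obtain ⟨b, rfl⟩ := Spec.map_surjective ψ
  algebraize [a.hom, b.hom]
  have hR : _root_.IsReduced R := (affine_isReduced_iff R).mp inferInstance
  have : GeometricallyReduced (Spec.map (CommRingCat.ofHom (algebraMap k A))) :=
    ‹GeometricallyReduced (Spec.map a)›
  have h := isReduced_tensor (k := k) (A := A) (R := R)
  have h2 : AlgebraicGeometry.IsReduced (Spec (.of (A ⊗[k] R))) := (affine_isReduced_iff _).mpr h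
  exact isReduced_of_isOpenImmersion (pullbackSpecIso k A R).hom

/-- `X` geometrically reduced over a field `k`, `S` reduced over `k`: `X ×ₖ S` is reduced. -/
theorem isReduced_pullback {k : Type u} [Field k] {X S : Scheme.{u}}
    (f : X ⟶ Spec (CommRingCat.of k)) (g : S ⟶ Spec (CommRingCat.of k)) [GeometricallyReduced f]
    [AlgebraicGeometry.IsReduced S] : AlgebraicGeometry.IsReduced (pullback f g) := by
  let 𝒰 := Scheme.Pullback.openCoverOfLeftRight X.affineOpenCover.openCover
    S.affineOpenCover.openCover f g
  apply +allowSynthFailures @IsReduced.of_openCover (𝒰 := 𝒰)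
  rintro ⟨i, j⟩
  have hi : IsOpenImmersion (X.affineOpenCover.openCover.f i) :=
    X.affineOpenCover.openCover.map_prop i
  have hj : IsOpenImmersion (S.affineOpenCover.openCover.f j) :=
    S.affineOpenCover.openCover.map_prop j
  have h1 : GeometricallyReduced (X.affineOpenCover.openCover.f i ≫ f) :=
    geometricallyReduced_comp_of_isOpenImmersion _ _
  have h2 : AlgebraicGeometry.IsReduced (Spec (S.affineOpenCover.X j)) :=
    @isReduced_of_isOpenImmersion _ _ (S.affineOpenCover.openCover.f j) hj _
  exact @affine_case k _ (X.affineOpenCover.X i) (S.affineOpenCover.X j)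
    (X.affineOpenCover.openCover.f i ≫ f) (S.affineOpenCover.openCover.f j ≫ g) h1 h2

end Groth.Agent.Lib.GeomRedBC
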