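import Mathlib
import Groth.Agent.Lib.PerfectRed_lead

set_option autoImplicit false
set_option linter.style.haveILetI false
universe u
open scoped TensorProduct

namespace Groth.Agent.Lib.GeomRedInsepH4

open Groth.Agent.Lib.PerfectRed

theorem eq_zero_of_nilpotent_image {k S : Type u} [Field k] [CommRing S] [Algebra k S]
    (L P : Type u) [Field L] [Field P] [Algebra k L] [Algebra k P] [Algebra L P]
    [IsScalarTower k L P] [IsReduced (L ⊗[k] S)] (y : L ⊗[k] S)
    (hx : IsNilpotent
      (Algebra.TensorProduct.map (IsScalarTower.toAlgHom k L P) (AlgHom.id k S) y)) :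
    y = 0 := by
  have hφ : Function.Injective
      (Algebra.TensorProduct.map (IsScalarTower.toAlgHom k L P) (AlgHom.id k S)) :=
    Module.Flat.rTensor_preserves_injective_linearMap (M := S)
      (IsScalarTower.toAlgHom k L P).toLinearMap (algebraMap L P).injective
  obtain ⟨n, hn⟩ := hx
  have hyn : y ^ n = 0 := hφ (by rw [map_pow, hn, map_zero])
  exact IsReduced.eq_zero y ⟨n, hyn⟩

theorem exists_preimage {k S : Type u} [Field k] [CommRing S] [Algebra k S]
    (L P : Type u) [Field L] [Field P] [Algebra k L] [Algebra k P] [Algebra L P]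
    [IsScalarTower k L P]
    (T : Finset (P × S)) (hT : ∀ i ∈ T, ∃ l : L, algebraMap L P l = i.1) :
    ∃ y : L ⊗[k] S,
      Algebra.TensorProduct.map (IsScalarTower.toAlgHom k L P) (AlgHom.id k S) y =
        T.sum fun i => i.1 ⊗ₜ[k] i.2 := by
  classical
  choose f hf using hT
  refine ⟨T.attach.sum fun i => (f i.1 i.2) ⊗ₜ[k] i.1.2, ?_⟩
  rw [map_sum, ← Finset.sum_attach T]
  refine Finset.sum_congr rfl fun i _ => ?_
  rw [Algebra.TensorProduct.map_tmul]
  exact congrArg (fun a => a ⊗ₜ[k] i.1.2) (hf i.1 i.2)

/-- reducedness of `P ⊗ S` for a purely inseparable `P/k` from the finite purely inseparable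
test. -/
theorem isReduced_of_finite_test {k S : Type u} [Field k] [CommRing S] [Algebra k S]
    (h1 : ∀ (k' : Type u) [Field k'] [Algebra k k'] [Module.Finite k k']
      [IsPurelyInseparable k k'], IsReduced (k' ⊗[k] S))
    (P : Type u) [Field P] [Algebra k P] [IsPurelyInseparable k P] : IsReduced (P ⊗[k] S) := by
  classical
  constructor
  intro x hx
  obtain ⟨T, hT⟩ := TensorProduct.exists_finset x
  haveI : Finite (↑(T.image Prod.fst) : Set P) := (T.image Prod.fst).finite_toSet.to_subtype
  haveI : FiniteDimensional k (IntermediateField.adjoin k (↑(T.image Prod.fst) : Set P)) :=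
    IntermediateField.finiteDimensional_adjoin (fun a _ => IsPurelyInseparable.isIntegral' k a)
  haveI : IsPurelyInseparable k (IntermediateField.adjoin k (↑(T.image Prod.fst) : Set P)) :=
    IsPurelyInseparable.tower_bot k (IntermediateField.adjoin k (↑(T.image Prod.fst) : Set P)) P
  haveI := h1 (IntermediateField.adjoin k (↑(T.image Prod.fst) : Set P))
  have hmem : ∀ i ∈ T, ∃ l : IntermediateField.adjoin k (↑(T.image Prod.fst) : Set P),
      algebraMap (IntermediateField.adjoin k (↑(T.image Prod.fst) : Set P)) P l = i.1 :=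
    fun i hi => ⟨⟨i.1, IntermediateField.subset_adjoin k _
      (Finset.mem_coe.mpr (Finset.mem_image_of_mem Prod.fst hi))⟩, rfl⟩
  obtain ⟨y, hy⟩ := exists_preimage (k := k) (S := S)
    (IntermediateField.adjoin k (↑(T.image Prod.fst) : Set P)) P T hmem
  have hy0 : y = 0 := eq_zero_of_nilpotent_image (k := k) (S := S)
    (IntermediateField.adjoin k (↑(T.image Prod.fst) : Set P)) P y (by rw [hy, ← hT]; exact hx)
  rw [hT, ← hy, hy0, map_zero]

theorem isReduced_of_perfect_sub {k S : Type u} [Field k] [CommRing S] [Algebra k S]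
    (P Ω : Type u) [Field P] [Field Ω] [Algebra k P] [Algebra k Ω] [Algebra P Ω]
    [IsScalarTower k P Ω] [PerfectField P] [IsReduced (P ⊗[k] S)] : IsReduced (Ω ⊗[k] S) := by
  haveI h2 : IsReduced (Ω ⊗[P] (P ⊗[k] S)) := isReduced_tensor_of_perfectField P Ω (P ⊗[k] S)
  exact isReduced_of_injective (Algebra.TensorProduct.cancelBaseChange k P Ω Ω S).symm
    (AlgEquiv.injective _)

theorem main9634 {k S : Type u} [Field k] [CommRing S] [Algebra k S] :
    [∀ (k' : Type u) [Field k'] [Algebra k k'] [Module.Finite k k'] [IsPurelyInseparable k k'],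
        IsReduced (k' ⊗[k] S),
      Algebra.IsGeometricallyReduced k S,
      ∀ (K : Type u) [Field K] [Algebra k K], IsReduced (K ⊗[k] S)].TFAE := by
  tfae_have 1 → 2 := by
    intro h1
    haveI : IsReduced ((perfectClosure k (AlgebraicClosure k)) ⊗[k] S) :=
      isReduced_of_finite_test h1 (perfectClosure k (AlgebraicClosure k))
    haveI : PerfectField (perfectClosure k (AlgebraicClosure k)) := inferInstance
    rw [Algebra.isGeometricallyReduced_field_iff]
    exact isReduced_of_perfect_sub (k := k) (S := S) (perfectClosure k (AlgebraicClosure k))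
      (AlgebraicClosure k)
  tfae_have 2 → 3 := fun h K _ _ => by
    haveI := h
    exact isReduced_tensor_of_isGeometricallyReduced k S K
  tfae_have 3 → 1 := fun h k' _ _ _ _ => h k'
  tfae_finish

end Groth.Agent.Lib.GeomRedInsepH4
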