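import Mathlib
import Groth.Prelude.Def_CurvBase
import Groth.Agent.Lib.GeomRedInsep_helper4

set_option autoImplicit false
set_option linter.style.haveILetI false
set_option linter.unusedSectionVars false
universe u
open scoped TensorProduct
open CategoryTheory CategoryTheory.Limits AlgebraicGeometry

namespace Groth.Agent.Lib.GeomRedSchH4

open Groth.Agent.Lib.GeomRedInsepH4

/-- dictionary: for an affine `k`-scheme `U` with coordinate algebra `Γ(U,⊤)`, the base change
to `K` is reduced iff `K ⊗ Γ(U,⊤)` is. -/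
theorem pullback_reduced_iff (k : Type u) [Field k] (U : Scheme.{u}) [IsAffine U]
    (a : U ⟶ Spec (CommRingCat.of k)) [Algebra k Γ(U, ⊤)]
    (ha : Spec.map (CommRingCat.ofHom (algebraMap k Γ(U, ⊤))) = U.isoSpec.inv ≫ a)
    (K : Type u) [Field K] [Algebra k K] :
    IsReduced (pullback a (Spec.map (CommRingCat.ofHom (algebraMap k K)))) ↔
      _root_.IsReduced (K ⊗[k] Γ(U, ⊤)) := by
  let e1 : pullback a (Spec.map (CommRingCat.ofHom (algebraMap k K))) ≅
      pullback (Spec.map (CommRingCat.ofHom (algebraMap k Γ(U, ⊤))))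
        (Spec.map (CommRingCat.ofHom (algebraMap k K))) :=
    asIso (pullback.map a (Spec.map (CommRingCat.ofHom (algebraMap k K)))
      (Spec.map (CommRingCat.ofHom (algebraMap k Γ(U, ⊤))))
      (Spec.map (CommRingCat.ofHom (algebraMap k K))) U.isoSpec.hom (𝟙 _) (𝟙 _)
      (by rw [ha, Iso.hom_inv_id_assoc, Category.comp_id])
      (by rw [Category.comp_id, Category.id_comp]))
  let e : pullback a (Spec.map (CommRingCat.ofHom (algebraMap k K))) ≅
      Spec (CommRingCat.of (Γ(U, ⊤) ⊗[k] K)) := e1 ≪≫ pullbackSpecIso k Γ(U, ⊤) K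
  constructor
  · intro h
    haveI : IsReduced (Spec (CommRingCat.of (Γ(U, ⊤) ⊗[k] K))) :=
      isReduced_of_isOpenImmersion e.inv
    haveI : _root_.IsReduced (Γ(U, ⊤) ⊗[k] K) :=
      (affine_isReduced_iff (CommRingCat.of (Γ(U, ⊤) ⊗[k] K))).mp inferInstance
    exact isReduced_of_injective (Algebra.TensorProduct.comm k K Γ(U, ⊤)) (AlgEquiv.injective _)
  · intro h
    haveI : _root_.IsReduced (Γ(U, ⊤) ⊗[k] K) :=
      isReduced_of_injective (Algebra.TensorProduct.comm k Γ(U, ⊤) K) (AlgEquiv.injective _)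
    haveI : IsReduced (Spec (CommRingCat.of (Γ(U, ⊤) ⊗[k] K))) := inferInstance
    exact isReduced_of_isOpenImmersion e.hom

theorem geomRed_affine_piece (k : Type u) [Field k] (U : Scheme.{u}) [IsAffine U]
    (a : U ⟶ Spec (CommRingCat.of k))
    (h : ∀ (k' : Type u) [Field k'] [Algebra k k'] [FiniteDimensional k k']
      [IsPurelyInseparable k k'],
      IsReduced (pullback a (Spec.map (CommRingCat.ofHom (algebraMap k k')))))
    (K : Type u) [Field K] (y : Spec (CommRingCat.of K) ⟶ Spec (CommRingCat.of k)) :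
    IsReduced (pullback a y) := by
  obtain ⟨φ, hφ⟩ : ∃ φ : CommRingCat.of k ⟶ Γ(U, ⊤), Spec.map φ = U.isoSpec.inv ≫ a :=
    ⟨Spec.preimage _, Spec.map_preimage _⟩
  letI : Algebra k Γ(U, ⊤) := φ.hom.toAlgebra
  have ha : Spec.map (CommRingCat.ofHom (algebraMap k Γ(U, ⊤))) = U.isoSpec.inv ≫ a := hφ
  obtain ⟨ψ, rfl⟩ : ∃ ψ : CommRingCat.of k ⟶ CommRingCat.of K, Spec.map ψ = y :=
    ⟨Spec.preimage _, Spec.map_preimage _⟩
  letI : Algebra k K := ψ.hom.toAlgebra
  have h1 : ∀ (k' : Type u) [Field k'] [Algebra k k'] [Module.Finite k k']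
      [IsPurelyInseparable k k'], _root_.IsReduced (k' ⊗[k] Γ(U, ⊤)) :=
    fun k' _ _ _ _ => (pullback_reduced_iff k U a ha k').mp (h k')
  have t := (main9634 (k := k) (S := Γ(U, ⊤))).out 0 2
  have h3 := t.mp h1 K
  exact (pullback_reduced_iff k U a ha K).mpr h3

theorem main1548 (k : Type u) [Field k] (p : ℕ) [Fact p.Prime] [CharP k p]
    (X : Scheme.{u}) [X.Over (Spec (CommRingCat.of k))]
    (h : ∀ (k' : Type u) [Field k'] [Algebra k k'] [FiniteDimensional k k']
      [IsPurelyInseparable k k'], IsReduced (Curv2.bc k X k')) :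
    GeometricallyReduced (X ↘ (Spec (CommRingCat.of k))) := by
  refine ⟨fun K _ y Z fst snd hpb => ?_⟩
  haveI : IsReduced (pullback (X ↘ Spec (CommRingCat.of k)) y) := by
    haveI : ∀ i, IsReduced ((Scheme.Pullback.openCoverOfLeft X.affineCover
        (X ↘ Spec (CommRingCat.of k)) y).X i) := by
      intro (i : X.affineCover.I₀)
      show IsReduced (pullback (X.affineCover.f i ≫ (X ↘ Spec (CommRingCat.of k))) y)
      refine geomRed_affine_piece k _ (X.affineCover.f i ≫ (X ↘ Spec (CommRingCat.of k)))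
        (fun k' _ _ _ _ => ?_) K y
      exact @isReduced_of_isOpenImmersion _ _ ((Scheme.Pullback.openCoverOfLeft X.affineCover
          (X ↘ Spec (CommRingCat.of k)) (Spec.map (CommRingCat.ofHom (algebraMap k k')))).f i)
        (Scheme.Cover.map_prop (Scheme.Pullback.openCoverOfLeft X.affineCover
          (X ↘ Spec (CommRingCat.of k)) (Spec.map (CommRingCat.ofHom (algebraMap k k')))) i)
        (h k')
    exact IsReduced.of_openCover _ (Scheme.Pullback.openCoverOfLeft X.affineCover
      (X ↘ Spec (CommRingCat.of k)) y)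
  exact isReduced_of_isOpenImmersion hpb.isoPullback.hom

end Groth.Agent.Lib.GeomRedSchH4
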