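import Mathlib
import Groth.Prelude.Def_FDesc
import Groth.Agent.Lib.GeomRedSch_helper4

set_option autoImplicit false
set_option linter.style.haveILetI false
set_option linter.unusedSectionVars false
universe u
open scoped TensorProduct
open CategoryTheory CategoryTheory.Limits AlgebraicGeometry

namespace Groth.Agent.Lib.GeomRedSch2H4

open Groth.Agent.Lib.GeomRedSchH4 Groth.Agent.Lib.PerfectRed

/-- if `Ω ⊗ A` is reduced for a perfect extension `Ω/k`, then `A` is geometrically reduced. -/
theorem geomRed_of_perfect_ext (k Ω A : Type u) [Field k] [Field Ω] [Algebra k Ω]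
    [PerfectField Ω] [CommRing A] [Algebra k A] [IsReduced (Ω ⊗[k] A)] :
    Algebra.IsGeometricallyReduced k A := by
  rw [Algebra.isGeometricallyReduced_field_iff]
  haveI h1 : IsReduced (AlgebraicClosure Ω ⊗[Ω] (Ω ⊗[k] A)) :=
    isReduced_tensor_of_perfectField Ω (AlgebraicClosure Ω) (Ω ⊗[k] A)
  haveI h2 : IsReduced (AlgebraicClosure Ω ⊗[k] A) :=
    isReduced_of_injective
      (Algebra.TensorProduct.cancelBaseChange k Ω (AlgebraicClosure Ω) (AlgebraicClosure Ω) A).symm
      (AlgEquiv.injective _)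
  let φ : AlgebraicClosure k →ₐ[k] AlgebraicClosure Ω := IsAlgClosed.lift
  exact isReduced_of_injective (Algebra.TensorProduct.map φ (AlgHom.id k A))
    (Module.Flat.rTensor_preserves_injective_linearMap _ (RingHom.injective _))

theorem piece_reduced {S T : Scheme.{u}} (X : Scheme.{u}) (f : X ⟶ S) (χ : T ⟶ S)
    [hr : IsReduced (pullback f χ)] (i : X.affineCover.I₀) :
    IsReduced (pullback (X.affineCover.f i ≫ f) χ) :=
  @isReduced_of_isOpenImmersion _ _ ((Scheme.Pullback.openCoverOfLeft X.affineCover f χ).f i)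
    (Scheme.Cover.map_prop (Scheme.Pullback.openCoverOfLeft X.affineCover f χ) i) hr

theorem reduced_of_pieces {S T : Scheme.{u}} (X : Scheme.{u}) (f : X ⟶ S) (χ : T ⟶ S)
    (H : ∀ i : X.affineCover.I₀, IsReduced (pullback (X.affineCover.f i ≫ f) χ)) :
    IsReduced (pullback f χ) := by
  haveI : ∀ i, IsReduced ((Scheme.Pullback.openCoverOfLeft X.affineCover f χ).X i) :=
    fun i => H i
  exact IsReduced.of_openCover _ (Scheme.Pullback.openCoverOfLeft X.affineCover f χ)

theorem main2536 {k k' : Type u} [Field k] [Field k'] [Algebra k k']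
    [Algebra.IsGeometricallyReduced k k'] {X : Scheme.{u}} (f : X ⟶ Spec (CommRingCat.of k))
    [AlgebraicGeometry.IsReduced X] : AlgebraicGeometry.IsReduced (FBase.bc f k') := by
  show IsReduced (pullback f (Spec.map (CommRingCat.ofHom (algebraMap k k'))))
  refine reduced_of_pieces X f _ (fun i => ?_)
  haveI : IsReduced (X.affineCover.X i) := isReduced_of_isOpenImmersion (X.affineCover.f i)
  obtain ⟨φ, hφ⟩ : ∃ φ : CommRingCat.of k ⟶ Γ(X.affineCover.X i, ⊤),
      Spec.map φ = (X.affineCover.X i).isoSpec.inv ≫ (X.affineCover.f i ≫ f) :=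
    ⟨Spec.preimage _, Spec.map_preimage _⟩
  letI : Algebra k Γ(X.affineCover.X i, ⊤) := φ.hom.toAlgebra
  have ha : Spec.map (CommRingCat.ofHom (algebraMap k Γ(X.affineCover.X i, ⊤))) =
      (X.affineCover.X i).isoSpec.inv ≫ (X.affineCover.f i ≫ f) := hφ
  haveI : _root_.IsReduced Γ(X.affineCover.X i, ⊤) := inferInstance
  refine (pullback_reduced_iff k _ _ ha k').mpr ?_
  exact isReduced_tensor_of_isGeometricallyReduced_of_isReduced k k' Γ(X.affineCover.X i, ⊤)

theorem main2535 {k Ω : Type u} [Field k] [Field Ω] [Algebra k Ω]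
    [PerfectField Ω] {X : Scheme.{u}} (f : X ⟶ Spec (CommRingCat.of k))
    [hr : AlgebraicGeometry.IsReduced (FBase.bc f Ω)] : GeometricallyReduced f := by
  haveI hr' : IsReduced (pullback f (Spec.map (CommRingCat.ofHom (algebraMap k Ω)))) := hr
  refine ⟨fun K _ y Z fst snd hpb => ?_⟩
  haveI : IsReduced (pullback f y) := by
    refine reduced_of_pieces X f y (fun i => ?_)
    obtain ⟨φ, hφ⟩ : ∃ φ : CommRingCat.of k ⟶ Γ(X.affineCover.X i, ⊤),
        Spec.map φ = (X.affineCover.X i).isoSpec.inv ≫ (X.affineCover.f i ≫ f) :=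
      ⟨Spec.preimage _, Spec.map_preimage _⟩
    letI : Algebra k Γ(X.affineCover.X i, ⊤) := φ.hom.toAlgebra
    have ha : Spec.map (CommRingCat.ofHom (algebraMap k Γ(X.affineCover.X i, ⊤))) =
        (X.affineCover.X i).isoSpec.inv ≫ (X.affineCover.f i ≫ f) := hφ
    haveI := piece_reduced X f (Spec.map (CommRingCat.ofHom (algebraMap k Ω))) i
    haveI hΩ : _root_.IsReduced (Ω ⊗[k] Γ(X.affineCover.X i, ⊤)) :=
      (pullback_reduced_iff k _ _ ha Ω).mp inferInstance
    haveI : Algebra.IsGeometricallyReduced k Γ(X.affineCover.X i, ⊤) :=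
      geomRed_of_perfect_ext k Ω _
    obtain ⟨ψ, rfl⟩ : ∃ ψ : CommRingCat.of k ⟶ CommRingCat.of K, Spec.map ψ = y :=
      ⟨Spec.preimage _, Spec.map_preimage _⟩
    letI : Algebra k K := ψ.hom.toAlgebra
    exact (pullback_reduced_iff k _ _ ha K).mpr
      (isReduced_tensor_of_isGeometricallyReduced k Γ(X.affineCover.X i, ⊤) K)
  exact isReduced_of_isOpenImmersion hpb.isoPullback.hom

end Groth.Agent.Lib.GeomRedSch2H4
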