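import Mathlib
import Groth.Prelude.Def_Curv2
import Groth.Prelude.Def_FDesc
import Groth.Agent.Lib.GeomConnPt2_helper4
import Groth.Agent.Lib.GeomRedSch2_helper4
import Groth.Agent.Lib.GeomRedBC_helper9

set_option autoImplicit false
set_option linter.style.haveILetI false
set_option linter.unusedSectionVars false
universe u
open scoped TensorProduct
open CategoryTheory CategoryTheory.Limits AlgebraicGeometry

namespace Groth.Agent.Lib.GeomConnPt3H4

local notation:max "sm[" k ", " K "]" => Spec.map (CommRingCat.ofHom (algebraMap k K))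

attribute [local instance] Curv2.resAlgebra

theorem geomConn_of_sepClosed_pt (k : Type u) [Field k] (X : Scheme.{u})
    [X.Over (Spec (CommRingCat.of k))] [ConnectedSpace X] (x : X)
    (hsc : ∀ α : X.residueField x, IsSeparable k α →
      α ∈ Set.range (algebraMap k (X.residueField x))) :
    GeometricallyConnected (X ↘ Spec (CommRingCat.of k)) := by
  haveI hirr := GeomConnPtH4.irreducibleSpace_fiber_of_sepClosed k X (SeparableClosure k) x hsc
  have hfib : _root_.IsPreconnected ((Curv2.bcFst k X (SeparableClosure k)) ⁻¹' {x}) := by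
    rw [← Scheme.Hom.range_fiberι]
    exact isPreconnected_range ((Curv2.bcFst k X (SeparableClosure k)).fiberι x).continuous
  haveI : ConnectedSpace ↥(Curv2.bc k X (SeparableClosure k)) :=
    GeomConnPtH4.connectedSpace_bc_of_fibre k X (SeparableClosure k) x _ hfib subset_rfl
  exact GeomIrrSchH4.main1559 k X

theorem main1537 (k : Type u) [Field k] (X : Scheme.{u}) [X.Over (Spec (CommRingCat.of k))]
    [ConnectedSpace X] (x : X)
    (hx : ∀ a : X.residueField x, (Curv2.resMap k X x).IsIntegralElem a →
      a ∈ (Curv2.resMap k X x).range) :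
    GeometricallyConnected (X ↘ (Spec (CommRingCat.of k))) := by
  refine geomConn_of_sepClosed_pt k X x (fun α hα => ?_)
  have h1 : IsIntegral k α := hα.isIntegral
  obtain ⟨c, hc⟩ := hx α h1
  exact ⟨c, hc⟩

theorem stepB {k K : Type u} [Field k] [Field K] [Algebra k K]
    {X : Scheme.{u}} (f : X ⟶ Spec (CommRingCat.of k)) (Z : Set ↥X)
    (hA : _root_.IsConnected ((FBase.bcπ f (SeparableClosure k)) ⁻¹' Z)) :
    _root_.IsConnected ((FBase.bcπ f K) ⁻¹' Z) := by
  obtain ⟨Ω, _, iK, iS, hcomp⟩ := GeomBC_helper4.exists_compositum k K (SeparableClosure k)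
  letI : Algebra K Ω := iK.toAlgebra
  letI : Algebra (SeparableClosure k) Ω := iS.toAlgebra
  letI : Algebra k Ω := (iK.comp (algebraMap k K)).toAlgebra
  haveI : IsScalarTower k K Ω := IsScalarTower.of_algebraMap_eq (fun _ => rfl)
  haveI : IsScalarTower k (SeparableClosure k) Ω :=
    IsScalarTower.of_algebraMap_eq (fun x => RingHom.congr_fun hcomp x)
  have hB1 := GeomIrrSchH4.isConnected_preimage (k := SeparableClosure k) Ω
    (FBase.bcStr f (SeparableClosure k)) hA
  have hV : _root_.IsConnected ((FBase.bcπ f Ω) ⁻¹' Z) := by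
    have hcat : (BCPointH4.eBC f (SeparableClosure k) Ω).hom ≫
        FBase.bcπ (FBase.bcStr f (SeparableClosure k)) Ω ≫ FBase.bcπ f (SeparableClosure k) =
        FBase.bcπ f Ω := by
      rw [← Category.assoc, BCPointH4.eBC_hom_fst, BCPointH4.bcMap_fst]
    have h1 : ∀ z, (FBase.bcπ f (SeparableClosure k))
        ((FBase.bcπ (FBase.bcStr f (SeparableClosure k)) Ω)
          ((BCPointH4.eBC f (SeparableClosure k) Ω).hom z)) = (FBase.bcπ f Ω) z := fun z => by
      rw [← hcat, Scheme.Hom.comp_apply, Scheme.Hom.comp_apply]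
    have e : (FBase.bcπ f Ω) ⁻¹' Z =
        (BCPointH4.eBC f (SeparableClosure k) Ω).hom.homeomorph ⁻¹'
          ((FBase.bcπ (FBase.bcStr f (SeparableClosure k)) Ω) ⁻¹'
            ((FBase.bcπ f (SeparableClosure k)) ⁻¹' Z)) := by
      ext z
      constructor
      · intro hz
        show (FBase.bcπ f (SeparableClosure k))
          ((FBase.bcπ (FBase.bcStr f (SeparableClosure k)) Ω)
            ((BCPointH4.eBC f (SeparableClosure k) Ω).hom z)) ∈ Z
        rw [h1]; exact hz
      · intro hz
        have hz' : (FBase.bcπ f (SeparableClosure k))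
          ((FBase.bcπ (FBase.bcStr f (SeparableClosure k)) Ω)
            ((BCPointH4.eBC f (SeparableClosure k) Ω).hom z)) ∈ Z := hz
        rw [h1] at hz'; exact hz'
    rw [e]
    exact (Homeomorph.isConnected_preimage _).mpr hB1
  haveI : Surjective sm[K, Ω] := RatPtsH4.surjective_specMap K Ω
  haveI : Surjective (BCPointH4.bcMap f K Ω) :=
    MorphismProperty.of_isPullback (P := @Surjective) (BCPointH4.isPullback_bcMap f K Ω).flip
      inferInstance
  have hsurj : Function.Surjective (BCPointH4.bcMap f K Ω) := Scheme.Hom.surjective _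
  have e3 : (FBase.bcπ f Ω) ⁻¹' Z =
      (BCPointH4.bcMap f K Ω) ⁻¹' ((FBase.bcπ f K) ⁻¹' Z) := by
    ext z
    show (FBase.bcπ f Ω) z ∈ Z ↔ (FBase.bcπ f K) ((BCPointH4.bcMap f K Ω) z) ∈ Z
    rw [← Scheme.Hom.comp_apply, BCPointH4.bcMap_fst]
  have e2 : (FBase.bcπ f K) ⁻¹' Z =
      (BCPointH4.bcMap f K Ω) '' ((FBase.bcπ f Ω) ⁻¹' Z) := by
    rw [e3, Set.image_preimage_eq _ hsurj]
  rw [e2]
  exact hV.image _ (BCPointH4.bcMap f K Ω).continuous.continuousOn

theorem main4620 {k K : Type u} [Field k] [Field K] [Algebra k K]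
    {X : Scheme.{u}} (f : X ⟶ Spec (CommRingCat.of k)) (Y : Set ↥X)
    (hY : Y ∈ irreducibleComponents ↥X)
    (hgi : ∀ (L : Type u) [Field L] [Algebra k L], IsIrreducible (⇑(FBase.bcπ f L) ⁻¹' Y))
    (y : X) (hy : y ∈ Y) :
    _root_.IsConnected (⇑(FBase.bcπ f K) ⁻¹' connectedComponent y) := by
  refine stepB f (connectedComponent y) ?_
  have hYirr : IsIrreducible Y := hY.1
  have hYsub : Y ⊆ connectedComponent y :=
    hYirr.isConnected.isPreconnected.subset_connectedComponent hy
  haveI := GeomIrrSchH4.universallyOpen_specMap (k := k) (SeparableClosure k)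
  haveI := GeomConnPtH4.isIntegralHom_specMap k (SeparableClosure k)
  haveI : Surjective sm[k, SeparableClosure k] := RatPtsH4.surjective_specMap k _
  have hopen : IsOpenMap (FBase.bcπ f (SeparableClosure k)) :=
    (pullback.fst f sm[k, SeparableClosure k]).isOpenMap
  have hclosed : IsClosedMap (FBase.bcπ f (SeparableClosure k)) :=
    (pullback.fst f sm[k, SeparableClosure k]).isClosedMap
  have hs : Function.Surjective (FBase.bcπ f (SeparableClosure k)) :=
    (pullback.fst f sm[k, SeparableClosure k]).surjective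
  refine ⟨?_, GeomConnPt2H4.isPreconnected_preimage_of_open_closed hopen hclosed
    isPreconnected_connectedComponent y mem_connectedComponent
    ((FBase.bcπ f (SeparableClosure k)) ⁻¹' Y)
    (hgi (SeparableClosure k)).isConnected.isPreconnected ?_ (Set.preimage_mono hYsub)⟩
  · obtain ⟨z, hz⟩ := hs y
    refine ⟨z, ?_⟩
    show (FBase.bcπ f (SeparableClosure k)) z ∈ connectedComponent y
    rw [hz]; exact mem_connectedComponent
  · intro z hz
    show (FBase.bcπ f (SeparableClosure k)) z ∈ Y
    have hz' : (FBase.bcπ f (SeparableClosure k)) z = y := hz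
    rw [hz']; exact hy

theorem geomRed_of_isAlgClosed {k : Type u} [Field k] [IsAlgClosed k] {X : Scheme.{u}}
    (f : X ⟶ Spec (CommRingCat.of k)) [IsReduced X] : GeometricallyReduced f := by
  haveI : IsIso (CommRingCat.ofHom (algebraMap k k)) :=
    (inferInstance : IsIso (𝟙 (CommRingCat.of k)))
  haveI : IsIso sm[k, k] := inferInstance
  haveI : IsReduced (pullback f sm[k, k]) := isReduced_of_isOpenImmersion (pullback.fst f sm[k, k])
  haveI : IsReduced (FBase.bc f k) := ‹IsReduced (pullback f sm[k, k])›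
  exact GeomRedSch2H4.main2535 (Ω := k) f

theorem main1582 (k : Type u) [Field k] [IsAlgClosed k] (X Y : Scheme.{u})
    (f : X ⟶ Spec (CommRingCat.of k)) (g : Y ⟶ Spec (CommRingCat.of k))
    [IsIntegral X] [IsIntegral Y] : IsIntegral (pullback f g) := by
  haveI : GeometricallyReduced f := geomRed_of_isAlgClosed f
  haveI : IsReduced (pullback f g) := Groth.Agent.Lib.GeomRedBC.isReduced_pullback f g
  haveI : GeometricallyIrreducible f := GeomIrrSchH4.main2500 f
  haveI : IrreducibleSpace ↥(pullback f g) := inferInstance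
  exact isIntegral_of_irreducibleSpace_of_isReduced _

end Groth.Agent.Lib.GeomConnPt3H4
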