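import Mathlib
import Groth.Prelude.Def_Curv2
import Groth.Prelude.Def_FDesc
import Groth.Agent.Lib.ConnCompCount_helper4
import Groth.Agent.Lib.GeomConnPt3_helper4
import Groth.Agent.Lib.GeomConnFin_helper4
import Groth.Agent.Lib.GeomCompCard_helper4
import Groth.Agent.Lib.BCPoint_helper4

set_option autoImplicit false
set_option linter.style.haveILetI false
set_option linter.unusedSectionVars false

universe u

open scoped TensorProduct
open CategoryTheory CategoryTheory.Limits AlgebraicGeometry

namespace Groth.Agent.Lib.GeomConnCompsH4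

open Groth.Agent.Lib.GeomConnFinH4 Groth.Agent.Lib.ConnCompCountH4

local notation:max "sm[" k ", " K "]" => Spec.map (CommRingCat.ofHom (algebraMap k K))

attribute [local instance] Curv2.resAlgebra

theorem isOpen_connectedComponent_of_finite {Y : Type*} [TopologicalSpace Y]
    [Finite (_root_.ConnectedComponents Y)] (a : Y) : IsOpen (connectedComponent a) := by
  have h1 : (connectedComponent a)ᶜ =
      ⋃ c ∈ {c : _root_.ConnectedComponents Y | c ≠ ConnectedComponents.mk a},
        ConnectedComponents.mk ⁻¹' {c} := by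
    ext z
    constructor
    · intro hz
      refine Set.mem_iUnion₂.mpr ⟨ConnectedComponents.mk z, ?_, rfl⟩
      intro hc
      exact hz (ConnectedComponents.coe_eq_coe'.mp hc)
    · intro hz
      obtain ⟨c, hc, hzc⟩ := Set.mem_iUnion₂.mp hz
      intro hza
      apply hc
      have h2 : ConnectedComponents.mk z = c := hzc
      rw [← h2]
      exact ConnectedComponents.coe_eq_coe'.mpr hza
  have h2 : IsClosed (connectedComponent a)ᶜ := by
    rw [h1]
    refine Set.Finite.isClosed_biUnion (Set.toFinite _) (fun c _ => ?_)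
    obtain ⟨b, rfl⟩ := ConnectedComponents.surjective_coe c
    rw [connectedComponents_preimage_singleton]
    exact isClosed_connectedComponent
  exact isClosed_compl_iff.mp h2

theorem fibre_cover {k : Type u} [Field k] {X : Scheme.{u}} (f : X ⟶ Spec (CommRingCat.of k))
    (x : X)
    (hx : FBase.ResidueFieldProp f x
      (fun K _ _ => FiniteDimensional k (separableClosure k K)))
    (K : Type u) [Field K] [Algebra k K] [IsSepClosed K] :
    ∃ (ι : Type u) (_ : Finite ι) (T : ι → Set ↥(pullback f sm[k, K])),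
      (∀ i, _root_.IsPreconnected (T i)) ∧
        (pullback.fst f sm[k, K]) ⁻¹' {x} ⊆ ⋃ i, T i := by
  letI : X.Over (Spec (CommRingCat.of k)) := ⟨f⟩
  obtain ⟨φ, hφ, hfd⟩ := hx
  have hφ' : φ = Curv2.resMap k X x := by
    have h1 : Spec.map (CommRingCat.ofHom φ) =
        Spec.map (CommRingCat.ofHom (Curv2.resMap k X x)) := by
      rw [hφ]; exact RatPtsH4.fromSpecResidueField_comp k X x
    exact congrArg CommRingCat.Hom.hom (Spec.map_injective h1)
  subst hφ'
  haveI hfd' : FiniteDimensional k ↥(separableClosure k (X.residueField x)) := hfd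
  have hE : ∀ a : X.residueField x,
      IsSeparable ↥(separableClosure k (X.residueField x)) a →
      a ∈ Set.range (algebraMap ↥(separableClosure k (X.residueField x)) (X.residueField x)) := by
    intro a ha
    have h1 : a ∈ separableClosure ↥(separableClosure k (X.residueField x))
        (X.residueField x) := mem_separableClosure_iff.mpr ha
    rw [separableClosure.separableClosure_eq_bot] at h1
    exact IntermediateField.mem_bot.mp h1
  obtain ⟨T, hTpre, hTcov⟩ := exists_cover (k := k) (κ := X.residueField x)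
    (K := K) (E := ↥(separableClosure k (X.residueField x))) hE
  obtain ⟨eF⟩ := GeomIrrProdH4.nonempty_fiberIso k X K x
  let j : PrimeSpectrum (X.residueField x ⊗[k] K) → ↥(pullback f sm[k, K]) := fun P =>
    ((pullback.fst f sm[k, K]).fiberι x) (eF.inv P)
  have hj : Continuous j :=
    ((pullback.fst f sm[k, K]).fiberι x).continuous.comp eF.inv.continuous
  have hjrange : (pullback.fst f sm[k, K]) ⁻¹' {x} ⊆ Set.range j := by
    intro z hz
    rw [← Scheme.Hom.range_fiberι] at hz
    obtain ⟨w, rfl⟩ := hz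
    refine ⟨eF.hom w, ?_⟩
    change ((pullback.fst f sm[k, K]).fiberι x) (eF.inv (eF.hom w)) = _
    rw [Scheme.hom_inv_apply]
  refine ⟨(↥(separableClosure k (X.residueField x)) →ₐ[k] K), inferInstance,
    fun σ => j '' T σ, fun σ => (hTpre σ).image j hj.continuousOn, ?_⟩
  intro z hz
  obtain ⟨P, rfl⟩ := hjrange hz
  obtain ⟨σ, hσ⟩ := hTcov P
  exact Set.mem_iUnion.mpr ⟨σ, P, hσ, rfl⟩

theorem finite_cc {k : Type u} [Field k] {X : Scheme.{u}} (f : X ⟶ Spec (CommRingCat.of k))
    [Finite (_root_.ConnectedComponents ↥X)]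
    (hx : ∀ c : _root_.ConnectedComponents ↥X, ∃ x : X, ConnectedComponents.mk x = c ∧
      FBase.ResidueFieldProp f x (fun K _ _ => FiniteDimensional k (separableClosure k K)))
    (K : Type u) [Field K] [Algebra k K] [IsSepClosed K] [Algebra.IsIntegral k K] :
    Finite (_root_.ConnectedComponents ↥(pullback f sm[k, K])) := by
  choose xc hxc1 hxc2 using hx
  have hcov := fun c => fibre_cover f (xc c) (hxc2 c) K
  choose ι hιfin T hTpre hTcov using hcov
  haveI : ∀ c, Finite (ι c) := hιfin
  haveI := GeomIrrSchH4.universallyOpen_specMap (k := k) K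
  haveI := GeomConnPtH4.isIntegralHom_specMap k K
  have hopen : IsOpenMap (pullback.fst f sm[k, K]) := (pullback.fst f sm[k, K]).isOpenMap
  have hclosed : IsClosedMap (pullback.fst f sm[k, K]) := (pullback.fst f sm[k, K]).isClosedMap
  refine (finite_connectedComponents_of_cover (ι := Σ c, ι c) (fun p => T p.1 p.2)
    (fun p => hTpre p.1 p.2) ?_).1
  intro s hs hne
  obtain ⟨y, hy⟩ := hne
  have hclopen : IsClopen ((pullback.fst f sm[k, K]) '' s) := ⟨hclosed s hs.1, hopen s hs.2⟩
  have hxin : xc (ConnectedComponents.mk ((pullback.fst f sm[k, K]) y)) ∈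
      (pullback.fst f sm[k, K]) '' s := by
    have h1 : connectedComponent ((pullback.fst f sm[k, K]) y) ⊆
        (pullback.fst f sm[k, K]) '' s := hclopen.connectedComponent_subset ⟨y, hy, rfl⟩
    apply h1
    exact ConnectedComponents.coe_eq_coe'.mp (hxc1 _)
  obtain ⟨a, has, hax⟩ := hxin
  obtain ⟨i, hi⟩ := Set.mem_iUnion.mp (hTcov _ (show a ∈ _ ⁻¹' {_} from hax))
  exact ⟨⟨_, i⟩, a, hi, has⟩

section towers

variable {k : Type u} [Field k] {X : Scheme.{u}} (f : X ⟶ Spec (CommRingCat.of k))

theorem bm_trans (L K M : Type u) [Field L] [Field K] [Field M] [Algebra k L] [Algebra k K]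
    [Algebra k M] [Algebra L K] [Algebra K M] [Algebra L M] [IsScalarTower k L K]
    [IsScalarTower k K M] [IsScalarTower k L M] [IsScalarTower L K M] :
    bm f K M ≫ bm f L K = bm f L M := by
  apply pullback.hom_ext
  · rw [Category.assoc, bm_fst, bm_fst, bm_fst]
  · rw [Category.assoc, bm_snd, ← Category.assoc, bm_snd, Category.assoc, bm_snd]
    congr 1
    exact sm_comp (k := L) K M

theorem key_mono (K : Type u) [Field K] [Algebra k K] (E₁ E₂ : IntermediateField k K)
    (h : E₁ ≤ E₂) (z a : ↥(pullback f sm[k, K]))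
    (hz : (bm f ↥E₂ K) z = (bm f ↥E₂ K) a) : (bm f ↥E₁ K) z = (bm f ↥E₁ K) a := by
  letI : Algebra ↥E₁ ↥E₂ := (IntermediateField.inclusion h).toRingHom.toAlgebra
  haveI : IsScalarTower k ↥E₁ ↥E₂ := IsScalarTower.of_algebraMap_eq (fun c => rfl)
  haveI : IsScalarTower ↥E₁ ↥E₂ K := IsScalarTower.of_algebraMap_eq (fun c => rfl)
  have ht := bm_trans f ↥E₁ ↥E₂ K
  rw [← ht, Scheme.Hom.comp_apply, Scheme.Hom.comp_apply, hz]

theorem exists_field (K : Type u) [Field K] [Algebra k K] [Algebra.IsAlgebraic k K]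
    [Finite (_root_.ConnectedComponents ↥(pullback f sm[k, K]))] :
    ∃ E : IntermediateField k K, FiniteDimensional k E ∧
      ∀ x' : ↥(pullback f sm[k, ↥E]),
        _root_.IsConnected ((bm f ↥E K) ⁻¹' connectedComponent x') := by
  classical
  have hclopen : ∀ a : ↥(pullback f sm[k, K]), IsClopen (connectedComponent a) := fun a =>
    ⟨isClosed_connectedComponent, isOpen_connectedComponent_of_finite a⟩
  have hrep : ∀ c : _root_.ConnectedComponents ↥(pullback f sm[k, K]),
      ∃ a, ConnectedComponents.mk a = c := ConnectedComponents.surjective_coe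
  choose rep hrep using hrep
  have hE := fun c => key_general f K (connectedComponent (rep c)) (hclopen (rep c)) (rep c)
    mem_connectedComponent
  choose Ec hEfd hEprop using hE
  haveI : ∀ c, FiniteDimensional k ↥(Ec c) := hEfd
  refine ⟨⨆ c, Ec c, IntermediateField.finiteDimensional_iSup_of_finite, ?_⟩
  haveI : Algebra.IsIntegral ↥(⨆ c, Ec c) K := inferInstance
  haveI := GeomCompCardH4.universallyOpen_bm f ↥(⨆ c, Ec c) K
  haveI := GeomCompCardH4.surjective_bm f ↥(⨆ c, Ec c) K
  haveI := GeomConnPtH4.isIntegralHom_specMap ↥(⨆ c, Ec c) K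
  haveI : IsIntegralHom (bm f ↥(⨆ c, Ec c) K) :=
    MorphismProperty.of_isPullback (P := @IsIntegralHom)
      (isPullback_bm f ↥(⨆ c, Ec c) K).flip inferInstance
  have hopen : IsOpenMap (bm f ↥(⨆ c, Ec c) K) := (bm f ↥(⨆ c, Ec c) K).isOpenMap
  have hclosed : IsClosedMap (bm f ↥(⨆ c, Ec c) K) := (bm f ↥(⨆ c, Ec c) K).isClosedMap
  have himg : ∀ b : ↥(pullback f sm[k, K]),
      (bm f ↥(⨆ c, Ec c) K) '' connectedComponent b =
        connectedComponent ((bm f ↥(⨆ c, Ec c) K) b) := by
    intro b
    apply Set.Subset.antisymm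
    · exact (isPreconnected_connectedComponent.image _
        (bm f ↥(⨆ c, Ec c) K).continuous.continuousOn).subset_connectedComponent
        ⟨b, mem_connectedComponent, rfl⟩
    · have hcl : IsClopen ((bm f ↥(⨆ c, Ec c) K) '' connectedComponent b) :=
        ⟨hclosed _ (hclopen b).1, hopen _ (hclopen b).2⟩
      exact hcl.connectedComponent_subset ⟨b, mem_connectedComponent, rfl⟩
  have hfib : ∀ a z : ↥(pullback f sm[k, K]),
      (bm f ↥(⨆ c, Ec c) K) z = (bm f ↥(⨆ c, Ec c) K) a → z ∈ connectedComponent a := by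
    intro a z hz
    have hra : rep (ConnectedComponents.mk a) ∈ connectedComponent a :=
      ConnectedComponents.coe_eq_coe'.mp (hrep (ConnectedComponents.mk a))
    have hcc : connectedComponent (rep (ConnectedComponents.mk a)) = connectedComponent a :=
      connectedComponent_eq_iff_mem.mpr hra
    have h1 : (bm f ↥(⨆ c, Ec c) K) (rep (ConnectedComponents.mk a)) ∈
        (bm f ↥(⨆ c, Ec c) K) '' connectedComponent z := by
      rw [himg z, hz, ← himg a]
      exact ⟨_, hra, rfl⟩
    obtain ⟨z', hz'mem, hz'eq⟩ := h1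
    have h2 : (bm f ↥(Ec (ConnectedComponents.mk a)) K) z' =
        (bm f ↥(Ec (ConnectedComponents.mk a)) K) (rep (ConnectedComponents.mk a)) :=
      key_mono f K _ _ (le_iSup Ec (ConnectedComponents.mk a)) z' _ hz'eq
    have h3 : z' ∈ connectedComponent (rep (ConnectedComponents.mk a)) :=
      hEprop (ConnectedComponents.mk a) z' h2
    have h4 : connectedComponent z' = connectedComponent z :=
      connectedComponent_eq_iff_mem.mpr hz'mem
    have h5 : connectedComponent z' = connectedComponent (rep (ConnectedComponents.mk a)) :=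
      connectedComponent_eq_iff_mem.mpr h3
    have h6 : z ∈ connectedComponent z := mem_connectedComponent
    rw [← h4, h5, hcc] at h6
    exact h6
  intro x'
  obtain ⟨a, rfl⟩ := (bm f ↥(⨆ c, Ec c) K).surjective x'
  have heq : (bm f ↥(⨆ c, Ec c) K) ⁻¹' connectedComponent ((bm f ↥(⨆ c, Ec c) K) a) =
      connectedComponent a := by
    apply Set.Subset.antisymm
    · intro z hz
      have hz' : (bm f ↥(⨆ c, Ec c) K) z ∈ (bm f ↥(⨆ c, Ec c) K) '' connectedComponent a := by
        rw [himg a]; exact hz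
      obtain ⟨a', ha'mem, ha'eq⟩ := hz'
      have h1 : z ∈ connectedComponent a' := hfib a' z ha'eq.symm
      rwa [connectedComponent_eq_iff_mem.mpr ha'mem] at h1
    · intro z hz
      have h1 : (bm f ↥(⨆ c, Ec c) K) z ∈ (bm f ↥(⨆ c, Ec c) K) '' connectedComponent a :=
        ⟨z, hz, rfl⟩
      rw [himg a] at h1
      exact h1
  rw [heq]
  exact isConnected_connectedComponent

end towers

theorem stepB' {k K : Type u} [Field k] [Field K] [Algebra k K]
    {X : Scheme.{u}} (f : X ⟶ Spec (CommRingCat.of k)) (S : Type u) [Field S] [Algebra k S]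
    [IsSepClosed S] (Z : Set ↥X)
    (hA : _root_.IsConnected ((FBase.bcπ f S) ⁻¹' Z)) :
    _root_.IsConnected ((FBase.bcπ f K) ⁻¹' Z) := by
  obtain ⟨Ω, _, iK, iS, hcomp⟩ := GeomBC_helper4.exists_compositum k K S
  letI : Algebra K Ω := iK.toAlgebra
  letI : Algebra S Ω := iS.toAlgebra
  letI : Algebra k Ω := (iK.comp (algebraMap k K)).toAlgebra
  haveI : IsScalarTower k K Ω := IsScalarTower.of_algebraMap_eq (fun _ => rfl)
  haveI : IsScalarTower k S Ω :=
    IsScalarTower.of_algebraMap_eq (fun x => RingHom.congr_fun hcomp x)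
  have hB1 := GeomIrrSchH4.isConnected_preimage (k := S) Ω (FBase.bcStr f S) hA
  have hV : _root_.IsConnected ((FBase.bcπ f Ω) ⁻¹' Z) := by
    have hcat : (BCPointH4.eBC f S Ω).hom ≫
        FBase.bcπ (FBase.bcStr f S) Ω ≫ FBase.bcπ f S = FBase.bcπ f Ω := by
      rw [← Category.assoc, BCPointH4.eBC_hom_fst, BCPointH4.bcMap_fst]
    have h1 : ∀ z, (FBase.bcπ f S)
        ((FBase.bcπ (FBase.bcStr f S) Ω)
          ((BCPointH4.eBC f S Ω).hom z)) = (FBase.bcπ f Ω) z := fun z => by
      rw [← hcat, Scheme.Hom.comp_apply, Scheme.Hom.comp_apply]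
    have e : (FBase.bcπ f Ω) ⁻¹' Z =
        (BCPointH4.eBC f S Ω).hom.homeomorph ⁻¹'
          ((FBase.bcπ (FBase.bcStr f S) Ω) ⁻¹' ((FBase.bcπ f S) ⁻¹' Z)) := by
      ext z
      constructor
      · intro hz
        show (FBase.bcπ f S) ((FBase.bcπ (FBase.bcStr f S) Ω)
            ((BCPointH4.eBC f S Ω).hom z)) ∈ Z
        rw [h1]; exact hz
      · intro hz
        have hz' : (FBase.bcπ f S) ((FBase.bcπ (FBase.bcStr f S) Ω)
            ((BCPointH4.eBC f S Ω).hom z)) ∈ Z := hz
        rw [h1] at hz'; exact hz'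
    rw [e]
    exact (Homeomorph.isConnected_preimage _).mpr hB1
  haveI : Surjective sm[K, Ω] := RatPtsH4.surjective_specMap K Ω
  haveI : Surjective (BCPointH4.bcMap f K Ω) :=
    MorphismProperty.of_isPullback (P := @Surjective) (BCPointH4.isPullback_bcMap f K Ω).flip
      inferInstance
  have hsurj : Function.Surjective (BCPointH4.bcMap f K Ω) := Scheme.Hom.surjective _
  have e3 : (FBase.bcπ f Ω) ⁻¹' Z =
      (BCPointH4.bcMap f K Ω) ⁻¹' ((FBase.bcπ f K) ⁻¹' Z) := by
    ext z
    show (FBase.bcπ f Ω) z ∈ Z ↔ (FBase.bcπ f K) ((BCPointH4.bcMap f K Ω) z) ∈ Z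
    rw [← Scheme.Hom.comp_apply, BCPointH4.bcMap_fst]
  have e2 : (FBase.bcπ f K) ⁻¹' Z =
      (BCPointH4.bcMap f K Ω) '' ((FBase.bcπ f Ω) ⁻¹' Z) := by
    rw [e3, Set.image_preimage_eq _ hsurj]
  rw [e2]
  exact hV.image _ (BCPointH4.bcMap f K Ω).continuous.continuousOn

theorem main4645 {k : Type u} [Field k] {X : Scheme.{u}}
    (f : X ⟶ Spec (CommRingCat.of k)) [Finite (_root_.ConnectedComponents ↥X)]
    (hx : ∀ c : _root_.ConnectedComponents ↥X, ∃ x : X, _root_.ConnectedComponents.mk x = c ∧
      FBase.ResidueFieldProp f x (fun K _ _ => FiniteDimensional k (separableClosure k K))) :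
    ∃ (k'' : Type u) (_ : Field k'') (_ : Algebra k k''), FiniteDimensional k k'' ∧
      Algebra.IsSeparable k k'' ∧
      ∀ (K : Type u) [Field K] [Algebra k'' K] (x' : ↥(FBase.bc f k'')),
        _root_.IsConnected (⇑(FBase.bcπ (FBase.bcStr f k'') K) ⁻¹' connectedComponent x') := by
  haveI : Finite (_root_.ConnectedComponents ↥(pullback f sm[k, SeparableClosure k])) :=
    finite_cc f hx (SeparableClosure k)
  obtain ⟨E, hEfd, hEprop⟩ := exists_field f (SeparableClosure k)
  refine ⟨↥E, inferInstance, inferInstance, hEfd, inferInstance, ?_⟩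
  intro K _ _ x'
  refine stepB' (FBase.bcStr f ↥E) (SeparableClosure k) (connectedComponent x') ?_
  have h0 : _root_.IsConnected ((BCPointH4.bcMap f ↥E (SeparableClosure k)) ⁻¹'
      connectedComponent x') := hEprop x'
  have e : (BCPointH4.bcMap f ↥E (SeparableClosure k)) ⁻¹' connectedComponent x' =
      (BCPointH4.eBC f ↥E (SeparableClosure k)).hom.homeomorph ⁻¹'
        ((FBase.bcπ (FBase.bcStr f ↥E) (SeparableClosure k)) ⁻¹' connectedComponent x') := by
    ext z
    show (BCPointH4.bcMap f ↥E (SeparableClosure k)) z ∈ connectedComponent x' ↔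
      (FBase.bcπ (FBase.bcStr f ↥E) (SeparableClosure k))
        ((BCPointH4.eBC f ↥E (SeparableClosure k)).hom z) ∈ connectedComponent x'
    rw [← Scheme.Hom.comp_apply, BCPointH4.eBC_hom_fst]
  rw [e] at h0
  exact (Homeomorph.isConnected_preimage _).mp h0

end Groth.Agent.Lib.GeomConnCompsH4
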