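import Mathlib
import Groth.Prelude.Def_Curv2
import Groth.Prelude.Def_FDesc
import Groth.Agent.Lib.ConnCompCount_helper4
import Groth.Agent.Lib.GeomConnComps_helper4
import Groth.Agent.Lib.GeomConnPt3_helper4
import Groth.Agent.Lib.GeomConnFin_helper4
import Groth.Agent.Lib.GeomCompCard_helper4
import Groth.Agent.Lib.BCPoint_helper4
import Groth.Agent.Lib.GeomIrrSch_helper4

set_option autoImplicit false
set_option linter.style.haveILetI false
set_option linter.unusedSectionVars false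

universe u

open scoped TensorProduct
open CategoryTheory CategoryTheory.Limits AlgebraicGeometry

namespace Groth.Agent.Lib.GeomIrrCompsH4

open Groth.Agent.Lib.GeomConnFinH4 Groth.Agent.Lib.ConnCompCountH4
  Groth.Agent.Lib.GeomConnCompsH4

local notation:max "sm[" k ", " K "]" => Spec.map (CommRingCat.ofHom (algebraMap k K))

attribute [local instance] Curv2.resAlgebra

section Topology

theorem isIrreducible_homeomorph_preimage {A B : Type*} [TopologicalSpace A] [TopologicalSpace B]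
    (h : A ≃ₜ B) {s : Set B} (hs : IsIrreducible s) : IsIrreducible (h ⁻¹' s) := by
  have e : h ⁻¹' s = h.symm '' s := by
    ext a
    constructor
    · intro ha
      exact ⟨h a, ha, h.symm_apply_apply a⟩
    · rintro ⟨b, hb, rfl⟩
      show h (h.symm b) ∈ s
      rw [h.apply_symm_apply]
      exact hb
  rw [e]
  exact hs.image _ h.symm.continuous.continuousOn

theorem isIrreducible_of_homeomorph_preimage {A B : Type*} [TopologicalSpace A]
    [TopologicalSpace B] (h : A ≃ₜ B) {s : Set B} (hs : IsIrreducible (h ⁻¹' s)) :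
    IsIrreducible s := by
  have e : s = h '' (h ⁻¹' s) := (Set.image_preimage_eq s h.surjective).symm
  rw [e]
  exact hs.image _ h.continuous.continuousOn

theorem finite_irr_of_cover {A B : Type*} [TopologicalSpace A] [TopologicalSpace B]
    [QuasiSober A] {π : A → B} (hopen : IsOpenMap π)
    (ξ : ↥(irreducibleComponents B) → B) (hξ : ∀ c, IsGenericPoint (ξ c) c.1)
    (ι : ↥(irreducibleComponents B) → Type*) [Finite ↥(irreducibleComponents B)]
    [∀ c, Finite (ι c)]
    (T : ∀ c, ι c → Set A) (hT : ∀ c i, IsIrreducible (T c i))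
    (hcov : ∀ c, π ⁻¹' {ξ c} ⊆ ⋃ i, T c i) :
    Finite ↥(irreducibleComponents A) := by
  have hsub : irreducibleComponents A ⊆
      Set.range (fun p : Σ c, ι c => closure (T p.1 p.2)) := by
    intro W hW
    have hWcl : IsClosed W := isClosed_of_mem_irreducibleComponents W hW
    obtain ⟨η, hgen⟩ : ∃ η, IsGenericPoint η W := QuasiSober.sober hW.1 hWcl
    have hc₀ : irreducibleComponent (π η) ∈ irreducibleComponents B :=
      irreducibleComponent_mem_irreducibleComponents _
    have hspec : ξ ⟨irreducibleComponent (π η), hc₀⟩ ⤳ π η := by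
      rw [specializes_iff_mem_closure, (hξ ⟨irreducibleComponent (π η), hc₀⟩).def]
      exact mem_irreducibleComponent
    have hηcl : η ∈ closure (π ⁻¹' {ξ ⟨irreducibleComponent (π η), hc₀⟩}) := by
      rw [mem_closure_iff]
      intro o ho hηo
      have h1 : ξ ⟨irreducibleComponent (π η), hc₀⟩ ∈ π '' o :=
        hspec.mem_open (hopen o ho) ⟨η, hηo, rfl⟩
      obtain ⟨z', hz'o, hz'⟩ := h1
      exact ⟨z', hz'o, hz'⟩
    have h2 : η ∈ closure (⋃ i, T ⟨irreducibleComponent (π η), hc₀⟩ i) :=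
      closure_mono (hcov ⟨irreducibleComponent (π η), hc₀⟩) hηcl
    rw [closure_iUnion_of_finite] at h2
    obtain ⟨i, hi⟩ := Set.mem_iUnion.mp h2
    have hWsub : W ⊆ closure (T ⟨irreducibleComponent (π η), hc₀⟩ i) := by
      rw [← hgen.def]
      exact closure_minimal (Set.singleton_subset_iff.mpr hi) isClosed_closure
    have hirr : IsIrreducible (closure (T ⟨irreducibleComponent (π η), hc₀⟩ i)) :=
      (hT ⟨irreducibleComponent (π η), hc₀⟩ i).closure
    exact ⟨⟨⟨irreducibleComponent (π η), hc₀⟩, i⟩,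
      Set.Subset.antisymm (hW.2 hirr hWsub) hWsub⟩
  exact Set.finite_coe_iff.mpr ((Set.finite_range _).subset hsub)

theorem isIrreducible_preimage_of_sep {A B : Type*} [TopologicalSpace A] [TopologicalSpace B]
    [QuasiSober B] {ρ : A → B} (hcont : Continuous ρ) (hopen : IsOpenMap ρ)
    (hclosed : IsClosedMap ρ) (hsurj : Function.Surjective ρ)
    (hsep : ∀ W₁ W₂ : Set A, W₁ ∈ irreducibleComponents A → W₂ ∈ irreducibleComponents A →
      W₁ ≠ W₂ → ¬ ρ '' W₁ ⊆ ρ '' W₂)
    (W'' : Set B) (hW'' : W'' ∈ irreducibleComponents B) : IsIrreducible (ρ ⁻¹' W'') := by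
  have hW''cl : IsClosed W'' := isClosed_of_mem_irreducibleComponents W'' hW''
  obtain ⟨η, hgen⟩ : ∃ η, IsGenericPoint η W'' := QuasiSober.sober hW''.1 hW''cl
  obtain ⟨z₀, hz₀⟩ := hsurj η
  have hB : ∀ z : A, ρ z = η → ρ '' irreducibleComponent z = W'' := by
    intro z hz
    have hirr : IsIrreducible (ρ '' irreducibleComponent z) :=
      isIrreducible_irreducibleComponent.image ρ hcont.continuousOn
    have hcl : IsClosed (ρ '' irreducibleComponent z) := hclosed _ isClosed_irreducibleComponent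
    have hsub : W'' ⊆ ρ '' irreducibleComponent z := by
      rw [← hgen.def]
      exact closure_minimal (Set.singleton_subset_iff.mpr ⟨z, mem_irreducibleComponent, hz⟩) hcl
    exact Set.Subset.antisymm (hW''.2 hirr hsub) hsub
  have hC : ∀ z : A, ρ z = η → z ∈ irreducibleComponent z₀ := by
    intro z hz
    by_contra hne
    have hne' : irreducibleComponent z ≠ irreducibleComponent z₀ := by
      intro h
      apply hne
      rw [← h]
      exact mem_irreducibleComponent
    apply hsep _ _ (irreducibleComponent_mem_irreducibleComponents z)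
      (irreducibleComponent_mem_irreducibleComponents z₀) hne'
    rw [hB z hz, hB z₀ hz₀]
  have hD : ρ ⁻¹' W'' ⊆ irreducibleComponent z₀ := by
    intro z hz
    have hspec : η ⤳ ρ z := by
      rw [specializes_iff_mem_closure, hgen.def]
      exact hz
    have hzcl : z ∈ closure (ρ ⁻¹' {η}) := by
      rw [mem_closure_iff]
      intro o ho hzo
      have h1 : η ∈ ρ '' o := hspec.mem_open (hopen o ho) ⟨z, hzo, rfl⟩
      obtain ⟨z', hz'o, hz'⟩ := h1
      exact ⟨z', hz'o, hz'⟩
    exact closure_minimal (fun z' hz' => hC z' hz') isClosed_irreducibleComponent hzcl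
  have heq : ρ ⁻¹' W'' = irreducibleComponent z₀ := by
    apply Set.Subset.antisymm hD
    intro z hz
    show ρ z ∈ W''
    rw [← hB z₀ hz₀]
    exact ⟨z, hz, rfl⟩
  rw [heq]
  exact isIrreducible_irreducibleComponent

end Topology

section Cover

theorem exists_cover_irr {k κ K E : Type u} [Field k] [Field κ] [Field K] [Field E]
    [Algebra k κ] [Algebra k K] [Algebra k E] [Algebra E κ] [IsScalarTower k E κ]
    [IsSepClosed K] [Algebra.IsSeparable k E]
    (hE : ∀ a : κ, IsSeparable E a → a ∈ Set.range (algebraMap E κ)) :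
    ∃ T : (E →ₐ[k] K) → Set (PrimeSpectrum (κ ⊗[k] K)),
      (∀ σ, IsIrreducible (T σ)) ∧ ∀ P, ∃ σ, P ∈ T σ := by
  refine ⟨fun σ => {P | ∀ a : E,
    (algebraMap E κ a) ⊗ₜ[k] (1 : K) - (1 : κ) ⊗ₜ[k] (σ a) ∈ P.asIdeal}, ?_,
    fun P => exists_sigma P⟩
  intro σ
  letI : Algebra E K := σ.toRingHom.toAlgebra
  haveI : IsScalarTower k E K := IsScalarTower.of_algebraMap_eq (fun c => (σ.commutes c).symm)
  have hirr := isIrreducible_range_psi (k := k) (κ := κ) (K := K) (E := E) hE
  have heq : {P : PrimeSpectrum (κ ⊗[k] K) | ∀ a : E,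
      (algebraMap E κ a) ⊗ₜ[k] (1 : K) - (1 : κ) ⊗ₜ[k] (σ a) ∈ P.asIdeal} =
      Set.range (PrimeSpectrum.comap (psi k κ K E)) := by
    ext P
    constructor
    · intro hP
      exact mem_range_psi P hP
    · intro hP a
      exact range_psi_subset P hP a
  beta_reduce
  rw [heq]
  exact hirr

theorem fibre_cover_irr {k : Type u} [Field k] {X : Scheme.{u}}
    (f : X ⟶ Spec (CommRingCat.of k)) (x : X)
    (hx : FBase.ResidueFieldProp f x
      (fun K _ _ => FiniteDimensional k (separableClosure k K)))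
    (K : Type u) [Field K] [Algebra k K] [IsSepClosed K] :
    ∃ (ι : Type u) (_ : Finite ι) (T : ι → Set ↥(pullback f sm[k, K])),
      (∀ i, IsIrreducible (T i)) ∧
        (pullback.fst f sm[k, K]) ⁻¹' {x} ⊆ ⋃ i, T i := by
  letI : X.Over (Spec (CommRingCat.of k)) := ⟨f⟩
  obtain ⟨φ, hφ, hfd⟩ := hx
  have hφ' : φ = Curv2.resMap k X x := by
    have h1 : Spec.map (CommRingCat.ofHom φ) =
        Spec.map (CommRingCat.ofHom (Curv2.resMap k X x)) := by
      rw [hφ]; exact RatPtsH4.fromSpecResidueField_comp k X x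
    exact congrArg CommRingCat.Hom.hom (Spec.map_injective h1)
  subst hφ'
  haveI hfd' : FiniteDimensional k ↥(separableClosure k (X.residueField x)) := hfd
  have hE : ∀ a : X.residueField x,
      IsSeparable ↥(separableClosure k (X.residueField x)) a →
      a ∈ Set.range (algebraMap ↥(separableClosure k (X.residueField x)) (X.residueField x)) := by
    intro a ha
    have h1 : a ∈ separableClosure ↥(separableClosure k (X.residueField x))
        (X.residueField x) := mem_separableClosure_iff.mpr ha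
    rw [separableClosure.separableClosure_eq_bot] at h1
    exact IntermediateField.mem_bot.mp h1
  obtain ⟨T, hTirr, hTcov⟩ := exists_cover_irr (k := k) (κ := X.residueField x)
    (K := K) (E := ↥(separableClosure k (X.residueField x))) hE
  obtain ⟨eF⟩ := GeomIrrProdH4.nonempty_fiberIso k X K x
  let j : PrimeSpectrum (X.residueField x ⊗[k] K) → ↥(pullback f sm[k, K]) := fun P =>
    ((pullback.fst f sm[k, K]).fiberι x) (eF.inv P)
  have hj : Continuous j :=
    ((pullback.fst f sm[k, K]).fiberι x).continuous.comp eF.inv.continuous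
  have hjrange : (pullback.fst f sm[k, K]) ⁻¹' {x} ⊆ Set.range j := by
    intro z hz
    rw [← Scheme.Hom.range_fiberι] at hz
    obtain ⟨w, rfl⟩ := hz
    refine ⟨eF.hom w, ?_⟩
    change ((pullback.fst f sm[k, K]).fiberι x) (eF.inv (eF.hom w)) = _
    rw [Scheme.hom_inv_apply]
  refine ⟨(↥(separableClosure k (X.residueField x)) →ₐ[k] K), inferInstance,
    fun σ => j '' T σ, fun σ => (hTirr σ).image j hj.continuousOn, ?_⟩
  intro z hz
  obtain ⟨P, rfl⟩ := hjrange hz
  obtain ⟨σ, hσ⟩ := hTcov P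
  exact Set.mem_iUnion.mpr ⟨σ, P, hσ, rfl⟩

theorem finite_irr {k : Type u} [Field k] {X : Scheme.{u}} (f : X ⟶ Spec (CommRingCat.of k))
    [Finite ↥(irreducibleComponents ↥X)]
    (hx : ∀ (Z : Set ↥X) (hZ : Z ∈ irreducibleComponents ↥X),
      FBase.ResidueFieldProp f hZ.1.genericPoint
        (fun K _ _ => FiniteDimensional k (separableClosure k K)))
    (K : Type u) [Field K] [Algebra k K] [IsSepClosed K] :
    Finite ↥(irreducibleComponents ↥(pullback f sm[k, K])) := by
  have hcov := fun c : ↥(irreducibleComponents ↥X) =>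
    fibre_cover_irr f c.2.1.genericPoint (hx c.1 c.2) K
  choose ι hιfin T hTirr hTcov using hcov
  haveI : ∀ c, Finite (ι c) := hιfin
  haveI := GeomIrrSchH4.universallyOpen_specMap (k := k) K
  have hopen : IsOpenMap (pullback.fst f sm[k, K]) := (pullback.fst f sm[k, K]).isOpenMap
  exact finite_irr_of_cover hopen (fun c => c.2.1.genericPoint)
    (fun c => c.2.1.isGenericPoint_genericPoint (isClosed_of_mem_irreducibleComponents c.1 c.2))
    ι T hTirr hTcov

end Cover

section affine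

variable {k : Type u} [Field k] (R : Type u) [CommRing R] [Algebra k R]
variable (K : Type u) [Field K] [Algebra k K]

theorem key_affine_open [Algebra.IsAlgebraic k K] (s : Set ↥(pullback sm[k, R] sm[k, K]))
    (hs : IsOpen s) (a : ↥(pullback sm[k, R] sm[k, K])) (ha : a ∈ s) :
    ∃ E : IntermediateField k K, FiniteDimensional k E ∧
      ∀ c : ↥(pullback sm[k, R] sm[k, K]),
        (bm sm[k, R] E K) c = (bm sm[k, R] E K) a → c ∈ s := by
  have hinv : ∀ z, (pullbackSpecIso k R K).inv ((pullbackSpecIso k R K).hom z) = z := fun z => by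
    rw [← Scheme.Hom.comp_apply, Iso.hom_inv_id]; rfl
  have hs' : IsOpen (X := PrimeSpectrum (R ⊗[k] K)) ((pullbackSpecIso k R K).inv ⁻¹' s) :=
    hs.preimage (pullbackSpecIso k R K).inv.continuous
  have hPa : (pullbackSpecIso k R K).hom a ∈ (pullbackSpecIso k R K).inv ⁻¹' s := by
    show (pullbackSpecIso k R K).inv ((pullbackSpecIso k R K).hom a) ∈ s
    rw [hinv]; exact ha
  obtain ⟨v, ⟨e, rfl⟩, hPae, hsub⟩ :=
    (PrimeSpectrum.isTopologicalBasis_basic_opens (R := R ⊗[k] K)).exists_subset_of_mem_open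
      hPa hs'
  obtain ⟨E, hE, e', he'⟩ := exists_finite_lift_right (R := R) e
  refine ⟨E, hE, fun c hc => ?_⟩
  have htr : ∀ z : ↥(pullback sm[k, R] sm[k, K]),
      PrimeSpectrum.comap (R := R ⊗[k] ↥E) (S := R ⊗[k] K) (jmap R K E).toRingHom
          ((pullbackSpecIso k R K).hom z) =
        (pullbackSpecIso k R E).hom ((bm sm[k, R] E K) z) := fun z => by
    have h1 := congrArg (fun (φ : pullback sm[k, R] sm[k, K] ⟶
      Spec (CommRingCat.of (R ⊗[k] ↥E))) => φ z) (transition' R K E)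
    exact h1.symm
  have key : PrimeSpectrum.comap (R := R ⊗[k] ↥E) (S := R ⊗[k] K) (jmap R K E).toRingHom
        ((pullbackSpecIso k R K).hom c) =
      PrimeSpectrum.comap (R := R ⊗[k] ↥E) (S := R ⊗[k] K) (jmap R K E).toRingHom
        ((pullbackSpecIso k R K).hom a) := by
    rw [htr, htr, hc]
  have hPa' : e ∉ ((pullbackSpecIso k R K).hom a :
      PrimeSpectrum (R ⊗[k] K)).asIdeal := hPae
  have h1 : e' ∉ (PrimeSpectrum.comap (R := R ⊗[k] ↥E) (S := R ⊗[k] K) (jmap R K E).toRingHom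
      ((pullbackSpecIso k R K).hom a)).asIdeal := fun h => hPa' (by
    have h' : (jmap R K E) e' ∈ ((pullbackSpecIso k R K).hom a :
      PrimeSpectrum (R ⊗[k] K)).asIdeal := h
    rwa [he'] at h')
  rw [← key] at h1
  have h2 : (pullbackSpecIso k R K).hom c ∈ (pullbackSpecIso k R K).inv ⁻¹' s := by
    apply hsub
    show e ∉ ((pullbackSpecIso k R K).hom c : PrimeSpectrum (R ⊗[k] K)).asIdeal
    intro h
    apply h1
    show (jmap R K E) e' ∈ ((pullbackSpecIso k R K).hom c :
      PrimeSpectrum (R ⊗[k] K)).asIdeal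
    rw [he']; exact h
  have h3 : (pullbackSpecIso k R K).inv ((pullbackSpecIso k R K).hom c) ∈ s := h2
  rwa [hinv] at h3

end affine

section reduce

variable {k : Type u} [Field k] {X W : Scheme.{u}} (f : X ⟶ Spec (CommRingCat.of k))
  (c : W ⟶ X) (g : W ⟶ Spec (CommRingCat.of k)) (hg : g = c ≫ f)

theorem key_reduce_open [IsOpenImmersion c] (K : Type u) [Field K] [Algebra k K]
    (hW : ∀ (s₀ : Set ↥(pullback g sm[k, K])) (_ : IsOpen s₀) (a₀ : ↥(pullback g sm[k, K]))
      (_ : a₀ ∈ s₀), ∃ E : IntermediateField k K, FiniteDimensional k E ∧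
        ∀ c₀ : ↥(pullback g sm[k, K]), (bm g E K) c₀ = (bm g E K) a₀ → c₀ ∈ s₀)
    (s : Set ↥(pullback f sm[k, K])) (hs : IsOpen s) (a₀ : ↥(pullback g sm[k, K]))
    (ha : (Gm f c g hg K) a₀ ∈ s) :
    ∃ E : IntermediateField k K, FiniteDimensional k E ∧
      ∀ z : ↥(pullback f sm[k, K]),
        (bm f E K) z = (bm f E K) ((Gm f c g hg K) a₀) → z ∈ s := by
  obtain ⟨E, hE, hc⟩ := hW ((Gm f c g hg K) ⁻¹' s) (hs.preimage (Gm f c g hg K).continuous) a₀ ha
  refine ⟨E, hE, fun z hz => ?_⟩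
  have hπ : (pullback.fst f sm[k, K]) z = c ((pullback.fst g sm[k, K]) a₀) := by
    rw [← bm_fst_apply f E K z, hz, bm_fst_apply, ← Scheme.Hom.comp_apply, Gm_fst,
      Scheme.Hom.comp_apply]
  obtain ⟨z₀, rfl⟩ := mem_range_Gm f c g hg K z _ hπ
  have h3 : (Gm f c g hg E) ((bm g E K) z₀) = (Gm f c g hg E) ((bm g E K) a₀) := by
    rw [← Scheme.Hom.comp_apply, ← Scheme.Hom.comp_apply, Gm_bm, Scheme.Hom.comp_apply,
      Scheme.Hom.comp_apply, hz]
  haveI := isOpenImmersion_Gm f c g hg E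
  have h4 := (Gm f c g hg E).isOpenEmbedding.injective h3
  exact hc z₀ h4

end reduce

theorem key_general_open {k : Type u} [Field k] {X : Scheme.{u}}
    (f : X ⟶ Spec (CommRingCat.of k))
    (K : Type u) [Field K] [Algebra k K] [Algebra.IsAlgebraic k K]
    (s : Set ↥(pullback f sm[k, K])) (hs : IsOpen s) (a : ↥(pullback f sm[k, K]))
    (ha : a ∈ s) :
    ∃ E : IntermediateField k K, FiniteDimensional k E ∧
      ∀ z : ↥(pullback f sm[k, K]), (bm f E K) z = (bm f E K) a → z ∈ s := by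
  obtain ⟨i, w, hw⟩ := X.affineCover.exists_eq ((pullback.fst f sm[k, K]) a)
  let c' : Spec Γ(X.affineCover.X i, ⊤) ⟶ X := (X.affineCover.X i).isoSpec.inv ≫ X.affineCover.f i
  let φ : CommRingCat.of k ⟶ Γ(X.affineCover.X i, ⊤) := Spec.preimage (c' ≫ f)
  letI : Algebra k Γ(X.affineCover.X i, ⊤) := φ.hom.toAlgebra
  have hg : sm[k, Γ(X.affineCover.X i, ⊤)] = c' ≫ f := Spec.map_preimage (c' ≫ f)
  have hw' : (pullback.fst f sm[k, K]) a = c' ((X.affineCover.X i).isoSpec.hom w) := by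
    show _ = ((X.affineCover.X i).isoSpec.inv ≫ X.affineCover.f i) _
    rw [Scheme.Hom.comp_apply, ← Scheme.Hom.comp_apply _ (X.affineCover.X i).isoSpec.inv,
      Iso.hom_inv_id]
    exact hw.symm
  have hW := fun (s₀ : Set ↥(pullback sm[k, Γ(X.affineCover.X i, ⊤)] sm[k, K]))
      (hs₀ : IsOpen s₀)
      (b₀ : ↥(pullback sm[k, Γ(X.affineCover.X i, ⊤)] sm[k, K])) (hb₀ : b₀ ∈ s₀) =>
    key_affine_open (k := k) (↑Γ(X.affineCover.X i, ⊤)) K s₀ hs₀ b₀ hb₀
  obtain ⟨a₀, ha₀⟩ := mem_range_Gm f c' sm[k, Γ(X.affineCover.X i, ⊤)] hg K a _ hw'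
  rw [← ha₀] at ha ⊢
  exact key_reduce_open f c' sm[k, Γ(X.affineCover.X i, ⊤)] hg K hW s hs a₀ ha

section towers

variable {k : Type u} [Field k] {X : Scheme.{u}} (f : X ⟶ Spec (CommRingCat.of k))

abbrev PIdx (A : Type*) [TopologicalSpace A] : Type _ :=
  {p : ↥(irreducibleComponents A) × ↥(irreducibleComponents A) // p.1 ≠ p.2}

theorem exists_field_irr (K : Type u) [Field K] [Algebra k K] [Algebra.IsAlgebraic k K]
    [Finite ↥(irreducibleComponents ↥(pullback f sm[k, K]))] :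
    ∃ E : IntermediateField k K, FiniteDimensional k E ∧
      ∀ W'' : Set ↥(pullback f sm[k, ↥E]),
        W'' ∈ irreducibleComponents ↥(pullback f sm[k, ↥E]) →
          IsIrreducible ((bm f ↥E K) ⁻¹' W'') := by
  classical
  have hpt : ∀ p : PIdx ↥(pullback f sm[k, K]),
      ∃ y : ↥(pullback f sm[k, K]), y ∈ p.1.1.1 ∧ y ∉ p.1.2.1 := by
    intro p
    by_contra hcon
    push_neg at hcon
    have hsub : p.1.1.1 ⊆ p.1.2.1 := fun y hy => hcon y hy
    have hmax : Maximal IsIrreducible p.1.1.1 := p.1.1.2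
    have hirr2 : Maximal IsIrreducible p.1.2.1 := p.1.2.2
    have h2 : p.1.2.1 ⊆ p.1.1.1 := hmax.2 hirr2.1 hsub
    exact p.2 (Subtype.ext (Set.Subset.antisymm hsub h2))
  choose pt hpt1 hpt2 using hpt
  have hE := fun p : PIdx ↥(pullback f sm[k, K]) =>
    key_general_open f K (p.1.2.1)ᶜ
      (isClosed_of_mem_irreducibleComponents p.1.2.1 p.1.2.2).isOpen_compl (pt p) (hpt2 p)
  choose Ec hEfd hEprop using hE
  haveI : ∀ p, FiniteDimensional k ↥(Ec p) := hEfd
  refine ⟨⨆ p, Ec p, IntermediateField.finiteDimensional_iSup_of_finite, ?_⟩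
  haveI : Algebra.IsIntegral ↥(⨆ p, Ec p) K := inferInstance
  haveI := GeomCompCardH4.universallyOpen_bm f ↥(⨆ p, Ec p) K
  haveI := GeomCompCardH4.surjective_bm f ↥(⨆ p, Ec p) K
  haveI := GeomConnPtH4.isIntegralHom_specMap ↥(⨆ p, Ec p) K
  haveI : IsIntegralHom (bm f ↥(⨆ p, Ec p) K) :=
    MorphismProperty.of_isPullback (P := @IsIntegralHom)
      (isPullback_bm f ↥(⨆ p, Ec p) K).flip inferInstance
  intro W'' hW''
  refine isIrreducible_preimage_of_sep (bm f ↥(⨆ p, Ec p) K).continuous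
    (bm f ↥(⨆ p, Ec p) K).isOpenMap (bm f ↥(⨆ p, Ec p) K).isClosedMap
    (bm f ↥(⨆ p, Ec p) K).surjective ?_ W'' hW''
  intro W₁ W₂ hW₁ hW₂ hne hsub
  let p : PIdx ↥(pullback f sm[k, K]) :=
    ⟨(⟨W₁, hW₁⟩, ⟨W₂, hW₂⟩), fun h => hne (congrArg Subtype.val h)⟩
  have hmem : (bm f ↥(⨆ p, Ec p) K) (pt p) ∈ (bm f ↥(⨆ p, Ec p) K) '' W₂ :=
    hsub ⟨pt p, hpt1 p, rfl⟩
  obtain ⟨z, hzW₂, hz⟩ := hmem
  have h2 : (bm f ↥(Ec p) K) z = (bm f ↥(Ec p) K) (pt p) :=
    key_mono f K _ _ (le_iSup Ec p) z (pt p) hz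
  exact hEprop p z h2 hzW₂

end towers

theorem stepB_irr {k K : Type u} [Field k] [Field K] [Algebra k K]
    {X : Scheme.{u}} (f : X ⟶ Spec (CommRingCat.of k)) (S : Type u) [Field S] [Algebra k S]
    [IsSepClosed S] (Z : Set ↥X)
    (hA : IsIrreducible ((FBase.bcπ f S) ⁻¹' Z)) :
    IsIrreducible ((FBase.bcπ f K) ⁻¹' Z) := by
  obtain ⟨Ω, _, iK, iS, hcomp⟩ := GeomBC_helper4.exists_compositum k K S
  letI : Algebra K Ω := iK.toAlgebra
  letI : Algebra S Ω := iS.toAlgebra
  letI : Algebra k Ω := (iK.comp (algebraMap k K)).toAlgebra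
  haveI : IsScalarTower k K Ω := IsScalarTower.of_algebraMap_eq (fun _ => rfl)
  haveI : IsScalarTower k S Ω :=
    IsScalarTower.of_algebraMap_eq (fun x => RingHom.congr_fun hcomp x)
  have hB1 := GeomIrrSchH4.isIrreducible_preimage (k := S) Ω (FBase.bcStr f S) hA
  have hV : IsIrreducible ((FBase.bcπ f Ω) ⁻¹' Z) := by
    have hcat : (BCPointH4.eBC f S Ω).hom ≫
        FBase.bcπ (FBase.bcStr f S) Ω ≫ FBase.bcπ f S = FBase.bcπ f Ω := by
      rw [← Category.assoc, BCPointH4.eBC_hom_fst, BCPointH4.bcMap_fst]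
    have h1 : ∀ z, (FBase.bcπ f S)
        ((FBase.bcπ (FBase.bcStr f S) Ω)
          ((BCPointH4.eBC f S Ω).hom z)) = (FBase.bcπ f Ω) z := fun z => by
      rw [← hcat, Scheme.Hom.comp_apply, Scheme.Hom.comp_apply]
    have e : (FBase.bcπ f Ω) ⁻¹' Z =
        (BCPointH4.eBC f S Ω).hom.homeomorph ⁻¹'
          ((FBase.bcπ (FBase.bcStr f S) Ω) ⁻¹' ((FBase.bcπ f S) ⁻¹' Z)) := by
      ext z
      constructor
      · intro hz
        show (FBase.bcπ f S) ((FBase.bcπ (FBase.bcStr f S) Ω)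
            ((BCPointH4.eBC f S Ω).hom z)) ∈ Z
        rw [h1]; exact hz
      · intro hz
        have hz' : (FBase.bcπ f S) ((FBase.bcπ (FBase.bcStr f S) Ω)
            ((BCPointH4.eBC f S Ω).hom z)) ∈ Z := hz
        rw [h1] at hz'; exact hz'
    rw [e]
    exact isIrreducible_homeomorph_preimage _ hB1
  haveI : Surjective sm[K, Ω] := RatPtsH4.surjective_specMap K Ω
  haveI : Surjective (BCPointH4.bcMap f K Ω) :=
    MorphismProperty.of_isPullback (P := @Surjective) (BCPointH4.isPullback_bcMap f K Ω).flip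
      inferInstance
  have hsurj : Function.Surjective (BCPointH4.bcMap f K Ω) := Scheme.Hom.surjective _
  have e3 : (FBase.bcπ f Ω) ⁻¹' Z =
      (BCPointH4.bcMap f K Ω) ⁻¹' ((FBase.bcπ f K) ⁻¹' Z) := by
    ext z
    show (FBase.bcπ f Ω) z ∈ Z ↔ (FBase.bcπ f K) ((BCPointH4.bcMap f K Ω) z) ∈ Z
    rw [← Scheme.Hom.comp_apply, BCPointH4.bcMap_fst]
  have e2 : (FBase.bcπ f K) ⁻¹' Z =
      (BCPointH4.bcMap f K Ω) '' ((FBase.bcπ f Ω) ⁻¹' Z) := by
    rw [e3, Set.image_preimage_eq _ hsurj]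
  rw [e2]
  exact hV.image _ (BCPointH4.bcMap f K Ω).continuous.continuousOn

theorem main4646 {k : Type u} [Field k] {X : Scheme.{u}}
    (f : X ⟶ Spec (CommRingCat.of k)) [Finite ↥(irreducibleComponents ↥X)]
    (hx : ∀ (Z : Set ↥X) (hZ : Z ∈ irreducibleComponents ↥X),
      FBase.ResidueFieldProp f hZ.1.genericPoint
        (fun K _ _ => FiniteDimensional k (separableClosure k K))) :
    ∃ (L : Type u) (_ : Field L) (_ : Algebra k L), FiniteDimensional k L ∧
      Algebra.IsSeparable k L ∧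
      ∀ (K : Type u) [Field K] [Algebra L K] (Z' : Set ↥(FBase.bc f L)),
        Z' ∈ irreducibleComponents ↥(FBase.bc f L) →
          IsIrreducible (⇑(FBase.bcπ (FBase.bcStr f L) K) ⁻¹' Z') := by
  haveI : Finite ↥(irreducibleComponents ↥(pullback f sm[k, SeparableClosure k])) :=
    finite_irr f hx (SeparableClosure k)
  obtain ⟨E, hEfd, hEprop⟩ := exists_field_irr f (SeparableClosure k)
  refine ⟨↥E, inferInstance, inferInstance, hEfd, inferInstance, ?_⟩
  intro K _ _ Z' hZ'
  refine stepB_irr (FBase.bcStr f ↥E) (SeparableClosure k) Z' ?_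
  have h0 : IsIrreducible ((BCPointH4.bcMap f ↥E (SeparableClosure k)) ⁻¹' Z') :=
    hEprop Z' hZ'
  have e : (BCPointH4.bcMap f ↥E (SeparableClosure k)) ⁻¹' Z' =
      (BCPointH4.eBC f ↥E (SeparableClosure k)).hom.homeomorph ⁻¹'
        ((FBase.bcπ (FBase.bcStr f ↥E) (SeparableClosure k)) ⁻¹' Z') := by
    ext z
    show (BCPointH4.bcMap f ↥E (SeparableClosure k)) z ∈ Z' ↔
      (FBase.bcπ (FBase.bcStr f ↥E) (SeparableClosure k))
        ((BCPointH4.eBC f ↥E (SeparableClosure k)).hom z) ∈ Z'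
    rw [← Scheme.Hom.comp_apply, BCPointH4.eBC_hom_fst]
  rw [e] at h0
  exact isIrreducible_of_homeomorph_preimage _ h0

end Groth.Agent.Lib.GeomIrrCompsH4
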