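import Mathlib

/-! Dimension theory of finitely generated algebras over a field. -/

universe u

namespace Groth.Agent.DimFTH8

open Polynomial Ideal

/-- every maximal ideal of `k[x_1..x_d]` has height `d`. -/
theorem height_of_isMaximal_mvPolynomial (k : Type*) [Field k] (d : ℕ) :
    ∀ (m : Ideal (MvPolynomial (Fin d) k)) [m.IsMaximal], m.height = d := by
  induction d with
  | zero =>
    intro m hm
    have h1 : (m.height : WithBot ℕ∞) ≤ ringKrullDim (MvPolynomial (Fin 0) k) :=
      Ideal.height_le_ringKrullDim_of_ne_top hm.ne_top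
    rw [MvPolynomial.ringKrullDim_of_isNoetherianRing] at h1
    simp at h1
    simpa using h1
  | succ d ih =>
    intro m hm
    let e : MvPolynomial (Fin (d + 1)) k ≃+* Polynomial (MvPolynomial (Fin d) k) :=
      (MvPolynomial.finSuccEquiv k d).toRingEquiv
    have hP : (m.map e).IsMaximal := map_isMaximal_of_equiv e
    have h1 : (m.map e).height = m.height := e.height_map m
    have hp : ((m.map e).comap (C : MvPolynomial (Fin d) k →+* _)).IsMaximal :=
      Polynomial.isMaximal_comap_C_of_isJacobsonRing (m.map e)
    haveI : (m.map e).LiesOver ((m.map e).comap (C : MvPolynomial (Fin d) k →+* _)) := ⟨rfl⟩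
    have h2 := Polynomial.height_eq_height_add_one
      ((m.map e).comap (C : MvPolynomial (Fin d) k →+* _)) (m.map e)
    rw [ih _, h1] at h2
    rw [h2]
    push_cast
    rfl


/-- For a finitely generated domain `S` over a field `k`, all maximal ideals have the same height
`d`, and `d` is the transcendence degree of `S` over `k`. -/
theorem exists_height_eq (k S : Type u) [Field k] [CommRing S] [IsDomain S] [Algebra k S]
    [Algebra.FiniteType k S] :
    ∃ d : ℕ, Algebra.trdeg k S = d ∧ ∀ (m : Ideal S) [m.IsMaximal], m.height = d := by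
  obtain ⟨d, g, hinj, hint⟩ := exists_integral_inj_algHom_of_fg k S
  letI : Algebra (MvPolynomial (Fin d) k) S := g.toRingHom.toAlgebra
  haveI : IsScalarTower k (MvPolynomial (Fin d) k) S :=
    IsScalarTower.of_algebraMap_eq fun x => (g.commutes x).symm
  haveI : FaithfulSMul (MvPolynomial (Fin d) k) S :=
    (faithfulSMul_iff_algebraMap_injective _ _).mpr hinj
  haveI : Algebra.IsIntegral (MvPolynomial (Fin d) k) S := ⟨hint⟩
  haveI : IsNoetherianRing S := Algebra.FiniteType.isNoetherianRing k S
  refine ⟨d, ?_, ?_⟩
  · have h1 := trdeg_add_eq k (MvPolynomial (Fin d) k) (A := S)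
    have h2 : Algebra.trdeg (MvPolynomial (Fin d) k) S = 0 := trdeg_eq_zero
    rw [h2, add_zero, MvPolynomial.trdeg_of_isDomain] at h1
    rw [← h1]
    simp
  · intro m hm
    set p := m.under (MvPolynomial (Fin d) k) with hp
    haveI hpmax : p.IsMaximal := inferInstance
    have h := Ideal.height_eq_height_add_of_liesOver_of_hasGoingDown p m
    have hker : RingHom.ker (Ideal.Quotient.mk (p.map (algebraMap (MvPolynomial (Fin d) k) S))) ≤ m := by
      rw [Ideal.mk_ker, Ideal.map_le_iff_le_comap]
    haveI hQprime : (m.map (Ideal.Quotient.mk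
        (p.map (algebraMap (MvPolynomial (Fin d) k) S)))).IsPrime :=
      Ideal.map_isPrime_of_surjective Ideal.Quotient.mk_surjective hker
    have hQ : (m.map (Ideal.Quotient.mk
        (p.map (algebraMap (MvPolynomial (Fin d) k) S)))).height = 0 := by
      rw [Ideal.height_eq_zero_iff]
      refine ⟨⟨hQprime, bot_le⟩, ?_⟩
      rintro Q' ⟨hQ'p, -⟩ hQ'Q
      by_contra hnot
      have hlt : Q' < m.map (Ideal.Quotient.mk
          (p.map (algebraMap (MvPolynomial (Fin d) k) S))) := lt_of_le_not_ge hQ'Q hnot
      -- pull back to S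
      set q' := Q'.comap (Ideal.Quotient.mk (p.map (algebraMap (MvPolynomial (Fin d) k) S)))
        with hq'
      haveI : q'.IsPrime := Ideal.comap_isPrime _ _
      have hq'm : q' < m := by
        have hm_eq : m = (m.map (Ideal.Quotient.mk
            (p.map (algebraMap (MvPolynomial (Fin d) k) S)))).comap
            (Ideal.Quotient.mk (p.map (algebraMap (MvPolynomial (Fin d) k) S))) := by
          rw [Ideal.comap_map_of_surjective _ Ideal.Quotient.mk_surjective]
          refine le_antisymm le_sup_left (sup_le le_rfl ?_)
          rw [← RingHom.ker_eq_comap_bot]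
          exact hker
        refine lt_of_le_of_ne ?_ ?_
        · rw [hm_eq]; exact Ideal.comap_mono hQ'Q
        · intro heq
          apply hnot
          rw [← heq, Ideal.map_comap_of_surjective _ Ideal.Quotient.mk_surjective]
      have h1 := Ideal.IsIntegral.comap_lt_comap (R := MvPolynomial (Fin d) k) hq'm
      have h2 : p ≤ q'.comap (algebraMap (MvPolynomial (Fin d) k) S) := by
        intro x hx
        rw [Ideal.mem_comap, hq', Ideal.mem_comap]
        have : Ideal.Quotient.mk (p.map (algebraMap (MvPolynomial (Fin d) k) S))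
            (algebraMap (MvPolynomial (Fin d) k) S x) = 0 :=
          Ideal.Quotient.eq_zero_iff_mem.mpr (Ideal.mem_map_of_mem _ hx)
        rw [this]
        exact zero_mem _
      exact absurd (lt_of_le_of_lt h2 h1) (lt_irrefl _)
    rw [hQ, add_zero, height_of_isMaximal_mvPolynomial k d p] at h
    exact h


/-- Dimension of a finitely generated domain over a field. -/
theorem exists_dim_eq (k S : Type u) [Field k] [CommRing S] [IsDomain S] [Algebra k S]
    [Algebra.FiniteType k S] :
    ∃ n : ℕ, Algebra.trdeg k (FractionRing S) = n ∧ Algebra.trdeg k S = n ∧ ringKrullDim S = n ∧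
      (∀ (m : Ideal S) [m.IsMaximal], m.height = n) := by
  obtain ⟨d, hd, hm⟩ := exists_height_eq k S
  refine ⟨d, ?_, hd, ?_, hm⟩
  · haveI : FaithfulSMul k S := (faithfulSMul_iff_algebraMap_injective k S).mpr
      (algebraMap k S).injective
    have h1 := trdeg_add_eq k S (A := FractionRing S)
    haveI : Algebra.IsAlgebraic S (FractionRing S) :=
      IsLocalization.isAlgebraic (FractionRing S) (nonZeroDivisors S)
    have h2 : Algebra.trdeg S (FractionRing S) = 0 := trdeg_eq_zero
    rw [h2, add_zero, hd] at h1
    exact h1.symm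
  · apply le_antisymm
    · rw [ringKrullDim_le_iff_isMaximal_height_le]
      intro m hmm
      rw [hm m]
      rfl
    · obtain ⟨m, hmm⟩ := Ideal.exists_maximal S
      have := Ideal.height_le_ringKrullDim_of_ne_top hmm.ne_top
      rw [hm m] at this
      exact this

end Groth.Agent.DimFTH8
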