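import Mathlib
import Groth.Prelude.Def_CurvBase
import Groth.Agent.Lib.DimFT_helper8

/-! Translation layer: schemes locally of finite type over a field vs. f.g. algebras. -/

universe u

open AlgebraicGeometry CategoryTheory IsLocalRing TopologicalSpace Opposite

namespace Groth.Agent.SchFTH8

variable (k : Type u) [Field k] (X : Scheme.{u}) [X.Over (Spec (CommRingCat.of k))]

/-- the ring map `k → Γ(X, U)`. -/
noncomputable def secMap (U : X.Opens) : k →+* Γ(X, U) :=
  (X.presheaf.map (homOfLE (le_top : U ≤ ⊤)).op).hom.comp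
    (Coh.toGlobal (X ↘ Spec (CommRingCat.of k)))

/-- `k`-algebra structure on sections. -/
noncomputable abbrev secAlgebra (U : X.Opens) : Algebra k Γ(X, U) := (secMap k X U).toAlgebra

theorem finiteType_sec [LocallyOfFiniteType (X ↘ Spec (CommRingCat.of k))] (U : X.Opens)
    (hU : IsAffineOpen U) :
    @Algebra.FiniteType k Γ(X, U) _ _ (secAlgebra k X U) := by
  letI := secAlgebra k X U
  have h1 : ((X ↘ Spec (CommRingCat.of k)).appLE ⊤ U le_top).hom.FiniteType :=
    HasRingHomProperty.appLE (P := @LocallyOfFiniteType) _ inferInstance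
      ⟨⊤, isAffineOpen_top _⟩ ⟨U, hU⟩ le_top
  have h2 : (secMap k X U) = ((X ↘ Spec (CommRingCat.of k)).appLE ⊤ U le_top).hom.comp
      (Scheme.ΓSpecIso (CommRingCat.of k)).inv.hom := by
    ext a
    simp only [secMap, Coh.toGlobal, Scheme.Hom.appLE, Scheme.Hom.appTop]
    rfl
  have h3 : (secMap k X U).FiniteType := by
    rw [h2]
    refine RingHom.FiniteType.comp h1 (RingHom.FiniteType.of_surjective _ ?_)
    exact (ConcreteCategory.bijective_of_isIso (Scheme.ΓSpecIso (CommRingCat.of k)).inv).2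
  exact h3


variable {X}

/-- the map `Γ(X, U) → κ(x)`. -/
noncomputable def toRes (U : X.Opens) (x : X) (hx : x ∈ U) : Γ(X, U) →+* X.residueField x :=
  (X.residue x).hom.comp (X.presheaf.germ U x hx).hom

theorem toRes_comp_secMap (U : X.Opens) (x : X) (hx : x ∈ U) :
    (toRes U x hx).comp (secMap k X U) = Curv2.resMap k X x := by
  ext a
  simp only [toRes, secMap, Curv2.resMap, Curv2.stalkMap, RingHom.comp_apply]
  congr 1
  exact TopCat.Presheaf.germ_res_apply X.presheaf (homOfLE (le_top : U ≤ ⊤)) x hx _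

theorem ker_toRes {U : X.Opens} (hU : IsAffineOpen U) (x : X) (hx : x ∈ U) :
    RingHom.ker (toRes U x hx) = (hU.primeIdealOf ⟨x, hx⟩).asIdeal := by
  rw [hU.primeIdealOf_eq_map_closedPoint]
  ext a
  rw [RingHom.mem_ker]
  change _ ↔ (X.presheaf.germ U x hx).hom a ∈ maximalIdeal (X.presheaf.stalk x)
  rw [toRes, RingHom.comp_apply]
  exact IsLocalRing.residue_eq_zero_iff _


open Polynomial in
theorem trdeg_residueField {U : X.Opens} (hU : IsAffineOpen U) (x : X) (hx : x ∈ U) :
    letI := secAlgebra k X U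
    @Algebra.trdeg k (X.residueField x) _ _ (Curv2.resAlgebra k X x) =
      Algebra.trdeg k (Γ(X, U) ⧸ (hU.primeIdealOf ⟨x, hx⟩).asIdeal) := by
  letI := secAlgebra k X U
  letI := Curv2.resAlgebra k X x
  set p := (hU.primeIdealOf ⟨x, hx⟩).asIdeal with hp
  have hker : RingHom.ker (toRes U x hx) = p := ker_toRes hU x hx
  let ψ : Γ(X, U) ⧸ p →+* X.residueField x :=
    Ideal.Quotient.lift p (toRes U x hx) (fun a ha => by
      rw [← RingHom.mem_ker, hker]; exact ha)
  have hψ : ∀ a, ψ (Ideal.Quotient.mk p a) = toRes U x hx a := fun a => Ideal.Quotient.lift_mk _ _ _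
  have hψinj : Function.Injective ψ := by
    rw [injective_iff_map_eq_zero]
    intro a ha
    obtain ⟨a, rfl⟩ := Ideal.Quotient.mk_surjective a
    rw [hψ, ← RingHom.mem_ker, hker] at ha
    exact Ideal.Quotient.eq_zero_iff_mem.mpr ha
  letI : Algebra (Γ(X, U) ⧸ p) (X.residueField x) := ψ.toAlgebra
  haveI : IsScalarTower k (Γ(X, U) ⧸ p) (X.residueField x) :=
    IsScalarTower.of_algebraMap_eq fun c => by
      change Curv2.resMap k X x c = ψ (Ideal.Quotient.mk p (secMap k X U c))
      rw [hψ, ← toRes_comp_secMap k U x hx]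
      rfl
  haveI : FaithfulSMul (Γ(X, U) ⧸ p) (X.residueField x) :=
    (faithfulSMul_iff_algebraMap_injective _ _).mpr hψinj
  haveI : FaithfulSMul k (Γ(X, U) ⧸ p) :=
    (faithfulSMul_iff_algebraMap_injective _ _).mpr (algebraMap k (Γ(X, U) ⧸ p)).injective
  haveI : Algebra.IsAlgebraic (Γ(X, U) ⧸ p) (X.residueField x) := by
    constructor
    intro y
    obtain ⟨s, rfl⟩ := X.residue_surjective x y
    letI : Algebra Γ(X, U) (X.presheaf.stalk x) :=
      TopCat.Presheaf.algebra_section_stalk X.presheaf (⟨x, hx⟩ : U)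
    haveI : IsLocalization.AtPrime (X.presheaf.stalk x) p := hU.isLocalization_stalk ⟨x, hx⟩
    obtain ⟨⟨a, t⟩, h⟩ := IsLocalization.surj p.primeCompl s
    have h' : s * (X.presheaf.germ U x hx).hom t.1 = (X.presheaf.germ U x hx).hom a := h
    have h2 : (X.residue x).hom s * toRes U x hx t.1 = toRes U x hx a := by
      have := congrArg (X.residue x).hom h'
      rw [map_mul] at this
      exact this
    have ht : Ideal.Quotient.mk p t.1 ≠ 0 := by
      rw [Ne, Ideal.Quotient.eq_zero_iff_mem]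
      exact t.2
    refine ⟨C (Ideal.Quotient.mk p t.1) * Polynomial.X - C (Ideal.Quotient.mk p a), ?_, ?_⟩
    · intro h0
      have := congrArg (fun q => Polynomial.coeff q 1) h0
      simp at this
      exact ht this
    · simp only [map_sub, map_mul, aeval_C, aeval_X]
      change ψ (Ideal.Quotient.mk p t.1) * _ - ψ (Ideal.Quotient.mk p a) = 0
      rw [hψ, hψ, mul_comm, h2, sub_self]
  have h1 := trdeg_add_eq k (Γ(X, U) ⧸ p) (A := X.residueField x)
  have h2 : Algebra.trdeg (Γ(X, U) ⧸ p) (X.residueField x) = 0 := trdeg_eq_zero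
  rw [h2, add_zero] at h1
  exact h1.symm


theorem ringKrullDim_stalk_eq_height {U : X.Opens} (hU : IsAffineOpen U) (x : X) (hx : x ∈ U) :
    ringKrullDim (X.presheaf.stalk x) = (hU.primeIdealOf ⟨x, hx⟩).asIdeal.height := by
  letI : Algebra Γ(X, U) (X.presheaf.stalk x) :=
    TopCat.Presheaf.algebra_section_stalk X.presheaf (⟨x, hx⟩ : U)
  haveI : IsLocalization.AtPrime (X.presheaf.stalk x) (hU.primeIdealOf ⟨x, hx⟩).asIdeal :=
    hU.isLocalization_stalk ⟨x, hx⟩
  exact IsLocalization.AtPrime.ringKrullDim_eq_height (hU.primeIdealOf ⟨x, hx⟩).asIdeal _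

theorem specializes_iff_primeIdealOf_le {U : X.Opens} (hU : IsAffineOpen U) (x y : X)
    (hx : x ∈ U) (hy : y ∈ U) :
    x ⤳ y ↔ hU.primeIdealOf ⟨x, hx⟩ ≤ hU.primeIdealOf ⟨y, hy⟩ := by
  rw [PrimeSpectrum.le_iff_specializes]
  have h1 : x ⤳ y ↔ (⟨x, hx⟩ : U) ⤳ ⟨y, hy⟩ :=
    (Topology.IsInducing.subtypeVal.specializes_iff (x := (⟨x, hx⟩ : U)) (y := ⟨y, hy⟩))
  rw [h1]
  have hh : IsHomeomorph (hU.isoSpec.hom : U → Spec Γ(X, U)) :=
    (TopCat.isIso_iff_isHomeomorph _).mp inferInstance
  exact (hh.isInducing.specializes_iff).symm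

theorem primeIdealOf_fromSpec {U : X.Opens} (hU : IsAffineOpen U) (q : PrimeSpectrum Γ(X, U))
    (hq : hU.fromSpec q ∈ U) : hU.primeIdealOf ⟨hU.fromSpec q, hq⟩ = q := by
  have hh : IsHomeomorph (hU.isoSpec.hom : U → Spec Γ(X, U)) :=
    (TopCat.isIso_iff_isHomeomorph _).mp inferInstance
  obtain ⟨z, hz⟩ := hh.surjective q
  have : hU.fromSpec q = z.1 := by
    rw [← hz]
    exact hU.fromSpec_primeIdealOf z
  have h2 : (⟨hU.fromSpec q, hq⟩ : U) = z := Subtype.ext this
  rw [h2]
  exact hz

theorem fromSpec_mem {U : X.Opens} (hU : IsAffineOpen U) (q : PrimeSpectrum Γ(X, U)) :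
    hU.fromSpec q ∈ U := by
  have : hU.fromSpec q ∈ Set.range hU.fromSpec := ⟨q, rfl⟩
  rw [hU.range_fromSpec] at this
  exact this


/-- In a quasi-sober T0 space, `closure {η}` is an irreducible component iff `η` has no proper
generization. -/
theorem closure_mem_irreducibleComponents_iff {T : Type*} [TopologicalSpace T] [QuasiSober T]
    [T0Space T] (η : T) :
    closure ({η} : Set T) ∈ irreducibleComponents T ↔ ∀ z : T, z ⤳ η → z = η := by
  constructor
  · intro hc z hz
    have hsub : closure ({η} : Set T) ⊆ closure {z} :=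
      closure_minimal (Set.singleton_subset_iff.mpr (specializes_iff_mem_closure.mp hz))
        isClosed_closure
    have := hc.2 isIrreducible_singleton.closure hsub
    have hz' : z ∈ closure ({η} : Set T) := this (subset_closure rfl)
    exact ((specializes_iff_mem_closure.mpr hz').antisymm hz).eq.symm
  · intro h
    refine ⟨isIrreducible_singleton.closure, ?_⟩
    intro F hFi hF y hy
    obtain ⟨z, hz⟩ := QuasiSober.sober hFi.closure isClosed_closure
    have h1 : z ⤳ η := by
      rw [specializes_iff_mem_closure, hz.def]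
      exact subset_closure (hF (subset_closure rfl))
    have hzη := h z h1
    rw [← hzη, hz.def]
    exact subset_closure hy

end Groth.Agent.SchFTH8
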