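import Mathlib
import Groth.Prelude.Def_Curv2
import Groth.Prelude.Def_FDesc
import Groth.Agent.Lib.GeomIrrComps_helper4
import Groth.Agent.Lib.AlgClosureFG_helper1
import Groth.Agent.Lib.SchFT_helper8

set_option autoImplicit false
set_option linter.style.haveILetI false
set_option linter.unusedSectionVars false

universe u

open scoped TensorProduct
open CategoryTheory CategoryTheory.Limits AlgebraicGeometry

namespace Groth.Agent.Lib.GeomIrrVarH4

local notation:max "sm[" k ", " K "]" => Spec.map (CommRingCat.ofHom (algebraMap k K))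

attribute [local instance] Curv2.resAlgebra

theorem essFiniteType_resMap (k : Type u) [Field k] (X : Scheme.{u})
    [X.Over (Spec (CommRingCat.of k))]
    [LocallyOfFiniteType (X ↘ (Spec (CommRingCat.of k)))] (x : X) :
    (Curv2.resMap k X x).EssFiniteType := by
  obtain ⟨_, ⟨U, hU, rfl⟩, hxU, -⟩ :=
    X.isBasis_affineOpens.exists_subset_of_mem_open (Set.mem_univ x) isOpen_univ
  have h1 : (Groth.Agent.SchFTH8.secMap k X U).EssFiniteType :=
    RingHom.FiniteType.essFiniteType (Groth.Agent.SchFTH8.finiteType_sec k X U hU)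
  have hgerm : (X.presheaf.germ U x hxU).hom.EssFiniteType := by
    letI : Algebra Γ(X, U) (X.presheaf.stalk x) :=
      TopCat.Presheaf.algebra_section_stalk X.presheaf (⟨x, hxU⟩ : U)
    haveI : IsLocalization.AtPrime (X.presheaf.stalk x) (hU.primeIdealOf ⟨x, hxU⟩).asIdeal :=
      hU.isLocalization_stalk ⟨x, hxU⟩
    have h : Algebra.EssFiniteType Γ(X, U) (X.presheaf.stalk x) :=
      Algebra.EssFiniteType.of_isLocalization _ (hU.primeIdealOf ⟨x, hxU⟩).asIdeal.primeCompl
    exact RingHom.essFiniteType_algebraMap.mpr h
  have hres : (X.residue x).hom.EssFiniteType :=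
    RingHom.FiniteType.essFiniteType
      (RingHom.FiniteType.of_surjective _ (fun y => X.residue_surjective x y))
  have h2 : (Groth.Agent.SchFTH8.toRes U x hxU).EssFiniteType :=
    RingHom.EssFiniteType.comp hgerm hres
  have h3 := RingHom.EssFiniteType.comp h1 h2
  rwa [Groth.Agent.SchFTH8.toRes_comp_secMap k U x hxU] at h3

theorem finiteDimensional_sepClosure (k K : Type u) [Field k] [Field K] [Algebra k K]
    [Algebra.EssFiniteType k K] : FiniteDimensional k (separableClosure k K) := by
  haveI := Groth.Agent.Lib.AlgClosureFGH1.algClosure_finite (k := k) (K := K)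
    (IntermediateField.fg_top k K)
  have hle : separableClosure k K ≤ algebraicClosure k K := fun a ha =>
    mem_algebraicClosure_iff.mpr ((mem_separableClosure_iff.mp ha).isIntegral.isAlgebraic)
  exact Module.Finite.of_injective (IntermediateField.inclusion hle).toLinearMap
    (IntermediateField.inclusion_injective hle)

theorem residueFieldProp_of_lft (k : Type u) [Field k] (X : Scheme.{u})
    [X.Over (Spec (CommRingCat.of k))]
    [LocallyOfFiniteType (X ↘ (Spec (CommRingCat.of k)))] (x : X) :
    FBase.ResidueFieldProp (X ↘ Spec (CommRingCat.of k)) x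
      (fun K _ _ => FiniteDimensional k (separableClosure k K)) := by
  refine ⟨Curv2.resMap k X x, (RatPtsH4.fromSpecResidueField_comp k X x).symm, ?_⟩
  haveI : Algebra.EssFiniteType k (X.residueField x) := essFiniteType_resMap k X x
  exact finiteDimensional_sepClosure k (X.residueField x)

theorem geomIrr_subscheme {k' : Type u} [Field k'] {W : Scheme.{u}}
    (g : W ⟶ Spec (CommRingCat.of k')) (T : TopologicalSpace.Closeds W)
    (h : ∀ (K : Type u) [Field K] [Algebra k' K],
      IsIrreducible ((pullback.fst g sm[k', K]) ⁻¹' (T : Set W))) :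
    GeometricallyIrreducible ((Scheme.IdealSheafData.vanishingIdeal T).subschemeι ≫ g) := by
  refine ⟨?_⟩
  rw [geometrically_iff_of_commRing]
  intro K _ _ Y fst snd hY
  let v : Y ⟶ pullback g sm[k', K] :=
    pullback.lift (fst ≫ (Scheme.IdealSheafData.vanishingIdeal T).subschemeι) snd
      (by rw [Category.assoc]; exact hY.w)
  have hv1 : v ≫ pullback.fst g sm[k', K] =
      fst ≫ (Scheme.IdealSheafData.vanishingIdeal T).subschemeι := pullback.lift_fst _ _ _
  have hv2 : v ≫ pullback.snd g sm[k', K] = snd := pullback.lift_snd _ _ _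
  have htop : IsPullback fst v (Scheme.IdealSheafData.vanishingIdeal T).subschemeι
      (pullback.fst g sm[k', K]) := by
    refine IsPullback.of_bot ?_ hv1.symm (IsPullback.of_hasPullback g sm[k', K])
    rw [hv2]
    exact hY
  haveI : IsClosedImmersion v :=
    MorphismProperty.of_isPullback (P := @IsClosedImmersion) htop inferInstance
  have hιrange : Set.range ((Scheme.IdealSheafData.vanishingIdeal T).subschemeι) =
      (T : Set W) := by
    rw [Scheme.IdealSheafData.range_subschemeι, Scheme.IdealSheafData.coe_support_vanishingIdeal]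
  have hrange : Set.range v = (pullback.fst g sm[k', K]) ⁻¹' (T : Set W) := by
    ext y
    constructor
    · rintro ⟨z, rfl⟩
      show (pullback.fst g sm[k', K]) (v z) ∈ (T : Set W)
      rw [← Scheme.Hom.comp_apply, hv1, Scheme.Hom.comp_apply, ← hιrange]
      exact ⟨_, rfl⟩
    · intro hy
      have hy' : (pullback.fst g sm[k', K]) y ∈
          Set.range ((Scheme.IdealSheafData.vanishingIdeal T).subschemeι) := by
        rw [hιrange]; exact hy
      obtain ⟨t, ht⟩ := hy'
      obtain ⟨p, hp1, hp2⟩ := Scheme.exists_preimage_of_isPullback htop t y ht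
      exact ⟨p, hp2⟩
  have hirr : IsIrreducible (Set.range v) := by rw [hrange]; exact h K
  haveI : IrreducibleSpace ↥(Set.range v) := isIrreducible_iff_irreducibleSpace.mp hirr
  exact (v.isClosedEmbedding.isEmbedding.toHomeomorph).irreducibleSpace_iff.mpr inferInstance

theorem main1654 (k : Type u) [Field k] (X : Scheme.{u}) [X.Over (Spec (CommRingCat.of k))]
    [LocallyOfFiniteType (X ↘ (Spec (CommRingCat.of k)))]
    (hirr : (irreducibleComponents (X : Type u)).Finite) :
    ∃ (k' : Type u) (_ : Field k') (_ : Algebra k k'), FiniteDimensional k k' ∧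
      Algebra.IsSeparable k k' ∧
      ∀ (T : Set (Curv2.bc k X k')) (hT : T ∈ irreducibleComponents (Curv2.bc k X k' : Type u)),
        GeometricallyIrreducible
          ((Scheme.IdealSheafData.vanishingIdeal
              ⟨T, isClosed_of_mem_irreducibleComponents T hT⟩).subschemeι ≫
            Curv2.bcSnd k X k') := by
  haveI : Finite ↥(irreducibleComponents ↥X) := hirr.to_subtype
  obtain ⟨L, hF, hA, hfd, hsep, hL⟩ :=
    Groth.Agent.Lib.GeomIrrCompsH4.main4646 (X ↘ Spec (CommRingCat.of k))
      (fun Z hZ => residueFieldProp_of_lft k X hZ.1.genericPoint)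
  refine ⟨L, hF, hA, hfd, hsep, ?_⟩
  intro T hT
  exact geomIrr_subscheme (Curv2.bcSnd k X L)
    ⟨T, isClosed_of_mem_irreducibleComponents T hT⟩ (fun K _ _ => hL K T hT)

end Groth.Agent.Lib.GeomIrrVarH4
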