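import Mathlib
import Groth.Prelude.Def_Curv2
import Groth.Prelude.Def_FDesc
import Groth.Agent.Lib.GeomConnFin_helper4
import Groth.Agent.Lib.GeomCompCard_helper4
import Groth.Agent.Lib.GeomConnPt_helper4
import Groth.Agent.Lib.GeomIrrSch_helper4
import Groth.Agent.Lib.RatPts_helper4

set_option autoImplicit false
set_option linter.style.haveILetI false
set_option linter.unusedSectionVars false

universe u

open scoped TensorProduct
open CategoryTheory CategoryTheory.Limits AlgebraicGeometry

namespace Groth.Agent.Lib.IrrCompImageH4

open Groth.Agent.Lib.GeomConnFinH4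

local notation:max "sm[" k ", " K "]" => Spec.map (CommRingCat.ofHom (algebraMap k K))

section Topology

theorem exists_irr_closure_image {A B : Type*} [TopologicalSpace A] [TopologicalSpace B]
    [QuasiSober B] {g : A → B} (hc : Continuous g) (hs : Function.Surjective g) (T : Set B)
    (hT : T ∈ irreducibleComponents B) :
    ∃ T' ∈ irreducibleComponents A, closure (g '' T') = T := by
  have hTirr : IsIrreducible T := hT.1
  have hTcl : IsClosed T := isClosed_of_mem_irreducibleComponents T hT
  obtain ⟨t, ht⟩ : ∃ t, IsGenericPoint t T := QuasiSober.sober hTirr hTcl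
  obtain ⟨t', rfl⟩ := hs t
  refine ⟨irreducibleComponent t', irreducibleComponent_mem_irreducibleComponents t', ?_⟩
  have h1 : IsIrreducible (closure (g '' irreducibleComponent t')) :=
    (isIrreducible_irreducibleComponent.image _ hc.continuousOn).closure
  have h2 : T ⊆ closure (g '' irreducibleComponent t') := by
    rw [← ht.def]
    exact closure_mono (Set.singleton_subset_iff.mpr ⟨t', mem_irreducibleComponent, rfl⟩)
  exact Set.Subset.antisymm (hT.2 h1 h2) h2

theorem image_mem_irr_of_generalizing {A B : Type*} [TopologicalSpace A] [TopologicalSpace B]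
    [QuasiSober A] [T0Space A] [QuasiSober B] {g : A → B} (hc : Continuous g)
    (hcl : IsClosedMap g) (hgen : GeneralizingMap g) {V : Set A}
    (hV : V ∈ irreducibleComponents A) : g '' V ∈ irreducibleComponents B := by
  have hVcl : IsClosed V := isClosed_of_mem_irreducibleComponents V hV
  obtain ⟨η, hη⟩ : ∃ η, IsGenericPoint η V := QuasiSober.sober hV.1 hVcl
  have himg_irr : IsIrreducible (g '' V) := hV.1.image g hc.continuousOn
  have himg_cl : IsClosed (g '' V) := hcl V hVcl
  refine ⟨himg_irr, ?_⟩
  intro W hW hsub
  show W ⊆ g '' V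
  obtain ⟨ω, hω⟩ : ∃ ω, IsGenericPoint ω (closure W) :=
    QuasiSober.sober hW.closure isClosed_closure
  have hsub' : g '' V ⊆ W := hsub
  have hξW : g η ∈ closure W := subset_closure (hsub' (Set.mem_image_of_mem g hη.mem))
  have hspec : ω ⤳ g η := hω.specializes hξW
  obtain ⟨η', hη'η, hη'ω⟩ := hgen hspec
  have hVsub : V ⊆ closure {η'} := by
    rw [← hη.def]
    exact closure_minimal
      (Set.singleton_subset_iff.mpr (specializes_iff_mem_closure.mp hη'η)) isClosed_closure
  have hirr' : IsIrreducible (closure ({η'} : Set A)) := isIrreducible_singleton.closure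
  have hle : closure {η'} ⊆ V := hV.2 hirr' hVsub
  have hgen' : IsGenericPoint η' V := Set.Subset.antisymm hle hVsub
  have heq : η' = η := hgen'.eq hη
  intro w hw
  have h1 : w ∈ closure ({ω} : Set B) := by rw [hω.def]; exact subset_closure hw
  rw [← hη'ω, heq] at h1
  exact closure_minimal (Set.singleton_subset_iff.mpr (Set.mem_image_of_mem g hη.mem)) himg_cl h1

end Topology

section Main

variable {k : Type u} [Field k] {X : Scheme.{u}} (f : X ⟶ Spec (CommRingCat.of k))
  (K : Type u) [Field K] [Algebra k K]

theorem flat_specMap (k K : Type u) [Field k] [Field K] [Algebra k K] : Flat sm[k, K] := by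
  rw [Flat.SpecMap_iff]
  change (algebraMap k K).Flat
  rw [RingHom.flat_algebraMap_iff]
  infer_instance

theorem part1 (T : Set ↥(pullback f sm[k, K]))
    (hT : T ∈ irreducibleComponents ↥(pullback f sm[k, K])) :
    (pullback.fst f sm[k, K]) '' T ∈ irreducibleComponents ↥X := by
  haveI hsc : IsSepClosure k ↥(separableClosure k (AlgebraicClosure K)) := inferInstance
  haveI : IsSepClosed ↥(separableClosure k (AlgebraicClosure K)) := hsc.sep_closed
  haveI : Algebra.IsSeparable k ↥(separableClosure k (AlgebraicClosure K)) := hsc.separable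
  haveI : Algebra.IsIntegral k ↥(separableClosure k (AlgebraicClosure K)) := inferInstance
  -- step a
  haveI := GeomCompCardH4.surjective_bm f K (AlgebraicClosure K)
  obtain ⟨TΩ, hTΩ, hclT⟩ := exists_irr_closure_image (bm f K (AlgebraicClosure K)).continuous
    (bm f K (AlgebraicClosure K)).surjective T hT
  -- step b
  haveI : GeometricallyIrreducible
      sm[↥(separableClosure k (AlgebraicClosure K)), AlgebraicClosure K] :=
    GeomIrrSchH4.geomIrr_specMap (k := ↥(separableClosure k (AlgebraicClosure K)))
      (AlgebraicClosure K)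
  haveI : GeometricallyIrreducible
      (bm f ↥(separableClosure k (AlgebraicClosure K)) (AlgebraicClosure K)) :=
    MorphismProperty.of_isPullback (P := @GeometricallyIrreducible)
      (isPullback_bm f ↥(separableClosure k (AlgebraicClosure K)) (AlgebraicClosure K)).flip
      inferInstance
  haveI := GeomCompCardH4.universallyOpen_bm f ↥(separableClosure k (AlgebraicClosure K))
    (AlgebraicClosure K)
  haveI := GeomCompCardH4.surjective_bm f ↥(separableClosure k (AlgebraicClosure K))
    (AlgebraicClosure K)
  have hopenS : IsOpenMap (bm f ↥(separableClosure k (AlgebraicClosure K)) (AlgebraicClosure K)) :=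
    (bm f ↥(separableClosure k (AlgebraicClosure K)) (AlgebraicClosure K)).isOpenMap
  have hTS : (bm f ↥(separableClosure k (AlgebraicClosure K)) (AlgebraicClosure K)) '' TΩ ∈
      irreducibleComponents ↥(pullback f sm[k, ↥(separableClosure k (AlgebraicClosure K))]) :=
    image_mem_irreducibleComponents_of_isPreirreducible_fiber
      (bm f ↥(separableClosure k (AlgebraicClosure K)) (AlgebraicClosure K))
      (bm f ↥(separableClosure k (AlgebraicClosure K)) (AlgebraicClosure K)).continuous hopenS
      (fun x => (Scheme.Hom.isIrreducible_preimage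
        (bm f ↥(separableClosure k (AlgebraicClosure K)) (AlgebraicClosure K)) hopenS
        isIrreducible_singleton).isPreirreducible)
      (bm f ↥(separableClosure k (AlgebraicClosure K)) (AlgebraicClosure K)).surjective hTΩ
  -- step c
  haveI := GeomConnPtH4.isIntegralHom_specMap k ↥(separableClosure k (AlgebraicClosure K))
  haveI : Flat sm[k, ↥(separableClosure k (AlgebraicClosure K))] := flat_specMap k _
  have hZ : (pullback.fst f sm[k, ↥(separableClosure k (AlgebraicClosure K))]) ''
      ((bm f ↥(separableClosure k (AlgebraicClosure K)) (AlgebraicClosure K)) '' TΩ) ∈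
      irreducibleComponents ↥X :=
    image_mem_irr_of_generalizing
      (pullback.fst f sm[k, ↥(separableClosure k (AlgebraicClosure K))]).continuous
      (pullback.fst f sm[k, ↥(separableClosure k (AlgebraicClosure K))]).isClosedMap
      (Flat.generalizingMap _) hTS
  -- step d
  have hd : (pullback.fst f sm[k, ↥(separableClosure k (AlgebraicClosure K))]) ''
      ((bm f ↥(separableClosure k (AlgebraicClosure K)) (AlgebraicClosure K)) '' TΩ) =
      (pullback.fst f sm[k, K]) '' ((bm f K (AlgebraicClosure K)) '' TΩ) := by
    rw [Set.image_image, Set.image_image]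
    apply Set.image_congr
    intro z _
    rw [bm_fst_apply, bm_fst_apply]
  rw [hd] at hZ
  -- step e
  have hsub1 : (pullback.fst f sm[k, K]) '' ((bm f K (AlgebraicClosure K)) '' TΩ) ⊆
      (pullback.fst f sm[k, K]) '' T := by
    apply Set.image_mono
    rw [← hclT]
    exact subset_closure
  have hirrT : IsIrreducible (closure ((pullback.fst f sm[k, K]) '' T)) :=
    (hT.1.image _ (pullback.fst f sm[k, K]).continuous.continuousOn).closure
  have hsub2 : closure ((pullback.fst f sm[k, K]) '' T) ⊆
      (pullback.fst f sm[k, K]) '' ((bm f K (AlgebraicClosure K)) '' TΩ) :=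
    hZ.2 hirrT (hsub1.trans subset_closure)
  have heq : (pullback.fst f sm[k, K]) '' T =
      (pullback.fst f sm[k, K]) '' ((bm f K (AlgebraicClosure K)) '' TΩ) :=
    Set.Subset.antisymm (subset_closure.trans hsub2) hsub1
  rw [heq]
  exact hZ

theorem part2 (Z : Set ↥X) (hZ : Z ∈ irreducibleComponents ↥X) :
    ∃ T ∈ irreducibleComponents ↥(pullback f sm[k, K]), (pullback.fst f sm[k, K]) '' T = Z := by
  have hZcl : IsClosed Z := isClosed_of_mem_irreducibleComponents Z hZ
  obtain ⟨ξ, hξ⟩ : ∃ ξ, IsGenericPoint ξ Z := QuasiSober.sober hZ.1 hZcl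
  haveI : Surjective sm[k, K] := RatPtsH4.surjective_specMap k K
  haveI : Surjective (pullback.fst f sm[k, K]) :=
    MorphismProperty.pullback_fst (P := @Surjective) f sm[k, K] inferInstance
  obtain ⟨z, hz⟩ := (pullback.fst f sm[k, K]).surjective ξ
  have hT := part1 f K (irreducibleComponent z) (irreducibleComponent_mem_irreducibleComponents z)
  refine ⟨irreducibleComponent z, irreducibleComponent_mem_irreducibleComponents z, ?_⟩
  have hTcl : IsClosed ((pullback.fst f sm[k, K]) '' irreducibleComponent z) :=
    isClosed_of_mem_irreducibleComponents _ hT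
  have hsub : Z ⊆ (pullback.fst f sm[k, K]) '' irreducibleComponent z := by
    rw [← hξ.def]
    exact closure_minimal
      (Set.singleton_subset_iff.mpr ⟨z, mem_irreducibleComponent, hz⟩) hTcl
  exact Set.Subset.antisymm (hZ.2 hT.1 hsub) hsub

theorem main1546 (k : Type u) [Field k] (X : Scheme.{u}) [X.Over (Spec (CommRingCat.of k))]
    (K : Type u) [Field K] [Algebra k K] :
    (∀ T ∈ irreducibleComponents (Curv2.bc k X K : Type u),
      (Curv2.bcFst k X K).base '' T ∈ irreducibleComponents (X : Type u)) ∧
    (∀ Z ∈ irreducibleComponents (X : Type u),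
      ∃ T ∈ irreducibleComponents (Curv2.bc k X K : Type u),
        (Curv2.bcFst k X K).base '' T = Z) :=
  ⟨fun T hT => part1 (X ↘ Spec (CommRingCat.of k)) K T hT,
    fun Z hZ => part2 (X ↘ Spec (CommRingCat.of k)) K Z hZ⟩

end Main

end Groth.Agent.Lib.IrrCompImageH4
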