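import Mathlib
import Groth.Prelude.Def_Curv2
import Groth.Prelude.Def_FDesc
import Groth.Agent.Lib.GeomIrrVar_helper4
import Groth.Agent.Lib.GeomIrrSch_helper4
import Groth.Agent.Lib.IrrCompImage_helper4
import Groth.Agent.Lib.RatPts_helper4
import Groth.Agent.Lib.GeomConnPt_helper4

set_option autoImplicit false
set_option linter.style.haveILetI false
set_option linter.unusedSectionVars false

universe u

open CategoryTheory CategoryTheory.Limits AlgebraicGeometry MonoidalCategory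
  CartesianMonoidalCategory MonObj

namespace Groth.Agent.Lib.GrpIdCompH4

local notation:max "sm[" k ", " K "]" => Spec.map (CommRingCat.ofHom (algebraMap k K))

/-- A closed immersion into a `k'`-scheme is geometrically irreducible over `k'` as soon as all
base changes of its range are irreducible. -/
theorem geomIrr_closedImm {k' : Type u} [Field k'] {W Z : Scheme.{u}}
    (g : W ⟶ Spec (CommRingCat.of k')) (incl : Z ⟶ W) [IsClosedImmersion incl]
    (h : ∀ (K : Type u) [Field K] [Algebra k' K],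
      IsIrreducible ((pullback.fst g sm[k', K]) ⁻¹' (Set.range incl))) :
    GeometricallyIrreducible (incl ≫ g) := by
  refine ⟨?_⟩
  rw [geometrically_iff_of_commRing]
  intro K _ _ Y fst snd hY
  let v : Y ⟶ pullback g sm[k', K] :=
    pullback.lift (fst ≫ incl) snd (by rw [Category.assoc]; exact hY.w)
  have hv1 : v ≫ pullback.fst g sm[k', K] = fst ≫ incl := pullback.lift_fst _ _ _
  have hv2 : v ≫ pullback.snd g sm[k', K] = snd := pullback.lift_snd _ _ _
  have htop : IsPullback fst v incl (pullback.fst g sm[k', K]) := by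
    refine IsPullback.of_bot ?_ hv1.symm (IsPullback.of_hasPullback g sm[k', K])
    rw [hv2]
    exact hY
  haveI : IsClosedImmersion v :=
    MorphismProperty.of_isPullback (P := @IsClosedImmersion) htop inferInstance
  have hrange : Set.range v = (pullback.fst g sm[k', K]) ⁻¹' (Set.range incl) := by
    ext y
    constructor
    · rintro ⟨z, rfl⟩
      show (pullback.fst g sm[k', K]) (v z) ∈ Set.range incl
      rw [← Scheme.Hom.comp_apply, hv1, Scheme.Hom.comp_apply]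
      exact ⟨_, rfl⟩
    · rintro ⟨t, ht⟩
      obtain ⟨p, hp1, hp2⟩ := Scheme.exists_preimage_of_isPullback htop t y ht
      exact ⟨p, hp2⟩
  have hirr : IsIrreducible (Set.range v) := by rw [hrange]; exact h K
  haveI : IrreducibleSpace ↥(Set.range v) := isIrreducible_iff_irreducibleSpace.mp hirr
  exact (v.isClosedEmbedding.isEmbedding.toHomeomorph).irreducibleSpace_iff.mpr inferInstance

/-- Over a rational point (a section) there is exactly one point of the base change. -/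
theorem eq_of_fst_eq_section {k : Type u} [Field k] {X : Scheme.{u}}
    (f : X ⟶ Spec (CommRingCat.of k)) (e : Spec (CommRingCat.of k) ⟶ X) (he : e ≫ f = 𝟙 _)
    (Ω : Type u) [Field Ω] [Algebra k Ω]
    (z1 z2 : ↥(pullback f sm[k, Ω])) (pt : ↥(Spec (CommRingCat.of k)))
    (h1 : (pullback.fst f sm[k, Ω]) z1 = e pt) (h2 : (pullback.fst f sm[k, Ω]) z2 = e pt) :
    z1 = z2 := by
  have hr : ∀ z : ↥(pullback f sm[k, Ω]), (pullback.fst f sm[k, Ω]) z = e pt →
      z ∈ Set.range (pullback.snd e (pullback.fst f sm[k, Ω])) := by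
    intro z hz
    rw [Scheme.Pullback.range_snd]
    exact ⟨pt, hz.symm⟩
  obtain ⟨w1, rfl⟩ := hr z1 h1
  obtain ⟨w2, rfl⟩ := hr z2 h2
  haveI : Subsingleton ↥(pullback e (pullback.fst f sm[k, Ω])) := by
    haveI : IsIso (e ≫ f) := by rw [he]; infer_instance
    haveI : IsIso (pullback.snd (e ≫ f) sm[k, Ω]) := inferInstance
    haveI : Subsingleton ↥(Spec (CommRingCat.of Ω)) :=
      inferInstanceAs (Subsingleton (PrimeSpectrum Ω))
    haveI : Subsingleton ↥(pullback (e ≫ f) sm[k, Ω]) :=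
      (pullback.snd (e ≫ f) sm[k, Ω]).homeomorph.subsingleton
    exact (pullbackRightPullbackFstIso f sm[k, Ω] e).hom.homeomorph.subsingleton
  rw [Subsingleton.elim w1 w2]

section C

variable {k : Type u} [Field k] (G : Over (Spec (CommRingCat.of k))) [GrpObj G]

theorem eta_hom : η[G].left ≫ G.hom = 𝟙 (Spec (CommRingCat.of k)) := Over.w η[G]

theorem mu_hom : μ[G].left ≫ G.hom = (fst G G).left ≫ G.hom :=
  (Over.w μ[G]).trans (Over.w (fst G G)).symm

theorem lift_one_right {A : Scheme.{u}} (p u : A ⟶ G.left)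
    (hu : u = (p ≫ G.hom) ≫ η[G].left)
    (w : A ⟶ (G ⊗ G).left) (hw1 : w ≫ (fst G G).left = p) (hw2 : w ≫ (snd G G).left = u) :
    w ≫ μ[G].left = p := by
  subst hu
  let F : Over.mk (p ≫ G.hom) ⟶ G := Over.homMk p rfl
  let U : Over.mk (p ≫ G.hom) ⟶ G := toUnit (Over.mk (p ≫ G.hom)) ≫ η[G]
  have h := congrArg CommaMorphism.left
    (MonObj.lift_comp_one_right F (toUnit (Over.mk (p ≫ G.hom))))
  have e1 : (lift F U).left ≫ (fst G G).left = p := by
    rw [← Over.comp_left, lift_fst]; rfl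
  have e2 : (lift F U).left ≫ (snd G G).left = (p ≫ G.hom) ≫ η[G].left := by
    rw [← Over.comp_left, lift_snd]; rfl
  have hw : w = (lift F U).left :=
    Over.tensorObj_ext _ _ (hw1.trans e1.symm) (hw2.trans e2.symm)
  rw [hw]
  exact h

theorem lift_one_left {A : Scheme.{u}} (p u : A ⟶ G.left)
    (hu : u = (p ≫ G.hom) ≫ η[G].left)
    (w : A ⟶ (G ⊗ G).left) (hw1 : w ≫ (fst G G).left = u) (hw2 : w ≫ (snd G G).left = p) :
    w ≫ μ[G].left = p := by
  subst hu
  let F : Over.mk (p ≫ G.hom) ⟶ G := Over.homMk p rfl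
  let U : Over.mk (p ≫ G.hom) ⟶ G := toUnit (Over.mk (p ≫ G.hom)) ≫ η[G]
  have h := congrArg CommaMorphism.left
    (MonObj.lift_comp_one_left (toUnit (Over.mk (p ≫ G.hom))) F)
  have e1 : (lift U F).left ≫ (fst G G).left = (p ≫ G.hom) ≫ η[G].left := by
    rw [← Over.comp_left, lift_fst]; rfl
  have e2 : (lift U F).left ≫ (snd G G).left = p := by
    rw [← Over.comp_left, lift_snd]; rfl
  have hw : w = (lift U F).left :=
    Over.tensorObj_ext _ _ (hw1.trans e1.symm) (hw2.trans e2.symm)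
  rw [hw]
  exact h

variable (Ω : Type u) [Field Ω] [Algebra k Ω]

/-- The base change `G_Ω`. -/
noncomputable abbrev XΩ : Scheme.{u} := pullback G.hom sm[k, Ω]

noncomputable abbrev pi : XΩ G Ω ⟶ G.left := pullback.fst G.hom sm[k, Ω]

noncomputable abbrev rho : XΩ G Ω ⟶ Spec (CommRingCat.of Ω) := pullback.snd G.hom sm[k, Ω]

noncomputable abbrev QΩ : Scheme.{u} := pullback (rho G Ω) (rho G Ω)

noncomputable abbrev q1 : QΩ G Ω ⟶ XΩ G Ω := pullback.fst (rho G Ω) (rho G Ω)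

noncomputable abbrev q2 : QΩ G Ω ⟶ XΩ G Ω := pullback.snd (rho G Ω) (rho G Ω)

theorem pi_hom : pi G Ω ≫ G.hom = rho G Ω ≫ sm[k, Ω] := pullback.condition

theorem q_cond : q1 G Ω ≫ rho G Ω = q2 G Ω ≫ rho G Ω := pullback.condition

noncomputable def eΩ : Spec (CommRingCat.of Ω) ⟶ XΩ G Ω :=
  pullback.lift (sm[k, Ω] ≫ η[G].left) (𝟙 _) (by
    rw [Category.assoc, eta_hom, Category.comp_id, Category.id_comp])

theorem eΩ_fst : eΩ G Ω ≫ pi G Ω = sm[k, Ω] ≫ η[G].left := pullback.lift_fst _ _ _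

theorem eΩ_snd : eΩ G Ω ≫ rho G Ω = 𝟙 _ := pullback.lift_snd _ _ _

noncomputable def aMap : QΩ G Ω ⟶ (G ⊗ G).left :=
  pullback.lift (q1 G Ω ≫ pi G Ω) (q2 G Ω ≫ pi G Ω) (by
    rw [Category.assoc, Category.assoc, pi_hom, ← Category.assoc, ← Category.assoc, q_cond])

theorem aMap_fst : aMap G Ω ≫ (fst G G).left = q1 G Ω ≫ pi G Ω := pullback.lift_fst _ _ _

theorem aMap_snd : aMap G Ω ≫ (snd G G).left = q2 G Ω ≫ pi G Ω := pullback.lift_snd _ _ _

noncomputable def muΩ : QΩ G Ω ⟶ XΩ G Ω :=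
  pullback.lift (aMap G Ω ≫ μ[G].left) (q1 G Ω ≫ rho G Ω) (by
    rw [Category.assoc, mu_hom, ← Category.assoc, aMap_fst, Category.assoc, Category.assoc,
      pi_hom])

theorem muΩ_fst : muΩ G Ω ≫ pi G Ω = aMap G Ω ≫ μ[G].left := pullback.lift_fst _ _ _

theorem muΩ_snd : muΩ G Ω ≫ rho G Ω = q1 G Ω ≫ rho G Ω := pullback.lift_snd _ _ _

noncomputable def s1 : XΩ G Ω ⟶ QΩ G Ω :=
  pullback.lift (𝟙 _) (rho G Ω ≫ eΩ G Ω) (by
    rw [Category.id_comp, Category.assoc, eΩ_snd, Category.comp_id])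

noncomputable def s2 : XΩ G Ω ⟶ QΩ G Ω :=
  pullback.lift (rho G Ω ≫ eΩ G Ω) (𝟙 _) (by
    rw [Category.id_comp, Category.assoc, eΩ_snd, Category.comp_id])

theorem s1_fst : s1 G Ω ≫ q1 G Ω = 𝟙 _ := pullback.lift_fst _ _ _

theorem s1_snd : s1 G Ω ≫ q2 G Ω = rho G Ω ≫ eΩ G Ω := pullback.lift_snd _ _ _

theorem s2_fst : s2 G Ω ≫ q1 G Ω = rho G Ω ≫ eΩ G Ω := pullback.lift_fst _ _ _

theorem s2_snd : s2 G Ω ≫ q2 G Ω = 𝟙 _ := pullback.lift_snd _ _ _

theorem u_eq : rho G Ω ≫ eΩ G Ω ≫ pi G Ω = (pi G Ω ≫ G.hom) ≫ η[G].left := by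
  rw [eΩ_fst, pi_hom, Category.assoc]

theorem s1_mu : s1 G Ω ≫ muΩ G Ω = 𝟙 _ := by
  refine pullback.hom_ext (f := G.hom) (g := sm[k, Ω]) ?_ ?_
  · show (s1 G Ω ≫ muΩ G Ω) ≫ pi G Ω = 𝟙 _ ≫ pi G Ω
    rw [Category.assoc, muΩ_fst, Category.id_comp, ← Category.assoc]
    refine lift_one_right G (pi G Ω) (rho G Ω ≫ eΩ G Ω ≫ pi G Ω) (u_eq G Ω)
      (s1 G Ω ≫ aMap G Ω) ?_ ?_
    · rw [Category.assoc, aMap_fst, ← Category.assoc, s1_fst, Category.id_comp]
    · rw [Category.assoc, aMap_snd, ← Category.assoc, s1_snd, Category.assoc]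
  · show (s1 G Ω ≫ muΩ G Ω) ≫ rho G Ω = 𝟙 _ ≫ rho G Ω
    rw [Category.assoc, muΩ_snd, ← Category.assoc, s1_fst]

theorem s2_mu : s2 G Ω ≫ muΩ G Ω = 𝟙 _ := by
  refine pullback.hom_ext (f := G.hom) (g := sm[k, Ω]) ?_ ?_
  · show (s2 G Ω ≫ muΩ G Ω) ≫ pi G Ω = 𝟙 _ ≫ pi G Ω
    rw [Category.assoc, muΩ_fst, Category.id_comp, ← Category.assoc]
    refine lift_one_left G (pi G Ω) (rho G Ω ≫ eΩ G Ω ≫ pi G Ω) (u_eq G Ω)
      (s2 G Ω ≫ aMap G Ω) ?_ ?_
    · rw [Category.assoc, aMap_fst, ← Category.assoc, s2_fst, Category.assoc]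
    · rw [Category.assoc, aMap_snd, ← Category.assoc, s2_snd, Category.id_comp]
  · show (s2 G Ω ≫ muΩ G Ω) ≫ rho G Ω = 𝟙 _ ≫ rho G Ω
    rw [Category.assoc, muΩ_snd, ← Category.assoc, s2_fst, Category.assoc, eΩ_snd,
      Category.comp_id, Category.id_comp]

theorem comp_subset [IsSepClosed Ω] (A B : Set ↥(XΩ G Ω))
    (hA : A ∈ irreducibleComponents ↥(XΩ G Ω)) (hB : B ∈ irreducibleComponents ↥(XΩ G Ω))
    (pt0 : ↥(Spec (CommRingCat.of Ω))) (heA : eΩ G Ω pt0 ∈ A) (heB : eΩ G Ω pt0 ∈ B) :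
    A ⊆ B := by
  haveI : Subsingleton ↥(Spec (CommRingCat.of Ω)) :=
    inferInstanceAs (Subsingleton (PrimeSpectrum Ω))
  have hAcl : IsClosed A := isClosed_of_mem_irreducibleComponents A hA
  have hBcl : IsClosed B := isClosed_of_mem_irreducibleComponents B hB
  let Ac : TopologicalSpace.Closeds ↥(XΩ G Ω) := ⟨A, hAcl⟩
  let Bc : TopologicalSpace.Closeds ↥(XΩ G Ω) := ⟨B, hBcl⟩
  have hrA : Set.range (Scheme.IdealSheafData.vanishingIdeal Ac).subschemeι = A := by
    rw [Scheme.IdealSheafData.range_subschemeι, Scheme.IdealSheafData.coe_support_vanishingIdeal]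
    rfl
  have hrB : Set.range (Scheme.IdealSheafData.vanishingIdeal Bc).subschemeι = B := by
    rw [Scheme.IdealSheafData.range_subschemeι, Scheme.IdealSheafData.coe_support_vanishingIdeal]
    rfl
  haveI : GeometricallyIrreducible
      ((Scheme.IdealSheafData.vanishingIdeal Ac).subschemeι ≫ rho G Ω) :=
    GeomIrrVarH4.geomIrr_subscheme (rho G Ω) Ac
      (fun K _ _ => GeomIrrSchH4.isIrreducible_preimage K (rho G Ω) hA.1)
  haveI : IrreducibleSpace ↥((Scheme.IdealSheafData.vanishingIdeal Bc).subscheme) := by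
    have h1 : IsIrreducible (Set.range (Scheme.IdealSheafData.vanishingIdeal Bc).subschemeι) := by
      rw [hrB]; exact hB.1
    haveI : IrreducibleSpace ↥(Set.range (Scheme.IdealSheafData.vanishingIdeal Bc).subschemeι) :=
      isIrreducible_iff_irreducibleSpace.mp h1
    exact ((Scheme.IdealSheafData.vanishingIdeal Bc).subschemeι.isClosedEmbedding.isEmbedding.toHomeomorph).irreducibleSpace_iff.mpr
      inferInstance
  haveI : IrreducibleSpace ↥(pullback
      ((Scheme.IdealSheafData.vanishingIdeal Ac).subschemeι ≫ rho G Ω)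
      ((Scheme.IdealSheafData.vanishingIdeal Bc).subschemeι ≫ rho G Ω)) := inferInstance
  have hrange := Scheme.Pullback.range_map
    (f := (Scheme.IdealSheafData.vanishingIdeal Ac).subschemeι ≫ rho G Ω)
    (g := (Scheme.IdealSheafData.vanishingIdeal Bc).subschemeι ≫ rho G Ω) (rho G Ω) (rho G Ω)
    (Scheme.IdealSheafData.vanishingIdeal Ac).subschemeι
    (Scheme.IdealSheafData.vanishingIdeal Bc).subschemeι (𝟙 _)
    (by rw [Category.comp_id]) (by rw [Category.comp_id])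
  rw [hrA, hrB] at hrange
  have hW : IsIrreducible ((q1 G Ω) ⁻¹' A ∩ (q2 G Ω) ⁻¹' B) := by
    rw [← hrange, ← Set.image_univ]
    exact (IrreducibleSpace.isIrreducible_univ _).image _
      (Scheme.Hom.continuous _).continuousOn
  have hμW : IsIrreducible ((muΩ G Ω) '' ((q1 G Ω) ⁻¹' A ∩ (q2 G Ω) ⁻¹' B)) :=
    hW.image _ (muΩ G Ω).continuous.continuousOn
  have hpt : ∀ x : ↥(XΩ G Ω), (eΩ G Ω) ((rho G Ω) x) = eΩ G Ω pt0 :=
    fun x => congrArg _ (Subsingleton.elim _ _)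
  have hAsub : A ⊆ (muΩ G Ω) '' ((q1 G Ω) ⁻¹' A ∩ (q2 G Ω) ⁻¹' B) := by
    intro x hx
    refine ⟨s1 G Ω x, ⟨?_, ?_⟩, ?_⟩
    · show (q1 G Ω) (s1 G Ω x) ∈ A
      rw [← Scheme.Hom.comp_apply, s1_fst]
      exact hx
    · show (q2 G Ω) (s1 G Ω x) ∈ B
      rw [← Scheme.Hom.comp_apply, s1_snd, Scheme.Hom.comp_apply, hpt]
      exact heB
    · rw [← Scheme.Hom.comp_apply, s1_mu]
      rfl
  have hBsub : B ⊆ (muΩ G Ω) '' ((q1 G Ω) ⁻¹' A ∩ (q2 G Ω) ⁻¹' B) := by
    intro x hx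
    refine ⟨s2 G Ω x, ⟨?_, ?_⟩, ?_⟩
    · show (q1 G Ω) (s2 G Ω x) ∈ A
      rw [← Scheme.Hom.comp_apply, s2_fst, Scheme.Hom.comp_apply, hpt]
      exact heA
    · show (q2 G Ω) (s2 G Ω x) ∈ B
      rw [← Scheme.Hom.comp_apply, s2_snd]
      exact hx
    · rw [← Scheme.Hom.comp_apply, s2_mu]
      rfl
  exact hAsub.trans (hB.2 hμW hBsub)

theorem preimage_irr [IsSepClosed Ω] [Algebra.IsIntegral k Ω] (T : Set ↥G.left)
    (hT : T ∈ irreducibleComponents ↥G.left)
    (heT : η[G].left (IsLocalRing.closedPoint k) ∈ T) :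
    IsIrreducible ((pi G Ω) ⁻¹' T) := by
  haveI : Subsingleton ↥(Spec (CommRingCat.of k)) :=
    inferInstanceAs (Subsingleton (PrimeSpectrum k))
  have hTcl : IsClosed T := isClosed_of_mem_irreducibleComponents T hT
  obtain ⟨ζ, hζ⟩ := QuasiSober.sober hT.1 hTcl
  let pt0 : ↥(Spec (CommRingCat.of Ω)) := IsLocalRing.closedPoint Ω
  have hπε : (pi G Ω) (eΩ G Ω pt0) = η[G].left (IsLocalRing.closedPoint k) := by
    rw [← Scheme.Hom.comp_apply, eΩ_fst, Scheme.Hom.comp_apply]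
    exact congrArg _ (Subsingleton.elim _ _)
  haveI := GeomConnPtH4.isIntegralHom_specMap k Ω
  have hclosed : IsClosedMap (pi G Ω) := (pullback.fst G.hom sm[k, Ω]).isClosedMap
  haveI := IrrCompImageH4.flat_specMap k Ω
  have hgen : GeneralizingMap (pi G Ω) := Flat.generalizingMap (pullback.fst G.hom sm[k, Ω])
  haveI := RatPtsH4.surjective_specMap k Ω
  have hsurj : Function.Surjective (pi G Ω) := (pullback.fst G.hom sm[k, Ω]).surjective
  have hT0 := irreducibleComponent_mem_irreducibleComponents (eΩ G Ω pt0)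
  have claim1 : ∀ ξ : ↥(XΩ G Ω), (pi G Ω) ξ = ζ →
      closure {ξ} ⊆ irreducibleComponent (eΩ G Ω pt0) ∧ T ⊆ (pi G Ω) '' closure {ξ} := by
    intro ξ hξ
    have hTsub : T ⊆ (pi G Ω) '' closure {ξ} := by
      rw [← hζ.def]
      refine closure_minimal ?_ (hclosed _ isClosed_closure)
      rw [Set.singleton_subset_iff]
      exact ⟨ξ, subset_closure rfl, hξ⟩
    obtain ⟨w, hw, hwe⟩ := hTsub heT
    have hwε : w = eΩ G Ω pt0 :=
      eq_of_fst_eq_section G.hom η[G].left (eta_hom G) Ω w (eΩ G Ω pt0)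
        (IsLocalRing.closedPoint k) hwe hπε
    have hεξ : eΩ G Ω pt0 ∈ closure {ξ} := hwε ▸ hw
    have hsub : closure {ξ} ⊆ irreducibleComponent ξ :=
      closure_minimal (Set.singleton_subset_iff.2 mem_irreducibleComponent)
        isClosed_irreducibleComponent
    have heq : irreducibleComponent ξ = irreducibleComponent (eΩ G Ω pt0) := by
      apply Set.Subset.antisymm
      · exact comp_subset G Ω _ _ (irreducibleComponent_mem_irreducibleComponents ξ) hT0 pt0
          (hsub hεξ) mem_irreducibleComponent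
      · exact comp_subset G Ω _ _ hT0 (irreducibleComponent_mem_irreducibleComponents ξ) pt0
          mem_irreducibleComponent (hsub hεξ)
    exact ⟨heq ▸ hsub, hTsub⟩
  have heq : (pi G Ω) ⁻¹' T = irreducibleComponent (eΩ G Ω pt0) := by
    apply Set.Subset.antisymm
    · intro z hz
      have h1 : ζ ⤳ (pi G Ω) z := by
        rw [specializes_iff_mem_closure, hζ.def]
        exact hz
      obtain ⟨ξ, hξz, hξ⟩ := hgen h1
      exact (claim1 ξ hξ).1 (specializes_iff_mem_closure.1 hξz)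
    · obtain ⟨ξ0, hξ0⟩ := hsurj ζ
      obtain ⟨h1, h2⟩ := claim1 ξ0 hξ0
      have h3 : T ⊆ (pi G Ω) '' irreducibleComponent (eΩ G Ω pt0) :=
        h2.trans (Set.image_mono h1)
      have h4 : IsIrreducible ((pi G Ω) '' irreducibleComponent (eΩ G Ω pt0)) :=
        isIrreducible_irreducibleComponent.image _ (pi G Ω).continuous.continuousOn
      have h5 := hT.2 h4 h3
      intro z hz
      exact h5 ⟨z, hz, rfl⟩
  rw [heq]
  exact isIrreducible_irreducibleComponent

end C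

theorem main7517 (K : Type u) [Field K] (G : Over (Spec (CommRingCat.of K))) [GrpObj G]
    (Z : Scheme.{u}) (incl : Z ⟶ G.left) [IsClosedImmersion incl] [IrreducibleSpace Z]
    (hZ : Set.range ⇑incl ∈ irreducibleComponents ↥G.left)
    (he : η[G].left (IsLocalRing.closedPoint K) ∈ Set.range ⇑incl) :
    GeometricallyIrreducible (incl ≫ G.hom) := by
  refine geomIrr_closedImm G.hom incl (fun K' _ _ => ?_)
  have h := preimage_irr G (AlgebraicClosure K) (Set.range incl) hZ he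
  exact GeomIrrCompsH4.stepB_irr G.hom (AlgebraicClosure K) (Set.range incl) h

end Groth.Agent.Lib.GrpIdCompH4
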