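import Mathlib
import Groth.Prelude.Def_Curv2
import Groth.Agent.Lib.StalkDict_helper4
import Groth.Agent.Lib.GeomRedInsep_helper4

set_option autoImplicit false
set_option linter.style.haveILetI false
set_option linter.unusedSectionVars false
universe u
open scoped TensorProduct
open CategoryTheory CategoryTheory.Limits AlgebraicGeometry

attribute [local instance] Curv2.stalkAlgebra

namespace Groth.Agent.Lib.StalkDict2H4

open Groth.Agent.Lib.FlatPtBCH4 Groth.Agent.Lib.StalkDictH4 Groth.Agent.Lib.GeomRedInsepH4

variable (k : Type u) [Field k] (X : Scheme.{u}) [X.Over (Spec (CommRingCat.of k))]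
variable (K : Type u) [Field K] [Algebra k K]

/-- The identification of `Spec 𝒪_{X,x} ×_X X_K` with `Spec (𝒪_{X,x} ⊗ K)`. -/
noncomputable def eZ (x : X) : pullback (X.fromSpecStalk x) (Curv2.bcFst k X K) ≅
    Spec (CommRingCat.of (X.presheaf.stalk x ⊗[k] K)) :=
  pullbackRightPullbackFstIso (X ↘ Spec (CommRingCat.of k))
    (Spec.map (CommRingCat.ofHom (algebraMap k K))) (X.fromSpecStalk x) ≪≫
  pullback.congrHom (fromSpecStalk_comp k X x)
    (rfl : Spec.map (CommRingCat.ofHom (algebraMap k K)) = _) ≪≫
  pullbackSpecIso k (X.presheaf.stalk x) K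

theorem eZ_inv_fst (x : X) :
    (eZ k X K x).inv ≫ pullback.fst (X.fromSpecStalk x) (Curv2.bcFst k X K) =
      Spec.map (CommRingCat.ofHom (Algebra.TensorProduct.includeLeftRingHom :
        X.presheaf.stalk x →+* X.presheaf.stalk x ⊗[k] K)) := by
  simp only [eZ, Iso.trans_inv, Category.assoc, pullbackRightPullbackFstIso_inv_fst,
    pullback.congrHom_inv, pullback.lift_fst, Category.comp_id]
  exact pullbackSpecIso_inv_fst k (X.presheaf.stalk x) K

theorem tensor_reduced_of_stalks [Algebra.IsAlgebraic k K] (x : X)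
    (h : ∀ x' : Curv2.bc k X K, Curv2.bcFst k X K x' = x →
      _root_.IsReduced ((Curv2.bc k X K).presheaf.stalk x')) :
    _root_.IsReduced (K ⊗[k] X.presheaf.stalk x) := by
  suffices hT : _root_.IsReduced (X.presheaf.stalk x ⊗[k] K) from
    isReduced_of_injective (Algebra.TensorProduct.comm k K (X.presheaf.stalk x))
      (AlgEquiv.injective _)
  apply isReduced_ofLocalizationMaximal
  intro M hM
  let zM : Spec (CommRingCat.of (X.presheaf.stalk x ⊗[k] K)) := ⟨M, hM.isPrime⟩
  have hfst : (pullback.fst (X.fromSpecStalk x) (Curv2.bcFst k X K)) ((eZ k X K x).inv zM) =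
      IsLocalRing.closedPoint (X.presheaf.stalk x) := by
    rw [← Scheme.Hom.comp_apply, eZ_inv_fst]
    apply PrimeSpectrum.ext
    haveI hmax : (Ideal.comap (algebraMap (X.presheaf.stalk x) (X.presheaf.stalk x ⊗[k] K))
        M).IsMaximal :=
      Ideal.isMaximal_comap_of_isIntegral_of_isMaximal (R := X.presheaf.stalk x) M
    exact IsLocalRing.eq_maximalIdeal hmax
  have hx'' : (Curv2.bcFst k X K) ((pullback.snd (X.fromSpecStalk x) (Curv2.bcFst k X K))
      ((eZ k X K x).inv zM)) = x := by
    rw [← Scheme.Hom.comp_apply, ← pullback.condition, Scheme.Hom.comp_apply, hfst]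
    exact Scheme.fromSpecStalk_closedPoint
  haveI hred := h _ hx''
  haveI := isIso_stalkMap_of_flat_of_isPreimmersion
    (pullback.snd (X.fromSpecStalk x) (Curv2.bcFst k X K)) ((eZ k X K x).inv zM)
  haveI hZz : _root_.IsReduced ((pullback (X.fromSpecStalk x) (Curv2.bcFst k X K)).presheaf.stalk
      ((eZ k X K x).inv zM)) :=
    isReduced_of_injective
      (inv ((pullback.snd (X.fromSpecStalk x) (Curv2.bcFst k X K)).stalkMap
        ((eZ k X K x).inv zM))).hom
      ((ConcreteCategory.isIso_iff_bijective _).mp inferInstance).1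
  haveI hS : _root_.IsReduced ((Spec (CommRingCat.of (X.presheaf.stalk x ⊗[k] K))).presheaf.stalk
      zM) :=
    isReduced_of_injective (inv ((eZ k X K x).inv.stalkMap zM)).hom
      ((ConcreteCategory.isIso_iff_bijective _).mp inferInstance).1
  exact isReduced_of_injective
    (Spec.stalkIso (CommRingCat.of (X.presheaf.stalk x ⊗[k] K)) zM).inv.hom
    ((ConcreteCategory.isIso_iff_bijective _).mp inferInstance).1

theorem main1541 (x : X) :
    Curv2.IsGeomReducedAt k X x ↔ Algebra.IsGeometricallyReduced k (X.presheaf.stalk x) := by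
  constructor
  · intro hgr
    have t := (main9634 (k := k) (S := X.presheaf.stalk x)).out 0 1
    exact t.mp (fun k' _ _ _ _ => tensor_reduced_of_stalks k X k' x (fun x' hx' => hgr k' x' hx'))
  · intro hA K _ _ x' hx
    subst hx
    exact stalk_reduced_of_tensor k X K x'
      (Groth.Agent.Lib.PerfectRed.isReduced_tensor_of_isGeometricallyReduced k _ K)

theorem main1610 (x : X) :
    Curv2.IsGeomReducedAt k X x ↔
      ∀ (k' : Type u) [Field k'] [Algebra k k'] [FiniteDimensional k k']
        [IsPurelyInseparable k k'] (x' : Curv2.bc k X k'), Curv2.bcFst k X k' x' = x →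
        _root_.IsReduced ((Curv2.bc k X k').presheaf.stalk x') := by
  constructor
  · intro hgr k' _ _ _ _ x' hx'
    exact hgr k' x' hx'
  · intro h
    have t := (main9634 (k := k) (S := X.presheaf.stalk x)).out 0 1
    have hA : Algebra.IsGeometricallyReduced k (X.presheaf.stalk x) :=
      t.mp (fun k' _ _ _ _ => tensor_reduced_of_stalks k X k' x (fun x' hx' => h k' x' hx'))
    exact (main1541 k X x).mpr hA

end Groth.Agent.Lib.StalkDict2H4
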