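import Mathlib
import Groth.Prelude.Def_Curv2
import Groth.Agent.Lib.StalkDict2_helper4

set_option autoImplicit false
set_option linter.style.haveILetI false
set_option linter.unusedSectionVars false
universe u
open scoped TensorProduct
open CategoryTheory CategoryTheory.Limits AlgebraicGeometry

attribute [local instance] Curv2.stalkAlgebra

namespace Groth.Agent.Lib.StalkDict5H4

open Groth.Agent.Lib.StalkDictH4 Groth.Agent.Lib.StalkDict2H4

variable (k : Type u) [Field k] (X : Scheme.{u}) [X.Over (Spec (CommRingCat.of k))]

theorem geomRed_of_forall_pts (h : ∀ x : X, Curv2.IsGeomReducedAt k X x) :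
    GeometricallyReduced (X ↘ Spec (CommRingCat.of k)) := by
  refine ⟨fun K _ y Z fst snd hpb => ?_⟩
  obtain ⟨ψ, rfl⟩ : ∃ ψ : CommRingCat.of k ⟶ CommRingCat.of K, Spec.map ψ = y :=
    ⟨Spec.preimage _, Spec.map_preimage _⟩
  letI : Algebra k K := ψ.hom.toAlgebra
  haveI : IsReduced (pullback (X ↘ Spec (CommRingCat.of k)) (Spec.map ψ)) := by
    show IsReduced (Curv2.bc k X K)
    haveI : ∀ y' : Curv2.bc k X K, _root_.IsReduced ((Curv2.bc k X K).presheaf.stalk y') :=
      fun y' => h _ K y' rfl
    exact isReduced_of_isReduced_stalk _
  exact isReduced_of_isOpenImmersion hpb.isoPullback.hom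

theorem forall_pts_of_geomRed [GeometricallyReduced (X ↘ Spec (CommRingCat.of k))] (x : X) :
    Curv2.IsGeomReducedAt k X x := by
  intro K _ _ x' _
  haveI : IsReduced (Curv2.bc k X K) :=
    pullback_of_geometrically
      (GeometricallyReduced.geometrically_isReduced (f := X ↘ Spec (CommRingCat.of k))) K _
  infer_instance

theorem main1544 [IsIntegral X] :
    GeometricallyReduced (X ↘ (Spec (CommRingCat.of k))) ↔
      Algebra.IsGeometricallyReduced k X.functionField := by
  constructor
  · intro h
    haveI := h
    exact (main1541 k X (genericPoint X)).mp (forall_pts_of_geomRed k X _)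
  · intro hF
    apply geomRed_of_forall_pts
    intro x
    rw [main1541]
    haveI : Nonempty (⊤ : X.Opens) := ⟨⟨x, trivial⟩⟩
    let φ : X.presheaf.stalk x →ₐ[k] X.functionField :=
      { (algebraMap (X.presheaf.stalk x) X.functionField) with
        commutes' := fun c => by
          show algebraMap (X.presheaf.stalk x) X.functionField
            (X.presheaf.germ ⊤ x trivial (Coh.toGlobal (X ↘ Spec (CommRingCat.of k)) c)) =
            X.presheaf.germ ⊤ (genericPoint X) trivial
              (Coh.toGlobal (X ↘ Spec (CommRingCat.of k)) c)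
          exact Scheme.algebraMap_germ_eq_germToFunctionField X (U := ⊤) (x := x) (Set.mem_univ x) _ }
    exact Algebra.IsGeometricallyReduced.of_injective φ
      (IsFractionRing.injective (X.presheaf.stalk x) X.functionField)

end Groth.Agent.Lib.StalkDict5H4
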