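import Mathlib
import Groth.Prelude.Def_Curv2
import Groth.Agent.Lib.StalkDict5_helper4

set_option autoImplicit false
set_option linter.style.haveILetI false
set_option linter.unusedSectionVars false

universe u

open scoped TensorProduct
open CategoryTheory CategoryTheory.Limits AlgebraicGeometry

attribute [local instance] Curv2.stalkAlgebra

namespace Groth.Agent.Lib.GeomRedGenPtsH4

open Groth.Agent.Lib.StalkDictH4 Groth.Agent.Lib.StalkDict2H4 Groth.Agent.Lib.GeomRedInsepH4

/-- If `B → R_i` is a jointly injective family of `k`-algebra maps and all `K ⊗ R_i` are reduced,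
then `K ⊗ B` is reduced. -/
theorem isReduced_tensor_of_family {k B : Type u} [Field k] [CommRing B] [Algebra k B]
    {ι : Type*} (R : ι → Type u) [∀ i, CommRing (R i)] [∀ i, Algebra k (R i)]
    (φ : ∀ i, B →ₐ[k] R i) (hφ : ∀ b : B, (∀ i, φ i b = 0) → b = 0)
    (K : Type u) [Field K] [Algebra k K] (hR : ∀ i, IsReduced (K ⊗[k] R i)) :
    IsReduced (K ⊗[k] B) := by
  classical
  let ℬ := Module.Basis.ofVectorSpace k K
  have key : ∀ (i : ι) (z : K ⊗[k] B) j,
      TensorProduct.equivFinsuppOfBasisLeft ℬ
          (Algebra.TensorProduct.map (AlgHom.id k K) (φ i) z) j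
        = φ i (TensorProduct.equivFinsuppOfBasisLeft ℬ z j) := by
    intro i z j
    induction z using TensorProduct.induction_on with
    | zero => simp
    | tmul c b =>
      rw [Algebra.TensorProduct.map_tmul, TensorProduct.equivFinsuppOfBasisLeft_apply_tmul_apply,
        TensorProduct.equivFinsuppOfBasisLeft_apply_tmul_apply, map_smul]
      rfl
    | add x y hx hy => simp only [map_add, Finsupp.add_apply, hx, hy]
  refine ⟨fun z hz => ?_⟩
  have h0 : ∀ i, Algebra.TensorProduct.map (AlgHom.id k K) (φ i) z = 0 := fun i =>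
    (hR i).eq_zero _ (hz.map _)
  have h1 : TensorProduct.equivFinsuppOfBasisLeft ℬ z = 0 := by
    ext j
    apply hφ
    intro i
    rw [← key, h0, map_zero]
    rfl
  exact (TensorProduct.equivFinsuppOfBasisLeft ℬ).injective (h1.trans (map_zero _).symm)

variable (k : Type u) [Field k] (X : Scheme.{u}) [X.Over (Spec (CommRingCat.of k))]

/-- `stalkSpecializes` as a `k`-algebra map. -/
noncomputable def specAlgHom {x y : X} (h : y ⤳ x) :
    X.presheaf.stalk x →ₐ[k] X.presheaf.stalk y :=
  { (X.presheaf.stalkSpecializes h).hom with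
    commutes' := fun c => by
      change (X.presheaf.stalkSpecializes h).hom ((X.presheaf.germ ⊤ x trivial).hom
        (Coh.toGlobal (X ↘ Spec (CommRingCat.of k)) c)) =
        (X.presheaf.germ ⊤ y trivial).hom (Coh.toGlobal (X ↘ Spec (CommRingCat.of k)) c)
      have h1 := TopCat.Presheaf.germ_stalkSpecializes X.presheaf (U := ⊤) (y := x) trivial h
      rw [← h1]
      rfl }

theorem specAlgHom_apply {x y : X} (h : y ⤳ x) (b : X.presheaf.stalk x) :
    specAlgHom k X h b = (X.presheaf.stalkSpecializes h).hom b := rfl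

theorem mem_irreducibleComponents_of_minimal (x : X)
    (q : PrimeSpectrum (X.presheaf.stalk x))
    (hq : q.asIdeal ∈ minimalPrimes (X.presheaf.stalk x)) :
    closure {(X.fromSpecStalk x) (q : ↥(Spec (X.presheaf.stalk x)))} ∈
      irreducibleComponents (X : Type u) := by
  set η : X := (X.fromSpecStalk x) (q : ↥(Spec (X.presheaf.stalk x))) with hη
  have hηx : η ⤳ x := by
    have h1 : η ∈ Set.range (X.fromSpecStalk x) := ⟨q, rfl⟩
    rw [Scheme.range_fromSpecStalk] at h1
    exact h1
  refine ⟨isIrreducible_singleton.closure, fun Z' hZ' hle => ?_⟩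
  have hζ : IsGenericPoint hZ'.genericPoint (closure Z') :=
    hZ'.isGenericPoint_genericPoint_closure
  set ζ : X := hZ'.genericPoint with hζdef
  have h1 : ζ ⤳ η := by
    rw [specializes_iff_mem_closure, hζ.def]
    exact subset_closure (hle (subset_closure rfl))
  have h2 : ζ ⤳ x := h1.trans hηx
  obtain ⟨q', hq'⟩ : ζ ∈ Set.range (X.fromSpecStalk x) := by
    rw [Scheme.range_fromSpecStalk]; exact h2
  have h3 : q' ⤳ (q : ↥(Spec (X.presheaf.stalk x))) := by
    rw [← (X.fromSpecStalk x).isEmbedding.isInducing.specializes_iff, hq']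
    exact h1
  have h4 : PrimeSpectrum.asIdeal (R := X.presheaf.stalk x) q' ≤ q.asIdeal :=
    (PrimeSpectrum.le_iff_specializes (R := X.presheaf.stalk x) q' q).mpr h3
  have h5 : q.asIdeal ≤ PrimeSpectrum.asIdeal (R := X.presheaf.stalk x) q' :=
    hq.2 ⟨PrimeSpectrum.isPrime (R := X.presheaf.stalk x) q', bot_le⟩ h4
  have h6 : q' = (q : ↥(Spec (X.presheaf.stalk x))) :=
    PrimeSpectrum.ext (R := X.presheaf.stalk x) (le_antisymm h4 h5)
  have h7 : ζ = η := by rw [← hq', hη]; exact congrArg _ h6
  calc Z' ⊆ closure Z' := subset_closure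
    _ = closure {ζ} := hζ.def.symm
    _ = closure {η} := by rw [h7]

theorem comap_stalkSpecializes (x : X) (q : PrimeSpectrum (X.presheaf.stalk x))
    (h : (X.fromSpecStalk x) (q : ↥(Spec (X.presheaf.stalk x))) ⤳ x) :
    (IsLocalRing.maximalIdeal (X.presheaf.stalk
        ((X.fromSpecStalk x) (q : ↥(Spec (X.presheaf.stalk x)))))).comap
      (X.presheaf.stalkSpecializes h).hom = q.asIdeal := by
  have h1 := Scheme.SpecMap_stalkSpecializes_fromSpecStalk h
  have h2 : (X.fromSpecStalk x) ((Spec.map (X.presheaf.stalkSpecializes h))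
      (IsLocalRing.closedPoint _)) = (X.fromSpecStalk x) (q : ↥(Spec (X.presheaf.stalk x))) := by
    rw [← Scheme.Hom.comp_apply, h1]
    exact Scheme.fromSpecStalk_closedPoint
  have h3 := (X.fromSpecStalk x).isEmbedding.injective h2
  exact congrArg PrimeSpectrum.asIdeal h3

theorem isGeomReducedAt_of_generic [IsReduced X]
    (h : ∀ Z ∈ irreducibleComponents (X : Type u), ∀ η : X, IsGenericPoint η Z →
      Curv2.IsGeomReducedAt k X η) (x : X) : Curv2.IsGeomReducedAt k X x := by
  rw [main1541]
  have t := (main9634 (k := k) (S := X.presheaf.stalk x)).out 2 1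
  refine t.mp (fun K _ _ => ?_)
  let ι := {q : PrimeSpectrum (X.presheaf.stalk x) //
    q.asIdeal ∈ minimalPrimes (X.presheaf.stalk x)}
  let η : ι → X := fun q => (X.fromSpecStalk x) (q.1 : ↥(Spec (X.presheaf.stalk x)))
  have hη : ∀ q : ι, η q ⤳ x := fun q => by
    have h1 : η q ∈ Set.range (X.fromSpecStalk x) := ⟨q.1, rfl⟩
    rw [Scheme.range_fromSpecStalk] at h1
    exact h1
  refine isReduced_tensor_of_family (fun q : ι => X.presheaf.stalk (η q))
    (fun q => specAlgHom k X (hη q)) ?_ K ?_
  · intro b hb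
    have hmem : b ∈ sInf (minimalPrimes (X.presheaf.stalk x)) := by
      rw [Submodule.mem_sInf]
      intro p hp
      let q : ι := ⟨⟨p, hp.1.1⟩, hp⟩
      have hc := comap_stalkSpecializes X x q.1 (hη q)
      have hb' : (X.presheaf.stalkSpecializes (hη q)).hom b = 0 := hb q
      have h2 : b ∈ (IsLocalRing.maximalIdeal (X.presheaf.stalk (η q))).comap
          (X.presheaf.stalkSpecializes (hη q)).hom := by
        rw [Ideal.mem_comap, hb']
        exact zero_mem _
      rw [hc] at h2
      exact h2
    have hbot : sInf (minimalPrimes (X.presheaf.stalk x)) = ⊥ := by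
      change sInf (⊥ : Ideal (X.presheaf.stalk x)).minimalPrimes = ⊥
      rw [Ideal.sInf_minimalPrimes]
      exact nilradical_eq_zero _
    rw [hbot] at hmem
    exact (Submodule.mem_bot _).mp hmem
  · intro q
    have hgr : Curv2.IsGeomReducedAt k X (η q) :=
      h (closure {η q}) (mem_irreducibleComponents_of_minimal X x q.1 q.2) (η q) rfl
    haveI := (main1541 k X (η q)).mp hgr
    exact Groth.Agent.Lib.PerfectRed.isReduced_tensor_of_isGeometricallyReduced k _ K

theorem main1543 [IsReduced X]
    (h : ∀ Z ∈ irreducibleComponents (X : Type u), ∀ η : X, IsGenericPoint η Z →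
      Curv2.IsGeomReducedAt k X η) :
    GeometricallyReduced (X ↘ (Spec (CommRingCat.of k))) :=
  Groth.Agent.Lib.StalkDict5H4.geomRed_of_forall_pts k X (isGeomReducedAt_of_generic k X h)

end Groth.Agent.Lib.GeomRedGenPtsH4
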