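import Mathlib
import Groth.Agent.Lib.GrpIdComp_helper4
import Groth.Agent.Lib.GeomRedGenPts_helper4

set_option autoImplicit false
set_option linter.style.haveILetI false
set_option linter.unusedSectionVars false

universe u

open CategoryTheory CategoryTheory.Limits AlgebraicGeometry MonoidalCategory
  CartesianMonoidalCategory MonObj

namespace Groth.Agent.Lib.GrpPtIrrH4

open Groth.Agent.Lib.GrpIdCompH4

local notation:max "sm[" k ", " K "]" => Spec.map (CommRingCat.ofHom (algebraMap k K))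

section Cc

variable {k : Type u} [Field k] (G : Over (Spec (CommRingCat.of k))) [GrpObj G]
  (Ω : Type u) [Field Ω] [Algebra k Ω]

theorem isIrreducible_W [IsSepClosed Ω] (A B : Set ↥(XΩ G Ω))
    (hA : A ∈ irreducibleComponents ↥(XΩ G Ω)) (hB : B ∈ irreducibleComponents ↥(XΩ G Ω)) :
    IsIrreducible ((q1 G Ω) ⁻¹' A ∩ (q2 G Ω) ⁻¹' B) := by
  haveI : Subsingleton ↥(Spec (CommRingCat.of Ω)) :=
    inferInstanceAs (Subsingleton (PrimeSpectrum Ω))
  have hAcl : IsClosed A := isClosed_of_mem_irreducibleComponents A hA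
  have hBcl : IsClosed B := isClosed_of_mem_irreducibleComponents B hB
  let Ac : TopologicalSpace.Closeds ↥(XΩ G Ω) := ⟨A, hAcl⟩
  let Bc : TopologicalSpace.Closeds ↥(XΩ G Ω) := ⟨B, hBcl⟩
  have hrA : Set.range (Scheme.IdealSheafData.vanishingIdeal Ac).subschemeι = A := by
    rw [Scheme.IdealSheafData.range_subschemeι, Scheme.IdealSheafData.coe_support_vanishingIdeal]
    rfl
  have hrB : Set.range (Scheme.IdealSheafData.vanishingIdeal Bc).subschemeι = B := by
    rw [Scheme.IdealSheafData.range_subschemeι, Scheme.IdealSheafData.coe_support_vanishingIdeal]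
    rfl
  haveI : GeometricallyIrreducible
      ((Scheme.IdealSheafData.vanishingIdeal Ac).subschemeι ≫ rho G Ω) :=
    GeomIrrVarH4.geomIrr_subscheme (rho G Ω) Ac
      (fun K _ _ => GeomIrrSchH4.isIrreducible_preimage K (rho G Ω) hA.1)
  haveI : IrreducibleSpace ↥((Scheme.IdealSheafData.vanishingIdeal Bc).subscheme) := by
    have h1 : IsIrreducible (Set.range (Scheme.IdealSheafData.vanishingIdeal Bc).subschemeι) := by
      rw [hrB]; exact hB.1
    haveI : IrreducibleSpace ↥(Set.range (Scheme.IdealSheafData.vanishingIdeal Bc).subschemeι) :=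
      isIrreducible_iff_irreducibleSpace.mp h1
    exact ((Scheme.IdealSheafData.vanishingIdeal Bc).subschemeι.isClosedEmbedding.isEmbedding.toHomeomorph).irreducibleSpace_iff.mpr
      inferInstance
  haveI : IrreducibleSpace ↥(pullback
      ((Scheme.IdealSheafData.vanishingIdeal Ac).subschemeι ≫ rho G Ω)
      ((Scheme.IdealSheafData.vanishingIdeal Bc).subschemeι ≫ rho G Ω)) := inferInstance
  have hrange := Scheme.Pullback.range_map
    (f := (Scheme.IdealSheafData.vanishingIdeal Ac).subschemeι ≫ rho G Ω)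
    (g := (Scheme.IdealSheafData.vanishingIdeal Bc).subschemeι ≫ rho G Ω) (rho G Ω) (rho G Ω)
    (Scheme.IdealSheafData.vanishingIdeal Ac).subschemeι
    (Scheme.IdealSheafData.vanishingIdeal Bc).subschemeι (𝟙 _)
    (by rw [Category.comp_id]) (by rw [Category.comp_id])
  rw [hrA, hrB] at hrange
  rw [← hrange, ← Set.image_univ]
  exact (IrreducibleSpace.isIrreducible_univ _).image _
    (Scheme.Hom.continuous _).continuousOn

variable (c : Spec (CommRingCat.of Ω) ⟶ XΩ G Ω) (hc : c ≫ rho G Ω = 𝟙 _)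

noncomputable abbrev Qo : Over (Spec (CommRingCat.of k)) :=
  Over.mk (q1 G Ω ≫ pi G Ω ≫ G.hom)

noncomputable abbrev Xo : Over (Spec (CommRingCat.of k)) := Over.mk (pi G Ω ≫ G.hom)

noncomputable def xq : Qo G Ω ⟶ G := Over.homMk (q1 G Ω ≫ pi G Ω) (Category.assoc _ _ _)

noncomputable def yq : Qo G Ω ⟶ G := Over.homMk (q2 G Ω ≫ pi G Ω) (by
  show (q2 G Ω ≫ pi G Ω) ≫ G.hom = q1 G Ω ≫ pi G Ω ≫ G.hom
  rw [Category.assoc, pi_hom, ← Category.assoc, ← q_cond, Category.assoc])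

include hc in
theorem c_rho_assoc {W : Scheme.{u}} (h : Spec (CommRingCat.of Ω) ⟶ W) :
    c ≫ rho G Ω ≫ h = h := by
  rw [← Category.assoc, hc, Category.id_comp]

noncomputable def gq : Qo G Ω ⟶ G := Over.homMk (q1 G Ω ≫ rho G Ω ≫ c ≫ pi G Ω) (by
  show (q1 G Ω ≫ rho G Ω ≫ c ≫ pi G Ω) ≫ G.hom = q1 G Ω ≫ pi G Ω ≫ G.hom
  simp only [Category.assoc]
  rw [pi_hom, c_rho_assoc G Ω c hc])

noncomputable def nuG : Qo G Ω ⟶ G := xq G Ω * (gq G Ω c hc)⁻¹ * yq G Ω

noncomputable def nu : QΩ G Ω ⟶ XΩ G Ω :=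
  pullback.lift (nuG G Ω c hc).left (q1 G Ω ≫ rho G Ω) (by
    rw [Over.w (nuG G Ω c hc)]
    show q1 G Ω ≫ pi G Ω ≫ G.hom = (q1 G Ω ≫ rho G Ω) ≫ sm[k, Ω]
    rw [pi_hom, Category.assoc])

theorem nu_fst : nu G Ω c hc ≫ pi G Ω = (nuG G Ω c hc).left := pullback.lift_fst _ _ _

theorem nu_snd : nu G Ω c hc ≫ rho G Ω = q1 G Ω ≫ rho G Ω := pullback.lift_snd _ _ _

noncomputable def t1 : XΩ G Ω ⟶ QΩ G Ω :=
  pullback.lift (𝟙 _) (rho G Ω ≫ c) (by
    rw [Category.id_comp, Category.assoc, hc, Category.comp_id])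

noncomputable def t2 : XΩ G Ω ⟶ QΩ G Ω :=
  pullback.lift (rho G Ω ≫ c) (𝟙 _) (by
    rw [Category.id_comp, Category.assoc, hc, Category.comp_id])

theorem t1_fst : t1 G Ω c hc ≫ q1 G Ω = 𝟙 _ := pullback.lift_fst _ _ _

theorem t1_snd : t1 G Ω c hc ≫ q2 G Ω = rho G Ω ≫ c := pullback.lift_snd _ _ _

theorem t2_fst : t2 G Ω c hc ≫ q1 G Ω = rho G Ω ≫ c := pullback.lift_fst _ _ _

theorem t2_snd : t2 G Ω c hc ≫ q2 G Ω = 𝟙 _ := pullback.lift_snd _ _ _

noncomputable def T1 : Xo G Ω ⟶ Qo G Ω := Over.homMk (t1 G Ω c hc) (by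
  show t1 G Ω c hc ≫ q1 G Ω ≫ pi G Ω ≫ G.hom = pi G Ω ≫ G.hom
  rw [← Category.assoc, t1_fst, Category.id_comp])

noncomputable def T2 : Xo G Ω ⟶ Qo G Ω := Over.homMk (t2 G Ω c hc) (by
  show t2 G Ω c hc ≫ q1 G Ω ≫ pi G Ω ≫ G.hom = pi G Ω ≫ G.hom
  rw [← Category.assoc, t2_fst, Category.assoc, pi_hom, c_rho_assoc G Ω c hc])

noncomputable def Pq : Xo G Ω ⟶ G := Over.homMk (pi G Ω) rfl

noncomputable def Gq : Xo G Ω ⟶ G := Over.homMk (rho G Ω ≫ c ≫ pi G Ω) (by
  show (rho G Ω ≫ c ≫ pi G Ω) ≫ G.hom = pi G Ω ≫ G.hom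
  simp only [Category.assoc]
  rw [pi_hom, c_rho_assoc G Ω c hc])

theorem T1_xq : T1 G Ω c hc ≫ xq G Ω = Pq G Ω := by
  apply Over.OverMorphism.ext
  show t1 G Ω c hc ≫ q1 G Ω ≫ pi G Ω = pi G Ω
  rw [← Category.assoc, t1_fst, Category.id_comp]

theorem T1_yq : T1 G Ω c hc ≫ yq G Ω = Gq G Ω c hc := by
  apply Over.OverMorphism.ext
  show t1 G Ω c hc ≫ q2 G Ω ≫ pi G Ω = rho G Ω ≫ c ≫ pi G Ω
  rw [← Category.assoc, t1_snd, Category.assoc]

theorem T1_gq : T1 G Ω c hc ≫ gq G Ω c hc = Gq G Ω c hc := by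
  apply Over.OverMorphism.ext
  show t1 G Ω c hc ≫ q1 G Ω ≫ rho G Ω ≫ c ≫ pi G Ω = rho G Ω ≫ c ≫ pi G Ω
  rw [← Category.assoc, t1_fst, Category.id_comp]

theorem T2_xq : T2 G Ω c hc ≫ xq G Ω = Gq G Ω c hc := by
  apply Over.OverMorphism.ext
  show t2 G Ω c hc ≫ q1 G Ω ≫ pi G Ω = rho G Ω ≫ c ≫ pi G Ω
  rw [← Category.assoc, t2_fst, Category.assoc]

theorem T2_yq : T2 G Ω c hc ≫ yq G Ω = Pq G Ω := by
  apply Over.OverMorphism.ext
  show t2 G Ω c hc ≫ q2 G Ω ≫ pi G Ω = pi G Ω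
  rw [← Category.assoc, t2_snd, Category.id_comp]

theorem T2_gq : T2 G Ω c hc ≫ gq G Ω c hc = Gq G Ω c hc := by
  apply Over.OverMorphism.ext
  show t2 G Ω c hc ≫ q1 G Ω ≫ rho G Ω ≫ c ≫ pi G Ω = rho G Ω ≫ c ≫ pi G Ω
  rw [← Category.assoc, t2_fst, Category.assoc, c_rho_assoc G Ω c hc]

theorem T1_nuG : T1 G Ω c hc ≫ nuG G Ω c hc = Pq G Ω := by
  rw [nuG, MonObj.comp_mul, MonObj.comp_mul, GrpObj.comp_inv, T1_xq, T1_gq, T1_yq,
    inv_mul_cancel_right]

theorem T2_nuG : T2 G Ω c hc ≫ nuG G Ω c hc = Pq G Ω := by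
  rw [nuG, MonObj.comp_mul, MonObj.comp_mul, GrpObj.comp_inv, T2_xq, T2_gq, T2_yq,
    mul_inv_cancel, _root_.one_mul]

theorem t1_nu : t1 G Ω c hc ≫ nu G Ω c hc = 𝟙 _ := by
  refine pullback.hom_ext (f := G.hom) (g := sm[k, Ω]) ?_ ?_
  · show (t1 G Ω c hc ≫ nu G Ω c hc) ≫ pi G Ω = 𝟙 _ ≫ pi G Ω
    rw [Category.assoc, nu_fst, Category.id_comp]
    exact congrArg CommaMorphism.left (T1_nuG G Ω c hc)
  · show (t1 G Ω c hc ≫ nu G Ω c hc) ≫ rho G Ω = 𝟙 _ ≫ rho G Ω
    rw [Category.assoc, nu_snd, ← Category.assoc, t1_fst]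

theorem t2_nu : t2 G Ω c hc ≫ nu G Ω c hc = 𝟙 _ := by
  refine pullback.hom_ext (f := G.hom) (g := sm[k, Ω]) ?_ ?_
  · show (t2 G Ω c hc ≫ nu G Ω c hc) ≫ pi G Ω = 𝟙 _ ≫ pi G Ω
    rw [Category.assoc, nu_fst, Category.id_comp]
    exact congrArg CommaMorphism.left (T2_nuG G Ω c hc)
  · show (t2 G Ω c hc ≫ nu G Ω c hc) ≫ rho G Ω = 𝟙 _ ≫ rho G Ω
    rw [Category.assoc, nu_snd, ← Category.assoc, t2_fst, Category.assoc, hc, Category.comp_id,
      Category.id_comp]

include hc in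
theorem comp_subset_c [IsSepClosed Ω] (A B : Set ↥(XΩ G Ω))
    (hA : A ∈ irreducibleComponents ↥(XΩ G Ω)) (hB : B ∈ irreducibleComponents ↥(XΩ G Ω))
    (pt0 : ↥(Spec (CommRingCat.of Ω))) (hcA : c pt0 ∈ A) (hcB : c pt0 ∈ B) :
    A ⊆ B := by
  haveI : Subsingleton ↥(Spec (CommRingCat.of Ω)) :=
    inferInstanceAs (Subsingleton (PrimeSpectrum Ω))
  have hW := isIrreducible_W G Ω A B hA hB
  have hμW : IsIrreducible ((nu G Ω c hc) '' ((q1 G Ω) ⁻¹' A ∩ (q2 G Ω) ⁻¹' B)) :=
    hW.image _ (nu G Ω c hc).continuous.continuousOn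
  have hpt : ∀ x : ↥(XΩ G Ω), c ((rho G Ω) x) = c pt0 :=
    fun x => congrArg _ (Subsingleton.elim _ _)
  have hAsub : A ⊆ (nu G Ω c hc) '' ((q1 G Ω) ⁻¹' A ∩ (q2 G Ω) ⁻¹' B) := by
    intro x hx
    refine ⟨t1 G Ω c hc x, ⟨?_, ?_⟩, ?_⟩
    · show (q1 G Ω) (t1 G Ω c hc x) ∈ A
      rw [← Scheme.Hom.comp_apply, t1_fst]
      exact hx
    · show (q2 G Ω) (t1 G Ω c hc x) ∈ B
      rw [← Scheme.Hom.comp_apply, t1_snd, Scheme.Hom.comp_apply, hpt]
      exact hcB
    · rw [← Scheme.Hom.comp_apply, t1_nu]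
      rfl
  have hBsub : B ⊆ (nu G Ω c hc) '' ((q1 G Ω) ⁻¹' A ∩ (q2 G Ω) ⁻¹' B) := by
    intro x hx
    refine ⟨t2 G Ω c hc x, ⟨?_, ?_⟩, ?_⟩
    · show (q1 G Ω) (t2 G Ω c hc x) ∈ A
      rw [← Scheme.Hom.comp_apply, t2_fst, Scheme.Hom.comp_apply, hpt]
      exact hcA
    · show (q2 G Ω) (t2 G Ω c hc x) ∈ B
      rw [← Scheme.Hom.comp_apply, t2_snd]
      exact hx
    · rw [← Scheme.Hom.comp_apply, t2_nu]
      rfl
  exact hAsub.trans (hB.2 hμW hBsub)

end Cc

/-- In a group scheme over a field, every point lies on exactly one irreducible component. -/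
theorem unique_comp_through {k : Type u} [Field k] (G : Over (Spec (CommRingCat.of k)))
    [GrpObj G] (x : G.left) (Z1 Z2 : Set ↥G.left)
    (h1 : Z1 ∈ irreducibleComponents ↥G.left) (h2 : Z2 ∈ irreducibleComponents ↥G.left)
    (hx1 : x ∈ Z1) (hx2 : x ∈ Z2) : Z1 = Z2 := by
  obtain ⟨ψ, hψ⟩ : ∃ ψ : CommRingCat.of k ⟶ G.left.residueField x,
      Spec.map ψ = G.left.fromSpecResidueField x ≫ G.hom :=
    ⟨Spec.preimage _, Spec.map_preimage _⟩
  letI : Algebra k (AlgebraicClosure (G.left.residueField x)) :=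
    ((algebraMap (G.left.residueField x) (AlgebraicClosure (G.left.residueField x))).comp
      ψ.hom).toAlgebra
  have hsm : sm[k, AlgebraicClosure (G.left.residueField x)] =
      Spec.map (CommRingCat.ofHom (algebraMap (G.left.residueField x)
        (AlgebraicClosure (G.left.residueField x)))) ≫
        G.left.fromSpecResidueField x ≫ G.hom := by
    rw [← hψ, ← Spec.map_comp]
    rfl
  let c : Spec (CommRingCat.of (AlgebraicClosure (G.left.residueField x))) ⟶
      XΩ G (AlgebraicClosure (G.left.residueField x)) :=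
    pullback.lift (Spec.map (CommRingCat.ofHom (algebraMap (G.left.residueField x)
        (AlgebraicClosure (G.left.residueField x)))) ≫ G.left.fromSpecResidueField x) (𝟙 _)
      (by rw [Category.assoc, Category.id_comp, hsm])
  have hc : c ≫ rho G (AlgebraicClosure (G.left.residueField x)) = 𝟙 _ :=
    pullback.lift_snd _ _ _
  have hcπ : c ≫ pi G (AlgebraicClosure (G.left.residueField x)) =
      Spec.map (CommRingCat.ofHom (algebraMap (G.left.residueField x)
        (AlgebraicClosure (G.left.residueField x)))) ≫ G.left.fromSpecResidueField x :=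
    pullback.lift_fst _ _ _
  let pt0 : ↥(Spec (CommRingCat.of (AlgebraicClosure (G.left.residueField x)))) :=
    IsLocalRing.closedPoint (AlgebraicClosure (G.left.residueField x))
  have hc0 : (pi G (AlgebraicClosure (G.left.residueField x))) (c pt0) = x := by
    rw [← Scheme.Hom.comp_apply, hcπ, Scheme.Hom.comp_apply]
    exact Scheme.fromSpecResidueField_apply _ _
  haveI := IrrCompImageH4.flat_specMap k (AlgebraicClosure (G.left.residueField x))
  have hgen : GeneralizingMap (pi G (AlgebraicClosure (G.left.residueField x))) :=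
    Flat.generalizingMap (pullback.fst G.hom sm[k, AlgebraicClosure (G.left.residueField x)])
  have key : ∀ Z : Set ↥G.left, Z ∈ irreducibleComponents ↥G.left → x ∈ Z →
      ∃ ξ : ↥(XΩ G (AlgebraicClosure (G.left.residueField x))),
        c pt0 ∈ irreducibleComponent ξ ∧
        closure {(pi G (AlgebraicClosure (G.left.residueField x))) ξ} = Z := by
    intro Z hZ hxZ
    have hZcl : IsClosed Z := isClosed_of_mem_irreducibleComponents Z hZ
    obtain ⟨ζ, hζ⟩ := QuasiSober.sober hZ.1 hZcl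
    have hζx : ζ ⤳ (pi G (AlgebraicClosure (G.left.residueField x))) (c pt0) := by
      rw [hc0, specializes_iff_mem_closure, hζ.def]
      exact hxZ
    obtain ⟨ξ, hξc, hξ⟩ := hgen hζx
    refine ⟨ξ, ?_, by rw [hξ]; exact hζ.def⟩
    have hsub : closure {ξ} ⊆ irreducibleComponent ξ :=
      closure_minimal (Set.singleton_subset_iff.2 mem_irreducibleComponent)
        isClosed_irreducibleComponent
    exact hsub (specializes_iff_mem_closure.1 hξc)
  obtain ⟨ξ1, hc1, hZ1⟩ := key Z1 h1 hx1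
  obtain ⟨ξ2, hc2, hZ2⟩ := key Z2 h2 hx2
  have hC : irreducibleComponent ξ1 = irreducibleComponent ξ2 := by
    apply Set.Subset.antisymm
    · exact comp_subset_c G _ c hc _ _ (irreducibleComponent_mem_irreducibleComponents ξ1)
        (irreducibleComponent_mem_irreducibleComponents ξ2) pt0 hc1 hc2
    · exact comp_subset_c G _ c hc _ _ (irreducibleComponent_mem_irreducibleComponents ξ2)
        (irreducibleComponent_mem_irreducibleComponents ξ1) pt0 hc2 hc1
  have hI : IsIrreducible ((pi G (AlgebraicClosure (G.left.residueField x))) ''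
      irreducibleComponent ξ1) :=
    isIrreducible_irreducibleComponent.image _
      (pi G (AlgebraicClosure (G.left.residueField x))).continuous.continuousOn
  have hm1 : (pi G (AlgebraicClosure (G.left.residueField x))) ξ1 ∈
      (pi G (AlgebraicClosure (G.left.residueField x))) '' irreducibleComponent ξ1 :=
    ⟨ξ1, mem_irreducibleComponent, rfl⟩
  have hm2 : (pi G (AlgebraicClosure (G.left.residueField x))) ξ2 ∈
      (pi G (AlgebraicClosure (G.left.residueField x))) '' irreducibleComponent ξ1 := by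
    rw [hC]
    exact ⟨ξ2, mem_irreducibleComponent, rfl⟩
  have hs1 : Z1 ⊆ closure ((pi G (AlgebraicClosure (G.left.residueField x))) ''
      irreducibleComponent ξ1) := by
    rw [← hZ1]
    exact closure_mono (Set.singleton_subset_iff.2 hm1)
  have hs2 : Z2 ⊆ closure ((pi G (AlgebraicClosure (G.left.residueField x))) ''
      irreducibleComponent ξ1) := by
    rw [← hZ2]
    exact closure_mono (Set.singleton_subset_iff.2 hm2)
  have e1 := Set.Subset.antisymm hs1 (h1.2 hI.closure hs1)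
  have e2 := Set.Subset.antisymm hs2 (h2.2 hI.closure hs2)
  rw [e1, e2]

theorem main0350 (K : Type u) [Field K] (G : Over (Spec (CommRingCat.of K))) [GrpObj G] :
    (∀ x : G.left, (minimalPrimes (G.left.presheaf.stalk x)).Subsingleton) ∧
      ∃! Z : Set G.left, Z ∈ irreducibleComponents (G.left : Type u) ∧
        η[G].left (IsLocalRing.closedPoint K) ∈ Z := by
  letI : G.left.Over (Spec (CommRingCat.of K)) := ⟨G.hom⟩
  refine ⟨fun x => ?_, ?_⟩
  · intro I1 hI1 I2 hI2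
    let p1 : PrimeSpectrum (G.left.presheaf.stalk x) := ⟨I1, hI1.1.1⟩
    let p2 : PrimeSpectrum (G.left.presheaf.stalk x) := ⟨I2, hI2.1.1⟩
    have hc1 := GeomRedGenPtsH4.mem_irreducibleComponents_of_minimal G.left x p1 hI1
    have hc2 := GeomRedGenPtsH4.mem_irreducibleComponents_of_minimal G.left x p2 hI2
    have hsp : ∀ p : PrimeSpectrum (G.left.presheaf.stalk x),
        x ∈ closure {(G.left.fromSpecStalk x) (p : ↥(Spec (G.left.presheaf.stalk x)))} := by
      intro p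
      have h1 : (G.left.fromSpecStalk x) (p : ↥(Spec (G.left.presheaf.stalk x))) ∈
          Set.range (G.left.fromSpecStalk x) := ⟨p, rfl⟩
      rw [Scheme.range_fromSpecStalk] at h1
      exact specializes_iff_mem_closure.1 h1
    have heq := unique_comp_through G x _ _ hc1 hc2 (hsp p1) (hsp p2)
    have hgp : (G.left.fromSpecStalk x) (p1 : ↥(Spec (G.left.presheaf.stalk x))) =
        (G.left.fromSpecStalk x) (p2 : ↥(Spec (G.left.presheaf.stalk x))) :=
      (isGenericPoint_closure).eq (heq ▸ isGenericPoint_closure)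
    have hp : p1 = p2 := (G.left.fromSpecStalk x).isEmbedding.injective hgp
    exact congrArg PrimeSpectrum.asIdeal hp
  · refine ⟨irreducibleComponent (η[G].left (IsLocalRing.closedPoint K)),
      ⟨irreducibleComponent_mem_irreducibleComponents _, mem_irreducibleComponent⟩, ?_⟩
    rintro Z ⟨hZ, heZ⟩
    exact unique_comp_through G _ _ _ hZ (irreducibleComponent_mem_irreducibleComponents _)
      heZ mem_irreducibleComponent

end Groth.Agent.Lib.GrpPtIrrH4
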