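import Mathlib
import Groth.Agent.Lib.GrpDense_helper4

set_option autoImplicit false
set_option linter.style.haveILetI false

universe u

open CategoryTheory CategoryTheory.Limits AlgebraicGeometry MonoidalCategory
  CartesianMonoidalCategory MonObj

namespace Groth.Agent.Lib.GrpQCH4

/-- The "box" over two affine opens of schemes over an affine base is compact. -/
theorem isCompact_box {X Y S : Scheme.{u}} [IsAffine S] (f : X ⟶ S) (g : Y ⟶ S)
    (U : X.Opens) (V : Y.Opens) (hU : IsAffineOpen U) (hV : IsAffineOpen V) :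
    IsCompact (pullback.fst f g ⁻¹' (U : Set X) ∩ pullback.snd f g ⁻¹' (V : Set Y)) := by
  haveI : IsAffine (U : Scheme.{u}) := hU
  haveI : IsAffine (V : Scheme.{u}) := hV
  have h := Scheme.Pullback.range_map (f := U.ι ≫ f) (g := V.ι ≫ g) f g U.ι V.ι (𝟙 S)
    (by simp) (by simp)
  rw [Scheme.Opens.range_ι, Scheme.Opens.range_ι] at h
  rw [← h]
  exact isCompact_range (Scheme.Hom.continuous _)

theorem main0349 (K : Type u) [Field K] (G : Over (Spec (CommRingCat.of K))) [GrpObj G]
    [IrreducibleSpace G.left] : CompactSpace G.left := by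
  obtain ⟨x⟩ := (inferInstance : Nonempty G.left)
  obtain ⟨_, ⟨U, hU, rfl⟩, hxU, -⟩ :=
    G.left.isBasis_affineOpens.exists_subset_of_mem_open (Set.mem_univ x) isOpen_univ
  have hd : Dense (U : Set G.left) := U.2.dense ⟨x, hxU⟩
  have h := Groth.Agent.Lib.GrpDenseH4.main7823 K G U U hd hd
  have hc : IsCompact ((fst G G).left ⁻¹' (U : Set G.left) ∩ (snd G G).left ⁻¹' (U : Set G.left)) :=
    isCompact_box G.hom G.hom U U hU hU
  refine ⟨?_⟩
  rw [← h]
  exact hc.image μ[G].left.continuous

end Groth.Agent.Lib.GrpQCH4
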