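import Mathlib.CategoryTheory.Monoidal.Cartesian.Grp
import Mathlib.CategoryTheory.Limits.Shapes.Pullback.IsPullback.Defs

/-!
# Shear isomorphism of a group action and the diagonal as a base change of the unit, in a
cartesian monoidal category (helper7)
-/

set_option autoImplicit false
universe v u
open CategoryTheory CategoryTheory.Limits MonoidalCategory CartesianMonoidalCategory MonObj

namespace Groth.Agent.Lib.GrpShearH7

variable {C : Type u} [Category.{v} C] [CartesianMonoidalCategory C] {G X : C} [GrpObj G]

section action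
variable (act : G ⊗ X ⟶ X) (one_act : (η[G] ▷ X) ≫ act = (λ_ X).hom)
  (mul_act : (μ[G] ▷ X) ≫ act = (α_ G G X).hom ≫ (G ◁ act) ≫ act)

include mul_act in
lemma act_mul {T : C} (g h : T ⟶ G) (x : T ⟶ X) :
    lift (g * h) x ≫ act = lift g (lift h x ≫ act) ≫ act := by
  have := congrArg (fun k => lift (lift g h) x ≫ k) mul_act
  simpa [Hom.mul_def] using this

include one_act in
lemma act_one {T : C} (x : T ⟶ X) : lift (1 : T ⟶ G) x ≫ act = x := by
  have := congrArg (fun k => lift (toUnit T) x ≫ k) one_act
  simpa [Hom.one_def] using this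

include one_act mul_act in
lemma act_inv_act {T : C} (g : T ⟶ G) (x : T ⟶ X) :
    lift g⁻¹ (lift g x ≫ act) ≫ act = x := by
  rw [← act_mul act mul_act, inv_mul_cancel, act_one act one_act]

include one_act mul_act in
lemma act_act_inv {T : C} (g : T ⟶ G) (x : T ⟶ X) :
    lift g (lift g⁻¹ x ≫ act) ≫ act = x := by
  rw [← act_mul act mul_act, mul_inv_cancel, act_one act one_act]

/-- the shear map `(g, x) ↦ (g, g x)` -/
def shear : G ⊗ X ⟶ G ⊗ X := lift (fst G X) act

/-- its inverse `(g, y) ↦ (g, g⁻¹ y)` -/
def shearInv : G ⊗ X ⟶ G ⊗ X := lift (fst G X) (lift ((fst G X)⁻¹) (snd G X) ≫ act)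

lemma shear_snd : shear act ≫ snd G X = act := lift_snd _ _

include one_act mul_act in
lemma shear_shearInv : shear act ≫ shearInv act = 𝟙 _ := by
  unfold shear shearInv
  apply CartesianMonoidalCategory.hom_ext
  · rw [Category.assoc, lift_fst, lift_fst, Category.id_comp]
  · rw [Category.assoc, lift_snd, ← Category.assoc, comp_lift, GrpObj.comp_inv, lift_fst,
      lift_snd, Category.id_comp]
    have := act_inv_act act one_act mul_act (fst G X) (snd G X)
    rwa [lift_fst_snd, Category.id_comp] at this

include one_act mul_act in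
lemma shearInv_shear : shearInv act ≫ shear act = 𝟙 _ := by
  unfold shear shearInv
  apply CartesianMonoidalCategory.hom_ext
  · rw [Category.assoc, lift_fst, lift_fst, Category.id_comp]
  · rw [Category.assoc, lift_snd, Category.id_comp]
    exact act_act_inv act one_act mul_act (fst G X) (snd G X)

include one_act mul_act in
lemma isIso_shear : IsIso (shear act) :=
  ⟨shearInv act, shear_shearInv act one_act mul_act, shearInv_shear act one_act mul_act⟩

end action

/-- the diagonal of a group object is the base change of the unit along `(g, h) ↦ g⁻¹ h` -/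
theorem isPullback_diag_unit (G : C) [GrpObj G] :
    IsPullback (toUnit G) (lift (𝟙 G) (𝟙 G)) η[G] ((fst G G)⁻¹ * snd G G) := by
  have w : toUnit G ≫ η[G] = lift (𝟙 G) (𝟙 G) ≫ ((fst G G)⁻¹ * snd G G) := by
    rw [MonObj.comp_mul, GrpObj.comp_inv, lift_fst, lift_snd, inv_mul_cancel, Hom.one_def]
  refine ⟨⟨w⟩, ⟨PullbackCone.IsLimit.mk w (fun s => s.snd ≫ fst G G) ?_ ?_ ?_⟩⟩
  · intro s
    exact toUnit_unique _ _
  · intro s
    have h1 : (s.snd ≫ fst G G)⁻¹ * (s.snd ≫ snd G G) = 1 := by
      have := s.condition
      rw [MonObj.comp_mul, GrpObj.comp_inv] at this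
      rw [← this, Hom.one_def]
      congr 1
      exact toUnit_unique _ _
    have h2 : s.snd ≫ fst G G = s.snd ≫ snd G G := inv_mul_eq_one.mp h1
    apply CartesianMonoidalCategory.hom_ext
    · rw [Category.assoc, lift_fst, Category.comp_id]
    · rw [Category.assoc, lift_snd, Category.comp_id]
      exact h2
  · intro s m _ hm
    rw [← hm, Category.assoc, lift_fst, Category.comp_id]

end Groth.Agent.Lib.GrpShearH7
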