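import Mathlib
import Groth.Agent.Lib.GrpShear_helper7

set_option autoImplicit false
set_option linter.style.haveILetI false

universe u

open CategoryTheory CategoryTheory.Limits AlgebraicGeometry MonoidalCategory
  CartesianMonoidalCategory MonObj

namespace Groth.Agent.Lib.GrpSepDiscH4

set_option maxHeartbeats 800000 in
theorem isClosedImmersion_of_section_of_discrete {X S : Scheme.{u}} [DiscreteTopology S]
    (π : X ⟶ S) (ε : S ⟶ X) (h : ε ≫ π = 𝟙 S) : IsClosedImmersion ε := by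
  let U : S → X.Opens := fun s => π ⁻¹ᵁ ⟨{s}, isOpen_discrete _⟩
  have hU : ⨆ s, U s = ⊤ := by
    rw [eq_top_iff]
    intro x _
    rw [TopologicalSpace.Opens.mem_iSup]
    exact ⟨π x, rfl⟩
  rw [IsZariskiLocalAtTarget.iff_of_iSup_eq_top (P := @IsClosedImmersion) U hU]
  intro s
  have hpt : ∀ t : S, π (ε t) = t := fun t => by
    rw [← Scheme.Hom.comp_apply, h]; rfl
  haveI : Subsingleton ↥(ε ⁻¹ᵁ U s) := by
    refine ⟨fun a b => Subtype.ext ?_⟩
    have ha : π (ε a.1) = s := a.2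
    have hb : π (ε b.1) = s := b.2
    rw [hpt] at ha hb
    rw [ha, hb]
  haveI : Subsingleton ↥((ε ⁻¹ᵁ U s : S.Opens) : Scheme.{u}) := ‹_›
  have hrange : Set.range ((U s).ι ≫ π) ⊆ Set.range (ε ⁻¹ᵁ U s).ι := by
    rintro _ ⟨x, rfl⟩
    rw [Scheme.Opens.range_ι]
    have hx : π x.1 = s := x.2
    show π (ε (((U s).ι ≫ π) x)) = s
    rw [hpt]
    exact hx
  let r : ((U s : X.Opens) : Scheme.{u}) ⟶ ((ε ⁻¹ᵁ U s : S.Opens) : Scheme.{u}) :=
    IsOpenImmersion.lift (ε ⁻¹ᵁ U s).ι ((U s).ι ≫ π) hrange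
  have hr : (ε ∣_ U s) ≫ r = 𝟙 _ := by
    rw [← cancel_mono (ε ⁻¹ᵁ U s).ι, Category.assoc, IsOpenImmersion.lift_fac,
      ← Category.assoc, morphismRestrict_ι, Category.assoc, h, Category.comp_id, Category.id_comp]
  exact isClosedImmersion_of_comp_eq_id r (ε ∣_ U s) hr

theorem main5331 (S : Scheme.{u}) [DiscreteTopology S] (G : Over S) [GrpObj G] :
    IsSeparated G.hom := by
  have sq' : IsPullback G.hom (pullback.diagonal G.hom) η[G].left
      (((fst G G)⁻¹ * snd G G : G ⊗ G ⟶ G)).left :=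
    (Groth.Agent.Lib.GrpShearH7.isPullback_diag_unit G).map (Over.forget S)
  haveI : IsClosedImmersion η[G].left :=
    isClosedImmersion_of_section_of_discrete G.hom η[G].left (Over.w η[G])
  exact ⟨MorphismProperty.of_isPullback (P := @IsClosedImmersion) sq' inferInstance⟩

end Groth.Agent.Lib.GrpSepDiscH4
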