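import Mathlib
set_option autoImplicit false
set_option linter.style.haveILetI false

universe v u

open CategoryTheory CategoryTheory.Limits AlgebraicGeometry MonoidalCategory
  CartesianMonoidalCategory MonObj

namespace MaxOpenSubH4

section abstract

variable {C : Type u} [Category.{v} C] [CartesianMonoidalCategory C]

lemma isPullback_whiskerRight {A K : C} (a : A ⟶ K) (B : C) :
    IsPullback (fst A B) (a ▷ B) a (fst K B) := by
  have w : fst A B ≫ a = (a ▷ B) ≫ fst K B := (whiskerRight_fst a B).symm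
  refine ⟨⟨w⟩, ⟨PullbackCone.IsLimit.mk w (fun s => lift s.fst (s.snd ≫ snd K B)) ?_ ?_ ?_⟩⟩
  · intro s
    exact lift_fst _ _
  · intro s
    apply CartesianMonoidalCategory.hom_ext
    · rw [Category.assoc, whiskerRight_fst, ← Category.assoc, lift_fst, s.condition]
    · rw [Category.assoc, whiskerRight_snd, lift_snd]
  · intro s m h1 h2
    apply CartesianMonoidalCategory.hom_ext
    · rw [lift_fst, h1]
    · rw [lift_snd, ← h2, Category.assoc, whiskerRight_snd]

lemma isPullback_mulRight {K B : C} [GrpObj K] (a : B ⟶ K) :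
    IsPullback (snd K B) (fst K B * (snd K B ≫ a)) (toUnit B) (toUnit K) := by
  have w : snd K B ≫ toUnit B = (fst K B * (snd K B ≫ a)) ≫ toUnit K := toUnit_unique _ _
  refine ⟨⟨w⟩, ⟨PullbackCone.IsLimit.mk w
    (fun s => lift (s.snd * (s.fst ≫ a)⁻¹) s.fst) ?_ ?_ ?_⟩⟩
  · intro s
    exact lift_snd _ _
  · intro s
    rw [MonObj.comp_mul, lift_fst, ← Category.assoc, lift_snd, inv_mul_cancel_right]
  · intro s m h1 h2
    apply CartesianMonoidalCategory.hom_ext
    · rw [lift_fst]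
      rw [MonObj.comp_mul, ← Category.assoc, h1] at h2
      exact eq_mul_inv_of_mul_eq h2
    · rw [lift_snd, h1]

lemma tensor_mul_eq {K B : C} [GrpObj K] (a : B ⟶ K) :
    (a ⊗ₘ a) ≫ μ[K] = (a ▷ B) ≫ (fst K B * (snd K B ≫ a)) := by
  calc (a ⊗ₘ a) ≫ μ[K] = (lift (fst B B) (snd B B) ≫ (a ⊗ₘ a)) ≫ μ[K] := by
        rw [lift_fst_snd, Category.id_comp]
    _ = lift (fst B B ≫ a) (snd B B ≫ a) ≫ μ[K] := by rw [lift_map]
    _ = (fst B B ≫ a) * (snd B B ≫ a) := (Hom.mul_def _ _).symm
    _ = (a ▷ B) ≫ (fst K B * (snd K B ≫ a)) := by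
        rw [MonObj.comp_mul, whiskerRight_fst, ← Category.assoc, whiskerRight_snd]

end abstract

lemma universallyOpen_of_comp_surjective {X Y Z : Scheme.{u}} (f : X ⟶ Y) (g : Y ⟶ Z)
    [Surjective f] [UniversallyOpen (f ≫ g)] : UniversallyOpen g := by
  rw [UniversallyOpen.eq]
  intro Y' T i₁ i₂ g' hpb
  have h1 : IsPullback (pullback.fst i₁ f ≫ g') (pullback.snd i₁ f) i₂ (f ≫ g) :=
    (IsPullback.of_hasPullback i₁ f).paste_horiz hpb
  haveI : UniversallyOpen (pullback.fst i₁ f ≫ g') :=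
    MorphismProperty.of_isPullback (P := @UniversallyOpen) h1.flip inferInstance
  have h2 : IsOpenMap (pullback.fst i₁ f ≫ g') := (pullback.fst i₁ f ≫ g').isOpenMap
  haveI : Surjective (pullback.fst i₁ f) :=
    MorphismProperty.pullback_fst (P := @Surjective) _ _ inferInstance
  have h3 : Function.Surjective (pullback.fst i₁ f) := (pullback.fst i₁ f).surjective
  show IsOpenMap g'
  intro U hU
  have e : g' '' U = (pullback.fst i₁ f ≫ g') '' ((pullback.fst i₁ f) ⁻¹' U) := by
    rw [Scheme.Hom.comp_base, TopCat.coe_comp, Set.image_comp, Set.image_preimage_eq _ h3]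
  rw [e]
  exact h2 _ (hU.preimage (pullback.fst i₁ f).continuous)

theorem univOpen_mul {S : Scheme.{u}} (K B : Over S) [GrpObj K] (a : B ⟶ K)
    [UniversallyOpen a.left] [UniversallyOpen B.hom] :
    UniversallyOpen ((a ⊗ₘ a) ≫ μ[K]).left := by
  rw [tensor_mul_eq a, Over.comp_left]
  haveI : UniversallyOpen (a ▷ B).left :=
    MorphismProperty.of_isPullback (P := @UniversallyOpen)
      ((isPullback_whiskerRight a B).map (Over.forget S)) ‹UniversallyOpen a.left›
  haveI : UniversallyOpen (fst K B * (snd K B ≫ a)).left :=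
    MorphismProperty.of_isPullback (P := @UniversallyOpen)
      ((isPullback_mulRight a).map (Over.forget S)) ‹UniversallyOpen B.hom›
  infer_instance

set_option maxHeartbeats 1600000 in
theorem main5311 (S : Scheme.{u}) (G H : Over S) [GrpObj G] [GrpObj H]
    (u : G ⟶ H) [IsMonHom u] (hG : UniversallyOpen G.hom ∨ UniversallyOpen H.hom)
    (V : G.left.Opens) (hV : UniversallyOpen (V.ι ≫ u.left))
    (hmax : ∀ W : G.left.Opens, UniversallyOpen (W.ι ≫ u.left) → W ≤ V) :
    IsOpen (G.hom.base '' (V : Set G.left)) ∧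
    (∀ g ∈ V, ∀ p : ↥(𝟙_ (Over S)).left, (𝟙_ (Over S)).hom.base p = G.hom.base g →
      η[G].left.base p ∈ V) ∧
    (∀ g ∈ V, ι[G].left.base g ∈ V) ∧
    (∀ z : ↥(G ⊗ G).left, (fst G G).left.base z ∈ V → (snd G G).left.base z ∈ V →
      μ[G].left.base z ∈ V) := by
  have hVo : UniversallyOpen (V.ι ≫ G.hom) := by
    rcases hG with h | h
    · infer_instance
    · have e : V.ι ≫ G.hom = (V.ι ≫ u.left) ≫ H.hom := by rw [Category.assoc, Over.w]
      rw [e]; infer_instance
  -- inversion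
  have h_inv : ∀ g ∈ V, ι[G].left g ∈ V := by
    haveI : IsIso ι[G].left := (Over.forget S).map_isIso ι[G]
    haveI : IsIso ι[H].left := (Over.forget S).map_isIso ι[H]
    have e1 : (ι[G].left ⁻¹ᵁ V).ι ≫ u.left =
        ((ι[G].left ∣_ V) ≫ V.ι ≫ u.left) ≫ ι[H].left := by
      have e2 : ι[G].left ≫ u.left = u.left ≫ ι[H].left := by
        rw [← Over.comp_left, ← Over.comp_left, GrpObj.inv_hom]
      have e3 : ι[H].left ≫ ι[H].left = 𝟙 _ := by
        rw [← Over.comp_left, GrpObj.inv_comp_inv]; rfl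
      rw [Category.assoc, Category.assoc, ← Category.assoc (ι[G].left ∣_ V), morphismRestrict_ι,
        Category.assoc, ← Category.assoc ι[G].left, e2, Category.assoc, e3, Category.comp_id]
    have hW : UniversallyOpen ((ι[G].left ⁻¹ᵁ V).ι ≫ u.left) := by
      rw [e1]; infer_instance
    have hle := hmax _ hW
    intro g hg
    apply hle
    show ι[G].left (ι[G].left g) ∈ V
    have e4 : ι[G].left (ι[G].left g) = g := by
      rw [← Scheme.Hom.comp_apply, ← Over.comp_left, GrpObj.inv_comp_inv]; rfl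
    rw [e4]; exact hg
  -- multiplication
  have h_mul : ∀ z : ↥(G ⊗ G).left, (fst G G).left z ∈ V → (snd G G).left z ∈ V →
      μ[G].left z ∈ V := by
    obtain ⟨Vo, hVo_def⟩ : ∃ Vo : Over S, Vo = Over.mk (V.ι ≫ G.hom) := ⟨_, rfl⟩
    subst hVo_def
    obtain ⟨iV, hiV⟩ : ∃ iV : Over.mk (V.ι ≫ G.hom) ⟶ G, iV.left = V.ι :=
      ⟨Over.homMk V.ι rfl, rfl⟩
    haveI : UniversallyOpen (Over.mk (V.ι ≫ G.hom)).hom := hVo
    haveI : UniversallyOpen iV.left := by rw [hiV]; infer_instance
    haveI : UniversallyOpen (iV ≫ u).left := by rw [Over.comp_left, hiV]; exact hV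
    have hm : UniversallyOpen ((iV ⊗ₘ iV) ≫ μ[G]).left := univOpen_mul G _ iV
    have hmu : UniversallyOpen (((iV ⊗ₘ iV) ≫ μ[G]) ≫ u).left := by
      have e : ((iV ⊗ₘ iV) ≫ μ[G]) ≫ u = ((iV ≫ u) ⊗ₘ (iV ≫ u)) ≫ μ[H] := by
        rw [Category.assoc, IsMonHom.mul_hom, ← Category.assoc, tensorHom_comp_tensorHom]
      rw [e]
      exact univOpen_mul H _ (iV ≫ u)
    obtain ⟨m, hm_def⟩ : ∃ m : (Over.mk (V.ι ≫ G.hom) ⊗ Over.mk (V.ι ≫ G.hom)) ⟶ G,
      m = (iV ⊗ₘ iV) ≫ μ[G] := ⟨_, rfl⟩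
    rw [← hm_def] at hm hmu
    let W : G.left.Opens := ⟨Set.range m.left, m.left.isOpenMap.isOpen_range⟩
    have hWr : Set.range m.left ⊆ Set.range W.ι := by
      rw [Scheme.Opens.range_ι]; exact subset_rfl
    have hm' : IsOpenImmersion.lift W.ι m.left hWr ≫ W.ι = m.left :=
      IsOpenImmersion.lift_fac _ _ _
    haveI : Surjective (IsOpenImmersion.lift W.ι m.left hWr) := by
      refine ⟨fun w => ?_⟩
      obtain ⟨z, hz⟩ : W.ι w ∈ Set.range m.left := by
        have h0 : W.ι w ∈ Set.range W.ι := Set.mem_range_self w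
        rw [Scheme.Opens.range_ι] at h0
        exact h0
      refine ⟨z, ?_⟩
      apply W.ι.isOpenEmbedding.injective
      rw [← Scheme.Hom.comp_apply, hm']
      exact hz
    haveI : UniversallyOpen (IsOpenImmersion.lift W.ι m.left hWr ≫ (W.ι ≫ u.left)) := by
      rw [← Category.assoc, hm', ← Over.comp_left]; exact hmu
    have hW : UniversallyOpen (W.ι ≫ u.left) :=
      universallyOpen_of_comp_surjective (IsOpenImmersion.lift W.ι m.left hWr) _
    have hle := hmax W hW
    intro z hz1 hz2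
    have hz : z ∈ Set.range (iV ⊗ₘ iV).left := by
      rw [Over.tensorHom_left, Scheme.Pullback.range_map]
      refine ⟨?_, ?_⟩
      · show (fst G G).left z ∈ Set.range iV.left
        rw [hiV, Scheme.Opens.range_ι]; exact hz1
      · show (snd G G).left z ∈ Set.range iV.left
        rw [hiV, Scheme.Opens.range_ι]; exact hz2
    obtain ⟨z', rfl⟩ := hz
    apply hle
    show μ[G].left ((iV ⊗ₘ iV).left z') ∈ Set.range m.left
    refine ⟨z', ?_⟩
    rw [hm_def, Over.comp_left, Scheme.Hom.comp_apply]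
  refine ⟨?_, ?_, h_inv, h_mul⟩
  · have h1 : G.hom.base '' (V : Set G.left) = Set.range (V.ι ≫ G.hom) := by
      rw [Scheme.Hom.comp_base, TopCat.coe_comp, Set.range_comp, Scheme.Opens.range_ι]
    rw [h1]
    exact (V.ι ≫ G.hom).isOpenMap.isOpen_range
  · intro g hg p hp
    have hz := h_mul ((lift (𝟙 G) ι[G]).left g) ?_ ?_
    · rw [← Scheme.Hom.comp_apply, ← Over.comp_left, GrpObj.right_inv, Over.comp_left,
        Scheme.Hom.comp_apply, Over.toUnit_left] at hz
      have hp' : p = G.hom g := hp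
      rw [hp']; exact hz
    · rw [← Scheme.Hom.comp_apply, ← Over.comp_left, lift_fst]; exact hg
    · rw [← Scheme.Hom.comp_apply, ← Over.comp_left, lift_snd]; exact h_inv g hg

end MaxOpenSubH4
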