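import Mathlib
import Groth.Agent.Lib.GrpIdComp_helper4
import Groth.Agent.Lib.GrpPtIrr_helper4
import Groth.Agent.Lib.GrpQC_helper4
import Groth.Agent.Lib.GrpSepDisc_helper4
import Groth.Agent.Lib.MaxOpenSub_helper4

set_option autoImplicit false
set_option linter.style.haveILetI false
set_option linter.unusedSectionVars false

universe u

open CategoryTheory CategoryTheory.Limits AlgebraicGeometry MonoidalCategory
  CartesianMonoidalCategory MonObj

namespace Groth.Agent.Lib.GrpConnIrrH4

/-- In a group scheme over a one-point integral base, if `y` specialises to `g` then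
`g = y · (y⁻¹ g)` with `y⁻¹ g` specialising to the unit. -/
theorem exists_factor {S : Scheme.{u}} [IsIntegral S] [Subsingleton S] (G : Over S) [GrpObj G]
    (pt₀ : S) (g y : G.left) (hy : y ⤳ g) :
    ∃ z : ↥(G ⊗ G).left, μ[G].left z = g ∧ (fst G G).left z = y ∧
      (snd G G).left z ⤳ η[G].left pt₀ := by
  have hsub : ∀ a b : ↥S, a = b := fun a b => Subsingleton.elim a b
  let Kobj : Over S := Over.mk (G.left.fromSpecResidueField g ≫ G.hom)
  let c0 : Kobj ⟶ G := Over.homMk (G.left.fromSpecResidueField g) rfl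
  let T : Over S := G ⊗ Kobj
  let p : T ⟶ G := fst G Kobj
  let q : T ⟶ Kobj := snd G Kobj
  let cc : T ⟶ G := q ≫ c0
  let b : T ⟶ G := p⁻¹ * cc
  let s0 : Kobj ⟶ T := lift c0 (𝟙 Kobj)
  have hs0p : s0 ≫ p = c0 := lift_fst _ _
  have hs0q : s0 ≫ q = 𝟙 Kobj := lift_snd _ _
  have hs0cc : s0 ≫ cc = c0 := by
    show s0 ≫ q ≫ c0 = c0
    rw [← Category.assoc, hs0q, Category.id_comp]
  have hs0b : s0 ≫ b = toUnit Kobj ≫ η[G] := by
    show s0 ≫ (p⁻¹ * cc) = _
    rw [MonObj.comp_mul, GrpObj.comp_inv, hs0p, hs0cc, inv_mul_cancel, Hom.one_def]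
  haveI hpflat : Flat p.left := by
    haveI : Flat Kobj.hom := inferInstance
    exact (inferInstance : Flat (pullback.fst G.hom Kobj.hom))
  have e1 : (lift p b).left ≫ (fst G G).left = p.left := by rw [← Over.comp_left, lift_fst]
  have e2 : (lift p b).left ≫ (snd G G).left = b.left := by rw [← Over.comp_left, lift_snd]
  have e3 : (lift p b).left ≫ μ[G].left = q.left ≫ c0.left := by
    rw [← Over.comp_left, ← Over.comp_left, ← Hom.mul_def]
    congr 1
    show p * (p⁻¹ * cc) = cc
    group
  let pt : ↥Kobj.left := IsLocalRing.closedPoint (G.left.residueField g)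
  have hpt0 : p.left (s0.left pt) = g := by
    rw [← Scheme.Hom.comp_apply, ← Over.comp_left, hs0p]
    exact Scheme.fromSpecResidueField_apply _ _
  have hbt0 : b.left (s0.left pt) = η[G].left pt₀ := by
    rw [← Scheme.Hom.comp_apply, ← Over.comp_left, hs0b, Over.comp_left, Scheme.Hom.comp_apply]
    exact congrArg (fun t => η[G].left t) (hsub ((toUnit Kobj).left pt) pt₀)
  have hgen : GeneralizingMap p.left := Flat.generalizingMap p.left
  have hy' : y ⤳ p.left (s0.left pt) := by rw [hpt0]; exact hy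
  obtain ⟨t1, ht1, ht1y⟩ := hgen hy'
  refine ⟨(lift p b).left t1, ?_, ?_, ?_⟩
  · rw [← Scheme.Hom.comp_apply, e3, Scheme.Hom.comp_apply]
    exact Scheme.fromSpecResidueField_apply _ _
  · rw [← Scheme.Hom.comp_apply, e1]
    exact ht1y
  · rw [← Scheme.Hom.comp_apply, e2, ← hbt0]
    exact ht1.map b.left.continuous

/-- A box `A × B` of irreducible closed subsets is irreducible when `B` is geometrically
irreducible. -/
theorem isIrreducible_box {k : Type u} [Field k] {X Y : Scheme.{u}}
    (f : X ⟶ Spec (CommRingCat.of k)) (g : Y ⟶ Spec (CommRingCat.of k))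
    (A : Set X) (B : Set Y) (hAcl : IsClosed A) (hBcl : IsClosed B)
    (hAi : IsIrreducible A) (hBi : IsIrreducible B)
    (hgeom : ∀ (Zs : Scheme.{u}) (incl : Zs ⟶ Y) [IsClosedImmersion incl] [IrreducibleSpace Zs],
      Set.range incl = B → GeometricallyIrreducible (incl ≫ g)) :
    IsIrreducible (pullback.fst f g ⁻¹' A ∩ pullback.snd f g ⁻¹' B) := by
  haveI : Subsingleton ↥(Spec (CommRingCat.of k)) :=
    (inferInstance : Subsingleton (PrimeSpectrum k))
  let Ac : TopologicalSpace.Closeds ↥X := ⟨A, hAcl⟩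
  let Bc : TopologicalSpace.Closeds ↥Y := ⟨B, hBcl⟩
  have hrA : Set.range (Scheme.IdealSheafData.vanishingIdeal Ac).subschemeι = A := by
    rw [Scheme.IdealSheafData.range_subschemeι, Scheme.IdealSheafData.coe_support_vanishingIdeal]
    rfl
  have hrB : Set.range (Scheme.IdealSheafData.vanishingIdeal Bc).subschemeι = B := by
    rw [Scheme.IdealSheafData.range_subschemeι, Scheme.IdealSheafData.coe_support_vanishingIdeal]
    rfl
  haveI : IrreducibleSpace ↥((Scheme.IdealSheafData.vanishingIdeal Ac).subscheme) := by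
    have h1 : IsIrreducible (Set.range (Scheme.IdealSheafData.vanishingIdeal Ac).subschemeι) := by
      rw [hrA]; exact hAi
    haveI : IrreducibleSpace ↥(Set.range (Scheme.IdealSheafData.vanishingIdeal Ac).subschemeι) :=
      isIrreducible_iff_irreducibleSpace.mp h1
    exact ((Scheme.IdealSheafData.vanishingIdeal Ac).subschemeι.isClosedEmbedding.isEmbedding.toHomeomorph).irreducibleSpace_iff.mpr
      inferInstance
  haveI : IrreducibleSpace ↥((Scheme.IdealSheafData.vanishingIdeal Bc).subscheme) := by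
    have h1 : IsIrreducible (Set.range (Scheme.IdealSheafData.vanishingIdeal Bc).subschemeι) := by
      rw [hrB]; exact hBi
    haveI : IrreducibleSpace ↥(Set.range (Scheme.IdealSheafData.vanishingIdeal Bc).subschemeι) :=
      isIrreducible_iff_irreducibleSpace.mp h1
    exact ((Scheme.IdealSheafData.vanishingIdeal Bc).subschemeι.isClosedEmbedding.isEmbedding.toHomeomorph).irreducibleSpace_iff.mpr
      inferInstance
  haveI : GeometricallyIrreducible
      ((Scheme.IdealSheafData.vanishingIdeal Bc).subschemeι ≫ g) := hgeom _ _ hrB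
  haveI : IrreducibleSpace ↥(pullback
      ((Scheme.IdealSheafData.vanishingIdeal Ac).subschemeι ≫ f)
      ((Scheme.IdealSheafData.vanishingIdeal Bc).subschemeι ≫ g)) := inferInstance
  have hrange := Scheme.Pullback.range_map
    (f := (Scheme.IdealSheafData.vanishingIdeal Ac).subschemeι ≫ f)
    (g := (Scheme.IdealSheafData.vanishingIdeal Bc).subschemeι ≫ g) f g
    (Scheme.IdealSheafData.vanishingIdeal Ac).subschemeι
    (Scheme.IdealSheafData.vanishingIdeal Bc).subschemeι (𝟙 _)
    (by rw [Category.comp_id]) (by rw [Category.comp_id])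
  rw [hrA, hrB] at hrange
  rw [← hrange, ← Set.image_univ]
  exact (IrreducibleSpace.isIrreducible_univ _).image _
    (Scheme.Hom.continuous _).continuousOn

/-- Right multiplication by the identity component preserves irreducible components. -/
theorem mul_mem_comp {k : Type u} [Field k] (G : Over (Spec (CommRingCat.of k))) [GrpObj G]
    (Z Z' : Set ↥G.left) (hZ : Z ∈ irreducibleComponents ↥G.left)
    (heZ : η[G].left (IsLocalRing.closedPoint k) ∈ Z)
    (hZ' : Z' ∈ irreducibleComponents ↥G.left)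
    (z : ↥(G ⊗ G).left) (h1 : (fst G G).left z ∈ Z') (h2 : (snd G G).left z ∈ Z) :
    μ[G].left z ∈ Z' := by
  haveI hsub : Subsingleton ↥(Spec (CommRingCat.of k)) :=
    (inferInstance : Subsingleton (PrimeSpectrum k))
  have hpt : ∀ a b : ↥(Spec (CommRingCat.of k)), a = b := fun a b => Subsingleton.elim a b
  have hW : IsIrreducible ((fst G G).left ⁻¹' Z' ∩ (snd G G).left ⁻¹' Z) :=
    isIrreducible_box G.hom G.hom Z' Z (isClosed_of_mem_irreducibleComponents Z' hZ')
      (isClosed_of_mem_irreducibleComponents Z hZ) hZ'.1 hZ.1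
      (fun Zs incl _ _ hr => GrpIdCompH4.main7517 k G Zs incl (by rw [hr]; exact hZ)
        (by rw [hr]; exact heZ))
  have hμW : IsIrreducible (μ[G].left '' ((fst G G).left ⁻¹' Z' ∩ (snd G G).left ⁻¹' Z)) :=
    hW.image _ μ[G].left.continuous.continuousOn
  let sR : G ⟶ G ⊗ G := lift (𝟙 G) (toUnit G ≫ η[G])
  have hsR1 : sR.left ≫ (fst G G).left = 𝟙 G.left := by
    rw [← Over.comp_left, lift_fst]; rfl
  have hsR2 : sR.left ≫ (snd G G).left = G.hom ≫ η[G].left := by
    rw [← Over.comp_left, lift_snd]; rfl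
  have hsRμ : sR.left ≫ μ[G].left = 𝟙 G.left :=
    GrpIdCompH4.lift_one_right G (𝟙 G.left) (G.hom ≫ η[G].left) (by rw [Category.id_comp])
      sR.left hsR1 hsR2
  have hsub' : Z' ⊆ μ[G].left '' ((fst G G).left ⁻¹' Z' ∩ (snd G G).left ⁻¹' Z) := by
    intro x hx
    refine ⟨sR.left x, ⟨?_, ?_⟩, ?_⟩
    · show (fst G G).left (sR.left x) ∈ Z'
      rw [← Scheme.Hom.comp_apply, hsR1]
      exact hx
    · show (snd G G).left (sR.left x) ∈ Z
      rw [← Scheme.Hom.comp_apply, hsR2, Scheme.Hom.comp_apply]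
      have hh : η[G].left (G.hom x) = η[G].left (IsLocalRing.closedPoint k) :=
        congrArg (fun t => η[G].left t) (hpt (G.hom x) (IsLocalRing.closedPoint k))
      exact Set.mem_of_eq_of_mem hh heZ
    · rw [← Scheme.Hom.comp_apply, hsRμ]
      rfl
  exact hZ'.2 hμW hsub' ⟨z, ⟨h1, h2⟩, rfl⟩

/-- Multiplication restricted to `G × Z` (for `Z` closed) is an open map. -/
theorem isOpen_image_of_isPullback {k : Type u} [Field k] {GG Gl : Scheme.{u}}
    (sndL μL : GG ⟶ Gl) (tG : Gl ⟶ Spec (CommRingCat.of k)) (hsq : IsPullback sndL μL tG tG)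
    (Z : Set Gl) (hZcl : IsClosed Z) (O : Set GG) (hO : IsOpen O) :
    IsOpen (μL '' (O ∩ sndL ⁻¹' Z)) := by
  haveI : Subsingleton ↥(Spec (CommRingCat.of k)) :=
    (inferInstance : Subsingleton (PrimeSpectrum k))
  let Bc : TopologicalSpace.Closeds ↥Gl := ⟨Z, hZcl⟩
  have hrB : Set.range (Scheme.IdealSheafData.vanishingIdeal Bc).subschemeι = Z := by
    rw [Scheme.IdealSheafData.range_subschemeι, Scheme.IdealSheafData.coe_support_vanishingIdeal]
    rfl
  obtain ⟨Zs, jj, hjj, hrjj⟩ : ∃ (Zs : Scheme.{u}) (jj : Zs ⟶ Gl),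
      IsClosedImmersion jj ∧ Set.range jj = Z :=
    ⟨_, (Scheme.IdealSheafData.vanishingIdeal Bc).subschemeι, inferInstance, hrB⟩
  have sq1 : IsPullback (pullback.snd sndL jj) (pullback.fst sndL jj) jj sndL :=
    (IsPullback.of_hasPullback sndL jj).flip
  have sq := sq1.paste_vert hsq
  haveI : UniversallyOpen (jj ≫ tG) := inferInstance
  haveI : UniversallyOpen (pullback.fst sndL jj ≫ μL) :=
    MorphismProperty.of_isPullback (P := @UniversallyOpen) sq inferInstance
  have hopen : IsOpenMap (pullback.fst sndL jj ≫ μL) := Scheme.Hom.isOpenMap _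
  have hra : Set.range (pullback.fst sndL jj) = sndL ⁻¹' Z := by
    rw [Scheme.Pullback.range_fst, hrjj]
  have himg : μL '' (O ∩ sndL ⁻¹' Z) =
      (pullback.fst sndL jj ≫ μL) '' (pullback.fst sndL jj ⁻¹' O) := by
    ext x
    constructor
    · rintro ⟨z, ⟨hzO, hzZ⟩, rfl⟩
      have hz : z ∈ Set.range (pullback.fst sndL jj) := by rw [hra]; exact hzZ
      obtain ⟨w, rfl⟩ := hz
      refine ⟨w, hzO, ?_⟩
      rw [Scheme.Hom.comp_apply]
    · rintro ⟨w, hw, rfl⟩
      refine ⟨pullback.fst sndL jj w, ⟨hw, ?_⟩, ?_⟩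
      · have hz : pullback.fst sndL jj w ∈ Set.range (pullback.fst sndL jj) :=
          Set.mem_range_self w
        rw [hra] at hz
        exact hz
      · rw [Scheme.Hom.comp_apply]
  rw [himg]
  exact hopen _ (hO.preimage (pullback.fst sndL jj).continuous)

/-- A compact open subset of a quasi-separated scheme that is stable under specialisation is
closed. -/
theorem isClosed_of_compact_open {X : Scheme.{u}} [QuasiSeparatedSpace X] (W : X.Opens)
    (hc : IsCompact (W : Set X)) (hs : StableUnderSpecialization (W : Set X)) :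
    IsClosed (W : Set X) := by
  haveI : CompactSpace ↥(W : Scheme.{u}) := isCompact_iff_compactSpace.mp hc
  haveI : QuasiCompact W.ι := quasiCompact_of_compactSpace W.ι
  have hsp : SpecializingMap W.ι := by
    intro x y hxy
    have hxy' : W.ι x ⤳ y := hxy
    have hxW : W.ι x ∈ Set.range W.ι := Set.mem_range_self x
    rw [Scheme.Opens.range_ι] at hxW
    have hy : y ∈ (W : Set X) := hs hxy' hxW
    have hy' : y ∈ Set.range W.ι := by rw [Scheme.Opens.range_ι]; exact hy
    obtain ⟨y', rfl⟩ := hy'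
    exact ⟨y', W.ι.isOpenEmbedding.isInducing.specializes_iff.mp hxy', rfl⟩
  have h1 : IsClosedMap W.ι := (isClosedMap_iff_specializingMap W.ι).mpr hsp
  have h2 := h1.isClosed_range
  rwa [Scheme.Opens.range_ι] at h2

set_option maxHeartbeats 1600000 in
theorem main0348 (K : Type u) [Field K] (G : Over (Spec (CommRingCat.of K))) [GrpObj G]
    [ConnectedSpace G.left] : IrreducibleSpace G.left := by
  haveI hsub : Subsingleton ↥(Spec (CommRingCat.of K)) :=
    (inferInstance : Subsingleton (PrimeSpectrum K))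
  haveI hsep : IsSeparated G.hom := GrpSepDiscH4.main5331 (Spec (CommRingCat.of K)) G
  haveI hqs : QuasiSeparatedSpace ↥G.left := by
    have h : ∀ (gk : G.left ⟶ Spec (CommRingCat.of K)), IsSeparated gk →
        QuasiSeparatedSpace ↥G.left :=
      fun gk _ => quasiSeparatedSpace_of_quasiSeparated gk
    exact h G.hom hsep
  obtain ⟨-, Z, ⟨hZ, heZ⟩, hZuniq⟩ := GrpPtIrrH4.main0350 K G
  have hZcl : IsClosed Z := isClosed_of_mem_irreducibleComponents Z hZ
  have hsq : IsPullback (snd G G).left (fst G G * (snd G G ≫ 𝟙 G)).left (toUnit G).left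
      (toUnit G).left :=
    (MaxOpenSubH4.isPullback_mulRight (𝟙 G)).map (Over.forget _)
  have eμ : fst G G * (snd G G ≫ 𝟙 G) = μ[G] := by
    rw [Category.comp_id, Hom.mul_def, lift_fst_snd, Category.id_comp]
  rw [eμ] at hsq
  obtain ⟨V, hV, heV, -⟩ := exists_isAffineOpen_mem_and_subset (U := ⊤)
    (x := η[G].left (IsLocalRing.closedPoint K)) (by simp)
  have key : ∀ U : G.left.Opens, IsAffineOpen U → (U : Set G.left).Nonempty →
      (Z ∩ (U : Set G.left)).Nonempty := by
    intro U hU hUne
    let Wp : Set G.left := {g | ∃ Z' ∈ irreducibleComponents ↥G.left,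
      g ∈ Z' ∧ (Z' ∩ (U : Set G.left)).Nonempty}
    let M : Set G.left :=
      μ[G].left '' ((fst G G).left ⁻¹' (U : Set G.left) ∩ (snd G G).left ⁻¹' Z)
    let M₁ : Set G.left :=
      μ[G].left '' (((fst G G).left ⁻¹' (U : Set G.left) ∩
        (snd G G).left ⁻¹' (V : Set G.left)) ∩ (snd G G).left ⁻¹' Z)
    have ha : M ⊆ Wp := by
      rintro _ ⟨z, ⟨hz1, hz2⟩, rfl⟩
      refine ⟨irreducibleComponent ((fst G G).left z),
        irreducibleComponent_mem_irreducibleComponents _, ?_,
        ⟨(fst G G).left z, mem_irreducibleComponent, hz1⟩⟩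
      exact mul_mem_comp G Z _ hZ heZ (irreducibleComponent_mem_irreducibleComponents _) z
        mem_irreducibleComponent hz2
    have hb : Wp ⊆ M₁ := by
      rintro g ⟨Z', hZ', hgZ', ⟨u', hu'Z', hu'U⟩⟩
      obtain ⟨ξ', hξ'⟩ := QuasiSober.sober hZ'.1 (isClosed_of_mem_irreducibleComponents Z' hZ')
      have hξu : ξ' ⤳ u' := by rw [specializes_iff_mem_closure, hξ'.def]; exact hu'Z'
      have hξg : ξ' ⤳ g := by rw [specializes_iff_mem_closure, hξ'.def]; exact hgZ'
      have hξU : ξ' ∈ (U : Set G.left) := hξu.mem_open U.2 hu'U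
      obtain ⟨z, hz1, hz2, hz3⟩ := exists_factor G (IsLocalRing.closedPoint K) g ξ' hξg
      refine ⟨z, ⟨⟨?_, ?_⟩, ?_⟩, hz1⟩
      · show (fst G G).left z ∈ (U : Set G.left)
        rw [hz2]; exact hξU
      · exact hz3.mem_open V.2 heV
      · have h1 : η[G].left (IsLocalRing.closedPoint K) ∈
            irreducibleComponent ((snd G G).left z) :=
          hz3.mem_closed isClosed_irreducibleComponent mem_irreducibleComponent
        have h2 := hZuniq _ ⟨irreducibleComponent_mem_irreducibleComponents _, h1⟩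
        show (snd G G).left z ∈ Z
        rw [← h2]; exact mem_irreducibleComponent
    have hc : M₁ ⊆ M := by
      rintro _ ⟨z, ⟨⟨hz1, -⟩, hz3⟩, rfl⟩
      exact ⟨z, ⟨hz1, hz3⟩, rfl⟩
    have hWM : Wp = M := Set.Subset.antisymm (hb.trans hc) ha
    have hWM₁ : Wp = M₁ := Set.Subset.antisymm hb (hc.trans ha)
    have hopen : IsOpen Wp := by
      rw [hWM]
      exact isOpen_image_of_isPullback (k := K) (snd G G).left μ[G].left (toUnit G).left hsq Z
        hZcl _ (U.2.preimage (fst G G).left.continuous)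
    have hcomp : IsCompact Wp := by
      rw [hWM₁]
      have hbox : IsCompact ((fst G G).left ⁻¹' (U : Set G.left) ∩
          (snd G G).left ⁻¹' (V : Set G.left)) :=
        GrpQCH4.isCompact_box G.hom G.hom U V hU hV
      exact (hbox.inter_right (hZcl.preimage (snd G G).left.continuous)).image
        μ[G].left.continuous
    have hspec : StableUnderSpecialization Wp := by
      rintro x y hxy ⟨Z', hZ', hx, hne⟩
      exact ⟨Z', hZ', hxy.mem_closed (isClosed_of_mem_irreducibleComponents Z' hZ') hx, hne⟩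
    have hclosed : IsClosed Wp := isClosed_of_compact_open ⟨Wp, hopen⟩ hcomp hspec
    obtain ⟨u, hu⟩ := hUne
    have hne : Wp.Nonempty := ⟨u, irreducibleComponent u,
      irreducibleComponent_mem_irreducibleComponents u, mem_irreducibleComponent,
      ⟨u, mem_irreducibleComponent, hu⟩⟩
    have huniv : Wp = Set.univ :=
      (isClopen_iff.mp ⟨hclosed, hopen⟩).resolve_left hne.ne_empty
    have he : η[G].left (IsLocalRing.closedPoint K) ∈ Wp := by rw [huniv]; exact Set.mem_univ _
    obtain ⟨Z', hZ', heZ', hne'⟩ := he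
    have hZZ := hZuniq Z' ⟨hZ', heZ'⟩
    rw [hZZ] at hne'
    exact hne'
  have hdense : Dense Z := by
    rw [dense_iff_inter_open]
    rintro O hO ⟨x, hx⟩
    obtain ⟨_, ⟨U, hU, rfl⟩, hxU, hUO⟩ :=
      G.left.isBasis_affineOpens.exists_subset_of_mem_open hx hO
    obtain ⟨w, hwZ, hwU⟩ := key U hU ⟨x, hxU⟩
    exact ⟨w, hUO hwU, hwZ⟩
  have hZuniv : Z = Set.univ := hZcl.closure_eq.symm.trans hdense.closure_eq
  have hirr : IsIrreducible (Set.univ : Set G.left) := hZuniv ▸ hZ.1
  exact { isPreirreducible_univ := hirr.2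
          toNonempty := ⟨η[G].left (IsLocalRing.closedPoint K)⟩ }

end Groth.Agent.Lib.GrpConnIrrH4
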