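import Mathlib
import Groth.Prelude.Def_AlgGrp
import Groth.Agent.Lib.AntiAffineRigid_lead
import Groth.Agent.Lib.GenFlatHom_lead
import Groth.Agent.Lib.GrpConnIrr_helper4
import Groth.Agent.Lib.ClosedDescent_helper7

/-! # Automorphisms fixing an affine normal subgroup with proper quotient (lead) -/

set_option backward.isDefEq.respectTransparency false
set_option backward.isDefEq.respectTransparency.types false
set_option linter.unusedSimpArgs false
set_option linter.unusedVariables false
set_option linter.unusedSectionVars false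
set_option linter.style.longLine false
set_option linter.style.haveILetI false
set_option maxHeartbeats 800000

universe u

open CategoryTheory CategoryTheory.Limits MonoidalCategory CartesianMonoidalCategory MonObj GrpObj
  AlgebraicGeometry Opposite Topology

namespace Groth.Agent.Lib.AutFix

open Groth.Agent.Lib.AssocBundle Groth.Agent.Lib.IsogKernel Groth.Agent.Lib.AntiAffine SchFpqcCovH7
  Groth.Agent.Lib.GenFlatHom

variable {k : Type u} [Field k]

/-- an integral proper scheme over an algebraically closed field has only constant functions -/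
theorem aa_of_proper [IsAlgClosed k] (Q : Over (Spec (CommRingCat.of k))) [IsProper Q.hom]
    [IsIntegral Q.left] : AA Q := by
  rw [← aa_iff]
  let F : k →+* Γ(Q.left, ⊤) := ((Scheme.ΓSpecIso (CommRingCat.of k)).inv ≫ Q.hom.appTop).hom
  have hint : F.IsIntegral := by
    apply RingHom.isIntegral_respectsIso.2
      (e := (Scheme.ΓSpecIso (CommRingCat.of k)).symm.commRingCatIsoToRingEquiv)
    exact isIntegral_appTop_of_universallyClosed Q.hom
  exact IsAlgClosed.ringHom_bijective_of_isIntegral F hint

/-- the image of an irreducible reduced scheme under a flat surjective quasi-compact morphism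
is integral -/
theorem integral_of_cover {X Y : Scheme.{u}} (f : X ⟶ Y) [Flat f] [Surjective f] [QuasiCompact f]
    [IsReduced X] [IrreducibleSpace X] : IsIntegral Y := by
  haveI : IsSchemeTheoreticallyDominant f :=
    Groth.Agent.Lib.ClosedDescent_helper7.isSTD_of_flat_surjective f
  haveI : IsReduced Y := IsSchemeTheoreticallyDominant.isReduced f
  haveI : IrreducibleSpace Y := by
    rw [irreducibleSpace_def]
    have := (IrreducibleSpace.isIrreducible_univ X).image f f.continuous.continuousOn
    rwa [Set.image_univ, Set.range_eq_univ.mpr f.surjective] at this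
  exact isIntegral_of_irreducibleSpace_of_isReduced Y

theorem main17833 [IsAlgClosed k] (G H Q : Over (Spec (CommRingCat.of k))) [GrpObj G] [GrpObj H]
    [GrpObj Q] [Smooth G.hom] [QuasiCompact G.hom] [ConnectedSpace ↥G.left]
    [IsAffine H.left] [IsProper Q.hom]
    (j : H ⟶ G) [IsMonHom j] (q : G ⟶ Q) [IsMonHom q] [Flat q.left] [Surjective q.left]
    (hker : AlgGrp.IsKernel j q)
    (u : G ⟶ G) [IsMonHom u] (hH : j ≫ u = j) (hQ : u ≫ q = q) :
    u = 𝟙 G := by
  haveI : QuasiCompact q.left := qc_left q
  haveI : IsReduced G.left := isReduced_of_smooth G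
  haveI : IrreducibleSpace G.left := GrpConnIrrH4.main0348 k G
  haveI : IsIntegral Q.left := integral_of_cover q.left
  have hQ' : AA Q := aa_of_proper Q
  have h1 : ((𝟙 G)⁻¹ * u) ≫ q = 1 := by
    rw [MonObj.mul_comp, GrpObj.inv_comp, Category.id_comp, hQ, inv_mul_cancel]
  obtain ⟨φ, hφ⟩ := ker_lift j q hker _ h1
  obtain ⟨ψ, hψ⟩ := desc_of_isCov q (isCov_of_flat q.left) φ (by
    intro T a₁ a₂ h
    apply ker_mono j q hker
    obtain ⟨n, hn⟩ := ker_diff_left j q hker a₁ a₂ h
    rw [Category.assoc, Category.assoc, hφ, MonObj.comp_mul, MonObj.comp_mul, GrpObj.comp_inv,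
      GrpObj.comp_inv, Category.comp_id, Category.comp_id]
    have hu : a₁ ≫ u = (n ≫ j) * (a₂ ≫ u) := by
      rw [hn, MonObj.mul_comp, Category.assoc, hH]
    rw [hu, hn, _root_.mul_inv_rev, _root_.mul_assoc, inv_mul_cancel_left])
  obtain ⟨c, hc⟩ := const_of_aa hQ' ψ
  have hφc : φ = toUnit G ≫ c := by
    rw [← hψ, hc, ← Category.assoc]
    congr 1
    exact toUnit_unique _ _
  have e1 : η[G] ≫ φ = c := by
    rw [hφc, ← Category.assoc]
    have : η[G] ≫ toUnit G = 𝟙 _ := toUnit_unique _ _
    rw [this, Category.id_comp]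
  have e2 : (η[G] ≫ φ) ≫ j = 1 := by
    rw [Category.assoc, hφ, MonObj.comp_mul, GrpObj.comp_inv, Category.comp_id,
      IsMonHom.one_hom u, inv_mul_cancel]
  have e3 : φ ≫ j = 1 := by
    rw [hφc, Category.assoc, ← e1, e2, MonObj.comp_one]
  rw [hφ] at e3
  exact (inv_mul_eq_one.mp e3).symm

end Groth.Agent.Lib.AutFix
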