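import Groth.Statements.S19702
import Groth.Statements.S14751
import Groth.Agent.Lib.AutFix_lead
import Groth.Agent.Lib.ExtProps_lead

/-! # Künneth in degree zero over a field; anti-affine groups and affine targets (lead) -/

set_option backward.isDefEq.respectTransparency false
set_option backward.isDefEq.respectTransparency.types false
set_option linter.unusedSimpArgs false
set_option linter.unusedVariables false
set_option linter.unusedSectionVars false
set_option linter.style.longLine false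
set_option linter.style.haveILetI false
set_option maxHeartbeats 800000

universe u

open CategoryTheory CategoryTheory.Limits MonoidalCategory CartesianMonoidalCategory MonObj GrpObj
  AlgebraicGeometry Opposite Topology

namespace Groth.Agent.Lib.AAKunneth

open Groth.Agent.Lib.AssocBundle Groth.Agent.Lib.IsogKernel Groth.Agent.Lib.AntiAffine

variable {k : Type u} [Field k]

/-- Künneth in degree zero: `Γ(A ×_k T) = Γ(A) ⊗_k Γ(T)` for `A` qcqs and `T` affine -/
theorem isPushout_appTop (A T : Over (Spec (CommRingCat.of k))) [CompactSpace A.left]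
    [QuasiSeparatedSpace A.left] [IsAffine T.left] :
    IsPushout A.hom.appTop T.hom.appTop (pullback.fst A.hom T.hom).appTop
      (pullback.snd A.hom T.hom).appTop := by
  haveI : Subsingleton ↥(Spec (CommRingCat.of k)) :=
    inferInstanceAs (Subsingleton (PrimeSpectrum k))
  haveI : Flat T.hom := inferInstance
  have H : IsPullback (pullback.fst A.hom T.hom) (pullback.snd A.hom T.hom) A.hom T.hom :=
    IsPullback.of_hasPullback _ _
  have hUST : (⊤ : T.left.Opens) ≤ T.hom ⁻¹ᵁ ⊤ := by simp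
  have hUSX : (⊤ : A.left.Opens) ≤ A.hom ⁻¹ᵁ ⊤ := by simp
  have hUY : (⊤ : (pullback A.hom T.hom).Opens) =
      pullback.fst A.hom T.hom ⁻¹ᵁ ⊤ ⊓ pullback.snd A.hom T.hom ⁻¹ᵁ ⊤ := by simp
  have h1 : IsIso (pushoutSection H hUST hUSX hUY) :=
    isIso_pushoutSection_of_isQuasiSeparated_of_flat_right H hUST hUSX hUY (isAffineOpen_top _)
      (isAffineOpen_top _) isCompact_univ (isQuasiSeparated_univ_iff.mpr inferInstance)
  have hpo := (isIso_pushoutSection_iff H hUST hUSX hUY).mp h1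
  convert hpo using 1 <;> simp [Scheme.Hom.appTop, Scheme.Hom.appLE]

theorem Q_of_iso_comp (P : MorphismProperty Scheme.{u}) [P.RespectsIso] {X Y Z W : Scheme.{u}}
    (a : X ⟶ Y) (b : Y ⟶ Z) (c : Z ⟶ W) [IsIso a] [IsIso c] (h : P b) : P ((a ≫ b) ≫ c) :=
  (P.cancel_right_of_respectsIso _ _).2 ((P.cancel_left_of_respectsIso _ _).2 h)

theorem aa_bc_iff (K : Type u) [Field K] [Algebra k K] (G : Over (Spec (CommRingCat.of k)))
    [LocallyOfFiniteType G.hom] [QuasiCompact G.hom] :
    IsIso G.hom.appTop ↔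
      IsIso (pullback.snd G.hom (Spec.map (CommRingCat.ofHom (algebraMap k K)))).appTop := by
  haveI : IsNoetherianRing (CommRingCat.of k) := inferInstanceAs (IsNoetherianRing k)
  haveI : IsLocallyNoetherian G.left := LocallyOfFiniteType.isLocallyNoetherian G.hom
  haveI : CompactSpace G.left := QuasiCompact.compactSpace_of_compactSpace G.hom
  haveI : QuasiSeparatedSpace G.left := inferInstance
  haveI : Subsingleton ↥(Spec (CommRingCat.of k)) :=
    inferInstanceAs (Subsingleton (PrimeSpectrum k))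
  obtain ⟨φ, hφ⟩ : ∃ φ : CommRingCat.of k ⟶ CommRingCat.of K,
      φ = CommRingCat.ofHom (algebraMap k K) := ⟨_, rfl⟩
  rw [← hφ]
  let T : Over (Spec (CommRingCat.of k)) := Over.mk (Spec.map φ)
  haveI : IsAffine T.left := (inferInstance : IsAffine (Spec (CommRingCat.of K)))
  have hpo : IsPushout G.hom.appTop (Spec.map φ).appTop (pullback.fst G.hom (Spec.map φ)).appTop
      (pullback.snd G.hom (Spec.map φ)).appTop := isPushout_appTop G T
  constructor
  · intro ha
    exact hpo.isIso_inr_of_isIso ha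
  · intro hc
    have hpb := hpo.op.map Scheme.Spec
    have e : (Spec.map φ).appTop = ((Scheme.ΓSpecIso (CommRingCat.of k)).hom ≫ φ) ≫
        (Scheme.ΓSpecIso (CommRingCat.of K)).inv := by
      rw [Iso.eq_comp_inv]
      exact Scheme.ΓSpecIso_naturality φ
    have hsurj : Surjective (Spec.map φ) := ⟨fun y => by
      obtain ⟨z⟩ : Nonempty (Spec (CommRingCat.of K)) :=
        inferInstanceAs (Nonempty (PrimeSpectrum K))
      exact ⟨z, Subsingleton.elim _ _⟩⟩
    have hflat : Flat (Spec.map φ) := inferInstance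
    have e2 : Spec.map (Spec.map φ).appTop = (Spec.map (Scheme.ΓSpecIso (CommRingCat.of K)).inv ≫
        Spec.map φ) ≫ Spec.map (Scheme.ΓSpecIso (CommRingCat.of k)).hom := by
      rw [e, Spec.map_comp, Spec.map_comp, Category.assoc]
    have hQ : (@Surjective ⊓ @Flat ⊓ @QuasiCompact : MorphismProperty Scheme.{u})
        (Spec.map (Spec.map φ).appTop) := by
      refine ⟨⟨?_, ?_⟩, inferInstance⟩
      · rw [e2]; exact Q_of_iso_comp @Surjective _ _ _ hsurj
      · rw [e2]; exact Q_of_iso_comp @Flat _ _ _ hflat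
    have h := MorphismProperty.DescendsAlong.of_isPullback
      (P := MorphismProperty.isomorphisms Scheme.{u})
      (Q := (@Surjective ⊓ @Flat ⊓ @QuasiCompact : MorphismProperty Scheme.{u})) hpb hQ
      (by
        haveI := hc
        exact (inferInstance : IsIso (Spec.map (pullback.snd G.hom (Spec.map φ)).appTop)))
    haveI : IsIso (Scheme.Spec.map (G.hom.appTop).op) := h
    haveI : IsIso (G.hom.appTop).op := isIso_of_reflects_iso _ Scheme.Spec
    exact isIso_of_op _

theorem main19702 (k : Type u) [Field k] (K : Type u) [Field K] [Algebra k K]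
    (G : Over (Spec (CommRingCat.of k))) [LocallyOfFiniteType G.hom] [QuasiCompact G.hom] :
    Function.Bijective ((Scheme.ΓSpecIso (CommRingCat.of k)).inv ≫ G.hom.appTop).hom ↔
      Function.Bijective ((Scheme.ΓSpecIso (CommRingCat.of K)).inv ≫
        (Red.bc (Spec.map (CommRingCat.ofHom (algebraMap k K))) G).hom.appTop).hom := by
  have e1 : ∀ {R S : CommRingCat.{u}} (f : R ⟶ S), Function.Bijective f.hom ↔ IsIso f :=
    fun f => (ConcreteCategory.isIso_iff_bijective f).symm
  rw [e1, e1, isIso_comp_left_iff, isIso_comp_left_iff]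
  exact aa_bc_iff K G

/-! ### anti-affine groups and affine targets -/

theorem isIso_snd_appTop (A T : Over (Spec (CommRingCat.of k))) (hA : AA A) [CompactSpace A.left]
    [QuasiSeparatedSpace A.left] [IsAffine T.left] : IsIso (snd A T).left.appTop := by
  haveI : IsIso A.hom.appTop := hA
  show IsIso (pullback.snd A.hom T.hom).appTop
  exact (isPushout_appTop A T).isIso_inr_of_isIso

/-- morphisms from `A × T` to an affine scheme factor through `T` (`A` an anti-affine group,
`T` affine) -/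
theorem factor_snd (A T N : Over (Spec (CommRingCat.of k))) [GrpObj A] (hA : AA A)
    [CompactSpace A.left] [QuasiSeparatedSpace A.left] [IsAffine T.left] [IsAffine N.left]
    (n : A ⊗ T ⟶ N) : n = snd A T ≫ (lift (toUnit T ≫ η[A]) (𝟙 T) ≫ n) := by
  haveI := isIso_snd_appTop A T hA
  obtain ⟨c₀, hc₀⟩ := factor_affine (snd A T).left n.left
  have hs : (lift (toUnit T ≫ η[A]) (𝟙 T)).left ≫ (snd A T).left = 𝟙 _ := by
    rw [← Over.comp_left, lift_snd]; rfl
  ext
  show n.left = (snd A T).left ≫ (lift (toUnit T ≫ η[A]) (𝟙 T)).left ≫ n.left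
  rw [hc₀, ← Category.assoc (lift (toUnit T ≫ η[A]) (𝟙 T)).left, hs, Category.id_comp]

section S14751

variable {G N A Q : Over (Spec (CommRingCat.of k))} [GrpObj G] [GrpObj N] [GrpObj A] [GrpObj Q]
  (i : N ⟶ G) [IsMonHom i] (π : G ⟶ Q) [IsMonHom π] (hker : AlgGrp.IsKernel i π)
  (j : A ⟶ G) [IsMonHom j]

theorem m_pt {T : Over (Spec (CommRingCat.of k))} (x : T ⟶ A ⊗ N) :
    x ≫ (j ⊗ₘ i) ≫ μ[G] = ((x ≫ fst A N) ≫ j) * ((x ≫ snd A N) ≫ i) := by
  have e : x ≫ (j ⊗ₘ i) = lift ((x ≫ fst A N) ≫ j) ((x ≫ snd A N) ≫ i) := by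
    apply CartesianMonoidalCategory.hom_ext
    · rw [Category.assoc, tensorHom_fst, lift_fst, Category.assoc]
    · rw [Category.assoc, tensorHom_snd, lift_snd, Category.assoc]
  rw [← Category.assoc, e, Hom.mul_def]

include hker in
/-- an anti-affine subgroup commutes with an affine normal subgroup -/
theorem comm_univ (hA : AA A) [CompactSpace A.left] [QuasiSeparatedSpace A.left] [IsAffine N.left] :
    (fst A N ≫ j) * (snd A N ≫ i) = (snd A N ≫ i) * (fst A N ≫ j) := by
  have hx : ((fst A N ≫ j) * (snd A N ≫ i) * (fst A N ≫ j)⁻¹) ≫ π = 1 := by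
    rw [MonObj.mul_comp, MonObj.mul_comp, GrpObj.inv_comp, ker_comp i π hker, _root_.mul_one,
      _root_.mul_inv_cancel]
  obtain ⟨c₀, hc₀⟩ := ker_lift i π hker _ hx
  have hf := factor_snd A N N hA c₀
  set s : N ⟶ A ⊗ N := lift (toUnit N ≫ η[A]) (𝟙 N) with hs
  have h1 : (s ≫ c₀) ≫ i = 𝟙 N ≫ i := by
    rw [Category.assoc, hc₀, MonObj.comp_mul, MonObj.comp_mul, GrpObj.comp_inv, ← Category.assoc,
      ← Category.assoc, hs, lift_fst, lift_snd, Category.assoc, IsMonHom.one_hom j, ← Hom.one_def,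
      _root_.one_mul, _root_.inv_one, _root_.mul_one]
  have h2 : s ≫ c₀ = 𝟙 N := ker_mono i π hker _ _ h1
  rw [h2, Category.comp_id] at hf
  rw [hf] at hc₀
  exact mul_inv_eq_iff_eq_mul.1 hc₀.symm

include hker in
theorem comm_pt (hA : AA A) [CompactSpace A.left] [QuasiSeparatedSpace A.left] [IsAffine N.left]
    {T : Over (Spec (CommRingCat.of k))} (a : T ⟶ A) (n : T ⟶ N) :
    (a ≫ j) * (n ≫ i) = (n ≫ i) * (a ≫ j) := by
  have h := congrArg (fun f => lift a n ≫ f) (comm_univ i π hker j hA)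
  simp only [MonObj.comp_mul, lift_fst_assoc, lift_snd_assoc] at h
  exact h

include hker in
theorem m_mul (hA : AA A) [CompactSpace A.left] [QuasiSeparatedSpace A.left] [IsAffine N.left]
    {T : Over (Spec (CommRingCat.of k))} (x y : T ⟶ A ⊗ N) :
    (x * y) ≫ (j ⊗ₘ i) ≫ μ[G] = (x ≫ (j ⊗ₘ i) ≫ μ[G]) * (y ≫ (j ⊗ₘ i) ≫ μ[G]) := by
  rw [m_pt, m_pt, m_pt, MonObj.mul_comp, MonObj.mul_comp, MonObj.mul_comp, MonObj.mul_comp]
  have hc := comm_pt i π hker j hA (y ≫ fst A N) (x ≫ snd A N)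
  calc ((x ≫ fst A N) ≫ j) * ((y ≫ fst A N) ≫ j) * (((x ≫ snd A N) ≫ i) * ((y ≫ snd A N) ≫ i))
      = ((x ≫ fst A N) ≫ j) * ((((y ≫ fst A N) ≫ j) * ((x ≫ snd A N) ≫ i)) *
          ((y ≫ snd A N) ≫ i)) := by simp only [_root_.mul_assoc]
    _ = ((x ≫ fst A N) ≫ j) * ((((x ≫ snd A N) ≫ i) * ((y ≫ fst A N) ≫ j)) *
          ((y ≫ snd A N) ≫ i)) := by rw [hc]
    _ = _ := by simp only [_root_.mul_assoc]

include hker in
theorem isMonHom_m (hA : AA A) [CompactSpace A.left] [QuasiSeparatedSpace A.left]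
    [IsAffine N.left] : IsMonHom ((j ⊗ₘ i) ≫ μ[G]) where
  one_hom := by
    have h1 : η[A ⊗ N] ≫ (j ⊗ₘ i) ≫ μ[G] = ((η[A ⊗ N] ≫ fst A N) ≫ j) * ((η[A ⊗ N] ≫ snd A N) ≫ i) :=
      m_pt i j _
    have hG : η[G] = (1 : 𝟙_ (Over (Spec (CommRingCat.of k))) ⟶ G) := by
      rw [Hom.one_def, show toUnit (𝟙_ (Over (Spec (CommRingCat.of k)))) = 𝟙 _ from toUnit_unique _ _,
        Category.id_comp]
    rw [h1, IsMonHom.one_hom (fst A N), IsMonHom.one_hom (snd A N), IsMonHom.one_hom j,
      IsMonHom.one_hom i, hG, _root_.one_mul]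
  mul_hom := by
    have h1 : μ[A ⊗ N] = fst (A ⊗ N) (A ⊗ N) * snd (A ⊗ N) (A ⊗ N) := by
      rw [Hom.mul_def, lift_fst_snd, Category.id_comp]
    have h2 : (((j ⊗ₘ i) ≫ μ[G]) ⊗ₘ ((j ⊗ₘ i) ≫ μ[G])) ≫ μ[G] =
        (fst (A ⊗ N) (A ⊗ N) ≫ (j ⊗ₘ i) ≫ μ[G]) * (snd (A ⊗ N) (A ⊗ N) ≫ (j ⊗ₘ i) ≫ μ[G]) := by
      rw [Hom.mul_def]
      congr 1
    rw [h2, h1]
    exact m_mul i π hker j hA _ _

theorem fin_of_sq {K : Over (Spec (CommRingCat.of k))} (p₁ : K ⟶ A) (p₂ : K ⟶ N)
    (hsq : IsPullback p₁ p₂ j i) [IsClosedImmersion j.left] [IsClosedImmersion i.left]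
    [IsProper A.hom] [IsAffine N.left] : IsFinite K.hom := by
  have sq : IsPullback p₁.left p₂.left j.left i.left := hsq.map (Over.forget _)
  haveI h1 : IsClosedImmersion p₂.left :=
    MorphismProperty.of_isPullback (P := @IsClosedImmersion) sq ‹IsClosedImmersion j.left›
  haveI h2 : IsClosedImmersion p₁.left :=
    MorphismProperty.of_isPullback (P := @IsClosedImmersion) sq.flip ‹IsClosedImmersion i.left›
  haveI : IsAffine K.left := isAffine_of_isAffineHom p₂.left
  haveI : IsProper K.hom := by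
    rw [← Over.w p₁]; infer_instance
  haveI : IsAffineHom K.hom := inferInstance
  exact IsFinite.iff_isProper_and_isAffineHom.mpr ⟨inferInstance, inferInstance⟩

include hker in
theorem main14751 [IsAlgClosed k] [IsClosedImmersion i.left] [IsAffine N.left]
    [IsClosedImmersion j.left] [Smooth A.hom] [ConnectedSpace ↥A.left] [IsProper A.hom]
    [Surjective π.left]
    (hsurj : Surjective ((j ⊗ₘ i) ≫ μ[G]).left) :
    IsMonHom ((j ⊗ₘ i) ≫ μ[G]) ∧ SGA7.IsIsogenyOver ((j ⊗ₘ i) ≫ μ[G]) ∧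
      SGA7.IsIsogenyOver (j ≫ π) := by
  haveI : IsReduced A.left := Groth.Agent.Lib.GenFlatHom.isReduced_of_smooth A
  haveI : IrreducibleSpace A.left := GrpConnIrrH4.main0348 k A
  haveI : IsIntegral A.left := isIntegral_of_irreducibleSpace_of_isReduced A.left
  have hA : AA A := Groth.Agent.Lib.AutFix.aa_of_proper A
  haveI : IsNoetherianRing (CommRingCat.of k) := inferInstanceAs (IsNoetherianRing k)
  haveI : LocallyOfFiniteType A.hom := inferInstance
  haveI : IsLocallyNoetherian A.left := LocallyOfFiniteType.isLocallyNoetherian A.hom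
  haveI : CompactSpace A.left := QuasiCompact.compactSpace_of_compactSpace A.hom
  haveI : QuasiSeparatedSpace A.left := inferInstance
  haveI hm : IsMonHom ((j ⊗ₘ i) ≫ μ[G]) := isMonHom_m i π hker j hA
  refine ⟨hm, ⟨hsurj, ?_⟩, ⟨?_, ?_⟩⟩
  · -- the kernel of `m` is finite
    intro K κ hK
    have hκ : κ ≫ (j ⊗ₘ i) ≫ μ[G] = 1 := by
      have := ker_comp κ ((j ⊗ₘ i) ≫ μ[G]) hK (𝟙 K)
      rwa [Category.id_comp] at this
    have hw : ((κ ≫ fst A N) ≫ j) * ((κ ≫ snd A N) ≫ i) = 1 := by rw [← m_pt, hκ]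
    refine fin_of_sq i j (κ ≫ fst A N) (κ ≫ snd A N)⁻¹ ?_
    apply isPullback_of_exists_unique
    · rw [GrpObj.inv_comp]
      exact eq_inv_of_mul_eq_one_left hw
    · intro T a b hab
      have hz : lift a b⁻¹ ≫ (j ⊗ₘ i) ≫ μ[G] = 1 := by
        rw [m_pt, lift_fst, lift_snd, hab, GrpObj.inv_comp, _root_.mul_inv_cancel]
      obtain ⟨l, hl⟩ := ker_lift κ ((j ⊗ₘ i) ≫ μ[G]) hK _ hz
      refine ⟨l, ?_, ?_⟩
      · rw [← Category.assoc, hl, lift_fst]
      · rw [GrpObj.comp_inv, ← Category.assoc, hl, lift_snd, _root_.inv_inv]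
    · intro T l l' h1 h2
      rw [GrpObj.comp_inv, GrpObj.comp_inv, _root_.inv_inj] at h2
      apply ker_mono κ ((j ⊗ₘ i) ≫ μ[G]) hK
      apply CartesianMonoidalCategory.hom_ext
      · rw [Category.assoc, Category.assoc]; exact h1
      · rw [Category.assoc, Category.assoc]; exact h2
  · -- `A → Q` is surjective
    have e : ((j ⊗ₘ i) ≫ μ[G]) ≫ π = fst A N ≫ (j ≫ π) := by
      have h := m_pt i j (𝟙 (A ⊗ N))
      rw [Category.id_comp, Category.id_comp, Category.id_comp] at h
      rw [h, MonObj.mul_comp, ker_comp i π hker, _root_.mul_one, Category.assoc]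
    haveI : Surjective ((j ⊗ₘ i) ≫ μ[G]).left := hsurj
    haveI : Surjective ((fst A N).left ≫ (j ≫ π).left) := by
      have e' : (fst A N).left ≫ (j ≫ π).left = ((j ⊗ₘ i) ≫ μ[G]).left ≫ π.left := by
        rw [← Over.comp_left, ← Over.comp_left, e]
      rw [e']; infer_instance
    exact Surjective.of_comp (fst A N).left (j ≫ π).left
  · -- the kernel of `A → Q` is finite
    intro K κ hK
    have hκ : (κ ≫ j) ≫ π = 1 := by
      have := ker_comp κ (j ≫ π) hK (𝟙 K)
      rwa [Category.id_comp, ← Category.assoc] at this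
    obtain ⟨ν, hν⟩ := ker_lift i π hker _ hκ
    refine fin_of_sq i j κ ν ?_
    apply isPullback_of_exists_unique
    · exact hν.symm
    · intro T a b hab
      have ha : a ≫ (j ≫ π) = 1 := by
        rw [← Category.assoc, hab]; exact ker_comp i π hker b
      obtain ⟨l, hl⟩ := ker_lift κ (j ≫ π) hK _ ha
      refine ⟨l, hl, ?_⟩
      apply ker_mono i π hker
      rw [Category.assoc, hν, ← Category.assoc, hl, hab]
    · intro T l l' h1 h2
      exact ker_mono κ (j ≫ π) hK _ _ h1

end S14751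

end Groth.Agent.Lib.AAKunneth
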