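import Mathlib
import Groth.Agent.Lib.DimFT_helper8

/-! Heights in quotients by minimal primes; f.g. algebras over a field. -/

universe u

namespace Groth.Agent.DimFT2H8

open Ideal

theorem height_map_mk_le {A : Type*} [CommRing A] (q p : Ideal A) [q.IsPrime] [hp : p.IsPrime]
    (hqp : q ≤ p) : (p.map (Ideal.Quotient.mk q)).height ≤ p.height := by
  have hker : RingHom.ker (Ideal.Quotient.mk q) ≤ p := by rwa [Ideal.mk_ker]
  haveI hP : (p.map (Ideal.Quotient.mk q)).IsPrime :=
    Ideal.map_isPrime_of_surjective Ideal.Quotient.mk_surjective hker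
  have h1 := Order.height_le_height_apply_of_strictMono
    (PrimeSpectrum.comap (Ideal.Quotient.mk q))
    (RingHom.strictMono_comap_of_surjective Ideal.Quotient.mk_surjective)
    (⟨p.map (Ideal.Quotient.mk q), hP⟩ : PrimeSpectrum (A ⧸ q))
  have h2 : PrimeSpectrum.comap (Ideal.Quotient.mk q)
      (⟨p.map (Ideal.Quotient.mk q), hP⟩ : PrimeSpectrum (A ⧸ q)) = ⟨p, hp⟩ := by
    apply PrimeSpectrum.ext
    change (p.map (Ideal.Quotient.mk q)).comap (Ideal.Quotient.mk q) = p
    rw [Ideal.comap_map_of_surjective _ Ideal.Quotient.mk_surjective, ← RingHom.ker_eq_comap_bot]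
    exact sup_eq_left.mpr hker
  rw [h2, ← PrimeSpectrum.height_eq_orderHeight, ← PrimeSpectrum.height_eq_orderHeight] at h1
  exact h1

theorem exists_minimalPrimes_height_map_eq {A : Type*} [CommRing A] [IsNoetherianRing A]
    (p : Ideal A) [hp : p.IsPrime] :
    ∃ q ∈ minimalPrimes A, q ≤ p ∧ (p.map (Ideal.Quotient.mk q)).height = p.height := by
  obtain ⟨l, hl_last, hl_len⟩ := p.exists_ltSeries_length_eq_height
  have hlen : (l.length : ℕ∞) = Order.height l.last := by
    rw [hl_len, ← PrimeSpectrum.height_eq_orderHeight, hl_last]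
  have h0 := Order.height_eq_index_of_length_eq_height_last hlen 0
  set q := l.head with hq
  have hq0 : q.asIdeal.height = 0 := by
    rw [PrimeSpectrum.height_eq_orderHeight]
    have : Order.height (RelSeries.head l) = 0 := by
      have h0' : Order.height (l.toFun 0) = 0 := by simpa using h0
      exact h0'
    exact this
  have hqmin : q.asIdeal ∈ minimalPrimes A := Ideal.height_eq_zero_iff.mp hq0
  have hqp : q.asIdeal ≤ p := by
    have h1 : RelSeries.head l ≤ RelSeries.last l := l.head_le_last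
    rw [hl_last] at h1
    exact h1
  refine ⟨q.asIdeal, hqmin, hqp, le_antisymm (height_map_mk_le _ _ hqp) ?_⟩
  -- lift the chain to the quotient
  let e := q.asIdeal.primeSpectrumQuotientOrderIsoZeroLocus
  let l' : LTSeries (PrimeSpectrum.zeroLocus (R := A) q.asIdeal) :=
    LTSeries.mk l.length (fun i => ⟨l i, by
      change (q.asIdeal : Set A) ⊆ (l i).asIdeal
      exact l.head_le i⟩) (fun i j hij => l.strictMono hij)
  let l'' : LTSeries (PrimeSpectrum (A ⧸ q.asIdeal)) := l'.map e.symm e.symm.strictMono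
  have hker : RingHom.ker (Ideal.Quotient.mk q.asIdeal) ≤ p := by rwa [Ideal.mk_ker]
  haveI hP : (p.map (Ideal.Quotient.mk q.asIdeal)).IsPrime :=
    Ideal.map_isPrime_of_surjective Ideal.Quotient.mk_surjective hker
  have hlast : l''.last = ⟨p.map (Ideal.Quotient.mk q.asIdeal), hP⟩ := by
    apply PrimeSpectrum.ext
    change ((l.last).asIdeal).map (Ideal.Quotient.mk q.asIdeal) = _
    rw [hl_last]
  have h3 := Order.length_le_height_last (p := l'')
  rw [hlast, ← PrimeSpectrum.height_eq_orderHeight] at h3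
  have : l''.length = l.length := rfl
  rw [this, hl_len] at h3
  exact h3


/-- In a f.g. algebra over a field, for a prime `q` below a maximal ideal `m`, the height of
`m / q` is the transcendence degree of `A / q`. -/
theorem exists_trdeg_eq_height_map (k A : Type u) [Field k] [CommRing A] [Algebra k A]
    [Algebra.FiniteType k A] (q m : Ideal A) [hq : q.IsPrime] [hm : m.IsMaximal] (hqm : q ≤ m) :
    ∃ n : ℕ, Algebra.trdeg k (A ⧸ q) = n ∧ (m.map (Ideal.Quotient.mk q)).height = n := by
  haveI : Algebra.FiniteType k (A ⧸ q) :=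
    Algebra.FiniteType.of_surjective (Ideal.Quotient.mkₐ k q) (Ideal.Quotient.mkₐ_surjective k q)
  obtain ⟨n, h1, h2⟩ := Groth.Agent.DimFTH8.exists_height_eq k (A ⧸ q)
  have hker : RingHom.ker (Ideal.Quotient.mk q) ≤ m := by rwa [Ideal.mk_ker]
  haveI : (m.map (Ideal.Quotient.mk q)).IsMaximal :=
    Ideal.IsMaximal.map_of_surjective_of_ker_le Ideal.Quotient.mk_surjective hker
  exact ⟨n, h1, h2 _⟩

theorem exists_trdeg_le_height (k A : Type u) [Field k] [CommRing A] [Algebra k A]
    [Algebra.FiniteType k A] (q m : Ideal A) [hq : q.IsPrime] [hm : m.IsMaximal] (hqm : q ≤ m) :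
    ∃ n : ℕ, Algebra.trdeg k (A ⧸ q) = n ∧ (n : ℕ∞) ≤ m.height := by
  obtain ⟨n, h1, h2⟩ := exists_trdeg_eq_height_map k A q m hqm
  refine ⟨n, h1, ?_⟩
  rw [← h2]
  haveI := hm.isPrime
  exact height_map_mk_le q m hqm

theorem exists_minimalPrimes_trdeg_eq_height (k A : Type u) [Field k] [CommRing A] [Algebra k A]
    [Algebra.FiniteType k A] (m : Ideal A) [hm : m.IsMaximal] :
    ∃ q : Ideal A, q ∈ minimalPrimes A ∧ q ≤ m ∧ ∃ (_ : q.IsPrime) (n : ℕ),
      Algebra.trdeg k (A ⧸ q) = n ∧ m.height = n := by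
  haveI : IsNoetherianRing A := Algebra.FiniteType.isNoetherianRing k A
  haveI := hm.isPrime
  obtain ⟨q, hqmin, hqm, hh⟩ := exists_minimalPrimes_height_map_eq m
  haveI hqp : q.IsPrime := hqmin.1.1
  obtain ⟨n, h1, h2⟩ := exists_trdeg_eq_height_map k A q m hqm
  exact ⟨q, hqmin, hqm, hqp, n, h1, by rw [← hh, h2]⟩

end Groth.Agent.DimFT2H8
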