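import Mathlib
import Groth.Prelude.Def_W4bk5brsh16IT

/-!
Helper library (helper3): concrete description of the ideal transform `D_I(M)`.
-/

set_option autoImplicit false

namespace Groth.Agent.Lib.DT_helper3

open CategoryTheory CategoryTheory.Limits Opposite LocCoh

universe u

variable {R : Type u} [CommRing R] (I : Ideal R)

instance : PreservesColimitsOfShape ℕᵒᵖᵒᵖ (forget (ModuleCat.{u} R)) :=
  haveI := preservesSmallestFilteredColimits_of_preservesFilteredColimits
    (forget (ModuleCat.{u} R))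
  PreservesFilteredColimitsOfSize.preserves_filtered_colimits ℕᵒᵖᵒᵖ

section cls

variable {M : Type u} [AddCommGroup M] [Module R M]

/-- A linear map `I^n → M` as an element of the `n`-th term of the diagram. -/
def toObj (n : ℕ) (f : ↥(I ^ n) →ₗ[R] M) :
    ((transformDiagram I).obj (op (op n))).obj (ModuleCat.of R M) :=
  (ModuleCat.homLinearEquiv (S := R) (M := ModuleCat.of R ↥(I ^ n))
      (N := ModuleCat.of R M)).symm f

/-- An element of the `n`-th term of the diagram as a linear map `I^n → M`. -/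
def ofObj (n : ℕ) (y : ((transformDiagram I).obj (op (op n))).obj (ModuleCat.of R M)) :
    ↥(I ^ n) →ₗ[R] M :=
  ModuleCat.Hom.hom (show ModuleCat.of R ↥(I ^ n) ⟶ ModuleCat.of R M from y)

theorem toObj_ofObj (n : ℕ) (y : ((transformDiagram I).obj (op (op n))).obj (ModuleCat.of R M)) :
    toObj I n (ofObj I n y) = y := rfl

theorem ofObj_toObj (n : ℕ) (f : ↥(I ^ n) →ₗ[R] M) : ofObj I n (toObj I n f) = f := rfl

/-- The class in `D_I(M)` of a linear map `I^n → M`. -/
noncomputable def cls (n : ℕ) : (↥(I ^ n) →ₗ[R] M) →ₗ[R] DT I M :=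
  ((colimit.ι (transformDiagram I) (op (op n))).app (ModuleCat.of R M)).hom ∘ₗ
    (ModuleCat.homLinearEquiv (S := R) (M := ModuleCat.of R ↥(I ^ n))
      (N := ModuleCat.of R M)).symm.toLinearMap

theorem cls_apply (n : ℕ) (f : ↥(I ^ n) →ₗ[R] M) :
    cls I n f = ((colimit.ι (transformDiagram I) (op (op n))).app (ModuleCat.of R M)).hom
      (toObj I n f) := rfl

/-- Restriction of a linear map `I^n → M` to `I^k`, `k ≥ n`. -/
def res {n k : ℕ} (h : n ≤ k) (f : ↥(I ^ n) →ₗ[R] M) : ↥(I ^ k) →ₗ[R] M :=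
  f ∘ₗ Submodule.inclusion (Ideal.pow_le_pow_right h)

@[simp] theorem res_apply {n k : ℕ} (h : n ≤ k) (f : ↥(I ^ n) →ₗ[R] M) (x : ↥(I ^ k)) :
    res I h f x = f ⟨x.1, Ideal.pow_le_pow_right h x.2⟩ := rfl

theorem map_toObj {n k : ℕ} (i : (op (op n) : ℕᵒᵖᵒᵖ) ⟶ op (op k)) (f : ↥(I ^ n) →ₗ[R] M) :
    (((transformDiagram I).map i).app (ModuleCat.of R M)).hom (toObj I n f) =
      toObj I k (res I (leOfHom i.unop.unop) f) := rfl

theorem cls_res {n k : ℕ} (h : n ≤ k) (f : ↥(I ^ n) →ₗ[R] M) :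
    cls I k (res I h f) = cls I n f := by
  have hw := NatTrans.congr_app (colimit.w (transformDiagram I) (homOfLE h).op.op)
    (ModuleCat.of R M)
  have hw' := LinearMap.congr_fun (congrArg ModuleCat.Hom.hom hw) (toObj I n f)
  rw [NatTrans.comp_app, ModuleCat.hom_comp, LinearMap.comp_apply, map_toObj] at hw'
  exact hw'

theorem exists_cls (x : DT I M) : ∃ (n : ℕ) (f : ↥(I ^ n) →ₗ[R] M), cls I n f = x := by
  let e := colimitObjIsoColimitCompEvaluation (transformDiagram I) (ModuleCat.of R M)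
  obtain ⟨j, y, hy⟩ := Concrete.colimit_exists_rep
    (transformDiagram I ⋙ (evaluation _ _).obj (ModuleCat.of R M)) (e.hom.hom x)
  obtain ⟨⟨n⟩⟩ := j
  refine ⟨n, ofObj I n y, ?_⟩
  have h1 : e.inv.hom (e.hom.hom x) = x := by
    rw [← LinearMap.comp_apply, ← ModuleCat.hom_comp, e.hom_inv_id]
    rfl
  have h2 := colimitObjIsoColimitCompEvaluation_ι_inv (transformDiagram I) (op (op n))
    (ModuleCat.of R M)
  have h3 := LinearMap.congr_fun (congrArg ModuleCat.Hom.hom h2) y
  rw [ModuleCat.hom_comp, LinearMap.comp_apply] at h3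
  rw [cls_apply, toObj_ofObj, ← h3, ← h1]
  exact congrArg e.inv.hom hy

theorem cls_eq_zero_iff (n : ℕ) (f : ↥(I ^ n) →ₗ[R] M) :
    cls I n f = 0 ↔ ∃ (k : ℕ) (h : n ≤ k), res I h f = 0 := by
  constructor
  · intro h0
    have h2 := colimitObjIsoColimitCompEvaluation_ι_app_hom (transformDiagram I) (op (op n))
      (ModuleCat.of R M)
    have h3 := LinearMap.congr_fun (congrArg ModuleCat.Hom.hom h2) (toObj I n f)
    rw [ModuleCat.hom_comp, LinearMap.comp_apply] at h3
    have h0' : ((colimit.ι (transformDiagram I) (op (op n))).app (ModuleCat.of R M)).hom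
        (toObj I n f) = 0 := h0
    rw [h0', map_zero] at h3
    obtain ⟨j', i, hi⟩ := Concrete.colimit_rep_eq_zero R
      (transformDiagram I ⋙ (evaluation _ _).obj (ModuleCat.of R M)) (op (op n))
      (toObj I n f) h3.symm
    obtain ⟨⟨k⟩⟩ := j'
    refine ⟨k, leOfHom i.unop.unop, ?_⟩
    have h4 : toObj I k (res I (leOfHom i.unop.unop) f) = 0 := hi
    have h5 := congrArg (ofObj I k) h4
    rw [ofObj_toObj] at h5
    exact h5
  · rintro ⟨k, h, hk⟩
    rw [← cls_res I h, hk, map_zero]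

end cls


section functorial

variable {M M' : Type u} [AddCommGroup M] [Module R M] [AddCommGroup M'] [Module R M']

theorem map_cls (e : M →ₗ[R] M') (n : ℕ) (f : ↥(I ^ n) →ₗ[R] M) :
    ((idealTransform I).map (ModuleCat.ofHom e)).hom (cls I n f) = cls I n (e ∘ₗ f) := by
  have hnat := (colimit.ι (transformDiagram I) (op (op n))).naturality (ModuleCat.ofHom e)
  have h1 := LinearMap.congr_fun (congrArg ModuleCat.Hom.hom hnat) (toObj I n f)
  rw [ModuleCat.hom_comp, ModuleCat.hom_comp, LinearMap.comp_apply, LinearMap.comp_apply] at h1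
  exact h1.symm

/-- Multiplication map `I^n → M`, `r ↦ r • m`. -/
def smulMap (n : ℕ) (m : M) : ↥(I ^ n) →ₗ[R] M :=
  ((LinearMap.lsmul R M).domRestrict (I ^ n)).flip m

@[simp] theorem smulMap_apply (n : ℕ) (m : M) (y : ↥(I ^ n)) : smulMap I n m y = (y : R) • m :=
  rfl

theorem toDT_eq_cls (m : M) : toDT I M m = cls I 0 (smulMap I 0 m) := rfl

theorem toDT_eq_cls' (n : ℕ) (m : M) : toDT I M m = cls I n (smulMap I n m) := by
  rw [toDT_eq_cls, ← cls_res I (Nat.zero_le n)]
  rfl

theorem mem_ker_toDT_iff (m : M) : toDT I M m = 0 ↔ m ∈ DRing.torsionSub I M := by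
  rw [toDT_eq_cls, cls_eq_zero_iff]
  constructor
  · rintro ⟨k, _, hk⟩
    refine ⟨k, fun a ha => ?_⟩
    have := LinearMap.congr_fun hk ⟨a, ha⟩
    simpa using this
  · rintro ⟨k, hk⟩
    refine ⟨k, Nat.zero_le k, ?_⟩
    ext y
    simpa using hk y.1 y.2

theorem smul_cls (n : ℕ) (f : ↥(I ^ n) →ₗ[R] M) (a : R) (ha : a ∈ I ^ n) :
    a • cls I n f = toDT I M (f ⟨a, ha⟩) := by
  rw [← map_smul, toDT_eq_cls' I n]
  congr 1
  ext y
  simp only [LinearMap.smul_apply, smulMap_apply]
  rw [← map_smul, ← map_smul]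
  congr 1
  apply Subtype.ext
  simp [mul_comm]

end functorial

section noeth

variable [IsNoetherianRing R] {M : Type u} [AddCommGroup M] [Module R M]

/-- A map `I^n → M` with torsion values restricts to zero on a higher power. -/
theorem exists_res_eq_zero_of_torsion (n : ℕ) (f : ↥(I ^ n) →ₗ[R] M)
    (hf : ∀ y, f y ∈ DRing.torsionSub I M) : ∃ (k : ℕ) (h : n ≤ k), res I h f = 0 := by
  classical
  obtain ⟨r, s, hs⟩ := Module.Finite.exists_fin (R := R) (M := ↥(I ^ n))
  choose l hl using fun i => hf (s i)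
  let L := Finset.univ.sup l
  have hL : ∀ i, ∀ a ∈ I ^ L, a • f (s i) = 0 := fun i a ha =>
    hl i a (Ideal.pow_le_pow_right (Finset.le_sup (Finset.mem_univ i)) ha)
  have hall : ∀ y : ↥(I ^ n), ∀ a ∈ I ^ L, a • f y = 0 := by
    intro y a ha
    have hy : y ∈ Submodule.span R (Set.range s) := by rw [hs]; exact Submodule.mem_top
    induction hy using Submodule.span_induction with
    | mem y hy =>
      obtain ⟨i, rfl⟩ := hy
      exact hL i a ha
    | zero => simp
    | add y z _ _ hy hz => rw [map_add, smul_add, hy, hz, add_zero]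
    | smul c y _ hy => rw [map_smul, smul_comm, hy, smul_zero]
  refine ⟨L + n, Nat.le_add_left n L, ?_⟩
  ext ⟨x, hx⟩
  simp only [res_apply, LinearMap.zero_apply]
  have hx' : x ∈ I ^ L * I ^ n := by rwa [← pow_add]
  have key : ∀ x ∈ I ^ L * I ^ n, ∀ h : x ∈ I ^ n, f ⟨x, h⟩ = 0 := by
    intro x hx
    induction hx using Submodule.mul_induction_on' with
    | mem_mul_mem a ha b hb =>
      intro h
      have : (⟨a * b, h⟩ : ↥(I ^ n)) = a • ⟨b, hb⟩ := Subtype.ext (by simp)
      rw [this, map_smul]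
      exact hall _ a ha
    | add x hx y hy ihx ihy =>
      intro h
      have hx1 : x ∈ I ^ n := Ideal.mul_le_right hx
      have hy1 : y ∈ I ^ n := Ideal.mul_le_right hy
      have : (⟨x + y, h⟩ : ↥(I ^ n)) = ⟨x, hx1⟩ + ⟨y, hy1⟩ := Subtype.ext rfl
      rw [this, map_add, ihx hx1, ihy hy1, add_zero]
  exact key x hx' _

theorem DT_eq_zero_of_isPowerTorsion (hM : IsPowerTorsion I M) (x : DT I M) : x = 0 := by
  obtain ⟨n, f, rfl⟩ := exists_cls I x
  rw [cls_eq_zero_iff]
  exact exists_res_eq_zero_of_torsion I n f fun y => hM (f y)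

/-- Lifting lemma (uses Artin–Rees). -/
theorem exists_lift_of_le_torsion (K : Submodule R M) (hK : K ≤ DRing.torsionSub I M) (m : ℕ)
    (h : ↥(I ^ m) →ₗ[R] M ⧸ K) :
    ∃ (k : ℕ) (hk : m ≤ k) (f : ↥(I ^ k) →ₗ[R] M), K.mkQ ∘ₗ f = res I hk h := by
  classical
  obtain ⟨r, π, hπ⟩ := Module.Finite.exists_fin' R ↥(I ^ m)
  let e : Fin r → (Fin r → R) := fun i j => if i = j then 1 else 0
  choose x hx using fun i => K.mkQ_surjective (h (π (e i)))
  let F : (Fin r → R) →ₗ[R] M := ∑ i, (LinearMap.proj i).smulRight (x i)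
  have hFv : ∀ v, F v = ∑ i, v i • x i := by
    intro v
    simp [F, LinearMap.sum_apply]
  have hF : ∀ v, K.mkQ (F v) = h (π v) := by
    intro v
    rw [hFv, map_sum, LinearMap.pi_apply_eq_sum_univ π v, map_sum]
    refine Finset.sum_congr rfl fun i _ => ?_
    rw [map_smul, map_smul, hx]
  let N := LinearMap.ker π
  have hFN : ∀ v ∈ N, F v ∈ DRing.torsionSub I M := by
    intro v hv
    apply hK
    rw [← Submodule.Quotient.mk_eq_zero, ← Submodule.mkQ_apply, hF v]
    rw [LinearMap.mem_ker.mp hv, map_zero]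
  -- a uniform exponent killing F(N)
  obtain ⟨l₀, hl₀⟩ : ∃ l₀ : ℕ, ∀ a ∈ I ^ l₀, ∀ v ∈ N, a • F v = 0 := by
    obtain ⟨t, ht⟩ := (IsNoetherian.noetherian N : N.FG)
    have : ∀ v : (t : Set (Fin r → R)), ∃ l : ℕ, ∀ a ∈ I ^ l, a • F v.1 = 0 := by
      intro v
      exact hFN v.1 (ht ▸ Submodule.subset_span v.2)
    choose l hl using this
    let L := Finset.univ.sup l
    refine ⟨L, fun a ha v hv => ?_⟩
    rw [← ht] at hv
    induction hv using Submodule.span_induction with
    | mem v hv =>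
      exact hl ⟨v, hv⟩ a
        (Ideal.pow_le_pow_right (Finset.le_sup (f := l) (Finset.mem_univ ⟨v, hv⟩)) ha)
    | zero => simp
    | add y z _ _ hy hz => rw [map_add, smul_add, hy, hz, add_zero]
    | smul c y _ hy => rw [map_smul, smul_comm, hy, smul_zero]
  obtain ⟨c, hc⟩ := Ideal.exists_pow_inf_eq_pow_smul I N
  let l := l₀ + c
  have hkill : ∀ v ∈ (I ^ l • ⊤ ⊓ N : Submodule R (Fin r → R)), F v = 0 := by
    intro v hv
    rw [hc l (Nat.le_add_left c l₀)] at hv
    have hl : l - c = l₀ := by simp only [l]; omega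
    rw [hl] at hv
    have hv' : v ∈ I ^ l₀ • N := Submodule.smul_mono le_rfl inf_le_right hv
    refine Submodule.smul_induction_on hv' ?_ ?_
    · intro a ha w hw
      rw [map_smul]
      exact hl₀ a ha w hw
    · intro y z hy hz
      rw [map_add, hy, hz, add_zero]
  let P : Submodule R (Fin r → R) := I ^ l • ⊤
  have hPmem : ∀ p ∈ P, ((π p : ↥(I ^ m)) : R) ∈ I ^ (l + m) := by
    intro p hp
    refine Submodule.smul_induction_on hp ?_ ?_
    · intro a ha w _
      rw [map_smul, pow_add]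
      exact Ideal.mul_mem_mul ha (π w).2
    · intro y z hy hz
      rw [map_add]
      exact Ideal.add_mem _ hy hz
  let π'' : P →ₗ[R] ↥(I ^ (l + m)) :=
    LinearMap.codRestrict (I ^ (l + m)) ((Submodule.subtype (I ^ m)) ∘ₗ π ∘ₗ P.subtype)
      (fun p => hPmem p.1 p.2)
  have hπ''val : ∀ p : P, ((π'' p : ↥(I ^ (l + m))) : R) = ((π p.1 : ↥(I ^ m)) : R) := fun p => rfl
  have hsurj : Function.Surjective π'' := by
    rintro ⟨y, hy⟩
    have hy' : y ∈ I ^ l * I ^ m := by rwa [← pow_add]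
    have key : ∀ y ∈ I ^ l * I ^ m, ∃ p : P, ((π p.1 : ↥(I ^ m)) : R) = y := by
      intro y hy
      induction hy using Submodule.mul_induction_on' with
      | mem_mul_mem a ha b hb =>
        obtain ⟨w, hw⟩ := hπ ⟨b, hb⟩
        refine ⟨⟨a • w, Submodule.smul_mem_smul ha Submodule.mem_top⟩, ?_⟩
        rw [map_smul, hw]
        rfl
      | add y hy z hz ihy ihz =>
        obtain ⟨p, hp⟩ := ihy
        obtain ⟨q, hq⟩ := ihz
        refine ⟨p + q, ?_⟩
        rw [Submodule.coe_add, map_add, Submodule.coe_add, hp, hq]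
    obtain ⟨p, hp⟩ := key y hy'
    exact ⟨p, Subtype.ext (by rw [hπ''val, hp])⟩
  have hker : LinearMap.ker π'' ≤ LinearMap.ker (F ∘ₗ P.subtype) := by
    intro p hp
    rw [LinearMap.mem_ker] at hp ⊢
    apply hkill
    refine ⟨p.2, ?_⟩
    show (p : Fin r → R) ∈ LinearMap.ker π
    rw [LinearMap.mem_ker]
    apply Subtype.ext
    have := congrArg (fun t : ↥(I ^ (l + m)) => (t : R)) hp
    simpa [hπ''val] using this
  let f : ↥(I ^ (l + m)) →ₗ[R] M :=
    (LinearMap.ker π'').liftQ (F ∘ₗ P.subtype) hker ∘ₗ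
      (π''.quotKerEquivOfSurjective hsurj).symm.toLinearMap
  have hf : ∀ p : P, f (π'' p) = F p.1 := by
    intro p
    simp only [f, LinearMap.comp_apply, LinearEquiv.coe_coe]
    rw [LinearMap.quotKerEquivOfSurjective_symm_apply]
    rfl
  refine ⟨l + m, Nat.le_add_left m l, f, ?_⟩
  apply LinearMap.ext
  intro y
  obtain ⟨p, rfl⟩ := hsurj y
  rw [LinearMap.comp_apply, hf, hF, res_apply]
  congr 1

end noeth


section main

variable [IsNoetherianRing R] {M M' : Type u} [AddCommGroup M] [Module R M] [AddCommGroup M']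
  [Module R M']

theorem map_bijective (e : M →ₗ[R] M') (hker : LinearMap.ker e ≤ DRing.torsionSub I M)
    (hcoker : IsPowerTorsion I (M' ⧸ LinearMap.range e)) :
    Function.Bijective ((idealTransform I).map (ModuleCat.ofHom e)).hom := by
  constructor
  · rw [injective_iff_map_eq_zero]
    intro x hx
    obtain ⟨n, f, rfl⟩ := exists_cls I x
    rw [map_cls, cls_eq_zero_iff] at hx
    obtain ⟨k, hk, hres⟩ := hx
    have h1 : ∀ y, res I hk f y ∈ DRing.torsionSub I M := by
      intro y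
      apply hker
      rw [LinearMap.mem_ker]
      exact LinearMap.congr_fun hres y
    obtain ⟨k', hk', h2⟩ := exists_res_eq_zero_of_torsion I k (res I hk f) h1
    rw [← cls_res I hk, cls_eq_zero_iff]
    exact ⟨k', hk', h2⟩
  · intro y
    obtain ⟨n, g, rfl⟩ := exists_cls I y
    obtain ⟨k, hk, h1⟩ := exists_res_eq_zero_of_torsion I n ((LinearMap.range e).mkQ ∘ₗ g)
      (fun y => hcoker _)
    have hg' : ∀ y : ↥(I ^ k), res I hk g y ∈ LinearMap.range e := by
      intro y
      have := LinearMap.congr_fun h1 y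
      exact (Submodule.Quotient.mk_eq_zero _).mp this
    let g' : ↥(I ^ k) →ₗ[R] LinearMap.range e := LinearMap.codRestrict _ (res I hk g) hg'
    let h : ↥(I ^ k) →ₗ[R] M ⧸ LinearMap.ker e := e.quotKerEquivRange.symm.toLinearMap ∘ₗ g'
    obtain ⟨k', hk', f, hf⟩ := exists_lift_of_le_torsion I (LinearMap.ker e) hker k h
    refine ⟨cls I k' f, ?_⟩
    rw [map_cls, ← cls_res I hk, ← cls_res I hk']
    congr 1
    ext y
    have h2 := LinearMap.congr_fun hf y
    have h3 : e (f y) = (e.quotKerEquivRange ((LinearMap.ker e).mkQ (f y)) : M') := rfl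
    rw [LinearMap.comp_apply] at h2
    rw [LinearMap.comp_apply, h3, h2]
    simp only [res_apply, h, LinearMap.comp_apply, LinearEquiv.coe_coe,
      LinearEquiv.apply_symm_apply]
    rfl

theorem torsionSub_DT_eq_bot : DRing.torsionSub I (DT I M) = ⊥ := by
  rw [eq_bot_iff]
  rintro z ⟨k, hk⟩
  obtain ⟨n, f, rfl⟩ := exists_cls I z
  rw [Submodule.mem_bot]
  have hnk : n ≤ n + k := Nat.le_add_right n k
  rw [← cls_res I hnk] at hk ⊢
  have h1 : ∀ y, res I hnk f y ∈ DRing.torsionSub I M := by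
    intro y
    rw [← mem_ker_toDT_iff, ← smul_cls I (n + k) (res I hnk f) y.1 y.2]
    exact hk y.1 (Ideal.pow_le_pow_right (Nat.le_add_left k n) y.2)
  rw [cls_eq_zero_iff]
  exact exists_res_eq_zero_of_torsion I _ _ h1

theorem isPowerTorsion_coker_toDT : IsPowerTorsion I (DT I M ⧸ LinearMap.range (toDT I M)) := by
  intro q
  obtain ⟨z, rfl⟩ := Submodule.Quotient.mk_surjective _ q
  obtain ⟨n, f, rfl⟩ := exists_cls I z
  refine ⟨n, fun a ha => ?_⟩
  rw [← Submodule.Quotient.mk_smul, Submodule.Quotient.mk_eq_zero, smul_cls I n f a ha]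
  exact LinearMap.mem_range_self _ _

theorem map_toDT_bijective :
    Function.Bijective ((idealTransform I).map (ModuleCat.ofHom (toDT I M))).hom := by
  apply map_bijective
  · intro m hm
    exact (mem_ker_toDT_iff I m).mp hm
  · exact isPowerTorsion_coker_toDT I

theorem map_mkQ_torsionSub_bijective :
    Function.Bijective ((idealTransform I).map
      (ModuleCat.ofHom (DRing.torsionSub I M).mkQ)).hom := by
  apply map_bijective
  · rw [Submodule.ker_mkQ]
  · intro q
    obtain ⟨z, rfl⟩ := Submodule.Quotient.mk_surjective _ q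
    refine ⟨0, fun a _ => ?_⟩
    rw [← Submodule.Quotient.mk_smul, Submodule.Quotient.mk_eq_zero, Submodule.range_mkQ]
    exact Submodule.mem_top

end main

section regular

variable [IsNoetherianRing R] {M : Type u} [AddCommGroup M] [Module R M]

theorem exists_eq_pow_smul_of_regular (x y : R) (hx : IsSMulRegular M x)
    (hy : IsSMulRegular (QuotSMulTop x M) y) (n : ℕ) :
    ∀ a b : M, y • a = x ^ n • b → ∃ a' : M, a = x ^ n • a' := by
  induction n with
  | zero => intro a b _; exact ⟨a, by simp⟩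
  | succ n ih =>
    intro a b hab
    have h1 : (Submodule.Quotient.mk a : QuotSMulTop x M) = 0 := by
      apply hy
      show y • (Submodule.Quotient.mk a : QuotSMulTop x M) = y • 0
      rw [smul_zero, ← Submodule.Quotient.mk_smul, Submodule.Quotient.mk_eq_zero, hab,
        pow_succ', mul_smul]
      exact Submodule.smul_mem_pointwise_smul _ x ⊤ Submodule.mem_top
    rw [Submodule.Quotient.mk_eq_zero] at h1
    obtain ⟨a₁, -, rfl⟩ := (Submodule.mem_smul_pointwise_iff_exists _ _ _).mp h1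
    have h2 : y • a₁ = x ^ n • b := by
      apply hx
      show x • y • a₁ = x • x ^ n • b
      rw [smul_comm, hab, pow_succ', mul_smul]
    obtain ⟨a₂, rfl⟩ := ih a₁ b h2
    exact ⟨a₂, by rw [pow_succ', mul_smul]⟩

theorem exists_eq_pow_smul_of_regular' (x y : R) (hx : IsSMulRegular M x)
    (hy : IsSMulRegular (QuotSMulTop x M) y) (n k : ℕ) :
    ∀ a b : M, y ^ k • a = x ^ n • b → ∃ a' : M, a = x ^ n • a' := by
  induction k with
  | zero => intro a b hab; exact ⟨b, by simpa using hab⟩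
  | succ k ih =>
    intro a b hab
    rw [pow_succ', mul_smul] at hab
    obtain ⟨a', ha'⟩ := exists_eq_pow_smul_of_regular x y hx hy n _ b hab
    exact ih a a' ha'

theorem toDT_bijective_of_regular (x y : R) (hxI : x ∈ I) (hyI : y ∈ I)
    (hreg : RingTheory.Sequence.IsRegular M [x, y]) : Function.Bijective (toDT I M) := by
  obtain ⟨hx, hreg'⟩ := (RingTheory.Sequence.isRegular_cons_iff M x [y]).mp hreg
  obtain ⟨hy, -⟩ := (RingTheory.Sequence.isRegular_cons_iff (QuotSMulTop x M) y []).mp hreg'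
  constructor
  · rw [injective_iff_map_eq_zero]
    intro m hm
    obtain ⟨n, hn⟩ := (mem_ker_toDT_iff I m).mp hm
    have h1 := hn (x ^ n) (Ideal.pow_mem_pow hxI n)
    apply (hx.pow n)
    show x ^ n • m = x ^ n • 0
    rw [h1, smul_zero]
  · intro z
    obtain ⟨n, f, rfl⟩ := exists_cls I z
    let xn : ↥(I ^ n) := ⟨x ^ n, Ideal.pow_mem_pow hxI n⟩
    let yn : ↥(I ^ n) := ⟨y ^ n, Ideal.pow_mem_pow hyI n⟩
    have h1 : y ^ n • f xn = x ^ n • f yn := by
      rw [← map_smul, ← map_smul]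
      congr 1
      apply Subtype.ext
      simp [xn, yn, mul_comm]
    obtain ⟨m, hm⟩ := exists_eq_pow_smul_of_regular' x y hx hy n n _ _ h1
    refine ⟨m, ?_⟩
    rw [toDT_eq_cls' I n]
    congr 1
    ext r
    rw [smulMap_apply]
    apply (hx.pow n)
    show x ^ n • ((r : R) • m) = x ^ n • f r
    rw [smul_comm, ← hm, ← map_smul, ← map_smul]
    congr 1
    apply Subtype.ext
    simp [xn, mul_comm]

end regular

end Groth.Agent.Lib.DT_helper3
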