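import Mathlib
import Groth.Prelude.Def_W4bk5brsh16IT
import Groth.Agent.Lib.DT_helper3

/-!
Helper library (helper3): more on ideal transforms: factorization, principal ideals, products.
-/

set_option autoImplicit false

namespace Groth.Agent.Lib.DT2_helper3

open CategoryTheory CategoryTheory.Limits Opposite LocCoh Groth.Agent.Lib.DT_helper3

universe u

variable {R : Type u} [CommRing R] (I : Ideal R)

section nat

variable {M M' K : Type u} [AddCommGroup M] [Module R M] [AddCommGroup M'] [Module R M']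
  [AddCommGroup K] [Module R K]

theorem map_toDT (e : M →ₗ[R] M') (m : M) :
    ((idealTransform I).map (ModuleCat.ofHom e)).hom (toDT I M m) = toDT I M' (e m) := by
  rw [toDT_eq_cls, map_cls, toDT_eq_cls]
  congr 1
  ext y
  simp [smulMap_apply]

theorem toDT_DT_eq_map (z : DT I M) :
    toDT I (DT I M) z = ((idealTransform I).map (ModuleCat.ofHom (toDT I M))).hom z := by
  obtain ⟨n, f, rfl⟩ := exists_cls I z
  rw [map_cls, toDT_eq_cls' I n]
  congr 1
  ext r
  rw [smulMap_apply, LinearMap.comp_apply, smul_cls I n f r.1 r.2]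

theorem toDT_DT_bijective [IsNoetherianRing R] : Function.Bijective (toDT I (DT I M)) := by
  have : ⇑(toDT I (DT I M)) =
      ⇑((idealTransform I).map (ModuleCat.ofHom (toDT I M))).hom := funext (toDT_DT_eq_map I)
  rw [this]
  exact map_toDT_bijective I

theorem eq_of_comp_eq [IsNoetherianRing R] (e : M →ₗ[R] M')
    (hcoker : IsPowerTorsion I (M' ⧸ LinearMap.range e)) (ψ₁ ψ₂ : M' →ₗ[R] DT I K)
    (h : ψ₁ ∘ₗ e = ψ₂ ∘ₗ e) : ψ₁ = ψ₂ := by
  ext m'
  rw [← sub_eq_zero]
  have hmem : ψ₁ m' - ψ₂ m' ∈ DRing.torsionSub I (DT I K) := by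
    obtain ⟨n, hn⟩ := hcoker (Submodule.Quotient.mk m')
    refine ⟨n, fun a ha => ?_⟩
    have h1 := hn a ha
    rw [← Submodule.Quotient.mk_smul, Submodule.Quotient.mk_eq_zero] at h1
    obtain ⟨m, hm⟩ := h1
    rw [smul_sub, ← map_smul, ← map_smul, ← hm]
    have h2 := LinearMap.congr_fun h m
    rw [LinearMap.comp_apply, LinearMap.comp_apply] at h2
    rw [h2, sub_self]
  rw [torsionSub_DT_eq_bot] at hmem
  exact (Submodule.mem_bot R).mp hmem

/-- The factorization `M' → D(K)` of `η_K ∘ ψ` through `e`. -/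
noncomputable def factor [IsNoetherianRing R] (e : M →ₗ[R] M')
    (hker : LinearMap.ker e ≤ DRing.torsionSub I M)
    (hcoker : IsPowerTorsion I (M' ⧸ LinearMap.range e)) (ψ : M →ₗ[R] K) :
    M' →ₗ[R] DT I K :=
  ((idealTransform I).map (ModuleCat.ofHom ψ)).hom ∘ₗ
    (LinearEquiv.ofBijective _ (map_bijective I e hker hcoker)).symm.toLinearMap ∘ₗ toDT I M'

theorem factor_comp [IsNoetherianRing R] (e : M →ₗ[R] M')
    (hker : LinearMap.ker e ≤ DRing.torsionSub I M)
    (hcoker : IsPowerTorsion I (M' ⧸ LinearMap.range e)) (ψ : M →ₗ[R] K) :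
    factor I e hker hcoker ψ ∘ₗ e = toDT I K ∘ₗ ψ := by
  ext m
  simp only [factor, LinearMap.comp_apply, LinearEquiv.coe_coe]
  rw [← map_toDT I e m]
  have : (LinearEquiv.ofBijective _ (map_bijective I e hker hcoker)).symm
      (((idealTransform I).map (ModuleCat.ofHom e)).hom (toDT I M m)) = toDT I M m :=
    (LinearEquiv.ofBijective _ (map_bijective I e hker hcoker)).symm_apply_apply _
  rw [this, map_toDT]

theorem existsUnique_factor [IsNoetherianRing R] (e : M →ₗ[R] M')
    (hker : LinearMap.ker e ≤ DRing.torsionSub I M)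
    (hcoker : IsPowerTorsion I (M' ⧸ LinearMap.range e)) (ψ : M →ₗ[R] K) :
    ∃! ψ' : M' →ₗ[R] DT I K, ψ' ∘ₗ e = toDT I K ∘ₗ ψ := by
  refine ⟨factor I e hker hcoker ψ, factor_comp I e hker hcoker ψ, fun ψ'' h'' => ?_⟩
  apply eq_of_comp_eq I e hcoker
  rw [h'', factor_comp]

theorem factor_bijective [IsNoetherianRing R] (e : M →ₗ[R] M')
    (hker : LinearMap.ker e ≤ DRing.torsionSub I M)
    (hcoker : IsPowerTorsion I (M' ⧸ LinearMap.range e)) (ψ : M →ₗ[R] K)
    (hψ : Function.Bijective ψ) (ψ' : M' →ₗ[R] DT I K) (hψ' : ψ' ∘ₗ e = toDT I K ∘ₗ ψ)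
    (hη : Function.Bijective (toDT I M')) : Function.Bijective ψ' := by
  have h1 : ψ' = factor I e hker hcoker ψ := by
    apply eq_of_comp_eq I e hcoker
    rw [hψ', factor_comp]
  rw [h1]
  have hDψ : Function.Bijective ((idealTransform I).map (ModuleCat.ofHom ψ)).hom := by
    apply map_bijective
    · rw [LinearMap.ker_eq_bot.mpr hψ.injective]
      exact bot_le
    · intro q
      obtain ⟨z, rfl⟩ := Submodule.Quotient.mk_surjective _ q
      refine ⟨0, fun a _ => ?_⟩
      rw [← Submodule.Quotient.mk_smul, Submodule.Quotient.mk_eq_zero,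
        LinearMap.range_eq_top.mpr hψ.surjective]
      exact Submodule.mem_top
  rw [factor]
  simp only [LinearMap.coe_comp, LinearEquiv.coe_coe]
  exact hDψ.comp ((LinearEquiv.bijective _).comp hη)

end nat

section principal0

variable (a : R) {M : Type u} [AddCommGroup M] [Module R M]

/-- If `a^t` acts injectively on `N` and `a^t • m = g(a^t)`, then `cls t g = η(m)`. -/
theorem cls_eq_toDT_of_smul_eq {N : Type u} [AddCommGroup N] [Module R N] (t : ℕ)
    (hinj : Function.Injective fun x : N => a ^ t • x)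
    (g : ↥((Ideal.span {a}) ^ t) →ₗ[R] N) (m : N)
    (hm : a ^ t • m = g ⟨a ^ t, Ideal.pow_mem_pow (Ideal.mem_span_singleton_self a) t⟩) :
    cls (Ideal.span {a}) t g = toDT (Ideal.span {a}) N m := by
  rw [toDT_eq_cls' _ t]
  congr 1
  ext r
  rw [smulMap_apply]
  apply hinj
  show a ^ t • g r = a ^ t • ((r : R) • m)
  rw [smul_comm (a ^ t) (r : R) m, hm, ← map_smul, ← map_smul]
  congr 1
  apply Subtype.ext
  simp [mul_comm]

end principal0

section principal

variable [IsNoetherianRing R] (a : R) {M : Type u} [AddCommGroup M] [Module R M]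

theorem ker_mkLinearMap_le :
    LinearMap.ker (LocalizedModule.mkLinearMap (Submonoid.powers a) M) ≤
      DRing.torsionSub (Ideal.span {a}) M := by
  intro m hm
  rw [LinearMap.mem_ker] at hm
  obtain ⟨⟨s, hs0⟩, hs⟩ :=
    (IsLocalizedModule.eq_zero_iff (Submonoid.powers a)
      (LocalizedModule.mkLinearMap (Submonoid.powers a) M)).mp hm
  obtain ⟨j, hj⟩ := (Submonoid.mem_powers_iff s a).mp hs0
  refine ⟨j, fun r hr => ?_⟩
  rw [Ideal.span_singleton_pow, Ideal.mem_span_singleton'] at hr
  obtain ⟨c, rfl⟩ := hr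
  have hs' : s • m = 0 := hs
  rw [mul_smul, hj, hs', smul_zero]

theorem isPowerTorsion_coker_mkLinearMap :
    IsPowerTorsion (Ideal.span {a})
      (LocalizedModule (Submonoid.powers a) M ⧸
        LinearMap.range (LocalizedModule.mkLinearMap (Submonoid.powers a) M)) := by
  intro q
  obtain ⟨x, rfl⟩ := Submodule.Quotient.mk_surjective _ q
  induction x using LocalizedModule.induction_on with
  | h m s =>
    obtain ⟨s, hs⟩ := s
    obtain ⟨t, ht⟩ := (Submonoid.mem_powers_iff s a).mp hs
    refine ⟨t, fun r hr => ?_⟩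
    rw [Ideal.span_singleton_pow, Ideal.mem_span_singleton'] at hr
    obtain ⟨c, rfl⟩ := hr
    rw [← Submodule.Quotient.mk_smul, Submodule.Quotient.mk_eq_zero]
    refine ⟨c • m, ?_⟩
    have h1 : s • LocalizedModule.mk m (⟨s, hs⟩ : Submonoid.powers a) =
        LocalizedModule.mk m 1 := by
      rw [LocalizedModule.smul'_mk]
      exact LocalizedModule.mk_cancel (⟨s, hs⟩ : Submonoid.powers a) m
    rw [LocalizedModule.mkLinearMap_apply, ht, mul_smul, h1, LocalizedModule.smul'_mk]

theorem toDT_localized_bijective :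
    Function.Bijective
      (toDT (Ideal.span {a}) (LocalizedModule (Submonoid.powers a) M)) := by
  have hinj : ∀ t : ℕ, Function.Injective
      fun x : LocalizedModule (Submonoid.powers a) M => a ^ t • x := fun t =>
    IsLocalizedModule.smul_injective (LocalizedModule.mkLinearMap (Submonoid.powers a) M)
      (⟨a ^ t, t, rfl⟩ : Submonoid.powers a)
  have hsurj : ∀ t : ℕ, Function.Surjective
      fun x : LocalizedModule (Submonoid.powers a) M => a ^ t • x := fun t =>
    ((Module.End.isUnit_iff _).mp (IsLocalizedModule.map_units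
      (LocalizedModule.mkLinearMap (Submonoid.powers a) M)
      (⟨a ^ t, t, rfl⟩ : Submonoid.powers a))).surjective
  constructor
  · rw [injective_iff_map_eq_zero]
    intro x hx
    obtain ⟨n, hn⟩ := (mem_ker_toDT_iff _ x).mp hx
    apply hinj n
    show a ^ n • x = a ^ n • 0
    rw [smul_zero]
    exact hn _ (Ideal.pow_mem_pow (Ideal.mem_span_singleton_self a) n)
  · intro z
    obtain ⟨t, g, rfl⟩ := exists_cls _ z
    obtain ⟨m, hm⟩ := hsurj t
      (g ⟨a ^ t, Ideal.pow_mem_pow (Ideal.mem_span_singleton_self a) t⟩)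
    exact ⟨m, (cls_eq_toDT_of_smul_eq a t (hinj t) g m hm).symm⟩

/-- The isomorphism `D_{(a)}(M) ≃ M_a`. -/
noncomputable def omega :
    DT (Ideal.span {a}) M ≃ₗ[R] LocalizedModule (Submonoid.powers a) M :=
  (LinearEquiv.ofBijective _ (map_bijective (Ideal.span {a})
    (LocalizedModule.mkLinearMap (Submonoid.powers a) M) (ker_mkLinearMap_le a)
    (isPowerTorsion_coker_mkLinearMap a))).trans
  (LinearEquiv.ofBijective _ (toDT_localized_bijective a (M := M))).symm

theorem omega_cls (t : ℕ) (f : ↥((Ideal.span {a}) ^ t) →ₗ[R] M) :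
    omega a (cls (Ideal.span {a}) t f) =
      LocalizedModule.mk (f ⟨a ^ t, Ideal.pow_mem_pow (Ideal.mem_span_singleton_self a) t⟩)
        (⟨a ^ t, pow_mem (Submonoid.mem_powers a) t⟩ : Submonoid.powers a) := by
  simp only [omega, LinearEquiv.trans_apply, LinearEquiv.ofBijective_apply]
  rw [LinearEquiv.symm_apply_eq, LinearEquiv.ofBijective_apply, map_cls]
  apply cls_eq_toDT_of_smul_eq a t
  · exact IsLocalizedModule.smul_injective (LocalizedModule.mkLinearMap (Submonoid.powers a) M)
      (⟨a ^ t, t, rfl⟩ : Submonoid.powers a)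
  · rw [LocalizedModule.smul'_mk, LinearMap.comp_apply, LocalizedModule.mkLinearMap_apply]
    exact LocalizedModule.mk_cancel (⟨a ^ t, pow_mem (Submonoid.mem_powers a) t⟩ :
      Submonoid.powers a) _

theorem omega_comp_toDT :
    (omega a).toLinearMap ∘ₗ toDT (Ideal.span {a}) M =
      LocalizedModule.mkLinearMap (Submonoid.powers a) M := by
  ext m
  simp only [omega, LinearMap.comp_apply, LinearEquiv.coe_coe, LinearEquiv.trans_apply,
    LinearEquiv.ofBijective_apply]
  rw [LinearEquiv.symm_apply_eq, LinearEquiv.ofBijective_apply, map_toDT]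

end principal

section compare

variable {M : Type u} [AddCommGroup M] [Module R M]

theorem DTmapOfLE_cls {I J : Ideal R} (h : I ≤ J) (n : ℕ) (f : ↥(J ^ n) →ₗ[R] M) :
    ((DTmapOfLE h).app (ModuleCat.of R M)).hom (cls J n f) =
      cls I n (f ∘ₗ Submodule.inclusion (Ideal.pow_right_mono h n)) := by
  have h1 := ι_colimMap (Functor.whiskerRight
    (NatTrans.op (Functor.whiskerRight (powLE h) idealModFunctor))
    (linearCoyoneda R (ModuleCat.{u} R))) (op (op n))
  have h2 := NatTrans.congr_app h1 (ModuleCat.of R M)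
  have h3 := LinearMap.congr_fun (congrArg ModuleCat.Hom.hom h2) (toObj J n f)
  rw [NatTrans.comp_app, NatTrans.comp_app, ModuleCat.hom_comp, ModuleCat.hom_comp,
    LinearMap.comp_apply, LinearMap.comp_apply] at h3
  exact h3

/-- If `N` has no `J`-torsion and `η_N : N → D_J(N)` is surjective then
`D_I(N) → D_{IJ}(N)` is bijective. -/
theorem DTmapOfLE_mul_bijective (I J : Ideal R) {N : Type u} [AddCommGroup N] [Module R N]
    (htor : DRing.torsionSub J N = ⊥) (hη : Function.Surjective (toDT J N)) :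
    Function.Bijective
      ((DTmapOfLE (Ideal.mul_le_left : I * J ≤ I)).app (ModuleCat.of R N)).hom := by
  have hηinj : Function.Injective (toDT J N) := by
    rw [injective_iff_map_eq_zero]
    intro x hx
    have := (mem_ker_toDT_iff J x).mp hx
    rw [htor] at this
    exact (Submodule.mem_bot R).mp this
  constructor
  · rw [injective_iff_map_eq_zero]
    intro x hx
    obtain ⟨n, f, rfl⟩ := exists_cls I x
    rw [DTmapOfLE_cls, cls_eq_zero_iff] at hx
    obtain ⟨k, hk, hres⟩ := hx
    rw [cls_eq_zero_iff]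
    refine ⟨k, hk, ?_⟩
    ext r
    rw [LinearMap.zero_apply]
    have hmem : res I hk f r ∈ DRing.torsionSub J N := by
      refine ⟨k, fun s hs => ?_⟩
      have hsr : s * (r : R) ∈ (I * J) ^ k := by
        have : (r : R) * s ∈ I ^ k * J ^ k := Ideal.mul_mem_mul r.2 hs
        rw [mul_pow, mul_comm s (r : R)]
        exact this
      have h1 := LinearMap.congr_fun hres ⟨s * (r : R), hsr⟩
      rw [LinearMap.zero_apply] at h1
      rw [← map_smul]
      rw [← h1]
      rfl
    rw [htor] at hmem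
    exact (Submodule.mem_bot R).mp hmem
  · intro y
    obtain ⟨n, g, rfl⟩ := exists_cls (I * J) y
    -- the bilinear map
    have hmem : ∀ (r : ↥(I ^ n)) (s : ↥(J ^ n)), (r : R) * (s : R) ∈ (I * J) ^ n := by
      intro r s
      rw [mul_pow]
      exact Ideal.mul_mem_mul r.2 s.2
    let H : ↥(I ^ n) →ₗ[R] ↥(J ^ n) →ₗ[R] N := LinearMap.mk₂ R
      (fun r s => g ⟨(r : R) * (s : R), hmem r s⟩)
      (fun r r' s => by
        rw [← map_add]; congr 1; apply Subtype.ext; simp [add_mul])
      (fun c r s => by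
        rw [← map_smul]; congr 1; apply Subtype.ext; simp [mul_assoc])
      (fun r s s' => by
        rw [← map_add]; congr 1; apply Subtype.ext; simp [mul_add])
      (fun c r s => by
        rw [← map_smul]; congr 1; apply Subtype.ext; simp [mul_left_comm])
    let ηe := LinearEquiv.ofBijective (toDT J N) ⟨hηinj, hη⟩
    let f : ↥(I ^ n) →ₗ[R] N := ηe.symm.toLinearMap ∘ₗ cls J n ∘ₗ H
    have hf : ∀ (r : ↥(I ^ n)) (s : ↥(J ^ n)), (s : R) • f r = g ⟨(r : R) * (s : R), hmem r s⟩ := by
      intro r s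
      apply hηinj
      rw [map_smul]
      have h1 : toDT J N (f r) = cls J n (H r) := by
        simp only [f, LinearMap.comp_apply, LinearEquiv.coe_coe]
        exact ηe.apply_symm_apply _
      rw [h1, smul_cls J n (H r) s.1 s.2]
      rfl
    refine ⟨cls I n f, ?_⟩
    rw [DTmapOfLE_cls]
    congr 1
    ext x
    obtain ⟨x, hx⟩ := x
    have hx' : x ∈ I ^ n * J ^ n := by rwa [← mul_pow]
    have key : ∀ x ∈ I ^ n * J ^ n, ∀ (h1 : x ∈ I ^ n) (h2 : x ∈ (I * J) ^ n),
        f ⟨x, h1⟩ = g ⟨x, h2⟩ := by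
      intro x hx
      induction hx using Submodule.mul_induction_on' with
      | mem_mul_mem r hr s hs =>
        intro h1 h2
        have : (⟨r * s, h1⟩ : ↥(I ^ n)) = s • ⟨r, hr⟩ :=
          Subtype.ext (by simp [mul_comm])
        rw [this, map_smul]
        exact hf ⟨r, hr⟩ ⟨s, hs⟩
      | add x hx y hy ihx ihy =>
        intro h1 h2
        have hx1 : x ∈ I ^ n := Ideal.mul_le_left hx
        have hy1 : y ∈ I ^ n := Ideal.mul_le_left hy
        have hx2 : x ∈ (I * J) ^ n := by rw [mul_pow]; exact hx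
        have hy2 : y ∈ (I * J) ^ n := by rw [mul_pow]; exact hy
        have e1 : (⟨x + y, h1⟩ : ↥(I ^ n)) = ⟨x, hx1⟩ + ⟨y, hy1⟩ := Subtype.ext rfl
        have e2 : (⟨x + y, h2⟩ : ↥((I * J) ^ n)) = ⟨x, hx2⟩ + ⟨y, hy2⟩ := Subtype.ext rfl
        rw [e1, e2, map_add, map_add, ihx hx1 hx2, ihy hy1 hy2]
    exact key x hx' _ hx

theorem DTmapOfLE_mul_app_DT_bijective [IsNoetherianRing R] (I J : Ideal R) :
    Function.Bijective
      ((DTmapOfLE (Ideal.mul_le_left : I * J ≤ I)).app (ModuleCat.of R (DT J M))).hom :=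
  DTmapOfLE_mul_bijective I J (torsionSub_DT_eq_bot J) (toDT_DT_bijective J).surjective

end compare

end Groth.Agent.Lib.DT2_helper3
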