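import Mathlib
import Groth.Prelude.Def_CAlg
import Groth.Agent.S5150

/-!
# Depth via Ext (helper5)

Library relating `LocCoh.idealDepth` (regular-sequence depth) to vanishing of `Ext(A/I, -)`
using Mathlib's Rees theorem, plus consequences (short exact sequences, regular quotient).
-/

set_option autoImplicit false
universe u
open CategoryTheory

namespace Groth.Agent.DepthLib

open RingTheory.Sequence

section ExtLES

variable {A : Type u} [CommRing A]

/-- short exact sequence in `ModuleCat` from linear maps -/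
noncomputable def shortComplexOf {N' N N'' : Type u} [AddCommGroup N'] [Module A N'] [AddCommGroup N]
    [Module A N] [AddCommGroup N''] [Module A N''] (f : N' →ₗ[A] N) (g : N →ₗ[A] N'')
    (hfg : Function.Exact f g) : ShortComplex (ModuleCat.{u} A) :=
  ShortComplex.mk (ModuleCat.ofHom f) (ModuleCat.ofHom g) (by
    ext x
    exact hfg.apply_apply_eq_zero x)

theorem shortComplexOf_shortExact {N' N N'' : Type u} [AddCommGroup N'] [Module A N']
    [AddCommGroup N] [Module A N] [AddCommGroup N''] [Module A N''] (f : N' →ₗ[A] N)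
    (g : N →ₗ[A] N'') (hf : Function.Injective f) (hg : Function.Surjective g)
    (hfg : Function.Exact f g) : (shortComplexOf f g hfg).ShortExact := by
  have hexact : (shortComplexOf f g hfg).Exact := by
    rw [ShortComplex.ShortExact.moduleCat_exact_iff_function_exact]
    exact hfg
  haveI : Mono (shortComplexOf f g hfg).f := (ModuleCat.mono_iff_injective _).2 hf
  haveI : Epi (shortComplexOf f g hfg).g := (ModuleCat.epi_iff_surjective _).2 hg
  exact ShortComplex.ShortExact.mk hexact

variable {S : ShortComplex (ModuleCat.{u} A)} (hS : S.ShortExact) (X : ModuleCat.{u} A)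

include hS in
theorem ext_sub_mid (n : ℕ) (h1 : Subsingleton (Abelian.Ext X S.X₁ n))
    (h3 : Subsingleton (Abelian.Ext X S.X₃ n)) : Subsingleton (Abelian.Ext X S.X₂ n) := by
  refine ⟨fun x y => ?_⟩
  have key : ∀ x : Abelian.Ext X S.X₂ n, x = 0 := by
    intro x
    obtain ⟨x₁, hx₁⟩ := Abelian.Ext.covariant_sequence_exact₂ X hS x (Subsingleton.elim _ _)
    rw [← hx₁, Subsingleton.elim x₁ 0, Abelian.Ext.zero_comp]
  rw [key x, key y]

include hS in
theorem ext_sub_right (n : ℕ) (h2 : Subsingleton (Abelian.Ext X S.X₂ n))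
    (h1 : Subsingleton (Abelian.Ext X S.X₁ (n + 1))) : Subsingleton (Abelian.Ext X S.X₃ n) := by
  refine ⟨fun x y => ?_⟩
  have key : ∀ x : Abelian.Ext X S.X₃ n, x = 0 := by
    intro x
    obtain ⟨x₂, hx₂⟩ := Abelian.Ext.covariant_sequence_exact₃ X hS x rfl (Subsingleton.elim _ _)
    rw [← hx₂, Subsingleton.elim x₂ 0, Abelian.Ext.zero_comp]
  rw [key x, key y]

include hS in
theorem ext_sub_left_succ (n : ℕ) (h2 : Subsingleton (Abelian.Ext X S.X₂ (n + 1)))
    (h3 : Subsingleton (Abelian.Ext X S.X₃ n)) : Subsingleton (Abelian.Ext X S.X₁ (n + 1)) := by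
  refine ⟨fun x y => ?_⟩
  have key : ∀ x : Abelian.Ext X S.X₁ (n + 1), x = 0 := by
    intro x
    obtain ⟨x₃, hx₃⟩ := Abelian.Ext.covariant_sequence_exact₁ X hS x (Subsingleton.elim _ _) rfl
    rw [← hx₃, Subsingleton.elim x₃ 0, Abelian.Ext.zero_comp]
  rw [key x, key y]

include hS in
theorem ext_sub_left_zero (h2 : Subsingleton (Abelian.Ext X S.X₂ 0)) :
    Subsingleton (Abelian.Ext X S.X₁ 0) := by
  haveI := hS.mono_f
  have hinj := Abelian.Ext.postcomp_mk₀_injective_of_mono X S.f
  exact hinj.subsingleton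

end ExtLES

section Depth

variable {A : Type u} [CommRing A]

theorem ext_smul_eq_zero_of_src {N M : ModuleCat.{u} A} (a : A) (ha : ∀ x : N, a • x = 0) (n : ℕ)
    (x : Abelian.Ext N M n) : a • x = 0 := by
  have h0 : a • 𝟙 N = 0 := by
    ext y
    exact ha y
  have h1 : x = (Abelian.Ext.mk₀ (𝟙 N)).comp x (zero_add n) := by simp
  rw [h1, ← Abelian.Ext.smul_comp, ← Abelian.Ext.mk₀_smul, h0]
  simp

theorem ext_smul_eq_self_of_tgt {N M : ModuleCat.{u} A} (a : A) (ha : ∀ m : M, a • m = m) (n : ℕ)
    (x : Abelian.Ext N M n) : a • x = x := by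
  have h0 : a • 𝟙 M = 𝟙 M := by
    ext y
    exact ha y
  rw [Abelian.Ext.smul_eq_comp_mk₀, h0]
  simp

variable (I : Ideal A) (M : Type u) [AddCommGroup M] [Module A M]

/-- If `IM = M` for a finite module `M` then `Ext^n(A/I, M) = 0` for all `n`. -/
theorem ext_subsingleton_of_smul_top_eq_top [Module.Finite A M]
    (h : I • (⊤ : Submodule A M) = ⊤) (n : ℕ) :
    Subsingleton (Abelian.Ext (ModuleCat.of A (A ⧸ I)) (ModuleCat.of A M) n) := by
  obtain ⟨r, hr, hrM⟩ := Submodule.exists_sub_one_mem_and_smul_eq_zero_of_fg_of_le_smul I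
    (⊤ : Submodule A M) Module.Finite.fg_top (by rw [h])
  set a := 1 - r with ha
  have haI : a ∈ I := by
    have : a = -(r - 1) := by rw [ha]; ring
    rw [this]
    exact neg_mem hr
  have h1 : ∀ m : (ModuleCat.of A M), a • m = m := by
    intro m
    change a • (m : M) = m
    rw [ha, sub_smul, one_smul, hrM m Submodule.mem_top, sub_zero]
  have h2 : ∀ x : (ModuleCat.of A (A ⧸ I)), a • x = 0 := by
    intro x
    change a • (x : A ⧸ I) = 0
    obtain ⟨y, rfl⟩ := Ideal.Quotient.mk_surjective x
    rw [← Ideal.Quotient.mk_eq_mk, ← Submodule.Quotient.mk_smul, Submodule.Quotient.mk_eq_zero]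
    exact I.mul_mem_right y haI
  refine ⟨fun x y => ?_⟩
  rw [← ext_smul_eq_self_of_tgt a h1 n x, ← ext_smul_eq_self_of_tgt a h1 n y,
    ext_smul_eq_zero_of_src a h2, ext_smul_eq_zero_of_src a h2]

/-- unfolding `idealDepth` against a natural number -/
theorem le_idealDepth_iff (n : ℕ) :
    (n : ℕ∞) ≤ LocCoh.idealDepth I M ↔ I • (⊤ : Submodule A M) = ⊤ ∨
      ∃ rs : List A, IsWeaklyRegular M rs ∧ (∀ r ∈ rs, r ∈ I) ∧ rs.length = n := by
  unfold LocCoh.idealDepth
  split_ifs with h
  · simp [h]
  · simp only [h, false_or]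
    constructor
    · intro hle
      -- there is a sequence of length ≥ n
      have hex : ∃ rs : List A, IsWeaklyRegular M rs ∧ (∀ r ∈ rs, r ∈ I) ∧ n ≤ rs.length := by
        by_contra hcon
        push Not at hcon
        rcases Nat.eq_zero_or_pos n with rfl | hn
        · exact absurd (Nat.zero_le _) (not_le.2 (hcon [] (IsWeaklyRegular.nil A M) (by simp)))
        · have hsup : (⨆ (rs : List A) (_ : IsWeaklyRegular M rs ∧ ∀ r ∈ rs, r ∈ I),
              (rs.length : ℕ∞)) ≤ ((n - 1 : ℕ) : ℕ∞) := by
            apply iSup₂_le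
            intro rs hrs
            have := hcon rs hrs.1 hrs.2
            exact_mod_cast Nat.le_sub_one_of_lt this
          have := hle.trans hsup
          have : n ≤ n - 1 := by exact_mod_cast this
          omega
      obtain ⟨rs, hreg, hmem, hlen⟩ := hex
      refine ⟨rs.take n, ?_, ?_, ?_⟩
      · have : rs = rs.take n ++ rs.drop n := (List.take_append_drop n rs).symm
        rw [this, isWeaklyRegular_append_iff] at hreg
        exact hreg.1
      · intro r hr
        exact hmem r (List.mem_of_mem_take hr)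
      · simp [hlen]
    · rintro ⟨rs, hreg, hmem, rfl⟩
      exact le_iSup₂_of_le rs ⟨hreg, hmem⟩ le_rfl

/-- **Ext characterisation of depth**: over a Noetherian ring, for a finite module `M`,
`n ≤ depth_I M` iff `Ext^i(A/I, M) = 0` for all `i < n`. -/
theorem le_idealDepth_iff_ext [IsNoetherianRing A] [Module.Finite A M] (n : ℕ) :
    (n : ℕ∞) ≤ LocCoh.idealDepth I M ↔
      ∀ i < n, Subsingleton (Abelian.Ext (ModuleCat.of A (A ⧸ I)) (ModuleCat.of A M) i) := by
  rw [le_idealDepth_iff]
  constructor
  · rintro (h | ⟨rs, hreg, hmem, rfl⟩)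
    · intro i _
      exact ext_subsingleton_of_smul_top_eq_top I M h i
    · intro i hi
      refine Groth.Agent.S5150.result A I M (A ⧸ I) rs hreg hmem 1 ?_ i hi
      rw [pow_one, eq_bot_iff]
      intro x hx
      refine Submodule.smul_induction_on hx ?_ ?_
      · intro r hr y _
        obtain ⟨y, rfl⟩ := Ideal.Quotient.mk_surjective y
        rw [Submodule.mem_bot, ← Ideal.Quotient.mk_eq_mk, ← Submodule.Quotient.mk_smul,
          Submodule.Quotient.mk_eq_zero]
        exact I.mul_mem_right y hr
      · intro x y hx hy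
        exact Submodule.add_mem _ hx hy
  · intro hext
    by_cases h : I • (⊤ : Submodule A M) = ⊤
    · exact Or.inl h
    · right
      have hlt : I • (⊤ : Submodule A (ModuleCat.of A M)) < ⊤ := lt_top_iff_ne_top.2 h
      have hsupp : Module.support A (ModuleCat.of A (A ⧸ I)) = PrimeSpectrum.zeroLocus I := by
        change Module.support A (A ⧸ I) = _
        rw [Module.support_eq_zeroLocus, Ideal.annihilator_quotient]
      obtain ⟨rs, hlen, hmem, hreg⟩ := ModuleCat.exists_isRegular_of_exists_subsingleton_ext I n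
        (ModuleCat.of A M) hlt (ModuleCat.of A (A ⧸ I)) hsupp hext
      exact ⟨rs, hreg.toIsWeaklyRegular, hmem, hlen⟩

/-- depth inequalities along a short exact sequence -/
theorem depth_ses [IsNoetherianRing A] (N' N N'' : Type u) [AddCommGroup N'] [Module A N']
    [Module.Finite A N'] [AddCommGroup N] [Module A N] [Module.Finite A N] [AddCommGroup N'']
    [Module A N''] [Module.Finite A N''] (f : N' →ₗ[A] N) (g : N →ₗ[A] N'')
    (hf : Function.Injective f) (hg : Function.Surjective g) (hfg : Function.Exact f g) :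
    min (LocCoh.idealDepth I N') (LocCoh.idealDepth I N'') ≤ LocCoh.idealDepth I N ∧
    min (LocCoh.idealDepth I N) (LocCoh.idealDepth I N' - 1) ≤ LocCoh.idealDepth I N'' ∧
    min (LocCoh.idealDepth I N) (LocCoh.idealDepth I N'' + 1) ≤ LocCoh.idealDepth I N' := by
  have hS := shortComplexOf_shortExact f g hf hg hfg
  set X := ModuleCat.of A (A ⧸ I) with hX
  refine ⟨?_, ?_, ?_⟩
  · rw [← ENat.forall_natCast_le_iff_le]
    intro n hn
    rw [le_min_iff, le_idealDepth_iff_ext, le_idealDepth_iff_ext] at hn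
    rw [le_idealDepth_iff_ext]
    intro i hi
    exact ext_sub_mid hS X i (hn.1 i hi) (hn.2 i hi)
  · rw [← ENat.forall_natCast_le_iff_le]
    intro n hn
    rw [le_min_iff] at hn
    obtain ⟨hn1, hn2⟩ := hn
    have hn2' : ((n + 1 : ℕ) : ℕ∞) ≤ LocCoh.idealDepth I N' ∨ n = 0 := by
      rcases Nat.eq_zero_or_pos n with rfl | hpos
      · exact Or.inr rfl
      · left
        have h1 : (1 : ℕ∞) ≤ LocCoh.idealDepth I N' := by
          by_contra hlt
          push Not at hlt
          have h0 : LocCoh.idealDepth I N' = 0 := ENat.lt_one_iff_eq_zero.1 hlt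
          rw [h0, zero_tsub] at hn2
          have : n ≤ 0 := by exact_mod_cast hn2
          omega
        have := add_le_add_left hn2 1
        rw [tsub_add_cancel_of_le h1] at this
        exact_mod_cast this
    rw [le_idealDepth_iff_ext] at hn1 ⊢
    rcases hn2' with hn2' | rfl
    · rw [le_idealDepth_iff_ext] at hn2'
      intro i hi
      exact ext_sub_right hS X i (hn1 i hi) (hn2' (i + 1) (by omega))
    · intro i hi
      omega
  · rw [← ENat.forall_natCast_le_iff_le]
    intro n hn
    rw [le_min_iff] at hn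
    obtain ⟨hn1, hn2⟩ := hn
    rw [le_idealDepth_iff_ext] at hn1 ⊢
    intro i hi
    rcases Nat.eq_zero_or_pos i with rfl | hpos
    · exact ext_sub_left_zero hS X (hn1 0 hi)
    · obtain ⟨j, rfl⟩ : ∃ j, i = j + 1 := ⟨i - 1, by omega⟩
      have hj : ((n - 1 : ℕ) : ℕ∞) ≤ LocCoh.idealDepth I N'' := by
        have h1 : ((n - 1 : ℕ) : ℕ∞) + 1 ≤ LocCoh.idealDepth I N'' + 1 := by
          have : ((n - 1 : ℕ) : ℕ∞) + 1 = (n : ℕ∞) := by
            have : n - 1 + 1 = n := by omega
            exact_mod_cast this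
          rw [this]
          exact hn2
        exact (ENat.add_le_add_iff_right ENat.one_ne_top).1 h1
      rw [le_idealDepth_iff_ext] at hj
      exact ext_sub_left_succ hS X j (hn1 (j + 1) hi) (hj j (by omega))

/-- an element of `I` acts by zero on `Ext(A/I, -)` -/
theorem ext_quot_smul_eq_zero {x : A} (hx : x ∈ I) {Y : ModuleCat.{u} A} (n : ℕ)
    (z : Abelian.Ext (ModuleCat.of A (A ⧸ I)) Y n) : x • z = 0 := by
  apply ext_smul_eq_zero_of_src
  intro y
  change x • (y : A ⧸ I) = 0
  obtain ⟨y, rfl⟩ := Ideal.Quotient.mk_surjective y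
  rw [← Ideal.Quotient.mk_eq_mk, ← Submodule.Quotient.mk_smul, Submodule.Quotient.mk_eq_zero]
  exact I.mul_mem_right y hx

/-- depth drops by exactly one modulo a regular element of `I` (natural number form) -/
theorem le_idealDepth_quotSMulTop_iff [IsNoetherianRing A] [Module.Finite A M] {x : A}
    (hx : x ∈ I) (hreg : IsSMulRegular M x) (n : ℕ) :
    (n : ℕ∞) ≤ LocCoh.idealDepth I (QuotSMulTop x M) ↔
      ((n + 1 : ℕ) : ℕ∞) ≤ LocCoh.idealDepth I M := by
  have hS := hreg.smulShortComplex_shortExact (M := ModuleCat.of A M)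
  set X := ModuleCat.of A (A ⧸ I) with hX
  have hzero : ∀ (i : ℕ) (z : Abelian.Ext X (ModuleCat.of A M) i),
      z.comp (Abelian.Ext.mk₀ (ModuleCat.smulShortComplex (ModuleCat.of A M) x).f) (add_zero i)
        = 0 := by
    intro i z
    have h1 := ext_quot_smul_eq_zero I hx i z
    rw [Abelian.Ext.smul_eq_comp_mk₀] at h1
    exact h1
  rw [le_idealDepth_iff_ext, le_idealDepth_iff_ext]
  constructor
  · intro h i hi
    refine ⟨fun z w => ?_⟩
    have key : ∀ z : Abelian.Ext X (ModuleCat.of A M) i, z = 0 := by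
      intro z
      rcases Nat.eq_zero_or_pos i with rfl | hpos
      · haveI := hS.mono_f
        have hinj := Abelian.Ext.postcomp_mk₀_injective_of_mono X
          (ModuleCat.smulShortComplex (ModuleCat.of A M) x).f
        apply hinj
        refine Eq.trans ?_ (AddMonoidHom.map_zero _).symm
        exact hzero 0 z
      · obtain ⟨z₃, hz₃⟩ := Abelian.Ext.covariant_sequence_exact₁ X hS z (hzero i z)
          (show (i - 1) + 1 = i by omega)
        haveI : Subsingleton (Abelian.Ext X
            (ModuleCat.smulShortComplex (ModuleCat.of A M) x).X₃ (i - 1)) := h (i - 1) (by omega)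
        rw [← hz₃, Subsingleton.elim z₃ 0]
        exact Abelian.Ext.zero_comp _ _ hS.extClass _ _
    rw [key z, key w]
  · intro h i hi
    exact ext_sub_right hS X i (h i (by omega)) (h (i + 1) (by omega))

/-- depth drops by exactly one modulo a regular element of `I` -/
theorem idealDepth_quotSMulTop_add_one [IsNoetherianRing A] [Module.Finite A M] {x : A}
    (hx : x ∈ I) (hreg : IsSMulRegular M x) :
    LocCoh.idealDepth I (QuotSMulTop x M) + 1 = LocCoh.idealDepth I M := by
  have key := le_idealDepth_quotSMulTop_iff I M hx hreg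
  apply le_antisymm
  · rw [← ENat.forall_natCast_le_iff_le]
    intro n hn
    rcases Nat.eq_zero_or_pos n with rfl | hpos
    · simp
    · obtain ⟨k, rfl⟩ : ∃ k, n = k + 1 := ⟨n - 1, by omega⟩
      rw [← key]
      have : ((k + 1 : ℕ) : ℕ∞) = (k : ℕ∞) + 1 := by push_cast; rfl
      rw [this] at hn
      exact (ENat.add_le_add_iff_right ENat.one_ne_top).1 hn
  · rw [← ENat.forall_natCast_le_iff_le]
    intro n hn
    rcases Nat.eq_zero_or_pos n with rfl | hpos
    · simp
    · obtain ⟨k, rfl⟩ : ∃ k, n = k + 1 := ⟨n - 1, by omega⟩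
      rw [← key] at hn
      have : ((k + 1 : ℕ) : ℕ∞) = (k : ℕ∞) + 1 := by push_cast; rfl
      rw [this]
      exact add_le_add_left hn 1

/-- depth drops by exactly one along `0 → M --x--> M → Q → 0` with `x ∈ I` (general form) -/
theorem le_idealDepth_iff_of_smul_ses [IsNoetherianRing A] [Module.Finite A M] (Q : Type u)
    [AddCommGroup Q] [Module A Q] [Module.Finite A Q] {x : A}
    (hx : x ∈ I) (hreg : IsSMulRegular M x) (g : M →ₗ[A] Q) (hg : Function.Surjective g)
    (hex : Function.Exact (x • LinearMap.id : M →ₗ[A] M) g) (n : ℕ) :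
    (n : ℕ∞) ≤ LocCoh.idealDepth I Q ↔ ((n + 1 : ℕ) : ℕ∞) ≤ LocCoh.idealDepth I M := by
  have hinj : Function.Injective (x • LinearMap.id : M →ₗ[A] M) := by
    intro a b hab
    exact hreg hab
  have hS := shortComplexOf_shortExact (x • LinearMap.id : M →ₗ[A] M) g hinj hg hex
  set S := shortComplexOf (x • LinearMap.id : M →ₗ[A] M) g hex with hSdef
  set X := ModuleCat.of A (A ⧸ I) with hX
  have hf : S.f = x • 𝟙 (ModuleCat.of A M) := by
    ext y
    rfl
  have hzero : ∀ (i : ℕ) (z : Abelian.Ext X (ModuleCat.of A M) i),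
      z.comp (Abelian.Ext.mk₀ S.f) (add_zero i) = 0 := by
    intro i z
    have h1 := ext_quot_smul_eq_zero I hx i z
    rw [Abelian.Ext.smul_eq_comp_mk₀] at h1
    rw [hf]
    exact h1
  rw [le_idealDepth_iff_ext, le_idealDepth_iff_ext]
  constructor
  · intro h i hi
    refine ⟨fun z w => ?_⟩
    have key : ∀ z : Abelian.Ext X (ModuleCat.of A M) i, z = 0 := by
      intro z
      rcases Nat.eq_zero_or_pos i with rfl | hpos
      · haveI := hS.mono_f
        have hinj := Abelian.Ext.postcomp_mk₀_injective_of_mono X S.f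
        apply hinj
        refine Eq.trans ?_ (AddMonoidHom.map_zero _).symm
        exact hzero 0 z
      · obtain ⟨z₃, hz₃⟩ := Abelian.Ext.covariant_sequence_exact₁ X hS z (hzero i z)
          (show (i - 1) + 1 = i by omega)
        haveI : Subsingleton (Abelian.Ext X S.X₃ (i - 1)) := h (i - 1) (by omega)
        rw [← hz₃, Subsingleton.elim z₃ 0]
        exact Abelian.Ext.zero_comp _ _ hS.extClass _ _
    rw [key z, key w]
  · intro h i hi
    exact ext_sub_right hS X i (h i (by omega)) (h (i + 1) (by omega))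

/-- depth ≥ 1 passes to submodules (more generally along injective maps) -/
theorem one_le_idealDepth_of_injective [IsNoetherianRing A] (N' N : Type u) [AddCommGroup N']
    [Module A N'] [Module.Finite A N'] [AddCommGroup N] [Module A N] [Module.Finite A N]
    (f : N' →ₗ[A] N) (hf : Function.Injective f) (h : 1 ≤ LocCoh.idealDepth I N) :
    1 ≤ LocCoh.idealDepth I N' := by
  have h' : ((1 : ℕ) : ℕ∞) ≤ LocCoh.idealDepth I N := by exact_mod_cast h
  have goal : ((1 : ℕ) : ℕ∞) ≤ LocCoh.idealDepth I N' := by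
    rw [le_idealDepth_iff_ext] at h' ⊢
    intro i hi
    obtain rfl : i = 0 := by omega
    haveI : Mono (ModuleCat.ofHom f) := (ModuleCat.mono_iff_injective _).2 hf
    have hinj := Abelian.Ext.postcomp_mk₀_injective_of_mono (ModuleCat.of A (A ⧸ I))
      (ModuleCat.ofHom f)
    haveI := h' 0 hi
    exact hinj.subsingleton
  exact_mod_cast goal

/-- depth of a kernel -/
theorem idealDepth_ker [IsNoetherianRing A] (E0 E1 : Type u) [AddCommGroup E0] [Module A E0]
    [Module.Finite A E0] [AddCommGroup E1] [Module A E1] [Module.Finite A E1] (u : E0 →ₗ[A] E1) :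
    (1 ≤ LocCoh.idealDepth I E0 → 1 ≤ LocCoh.idealDepth I (LinearMap.ker u)) ∧
    (2 ≤ LocCoh.idealDepth I E0 → 1 ≤ LocCoh.idealDepth I E1 →
      2 ≤ LocCoh.idealDepth I (LinearMap.ker u)) := by
  haveI : IsNoetherian A E0 := isNoetherian_of_isNoetherianRing_of_finite A E0
  haveI : IsNoetherian A E1 := isNoetherian_of_isNoetherianRing_of_finite A E1
  refine ⟨?_, ?_⟩
  · intro h
    exact one_le_idealDepth_of_injective I _ _ (LinearMap.ker u).subtype
      (Submodule.injective_subtype _) h
  · intro h2 h1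
    have hR : 1 ≤ LocCoh.idealDepth I (LinearMap.range u) :=
      one_le_idealDepth_of_injective I _ _ (LinearMap.range u).subtype
        (Submodule.injective_subtype _) h1
    have hses := (depth_ses I (LinearMap.ker u) E0 (LinearMap.range u) (LinearMap.ker u).subtype
      u.rangeRestrict (Submodule.injective_subtype _) u.surjective_rangeRestrict
      (by
        intro x
        constructor
        · intro hx
          refine ⟨⟨x, ?_⟩, rfl⟩
          have := congrArg Subtype.val hx
          simpa using this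
        · rintro ⟨y, rfl⟩
          apply Subtype.ext
          simp)).2.2
    refine le_trans ?_ hses
    rw [le_min_iff]
    refine ⟨h2, ?_⟩
    have : (1 : ℕ∞) + 1 ≤ LocCoh.idealDepth I (LinearMap.range u) + 1 := add_le_add_left hR 1
    have h11 : (1 : ℕ∞) + 1 = 2 := by norm_num
    rw [h11] at this
    exact this

/-- depth is invariant under linear equivalence -/
theorem idealDepth_congr {N : Type u} [AddCommGroup N] [Module A N] (e : M ≃ₗ[A] N) :
    LocCoh.idealDepth I M = LocCoh.idealDepth I N := by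
  have htop : I • (⊤ : Submodule A M) = ⊤ ↔ I • (⊤ : Submodule A N) = ⊤ := by
    have h1 : Submodule.map (e : M →ₗ[A] N) (I • (⊤ : Submodule A M)) = I • (⊤ : Submodule A N) := by
      rw [Submodule.map_smul'', Submodule.map_top, LinearMap.range_eq_top.2 e.surjective]
    constructor
    · intro h
      rw [← h1, h, Submodule.map_top, LinearMap.range_eq_top.2 e.surjective]
    · intro h
      rw [← h1] at h
      have := congrArg (Submodule.comap (e : M →ₗ[A] N)) h
      rw [Submodule.comap_map_eq_of_injective e.injective, Submodule.comap_top] at this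
      exact this
  apply le_antisymm
  · rw [← ENat.forall_natCast_le_iff_le]
    intro n hn
    rw [le_idealDepth_iff] at hn ⊢
    rcases hn with h | ⟨rs, h1, h2, h3⟩
    · exact Or.inl (htop.1 h)
    · exact Or.inr ⟨rs, (e.isWeaklyRegular_congr rs).1 h1, h2, h3⟩
  · rw [← ENat.forall_natCast_le_iff_le]
    intro n hn
    rw [le_idealDepth_iff] at hn ⊢
    rcases hn with h | ⟨rs, h1, h2, h3⟩
    · exact Or.inl (htop.2 h)
    · exact Or.inr ⟨rs, (e.isWeaklyRegular_congr rs).2 h1, h2, h3⟩

/-- `1 ≤ depth_I M` iff `IM = M` or `I` contains an `M`-regular element -/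
theorem one_le_idealDepth_iff :
    1 ≤ LocCoh.idealDepth I M ↔ I • (⊤ : Submodule A M) = ⊤ ∨ ∃ x ∈ I, IsSMulRegular M x := by
  have : (1 : ℕ∞) = ((1 : ℕ) : ℕ∞) := by norm_num
  rw [this, le_idealDepth_iff]
  constructor
  · rintro (h | ⟨rs, h1, h2, h3⟩)
    · exact Or.inl h
    · right
      match rs, h3 with
      | [x], _ =>
        rw [isWeaklyRegular_cons_iff] at h1
        exact ⟨x, h2 x (by simp), h1.1⟩
  · rintro (h | ⟨x, hx, hreg⟩)
    · exact Or.inl h
    · right
      refine ⟨[x], ?_, ?_, rfl⟩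
      · rw [isWeaklyRegular_cons_iff]
        exact ⟨hreg, IsWeaklyRegular.nil A _⟩
      · intro r hr
        rw [List.mem_singleton] at hr
        rw [hr]
        exact hx

/-- if `I` is contained in an associated prime of `M`, the depth is zero -/
theorem not_one_le_idealDepth_of_le_associatedPrime [IsNoetherianRing A] [Module.Finite A M]
    (q : Ideal A) (hq : q ∈ associatedPrimes A M) (hIq : I ≤ q) :
    ¬ 1 ≤ LocCoh.idealDepth I M := by
  rw [one_le_idealDepth_iff]
  obtain ⟨hqprime, m₀, hm₀⟩ := isAssociatedPrime_iff.1 hq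
  have hm₀ne : m₀ ≠ 0 := by
    rintro rfl
    apply hqprime.ne_top
    rw [hm₀, Ideal.eq_top_iff_one, Submodule.mem_colon_singleton]
    simp
  have hmem : ∀ a, a ∈ q ↔ a • m₀ = 0 := by
    intro a
    rw [hm₀, Submodule.mem_colon_singleton, Submodule.mem_bot]
  rintro (h | ⟨x, hx, hreg⟩)
  · obtain ⟨r, hr, hrM⟩ := Submodule.exists_sub_one_mem_and_smul_eq_zero_of_fg_of_le_smul I
      (⊤ : Submodule A M) Module.Finite.fg_top (by rw [h])
    have h1 : r ∈ q := (hmem r).2 (hrM m₀ Submodule.mem_top)
    have h2 : r - 1 ∈ q := hIq hr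
    apply hqprime.ne_top
    rw [Ideal.eq_top_iff_one]
    have := q.sub_mem h1 h2
    simpa using this
  · have h1 : x • m₀ = 0 := (hmem x).1 (hIq hx)
    exact hm₀ne (hreg (show x • m₀ = x • 0 by rw [h1, smul_zero]))

/-- if the depth is zero, `I` lies in an associated prime (Noetherian, finite) -/
theorem exists_associatedPrime_of_not_one_le [IsNoetherianRing A] [Module.Finite A M]
    (h : ¬ 1 ≤ LocCoh.idealDepth I M) : ∃ q ∈ associatedPrimes A M, I ≤ q := by
  rw [one_le_idealDepth_iff] at h
  push Not at h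
  obtain ⟨_, hnreg⟩ := h
  have hsub : (I : Set A) ⊆ ⋃ q ∈ associatedPrimes A M, (q : Set A) := by
    intro x hx
    rw [biUnion_associatedPrimes_eq_zero_divisors]
    have := hnreg x hx
    simp only [IsSMulRegular, Function.Injective, not_forall] at this
    obtain ⟨a, b, hab, hne⟩ := this
    refine ⟨a - b, sub_ne_zero.2 hne, ?_⟩
    have hab' : x • a = x • b := hab
    rw [smul_sub, hab', sub_self]
  have hfin := associatedPrimes.finite A M
  have hsub' : (I : Set A) ⊆ ⋃ q ∈ (hfin.toFinset : Set (Ideal A)), (q : Set A) := by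
    intro x hx
    obtain ⟨q, hq, hxq⟩ := Set.mem_iUnion₂.1 (hsub hx)
    exact Set.mem_iUnion₂.2 ⟨q, by simpa using hq, hxq⟩
  rw [Ideal.subset_union_prime ⊥ ⊥] at hsub'
  · obtain ⟨q, hq, hIq⟩ := hsub'
    exact ⟨q, hfin.mem_toFinset.1 hq, hIq⟩
  · intro q hq _ _
    exact (hfin.mem_toFinset.1 hq).1

end Depth

end Groth.Agent.DepthLib
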