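import Mathlib

/-!
# Naturality of `ProjectiveResolution.isoExt` (helper7)
-/

open CategoryTheory CategoryTheory.Limits Opposite

namespace Groth.Agent.Lib.ExtCompareH7

universe u

section General

variable {V : Type*} [Category V] [Abelian V] {ι : Type*} {c : ComplexShape ι}

/-- the map of unopposed complexes -/
def unopMap {K' K : HomologicalComplex Vᵒᵖ c} (ψ : K' ⟶ K) : K.unop ⟶ K'.unop :=
  (HomologicalComplex.unopFunctor V c).map ψ.op

lemma homologyUnop_naturality {K' K : HomologicalComplex Vᵒᵖ c} (ψ : K' ⟶ K) (i : ι) :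
    (HomologicalComplex.homologyMap ψ i).unop ≫ (K'.homologyUnop i).inv =
      (K.homologyUnop i).inv ≫ HomologicalComplex.homologyMap (unopMap ψ) i := by
  have h := HomologicalComplex.homologyOp_hom_naturality (unopMap ψ) i
  have h' : (K.homologyUnop i).hom ≫ (HomologicalComplex.homologyMap ψ i).unop =
      HomologicalComplex.homologyMap (unopMap ψ) i ≫
        (K'.homologyUnop i).hom := congrArg Quiver.Hom.unop h
  rw [Iso.comp_inv_eq, Category.assoc, ← h', Iso.inv_hom_id_assoc]

end General

variable {R : Type u} [CommRing R]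

/-- the contravariant Hom functor to the opposite category -/
abbrev GG (Y : ModuleCat.{u} R) : ModuleCat.{u} R ⥤ (ModuleCat.{u} R)ᵒᵖ :=
  ((linearYoneda R (ModuleCat.{u} R)).obj Y).rightOp

/-- precomposition with a chain map, on the Hom complexes -/
noncomputable abbrev pre {X X' : ModuleCat.{u} R} {P' : ProjectiveResolution X'}
    {P : ProjectiveResolution X} (φ : P'.complex ⟶ P.complex) (Y : ModuleCat.{u} R) :
    P.complex.linearYonedaObj R Y ⟶ P'.complex.linearYonedaObj R Y :=
  unopMap (((GG Y).mapHomologicalComplex (ComplexShape.down ℕ)).map φ)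

theorem isoExt_naturality_X {X X' : ModuleCat.{u} R} (q : X' ⟶ X)
    (P' : ProjectiveResolution X') (P : ProjectiveResolution X) (φ : P'.complex ⟶ P.complex)
    (comm : φ.f 0 ≫ P.π.f 0 = P'.π.f 0 ≫ q) (n : ℕ) (Y : ModuleCat.{u} R) :
    ((Ext R (ModuleCat.{u} R) n).map q.op).app Y ≫ (P'.isoExt n Y).hom =
      (P.isoExt n Y).hom ≫ HomologicalComplex.homologyMap (pre φ Y) n := by
  have h1 := ProjectiveResolution.isoLeftDerivedObj_inv_naturality q P' P φ comm (GG Y) n
  have h2 := homologyUnop_naturality (((GG Y).mapHomologicalComplex (ComplexShape.down ℕ)).map φ) n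
  show (((GG Y).leftDerived n).map q).unop ≫ ((P'.isoLeftDerivedObj (GG Y) n).inv.unop ≫
      (HomologicalComplex.homologyUnop _ n).inv) =
    ((P.isoLeftDerivedObj (GG Y) n).inv.unop ≫ (HomologicalComplex.homologyUnop _ n).inv) ≫ _
  rw [← Category.assoc, ← unop_comp, h1, unop_comp, Category.assoc, Category.assoc]
  congr 1

/-- postcomposition with a module map, on the Hom complexes -/
noncomputable abbrev post {X : ModuleCat.{u} R} (P : ProjectiveResolution X)
    {Y Y' : ModuleCat.{u} R} (g : Y ⟶ Y') :
    P.complex.linearYonedaObj R Y ⟶ P.complex.linearYonedaObj R Y' :=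
  unopMap ((NatTrans.mapHomologicalComplex
    (NatTrans.rightOp ((linearYoneda R (ModuleCat.{u} R)).map g)) (ComplexShape.down ℕ)).app
      P.complex)

theorem isoExt_naturality_Y {X : ModuleCat.{u} R} (P : ProjectiveResolution X) (n : ℕ)
    {Y Y' : ModuleCat.{u} R} (g : Y ⟶ Y') :
    ((Ext R (ModuleCat.{u} R) n).obj (op X)).map g ≫ (P.isoExt n Y').hom =
      (P.isoExt n Y).hom ≫ HomologicalComplex.homologyMap (post P g) n := by
  have h1 := ProjectiveResolution.leftDerived_app_eq
    (NatTrans.rightOp ((linearYoneda R (ModuleCat.{u} R)).map g)) P n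
  have h2 := homologyUnop_naturality ((NatTrans.mapHomologicalComplex
    (NatTrans.rightOp ((linearYoneda R (ModuleCat.{u} R)).map g)) (ComplexShape.down ℕ)).app
      P.complex) n
  have key : (P.isoLeftDerivedObj (GG Y') n).hom.unop ≫ (P.isoLeftDerivedObj (GG Y') n).inv.unop
      = 𝟙 _ := by
    rw [← unop_comp, Iso.inv_hom_id, unop_id]
  show ((NatTrans.leftDerived (NatTrans.rightOp ((linearYoneda R (ModuleCat.{u} R)).map g))
      n).app X).unop ≫ ((P.isoLeftDerivedObj (GG Y') n).inv.unop ≫
        (HomologicalComplex.homologyUnop _ n).inv) =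
    ((P.isoLeftDerivedObj (GG Y) n).inv.unop ≫ (HomologicalComplex.homologyUnop _ n).inv) ≫ _
  rw [h1]
  simp only [unop_comp, Category.assoc]
  rw [reassoc_of% key]
  congr 1

end Groth.Agent.Lib.ExtCompareH7
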