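import Mathlib
import Groth.Agent.Lib.ExtCompare_helper7

/-!
# Element-level comparison of Mathlib's `Ext` functor with `Abelian.Ext` (helper7)
-/

open CategoryTheory CategoryTheory.Limits Opposite

namespace Groth.Agent.Lib.ExtCompareH7

universe u

variable {R : Type u} [CommRing R]

lemma comp_apply' {A B C : ModuleCat.{u} R} (f : A ⟶ B) (g : B ⟶ C) (x : A) :
    (f ≫ g).hom x = g.hom (f.hom x) := rfl

section Cx

variable (K : CochainComplex (ModuleCat.{u} R) ℕ)

lemma exists_cycle (n : ℕ) (f : K.X n) (hf : (K.d n (n + 1)).hom f = 0) :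
    ∃ z : K.cycles n, (K.iCycles n).hom z = f := by
  have hex := ShortComplex.exact_of_f_is_kernel
    (ShortComplex.mk (K.iCycles n) (K.d n (n + 1)) (K.iCycles_d n (n + 1)))
    (K.cyclesIsKernel n (n + 1) (by simp))
  rw [ShortComplex.moduleCat_exact_iff] at hex
  exact hex f hf

lemma π_surjective (n : ℕ) (x : K.homology n) : ∃ z : K.cycles n, (K.homologyπ n).hom z = x :=
  (ModuleCat.epi_iff_surjective _).1 (inferInstance : Epi (K.homologyπ n)) x

lemma iCycles_injective (n : ℕ) : Function.Injective (K.iCycles n).hom :=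
  (ModuleCat.mono_iff_injective _).1 (inferInstance : Mono (K.iCycles n))

lemma π_eq_zero_iff (i n : ℕ) (hi : (ComplexShape.up ℕ).prev n = i) (z : K.cycles n) :
    (K.homologyπ n).hom z = 0 ↔ ∃ g : K.X i, (K.d i n).hom g = (K.iCycles n).hom z := by
  have hex := ShortComplex.exact_of_g_is_cokernel
    (ShortComplex.mk (K.toCycles i n) (K.homologyπ n) (K.toCycles_comp_homologyπ i n))
    (K.homologyIsCokernel i n hi)
  rw [ShortComplex.moduleCat_exact_iff] at hex
  constructor
  · intro h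
    obtain ⟨g, hg⟩ := hex z h
    refine ⟨g, ?_⟩
    have : (K.toCycles i n).hom g = z := hg
    rw [← this, ← comp_apply', K.toCycles_i]
  · rintro ⟨g, hg⟩
    have : (K.toCycles i n).hom g = z := by
      apply iCycles_injective
      rw [← comp_apply', K.toCycles_i, hg]
    rw [← this, ← comp_apply', K.toCycles_comp_homologyπ]
    rfl

variable {K} {L : CochainComplex (ModuleCat.{u} R) ℕ} (ψ : K ⟶ L)

lemma homologyMap_π (n : ℕ) (z : K.cycles n) :
    (HomologicalComplex.homologyMap ψ n).hom ((K.homologyπ n).hom z) =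
      (L.homologyπ n).hom ((HomologicalComplex.cyclesMap ψ n).hom z) := by
  rw [← comp_apply', ← comp_apply', HomologicalComplex.homologyπ_naturality]

lemma cyclesMap_i (n : ℕ) (z : K.cycles n) :
    (L.iCycles n).hom ((HomologicalComplex.cyclesMap ψ n).hom z) =
      (ψ.f n).hom ((K.iCycles n).hom z) := by
  rw [← comp_apply', ← comp_apply', HomologicalComplex.cyclesMap_i]

end Cx

section Hom

variable {X X' : ModuleCat.{u} R} (P : ProjectiveResolution X) (P' : ProjectiveResolution X')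

lemma d_apply (Y : ModuleCat.{u} R) (n m : ℕ) (f : P.complex.X n ⟶ Y) :
    ((P.complex.linearYonedaObj R Y).d n m).hom f = P.complex.d m n ≫ f := rfl

lemma pre_apply (φ : P'.complex ⟶ P.complex) (Y : ModuleCat.{u} R) (n : ℕ)
    (f : P.complex.X n ⟶ Y) :
    ((pre φ Y).f n).hom f = φ.f n ≫ f := rfl

lemma post_apply {Y Y' : ModuleCat.{u} R} (g : Y ⟶ Y') (n : ℕ) (f : P.complex.X n ⟶ Y) :
    ((post P g).f n).hom f = f ≫ g := rfl

end Hom

section Main

/-- abbreviation for the value of Mathlib's `Ext` functor -/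
noncomputable abbrev E (n : ℕ) (X M : ModuleCat.{u} R) : ModuleCat.{u} R :=
  ((Ext R (ModuleCat.{u} R) n).obj (op X)).obj M

lemma iso_hom_eq_zero {A B : ModuleCat.{u} R} (e : A ≅ B) (x : A) (h : e.hom.hom x = 0) :
    x = 0 := by
  have h1 : (e.hom ≫ e.inv).hom x = x := by rw [e.hom_inv_id]; rfl
  rw [← h1, comp_apply', h, map_zero]

lemma iso_inv_eq_zero {A B : ModuleCat.{u} R} (e : A ≅ B) (y : B) (h : e.inv.hom y = 0) :
    y = 0 := by
  have h1 : (e.inv ≫ e.hom).hom y = y := by rw [e.inv_hom_id]; rfl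
  rw [← h1, comp_apply', h, map_zero]

lemma aux_zero {A B X' X M : ModuleCat.{u} R} (a : A ⟶ B) (π' : A ⟶ X') (π : B ⟶ X)
    (q : X' ⟶ X) (hπ' : Epi π') (hq : Epi q) (comm : a ≫ π = π' ≫ q) (f : B ⟶ M) (fbar : X ⟶ M)
    (hfbar : π ≫ fbar = f) (h0 : a ≫ f = 0) : f = 0 := by
  have h1 : fbar = 0 := by
    rw [← cancel_epi q, ← cancel_epi π', ← Category.assoc, ← comm, Category.assoc, hfbar, h0,
      comp_zero, comp_zero]
  rw [← hfbar, h1, comp_zero]

lemma key_transfer {X X' : ModuleCat.{u} R} (q : X' ⟶ X) (P' : ProjectiveResolution X')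
    (P : ProjectiveResolution X) (φ : P'.complex ⟶ P.complex)
    (comm : φ.f 0 ≫ P.π.f 0 = P'.π.f 0 ≫ q) (n : ℕ) (M : ModuleCat.{u} R) (ξ : E n X M)
    (hξ : (((Ext R (ModuleCat.{u} R) n).map q.op).app M).hom ξ = 0)
    (z : (P.complex.linearYonedaObj R M).cycles n)
    (hz : ((P.complex.linearYonedaObj R M).homologyπ n).hom z = (P.isoExt n M).hom.hom ξ) :
    ((P'.complex.linearYonedaObj R M).homologyπ n).hom
      ((HomologicalComplex.cyclesMap (pre φ M) n).hom z) = 0 := by
  have hN := isoExt_naturality_X q P' P φ comm n M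
  have h1 := congrArg (fun α => α.hom ξ) hN
  simp only [comp_apply'] at h1
  rw [← homologyMap_π, hz, ← h1, hξ, map_zero]

theorem map_injective_zero {X X' : ModuleCat.{u} R} (q : X' ⟶ X) [Epi q] (M : ModuleCat.{u} R) :
    Function.Injective (((Ext R (ModuleCat.{u} R) 0).map q.op).app M).hom := by
  rw [injective_iff_map_eq_zero]
  intro ξ hξ
  let P := ProjectiveResolution.of X
  let P' := ProjectiveResolution.of X'
  let φ := ProjectiveResolution.lift q P' P
  have comm : φ.f 0 ≫ P.π.f 0 = P'.π.f 0 ≫ q := ProjectiveResolution.lift_commutes_zero q P' P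
  obtain ⟨z, hz⟩ := π_surjective (P.complex.linearYonedaObj R M) 0 ((P.isoExt 0 M).hom.hom ξ)
  have h1 := key_transfer q P' P φ comm 0 M ξ hξ z hz
  have hfco : P.complex.d 1 0 ≫ ((P.complex.linearYonedaObj R M).iCycles 0).hom z = 0 := by
    have h2 := congrArg (fun α => α.hom z) ((P.complex.linearYonedaObj R M).iCycles_d 0 1)
    exact h2
  apply iso_hom_eq_zero (P.isoExt 0 M)
  rw [← hz]
  rw [π_eq_zero_iff _ 0 0 CochainComplex.prev_nat_zero] at h1 ⊢
  obtain ⟨g, hg⟩ := h1
  rw [cyclesMap_i, pre_apply] at hg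
  have hd : (P'.complex.linearYonedaObj R M).d 0 0 = 0 :=
    (P'.complex.linearYonedaObj R M).shape _ _ (by simp)
  rw [hd] at hg
  have h0 : φ.f 0 ≫ ((P.complex.linearYonedaObj R M).iCycles 0).hom z = 0 := hg.symm
  have hπ' : Epi (P'.π.f 0) := inferInstance
  have hf0 : ((P.complex.linearYonedaObj R M).iCycles 0).hom z = 0 :=
    aux_zero (X' := X') (X := X) (φ.f 0) (P'.π.f 0) (P.π.f 0) q hπ' inferInstance comm _
      (P.exact₀.desc _ hfco) (P.exact₀.g_desc _ hfco) h0
  refine ⟨0, ?_⟩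
  rw [map_zero, hf0]

theorem map_injective_succ {X X' : ModuleCat.{u} R} (q : X' ⟶ X) (M : ModuleCat.{u} R) (p : ℕ)
    (hq : ∀ x : Abelian.Ext X M (p + 1),
      (Abelian.Ext.mk₀ q).comp x (zero_add (p + 1)) = 0 → x = 0) :
    Function.Injective (((Ext R (ModuleCat.{u} R) (p + 1)).map q.op).app M).hom := by
  rw [injective_iff_map_eq_zero]
  intro ξ hξ
  let P := ProjectiveResolution.of X
  let P' := ProjectiveResolution.of X'
  let φ := ProjectiveResolution.lift q P' P
  have comm : φ.f 0 ≫ P.π.f 0 = P'.π.f 0 ≫ q := ProjectiveResolution.lift_commutes_zero q P' P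
  obtain ⟨z, hz⟩ := π_surjective (P.complex.linearYonedaObj R M) (p + 1)
    ((P.isoExt (p + 1) M).hom.hom ξ)
  have h1 := key_transfer q P' P φ comm (p + 1) M ξ hξ z hz
  have hfco : P.complex.d (p + 2) (p + 1) ≫
      ((P.complex.linearYonedaObj R M).iCycles (p + 1)).hom z = 0 := by
    have h2 := congrArg (fun α => α.hom z)
      ((P.complex.linearYonedaObj R M).iCycles_d (p + 1) (p + 2))
    exact h2
  apply iso_hom_eq_zero (P.isoExt (p + 1) M)
  rw [← hz]
  rw [π_eq_zero_iff _ p (p + 1) (CochainComplex.prev_nat_succ p)] at h1 ⊢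
  obtain ⟨g, hg⟩ := h1
  rw [cyclesMap_i, pre_apply, d_apply] at hg
  have hco' : P'.complex.d (p + 2) (p + 1) ≫
      (φ.f (p + 1) ≫ ((P.complex.linearYonedaObj R M).iCycles (p + 1)).hom z) = 0 := by
    rw [← Category.assoc, ← φ.comm, Category.assoc, hfco, comp_zero]
  have e1 : P'.extMk (φ.f (p + 1) ≫ ((P.complex.linearYonedaObj R M).iCycles (p + 1)).hom z)
      (p + 2) rfl hco' = 0 :=
    (P'.extMk_eq_zero_iff _ (p + 2) rfl hco' p rfl).2 ⟨g, hg⟩
  let φH : ProjectiveResolution.Hom P' P q := ⟨φ, by simpa using comm⟩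
  have e2 := ProjectiveResolution.mk₀_comp_extMk
    (((P.complex.linearYonedaObj R M).iCycles (p + 1)).hom z) (p + 2) rfl hfco φH
  have e3 : P.extMk (((P.complex.linearYonedaObj R M).iCycles (p + 1)).hom z) (p + 2) rfl hfco
      = 0 := hq _ (by rw [e2]; exact e1)
  obtain ⟨g', hg'⟩ := (P.extMk_eq_zero_iff _ (p + 2) rfl hfco p rfl).1 e3
  exact ⟨g', hg'⟩

theorem exists_ne_zero_of_ext_ne_zero {X : ModuleCat.{u} R} (M : ModuleCat.{u} R) (n : ℕ)
    (x : Abelian.Ext X M n) (hx : x ≠ 0) : ∃ ξ : E n X M, ξ ≠ 0 := by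
  let P := ProjectiveResolution.of X
  obtain ⟨f, hf, rfl⟩ := P.extMk_surjective x (n + 1) rfl
  obtain ⟨z, hz⟩ := exists_cycle (P.complex.linearYonedaObj R M) n f hf
  refine ⟨(P.isoExt n M).inv.hom (((P.complex.linearYonedaObj R M).homologyπ n).hom z),
    fun h0 => hx ?_⟩
  have hπ := iso_inv_eq_zero (P.isoExt n M) _ h0
  cases n with
  | zero =>
    rw [π_eq_zero_iff _ 0 0 CochainComplex.prev_nat_zero] at hπ
    obtain ⟨g, hg⟩ := hπ
    have hd : (P.complex.linearYonedaObj R M).d 0 0 = 0 :=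
      (P.complex.linearYonedaObj R M).shape _ _ (by simp)
    rw [hd, hz] at hg
    have hf0 : f = 0 := hg.symm
    subst hf0
    exact P.extMk_zero 1 rfl
  | succ p =>
    rw [π_eq_zero_iff _ p (p + 1) (CochainComplex.prev_nat_succ p)] at hπ
    obtain ⟨g, hg⟩ := hπ
    rw [hz, d_apply] at hg
    exact (P.extMk_eq_zero_iff f (p + 2) rfl hf p rfl).2 ⟨g, hg⟩

end Main

end Groth.Agent.Lib.ExtCompareH7
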