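import Mathlib
import Groth.Agent.Lib.ExtCompare2_helper7

/-!
# A natural bijection between Mathlib's `Ext` functor and `Abelian.Ext` in positive degrees (helper7)
-/

open CategoryTheory CategoryTheory.Limits Opposite

namespace Groth.Agent.Lib.ExtCompareH7

universe u

variable {R : Type u} [CommRing R]

section Theta

variable {X : ModuleCat.{u} R}

lemma cocycle_cond (P : ProjectiveResolution X) (M : ModuleCat.{u} R) (n : ℕ)
    (z : (P.complex.linearYonedaObj R M).cycles n) :
    P.complex.d (n + 1) n ≫ ((P.complex.linearYonedaObj R M).iCycles n).hom z = 0 := by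
  have h2 := congrArg (fun α => α.hom z) ((P.complex.linearYonedaObj R M).iCycles_d n (n + 1))
  exact h2

/-- the class in `Abelian.Ext` attached to a cycle of the Hom complex -/
noncomputable def cls (P : ProjectiveResolution X) (M : ModuleCat.{u} R) (n : ℕ)
    (z : (P.complex.linearYonedaObj R M).cycles n) : Abelian.Ext X M n :=
  P.extMk (((P.complex.linearYonedaObj R M).iCycles n).hom z) (n + 1) rfl (cocycle_cond P M n z)

lemma extMk_congr (P : ProjectiveResolution X) {M : ModuleCat.{u} R} {n : ℕ}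
    (f f' : P.complex.X n ⟶ M) (h : f = f')
    (hf : P.complex.d (n + 1) n ≫ f = 0) (hf' : P.complex.d (n + 1) n ≫ f' = 0) :
    P.extMk f (n + 1) rfl hf = P.extMk f' (n + 1) rfl hf' := by
  subst h; rfl

lemma cls_sub (P : ProjectiveResolution X) (M : ModuleCat.{u} R) (n : ℕ)
    (z z' : (P.complex.linearYonedaObj R M).cycles n) :
    cls P M n z - cls P M n z' = cls P M n (z - z') := by
  unfold cls
  rw [ProjectiveResolution.sub_extMk]
  apply extMk_congr
  exact (map_sub ((P.complex.linearYonedaObj R M).iCycles n).hom z z').symm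

lemma cls_eq_zero_iff (P : ProjectiveResolution X) (M : ModuleCat.{u} R) (p : ℕ)
    (z : (P.complex.linearYonedaObj R M).cycles (p + 1)) :
    cls P M (p + 1) z = 0 ↔ ((P.complex.linearYonedaObj R M).homologyπ (p + 1)).hom z = 0 := by
  unfold cls
  rw [P.extMk_eq_zero_iff _ (p + 2) rfl _ p rfl,
    π_eq_zero_iff _ p (p + 1) (CochainComplex.prev_nat_succ p)]
  constructor
  · rintro ⟨g, hg⟩
    exact ⟨g, hg⟩
  · rintro ⟨g, hg⟩
    exact ⟨g, hg⟩

lemma cls_injective (P : ProjectiveResolution X) (M : ModuleCat.{u} R) (p : ℕ)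
    (z z' : (P.complex.linearYonedaObj R M).cycles (p + 1))
    (h : cls P M (p + 1) z = cls P M (p + 1) z') :
    ((P.complex.linearYonedaObj R M).homologyπ (p + 1)).hom z =
      ((P.complex.linearYonedaObj R M).homologyπ (p + 1)).hom z' := by
  have h1 : cls P M (p + 1) (z - z') = 0 := by rw [← cls_sub, h, sub_self]
  rw [cls_eq_zero_iff, map_sub, sub_eq_zero] at h1
  exact h1

lemma cls_surjective (P : ProjectiveResolution X) (M : ModuleCat.{u} R) (n : ℕ)
    (x : Abelian.Ext X M n) : ∃ z, cls P M n z = x := by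
  obtain ⟨f, hf, rfl⟩ := P.extMk_surjective x (n + 1) rfl
  obtain ⟨z, hz⟩ := exists_cycle (P.complex.linearYonedaObj R M) n f hf
  refine ⟨z, ?_⟩
  unfold cls
  exact extMk_congr P _ _ hz _ _

lemma iso_hom_injective {A B : ModuleCat.{u} R} (e : A ≅ B) : Function.Injective e.hom.hom := by
  intro a b h
  have := iso_hom_eq_zero e (a - b) (by rw [map_sub, h, sub_self])
  exact sub_eq_zero.1 this

/-- the comparison map -/
noncomputable def Θ (M : ModuleCat.{u} R) (p : ℕ) (ξ : E (p + 1) X M) : Abelian.Ext X M (p + 1) :=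
  cls (ProjectiveResolution.of X) M (p + 1)
    (π_surjective ((ProjectiveResolution.of X).complex.linearYonedaObj R M) (p + 1)
      (((ProjectiveResolution.of X).isoExt (p + 1) M).hom.hom ξ)).choose

lemma Θ_spec (M : ModuleCat.{u} R) (p : ℕ) (ξ : E (p + 1) X M)
    (z : ((ProjectiveResolution.of X).complex.linearYonedaObj R M).cycles (p + 1))
    (hz : (((ProjectiveResolution.of X).complex.linearYonedaObj R M).homologyπ (p + 1)).hom z =
      ((ProjectiveResolution.of X).isoExt (p + 1) M).hom.hom ξ) :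
    Θ M p ξ = cls (ProjectiveResolution.of X) M (p + 1) z := by
  unfold Θ
  have h := (π_surjective ((ProjectiveResolution.of X).complex.linearYonedaObj R M) (p + 1)
      (((ProjectiveResolution.of X).isoExt (p + 1) M).hom.hom ξ)).choose_spec
  rw [← sub_eq_zero, cls_sub, cls_eq_zero_iff, map_sub, h, hz, sub_self]

lemma Θ_zero (M : ModuleCat.{u} R) (p : ℕ) : Θ (X := X) M p 0 = 0 := by
  rw [Θ_spec M p 0 0 (by rw [map_zero, map_zero])]
  exact (cls_eq_zero_iff _ M p 0).2 (map_zero _)

lemma Θ_injective (M : ModuleCat.{u} R) (p : ℕ) : Function.Injective (Θ (X := X) M p) := by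
  intro ξ ξ' h
  obtain ⟨z, hz⟩ := π_surjective ((ProjectiveResolution.of X).complex.linearYonedaObj R M) (p + 1)
      (((ProjectiveResolution.of X).isoExt (p + 1) M).hom.hom ξ)
  obtain ⟨z', hz'⟩ := π_surjective ((ProjectiveResolution.of X).complex.linearYonedaObj R M)
    (p + 1) (((ProjectiveResolution.of X).isoExt (p + 1) M).hom.hom ξ')
  rw [Θ_spec M p ξ z hz, Θ_spec M p ξ' z' hz'] at h
  have h1 := cls_injective _ _ _ _ _ h
  rw [hz, hz'] at h1
  exact iso_hom_injective _ h1

lemma Θ_surjective (M : ModuleCat.{u} R) (p : ℕ) : Function.Surjective (Θ (X := X) M p) := by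
  intro x
  obtain ⟨z, hz⟩ := cls_surjective (ProjectiveResolution.of X) M (p + 1) x
  refine ⟨((ProjectiveResolution.of X).isoExt (p + 1) M).inv.hom
    ((((ProjectiveResolution.of X).complex.linearYonedaObj R M).homologyπ (p + 1)).hom z), ?_⟩
  rw [Θ_spec M p _ z (by rw [← comp_apply', Iso.inv_hom_id]; rfl), hz]

lemma Θ_map_X {X' : ModuleCat.{u} R} (q : X' ⟶ X) (M : ModuleCat.{u} R) (p : ℕ)
    (ξ : E (p + 1) X M) :
    Θ M p ((((Ext R (ModuleCat.{u} R) (p + 1)).map q.op).app M).hom ξ) =
      (Abelian.Ext.mk₀ q).comp (Θ M p ξ) (zero_add (p + 1)) := by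
  let P := ProjectiveResolution.of X
  let P' := ProjectiveResolution.of X'
  let φ := ProjectiveResolution.lift q P' P
  have comm : φ.f 0 ≫ P.π.f 0 = P'.π.f 0 ≫ q := ProjectiveResolution.lift_commutes_zero q P' P
  obtain ⟨z, hz⟩ := π_surjective (P.complex.linearYonedaObj R M) (p + 1)
    ((P.isoExt (p + 1) M).hom.hom ξ)
  have hN := isoExt_naturality_X q P' P φ comm (p + 1) M
  have h1 := congrArg (fun α => α.hom ξ) hN
  simp only [comp_apply'] at h1
  have hz' : ((P'.complex.linearYonedaObj R M).homologyπ (p + 1)).hom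
      ((HomologicalComplex.cyclesMap (pre φ M) (p + 1)).hom z) =
      (P'.isoExt (p + 1) M).hom.hom
        ((((Ext R (ModuleCat.{u} R) (p + 1)).map q.op).app M).hom ξ) := by
    rw [h1, ← hz, homologyMap_π]
  rw [Θ_spec M p _ _ hz', Θ_spec M p ξ z hz]
  unfold cls
  let φH : ProjectiveResolution.Hom P' P q := ⟨φ, by simpa using comm⟩
  rw [ProjectiveResolution.mk₀_comp_extMk _ (p + 2) rfl _ φH]
  apply extMk_congr
  rw [cyclesMap_i, pre_apply]

lemma Θ_map_Y {M M' : ModuleCat.{u} R} (g : M ⟶ M') (p : ℕ) (ξ : E (p + 1) X M) :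
    Θ M' p ((((Ext R (ModuleCat.{u} R) (p + 1)).obj (op X)).map g).hom ξ) =
      (Θ M p ξ).comp (Abelian.Ext.mk₀ g) (add_zero (p + 1)) := by
  let P := ProjectiveResolution.of X
  obtain ⟨z, hz⟩ := π_surjective (P.complex.linearYonedaObj R M) (p + 1)
    ((P.isoExt (p + 1) M).hom.hom ξ)
  have hN := isoExt_naturality_Y P (p + 1) g
  have h1 := congrArg (fun α => α.hom ξ) hN
  simp only [comp_apply'] at h1
  have hz' : ((P.complex.linearYonedaObj R M').homologyπ (p + 1)).hom
      ((HomologicalComplex.cyclesMap (post P g) (p + 1)).hom z) =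
      (P.isoExt (p + 1) M').hom.hom
        ((((Ext R (ModuleCat.{u} R) (p + 1)).obj (op X)).map g).hom ξ) := by
    rw [h1, ← hz, homologyMap_π]
  rw [Θ_spec M' p _ _ hz', Θ_spec M p ξ z hz]
  unfold cls
  rw [ProjectiveResolution.extMk_comp_mk₀]
  apply extMk_congr
  rw [cyclesMap_i, post_apply]

end Theta

end Groth.Agent.Lib.ExtCompareH7
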