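import Mathlib
import Groth.Prelude.Def_Wider

/-!
# Bridge between `Abelian.Ext` and the `Ext` functor used by `localCohomology` (helper7)

If `s` kills `Abelian.Ext (R/b^k) M i` for all `k` then `s` kills `H^i_b(M)`.
-/

open CategoryTheory CategoryTheory.Limits Opposite

namespace Groth.Agent.Lib.LocCohBridgeH7

universe u

variable {R : Type u} [CommRing R]

lemma comp_apply' {A B C : ModuleCat.{u} R} (f : A ⟶ B) (g : B ⟶ C) (x : A) :
    (f ≫ g).hom x = g.hom (f.hom x) := rfl

theorem smul_homology_eq_zero (K : CochainComplex (ModuleCat.{u} R) ℕ) (n i : ℕ) (s : R)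
    (h : ∀ f : K.X n, (K.d n (n + 1)).hom f = 0 → ∃ g : K.X i, (K.d i n).hom g = s • f) :
    s • 𝟙 (K.homology n) = 0 := by
  apply ModuleCat.hom_ext
  ext x
  obtain ⟨z, rfl⟩ := (ModuleCat.epi_iff_surjective _).1 (inferInstance : Epi (K.homologyπ n)) x
  show s • (K.homologyπ n).hom z = 0
  have hz : (K.d n (n + 1)).hom ((K.iCycles n).hom z) = 0 := by
    rw [← comp_apply', K.iCycles_d]; rfl
  obtain ⟨g, hg⟩ := h _ hz
  have hsz : s • z = (K.toCycles i n).hom g := by
    apply (ModuleCat.mono_iff_injective _).1 (inferInstance : Mono (K.iCycles n))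
    rw [map_smul, ← hg, ← comp_apply', K.toCycles_i]
  rw [← map_smul, hsz, ← comp_apply', K.toCycles_comp_homologyπ]
  rfl

theorem bridge (X M : ModuleCat.{u} R) (n : ℕ) (s : R)
    (h : ∀ x : Abelian.Ext X M n, s • x = 0) :
    s • 𝟙 (((Ext R (ModuleCat.{u} R) n).obj (op X)).obj M) = 0 := by
  let P := ProjectiveResolution.of X
  let e := P.isoExt (R := R) n M
  have hH : s • 𝟙 ((P.complex.linearYonedaObj R M).homology n) = 0 := by
    cases n with
    | zero =>
      apply smul_homology_eq_zero _ 0 1 s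
      intro (f : P.complex.X 0 ⟶ M) hf
      have hf' : P.complex.d 1 0 ≫ f = 0 := hf
      refine ⟨0, ?_⟩
      rw [map_zero]
      show 0 = s • f
      let fbar := P.exact₀.desc f hf'
      have hfbar : P.π.f 0 ≫ fbar = f := P.exact₀.g_desc f hf'
      have h0 : s • fbar = 0 := by
        have h' : ∀ g : X ⟶ M, s • g = 0 := by
          intro g
          apply (Abelian.Ext.mk₀_bijective X M).1
          rw [Abelian.Ext.mk₀_smul, Abelian.Ext.mk₀_zero]
          exact h _
        exact h' fbar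
      rw [← hfbar, ← Linear.comp_smul, h0, comp_zero]
    | succ p =>
      apply smul_homology_eq_zero _ (p + 1) p s
      intro (f : P.complex.X (p + 1) ⟶ M) hf
      have hf' : P.complex.d (p + 2) (p + 1) ≫ f = 0 := hf
      have hx := h (P.extMk f (p + 2) rfl hf')
      rw [Abelian.Ext.smul_eq_comp_mk₀, P.extMk_comp_mk₀] at hx
      obtain ⟨g, hg⟩ := (P.extMk_eq_zero_iff _ (p + 2) rfl _ p rfl).1 hx
      refine ⟨g, ?_⟩
      show P.complex.d (p + 1) p ≫ g = s • f
      rw [hg, Linear.comp_smul, Category.comp_id]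
  calc s • 𝟙 _ = e.hom ≫ (s • 𝟙 _) ≫ e.inv := by
        rw [Linear.smul_comp, Linear.comp_smul, Category.id_comp, e.hom_inv_id]
    _ = 0 := by rw [hH, zero_comp, comp_zero]

lemma smul_id_colimit_eq_zero (b : Ideal R) (i : ℕ) (M : ModuleCat.{u} R) (s : R)
    (hs : ∀ k : ℕ, ∀ x : Abelian.Ext (ModuleCat.of R (R ⧸ b ^ k)) M i, s • x = 0) :
    s • 𝟙 ((colimit (localCohomology.diagram (localCohomology.idealPowersDiagram b) i)).obj M)
      = 0 := by
  let F := localCohomology.diagram (localCohomology.idealPowersDiagram b) i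
  have hc := isColimitOfPreserves ((evaluation _ _).obj M) (colimit.isColimit F)
  apply hc.hom_ext
  intro k
  show (colimit.ι F k).app M ≫ (s • 𝟙 ((colimit F).obj M)) = (colimit.ι F k).app M ≫ 0
  rw [comp_zero, Linear.comp_smul, Category.comp_id, ← Category.id_comp ((colimit.ι F k).app M),
    ← Linear.smul_comp]
  have : s • 𝟙 ((F.obj k).obj M) = 0 := bridge _ M i s (hs (unop (unop k)))
  rw [this, zero_comp]

lemma smul_id_H_eq_zero (b : Ideal R) (i : ℕ) (M : ModuleCat.{u} R) (s : R)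
    (hs : ∀ k : ℕ, ∀ x : Abelian.Ext (ModuleCat.of R (R ⧸ b ^ k)) M i, s • x = 0) :
    s • 𝟙 ((localCohomology b i).obj M) = 0 :=
  smul_id_colimit_eq_zero b i M s hs

/-- element form -/
theorem smul_H_eq_zero (b : Ideal R) (i : ℕ) (M : Type u) [AddCommGroup M] [Module R M] (s : R)
    (hs : ∀ k : ℕ, ∀ x : Abelian.Ext (ModuleCat.of R (R ⧸ b ^ k)) (ModuleCat.of R M) i, s • x = 0)
    (x : LocCoh.H b i M) : s • x = 0 := by
  have h1 := smul_id_H_eq_zero b i (ModuleCat.of R M) s hs
  have h2 := congrArg (fun φ => φ.hom x) h1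
  exact h2

/-- killing `Ext` through a finite sum of factorizations through an object with vanishing `Ext` -/
theorem ext_smul_eq_zero_of_factor {X M F : ModuleCat.{u} R} (n : ℕ) {ι : Type*} (S : Finset ι)
    (α : ι → (F ⟶ M)) (β : ι → (M ⟶ F)) (s : R)
    (hsum : s • 𝟙 M = ∑ j ∈ S, β j ≫ α j) (hF : ∀ y : Abelian.Ext X F n, y = 0)
    (x : Abelian.Ext X M n) : s • x = 0 := by
  rw [Abelian.Ext.smul_eq_comp_mk₀, hsum]
  have key : ∀ T : Finset ι,
      x.comp (Abelian.Ext.mk₀ (∑ j ∈ T, β j ≫ α j)) (add_zero n) = 0 := by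
    intro T
    classical
    induction T using Finset.induction_on with
    | empty => rw [Finset.sum_empty, Abelian.Ext.mk₀_zero, Abelian.Ext.comp_zero]
    | insert a T ha ih =>
      rw [Finset.sum_insert ha, Abelian.Ext.mk₀_add, Abelian.Ext.comp_add, ih, add_zero,
        ← Abelian.Ext.mk₀_comp_mk₀, ← Abelian.Ext.comp_assoc_of_third_deg_zero,
        hF (x.comp _ _), Abelian.Ext.zero_comp]
  exact key S

end Groth.Agent.Lib.LocCohBridgeH7
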