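import Mathlib
import Groth.Prelude.Def_Wider
import Groth.Agent.Lib.Depth_helper5
import Groth.Agent.Lib.LocCohBridge_helper7
import Groth.Agent.Lib.ExtCompare2_helper7

/-!
# Depth is the least degree of non-vanishing local cohomology (helper7)
-/

open CategoryTheory CategoryTheory.Limits Opposite

namespace Groth.Agent.Lib.LocCohDepthH7

open Groth.Agent.Lib.LocCohBridgeH7 Groth.Agent.Lib.ExtCompareH7 Groth.Agent.DepthLib

universe u

variable {R : Type u} [CommRing R]

/-- Rees: `Ext^i(N, M) = 0` below the `I`-depth of `M`, for finite `N` supported in `V(I)`. -/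
theorem ext_subsingleton_of_lt_depth [IsNoetherianRing R] (I : Ideal R) (M : Type u)
    [AddCommGroup M] [Module R M] [Module.Finite R M]
    (hIM : I • (⊤ : Submodule R M) ≠ ⊤) (i : ℕ) (hi : (i : ℕ∞) < LocCoh.idealDepth I M)
    (N : ModuleCat.{u} R) [Module.Finite R N]
    (hN : Module.support R N ⊆ PrimeSpectrum.zeroLocus I) :
    Subsingleton (Abelian.Ext N (ModuleCat.of R M) i) := by
  have h1 : ((i + 1 : ℕ) : ℕ∞) ≤ LocCoh.idealDepth I M := by
    have := Order.add_one_le_of_lt hi
    exact_mod_cast this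
  rw [le_idealDepth_iff] at h1
  rcases h1 with h1 | ⟨rs, hreg, hmem, hlen⟩
  · exact absurd h1 hIM
  · have hle : Ideal.ofList rs ≤ I := by
      rw [Ideal.ofList, Ideal.span_le]
      intro r hr
      exact hmem r hr
    have hreg' : RingTheory.Sequence.IsRegular M rs := by
      refine ⟨hreg, fun htop => hIM ?_⟩
      exact top_le_iff.1 (htop.le.trans (Submodule.smul_mono_left hle))
    have := ModuleCat.subsingleton_ext_of_exists_isRegular I N hN
      (ModuleCat.of R M) (lt_top_iff_ne_top.2 hIM) rs hmem hreg' i (by omega)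
    exact this

lemma support_quot_pow_le (I : Ideal R) (k : ℕ) :
    Module.support R (ModuleCat.of R (R ⧸ I ^ k)) ⊆ PrimeSpectrum.zeroLocus I := by
  intro q hq
  have hq' : q ∈ Module.support R (R ⧸ I ^ k) := hq
  rw [Module.support_eq_zeroLocus, Ideal.annihilator_quotient,
    PrimeSpectrum.mem_zeroLocus] at hq'
  rw [PrimeSpectrum.mem_zeroLocus]
  exact Ideal.IsPrime.le_of_pow_le (n := k) hq'

/-- `Ext^n(R/I, M) ≠ 0` at `n = depth_I M`. -/
theorem ext_quot_nontrivial_at_depth [IsNoetherianRing R] (I : Ideal R) (M : Type u)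
    [AddCommGroup M] [Module R M] [Module.Finite R M]
    (hIM : I • (⊤ : Submodule R M) ≠ ⊤) (n : ℕ) (hn : LocCoh.idealDepth I M = n) :
    ∃ x : Abelian.Ext (ModuleCat.of R (R ⧸ I ^ 1)) (ModuleCat.of R M) n, x ≠ 0 := by
  by_contra hcon
  push Not at hcon
  have hsupp : Module.support R (ModuleCat.of R (R ⧸ I ^ 1)) = PrimeSpectrum.zeroLocus I := by
    show Module.support R (R ⧸ I ^ 1) = _
    rw [Module.support_eq_zeroLocus, Ideal.annihilator_quotient, pow_one]
  have hext : ∀ i < n + 1, Subsingleton
      (Abelian.Ext (ModuleCat.of R (R ⧸ I ^ 1)) (ModuleCat.of R M) i) := by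
    intro i hi
    rcases Nat.lt_succ_iff_lt_or_eq.1 hi with h | rfl
    · exact ext_subsingleton_of_lt_depth I M hIM i (by rw [hn]; exact_mod_cast h) _ hsupp.le
    · exact ⟨fun a b => by rw [hcon a, hcon b]⟩
  obtain ⟨rs, hlen, hmem, hreg⟩ := ModuleCat.exists_isRegular_of_exists_subsingleton_ext I
    (n + 1) (ModuleCat.of R M) (lt_top_iff_ne_top.2 hIM) (ModuleCat.of R (R ⧸ I ^ 1)) hsupp hext
  have h2 : ((n + 1 : ℕ) : ℕ∞) ≤ LocCoh.idealDepth I M :=
    (le_idealDepth_iff I M (n + 1)).2 (Or.inr ⟨rs, hreg.toIsWeaklyRegular, hmem, hlen⟩)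
  rw [hn] at h2
  exact absurd h2 (by exact_mod_cast Nat.not_succ_le_self n)

/-- precomposition with a surjection from a module supported in `V(I)` is injective on
`Ext^{p+1}(-, M)` when `p < depth_I M`. -/
theorem precomp_injective [IsNoetherianRing R] (I : Ideal R) (M : Type u)
    [AddCommGroup M] [Module R M] [Module.Finite R M]
    (hIM : I • (⊤ : Submodule R M) ≠ ⊤) (p : ℕ) (hp : (p : ℕ∞) < LocCoh.idealDepth I M)
    {N' N : ModuleCat.{u} R} [Module.Finite R N'] (q : N' ⟶ N)
    (hq : Function.Surjective q.hom)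
    (hN' : Module.support R N' ⊆ PrimeSpectrum.zeroLocus I)
    (x : Abelian.Ext N (ModuleCat.of R M) (p + 1))
    (hx : (Abelian.Ext.mk₀ q).comp x (zero_add (p + 1)) = 0) : x = 0 := by
  have hS := shortComplexOf_shortExact (LinearMap.ker q.hom).subtype q.hom
    Subtype.val_injective hq (LinearMap.exact_subtype_ker_map q.hom)
  haveI : IsNoetherian R N' := isNoetherian_of_isNoetherianRing_of_finite R N'
  have hK : Module.support R (ModuleCat.of R (LinearMap.ker q.hom)) ⊆
      PrimeSpectrum.zeroLocus I :=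
    (Module.support_subset_of_injective (LinearMap.ker q.hom).subtype
      Subtype.val_injective).trans hN'
  have hsub := ext_subsingleton_of_lt_depth I M hIM p hp
    (ModuleCat.of R (LinearMap.ker q.hom)) hK
  obtain ⟨x₁, hx₁⟩ := Abelian.Ext.contravariant_sequence_exact₃ hS (ModuleCat.of R M) x hx
    (add_comm 1 p)
  have hx10 : x₁ = 0 := hsub.elim _ _
  rw [← hx₁, hx10, Abelian.Ext.comp_zero]
  rfl

/-- the transition maps of the local cohomology diagram -/
lemma diagram_map_eq (I : Ideal R) (n : ℕ) (M : ModuleCat.{u} R) {k k' : ℕᵒᵖᵒᵖ} (w : k ⟶ k') :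
    ((localCohomology.diagram (localCohomology.idealPowersDiagram I) n).map w).app M =
      ((Ext R (ModuleCat.{u} R) n).map
        ((localCohomology.ringModIdeals (localCohomology.idealPowersDiagram I)).map w.unop).op).app
          M := rfl

lemma ringModIdeals_map_surjective (I : Ideal R) {a b : ℕᵒᵖ} (w : a ⟶ b) :
    Function.Surjective
      ((localCohomology.ringModIdeals (localCohomology.idealPowersDiagram I)).map w).hom := by
  intro y
  obtain ⟨r, rfl⟩ := Ideal.Quotient.mk_surjective (y : R ⧸ I ^ (unop b))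
  exact ⟨Ideal.Quotient.mk _ r, rfl⟩

theorem nontrivial_colimit_of (I : Ideal R) (n : ℕ) (M : ModuleCat.{u} R)
    (ξ : E n (ModuleCat.of R (R ⧸ I ^ 1)) M) (hξ : ξ ≠ 0)
    (hinj : ∀ (k : ℕᵒᵖᵒᵖ) (w : op (op 1) ⟶ k), Function.Injective
      (((localCohomology.diagram (localCohomology.idealPowersDiagram I) n).map w).app M).hom) :
    Nontrivial ((colimit (localCohomology.diagram (localCohomology.idealPowersDiagram I) n)).obj M :
      ModuleCat.{u} R) := by
  let F := localCohomology.diagram (localCohomology.idealPowersDiagram I) n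
  have hc := isColimitOfPreserves ((evaluation _ _).obj M) (colimit.isColimit F)
  haveI : PreservesFilteredColimitsOfSize.{0, 0} (forget (ModuleCat.{u} R)) :=
    preservesSmallestFilteredColimits_of_preservesFilteredColimits _
  haveI : PreservesColimitsOfShape ℕᵒᵖᵒᵖ (forget (ModuleCat.{u} R)) :=
    PreservesFilteredColimitsOfSize.preserves_filtered_colimits _
  let ξ' : ((F.obj (op (op 1))).obj M : ModuleCat.{u} R) := ξ
  refine ⟨⟨((colimit.ι F (op (op 1))).app M).hom ξ', 0, fun h0 => hξ ?_⟩⟩
  have h1 : ((colimit.ι F (op (op 1))).app M).hom ξ' =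
      ((colimit.ι F (op (op 1))).app M).hom 0 := by rw [h0, map_zero]
  obtain ⟨k, f, g, hfg⟩ := Concrete.isColimit_exists_of_rep_eq _ hc ξ' 0 h1
  have h2 : ((F.map f).app M).hom ξ' = ((F.map g).app M).hom 0 := hfg
  rw [map_zero] at h2
  exact (injective_iff_map_eq_zero _).1 (hinj k f) ξ' h2

theorem vanishing [IsNoetherianRing R] (I : Ideal R) (M : Type u)
    [AddCommGroup M] [Module R M] [Module.Finite R M]
    (hIM : I • (⊤ : Submodule R M) ≠ ⊤) (i : ℕ) (hi : (i : ℕ∞) < LocCoh.idealDepth I M) :
    Subsingleton (LocCoh.H I i M) := by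
  have key : ∀ x : LocCoh.H I i M, x = 0 := fun x => by
    have := smul_H_eq_zero I i M (1 : R) (fun k y => by
      rw [one_smul]
      exact (ext_subsingleton_of_lt_depth I M hIM i hi (ModuleCat.of R (R ⧸ I ^ k))
        (support_quot_pow_le I k)).elim _ _) x
    rwa [one_smul] at this
  exact ⟨fun a b => by rw [key a, key b]⟩

theorem nonvanishing [IsNoetherianRing R] (I : Ideal R) (M : Type u)
    [AddCommGroup M] [Module R M] [Module.Finite R M]
    (hIM : I • (⊤ : Submodule R M) ≠ ⊤) (n : ℕ) (hn : LocCoh.idealDepth I M = n) :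
    Nontrivial (LocCoh.H I n M) := by
  obtain ⟨x, hx⟩ := ext_quot_nontrivial_at_depth I M hIM n hn
  obtain ⟨ξ, hξ⟩ := exists_ne_zero_of_ext_ne_zero (ModuleCat.of R M) n x hx
  apply nontrivial_colimit_of I n (ModuleCat.of R M) ξ hξ
  intro k w
  rw [diagram_map_eq]
  have hsurj := ringModIdeals_map_surjective I w.unop
  cases n with
  | zero =>
    haveI : Epi ((localCohomology.ringModIdeals (localCohomology.idealPowersDiagram I)).map
        w.unop) := (ModuleCat.epi_iff_surjective _).2 hsurj
    exact map_injective_zero _ _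
  | succ p =>
    apply map_injective_succ
    intro y hy
    have hp : (p : ℕ∞) < LocCoh.idealDepth I M := by
      rw [hn]; exact_mod_cast Nat.lt_succ_self p
    haveI : Module.Finite R ↑((localCohomology.ringModIdeals
        (localCohomology.idealPowersDiagram I)).obj (unop k)) :=
      inferInstanceAs (Module.Finite R (R ⧸ I ^ (unop (unop k))))
    exact precomp_injective I M hIM p hp _ hsurj (support_quot_pow_le I _) y hy

theorem main (R : Type u) [CommRing R] [IsNoetherianRing R] (I : Ideal R) (M : Type u)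
    [AddCommGroup M] [Module R M] [Module.Finite R M]
    (hIM : I • (⊤ : Submodule R M) ≠ ⊤) (n : ℕ) :
    LocCoh.idealDepth I M = n ↔
      ((∀ i : ℕ, i < n → Subsingleton (LocCoh.H I i M)) ∧ Nontrivial (LocCoh.H I n M)) := by
  constructor
  · intro hn
    refine ⟨fun i hi => vanishing I M hIM i (by rw [hn]; exact_mod_cast hi),
      nonvanishing I M hIM n hn⟩
  · rintro ⟨hv, hnt⟩
    rcases h : LocCoh.idealDepth I M with _ | m
    · exfalso
      haveI := vanishing I M hIM n (by rw [h]; exact ENat.coe_lt_top n)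
      exact not_subsingleton _ ‹_›
    · have hm : LocCoh.idealDepth I M = (m : ℕ) := h
      rcases lt_trichotomy m n with hlt | heq | hgt
      · exfalso
        haveI := hv m hlt
        haveI := nonvanishing I M hIM m hm
        exact not_subsingleton (LocCoh.H I m M) ‹_›
      · rw [heq]; rfl
      · exfalso
        haveI := vanishing I M hIM n (by rw [hm]; exact_mod_cast hgt)
        exact not_subsingleton _ ‹_›

end Groth.Agent.Lib.LocCohDepthH7
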