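import Mathlib
import Groth.Prelude.Def_Wider
import Groth.Agent.Lib.Depth_helper5
import Groth.Agent.Lib.LocCohBridge_helper7

/-!
# Local cohomology is power torsion (helper7)
-/

open CategoryTheory CategoryTheory.Limits Opposite

namespace Groth.Agent.Lib.LocCohTorsH7

open Groth.Agent.Lib.LocCohBridgeH7

universe u

variable {A : Type u} [CommRing A]

/-- elements of `I^n` kill `Ext^i(A/I^n, M)` (Mathlib's `Ext` functor). -/
lemma smul_id_ext_quot_eq_zero (I : Ideal A) (n i : ℕ) (M : ModuleCat.{u} A) (a : A)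
    (ha : a ∈ I ^ n) :
    a • 𝟙 (((Ext A (ModuleCat.{u} A) i).obj (op (ModuleCat.of A (A ⧸ I ^ n)))).obj M) = 0 := by
  apply bridge
  intro x
  apply Groth.Agent.DepthLib.ext_smul_eq_zero_of_src a
  intro z
  change a • (z : A ⧸ I ^ n) = 0
  obtain ⟨y, rfl⟩ := Ideal.Quotient.mk_surjective z
  rw [← Ideal.Quotient.mk_eq_mk, ← Submodule.Quotient.mk_smul, Submodule.Quotient.mk_eq_zero]
  exact (I ^ n).mul_mem_right y ha

/-- every element of the local cohomology comes from a finite stage -/
lemma exists_rep (I : Ideal A) (i : ℕ) (M : ModuleCat.{u} A)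
    (m : ((colimit (localCohomology.diagram (localCohomology.idealPowersDiagram I) i)).obj M :
      ModuleCat.{u} A)) :
    ∃ (k : ℕᵒᵖᵒᵖ) (y : (((localCohomology.diagram (localCohomology.idealPowersDiagram I) i).obj
        k).obj M : ModuleCat.{u} A)),
      ((colimit.ι (localCohomology.diagram (localCohomology.idealPowersDiagram I) i) k).app M).hom y
        = m := by
  let F := localCohomology.diagram (localCohomology.idealPowersDiagram I) i
  have hc := isColimitOfPreserves ((evaluation _ _).obj M) (colimit.isColimit F)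
  haveI : PreservesFilteredColimitsOfSize.{0, 0} (forget (ModuleCat.{u} A)) :=
    preservesSmallestFilteredColimits_of_preservesFilteredColimits _
  haveI : PreservesColimitsOfShape ℕᵒᵖᵒᵖ (forget (ModuleCat.{u} A)) :=
    PreservesFilteredColimitsOfSize.preserves_filtered_colimits _
  obtain ⟨k, y, hy⟩ := Concrete.isColimit_exists_rep _ hc m
  exact ⟨k, y, hy⟩

theorem main_colimit (I : Ideal A) (i : ℕ) (M : ModuleCat.{u} A)
    (m : ((colimit (localCohomology.diagram (localCohomology.idealPowersDiagram I) i)).obj M :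
      ModuleCat.{u} A)) : ∃ n : ℕ, ∀ a ∈ I ^ n, a • m = 0 := by
  obtain ⟨k, y, hy⟩ := exists_rep I i M m
  refine ⟨unop (unop k), fun a ha => ?_⟩
  have h0 := smul_id_ext_quot_eq_zero I (unop (unop k)) i M a ha
  have h1 : a • y = 0 := congrArg (fun φ => φ.hom y) h0
  rw [← hy, ← map_smul, h1, map_zero]

theorem main (A : Type u) [CommRing A] (I : Ideal A) (i : ℕ)
    (M : Type u) [AddCommGroup M] [Module A M] :
    LocCoh.IsPowerTorsion I (LocCoh.H I i M) := by
  intro m
  exact main_colimit I i (ModuleCat.of A M) m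

end Groth.Agent.Lib.LocCohTorsH7
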