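import Mathlib
import Groth.Prelude.Def_Wider

set_option autoImplicit false
universe u

namespace Groth.Agent.Lib.InjHull_helper3

variable {R : Type u} [CommRing R]

section basic

variable {M E X : Type u} [AddCommGroup M] [Module R M] [AddCommGroup E] [Module R E]
  [AddCommGroup X] [Module R X]

/-- a map out of an essential extension which is injective on the small module is injective -/
theorem injective_of_essential {f : M →ₗ[R] E} (hf : InjHull.IsEssentialInj f) (α : E →ₗ[R] X)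
    (hα : Function.Injective (α ∘ₗ f)) : Function.Injective α := by
  rw [← LinearMap.ker_eq_bot]
  by_contra hne
  apply hf.essential _ hne
  rw [eq_bot_iff]
  rintro x ⟨hx1, m, rfl⟩
  have h0 : (α ∘ₗ f) m = (α ∘ₗ f) 0 := by
    rw [LinearMap.comp_apply, LinearMap.mem_ker.1 hx1, map_zero]
  rw [hα h0, map_zero]
  exact Submodule.zero_mem _

/-- extension along an injective map into an injective module -/
theorem exists_extension {I : Type u} [AddCommGroup I] [Module R I] (hI : Module.Injective R I)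
    (f : M →ₗ[R] E) (hf : Function.Injective f) (g : M →ₗ[R] I) :
    ∃ h : E →ₗ[R] I, h ∘ₗ f = g := by
  obtain ⟨h, hh⟩ := hI.out f hf g
  exact ⟨h, LinearMap.ext hh⟩

/-- the image of an injective module under an injective map is a direct summand -/
theorem exists_isCompl_range (hE : Module.Injective R E) (α : E →ₗ[R] X)
    (hα : Function.Injective α) : ∃ C : Submodule R X, IsCompl (LinearMap.range α) C := by
  obtain ⟨r, hr⟩ := exists_extension hE α hα LinearMap.id
  have hr' : ∀ e, r (α e) = e := fun e => LinearMap.congr_fun hr e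
  refine ⟨LinearMap.ker r, ?_⟩
  constructor
  · rw [disjoint_iff, eq_bot_iff]
    rintro x ⟨⟨e, rfl⟩, hx2⟩
    have : e = 0 := by rw [← hr' e]; exact LinearMap.mem_ker.1 hx2
    rw [this, map_zero]
    exact Submodule.zero_mem _
  · rw [codisjoint_iff, eq_top_iff]
    intro x _
    have hx : x = α (r x) + (x - α (r x)) := by abel
    rw [hx]
    refine Submodule.add_mem_sup ⟨r x, rfl⟩ ?_
    rw [LinearMap.mem_ker, map_sub, hr', sub_self]

end basic

section hull

variable {M E E' I : Type u} [AddCommGroup M] [Module R M] [AddCommGroup E] [Module R E]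
  [AddCommGroup E'] [Module R E'] [AddCommGroup I] [Module R I]

theorem hull_splits_off (f : M →ₗ[R] E) (hf : InjHull.IsInjectiveHull f) (i : M →ₗ[R] I)
    (hi : Function.Injective i) (hI : Module.Injective R I) :
    ∃ α : E →ₗ[R] I, Function.Injective α ∧ α ∘ₗ f = i ∧
      ∃ I' : Submodule R I, IsCompl (LinearMap.range α) I' := by
  obtain ⟨α, hα⟩ := exists_extension hI f hf.injective i
  have hinj : Function.Injective α := injective_of_essential hf.toIsEssentialInj α (by
    rw [hα]; exact hi)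
  exact ⟨α, hinj, hα, exists_isCompl_range hf.isInjective α hinj⟩

theorem hull_unique (f : M →ₗ[R] E) (hf : InjHull.IsInjectiveHull f) (g : M →ₗ[R] E')
    (hg : InjHull.IsInjectiveHull g) : ∃ e : E ≃ₗ[R] E', e.toLinearMap ∘ₗ f = g := by
  obtain ⟨α, hinj, hα, C, hC⟩ := hull_splits_off f hf g hg.injective hg.isInjective
  have hCbot : C = ⊥ := by
    by_contra hne
    apply hg.essential C hne
    rw [eq_bot_iff]
    rintro x ⟨hx1, m, rfl⟩
    have hx2 : g m ∈ LinearMap.range α := ⟨f m, by rw [← hα]; rfl⟩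
    have : g m ∈ LinearMap.range α ⊓ C := ⟨hx2, hx1⟩
    rw [hC.inf_eq_bot] at this
    exact this
  have hsurj : Function.Surjective α := by
    rw [← LinearMap.range_eq_top]
    have := hC.sup_eq_top
    rwa [hCbot, sup_bot_eq] at this
  refine ⟨LinearEquiv.ofBijective α ⟨hinj, hsurj⟩, ?_⟩
  ext m
  exact LinearMap.congr_fun hα m

end hull

section bass

/-- **Bass**: over a Noetherian ring direct sums of injectives are injective -/
theorem injective_directSum [IsNoetherianRing R] {ι : Type u} (E : ι → Type u)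
    [∀ i, AddCommGroup (E i)] [∀ i, Module R (E i)] (hE : ∀ i, Module.Injective R (E i)) :
    Module.Injective R (DirectSum ι E) := by
  classical
  apply Module.Baer.injective
  intro 𝔞 g
  -- finite support
  obtain ⟨t, ht⟩ := (IsNoetherian.noetherian (⊤ : Submodule R 𝔞))
  obtain ⟨s, hs⟩ : ∃ s : Finset ι, ∀ x : 𝔞, ∀ i ∉ s, (g x) i = 0 := by
    refine ⟨t.biUnion fun y => DFinsupp.support (g y), ?_⟩
    intro x i hi
    have hx : x ∈ Submodule.span R (t : Set 𝔞) := by rw [ht]; trivial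
    induction hx using Submodule.span_induction with
    | mem y hy =>
      by_contra hne
      apply hi
      rw [Finset.mem_biUnion]
      exact ⟨y, hy, DFinsupp.mem_support_iff.2 hne⟩
    | zero => simp
    | add y z _ _ hy hz => rw [map_add, DirectSum.add_apply, hy, hz, add_zero]
    | smul a y _ hy => rw [map_smul, DirectSum.smul_apply, hy, smul_zero]
  -- extend each component
  have hB : ∀ i, Module.Baer R (E i) := fun i => Module.Baer.of_injective (hE i)
  choose g' hg' using fun i => hB i 𝔞 ((DirectSum.component R ι E i) ∘ₗ g)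
  refine ⟨∑ i ∈ s, (DirectSum.lof R ι E i) ∘ₗ (g' i), ?_⟩
  intro x hx
  apply DFinsupp.ext
  intro j
  rw [LinearMap.sum_apply]
  have h1 : ∀ i ∈ s, ((DirectSum.lof R ι E i) ∘ₗ (g' i)) x =
      DirectSum.lof R ι E i ((g ⟨x, hx⟩) i) := by
    intro i _
    rw [LinearMap.comp_apply, hg' i x hx]
    rfl
  rw [Finset.sum_congr rfl h1]
  have h2 : (∑ i ∈ s, DirectSum.lof R ι E i ((g ⟨x, hx⟩) i)) j =
      ∑ i ∈ s, (DirectSum.lof R ι E i ((g ⟨x, hx⟩) i)) j := by
    exact DFinsupp.finset_sum_apply _ _ _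
  rw [h2]
  by_cases hj : j ∈ s
  · rw [Finset.sum_eq_single j]
    · exact DirectSum.lof_apply R j _
    · intro i _ hij
      rw [DirectSum.lof_eq_of]
      exact DirectSum.of_eq_of_ne i j _ (Ne.symm hij)
    · intro h; exact absurd hj h
  · rw [hs _ j hj]
    refine Finset.sum_eq_zero fun i hi => ?_
    have hij : i ≠ j := fun h => hj (h ▸ hi)
    rw [DirectSum.lof_eq_of]
    exact DirectSum.of_eq_of_ne i j _ (Ne.symm hij)

end bass

section powerTorsion

variable {I : Type u} [AddCommGroup I] [Module R I]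

/-- the power-torsion submodule -/
abbrev Γ (J : Ideal R) (I : Type u) [AddCommGroup I] [Module R I] : Submodule R I :=
  ⨆ n : ℕ, Submodule.torsionBySet R I ((J ^ n : Ideal R) : Set R)

theorem torsion_mono (J : Ideal R) :
    Monotone fun n : ℕ => Submodule.torsionBySet R I ((J ^ n : Ideal R) : Set R) := by
  intro n m hnm x hx
  rw [Submodule.mem_torsionBySet_iff] at hx ⊢
  rintro ⟨a, ha⟩
  exact hx ⟨a, Ideal.pow_le_pow_right hnm ha⟩

theorem mem_Γ_iff (J : Ideal R) (x : I) : x ∈ Γ J I ↔ ∃ n : ℕ, ∀ a ∈ J ^ n, a • x = 0 := by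
  rw [Submodule.mem_iSup_of_directed _ (torsion_mono J).directed_le]
  refine exists_congr fun n => ?_
  rw [Submodule.mem_torsionBySet_iff]
  exact ⟨fun h a ha => h ⟨a, ha⟩, fun h a => h a.1 a.2⟩

theorem injective_Γ [IsNoetherianRing R] (hI : Module.Injective R I) (J : Ideal R) :
    Module.Injective R ↥(Γ J I) := by
  classical
  apply Module.Baer.injective
  intro 𝔞 g
  -- a uniform exponent
  obtain ⟨n, hn⟩ : ∃ n : ℕ, ∀ x : 𝔞, ∀ a ∈ J ^ n, a • ((g x : Γ J I) : I) = 0 := by
    obtain ⟨t, ht⟩ := (IsNoetherian.noetherian (⊤ : Submodule R 𝔞))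
    choose e he using fun y : 𝔞 => (mem_Γ_iff J ((g y : Γ J I) : I)).1 (g y).2
    refine ⟨t.sup e, ?_⟩
    intro x a ha
    have hx : x ∈ Submodule.span R (t : Set 𝔞) := by rw [ht]; trivial
    induction hx using Submodule.span_induction with
    | mem y hy => exact he y a (Ideal.pow_le_pow_right (Finset.le_sup hy) ha)
    | zero => simp
    | add y z _ _ hy hz =>
      rw [map_add, Submodule.coe_add, smul_add, hy, hz, add_zero]
    | smul c y _ hy =>
      rw [map_smul, Submodule.coe_smul, smul_comm, hy, smul_zero]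
  -- Artin–Rees
  obtain ⟨k, hk⟩ := Ideal.exists_pow_inf_eq_pow_smul J (𝔞 : Submodule R R)
  have hAR : ∀ x : R, x ∈ J ^ (n + k) → ∀ hx : x ∈ 𝔞, g ⟨x, hx⟩ = 0 := by
    intro x hxJ hx
    have h1 : x ∈ J ^ (n + k) • (⊤ : Submodule R R) ⊓ 𝔞 := by
      refine ⟨?_, hx⟩
      rw [Ideal.smul_top_eq_map, Algebra.algebraMap_self, Ideal.map_id]
      exact hxJ
    rw [hk (n + k) (Nat.le_add_left k n), Nat.add_sub_cancel] at h1
    have key : ∀ y ∈ J ^ n • (J ^ k • (⊤ : Submodule R R) ⊓ 𝔞), ∃ hy : y ∈ 𝔞, g ⟨y, hy⟩ = 0 := by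
      intro y hy
      refine Submodule.smul_induction_on hy ?_ ?_
      · intro r hr z hz
        have hz𝔞 : z ∈ 𝔞 := hz.2
        refine ⟨𝔞.smul_mem r hz𝔞, ?_⟩
        have : (⟨r • z, 𝔞.smul_mem r hz𝔞⟩ : 𝔞) = r • ⟨z, hz𝔞⟩ := rfl
        rw [this, map_smul]
        apply Subtype.ext
        rw [Submodule.coe_smul]
        exact hn ⟨z, hz𝔞⟩ r hr
      · intro y z hy hz
        obtain ⟨hy1, hy2⟩ := hy
        obtain ⟨hz1, hz2⟩ := hz
        refine ⟨𝔞.add_mem hy1 hz1, ?_⟩
        have : (⟨y + z, 𝔞.add_mem hy1 hz1⟩ : 𝔞) = ⟨y, hy1⟩ + ⟨z, hz1⟩ := rfl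
        rw [this, map_add, hy2, hz2, add_zero]
    obtain ⟨_, h2⟩ := key x h1
    exact h2
  -- factor through `R ⧸ J^(n+k)`
  set 𝔟 : Ideal R := J ^ (n + k) with h𝔟
  let π : 𝔞 →ₗ[R] R ⧸ 𝔟 := (Submodule.mkQ 𝔟) ∘ₗ (Submodule.subtype 𝔞)
  let g₀ : 𝔞 →ₗ[R] I := (Submodule.subtype (Γ J I)) ∘ₗ g
  have hker : LinearMap.ker π ≤ LinearMap.ker g₀ := by
    intro x hx
    rw [LinearMap.mem_ker] at hx ⊢
    have hx𝔟 : (x : R) ∈ 𝔟 := (Submodule.Quotient.mk_eq_zero 𝔟).1 hx
    have := hAR x.1 hx𝔟 x.2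
    simp only [g₀, LinearMap.comp_apply, Submodule.subtype_apply]
    rw [show (⟨x.1, x.2⟩ : 𝔞) = x from rfl] at this
    rw [this]; rfl
  let gbar : (𝔞 ⧸ LinearMap.ker π) →ₗ[R] I := (LinearMap.ker π).liftQ g₀ hker
  let πbar : (𝔞 ⧸ LinearMap.ker π) →ₗ[R] R ⧸ 𝔟 := (LinearMap.ker π).liftQ π le_rfl
  have hπbar : Function.Injective πbar := by
    rw [← LinearMap.ker_eq_bot]
    exact Submodule.ker_liftQ_eq_bot _ _ _ le_rfl
  obtain ⟨h, hh⟩ := exists_extension hI πbar hπbar gbar
  have hmem : ∀ r : R, h (Submodule.mkQ 𝔟 r) ∈ Γ J I := by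
    intro r
    rw [mem_Γ_iff]
    refine ⟨n + k, fun a ha => ?_⟩
    rw [← map_smul, ← map_smul, smul_eq_mul]
    have : Submodule.mkQ 𝔟 (a * r) = 0 := by
      rw [Submodule.mkQ_apply]
      exact (Submodule.Quotient.mk_eq_zero 𝔟).2 (Ideal.mul_mem_right _ _ ha)
    rw [this, map_zero]
  refine ⟨LinearMap.codRestrict (Γ J I) (h ∘ₗ Submodule.mkQ 𝔟) hmem, ?_⟩
  intro x hx
  apply Subtype.ext
  rw [LinearMap.codRestrict_apply, LinearMap.comp_apply]
  have h3 := LinearMap.congr_fun hh ((LinearMap.ker π).mkQ ⟨x, hx⟩)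
  simp only [LinearMap.comp_apply, πbar, gbar, Submodule.mkQ_apply, Submodule.liftQ_apply] at h3
  exact h3

end powerTorsion

end Groth.Agent.Lib.InjHull_helper3
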