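import Mathlib
import Groth.Prelude.Def_Wider
import Groth.Agent.Lib.InjHull_helper3

/-!
# Injective resolutions inside a class of objects; power-torsion injective resolutions (helper7)
-/

open CategoryTheory CategoryTheory.Limits

namespace Groth.Agent.Lib.TorsResH7

universe u v

section Generic

variable {C : Type u} [Category.{v} C] [Abelian C]

lemma exact_comp_mono {A B D D' : C} (i : A ⟶ B) (π : B ⟶ D') (j : D' ⟶ D) (hj : Mono j)
    (w : i ≫ π = 0) (hex : (ShortComplex.mk i π w).Exact) :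
    (ShortComplex.mk i (π ≫ j) (by rw [← Category.assoc, w, zero_comp])).Exact := by
  let α : ShortComplex.mk i π w ⟶
      ShortComplex.mk i (π ≫ j) (by rw [← Category.assoc, w, zero_comp]) :=
    { τ₁ := 𝟙 _, τ₂ := 𝟙 _, τ₃ := j }
  have : Epi α.τ₁ := by dsimp [α]; infer_instance
  have : IsIso α.τ₂ := by dsimp [α]; infer_instance
  have : Mono α.τ₃ := by dsimp [α]; infer_instance
  rw [← ShortComplex.exact_iff_of_epi_of_isIso_of_mono α]
  exact hex

lemma exact_epi_comp {A A' B D : C} (p : A ⟶ A') (i : A' ⟶ B) (g : B ⟶ D) (hp : Epi p)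
    (w : i ≫ g = 0) (hex : (ShortComplex.mk i g w).Exact) :
    (ShortComplex.mk (p ≫ i) g (by rw [Category.assoc, w, comp_zero])).Exact := by
  let α : ShortComplex.mk (p ≫ i) g (by rw [Category.assoc, w, comp_zero]) ⟶
      ShortComplex.mk i g w :=
    { τ₁ := p, τ₂ := 𝟙 _, τ₃ := 𝟙 _ }
  have : Epi α.τ₁ := by dsimp [α]; infer_instance
  have : IsIso α.τ₂ := by dsimp [α]; infer_instance
  have : Mono α.τ₃ := by dsimp [α]; infer_instance
  rw [ShortComplex.exact_iff_of_epi_of_isIso_of_mono α]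
  exact hex

/-- data: for each object an injective "envelope" with property `P`, mono when `X` has `P` -/
structure Env (P : C → Prop) where
  J : C → C
  i : ∀ X, X ⟶ J X
  inj : ∀ X, Injective (J X)
  prop : ∀ X, P (J X)
  mono : ∀ X, P X → Mono (i X)

namespace Env

variable {P : C → Prop} (e : Env P)

/-- the cosyzygies -/
noncomputable def Q (Z : C) : ℕ → C
  | 0 => Z
  | n + 1 => cokernel (e.i (Q Z n))

noncomputable def d (Z : C) (n : ℕ) : e.J (e.Q Z n) ⟶ e.J (e.Q Z (n + 1)) :=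
  cokernel.π (e.i (e.Q Z n)) ≫ e.i (e.Q Z (n + 1))

lemma i_comp_d (Z : C) (n : ℕ) : e.i (e.Q Z n) ≫ e.d Z n = 0 :=
  (cokernel.condition_assoc _ _).trans zero_comp

lemma d_comp_d (Z : C) (n : ℕ) : e.d Z n ≫ e.d Z (n + 1) = 0 := by
  have h := e.i_comp_d Z (n + 1)
  calc e.d Z n ≫ e.d Z (n + 1)
      = cokernel.π (e.i (e.Q Z n)) ≫ (e.i (e.Q Z (n + 1)) ≫ e.d Z (n + 1)) :=
        Category.assoc _ _ _
    _ = 0 := (congrArg (fun x => cokernel.π (e.i (e.Q Z n)) ≫ x) h).trans comp_zero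

noncomputable def K (Z : C) : CochainComplex C ℕ :=
  CochainComplex.of (fun n => e.J (e.Q Z n)) (e.d Z) (e.d_comp_d Z)

lemma P_Q (hcok : ∀ {X Y : C} (f : X ⟶ Y), P Y → P (cokernel f)) (Z : C) (hZ : P Z) :
    ∀ n, P (e.Q Z n)
  | 0 => hZ
  | _ + 1 => hcok _ (e.prop _)

lemma exact_zero (Z : C) (n : ℕ) (h : Mono (e.i (e.Q Z (n + 1)))) :
    (ShortComplex.mk (e.i (e.Q Z n)) (e.d Z n) (e.i_comp_d Z n)).Exact := by
  exact exact_comp_mono (e.i (e.Q Z n)) (cokernel.π (e.i (e.Q Z n))) (e.i (e.Q Z (n + 1))) h _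
    (ShortComplex.exact_cokernel _)

lemma exact_d (Z : C) (n : ℕ) (h : Mono (e.i (e.Q Z (n + 2)))) :
    (ShortComplex.mk (e.d Z n) (e.d Z (n + 1)) (e.d_comp_d Z n)).Exact :=
  exact_epi_comp (cokernel.π (e.i (e.Q Z n))) (e.i (e.Q Z (n + 1))) (e.d Z (n + 1)) inferInstance _
    (e.exact_zero Z (n + 1) h)

lemma K_d (Z : C) (n : ℕ) : (e.K Z).d n (n + 1) = e.d Z n :=
  CochainComplex.of_d (fun n => e.J (e.Q Z n)) (e.d Z) n

lemma exactAt_succ (hcok : ∀ {X Y : C} (f : X ⟶ Y), P Y → P (cokernel f)) (Z : C) (hZ : P Z)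
    (n : ℕ) : (e.K Z).ExactAt (n + 1) := by
  rw [HomologicalComplex.exactAt_iff' _ n (n + 1) (n + 1 + 1) (by simp) (by simp)]
  have hex := e.exact_d Z n (e.mono _ (e.P_Q hcok Z hZ (n + 2)))
  refine (ShortComplex.exact_iff_of_iso ?_).2 hex
  refine ShortComplex.isoMk (Iso.refl _) (Iso.refl _) (Iso.refl _) ?_ ?_
  · show 𝟙 _ ≫ e.d Z n = (e.K Z).d n (n + 1) ≫ 𝟙 _
    rw [Category.id_comp, Category.comp_id, K_d]
  · show 𝟙 _ ≫ e.d Z (n + 1) = (e.K Z).d (n + 1) (n + 1 + 1) ≫ 𝟙 _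
    rw [Category.id_comp, Category.comp_id, K_d]

noncomputable def ι (Z : C) : (CochainComplex.single₀ C).obj Z ⟶ e.K Z :=
  (CochainComplex.fromSingle₀Equiv _ _).symm ⟨e.i (e.Q Z 0), by
    rw [K_d]
    exact e.i_comp_d Z 0⟩

lemma ι_f_zero (Z : C) : (e.ι Z).f 0 = e.i (e.Q Z 0) :=
  CochainComplex.fromSingle₀Equiv_symm_apply_f_zero _ _

lemma quasiIso (hcok : ∀ {X Y : C} (f : X ⟶ Y), P Y → P (cokernel f)) (Z : C) (hZ : P Z) :
    QuasiIso (e.ι Z) := ⟨fun n => by
  cases n with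
  | zero =>
    rw [CochainComplex.quasiIsoAt₀_iff, ShortComplex.quasiIso_iff_of_zeros]
    · haveI : Mono (e.i (e.Q Z 0)) := e.mono _ (e.P_Q hcok Z hZ 0)
      refine (ShortComplex.exact_and_mono_f_iff_of_iso ?_).2
        ⟨e.exact_zero Z 0 (e.mono _ (e.P_Q hcok Z hZ 1)), by dsimp; infer_instance⟩
      refine ShortComplex.isoMk (Iso.refl _) (Iso.refl _) (Iso.refl _) ?_ ?_
      · show 𝟙 _ ≫ e.i (e.Q Z 0) = (e.ι Z).f 0 ≫ 𝟙 _
        rw [Category.id_comp, Category.comp_id, ι_f_zero]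
      · show 𝟙 _ ≫ e.d Z 0 = (e.K Z).d 0 1 ≫ 𝟙 _
        rw [Category.id_comp, Category.comp_id, K_d]
    all_goals rfl
  | succ n =>
    rw [quasiIsoAt_iff_exactAt]
    · exact e.exactAt_succ hcok Z hZ n
    · exact CochainComplex.exactAt_succ_single_obj _ _⟩

include e in
theorem exists_injectiveResolution (hcok : ∀ {X Y : C} (f : X ⟶ Y), P Y → P (cokernel f))
    (Z : C) (hZ : P Z) : ∃ J : InjectiveResolution Z, ∀ n, P (J.cocomplex.X n) :=
  ⟨{ cocomplex := e.K Z
     injective := fun n => e.inj _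
     ι := e.ι Z
     quasiIso := e.quasiIso hcok Z hZ }, fun n => e.prop _⟩

end Env

end Generic

section Module

open Groth.Agent.Lib.InjHull_helper3

variable {R : Type u} [CommRing R] (I : Ideal R)

/-- an injective module containing `X` -/
noncomputable abbrev U (X : ModuleCat.{u} R) : ModuleCat.{u} R := Injective.under X

/-- torsion envelope -/
noncomputable abbrev TJ (X : ModuleCat.{u} R) : ModuleCat.{u} R :=
  ModuleCat.of R (Γ I (U X))

lemma TJ_tors (X : ModuleCat.{u} R) : LocCoh.IsPowerTorsion I (TJ I X) := by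
  intro m
  obtain ⟨n, hn⟩ := (mem_Γ_iff I (m : Γ I (U X)).1).1 m.2
  exact ⟨n, fun a ha => Subtype.ext (hn a ha)⟩

lemma TJ_inj [IsNoetherianRing R] (X : ModuleCat.{u} R) : Injective (TJ I X) := by
  have h1 : Injective (ModuleCat.of R (U X)) :=
    (inferInstance : Injective (Injective.under X))
  have h2 : Module.Injective R (U X) :=
    Module.injective_module_of_injective_object R _
  have h3 := injective_Γ h2 I
  exact Module.injective_object_of_injective_module R _

lemma ι_mem (X : ModuleCat.{u} R) (h : LocCoh.IsPowerTorsion I X) (x : X) :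
    (Injective.ι X).hom x ∈ Γ I (U X) := by
  obtain ⟨n, hn⟩ := h x
  exact (mem_Γ_iff I _).2 ⟨n, fun a ha => by rw [← map_smul, hn a ha, map_zero]⟩

open Classical in
noncomputable def Ti (X : ModuleCat.{u} R) : X ⟶ TJ I X :=
  if h : LocCoh.IsPowerTorsion I X then
    ModuleCat.ofHom (LinearMap.codRestrict (Γ I (U X)) (Injective.ι X).hom
      (ι_mem I X h))
  else 0

lemma Ti_mono (X : ModuleCat.{u} R) (h : LocCoh.IsPowerTorsion I X) : Mono (Ti I X) := by
  rw [Ti, dif_pos h, ModuleCat.mono_iff_injective]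
  intro a b hab
  have h1 : (Injective.ι X).hom a = (Injective.ι X).hom b := congrArg Subtype.val hab
  exact (ModuleCat.mono_iff_injective _).1 (inferInstance : Mono (Injective.ι X)) h1

lemma Ti_apply (X : ModuleCat.{u} R) (h : LocCoh.IsPowerTorsion I X) (x : X) :
    (((Ti I X).hom x : Γ I (U X)) : U X) = (Injective.ι X).hom x := by
  rw [Ti, dif_pos h]
  rfl

/-- the torsion envelope structure -/
noncomputable def torsEnv [IsNoetherianRing R] :
    Env (C := ModuleCat.{u} R) (fun X => LocCoh.IsPowerTorsion I X) where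
  J := TJ I
  i := Ti I
  inj := TJ_inj I
  prop := TJ_tors I
  mono := Ti_mono I

lemma tors_cokernel {X Y : ModuleCat.{u} R} (f : X ⟶ Y) (hY : LocCoh.IsPowerTorsion I Y) :
    LocCoh.IsPowerTorsion I (cokernel f : ModuleCat.{u} R) := by
  intro y'
  obtain ⟨y, rfl⟩ := (ModuleCat.epi_iff_surjective (cokernel.π f)).1 inferInstance y'
  obtain ⟨n, hn⟩ := hY y
  exact ⟨n, fun a ha => by rw [← map_smul, hn a ha, map_zero]⟩

theorem exists_torsion_injectiveResolution [IsNoetherianRing R] (M : ModuleCat.{u} R)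
    (hM : LocCoh.IsPowerTorsion I M) :
    ∃ J : InjectiveResolution M, ∀ n : ℕ, LocCoh.IsPowerTorsion I (J.cocomplex.X n) :=
  (torsEnv I).exists_injectiveResolution (fun f hY => tors_cokernel I f hY) M hM

end Module

end Groth.Agent.Lib.TorsResH7
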