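import Mathlib
import Groth.Prelude.Def_Wider
import Groth.Agent.Lib.TorsRes_helper7
import Groth.Agent.Lib.ExtCompare2_helper7
import Groth.Agent.Lib.LocCohTors_helper7
import Groth.Agent.Lib.LocCohDepth_helper7

/-!
# Local cohomology of power-torsion modules over a Noetherian ring (helper7)
-/

open CategoryTheory CategoryTheory.Limits Opposite

namespace Groth.Agent.Lib.ExtCompareH7

universe u

variable {R : Type u} [CommRing R]

/-- transfer: an element of Mathlib's `Ext` functor in positive degree has a companion in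
`Abelian.Ext` such that vanishing of a pull-back of the companion implies vanishing of the
image under the corresponding transition map. -/
theorem exists_companion {X : ModuleCat.{u} R} (M : ModuleCat.{u} R) (p : ℕ)
    (ξ : E (p + 1) X M) :
    ∃ x : Abelian.Ext X M (p + 1), ∀ (X' : ModuleCat.{u} R) (q : X' ⟶ X),
      (Abelian.Ext.mk₀ q).comp x (zero_add (p + 1)) = 0 →
        (((Ext R (ModuleCat.{u} R) (p + 1)).map q.op).app M).hom ξ = 0 := by
  let P := ProjectiveResolution.of X
  obtain ⟨z, hz⟩ := π_surjective (P.complex.linearYonedaObj R M) (p + 1)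
    ((P.isoExt (p + 1) M).hom.hom ξ)
  have hfco : P.complex.d (p + 2) (p + 1) ≫
      ((P.complex.linearYonedaObj R M).iCycles (p + 1)).hom z = 0 := by
    have h2 := congrArg (fun α => α.hom z)
      ((P.complex.linearYonedaObj R M).iCycles_d (p + 1) (p + 2))
    exact h2
  refine ⟨P.extMk (((P.complex.linearYonedaObj R M).iCycles (p + 1)).hom z) (p + 2) rfl hfco, ?_⟩
  intro X' q hq
  let P' := ProjectiveResolution.of X'
  let φ := ProjectiveResolution.lift q P' P
  have comm : φ.f 0 ≫ P.π.f 0 = P'.π.f 0 ≫ q := ProjectiveResolution.lift_commutes_zero q P' P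
  have hco' : P'.complex.d (p + 2) (p + 1) ≫
      (φ.f (p + 1) ≫ ((P.complex.linearYonedaObj R M).iCycles (p + 1)).hom z) = 0 := by
    rw [← Category.assoc, ← φ.comm, Category.assoc, hfco, comp_zero]
  let φH : ProjectiveResolution.Hom P' P q := ⟨φ, by simpa using comm⟩
  have e2 := ProjectiveResolution.mk₀_comp_extMk
    (((P.complex.linearYonedaObj R M).iCycles (p + 1)).hom z) (p + 2) rfl hfco φH
  rw [e2] at hq
  obtain ⟨g, hg⟩ := (P'.extMk_eq_zero_iff _ (p + 2) rfl hco' p rfl).1 hq
  apply iso_hom_eq_zero (P'.isoExt (p + 1) M)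
  have hN := isoExt_naturality_X q P' P φ comm (p + 1) M
  have h1 := congrArg (fun α => α.hom ξ) hN
  simp only [comp_apply'] at h1
  rw [h1, ← hz, homologyMap_π, π_eq_zero_iff _ p (p + 1) (CochainComplex.prev_nat_succ p)]
  refine ⟨g, ?_⟩
  rw [cyclesMap_i, pre_apply, d_apply]
  exact hg

end Groth.Agent.Lib.ExtCompareH7

namespace Groth.Agent.Lib.LocCohTorsVanishH7

open Groth.Agent.Lib.TorsResH7 Groth.Agent.Lib.ExtCompareH7

universe u

variable {R : Type u} [CommRing R]

section Quot

variable (J : Ideal R)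

lemma mk_eq_smul_one (r : R) :
    (Ideal.Quotient.mk J r : R ⧸ J) = r • (Ideal.Quotient.mk J 1 : R ⧸ J) := by
  rw [Algebra.smul_def, Ideal.Quotient.algebraMap_eq, ← map_mul, mul_one]

/-- a morphism out of `R/J` is determined by the image of `1` -/
lemma hom_ext_one {N : ModuleCat.{u} R} (f g : ModuleCat.of R (R ⧸ J) ⟶ N)
    (h : f.hom (Ideal.Quotient.mk J 1) = g.hom (Ideal.Quotient.mk J 1)) : f = g := by
  apply ModuleCat.hom_ext
  apply LinearMap.ext
  intro x
  obtain ⟨r, rfl⟩ := Ideal.Quotient.mk_surjective x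
  rw [mk_eq_smul_one, map_smul, map_smul, h]

/-- the morphism `R/J ⟶ N` with `1 ↦ n` -/
noncomputable def mkHom (N : ModuleCat.{u} R) (n : N) (hn : ∀ a ∈ J, a • n = 0) :
    ModuleCat.of R (R ⧸ J) ⟶ N :=
  ModuleCat.ofHom (Submodule.liftQ J (LinearMap.toSpanSingleton R N n) (by
    intro a ha
    rw [LinearMap.mem_ker, LinearMap.toSpanSingleton_apply]
    exact hn a ha))

lemma mkHom_one (N : ModuleCat.{u} R) (n : N) (hn : ∀ a ∈ J, a • n = 0) :
    (mkHom J N n hn).hom (Ideal.Quotient.mk J 1) = n := by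
  show (Submodule.liftQ J (LinearMap.toSpanSingleton R N n) _) (Submodule.Quotient.mk 1) = n
  rw [Submodule.liftQ_apply, LinearMap.toSpanSingleton_apply, one_smul]

/-- evaluation at `1` -/
noncomputable def ev1 (N : ModuleCat.{u} R) :
    ModuleCat.of R (ModuleCat.of R (R ⧸ J) ⟶ N) ⟶ N :=
  ModuleCat.ofHom
    { toFun := fun f => f.hom (Ideal.Quotient.mk J 1)
      map_add' := fun f g => by simp
      map_smul' := fun r f => by simp }

lemma ev1_apply (N : ModuleCat.{u} R) (f : ModuleCat.of R (R ⧸ J) ⟶ N) :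
    (ev1 J N).hom f = f.hom (Ideal.Quotient.mk J 1) := rfl

end Quot

section Vanish

variable (I : Ideal R)

abbrev Rq (k : ℕ) : ModuleCat.{u} R := ModuleCat.of R (R ⧸ I ^ k)

theorem ext_vanish [IsNoetherianRing R] : ∀ (p : ℕ) (N : ModuleCat.{u} R)
    (_ : LocCoh.IsPowerTorsion I N) (k : ℕ) (x : Abelian.Ext (Rq I k) N (p + 1)),
    ∃ k', k ≤ k' ∧ ∀ q : Rq I k' ⟶ Rq I k,
      q.hom (Ideal.Quotient.mk _ 1) = Ideal.Quotient.mk _ 1 →
      (Abelian.Ext.mk₀ q).comp x (zero_add (p + 1)) = 0 := by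
  intro p
  induction p with
  | zero =>
    intro N hN k x
    let f := Ti I N
    haveI : Mono f := Ti_mono I N hN
    haveI : Injective (TJ I N) := TJ_inj I N
    let S := ShortComplex.mk f (cokernel.π f) (cokernel.condition f)
    have hS : S.ShortExact := { exact := ShortComplex.exact_cokernel f }
    have h0 : x.comp (Abelian.Ext.mk₀ S.f) (add_zero 1) = 0 :=
      Abelian.Ext.eq_zero_of_injective _
    obtain ⟨y, hy⟩ := Abelian.Ext.covariant_sequence_exact₁ _ hS x h0 (zero_add 1)
    obtain ⟨g, rfl⟩ := (Abelian.Ext.mk₀_bijective _ _).2 y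
    obtain ⟨e, he⟩ := (ModuleCat.epi_iff_surjective (cokernel.π f)).1 inferInstance
      (g.hom (Ideal.Quotient.mk _ 1))
    obtain ⟨m, hm⟩ := TJ_tors I N e
    refine ⟨max k m, le_max_left _ _, fun q hq => ?_⟩
    let h : Rq I (max k m) ⟶ TJ I N :=
      mkHom (I ^ (max k m)) (TJ I N) e
        (fun a ha => hm a (Ideal.pow_le_pow_right (le_max_right _ _) ha))
    have hcomm : h ≫ cokernel.π f = q ≫ g := by
      apply hom_ext_one
      rw [ExtCompareH7.comp_apply', ExtCompareH7.comp_apply', hq, mkHom_one, he]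
    rw [← hy, Abelian.Ext.mk₀_comp_mk₀_assoc, ← hcomm, ← Abelian.Ext.mk₀_comp_mk₀_assoc]
    have h1 : (Abelian.Ext.mk₀ (cokernel.π f)).comp hS.extClass (zero_add 1) = 0 :=
      hS.comp_extClass
    rw [h1, Abelian.Ext.comp_zero]
  | succ p ih =>
    intro N hN k x
    let f := Ti I N
    haveI : Mono f := Ti_mono I N hN
    haveI : Injective (TJ I N) := TJ_inj I N
    let S := ShortComplex.mk f (cokernel.π f) (cokernel.condition f)
    have hS : S.ShortExact := { exact := ShortComplex.exact_cokernel f }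
    have h0 : x.comp (Abelian.Ext.mk₀ S.f) (add_zero (p + 1 + 1)) = 0 :=
      Abelian.Ext.eq_zero_of_injective _
    obtain ⟨y, hy⟩ := Abelian.Ext.covariant_sequence_exact₁ _ hS x h0 (rfl : p + 1 + 1 = p + 1 + 1)
    have hQ : LocCoh.IsPowerTorsion I (cokernel f : ModuleCat.{u} R) :=
      tors_cokernel I f (TJ_tors I N)
    obtain ⟨k', hkk', hk'⟩ := ih (cokernel f) hQ k y
    refine ⟨k', hkk', fun q hq => ?_⟩
    have h1 := hk' q hq
    rw [← hy, ← Abelian.Ext.comp_assoc (Abelian.Ext.mk₀ q) y hS.extClass (zero_add (p + 1)) rfl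
      (by omega), h1, Abelian.Ext.zero_comp]

end Vanish

section Colim

variable (I : Ideal R)

open Groth.Agent.Lib.LocCohDepthH7

theorem H_subsingleton [IsNoetherianRing R] (N : Type u) [AddCommGroup N] [Module R N]
    (hN : LocCoh.IsPowerTorsion I N) (p : ℕ) : Subsingleton (LocCoh.H I (p + 1) N) := by
  have key : ∀ m : LocCoh.H I (p + 1) N, m = 0 := by
    intro m
    let F := localCohomology.diagram (localCohomology.idealPowersDiagram I) (p + 1)
    let M : ModuleCat.{u} R := ModuleCat.of R N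
    obtain ⟨k, y, hy⟩ := Groth.Agent.Lib.LocCohTorsH7.exists_rep I (p + 1) M m
    obtain ⟨x, hx⟩ := exists_companion M p y
    obtain ⟨k', hkk', hk'⟩ := ext_vanish I p M hN (unop (unop k)) x
    let w : k ⟶ op (op k') := (homOfLE hkk').op.op
    have h0 : ((F.map w).app M).hom y = 0 := by
      rw [diagram_map_eq]
      exact hx _ _ (hk' _ rfl)
    have hw := congrArg (fun α => (α.app M).hom y) (colimit.w F w)
    change ((colimit.ι F (op (op k'))).app M).hom (((F.map w).app M).hom y) =
      ((colimit.ι F k).app M).hom y at hw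
    rw [← hy, ← hw, h0, map_zero]
    rfl
  exact ⟨fun a b => by rw [key a, key b]⟩

end Colim

end Groth.Agent.Lib.LocCohTorsVanishH7
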