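import Mathlib
import Groth.Prelude.Def_Wider
import Groth.Agent.Lib.ExtTheta_helper7
import Groth.Agent.Lib.LocCohTorsVanish_helper7

/-!
# Pieces of the long exact sequence of local cohomology in the module variable (helper7)
-/

open CategoryTheory CategoryTheory.Limits Opposite

namespace Groth.Agent.Lib.LocCohLESH7

open Groth.Agent.Lib.ExtCompareH7

universe u

variable {R : Type u} [CommRing R] (I : Ideal R)

/-- the diagram -/
noncomputable abbrev F (i : ℕ) : ℕᵒᵖᵒᵖ ⥤ ModuleCat.{u} R ⥤ ModuleCat.{u} R :=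
  localCohomology.diagram (localCohomology.idealPowersDiagram I) i

/-- the module `R/I^k` at stage `k` -/
noncomputable abbrev Xk (k : ℕᵒᵖᵒᵖ) : ModuleCat.{u} R :=
  (localCohomology.ringModIdeals (localCohomology.idealPowersDiagram I)).obj (unop k)

/-- the transition map of quotients -/
noncomputable abbrev qw {k k' : ℕᵒᵖᵒᵖ} (w : k ⟶ k') : Xk I k' ⟶ Xk I k :=
  (localCohomology.ringModIdeals (localCohomology.idealPowersDiagram I)).map w.unop

/-- the canonical map from a stage -/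
noncomputable abbrev ιk (i : ℕ) (k : ℕᵒᵖᵒᵖ) (M : ModuleCat.{u} R) :
    E i (Xk I k) M ⟶ (localCohomology I i).obj M :=
  (colimit.ι (F I i) k).app M

lemma exists_rep (i : ℕ) (M : ModuleCat.{u} R) (m : ((localCohomology I i).obj M : ModuleCat.{u} R)) :
    ∃ (k : ℕᵒᵖᵒᵖ) (ξ : E i (Xk I k) M), (ιk I i k M).hom ξ = m :=
  Groth.Agent.Lib.LocCohTorsH7.exists_rep I i M m

lemma ι_trans (i : ℕ) (M : ModuleCat.{u} R) {k k' : ℕᵒᵖᵒᵖ} (w : k ⟶ k') (ξ : E i (Xk I k) M) :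
    (ιk I i k' M).hom ((((Ext R (ModuleCat.{u} R) i).map (qw I w).op).app M).hom ξ) =
      (ιk I i k M).hom ξ := by
  have hw := congrArg (fun α => (α.app M).hom ξ) (colimit.w (F I i) w)
  exact hw

lemma ι_nat (i : ℕ) {M M' : ModuleCat.{u} R} (g : M ⟶ M') (k : ℕᵒᵖᵒᵖ) (ξ : E i (Xk I k) M) :
    ((localCohomology I i).map g).hom ((ιk I i k M).hom ξ) =
      (ιk I i k M').hom ((((Ext R (ModuleCat.{u} R) i).obj (op (Xk I k))).map g).hom ξ) := by
  have h := congrArg (fun α => α.hom ξ) ((colimit.ι (F I i) k).naturality g)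
  exact h.symm

lemma exists_map_eq_zero (i : ℕ) (M : ModuleCat.{u} R) (k : ℕᵒᵖᵒᵖ) (ξ : E i (Xk I k) M)
    (h : (ιk I i k M).hom ξ = 0) :
    ∃ (k' : ℕᵒᵖᵒᵖ) (w : k ⟶ k'),
      (((Ext R (ModuleCat.{u} R) i).map (qw I w).op).app M).hom ξ = 0 := by
  have hc := isColimitOfPreserves ((evaluation _ _).obj M) (colimit.isColimit (F I i))
  haveI : PreservesFilteredColimitsOfSize.{0, 0} (forget (ModuleCat.{u} R)) :=
    preservesSmallestFilteredColimits_of_preservesFilteredColimits _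
  haveI : PreservesColimitsOfShape ℕᵒᵖᵒᵖ (forget (ModuleCat.{u} R)) :=
    PreservesFilteredColimitsOfSize.preserves_filtered_colimits _
  let ξ' : (((F I i).obj k).obj M : ModuleCat.{u} R) := ξ
  have h1 : ((colimit.ι (F I i) k).app M).hom ξ' = ((colimit.ι (F I i) k).app M).hom 0 := by
    rw [map_zero]; exact h
  obtain ⟨k', f, g, hfg⟩ := Concrete.isColimit_exists_of_rep_eq _ hc ξ' 0 h1
  have h2 : (((F I i).map f).app M).hom ξ' = (((F I i).map g).app M).hom 0 := hfg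
  rw [map_zero] at h2
  exact ⟨k', f, h2⟩

lemma map_comm (i : ℕ) {M M' : ModuleCat.{u} R} (g : M ⟶ M') {k k' : ℕᵒᵖᵒᵖ} (w : k ⟶ k')
    (ξ : E i (Xk I k) M) :
    (((Ext R (ModuleCat.{u} R) i).obj (op (Xk I k'))).map g).hom
      ((((Ext R (ModuleCat.{u} R) i).map (qw I w).op).app M).hom ξ) =
    (((Ext R (ModuleCat.{u} R) i).map (qw I w).op).app M').hom
      ((((Ext R (ModuleCat.{u} R) i).obj (op (Xk I k))).map g).hom ξ) := by
  have h := congrArg (fun α => α.hom ξ) (((Ext R (ModuleCat.{u} R) i).map (qw I w).op).naturality g)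
  exact h.symm

variable {S : ShortComplex (ModuleCat.{u} R)} (hS : S.ShortExact)

include hS in
/-- exactness in the middle, positive degrees -/
theorem exact_middle (p : ℕ) (m : ((localCohomology I (p + 1)).obj S.X₂ : ModuleCat.{u} R))
    (hm : ((localCohomology I (p + 1)).map S.g).hom m = 0) :
    ∃ m₁ : ((localCohomology I (p + 1)).obj S.X₁ : ModuleCat.{u} R),
      ((localCohomology I (p + 1)).map S.f).hom m₁ = m := by
  obtain ⟨k, ξ, hξ⟩ := exists_rep I (p + 1) S.X₂ m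
  have h1 : (ιk I (p + 1) k S.X₃).hom
      ((((Ext R (ModuleCat.{u} R) (p + 1)).obj (op (Xk I k))).map S.g).hom ξ) = 0 := by
    rw [← ι_nat, hξ, hm]
  obtain ⟨k', w, hw⟩ := exists_map_eq_zero I (p + 1) S.X₃ k _ h1
  rw [← map_comm] at hw
  set ξ' := (((Ext R (ModuleCat.{u} R) (p + 1)).map (qw I w).op).app S.X₂).hom ξ with hξ'
  have h3 : (Θ S.X₂ p ξ').comp (Abelian.Ext.mk₀ S.g) (add_zero (p + 1)) = 0 := by
    rw [← Θ_map_Y, hw, Θ_zero]
  obtain ⟨x₁, hx₁⟩ := Abelian.Ext.covariant_sequence_exact₂ _ hS (Θ S.X₂ p ξ') h3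
  obtain ⟨ξ₁, hξ₁⟩ := Θ_surjective S.X₁ p x₁
  have h4 : (((Ext R (ModuleCat.{u} R) (p + 1)).obj (op (Xk I k'))).map S.f).hom ξ₁ = ξ' :=
    Θ_injective _ _ (by rw [Θ_map_Y, hξ₁, hx₁])
  refine ⟨(ιk I (p + 1) k' S.X₁).hom ξ₁, ?_⟩
  rw [ι_nat, h4, hξ', ι_trans, hξ]

include hS in
/-- surjectivity of `H^{p+1}(g)` when `H^{p+2}` of the sub vanishes -/
theorem surjective_of_subsingleton (p : ℕ)
    (hsub : Subsingleton ((localCohomology I (p + 2)).obj S.X₁ : ModuleCat.{u} R)) :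
    Function.Surjective ((localCohomology I (p + 1)).map S.g).hom := by
  intro m''
  obtain ⟨k, ξ'', hξ''⟩ := exists_rep I (p + 1) S.X₃ m''
  obtain ⟨η, hη⟩ := Θ_surjective S.X₁ (p + 1) ((Θ S.X₃ p ξ'').comp hS.extClass rfl)
  have h0 : (ιk I (p + 2) k S.X₁).hom η = 0 := hsub.elim _ _
  obtain ⟨k', w, hw⟩ := exists_map_eq_zero I (p + 2) S.X₁ k η h0
  have h1 : (Abelian.Ext.mk₀ (qw I w)).comp ((Θ S.X₃ p ξ'').comp hS.extClass rfl)
      (zero_add (p + 2)) = 0 := by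
    rw [← hη, ← Θ_map_X, hw, Θ_zero]
  rw [← Abelian.Ext.comp_assoc (Abelian.Ext.mk₀ (qw I w)) (Θ S.X₃ p ξ'') hS.extClass
    (zero_add (p + 1)) rfl (by omega)] at h1
  obtain ⟨x₂, hx₂⟩ := Abelian.Ext.covariant_sequence_exact₃ _ hS _ rfl h1
  obtain ⟨ξ₂, hξ₂⟩ := Θ_surjective S.X₂ p x₂
  have h4 : (((Ext R (ModuleCat.{u} R) (p + 1)).obj (op (Xk I k'))).map S.g).hom ξ₂ =
      (((Ext R (ModuleCat.{u} R) (p + 1)).map (qw I w).op).app S.X₃).hom ξ'' :=
    Θ_injective _ _ (by rw [Θ_map_Y, hξ₂, hx₂, Θ_map_X])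
  refine ⟨(ιk I (p + 1) k' S.X₂).hom ξ₂, ?_⟩
  rw [ι_nat, h4, ι_trans, hξ'']

include hS in
/-- injectivity of `H^{p+2}(f)` when `H^{p+1}` of the quotient vanishes -/
theorem injective_of_subsingleton (p : ℕ)
    (hsub : Subsingleton ((localCohomology I (p + 1)).obj S.X₃ : ModuleCat.{u} R)) :
    Function.Injective ((localCohomology I (p + 2)).map S.f).hom := by
  rw [injective_iff_map_eq_zero]
  intro m₁ hm
  obtain ⟨k, ξ₁, hξ₁⟩ := exists_rep I (p + 2) S.X₁ m₁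
  have h1 : (ιk I (p + 2) k S.X₂).hom
      ((((Ext R (ModuleCat.{u} R) (p + 2)).obj (op (Xk I k))).map S.f).hom ξ₁) = 0 := by
    rw [← ι_nat, hξ₁, hm]
  obtain ⟨k', w, hw⟩ := exists_map_eq_zero I (p + 2) S.X₂ k _ h1
  rw [← map_comm] at hw
  set ξ' := (((Ext R (ModuleCat.{u} R) (p + 2)).map (qw I w).op).app S.X₁).hom ξ₁ with hξ'
  have h3 : (Θ S.X₁ (p + 1) ξ').comp (Abelian.Ext.mk₀ S.f) (add_zero (p + 2)) = 0 := by
    rw [← Θ_map_Y, hw, Θ_zero]
  obtain ⟨y, hy⟩ := Abelian.Ext.covariant_sequence_exact₁ _ hS (Θ S.X₁ (p + 1) ξ') h3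
    (rfl : p + 1 + 1 = p + 2)
  obtain ⟨η, hη⟩ := Θ_surjective S.X₃ p y
  have h0 : (ιk I (p + 1) k' S.X₃).hom η = 0 := hsub.elim _ _
  obtain ⟨k'', w', hw'⟩ := exists_map_eq_zero I (p + 1) S.X₃ k' η h0
  have h5 : (Abelian.Ext.mk₀ (qw I w')).comp y (zero_add (p + 1)) = 0 := by
    rw [← hη, ← Θ_map_X, hw', Θ_zero]
  have h6 : (Abelian.Ext.mk₀ (qw I w')).comp (Θ S.X₁ (p + 1) ξ') (zero_add (p + 2)) = 0 := by
    rw [← hy, ← Abelian.Ext.comp_assoc (Abelian.Ext.mk₀ (qw I w')) y hS.extClass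
      (zero_add (p + 1)) rfl (by omega), h5, Abelian.Ext.zero_comp]
  rw [← Θ_map_X] at h6
  have h7 : (((Ext R (ModuleCat.{u} R) (p + 2)).map (qw I w').op).app S.X₁).hom ξ' = 0 :=
    Θ_injective _ _ (by rw [h6, Θ_zero])
  rw [← hξ₁, ← ι_trans I (p + 2) S.X₁ w ξ₁, ← hξ', ← ι_trans I (p + 2) S.X₁ w' ξ', h7, map_zero]

end Groth.Agent.Lib.LocCohLESH7
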