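import Mathlib
import Groth.Prelude.Def_Wider
import Groth.Agent.Lib.LocCohLES_helper7
import Groth.Agent.Lib.Depth_helper5
import Groth.Agent.Lib.DT_helper3

/-!
# Consequences of the long exact sequence of local cohomology (helper7)
-/

open CategoryTheory CategoryTheory.Limits Opposite

namespace Groth.Agent.Lib.LocCohLESH7

open Groth.Agent.Lib.ExtCompareH7 Groth.Agent.Lib.LocCohTorsVanishH7

universe u

variable {R : Type u} [CommRing R] [IsNoetherianRing R] (I : Ideal R)

lemma subsingleton_of_torsion (X : ModuleCat.{u} R) (hT : LocCoh.IsPowerTorsion I X) (q : ℕ) :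
    Subsingleton ((localCohomology I (q + 1)).obj X : ModuleCat.{u} R) :=
  H_subsingleton I X hT q

variable {S : ShortComplex (ModuleCat.{u} R)} (hS : S.ShortExact)

include hS in
theorem bijective_g_of_torsion (hT : LocCoh.IsPowerTorsion I S.X₁) (p : ℕ) :
    Function.Bijective ((localCohomology I (p + 1)).map S.g).hom := by
  constructor
  · rw [injective_iff_map_eq_zero]
    intro m hm
    obtain ⟨m₁, rfl⟩ := exact_middle I hS p m hm
    rw [(subsingleton_of_torsion I S.X₁ hT p).elim m₁ 0, map_zero]
  · exact surjective_of_subsingleton I hS p (subsingleton_of_torsion I S.X₁ hT (p + 1))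

include hS in
theorem bijective_f_of_torsion (hT : LocCoh.IsPowerTorsion I S.X₃) (p : ℕ) :
    Function.Bijective ((localCohomology I (p + 2)).map S.f).hom := by
  constructor
  · exact injective_of_subsingleton I hS p (subsingleton_of_torsion I S.X₃ hT p)
  · intro m
    exact exact_middle I hS (p + 1) m ((subsingleton_of_torsion I S.X₃ hT (p + 1)).elim _ _)

/-- S11589 -/
theorem map_mkQ_torsionSub_bijective (N : Type u) [AddCommGroup N] [Module R N] (p : ℕ) :
    Function.Bijective
      ((localCohomology I (p + 1)).map (ModuleCat.ofHom (DRing.torsionSub I N).mkQ)).hom := by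
  have hex : Function.Exact (DRing.torsionSub I N).subtype (DRing.torsionSub I N).mkQ :=
    LinearMap.exact_subtype_mkQ _
  have hS := Groth.Agent.DepthLib.shortComplexOf_shortExact (DRing.torsionSub I N).subtype
    (DRing.torsionSub I N).mkQ (Submodule.injective_subtype _) (Submodule.mkQ_surjective _) hex
  have hT : LocCoh.IsPowerTorsion I (DRing.torsionSub I N) := by
    intro m
    obtain ⟨n, hn⟩ := m.2
    exact ⟨n, fun a ha => Subtype.ext (hn a ha)⟩
  exact bijective_g_of_torsion I hS hT p

/-- S11598 -/
theorem map_toDT_bijective (M : Type u) [AddCommGroup M] [Module R M] (p : ℕ) :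
    Function.Bijective
      ((localCohomology I (p + 2)).map (ModuleCat.ofHom (LocCoh.toDT I M))).hom := by
  let η := LocCoh.toDT I M
  let Rg := LinearMap.range η
  -- first sequence
  have hex1 : Function.Exact (LinearMap.ker η.rangeRestrict).subtype η.rangeRestrict :=
    LinearMap.exact_subtype_ker_map _
  have hS1 := Groth.Agent.DepthLib.shortComplexOf_shortExact
    (LinearMap.ker η.rangeRestrict).subtype η.rangeRestrict (Submodule.injective_subtype _)
    (LinearMap.surjective_rangeRestrict η) hex1
  have hT1 : LocCoh.IsPowerTorsion I (LinearMap.ker η.rangeRestrict) := by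
    intro m
    have h1 : η.rangeRestrict m.1 = 0 := m.2
    have h2 : η m.1 = 0 := congrArg Subtype.val h1
    obtain ⟨n, hn⟩ := (Groth.Agent.Lib.DT_helper3.mem_ker_toDT_iff I m.1).1 h2
    exact ⟨n, fun a ha => Subtype.ext (hn a ha)⟩
  have hb1 := bijective_g_of_torsion I hS1 hT1 (p + 1)
  -- second sequence
  have hex2 : Function.Exact Rg.subtype Rg.mkQ := LinearMap.exact_subtype_mkQ _
  have hS2 := Groth.Agent.DepthLib.shortComplexOf_shortExact Rg.subtype Rg.mkQ
    (Submodule.injective_subtype _) (Submodule.mkQ_surjective _) hex2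
  have hT2 : LocCoh.IsPowerTorsion I (LocCoh.DT I M ⧸ Rg) :=
    Groth.Agent.Lib.DT_helper3.isPowerTorsion_coker_toDT I
  have hb2 := bijective_f_of_torsion I hS2 hT2 p
  have hcomp : ModuleCat.ofHom η =
      ModuleCat.ofHom η.rangeRestrict ≫ ModuleCat.ofHom Rg.subtype := by
    rw [← ModuleCat.ofHom_comp]
    rfl
  rw [hcomp, Functor.map_comp]
  exact hb2.comp hb1

end Groth.Agent.Lib.LocCohLESH7
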