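import Mathlib
import Groth.Prelude.Def_Wider
import Groth.Agent.Lib.LocCohLES2_helper7
import Groth.Agent.Lib.DT2_helper3

/-!
# `H^1_I` via the ideal transform (helper7)
-/

open CategoryTheory CategoryTheory.Limits Opposite

namespace Groth.Agent.Lib.LocCohDTH7

open Groth.Agent.Lib.ExtCompareH7 Groth.Agent.Lib.LocCohTorsVanishH7 Groth.Agent.Lib.LocCohLESH7
open Groth.Agent.Lib.DT_helper3 LocCoh

universe u

variable {R : Type u} [CommRing R] (I : Ideal R)

/-- `0 → I^k → R → R/I^k → 0` -/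
noncomputable abbrev Sk (k : ℕ) : ShortComplex (ModuleCat.{u} R) :=
  Groth.Agent.DepthLib.shortComplexOf (I ^ k).subtype (I ^ k).mkQ (LinearMap.exact_subtype_mkQ _)

lemma hSk (k : ℕ) : (Sk I k).ShortExact :=
  Groth.Agent.DepthLib.shortComplexOf_shortExact _ _ (Submodule.injective_subtype _)
    (Submodule.mkQ_surjective _) _

/-- the class `δ_k(φ)` -/
noncomputable def dcls (N : ModuleCat.{u} R) (k : ℕ) (φ : ↥(I ^ k) →ₗ[R] N) :
    Abelian.Ext (Rq I k) N 1 :=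
  (hSk I k).extClass.comp (Abelian.Ext.mk₀ (ModuleCat.ofHom φ)) (add_zero 1)

lemma exists_phi (N : ModuleCat.{u} R) (k : ℕ) (x : Abelian.Ext (Rq I k) N 1) :
    ∃ φ : ↥(I ^ k) →ₗ[R] N, dcls I N k φ = x := by
  have hx : (Abelian.Ext.mk₀ (Sk I k).g).comp x (zero_add 1) = 0 := by
    haveI : Projective (Sk I k).X₂ :=
      (inferInstance : Projective (ModuleCat.of R R))
    exact Abelian.Ext.eq_zero_of_projective _
  obtain ⟨x₁, hx₁⟩ := Abelian.Ext.contravariant_sequence_exact₃ (hSk I k) N x hx (add_zero 1)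
  obtain ⟨φ, rfl⟩ := (Abelian.Ext.mk₀_bijective _ _).2 x₁
  exact ⟨φ.hom, hx₁⟩

/-- the morphism of short exact sequences -/
noncomputable def Φ {k k' : ℕ} (h : k ≤ k') (q : Rq I k' ⟶ Rq I k)
    (hq : q.hom (Ideal.Quotient.mk _ 1) = Ideal.Quotient.mk _ 1) : Sk I k' ⟶ Sk I k where
  τ₁ := ModuleCat.ofHom (Submodule.inclusion (Ideal.pow_le_pow_right h))
  τ₂ := 𝟙 _
  τ₃ := q
  comm₁₂ := by
    apply ModuleCat.hom_ext
    apply LinearMap.ext
    intro x
    rfl
  comm₂₃ := by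
    apply ModuleCat.hom_ext
    apply LinearMap.ext_ring
    exact hq.symm

lemma pullback_dcls (N : ModuleCat.{u} R) {k k' : ℕ} (h : k ≤ k') (q : Rq I k' ⟶ Rq I k)
    (hq : q.hom (Ideal.Quotient.mk _ 1) = Ideal.Quotient.mk _ 1) (φ : ↥(I ^ k) →ₗ[R] N) :
    (Abelian.Ext.mk₀ q).comp (dcls I N k φ) (zero_add 1) = dcls I N k' (res I h φ) := by
  have hnat := ShortComplex.ShortExact.extClass_naturality (hSk I k') (hSk I k) (Φ I h q hq)
  have e1 := Abelian.Ext.comp_assoc (Abelian.Ext.mk₀ q) (hSk I k).extClass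
    (Abelian.Ext.mk₀ (ModuleCat.ofHom φ)) (zero_add 1) (add_zero 1) (show 0 + 1 + 0 = 1 by omega)
  have e2 : ((Abelian.Ext.mk₀ q).comp (hSk I k).extClass (zero_add 1)).comp
      (Abelian.Ext.mk₀ (ModuleCat.ofHom φ)) (add_zero 1) =
      ((hSk I k').extClass.comp (Abelian.Ext.mk₀ (Φ I h q hq).τ₁) (add_zero 1)).comp
        (Abelian.Ext.mk₀ (ModuleCat.ofHom φ)) (add_zero 1) :=
    congrArg (fun y => y.comp (Abelian.Ext.mk₀ (ModuleCat.ofHom φ)) (add_zero 1)) hnat.symm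
  have e3 := Abelian.Ext.comp_assoc_of_third_deg_zero (hSk I k').extClass
    (Abelian.Ext.mk₀ (Φ I h q hq).τ₁) (Abelian.Ext.mk₀ (ModuleCat.ofHom φ)) (add_zero 1)
  have e4 := Abelian.Ext.mk₀_comp_mk₀ (Φ I h q hq).τ₁ (ModuleCat.ofHom φ)
  have e5 : (hSk I k').extClass.comp ((Abelian.Ext.mk₀ (Φ I h q hq).τ₁).comp
      (Abelian.Ext.mk₀ (ModuleCat.ofHom φ)) (add_zero 0)) (add_zero 1) =
      (hSk I k').extClass.comp (Abelian.Ext.mk₀ ((Φ I h q hq).τ₁ ≫ ModuleCat.ofHom φ))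
        (add_zero 1) :=
    congrArg (fun y => (hSk I k').extClass.comp y (add_zero 1)) e4
  exact e1.symm.trans (e2.trans (e3.trans e5))

lemma dcls_smulMap (N : ModuleCat.{u} R) (k : ℕ) (d : N) :
    dcls I N k (smulMap I k d) = 0 := by
  have h1 : ModuleCat.ofHom (smulMap I k d) =
      (Sk I k).f ≫ ModuleCat.ofHom (LinearMap.toSpanSingleton R N d) := by
    apply ModuleCat.hom_ext
    apply LinearMap.ext
    intro x
    rfl
  unfold dcls
  rw [h1, ← Abelian.Ext.mk₀_comp_mk₀, ← Abelian.Ext.comp_assoc_of_third_deg_zero,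
    (hSk I k).extClass_comp, Abelian.Ext.zero_comp]
  rfl

/-- if `η_N` is surjective then `H^1_I(N) = 0` -/
theorem H1_subsingleton_of_toDT_surjective (N : Type u) [AddCommGroup N] [Module R N]
    (hsurj : Function.Surjective (toDT I N)) : Subsingleton (LocCoh.H I 1 N) := by
  have key : ∀ m : LocCoh.H I 1 N, m = 0 := by
    intro m
    let M : ModuleCat.{u} R := ModuleCat.of R N
    obtain ⟨k, ξ, hξ⟩ := Groth.Agent.Lib.LocCohLESH7.exists_rep I 1 M m
    obtain ⟨φ, hφ⟩ := exists_phi I M (unop (unop k)) (Θ M 0 ξ)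
    obtain ⟨d, hd⟩ := hsurj (cls I (unop (unop k)) φ)
    rw [toDT_eq_cls' I (unop (unop k))] at hd
    have h0 : cls I (unop (unop k)) (φ - smulMap I (unop (unop k)) d) = 0 := by
      rw [map_sub, hd, sub_self]
    obtain ⟨k', hkk', hres⟩ := (cls_eq_zero_iff I _ _).1 h0
    let w : k ⟶ op (op k') := (homOfLE hkk').op.op
    have h2 : res I hkk' φ = smulMap I k' d := by
      have h3 : res I hkk' φ - res I hkk' (smulMap I (unop (unop k)) d) = 0 := by
        rw [← hres]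
        rfl
      rw [sub_eq_zero] at h3
      rw [h3]
      rfl
    have h1 : (Abelian.Ext.mk₀ (qw I w)).comp (Θ M 0 ξ) (zero_add 1) = 0 :=
      (congrArg (fun y => (Abelian.Ext.mk₀ (qw I w)).comp y (zero_add 1)) hφ.symm).trans
        ((pullback_dcls I M hkk' (qw I w) rfl φ).trans (by rw [h2, dcls_smulMap]; rfl))
    rw [← Θ_map_X] at h1
    have h4 : (((Ext R (ModuleCat.{u} R) 1).map (qw I w).op).app M).hom ξ = 0 :=
      Θ_injective _ _ (by rw [h1, Θ_zero])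
    rw [← hξ, ← ι_trans I 1 M w ξ, h4, map_zero]
  exact ⟨fun a b => by rw [key a, key b]⟩

/-- S11597 -/
theorem S11597_main [IsNoetherianRing R] (M : Type u) [AddCommGroup M] [Module R M] :
    DRing.torsionSub I (LocCoh.DT I M) = ⊥ ∧ Subsingleton (LocCoh.H I 1 (LocCoh.DT I M)) :=
  ⟨torsionSub_DT_eq_bot I, H1_subsingleton_of_toDT_surjective I _
    (Groth.Agent.Lib.DT2_helper3.toDT_DT_bijective I).2⟩

end Groth.Agent.Lib.LocCohDTH7
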