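import Mathlib
import Groth.Prelude.Def_Wider
import Groth.Agent.Lib.ExtCompare2_helper7

/-!
# Additivity and linearity of Mathlib's `Ext` functor and of local cohomology (helper7)
-/

open CategoryTheory CategoryTheory.Limits Opposite

namespace Groth.Agent.Lib.LocCohFunctH7

open Groth.Agent.Lib.ExtCompareH7

universe u

variable {R : Type u} [CommRing R]

lemma homologyMap_smul' {ι : Type} {c : ComplexShape ι} (a : R)
    {K L : HomologicalComplex (ModuleCat.{u} R) c} (φ : K ⟶ L) (i : ι) :
    HomologicalComplex.homologyMap (a • φ) i = a • HomologicalComplex.homologyMap φ i := by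
  have h : (HomologicalComplex.shortComplexFunctor (ModuleCat.{u} R) c i).map
      (a • φ) = a • (HomologicalComplex.shortComplexFunctor _ _ i).map φ := by
    ext <;> rfl
  show ShortComplex.homologyMap
    ((HomologicalComplex.shortComplexFunctor (ModuleCat.{u} R) c i).map (a • φ)) = _
  rw [h, ShortComplex.homologyMap_smul]
  rfl

section ExtFunctor

variable {X : ModuleCat.{u} R} (P : ProjectiveResolution X) {Y Y' : ModuleCat.{u} R}

lemma post_add (g g' : Y ⟶ Y') : post P (g + g') = post P g + post P g' := by
  apply HomologicalComplex.hom_ext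
  intro i
  apply ModuleCat.hom_ext
  refine LinearMap.ext fun (f : P.complex.X i ⟶ Y) => ?_
  show f ≫ (g + g') = f ≫ g + f ≫ g'
  exact Preadditive.comp_add _ _ _ _ _ _

lemma post_smul (s : R) (g : Y ⟶ Y') : post P (s • g) = s • post P g := by
  apply HomologicalComplex.hom_ext
  intro i
  apply ModuleCat.hom_ext
  refine LinearMap.ext fun (f : P.complex.X i ⟶ Y) => ?_
  show f ≫ (s • g) = s • (f ≫ g)
  rw [Linear.comp_smul]

variable (X)

theorem ext_map_add (n : ℕ) (g g' : Y ⟶ Y') :
    ((Ext R (ModuleCat.{u} R) n).obj (op X)).map (g + g') =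
      ((Ext R (ModuleCat.{u} R) n).obj (op X)).map g +
        ((Ext R (ModuleCat.{u} R) n).obj (op X)).map g' := by
  let P := ProjectiveResolution.of X
  rw [← cancel_mono (P.isoExt (R := R) n Y').hom, Preadditive.add_comp, isoExt_naturality_Y,
    isoExt_naturality_Y, isoExt_naturality_Y, ← Preadditive.comp_add,
    ← HomologicalComplex.homologyMap_add, post_add]

theorem ext_map_smul (n : ℕ) (s : R) (g : Y ⟶ Y') :
    ((Ext R (ModuleCat.{u} R) n).obj (op X)).map (s • g) =
      s • ((Ext R (ModuleCat.{u} R) n).obj (op X)).map g := by
  let P := ProjectiveResolution.of X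
  rw [← cancel_mono (P.isoExt (R := R) n Y').hom, Linear.smul_comp, isoExt_naturality_Y,
    isoExt_naturality_Y, ← Linear.comp_smul, ← homologyMap_smul', post_smul]

end ExtFunctor

section LC

variable (I : Ideal R) (i : ℕ) {M M' : ModuleCat.{u} R}

theorem colimit_map_add (g g' : M ⟶ M') :
    (colimit (localCohomology.diagram (localCohomology.idealPowersDiagram I) i)).map (g + g') =
      (colimit (localCohomology.diagram (localCohomology.idealPowersDiagram I) i)).map g +
        (colimit (localCohomology.diagram (localCohomology.idealPowersDiagram I) i)).map g' := by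
  let F := localCohomology.diagram (localCohomology.idealPowersDiagram I) i
  have hc := isColimitOfPreserves ((evaluation _ _).obj M) (colimit.isColimit F)
  apply hc.hom_ext
  intro k
  show (colimit.ι F k).app M ≫ (colimit F).map (g + g') =
    (colimit.ι F k).app M ≫ ((colimit F).map g + (colimit F).map g')
  rw [Preadditive.comp_add, ← NatTrans.naturality, ← NatTrans.naturality, ← NatTrans.naturality]
  show ((Ext R (ModuleCat.{u} R) i).obj _).map (g + g') ≫ _ = _
  rw [ext_map_add, Preadditive.add_comp]
  rfl

theorem colimit_map_smul (s : R) (g : M ⟶ M') :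
    (colimit (localCohomology.diagram (localCohomology.idealPowersDiagram I) i)).map (s • g) =
      s • (colimit (localCohomology.diagram (localCohomology.idealPowersDiagram I) i)).map g := by
  let F := localCohomology.diagram (localCohomology.idealPowersDiagram I) i
  have hc := isColimitOfPreserves ((evaluation _ _).obj M) (colimit.isColimit F)
  apply hc.hom_ext
  intro k
  show (colimit.ι F k).app M ≫ (colimit F).map (s • g) =
    (colimit.ι F k).app M ≫ (s • (colimit F).map g)
  rw [Linear.comp_smul, ← NatTrans.naturality, ← NatTrans.naturality]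
  show ((Ext R (ModuleCat.{u} R) i).obj _).map (s • g) ≫ _ = _
  rw [ext_map_smul, Linear.smul_comp]
  rfl

theorem H_map_add (g g' : M ⟶ M') :
    (localCohomology I i).map (g + g') =
      (localCohomology I i).map g + (localCohomology I i).map g' :=
  colimit_map_add I i g g'

theorem H_map_smul (s : R) (g : M ⟶ M') :
    (localCohomology I i).map (s • g) = s • (localCohomology I i).map g :=
  colimit_map_smul I i s g

instance : (localCohomology I i).Additive := ⟨fun {_ _ f g} => H_map_add I i f g⟩

/-- annihilation through a finite sum of factorizations -/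
theorem smul_H_eq_zero_of_factor (M A' : ModuleCat.{u} R) (a s : R) {ι : Type*} (S : Finset ι)
    (α : ι → (A' ⟶ M)) (β : ι → (M ⟶ A'))
    (hsum : s • 𝟙 M = ∑ j ∈ S, β j ≫ α j)
    (ha : a • 𝟙 ((localCohomology I i).obj A') = 0) :
    (a * s) • 𝟙 ((localCohomology I i).obj M) = 0 := by
  have h1 : s • 𝟙 ((localCohomology I i).obj M) =
      ∑ j ∈ S, (localCohomology I i).map (β j) ≫ (localCohomology I i).map (α j) := by
    rw [← (localCohomology I i).map_id, ← H_map_smul, hsum, Functor.map_sum]
    simp only [Functor.map_comp]
  rw [mul_smul, h1, Finset.smul_sum]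
  apply Finset.sum_eq_zero
  intro j _
  have h2 : a • (localCohomology I i).map (β j) = 0 := by
    rw [← Category.comp_id ((localCohomology I i).map (β j)), ← Linear.comp_smul, ha, comp_zero]
  rw [← Linear.smul_comp, h2, zero_comp]

end LC

end Groth.Agent.Lib.LocCohFunctH7
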