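import Mathlib
import Groth.Prelude.Def_Wider
import Groth.Agent.Lib.LocCohDT_helper7
import Groth.Agent.Lib.LocCohFunct_helper7

/-!
# `coker (M → D_I(M)) ≃ H^1_I(M)` (helper7)
-/

open CategoryTheory CategoryTheory.Limits Opposite

namespace Groth.Agent.Lib.ExtCompareH7

universe u

variable {R : Type u} [CommRing R] {X : ModuleCat.{u} R}

lemma cls_add (P : ProjectiveResolution X) (M : ModuleCat.{u} R) (n : ℕ)
    (z z' : (P.complex.linearYonedaObj R M).cycles n) :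
    cls P M n z + cls P M n z' = cls P M n (z + z') := by
  unfold cls
  rw [ProjectiveResolution.add_extMk]
  apply extMk_congr
  exact (map_add ((P.complex.linearYonedaObj R M).iCycles n).hom z z').symm

lemma Θ_add (M : ModuleCat.{u} R) (p : ℕ) (ξ ξ' : E (p + 1) X M) :
    Θ M p (ξ + ξ') = Θ M p ξ + Θ M p ξ' := by
  obtain ⟨z, hz⟩ := π_surjective ((ProjectiveResolution.of X).complex.linearYonedaObj R M) (p + 1)
      (((ProjectiveResolution.of X).isoExt (p + 1) M).hom.hom ξ)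
  obtain ⟨z', hz'⟩ := π_surjective ((ProjectiveResolution.of X).complex.linearYonedaObj R M)
    (p + 1) (((ProjectiveResolution.of X).isoExt (p + 1) M).hom.hom ξ')
  rw [Θ_spec M p ξ z hz, Θ_spec M p ξ' z' hz', cls_add]
  exact Θ_spec M p (ξ + ξ') (z + z') (by rw [map_add, map_add, hz, hz'])

lemma Θ_smul (M : ModuleCat.{u} R) (p : ℕ) (r : R) (ξ : E (p + 1) X M) :
    Θ M p (r • ξ) = r • Θ M p ξ := by
  have h1 : r • ξ = (((Ext R (ModuleCat.{u} R) (p + 1)).obj (op X)).map (r • 𝟙 M)).hom ξ := by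
    rw [Groth.Agent.Lib.LocCohFunctH7.ext_map_smul, CategoryTheory.Functor.map_id]
    rfl
  rw [h1, Θ_map_Y, Abelian.Ext.smul_eq_comp_mk₀]

/-- inverse of `Θ` -/
noncomputable def Θinv (M : ModuleCat.{u} R) (p : ℕ) (x : Abelian.Ext X M (p + 1)) :
    E (p + 1) X M :=
  (Θ_surjective M p x).choose

lemma Θ_Θinv (M : ModuleCat.{u} R) (p : ℕ) (x : Abelian.Ext X M (p + 1)) :
    Θ M p (Θinv M p x) = x := (Θ_surjective M p x).choose_spec

lemma Θinv_Θ (M : ModuleCat.{u} R) (p : ℕ) (ξ : E (p + 1) X M) : Θinv M p (Θ M p ξ) = ξ :=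
  Θ_injective M p (Θ_Θinv M p _)

lemma Θinv_add (M : ModuleCat.{u} R) (p : ℕ) (x y : Abelian.Ext X M (p + 1)) :
    Θinv M p (x + y) = Θinv M p x + Θinv M p y :=
  Θ_injective M p (by rw [Θ_add, Θ_Θinv, Θ_Θinv, Θ_Θinv])

lemma Θinv_smul (M : ModuleCat.{u} R) (p : ℕ) (r : R) (x : Abelian.Ext X M (p + 1)) :
    Θinv M p (r • x) = r • Θinv M p x :=
  Θ_injective M p (by rw [Θ_smul, Θ_Θinv, Θ_Θinv])

lemma Θinv_zero (M : ModuleCat.{u} R) (p : ℕ) : Θinv (X := X) M p 0 = 0 :=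
  Θ_injective M p (by rw [Θ_Θinv, Θ_zero])

end Groth.Agent.Lib.ExtCompareH7

namespace Groth.Agent.Lib.LocCohDTH7

open Groth.Agent.Lib.ExtCompareH7 Groth.Agent.Lib.LocCohTorsVanishH7 Groth.Agent.Lib.LocCohLESH7
open Groth.Agent.Lib.DT_helper3 LocCoh

universe u

variable {R : Type u} [CommRing R] (I : Ideal R)

lemma dcls_add (N : ModuleCat.{u} R) (k : ℕ) (φ φ' : ↥(I ^ k) →ₗ[R] N) :
    dcls I N k (φ + φ') = dcls I N k φ + dcls I N k φ' := by
  have e1 : Abelian.Ext.mk₀ (X := (Sk I k).X₁) (ModuleCat.ofHom (φ + φ')) =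
      Abelian.Ext.mk₀ (X := (Sk I k).X₁) (ModuleCat.ofHom φ) +
        Abelian.Ext.mk₀ (X := (Sk I k).X₁) (ModuleCat.ofHom φ') :=
    Abelian.Ext.mk₀_add (X := (Sk I k).X₁) (ModuleCat.ofHom φ) (ModuleCat.ofHom φ')
  exact (congrArg (fun y => (hSk I k).extClass.comp y (add_zero 1)) e1).trans
    (Abelian.Ext.comp_add _ _ _ _)

lemma dcls_smul (N : ModuleCat.{u} R) (k : ℕ) (r : R) (φ : ↥(I ^ k) →ₗ[R] N) :
    dcls I N k (r • φ) = r • dcls I N k φ := by
  have e1 : Abelian.Ext.mk₀ (X := (Sk I k).X₁) (ModuleCat.ofHom (r • φ)) =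
      r • Abelian.Ext.mk₀ (X := (Sk I k).X₁) (ModuleCat.ofHom φ) :=
    Abelian.Ext.mk₀_smul (X := (Sk I k).X₁) r (ModuleCat.ofHom φ)
  exact (congrArg (fun y => (hSk I k).extClass.comp y (add_zero 1)) e1).trans
    (Abelian.Ext.comp_smul _ _ _ _)

end Groth.Agent.Lib.LocCohDTH7
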