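import Mathlib
import Groth.Prelude.Def_Wider
import Groth.Agent.Lib.LocCohDT2_helper7

/-!
# `coker (M → D_I(M)) ≃ H^1_I(M)`, construction of the map (helper7)
-/

open CategoryTheory CategoryTheory.Limits Opposite

namespace Groth.Agent.Lib.LocCohDTH7

open Groth.Agent.Lib.ExtCompareH7 Groth.Agent.Lib.LocCohTorsVanishH7 Groth.Agent.Lib.LocCohLESH7
open Groth.Agent.Lib.DT_helper3 LocCoh

universe u

variable {R : Type u} [CommRing R] (I : Ideal R) (M : Type u) [AddCommGroup M] [Module R M]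

/-- stage function -/
noncomputable def ΦFun (k : ℕ) (φ : ↥(I ^ k) →ₗ[R] M) : LocCoh.H I 1 M :=
  (ιk I 1 (op (op k)) (ModuleCat.of R M)).hom
    (Θinv (X := Xk I (op (op k))) (ModuleCat.of R M) 0 (dcls I (ModuleCat.of R M) k φ))

lemma ΦFun_add (k : ℕ) (φ φ' : ↥(I ^ k) →ₗ[R] M) :
    ΦFun I M k (φ + φ') = ΦFun I M k φ + ΦFun I M k φ' := by
  unfold ΦFun
  have e1 : Θinv (X := Xk I (op (op k))) (ModuleCat.of R M) 0
      (dcls I (ModuleCat.of R M) k (φ + φ')) =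
      Θinv (X := Xk I (op (op k))) (ModuleCat.of R M) 0 (dcls I (ModuleCat.of R M) k φ) +
        Θinv (X := Xk I (op (op k))) (ModuleCat.of R M) 0 (dcls I (ModuleCat.of R M) k φ') :=
    (congrArg (Θinv (X := Xk I (op (op k))) (ModuleCat.of R M) 0)
      (dcls_add I (ModuleCat.of R M) k φ φ')).trans (Θinv_add _ 0 _ _)
  rw [e1, map_add]

lemma ΦFun_smul (k : ℕ) (r : R) (φ : ↥(I ^ k) →ₗ[R] M) :
    ΦFun I M k (r • φ) = r • ΦFun I M k φ := by
  unfold ΦFun
  have e1 : Θinv (X := Xk I (op (op k))) (ModuleCat.of R M) 0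
      (dcls I (ModuleCat.of R M) k (r • φ)) =
      r • Θinv (X := Xk I (op (op k))) (ModuleCat.of R M) 0 (dcls I (ModuleCat.of R M) k φ) :=
    (congrArg (Θinv (X := Xk I (op (op k))) (ModuleCat.of R M) 0)
      (dcls_smul I (ModuleCat.of R M) k r φ)).trans (Θinv_smul _ 0 _ _)
  rw [e1, map_smul]

lemma ΦFun_res {k k' : ℕ} (h : k ≤ k') (φ : ↥(I ^ k) →ₗ[R] M) :
    ΦFun I M k' (res I h φ) = ΦFun I M k φ := by
  let w : (op (op k) : ℕᵒᵖᵒᵖ) ⟶ op (op k') := (homOfLE h).op.op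
  have hp := pullback_dcls I (ModuleCat.of R M) h (qw I w) rfl φ
  set ξ := Θinv (X := Xk I (op (op k))) (ModuleCat.of R M) 0 (dcls I (ModuleCat.of R M) k φ)
    with hξ
  have h1 : Θ (ModuleCat.of R M) 0 ξ = dcls I (ModuleCat.of R M) k φ := Θ_Θinv _ _ _
  have h2 := Θ_map_X (qw I w) (ModuleCat.of R M) 0 ξ
  have h3 : Θ (ModuleCat.of R M) 0
      ((((Ext R (ModuleCat.{u} R) 1).map (qw I w).op).app (ModuleCat.of R M)).hom ξ) =
      dcls I (ModuleCat.of R M) k' (res I h φ) :=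
    h2.trans ((congrArg (fun y => (Abelian.Ext.mk₀ (qw I w)).comp y (zero_add 1)) h1).trans hp)
  have h4 : Θinv (X := Xk I (op (op k'))) (ModuleCat.of R M) 0
      (dcls I (ModuleCat.of R M) k' (res I h φ)) =
      (((Ext R (ModuleCat.{u} R) 1).map (qw I w).op).app (ModuleCat.of R M)).hom ξ :=
    Θ_injective _ _ ((Θ_Θinv _ _ _).trans h3.symm)
  unfold ΦFun
  rw [h4]
  exact ι_trans I 1 (ModuleCat.of R M) w ξ

/-- the cocone maps -/
noncomputable def Φn (n : ℕᵒᵖᵒᵖ) :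
    ((transformDiagram I).obj n).obj (ModuleCat.of R M) ⟶
      (localCohomology I 1).obj (ModuleCat.of R M) :=
  ModuleCat.ofHom
    { toFun := fun y => ΦFun I M (unop (unop n))
        (ModuleCat.Hom.hom
          (show ModuleCat.of R ↥(I ^ (unop (unop n))) ⟶ ModuleCat.of R M from y))
      map_add' := fun y y' => ΦFun_add I M _ _ _
      map_smul' := fun r y => ΦFun_smul I M _ r _ }

/-- the cocone -/
noncomputable def cocΦ :
    Cocone (transformDiagram I ⋙ (evaluation _ _).obj (ModuleCat.of R M)) where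
  pt := (localCohomology I 1).obj (ModuleCat.of R M)
  ι :=
    { app := fun n => Φn I M n
      naturality := fun n n' w => by
        obtain ⟨⟨k⟩⟩ := n
        obtain ⟨⟨k'⟩⟩ := n'
        apply ModuleCat.hom_ext
        apply LinearMap.ext
        intro y
        exact ΦFun_res I M (leOfHom w.unop.unop) (ofObj I k y) }

/-- the map `D_I(M) → H^1_I(M)` -/
noncomputable def ΦD : (idealTransform I).obj (ModuleCat.of R M) ⟶
    (localCohomology I 1).obj (ModuleCat.of R M) :=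
  (isColimitOfPreserves ((evaluation _ _).obj (ModuleCat.of R M))
    (colimit.isColimit (transformDiagram I))).desc (cocΦ I M)

lemma ΦD_cls (k : ℕ) (φ : ↥(I ^ k) →ₗ[R] M) : (ΦD I M).hom (cls I k φ) = ΦFun I M k φ := by
  have h := congrArg (fun α => α.hom (toObj I k φ))
    ((isColimitOfPreserves ((evaluation _ _).obj (ModuleCat.of R M))
      (colimit.isColimit (transformDiagram I))).fac (cocΦ I M) (op (op k)))
  exact h

theorem ΦD_surjective : Function.Surjective (ΦD I M).hom := by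
  intro m
  obtain ⟨n, ξ, hξ⟩ := Groth.Agent.Lib.LocCohLESH7.exists_rep I 1 (ModuleCat.of R M) m
  obtain ⟨⟨k⟩⟩ := n
  obtain ⟨φ, hφ⟩ := exists_phi I (ModuleCat.of R M) k (Θ (ModuleCat.of R M) 0 ξ)
  refine ⟨cls I k φ, ?_⟩
  rw [ΦD_cls]
  unfold ΦFun
  have h1 : Θinv (X := Xk I (op (op k))) (ModuleCat.of R M) 0 (dcls I (ModuleCat.of R M) k φ) =
      ξ := Θ_injective _ _ ((Θ_Θinv _ _ _).trans hφ)
  rw [h1]
  exact hξ

theorem ΦD_toDT (m : M) : (ΦD I M).hom (toDT I M m) = 0 := by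
  rw [toDT_eq_cls, ΦD_cls]
  unfold ΦFun
  have e1 : Θinv (X := Xk I (op (op 0))) (ModuleCat.of R M) 0
      (dcls I (ModuleCat.of R M) 0 (smulMap I 0 m)) = 0 :=
    (congrArg (Θinv (X := Xk I (op (op 0))) (ModuleCat.of R M) 0)
      (dcls_smulMap I (ModuleCat.of R M) 0 m)).trans (Θinv_zero _ 0)
  rw [e1, map_zero]

theorem mem_range_of_ΦD_eq_zero (x : DT I M) (hx : (ΦD I M).hom x = 0) :
    x ∈ LinearMap.range (toDT I M) := by
  obtain ⟨k, φ, rfl⟩ := exists_cls I x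
  rw [ΦD_cls] at hx
  set ξ := Θinv (X := Xk I (op (op k))) (ModuleCat.of R M) 0 (dcls I (ModuleCat.of R M) k φ)
    with hξ
  have hx' : (ιk I 1 (op (op k)) (ModuleCat.of R M)).hom ξ = 0 := hx
  obtain ⟨n', w, hw⟩ := exists_map_eq_zero I 1 (ModuleCat.of R M) (op (op k)) ξ hx'
  obtain ⟨⟨k'⟩⟩ := n'
  have hkk' : k ≤ k' := leOfHom w.unop.unop
  have h1 : Θ (ModuleCat.of R M) 0 ξ = dcls I (ModuleCat.of R M) k φ := Θ_Θinv _ _ _
  have h2 := Θ_map_X (qw I w) (ModuleCat.of R M) 0 ξ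
  rw [hw, Θ_zero] at h2
  have hp := pullback_dcls I (ModuleCat.of R M) hkk' (qw I w) rfl φ
  have h3 : dcls I (ModuleCat.of R M) k' (res I hkk' φ) = 0 :=
    hp.symm.trans ((congrArg (fun y => (Abelian.Ext.mk₀ (qw I w)).comp y (zero_add 1))
      h1.symm).trans h2.symm)
  obtain ⟨x₂, hx₂⟩ := Abelian.Ext.contravariant_sequence_exact₁ (hSk I k') (ModuleCat.of R M)
    (Abelian.Ext.mk₀ (X := (Sk I k').X₁) (ModuleCat.ofHom (res I hkk' φ))) (add_zero 1) h3
  obtain ⟨ψ, rfl⟩ := (Abelian.Ext.mk₀_bijective _ _).2 x₂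
  rw [Abelian.Ext.mk₀_comp_mk₀] at hx₂
  have h4 : (Sk I k').f ≫ ψ = ModuleCat.ofHom (res I hkk' φ) :=
    (Abelian.Ext.mk₀_bijective _ _).1 hx₂
  have h5 : res I hkk' φ = smulMap I k' (ψ.hom (1 : R)) := by
    apply LinearMap.ext
    intro y
    have h6 := congrArg (fun α => α.hom y) h4
    have h7 : ψ.hom (y : R) = (res I hkk' φ) y := h6
    have h8 : (y : R) = (y : R) • (1 : R) := (mul_one _).symm
    calc (res I hkk' φ) y = ψ.hom (y : R) := h7.symm
      _ = ψ.hom ((y : R) • (1 : R)) := congrArg ψ.hom h8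
      _ = (y : R) • ψ.hom (1 : R) := map_smul ψ.hom _ _
      _ = smulMap I k' (ψ.hom (1 : R)) y := rfl
  refine ⟨ψ.hom (1 : R), ?_⟩
  rw [toDT_eq_cls' I k', ← h5, cls_res]

theorem coker_equiv : Nonempty ((LocCoh.DT I M ⧸ LinearMap.range (LocCoh.toDT I M)) ≃ₗ[R]
    LocCoh.H I 1 M) := by
  have hker : LinearMap.range (toDT I M) = LinearMap.ker (ΦD I M).hom := by
    apply le_antisymm
    · rintro _ ⟨m, rfl⟩
      exact ΦD_toDT I M m
    · intro x hx
      exact mem_range_of_ΦD_eq_zero I M x hx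
  exact ⟨(Submodule.quotEquivOfEq _ _ hker).trans
    ((ΦD I M).hom.quotKerEquivOfSurjective (ΦD_surjective I M))⟩

end Groth.Agent.Lib.LocCohDTH7
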