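import Mathlib
import Groth.Prelude.Def_Wider
import Groth.Agent.Lib.LocCohLES2_helper7
import Groth.Agent.Lib.LocCohDT2_helper7

/-!
# The connecting homomorphism of local cohomology in positive degrees (helper7)
-/

open CategoryTheory CategoryTheory.Limits Opposite

namespace Groth.Agent.Lib.LocCohLESH7

open Groth.Agent.Lib.ExtCompareH7

universe u

variable {R : Type u} [CommRing R] (I : Ideal R)
variable {S : ShortComplex (ModuleCat.{u} R)} (hS : S.ShortExact)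

/-- the connecting map at a finite stage, followed by the map to the colimit -/
noncomputable def δFun (p : ℕ) (k : ℕᵒᵖᵒᵖ) (ξ : E (p + 1) (Xk I k) S.X₃) :
    ((localCohomology I (p + 2)).obj S.X₁ : ModuleCat.{u} R) :=
  (ιk I (p + 2) k S.X₁).hom (Θinv S.X₁ (p + 1) ((Θ S.X₃ p ξ).comp hS.extClass rfl))

lemma δFun_add (p : ℕ) (k : ℕᵒᵖᵒᵖ) (ξ ξ' : E (p + 1) (Xk I k) S.X₃) :
    δFun I hS p k (ξ + ξ') = δFun I hS p k ξ + δFun I hS p k ξ' := by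
  unfold δFun
  rw [Θ_add, Abelian.Ext.add_comp, Θinv_add, map_add]

lemma δFun_smul (p : ℕ) (k : ℕᵒᵖᵒᵖ) (r : R) (ξ : E (p + 1) (Xk I k) S.X₃) :
    δFun I hS p k (r • ξ) = r • δFun I hS p k ξ := by
  unfold δFun
  rw [Θ_smul, Abelian.Ext.smul_comp, Θinv_smul, map_smul]

lemma δFun_trans (p : ℕ) {k k' : ℕᵒᵖᵒᵖ} (w : k ⟶ k') (ξ : E (p + 1) (Xk I k) S.X₃) :
    δFun I hS p k' ((((Ext R (ModuleCat.{u} R) (p + 1)).map (qw I w).op).app S.X₃).hom ξ) =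
      δFun I hS p k ξ := by
  unfold δFun
  set η := Θinv S.X₁ (p + 1) ((Θ S.X₃ p ξ).comp hS.extClass rfl) with hη
  have h1 : Θ S.X₁ (p + 1) η = (Θ S.X₃ p ξ).comp hS.extClass rfl := Θ_Θinv _ _ _
  have h2 : Θ S.X₁ (p + 1) ((((Ext R (ModuleCat.{u} R) (p + 2)).map (qw I w).op).app S.X₁).hom η) =
      (Θ S.X₃ p ((((Ext R (ModuleCat.{u} R) (p + 1)).map (qw I w).op).app S.X₃).hom ξ)).comp
        hS.extClass rfl := by
    rw [Θ_map_X, Θ_map_X, h1]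
    exact (Abelian.Ext.comp_assoc (Abelian.Ext.mk₀ (qw I w)) (Θ S.X₃ p ξ) hS.extClass
      (zero_add (p + 1)) rfl (by omega)).symm
  have h3 : Θinv S.X₁ (p + 1)
      ((Θ S.X₃ p ((((Ext R (ModuleCat.{u} R) (p + 1)).map (qw I w).op).app S.X₃).hom ξ)).comp
        hS.extClass rfl) =
      (((Ext R (ModuleCat.{u} R) (p + 2)).map (qw I w).op).app S.X₁).hom η :=
    Θ_injective _ _ ((Θ_Θinv _ _ _).trans h2.symm)
  rw [h3]
  exact ι_trans I (p + 2) S.X₁ w η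

/-- the cocone maps -/
noncomputable def δn (p : ℕ) (k : ℕᵒᵖᵒᵖ) :
    ((F I (p + 1)).obj k).obj S.X₃ ⟶ (localCohomology I (p + 2)).obj S.X₁ :=
  ModuleCat.ofHom
    { toFun := fun ξ => δFun I hS p k ξ
      map_add' := fun ξ ξ' => δFun_add I hS p k ξ ξ'
      map_smul' := fun r ξ => δFun_smul I hS p k r ξ }

/-- the cocone -/
noncomputable def cocδ (p : ℕ) : Cocone (F I (p + 1) ⋙ (evaluation _ _).obj S.X₃) where
  pt := (localCohomology I (p + 2)).obj S.X₁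
  ι :=
    { app := fun k => δn I hS p k
      naturality := fun k k' w => by
        apply ModuleCat.hom_ext
        apply LinearMap.ext
        intro ξ
        exact δFun_trans I hS p w ξ }

/-- the connecting homomorphism `H^{p+1}_I(X₃) → H^{p+2}_I(X₁)` -/
noncomputable def δ (p : ℕ) :
    (localCohomology I (p + 1)).obj S.X₃ ⟶ (localCohomology I (p + 2)).obj S.X₁ :=
  (isColimitOfPreserves ((evaluation _ _).obj S.X₃)
    (colimit.isColimit (F I (p + 1)))).desc (cocδ I hS p)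

lemma δ_ι (p : ℕ) (k : ℕᵒᵖᵒᵖ) (ξ : E (p + 1) (Xk I k) S.X₃) :
    (δ I hS p).hom ((ιk I (p + 1) k S.X₃).hom ξ) = δFun I hS p k ξ := by
  have h := congrArg (fun α => α.hom ξ)
    ((isColimitOfPreserves ((evaluation _ _).obj S.X₃)
      (colimit.isColimit (F I (p + 1)))).fac (cocδ I hS p) k)
  exact h

/-- exactness at `H^{p+2}(X₁)` -/
theorem exists_δ_eq (p : ℕ) (m₁ : ((localCohomology I (p + 2)).obj S.X₁ : ModuleCat.{u} R))
    (hm : ((localCohomology I (p + 2)).map S.f).hom m₁ = 0) :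
    ∃ m₃, (δ I hS p).hom m₃ = m₁ := by
  obtain ⟨k, ξ₁, hξ₁⟩ := exists_rep I (p + 2) S.X₁ m₁
  have h1 : (ιk I (p + 2) k S.X₂).hom
      ((((Ext R (ModuleCat.{u} R) (p + 2)).obj (op (Xk I k))).map S.f).hom ξ₁) = 0 := by
    rw [← ι_nat, hξ₁, hm]
  obtain ⟨k', w, hw⟩ := exists_map_eq_zero I (p + 2) S.X₂ k _ h1
  rw [← map_comm] at hw
  set ξ' := (((Ext R (ModuleCat.{u} R) (p + 2)).map (qw I w).op).app S.X₁).hom ξ₁ with hξ'
  have h3 : (Θ S.X₁ (p + 1) ξ').comp (Abelian.Ext.mk₀ S.f) (add_zero (p + 2)) = 0 := by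
    rw [← Θ_map_Y, hw, Θ_zero]
  obtain ⟨y, hy⟩ := Abelian.Ext.covariant_sequence_exact₁ _ hS (Θ S.X₁ (p + 1) ξ') h3
    (rfl : p + 1 + 1 = p + 2)
  refine ⟨(ιk I (p + 1) k' S.X₃).hom (Θinv S.X₃ p y), ?_⟩
  rw [δ_ι]
  unfold δFun
  rw [Θ_Θinv, hy, Θinv_Θ, hξ', ι_trans, hξ₁]

/-- exactness at `H^{p+1}(X₃)` -/
theorem exists_of_δ_eq_zero (p : ℕ)
    (m₃ : ((localCohomology I (p + 1)).obj S.X₃ : ModuleCat.{u} R))
    (hm : (δ I hS p).hom m₃ = 0) :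
    ∃ m₂, ((localCohomology I (p + 1)).map S.g).hom m₂ = m₃ := by
  obtain ⟨k, ξ'', hξ''⟩ := exists_rep I (p + 1) S.X₃ m₃
  rw [← hξ'', δ_ι] at hm
  set η := Θinv S.X₁ (p + 1) ((Θ S.X₃ p ξ'').comp hS.extClass rfl) with hη
  have hηΘ : Θ S.X₁ (p + 1) η = (Θ S.X₃ p ξ'').comp hS.extClass rfl := Θ_Θinv _ _ _
  have h0 : (ιk I (p + 2) k S.X₁).hom η = 0 := hm
  obtain ⟨k', w, hw⟩ := exists_map_eq_zero I (p + 2) S.X₁ k η h0
  have h1 : (Abelian.Ext.mk₀ (qw I w)).comp ((Θ S.X₃ p ξ'').comp hS.extClass rfl)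
      (zero_add (p + 2)) = 0 := by
    rw [← hηΘ, ← Θ_map_X, hw, Θ_zero]
  rw [← Abelian.Ext.comp_assoc (Abelian.Ext.mk₀ (qw I w)) (Θ S.X₃ p ξ'') hS.extClass
    (zero_add (p + 1)) rfl (by omega)] at h1
  obtain ⟨x₂, hx₂⟩ := Abelian.Ext.covariant_sequence_exact₃ _ hS _ rfl h1
  obtain ⟨ξ₂, hξ₂⟩ := Θ_surjective S.X₂ p x₂
  have h4 : (((Ext R (ModuleCat.{u} R) (p + 1)).obj (op (Xk I k'))).map S.g).hom ξ₂ =
      (((Ext R (ModuleCat.{u} R) (p + 1)).map (qw I w).op).app S.X₃).hom ξ'' :=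
    Θ_injective _ _ (by rw [Θ_map_Y, hξ₂, hx₂, Θ_map_X])
  refine ⟨(ιk I (p + 1) k' S.X₂).hom ξ₂, ?_⟩
  rw [ι_nat, h4, ι_trans, hξ'']

end Groth.Agent.Lib.LocCohLESH7
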