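import Mathlib
import Groth.Prelude.Def_Wider
import Groth.Agent.Lib.LocCohDelta_helper7
import Groth.Agent.Lib.LocCohDT3_helper7

/-!
# Exactness of the ideal transform functor and cohomological dimension `≤ 1` (helper7)
-/

open CategoryTheory CategoryTheory.Limits Opposite

namespace Groth.Agent.Lib.LocCohDTExactH7

open Groth.Agent.Lib.ExtCompareH7 Groth.Agent.Lib.LocCohTorsVanishH7 Groth.Agent.Lib.LocCohLESH7
open Groth.Agent.Lib.DT_helper3 Groth.Agent.Lib.LocCohDTH7 LocCoh

universe u

variable {R : Type u} [CommRing R] (I : Ideal R)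

section nat

variable {M M' : Type u} [AddCommGroup M] [Module R M] [AddCommGroup M'] [Module R M']

lemma dcls_comp (e : M →ₗ[R] M') (k : ℕ) (φ : ↥(I ^ k) →ₗ[R] M) :
    (dcls I (ModuleCat.of R M) k φ).comp (Abelian.Ext.mk₀ (ModuleCat.ofHom e)) (add_zero 1) =
      dcls I (ModuleCat.of R M') k (e ∘ₗ φ) := by
  have e3 := Abelian.Ext.comp_assoc_of_third_deg_zero (hSk I k).extClass
    (Abelian.Ext.mk₀ (ModuleCat.ofHom φ)) (Abelian.Ext.mk₀ (ModuleCat.ofHom e)) (add_zero 1)
  have e4 := Abelian.Ext.mk₀_comp_mk₀ (ModuleCat.ofHom φ) (ModuleCat.ofHom e)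
  exact e3.trans (congrArg (fun y => (hSk I k).extClass.comp y (add_zero 1)) e4)

/-- naturality of `D_I(M) → H^1_I(M)` -/
theorem ΦD_nat (e : M →ₗ[R] M') (x : DT I M) :
    (ΦD I M').hom (((idealTransform I).map (ModuleCat.ofHom e)).hom x) =
      ((localCohomology I 1).map (ModuleCat.ofHom e)).hom ((ΦD I M).hom x) := by
  obtain ⟨k, φ, rfl⟩ := exists_cls I x
  set ξ := Θinv (X := Xk I (op (op k))) (ModuleCat.of R M) 0 (dcls I (ModuleCat.of R M) k φ)
    with hξ
  have h1 : Θ (ModuleCat.of R M) 0 ξ = dcls I (ModuleCat.of R M) k φ := Θ_Θinv _ _ _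
  have h2 := Θ_map_Y (X := Xk I (op (op k))) (ModuleCat.ofHom e) 0 ξ
  have h3 := dcls_comp I e k φ
  have h4 : Θinv (X := Xk I (op (op k))) (ModuleCat.of R M') 0
      (dcls I (ModuleCat.of R M') k (e ∘ₗ φ)) =
      (((Ext R (ModuleCat.{u} R) 1).obj (op (Xk I (op (op k))))).map (ModuleCat.ofHom e)).hom ξ :=
    Θ_injective _ _ ((Θ_Θinv _ _ _).trans (h3.symm.trans
      ((congrArg (fun y => y.comp (Abelian.Ext.mk₀ (ModuleCat.ofHom e)) (add_zero 1))
        h1.symm).trans h2.symm)))
  have h5 : (ΦD I M').hom (((idealTransform I).map (ModuleCat.ofHom e)).hom (cls I k φ)) =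
      ΦFun I M' k (e ∘ₗ φ) := by
    rw [map_cls, ΦD_cls]
  have h6 : ΦFun I M' k (e ∘ₗ φ) =
      (ιk I 1 (op (op k)) (ModuleCat.of R M')).hom
        ((((Ext R (ModuleCat.{u} R) 1).obj (op (Xk I (op (op k))))).map
          (ModuleCat.ofHom e)).hom ξ) :=
    congrArg (fun z => (ιk I 1 (op (op k)) (ModuleCat.of R M')).hom z) h4
  have h7 := ι_nat I 1 (ModuleCat.ofHom e) (op (op k)) ξ
  have h8 : (ΦD I M).hom (cls I k φ) = (ιk I 1 (op (op k)) (ModuleCat.of R M)).hom ξ :=
    ΦD_cls I M k φ
  rw [h5, h6, h8]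
  exact h7.symm

theorem toDT_nat (e : M →ₗ[R] M') (m : M) :
    ((idealTransform I).map (ModuleCat.ofHom e)).hom (toDT I M m) = toDT I M' (e m) := by
  rw [toDT_eq_cls, map_cls, toDT_eq_cls]
  congr 1
  apply LinearMap.ext
  intro y
  show e ((y : R) • m) = (y : R) • e m
  rw [map_smul]

end nat

section exact

variable {A B C : Type u} [AddCommGroup A] [Module R A] [AddCommGroup B] [Module R B]
  [AddCommGroup C] [Module R C]

theorem D_injective (f : A →ₗ[R] B) (hf : Function.Injective f) :
    Function.Injective ((idealTransform I).map (ModuleCat.ofHom f)).hom := by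
  rw [injective_iff_map_eq_zero]
  intro x hx
  obtain ⟨n, φ, rfl⟩ := exists_cls I x
  rw [map_cls, DT_helper3.cls_eq_zero_iff] at hx
  obtain ⟨k, h, hres⟩ := hx
  rw [DT_helper3.cls_eq_zero_iff]
  refine ⟨k, h, ?_⟩
  apply LinearMap.ext
  intro z
  have h1 := LinearMap.congr_fun hres z
  exact hf (h1.trans (map_zero f).symm)

theorem D_exact (f : A →ₗ[R] B) (g : B →ₗ[R] C) (hfg : Function.Exact f g)
    (hf : Function.Injective f) (x : DT I B)
    (hx : ((idealTransform I).map (ModuleCat.ofHom g)).hom x = 0) :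
    ∃ w : DT I A, ((idealTransform I).map (ModuleCat.ofHom f)).hom w = x := by
  obtain ⟨n, ψ, rfl⟩ := exists_cls I x
  rw [map_cls, DT_helper3.cls_eq_zero_iff] at hx
  obtain ⟨k, h, hres⟩ := hx
  have hmem : ∀ z : ↥(I ^ k), res I h ψ z ∈ LinearMap.range f := by
    intro z
    exact (hfg _).1 (LinearMap.congr_fun hres z)
  let e := LinearEquiv.ofInjective f hf
  let φ : ↥(I ^ k) →ₗ[R] A :=
    e.symm.toLinearMap ∘ₗ (LinearMap.codRestrict (LinearMap.range f) (res I h ψ) hmem)
  refine ⟨cls I k φ, ?_⟩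
  rw [map_cls, ← cls_res I h ψ]
  congr 1
  apply LinearMap.ext
  intro z
  show f (e.symm ⟨res I h ψ z, hmem z⟩) = res I h ψ z
  exact congrArg Subtype.val (e.apply_symm_apply ⟨res I h ψ z, hmem z⟩)

theorem D_comp_zero (f : A →ₗ[R] B) (g : B →ₗ[R] C) (hfg : Function.Exact f g) (w : DT I A) :
    ((idealTransform I).map (ModuleCat.ofHom g)).hom
      (((idealTransform I).map (ModuleCat.ofHom f)).hom w) = 0 := by
  obtain ⟨n, φ, rfl⟩ := exists_cls I w
  rw [map_cls, map_cls]
  have h0 : g ∘ₗ f ∘ₗ φ = 0 := by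
    apply LinearMap.ext
    intro z
    exact hfg.apply_apply_eq_zero (φ z)
  rw [h0, map_zero]

theorem D_surjective (f : A →ₗ[R] B) (g : B →ₗ[R] C) (hf : Function.Injective f)
    (hg : Function.Surjective g) (hfg : Function.Exact f g)
    (h2 : Subsingleton (LocCoh.H I 2 A)) :
    Function.Surjective ((idealTransform I).map (ModuleCat.ofHom g)).hom := by
  have hS := Groth.Agent.DepthLib.shortComplexOf_shortExact f g hf hg hfg
  intro c
  have hsurj : ∀ z : LocCoh.H I 1 C, ∃ w : LocCoh.H I 1 B,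
      ((localCohomology I 1).map (ModuleCat.ofHom g)).hom w = z := by
    intro z
    exact exists_of_δ_eq_zero I hS 0 z (h2.elim _ _)
  obtain ⟨w, hw⟩ := hsurj ((ΦD I C).hom c)
  obtain ⟨b, hb⟩ := ΦD_surjective I B w
  have h0 : (ΦD I C).hom (c - ((idealTransform I).map (ModuleCat.ofHom g)).hom b) = 0 := by
    rw [map_sub, ΦD_nat, hb, hw, sub_self]
  obtain ⟨c₀, hc₀⟩ := mem_range_of_ΦD_eq_zero I C _ h0
  obtain ⟨b₀, rfl⟩ := hg c₀
  refine ⟨b + toDT I B b₀, ?_⟩
  rw [map_add, toDT_nat, hc₀]
  abel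

end exact

/-- `cd ≤ 1` implies that `D_I` is exact -/
theorem map_shortExact (hcd : LocCoh.CdLE R I 1) (S : ShortComplex (ModuleCat.{u} R))
    (hS : S.ShortExact) : (S.map (idealTransform I)).ShortExact := by
  have hinj : Function.Injective S.f.hom := hS.moduleCat_injective_f
  have hsurj : Function.Surjective S.g.hom := hS.moduleCat_surjective_g
  have hex : Function.Exact S.f.hom S.g.hom :=
    (ShortComplex.ShortExact.moduleCat_exact_iff_function_exact S).1 hS.exact
  haveI : Mono (S.map (idealTransform I)).f :=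
    (ModuleCat.mono_iff_injective _).2 (D_injective I S.f.hom hinj)
  haveI : Epi (S.map (idealTransform I)).g :=
    (ModuleCat.epi_iff_surjective _).2
      (D_surjective I S.f.hom S.g.hom hinj hsurj hex (hcd S.X₁ 2 (by norm_num)))
  refine ShortComplex.ShortExact.mk ?_
  rw [ShortComplex.ShortExact.moduleCat_exact_iff_function_exact]
  intro x
  constructor
  · intro hx
    exact D_exact I S.f.hom S.g.hom hex hinj x hx
  · rintro ⟨w, rfl⟩
    exact D_comp_zero I S.f.hom S.g.hom hex w

/-- local cohomology of an injective module vanishes in positive degrees -/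
theorem H_subsingleton_of_injective (E : ModuleCat.{u} R) [Injective E] (p : ℕ) :
    Subsingleton ((localCohomology I (p + 1)).obj E : ModuleCat.{u} R) := by
  have key : ∀ m : ((localCohomology I (p + 1)).obj E : ModuleCat.{u} R), m = 0 := by
    intro m
    obtain ⟨k, ξ, rfl⟩ := exists_rep I (p + 1) E m
    have h1 : Θ E p ξ = Θ E p 0 := by
      rw [Θ_zero]
      exact Abelian.Ext.eq_zero_of_injective _
    rw [Θ_injective E p h1, map_zero]
  exact ⟨fun a b => by rw [key a, key b]⟩

/-- exactness of `D_I` implies `cd ≤ 1` -/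
theorem cdLE_of_exact
    (hD : ∀ S : ShortComplex (ModuleCat.{u} R), S.ShortExact →
      (S.map (idealTransform I)).ShortExact) : LocCoh.CdLE R I 1 := by
  have P : ∀ (j : ℕ) (X : ModuleCat.{u} R),
      Subsingleton ((localCohomology I (j + 2)).obj X : ModuleCat.{u} R) := by
    intro j
    induction j with
    | zero =>
      intro X
      let S : ShortComplex (ModuleCat.{u} R) :=
        ShortComplex.mk (Injective.ι X) (cokernel.π (Injective.ι X)) (cokernel.condition _)
      have hS : S.ShortExact := ShortComplex.ShortExact.mk (ShortComplex.exact_cokernel _)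
      have hE1 : Subsingleton ((localCohomology I (0 + 1)).obj S.X₂ : ModuleCat.{u} R) :=
        H_subsingleton_of_injective I (Injective.under X) 0
      have hE2 : Subsingleton ((localCohomology I (0 + 2)).obj S.X₂ : ModuleCat.{u} R) :=
        H_subsingleton_of_injective I (Injective.under X) 1
      have hDS := hD S hS
      have hDg : Function.Surjective ((idealTransform I).map S.g).hom :=
        (ModuleCat.epi_iff_surjective _).1 hDS.epi_g
      -- `toDT` is surjective for the injective module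
      have hE : ∀ d : DT I S.X₂, ∃ ε : S.X₂, toDT I S.X₂ ε = d := by
        intro d
        exact mem_range_of_ΦD_eq_zero I S.X₂ d (hE1.elim _ _)
      -- `toDT` is surjective for the quotient
      have hQ : ∀ d : DT I S.X₃, ∃ q : S.X₃, toDT I S.X₃ q = d := by
        intro d
        obtain ⟨dE, rfl⟩ := hDg d
        obtain ⟨ε, rfl⟩ := hE dE
        exact ⟨S.g.hom ε, (toDT_nat I S.g.hom ε).symm⟩
      have hH1 : ∀ z : ((localCohomology I (0 + 1)).obj S.X₃ : ModuleCat.{u} R), z = 0 := by
        intro z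
        obtain ⟨d, rfl⟩ := ΦD_surjective I S.X₃ z
        obtain ⟨q, rfl⟩ := hQ d
        exact ΦD_toDT I S.X₃ q
      refine ⟨fun a b => ?_⟩
      have key : ∀ m₁ : ((localCohomology I (0 + 2)).obj S.X₁ : ModuleCat.{u} R), m₁ = 0 := by
        intro m₁
        obtain ⟨m₃, rfl⟩ := exists_δ_eq I hS 0 m₁ (hE2.elim _ _)
        rw [hH1 m₃, map_zero]
      exact (key a).trans (key b).symm
    | succ j ih =>
      intro X
      let S : ShortComplex (ModuleCat.{u} R) :=
        ShortComplex.mk (Injective.ι X) (cokernel.π (Injective.ι X)) (cokernel.condition _)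
      have hS : S.ShortExact := ShortComplex.ShortExact.mk (ShortComplex.exact_cokernel _)
      have hE2 : Subsingleton ((localCohomology I (j + 1 + 2)).obj S.X₂ : ModuleCat.{u} R) :=
        H_subsingleton_of_injective I (Injective.under X) (j + 2)
      have hQ := ih S.X₃
      refine ⟨fun a b => ?_⟩
      have key : ∀ m₁ : ((localCohomology I (j + 1 + 2)).obj S.X₁ : ModuleCat.{u} R),
          m₁ = 0 := by
        intro m₁
        obtain ⟨m₃, rfl⟩ := exists_δ_eq I hS (j + 1) m₁ (hE2.elim _ _)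
        rw [hQ.elim m₃ 0, map_zero]
      exact (key a).trans (key b).symm
  intro M _ _ i hi
  obtain ⟨j, rfl⟩ : ∃ j, i = j + 2 := ⟨i - 2, by omega⟩
  exact P j (ModuleCat.of R M)

/-- S11628 -/
theorem main [IsNoetherianRing R] :
    (PreservesFiniteLimits (LocCoh.idealTransform I) ∧
      PreservesFiniteColimits (LocCoh.idealTransform I)) ↔ LocCoh.CdLE R I 1 := by
  constructor
  · intro h
    exact cdLE_of_exact I (((Functor.exact_tfae (idealTransform I)).out 3 0).1 h)
  · intro hcd
    exact ((Functor.exact_tfae (idealTransform I)).out 0 3).1 (map_shortExact I hcd)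

end Groth.Agent.Lib.LocCohDTExactH7
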