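import Mathlib

/-!
# Finite free resolutions of finite modules over noetherian rings (helper7)
-/

set_option autoImplicit false
universe u
open CategoryTheory Limits

namespace Groth.Agent.Lib.FinFreeResH7

variable (R : Type u) [CommRing R] [IsNoetherianRing R]

/-- finite modules, bundled -/
abbrev FM : Type (u + 1) := {N : ModuleCat.{u} R // Module.Finite R N}

variable {R}

/-- number of generators -/
noncomputable def rk (N : FM R) : ℕ :=
  (haveI := N.2; Module.Finite.exists_fin' R N.1).choose

/-- a chosen surjection from a finite free module -/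
noncomputable def p (N : FM R) : (Fin (rk N) → R) →ₗ[R] N.1 :=
  (haveI := N.2; Module.Finite.exists_fin' R N.1).choose_spec.choose

theorem p_surjective (N : FM R) : Function.Surjective (p N) :=
  (haveI := N.2; Module.Finite.exists_fin' R N.1).choose_spec.choose_spec

/-- the syzygy module -/
noncomputable def next (N : FM R) : FM R :=
  ⟨ModuleCat.of R (LinearMap.ker (p N)), by
    show Module.Finite R (LinearMap.ker (p N))
    infer_instance⟩

/-- iterated syzygies -/
noncomputable def K (M : FM R) : ℕ → FM R
  | 0 => M
  | n + 1 => next (K M n)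

variable (M : FM R)

/-- the terms -/
noncomputable def X (n : ℕ) : ModuleCat.{u} R := ModuleCat.of R (Fin (rk (K M n)) → R)

/-- the covering maps -/
noncomputable def π (n : ℕ) : X M n ⟶ (K M n).1 := ModuleCat.ofHom (p (K M n))

/-- the inclusions of syzygies -/
noncomputable def ι (n : ℕ) : (K M (n + 1)).1 ⟶ X M n :=
  ModuleCat.ofHom (LinearMap.ker (p (K M n))).subtype

theorem π_surjective (n : ℕ) : Function.Surjective (π M n) := p_surjective _

theorem ι_injective (n : ℕ) : Function.Injective (ι M n) := Subtype.val_injective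

theorem ι_π (n : ℕ) : ι M n ≫ π M n = 0 := by
  ext x
  exact x.2

theorem exists_ι_eq (n : ℕ) (x : X M n) (hx : π M n x = 0) : ∃ y, ι M n y = x :=
  ⟨⟨x, hx⟩, rfl⟩

/-- the differentials -/
noncomputable def d (n : ℕ) : X M (n + 1) ⟶ X M n := π M (n + 1) ≫ ι M n

theorem sq (n : ℕ) : d M (n + 1) ≫ d M n = 0 := by
  unfold d
  rw [Category.assoc, ← Category.assoc (ι M (n + 1)), ι_π, zero_comp, comp_zero]

theorem d_π : d M 0 ≫ π M 0 = 0 := by
  unfold d
  rw [Category.assoc, ι_π, comp_zero]

theorem exact_succ (n : ℕ) : (ShortComplex.mk (d M (n + 1)) (d M n) (sq M n)).Exact := by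
  rw [ShortComplex.moduleCat_exact_iff]
  intro x hx
  have h1 : π M (n + 1) x = 0 := by
    apply ι_injective M n
    rw [map_zero]
    exact hx
  obtain ⟨y, hy⟩ := exists_ι_eq M (n + 1) x h1
  obtain ⟨z, hz⟩ := π_surjective M (n + 2) y
  refine ⟨z, ?_⟩
  show ι M (n + 1) (π M (n + 2) z) = x
  rw [hz, hy]

theorem exact_zero : (ShortComplex.mk (d M 0) (π M 0) (d_π M)).Exact := by
  rw [ShortComplex.moduleCat_exact_iff]
  intro x hx
  obtain ⟨y, hy⟩ := exists_ι_eq M 0 x hx
  obtain ⟨z, hz⟩ := π_surjective M 1 y
  refine ⟨z, ?_⟩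
  show ι M 0 (π M 1 z) = x
  rw [hz, hy]

instance (n : ℕ) : Projective (X M n) := by
  unfold X
  infer_instance

/-- the complex -/
noncomputable def cx : ChainComplex (ModuleCat.{u} R) ℕ := ChainComplex.of (X M) (d M) (sq M)

theorem cx_d_1_0 : (cx M).d 1 0 = d M 0 := by
  show ChainComplex.of.d (X M) (d M) (0 + 1) 0 = d M 0
  exact ChainComplex.of_d _ _ 0

theorem cx_exactAt_succ (n : ℕ) : (cx M).ExactAt (n + 1) := by
  rw [HomologicalComplex.exactAt_iff' _ (n + 1 + 1) (n + 1) n (by simp) (by simp)]
  have h1 : (cx M).d (n + 1 + 1) (n + 1) = d M (n + 1) := ChainComplex.of_d _ _ (n + 1)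
  have h2 : (cx M).d (n + 1) n = d M n := ChainComplex.of_d _ _ n
  refine (ShortComplex.exact_iff_of_iso ?_).mpr (exact_succ M n)
  exact ShortComplex.isoMk (Iso.refl _) (Iso.refl _) (Iso.refl _)
    (by
      simp only [HomologicalComplex.sc', HomologicalComplex.shortComplexFunctor', h1, Iso.refl_hom]
      exact (Category.id_comp _).trans (Category.comp_id _).symm)
    (by
      simp only [HomologicalComplex.sc', HomologicalComplex.shortComplexFunctor', h2, Iso.refl_hom]
      exact (Category.id_comp _).trans (Category.comp_id _).symm)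

/-- the resolution -/
noncomputable def res : ProjectiveResolution M.1 where
  complex := cx M
  projective := fun n => (inferInstance : Projective (X M n))
  π := (ChainComplex.toSingle₀Equiv _ _).symm ⟨(show (cx M).X 0 ⟶ M.1 from π M 0), by
    rw [cx_d_1_0]
    exact d_π M⟩
  quasiIso := ⟨fun n => by
    cases n
    · rw [ChainComplex.quasiIsoAt₀_iff, ShortComplex.quasiIso_iff_of_zeros']
      · dsimp
        haveI : Epi (π M 0) := (ModuleCat.epi_iff_surjective _).mpr (π_surjective M 0)
        refine (ShortComplex.exact_and_epi_g_iff_of_iso ?_).2 ⟨exact_zero M, by dsimp; infer_instance⟩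
        exact ShortComplex.isoMk (Iso.refl _) (Iso.refl _) (Iso.refl _)
          (by
            simp only [cx_d_1_0, Iso.refl_hom]
            exact (Category.id_comp _).trans (Category.comp_id _).symm)
          (by
            simp only [Iso.refl_hom]
            exact (Category.id_comp _).trans (Category.comp_id _).symm)
      all_goals rfl
    · rw [quasiIsoAt_iff_exactAt']
      · apply cx_exactAt_succ
      · apply ChainComplex.exactAt_succ_single_obj⟩

theorem res_finite_free (n : ℕ) :
    Module.Finite R ((res M).complex.X n) ∧ Module.Free R ((res M).complex.X n) := by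
  constructor
  · show Module.Finite R (Fin (rk (K M n)) → R)
    infer_instance
  · show Module.Free R (Fin (rk (K M n)) → R)
    infer_instance

end Groth.Agent.Lib.FinFreeResH7
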