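import Mathlib
import Groth.Prelude.Def_Wider
import Groth.Agent.Lib.LocCohLES_helper7
import Groth.Agent.Lib.FinFreeRes_helper7

/-!
# Local cohomology commutes with directed colimits (helper7)
-/

open CategoryTheory CategoryTheory.Limits Opposite

namespace Groth.Agent.Lib.LocCohColimH7

open Groth.Agent.Lib.ExtCompareH7 Groth.Agent.Lib.LocCohLESH7 Groth.Agent.Lib.FinFreeResH7

universe u

variable {R : Type u} [CommRing R]

section Free

variable {Λ : Type u} [PartialOrder Λ] [IsDirected Λ (· ≤ ·)] [Nonempty Λ]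
  (K : Λ ⥤ ModuleCat.{u} R) (c : Cocone K) (hc : IsColimit c)

include hc in
lemma free_lift (F : ModuleCat.{u} R) [Module.Finite R F] [Module.Free R F] (f : F ⟶ c.pt) :
    ∃ (l : Λ) (g : F ⟶ K.obj l), g ≫ c.ι.app l = f := by
  classical
  let b := Module.Free.chooseBasis R F
  have h : ∀ a, ∃ (l : Λ) (y : K.obj l), (c.ι.app l).hom y = f.hom (b a) :=
    fun a => Concrete.isColimit_exists_rep K hc _
  choose l y hy using h
  obtain ⟨m, hm⟩ := Finite.exists_le l
  let y' : Module.Free.ChooseBasisIndex R F → K.obj m :=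
    fun a => (K.map (homOfLE (hm a))).hom (y a)
  refine ⟨m, ModuleCat.ofHom (b.constr R y'), ?_⟩
  apply ModuleCat.hom_ext
  apply b.ext
  intro a
  show (c.ι.app m).hom ((b.constr R y') (b a)) = f.hom (b a)
  rw [Module.Basis.constr_basis]
  show (c.ι.app m).hom ((K.map (homOfLE (hm a))).hom (y a)) = _
  rw [← ExtCompareH7.comp_apply', c.w, hy]

include hc in
lemma free_kill (F : ModuleCat.{u} R) [Module.Finite R F] [Module.Free R F] (j : Λ)
    (g : F ⟶ K.obj j) (h : g ≫ c.ι.app j = 0) : ∃ (m : Λ) (f : j ⟶ m), g ≫ K.map f = 0 := by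
  classical
  let b := Module.Free.chooseBasis R F
  have h1 : ∀ a, ∃ (m : Λ) (f : j ⟶ m), (K.map f).hom (g.hom (b a)) = 0 := by
    intro a
    have h0 : (c.ι.app j).hom (g.hom (b a)) = (c.ι.app j).hom 0 := by
      rw [map_zero]
      exact congrArg (fun α => α.hom (b a)) h
    obtain ⟨m, f, f', hf⟩ := Concrete.isColimit_exists_of_rep_eq K hc _ _ h0
    refine ⟨m, f, ?_⟩
    have hf' : (K.map f).hom (g.hom (b a)) = (K.map f').hom 0 := hf
    rw [hf', map_zero]
  choose m f hf using h1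
  obtain ⟨n, hn⟩ := Finite.exists_le m
  obtain ⟨n', hjn, hnn⟩ := exists_ge_ge j n
  refine ⟨n', homOfLE hjn, ?_⟩
  apply ModuleCat.hom_ext
  apply b.ext
  intro a
  show (K.map (homOfLE hjn)).hom (g.hom (b a)) = 0
  have e : homOfLE hjn = f a ≫ homOfLE ((hn a).trans hnn) := Subsingleton.elim _ _
  rw [e, K.map_comp, ExtCompareH7.comp_apply', hf, map_zero]

lemma isoExt_map_apply {X A B : ModuleCat.{u} R} (P : ProjectiveResolution X) (n : ℕ)
    (g : A ⟶ B) (ξ : E n X A) :
    (P.isoExt n B).hom.hom ((((Ext R (ModuleCat.{u} R) n).obj (op X)).map g).hom ξ) =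
      (HomologicalComplex.homologyMap (post P g) n).hom ((P.isoExt n A).hom.hom ξ) := by
  have hN := isoExt_naturality_Y P n g
  have h2 := congrArg (fun α => α.hom ξ) hN
  simp only [ExtCompareH7.comp_apply'] at h2
  exact h2

variable [IsNoetherianRing R]

include hc in
theorem ext_exists_rep (X : ModuleCat.{u} R) [hX : Module.Finite R X] (n : ℕ) (ξ : E n X c.pt) :
    ∃ (l : Λ) (ξl : E n X (K.obj l)),
      (((Ext R (ModuleCat.{u} R) n).obj (op X)).map (c.ι.app l)).hom ξl = ξ := by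
  let P : ProjectiveResolution X := res ⟨X, hX⟩
  haveI : Module.Finite R (P.complex.X n) := (res_finite_free ⟨X, hX⟩ n).1
  haveI : Module.Free R (P.complex.X n) := (res_finite_free ⟨X, hX⟩ n).2
  haveI : Module.Finite R (P.complex.X (n + 1)) := (res_finite_free ⟨X, hX⟩ (n + 1)).1
  haveI : Module.Free R (P.complex.X (n + 1)) := (res_finite_free ⟨X, hX⟩ (n + 1)).2
  obtain ⟨z, hz⟩ := π_surjective (P.complex.linearYonedaObj R c.pt) n
    ((P.isoExt n c.pt).hom.hom ξ)
  have hf := cocycle_cond P c.pt n z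
  obtain ⟨l, g, hg⟩ := free_lift K c hc (P.complex.X n)
    (((P.complex.linearYonedaObj R c.pt).iCycles n).hom z)
  have h1 : (P.complex.d (n + 1) n ≫ g) ≫ c.ι.app l = 0 := by
    rw [Category.assoc, hg, hf]
  obtain ⟨m, φ, hφ⟩ := free_kill K c hc (P.complex.X (n + 1)) l _ h1
  have hg' : P.complex.d (n + 1) n ≫ (g ≫ K.map φ) = 0 := by
    rw [← Category.assoc]; exact hφ
  obtain ⟨z', hz'⟩ := exists_cycle (P.complex.linearYonedaObj R (K.obj m)) n (g ≫ K.map φ) hg'
  let ιm : K.obj m ⟶ c.pt := c.ι.app m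
  refine ⟨m, (P.isoExt n (K.obj m)).inv.hom
    (((P.complex.linearYonedaObj R (K.obj m)).homologyπ n).hom z'), ?_⟩
  apply iso_hom_injective (P.isoExt n c.pt)
  have key := isoExt_map_apply P n ιm ((P.isoExt n (K.obj m)).inv.hom
    (((P.complex.linearYonedaObj R (K.obj m)).homologyπ n).hom z'))
  have h3 : (P.isoExt n (K.obj m)).hom.hom ((P.isoExt n (K.obj m)).inv.hom
      (((P.complex.linearYonedaObj R (K.obj m)).homologyπ n).hom z')) =
      ((P.complex.linearYonedaObj R (K.obj m)).homologyπ n).hom z' := by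
    rw [← ExtCompareH7.comp_apply', Iso.inv_hom_id]; rfl
  rw [h3, homologyMap_π] at key
  refine key.trans ?_
  rw [← hz]
  congr 1
  apply iCycles_injective
  rw [cyclesMap_i, post_apply, hz']
  show (g ≫ K.map φ) ≫ c.ι.app m = _
  rw [Category.assoc, c.w, hg]

include hc in
theorem ext_eq_zero_stage (X : ModuleCat.{u} R) [hX : Module.Finite R X] (n : ℕ) (j : Λ)
    (ξ : E n X (K.obj j))
    (h : (((Ext R (ModuleCat.{u} R) n).obj (op X)).map (c.ι.app j)).hom ξ = 0) :
    ∃ (m : Λ) (φ : j ⟶ m),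
      (((Ext R (ModuleCat.{u} R) n).obj (op X)).map (K.map φ)).hom ξ = 0 := by
  let P : ProjectiveResolution X := res ⟨X, hX⟩
  let i' := (ComplexShape.up ℕ).prev n
  haveI : Module.Finite R (P.complex.X n) := (res_finite_free ⟨X, hX⟩ n).1
  haveI : Module.Free R (P.complex.X n) := (res_finite_free ⟨X, hX⟩ n).2
  haveI : Module.Finite R (P.complex.X i') := (res_finite_free ⟨X, hX⟩ i').1
  haveI : Module.Free R (P.complex.X i') := (res_finite_free ⟨X, hX⟩ i').2
  obtain ⟨z, hz⟩ := π_surjective (P.complex.linearYonedaObj R (K.obj j)) n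
    ((P.isoExt n (K.obj j)).hom.hom ξ)
  let ιj : K.obj j ⟶ c.pt := c.ι.app j
  have key := isoExt_map_apply P n ιj ξ
  have e0 : (P.isoExt n c.pt).hom.hom ((((Ext R (ModuleCat.{u} R) n).obj (op X)).map ιj).hom ξ) =
      0 := (congrArg (fun t => (P.isoExt n c.pt).hom.hom t) h).trans (map_zero _)
  have h1 := key.symm.trans e0
  rw [← hz, homologyMap_π] at h1
  obtain ⟨hh, hhh⟩ := (π_eq_zero_iff _ i' n rfl _).1 h1
  rw [cyclesMap_i, post_apply, d_apply] at hhh
  obtain ⟨l, h', hh'⟩ := free_lift K c hc (P.complex.X i') hh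
  obtain ⟨m₀, hj, hl⟩ := exists_ge_ge j l
  have hu : (((P.complex.linearYonedaObj R (K.obj j)).iCycles n).hom z ≫ K.map (homOfLE hj) -
      P.complex.d n i' ≫ h' ≫ K.map (homOfLE hl)) ≫ c.ι.app m₀ = 0 := by
    rw [Preadditive.sub_comp, Category.assoc, c.w, Category.assoc, Category.assoc, c.w, hh',
      hhh, sub_self]
  obtain ⟨m, φ, hφ⟩ := free_kill K c hc (P.complex.X n) m₀ _ hu
  rw [Preadditive.sub_comp, sub_eq_zero] at hφ
  refine ⟨m, homOfLE hj ≫ φ, ?_⟩
  apply iso_hom_eq_zero (P.isoExt n (K.obj m))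
  rw [isoExt_map_apply, ← hz, homologyMap_π, π_eq_zero_iff _ i' n rfl]
  refine ⟨h' ≫ K.map (homOfLE hl) ≫ K.map φ, ?_⟩
  rw [cyclesMap_i, post_apply, d_apply, K.map_comp]
  simp only [Category.assoc] at hφ
  exact hφ.symm

end Free

section Main

variable [IsNoetherianRing R] (I : Ideal R)

theorem main (i : ℕ) (Λ : Type u) [PartialOrder Λ] [IsDirected Λ (· ≤ ·)] [Nonempty Λ] :
    PreservesColimitsOfShape Λ (localCohomology I i) := by
  constructor
  intro K
  constructor
  intro c hc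
  refine ⟨isColimitOfReflects (forget (ModuleCat.{u} R)) ?_⟩
  apply Types.FilteredColimit.isColimitOf'
  · intro x
    let x' : ((localCohomology I i).obj c.pt : ModuleCat.{u} R) := x
    obtain ⟨k, ξ, hξ⟩ := exists_rep I i c.pt x'
    haveI : Module.Finite R (Xk I k) :=
      (inferInstance : Module.Finite R (R ⧸ (localCohomology.idealPowersDiagram I).obj (unop k)))
    obtain ⟨l, ξl, hξl⟩ := ext_exists_rep K c hc (Xk I k) i ξ
    refine ⟨l, ((ιk I i k (K.obj l)).hom ξl :
      ((localCohomology I i).obj (K.obj l) : ModuleCat.{u} R)), ?_⟩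
    show x' = ((localCohomology I i).map (c.ι.app l)).hom ((ιk I i k (K.obj l)).hom ξl)
    rw [ι_nat, hξl]
    exact hξ.symm
  · intro j x y h
    let x' : ((localCohomology I i).obj (K.obj j) : ModuleCat.{u} R) := x
    let y' : ((localCohomology I i).obj (K.obj j) : ModuleCat.{u} R) := y
    have h' : ((localCohomology I i).map (c.ι.app j)).hom x' =
        ((localCohomology I i).map (c.ι.app j)).hom y' := h
    have h0 : ((localCohomology I i).map (c.ι.app j)).hom (x' - y') = 0 := by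
      rw [map_sub, h', sub_self]
    obtain ⟨k, ξ, hξ⟩ := exists_rep I i (K.obj j) (x' - y')
    rw [← hξ, ι_nat] at h0
    obtain ⟨k', w, hw⟩ := exists_map_eq_zero I i c.pt k _ h0
    rw [← map_comm] at hw
    haveI : Module.Finite R (Xk I k') :=
      (inferInstance : Module.Finite R (R ⧸ (localCohomology.idealPowersDiagram I).obj (unop k')))
    obtain ⟨m, φ, hφ⟩ := ext_eq_zero_stage K c hc (Xk I k') i j _ hw
    refine ⟨m, φ, ?_⟩
    show ((localCohomology I i).map (K.map φ)).hom x' =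
      ((localCohomology I i).map (K.map φ)).hom y'
    rw [← sub_eq_zero, ← map_sub, ← hξ, ← ι_trans I i (K.obj j) w ξ, ι_nat, hφ, map_zero]

end Main

end Groth.Agent.Lib.LocCohColimH7
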