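import Mathlib
import Groth.Prelude.Def_Wider
import Groth.Agent.Lib.LocCohTorsVanish_helper7

/-!
# `Ext^0 ≅ Hom` for Mathlib's `Ext` functor, and `H^0_I(N) ≅ N` for power-torsion `N` (helper7)
-/

open CategoryTheory CategoryTheory.Limits Opposite

namespace Groth.Agent.Lib.LocCohH0H7

open Groth.Agent.Lib.ExtCompareH7 Groth.Agent.Lib.LocCohTorsVanishH7

universe u

variable {R : Type u} [CommRing R]

instance preservesFiniteLimits_linearYoneda (N : ModuleCat.{u} R) :
    PreservesFiniteLimits ((linearYoneda R (ModuleCat.{u} R)).obj N) := by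
  haveI : PreservesFiniteLimits
      ((linearYoneda R (ModuleCat.{u} R)).obj N ⋙ forget (ModuleCat.{u} R)) := by
    show PreservesFiniteLimits (yoneda.obj N)
    infer_instance
  exact preservesFiniteLimits_of_reflects_of_preserves _ (forget (ModuleCat.{u} R))

instance preservesFiniteColimits_GG (N : ModuleCat.{u} R) : PreservesFiniteColimits (GG N) :=
  preservesFiniteColimits_rightOp _

/-- `Hom(X, N) ≅ Ext^0(X, N)` -/
noncomputable def j (X N : ModuleCat.{u} R) : ModuleCat.of R (X ⟶ N) ≅ E 0 X N :=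
  ((GG N).leftDerivedZeroIsoSelf.app X).unop

lemma j_naturality {X X' : ModuleCat.{u} R} (q : X' ⟶ X) (N : ModuleCat.{u} R) :
    (j X N).hom ≫ ((Ext R (ModuleCat.{u} R) 0).map q.op).app N =
      ((linearYoneda R (ModuleCat.{u} R)).obj N).map q.op ≫ (j X' N).hom := by
  have h := (GG N).leftDerivedZeroIsoSelf.hom.naturality q
  have h' := congrArg Quiver.Hom.unop h
  rw [unop_comp, unop_comp] at h'
  exact h'

lemma j_naturality_apply {X X' : ModuleCat.{u} R} (q : X' ⟶ X) (N : ModuleCat.{u} R)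
    (f : X ⟶ N) :
    (((Ext R (ModuleCat.{u} R) 0).map q.op).app N).hom ((j X N).hom.hom f) =
      (j X' N).hom.hom (q ≫ f) := by
  have h := congrArg (fun α => α.hom f) (j_naturality q N)
  exact h

lemma j_inv_naturality_apply {X X' : ModuleCat.{u} R} (q : X' ⟶ X) (N : ModuleCat.{u} R)
    (ξ : E 0 X N) :
    (j X' N).inv.hom ((((Ext R (ModuleCat.{u} R) 0).map q.op).app N).hom ξ) =
      q ≫ (j X N).inv.hom ξ := by
  have h1 : (j X N).hom.hom ((j X N).inv.hom ξ) = ξ := by
    rw [← ExtCompareH7.comp_apply', Iso.inv_hom_id]; rfl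
  have h2 := j_naturality_apply q N ((j X N).inv.hom ξ)
  rw [h1] at h2
  rw [h2, ← ExtCompareH7.comp_apply', Iso.hom_inv_id]
  rfl

section H0

variable (I : Ideal R)

open Groth.Agent.Lib.LocCohDepthH7

/-- the ideal at stage `k` of the diagram -/
abbrev Jk (k : ℕᵒᵖᵒᵖ) : Ideal R := (localCohomology.idealPowersDiagram I).obj (unop k)

/-- the cocone maps -/
noncomputable def c (M : ModuleCat.{u} R) (k : ℕᵒᵖᵒᵖ) :
    ((localCohomology.diagram (localCohomology.idealPowersDiagram I) 0).obj k).obj M ⟶ M :=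
  (j (ModuleCat.of R (R ⧸ Jk I k)) M).inv ≫ ev1 (Jk I k) M

lemma c_apply (M : ModuleCat.{u} R) (k : ℕᵒᵖᵒᵖ)
    (ξ : E 0 (ModuleCat.of R (R ⧸ Jk I k)) M) :
    (c I M k).hom ξ =
      ((j (ModuleCat.of R (R ⧸ Jk I k)) M).inv.hom ξ).hom (Ideal.Quotient.mk (Jk I k) 1) := rfl

lemma c_naturality (M : ModuleCat.{u} R) {k k' : ℕᵒᵖᵒᵖ} (w : k ⟶ k')
    (ξ : E 0 (ModuleCat.of R (R ⧸ Jk I k)) M) :
    (c I M k').hom
      ((((localCohomology.diagram (localCohomology.idealPowersDiagram I) 0).map w).app M).hom ξ) =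
      (c I M k).hom ξ := by
  have h := j_inv_naturality_apply
    ((localCohomology.ringModIdeals (localCohomology.idealPowersDiagram I)).map w.unop) M ξ
  have h2 := congrArg (fun g : ModuleCat.of R (R ⧸ Jk I k') ⟶ M =>
    g.hom (Ideal.Quotient.mk (Jk I k') 1)) h
  exact h2

/-- the cocone with point `M` -/
noncomputable def coc (M : ModuleCat.{u} R) :
    Cocone (localCohomology.diagram (localCohomology.idealPowersDiagram I) 0 ⋙
      (evaluation _ _).obj M) where
  pt := M
  ι :=
    { app := fun k => c I M k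
      naturality := fun k k' w => by
        apply ModuleCat.hom_ext
        apply LinearMap.ext
        intro ξ
        exact c_naturality I M w ξ }

theorem H0_equiv [IsNoetherianRing R] (N : Type u) [AddCommGroup N] [Module R N]
    (hN : LocCoh.IsPowerTorsion I N) : Nonempty (LocCoh.H I 0 N ≃ₗ[R] N) := by
  let F := localCohomology.diagram (localCohomology.idealPowersDiagram I) 0
  let M : ModuleCat.{u} R := ModuleCat.of R N
  have hc := isColimitOfPreserves ((evaluation _ _).obj M) (colimit.isColimit F)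
  let Ψ : (colimit F).obj M ⟶ M := hc.desc (coc I M)
  have hfac : ∀ (k : ℕᵒᵖᵒᵖ) (ξ : ((F.obj k).obj M : ModuleCat.{u} R)),
      Ψ.hom (((colimit.ι F k).app M).hom ξ) = (c I M k).hom ξ := by
    intro k ξ
    have h := congrArg (fun α => α.hom ξ) (hc.fac (coc I M) k)
    exact h
  have hinj : Function.Injective Ψ.hom := by
    rw [injective_iff_map_eq_zero]
    intro m hm
    obtain ⟨k, y, hy⟩ := Groth.Agent.Lib.LocCohTorsH7.exists_rep I 0 M m
    rw [← hy] at hm ⊢
    rw [hfac, c_apply] at hm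
    have h1 : (j (ModuleCat.of R (R ⧸ Jk I k)) M).inv.hom y = 0 := by
      apply hom_ext_one
      rw [hm]
      rfl
    have h2 : y = 0 := iso_inv_eq_zero (j (ModuleCat.of R (R ⧸ Jk I k)) M) y h1
    rw [h2, map_zero]
  have hsurj : Function.Surjective Ψ.hom := by
    intro n
    obtain ⟨k, hk⟩ := hN n
    let f : ModuleCat.of R (R ⧸ Jk I (op (op k))) ⟶ M := mkHom (Jk I (op (op k))) M n hk
    let ξ : ((F.obj (op (op k))).obj M : ModuleCat.{u} R) :=
      (j (ModuleCat.of R (R ⧸ Jk I (op (op k)))) M).hom.hom f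
    refine ⟨((colimit.ι F (op (op k))).app M).hom ξ, ?_⟩
    rw [hfac, c_apply]
    have h1 : (j (ModuleCat.of R (R ⧸ Jk I (op (op k)))) M).inv.hom ξ = f := by
      show (j _ M).inv.hom ((j _ M).hom.hom f) = f
      rw [← ExtCompareH7.comp_apply', Iso.hom_inv_id]
      rfl
    rw [h1]
    exact mkHom_one _ M n hk
  exact ⟨LinearEquiv.ofBijective Ψ.hom ⟨hinj, hsurj⟩⟩

end H0

end Groth.Agent.Lib.LocCohH0H7
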