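import Mathlib
import Groth.Prelude.Def_Wider
import Groth.Agent.Lib.LocCohFunct_helper7

/-!
# Annihilation of local cohomology of modules that are locally projective away from `V(I)` (helper7)
-/

open CategoryTheory CategoryTheory.Limits Opposite

namespace Groth.Agent.Lib.LocCohProjAwayH7

open Groth.Agent.Lib.LocCohFunctH7

universe u

variable {R : Type u} [CommRing R]

/-- If the localization `S⁻¹M` is a retract of a finite free `S⁻¹R`-module, then some `s ∈ S`
times the identity of `M` factors through a finite free `R`-module. -/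
theorem exists_factor_of_retract [IsNoetherianRing R] (M : Type u) [AddCommGroup M] [Module R M]
    [Module.Finite R M] (S : Submonoid R) (r : ℕ)
    (ii : LocalizedModule S M →ₗ[R] (Fin r → Localization S))
    (pp : (Fin r → Localization S) →ₗ[R] LocalizedModule S M)
    (hpi : ∀ y, pp (ii y) = y) :
    ∃ (α : Fin r → (R →ₗ[R] M)) (β : Fin r → (M →ₗ[R] R)) (s : R), s ∈ S ∧
      ∀ m, ∑ j, α j (β j m) = s • m := by
  classical
  let floc : (Fin r → R) →ₗ[R] (Fin r → Localization S) :=
    LinearMap.pi fun i => (Algebra.linearMap R (Localization S)) ∘ₗ LinearMap.proj i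
  haveI : IsLocalizedModule S floc :=
    IsLocalizedModule.pi S (fun _ => Algebra.linearMap R (Localization S))
  let mk := LocalizedModule.mkLinearMap S M
  haveI : Module.FinitePresentation R M := Module.finitePresentation_of_finite R M
  obtain ⟨ψ, s₁, h₁⟩ := Module.FinitePresentation.exists_lift_of_isLocalizedModule S floc
    (ii ∘ₗ mk)
  obtain ⟨φ, t, h₂⟩ := Module.FinitePresentation.exists_lift_of_isLocalizedModule S mk
    (pp ∘ₗ floc)
  have H : mk ∘ₗ (φ ∘ₗ ψ) = mk ∘ₗ (((t : R) * (s₁ : R)) • LinearMap.id) := by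
    ext m
    have e1 : mk (φ (ψ m)) = (t : R) • pp (floc (ψ m)) := LinearMap.congr_fun h₂ (ψ m)
    have e2 : floc (ψ m) = (s₁ : R) • ii (mk m) := LinearMap.congr_fun h₁ m
    show mk (φ (ψ m)) = mk (((t : R) * (s₁ : R)) • m)
    rw [e1, e2, map_smul, hpi, smul_smul, map_smul]
  obtain ⟨u, hu⟩ := Module.Finite.exists_smul_of_comp_eq_of_isLocalizedModule S mk _ _ H
  refine ⟨fun j => ((u : R) • φ) ∘ₗ LinearMap.single R (fun _ => R) j,
    fun j => LinearMap.proj j ∘ₗ ψ, (u : R) * ((t : R) * (s₁ : R)), ?_, ?_⟩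
  · exact S.mul_mem u.2 (S.mul_mem t.2 s₁.2)
  · intro m
    have hsum : ∑ j, (LinearMap.single R (fun _ : Fin r => R) j) (ψ m j) = ψ m := by
      simp only [LinearMap.coe_single]
      exact Finset.univ_sum_single (ψ m)
    calc ∑ j, (((u : R) • φ) ∘ₗ LinearMap.single R (fun _ => R) j) ((LinearMap.proj j ∘ₗ ψ) m)
        = ((u : R) • φ) (∑ j, LinearMap.single R (fun _ : Fin r => R) j (ψ m j)) := by
          rw [map_sum]; rfl
      _ = (u : R) • φ (ψ m) := by rw [hsum]; rfl
      _ = ((u : R) * ((t : R) * (s₁ : R))) • m := by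
          have := LinearMap.congr_fun hu m
          rw [mul_smul]
          exact this

theorem exists_factor_of_projective_away [IsNoetherianRing R] (M : Type u) [AddCommGroup M]
    [Module R M] [Module.Finite R M] (f : R)
    (hM : Module.Projective (Localization.Away f) (LocalizedModule (Submonoid.powers f) M)) :
    ∃ (N r : ℕ) (α : Fin r → (R →ₗ[R] M)) (β : Fin r → (M →ₗ[R] R)),
      ∀ m, ∑ j, α j (β j m) = f ^ N • m := by
  haveI : Module.Finite (Localization.Away f) (LocalizedModule (Submonoid.powers f) M) :=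
    Module.Finite.of_isLocalizedModule (Submonoid.powers f)
      (LocalizedModule.mkLinearMap (Submonoid.powers f) M)
  obtain ⟨r, pp, ii, _, _, hpi⟩ := Module.Finite.exists_comp_eq_id_of_projective
    (Localization.Away f) (LocalizedModule (Submonoid.powers f) M)
  obtain ⟨α, β, s, hs, hsum⟩ := exists_factor_of_retract M (Submonoid.powers f) r
    (ii.restrictScalars R) (pp.restrictScalars R) (fun y => LinearMap.congr_fun hpi y)
  obtain ⟨N, rfl⟩ := (Submonoid.mem_powers_iff s f).1 hs
  exact ⟨N, r, α, β, hsum⟩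

theorem main (A : Type u) [CommRing A] [IsNoetherianRing A] (J I : Ideal A) (hJI : J ≤ I)
    (i n : ℕ) (hA : ∀ a ∈ J ^ n, ∀ x : LocCoh.H I i A, a • x = 0) (M : Type u) [AddCommGroup M]
    [Module A M] [Module.Finite A M]
    (hM : ∀ f ∈ I, Module.Projective (Localization.Away f)
      (LocalizedModule (Submonoid.powers f) M)) :
    ∃ m : ℕ, ∀ a ∈ J ^ m, ∀ x : LocCoh.H I i M, a • x = 0 := by
  classical
  -- the key claim for a single element of `I`
  have key : ∀ f ∈ I, ∃ N : ℕ, ∀ a ∈ J ^ n,
      a * f ^ N ∈ Module.annihilator A (LocCoh.H I i M) := by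
    intro f hf
    obtain ⟨N, r, α, β, hsum⟩ := exists_factor_of_projective_away M f (hM f hf)
    refine ⟨N, fun a ha => ?_⟩
    have h0 : (f ^ N) • 𝟙 (ModuleCat.of A M) =
        ∑ j ∈ Finset.univ, ModuleCat.ofHom (β j) ≫ ModuleCat.ofHom (α j) := by
      apply ModuleCat.hom_ext
      ext m
      rw [ModuleCat.hom_sum, LinearMap.sum_apply]
      exact (hsum m).symm
    have ha0 : a • 𝟙 ((localCohomology I i).obj (ModuleCat.of A A)) = 0 := by
      apply ModuleCat.hom_ext
      ext x
      exact hA a ha x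
    have h1 := smul_H_eq_zero_of_factor I i (ModuleCat.of A M) (ModuleCat.of A A) a (f ^ N)
      Finset.univ (fun j => ModuleCat.ofHom (α j)) (fun j => ModuleCat.ofHom (β j)) h0 ha0
    rw [Module.mem_annihilator]
    intro x
    exact congrArg (fun φ => φ.hom x) h1
  choose! N hN using key
  obtain ⟨s, hs⟩ := (IsNoetherian.noetherian I : I.FG)
  let K : Ideal A := Ideal.span ((fun g => g ^ N g) '' (s : Set A))
  have hsI : ∀ g ∈ s, g ∈ I := fun g hg => by rw [← hs]; exact Ideal.subset_span hg
  have hrad : I ≤ K.radical := by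
    rw [← hs, Ideal.span_le]
    intro g hg
    exact ⟨N g, Ideal.subset_span ⟨g, hg, rfl⟩⟩
  obtain ⟨m', hm'⟩ := Ideal.exists_pow_le_of_le_radical_of_fg hrad (IsNoetherian.noetherian I)
  have hmul : J ^ n * K ≤ Module.annihilator A (LocCoh.H I i M) := by
    rw [Ideal.mul_le]
    intro a ha b hb
    refine Submodule.span_induction (p := fun b _ => a * b ∈
      Module.annihilator A (LocCoh.H I i M)) ?_ ?_ ?_ ?_ hb
    · rintro _ ⟨g, hg, rfl⟩
      exact hN g (hsI g hg) a ha
    · rw [mul_zero]; exact zero_mem _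
    · intro x y _ _ hx hy
      rw [mul_add]; exact add_mem hx hy
    · intro c x _ hx
      rw [smul_eq_mul, mul_left_comm]
      exact Ideal.mul_mem_left _ c hx
  refine ⟨n + m', fun a ha x => ?_⟩
  have h1 : J ^ (n + m') ≤ Module.annihilator A (LocCoh.H I i M) := by
    rw [pow_add]
    exact le_trans (Ideal.mul_mono_right ((Ideal.pow_right_mono hJI m').trans hm')) hmul
  exact Module.mem_annihilator.1 (h1 ha) x

end Groth.Agent.Lib.LocCohProjAwayH7
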