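import Mathlib
import Groth.Prelude.Def_Wider
import Groth.Agent.Lib.LocCohDelta_helper7
import Groth.Agent.Lib.LocCohDT3_helper7
import Groth.Agent.Lib.LocCohH0_helper7
import Groth.Agent.Lib.LocCohFunct_helper7
import Groth.Agent.Lib.LocCohTors_helper7
import Groth.Agent.Lib.LocCohProjAway_helper7

/-!
# Faltings' finiteness criterion for local cohomology (helper7)
-/

open CategoryTheory CategoryTheory.Limits Opposite

namespace Groth.Agent.Lib.LocCohFinH7

universe u

variable {R : Type u} [CommRing R] (I : Ideal R)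

section A

open Groth.Agent.Lib.ExtCompareH7 Groth.Agent.Lib.LocCohTorsVanishH7 Groth.Agent.Lib.LocCohH0H7
open Groth.Agent.Lib.LocCohDepthH7

/-- `H^0_I(N)` embeds into `N` -/
theorem H0_injective (N : Type u) [AddCommGroup N] [Module R N] :
    ∃ Ψ : LocCoh.H I 0 N →ₗ[R] N, Function.Injective Ψ := by
  let F := localCohomology.diagram (localCohomology.idealPowersDiagram I) 0
  let M : ModuleCat.{u} R := ModuleCat.of R N
  have hc := isColimitOfPreserves ((evaluation _ _).obj M) (colimit.isColimit F)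
  let Ψ : (colimit F).obj M ⟶ M := hc.desc (coc I M)
  have hfac : ∀ (k : ℕᵒᵖᵒᵖ) (ξ : ((F.obj k).obj M : ModuleCat.{u} R)),
      Ψ.hom (((colimit.ι F k).app M).hom ξ) = (c I M k).hom ξ := by
    intro k ξ
    have h := congrArg (fun α => α.hom ξ) (hc.fac (coc I M) k)
    exact h
  have hinj : Function.Injective Ψ.hom := by
    rw [injective_iff_map_eq_zero]
    intro m hm
    obtain ⟨k, y, hy⟩ := Groth.Agent.Lib.LocCohTorsH7.exists_rep I 0 M m
    rw [← hy] at hm ⊢
    rw [hfac, c_apply] at hm
    have h1 : (j (ModuleCat.of R (R ⧸ Jk I k)) M).inv.hom y = 0 := by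
      apply hom_ext_one
      rw [hm]
      rfl
    have h2 : y = 0 := iso_inv_eq_zero (j (ModuleCat.of R (R ⧸ Jk I k)) M) y h1
    rw [h2, map_zero]
  exact ⟨Ψ.hom, hinj⟩

end A

theorem H0_finite [IsNoetherianRing R] (N : Type u) [AddCommGroup N] [Module R N]
    [Module.Finite R N] : Module.Finite R (LocCoh.H I 0 N) := by
  obtain ⟨Ψ, hΨ⟩ := H0_injective I N
  exact Module.Finite.of_injective Ψ hΨ

/-- a finite power-torsion module is killed by one power -/
theorem finite_torsion_killed (X : Type u) [AddCommGroup X] [Module R X] [Module.Finite R X]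
    (hX : LocCoh.IsPowerTorsion I X) : ∃ N : ℕ, ∀ a ∈ I ^ N, ∀ x : X, a • x = 0 := by
  classical
  obtain ⟨s, hs⟩ := (Module.Finite.fg_top : (⊤ : Submodule R X).FG)
  choose f hf using hX
  refine ⟨∑ g ∈ s, f g, fun a ha x => ?_⟩
  have hx : x ∈ Submodule.span R (s : Set X) := by rw [hs]; trivial
  have hle : Submodule.span R (s : Set X) ≤ LinearMap.ker (LinearMap.lsmul R X a) := by
    rw [Submodule.span_le]
    intro g hg
    rw [SetLike.mem_coe, LinearMap.mem_ker]
    exact hf g a (Ideal.pow_le_pow_right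
      (Finset.single_le_sum (fun _ _ => Nat.zero_le _) hg) ha)
  exact LinearMap.mem_ker.1 (hle hx)

lemma smul_mk_one (J : Ideal R) (r : R) :
    r • (Ideal.Quotient.mk J 1 : R ⧸ J) = Ideal.Quotient.mk J r := by
  rw [Algebra.smul_def, Ideal.Quotient.algebraMap_eq, ← map_mul, mul_one]

/-- a finite `I`-torsion-free module has a regular element in `I` -/
theorem exists_regular [IsNoetherianRing R] (M : Type u) [AddCommGroup M] [Module R M]
    [Module.Finite R M] (h : DRing.torsionSub I M = ⊥) : ∃ x ∈ I, IsSMulRegular M x := by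
  have hz : ∀ f : (R ⧸ I) →ₗ[R] M, f = 0 := by
    intro f
    have h1 : f (Ideal.Quotient.mk I 1) ∈ DRing.torsionSub I M := by
      refine ⟨1, fun a ha => ?_⟩
      rw [pow_one] at ha
      have h2 : a • (Ideal.Quotient.mk I 1 : R ⧸ I) = 0 := by
        rw [smul_mk_one]
        exact Ideal.Quotient.eq_zero_iff_mem.2 ha
      rw [← map_smul, h2, map_zero]
    rw [h, Submodule.mem_bot] at h1
    apply LinearMap.ext
    intro z
    obtain ⟨r, rfl⟩ := Ideal.Quotient.mk_surjective z
    rw [← smul_mk_one, map_smul, h1, smul_zero, LinearMap.zero_apply]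
  haveI hsub : Subsingleton ((R ⧸ I) →ₗ[R] M) := ⟨fun f g => by rw [hz f, hz g]⟩
  obtain ⟨r, hr, hreg⟩ := IsSMulRegular.subsingleton_linearMap_iff.mp hsub
  rw [Ideal.annihilator_quotient] at hr
  exact ⟨r, hr, hreg⟩

section B

open Groth.Agent.Lib.DT_helper3

theorem torsionSub_quot_eq_bot [IsNoetherianRing R] (M : Type u) [AddCommGroup M] [Module R M] :
    DRing.torsionSub I (M ⧸ DRing.torsionSub I M) = ⊥ := by
  rw [eq_bot_iff]
  rintro z ⟨n, hn⟩
  obtain ⟨m, rfl⟩ := Submodule.Quotient.mk_surjective _ z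
  rw [Submodule.mem_bot, Submodule.Quotient.mk_eq_zero]
  have hf : ∀ y : ↥(I ^ n), smulMap I n m y ∈ DRing.torsionSub I M := by
    intro y
    have h1 := hn y.1 y.2
    rw [← Submodule.Quotient.mk_smul, Submodule.Quotient.mk_eq_zero] at h1
    exact h1
  obtain ⟨k, hk, hres⟩ := exists_res_eq_zero_of_torsion I n (smulMap I n m) hf
  refine ⟨k, fun a ha => ?_⟩
  have h2 := LinearMap.congr_fun hres ⟨a, ha⟩
  exact h2

end B

section C

open Groth.Agent.Lib.DT_helper3 Groth.Agent.Lib.LocCohDTH7 LocCoh

/-- `H^1_I(M)` is finite as soon as an `M`-regular element kills it -/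
theorem H1_finite [IsNoetherianRing R] (M : Type u) [AddCommGroup M] [Module R M]
    [Module.Finite R M] (y : R) (hy : IsSMulRegular M y)
    (hk : ∀ x : LocCoh.H I 1 M, y • x = 0) : Module.Finite R (LocCoh.H I 1 M) := by
  obtain ⟨e⟩ := coker_equiv I M
  have hyD : ∀ d : DT I M, y • d ∈ LinearMap.range (toDT I M) := by
    intro d
    have h1 : e (Submodule.Quotient.mk (y • d)) = 0 := by
      rw [Submodule.Quotient.mk_smul, map_smul]
      exact hk _
    have h2 : (Submodule.Quotient.mk (y • d) : DT I M ⧸ LinearMap.range (toDT I M)) = 0 :=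
      e.injective (h1.trans (map_zero e).symm)
    exact (Submodule.Quotient.mk_eq_zero _).1 h2
  have hinj : ∀ d : DT I M, y • d = 0 → d = 0 := by
    intro d hd
    obtain ⟨n, f, rfl⟩ := exists_cls I d
    have hd' : cls I n (y • f) = 0 := by
      rw [map_smul]
      exact hd
    rw [cls_eq_zero_iff] at hd'
    obtain ⟨k, h, hres⟩ := hd'
    rw [cls_eq_zero_iff]
    refine ⟨k, h, ?_⟩
    apply LinearMap.ext
    intro z
    have h1 := LinearMap.congr_fun hres z
    have h2 : y • (res I h f z) = y • (0 : M) := by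
      rw [smul_zero]
      exact h1
    exact hy h2
  let g : DT I M →ₗ[R] ↥(LinearMap.range (toDT I M)) :=
    LinearMap.codRestrict _ (LinearMap.lsmul R (DT I M) y) hyD
  have hg : Function.Injective g := by
    rw [injective_iff_map_eq_zero]
    intro d hd
    apply hinj
    exact congrArg Subtype.val hd
  haveI : Module.Finite R (DT I M) := Module.Finite.of_injective g hg
  exact Module.Finite.equiv e

end C

section D

open Groth.Agent.Lib.LocCohLESH7 Groth.Agent.Lib.LocCohFunctH7 Groth.Agent.DepthLib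

variable [IsNoetherianRing R]

/-- the inductive step for an `I`-torsion-free module -/
theorem core (n : ℕ)
    (ih : ∀ (M : Type u) [AddCommGroup M] [Module R M] [Module.Finite R M] (J : Ideal R),
      I ≤ J.radical →
      (∀ i : ℕ, i < n → ∀ a ∈ J, ∀ x : LocCoh.H I (i + 1) M, a • x = 0) →
      ∀ i : ℕ, i < n → Module.Finite R (LocCoh.H I (i + 1) M))
    (M : Type u) [AddCommGroup M] [Module R M] [Module.Finite R M]
    (htf : DRing.torsionSub I M = ⊥) (J : Ideal R) (hJ : I ≤ J.radical)
    (hkill : ∀ i : ℕ, i < n + 1 → ∀ a ∈ J, ∀ x : LocCoh.H I (i + 1) M, a • x = 0)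
    (i : ℕ) (hi : i < n + 1) : Module.Finite R (LocCoh.H I (i + 1) M) := by
  obtain ⟨x, hxI, hxreg⟩ := exists_regular I M htf
  obtain ⟨e, he⟩ := hJ hxI
  set y : R := x ^ e with hy
  have hyreg : IsSMulRegular M y := hxreg.pow e
  let f : M →ₗ[R] M := y • LinearMap.id
  let g : M →ₗ[R] M ⧸ LinearMap.range f := (LinearMap.range f).mkQ
  have hex : Function.Exact f g := LinearMap.exact_map_mkQ_range f
  have hinj : Function.Injective f := fun a b hab => hyreg hab
  have hg : Function.Surjective g := Submodule.mkQ_surjective _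
  have hS := shortComplexOf_shortExact f g hinj hg hex
  set S := shortComplexOf f g hex with hSdef
  have hf : S.f = y • 𝟙 (ModuleCat.of R M) := by
    ext z
    rfl
  have hmap : ∀ q : ℕ, (localCohomology I q).map S.f =
      y • 𝟙 ((localCohomology I q).obj (ModuleCat.of R M)) := by
    intro q
    have h1 : (localCohomology I q).map (y • 𝟙 (ModuleCat.of R M)) =
        y • 𝟙 ((localCohomology I q).obj (ModuleCat.of R M)) := by
      rw [H_map_smul, CategoryTheory.Functor.map_id]
    exact (congrArg (fun φ : ModuleCat.of R M ⟶ ModuleCat.of R M =>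
      (localCohomology I q).map φ) hf).trans h1
  have hHf : ∀ (q : ℕ) (m : ((localCohomology I q).obj S.X₁ : ModuleCat.{u} R)),
      ((localCohomology I q).map S.f).hom m = y • m := by
    intro q m
    have h2 := congrArg (fun φ : (localCohomology I q).obj (ModuleCat.of R M) ⟶
      (localCohomology I q).obj (ModuleCat.of R M) => φ.hom m) (hmap q)
    exact h2
  -- annihilation of the cohomology of the quotient
  have killN' : ∀ q : ℕ, q < n → ∀ a ∈ J, ∀ b ∈ J,
      ∀ z : ((localCohomology I (q + 1)).obj S.X₃ : ModuleCat.{u} R), (a * b) • z = 0 := by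
    intro q hq a ha b hb z
    have h0 : b • (δ I hS q).hom z = 0 := hkill (q + 1) (by omega) b hb ((δ I hS q).hom z)
    have h1 : (δ I hS q).hom (b • z) = 0 := by
      rw [map_smul]
      exact h0
    obtain ⟨m₂, hm₂⟩ := exists_of_δ_eq_zero I hS q (b • z) h1
    have h2 : a • m₂ = 0 := hkill q (by omega) a ha m₂
    rw [mul_smul, ← hm₂, ← map_smul, h2, map_zero]
  have killN : ∀ q : ℕ, q < n → ∀ a ∈ J * J,
      ∀ z : LocCoh.H I (q + 1) (M ⧸ LinearMap.range f), a • z = 0 := by
    intro q hq
    have hle : J * J ≤ Module.annihilator R (LocCoh.H I (q + 1) (M ⧸ LinearMap.range f)) := by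
      rw [Ideal.mul_le]
      intro a ha b hb
      rw [Module.mem_annihilator]
      intro z
      exact killN' q hq a ha b hb z
    intro a ha z
    exact Module.mem_annihilator.1 (hle ha) z
  have hJJ : I ≤ (J * J).radical := by
    rw [Ideal.radical_mul, inf_idem]
    exact hJ
  have finN := ih (M ⧸ LinearMap.range f) (J * J) hJJ killN
  cases i with
  | zero =>
    exact H1_finite I M y hyreg (fun m => hkill 0 (by omega) y he m)
  | succ p =>
    haveI : Module.Finite R ((localCohomology I (p + 1)).obj S.X₃ : ModuleCat.{u} R) :=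
      finN p (by omega)
    have hsurj : Function.Surjective (δ I hS p).hom := by
      intro m₁
      apply exists_δ_eq I hS p m₁
      rw [hHf]
      exact hkill (p + 1) hi y he m₁
    exact Module.Finite.of_surjective (δ I hS p).hom hsurj

theorem fin_step (n : ℕ) :
    ∀ (M : Type u) [AddCommGroup M] [Module R M] [Module.Finite R M] (J : Ideal R),
      I ≤ J.radical →
      (∀ i : ℕ, i < n → ∀ a ∈ J, ∀ x : LocCoh.H I (i + 1) M, a • x = 0) →
      ∀ i : ℕ, i < n → Module.Finite R (LocCoh.H I (i + 1) M) := by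
  induction n with
  | zero =>
    intro M _ _ _ J _ _ i hi
    exact absurd hi (Nat.not_lt_zero i)
  | succ n ih =>
    intro M _ _ _ J hJ hkill i hi
    have b := map_mkQ_torsionSub_bijective I M i
    have hkill' : ∀ q : ℕ, q < n + 1 → ∀ a ∈ J,
        ∀ x : LocCoh.H I (q + 1) (M ⧸ DRing.torsionSub I M), a • x = 0 := by
      intro q hq a ha x
      obtain ⟨x', rfl⟩ := (map_mkQ_torsionSub_bijective I M q).2 x
      rw [← map_smul, hkill q hq a ha x', map_zero]
    haveI : Module.Finite R (LocCoh.H I (i + 1) (M ⧸ DRing.torsionSub I M)) :=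
      core I n ih (M ⧸ DRing.torsionSub I M) (torsionSub_quot_eq_bot I M) J hJ hkill' i hi
    exact Module.Finite.equiv (LinearEquiv.ofBijective _ b).symm

/-- Faltings' criterion (S0329) -/
theorem main (M : Type u) [AddCommGroup M] [Module R M] [Module.Finite R M] (n : ℕ) :
    (∀ i : ℕ, i ≤ n → Module.Finite R (LocCoh.H I i M)) ↔
      ∃ J : Ideal R, I ≤ J.radical ∧
        ∀ i : ℕ, i ≤ n → ∀ a ∈ J, ∀ x : LocCoh.H I i M, a • x = 0 := by
  constructor
  · intro hfin
    have hN : ∀ i : ℕ, ∃ N : ℕ, i ≤ n → ∀ a ∈ I ^ N, ∀ x : LocCoh.H I i M, a • x = 0 := by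
      intro i
      by_cases hi : i ≤ n
      · haveI := hfin i hi
        obtain ⟨N, hN⟩ := finite_torsion_killed I (LocCoh.H I i M)
          (Groth.Agent.Lib.LocCohTorsH7.main R I i M)
        exact ⟨N, fun _ => hN⟩
      · exact ⟨0, fun h => absurd h hi⟩
    choose Nf hNf using hN
    refine ⟨I ^ (∑ i ∈ Finset.range (n + 1), Nf i), ?_, ?_⟩
    · intro a ha
      exact ⟨_, Ideal.pow_mem_pow ha _⟩
    · intro i hi a ha x
      exact hNf i hi a (Ideal.pow_le_pow_right
        (Finset.single_le_sum (fun _ _ => Nat.zero_le _)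
          (Finset.mem_range.2 (by omega))) ha) x
  · rintro ⟨J, hJ, hkill⟩ i hi
    cases i with
    | zero => exact H0_finite I M
    | succ p =>
      exact fin_step I n M J hJ (fun q hq a ha x => hkill (q + 1) (by omega) a ha x) p
        (by omega)

/-- S0331 -/
theorem main_projAway (n : ℕ) (hR : ∀ i : ℕ, i ≤ n → Module.Finite R (LocCoh.H I i R))
    (M : Type u) [AddCommGroup M] [Module R M] [Module.Finite R M]
    (hM : ∀ f ∈ I, Module.Projective (Localization.Away f)
      (LocalizedModule (Submonoid.powers f) M)) (i : ℕ) (hi : i ≤ n) :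
    Module.Finite R (LocCoh.H I i M) := by
  have hN : ∀ q : ℕ, ∃ N : ℕ, q ≤ n → ∀ a ∈ I ^ N, ∀ x : LocCoh.H I q M, a • x = 0 := by
    intro q
    by_cases hq : q ≤ n
    · haveI := hR q hq
      obtain ⟨N, hN⟩ := finite_torsion_killed I (LocCoh.H I q R)
        (Groth.Agent.Lib.LocCohTorsH7.main R I q R)
      obtain ⟨m, hm⟩ := Groth.Agent.Lib.LocCohProjAwayH7.main R I I le_rfl q N hN M hM
      exact ⟨m, fun _ => hm⟩
    · exact ⟨0, fun h => absurd h hq⟩
  choose Nf hNf using hN
  refine (main I M n).2 ⟨I ^ (∑ q ∈ Finset.range (n + 1), Nf q), ?_, ?_⟩ i hi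
  · intro a ha
    exact ⟨_, Ideal.pow_mem_pow ha _⟩
  · intro q hq a ha x
    exact hNf q hq a (Ideal.pow_le_pow_right
      (Finset.single_le_sum (fun _ _ => Nat.zero_le _)
        (Finset.mem_range.2 (by omega))) ha) x

end D

end Groth.Agent.Lib.LocCohFinH7
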