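import Mathlib
import Groth.Prelude.Def_Wider
import Groth.Agent.Lib.LocCohFin_helper7
import Groth.Agent.Lib.LocCohColim_helper7

/-!
# Grothendieck's vanishing theorem for local cohomology (helper7)
-/

open CategoryTheory CategoryTheory.Limits Opposite Pointwise

namespace Groth.Agent.Lib.LocCohGVH7

open Groth.Agent.Lib.LocCohLESH7 Groth.Agent.Lib.LocCohFunctH7 Groth.Agent.DepthLib
open Groth.Agent.Lib.LocCohFinH7 Groth.Agent.Lib.ExtCompareH7

universe u

theorem wb_a (x : WithBot ℕ∞) (h : x < ((0 : ℕ) : WithBot ℕ∞)) : x = ⊥ := by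
  induction x using WithBot.recBotCoe with
  | bot => rfl
  | coe e =>
    exfalso
    have h' : (e : WithBot ℕ∞) < ((0 : ℕ∞) : WithBot ℕ∞) := by simpa using h
    exact absurd (WithBot.coe_lt_coe.1 h') not_lt_zero

theorem wb_b (x : WithBot ℕ∞) (d : ℕ) (h : x < ((d + 1 : ℕ) : WithBot ℕ∞)) :
    x ≤ (d : WithBot ℕ∞) := by
  induction x using WithBot.recBotCoe with
  | bot => exact bot_le
  | coe e =>
    have h' : (e : WithBot ℕ∞) < (((d : ℕ∞) + 1 : ℕ∞) : WithBot ℕ∞) := by simpa using h
    have h2 : e < (d : ℕ∞) + 1 := WithBot.coe_lt_coe.1 h'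
    have h3 : e ≤ (d : ℕ∞) := (ENat.lt_add_one_iff (ENat.natCast_ne_top d)).1 h2
    have h4 : (e : WithBot ℕ∞) ≤ ((d : ℕ∞) : WithBot ℕ∞) := WithBot.coe_le_coe.2 h3
    simpa using h4

theorem wb_c (a : WithBot ℕ∞) (d : ℕ) (h : a + 1 ≤ ((d + 1 : ℕ) : WithBot ℕ∞)) :
    a ≤ (d : WithBot ℕ∞) := by
  induction a using WithBot.recBotCoe with
  | bot => exact bot_le
  | coe e =>
    have h' : ((e + 1 : ℕ∞) : WithBot ℕ∞) ≤ (((d : ℕ∞) + 1 : ℕ∞) : WithBot ℕ∞) := by
      simpa using h
    have h2 : e + 1 ≤ (d : ℕ∞) + 1 := WithBot.coe_le_coe.1 h'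
    have h3 : e ≤ (d : ℕ∞) := (ENat.add_le_add_iff_right ENat.one_ne_top).1 h2
    have h4 : (e : WithBot ℕ∞) ≤ ((d : ℕ∞) : WithBot ℕ∞) := WithBot.coe_le_coe.2 h3
    simpa using h4

theorem wb_d (a : WithBot ℕ∞) (h : a + 1 ≤ ((0 : ℕ) : WithBot ℕ∞)) : a = ⊥ := by
  induction a using WithBot.recBotCoe with
  | bot => rfl
  | coe e =>
    exfalso
    have h' : ((e + 1 : ℕ∞) : WithBot ℕ∞) ≤ ((0 : ℕ∞) : WithBot ℕ∞) := by simpa using h
    have h2 : e + 1 ≤ 0 := WithBot.coe_le_coe.1 h'
    simp at h2

variable {R : Type u} [CommRing R] [IsNoetherianRing R] (I : Ideal R)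

/-- an element of `I` acting injectively on `H^i_I(N)` forces vanishing -/
theorem subsingleton_of_smul_injective (i : ℕ) (N : Type u) [AddCommGroup N] [Module R N] (x : R)
    (hx : x ∈ I) (hinj : ∀ m : LocCoh.H I i N, x • m = 0 → m = 0) :
    Subsingleton (LocCoh.H I i N) := by
  have hpow : ∀ (k : ℕ) (m : LocCoh.H I i N), x ^ k • m = 0 → m = 0 := by
    intro k
    induction k with
    | zero =>
      intro m hm
      rwa [pow_zero, one_smul] at hm
    | succ k ih =>
      intro m hm
      apply ih
      apply hinj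
      rw [← mul_smul, ← pow_succ']
      exact hm
  have key : ∀ m : LocCoh.H I i N, m = 0 := by
    intro m
    obtain ⟨k, hk⟩ := Groth.Agent.Lib.LocCohTorsH7.main R I i N m
    exact hpow k m (hk _ (Ideal.pow_mem_pow hx k))
  exact ⟨fun a b => by rw [key a, key b]⟩

/-- transfer along a linear equivalence -/
theorem subsingleton_of_equiv (i : ℕ) {N N' : Type u} [AddCommGroup N] [Module R N]
    [AddCommGroup N'] [Module R N'] (e : N ≃ₗ[R] N') (h : Subsingleton (LocCoh.H I i N')) :
    Subsingleton (LocCoh.H I i N) := by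
  have hid := ((localCohomology I i).mapIso e.toModuleIso).hom_inv_id
  have key : ∀ m : LocCoh.H I i N, m = 0 := by
    intro m
    have h1 := congrArg (fun φ => φ.hom m) hid
    have h2 : ((localCohomology I i).map e.toModuleIso.inv).hom
        (((localCohomology I i).map e.toModuleIso.hom).hom m) = m := h1
    rw [← h2, h.elim (((localCohomology I i).map e.toModuleIso.hom).hom m) 0, map_zero]
  exact ⟨fun a b => by rw [key a, key b]⟩

/-- local cohomology of a zero module -/
theorem subsingleton_of_subsingleton (i : ℕ) (N : Type u) [AddCommGroup N] [Module R N]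
    [Subsingleton N] : Subsingleton (LocCoh.H I i N) := by
  have h0 : 𝟙 (ModuleCat.of R N) = 0 := by
    apply ModuleCat.hom_ext
    apply LinearMap.ext
    intro z
    exact Subsingleton.elim _ _
  have key : ∀ m : LocCoh.H I i N, m = 0 := by
    intro m
    have h1 : (localCohomology I i).map (𝟙 (ModuleCat.of R N)) = 0 := by
      rw [h0, Functor.map_zero]
    rw [CategoryTheory.Functor.map_id] at h1
    exact congrArg (fun φ => φ.hom m) h1
  exact ⟨fun a b => by rw [key a, key b]⟩

/-- the case of `R ⧸ p` -/
theorem quot_prime (d : ℕ)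
    (hQ : ∀ (Q : Type u) [AddCommGroup Q] [Module R Q] [Module.Finite R Q],
      Module.supportDim R Q + 1 ≤ (d : WithBot ℕ∞) → ∀ j : ℕ, d < j + 1 →
        Subsingleton (LocCoh.H I j Q))
    (p : Ideal R) [p.IsPrime] (hdim : Module.supportDim R (R ⧸ p) ≤ (d : WithBot ℕ∞))
    (i : ℕ) (hi : d < i) : Subsingleton (LocCoh.H I i (R ⧸ p)) := by
  by_cases hIp : I ≤ p
  · obtain ⟨q, rfl⟩ : ∃ q, i = q + 1 := ⟨i - 1, by omega⟩
    apply Groth.Agent.Lib.LocCohTorsVanishH7.H_subsingleton I (R ⧸ p) _ q
    intro m
    refine ⟨1, fun a ha => ?_⟩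
    rw [pow_one] at ha
    obtain ⟨r, rfl⟩ := Ideal.Quotient.mk_surjective m
    rw [Algebra.smul_def, Ideal.Quotient.algebraMap_eq, ← map_mul]
    exact Ideal.Quotient.eq_zero_iff_mem.2 (p.mul_mem_right _ (hIp ha))
  · obtain ⟨x, hxI, hxp⟩ := Set.not_subset.1 hIp
    have hreg : IsSMulRegular (R ⧸ p) x := by
      intro a b hab
      obtain ⟨r, rfl⟩ := Ideal.Quotient.mk_surjective a
      obtain ⟨s, rfl⟩ := Ideal.Quotient.mk_surjective b
      have h1 : Ideal.Quotient.mk p (x * r) = Ideal.Quotient.mk p (x * s) := by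
        have h2 : x • Ideal.Quotient.mk p r = x • Ideal.Quotient.mk p s := hab
        rwa [Algebra.smul_def, Algebra.smul_def, Ideal.Quotient.algebraMap_eq, ← map_mul,
          ← map_mul] at h2
      rw [Ideal.Quotient.eq] at h1 ⊢
      have h3 : x * (r - s) ∈ p := by rwa [mul_sub]
      exact (Ideal.IsPrime.mem_or_mem inferInstance h3).resolve_left hxp
    let M := R ⧸ p
    let f : M →ₗ[R] M := x • LinearMap.id
    let g : M →ₗ[R] QuotSMulTop x M := (x • (⊤ : Submodule R M)).mkQ
    have hrange : LinearMap.range f = x • (⊤ : Submodule R M) := by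
      ext m
      rw [Submodule.mem_smul_pointwise_iff_exists]
      constructor
      · rintro ⟨n, rfl⟩
        exact ⟨n, trivial, rfl⟩
      · rintro ⟨n, _, rfl⟩
        exact ⟨n, rfl⟩
    have hex : Function.Exact f g := by
      intro m
      have h1 : g m = 0 ↔ m ∈ x • (⊤ : Submodule R M) := Submodule.Quotient.mk_eq_zero _
      rw [h1, ← hrange]
      exact Iff.rfl
    have hinj : Function.Injective f := fun a b hab => hreg hab
    have hg : Function.Surjective g := Submodule.mkQ_surjective _
    have hS := shortComplexOf_shortExact f g hinj hg hex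
    set S := shortComplexOf f g hex with hSdef
    have hf : S.f = x • 𝟙 (ModuleCat.of R M) := by
      ext z
      rfl
    have hmap : ∀ q : ℕ, (localCohomology I q).map S.f =
        x • 𝟙 ((localCohomology I q).obj (ModuleCat.of R M)) := by
      intro q
      have h1 : (localCohomology I q).map (x • 𝟙 (ModuleCat.of R M)) =
          x • 𝟙 ((localCohomology I q).obj (ModuleCat.of R M)) := by
        rw [H_map_smul, CategoryTheory.Functor.map_id]
      exact (congrArg (fun φ : ModuleCat.of R M ⟶ ModuleCat.of R M =>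
        (localCohomology I q).map φ) hf).trans h1
    have hHf : ∀ (q : ℕ) (m : ((localCohomology I q).obj S.X₁ : ModuleCat.{u} R)),
        ((localCohomology I q).map S.f).hom m = x • m := by
      intro q m
      have h2 := congrArg (fun φ : (localCohomology I q).obj (ModuleCat.of R M) ⟶
        (localCohomology I q).obj (ModuleCat.of R M) => φ.hom m) (hmap q)
      exact h2
    -- dimension drop
    have hdrop : Module.supportDim R (QuotSMulTop x M) + 1 ≤ (d : WithBot ℕ∞) := by
      refine le_trans (Module.supportDim_quotSMulTop_succ_le_of_notMem_minimalPrimes ?_) hdim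
      intro q hq
      rw [Ideal.annihilator_quotient, Ideal.minimalPrimes_eq_subsingleton_self,
        Set.mem_singleton_iff] at hq
      rw [hq]
      exact hxp
    rcases i with _ | _ | q
    · exact absurd hi (Nat.not_lt_zero d)
    · -- `d = 0`, the quotient vanishes
      have hd0 : d = 0 := by omega
      subst hd0
      haveI : Subsingleton (QuotSMulTop x M) :=
        (Module.supportDim_eq_bot_iff_subsingleton (R := R) (M := QuotSMulTop x M)).1
          (wb_d _ hdrop)
      have hsurj : Function.Surjective f := by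
        intro z
        have hz : z ∈ x • (⊤ : Submodule R M) :=
          (Submodule.Quotient.mk_eq_zero _).1 (Subsingleton.elim _ _)
        rw [← hrange] at hz
        exact hz
      let e : M ≃ₗ[R] M := LinearEquiv.ofBijective f ⟨hinj, hsurj⟩
      have hcomp : S.f ≫ ModuleCat.ofHom e.symm.toLinearMap = 𝟙 (ModuleCat.of R M) := by
        apply ModuleCat.hom_ext
        apply LinearMap.ext
        intro z
        exact e.symm_apply_apply z
      have hid : (localCohomology I (0 + 1)).map S.f ≫
          (localCohomology I (0 + 1)).map (ModuleCat.ofHom e.symm.toLinearMap) =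
          𝟙 ((localCohomology I (0 + 1)).obj (ModuleCat.of R M)) :=
        (((localCohomology I (0 + 1)).map_comp S.f
          (ModuleCat.ofHom e.symm.toLinearMap)).symm.trans
          (congrArg (fun φ : ModuleCat.of R M ⟶ ModuleCat.of R M =>
            (localCohomology I (0 + 1)).map φ) hcomp)).trans
          ((localCohomology I (0 + 1)).map_id _)
      apply subsingleton_of_smul_injective I (0 + 1) M x hxI
      intro m hm
      let m' : ((localCohomology I (0 + 1)).obj S.X₁ : ModuleCat.{u} R) := m
      have hm' : ((localCohomology I (0 + 1)).map S.f).hom m' = 0 := (hHf (0 + 1) m').trans hm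
      have h1 := congrArg (fun φ : (localCohomology I (0 + 1)).obj (ModuleCat.of R M) ⟶
        (localCohomology I (0 + 1)).obj (ModuleCat.of R M) => φ.hom m') hid
      have h2 : ((localCohomology I (0 + 1)).map (ModuleCat.ofHom e.symm.toLinearMap)).hom
          (((localCohomology I (0 + 1)).map S.f).hom m') = m' := h1
      have h3 : ((localCohomology I (0 + 1)).map (ModuleCat.ofHom e.symm.toLinearMap)).hom
          (0 : ((localCohomology I (0 + 1)).obj (ModuleCat.of R M) : ModuleCat.{u} R)) = 0 :=
        map_zero _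
      exact h2.symm.trans ((congrArg
        (fun z : ((localCohomology I (0 + 1)).obj (ModuleCat.of R M) : ModuleCat.{u} R) =>
          ((localCohomology I (0 + 1)).map (ModuleCat.ofHom e.symm.toLinearMap)).hom z)
        hm').trans h3)
    · have hsub : Subsingleton ((localCohomology I (q + 1)).obj S.X₃ : ModuleCat.{u} R) :=
        hQ (QuotSMulTop x M) hdrop (q + 1) (by omega)
      have hinjH := injective_of_subsingleton I hS q hsub
      apply subsingleton_of_smul_injective I (q + 1 + 1) M x hxI
      intro m hm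
      let m' : ((localCohomology I (q + 2)).obj S.X₁ : ModuleCat.{u} R) := m
      have hm' : ((localCohomology I (q + 2)).map S.f).hom m' = 0 := (hHf (q + 2) m').trans hm
      exact hinjH (hm'.trans (map_zero _).symm)

/-- the inductive statement for finite modules, given the statement in lower dimension -/
theorem fin_of_hQ (d : ℕ)
    (hQ : ∀ (Q : Type u) [AddCommGroup Q] [Module R Q] [Module.Finite R Q],
      Module.supportDim R Q + 1 ≤ (d : WithBot ℕ∞) → ∀ j : ℕ, d < j + 1 →
        Subsingleton (LocCoh.H I j Q))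
    (N : Type u) [AddCommGroup N] [Module R N] [hN : Module.Finite R N] :
    Module.supportDim R N ≤ (d : WithBot ℕ∞) → ∀ i : ℕ, d < i →
      Subsingleton (LocCoh.H I i N) := by
  induction hN using IsNoetherianRing.induction_on_isQuotientEquivQuotientPrime R with
  | subsingleton N =>
    intro _ i _
    exact subsingleton_of_subsingleton I i N
  | quotient N p e =>
    intro hdim i hi
    apply subsingleton_of_equiv I i e
    exact quot_prime I d hQ p.1 ((Module.supportDim_eq_of_equiv e).symm.le.trans hdim) i hi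
  | exact N₁ N₂ N₃ f g hf hg hfg h₁ h₃ =>
    intro hdim i hi
    have s1 := h₁ ((Module.supportDim_le_of_injective f hf).trans hdim) i hi
    have s3 := h₃ ((Module.supportDim_le_of_surjective g hg).trans hdim) i hi
    obtain ⟨q, rfl⟩ : ∃ q, i = q + 1 := ⟨i - 1, by omega⟩
    have hS := shortComplexOf_shortExact f g hf hg hfg
    have key : ∀ m : LocCoh.H I (q + 1) N₂, m = 0 := by
      intro m
      obtain ⟨m₁, hm₁⟩ := exact_middle I hS q m (s3.elim _ _)
      have hm0 : m₁ = 0 := s1.elim _ _
      exact hm₁.symm.trans ((congrArg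
        (fun z => ((localCohomology I (q + 1)).map (shortComplexOf f g hfg).f).hom z)
        hm0).trans (map_zero _))
    exact ⟨fun a b => by rw [key a, key b]⟩

/-- Grothendieck vanishing for finite modules -/
theorem GV_fin (d : ℕ) :
    ∀ (N : Type u) [AddCommGroup N] [Module R N] [Module.Finite R N],
      Module.supportDim R N ≤ (d : WithBot ℕ∞) → ∀ i : ℕ, d < i →
        Subsingleton (LocCoh.H I i N) := by
  induction d with
  | zero =>
    intro N _ _ _
    apply fin_of_hQ I 0
    intro Q _ _ _ hQd j _
    haveI : Subsingleton Q :=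
      (Module.supportDim_eq_bot_iff_subsingleton (R := R) (M := Q)).1 (wb_d _ hQd)
    exact subsingleton_of_subsingleton I j Q
  | succ d ih =>
    intro N _ _ _
    apply fin_of_hQ I (d + 1)
    intro Q _ _ _ hQd j hj
    exact ih Q (wb_c _ d hQd) j (by omega)

section fg

variable (M : Type u) [AddCommGroup M] [Module R M]

/-- the finitely generated submodules -/
abbrev FGSub := {N : Submodule R M // N.FG}

instance : IsDirected (FGSub (R := R) M) (· ≤ ·) :=
  ⟨fun a b => ⟨⟨a.1 ⊔ b.1, a.2.sup b.2⟩, le_sup_left, le_sup_right⟩⟩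

instance : Nonempty (FGSub (R := R) M) := ⟨⟨⊥, Submodule.fg_bot⟩⟩

/-- the diagram of finitely generated submodules -/
def KFG : FGSub (R := R) M ⥤ ModuleCat.{u} R where
  obj N := ModuleCat.of R ↥N.1
  map h := ModuleCat.ofHom (Submodule.inclusion (leOfHom h))
  map_id _ := by
    apply ModuleCat.hom_ext
    apply LinearMap.ext
    intro x
    rfl
  map_comp _ _ := by
    apply ModuleCat.hom_ext
    apply LinearMap.ext
    intro x
    rfl

/-- the cocone with point `M` -/
def cFG : Cocone (KFG (R := R) M) where
  pt := ModuleCat.of R M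
  ι :=
    { app := fun N => ModuleCat.ofHom N.1.subtype
      naturality := fun _ _ _ => by
        apply ModuleCat.hom_ext
        apply LinearMap.ext
        intro x
        rfl }

/-- a module is the directed colimit of its finitely generated submodules -/
noncomputable def hcFG : IsColimit (cFG (R := R) M) := by
  refine isColimitOfReflects (forget (ModuleCat.{u} R)) ?_
  apply Types.FilteredColimit.isColimitOf'
  · intro x
    let x' : M := x
    exact ⟨⟨Submodule.span R {x'}, Submodule.fg_span_singleton x'⟩,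
      ⟨x', Submodule.mem_span_singleton_self x'⟩, rfl⟩
  · intro N x y h
    refine ⟨N, 𝟙 N, ?_⟩
    have hxy : x = y := Subtype.ext h
    rw [hxy]

end fg

/-- Grothendieck's vanishing theorem (S11625) -/
theorem GV (M : Type u) [AddCommGroup M] [Module R M] (i : ℕ)
    (hi : Module.supportDim R M < (i : WithBot ℕ∞)) : Subsingleton (LocCoh.H I i M) := by
  rcases Nat.eq_zero_or_pos i with rfl | hpos
  · haveI : Subsingleton M :=
      (Module.supportDim_eq_bot_iff_subsingleton (R := R) (M := M)).1 (wb_a _ hi)
    exact subsingleton_of_subsingleton I 0 M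
  · obtain ⟨d, rfl⟩ : ∃ d, i = d + 1 := ⟨i - 1, by omega⟩
    have hle : Module.supportDim R M ≤ (d : WithBot ℕ∞) := wb_b _ d hi
    have key : ∀ x : LocCoh.H I (d + 1) M, x = 0 := by
      intro x
      let x' : ((localCohomology I (d + 1)).obj (cFG (R := R) M).pt : ModuleCat.{u} R) := x
      obtain ⟨k, ξ, hξ⟩ := exists_rep I (d + 1) (cFG (R := R) M).pt x'
      haveI : Module.Finite R (Xk I k) :=
        (inferInstance :
          Module.Finite R (R ⧸ (localCohomology.idealPowersDiagram I).obj (unop k)))
      obtain ⟨N, ξN, hξN⟩ := Groth.Agent.Lib.LocCohColimH7.ext_exists_rep (KFG (R := R) M)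
        (cFG (R := R) M) (hcFG (R := R) M) (Xk I k) (d + 1) ξ
      haveI : Module.Finite R ↥N.1 := Module.Finite.iff_fg.2 N.2
      have hsub : Subsingleton (LocCoh.H I (d + 1) ↥N.1) :=
        GV_fin I d ↥N.1
          ((Module.supportDim_le_of_injective N.1.subtype
            (Submodule.injective_subtype _)).trans hle) (d + 1) (by omega)
      have h0 : (ιk I (d + 1) k ((KFG (R := R) M).obj N)).hom ξN = 0 := hsub.elim _ _
      have h1 := ι_nat I (d + 1) ((cFG (R := R) M).ι.app N) k ξN
      have e1 : (ιk I (d + 1) k (cFG (R := R) M).pt).hom ξ =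
          (ιk I (d + 1) k (cFG (R := R) M).pt).hom
            ((((Ext R (ModuleCat.{u} R) (d + 1)).obj (op (Xk I k))).map
              ((cFG (R := R) M).ι.app N)).hom ξN) :=
        congrArg (fun z => (ιk I (d + 1) k (cFG (R := R) M).pt).hom z) hξN.symm
      have e2 : ((localCohomology I (d + 1)).map ((cFG (R := R) M).ι.app N)).hom
          ((ιk I (d + 1) k ((KFG (R := R) M).obj N)).hom ξN) = 0 :=
        (congrArg (fun z => ((localCohomology I (d + 1)).map
          ((cFG (R := R) M).ι.app N)).hom z) h0).trans (map_zero _)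
      exact hξ.symm.trans (e1.trans (h1.symm.trans e2))
    exact ⟨fun a b => by rw [key a, key b]⟩

/-- `cd(R, I) ≤ dim R` (S0325) -/
theorem cdLE_of_dim (d : ℕ) (hd : ringKrullDim R ≤ d) : LocCoh.CdLE R I d := by
  intro M _ _ i hi
  apply GV I M i
  refine lt_of_le_of_lt ((Module.supportDim_le_ringKrullDim R M).trans hd) ?_
  exact_mod_cast hi

end Groth.Agent.Lib.LocCohGVH7
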