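import Mathlib
import Groth.Prelude.Def_Wider
import Groth.Agent.Lib.LocCohGV_helper7
import Groth.Agent.Lib.LocCohDTExact_helper7
import Groth.Agent.Lib.TorsRes_helper7

/-!
# Cohomological dimension is bounded by the number of generators (helper7)
-/

open CategoryTheory CategoryTheory.Limits Opposite

namespace Groth.Agent.Lib.LocCohAraH7

open Groth.Agent.Lib.LocCohLESH7 Groth.Agent.Lib.LocCohFunctH7 Groth.Agent.DepthLib
open Groth.Agent.Lib.LocCohFinH7 Groth.Agent.Lib.LocCohGVH7 Groth.Agent.Lib.LocCohDTH7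
open Groth.Agent.Lib.LocCohDTExactH7 Groth.Agent.Lib.TorsResH7

universe u

variable {R : Type u} [CommRing R] [IsNoetherianRing R]

/-- a module on which an element of `I` acts bijectively has no local cohomology -/
theorem subsingleton_of_bijective (I : Ideal R) (i : ℕ) (N : Type u) [AddCommGroup N]
    [Module R N] (x : R) (hx : x ∈ I) (hbij : Function.Bijective (fun n : N => x • n)) :
    Subsingleton (LocCoh.H I i N) := by
  let f : N →ₗ[R] N := x • LinearMap.id
  let e : N ≃ₗ[R] N := LinearEquiv.ofBijective f hbij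
  have hf : ModuleCat.ofHom f = x • 𝟙 (ModuleCat.of R N) := by
    ext z
    rfl
  have hcomp : ModuleCat.ofHom f ≫ ModuleCat.ofHom e.symm.toLinearMap =
      𝟙 (ModuleCat.of R N) := by
    apply ModuleCat.hom_ext
    apply LinearMap.ext
    intro z
    exact e.symm_apply_apply z
  have hid : (localCohomology I i).map (ModuleCat.ofHom f) ≫
      (localCohomology I i).map (ModuleCat.ofHom e.symm.toLinearMap) = 𝟙 _ := by
    rw [← Functor.map_comp, hcomp, CategoryTheory.Functor.map_id]
  have hmap : (localCohomology I i).map (ModuleCat.ofHom f) =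
      x • 𝟙 ((localCohomology I i).obj (ModuleCat.of R N)) := by
    rw [hf, H_map_smul, CategoryTheory.Functor.map_id]
  apply subsingleton_of_smul_injective I i N x hx
  intro m hm
  have h1 := congrArg (fun φ => φ.hom m) hid
  rw [hmap] at h1
  have h2 : ((localCohomology I i).map (ModuleCat.ofHom e.symm.toLinearMap)).hom (x • m) = m :=
    h1
  rw [hm, map_zero] at h2
  exact h2.symm

/-- power torsion for a principal ideal, elementwise -/
lemma xt_elem {x : R} {T : Type u} [AddCommGroup T] [Module R T]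
    (hT : LocCoh.IsPowerTorsion (Ideal.span {x}) T) (t : T) : ∃ n : ℕ, x ^ n • t = 0 := by
  obtain ⟨n, hn⟩ := hT t
  exact ⟨n, hn _ (Ideal.pow_mem_pow (Ideal.mem_span_singleton_self x) n)⟩

/-- the degree one comparison for `x`-power torsion modules -/
theorem H1_of_sup (J : Ideal R) (x : R) (T : Type u) [AddCommGroup T] [Module R T]
    (hT : LocCoh.IsPowerTorsion (Ideal.span {x}) T) (hJ : Subsingleton (LocCoh.H J 1 T)) :
    Subsingleton (LocCoh.H (J ⊔ Ideal.span {x}) 1 T) := by
  classical
  have hxI : x ∈ J ⊔ Ideal.span {x} := Ideal.mem_sup_right (Ideal.mem_span_singleton_self x)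
  have key : ∀ z : LocCoh.H (J ⊔ Ideal.span {x}) 1 T, z = 0 := by
    intro z
    obtain ⟨d, rfl⟩ := ΦD_surjective (J ⊔ Ideal.span {x}) T z
    obtain ⟨k, φ, rfl⟩ := DT_helper3.exists_cls (J ⊔ Ideal.span {x}) d
    have hle : J ^ k ≤ (J ⊔ Ideal.span {x}) ^ k := Ideal.pow_right_mono le_sup_left k
    let φJ : ↥(J ^ k) →ₗ[R] T := φ ∘ₗ Submodule.inclusion hle
    obtain ⟨q, hq⟩ := mem_range_of_ΦD_eq_zero J T (DT_helper3.cls J k φJ) (hJ.elim _ _)
    rw [DT_helper3.toDT_eq_cls' J k] at hq
    have h0 : DT_helper3.cls J k (φJ - DT_helper3.smulMap J k q) = 0 := by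
      rw [map_sub, hq, sub_self]
    obtain ⟨k₁, hk₁, hres⟩ := (DT_helper3.cls_eq_zero_iff J k _).1 h0
    let ψ : ↥((J ⊔ Ideal.span {x}) ^ k) →ₗ[R] T :=
      φ - DT_helper3.smulMap (J ⊔ Ideal.span {x}) k q
    have hψJ : ∀ (b : R) (hb : b ∈ J ^ k₁),
        ψ ⟨b, hle (Ideal.pow_le_pow_right hk₁ hb)⟩ = 0 := by
      intro b hb
      have h1 := LinearMap.congr_fun hres ⟨b, hb⟩
      exact h1
    -- a uniform power of `x` killing the image of `ψ`
    obtain ⟨N, hN⟩ : ∃ N : ℕ, ∀ a : ↥((J ⊔ Ideal.span {x}) ^ k), x ^ N • ψ a = 0 := by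
      obtain ⟨r, s, hs⟩ := Module.Finite.exists_fin (R := R)
        (M := ↥((J ⊔ Ideal.span {x}) ^ k))
      choose nf hnf using fun j => xt_elem hT (ψ (s j))
      refine ⟨∑ j, nf j, fun a => ?_⟩
      have hle2 : Submodule.span R (Set.range s) ≤
          LinearMap.ker ((x ^ (∑ j, nf j)) • ψ) := by
        rw [Submodule.span_le]
        rintro _ ⟨j, rfl⟩
        rw [SetLike.mem_coe, LinearMap.mem_ker, LinearMap.smul_apply]
        have hpow : x ^ (∑ j, nf j) = x ^ (∑ j', nf j' - nf j) * x ^ nf j := by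
          rw [← pow_add, Nat.sub_add_cancel
            (Finset.single_le_sum (fun _ _ => Nat.zero_le _) (Finset.mem_univ j))]
        rw [hpow, mul_smul, hnf j, smul_zero]
      have ha : a ∈ Submodule.span R (Set.range s) := by rw [hs]; trivial
      exact LinearMap.mem_ker.1 (hle2 ha)
    -- `ψ` vanishes on a high power
    have hk₂ : k ≤ k₁ + (k + N) := by omega
    have hψ0 : DT_helper3.res (J ⊔ Ideal.span {x}) hk₂ ψ = 0 := by
      apply LinearMap.ext
      intro a
      have ha : (a : R) ∈ J ^ k₁ ⊔ (Ideal.span {x}) ^ (k + N) :=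
        Ideal.sup_pow_add_le_pow_sup_pow a.2
      obtain ⟨b, hb, c, hc, hbc⟩ := Submodule.mem_sup.1 ha
      rw [Ideal.span_singleton_pow, Ideal.mem_span_singleton'] at hc
      obtain ⟨r, rfl⟩ := hc
      have hcI : r * x ^ k ∈ (J ⊔ Ideal.span {x}) ^ k :=
        Ideal.mul_mem_left _ _ (Ideal.pow_mem_pow hxI k)
      have hbI : b ∈ (J ⊔ Ideal.span {x}) ^ k := hle (Ideal.pow_le_pow_right hk₁ hb)
      have hsplit : (⟨(a : R), Ideal.pow_le_pow_right hk₂ a.2⟩ :
          ↥((J ⊔ Ideal.span {x}) ^ k)) = ⟨b, hbI⟩ + x ^ N • ⟨r * x ^ k, hcI⟩ := by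
        apply Subtype.ext
        show (a : R) = b + x ^ N * (r * x ^ k)
        rw [← hbc]
        ring
      show ψ ⟨(a : R), Ideal.pow_le_pow_right hk₂ a.2⟩ = 0
      rw [hsplit, map_add, map_smul, hψJ b hb, hN, add_zero]
    have hcls : DT_helper3.cls (J ⊔ Ideal.span {x}) k ψ = 0 :=
      (DT_helper3.cls_eq_zero_iff (J ⊔ Ideal.span {x}) k ψ).2 ⟨_, hk₂, hψ0⟩
    have hφ : DT_helper3.cls (J ⊔ Ideal.span {x}) k φ =
        LocCoh.toDT (J ⊔ Ideal.span {x}) T q := by
      rw [DT_helper3.toDT_eq_cls' (J ⊔ Ideal.span {x}) k, ← sub_eq_zero, ← map_sub]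
      exact hcls
    rw [hφ]
    exact ΦD_toDT (J ⊔ Ideal.span {x}) T q
  exact ⟨fun a b => by rw [key a, key b]⟩

/-- the comparison in all positive degrees for `x`-power torsion modules -/
theorem H_of_sup (J : Ideal R) (x : R) (i : ℕ) :
    ∀ X : ModuleCat.{u} R, LocCoh.IsPowerTorsion (Ideal.span {x}) X →
      Subsingleton ((localCohomology J (i + 1)).obj X : ModuleCat.{u} R) →
      Subsingleton ((localCohomology (J ⊔ Ideal.span {x}) (i + 1)).obj X : ModuleCat.{u} R) := by
  induction i with
  | zero =>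
    intro X hT hJ
    exact H1_of_sup J x X hT hJ
  | succ i ih =>
    intro X hT hJ
    haveI : Mono (Ti (Ideal.span {x}) X) := Ti_mono (Ideal.span {x}) X hT
    let S : ShortComplex (ModuleCat.{u} R) :=
      ShortComplex.mk (Ti (Ideal.span {x}) X) (cokernel.π (Ti (Ideal.span {x}) X))
        (cokernel.condition _)
    have hS : S.ShortExact := ShortComplex.ShortExact.mk (ShortComplex.exact_cokernel _)
    haveI : Injective S.X₂ := TJ_inj (Ideal.span {x}) X
    have hQT : LocCoh.IsPowerTorsion (Ideal.span {x}) S.X₃ :=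
      tors_cokernel (Ideal.span {x}) _ (TJ_tors (Ideal.span {x}) X)
    have hQJ : Subsingleton ((localCohomology J (i + 1)).obj S.X₃ : ModuleCat.{u} R) := by
      have hE2 : Subsingleton ((localCohomology J (i + 1)).obj S.X₂ : ModuleCat.{u} R) :=
        H_subsingleton_of_injective J S.X₂ i
      have key : ∀ m₃ : ((localCohomology J (i + 1)).obj S.X₃ : ModuleCat.{u} R), m₃ = 0 := by
        intro m₃
        obtain ⟨m₂, hm₂⟩ := exists_of_δ_eq_zero J hS i m₃ (hJ.elim _ _)
        have hm0 : m₂ = 0 := hE2.elim _ _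
        exact hm₂.symm.trans ((congrArg
          (fun z => ((localCohomology J (i + 1)).map S.g).hom z) hm0).trans (map_zero _))
      exact ⟨fun a b => (key a).trans (key b).symm⟩
    have hQI := ih S.X₃ hQT hQJ
    have hE2I : Subsingleton
        ((localCohomology (J ⊔ Ideal.span {x}) (i + 2)).obj S.X₂ : ModuleCat.{u} R) :=
      H_subsingleton_of_injective _ S.X₂ (i + 1)
    have key : ∀ m₁ :
        ((localCohomology (J ⊔ Ideal.span {x}) (i + 2)).obj S.X₁ : ModuleCat.{u} R), m₁ = 0 := by
      intro m₁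
      obtain ⟨m₃, hm₃⟩ := exists_δ_eq (J ⊔ Ideal.span {x}) hS i m₁ (hE2I.elim _ _)
      have hm0 : m₃ = 0 := hQI.elim _ _
      exact hm₃.symm.trans ((congrArg
        (fun z => (δ (J ⊔ Ideal.span {x}) hS i).hom z) hm0).trans (map_zero _))
    exact ⟨fun a b => (key a).trans (key b).symm⟩

/-- adding one generator raises the cohomological dimension by at most one -/
theorem cd_sup_span (J : Ideal R) (x : R) (n : ℕ) (hJ : LocCoh.CdLE R J n) :
    LocCoh.CdLE R (J ⊔ Ideal.span {x}) (n + 1) := by
  intro M _ _ i hi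
  obtain ⟨q, rfl⟩ : ∃ q, i = q + 2 := ⟨i - 2, by omega⟩
  have hxI : x ∈ J ⊔ Ideal.span {x} := Ideal.mem_sup_right (Ideal.mem_span_singleton_self x)
  -- the torsion part
  let T := DRing.torsionSub (Ideal.span {x}) M
  have hTt : LocCoh.IsPowerTorsion (Ideal.span {x}) ↥T := by
    intro m
    obtain ⟨k, hk⟩ := m.2
    exact ⟨k, fun a ha => Subtype.ext (hk a ha)⟩
  have hT0 : Subsingleton (LocCoh.H (J ⊔ Ideal.span {x}) (q + 2) ↥T) :=
    H_of_sup J x (q + 1) (ModuleCat.of R ↥T) hTt (hJ ↥T (q + 2) (by omega))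
  -- the torsion-free quotient
  have hbot := torsionSub_quot_eq_bot (Ideal.span {x}) M
  have hreg : IsSMulRegular (M ⧸ T) x := by
    intro a b hab
    have h1 : x • (a - b) = 0 := by rw [smul_sub, sub_eq_zero]; exact hab
    have h2 : a - b ∈ DRing.torsionSub (Ideal.span {x}) (M ⧸ T) := by
      refine ⟨1, fun c hc => ?_⟩
      rw [pow_one, Ideal.mem_span_singleton'] at hc
      obtain ⟨r, rfl⟩ := hc
      rw [mul_smul, h1, smul_zero]
    rw [hbot, Submodule.mem_bot] at h2
    exact sub_eq_zero.1 h2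
  let mk := LocalizedModule.mkLinearMap (Submonoid.powers x) (M ⧸ T)
  have hmk : Function.Injective mk := by
    rw [IsLocalizedModule.injective_iff_isRegular (S := Submonoid.powers x) mk]
    intro c
    obtain ⟨k, hk⟩ := (Submonoid.mem_powers_iff _ _).1 c.2
    intro a b hab
    have hab' : x ^ k • a = x ^ k • b := by
      rw [hk]
      exact hab
    exact (hreg.pow k) hab'
  have hbij : Function.Bijective
      (fun l : LocalizedModule (Submonoid.powers x) (M ⧸ T) => x • l) := by
    have hu := IsLocalizedModule.map_units mk (⟨x, Submonoid.mem_powers x⟩ : Submonoid.powers x)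
    exact (Module.End.isUnit_iff _).1 hu
  have hL : ∀ j : ℕ, Subsingleton (LocCoh.H (J ⊔ Ideal.span {x}) j
      (LocalizedModule (Submonoid.powers x) (M ⧸ T))) :=
    fun j => subsingleton_of_bijective _ j _ x hxI hbij
  -- the cokernel of the localization map is torsion
  have hCt : LocCoh.IsPowerTorsion (Ideal.span {x})
      (LocalizedModule (Submonoid.powers x) (M ⧸ T) ⧸ LinearMap.range mk) := by
    intro c
    obtain ⟨l, rfl⟩ := Submodule.mkQ_surjective _ c
    obtain ⟨⟨m, s⟩, hs⟩ := IsLocalizedModule.surj (Submonoid.powers x) mk l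
    obtain ⟨k, hk⟩ := (Submonoid.mem_powers_iff _ _).1 s.2
    refine ⟨k, fun a ha => ?_⟩
    rw [Ideal.span_singleton_pow, Ideal.mem_span_singleton'] at ha
    obtain ⟨r, rfl⟩ := ha
    have hs' : x ^ k • l = mk m := by
      rw [hk]
      exact hs
    rw [← map_smul, Submodule.mkQ_apply, Submodule.Quotient.mk_eq_zero]
    exact ⟨r • m, by rw [map_smul, ← hs', mul_smul]⟩
  have hC0 : Subsingleton (LocCoh.H (J ⊔ Ideal.span {x}) (q + 1)
      (LocalizedModule (Submonoid.powers x) (M ⧸ T) ⧸ LinearMap.range mk)) :=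
    H_of_sup J x q (ModuleCat.of R _) hCt (hJ _ (q + 1) (by omega))
  -- first sequence
  have hS1 := shortComplexOf_shortExact mk (LinearMap.range mk).mkQ hmk
    (Submodule.mkQ_surjective _) (LinearMap.exact_map_mkQ_range mk)
  have hMbar : ∀ m₁ : LocCoh.H (J ⊔ Ideal.span {x}) (q + 2) (M ⧸ T), m₁ = 0 := by
    intro m₁
    obtain ⟨m₃, hm₃⟩ := exists_δ_eq (J ⊔ Ideal.span {x}) hS1 q m₁ ((hL (q + 2)).elim _ _)
    have hm0 : m₃ = 0 := hC0.elim _ _
    exact hm₃.symm.trans ((congrArg
      (fun z => (δ (J ⊔ Ideal.span {x}) hS1 q).hom z) hm0).trans (map_zero _))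
  -- second sequence
  have hS2 := shortComplexOf_shortExact T.subtype T.mkQ (Submodule.injective_subtype _)
    (Submodule.mkQ_surjective _) (LinearMap.exact_subtype_mkQ T)
  have key : ∀ m : LocCoh.H (J ⊔ Ideal.span {x}) (q + 2) M, m = 0 := by
    intro m
    obtain ⟨m₁, hm₁⟩ := exact_middle (J ⊔ Ideal.span {x}) hS2 (q + 1) m (hMbar _)
    have hm0 : m₁ = 0 := hT0.elim _ _
    exact hm₁.symm.trans ((congrArg
      (fun z => ((localCohomology (J ⊔ Ideal.span {x}) (q + 2)).map
        (shortComplexOf T.subtype T.mkQ (LinearMap.exact_subtype_mkQ T)).f).hom z)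
      hm0).trans (map_zero _))
  exact ⟨fun a b => (key a).trans (key b).symm⟩

/-- S0326 -/
theorem cdLE_span (s : Finset R) : LocCoh.CdLE R (Ideal.span (s : Set R)) s.card := by
  classical
  induction s using Finset.induction_on with
  | empty =>
    intro M _ _ i hi
    rw [Finset.coe_empty, Ideal.span_empty]
    obtain ⟨q, rfl⟩ : ∃ q, i = q + 1 := ⟨i - 1, by
      rw [Finset.card_empty] at hi
      omega⟩
    apply Groth.Agent.Lib.LocCohTorsVanishH7.H_subsingleton ⊥ M _ q
    intro m
    refine ⟨1, fun a ha => ?_⟩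
    rw [pow_one, Ideal.mem_bot] at ha
    rw [ha, zero_smul]
  | insert a s ha ih =>
    rw [Finset.coe_insert, Ideal.span_insert, sup_comm, Finset.card_insert_of_notMem ha]
    exact cd_sup_span (Ideal.span (s : Set R)) a s.card ih

section fg

variable (I : Ideal R)

/-- vanishing can be tested on finitely generated submodules -/
theorem subsingleton_of_forall_fg (i : ℕ) (M : Type u) [AddCommGroup M] [Module R M]
    (h : ∀ N : Submodule R M, N.FG → Subsingleton (LocCoh.H I i ↥N)) :
    Subsingleton (LocCoh.H I i M) := by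
  have key : ∀ x : LocCoh.H I i M, x = 0 := by
    intro x
    let x' : ((localCohomology I i).obj (cFG (R := R) M).pt : ModuleCat.{u} R) := x
    obtain ⟨k, ξ, hξ⟩ := exists_rep I i (cFG (R := R) M).pt x'
    haveI : Module.Finite R (Xk I k) :=
      (inferInstance :
        Module.Finite R (R ⧸ (localCohomology.idealPowersDiagram I).obj (unop k)))
    obtain ⟨N, ξN, hξN⟩ := Groth.Agent.Lib.LocCohColimH7.ext_exists_rep (KFG (R := R) M)
      (cFG (R := R) M) (hcFG (R := R) M) (Xk I k) i ξ
    have hsub : Subsingleton (LocCoh.H I i ↥N.1) := h N.1 N.2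
    have h0 : (ιk I i k ((KFG (R := R) M).obj N)).hom ξN = 0 := hsub.elim _ _
    have h1 := ι_nat I i ((cFG (R := R) M).ι.app N) k ξN
    have e1 : (ιk I i k (cFG (R := R) M).pt).hom ξ =
        (ιk I i k (cFG (R := R) M).pt).hom
          ((((Ext R (ModuleCat.{u} R) i).obj (op (Xk I k))).map
            ((cFG (R := R) M).ι.app N)).hom ξN) :=
      congrArg (fun z => (ιk I i k (cFG (R := R) M).pt).hom z) hξN.symm
    have e2 : ((localCohomology I i).map ((cFG (R := R) M).ι.app N)).hom
        ((ιk I i k ((KFG (R := R) M).obj N)).hom ξN) = 0 :=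
      (congrArg (fun z => ((localCohomology I i).map
        ((cFG (R := R) M).ι.app N)).hom z) h0).trans (map_zero _)
    exact hξ.symm.trans (e1.trans (h1.symm.trans e2))
  exact ⟨fun a b => by rw [key a, key b]⟩

/-- one step of the descending induction -/
theorem cd_step (e : ℕ) (h : LocCoh.CdLE R I (e + 1))
    (hR : Subsingleton (LocCoh.H I (e + 1) R)) : LocCoh.CdLE R I e := by
  have hfin : ∀ (N : Type u) [AddCommGroup N] [Module R N] [hN : Module.Finite R N],
      Subsingleton (LocCoh.H I (e + 1) N) := by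
    intro N _ _ hN
    induction hN using IsNoetherianRing.induction_on_isQuotientEquivQuotientPrime R with
    | subsingleton N => exact subsingleton_of_subsingleton I (e + 1) N
    | quotient N p eq =>
      apply subsingleton_of_equiv I (e + 1) eq
      have hS := shortComplexOf_shortExact p.1.subtype p.1.mkQ (Submodule.injective_subtype _)
        (Submodule.mkQ_surjective _) (LinearMap.exact_subtype_mkQ p.1)
      have h2 : Subsingleton (LocCoh.H I (e + 2) ↥p.1) := h ↥p.1 (e + 2) (by omega)
      have key : ∀ m₃ : LocCoh.H I (e + 1) (R ⧸ p.1), m₃ = 0 := by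
        intro m₃
        obtain ⟨m₂, hm₂⟩ := exists_of_δ_eq_zero I hS e m₃ (h2.elim _ _)
        have hm0 : m₂ = 0 := hR.elim _ _
        exact hm₂.symm.trans ((congrArg
          (fun z => ((localCohomology I (e + 1)).map
            (shortComplexOf p.1.subtype p.1.mkQ (LinearMap.exact_subtype_mkQ p.1)).g).hom z)
          hm0).trans (map_zero _))
      exact ⟨fun a b => (key a).trans (key b).symm⟩
    | exact N₁ N₂ N₃ f g hf hg hfg s1 s3 =>
      have hS := shortComplexOf_shortExact f g hf hg hfg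
      have key : ∀ m : LocCoh.H I (e + 1) N₂, m = 0 := by
        intro m
        obtain ⟨m₁, hm₁⟩ := exact_middle I hS e m (s3.elim _ _)
        have hm0 : m₁ = 0 := s1.elim _ _
        exact hm₁.symm.trans ((congrArg
          (fun z => ((localCohomology I (e + 1)).map (shortComplexOf f g hfg).f).hom z)
          hm0).trans (map_zero _))
      exact ⟨fun a b => by rw [key a, key b]⟩
  intro M _ _ i hi
  rcases Nat.lt_or_ge (e + 1) i with h1 | h1
  · exact h M i h1
  · have hie : i = e + 1 := by omega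
    subst hie
    apply subsingleton_of_forall_fg I (e + 1) M
    intro N hN
    haveI : Module.Finite R ↥N := Module.Finite.iff_fg.2 hN
    exact hfin ↥N

/-- S0378 -/
theorem cdLE_iff_ring (d : ℕ) :
    (∀ i : ℕ, d < i → Subsingleton (LocCoh.H I i R)) ↔ LocCoh.CdLE R I d := by
  constructor
  · intro hR
    obtain ⟨s, hs⟩ := (IsNoetherian.noetherian I : I.FG)
    have h0 : LocCoh.CdLE R I s.card := by
      have hs' : Ideal.span (s : Set R) = I := hs
      have := cdLE_span (R := R) s
      rwa [hs'] at this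
    have hdown : ∀ k : ℕ, LocCoh.CdLE R I (d + k) → LocCoh.CdLE R I d := by
      intro k
      induction k with
      | zero => exact fun h => h
      | succ k ih =>
        intro h
        exact ih (cd_step I (d + k) h (hR (d + k + 1) (by omega)))
    rcases Nat.lt_or_ge d s.card with h1 | h1
    · obtain ⟨k, hk⟩ : ∃ k, s.card = d + k := ⟨s.card - d, by omega⟩
      rw [hk] at h0
      exact hdown k h0
    · intro M _ _ i hi
      exact h0 M i (by omega)
  · intro h i hi
    exact h R i hi

end fg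

end Groth.Agent.Lib.LocCohAraH7
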