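import Mathlib
import Groth.Prelude.Def_Wider
import Groth.Agent.Lib.LocCohAra_helper7
import Groth.Agent.Lib.InjHull_helper3

/-!
# Injective modules over an algebra are `Γ_I`-acyclic (helper7)
-/

open CategoryTheory CategoryTheory.Limits Opposite Pointwise

namespace Groth.Agent.Lib.LocCohInjAcycH7

open Groth.Agent.Lib.LocCohLESH7 Groth.Agent.Lib.LocCohFunctH7 Groth.Agent.DepthLib
open Groth.Agent.Lib.LocCohFinH7 Groth.Agent.Lib.LocCohGVH7 Groth.Agent.Lib.LocCohAraH7
open Groth.Agent.Lib.InjHull_helper3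

universe u

section A

variable {R' : Type u} [CommRing R'] [IsNoetherianRing R']

/-- multiplication by `y` is surjective modulo `y`-power torsion on an injective module -/
theorem exists_smul_add (E' : Type u) [AddCommGroup E'] [Module R' E']
    (hE : Module.Injective R' E') (y : R') (e : E') :
    ∃ (g e' : E'), (∃ n : ℕ, y ^ n • g = 0) ∧ e = g + y • e' := by
  set Γ' : Submodule R' E' := Γ (Ideal.span {y}) E' with hΓ'
  have hΓinj : Module.Injective R' ↥Γ' := injective_Γ hE (Ideal.span {y})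
  obtain ⟨C, hC⟩ := exists_isCompl_range hΓinj Γ'.subtype (Submodule.injective_subtype _)
  rw [Submodule.range_subtype] at hC
  have hmemΓ : ∀ z : E', z ∈ Γ' ↔ ∃ n : ℕ, y ^ n • z = 0 := by
    intro z
    rw [hΓ', mem_Γ_iff]
    constructor
    · rintro ⟨n, hn⟩
      exact ⟨n, hn _ (Ideal.pow_mem_pow (Ideal.mem_span_singleton_self y) n)⟩
    · rintro ⟨n, hn⟩
      refine ⟨n, fun a ha => ?_⟩
      rw [Ideal.span_singleton_pow, Ideal.mem_span_singleton'] at ha
      obtain ⟨r, rfl⟩ := ha
      rw [mul_smul, hn, smul_zero]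
  have htop : e ∈ Γ' ⊔ C := by
    rw [hC.sup_eq_top]
    trivial
  obtain ⟨g, hg, c, hc, hgc⟩ := Submodule.mem_sup.1 htop
  let μ : R' →ₗ[R'] R' := LinearMap.toSpanSingleton R' R' y
  let ψ₀ : R' →ₗ[R'] E' := LinearMap.toSpanSingleton R' E' c
  have hle : LinearMap.ker μ ≤ LinearMap.ker ψ₀ := by
    intro r hr
    rw [LinearMap.mem_ker] at hr ⊢
    have hr' : r * y = 0 := hr
    have h1 : y • (r • c) = 0 := by
      rw [smul_smul, mul_comm, hr', zero_smul]
    have h2 : r • c ∈ Γ' := (hmemΓ _).2 ⟨1, by rw [pow_one]; exact h1⟩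
    have h3 : r • c ∈ C := C.smul_mem r hc
    have h4 : r • c ∈ Γ' ⊓ C := ⟨h2, h3⟩
    rw [hC.inf_eq_bot] at h4
    exact (Submodule.mem_bot R').1 h4
  let f : (R' ⧸ LinearMap.ker μ) →ₗ[R'] R' := (LinearMap.ker μ).liftQ μ le_rfl
  have hf : Function.Injective f := by
    rw [← LinearMap.ker_eq_bot]
    exact Submodule.ker_liftQ_eq_bot _ _ _ le_rfl
  let γ : (R' ⧸ LinearMap.ker μ) →ₗ[R'] E' := (LinearMap.ker μ).liftQ ψ₀ hle
  obtain ⟨h, hh⟩ := exists_extension hE f hf γ
  have h5 : h y = c := by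
    have h6 := LinearMap.congr_fun hh (Submodule.Quotient.mk 1)
    have h7 : f (Submodule.Quotient.mk 1) = y := by
      show μ 1 = y
      show (1 : R') • y = y
      rw [one_smul]
    have h8 : γ (Submodule.Quotient.mk 1) = c := by
      show ψ₀ 1 = c
      show (1 : R') • c = c
      rw [one_smul]
    rw [LinearMap.comp_apply, h7, h8] at h6
    exact h6
  refine ⟨g, h 1, (hmemΓ g).1 hg, ?_⟩
  rw [← hgc, ← map_smul, smul_eq_mul, mul_one, h5]

end A

variable {R : Type u} [CommRing R] [IsNoetherianRing R] {R' : Type u} [CommRing R']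
  [IsNoetherianRing R'] [Algebra R R']

theorem acyclic_aux (s : Finset R) :
    ∀ (E' : Type u) [AddCommGroup E'] [Module R' E'] [Module R E'] [IsScalarTower R R' E'],
      Module.Injective R' E' →
      ∀ q : ℕ, Subsingleton (LocCoh.H (Ideal.span (s : Set R)) (q + 1) E') := by
  classical
  induction s using Finset.induction_on with
  | empty =>
    intro E' _ _ _ _ _ q
    exact cdLE_span (R := R) ∅ E' (q + 1) (by simp)
  | insert x s' hx ih =>
    intro E' _ _ _ _ hE q
    have hspan : Ideal.span ((insert x s' : Finset R) : Set R) =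
        Ideal.span (s' : Set R) ⊔ Ideal.span {x} := by
      rw [Finset.coe_insert, Ideal.span_insert, sup_comm]
    rw [hspan]
    set J := Ideal.span (s' : Set R) with hJ
    have hxI : x ∈ J ⊔ Ideal.span {x} := Ideal.mem_sup_right (Ideal.mem_span_singleton_self x)
    set y : R' := algebraMap R R' x with hy
    have hsm : ∀ e : E', y • e = x • e := fun e => algebraMap_smul R' x e
    let T : Submodule R E' := DRing.torsionSub (Ideal.span {x}) E'
    have hmemT : ∀ z : E', z ∈ T ↔ ∃ n : ℕ, x ^ n • z = 0 := by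
      intro z
      constructor
      · rintro ⟨n, hn⟩
        exact ⟨n, hn _ (Ideal.pow_mem_pow (Ideal.mem_span_singleton_self x) n)⟩
      · rintro ⟨n, hn⟩
        refine ⟨n, fun a ha => ?_⟩
        rw [Ideal.span_singleton_pow, Ideal.mem_span_singleton'] at ha
        obtain ⟨r, rfl⟩ := ha
        rw [mul_smul, hn, smul_zero]
    have hTt : LocCoh.IsPowerTorsion (Ideal.span {x}) ↥T := by
      intro m
      obtain ⟨k, hk⟩ := m.2
      exact ⟨k, fun a ha => Subtype.ext (hk a ha)⟩
    let Γ' : Submodule R' E' := Γ (Ideal.span {y}) E'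
    have hΓinj : Module.Injective R' ↥Γ' := injective_Γ hE (Ideal.span {y})
    have hmemΓ : ∀ z : E', z ∈ Γ' ↔ ∃ n : ℕ, y ^ n • z = 0 := by
      intro z
      show z ∈ Γ (Ideal.span {y}) E' ↔ _
      rw [mem_Γ_iff]
      constructor
      · rintro ⟨n, hn⟩
        exact ⟨n, hn _ (Ideal.pow_mem_pow (Ideal.mem_span_singleton_self y) n)⟩
      · rintro ⟨n, hn⟩
        refine ⟨n, fun a ha => ?_⟩
        rw [Ideal.span_singleton_pow, Ideal.mem_span_singleton'] at ha
        obtain ⟨r, rfl⟩ := ha
        rw [mul_smul, hn, smul_zero]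
    have hpow : ∀ (n : ℕ) (z : E'), y ^ n • z = x ^ n • z := by
      intro n z
      rw [hy, ← map_pow, algebraMap_smul]
    have hTΓ : ∀ z : E', z ∈ T ↔ z ∈ Γ' := by
      intro z
      rw [hmemT, hmemΓ]
      exact exists_congr fun n => by rw [hpow]
    let eT : ↥T ≃ₗ[R] ↥Γ' :=
      { toFun := fun z => ⟨z.1, (hTΓ z.1).1 z.2⟩
        invFun := fun z => ⟨z.1, (hTΓ z.1).2 z.2⟩
        map_add' := fun _ _ => rfl
        map_smul' := fun _ _ => rfl
        left_inv := fun _ => rfl
        right_inv := fun _ => rfl }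
    have h1 : Subsingleton (LocCoh.H J (q + 1) ↥T) :=
      subsingleton_of_equiv J (q + 1) eT (ih ↥Γ' hΓinj q)
    have hT0 : Subsingleton (LocCoh.H (J ⊔ Ideal.span {x}) (q + 1) ↥T) :=
      H_of_sup J x q (ModuleCat.of R ↥T) hTt h1
    have hbot := torsionSub_quot_eq_bot (Ideal.span {x}) E'
    have hinj : ∀ a : E' ⧸ T, x • a = 0 → a = 0 := by
      intro a h1
      have h2 : a ∈ DRing.torsionSub (Ideal.span {x}) (E' ⧸ T) := by
        refine ⟨1, fun c hc => ?_⟩
        rw [pow_one, Ideal.mem_span_singleton'] at hc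
        obtain ⟨r, rfl⟩ := hc
        rw [mul_smul, h1, smul_zero]
      rw [hbot, Submodule.mem_bot] at h2
      exact h2
    have hbij : Function.Bijective (fun l : E' ⧸ T => x • l) := by
      constructor
      · intro a b hab
        have h3 : x • (a - b) = 0 := by
          rw [smul_sub, sub_eq_zero]
          exact hab
        exact sub_eq_zero.1 (hinj _ h3)
      · intro z
        obtain ⟨e, rfl⟩ := Submodule.mkQ_surjective _ z
        obtain ⟨g, e', ⟨n, hn⟩, he⟩ := exists_smul_add E' hE y e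
        refine ⟨T.mkQ e', ?_⟩
        show x • T.mkQ e' = T.mkQ e
        have hg : T.mkQ g = 0 := by
          rw [Submodule.mkQ_apply, Submodule.Quotient.mk_eq_zero]
          exact (hmemT g).2 ⟨n, by rw [← hpow]; exact hn⟩
        rw [he, map_add, hsm, map_smul, hg, zero_add]
    have hQ0 : Subsingleton (LocCoh.H (J ⊔ Ideal.span {x}) (q + 1) (E' ⧸ T)) :=
      subsingleton_of_bijective _ (q + 1) _ x hxI hbij
    have hS2 := shortComplexOf_shortExact T.subtype T.mkQ (Submodule.injective_subtype _)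
      (Submodule.mkQ_surjective _) (LinearMap.exact_subtype_mkQ T)
    have key : ∀ m : LocCoh.H (J ⊔ Ideal.span {x}) (q + 1) E', m = 0 := by
      intro m
      obtain ⟨m₁, hm₁⟩ := exact_middle (J ⊔ Ideal.span {x}) hS2 q m (hQ0.elim _ _)
      have hm0 : m₁ = 0 := hT0.elim _ _
      exact hm₁.symm.trans ((congrArg
        (fun z => ((localCohomology (J ⊔ Ideal.span {x}) (q + 1)).map
          (shortComplexOf T.subtype T.mkQ (LinearMap.exact_subtype_mkQ T)).f).hom z)
        hm0).trans (map_zero _))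
    exact ⟨fun a b => (key a).trans (key b).symm⟩

/-- S11611 -/
theorem main (I : Ideal R) (E' : Type u) [AddCommGroup E'] [Module R' E'] [Module R E']
    [IsScalarTower R R' E'] [hE : Module.Injective R' E'] (i : ℕ) (hi : 0 < i) :
    Subsingleton (LocCoh.H I i E') := by
  obtain ⟨s, hs⟩ := (IsNoetherian.noetherian I : I.FG)
  obtain ⟨q, rfl⟩ : ∃ q, i = q + 1 := ⟨i - 1, by omega⟩
  have h := acyclic_aux (R' := R') s E' hE q
  have hs' : Ideal.span (s : Set R) = I := hs
  rwa [hs'] at h

end Groth.Agent.Lib.LocCohInjAcycH7
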