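import Mathlib
import Groth.Prelude.Def_Wider
import Groth.Agent.Lib.LocCohAra_helper7

/-!
# Vanishing of top local cohomology from one module (helper7)
-/

open CategoryTheory CategoryTheory.Limits Opposite Pointwise

namespace Groth.Agent.Lib.LocCohTopVanH7

open Groth.Agent.Lib.LocCohLESH7 Groth.Agent.Lib.LocCohFunctH7 Groth.Agent.DepthLib
open Groth.Agent.Lib.LocCohFinH7 Groth.Agent.Lib.LocCohGVH7 Groth.Agent.Lib.LocCohAraH7

universe u

variable {R : Type u} [CommRing R]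

section H0

open Groth.Agent.Lib.ExtCompareH7 Groth.Agent.Lib.LocCohTorsVanishH7 Groth.Agent.Lib.LocCohH0H7

/-- `H^0_I(N)` is the `I`-power torsion of `N` -/
theorem H0_exists (I : Ideal R) (N : Type u) [AddCommGroup N] [Module R N] :
    ∃ Ψ : LocCoh.H I 0 N →ₗ[R] N, Function.Injective Ψ ∧
      ∀ y ∈ DRing.torsionSub I N, ∃ z, Ψ z = y := by
  let F := localCohomology.diagram (localCohomology.idealPowersDiagram I) 0
  let M : ModuleCat.{u} R := ModuleCat.of R N
  have hc := isColimitOfPreserves ((evaluation _ _).obj M) (colimit.isColimit F)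
  let Ψ : (colimit F).obj M ⟶ M := hc.desc (coc I M)
  have hfac : ∀ (k : ℕᵒᵖᵒᵖ) (ξ : ((F.obj k).obj M : ModuleCat.{u} R)),
      Ψ.hom (((colimit.ι F k).app M).hom ξ) = (c I M k).hom ξ := by
    intro k ξ
    have h := congrArg (fun α => α.hom ξ) (hc.fac (coc I M) k)
    exact h
  have hinj : Function.Injective Ψ.hom := by
    rw [injective_iff_map_eq_zero]
    intro m hm
    obtain ⟨k, y, hy⟩ := Groth.Agent.Lib.LocCohTorsH7.exists_rep I 0 M m
    rw [← hy] at hm ⊢
    rw [hfac, c_apply] at hm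
    have h1 : (j (ModuleCat.of R (R ⧸ Jk I k)) M).inv.hom y = 0 := by
      apply hom_ext_one
      rw [hm]
      rfl
    have h2 : y = 0 := iso_inv_eq_zero (j (ModuleCat.of R (R ⧸ Jk I k)) M) y h1
    rw [h2, map_zero]
  suffices hsurj : ∀ y ∈ DRing.torsionSub I N,
      ∃ z : ((colimit F).obj M : ModuleCat.{u} R), Ψ.hom z = y from ⟨Ψ.hom, hinj, hsurj⟩
  rintro y ⟨n, hn⟩
  let k : ℕᵒᵖᵒᵖ := op (op n)
  let h : (R ⧸ Jk I k) →ₗ[R] N := (Jk I k).liftQ (LinearMap.toSpanSingleton R N y) (by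
    intro a ha
    rw [LinearMap.mem_ker, LinearMap.toSpanSingleton_apply]
    exact hn a ha)
  let ξ : E 0 (ModuleCat.of R (R ⧸ Jk I k)) M :=
    (j (ModuleCat.of R (R ⧸ Jk I k)) M).hom.hom (ModuleCat.ofHom h)
  refine ⟨((colimit.ι F k).app M).hom ξ, ?_⟩
  rw [hfac, c_apply]
  have h1 : (j (ModuleCat.of R (R ⧸ Jk I k)) M).inv.hom ξ = ModuleCat.ofHom h := by
    have h2 := congrArg (fun α => α.hom (ModuleCat.ofHom h))
      (j (ModuleCat.of R (R ⧸ Jk I k)) M).hom_inv_id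
    exact h2
  rw [h1]
  show LinearMap.toSpanSingleton R N y 1 = y
  rw [LinearMap.toSpanSingleton_apply, one_smul]

end H0

section A

variable [IsNoetherianRing R]

/-- a nonzero map to `R ⧸ p` for `p` in the support -/
theorem exists_map_to_quot (M : Type u) [AddCommGroup M] [Module R M] [Module.Finite R M]
    (p : Ideal R) [hp : p.IsPrime]
    (hsupp : (⟨p, hp⟩ : PrimeSpectrum R) ∈ Module.support R M) :
    ∃ (φ : M →ₗ[R] R ⧸ p) (m : M) (x : R), x ∉ p ∧ φ m = Ideal.Quotient.mk p x := by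
  classical
  let P : Submodule R M := p • (⊤ : Submodule R M)
  have hsupp' : (⟨p, hp⟩ : PrimeSpectrum R) ∈ Module.support R (M ⧸ P) := by
    rw [Module.support_quotient]
    exact ⟨hsupp, (PrimeSpectrum.mem_zeroLocus _ _).2 (le_refl _)⟩
  have hann : Module.annihilator R (M ⧸ P) ≤ p := Module.mem_support_iff_of_finite.1 hsupp'
  have hkill : ∀ r ∈ p, ∀ z : M ⧸ P, r • z = 0 := by
    intro r hr z
    obtain ⟨m, rfl⟩ := Submodule.mkQ_surjective P z
    rw [← map_smul, Submodule.mkQ_apply, Submodule.Quotient.mk_eq_zero]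
    exact Submodule.smul_mem_smul hr Submodule.mem_top
  -- step 1
  have h1 : ∃ g : M ⧸ P, ∀ r : R, r • g = 0 → r ∈ p := by
    by_contra hcon
    push_neg at hcon
    choose r hr0 hrp using hcon
    obtain ⟨S, hS⟩ := (Module.Finite.fg_top : (⊤ : Submodule R (M ⧸ P)).FG)
    let ρ : R := ∏ g ∈ S, r g
    have hρ : ρ ∉ p := by
      intro h
      obtain ⟨g, _, hg⟩ := (Ideal.IsPrime.prod_mem_iff).1 h
      exact hrp g hg
    have hle : (⊤ : Submodule R (M ⧸ P)) ≤ LinearMap.ker (LinearMap.lsmul R (M ⧸ P) ρ) := by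
      rw [← hS, Submodule.span_le]
      intro g hg
      rw [SetLike.mem_coe, LinearMap.mem_ker, LinearMap.lsmul_apply]
      have h2 : ρ = (∏ g' ∈ S.erase g, r g') * r g := by
        rw [mul_comm]
        exact (Finset.mul_prod_erase S r (Finset.mem_coe.1 hg)).symm
      rw [h2, mul_smul, hr0, smul_zero]
    have hρann : ρ ∈ Module.annihilator R (M ⧸ P) := by
      rw [Module.mem_annihilator]
      intro z
      exact hle (Submodule.mem_top : z ∈ ⊤)
    exact hρ (hann hρann)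
  obtain ⟨g, hg⟩ := h1
  -- step 2
  let G₀ : Submodule R (M ⧸ P) := Submodule.span R {g}
  have hne : ({L : Submodule R (M ⧸ P) | L ⊓ G₀ = ⊥}).Nonempty := ⟨⊥, bot_inf_eq _⟩
  obtain ⟨L, hL, hmax⟩ := set_has_maximal_iff_noetherian.2
    (inferInstance : IsNoetherian R (M ⧸ P)) _ hne
  have hL' : L ⊓ G₀ = ⊥ := hL
  -- step 3
  let gb : (M ⧸ P) ⧸ L := L.mkQ g
  have hkillX : ∀ r ∈ p, ∀ z : (M ⧸ P) ⧸ L, r • z = 0 := by
    intro r hr z
    obtain ⟨m, rfl⟩ := Submodule.mkQ_surjective L z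
    rw [← map_smul, hkill r hr m, map_zero]
  have hgb : ∀ r : R, r • gb = 0 → r ∈ p := by
    intro r hr
    apply hg
    have h2 : r • g ∈ L := by
      rw [← Submodule.Quotient.mk_eq_zero L, Submodule.Quotient.mk_smul]
      exact hr
    have h3 : r • g ∈ L ⊓ G₀ :=
      ⟨h2, Submodule.smul_mem _ _ (Submodule.mem_span_singleton_self g)⟩
    rw [hL'] at h3
    exact (Submodule.mem_bot R).1 h3
  have h1p : (1 : R) ∉ p := fun h => hp.ne_top ((Ideal.eq_top_iff_one p).2 h)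
  have hX : ∀ x : (M ⧸ P) ⧸ L, ∃ r : R, r ∉ p ∧ ∃ s : R, r • x = s • gb := by
    intro x
    obtain ⟨y, rfl⟩ := Submodule.mkQ_surjective L x
    by_cases hy : y ∈ L
    · refine ⟨1, h1p, 0, ?_⟩
      rw [one_smul, zero_smul, Submodule.mkQ_apply, Submodule.Quotient.mk_eq_zero]
      exact hy
    · have hlt : L < L ⊔ Submodule.span R {y} := by
        refine lt_of_le_of_ne le_sup_left fun heq => hy ?_
        rw [heq]
        exact Submodule.mem_sup_right (Submodule.mem_span_singleton_self y)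
      have hnot : ¬ ((L ⊔ Submodule.span R {y}) ⊓ G₀ = ⊥) := fun h => hmax _ h hlt
      obtain ⟨z, hz, hz0⟩ := Submodule.exists_mem_ne_zero_of_ne_bot hnot
      obtain ⟨hz1, hz2⟩ := hz
      obtain ⟨s, rfl⟩ := Submodule.mem_span_singleton.1 hz2
      obtain ⟨l, hl, w, hw, hlw⟩ := Submodule.mem_sup.1 hz1
      obtain ⟨r, rfl⟩ := Submodule.mem_span_singleton.1 hw
      have heq : r • L.mkQ y = s • gb := by
        show r • L.mkQ y = s • L.mkQ g
        rw [← map_smul, ← map_smul, ← hlw, map_add]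
        have : L.mkQ l = 0 := by
          rw [Submodule.mkQ_apply, Submodule.Quotient.mk_eq_zero]
          exact hl
        rw [this, zero_add]
      refine ⟨r, fun hr => hz0 ?_, s, heq⟩
      have h4 : s • gb = 0 := by rw [← heq, hkillX r hr]
      rw [hkill s (hgb s h4) g]
  -- step 4
  obtain ⟨T, hT⟩ := (Module.Finite.fg_top : (⊤ : Submodule R ((M ⧸ P) ⧸ L)).FG)
  have hδ : ∃ δ : R, δ ∉ p ∧ ∀ x ∈ T, ∃ s : R, δ • x = s • gb := by
    clear hT
    induction T using Finset.induction_on with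
    | empty => exact ⟨1, h1p, fun x hx => absurd hx (Finset.notMem_empty x)⟩
    | insert x T hxT ih =>
      obtain ⟨δ, hδ, hδT⟩ := ih
      obtain ⟨r, hr, s₀, hs₀⟩ := hX x
      refine ⟨r * δ, fun h => (hp.mem_or_mem h).elim hr hδ, fun y hy => ?_⟩
      rcases Finset.mem_insert.1 hy with rfl | hy'
      · exact ⟨δ * s₀, by rw [mul_comm, mul_smul, hs₀, smul_smul]⟩
      · obtain ⟨s, hs⟩ := hδT y hy'
        exact ⟨r * s, by rw [mul_smul, hs, smul_smul]⟩
  obtain ⟨δ, hδp, hδT⟩ := hδ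
  -- the map `R ⧸ p → X`
  let ψ : (R ⧸ p) →ₗ[R] (M ⧸ P) ⧸ L :=
    Submodule.liftQ p (LinearMap.toSpanSingleton R ((M ⧸ P) ⧸ L) gb) (by
      intro a ha
      rw [LinearMap.mem_ker, LinearMap.toSpanSingleton_apply]
      exact hkillX a ha gb)
  have hψ : ∀ s : R, ψ (Ideal.Quotient.mk p s) = s • gb := by
    intro s
    show LinearMap.toSpanSingleton R ((M ⧸ P) ⧸ L) gb s = s • gb
    rw [LinearMap.toSpanSingleton_apply]
  have hψinj : Function.Injective ψ := by
    rw [injective_iff_map_eq_zero]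
    intro z hz
    obtain ⟨s, rfl⟩ := Ideal.Quotient.mk_surjective z
    rw [hψ] at hz
    exact Ideal.Quotient.eq_zero_iff_mem.2 (hgb s hz)
  have hall : ∀ x : (M ⧸ P) ⧸ L, δ • x ∈ LinearMap.range ψ := by
    have hle : (⊤ : Submodule R ((M ⧸ P) ⧸ L)) ≤
        (LinearMap.range ψ).comap (LinearMap.lsmul R ((M ⧸ P) ⧸ L) δ) := by
      rw [← hT, Submodule.span_le]
      intro x hx
      obtain ⟨s, hs⟩ := hδT x (Finset.mem_coe.1 hx)
      rw [SetLike.mem_coe, Submodule.mem_comap, LinearMap.lsmul_apply, hs]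
      exact ⟨Ideal.Quotient.mk p s, hψ s⟩
    intro x
    exact hle (Submodule.mem_top : x ∈ ⊤)
  let e := LinearEquiv.ofInjective ψ hψinj
  let φX : ((M ⧸ P) ⧸ L) →ₗ[R] R ⧸ p :=
    e.symm.toLinearMap ∘ₗ
      LinearMap.codRestrict (LinearMap.range ψ) (LinearMap.lsmul R ((M ⧸ P) ⧸ L) δ) hall
  obtain ⟨m, hm⟩ := Submodule.mkQ_surjective P g
  refine ⟨φX ∘ₗ L.mkQ ∘ₗ P.mkQ, m, δ, hδp, ?_⟩
  show e.symm (LinearMap.codRestrict (LinearMap.range ψ)
    (LinearMap.lsmul R ((M ⧸ P) ⧸ L) δ) hall (L.mkQ (P.mkQ m))) = Ideal.Quotient.mk p δ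
  rw [LinearEquiv.symm_apply_eq]
  apply Subtype.ext
  show δ • L.mkQ (P.mkQ m) = ψ (Ideal.Quotient.mk p δ)
  rw [hψ, hm]

end A

end Groth.Agent.Lib.LocCohTopVanH7
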