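import Mathlib
import Groth.Prelude.Def_Wider
import Groth.Agent.Lib.LocCohTopVan_helper7

/-!
# Vanishing of top local cohomology from one module, part 2 (helper7)
-/

open CategoryTheory CategoryTheory.Limits Opposite Pointwise

namespace Groth.Agent.Lib.LocCohTopVanH7

open Groth.Agent.Lib.LocCohLESH7 Groth.Agent.Lib.LocCohFunctH7 Groth.Agent.DepthLib
open Groth.Agent.Lib.LocCohFinH7 Groth.Agent.Lib.LocCohGVH7 Groth.Agent.Lib.LocCohAraH7

universe u

variable {R : Type u} [CommRing R] [IsNoetherianRing R]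

lemma smul_mk (J : Ideal R) (r x : R) :
    r • (Ideal.Quotient.mk J x : R ⧸ J) = Ideal.Quotient.mk J (r * x) := by
  rw [Algebra.smul_def, Ideal.Quotient.algebraMap_eq, ← map_mul]

/-- dropping the dimension along an element outside `p` -/
theorem supportDim_quotSMulTop_quot (p : Ideal R) [p.IsPrime] (x : R) (hx : x ∉ p) :
    Module.supportDim R (QuotSMulTop x (R ⧸ p)) + 1 ≤ Module.supportDim R (R ⧸ p) := by
  apply Module.supportDim_quotSMulTop_succ_le_of_notMem_minimalPrimes
  intro r hr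
  rw [Ideal.annihilator_quotient, Ideal.minimalPrimes_eq_subsingleton_self,
    Set.mem_singleton_iff] at hr
  rw [hr]
  exact hx

/-- for primes `p' < q`, `dim R/q + 1 ≤ dim R/p'` -/
theorem supportDim_quot_succ_le (p' q : Ideal R) [p'.IsPrime] [q.IsPrime] (h : p' < q) :
    Module.supportDim R (R ⧸ q) + 1 ≤ Module.supportDim R (R ⧸ p') := by
  obtain ⟨x, hxq, hxp⟩ := SetLike.exists_of_lt h
  have hdrop := supportDim_quotSMulTop_quot p' x hxp
  let π : (R ⧸ p') →ₗ[R] (R ⧸ q) := Submodule.mapQ p' q LinearMap.id (fun a ha => h.le ha)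
  have hπ : ∀ r : R, π (Ideal.Quotient.mk p' r) = Ideal.Quotient.mk q r := fun r => rfl
  have hle : x • (⊤ : Submodule R (R ⧸ p')) ≤ LinearMap.ker π := by
    intro z hz
    obtain ⟨w, -, rfl⟩ := (Submodule.mem_smul_pointwise_iff_exists _ _ _).1 hz
    obtain ⟨r, rfl⟩ := Ideal.Quotient.mk_surjective w
    rw [LinearMap.mem_ker, smul_mk, hπ]
    exact Ideal.Quotient.eq_zero_iff_mem.2 (q.mul_mem_right r hxq)
  let π' : QuotSMulTop x (R ⧸ p') →ₗ[R] R ⧸ q :=
    Submodule.liftQ (x • (⊤ : Submodule R (R ⧸ p'))) π hle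
  have hπ' : Function.Surjective π' := by
    intro z
    obtain ⟨r, rfl⟩ := Ideal.Quotient.mk_surjective z
    exact ⟨Submodule.Quotient.mk (Ideal.Quotient.mk p' r), rfl⟩
  exact (add_le_add (Module.supportDim_le_of_surjective π' hπ') le_rfl).trans hdrop

theorem wb_e (d : ℕ) : ¬ (((d + 1 : ℕ) : WithBot ℕ∞) ≤ (d : WithBot ℕ∞)) := by
  intro h
  have h1 : (d : WithBot ℕ∞) < ((d + 1 : ℕ) : WithBot ℕ∞) := by
    exact_mod_cast Nat.lt_succ_self d
  exact absurd (lt_of_lt_of_le h1 h) (lt_irrefl _)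

variable (I : Ideal R)

/-- (B) -/
theorem quot_of_support (d' : ℕ) (hd : ringKrullDim R = ((d' + 1 : ℕ) : WithBot ℕ∞))
    (M : Type u) [AddCommGroup M] [Module R M] [Module.Finite R M]
    (hvan : Subsingleton (LocCoh.H I (d' + 1) M)) (p : Ideal R) [hp : p.IsPrime]
    (hsupp : (⟨p, hp⟩ : PrimeSpectrum R) ∈ Module.support R M) :
    Subsingleton (LocCoh.H I (d' + 1) (R ⧸ p)) := by
  obtain ⟨φ, m, x, hx, hφ⟩ := exists_map_to_quot M p hsupp
  have hGV : ∀ (X : Type u) [AddCommGroup X] [Module R X] (i : ℕ), d' + 1 < i →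
      Subsingleton (LocCoh.H I i X) := fun X _ _ i hi =>
    GV I X i (lt_of_le_of_lt (Module.supportDim_le_ringKrullDim R X)
      (by rw [hd]; exact_mod_cast hi))
  -- (1)
  have hex1 : Function.Exact (LinearMap.ker φ).subtype φ.rangeRestrict := by
    intro a
    constructor
    · intro ha
      have ha' : φ a = 0 := congrArg Subtype.val ha
      exact ⟨⟨a, ha'⟩, rfl⟩
    · rintro ⟨k, rfl⟩
      exact Subtype.ext k.2
  have hS1 := shortComplexOf_shortExact (LinearMap.ker φ).subtype φ.rangeRestrict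
    (Submodule.injective_subtype _) (LinearMap.surjective_rangeRestrict φ) hex1
  have hsurj := surjective_of_subsingleton I hS1 d'
    (hGV ↥(LinearMap.ker φ) (d' + 2) (by omega))
  have hN' : ∀ z : LocCoh.H I (d' + 1) ↥(LinearMap.range φ), z = 0 := by
    intro z
    obtain ⟨z', hz'⟩ := hsurj z
    have hz0 : z' = 0 := hvan.elim _ _
    exact hz'.symm.trans ((congrArg
      (fun w => ((localCohomology I (d' + 1)).map
        (shortComplexOf (LinearMap.ker φ).subtype φ.rangeRestrict hex1).g).hom w)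
      hz0).trans (map_zero _))
  -- (2)
  have hxN : x • (⊤ : Submodule R (R ⧸ p)) ≤ LinearMap.range φ := by
    intro z hz
    obtain ⟨w, -, rfl⟩ := (Submodule.mem_smul_pointwise_iff_exists _ _ _).1 hz
    obtain ⟨r, rfl⟩ := Ideal.Quotient.mk_surjective w
    refine ⟨r • m, ?_⟩
    rw [map_smul, hφ, smul_mk, smul_mk, mul_comm]
  have hQ : Module.supportDim R (QuotSMulTop x (R ⧸ p)) ≤ (d' : WithBot ℕ∞) := by
    apply wb_c _ d'
    refine (supportDim_quotSMulTop_quot p x hx).trans ?_
    rw [← hd]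
    exact Module.supportDim_le_ringKrullDim R _
  let σ : QuotSMulTop x (R ⧸ p) →ₗ[R] (R ⧸ p) ⧸ LinearMap.range φ :=
    Submodule.mapQ (x • (⊤ : Submodule R (R ⧸ p))) (LinearMap.range φ) LinearMap.id hxN
  have hσ : Function.Surjective σ := by
    intro c
    obtain ⟨w, rfl⟩ := Submodule.mkQ_surjective _ c
    exact ⟨Submodule.Quotient.mk w, rfl⟩
  have hCdim : Module.supportDim R ((R ⧸ p) ⧸ LinearMap.range φ) <
      ((d' + 1 : ℕ) : WithBot ℕ∞) :=
    lt_of_le_of_lt ((Module.supportDim_le_of_surjective σ hσ).trans hQ)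
      (by exact_mod_cast Nat.lt_succ_self d')
  have hC0 : Subsingleton (LocCoh.H I (d' + 1) ((R ⧸ p) ⧸ LinearMap.range φ)) :=
    GV I _ (d' + 1) hCdim
  -- (3)
  have hS2 := shortComplexOf_shortExact (LinearMap.range φ).subtype (LinearMap.range φ).mkQ
    (Submodule.injective_subtype _) (Submodule.mkQ_surjective _)
    (LinearMap.exact_subtype_mkQ _)
  have key : ∀ z : LocCoh.H I (d' + 1) (R ⧸ p), z = 0 := by
    intro z
    obtain ⟨z₁, hz₁⟩ := exact_middle I hS2 d' z (hC0.elim _ _)
    have hz0 : z₁ = 0 := hN' z₁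
    exact hz₁.symm.trans ((congrArg
      (fun w => ((localCohomology I (d' + 1)).map
        (shortComplexOf (LinearMap.range φ).subtype (LinearMap.range φ).mkQ
          (LinearMap.exact_subtype_mkQ _)).f).hom w)
      hz0).trans (map_zero _))
  exact ⟨fun a b => (key a).trans (key b).symm⟩

/-- (C), (D) -/
theorem fin_vanish (d' : ℕ) (hd : ringKrullDim R = ((d' + 1 : ℕ) : WithBot ℕ∞))
    (M : Type u) [AddCommGroup M] [Module R M] [Module.Finite R M]
    (hsupp : ∀ p ∈ minimalPrimes R, ringKrullDim (R ⧸ p) = ((d' + 1 : ℕ) : WithBot ℕ∞) →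
      ∀ hp : p.IsPrime, (⟨p, hp⟩ : PrimeSpectrum R) ∈ Module.support R M)
    (hvan : Subsingleton (LocCoh.H I (d' + 1) M)) :
    ∀ (X : Type u) [AddCommGroup X] [Module R X] [hX : Module.Finite R X],
      Subsingleton (LocCoh.H I (d' + 1) X) := by
  intro X _ _ hX
  induction hX using IsNoetherianRing.induction_on_isQuotientEquivQuotientPrime R with
  | subsingleton N => exact subsingleton_of_subsingleton I (d' + 1) N
  | quotient N q eq =>
    apply subsingleton_of_equiv I (d' + 1) eq
    haveI : q.1.IsPrime := q.2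
    by_cases hq : q ∈ Module.support R M
    · exact quot_of_support I d' hd M hvan q.1 hq
    · apply GV I (R ⧸ q.1) (d' + 1)
      by_contra hcon
      rw [not_lt] at hcon
      have hle : Module.supportDim R (R ⧸ q.1) ≤ ((d' + 1 : ℕ) : WithBot ℕ∞) := by
        rw [← hd]
        exact Module.supportDim_le_ringKrullDim R _
      have heq : Module.supportDim R (R ⧸ q.1) = ((d' + 1 : ℕ) : WithBot ℕ∞) :=
        le_antisymm hle hcon
      have hmin : q.1 ∈ minimalPrimes R := by
        by_contra hnm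
        obtain ⟨p', hp'min, hp'le⟩ := Ideal.exists_minimalPrimes_le (J := q.1) bot_le
        have hne : p' ≠ q.1 := fun h => hnm (h ▸ hp'min)
        haveI : p'.IsPrime := hp'min.1.1
        have h1 := supportDim_quot_succ_le p' q.1 (lt_of_le_of_ne hp'le hne)
        have h2 : Module.supportDim R (R ⧸ p') ≤ ((d' + 1 : ℕ) : WithBot ℕ∞) := by
          rw [← hd]
          exact Module.supportDim_le_ringKrullDim R _
        rw [heq] at h1
        exact wb_e d' (wb_c _ d' (h1.trans h2))
      have hdimq : ringKrullDim (R ⧸ q.1) = ((d' + 1 : ℕ) : WithBot ℕ∞) := by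
        rw [← Module.supportDim_quotient_eq_ringKrullDim]
        exact heq
      exact hq (hsupp q.1 hmin hdimq q.2)
  | exact N₁ N₂ N₃ f g hf hg hfg s1 s3 =>
    have hS := shortComplexOf_shortExact f g hf hg hfg
    have key : ∀ m : LocCoh.H I (d' + 1) N₂, m = 0 := by
      intro m
      obtain ⟨m₁, hm₁⟩ := exact_middle I hS d' m (s3.elim _ _)
      have hm0 : m₁ = 0 := s1.elim _ _
      exact hm₁.symm.trans ((congrArg
        (fun z => ((localCohomology I (d' + 1)).map (shortComplexOf f g hfg).f).hom z)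
        hm0).trans (map_zero _))
    exact ⟨fun a b => by rw [key a, key b]⟩

/-- the case of dimension zero -/
theorem main0 (hd : ringKrullDim R = ((0 : ℕ) : WithBot ℕ∞))
    (M : Type u) [AddCommGroup M] [Module R M] [Module.Finite R M]
    (hsupp : ∀ p ∈ minimalPrimes R, ringKrullDim (R ⧸ p) = ((0 : ℕ) : WithBot ℕ∞) →
      ∀ hp : p.IsPrime, (⟨p, hp⟩ : PrimeSpectrum R) ∈ Module.support R M)
    (hvan : Subsingleton (LocCoh.H I 0 M)) (N : Type u) [AddCommGroup N] [Module R N] :
    Subsingleton (LocCoh.H I 0 N) := by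
  haveI : Ring.KrullDimLE 0 R := Ring.krullDimLE_iff.2 (le_of_eq hd)
  obtain ⟨Ψ, hΨinj, -⟩ := H0_exists I N
  obtain ⟨ΨM, hΨMinj, hΨMsurj⟩ := H0_exists I M
  have key : ∀ z : LocCoh.H I 0 N, z = 0 := by
    intro z
    by_contra hz
    have hy : Ψ z ≠ 0 := fun h => hz (hΨinj (h.trans (map_zero Ψ).symm))
    obtain ⟨n, hn⟩ := Groth.Agent.Lib.LocCohTorsH7.main R I 0 N z
    have hyn : ∀ a ∈ I ^ n, a • Ψ z = 0 := fun a ha => by rw [← map_smul, hn a ha, map_zero]
    let 𝔞 : Ideal R := LinearMap.ker (LinearMap.toSpanSingleton R N (Ψ z))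
    have h𝔞 : 𝔞 ≠ ⊤ := by
      intro h
      have h1 : (1 : R) ∈ 𝔞 := h ▸ Submodule.mem_top
      rw [LinearMap.mem_ker, LinearMap.toSpanSingleton_apply, one_smul] at h1
      exact hy h1
    obtain ⟨m, hm, h𝔞m⟩ := Ideal.exists_le_maximal 𝔞 h𝔞
    haveI hmp : m.IsPrime := hm.isPrime
    have hIm : I ≤ m := by
      apply Ideal.IsPrime.le_of_pow_le (n := n)
      intro a ha
      apply h𝔞m
      rw [LinearMap.mem_ker, LinearMap.toSpanSingleton_apply]
      exact hyn a ha
    have hmmin : m ∈ minimalPrimes R := Ring.KrullDimLE.mem_minimalPrimes_iff.2 ⟨hmp, bot_le⟩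
    have hdimm : ringKrullDim (R ⧸ m) = ((0 : ℕ) : WithBot ℕ∞) := by
      haveI : Nontrivial (R ⧸ m) := Ideal.Quotient.nontrivial_iff.2 hm.ne_top
      apply le_antisymm
      · rw [← hd]
        exact ringKrullDim_quotient_le m
      · exact_mod_cast ringKrullDim_nonneg_of_nontrivial
    have hmsupp := hsupp m hmmin hdimm hmp
    have hann : Module.annihilator R M ≤ m := Module.mem_support_iff_of_finite.1 hmsupp
    have hmass : m ∈ associatedPrimes R M :=
      Module.associatedPrimes.minimalPrimes_annihilator_subset_associatedPrimes R M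
        (Ring.KrullDimLE.mem_minimalPrimes_iff.2 ⟨hmp, hann⟩)
    obtain ⟨-, y', hy'⟩ := isAssociatedPrime_iff.1 hmass
    have hy'0 : y' ≠ 0 := by
      intro h
      apply hm.ne_top
      rw [hy', h, eq_top_iff]
      intro r _
      rw [Submodule.mem_colon_singleton, smul_zero]
      exact Submodule.zero_mem _
    have hy't : y' ∈ DRing.torsionSub I M := by
      refine ⟨1, fun a ha => ?_⟩
      rw [pow_one] at ha
      have h1 : a ∈ Submodule.colon (⊥ : Submodule R M) {y'} := hy' ▸ hIm ha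
      rw [Submodule.mem_colon_singleton] at h1
      exact (Submodule.mem_bot R).1 h1
    obtain ⟨z', hz'⟩ := hΨMsurj y' hy't
    apply hy'0
    rw [← hz', hvan.elim z' 0, map_zero]
  exact ⟨fun a b => (key a).trans (key b).symm⟩

/-- S0333 -/
theorem main (d : ℕ) (hd : ringKrullDim R = d) (M : Type u) [AddCommGroup M] [Module R M]
    [Module.Finite R M]
    (hsupp : ∀ p ∈ minimalPrimes R, ringKrullDim (R ⧸ p) = d →
      ∀ hp : p.IsPrime, (⟨p, hp⟩ : PrimeSpectrum R) ∈ Module.support R M)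
    (hvan : Subsingleton (LocCoh.H I d M)) (N : Type u) [AddCommGroup N] [Module R N] (i : ℕ)
    (hi : d ≤ i) : Subsingleton (LocCoh.H I i N) := by
  rcases Nat.lt_or_ge d i with h1 | h1
  · exact GV I N i (lt_of_le_of_lt (Module.supportDim_le_ringKrullDim R N)
      (by rw [hd]; exact_mod_cast h1))
  · have hid : i = d := le_antisymm h1 hi
    subst hid
    rcases i with _ | d'
    · exact main0 I hd M hsupp hvan N
    · apply subsingleton_of_forall_fg I (d' + 1) N
      intro X hX
      haveI : Module.Finite R ↥X := Module.Finite.iff_fg.2 hX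
      exact fin_vanish I d' hd M hsupp hvan ↥X

end Groth.Agent.Lib.LocCohTopVanH7
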