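import Mathlib
import Groth.Prelude.Def_Wider
import Groth.Agent.Lib.LocCohTopVan2_helper7
import Groth.Agent.Lib.LocCohInjAcyc_helper7
import Groth.Agent.Lib.LocCohDT3_helper7

/-!
# `cd (I + J) ≤ cd I + cd J` by dimension shifting (helper7)
-/

open CategoryTheory CategoryTheory.Limits Opposite Pointwise

namespace Groth.Agent.Lib.LocCohCdSupH7

open Groth.Agent.Lib.LocCohLESH7 Groth.Agent.DepthLib
open Groth.Agent.Lib.InjHull_helper3 Groth.Agent.Lib.DT_helper3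

universe u

variable {R : Type u} [CommRing R]

/-- every module embeds into an injective module of the same universe -/
theorem exists_injective_embedding (M : Type u) [AddCommGroup M] [Module R M] :
    ∃ (E : Type u) (_ : AddCommGroup E) (_ : Module R E) (i : M →ₗ[R] E),
      Module.Injective R E ∧ Function.Injective i := by
  let J := Injective.under (ModuleCat.of R M)
  have hJ : CategoryTheory.Injective (ModuleCat.of R J) := by
    change CategoryTheory.Injective J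
    infer_instance
  refine ⟨J, inferInstance, inferInstance, (Injective.ι (ModuleCat.of R M)).hom, ?_, ?_⟩
  · exact Module.injective_module_of_injective_object R J
  · exact (ModuleCat.mono_iff_injective _).1 inferInstance

section LES

variable (K : Ideal R) {S : ShortComplex (ModuleCat.{u} R)} (hS : S.ShortExact)

include hS in
theorem sub_X3 (p : ℕ)
    (h1 : Subsingleton ((localCohomology K (p + 2)).obj S.X₁ : ModuleCat.{u} R))
    (h2 : Subsingleton ((localCohomology K (p + 1)).obj S.X₂ : ModuleCat.{u} R)) :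
    Subsingleton ((localCohomology K (p + 1)).obj S.X₃ : ModuleCat.{u} R) :=
  (surjective_of_subsingleton K hS p h1).subsingleton

include hS in
theorem sub_X1 (p : ℕ)
    (h3 : Subsingleton ((localCohomology K (p + 1)).obj S.X₃ : ModuleCat.{u} R))
    (h2 : Subsingleton ((localCohomology K (p + 2)).obj S.X₂ : ModuleCat.{u} R)) :
    Subsingleton ((localCohomology K (p + 2)).obj S.X₁ : ModuleCat.{u} R) :=
  (injective_of_subsingleton K hS p h3).subsingleton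

end LES

section H1

variable (K : Ideal R) (M : Type u) [AddCommGroup M] [Module R M]

theorem exists_of_H1 (h : Subsingleton (LocCoh.H K 1 M)) (n : ℕ) (φ : ↥(K ^ n) →ₗ[R] M) :
    ∃ (k : ℕ) (hk : n ≤ k) (m : M), ∀ (r : R) (hr : r ∈ K ^ k),
      φ ⟨r, Ideal.pow_le_pow_right hk hr⟩ = r • m := by
  obtain ⟨e⟩ := Groth.Agent.Lib.LocCohDTH7.coker_equiv K M
  haveI : Subsingleton (LocCoh.DT K M ⧸ LinearMap.range (LocCoh.toDT K M)) :=
    e.toEquiv.subsingleton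
  have hmem : cls K n φ ∈ LinearMap.range (LocCoh.toDT K M) := by
    have h0 := Subsingleton.elim
      (Submodule.Quotient.mk (p := LinearMap.range (LocCoh.toDT K M)) (cls K n φ)) 0
    exact (Submodule.Quotient.mk_eq_zero _).1 h0
  obtain ⟨m, hm⟩ := hmem
  rw [toDT_eq_cls' K n m] at hm
  have h0 : cls K n (φ - smulMap K n m) = 0 := by rw [map_sub, hm, sub_self]
  obtain ⟨k, hk, hres⟩ := (Groth.Agent.Lib.DT_helper3.cls_eq_zero_iff K n _).1 h0
  refine ⟨k, hk, m, fun r hr => ?_⟩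
  have h1 := LinearMap.congr_fun hres ⟨r, hr⟩
  rw [res_apply, LinearMap.sub_apply, smulMap_apply, LinearMap.zero_apply] at h1
  exact sub_eq_zero.1 h1

theorem H1_of_forall (h : ∀ (n : ℕ) (φ : ↥(K ^ n) →ₗ[R] M),
    ∃ (k : ℕ) (hk : n ≤ k) (m : M), ∀ (r : R) (hr : r ∈ K ^ k),
      φ ⟨r, Ideal.pow_le_pow_right hk hr⟩ = r • m) : Subsingleton (LocCoh.H K 1 M) := by
  obtain ⟨e⟩ := Groth.Agent.Lib.LocCohDTH7.coker_equiv K M
  have hsurj : ∀ x : LocCoh.DT K M, x ∈ LinearMap.range (LocCoh.toDT K M) := by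
    intro x
    obtain ⟨n, φ, rfl⟩ := exists_cls K x
    obtain ⟨k, hk, m, hm⟩ := h n φ
    refine ⟨m, ?_⟩
    rw [toDT_eq_cls' K k m, ← cls_res K hk φ]
    congr 1
    ext ⟨r, hr⟩
    rw [smulMap_apply, res_apply]
    exact (hm r hr).symm
  refine ⟨fun a b => ?_⟩
  apply e.symm.injective
  obtain ⟨x, hx⟩ := Submodule.Quotient.mk_surjective _ (e.symm a)
  obtain ⟨y, hy⟩ := Submodule.Quotient.mk_surjective _ (e.symm b)
  rw [← hx, ← hy, (Submodule.Quotient.mk_eq_zero _).2 (hsurj x),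
    (Submodule.Quotient.mk_eq_zero _).2 (hsurj y)]

end H1

section Gamma

variable (J : Ideal R)

theorem map_mem_Γ {A B : Type u} [AddCommGroup A] [Module R A] [AddCommGroup B] [Module R B]
    (f : A →ₗ[R] B) {x : A} (hx : x ∈ Γ J A) : f x ∈ Γ J B := by
  obtain ⟨n, hn⟩ := (mem_Γ_iff J x).1 hx
  exact (mem_Γ_iff J _).2 ⟨n, fun a ha => by rw [← map_smul, hn a ha, map_zero]⟩

theorem mem_Γ_of_map {A B : Type u} [AddCommGroup A] [Module R A] [AddCommGroup B] [Module R B]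
    (f : A →ₗ[R] B) (hf : Function.Injective f) {x : A} (hx : f x ∈ Γ J B) : x ∈ Γ J A := by
  obtain ⟨n, hn⟩ := (mem_Γ_iff J _).1 hx
  exact (mem_Γ_iff J _).2 ⟨n, fun a ha => hf (by rw [map_smul, hn a ha, map_zero])⟩

variable {M E : Type u} [AddCommGroup M] [Module R M] [AddCommGroup E] [Module R E]
  (ι : M →ₗ[R] E) (hι : Function.Injective ι)

include hι in
theorem lift_J (hJ : Subsingleton (LocCoh.H J 1 M)) (e : E)
    (he : ∃ n : ℕ, ∀ r ∈ J ^ n, ∃ m : M, ι m = r • e) : ∃ m : M, e - ι m ∈ Γ J E := by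
  obtain ⟨n, hn⟩ := he
  let eqv := LinearEquiv.ofInjective ι hι
  let φ₀ : ↥(J ^ n) →ₗ[R] ↥(LinearMap.range ι) :=
    LinearMap.codRestrict (LinearMap.range ι) (smulMap J n e) (fun r => by
      obtain ⟨m, hm⟩ := hn r.1 r.2
      exact ⟨m, hm.trans (smulMap_apply J n e r).symm⟩)
  let φ : ↥(J ^ n) →ₗ[R] M := eqv.symm.toLinearMap ∘ₗ φ₀
  have hφ : ∀ r : ↥(J ^ n), ι (φ r) = r.1 • e := by
    intro r
    have h1 : ι (eqv.symm (φ₀ r)) = ((eqv (eqv.symm (φ₀ r)) : ↥(LinearMap.range ι)) : E) := rfl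
    show ι (eqv.symm (φ₀ r)) = _
    rw [h1, LinearEquiv.apply_symm_apply]
    rfl
  obtain ⟨k, hk, m, hm⟩ := exists_of_H1 J M hJ n φ
  refine ⟨m, (mem_Γ_iff J _).2 ⟨k, fun a ha => ?_⟩⟩
  have h2 := hm a ha
  have h3 := hφ ⟨a, Ideal.pow_le_pow_right hk ha⟩
  rw [h2, map_smul] at h3
  rw [smul_sub, h3, sub_self]

/-- `Γ_J M → Γ_J E` -/
noncomputable def fΓ : ↥(Γ J M) →ₗ[R] ↥(Γ J E) :=
  ι.restrict (fun _ hx => map_mem_Γ J ι hx)

/-- `Γ_J E → Γ_J (E / M)` -/
noncomputable def gΓ : ↥(Γ J E) →ₗ[R] ↥(Γ J (E ⧸ LinearMap.range ι)) :=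
  (LinearMap.range ι).mkQ.restrict (fun _ hx => map_mem_Γ J _ hx)

include hι in
theorem fΓ_injective : Function.Injective (fΓ J ι) := fun x y h =>
  Subtype.ext (hι (congrArg Subtype.val h))

include hι in
theorem Γ_exact : Function.Exact (fΓ J ι) (gΓ J ι) := by
  intro y
  constructor
  · intro hy
    have h1 : (LinearMap.range ι).mkQ (y : E) = 0 := congrArg Subtype.val hy
    rw [Submodule.mkQ_apply] at h1
    obtain ⟨m, hm⟩ := (Submodule.Quotient.mk_eq_zero _).1 h1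
    have hmΓ : m ∈ Γ J M := mem_Γ_of_map J ι hι (by rw [hm]; exact y.2)
    exact ⟨⟨m, hmΓ⟩, Subtype.ext hm⟩
  · rintro ⟨x, rfl⟩
    apply Subtype.ext
    show (LinearMap.range ι).mkQ (ι x.1) = 0
    rw [Submodule.mkQ_apply]
    exact (Submodule.Quotient.mk_eq_zero _).2 ⟨x.1, rfl⟩

include hι in
theorem gΓ_surjective (hJ : Subsingleton (LocCoh.H J 1 M)) : Function.Surjective (gΓ J ι) := by
  rintro ⟨q, hq⟩
  obtain ⟨e, rfl⟩ := Submodule.mkQ_surjective _ q
  obtain ⟨n, hn⟩ := (mem_Γ_iff J _).1 hq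
  obtain ⟨m, hm⟩ := lift_J J ι hι hJ e ⟨n, fun r hr => by
    have h1 := hn r hr
    rw [← map_smul, Submodule.mkQ_apply] at h1
    obtain ⟨m, hm⟩ := (Submodule.Quotient.mk_eq_zero _).1 h1
    exact ⟨m, hm⟩⟩
  refine ⟨⟨e - ι m, hm⟩, Subtype.ext ?_⟩
  show (LinearMap.range ι).mkQ (e - ι m) = (LinearMap.range ι).mkQ e
  rw [map_sub, sub_eq_self, Submodule.mkQ_apply]
  exact (Submodule.Quotient.mk_eq_zero _).2 ⟨m, rfl⟩

end Gamma

section Main

variable [IsNoetherianRing R] (I J : Ideal R)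

variable {M E : Type u} [AddCommGroup M] [Module R M] [AddCommGroup E] [Module R E]
  (hE : Module.Injective R E) (ι : M →ₗ[R] E) (hι : Function.Injective ι)

include hE hι in
theorem shift_X3 (K : Ideal R) (p : ℕ) (h : Subsingleton (LocCoh.H K (p + 2) M)) :
    Subsingleton (LocCoh.H K (p + 1) (E ⧸ LinearMap.range ι)) := by
  have hS := shortComplexOf_shortExact ι (LinearMap.range ι).mkQ hι (Submodule.mkQ_surjective _)
    (LinearMap.exact_map_mkQ_range ι)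
  haveI := hE
  exact sub_X3 K hS p h
    (Groth.Agent.Lib.LocCohInjAcycH7.main (R' := R) K E (p + 1) (Nat.succ_pos p))

include hE hι in
theorem shift_X1 (K : Ideal R) (p : ℕ)
    (h : Subsingleton (LocCoh.H K (p + 1) (E ⧸ LinearMap.range ι))) :
    Subsingleton (LocCoh.H K (p + 2) M) := by
  have hS := shortComplexOf_shortExact ι (LinearMap.range ι).mkQ hι (Submodule.mkQ_surjective _)
    (LinearMap.exact_map_mkQ_range ι)
  haveI := hE
  exact sub_X1 K hS p h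
    (Groth.Agent.Lib.LocCohInjAcycH7.main (R' := R) K E (p + 2) (Nat.succ_pos (p + 1)))

include hE hι in
theorem shift_Γ (p : ℕ) (hJ : Subsingleton (LocCoh.H J 1 M))
    (h : Subsingleton (LocCoh.H I (p + 2) ↥(Γ J M))) :
    Subsingleton (LocCoh.H I (p + 1) ↥(Γ J (E ⧸ LinearMap.range ι))) := by
  have hS := shortComplexOf_shortExact (fΓ J ι) (gΓ J ι) (fΓ_injective J ι hι)
    (gΓ_surjective J ι hι hJ) (Γ_exact J ι hι)
  haveI : Module.Injective R ↥(Γ J E) := injective_Γ hE J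
  exact sub_X3 I hS p h
    (Groth.Agent.Lib.LocCohInjAcycH7.main (R' := R) I ↥(Γ J E) (p + 1) (Nat.succ_pos p))

include hE hι in
theorem A1 (hJ : Subsingleton (LocCoh.H J 1 M)) (hI : Subsingleton (LocCoh.H I 1 ↥(Γ J M))) :
    Subsingleton (LocCoh.H (I ⊔ J) 1 M) := by
  apply H1_of_forall
  intro n φ
  obtain ⟨h, hh⟩ := exists_extension hE (Submodule.subtype ((I ⊔ J) ^ n))
    (Submodule.injective_subtype _) (ι ∘ₗ φ)
  set e : E := h 1 with he
  have hφe : ∀ (r : R) (hr : r ∈ (I ⊔ J) ^ n), ι (φ ⟨r, hr⟩) = r • e := by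
    intro r hr
    have h1 := LinearMap.congr_fun hh ⟨r, hr⟩
    rw [LinearMap.comp_apply, LinearMap.comp_apply, Submodule.subtype_apply] at h1
    rw [← h1, he, ← map_smul, smul_eq_mul, mul_one]
  have hJle : ∀ k, J ^ k ≤ (I ⊔ J) ^ k := fun k => Ideal.pow_right_mono le_sup_right k
  have hIle : ∀ k, I ^ k ≤ (I ⊔ J) ^ k := fun k => Ideal.pow_right_mono le_sup_left k
  obtain ⟨m₁, hm₁⟩ := lift_J J ι hι hJ e
    ⟨n, fun r hr => ⟨φ ⟨r, hJle n hr⟩, hφe r (hJle n hr)⟩⟩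
  obtain ⟨n₁, hn₁⟩ := (mem_Γ_iff J _).1 hm₁
  have hx : ∀ r : ↥(I ^ n), φ ⟨r.1, hIle n r.2⟩ - r.1 • m₁ ∈ Γ J M := by
    intro r
    rw [mem_Γ_iff]
    refine ⟨n₁, fun a ha => hι ?_⟩
    rw [map_zero, map_smul, map_sub, map_smul, hφe, ← smul_sub, smul_comm, hn₁ a ha, smul_zero]
  let ψ₀ : ↥(I ^ n) →ₗ[R] M := φ ∘ₗ Submodule.inclusion (hIle n) - smulMap I n m₁
  have hψ₀ : ∀ r : ↥(I ^ n), ψ₀ r = φ ⟨r.1, hIle n r.2⟩ - r.1 • m₁ := fun r => rfl
  let ψ₂ : ↥(I ^ n) →ₗ[R] ↥(Γ J M) :=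
    LinearMap.codRestrict (Γ J M) ψ₀ (fun r => by rw [hψ₀]; exact hx r)
  obtain ⟨k, hk, m₂, hm₂⟩ := exists_of_H1 I ↥(Γ J M) hI n ψ₂
  have hm₂' : ∀ (r : R) (hr : r ∈ I ^ k),
      φ ⟨r, hIle n (Ideal.pow_le_pow_right hk hr)⟩ - r • m₁ = r • (m₂ : M) := by
    intro r hr
    exact congrArg Subtype.val (hm₂ r hr)
  obtain ⟨n₂, hn₂⟩ := (mem_Γ_iff J (m₂ : M)).1 m₂.2
  set m : M := m₁ + m₂ with hm
  have he₂J : ∀ a ∈ J ^ (n₁ + n₂), a • (e - ι m) = 0 := by
    intro a ha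
    have e1 : e - ι m = (e - ι m₁) - ι (m₂ : M) := by rw [hm, map_add]; abel
    rw [e1, smul_sub, hn₁ a (Ideal.pow_le_pow_right (Nat.le_add_right _ _) ha), ← map_smul,
      hn₂ a (Ideal.pow_le_pow_right (Nat.le_add_left _ _) ha), map_zero, sub_zero]
  have he₂I : ∀ r ∈ I ^ k, r • (e - ι m) = 0 := by
    intro r hr
    have h1 := hm₂' r hr
    have h2 := hφe r (hIle n (Ideal.pow_le_pow_right hk hr))
    rw [smul_sub, ← h2, ← map_smul, ← map_sub, hm, smul_add, ← sub_sub, h1, sub_self, map_zero]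
  refine ⟨max n (k + (n₁ + n₂)), le_max_left _ _, m, fun r hr => hι ?_⟩
  have hr1 : r ∈ (I ⊔ J) ^ (k + (n₁ + n₂)) := Ideal.pow_le_pow_right (le_max_right _ _) hr
  have hr2 := Ideal.sup_pow_add_le_pow_sup_pow hr1
  obtain ⟨x, hx', y, hy', hxy⟩ := Submodule.mem_sup.1 hr2
  have h0 : r • (e - ι m) = 0 := by
    rw [← hxy, add_smul, he₂I x hx', he₂J y hy', add_zero]
  rw [hφe, map_smul]
  rw [smul_sub] at h0
  exact sub_eq_zero.1 h0

theorem A (i : ℕ) : ∀ (M : Type u) [AddCommGroup M] [Module R M],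
    (∀ q : ℕ, Subsingleton (LocCoh.H J (q + 1) M)) →
    Subsingleton (LocCoh.H I (i + 1) ↥(Γ J M)) → Subsingleton (LocCoh.H (I ⊔ J) (i + 1) M) := by
  induction i with
  | zero =>
    intro M _ _ hacyc hI
    obtain ⟨E, _, _, ι, hE, hι⟩ := exists_injective_embedding (R := R) M
    exact A1 I J hE ι hι (hacyc 0) hI
  | succ i ih =>
    intro M _ _ hacyc hI
    obtain ⟨E, _, _, ι, hE, hι⟩ := exists_injective_embedding (R := R) M
    have hQ : ∀ q : ℕ, Subsingleton (LocCoh.H J (q + 1) (E ⧸ LinearMap.range ι)) :=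
      fun q => shift_X3 hE ι hι J q (hacyc (q + 1))
    have hΓ : Subsingleton (LocCoh.H I (i + 1) ↥(Γ J (E ⧸ LinearMap.range ι))) :=
      shift_Γ I J hE ι hι i (hacyc 0) hI
    exact shift_X1 hE ι hι (I ⊔ J) i (ih (E ⧸ LinearMap.range ι) hQ hΓ)

theorem B (a : ℕ) (hI : LocCoh.CdLE R I a) : ∀ (k : ℕ) (M : Type u) [AddCommGroup M] [Module R M],
    (∀ q : ℕ, k < q → Subsingleton (LocCoh.H J q M)) →
    ∀ i : ℕ, a + k < i → Subsingleton (LocCoh.H (I ⊔ J) i M) := by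
  intro k
  induction k with
  | zero =>
    intro M _ _ h i hi
    obtain ⟨i', rfl⟩ : ∃ i', i = i' + 1 := ⟨i - 1, by omega⟩
    exact A I J i' M (fun q => h (q + 1) (Nat.succ_pos q)) (hI ↥(Γ J M) (i' + 1) (by omega))
  | succ k ih =>
    intro M _ _ h i hi
    obtain ⟨E, _, _, ι, hE, hι⟩ := exists_injective_embedding (R := R) M
    have hQ : ∀ q : ℕ, k < q → Subsingleton (LocCoh.H J q (E ⧸ LinearMap.range ι)) := by
      intro q hq
      obtain ⟨q', rfl⟩ : ∃ q', q = q' + 1 := ⟨q - 1, by omega⟩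
      exact shift_X3 hE ι hι J q' (h (q' + 2) (by omega))
    obtain ⟨i', rfl⟩ : ∃ i', i = i' + 2 := ⟨i - 2, by omega⟩
    exact shift_X1 hE ι hι (I ⊔ J) i' (ih (E ⧸ LinearMap.range ι) hQ (i' + 1) (by omega))

/-- S0381 -/
theorem main (a b : ℕ) (hI : LocCoh.CdLE R I a) (hJ : LocCoh.CdLE R J b) :
    LocCoh.CdLE R (I ⊔ J) (a + b) := by
  intro M _ _ i hi
  exact B I J a hI b M (fun q hq => hJ M q hq) i hi

end Main

end Groth.Agent.Lib.LocCohCdSupH7
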