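import Mathlib
import Groth.Prelude.Def_Wider
import Groth.Agent.Lib.LocCohCdSup_helper7
import Groth.Agent.Lib.LocCohDTExact_helper7

/-!
# The connecting map `Γ_K(Q) → H^1_K(M)` and dimension shifting isomorphisms (helper7)
-/

open CategoryTheory CategoryTheory.Limits Opposite Pointwise

namespace Groth.Agent.Lib.LocCohDeltaZeroH7

open Groth.Agent.Lib.LocCohLESH7 Groth.Agent.DepthLib
open Groth.Agent.Lib.InjHull_helper3 Groth.Agent.Lib.DT_helper3 Groth.Agent.Lib.LocCohDTH7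
open Groth.Agent.Lib.LocCohCdSupH7 Groth.Agent.Lib.LocCohDTExactH7 LocCoh

universe u

variable {R : Type u} [CommRing R]

section C

variable (K : Ideal R)

lemma toDT_eq_zero_iff_mem_Γ {X : Type u} [AddCommGroup X] [Module R X] (x : X) :
    LocCoh.toDT K X x = 0 ↔ x ∈ Γ K X := by
  rw [mem_ker_toDT_iff, mem_Γ_iff]
  rfl

variable {M N Q : Type u} [AddCommGroup M] [Module R M] [AddCommGroup N] [Module R N]
  [AddCommGroup Q] [Module R Q] (f : M →ₗ[R] N) (g : N →ₗ[R] Q)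
  (hf : Function.Injective f) (hg : Function.Surjective g) (hfg : Function.Exact f g)

include hf hg hfg in
theorem exC (q : ↥(Γ K Q)) : ∃ p : N × LocCoh.DT K M, g p.1 = q.1 ∧
    ((idealTransform K).map (ModuleCat.ofHom f)).hom p.2 = LocCoh.toDT K N p.1 := by
  obtain ⟨e, he⟩ := hg q.1
  have h1 : ((idealTransform K).map (ModuleCat.ofHom g)).hom (LocCoh.toDT K N e) = 0 := by
    rw [toDT_nat, he]
    exact (toDT_eq_zero_iff_mem_Γ K _).2 q.2
  obtain ⟨z, hz⟩ := D_exact K f g hfg hf (LocCoh.toDT K N e) h1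
  exact ⟨(e, z), he, hz⟩

/-- the connecting map as a function -/
noncomputable def cFun (q : ↥(Γ K Q)) : LocCoh.H K 1 M :=
  (ΦD K M).hom (Classical.choose (exC K f g hf hg hfg q)).2

theorem cFun_spec (q : ↥(Γ K Q)) (e : N) (z : LocCoh.DT K M) (h1 : g e = q.1)
    (h2 : ((idealTransform K).map (ModuleCat.ofHom f)).hom z = LocCoh.toDT K N e) :
    cFun K f g hf hg hfg q = (ΦD K M).hom z := by
  obtain ⟨h1₀, h2₀⟩ := Classical.choose_spec (exC K f g hf hg hfg q)
  set p₀ := Classical.choose (exC K f g hf hg hfg q) with hp₀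
  have h3 : g (e - p₀.1) = 0 := by rw [map_sub, h1, h1₀, sub_self]
  obtain ⟨m, hm⟩ := (hfg (e - p₀.1)).1 h3
  have h4 : ((idealTransform K).map (ModuleCat.ofHom f)).hom (z - p₀.2) =
      ((idealTransform K).map (ModuleCat.ofHom f)).hom (LocCoh.toDT K M m) := by
    rw [map_sub, h2, h2₀, toDT_nat, hm, map_sub]
  have h5 : z - p₀.2 = LocCoh.toDT K M m := D_injective K f hf h4
  have h6 : z = p₀.2 + LocCoh.toDT K M m := by rw [← h5]; abel
  have h7 : cFun K f g hf hg hfg q = (ΦD K M).hom p₀.2 := rfl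
  rw [h7, h6, map_add, ΦD_toDT, add_zero]

/-- the connecting map `Γ_K(Q) → H^1_K(M)` -/
noncomputable def cMap : ↥(Γ K Q) →ₗ[R] LocCoh.H K 1 M where
  toFun := cFun K f g hf hg hfg
  map_add' q q' := by
    obtain ⟨h1, h2⟩ := Classical.choose_spec (exC K f g hf hg hfg q)
    obtain ⟨h1', h2'⟩ := Classical.choose_spec (exC K f g hf hg hfg q')
    rw [cFun_spec K f g hf hg hfg (q + q')
      ((Classical.choose (exC K f g hf hg hfg q)).1 + (Classical.choose (exC K f g hf hg hfg q')).1)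
      ((Classical.choose (exC K f g hf hg hfg q)).2 + (Classical.choose (exC K f g hf hg hfg q')).2)
      (by rw [map_add, h1, h1']; rfl) (by rw [map_add, map_add, h2, h2']), map_add]
    rfl
  map_smul' r q := by
    obtain ⟨h1, h2⟩ := Classical.choose_spec (exC K f g hf hg hfg q)
    rw [cFun_spec K f g hf hg hfg (r • q)
      (r • (Classical.choose (exC K f g hf hg hfg q)).1)
      (r • (Classical.choose (exC K f g hf hg hfg q)).2)
      (by rw [map_smul, h1]; rfl) (by rw [map_smul, map_smul, h2]), map_smul]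
    rfl

theorem cMap_spec (q : ↥(Γ K Q)) (e : N) (z : LocCoh.DT K M) (h1 : g e = q.1)
    (h2 : ((idealTransform K).map (ModuleCat.ofHom f)).hom z = LocCoh.toDT K N e) :
    cMap K f g hf hg hfg q = (ΦD K M).hom z :=
  cFun_spec K f g hf hg hfg q e z h1 h2

theorem cMap_surjective (hN : Subsingleton (LocCoh.H K 1 N)) :
    Function.Surjective (cMap K f g hf hg hfg) := by
  intro y
  obtain ⟨z, rfl⟩ := ΦD_surjective K M y
  have hmem : ((idealTransform K).map (ModuleCat.ofHom f)).hom z ∈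
      LinearMap.range (LocCoh.toDT K N) :=
    mem_range_of_ΦD_eq_zero K N _ (Subsingleton.elim _ _)
  obtain ⟨e, he⟩ := hmem
  have hq : g e ∈ Γ K Q := by
    rw [← toDT_eq_zero_iff_mem_Γ, ← toDT_nat, he]
    exact D_comp_zero K f g hfg z
  exact ⟨⟨g e, hq⟩, cMap_spec K f g hf hg hfg ⟨g e, hq⟩ e z rfl he.symm⟩

theorem cMap_eq_zero_iff (q : ↥(Γ K Q)) :
    cMap K f g hf hg hfg q = 0 ↔ ∃ y ∈ Γ K N, g y = q.1 := by
  constructor
  · intro h
    obtain ⟨h1, h2⟩ := Classical.choose_spec (exC K f g hf hg hfg q)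
    set p := Classical.choose (exC K f g hf hg hfg q) with hp
    have h0 : (ΦD K M).hom p.2 = 0 := h
    obtain ⟨m, hm⟩ := mem_range_of_ΦD_eq_zero K M p.2 h0
    refine ⟨p.1 - f m, ?_, ?_⟩
    · rw [← toDT_eq_zero_iff_mem_Γ, map_sub, ← h2, ← toDT_nat, hm, sub_self]
    · rw [map_sub, h1, hfg.apply_apply_eq_zero, sub_zero]
  · rintro ⟨y, hy, hgy⟩
    rw [cMap_spec K f g hf hg hfg q y 0 hgy
      (by rw [map_zero]; exact ((toDT_eq_zero_iff_mem_Γ K y).2 hy).symm), map_zero]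

end C

section delta

variable (K : Ideal R) {S : ShortComplex (ModuleCat.{u} R)} (hS : S.ShortExact)

include hS in
theorem δ_bijective (p : ℕ)
    (h1 : Subsingleton ((localCohomology K (p + 1)).obj S.X₂ : ModuleCat.{u} R))
    (h2 : Subsingleton ((localCohomology K (p + 2)).obj S.X₂ : ModuleCat.{u} R)) :
    Function.Bijective (δ K hS p).hom := by
  constructor
  · rw [injective_iff_map_eq_zero]
    intro m hm
    obtain ⟨m₂, rfl⟩ := exists_of_δ_eq_zero K hS p m hm
    rw [Subsingleton.elim m₂ 0, map_zero]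
  · intro m₁
    exact exists_δ_eq K hS p m₁ (Subsingleton.elim _ _)

end delta

theorem exists_addEquiv_of_surjective {A A' B B' : Type*} [AddCommGroup A] [AddCommGroup A']
    [AddCommGroup B] [AddCommGroup B'] (f : A →+ B) (g : A' →+ B') (θ : A ≃+ A')
    (hf : Function.Surjective f) (hg : Function.Surjective g)
    (hker : ∀ a, f a = 0 ↔ g (θ a) = 0) : ∃ φ : B ≃+ B', ∀ a, φ (f a) = g (θ a) := by
  have h1 : f.ker ≤ (g.comp θ.toAddMonoidHom).ker := fun a ha => by
    rw [AddMonoidHom.mem_ker] at ha ⊢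
    exact (hker a).1 ha
  have h2 : g.ker ≤ (f.comp θ.symm.toAddMonoidHom).ker := fun a' ha' => by
    rw [AddMonoidHom.mem_ker] at ha' ⊢
    apply (hker (θ.symm a')).2
    rw [AddEquiv.apply_symm_apply]
    exact ha'
  let φ₁ : B →+ B' := f.liftOfRightInverse (Function.surjInv hf)
    (Function.rightInverse_surjInv hf) ⟨g.comp θ.toAddMonoidHom, h1⟩
  let φ₂ : B' →+ B := g.liftOfRightInverse (Function.surjInv hg)
    (Function.rightInverse_surjInv hg) ⟨f.comp θ.symm.toAddMonoidHom, h2⟩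
  have e1 : ∀ a, φ₁ (f a) = g (θ a) := fun a =>
    AddMonoidHom.liftOfRightInverse_comp_apply f _ _ ⟨g.comp θ.toAddMonoidHom, h1⟩ a
  have e2 : ∀ a', φ₂ (g a') = f (θ.symm a') := fun a' =>
    AddMonoidHom.liftOfRightInverse_comp_apply g _ _ ⟨f.comp θ.symm.toAddMonoidHom, h2⟩ a'
  have hl : Function.LeftInverse φ₂ φ₁ := by
    intro b
    obtain ⟨a, rfl⟩ := hf b
    rw [e1, e2, AddEquiv.symm_apply_apply]
  have hr : Function.RightInverse φ₂ φ₁ := by
    intro b'
    obtain ⟨a', rfl⟩ := hg b'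
    rw [e2, e1, AddEquiv.apply_symm_apply]
  let φ : B ≃+ B' :=
    { toFun := φ₁, invFun := φ₂, left_inv := hl, right_inv := hr, map_add' := φ₁.map_add }
  exact ⟨φ, e1⟩

section H0

open Groth.Agent.Lib.ExtCompareH7 Groth.Agent.Lib.LocCohTorsVanishH7 Groth.Agent.Lib.LocCohH0H7

/-- `H^0_I(N)` is the `I`-power torsion of `N` -/
theorem H0_equiv' (I : Ideal R) (N : Type u) [AddCommGroup N] [Module R N] :
    Nonempty (LocCoh.H I 0 N ≃ₗ[R] ↥(Γ I N)) := by
  let F := localCohomology.diagram (localCohomology.idealPowersDiagram I) 0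
  let M : ModuleCat.{u} R := ModuleCat.of R N
  have hc := isColimitOfPreserves ((evaluation _ _).obj M) (colimit.isColimit F)
  let Ψ : (colimit F).obj M ⟶ M := hc.desc (coc I M)
  have hfac : ∀ (k : ℕᵒᵖᵒᵖ) (ξ : ((F.obj k).obj M : ModuleCat.{u} R)),
      Ψ.hom (((colimit.ι F k).app M).hom ξ) = (c I M k).hom ξ := by
    intro k ξ
    have h := congrArg (fun α => α.hom ξ) (hc.fac (coc I M) k)
    exact h
  have hinj : Function.Injective Ψ.hom := by
    rw [injective_iff_map_eq_zero]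
    intro m hm
    obtain ⟨k, y, hy⟩ := Groth.Agent.Lib.LocCohTorsH7.exists_rep I 0 M m
    rw [← hy] at hm ⊢
    rw [hfac, c_apply] at hm
    have h1 : (j (ModuleCat.of R (R ⧸ Jk I k)) M).inv.hom y = 0 := by
      apply hom_ext_one
      rw [hm]
      rfl
    have h2 : y = 0 := iso_inv_eq_zero (j (ModuleCat.of R (R ⧸ Jk I k)) M) y h1
    rw [h2, map_zero]
  have hmem : ∀ m : ((colimit F).obj M : ModuleCat.{u} R), Ψ.hom m ∈ Γ I N := by
    intro m
    obtain ⟨k, y, hy⟩ := Groth.Agent.Lib.LocCohTorsH7.exists_rep I 0 M m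
    rw [← hy, hfac, c_apply, mem_Γ_iff]
    refine ⟨unop (unop k), fun a ha => ?_⟩
    rw [← map_smul, Algebra.smul_def, Ideal.Quotient.algebraMap_eq, ← map_mul, mul_one]
    have h0 : Ideal.Quotient.mk (Jk I k) a = 0 := Ideal.Quotient.eq_zero_iff_mem.2 ha
    rw [h0, map_zero]
  have hsurj : ∀ y ∈ Γ I N,
      ∃ z : ((colimit F).obj M : ModuleCat.{u} R), Ψ.hom z = y := by
    intro y hy
    obtain ⟨n, hn⟩ := (mem_Γ_iff I y).1 hy
    let k : ℕᵒᵖᵒᵖ := op (op n)
    let h : (R ⧸ Jk I k) →ₗ[R] N := (Jk I k).liftQ (LinearMap.toSpanSingleton R N y) (by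
      intro a ha
      rw [LinearMap.mem_ker, LinearMap.toSpanSingleton_apply]
      exact hn a ha)
    let ξ : E 0 (ModuleCat.of R (R ⧸ Jk I k)) M :=
      (j (ModuleCat.of R (R ⧸ Jk I k)) M).hom.hom (ModuleCat.ofHom h)
    refine ⟨((colimit.ι F k).app M).hom ξ, ?_⟩
    rw [hfac, c_apply]
    have h1 : (j (ModuleCat.of R (R ⧸ Jk I k)) M).inv.hom ξ = ModuleCat.ofHom h := by
      have h2 := congrArg (fun α => α.hom (ModuleCat.ofHom h))
        (j (ModuleCat.of R (R ⧸ Jk I k)) M).hom_inv_id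
      exact h2
    rw [h1]
    show LinearMap.toSpanSingleton R N y 1 = y
    rw [LinearMap.toSpanSingleton_apply, one_smul]
  let Ψ' : LocCoh.H I 0 N →ₗ[R] ↥(Γ I N) := LinearMap.codRestrict (Γ I N) Ψ.hom hmem
  refine ⟨LinearEquiv.ofBijective Ψ' ⟨?_, ?_⟩⟩
  · intro a b hab
    exact hinj (congrArg Subtype.val hab)
  · rintro ⟨y, hy⟩
    obtain ⟨z, hz⟩ := hsurj y hy
    exact ⟨z, Subtype.ext hz⟩

end H0

end Groth.Agent.Lib.LocCohDeltaZeroH7
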