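import Mathlib
import Groth.Prelude.Def_GrLC
import Groth.Prelude.Def_Wider

/-! Graded modules: homogeneous maps, *essential extensions, *injective hulls (helper1). -/

set_option autoImplicit false

namespace Groth.Agent.Lib.GrStarH1

open DirectSum GrLC

universe u

variable {ι : Type} [AddCommGroup ι] [DecidableEq ι]
variable {R : Type u} [CommRing R] (𝒜 : ι → AddSubgroup R) [GradedRing 𝒜]

section maps

variable {M : Type u} [AddCommGroup M] [Module R M] (ℳ : ι → AddSubgroup M) [Decomposition ℳ]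
variable {N : Type u} [AddCommGroup N] [Module R N] (𝒩 : ι → AddSubgroup N) [Decomposition 𝒩]

omit [GradedRing 𝒜] in
theorem decompose_map {f : M →ₗ[R] N} (hf : IsGrHom ℳ 𝒩 f) (x : M) (g : ι) :
    (decompose 𝒩 (f x) g : N) = f (decompose ℳ x g) := by
  induction x using DirectSum.Decomposition.inductionOn ℳ with
  | zero => simp
  | @homogeneous i m =>
    by_cases h : i = g
    · subst h
      rw [decompose_of_mem_same 𝒩 (hf i m m.2), decompose_of_mem_same ℳ m.2]
    · rw [decompose_of_mem_ne 𝒩 (hf i m m.2) h, decompose_of_mem_ne ℳ m.2 h, map_zero]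
  | add m m' hm hm' =>
    rw [map_add, decompose_add, decompose_add, DirectSum.add_apply, DirectSum.add_apply,
      AddSubgroup.coe_add, AddSubgroup.coe_add, map_add, hm, hm']

theorem decompose_map_deg {f : M →ₗ[R] N} {d : ι} (hf : IsGrHomDeg ℳ 𝒩 f d) (x : M) (g : ι) :
    (decompose 𝒩 (f x) (g + d) : N) = f (decompose ℳ x g) := by
  induction x using DirectSum.Decomposition.inductionOn ℳ with
  | zero => simp
  | @homogeneous i m =>
    by_cases h : i = g
    · subst h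
      rw [decompose_of_mem_same 𝒩 (hf i m m.2), decompose_of_mem_same ℳ m.2]
    · have h' : i + d ≠ g + d := fun e => h (add_right_cancel e)
      rw [decompose_of_mem_ne 𝒩 (hf i m m.2) h', decompose_of_mem_ne ℳ m.2 h, map_zero]
  | add m m' hm hm' =>
    rw [map_add, decompose_add, decompose_add, DirectSum.add_apply, DirectSum.add_apply,
      AddSubgroup.coe_add, AddSubgroup.coe_add, map_add, hm, hm']

theorem ker_isHomogeneous {f : M →ₗ[R] N} (hf : IsGrHom ℳ 𝒩 f) :
    (LinearMap.ker f).IsHomogeneous ℳ := by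
  intro g x hx
  rw [LinearMap.mem_ker] at hx ⊢
  rw [← decompose_map ℳ 𝒩 hf, hx, decompose_zero, DirectSum.zero_apply, ZeroMemClass.coe_zero]

theorem range_isHomogeneous {f : M →ₗ[R] N} (hf : IsGrHom ℳ 𝒩 f) :
    (LinearMap.range f).IsHomogeneous 𝒩 := by
  rintro g _ ⟨x, rfl⟩
  exact ⟨_, (decompose_map ℳ 𝒩 hf x g).symm⟩

theorem comap_isHomogeneous {f : M →ₗ[R] N} (hf : IsGrHom ℳ 𝒩 f) {P : Submodule R N}
    (hP : P.IsHomogeneous 𝒩) : (P.comap f).IsHomogeneous ℳ := by
  intro g x hx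
  rw [Submodule.mem_comap] at hx ⊢
  rw [← decompose_map ℳ 𝒩 hf]
  exact hP g hx

theorem map_isHomogeneous {f : M →ₗ[R] N} (hf : IsGrHom ℳ 𝒩 f) {P : Submodule R M}
    (hP : P.IsHomogeneous ℳ) : (P.map f).IsHomogeneous 𝒩 := by
  rintro g _ ⟨x, hx, rfl⟩
  exact ⟨_, hP g hx, (decompose_map ℳ 𝒩 hf x g).symm⟩

end maps

section smul

variable {M : Type u} [AddCommGroup M] [Module R M] (ℳ : ι → AddSubgroup M) [Decomposition ℳ]
  [SetLike.GradedSMul 𝒜 ℳ]

theorem smul_mem_gr {r : R} {h : ι} (hr : r ∈ 𝒜 h) {x : M} {g : ι} (hx : x ∈ ℳ g) :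
    r • x ∈ ℳ (h + g) := by
  have := SetLike.GradedSMul.smul_mem (A := 𝒜) (B := ℳ) hr hx
  rwa [vadd_eq_add] at this

/-- component of `r • x` for homogeneous `r`. -/
theorem decompose_smul_homog {r : R} {h : ι} (hr : r ∈ 𝒜 h) (x : M) (g : ι) :
    (decompose ℳ (r • x) (h + g) : M) = r • (decompose ℳ x g : M) := by
  induction x using DirectSum.Decomposition.inductionOn ℳ with
  | zero => simp
  | @homogeneous i m =>
    by_cases e : i = g
    · subst e
      rw [decompose_of_mem_same ℳ (smul_mem_gr 𝒜 ℳ hr m.2), decompose_of_mem_same ℳ m.2]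
    · have h' : h + i ≠ h + g := fun e' => e (add_left_cancel e')
      rw [decompose_of_mem_ne ℳ (smul_mem_gr 𝒜 ℳ hr m.2) h', decompose_of_mem_ne ℳ m.2 e, smul_zero]
  | add m m' hm hm' =>
    rw [smul_add, decompose_add, decompose_add, DirectSum.add_apply, DirectSum.add_apply,
      AddSubgroup.coe_add, AddSubgroup.coe_add, smul_add, hm, hm']

/-- component of `s • x` for homogeneous `x`. -/
theorem decompose_smul_of_mem {x : M} {g : ι} (hx : x ∈ ℳ g) (s : R) (k : ι) :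
    (decompose ℳ (s • x) k : M) = (decompose 𝒜 s (k - g) : R) • x := by
  induction s using DirectSum.Decomposition.inductionOn 𝒜 with
  | zero => simp
  | @homogeneous i m =>
    by_cases e : i + g = k
    · subst e
      rw [decompose_of_mem_same ℳ (smul_mem_gr 𝒜 ℳ m.2 hx), add_sub_cancel_right,
        decompose_of_mem_same 𝒜 m.2]
    · have h' : i ≠ k - g := fun e' => e (by rw [e']; abel)
      rw [decompose_of_mem_ne ℳ (smul_mem_gr 𝒜 ℳ m.2 hx) e, decompose_of_mem_ne 𝒜 m.2 h', zero_smul]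
  | add m m' hm hm' =>
    rw [add_smul, decompose_add, decompose_add, DirectSum.add_apply, DirectSum.add_apply,
      AddSubgroup.coe_add, AddSubgroup.coe_add, add_smul, hm, hm']

omit [SetLike.GradedSMul 𝒜 ℳ] [GradedRing 𝒜] in
theorem exists_decompose_ne_zero {x : M} (hx : x ≠ 0) : ∃ g, (decompose ℳ x g : M) ≠ 0 := by
  classical
  by_contra hcon
  push_neg at hcon
  apply hx
  rw [← DirectSum.sum_support_decompose ℳ x]
  exact Finset.sum_eq_zero (fun i _ => hcon i)

include 𝒜 in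
theorem span_singleton_isHomogeneous {x : M} {g : ι} (hx : x ∈ ℳ g) :
    (Submodule.span R {x}).IsHomogeneous ℳ := by
  intro k y hy
  obtain ⟨s, rfl⟩ := Submodule.mem_span_singleton.1 hy
  rw [decompose_smul_of_mem 𝒜 ℳ hx]
  exact Submodule.smul_mem _ _ (Submodule.mem_span_singleton_self x)

end smul

section ess

variable {M : Type u} [AddCommGroup M] [Module R M] (ℳ : ι → AddSubgroup M) [Decomposition ℳ]
  [SetLike.GradedSMul 𝒜 ℳ]
variable {L : Type u} [AddCommGroup L] [Module R L] (𝓛 : ι → AddSubgroup L) [Decomposition 𝓛]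
  [SetLike.GradedSMul 𝒜 𝓛]

/-- homogeneous case -/
theorem exists_homog_smul_mem_of_homog {f : M →ₗ[R] L} (hf : IsStarEss ℳ 𝓛 f) {x : L} {g : ι}
    (hx : x ∈ 𝓛 g) (hx0 : x ≠ 0) :
    ∃ (j : ι) (r : R), r ∈ 𝒜 j ∧ r • x ≠ 0 ∧ r • x ∈ LinearMap.range f := by
  have hP : (Submodule.span R {x}).IsHomogeneous 𝓛 := span_singleton_isHomogeneous 𝒜 𝓛 hx
  have hP0 : Submodule.span R {x} ≠ ⊥ := by
    intro h
    apply hx0
    have : x ∈ Submodule.span R {x} := Submodule.mem_span_singleton_self x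
    rw [h] at this
    simpa using this
  have h1 := hf.essential _ hP hP0
  obtain ⟨y, hy, hy0⟩ := Submodule.exists_mem_ne_zero_of_ne_bot h1
  obtain ⟨hy1, hy2⟩ := Submodule.mem_inf.1 hy
  obtain ⟨s, rfl⟩ := Submodule.mem_span_singleton.1 hy1
  obtain ⟨k, hk⟩ := exists_decompose_ne_zero 𝓛 hy0
  have hr := range_isHomogeneous ℳ 𝓛 hf.grHom k hy2
  rw [decompose_smul_of_mem 𝒜 𝓛 hx] at hk hr
  exact ⟨k - g, _, (decompose 𝒜 s (k - g)).2, hk, hr⟩

open scoped Classical in
theorem exists_homog_smul_mem {f : M →ₗ[R] L} (hf : IsStarEss ℳ 𝓛 f) :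
    ∀ (n : ℕ) (x : L), (decompose 𝓛 x).support.card = n → x ≠ 0 →
    ∃ (j : ι) (r : R), r ∈ 𝒜 j ∧ r • x ≠ 0 ∧ r • x ∈ LinearMap.range f := by
  intro n
  induction n using Nat.strong_induction_on with
  | _ n ih =>
    intro x hn hx0
    obtain ⟨g, hg⟩ := exists_decompose_ne_zero 𝓛 hx0
    obtain ⟨xg, hxg⟩ : ∃ xg : L, xg = (decompose 𝓛 x g : L) := ⟨_, rfl⟩
    have hxg_mem : xg ∈ 𝓛 g := hxg ▸ (decompose 𝓛 x g).2
    have hxg0 : xg ≠ 0 := hxg ▸ hg
    obtain ⟨j, r, hr, hr0, hrf⟩ := exists_homog_smul_mem_of_homog 𝒜 ℳ 𝓛 hf hxg_mem hxg0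
    obtain ⟨y, hy⟩ : ∃ y : L, y = x - xg := ⟨_, rfl⟩
    have hxy : x = y + xg := by rw [hy]; abel
    have hyg : (decompose 𝓛 y g : L) = 0 := by
      rw [hy, decompose_sub, DirectSum.sub_apply, AddSubgroup.coe_sub, decompose_of_mem_same 𝓛 hxg_mem,
        ← hxg, sub_self]
    have hyk : ∀ k, k ≠ g → (decompose 𝓛 y k : L) = (decompose 𝓛 x k : L) := by
      intro k hk
      rw [hy, decompose_sub, DirectSum.sub_apply, AddSubgroup.coe_sub,
        decompose_of_mem_ne 𝓛 hxg_mem (Ne.symm hk), sub_zero]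
    have hsupp : (decompose 𝓛 y).support ⊆ (decompose 𝓛 x).support.erase g := by
      intro k hk
      rw [DFinsupp.mem_support_toFun] at hk
      have hkg : k ≠ g := by
        rintro rfl
        apply hk
        exact Subtype.ext hyg
      rw [Finset.mem_erase, DFinsupp.mem_support_toFun]
      refine ⟨hkg, fun h0 => hk ?_⟩
      apply Subtype.ext
      rw [hyk k hkg, h0]
    have hgmem : g ∈ (decompose 𝓛 x).support := by
      rw [DFinsupp.mem_support_toFun]
      intro h0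
      apply hg
      rw [h0]; rfl
    have hcard : (decompose 𝓛 y).support.card < n := by
      calc (decompose 𝓛 y).support.card ≤ ((decompose 𝓛 x).support.erase g).card :=
            Finset.card_le_card hsupp
        _ < (decompose 𝓛 x).support.card := Finset.card_erase_lt_of_mem hgmem
        _ = n := hn
    by_cases hry : r • y = 0
    · refine ⟨j, r, hr, ?_, ?_⟩
      · rw [hxy, smul_add, hry, zero_add]; exact hr0
      · rw [hxy, smul_add, hry, zero_add]; exact hrf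
    · -- support of r • y
      have hcard2 : (decompose 𝓛 (r • y)).support.card ≤ (decompose 𝓛 y).support.card := by
        apply Finset.card_le_card_of_injOn (fun k => k - j)
        · intro k hk
          rw [Finset.mem_coe, DFinsupp.mem_support_toFun] at hk ⊢
          intro h0
          apply hk
          apply Subtype.ext
          have : k = j + (k - j) := by abel
          rw [this, decompose_smul_homog 𝒜 𝓛 hr, h0]
          simp
        · intro a _ b _ hab
          exact sub_left_injective hab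
      obtain ⟨d', s', hs', hs0, hsf⟩ := ih _ (lt_of_le_of_lt hcard2 hcard) (r • y) rfl hry
      refine ⟨d' + j, s' * r, SetLike.mul_mem_graded hs' hr, ?_, ?_⟩
      · intro h0
        apply hs0
        have h1 : (s' * r) • y = -((s' * r) • xg) := by
          rw [hxy, smul_add] at h0
          exact eq_neg_of_add_eq_zero_left h0
        have h2 : (s' * r) • y ∈ 𝓛 ((d' + j) + g) := by
          rw [h1]
          exact neg_mem (smul_mem_gr 𝒜 𝓛 (SetLike.mul_mem_graded hs' hr) hxg_mem)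
        have h3 := decompose_of_mem_same 𝓛 h2
        rw [decompose_smul_homog 𝒜 𝓛 (SetLike.mul_mem_graded hs' hr), hyg, smul_zero] at h3
        rw [← mul_smul]
        exact h3.symm
      · rw [hxy, smul_add, mul_smul, mul_smul]
        exact Submodule.add_mem _ hsf (Submodule.smul_mem _ _ hrf)

include 𝒜 in
theorem main13211 {f : M →ₗ[R] L} (hf : IsStarEss ℳ 𝓛 f) : InjHull.IsEssentialInj f := by
  classical
  refine ⟨hf.injective, fun N hN => ?_⟩
  obtain ⟨x, hx, hx0⟩ := Submodule.exists_mem_ne_zero_of_ne_bot hN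
  obtain ⟨j, r, _, hr0, hrf⟩ := exists_homog_smul_mem 𝒜 ℳ 𝓛 hf _ x rfl hx0
  intro hbot
  apply hr0
  have : r • x ∈ N ⊓ LinearMap.range f := ⟨N.smul_mem r hx, hrf⟩
  rw [hbot] at this
  simpa using this

end ess

section uniq

variable {M : Type u} [AddCommGroup M] [Module R M] (ℳ : ι → AddSubgroup M) [Decomposition ℳ]
  [SetLike.GradedSMul 𝒜 ℳ]
variable {L : Type u} [AddCommGroup L] [Module R L] (𝓛 : ι → AddSubgroup L) [Decomposition 𝓛]
  [SetLike.GradedSMul 𝒜 𝓛]
variable {L' : Type u} [AddCommGroup L'] [Module R L'] (𝓛' : ι → AddSubgroup L') [Decomposition 𝓛']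
  [SetLike.GradedSMul 𝒜 𝓛']

omit [GradedRing 𝒜] [Decomposition ℳ] [SetLike.GradedSMul 𝒜 ℳ] [SetLike.GradedSMul 𝒜 𝓛] in
theorem eq_bot_of_ess {τ : Type u} [SetLike τ M] [AddSubgroupClass τ M] {ℳ' : ι → τ}
    {f : M →ₗ[R] L} (hf : IsStarEss ℳ' 𝓛 f) {P : Submodule R L}
    (hP : P.IsHomogeneous 𝓛) (h : P ⊓ LinearMap.range f = ⊥) : P = ⊥ := by
  by_contra h0
  exact hf.essential P hP h0 h

omit [GradedRing 𝒜] [Decomposition ℳ] [SetLike.GradedSMul 𝒜 ℳ] [SetLike.GradedSMul 𝒜 𝓛]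
  [SetLike.GradedSMul 𝒜 𝓛'] in
/-- a graded map out of a *essential extension that is injective on the small module is injective -/
theorem injective_of_ess_of_comp {τ : Type u} [SetLike τ M] [AddSubgroupClass τ M] {ℳ' : ι → τ}
    {f : M →ₗ[R] L} (hf : IsStarEss ℳ' 𝓛 f) {β : L →ₗ[R] L'}
    (hβ : IsGrHom 𝓛 𝓛' β) (hinj : Function.Injective (β ∘ₗ f)) : Function.Injective β := by
  rw [← LinearMap.ker_eq_bot]
  apply eq_bot_of_ess (𝓛 := 𝓛) hf (ker_isHomogeneous 𝓛 𝓛' hβ)
  rw [eq_bot_iff]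
  rintro y ⟨hy1, ⟨m, rfl⟩⟩
  rw [SetLike.mem_coe, LinearMap.mem_ker] at hy1
  have : m = 0 := hinj (by rw [LinearMap.comp_apply, hy1, map_zero])
  rw [this, map_zero]
  exact Submodule.zero_mem _

/-- unbundled form of the *injective extension property -/
theorem starInj_ext {Q : Type u} [AddCommGroup Q] [Module R Q] {𝒬 : ι → AddSubgroup Q}
    [Decomposition 𝒬] [SetLike.GradedSMul 𝒜 𝒬] (hQ : IsStarInj 𝒜 𝒬)
    (f : L →ₗ[R] L') (hf : IsGrHom 𝓛 𝓛' f) (hinj : Function.Injective f)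
    (g : L →ₗ[R] Q) (hg : IsGrHom 𝓛 𝒬 g) :
    ∃ h : L' →ₗ[R] Q, IsGrHom 𝓛' 𝒬 h ∧ h ∘ₗ f = g :=
  hQ (GMod.of 𝒜 L 𝓛) (GMod.of 𝒜 L' 𝓛') f hf hinj g hg

theorem main13214 (f₁ : M →ₗ[R] L) (f₂ : M →ₗ[R] L')
    (h₁ : IsStarInjHull 𝒜 ℳ 𝓛 f₁) (h₂ : IsStarInjHull 𝒜 ℳ 𝓛' f₂) :
    ∃ β : L ≃ₗ[R] L', IsGrHom 𝓛 𝓛' β.toLinearMap ∧ β.toLinearMap ∘ₗ f₁ = f₂ := by
  obtain ⟨β, hβgr, hβ⟩ := starInj_ext 𝒜 ℳ 𝓛 h₂.starInj f₁ h₁.grHom h₁.injective f₂ h₂.grHom
  have hβinj : Function.Injective β := by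
    apply injective_of_ess_of_comp (𝓛 := 𝓛) (𝓛' := 𝓛') h₁.toIsStarEss hβgr
    rw [hβ]
    exact h₂.injective
  obtain ⟨γ, hγgr, hγ⟩ := starInj_ext 𝒜 𝓛 𝓛' h₁.starInj β hβgr hβinj LinearMap.id
    (fun _ _ h => h)
  have hγinj : Function.Injective γ := by
    apply injective_of_ess_of_comp (𝓛 := 𝓛') (𝓛' := 𝓛) h₂.toIsStarEss hγgr
    have : γ ∘ₗ f₂ = f₁ := by
      rw [← hβ, ← LinearMap.comp_assoc, hγ, LinearMap.id_comp]
    rw [this]
    exact h₁.injective
  have hβsurj : Function.Surjective β := by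
    intro y
    refine ⟨γ y, hγinj ?_⟩
    have := LinearMap.congr_fun hγ (γ y)
    rw [LinearMap.comp_apply, LinearMap.id_apply] at this
    exact this
  refine ⟨LinearEquiv.ofBijective β ⟨hβinj, hβsurj⟩, hβgr, ?_⟩
  ext m
  exact LinearMap.congr_fun hβ m

end uniq

end Groth.Agent.Lib.GrStarH1
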