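import Mathlib
import Groth.Prelude.Def_GrLC
import Groth.Prelude.Def_Wider
import Groth.Agent.Lib.GrStar_helper1

/-! Graded modules: quotients, homogeneous submodules as graded modules, coinduced *injectives,
existence of *injective hulls and resolutions (helper1). -/

set_option autoImplicit false

namespace Groth.Agent.Lib.GrStar2H1

open DirectSum GrLC Groth.Agent.Lib.GrStarH1

universe u

variable {ι : Type} [AddCommGroup ι] [DecidableEq ι]
variable {R : Type u} [CommRing R] (𝒜 : ι → AddSubgroup R) [GradedRing 𝒜]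

/-! ### quotient by a homogeneous submodule -/
section quot

variable {M : Type u} [AddCommGroup M] [Module R M] (ℳ : ι → AddSubgroup M)
variable (P : Submodule R M)

/-- pieces of the quotient -/
def quotGr (g : ι) : AddSubgroup (M ⧸ P) := (ℳ g).map P.mkQ.toAddMonoidHom

theorem mk_mem_quotGr {g : ι} {m : M} (hm : m ∈ ℳ g) : P.mkQ m ∈ quotGr ℳ P g := ⟨m, hm, rfl⟩

theorem mkQ_isGrHom : IsGrHom ℳ (quotGr ℳ P) P.mkQ := fun _ _ hm => mk_mem_quotGr ℳ P hm

/-- component maps -/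
def quotComp (g : ι) : ℳ g →+ quotGr ℳ P g := P.mkQ.toAddMonoidHom.addSubgroupMap (ℳ g)

theorem quotComp_coe (g : ι) (x : ℳ g) : ((quotComp ℳ P g x : quotGr ℳ P g) : M ⧸ P) = P.mkQ x := rfl

variable [Decomposition ℳ]

/-- the decomposition map before passing to the quotient -/
noncomputable def quotDecAux : M →+ ⨁ g, quotGr ℳ P g :=
  (DirectSum.map (quotComp ℳ P)).comp (decomposeAddEquiv ℳ).toAddMonoidHom

theorem quotDecAux_of_mem {g : ι} {m : M} (hm : m ∈ ℳ g) :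
    quotDecAux ℳ P m = DirectSum.of (fun g => quotGr ℳ P g) g ⟨P.mkQ m, mk_mem_quotGr ℳ P hm⟩ := by
  unfold quotDecAux
  rw [AddMonoidHom.comp_apply]
  change DirectSum.map (quotComp ℳ P) (decompose ℳ m) = _
  rw [decompose_of_mem ℳ hm, DirectSum.map_of]
  rfl

variable (hP : P.IsHomogeneous ℳ)

include hP in
theorem quotDecAux_ker : P.mkQ.toAddMonoidHom.ker ≤ (quotDecAux ℳ P).ker := by
  intro m hm
  rw [AddMonoidHom.mem_ker] at hm ⊢
  have hmP : m ∈ P := by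
    have : P.mkQ m = 0 := hm
    rwa [Submodule.mkQ_apply, Submodule.Quotient.mk_eq_zero] at this
  unfold quotDecAux
  rw [AddMonoidHom.comp_apply]
  apply DirectSum.ext
  intro g
  rw [DirectSum.map_apply, DirectSum.zero_apply]
  apply Subtype.ext
  rw [quotComp_coe]
  change P.mkQ ((decompose ℳ m g : M)) = 0
  rw [Submodule.mkQ_apply, Submodule.Quotient.mk_eq_zero]
  exact hP g hmP

/-- decomposition map of the quotient -/
noncomputable def quotDec : (M ⧸ P) →+ ⨁ g, quotGr ℳ P g :=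
  AddMonoidHom.liftOfRightInverse P.mkQ.toAddMonoidHom (Function.surjInv P.mkQ_surjective)
    (Function.rightInverse_surjInv P.mkQ_surjective) ⟨quotDecAux ℳ P, quotDecAux_ker ℳ P hP⟩

theorem quotDec_mk (m : M) : quotDec ℳ P hP (P.mkQ m) = quotDecAux ℳ P m :=
  AddMonoidHom.liftOfRightInverse_comp_apply _ _ _ _ m

/-- the quotient decomposition -/
noncomputable def quotDecomp : Decomposition (quotGr ℳ P) :=
  Decomposition.ofAddHom _ (quotDec ℳ P hP)
    (by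
      apply AddMonoidHom.ext
      intro q
      obtain ⟨m, rfl⟩ := P.mkQ_surjective q
      rw [AddMonoidHom.comp_apply, quotDec_mk, AddMonoidHom.id_apply]
      induction m using DirectSum.Decomposition.inductionOn ℳ with
      | zero => simp
      | @homogeneous i m =>
        rw [quotDecAux_of_mem ℳ P m.2, DirectSum.coeAddMonoidHom_of]
      | add m m' hm hm' =>
        rw [map_add, map_add, hm, hm', map_add])
    (by
      apply DirectSum.addHom_ext
      rintro g ⟨_, ⟨m, hm, rfl⟩⟩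
      rw [AddMonoidHom.comp_apply, DirectSum.coeAddMonoidHom_of, AddMonoidHom.id_apply]
      change quotDec ℳ P hP (P.mkQ m) = _
      rw [quotDec_mk, quotDecAux_of_mem ℳ P hm]
      rfl)

variable [SetLike.GradedSMul 𝒜 ℳ]

omit [Decomposition ℳ] in
theorem quot_gsmul : SetLike.GradedSMul 𝒜 (quotGr ℳ P) where
  smul_mem := by
    rintro h g r _ hr ⟨m, hm, rfl⟩
    refine ⟨r • m, ?_, ?_⟩
    · exact SetLike.GradedSMul.smul_mem (A := 𝒜) (B := ℳ) hr hm
    · exact map_smul P.mkQ r m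

/-- the quotient graded module, bundled -/
noncomputable def quotGMod : GMod.{u} 𝒜 :=
  letI := quotDecomp ℳ P hP
  letI := quot_gsmul 𝒜 ℳ P
  { carrier := M ⧸ P, gr := quotGr ℳ P }

end quot

/-! ### a homogeneous submodule as a graded module -/
section sub

variable {J : Type u} [AddCommGroup J] [Module R J] (𝒥 : ι → AddSubgroup J)
variable (E : Submodule R J)

/-- pieces of the submodule -/
def subGr (g : ι) : AddSubgroup E := (𝒥 g).comap E.subtype.toAddMonoidHom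

theorem mem_subGr {g : ι} {e : E} : e ∈ subGr 𝒥 E g ↔ (e : J) ∈ 𝒥 g := Iff.rfl

theorem subtype_isGrHom : IsGrHom (subGr 𝒥 E) 𝒥 E.subtype := fun _ _ hm => hm

/-- inclusion of pieces -/
def subComp (g : ι) : subGr 𝒥 E g →+ 𝒥 g where
  toFun x := ⟨((x : E) : J), x.2⟩
  map_zero' := rfl
  map_add' _ _ := rfl

theorem subComp_injective (g : ι) : Function.Injective (subComp 𝒥 E g) := by
  intro x y h
  apply Subtype.ext
  apply Subtype.ext
  exact congrArg (fun z : 𝒥 g => (z : J)) h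

variable [Decomposition 𝒥] (hE : E.IsHomogeneous 𝒥)

theorem sub_coe_comm (x : ⨁ g, subGr 𝒥 E g) :
    ((DirectSum.coeAddMonoidHom (subGr 𝒥 E) x : E) : J) =
      DirectSum.coeAddMonoidHom 𝒥 (DirectSum.map (subComp 𝒥 E) x) := by
  induction x using DirectSum.induction_on with
  | zero => simp
  | of g y =>
    rw [DirectSum.coeAddMonoidHom_of, DirectSum.map_of, DirectSum.coeAddMonoidHom_of]
    rfl
  | add x y hx hy =>
    rw [map_add, map_add, map_add, Submodule.coe_add, hx, hy]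

include hE in
theorem sub_isInternal : DirectSum.IsInternal (subGr 𝒥 E) := by
  classical
  constructor
  · rw [injective_iff_map_eq_zero]
    intro x hx
    have h1 := sub_coe_comm 𝒥 E x
    rw [hx, Submodule.coe_zero] at h1
    have h2 : DirectSum.map (subComp 𝒥 E) x = 0 :=
      (Decomposition.isInternal 𝒥).injective (by rw [← h1, map_zero])
    exact (DirectSum.map_injective (subComp 𝒥 E)).2 (subComp_injective 𝒥 E) (by rw [h2, map_zero])
  · intro e
    refine ⟨∑ g ∈ (decompose 𝒥 (e : J)).support,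
      DirectSum.of (fun g => subGr 𝒥 E g) g ⟨⟨(decompose 𝒥 (e : J) g : J), hE g e.2⟩,
        (decompose 𝒥 (e : J) g).2⟩, ?_⟩
    apply Subtype.ext
    rw [map_sum, Submodule.coe_sum]
    conv_rhs => rw [← DirectSum.sum_support_decompose 𝒥 (e : J)]
    refine Finset.sum_congr rfl (fun g _ => ?_)
    rw [DirectSum.coeAddMonoidHom_of]

/-- the decomposition of a homogeneous submodule -/
noncomputable def subDecomp : Decomposition (subGr 𝒥 E) :=
  (sub_isInternal 𝒥 E hE).chooseDecomposition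

variable [SetLike.GradedSMul 𝒜 𝒥]

omit [Decomposition 𝒥] in
theorem sub_gsmul : SetLike.GradedSMul 𝒜 (subGr 𝒥 E) where
  smul_mem := by
    intro h g r e hr he
    exact SetLike.GradedSMul.smul_mem (A := 𝒜) (B := 𝒥) hr he

end sub

/-! ### coinduced graded modules -/
section coind

variable (I : Type u) [AddCommGroup I] [Module R I]

/-- constant family of pieces -/
abbrev topFam : ι → AddSubgroup I := fun _ => ⊤

instance topFam_gsmul : SetLike.GradedSMul 𝒜 (topFam (ι := ι) I) where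
  smul_mem := fun _ _ _ _ _ _ => AddSubgroup.mem_top _

/-- the graded module coinduced from `I` (`𝒜` is a phantom argument fixing the module structure) -/
def Coind (_𝒜 : ι → AddSubgroup R) (I : Type u) [AddCommGroup I] : Type u :=
  ⨁ (i : ι), ↥(topFam (ι := ι) I i)

noncomputable instance : AddCommGroup (Coind 𝒜 I) :=
  inferInstanceAs (AddCommGroup (⨁ (i : ι), ↥(topFam (ι := ι) I i)))

noncomputable instance : Module R (Coind 𝒜 I) :=
  GradedModule.isModule 𝒜 (topFam (ι := ι) I)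

/-- the element `y t^g` -/
noncomputable def cof (g : ι) : I →+ Coind 𝒜 I :=
  (DirectSum.of (fun i : ι => ↥(topFam (ι := ι) I i)) g).comp
    (AddSubgroup.topEquiv (G := I)).symm.toAddMonoidHom

theorem smul_cof {r : R} {h : ι} (hr : r ∈ 𝒜 h) (g : ι) (y : I) :
    r • cof 𝒜 I g y = cof 𝒜 I (h + g) (r • y) := by
  change (decompose 𝒜 r) • (DirectSum.of (fun i : ι => ↥(topFam (ι := ι) I i)) g ⟨y, trivial⟩) = _
  rw [decompose_of_mem 𝒜 hr, DirectSum.Gmodule.of_smul_of]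
  rfl

/-- pieces of the coinduced module -/
noncomputable def coindGr (g : ι) : AddSubgroup (Coind 𝒜 I) := (cof 𝒜 I g).range

theorem cof_mem (g : ι) (y : I) : cof 𝒜 I g y ∈ coindGr 𝒜 I g := ⟨y, rfl⟩

/-- the sum map -/
noncomputable def coindEpsAdd : Coind 𝒜 I →+ I :=
  DirectSum.coeAddMonoidHom (topFam (ι := ι) I)

theorem coindEpsAdd_cof (g : ι) (y : I) : coindEpsAdd 𝒜 I (cof 𝒜 I g y) = y := by
  change DirectSum.coeAddMonoidHom (topFam (ι := ι) I)
    (DirectSum.of (fun i : ι => ↥(topFam (ι := ι) I i)) g ⟨y, trivial⟩) = y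
  rw [DirectSum.coeAddMonoidHom_of]

theorem coind_induction {motive : Coind 𝒜 I → Prop} (x : Coind 𝒜 I) (zero : motive 0)
    (of : ∀ g y, motive (cof 𝒜 I g y)) (add : ∀ x y, motive x → motive y → motive (x + y)) :
    motive x := by
  induction x using DirectSum.induction_on with
  | zero => exact zero
  | of g y => exact of g y.1
  | add x y hx hy => exact add x y hx hy

/-- the sum map, linear -/
noncomputable def coindEps : Coind 𝒜 I →ₗ[R] I where
  toFun := coindEpsAdd 𝒜 I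
  map_add' := map_add _
  map_smul' := by
    intro r x
    rw [RingHom.id_apply]
    induction r using DirectSum.Decomposition.inductionOn 𝒜 with
    | zero => rw [zero_smul, zero_smul, map_zero]
    | @homogeneous h r =>
      induction x using coind_induction 𝒜 I with
      | zero => rw [smul_zero, map_zero, smul_zero]
      | of g y => rw [smul_cof 𝒜 I r.2, coindEpsAdd_cof, coindEpsAdd_cof]
      | add x y hx hy => rw [smul_add, map_add, hx, hy, map_add, smul_add]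
    | add r r' hr hr' => rw [add_smul, map_add, hr, hr', add_smul]

theorem coindEps_cof (g : ι) (y : I) : coindEps 𝒜 I (cof 𝒜 I g y) = y := coindEpsAdd_cof 𝒜 I g y

/-- decomposition map -/
noncomputable def coindDec : Coind 𝒜 I →+ ⨁ g, coindGr 𝒜 I g :=
  DirectSum.toAddMonoid (fun g =>
    (DirectSum.of (fun g => coindGr 𝒜 I g) g).comp
      ((cof 𝒜 I g).rangeRestrict.comp (AddSubgroup.topEquiv (G := I)).toAddMonoidHom))

theorem coindDec_cof (g : ι) (y : I) :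
    coindDec 𝒜 I (cof 𝒜 I g y) = DirectSum.of (fun g => coindGr 𝒜 I g) g ⟨cof 𝒜 I g y, cof_mem 𝒜 I g y⟩ := by
  unfold coindDec
  change DirectSum.toAddMonoid _ (DirectSum.of _ g _) = _
  rw [DirectSum.toAddMonoid_of]
  rfl

noncomputable instance coindDecomp : Decomposition (coindGr 𝒜 I) :=
  Decomposition.ofAddHom _ (coindDec 𝒜 I)
    (by
      apply AddMonoidHom.ext
      intro x
      rw [AddMonoidHom.comp_apply, AddMonoidHom.id_apply]
      induction x using coind_induction 𝒜 I with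
      | zero => simp
      | of g y => rw [coindDec_cof, DirectSum.coeAddMonoidHom_of]
      | add x y hx hy => rw [map_add, map_add, hx, hy])
    (by
      apply DirectSum.addHom_ext
      rintro g ⟨_, ⟨y, rfl⟩⟩
      rw [AddMonoidHom.comp_apply, DirectSum.coeAddMonoidHom_of, AddMonoidHom.id_apply]
      exact coindDec_cof 𝒜 I g y)

instance coind_gsmul : SetLike.GradedSMul 𝒜 (coindGr 𝒜 I) where
  smul_mem := by
    rintro h g r _ hr ⟨y, rfl⟩
    rw [smul_cof 𝒜 I hr]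
    exact cof_mem 𝒜 I _ _

theorem eq_cof_of_mem {g : ι} {x : Coind 𝒜 I} (hx : x ∈ coindGr 𝒜 I g) :
    x = cof 𝒜 I g (coindEps 𝒜 I x) := by
  obtain ⟨y, rfl⟩ := hx
  rw [coindEps_cof]

section coext

variable {N : Type u} [AddCommGroup N] [Module R N] (𝒩 : ι → AddSubgroup N) [Decomposition 𝒩]
  [SetLike.GradedSMul 𝒜 𝒩]

/-- coextension of a linear map to the coinduced module, additive version -/
noncomputable def coextAdd (φ : N →ₗ[R] I) : N →+ Coind 𝒜 I :=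
  (DirectSum.toAddMonoid (fun g => (cof 𝒜 I g).comp (φ.toAddMonoidHom.comp (𝒩 g).subtype))).comp
    (decomposeAddEquiv 𝒩).toAddMonoidHom

theorem coextAdd_of_mem (φ : N →ₗ[R] I) {g : ι} {n : N} (hn : n ∈ 𝒩 g) :
    coextAdd 𝒜 I 𝒩 φ n = cof 𝒜 I g (φ n) := by
  unfold coextAdd
  rw [AddMonoidHom.comp_apply]
  change DirectSum.toAddMonoid _ (decompose 𝒩 n) = _
  rw [decompose_of_mem 𝒩 hn, DirectSum.toAddMonoid_of]
  rfl

/-- coextension of a linear map to the coinduced module -/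
noncomputable def coext (φ : N →ₗ[R] I) : N →ₗ[R] Coind 𝒜 I where
  toFun := coextAdd 𝒜 I 𝒩 φ
  map_add' := map_add _
  map_smul' := by
    intro r x
    rw [RingHom.id_apply]
    induction r using DirectSum.Decomposition.inductionOn 𝒜 with
    | zero => rw [zero_smul, zero_smul, map_zero]
    | @homogeneous h r =>
      induction x using DirectSum.Decomposition.inductionOn 𝒩 with
      | zero => rw [smul_zero, map_zero, smul_zero]
      | @homogeneous g n =>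
        rw [coextAdd_of_mem 𝒜 I 𝒩 φ (smul_mem_gr 𝒜 𝒩 r.2 n.2), coextAdd_of_mem 𝒜 I 𝒩 φ n.2,
          smul_cof 𝒜 I r.2, map_smul]
      | add x y hx hy => rw [smul_add, map_add, hx, hy, map_add, smul_add]
    | add r r' hr hr' => rw [add_smul, map_add, hr, hr', add_smul]

theorem coext_of_mem (φ : N →ₗ[R] I) {g : ι} {n : N} (hn : n ∈ 𝒩 g) :
    coext 𝒜 I 𝒩 φ n = cof 𝒜 I g (φ n) := coextAdd_of_mem 𝒜 I 𝒩 φ hn

theorem coext_isGrHom (φ : N →ₗ[R] I) : IsGrHom 𝒩 (coindGr 𝒜 I) (coext 𝒜 I 𝒩 φ) := by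
  intro g n hn
  rw [coext_of_mem 𝒜 I 𝒩 φ hn]
  exact cof_mem 𝒜 I _ _

theorem eps_coext (φ : N →ₗ[R] I) : coindEps 𝒜 I ∘ₗ coext 𝒜 I 𝒩 φ = φ := by
  ext n
  rw [LinearMap.comp_apply]
  induction n using DirectSum.Decomposition.inductionOn 𝒩 with
  | zero => simp
  | @homogeneous g n => rw [coext_of_mem 𝒜 I 𝒩 φ n.2, coindEps_cof]
  | add x y hx hy => rw [map_add, map_add, hx, hy, map_add]

theorem eq_coext {Ψ : N →ₗ[R] Coind 𝒜 I} (hΨ : IsGrHom 𝒩 (coindGr 𝒜 I) Ψ) :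
    Ψ = coext 𝒜 I 𝒩 (coindEps 𝒜 I ∘ₗ Ψ) := by
  ext n
  induction n using DirectSum.Decomposition.inductionOn 𝒩 with
  | zero => simp
  | @homogeneous g n =>
    rw [coext_of_mem 𝒜 I 𝒩 _ n.2, LinearMap.comp_apply]
    exact eq_cof_of_mem 𝒜 I (hΨ g n n.2)
  | add x y hx hy => rw [map_add, map_add, hx, hy]

theorem coext_injective (φ : N →ₗ[R] I) (hφ : Function.Injective φ) :
    Function.Injective (coext 𝒜 I 𝒩 φ) := by
  rw [injective_iff_map_eq_zero]
  intro n hn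
  by_contra hn0
  obtain ⟨g, hg⟩ := exists_decompose_ne_zero 𝒩 hn0
  apply hg
  apply hφ
  rw [map_zero]
  have h1 := decompose_map 𝒩 (coindGr 𝒜 I) (coext_isGrHom 𝒜 I 𝒩 φ) n g
  rw [hn, decompose_zero, DirectSum.zero_apply, ZeroMemClass.coe_zero,
    coext_of_mem 𝒜 I 𝒩 φ (decompose 𝒩 n g).2] at h1
  have h2 := congrArg (coindEps 𝒜 I) h1
  rw [coindEps_cof, map_zero] at h2
  exact h2.symm

end coext

/-- the coinduced module of an injective module is *injective -/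
theorem coind_starInj [Module.Injective R I] : IsStarInj 𝒜 (coindGr 𝒜 I) := by
  intro A B f hf hinj g hg
  obtain ⟨φ, hφ⟩ := Module.Injective.out f hinj (coindEps 𝒜 I ∘ₗ g)
  refine ⟨coext 𝒜 I B.gr φ, coext_isGrHom 𝒜 I B.gr φ, ?_⟩
  have hgr : IsGrHom A.gr (coindGr 𝒜 I) (coext 𝒜 I B.gr φ ∘ₗ f) := by
    intro i a ha
    exact coext_isGrHom 𝒜 I B.gr φ i _ (hf i a ha)
  rw [eq_coext 𝒜 I A.gr hgr, eq_coext 𝒜 I A.gr hg]
  congr 1
  ext a
  rw [LinearMap.comp_apply, LinearMap.comp_apply, LinearMap.comp_apply]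
  have := LinearMap.congr_fun (eps_coext 𝒜 I B.gr φ) (f a)
  rw [LinearMap.comp_apply] at this
  rw [this, hφ, LinearMap.comp_apply]

end coind

/-! ### enough *injectives and *injective hulls -/
section hull

theorem exists_injective_embedding (M : Type u) [AddCommGroup M] [Module R M] :
    ∃ (I : Type u) (_ : AddCommGroup I) (_ : Module R I) (_ : Module.Injective R I)
      (e : M →ₗ[R] I), Function.Injective e := by
  obtain ⟨X, hX⟩ : ∃ X : ModuleCat.{u} R, X = CategoryTheory.Injective.under (ModuleCat.of R M) :=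
    ⟨_, rfl⟩
  have hXinj : CategoryTheory.Injective X := hX ▸ inferInstance
  refine ⟨(X : Type u), inferInstance, inferInstance, ?_,
    (hX ▸ CategoryTheory.Injective.ι (ModuleCat.of R M) : ModuleCat.of R M ⟶ X).hom, ?_⟩
  · exact Module.injective_module_of_injective_object R X
  · subst hX
    exact (ModuleCat.mono_iff_injective _).1 inferInstance

variable {J : Type u} [AddCommGroup J] [Module R J] (𝒥 : ι → AddSubgroup J) [Decomposition 𝒥]

omit [GradedRing 𝒜] in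
theorem isHomogeneous_inf {P Q : Submodule R J} (hP : P.IsHomogeneous 𝒥) (hQ : Q.IsHomogeneous 𝒥) :
    (P ⊓ Q).IsHomogeneous 𝒥 := fun g _ hx => ⟨hP g hx.1, hQ g hx.2⟩

omit [GradedRing 𝒜] in
theorem isHomogeneous_bot : (⊥ : Submodule R J).IsHomogeneous 𝒥 := by
  intro g x hx
  rw [Submodule.mem_bot] at hx
  rw [hx, decompose_zero, DirectSum.zero_apply, ZeroMemClass.coe_zero]
  exact Submodule.zero_mem _

omit [GradedRing 𝒜] in
theorem isHomogeneous_sSup_chain {c : Set (Submodule R J)} (hc : IsChain (· ≤ ·) c)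
    (hne : c.Nonempty) (h : ∀ P ∈ c, P.IsHomogeneous 𝒥) : (sSup c).IsHomogeneous 𝒥 := by
  intro g x hx
  rw [Submodule.mem_sSup_of_directed hne hc.directedOn] at hx ⊢
  obtain ⟨y, hy, hxy⟩ := hx
  exact ⟨y, hy, h y hy g hxy⟩

omit [GradedRing 𝒜] in
theorem exists_homog_mem_ne_zero {P : Submodule R J} (hP : P.IsHomogeneous 𝒥) (hP0 : P ≠ ⊥) :
    ∃ (g : ι) (x : J), x ∈ P ∧ x ∈ 𝒥 g ∧ x ≠ 0 := by
  obtain ⟨x, hx, hx0⟩ := Submodule.exists_mem_ne_zero_of_ne_bot hP0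
  obtain ⟨g, hg⟩ := exists_decompose_ne_zero 𝒥 hx0
  exact ⟨g, _, hP g hx, (decompose 𝒥 x g).2, hg⟩

/-- `E` is a *essential extension of `M'` inside `J` -/
def EssIn (M' E : Submodule R J) : Prop :=
  M' ≤ E ∧ ∀ P : Submodule R J, P ≤ E → P.IsHomogeneous 𝒥 → P ≠ ⊥ → P ⊓ M' ≠ ⊥

variable [SetLike.GradedSMul 𝒜 𝒥]

include 𝒜 in
theorem exists_max_ess (M' : Submodule R J) (hM' : M'.IsHomogeneous 𝒥) :
    ∃ E : Submodule R J, M' ≤ E ∧
      Maximal (fun E : Submodule R J => E.IsHomogeneous 𝒥 ∧ EssIn 𝒥 M' E) E := by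
  have h0 : M' ∈ {E : Submodule R J | E.IsHomogeneous 𝒥 ∧ EssIn 𝒥 M' E} := by
    refine ⟨hM', le_refl _, fun P hP _ hP0 => ?_⟩
    rwa [inf_eq_left.2 hP]
  refine zorn_le_nonempty₀ _ (fun c hcs hc y hy => ?_) M' h0
  refine ⟨sSup c, ⟨isHomogeneous_sSup_chain 𝒥 hc ⟨y, hy⟩ (fun P hP => (hcs hP).1), ?_, ?_⟩,
    fun z hz => le_sSup hz⟩
  · exact (hcs hy).2.1.trans (le_sSup hy)
  · intro P hPle hP hP0 hbot
    obtain ⟨g, x, hxP, hxg, hx0⟩ := exists_homog_mem_ne_zero 𝒥 hP hP0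
    have hx : x ∈ sSup c := hPle hxP
    rw [Submodule.mem_sSup_of_directed ⟨y, hy⟩ hc.directedOn] at hx
    obtain ⟨E', hE', hxE'⟩ := hx
    have hspan0 : Submodule.span R {x} ≠ ⊥ := by
      intro h
      apply hx0
      have : x ∈ Submodule.span R {x} := Submodule.mem_span_singleton_self x
      rw [h] at this
      simpa using this
    have h1 := (hcs hE').2.2 (Submodule.span R {x})
      ((Submodule.span_singleton_le_iff_mem x E').2 hxE')
      (span_singleton_isHomogeneous 𝒜 𝒥 hxg) hspan0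
    apply h1
    rw [eq_bot_iff, ← hbot]
    exact inf_le_inf_right _ ((Submodule.span_singleton_le_iff_mem x P).2 hxP)

omit [SetLike.GradedSMul 𝒜 𝒥] [GradedRing 𝒜] in
theorem exists_max_compl (E : Submodule R J) :
    ∃ K : Submodule R J, Maximal (fun K : Submodule R J => K.IsHomogeneous 𝒥 ∧ K ⊓ E = ⊥) K := by
  have h0 : (⊥ : Submodule R J) ∈ {K : Submodule R J | K.IsHomogeneous 𝒥 ∧ K ⊓ E = ⊥} :=
    ⟨isHomogeneous_bot 𝒥, bot_inf_eq _⟩
  suffices ih : ∀ c ⊆ {K : Submodule R J | K.IsHomogeneous 𝒥 ∧ K ⊓ E = ⊥}, IsChain (· ≤ ·) c →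
      ∀ y ∈ c, ∃ ub ∈ {K : Submodule R J | K.IsHomogeneous 𝒥 ∧ K ⊓ E = ⊥}, ∀ z ∈ c, z ≤ ub by
    obtain ⟨K, _, hK⟩ := zorn_le_nonempty₀ _ ih ⊥ h0
    exact ⟨K, hK⟩
  intro c hcs hc y hy
  refine ⟨sSup c, ⟨isHomogeneous_sSup_chain 𝒥 hc ⟨y, hy⟩ (fun P hP => (hcs hP).1), ?_⟩,
    fun z hz => le_sSup hz⟩
  rw [eq_bot_iff]
  rintro x ⟨hx1, hx2⟩
  rw [SetLike.mem_coe, Submodule.mem_sSup_of_directed ⟨y, hy⟩ hc.directedOn] at hx1
  obtain ⟨K', hK', hxK'⟩ := hx1
  rw [← (hcs hK').2]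
  exact ⟨hxK', hx2⟩

variable {M : Type u} [AddCommGroup M] [Module R M] (ℳ : ι → AddSubgroup M) [Decomposition ℳ]
  [SetLike.GradedSMul 𝒜 ℳ]

theorem exists_hull_aux (hJ : IsStarInj 𝒜 𝒥) (η : M →ₗ[R] J) (hη : IsGrHom ℳ 𝒥 η)
    (hinj : Function.Injective η) :
    ∃ (K : Submodule R J) (hK : K.IsHomogeneous 𝒥),
      letI := quotDecomp 𝒥 K hK
      letI := quot_gsmul 𝒜 𝒥 K
      IsStarInjHull 𝒜 ℳ (quotGr 𝒥 K) (K.mkQ ∘ₗ η) := by
  classical
  obtain ⟨M', hM'def⟩ : ∃ M' : Submodule R J, M' = LinearMap.range η := ⟨_, rfl⟩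
  have hM'hom : M'.IsHomogeneous 𝒥 := hM'def ▸ range_isHomogeneous ℳ 𝒥 hη
  obtain ⟨E, hME, hEmax⟩ := exists_max_ess 𝒜 𝒥 M' hM'hom
  obtain ⟨hEhom, hEess⟩ := hEmax.prop
  obtain ⟨K, hKmax⟩ := exists_max_compl 𝒥 E
  obtain ⟨hKhom, hKE⟩ := hKmax.prop
  refine ⟨K, hKhom, ?_⟩
  letI := quotDecomp 𝒥 K hKhom
  letI := quot_gsmul 𝒜 𝒥 K
  letI := subDecomp 𝒥 E hEhom
  letI := sub_gsmul 𝒜 𝒥 E
  obtain ⟨φ, hφdef⟩ : ∃ φ : E →ₗ[R] J ⧸ K, φ = K.mkQ ∘ₗ E.subtype := ⟨_, rfl⟩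
  have hφapp : ∀ e : E, φ e = K.mkQ (e : J) := fun e => by rw [hφdef]; rfl
  have hφgr : IsGrHom (subGr 𝒥 E) (quotGr 𝒥 K) φ := by
    intro g e he
    rw [hφapp]
    exact mk_mem_quotGr 𝒥 K he
  have hmk0 : ∀ x : J, K.mkQ x = 0 → x ∈ E → x = 0 := by
    intro x hx hxE
    rw [Submodule.mkQ_apply, Submodule.Quotient.mk_eq_zero] at hx
    have : x ∈ K ⊓ E := ⟨hx, hxE⟩
    rw [hKE] at this
    simpa using this
  have hφinj : Function.Injective φ := by
    rw [injective_iff_map_eq_zero]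
    intro e he
    rw [hφapp] at he
    exact Subtype.ext (hmk0 _ he e.2)
  have key : ∀ P : Submodule R (J ⧸ K), P.IsHomogeneous (quotGr 𝒥 K) → P ≠ ⊥ →
      (P.comap K.mkQ) ⊓ E ≠ ⊥ := by
    intro P hP hP0 hbot
    have h1 : (P.comap K.mkQ).IsHomogeneous 𝒥 :=
      comap_isHomogeneous 𝒥 (quotGr 𝒥 K) (mkQ_isGrHom 𝒥 K) hP
    have h2 : K ≤ P.comap K.mkQ := by
      intro k hk
      rw [Submodule.mem_comap, Submodule.mkQ_apply, (Submodule.Quotient.mk_eq_zero K).2 hk]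
      exact P.zero_mem
    have h3 : P.comap K.mkQ ≤ K := hKmax.le_of_ge ⟨h1, hbot⟩ h2
    apply hP0
    rw [eq_bot_iff]
    intro q hq
    obtain ⟨j, rfl⟩ := K.mkQ_surjective q
    have : j ∈ K := h3 hq
    rw [Submodule.mem_bot, Submodule.mkQ_apply, Submodule.Quotient.mk_eq_zero]
    exact this
  have hφess : IsStarEss (subGr 𝒥 E) (quotGr 𝒥 K) φ := by
    refine ⟨hφinj, hφgr, fun P hP hP0 hbot => ?_⟩
    apply key P hP hP0
    rw [eq_bot_iff]
    rintro e ⟨he1, he2⟩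
    have : K.mkQ e ∈ P ⊓ LinearMap.range φ := ⟨he1, ⟨⟨e, he2⟩, hφapp _⟩⟩
    rw [hbot, Submodule.mem_bot] at this
    rw [Submodule.mem_bot]
    exact hmk0 e this he2
  obtain ⟨ψ, hψgr, hψ⟩ := starInj_ext 𝒜 (subGr 𝒥 E) (quotGr 𝒥 K) hJ φ hφgr hφinj E.subtype
    (subtype_isGrHom 𝒥 E)
  have hψφ : ∀ e : E, ψ (φ e) = (e : J) := fun e => LinearMap.congr_fun hψ e
  have hψinj : Function.Injective ψ := by
    apply injective_of_ess_of_comp (𝓛 := quotGr 𝒥 K) (𝓛' := 𝒥) hφess hψgr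
    rw [hψ]
    exact E.injective_subtype
  have hEle : E ≤ LinearMap.range ψ := fun e he => ⟨φ ⟨e, he⟩, hψφ ⟨e, he⟩⟩
  have hrange : LinearMap.range ψ ≤ E := by
    refine hEmax.le_of_ge ⟨range_isHomogeneous (quotGr 𝒥 K) 𝒥 hψgr, hME.trans hEle, ?_⟩ hEle
    intro P hPle hP hP0
    have hP1 : (P.comap ψ).IsHomogeneous (quotGr 𝒥 K) :=
      comap_isHomogeneous (quotGr 𝒥 K) 𝒥 hψgr hP
    have hP10 : P.comap ψ ≠ ⊥ := by
      obtain ⟨p, hp, hp0⟩ := Submodule.exists_mem_ne_zero_of_ne_bot hP0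
      obtain ⟨q, rfl⟩ := hPle hp
      intro hb
      have : q ∈ P.comap ψ := hp
      rw [hb, Submodule.mem_bot] at this
      exact hp0 (by rw [this, map_zero])
    have h4 := hφess.essential _ hP1 hP10
    obtain ⟨q, hq, hq0⟩ := Submodule.exists_mem_ne_zero_of_ne_bot h4
    obtain ⟨hq1, ⟨e, rfl⟩⟩ := hq
    have he0 : (e : J) ≠ 0 := by
      intro h
      apply hq0
      rw [show e = 0 from Subtype.ext h, map_zero]
    have heP : (e : J) ∈ P := by
      have := hq1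
      rw [SetLike.mem_coe, Submodule.mem_comap, hψφ] at this
      exact this
    have h5 := hEess.2 (P ⊓ E) inf_le_right (isHomogeneous_inf 𝒥 hP hEhom) (by
      intro hb
      have : (e : J) ∈ P ⊓ E := ⟨heP, e.2⟩
      rw [hb] at this
      exact he0 (by simpa using this))
    intro hb
    apply h5
    rw [eq_bot_iff, ← hb]
    exact fun x hx => ⟨hx.1.1, hx.2⟩
  have hdecomp : ∀ j : J, ∃ e : E, K.mkQ j = φ e := by
    intro j
    have : ψ (K.mkQ j) ∈ E := hrange ⟨_, rfl⟩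
    refine ⟨⟨_, this⟩, hψinj ?_⟩
    rw [hψφ]
  have hπψ : ∀ q : J ⧸ K, K.mkQ (ψ q) = q := by
    intro q
    obtain ⟨j, rfl⟩ := K.mkQ_surjective q
    obtain ⟨e, he⟩ := hdecomp j
    rw [he, hψφ, hφapp]
  have hηE : ∀ m, η m ∈ E := fun m => hME (hM'def ▸ ⟨m, rfl⟩)
  refine ⟨⟨?_, ?_, ?_⟩, ?_⟩
  · -- injective
    rw [injective_iff_map_eq_zero]
    intro m hm
    rw [LinearMap.comp_apply] at hm
    exact hinj (by rw [hmk0 _ hm (hηE m), map_zero])
  · intro g m hm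
    rw [LinearMap.comp_apply]
    exact mk_mem_quotGr 𝒥 K (hη g m hm)
  · intro P hP hP0
    have h6 := key P hP hP0
    have h7 := hEess.2 ((P.comap K.mkQ) ⊓ E) inf_le_right
      (isHomogeneous_inf 𝒥 (comap_isHomogeneous 𝒥 (quotGr 𝒥 K) (mkQ_isGrHom 𝒥 K) hP) hEhom) h6
    obtain ⟨x, hx, hx0⟩ := Submodule.exists_mem_ne_zero_of_ne_bot h7
    obtain ⟨⟨hx1, hx2⟩, hx3⟩ := hx
    rw [hM'def] at hx3
    obtain ⟨m, rfl⟩ := hx3
    intro hb
    have : K.mkQ (η m) ∈ P ⊓ LinearMap.range (K.mkQ ∘ₗ η) := ⟨hx1, ⟨m, rfl⟩⟩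
    rw [hb, Submodule.mem_bot] at this
    exact hx0 (hmk0 _ this hx2)
  · -- *injective
    intro A B f' hf' hinj' g hg
    have hg' : IsGrHom A.gr 𝒥 (ψ ∘ₗ g) := fun i a ha => hψgr i _ (hg i a ha)
    obtain ⟨h, hhgr, hh⟩ := hJ A B f' hf' hinj' (ψ ∘ₗ g) hg'
    refine ⟨K.mkQ ∘ₗ h, fun i b hb => mk_mem_quotGr 𝒥 K (hhgr i b hb), ?_⟩
    rw [LinearMap.comp_assoc, hh]
    ext a
    rw [LinearMap.comp_apply, LinearMap.comp_apply, hπψ]

theorem exists_starInj_embedding :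
    ∃ (X : GMod.{u} 𝒜) (i : M →ₗ[R] X.carrier), IsGrHom ℳ X.gr i ∧ Function.Injective i ∧
      IsStarInj 𝒜 X.gr := by
  obtain ⟨I, _, _, _, e, he⟩ := exists_injective_embedding (R := R) M
  exact ⟨GMod.of 𝒜 (Coind 𝒜 I) (coindGr 𝒜 I), coext 𝒜 I ℳ e, coext_isGrHom 𝒜 I ℳ e,
    coext_injective 𝒜 I ℳ e he, coind_starInj 𝒜 I⟩

theorem exists_hull :
    ∃ (E : GMod.{u} 𝒜) (f : M →ₗ[R] E.carrier), IsStarInjHull 𝒜 ℳ E.gr f := by
  obtain ⟨I, _, _, _, e, he⟩ := exists_injective_embedding (R := R) M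
  obtain ⟨K, hK, h⟩ := exists_hull_aux 𝒜 (coindGr 𝒜 I) ℳ (coind_starInj 𝒜 I) (coext 𝒜 I ℳ e)
    (coext_isGrHom 𝒜 I ℳ e) (coext_injective 𝒜 I ℳ e he)
  exact ⟨quotGMod 𝒜 (coindGr 𝒜 I) K hK, _, h⟩

end hull

/-! ### main results -/
section mains

variable {M : Type u} [AddCommGroup M] [Module R M] (ℳ : ι → AddSubgroup M) [Decomposition ℳ]
  [SetLike.GradedSMul 𝒜 ℳ]

omit [GradedRing 𝒜] [SetLike.GradedSMul 𝒜 ℳ] in
theorem mem_of_map_mem {N : Type u} [AddCommGroup N] [Module R N] (𝒩 : ι → AddSubgroup N)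
    [Decomposition 𝒩] {f : M →ₗ[R] N} (hf : IsGrHom ℳ 𝒩 f) (hinj : Function.Injective f)
    {m : M} {g : ι} (h : f m ∈ 𝒩 g) : m ∈ ℳ g := by
  have h1 := decompose_map ℳ 𝒩 hf m g
  rw [decompose_of_mem_same 𝒩 h] at h1
  rw [hinj h1]
  exact (decompose ℳ m g).2

theorem main13212 :
    IsStarInj 𝒜 ℳ ↔ ∀ (N : GMod.{u} 𝒜) (f : M →ₗ[R] N.carrier), IsStarEss ℳ N.gr f →
      Function.Surjective f := by
  constructor
  · intro hM N f hf
    obtain ⟨h, hhgr, hh⟩ := starInj_ext 𝒜 ℳ N.gr hM f hf.grHom hf.injective LinearMap.id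
      (fun _ _ hm => hm)
    have hhinj : Function.Injective h := by
      apply injective_of_ess_of_comp (𝓛 := N.gr) (𝓛' := ℳ) hf hhgr
      rw [hh]
      exact fun _ _ h => h
    intro n
    refine ⟨h n, hhinj ?_⟩
    have := LinearMap.congr_fun hh (h n)
    rw [LinearMap.comp_apply, LinearMap.id_apply] at this
    exact this
  · intro hall
    obtain ⟨E, f, hE⟩ := exists_hull 𝒜 ℳ
    have hsurj := hall E f hE.toIsStarEss
    intro A B f' hf' hinj' g hg
    have hg' : IsGrHom A.gr E.gr (f ∘ₗ g) := fun i a ha => hE.grHom i _ (hg i a ha)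
    obtain ⟨h, hhgr, hh⟩ := hE.starInj A B f' hf' hinj' (f ∘ₗ g) hg'
    obtain ⟨e, he⟩ : ∃ e : M ≃ₗ[R] E.carrier, ∀ m, e m = f m :=
      ⟨LinearEquiv.ofBijective f ⟨hE.injective, hsurj⟩, fun _ => rfl⟩
    refine ⟨e.symm.toLinearMap ∘ₗ h, ?_, ?_⟩
    · intro i b hb
      rw [LinearMap.comp_apply]
      apply mem_of_map_mem ℳ E.gr hE.grHom hE.injective
      rw [← he, LinearEquiv.coe_coe, LinearEquiv.apply_symm_apply]
      exact hhgr i b hb
    · ext a
      rw [LinearMap.comp_apply, LinearMap.comp_apply]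
      have := LinearMap.congr_fun hh a
      rw [LinearMap.comp_apply, LinearMap.comp_apply, ← he] at this
      rw [this, LinearEquiv.coe_coe, LinearEquiv.symm_apply_apply]

theorem main13213 (I : Type u) [AddCommGroup I] [Module R I] [Module.Injective R I]
    (e : M →ₗ[R] I) (he : Function.Injective e) :
    ∃ (E : GMod.{u} 𝒜) (f : M →ₗ[R] E.carrier), IsStarInjHull 𝒜 ℳ E.gr f ∧
      ∃ j : E.carrier →ₗ[R] I, Function.Injective j ∧ j ∘ₗ f = e := by
  obtain ⟨E, f, hE⟩ := exists_hull 𝒜 ℳ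
  refine ⟨E, f, hE, ?_⟩
  have hess := main13211 𝒜 ℳ E.gr hE.toIsStarEss
  obtain ⟨j, hj⟩ := Module.Injective.extension_property R I M E.carrier f hE.injective e
  refine ⟨j, ?_, hj⟩
  rw [← LinearMap.ker_eq_bot]
  by_contra h0
  apply hess.essential _ h0
  rw [eq_bot_iff]
  rintro y ⟨hy1, ⟨m, rfl⟩⟩
  rw [SetLike.mem_coe, LinearMap.mem_ker] at hy1
  have h1 := LinearMap.congr_fun hj m
  rw [LinearMap.comp_apply, hy1] at h1
  have : m = 0 := he (by rw [← h1, map_zero])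
  rw [this, map_zero]
  exact Submodule.zero_mem _

/-! #### resolutions -/

theorem exists_emb (C : GMod.{u} 𝒜) :
    ∃ (X : GMod.{u} 𝒜) (i : C.carrier →ₗ[R] X.carrier), IsGrHom C.gr X.gr i ∧
      Function.Injective i ∧ IsStarInj 𝒜 X.gr :=
  exists_starInj_embedding 𝒜 C.gr

/-- chosen *injective module containing `C` -/
noncomputable def embX (C : GMod.{u} 𝒜) : GMod.{u} 𝒜 := (exists_emb 𝒜 C).choose

/-- chosen embedding -/
noncomputable def embι (C : GMod.{u} 𝒜) : C.carrier →ₗ[R] (embX 𝒜 C).carrier :=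
  (exists_emb 𝒜 C).choose_spec.choose

theorem embι_grHom (C : GMod.{u} 𝒜) : IsGrHom C.gr (embX 𝒜 C).gr (embι 𝒜 C) :=
  (exists_emb 𝒜 C).choose_spec.choose_spec.1

theorem embι_injective (C : GMod.{u} 𝒜) : Function.Injective (embι 𝒜 C) :=
  (exists_emb 𝒜 C).choose_spec.choose_spec.2.1

theorem embX_starInj (C : GMod.{u} 𝒜) : IsStarInj 𝒜 (embX 𝒜 C).gr :=
  (exists_emb 𝒜 C).choose_spec.choose_spec.2.2

/-- the cokernel of the chosen embedding -/
noncomputable def cokerG (C : GMod.{u} 𝒜) : GMod.{u} 𝒜 :=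
  quotGMod 𝒜 (embX 𝒜 C).gr (LinearMap.range (embι 𝒜 C))
    (range_isHomogeneous C.gr (embX 𝒜 C).gr (embι_grHom 𝒜 C))

/-- the projection to the cokernel -/
noncomputable def cokerπ (C : GMod.{u} 𝒜) : (embX 𝒜 C).carrier →ₗ[R] (cokerG 𝒜 C).carrier :=
  (LinearMap.range (embι 𝒜 C)).mkQ

theorem cokerπ_grHom (C : GMod.{u} 𝒜) : IsGrHom (embX 𝒜 C).gr (cokerG 𝒜 C).gr (cokerπ 𝒜 C) :=
  mkQ_isGrHom (embX 𝒜 C).gr _

theorem cokerπ_surjective (C : GMod.{u} 𝒜) : Function.Surjective (cokerπ 𝒜 C) :=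
  Submodule.mkQ_surjective _

theorem cokerπ_ker (C : GMod.{u} 𝒜) : LinearMap.ker (cokerπ 𝒜 C) = LinearMap.range (embι 𝒜 C) :=
  Submodule.ker_mkQ _

/-- the successive cokernels -/
noncomputable def resC (C₀ : GMod.{u} 𝒜) : ℕ → GMod.{u} 𝒜
  | 0 => C₀
  | n + 1 => cokerG 𝒜 (resC C₀ n)

/-- one step of the differential -/
noncomputable def stepD (C : GMod.{u} 𝒜) :
    (embX 𝒜 C).carrier →ₗ[R] (embX 𝒜 (cokerG 𝒜 C)).carrier :=
  embι 𝒜 (cokerG 𝒜 C) ∘ₗ cokerπ 𝒜 C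

theorem stepD_grHom (C : GMod.{u} 𝒜) : IsGrHom (embX 𝒜 C).gr (embX 𝒜 (cokerG 𝒜 C)).gr (stepD 𝒜 C) :=
  fun i x hx => embι_grHom 𝒜 _ i _ (cokerπ_grHom 𝒜 _ i x hx)

theorem stepD_ker (C : GMod.{u} 𝒜) :
    LinearMap.ker (stepD 𝒜 C) = LinearMap.range (embι 𝒜 C) := by
  unfold stepD
  rw [LinearMap.ker_comp_of_ker_eq_bot _ (LinearMap.ker_eq_bot.2 (embι_injective 𝒜 _))]
  exact cokerπ_ker 𝒜 _

theorem stepD_range (C : GMod.{u} 𝒜) :
    LinearMap.range (stepD 𝒜 C) = LinearMap.range (embι 𝒜 (cokerG 𝒜 C)) := by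
  unfold stepD
  exact LinearMap.range_comp_of_range_eq_top _ (LinearMap.range_eq_top.2 (cokerπ_surjective 𝒜 _))

theorem main13215 : Nonempty (StarInjRes 𝒜 ℳ) := by
  exact ⟨{
    X := fun n => embX 𝒜 (resC 𝒜 (GMod.of 𝒜 M ℳ) n)
    d := fun n => stepD 𝒜 (resC 𝒜 (GMod.of 𝒜 M ℳ) n)
    ε := embι 𝒜 (GMod.of 𝒜 M ℳ)
    d_grHom := fun n => stepD_grHom 𝒜 (resC 𝒜 (GMod.of 𝒜 M ℳ) n)
    ε_grHom := embι_grHom 𝒜 (GMod.of 𝒜 M ℳ)
    ε_injective := embι_injective 𝒜 (GMod.of 𝒜 M ℳ)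
    exact_zero := stepD_ker 𝒜 (GMod.of 𝒜 M ℳ)
    exact_succ := fun n => (stepD_ker 𝒜 (resC 𝒜 (GMod.of 𝒜 M ℳ) (n + 1))).trans
      (stepD_range 𝒜 (resC 𝒜 (GMod.of 𝒜 M ℳ) n)).symm
    starInj := fun n => embX_starInj 𝒜 _ }⟩

end mains

end Groth.Agent.Lib.GrStar2H1
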