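import Mathlib
import Groth.Prelude.Def_GrLC
import Groth.Prelude.Def_Wider
import Groth.Agent.Lib.GrStar_helper1
import Groth.Agent.Lib.GrStar2_helper1

/-! Graded modules: shifts, *injective hulls of `R/p`, direct summands (helper1). -/

set_option autoImplicit false

namespace Groth.Agent.Lib.GrStar3H1

open DirectSum GrLC Groth.Agent.Lib.GrStarH1 Groth.Agent.Lib.GrStar2H1

universe u

variable {ι : Type} [AddCommGroup ι] [DecidableEq ι]
variable {R : Type u} [CommRing R] (𝒜 : ι → AddSubgroup R) [GradedRing 𝒜]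

/-! ### shifts -/
section shift

variable {E : Type u} [AddCommGroup E] [Module R E] (𝓔 : ι → AddSubgroup E) (g : ι)

/-- the shifted family -/
def shiftGr : ι → AddSubgroup E := fun k => 𝓔 (g + k)

theorem shift_le (j : ι) : 𝓔 j ≤ shiftGr 𝓔 g (j - g) := by
  unfold shiftGr
  rw [add_sub_cancel]

variable [Decomposition 𝓔]

/-- decomposition map of the shift -/
noncomputable def shiftDec : E →+ ⨁ k, shiftGr 𝓔 g k :=
  (DirectSum.toAddMonoid (fun j => (DirectSum.of (fun k => shiftGr 𝓔 g k) (j - g)).comp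
    (AddSubgroup.inclusion (shift_le 𝓔 g j)))).comp (decomposeAddEquiv 𝓔).toAddMonoidHom

theorem shiftDec_of_mem {j : ι} {x : E} (hx : x ∈ 𝓔 j) :
    shiftDec 𝓔 g x = DirectSum.of (fun k => shiftGr 𝓔 g k) (j - g) ⟨x, shift_le 𝓔 g j hx⟩ := by
  unfold shiftDec
  rw [AddMonoidHom.comp_apply]
  change DirectSum.toAddMonoid _ (decompose 𝓔 x) = _
  rw [decompose_of_mem 𝓔 hx, DirectSum.toAddMonoid_of]
  rfl

omit [Decomposition 𝓔] in
theorem of_shift_congr {k k' : ι} (h : k = k') (y : E) (hy : y ∈ shiftGr 𝓔 g k)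
    (hy' : y ∈ shiftGr 𝓔 g k') :
    DirectSum.of (fun k => shiftGr 𝓔 g k) k ⟨y, hy⟩ = DirectSum.of (fun k => shiftGr 𝓔 g k) k' ⟨y, hy'⟩ := by
  subst h
  rfl

/-- the shifted decomposition -/
noncomputable def shiftDecomp : Decomposition (shiftGr 𝓔 g) :=
  Decomposition.ofAddHom _ (shiftDec 𝓔 g)
    (by
      apply AddMonoidHom.ext
      intro x
      rw [AddMonoidHom.comp_apply, AddMonoidHom.id_apply]
      induction x using DirectSum.Decomposition.inductionOn 𝓔 with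
      | zero => simp
      | @homogeneous i m => rw [shiftDec_of_mem 𝓔 g m.2, DirectSum.coeAddMonoidHom_of]
      | add m m' hm hm' => rw [map_add, map_add, hm, hm'])
    (by
      apply DirectSum.addHom_ext
      rintro k ⟨y, hy⟩
      rw [AddMonoidHom.comp_apply, DirectSum.coeAddMonoidHom_of, AddMonoidHom.id_apply]
      have hy' : y ∈ 𝓔 (g + k) := hy
      rw [shiftDec_of_mem 𝓔 g hy']
      exact of_shift_congr 𝓔 g (add_sub_cancel_left g k) y _ _)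

omit [Decomposition 𝓔] in
theorem shift_gsmul [SetLike.GradedSMul 𝒜 𝓔] : SetLike.GradedSMul 𝒜 (shiftGr 𝓔 g) where
  smul_mem := by
    intro h k r x hr hx
    have := SetLike.GradedSMul.smul_mem (A := 𝒜) (B := 𝓔) hr hx
    rw [vadd_eq_add] at this ⊢
    unfold shiftGr
    rwa [add_left_comm] at this

end shift

/-! ### pointed *essential extensions -/
section pointed

variable {E : Type u} [AddCommGroup E] [Module R E] (𝓔 : ι → AddSubgroup E) [Decomposition 𝓔]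
  [SetLike.GradedSMul 𝒜 𝓔]

/-- `E` is a *essential extension of `R u ≅ R/p`, `u` homogeneous of degree `g₀` -/
structure PHull (p : Ideal R) (u : E) (g₀ : ι) : Prop where
  mem : u ∈ 𝓔 g₀
  ann : ∀ s : R, s • u = 0 ↔ s ∈ p
  ess : ∀ P : Submodule R E, P.IsHomogeneous 𝓔 → P ≠ ⊥ → P ⊓ Submodule.span R {u} ≠ ⊥

omit [GradedRing 𝒜] [SetLike.GradedSMul 𝒜 𝓔] in
theorem phull_of_ess {τ : Type u} (I : Ideal R) [SetLike τ (R ⧸ I)] [AddSubgroupClass τ (R ⧸ I)]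
    {ℳ' : ι → τ} {e : (R ⧸ I) →ₗ[R] E} (he : IsStarEss ℳ' 𝓔 e) {g₀ : ι}
    (h1 : (Ideal.Quotient.mk I 1) ∈ ℳ' g₀) : PHull 𝓔 I (e (Ideal.Quotient.mk I 1)) g₀ := by
  have hsm : ∀ s : R, e (Ideal.Quotient.mk I s) = s • e (Ideal.Quotient.mk I 1) := by
    intro s
    have : Ideal.Quotient.mk I s = s • Ideal.Quotient.mk I 1 := by
      change _ = Ideal.Quotient.mk I (s • 1)
      rw [smul_eq_mul, mul_one]
    rw [this, e.map_smul]
  have hrange : LinearMap.range e = Submodule.span R {e (Ideal.Quotient.mk I 1)} := by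
    apply le_antisymm
    · rintro _ ⟨x, rfl⟩
      obtain ⟨s, rfl⟩ := Ideal.Quotient.mk_surjective x
      rw [hsm s]
      exact Submodule.smul_mem (Submodule.span R {e (Ideal.Quotient.mk I 1)}) s
        (Submodule.mem_span_singleton_self _)
    · rw [Submodule.span_singleton_le_iff_mem]
      exact ⟨_, rfl⟩
  refine ⟨he.grHom _ _ h1, fun s => ?_, fun P hP hP0 => ?_⟩
  · rw [← hsm, ← map_zero e, he.injective.eq_iff, Ideal.Quotient.eq_zero_iff_mem]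
  · rw [← hrange]
    exact he.essential P hP hP0

variable {p : Ideal R} {u : E} {g₀ : ι}

omit [GradedRing 𝒜] [SetLike.GradedSMul 𝒜 𝓔] in
theorem PHull.ne_zero (h : PHull 𝓔 p u g₀) (hp : p ≠ ⊤) : u ≠ 0 := by
  intro hu
  apply hp
  rw [Ideal.eq_top_iff_one, ← h.ann, hu, smul_zero]

omit [GradedRing 𝒜] [SetLike.GradedSMul 𝒜 𝓔] in
theorem PHull.eq_bot (h : PHull 𝓔 p u g₀) {P : Submodule R E} (hP : P.IsHomogeneous 𝓔)
    (h0 : ∀ s : R, s • u ∈ P → s • u = 0) : P = ⊥ := by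
  by_contra hP0
  apply h.ess P hP hP0
  rw [eq_bot_iff]
  rintro y ⟨hy1, hy2⟩
  obtain ⟨s, rfl⟩ := Submodule.mem_span_singleton.1 hy2
  rw [Submodule.mem_bot]
  exact h0 s hy1

omit [GradedRing 𝒜] [SetLike.GradedSMul 𝒜 𝓔] in
theorem PHull.exists_smul_mem (h : PHull 𝓔 p u g₀) {P : Submodule R E} (hP : P.IsHomogeneous 𝓔)
    (hP0 : P ≠ ⊥) : ∃ s : R, s • u ∈ P ∧ s • u ≠ 0 := by
  by_contra hcon
  push_neg at hcon
  exact hP0 (h.eq_bot 𝓔 hP hcon)

theorem ker_lsmul_isHomogeneous {r : R} {g : ι} (hr : r ∈ 𝒜 g) :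
    (LinearMap.ker (LinearMap.lsmul R E r)).IsHomogeneous 𝓔 := by
  intro k x hx
  rw [LinearMap.mem_ker, LinearMap.lsmul_apply] at hx ⊢
  rw [← decompose_smul_homog 𝒜 𝓔 hr, hx, decompose_zero, DirectSum.zero_apply, ZeroMemClass.coe_zero]

theorem smul_injective_of_phull [p.IsPrime] (h : PHull 𝓔 p u g₀) {r : R} {g : ι} (hr : r ∈ 𝒜 g)
    (hrp : r ∉ p) : Function.Injective (fun x : E => r • x) := by
  have hker : LinearMap.ker (LinearMap.lsmul R E r) = ⊥ := by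
    apply h.eq_bot 𝓔 (ker_lsmul_isHomogeneous 𝒜 𝓔 hr)
    intro s hs
    rw [LinearMap.mem_ker, LinearMap.lsmul_apply, ← mul_smul, h.ann] at hs
    rw [h.ann]
    exact (Ideal.IsPrime.mem_or_mem inferInstance hs).resolve_left hrp
  exact LinearMap.ker_eq_bot.1 hker

theorem main13219_aux [p.IsPrime] (hE : IsStarInj 𝒜 𝓔) (h : PHull 𝓔 p u g₀) {r : R} {g : ι}
    (hr : r ∈ 𝒜 g) (hrp : r ∉ p) : Function.Bijective (fun x : E => r • x) := by
  refine ⟨smul_injective_of_phull 𝒜 𝓔 h hr hrp, ?_⟩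
  letI := shiftDecomp 𝓔 g
  letI := shift_gsmul 𝒜 𝓔 g
  have hfgr : IsGrHom 𝓔 (shiftGr 𝓔 g) (LinearMap.lsmul R E r) := by
    intro k x hx
    exact smul_mem_gr 𝒜 𝓔 hr hx
  obtain ⟨hh, hhgr, hhf⟩ := starInj_ext 𝒜 𝓔 (shiftGr 𝓔 g) hE (LinearMap.lsmul R E r) hfgr
    (smul_injective_of_phull 𝒜 𝓔 h hr hrp) LinearMap.id (fun _ _ hm => hm)
  have hhr : ∀ x : E, hh (r • x) = x := fun x => LinearMap.congr_fun hhf x
  have hdeg : IsGrHomDeg 𝓔 𝓔 hh (-g) := by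
    intro j x hx
    have : x ∈ shiftGr 𝓔 g (j - g) := shift_le 𝓔 g j hx
    have := hhgr _ x this
    rwa [sub_eq_add_neg] at this
  have hkerhom : (LinearMap.ker hh).IsHomogeneous 𝓔 := by
    intro j x hx
    rw [LinearMap.mem_ker] at hx ⊢
    rw [← decompose_map_deg 𝓔 𝓔 hdeg, hx, decompose_zero, DirectSum.zero_apply,
      ZeroMemClass.coe_zero]
  have hker : LinearMap.ker hh = ⊥ := by
    apply h.eq_bot 𝓔 hkerhom
    intro s hs
    rw [LinearMap.mem_ker] at hs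
    have := hhr (s • u)
    rw [map_smul, hs, smul_zero] at this
    exact this.symm
  intro y
  refine ⟨hh y, ?_⟩
  have hz : y - r • hh y ∈ LinearMap.ker hh := by
    rw [LinearMap.mem_ker, map_sub, hhr, sub_self]
  rw [hker, Submodule.mem_bot, sub_eq_zero] at hz
  exact hz.symm

/-- *indecomposable -/
theorem main13218_aux [hp : p.IsPrime] (h : PHull 𝓔 p u g₀) : IsStarIndec R 𝓔 := by
  refine ⟨⟨u, 0, h.ne_zero 𝓔 hp.ne_top⟩, fun P Q hP hQ hPQ => ?_⟩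
  by_contra hcon
  push_neg at hcon
  obtain ⟨a, haP, ha0⟩ := h.exists_smul_mem 𝓔 hP hcon.1
  obtain ⟨b, hbQ, hb0⟩ := h.exists_smul_mem 𝓔 hQ hcon.2
  have h1 : (a * b) • u ∈ P := by
    rw [mul_comm, mul_smul]
    exact P.smul_mem b haP
  have h2 : (a * b) • u ∈ Q := by
    rw [mul_smul]
    exact Q.smul_mem a hbQ
  have h3 : (a * b) • u ∈ P ⊓ Q := ⟨h1, h2⟩
  rw [hPQ.inf_eq_bot, Submodule.mem_bot, h.ann] at h3
  rcases Ideal.IsPrime.mem_or_mem hp h3 with h4 | h4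
  · exact ha0 ((h.ann a).2 h4)
  · exact hb0 ((h.ann b).2 h4)

omit [GradedRing 𝒜] [SetLike.GradedSMul 𝒜 𝓔] [Decomposition 𝓔] in
/-- annihilator of a nonzero multiple of `u` -/
theorem ann_smul_u [hp : p.IsPrime] (hann : ∀ s : R, s • u = 0 ↔ s ∈ p) {t : R}
    (ht : t • u ≠ 0) (s : R) : s • (t • u) = 0 ↔ s ∈ p := by
  rw [← mul_smul, hann]
  constructor
  · intro hst
    exact (Ideal.IsPrime.mem_or_mem hp hst).resolve_right (fun h => ht ((hann t).2 h))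
  · intro hs
    exact Ideal.mul_mem_right _ _ hs

include 𝒜 in
/-- ungraded essentiality -/
theorem PHull.exists_mem_span (h : PHull 𝓔 p u g₀) {N : Submodule R E} (hN : N ≠ ⊥) :
    ∃ t : R, t • u ∈ N ∧ t • u ≠ 0 := by
  obtain ⟨S, hS⟩ : ∃ S : Submodule R E, S = Submodule.span R {u} := ⟨_, rfl⟩
  have hShom : S.IsHomogeneous 𝓔 := hS ▸ span_singleton_isHomogeneous 𝒜 𝓔 h.mem
  letI := subDecomp 𝓔 S hShom
  letI := sub_gsmul 𝒜 𝓔 S
  have hess : IsStarEss (subGr 𝓔 S) 𝓔 S.subtype := by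
    refine ⟨S.injective_subtype, subtype_isGrHom 𝓔 S, fun P hP hP0 => ?_⟩
    rw [Submodule.range_subtype, hS]
    exact h.ess P hP hP0
  have h2 := (main13211 𝒜 (subGr 𝓔 S) 𝓔 hess).essential N hN
  rw [Submodule.range_subtype, hS] at h2
  obtain ⟨y, hy, hy0⟩ := Submodule.exists_mem_ne_zero_of_ne_bot h2
  obtain ⟨t, rfl⟩ := Submodule.mem_span_singleton.1 hy.2
  exact ⟨t, hy.1, hy0⟩

include 𝒜 in
/-- `p`-torsion -/
theorem main13220_aux [IsNoetherianRing R] [hp : p.IsPrime] (h : PHull 𝓔 p u g₀) :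
    GrLC.gam p E = ⊤ := by
  rw [eq_top_iff]
  intro x _
  -- each element of p is nilpotent on x
  have hnil : ∀ s ∈ p, ∃ n : ℕ, s ^ n • x = 0 := by
    intro s hs
    obtain ⟨N, hN⟩ : ∃ N : Submodule R E, N = Submodule.span R {x} := ⟨_, rfl⟩
    haveI : IsNoetherian R N := hN ▸ isNoetherian_span_of_finite R (Set.finite_singleton x)
    let f : ℕ →o Submodule R N :=
      ⟨fun n => (LinearMap.ker (LinearMap.lsmul R E (s ^ n))).comap N.subtype, by
        intro n m hnm y hy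
        rw [Submodule.mem_comap, LinearMap.mem_ker, LinearMap.lsmul_apply] at hy ⊢
        obtain ⟨k, rfl⟩ := Nat.exists_eq_add_of_le hnm
        rw [pow_add, mul_comm, mul_smul, hy, smul_zero]⟩
    obtain ⟨n, hn⟩ := monotone_stabilizes_iff_noetherian.2 inferInstance f
    refine ⟨n, ?_⟩
    by_contra hx0
    have hW : Submodule.span R {s ^ n • x} ≠ ⊥ := by
      intro hb
      apply hx0
      have : s ^ n • x ∈ Submodule.span R {s ^ n • x} := Submodule.mem_span_singleton_self _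
      rw [hb] at this
      simpa using this
    obtain ⟨t, htW, ht0⟩ := h.exists_mem_span 𝒜 𝓔 hW
    obtain ⟨c, hc⟩ := Submodule.mem_span_singleton.1 htW
    have hs0 : s • (t • u) = 0 := (ann_smul_u h.ann ht0 s).2 hs
    have hcx : c • x ∈ N := hN ▸ Submodule.smul_mem _ _ (Submodule.mem_span_singleton_self x)
    have h1 : (⟨c • x, hcx⟩ : N) ∈ f (n + 1) := by
      change (⟨c • x, hcx⟩ : N) ∈ (LinearMap.ker (LinearMap.lsmul R E (s ^ (n + 1)))).comap N.subtype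
      rw [Submodule.mem_comap, LinearMap.mem_ker, LinearMap.lsmul_apply]
      change s ^ (n + 1) • (c • x) = 0
      rw [pow_succ, mul_comm, mul_smul, smul_comm (s ^ n) c x, hc, hs0]
    rw [← hn (n + 1) (Nat.le_succ n)] at h1
    change (⟨c • x, hcx⟩ : N) ∈ (LinearMap.ker (LinearMap.lsmul R E (s ^ n))).comap N.subtype at h1
    rw [Submodule.mem_comap, LinearMap.mem_ker, LinearMap.lsmul_apply] at h1
    change s ^ n • (c • x) = 0 at h1
    rw [smul_comm, hc] at h1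
    exact ht0 h1
  have hle : p ≤ Ideal.radical (LinearMap.ker (LinearMap.toSpanSingleton R E x)) := by
    intro s hs
    obtain ⟨n, hn⟩ := hnil s hs
    refine ⟨n, ?_⟩
    rw [LinearMap.mem_ker, LinearMap.toSpanSingleton_apply]
    exact hn
  obtain ⟨k, hk⟩ := Ideal.exists_pow_le_of_le_radical_of_fg hle (IsNoetherian.noetherian p)
  refine ⟨k, fun r hr => ?_⟩
  have := hk hr
  rwa [LinearMap.mem_ker, LinearMap.toSpanSingleton_apply] at this

end pointed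

/-! ### the rows about `*E(R/p)` -/
section rows

variable {E : Type u} [AddCommGroup E] [Module R E] (𝓔 : ι → AddSubgroup E) [Decomposition 𝓔]
  [SetLike.GradedSMul 𝒜 𝓔]

theorem one_mem_quotGr (p : HomogeneousIdeal 𝒜) :
    (Ideal.Quotient.mk p.toIdeal 1) ∈ GrLC.quotGr 𝒜 p 0 :=
  ⟨1, (show (1 : R) ∈ 𝒜 0 from SetLike.GradedOne.one_mem), rfl⟩

theorem phull_of_hull (p : HomogeneousIdeal 𝒜) {e : (R ⧸ p.toIdeal) →ₗ[R] E}
    (he : IsStarInjHull 𝒜 (GrLC.quotGr 𝒜 p) 𝓔 e) :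
    PHull 𝓔 p.toIdeal (e (Ideal.Quotient.mk p.toIdeal 1)) 0 :=
  phull_of_ess 𝓔 p.toIdeal he.toIsStarEss (one_mem_quotGr 𝒜 p)

theorem main13218 (p : HomogeneousIdeal 𝒜) [p.toIdeal.IsPrime] (e : (R ⧸ p.toIdeal) →ₗ[R] E)
    (he : IsStarInjHull 𝒜 (GrLC.quotGr 𝒜 p) 𝓔 e) : IsStarIndec R 𝓔 :=
  main13218_aux 𝓔 (phull_of_hull 𝒜 𝓔 p he)

theorem main13219 (p : HomogeneousIdeal 𝒜) [p.toIdeal.IsPrime] (e : (R ⧸ p.toIdeal) →ₗ[R] E)
    (he : IsStarInjHull 𝒜 (GrLC.quotGr 𝒜 p) 𝓔 e) (g : ι) (r : R) (hr : r ∈ 𝒜 g)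
    (hrp : r ∉ p.toIdeal) : Function.Bijective (fun x : E => r • x) :=
  main13219_aux 𝒜 𝓔 he.starInj (phull_of_hull 𝒜 𝓔 p he) hr hrp

theorem main13220 [IsNoetherianRing R] (p : HomogeneousIdeal 𝒜) [p.toIdeal.IsPrime]
    (e : (R ⧸ p.toIdeal) →ₗ[R] E) (he : IsStarInjHull 𝒜 (GrLC.quotGr 𝒜 p) 𝓔 e) :
    GrLC.gam p.toIdeal E = ⊤ :=
  main13220_aux 𝒜 𝓔 (phull_of_hull 𝒜 𝓔 p he)

variable {F : Type u} [AddCommGroup F] [Module R F] (𝓕 : ι → AddSubgroup F) [Decomposition 𝓕]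
  [SetLike.GradedSMul 𝒜 𝓕]

theorem main13221 (p : HomogeneousIdeal 𝒜) [hp : p.toIdeal.IsPrime] (e : (R ⧸ p.toIdeal) →ₗ[R] E)
    (he : IsStarInjHull 𝒜 (GrLC.quotGr 𝒜 p) 𝓔 e) (q : HomogeneousIdeal 𝒜) [hq : q.toIdeal.IsPrime]
    (f : (R ⧸ q.toIdeal) →ₗ[R] F) (hf : IsStarInjHull 𝒜 (GrLC.quotGr 𝒜 q) 𝓕 f) (g : ι)
    (φ : E ≃ₗ[R] F) (hφ : IsGrHomDeg 𝓔 𝓕 φ.toLinearMap g) : p = q := by
  have h1 := phull_of_hull 𝒜 𝓔 p he
  have h2 := phull_of_hull 𝒜 𝓕 q hf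
  obtain ⟨u, hu⟩ : ∃ u : E, u = e (Ideal.Quotient.mk p.toIdeal 1) := ⟨_, rfl⟩
  obtain ⟨v, hv⟩ : ∃ v : F, v = f (Ideal.Quotient.mk q.toIdeal 1) := ⟨_, rfl⟩
  rw [← hu] at h1
  rw [← hv] at h2
  have hy0 : φ u ≠ 0 := by
    intro h
    exact h1.ne_zero 𝓔 hp.ne_top (φ.injective (by rw [h, map_zero]))
  have hymem : φ u ∈ 𝓕 (0 + g) := hφ 0 u h1.mem
  have hP : (Submodule.span R {φ u}).IsHomogeneous 𝓕 := span_singleton_isHomogeneous 𝒜 𝓕 hymem
  have hP0 : Submodule.span R {φ u} ≠ ⊥ := by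
    intro hb
    apply hy0
    have : φ u ∈ Submodule.span R {φ u} := Submodule.mem_span_singleton_self _
    rw [hb] at this
    simpa using this
  obtain ⟨c, hc, hc0⟩ := h2.exists_smul_mem 𝓕 hP hP0
  obtain ⟨t, ht⟩ := Submodule.mem_span_singleton.1 hc
  have htu : t • u ≠ 0 := by
    intro h
    apply hc0
    rw [← ht, ← map_smul, h, map_zero]
  apply HomogeneousIdeal.toIdeal_injective
  ext s
  rw [← ann_smul_u h1.ann htu s, ← ann_smul_u h2.ann hc0 s, ← ht, ← map_smul, ← map_smul]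
  constructor
  · intro h
    rw [h, map_zero]
  · intro h
    exact φ.injective (by rw [h, map_zero])

end rows

end Groth.Agent.Lib.GrStar3H1
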