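import Mathlib
import Groth.Prelude.Def_GrLC
import Groth.Prelude.Def_Wider
import Groth.Agent.Lib.GrStar_helper1
import Groth.Agent.Lib.GrStar2_helper1
import Groth.Agent.Lib.GrStar3_helper1

/-! Graded free modules, homogeneous components of linear maps, and vanishing of `Ext^i(M, I)` for
`M` finitely generated graded and `I` *injective (helper1). -/

set_option autoImplicit false

namespace Groth.Agent.Lib.GrExtH1

open DirectSum GrLC Groth.Agent.Lib.GrStarH1 Groth.Agent.Lib.GrStar2H1 Groth.Agent.Lib.GrStar3H1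
open CategoryTheory

universe u

variable {ι : Type} [AddCommGroup ι] [DecidableEq ι]
variable {R : Type u} [CommRing R] (𝒜 : ι → AddSubgroup R) [GradedRing 𝒜]

/-! ### graded free modules -/
section free

variable {κ : Type} (dg : κ → ι)

/-- the graded free module `⨁ R(-dg k)` -/
def freeGr : ι → AddSubgroup (κ → R) := fun h =>
  { carrier := {f | ∀ k, f k ∈ 𝒜 (h - dg k)}
    zero_mem' := fun _ => zero_mem _
    add_mem' := fun ha hb k => add_mem (ha k) (hb k)
    neg_mem' := fun ha k => neg_mem (ha k) }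

omit [DecidableEq ι] [GradedRing 𝒜] in
theorem free_gsmul_aux {a h : ι} {r : R} {f : κ → R} (hr : r ∈ 𝒜 a) (hf : f ∈ freeGr 𝒜 dg h)
    [SetLike.GradedMul 𝒜] : r • f ∈ freeGr 𝒜 dg (a + h) := by
  intro k
  rw [Pi.smul_apply, smul_eq_mul, add_sub_assoc]
  exact SetLike.mul_mem_graded hr (hf k)

theorem free_gsmul : SetLike.GradedSMul 𝒜 (freeGr 𝒜 dg) where
  smul_mem := by
    intro a h r f hr hf
    rw [vadd_eq_add]
    exact free_gsmul_aux 𝒜 dg hr hf

variable [Fintype κ] [DecidableEq κ]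

omit [DecidableEq ι] [GradedRing 𝒜] [Fintype κ] in
theorem single_mem_freeGr (k : κ) {j : ι} {r : R} (hr : r ∈ 𝒜 j) :
    (Pi.single k r : κ → R) ∈ freeGr 𝒜 dg (j + dg k) := by
  intro k'
  by_cases h : k' = k
  · subst h; rw [Pi.single_eq_same, add_sub_cancel_right]; exact hr
  · rw [Pi.single_eq_of_ne h]; exact zero_mem _

/-- inclusion of a piece in the `k`-th coordinate -/
def singleHom (k : κ) (j : ι) : 𝒜 j →+ freeGr 𝒜 dg (j + dg k) where
  toFun r := ⟨Pi.single k (r : R), single_mem_freeGr 𝒜 dg k r.2⟩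
  map_zero' := by apply Subtype.ext; simp
  map_add' a b := by apply Subtype.ext; simp [Pi.single_add]

/-- decomposition of the `k`-th coordinate -/
noncomputable def freeDecK (k : κ) : R →+ ⨁ h, freeGr 𝒜 dg h :=
  (DirectSum.toAddMonoid (fun j => (DirectSum.of (fun h => freeGr 𝒜 dg h) (j + dg k)).comp
    (singleHom 𝒜 dg k j))).comp (decomposeAddEquiv 𝒜).toAddMonoidHom

theorem freeDecK_of_mem (k : κ) {j : ι} {r : R} (hr : r ∈ 𝒜 j) :
    freeDecK 𝒜 dg k r = DirectSum.of (fun h => freeGr 𝒜 dg h) (j + dg k)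
      ⟨Pi.single k r, single_mem_freeGr 𝒜 dg k hr⟩ := by
  unfold freeDecK
  rw [AddMonoidHom.comp_apply]
  change DirectSum.toAddMonoid _ (decompose 𝒜 r) = _
  rw [decompose_of_mem 𝒜 hr, DirectSum.toAddMonoid_of]
  rfl

theorem coe_freeDecK (k : κ) (r : R) :
    DirectSum.coeAddMonoidHom (freeGr 𝒜 dg) (freeDecK 𝒜 dg k r) = Pi.single k r := by
  induction r using DirectSum.Decomposition.inductionOn 𝒜 with
  | zero => simp
  | @homogeneous j m => rw [freeDecK_of_mem 𝒜 dg k m.2, DirectSum.coeAddMonoidHom_of]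
  | add m m' hm hm' => rw [map_add, map_add, hm, hm', Pi.single_add]

/-- the decomposition map of the graded free module -/
noncomputable def freeDec : (κ → R) →+ ⨁ h, freeGr 𝒜 dg h :=
  ∑ k : κ, (freeDecK 𝒜 dg k).comp (Pi.evalAddMonoidHom (fun _ => R) k)

theorem freeDec_apply (f : κ → R) : freeDec 𝒜 dg f = ∑ k, freeDecK 𝒜 dg k (f k) := by
  unfold freeDec
  rw [AddMonoidHom.finset_sum_apply]
  rfl

omit [GradedRing 𝒜] [Fintype κ] [DecidableEq κ] in
theorem of_free_congr {h h' : ι} (e : h = h') (y : κ → R) (hy : y ∈ freeGr 𝒜 dg h)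
    (hy' : y ∈ freeGr 𝒜 dg h') :
    DirectSum.of (fun h => freeGr 𝒜 dg h) h ⟨y, hy⟩
      = DirectSum.of (fun h => freeGr 𝒜 dg h) h' ⟨y, hy'⟩ := by
  subst e; rfl

/-- the decomposition of the graded free module -/
noncomputable def freeDecomp : Decomposition (freeGr 𝒜 dg) :=
  Decomposition.ofAddHom _ (freeDec 𝒜 dg)
    (by
      apply AddMonoidHom.ext
      intro f
      rw [AddMonoidHom.comp_apply, AddMonoidHom.id_apply, freeDec_apply, map_sum]
      simp only [coe_freeDecK]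
      exact Finset.univ_sum_single f)
    (by
      apply DirectSum.addHom_ext
      rintro h ⟨f, hf⟩
      rw [AddMonoidHom.comp_apply, DirectSum.coeAddMonoidHom_of, AddMonoidHom.id_apply,
        freeDec_apply]
      have hmem : ∀ k, (Pi.single k (f k) : κ → R) ∈ freeGr 𝒜 dg h := by
        intro k
        have := single_mem_freeGr 𝒜 dg k (hf k)
        rwa [sub_add_cancel] at this
      have h1 : ∀ k ∈ (Finset.univ : Finset κ), freeDecK 𝒜 dg k (f k) =
          DirectSum.of (fun h => freeGr 𝒜 dg h) h ⟨Pi.single k (f k), hmem k⟩ := by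
        intro k _
        rw [freeDecK_of_mem 𝒜 dg k (hf k)]
        exact of_free_congr 𝒜 dg (sub_add_cancel h (dg k)) _ _ _
      rw [Finset.sum_congr rfl h1, ← map_sum]
      congr 1
      apply Subtype.ext
      rw [AddSubgroup.val_finsetSum]
      exact Finset.univ_sum_single f)

omit [DecidableEq κ] in
theorem linComb_isGrHom {M : Type u} [AddCommGroup M] [Module R M] (ℳ : ι → AddSubgroup M)
    [Decomposition ℳ] [SetLike.GradedSMul 𝒜 ℳ] (s : κ → M) (hs : ∀ k, s k ∈ ℳ (dg k)) :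
    IsGrHom (freeGr 𝒜 dg) ℳ (Fintype.linearCombination R s) := by
  intro h f hf
  rw [Fintype.linearCombination_apply]
  refine sum_mem (fun k _ => ?_)
  have := smul_mem_gr 𝒜 ℳ (hf k) (hs k)
  rwa [sub_add_cancel] at this

end free

/-! ### homogeneous generators -/
section gens

variable {M : Type u} [AddCommGroup M] [Module R M] (ℳ : ι → AddSubgroup M) [Decomposition ℳ]

theorem exists_homog_generators [Module.Finite R M] :
    ∃ (n : ℕ) (dg : Fin n → ι) (s : Fin n → M), (∀ k, s k ∈ ℳ (dg k)) ∧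
      Submodule.span R (Set.range s) = ⊤ := by
  classical
  obtain ⟨S, hS⟩ := (Module.Finite.fg_top : (⊤ : Submodule R M).FG)
  let T : Finset (M × ι) := S.biUnion
    (fun x => (decompose ℳ x).support.image (fun h => ((decompose ℳ x h : M), h)))
  have hT : ∀ p ∈ T, p.1 ∈ ℳ p.2 := by
    intro p hp
    obtain ⟨x, _, hp⟩ := Finset.mem_biUnion.mp hp
    obtain ⟨h, _, rfl⟩ := Finset.mem_image.mp hp
    exact (decompose ℳ x h).2
  let e := T.equivFin
  refine ⟨T.card, fun k => (e.symm k).1.2, fun k => (e.symm k).1.1,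
    fun k => hT _ (e.symm k).2, ?_⟩
  rw [eq_top_iff, ← hS, Submodule.span_le]
  intro x hx
  rw [SetLike.mem_coe, ← DirectSum.sum_support_decompose ℳ x]
  refine Submodule.sum_mem _ (fun h hh => ?_)
  apply Submodule.subset_span
  have hp : ((decompose ℳ x h : M), h) ∈ T :=
    Finset.mem_biUnion.mpr ⟨x, hx, Finset.mem_image.mpr ⟨h, hh, rfl⟩⟩
  exact ⟨e ⟨_, hp⟩, by simp⟩

end gens

/-! ### homogeneous components of a linear map -/
section comp

variable {K : Type u} [AddCommGroup K] [Module R K] (𝒦 : ι → AddSubgroup K) [Decomposition 𝒦]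
  [SetLike.GradedSMul 𝒜 𝒦]
variable {I : Type u} [AddCommGroup I] [Module R I] (ℐ : ι → AddSubgroup I) [Decomposition ℐ]
  [SetLike.GradedSMul 𝒜 ℐ]

/-- projection to a component, as an additive map -/
noncomputable def projAdd (j : ι) : I →+ I where
  toFun x := (decompose ℐ x j : I)
  map_zero' := by simp
  map_add' x y := by rw [decompose_add, DirectSum.add_apply, AddSubgroup.coe_add]

/-- the degree `g` component of a linear map, as an additive map -/
noncomputable def compAdd (φ : K →ₗ[R] I) (g : ι) : K →+ I :=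
  (DirectSum.toAddMonoid (fun h => ((projAdd ℐ (h + g)).comp φ.toAddMonoidHom).comp
    (𝒦 h).subtype)).comp (decomposeAddEquiv 𝒦).toAddMonoidHom

omit [GradedRing 𝒜] [SetLike.GradedSMul 𝒜 𝒦] [SetLike.GradedSMul 𝒜 ℐ] in
theorem compAdd_of_mem (φ : K →ₗ[R] I) (g : ι) {h : ι} {x : K} (hx : x ∈ 𝒦 h) :
    compAdd 𝒦 ℐ φ g x = (decompose ℐ (φ x) (h + g) : I) := by
  unfold compAdd
  rw [AddMonoidHom.comp_apply]
  change DirectSum.toAddMonoid _ (decompose 𝒦 x) = _
  rw [decompose_of_mem 𝒦 hx, DirectSum.toAddMonoid_of]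
  rfl

/-- the degree `g` component of a linear map -/
noncomputable def compHom (φ : K →ₗ[R] I) (g : ι) : K →ₗ[R] I where
  toFun := compAdd 𝒦 ℐ φ g
  map_add' := map_add _
  map_smul' := by
    intro r x
    simp only [RingHom.id_apply]
    induction r using DirectSum.Decomposition.inductionOn 𝒜 with
    | zero => simp
    | @homogeneous a r =>
      induction x using DirectSum.Decomposition.inductionOn 𝒦 with
      | zero => simp
      | @homogeneous h x =>
        rw [compAdd_of_mem 𝒦 ℐ φ g (smul_mem_gr 𝒜 𝒦 r.2 x.2), compAdd_of_mem 𝒦 ℐ φ g x.2, map_smul,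
          add_assoc, decompose_smul_homog 𝒜 ℐ r.2]
      | add x y hx hy => rw [smul_add, map_add, map_add, hx, hy, smul_add]
    | add r r' hr hr' => rw [add_smul, map_add, hr, hr', add_smul]

theorem compHom_of_mem (φ : K →ₗ[R] I) (g : ι) {h : ι} {x : K} (hx : x ∈ 𝒦 h) :
    compHom 𝒜 𝒦 ℐ φ g x = (decompose ℐ (φ x) (h + g) : I) :=
  compAdd_of_mem 𝒦 ℐ φ g hx

theorem compHom_isGrHom_shift (φ : K →ₗ[R] I) (g : ι) :
    IsGrHom (shiftGr 𝒦 (-g)) ℐ (compHom 𝒜 𝒦 ℐ φ g) := by
  intro k x hx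
  have hx' : x ∈ 𝒦 (-g + k) := hx
  rw [compHom_of_mem 𝒜 𝒦 ℐ φ g hx']
  have e : -g + k + g = k := by abel
  have h2 : ∀ j, j = k → ((decompose ℐ (φ x) j : ℐ j) : I) ∈ ℐ k := by
    rintro j rfl; exact (decompose ℐ (φ x) j).2
  exact h2 _ e

end comp

/-! ### the extension lemma -/
section key

variable {F : Type u} [AddCommGroup F] [Module R F] (ℱ : ι → AddSubgroup F) [Decomposition ℱ]
  [SetLike.GradedSMul 𝒜 ℱ]
variable {I : Type u} [AddCommGroup I] [Module R I] (ℐ : ι → AddSubgroup I) [Decomposition ℐ]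
  [SetLike.GradedSMul 𝒜 ℐ]

theorem exists_extension (hI : IsStarInj 𝒜 ℐ) (K : Submodule R F) (hK : K.IsHomogeneous ℱ)
    (hfg : K.FG) (φ : K →ₗ[R] I) : ∃ ψ : F →ₗ[R] I, ψ ∘ₗ K.subtype = φ := by
  classical
  letI : Decomposition (subGr ℱ K) := subDecomp ℱ K hK
  letI : SetLike.GradedSMul 𝒜 (subGr ℱ K) := sub_gsmul 𝒜 ℱ K
  haveI : Module.Finite R K := Module.Finite.iff_fg.mpr hfg
  obtain ⟨n, dg, s, hs, hspan⟩ := exists_homog_generators (R := R) (subGr ℱ K)
  have hext : ∀ g : ι, ∃ ψ : F →ₗ[R] I, ψ ∘ₗ K.subtype = compHom 𝒜 (subGr ℱ K) ℐ φ g := by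
    intro g
    letI : Decomposition (shiftGr (subGr ℱ K) (-g)) := shiftDecomp (subGr ℱ K) (-g)
    letI : SetLike.GradedSMul 𝒜 (shiftGr (subGr ℱ K) (-g)) := shift_gsmul 𝒜 (subGr ℱ K) (-g)
    letI : Decomposition (shiftGr ℱ (-g)) := shiftDecomp ℱ (-g)
    letI : SetLike.GradedSMul 𝒜 (shiftGr ℱ (-g)) := shift_gsmul 𝒜 ℱ (-g)
    obtain ⟨ψ, _, hψ⟩ := starInj_ext 𝒜 (shiftGr (subGr ℱ K) (-g)) (shiftGr ℱ (-g)) hI K.subtype
      (fun k x hx => hx) K.injective_subtype (compHom 𝒜 (subGr ℱ K) ℐ φ g)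
      (compHom_isGrHom_shift 𝒜 (subGr ℱ K) ℐ φ g)
    exact ⟨ψ, hψ⟩
  choose ψ hψ using hext
  let G : Finset ι := Finset.univ.biUnion
    (fun k : Fin n => (decompose ℐ (φ (s k))).support.image (fun j => j - dg k))
  refine ⟨∑ g ∈ G, ψ g, ?_⟩
  apply LinearMap.ext_on hspan
  rintro _ ⟨k, rfl⟩
  rw [LinearMap.comp_apply, LinearMap.sum_apply]
  have h1 : ∀ g ∈ G, ψ g (K.subtype (s k)) = (decompose ℐ (φ (s k)) (dg k + g) : I) := by
    intro g _
    have := LinearMap.congr_fun (hψ g) (s k)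
    rw [LinearMap.comp_apply] at this
    rw [this, compHom_of_mem 𝒜 (subGr ℱ K) ℐ φ g (hs k)]
  rw [Finset.sum_congr rfl h1]
  conv_rhs => rw [← DirectSum.sum_support_decompose ℐ (φ (s k))]
  rw [← Finset.sum_image (s := G) (g := fun g => dg k + g)
    (f := fun j => (decompose ℐ (φ (s k)) j : I)) (fun a _ b _ hab => add_left_cancel hab)]
  symm
  apply Finset.sum_subset
  · intro j hj
    refine Finset.mem_image.mpr ⟨j - dg k, ?_, by abel⟩
    exact Finset.mem_biUnion.mpr ⟨k, Finset.mem_univ _, Finset.mem_image.mpr ⟨j, hj, rfl⟩⟩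
  · intro j _ hj
    rw [DFinsupp.notMem_support_iff] at hj
    rw [hj]; rfl

end key

/-! ### dimension shifting -/
section ext

variable {F M I : Type u} [AddCommGroup F] [Module R F] [AddCommGroup M] [Module R M]
  [AddCommGroup I] [Module R I]

theorem ext_one_subsingleton (π : F →ₗ[R] M) (hπ : Function.Surjective π) [Module.Projective R F]
    (hext : ∀ φ : LinearMap.ker π →ₗ[R] I, ∃ ψ : F →ₗ[R] I,
      ψ ∘ₗ (LinearMap.ker π).subtype = φ) :
    Subsingleton (Abelian.Ext.{u} (ModuleCat.of R M) (ModuleCat.of R I) 1) := by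
  have hS : π.shortComplexKer.ShortExact := LinearMap.shortExact_shortComplexKer hπ
  haveI : Projective π.shortComplexKer.X₂ :=
    (IsProjective.iff_projective (R := R) F).mp inferInstance
  refine subsingleton_of_forall_eq 0 (fun x₃ => ?_)
  have h0 : (Abelian.Ext.mk₀ π.shortComplexKer.g).comp x₃ (zero_add 1) = 0 :=
    Abelian.Ext.eq_zero_of_projective _
  obtain ⟨x₁, hx₁⟩ := Abelian.Ext.contravariant_sequence_exact₃ hS _ x₃ h0 (n₀ := 0) (by norm_num)
  obtain ⟨φ, rfl⟩ := (Abelian.Ext.mk₀_bijective _ _).2 x₁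
  obtain ⟨ψ, hψ⟩ := hext φ.hom
  have hφ : φ = π.shortComplexKer.f ≫ ModuleCat.ofHom ψ := by
    apply ModuleCat.hom_ext
    rw [ModuleCat.hom_comp]
    exact hψ.symm
  rw [← hx₁, hφ, ← Abelian.Ext.mk₀_comp_mk₀]
  exact hS.extClass_comp_assoc _

theorem ext_succ_subsingleton (π : F →ₗ[R] M) (hπ : Function.Surjective π) [Module.Projective R F]
    (n : ℕ)
    (h : Subsingleton (Abelian.Ext.{u} (ModuleCat.of R (LinearMap.ker π)) (ModuleCat.of R I) (n + 1))) :
    Subsingleton (Abelian.Ext.{u} (ModuleCat.of R M) (ModuleCat.of R I) (n + 2)) := by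
  have hS : π.shortComplexKer.ShortExact := LinearMap.shortExact_shortComplexKer hπ
  haveI : Projective π.shortComplexKer.X₂ :=
    (IsProjective.iff_projective (R := R) F).mp inferInstance
  refine subsingleton_of_forall_eq 0 (fun x₃ => ?_)
  have h0 : (Abelian.Ext.mk₀ π.shortComplexKer.g).comp x₃ (zero_add (n + 2)) = 0 :=
    Abelian.Ext.eq_zero_of_projective _
  obtain ⟨x₁, hx₁⟩ := Abelian.Ext.contravariant_sequence_exact₃ hS _ x₃ h0 (n₀ := n + 1)
    (by omega)
  have hz : x₁ = 0 := Subsingleton.elim _ _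
  rw [← hx₁, hz, Abelian.Ext.comp_zero]

end ext

/-! ### the main theorem -/
section main

variable [IsNoetherianRing R]
variable {I : Type u} [AddCommGroup I] [Module R I] (ℐ : ι → AddSubgroup I) [Decomposition ℐ]
  [SetLike.GradedSMul 𝒜 ℐ]

theorem ext_subsingleton_aux (hI : IsStarInj 𝒜 ℐ) :
    ∀ (n : ℕ) (M : Type u) [AddCommGroup M] [Module R M] (ℳ : ι → AddSubgroup M) [Decomposition ℳ]
      [SetLike.GradedSMul 𝒜 ℳ] [Module.Finite R M],
      Subsingleton (Abelian.Ext.{u} (ModuleCat.of R M) (ModuleCat.of R I) (n + 1)) := by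
  intro n
  induction n with
  | zero =>
    intro M _ _ ℳ _ _ _
    obtain ⟨m, dg, s, hs, hspan⟩ := exists_homog_generators (R := R) ℳ
    letI : Decomposition (freeGr 𝒜 dg) := freeDecomp 𝒜 dg
    letI : SetLike.GradedSMul 𝒜 (freeGr 𝒜 dg) := free_gsmul 𝒜 dg
    have hπ : Function.Surjective (Fintype.linearCombination R s) := by
      rw [← LinearMap.range_eq_top, Fintype.range_linearCombination]; exact hspan
    have hgr := linComb_isGrHom 𝒜 dg ℳ s hs
    have hK : (LinearMap.ker (Fintype.linearCombination R s)).IsHomogeneous (freeGr 𝒜 dg) :=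
      ker_isHomogeneous _ _ hgr
    exact ext_one_subsingleton _ hπ
      (fun φ => exists_extension 𝒜 (freeGr 𝒜 dg) ℐ hI _ hK (IsNoetherian.noetherian _) φ)
  | succ n ih =>
    intro M _ _ ℳ _ _ _
    obtain ⟨m, dg, s, hs, hspan⟩ := exists_homog_generators (R := R) ℳ
    letI : Decomposition (freeGr 𝒜 dg) := freeDecomp 𝒜 dg
    letI : SetLike.GradedSMul 𝒜 (freeGr 𝒜 dg) := free_gsmul 𝒜 dg
    have hπ : Function.Surjective (Fintype.linearCombination R s) := by
      rw [← LinearMap.range_eq_top, Fintype.range_linearCombination]; exact hspan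
    have hgr := linComb_isGrHom 𝒜 dg ℳ s hs
    have hK : (LinearMap.ker (Fintype.linearCombination R s)).IsHomogeneous (freeGr 𝒜 dg) :=
      ker_isHomogeneous _ _ hgr
    have := @ih (LinearMap.ker (Fintype.linearCombination R s)) _ _
      (subGr (freeGr 𝒜 dg) (LinearMap.ker (Fintype.linearCombination R s)))
      (subDecomp _ _ hK) (sub_gsmul 𝒜 _ _) inferInstance
    exact ext_succ_subsingleton _ hπ n this

end main

theorem main13216 {ι : Type} [AddCommGroup ι] [DecidableEq ι] [Module.Free ℤ ι] [Module.Finite ℤ ι]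
    (R : Type u) [CommRing R] [IsNoetherianRing R] (𝒜 : ι → AddSubgroup R) [GradedRing 𝒜]
    (M : Type u) [AddCommGroup M] [Module R M] (ℳ : ι → AddSubgroup M)
    [DirectSum.Decomposition ℳ] [SetLike.GradedSMul 𝒜 ℳ] [Module.Finite R M]
    (I : Type u) [AddCommGroup I] [Module R I] (ℐ : ι → AddSubgroup I)
    [DirectSum.Decomposition ℐ] [SetLike.GradedSMul 𝒜 ℐ] (hI : GrLC.IsStarInj 𝒜 ℐ)
    (i : ℕ) (hi : 1 ≤ i) :
    Subsingleton (CategoryTheory.Abelian.Ext.{u} (ModuleCat.of R M) (ModuleCat.of R I) i) := by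
  obtain ⟨n, rfl⟩ : ∃ n, i = n + 1 := ⟨i - 1, by omega⟩
  exact ext_subsingleton_aux 𝒜 ℐ hI n M ℳ

end Groth.Agent.Lib.GrExtH1
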