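import Mathlib
import Groth.Prelude.Def_GrLC
import Groth.Prelude.Def_Wider
import Groth.Agent.Lib.GrStar_helper1
import Groth.Agent.Lib.GrStar2_helper1
import Groth.Agent.Lib.GrStar3_helper1

/-! Graded modules: *injective direct summands, structure of *indecomposable *injectives,
grading of graded local cohomology (helper1). -/

set_option autoImplicit false

namespace Groth.Agent.Lib.GrStar4H1

open DirectSum GrLC Groth.Agent.Lib.GrStarH1 Groth.Agent.Lib.GrStar2H1 Groth.Agent.Lib.GrStar3H1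

universe u

/-- a finitely generated free abelian group admits a translation-invariant linear order -/
theorem exists_linearOrder (ι : Type) [AddCommGroup ι] [Module.Free ℤ ι] [Module.Finite ℤ ι] :
    ∃ (_ : LinearOrder ι), IsOrderedCancelAddMonoid ι := by
  classical
  obtain ⟨f, hf, hadd⟩ : ∃ f : ι → Lex (Fin (Module.finrank ℤ ι) → ℤ), Function.Injective f ∧
      ∀ x y, f (x + y) = f x + f y := by
    refine ⟨fun x => toLex ((Module.finBasis ℤ ι).equivFun x), ?_, ?_⟩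
    · intro x y h
      exact (Module.finBasis ℤ ι).equivFun.injective (toLex.injective h)
    · intro x y
      simp
  letI : LinearOrder ι := LinearOrder.lift' f hf
  exact ⟨inferInstance, Function.Injective.isOrderedCancelAddMonoid f hadd Iff.rfl⟩

variable {ι : Type} [AddCommGroup ι] [DecidableEq ι]
variable {R : Type u} [CommRing R] (𝒜 : ι → AddSubgroup R) [GradedRing 𝒜]

theorem isPrime_of_homog_cond [Module.Free ℤ ι] [Module.Finite ℤ ι] {a : Ideal R}
    (ha : a.IsHomogeneous 𝒜) (hne : a ≠ ⊤)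
    (h : ∀ {x y : R}, SetLike.IsHomogeneousElem 𝒜 x → SetLike.IsHomogeneousElem 𝒜 y → x * y ∈ a →
      x ∈ a ∨ y ∈ a) : a.IsPrime := by
  obtain ⟨lo, hlo⟩ := exists_linearOrder ι
  have hdec : ‹DecidableEq ι› = lo.toDecidableEq := Subsingleton.elim _ _
  subst hdec
  exact ha.isPrime_of_homogeneous_mem_or_mem hne h

/-! ### direct summands -/
section summand

variable {J : Type u} [AddCommGroup J] [Module R J] (𝒥 : ι → AddSubgroup J) [Decomposition 𝒥]
  [SetLike.GradedSMul 𝒜 𝒥]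

theorem exists_summand_ess (hJ : IsStarInj 𝒜 𝒥) (M' : Submodule R J) (hM'hom : M'.IsHomogeneous 𝒥) :
    ∃ (E K : Submodule R J), E.IsHomogeneous 𝒥 ∧ K.IsHomogeneous 𝒥 ∧ M' ≤ E ∧ IsCompl E K ∧
      EssIn 𝒥 M' E := by
  classical
  obtain ⟨E, hME, hEmax⟩ := exists_max_ess 𝒜 𝒥 M' hM'hom
  obtain ⟨hEhom, hEess⟩ := hEmax.prop
  obtain ⟨K, hKmax⟩ := exists_max_compl 𝒥 E
  obtain ⟨hKhom, hKE⟩ := hKmax.prop
  refine ⟨E, K, hEhom, hKhom, hME, ?_, hEess⟩
  letI := quotDecomp 𝒥 K hKhom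
  letI := quot_gsmul 𝒜 𝒥 K
  letI := subDecomp 𝒥 E hEhom
  letI := sub_gsmul 𝒜 𝒥 E
  obtain ⟨φ, hφdef⟩ : ∃ φ : E →ₗ[R] J ⧸ K, φ = K.mkQ ∘ₗ E.subtype := ⟨_, rfl⟩
  have hφapp : ∀ e : E, φ e = K.mkQ (e : J) := fun e => by rw [hφdef]; rfl
  have hφgr : IsGrHom (subGr 𝒥 E) (Groth.Agent.Lib.GrStar2H1.quotGr 𝒥 K) φ := by
    intro g e he
    rw [hφapp]
    exact mk_mem_quotGr 𝒥 K he
  have hmk0 : ∀ x : J, K.mkQ x = 0 → x ∈ E → x = 0 := by
    intro x hx hxE
    rw [Submodule.mkQ_apply, Submodule.Quotient.mk_eq_zero] at hx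
    have : x ∈ K ⊓ E := ⟨hx, hxE⟩
    rw [hKE] at this
    simpa using this
  have hφinj : Function.Injective φ := by
    rw [injective_iff_map_eq_zero]
    intro e he
    rw [hφapp] at he
    exact Subtype.ext (hmk0 _ he e.2)
  have key : ∀ P : Submodule R (J ⧸ K),
      P.IsHomogeneous (Groth.Agent.Lib.GrStar2H1.quotGr 𝒥 K) → P ≠ ⊥ →
      (P.comap K.mkQ) ⊓ E ≠ ⊥ := by
    intro P hP hP0 hbot
    have h1 : (P.comap K.mkQ).IsHomogeneous 𝒥 :=
      comap_isHomogeneous 𝒥 (Groth.Agent.Lib.GrStar2H1.quotGr 𝒥 K) (mkQ_isGrHom 𝒥 K) hP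
    have h2 : K ≤ P.comap K.mkQ := by
      intro k hk
      rw [Submodule.mem_comap, Submodule.mkQ_apply, (Submodule.Quotient.mk_eq_zero K).2 hk]
      exact P.zero_mem
    have h3 : P.comap K.mkQ ≤ K := hKmax.le_of_ge ⟨h1, hbot⟩ h2
    apply hP0
    rw [eq_bot_iff]
    intro q hq
    obtain ⟨j, rfl⟩ := K.mkQ_surjective q
    have : j ∈ K := h3 hq
    rw [Submodule.mem_bot, Submodule.mkQ_apply, Submodule.Quotient.mk_eq_zero]
    exact this
  have hφess : IsStarEss (subGr 𝒥 E) (Groth.Agent.Lib.GrStar2H1.quotGr 𝒥 K) φ := by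
    refine ⟨hφinj, hφgr, fun P hP hP0 hbot => ?_⟩
    apply key P hP hP0
    rw [eq_bot_iff]
    rintro e ⟨he1, he2⟩
    have : K.mkQ e ∈ P ⊓ LinearMap.range φ := ⟨he1, ⟨⟨e, he2⟩, hφapp _⟩⟩
    rw [hbot, Submodule.mem_bot] at this
    rw [Submodule.mem_bot]
    exact hmk0 e this he2
  obtain ⟨ψ, hψgr, hψ⟩ := starInj_ext 𝒜 (subGr 𝒥 E) (Groth.Agent.Lib.GrStar2H1.quotGr 𝒥 K) hJ φ
    hφgr hφinj E.subtype (subtype_isGrHom 𝒥 E)
  have hψφ : ∀ e : E, ψ (φ e) = (e : J) := fun e => LinearMap.congr_fun hψ e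
  have hψinj : Function.Injective ψ := by
    apply injective_of_ess_of_comp (𝓛 := Groth.Agent.Lib.GrStar2H1.quotGr 𝒥 K) (𝓛' := 𝒥) hφess hψgr
    rw [hψ]
    exact E.injective_subtype
  have hEle : E ≤ LinearMap.range ψ := fun e he => ⟨φ ⟨e, he⟩, hψφ ⟨e, he⟩⟩
  have hrange : LinearMap.range ψ ≤ E := by
    refine hEmax.le_of_ge ⟨range_isHomogeneous (Groth.Agent.Lib.GrStar2H1.quotGr 𝒥 K) 𝒥 hψgr,
      hME.trans hEle, ?_⟩ hEle
    intro P hPle hP hP0
    have hP1 : (P.comap ψ).IsHomogeneous (Groth.Agent.Lib.GrStar2H1.quotGr 𝒥 K) :=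
      comap_isHomogeneous (Groth.Agent.Lib.GrStar2H1.quotGr 𝒥 K) 𝒥 hψgr hP
    have hP10 : P.comap ψ ≠ ⊥ := by
      obtain ⟨p, hp, hp0⟩ := Submodule.exists_mem_ne_zero_of_ne_bot hP0
      obtain ⟨q, rfl⟩ := hPle hp
      intro hb
      have : q ∈ P.comap ψ := hp
      rw [hb, Submodule.mem_bot] at this
      exact hp0 (by rw [this, map_zero])
    have h4 := hφess.essential _ hP1 hP10
    obtain ⟨q, hq, hq0⟩ := Submodule.exists_mem_ne_zero_of_ne_bot h4
    obtain ⟨hq1, ⟨e, rfl⟩⟩ := hq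
    have he0 : (e : J) ≠ 0 := by
      intro h
      apply hq0
      rw [show e = 0 from Subtype.ext h, map_zero]
    have heP : (e : J) ∈ P := by
      have := hq1
      rw [SetLike.mem_coe, Submodule.mem_comap, hψφ] at this
      exact this
    have h5 := hEess.2 (P ⊓ E) inf_le_right (isHomogeneous_inf 𝒥 hP hEhom) (by
      intro hb
      have : (e : J) ∈ P ⊓ E := ⟨heP, e.2⟩
      rw [hb] at this
      exact he0 (by simpa using this))
    intro hb
    apply h5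
    rw [eq_bot_iff, ← hb]
    exact fun x hx => ⟨hx.1.1, hx.2⟩
  refine ⟨disjoint_iff.2 (by rw [inf_comm]; exact hKE), codisjoint_iff.2 ?_⟩
  rw [eq_top_iff]
  intro j _
  have hj : ψ (K.mkQ j) ∈ E := hrange ⟨_, rfl⟩
  have h6 : K.mkQ j = φ ⟨_, hj⟩ := hψinj (by rw [hψφ])
  rw [hφapp] at h6
  have h7 : j - ψ (K.mkQ j) ∈ K := by
    rw [← Submodule.Quotient.mk_eq_zero, Submodule.Quotient.mk_sub]
    exact sub_eq_zero.2 h6
  have : j = ψ (K.mkQ j) + (j - ψ (K.mkQ j)) := by abel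
  rw [this]
  exact Submodule.add_mem_sup hj h7

variable {𝒥} in
omit [SetLike.GradedSMul 𝒜 𝒥] [GradedRing 𝒜] in
/-- the projection onto a homogeneous summand is graded -/
theorem proj_isGrHom {E K : Submodule R J} (hE : E.IsHomogeneous 𝒥) (hK : K.IsHomogeneous 𝒥)
    (hc : IsCompl E K) : IsGrHom 𝒥 (subGr 𝒥 E) (Submodule.projectionOnto E K hc) := by
  intro g x hx
  rw [mem_subGr]
  obtain ⟨e, he⟩ : ∃ e : E, e = Submodule.projectionOnto E K hc x := ⟨_, rfl⟩
  rw [← he]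
  have h1 : x - (e : J) ∈ K := by
    have : Submodule.projectionOnto E K hc (x - (e : J)) = 0 := by
      rw [map_sub, Submodule.projectionOnto_apply_left, he, sub_self]
    exact (Submodule.projectionOnto_apply_eq_zero_iff hc).1 this
  have h2 : (decompose 𝒥 (x - (e : J)) g : J) ∈ K := hK g h1
  rw [decompose_sub, DirectSum.sub_apply, AddSubgroup.coe_sub, decompose_of_mem_same 𝒥 hx] at h2
  have h3 : (decompose 𝒥 (e : J) g : J) ∈ E := hE g e.2
  have h4 : (e : J) - (decompose 𝒥 (e : J) g : J) ∈ E ⊓ K := by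
    refine ⟨E.sub_mem e.2 h3, ?_⟩
    have : (e : J) - (decompose 𝒥 (e : J) g : J) =
        (x - (decompose 𝒥 (e : J) g : J)) - (x - (e : J)) := by abel
    rw [this]
    exact K.sub_mem h2 h1
  rw [hc.inf_eq_bot, Submodule.mem_bot, sub_eq_zero] at h4
  rw [h4]
  exact (decompose 𝒥 (e : J) g).2

/-- a homogeneous direct summand of a *injective module is *injective -/
theorem summand_starInj (hJ : IsStarInj 𝒜 𝒥) {E K : Submodule R J} (hE : E.IsHomogeneous 𝒥)
    (hK : K.IsHomogeneous 𝒥) (hc : IsCompl E K) :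
    letI := subDecomp 𝒥 E hE
    letI := sub_gsmul 𝒜 𝒥 E
    IsStarInj 𝒜 (subGr 𝒥 E) := by
  intro A B f' hf' hinj' g hg
  have hg' : IsGrHom A.gr 𝒥 (E.subtype ∘ₗ g) := fun i a ha => hg i a ha
  obtain ⟨h, hhgr, hh⟩ := hJ A B f' hf' hinj' (E.subtype ∘ₗ g) hg'
  refine ⟨Submodule.projectionOnto E K hc ∘ₗ h,
    fun i b hb => proj_isGrHom hE hK hc i _ (hhgr i b hb), ?_⟩
  rw [LinearMap.comp_assoc, hh]
  ext a
  rw [LinearMap.comp_apply, LinearMap.comp_apply, Submodule.subtype_apply,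
    Submodule.projectionOnto_apply_left]

/-- a homogeneous submodule, bundled as a graded module -/
noncomputable def subGMod (E : Submodule R J) (hE : E.IsHomogeneous 𝒥) : GMod.{u} 𝒜 :=
  letI := subDecomp 𝒥 E hE
  letI := sub_gsmul 𝒜 𝒥 E
  { carrier := E, gr := subGr 𝒥 E }

end summand

/-! ### S13223 and S13222 -/
section structure_thm

variable {I : Type u} [AddCommGroup I] [Module R I] (ℐ : ι → AddSubgroup I) [Decomposition ℐ]
  [SetLike.GradedSMul 𝒜 ℐ]

theorem main13223_aux (hI : IsStarInj 𝒜 ℐ) (q : HomogeneousIdeal 𝒜) [q.toIdeal.IsPrime] (g₀ : ι)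
    (m : I) (hm : m ∈ ℐ g₀) (hann : (Submodule.span R {m}).annihilator = q.toIdeal) :
    ∃ (E K : Submodule R I) (hE : E.IsHomogeneous ℐ) (f : (R ⧸ q.toIdeal) →ₗ[R] E),
      K.IsHomogeneous ℐ ∧ IsCompl (LinearMap.range E.subtype) K ∧ ((f 1 : E) : I) = m ∧
      (letI := subDecomp ℐ E hE
       letI := sub_gsmul 𝒜 ℐ E
       IsStarInjHull 𝒜 (fun j : ι => GrLC.quotGr 𝒜 q (j - g₀)) (subGr ℐ E) f) := by
  classical
  have hM'hom : (Submodule.span R {m}).IsHomogeneous ℐ := span_singleton_isHomogeneous 𝒜 ℐ hm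
  obtain ⟨E, K, hEhom, hKhom, hME, hc, hess⟩ := exists_summand_ess 𝒜 ℐ hI _ hM'hom
  have hmE : m ∈ E := hME (Submodule.mem_span_singleton_self m)
  have hannm : ∀ s : R, s • m = 0 ↔ s ∈ q.toIdeal := by
    intro s
    rw [← hann, Submodule.mem_annihilator_span_singleton]
  letI := subDecomp ℐ E hEhom
  letI := sub_gsmul 𝒜 ℐ E
  have hker : q.toIdeal ≤ LinearMap.ker (LinearMap.toSpanSingleton R E ⟨m, hmE⟩) := by
    intro s hs
    rw [LinearMap.mem_ker, LinearMap.toSpanSingleton_apply]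
    apply Subtype.ext
    rw [Submodule.coe_smul, Submodule.coe_zero]
    exact (hannm s).2 hs
  obtain ⟨f, hf⟩ : ∃ f : (R ⧸ q.toIdeal) →ₗ[R] E,
      f = Submodule.liftQ q.toIdeal (LinearMap.toSpanSingleton R E ⟨m, hmE⟩) hker := ⟨_, rfl⟩
  have hfmk : ∀ s : R, ((f (Ideal.Quotient.mk q.toIdeal s) : E) : I) = s • m := by
    intro s
    rw [hf]
    change ((Submodule.liftQ q.toIdeal _ hker (Submodule.Quotient.mk s) : E) : I) = _
    rw [Submodule.liftQ_apply, LinearMap.toSpanSingleton_apply]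
    rfl
  refine ⟨E, K, hEhom, f, hKhom, ?_, ?_, ⟨⟨?_, ?_, ?_⟩, ?_⟩⟩
  · rw [Submodule.range_subtype]
    exact hc
  · change ((f (Ideal.Quotient.mk q.toIdeal 1) : E) : I) = m
    rw [hfmk, one_smul]
  · -- injective
    rw [injective_iff_map_eq_zero]
    intro x hx
    obtain ⟨s, rfl⟩ := Ideal.Quotient.mk_surjective x
    have := hfmk s
    rw [hx, Submodule.coe_zero] at this
    exact Ideal.Quotient.eq_zero_iff_mem.2 ((hannm s).1 this.symm)
  · -- graded
    rintro j _ ⟨s, hs, rfl⟩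
    change f (Ideal.Quotient.mk q.toIdeal s) ∈ subGr ℐ E j
    rw [mem_subGr, hfmk]
    have hs' : s ∈ 𝒜 (j - g₀) := hs
    have := smul_mem_gr 𝒜 ℐ hs' hm
    rwa [sub_add_cancel] at this
  · -- essential
    intro P hP hP0
    have hP'hom : (P.map E.subtype).IsHomogeneous ℐ :=
      map_isHomogeneous (subGr ℐ E) ℐ (subtype_isGrHom ℐ E) hP
    have hP'le : P.map E.subtype ≤ E := by
      rintro _ ⟨z, _, rfl⟩
      exact z.2
    have hP'0 : P.map E.subtype ≠ ⊥ := by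
      obtain ⟨z, hz, hz0⟩ := Submodule.exists_mem_ne_zero_of_ne_bot hP0
      intro hb
      have : (z : I) ∈ P.map E.subtype := ⟨z, hz, rfl⟩
      rw [hb, Submodule.mem_bot] at this
      exact hz0 (Subtype.ext this)
    have h1 := hess.2 _ hP'le hP'hom hP'0
    obtain ⟨y, hy, hy0⟩ := Submodule.exists_mem_ne_zero_of_ne_bot h1
    obtain ⟨⟨z, hz, rfl⟩, hy2⟩ := hy
    obtain ⟨s, hs⟩ := Submodule.mem_span_singleton.1 hy2
    have hzf : z = f (Ideal.Quotient.mk q.toIdeal s) := by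
      apply Subtype.ext
      rw [hfmk, hs]
      rfl
    intro hb
    have : z ∈ P ⊓ LinearMap.range f := ⟨hz, ⟨_, hzf.symm⟩⟩
    rw [hb, Submodule.mem_bot] at this
    apply hy0
    rw [this]
    rfl
  · exact summand_starInj 𝒜 ℐ hI hEhom hKhom hc

theorem main13223 (hI : IsStarInj 𝒜 ℐ) (q : HomogeneousIdeal 𝒜) [q.toIdeal.IsPrime] (g₀ : ι)
    (m : I) (hm : m ∈ ℐ g₀) (hann : (Submodule.span R {m}).annihilator = q.toIdeal) :
    ∃ (X : GMod.{u} 𝒜) (f : (R ⧸ q.toIdeal) →ₗ[R] X.carrier) (ψ : X.carrier →ₗ[R] I)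
      (Q : Submodule R I),
      IsStarInjHull 𝒜 (fun j : ι => GrLC.quotGr 𝒜 q (j - g₀)) X.gr f ∧ Function.Injective ψ ∧
        IsGrHom X.gr ℐ ψ ∧ ψ (f 1) = m ∧ Q.IsHomogeneous ℐ ∧ IsCompl (LinearMap.range ψ) Q := by
  obtain ⟨E, K, hE, f, hK, hc, hf1, hhull⟩ := main13223_aux 𝒜 ℐ hI q g₀ m hm hann
  exact ⟨subGMod 𝒜 ℐ E hE, f, E.subtype, K, hhull, E.injective_subtype, subtype_isGrHom ℐ E, hf1, hK,
    hc⟩

theorem main13222 [IsNoetherianRing R] [Module.Free ℤ ι] [Module.Finite ℤ ι] (hI : IsStarInj 𝒜 ℐ)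
    (hind : IsStarIndec R ℐ) :
    ∃ (q : HomogeneousIdeal 𝒜) (g₀ : ι) (f : (R ⧸ q.toIdeal) →ₗ[R] I), q.toIdeal.IsPrime ∧
      IsStarInjHull 𝒜 (fun j : ι => GrLC.quotGr 𝒜 q (j - g₀)) ℐ f := by
  classical
  obtain ⟨hnt, hsplit⟩ := hind
  obtain ⟨x, hx0⟩ := exists_ne (0 : I)
  obtain ⟨g₁, hg₁⟩ := exists_decompose_ne_zero ℐ hx0
  -- the set of annihilators of nonzero homogeneous elements
  obtain ⟨S, hS⟩ : ∃ S : Set (Ideal R), S = {a | ∃ (g₀ : ι) (m : I), m ∈ ℐ g₀ ∧ m ≠ 0 ∧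
      a = (Submodule.span R {m}).annihilator} := ⟨_, rfl⟩
  have hSne : S.Nonempty := by
    rw [hS]
    exact ⟨_, g₁, _, (decompose ℐ x g₁).2, hg₁, rfl⟩
  obtain ⟨a, haS, hamax⟩ := set_has_maximal_iff_noetherian.2 inferInstance S hSne
  rw [hS] at haS
  obtain ⟨g₀, m, hm, hm0, rfl⟩ := haS
  have hannm : ∀ s : R, s ∈ (Submodule.span R {m}).annihilator ↔ s • m = 0 :=
    fun s => Submodule.mem_annihilator_span_singleton m s
  have hhom : ((Submodule.span R {m}).annihilator).IsHomogeneous 𝒜 := by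
    intro i r hr
    rw [hannm] at hr ⊢
    have := decompose_smul_of_mem 𝒜 ℐ hm r (i + g₀)
    rw [hr, decompose_zero, DirectSum.zero_apply, ZeroMemClass.coe_zero, add_sub_cancel_right] at this
    exact this.symm
  have hne : (Submodule.span R {m}).annihilator ≠ ⊤ := by
    intro h
    apply hm0
    have : (1 : R) ∈ (Submodule.span R {m}).annihilator := h ▸ Submodule.mem_top
    rw [hannm, one_smul] at this
    exact this
  have hprime : ((Submodule.span R {m}).annihilator).IsPrime := by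
    apply isPrime_of_homog_cond 𝒜 hhom hne
    intro x y hxh hyh hxy
    obtain ⟨j, hy⟩ := hyh
    by_cases hym : y • m = 0
    · exact Or.inr ((hannm y).2 hym)
    · left
      have hle : (Submodule.span R {m}).annihilator ≤ (Submodule.span R {y • m}).annihilator := by
        intro s hs
        rw [hannm] at hs
        rw [Submodule.mem_annihilator_span_singleton, smul_comm, hs, smul_zero]
      have hmem : (Submodule.span R {y • m}).annihilator ∈ S := by
        rw [hS]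
        exact ⟨j + g₀, y • m, smul_mem_gr 𝒜 ℐ hy hm, hym, rfl⟩
      have heq : (Submodule.span R {m}).annihilator = (Submodule.span R {y • m}).annihilator := by
        by_contra hne'
        exact hamax _ hmem (lt_of_le_of_ne hle hne')
      rw [heq, Submodule.mem_annihilator_span_singleton, ← mul_smul]
      exact (hannm _).1 hxy
  obtain ⟨q, hq⟩ : ∃ q : HomogeneousIdeal 𝒜, q.toIdeal = (Submodule.span R {m}).annihilator :=
    ⟨⟨_, hhom⟩, rfl⟩
  haveI : q.toIdeal.IsPrime := hq ▸ hprime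
  obtain ⟨X, f, ψ, Q, hhull, hψinj, hψgr, hψf, hQhom, hc⟩ :=
    main13223 𝒜 ℐ hI q g₀ m hm hq.symm
  have hrange_hom : (LinearMap.range ψ).IsHomogeneous ℐ := range_isHomogeneous X.gr ℐ hψgr
  have hQ : Q = ⊥ := by
    rcases hsplit _ _ hrange_hom hQhom hc with h | h
    · exfalso
      apply hm0
      have : m ∈ LinearMap.range ψ := ⟨_, hψf⟩
      rw [h] at this
      simpa using this
    · exact h
  rw [hQ] at hc
  have hψsurj : Function.Surjective ψ := LinearMap.range_eq_top.1 (eq_top_of_isCompl_bot hc)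
  refine ⟨q, g₀, ψ ∘ₗ f, inferInstance, ⟨⟨?_, ?_, ?_⟩, hI⟩⟩
  · exact hψinj.comp hhull.injective
  · intro j y hy
    exact hψgr j _ (hhull.grHom j y hy)
  · intro P hP hP0
    have hP1 : (P.comap ψ).IsHomogeneous X.gr := comap_isHomogeneous X.gr ℐ hψgr hP
    have hP10 : P.comap ψ ≠ ⊥ := by
      obtain ⟨p, hp, hp0⟩ := Submodule.exists_mem_ne_zero_of_ne_bot hP0
      obtain ⟨z, rfl⟩ := hψsurj p
      intro hb
      have : z ∈ P.comap ψ := hp
      rw [hb, Submodule.mem_bot] at this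
      exact hp0 (by rw [this, map_zero])
    have h1 := hhull.essential _ hP1 hP10
    obtain ⟨z, hz, hz0⟩ := Submodule.exists_mem_ne_zero_of_ne_bot h1
    obtain ⟨hz1, ⟨y, rfl⟩⟩ := hz
    intro hb
    have : ψ (f y) ∈ P ⊓ LinearMap.range (ψ ∘ₗ f) := ⟨hz1, ⟨y, rfl⟩⟩
    rw [hb, Submodule.mem_bot] at this
    exact hz0 (hψinj (by rw [this, map_zero]))

end structure_thm

/-! ### S13225 -/
section hgr

variable {X : Type u} [AddCommGroup X] [Module R X] (𝒳 : ι → AddSubgroup X) [Decomposition 𝒳]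
  [SetLike.GradedSMul 𝒜 𝒳]

theorem pow_isHomogeneous (a : HomogeneousIdeal 𝒜) (n : ℕ) : (a.toIdeal ^ n).IsHomogeneous 𝒜 := by
  induction n with
  | zero =>
    rw [pow_zero, Ideal.one_eq_top]
    exact Ideal.IsHomogeneous.top 𝒜
  | succ n ih =>
    rw [pow_succ]
    exact ih.mul a.isHomogeneous

theorem gam_isHomogeneous (a : HomogeneousIdeal 𝒜) : (GrLC.gam a.toIdeal X).IsHomogeneous 𝒳 := by
  classical
  rintro k x ⟨n, hn⟩
  refine ⟨n, fun r hr => ?_⟩
  rw [← DirectSum.sum_support_decompose 𝒜 r, Finset.sum_smul]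
  refine Finset.sum_eq_zero (fun j _ => ?_)
  have hj : (decompose 𝒜 r j : R) ∈ a.toIdeal ^ n := pow_isHomogeneous 𝒜 a n j hr
  rw [← decompose_smul_homog 𝒜 𝒳 (decompose 𝒜 r j).2, hn _ hj, decompose_zero, DirectSum.zero_apply,
    ZeroMemClass.coe_zero]

end hgr

theorem main13225 {M : Type u} [AddCommGroup M] [Module R M] (ℳ : ι → AddSubgroup M)
    [Decomposition ℳ] [SetLike.GradedSMul 𝒜 ℳ] (a : HomogeneousIdeal 𝒜) (E : StarInjRes 𝒜 ℳ)
    (i : ℕ) : DirectSum.IsInternal (E.Hgr a i) := by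
  have hZ : (E.cocyc a i).IsHomogeneous (E.X i).gr :=
    isHomogeneous_inf (E.X i).gr (gam_isHomogeneous 𝒜 (E.X i).gr a)
      (ker_isHomogeneous (E.X i).gr (E.X (i + 1)).gr (E.d_grHom i))
  have hB : (E.cobdy a i).IsHomogeneous (E.X i).gr := by
    cases i with
    | zero => exact isHomogeneous_bot (E.X 0).gr
    | succ n =>
      exact map_isHomogeneous (E.X n).gr (E.X (n + 1)).gr (E.d_grHom n)
        (gam_isHomogeneous 𝒜 (E.X n).gr a)
  letI := subDecomp (E.X i).gr (E.cocyc a i) hZ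
  have hB' : ((E.cobdy a i).comap (E.cocyc a i).subtype).IsHomogeneous
      (subGr (E.X i).gr (E.cocyc a i)) :=
    comap_isHomogeneous (subGr (E.X i).gr (E.cocyc a i)) (E.X i).gr
      (subtype_isGrHom (E.X i).gr (E.cocyc a i)) hB
  letI := quotDecomp (subGr (E.X i).gr (E.cocyc a i)) ((E.cobdy a i).comap (E.cocyc a i).subtype) hB'
  have heq : E.Hgr a i = Groth.Agent.Lib.GrStar2H1.quotGr (subGr (E.X i).gr (E.cocyc a i))
      ((E.cobdy a i).comap (E.cocyc a i).subtype) := by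
    funext g
    ext x
    constructor
    · rintro ⟨z, hz, rfl⟩
      exact ⟨z, hz, rfl⟩
    · rintro ⟨z, hz, rfl⟩
      exact ⟨z, hz, rfl⟩
  rw [heq]
  exact Decomposition.isInternal _

end Groth.Agent.Lib.GrStar4H1
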