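import Mathlib
import Groth.Prelude.Def_GrLC
import Groth.Prelude.Def_Wider
import Groth.Agent.Lib.GrExt_helper1
import Groth.Agent.Lib.GrStar4_helper1

/-! Bridge from the derived-category `Abelian.Ext` to the projective-resolution `Ext` used in Mathlib's
local cohomology, and vanishing of local cohomology of *injective modules (helper1). -/

set_option autoImplicit false

namespace Groth.Agent.Lib.OldExtH1

open CategoryTheory Limits Opposite

universe u

section general

theorem isZero_colimit {C : Type*} [Category C] [HasZeroMorphisms C] {J : Type*} [Category J]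
    (G : J ⥤ C) [HasColimit G] (h : ∀ j, IsZero (G.obj j)) : IsZero (colimit G) := by
  rw [IsZero.iff_id_eq_zero]
  apply colimit.hom_ext
  intro j
  exact (h j).eq_of_src _ _

variable {R : Type u} [CommRing R]

/-- vanishing of the derived-category Ext implies vanishing of the projective-resolution Ext -/
theorem isZero_oldExt_of_subsingleton (X Y : ModuleCat.{u} R) (m : ℕ)
    (h : Subsingleton (Abelian.Ext.{u} X Y (m + 1))) :
    IsZero (((Ext R (ModuleCat.{u} R) (m + 1)).obj (op X)).obj Y) := by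
  let P : ProjectiveResolution X := ProjectiveResolution.of X
  refine IsZero.of_iso ?_ (P.isoExt (m + 1) Y)
  rw [← HomologicalComplex.exactAt_iff_isZero_homology,
    HomologicalComplex.exactAt_iff' _ m (m + 1) (m + 2) (by simp) (by simp),
    ShortComplex.moduleCat_exact_iff]
  intro x₂ hx₂
  have hcoc : P.complex.d (m + 2) (m + 1) ≫ (x₂ : P.complex.X (m + 1) ⟶ Y) = 0 := hx₂
  have hz : P.extMk (x₂ : P.complex.X (m + 1) ⟶ Y) (m + 2) rfl hcoc = 0 := Subsingleton.elim _ _
  obtain ⟨g, hg⟩ := (P.extMk_eq_zero_iff _ (m + 2) rfl hcoc m rfl).mp hz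
  exact ⟨g, hg⟩

/-- local cohomology vanishes when all the relevant Ext groups do -/
theorem subsingleton_localCohomology (J : Ideal R) (m : ℕ) (Y : Type u) [AddCommGroup Y] [Module R Y]
    (h : ∀ k : ℕ, Subsingleton (Abelian.Ext.{u} (ModuleCat.of R (R ⧸ J ^ k)) (ModuleCat.of R Y) (m + 1))) :
    Subsingleton (LocCoh.H J (m + 1) Y) := by
  apply ModuleCat.subsingleton_of_isZero
  show IsZero ((colimit (localCohomology.diagram (localCohomology.idealPowersDiagram J) (m + 1))).obj
    (ModuleCat.of R Y))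
  refine IsZero.of_iso (isZero_colimit _ (fun j => ?_)) (colimitObjIsoColimitCompEvaluation _ _)
  show IsZero (((Ext R (ModuleCat.{u} R) (m + 1)).obj
    (op (ModuleCat.of R (R ⧸ J ^ (unop (unop j)))))).obj (ModuleCat.of R Y))
  exact isZero_oldExt_of_subsingleton _ _ m (h _)

end general

section graded

open DirectSum GrLC Groth.Agent.Lib.GrStarH1 Groth.Agent.Lib.GrStar2H1 Groth.Agent.Lib.GrExtH1

theorem main13217 {ι : Type} [AddCommGroup ι] [DecidableEq ι] [Module.Free ℤ ι] [Module.Finite ℤ ι]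
    (R : Type u) [CommRing R] [IsNoetherianRing R] (𝒜 : ι → AddSubgroup R) [GradedRing 𝒜]
    (a : HomogeneousIdeal 𝒜) (I : Type u) [AddCommGroup I] [Module R I] (ℐ : ι → AddSubgroup I)
    [DirectSum.Decomposition ℐ] [SetLike.GradedSMul 𝒜 ℐ] (hI : GrLC.IsStarInj 𝒜 ℐ)
    (i : ℕ) (hi : 1 ≤ i) : Subsingleton (LocCoh.H a.toIdeal i I) := by
  obtain ⟨m, rfl⟩ : ∃ m, i = m + 1 := ⟨i - 1, by omega⟩
  apply subsingleton_localCohomology
  intro k
  have hP : (a.toIdeal ^ k).IsHomogeneous 𝒜 := GrStar4H1.pow_isHomogeneous 𝒜 a k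
  exact @ext_subsingleton_aux ι _ _ R _ 𝒜 _ _ I _ _ ℐ _ _ hI m (R ⧸ a.toIdeal ^ k) _ _
    (Groth.Agent.Lib.GrStar2H1.quotGr 𝒜 (a.toIdeal ^ k))
    (quotDecomp 𝒜 (a.toIdeal ^ k) hP) (quot_gsmul 𝒜 𝒜 (a.toIdeal ^ k)) inferInstance

end graded

end Groth.Agent.Lib.OldExtH1
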