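import Mathlib
import Groth.Prelude.Def_GrLC
import Groth.Prelude.Def_Wider
import Groth.Agent.Lib.LocCohDeltaZero_helper7
import Groth.Agent.Lib.OldExt_helper1

/-! A resolution by modules acyclic for local cohomology computes local cohomology (helper1),
using helper7's long exact sequence of local cohomology. -/

set_option autoImplicit false

namespace Groth.Agent.Lib.AcycResH1

open CategoryTheory Limits Opposite
open Groth.Agent.Lib.InjHull_helper3 Groth.Agent.Lib.LocCohDeltaZeroH7 Groth.Agent.Lib.LocCohLESH7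

universe u

variable {R : Type u} [CommRing R] (K : Ideal R)

theorem gam_eq_Γ (X : Type u) [AddCommGroup X] [Module R X] : GrLC.gam K X = Γ K X := by
  ext x
  rw [mem_Γ_iff]
  rfl

section res

variable (X : ℕ → Type u) [∀ n, AddCommGroup (X n)] [∀ n, Module R (X n)]
  (d : ∀ n, X n →ₗ[R] X (n + 1))
  (exact_succ : ∀ n : ℕ, LinearMap.ker (d (n + 1)) = LinearMap.range (d n))

/-- the cocycle modules -/
abbrev Z (n : ℕ) : Submodule R (X n) := LinearMap.ker (d n)

include exact_succ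

theorem d_mem (n : ℕ) (x : X n) : d n x ∈ Z X d (n + 1) := by
  show d n x ∈ LinearMap.ker (d (n + 1))
  rw [exact_succ n]
  exact ⟨x, rfl⟩

/-- `X n → Z (n+1)` -/
def gmap (n : ℕ) : X n →ₗ[R] Z X d (n + 1) :=
  (d n).codRestrict (Z X d (n + 1)) (d_mem X d exact_succ n)

theorem gmap_surjective (n : ℕ) : Function.Surjective (gmap X d exact_succ n) := by
  rintro ⟨z, hz⟩
  have hz' : z ∈ LinearMap.range (d n) := by rw [← exact_succ n]; exact hz
  obtain ⟨x, rfl⟩ := hz'
  exact ⟨x, rfl⟩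

theorem gmap_exact (n : ℕ) :
    Function.Exact (Z X d n).subtype (gmap X d exact_succ n) := by
  intro x
  constructor
  · intro h
    have h' : d n x = 0 := congrArg Subtype.val h
    exact ⟨⟨x, h'⟩, rfl⟩
  · rintro ⟨y, rfl⟩
    apply Subtype.ext
    exact y.2

/-- the short complex `0 → Z n → X n → Z (n+1) → 0` -/
noncomputable def sc (n : ℕ) : ShortComplex (ModuleCat.{u} R) :=
  ShortComplex.mk (ModuleCat.ofHom (Z X d n).subtype) (ModuleCat.ofHom (gmap X d exact_succ n))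
    (by
      apply ModuleCat.hom_ext
      apply LinearMap.ext
      intro y
      exact (gmap_exact X d exact_succ n).apply_apply_eq_zero y)

theorem sc_shortExact (n : ℕ) : (sc X d exact_succ n).ShortExact :=
  ModuleCat.shortComplex_shortExact _ (gmap_exact X d exact_succ n) (Z X d n).injective_subtype
    (gmap_surjective X d exact_succ n)

variable (hacyc : ∀ (n i : ℕ), 1 ≤ i → Subsingleton (LocCoh.H K i (X n)))

include hacyc in
/-- dimension shifting along the resolution -/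
theorem shift_equiv : ∀ (n p q : ℕ), q = p + 1 + n →
    Nonempty (LocCoh.H K (p + 1) (Z X d n) ≃ₗ[R] LocCoh.H K q (Z X d 0)) := by
  intro n
  induction n with
  | zero =>
    intro p q hq
    subst hq
    exact ⟨LinearEquiv.refl _ _⟩
  | succ n ih =>
    intro p q hq
    obtain ⟨e⟩ := ih (p + 1) q (by omega)
    have hb := δ_bijective K (sc_shortExact X d exact_succ n) p
      (hacyc n (p + 1) (by omega)) (hacyc n (p + 2) (by omega))
    exact ⟨(LinearEquiv.ofBijective (δ K (sc_shortExact X d exact_succ n) p).hom hb).trans e⟩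

/-- the comparison map from cocycles to `H^1(Z n)` -/
noncomputable def Ψ (n : ℕ) :
    ↥(GrLC.gam K (X (n + 1)) ⊓ LinearMap.ker (d (n + 1))) →ₗ[R] LocCoh.H K 1 (Z X d n) :=
  (cMap K (Z X d n).subtype (gmap X d exact_succ n) (Z X d n).injective_subtype
    (gmap_surjective X d exact_succ n) (gmap_exact X d exact_succ n)).comp
    (LinearMap.codRestrict (Γ K (Z X d (n + 1)))
      (LinearMap.codRestrict (Z X d (n + 1))
        (GrLC.gam K (X (n + 1)) ⊓ LinearMap.ker (d (n + 1))).subtype (fun z => z.2.2))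
      (fun z => by
        rw [mem_Γ_iff]
        obtain ⟨k, hk⟩ := z.2.1
        exact ⟨k, fun a ha => Subtype.ext (hk a ha)⟩))

include hacyc in
theorem Ψ_surjective (n : ℕ) : Function.Surjective (Ψ K X d exact_succ n) := by
  intro y
  obtain ⟨q, hq⟩ := cMap_surjective K (Z X d n).subtype (gmap X d exact_succ n)
    (Z X d n).injective_subtype (gmap_surjective X d exact_succ n) (gmap_exact X d exact_succ n)
    (hacyc n 1 le_rfl) y
  have hq2 := (mem_Γ_iff K q.1).mp q.2
  refine ⟨⟨q.1.1, ?_, q.1.2⟩, hq⟩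
  obtain ⟨k, hk⟩ := hq2
  exact ⟨k, fun a ha => congrArg Subtype.val (hk a ha)⟩

theorem Ψ_ker (n : ℕ) : LinearMap.ker (Ψ K X d exact_succ n) =
    ((GrLC.gam K (X n)).map (d n)).comap
      (GrLC.gam K (X (n + 1)) ⊓ LinearMap.ker (d (n + 1))).subtype := by
  ext z
  rw [LinearMap.mem_ker, Submodule.mem_comap]
  unfold Ψ
  rw [LinearMap.comp_apply, cMap_eq_zero_iff]
  constructor
  · rintro ⟨y, hy, hgy⟩
    refine ⟨y, ?_, congrArg Subtype.val hgy⟩
    rw [gam_eq_Γ]; exact hy
  · rintro ⟨y, hy, hgy⟩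
    refine ⟨y, ?_, Subtype.ext hgy⟩
    rw [← gam_eq_Γ]; exact hy

include hacyc in
theorem succ_equiv_Z (n : ℕ) :
    Nonempty ((↥(GrLC.gam K (X (n + 1)) ⊓ LinearMap.ker (d (n + 1))) ⧸
      ((GrLC.gam K (X n)).map (d n)).comap
        (GrLC.gam K (X (n + 1)) ⊓ LinearMap.ker (d (n + 1))).subtype) ≃ₗ[R]
      LocCoh.H K (n + 1) (Z X d 0)) := by
  obtain ⟨e⟩ := shift_equiv K X d exact_succ hacyc n 0 (n + 1) (by omega)
  have e1 := (Ψ K X d exact_succ n).quotKerEquivOfSurjective (Ψ_surjective K X d exact_succ hacyc n)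
  have e2 := Submodule.quotEquivOfEq _ _ (Ψ_ker K X d exact_succ n)
  exact ⟨(e2.symm.trans e1).trans e⟩

end res

section full

variable (X : ℕ → Type u) [∀ n, AddCommGroup (X n)] [∀ n, Module R (X n)]
  (d : ∀ n, X n →ₗ[R] X (n + 1))
  (exact_succ : ∀ n : ℕ, LinearMap.ker (d (n + 1)) = LinearMap.range (d n))
  {M : Type u} [AddCommGroup M] [Module R M] (ε : M →ₗ[R] X 0) (hε : Function.Injective ε)
  (exact_zero : LinearMap.ker (d 0) = LinearMap.range ε)
  (hacyc : ∀ (n i : ℕ), 1 ≤ i → Subsingleton (LocCoh.H K i (X n)))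

include hε exact_zero in
theorem equiv_Z0 : Nonempty (M ≃ₗ[R] Z X d 0) :=
  ⟨(LinearEquiv.ofInjective ε hε).trans (LinearEquiv.ofEq _ _ exact_zero.symm)⟩

include hε exact_zero in
theorem H_equiv_Z0 (i : ℕ) : Nonempty (LocCoh.H K i (Z X d 0) ≃ₗ[R] LocCoh.H K i M) := by
  obtain ⟨e⟩ := equiv_Z0 X d ε hε exact_zero
  exact ⟨(((localCohomology K i).mapIso e.toModuleIso).symm).toLinearEquiv⟩

include exact_succ hε exact_zero hacyc in
theorem succ_equiv (n : ℕ) :
    Nonempty ((↥(GrLC.gam K (X (n + 1)) ⊓ LinearMap.ker (d (n + 1))) ⧸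
      ((GrLC.gam K (X n)).map (d n)).comap
        (GrLC.gam K (X (n + 1)) ⊓ LinearMap.ker (d (n + 1))).subtype) ≃ₗ[R]
      LocCoh.H K (n + 1) M) := by
  obtain ⟨e⟩ := succ_equiv_Z K X d exact_succ hacyc n
  obtain ⟨e'⟩ := H_equiv_Z0 K X d ε hε exact_zero (n + 1)
  exact ⟨e.trans e'⟩

include hε exact_zero in
theorem zero_equiv :
    Nonempty ((↥(GrLC.gam K (X 0) ⊓ LinearMap.ker (d 0)) ⧸
      (⊥ : Submodule R (X 0)).comap (GrLC.gam K (X 0) ⊓ LinearMap.ker (d 0)).subtype) ≃ₗ[R]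
      LocCoh.H K 0 M) := by
  obtain ⟨e0⟩ := H0_equiv' K M
  have hbot : (⊥ : Submodule R (X 0)).comap (GrLC.gam K (X 0) ⊓ LinearMap.ker (d 0)).subtype = ⊥ := by
    rw [Submodule.comap_bot, Submodule.ker_subtype]
  have e1 := Submodule.quotEquivOfEqBot _ hbot
  -- `Γ K M ≃ gam ⊓ ker`
  let φ : ↥(Γ K M) →ₗ[R] ↥(GrLC.gam K (X 0) ⊓ LinearMap.ker (d 0)) :=
    { toFun := fun m => ⟨ε m.1, by
        obtain ⟨k, hk⟩ := (mem_Γ_iff K m.1).mp m.2
        exact ⟨k, fun a ha => by rw [← map_smul, hk a ha, map_zero]⟩, by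
        show ε m.1 ∈ LinearMap.ker (d 0)
        rw [exact_zero]; exact ⟨_, rfl⟩⟩
      map_add' := fun a b => Subtype.ext (map_add ε a.1 b.1)
      map_smul' := fun r a => Subtype.ext (map_smul ε r a.1) }
  have hφinj : Function.Injective φ := by
    intro a b hab
    apply Subtype.ext
    exact hε (congrArg Subtype.val hab)
  have hφsurj : Function.Surjective φ := by
    rintro ⟨x, hx1, hx2⟩
    have hx2' : x ∈ LinearMap.range ε := by rw [← exact_zero]; exact hx2
    obtain ⟨m, rfl⟩ := hx2'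
    refine ⟨⟨m, ?_⟩, rfl⟩
    rw [mem_Γ_iff]
    obtain ⟨k, hk⟩ := hx1
    exact ⟨k, fun a ha => hε (by rw [map_smul, hk a ha, map_zero])⟩
  exact ⟨(e1.trans (LinearEquiv.ofBijective φ ⟨hφinj, hφsurj⟩).symm).trans e0.symm⟩

end full

end Groth.Agent.Lib.AcycResH1
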