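import Mathlib
import Groth.Prelude.Def_GrLC
import Groth.Prelude.Def_GrLC2
import Groth.Agent.Lib.GrStar3_helper1

/-! Zeroth Bass numbers and the number of copies of `*E(R/p)` in a *injective hull (helper1). -/

set_option autoImplicit false

namespace Groth.Agent.Lib.BassZeroH1

open DirectSum GrLC CategoryTheory
open Groth.Agent.Lib.GrStarH1 Groth.Agent.Lib.GrStar2H1 Groth.Agent.Lib.GrStar3H1

universe u

section basic

variable {R : Type u} [CommRing R] (p : Ideal R) [p.IsPrime]
variable {E : Type u} [AddCommGroup E] [Module R E]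
variable {M : Type u} [AddCommGroup M] [Module R M]

theorem mk_eq_zero {m : E} {s : p.primeCompl} :
    LocalizedModule.mk m s = 0 ↔ ∃ t : p.primeCompl, t • m = 0 := by
  rw [← LocalizedModule.zero_mk (1 : p.primeCompl), LocalizedModule.mk_eq]
  simp

/-- socle w.r.t. `p` of a module over the localization -/
def soc (N : Type u) [AddCommGroup N] [Module R N] [Module (Localization.AtPrime p) N]
    [IsScalarTower R (Localization.AtPrime p) N] : Submodule (Localization.AtPrime p) N where
  carrier := {y | ∀ r ∈ p, r • y = 0}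
  add_mem' := by
    intro a b ha hb r hr
    rw [smul_add, ha r hr, hb r hr, add_zero]
  zero_mem' := fun r _ => smul_zero r
  smul_mem' := by
    intro c y hy r hr
    rw [smul_comm, hy r hr, smul_zero]

theorem mem_soc {N : Type u} [AddCommGroup N] [Module R N] [Module (Localization.AtPrime p) N]
    [IsScalarTower R (Localization.AtPrime p) N] {y : N} :
    y ∈ soc p N ↔ ∀ r ∈ p, r • y = 0 := Iff.rfl

theorem max_smul {N : Type u} [AddCommGroup N] [Module R N] [Module (Localization.AtPrime p) N]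
    [IsScalarTower R (Localization.AtPrime p) N] {a : Localization.AtPrime p}
    (ha : a ∈ IsLocalRing.maximalIdeal (Localization.AtPrime p)) {y : N} (hy : y ∈ soc p N) :
    a • y = 0 := by
  rw [← Localization.AtPrime.map_eq_maximalIdeal] at ha
  refine Submodule.span_induction (p := fun a _ => a • y = 0) ?_ ?_ ?_ ?_ ha
  · rintro _ ⟨r, hr, rfl⟩
    rw [algebraMap_smul]
    exact hy r hr
  · exact zero_smul _ _
  · intro a b _ _ ha hb
    rw [add_smul, ha, hb, add_zero]
  · intro c a _ ha
    rw [smul_eq_mul, mul_smul, ha, smul_zero]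

theorem residue_smul_one (a : Localization.AtPrime p) :
    a • (1 : IsLocalRing.ResidueField (Localization.AtPrime p)) = IsLocalRing.residue _ a := by
  rw [Algebra.smul_def, mul_one, IsLocalRing.ResidueField.algebraMap_eq]

/-- `Hom(k(p), N) → soc N` -/
noncomputable def homToSoc (N : Type u) [AddCommGroup N] [Module R N]
    [Module (Localization.AtPrime p) N] [IsScalarTower R (Localization.AtPrime p) N] :
    (IsLocalRing.ResidueField (Localization.AtPrime p) →ₗ[Localization.AtPrime p] N)
      →ₗ[Localization.AtPrime p] soc p N where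
  toFun φ := ⟨φ 1, by
    rw [mem_soc]
    intro r hr
    rw [← algebraMap_smul (Localization.AtPrime p) r (φ 1), ← φ.map_smul]
    have : algebraMap R (Localization.AtPrime p) r •
        (1 : IsLocalRing.ResidueField (Localization.AtPrime p)) = 0 := by
      rw [residue_smul_one, IsLocalRing.residue_eq_zero_iff]
      exact (IsLocalization.AtPrime.to_map_mem_maximal_iff _ p r).2 hr
    rw [this, map_zero]⟩
  map_add' φ ψ := Subtype.ext rfl
  map_smul' c φ := Subtype.ext rfl

theorem homToSoc_bijective (N : Type u) [AddCommGroup N] [Module R N]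
    [Module (Localization.AtPrime p) N] [IsScalarTower R (Localization.AtPrime p) N] :
    Function.Bijective (homToSoc p N) := by
  constructor
  · rw [← LinearMap.ker_eq_bot, LinearMap.ker_eq_bot']
    intro φ hφ
    have h1 : φ 1 = 0 := congrArg Subtype.val hφ
    ext x
    obtain ⟨a, rfl⟩ := IsLocalRing.residue_surjective x
    rw [← residue_smul_one, φ.map_smul, h1, smul_zero, LinearMap.zero_apply]
  · intro y
    have h : IsLocalRing.maximalIdeal (Localization.AtPrime p) ≤
        LinearMap.ker (LinearMap.toSpanSingleton (Localization.AtPrime p) N y.1) := by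
      intro a ha
      rw [LinearMap.mem_ker, LinearMap.toSpanSingleton_apply]
      exact max_smul p ha y.2
    refine ⟨Submodule.liftQ (IsLocalRing.maximalIdeal (Localization.AtPrime p))
      (LinearMap.toSpanSingleton (Localization.AtPrime p) N y.1) h, ?_⟩
    apply Subtype.ext
    change Submodule.liftQ (IsLocalRing.maximalIdeal (Localization.AtPrime p))
      (LinearMap.toSpanSingleton (Localization.AtPrime p) N y.1) h
        (Submodule.Quotient.mk 1) = y.1
    rw [Submodule.liftQ_apply, LinearMap.toSpanSingleton_apply, one_smul]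

theorem length_residue :
    Module.length (Localization.AtPrime p)
      (IsLocalRing.ResidueField (Localization.AtPrime p)) = 1 :=
  Module.length_eq_one_iff.2
    (isSimpleModule_iff_quot_maximal.2
      ⟨IsLocalRing.maximalIdeal _, inferInstance, ⟨LinearEquiv.refl _ _⟩⟩)

theorem exists_common [IsNoetherianRing R] (x : E) (s : p.primeCompl)
    (h : ∀ r ∈ p, r • LocalizedModule.mk x s = 0) :
    ∃ t : p.primeCompl, ∀ r ∈ p, r • ((t : R) • x) = 0 := by
  classical
  obtain ⟨T, hT⟩ := (isNoetherianRing_iff_ideal_fg R).1 inferInstance p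
  have key : ∀ T' : Finset R, (∀ r ∈ T', r ∈ p) →
      ∃ t : p.primeCompl, ∀ r ∈ T', r • ((t : R) • x) = 0 := by
    intro T'
    induction T' using Finset.induction_on with
    | empty => intro _; exact ⟨1, fun r hr => absurd hr (Finset.notMem_empty r)⟩
    | insert a T' ha ih =>
      intro hsub
      obtain ⟨t', ht'⟩ := ih (fun r hr => hsub r (Finset.mem_insert_of_mem hr))
      have h1 := h a (hsub a (Finset.mem_insert_self a T'))
      rw [LocalizedModule.smul'_mk, mk_eq_zero] at h1
      obtain ⟨t₁, ht₁⟩ := h1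
      rw [Submonoid.smul_def] at ht₁
      refine ⟨t' * t₁, fun r hr => ?_⟩
      rcases Finset.mem_insert.1 hr with rfl | hr'
      · have : r • ((↑(t' * t₁) : R) • x) = (t' : R) • ((t₁ : R) • r • x) := by
          rw [Submonoid.coe_mul, mul_smul, smul_comm r (t' : R), smul_comm r (t₁ : R)]
        rw [this, ht₁, smul_zero]
      · have : r • ((↑(t' * t₁) : R) • x) = (t₁ : R) • (r • ((t' : R) • x)) := by
          rw [Submonoid.coe_mul, mul_comm, mul_smul, smul_comm r (t₁ : R)]
        rw [this, ht' r hr', smul_zero]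
  obtain ⟨t, ht⟩ := key T (fun r hr => hT ▸ Ideal.subset_span hr)
  refine ⟨t, fun r hr => ?_⟩
  rw [← hT] at hr
  refine Submodule.span_induction (p := fun r _ => r • ((t : R) • x) = 0) ?_ ?_ ?_ ?_ hr
  · exact fun r hr => ht r hr
  · exact zero_smul _ _
  · intro a b _ _ ha hb
    rw [add_smul, ha, hb, add_zero]
  · intro c a _ ha
    rw [smul_eq_mul, mul_smul, ha, smul_zero]

theorem exists_preimage [IsNoetherianRing R] {e : M →ₗ[R] E} (he : InjHull.IsEssentialInj e)
    (y : LocalizedModule p.primeCompl E) (hy : y ∈ soc p (LocalizedModule p.primeCompl E)) :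
    ∃ z ∈ soc p (LocalizedModule p.primeCompl M), LocalizedModule.map p.primeCompl e z = y := by
  revert hy
  refine LocalizedModule.induction_on (fun x s hy => ?_) y
  obtain ⟨t, ht⟩ := exists_common p x s hy
  by_cases hx0 : (t : R) • x = 0
  · refine ⟨0, Submodule.zero_mem _, ?_⟩
    rw [map_zero]
    symm
    rw [mk_eq_zero]
    exact ⟨t, by rw [Submonoid.smul_def]; exact hx0⟩
  · have hne : Submodule.span R {(t : R) • x} ≠ ⊥ := by
      rw [Ne, Submodule.span_singleton_eq_bot]
      exact hx0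
    obtain ⟨w, hw, hw0⟩ := Submodule.exists_mem_ne_zero_of_ne_bot (he.essential _ hne)
    obtain ⟨hw1, m₁, hm₁⟩ := hw
    obtain ⟨r₁, rfl⟩ := Submodule.mem_span_singleton.1 hw1
    have hr₁ : r₁ ∉ p := fun hr => hw0 (ht r₁ hr)
    refine ⟨LocalizedModule.mk m₁ ((⟨r₁, hr₁⟩ : p.primeCompl) * (t * s)), ?_, ?_⟩
    · rw [mem_soc]
      intro r hr
      rw [LocalizedModule.smul'_mk, mk_eq_zero]
      refine ⟨1, ?_⟩
      rw [one_smul]
      apply he.injective
      rw [map_smul, hm₁, map_zero, smul_comm, ht r hr, smul_zero]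
    · rw [LocalizedModule.map_mk, hm₁]
      have h1 : LocalizedModule.mk (r₁ • (t : R) • x) ((⟨r₁, hr₁⟩ : p.primeCompl) * (t * s)) =
          LocalizedModule.mk ((t : R) • x) (t * s) :=
        LocalizedModule.mk_cancel_common_left (⟨r₁, hr₁⟩ : p.primeCompl) (t * s) ((t : R) • x)
      have h2 : LocalizedModule.mk ((t : R) • x) (t * s) = LocalizedModule.mk x s :=
        LocalizedModule.mk_cancel_common_left t s x
      rw [h1, h2]

/-- the map on socles induced by `e` -/
noncomputable def socMap (e : M →ₗ[R] E) :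
    soc p (LocalizedModule p.primeCompl M) →ₗ[Localization.AtPrime p]
      soc p (LocalizedModule p.primeCompl E) :=
  LinearMap.codRestrict (soc p (LocalizedModule p.primeCompl E))
    ((LocalizedModule.map p.primeCompl e).comp (soc p (LocalizedModule p.primeCompl M)).subtype)
    (fun y => by
      rw [mem_soc]
      intro r hr
      rw [LinearMap.comp_apply, Submodule.subtype_apply,
        ← algebraMap_smul (Localization.AtPrime p) r, ← LinearMap.map_smul, algebraMap_smul,
        y.2 r hr, map_zero])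

theorem socMap_bijective [IsNoetherianRing R] {e : M →ₗ[R] E} (he : InjHull.IsEssentialInj e) :
    Function.Bijective (socMap p e) := by
  constructor
  · intro a b hab
    apply Subtype.ext
    apply LocalizedModule.map_injective p.primeCompl e he.injective
    exact congrArg Subtype.val hab
  · intro y
    obtain ⟨z, hz, hzy⟩ := exists_preimage p he y.1 y.2
    exact ⟨⟨z, hz⟩, Subtype.ext hzy⟩

end basic

section count

variable {R : Type u} [CommRing R] [IsNoetherianRing R] (p : Ideal R) [p.IsPrime]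
variable {E : Type u} [AddCommGroup E] [Module R E]
variable {Λ : Type u} (J : Λ → Submodule R E) (Q : Λ → Ideal R) (u : Λ → E)

/-- the decomposition data -/
structure Data : Prop where
  ind : iSupIndep J
  top : iSup J = ⊤
  prime : ∀ α, (Q α).IsPrime
  mem : ∀ α, u α ∈ J α
  ann : ∀ α (s : R), s • u α = 0 ↔ s ∈ Q α
  ess : ∀ α, ∀ x ∈ J α, x ≠ 0 → ∃ r t : R, r • x = t • u α ∧ t • u α ≠ 0

variable {J Q u}

theorem Data.torsion (h : Data J Q u) {α : Λ} {z : E} (hz : z ∈ J α) {s₀ : R} (hs : s₀ ∈ Q α) :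
    ∃ n : ℕ, s₀ ^ n • z = 0 := by
  have hmono : Monotone (fun n : ℕ =>
      (LinearMap.ker (LinearMap.toSpanSingleton R E (s₀ ^ n • z)) : Ideal R)) := by
    refine monotone_nat_of_le_succ (fun n a ha => ?_)
    rw [LinearMap.mem_ker, LinearMap.toSpanSingleton_apply] at ha ⊢
    rw [pow_succ', mul_smul, smul_comm, ha, smul_zero]
  obtain ⟨n, hn⟩ := monotone_stabilizes_iff_noetherian.2 (inferInstance : IsNoetherian R R)
    ⟨_, hmono⟩
  by_contra hcon
  push_neg at hcon
  have hzn : s₀ ^ n • z ∈ J α := Submodule.smul_mem _ _ hz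
  obtain ⟨r', t', h1, h2⟩ := h.ess α _ hzn (hcon n)
  have h3 : r' ∈ (LinearMap.ker (LinearMap.toSpanSingleton R E (s₀ ^ (n + 1) • z)) : Ideal R) := by
    rw [LinearMap.mem_ker, LinearMap.toSpanSingleton_apply, pow_succ', mul_smul, smul_comm r' s₀,
      h1, smul_comm s₀ t', (h.ann α s₀).2 hs, smul_zero]
  have h4 := hn (n + 1) (Nat.le_succ n)
  simp only [OrderHom.coe_mk] at h4
  rw [← h4, LinearMap.mem_ker, LinearMap.toSpanSingleton_apply] at h3
  exact h2 (h1 ▸ h3)

variable (Q u)

/-- the socle generators -/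
noncomputable def vv (α : {α : Λ // Q α = p}) : LocalizedModule p.primeCompl E :=
  LocalizedModule.mk (u α.1) 1

/-- the presentation of the socle -/
noncomputable def Phi : ({α : Λ // Q α = p} →₀ Localization.AtPrime p) →ₗ[Localization.AtPrime p]
    LocalizedModule p.primeCompl E :=
  Finsupp.linearCombination (Localization.AtPrime p) (vv p Q u)

/-- reduction of coefficients -/
noncomputable def Theta : ({α : Λ // Q α = p} →₀ Localization.AtPrime p) →ₗ[Localization.AtPrime p]
    ({α : Λ // Q α = p} →₀ IsLocalRing.ResidueField (Localization.AtPrime p)) :=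
  Finsupp.mapRange.linearMap (Algebra.linearMap (Localization.AtPrime p)
    (IsLocalRing.ResidueField (Localization.AtPrime p)))

variable {Q u}

theorem vv_mem_soc (h : Data J Q u) (β : {α : Λ // Q α = p}) :
    vv p Q u β ∈ soc p (LocalizedModule p.primeCompl E) := by
  rw [mem_soc]
  intro r hr
  have hr' : r ∈ Q β.1 := by rw [β.2]; exact hr
  rw [vv, LocalizedModule.smul'_mk, (h.ann β.1 r).2 hr', LocalizedModule.zero_mk]

theorem range_le_soc (h : Data J Q u) :
    LinearMap.range (Phi p Q u) ≤ soc p (LocalizedModule p.primeCompl E) := by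
  rw [Phi, Finsupp.range_linearCombination, Submodule.span_le]
  rintro _ ⟨β, rfl⟩
  exact vv_mem_soc p h β

theorem mk_mem_range (h : Data J Q u) {α : Λ} {z : E} (hz : z ∈ J α)
    (hpz : ∀ r ∈ p, r • z = 0) :
    LocalizedModule.mk z (1 : p.primeCompl) ∈ LinearMap.range (Phi p Q u) := by
  by_cases hz0 : z = 0
  · rw [hz0, LocalizedModule.zero_mk]
    exact Submodule.zero_mem _
  obtain ⟨r₀, t₀, h1, h2⟩ := h.ess α z hz hz0
  have hr₀ : r₀ ∉ p := fun hr => h2 (h1 ▸ hpz r₀ hr)
  have ht₀ : t₀ ∉ Q α := fun ht => h2 ((h.ann α t₀).2 ht)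
  have hle : p ≤ Q α := by
    intro a ha
    have : (a * t₀) • u α = 0 := by
      rw [mul_smul, ← h1, smul_comm, hpz a ha, smul_zero]
    exact ((h.prime α).mem_or_mem ((h.ann α _).1 this)).resolve_right ht₀
  by_cases hQ : Q α = p
  · refine ⟨Finsupp.single ⟨α, hQ⟩ (Localization.mk t₀ ⟨r₀, hr₀⟩), ?_⟩
    rw [Phi, Finsupp.linearCombination_single, vv, LocalizedModule.mk_smul_mk, ← h1, mul_one]
    exact LocalizedModule.mk_cancel (⟨r₀, hr₀⟩ : p.primeCompl) z
  · obtain ⟨s₀, hs₀, hs₀p⟩ : ∃ s₀ ∈ Q α, s₀ ∉ p := by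
      by_contra hcon
      push_neg at hcon
      exact hQ (le_antisymm hcon hle)
    obtain ⟨n, hn⟩ := h.torsion hz hs₀
    have : LocalizedModule.mk z (1 : p.primeCompl) = 0 := by
      rw [mk_eq_zero]
      exact ⟨⟨s₀ ^ n, Submonoid.pow_mem p.primeCompl hs₀p n⟩, hn⟩
    rw [this]
    exact Submodule.zero_mem _

variable [DecidableEq Λ]

theorem soc_le_range (h : Data J Q u) :
    soc p (LocalizedModule p.primeCompl E) ≤ LinearMap.range (Phi p Q u) := by
  classical
  intro y
  refine LocalizedModule.induction_on (fun x s hy => ?_) y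
  obtain ⟨t, ht⟩ := exists_common p x s hy
  have hint : DirectSum.IsInternal J :=
    (DirectSum.isInternal_submodule_iff_iSupIndep_and_iSup_eq_top J).2 ⟨h.ind, h.top⟩
  obtain ⟨σ, hσ⟩ : ∃ σ : (⨁ α, J α) ≃ₗ[R] E, ∀ d, σ d = DirectSum.coeLinearMap J d :=
    ⟨LinearEquiv.ofBijective (DirectSum.coeLinearMap J) hint, fun d => rfl⟩
  obtain ⟨d, hd⟩ : ∃ d, d = σ.symm ((t : R) • x) := ⟨_, rfl⟩
  have hxd : (t : R) • x = ∑ α ∈ d.support, ((d α : J α) : E) := by
    have h0 : σ d = (t : R) • x := by rw [hd, LinearEquiv.apply_symm_apply]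
    rw [← h0, hσ, DirectSum.coeLinearMap_eq_dfinsuppSum]
    rfl
  have hcomp : ∀ α, ∀ r ∈ p, r • ((d α : J α) : E) = 0 := by
    intro α r hr
    have h0 : r • d = 0 := by
      rw [hd, ← map_smul, ht r hr, map_zero]
    have h1 : (r • d) α = r • d α := rfl
    rw [h0] at h1
    rw [← Submodule.coe_smul, ← h1]
    rfl
  have hmk : LocalizedModule.mk ((t : R) • x) (1 : p.primeCompl) ∈
      LinearMap.range (Phi p Q u) := by
    rw [hxd]
    have h0 : LocalizedModule.mk (∑ α ∈ d.support, ((d α : J α) : E)) (1 : p.primeCompl) =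
        ∑ α ∈ d.support, LocalizedModule.mk ((d α : J α) : E) (1 : p.primeCompl) :=
      map_sum (LocalizedModule.mkLinearMap p.primeCompl E) _ _
    rw [h0]
    exact Submodule.sum_mem _ (fun α _ => mk_mem_range p h (d α).2 (hcomp α))
  have hy' : LocalizedModule.mk x s = Localization.mk 1 (t * s) •
      LocalizedModule.mk ((t : R) • x) (1 : p.primeCompl) := by
    rw [LocalizedModule.mk_smul_mk, one_smul, mul_one]
    exact (LocalizedModule.mk_cancel_common_left t s x).symm
  rw [hy']
  exact Submodule.smul_mem _ _ hmk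

/-- projection onto a summand -/
noncomputable def proj (hint : DirectSum.IsInternal J) (β : Λ) : E →ₗ[R] E :=
  (J β).subtype ∘ₗ (DirectSum.component R Λ (fun α => J α) β) ∘ₗ
    (LinearEquiv.ofBijective (DirectSum.coeLinearMap J) hint).symm.toLinearMap

theorem symm_of_mem (hint : DirectSum.IsInternal J) {α : Λ} {x : E} (hx : x ∈ J α) :
    (LinearEquiv.ofBijective (DirectSum.coeLinearMap J) hint).symm x =
      DirectSum.lof R Λ (fun α => J α) α ⟨x, hx⟩ := by
  rw [LinearEquiv.symm_apply_eq]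
  change x = DirectSum.coeLinearMap J _
  rw [DirectSum.lof_eq_of, DirectSum.coeLinearMap_of]

theorem proj_self (hint : DirectSum.IsInternal J) (β : Λ) {x : E} (hx : x ∈ J β) :
    proj hint β x = x := by
  simp only [proj, LinearMap.comp_apply, LinearEquiv.coe_coe, symm_of_mem hint hx,
    DirectSum.component.lof_self, Submodule.subtype_apply]

theorem proj_ne (hint : DirectSum.IsInternal J) {α β : Λ} (hαβ : α ≠ β) {x : E} (hx : x ∈ J α) :
    proj hint β x = 0 := by
  simp only [proj, LinearMap.comp_apply, LinearEquiv.coe_coe, symm_of_mem hint hx,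
    DirectSum.component.of, dif_neg hαβ, map_zero]

theorem mem_max_of_Phi_eq_zero (h : Data J Q u) (hint : DirectSum.IsInternal J)
    {c : {α : Λ // Q α = p} →₀ Localization.AtPrime p} (hc : Phi p Q u c = 0)
    (β : {α : Λ // Q α = p}) : c β ∈ IsLocalRing.maximalIdeal (Localization.AtPrime p) := by
  classical
  have h1 : c β • vv p Q u β = 0 := by
    have h0 : LocalizedModule.map p.primeCompl (proj hint β.1) (Phi p Q u c) =
        c β • vv p Q u β := by
      rw [Phi, Finsupp.linearCombination_apply, Finsupp.sum, map_sum]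
      rw [Finset.sum_eq_single β]
      · rw [map_smul, vv, LocalizedModule.map_mk, proj_self hint β.1 (h.mem β.1)]
      · intro α _ hαβ
        rw [map_smul, vv, LocalizedModule.map_mk,
          proj_ne hint (fun e => hαβ (Subtype.ext e)) (h.mem α.1), LocalizedModule.zero_mk,
          smul_zero]
      · intro hβ
        rw [Finsupp.notMem_support_iff.1 hβ, zero_smul, map_zero]
    rw [← h0, hc, map_zero]
  obtain ⟨⟨a, s⟩, hcs⟩ : ∃ y : R × p.primeCompl, Localization.mk y.1 y.2 = c β :=
    Localization.induction_on (c β) (fun y => ⟨y, rfl⟩)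
  rw [← hcs, vv, LocalizedModule.mk_smul_mk, mk_eq_zero] at h1
  obtain ⟨t, ht⟩ := h1
  rw [Submonoid.smul_def, ← mul_smul, h.ann, β.2] at ht
  rw [← hcs, Localization.mk_eq_mk',
    IsLocalization.AtPrime.mk'_mem_maximal_iff (Localization.AtPrime p) p]
  exact (Ideal.IsPrime.mem_or_mem ‹p.IsPrime› ht).resolve_left t.2

omit [DecidableEq Λ] in
theorem Phi_eq_zero_of_mem_max (h : Data J Q u)
    {c : {α : Λ // Q α = p} →₀ Localization.AtPrime p}
    (hc : ∀ β, c β ∈ IsLocalRing.maximalIdeal (Localization.AtPrime p)) : Phi p Q u c = 0 := by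
  rw [Phi, Finsupp.linearCombination_apply, Finsupp.sum]
  exact Finset.sum_eq_zero (fun β _ => max_smul p (hc β) (vv_mem_soc p h β))

omit [DecidableEq Λ] [IsNoetherianRing R] in
theorem mem_ker_Theta {c : {α : Λ // Q α = p} →₀ Localization.AtPrime p} :
    c ∈ LinearMap.ker (Theta p Q) ↔
      ∀ β, c β ∈ IsLocalRing.maximalIdeal (Localization.AtPrime p) := by
  rw [LinearMap.mem_ker, Theta, DFunLike.ext_iff]
  refine forall_congr' (fun β => ?_)
  rw [Finsupp.mapRange.linearMap_apply, Finsupp.mapRange_apply, Finsupp.zero_apply,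
    Algebra.linearMap_apply, IsLocalRing.ResidueField.algebraMap_eq,
    IsLocalRing.residue_eq_zero_iff]

omit [DecidableEq Λ] [IsNoetherianRing R] in
theorem Theta_surjective : Function.Surjective (Theta p Q) := by
  intro c
  have hs : Function.Surjective (Algebra.linearMap (Localization.AtPrime p)
      (IsLocalRing.ResidueField (Localization.AtPrime p))) := by
    intro x
    obtain ⟨a, rfl⟩ := IsLocalRing.residue_surjective x
    exact ⟨a, by rw [Algebra.linearMap_apply, IsLocalRing.ResidueField.algebraMap_eq]⟩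
  obtain ⟨c', hc'⟩ := Finsupp.mapRange_surjective _ (map_zero _) hs c
  exact ⟨c', by rw [Theta, Finsupp.mapRange.linearMap_apply]; exact hc'⟩

theorem ker_eq (h : Data J Q u) (hint : DirectSum.IsInternal J) :
    LinearMap.ker (Phi p Q u) = LinearMap.ker (Theta p Q) := by
  ext c
  rw [mem_ker_Theta, LinearMap.mem_ker]
  exact ⟨fun hc β => mem_max_of_Phi_eq_zero p h hint hc β,
    fun hc => Phi_eq_zero_of_mem_max p h hc⟩

theorem length_soc (h : Data J Q u) :
    Module.length (Localization.AtPrime p) (soc p (LocalizedModule p.primeCompl E)) =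
      ENat.card {α : Λ // Q α = p} := by
  have hint : DirectSum.IsInternal J :=
    (DirectSum.isInternal_submodule_iff_iSupIndep_and_iSup_eq_top J).2 ⟨h.ind, h.top⟩
  have hrange : LinearMap.range (Phi p Q u) = soc p (LocalizedModule p.primeCompl E) :=
    le_antisymm (range_le_soc p h) (soc_le_range p h)
  rw [← ((Phi p Q u).quotKerEquivRange.trans (LinearEquiv.ofEq _ _ hrange)).length_eq,
    (Submodule.quotEquivOfEq _ _ (ker_eq p h hint)).length_eq,
    ((Theta p Q).quotKerEquivOfSurjective (Theta_surjective p)).length_eq,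
    Module.length_finsupp, length_residue, mul_one]

theorem bassNum_zero_eq (h : Data J Q u) {M : Type u} [AddCommGroup M] [Module R M]
    {e : M →ₗ[R] E} (he : InjHull.IsEssentialInj e) :
    GrLC.bassNum p M 0 = ENat.card {α : Λ // Q α = p} := by
  unfold GrLC.bassNum GrLC.bassNumLocal
  rw [((Abelian.Ext.linearEquiv₀ (R := Localization.AtPrime p)).trans
      ModuleCat.homLinearEquiv).length_eq,
    (LinearEquiv.ofBijective _ (homToSoc_bijective p
      (LocalizedModule p.primeCompl M))).length_eq,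
    (LinearEquiv.ofBijective _ (socMap_bijective p he)).length_eq, length_soc p h]

end count

section graded

variable {ι : Type} [AddCommGroup ι] [DecidableEq ι]
variable {R : Type u} [CommRing R] [IsNoetherianRing R] (𝒜 : ι → AddSubgroup R) [GradedRing 𝒜]
variable {E' : Type u} [AddCommGroup E'] [Module R E'] (𝓔 : ι → AddSubgroup E') [Decomposition 𝓔]
  [SetLike.GradedSMul 𝒜 𝓔]

theorem mk_eq_smul_one (I : Ideal R) (s : R) :
    Ideal.Quotient.mk I s = s • Ideal.Quotient.mk I 1 := by
  change _ = Ideal.Quotient.mk I (s • 1)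
  rw [smul_eq_mul, mul_one]

theorem ess_of_graded (P : HomogeneousIdeal 𝒜) (g : ι) (J : Submodule R E')
    (hJ : J.IsHomogeneous 𝓔) (f : (R ⧸ P.toIdeal) →ₗ[R] E')
    (hf : Function.Injective f ∧ GrLC.IsGrHomDeg (GrLC.quotGr 𝒜 P) 𝓔 f g ∧
      LinearMap.range f ≤ J ∧
      ∀ Q : Submodule R E', Q.IsHomogeneous 𝓔 → Q ≤ J → Q ≠ ⊥ → Q ⊓ LinearMap.range f ≠ ⊥)
    {x : E'} (hx : x ∈ J) (hx0 : x ≠ 0) :
    ∃ r t : R, r • x = t • f (Ideal.Quotient.mk P.toIdeal 1) ∧
      t • f (Ideal.Quotient.mk P.toIdeal 1) ≠ 0 := by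
  obtain ⟨hinj, hdeg, hrange, hess⟩ := hf
  letI := subDecomp 𝓔 J hJ
  letI := sub_gsmul 𝒜 𝓔 J
  have hu : f (Ideal.Quotient.mk P.toIdeal 1) ∈ J := hrange ⟨_, rfl⟩
  have hsm : ∀ s : R, f (Ideal.Quotient.mk P.toIdeal s) =
      s • f (Ideal.Quotient.mk P.toIdeal 1) := by
    intro s
    rw [← f.map_smul, ← mk_eq_smul_one]
  have hph : PHull (subGr 𝓔 J) P.toIdeal
      (⟨f (Ideal.Quotient.mk P.toIdeal 1), hu⟩ : J) (0 + g) := by
    refine ⟨?_, fun s => ?_, fun P' hP' hP'0 => ?_⟩
    · exact hdeg 0 _ (one_mem_quotGr 𝒜 P)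
    · rw [Subtype.ext_iff, Submodule.coe_smul, Submodule.coe_zero]
      change s • f (Ideal.Quotient.mk P.toIdeal 1) = 0 ↔ _
      rw [← hsm, map_eq_zero_iff f hinj, Ideal.Quotient.eq_zero_iff_mem]
    · obtain ⟨y, hy, hy0⟩ := Submodule.exists_mem_ne_zero_of_ne_bot hP'0
      have hQhom : (P'.map J.subtype).IsHomogeneous 𝓔 :=
        map_isHomogeneous (subGr 𝓔 J) 𝓔 (subtype_isGrHom 𝓔 J) hP'
      have hQle : P'.map J.subtype ≤ J := Submodule.map_subtype_le J P'
      have hQ0 : P'.map J.subtype ≠ ⊥ := by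
        rw [Submodule.ne_bot_iff]
        refine ⟨(y : E'), ⟨y, hy, rfl⟩, ?_⟩
        intro h0
        exact hy0 (Subtype.ext h0)
      obtain ⟨w, hw, hw0⟩ := Submodule.exists_mem_ne_zero_of_ne_bot (hess _ hQhom hQle hQ0)
      obtain ⟨⟨y', hy', hy'w⟩, q, hq⟩ := hw
      obtain ⟨s, rfl⟩ := Ideal.Quotient.mk_surjective q
      rw [Submodule.ne_bot_iff]
      refine ⟨y', ⟨hy', ?_⟩, ?_⟩
      · rw [SetLike.mem_coe, Submodule.mem_span_singleton]
        refine ⟨s, Subtype.ext ?_⟩
        rw [Submodule.coe_smul]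
        change s • f (Ideal.Quotient.mk P.toIdeal 1) = (y' : E')
        rw [← hsm, hq]
        exact hy'w.symm
      · intro h0
        apply hw0
        rw [← hy'w, h0]
        rfl
  have hN : Submodule.span R {(⟨x, hx⟩ : J)} ≠ ⊥ := by
    rw [Ne, Submodule.span_singleton_eq_bot]
    intro h0
    exact hx0 (congrArg Subtype.val h0)
  obtain ⟨t, ht1, ht2⟩ := PHull.exists_mem_span 𝒜 (subGr 𝓔 J) hph hN
  obtain ⟨r, hr⟩ := Submodule.mem_span_singleton.1 ht1
  refine ⟨r, t, congrArg Subtype.val hr, fun h0 => ht2 (Subtype.ext h0)⟩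

theorem main13235 (M : Type u) [AddCommGroup M] [Module R M] (ℳ : ι → AddSubgroup M)
    [DirectSum.Decomposition ℳ] [SetLike.GradedSMul 𝒜 ℳ] (e : M →ₗ[R] E')
    (he : GrLC.IsStarInjHull 𝒜 ℳ 𝓔 e) (Λ : Type u) (P : Λ → HomogeneousIdeal 𝒜)
    (hP : ∀ α, (P α).toIdeal.IsPrime) (g : Λ → ι) (J : Λ → Submodule R E')
    (hJ : ∀ α, (J α).IsHomogeneous 𝓔) (hind : iSupIndep J) (htop : iSup J = ⊤)
    (f : ∀ α, (R ⧸ (P α).toIdeal) →ₗ[R] E')
    (hf : ∀ α, Function.Injective (f α) ∧ GrLC.IsGrHomDeg (GrLC.quotGr 𝒜 (P α)) 𝓔 (f α) (g α) ∧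
      LinearMap.range (f α) ≤ J α ∧ ∀ Q : Submodule R E', Q.IsHomogeneous 𝓔 → Q ≤ J α → Q ≠ ⊥ →
        Q ⊓ LinearMap.range (f α) ≠ ⊥)
    (p : HomogeneousIdeal 𝒜) [p.toIdeal.IsPrime] :
    Cardinal.toENat (Cardinal.mk {α : Λ // P α = p}) = GrLC.bassNum p.toIdeal M 0 := by
  classical
  have hess := main13211 𝒜 ℳ 𝓔 he.toIsStarEss
  have hdata : Data J (fun α => (P α).toIdeal)
      (fun α => f α (Ideal.Quotient.mk (P α).toIdeal 1)) := by
    refine ⟨hind, htop, hP, fun α => (hf α).2.2.1 ⟨_, rfl⟩, fun α s => ?_,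
      fun α x hx hx0 => ess_of_graded 𝒜 𝓔 (P α) (g α) (J α) (hJ α) (f α) (hf α) hx hx0⟩
    rw [← (f α).map_smul, ← mk_eq_smul_one, map_eq_zero_iff (f α) (hf α).1,
      Ideal.Quotient.eq_zero_iff_mem]
  rw [bassNum_zero_eq p.toIdeal hdata hess]
  exact congrArg Cardinal.toENat (Cardinal.mk_congr (Equiv.subtypeEquivRight
    (fun α => ⟨fun h => h ▸ rfl, fun h => HomogeneousIdeal.toIdeal_injective h⟩)))

end graded

end Groth.Agent.Lib.BassZeroH1
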