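import Mathlib
import Groth.Prelude.Def_GrLC
import Groth.Prelude.Def_GrLC2
import Groth.Agent.Lib.BassZero_helper1
import Groth.Agent.Lib.GrExt_helper1

/-! Bass numbers of graded modules via minimal *injective resolutions (helper1). -/

set_option autoImplicit false

namespace Groth.Agent.Lib.BassShiftH1

open DirectSum GrLC CategoryTheory
open Groth.Agent.Lib.GrStarH1 Groth.Agent.Lib.GrStar2H1 Groth.Agent.Lib.GrStar3H1
open Groth.Agent.Lib.BassZeroH1 Groth.Agent.Lib.GrExtH1

universe u

/-! ### generic `Ext` lemmas -/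
section generic

variable {A : Type u} [CommRing A]

theorem ext_one_of_ses {S : ShortComplex (ModuleCat.{u} A)} (hS : S.ShortExact) [Projective S.X₂]
    (I : ModuleCat.{u} A) (hext : ∀ φ : S.X₁ ⟶ I, ∃ ψ : S.X₂ ⟶ I, S.f ≫ ψ = φ) :
    Subsingleton (Abelian.Ext.{u} S.X₃ I 1) := by
  refine subsingleton_of_forall_eq 0 (fun x₃ => ?_)
  have h0 : (Abelian.Ext.mk₀ S.g).comp x₃ (zero_add 1) = 0 :=
    Abelian.Ext.eq_zero_of_projective _
  obtain ⟨x₁, hx₁⟩ := Abelian.Ext.contravariant_sequence_exact₃ hS _ x₃ h0 (n₀ := 0) (by norm_num)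
  obtain ⟨φ, rfl⟩ := (Abelian.Ext.mk₀_bijective _ _).2 x₁
  obtain ⟨ψ, hψ⟩ := hext φ
  rw [← hx₁, ← hψ, ← Abelian.Ext.mk₀_comp_mk₀]
  exact hS.extClass_comp_assoc _

theorem ext_succ_of_ses {S : ShortComplex (ModuleCat.{u} A)} (hS : S.ShortExact) [Projective S.X₂]
    (I : ModuleCat.{u} A) (n : ℕ) (h : Subsingleton (Abelian.Ext.{u} S.X₁ I (n + 1))) :
    Subsingleton (Abelian.Ext.{u} S.X₃ I (n + 2)) := by
  refine subsingleton_of_forall_eq 0 (fun x₃ => ?_)
  have h0 : (Abelian.Ext.mk₀ S.g).comp x₃ (zero_add (n + 2)) = 0 :=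
    Abelian.Ext.eq_zero_of_projective _
  obtain ⟨x₁, hx₁⟩ := Abelian.Ext.contravariant_sequence_exact₃ hS _ x₃ h0 (n₀ := n + 1)
    (by omega)
  have hz : x₁ = 0 := Subsingleton.elim _ _
  rw [← hx₁, hz, Abelian.Ext.comp_zero]

theorem length_ext_shift {S : ShortComplex (ModuleCat.{u} A)} (hS : S.ShortExact)
    (K : ModuleCat.{u} A) (hV : ∀ n : ℕ, Subsingleton (Abelian.Ext.{u} K S.X₂ (n + 1)))
    (h0 : ∀ φ : K ⟶ S.X₂, φ ≫ S.g = 0) (i : ℕ) :
    Module.length A (Abelian.Ext.{u} K S.X₁ (i + 1)) =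
      Module.length A (Abelian.Ext.{u} K S.X₃ i) := by
  obtain ⟨δ, hδ⟩ : ∃ δ : Abelian.Ext.{u} K S.X₃ i →ₗ[A] Abelian.Ext.{u} K S.X₁ (i + 1),
      ∀ x, δ x = x.comp hS.extClass rfl :=
    ⟨{ toFun := fun x => x.comp hS.extClass rfl
       map_add' := fun x y => Abelian.Ext.add_comp x y hS.extClass rfl
       map_smul' := fun r x => Abelian.Ext.smul_comp x hS.extClass rfl r }, fun x => rfl⟩
  have hinj : Function.Injective δ := by
    rw [← LinearMap.ker_eq_bot, LinearMap.ker_eq_bot']
    intro x₃ hx₃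
    rw [hδ] at hx₃
    obtain ⟨x₂, hx₂⟩ := Abelian.Ext.covariant_sequence_exact₃ K hS x₃ rfl hx₃
    cases i with
    | zero =>
      obtain ⟨φ, rfl⟩ := (Abelian.Ext.mk₀_bijective _ _).2 x₂
      rw [← hx₂, Abelian.Ext.mk₀_comp_mk₀, h0 φ, Abelian.Ext.mk₀_zero]
    | succ n =>
      haveI := hV n
      rw [← hx₂, Subsingleton.elim x₂ 0, Abelian.Ext.zero_comp]
  have hsurj : Function.Surjective δ := by
    intro x₁
    haveI := hV i
    have h1 : x₁.comp (Abelian.Ext.mk₀ S.f) (add_zero (i + 1)) = 0 := Subsingleton.elim _ _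
    obtain ⟨x₃, hx₃⟩ := Abelian.Ext.covariant_sequence_exact₁ K hS x₁ h1 rfl
    exact ⟨x₃, by rw [hδ]; exact hx₃⟩
  exact ((LinearEquiv.ofBijective δ ⟨hinj, hsurj⟩).length_eq).symm

end generic

/-! ### the residue field as a localization of `R/p` -/
section kappa

variable {R : Type u} [CommRing R] (p : Ideal R) [p.IsPrime]

/-- `R/p → k(p)` -/
noncomputable def toKappa :
    (R ⧸ p) →ₗ[R] IsLocalRing.ResidueField (Localization.AtPrime p) :=
  Submodule.liftQ p (Algebra.linearMap R (IsLocalRing.ResidueField (Localization.AtPrime p))) (by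
    intro r hr
    rw [LinearMap.mem_ker, Algebra.linearMap_apply]
    change IsLocalRing.residue _ (algebraMap R (Localization.AtPrime p) r) = 0
    rw [IsLocalRing.residue_eq_zero_iff]
    exact (IsLocalization.AtPrime.to_map_mem_maximal_iff _ p r).2 hr)

theorem toKappa_mk (r : R) : toKappa p (Ideal.Quotient.mk p r) =
    IsLocalRing.residue _ (algebraMap R (Localization.AtPrime p) r) := rfl

theorem isUnit_algebraMap_end {N' : Type u} [AddCommGroup N'] [Module R N']
    [Module (Localization.AtPrime p) N'] [IsScalarTower R (Localization.AtPrime p) N']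
    (s : p.primeCompl) : IsUnit (algebraMap R (Module.End R N') s) := by
  rw [Module.End.isUnit_iff]
  obtain ⟨w, hw⟩ := IsLocalization.map_units (Localization.AtPrime p) s
  constructor
  · intro x y hxy
    simp only [Module.algebraMap_end_apply] at hxy
    have : (↑w⁻¹ : Localization.AtPrime p) • ((s : R) • x) =
        (↑w⁻¹ : Localization.AtPrime p) • ((s : R) • y) := by rw [hxy]
    rwa [← algebraMap_smul (Localization.AtPrime p) (s : R) x,
      ← algebraMap_smul (Localization.AtPrime p) (s : R) y, ← hw, smul_smul, smul_smul,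
      Units.inv_mul, one_smul, one_smul] at this
  · intro y
    refine ⟨(↑w⁻¹ : Localization.AtPrime p) • y, ?_⟩
    rw [Module.algebraMap_end_apply, ← algebraMap_smul (Localization.AtPrime p) (s : R), ← hw,
      smul_smul, Units.mul_inv, one_smul]

instance toKappa_isLocalizedModule : IsLocalizedModule p.primeCompl (toKappa p) where
  map_units s := isUnit_algebraMap_end p s
  surj y := by
    obtain ⟨a, rfl⟩ := IsLocalRing.residue_surjective y
    obtain ⟨⟨r, s⟩, rfl⟩ := IsLocalization.mk'_surjective p.primeCompl a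
    refine ⟨(Ideal.Quotient.mk p r, s), ?_⟩
    change s • IsLocalRing.residue _ (IsLocalization.mk' (Localization.AtPrime p) r s) =
      toKappa p (Ideal.Quotient.mk p r)
    rw [toKappa_mk, Submonoid.smul_def, Algebra.smul_def]
    change IsLocalRing.residue _ (algebraMap R (Localization.AtPrime p) s) *
      IsLocalRing.residue _ (IsLocalization.mk' (Localization.AtPrime p) r s) = _
    rw [← map_mul, IsLocalization.mk'_spec']
  exists_of_eq {x₁ x₂} h := by
    obtain ⟨a₁, rfl⟩ := Ideal.Quotient.mk_surjective x₁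
    obtain ⟨a₂, rfl⟩ := Ideal.Quotient.mk_surjective x₂
    refine ⟨1, ?_⟩
    rw [one_smul, one_smul]
    rw [toKappa_mk, toKappa_mk, ← sub_eq_zero, ← map_sub, ← map_sub,
      IsLocalRing.residue_eq_zero_iff, IsLocalization.AtPrime.to_map_mem_maximal_iff _ p] at h
    exact (Ideal.Quotient.eq).2 h

end kappa

/-! ### vanishing of `Ext` over the localization -/
section vanish

variable {ι : Type} [AddCommGroup ι] [DecidableEq ι]
variable {R : Type u} [CommRing R] [IsNoetherianRing R] (p : Ideal R) [p.IsPrime]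
variable (𝒜 : ι → AddSubgroup R) [GradedRing 𝒜]
variable {I : Type u} [AddCommGroup I] [Module R I] (ℐ : ι → AddSubgroup I) [Decomposition ℐ]
  [SetLike.GradedSMul 𝒜 ℐ]

omit [IsNoetherianRing R] in
theorem mk_one_smul_smul {N' : Type u} [AddCommGroup N'] [Module R N']
    [Module (Localization.AtPrime p) N'] [IsScalarTower R (Localization.AtPrime p) N']
    (s : p.primeCompl) (y : N') :
    (Localization.mk 1 s : Localization.AtPrime p) • ((s : R) • y) = y := by
  rw [← algebraMap_smul (Localization.AtPrime p) (s : R) y, smul_smul, Localization.mk_eq_mk',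
    IsLocalization.mk'_spec, map_one, one_smul]

theorem loc_extension (hI : IsStarInj 𝒜 ℐ) {F : Type u} [AddCommGroup F] [Module R F]
    (ℱ : ι → AddSubgroup F) [Decomposition ℱ] [SetLike.GradedSMul 𝒜 ℱ]
    (K : Submodule R F) (hK : K.IsHomogeneous ℱ) (hfg : K.FG)
    (φ' : LocalizedModule p.primeCompl K →ₗ[Localization.AtPrime p]
      LocalizedModule p.primeCompl I) :
    ∃ ψ' : LocalizedModule p.primeCompl F →ₗ[Localization.AtPrime p]
        LocalizedModule p.primeCompl I,
      ψ' ∘ₗ LocalizedModule.map p.primeCompl K.subtype = φ' := by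
  haveI : Module.Finite R K := Module.Finite.iff_fg.mpr hfg
  haveI : Module.FinitePresentation R K := Module.finitePresentation_of_finite R K
  obtain ⟨h, s, hs⟩ := Module.FinitePresentation.exists_lift_of_isLocalizedModule p.primeCompl
    (LocalizedModule.mkLinearMap p.primeCompl I)
    ((φ'.restrictScalars R) ∘ₗ LocalizedModule.mkLinearMap p.primeCompl K)
  obtain ⟨ψ, hψ⟩ := exists_extension 𝒜 ℱ ℐ hI K hK hfg h
  refine ⟨(Localization.mk 1 s : Localization.AtPrime p) • LocalizedModule.map p.primeCompl ψ, ?_⟩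
  refine LinearMap.ext (fun x => ?_)
  refine LocalizedModule.induction_on (fun k t => ?_) x
  have h2 : LocalizedModule.mk (h k) (1 : p.primeCompl) =
      (s : R) • φ' (LocalizedModule.mk k 1) := by
    have := LinearMap.congr_fun hs k
    simpa [Submonoid.smul_def] using this
  have h3 : ψ (k : F) = h k := LinearMap.congr_fun hψ k
  have h4 : LocalizedModule.mk (h k) t = (Localization.mk 1 t : Localization.AtPrime p) •
      LocalizedModule.mk (h k) (1 : p.primeCompl) := by
    rw [LocalizedModule.mk_smul_mk, one_smul, mul_one]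
  have h5 : LocalizedModule.mk k t = (Localization.mk 1 t : Localization.AtPrime p) •
      LocalizedModule.mk k (1 : p.primeCompl) := by
    rw [LocalizedModule.mk_smul_mk, one_smul, mul_one]
  rw [LinearMap.comp_apply, LocalizedModule.map_mk, LinearMap.smul_apply, LocalizedModule.map_mk,
    Submodule.subtype_apply, h3, h4, h2, h5, map_smul,
    smul_comm (Localization.mk 1 t : Localization.AtPrime p) (s : R), mk_one_smul_smul]

/-- the localized presentation -/
noncomputable def locSC {F N N' : Type u} [AddCommGroup F] [Module R F] [AddCommGroup N]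
    [Module R N] [AddCommGroup N'] [Module R N'] [Module (Localization.AtPrime p) N']
    [IsScalarTower R (Localization.AtPrime p) N'] (π : F →ₗ[R] N) (f : N →ₗ[R] N')
    [IsLocalizedModule p.primeCompl f] : ShortComplex (ModuleCat.{u} (Localization.AtPrime p)) :=
  ShortComplex.mk
    (ModuleCat.ofHom (LocalizedModule.map p.primeCompl (LinearMap.ker π).subtype))
    (ModuleCat.ofHom (IsLocalizedModule.mapExtendScalars p.primeCompl
      (LocalizedModule.mkLinearMap p.primeCompl F) f (Localization.AtPrime p) π))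
    (by
      ext x
      exact (IsLocalizedModule.map_exact p.primeCompl
        (LocalizedModule.mkLinearMap p.primeCompl (LinearMap.ker π))
        (LocalizedModule.mkLinearMap p.primeCompl F) f _ _
        (LinearMap.exact_subtype_ker_map π)).apply_apply_eq_zero x)

omit [IsNoetherianRing R] in
theorem locSC_shortExact {F N N' : Type u} [AddCommGroup F] [Module R F] [AddCommGroup N]
    [Module R N] [AddCommGroup N'] [Module R N'] [Module (Localization.AtPrime p) N']
    [IsScalarTower R (Localization.AtPrime p) N'] (π : F →ₗ[R] N) (hπ : Function.Surjective π)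
    (f : N →ₗ[R] N') [IsLocalizedModule p.primeCompl f] : (locSC p π f).ShortExact := by
  have hex := IsLocalizedModule.map_exact p.primeCompl
    (LocalizedModule.mkLinearMap p.primeCompl (LinearMap.ker π))
    (LocalizedModule.mkLinearMap p.primeCompl F) f _ _ (LinearMap.exact_subtype_ker_map π)
  refine ShortComplex.ShortExact.mk' ?_ ?_ ?_
  · rw [ShortComplex.moduleCat_exact_iff]
    intro x₂ hx₂
    exact (hex x₂).1 hx₂
  · rw [ModuleCat.mono_iff_injective]
    exact LocalizedModule.map_injective p.primeCompl _ (Submodule.injective_subtype _)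
  · rw [ModuleCat.epi_iff_surjective]
    exact IsLocalizedModule.map_surjective p.primeCompl
      (LocalizedModule.mkLinearMap p.primeCompl F) f π hπ

theorem loc_ext_subsingleton (hI : IsStarInj 𝒜 ℐ) :
    ∀ (n : ℕ) (N : Type u) [AddCommGroup N] [Module R N] (𝒩 : ι → AddSubgroup N)
      [Decomposition 𝒩] [SetLike.GradedSMul 𝒜 𝒩] [Module.Finite R N]
      (N' : Type u) [AddCommGroup N'] [Module R N'] [Module (Localization.AtPrime p) N']
      [IsScalarTower R (Localization.AtPrime p) N'] (f : N →ₗ[R] N')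
      [IsLocalizedModule p.primeCompl f],
      Subsingleton (Abelian.Ext.{u} (ModuleCat.of (Localization.AtPrime p) N')
        (ModuleCat.of (Localization.AtPrime p) (LocalizedModule p.primeCompl I)) (n + 1)) := by
  intro n
  induction n with
  | zero =>
    intro N _ _ 𝒩 _ _ _ N' _ _ _ _ f _
    obtain ⟨m, dg, s, hs, hspan⟩ := exists_homog_generators (R := R) 𝒩
    letI : Decomposition (freeGr 𝒜 dg) := freeDecomp 𝒜 dg
    letI : SetLike.GradedSMul 𝒜 (freeGr 𝒜 dg) := free_gsmul 𝒜 dg
    have hπ : Function.Surjective (Fintype.linearCombination R s) := by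
      rw [← LinearMap.range_eq_top, Fintype.range_linearCombination]; exact hspan
    have hgr := linComb_isGrHom 𝒜 dg 𝒩 s hs
    have hK : (LinearMap.ker (Fintype.linearCombination R s)).IsHomogeneous (freeGr 𝒜 dg) :=
      ker_isHomogeneous _ _ hgr
    have hSE := locSC_shortExact p (Fintype.linearCombination R s) hπ f
    haveI : Projective (locSC p (Fintype.linearCombination R s) f).X₂ :=
      (IsProjective.iff_projective (R := Localization.AtPrime p)
        (LocalizedModule p.primeCompl (Fin m → R))).mp inferInstance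
    exact ext_one_of_ses hSE _ (fun φ => by
      obtain ⟨ψ', hψ'⟩ := loc_extension p 𝒜 ℐ hI (freeGr 𝒜 dg) _ hK
        (IsNoetherian.noetherian _) φ.hom
      refine ⟨ModuleCat.ofHom ψ', ?_⟩
      apply ModuleCat.hom_ext
      exact hψ')
  | succ n ih =>
    intro N _ _ 𝒩 _ _ _ N' _ _ _ _ f _
    obtain ⟨m, dg, s, hs, hspan⟩ := exists_homog_generators (R := R) 𝒩
    letI : Decomposition (freeGr 𝒜 dg) := freeDecomp 𝒜 dg
    letI : SetLike.GradedSMul 𝒜 (freeGr 𝒜 dg) := free_gsmul 𝒜 dg
    have hπ : Function.Surjective (Fintype.linearCombination R s) := by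
      rw [← LinearMap.range_eq_top, Fintype.range_linearCombination]; exact hspan
    have hgr := linComb_isGrHom 𝒜 dg 𝒩 s hs
    have hK : (LinearMap.ker (Fintype.linearCombination R s)).IsHomogeneous (freeGr 𝒜 dg) :=
      ker_isHomogeneous _ _ hgr
    have hSE := locSC_shortExact p (Fintype.linearCombination R s) hπ f
    haveI : Projective (locSC p (Fintype.linearCombination R s) f).X₂ :=
      (IsProjective.iff_projective (R := Localization.AtPrime p)
        (LocalizedModule p.primeCompl (Fin m → R))).mp inferInstance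
    letI : Decomposition (subGr (freeGr 𝒜 dg) (LinearMap.ker (Fintype.linearCombination R s))) :=
      subDecomp _ _ hK
    letI : SetLike.GradedSMul 𝒜
        (subGr (freeGr 𝒜 dg) (LinearMap.ker (Fintype.linearCombination R s))) :=
      sub_gsmul 𝒜 _ _
    have := ih (LinearMap.ker (Fintype.linearCombination R s))
      (subGr (freeGr 𝒜 dg) (LinearMap.ker (Fintype.linearCombination R s)))
      (LocalizedModule p.primeCompl (LinearMap.ker (Fintype.linearCombination R s)))
      (LocalizedModule.mkLinearMap p.primeCompl (LinearMap.ker (Fintype.linearCombination R s)))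
    exact ext_succ_of_ses hSE _ n this

end vanish

/-! ### the shift of Bass numbers -/
section shift

variable {R : Type u} [CommRing R] [IsNoetherianRing R] (p : Ideal R) [p.IsPrime]

theorem bassNum_shift {Z X C : Type u} [AddCommGroup Z] [Module R Z] [AddCommGroup X]
    [Module R X] [AddCommGroup C] [Module R C] (e : Z →ₗ[R] X) (π : X →ₗ[R] C)
    (he : InjHull.IsEssentialInj e) (hπ : Function.Surjective π) (hex : Function.Exact e π)
    (hV : ∀ n : ℕ, Subsingleton (Abelian.Ext.{u}
      (ModuleCat.of (Localization.AtPrime p) (IsLocalRing.ResidueField (Localization.AtPrime p)))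
      (ModuleCat.of (Localization.AtPrime p) (LocalizedModule p.primeCompl X)) (n + 1)))
    (i : ℕ) : GrLC.bassNum p Z (i + 1) = GrLC.bassNum p C i := by
  have hexp := LocalizedModule.map_exact p.primeCompl e π hex
  obtain ⟨S, hS⟩ : ∃ S : ShortComplex (ModuleCat.{u} (Localization.AtPrime p)), S =
      ShortComplex.mk (ModuleCat.ofHom (LocalizedModule.map p.primeCompl e))
        (ModuleCat.ofHom (LocalizedModule.map p.primeCompl π))
        (by ext x; exact hexp.apply_apply_eq_zero x) := ⟨_, rfl⟩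
  have hSE : S.ShortExact := by
    subst hS
    refine ShortComplex.ShortExact.mk' ?_ ?_ ?_
    · rw [ShortComplex.moduleCat_exact_iff]
      intro x₂ hx₂
      exact (hexp x₂).1 hx₂
    · rw [ModuleCat.mono_iff_injective]
      exact LocalizedModule.map_injective p.primeCompl e he.injective
    · rw [ModuleCat.epi_iff_surjective]
      exact LocalizedModule.map_surjective p.primeCompl π hπ
  have h0 : ∀ φ : ModuleCat.of (Localization.AtPrime p)
      (IsLocalRing.ResidueField (Localization.AtPrime p)) ⟶ S.X₂, φ ≫ S.g = 0 := by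
    subst hS
    intro φ
    obtain ⟨z, _, hzφ⟩ := exists_preimage p he (φ.hom 1) ((homToSoc p _ φ.hom).2)
    ext x
    obtain ⟨a, rfl⟩ := IsLocalRing.residue_surjective x
    change LocalizedModule.map p.primeCompl π (φ.hom (IsLocalRing.residue _ a)) = 0
    have h9 : LocalizedModule.map p.primeCompl π (LocalizedModule.map p.primeCompl e z) = 0 :=
      hexp.apply_apply_eq_zero z
    rw [← residue_smul_one, map_smul, map_smul, ← hzφ, h9, smul_zero]
  have hV' : ∀ n : ℕ, Subsingleton (Abelian.Ext.{u}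
      (ModuleCat.of (Localization.AtPrime p) (IsLocalRing.ResidueField (Localization.AtPrime p)))
      S.X₂ (n + 1)) := by
    subst hS
    exact hV
  have key := length_ext_shift hSE _ hV' h0 i
  subst hS
  exact key

end shift

/-! ### the graded statement -/
section graded

variable {ι : Type} [AddCommGroup ι] [DecidableEq ι]
variable {R : Type u} [CommRing R] [IsNoetherianRing R] (𝒜 : ι → AddSubgroup R) [GradedRing 𝒜]

theorem data_of_graded {E' : Type u} [AddCommGroup E'] [Module R E'] (𝓔 : ι → AddSubgroup E')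
    [Decomposition 𝓔] [SetLike.GradedSMul 𝒜 𝓔] {Λ : Type u} (P : Λ → HomogeneousIdeal 𝒜)
    (hP : ∀ α, (P α).toIdeal.IsPrime) (g : Λ → ι) (J : Λ → Submodule R E')
    (hJ : ∀ α, (J α).IsHomogeneous 𝓔) (hind : iSupIndep J) (htop : iSup J = ⊤)
    (f : ∀ α, (R ⧸ (P α).toIdeal) →ₗ[R] E')
    (hf : ∀ α, Function.Injective (f α) ∧ GrLC.IsGrHomDeg (GrLC.quotGr 𝒜 (P α)) 𝓔 (f α) (g α) ∧
      LinearMap.range (f α) ≤ J α ∧ ∀ Q : Submodule R E', Q.IsHomogeneous 𝓔 → Q ≤ J α → Q ≠ ⊥ →
        Q ⊓ LinearMap.range (f α) ≠ ⊥) :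
    Data J (fun α => (P α).toIdeal) (fun α => f α (Ideal.Quotient.mk (P α).toIdeal 1)) := by
  refine ⟨hind, htop, hP, fun α => (hf α).2.2.1 ⟨_, rfl⟩, fun α s => ?_,
    fun α x hx hx0 => ess_of_graded 𝒜 𝓔 (P α) (g α) (J α) (hJ α) (f α) (hf α) hx hx0⟩
  rw [← (f α).map_smul, ← mk_eq_smul_one, map_eq_zero_iff (f α) (hf α).1,
    Ideal.Quotient.eq_zero_iff_mem]

variable {M : Type u} [AddCommGroup M] [Module R M] (ℳ : ι → AddSubgroup M)
  [DirectSum.Decomposition ℳ] [SetLike.GradedSMul 𝒜 ℳ]

theorem kappa_ext_subsingleton (p : HomogeneousIdeal 𝒜) [p.toIdeal.IsPrime]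
    {I : Type u} [AddCommGroup I] [Module R I] (ℐ : ι → AddSubgroup I) [Decomposition ℐ]
    [SetLike.GradedSMul 𝒜 ℐ] (hI : IsStarInj 𝒜 ℐ) (n : ℕ) :
    Subsingleton (Abelian.Ext.{u}
      (ModuleCat.of (Localization.AtPrime p.toIdeal)
        (IsLocalRing.ResidueField (Localization.AtPrime p.toIdeal)))
      (ModuleCat.of (Localization.AtPrime p.toIdeal)
        (LocalizedModule p.toIdeal.primeCompl I)) (n + 1)) := by
  letI : Decomposition (Groth.Agent.Lib.GrStar2H1.quotGr 𝒜 p.toIdeal) :=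
    quotDecomp 𝒜 p.toIdeal p.isHomogeneous
  letI : SetLike.GradedSMul 𝒜 (Groth.Agent.Lib.GrStar2H1.quotGr 𝒜 p.toIdeal) :=
    quot_gsmul 𝒜 𝒜 p.toIdeal
  exact loc_ext_subsingleton p.toIdeal 𝒜 ℐ hI n (R ⧸ p.toIdeal)
    (Groth.Agent.Lib.GrStar2H1.quotGr 𝒜 p.toIdeal)
    (IsLocalRing.ResidueField (Localization.AtPrime p.toIdeal)) (toKappa p.toIdeal)

variable {ℳ}

theorem ess_ker (E : GrLC.StarInjRes 𝒜 ℳ) (n : ℕ)
    (hmin : ∀ P : Submodule R (E.X (n + 1)).carrier, P.IsHomogeneous (E.X (n + 1)).gr → P ≠ ⊥ →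
      P ⊓ LinearMap.range (E.d n) ≠ ⊥) :
    InjHull.IsEssentialInj (LinearMap.ker (E.d (n + 1))).subtype := by
  have hK : (LinearMap.ker (E.d (n + 1))).IsHomogeneous (E.X (n + 1)).gr :=
    ker_isHomogeneous _ _ (E.d_grHom (n + 1))
  letI := subDecomp (E.X (n + 1)).gr _ hK
  letI := sub_gsmul 𝒜 (E.X (n + 1)).gr (LinearMap.ker (E.d (n + 1)))
  refine main13211 𝒜 (subGr (E.X (n + 1)).gr (LinearMap.ker (E.d (n + 1)))) (E.X (n + 1)).gr
    ⟨Submodule.injective_subtype _, subtype_isGrHom _ _, fun P hP hP0 => ?_⟩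
  rw [Submodule.range_subtype, E.exact_succ n]
  exact hmin P hP hP0

theorem chain (E : GrLC.StarInjRes 𝒜 ℳ)
    (hmin0 : ∀ P : Submodule R (E.X 0).carrier, P.IsHomogeneous (E.X 0).gr → P ≠ ⊥ →
      P ⊓ LinearMap.range E.ε ≠ ⊥)
    (hmin : ∀ (n : ℕ) (P : Submodule R (E.X (n + 1)).carrier),
      P.IsHomogeneous (E.X (n + 1)).gr → P ≠ ⊥ → P ⊓ LinearMap.range (E.d n) ≠ ⊥)
    (p : HomogeneousIdeal 𝒜) [p.toIdeal.IsPrime] :
    ∀ n i : ℕ, GrLC.bassNum p.toIdeal M (i + n + 1) =
      GrLC.bassNum p.toIdeal (LinearMap.ker (E.d (n + 1))) i := by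
  have hd : ∀ (n : ℕ) (x : (E.X n).carrier), E.d n x ∈ LinearMap.ker (E.d (n + 1)) := by
    intro n x
    rw [E.exact_succ n]
    exact ⟨x, rfl⟩
  have hsurj : ∀ n : ℕ, Function.Surjective
      (LinearMap.codRestrict (LinearMap.ker (E.d (n + 1))) (E.d n) (hd n)) := by
    intro n y
    have hy : (y : (E.X (n + 1)).carrier) ∈ LinearMap.range (E.d n) := by
      rw [← E.exact_succ n]
      exact y.2
    obtain ⟨x, hx⟩ := hy
    exact ⟨x, Subtype.ext hx⟩
  intro n
  induction n with
  | zero =>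
    intro i
    have hess0 : InjHull.IsEssentialInj E.ε :=
      main13211 𝒜 ℳ (E.X 0).gr ⟨E.ε_injective, E.ε_grHom, hmin0⟩
    have hex : Function.Exact E.ε
        (LinearMap.codRestrict (LinearMap.ker (E.d 1)) (E.d 0) (hd 0)) := by
      intro y
      rw [Subtype.ext_iff, LinearMap.codRestrict_apply, Submodule.coe_zero, ← LinearMap.mem_ker,
        E.exact_zero]
      rfl
    exact bassNum_shift p.toIdeal E.ε _ hess0 (hsurj 0) hex
      (kappa_ext_subsingleton 𝒜 p (E.X 0).gr (E.starInj 0)) i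
  | succ n ih =>
    intro i
    have hi : i + (n + 1) + 1 = (i + 1) + n + 1 := by omega
    rw [hi, ih (i + 1)]
    have hex : Function.Exact (LinearMap.ker (E.d (n + 1))).subtype
        (LinearMap.codRestrict (LinearMap.ker (E.d (n + 1 + 1))) (E.d (n + 1)) (hd (n + 1))) := by
      intro y
      rw [Subtype.ext_iff, LinearMap.codRestrict_apply, Submodule.coe_zero, ← LinearMap.mem_ker,
        Submodule.coe_subtype, Subtype.range_coe_subtype]
      rfl
    exact bassNum_shift p.toIdeal _ _ (ess_ker 𝒜 E n (hmin n)) (hsurj (n + 1)) hex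
      (kappa_ext_subsingleton 𝒜 p (E.X (n + 1)).gr (E.starInj (n + 1))) i

theorem main13240 (E : GrLC.StarInjRes 𝒜 ℳ)
    (hmin0 : ∀ P : Submodule R (E.X 0).carrier, P.IsHomogeneous (E.X 0).gr → P ≠ ⊥ →
      P ⊓ LinearMap.range E.ε ≠ ⊥)
    (hmin : ∀ (n : ℕ) (P : Submodule R (E.X (n + 1)).carrier),
      P.IsHomogeneous (E.X (n + 1)).gr → P ≠ ⊥ → P ⊓ LinearMap.range (E.d n) ≠ ⊥)
    (j : ℕ) (Λ : Type u) (P : Λ → HomogeneousIdeal 𝒜) (hP : ∀ α, (P α).toIdeal.IsPrime)
    (g : Λ → ι) (J : Λ → Submodule R (E.X j).carrier)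
    (hJ : ∀ α, (J α).IsHomogeneous (E.X j).gr) (hind : iSupIndep J) (htop : iSup J = ⊤)
    (f : ∀ α, (R ⧸ (P α).toIdeal) →ₗ[R] (E.X j).carrier)
    (hf : ∀ α, Function.Injective (f α) ∧
      GrLC.IsGrHomDeg (GrLC.quotGr 𝒜 (P α)) (E.X j).gr (f α) (g α) ∧
      LinearMap.range (f α) ≤ J α ∧ ∀ Q : Submodule R (E.X j).carrier,
        Q.IsHomogeneous (E.X j).gr → Q ≤ J α → Q ≠ ⊥ → Q ⊓ LinearMap.range (f α) ≠ ⊥)
    (p : HomogeneousIdeal 𝒜) [p.toIdeal.IsPrime] :
    Cardinal.toENat (Cardinal.mk {α : Λ // P α = p}) = GrLC.bassNum p.toIdeal M j := by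
  classical
  cases j with
  | zero =>
    exact main13235 𝒜 (E.X 0).gr M ℳ E.ε ⟨⟨E.ε_injective, E.ε_grHom, hmin0⟩, E.starInj 0⟩
      Λ P hP g J hJ hind htop f hf p
  | succ n =>
    have h1 := chain 𝒜 E hmin0 hmin p n 0
    rw [zero_add] at h1
    rw [h1, bassNum_zero_eq p.toIdeal
      (data_of_graded 𝒜 (E.X (n + 1)).gr P hP g J hJ hind htop f hf) (ess_ker 𝒜 E n (hmin n))]
    exact congrArg Cardinal.toENat (Cardinal.mk_congr (Equiv.subtypeEquivRight
      (fun α => ⟨fun h => h ▸ rfl, fun h => HomogeneousIdeal.toIdeal_injective h⟩)))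

end graded

end Groth.Agent.Lib.BassShiftH1
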