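import Mathlib

/-!
# Localization of `Ext` groups of finite modules over a Noetherian ring (helper3)
-/

set_option autoImplicit false
universe u
open CategoryTheory Abelian

namespace Groth.Agent.Lib.ExtLocH3

variable {R : Type u} [CommRing R] (S : Submonoid R)

/-- The localization functor. -/
noncomputable abbrev LF : ModuleCat.{u} R ⥤ ModuleCat.{u} (Localization S) :=
  ModuleCat.localizedModuleFunctor.{u} S

theorem map_smul_id (N : ModuleCat.{u} R) (r : R) :
    (LF S).map (r • 𝟙 N) = (algebraMap R (Localization S) r) • 𝟙 ((LF S).obj N) := by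
  ext x
  have h1 : (r • 𝟙 N : N ⟶ N).hom = r • LinearMap.id := by
    ext y
    simp
  change IsLocalizedModule.mapExtendScalars S (N.localizedModuleMkLinearMap S)
    (N.localizedModuleMkLinearMap S) (Localization S) (r • 𝟙 N : N ⟶ N).hom x = _
  rw [h1, map_smul]
  simp only [LinearMap.smul_apply, IsLocalizedModule.mapExtendScalars_apply_apply,
    IsLocalizedModule.map_id, LinearMap.id_coe, id_eq, ModuleCat.hom_smul, ModuleCat.hom_id]
  exact (algebraMap_smul (Localization S) r (show ↑(N.localizedModule S) from x)).symm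

theorem mapExt_smul (M N : ModuleCat.{u} R) (i : ℕ) (r : R) (e : Ext M N i) :
    (LF S).mapExtAddHom M N i (r • e) =
      (algebraMap R (Localization S) r) • (LF S).mapExtAddHom M N i e := by
  rw [Functor.mapExtAddHom_apply, Functor.mapExtAddHom_apply, Ext.smul_eq_comp_mk₀,
    Ext.mapExactFunctor_comp, Ext.mapExactFunctor_mk₀, map_smul_id, Ext.mk₀_smul, Ext.comp_smul,
    Ext.comp_mk₀_id]

/-- The diagram chase. -/
theorem chase {R' : Type*} [CommRing R'] [Algebra R R']
    {A₁ A₂ A₃ B₁ B₂ B₃ : Type*} [AddCommGroup A₁] [AddCommGroup A₂] [AddCommGroup A₃]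
    [AddCommGroup B₁] [AddCommGroup B₂] [AddCommGroup B₃]
    [Module R A₁] [Module R A₂] [Module R A₃] [Module R' B₁] [Module R' B₂] [Module R' B₃]
    (a₁ : A₁ → A₂) (a₂ : A₂ → A₃) (b₁ : B₁ → B₂) (b₂ : B₂ → B₃)
    (f₁ : A₁ → B₁) (f₂ : A₂ →+ B₂) (f₃ : A₃ → B₃)
    (ha₁ : ∀ (r : R) x, a₁ (r • x) = r • a₁ x) (ha₂ : ∀ (r : R) x, a₂ (r • x) = r • a₂ x)
    (hb₁ : ∀ (r : R') x, b₁ (r • x) = r • b₁ x) (hb₂ : ∀ (r : R') x, b₂ (r • x) = r • b₂ x)
    (hf₂ : ∀ (r : R) x, f₂ (r • x) = algebraMap R R' r • f₂ x)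
    (sq₁ : ∀ x, f₂ (a₁ x) = b₁ (f₁ x)) (sq₂ : ∀ x, f₃ (a₂ x) = b₂ (f₂ x))
    (ha : ∀ x, a₂ (a₁ x) = 0) (hb : ∀ y, b₂ y = 0 → ∃ z, b₁ z = y)
    (ha₂s : Function.Surjective a₂) (hb₂s : Function.Surjective b₂)
    (h₁ : ∀ y : B₁, ∃ (x : A₁) (s : S), algebraMap R R' s • y = f₁ x)
    (h₂ : ∀ y : B₂, ∃ (x : A₂) (s : S), algebraMap R R' s • y = f₂ x)
    (h₂' : ∀ x : A₂, f₂ x = 0 → ∃ s : S, (s : R) • x = 0) :
    (∀ y : B₃, ∃ (x : A₃) (s : S), algebraMap R R' s • y = f₃ x) ∧
    (∀ x : A₃, f₃ x = 0 → ∃ s : S, (s : R) • x = 0) := by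
  constructor
  · intro y
    obtain ⟨y₂, rfl⟩ := hb₂s y
    obtain ⟨x₂, s, hs⟩ := h₂ y₂
    exact ⟨a₂ x₂, s, by rw [← hb₂, hs, sq₂]⟩
  · intro x hx
    obtain ⟨x₂, rfl⟩ := ha₂s x
    rw [sq₂] at hx
    obtain ⟨y₁, hy₁⟩ := hb _ hx
    obtain ⟨x₁, s, hs⟩ := h₁ y₁
    have h3 : f₂ ((s : R) • x₂ - a₁ x₁) = 0 := by
      rw [map_sub, hf₂, sq₁, ← hs, hb₁, hy₁, sub_self]
    obtain ⟨t, ht⟩ := h₂' _ h3
    refine ⟨t * s, ?_⟩
    rw [smul_sub, sub_eq_zero] at ht
    rw [← ha₂, Submonoid.coe_mul, mul_smul, ht, ← ha₁, ha]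

/-- Degree zero: homomorphisms out of a finitely presented module localize. -/
theorem zero_case [IsNoetherianRing R] (M N : ModuleCat.{u} R) [Module.Finite R M] :
    (∀ y : Ext ((LF S).obj M) ((LF S).obj N) 0, ∃ (e : Ext M N 0) (s : S),
        algebraMap R (Localization S) (s : R) • y = (LF S).mapExtAddHom M N 0 e) ∧
    (∀ e : Ext M N 0, (LF S).mapExtAddHom M N 0 e = 0 → ∃ s : S, (s : R) • e = 0) := by
  haveI : Module.FinitePresentation R M := Module.finitePresentation_of_finite R M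
  haveI hloc : IsLocalizedModule S (IsLocalizedModule.mapExtendScalars S
      (M.localizedModuleMkLinearMap S) (N.localizedModuleMkLinearMap S) (Localization S)) :=
    inferInstance
  constructor
  · intro y
    obtain ⟨g, rfl⟩ := (Ext.mk₀_bijective _ _).2 y
    obtain ⟨⟨h, s⟩, hs⟩ := IsLocalizedModule.surj S (IsLocalizedModule.mapExtendScalars S
      (M.localizedModuleMkLinearMap S) (N.localizedModuleMkLinearMap S) (Localization S)) g.hom
    refine ⟨Ext.mk₀ (ModuleCat.ofHom h), s, ?_⟩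
    rw [Functor.mapExtAddHom_apply, Ext.mapExactFunctor_mk₀, ← Ext.mk₀_smul]
    congr 1
    ext x
    have h1 := LinearMap.congr_fun hs x
    have h2 : ((LF S).map (ModuleCat.ofHom h)).hom x = (IsLocalizedModule.mapExtendScalars S
        (M.localizedModuleMkLinearMap S) (N.localizedModuleMkLinearMap S) (Localization S) h) x :=
      rfl
    rw [h2, ← h1, ModuleCat.hom_smul, LinearMap.smul_apply]
    exact algebraMap_smul (Localization S) (s : R)
      (show ↑(N.localizedModule S) from g.hom x)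
  · intro e he
    obtain ⟨f, rfl⟩ := (Ext.mk₀_bijective _ _).2 e
    rw [Functor.mapExtAddHom_apply, Ext.mapExactFunctor_mk₀] at he
    have h0 : (LF S).map f = 0 := (Ext.mk₀_bijective _ _).1 (he.trans (Ext.mk₀_zero _ _).symm)
    have h1 : IsLocalizedModule.mapExtendScalars S (M.localizedModuleMkLinearMap S)
        (N.localizedModuleMkLinearMap S) (Localization S) f.hom = 0 := by
      have h2 := congrArg ModuleCat.Hom.hom h0
      exact h2
    obtain ⟨s, hs⟩ := (IsLocalizedModule.eq_zero_iff S _).mp h1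
    refine ⟨s, ?_⟩
    rw [← Ext.mk₀_smul]
    have h3 : (s : R) • f = 0 := by
      ext x
      have h4 := LinearMap.congr_fun hs x
      rw [ModuleCat.hom_smul, ModuleCat.hom_zero]
      exact h4
    rw [h3, Ext.mk₀_zero]

/-- The inductive step, for an arbitrary short exact sequence with projective middle term. -/
theorem step (S' : ShortComplex (ModuleCat.{u} R)) (hS' : S'.ShortExact) [Projective S'.X₂]
    (N : ModuleCat.{u} R) (i : ℕ)
    (ih₁ : ∀ y : Ext ((LF S).obj S'.X₂) ((LF S).obj N) i, ∃ (e : Ext S'.X₂ N i) (s : S),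
        algebraMap R (Localization S) (s : R) • y = (LF S).mapExtAddHom S'.X₂ N i e)
    (ih₂ : ∀ y : Ext ((LF S).obj S'.X₁) ((LF S).obj N) i, ∃ (e : Ext S'.X₁ N i) (s : S),
        algebraMap R (Localization S) (s : R) • y = (LF S).mapExtAddHom S'.X₁ N i e)
    (ih₂' : ∀ e : Ext S'.X₁ N i, (LF S).mapExtAddHom S'.X₁ N i e = 0 → ∃ s : S, (s : R) • e = 0) :
    (∀ y : Ext ((LF S).obj S'.X₃) ((LF S).obj N) (i + 1), ∃ (e : Ext S'.X₃ N (i + 1)) (s : S),
        algebraMap R (Localization S) (s : R) • y = (LF S).mapExtAddHom S'.X₃ N (i + 1) e) ∧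
    (∀ e : Ext S'.X₃ N (i + 1),
      (LF S).mapExtAddHom S'.X₃ N (i + 1) e = 0 → ∃ s : S, (s : R) • e = 0) := by
  haveI : Projective (S'.map (LF S)).X₂ := (LF S).projective_obj S'.X₂
  have hS'L : (S'.map (LF S)).ShortExact := hS'.map_of_exact (LF S)
  refine chase S (R' := Localization S)
    (a₁ := fun x : Ext S'.X₂ N i => (Ext.mk₀ S'.f).comp x (zero_add i))
    (a₂ := fun x : Ext S'.X₁ N i => hS'.extClass.comp x (add_comm 1 i))
    (b₁ := fun y : Ext ((LF S).obj S'.X₂) ((LF S).obj N) i =>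
      (Ext.mk₀ (S'.map (LF S)).f).comp y (zero_add i))
    (b₂ := fun y : Ext ((LF S).obj S'.X₁) ((LF S).obj N) i =>
      hS'L.extClass.comp y (add_comm 1 i))
    (f₁ := (LF S).mapExtAddHom S'.X₂ N i) (f₂ := (LF S).mapExtAddHom S'.X₁ N i)
    (f₃ := (LF S).mapExtAddHom S'.X₃ N (i + 1))
    (fun r x => Ext.comp_smul _ _ _ _) (fun r x => Ext.comp_smul _ _ _ _)
    (fun r x => Ext.comp_smul _ _ _ _) (fun r x => Ext.comp_smul _ _ _ _)
    (fun r x => mapExt_smul S _ _ _ r x) ?_ ?_ ?_ ?_ ?_ ?_ ih₁ ih₂ ih₂'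
  · intro x
    show ((Ext.mk₀ S'.f).comp x (zero_add i)).mapExactFunctor (LF S) =
      (Ext.mk₀ ((LF S).map S'.f)).comp (x.mapExactFunctor (LF S)) (zero_add i)
    rw [Ext.mapExactFunctor_comp, Ext.mapExactFunctor_mk₀]
  · intro x
    show (hS'.extClass.comp x (add_comm 1 i)).mapExactFunctor (LF S) =
      (hS'.map_of_exact (LF S)).extClass.comp (x.mapExactFunctor (LF S)) (add_comm 1 i)
    rw [Ext.mapExactFunctor_comp, Ext.mapExactFunctor_extClass]
    rfl
  · intro x
    exact hS'.extClass_comp_assoc x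
  · intro y hy
    exact Ext.contravariant_sequence_exact₁ hS'L _ y (add_comm 1 i) hy
  · intro x₃
    exact Ext.contravariant_sequence_exact₃ hS' _ x₃ (Ext.eq_zero_of_projective _)
      (add_comm 1 i)
  · intro y₃
    exact Ext.contravariant_sequence_exact₃ hS'L _ y₃ (Ext.eq_zero_of_projective _)
      (add_comm 1 i)

/-- The main induction. -/
theorem main [IsNoetherianRing R] (N : ModuleCat.{u} R) (i : ℕ) :
    ∀ (M : ModuleCat.{u} R) [Module.Finite R M],
    (∀ y : Ext ((LF S).obj M) ((LF S).obj N) i, ∃ (e : Ext M N i) (s : S),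
        algebraMap R (Localization S) (s : R) • y = (LF S).mapExtAddHom M N i e) ∧
    (∀ e : Ext M N i, (LF S).mapExtAddHom M N i e = 0 → ∃ s : S, (s : R) • e = 0) := by
  induction i with
  | zero =>
    intro M _
    exact zero_case S M N
  | succ i ih =>
    intro M _
    obtain ⟨n, p, hp⟩ := Module.Finite.exists_fin' R M
    let S' : ShortComplex (ModuleCat.{u} R) :=
      ShortComplex.mk (X₁ := ModuleCat.of R (LinearMap.ker p))
        (X₂ := ModuleCat.of R (Fin n → R)) (X₃ := M)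
        (ModuleCat.ofHom (LinearMap.ker p).subtype)
        (ModuleCat.ofHom p : ModuleCat.of R (Fin n → R) ⟶ M) (by
          ext x
          exact x.2)
    have hS' : S'.ShortExact := ModuleCat.shortComplex_shortExact S'
      (LinearMap.exact_subtype_ker_map p) (Submodule.injective_subtype _) hp
    haveI : Projective S'.X₂ :=
      (ModuleCat.of R (Fin n → R)).projective_of_categoryTheory_projective
    haveI : Module.Finite R S'.X₁ := (inferInstance : Module.Finite R (LinearMap.ker p))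
    haveI : Module.Finite R S'.X₂ := (inferInstance : Module.Finite R (Fin n → R))
    obtain ⟨ih₁, -⟩ := ih S'.X₂
    obtain ⟨ih₂, ih₂'⟩ := ih S'.X₁
    exact step S S' hS' N i ih₁ ih₂ ih₂'

/-- The statement: `Ext` of finite modules over a Noetherian ring localizes. -/
theorem result' [IsNoetherianRing R] (M N : ModuleCat.{u} R) [Module.Finite R M] (i : ℕ) :
    (∀ y : Ext ((LF S).obj M) ((LF S).obj N) i, ∃ (e : Ext M N i) (s : S),
        algebraMap R (Localization S) (s : R) • y = (LF S).mapExtAddHom M N i e) ∧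
    (∀ e : Ext M N i, (LF S).mapExtAddHom M N i e = 0 ↔ ∃ s : S, (s : R) • e = 0) := by
  obtain ⟨h1, h2⟩ := main S N i M
  refine ⟨h1, fun e => ⟨h2 e, ?_⟩⟩
  rintro ⟨s, hs⟩
  have h3 := congrArg ((LF S).mapExtAddHom M N i) hs
  rw [mapExt_smul, map_zero] at h3
  have hu : IsUnit (algebraMap R (Localization S) (s : R)) := IsLocalization.map_units _ s
  exact (hu.smul_eq_zero).mp h3

end Groth.Agent.Lib.ExtLocH3
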