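import Groth.Agent.Lib.GlDim_helper5

/-!
# Finite injective dimension over a Noetherian local ring is detected by `Ext(κ, -)` (helper5)

`A` Noetherian local, `M` a finite `A`-module with `Ext^i(κ, M) = 0` for `i ≥ N`.  Then
`Ext^i(A/I, M) = 0` for all ideals `I` and `i ≥ N` (Noetherian induction on `I`, Nakayama on the
finite modules `Ext^i(A/I, M)`), hence `M` has finite injective dimension (Baer's criterion via
`GlDim.hasInjectiveDimensionLT_of_ext_quot`).
-/

set_option autoImplicit false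
set_option maxHeartbeats 400000
universe u
open CategoryTheory CategoryTheory.Limits Abelian IsLocalRing

namespace Groth.Agent.InjDimLocal

open Groth.Agent.TorLES Groth.Agent.Lib.RegFlat3 Groth.Agent.GlDim

variable {A : Type u} [CommRing A]

/-- precomposition with a homothety is the homothety. -/
lemma mk₀_smul_id_comp {X Y : ModuleCat.{u} A} (r : A) (n : ℕ) (e : Ext X Y n) :
    (Ext.mk₀ (r • 𝟙 X)).comp e (zero_add n) = r • e := by
  rw [Ext.mk₀_smul, Ext.smul_comp, Ext.mk₀_id_comp]

section step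

variable (M : ModuleCat.{u} A) (I : Ideal A) (x : A)

/-- the quotient map `A/I → A/(I + (x))`. -/
noncomputable abbrev qmap : (A ⧸ I) →ₗ[A] (A ⧸ (I ⊔ Ideal.span {x})) :=
  Submodule.mapQ I (I ⊔ Ideal.span {x}) LinearMap.id (by
    rw [Submodule.comap_id]; exact le_sup_left)

lemma qmap_surjective : Function.Surjective (qmap I x) := by
  intro y
  obtain ⟨a, rfl⟩ := Submodule.Quotient.mk_surjective _ y
  exact ⟨Submodule.Quotient.mk a, rfl⟩

/-- regular case: if `x` is regular on `A/I` and `Ext^{i+1}(A/(I + (x)), M) = 0`, then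
`Ext^i(A/I, M) = x • Ext^i(A/I, M)`. -/
lemma ext_le_smul_of_regular (hinj : Function.Injective (LinearMap.lsmul A (A ⧸ I) x)) (i : ℕ)
    (h : Subsingleton (Ext (ModuleCat.of A (A ⧸ (I ⊔ Ideal.span {x}))) M (i + 1)))
    (e : Ext (ModuleCat.of A (A ⧸ I)) M i) :
    ∃ e' : Ext (ModuleCat.of A (A ⧸ I)) M i, x • e' = e := by
  have hex := exact_lsmul_mapQ I x
  have hS := mk_shortExact (LinearMap.lsmul A (A ⧸ I) x) (qmap I x) hinj hex (qmap_surjective I x)
  obtain ⟨e', he'⟩ := Ext.contravariant_sequence_exact₁ hS M e (add_comm 1 i)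
    (@Subsingleton.elim _ h _ _)
  refine ⟨e', ?_⟩
  rw [← he']
  have hf : ModuleCat.ofHom (LinearMap.lsmul A (A ⧸ I) x) = x • 𝟙 (ModuleCat.of A (A ⧸ I)) := by
    ext
    rfl
  change _ = (Ext.mk₀ (ModuleCat.ofHom (LinearMap.lsmul A (A ⧸ I) x))).comp e' _
  rw [hf, mk₀_smul_id_comp]

/-- non-regular case: if `x ∉ I` is a zero divisor on `A/I` and `Ext^i(A/J, M) = 0` for all
`J > I`, then `Ext^i(A/I, M) = 0`. -/
lemma ext_subsingleton_of_not_regular (hx : x ∉ I)
    (hninj : ¬ Function.Injective (LinearMap.lsmul A (A ⧸ I) x)) (i : ℕ)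
    (h1 : ∀ J : Ideal A, I < J → Subsingleton (Ext (ModuleCat.of A (A ⧸ J)) M i)) :
    Subsingleton (Ext (ModuleCat.of A (A ⧸ I)) M i) := by
  let μ : A →ₗ[A] A ⧸ I := (LinearMap.lsmul A (A ⧸ I) x) ∘ₗ (Submodule.mkQ I)
  let J : Ideal A := LinearMap.ker μ
  have hIJ : I ≤ J := by
    intro a ha
    change μ a = 0
    change x • (Submodule.Quotient.mk a : A ⧸ I) = 0
    rw [(Submodule.Quotient.mk_eq_zero I).mpr ha, smul_zero]
  have hne : I ≠ J := by
    intro hIJ'
    apply hninj
    rw [← LinearMap.ker_eq_bot, LinearMap.ker_eq_bot']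
    intro y hy
    obtain ⟨a, rfl⟩ := Submodule.Quotient.mk_surjective _ y
    have : a ∈ J := hy
    rw [← hIJ'] at this
    exact (Submodule.Quotient.mk_eq_zero I).mpr this
  have hlt : I < J := lt_of_le_of_ne hIJ hne
  have hlt' : I < I ⊔ Ideal.span {x} := by
    refine lt_of_le_of_ne le_sup_left fun h => hx ?_
    rw [h]
    exact Ideal.mem_sup_right (Ideal.subset_span rfl)
  let f : (A ⧸ J) →ₗ[A] (A ⧸ I) := Submodule.liftQ J μ le_rfl
  have hf : Function.Injective f := by
    rw [← LinearMap.ker_eq_bot]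
    exact Submodule.ker_liftQ_eq_bot' J μ rfl
  have hex : Function.Exact f (qmap I x) := by
    rw [LinearMap.exact_iff, LinearMap.exact_iff.mp (exact_lsmul_mapQ I x), Submodule.range_liftQ,
      LinearMap.range_comp_of_range_eq_top _ (Submodule.range_mkQ I)]
  have hS := mk_shortExact f (qmap I x) hf hex (qmap_surjective I x)
  refine ⟨fun e₁ e₂ => ?_⟩
  have key : ∀ e : Ext (ModuleCat.of A (A ⧸ I)) M i, e = 0 := by
    intro e
    obtain ⟨e', he'⟩ := Ext.contravariant_sequence_exact₂ hS M e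
      (@Subsingleton.elim _ (h1 J hlt) _ _)
    have he0 : e' = 0 := @Subsingleton.elim _ (h1 _ hlt') e' 0
    rw [← he', he0, Ext.comp_zero]
    rfl
  rw [key e₁, key e₂]

end step

section main

variable [IsLocalRing A] [IsNoetherianRing A] (M : Type u) [AddCommGroup M] [Module A M]
  [Module.Finite A M]

/-- if `Ext^i(κ, M) = 0` for `i ≥ N` then `Ext^i(A/I, M) = 0` for all ideals `I` and `i ≥ N`. -/
theorem ext_quot_subsingleton (N : ℕ)
    (h : ∀ i, N ≤ i → Subsingleton
      (Ext (ModuleCat.of A (ResidueField A)) (ModuleCat.of A M) i)) :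
    ∀ (I : Ideal A) (i : ℕ), N ≤ i →
      Subsingleton (Ext (ModuleCat.of A (A ⧸ I)) (ModuleCat.of A M) i) := by
  intro I
  induction I using IsNoetherian.induction with
  | hgt I ih =>
  intro i hi
  by_cases htop : I = ⊤
  · subst htop
    refine ⟨fun e₁ e₂ => ?_⟩
    have key : ∀ e : Ext (ModuleCat.of A (A ⧸ (⊤ : Ideal A))) (ModuleCat.of A M) i, e = 0 := by
      intro e
      have h0 : 𝟙 (ModuleCat.of A (A ⧸ (⊤ : Ideal A))) = 0 := by
        ext
        exact Subsingleton.elim _ _
      rw [← Ext.mk₀_id_comp e, h0, Ext.mk₀_zero, Ext.zero_comp]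
    rw [key e₁, key e₂]
  have hle : I ≤ maximalIdeal A := IsLocalRing.le_maximalIdeal htop
  by_cases hm : I = maximalIdeal A
  · subst hm
    exact h i hi
  obtain ⟨x, hxm, hxI⟩ := SetLike.exists_of_lt (lt_of_le_of_ne hle hm)
  have hlt' : I < I ⊔ Ideal.span {x} := by
    refine lt_of_le_of_ne le_sup_left fun h => hxI ?_
    rw [h]
    exact Ideal.mem_sup_right (Ideal.subset_span rfl)
  by_cases hinj : Function.Injective (LinearMap.lsmul A (A ⧸ I) x)
  · -- Nakayama
    have hsub := ih (I ⊔ Ideal.span {x}) hlt' (i + 1) (by omega)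
    have hall := ext_le_smul_of_regular (ModuleCat.of A M) I x hinj i hsub
    haveI : Module.Finite A (ModuleCat.of A (A ⧸ I)) :=
      inferInstanceAs (Module.Finite A (A ⧸ I))
    haveI : Module.Finite A (ModuleCat.of A M) := inferInstanceAs (Module.Finite A M)
    have hfin : Module.Finite A (Ext (ModuleCat.of A (A ⧸ I)) (ModuleCat.of A M) i) :=
      ModuleCat.finite_ext A _ _ i
    have hbot : (⊤ : Submodule A (Ext (ModuleCat.of A (A ⧸ I)) (ModuleCat.of A M) i)) = ⊥ := by
      apply Submodule.eq_bot_of_le_smul_of_le_jacobson_bot (maximalIdeal A) _ hfin.fg_top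
      · intro e _
        obtain ⟨e', rfl⟩ := hall e
        exact Submodule.smul_mem_smul hxm trivial
      · exact IsLocalRing.maximalIdeal_le_jacobson ⊥
    exact (Submodule.subsingleton_iff A).mp (subsingleton_of_bot_eq_top hbot.symm)
  · exact ext_subsingleton_of_not_regular (ModuleCat.of A M) I x hxI hinj i
      (fun J hJ => ih J hJ i hi)

/-- finite injective dimension from eventual vanishing of `Ext(κ, -)`. -/
theorem hasInjectiveDimensionLT_of_ext_residueField (N : ℕ)
    (h : ∀ i, N ≤ i → Subsingleton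
      (Ext (ModuleCat.of A (ResidueField A)) (ModuleCat.of A M) i)) :
    HasInjectiveDimensionLT (ModuleCat.of A M) (N + 1) := by
  apply hasInjectiveDimensionLT_of_ext_quot N
  intro I e
  exact @Subsingleton.elim _ (ext_quot_subsingleton M N h I (N + 1) (by omega)) _ _

/-- the characterisation. -/
theorem main_iff :
    (∃ n : ℕ, HasInjectiveDimensionLT (ModuleCat.of A M) n) ↔ ∃ N : ℕ, ∀ i : ℕ, N ≤ i →
      Subsingleton (Ext (ModuleCat.of A (ResidueField A)) (ModuleCat.of A M) i) := by
  constructor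
  · rintro ⟨n, hn⟩
    exact ⟨n, fun i hi => HasInjectiveDimensionLT.subsingleton _ n i hi _⟩
  · rintro ⟨N, hN⟩
    exact ⟨N + 1, hasInjectiveDimensionLT_of_ext_residueField M N hN⟩

end main

end Groth.Agent.InjDimLocal
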