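import Mathlib
import Groth.Prelude.Def_CAlg
import Groth.Prelude.Def_GrLC2
import Groth.Agent.Lib.ExtLoc_helper3
import Groth.Agent.Lib.InjDimLocal_helper5
import Groth.Agent.Lib.BassShift_helper1
import Groth.Agent.Lib.AcycRes_helper1

/-! Localization and the Gorenstein property: Bass numbers at smaller primes, global finite
injective dimension implies Gorenstein, finite resolutions by modules of small injective
dimension (helper1). -/

set_option autoImplicit false

namespace Groth.Agent.Lib.GorLocH1

open CategoryTheory Abelian Groth.Agent.Lib.ExtLocH3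

universe u

/-! ### transport of vanishing of `Ext` along isomorphisms -/
section iso

variable {A : Type u} [CommRing A]

theorem ext_subsingleton_of_iso_left {X X' Y : ModuleCat.{u} A} (e : X ≅ X') (i : ℕ)
    (h : Subsingleton (Ext.{u} X Y i)) : Subsingleton (Ext.{u} X' Y i) := by
  have key : ∀ x : Ext.{u} X' Y i, x = 0 := by
    intro x
    have h1 : x = (Ext.mk₀ e.inv).comp ((Ext.mk₀ e.hom).comp x (zero_add i)) (zero_add i) := by
      rw [Ext.mk₀_comp_mk₀_assoc, e.inv_hom_id, Ext.mk₀_id_comp]
    calc x = _ := h1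
      _ = 0 := by
        rw [Subsingleton.elim ((Ext.mk₀ e.hom).comp x (zero_add i)) 0, Ext.comp_zero]
  exact ⟨fun a b => by rw [key a, key b]⟩

theorem ext_subsingleton_of_iso_right {X Y Y' : ModuleCat.{u} A} (f : Y ≅ Y') (i : ℕ)
    (h : Subsingleton (Ext.{u} X Y i)) : Subsingleton (Ext.{u} X Y' i) := by
  have key : ∀ x : Ext.{u} X Y' i, x = 0 := by
    intro x
    have h1 : x = (x.comp (Ext.mk₀ f.inv) (add_zero i)).comp (Ext.mk₀ f.hom) (add_zero i) := by
      rw [Ext.comp_assoc_of_third_deg_zero, Ext.mk₀_comp_mk₀, f.inv_hom_id, Ext.comp_mk₀_id]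
    calc x = _ := h1
      _ = 0 := by
        rw [Subsingleton.elim (x.comp (Ext.mk₀ f.inv) (add_zero i)) 0, Ext.zero_comp]
  exact ⟨fun a b => by rw [key a, key b]⟩

theorem ext_subsingleton_of_isZero {X Y : ModuleCat.{u} A} (hY : Limits.IsZero Y) (i : ℕ) :
    Subsingleton (Ext.{u} X Y i) := by
  have key : ∀ x : Ext.{u} X Y i, x = 0 := by
    intro x
    rw [← x.comp_mk₀_id, hY.eq_of_src (𝟙 Y) 0, Ext.mk₀_zero, Ext.comp_zero]
  exact ⟨fun a b => by rw [key a, key b]⟩

end iso

/-! ### the localization functor -/
section LFsec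

variable {R : Type u} [CommRing R] (S : Submonoid R)

/-- the value of the localization functor, identified with any localization of the module -/
noncomputable def LFiso (M : Type u) [AddCommGroup M] [Module R M] (N' : Type u)
    [AddCommGroup N'] [Module R N'] [Module (Localization S) N']
    [IsScalarTower R (Localization S) N'] (f : M →ₗ[R] N') [IsLocalizedModule S f] :
    (LF S).obj (ModuleCat.of R M) ≅ ModuleCat.of (Localization S) N' :=
  haveI : IsLocalizedModule S ((ModuleCat.of R M).localizedModuleMkLinearMap S) :=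
    ModuleCat.localizedModule_isLocalizedModule (ModuleCat.of R M) S
  ((IsLocalizedModule.linearEquiv S ((ModuleCat.of R M).localizedModuleMkLinearMap S)
    f).extendScalarsOfIsLocalization S (Localization S)).toModuleIso

variable [IsNoetherianRing R]

theorem ext_loc_subsingleton (M N : ModuleCat.{u} R) [Module.Finite R M] (i : ℕ)
    (h : ∀ e : Ext M N i, ∃ t : S, (t : R) • e = 0) :
    Subsingleton (Ext ((LF S).obj M) ((LF S).obj N) i) := by
  obtain ⟨h1, h2⟩ := result' S M N i
  have key : ∀ y : Ext ((LF S).obj M) ((LF S).obj N) i, y = 0 := by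
    intro y
    obtain ⟨e, s, hs⟩ := h1 y
    have he : (LF S).mapExtAddHom M N i e = 0 := (h2 e).2 (h e)
    rw [he] at hs
    have hu : IsUnit (algebraMap R (Localization S) (s : R)) := IsLocalization.map_units _ s
    exact (hu.smul_eq_zero).mp hs
  exact ⟨fun a b => by rw [key a, key b]⟩

theorem exists_smul_eq_zero (M N : ModuleCat.{u} R) [Module.Finite R M] (i : ℕ)
    (h : Subsingleton (Ext ((LF S).obj M) ((LF S).obj N) i)) (e : Ext M N i) :
    ∃ t : S, (t : R) • e = 0 :=
  ((result' S M N i).2 e).1 (Subsingleton.elim _ _)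

end LFsec

/-! ### Bass numbers at smaller primes -/
section bass

variable {R : Type u} [CommRing R] [IsNoetherianRing R]

/-- `R_P`-isomorphism between the localized module of `R` and `R_P` -/
noncomputable def locSelfIso (P : Ideal R) [P.IsPrime] :
    ModuleCat.of (Localization.AtPrime P) (LocalizedModule P.primeCompl R) ≅
      ModuleCat.of (Localization.AtPrime P) (Localization.AtPrime P) :=
  ((IsLocalizedModule.iso P.primeCompl
    (Algebra.linearMap R (Localization.AtPrime P))).extendScalarsOfIsLocalization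
    P.primeCompl (Localization.AtPrime P)).toModuleIso

theorem ext_kappa_subsingleton (P : Ideal R) [P.IsPrime] (i : ℕ)
    (h : ∀ e : Ext (ModuleCat.of R (R ⧸ P)) (ModuleCat.of R R) i,
      ∃ t : P.primeCompl, (t : R) • e = 0) :
    Subsingleton (Ext.{u}
      (ModuleCat.of (Localization.AtPrime P) (IsLocalRing.ResidueField (Localization.AtPrime P)))
      (ModuleCat.of (Localization.AtPrime P) (LocalizedModule P.primeCompl R)) i) := by
  haveI : Module.Finite R ↑(ModuleCat.of R (R ⧸ P)) :=
    inferInstanceAs (Module.Finite R (R ⧸ P))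
  have h1 := ext_loc_subsingleton P.primeCompl (ModuleCat.of R (R ⧸ P)) (ModuleCat.of R R) i h
  have h2 := ext_subsingleton_of_iso_left (LFiso P.primeCompl (R ⧸ P)
    (IsLocalRing.ResidueField (Localization.AtPrime P))
    (Groth.Agent.Lib.BassShiftH1.toKappa P)) i h1
  exact ext_subsingleton_of_iso_right (LFiso P.primeCompl R (LocalizedModule P.primeCompl R)
    (LocalizedModule.mkLinearMap P.primeCompl R)) i h2

theorem bassNum_eq_zero_of_le (m p : Ideal R) [m.IsPrime] [p.IsPrime] (hpm : p ≤ m) (N : ℕ)
    (h : ∀ i, N ≤ i → GrLC.bassNum m R i = 0) (i : ℕ) (hi : N + 1 ≤ i) :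
    GrLC.bassNum p R i = 0 := by
  have hsub : ∀ j, N ≤ j → Subsingleton (Ext
      (ModuleCat.of (Localization.AtPrime m) (IsLocalRing.ResidueField (Localization.AtPrime m)))
      (ModuleCat.of (Localization.AtPrime m) (Localization.AtPrime m)) j) := by
    intro j hj
    have h0 := h j hj
    unfold GrLC.bassNum GrLC.bassNumLocal at h0
    rw [Module.length_eq_zero_iff] at h0
    exact ext_subsingleton_of_iso_right (locSelfIso m) j h0
  haveI hinj : HasInjectiveDimensionLT
      (ModuleCat.of (Localization.AtPrime m) (Localization.AtPrime m)) (N + 1) :=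
    Groth.Agent.InjDimLocal.hasInjectiveDimensionLT_of_ext_residueField
      (Localization.AtPrime m) N hsub
  haveI : Module.Finite R ↑(ModuleCat.of R (R ⧸ p)) :=
    inferInstanceAs (Module.Finite R (R ⧸ p))
  have hkill : ∀ e : Ext (ModuleCat.of R (R ⧸ p)) (ModuleCat.of R R) i,
      ∃ t : m.primeCompl, (t : R) • e = 0 := by
    intro e
    have h2 : Subsingleton (Ext ((LF m.primeCompl).obj (ModuleCat.of R (R ⧸ p)))
        (ModuleCat.of (Localization.AtPrime m) (Localization.AtPrime m)) i) :=
      HasInjectiveDimensionLT.subsingleton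
        (ModuleCat.of (Localization.AtPrime m) (Localization.AtPrime m)) (N + 1) i hi _
    have h1 : Subsingleton (Ext ((LF m.primeCompl).obj (ModuleCat.of R (R ⧸ p)))
        ((LF m.primeCompl).obj (ModuleCat.of R R)) i) :=
      ext_subsingleton_of_iso_right (LFiso m.primeCompl R (Localization.AtPrime m)
        (Algebra.linearMap R (Localization.AtPrime m))).symm i h2
    exact exists_smul_eq_zero m.primeCompl _ _ i h1 e
  have h3 := ext_kappa_subsingleton p i (fun e => by
    obtain ⟨t, ht⟩ := hkill e
    exact ⟨⟨t, fun htp => t.2 (hpm htp)⟩, ht⟩)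
  unfold GrLC.bassNum GrLC.bassNumLocal
  rw [Module.length_eq_zero_iff]
  exact h3

/-- finite injective dimension of `R` over itself implies Gorenstein -/
theorem isGorensteinRing_of_injDim (N : ℕ)
    (h : HasInjectiveDimensionLT (ModuleCat.of R R) N) : LocCoh.IsGorensteinRing R := by
  refine { isGorensteinLocalRing_localization := fun P hP => ?_ }
  haveI : Module.Finite R ↑(ModuleCat.of R (R ⧸ P)) :=
    inferInstanceAs (Module.Finite R (R ⧸ P))
  have hsub : ∀ i, N ≤ i → Subsingleton (Ext
      (ModuleCat.of (Localization.AtPrime P) (IsLocalRing.ResidueField (Localization.AtPrime P)))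
      (ModuleCat.of (Localization.AtPrime P) (Localization.AtPrime P)) i) := by
    intro i hi
    have h1 := ext_kappa_subsingleton P i (fun e => ⟨1, by
      rw [@Subsingleton.elim _ (HasInjectiveDimensionLT.subsingleton (ModuleCat.of R R) N i hi _)
        e 0, smul_zero]⟩)
    exact ext_subsingleton_of_iso_right (locSelfIso P) i h1
  exact { exists_hasInjectiveDimensionLT := ⟨N + 1,
    Groth.Agent.InjDimLocal.hasInjectiveDimensionLT_of_ext_residueField
      (Localization.AtPrime P) N hsub⟩ }

end bass

/-! ### finite resolutions by modules of injective dimension at most one -/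
section res

open Groth.Agent.Lib.AcycResH1

variable {R : Type u} [CommRing R]
  (X : ℕ → Type u) [∀ n, AddCommGroup (X n)] [∀ n, Module R (X n)]
  (d : ∀ n, X n →ₗ[R] X (n + 1))
  (exact_succ : ∀ n : ℕ, LinearMap.ker (d (n + 1)) = LinearMap.range (d n))

include exact_succ in
theorem injDim_Z (hX : ∀ n, HasInjectiveDimensionLT (ModuleCat.of R (X n)) 2) (L : ℕ)
    (hL : Subsingleton (X L)) :
    ∀ (k n : ℕ), n + k = L → HasInjectiveDimensionLT (ModuleCat.of R ↥(Z X d n)) (k + 1) := by
  intro k
  induction k with
  | zero =>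
    intro n hn
    rw [add_zero] at hn
    subst hn
    haveI : Subsingleton ↥(Z X d n) := ⟨fun a b => Subtype.ext (Subsingleton.elim _ _)⟩
    have hz : Limits.IsZero (ModuleCat.of R ↥(Z X d n)) := ModuleCat.isZero_of_subsingleton _
    rw [hasInjectiveDimensionLT_iff.{u}]
    intro i _ Y e
    exact @Subsingleton.elim _ (ext_subsingleton_of_isZero hz i) e 0
  | succ k ih =>
    intro n hn
    have h3 : HasInjectiveDimensionLT (ModuleCat.of R ↥(Z X d (n + 1))) (k + 1) :=
      ih (n + 1) (by omega)
    have h2 : HasInjectiveDimensionLT (ModuleCat.of R (X n)) (k + 1 + 1) :=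
      hasInjectiveDimensionLT_of_ge _ 2 _ (by omega)
    exact (sc_shortExact X d exact_succ n).hasInjectiveDimensionLT_X₁ (k + 1) h3 h2

include exact_succ in
theorem injDim_of_res {M : Type u} [AddCommGroup M] [Module R M] (ε : M →ₗ[R] X 0)
    (hε : Function.Injective ε) (exact_zero : LinearMap.ker (d 0) = LinearMap.range ε)
    (hX : ∀ n, HasInjectiveDimensionLT (ModuleCat.of R (X n)) 2) (L : ℕ)
    (hL : Subsingleton (X L)) : HasInjectiveDimensionLT (ModuleCat.of R M) (L + 1) := by
  haveI := injDim_Z X d exact_succ hX L hL L 0 (by omega)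
  have e : M ≃ₗ[R] ↥(Z X d 0) :=
    (LinearEquiv.ofInjective ε hε).trans (LinearEquiv.ofEq _ _ exact_zero.symm)
  exact hasInjectiveDimensionLT_of_iso e.toModuleIso.symm (L + 1)

end res

end Groth.Agent.Lib.GorLocH1
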