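import Mathlib

/-!
# Basic theory of regular local rings (helper5)

* `exists_finset_insert`: `x ∈ m \ m²` is part of a minimal generating set of `m`.
* `quotient_span_insert`, `quotient_of_not_mem_sq`: `R/(x)` is regular of dimension one less.
* `isDomain`: a regular local ring is a domain.
* `isRegular_of_ofList_eq`: minimal generators of `m` form a regular sequence.
-/

set_option autoImplicit false
universe u

namespace Groth.Agent.RegularLib

open IsLocalRing

theorem exists_nat_eq_of_le {D : WithBot ℕ∞} {e : ℕ} (h0 : 0 ≤ D) (h : D ≤ (e : WithBot ℕ∞)) :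
    ∃ k : ℕ, D = (k : WithBot ℕ∞) ∧ k ≤ e := by
  induction D using WithBot.recBotCoe with
  | bot => exact absurd h0 (by simp)
  | coe D =>
    induction D using ENat.recTopCoe with
    | top =>
      exfalso
      have : ((⊤ : ℕ∞) : WithBot ℕ∞) ≤ ((e : ℕ∞) : WithBot ℕ∞) := h
      rw [WithBot.coe_le_coe] at this
      simp at this
    | coe k =>
      refine ⟨k, rfl, ?_⟩
      have : ((k : ℕ∞) : WithBot ℕ∞) ≤ ((e : ℕ∞) : WithBot ℕ∞) := h
      rw [WithBot.coe_le_coe] at this
      exact_mod_cast this

section basic
variable {R : Type u} [CommRing R] [IsLocalRing R]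

theorem span_singleton_ne_top (x : R) (hx : x ∈ maximalIdeal R) : Ideal.span {x} ≠ ⊤ := by
  intro h
  have : Ideal.span {x} ≤ maximalIdeal R := (Ideal.span_singleton_le_iff_mem _).mpr hx
  rw [h] at this
  exact (maximalIdeal.isMaximal R).ne_top (top_le_iff.mp this)

theorem isLocalRing_quotient (I : Ideal R) (hI : I ≠ ⊤) : IsLocalRing (R ⧸ I) :=
  have : Nontrivial (R ⧸ I) := Ideal.Quotient.nontrivial_iff.mpr hI
  IsLocalRing.of_surjective' (Ideal.Quotient.mk I) Ideal.Quotient.mk_surjective

/-- If `x ∈ m \ m²` then `x` is part of a generating set of `m` of size `spanFinrank m`. -/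
theorem exists_finset_insert [IsNoetherianRing R] (x : R) (hx : x ∈ maximalIdeal R)
    (hx2 : x ∉ maximalIdeal R ^ 2) :
    ∃ t : Finset R, t.card + 1 = (maximalIdeal R).spanFinrank ∧
      Ideal.span (insert x (t : Set R)) = maximalIdeal R := by
  classical
  obtain ⟨s, hscard, hsspan⟩ := Submodule.FG.exists_span_finset_card_eq_spanFinrank
    (IsNoetherian.noetherian (maximalIdeal R))
  have hsm : ∀ y ∈ s, y ∈ maximalIdeal R := fun y hy => by
    rw [← hsspan]; exact Submodule.subset_span hy
  have hxs : x ∈ Submodule.span R (s : Set R) := by rw [hsspan]; exact hx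
  obtain ⟨f, -, hf⟩ := Submodule.mem_span_finset.mp hxs
  have : ∃ y₀ ∈ s, f y₀ ∉ maximalIdeal R := by
    by_contra hcon
    push Not at hcon
    apply hx2
    rw [← hf]
    refine Ideal.sum_mem _ fun y hy => ?_
    rw [pow_two, smul_eq_mul]
    exact Ideal.mul_mem_mul (hcon y hy) (hsm y hy)
  obtain ⟨y₀, hy₀, hfy₀⟩ := this
  have hu : IsUnit (f y₀) := by
    by_contra h
    exact hfy₀ ((IsLocalRing.mem_maximalIdeal _).mpr h)
  refine ⟨s.erase y₀, ?_, ?_⟩
  · rw [Finset.card_erase_of_mem hy₀, ← hscard]
    have : 0 < s.card := Finset.card_pos.mpr ⟨y₀, hy₀⟩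
    omega
  · apply le_antisymm
    · rw [Ideal.span_le]
      intro y hy
      rcases hy with rfl | hy
      · exact hx
      · exact hsm y (Finset.mem_of_mem_erase hy)
    · rw [← hsspan]
      change Ideal.span (s : Set R) ≤ _
      rw [Ideal.span_le]
      intro y hy
      by_cases hyy : y = y₀
      · subst hyy
        obtain ⟨u, hu'⟩ := hu
        have hsum : f y * y = x - ∑ z ∈ s.erase y, f z • z := by
          rw [← hf, ← Finset.add_sum_erase s _ hy, smul_eq_mul]; ring
        have : y = ↑u⁻¹ * (x - ∑ z ∈ s.erase y, f z • z) := by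
          rw [← hsum, ← hu', ← mul_assoc, Units.inv_mul, one_mul]
        have key : ∀ w, w = ↑u⁻¹ * (x - ∑ z ∈ s.erase y, f z • z) →
            w ∈ Ideal.span (insert x ((s.erase y : Finset R) : Set R)) := by
          rintro w rfl
          apply Ideal.mul_mem_left
          apply Ideal.sub_mem
          · exact Ideal.subset_span (Set.mem_insert _ _)
          · refine Ideal.sum_mem _ fun z hz => ?_
            rw [smul_eq_mul]
            exact Ideal.mul_mem_left _ _ (Ideal.subset_span (Set.mem_insert_of_mem _ hz))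
        exact key y this
      · exact Ideal.subset_span (Set.mem_insert_of_mem _ (Finset.mem_erase.mpr ⟨hyy, hy⟩))

end basic

section regular
variable (R : Type u) [CommRing R] [IsRegularLocalRing R]

theorem spanFinrank_eq_dim : ((maximalIdeal R).spanFinrank : WithBot ℕ∞) = ringKrullDim R :=
  IsRegularLocalRing.spanFinrank_maximalIdeal

/-- If `m = (x, t)` with `|t| + 1 ≤ embdim R`, then `R/(x)` is regular of dimension one less. -/
theorem quotient_span_insert (x : R) (t : Finset R)
    (ht : t.card + 1 ≤ (maximalIdeal R).spanFinrank)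
    (hspan : Ideal.span (insert x (t : Set R)) = maximalIdeal R) :
    ∃ (_ : IsRegularLocalRing (R ⧸ Ideal.span {x})),
      (maximalIdeal (R ⧸ Ideal.span {x})).spanFinrank + 1 = (maximalIdeal R).spanFinrank := by
  classical
  have hx : x ∈ maximalIdeal R := by
    rw [← hspan]; exact Ideal.subset_span (Set.mem_insert _ _)
  have hne := span_singleton_ne_top x hx
  haveI : IsLocalRing (R ⧸ Ideal.span {x}) := isLocalRing_quotient _ hne
  have hm' : maximalIdeal (R ⧸ Ideal.span {x}) =
      Ideal.span ((Ideal.Quotient.mk (Ideal.span {x})) '' (t : Set R)) := by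
    rw [← IsLocalRing.map_maximalIdeal_of_surjective (Ideal.Quotient.mk (Ideal.span {x}))
      Ideal.Quotient.mk_surjective, ← hspan, Ideal.map_span, Set.image_insert_eq]
    have : Ideal.Quotient.mk (Ideal.span {x}) x = 0 :=
      Ideal.Quotient.eq_zero_iff_mem.mpr (Ideal.mem_span_singleton_self x)
    rw [this]
    exact Submodule.span_insert_zero
  have h1 : (maximalIdeal (R ⧸ Ideal.span {x})).spanFinrank ≤ t.card := by
    rw [hm']
    calc _ ≤ ((Ideal.Quotient.mk (Ideal.span {x})) '' (t : Set R)).ncard :=
          Submodule.spanFinrank_span_le_ncard_of_finite (t.finite_toSet.image _)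
      _ ≤ (t : Set R).ncard := Set.ncard_image_le t.finite_toSet
      _ = t.card := Set.ncard_coe_finset t
  have h2 : ringKrullDim (R ⧸ Ideal.span {x}) ≤
      (maximalIdeal (R ⧸ Ideal.span {x})).spanFinrank :=
    ringKrullDim_le_spanFinrank_maximalIdeal _
  have h3 : ringKrullDim R ≤ ringKrullDim (R ⧸ Ideal.span {x}) + 1 := by
    have := ringKrullDim_le_ringKrullDim_quotient_add_encard ({x} : Set R) (by
      intro y hy
      rw [Set.mem_singleton_iff] at hy
      subst hy
      rw [IsLocalRing.ringJacobson_eq_maximalIdeal]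
      exact hx)
    rwa [Set.encard_singleton] at this
  have h4 := spanFinrank_eq_dim R
  obtain ⟨k, hk, hke⟩ := exists_nat_eq_of_le ringKrullDim_nonneg_of_nontrivial h2
  rw [hk] at h3
  rw [← h4] at h3
  have h5 : (maximalIdeal R).spanFinrank ≤ k + 1 := by exact_mod_cast h3
  refine ⟨IsRegularLocalRing.of_spanFinrank_maximalIdeal_le _ ?_, by omega⟩
  rw [hk]
  have : (maximalIdeal (R ⧸ Ideal.span {x})).spanFinrank ≤ k := by omega
  exact_mod_cast this

theorem quotient_of_not_mem_sq (x : R) (hx : x ∈ maximalIdeal R)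
    (hx2 : x ∉ maximalIdeal R ^ 2) :
    ∃ (_ : IsRegularLocalRing (R ⧸ Ideal.span {x})),
      (maximalIdeal (R ⧸ Ideal.span {x})).spanFinrank + 1 = (maximalIdeal R).spanFinrank := by
  obtain ⟨t, ht, hspan⟩ := exists_finset_insert x hx hx2
  exact quotient_span_insert R x t ht.le hspan

end regular

theorem isDomain_aux : ∀ (n : ℕ) (R : Type u) [CommRing R] [IsRegularLocalRing R],
    (maximalIdeal R).spanFinrank = n → IsDomain R := by
  intro n
  induction n with
  | zero =>
    intro R _ _ h
    have hbot : maximalIdeal R = ⊥ :=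
      (Submodule.spanFinrank_eq_zero_iff_eq_bot (IsNoetherian.noetherian _)).mp h
    have : IsField R := IsLocalRing.isField_iff_maximalIdeal_eq.mpr hbot
    exact this.isDomain
  | succ n ih =>
    intro R _ _ h
    classical
    have hfin : (minimalPrimes R).Finite := minimalPrimes.finite_of_isNoetherianRing R
    have hdim : ringKrullDim R = ((n + 1 : ℕ) : WithBot ℕ∞) := by
      rw [← h]; exact (spanFinrank_eq_dim R).symm
    have hjac : maximalIdeal R ≤ Ideal.jacobson ⊥ :=
      (IsLocalRing.jacobson_eq_maximalIdeal ⊥ bot_ne_top).ge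
    obtain ⟨x, hxm, hx2, hxmin⟩ : ∃ x ∈ maximalIdeal R, x ∉ maximalIdeal R ^ 2 ∧
        ∀ p ∈ minimalPrimes R, x ∉ p := by
      by_contra hcon
      push Not at hcon
      have hsub : ((maximalIdeal R : Ideal R) : Set R) ⊆
          ⋃ i ∈ ((insert (maximalIdeal R ^ 2) hfin.toFinset : Finset (Ideal R)) :
            Set (Ideal R)), ((id i : Ideal R) : Set R) := by
        intro y hy
        by_cases hy2 : y ∈ maximalIdeal R ^ 2
        · exact Set.mem_biUnion (by simp) hy2
        · obtain ⟨p, hp, hyp⟩ := hcon y hy hy2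
          exact Set.mem_biUnion (by simp [hp]) hyp
      rw [Ideal.subset_union_prime (maximalIdeal R ^ 2) (maximalIdeal R ^ 2)] at hsub
      · obtain ⟨i, hi, hle⟩ := hsub
        rw [Finset.mem_insert] at hi
        rcases hi with rfl | hi
        · have : maximalIdeal R = ⊥ := by
            apply Submodule.eq_bot_of_le_smul_of_le_jacobson_bot (maximalIdeal R) (maximalIdeal R)
              (IsNoetherian.noetherian _) _ hjac
            simpa [pow_two] using hle
          rw [this, Submodule.spanFinrank_bot] at h
          omega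
        · have hp : i ∈ minimalPrimes R := hfin.mem_toFinset.mp hi
          have hpi : i.IsPrime := hp.1.1
          have hi_eq : i = maximalIdeal R :=
            le_antisymm (IsLocalRing.le_maximalIdeal hpi.ne_top) hle
          rw [hi_eq] at hp
          have h0 : (maximalIdeal R).height = 0 := Ideal.height_eq_zero_iff.mpr hp
          have := IsLocalRing.maximalIdeal_height_eq_ringKrullDim (R := R)
          rw [h0, hdim] at this
          have h' : ((0 : ℕ) : WithBot ℕ∞) = ((n + 1 : ℕ) : WithBot ℕ∞) := by exact_mod_cast this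
          have := Nat.cast_injective (R := WithBot ℕ∞) h'
          omega
      · intro i hi h1 _
        rw [Finset.mem_insert] at hi
        rcases hi with rfl | hi
        · exact absurd rfl h1
        · exact (hfin.mem_toFinset.mp hi).1.1
    obtain ⟨inst, hrank⟩ := quotient_of_not_mem_sq R x hxm hx2
    have hdom : IsDomain (R ⧸ Ideal.span {x}) := ih (R ⧸ Ideal.span {x}) (by omega)
    have hprime : (Ideal.span {x}).IsPrime := (Ideal.Quotient.isDomain_iff_prime _).mp hdom
    obtain ⟨p, hp, hple⟩ := Ideal.exists_minimalPrimes_le (bot_le : (⊥ : Ideal R) ≤ Ideal.span {x})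
    have hpprime : p.IsPrime := hp.1.1
    have hxp : x ∉ p := hxmin p hp
    have hpbot : p = ⊥ := by
      apply Submodule.eq_bot_of_le_smul_of_le_jacobson_bot (maximalIdeal R) p
        (IsNoetherian.noetherian _) _ hjac
      intro y hy
      obtain ⟨a, rfl⟩ := Ideal.mem_span_singleton'.mp (hple hy)
      have ha : a ∈ p := (hpprime.mem_or_mem hy).resolve_right hxp
      rw [mul_comm]
      exact Submodule.smul_mem_smul hxm ha
    rw [hpbot] at hpprime
    exact IsDomain.of_bot_isPrime R

/-- A regular local ring is a domain. -/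
theorem isDomain (R : Type u) [CommRing R] [IsRegularLocalRing R] : IsDomain R :=
  isDomain_aux _ R rfl

end Groth.Agent.RegularLib
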