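import Mathlib
import Groth.Agent.Lib.Regular_helper5

/-!
# Regular local rings II (helper5): regular systems of parameters
-/

set_option autoImplicit false
universe u

namespace Groth.Agent.RegularLib

open IsLocalRing

section transfer
variable {R : Type u} [CommRing R]

/-- Regular sequences on `R/aR` as an `R`-module vs. on the ring `R/(a)`. -/
theorem isRegular_quotSMulTop_iff (a : R) (l : List R) :
    RingTheory.Sequence.IsRegular (QuotSMulTop a R) l ↔
    RingTheory.Sequence.IsRegular (R ⧸ Ideal.span {a})
      (l.map (Ideal.Quotient.mk (Ideal.span {a}))) := by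
  let e : QuotSMulTop a R ≃ₗ[R] (R ⧸ Ideal.span {a}) :=
    Submodule.quotEquivOfEq _ _ (by
      rw [← Submodule.ideal_span_singleton_smul a (⊤ : Submodule R R)]
      exact Ideal.mul_top _)
  refine e.toAddEquiv.isRegular_congr (List.forall₂_map_right_iff.mpr
    (List.forall₂_same.mpr fun r _ x => ?_))
  have h1 : e (r • x) = r • e x := map_smul e r x
  have h2 : r • e x = Ideal.Quotient.mk (Ideal.span {a}) r • e x := by
    rw [Algebra.smul_def, smul_eq_mul]; rfl
  exact h1.trans h2

theorem ofList_eq_span_toFinset [DecidableEq R] (l : List R) :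
    Ideal.ofList l = Ideal.span (l.toFinset : Set R) := by
  rw [List.coe_toFinset]

theorem spanFinrank_ofList_le (l : List R) : (Ideal.ofList l).spanFinrank ≤ l.length := by
  classical
  rw [ofList_eq_span_toFinset]
  calc _ ≤ ((l.toFinset : Finset R) : Set R).ncard :=
        Submodule.spanFinrank_span_le_ncard_of_finite (Finset.finite_toSet _)
    _ = l.toFinset.card := Set.ncard_coe_finset _
    _ ≤ l.length := List.toFinset_card_le l

/-- If `K ≤ J` and the images of `l` generate `J/K`, then `K + (l) = J`. -/
theorem sup_ofList_eq (K J : Ideal R) (hKJ : K ≤ J) (l : List R)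
    (h : Ideal.ofList (l.map (Ideal.Quotient.mk K)) = J.map (Ideal.Quotient.mk K)) :
    K ⊔ Ideal.ofList l = J := by
  rw [← Ideal.map_ofList] at h
  have := congrArg (Ideal.comap (Ideal.Quotient.mk K)) h
  rw [Ideal.comap_map_of_surjective _ Ideal.Quotient.mk_surjective,
    Ideal.comap_map_of_surjective _ Ideal.Quotient.mk_surjective,
    ← RingHom.ker_eq_comap_bot, Ideal.mk_ker] at this
  rw [sup_comm, this, sup_eq_left.mpr hKJ]

end transfer

/-- Minimal generators of the maximal ideal of a regular local ring form a regular sequence. -/
theorem isRegular_aux : ∀ (n : ℕ) (R : Type u) [CommRing R] [IsRegularLocalRing R] (l : List R),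
    l.length = n → Ideal.ofList l = maximalIdeal R → (maximalIdeal R).spanFinrank = n →
    RingTheory.Sequence.IsRegular R l := by
  intro n
  induction n with
  | zero =>
    intro R _ _ l hl _ _
    rw [List.length_eq_zero_iff] at hl
    subst hl
    exact RingTheory.Sequence.IsRegular.nil R R
  | succ n ih =>
    intro R _ _ l hl hspan hrank
    classical
    obtain ⟨a, l', rfl⟩ : ∃ a l', l = a :: l' := by
      cases l with
      | nil => simp at hl
      | cons a l' => exact ⟨a, l', rfl⟩
    have hl' : l'.length = n := by simpa using hl
    have hdomain : IsDomain R := isDomain R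
    have hins : Ideal.span (insert a ((l'.toFinset : Finset R) : Set R)) = maximalIdeal R := by
      rw [← hspan, Ideal.ofList_cons, Ideal.span_insert, ofList_eq_span_toFinset]
    have hcard : l'.toFinset.card + 1 ≤ (maximalIdeal R).spanFinrank := by
      have := List.toFinset_card_le l'
      omega
    obtain ⟨inst, hq⟩ := quotient_span_insert R a l'.toFinset hcard hins
    have ham : a ∈ maximalIdeal R := by
      rw [← hspan, Ideal.ofList_cons]
      exact Ideal.mem_sup_left (Ideal.mem_span_singleton_self a)
    have ha0 : a ≠ 0 := by
      rintro rfl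
      have h1 : Ideal.ofList l' = maximalIdeal R := by
        rw [← hspan, Ideal.ofList_cons]
        simp
      have := spanFinrank_ofList_le l'
      rw [h1] at this
      omega
    have hreg : IsSMulRegular R a := by
      rw [isSMulRegular_iff_right_eq_zero_of_smul]
      intro r hr
      exact (mul_eq_zero.mp hr).resolve_left ha0
    rw [RingTheory.Sequence.isRegular_cons_iff]
    refine ⟨hreg, (isRegular_quotSMulTop_iff a l').mpr ?_⟩
    refine ih (R ⧸ Ideal.span {a}) _ (by simpa using hl') ?_ (by omega)
    have hmap : Ideal.map (Ideal.Quotient.mk (Ideal.span {a})) (maximalIdeal R) =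
        Ideal.map (Ideal.Quotient.mk (Ideal.span {a})) (Ideal.ofList l') := by
      rw [← hspan, Ideal.ofList_cons, Ideal.map_sup, Ideal.map_quotient_self, bot_sup_eq]
    rw [← Ideal.map_ofList, ← hmap,
      IsLocalRing.map_maximalIdeal_of_surjective _ Ideal.Quotient.mk_surjective]

theorem isRegular_of_ofList_eq (R : Type u) [CommRing R] [IsRegularLocalRing R] (l : List R)
    (hspan : Ideal.ofList l = maximalIdeal R) (hl : l.length = (maximalIdeal R).spanFinrank) :
    RingTheory.Sequence.IsRegular R l :=
  isRegular_aux _ R l rfl hspan hl.symm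

end Groth.Agent.RegularLib
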