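import Mathlib
import Groth.Agent.Lib.Regular2_helper5

/-!
# Regular local rings III (helper5): regular quotients of regular local rings
-/

set_option autoImplicit false
universe u

namespace Groth.Agent.RegularLib

open IsLocalRing

theorem ofList_toList {R : Type u} [CommRing R] (s : Finset R) :
    Ideal.ofList s.toList = Ideal.span (s : Set R) := by
  change Ideal.span {r | r ∈ s.toList} = _
  congr 1
  ext r
  simp

/-- The embedding dimension does not drop modulo an ideal inside `m²`. -/
theorem spanFinrank_le_of_le_sq (R : Type u) [CommRing R] [IsLocalRing R] [IsNoetherianRing R]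
    (I : Ideal R) (hI : I ≤ maximalIdeal R ^ 2) [IsLocalRing (R ⧸ I)] :
    (maximalIdeal R).spanFinrank ≤ (maximalIdeal (R ⧸ I)).spanFinrank := by
  classical
  obtain ⟨s, hscard, hsspan⟩ := Submodule.FG.exists_span_finset_card_eq_spanFinrank
    (IsNoetherian.noetherian (maximalIdeal (R ⧸ I)))
  obtain ⟨l, hl⟩ := List.map_surjective_iff.mpr (Ideal.Quotient.mk_surjective (I := I)) s.toList
  have hlen : l.length = s.card := by rw [← Finset.length_toList, ← hl, List.length_map]
  have hIm : I ≤ maximalIdeal R := hI.trans (Ideal.pow_le_self two_ne_zero)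
  have h1 : I ⊔ Ideal.ofList l = maximalIdeal R := by
    apply sup_ofList_eq I _ hIm
    rw [hl, IsLocalRing.map_maximalIdeal_of_surjective _ Ideal.Quotient.mk_surjective,
      ofList_toList]
    exact hsspan
  have h2 : maximalIdeal R ≤ Ideal.ofList l := by
    apply Submodule.le_of_le_smul_of_le_jacobson_bot (I := maximalIdeal R)
      (IsNoetherian.noetherian _) (IsLocalRing.jacobson_eq_maximalIdeal ⊥ bot_ne_top).ge
    calc maximalIdeal R = I ⊔ Ideal.ofList l := h1.symm
      _ ≤ Ideal.ofList l ⊔ maximalIdeal R • maximalIdeal R := by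
        refine sup_le (hI.trans ?_) le_sup_left
        rw [pow_two, smul_eq_mul]
        exact le_sup_right
  have h3 : maximalIdeal R = Ideal.ofList l := le_antisymm h2 (h1 ▸ le_sup_right)
  calc (maximalIdeal R).spanFinrank = (Ideal.ofList l).spanFinrank := by rw [← h3]
    _ ≤ l.length := spanFinrank_ofList_le l
    _ = _ := by rw [hlen, hscard]

theorem ne_top_of_isLocalRing_quotient {R : Type u} [CommRing R] (I : Ideal R)
    [IsLocalRing (R ⧸ I)] : I ≠ ⊤ :=
  Ideal.Quotient.nontrivial_iff.mp inferInstance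

/-- A nonzero ideal with regular quotient in a regular local ring is not contained in `m²`. -/
theorem exists_mem_not_mem_sq (R : Type u) [CommRing R] [IsRegularLocalRing R] (I : Ideal R)
    [IsRegularLocalRing (R ⧸ I)] (hI : I ≠ ⊥) : ∃ x ∈ I, x ∉ maximalIdeal R ^ 2 := by
  by_contra hcon
  push Not at hcon
  have hle : I ≤ maximalIdeal R ^ 2 := fun x hx => hcon x hx
  have h1 := spanFinrank_le_of_le_sq R I hle
  have hdom := isDomain R
  obtain ⟨r, hrI, hr0⟩ : ∃ r ∈ I, r ≠ 0 := Submodule.exists_mem_ne_zero_of_ne_bot hI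
  have h2 : ringKrullDim (R ⧸ Ideal.span {r}) + 1 ≤ ringKrullDim R :=
    ringKrullDim_quotient_succ_le_of_nonZeroDivisor (mem_nonZeroDivisors_of_ne_zero hr0)
  have hrI' : Ideal.span {r} ≤ I := (Ideal.span_singleton_le_iff_mem _).mpr hrI
  have h3 : ringKrullDim (R ⧸ I) ≤ ringKrullDim (R ⧸ Ideal.span {r}) :=
    ringKrullDim_le_of_surjective (Ideal.Quotient.factor hrI')
      (Ideal.Quotient.factor_surjective hrI')
  have h4 := spanFinrank_eq_dim R
  have h5 := spanFinrank_eq_dim (R ⧸ I)
  have h6 : ((maximalIdeal (R ⧸ I)).spanFinrank : WithBot ℕ∞) + 1 ≤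
      (maximalIdeal R).spanFinrank := by
    rw [h4, h5]; exact (add_le_add_left h3 1).trans h2
  have : (maximalIdeal (R ⧸ I)).spanFinrank + 1 ≤ (maximalIdeal R).spanFinrank := by
    exact_mod_cast h6
  omega

/-- Setup for the induction: quotient by `x ∈ I \ m²`. -/
theorem quotient_step (R : Type u) [CommRing R] [IsRegularLocalRing R] (I : Ideal R)
    [IsRegularLocalRing (R ⧸ I)] (x : R) (hxI : x ∈ I) (hx2 : x ∉ maximalIdeal R ^ 2) :
    ∃ (_ : IsRegularLocalRing (R ⧸ Ideal.span {x}))
      (_ : IsRegularLocalRing ((R ⧸ Ideal.span {x}) ⧸ I.map (Ideal.Quotient.mk (Ideal.span {x})))),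
      (maximalIdeal (R ⧸ Ideal.span {x})).spanFinrank + 1 = (maximalIdeal R).spanFinrank := by
  have hIm : I ≤ maximalIdeal R := IsLocalRing.le_maximalIdeal (ne_top_of_isLocalRing_quotient I)
  obtain ⟨inst, hq⟩ := quotient_of_not_mem_sq R x (hIm hxI) hx2
  have hKI : Ideal.span {x} ≤ I := (Ideal.span_singleton_le_iff_mem _).mpr hxI
  exact ⟨inst, IsRegularLocalRing.of_ringEquiv (DoubleQuot.quotQuotEquivQuotOfLE hKI).symm, hq⟩

theorem inf_sq_le_aux : ∀ (n : ℕ) (R : Type u) [CommRing R] [IsRegularLocalRing R] (I : Ideal R)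
    [IsRegularLocalRing (R ⧸ I)], (maximalIdeal R).spanFinrank = n →
    I ⊓ maximalIdeal R ^ 2 ≤ maximalIdeal R * I := by
  intro n
  induction n with
  | zero =>
    intro R _ _ I _ h
    have hbot : maximalIdeal R = ⊥ :=
      (Submodule.spanFinrank_eq_zero_iff_eq_bot (IsNoetherian.noetherian _)).mp h
    have hIm : I ≤ maximalIdeal R := IsLocalRing.le_maximalIdeal (ne_top_of_isLocalRing_quotient I)
    intro y hy
    have : y = 0 := by simpa [hbot] using hIm hy.1
    rw [this]
    exact zero_mem _
  | succ n ih =>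
    intro R _ _ I _ h
    by_cases hI0 : I = ⊥
    · subst hI0; simp
    obtain ⟨x, hxI, hx2⟩ := exists_mem_not_mem_sq R I hI0
    have hIm : I ≤ maximalIdeal R := IsLocalRing.le_maximalIdeal (ne_top_of_isLocalRing_quotient I)
    obtain ⟨inst1, inst2, hq⟩ := quotient_step R I x hxI hx2
    have IH := ih (R ⧸ Ideal.span {x}) (I.map (Ideal.Quotient.mk (Ideal.span {x}))) (by omega)
    have surj : Function.Surjective (Ideal.Quotient.mk (Ideal.span {x})) :=
      Ideal.Quotient.mk_surjective
    rintro y ⟨hyI, hy2⟩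
    have hmk : Ideal.Quotient.mk (Ideal.span {x}) y ∈
        I.map (Ideal.Quotient.mk (Ideal.span {x})) ⊓ maximalIdeal (R ⧸ Ideal.span {x}) ^ 2 := by
      refine ⟨Ideal.mem_map_of_mem _ hyI, ?_⟩
      rw [← IsLocalRing.map_maximalIdeal_of_surjective _ surj, ← Ideal.map_pow]
      exact Ideal.mem_map_of_mem _ hy2
    have hmem := IH hmk
    rw [← IsLocalRing.map_maximalIdeal_of_surjective _ surj, ← Ideal.map_mul] at hmem
    obtain ⟨z, hz, hzy⟩ := (Ideal.mem_map_iff_of_surjective _ surj).mp hmem
    have hd : y - z ∈ Ideal.span {x} := Ideal.Quotient.eq.mp hzy.symm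
    obtain ⟨c, hc⟩ := Ideal.mem_span_singleton'.mp hd
    have hz2 : z ∈ maximalIdeal R ^ 2 := by
      rw [pow_two]; exact Ideal.mul_mono_right hIm hz
    have hcx2 : c * x ∈ maximalIdeal R ^ 2 := by rw [hc]; exact Ideal.sub_mem _ hy2 hz2
    have hcm : c ∈ maximalIdeal R := by
      by_contra hc'
      have hu : IsUnit c := by
        by_contra h; exact hc' ((IsLocalRing.mem_maximalIdeal _).mpr h)
      apply hx2
      obtain ⟨u, rfl⟩ := hu
      have := Ideal.mul_mem_left _ (↑u⁻¹ : R) hcx2
      rwa [← mul_assoc, Units.inv_mul, one_mul] at this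
    have : y = z + c * x := by rw [hc]; ring
    rw [this]
    exact Ideal.add_mem _ hz (Ideal.mul_mem_mul hcm hxI)

/-- For a regular quotient `R/I` of a regular local ring, `I ∩ m² = m I`. -/
theorem inf_sq_eq (R : Type u) [CommRing R] [IsRegularLocalRing R] (I : Ideal R)
    [IsRegularLocalRing (R ⧸ I)] : I ⊓ maximalIdeal R ^ 2 = maximalIdeal R * I := by
  apply le_antisymm (inf_sq_le_aux _ R I rfl)
  have hIm : I ≤ maximalIdeal R := IsLocalRing.le_maximalIdeal (ne_top_of_isLocalRing_quotient I)
  refine le_inf Ideal.mul_le_right ?_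
  rw [pow_two]
  exact Ideal.mul_mono_right hIm

theorem exists_lists_aux : ∀ (n : ℕ) (R : Type u) [CommRing R] [IsRegularLocalRing R]
    (I : Ideal R) [IsRegularLocalRing (R ⧸ I)], (maximalIdeal R).spanFinrank = n →
    ∃ l₁ l₂ : List R, l₁.length + l₂.length = n ∧
      Ideal.ofList (l₁ ++ l₂) = maximalIdeal R ∧ Ideal.ofList l₁ = I := by
  intro n
  induction n with
  | zero =>
    intro R _ _ I _ h
    have hbot : maximalIdeal R = ⊥ :=
      (Submodule.spanFinrank_eq_zero_iff_eq_bot (IsNoetherian.noetherian _)).mp h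
    have hIm : I ≤ maximalIdeal R := IsLocalRing.le_maximalIdeal (ne_top_of_isLocalRing_quotient I)
    have hI : I = ⊥ := by rw [hbot] at hIm; exact le_bot_iff.mp hIm
    exact ⟨[], [], rfl, by simp [hbot], by simp [hI]⟩
  | succ n ih =>
    intro R _ _ I _ h
    classical
    by_cases hI0 : I = ⊥
    · obtain ⟨s, hscard, hsspan⟩ := Submodule.FG.exists_span_finset_card_eq_spanFinrank
        (IsNoetherian.noetherian (maximalIdeal R))
      refine ⟨[], s.toList, by simp [hscard, h], ?_, by simp [hI0]⟩
      rw [List.nil_append, ofList_toList]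
      exact hsspan
    obtain ⟨x, hxI, hx2⟩ := exists_mem_not_mem_sq R I hI0
    have hIm : I ≤ maximalIdeal R := IsLocalRing.le_maximalIdeal (ne_top_of_isLocalRing_quotient I)
    obtain ⟨inst1, inst2, hq⟩ := quotient_step R I x hxI hx2
    obtain ⟨l₁', l₂', hlen, hm', hI'⟩ :=
      ih (R ⧸ Ideal.span {x}) (I.map (Ideal.Quotient.mk (Ideal.span {x}))) (by omega)
    have surj : Function.Surjective (Ideal.Quotient.mk (Ideal.span {x})) :=
      Ideal.Quotient.mk_surjective
    obtain ⟨l₁, hl₁⟩ := List.map_surjective_iff.mpr surj l₁'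
    obtain ⟨l₂, hl₂⟩ := List.map_surjective_iff.mpr surj l₂'
    have hKI : Ideal.span {x} ≤ I := (Ideal.span_singleton_le_iff_mem _).mpr hxI
    refine ⟨x :: l₁, l₂, ?_, ?_, ?_⟩
    · rw [← hl₁, ← hl₂, List.length_map, List.length_map] at hlen
      simp only [List.length_cons]
      omega
    · rw [List.cons_append, Ideal.ofList_cons]
      apply sup_ofList_eq _ _ (hKI.trans hIm)
      rw [List.map_append, hl₁, hl₂, hm',
        IsLocalRing.map_maximalIdeal_of_surjective _ surj]
    · rw [Ideal.ofList_cons]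
      apply sup_ofList_eq _ _ hKI
      rw [hl₁, hI']

/-- A regular quotient of a regular local ring is cut out by part of a regular system of
parameters. -/
theorem exists_lists (R : Type u) [CommRing R] [IsRegularLocalRing R]
    (I : Ideal R) [IsRegularLocalRing (R ⧸ I)] :
    ∃ l₁ l₂ : List R, l₁.length + l₂.length = (maximalIdeal R).spanFinrank ∧
      Ideal.ofList (l₁ ++ l₂) = maximalIdeal R ∧ Ideal.ofList l₁ = I :=
  exists_lists_aux _ R I rfl

/-- If `R/(x)` is regular for a nonzerodivisor `x ∈ m`, then `R` is regular. -/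
theorem of_quotient_regular (A : Type u) [CommRing A] [IsLocalRing A] [IsNoetherianRing A] (x : A)
    (hx : x ∈ maximalIdeal A) (hreg : x ∈ nonZeroDivisors A)
    [IsRegularLocalRing (A ⧸ Ideal.span {x})] : IsRegularLocalRing A := by
  classical
  apply IsRegularLocalRing.of_spanFinrank_maximalIdeal_le
  have hdim : ringKrullDim (A ⧸ Ideal.span {x}) + 1 = ringKrullDim A :=
    ringKrullDim_quotient_span_singleton_succ_eq_ringKrullDim_of_mem_nonZeroDivisors hreg hx
  obtain ⟨s, hscard, hsspan⟩ := Submodule.FG.exists_span_finset_card_eq_spanFinrank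
    (IsNoetherian.noetherian (maximalIdeal (A ⧸ Ideal.span {x})))
  have surj : Function.Surjective (Ideal.Quotient.mk (Ideal.span {x})) :=
    Ideal.Quotient.mk_surjective
  obtain ⟨l, hl⟩ := List.map_surjective_iff.mpr surj s.toList
  have h1 : Ideal.span {x} ⊔ Ideal.ofList l = maximalIdeal A :=
    sup_ofList_eq _ _ ((Ideal.span_singleton_le_iff_mem _).mpr hx) l (by
      rw [hl, IsLocalRing.map_maximalIdeal_of_surjective _ surj, ofList_toList]
      exact hsspan)
  have h2 : (maximalIdeal A).spanFinrank ≤ l.length + 1 := by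
    rw [← h1, ← Ideal.ofList_cons]
    exact (spanFinrank_ofList_le _).trans (by simp)
  have hlen : l.length = (maximalIdeal (A ⧸ Ideal.span {x})).spanFinrank := by
    rw [← hscard, ← Finset.length_toList, ← hl, List.length_map]
  rw [← hdim, ← spanFinrank_eq_dim (A ⧸ Ideal.span {x}), ← hlen]
  exact_mod_cast h2

theorem of_isRegular_aux : ∀ (n : ℕ) (A : Type u) [CommRing A] [IsLocalRing A]
    [IsNoetherianRing A] (rs : List A), rs.length = n →
    RingTheory.Sequence.IsRegular A rs → IsRegularLocalRing (A ⧸ Ideal.ofList rs) →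
    IsRegularLocalRing A := by
  intro n
  induction n with
  | zero =>
    intro A _ _ _ rs hlen _ hq
    rw [List.length_eq_zero_iff] at hlen
    subst hlen
    exact IsRegularLocalRing.of_ringEquiv
      ((Ideal.quotEquivOfEq Ideal.ofList_nil).trans (RingEquiv.quotientBot A))
  | succ n ih =>
    intro A _ _ _ rs hlen hreg hq
    obtain ⟨a, rs', rfl⟩ : ∃ a l', rs = a :: l' := by
      cases rs with
      | nil => simp at hlen
      | cons a l' => exact ⟨a, l', rfl⟩
    have hlen' : rs'.length = n := by simpa using hlen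
    obtain ⟨ha, hrs'⟩ := (RingTheory.Sequence.isRegular_cons_iff A a rs').mp hreg
    have hrs'' := (isRegular_quotSMulTop_iff a rs').mp hrs'
    have hne : Ideal.ofList (a :: rs') ≠ ⊤ := ne_top_of_isLocalRing_quotient _
    have ham : a ∈ maximalIdeal A := by
      apply IsLocalRing.le_maximalIdeal hne
      rw [Ideal.ofList_cons]
      exact Ideal.mem_sup_left (Ideal.mem_span_singleton_self a)
    haveI : IsLocalRing (A ⧸ Ideal.span {a}) :=
      isLocalRing_quotient _ (span_singleton_ne_top a ham)
    have e : ((A ⧸ Ideal.span {a}) ⧸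
        Ideal.ofList (rs'.map (Ideal.Quotient.mk (Ideal.span {a})))) ≃+*
        (A ⧸ Ideal.ofList (a :: rs')) :=
      (Ideal.quotEquivOfEq (Ideal.map_ofList _ _).symm).trans
        ((DoubleQuot.quotQuotEquivQuotSup _ _).trans
          (Ideal.quotEquivOfEq (Ideal.ofList_cons a rs').symm))
    haveI : IsRegularLocalRing (A ⧸ Ideal.span {a}) :=
      ih (A ⧸ Ideal.span {a}) _ (by simpa using hlen') hrs''
        (IsRegularLocalRing.of_ringEquiv e.symm)
    refine of_quotient_regular A a ham ?_
    rw [mem_nonZeroDivisors_iff_right]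
    intro r hr
    exact (isSMulRegular_iff_right_eq_zero_of_smul.mp ha) r (by rw [smul_eq_mul, mul_comm]; exact hr)

/-- If `J` is generated by a regular sequence and `A/J` is regular, then `A` is regular. -/
theorem of_isRegular (A : Type u) [CommRing A] [IsLocalRing A] [IsNoetherianRing A]
    (rs : List A) (hreg : RingTheory.Sequence.IsRegular A rs)
    [hq : IsRegularLocalRing (A ⧸ Ideal.ofList rs)] : IsRegularLocalRing A :=
  of_isRegular_aux _ A rs rfl hreg hq

/-- In a regular local ring, an ideal with regular quotient is generated by a regular sequence. -/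
theorem exists_isRegular (R : Type u) [CommRing R] [IsRegularLocalRing R]
    (I : Ideal R) [IsRegularLocalRing (R ⧸ I)] :
    ∃ rs : List R, RingTheory.Sequence.IsRegular R rs ∧ Ideal.ofList rs = I := by
  obtain ⟨l₁, l₂, hlen, hm, hI⟩ := exists_lists R I
  refine ⟨l₁, ?_, hI⟩
  have hreg := isRegular_of_ofList_eq R (l₁ ++ l₂) hm (by rw [List.length_append]; exact hlen)
  have hw := ((RingTheory.Sequence.isWeaklyRegular_append_iff R l₁ l₂).mp
    hreg.toIsWeaklyRegular).1
  refine RingTheory.Sequence.IsRegular.of_isWeaklyRegular_of_mem_maximalIdeal R ?_ hw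
  intro r hr
  rw [← hm]
  exact Ideal.subset_span (List.mem_append_left _ hr)

end Groth.Agent.RegularLib
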