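import Mathlib
import Groth.Prelude.Def_CInt

/-!
# Vanishing of `H_1` of the Koszul complex implies regularity (helper5)
-/

set_option autoImplicit false
universe u v

namespace Groth.Agent.KoszulH1

open RingTheory.Sequence Pointwise

variable {A : Type u} [CommRing A] {M : Type v} [AddCommGroup M] [Module A M]

section Hausdorff

/-- Nakayama via separatedness of subquotients -/
theorem le_of_le_sup_smul (J : Ideal A)
    (hsep : ∀ (N : Submodule A M) (N' : Submodule A N), IsHausdorff J (N ⧸ N'))
    (N N' : Submodule A M) (h : N ≤ N' ⊔ J • N) : N ≤ N' := by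
  have hk : ∀ k : ℕ, N ≤ N' ⊔ J ^ k • N := by
    intro k
    induction k with
    | zero =>
      rw [pow_zero, Ideal.one_eq_top, Submodule.top_smul]
      exact le_sup_right
    | succ k ih =>
      calc N ≤ N' ⊔ J • N := h
        _ ≤ N' ⊔ J • (N' ⊔ J ^ k • N) := sup_le_sup_left (Submodule.smul_mono le_rfl ih) _
        _ = N' ⊔ (J • N' ⊔ J • J ^ k • N) := by rw [Submodule.smul_sup]
        _ ≤ N' ⊔ J ^ (k + 1) • N := by
          rw [← Submodule.mul_smul, ← pow_succ']
          refine sup_le le_sup_left (sup_le ?_ le_sup_right)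
          exact le_trans Submodule.smul_le_right le_sup_left
  intro x hx
  set N'' : Submodule A N := N'.comap N.subtype with hN''
  haveI := hsep N N''
  have hzero : (Submodule.Quotient.mk (⟨x, hx⟩ : N) : N ⧸ N'') = 0 := by
    apply IsHausdorff.haus (hsep N N'')
    intro k
    rw [SModEq.zero]
    obtain ⟨y, hy, w, hw, hyw⟩ := Submodule.mem_sup.1 (hk k hx)
    have hwN : w ∈ N := Submodule.smul_le_right hw
    have hyN : y ∈ N := by
      have : y = x - w := by rw [← hyw]; abel
      rw [this]; exact N.sub_mem hx hwN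
    have h1 : (⟨x, hx⟩ : N) = ⟨y, hyN⟩ + ⟨w, hwN⟩ := Subtype.ext hyw.symm
    have h2 : (Submodule.Quotient.mk (⟨y, hyN⟩ : N) : N ⧸ N'') = 0 := by
      rw [Submodule.Quotient.mk_eq_zero]
      exact hy
    have h3 : (⟨w, hwN⟩ : N) ∈ J ^ k • (⊤ : Submodule A N) := by
      rw [Submodule.mem_smul_top_iff]
      exact hw
    rw [h1, Submodule.Quotient.mk_add, h2, zero_add]
    have h4 : (J ^ k • (⊤ : Submodule A N)).map N''.mkQ = J ^ k • (⊤ : Submodule A (N ⧸ N'')) := by
      rw [Submodule.map_smul'', Submodule.map_top, Submodule.range_mkQ]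
    rw [← h4]
    exact Submodule.mem_map_of_mem h3
  rw [Submodule.Quotient.mk_eq_zero] at hzero
  exact hzero

/-- the coordinatewise version: submodules of `M^k` -/
theorem le_of_le_sup_smul_pi (J : Ideal A)
    (hsep : ∀ (N : Submodule A M) (N' : Submodule A N), IsHausdorff J (N ⧸ N')) (k : ℕ) :
    ∀ (d j : ℕ), j + d = k → ∀ Z B : Submodule A (Fin k → M), B ≤ Z →
      (∀ z ∈ Z, ∀ i : Fin k, i.val < j → z i = 0) → Z ≤ B ⊔ J • Z → Z ≤ B := by
  intro d
  induction d with
  | zero =>
    intro j hj Z B _ hZ _ z hz
    have : z = 0 := by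
      ext i
      exact hZ z hz i (by omega)
    rw [this]
    exact B.zero_mem
  | succ d ih =>
    intro j hj Z B hBZ hZ h
    have hjk : j < k := by omega
    set p : (Fin k → M) →ₗ[A] M := LinearMap.proj ⟨j, hjk⟩ with hp
    have hN : Z.map p ≤ B.map p ⊔ J • Z.map p := by
      calc Z.map p ≤ (B ⊔ J • Z).map p := Submodule.map_mono h
        _ = B.map p ⊔ J • Z.map p := by rw [Submodule.map_sup, Submodule.map_smul'']
    have hN' : Z.map p ≤ B.map p := le_of_le_sup_smul J hsep _ _ hN
    set Z₁ : Submodule A (Fin k → M) := Z ⊓ LinearMap.ker p with hZ₁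
    set B₁ : Submodule A (Fin k → M) := B ⊓ LinearMap.ker p with hB₁
    have hZsup : Z ≤ B ⊔ Z₁ := by
      intro z hz
      obtain ⟨b, hb, hbz⟩ := hN' (Submodule.mem_map_of_mem hz)
      have h1 : z - b ∈ Z₁ := by
        refine ⟨Z.sub_mem hz (hBZ hb), ?_⟩
        show z - b ∈ LinearMap.ker p
        rw [LinearMap.mem_ker, map_sub, hbz, sub_self]
      have : z = b + (z - b) := by abel
      rw [this]
      exact Submodule.add_mem _ (Submodule.mem_sup_left hb) (Submodule.mem_sup_right h1)
    have hJZ : J • Z ≤ B ⊔ J • Z₁ := by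
      calc J • Z ≤ J • (B ⊔ Z₁) := Submodule.smul_mono le_rfl hZsup
        _ = J • B ⊔ J • Z₁ := Submodule.smul_sup _ _ _
        _ ≤ B ⊔ J • Z₁ := sup_le_sup_right Submodule.smul_le_right _
    have h₁ : Z₁ ≤ B₁ ⊔ J • Z₁ := by
      intro z hz
      have hzZ : z ∈ B ⊔ J • Z₁ := by
        have := h hz.1
        exact (sup_le le_sup_left hJZ) this
      obtain ⟨b, hb, w, hw, hbw⟩ := Submodule.mem_sup.1 hzZ
      have hwker : w ∈ LinearMap.ker p := (Submodule.smul_le_right hw : w ∈ Z₁).2
      have hbker : b ∈ LinearMap.ker p := by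
        have : b = z - w := by rw [← hbw]; abel
        rw [this]
        exact Submodule.sub_mem _ hz.2 hwker
      rw [← hbw]
      exact Submodule.add_mem _ (Submodule.mem_sup_left ⟨hb, hbker⟩) (Submodule.mem_sup_right hw)
    have hZ₁zero : ∀ z ∈ Z₁, ∀ i : Fin k, i.val < j + 1 → z i = 0 := by
      intro z hz i hi
      rcases Nat.lt_succ_iff_lt_or_eq.1 hi with hlt | heq
      · exact hZ z hz.1 i hlt
      · have h2 : p z = 0 := hz.2
        have h3 : i = ⟨j, hjk⟩ := Fin.ext heq
        rw [h3]
        exact h2
    have h5 := ih (j + 1) (by omega) Z₁ B₁ (inf_le_inf_right _ hBZ) hZ₁zero h₁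
    exact hZsup.trans (sup_le le_rfl (h5.trans inf_le_left))

end Hausdorff

section Koszul

/-- the set of trivial (Koszul) relations -/
def T {n : ℕ} (f : Fin n → A) (M : Type v) [AddCommGroup M] [Module A M] : Set (Fin n → M) :=
  {v : Fin n → M | ∃ (i j : Fin n) (x : M),
    v = f j • (Pi.single i x : Fin n → M) - f i • (Pi.single j x : Fin n → M)}

theorem koszulH1Zero_iff {n : ℕ} (f : Fin n → A) :
    CInt.KoszulH1Zero f M ↔ ∀ m : Fin n → M, ∑ i, f i • m i = 0 → m ∈ Submodule.span A (T f M) :=
  Iff.rfl

theorem ofList_ofFn {n : ℕ} (f : Fin n → A) :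
    Ideal.ofList (List.ofFn f) = Ideal.span (Set.range f) := by
  unfold Ideal.ofList
  congr 1
  ext a
  simp [List.mem_ofFn']

theorem mem_span_range_smul_top_iff {n : ℕ} (f : Fin n → A) (x : M) :
    x ∈ Ideal.span (Set.range f) • (⊤ : Submodule A M) ↔ ∃ m : Fin n → M, x = ∑ i, f i • m i := by
  constructor
  · intro hx
    refine Submodule.smul_induction_on hx ?_ ?_
    · intro r hr m _
      induction hr using Submodule.span_induction with
      | mem r hr =>
        obtain ⟨i, rfl⟩ := hr
        refine ⟨Pi.single i m, ?_⟩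
        rw [Finset.sum_eq_single i]
        · simp
        · intro j _ hji
          simp [Pi.single_eq_of_ne hji]
        · intro hi; exact absurd (Finset.mem_univ i) hi
      | zero => exact ⟨0, by simp⟩
      | add r s _ _ ihr ihs =>
        obtain ⟨m₁, h₁⟩ := ihr
        obtain ⟨m₂, h₂⟩ := ihs
        refine ⟨m₁ + m₂, ?_⟩
        simp only [Pi.add_apply, smul_add, Finset.sum_add_distrib, add_smul, h₁, h₂]
      | smul a r _ ihr =>
        obtain ⟨m₁, h₁⟩ := ihr
        refine ⟨a • m₁, ?_⟩
        rw [smul_eq_mul, mul_smul, h₁, Finset.smul_sum]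
        refine Finset.sum_congr rfl fun i _ => ?_
        rw [Pi.smul_apply, smul_comm]
    · rintro x y ⟨m₁, h₁⟩ ⟨m₂, h₂⟩
      refine ⟨m₁ + m₂, ?_⟩
      simp only [Pi.add_apply, smul_add, Finset.sum_add_distrib, h₁, h₂]
  · rintro ⟨m, rfl⟩
    refine Submodule.sum_mem _ fun i _ => ?_
    exact Submodule.smul_mem_smul (Ideal.subset_span ⟨i, rfl⟩) Submodule.mem_top

/-- trivial relations are relations -/
theorem sum_smul_eq_zero_of_mem_span_T {n : ℕ} (f : Fin n → A) (m : Fin n → M)
    (hm : m ∈ Submodule.span A (T f M)) : ∑ i, f i • m i = 0 := by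
  induction hm using Submodule.span_induction with
  | mem v hv =>
    obtain ⟨i, j, x, rfl⟩ := hv
    simp only [Pi.sub_apply, Pi.smul_apply, smul_sub, Finset.sum_sub_distrib]
    have h1 : ∀ (i : Fin n) (c : A), ∑ k, f k • c • (Pi.single i x : Fin n → M) k = f i • c • x := by
      intro i c
      rw [Finset.sum_eq_single i]
      · simp
      · intro k _ hki
        simp [Pi.single_eq_of_ne hki]
      · intro hi; exact absurd (Finset.mem_univ i) hi
    rw [h1, h1, smul_comm, sub_self]
  | zero => simp
  | add r s _ _ ihr ihs =>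
    simp only [Pi.add_apply, smul_add, Finset.sum_add_distrib, ihr, ihs, add_zero]
  | smul a r _ ihr =>
    have : ∑ i, f i • (a • r) i = a • ∑ i, f i • r i := by
      rw [Finset.smul_sum]
      refine Finset.sum_congr rfl fun i _ => ?_
      rw [Pi.smul_apply, smul_comm]
    rw [this, ihr, smul_zero]

variable {n : ℕ} (f : Fin (n + 1) → A)

/-- last coordinate of a combination of trivial relations lies in `(f')M` -/
theorem last_mem_of_mem_span_T (r : Fin (n + 1) → M) (hr : r ∈ Submodule.span A (T f M)) :
    r (Fin.last n) ∈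
      Ideal.span (Set.range fun i : Fin n => f i.castSucc) • (⊤ : Submodule A M) := by
  set N : Submodule A M :=
    Ideal.span (Set.range fun i : Fin n => f i.castSucc) • (⊤ : Submodule A M) with hN
  have hgen : ∀ (i : Fin n) (y : M), f i.castSucc • y ∈ N := fun i y =>
    Submodule.smul_mem_smul (Ideal.subset_span ⟨i, rfl⟩) Submodule.mem_top
  induction hr using Submodule.span_induction with
  | mem v hv =>
    obtain ⟨i, j, x, rfl⟩ := hv
    induction i using Fin.lastCases with
    | last =>
      induction j using Fin.lastCases with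
      | last => simp
      | cast j =>
        have hne : (Fin.last n) ≠ j.castSucc := (Fin.castSucc_lt_last j).ne'
        simp only [Pi.sub_apply, Pi.smul_apply, Pi.single_eq_same, Pi.single_eq_of_ne hne,
          smul_zero, sub_zero]
        exact hgen j x
    | cast i =>
      induction j using Fin.lastCases with
      | last =>
        have hne : (Fin.last n) ≠ i.castSucc := (Fin.castSucc_lt_last i).ne'
        simp only [Pi.sub_apply, Pi.smul_apply, Pi.single_eq_same, Pi.single_eq_of_ne hne,
          smul_zero, zero_sub]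
        exact N.neg_mem (hgen i x)
      | cast j =>
        have hne : (Fin.last n) ≠ i.castSucc := (Fin.castSucc_lt_last i).ne'
        have hne' : (Fin.last n) ≠ j.castSucc := (Fin.castSucc_lt_last j).ne'
        simp [Pi.single_eq_of_ne hne, Pi.single_eq_of_ne hne']
  | zero => exact N.zero_mem
  | add r s _ _ ihr ihs => exact N.add_mem ihr ihs
  | smul a r _ ihr => exact N.smul_mem a ihr

/-- (a): the last element is regular modulo the previous ones -/
theorem isSMulRegular_last (h : CInt.KoszulH1Zero f M) :
    IsSMulRegular (M ⧸ (Ideal.ofList (List.ofFn fun i : Fin n => f i.castSucc) •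
      (⊤ : Submodule A M))) (f (Fin.last n)) := by
  rw [isSMulRegular_iff_right_eq_zero_of_smul]
  intro m hm
  obtain ⟨x, rfl⟩ := Submodule.Quotient.mk_surjective _ m
  rw [← Submodule.Quotient.mk_smul, Submodule.Quotient.mk_eq_zero, ofList_ofFn,
    mem_span_range_smul_top_iff] at hm
  rw [Submodule.Quotient.mk_eq_zero, ofList_ofFn]
  obtain ⟨m', hm'⟩ := hm
  set r : Fin (n + 1) → M := Fin.snoc (fun i => - m' i) x with hr
  have hrel : ∑ i, f i • r i = 0 := by
    rw [Fin.sum_univ_castSucc]
    simp only [hr, Fin.snoc_castSucc, Fin.snoc_last, smul_neg, Finset.sum_neg_distrib]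
    rw [hm']
    abel
  have := last_mem_of_mem_span_T f r (h r hrel)
  simpa [hr] using this

/-- (b1): the key computation -/
theorem exists_of_mem_span_T (r : Fin (n + 1) → M) (hr : r ∈ Submodule.span A (T f M)) :
    ∃ x : Fin n → M,
      ((fun i : Fin n => r i.castSucc) - f (Fin.last n) • x ∈
        Submodule.span A (T (fun i : Fin n => f i.castSucc) M)) ∧
      r (Fin.last n) + ∑ i : Fin n, f i.castSucc • x i = 0 := by
  have hsingle : ∀ (i : Fin n) (y : M),
      ∑ k : Fin n, f k.castSucc • (Pi.single i y : Fin n → M) k = f i.castSucc • y := by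
    intro i y
    rw [Finset.sum_eq_single i]
    · simp
    · intro k _ hki
      simp [Pi.single_eq_of_ne hki]
    · intro hi; exact absurd (Finset.mem_univ i) hi
  have hcast : ∀ (i : Fin n) (y : M),
      (fun k : Fin n => (Pi.single i.castSucc y : Fin (n + 1) → M) k.castSucc) =
        (Pi.single i y : Fin n → M) := by
    intro i y
    ext k
    by_cases hk : k = i
    · subst hk; simp
    · have : k.castSucc ≠ i.castSucc := fun h => hk (Fin.castSucc_injective _ h)
      simp [Pi.single_eq_of_ne hk, Pi.single_eq_of_ne this]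
  have hlast : ∀ (y : M),
      (fun k : Fin n => (Pi.single (Fin.last n) y : Fin (n + 1) → M) k.castSucc) = 0 := by
    intro y
    ext k
    have : k.castSucc ≠ Fin.last n := (Fin.castSucc_lt_last k).ne
    simp [Pi.single_eq_of_ne this]
  induction hr using Submodule.span_induction with
  | mem v hv =>
    obtain ⟨i, j, y, rfl⟩ := hv
    induction i using Fin.lastCases with
    | last =>
      induction j using Fin.lastCases with
      | last =>
        refine ⟨0, ?_, ?_⟩
        · have : (fun k : Fin n => (f (Fin.last n) • (Pi.single (Fin.last n) y : Fin (n + 1) → M) -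
              f (Fin.last n) • (Pi.single (Fin.last n) y : Fin (n + 1) → M)) k.castSucc) -
              f (Fin.last n) • (0 : Fin n → M) = 0 := by
            ext k; simp
          rw [this]
          exact Submodule.zero_mem _
        · simp
      | cast j =>
        have hne : (Fin.last n) ≠ j.castSucc := (Fin.castSucc_lt_last j).ne'
        refine ⟨- Pi.single j y, ?_, ?_⟩
        · have : (fun k : Fin n => (f j.castSucc • (Pi.single (Fin.last n) y : Fin (n + 1) → M) -
              f (Fin.last n) • (Pi.single j.castSucc y : Fin (n + 1) → M)) k.castSucc) -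
              f (Fin.last n) • (- Pi.single j y : Fin n → M) = 0 := by
            have h1 := hcast j y
            have h2 := hlast y
            ext k
            have h1k := congrFun h1 k
            have h2k := congrFun h2 k
            simp only [Pi.sub_apply, Pi.smul_apply, Pi.neg_apply, Pi.zero_apply] at h1k h2k ⊢
            rw [h1k, h2k]
            simp
          rw [this]
          exact Submodule.zero_mem _
        · simp only [Pi.sub_apply, Pi.smul_apply, Pi.single_eq_same, Pi.single_eq_of_ne hne,
            smul_zero, sub_zero, Pi.neg_apply, smul_neg, Finset.sum_neg_distrib]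
          rw [hsingle]
          abel
    | cast i =>
      induction j using Fin.lastCases with
      | last =>
        have hne : (Fin.last n) ≠ i.castSucc := (Fin.castSucc_lt_last i).ne'
        refine ⟨Pi.single i y, ?_, ?_⟩
        · have : (fun k : Fin n => (f (Fin.last n) • (Pi.single i.castSucc y : Fin (n + 1) → M) -
              f i.castSucc • (Pi.single (Fin.last n) y : Fin (n + 1) → M)) k.castSucc) -
              f (Fin.last n) • (Pi.single i y : Fin n → M) = 0 := by
            have h1 := hcast i y
            have h2 := hlast y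
            ext k
            have h1k := congrFun h1 k
            have h2k := congrFun h2 k
            simp only [Pi.sub_apply, Pi.smul_apply, Pi.zero_apply] at h1k h2k ⊢
            rw [h1k, h2k]
            simp
          rw [this]
          exact Submodule.zero_mem _
        · simp only [Pi.sub_apply, Pi.smul_apply, Pi.single_eq_same, Pi.single_eq_of_ne hne,
            smul_zero, zero_sub]
          rw [hsingle]
          abel
      | cast j =>
        have hne : (Fin.last n) ≠ i.castSucc := (Fin.castSucc_lt_last i).ne'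
        have hne' : (Fin.last n) ≠ j.castSucc := (Fin.castSucc_lt_last j).ne'
        refine ⟨0, ?_, ?_⟩
        · have : (fun k : Fin n => (f j.castSucc • (Pi.single i.castSucc y : Fin (n + 1) → M) -
              f i.castSucc • (Pi.single j.castSucc y : Fin (n + 1) → M)) k.castSucc) -
              f (Fin.last n) • (0 : Fin n → M) =
              f j.castSucc • (Pi.single i y : Fin n → M) -
                f i.castSucc • (Pi.single j y : Fin n → M) := by
            have h1 := hcast i y
            have h2 := hcast j y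
            ext k
            have h1k := congrFun h1 k
            have h2k := congrFun h2 k
            simp only [Pi.sub_apply, Pi.smul_apply, Pi.zero_apply] at h1k h2k ⊢
            rw [h1k, h2k]
            simp
          rw [this]
          exact Submodule.subset_span ⟨i, j, y, rfl⟩
        · simp [Pi.single_eq_of_ne hne, Pi.single_eq_of_ne hne']
  | zero =>
    refine ⟨0, ?_, ?_⟩
    · have : (fun i : Fin n => (0 : Fin (n + 1) → M) i.castSucc) -
          f (Fin.last n) • (0 : Fin n → M) = 0 := by
        ext k; simp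
      rw [this]
      exact Submodule.zero_mem _
    · simp
  | add r s _ _ ihr ihs =>
    obtain ⟨x₁, h₁, h₁'⟩ := ihr
    obtain ⟨x₂, h₂, h₂'⟩ := ihs
    refine ⟨x₁ + x₂, ?_, ?_⟩
    · have : (fun i : Fin n => (r + s) i.castSucc) - f (Fin.last n) • (x₁ + x₂) =
          ((fun i : Fin n => r i.castSucc) - f (Fin.last n) • x₁) +
          ((fun i : Fin n => s i.castSucc) - f (Fin.last n) • x₂) := by
        ext k
        simp only [Pi.add_apply, Pi.sub_apply, Pi.smul_apply, smul_add]
        abel
      rw [this]
      exact Submodule.add_mem _ h₁ h₂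
    · simp only [Pi.add_apply, smul_add, Finset.sum_add_distrib]
      calc r (Fin.last n) + s (Fin.last n) +
            (∑ i : Fin n, f i.castSucc • x₁ i + ∑ i : Fin n, f i.castSucc • x₂ i)
          = (r (Fin.last n) + ∑ i : Fin n, f i.castSucc • x₁ i) +
            (s (Fin.last n) + ∑ i : Fin n, f i.castSucc • x₂ i) := by abel
        _ = 0 := by rw [h₁', h₂', add_zero]
  | smul a r _ ihr =>
    obtain ⟨x₁, h₁, h₁'⟩ := ihr
    refine ⟨a • x₁, ?_, ?_⟩
    · have : (fun i : Fin n => (a • r) i.castSucc) - f (Fin.last n) • (a • x₁) =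
          a • ((fun i : Fin n => r i.castSucc) - f (Fin.last n) • x₁) := by
        ext k
        simp only [Pi.sub_apply, Pi.smul_apply, smul_sub]
        rw [smul_comm]
      rw [this]
      exact Submodule.smul_mem _ a h₁
    · have : ∑ i : Fin n, f i.castSucc • (a • x₁) i = a • ∑ i : Fin n, f i.castSucc • x₁ i := by
        rw [Finset.smul_sum]
        refine Finset.sum_congr rfl fun i _ => ?_
        rw [Pi.smul_apply, smul_comm]
      rw [Pi.smul_apply, this, ← smul_add, h₁', smul_zero]

/-- (b): vanishing of `H_1` descends to the truncated sequence -/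
theorem koszulH1Zero_castSucc (J : Ideal A)
    (hsep : ∀ (N : Submodule A M) (N' : Submodule A N), IsHausdorff J (N ⧸ N'))
    (hJ : f (Fin.last n) ∈ J) (h : CInt.KoszulH1Zero f M) :
    CInt.KoszulH1Zero (fun i : Fin n => f i.castSucc) M := by
  set f' : Fin n → A := fun i => f i.castSucc with hf'
  set φ : (Fin n → M) →ₗ[A] M := ∑ i, f' i • LinearMap.proj i with hφ
  have hφ_apply : ∀ m : Fin n → M, φ m = ∑ i, f' i • m i := by
    intro m
    simp [hφ, LinearMap.sum_apply]
  set Z : Submodule A (Fin n → M) := LinearMap.ker φ with hZ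
  set B : Submodule A (Fin n → M) := Submodule.span A (T f' M) with hB
  have hBZ : B ≤ Z := by
    intro m hm
    rw [hZ, LinearMap.mem_ker, hφ_apply]
    exact sum_smul_eq_zero_of_mem_span_T f' m hm
  have hle : Z ≤ B ⊔ J • Z := by
    intro m hm
    rw [hZ, LinearMap.mem_ker, hφ_apply] at hm
    set r : Fin (n + 1) → M := Fin.snoc m 0 with hr
    have hrel : ∑ i, f i • r i = 0 := by
      rw [Fin.sum_univ_castSucc]
      simp only [hr, Fin.snoc_castSucc, Fin.snoc_last, smul_zero, add_zero]
      exact hm
    obtain ⟨x, hx, hx'⟩ := exists_of_mem_span_T f r (h r hrel)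
    have h1 : (fun i : Fin n => r i.castSucc) = m := by
      ext i; simp [hr]
    have h2 : r (Fin.last n) = 0 := by simp [hr]
    rw [h1] at hx
    rw [h2, zero_add] at hx'
    have hxZ : x ∈ Z := by
      rw [hZ, LinearMap.mem_ker, hφ_apply]
      exact hx'
    have : m = (m - f (Fin.last n) • x) + f (Fin.last n) • x := by abel
    rw [this]
    exact Submodule.add_mem _ (Submodule.mem_sup_left hx)
      (Submodule.mem_sup_right (Submodule.smul_mem_smul hJ hxZ))
  have hZB : Z ≤ B := le_of_le_sup_smul_pi J hsep n n 0 (by simp) Z B hBZ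
    (fun z _ i hi => absurd hi (Nat.not_lt_zero _)) hle
  intro m hm
  apply hZB
  rw [hZ, LinearMap.mem_ker, hφ_apply]
  exact hm

end Koszul

/-- **Main theorem**: if `H_1(f, M) = 0`, the `f i` lie in `J`, and all subquotients of `M` are
`J`-adically separated, then `f` is a weakly regular sequence on `M`. -/
theorem isWeaklyRegular_of_koszulH1Zero (J : Ideal A)
    (hsep : ∀ (N : Submodule A M) (N' : Submodule A N), IsHausdorff J (N ⧸ N')) :
    ∀ (n : ℕ) (f : Fin n → A), (∀ i, f i ∈ J) → CInt.KoszulH1Zero f M →
      IsWeaklyRegular M (List.ofFn f) := by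
  intro n
  induction n with
  | zero =>
    intro f _ _
    rw [List.ofFn_zero]
    exact IsWeaklyRegular.nil A M
  | succ n ih =>
    intro f hf h
    rw [List.ofFn_succ', List.concat_eq_append, isWeaklyRegular_append_iff,
      isWeaklyRegular_singleton_iff]
    refine ⟨ih _ (fun i => hf i.castSucc) (koszulH1Zero_castSucc f J hsep (hf _) h), ?_⟩
    exact isSMulRegular_last f h

/-- S18941 -/
theorem isWeaklyRegular_of_koszulH1Zero_span {n : ℕ} (f : Fin n → A)
    (hsep : ∀ (N : Submodule A M) (N' : Submodule A N),
      IsHausdorff (Ideal.span (Set.range f)) (N ⧸ N'))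
    (h : CInt.KoszulH1Zero f M) : IsWeaklyRegular M (List.ofFn f) :=
  isWeaklyRegular_of_koszulH1Zero _ hsep n f (fun i => Ideal.subset_span ⟨i, rfl⟩) h

/-- S2868 -/
theorem isWeaklyRegular_of_koszulH1Zero_jacobson [IsNoetherianRing A] [Module.Finite A M]
    {n : ℕ} (f : Fin n → A) (hrad : ∀ i, f i ∈ (⊥ : Ideal A).jacobson)
    (h : CInt.KoszulH1Zero f M) : IsWeaklyRegular M (List.ofFn f) := by
  refine isWeaklyRegular_of_koszulH1Zero (⊥ : Ideal A).jacobson ?_ n f hrad h
  intro N N'
  haveI : IsNoetherian A M := isNoetherian_of_isNoetherianRing_of_finite A M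
  rw [isHausdorff_iff]
  intro x hx
  have h0 : (⨅ i : ℕ, (⊥ : Ideal A).jacobson ^ i • ⊤ : Submodule A (N ⧸ N')) = ⊥ :=
    Ideal.iInf_pow_smul_eq_bot_of_le_jacobson _ le_rfl
  have : x ∈ (⨅ i : ℕ, (⊥ : Ideal A).jacobson ^ i • ⊤ : Submodule A (N ⧸ N')) := by
    rw [Submodule.mem_iInf]
    intro i
    have := hx i
    rwa [SModEq.zero] at this
  rw [h0] at this
  exact this


end Groth.Agent.KoszulH1
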