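import Mathlib

/-!
# McCoy's theorem for multivariate polynomials, and flatness of `A[T]/(f)` for primitive `f`
(helper8)
-/

set_option autoImplicit false

namespace Groth.Agent.Lib.McCoyH8

open Polynomial in
/-- Family version of `Polynomial.eq_zero_of_mul_eq_zero_of_smul` (McCoy). -/
theorem poly_family {R : Type*} [CommRing R] {ι : Type*} (P : ι → R[X])
    (h : ∀ r : R, (∀ i, r • P i = 0) → r = 0) (Q : R[X]) (hQ : ∀ i, P i * Q = 0) : Q = 0 := by
  suffices ∀ j i, (P j).coeff i • Q = 0 by
    rw [← leadingCoeff_eq_zero]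
    apply h
    intro j
    simpa [Polynomial.ext_iff, mul_comm Q.leadingCoeff] using
      fun i ↦ congr_arg (·.coeff Q.natDegree) (this j i)
  intro j
  apply Nat.strong_decreasing_induction
  · use (P j).natDegree
    intro i hi
    rw [coeff_eq_zero_of_natDegree_lt hi, zero_smul]
  intro l IH
  obtain _ | hl := (natDegree_smul_le ((P j).coeff l) Q).lt_or_eq
  · apply poly_family P h ((P j).coeff l • Q)
    intro i
    rw [smul_eq_C_mul, mul_left_comm, hQ, mul_zero]
  suffices (P j).coeff l * Q.leadingCoeff = 0 by
    rwa [← leadingCoeff_eq_zero, ← coeff_natDegree, coeff_smul, hl, coeff_natDegree, smul_eq_mul]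
  let m := Q.natDegree
  suffices (P j * Q).coeff (l + m) = (P j).coeff l * Q.leadingCoeff by rw [← this, hQ, coeff_zero]
  rw [coeff_mul]
  apply Finset.sum_eq_single (l, m) _ (by simp)
  simp only [Finset.HasAntidiagonal.mem_antidiagonal, ne_eq, Prod.forall, Prod.mk.injEq, not_and]
  intro i j' hij H
  obtain hi | rfl | hi := lt_trichotomy i l
  · have hj : m < j' := by lia
    rw [coeff_eq_zero_of_natDegree_lt hj, mul_zero]
  · lia
  · rw [← coeff_C_mul, ← smul_eq_C_mul, IH _ hi, coeff_zero]
termination_by Q.natDegree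

open MvPolynomial in
/-- McCoy for families of polynomials in `Fin n` variables. -/
theorem mv_family {R : Type*} [CommRing R] (n : ℕ) :
    ∀ {ι : Type} (P : ι → MvPolynomial (Fin n) R)
      (_ : ∀ r : R, (∀ i, r • P i = 0) → r = 0) (Q : MvPolynomial (Fin n) R)
      (_ : ∀ i, P i * Q = 0), Q = 0 := by
  induction n with
  | zero =>
    intro ι P h Q hQ
    obtain ⟨q, rfl⟩ := MvPolynomial.C_surjective (Fin 0) Q
    have hq : q = 0 := by
      apply h
      intro i
      obtain ⟨pi, hpi⟩ := MvPolynomial.C_surjective (Fin 0) (P i)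
      have h1 := hQ i
      rw [smul_eq_C_mul, mul_comm]
      exact h1
    rw [hq, C_0]
  | succ n ih =>
    intro ι P h Q hQ
    apply (finSuccEquiv R n).injective
    rw [map_zero]
    apply poly_family (fun i => finSuccEquiv R n (P i)) ?_ _
      (fun i => by rw [← map_mul, hQ i, map_zero])
    intro s hs
    apply ih (fun ik : ι × ℕ => (finSuccEquiv R n (P ik.1)).coeff ik.2) ?_ s ?_
    · intro r hr
      apply h
      intro i
      apply (finSuccEquiv R n).injective
      rw [map_zero, map_smul]
      ext1 k
      rw [Polynomial.coeff_smul, Polynomial.coeff_zero]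
      exact hr (i, k)
    · rintro ⟨i, k⟩
      have h1 := congrArg (fun q => Polynomial.coeff q k) (hs i)
      simp only [Polynomial.coeff_smul, Polynomial.coeff_zero, smul_eq_mul] at h1
      rw [mul_comm]; exact h1

open MvPolynomial in
/-- McCoy: a polynomial not killed by any nonzero scalar is a non-zero-divisor. -/
theorem mem_nonZeroDivisors_of_smul {R : Type*} [CommRing R] {σ : Type*} [Finite σ]
    (P : MvPolynomial σ R) (h : ∀ r : R, r • P = 0 → r = 0) :
    P ∈ nonZeroDivisors (MvPolynomial σ R) := by
  classical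
  cases nonempty_fintype σ
  let e := Fintype.equivFin σ
  rw [mem_nonZeroDivisors_iff_right]
  intro Q hQ
  apply (renameEquiv R e).injective
  rw [map_zero]
  apply mv_family (Fintype.card σ) (fun _ : Unit => renameEquiv R e P) ?_ _ ?_
  · intro r hr
    apply h
    apply (renameEquiv R e).injective
    rw [map_zero, map_smul]; exact hr ()
  · intro _
    rw [← map_mul, mul_comm, hQ, map_zero]

/-- a primitive polynomial is not killed by a nonzero scalar -/
theorem smul_eq_zero_of_primitive {A : Type*} [CommRing A] {σ : Type*}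
    (f : MvPolynomial σ A) (hf : Ideal.span (Set.range f.coeff) = ⊤) (r : A) (hr : r • f = 0) :
    r = 0 := by
  have h1 : (1 : A) ∈ Ideal.span (Set.range f.coeff) := by rw [hf]; trivial
  have h2 : ∀ x ∈ Ideal.span (Set.range f.coeff), r * x = 0 := by
    intro x hx
    induction hx using Submodule.span_induction with
    | mem x hx =>
      obtain ⟨d, rfl⟩ := hx
      have := congrArg (MvPolynomial.coeff d) hr
      simpa using this
    | zero => simp
    | add x y _ _ hx hy => rw [mul_add, hx, hy, add_zero]
    | smul a x _ hx => rw [smul_eq_mul, mul_left_comm, hx, mul_zero]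
  simpa using h2 1 h1

theorem primitive_mem_nonZeroDivisors {A : Type*} [CommRing A] {σ : Type*} [Finite σ]
    (f : MvPolynomial σ A) (hf : Ideal.span (Set.range f.coeff) = ⊤) :
    f ∈ nonZeroDivisors (MvPolynomial σ A) :=
  mem_nonZeroDivisors_of_smul f (smul_eq_zero_of_primitive f hf)

open TensorProduct LinearMap in
/-- If `B'` is flat and `φ ⊗ A/I` is injective for every ideal `I`, then `coker φ` is flat. -/
theorem flat_coker {A : Type*} [CommRing A] {B B' : Type*} [AddCommGroup B] [Module A B]
    [AddCommGroup B'] [Module A B'] [Module.Flat A B'] (φ : B →ₗ[A] B')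
    (hφ : ∀ I : Ideal A, Function.Injective (φ.lTensor (A ⧸ I))) :
    Module.Flat A (B' ⧸ LinearMap.range φ) := by
  rw [Module.Flat.iff_rTensor_injective']
  intro I
  rw [injective_iff_map_eq_zero]
  intro x hx
  have hπsurj : Function.Surjective (LinearMap.range φ).mkQ := Submodule.mkQ_surjective _
  have hex : Function.Exact φ (LinearMap.range φ).mkQ := LinearMap.exact_map_mkQ_range φ
  obtain ⟨x', rfl⟩ := LinearMap.lTensor_surjective I hπsurj x
  have hy0 : ((LinearMap.range φ).mkQ.lTensor A) ((I.subtype.rTensor B') x') = 0 := by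
    have h1 : ((LinearMap.range φ).mkQ.lTensor A) ((I.subtype.rTensor B') x')
        = (I.subtype.rTensor _) (((LinearMap.range φ).mkQ.lTensor I) x') := by
      rw [← LinearMap.comp_apply, ← LinearMap.comp_apply, LinearMap.lTensor_comp_rTensor,
        LinearMap.rTensor_comp_lTensor]
    rw [h1]; exact hx
  obtain ⟨z, hz⟩ := (lTensor_exact A hex hπsurj _).mp hy0
  have hq : Function.Exact I.subtype (Submodule.mkQ I) := LinearMap.exact_subtype_mkQ I
  have hqsurj : Function.Surjective (Submodule.mkQ I) := Submodule.mkQ_surjective _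
  have hz0 : ((Submodule.mkQ I).rTensor B) z = 0 := by
    apply hφ I
    rw [map_zero]
    have h2 : (φ.lTensor (A ⧸ I)) (((Submodule.mkQ I).rTensor B) z)
        = ((Submodule.mkQ I).rTensor B') ((φ.lTensor A) z) := by
      rw [← LinearMap.comp_apply, ← LinearMap.comp_apply, LinearMap.lTensor_comp_rTensor,
        LinearMap.rTensor_comp_lTensor]
    rw [h2, hz, ← LinearMap.comp_apply, ← LinearMap.rTensor_comp]
    have h3 : (Submodule.mkQ I) ∘ₗ I.subtype = 0 := by
      ext a
      simpa using Ideal.Quotient.eq_zero_iff_mem.mpr a.2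
    rw [h3, LinearMap.rTensor_zero, LinearMap.zero_apply]
  obtain ⟨w, hw⟩ := (rTensor_exact B hq hqsurj _).mp hz0
  have hinj : Function.Injective (I.subtype.rTensor B') :=
    Module.Flat.rTensor_preserves_injective_linearMap _ (Submodule.injective_subtype I)
  have hx' : x' = (φ.lTensor I) w := by
    apply hinj
    rw [← hz, ← hw, ← LinearMap.comp_apply, ← LinearMap.comp_apply,
      LinearMap.lTensor_comp_rTensor, LinearMap.rTensor_comp_lTensor]
  rw [hx', ← LinearMap.comp_apply, ← LinearMap.lTensor_comp]
  have h4 : (LinearMap.range φ).mkQ ∘ₗ φ = 0 := by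
    ext b
    simp
  rw [h4, LinearMap.lTensor_zero, LinearMap.zero_apply]

open TensorProduct in
/-- `A[T]/(f)` is flat over `A` for primitive `f`. -/
theorem primitive_flat {A : Type*} [CommRing A] {σ : Type*} [Finite σ]
    (f : MvPolynomial σ A) (hf : Ideal.span (Set.range f.coeff) = ⊤) :
    Module.Flat A (MvPolynomial σ A ⧸ Ideal.span ({f} : Set (MvPolynomial σ A))) := by
  classical
  let φ : MvPolynomial σ A →ₗ[A] MvPolynomial σ A := LinearMap.mul A (MvPolynomial σ A) f
  have hφ : ∀ I : Ideal A, Function.Injective (φ.lTensor (A ⧸ I)) := by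
    intro I
    let e := MvPolynomial.algebraTensorAlgEquiv (σ := σ) A (A ⧸ I)
    have hfbar : Ideal.span (Set.range
        (MvPolynomial.map (algebraMap A (A ⧸ I)) f).coeff) = ⊤ := by
      have : Set.range (MvPolynomial.map (algebraMap A (A ⧸ I)) f).coeff
          = (algebraMap A (A ⧸ I)) '' Set.range f.coeff := by
        ext y
        simp [MvPolynomial.coeff_map]
      rw [this, ← Ideal.map_span, hf, Ideal.map_top]
    have hnzd := primitive_mem_nonZeroDivisors _ hfbar
    have hcomm : ∀ x, e (φ.lTensor (A ⧸ I) x)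
        = MvPolynomial.map (algebraMap A (A ⧸ I)) f * e x := by
      intro x
      induction x with
      | zero => simp
      | add x y hx hy => rw [map_add, map_add, hx, hy, map_add, mul_add]
      | tmul a p =>
        rw [LinearMap.lTensor_tmul]
        show e (a ⊗ₜ[A] (f * p)) = _
        rw [MvPolynomial.algebraTensorAlgEquiv_tmul, MvPolynomial.algebraTensorAlgEquiv_tmul,
          map_mul, mul_smul_comm]
    rw [injective_iff_map_eq_zero]
    intro x hx
    have h1 := hcomm x
    rw [hx, map_zero] at h1
    have h2 : e x = 0 := (mem_nonZeroDivisors_iff_left.mp hnzd) _ h1.symm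
    exact (map_eq_zero_iff e e.injective).mp h2
  have hflat := flat_coker φ hφ
  have hrange : LinearMap.range φ
      = (Ideal.span ({f} : Set (MvPolynomial σ A))).restrictScalars A := by
    ext x
    simp only [LinearMap.mem_range, Submodule.restrictScalars_mem, Ideal.mem_span_singleton']
    constructor
    · rintro ⟨b, rfl⟩; exact ⟨b, by simp [φ, mul_comm]⟩
    · rintro ⟨b, rfl⟩; exact ⟨b, by simp [φ, mul_comm]⟩
  exact Module.Flat.of_linearEquiv
    ((Submodule.Quotient.restrictScalarsEquiv A
      (Ideal.span ({f} : Set (MvPolynomial σ A)))).symm.trans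
      (Submodule.quotEquivOfEq _ _ hrange.symm))

end Groth.Agent.Lib.McCoyH8
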