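import Mathlib
import Groth.Agent.Lib.McCoy_helper8

/-!
# The local criterion of flatness (Tor-free formulation)

For an `R`-module `M` with a flat presentation `K → F → M → 0` (`f : K → F` injective), vanishing of
`Tor₁(N, M)` is expressed as injectivity of `N ⊗ f`.  We prove:

* `flat_of_nilpotent`: `I` nilpotent, `M/IM` flat over `R/I`, `I ⊗ M → M` injective ⇒ `M` flat;
* `flat_quot_pow`: `M/IM` flat over `R/I`, `I ⊗ M → M` injective ⇒ `M/IⁿM` flat over `R/Iⁿ`;
* `flat_of_forall_flat_quot_pow`: Noetherian idealwise-separated case.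
-/

namespace Groth.Agent.Lib.LocalCrit2

open TensorProduct

universe u

section chase

variable {R : Type*} [CommRing R]
variable {A1 A2 A3 B1 B2 B3 C1 C2 : Type*}
  [AddCommGroup A1] [Module R A1] [AddCommGroup A2] [Module R A2] [AddCommGroup A3] [Module R A3]
  [AddCommGroup B1] [Module R B1] [AddCommGroup B2] [Module R B2] [AddCommGroup B3] [Module R B3]
  [AddCommGroup C1] [Module R C1] [AddCommGroup C2] [Module R C2]

lemma chase_mid (a1 : A1 →ₗ[R] A2) (a2 : A2 →ₗ[R] A3) (b1 : B1 →ₗ[R] B2) (b2 : B2 →ₗ[R] B3)
    (v1 : A1 →ₗ[R] B1) (v2 : A2 →ₗ[R] B2) (v3 : A3 →ₗ[R] B3)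
    (c1 : ∀ x, b1 (v1 x) = v2 (a1 x)) (c2 : ∀ x, b2 (v2 x) = v3 (a2 x))
    (hex : Function.Exact a1 a2) (hb1 : Function.Injective b1)
    (h1 : Function.Injective v1) (h3 : Function.Injective v3) : Function.Injective v2 := by
  rw [injective_iff_map_eq_zero]
  intro x hx
  have h : a2 x = 0 := by
    apply h3
    rw [← c2, hx, map_zero, map_zero]
  obtain ⟨x', rfl⟩ := (hex x).mp h
  have h' : v1 x' = 0 := by
    apply hb1
    rw [c1, hx, map_zero]
  have : x' = 0 := h1 (by rw [h', map_zero])
  rw [this, map_zero]

lemma chase_conn (a1 : A1 →ₗ[R] A2) (a2 : A2 →ₗ[R] A3) (b1 : B1 →ₗ[R] B2) (b2 : B2 →ₗ[R] B3)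
    (c1 : C1 →ₗ[R] C2)
    (v1 : A1 →ₗ[R] B1) (v2 : A2 →ₗ[R] B2) (v3 : A3 →ₗ[R] B3)
    (w1 : B1 →ₗ[R] C1) (w2 : B2 →ₗ[R] C2)
    (ha : ∀ x, a2 (a1 x) = 0) (ha2 : Function.Surjective a2) (hb : Function.Exact b1 b2)
    (hc1 : Function.Injective c1) (hv1 : Function.Exact v1 w1) (hw2 : ∀ x, w2 (v2 x) = 0)
    (c11 : ∀ x, b1 (v1 x) = v2 (a1 x)) (c12 : ∀ x, b2 (v2 x) = v3 (a2 x))
    (c21 : ∀ x, c1 (w1 x) = w2 (b1 x))
    (h2 : Function.Injective v2) : Function.Injective v3 := by
  rw [injective_iff_map_eq_zero]
  intro x hx
  obtain ⟨y, rfl⟩ := ha2 x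
  have h1 : b2 (v2 y) = 0 := by rw [c12, hx]
  obtain ⟨z, hz⟩ := (hb _).mp h1
  have h2' : w1 z = 0 := by
    apply hc1
    rw [c21, hz, hw2, map_zero]
  obtain ⟨w, rfl⟩ := (hv1 _).mp h2'
  have : a1 w = y := by
    apply h2
    rw [← c11, hz]
  rw [← this, ha]

end chase

section T1

variable {R : Type*} [CommRing R] {K F M : Type*} [AddCommGroup K] [Module R K]
  [AddCommGroup F] [Module R F] [AddCommGroup M] [Module R M]
  (f : K →ₗ[R] F) (g : F →ₗ[R] M)

lemma sq (X : Type*) [AddCommGroup X] [Module R X] {N' N : Type*} [AddCommGroup N'] [Module R N']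
    [AddCommGroup N] [Module R N] {Y : Type*} [AddCommGroup Y] [Module R Y]
    (i : N' →ₗ[R] N) (h : X →ₗ[R] Y) (x : N' ⊗[R] X) :
    i.rTensor Y (h.lTensor N' x) = h.lTensor N (i.rTensor X x) := by
  rw [← LinearMap.comp_apply, ← LinearMap.comp_apply, LinearMap.rTensor_comp_lTensor,
    LinearMap.lTensor_comp_rTensor]

/-- `Tor₁(-, M) = 0` is closed under extensions. -/
lemma T1_ext [Module.Flat R F] {N' N N'' : Type*} [AddCommGroup N'] [Module R N']
    [AddCommGroup N] [Module R N] [AddCommGroup N''] [Module R N'']
    (i : N' →ₗ[R] N) (p : N →ₗ[R] N'')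
    (hi : Function.Injective i) (hip : Function.Exact i p) (hp : Function.Surjective p)
    (h' : Function.Injective (f.lTensor N')) (h'' : Function.Injective (f.lTensor N'')) :
    Function.Injective (f.lTensor N) :=
  chase_mid (i.rTensor K) (p.rTensor K) (i.rTensor F) (p.rTensor F)
    (f.lTensor N') (f.lTensor N) (f.lTensor N'') (sq K i f) (sq K p f)
    (rTensor_exact K hip hp) (Module.Flat.rTensor_preserves_injective_linearMap i hi) h' h''

/-- If `Tor₁(N, M) = 0` and `N' ⊗ M → N ⊗ M` is injective, then `Tor₁(N/N', M) = 0`. -/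
lemma T1_quot {N' N N'' : Type*} [AddCommGroup N'] [Module R N']
    [AddCommGroup N] [Module R N] [AddCommGroup N''] [Module R N'']
    (i : N' →ₗ[R] N) (p : N →ₗ[R] N'')
    (hfg : Function.Exact f g) (hg : Function.Surjective g)
    (hip : Function.Exact i p) (hp : Function.Surjective p)
    (h : Function.Injective (f.lTensor N)) (hM : Function.Injective (i.rTensor M)) :
    Function.Injective (f.lTensor N'') :=
  chase_conn (i.rTensor K) (p.rTensor K) (i.rTensor F) (p.rTensor F) (i.rTensor M)
    (f.lTensor N') (f.lTensor N) (f.lTensor N'') (g.lTensor N') (g.lTensor N)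
    (fun x => (rTensor_exact K hip hp).apply_apply_eq_zero x)
    (LinearMap.rTensor_surjective K hp) (rTensor_exact F hip hp) hM (lTensor_exact N' hfg hg)
    (fun x => (lTensor_exact N hfg hg).apply_apply_eq_zero x)
    (sq K i f) (sq K p f) (sq F i g) h

/-- Flatness from vanishing of `Tor₁(R/J, M)` for all ideals `J`. -/
lemma flat_of_T1 [Module.Flat R F] (hfg : Function.Exact f g) (hg : Function.Surjective g)
    (h : ∀ J : Ideal R, Function.Injective (f.lTensor (R ⧸ J))) : Module.Flat R M :=
  have := Groth.Agent.Lib.McCoyH8.flat_coker f h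
  Module.Flat.of_linearEquiv (hfg.linearEquivOfSurjective hg).symm

/-- `I ⊗ M → M` injective implies `Tor₁(R/I, M) = 0`. -/
lemma T1_quot_ideal (hf : Function.Injective f) (hfg : Function.Exact f g)
    (hg : Function.Surjective g) (J : Ideal R)
    (htor : Function.Injective (J.subtype.rTensor M)) :
    Function.Injective (f.lTensor (R ⧸ J)) :=
  T1_quot f g J.subtype J.mkQ hfg hg (LinearMap.exact_subtype_mkQ J) (Submodule.mkQ_surjective J)
    (Module.Flat.lTensor_preserves_injective_linearMap f hf) htor

end T1

section bc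

variable {R : Type*} [CommRing R] (A : Type*) [CommRing A] [Algebra R A]

lemma cancel_nat_right {K F : Type*} [AddCommGroup K] [Module R K] [AddCommGroup F] [Module R F]
    (f : K →ₗ[R] F) (G : Type*) [AddCommGroup G] [Module A G] [Module R G] [IsScalarTower R A G]
    (x : G ⊗[A] (A ⊗[R] K)) :
    AlgebraTensorModule.cancelBaseChange R A A G F ((f.baseChange A).lTensor G x) =
      f.lTensor G (AlgebraTensorModule.cancelBaseChange R A A G K x) := by
  induction x using TensorProduct.induction_on with
  | zero => simp
  | tmul g y =>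
    induction y using TensorProduct.induction_on with
    | zero => simp
    | tmul a k => simp
    | add y z hy hz => simp only [tmul_add, map_add, hy, hz]
  | add x y hx hy => simp only [map_add, hx, hy]

lemma cancel_nat_left {L G : Type*} [AddCommGroup L] [Module A L] [Module R L]
    [IsScalarTower R A L] [AddCommGroup G] [Module A G] [Module R G] [IsScalarTower R A G]
    (g : L →ₗ[A] G) (N : Type*) [AddCommGroup N] [Module R N]
    (x : L ⊗[A] (A ⊗[R] N)) :
    AlgebraTensorModule.cancelBaseChange R A A G N (g.rTensor (A ⊗[R] N) x) =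
      (g.restrictScalars R).rTensor N (AlgebraTensorModule.cancelBaseChange R A A L N x) := by
  induction x using TensorProduct.induction_on with
  | zero => simp
  | tmul l y =>
    induction y using TensorProduct.induction_on with
    | zero => simp
    | tmul a n => simp
    | add y z hy hz => simp only [tmul_add, map_add, hy, hz]
  | add x y hx hy => simp only [map_add, hx, hy]

lemma lTensor_baseChange_injective_iff {K F : Type*} [AddCommGroup K] [Module R K]
    [AddCommGroup F] [Module R F]
    (f : K →ₗ[R] F) (G : Type*) [AddCommGroup G] [Module A G] [Module R G] [IsScalarTower R A G] :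
    Function.Injective ((f.baseChange A).lTensor G) ↔ Function.Injective (f.lTensor G) := by
  constructor
  · intro h
    rw [injective_iff_map_eq_zero]
    intro x hx
    obtain ⟨x, rfl⟩ := (AlgebraTensorModule.cancelBaseChange R A A G K).surjective x
    rw [← cancel_nat_right] at hx
    have := (AlgebraTensorModule.cancelBaseChange R A A G F).injective (hx.trans (map_zero _).symm)
    rw [h (this.trans (map_zero _).symm), map_zero]
  · intro h
    rw [injective_iff_map_eq_zero]
    intro x hx
    have h1 := cancel_nat_right A f G x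
    rw [hx, map_zero] at h1
    have h2 := h (h1.symm.trans (map_zero _).symm)
    exact (AlgebraTensorModule.cancelBaseChange R A A G K).injective (h2.trans (map_zero _).symm)

/-- If `G` is `A`-flat and `A ⊗ f` is injective then so is `G ⊗_R f`. -/
lemma lTensor_injective_of_flat {K F : Type*} [AddCommGroup K] [Module R K]
    [AddCommGroup F] [Module R F]
    (f : K →ₗ[R] F) (G : Type*) [AddCommGroup G] [Module A G] [Module R G] [IsScalarTower R A G]
    [Module.Flat A G] (h : Function.Injective (f.lTensor A)) :
    Function.Injective (f.lTensor G) := by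
  rw [← lTensor_baseChange_injective_iff A]
  apply Module.Flat.lTensor_preserves_injective_linearMap
  rw [LinearMap.baseChange_eq_ltensor]
  exact h

/-- If `A ⊗ N` is `A`-flat and `g` is an injective `A`-linear map then `g ⊗_R N` is injective. -/
lemma rTensor_injective_of_flat_baseChange {L G : Type*} [AddCommGroup L] [Module A L] [Module R L]
    [IsScalarTower R A L] [AddCommGroup G] [Module A G] [Module R G] [IsScalarTower R A G]
    (g : L →ₗ[A] G) (hg : Function.Injective g) (N : Type*) [AddCommGroup N] [Module R N]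
    [Module.Flat A (A ⊗[R] N)] :
    Function.Injective ((g.restrictScalars R).rTensor N) := by
  have h := Module.Flat.rTensor_preserves_injective_linearMap (M := A ⊗[R] N) g hg
  rw [injective_iff_map_eq_zero]
  intro x hx
  obtain ⟨x, rfl⟩ := (AlgebraTensorModule.cancelBaseChange R A A L N).surjective x
  rw [← cancel_nat_left] at hx
  have := (AlgebraTensorModule.cancelBaseChange R A A G N).injective (hx.trans (map_zero _).symm)
  rw [h (this.trans (map_zero _).symm), map_zero]

lemma lTensor_injective_of_flat_baseChange {L G : Type*} [AddCommGroup L] [Module A L] [Module R L]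
    [IsScalarTower R A L] [AddCommGroup G] [Module A G] [Module R G] [IsScalarTower R A G]
    (g : L →ₗ[A] G) (hg : Function.Injective g) (N : Type*) [AddCommGroup N] [Module R N]
    [Module.Flat A (A ⊗[R] N)] :
    Function.Injective ((g.restrictScalars R).lTensor N) := by
  rw [LinearMap.lTensor_inj_iff_rTensor_inj]
  exact rTensor_injective_of_flat_baseChange A g hg N

end bc

section main

lemma rTensor_subtype_injective {R : Type*} [CommRing R] (A : Type*) [CommRing A] [Algebra R A]
    {G : Type*} [AddCommGroup G] [Module A G] [Module R G] [IsScalarTower R A G]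
    (L : Submodule A G) (N : Type*) [AddCommGroup N] [Module R N] [Module.Flat A (A ⊗[R] N)] :
    Function.Injective ((L.subtype.restrictScalars R).rTensor N) :=
  rTensor_injective_of_flat_baseChange (R := R) (L := L) (G := G) A L.subtype
    (Submodule.injective_subtype L) N

lemma lTensor_subtype_injective {R : Type*} [CommRing R] (A : Type*) [CommRing A] [Algebra R A]
    {G : Type*} [AddCommGroup G] [Module A G] [Module R G] [IsScalarTower R A G]
    (L : Submodule A G) (N : Type*) [AddCommGroup N] [Module R N] [Module.Flat A (A ⊗[R] N)] :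
    Function.Injective ((L.subtype.restrictScalars R).lTensor N) :=
  lTensor_injective_of_flat_baseChange (R := R) (L := L) (G := G) A L.subtype
    (Submodule.injective_subtype L) N

variable {R : Type u} [CommRing R] {K F M : Type u} [AddCommGroup K] [Module R K]
  [AddCommGroup F] [Module R F] [AddCommGroup M] [Module R M]
  (f : K →ₗ[R] F) (g : F →ₗ[R] M)

/-- If `Tor₁^R(A, M) = 0` and `A ⊗ M` is `A`-flat then `Tor₁^R(N₀, M) = 0` for all `A`-modules
`N₀`. -/
lemma T1_of_module (hfg : Function.Exact f g) (hg : Function.Surjective g)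
    (A : Type u) [CommRing A] [Algebra R A] [Module.Flat A (A ⊗[R] M)]
    (hA : Function.Injective (f.lTensor A))
    (N₀ : Type u) [AddCommGroup N₀] [Module A N₀] [Module R N₀] [IsScalarTower R A N₀] :
    Function.Injective (f.lTensor N₀) := by
  obtain ⟨p, hp⟩ : ∃ p : (N₀ →₀ A) →ₗ[A] N₀, Function.Surjective p :=
    ⟨Finsupp.linearCombination A id, Finsupp.linearCombination_id_surjective A N₀⟩
  have h3 : Function.Injective (((LinearMap.ker p).subtype.restrictScalars R).rTensor M) :=
    rTensor_subtype_injective A (LinearMap.ker p) M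
  have h2 : Function.Injective (f.lTensor (N₀ →₀ A)) :=
    lTensor_injective_of_flat A f (N₀ →₀ A) hA
  have h1 : Function.Exact ((LinearMap.ker p).subtype.restrictScalars R) (p.restrictScalars R) :=
    LinearMap.exact_subtype_ker_map p
  exact T1_quot (N' := LinearMap.ker p) (N := N₀ →₀ A) (N'' := N₀) f g
    ((LinearMap.ker p).subtype.restrictScalars R) (p.restrictScalars R) hfg hg h1 hp h2 h3

lemma T1_of_pow_torsion [Module.Flat R F] (hfg : Function.Exact f g) (hg : Function.Surjective g)
    (I : Ideal R) [Module.Flat (R ⧸ I) ((R ⧸ I) ⊗[R] M)]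
    (hI : Function.Injective (f.lTensor (R ⧸ I))) :
    ∀ (n : ℕ) (N : Type u) [AddCommGroup N] [Module R N],
      (∀ x ∈ I ^ n, ∀ y : N, x • y = 0) → Function.Injective (f.lTensor N) := by
  intro n
  induction n with
  | zero =>
    intro N _ _ h
    have hs : Subsingleton N := ⟨fun a b => by
      have ha := h 1 (by simp) a
      have hb := h 1 (by simp) b
      rw [one_smul] at ha hb
      rw [ha, hb]⟩
    have : Subsingleton (N ⊗[R] K) := inferInstance
    exact Function.injective_of_subsingleton _
  | succ n ih =>
    intro N _ _ h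
    refine T1_ext f (I • (⊤ : Submodule R N)).subtype (I • (⊤ : Submodule R N)).mkQ
      (Submodule.injective_subtype _) (LinearMap.exact_subtype_mkQ _)
      (Submodule.mkQ_surjective _) (ih _ ?_) ?_
    · rintro x hx ⟨y, hy⟩
      apply Subtype.ext
      show x • y = 0
      refine Submodule.smul_induction_on (p := fun y => x • y = 0) hy ?_ ?_
      · intro a ha z _
        rw [smul_smul]
        exact h _ (by rw [pow_succ]; exact Ideal.mul_mem_mul hx ha) z
      · intro y z hy hz
        rw [smul_add, hy, hz, add_zero]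
    · have ht : Module.IsTorsionBySet R (N ⧸ (I • (⊤ : Submodule R N))) I :=
        Module.isTorsionBySet_quotient_ideal_smul N I
      letI := ht.module
      haveI : IsScalarTower R (R ⧸ I) (N ⧸ (I • (⊤ : Submodule R N))) := ht.isScalarTower
      exact T1_of_module f g hfg hg (R ⧸ I) hI (N ⧸ (I • (⊤ : Submodule R N)))

/-- Base change `A ⊗ M` is `A`-flat as soon as `Tor₁^R(N, M) = 0` for all `A`-modules `N`. -/
lemma flat_baseChange_of_T1 [Module.Flat R F] (hfg : Function.Exact f g)
    (hg : Function.Surjective g) (A : Type u) [CommRing A] [Algebra R A]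
    (h : ∀ (N : Type u) [AddCommGroup N] [Module A N] [Module R N] [IsScalarTower R A N],
      Function.Injective (f.lTensor N)) :
    Module.Flat A (A ⊗[R] M) := by
  have h1 : ∀ J : Ideal A, Function.Injective ((f.baseChange A).lTensor (A ⧸ J)) := by
    intro J
    rw [lTensor_baseChange_injective_iff A]
    exact h (A ⧸ J)
  have := Groth.Agent.Lib.McCoyH8.flat_coker (f.baseChange A) h1
  have hex : Function.Exact (f.baseChange A) (g.baseChange A) := by
    have := lTensor_exact A hfg hg
    intro y
    rw [LinearMap.baseChange_eq_ltensor, LinearMap.baseChange_eq_ltensor]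
    exact this y
  have hsurj : Function.Surjective (g.baseChange A) := by
    rw [LinearMap.baseChange_eq_ltensor]
    exact LinearMap.lTensor_surjective A hg
  exact Module.Flat.of_linearEquiv (hex.linearEquivOfSurjective hsurj).symm

end main

section thms

variable {R : Type u} [CommRing R]

/-- **Local criterion, general torsion form**: if `M/IM` is flat over `R/I` and `I ⊗ M → M` is
injective, then `Tor₁(N, M) = 0` for all `N` killed by a power of `I` (for the canonical free
presentation of `M`). -/
lemma T1_canonical (I : Ideal R) (M : Type u) [AddCommGroup M] [Module R M]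
    [Module.Flat (R ⧸ I) ((R ⧸ I) ⊗[R] M)]
    (htor : Function.Injective (I.subtype.rTensor M)) (n : ℕ) (N : Type u) [AddCommGroup N]
    [Module R N] (hN : ∀ x ∈ I ^ n, ∀ y : N, x • y = 0) :
    Function.Injective
      ((LinearMap.ker (Finsupp.linearCombination R (id : M → M))).subtype.lTensor N) :=
  T1_of_pow_torsion _ (Finsupp.linearCombination R (id : M → M))
    (LinearMap.exact_subtype_ker_map _) (Finsupp.linearCombination_id_surjective R M) I
    (T1_quot_ideal _ _ (Submodule.injective_subtype _) (LinearMap.exact_subtype_ker_map _)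
      (Finsupp.linearCombination_id_surjective R M) I htor) n N hN

/-- **Local criterion of flatness for a nilpotent ideal.** -/
theorem flat_of_nilpotent (I : Ideal R) (hI : IsNilpotent I) (M : Type u) [AddCommGroup M]
    [Module R M] [Module.Flat (R ⧸ I) ((R ⧸ I) ⊗[R] M)]
    (htor : Function.Injective (I.subtype.rTensor M)) : Module.Flat R M := by
  obtain ⟨n, hn⟩ := hI
  refine flat_of_T1 _ (Finsupp.linearCombination R (id : M → M))
    (LinearMap.exact_subtype_ker_map _) (Finsupp.linearCombination_id_surjective R M) ?_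
  intro J
  refine T1_canonical I M htor n (R ⧸ J) ?_
  intro x hx y
  rw [hn] at hx
  have : x = 0 := hx
  rw [this, zero_smul]

/-- If `M/IM` is flat over `R/I` and `I ⊗ M → M` is injective, then `M/IⁿM` is flat over `R/Iⁿ`. -/
theorem flat_quot_pow (I : Ideal R) (M : Type u) [AddCommGroup M]
    [Module R M] [Module.Flat (R ⧸ I) ((R ⧸ I) ⊗[R] M)]
    (htor : Function.Injective (I.subtype.rTensor M)) (n : ℕ) :
    Module.Flat (R ⧸ I ^ n) ((R ⧸ I ^ n) ⊗[R] M) := by
  refine flat_baseChange_of_T1 _ (Finsupp.linearCombination R (id : M → M))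
    (LinearMap.exact_subtype_ker_map _) (Finsupp.linearCombination_id_surjective R M)
    (R ⧸ I ^ n) ?_
  intro N _ _ _ _
  refine T1_canonical I M htor n N ?_
  intro x hx y
  rw [← algebraMap_smul (R ⧸ I ^ n) x y]
  have : algebraMap R (R ⧸ I ^ n) x = 0 := Ideal.Quotient.eq_zero_iff_mem.mpr hx
  rw [this, zero_smul]

end thms

section fibre

variable {R S : Type*} [CommRing R] [CommRing S] [Algebra R S] (I : Ideal R)
  (M : Type*) [AddCommGroup M] [Module S M] [Module R M] [IsScalarTower R S M]

/-- The natural additive map `I ⊗_R M → IS ⊗_S M`. -/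
noncomputable def extMap : I ⊗[R] M →+ (I.map (algebraMap R S)) ⊗[S] M :=
  TensorProduct.liftAddHom
    { toFun := fun i =>
        { toFun := fun m =>
            (⟨algebraMap R S i, Ideal.mem_map_of_mem _ i.2⟩ : I.map (algebraMap R S)) ⊗ₜ[S] m
          map_zero' := tmul_zero _ _
          map_add' := fun a b => tmul_add _ _ _ }
      map_zero' := by
        ext m
        show (⟨algebraMap R S ((0 : I) : R), _⟩ : I.map (algebraMap R S)) ⊗ₜ[S] m = 0
        have : (⟨algebraMap R S ((0 : I) : R), Ideal.mem_map_of_mem _ (0 : I).2⟩ :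
            I.map (algebraMap R S)) = 0 := Subtype.ext (by simp)
        rw [this, zero_tmul]
      map_add' := by
        intro a b
        ext m
        show (⟨algebraMap R S ((a + b : I) : R), _⟩ : I.map (algebraMap R S)) ⊗ₜ[S] m =
          (⟨algebraMap R S a, _⟩ : I.map (algebraMap R S)) ⊗ₜ[S] m +
            (⟨algebraMap R S b, _⟩ : I.map (algebraMap R S)) ⊗ₜ[S] m
        rw [← add_tmul]
        congr 1
        exact Subtype.ext (by simp) }
    (by
      intro r i m
      show (⟨algebraMap R S ((r • i : I) : R), _⟩ : I.map (algebraMap R S)) ⊗ₜ[S] m =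
          (⟨algebraMap R S i, _⟩ : I.map (algebraMap R S)) ⊗ₜ[S] (r • m)
      rw [← algebraMap_smul S r m, ← TensorProduct.smul_tmul]
      congr 1
      exact Subtype.ext (by simp [Algebra.smul_def]))

lemma extMap_tmul (i : I) (m : M) :
    extMap I M (i ⊗ₜ m) =
      (⟨algebraMap R S i, Ideal.mem_map_of_mem _ i.2⟩ : I.map (algebraMap R S)) ⊗ₜ[S] m := rfl

lemma extMap_surjective : Function.Surjective (extMap (S := S) I M) := by
  intro y
  induction y using TensorProduct.induction_on with
  | zero => exact ⟨0, map_zero _⟩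
  | add y z hy hz =>
    obtain ⟨y', rfl⟩ := hy
    obtain ⟨z', rfl⟩ := hz
    exact ⟨y' + z', map_add _ _ _⟩
  | tmul a m =>
    obtain ⟨a, ha⟩ := a
    revert m
    refine Submodule.span_induction
      (p := fun a ha => ∀ m : M, ∃ x, extMap (S := S) I M x =
        (⟨a, ha⟩ : I.map (algebraMap R S)) ⊗ₜ[S] m) ?_ ?_ ?_ ?_ ha
    · rintro _ ⟨i, hi, rfl⟩ m
      exact ⟨(⟨i, hi⟩ : I) ⊗ₜ m, rfl⟩
    · intro m
      refine ⟨0, ?_⟩
      rw [map_zero]
      exact (zero_tmul _ m).symm
    · intro a b ha hb pa pb m
      obtain ⟨xa, hxa⟩ := pa m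
      obtain ⟨xb, hxb⟩ := pb m
      refine ⟨xa + xb, ?_⟩
      rw [map_add, hxa, hxb, ← add_tmul]
      rfl
    · intro s a ha pa m
      obtain ⟨x, hx⟩ := pa (s • m)
      refine ⟨x, ?_⟩
      rw [hx, ← TensorProduct.smul_tmul]
      rfl

lemma lid_rTensor_extMap (x : I ⊗[R] M) :
    TensorProduct.lid S M ((I.map (algebraMap R S)).subtype.rTensor M (extMap I M x)) =
      TensorProduct.lid R M (I.subtype.rTensor M x) := by
  induction x using TensorProduct.induction_on with
  | zero => simp
  | tmul i m =>
    rw [extMap_tmul]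
    simp
  | add x y hx hy => simp only [map_add, hx, hy]

/-- If `M` is an `S`-module which is flat over `R`, then `IS ⊗_S M → M` is injective. -/
theorem rTensor_map_injective [Module.Flat R M] :
    Function.Injective ((I.map (algebraMap R S)).subtype.rTensor M) := by
  rw [injective_iff_map_eq_zero]
  intro y hy
  obtain ⟨x, rfl⟩ := extMap_surjective I M y
  have h1 := lid_rTensor_extMap (S := S) I M x
  rw [hy, map_zero] at h1
  have h2 : I.subtype.rTensor M x = 0 :=
    (TensorProduct.lid R M).injective (h1.symm.trans (map_zero _).symm)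
  have h3 : x = 0 :=
    Module.Flat.rTensor_preserves_injective_linearMap I.subtype I.injective_subtype
      (h2.trans (map_zero _).symm)
  rw [h3, map_zero]

lemma isNilpotent_map (hI : IsNilpotent I) : IsNilpotent (I.map (algebraMap R S)) := by
  obtain ⟨n, hn⟩ := hI
  refine ⟨n, ?_⟩
  rw [← Ideal.map_pow, hn]
  exact Ideal.map_bot

end fibre

section fibre2

/-- **Fibrewise criterion, nilpotent form.** -/
theorem flat_of_flat_of_nilpotent {R S M : Type u} [CommRing R] [CommRing S] [Algebra R S]
    (I : Ideal R) (hI : IsNilpotent I)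
    [AddCommGroup M] [Module S M] [Module R M] [IsScalarTower R S M] [Module.Flat R M]
    (h : Module.Flat (S ⧸ I.map (algebraMap R S)) ((S ⧸ I.map (algebraMap R S)) ⊗[S] M)) :
    Module.Flat S M :=
  flat_of_nilpotent (I.map (algebraMap R S)) (isNilpotent_map I hI) M (rTensor_map_injective I M)

/-- If `M` is faithfully flat over `B` and flat over `A`, then `B` is flat over `A`. -/
theorem flat_of_faithfullyFlat_of_flat {A B M : Type u} [CommRing A] [CommRing B] [Algebra A B]
    [AddCommGroup M] [Module B M] [Module A M] [IsScalarTower A B M]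
    [Module.Flat A M] [Module.FaithfullyFlat B M] : Module.Flat A B := by
  rw [Module.Flat.iff_lTensor_preserves_injective_linearMap]
  intro N P _ _ _ _ f hf
  have h1 : Function.Injective (f.lTensor M) :=
    Module.Flat.lTensor_preserves_injective_linearMap f hf
  have h2 : Function.Injective ((f.baseChange B).lTensor M) :=
    (lTensor_baseChange_injective_iff B f M).mpr h1
  have h3 : Function.Injective (f.baseChange B) :=
    (Module.FaithfullyFlat.lTensor_injective_iff_injective B M _).mp h2
  rwa [LinearMap.baseChange_eq_ltensor] at h3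

end fibre2

end Groth.Agent.Lib.LocalCrit2
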