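import Mathlib

/-!
# Adic criteria of flatness, part 1

* `flat_of_exact`: an extension of flat modules is flat.
* `flat_of_forall_flat_quot_pow`: `B` Noetherian local, `I ≠ ⊤`, `M` a finite `B`-module with all
  `M/I^(n+1)M` flat over `A`; then `M` is flat over `A`.
* `flat_of_regular_of_flat_quot`: `f ∈ 𝔪_B` regular on `M` with `M/fM` flat over `A`; then `M` is flat.
-/

namespace Groth.Agent.Lib.LocalCrit

open TensorProduct

theorem flat_of_exact {R : Type*} [CommRing R] {M' M M'' : Type*} [AddCommGroup M']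
    [AddCommGroup M] [AddCommGroup M''] [Module R M'] [Module R M] [Module R M'']
    (f : M' →ₗ[R] M) (g : M →ₗ[R] M'')
    (hf : Function.Injective f) (hfg : Function.Exact f g) (hg : Function.Surjective g)
    [Module.Flat R M'] [Module.Flat R M''] : Module.Flat R M := by
  rw [Module.Flat.iff_rTensor_injective']
  intro I
  rw [injective_iff_map_eq_zero]
  intro x hx
  have h1 : (I.subtype.rTensor M'') ((g.lTensor I) x) = 0 := by
    rw [← LinearMap.comp_apply, LinearMap.rTensor_comp_lTensor, ← LinearMap.lTensor_comp_rTensor,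
      LinearMap.comp_apply, hx, map_zero]
  have h2 : (g.lTensor I) x = 0 :=
    (Module.Flat.iff_rTensor_injective'.mp ‹Module.Flat R M''› I) (by rw [h1, map_zero])
  obtain ⟨y, rfl⟩ := (lTensor_exact I hfg hg x).mp h2
  have h3 : (f.lTensor R) ((I.subtype.rTensor M') y) = 0 := by
    rw [← LinearMap.comp_apply, LinearMap.lTensor_comp_rTensor, ← LinearMap.rTensor_comp_lTensor,
      LinearMap.comp_apply]
    exact hx
  have h4 : (I.subtype.rTensor M') y = 0 :=
    (Module.Flat.lTensor_preserves_injective_linearMap (M := R) f hf) (by rw [h3, map_zero])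
  have h5 : y = 0 :=
    (Module.Flat.iff_rTensor_injective'.mp ‹Module.Flat R M'› I) (by rw [h4, map_zero])
  rw [h5, map_zero]

instance finite_tensor {A B M N : Type*} [CommRing A] [CommRing B] [Algebra A B]
    [AddCommGroup M] [Module B M] [Module A M] [IsScalarTower A B M]
    [AddCommGroup N] [Module A N] [Module.Finite B M] [Module.Finite A N] :
    Module.Finite B (M ⊗[A] N) :=
  Module.Finite.equiv (TensorProduct.AlgebraTensorModule.cancelBaseChange A B B M N)

theorem flat_of_forall_flat_quot_pow {A B : Type*} [CommRing A] [CommRing B]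
    [IsNoetherianRing B] [IsLocalRing B] [Algebra A B]
    (I : Ideal B) (hI : I ≠ ⊤) (M : Type*) [AddCommGroup M]
    [Module B M] [Module A M] [IsScalarTower A B M] [Module.Finite B M]
    (h : ∀ n : ℕ, Module.Flat A (M ⧸ (I ^ (n + 1) • (⊤ : Submodule B M)))) :
    Module.Flat A M := by
  rw [Module.Flat.iff_lTensor_injective]
  intro 𝔞 h𝔞
  haveI : Module.Finite A 𝔞 := Module.Finite.of_fg h𝔞
  have hkrull : (⨅ i : ℕ, I ^ i • ⊤ : Submodule B (M ⊗[A] 𝔞)) = ⊥ :=
    Ideal.iInf_pow_smul_eq_bot_of_isLocalRing I hI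
  rw [injective_iff_map_eq_zero]
  intro x hx
  have hmem : x ∈ (⨅ i : ℕ, I ^ i • ⊤ : Submodule B (M ⊗[A] 𝔞)) := by
    rw [Submodule.mem_iInf]
    intro i
    rcases i with _ | n
    · rw [pow_zero, Ideal.one_eq_top, Submodule.top_smul]; trivial
    · set P : Submodule B M := I ^ (n + 1) • (⊤ : Submodule B M) with hP
      haveI := h n
      let q : M →ₗ[A] (M ⧸ P) := P.mkQ.restrictScalars A
      have hq : Function.Surjective q := P.mkQ_surjective
      have hex : Function.Exact (P.restrictScalars A).subtype q := by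
        intro m
        constructor
        · intro hm
          exact ⟨⟨m, (Submodule.Quotient.mk_eq_zero P).mp hm⟩, rfl⟩
        · rintro ⟨p, rfl⟩
          exact (Submodule.Quotient.mk_eq_zero P).mpr p.2
      have h1 : (𝔞.subtype.lTensor (M ⧸ P)) ((q.rTensor 𝔞) x) = 0 := by
        rw [← LinearMap.comp_apply, LinearMap.lTensor_comp_rTensor,
          ← LinearMap.rTensor_comp_lTensor, LinearMap.comp_apply, hx, map_zero]
      have h2 : (q.rTensor 𝔞) x = 0 :=
        (Module.Flat.iff_lTensor_injective'.mp ‹_› 𝔞) (by rw [h1, map_zero])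
      obtain ⟨y, rfl⟩ := (rTensor_exact 𝔞 hex hq x).mp h2
      clear h2 h1 hx
      induction y using TensorProduct.induction_on with
      | zero => simp
      | tmul p a =>
        rw [LinearMap.rTensor_tmul]
        obtain ⟨p, hp⟩ := p
        show (p ⊗ₜ[A] a : M ⊗[A] 𝔞) ∈ _
        have hp' : p ∈ I ^ (n + 1) • (⊤ : Submodule B M) := hp
        refine Submodule.smul_induction_on
          (p := fun p => (p ⊗ₜ[A] a : M ⊗[A] 𝔞) ∈ I ^ (n + 1) • (⊤ : Submodule B (M ⊗[A] 𝔞)))
          hp' ?_ ?_
        · intro r hr m _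
          rw [← TensorProduct.smul_tmul']
          exact Submodule.smul_mem_smul hr Submodule.mem_top
        · intro u w hu hw
          rw [TensorProduct.add_tmul]; exact add_mem hu hw
      | add u w hu hw => rw [map_add]; exact add_mem hu hw
  rw [hkrull] at hmem
  exact hmem

theorem flat_of_forall_flat_quot_span_pow {A B : Type*} [CommRing A] [CommRing B]
    [IsNoetherianRing B] [IsLocalRing B] [Algebra A B]
    (M : Type*) [AddCommGroup M] [Module B M] [Module A M]
    [IsScalarTower A B M] [Module.Finite B M] (f : B) (hf : f ∈ IsLocalRing.maximalIdeal B)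
    (hflat : ∀ n : ℕ, Module.Flat A (M ⧸ (Ideal.span {f ^ (n + 1)} • (⊤ : Submodule B M)))) :
    Module.Flat A M := by
  have hI : Ideal.span {f} ≠ ⊤ := by
    intro htop
    have : Ideal.span {f} ≤ IsLocalRing.maximalIdeal B :=
      (Ideal.span_singleton_le_iff_mem _).mpr hf
    rw [htop] at this
    exact (IsLocalRing.maximalIdeal.isMaximal B).ne_top (top_le_iff.mp this)
  refine flat_of_forall_flat_quot_pow (Ideal.span {f}) hI M fun n => ?_
  rw [Ideal.span_singleton_pow]
  exact hflat n

theorem flat_of_regular_of_flat_quot {A B : Type*} [CommRing A] [CommRing B]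
    [IsNoetherianRing B] [IsLocalRing B] [Algebra A B] (f : B)
    (hf : f ∈ IsLocalRing.maximalIdeal B) (M : Type*) [AddCommGroup M] [Module B M] [Module A M]
    [IsScalarTower A B M] [Module.Finite B M] (hreg : IsSMulRegular M f)
    (hflat : Module.Flat A (M ⧸ (Ideal.span {f} • (⊤ : Submodule B M)))) :
    Module.Flat A M := by
  have hmemP : ∀ (k : ℕ) (m : M), m ∈ Ideal.span {f ^ k} • (⊤ : Submodule B M) ↔
      ∃ m', f ^ k • m' = m := by
    intro k m
    rw [Submodule.ideal_span_singleton_smul, Submodule.mem_smul_pointwise_iff_exists]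
    simp
  refine flat_of_forall_flat_quot_span_pow M f hf fun n => ?_
  induction n with
  | zero => rw [zero_add, pow_one]; exact hflat
  | succ n ih =>
    haveI := ih
    haveI := hflat
    -- the maps
    have hle : Ideal.span {f ^ (n + 1 + 1)} • (⊤ : Submodule B M) ≤
        Ideal.span {f ^ (n + 1)} • (⊤ : Submodule B M) := by
      intro m hm
      obtain ⟨m', rfl⟩ := (hmemP _ m).mp hm
      exact (hmemP _ _).mpr ⟨f • m', by rw [← mul_smul, ← pow_succ]⟩
    let g : (M ⧸ Ideal.span {f ^ (n + 1 + 1)} • (⊤ : Submodule B M)) →ₗ[B]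
        (M ⧸ Ideal.span {f ^ (n + 1)} • (⊤ : Submodule B M)) :=
      Submodule.mapQ _ _ LinearMap.id hle
    have hφle : Ideal.span {f} • (⊤ : Submodule B M) ≤
        Submodule.comap ((f ^ (n + 1)) • (LinearMap.id : M →ₗ[B] M))
          (Ideal.span {f ^ (n + 1 + 1)} • (⊤ : Submodule B M)) := by
      intro m hm
      rw [← pow_one f] at hm
      obtain ⟨m', rfl⟩ := (hmemP 1 m).mp hm
      rw [Submodule.mem_comap]
      refine (hmemP _ _).mpr ⟨m', ?_⟩
      simp only [LinearMap.smul_apply, LinearMap.id_coe, id_eq, pow_one]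
      rw [pow_succ, mul_smul]
    let φ : (M ⧸ Ideal.span {f} • (⊤ : Submodule B M)) →ₗ[B]
        (M ⧸ Ideal.span {f ^ (n + 1 + 1)} • (⊤ : Submodule B M)) :=
      Submodule.mapQ _ _ ((f ^ (n + 1)) • (LinearMap.id : M →ₗ[B] M)) hφle
    have hφ_mk : ∀ m : M, φ (Submodule.Quotient.mk m) = Submodule.Quotient.mk (f ^ (n + 1) • m) :=
      fun m => rfl
    have hg_mk : ∀ m : M, g (Submodule.Quotient.mk m) = Submodule.Quotient.mk m := fun m => rfl
    have hφinj : Function.Injective (φ.restrictScalars A) := by
      show Function.Injective φ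
      rw [injective_iff_map_eq_zero]
      intro x hx
      obtain ⟨m, rfl⟩ := Submodule.Quotient.mk_surjective _ x
      rw [hφ_mk, Submodule.Quotient.mk_eq_zero] at hx
      obtain ⟨m', hm'⟩ := (hmemP _ _).mp hx
      rw [Submodule.Quotient.mk_eq_zero, ← pow_one f]
      refine (hmemP 1 m).mpr ⟨m', ?_⟩
      have hreg' : IsSMulRegular M (f ^ (n + 1)) := hreg.pow (n + 1)
      apply hreg'
      show f ^ (n + 1) • (f ^ 1 • m') = f ^ (n + 1) • m
      rw [← hm', pow_one, ← mul_smul, ← pow_succ]
    have hgsurj : Function.Surjective (g.restrictScalars A) := by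
      show Function.Surjective g
      intro x
      obtain ⟨m, rfl⟩ := Submodule.Quotient.mk_surjective _ x
      exact ⟨Submodule.Quotient.mk m, rfl⟩
    have hex : Function.Exact (φ.restrictScalars A) (g.restrictScalars A) := by
      intro x
      obtain ⟨m, rfl⟩ := Submodule.Quotient.mk_surjective _ x
      show g (Submodule.Quotient.mk m) = 0 ↔ Submodule.Quotient.mk m ∈ Set.range φ
      rw [hg_mk, Submodule.Quotient.mk_eq_zero]
      constructor
      · intro hm
        obtain ⟨m', rfl⟩ := (hmemP _ _).mp hm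
        exact ⟨Submodule.Quotient.mk m', hφ_mk m'⟩
      · rintro ⟨y, hy⟩
        obtain ⟨m', rfl⟩ := Submodule.Quotient.mk_surjective _ y
        rw [hφ_mk] at hy
        have := (Submodule.Quotient.eq _).mp hy
        obtain ⟨m'', hm''⟩ := (hmemP _ _).mp this
        refine (hmemP _ _).mpr ⟨m' - f • m'', ?_⟩
        rw [smul_sub, ← mul_smul, ← pow_succ, hm'']
        abel
    exact flat_of_exact (φ.restrictScalars A) (g.restrictScalars A) hφinj hex hgsurj

end Groth.Agent.Lib.LocalCrit
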