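import Mathlib
import Groth.Agent.Lib.LocalCrit_helper9
import Groth.Agent.Lib.LocalCrit2_helper9

/-!
# The local criterion of flatness: Noetherian, idealwise separated case
-/

namespace Groth.Agent.Lib.LocalCrit3

open TensorProduct Groth.Agent.Lib.LocalCrit Groth.Agent.Lib.LocalCrit2

universe u

section aux

variable {R S : Type*} [CommRing R] [CommRing S] [Algebra R S] (I J : Ideal R) (n : ℕ)
  (M : Type*) [AddCommGroup M] [Module S M] [Module R M] [IsScalarTower R S M]

lemma tmul_mem_of_mem_mul (m : M) (j : R) (hj : j ∈ I ^ n * J) (hjJ : j ∈ J) :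
    (m ⊗ₜ[R] (⟨j, hjJ⟩ : J) : M ⊗[R] J) ∈
      ((I.map (algebraMap R S)) ^ n • ⊤ : Submodule S (M ⊗[R] J)) := by
  revert hjJ
  refine Submodule.mul_induction_on'
    (C := fun r _ => ∀ hjJ : r ∈ J, (m ⊗ₜ[R] (⟨r, hjJ⟩ : J) : M ⊗[R] J) ∈
      ((I.map (algebraMap R S)) ^ n • ⊤ : Submodule S (M ⊗[R] J))) ?_ ?_ hj
  · intro a ha b hb hab
    have h1 : (⟨a * b, hab⟩ : J) = a • (⟨b, hb⟩ : J) := Subtype.ext (by simp [smul_eq_mul])
    have h2 : (m ⊗ₜ[R] (a • (⟨b, hb⟩ : J)) : M ⊗[R] J) =
        (algebraMap R S a) • (m ⊗ₜ[R] (⟨b, hb⟩ : J) : M ⊗[R] J) := by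
      rw [TensorProduct.smul_tmul', algebraMap_smul, TensorProduct.smul_tmul]
    rw [h1, h2]
    refine Submodule.smul_mem_smul ?_ Submodule.mem_top
    rw [← Ideal.map_pow]
    exact Ideal.mem_map_of_mem _ ha
  · intro x hx y hy cx cy hxy
    have hxJ : x ∈ J := Ideal.mul_le_right hx
    have hyJ : y ∈ J := Ideal.mul_le_right hy
    have : (⟨x + y, hxy⟩ : J) = ⟨x, hxJ⟩ + ⟨y, hyJ⟩ := rfl
    rw [this, TensorProduct.tmul_add]
    exact add_mem (cx hxJ) (cy hyJ)

end aux

/-- **Local criterion of flatness** (Noetherian case): if `R → S` is a map of Noetherian rings, `I`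
an ideal of `R` with `IS` in the Jacobson radical of `S`, `M` a finite `S`-module such that
`M/IⁿM` is flat over `R/Iⁿ` for all `n ≥ 1`, then `M` is flat over `R`. -/
theorem flat_of_forall_flat_quot_pow {R S : Type u} [CommRing R] [CommRing S] [IsNoetherianRing R]
    [IsNoetherianRing S] [Algebra R S] (I : Ideal R)
    (hI : I.map (algebraMap R S) ≤ Ideal.jacobson ⊥)
    (M : Type u) [AddCommGroup M] [Module S M] [Module R M] [IsScalarTower R S M]
    [Module.Finite S M]
    (h : ∀ n : ℕ, Module.Flat (R ⧸ I ^ (n + 1)) ((R ⧸ I ^ (n + 1)) ⊗[R] M)) :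
    Module.Flat R M := by
  rw [Module.Flat.iff_lTensor_injective]
  intro J hJ
  haveI : Module.Finite R J := Module.Finite.of_fg hJ
  have hkrull : (⨅ i : ℕ, (I.map (algebraMap R S)) ^ i • ⊤ : Submodule S (M ⊗[R] J)) = ⊥ :=
    Ideal.iInf_pow_smul_eq_bot_of_le_jacobson _ hI
  rw [injective_iff_map_eq_zero]
  intro x hx
  have hmem : x ∈ (⨅ i : ℕ, (I.map (algebraMap R S)) ^ i • ⊤ : Submodule S (M ⊗[R] J)) := by
    rw [Submodule.mem_iInf]
    intro n
    obtain ⟨k, hk⟩ := Ideal.exists_pow_inf_eq_pow_smul I (J : Submodule R R)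
    have hAR : I ^ (n + k) ⊓ J ≤ I ^ n * J := by
      have := hk (n + k) (Nat.le_add_left k n)
      rw [Nat.add_sub_cancel] at this
      calc I ^ (n + k) ⊓ J = I ^ (n + k) • ⊤ ⊓ J := by rw [smul_eq_mul, Ideal.mul_top]
        _ = I ^ n • (I ^ k • ⊤ ⊓ J) := this
        _ ≤ I ^ n • J := Submodule.smul_mono le_rfl inf_le_right
    rcases Nat.eq_zero_or_pos (n + k) with h0 | hpos
    · have : n = 0 := by omega
      subst this
      rw [pow_zero, Ideal.one_eq_top, Submodule.top_smul]; trivial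
    obtain ⟨m, hm⟩ : ∃ m, n + k = m + 1 := ⟨n + k - 1, by omega⟩
    rw [hm] at hAR
    haveI := h m
    obtain ⟨Q, hQ⟩ : ∃ Q : Ideal (R ⧸ I ^ (m + 1)),
        Q = J.map (Ideal.Quotient.mk (I ^ (m + 1))) := ⟨_, rfl⟩
    let q' : J →ₗ[R] Q :=
      { toFun := fun j => ⟨Ideal.Quotient.mk _ (j : R), by
          rw [hQ]; exact Ideal.mem_map_of_mem _ j.2⟩
        map_add' := fun a b => Subtype.ext (by simp)
        map_smul' := fun r a => Subtype.ext (by simp [Algebra.smul_def]) }
    have hq'surj : Function.Surjective q' := by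
      rintro ⟨y, hy⟩
      rw [hQ, Ideal.mem_map_iff_of_surjective _ Ideal.Quotient.mk_surjective] at hy
      obtain ⟨j, hj, rfl⟩ := hy
      exact ⟨⟨j, hj⟩, rfl⟩
    have hex := lTensor_exact M (LinearMap.exact_subtype_ker_map q') hq'surj
    have hinj : Function.Injective ((Q.subtype.restrictScalars R).lTensor M) :=
      lTensor_subtype_injective (R ⧸ I ^ (m + 1)) Q M
    have hcomp : (Q.subtype.restrictScalars R) ∘ₗ q' =
        (Algebra.linearMap R (R ⧸ I ^ (m + 1))) ∘ₗ J.subtype := LinearMap.ext fun j => rfl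
    have h1 : (Q.subtype.restrictScalars R).lTensor M (q'.lTensor M x) = 0 := by
      rw [← LinearMap.comp_apply, ← LinearMap.lTensor_comp, hcomp, LinearMap.lTensor_comp,
        LinearMap.comp_apply, hx, map_zero]
    have h2 : q'.lTensor M x = 0 := hinj (h1.trans (map_zero _).symm)
    obtain ⟨y, rfl⟩ := (hex x).mp h2
    clear h2 h1 hx
    induction y using TensorProduct.induction_on with
    | zero => simp
    | tmul mm j' =>
      rw [LinearMap.lTensor_tmul]
      obtain ⟨⟨j, hjJ⟩, hj'⟩ := j'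
      have hjI : j ∈ I ^ (m + 1) := by
        have : q' ⟨j, hjJ⟩ = 0 := hj'
        have := congrArg Subtype.val this
        exact Ideal.Quotient.eq_zero_iff_mem.mp this
      exact tmul_mem_of_mem_mul I J n M mm j (hAR ⟨hjI, hjJ⟩) hjJ
    | add u w hu hw => rw [map_add]; exact add_mem hu hw
  rw [hkrull] at hmem
  exact hmem

/-- **Local criterion of flatness**, Tor form. -/
theorem flat_of_tor_of_flat_quot {R S : Type u} [CommRing R] [CommRing S] [IsNoetherianRing R]
    [IsNoetherianRing S] [Algebra R S] (I : Ideal R)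
    (hI : I.map (algebraMap R S) ≤ Ideal.jacobson ⊥)
    (M : Type u) [AddCommGroup M] [Module S M] [Module R M] [IsScalarTower R S M]
    [Module.Finite S M] [Module.Flat (R ⧸ I) ((R ⧸ I) ⊗[R] M)]
    (htor : Function.Injective (I.subtype.rTensor M)) :
    Module.Flat R M :=
  flat_of_forall_flat_quot_pow I hI M (fun n => flat_quot_pow I M htor (n + 1))

end Groth.Agent.Lib.LocalCrit3
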