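import Mathlib
import Groth.Agent.Lib.LocalCrit2_helper9
import Groth.Agent.Lib.LocalCrit3_helper9

/-! Flatness from a regular sequence of the base (EGA 0_IV 15.1.21-type statement). -/

namespace Groth.Agent.Lib.RegFlat3

open IsLocalRing RingTheory.Sequence Submodule TensorProduct Groth.Agent.Lib.LocalCrit2
open scoped Pointwise

section chase

variable {R : Type*} [CommRing R] {K F M : Type*} [AddCommGroup K] [Module R K]
  [AddCommGroup F] [Module R F] [AddCommGroup M] [Module R M]
  (f : K →ₗ[R] F) (g : F →ₗ[R] M)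

/-- `Tor₁(R/J, M) = 0` implies `J ⊗ M → M` injective. -/
lemma rTensor_injective_of_T1 [Module.Flat R F] (hfg : Function.Exact f g)
    (hg : Function.Surjective g) (J : Ideal R)
    (h : Function.Injective (f.lTensor (R ⧸ J))) : Function.Injective (J.subtype.rTensor M) := by
  rw [injective_iff_map_eq_zero]
  intro z hz
  obtain ⟨y, rfl⟩ := LinearMap.lTensor_surjective J hg z
  have h1 : g.lTensor R (J.subtype.rTensor F y) = 0 := by rw [← LocalCrit2.sq, hz]
  obtain ⟨k, hk⟩ := (lTensor_exact R hfg hg _).mp h1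
  have h2 : f.lTensor (R ⧸ J) (J.mkQ.rTensor K k) = 0 := by
    rw [← LocalCrit2.sq, hk]
    exact (rTensor_exact F (LinearMap.exact_subtype_mkQ J)
      (Submodule.mkQ_surjective J)).apply_apply_eq_zero y
  have h3 : J.mkQ.rTensor K k = 0 := h (h2.trans (map_zero _).symm)
  obtain ⟨w, rfl⟩ := (rTensor_exact K (LinearMap.exact_subtype_mkQ J)
    (Submodule.mkQ_surjective J) k).mp h3
  have h4 : f.lTensor J w = y := by
    apply Module.Flat.rTensor_preserves_injective_linearMap (M := F) J.subtype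
      Subtype.val_injective
    rw [LocalCrit2.sq, hk]
  rw [← h4]
  exact (lTensor_exact J hfg hg).apply_apply_eq_zero w

end chase

section induct

variable {A : Type*} [CommRing A] {K F M : Type*} [AddCommGroup K] [Module A K]
  [AddCommGroup F] [Module A F] [AddCommGroup M] [Module A M]
  (f : K →ₗ[A] F) (g : F →ₗ[A] M)

/-- `(M/J₀M)/r(M/J₀M) ≅ M/(J₀ + (r))M`. -/
noncomputable def quotSupEquiv (M : Type*) [AddCommGroup M] [Module A M] (J₀ : Ideal A) (r : A) :
    QuotSMulTop r (M ⧸ (J₀ • ⊤ : Submodule A M)) ≃ₗ[A]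
      M ⧸ ((J₀ ⊔ Ideal.span {r}) • ⊤ : Submodule A M) :=
  (quotEquivOfEq _ _ (by rw [map_pointwise_smul, Submodule.map_top, range_mkQ])).symm ≪≫ₗ
    quotientQuotientEquivQuotientSup (J₀ • ⊤ : Submodule A M) (r • ⊤) ≪≫ₗ
    quotEquivOfEq _ _ (by rw [Submodule.sup_smul, Submodule.ideal_span_singleton_smul])

lemma exact_lsmul_mapQ (J₀ : Ideal A) (r : A) :
    Function.Exact (LinearMap.lsmul A (A ⧸ J₀) r)
      (Submodule.mapQ J₀ (J₀ ⊔ Ideal.span {r}) LinearMap.id (by
        rw [Submodule.comap_id]; exact le_sup_left)) := by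
  intro y
  obtain ⟨a, rfl⟩ := Submodule.Quotient.mk_surjective _ y
  rw [Submodule.mapQ_apply, LinearMap.id_apply, Submodule.Quotient.mk_eq_zero]
  constructor
  · intro h
    obtain ⟨j, hj, c, hc, rfl⟩ := Submodule.mem_sup.mp h
    obtain ⟨c, rfl⟩ := Ideal.mem_span_singleton'.mp hc
    refine ⟨Submodule.Quotient.mk c, ?_⟩
    rw [LinearMap.lsmul_apply, ← Submodule.Quotient.mk_smul, eq_comm, ← sub_eq_zero,
      ← Submodule.Quotient.mk_sub, Submodule.Quotient.mk_eq_zero, smul_eq_mul, mul_comm]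
    simpa using hj
  · rintro ⟨c, hc⟩
    obtain ⟨c, rfl⟩ := Submodule.Quotient.mk_surjective _ c
    rw [LinearMap.lsmul_apply, ← Submodule.Quotient.mk_smul, Submodule.Quotient.eq] at hc
    have : a = r * c - (r • c - a) := by rw [smul_eq_mul]; ring
    rw [this]
    exact Submodule.sub_mem _ (Submodule.mem_sup_right (Ideal.mul_mem_right _ _
      (Ideal.subset_span rfl))) (Submodule.mem_sup_left hc)

lemma rTensor_lsmul_injective (M : Type*) [AddCommGroup M] [Module A M] (J₀ : Ideal A) (r : A)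
    (hr : IsSMulRegular (M ⧸ (J₀ • ⊤ : Submodule A M)) r) :
    Function.Injective ((LinearMap.lsmul A (A ⧸ J₀) r).rTensor M) := by
  have h1 : (LinearMap.lsmul A (A ⧸ J₀) r).rTensor M = LinearMap.lsmul A _ r := by
    apply TensorProduct.ext'
    intro a m
    rw [LinearMap.rTensor_tmul, LinearMap.lsmul_apply, LinearMap.lsmul_apply,
      TensorProduct.smul_tmul']
  rw [h1, injective_iff_map_eq_zero]
  intro z hz
  rw [LinearMap.lsmul_apply] at hz
  have h2 := congrArg (quotTensorEquivQuotSMul M J₀) hz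
  rw [map_smul, map_zero] at h2
  have h3 := (isSMulRegular_iff_right_eq_zero_of_smul.mp hr) _ h2
  exact (quotTensorEquivQuotSMul M J₀).map_eq_zero_iff.mp h3

theorem T1_of_isWeaklyRegular [Module.Flat A F] (hfg : Function.Exact f g)
    (hg : Function.Surjective g) (fs : List A) : ∀ (J₀ : Ideal A),
    Function.Injective (f.lTensor (A ⧸ J₀)) →
    IsWeaklyRegular (M ⧸ (J₀ • ⊤ : Submodule A M)) fs →
    Function.Injective (f.lTensor (A ⧸ (J₀ ⊔ Ideal.ofList fs))) := by
  induction fs with
  | nil =>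
    intro J₀ h0 _
    rw [Ideal.ofList_nil, sup_bot_eq]
    exact h0
  | cons r rs ih =>
    intro J₀ h0 hreg
    rw [isWeaklyRegular_cons_iff] at hreg
    obtain ⟨hr, hrs⟩ := hreg
    have h1 : Function.Injective (f.lTensor (A ⧸ (J₀ ⊔ Ideal.span {r}))) :=
      T1_quot f g (LinearMap.lsmul A (A ⧸ J₀) r) _ hfg hg (exact_lsmul_mapQ J₀ r)
        (by
          intro y
          obtain ⟨a, rfl⟩ := Submodule.Quotient.mk_surjective _ y
          exact ⟨Submodule.Quotient.mk a, rfl⟩) h0 (rTensor_lsmul_injective M J₀ r hr)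
    have h2 := ih (J₀ ⊔ Ideal.span {r}) h1
      (((quotSupEquiv M J₀ r).isWeaklyRegular_congr rs).mp hrs)
    rwa [sup_assoc, ← Ideal.ofList_cons] at h2

end induct

section main

universe u

variable {A : Type u} [CommRing A] (M : Type u) [AddCommGroup M] [Module A M]

/-- the `A/J`-linear identification `(A/J) ⊗ M ≅ M/JM`. -/
noncomputable def quotTensorEquiv' (J : Ideal A) :
    ((A ⧸ J) ⊗[A] M) ≃ₗ[A ⧸ J] (M ⧸ (J • ⊤ : Submodule A M)) :=
  LinearEquiv.extendScalarsOfSurjective (Ideal.Quotient.mk_surjective (I := J))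
    (quotTensorEquivQuotSMul M J)

theorem flat_of_regular {B : Type u} [CommRing B] [IsLocalRing A] [IsLocalRing B]
    [IsNoetherianRing A] [IsNoetherianRing B] [Algebra A B] [IsLocalHom (algebraMap A B)]
    [Module B M] [IsScalarTower A B M] [Module.Finite B M] (fs : List A) (hfs : ∀ f ∈ fs, f ∈ maximalIdeal A)
    (hflat : Module.Flat (A ⧸ Ideal.ofList fs) (M ⧸ (Ideal.ofList fs • (⊤ : Submodule A M))))
    (hreg : IsWeaklyRegular M fs) : Module.Flat A M := by
  have hle : (Ideal.ofList fs).map (algebraMap A B) ≤ Ideal.jacobson ⊥ := by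
    rw [IsLocalRing.jacobson_eq_maximalIdeal ⊥ bot_ne_top]
    refine le_trans (Ideal.map_mono ?_)
      (((IsLocalRing.local_hom_TFAE (algebraMap A B)).out 0 2).mp ‹_›)
    unfold Ideal.ofList
    rw [Ideal.span_le]
    exact fun x hx => hfs x hx
  haveI : Module.Flat (A ⧸ Ideal.ofList fs) ((A ⧸ Ideal.ofList fs) ⊗[A] M) :=
    Module.Flat.of_linearEquiv (quotTensorEquiv' M (Ideal.ofList fs))
  refine Groth.Agent.Lib.LocalCrit3.flat_of_tor_of_flat_quot (S := B) (Ideal.ofList fs) hle M ?_
  -- the canonical presentation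
  refine rTensor_injective_of_T1 _ (Finsupp.linearCombination A (id : M → M))
    (LinearMap.exact_subtype_ker_map _) (Finsupp.linearCombination_id_surjective A M) _ ?_
  have h0 : Function.Injective
      ((LinearMap.ker (Finsupp.linearCombination A (id : M → M))).subtype.lTensor
        (A ⧸ (⊥ : Ideal A))) := by
    haveI : Module.Flat A (A ⧸ (⊥ : Ideal A)) :=
      Module.Flat.of_linearEquiv (Submodule.quotEquivOfEqBot (⊥ : Ideal A) rfl)
    exact Module.Flat.lTensor_preserves_injective_linearMap _ (Submodule.injective_subtype _)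
  have hreg' : IsWeaklyRegular (M ⧸ ((⊥ : Ideal A) • ⊤ : Submodule A M)) fs :=
    ((quotEquivOfEqBot _ (Submodule.bot_smul _)).isWeaklyRegular_congr fs).mpr hreg
  have := T1_of_isWeaklyRegular _ (Finsupp.linearCombination A (id : M → M))
    (LinearMap.exact_subtype_ker_map _) (Finsupp.linearCombination_id_surjective A M) fs ⊥ h0 hreg'
  rwa [bot_sup_eq] at this

theorem flat_quot_and_regular [Module.Flat A M] (fs : List A) (hA : IsWeaklyRegular A fs) :
    Module.Flat (A ⧸ Ideal.ofList fs) (M ⧸ (Ideal.ofList fs • (⊤ : Submodule A M))) ∧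
      IsWeaklyRegular M fs :=
  ⟨Module.Flat.of_linearEquiv (quotTensorEquiv' M (Ideal.ofList fs)).symm,
    ((TensorProduct.rid A M).isWeaklyRegular_congr fs).mp (hA.isWeaklyRegular_lTensor (M₂ := M))⟩

end main

end Groth.Agent.Lib.RegFlat3
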