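import Mathlib
import Groth.Agent.Lib.LocalCrit2_helper9

/-!
# Bridge between `CategoryTheory.Tor _ 1` on `ModuleCat` and elementary tensor injectivity (helper9)

Main result: `isZero_tor_one_iff`: for a presentation `0 → K → F → Y → 0` with `F` flat,
`Tor₁(X, Y) = 0` iff `X ⊗ K → X ⊗ F` is injective.
-/

set_option autoImplicit false
universe u

open CategoryTheory CategoryTheory.Limits MonoidalCategory TensorProduct

namespace Groth.Agent.Lib.TorBridge

section elementary

variable {R : Type*} [CommRing R]

lemma rTensor_injective_iff_lTensor_injective {K F : Type*} [AddCommGroup K] [Module R K]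
    [AddCommGroup F] [Module R F] (f : K →ₗ[R] F) (X : Type*) [AddCommGroup X] [Module R X] :
    Function.Injective (f.rTensor X) ↔ Function.Injective (f.lTensor X) := by
  have h : f.lTensor X = (TensorProduct.comm R F X).toLinearMap ∘ₗ f.rTensor X ∘ₗ
      (TensorProduct.comm R X K).toLinearMap := TensorProduct.ext' (fun _ _ => rfl)
  rw [h, LinearMap.coe_comp, LinearMap.coe_comp, LinearEquiv.coe_coe, LinearEquiv.coe_coe,
    EquivLike.comp_injective, EquivLike.injective_comp]

/-- Symmetry of `Tor₁`: for flat presentations of `Y` and of `X`. -/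
theorem lTensor_injective_iff_rTensor_injective {K F Y X' G X : Type*}
    [AddCommGroup K] [Module R K] [AddCommGroup F] [Module R F] [AddCommGroup Y] [Module R Y]
    [AddCommGroup X'] [Module R X'] [AddCommGroup G] [Module R G] [AddCommGroup X] [Module R X]
    (f : K →ₗ[R] F) (g : F →ₗ[R] Y) [Module.Flat R F] (hf : Function.Injective f)
    (hfg : Function.Exact f g) (hg : Function.Surjective g)
    (i : X' →ₗ[R] G) (p : G →ₗ[R] X) [Module.Flat R G] (hi : Function.Injective i)
    (hip : Function.Exact i p) (hp : Function.Surjective p) :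
    Function.Injective (f.lTensor X) ↔ Function.Injective (i.rTensor Y) := by
  constructor
  · intro h
    rw [rTensor_injective_iff_lTensor_injective]
    exact Groth.Agent.Lib.LocalCrit2.T1_quot i p f g hip hp hfg hg
      (Module.Flat.lTensor_preserves_injective_linearMap i hi)
      ((rTensor_injective_iff_lTensor_injective f X).mpr h)
  · intro h
    exact Groth.Agent.Lib.LocalCrit2.T1_quot f g i p hfg hg hip hp
      (Module.Flat.lTensor_preserves_injective_linearMap f hf) h

/-- Independence of the flat presentation of `Y`. -/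
theorem lTensor_injective_indep {K F Y K' F' : Type*} {X : Type u} {R : Type u} [CommRing R]
    [AddCommGroup K] [Module R K] [AddCommGroup F] [Module R F] [AddCommGroup Y] [Module R Y]
    [AddCommGroup K'] [Module R K'] [AddCommGroup F'] [Module R F'] [AddCommGroup X] [Module R X]
    (f : K →ₗ[R] F) (g : F →ₗ[R] Y) [Module.Flat R F] (hf : Function.Injective f)
    (hfg : Function.Exact f g) (hg : Function.Surjective g)
    (f' : K' →ₗ[R] F') (g' : F' →ₗ[R] Y) [Module.Flat R F'] (hf' : Function.Injective f')
    (hfg' : Function.Exact f' g') (hg' : Function.Surjective g') :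
    Function.Injective (f.lTensor X) ↔ Function.Injective (f'.lTensor X) := by
  let p : (X →₀ R) →ₗ[R] X := Finsupp.linearCombination R id
  have hp : Function.Surjective p := Finsupp.linearCombination_id_surjective R X
  have h1 := lTensor_injective_iff_rTensor_injective (X' := LinearMap.ker p) f g hf hfg hg
    (LinearMap.ker p).subtype p
    (Submodule.injective_subtype _) (LinearMap.exact_subtype_ker_map p) hp
  have h2 := lTensor_injective_iff_rTensor_injective (X' := LinearMap.ker p) f' g' hf' hfg' hg'
    (LinearMap.ker p).subtype p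
    (Submodule.injective_subtype _) (LinearMap.exact_subtype_ker_map p) hp
  rw [h1, h2]

/-- For an exact `P₂ → P₁ → P₀ → Y → 0`, exactness of `X ⊗ P₂ → X ⊗ P₁ → X ⊗ P₀` is the
injectivity of `X ⊗ ker(P₀ → Y) → X ⊗ P₀`. -/
theorem exact_lTensor_iff {P2 P1 P0 Y : Type*} [AddCommGroup P2] [Module R P2]
    [AddCommGroup P1] [Module R P1] [AddCommGroup P0] [Module R P0] [AddCommGroup Y] [Module R Y]
    (d₂ : P2 →ₗ[R] P1) (d₁ : P1 →ₗ[R] P0) (π : P0 →ₗ[R] Y) (h21 : Function.Exact d₂ d₁)
    (h10 : Function.Exact d₁ π) (X : Type*) [AddCommGroup X] [Module R X] :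
    Function.Exact (d₂.lTensor X) (d₁.lTensor X) ↔
      Function.Injective ((LinearMap.ker π).subtype.lTensor X) := by
  let d₁' : P1 →ₗ[R] LinearMap.ker π :=
    d₁.codRestrict (LinearMap.ker π) (fun x => h10.apply_apply_eq_zero x)
  have hd₁' : (LinearMap.ker π).subtype ∘ₗ d₁' = d₁ := rfl
  have hsurj : Function.Surjective d₁' := by
    rintro ⟨y, hy⟩
    obtain ⟨x, rfl⟩ := (h10 y).mp hy
    exact ⟨x, rfl⟩
  have hex : Function.Exact d₂ d₁' := by
    intro x
    rw [← h21 x]
    constructor
    · intro h
      have := congrArg Subtype.val h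
      exact this
    · intro h
      exact Subtype.ext h
  have hex' := lTensor_exact X hex hsurj
  have hsurj' := LinearMap.lTensor_surjective X hsurj
  have hcomp : ∀ z, d₁.lTensor X z = (LinearMap.ker π).subtype.lTensor X (d₁'.lTensor X z) := by
    intro z
    rw [← LinearMap.comp_apply, ← LinearMap.lTensor_comp, hd₁']
  constructor
  · intro h
    rw [injective_iff_map_eq_zero]
    intro z hz
    obtain ⟨w, rfl⟩ := hsurj' z
    rw [← hcomp] at hz
    obtain ⟨v, rfl⟩ := (h w).mp hz
    exact (hex' _).mpr ⟨v, rfl⟩
  · intro h z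
    rw [hcomp, ← hex' z]
    constructor
    · intro hz
      exact h (hz.trans (map_zero _).symm)
    · intro hz
      rw [hz, map_zero]

end elementary

section category

variable {R : Type u} [CommRing R]

/-- `Tor₁(X, Y) = 0` iff `X ⊗ K → X ⊗ F` is injective, for any presentation `0 → K → F → Y → 0`
with `F` flat. -/
theorem isZero_tor_one_iff (X Y : Type u) [AddCommGroup X] [Module R X] [AddCommGroup Y]
    [Module R Y] {K F : Type u} [AddCommGroup K] [Module R K] [AddCommGroup F] [Module R F]
    (f : K →ₗ[R] F) (g : F →ₗ[R] Y) [Module.Flat R F] (hf : Function.Injective f)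
    (hfg : Function.Exact f g) (hg : Function.Surjective g) :
    IsZero (((Tor (ModuleCat.{u} R) 1).obj (ModuleCat.of R X)).obj (ModuleCat.of R Y)) ↔
      Function.Injective (f.lTensor X) := by
  let P := ProjectiveResolution.of (ModuleCat.of R Y)
  let T := (tensoringLeft (ModuleCat.{u} R)).obj (ModuleCat.of R X)
  have e := P.isoLeftDerivedObj T 1
  have h1 : IsZero (((Tor (ModuleCat.{u} R) 1).obj (ModuleCat.of R X)).obj (ModuleCat.of R Y)) ↔
      IsZero (((T.mapHomologicalComplex (ComplexShape.down ℕ)).obj P.complex).homology 1) :=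
    ⟨fun h => h.of_iso e.symm, fun h => h.of_iso e⟩
  rw [h1, ← HomologicalComplex.exactAt_iff_isZero_homology,
    HomologicalComplex.exactAt_iff' _ 2 1 0 (by simp) (by simp),
    ShortComplex.ShortExact.moduleCat_exact_iff_function_exact]
  -- the three maps
  let d₂ : P.complex.X 2 →ₗ[R] P.complex.X 1 := (P.complex.d 2 1).hom
  let d₁ : P.complex.X 1 →ₗ[R] P.complex.X 0 := (P.complex.d 1 0).hom
  let π : P.complex.X 0 →ₗ[R] Y := (P.π.f 0).hom
  have h21 : Function.Exact d₂ d₁ :=
    (ShortComplex.ShortExact.moduleCat_exact_iff_function_exact _).mp (P.exact_succ 0)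
  have h10 : Function.Exact d₁ π :=
    (ShortComplex.ShortExact.moduleCat_exact_iff_function_exact _).mp P.exact₀
  have hπ : Function.Surjective π := (ModuleCat.epi_iff_surjective (P.π.f 0)).mp inferInstance
  haveI : Module.Projective R (P.complex.X 0) := by
    have : Projective (ModuleCat.of R (P.complex.X 0)) := P.projective 0
    exact (IsProjective.iff_projective (P.complex.X 0)).mpr this
  have key := exact_lTensor_iff d₂ d₁ π h21 h10 X
  have indep := lTensor_injective_indep (X := X) (K := LinearMap.ker π) (LinearMap.ker π).subtype π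
    (Submodule.injective_subtype _) (LinearMap.exact_subtype_ker_map π) hπ f g hf hfg hg
  rw [← indep, ← key]
  rfl

end category

end Groth.Agent.Lib.TorBridge
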