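import Mathlib
import Groth.Agent.Lib.TorBridge_helper9
import Groth.Agent.Lib.LocalCrit2_helper9

/-!
# Long exact sequence of `Tor` in the FIRST variable (helper5)

Mathlib's `Tor (ModuleCat R) n` left-derives in the second variable.  For a short exact sequence
in the first variable `0 → X₁ → X₂ → X₃ → 0` and a projective resolution `P → Y`, the sequence of
complexes `0 → X₁ ⊗ P → X₂ ⊗ P → X₃ ⊗ P → 0` is exact, which gives the long exact sequence.
We record its consequences for vanishing of `Tor`.
-/

set_option autoImplicit false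
universe u
open CategoryTheory CategoryTheory.Limits MonoidalCategory TensorProduct

namespace Groth.Agent.TorLES

variable {R : Type u} [CommRing R]

section complexes

/-- `X ⊗ C•`. -/
noncomputable abbrev CX (X : ModuleCat.{u} R) (C : ChainComplex (ModuleCat.{u} R) ℕ) :
    ChainComplex (ModuleCat.{u} R) ℕ :=
  (((tensoringLeft (ModuleCat.{u} R)).obj X).mapHomologicalComplex _).obj C

/-- `f ⊗ C•`. -/
noncomputable abbrev cxMap {X X' : ModuleCat.{u} R} (f : X ⟶ X')
    (C : ChainComplex (ModuleCat.{u} R) ℕ) : CX X C ⟶ CX X' C :=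
  (NatTrans.mapHomologicalComplex ((tensoringLeft (ModuleCat.{u} R)).map f) _).app C

lemma cxMap_f {X X' : ModuleCat.{u} R} (f : X ⟶ X') (C : ChainComplex (ModuleCat.{u} R) ℕ)
    (i : ℕ) : (cxMap f C).f i = f ▷ C.X i := rfl

/-- the short complex of complexes `X₁ ⊗ C → X₂ ⊗ C → X₃ ⊗ C`. -/
noncomputable def scCX (S : ShortComplex (ModuleCat.{u} R))
    (C : ChainComplex (ModuleCat.{u} R) ℕ) :
    ShortComplex (ChainComplex (ModuleCat.{u} R) ℕ) :=
  ShortComplex.mk (cxMap S.f C) (cxMap S.g C) (by
    ext i : 1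
    change S.f ▷ C.X i ≫ S.g ▷ C.X i = 0
    rw [← comp_whiskerRight, S.zero]
    exact MonoidalPreadditive.zero_whiskerRight)

lemma scCX_shortExact (S : ShortComplex (ModuleCat.{u} R)) (hS : S.ShortExact)
    (C : ChainComplex (ModuleCat.{u} R) ℕ) (hC : ∀ i, Module.Flat R (C.X i)) :
    (scCX S C).ShortExact := by
  apply HomologicalComplex.shortExact_of_degreewise_shortExact
  intro i
  have hf : Function.Injective S.f.hom := (ModuleCat.mono_iff_injective S.f).mp hS.mono_f
  have hg : Function.Surjective S.g.hom := (ModuleCat.epi_iff_surjective S.g).mp hS.epi_g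
  have hex : Function.Exact S.f.hom S.g.hom :=
    (ShortComplex.ShortExact.moduleCat_exact_iff_function_exact S).mp hS.exact
  haveI := hC i
  have hmono : Mono (S.f ▷ C.X i) := by
    rw [ModuleCat.mono_iff_injective]
    change Function.Injective (S.f ▷ C.X i).hom
    rw [ModuleCat.hom_whiskerRight]
    exact Module.Flat.rTensor_preserves_injective_linearMap _ hf
  have hepi : Epi (S.g ▷ C.X i) := by
    rw [ModuleCat.epi_iff_surjective]
    change Function.Surjective (S.g ▷ C.X i).hom
    rw [ModuleCat.hom_whiskerRight]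
    exact LinearMap.rTensor_surjective _ hg
  have hexact : ((scCX S C).map (HomologicalComplex.eval _ _ i)).Exact := by
    rw [ShortComplex.ShortExact.moduleCat_exact_iff_function_exact]
    change Function.Exact (S.f ▷ C.X i).hom (S.g ▷ C.X i).hom
    rw [ModuleCat.hom_whiskerRight, ModuleCat.hom_whiskerRight]
    exact rTensor_exact _ hex hg
  exact { exact := hexact, mono_f := hmono, epi_g := hepi }

end complexes

section tor

variable (Y : ModuleCat.{u} R)

lemma flat_of_projRes (P : ProjectiveResolution Y) (i : ℕ) : Module.Flat R (P.complex.X i) := by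
  haveI : Projective (P.complex.X i) := P.projective i
  haveI : Module.Projective R (P.complex.X i) := (IsProjective.iff_projective _).mpr this
  infer_instance

lemma isZero_tor_iff (X : ModuleCat.{u} R) (P : ProjectiveResolution Y) (n : ℕ) :
    IsZero (((Tor (ModuleCat.{u} R) n).obj X).obj Y) ↔ IsZero ((CX X P.complex).homology n) := by
  have e := P.isoLeftDerivedObj ((tensoringLeft (ModuleCat.{u} R)).obj X) n
  exact ⟨fun h => h.of_iso e.symm, fun h => h.of_iso e⟩

variable (S : ShortComplex (ModuleCat.{u} R)) (hS : S.ShortExact)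
include hS

/-- `Tor_n(X₁,Y) = 0` and `Tor_n(X₃,Y) = 0` imply `Tor_n(X₂,Y) = 0`. -/
theorem isZero_tor_mid (n : ℕ)
    (h1 : IsZero (((Tor (ModuleCat.{u} R) n).obj S.X₁).obj Y))
    (h3 : IsZero (((Tor (ModuleCat.{u} R) n).obj S.X₃).obj Y)) :
    IsZero (((Tor (ModuleCat.{u} R) n).obj S.X₂).obj Y) := by
  let P := ProjectiveResolution.of Y
  rw [isZero_tor_iff Y _ P] at h1 h3 ⊢
  have hS' := scCX_shortExact S hS P.complex (flat_of_projRes Y P)
  exact (hS'.homology_exact₂ n).isZero_of_both_isZero h1 h3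

/-- `Tor_{n+1}(X₂,Y) = 0` and `Tor_n(X₁,Y) = 0` imply `Tor_{n+1}(X₃,Y) = 0`. -/
theorem isZero_tor_succ_right (n : ℕ)
    (h2 : IsZero (((Tor (ModuleCat.{u} R) (n + 1)).obj S.X₂).obj Y))
    (h1 : IsZero (((Tor (ModuleCat.{u} R) n).obj S.X₁).obj Y)) :
    IsZero (((Tor (ModuleCat.{u} R) (n + 1)).obj S.X₃).obj Y) := by
  let P := ProjectiveResolution.of Y
  rw [isZero_tor_iff Y _ P] at h1 h2 ⊢
  have hS' := scCX_shortExact S hS P.complex (flat_of_projRes Y P)
  exact (hS'.homology_exact₃ (n + 1) n (by simp)).isZero_of_both_isZero h2 h1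

/-- `Tor_{n+1}(X₃,Y) = 0` and `Tor_n(X₂,Y) = 0` imply `Tor_n(X₁,Y) = 0`. -/
theorem isZero_tor_left (n : ℕ)
    (h3 : IsZero (((Tor (ModuleCat.{u} R) (n + 1)).obj S.X₃).obj Y))
    (h2 : IsZero (((Tor (ModuleCat.{u} R) n).obj S.X₂).obj Y)) :
    IsZero (((Tor (ModuleCat.{u} R) n).obj S.X₁).obj Y) := by
  let P := ProjectiveResolution.of Y
  rw [isZero_tor_iff Y _ P] at h3 h2 ⊢
  have hS' := scCX_shortExact S hS P.complex (flat_of_projRes Y P)
  exact (hS'.homology_exact₁ (n + 1) n (by simp)).isZero_of_both_isZero h3 h2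

/-- If `Tor_{n+1}(X₂,Y) = 0` there is a monomorphism `Tor_{n+1}(X₃,Y) ⟶ Tor_n(X₁,Y)`. -/
theorem exists_mono_tor_succ (n : ℕ)
    (h2 : IsZero (((Tor (ModuleCat.{u} R) (n + 1)).obj S.X₂).obj Y)) :
    ∃ φ : ((Tor (ModuleCat.{u} R) (n + 1)).obj S.X₃).obj Y ⟶
      ((Tor (ModuleCat.{u} R) n).obj S.X₁).obj Y, Mono φ := by
  let P := ProjectiveResolution.of Y
  rw [isZero_tor_iff Y _ P] at h2
  have hS' := scCX_shortExact S hS P.complex (flat_of_projRes Y P)
  have hrel : (ComplexShape.down ℕ).Rel (n + 1) n := by simp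
  have hmono := hS'.mono_δ (n + 1) n hrel h2
  let e3 := P.isoLeftDerivedObj ((tensoringLeft (ModuleCat.{u} R)).obj S.X₃) (n + 1)
  let e1 := P.isoLeftDerivedObj ((tensoringLeft (ModuleCat.{u} R)).obj S.X₁) n
  have h1 : Mono (hS'.δ (n + 1) n hrel ≫ e1.inv) :=
    mono_comp' hmono (inferInstance : Mono e1.inv)
  exact ⟨e3.hom ≫ hS'.δ (n + 1) n hrel ≫ e1.inv,
    mono_comp' (inferInstance : Mono e3.hom) h1⟩

end tor

section flatLeft

/-- `Tor_{n+1}(X, Y) = 0` for `X` flat. -/
theorem isZero_tor_succ_of_flat_left (X Y : ModuleCat.{u} R) [Module.Flat R X] (n : ℕ) :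
    IsZero (((Tor (ModuleCat.{u} R) (n + 1)).obj X).obj Y) := by
  let P := ProjectiveResolution.of Y
  rw [isZero_tor_iff Y _ P, ← HomologicalComplex.exactAt_iff_isZero_homology,
    HomologicalComplex.exactAt_iff' _ (n + 2) (n + 1) n (by simp) (by simp),
    ShortComplex.ShortExact.moduleCat_exact_iff_function_exact]
  have h := (ShortComplex.ShortExact.moduleCat_exact_iff_function_exact _).mp (P.exact_succ n)
  change Function.Exact (X ◁ P.complex.d (n + 2) (n + 1)).hom (X ◁ P.complex.d (n + 1) n).hom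
  rw [ModuleCat.hom_whiskerLeft, ModuleCat.hom_whiskerLeft]
  exact Module.Flat.lTensor_exact X h

end flatLeft

section modules

variable (R)

/-- `Tor_n^R(X, Y) = 0` (Mathlib's `Tor`, resolving the second variable). -/
abbrev TorZero (n : ℕ) (X Y : Type u) [AddCommGroup X] [Module R X] [AddCommGroup Y]
    [Module R Y] : Prop :=
  IsZero (((Tor (ModuleCat.{u} R) n).obj (ModuleCat.of R X)).obj (ModuleCat.of R Y))

variable {R}

lemma torZero_iff_subsingleton (n : ℕ) (X Y : Type u) [AddCommGroup X] [Module R X]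
    [AddCommGroup Y] [Module R Y] :
    TorZero R n X Y ↔ Subsingleton
      (((Tor (ModuleCat.{u} R) n).obj (ModuleCat.of R X)).obj (ModuleCat.of R Y)) :=
  ModuleCat.isZero_iff_subsingleton

variable {X₁ X₂ X₃ : Type u} [AddCommGroup X₁] [Module R X₁] [AddCommGroup X₂] [Module R X₂]
  [AddCommGroup X₃] [Module R X₃] (i : X₁ →ₗ[R] X₂) (p : X₂ →ₗ[R] X₃)
  (Y : Type u) [AddCommGroup Y] [Module R Y]

lemma mk_shortExact (hi : Function.Injective i) (hip : Function.Exact i p)
    (hp : Function.Surjective p) :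
    (ShortComplex.moduleCatMk i p hip.linearMap_comp_eq_zero).ShortExact :=
  ModuleCat.shortComplex_shortExact _ hip hi hp

theorem torZero_mid (hi : Function.Injective i) (hip : Function.Exact i p)
    (hp : Function.Surjective p) (n : ℕ) (h1 : TorZero R n X₁ Y) (h3 : TorZero R n X₃ Y) :
    TorZero R n X₂ Y :=
  isZero_tor_mid (ModuleCat.of R Y) _ (mk_shortExact i p hi hip hp) n h1 h3

theorem torZero_succ_right (hi : Function.Injective i) (hip : Function.Exact i p)
    (hp : Function.Surjective p) (n : ℕ) (h2 : TorZero R (n + 1) X₂ Y) (h1 : TorZero R n X₁ Y) :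
    TorZero R (n + 1) X₃ Y :=
  isZero_tor_succ_right (ModuleCat.of R Y) _ (mk_shortExact i p hi hip hp) n h2 h1

theorem torZero_left (hi : Function.Injective i) (hip : Function.Exact i p)
    (hp : Function.Surjective p) (n : ℕ) (h3 : TorZero R (n + 1) X₃ Y) (h2 : TorZero R n X₂ Y) :
    TorZero R n X₁ Y :=
  isZero_tor_left (ModuleCat.of R Y) _ (mk_shortExact i p hi hip hp) n h3 h2

/-- If `Tor_{n+1}(X₂,Y) = 0` there is an injective linear map `Tor_{n+1}(X₃,Y) → Tor_n(X₁,Y)`. -/
theorem exists_injective_tor_succ (hi : Function.Injective i) (hip : Function.Exact i p)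
    (hp : Function.Surjective p) (n : ℕ) (h2 : TorZero R (n + 1) X₂ Y) :
    ∃ φ : (((Tor (ModuleCat.{u} R) (n + 1)).obj (ModuleCat.of R X₃)).obj (ModuleCat.of R Y)) →ₗ[R]
      (((Tor (ModuleCat.{u} R) n).obj (ModuleCat.of R X₁)).obj (ModuleCat.of R Y)),
      Function.Injective φ := by
  obtain ⟨φ, hφ⟩ := exists_mono_tor_succ (ModuleCat.of R Y) _ (mk_shortExact i p hi hip hp) n h2
  exact ⟨φ.hom, (ModuleCat.mono_iff_injective φ).mp hφ⟩

/-- `Tor_0(X, Y) ≅ X ⊗ Y`. -/
noncomputable def torZeroEquiv (X : Type u) [AddCommGroup X] [Module R X] :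
    (((Tor (ModuleCat.{u} R) 0).obj (ModuleCat.of R X)).obj (ModuleCat.of R Y)) ≃ₗ[R] X ⊗[R] Y :=
  ((Functor.leftDerivedZeroIsoSelf
    ((tensoringLeft (ModuleCat.{u} R)).obj (ModuleCat.of R X))).app (ModuleCat.of R Y)).toLinearEquiv

theorem torZero_succ_of_flat_left (X : Type u) [AddCommGroup X] [Module R X] [Module.Flat R X]
    (n : ℕ) : TorZero R (n + 1) X Y :=
  isZero_tor_succ_of_flat_left (ModuleCat.of R X) (ModuleCat.of R Y) n

/-- the standard free presentation of `Y` -/
noncomputable abbrev presG : (Y →₀ R) →ₗ[R] Y := Finsupp.linearCombination R id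

lemma presG_surjective : Function.Surjective (presG (R := R) Y) :=
  Finsupp.linearCombination_id_surjective R Y

/-- `Tor_1(X, Y) = 0` iff `X ⊗ K → X ⊗ F` is injective for the standard presentation of `Y`. -/
lemma torZero_one_iff_std (X : Type u) [AddCommGroup X] [Module R X] :
    TorZero R 1 X Y ↔
      Function.Injective ((LinearMap.ker (presG (R := R) Y)).subtype.lTensor X) :=
  Groth.Agent.Lib.TorBridge.isZero_tor_one_iff X Y _ (presG Y) (Submodule.injective_subtype _)
    (LinearMap.exact_subtype_ker_map _) (presG_surjective Y)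

/-- `Tor_1(X₂,Y) = 0` and `X₁ ⊗ Y → X₂ ⊗ Y` injective imply `Tor_1(X₃,Y) = 0`. -/
theorem torZero_one_right (hip : Function.Exact i p)
    (hp : Function.Surjective p) (h2 : TorZero R 1 X₂ Y)
    (hinj : Function.Injective (i.rTensor Y)) : TorZero R 1 X₃ Y := by
  have h2' := (torZero_one_iff_std Y X₂).mp h2
  refine (torZero_one_iff_std Y X₃).mpr ?_
  have hex : Function.Exact (LinearMap.ker (presG (R := R) Y)).subtype (presG (R := R) Y) :=
    LinearMap.exact_subtype_ker_map _
  have key := @Groth.Agent.Lib.LocalCrit2.T1_quot R _ (↥(LinearMap.ker (presG (R := R) Y)))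
    (Y →₀ R) Y _ _ _ _ _ _ (LinearMap.ker (presG (R := R) Y)).subtype
    (presG (R := R) Y) X₁ X₂ X₃ _ _ _ _ _ _ i p
  have k2 := key hex (presG_surjective Y) hip hp
  have k3 := k2 h2'
  exact k3 hinj

/-- elementary chase: `Tor_1(N'', M) = 0` implies `N' ⊗ M → N ⊗ M` injective. -/
lemma T1_conn {K F M : Type*} [AddCommGroup K] [Module R K] [AddCommGroup F] [Module R F]
    [AddCommGroup M] [Module R M] (f : K →ₗ[R] F) (g : F →ₗ[R] M) [Module.Flat R F]
    {N' N N'' : Type*} [AddCommGroup N'] [Module R N'] [AddCommGroup N] [Module R N]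
    [AddCommGroup N''] [Module R N''] (i : N' →ₗ[R] N) (p : N →ₗ[R] N'')
    (hfg : Function.Exact f g) (hg : Function.Surjective g) (hi : Function.Injective i)
    (hip : Function.Exact i p) (hp : Function.Surjective p)
    (h : Function.Injective (f.lTensor N'')) : Function.Injective (i.rTensor M) := by
  rw [injective_iff_map_eq_zero]
  intro u hu
  obtain ⟨u₁, rfl⟩ := LinearMap.lTensor_surjective N' hg u
  have hv : g.lTensor N (i.rTensor F u₁) = 0 := by
    rw [← Groth.Agent.Lib.LocalCrit2.sq, hu]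
  obtain ⟨k, hk⟩ := (lTensor_exact N hfg hg _).mp hv
  have h1 : f.lTensor N'' (p.rTensor K k) = 0 := by
    rw [← Groth.Agent.Lib.LocalCrit2.sq, hk]
    exact (rTensor_exact F hip hp).apply_apply_eq_zero u₁
  have h2 : p.rTensor K k = 0 := h (h1.trans (map_zero _).symm)
  obtain ⟨k', rfl⟩ := (rTensor_exact K hip hp _).mp h2
  have h3 : f.lTensor N' k' = u₁ := by
    apply Module.Flat.rTensor_preserves_injective_linearMap (M := F) i hi
    rw [Groth.Agent.Lib.LocalCrit2.sq, hk]
  rw [← h3]
  exact (lTensor_exact N' hfg hg).apply_apply_eq_zero k'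

/-- `Tor_1(X₃,Y) = 0` implies `X₁ ⊗ Y → X₂ ⊗ Y` injective. -/
theorem rTensor_injective_of_torZero_one (hi : Function.Injective i) (hip : Function.Exact i p)
    (hp : Function.Surjective p) (h3 : TorZero R 1 X₃ Y) :
    Function.Injective (i.rTensor Y) := by
  have h3' := (torZero_one_iff_std Y X₃).mp h3
  have hex : Function.Exact (LinearMap.ker (presG (R := R) Y)).subtype (presG (R := R) Y) :=
    LinearMap.exact_subtype_ker_map _
  have key := @T1_conn R _ (↥(LinearMap.ker (presG (R := R) Y)))
    (Y →₀ R) Y _ _ _ _ _ _ (LinearMap.ker (presG (R := R) Y)).subtype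
    (presG (R := R) Y) _ X₁ X₂ X₃ _ _ _ _ _ _ i p
  have k2 := key hex (presG_surjective Y) hi hip hp
  exact k2 h3'

/-- for a presentation `0 → X₁ → X₂ → X₃ → 0` with `X₂` flat:
`Tor_1(X₃, Y) = 0` iff `X₁ ⊗ Y → X₂ ⊗ Y` is injective. -/
theorem torZero_one_iff_left [Module.Flat R X₂] (hi : Function.Injective i)
    (hip : Function.Exact i p) (hp : Function.Surjective p) :
    TorZero R 1 X₃ Y ↔ Function.Injective (i.rTensor Y) :=
  ⟨rTensor_injective_of_torZero_one i p Y hi hip hp,
    torZero_one_right i p Y hip hp (torZero_succ_of_flat_left Y X₂ 0)⟩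

/-- dimension shifting in the first variable. -/
theorem torZero_shift [Module.Flat R X₂] (hi : Function.Injective i)
    (hip : Function.Exact i p) (hp : Function.Surjective p) (n : ℕ) :
    TorZero R (n + 2) X₃ Y ↔ TorZero R (n + 1) X₁ Y :=
  ⟨fun h => torZero_left i p Y hi hip hp (n + 1) h (torZero_succ_of_flat_left Y X₂ n),
    fun h => torZero_succ_right i p Y hi hip hp (n + 1) (torZero_succ_of_flat_left Y X₂ (n + 1)) h⟩

/-- `Tor_{n+1}(X, Y) = 0` for `Y` flat. -/
theorem torZero_succ_of_flat_right [Module.Flat R Y] (n : ℕ) :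
    ∀ (X : Type u) [AddCommGroup X] [Module R X], TorZero R (n + 1) X Y := by
  induction n with
  | zero =>
    intro X _ _
    have h1 : TorZero R 1 (X →₀ R) Y := torZero_succ_of_flat_left Y (X →₀ R) 0
    have h2 : Function.Injective ((LinearMap.ker (presG (R := R) X)).subtype.rTensor Y) :=
      Module.Flat.rTensor_preserves_injective_linearMap (M := Y)
        (LinearMap.ker (presG (R := R) X)).subtype (Submodule.injective_subtype _)
    have hex : Function.Exact (LinearMap.ker (presG (R := R) X)).subtype (presG (R := R) X) :=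
      LinearMap.exact_subtype_ker_map _
    have key := @torZero_one_right R _ (↥(LinearMap.ker (presG (R := R) X))) (X →₀ R) X
      _ _ _ _ _ _ (LinearMap.ker (presG (R := R) X)).subtype (presG (R := R) X) Y _ _
    have k2 := key hex (presG_surjective X)
    have k3 := k2 h1
    exact k3 h2
  | succ n ih =>
    intro X _ _
    have h1 : TorZero R (n + 1 + 1) (X →₀ R) Y := torZero_succ_of_flat_left Y (X →₀ R) (n + 1)
    have h2 : TorZero R (n + 1) (LinearMap.ker (presG (R := R) X)) Y :=
      ih (LinearMap.ker (presG (R := R) X))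
    have hex : Function.Exact (LinearMap.ker (presG (R := R) X)).subtype (presG (R := R) X) :=
      LinearMap.exact_subtype_ker_map _
    have key := @torZero_succ_right R _ (↥(LinearMap.ker (presG (R := R) X))) (X →₀ R) X
      _ _ _ _ _ _ (LinearMap.ker (presG (R := R) X)).subtype (presG (R := R) X) Y _ _
    have k2 := key (Submodule.injective_subtype _) hex (presG_surjective X) (n + 1)
    have k3 := k2 h1
    exact k3 h2

end modules

section regular

variable (x : R)

lemma isSMulRegular_finsupp (ι : Type*) (hx : IsSMulRegular R x) : IsSMulRegular (ι →₀ R) x := by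
  intro v w h
  ext m
  have := DFunLike.congr_fun h m
  simp only [Finsupp.coe_smul, Pi.smul_apply] at this
  exact hx this

lemma exact_lsmul_mkQ :
    Function.Exact (LinearMap.lsmul R R x) (Submodule.mkQ (Ideal.span {x})) := by
  intro y
  rw [Submodule.mkQ_apply, Submodule.Quotient.mk_eq_zero, Ideal.mem_span_singleton']
  constructor
  · rintro ⟨a, rfl⟩
    exact ⟨a, by rw [LinearMap.lsmul_apply, smul_eq_mul, mul_comm]⟩
  · rintro ⟨a, rfl⟩
    exact ⟨a, by rw [LinearMap.lsmul_apply, smul_eq_mul, mul_comm]⟩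

lemma lTensor_lsmul_injective (M : Type*) [AddCommGroup M] [Module R M]
    (hxM : IsSMulRegular M x) : Function.Injective ((LinearMap.lsmul R R x).lTensor M) := by
  have h1 : (LinearMap.lsmul R R x).lTensor M = LinearMap.lsmul R (M ⊗[R] R) x := by
    apply TensorProduct.ext'
    intro m r
    rw [LinearMap.lTensor_tmul, LinearMap.lsmul_apply, LinearMap.lsmul_apply,
      TensorProduct.tmul_smul]
  rw [h1]
  exact ((TensorProduct.rid R M).isSMulRegular_congr x).mpr hxM

/-- If `x` is a nonzerodivisor on `R` and on `M` then `Tor_{n+1}(M, R/(x)) = 0`. -/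
theorem torZero_succ_quot_span_singleton (hxR : IsSMulRegular R x) (n : ℕ) :
    ∀ (M : Type u) [AddCommGroup M] [Module R M], IsSMulRegular M x →
      TorZero R (n + 1) M (R ⧸ Ideal.span {x}) := by
  induction n with
  | zero =>
    intro M _ _ hxM
    exact (Groth.Agent.Lib.TorBridge.isZero_tor_one_iff M (R ⧸ Ideal.span {x})
      (LinearMap.lsmul R R x) (Submodule.mkQ (Ideal.span {x})) hxR (exact_lsmul_mkQ x)
      (Submodule.mkQ_surjective _)).mpr (lTensor_lsmul_injective x M hxM)
  | succ n ih =>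
    intro M _ _ hxM
    have hK : IsSMulRegular (LinearMap.ker (presG (R := R) M)) x :=
      (isSMulRegular_finsupp x M hxR).submodule _ x
    have h2 := ih (LinearMap.ker (presG (R := R) M)) hK
    have hex : Function.Exact (LinearMap.ker (presG (R := R) M)).subtype (presG (R := R) M) :=
      LinearMap.exact_subtype_ker_map _
    have key := @torZero_shift R _ (↥(LinearMap.ker (presG (R := R) M))) (M →₀ R) M
      _ _ _ _ _ _ (LinearMap.ker (presG (R := R) M)).subtype (presG (R := R) M)
      (R ⧸ Ideal.span {x}) _ _ _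
    have k2 := key (Submodule.injective_subtype _) hex (presG_surjective M) n
    exact k2.mpr h2

end regular

section finite

/-- S6315: over a Noetherian ring, `Tor_p(M, N)` is finite for finite `M`, `N`. -/
theorem finite_tor [IsNoetherianRing R] (N : Type u) [AddCommGroup N] [Module R N]
    [Module.Finite R N] (p : ℕ) : ∀ (M : Type u) [AddCommGroup M] [Module R M] [Module.Finite R M],
    Module.Finite R
      (((Tor (ModuleCat.{u} R) p).obj (ModuleCat.of R M)).obj (ModuleCat.of R N)) := by
  induction p with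
  | zero =>
    intro M _ _ _
    exact Module.Finite.equiv (torZeroEquiv N M).symm
  | succ p ih =>
    intro M _ _ _
    obtain ⟨k, f, hf⟩ := Module.Finite.exists_fin' R M
    haveI : IsNoetherian R (Fin k → R) := isNoetherian_of_isNoetherianRing_of_finite R _
    haveI : Module.Finite R (LinearMap.ker f) := Module.IsNoetherian.finite R _
    have hfin := ih (LinearMap.ker f)
    haveI : IsNoetherian R
        (((Tor (ModuleCat.{u} R) p).obj (ModuleCat.of R (LinearMap.ker f))).obj
          (ModuleCat.of R N)) := isNoetherian_of_isNoetherianRing_of_finite R _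
    have h2 : TorZero R (p + 1) (Fin k → R) N := torZero_succ_of_flat_left N (Fin k → R) p
    have hex : Function.Exact (LinearMap.ker f).subtype f := LinearMap.exact_subtype_ker_map _
    have key := @exists_injective_tor_succ R _ (↥(LinearMap.ker f)) (Fin k → R) M
      _ _ _ _ _ _ (LinearMap.ker f).subtype f N _ _
    obtain ⟨φ, hφ⟩ := key (Submodule.injective_subtype _) hex hf p h2
    exact Module.Finite.of_injective φ hφ

end finite

end Groth.Agent.TorLES
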