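import Mathlib
import Groth.Agent.Lib.TorLES_helper5
import Groth.Agent.Lib.RegFlat3_helper9
import Groth.Agent.Lib.KoszulH1_helper5

/-!
# Regular sequences and `Tor` (helper5)

* `koszulH1Zero_of_isWeaklyRegular`: a weakly regular sequence has vanishing `H_1`.
* `torZero_quot_of_isWeaklyRegular`: if `fs` is weakly regular on `A` and on `Y` then
  `Tor_{n+1}(A/(fs), Y) = 0`.
* `inf_le_mul_of_torZero_one`: `Tor_1(A/I, A/J) = 0` implies `I ⊓ J ≤ I * J`.
-/

set_option autoImplicit false
universe u v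

namespace Groth.Agent.TorReg

open RingTheory.Sequence Pointwise TensorProduct Groth.Agent.KoszulH1 Groth.Agent.TorLES

section koszul

variable {A : Type u} [CommRing A] {M : Type v} [AddCommGroup M] [Module A M]

lemma snoc_mem_span_T {n : ℕ} (f : Fin (n + 1) → A) (r : Fin n → M)
    (hr : r ∈ Submodule.span A (T (fun i : Fin n => f i.castSucc) M)) :
    (Fin.snoc r 0 : Fin (n + 1) → M) ∈ Submodule.span A (T f M) := by
  induction hr using Submodule.span_induction with
  | mem v hv =>
    obtain ⟨i, j, x, rfl⟩ := hv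
    apply Submodule.subset_span
    refine ⟨i.castSucc, j.castSucc, x, ?_⟩
    funext k
    induction k using Fin.lastCases with
    | last =>
      have h1 : (Fin.last n) ≠ i.castSucc := (Fin.castSucc_lt_last i).ne'
      have h2 : (Fin.last n) ≠ j.castSucc := (Fin.castSucc_lt_last j).ne'
      simp [Fin.snoc_last, Pi.single_eq_of_ne h1, Pi.single_eq_of_ne h2]
    | cast k =>
      simp only [Fin.snoc_castSucc, Pi.sub_apply, Pi.smul_apply]
      congr 2
      · by_cases h : k = i
        · subst h; simp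
        · rw [Pi.single_eq_of_ne h, Pi.single_eq_of_ne (fun h' => h (Fin.castSucc_injective _ h'))]
      · by_cases h : k = j
        · subst h; simp
        · rw [Pi.single_eq_of_ne h, Pi.single_eq_of_ne (fun h' => h (Fin.castSucc_injective _ h'))]
  | zero =>
    have : (Fin.snoc (0 : Fin n → M) 0 : Fin (n + 1) → M) = 0 := by
      funext k
      induction k using Fin.lastCases with
      | last => simp
      | cast k => simp
    rw [this]
    exact Submodule.zero_mem _
  | add r s _ _ ihr ihs =>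
    have : (Fin.snoc (r + s) 0 : Fin (n + 1) → M) = Fin.snoc r 0 + Fin.snoc s 0 := by
      funext k
      induction k using Fin.lastCases with
      | last => simp
      | cast k => simp
    rw [this]
    exact Submodule.add_mem _ ihr ihs
  | smul a r _ ihr =>
    have : (Fin.snoc (a • r) 0 : Fin (n + 1) → M) = a • Fin.snoc r 0 := by
      funext k
      induction k using Fin.lastCases with
      | last => simp
      | cast k => simp
    rw [this]
    exact Submodule.smul_mem _ a ihr

/-- a weakly regular sequence has vanishing first Koszul homology. -/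
theorem koszulH1Zero_of_isWeaklyRegular : ∀ (n : ℕ) (f : Fin n → A),
    IsWeaklyRegular M (List.ofFn f) → CInt.KoszulH1Zero f M := by
  intro n
  induction n with
  | zero =>
    intro f _
    rw [koszulH1Zero_iff]
    intro m _
    have : m = 0 := Subsingleton.elim _ _
    rw [this]
    exact Submodule.zero_mem _
  | succ n ih =>
    intro f hf
    set f' : Fin n → A := fun i => f i.castSucc with hf'
    rw [List.ofFn_succ', List.concat_eq_append, isWeaklyRegular_append_iff] at hf
    obtain ⟨h', hlast⟩ := hf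
    rw [isWeaklyRegular_cons_iff] at hlast
    have hlast := hlast.1
    have IH := (koszulH1Zero_iff f').mp (ih f' h')
    rw [koszulH1Zero_iff]
    intro m hm
    rw [Fin.sum_univ_castSucc] at hm
    -- the last coefficient lies in (f')M
    have h1 : m (Fin.last n) ∈ Ideal.ofList (List.ofFn f') • (⊤ : Submodule A M) := by
      rw [← Submodule.Quotient.mk_eq_zero]
      apply (isSMulRegular_iff_right_eq_zero_of_smul.mp hlast)
      rw [← Submodule.Quotient.mk_smul, Submodule.Quotient.mk_eq_zero, ofList_ofFn,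
        mem_span_range_smul_top_iff]
      refine ⟨fun i => - m i.castSucc, ?_⟩
      rw [eq_neg_of_add_eq_zero_right hm]
      simp [hf']
    rw [ofList_ofFn, mem_span_range_smul_top_iff] at h1
    obtain ⟨y, hy⟩ := h1
    set t : Fin (n + 1) → M := ∑ i : Fin n,
      (f i.castSucc • (Pi.single (Fin.last n) (y i) : Fin (n + 1) → M) -
        f (Fin.last n) • (Pi.single i.castSucc (y i) : Fin (n + 1) → M)) with ht
    have htmem : t ∈ Submodule.span A (T f M) := by
      rw [ht]
      refine Submodule.sum_mem _ fun i _ => Submodule.subset_span ⟨Fin.last n, i.castSucc, y i, rfl⟩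
    have htlast : t (Fin.last n) = m (Fin.last n) := by
      rw [ht, hy, Finset.sum_apply]
      refine Finset.sum_congr rfl fun i _ => ?_
      have h1 : (Fin.last n) ≠ i.castSucc := (Fin.castSucc_lt_last i).ne'
      simp [Pi.single_eq_of_ne h1, hf']
    have htrel : ∑ i, f i • t i = 0 := sum_smul_eq_zero_of_mem_span_T f t htmem
    set r : Fin n → M := fun i => (m - t) i.castSucc with hr
    have hrel : ∑ i, f' i • r i = 0 := by
      have h2 : ∑ i, f i • (m - t) i = 0 := by
        simp only [Pi.sub_apply, smul_sub, Finset.sum_sub_distrib, htrel, sub_zero]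
        rw [Fin.sum_univ_castSucc]
        exact hm
      rw [Fin.sum_univ_castSucc] at h2
      simpa [hr, hf', htlast] using h2
    have hrmem := IH r hrel
    have hsn : (Fin.snoc r 0 : Fin (n + 1) → M) = m - t := by
      funext k
      induction k using Fin.lastCases with
      | last => simp [htlast]
      | cast k => simp [hr]
    have := snoc_mem_span_T f r hrmem
    rw [hsn] at this
    have h3 : m = (m - t) + t := by abel
    rw [h3]
    exact Submodule.add_mem _ this htmem

end koszul

section tor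

variable {A : Type u} [CommRing A]

open Groth.Agent.Lib.RegFlat3

/-- if `fs` is weakly regular on `A/I₀` and on `Y/I₀Y` and `Tor_{n+1}(A/I₀, Y) = 0` for all `n`,
then `Tor_{n+1}(A/(I₀ + (fs)), Y) = 0` for all `n`. -/
theorem torZero_quot_sup_of_isWeaklyRegular (Y : Type u) [AddCommGroup Y] [Module A Y]
    (fs : List A) : ∀ (I₀ : Ideal A), (∀ n, TorZero A (n + 1) (A ⧸ I₀) Y) →
    IsWeaklyRegular (A ⧸ (I₀ • ⊤ : Submodule A A)) fs →
    IsWeaklyRegular (Y ⧸ (I₀ • ⊤ : Submodule A Y)) fs →
    ∀ n, TorZero A (n + 1) (A ⧸ (I₀ ⊔ Ideal.ofList fs)) Y := by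
  induction fs with
  | nil =>
    intro I₀ h _ _ n
    have e : I₀ ⊔ Ideal.ofList ([] : List A) = I₀ := by rw [Ideal.ofList_nil, sup_bot_eq]
    rw [e]
    exact h n
  | cons r rs ih =>
    intro I₀ h hA hY
    rw [isWeaklyRegular_cons_iff] at hA hY
    have hrA : IsSMulRegular (A ⧸ I₀) r :=
      ((Submodule.quotEquivOfEq (I₀ • ⊤ : Submodule A A) I₀
        (by rw [smul_eq_mul, Ideal.mul_top])).isSMulRegular_congr r).mp hA.1
    have hinj : Function.Injective (LinearMap.lsmul A (A ⧸ I₀) r) := fun a b hab => hrA hab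
    have hsurj : Function.Surjective (Submodule.mapQ I₀ (I₀ ⊔ Ideal.span {r}) LinearMap.id (by
        rw [Submodule.comap_id]; exact le_sup_left)) := by
      intro y
      obtain ⟨a, rfl⟩ := Submodule.Quotient.mk_surjective _ y
      exact ⟨Submodule.Quotient.mk a, rfl⟩
    have step : ∀ n, TorZero A (n + 1) (A ⧸ (I₀ ⊔ Ideal.span {r})) Y := by
      intro n
      cases n with
      | zero =>
        exact torZero_one_right (LinearMap.lsmul A (A ⧸ I₀) r) _ Y (exact_lsmul_mapQ I₀ r) hsurj
          (h 0) (rTensor_lsmul_injective Y I₀ r hY.1)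
      | succ n =>
        exact torZero_succ_right (LinearMap.lsmul A (A ⧸ I₀) r) _ Y hinj (exact_lsmul_mapQ I₀ r)
          hsurj (n + 1) (h (n + 1)) (h n)
    have := ih (I₀ ⊔ Ideal.span {r}) step
      (((quotSupEquiv A I₀ r).isWeaklyRegular_congr rs).mp hA.2)
      (((quotSupEquiv Y I₀ r).isWeaklyRegular_congr rs).mp hY.2)
    intro n
    have e : I₀ ⊔ Ideal.ofList (r :: rs) = I₀ ⊔ Ideal.span {r} ⊔ Ideal.ofList rs := by
      rw [sup_assoc, ← Ideal.ofList_cons]
    rw [e]
    exact this n

/-- if `fs` is weakly regular on `A` and on `Y` then `Tor_{n+1}(A/(fs), Y) = 0`. -/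
theorem torZero_quot_of_isWeaklyRegular (Y : Type u) [AddCommGroup Y] [Module A Y]
    (fs : List A) (hA : IsWeaklyRegular A fs) (hY : IsWeaklyRegular Y fs) (n : ℕ) :
    TorZero A (n + 1) (A ⧸ Ideal.ofList fs) Y := by
  have h0 : ∀ n, TorZero A (n + 1) (A ⧸ (⊥ : Ideal A)) Y := by
    intro n
    haveI : Module.Flat A (A ⧸ (⊥ : Ideal A)) :=
      Module.Flat.of_linearEquiv (Submodule.quotEquivOfEqBot (⊥ : Submodule A A) rfl)
    exact torZero_succ_of_flat_left Y (A ⧸ (⊥ : Ideal A)) n
  have hA' : IsWeaklyRegular (A ⧸ ((⊥ : Ideal A) • ⊤ : Submodule A A)) fs :=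
    ((Submodule.quotEquivOfEqBot ((⊥ : Ideal A) • ⊤ : Submodule A A)
      (Submodule.bot_smul _)).isWeaklyRegular_congr fs).mpr hA
  have hY' : IsWeaklyRegular (Y ⧸ ((⊥ : Ideal A) • ⊤ : Submodule A Y)) fs :=
    ((Submodule.quotEquivOfEqBot ((⊥ : Ideal A) • ⊤ : Submodule A Y)
      (Submodule.bot_smul _)).isWeaklyRegular_congr fs).mpr hY
  have := torZero_quot_sup_of_isWeaklyRegular Y fs ⊥ h0 hA' hY' n
  have e : (⊥ : Ideal A) ⊔ Ideal.ofList fs = Ideal.ofList fs := bot_sup_eq _
  rw [e] at this
  exact this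

/-- `Tor_1(A/I, A/J) = 0` implies `I ⊓ J ≤ I * J`. -/
theorem inf_le_mul_of_torZero_one (I J : Ideal A) (h : TorZero A 1 (A ⧸ I) (A ⧸ J)) :
    I ⊓ J ≤ I * J := by
  have hinj : Function.Injective ((Submodule.subtype J).lTensor (A ⧸ I)) :=
    (Groth.Agent.Lib.TorBridge.isZero_tor_one_iff (A ⧸ I) (A ⧸ J)
      (Submodule.subtype J) (Submodule.mkQ J) (Submodule.injective_subtype _)
      (LinearMap.exact_subtype_mkQ J) (Submodule.mkQ_surjective _)).mp h
  intro a ha
  obtain ⟨haI, haJ⟩ := ha
  set z : (A ⧸ I) ⊗[A] J := (1 : A ⧸ I) ⊗ₜ[A] (⟨a, haJ⟩ : J) with hz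
  have hz0 : (Submodule.subtype J).lTensor (A ⧸ I) z = 0 := by
    rw [hz, LinearMap.lTensor_tmul, Submodule.subtype_apply]
    have : ((1 : A ⧸ I) ⊗ₜ[A] ((⟨a, haJ⟩ : J) : A) : (A ⧸ I) ⊗[A] A) =
        (1 : A ⧸ I) ⊗ₜ[A] (a • (1 : A)) := by
      rw [smul_eq_mul, mul_one]
    rw [this, TensorProduct.tmul_smul, TensorProduct.smul_tmul']
    have h1 : a • (1 : A ⧸ I) = 0 := by
      rw [Algebra.smul_def, mul_one]
      exact Ideal.Quotient.eq_zero_iff_mem.mpr haI
    rw [h1, TensorProduct.zero_tmul]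
  have hz1 : z = 0 := hinj (hz0.trans (map_zero _).symm)
  have h2 := congrArg (quotTensorEquivQuotSMul J I) hz1
  rw [map_zero, hz] at h2
  have h3 : quotTensorEquivQuotSMul J I ((1 : A ⧸ I) ⊗ₜ[A] (⟨a, haJ⟩ : J)) =
      Submodule.Quotient.mk (⟨a, haJ⟩ : J) := by
    have := quotTensorEquivQuotSMul_mk_tmul (M := J) I (1 : A) (⟨a, haJ⟩ : J)
    rw [one_smul] at this
    exact this
  rw [h3, Submodule.Quotient.mk_eq_zero] at h2
  have h4 : a ∈ Submodule.map (Submodule.subtype J) (I • (⊤ : Submodule A J)) :=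
    ⟨⟨a, haJ⟩, h2, rfl⟩
  rw [Submodule.map_smul'', Submodule.map_subtype_top] at h4
  exact h4

/-- `H_1(x, A) = 0` and `(x) ∩ J ≤ (x) J` imply `H_1(x, A/J) = 0`. -/
theorem koszulH1Zero_quot {n : ℕ} (x : Fin n → A) (hx : CInt.KoszulH1Zero x A) (J : Ideal A)
    (hIJ : Ideal.span (Set.range x) ⊓ J ≤ Ideal.span (Set.range x) * J) :
    CInt.KoszulH1Zero x (A ⧸ J) := by
  rw [koszulH1Zero_iff] at hx ⊢
  intro m hm
  choose a ha using fun i => Ideal.Quotient.mk_surjective (m i)
  have hs : ∑ i, x i * a i ∈ Ideal.span (Set.range x) ⊓ J := by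
    constructor
    · exact Ideal.sum_mem _ fun i _ => Ideal.mul_mem_right _ _ (Ideal.subset_span ⟨i, rfl⟩)
    · change ∑ i, x i * a i ∈ J
      rw [← Ideal.Quotient.eq_zero_iff_mem, map_sum, ← hm]
      refine Finset.sum_congr rfl fun i _ => ?_
      rw [map_mul, ha, Algebra.smul_def]
      rfl
  have hs' := hIJ hs
  have h4 : ∑ i, x i * a i ∈ Submodule.map (Submodule.subtype J)
      (Ideal.span (Set.range x) • (⊤ : Submodule A J)) := by
    rw [Submodule.map_smul'', Submodule.map_subtype_top]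
    exact hs'
  obtain ⟨y, hy, hys⟩ := h4
  rw [SetLike.mem_coe, mem_span_range_smul_top_iff] at hy
  obtain ⟨j, hj⟩ := hy
  have hj' : ∑ i, x i * a i = ∑ i, x i * (j i : A) := by
    rw [← hys, hj, Submodule.subtype_apply, Submodule.coe_sum]
    refine Finset.sum_congr rfl fun i _ => ?_
    rw [Submodule.coe_smul, smul_eq_mul]
  set b : Fin n → A := fun i => a i - (j i : A) with hb
  have hbrel : ∑ i, x i • b i = 0 := by
    simp only [hb, smul_eq_mul, mul_sub, Finset.sum_sub_distrib]
    rw [hj', sub_self]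
  have hbmem := hx b hbrel
  set φ : (Fin n → A) →ₗ[A] (Fin n → A ⧸ J) := (Submodule.mkQ J).compLeft (Fin n) with hφ
  have hφb : φ b = m := by
    funext i
    rw [hφ, LinearMap.compLeft_apply, Function.comp_apply, hb, Submodule.mkQ_apply]
    change Ideal.Quotient.mk J (a i - (j i : A)) = m i
    rw [map_sub, ha, Ideal.Quotient.eq_zero_iff_mem.mpr (j i).2, sub_zero]
  have hφsingle : ∀ (i : Fin n) (y : A),
      φ (Pi.single i y) = Pi.single i (Submodule.Quotient.mk y : A ⧸ J) := by
    intro i y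
    funext k
    rw [hφ, LinearMap.compLeft_apply, Function.comp_apply, Submodule.mkQ_apply]
    by_cases h : k = i
    · subst h; simp
    · rw [Pi.single_eq_of_ne h, Pi.single_eq_of_ne h]; rfl
  rw [← hφb]
  have h5 : φ b ∈ Submodule.map φ (Submodule.span A (T x A)) := Submodule.mem_map_of_mem hbmem
  rw [Submodule.map_span] at h5
  refine Submodule.span_mono ?_ h5
  rintro _ ⟨v, ⟨i, k, y, rfl⟩, rfl⟩
  refine ⟨i, k, Submodule.Quotient.mk y, ?_⟩
  rw [map_sub, map_smul, map_smul, hφsingle, hφsingle]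

end tor

end Groth.Agent.TorReg
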