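import Groth.Agent.Lib.TorPd_helper5
import Groth.Agent.Lib.TorReg_helper5
import Groth.Agent.Lib.Regular3_helper5

/-!
# Global dimension of a regular local ring (helper5)

Over a regular local ring of dimension `d` every module has projective dimension `≤ d`.
* `Tor_n(k, Y) = 0` for `n > d` (first-variable long exact sequence along a regular system of
  parameters), hence `pd M ≤ d` for finite `M` (`TorPd.pd_of_tor`);
* Baer's criterion through `Ext¹(R/I, -)` and dimension shifting give `id N ≤ d` for all `N`.
-/

set_option autoImplicit false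
set_option maxHeartbeats 400000
universe u
open CategoryTheory CategoryTheory.Limits Abelian IsLocalRing RingTheory.Sequence

namespace Groth.Agent.GlDim

open Groth.Agent.TorLES Groth.Agent.Lib.RegFlat3

section torvanish

variable {A : Type u} [CommRing A]

/-- if `fs` is weakly regular on `A/I₀` and `Tor_n(A/I₀, Y) = 0` for `n > c`, then
`Tor_n(A/(I₀ + (fs)), Y) = 0` for `n > c + length fs`. -/
theorem torZero_quot_sup_gt (Y : Type u) [AddCommGroup Y] [Module A Y]
    (fs : List A) : ∀ (I₀ : Ideal A) (c : ℕ), (∀ n, c < n → TorZero A n (A ⧸ I₀) Y) →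
    IsWeaklyRegular (A ⧸ (I₀ • ⊤ : Submodule A A)) fs →
    ∀ n, c + fs.length < n → TorZero A n (A ⧸ (I₀ ⊔ Ideal.ofList fs)) Y := by
  induction fs with
  | nil =>
    intro I₀ c h _ n hn
    have e : I₀ ⊔ Ideal.ofList ([] : List A) = I₀ := by rw [Ideal.ofList_nil, sup_bot_eq]
    rw [e]
    exact h n (by simpa using hn)
  | cons r rs ih =>
    intro I₀ c h hA n hn
    rw [isWeaklyRegular_cons_iff] at hA
    have hrA : IsSMulRegular (A ⧸ I₀) r :=
      ((Submodule.quotEquivOfEq (I₀ • ⊤ : Submodule A A) I₀
        (by rw [smul_eq_mul, Ideal.mul_top])).isSMulRegular_congr r).mp hA.1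
    have hinj : Function.Injective (LinearMap.lsmul A (A ⧸ I₀) r) := fun a b hab => hrA hab
    have hsurj : Function.Surjective (Submodule.mapQ I₀ (I₀ ⊔ Ideal.span {r}) LinearMap.id (by
        rw [Submodule.comap_id]; exact le_sup_left)) := by
      intro y
      obtain ⟨a, rfl⟩ := Submodule.Quotient.mk_surjective _ y
      exact ⟨Submodule.Quotient.mk a, rfl⟩
    have step : ∀ n, c + 1 < n → TorZero A n (A ⧸ (I₀ ⊔ Ideal.span {r})) Y := by
      intro n hn
      obtain ⟨m, rfl⟩ : ∃ m, n = m + 1 := ⟨n - 1, by omega⟩
      exact torZero_succ_right (LinearMap.lsmul A (A ⧸ I₀) r) _ Y hinj (exact_lsmul_mapQ I₀ r)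
        hsurj m (h (m + 1) (by omega)) (h m (by omega))
    have := ih (I₀ ⊔ Ideal.span {r}) (c + 1) step
      (((quotSupEquiv A I₀ r).isWeaklyRegular_congr rs).mp hA.2) n (by
        rw [List.length_cons] at hn; omega)
    have e : I₀ ⊔ Ideal.ofList (r :: rs) = I₀ ⊔ Ideal.span {r} ⊔ Ideal.ofList rs := by
      rw [sup_assoc, ← Ideal.ofList_cons]
    rw [e]
    exact this

/-- `Tor_n(A/(fs), Y) = 0` for `n > length fs` if `fs` is weakly regular on `A`. -/
theorem torZero_quot_gt (Y : Type u) [AddCommGroup Y] [Module A Y]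
    (fs : List A) (hA : IsWeaklyRegular A fs) (n : ℕ) (hn : fs.length < n) :
    TorZero A n (A ⧸ Ideal.ofList fs) Y := by
  have h0 : ∀ n, 0 < n → TorZero A n (A ⧸ (⊥ : Ideal A)) Y := by
    intro n hn
    obtain ⟨m, rfl⟩ : ∃ m, n = m + 1 := ⟨n - 1, by omega⟩
    haveI : Module.Flat A (A ⧸ (⊥ : Ideal A)) :=
      Module.Flat.of_linearEquiv (Submodule.quotEquivOfEqBot (⊥ : Submodule A A) rfl)
    exact torZero_succ_of_flat_left Y (A ⧸ (⊥ : Ideal A)) m
  have hA' : IsWeaklyRegular (A ⧸ ((⊥ : Ideal A) • ⊤ : Submodule A A)) fs :=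
    ((Submodule.quotEquivOfEqBot ((⊥ : Ideal A) • ⊤ : Submodule A A)
      (Submodule.bot_smul _)).isWeaklyRegular_congr fs).mpr hA
  have := torZero_quot_sup_gt Y fs ⊥ 0 h0 hA' n (by omega)
  have e : (⊥ : Ideal A) ⊔ Ideal.ofList fs = Ideal.ofList fs := bot_sup_eq _
  rw [e] at this
  exact this

end torvanish

section regular

variable (R : Type u) [CommRing R] [IsRegularLocalRing R]

/-- `Tor_n(k, Y) = 0` for `n > dim R` over a regular local ring. -/
theorem torZero_residueField_gt (d : ℕ) (hd : ringKrullDim R = d) (Y : Type u) [AddCommGroup Y]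
    [Module R Y] (n : ℕ) (hn : d < n) : TorZero R n (ResidueField R) Y := by
  classical
  obtain ⟨s, hcard, hspan⟩ := Submodule.FG.exists_span_finset_card_eq_spanFinrank
    (IsNoetherian.noetherian (maximalIdeal R))
  have hl_span : Ideal.ofList s.toList = maximalIdeal R := by
    rw [Groth.Agent.RegularLib.ofList_toList]; exact hspan
  have hl_len : s.toList.length = (maximalIdeal R).spanFinrank := by
    rw [Finset.length_toList]; exact hcard
  have hreg := Groth.Agent.RegularLib.isRegular_of_ofList_eq R s.toList hl_span hl_len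
  have hdim : (maximalIdeal R).spanFinrank = d := by
    have := Groth.Agent.RegularLib.spanFinrank_eq_dim R
    rw [hd] at this
    exact_mod_cast this
  have h1 := torZero_quot_gt Y s.toList hreg.toIsWeaklyRegular n (by omega)
  rw [hl_span] at h1
  exact h1

/-- finite modules over a regular local ring of dimension `d` have projective dimension `≤ d`. -/
theorem pd_finite (d : ℕ) (hd : ringKrullDim R = d) (M : Type u) [AddCommGroup M] [Module R M]
    [Module.Finite R M] : HasProjectiveDimensionLT (ModuleCat.of R M) (d + 1) :=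
  Groth.Agent.TorPd.pd_of_tor R d M (torZero_residueField_gt R d hd M (d + 1) (by omega))

end regular


section baer

variable {R : Type u} [CommRing R]

/-- Baer's criterion through `Ext¹(R/I, -)`. -/
theorem injective_of_ext_one (N : ModuleCat.{u} R)
    (h : ∀ (I : Ideal R) (e : Ext (ModuleCat.of R (R ⧸ I)) N 1), e = 0) : Injective N := by
  rw [← Module.injective_iff_injective_object]
  apply Module.Baer.injective
  intro I g
  have hex : Function.Exact I.subtype (Submodule.mkQ I) := LinearMap.exact_subtype_mkQ I
  have hS : (ShortComplex.moduleCatMk I.subtype (Submodule.mkQ I)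
      hex.linearMap_comp_eq_zero).ShortExact :=
    mk_shortExact I.subtype (Submodule.mkQ I) (Submodule.injective_subtype _) hex
      (Submodule.mkQ_surjective _)
  obtain ⟨φ, hφ⟩ := Ext.contravariant_sequence_exact₁ hS N (Ext.mk₀ (ModuleCat.ofHom g))
    (zero_add 1) (h I _)
  obtain ⟨φ', rfl⟩ := Ext.homEquiv₀.symm.surjective φ
  have h2 : ModuleCat.ofHom I.subtype ≫ φ' = ModuleCat.ofHom g := by
    have h3 := hφ
    simp at h3
    exact (Ext.mk₀_bijective _ _).1 h3
  refine ⟨φ'.hom, fun x mem => ?_⟩
  exact congrArg (fun f => f.hom ⟨x, mem⟩) h2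

/-- if `Ext^{j+1}(R/I, N) = 0` for all ideals `I` then `N` has injective dimension `≤ j`. -/
theorem hasInjectiveDimensionLT_of_ext_quot (j : ℕ) : ∀ (N : ModuleCat.{u} R),
    (∀ (I : Ideal R) (e : Ext (ModuleCat.of R (R ⧸ I)) N (j + 1)), e = 0) →
      HasInjectiveDimensionLT N (j + 1) := by
  induction j with
  | zero =>
    intro N h
    haveI := injective_of_ext_one N h
    infer_instance
  | succ j ih =>
    intro N h
    let S : ShortComplex (ModuleCat.{u} R) :=
      ShortComplex.mk (Injective.ι N) (cokernel.π (Injective.ι N)) (cokernel.condition _)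
    have hS : S.ShortExact := { exact := ShortComplex.exact_cokernel _ }
    have hC : HasInjectiveDimensionLT S.X₃ (j + 1) := ih S.X₃ (fun I e => by
      obtain ⟨x₂, rfl⟩ := Ext.covariant_sequence_exact₃ _ hS e rfl (h I _)
      haveI : Injective S.X₂ := by
        change Injective (Injective.under N)
        infer_instance
      rw [Ext.eq_zero_of_injective x₂, Ext.zero_comp])
    have hinj : Injective S.X₂ := by
      change Injective (Injective.under N)
      infer_instance
    exact (hS.hasInjectiveDimensionLT_X₃_iff j hinj).mp hC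

end baer

section main

/-- every module over a regular local ring of dimension `d` has injective dimension `≤ d`. -/
theorem hasInjectiveDimensionLT_of_regular (R : Type u) [CommRing R] [IsRegularLocalRing R]
    (d : ℕ) (hd : ringKrullDim R = d) (N : ModuleCat.{u} R) :
    HasInjectiveDimensionLT N (d + 1) :=
  hasInjectiveDimensionLT_of_ext_quot d N (fun I e => by
    haveI : HasProjectiveDimensionLT (ModuleCat.of R (R ⧸ I)) (d + 1) :=
      pd_finite R d hd (R ⧸ I)
    exact e.eq_zero_of_hasProjectiveDimensionLT (d + 1) le_rfl)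

/-- S0563: every module over a regular local ring of dimension `d` has projective dimension
`≤ d`. -/
theorem hasProjectiveDimensionLT_of_regular (R : Type u) [CommRing R] [IsRegularLocalRing R]
    (d : ℕ) (hd : ringKrullDim R = d) (M : Type u) [AddCommGroup M] [Module R M] :
    HasProjectiveDimensionLT (ModuleCat.of R M) (d + 1) := by
  rw [hasProjectiveDimensionLT_iff]
  intro i hi Y e
  haveI := hasInjectiveDimensionLT_of_regular R d hd Y
  exact e.eq_zero_of_hasInjectiveDimensionLT (d + 1) hi

/-- the Krull dimension of a regular local ring is the embedding dimension. -/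
theorem exists_dim (R : Type u) [CommRing R] [IsRegularLocalRing R] :
    ∃ d : ℕ, ringKrullDim R = d :=
  ⟨(maximalIdeal R).spanFinrank, (Groth.Agent.RegularLib.spanFinrank_eq_dim R).symm⟩

end main

end Groth.Agent.GlDim
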