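import Mathlib
import Groth.Prelude.Def_CAlg
import Groth.Agent.Lib.Depth_helper5

/-!
# Depth and localization (helper5)

`depth_I M = inf_{p ⊇ I} depth M_p` for finite modules over Noetherian rings.
-/

set_option autoImplicit false
universe u
open CategoryTheory

namespace Groth.Agent.DepthLib

open RingTheory.Sequence

variable {A : Type u} [CommRing A] (I : Ideal A) (M : Type u) [AddCommGroup M] [Module A M]

/-- `depth_I M ≤ depth M_p` for every prime `p ⊇ I` (no finiteness needed) -/
theorem idealDepth_le_depth_localization (p : Ideal A) [p.IsPrime] (hIp : I ≤ p) :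
    LocCoh.idealDepth I M ≤
      LocCoh.depth (Localization.AtPrime p) (LocalizedModule p.primeCompl M) := by
  rw [← ENat.forall_natCast_le_iff_le]
  intro n hn
  unfold LocCoh.depth
  rw [le_idealDepth_iff] at hn ⊢
  rcases hn with h | ⟨rs, h1, h2, h3⟩
  · left
    rw [eq_top_iff]
    intro y _
    induction y using LocalizedModule.induction_on with
    | h m s =>
      set N : Submodule (Localization.AtPrime p) (LocalizedModule p.primeCompl M) :=
        IsLocalRing.maximalIdeal (Localization.AtPrime p) • ⊤ with hN
      have hle : I • (⊤ : Submodule A M) ≤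
          (N.restrictScalars A).comap (LocalizedModule.mkLinearMap p.primeCompl M) := by
        rw [Submodule.smul_le]
        intro a ha m' _
        rw [Submodule.mem_comap, map_smul, Submodule.restrictScalars_mem,
          ← algebraMap_smul (Localization.AtPrime p) a]
        exact Submodule.smul_mem_smul
          ((IsLocalization.AtPrime.to_map_mem_maximal_iff _ p a).2 (hIp ha)) Submodule.mem_top
      have hm : m ∈ I • (⊤ : Submodule A M) := by rw [h]; trivial
      have h1 : LocalizedModule.mk m 1 ∈ N := hle hm
      have h2 : LocalizedModule.mk m s = Localization.mk 1 s • LocalizedModule.mk m 1 := by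
        rw [LocalizedModule.mk_smul_mk, one_smul, mul_one]
      rw [h2]
      exact N.smul_mem _ h1
  · right
    refine ⟨rs.map (algebraMap A (Localization.AtPrime p)), ?_, ?_, ?_⟩
    · exact IsWeaklyRegular.of_isLocalizedModule (Localization.AtPrime p) p.primeCompl
        (LocalizedModule.mkLinearMap p.primeCompl M) h1
    · intro r hr
      obtain ⟨a, ha, rfl⟩ := List.mem_map.1 hr
      exact (IsLocalization.AtPrime.to_map_mem_maximal_iff _ p a).2 (hIp (h2 a ha))
    · rw [List.length_map, h3]

/-- local-to-global: if `n ≤ depth M_p` for all primes `p ⊇ I` then `n ≤ depth_I M` -/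
theorem le_idealDepth_of_forall_localization [IsNoetherianRing A] (n : ℕ) :
    ∀ (M : Type u) [AddCommGroup M] [Module A M] [Module.Finite A M],
    (∀ (p : Ideal A) [p.IsPrime], I ≤ p → (n : ℕ∞) ≤
      LocCoh.depth (Localization.AtPrime p) (LocalizedModule p.primeCompl M)) →
    (n : ℕ∞) ≤ LocCoh.idealDepth I M := by
  induction n with
  | zero => intro M _ _ _ _; simp
  | succ n ih =>
    intro M _ _ _ h
    by_cases h1 : 1 ≤ LocCoh.idealDepth I M
    · rw [one_le_idealDepth_iff] at h1
      rcases h1 with htop | ⟨x, hx, hreg⟩
      · rw [le_idealDepth_iff]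
        exact Or.inl htop
      · rw [← le_idealDepth_quotSMulTop_iff I M hx hreg]
        apply ih (QuotSMulTop x M)
        intro p _ hIp
        have hp := h p hIp
        unfold LocCoh.depth at hp ⊢
        set S := p.primeCompl with hS
        set Ap := Localization.AtPrime p with hAp
        set xp : Ap := algebraMap A Ap x with hxp
        have hxmem : xp ∈ IsLocalRing.maximalIdeal Ap :=
          (IsLocalization.AtPrime.to_map_mem_maximal_iff _ p x).2 (hIp hx)
        have hregp : IsSMulRegular (LocalizedModule S M) xp := by
          have h0 : IsWeaklyRegular M [x] := by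
            rw [isWeaklyRegular_cons_iff]
            exact ⟨hreg, IsWeaklyRegular.nil A _⟩
          have := IsWeaklyRegular.of_isLocalizedModule Ap S (LocalizedModule.mkLinearMap S M) h0
          rw [List.map_cons, isWeaklyRegular_cons_iff] at this
          exact this.1
        set g : M →ₗ[A] QuotSMulTop x M := Submodule.mkQ _ with hg
        have hgsurj : Function.Surjective g := Submodule.mkQ_surjective _
        have hex0 : Function.Exact (x • LinearMap.id : M →ₗ[A] M) g := by
          intro m
          rw [hg, Submodule.mkQ_apply, Submodule.Quotient.mk_eq_zero]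
          constructor
          · intro hm
            obtain ⟨m', _, hm'⟩ := (Submodule.mem_smul_pointwise_iff_exists _ _ _).1 hm
            exact ⟨m', hm'⟩
          · rintro ⟨m', rfl⟩
            exact Submodule.smul_mem_pointwise_smul _ _ _ Submodule.mem_top
        have hexp := LocalizedModule.map_exact S (x • LinearMap.id : M →ₗ[A] M) g hex0
        have hfun : ∀ y : LocalizedModule S M,
            IsLocalizedModule.map S (LocalizedModule.mkLinearMap S M)
              (LocalizedModule.mkLinearMap S M) (x • LinearMap.id : M →ₗ[A] M) y = xp • y := by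
          intro y
          rw [LinearMap.map_smul, IsLocalizedModule.map_id, LinearMap.smul_apply, LinearMap.id_apply,
            hxp, algebraMap_smul]
        have hex : Function.Exact (xp • LinearMap.id : LocalizedModule S M →ₗ[Ap] LocalizedModule S M)
            (LocalizedModule.map S g) := by
          intro y
          have := hexp y
          rw [show (LocalizedModule.map S g) y =
            IsLocalizedModule.map S (LocalizedModule.mkLinearMap S M)
              (LocalizedModule.mkLinearMap S (QuotSMulTop x M)) g y from rfl, this]
          constructor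
          · rintro ⟨z, hz⟩
            exact ⟨z, by rw [← hz, hfun]; rfl⟩
          · rintro ⟨z, hz⟩
            exact ⟨z, by rw [hfun, ← hz]; rfl⟩
        rw [le_idealDepth_iff_of_smul_ses (IsLocalRing.maximalIdeal Ap) (LocalizedModule S M)
          (LocalizedModule S (QuotSMulTop x M)) hxmem hregp (LocalizedModule.map S g)
          (LocalizedModule.map_surjective S g hgsurj) hex n]
        exact hp
    · exfalso
      obtain ⟨q, hq, hIq⟩ := exists_associatedPrime_of_not_one_le I M h1
      haveI := hq.isPrime
      have hass := Module.associatedPrimes.mem_associatedPrimes_atPrime_of_mem_associatedPrimes hq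
      have hnot := not_one_le_idealDepth_of_le_associatedPrime
        (IsLocalRing.maximalIdeal (Localization.AtPrime q)) (LocalizedModule q.primeCompl M) _ hass
        le_rfl
      apply hnot
      have := h q hIq
      unfold LocCoh.depth at this
      refine le_trans ?_ this
      exact_mod_cast Nat.succ_le_succ (Nat.zero_le n)

/-- **depth is local**: `depth_I M = inf_{p ⊇ I} depth M_p` -/
theorem idealDepth_eq_iInf [IsNoetherianRing A] [Module.Finite A M] :
    LocCoh.idealDepth I M = ⨅ (p : PrimeSpectrum A) (_ : I ≤ p.asIdeal),
      LocCoh.depth (Localization.AtPrime p.asIdeal) (LocalizedModule p.asIdeal.primeCompl M) := by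
  apply le_antisymm
  · apply le_iInf₂
    intro p hp
    exact idealDepth_le_depth_localization I M p.asIdeal hp
  · rw [← ENat.forall_natCast_le_iff_le]
    intro n hn
    apply le_idealDepth_of_forall_localization I n M
    intro p _ hIp
    exact le_trans hn (iInf₂_le (⟨p, inferInstance⟩ : PrimeSpectrum A) hIp)

/-- over a Noetherian local ring, `depth M ≤ dim Supp M` for nonzero finite `M` -/
theorem depth_le_supportDim (R : Type u) [CommRing R] [IsLocalRing R] [IsNoetherianRing R]
    (N : Type u) [AddCommGroup N] [Module R N] [Module.Finite R N] [Nontrivial N] :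
    ((LocCoh.depth R N : ℕ∞) : WithBot ℕ∞) ≤ Module.supportDim R N := by
  have hne : Module.supportDim R N ≠ ⊥ := Module.supportDim_ne_bot_of_nontrivial R N
  obtain ⟨t, ht⟩ := WithBot.ne_bot_iff_exists.1 hne
  rw [← ht, WithBot.coe_le_coe, ← ENat.forall_natCast_le_iff_le]
  intro n hn
  unfold LocCoh.depth at hn
  rw [le_idealDepth_iff] at hn
  rcases hn with h | ⟨rs, h1, h2, h3⟩
  · exfalso
    have := Submodule.eq_bot_of_le_smul_of_le_jacobson_bot (IsLocalRing.maximalIdeal R)
      (⊤ : Submodule R N) Module.Finite.fg_top (by rw [h])
      (IsLocalRing.maximalIdeal_le_jacobson _)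
    exact top_ne_bot this
  · have hreg : IsRegular N rs :=
      (IsLocalRing.isRegular_iff_isWeaklyRegular_of_subset_maximalIdeal h2).2 h1
    have hdim := Module.supportDim_add_length_eq_supportDim_of_isRegular rs hreg
    haveI : Nontrivial (N ⧸ Ideal.ofList rs • (⊤ : Submodule R N)) :=
      Submodule.Quotient.nontrivial_iff.2 hreg.2.symm
    have hne' : Module.supportDim R (N ⧸ Ideal.ofList rs • (⊤ : Submodule R N)) ≠ ⊥ :=
      Module.supportDim_ne_bot_of_nontrivial R _
    obtain ⟨t', ht'⟩ := WithBot.ne_bot_iff_exists.1 hne'
    rw [← ht', ← ht, h3] at hdim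
    have : t' + (n : ℕ∞) = t := by exact_mod_cast hdim
    rw [← this]
    exact le_add_self

end Groth.Agent.DepthLib
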