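import Mathlib
import Groth.Prelude.Def_CAlg
import Groth.Agent.Lib.DepthLoc_helper5

/-!
# Depth and maximal regular sequences (helper5)
-/

set_option autoImplicit false
universe u

namespace Groth.Agent.DepthLib

open RingTheory.Sequence Pointwise

variable {A : Type u} [CommRing A] [IsNoetherianRing A] (I : Ideal A)

/-- depth drops by the length along a weakly regular sequence in `I` -/
theorem idealDepth_quot_ofList_add_length (rs : List A) :
    ∀ (M : Type u) [AddCommGroup M] [Module A M] [Module.Finite A M],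
      IsWeaklyRegular M rs → (∀ r ∈ rs, r ∈ I) →
      LocCoh.idealDepth I (M ⧸ (Ideal.ofList rs • ⊤ : Submodule A M)) + rs.length =
        LocCoh.idealDepth I M := by
  induction rs with
  | nil =>
    intro M _ _ _ _ _
    rw [List.length_nil, Nat.cast_zero, add_zero]
    apply idealDepth_congr
    exact Submodule.quotEquivOfEqBot _ (by rw [Ideal.ofList_nil, Submodule.bot_smul])
  | cons r rs ih =>
    intro M _ _ _ hreg hmem
    rw [isWeaklyRegular_cons_iff] at hreg
    have hr : r ∈ I := hmem r List.mem_cons_self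
    have hmem' : ∀ r' ∈ rs, r' ∈ I := fun r' hr' => hmem r' (List.mem_cons_of_mem _ hr')
    have h1 := ih (QuotSMulTop r M) hreg.2 hmem'
    have h2 := idealDepth_quotSMulTop_add_one I M hr hreg.1
    have h3 := idealDepth_congr I _
      (Submodule.quotOfListConsSMulTopEquivQuotSMulTopInner M r rs)
    rw [h3, List.length_cons, ← h2, ← h1]
    push_cast
    ring

variable (M : Type u) [AddCommGroup M] [Module A M] [Module.Finite A M]

/-- if `IM ≠ M` the depth is finite -/
theorem idealDepth_ne_top (hIM : I • (⊤ : Submodule A M) ≠ ⊤) : LocCoh.idealDepth I M ≠ ⊤ := by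
  -- there is a prime p ⊇ I in the support of M
  have hne : Module.support A (M ⧸ (I • ⊤ : Submodule A M)) ≠ ∅ := by
    rw [Ne, Module.support_eq_empty_iff, not_subsingleton_iff_nontrivial,
      Submodule.Quotient.nontrivial_iff]
    exact hIM
  obtain ⟨p, hp⟩ := Set.nonempty_iff_ne_empty.2 hne
  rw [Module.support_quotient] at hp
  obtain ⟨hpM, hpI⟩ := hp
  have hIp : I ≤ p.asIdeal := by
    intro a ha
    exact hpI ha
  haveI : Nontrivial (LocalizedModule p.asIdeal.primeCompl M) :=
    (Module.mem_support_iff (p := p)).1 hpM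
  have h1 := idealDepth_le_depth_localization I M p.asIdeal hIp
  have h2 := depth_le_supportDim (Localization.AtPrime p.asIdeal)
    (LocalizedModule p.asIdeal.primeCompl M)
  have h3 : Module.supportDim (Localization.AtPrime p.asIdeal)
      (LocalizedModule p.asIdeal.primeCompl M) < ⊤ :=
    lt_of_le_of_lt (Module.supportDim_le_ringKrullDim _ _) ringKrullDim_lt_top
  intro htop
  rw [htop] at h1
  rw [top_le_iff] at h1
  rw [h1] at h2
  exact absurd (lt_of_le_of_lt h2 h3) (by simp)

/-- a weakly regular sequence in `I` that cannot be extended has length `depth_I M` -/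
theorem length_eq_idealDepth_of_maximal (hIM : I • (⊤ : Submodule A M) ≠ ⊤) (rs : List A)
    (hreg : IsWeaklyRegular M rs) (hmem : ∀ r ∈ rs, r ∈ I)
    (hmax : ∀ r ∈ I, ¬ IsWeaklyRegular M (rs ++ [r])) :
    (rs.length : ℕ∞) = LocCoh.idealDepth I M := by
  have h1 := idealDepth_quot_ofList_add_length I rs M hreg hmem
  have h0 : ¬ 1 ≤ LocCoh.idealDepth I (M ⧸ (Ideal.ofList rs • ⊤ : Submodule A M)) := by
    rw [one_le_idealDepth_iff]
    rintro (htop | ⟨r, hr, hrreg⟩)
    · -- I (M/rsM) = M/rsM implies IM = M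
      apply hIM
      rw [eq_top_iff]
      intro m _
      have hm : (Submodule.Quotient.mk m : M ⧸ (Ideal.ofList rs • ⊤ : Submodule A M)) ∈
          I • (⊤ : Submodule A (M ⧸ (Ideal.ofList rs • ⊤ : Submodule A M))) := by
        rw [htop]; trivial
      have hmap : I • (⊤ : Submodule A (M ⧸ (Ideal.ofList rs • ⊤ : Submodule A M))) =
          (I • (⊤ : Submodule A M)).map (Submodule.mkQ _) := by
        rw [Submodule.map_smul'', Submodule.map_top, Submodule.range_mkQ]
      rw [hmap] at hm
      obtain ⟨m', hm', hmm'⟩ := hm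
      rw [Submodule.mkQ_apply, Submodule.Quotient.eq] at hmm'
      have hle : (Ideal.ofList rs • ⊤ : Submodule A M) ≤ I • ⊤ := by
        apply Submodule.smul_mono_left
        rw [Ideal.ofList, Ideal.span_le]
        intro r hr
        exact hmem r hr
      have : m = m' - (m' - m) := by abel
      rw [this]
      exact Submodule.sub_mem _ hm' (hle hmm')
    · apply hmax r hr
      rw [isWeaklyRegular_append_iff]
      refine ⟨hreg, ?_⟩
      rw [isWeaklyRegular_cons_iff]
      exact ⟨hrreg, IsWeaklyRegular.nil A _⟩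
  have h0' : LocCoh.idealDepth I (M ⧸ (Ideal.ofList rs • ⊤ : Submodule A M)) = 0 := by
    by_contra hne
    exact h0 (ENat.one_le_iff_ne_zero.2 hne)
  rw [h0', zero_add] at h1
  exact h1

/-- every weakly regular sequence in `I` extends to a maximal one -/
theorem exists_maximal_extension (hIM : I • (⊤ : Submodule A M) ≠ ⊤) (rs : List A)
    (hreg : IsWeaklyRegular M rs) (hmem : ∀ r ∈ rs, r ∈ I) :
    ∃ rs' : List A, rs <+: rs' ∧ IsWeaklyRegular M rs' ∧ (∀ r ∈ rs', r ∈ I) ∧
      ∀ r ∈ I, ¬ IsWeaklyRegular M (rs' ++ [r]) := by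
  obtain ⟨d, hd⟩ := ENat.ne_top_iff_exists.1 (idealDepth_ne_top I M hIM)
  have hlen : ∀ rs : List A, IsWeaklyRegular M rs → (∀ r ∈ rs, r ∈ I) → rs.length ≤ d := by
    intro rs h1 h2
    have : (rs.length : ℕ∞) ≤ LocCoh.idealDepth I M := by
      rw [le_idealDepth_iff]
      exact Or.inr ⟨rs, h1, h2, rfl⟩
    rw [← hd] at this
    exact_mod_cast this
  have key : ∀ k : ℕ, ∀ rs : List A, IsWeaklyRegular M rs → (∀ r ∈ rs, r ∈ I) →
      d - rs.length = k →
      ∃ rs' : List A, rs <+: rs' ∧ IsWeaklyRegular M rs' ∧ (∀ r ∈ rs', r ∈ I) ∧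
        ∀ r ∈ I, ¬ IsWeaklyRegular M (rs' ++ [r]) := by
    intro k
    induction k with
    | zero =>
      intro rs h1 h2 hk
      refine ⟨rs, List.prefix_refl _, h1, h2, ?_⟩
      intro r hr hcon
      have := hlen (rs ++ [r]) hcon (by
        intro r' hr'
        rcases List.mem_append.1 hr' with h | h
        · exact h2 r' h
        · rw [List.mem_singleton] at h; rw [h]; exact hr)
      have h3 := hlen rs h1 h2
      simp at this
      omega
    | succ k ih =>
      intro rs h1 h2 hk
      by_cases hmax : ∀ r ∈ I, ¬ IsWeaklyRegular M (rs ++ [r])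
      · exact ⟨rs, List.prefix_refl _, h1, h2, hmax⟩
      · push Not at hmax
        obtain ⟨r, hr, hcon⟩ := hmax
        have h2' : ∀ r' ∈ rs ++ [r], r' ∈ I := by
          intro r' hr'
          rcases List.mem_append.1 hr' with h | h
          · exact h2 r' h
          · rw [List.mem_singleton] at h; rw [h]; exact hr
        obtain ⟨rs', hpre, h3, h4, h5⟩ := ih (rs ++ [r]) hcon h2' (by simp; omega)
        exact ⟨rs', (List.prefix_append rs [r]).trans hpre, h3, h4, h5⟩
  exact key _ rs hreg hmem rfl

end Groth.Agent.DepthLib
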