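import Groth.Agent.Lib.Serre2_helper5
import Groth.Agent.Lib.DepthSeq_helper5

/-!
# The Auslander–Buchsbaum formula (helper5)

`depth R = pd M + depth M` for a nonzero finite module of finite projective dimension over a
Noetherian local ring.  Induction on `depth M` (Mathlib: `pd (M/xM) = pd M + 1`); the case
`depth M = 0` is a `Tor` computation against `R/(xs)` for a maximal `R`-regular sequence `xs`.
-/

set_option autoImplicit false
set_option maxHeartbeats 400000
universe u
open CategoryTheory CategoryTheory.Limits Abelian IsLocalRing TensorProduct RingTheory.Sequence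
open Pointwise

namespace Groth.Agent.AB

open Groth.Agent.TorLES Groth.Agent.TorBal Groth.Agent.DepthLib Groth.Agent.Serre

lemma enat_eq_zero_of_add_eq {D : ℕ∞} {t : ℕ} (h : D + t = t) : D = 0 := by
  induction D using ENat.recTopCoe with
  | top => simp at h
  | coe d =>
    have h1 : d + t = t := by exact_mod_cast h
    have h2 : d = 0 := by omega
    rw [h2]; rfl

lemma enat_eq_of_add_one_eq {D : ℕ∞} {n : ℕ} (h : D + 1 = ((n + 1 : ℕ) : ℕ∞)) : D = n := by
  induction D using ENat.recTopCoe with
  | top => exact absurd h (by rw [top_add]; exact ENat.top_ne_natCast _)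
  | coe d =>
    have h1 : d + 1 = n + 1 := by exact_mod_cast h
    have h2 : d = n := by omega
    rw [h2]

variable (R : Type u) [CommRing R] [IsLocalRing R] [IsNoetherianRing R]

lemma subsingleton_of_smul_top (M : Type u) [AddCommGroup M] [Module R M] [Module.Finite R M]
    (h : maximalIdeal R • (⊤ : Submodule R M) = ⊤) : Subsingleton M := by
  have hbot : (⊤ : Submodule R M) = ⊥ :=
    Submodule.eq_bot_of_le_smul_of_le_jacobson_bot _ ⊤ Module.Finite.fg_top (by rw [h])
      (maximalIdeal_le_jacobson _)
  rw [← Submodule.subsingleton_iff R]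
  exact subsingleton_of_bot_eq_top hbot.symm

/-- depth zero gives a socle element. -/
theorem exists_socle_of_depth_zero (N : Type u) [AddCommGroup N] [Module R N] [Module.Finite R N]
    (h : ¬ 1 ≤ LocCoh.idealDepth (maximalIdeal R) N) :
    ∃ w : N, w ≠ 0 ∧ ∀ y ∈ maximalIdeal R, y • w = 0 := by
  obtain ⟨q, hq, hmq⟩ := exists_associatedPrime_of_not_one_le (maximalIdeal R) N h
  obtain ⟨hqp, w, hw⟩ := isAssociatedPrime_iff.mp hq
  have hmq' : maximalIdeal R = q := (maximalIdeal.isMaximal R).eq_of_le hqp.ne_top hmq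
  refine ⟨w, ?_, ?_⟩
  · intro h0
    have h1 : (1 : R) ∈ q := by
      rw [hw, Submodule.mem_colon_singleton, h0, smul_zero]
      exact Submodule.zero_mem _
    exact hqp.ne_top ((Ideal.eq_top_iff_one _).mpr h1)
  · intro y hy
    have h1 : y ∈ Submodule.colon (⊥ : Submodule R N) {w} := by
      rw [← hw, ← hmq']; exact hy
    rw [Submodule.mem_colon_singleton, Submodule.mem_bot] at h1
    exact h1

/-- the case `depth M = 0`. -/
theorem depth_eq_pd_of_socle (M : Type u) [AddCommGroup M] [Module R M] [Module.Finite R M]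
    (z : M) (hz : z ≠ 0) (hmz : ∀ y ∈ maximalIdeal R, y • z = 0) (e : ℕ)
    (h1 : HasProjectiveDimensionLT (ModuleCat.of R M) (e + 1))
    (h2 : ¬ HasProjectiveDimensionLT (ModuleCat.of R M) e) :
    LocCoh.idealDepth (maximalIdeal R) R = e := by
  have hne : maximalIdeal R • (⊤ : Submodule R R) ≠ ⊤ := by
    rw [smul_eq_mul, Ideal.mul_top]
    exact (maximalIdeal.isMaximal R).ne_top
  obtain ⟨t, ht⟩ := ENat.ne_top_iff_exists.1 (idealDepth_ne_top (maximalIdeal R) R hne)
  have hle : (t : ℕ∞) ≤ LocCoh.idealDepth (maximalIdeal R) R := ht.le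
  rw [le_idealDepth_iff] at hle
  rcases hle with htop | ⟨xs, hreg, hmem, hlen⟩
  · exact absurd htop hne
  have h3 := idealDepth_quot_ofList_add_length (maximalIdeal R) xs R hreg hmem
  have h0 : LocCoh.idealDepth (maximalIdeal R)
      (R ⧸ (Ideal.ofList xs • ⊤ : Submodule R R)) = 0 := by
    rw [← ht, hlen] at h3
    exact enat_eq_zero_of_add_eq h3
  let e' : (R ⧸ (Ideal.ofList xs • ⊤ : Submodule R R)) ≃ₗ[R] (R ⧸ Ideal.ofList xs) :=
    Submodule.quotEquivOfEq _ _ (by rw [smul_eq_mul, Ideal.mul_top])
  have h0' : LocCoh.idealDepth (maximalIdeal R) (R ⧸ Ideal.ofList xs) = 0 := by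
    rw [← idealDepth_congr (maximalIdeal R) _ e']; exact h0
  obtain ⟨w, hw, hmw⟩ := exists_socle_of_depth_zero R (R ⧸ Ideal.ofList xs) (by
    rw [h0']; norm_num)
  have hxsm : Ideal.ofList xs ≤ maximalIdeal R := Ideal.span_le.mpr (fun r hr => hmem r hr)
  -- (a) `t ≤ e`
  have hte : t ≤ e := by
    by_contra hcon
    push Not at hcon
    obtain ⟨E⟩ := Groth.Agent.TorKoszul.tor_quot_equiv_hom M xs hreg
    have hzero : TorZero R xs.length (R ⧸ Ideal.ofList xs) M := by
      haveI := h1
      exact Groth.Agent.TorShift2.isZero_tor_of_projDim _ e _ _ (by omega)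
    haveI : Subsingleton (((Tor (ModuleCat.{u} R) xs.length).obj
        (ModuleCat.of R (R ⧸ Ideal.ofList xs))).obj (ModuleCat.of R M)) :=
      (torZero_iff_subsingleton _ _ _).mp hzero
    haveI : Subsingleton ((R ⧸ Ideal.ofList xs) →ₗ[R] M) := E.symm.injective.subsingleton
    let f : (R ⧸ Ideal.ofList xs) →ₗ[R] M :=
      Submodule.liftQ _ (LinearMap.toSpanSingleton R M z) (by
        intro r hr
        rw [LinearMap.mem_ker, LinearMap.toSpanSingleton_apply]
        exact hmz r (hxsm hr))
    have hf : f (Submodule.Quotient.mk 1) = z := by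
      change (1 : R) • z = z
      exact one_smul _ _
    have hf0 : f = 0 := Subsingleton.elim _ _
    rw [hf0, LinearMap.zero_apply] at hf
    exact hz hf.symm
  -- (b) `e ≤ t`
  have het : e ≤ t := by
    by_contra hcon
    push Not at hcon
    obtain ⟨e₀, rfl⟩ : ∃ e₀, e = e₀ + 1 := ⟨e - 1, by omega⟩
    apply h2
    apply Groth.Agent.TorPd.pd_of_tor R e₀ M
    obtain ⟨ι, hι⟩ := exists_injective_residue w hw hmw
    have hex := LinearMap.exact_map_mkQ_range ι
    have hp := Submodule.mkQ_surjective (LinearMap.range ι)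
    have h3' : TorZero R (e₀ + 1 + 1) ((R ⧸ Ideal.ofList xs) ⧸ LinearMap.range ι) M := by
      haveI := h1
      exact Groth.Agent.TorShift2.isZero_tor_of_projDim _ (e₀ + 1) _ _ (Nat.lt_succ_self _)
    have h2' : TorZero R (e₀ + 1) (R ⧸ Ideal.ofList xs) M :=
      Groth.Agent.GlDim.torZero_quot_gt M xs hreg (e₀ + 1) (by omega)
    exact torZero_left ι (LinearMap.range ι).mkQ M hι hex hp (e₀ + 1) h3' h2'
  rw [← ht]
  have : t = e := le_antisymm hte het
  rw [this]

/-- induction on `depth M`. -/
theorem auslander_buchsbaum_aux : ∀ (n : ℕ) (M : Type u) [AddCommGroup M] [Module R M]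
    [Module.Finite R M] [Nontrivial M] (e : ℕ),
    LocCoh.idealDepth (maximalIdeal R) M = n → projectiveDimension (ModuleCat.of R M) = e →
      LocCoh.idealDepth (maximalIdeal R) R = ((e + n : ℕ) : ℕ∞) := by
  intro n
  induction n with
  | zero =>
    intro M _ _ _ _ e hdepth hpd
    obtain ⟨z, hz, hmz⟩ := exists_socle_of_depth_zero R M (by rw [hdepth]; norm_num)
    have h1 : HasProjectiveDimensionLT (ModuleCat.of R M) (e + 1) :=
      (projectiveDimension_le_iff _ e).mp hpd.le
    have h2 : ¬ HasProjectiveDimensionLT (ModuleCat.of R M) e := by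
      intro h
      have h3 := (projectiveDimension_lt_iff (X := ModuleCat.of R M) (n := e)).mpr h
      rw [hpd] at h3
      exact lt_irrefl _ h3
    rw [depth_eq_pd_of_socle R M z hz hmz e h1 h2, add_zero]
  | succ n ih =>
    intro M _ _ _ _ e hdepth hpd
    have hne : maximalIdeal R • (⊤ : Submodule R M) ≠ ⊤ :=
      fun h => not_subsingleton M (subsingleton_of_smul_top R M h)
    have h1 : 1 ≤ LocCoh.idealDepth (maximalIdeal R) M := by
      rw [hdepth]
      exact_mod_cast Nat.succ_le_succ (Nat.zero_le n)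
    rw [one_le_idealDepth_iff] at h1
    rcases h1 with htop | ⟨x, hx, hreg⟩
    · exact absurd htop hne
    haveI : Nontrivial (QuotSMulTop x M) := by
      apply Submodule.Quotient.nontrivial_iff.mpr
      intro htop
      apply hne
      apply le_antisymm le_top
      calc (⊤ : Submodule R M) = x • (⊤ : Submodule R M) := htop.symm
        _ = Ideal.span {x} • (⊤ : Submodule R M) :=
            (Submodule.ideal_span_singleton_smul x ⊤).symm
        _ ≤ maximalIdeal R • ⊤ :=
            Submodule.smul_mono_left ((Ideal.span_singleton_le_iff_mem _).mpr hx)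
    have hd := idealDepth_quotSMulTop_add_one (maximalIdeal R) M hx hreg
    rw [hdepth] at hd
    have hd' : LocCoh.idealDepth (maximalIdeal R) (QuotSMulTop x M) = n :=
      enat_eq_of_add_one_eq hd
    haveI : Module.Finite R (ModuleCat.of R M) := inferInstanceAs (Module.Finite R M)
    have hpd' := ModuleCat.projectiveDimension_quotSMulTop_eq_succ_of_isSMulRegular
      (ModuleCat.of R M) x hreg hx
    rw [hpd] at hpd'
    have hpd'' : projectiveDimension (ModuleCat.of R (QuotSMulTop x M)) = ((e + 1 : ℕ) : ℕ) := by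
      first
        | exact_mod_cast hpd'
        | (rw [Nat.cast_succ]; exact hpd')
        | (push_cast; exact hpd')
    have := ih (QuotSMulTop x M) (e + 1) hd' hpd''
    rw [this, Nat.add_right_comm, Nat.add_assoc]

/-- **Auslander–Buchsbaum**. -/
theorem auslander_buchsbaum (M : Type u) [AddCommGroup M] [Module R M] [Module.Finite R M]
    [Nontrivial M] (e : ℕ) (he : projectiveDimension (ModuleCat.of R M) = e) :
    LocCoh.depth R R = e + LocCoh.depth R M := by
  unfold LocCoh.depth
  have hne : maximalIdeal R • (⊤ : Submodule R M) ≠ ⊤ :=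
    fun h => not_subsingleton M (subsingleton_of_smul_top R M h)
  obtain ⟨n, hn⟩ := ENat.ne_top_iff_exists.1 (idealDepth_ne_top (maximalIdeal R) M hne)
  rw [auslander_buchsbaum_aux R n M e hn.symm he, ← hn]
  push_cast
  rfl

end Groth.Agent.AB
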