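import Mathlib
import Groth.Prelude.Def_CAlg
import Groth.Agent.Lib.Depth_helper5

/-!
# Depth under change of rings (helper5)

For a local homomorphism `A → B` of Noetherian local rings and a `B`-module `M` which is finite
over `A`, `depth_A M = depth_B M`.
-/

set_option autoImplicit false
universe u

namespace Groth.Agent.DepthLib

open RingTheory.Sequence Pointwise

section

variable (A B : Type u) [CommRing A] [CommRing B] [IsLocalRing A] [IsLocalRing B]
  [IsNoetherianRing A] [IsNoetherianRing B] [Algebra A B] [IsLocalHom (algebraMap A B)]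

theorem algebraMap_mem_maximalIdeal {a : A} (ha : a ∈ IsLocalRing.maximalIdeal A) :
    algebraMap A B a ∈ IsLocalRing.maximalIdeal B := by
  have h : (IsLocalRing.maximalIdeal A).map (algebraMap A B) ≤ IsLocalRing.maximalIdeal B :=
    ((IsLocalRing.local_hom_TFAE (algebraMap A B)).out 0 2 rfl rfl).mp ‹_›
  exact h (Ideal.mem_map_of_mem _ ha)

theorem subsingleton_of_smul_top_eq_top (M : Type u) [AddCommGroup M] [Module A M]
    [Module.Finite A M] (h : IsLocalRing.maximalIdeal A • (⊤ : Submodule A M) = ⊤) :
    Subsingleton M := by
  have hbot : (⊤ : Submodule A M) = ⊥ :=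
    Submodule.eq_bot_of_le_smul_of_le_jacobson_bot _ ⊤ Module.Finite.fg_top (by rw [h])
      (IsLocalRing.maximalIdeal_le_jacobson _)
  rw [← Submodule.subsingleton_iff A]
  exact subsingleton_of_bot_eq_top hbot.symm

/-- easy direction: `depth_A M ≤ depth_B M` -/
theorem depth_le_depth_of_isLocalHom (M : Type u) [AddCommGroup M] [Module B M] [Module A M]
    [IsScalarTower A B M] [Module.Finite A M] : LocCoh.depth A M ≤ LocCoh.depth B M := by
  rw [← ENat.forall_natCast_le_iff_le]
  intro n hn
  unfold LocCoh.depth at hn ⊢
  rw [le_idealDepth_iff] at hn ⊢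
  rcases hn with h | ⟨rs, h1, h2, h3⟩
  · haveI := subsingleton_of_smul_top_eq_top A M h
    exact Or.inl (Subsingleton.elim _ _)
  · right
    refine ⟨rs.map (algebraMap A B), (isWeaklyRegular_map_algebraMap_iff B M rs).2 h1, ?_, ?_⟩
    · intro r hr
      obtain ⟨a, ha, rfl⟩ := List.mem_map.1 hr
      exact algebraMap_mem_maximalIdeal A B (h2 a ha)
    · rw [List.length_map, h3]

/-- if `depth_B M ≥ 1` then `depth_A M ≥ 1` -/
theorem one_le_depth_of_isLocalHom (M : Type u) [AddCommGroup M] [Module B M] [Module A M]
    [IsScalarTower A B M] [Module.Finite A M] (h : 1 ≤ LocCoh.depth B M) :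
    1 ≤ LocCoh.depth A M := by
  classical
  haveI : Module.Finite B M := Module.Finite.of_restrictScalars_finite A B M
  haveI : IsNoetherian B M := isNoetherian_of_isNoetherianRing_of_finite B M
  by_contra hnot
  unfold LocCoh.depth at hnot h
  obtain ⟨q, hq, hmq⟩ := exists_associatedPrime_of_not_one_le _ _ hnot
  have hqm : q = IsLocalRing.maximalIdeal A :=
    ((IsLocalRing.maximalIdeal.isMaximal A).eq_of_le hq.isPrime.ne_top hmq).symm
  obtain ⟨_, m₀, hm₀⟩ := isAssociatedPrime_iff.1 hq
  have hm₀ne : m₀ ≠ 0 := by
    rintro rfl
    apply hq.isPrime.ne_top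
    rw [hm₀, Ideal.eq_top_iff_one, Submodule.mem_colon_singleton]
    simp
  have hm₀kill : ∀ a ∈ IsLocalRing.maximalIdeal A, a • m₀ = 0 := by
    intro a ha
    rw [← hqm, hm₀, Submodule.mem_colon_singleton, Submodule.mem_bot] at ha
    exact ha
  -- the socle-like submodule
  let N : Submodule B M :=
    { carrier := {m | ∀ a ∈ IsLocalRing.maximalIdeal A, a • m = 0}
      add_mem' := by
        intro x y hx hy a ha
        rw [smul_add, hx a ha, hy a ha, add_zero]
      zero_mem' := by
        intro a _
        exact smul_zero a
      smul_mem' := by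
        intro b x hx a ha
        rw [smul_comm, hx a ha, smul_zero] }
  have hNmem : ∀ m, m ∈ N ↔ ∀ a ∈ IsLocalRing.maximalIdeal A, a • m = 0 := fun m => Iff.rfl
  have hm₀N : m₀ ∈ N := hm₀kill
  have hNne : N ≠ ⊥ := by
    intro hbot
    rw [hbot, Submodule.mem_bot] at hm₀N
    exact hm₀ne hm₀N
  -- N is Artinian over A
  set NA : Submodule A M := N.restrictScalars A with hNA
  haveI : Module.Finite A NA := by
    haveI : IsNoetherian A M := isNoetherian_of_isNoetherianRing_of_finite A M
    infer_instance
  have htors : Module.IsTorsionBySet A NA (IsLocalRing.maximalIdeal A : Set A) := by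
    intro n a
    apply Subtype.ext
    exact n.2 a.1 a.2
  haveI : IsArtinian A NA := by
    letI : Module (IsLocalRing.ResidueField A) NA := Module.IsTorsionBySet.module htors
    haveI : IsScalarTower A (IsLocalRing.ResidueField A) NA :=
      Module.IsTorsionBySet.isScalarTower htors
    haveI : Module.Finite (IsLocalRing.ResidueField A) NA :=
      Module.Finite.of_restrictScalars_finite A _ NA
    haveI : IsArtinian (IsLocalRing.ResidueField A) NA := inferInstance
    exact isArtinian_of_surjective_algebraMap (S := A) (R := IsLocalRing.ResidueField A) (M := NA)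
      Ideal.Quotient.mk_surjective
  rcases (one_le_idealDepth_iff _ _).1 h with htop | ⟨y, hy, hyreg⟩
  · haveI := subsingleton_of_smul_top_eq_top B M htop
    exact hm₀ne (Subsingleton.elim _ _)
  · let f : NA →ₗ[A] NA :=
      { toFun := fun n => ⟨y • n.1, N.smul_mem y n.2⟩
        map_add' := by
          intro a b
          apply Subtype.ext
          exact smul_add y a.1 b.1
        map_smul' := by
          intro c a
          apply Subtype.ext
          exact smul_comm y c a.1 }
    have hfinj : Function.Injective f := by
      intro a b hab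
      apply Subtype.ext
      apply hyreg
      exact congrArg Subtype.val hab
    have hfsurj := IsArtinian.surjective_of_injective_endomorphism f hfinj
    have hle : N ≤ IsLocalRing.maximalIdeal B • N := by
      intro n hn
      obtain ⟨n', hn'⟩ := hfsurj ⟨n, hn⟩
      have h1 : y • n'.1 = n := congrArg Subtype.val hn'
      rw [← h1]
      exact Submodule.smul_mem_smul hy n'.2
    exact hNne (Submodule.eq_bot_of_le_smul_of_le_jacobson_bot _ N (IsNoetherian.noetherian N) hle
      (IsLocalRing.maximalIdeal_le_jacobson _))

/-- `depth_B M ≤ depth_A M` -/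
theorem le_depth_of_isLocalHom (n : ℕ) :
    ∀ (M : Type u) [AddCommGroup M] [Module B M] [Module A M] [IsScalarTower A B M]
      [Module.Finite A M], (n : ℕ∞) ≤ LocCoh.depth B M → (n : ℕ∞) ≤ LocCoh.depth A M := by
  induction n with
  | zero => intro M _ _ _ _ _ _; simp
  | succ n ih =>
    intro M _ _ _ _ _ hn
    haveI : Module.Finite B M := Module.Finite.of_restrictScalars_finite A B M
    have h1B : 1 ≤ LocCoh.depth B M := by
      refine le_trans ?_ hn
      exact_mod_cast Nat.succ_le_succ (Nat.zero_le n)
    have h1A := one_le_depth_of_isLocalHom A B M h1B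
    unfold LocCoh.depth at h1A hn ⊢
    rcases (one_le_idealDepth_iff _ _).1 h1A with htop | ⟨x, hx, hxreg⟩
    · rw [le_idealDepth_iff]
      exact Or.inl htop
    · have hx' := algebraMap_mem_maximalIdeal A B hx
      have hxreg' : IsSMulRegular M (algebraMap A B x) := by
        intro a b hab
        apply hxreg
        show x • a = x • b
        have h2 : algebraMap A B x • a = algebraMap A B x • b := hab
        rwa [algebraMap_smul, algebraMap_smul] at h2
      set P : Submodule B M := (algebraMap A B x) • (⊤ : Submodule B M) with hP
      set gB : M →ₗ[B] (M ⧸ P) := P.mkQ with hgB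
      set gA : M →ₗ[A] (M ⧸ P) := gB.restrictScalars A with hgA
      have hsurj : Function.Surjective gB := Submodule.mkQ_surjective _
      haveI : Module.Finite A (M ⧸ P) := Module.Finite.of_surjective gA hsurj
      haveI : Module.Finite B (M ⧸ P) := Module.Finite.of_surjective gB hsurj
      have hexB : Function.Exact ((algebraMap A B x) • LinearMap.id : M →ₗ[B] M) gB := by
        intro m
        rw [hgB, Submodule.mkQ_apply, Submodule.Quotient.mk_eq_zero]
        constructor
        · intro hm
          obtain ⟨m', _, hm'⟩ := (Submodule.mem_smul_pointwise_iff_exists _ _ _).1 hm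
          exact ⟨m', hm'⟩
        · rintro ⟨m', rfl⟩
          exact Submodule.smul_mem_pointwise_smul _ _ _ Submodule.mem_top
      have hexA : Function.Exact (x • LinearMap.id : M →ₗ[A] M) gA := by
        intro m
        have := hexB m
        rw [show gA m = gB m from rfl, this]
        constructor
        · rintro ⟨m', hm'⟩
          refine ⟨m', ?_⟩
          rw [← hm']
          simp
        · rintro ⟨m', hm'⟩
          refine ⟨m', ?_⟩
          rw [← hm']
          simp
      have h3 := (le_idealDepth_iff_of_smul_ses (IsLocalRing.maximalIdeal B) M (M ⧸ P) hx' hxreg'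
        gB hsurj hexB n).2 hn
      have h4 := ih (M ⧸ P) h3
      exact (le_idealDepth_iff_of_smul_ses (IsLocalRing.maximalIdeal A) M (M ⧸ P) hx hxreg
        gA hsurj hexA n).1 h4

/-- **depth is independent of the base ring** for local homomorphisms and modules finite over the
source -/
theorem depth_eq_of_isLocalHom (M : Type u) [AddCommGroup M] [Module B M] [Module A M]
    [IsScalarTower A B M] [Module.Finite A M] : LocCoh.depth A M = LocCoh.depth B M := by
  apply le_antisymm (depth_le_depth_of_isLocalHom A B M)
  rw [← ENat.forall_natCast_le_iff_le]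
  intro n hn
  exact le_depth_of_isLocalHom A B n M hn

end

end Groth.Agent.DepthLib
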