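import Mathlib

/-!
# Dévissage for vanishing of `Ext` over Noetherian rings (helper5)

* transport of `Subsingleton (Ext X Y n)` along isomorphisms, zero objects, short exact sequences;
* `ext_right_of_forall_prime`: if `Ext^n(M, A/p) = 0` for all primes `p` then `Ext^n(M, L) = 0` for
  every finite `L`;
* `ext_left_of_forall_prime`: if `Ext^n(A/p, N) = 0` for all primes `p` then `Ext^n(L, N) = 0` for
  every finite `L`.
-/

set_option autoImplicit false
universe u
open CategoryTheory CategoryTheory.Limits Abelian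

namespace Groth.Agent.ExtDev

section general

variable {C : Type*} [Category C] [Abelian C] [HasExt C]

lemma eq_zero_of_isZero_left {X Y : C} (hX : IsZero X) {n : ℕ} (e : Ext X Y n) : e = 0 := by
  rw [← Ext.mk₀_id_comp e, hX.eq_of_src (𝟙 X) 0, Ext.mk₀_zero, Ext.zero_comp]

lemma eq_zero_of_isZero_right {X Y : C} (hY : IsZero Y) {n : ℕ} (e : Ext X Y n) : e = 0 := by
  rw [← Ext.comp_mk₀_id e, hY.eq_of_src (𝟙 Y) 0, Ext.mk₀_zero, Ext.comp_zero]

lemma subsingleton_of_isZero_left {X : C} (Y : C) (hX : IsZero X) (n : ℕ) :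
    Subsingleton (Ext X Y n) :=
  ⟨fun a b => by rw [eq_zero_of_isZero_left hX a, eq_zero_of_isZero_left hX b]⟩

lemma subsingleton_of_isZero_right (X : C) {Y : C} (hY : IsZero Y) (n : ℕ) :
    Subsingleton (Ext X Y n) :=
  ⟨fun a b => by rw [eq_zero_of_isZero_right hY a, eq_zero_of_isZero_right hY b]⟩

lemma subsingleton_of_iso_right (X : C) {Y Y' : C} (i : Y ≅ Y') (n : ℕ)
    (h : Subsingleton (Ext X Y n)) : Subsingleton (Ext X Y' n) := by
  refine ⟨fun a b => ?_⟩
  have key : ∀ e : Ext X Y' n, e = 0 := by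
    intro e
    have h1 : e.comp (Ext.mk₀ i.inv) (add_zero n) = 0 := Subsingleton.elim _ _
    have h2 : (e.comp (Ext.mk₀ i.inv) (add_zero n)).comp (Ext.mk₀ i.hom) (add_zero n) = e := by
      rw [Ext.comp_assoc_of_third_deg_zero, Ext.mk₀_comp_mk₀, i.inv_hom_id, Ext.comp_mk₀_id]
    rw [← h2, h1, Ext.zero_comp]
  rw [key a, key b]

lemma subsingleton_of_iso_left {X X' : C} (Y : C) (i : X ≅ X') (n : ℕ)
    (h : Subsingleton (Ext X Y n)) : Subsingleton (Ext X' Y n) := by
  refine ⟨fun a b => ?_⟩
  have key : ∀ e : Ext X' Y n, e = 0 := by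
    intro e
    have h1 : (Ext.mk₀ i.hom).comp e (zero_add n) = 0 := Subsingleton.elim _ _
    have h2 : (Ext.mk₀ i.inv).comp ((Ext.mk₀ i.hom).comp e (zero_add n)) (zero_add n) = e := by
      rw [Ext.mk₀_comp_mk₀_assoc, i.inv_hom_id, Ext.mk₀_id_comp]
    rw [← h2, h1, Ext.comp_zero]
  rw [key a, key b]

lemma subsingleton_mid_right (X : C) {S : ShortComplex C} (hS : S.ShortExact) (n : ℕ)
    (h1 : Subsingleton (Ext X S.X₁ n)) (h3 : Subsingleton (Ext X S.X₃ n)) :
    Subsingleton (Ext X S.X₂ n) := by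
  refine ⟨fun a b => ?_⟩
  have key : ∀ e : Ext X S.X₂ n, e = 0 := by
    intro e
    obtain ⟨e', rfl⟩ := Ext.covariant_sequence_exact₂ X hS e (Subsingleton.elim _ _)
    rw [Subsingleton.elim e' 0, Ext.zero_comp]
  rw [key a, key b]

lemma subsingleton_mid_left (Y : C) {S : ShortComplex C} (hS : S.ShortExact) (n : ℕ)
    (h1 : Subsingleton (Ext S.X₁ Y n)) (h3 : Subsingleton (Ext S.X₃ Y n)) :
    Subsingleton (Ext S.X₂ Y n) := by
  refine ⟨fun a b => ?_⟩
  have key : ∀ e : Ext S.X₂ Y n, e = 0 := by
    intro e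
    obtain ⟨e', rfl⟩ := Ext.contravariant_sequence_exact₂ hS Y e (Subsingleton.elim _ _)
    rw [Subsingleton.elim e' 0, Ext.comp_zero]
  rw [key a, key b]

end general

section devissage

variable {A : Type u} [CommRing A] [IsNoetherianRing A]

/-- dévissage in the second variable. -/
theorem ext_right_of_forall_prime (M : ModuleCat.{u} A) (n : ℕ)
    (h : ∀ p : PrimeSpectrum A, Subsingleton (Ext M (ModuleCat.of A (A ⧸ p.asIdeal)) n))
    (L : Type u) [AddCommGroup L] [Module A L] [hL : Module.Finite A L] :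
    Subsingleton (Ext M (ModuleCat.of A L) n) := by
  induction hL using IsNoetherianRing.induction_on_isQuotientEquivQuotientPrime A with
  | subsingleton N =>
    exact subsingleton_of_isZero_right M (ModuleCat.isZero_of_subsingleton (ModuleCat.of A N)) n
  | quotient N p f =>
    exact subsingleton_of_iso_right M f.toModuleIso.symm n (h p)
  | exact N₁ N₂ N₃ f g hf hg hfg h₁ h₃ =>
    have hS : (ShortComplex.moduleCatMk f g hfg.linearMap_comp_eq_zero).ShortExact :=
      ModuleCat.shortComplex_shortExact _ hfg hf hg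
    exact subsingleton_mid_right M hS n h₁ h₃

/-- dévissage in the first variable. -/
theorem ext_left_of_forall_prime (N : ModuleCat.{u} A) (n : ℕ)
    (h : ∀ p : PrimeSpectrum A, Subsingleton (Ext (ModuleCat.of A (A ⧸ p.asIdeal)) N n))
    (L : Type u) [AddCommGroup L] [Module A L] [hL : Module.Finite A L] :
    Subsingleton (Ext (ModuleCat.of A L) N n) := by
  induction hL using IsNoetherianRing.induction_on_isQuotientEquivQuotientPrime A with
  | subsingleton N' =>
    exact subsingleton_of_isZero_left N (ModuleCat.isZero_of_subsingleton (ModuleCat.of A N')) n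
  | quotient N' p f =>
    exact subsingleton_of_iso_left N f.toModuleIso.symm n (h p)
  | exact N₁ N₂ N₃ f g hf hg hfg h₁ h₃ =>
    have hS : (ShortComplex.moduleCatMk f g hfg.linearMap_comp_eq_zero).ShortExact :=
      ModuleCat.shortComplex_shortExact _ hfg hf hg
    exact subsingleton_mid_left N hS n h₁ h₃

/-- `pd M ≤ n` as soon as `Ext^{n+1}(M, A/p) = 0` for all primes. -/
theorem hasProjectiveDimensionLT_of_forall_prime (M : Type u) [AddCommGroup M] [Module A M]
    [Module.Finite A M] (n : ℕ)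
    (h : ∀ p : PrimeSpectrum A,
      Subsingleton (Ext (ModuleCat.of A M) (ModuleCat.of A (A ⧸ p.asIdeal)) n)) :
    HasProjectiveDimensionLT (ModuleCat.of A M) n := by
  haveI : Module.Finite A (ModuleCat.of A M) := inferInstanceAs (Module.Finite A M)
  apply ModuleCat.hasProjectiveDimensionLT_of_forall_finite
  intro L hL
  exact ext_right_of_forall_prime (ModuleCat.of A M) n h L

end devissage

end Groth.Agent.ExtDev
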