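import Groth.Agent.Lib.ExtRees_helper5
import Groth.Agent.Lib.AusBuch_helper5
import Groth.Agent.Lib.DepthRingChange_helper5
import Groth.Agent.Lib.ExtDev_helper5

/-!
# Gorenstein local rings (helper5)

* `hasInjectiveDimensionLT_sharp`: `id M < N` as soon as `Ext^i(κ, M) = 0` for `i ≥ N`;
* `injDim_le_depth`: `id M ≤ depth A` for a finite module of finite injective dimension;
* `depth_lt_of_hasInjectiveDimensionLT`: `depth M ≤ id M`;
* `injDim_quot`, `injDim_of_quot`: `A` Gorenstein iff `A/(f)` Gorenstein (`f` regular);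
* `dim_eq_depth`: Gorenstein local rings are Cohen–Macaulay;
* `injDim_localization`, `dim_le_of_injDim`, `injDim_of_gorenstein`: globalisation.
-/

set_option autoImplicit false
set_option maxHeartbeats 400000
universe u
open CategoryTheory CategoryTheory.Limits Abelian IsLocalRing RingTheory.Sequence
open Pointwise

namespace Groth.Agent.Gor

open Groth.Agent.TorLES Groth.Agent.DepthLib Groth.Agent.Serre Groth.Agent.InjDimLocal
  Groth.Agent.GlDim Groth.Agent.RegularLib

section sharp

variable (A : Type u) [CommRing A] [IsLocalRing A] [IsNoetherianRing A]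
  (M : Type u) [AddCommGroup M] [Module A M] [Module.Finite A M]

/-- the sharp version of `InjDimLocal.hasInjectiveDimensionLT_of_ext_residueField`. -/
theorem hasInjectiveDimensionLT_sharp (N : ℕ)
    (h : ∀ i, N ≤ i → Subsingleton
      (Ext (ModuleCat.of A (ResidueField A)) (ModuleCat.of A M) i)) :
    HasInjectiveDimensionLT (ModuleCat.of A M) N := by
  rcases N with _ | N
  · have h0 := ext_quot_subsingleton M 0 h ⊥ 0 le_rfl
    have hsub : Subsingleton M := by
      refine ⟨fun a b => ?_⟩
      have key : ∀ m : M, m = 0 := by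
        intro m
        let φ : (A ⧸ (⊥ : Ideal A)) →ₗ[A] M :=
          Submodule.liftQ ⊥ (LinearMap.toSpanSingleton A M m) bot_le
        have h1 : Ext.mk₀ (ModuleCat.ofHom φ) =
            Ext.mk₀ (0 : ModuleCat.of A (A ⧸ (⊥ : Ideal A)) ⟶ ModuleCat.of A M) :=
          @Subsingleton.elim _ h0 _ _
        have h2 : ModuleCat.ofHom φ = 0 := (Ext.mk₀_bijective _ _).1 h1
        have h3 : φ (Submodule.Quotient.mk 1) = 0 :=
          congrArg (fun f => f.hom (Submodule.Quotient.mk (1 : A))) h2
        change (1 : A) • m = 0 at h3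
        rwa [one_smul] at h3
      rw [key a, key b]
    exact (ModuleCat.isZero_of_subsingleton (ModuleCat.of A M)).hasInjectiveDimensionLT_zero
  · apply hasInjectiveDimensionLT_of_ext_quot N
    intro I e
    exact @Subsingleton.elim _ (ext_quot_subsingleton M (N + 1) h I (N + 1) le_rfl) _ _

/-- the top `Ext(κ, M)` does not vanish. -/
theorem not_subsingleton_ext_top (r : ℕ)
    (h1 : HasInjectiveDimensionLT (ModuleCat.of A M) (r + 1))
    (h2 : ¬ HasInjectiveDimensionLT (ModuleCat.of A M) r) :
    ¬ Subsingleton (Ext (ModuleCat.of A (ResidueField A)) (ModuleCat.of A M) r) := by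
  intro hsub
  apply h2
  apply hasInjectiveDimensionLT_sharp A M r
  intro i hi
  rcases Nat.eq_or_lt_of_le hi with rfl | hlt
  · exact hsub
  · haveI := h1
    exact HasInjectiveDimensionLT.subsingleton _ (r + 1) i hlt _

/-- the injective dimension exists as a natural number. -/
theorem exists_injDim [Nontrivial M]
    (h : ∃ n, HasInjectiveDimensionLT (ModuleCat.of A M) n) :
    ∃ r, HasInjectiveDimensionLT (ModuleCat.of A M) (r + 1) ∧
      ¬ HasInjectiveDimensionLT (ModuleCat.of A M) r := by
  classical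
  have hfind := Nat.find_spec h
  rcases hn : Nat.find h with _ | r
  · rw [hn] at hfind
    exfalso
    have hz : IsZero (ModuleCat.of A M) := by
      haveI := hfind
      exact isZero_of_hasInjectiveDimensionLT_zero _
    exact not_subsingleton M (ModuleCat.isZero_iff_subsingleton.mp hz)
  · rw [hn] at hfind
    refine ⟨r, hfind, fun h' => ?_⟩
    have := Nat.find_min h (m := r) (by omega)
    exact this h'

/-- a maximal regular sequence and an embedding of the residue field in the quotient. -/
theorem exists_regular_seq_residue (t : ℕ)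
    (ht : LocCoh.idealDepth (maximalIdeal A) A = t) :
    ∃ xs : List A, IsWeaklyRegular A xs ∧ (∀ r ∈ xs, r ∈ maximalIdeal A) ∧ xs.length = t ∧
      ∃ ι : (A ⧸ maximalIdeal A) →ₗ[A] (A ⧸ Ideal.ofList xs), Function.Injective ι := by
  have hle : (t : ℕ∞) ≤ LocCoh.idealDepth (maximalIdeal A) A := ht.ge
  rw [le_idealDepth_iff] at hle
  have hne : maximalIdeal A • (⊤ : Submodule A A) ≠ ⊤ := by
    rw [smul_eq_mul, Ideal.mul_top]
    exact (maximalIdeal.isMaximal A).ne_top
  rcases hle with htop | ⟨xs, hreg, hmem, hlen⟩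
  · exact absurd htop hne
  have h3 := idealDepth_quot_ofList_add_length (maximalIdeal A) xs A hreg hmem
  have h0 : LocCoh.idealDepth (maximalIdeal A)
      (A ⧸ (Ideal.ofList xs • ⊤ : Submodule A A)) = 0 := by
    rw [ht, hlen] at h3
    exact Groth.Agent.AB.enat_eq_zero_of_add_eq h3
  let e' : (A ⧸ (Ideal.ofList xs • ⊤ : Submodule A A)) ≃ₗ[A] (A ⧸ Ideal.ofList xs) :=
    Submodule.quotEquivOfEq _ _ (by rw [smul_eq_mul, Ideal.mul_top])
  have h0' : LocCoh.idealDepth (maximalIdeal A) (A ⧸ Ideal.ofList xs) = 0 := by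
    rw [← idealDepth_congr (maximalIdeal A) _ e']; exact h0
  obtain ⟨w, hw, hmw⟩ := Groth.Agent.AB.exists_socle_of_depth_zero A (A ⧸ Ideal.ofList xs) (by
    rw [h0']; norm_num)
  obtain ⟨ι, hι⟩ := exists_injective_residue w hw hmw
  exact ⟨xs, hreg, hmem, hlen, ι, hι⟩

/-- `pd A/(xs) ≤ length xs`. -/
theorem hasPD_quot_regular (xs : List A) (hreg : IsWeaklyRegular A xs)
    (hmem : ∀ r ∈ xs, r ∈ maximalIdeal A) :
    HasProjectiveDimensionLT (ModuleCat.of A (A ⧸ Ideal.ofList xs)) (xs.length + 1) := by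
  haveI : Nontrivial (ModuleCat.of A A) := inferInstanceAs (Nontrivial A)
  haveI : Module.Finite A (ModuleCat.of A A) := inferInstanceAs (Module.Finite A A)
  haveI : Projective (ModuleCat.of A A) :=
    (IsProjective.iff_projective (R := A) (P := A)).mp inferInstance
  have h := ModuleCat.projectiveDimension_quotient_eq_add_length_of_isWeaklyRegular
    (ModuleCat.of A A) xs hreg hmem
  rw [ModuleCat.projectiveDimension_eq_zero_of_projective (ModuleCat.of A A), zero_add] at h
  have h1 : HasProjectiveDimensionLE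
      (ModuleCat.of A (A ⧸ (Ideal.ofList xs • ⊤ : Submodule A A))) xs.length :=
    (projectiveDimension_le_iff _ xs.length).mp h.le
  let e' : (A ⧸ (Ideal.ofList xs • ⊤ : Submodule A A)) ≃ₗ[A] (A ⧸ Ideal.ofList xs) :=
    Submodule.quotEquivOfEq _ _ (by rw [smul_eq_mul, Ideal.mul_top])
  haveI : HasProjectiveDimensionLT
      (ModuleCat.of A (A ⧸ (Ideal.ofList xs • ⊤ : Submodule A A))) (xs.length + 1) := h1
  exact hasProjectiveDimensionLT_of_iso e'.toModuleIso (xs.length + 1)

/-- **Bass**: `id M ≤ depth A`. -/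
theorem injDim_le_depth (t r : ℕ) (ht : LocCoh.idealDepth (maximalIdeal A) A = t)
    (h1 : HasInjectiveDimensionLT (ModuleCat.of A M) (r + 1))
    (h2 : ¬ HasInjectiveDimensionLT (ModuleCat.of A M) r) : r ≤ t := by
  by_contra hcon
  push Not at hcon
  obtain ⟨xs, hreg, hmem, hlen, ι, hι⟩ := exists_regular_seq_residue A t ht
  apply not_subsingleton_ext_top A M r h1 h2
  refine ⟨fun a b => ?_⟩
  have key : ∀ e : Ext (ModuleCat.of A (ResidueField A)) (ModuleCat.of A M) r, e = 0 := by
    intro e
    have hex := LinearMap.exact_map_mkQ_range ι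
    have hp := Submodule.mkQ_surjective (LinearMap.range ι)
    have hS := mk_shortExact ι (LinearMap.range ι).mkQ hι hex hp
    obtain ⟨e₂, he₂⟩ := Ext.contravariant_sequence_exact₁ hS (ModuleCat.of A M) e (add_comm 1 r)
      ((hasInjectiveDimensionLT_iff (X := ModuleCat.of A M) (n := r + 1)).mp h1 (r + 1) le_rfl _)
    have h0 : e₂ = 0 :=
      (hasProjectiveDimensionLT_iff (X := ModuleCat.of A (A ⧸ Ideal.ofList xs))
        (n := xs.length + 1)).mp (hasPD_quot_regular A xs hreg hmem) r (by omega) e₂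
    rw [← he₂, h0, Ext.comp_zero]
    rfl
  rw [key a, key b]

/-- `depth M ≤ id M`. -/
theorem depth_lt_of_hasInjectiveDimensionLT (t n : ℕ)
    (ht : LocCoh.idealDepth (maximalIdeal A) M = t)
    (h : HasInjectiveDimensionLT (ModuleCat.of A M) n) : t < n := by
  by_contra hcon
  push Not at hcon
  have h1 : ¬ ((t + 1 : ℕ) : ℕ∞) ≤ LocCoh.idealDepth (maximalIdeal A) M := by
    rw [ht]
    exact_mod_cast Nat.not_succ_le_self t
  apply h1
  rw [le_idealDepth_iff_ext]
  intro i hi
  rcases Nat.lt_or_ge i t with hlt | hge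
  · have h2 : ((t : ℕ) : ℕ∞) ≤ LocCoh.idealDepth (maximalIdeal A) M := ht.ge
    rw [le_idealDepth_iff_ext] at h2
    exact h2 i hlt
  · haveI := h
    exact HasInjectiveDimensionLT.subsingleton _ n i (by omega) _

end sharp

section quotient

variable {A : Type u} [CommRing A] [IsLocalRing A] [IsNoetherianRing A] (f : A)

open Groth.Agent.ExtRees

/-- `A` Gorenstein ⇒ `A/(f)` Gorenstein. -/
theorem injDim_quot [IsLocalRing (A ⧸ Ideal.span {f})] (hreg : IsSMulRegular A f) (n : ℕ)
    (h : HasInjectiveDimensionLT (ModuleCat.of A A) n) :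
    HasInjectiveDimensionLT
      (ModuleCat.of (A ⧸ Ideal.span {f}) (A ⧸ Ideal.span {f})) n := by
  apply hasInjectiveDimensionLT_sharp (A ⧸ Ideal.span {f}) (A ⧸ Ideal.span {f}) n
  intro i hi
  rw [subsingleton_iff_self f hreg i]
  haveI := h
  exact HasInjectiveDimensionLT.subsingleton _ n (i + 1) (by omega) _

/-- the residue field of `A/(f)` restricted to `A`. -/
noncomputable def resEquiv [IsLocalRing (A ⧸ Ideal.span {f})] :
    ResidueField A ≃ₗ[A] ↑((F (Ideal.span {f})).obj
      (ModuleCat.of (A ⧸ Ideal.span {f}) (ResidueField (A ⧸ Ideal.span {f})))) :=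
  haveI : IsLocalHom (Ideal.Quotient.mk (Ideal.span {f})) :=
    IsLocalHom.of_surjective _ Ideal.Quotient.mk_surjective
  let φ : ResidueField A →+* ResidueField (A ⧸ Ideal.span {f}) :=
    ResidueField.map (Ideal.Quotient.mk (Ideal.span {f}))
  LinearEquiv.ofBijective
    { toFun := fun z => φ z
      map_add' := fun a b => map_add φ a b
      map_smul' := fun a z => by
        change φ (a • z) = (Ideal.Quotient.mk (Ideal.span {f}) a) •
          (show ResidueField (A ⧸ Ideal.span {f}) from φ z)
        rw [Algebra.smul_def, map_mul, Algebra.smul_def]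
        congr 1 }
    ⟨φ.injective, fun z => by
      obtain ⟨b, rfl⟩ := IsLocalRing.residue_surjective z
      obtain ⟨a, rfl⟩ := Ideal.Quotient.mk_surjective b
      exact ⟨IsLocalRing.residue A a, ResidueField.map_residue _ a⟩⟩

/-- `A/(f)` Gorenstein ⇒ `A` Gorenstein. -/
theorem injDim_of_quot [IsLocalRing (A ⧸ Ideal.span {f})] (hreg : IsSMulRegular A f) (n : ℕ)
    (h : HasInjectiveDimensionLT
      (ModuleCat.of (A ⧸ Ideal.span {f}) (A ⧸ Ideal.span {f})) n) :
    HasInjectiveDimensionLT (ModuleCat.of A A) (n + 1) := by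
  apply hasInjectiveDimensionLT_sharp A A (n + 1)
  intro i hi
  obtain ⟨j, rfl⟩ : ∃ j, i = j + 1 := ⟨i - 1, by omega⟩
  have h1 : Subsingleton (Ext (ModuleCat.of (A ⧸ Ideal.span {f})
      (ResidueField (A ⧸ Ideal.span {f})))
      (ModuleCat.of (A ⧸ Ideal.span {f}) (A ⧸ Ideal.span {f})) j) := by
    haveI := h
    exact HasInjectiveDimensionLT.subsingleton _ n j (by omega) _
  rw [subsingleton_iff_self f hreg j] at h1
  exact Groth.Agent.ExtDev.subsingleton_of_iso_left _ (resEquiv f).toModuleIso.symm (j + 1) h1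

end quotient

section CM

/-- a self-injective Noetherian local ring has `Hom(A/p, A) = 0` for primes `p ≠ m`. -/
theorem hom_quot_subsingleton (A : Type u) [CommRing A] [IsLocalRing A] [IsNoetherianRing A]
    (hA : HasInjectiveDimensionLT (ModuleCat.of A A) 1) (p : Ideal A) [hp : p.IsPrime]
    (hpm : p ≠ maximalIdeal A) :
    Subsingleton (Ext (ModuleCat.of A (A ⧸ p)) (ModuleCat.of A A) 0) := by
  have hle : p ≤ maximalIdeal A := IsLocalRing.le_maximalIdeal hp.ne_top
  obtain ⟨x, hxm, hxp⟩ := SetLike.exists_of_lt (lt_of_le_of_ne hle hpm)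
  have hinj : Function.Injective (LinearMap.lsmul A (A ⧸ p) x) := by
    haveI : IsDomain (A ⧸ p) := Ideal.Quotient.isDomain p
    have hx0 : Ideal.Quotient.mk p x ≠ 0 := fun h => hxp (Ideal.Quotient.eq_zero_iff_mem.mp h)
    intro a b hab
    have hab' : Ideal.Quotient.mk p x * a = Ideal.Quotient.mk p x * b := by
      have h1 : x • a = x • b := hab
      rw [Algebra.smul_def, Algebra.smul_def] at h1
      exact h1
    exact mul_left_cancel₀ hx0 hab'
  have hsub : Subsingleton
      (Ext (ModuleCat.of A (A ⧸ (p ⊔ Ideal.span {x}))) (ModuleCat.of A A) (0 + 1)) := by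
    haveI := hA
    exact HasInjectiveDimensionLT.subsingleton _ 1 (0 + 1) le_rfl _
  have hall := ext_le_smul_of_regular (ModuleCat.of A A) p x hinj 0 hsub
  haveI : Module.Finite A (ModuleCat.of A (A ⧸ p)) :=
    inferInstanceAs (Module.Finite A (A ⧸ p))
  haveI : Module.Finite A (ModuleCat.of A A) := inferInstanceAs (Module.Finite A A)
  have hfin : Module.Finite A (Ext (ModuleCat.of A (A ⧸ p)) (ModuleCat.of A A) 0) :=
    ModuleCat.finite_ext A _ _ 0
  have hbot : (⊤ : Submodule A (Ext (ModuleCat.of A (A ⧸ p)) (ModuleCat.of A A) 0)) = ⊥ := by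
    apply Submodule.eq_bot_of_le_smul_of_le_jacobson_bot (maximalIdeal A) _ hfin.fg_top
    · intro e _
      obtain ⟨e', rfl⟩ := hall e
      exact Submodule.smul_mem_smul hxm trivial
    · exact IsLocalRing.maximalIdeal_le_jacobson ⊥
  exact (Submodule.subsingleton_iff A).mp (subsingleton_of_bot_eq_top hbot.symm)

/-- depth zero Gorenstein local rings have dimension zero. -/
theorem dim_zero_of_depth_zero (A : Type u) [CommRing A] [IsLocalRing A] [IsNoetherianRing A]
    (hinj : ∃ n, HasInjectiveDimensionLT (ModuleCat.of A A) n)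
    (hdepth : LocCoh.idealDepth (maximalIdeal A) A = ((0 : ℕ) : ℕ∞)) :
    ringKrullDim A = 0 := by
  obtain ⟨r, hr1, hr2⟩ := exists_injDim A A hinj
  have hr0 : r = 0 := by
    have := injDim_le_depth A A 0 r hdepth hr1 hr2
    omega
  subst hr0
  have hmin : ∀ p ∈ minimalPrimes A, p.IsMaximal := by
    intro p hp
    haveI hpprime : p.IsPrime := hp.1.1
    by_contra hnm
    have hpm : p ≠ maximalIdeal A := fun h => hnm (h ▸ maximalIdeal.isMaximal A)
    have hann : Module.annihilator A A = ⊥ :=
      Module.annihilator_eq_bot.mpr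
        ((faithfulSMul_iff_algebraMap_injective A A).mpr fun {a₁ a₂} a ↦ a)
    have hass : p ∈ associatedPrimes A A := by
      apply Module.associatedPrimes.minimalPrimes_annihilator_subset_associatedPrimes A A
      rw [hann]
      exact hp
    obtain ⟨_, g, hg⟩ := (isAssociatedPrime_iff_exists_injective_linearMap p A).mp hass
    have hsub := hom_quot_subsingleton A hr1 p hpm
    have h1 : Ext.mk₀ (ModuleCat.ofHom g) =
        Ext.mk₀ (0 : ModuleCat.of A (A ⧸ p) ⟶ ModuleCat.of A A) := @Subsingleton.elim _ hsub _ _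
    have h2 : ModuleCat.ofHom g = 0 := (Ext.mk₀_bijective _ _).1 h1
    have h3 : g (1 : A ⧸ p) = 0 := congrArg (fun φ => φ.hom (1 : A ⧸ p)) h2
    have h4 : (1 : A ⧸ p) = 0 := hg (by rw [h3, map_zero])
    have h5 : (1 : A) ∈ p := Ideal.Quotient.eq_zero_iff_mem.mp h4
    exact hpprime.ne_top ((Ideal.eq_top_iff_one p).mpr h5)
  haveI : Ring.KrullDimLE 0 A := Ring.krullDimLE_zero_iff_forall_minimalPrimes_isMaximal.mpr hmin
  exact ringKrullDimZero_iff_ringKrullDim_eq_zero.mp this

/-- **Gorenstein local rings are Cohen–Macaulay**. -/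
theorem dim_eq_depth : ∀ (t : ℕ) (A : Type u) [CommRing A] [IsLocalRing A] [IsNoetherianRing A],
    (∃ n, HasInjectiveDimensionLT (ModuleCat.of A A) n) →
    LocCoh.idealDepth (maximalIdeal A) A = t → ringKrullDim A = ((t : ℕ∞) : WithBot ℕ∞) := by
  intro t
  induction t with
  | zero =>
    intro A _ _ _ hinj hdepth
    rw [dim_zero_of_depth_zero A hinj hdepth]
    rfl
  | succ t ih =>
    intro A _ _ _ hinj hdepth
    obtain ⟨n, hn⟩ := hinj
    have h1 : 1 ≤ LocCoh.idealDepth (maximalIdeal A) A := by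
      rw [hdepth]
      exact_mod_cast Nat.succ_le_succ (Nat.zero_le t)
    rw [one_le_idealDepth_iff] at h1
    have hne : maximalIdeal A • (⊤ : Submodule A A) ≠ ⊤ := by
      rw [smul_eq_mul, Ideal.mul_top]
      exact (maximalIdeal.isMaximal A).ne_top
    rcases h1 with htop | ⟨f, hf, hreg⟩
    · exact absurd htop hne
    haveI := isLocalRing_quotient (Ideal.span {f}) (span_singleton_ne_top f hf)
    have hB := injDim_quot f hreg n hn
    have hd := idealDepth_quotSMulTop_add_one (maximalIdeal A) A hf hreg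
    rw [hdepth] at hd
    have hd' : LocCoh.idealDepth (maximalIdeal A) (QuotSMulTop f A) = t :=
      Groth.Agent.AB.enat_eq_of_add_one_eq hd
    let e₀ : (QuotSMulTop f A) ≃ₗ[A] (A ⧸ Ideal.span {f}) :=
      Submodule.quotEquivOfEq _ _ (by simp [← Submodule.ideal_span_singleton_smul])
    have hd'' : LocCoh.idealDepth (maximalIdeal A) (A ⧸ Ideal.span {f}) = t := by
      rw [← idealDepth_congr (maximalIdeal A) _ e₀]; exact hd'
    haveI : IsLocalHom (algebraMap A (A ⧸ Ideal.span {f})) :=
      IsLocalHom.of_surjective _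
        (Ideal.Quotient.mk_surjective : Function.Surjective (algebraMap A (A ⧸ Ideal.span {f})))
    have hd3 : LocCoh.idealDepth (maximalIdeal (A ⧸ Ideal.span {f})) (A ⧸ Ideal.span {f}) = t := by
      have := depth_eq_of_isLocalHom A (A ⧸ Ideal.span {f}) (A ⧸ Ideal.span {f})
      unfold LocCoh.depth at this
      rw [← this]; exact hd''
    have hdim := ih (A ⧸ Ideal.span {f}) ⟨n, hB⟩ hd3
    rw [← ringKrullDim_quotient_span_singleton_succ_eq_ringKrullDim hreg hf, hdim]
    push_cast
    rfl

end CM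

section global

variable {A : Type u} [CommRing A] [IsNoetherianRing A]

/-- `(A)_p` as a localized module is `A_p`. -/
noncomputable def locIso (p : Ideal A) [p.IsPrime] :
    (ModuleCat.of A A).localizedModule p.primeCompl ≅
      ModuleCat.of (Localization.AtPrime p) (Localization.AtPrime p) :=
  ((Shrink.linearEquiv (Localization.AtPrime p) (LocalizedModule p.primeCompl A)).trans
    (LinearEquiv.extendScalarsOfIsLocalization p.primeCompl (Localization.AtPrime p)
      (IsLocalizedModule.linearEquiv p.primeCompl (LocalizedModule.mkLinearMap p.primeCompl A)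
        (Algebra.linearMap A (Localization.AtPrime p))))).toModuleIso

theorem injDim_localization (n : ℕ) (h : HasInjectiveDimensionLT (ModuleCat.of A A) (n + 1))
    (p : Ideal A) [p.IsPrime] :
    HasInjectiveDimensionLT
      (ModuleCat.of (Localization.AtPrime p) (Localization.AtPrime p)) (n + 1) := by
  haveI : HasInjectiveDimensionLE (ModuleCat.of A A) n := h
  haveI : HasInjectiveDimensionLT ((ModuleCat.of A A).localizedModule p.primeCompl) (n + 1) :=
    ModuleCat.localizedModule_hasInjectiveDimensionLE n p.primeCompl (ModuleCat.of A A)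
  exact hasInjectiveDimensionLT_of_iso (locIso p) (n + 1)

theorem depth_exists (B : Type u) [CommRing B] [IsLocalRing B] [IsNoetherianRing B] :
    ∃ t : ℕ, LocCoh.idealDepth (maximalIdeal B) B = t := by
  have hne : maximalIdeal B • (⊤ : Submodule B B) ≠ ⊤ := by
    rw [smul_eq_mul, Ideal.mul_top]
    exact (maximalIdeal.isMaximal B).ne_top
  obtain ⟨t, ht⟩ := ENat.ne_top_iff_exists.1 (idealDepth_ne_top (maximalIdeal B) B hne)
  exact ⟨t, ht.symm⟩

theorem dim_le_of_injDim (n : ℕ) (h : HasInjectiveDimensionLT (ModuleCat.of A A) (n + 1)) :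
    ringKrullDim A ≤ ((n : ℕ∞) : WithBot ℕ∞) := by
  rw [ringKrullDim_le_iff_isMaximal_height_le]
  intro m hm
  haveI := hm.isPrime
  have hloc := injDim_localization n h m
  obtain ⟨t, ht⟩ := depth_exists (Localization.AtPrime m)
  have hdim := dim_eq_depth t (Localization.AtPrime m) ⟨n + 1, hloc⟩ ht
  have hlt := depth_lt_of_hasInjectiveDimensionLT (Localization.AtPrime m)
    (Localization.AtPrime m) t (n + 1) ht hloc
  rw [IsLocalization.AtPrime.ringKrullDim_eq_height m (Localization.AtPrime m)] at hdim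
  rw [hdim]
  exact_mod_cast Nat.lt_succ_iff.mp hlt

theorem injDim_le_dim_local (B : Type u) [CommRing B] [IsLocalRing B] [IsNoetherianRing B]
    (hinj : ∃ n, HasInjectiveDimensionLT (ModuleCat.of B B) n) (d : ℕ)
    (hd : ringKrullDim B ≤ ((d : ℕ∞) : WithBot ℕ∞)) :
    HasInjectiveDimensionLT (ModuleCat.of B B) (d + 1) := by
  obtain ⟨r, hr1, hr2⟩ := exists_injDim B B hinj
  obtain ⟨t, ht⟩ := depth_exists B
  have h1 := injDim_le_depth B B t r ht hr1 hr2
  have h2 := dim_eq_depth t B hinj ht
  rw [h2] at hd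
  have h3 : t ≤ d := by exact_mod_cast hd
  haveI := hr1
  exact hasInjectiveDimensionLT_of_ge _ (r + 1) (d + 1) (by omega)

theorem injDim_of_gorenstein
    (hG : ∀ (p : Ideal A) [p.IsPrime], ∃ n, HasInjectiveDimensionLT
      (ModuleCat.of (Localization.AtPrime p) (Localization.AtPrime p)) n) (d : ℕ)
    (hd : ringKrullDim A ≤ ((d : ℕ∞) : WithBot ℕ∞)) :
    HasInjectiveDimensionLT (ModuleCat.of A A) (d + 1) := by
  have key : HasInjectiveDimensionLE (ModuleCat.of A A) d := by
    rw [ModuleCat.hasInjectiveDimensionLE_iff_forall_primeSpectrum d (ModuleCat.of A A)]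
    intro p
    have hp : ringKrullDim (Localization.AtPrime p.asIdeal) ≤ ((d : ℕ∞) : WithBot ℕ∞) := by
      rw [IsLocalization.AtPrime.ringKrullDim_eq_height p.asIdeal]
      exact le_trans Ideal.height_le_ringKrullDim_of_isPrime hd
    haveI := injDim_le_dim_local (Localization.AtPrime p.asIdeal) (hG p.asIdeal) d hp
    exact hasInjectiveDimensionLT_of_iso (locIso p.asIdeal).symm (d + 1)
  exact key

end global

end Groth.Agent.Gor
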