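import Mathlib
import Groth.Prelude.Def_Wider
import Groth.Agent.Lib.InjHull_helper3

set_option autoImplicit false
universe u

namespace Groth.Agent.Lib.InjHull2_helper3

open Groth.Agent.Lib.InjHull_helper3 IsLocalRing

variable {R : Type u} [CommRing R]

section summand

variable {M E : Type u} [AddCommGroup M] [Module R M] [AddCommGroup E] [Module R E]

/-- an injective submodule containing the image of an essential injection is everything -/
theorem eq_top_of_injective_of_range_le {f : M →ₗ[R] E} (hf : InjHull.IsEssentialInj f)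
    (N : Submodule R E) (hN : Module.Injective R N) (hle : LinearMap.range f ≤ N) : N = ⊤ := by
  obtain ⟨C, hC⟩ := exists_isCompl_range hN N.subtype N.injective_subtype
  rw [Submodule.range_subtype] at hC
  have hCbot : C = ⊥ := by
    by_contra hne
    apply hf.essential C hne
    rw [eq_bot_iff]
    rintro x ⟨hx1, hx2⟩
    have : x ∈ N ⊓ C := ⟨hle hx2, hx1⟩
    rw [hC.inf_eq_bot] at this
    exact this
  have := hC.sup_eq_top
  rwa [hCbot, sup_bot_eq] at this

end summand

section local_

variable [IsLocalRing R] {E : Type u} [AddCommGroup E] [Module R E]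

theorem smul_hull_eq_zero (f : ResidueField R →ₗ[R] E) (c : ResidueField R) (a : R)
    (ha : a ∈ maximalIdeal R) : a • f c = 0 := by
  rw [← map_smul]
  have : a • c = 0 := by
    rw [Algebra.smul_def]
    have : algebraMap R (ResidueField R) a = 0 := (IsLocalRing.residue_eq_zero_iff a).2 ha
    rw [this, zero_mul]
  rw [this, map_zero]

/-- S0311 -/
theorem hull_isPowerTorsion [IsNoetherianRing R] (f : ResidueField R →ₗ[R] E)
    (hf : InjHull.IsInjectiveHull f) : LocCoh.IsPowerTorsion (maximalIdeal R) E := by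
  have hinj := injective_Γ hf.isInjective (maximalIdeal R)
  have hle : LinearMap.range f ≤ Γ (maximalIdeal R) E := by
    rintro x ⟨c, rfl⟩
    rw [mem_Γ_iff]
    refine ⟨1, fun a ha => ?_⟩
    rw [pow_one] at ha
    exact smul_hull_eq_zero f c a ha
  have htop := eq_top_of_injective_of_range_le hf.toIsEssentialInj _ hinj hle
  intro x
  have hx : x ∈ Γ (maximalIdeal R) E := by rw [htop]; trivial
  exact (mem_Γ_iff _ x).1 hx

variable {M : Type u} [AddCommGroup M] [Module R M]

/-- the socle of a power-torsion module is essential -/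
theorem socle_essential (hM : LocCoh.IsPowerTorsion (maximalIdeal R) M) :
    InjHull.IsEssentialInj (LocCoh.torsionBy (maximalIdeal R) M).subtype := by
  classical
  refine ⟨Submodule.injective_subtype _, ?_⟩
  intro N hN
  obtain ⟨x, hxN, hx0⟩ := (Submodule.ne_bot_iff _).1 hN
  have hex := hM x
  have hpos : Nat.find hex ≠ 0 := by
    intro h0
    have h1 := Nat.find_spec hex
    rw [h0, pow_zero] at h1
    exact hx0 (by simpa using h1 1 (by simp))
  obtain ⟨e', he'⟩ := Nat.exists_eq_succ_of_ne_zero hpos
  have hmin : ¬ ∀ a ∈ maximalIdeal R ^ e', a • x = 0 :=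
    Nat.find_min hex (by rw [he']; exact Nat.lt_succ_self e')
  push Not at hmin
  obtain ⟨a, ha, hax⟩ := hmin
  have hmem : a • x ∈ LocCoh.torsionBy (maximalIdeal R) M := by
    rw [Submodule.mem_torsionBySet_iff]
    rintro ⟨b, hb⟩
    rw [smul_smul]
    have h1 := Nat.find_spec hex
    rw [he'] at h1
    refine h1 (b * a) ?_
    rw [pow_succ']
    exact Ideal.mul_mem_mul hb ha
  rw [Ne, Submodule.eq_bot_iff]
  push Not
  exact ⟨a • x, ⟨N.smul_mem a hxN, ⟨⟨a • x, hmem⟩, rfl⟩⟩, hax⟩

/-- S0310 -/
theorem exists_embedding_pow_hull (f : ResidueField R →ₗ[R] E) (hf : InjHull.IsInjectiveHull f)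
    (hM : LocCoh.IsPowerTorsion (maximalIdeal R) M) (n : ℕ)
    [Module.Finite (R ⧸ maximalIdeal R) ↥(LocCoh.torsionBy (maximalIdeal R) M)]
    (hn : Module.finrank (R ⧸ maximalIdeal R) ↥(LocCoh.torsionBy (maximalIdeal R) M) = n) :
    ∃ g : M →ₗ[R] (Fin n → E), Function.Injective g := by
  classical
  letI : Field (R ⧸ maximalIdeal R) := Ideal.Quotient.field _
  have e1 : ↥(LocCoh.torsionBy (maximalIdeal R) M) ≃ₗ[R ⧸ maximalIdeal R]
      (Fin n → R ⧸ maximalIdeal R) :=
    LinearEquiv.ofFinrankEq _ _ (by rw [hn, Module.finrank_fin_fun])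
  let e2 : ↥(LocCoh.torsionBy (maximalIdeal R) M) ≃ₗ[R] (Fin n → R ⧸ maximalIdeal R) :=
    e1.restrictScalars R
  let j : ↥(LocCoh.torsionBy (maximalIdeal R) M) →ₗ[R] (Fin n → E) :=
    (f.compLeft (Fin n)) ∘ₗ e2.toLinearMap
  have hj : Function.Injective j := by
    intro x y hxy
    apply e2.injective
    funext i
    apply hf.injective
    exact congrFun hxy i
  haveI : ∀ _ : Fin n, Module.Injective R E := fun _ => hf.isInjective
  have hpi : Module.Injective R (Fin n → E) := inferInstance
  obtain ⟨g, hg⟩ := exists_extension hpi (LocCoh.torsionBy (maximalIdeal R) M).subtype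
    (Submodule.injective_subtype _) j
  refine ⟨g, injective_of_essential (socle_essential hM) g ?_⟩
  rw [hg]
  exact hj

end local_

end Groth.Agent.Lib.InjHull2_helper3
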