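import Mathlib
import Groth.Prelude.Def_Wider
import Groth.Agent.Lib.InjHull2_helper3

set_option autoImplicit false
universe u

namespace Groth.Agent.Lib.InjHull4_helper3

open Groth.Agent.Lib.InjHull_helper3 Groth.Agent.Lib.InjHull2_helper3

variable {R : Type u} [CommRing R]

section quotientPrime

variable {E : Type u} [AddCommGroup E] [Module R E]

theorem indecomposable_hull_quotient_prime (p : Ideal R) [p.IsPrime] (f : (R ⧸ p) →ₗ[R] E)
    (hf : InjHull.IsEssentialInj f) : InjHull.IsIndecomposable R E := by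
  refine ⟨hf.injective.nontrivial, ?_⟩
  intro N N' hc
  by_contra h
  push Not at h
  obtain ⟨hN, hN'⟩ := h
  obtain ⟨x, ⟨hxN, a, rfl⟩, hx0⟩ := (Submodule.ne_bot_iff _).1 (hf.essential N hN)
  obtain ⟨x', ⟨hxN', a', rfl⟩, hx0'⟩ := (Submodule.ne_bot_iff _).1 (hf.essential N' hN')
  obtain ⟨r, rfl⟩ := Ideal.Quotient.mk_surjective a
  obtain ⟨r', rfl⟩ := Ideal.Quotient.mk_surjective a'
  have h1 : f (Ideal.Quotient.mk p r * Ideal.Quotient.mk p r') ∈ N' := by
    have : Ideal.Quotient.mk p r * Ideal.Quotient.mk p r' = r • Ideal.Quotient.mk p r' := by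
      rw [Algebra.smul_def]; rfl
    rw [this, map_smul]
    exact N'.smul_mem r hxN'
  have h2 : f (Ideal.Quotient.mk p r * Ideal.Quotient.mk p r') ∈ N := by
    have : Ideal.Quotient.mk p r * Ideal.Quotient.mk p r' = r' • Ideal.Quotient.mk p r := by
      rw [Algebra.smul_def, mul_comm]; rfl
    rw [this, map_smul]
    exact N.smul_mem r' hxN
  have h3 : f (Ideal.Quotient.mk p r * Ideal.Quotient.mk p r') ∈ N ⊓ N' := ⟨h2, h1⟩
  rw [hc.inf_eq_bot, Submodule.mem_bot] at h3
  have h4 := hf.injective (h3.trans (map_zero f).symm)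
  rcases mul_eq_zero.1 h4 with h5 | h5
  · exact hx0 (by rw [h5, map_zero])
  · exact hx0' (by rw [h5, map_zero])

theorem residueField_essential (p : Ideal R) [p.IsPrime] :
    InjHull.IsEssentialInj
      ((Algebra.linearMap (R ⧸ p) p.ResidueField).restrictScalars R) := by
  refine ⟨p.injective_algebraMap_quotient_residueField, ?_⟩
  intro N hN
  obtain ⟨x, hxN, hx0⟩ := (Submodule.ne_bot_iff _).1 hN
  obtain ⟨⟨a, s⟩, hs⟩ := IsLocalization.surj (nonZeroDivisors (R ⧸ p)) x
  simp only at hs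
  obtain ⟨r, hr⟩ := Ideal.Quotient.mk_surjective (s : R ⧸ p)
  have hsne : algebraMap (R ⧸ p) p.ResidueField s ≠ 0 :=
    map_ne_zero_of_mem_nonZeroDivisors _ p.injective_algebraMap_quotient_residueField s.2
  have hrx : r • x = algebraMap (R ⧸ p) p.ResidueField a := by
    rw [← hs, ← hr, Algebra.smul_def, mul_comm]
    rfl
  rw [Ne, Submodule.eq_bot_iff]
  push Not
  refine ⟨r • x, ⟨N.smul_mem r hxN, ⟨a, hrx.symm⟩⟩, ?_⟩
  rw [hrx, ← hs]
  exact mul_ne_zero hx0 hsne

/-- S0305 -/
theorem hull_quotient_prime (p : Ideal R) [p.IsPrime] (f : (R ⧸ p) →ₗ[R] E)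
    (hf : InjHull.IsInjectiveHull f) :
    InjHull.IsIndecomposable R E ∧
      ∃ g : p.ResidueField →ₗ[R] E, InjHull.IsInjectiveHull g := by
  refine ⟨indecomposable_hull_quotient_prime p f hf.toIsEssentialInj, ?_⟩
  obtain ⟨g, hg⟩ := exists_extension hf.isInjective
    ((Algebra.linearMap (R ⧸ p) p.ResidueField).restrictScalars R)
    p.injective_algebraMap_quotient_residueField f
  refine ⟨g, ⟨⟨?_, ?_⟩, hf.isInjective⟩⟩
  · refine injective_of_essential (residueField_essential p) g ?_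
    rw [hg]
    exact hf.injective
  · intro N hN
    have h1 := hf.essential N hN
    intro h2
    apply h1
    rw [eq_bot_iff, ← h2]
    refine inf_le_inf_left N ?_
    rintro x ⟨a, rfl⟩
    exact ⟨(Algebra.linearMap (R ⧸ p) p.ResidueField).restrictScalars R a, by
      rw [← hg]; rfl⟩

end quotientPrime

section zorn

variable {E : Type u} [AddCommGroup E] [Module R E]

/-- inside an injective module every submodule has an essential extension which is a summand -/
theorem exists_hull_summand (hE : Module.Injective R E) (N : Submodule R E) :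
    ∃ H C : Submodule R E, N ≤ H ∧ (∀ D ≤ H, D ≠ ⊥ → D ⊓ N ≠ ⊥) ∧ IsCompl H C := by
  classical
  -- first Zorn: a maximal essential extension
  obtain ⟨H, hNH, hHmax⟩ := zorn_le_nonempty₀
    {H : Submodule R E | N ≤ H ∧ ∀ D ≤ H, D ≠ ⊥ → D ⊓ N ≠ ⊥} (by
      intro c hc hchain y hy
      refine ⟨sSup c, ⟨(hc hy).1.trans (le_sSup hy), ?_⟩, fun z hz => le_sSup hz⟩
      intro D hD hDne
      obtain ⟨x, hxD, hx0⟩ := (Submodule.ne_bot_iff _).1 hDne
      obtain ⟨H', hH'c, hxH'⟩ := (Submodule.mem_sSup_of_directed ⟨y, hy⟩ hchain.directedOn).1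
        (hD hxD)
      have hspan : Submodule.span R {x} ≠ ⊥ := by
        rw [Ne, Submodule.span_singleton_eq_bot]; exact hx0
      have h1 := (hc hH'c).2 (Submodule.span R {x})
        ((Submodule.span_singleton_le_iff_mem _ _).2 hxH') hspan
      intro h2
      apply h1
      rw [eq_bot_iff, ← h2]
      exact inf_le_inf_right N ((Submodule.span_singleton_le_iff_mem _ _).2 hxD))
    N ⟨le_rfl, fun D hD hDne => by rwa [inf_eq_left.2 hD]⟩
  obtain ⟨⟨hNH', hHess⟩, hHmax'⟩ := hHmax
  -- second Zorn: a maximal complement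
  obtain ⟨C, -, hCmax⟩ := zorn_le_nonempty₀
    {C : Submodule R E | C ⊓ H = ⊥} (by
      intro c hc hchain y hy
      refine ⟨sSup c, ?_, fun z hz => le_sSup hz⟩
      rw [Set.mem_ofPred_eq, eq_bot_iff]
      rintro x ⟨hx1, hx2⟩
      obtain ⟨C', hC'c, hxC'⟩ := (Submodule.mem_sSup_of_directed ⟨y, hy⟩ hchain.directedOn).1 hx1
      have : x ∈ C' ⊓ H := ⟨hxC', hx2⟩
      rw [hc hC'c] at this
      exact this)
    ⊥ (by simp)
  obtain ⟨hCH, hCmax'⟩ := hCmax
  -- `H → E ⧸ C` is an essential injection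
  let ι : H →ₗ[R] E ⧸ C := C.mkQ ∘ₗ H.subtype
  have hιinj : Function.Injective ι := by
    rw [← LinearMap.ker_eq_bot, eq_bot_iff]
    intro x hx
    have hxC : (x : E) ∈ C := by
      have : C.mkQ (x : E) = 0 := hx
      rwa [Submodule.mkQ_apply, Submodule.Quotient.mk_eq_zero] at this
    have : (x : E) ∈ C ⊓ H := ⟨hxC, x.2⟩
    rw [hCH, Submodule.mem_bot] at this
    exact Subtype.ext this
  have hιess : InjHull.IsEssentialInj ι := by
    refine ⟨hιinj, ?_⟩
    intro D hD
    -- pull back `D` to `E`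
    have hlt : C < Submodule.comap C.mkQ D := by
      refine lt_of_le_of_ne ?_ ?_
      · intro x hx
        rw [Submodule.mem_comap, Submodule.mkQ_apply, (Submodule.Quotient.mk_eq_zero C).2 hx]
        exact D.zero_mem
      · intro heq
        apply hD
        rw [eq_bot_iff]
        intro y hy
        obtain ⟨x, rfl⟩ := C.mkQ_surjective y
        have : x ∈ Submodule.comap C.mkQ D := hy
        rw [← heq] at this
        rw [Submodule.mem_bot, Submodule.mkQ_apply, (Submodule.Quotient.mk_eq_zero C).2 this]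
    have hnot : ¬ (Submodule.comap C.mkQ D ⊓ H = ⊥) := by
      intro h
      exact absurd (hCmax' h hlt.le) (not_le_of_gt hlt)
    rw [Submodule.eq_bot_iff] at hnot
    push Not at hnot
    obtain ⟨x, ⟨hxD, hxH⟩, hx0⟩ := hnot
    rw [Ne, Submodule.eq_bot_iff]
    push Not
    refine ⟨C.mkQ x, ⟨hxD, ⟨⟨x, hxH⟩, rfl⟩⟩, ?_⟩
    intro h0
    have hxC : x ∈ C := by
      rwa [Submodule.mkQ_apply, Submodule.Quotient.mk_eq_zero] at h0
    have : x ∈ C ⊓ H := ⟨hxC, hxH⟩
    rw [hCH, Submodule.mem_bot] at this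
    exact hx0 this
  -- extend the inclusion of `H`
  obtain ⟨ψ, hψ⟩ := exists_extension hE ι hιinj H.subtype
  have hψinj : Function.Injective ψ := injective_of_essential hιess ψ (by
    rw [hψ]; exact H.injective_subtype)
  have hψι : ∀ x : H, ψ (C.mkQ (x : E)) = x := fun x => LinearMap.congr_fun hψ x
  -- the range of `ψ` is an essential extension of `N` containing `H`
  have hHle : H ≤ LinearMap.range ψ := by
    intro x hx
    exact ⟨C.mkQ x, hψι ⟨x, hx⟩⟩
  have hrange : LinearMap.range ψ ∈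
      {H : Submodule R E | N ≤ H ∧ ∀ D ≤ H, D ≠ ⊥ → D ⊓ N ≠ ⊥} := by
    refine ⟨hNH'.trans hHle, ?_⟩
    intro D hD hDne
    -- pull back along `ψ`
    have hD' : Submodule.comap ψ D ≠ ⊥ := by
      obtain ⟨x, hxD, hx0⟩ := (Submodule.ne_bot_iff _).1 hDne
      obtain ⟨y, rfl⟩ := hD hxD
      rw [Ne, Submodule.eq_bot_iff]
      push Not
      exact ⟨y, hxD, fun h => hx0 (by rw [h, map_zero])⟩
    obtain ⟨y, ⟨hyD, x, rfl⟩, hy0⟩ := (Submodule.ne_bot_iff _).1 (hιess.essential _ hD')
    -- `x : H`, `ψ (ι x) = x ∈ D`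
    have hxD : (x : E) ∈ D := by
      have : ψ (ι x) ∈ D := hyD
      rwa [show ψ (ι x) = (x : E) from hψι x] at this
    have hx0 : (x : E) ≠ 0 := by
      intro h
      apply hy0
      have : x = 0 := Subtype.ext h
      rw [this, map_zero]
    have hspan : Submodule.span R {(x : E)} ≠ ⊥ := by
      rw [Ne, Submodule.span_singleton_eq_bot]; exact hx0
    have h1 := hHess (Submodule.span R {(x : E)})
      ((Submodule.span_singleton_le_iff_mem _ _).2 x.2) hspan
    intro h2
    apply h1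
    rw [eq_bot_iff, ← h2]
    exact inf_le_inf_right N ((Submodule.span_singleton_le_iff_mem _ _).2 hxD)
  have hrange_le : LinearMap.range ψ ≤ H := hHmax' hrange hHle
  refine ⟨H, C, hNH', hHess, ?_⟩
  constructor
  · rw [disjoint_iff, inf_comm]; exact hCH
  · rw [codisjoint_iff, eq_top_iff]
    intro x _
    -- `ψ (mk x) ∈ H`, and `ψ (mk x) = ψ (mk (ψ (mk x)))`
    have hy : ψ (C.mkQ x) ∈ H := hrange_le ⟨_, rfl⟩
    have h1 : ψ (C.mkQ (ψ (C.mkQ x))) = ψ (C.mkQ x) := hψι ⟨_, hy⟩
    have h2 : C.mkQ (ψ (C.mkQ x)) = C.mkQ x := hψinj h1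
    have h3 : x - ψ (C.mkQ x) ∈ C := by
      rw [← Submodule.Quotient.mk_eq_zero]
      change C.mkQ (x - ψ (C.mkQ x)) = 0
      rw [map_sub, h2, sub_self]
    have hx : x = ψ (C.mkQ x) + (x - ψ (C.mkQ x)) := by abel
    rw [hx]
    exact Submodule.add_mem_sup hy h3

/-- S0304, first part -/
theorem inf_ne_bot_of_indecomposable (hE : InjHull.IsIndecomposable R E)
    (hinj : Module.Injective R E) (N N' : Submodule R E) (hN : N ≠ ⊥) (hN' : N' ≠ ⊥) :
    N ⊓ N' ≠ ⊥ := by
  obtain ⟨H, C, hNH, hess, hc⟩ := exists_hull_summand hinj N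
  have hH : H ≠ ⊥ := fun h => hN (le_bot_iff.1 (h ▸ hNH))
  have hC : C = ⊥ := (hE.2 H C hc).resolve_left hH
  have hHtop : H = ⊤ := by
    have := hc.sup_eq_top
    rwa [hC, sup_bot_eq] at this
  have := hess N' (hHtop ▸ le_top) hN'
  rwa [inf_comm] at this

/-- S0304 -/
theorem zeroDivisors_prime_of_indecomposable (hE : InjHull.IsIndecomposable R E)
    (hinj : Module.Injective R E) :
    (∀ N N' : Submodule R E, N ≠ ⊥ → N' ≠ ⊥ → N ⊓ N' ≠ ⊥) ∧
      ∃ p : Ideal R, p.IsPrime ∧ (p : Set R) = {r : R | ∃ x : E, x ≠ 0 ∧ r • x = 0} := by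
  have hmeet := inf_ne_bot_of_indecomposable hE hinj
  refine ⟨hmeet, ?_⟩
  haveI := hE.1
  let p : Ideal R :=
    { carrier := {r : R | ∃ x : E, x ≠ 0 ∧ r • x = 0}
      zero_mem' := by
        obtain ⟨x, hx⟩ := exists_ne (0 : E)
        exact ⟨x, hx, zero_smul R x⟩
      add_mem' := by
        rintro r r' ⟨x, hx0, hx⟩ ⟨x', hx0', hx'⟩
        have h1 : Submodule.span R {x} ≠ ⊥ := by
          rw [Ne, Submodule.span_singleton_eq_bot]; exact hx0
        have h2 : Submodule.span R {x'} ≠ ⊥ := by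
          rw [Ne, Submodule.span_singleton_eq_bot]; exact hx0'
        obtain ⟨y, ⟨hy1, hy2⟩, hy0⟩ := (Submodule.ne_bot_iff _).1 (hmeet _ _ h1 h2)
        obtain ⟨a, rfl⟩ := Submodule.mem_span_singleton.1 hy1
        obtain ⟨a', ha'⟩ := Submodule.mem_span_singleton.1 hy2
        refine ⟨a • x, hy0, ?_⟩
        rw [add_smul]
        have e1 : r • a • x = 0 := by rw [smul_comm, hx, smul_zero]
        have e2 : r' • a • x = 0 := by rw [← ha', smul_comm, hx', smul_zero]
        rw [e1, e2, add_zero]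
      smul_mem' := by
        rintro c r ⟨x, hx0, hx⟩
        exact ⟨x, hx0, by rw [smul_eq_mul, mul_smul, hx, smul_zero]⟩ }
  refine ⟨p, ?_, rfl⟩
  constructor
  · intro htop
    have h1 : (1 : R) ∈ p := by rw [htop]; trivial
    obtain ⟨x, hx0, hx⟩ := h1
    rw [one_smul] at hx
    exact hx0 hx
  · rintro r r' ⟨x, hx0, hx⟩
    by_cases h : r' • x = 0
    · exact Or.inr ⟨x, hx0, h⟩
    · exact Or.inl ⟨r' • x, h, by rw [smul_smul, hx]⟩

/-- S0306 -/
theorem indecomposable_injective_eq_hull [IsNoetherianRing R] (hE : InjHull.IsIndecomposable R E)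
    (hinj : Module.Injective R E) :
    ∃ (p : Ideal R) (_ : p.IsPrime) (g : p.ResidueField →ₗ[R] E), InjHull.IsInjectiveHull g := by
  haveI := hE.1
  obtain ⟨p, hp⟩ := associatedPrimes.nonempty R E
  obtain ⟨hpp, x, hpx⟩ := isAssociatedPrime_iff.1 hp
  haveI := hpp
  -- `R ⧸ p → E`, `1 ↦ x`
  have hker : LinearMap.ker (LinearMap.toSpanSingleton R E x) = p := by
    ext r
    rw [hpx, LinearMap.mem_ker, LinearMap.toSpanSingleton_apply, Submodule.mem_colon_singleton,
      Submodule.mem_bot]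
  let f : (R ⧸ p) →ₗ[R] E := Submodule.liftQ p (LinearMap.toSpanSingleton R E x) hker.ge
  have hfinj : Function.Injective f := by
    rw [← LinearMap.ker_eq_bot]
    exact Submodule.ker_liftQ_eq_bot _ _ _ hker.le
  have hx0 : x ≠ 0 := by
    intro h0
    apply hpp.ne_top
    rw [← hker, eq_top_iff]
    intro r _
    rw [LinearMap.mem_ker, LinearMap.toSpanSingleton_apply, h0, smul_zero]
  have hrange : LinearMap.range f ≠ ⊥ := by
    intro h
    apply hx0
    have : f (Submodule.Quotient.mk 1) ∈ LinearMap.range f := ⟨_, rfl⟩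
    rw [h, Submodule.mem_bot] at this
    have h1 : f (Submodule.Quotient.mk 1) = x := by
      simp only [f, Submodule.liftQ_apply, LinearMap.toSpanSingleton_apply, one_smul]
    rw [← h1]
    exact this
  have hf : InjHull.IsInjectiveHull f :=
    ⟨⟨hfinj, fun N hN => inf_ne_bot_of_indecomposable hE hinj N _ hN hrange⟩, hinj⟩
  exact ⟨p, hpp, (hull_quotient_prime p f hf).2⟩

end zorn

end Groth.Agent.Lib.InjHull4_helper3
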