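import Mathlib
import Groth.Prelude.Def_Wider
import Groth.Agent.Lib.InjHull4_helper3

set_option autoImplicit false
universe u

namespace Groth.Agent.Lib.InjHull5_helper3

open Groth.Agent.Lib.InjHull_helper3 Groth.Agent.Lib.InjHull2_helper3
  Groth.Agent.Lib.InjHull4_helper3

variable {R : Type u} [CommRing R] {I : Type u} [AddCommGroup I] [Module R I]

/-- a direct summand of an injective module is injective -/
theorem injective_of_isCompl (hI : Module.Injective R I) (H C : Submodule R I) (hc : IsCompl H C) :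
    Module.Injective R ↥H := by
  refine ⟨fun X Y _ _ _ _ f hf g => ?_⟩
  obtain ⟨h, hh⟩ := hI.out f hf (H.subtype ∘ₗ g)
  refine ⟨(Submodule.projectionOnto H C hc) ∘ₗ h, fun x => ?_⟩
  rw [LinearMap.comp_apply, hh x, LinearMap.comp_apply, Submodule.subtype_apply]
  exact Submodule.projectionOnto_apply_left hc (g x)

theorem injective_sSup [IsNoetherianRing R] (𝒮 : Set (Submodule R I)) (hindep : sSupIndep 𝒮)
    (hinj : ∀ E ∈ 𝒮, Module.Injective R ↥E) : Module.Injective R ↥(sSup 𝒮) := by
  classical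
  have hi : iSupIndep ((↑) : 𝒮 → Submodule R I) := (sSupIndep_iff 𝒮).1 hindep
  have hds : Module.Injective R (DirectSum 𝒮 fun E => ↥(E : Submodule R I)) :=
    injective_directSum (fun E : 𝒮 => ↥(E : Submodule R I)) (fun E => hinj E.1 E.2)
  let φ : (DirectSum 𝒮 fun E => ↥(E : Submodule R I)) →ₗ[R] I :=
    DFinsupp.lsum ℕ fun E : 𝒮 => (E : Submodule R I).subtype
  have hφinj : Function.Injective φ := iSupIndep.dfinsupp_lsum_injective hi
  have hrange : LinearMap.range φ = sSup 𝒮 := by
    rw [sSup_eq_iSup']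
    exact (Submodule.iSup_eq_range_dfinsupp_lsum _).symm
  let e : (DirectSum 𝒮 fun E => ↥(E : Submodule R I)) ≃ₗ[R] ↥(sSup 𝒮) :=
    (LinearEquiv.ofInjective φ hφinj).trans (LinearEquiv.ofEq _ _ hrange)
  exact Module.Baer.injective (Module.Baer.of_equiv e (Module.Baer.of_injective hds))

open Classical in
/-- S0307 -/
theorem injective_isInternal_indecomposable [IsNoetherianRing R] (hI : Module.Injective R I) :
    ∃ (ι : Type u) (E : ι → Submodule R I), DirectSum.IsInternal E ∧
      ∀ i, InjHull.IsIndecomposable R ↥(E i) ∧ Module.Injective R ↥(E i) := by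
  obtain ⟨𝒮, h𝒮max⟩ := zorn_subset
    {𝒮 : Set (Submodule R I) | (∀ E ∈ 𝒮, InjHull.IsIndecomposable R ↥E ∧
      Module.Injective R ↥E) ∧ sSupIndep 𝒮} (by
    intro c hc hchain
    refine ⟨⋃₀ c, ⟨?_, iSupIndep_sUnion_of_directed hchain.directedOn
      (fun a ha => (hc ha).2)⟩, fun s hs => Set.subset_sUnion_of_mem hs⟩
    rintro E ⟨a, ha, hEa⟩
    exact (hc ha).1 E hEa)
  obtain ⟨⟨hP, hindep⟩, hmax⟩ := h𝒮max
  have hSinj : Module.Injective R ↥(sSup 𝒮) := injective_sSup 𝒮 hindep (fun E hE => (hP E hE).2)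
  obtain ⟨C, hC⟩ := exists_isCompl_range hSinj (sSup 𝒮).subtype (sSup 𝒮).injective_subtype
  rw [Submodule.range_subtype] at hC
  have hCbot : C = ⊥ := by
    by_contra hCne
    haveI : Nontrivial ↥C := Submodule.nontrivial_iff_ne_bot.2 hCne
    obtain ⟨p, hp⟩ := associatedPrimes.nonempty R ↥C
    obtain ⟨hpp, x, hpx⟩ := isAssociatedPrime_iff.1 hp
    haveI := hpp
    have hann : ∀ r : R, r ∈ p ↔ r • (x : I) = 0 := by
      intro r
      rw [hpx, Submodule.mem_colon_singleton, Submodule.mem_bot, ← Submodule.coe_smul,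
        Submodule.coe_eq_zero]
    have hx0 : (x : I) ≠ 0 := by
      intro h0
      apply hpp.ne_top
      rw [eq_top_iff]
      intro r _
      rw [hann, h0, smul_zero]
    obtain ⟨H, C', hNH, hess, hc'⟩ := exists_hull_summand hI (Submodule.span R {(x : I)})
    have hxH : (x : I) ∈ H := hNH (Submodule.mem_span_singleton_self _)
    -- `H` is independent of `sSup 𝒮`
    have hHS : H ⊓ sSup 𝒮 = ⊥ := by
      by_contra hne
      apply hess (H ⊓ sSup 𝒮) inf_le_left hne
      rw [eq_bot_iff]
      rintro y ⟨⟨-, hyS⟩, hyN⟩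
      obtain ⟨r, rfl⟩ := Submodule.mem_span_singleton.1 hyN
      have hyC : r • (x : I) ∈ C := C.smul_mem r x.2
      have : r • (x : I) ∈ sSup 𝒮 ⊓ C := ⟨hyS, hyC⟩
      rw [hC.inf_eq_bot] at this
      exact this
    have hHne : H ≠ ⊥ := fun h => hx0 (by
      have := hxH
      rwa [h, Submodule.mem_bot] at this)
    -- `H` is an indecomposable injective
    have hHinj : Module.Injective R ↥H := injective_of_isCompl hI H C' hc'
    let q : R →ₗ[R] ↥H := LinearMap.toSpanSingleton R ↥H ⟨x, hxH⟩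
    have hker : LinearMap.ker q = p := by
      ext r
      rw [LinearMap.mem_ker, LinearMap.toSpanSingleton_apply, hann, ← Submodule.coe_eq_zero,
        Submodule.coe_smul]
    let f : (R ⧸ p) →ₗ[R] ↥H := Submodule.liftQ p q hker.ge
    have hfinj : Function.Injective f := by
      rw [← LinearMap.ker_eq_bot]
      exact Submodule.ker_liftQ_eq_bot _ _ _ hker.le
    have hfess : InjHull.IsEssentialInj f := by
      refine ⟨hfinj, ?_⟩
      intro D hD
      have hD' : D.map H.subtype ≠ ⊥ := by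
        intro h
        apply hD
        have h2 := Submodule.comap_map_eq_of_injective H.injective_subtype D
        rw [h, Submodule.comap_bot, LinearMap.ker_eq_bot.2 H.injective_subtype] at h2
        exact h2.symm
      have hle : D.map H.subtype ≤ H := by
        rintro y ⟨d, -, rfl⟩
        exact d.2
      obtain ⟨y, ⟨⟨d, hdD, hdy⟩, hyN⟩, hy0⟩ := (Submodule.ne_bot_iff _).1 (hess _ hle hD')
      obtain ⟨r, hr⟩ := Submodule.mem_span_singleton.1 hyN
      rw [Ne, Submodule.eq_bot_iff]
      push Not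
      refine ⟨d, ⟨hdD, ⟨Submodule.Quotient.mk r, ?_⟩⟩, ?_⟩
      · apply Subtype.ext
        have hdy' : (d : I) = y := hdy
        rw [hdy', ← hr]
        simp only [f, q, Submodule.liftQ_apply, LinearMap.toSpanSingleton_apply,
          Submodule.coe_smul]
      · intro h0
        apply hy0
        rw [← hdy, h0, map_zero]
    have hHind : InjHull.IsIndecomposable R ↥H := indecomposable_hull_quotient_prime p f hfess
    -- enlarge the family
    have hins : insert H 𝒮 ∈ {𝒮 : Set (Submodule R I) | (∀ E ∈ 𝒮, InjHull.IsIndecomposable R ↥E ∧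
        Module.Injective R ↥E) ∧ sSupIndep 𝒮} := by
      refine ⟨?_, ?_⟩
      · intro E hE
        rcases Set.mem_insert_iff.1 hE with rfl | hE
        · exact ⟨hHind, hHinj⟩
        · exact hP E hE
      · intro E hE
        rw [disjoint_iff, eq_bot_iff]
        rintro y ⟨hyE, hysup⟩
        rcases Set.mem_insert_iff.1 hE with rfl | hE𝒮
        · -- `E = H`
          have hle : sSup (insert E 𝒮 \ {E}) ≤ sSup 𝒮 := by
            apply sSup_le_sSup
            rintro z ⟨hz1, hz2⟩
            exact (Set.mem_insert_iff.1 hz1).resolve_left hz2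
          have : y ∈ E ⊓ sSup 𝒮 := ⟨hyE, hle hysup⟩
          rwa [hHS] at this
        · -- `E ∈ 𝒮`
          have hEH : E ≠ H := by
            intro h
            have h1 : H ≤ sSup 𝒮 := h ▸ le_sSup hE𝒮
            exact hHne (by rw [← hHS, inf_eq_left.2 h1])
          have hle : sSup (insert H 𝒮 \ {E}) ≤ H ⊔ sSup (𝒮 \ {E}) := by
            apply sSup_le
            rintro z ⟨hz1, hz2⟩
            rcases Set.mem_insert_iff.1 hz1 with rfl | hz𝒮
            · exact le_sup_left
            · exact le_sup_of_le_right (le_sSup ⟨hz𝒮, hz2⟩)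
          obtain ⟨h, hh, t, ht, rfl⟩ := Submodule.mem_sup.1 (hle hysup)
          have htS : t ∈ sSup 𝒮 :=
            (sSup_le_sSup (Set.sdiff_subset : 𝒮 \ {E} ⊆ 𝒮) : sSup (𝒮 \ {E}) ≤ sSup 𝒮) ht
          have hyS : h + t ∈ sSup 𝒮 := (le_sSup hE𝒮) hyE
          have hhS : h ∈ sSup 𝒮 := by
            have := (sSup 𝒮).sub_mem hyS htS
            rwa [add_sub_cancel_right] at this
          have hh0 : h = 0 := by
            have : h ∈ H ⊓ sSup 𝒮 := ⟨hh, hhS⟩
            rwa [hHS, Submodule.mem_bot] at this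
          rw [hh0, zero_add] at hyE ⊢
          have hd := hindep hE𝒮
          rw [disjoint_iff] at hd
          rw [← hd]
          exact ⟨hyE, ht⟩
    have hsub : insert H 𝒮 ⊆ 𝒮 := hmax hins (Set.subset_insert H 𝒮)
    have hH𝒮 : H ∈ 𝒮 := hsub (Set.mem_insert H 𝒮)
    have h1 : H ≤ sSup 𝒮 := le_sSup hH𝒮
    exact hHne (by rw [← hHS, inf_eq_left.2 h1])
  have htop : sSup 𝒮 = ⊤ := by
    have := hC.sup_eq_top
    rwa [hCbot, sup_bot_eq] at this
  refine ⟨↥𝒮, fun E => (E : Submodule R I), ?_, fun E => hP E.1 E.2⟩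
  have h1 := (sSupIndep_iff 𝒮).1 hindep
  have h2 : iSup ((↑) : 𝒮 → Submodule R I) = ⊤ := by rw [← sSup_eq_iSup', htop]
  convert DirectSum.isInternal_submodule_of_iSupIndep_of_iSup_eq_top h1 h2

end Groth.Agent.Lib.InjHull5_helper3
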