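import Mathlib
import Groth.Prelude.Def_Wider
import Groth.Agent.Lib.InjHull5_helper3

set_option autoImplicit false
universe u

namespace Groth.Agent.Lib.InjHull6_helper3

open Groth.Agent.Lib.InjHull_helper3 Groth.Agent.Lib.InjHull2_helper3
  Groth.Agent.Lib.InjHull4_helper3 Groth.Agent.Lib.InjHull5_helper3 CategoryTheory

variable {R : Type u} [CommRing R]

/-- every module embeds into an injective module of the same universe -/
theorem exists_injective_embedding (M : Type u) [AddCommGroup M] [Module R M] :
    ∃ (I : Type u) (_ : AddCommGroup I) (_ : Module R I) (i : M →ₗ[R] I),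
      Module.Injective R I ∧ Function.Injective i := by
  let J := Injective.under (ModuleCat.of R M)
  have hJ : CategoryTheory.Injective (ModuleCat.of R J) := by
    change CategoryTheory.Injective J
    infer_instance
  refine ⟨J, inferInstance, inferInstance, (Injective.ι (ModuleCat.of R M)).hom, ?_, ?_⟩
  · exact Module.injective_module_of_injective_object R J
  · exact (ModuleCat.mono_iff_injective _).1 inferInstance

/-- S0299 -/
theorem exists_injective_hull (M : Type u) [AddCommGroup M] [Module R M] :
    ∃ (E : Type u) (_ : AddCommGroup E) (_ : Module R E) (f : M →ₗ[R] E),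
      InjHull.IsInjectiveHull f := by
  obtain ⟨I, _, _, i, hI, hi⟩ := exists_injective_embedding (R := R) M
  obtain ⟨H, C, hNH, hess, hc⟩ := exists_hull_summand hI (LinearMap.range i)
  have hmem : ∀ m, i m ∈ H := fun m => hNH ⟨m, rfl⟩
  refine ⟨↥H, inferInstance, inferInstance, LinearMap.codRestrict H i hmem, ⟨⟨?_, ?_⟩, ?_⟩⟩
  · intro x y hxy
    apply hi
    exact congrArg Subtype.val hxy
  · intro D hD
    have hD' : D.map H.subtype ≠ ⊥ := by
      intro h
      apply hD
      have h2 := Submodule.comap_map_eq_of_injective H.injective_subtype D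
      rw [h, Submodule.comap_bot, LinearMap.ker_eq_bot.2 H.injective_subtype] at h2
      exact h2.symm
    have hle : D.map H.subtype ≤ H := by
      rintro y ⟨d, -, rfl⟩
      exact d.2
    obtain ⟨y, ⟨⟨d, hdD, hdy⟩, ⟨m, hm⟩⟩, hy0⟩ := (Submodule.ne_bot_iff _).1 (hess _ hle hD')
    rw [Ne, Submodule.eq_bot_iff]
    push Not
    refine ⟨d, ⟨hdD, ⟨m, ?_⟩⟩, ?_⟩
    · apply Subtype.ext
      have hdy' : (d : I) = y := hdy
      rw [hdy', ← hm]
      rfl
    · intro h0
      apply hy0
      rw [← hdy, h0, map_zero]
  · exact injective_of_isCompl hI H C hc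

/-- S1728 -/
theorem injective_iff_no_essential_extension {I : Type u} [AddCommGroup I] [Module R I]
    (hI : Module.Injective R I) (E : Submodule R I) :
    Module.Injective R E ↔ ∀ E' : Submodule R I, E ≤ E' →
      (∀ N : Submodule R I, N ≤ E' → N ≠ ⊥ → N ⊓ E ≠ ⊥) → E' = E := by
  constructor
  · intro hE E' hEE' hess
    obtain ⟨C, hC⟩ := exists_isCompl_range hE E.subtype E.injective_subtype
    rw [Submodule.range_subtype] at hC
    have hE'C : E' ⊓ C = ⊥ := by
      by_contra hne
      apply hess (E' ⊓ C) inf_le_left hne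
      rw [eq_bot_iff]
      rintro x ⟨⟨-, hxC⟩, hxE⟩
      have : x ∈ E ⊓ C := ⟨hxE, hxC⟩
      rwa [hC.inf_eq_bot] at this
    apply le_antisymm _ hEE'
    intro x hx
    have hx' : x ∈ E ⊔ C := by rw [hC.sup_eq_top]; trivial
    obtain ⟨e, he, c, hc, rfl⟩ := Submodule.mem_sup.1 hx'
    have hcE' : c ∈ E' := by
      have := E'.sub_mem hx (hEE' he)
      rwa [add_sub_cancel_left] at this
    have hc0 : c = 0 := by
      have : c ∈ E' ⊓ C := ⟨hcE', hc⟩
      rwa [hE'C, Submodule.mem_bot] at this
    rw [hc0, add_zero]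
    exact he
  · intro h
    obtain ⟨H, C, hNH, hess, hc⟩ := exists_hull_summand hI E
    have hHE : H = E := h H hNH hess
    rw [← hHE]
    exact injective_of_isCompl hI H C hc

end Groth.Agent.Lib.InjHull6_helper3
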