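import Mathlib
import Groth.Prelude.Def_Wider

/-!
# Injective hull of the residue field: socle generators (helper5)

`IsSocleGen A y` : `y ≠ 0`, `m y = 0` and every nonzero element of `E` has `y` as a multiple.
`(∃ f : k → E essential injection) ↔ ∃ y, IsSocleGen A y`.
-/

universe u

namespace Groth.Agent.Matlis

open IsLocalRing

section Socle

variable {A : Type u} [CommRing A] [IsLocalRing A] {E : Type u} [AddCommGroup E] [Module A E]

/-- Socle generator of `E`. -/
structure IsSocleGen (A : Type u) [CommRing A] [IsLocalRing A] {E : Type u} [AddCommGroup E]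
    [Module A E] (y : E) : Prop where
  ne_zero : y ≠ 0
  smul_eq_zero : ∀ a ∈ maximalIdeal A, a • y = 0
  exists_smul : ∀ z : E, z ≠ 0 → ∃ b : A, b • z = y

lemma residue_eq_smul_one (a : A) : residue A a = a • (1 : ResidueField A) := by
  rw [Algebra.smul_def, mul_one]; rfl

lemma hom_apply_residue (φ : ResidueField A →ₗ[A] E) (a : A) : φ (residue A a) = a • φ 1 := by
  rw [residue_eq_smul_one, map_smul]

lemma hom_ext_one {φ ψ : ResidueField A →ₗ[A] E} (h : φ 1 = ψ 1) : φ = ψ := by
  ext x
  obtain ⟨a, rfl⟩ := residue_surjective x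
  rw [hom_apply_residue, hom_apply_residue, h]

lemma hom_one_socle (φ : ResidueField A →ₗ[A] E) (a : A) (ha : a ∈ maximalIdeal A) :
    a • φ 1 = 0 := by
  rw [← hom_apply_residue, (residue_eq_zero_iff a).mpr ha, map_zero]

/-- The map `k → E` attached to a socle element. -/
noncomputable def ofSocle (y : E) (hy : ∀ a ∈ maximalIdeal A, a • y = 0) :
    ResidueField A →ₗ[A] E :=
  Submodule.liftQ (maximalIdeal A) (LinearMap.toSpanSingleton A E y) (fun a ha => by
    rw [LinearMap.mem_ker, LinearMap.toSpanSingleton_apply]; exact hy a ha)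

lemma ofSocle_residue (y : E) (hy : ∀ a ∈ maximalIdeal A, a • y = 0) (a : A) :
    ofSocle y hy (residue A a) = a • y := by
  show Submodule.liftQ _ _ _ (Submodule.Quotient.mk a) = _
  rw [Submodule.liftQ_apply, LinearMap.toSpanSingleton_apply]

lemma ofSocle_one (y : E) (hy : ∀ a ∈ maximalIdeal A, a • y = 0) : ofSocle y hy 1 = y := by
  have := ofSocle_residue y hy 1
  rwa [map_one, one_smul] at this

lemma isSocleGen_of_isEssentialInj {f : ResidueField A →ₗ[A] E}
    (hf : InjHull.IsEssentialInj f) : IsSocleGen A (f 1) := by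
  refine ⟨?_, fun a ha => hom_one_socle f a ha, ?_⟩
  · intro h
    have := hf.injective (h.trans (map_zero f).symm)
    exact one_ne_zero this
  · intro z hz
    have hN : Submodule.span A {z} ≠ ⊥ := by
      rw [Ne, Submodule.span_singleton_eq_bot]; exact hz
    have := hf.essential _ hN
    obtain ⟨x, hx, hx0⟩ := (Submodule.ne_bot_iff _).mp this
    obtain ⟨hx1, hx2⟩ := Submodule.mem_inf.mp hx
    obtain ⟨b, rfl⟩ := Submodule.mem_span_singleton.mp hx1
    obtain ⟨c, hc⟩ := hx2
    have hc0 : c ≠ 0 := by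
      rintro rfl
      rw [map_zero] at hc
      exact hx0 hc.symm
    obtain ⟨a, ha⟩ := residue_surjective c⁻¹
    refine ⟨a * b, ?_⟩
    rw [mul_smul, ← hc, ← map_smul, Algebra.smul_def]
    congr 1
    show residue A a * c = 1
    rw [ha, inv_mul_cancel₀ hc0]

lemma IsSocleGen.exists_isEssentialInj {y : E} (hy : IsSocleGen A y) :
    ∃ g : ResidueField A →ₗ[A] E, g 1 = y ∧ InjHull.IsEssentialInj g := by
  refine ⟨ofSocle y hy.smul_eq_zero, ofSocle_one _ _, ?_, ?_⟩
  · rw [← LinearMap.ker_eq_bot, LinearMap.ker_eq_bot']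
    intro x hx
    obtain ⟨a, rfl⟩ := residue_surjective x
    rw [ofSocle_residue] at hx
    by_contra hne
    have hu : IsUnit a := (residue_ne_zero_iff_isUnit a).mp hne
    exact hy.ne_zero (hu.smul_eq_zero.mp hx)
  · intro N hN
    obtain ⟨z, hzN, hz0⟩ := (Submodule.ne_bot_iff _).mp hN
    obtain ⟨b, hb⟩ := hy.exists_smul z hz0
    exact (Submodule.ne_bot_iff _).mpr
      ⟨y, Submodule.mem_inf.mpr ⟨hb ▸ N.smul_mem b hzN, ⟨1, ofSocle_one _ _⟩⟩, hy.ne_zero⟩

lemma IsSocleGen.exists_eq_smul {y : E} (hy : IsSocleGen A y) (e : E)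
    (he : ∀ a ∈ maximalIdeal A, a • e = 0) : ∃ c : A, e = c • y := by
  by_cases h0 : e = 0
  · exact ⟨0, by rw [h0, zero_smul]⟩
  · obtain ⟨b, hb⟩ := hy.exists_smul e h0
    have hu : IsUnit b := by
      by_contra hnu
      exact hy.ne_zero (hb.symm.trans (he b ((mem_maximalIdeal b).mpr hnu)))
    obtain ⟨u, rfl⟩ := hu
    exact ⟨((u⁻¹ : Aˣ) : A), by rw [← hb, ← mul_smul, Units.inv_mul, one_smul]⟩

lemma IsSocleGen.isSimpleModule_hom {y : E} (hy : IsSocleGen A y) :
    IsSimpleModule A (ResidueField A →ₗ[A] E) := by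
  rw [isSimpleModule_iff_toSpanSingleton_surjective]
  constructor
  · refine ⟨⟨ofSocle y hy.smul_eq_zero, 0, fun h => hy.ne_zero ?_⟩⟩
    have := congrArg (fun g => g 1) h
    simpa [ofSocle_one] using this
  · intro φ hφ ψ
    obtain ⟨c, hc⟩ := hy.exists_eq_smul (φ 1) (hom_one_socle φ)
    obtain ⟨d, hd⟩ := hy.exists_eq_smul (ψ 1) (hom_one_socle ψ)
    have hu : IsUnit c := by
      by_contra hnu
      apply hφ
      apply hom_ext_one
      rw [hc, hy.smul_eq_zero c ((mem_maximalIdeal c).mpr hnu), LinearMap.zero_apply]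
    obtain ⟨u, rfl⟩ := hu
    refine ⟨d * ((u⁻¹ : Aˣ) : A), hom_ext_one ?_⟩
    rw [LinearMap.toSpanSingleton_apply, LinearMap.smul_apply, hc, hd, ← mul_smul, mul_assoc,
      Units.inv_mul, mul_one]

lemma IsSocleGen.isPowerTorsion [IsNoetherianRing A] {y : E} (hy : IsSocleGen A y) :
    LocCoh.IsPowerTorsion (maximalIdeal A) E := by
  intro e
  set N : Submodule A E := Submodule.span A {e} with hN
  have key : ∃ n : ℕ, y ∉ (maximalIdeal A) ^ n • N := by
    by_contra hcon
    push Not at hcon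
    have hyN : y ∈ N := by
      have := hcon 0
      rwa [pow_zero, Ideal.one_eq_top, Submodule.top_smul] at this
    haveI : Module.Finite A N := Module.Finite.span_singleton A e
    have hK := (maximalIdeal A).iInf_pow_smul_eq_bot_of_isLocalRing (M := N)
      (Ideal.IsMaximal.ne_top inferInstance)
    have hmem : (⟨y, hyN⟩ : N) ∈ (⨅ i : ℕ, (maximalIdeal A) ^ i • (⊤ : Submodule A N)) := by
      rw [Submodule.mem_iInf]
      intro i
      have hi := hcon i
      have hmap : (maximalIdeal A) ^ i • N =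
          Submodule.map N.subtype ((maximalIdeal A) ^ i • (⊤ : Submodule A N)) := by
        rw [Submodule.map_smul'', Submodule.map_subtype_top]
      rw [hmap] at hi
      obtain ⟨w, hw, hwy⟩ := hi
      have : w = ⟨y, hyN⟩ := Subtype.ext hwy
      rwa [← this]
    rw [hK, Submodule.mem_bot] at hmem
    exact hy.ne_zero (congrArg Subtype.val hmem)
  obtain ⟨n, hn⟩ := key
  refine ⟨n, fun a ha => ?_⟩
  have hbot : (maximalIdeal A) ^ n • N = ⊥ := by
    by_contra hne
    obtain ⟨z, hz, hz0⟩ := (Submodule.ne_bot_iff _).mp hne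
    obtain ⟨b, hb⟩ := hy.exists_smul z hz0
    exact hn (hb ▸ Submodule.smul_mem _ b hz)
  have : a • e ∈ (maximalIdeal A) ^ n • N :=
    Submodule.smul_mem_smul ha (Submodule.mem_span_singleton_self e)
  rwa [hbot, Submodule.mem_bot] at this

lemma exists_socle_smul (hE : LocCoh.IsPowerTorsion (maximalIdeal A) E) (z : E) (hz : z ≠ 0) :
    ∃ b : A, b • z ≠ 0 ∧ ∀ a ∈ maximalIdeal A, a • (b • z) = 0 := by
  classical
  have hex := hE z
  have hspec := Nat.find_spec hex
  have hn0 : Nat.find hex ≠ 0 := by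
    intro h0
    rw [h0] at hspec
    have := hspec 1 (by rw [pow_zero, Ideal.one_eq_top]; trivial)
    rw [one_smul] at this
    exact hz this
  obtain ⟨n', hn'⟩ := Nat.exists_eq_succ_of_ne_zero hn0
  have hmin := Nat.find_min hex (m := n') (by omega)
  push Not at hmin
  obtain ⟨b, hb, hbz⟩ := hmin
  refine ⟨b, hbz, fun a ha => ?_⟩
  rw [← mul_smul]
  apply hspec
  rw [hn', pow_succ']
  exact Ideal.mul_mem_mul ha hb

lemma exists_isSocleGen (hE : LocCoh.IsPowerTorsion (maximalIdeal A) E)
    (hS : IsSimpleModule A (ResidueField A →ₗ[A] E)) : ∃ y : E, IsSocleGen A y := by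
  obtain ⟨hnt, hsurj⟩ := isSimpleModule_iff_toSpanSingleton_surjective.mp hS
  obtain ⟨g, hg⟩ := exists_ne (0 : ResidueField A →ₗ[A] E)
  refine ⟨g 1, ?_, hom_one_socle g, ?_⟩
  · intro h
    exact hg (hom_ext_one (by rw [h, LinearMap.zero_apply]))
  · intro z hz
    obtain ⟨b, hbz, hb⟩ := exists_socle_smul hE z hz
    have hh : ofSocle (b • z) hb ≠ 0 := by
      intro h
      apply hbz
      have := congrArg (fun φ => φ 1) h
      simpa [ofSocle_one] using this
    obtain ⟨c, hc⟩ := hsurj _ hh g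
    refine ⟨c * b, ?_⟩
    rw [← hc, LinearMap.toSpanSingleton_apply, LinearMap.smul_apply, ofSocle_one, mul_smul]

/-- Characterisation of the injective hull of the residue field. -/
theorem injectiveHull_iff [IsNoetherianRing A] :
    (∃ f : ResidueField A →ₗ[A] E, InjHull.IsInjectiveHull f) ↔
      (Module.Injective A E ∧ LocCoh.IsPowerTorsion (maximalIdeal A) E ∧
        IsSimpleModule A (ResidueField A →ₗ[A] E)) := by
  constructor
  · rintro ⟨f, hf⟩
    have hy := isSocleGen_of_isEssentialInj hf.toIsEssentialInj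
    exact ⟨hf.isInjective, hy.isPowerTorsion, hy.isSimpleModule_hom⟩
  · rintro ⟨hinj, htor, hsimple⟩
    obtain ⟨y, hy⟩ := exists_isSocleGen htor hsimple
    obtain ⟨g, -, hg⟩ := hy.exists_isEssentialInj
    exact ⟨g, { toIsEssentialInj := hg, isInjective := hinj }⟩

lemma isSimpleModule_hom_of_simple {y : E} (hy : IsSocleGen A y) (S : Type u) [AddCommGroup S]
    [Module A S] [hS : IsSimpleModule A S] : IsSimpleModule A (S →ₗ[A] E) := by
  obtain ⟨I, hI, ⟨e⟩⟩ := isSimpleModule_iff_quot_maximal.mp hS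
  obtain rfl := eq_maximalIdeal hI
  haveI := hy.isSimpleModule_hom
  let e' : S ≃ₗ[A] ResidueField A := e
  exact IsSimpleModule.congr (LinearEquiv.congrLeft E A e')

lemma length_hom {y : E} (hy : IsSocleGen A y) [hinj : Module.Injective A E] (M : Type u)
    [AddCommGroup M] [Module A M] (hM : IsFiniteLength A M) :
    Module.length A (M →ₗ[A] E) = Module.length A M := by
  induction hM with
  | @of_subsingleton M _ _ _ =>
    haveI : Subsingleton (M →ₗ[A] E) :=
      ⟨fun f g => LinearMap.ext fun x => by rw [Subsingleton.elim x 0, map_zero, map_zero]⟩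
    rw [Module.length_eq_zero_iff.mpr inferInstance, Module.length_eq_zero_iff.mpr inferInstance]
  | @of_simple_quotient M _ _ N _ hN ih =>
    haveI := isSimpleModule_hom_of_simple hy (M ⧸ N)
    have h1 := Module.length_eq_add_of_exact N.subtype N.mkQ (Submodule.subtype_injective N)
      (Submodule.mkQ_surjective N) (LinearMap.exact_subtype_mkQ N)
    have h2 := Module.length_eq_add_of_exact (LinearMap.lcomp A E N.mkQ)
      (LinearMap.lcomp A E N.subtype)
      (fun φ ψ h => LinearMap.ext fun x => by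
        obtain ⟨x, rfl⟩ := N.mkQ_surjective x
        exact LinearMap.congr_fun h x)
      (fun ψ => by
        obtain ⟨h, hh⟩ := hinj.out N.subtype (Submodule.subtype_injective N) ψ
        exact ⟨h, LinearMap.ext hh⟩)
      (fun φ => by
        constructor
        · intro h
          refine ⟨N.liftQ φ (fun x hx => ?_), ?_⟩
          · exact LinearMap.congr_fun h ⟨x, hx⟩
          · ext x
            rfl
        · rintro ⟨ψ, rfl⟩
          ext x
          show ψ (N.mkQ x) = 0
          rw [Submodule.mkQ_apply, (Submodule.Quotient.mk_eq_zero N).mpr x.2, map_zero])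
    rw [h1, h2, ih, Module.length_eq_one_iff (M := (M ⧸ N) →ₗ[A] E) |>.mpr inferInstance,
      Module.length_eq_one_iff (M := M ⧸ N) |>.mpr inferInstance, add_comm]

end Socle

section Quot

variable {A : Type u} [CommRing A] [IsLocalRing A] (a : Ideal A) [IsLocalRing (A ⧸ a)]
  {E : Type u} [AddCommGroup E] [Module A E]

lemma le_maximalIdeal_of_local : a ≤ maximalIdeal A :=
  le_maximalIdeal (fun h => not_subsingleton (A ⧸ a) (Ideal.Quotient.subsingleton_iff.mpr h))

lemma mem_maximalIdeal_of_mk_mem {x : A}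
    (hx : Ideal.Quotient.mk a x ∈ maximalIdeal (A ⧸ a)) : x ∈ maximalIdeal A := by
  rw [mem_maximalIdeal, mem_nonunits_iff] at hx ⊢
  exact fun hu => hx (hu.map (Ideal.Quotient.mk a))

lemma isSocleGen_torsionBy {y : E} (hy : IsSocleGen A y) :
    ∃ hmem : y ∈ LocCoh.torsionBy a E,
      IsSocleGen (A ⧸ a) (⟨y, hmem⟩ : LocCoh.torsionBy a E) := by
  have hmem : y ∈ LocCoh.torsionBy a E := by
    rw [Submodule.mem_torsionBySet_iff]
    intro r
    exact hy.smul_eq_zero r (le_maximalIdeal_of_local a r.2)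
  refine ⟨hmem, ?_, ?_, ?_⟩
  · intro h; exact hy.ne_zero (congrArg Subtype.val h)
  · intro x hx
    obtain ⟨x, rfl⟩ := Ideal.Quotient.mk_surjective x
    rw [Submodule.torsionBySet.mk_smul]
    apply Subtype.ext
    exact hy.smul_eq_zero x (mem_maximalIdeal_of_mk_mem a hx)
  · intro z hz
    have hz' : (z : E) ≠ 0 := fun h => hz (Subtype.ext h)
    obtain ⟨b, hb⟩ := hy.exists_smul z hz'
    refine ⟨Ideal.Quotient.mk a b, ?_⟩
    rw [Submodule.torsionBySet.mk_smul]
    exact Subtype.ext hb

lemma injective_torsionBy [hinj : Module.Injective A E] :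
    Module.Injective (A ⧸ a) (LocCoh.torsionBy a E) := by
  apply Module.Baer.injective
  intro J g
  let J' : Ideal A := J.comap (Ideal.Quotient.mk a)
  let g' : J' →ₗ[A] E :=
    { toFun := fun x => (g ⟨Ideal.Quotient.mk a x.1, x.2⟩ : E)
      map_add' := fun x y => by
        have : (⟨Ideal.Quotient.mk a (x + y : J').1, (x + y).2⟩ : J) =
            ⟨Ideal.Quotient.mk a x.1, x.2⟩ + ⟨Ideal.Quotient.mk a y.1, y.2⟩ :=
          Subtype.ext (map_add _ _ _)
        rw [this, map_add]; rfl
      map_smul' := fun r x => by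
        have : (⟨Ideal.Quotient.mk a (r • x : J').1, (r • x).2⟩ : J) =
            (Ideal.Quotient.mk a r) • ⟨Ideal.Quotient.mk a x.1, x.2⟩ :=
          Subtype.ext (by simp [smul_eq_mul])
        rw [this, map_smul, Submodule.torsionBySet.mk_smul]; rfl }
  obtain ⟨h, hh⟩ := hinj.out J'.subtype (Submodule.subtype_injective _) g'
  have hmem : h 1 ∈ LocCoh.torsionBy a E := by
    rw [Submodule.mem_torsionBySet_iff]
    intro r
    have hr0 : Ideal.Quotient.mk a (r : A) = 0 := Ideal.Quotient.eq_zero_iff_mem.mpr r.2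
    have hrJ : (r : A) ∈ J' := by
      show Ideal.Quotient.mk a r ∈ J
      rw [hr0]; exact J.zero_mem
    have h1 : h (r : A) = g' ⟨r, hrJ⟩ := hh ⟨r, hrJ⟩
    rw [← map_smul, smul_eq_mul, mul_one, h1]
    show ((g ⟨Ideal.Quotient.mk a r, hrJ⟩ : LocCoh.torsionBy a E) : E) = 0
    have : (⟨Ideal.Quotient.mk a (r : A), hrJ⟩ : J) = 0 := Subtype.ext hr0
    rw [this, map_zero]; rfl
  refine ⟨LinearMap.toSpanSingleton (A ⧸ a) _ ⟨h 1, hmem⟩, ?_⟩
  intro x hx
  obtain ⟨x, rfl⟩ := Ideal.Quotient.mk_surjective x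
  rw [LinearMap.toSpanSingleton_apply, Submodule.torsionBySet.mk_smul]
  apply Subtype.ext
  show x • h 1 = _
  rw [← map_smul, smul_eq_mul, mul_one]
  exact hh ⟨x, hx⟩

end Quot

end Groth.Agent.Matlis
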