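import Mathlib
import Groth.Prelude.Def_Wider
import Groth.Agent.Lib.Matlis_helper5
import Groth.Agent.Lib.InjHull_helper3

/-!
# Coextension of scalars of an injective hull of the residue field (helper5)
-/

universe u

namespace Groth.Agent.Matlis

open IsLocalRing CategoryTheory

lemma enat_cancel {d c : ℕ∞} (hd : d ≠ ⊤) (h : d = d + c) : c = 0 := by
  lift d to ℕ using hd
  induction c using ENat.recTopCoe with
  | top => simp at h
  | coe c =>
    have h1 : d = d + c := by exact_mod_cast h
    have h2 : c = 0 := by omega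
    rw [h2]; rfl

section Coext

variable {R₀ S : Type u} [CommRing R₀] [CommRing S] (φ : R₀ →+* S) (Q : Type u) [AddCommGroup Q]
  [Module R₀ Q]

/-- The coextension `Hom_{R₀}(S, Q)` as an `S`-module. -/
noncomputable abbrev Hc : ModuleCat.{u} S := (ModuleCat.coextendScalars φ).obj (ModuleCat.of R₀ Q)

lemma injective_coextend [Module.Injective R₀ Q] : Module.Injective S (Hc φ Q) := by
  haveI : CategoryTheory.Injective (ModuleCat.of R₀ Q) :=
    Module.injective_object_of_injective_module R₀ Q
  have h : CategoryTheory.Injective (Hc φ Q) :=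
    CategoryTheory.Injective.injective_of_adjoint (ModuleCat.restrictCoextendScalarsAdj φ) _
  exact @Module.injective_module_of_injective_object S (Hc φ Q) _ _ _ h

variable {φ Q}

/-- evaluation -/
noncomputable def ev (g : Hc φ Q) (s : S) : Q := (ModuleCat.CoextendScalars.equiv φ (ModuleCat.of R₀ Q) g) s

lemma ev_smul (b : S) (g : Hc φ Q) (x : S) : ev (b • g) x = ev g (x * b) := rfl

lemma ev_add (g g' : Hc φ Q) (x : S) : ev (g + g') x = ev g x + ev g' x := rfl

lemma ev_zero (x : S) : ev (0 : Hc φ Q) x = 0 := rfl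

lemma ev_map_add (g : Hc φ Q) (x y : S) : ev g (x + y) = ev g x + ev g y :=
  map_add (ModuleCat.CoextendScalars.equiv φ (ModuleCat.of R₀ Q) g) x y

lemma ev_map_zero (g : Hc φ Q) : ev g 0 = 0 :=
  map_zero (ModuleCat.CoextendScalars.equiv φ (ModuleCat.of R₀ Q) g)

lemma ev_map_smul (g : Hc φ Q) (a : R₀) (x : S) : ev g (φ a * x) = a • ev g x :=
  (ModuleCat.CoextendScalars.equiv φ (ModuleCat.of R₀ Q) g).map_smul a x

lemma ev_ext {g g' : Hc φ Q} (h : ∀ x, ev g x = ev g' x) : g = g' :=
  ModuleCat.CoextendScalars.ext (LinearMap.ext h)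

/-- constructor -/
noncomputable def mkH (F : S → Q) (hadd : ∀ x y, F (x + y) = F x + F y)
    (hsmul : ∀ (a : R₀) (x : S), F (φ a * x) = a • F x) : Hc φ Q :=
  (ModuleCat.CoextendScalars.equiv φ (ModuleCat.of R₀ Q)).symm
    { toFun := fun s => F s
      map_add' := fun x y => hadd x y
      map_smul' := fun a x => hsmul a x }

lemma ev_mkH (F : S → Q) (hadd : ∀ x y, F (x + y) = F x + F y)
    (hsmul : ∀ (a : R₀) (x : S), F (φ a * x) = a • F x) (x : S) :
    ev (mkH F hadd hsmul) x = F x := rfl

lemma smul_eq_zero_iff_ev [IsLocalRing S] (g : Hc φ Q) :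
    (∀ s ∈ maximalIdeal S, s • g = 0) ↔ ∀ s ∈ maximalIdeal S, ev g s = 0 := by
  constructor
  · intro h s hs
    have := congrArg (fun t => ev t 1) (h s hs)
    simp only [ev_smul, one_mul, ev_zero] at this
    exact this
  · intro h s hs
    apply ev_ext
    intro x
    rw [ev_smul, ev_zero]
    exact h _ (Ideal.mul_mem_left _ x hs)

end Coext

section Bar

variable {R₀ S : Type u} [CommRing R₀] [CommRing S] [IsLocalRing S] [Algebra R₀ S] {Q : Type u}
  [AddCommGroup Q] [Module R₀ Q]

lemma ev_congr (g : Hc (algebraMap R₀ S) Q) (hg : ∀ s ∈ maximalIdeal S, ev g s = 0) {x x' : S}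
    (h : residue S x = residue S x') : ev g x = ev g x' := by
  have hmem : x - x' ∈ maximalIdeal S := by
    rw [← residue_eq_zero_iff, map_sub, h, sub_self]
  have := ev_map_add g x' (x - x')
  rw [add_sub_cancel, hg _ hmem, add_zero] at this
  exact this

/-- The map on the residue field induced by a socle element. -/
noncomputable def bar (g : Hc (algebraMap R₀ S) Q) (hg : ∀ s ∈ maximalIdeal S, ev g s = 0) :
    ResidueField S →ₗ[R₀] Q where
  toFun c := ev g (Classical.choose (residue_surjective c))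
  map_add' c c' := by
    rw [← ev_map_add]
    apply ev_congr g hg
    rw [map_add, Classical.choose_spec (residue_surjective c),
      Classical.choose_spec (residue_surjective c'),
      Classical.choose_spec (residue_surjective (c + c'))]
  map_smul' a c := by
    rw [RingHom.id_apply, ← ev_map_smul]
    apply ev_congr g hg
    rw [map_mul, Classical.choose_spec (residue_surjective c),
      Classical.choose_spec (residue_surjective (a • c)), Algebra.smul_def]
    rfl

lemma bar_residue (g : Hc (algebraMap R₀ S) Q) (hg : ∀ s ∈ maximalIdeal S, ev g s = 0) (x : S) :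
    bar g hg (residue S x) = ev g x :=
  ev_congr g hg (Classical.choose_spec (residue_surjective (residue S x)))

variable [IsLocalRing R₀] {y : Q}

theorem socle_unique (hy : IsSocleGen R₀ y) [Module.Injective R₀ Q]
    (hK : IsFiniteLength R₀ (ResidueField S)) (g₀ g : Hc (algebraMap R₀ S) Q)
    (hg₀ : ∀ s ∈ maximalIdeal S, ev g₀ s = 0) (hg : ∀ s ∈ maximalIdeal S, ev g s = 0)
    (hne : g₀ ≠ 0) : ∃ b : S, g = b • g₀ := by
  let Ψ : ResidueField S →ₗ[R₀] (ResidueField S →ₗ[R₀] Q) :=
    (LinearMap.llcomp R₀ (ResidueField S) (ResidueField S) Q (bar g₀ hg₀)) ∘ₗ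
      (LinearMap.mul R₀ (ResidueField S))
  have hΨ : ∀ c x, Ψ c x = bar g₀ hg₀ (c * x) := fun c x => rfl
  have hinj : Function.Injective Ψ := by
    rw [← LinearMap.ker_eq_bot, LinearMap.ker_eq_bot']
    intro c hc
    by_contra hc0
    apply hne
    apply ev_ext
    intro x
    rw [ev_zero, ← bar_residue g₀ hg₀ x]
    have := LinearMap.congr_fun hc (c⁻¹ * residue S x)
    rw [hΨ, ← mul_assoc, mul_inv_cancel₀ hc0, one_mul, LinearMap.zero_apply] at this
    exact this
  have hlen : Module.length R₀ (ResidueField S →ₗ[R₀] Q) = Module.length R₀ (ResidueField S) :=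
    length_hom hy _ hK
  have hne_top : Module.length R₀ (ResidueField S) ≠ ⊤ := Module.length_ne_top_iff.mpr hK
  have hadd := Module.length_eq_add_of_exact Ψ (LinearMap.range Ψ).mkQ hinj
    (Submodule.mkQ_surjective _) (LinearMap.exact_map_mkQ_range Ψ)
  have hzero : Module.length R₀ ((ResidueField S →ₗ[R₀] Q) ⧸ LinearMap.range Ψ) = 0 :=
    enat_cancel hne_top (by rw [← hadd, hlen])
  have hsurj : Function.Surjective Ψ := by
    rw [← LinearMap.range_eq_top, ← Submodule.Quotient.subsingleton_iff]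
    exact Module.length_eq_zero_iff.mp hzero
  obtain ⟨c, hc⟩ := hsurj (bar g hg)
  obtain ⟨b, rfl⟩ := residue_surjective c
  refine ⟨b, ev_ext fun x => ?_⟩
  rw [ev_smul, ← bar_residue g hg x, ← hc, hΨ, ← map_mul, bar_residue, mul_comm]

theorem exists_socle (hy : IsSocleGen R₀ y) [Module.Injective R₀ Q]
    (hK : IsFiniteLength R₀ (ResidueField S)) :
    ∃ g₀ : Hc (algebraMap R₀ S) Q, g₀ ≠ 0 ∧ ∀ s ∈ maximalIdeal S, ev g₀ s = 0 := by
  have hlen : Module.length R₀ (ResidueField S →ₗ[R₀] Q) = Module.length R₀ (ResidueField S) :=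
    length_hom hy _ hK
  haveI : Nontrivial (ResidueField S →ₗ[R₀] Q) := by
    rw [← Module.length_pos_iff (R := R₀), hlen, Module.length_pos_iff]
    infer_instance
  obtain ⟨ψ, hψ⟩ := exists_ne (0 : ResidueField S →ₗ[R₀] Q)
  refine ⟨mkH (fun x => ψ (residue S x)) (fun x y => by rw [map_add, map_add])
    (fun a x => ?_), ?_, ?_⟩
  · rw [map_mul, ← map_smul, Algebra.smul_def]; rfl
  · intro h
    apply hψ
    ext c
    obtain ⟨x, rfl⟩ := residue_surjective c
    have := congrArg (fun t => ev t x) h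
    exact this
  · intro s hs
    show ψ (residue S s) = 0
    rw [(residue_eq_zero_iff s).mpr hs, map_zero]

end Bar

section Finite

variable (A B : Type u) [CommRing A] [IsLocalRing A] [CommRing B] [IsLocalRing B] [Algebra A B]
  [Module.Finite A B]

lemma isLocalHom_of_finite : IsLocalHom (algebraMap A B) := by
  have h1 : ((maximalIdeal B).comap (algebraMap A B)).IsMaximal :=
    Ideal.isMaximal_comap_of_isIntegral_of_isMaximal (R := A) (maximalIdeal B)
  exact ((local_hom_TFAE (algebraMap A B)).out 0 4 rfl rfl).mpr (eq_maximalIdeal h1)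

lemma finiteLength_residueField : IsFiniteLength A (ResidueField B) := by
  haveI := isLocalHom_of_finite A B
  rw [← Module.length_ne_top_iff,
    Module.length_eq_of_surjective (S := A) (R := ResidueField A) (M := ResidueField B)
      residue_surjective, Module.length_eq_finrank]
  exact ENat.natCast_ne_top _

variable {A B}
variable {E : Type u} [AddCommGroup E] [Module A E]

theorem exists_smul_socle_of_finite [IsNoetherianRing B]
    (hE : LocCoh.IsPowerTorsion (maximalIdeal A) E) (g : Hc (algebraMap A B) E) (hg : g ≠ 0) :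
    ∃ b : B, b • g ≠ 0 ∧ ∀ s ∈ maximalIdeal B, s • (b • g) = 0 := by
  classical
  -- uniform exponent
  obtain ⟨N, hN⟩ : ∃ N : ℕ, ∀ a ∈ maximalIdeal A ^ N, ∀ x : B, a • ev g x = 0 := by
    obtain ⟨t, ht⟩ := (Module.Finite.fg_top : (⊤ : Submodule A B).FG)
    choose e he using fun b : B => hE (ev g b)
    refine ⟨t.sup e, fun a ha x => ?_⟩
    have hx : x ∈ Submodule.span A (t : Set B) := by rw [ht]; trivial
    induction hx using Submodule.span_induction with
    | mem y hy => exact he y a (Ideal.pow_le_pow_right (Finset.le_sup hy) ha)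
    | zero => rw [ev_map_zero, smul_zero]
    | add y z _ _ hy hz => rw [ev_map_add, smul_add, hy, hz, add_zero]
    | smul c y _ hy => rw [Algebra.smul_def, ev_map_smul, smul_comm, hy, smul_zero]
  have hkill : ∀ a ∈ maximalIdeal A ^ N, algebraMap A B a • g = 0 := by
    intro a ha
    apply ev_ext
    intro x
    rw [ev_smul, mul_comm, ev_map_smul, ev_zero]
    exact hN a ha x
  -- an associated prime of `B g`
  let M : Submodule B (Hc (algebraMap A B) E) := Submodule.span B {g}
  let x₀ : M := ⟨g, Submodule.mem_span_singleton_self g⟩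
  have hx₀ : x₀ ≠ 0 := fun h => hg (congrArg Subtype.val h)
  obtain ⟨P, hP, hle⟩ := exists_le_isAssociatedPrime_of_isNoetherianRing B x₀ hx₀
  rw [isAssociatedPrime_iff] at hP
  obtain ⟨hprime, y, hPy⟩ := hP
  obtain ⟨b, hb⟩ := Submodule.mem_span_singleton.mp y.2
  have hcomap : maximalIdeal A ≤ P.comap (algebraMap A B) := by
    intro a ha
    rw [Ideal.mem_comap]
    apply hprime.mem_of_pow_mem N
    apply hle
    rw [Submodule.mem_colon_singleton, Submodule.mem_bot, ← map_pow]
    exact Subtype.ext (hkill _ (Ideal.pow_mem_pow ha N))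
  haveI : (P.comap (algebraMap A B)).IsPrime := Ideal.comap_isPrime _ _
  have hcomap' : P.comap (algebraMap A B) = maximalIdeal A :=
    ((maximalIdeal.isMaximal A).eq_of_le (Ideal.IsPrime.ne_top inferInstance) hcomap).symm
  have hPmax : P.IsMaximal :=
    Ideal.isMaximal_of_isIntegral_of_isMaximal_comap (R := A) P
      (hcomap'.symm ▸ maximalIdeal.isMaximal A)
  have hPm : P = maximalIdeal B := eq_maximalIdeal hPmax
  refine ⟨b, ?_, ?_⟩
  · intro h0
    apply hprime.ne_top
    rw [hPy, Ideal.eq_top_iff_one, Submodule.mem_colon_singleton, Submodule.mem_bot, one_smul]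
    exact Subtype.ext (hb.symm.trans h0)
  · intro s hs
    rw [← hPm, hPy, Submodule.mem_colon_singleton, Submodule.mem_bot] at hs
    rw [hb]
    exact congrArg Subtype.val hs

/-- S5156 -/
theorem coextend_injectiveHull [IsNoetherianRing A] [IsNoetherianRing B]
    (f : ResidueField A →ₗ[A] E) (hf : InjHull.IsInjectiveHull f) :
    ∃ g : ResidueField B →ₗ[B] (Hc (algebraMap A B) E), InjHull.IsInjectiveHull g := by
  have hy := isSocleGen_of_isEssentialInj hf.toIsEssentialInj
  haveI := hf.isInjective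
  have hK : IsFiniteLength A (ResidueField B) := finiteLength_residueField A B
  obtain ⟨g₀, hg₀ne, hg₀⟩ := exists_socle (S := B) hy hK
  have hsoc : IsSocleGen B g₀ := by
    refine ⟨hg₀ne, (smul_eq_zero_iff_ev g₀).mpr hg₀, fun z hz => ?_⟩
    obtain ⟨b₁, hb₁, hb₁'⟩ := exists_smul_socle_of_finite hy.isPowerTorsion z hz
    obtain ⟨b₂, hb₂⟩ := socle_unique hy hK (b₁ • z) g₀ ((smul_eq_zero_iff_ev _).mp hb₁') hg₀ hb₁
    exact ⟨b₂ * b₁, by rw [mul_smul, ← hb₂]⟩
  obtain ⟨g, -, hg⟩ := hsoc.exists_isEssentialInj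
  exact ⟨g, { toIsEssentialInj := hg, isInjective := injective_coextend _ _ }⟩

end Finite

section TopDual

open Groth.Agent.Lib.InjHull_helper3

/-- S5175 -/
theorem topDual_injectiveHull (k₀ : Type u) [Field k₀] (A : Type u) [CommRing A] [IsLocalRing A]
    [IsNoetherianRing A] [Algebra k₀ A] [Module.Finite k₀ (A ⧸ maximalIdeal A)] :
    ∃ f : ResidueField A →ₗ[A] ↥(Γ (maximalIdeal A) (Hc (algebraMap k₀ A) k₀)),
      InjHull.IsInjectiveHull f := by
  have hy : IsSocleGen k₀ (1 : k₀) := by
    refine ⟨one_ne_zero, fun a ha => ?_, fun z hz => ⟨z⁻¹, by rw [smul_eq_mul, inv_mul_cancel₀ hz]⟩⟩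
    have : a = 0 := by
      by_contra h
      exact (mem_maximalIdeal a).mp ha (isUnit_iff_ne_zero.mpr h)
    rw [this, zero_smul]
  haveI : Module.Injective k₀ k₀ := Module.injective_of_isSemisimpleRing k₀ k₀
  have hK : IsFiniteLength k₀ (ResidueField A) := by
    haveI : Module.Finite k₀ (ResidueField A) := ‹Module.Finite k₀ (A ⧸ maximalIdeal A)›
    rw [← Module.length_ne_top_iff, Module.length_eq_finrank]
    exact ENat.natCast_ne_top _
  obtain ⟨g₀, hg₀ne, hg₀⟩ := exists_socle (S := A) hy hK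
  have hg₀' := (smul_eq_zero_iff_ev g₀).mpr hg₀
  have hmem : g₀ ∈ Γ (maximalIdeal A) (Hc (algebraMap k₀ A) k₀) := by
    rw [mem_Γ_iff]
    exact ⟨1, fun a ha => hg₀' a (by simpa using ha)⟩
  have htor : LocCoh.IsPowerTorsion (maximalIdeal A)
      ↥(Γ (maximalIdeal A) (Hc (algebraMap k₀ A) k₀)) := fun z => by
    obtain ⟨n, hn⟩ := (mem_Γ_iff _ z.1).mp z.2
    exact ⟨n, fun a ha => Subtype.ext (hn a ha)⟩
  have hsoc : IsSocleGen A (⟨g₀, hmem⟩ : Γ (maximalIdeal A) (Hc (algebraMap k₀ A) k₀)) := by
    refine ⟨fun h => hg₀ne (congrArg Subtype.val h), fun a ha => Subtype.ext (hg₀' a ha),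
      fun z hz => ?_⟩
    obtain ⟨b₁, hb₁, hb₁'⟩ := exists_socle_smul htor z hz
    have h1 : (b₁ • z).1 ≠ 0 := fun h => hb₁ (Subtype.ext h)
    have h2 : ∀ s ∈ maximalIdeal A, s • (b₁ • z).1 = 0 :=
      fun s hs => congrArg Subtype.val (hb₁' s hs)
    obtain ⟨b₂, hb₂⟩ := socle_unique hy hK (b₁ • z).1 g₀ ((smul_eq_zero_iff_ev _).mp h2) hg₀ h1
    exact ⟨b₂ * b₁, Subtype.ext (by rw [mul_smul]; exact hb₂.symm)⟩
  obtain ⟨g, -, hg⟩ := hsoc.exists_isEssentialInj
  exact ⟨g, { toIsEssentialInj := hg
              isInjective := injective_Γ (injective_coextend _ _) _ }⟩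

end TopDual

end Groth.Agent.Matlis
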