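import Mathlib
import Groth.Prelude.Def_Wider
import Groth.Agent.Lib.Matlis2_helper5
import Groth.Agent.Lib.InjHull6_helper3

/-!
# Length criterion for the injective hull of the residue field (helper5)
-/

universe u

namespace Groth.Agent.Matlis

open IsLocalRing

lemma surjective_of_injective_of_length_eq {R : Type*} [Ring R] {M N : Type*} [AddCommGroup M]
    [Module R M] [AddCommGroup N] [Module R N] (f : M →ₗ[R] N) (hinj : Function.Injective f)
    (hlen : Module.length R N = Module.length R M) (hfin : Module.length R M ≠ ⊤) :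
    Function.Surjective f := by
  have hadd := Module.length_eq_add_of_exact f (LinearMap.range f).mkQ hinj
    (Submodule.mkQ_surjective _) (LinearMap.exact_map_mkQ_range f)
  have hzero := enat_cancel hfin (by rw [← hadd, hlen])
  rw [← LinearMap.range_eq_top, ← Submodule.Quotient.subsingleton_iff]
  exact Module.length_eq_zero_iff.mp hzero

lemma injective_of_linearEquiv {R : Type u} [Ring R] {M N : Type u} [AddCommGroup M] [Module R M]
    [AddCommGroup N] [Module R N] (e : M ≃ₗ[R] N) [hN : Module.Injective R N] :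
    Module.Injective R M where
  out X Y _ _ _ _ f hf g := by
    obtain ⟨h, hh⟩ := hN.out f hf (e.toLinearMap ∘ₗ g)
    refine ⟨e.symm.toLinearMap ∘ₗ h, fun x => ?_⟩
    rw [LinearMap.comp_apply, hh x]
    simp

section

variable {A : Type u} [CommRing A] [IsLocalRing A] [IsNoetherianRing A]

lemma isFiniteLength_quotient_of_pow_le (a : Ideal A) (N : ℕ) (h : maximalIdeal A ^ N ≤ a) :
    IsFiniteLength A (A ⧸ a) := by
  by_cases htop : a = ⊤
  · haveI : Subsingleton (A ⧸ a) := Ideal.Quotient.subsingleton_iff.mpr htop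
    exact IsFiniteLength.of_subsingleton
  · haveI : IsArtinianRing (A ⧸ a) := by
      apply IsLocalRing.quotient_artinian_of_mem_minimalPrimes_of_isLocalRing
      refine ⟨⟨inferInstance, le_maximalIdeal htop⟩, ?_⟩
      rintro q ⟨hq, hqa⟩ _
      exact hq.le_of_pow_le (h.trans hqa)
    rw [← Module.length_ne_top_iff,
      Module.length_eq_of_surjective (S := A) (R := A ⧸ a) (M := A ⧸ a)
        Ideal.Quotient.mk_surjective]
    exact Module.length_ne_top

variable {I : Type u} [AddCommGroup I] [Module A I]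

/-- S11174 -/
theorem injectiveHull_of_length (ha : LocCoh.IsPowerTorsion (maximalIdeal A) I)
    (hb : Nonempty ((ResidueField A →ₗ[A] I) ≃ₗ[A] ResidueField A)) (a : ℕ → Ideal A)
    (hcof : ∀ n : ℕ, ∃ N : ℕ, maximalIdeal A ^ N ≤ a n)
    (hcof' : ∀ N : ℕ, ∃ n : ℕ, a n ≤ maximalIdeal A ^ N)
    (hlen : ∀ n : ℕ, Module.length A (A ⧸ a n) = Module.length A ((A ⧸ a n) →ₗ[A] I)) :
    ∃ f : ResidueField A →ₗ[A] I, InjHull.IsInjectiveHull f := by
  have hsimple : IsSimpleModule A (ResidueField A →ₗ[A] I) := by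
    obtain ⟨e⟩ := hb
    haveI : IsSimpleModule A (ResidueField A) :=
      isSimpleModule_iff_quot_maximal.mpr ⟨maximalIdeal A, inferInstance, ⟨LinearEquiv.refl A _⟩⟩
    exact IsSimpleModule.congr e
  obtain ⟨y, hy⟩ := exists_isSocleGen ha hsimple
  obtain ⟨E', _, _, ι, hι⟩ := Groth.Agent.Lib.InjHull6_helper3.exists_injective_hull (R := A) I
  have hy' : IsSocleGen A (ι y) := by
    refine ⟨fun h => hy.ne_zero (hι.injective (h.trans (map_zero ι).symm)),
      fun r hr => by rw [← map_smul, hy.smul_eq_zero r hr, map_zero], fun z hz => ?_⟩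
    have hN : Submodule.span A {z} ≠ ⊥ := by
      rw [Ne, Submodule.span_singleton_eq_bot]; exact hz
    obtain ⟨x, hx, hx0⟩ := (Submodule.ne_bot_iff _).mp (hι.essential _ hN)
    obtain ⟨hx1, hx2⟩ := Submodule.mem_inf.mp hx
    obtain ⟨b, rfl⟩ := Submodule.mem_span_singleton.mp hx1
    obtain ⟨w, hw⟩ := hx2
    have hw0 : w ≠ 0 := by
      rintro rfl
      rw [map_zero] at hw
      exact hx0 hw.symm
    obtain ⟨b', hb'⟩ := hy.exists_smul w hw0
    exact ⟨b' * b, by rw [mul_smul, ← hw, ← map_smul, hb']⟩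
  haveI := hι.isInjective
  have hsurj : Function.Surjective ι := by
    intro x
    obtain ⟨N, hN⟩ := hy'.isPowerTorsion x
    obtain ⟨n, hn⟩ := hcof' N
    have hx : ∀ r ∈ a n, r • x = 0 := fun r hr => hN r (hn hr)
    let ψ : (A ⧸ a n) →ₗ[A] E' := (a n).liftQ (LinearMap.toSpanSingleton A E' x) (by
      intro r hr
      rw [LinearMap.mem_ker, LinearMap.toSpanSingleton_apply]
      exact hx r hr)
    obtain ⟨N', hN'⟩ := hcof n
    have hfin : IsFiniteLength A (A ⧸ a n) := isFiniteLength_quotient_of_pow_le (a n) N' hN'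
    let C : ((A ⧸ a n) →ₗ[A] I) →ₗ[A] ((A ⧸ a n) →ₗ[A] E') := LinearMap.llcomp A (A ⧸ a n) I E' ι
    have hCinj : Function.Injective C := by
      intro φ φ' h
      refine LinearMap.ext fun t => ?_
      apply hι.injective
      exact LinearMap.congr_fun h t
    have hCsurj : Function.Surjective C := by
      apply surjective_of_injective_of_length_eq C hCinj
      · rw [length_hom hy' _ hfin, hlen n]
      · rw [← hlen n]; exact Module.length_ne_top_iff.mpr hfin
    obtain ⟨χ, hχ⟩ := hCsurj ψ
    refine ⟨χ ((a n).mkQ 1), ?_⟩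
    have := LinearMap.congr_fun hχ ((a n).mkQ 1)
    rw [show C χ ((a n).mkQ 1) = ι (χ ((a n).mkQ 1)) from rfl] at this
    rw [this]
    show (a n).liftQ _ _ (Submodule.Quotient.mk 1) = x
    rw [Submodule.liftQ_apply, LinearMap.toSpanSingleton_apply, one_smul]
  have hIinj : Module.Injective A I :=
    injective_of_linearEquiv (LinearEquiv.ofBijective ι ⟨hι.injective, hsurj⟩)
  exact injectiveHull_iff.mpr ⟨hIinj, ha, hsimple⟩

end

end Groth.Agent.Matlis
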