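import Mathlib
import Groth.Prelude.Def_PBC

set_option autoImplicit false
universe u

open CategoryTheory Limits TensorProduct

namespace Groth.Agent.Lib.IndEtaleH3

section Coeq

variable {A C C' : Type u} [CommRing A] [CommRing C] [CommRing C'] [Algebra A C] [Algebra A C']

/-- The coequalizer ideal of two algebra maps. -/
def coeqIdeal (g h : C →ₐ[A] C') : Ideal C' := Ideal.span (Set.range fun c => g c - h c)

theorem coeqIdeal_fg [Algebra.FiniteType A C] (g h : C →ₐ[A] C') : (coeqIdeal g h).FG := by
  classical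
  obtain ⟨s, hs⟩ := (Algebra.FiniteType.out : (⊤ : Subalgebra A C).FG)
  refine ⟨s.image (fun c => g c - h c), le_antisymm ?_ ?_⟩
  · apply Ideal.span_mono
    intro x hx
    simp only [Finset.coe_image, Set.mem_image] at hx
    obtain ⟨c, -, rfl⟩ := hx
    exact ⟨c, rfl⟩
  · rw [coeqIdeal, Ideal.span_le]
    rintro _ ⟨c, rfl⟩
    set K' : Ideal C' := Ideal.span ((s.image (fun c => g c - h c) : Finset C') : Set C')
    have hc : c ∈ Algebra.adjoin A (s : Set C) := by rw [hs]; trivial
    show g c - h c ∈ K'
    induction hc using Algebra.adjoin_induction with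
    | mem x hx =>
      apply Ideal.subset_span
      simp only [Finset.coe_image, Set.mem_image]
      exact ⟨x, hx, rfl⟩
    | algebraMap r => simp
    | add x y _ _ hx hy =>
      have : g (x + y) - h (x + y) = (g x - h x) + (g y - h y) := by simp; ring
      rw [this]; exact K'.add_mem hx hy
    | mul x y _ _ hx hy =>
      have : g (x * y) - h (x * y) = g x * (g y - h y) + (g x - h x) * h y := by simp; ring
      rw [this]
      exact K'.add_mem (K'.mul_mem_left _ hy) (K'.mul_mem_right _ hx)

theorem etale_coeq [Algebra.Etale A C] [Algebra.Etale A C'] (g h : C →ₐ[A] C') :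
    Algebra.Etale A (C' ⧸ coeqIdeal g h) := by
  set K := coeqIdeal g h
  have hfp : Algebra.FinitePresentation A (C' ⧸ K) :=
    Algebra.FinitePresentation.quotient (coeqIdeal_fg g h)
  have hunr : Algebra.FormallyUnramified A (C' ⧸ K) :=
    Algebra.FormallyUnramified.of_surjective (Ideal.Quotient.mkₐ A K) Ideal.Quotient.mk_surjective
  have hsm : Algebra.FormallySmooth A (C' ⧸ K) := by
    refine Algebra.FormallySmooth.iff_comp_surjective.mpr fun T _ _ N hN φ => ?_
    obtain ⟨ψ, hψ⟩ := Algebra.FormallySmooth.comp_surjective A C' N hN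
      (φ.comp (Ideal.Quotient.mkₐ A K))
    have heq : ψ.comp g = ψ.comp h := by
      apply Algebra.FormallyUnramified.comp_injective N hN
      rw [← AlgHom.comp_assoc, ← AlgHom.comp_assoc, hψ]
      ext c
      simp only [AlgHom.coe_comp, Function.comp_apply, Ideal.Quotient.mkₐ_eq_mk]
      congr 1
      rw [Ideal.Quotient.eq]
      exact Ideal.subset_span ⟨c, rfl⟩
    have hK : ∀ a ∈ K, ψ a = 0 := by
      intro a ha
      have : K ≤ RingHom.ker ψ.toRingHom := by
        rw [show K = coeqIdeal g h from rfl, coeqIdeal, Ideal.span_le]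
        rintro _ ⟨c, rfl⟩
        have := congr($heq c)
        simp only [AlgHom.coe_comp, Function.comp_apply] at this
        simp [RingHom.mem_ker, this]
      exact this ha
    refine ⟨Ideal.Quotient.liftₐ K ψ hK, ?_⟩
    apply AlgHom.ext
    intro x
    obtain ⟨x, rfl⟩ := Ideal.Quotient.mk_surjective x
    have := congr($hψ x)
    simpa using this
  have : Algebra.FormallyEtale A (C' ⧸ K) :=
    Algebra.FormallyEtale.of_formallyUnramified_and_formallySmooth
  exact ⟨this, hfp⟩

end Coeq

section Recognize

variable {A : Type u} [CommRing A] {J : Type u} [SmallCategory J] [IsFiltered J]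
  (D : J ⥤ Under (CommRingCat.of A)) (c : Cocone D)

attribute [local instance] IsFiltered.isConnected in
/-- Recognition of filtered colimits of rings under `A`. -/
noncomputable def isColimitOfSurjInj
    (hsurj : ∀ x : c.pt.right, ∃ j, ∃ y : (D.obj j).right, (c.ι.app j).right.hom y = x)
    (hinj : ∀ j (y : (D.obj j).right), (c.ι.app j).right.hom y = 0 →
      ∃ k, ∃ f : j ⟶ k, (D.map f).right.hom y = 0) :
    IsColimit c := by
  haveI : ReflectsColimit D (Under.forget (CommRingCat.of A)) := inferInstance
  haveI : ReflectsColimit (D ⋙ Under.forget (CommRingCat.of A)) (forget CommRingCat) :=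
    reflectsColimit_of_reflectsIsomorphisms _ _
  apply isColimitOfReflects (Under.forget (CommRingCat.of A))
  apply isColimitOfReflects (forget CommRingCat)
  apply Types.FilteredColimit.isColimitOf'
  · intro x
    obtain ⟨j, y, hy⟩ := hsurj x
    exact ⟨j, y, hy.symm⟩
  · intro j (x : (D.obj j).right) (y : (D.obj j).right) hxy
    obtain ⟨k, f, hf⟩ := hinj j (x - y) (by
      have : (c.ι.app j).right.hom x = (c.ι.app j).right.hom y := hxy
      rw [map_sub, this, sub_self])
    refine ⟨k, f, ?_⟩
    rw [map_sub, sub_eq_zero] at hf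
    exact hf

theorem surj_of_isColimit (hc : IsColimit c) (x : c.pt.right) :
    ∃ j, ∃ y : (D.obj j).right, (c.ι.app j).right.hom y = x := by
  have hc' := isColimitOfPreserves (forget CommRingCat)
    (isColimitOfPreserves (Under.forget (CommRingCat.of A)) hc)
  obtain ⟨j, y, hy⟩ := Types.jointly_surjective_of_isColimit hc' x
  exact ⟨j, y, hy⟩

theorem inj_of_isColimit (hc : IsColimit c) (j : J) (y : (D.obj j).right)
    (h : (c.ι.app j).right.hom y = 0) : ∃ k, ∃ f : j ⟶ k, (D.map f).right.hom y = 0 := by
  have hc' := isColimitOfPreserves (forget CommRingCat)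
    (isColimitOfPreserves (Under.forget (CommRingCat.of A)) hc)
  have := (Types.FilteredColimit.isColimit_eq_iff _ hc' (i := j) (j := j) (xi := y)
    (xj := (0 : (D.obj j).right))).mp (by
      show (c.ι.app j).right.hom y = (c.ι.app j).right.hom 0
      rw [h, map_zero])
  obtain ⟨k, f, g, hfg⟩ := this
  obtain ⟨l, t, ht⟩ := IsFilteredOrEmpty.cocone_maps f g
  refine ⟨l, f ≫ t, ?_⟩
  have h1 : (D.map f).right.hom y = (D.map g).right.hom 0 := hfg
  rw [map_zero] at h1
  rw [D.map_comp]
  show (D.map t).right.hom ((D.map f).right.hom y) = 0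
  rw [h1, map_zero]

/-- the structure-map natural transformation -/
def strNat : (Functor.const J).obj (CommRingCat.of A) ⟶ D ⋙ Under.forget (CommRingCat.of A) where
  app j := (D.obj j).hom
  naturality j k f := by
    simp only [Functor.const_obj_obj, Functor.const_obj_map, Category.id_comp, Functor.comp_obj,
      Under.forget_obj, Functor.comp_map, Under.forget_map]
    exact (Under.w (D.map f)).symm

theorem exists_factor (hc : IsColimit c) (C : Type u) [CommRing C] [Algebra A C]
    [Algebra.FinitePresentation A C]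
    (f : C →+* c.pt.right) (hf : f.comp (algebraMap A C) = c.pt.hom.hom) :
    ∃ j, ∃ g : C →+* (D.obj j).right, g.comp (algebraMap A C) = (D.obj j).hom.hom ∧
      (c.ι.app j).right.hom.comp g = f := by
  have hc' := isColimitOfPreserves (Under.forget (CommRingCat.of A)) hc
  have hfp : (CommRingCat.ofHom (algebraMap A C)).hom.FinitePresentation := by
    rw [CommRingCat.hom_ofHom]
    exact RingHom.finitePresentation_algebraMap.mpr inferInstance
  obtain ⟨j, g', hg1, hg2⟩ := RingHom.EssFiniteType.exists_eq_comp_ι_app_of_isColimit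
    (CommRingCat.of A) (D ⋙ Under.forget (CommRingCat.of A)) (strNat D)
    (CommRingCat.ofHom (algebraMap A C)) _ hc' hfp (CommRingCat.ofHom f) (by
      intro i
      ext x
      have h1 := congr($hf x)
      have h2 := congr($(Under.w (c.ι.app i)).hom x)
      simp only [RingHom.coe_comp, Function.comp_apply] at h1
      simp only [Functor.const_obj_obj, CommRingCat.hom_comp, RingHom.coe_comp,
        Function.comp_apply] at h2
      show f (algebraMap A C x) = (c.ι.app i).right.hom ((D.obj i).hom.hom x)
      rw [h1, ← h2])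
  refine ⟨j, g'.hom, ?_, ?_⟩
  · have := congr(($hg1).hom)
    exact this
  · have := congr(($hg2).hom)
    exact this.symm

end Recognize

section Cat

variable (A B : Type u) [CommRing A] [CommRing B] [Algebra A B]

/-- Presented étale `A`-algebras with a map to `B`. -/
structure EtOver where
  n : ℕ
  I : Ideal (MvPolynomial (Fin n) A)
  etale : Algebra.Etale A (MvPolynomial (Fin n) A ⧸ I)
  f : (MvPolynomial (Fin n) A ⧸ I) →ₐ[A] B

variable {A B}

/-- underlying algebra -/
abbrev EtOver.C (X : EtOver A B) : Type u := MvPolynomial (Fin X.n) A ⧸ X.I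

instance (X : EtOver A B) : Algebra.Etale A X.C := X.etale

noncomputable instance : Category.{u} (EtOver A B) where
  Hom X Y := {g : X.C →ₐ[A] Y.C // Y.f.comp g = X.f}
  id X := ⟨AlgHom.id A _, by simp⟩
  comp g h := ⟨h.1.comp g.1, by rw [← AlgHom.comp_assoc, h.2, g.2]⟩

theorem EtOver.hom_ext {X Y : EtOver A B} (g h : X ⟶ Y) (e : g.1 = h.1) : g = h := Subtype.ext e

@[simp] theorem EtOver.comp_val {X Y Z : EtOver A B} (g : X ⟶ Y) (h : Y ⟶ Z) :
    (g ≫ h).1 = h.1.comp g.1 := rfl

@[simp] theorem EtOver.id_val (X : EtOver A B) : (𝟙 X : X ⟶ X).1 = AlgHom.id A _ := rfl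

theorem exists_obj (C : Type u) [CommRing C] [Algebra A C] [Algebra.Etale A C] (f : C →ₐ[A] B) :
    ∃ (X : EtOver A B) (e : C ≃ₐ[A] X.C), X.f.comp e.toAlgHom = f := by
  obtain ⟨n, π, hπ, -⟩ := (Algebra.FinitePresentation.out : ∃ n, ∃ π :
    MvPolynomial (Fin n) A →ₐ[A] C, Function.Surjective π ∧ (RingHom.ker π.toRingHom).FG)
  let e := Ideal.quotientKerAlgEquivOfSurjective hπ
  refine ⟨⟨n, RingHom.ker π, Algebra.Etale.of_equiv e.symm, f.comp e.toAlgHom⟩, e.symm, ?_⟩
  ext x
  simp

instance : IsFiltered (EtOver A B) where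
  nonempty := by
    obtain ⟨X, -, -⟩ := exists_obj A (Algebra.ofId A B)
    exact ⟨X⟩
  cocone_objs X Y := by
    have : Algebra.Etale A (X.C ⊗[A] Y.C) := Algebra.Etale.comp A X.C _
    obtain ⟨Z, e, he⟩ := exists_obj (X.C ⊗[A] Y.C) (Algebra.TensorProduct.productMap X.f Y.f)
    refine ⟨Z, ⟨e.toAlgHom.comp Algebra.TensorProduct.includeLeft, ?_⟩,
      ⟨e.toAlgHom.comp Algebra.TensorProduct.includeRight, ?_⟩, trivial⟩
    · rw [← AlgHom.comp_assoc, he]; simp
    · rw [← AlgHom.comp_assoc, he]; simp
  cocone_maps {X Y} g h := by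
    have hK : ∀ a ∈ coeqIdeal g.1 h.1, Y.f a = 0 := by
      intro a ha
      have : coeqIdeal g.1 h.1 ≤ RingHom.ker Y.f.toRingHom := by
        rw [coeqIdeal, Ideal.span_le]
        rintro _ ⟨c, rfl⟩
        have h1 := congr($(g.2) c)
        have h2 := congr($(h.2) c)
        simp only [AlgHom.coe_comp, Function.comp_apply] at h1 h2
        simp [RingHom.mem_ker, h1, h2]
      exact this ha
    have := etale_coeq g.1 h.1
    obtain ⟨Z, e, he⟩ := exists_obj (Y.C ⧸ coeqIdeal g.1 h.1)
      (Ideal.Quotient.liftₐ (coeqIdeal g.1 h.1) Y.f hK)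
    refine ⟨Z, ⟨e.toAlgHom.comp (Ideal.Quotient.mkₐ A _), ?_⟩, ?_⟩
    · rw [← AlgHom.comp_assoc, he]
      ext x
      simp
    · apply EtOver.hom_ext
      ext c
      simp only [EtOver.comp_val, AlgHom.coe_comp, AlgHom.coe_coe, Ideal.Quotient.mkₐ_eq_mk,
        Function.comp_apply]
      congr 1
      rw [Ideal.Quotient.eq]
      exact Ideal.subset_span ⟨c, rfl⟩

end Cat

section Criterion

variable (A B : Type u) [CommRing A] [CommRing B] [Algebra A B]

/-- The canonical diagram of étale algebras over `B`. -/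
noncomputable def etDiag : EtOver A B ⥤ Under (CommRingCat.of A) where
  obj X := Under.mk (CommRingCat.ofHom (algebraMap A X.C))
  map {X Y} g := Under.homMk (CommRingCat.ofHom g.1.toRingHom) (by
    ext x
    simp)
  map_id X := by
    ext x
    rfl
  map_comp g h := by
    ext x
    rfl

/-- The canonical cocone. -/
noncomputable def etCocone : Cocone (etDiag A B) where
  pt := Under.mk (CommRingCat.ofHom (algebraMap A B))
  ι :=
    { app := fun X => Under.homMk (CommRingCat.ofHom X.f.toRingHom) (by
        ext x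
        simp [etDiag])
      naturality := fun X Y g => by
        ext x
        exact congr($(g.2) x) }

theorem etale_etDiag (X : EtOver A B) :
    letI := ((etDiag A B).obj X).hom.hom.toAlgebra
    Algebra.Etale A ((etDiag A B).obj X).right := by
  have : ((etDiag A B).obj X).hom.hom.toAlgebra = (inferInstance : Algebra A X.C) :=
    Algebra.algebra_ext _ _ (fun r => rfl)
  rw [this]
  exact X.etale

/-- **Criterion for ind-étaleness.** -/
theorem isIndEtale_of_exists
    (h1 : ∀ b : B, ∃ (C : Type u) (_ : CommRing C) (_ : Algebra A C) (_ : Algebra.Etale A C)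
      (f : C →ₐ[A] B) (c : C), f c = b)
    (h2 : ∀ (C : Type u) [CommRing C] [Algebra A C] [Algebra.Etale A C] (f : C →ₐ[A] B) (c : C),
      f c = 0 → ∃ (C' : Type u) (_ : CommRing C') (_ : Algebra A C') (_ : Algebra.Etale A C')
        (g : C →ₐ[A] C') (f' : C' →ₐ[A] B), f'.comp g = f ∧ g c = 0) :
    EtPBC.IsIndEtale A B := by
  refine ⟨EtOver A B, inferInstance, inferInstance, etDiag A B, etCocone A B, ?_, etale_etDiag A B,
    ⟨Iso.refl _⟩⟩
  apply isColimitOfSurjInj
  · intro b
    obtain ⟨C, _, _, _, f, c, hc⟩ := h1 b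
    obtain ⟨X, e, he⟩ := exists_obj C f
    refine ⟨X, e c, ?_⟩
    have := congr($he c)
    simp only [AlgHom.coe_comp, Function.comp_apply] at this
    rw [← hc, ← this]
    rfl
  · intro X (y : X.C) hy
    obtain ⟨C', _, _, _, g, f', hgf, hgc⟩ := h2 X.C X.f y hy
    obtain ⟨Z, e, he⟩ := exists_obj C' f'
    refine ⟨Z, ⟨e.toAlgHom.comp g, ?_⟩, ?_⟩
    · rw [← AlgHom.comp_assoc, he, hgf]
    · show e.toAlgHom (g y) = 0
      rw [hgc, map_zero]

end Criterion

section Converse

variable {A B : Type u} [CommRing A] [CommRing B] [Algebra A B]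

/-- Data extracted from an ind-étale presentation: every element comes from an étale algebra. -/
theorem exists_of_isIndEtale (h : EtPBC.IsIndEtale A B) (b : B) :
    ∃ (C : Type u) (_ : CommRing C) (_ : Algebra A C) (_ : Algebra.Etale A C)
      (f : C →ₐ[A] B) (c : C), f c = b := by
  obtain ⟨J, _, _, D, c, hc, het, ⟨e⟩⟩ := h
  let e' : c.pt.right ≅ CommRingCat.of B := (Under.forget _).mapIso e
  obtain ⟨j, y, hy⟩ := surj_of_isColimit D c hc (e'.inv.hom b)
  let _ := (D.obj j).hom.hom.toAlgebra
  have hj := het j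
  refine ⟨(D.obj j).right, inferInstance, inferInstance, hj,
    ⟨((c.ι.app j).right ≫ e'.hom).hom, ?_⟩, y, ?_⟩
  · intro r
    have h1 := congr($(Under.w (c.ι.app j)).hom r)
    have h2 := congr($(Under.w e.hom).hom r)
    simp only [Functor.const_obj_obj, CommRingCat.hom_comp, RingHom.coe_comp,
      Function.comp_apply] at h1 h2
    have h3 : e.hom.right.hom ((c.ι.app j).right.hom ((D.obj j).hom.hom r)) = algebraMap A B r := by
      rw [h1, h2]
      rfl
    exact h3
  · show e'.hom.hom ((c.ι.app j).right.hom y) = b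
    rw [hy]
    have := congr($(e'.inv_hom_id).hom b)
    exact this

/-- Maps from finitely presented algebras to an ind-étale algebra factor through an étale algebra,
and a given element of the kernel can be killed. -/
theorem exists_factor_of_isIndEtale (h : EtPBC.IsIndEtale A B) (C : Type u) [CommRing C]
    [Algebra A C] [Algebra.FinitePresentation A C] (f : C →ₐ[A] B) (x : C) (hx : f x = 0) :
    ∃ (C' : Type u) (_ : CommRing C') (_ : Algebra A C') (_ : Algebra.Etale A C')
      (g : C →ₐ[A] C') (f' : C' →ₐ[A] B), f'.comp g = f ∧ g x = 0 := by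
  obtain ⟨J, _, _, D, c, hc, het, ⟨e⟩⟩ := h
  let e' : c.pt.right ≅ CommRingCat.of B := (Under.forget _).mapIso e
  have hinv : ∀ r : A, e'.inv.hom (algebraMap A B r) = c.pt.hom.hom r := by
    intro r
    have h2 := congr($(Under.w e.inv).hom r)
    simp only [Functor.const_obj_obj, CommRingCat.hom_comp, RingHom.coe_comp,
      Function.comp_apply] at h2
    exact h2
  have hhom : ∀ r : A, e'.hom.hom (c.pt.hom.hom r) = algebraMap A B r := by
    intro r
    have h2 := congr($(Under.w e.hom).hom r)
    simp only [Functor.const_obj_obj, CommRingCat.hom_comp, RingHom.coe_comp,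
      Function.comp_apply] at h2
    exact h2
  obtain ⟨j, g, hg1, hg2⟩ := exists_factor D c hc C (e'.inv.hom.comp f.toRingHom) (by
    ext r
    simp only [RingHom.coe_comp, Function.comp_apply, AlgHom.toRingHom_eq_coe, RingHom.coe_coe,
      AlgHom.commutes]
    exact hinv r)
  have hgx : (c.ι.app j).right.hom (g x) = 0 := by
    have := congr($hg2 x)
    simp only [RingHom.coe_comp, Function.comp_apply, AlgHom.toRingHom_eq_coe, RingHom.coe_coe]
      at this
    rw [this, hx, map_zero]
  obtain ⟨k, t, ht⟩ := inj_of_isColimit D c hc j (g x) hgx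
  let _ := (D.obj k).hom.hom.toAlgebra
  have hk := het k
  refine ⟨(D.obj k).right, inferInstance, inferInstance, hk,
    ⟨(D.map t).right.hom.comp g, ?_⟩, ⟨((c.ι.app k).right ≫ e'.hom).hom, ?_⟩, ?_, ht⟩
  · intro r
    have h1 := congr($hg1 r)
    have h2 := congr($(Under.w (D.map t)).hom r)
    simp only [Functor.const_obj_obj, CommRingCat.hom_comp, RingHom.coe_comp,
      Function.comp_apply] at h1 h2
    have h3 : (D.map t).right.hom (g (algebraMap A C r)) = (D.obj k).hom.hom r := by
      rw [h1, h2]
    exact h3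
  · intro r
    have h1 := congr($(Under.w (c.ι.app k)).hom r)
    simp only [Functor.const_obj_obj, CommRingCat.hom_comp, RingHom.coe_comp,
      Function.comp_apply] at h1
    have h3 : e'.hom.hom ((c.ι.app k).right.hom ((D.obj k).hom.hom r)) = algebraMap A B r := by
      rw [h1, hhom]
    exact h3
  · ext y
    have h1 := congr($hg2 y)
    have h2 := congr($(c.w t).right.hom (g y))
    simp only [RingHom.coe_comp, Function.comp_apply, AlgHom.toRingHom_eq_coe, RingHom.coe_coe]
      at h1
    have h3 : e'.hom.hom ((c.ι.app k).right.hom ((D.map t).right.hom (g y))) = f y := by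
      have h2' : (c.ι.app k).right.hom ((D.map t).right.hom (g y)) =
          (c.ι.app j).right.hom (g y) := h2
      rw [h2', h1]
      exact congr($(e'.inv_hom_id).hom (f y))
    exact h3

end Converse

section Transfer

variable {A B B' : Type u} [CommRing A] [CommRing B] [CommRing B'] [Algebra A B] [Algebra A B']

theorem isIndEtale_of_ringEquiv (e : B ≃+* B')
    (he : ∀ r, e (algebraMap A B r) = algebraMap A B' r) (h : EtPBC.IsIndEtale A B) :
    EtPBC.IsIndEtale A B' := by
  obtain ⟨J, i1, i2, D, c, hc, het, ⟨ι⟩⟩ := h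
  refine ⟨J, i1, i2, D, c, hc, het, ⟨ι ≪≫ Under.isoMk e.toCommRingCatIso ?_⟩⟩
  ext r
  exact he r

end Transfer

end Groth.Agent.Lib.IndEtaleH3
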