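import Mathlib
import Groth.Prelude.Def_PBC
import Groth.Agent.Lib.IndEtale1_helper3

/-!
# Ind-étale algebras, part 2: concrete data of a filtered colimit under `A`; filtered colimits of
ind-étale algebras (helper3)
-/

set_option autoImplicit false
universe u

open CategoryTheory Limits TensorProduct

namespace Groth.Agent.Lib.IndEtaleH3

section Data

variable {A B : Type u} [CommRing A] [CommRing B] [Algebra A B]
  {J : Type u} [SmallCategory J] [IsFiltered J] {D : J ⥤ Under (CommRingCat.of A)}
  (c : Cocone D) (e : c.pt ≅ Under.mk (CommRingCat.ofHom (algebraMap A B)))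

variable (D) in
/-- The algebra structure on the objects of a diagram under `A`. -/
abbrev algObj (j : J) : Algebra A (D.obj j).right := (D.obj j).hom.hom.toAlgebra

/-- The ring isomorphism underlying `e`. -/
def eRight : c.pt.right ≅ CommRingCat.of B := (Under.forget _).mapIso e

theorem eRight_inv_algebraMap (r : A) :
    (eRight c e).inv.hom (algebraMap A B r) = c.pt.hom.hom r := by
  have h2 := congr($(Under.w e.inv).hom r)
  simp only [Functor.const_obj_obj, CommRingCat.hom_comp, RingHom.coe_comp,
    Function.comp_apply] at h2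
  exact h2

theorem eRight_hom_algebraMap (r : A) :
    (eRight c e).hom.hom (c.pt.hom.hom r) = algebraMap A B r := by
  have h2 := congr($(Under.w e.hom).hom r)
  simp only [Functor.const_obj_obj, CommRingCat.hom_comp, RingHom.coe_comp,
    Function.comp_apply] at h2
  exact h2

theorem eRight_hom_inv (b : B) : (eRight c e).hom.hom ((eRight c e).inv.hom b) = b :=
  congr($((eRight c e).inv_hom_id).hom b)

theorem eRight_inv_hom (y : c.pt.right) : (eRight c e).inv.hom ((eRight c e).hom.hom y) = y :=
  congr($((eRight c e).hom_inv_id).hom y)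

/-- The coprojections to `B` as algebra maps. -/
def ιB (j : J) : @AlgHom A (D.obj j).right B _ _ _ (algObj D j) _ :=
  letI := algObj D j
  { ((c.ι.app j).right ≫ (eRight c e).hom).hom with
    commutes' := fun r => by
      have h1 := congr($(Under.w (c.ι.app j)).hom r)
      simp only [Functor.const_obj_obj, CommRingCat.hom_comp, RingHom.coe_comp,
        Function.comp_apply] at h1
      have h3 : (eRight c e).hom.hom ((c.ι.app j).right.hom ((D.obj j).hom.hom r)) =
          algebraMap A B r := by
        rw [h1, eRight_hom_algebraMap]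
      exact h3 }

theorem ιB_apply (j : J) (y : (D.obj j).right) :
    ιB c e j y = (eRight c e).hom.hom ((c.ι.app j).right.hom y) := rfl

variable (D) in
/-- Transition maps as algebra maps. -/
def trB {j k : J} (t : j ⟶ k) :
    @AlgHom A (D.obj j).right (D.obj k).right _ _ _ (algObj D j) (algObj D k) :=
  letI := algObj D j
  letI := algObj D k
  { (D.map t).right.hom with
    commutes' := fun r => by
      have h2 := congr($(Under.w (D.map t)).hom r)
      simp only [Functor.const_obj_obj, CommRingCat.hom_comp, RingHom.coe_comp,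
        Function.comp_apply] at h2
      exact h2 }

variable (D) in
theorem trB_apply {j k : J} (t : j ⟶ k) (y : (D.obj j).right) :
    trB D t y = (D.map t).right.hom y := rfl

theorem ιB_trB {j k : J} (t : j ⟶ k) (y : (D.obj j).right) :
    ιB c e k (trB D t y) = ιB c e j y := by
  rw [ιB_apply, ιB_apply, trB_apply]
  have h2 : (c.ι.app k).right.hom ((D.map t).right.hom y) = (c.ι.app j).right.hom y :=
    congr($(c.w t).right.hom y)
  rw [h2]

variable (hc : IsColimit c)
include hc

theorem exists_ιB (b : B) : ∃ j, ∃ y : (D.obj j).right, ιB c e j y = b := by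
  obtain ⟨j, y, hy⟩ := surj_of_isColimit D c hc ((eRight c e).inv.hom b)
  exact ⟨j, y, by rw [ιB_apply, hy, eRight_hom_inv]⟩

theorem ιB_eq_zero {j : J} {y : (D.obj j).right} (h : ιB c e j y = 0) :
    ∃ k, ∃ t : j ⟶ k, trB D t y = 0 := by
  rw [ιB_apply] at h
  have h' : (c.ι.app j).right.hom y = 0 := by
    rw [← eRight_inv_hom c e ((c.ι.app j).right.hom y), h, map_zero]
  exact inj_of_isColimit D c hc j y h'

theorem exists_factor_ιB (C : Type u) [CommRing C] [Algebra A C] [Algebra.FinitePresentation A C]
    (f : C →ₐ[A] B) (x : C) (hx : f x = 0) :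
    ∃ k, ∃ g : @AlgHom A C (D.obj k).right _ _ _ _ (algObj D k),
      (∀ y, ιB c e k (g y) = f y) ∧ g x = 0 := by
  obtain ⟨j, g, hg1, hg2⟩ := exists_factor D c hc C ((eRight c e).inv.hom.comp f.toRingHom) (by
    ext r
    simp only [RingHom.coe_comp, Function.comp_apply, AlgHom.toRingHom_eq_coe, RingHom.coe_coe,
      AlgHom.commutes]
    exact eRight_inv_algebraMap c e r)
  have hgy : ∀ y, ιB c e j (g y) = f y := by
    intro y
    have := congr($hg2 y)
    simp only [RingHom.coe_comp, Function.comp_apply, AlgHom.toRingHom_eq_coe, RingHom.coe_coe]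
      at this
    rw [ιB_apply, this, eRight_hom_inv]
  obtain ⟨k, t, ht⟩ := ιB_eq_zero c e hc (y := g x) (by rw [hgy, hx])
  letI := algObj D j
  letI := algObj D k
  let g' : C →ₐ[A] (D.obj j).right :=
    { g with commutes' := fun r => congr($hg1 r) }
  refine ⟨k, (trB D t).comp g', fun y => ?_, ht⟩
  show ιB c e k (trB D t (g y)) = f y
  rw [ιB_trB, hgy]

end Data

end Groth.Agent.Lib.IndEtaleH3
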