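import Mathlib
import Groth.Prelude.Def_PBC
import Groth.Agent.Lib.IndEtale2_helper3

/-!
# Ind-étale algebras, part 4: ind-étale algebras are weakly étale (helper3)
-/

set_option autoImplicit false
universe u v w

open CategoryTheory Limits TensorProduct

namespace Groth.Agent.Lib.IndEtaleH3

/-- Flatness can be checked by lifting every relation to a flat module over another ring. -/
theorem flat_of_forall_exists_lift {S : Type v} {M : Type w} [CommRing S] [AddCommGroup M]
    [Module S M]
    (H : ∀ {l : ℕ} (s : Fin l → S) (x : Fin l → M), ∑ k, s k • x k = 0 →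
      ∃ (S' : Type u) (M' : Type u) (_ : CommRing S') (_ : AddCommGroup M') (_ : Module S' M')
        (_ : Module.Flat S' M') (ρ : S' →+* S) (μ : M' →+ M) (_ : ∀ a m, μ (a • m) = ρ a • μ m)
        (s' : Fin l → S') (y : Fin l → M'),
        (∀ k, ρ (s' k) = s k) ∧ (∀ k, μ (y k) = x k) ∧ ∑ k, s' k • y k = 0) :
    Module.Flat S M := by
  apply Module.Flat.of_forall_isTrivialRelation
  intro l s x hsx
  obtain ⟨S', M', _, _, _, _, ρ, μ, hμ, s', y, hs', hy, hrel⟩ := H s x hsx
  obtain ⟨m, a, z, hz1, hz2⟩ := Module.Flat.isTrivialRelation_of_sum_smul_eq_zero hrel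
  refine ⟨m, fun k t => ρ (a k t), fun t => μ (z t), fun k => ?_, fun t => ?_⟩
  · rw [← hy k, hz1 k, map_sum]
    exact Finset.sum_congr rfl fun t _ => hμ _ _
  · have := congr(ρ $(hz2 t))
    rw [map_sum, map_zero] at this
    rw [← this]
    exact Finset.sum_congr rfl fun k _ => by rw [map_mul, hs' k]

section

variable {A B : Type u} [CommRing A] [CommRing B] [Algebra A B]

theorem exists_finset_of_isIndEtale (h : EtPBC.IsIndEtale A B) (T : Finset B) :
    ∃ (C : Type u) (_ : CommRing C) (_ : Algebra A C) (_ : Algebra.Etale A C)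
      (f : C →ₐ[A] B), ∀ t ∈ T, t ∈ Set.range f := by
  classical
  induction T using Finset.induction_on with
  | empty => exact ⟨A, inferInstance, inferInstance, inferInstance, Algebra.ofId A B, by simp⟩
  | insert b T _ ih =>
    obtain ⟨C₁, _, _, _, f₁, h₁⟩ := ih
    obtain ⟨C₂, _, _, _, f₂, c₂, hc₂⟩ := exists_of_isIndEtale h b
    have : Algebra.Etale A (C₁ ⊗[A] C₂) := Algebra.Etale.comp A C₁ _
    refine ⟨C₁ ⊗[A] C₂, inferInstance, inferInstance, inferInstance,
      Algebra.TensorProduct.productMap f₁ f₂, fun t ht => ?_⟩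
    rw [Finset.mem_insert] at ht
    rcases ht with rfl | ht
    · exact ⟨1 ⊗ₜ c₂, by simp [hc₂]⟩
    · obtain ⟨c₁, rfl⟩ := h₁ t ht
      exact ⟨c₁ ⊗ₜ 1, by simp⟩

theorem flat_of_isIndEtale (h : EtPBC.IsIndEtale A B) : Module.Flat A B := by
  classical
  apply flat_of_forall_exists_lift.{u}
  intro l s x hsx
  obtain ⟨C, _, _, _, φ, hφ⟩ := exists_finset_of_isIndEtale h (Finset.univ.image x)
  choose y hy using fun k => hφ (x k) (Finset.mem_image_of_mem x (Finset.mem_univ k))
  have h0 : φ (∑ k, s k • y k) = 0 := by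
    rw [map_sum, ← hsx]
    exact Finset.sum_congr rfl fun k _ => by rw [map_smul, hy]
  obtain ⟨C', _, _, _, g, φ', hgφ, hg0⟩ := exists_factor_of_isIndEtale h C φ _ h0
  have : Module.Flat A C' := Algebra.Smooth.flat A C'
  refine ⟨A, C', inferInstance, inferInstance, inferInstance, inferInstance, RingHom.id A,
    φ'.toLinearMap.toAddMonoidHom, fun a m => map_smul φ' a m, s, fun k => g (y k),
    fun _ => rfl, fun k => ?_, ?_⟩
  · show φ' (g (y k)) = x k
    rw [← hy k, ← hgφ]
    rfl
  · rw [← hg0, map_sum]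
    exact Finset.sum_congr rfl fun k _ => by rw [map_smul]

theorem lmul'_map {C₀ : Type*} [CommRing C₀] [Algebra A C₀] (ψ : C₀ →ₐ[A] B) (z : C₀ ⊗[A] C₀) :
    Algebra.TensorProduct.lmul' A (Algebra.TensorProduct.map ψ ψ z) =
      ψ (Algebra.TensorProduct.lmul' A z) := by
  induction z using TensorProduct.induction_on with
  | zero => simp
  | tmul a b => simp
  | add a b ha hb => simp only [map_add, ha, hb]

theorem flat_lmul'_of_isIndEtale (h : EtPBC.IsIndEtale A B) :
    (Algebra.TensorProduct.lmul' A (S := B)).Flat := by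
  classical
  letI := (Algebra.TensorProduct.lmul' A (S := B)).toRingHom.toAlgebra
  show Module.Flat (B ⊗[A] B) B
  apply flat_of_forall_exists_lift.{u}
  intro l s x hsx
  have hsmul : ∀ (a : B ⊗[A] B) (b : B), a • b = Algebra.TensorProduct.lmul' A a * b :=
    fun a b => rfl
  choose P hP using fun k => TensorProduct.exists_finset (s k)
  let T : Finset B := Finset.univ.image x ∪
    Finset.univ.biUnion (fun k => (P k).image Prod.fst ∪ (P k).image Prod.snd)
  obtain ⟨C, _, _, _, φ, hφ⟩ := exists_finset_of_isIndEtale h T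
  have hpre : ∀ t : B, ∃ c : C, t ∈ T → φ c = t := fun t => by
    by_cases ht : t ∈ T
    · obtain ⟨c, hc⟩ := hφ t ht; exact ⟨c, fun _ => hc⟩
    · exact ⟨0, fun h => absurd h ht⟩
  choose pre hpre using hpre
  let y : Fin l → C := fun k => pre (x k)
  let s' : Fin l → C ⊗[A] C := fun k => ∑ i ∈ P k, pre i.1 ⊗ₜ pre i.2
  have hy : ∀ k, φ (y k) = x k := fun k => hpre _ (by
    apply Finset.mem_union_left
    exact Finset.mem_image_of_mem x (Finset.mem_univ k))
  have hs' : ∀ k, Algebra.TensorProduct.map φ φ (s' k) = s k := by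
    intro k
    rw [hP k, map_sum]
    refine Finset.sum_congr rfl fun i hi => ?_
    rw [Algebra.TensorProduct.map_tmul, hpre i.1, hpre i.2]
    · apply Finset.mem_union_right
      rw [Finset.mem_biUnion]
      exact ⟨k, Finset.mem_univ k, Finset.mem_union_right _ (Finset.mem_image_of_mem _ hi)⟩
    · apply Finset.mem_union_right
      rw [Finset.mem_biUnion]
      exact ⟨k, Finset.mem_univ k, Finset.mem_union_left _ (Finset.mem_image_of_mem _ hi)⟩
  have h0 : φ (∑ k, Algebra.TensorProduct.lmul' A (s' k) * y k) = 0 := by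
    rw [map_sum, ← hsx]
    refine Finset.sum_congr rfl fun k _ => ?_
    rw [map_mul, ← lmul'_map, hs', hy, hsmul]
  obtain ⟨C', _, _, _, g, φ', hgφ, hg0⟩ := exists_factor_of_isIndEtale h C φ _ h0
  letI := (Algebra.TensorProduct.lmul' A (S := C')).toRingHom.toAlgebra
  have hflat : Module.Flat (C' ⊗[A] C') C' := Algebra.WeaklyEtale.flat_lmul' A C'
  have hsmul' : ∀ (a : C' ⊗[A] C') (b : C'), a • b = Algebra.TensorProduct.lmul' A a * b :=
    fun a b => rfl
  have hφg : ∀ c, φ' (g c) = φ c := fun c => by rw [← hgφ]; rfl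
  refine ⟨C' ⊗[A] C', C', inferInstance, inferInstance, inferInstance, hflat,
    (Algebra.TensorProduct.map φ' φ').toRingHom, φ'.toLinearMap.toAddMonoidHom, ?_,
    fun k => Algebra.TensorProduct.map g g (s' k), fun k => g (y k), fun k => ?_, fun k => ?_, ?_⟩
  · intro a m
    show φ' (a • m) = Algebra.TensorProduct.map φ' φ' a • φ' m
    rw [hsmul, hsmul', map_mul, lmul'_map]
  · show Algebra.TensorProduct.map φ' φ' (Algebra.TensorProduct.map g g (s' k)) = s k
    rw [← hs' k, ← AlgHom.comp_apply, ← Algebra.TensorProduct.map_comp, hgφ]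
  · show φ' (g (y k)) = x k
    rw [hφg, hy]
  · rw [← hg0, map_sum]
    refine Finset.sum_congr rfl fun k _ => ?_
    rw [hsmul', map_mul, lmul'_map]

/-- Ind-étale algebras are weakly étale. -/
theorem weaklyEtale_of_isIndEtale (h : EtPBC.IsIndEtale A B) : Algebra.WeaklyEtale A B :=
  { flat := flat_of_isIndEtale h
    flat_lmul' := flat_lmul'_of_isIndEtale h }

end

end Groth.Agent.Lib.IndEtaleH3
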