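import Mathlib

/-!
# Rings complete along an ideal `J` with `A/J` Noetherian and `J/J²` finitely generated are Noetherian
-/

namespace Groth.Agent.Lib.CompleteNoethLead

open MvPolynomial

/-- Successive approximation: if every element of the `d`-th step `P d` of a filtration can be
corrected by a combination of the `m i` with coefficients in `I ^ (d - D)` to land in `P (d+1)`,
then `P 0` is contained in the span of the `m i`. -/
theorem mem_span_of_iterate {R : Type*} [CommRing R] (I : Ideal R) [IsPrecomplete I R]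
    {M : Type*} [AddCommGroup M] [Module R M] [IsHausdorff I M]
    {ι : Type*} [Fintype ι] (m : ι → M) (D : ℕ) (P : ℕ → Set M)
    (hP : ∀ d, P d ⊆ ((I ^ (d - D) • ⊤ : Submodule R M) : Set M))
    (step : ∀ d, ∀ z ∈ P d, ∃ c : ι → R, (∀ i, c i ∈ I ^ (d - D)) ∧
      z - ∑ i, c i • m i ∈ P (d + 1))
    (z : M) (hz : z ∈ P 0) : z ∈ Submodule.span R (Set.range m) := by
  classical
  choose! c hc1 hc2 using step
  obtain ⟨b, hb0, hbs⟩ : ∃ b : ℕ → M, b 0 = z ∧ ∀ d, b (d + 1) = b d - ∑ i, c d (b d) i • m i :=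
    ⟨fun d => Nat.rec z (fun d bd => bd - ∑ i, c d bd i • m i) d, rfl, fun _ => rfl⟩
  have hbP : ∀ d, b d ∈ P d := by
    intro d
    induction d with
    | zero => rw [hb0]; exact hz
    | succ d ih => rw [hbs]; exact hc2 d (b d) ih
  obtain ⟨cc, hccdef⟩ : ∃ cc : ℕ → ι → R, ∀ d i, cc d i = c d (b d) i := ⟨_, fun _ _ => rfl⟩
  have hcc : ∀ d i, cc d i ∈ I ^ (d - D) := fun d i => by
    rw [hccdef]; exact hc1 d (b d) (hbP d) i
  obtain ⟨S, hSdef⟩ : ∃ S : ℕ → ι → R, ∀ k i, S k i = ∑ d ∈ Finset.range k, cc d i :=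
    ⟨_, fun _ _ => rfl⟩
  have hS : ∀ k, z - ∑ i, S k i • m i = b k := by
    intro k
    induction k with
    | zero => simp [hSdef, hb0]
    | succ k ih =>
      have h1 : ∀ i, S (k + 1) i • m i = S k i • m i + c k (b k) i • m i := by
        intro i; rw [hSdef, hSdef, Finset.sum_range_succ, add_smul, hccdef]
      calc z - ∑ i, S (k + 1) i • m i
          = (z - ∑ i, S k i • m i) - ∑ i, c k (b k) i • m i := by
            simp only [h1, Finset.sum_add_distrib]; abel
        _ = b k - ∑ i, c k (b k) i • m i := by rw [ih]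
        _ = b (k + 1) := (hbs k).symm
  have hdiff : ∀ i k k', k ≤ k' → S (k' + D) i - S (k + D) i ∈ I ^ k := by
    intro i k k' hkk'
    rw [hSdef, hSdef, ← Finset.sum_Ico_eq_sub (fun d => cc d i) (by omega : k + D ≤ k' + D)]
    refine Ideal.sum_mem _ fun d hd => ?_
    have hd' : k + D ≤ d := (Finset.mem_Ico.1 hd).1
    exact Ideal.pow_le_pow_right (by omega) (hcc d i)
  have hprec : ∀ i, ∃ L : R, ∀ k, S (k + D) i ≡ L [SMOD (I ^ k • ⊤ : Submodule R R)] := by
    intro i
    refine IsPrecomplete.prec ‹IsPrecomplete I R› (f := fun k => S (k + D) i) ?_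
    intro k k' hkk'
    refine (SModEq.sub_mem.2 ?_).symm
    rw [smul_eq_mul, Ideal.mul_top]
    exact hdiff i k k' hkk'
  choose L hL using hprec
  have hzero : z - ∑ i, L i • m i = 0 := by
    refine IsHausdorff.haus ‹IsHausdorff I M› _ fun k => ?_
    rw [SModEq.sub_mem, sub_zero]
    have e : z - ∑ i, L i • m i = b (k + D) + ∑ i, (S (k + D) i - L i) • m i := by
      rw [← hS (k + D)]
      simp only [sub_smul, Finset.sum_sub_distrib]
      abel
    rw [e]
    refine Submodule.add_mem _ ?_ (Submodule.sum_mem _ fun i _ => ?_)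
    · have := hP (k + D) (hbP (k + D))
      rw [Nat.add_sub_cancel] at this
      exact this
    · refine Submodule.smul_mem_smul ?_ Submodule.mem_top
      have := SModEq.sub_mem.1 (hL i k)
      rw [smul_eq_mul, Ideal.mul_top] at this
      exact this
  rw [sub_eq_zero] at hzero
  rw [hzero]
  exact Submodule.sum_mem _ fun i _ => Submodule.smul_mem _ _ (Submodule.subset_span ⟨i, rfl⟩)

section poly

variable {A : Type*} [CommRing A] {σ : Type*}

lemma hC_mul_of_homog (G Fj : MvPolynomial σ A) {dj : ℕ} (hF : Fj.IsHomogeneous dj) (d : ℕ) :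
    homogeneousComponent d (G * Fj) =
      if dj ≤ d then homogeneousComponent (d - dj) G * Fj else 0 := by
  have hG : G * Fj = ∑ i ∈ Finset.range (G.totalDegree + 1), homogeneousComponent i G * Fj := by
    rw [← Finset.sum_mul, sum_homogeneousComponent]
  have hterm : ∀ i, homogeneousComponent d (homogeneousComponent i G * Fj) =
      if d = i + dj then homogeneousComponent i G * Fj else 0 := fun i =>
    homogeneousComponent_of_mem ((homogeneousComponent_isHomogeneous i G).mul hF)
  rw [hG, map_sum]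
  simp_rw [hterm]
  split_ifs with h
  · by_cases hi : d - dj ∈ Finset.range (G.totalDegree + 1)
    · rw [Finset.sum_eq_single_of_mem (d - dj) hi]
      · rw [if_pos (by omega)]
      · intro b _ hb; rw [if_neg (by omega)]
    · rw [Finset.sum_eq_zero]
      · rw [homogeneousComponent_eq_zero _ _ (by rw [Finset.mem_range] at hi; omega), zero_mul]
      · intro i hi'
        rw [if_neg]
        intro h'
        apply hi
        have : d - dj = i := by omega
        rw [this]; exact hi'
  · apply Finset.sum_eq_zero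
    intro i _
    rw [if_neg (by omega)]

lemma eval_mem_of_coeff_mem {n : ℕ} (x : Fin n → A) (J : Ideal A) (hxJ : ∀ i, x i ∈ J)
    (F : MvPolynomial (Fin n) A) (d : ℕ) (hF : F.IsHomogeneous d) (hc : ∀ m, coeff m F ∈ J) :
    eval x F ∈ J ^ (d + 1) := by
  have h := congrArg (eval x) F.as_sum
  rw [map_sum] at h
  rw [h]
  refine Ideal.sum_mem _ fun m hm => ?_
  rw [eval_monomial]
  have hdeg : m.degree = d := by
    by_contra hne
    exact (mem_support_iff.1 hm) (hF.coeff_eq_zero hne)
  have hK : (m.prod fun i k => x i ^ k) ∈ (Ideal.span (Set.range x)) ^ d :=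
    (Ideal.mem_span_pow_iff_exists_isHomogeneous x _).2
      ⟨monomial m 1, isHomogeneous_monomial 1 hdeg, by simp [eval_monomial]⟩
  have hKJ : Ideal.span (Set.range x) ≤ J :=
    Ideal.span_le.2 (by rintro _ ⟨i, rfl⟩; exact hxJ i)
  rw [pow_succ']
  exact Ideal.mul_mem_mul (hc m) (Ideal.pow_right_mono hKJ d hK)

theorem pow_le_sup (J K : Ideal A) (hKJ : K ≤ J) (hJ : J ≤ K ⊔ J ^ 2) (d : ℕ) :
    J ^ d ≤ K ^ d ⊔ J ^ (d + 1) := by
  induction d with
  | zero => simp
  | succ d ih =>
    calc J ^ (d + 1) = J ^ d * J := pow_succ _ _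
      _ ≤ (K ^ d ⊔ J ^ (d + 1)) * (K ⊔ J ^ 2) := Ideal.mul_mono ih hJ
      _ ≤ K ^ (d + 1) ⊔ J ^ (d + 1 + 1) := by
        rw [Ideal.sup_mul, Ideal.mul_sup, Ideal.mul_sup]
        refine sup_le (sup_le ?_ ?_) (sup_le ?_ ?_)
        · rw [← pow_succ]; exact le_sup_left
        · refine le_trans ?_ le_sup_right
          calc K ^ d * J ^ 2 ≤ J ^ d * J ^ 2 := Ideal.mul_mono_left (Ideal.pow_right_mono hKJ d)
            _ = J ^ (d + 1 + 1) := by rw [← pow_add]
        · refine le_trans ?_ le_sup_right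
          calc J ^ (d + 1) * K ≤ J ^ (d + 1) * J := Ideal.mul_mono_right hKJ
            _ = J ^ (d + 1 + 1) := (pow_succ _ _).symm
        · refine le_trans ?_ le_sup_right
          calc J ^ (d + 1) * J ^ 2 = J ^ (d + 1 + 2) := by rw [← pow_add]
            _ ≤ J ^ (d + 1 + 1) := Ideal.pow_le_pow_right (by omega)

end poly

universe u

/-- **Main theorem**: a ring complete along `J`, with `A/J` Noetherian and `J` generated modulo
`J²` by finitely many elements, is Noetherian. -/
theorem isNoetherianRing_of_isAdicComplete {A : Type u} [CommRing A] (J : Ideal A)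
    [IsAdicComplete J A] {n : ℕ} (x : Fin n → A) (hxJ : ∀ i, x i ∈ J)
    (hJ : J ≤ Ideal.span (Set.range x) ⊔ J ^ 2) [IsNoetherianRing (A ⧸ J)] :
    IsNoetherianRing A := by
  classical
  obtain ⟨K, hK⟩ : ∃ K : Ideal A, K = Ideal.span (Set.range x) := ⟨_, rfl⟩
  have hKJ : K ≤ J := by rw [hK]; exact Ideal.span_le.2 (by rintro _ ⟨i, rfl⟩; exact hxJ i)
  rw [← hK] at hJ
  let JT : Ideal (MvPolynomial (Fin n) A) := Ideal.map C J
  have : IsNoetherianRing (MvPolynomial (Fin n) A ⧸ JT) :=
    isNoetherianRing_of_ringEquiv _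
      (MvPolynomial.quotientEquivQuotientMvPolynomial (σ := Fin n) J).toRingEquiv
  rw [isNoetherianRing_iff_ideal_fg]
  intro 𝔞
  let Sg : Set (MvPolynomial (Fin n) A) :=
    {F | ∃ d, F.IsHomogeneous d ∧ ∃ a ∈ 𝔞, a - eval x F ∈ J ^ (d + 1)}
  have hfg : (Submodule.span (MvPolynomial (Fin n) A ⧸ JT) (Ideal.Quotient.mk JT '' Sg)).FG :=
    IsNoetherian.noetherian _
  obtain ⟨s', hs'sub, hs'span⟩ := (Submodule.fg_span_iff_fg_span_finset_subset _).1 hfg
  obtain ⟨S0, hS0sub, hS0img⟩ := Finset.subset_set_image_iff.1 hs'sub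
  have hcomb : ∀ F ∈ Sg, ∃ (g : S0 → MvPolynomial (Fin n) A) (H : MvPolynomial (Fin n) A),
      H ∈ JT ∧ F = ∑ j, g j * (j : MvPolynomial (Fin n) A) + H := by
    intro F hF
    have h1 : Ideal.Quotient.mk JT F ∈
        Submodule.span (MvPolynomial (Fin n) A ⧸ JT) (Ideal.Quotient.mk JT '' Sg) :=
      Submodule.subset_span ⟨F, hF, rfl⟩
    rw [hs'span, ← hS0img, Finset.coe_image] at h1
    have h2 : Ideal.Quotient.mk JT F ∈
        Ideal.map (Ideal.Quotient.mk JT) (Ideal.span (S0 : Set (MvPolynomial (Fin n) A))) := by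
      rw [Ideal.map_span]; exact h1
    obtain ⟨G, hG, hGF⟩ := (Ideal.mem_map_iff_of_surjective _ Ideal.Quotient.mk_surjective).1 h2
    have hr : Set.range (Subtype.val : S0 → MvPolynomial (Fin n) A) =
        (S0 : Set (MvPolynomial (Fin n) A)) := by ext y; simp
    have h3 : G ∈ Ideal.span (Set.range (Subtype.val : S0 → MvPolynomial (Fin n) A)) := by
      rw [hr]; exact hG
    obtain ⟨g, hg⟩ := Ideal.mem_span_range_iff_exists_fun.1 h3
    refine ⟨g, F - G, Ideal.Quotient.eq.1 hGF.symm, ?_⟩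
    rw [hg]; ring
  have hdata : ∀ j : S0, ∃ d, (j : MvPolynomial (Fin n) A).IsHomogeneous d ∧
      ∃ a ∈ 𝔞, a - eval x (j : MvPolynomial (Fin n) A) ∈ J ^ (d + 1) := fun j => hS0sub j.2
  choose dd hhom aa haa haeq using hdata
  obtain ⟨D, hD⟩ : ∃ D : ℕ, ∀ j, dd j ≤ D :=
    ⟨Finset.univ.sup dd, fun j => Finset.le_sup (Finset.mem_univ j)⟩
  have hevK : ∀ (G : MvPolynomial (Fin n) A) (e : ℕ), G.IsHomogeneous e → eval x G ∈ J ^ e :=
    fun G e hG => Ideal.pow_right_mono hKJ _ (by
      rw [hK]; exact (Ideal.mem_span_pow_iff_exists_isHomogeneous x _).2 ⟨G, hG, rfl⟩)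
  have step : ∀ (d : ℕ), ∀ b ∈ {b : A | b ∈ 𝔞 ∧ b ∈ J ^ d}, ∃ c : S0 → A,
      (∀ j, c j ∈ J ^ (d - D)) ∧ b - ∑ j, c j • aa j ∈ {b : A | b ∈ 𝔞 ∧ b ∈ J ^ (d + 1)} := by
    rintro d b ⟨hb𝔞, hbd⟩
    obtain ⟨k, hk, j', hj', hkj⟩ := Submodule.mem_sup.1 (pow_le_sup J K hKJ hJ d hbd)
    rw [hK] at hk
    obtain ⟨F, hFhom, hFk⟩ := (Ideal.mem_span_pow_iff_exists_isHomogeneous x k).1 hk
    have hbF : b - eval x F ∈ J ^ (d + 1) := by
      rw [hFk, ← hkj, add_sub_cancel_left]; exact hj'
    have hFS : F ∈ Sg := ⟨d, hFhom, b, hb𝔞, hbF⟩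
    obtain ⟨g, H, hH, hFeq⟩ := hcomb F hFS
    obtain ⟨g', hg'def⟩ : ∃ g' : S0 → MvPolynomial (Fin n) A, ∀ j, g' j =
        if dd j ≤ d then homogeneousComponent (d - dd j) (g j) else 0 := ⟨_, fun _ => rfl⟩
    have hg'hom : ∀ j, (g' j).IsHomogeneous (d - dd j) := by
      intro j; rw [hg'def]; split_ifs
      · exact homogeneousComponent_isHomogeneous _ _
      · exact isHomogeneous_zero _ _ _
    have hFeq' : F = ∑ j, g' j * (j : MvPolynomial (Fin n) A) + homogeneousComponent d H := by
      have := congrArg (homogeneousComponent d) hFeq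
      rw [homogeneousComponent_eq_self hFhom, map_add, map_sum] at this
      rw [this]; congr 1
      refine Finset.sum_congr rfl fun j _ => ?_
      rw [hC_mul_of_homog _ _ (hhom j), hg'def]
      split_ifs <;> simp
    have hHd : ∀ m, coeff m (homogeneousComponent d H) ∈ J := by
      intro m; rw [coeff_homogeneousComponent]; split_ifs
      · exact (MvPolynomial.mem_map_C_iff.1 hH) m
      · exact J.zero_mem
    refine ⟨fun j => eval x (g' j), ?_, ?_, ?_⟩
    · intro j
      exact Ideal.pow_le_pow_right (by have := hD j; omega) (hevK _ _ (hg'hom j))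
    · exact 𝔞.sub_mem hb𝔞 (𝔞.sum_mem fun j _ => 𝔞.mul_mem_left _ (haa j))
    · have e1 : eval x F = ∑ j, eval x (g' j) * eval x (j : MvPolynomial (Fin n) A) +
          eval x (homogeneousComponent d H) := by
        conv_lhs => rw [hFeq']
        simp only [map_add, map_sum, map_mul]
      have e2 : b - ∑ j, eval x (g' j) • aa j = (b - eval x F) +
          (∑ j, eval x (g' j) * (eval x (j : MvPolynomial (Fin n) A) - aa j)) +
          eval x (homogeneousComponent d H) := by
        rw [e1]; simp only [mul_sub, Finset.sum_sub_distrib, smul_eq_mul]; ring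
      show b - ∑ j, eval x (g' j) • aa j ∈ J ^ (d + 1)
      rw [e2]
      refine Ideal.add_mem _ (Ideal.add_mem _ hbF ?_) ?_
      · refine Ideal.sum_mem _ fun j _ => ?_
        by_cases hjd : dd j ≤ d
        · have h1 : eval x (g' j) ∈ J ^ (d - dd j) := hevK _ _ (hg'hom j)
          have h2 : eval x (j : MvPolynomial (Fin n) A) - aa j ∈ J ^ (dd j + 1) := by
            have := haeq j
            rw [← neg_sub]
            exact (Ideal.neg_mem_iff _).2 this
          have h3 : (d - dd j) + (dd j + 1) = d + 1 := by omega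
          rw [← h3, pow_add]
          exact Ideal.mul_mem_mul h1 h2
        · have : g' j = 0 := by rw [hg'def, if_neg hjd]
          rw [this, map_zero, zero_mul]; exact Ideal.zero_mem _
      · exact eval_mem_of_coeff_mem x J hxJ _ d (homogeneousComponent_isHomogeneous d H) hHd
  have key : ∀ a ∈ 𝔞, a ∈ Submodule.span A (Set.range aa) := by
    intro a ha
    refine mem_span_of_iterate J aa D (fun d => {b : A | b ∈ 𝔞 ∧ b ∈ J ^ d}) ?_ step a
      ⟨ha, by simp⟩
    intro d b hb
    show b ∈ (J ^ (d - D) • ⊤ : Submodule A A)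
    rw [smul_eq_mul, Ideal.mul_top]
    exact Ideal.pow_le_pow_right (Nat.sub_le _ _) hb.2
  have heq : 𝔞 = Submodule.span A (Set.range aa) := by
    refine le_antisymm key ?_
    rw [Submodule.span_le]
    rintro _ ⟨j, rfl⟩
    exact haa j
  rw [heq]
  exact Submodule.fg_span (Set.finite_range aa)

/-- If `R` is `I`-adically complete, `M` is `I`-adically separated and `M/IM` is finite, then `M`
is finite. -/
theorem finite_of_hausdorff {R : Type*} [CommRing R] (I : Ideal R) [IsAdicComplete I R]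
    (M : Type*) [AddCommGroup M] [Module R M] [IsHausdorff I M]
    (h : Module.Finite R (M ⧸ (I • ⊤ : Submodule R M))) : Module.Finite R M := by
  classical
  obtain ⟨n, s, hs⟩ := Module.Finite.exists_fin (R := R) (M := M ⧸ (I • ⊤ : Submodule R M))
  have hlift : ∀ i, ∃ y : M, (I • ⊤ : Submodule R M).mkQ y = s i := fun i =>
    Submodule.mkQ_surjective _ (s i)
  choose m hm using hlift
  have htop : ∀ z : M, z ∈ Submodule.span R (Set.range m) ⊔ (I • ⊤ : Submodule R M) := by
    intro z
    have hz : (I • ⊤ : Submodule R M).mkQ z ∈ Submodule.span R (Set.range s) := by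
      rw [hs]; trivial
    have hmap : Submodule.span R (Set.range s) =
        (Submodule.span R (Set.range m)).map (I • ⊤ : Submodule R M).mkQ := by
      rw [Submodule.map_span, ← Set.range_comp]
      congr 2
      ext i
      exact (hm i).symm
    rw [hmap] at hz
    obtain ⟨w, hw, hwz⟩ := hz
    have h1 : z - w ∈ (I • ⊤ : Submodule R M) := by
      rw [Submodule.mkQ_apply, Submodule.mkQ_apply] at hwz
      exact (Submodule.Quotient.eq _).1 hwz.symm
    have : z = w + (z - w) := by abel
    rw [this]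
    exact Submodule.add_mem_sup hw h1
  have step : ∀ d, ∀ z ∈ ((I ^ d • ⊤ : Submodule R M) : Set M), ∃ c : Fin n → R,
      (∀ i, c i ∈ I ^ (d - 0)) ∧
      z - ∑ i, c i • m i ∈ ((I ^ (d + 1) • ⊤ : Submodule R M) : Set M) := by
    intro d z hz
    have hle : (I ^ d • ⊤ : Submodule R M) ≤
        I ^ d • Submodule.span R (Set.range m) ⊔ (I ^ (d + 1) • ⊤ : Submodule R M) := by
      have : (⊤ : Submodule R M) ≤ Submodule.span R (Set.range m) ⊔ (I • ⊤ : Submodule R M) :=
        fun z _ => htop z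
      calc (I ^ d • ⊤ : Submodule R M)
          ≤ I ^ d • (Submodule.span R (Set.range m) ⊔ (I • ⊤ : Submodule R M)) :=
            Submodule.smul_mono le_rfl this
        _ = I ^ d • Submodule.span R (Set.range m) ⊔ (I ^ (d + 1) • ⊤ : Submodule R M) := by
            rw [Submodule.smul_sup, ← Submodule.mul_smul, ← pow_succ]
    obtain ⟨u, hu, v, hv, huv⟩ := Submodule.mem_sup.1 (hle hz)
    obtain ⟨a, ha, hau⟩ := (Submodule.mem_ideal_smul_span_iff_exists_sum (I ^ d) m u).1 hu
    refine ⟨fun i => a i, fun i => by simpa using ha i, ?_⟩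
    have : ∑ i, a i • m i = u := by
      rw [← hau, Finsupp.sum_fintype]
      intro i; exact zero_smul _ _
    show z - ∑ i, a i • m i ∈ (I ^ (d + 1) • ⊤ : Submodule R M)
    rw [this, ← huv, add_sub_cancel_left]
    exact hv
  have hall : ∀ z : M, z ∈ Submodule.span R (Set.range m) := by
    intro z
    refine mem_span_of_iterate I m 0 (fun d => ((I ^ d • ⊤ : Submodule R M) : Set M)) ?_ step z ?_
    · intro d z hz; simpa using hz
    · simp
  rw [Module.finite_def]
  have : (⊤ : Submodule R M) = Submodule.span R (Set.range m) :=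
    le_antisymm (fun z _ => hall z) le_top
  rw [this]
  exact Submodule.fg_span (Set.finite_range m)

end Groth.Agent.Lib.CompleteNoethLead
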