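import Mathlib
import Groth.Agent.Lib.CompleteNoeth_lead

/-!
# A local ring with finitely generated maximal ideal whose finitely generated ideals are
`𝔪`-adically closed is Noetherian (helper3)

This is the ring-theoretic core of EGA 0_III 10.3.1.3.
-/

set_option autoImplicit false
universe u

open IsLocalRing

namespace Groth.Agent.Lib.NoethApproxH3

/-- Ideals of a Noetherian local ring are closed for the `𝔪`-adic topology. -/
theorem mem_of_forall_mem_sup_pow {G : Type*} [CommRing G] [IsNoetherianRing G] [IsLocalRing G]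
    (𝔞 : Ideal G) (x : G) (hx : ∀ n, x ∈ 𝔞 ⊔ maximalIdeal G ^ n) : x ∈ 𝔞 := by
  have hK := Ideal.iInf_pow_smul_eq_bot_of_isLocalRing (I := maximalIdeal G) (M := G ⧸ 𝔞)
    (Ideal.IsMaximal.ne_top inferInstance)
  have hmem : (Ideal.Quotient.mk 𝔞 x : G ⧸ 𝔞) ∈
      (⨅ i : ℕ, maximalIdeal G ^ i • ⊤ : Submodule G (G ⧸ 𝔞)) := by
    rw [Submodule.mem_iInf]
    intro n
    obtain ⟨a, ha, y, hy, rfl⟩ := Submodule.mem_sup.mp (hx n)
    have h1 : (Ideal.Quotient.mk 𝔞 (a + y) : G ⧸ 𝔞) = y • (1 : G ⧸ 𝔞) := by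
      rw [map_add, Ideal.Quotient.eq_zero_iff_mem.mpr ha, zero_add, Algebra.smul_def, mul_one]
      rfl
    rw [h1]
    exact Submodule.smul_mem_smul hy Submodule.mem_top
  rw [hK, Submodule.mem_bot] at hmem
  exact Ideal.Quotient.eq_zero_iff_mem.mp hmem

/-- The completion of a local ring with finitely generated maximal ideal is Noetherian. -/
theorem isNoetherianRing_adicCompletion_of_fg (H : Type u) [CommRing H] [IsLocalRing H]
    (fg : (maximalIdeal H).FG) : IsNoetherianRing (AdicCompletion (maximalIdeal H) H) := by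
  set I := maximalIdeal H
  haveI := AdicCompletion.isAdicComplete_self I fg
  obtain ⟨n, x, hx⟩ := Submodule.fg_iff_exists_fin_generating_family.mp fg
  have e : (AdicCompletion I H ⧸ I.map (algebraMap H (AdicCompletion I H))) ≃+* (H ⧸ I) :=
    (Ideal.quotEquivOfEq (AdicCompletion.ker_evalOneₐ_eq_map I fg).symm).trans
      (RingHom.quotientKerEquivOfSurjective
        (f := (AdicCompletion.evalOneₐ I).toRingHom) (AdicCompletion.evalOneₐ_surjective I))
  have : IsNoetherianRing (H ⧸ I) := by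
    letI := Ideal.Quotient.field (maximalIdeal H)
    infer_instance
  have : IsNoetherianRing
      (AdicCompletion I H ⧸ I.map (algebraMap H (AdicCompletion I H))) :=
    isNoetherianRing_of_ringEquiv _ e.symm
  have hspan : I.map (algebraMap H (AdicCompletion I H)) =
      Ideal.span (Set.range (fun i => algebraMap H (AdicCompletion I H) (x i))) := by
    have h0 : I.map (algebraMap H (AdicCompletion I H)) =
        (Ideal.span (Set.range x)).map (algebraMap H (AdicCompletion I H)) := by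
      rw [show Ideal.span (Set.range x) = I from hx]
    rw [h0, Ideal.map_span, ← Set.range_comp]
    rfl
  refine Groth.Agent.Lib.CompleteNoethLead.isNoetherianRing_of_isAdicComplete
    (I.map (algebraMap H (AdicCompletion I H)))
    (fun i => algebraMap H (AdicCompletion I H) (x i)) (fun i => ?_) ?_
  · rw [hspan]; exact Ideal.subset_span ⟨i, rfl⟩
  · rw [← hspan]; exact le_sup_left

/-- **Core criterion.** -/
theorem isNoetherianRing_of_closed (H : Type u) [CommRing H] [IsLocalRing H]
    (fg : (maximalIdeal H).FG)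
    (hclosed : ∀ 𝔞 : Ideal H, 𝔞.FG → ∀ x, (∀ n, x ∈ 𝔞 ⊔ maximalIdeal H ^ n) → x ∈ 𝔞) :
    IsNoetherianRing H := by
  classical
  set I := maximalIdeal H
  have := isNoetherianRing_adicCompletion_of_fg H fg
  let f := algebraMap H (AdicCompletion I H)
  rw [isNoetherianRing_iff_ideal_fg]
  intro 𝔟
  have h1 : (𝔟.map f).FG := IsNoetherian.noetherian _
  have h1' : (Submodule.span (AdicCompletion I H) (f '' (𝔟 : Set H))).FG := h1
  rw [Submodule.fg_span_iff_fg_span_finset_subset] at h1'
  obtain ⟨t, ht, hspan⟩ := h1'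
  obtain ⟨t', ht', rfl⟩ : ∃ t' : Finset H, (t' : Set H) ⊆ 𝔟 ∧ t'.image f = t := by
    have := Finset.subset_set_image_iff.mp ht
    obtain ⟨t', ht', h⟩ := this
    exact ⟨t', ht', h⟩
  let 𝔞 : Ideal H := Ideal.span (t' : Set H)
  have h𝔞𝔟 : 𝔞 ≤ 𝔟 := Ideal.span_le.mpr ht'
  have hmap : 𝔟.map f = 𝔞.map f := by
    rw [Ideal.map_span]
    show Ideal.span _ = _
    rw [Ideal.span, hspan, Finset.coe_image]
  suffices 𝔟 ≤ 𝔞 by
    rw [le_antisymm this h𝔞𝔟]
    exact ⟨t', rfl⟩
  intro x hx
  apply hclosed 𝔞 ⟨t', rfl⟩ x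
  intro n
  have h2 : f x ∈ 𝔞.map f := hmap ▸ Ideal.mem_map_of_mem f hx
  have h3 : (AdicCompletion.evalₐ I n).toRingHom (f x) ∈
      (𝔞.map f).map (AdicCompletion.evalₐ I n).toRingHom :=
    Ideal.mem_map_of_mem _ h2
  rw [Ideal.map_map] at h3
  have h4 : (AdicCompletion.evalₐ I n).toRingHom.comp f =
      Ideal.Quotient.mk (I ^ n) := by
    ext y
    exact AdicCompletion.evalₐ_of I n y
  have h5 : (AdicCompletion.evalₐ I n).toRingHom (f x) = Ideal.Quotient.mk (I ^ n) x :=
    AdicCompletion.evalₐ_of I n x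
  rw [h4, h5] at h3
  rw [Ideal.mem_map_iff_of_surjective _ Ideal.Quotient.mk_surjective] at h3
  obtain ⟨a, ha, hax⟩ := h3
  have : x - a ∈ I ^ n := by
    rw [← Ideal.Quotient.eq_zero_iff_mem, map_sub, hax, sub_self]
  have hx' : x = a + (x - a) := by ring
  rw [hx']
  exact Ideal.add_mem _ (Ideal.mem_sup_left ha) (Ideal.mem_sup_right this)

end Groth.Agent.Lib.NoethApproxH3
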