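import Mathlib
import Groth.Agent.Lib.NoethApprox_helper3
import Groth.Agent.Lib.IndEtale4_helper3

/-!
# Flat local extensions with prescribed residue field: basic steps (helper3)

* `isNoetherianRing_of_family`: a local ring covered by Noetherian local rings along flat local
  maps with `𝔪_G H = 𝔪_H` is Noetherian (EGA 0_III 10.3.1.3, family form).
* `flat_of_family`: an algebra that is a directed union of flat subalgebras is flat.
* `Succ`: one algebraic step `B → AdjoinRoot F`.
-/

set_option autoImplicit false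
universe u

open IsLocalRing Polynomial

namespace Groth.Agent.Lib.FlatLocalExtH3

/-- A local ring covered by Noetherian local rings along flat local maps with `𝔪_G H = 𝔪_H`
is Noetherian. -/
theorem isNoetherianRing_of_family (H : Type u) [CommRing H] [IsLocalRing H]
    (hfam : ∀ (l : ℕ) (x : Fin l → H), ∃ (G : Type u) (_ : CommRing G) (_ : IsLocalRing G)
      (_ : IsNoetherianRing G) (g : G →+* H), g.Flat ∧ IsLocalHom g ∧
        (maximalIdeal G).map g = maximalIdeal H ∧ ∀ k, x k ∈ g.range) :
    IsNoetherianRing H := by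
  apply Groth.Agent.Lib.NoethApproxH3.isNoetherianRing_of_closed
  · obtain ⟨G, _, _, _, g, -, -, hmax, -⟩ := hfam 0 Fin.elim0
    rw [← hmax]
    exact Ideal.FG.map (IsNoetherian.noetherian _) _
  · intro 𝔞 h𝔞 x hx
    obtain ⟨l, gen, hgen⟩ := Submodule.fg_iff_exists_fin_generating_family.mp h𝔞
    obtain ⟨G, _, _, _, g, hflat, hloc, hmax, hrange⟩ :=
      hfam (l + 1) (Fin.cons x gen : Fin (l + 1) → H)
    choose a ha using hrange
    have ha0 : g (a 0) = x := by rw [ha 0]; rfl
    have hak : ∀ k : Fin l, g (a k.succ) = gen k := fun k => by rw [ha k.succ]; rfl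
    let 𝔞i : Ideal G := Ideal.span (Set.range (fun k : Fin l => a k.succ))
    have hmap : 𝔞i.map g = 𝔞 := by
      rw [Ideal.map_span, ← Set.range_comp, ← hgen]
      congr 2
      ext k
      exact hak k
    letI := g.toAlgebra
    haveI : Module.Flat G H := hflat
    haveI : IsLocalHom (algebraMap G H) := hloc
    haveI : Module.FaithfullyFlat G H := Module.FaithfullyFlat.of_flat_of_isLocalHom
    have hcomap : ∀ K : Ideal G, (K.map g).comap g = K := fun K =>
      Ideal.comap_map_eq_self_of_faithfullyFlat (B := H) K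
    have hx' : ∀ n, a 0 ∈ 𝔞i ⊔ maximalIdeal G ^ n := by
      intro n
      rw [← hcomap (𝔞i ⊔ maximalIdeal G ^ n), Ideal.mem_comap, Ideal.map_sup, Ideal.map_pow,
        hmap, hmax, ha0]
      exact hx n
    have h1 := Groth.Agent.Lib.NoethApproxH3.mem_of_forall_mem_sup_pow 𝔞i (a 0) hx'
    rw [← ha0, ← hmap]
    exact Ideal.mem_map_of_mem _ h1

/-- An algebra in which every finite family lies in the (injective) image of a flat algebra
is flat. -/
theorem flat_of_family (A C : Type u) [CommRing A] [CommRing C] [Algebra A C]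
    (h : ∀ (l : ℕ) (x : Fin l → C), ∃ (G : Type u) (_ : CommRing G) (_ : Algebra A G)
      (g : G →ₐ[A] C), Function.Injective g ∧ Module.Flat A G ∧ ∀ k, x k ∈ g.range) :
    Module.Flat A C := by
  apply Groth.Agent.Lib.IndEtaleH3.flat_of_forall_exists_lift.{u}
  intro l s x hsx
  obtain ⟨G, _, _, g, hinj, hflat, hrange⟩ := h l x
  choose y hy using hrange
  refine ⟨A, G, inferInstance, inferInstance, inferInstance, hflat, RingHom.id A,
    g.toLinearMap.toAddMonoidHom, fun a m => ?_, s, y, fun k => rfl, fun k => hy k, ?_⟩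
  · simp
  · apply hinj
    rw [map_sum, map_zero, ← hsx]
    exact Finset.sum_congr rfl fun k _ => by rw [map_smul]; exact congrArg _ (hy k)


section Succ

variable {B K : Type u} [CommRing B] [IsLocalRing B] [Field K] (φ : B →+* K) [IsLocalHom φ]

/-- The kernel of a local homomorphism to a field is the maximal ideal. -/
theorem ker_eq_maximalIdeal : RingHom.ker φ = maximalIdeal B := by
  ext x
  rw [RingHom.mem_ker, mem_maximalIdeal, mem_nonunits_iff]
  constructor
  · intro h hu
    have := hu.map φ
    rw [h] at this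
    exact not_isUnit_zero this
  · intro h
    by_contra h0
    exact h (isUnit_of_map_unit φ x (isUnit_iff_ne_zero.mpr h0))

/-- A ring hom from a ring to a field whose kernel consists of non-units... converse: if the
kernel of `ψ : Q → K` is the unique maximal ideal then `ψ` is local. -/
theorem isLocalHom_of_ker_eq {Q : Type u} [CommRing Q] [IsLocalRing Q] (ψ : Q →+* K)
    (h : RingHom.ker ψ = maximalIdeal Q) : IsLocalHom ψ := by
  constructor
  intro x hx
  by_contra hnu
  have : x ∈ maximalIdeal Q := hnu
  rw [← h, RingHom.mem_ker] at this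
  rw [this] at hx
  exact not_isUnit_zero hx

/-- One algebraic step: adjoin a root of a monic lift of the minimal polynomial of `α`. -/
theorem exists_adjoinRoot (α : K) (hα : φ.IsIntegralElem α) :
    ∃ (F : B[X]) (_ : F.Monic) (φ' : AdjoinRoot F →+* K),
      φ'.comp (AdjoinRoot.of F) = φ ∧ φ' (AdjoinRoot.root F) = α ∧
      ∃ (_ : IsLocalRing (AdjoinRoot F)), IsLocalHom φ' ∧
        (maximalIdeal B).map (AdjoinRoot.of F) = maximalIdeal (AdjoinRoot F) := by
  classical
  let κ := ResidueField B
  let φbar : κ →+* K := ResidueField.lift φ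
  letI : Algebra κ K := φbar.toAlgebra
  have hφbar : φbar.comp (residue B) = φ := ResidueField.lift_comp_residue φ
  have hint : IsIntegral κ α := by
    obtain ⟨p, hp, hp0⟩ := hα
    refine ⟨p.map (residue B), hp.map _, ?_⟩
    show Polynomial.eval₂ φbar α (p.map (residue B)) = 0
    rw [Polynomial.eval₂_map, hφbar]
    exact hp0
  let μ := minpoly κ α
  have hμirr : Irreducible μ := minpoly.irreducible hint
  have hμmon : μ.Monic := minpoly.monic hint
  obtain ⟨F, hFμ, -, hFmon⟩ := Polynomial.lifts_and_degree_eq_and_monic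
    (f := residue B) (p := μ)
    ((Polynomial.mem_lifts _).mpr (Polynomial.map_surjective _ (residue_surjective) μ)) hμmon
  have hF0 : F.eval₂ φ α = 0 := by
    rw [← hφbar, ← Polynomial.eval₂_map, hFμ]
    exact minpoly.aeval κ α
  let φ' : AdjoinRoot F →+* K := AdjoinRoot.lift φ α hF0
  have hφ'of : φ'.comp (AdjoinRoot.of F) = φ := by
    ext b
    exact AdjoinRoot.lift_of hF0
  have hφ'root : φ' (AdjoinRoot.root F) = α := AdjoinRoot.lift_root hF0
  -- the ideal `𝔪_B Q` is maximal
  let I : Ideal (AdjoinRoot F) := (maximalIdeal B).map (AdjoinRoot.of F)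
  have hfield : IsField ((ResidueField B)[X] ⧸
      Ideal.span ({F.map (Ideal.Quotient.mk (maximalIdeal B))} : Set (ResidueField B)[X])) := by
    have h1 : F.map (Ideal.Quotient.mk (maximalIdeal B)) = μ := hFμ
    rw [h1]
    have : (Ideal.span ({μ} : Set κ[X])).IsMaximal :=
      PrincipalIdealRing.isMaximal_of_irreducible hμirr
    exact (Ideal.Quotient.maximal_ideal_iff_isField_quotient _).mp inferInstance
  have hImax : I.IsMaximal := by
    have e := AdjoinRoot.quotEquivQuotMap F (maximalIdeal B)
    have : IsField (AdjoinRoot F ⧸ I) := e.toRingEquiv.toMulEquiv.isField hfield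
    exact (Ideal.Quotient.maximal_ideal_iff_isField_quotient _).mpr this
  haveI : Module.Finite B (AdjoinRoot F) := hFmon.finite_adjoinRoot
  haveI : Algebra.IsIntegral B (AdjoinRoot F) := Algebra.IsIntegral.of_finite B _
  have hloc : IsLocalRing (AdjoinRoot F) := by
    refine IsLocalRing.of_unique_max_ideal ⟨I, hImax, fun M hM => ?_⟩
    haveI := hM
    have h1 : (M.comap (algebraMap B (AdjoinRoot F))).IsMaximal :=
      Ideal.isMaximal_comap_of_isIntegral_of_isMaximal (R := B) M
    have h2 : M.comap (algebraMap B (AdjoinRoot F)) = maximalIdeal B :=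
      IsLocalRing.eq_maximalIdeal h1
    have h3 : I ≤ M := by
      rw [Ideal.map_le_iff_le_comap]
      exact h2.ge
    exact (hImax.eq_of_le hM.ne_top h3).symm
  refine ⟨F, hFmon, φ', hφ'of, hφ'root, hloc, ?_, ?_⟩
  · have hIeq : I = maximalIdeal (AdjoinRoot F) := IsLocalRing.eq_maximalIdeal hImax
    have hker : RingHom.ker φ' = maximalIdeal (AdjoinRoot F) := by
      have hle : I ≤ RingHom.ker φ' := by
        rw [Ideal.map_le_iff_le_comap]
        intro b hb
        rw [Ideal.mem_comap, RingHom.mem_ker, ← RingHom.comp_apply, hφ'of]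
        rw [← ker_eq_maximalIdeal φ] at hb
        exact hb
      rw [← hIeq]
      exact (hImax.eq_of_le (RingHom.ker_ne_top φ') hle).symm
    exact isLocalHom_of_ker_eq φ' hker
  · exact IsLocalRing.eq_maximalIdeal hImax

end Succ

section Finite

variable {A K : Type u} [CommRing A] [IsLocalRing A] [Field K]

theorem isIntegralElem_of_comp {B : Type u} [CommRing B] [Algebra A B] (φ : A →+* K)
    (ψ : B →+* K) (h : ψ.comp (algebraMap A B) = φ) {α : K} (hα : φ.IsIntegralElem α) :
    ψ.IsIntegralElem α := by
  obtain ⟨p, hp, hp0⟩ := hα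
  refine ⟨p.map (algebraMap A B), hp.map _, ?_⟩
  rw [Polynomial.eval₂_map, h]
  exact hp0

/-- Finitely many algebraic steps. -/
theorem exists_finite_steps (φ : A →+* K) [IsLocalHom φ] (l : List K)
    (hl : ∀ α ∈ l, φ.IsIntegralElem α) :
    ∃ (B : Type u) (_ : CommRing B) (_ : Algebra A B) (_ : IsLocalRing B) (ψ : B →+* K),
      IsLocalHom ψ ∧ ψ.comp (algebraMap A B) = φ ∧ Module.Free A B ∧ Module.Finite A B ∧
      (maximalIdeal A).map (algebraMap A B) = maximalIdeal B ∧ ∀ α ∈ l, α ∈ ψ.range := by
  induction l with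
  | nil =>
    exact ⟨A, inferInstance, inferInstance, inferInstance, φ, inferInstance, rfl, inferInstance,
      inferInstance, by simp, by simp⟩
  | cons α l ih =>
    obtain ⟨B, _, _, _, ψ, hψloc, hψ, hfree, hfin, hmax, hrange⟩ :=
      ih (fun β hβ => hl β (List.mem_cons_of_mem _ hβ))
    have hα : ψ.IsIntegralElem α := isIntegralElem_of_comp φ ψ hψ (hl α (List.mem_cons_self))
    obtain ⟨F, hFmon, φ', hφ'of, hφ'root, hloc, hφ'loc, hmax'⟩ := exists_adjoinRoot ψ α hα
    haveI : Module.Free B (AdjoinRoot F) := hFmon.free_adjoinRoot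
    haveI : Module.Finite B (AdjoinRoot F) := hFmon.finite_adjoinRoot
    have halg : algebraMap A (AdjoinRoot F) = (AdjoinRoot.of F).comp (algebraMap A B) :=
      IsScalarTower.algebraMap_eq A B (AdjoinRoot F)
    refine ⟨AdjoinRoot F, inferInstance, inferInstance, hloc, φ', hφ'loc, ?_,
      Module.Free.trans (R := A) (S := B) (M := AdjoinRoot F), Module.Finite.trans B (AdjoinRoot F), ?_, ?_⟩
    · rw [halg, ← RingHom.comp_assoc, hφ'of, hψ]
    · rw [halg, ← Ideal.map_map, hmax, hmax']
    · intro β hβ
      rcases List.mem_cons.mp hβ with rfl | hβ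
      · exact ⟨AdjoinRoot.root F, hφ'root⟩
      · obtain ⟨b, hb⟩ := hrange β hβ
        exact ⟨AdjoinRoot.of F b, by rw [← hb, ← hφ'of]; rfl⟩

end Finite

end Groth.Agent.Lib.FlatLocalExtH3
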