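import Mathlib
import Groth.Agent.Lib.FlatLocalExt1_helper3

/-!
# Flat local extensions with prescribed residue field: the predicate `Good` (helper3)

`Good φ Q ψ` for a local ring `R` with local hom `φ : R → K` to a field, an `R`-algebra `Q` and
`ψ : Q → K`: `ψ` extends `φ`, every element outside `ker ψ` is a unit (so `Q` is local with maximal
ideal `ker ψ`), `ker ψ = 𝔪_R Q`, `Q` is `R`-flat, and Noetherian if `R` is.
-/

set_option autoImplicit false
universe u

open IsLocalRing Polynomial

namespace Groth.Agent.Lib.FlatLocalExtH3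

variable {R K : Type u} [CommRing R] [IsLocalRing R] [Field K] (φ : R →+* K)

structure PreGood (Q : Type u) [CommRing Q] [Algebra R Q] (ψ : Q →+* K) : Prop where
  comp : ψ.comp (algebraMap R Q) = φ
  isUnit : ∀ x, ψ x ≠ 0 → IsUnit x
  ker : RingHom.ker ψ ≤ (maximalIdeal R).map (algebraMap R Q)
  flat : Module.Flat R Q

structure Good (Q : Type u) [CommRing Q] [Algebra R Q] (ψ : Q →+* K) : Prop
    extends PreGood φ Q ψ where
  noeth : IsNoetherianRing R → IsNoetherianRing Q

namespace PreGood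

variable {φ} {Q : Type u} [CommRing Q] [Algebra R Q] {ψ : Q →+* K}

theorem isUnit_iff (h : PreGood φ Q ψ) (x : Q) : IsUnit x ↔ ψ x ≠ 0 :=
  ⟨fun hx => (hx.map ψ).ne_zero, h.isUnit x⟩

theorem isLocalRing (h : PreGood φ Q ψ) : IsLocalRing Q := by
  haveI : Nontrivial Q := ⟨⟨0, 1, fun h01 => by
    have := congrArg ψ h01
    rw [map_zero, map_one] at this
    exact zero_ne_one this⟩⟩
  refine IsLocalRing.of_nonunits_add fun a b ha hb => ?_
  rw [mem_nonunits_iff, h.isUnit_iff, not_not] at ha hb ⊢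
  rw [map_add, ha, hb, add_zero]

theorem isLocalHom (h : PreGood φ Q ψ) : IsLocalHom ψ :=
  ⟨fun x hx => h.isUnit x hx.ne_zero⟩

theorem ker_eq (h : PreGood φ Q ψ) :
    haveI := h.isLocalRing
    RingHom.ker ψ = maximalIdeal Q := by
  haveI := h.isLocalRing
  haveI := h.isLocalHom
  exact ker_eq_maximalIdeal ψ

theorem comp_apply (h : PreGood φ Q ψ) (r : R) : ψ (algebraMap R Q r) = φ r :=
  congrFun (congrArg DFunLike.coe h.comp) r

theorem map_maximalIdeal [IsLocalHom φ] (h : PreGood φ Q ψ) :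
    (maximalIdeal R).map (algebraMap R Q) = RingHom.ker ψ := by
  refine le_antisymm ?_ h.ker
  rw [Ideal.map_le_iff_le_comap]
  intro r hr
  rw [Ideal.mem_comap, RingHom.mem_ker, h.comp_apply]
  rw [← ker_eq_maximalIdeal φ] at hr
  exact hr

theorem isLocalHom_algebraMap [IsLocalHom φ] (h : PreGood φ Q ψ) :
    IsLocalHom (algebraMap R Q) := by
  constructor
  intro r hr
  have := hr.map ψ
  rw [h.comp_apply] at this
  exact isUnit_of_map_unit φ r this

/-- Maps compatible with the maps to `K` are local and respect maximal ideals. -/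
theorem map_maximalIdeal_of_algHom [IsLocalHom φ] (h : PreGood φ Q ψ) {Q' : Type u} [CommRing Q']
    [Algebra R Q'] {ψ' : Q' →+* K} (h' : PreGood φ Q' ψ') (g : Q →ₐ[R] Q') :
    haveI := h.isLocalRing
    haveI := h'.isLocalRing
    (maximalIdeal Q).map g.toRingHom = maximalIdeal Q' := by
  haveI := h.isLocalRing
  haveI := h'.isLocalRing
  rw [← h.ker_eq, ← h'.ker_eq, ← h.map_maximalIdeal, ← h'.map_maximalIdeal, Ideal.map_map]
  congr 1
  exact g.comp_algebraMap

end PreGood

namespace Good

variable {φ} {Q : Type u} [CommRing Q] [Algebra R Q] {ψ : Q →+* K}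

/-- The base ring itself. -/
theorem self [IsLocalHom φ] : Good φ R φ where
  comp := rfl
  isUnit := fun x hx => isUnit_of_map_unit φ x (isUnit_iff_ne_zero.mpr hx)
  ker := by
    rw [ker_eq_maximalIdeal φ]
    simp
  flat := inferInstance
  noeth := fun h => h

/-- Transfer along an algebra isomorphism. -/
theorem of_equiv (h : Good φ Q ψ) {Q' : Type u} [CommRing Q'] [Algebra R Q'] (e : Q ≃ₐ[R] Q')
    (ψ' : Q' →+* K) (he : ∀ x, ψ' (e x) = ψ x) : Good φ Q' ψ' where
  comp := by
    ext r
    rw [RingHom.comp_apply, ← e.commutes, he, h.comp_apply]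
  isUnit := fun x hx => by
    have h1 : ψ (e.symm x) ≠ 0 := by rwa [← he, e.apply_symm_apply]
    have := (h.isUnit _ h1).map e
    rwa [e.apply_symm_apply] at this
  ker := by
    intro x hx
    have h1 : e.symm x ∈ RingHom.ker ψ := by
      rw [RingHom.mem_ker, ← he, e.apply_symm_apply]
      exact hx
    have h2 := Ideal.mem_map_of_mem (e : Q →+* Q') (h.ker h1)
    rw [Ideal.map_map] at h2
    have h3 : (e : Q →+* Q').comp (algebraMap R Q) = algebraMap R Q' := by
      ext r
      exact e.commutes r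
    rw [h3] at h2
    simpa using h2
  flat := by
    haveI := h.flat
    exact Module.Flat.of_linearEquiv e.toLinearEquiv.symm
  noeth := fun hR => by
    haveI := h.noeth hR
    exact isNoetherianRing_of_ringEquiv Q e.toRingEquiv

/-- One algebraic step. -/
theorem exists_adjoinRoot [IsLocalHom φ] (h : Good φ Q ψ) (α : K) (hα : φ.IsIntegralElem α) :
    ∃ (F : Q[X]) (_ : F.Monic) (φ' : AdjoinRoot F →+* K),
      φ'.comp (AdjoinRoot.of F) = ψ ∧ φ' (AdjoinRoot.root F) = α ∧ Good φ (AdjoinRoot F) φ' := by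
  haveI := h.isLocalRing
  haveI := h.isLocalHom
  obtain ⟨F, hFmon, φ', hφ'of, hφ'root, hloc, hφ'loc, hmax'⟩ :=
    FlatLocalExtH3.exists_adjoinRoot ψ α (isIntegralElem_of_comp φ ψ h.comp hα)
  haveI : Module.Free Q (AdjoinRoot F) := hFmon.free_adjoinRoot
  haveI : Module.Finite Q (AdjoinRoot F) := hFmon.finite_adjoinRoot
  have halg : algebraMap R (AdjoinRoot F) = (AdjoinRoot.of F).comp (algebraMap R Q) :=
    IsScalarTower.algebraMap_eq R Q (AdjoinRoot F)
  refine ⟨F, hFmon, φ', hφ'of, hφ'root,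
    { comp := ?_, isUnit := ?_, ker := ?_, flat := ?_, noeth := ?_ }⟩
  · rw [halg, ← RingHom.comp_assoc, hφ'of, h.comp]
  · intro x hx
    exact hφ'loc.map_nonunit x (isUnit_iff_ne_zero.mpr hx)
  · rw [halg, ← Ideal.map_map, h.map_maximalIdeal, h.ker_eq, hmax']
    rw [@ker_eq_maximalIdeal _ _ _ hloc _ φ' hφ'loc]
  · haveI := h.flat
    exact Module.Flat.trans R Q (AdjoinRoot F)
  · intro hR
    haveI := h.noeth hR
    exact isNoetherianRing_of_surjective Q[X] (AdjoinRoot F) (AdjoinRoot.mk F)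
      AdjoinRoot.mk_surjective

end Good

end Groth.Agent.Lib.FlatLocalExtH3
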