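import Mathlib
import Groth.Agent.Lib.FlatLocalExt2_helper3

/-!
# Flat local extensions with prescribed residue field: stages (helper3)

Stages `(S, J)`: `S ⊆ K`, `J` an ideal of `R[X_s : s ∈ K]` generated by polynomials in the
variables from `S`; the stage ring is `R[X_s : s ∈ S] / (J ∩ R[X_s : s ∈ S])`.
-/

set_option autoImplicit false
set_option linter.unusedSectionVars false
universe u

open IsLocalRing Polynomial

namespace Groth.Agent.Lib.FlatLocalExtH3

variable {R K : Type u} [CommRing R] [Field K] (φ : R →+* K)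

/-- Evaluation `R[X_s : s ∈ K] → K`. -/
noncomputable def pi : MvPolynomial K R →+* K := MvPolynomial.eval₂Hom φ id

@[simp] theorem pi_C (r : R) : pi φ (MvPolynomial.C r) = φ r := by simp [pi]
@[simp] theorem pi_X (s : K) : pi φ (MvPolynomial.X s) = s := by simp [pi]

variable (R) in
/-- Polynomials in the variables from `S`. -/
noncomputable abbrev PS (S : Set K) : Subalgebra R (MvPolynomial K R) := MvPolynomial.supported R S

/-- The ideal `J ∩ R[X_S]`. -/
noncomputable def JS (S : Set K) (J : Ideal (MvPolynomial K R)) : Ideal (PS R S) := J.comap (PS R S).val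

theorem mem_JS {S : Set K} {J : Ideal (MvPolynomial K R)} {x : PS R S} :
    x ∈ JS S J ↔ (x : MvPolynomial K R) ∈ J := Iff.rfl

/-- The stage ring. -/
abbrev BS (S : Set K) (J : Ideal (MvPolynomial K R)) : Type u := PS R S ⧸ JS S J

/-- The map of the stage ring to `K`. -/
noncomputable def piS (S : Set K) (J : Ideal (MvPolynomial K R)) (hJ : J ≤ RingHom.ker (pi φ)) :
    BS S J →+* K :=
  Ideal.Quotient.lift (JS S J) ((pi φ).comp (PS R S).val.toRingHom) (fun _ hx => hJ hx)

@[simp] theorem piS_mk (S : Set K) (J : Ideal (MvPolynomial K R)) (hJ : J ≤ RingHom.ker (pi φ))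
    (x : PS R S) : piS φ S J hJ (Ideal.Quotient.mk _ x) = pi φ (x : MvPolynomial K R) := rfl

/-- Transition maps. -/
noncomputable def tr {S S' : Set K} {J J' : Ideal (MvPolynomial K R)} (hS : S ⊆ S') (hJ : J ≤ J') :
    BS S J →ₐ[R] BS S' J' :=
  Ideal.quotientMapₐ (JS S' J') (Subalgebra.inclusion (MvPolynomial.supported_mono hS))
    (fun _ hx => hJ hx)

@[simp] theorem tr_mk {S S' : Set K} {J J' : Ideal (MvPolynomial K R)} (hS : S ⊆ S') (hJ : J ≤ J')
    (x : PS R S) : tr hS hJ (Ideal.Quotient.mk _ x) =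
      Ideal.Quotient.mk _ (Subalgebra.inclusion (MvPolynomial.supported_mono hS) x) := rfl

theorem piS_tr {S S' : Set K} {J J' : Ideal (MvPolynomial K R)} (hS : S ⊆ S') (hJ : J ≤ J')
    (hJ' : J' ≤ RingHom.ker (pi φ)) (x : BS S J) :
    piS φ S' J' hJ' (tr hS hJ x) = piS φ S J (hJ.trans hJ') x := by
  obtain ⟨x, rfl⟩ := Ideal.Quotient.mk_surjective x
  rfl

theorem tr_tr {S S' S'' : Set K} {J J' J'' : Ideal (MvPolynomial K R)} (hS : S ⊆ S') (hJ : J ≤ J')
    (hS' : S' ⊆ S'') (hJ' : J' ≤ J'') (x : BS S J) :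
    tr hS' hJ' (tr hS hJ x) = tr (hS.trans hS') (hJ.trans hJ') x := by
  obtain ⟨x, rfl⟩ := Ideal.Quotient.mk_surjective x
  rfl

theorem tr_self {S : Set K} {J : Ideal (MvPolynomial K R)} (x : BS S J) :
    tr (subset_refl S) (le_refl J) x = x := by
  obtain ⟨x, rfl⟩ := Ideal.Quotient.mk_surjective x
  rfl

theorem X_mem {S : Set K} {s : K} (hs : s ∈ S) :
    (MvPolynomial.X s : MvPolynomial K R) ∈ PS R S :=
  Algebra.subset_adjoin ⟨s, hs, rfl⟩

/-- The variable `X_s` as an element of `R[X_S]`. -/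
noncomputable def XS {S : Set K} (s : K) (hs : s ∈ S) : PS R S := ⟨MvPolynomial.X s, X_mem hs⟩

@[simp] theorem coe_XS {S : Set K} (s : K) (hs : s ∈ S) :
    ((XS s hs : PS R S) : MvPolynomial K R) = MvPolynomial.X s := rfl

/-- Ring homs out of `R[X_S]` are determined by their values on constants and variables. -/
theorem PS_ringHom_ext {S : Set K} {T : Type*} [Semiring T] (f g : PS R S →+* T)
    (hC : ∀ r, f (algebraMap R _ r) = g (algebraMap R _ r))
    (hX : ∀ (s : K) (hs : s ∈ S), f (XS s hs) = g (XS s hs)) : f = g := by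
  let e := MvPolynomial.supportedEquivMvPolynomial (R := R) S
  have h : f.comp (e.symm : MvPolynomial S R →+* PS R S) =
      g.comp (e.symm : MvPolynomial S R →+* PS R S) := by
    apply MvPolynomial.ringHom_ext
    · intro r
      simp only [RingHom.comp_apply, RingHom.coe_coe]
      rw [MvPolynomial.supportedEquivMvPolynomial_symm_C]
      exact hC r
    · intro i
      simp only [RingHom.comp_apply, RingHom.coe_coe]
      have : e.symm (MvPolynomial.X i) = XS (i : K) i.2 :=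
        Subtype.ext (MvPolynomial.supportedEquivMvPolynomial_symm_X S i)
      rw [this]
      exact hX _ _
  ext x
  have := congrFun (congrArg DFunLike.coe h) (e x)
  simpa using this

theorem flat_of_adjoinRoot {Q : Type u} [CommRing Q] (F : Q[X]) (hF : F.Monic) :
    (AdjoinRoot.of F).Flat := by
  rw [← AdjoinRoot.algebraMap_eq, RingHom.flat_algebraMap_iff]
  haveI : Module.Free Q (AdjoinRoot F) := hF.free_adjoinRoot
  infer_instance

section Succ

variable [IsLocalRing R] [IsLocalHom φ]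

/-- The successor step: add one algebraic element `α ∉ S`. -/
theorem exists_succ {S : Set K} {J : Ideal (MvPolynomial K R)} (hJ : J ≤ RingHom.ker (pi φ))
    (hgen : J ≤ (JS S J).map (PS R S).val)
    (hgood : Good φ (BS S J) (piS φ S J hJ)) {α : K} (hαS : α ∉ S) (hα : φ.IsIntegralElem α) :
    ∃ (J' : Ideal (MvPolynomial K R)) (hJJ' : J ≤ J') (hJ' : J' ≤ RingHom.ker (pi φ)),
      J' ≤ (JS (insert α S) J').map (PS R (insert α S)).val ∧
      Good φ (BS (insert α S) J') (piS φ _ J' hJ') ∧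
      RingHom.Flat (R := BS S J) (S := BS (insert α S) J')
        (tr (Set.subset_insert α S) hJJ' : BS S J →ₐ[R] BS (insert α S) J').toRingHom := by
  classical
  haveI := hgood.isLocalRing
  set ψ := piS φ S J hJ with hψ
  obtain ⟨Fb, hFbmon, φ', hφ'of, hφ'root, hgood'⟩ := hgood.exists_adjoinRoot α hα
  let mkS : PS R S →+* BS S J := Ideal.Quotient.mk (JS S J)
  obtain ⟨F₀, hF₀, -, -⟩ := Polynomial.lifts_and_degree_eq_and_monic (f := mkS) (p := Fb)
    ((Polynomial.mem_lifts _).mpr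
      (Polynomial.map_surjective _ Ideal.Quotient.mk_surjective Fb)) hFbmon
  let valS : PS R S →+* MvPolynomial K R := (PS R S).val.toRingHom
  let Fα : MvPolynomial K R := F₀.eval₂ valS (MvPolynomial.X α)
  let S' : Set K := insert α S
  let J' : Ideal (MvPolynomial K R) := J ⊔ Ideal.span {Fα}
  have hSS' : S ⊆ S' := Set.subset_insert α S
  have hJJ' : J ≤ J' := le_sup_left
  let valS' : PS R S' →+* MvPolynomial K R := (PS R S').val.toRingHom
  let incl : PS R S →+* PS R S' :=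
    (Subalgebra.inclusion (MvPolynomial.supported_mono hSS')).toRingHom
  have hincl : valS'.comp incl = valS := rfl
  let Xα' : PS R S' := XS α (Set.mem_insert α S)
  let F₀' : PS R S' := F₀.eval₂ incl Xα'
  have hF₀' : valS' F₀' = Fα := by
    show valS' (F₀.eval₂ incl Xα') = _
    rw [Polynomial.hom_eval₂, hincl]
    rfl
  have hFαJ' : Fα ∈ J' := Ideal.mem_sup_right (Ideal.subset_span rfl)
  have hF₀'mem : F₀' ∈ JS S' J' := by
    rw [mem_JS]
    show valS' F₀' ∈ J'
    rw [hF₀']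
    exact hFαJ'
  -- `eval₂ ψ α Fb = 0`
  have hFbα : Fb.eval₂ ψ α = 0 := by
    rw [← hφ'of, ← hφ'root, ← Polynomial.hom_eval₂, AdjoinRoot.eval₂_root, map_zero]
  have hπFα : pi φ Fα = 0 := by
    show pi φ (F₀.eval₂ valS (MvPolynomial.X α)) = 0
    rw [Polynomial.hom_eval₂, pi_X]
    have : (pi φ).comp valS = ψ.comp mkS := rfl
    rw [this, ← Polynomial.eval₂_map, hF₀]
    exact hFbα
  have hJ' : J' ≤ RingHom.ker (pi φ) :=
    sup_le hJ ((Ideal.span_singleton_le_iff_mem _).mpr hπFα)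
  -- the map `P → AdjoinRoot Fb`
  let ψt : MvPolynomial K R →+* AdjoinRoot Fb :=
    MvPolynomial.eval₂Hom ((AdjoinRoot.of Fb).comp (algebraMap R (BS S J)))
      (fun s => if s = α then AdjoinRoot.root Fb else
        if hs : s ∈ S then AdjoinRoot.of Fb (mkS (XS s hs)) else 0)
  have hψtC : ∀ r, ψt (MvPolynomial.C r) = AdjoinRoot.of Fb (algebraMap R (BS S J) r) := by
    intro r
    simp [ψt]
  have hψtα : ψt (MvPolynomial.X α) = AdjoinRoot.root Fb := by
    simp [ψt]
  have hψtS : ∀ (s : K) (hs : s ∈ S), ψt (MvPolynomial.X s) = AdjoinRoot.of Fb (mkS (XS s hs)) := by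
    intro s hs
    have hne : s ≠ α := fun h => hαS (h ▸ hs)
    simp [ψt, hne, hs]
  have h1 : ψt.comp valS = (AdjoinRoot.of Fb).comp mkS := by
    apply PS_ringHom_ext
    · intro r
      show ψt (MvPolynomial.C r) = _
      rw [hψtC]
      rfl
    · intro s hs
      show ψt (MvPolynomial.X s) = _
      rw [hψtS s hs]
      rfl
  have h2 : J ≤ RingHom.ker ψt := by
    refine hgen.trans ?_
    rw [Ideal.map_le_iff_le_comap]
    intro x hx
    rw [Ideal.mem_comap, RingHom.mem_ker]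
    have : ψt ((PS R S).val x) = (ψt.comp valS) x := rfl
    rw [this, h1, RingHom.comp_apply]
    have : mkS x = 0 := Ideal.Quotient.eq_zero_iff_mem.mpr hx
    rw [this, map_zero]
  have h3 : ψt Fα = 0 := by
    show ψt (F₀.eval₂ valS (MvPolynomial.X α)) = 0
    rw [Polynomial.hom_eval₂, hψtα, h1, ← Polynomial.eval₂_map, hF₀]
    exact AdjoinRoot.eval₂_root Fb
  have h4 : J' ≤ RingHom.ker ψt := sup_le h2 ((Ideal.span_singleton_le_iff_mem _).mpr h3)
  let mkS' : PS R S' →+* BS S' J' := Ideal.Quotient.mk (JS S' J')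
  let ψ₁ : BS S' J' →+* AdjoinRoot Fb :=
    Ideal.Quotient.lift (JS S' J') (ψt.comp valS') (fun x hx => h4 hx)
  have hψ₁mk : ∀ y, ψ₁ (mkS' y) = ψt (valS' y) := fun y => rfl
  let trr : BS S J →ₐ[R] BS S' J' := tr hSS' hJJ'
  have htrr : trr.toRingHom.comp mkS = mkS'.comp incl := rfl
  have h5 : Fb.eval₂ trr.toRingHom (mkS' Xα') = 0 := by
    rw [← hF₀, Polynomial.eval₂_map, htrr, ← Polynomial.hom_eval₂]
    exact Ideal.Quotient.eq_zero_iff_mem.mpr hF₀'mem
  let φ₁ : AdjoinRoot Fb →+* BS S' J' := AdjoinRoot.lift trr.toRingHom (mkS' Xα') h5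
  have hφ₁of : ∀ b, φ₁ (AdjoinRoot.of Fb b) = trr b := fun b => AdjoinRoot.lift_of h5
  have hφ₁root : φ₁ (AdjoinRoot.root Fb) = mkS' Xα' := AdjoinRoot.lift_root h5
  have htrrmk : ∀ x, trr (mkS x) = mkS' (incl x) := fun x => rfl
  have h6 : φ₁.comp ψ₁ = RingHom.id _ := by
    apply Ideal.Quotient.ringHom_ext
    apply PS_ringHom_ext
    · intro r
      show φ₁ (ψ₁ (mkS' (algebraMap R _ r))) = mkS' (algebraMap R _ r)
      rw [hψ₁mk]
      have : valS' (algebraMap R _ r) = MvPolynomial.C r := rfl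
      rw [this, hψtC, hφ₁of, AlgHom.commutes]
      rfl
    · intro s hs
      show φ₁ (ψ₁ (mkS' (XS s hs))) = mkS' (XS s hs)
      rw [hψ₁mk]
      have : valS' (XS s hs) = MvPolynomial.X s := rfl
      rw [this]
      by_cases hsα : s = α
      · subst hsα
        rw [hψtα, hφ₁root]
      · have hsS : s ∈ S := (Set.mem_insert_iff.mp hs).resolve_left hsα
        rw [hψtS s hsS, hφ₁of, htrrmk]
        rfl
  have h7 : ψ₁.comp φ₁ = RingHom.id _ := by
    have hsurj : Function.Surjective (AdjoinRoot.mk Fb) := AdjoinRoot.mk_surjective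
    have : (ψ₁.comp φ₁).comp (AdjoinRoot.mk Fb) = (RingHom.id _).comp (AdjoinRoot.mk Fb) := by
      apply Polynomial.ringHom_ext
      · intro b
        obtain ⟨x, rfl⟩ := Ideal.Quotient.mk_surjective b
        show ψ₁ (φ₁ (AdjoinRoot.mk Fb (Polynomial.C (mkS x)))) =
          AdjoinRoot.mk Fb (Polynomial.C (mkS x))
        rw [AdjoinRoot.mk_C, hφ₁of, htrrmk, hψ₁mk]
        have : valS' (incl x) = valS x := rfl
        rw [this]
        exact congrFun (congrArg DFunLike.coe h1) x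
      · show ψ₁ (φ₁ (AdjoinRoot.mk Fb Polynomial.X)) = AdjoinRoot.mk Fb Polynomial.X
        rw [AdjoinRoot.mk_X, hφ₁root, hψ₁mk]
        exact hψtα
    refine RingHom.ext fun x => ?_
    obtain ⟨p, rfl⟩ := hsurj x
    exact congrFun (congrArg DFunLike.coe this) p
  let e₀ : AdjoinRoot Fb ≃+* BS S' J' := RingEquiv.ofRingHom φ₁ ψ₁ h6 h7
  have he₀ : ∀ x, e₀ x = φ₁ x := fun x => rfl
  let e : AdjoinRoot Fb ≃ₐ[R] BS S' J' := AlgEquiv.ofRingEquiv (f := e₀) (fun r => by
    rw [he₀, IsScalarTower.algebraMap_apply R (BS S J) (AdjoinRoot Fb), AdjoinRoot.algebraMap_eq,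
      hφ₁of, AlgHom.commutes])
  have he : ∀ x, piS φ S' J' hJ' (e x) = φ' x := by
    have : ((piS φ S' J' hJ').comp φ₁).comp (AdjoinRoot.mk Fb) = φ'.comp (AdjoinRoot.mk Fb) := by
      apply Polynomial.ringHom_ext
      · intro b
        show piS φ S' J' hJ' (φ₁ (AdjoinRoot.mk Fb (Polynomial.C b))) =
          φ' (AdjoinRoot.mk Fb (Polynomial.C b))
        rw [AdjoinRoot.mk_C, hφ₁of]
        have h8 : piS φ S' J' hJ' (trr b) = ψ b := piS_tr φ hSS' hJJ' hJ' b
        rw [h8, ← hφ'of]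
        rfl
      · show piS φ S' J' hJ' (φ₁ (AdjoinRoot.mk Fb Polynomial.X)) =
          φ' (AdjoinRoot.mk Fb Polynomial.X)
        rw [AdjoinRoot.mk_X, hφ₁root, hφ'root]
        show pi φ (MvPolynomial.X α) = α
        exact pi_X φ α
    intro x
    obtain ⟨p, rfl⟩ := AdjoinRoot.mk_surjective x
    exact congrFun (congrArg DFunLike.coe this) p
  refine ⟨J', hJJ', hJ', ?_, hgood'.of_equiv e _ he, ?_⟩
  · refine sup_le (hgen.trans ?_) ((Ideal.span_singleton_le_iff_mem _).mpr ?_)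
    · rw [Ideal.map_le_iff_le_comap]
      intro x hx
      rw [Ideal.mem_comap]
      have h9 : incl x ∈ JS S' J' := by
        rw [mem_JS]
        exact hJJ' hx
      exact Ideal.mem_map_of_mem (PS R S').val h9
    · rw [← hF₀']
      exact Ideal.mem_map_of_mem (PS R S').val hF₀'mem
  · have h10 : trr.toRingHom = (e₀ : AdjoinRoot Fb →+* BS S' J').comp (AdjoinRoot.of Fb) := by
      ext b
      show trr b = φ₁ (AdjoinRoot.of Fb b)
      rw [hφ₁of]
    show RingHom.Flat (R := BS S J) (S := BS S' J') trr.toRingHom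
    rw [h10]
    refine RingHom.Flat.comp ?_ (RingHom.Flat.of_bijective e₀.bijective)
    exact flat_of_adjoinRoot Fb hFbmon

end Succ

/-- `flat_of_family` for ring homs. -/
theorem ringHom_flat_of_family {A C : Type u} [CommRing A] [CommRing C] (f : A →+* C)
    (h : ∀ (l : ℕ) (x : Fin l → C), ∃ (G : Type u) (_ : CommRing G) (a : A →+* G) (g : G →+* C),
      g.comp a = f ∧ Function.Injective g ∧ a.Flat ∧ ∀ k, x k ∈ g.range) : f.Flat := by
  letI := f.toAlgebra
  show Module.Flat A C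
  apply flat_of_family A C
  intro l x
  obtain ⟨G, _, a, g, hga, hinj, hflat, hrange⟩ := h l x
  letI := a.toAlgebra
  let g' : G →ₐ[A] C := { g with commutes' := fun r => congrFun (congrArg DFunLike.coe hga) r }
  exact ⟨G, inferInstance, inferInstance, g', hinj, hflat, hrange⟩

/-- A flat local homomorphism of local rings is injective. -/
theorem injective_of_flat_local {Q₁ Q₂ : Type u} [CommRing Q₁] [CommRing Q₂] [IsLocalRing Q₁]
    [IsLocalRing Q₂] (f : Q₁ →+* Q₂) (hf : f.Flat) (hloc : ∀ x, IsUnit (f x) → IsUnit x) :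
    Function.Injective f := by
  letI := f.toAlgebra
  haveI : Module.Flat Q₁ Q₂ := hf
  haveI : IsLocalHom (algebraMap Q₁ Q₂) := ⟨hloc⟩
  haveI : Module.FaithfullyFlat Q₁ Q₂ := Module.FaithfullyFlat.of_flat_of_isLocalHom
  have h0 := Ideal.comap_map_eq_self_of_faithfullyFlat (B := Q₂) (⊥ : Ideal Q₁)
  rw [Ideal.map_bot] at h0
  rw [injective_iff_map_eq_zero]
  intro x hx
  have : x ∈ (⊥ : Ideal Q₂).comap (algebraMap Q₁ Q₂) := by
    rw [Ideal.mem_comap]
    exact hx
  rw [h0] at this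
  exact this

section Stage

variable [IsLocalRing R]

/-- Stages of the construction. -/
structure Stage (φ : R →+* K) where
  S : Set K
  J : Ideal (MvPolynomial K R)
  hJ : J ≤ RingHom.ker (pi φ)
  hgen : J ≤ (JS S J).map (PS R S).val
  good : Good φ (BS S J) (piS φ S J hJ)

variable {φ}

/-- The stage ring. -/
abbrev Stage.B (T : Stage φ) : Type u := BS T.S T.J

/-- The map to `K`. -/
noncomputable abbrev Stage.ψ (T : Stage φ) : T.B →+* K := piS φ T.S T.J T.hJ

/-- The order on stages. -/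
def Stage.le (T₁ T₂ : Stage φ) : Prop :=
  ∃ (hS : T₁.S ⊆ T₂.S) (hJ : T₁.J ≤ T₂.J),
    RingHom.Flat (R := T₁.B) (S := T₂.B) (tr hS hJ : T₁.B →ₐ[R] T₂.B).toRingHom

theorem Stage.le_refl (T : Stage φ) : T.le T := by
  refine ⟨subset_refl _, _root_.le_refl _, ?_⟩
  have : (tr (subset_refl T.S) (_root_.le_refl T.J) : T.B →ₐ[R] T.B).toRingHom = RingHom.id _ := by
    refine RingHom.ext fun x => ?_
    exact tr_self x
  rw [this]
  exact RingHom.Flat.of_bijective Function.bijective_id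

theorem Stage.le_trans {T₁ T₂ T₃ : Stage φ} (h12 : T₁.le T₂) (h23 : T₂.le T₃) : T₁.le T₃ := by
  obtain ⟨hS, hJ, hf⟩ := h12
  obtain ⟨hS', hJ', hf'⟩ := h23
  refine ⟨hS.trans hS', hJ.trans hJ', ?_⟩
  have : (tr (hS.trans hS') (hJ.trans hJ') : T₁.B →ₐ[R] T₃.B).toRingHom =
      (tr hS' hJ' : T₂.B →ₐ[R] T₃.B).toRingHom.comp (tr hS hJ : T₁.B →ₐ[R] T₂.B).toRingHom := by
    refine RingHom.ext fun x => ?_
    exact (tr_tr hS hJ hS' hJ' x).symm
  rw [this]
  exact RingHom.Flat.comp hf hf'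

noncomputable instance : Preorder (Stage φ) where
  le := Stage.le
  le_refl := Stage.le_refl
  le_trans := fun _ _ _ => Stage.le_trans

theorem Stage.le_def {T₁ T₂ : Stage φ} : T₁ ≤ T₂ ↔ T₁.le T₂ := Iff.rfl

theorem Stage.ψ_tr {T₁ T₂ : Stage φ} (hS : T₁.S ⊆ T₂.S) (hJ : T₁.J ≤ T₂.J) (x : T₁.B) :
    T₂.ψ (tr hS hJ x) = T₁.ψ x := piS_tr φ hS hJ T₂.hJ x

/-- Transition maps between stages are local. -/
theorem Stage.isUnit_of_tr {T₁ T₂ : Stage φ} (hS : T₁.S ⊆ T₂.S) (hJ : T₁.J ≤ T₂.J) (x : T₁.B)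
    (hx : IsUnit (tr hS hJ x : T₂.B)) : IsUnit x := by
  have h1 : T₂.ψ (tr hS hJ x) ≠ 0 := (T₂.good.isUnit_iff _).mp hx
  rw [Stage.ψ_tr] at h1
  exact T₁.good.isUnit x h1

/-- Transition maps between stages are injective. -/
theorem Stage.tr_injective {T₁ T₂ : Stage φ} (h : T₁ ≤ T₂) :
    Function.Injective (tr h.1 h.2.1 : T₁.B →ₐ[R] T₂.B) := by
  obtain ⟨hS, hJ, hf⟩ := h
  haveI := T₁.good.isLocalRing
  haveI := T₂.good.isLocalRing
  exact injective_of_flat_local (Q₁ := T₁.B) (Q₂ := T₂.B)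
    (tr hS hJ : T₁.B →ₐ[R] T₂.B).toRingHom hf (Stage.isUnit_of_tr hS hJ)

theorem piS_algebraMap {S : Set K} {J : Ideal (MvPolynomial K R)} (hJ : J ≤ RingHom.ker (pi φ))
    (r : R) : piS φ S J hJ (algebraMap R (BS S J) r) = φ r := by
  show pi φ (MvPolynomial.C r) = φ r
  exact pi_C φ r

/-- Chains of stages have upper bounds. -/
theorem Stage.bddAbove [IsLocalHom φ] (c : Set (Stage φ)) (hc : IsChain (· ≤ ·) c)
    (hne : c.Nonempty) : BddAbove c := by
  classical
  haveI : Nonempty c := hne.to_subtype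
  have hdir : ∀ i j : c, ∃ m : c, i.1 ≤ m.1 ∧ j.1 ≤ m.1 := by
    intro i j
    rcases hc.total i.2 j.2 with h | h
    · exact ⟨j, h, le_refl _⟩
    · exact ⟨i, le_refl _, h⟩
  have hdir' : Directed (· ≤ ·) (Subtype.val : c → Stage φ) := fun i j => hdir i j
  let US : Set K := ⋃ i : c, i.1.S
  let UJ : Ideal (MvPolynomial K R) := ⨆ i : c, i.1.J
  have hSU : ∀ i : c, i.1.S ⊆ US := fun i => Set.subset_iUnion (fun i : c => i.1.S) i
  have hJU : ∀ i : c, i.1.J ≤ UJ := fun i => le_iSup (fun i : c => i.1.J) i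
  have hJdir : Directed (· ≤ ·) (fun i : c => i.1.J) := fun i j => by
    obtain ⟨k, hik, hjk⟩ := hdir i j
    exact ⟨k, hik.2.1, hjk.2.1⟩
  have hmemUJ : ∀ x, x ∈ UJ ↔ ∃ i : c, x ∈ i.1.J := fun x =>
    Submodule.mem_iSup_of_directed _ hJdir
  have hUJ : UJ ≤ RingHom.ker (pi φ) := iSup_le fun i => i.1.hJ
  have hUgen : UJ ≤ (JS US UJ).map (PS R US).val := by
    refine iSup_le fun i => i.1.hgen.trans ?_
    rw [Ideal.map_le_iff_le_comap]
    intro x hx
    rw [Ideal.mem_comap]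
    have h9 : Subalgebra.inclusion (MvPolynomial.supported_mono (hSU i)) x ∈ JS US UJ := by
      rw [mem_JS]
      exact hJU i hx
    exact Ideal.mem_map_of_mem (PS R US).val h9
  let g : ∀ i : c, i.1.B →ₐ[R] BS US UJ := fun i => tr (hSU i) (hJU i)
  have hψg : ∀ (i : c) (y : i.1.B), piS φ US UJ hUJ (g i y) = i.1.ψ y := fun i y =>
    piS_tr φ (hSU i) (hJU i) hUJ y
  have hg_tr : ∀ (i j : c) (h : i.1 ≤ j.1) (y : i.1.B), g j (tr h.1 h.2.1 y) = g i y :=
    fun i j h y => tr_tr _ _ _ _ y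
  -- lifting finite families
  have hlift : ∀ (l : ℕ) (x : Fin l → BS US UJ), ∃ i : c, ∀ k, x k ∈ (g i).range := by
    intro l x
    choose p hp using fun k => Ideal.Quotient.mk_surjective (x k)
    let V : Finset K := Finset.univ.biUnion fun k => (p k : MvPolynomial K R).vars
    have hV : ∀ v ∈ V, ∃ i : c, v ∈ i.1.S := by
      intro v hv
      obtain ⟨k, -, hk⟩ := Finset.mem_biUnion.mp hv
      have : v ∈ US := (MvPolynomial.mem_supported.mp (p k).2) hk
      exact Set.mem_iUnion.mp this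
    choose! iv hiv using hV
    obtain ⟨j, hj⟩ := hdir'.finset_le (V.image iv)
    refine ⟨j, fun k => ?_⟩
    have hpk : (p k : MvPolynomial K R) ∈ PS R j.1.S := by
      rw [MvPolynomial.mem_supported]
      intro v hv
      have hvV : v ∈ V := Finset.mem_biUnion.mpr ⟨k, Finset.mem_univ _, hv⟩
      exact (hj (iv v) (Finset.mem_image_of_mem _ hvV)).1 (hiv v hvV)
    refine ⟨Ideal.Quotient.mk _ ⟨p k, hpk⟩, ?_⟩
    rw [← hp k]
    rfl
  -- injectivity
  have hginj : ∀ i : c, Function.Injective (g i) := by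
    intro i
    rw [injective_iff_map_eq_zero]
    intro y hy
    obtain ⟨p, rfl⟩ := Ideal.Quotient.mk_surjective y
    have h1 : (p : MvPolynomial K R) ∈ UJ := by
      have hy' : Ideal.Quotient.mk (JS US UJ)
          (Subalgebra.inclusion (MvPolynomial.supported_mono (hSU i)) p) = 0 := hy
      have := Ideal.Quotient.eq_zero_iff_mem.mp hy'
      rwa [mem_JS] at this
    obtain ⟨j, hj⟩ := (hmemUJ _).mp h1
    obtain ⟨m, him, hjm⟩ := hdir i j
    have h2 : tr him.1 him.2.1 (Ideal.Quotient.mk _ p) = (0 : m.1.B) := by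
      rw [tr_mk]
      apply Ideal.Quotient.eq_zero_iff_mem.mpr
      rw [mem_JS]
      exact hjm.2.1 hj
    exact Stage.tr_injective him (by rw [h2, map_zero])
  -- flatness
  have hgflat : ∀ i : c, RingHom.Flat (R := i.1.B) (S := BS US UJ) (g i).toRingHom := by
    intro i
    apply ringHom_flat_of_family
    intro l x
    obtain ⟨j, hj⟩ := hlift l x
    obtain ⟨m, him, hjm⟩ := hdir i j
    refine ⟨m.1.B, inferInstance, (tr him.1 him.2.1 : i.1.B →ₐ[R] m.1.B).toRingHom,
      (g m).toRingHom, ?_, hginj m, him.2.2, fun k => ?_⟩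
    · exact RingHom.ext fun y => hg_tr i m him y
    · obtain ⟨y, hy⟩ := hj k
      exact ⟨tr hjm.1 hjm.2.1 y, by rw [← hy]; exact hg_tr j m hjm y⟩
  have hpre : PreGood φ (BS US UJ) (piS φ US UJ hUJ) := by
    refine ⟨?_, ?_, ?_, ?_⟩
    · ext r
      exact piS_algebraMap hUJ r
    · intro x hx
      obtain ⟨i, hi⟩ := hlift 1 (fun _ => x)
      obtain ⟨y, rfl⟩ := hi 0
      have hx' : piS φ US UJ hUJ (g i y) ≠ 0 := hx
      rw [hψg] at hx'
      exact (i.1.good.isUnit y hx').map (g i)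
    · intro x hx
      obtain ⟨i, hi⟩ := hlift 1 (fun _ => x)
      obtain ⟨y, rfl⟩ := hi 0
      have hx' : piS φ US UJ hUJ (g i y) = 0 := hx
      rw [hψg] at hx'
      have h1 : y ∈ (maximalIdeal R).map (algebraMap R i.1.B) := i.1.good.ker hx'
      have h2 := Ideal.mem_map_of_mem (g i).toRingHom h1
      rw [Ideal.map_map] at h2
      have h3 : (g i).toRingHom.comp (algebraMap R i.1.B) = algebraMap R (BS US UJ) :=
        (g i).comp_algebraMap
      rw [h3] at h2
      exact h2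
    · apply flat_of_family R (BS US UJ)
      intro l x
      obtain ⟨i, hi⟩ := hlift l x
      exact ⟨i.1.B, inferInstance, inferInstance, g i, hginj i, i.1.good.flat, hi⟩
  have hgoodU : Good φ (BS US UJ) (piS φ US UJ hUJ) := by
    refine { hpre with noeth := fun hR => ?_ }
    haveI := hpre.isLocalRing
    apply isNoetherianRing_of_family
    intro l x
    obtain ⟨i, hi⟩ := hlift l x
    refine ⟨i.1.B, inferInstance, i.1.good.isLocalRing, i.1.good.noeth hR, (g i).toRingHom,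
      hgflat i, ⟨fun y hy => ?_⟩, ?_, hi⟩
    · have h1 : piS φ US UJ hUJ (g i y) ≠ 0 := (hpre.isUnit_iff _).mp hy
      rw [hψg] at h1
      exact i.1.good.isUnit y h1
    · exact i.1.good.toPreGood.map_maximalIdeal_of_algHom hpre (g i)
  exact ⟨⟨US, UJ, hUJ, hUgen, hgoodU⟩, fun T hT => ⟨hSU ⟨T, hT⟩, hJU ⟨T, hT⟩, hgflat ⟨T, hT⟩⟩⟩

/-- The base stage `(∅, ⊥)`. -/
theorem Stage.nonempty [IsLocalHom φ] : Nonempty (Stage φ) := by
  have hJ : (⊥ : Ideal (MvPolynomial K R)) ≤ RingHom.ker (pi φ) := bot_le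
  have hsurj : Function.Surjective (algebraMap R (BS (∅ : Set K) (⊥ : Ideal (MvPolynomial K R)))) := by
    intro x
    obtain ⟨p, rfl⟩ := Ideal.Quotient.mk_surjective x
    have hp : (p : MvPolynomial K R) ∈ (⊥ : Subalgebra R (MvPolynomial K R)) := by
      have h0 : (p : MvPolynomial K R) ∈ MvPolynomial.supported R (∅ : Set K) := p.2
      rwa [MvPolynomial.supported_empty] at h0
    obtain ⟨r, hr⟩ := Algebra.mem_bot.mp hp
    refine ⟨r, ?_⟩
    have : algebraMap R (PS R (∅ : Set K)) r = p := Subtype.ext hr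
    rw [← this]
    rfl
  have hinj : Function.Injective (algebraMap R (BS (∅ : Set K) (⊥ : Ideal (MvPolynomial K R)))) := by
    rw [injective_iff_map_eq_zero]
    intro r hr
    have h1 : Ideal.Quotient.mk (JS (∅ : Set K) (⊥ : Ideal (MvPolynomial K R)))
        (algebraMap R (PS R (∅ : Set K)) r) = 0 := hr
    have h2 := Ideal.Quotient.eq_zero_iff_mem.mp h1
    rw [mem_JS] at h2
    have h3 : (MvPolynomial.C r : MvPolynomial K R) = 0 := h2
    exact (map_eq_zero_iff _ (MvPolynomial.C_injective K R)).mp h3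
  let e : R ≃ₐ[R] BS (∅ : Set K) (⊥ : Ideal (MvPolynomial K R)) :=
    AlgEquiv.ofBijective (Algebra.ofId R _) ⟨hinj, hsurj⟩
  refine ⟨⟨∅, ⊥, hJ, bot_le, Good.self.of_equiv e _ fun r => ?_⟩⟩
  exact piS_algebraMap hJ r

/-- **Algebraic case.** If every element of `K` is integral over `φ`, there is a flat local
`R`-algebra with maximal ideal `𝔪_R B` and residue field `K`. -/
theorem exists_good_of_integral [IsLocalHom φ] (halg : ∀ α : K, φ.IsIntegralElem α) :
    ∃ (B : Type u) (_ : CommRing B) (_ : Algebra R B) (ψ : B →+* K),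
      Function.Surjective ψ ∧ Good φ B ψ := by
  haveI : Nonempty (Stage φ) := Stage.nonempty
  obtain ⟨m, hm⟩ := zorn_le_nonempty (α := Stage φ) Stage.bddAbove
  have hS : ∀ α : K, α ∈ m.S := by
    intro α
    by_contra hα
    obtain ⟨J', hJJ', hJ', hgen', hgood', hflat⟩ := exists_succ φ m.hJ m.hgen m.good hα (halg α)
    let T' : Stage φ := ⟨insert α m.S, J', hJ', hgen', hgood'⟩
    have h1 : m ≤ T' := ⟨Set.subset_insert α m.S, hJJ', hflat⟩
    have h2 : T' ≤ m := hm h1
    exact hα (h2.1 (Set.mem_insert α m.S))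
  refine ⟨m.B, inferInstance, inferInstance, m.ψ, fun α => ?_, m.good⟩
  refine ⟨Ideal.Quotient.mk _ (XS α (hS α)), ?_⟩
  show pi φ (MvPolynomial.X α) = α
  exact pi_X φ α

end Stage

end Groth.Agent.Lib.FlatLocalExtH3
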