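import Mathlib
import Groth.Agent.Lib.FlatLocalExt3_helper3

/-!
# Flat local extensions with prescribed residue field: the purely transcendental step (helper3)

For a family `x : σ → K` algebraically independent over (the image of) `R`, the localization of
`R[X_σ]` at the kernel of `R[X_σ] → K` is a flat local `R`-algebra with maximal ideal `𝔪_R`·,
Noetherian if `R` is.
-/

set_option autoImplicit false
set_option linter.unusedSectionVars false
universe u

open IsLocalRing Polynomial

namespace Groth.Agent.Lib.FlatLocalExtH3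

variable {R K : Type u} [CommRing R] [Field K] (φ : R →+* K) {σ : Type u} (x : σ → K)

/-- Evaluation `R[X_σ] → K`. -/
noncomputable def piT : MvPolynomial σ R →+* K := MvPolynomial.eval₂Hom φ x

@[simp] theorem piT_C (r : R) : piT φ x (MvPolynomial.C r) = φ r := by simp [piT]
@[simp] theorem piT_X (s : σ) : piT φ x (MvPolynomial.X s) = x s := by simp [piT]

/-- The kernel of the evaluation. -/
noncomputable def pT : Ideal (MvPolynomial σ R) := RingHom.ker (piT φ x)

instance : (pT φ x).IsPrime := RingHom.ker_isPrime _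

theorem mem_pT {p : MvPolynomial σ R} : p ∈ pT φ x ↔ piT φ x p = 0 := RingHom.mem_ker

/-- The localization. -/
abbrev LT : Type u := Localization.AtPrime (pT φ x)

/-- The induced map to `K`. -/
noncomputable def phiT : LT φ x →+* K :=
  IsLocalization.lift (M := (pT φ x).primeCompl) (g := piT φ x) (fun y =>
    isUnit_iff_ne_zero.mpr fun h => y.2 ((mem_pT φ x).mpr h))

@[simp] theorem phiT_algebraMap (p : MvPolynomial σ R) :
    phiT φ x (algebraMap (MvPolynomial σ R) (LT φ x) p) = piT φ x p :=
  IsLocalization.lift_eq _ p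

theorem phiT_mk' (p : MvPolynomial σ R) (s : (pT φ x).primeCompl) :
    phiT φ x (IsLocalization.mk' (LT φ x) p s) = piT φ x p * (piT φ x s)⁻¹ := by
  have hs : piT φ x s ≠ 0 := fun h => s.2 ((mem_pT φ x).mpr h)
  rw [eq_mul_inv_iff_mul_eq₀ hs, ← phiT_algebraMap φ x (s : MvPolynomial σ R), ← map_mul,
    IsLocalization.mk'_spec, phiT_algebraMap]

/-- Algebraic independence over the image of `R`, in elementary form. -/
def IndepOver : Prop := ∀ p : MvPolynomial σ R, piT φ x p = 0 → ∀ m, φ (p.coeff m) = 0

variable [IsLocalRing R] [IsLocalHom φ]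

theorem pT_eq (hx : IndepOver φ x) : pT φ x = (maximalIdeal R).map MvPolynomial.C := by
  apply le_antisymm
  · intro p hp
    rw [MvPolynomial.mem_map_C_iff]
    intro m
    rw [← ker_eq_maximalIdeal φ, RingHom.mem_ker]
    exact hx p ((mem_pT φ x).mp hp) m
  · rw [Ideal.map_le_iff_le_comap]
    intro r hr
    rw [Ideal.mem_comap, mem_pT, piT_C]
    rw [← ker_eq_maximalIdeal φ] at hr
    exact hr

theorem preGood_LT (hx : IndepOver φ x) : PreGood φ (LT φ x) (phiT φ x) where
  comp := by
    ext r
    rw [RingHom.comp_apply, IsScalarTower.algebraMap_apply R (MvPolynomial σ R) (LT φ x),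
      phiT_algebraMap, MvPolynomial.algebraMap_eq, piT_C]
  isUnit := by
    intro y hy
    obtain ⟨p, s, rfl⟩ := IsLocalization.exists_mk'_eq (pT φ x).primeCompl y
    rw [IsLocalization.AtPrime.isUnit_mk'_iff (LT φ x) (pT φ x)]
    intro hp
    apply hy
    rw [phiT_mk', (mem_pT φ x).mp hp, zero_mul]
  ker := by
    intro y hy
    obtain ⟨p, s, rfl⟩ := IsLocalization.exists_mk'_eq (pT φ x).primeCompl y
    rw [RingHom.mem_ker, phiT_mk'] at hy
    have hs : piT φ x s ≠ 0 := fun h => s.2 ((mem_pT φ x).mpr h)
    have hp : p ∈ pT φ x := by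
      rw [mem_pT]
      rcases mul_eq_zero.mp hy with h | h
      · exact h
      · exact absurd (inv_eq_zero.mp h) hs
    rw [pT_eq φ x hx] at hp
    have h1 : algebraMap (MvPolynomial σ R) (LT φ x) p ∈
        ((maximalIdeal R).map MvPolynomial.C).map (algebraMap (MvPolynomial σ R) (LT φ x)) :=
      Ideal.mem_map_of_mem _ hp
    rw [Ideal.map_map] at h1
    have h2 : (algebraMap (MvPolynomial σ R) (LT φ x)).comp MvPolynomial.C =
        algebraMap R (LT φ x) := by
      ext r
      rw [RingHom.comp_apply, IsScalarTower.algebraMap_apply R (MvPolynomial σ R) (LT φ x),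
        MvPolynomial.algebraMap_eq]
    rw [h2] at h1
    rw [IsLocalization.mk'_eq_mul_mk'_one]
    exact Ideal.mul_mem_right _ _ h1
  flat := by
    haveI : Module.Flat (MvPolynomial σ R) (LT φ x) :=
      IsLocalization.flat (LT φ x) (pT φ x).primeCompl
    exact Module.Flat.trans R (MvPolynomial σ R) (LT φ x)

omit [IsLocalRing R] [IsLocalHom φ] in
/-- Renaming variables along an injection is flat. -/
theorem rename_flat {τ : Type u} (f : τ → σ) (hf : Function.Injective f) :
    RingHom.Flat (MvPolynomial.rename f : MvPolynomial τ R →ₐ[R] MvPolynomial σ R).toRingHom := by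
  classical
  let τ' := {s : σ // s ∉ Set.range f}
  let g : τ' ⊕ τ → σ := Sum.elim Subtype.val f
  have hg : Function.Bijective g := by
    constructor
    · rintro (a | a) (b | b) h
      · exact congrArg Sum.inl (Subtype.ext h)
      · exact absurd ⟨b, h.symm⟩ a.2
      · exact absurd ⟨a, h⟩ b.2
      · exact congrArg Sum.inr (hf h)
    · intro s
      by_cases hs : s ∈ Set.range f
      · obtain ⟨t, rfl⟩ := hs
        exact ⟨Sum.inr t, rfl⟩
      · exact ⟨Sum.inl ⟨s, hs⟩, rfl⟩
  let e₁ : MvPolynomial (τ' ⊕ τ) R ≃ₐ[R] MvPolynomial σ R :=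
    MvPolynomial.renameEquiv R (Equiv.ofBijective g hg)
  let e₂ : MvPolynomial (τ' ⊕ τ) R ≃ₐ[R] MvPolynomial τ' (MvPolynomial τ R) :=
    MvPolynomial.sumAlgEquiv R τ' τ
  have key : (MvPolynomial.rename f : MvPolynomial τ R →ₐ[R] MvPolynomial σ R).toRingHom =
      (e₁ : MvPolynomial (τ' ⊕ τ) R →+* MvPolynomial σ R).comp
        ((e₂.symm : MvPolynomial τ' (MvPolynomial τ R) →+* MvPolynomial (τ' ⊕ τ) R).comp
          (MvPolynomial.C : MvPolynomial τ R →+* MvPolynomial τ' (MvPolynomial τ R))) := by
    apply MvPolynomial.ringHom_ext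
    · intro r
      simp [e₁, e₂]
    · intro i
      simp [e₁, e₂, g]
  rw [key]
  refine RingHom.Flat.comp (RingHom.Flat.comp ?_ (RingHom.Flat.of_bijective e₂.symm.bijective))
    (RingHom.Flat.of_bijective e₁.bijective)
  rw [← MvPolynomial.algebraMap_eq, RingHom.flat_algebraMap_iff]
  infer_instance

section Sub

variable {τ : Type u} (f : τ → σ)

omit [IsLocalRing R] [IsLocalHom φ] in
theorem piT_rename (q : MvPolynomial τ R) :
    piT φ x (MvPolynomial.rename f q) = piT φ (x ∘ f) q :=
  MvPolynomial.eval₂_rename _ _ _ _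

omit [IsLocalRing R] [IsLocalHom φ] in
theorem indepOver_comp (hf : Function.Injective f) (hx : IndepOver φ x) :
    IndepOver φ (x ∘ f) := by
  intro q hq m
  rw [← piT_rename] at hq
  have := hx _ hq (m.mapDomain f)
  rwa [MvPolynomial.coeff_rename_mapDomain f hf] at this

omit [IsLocalRing R] [IsLocalHom φ] in
theorem pT_comp_eq : pT φ (x ∘ f) = (pT φ x).comap
    (MvPolynomial.rename f : MvPolynomial τ R →ₐ[R] MvPolynomial σ R).toRingHom := by
  ext q
  rw [Ideal.mem_comap, mem_pT, mem_pT]
  exact (congrArg (· = 0) (piT_rename φ x f q)).symm.to_iff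

/-- The comparison map between localizations. -/
noncomputable def gT : LT φ (x ∘ f) →+* LT φ x :=
  Localization.localRingHom (pT φ (x ∘ f)) (pT φ x)
    (MvPolynomial.rename f : MvPolynomial τ R →ₐ[R] MvPolynomial σ R).toRingHom (pT_comp_eq φ x f)

omit [IsLocalRing R] [IsLocalHom φ] in
theorem gT_flat (hf : Function.Injective f) : (gT φ x f).Flat :=
  RingHom.Flat.localRingHom (rename_flat f hf) _ _ (pT_comp_eq φ x f)

omit [IsLocalRing R] [IsLocalHom φ] in
theorem gT_algebraMap (r : R) : gT φ x f (algebraMap R (LT φ (x ∘ f)) r) = algebraMap R (LT φ x) r := by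
  rw [IsScalarTower.algebraMap_apply R (MvPolynomial τ R) (LT φ (x ∘ f)),
    IsScalarTower.algebraMap_apply R (MvPolynomial σ R) (LT φ x), gT,
    Localization.localRingHom_to_map]
  congr 1
  simp [MvPolynomial.algebraMap_eq]

/-- `gT` as an algebra map. -/
noncomputable def gTA : LT φ (x ∘ f) →ₐ[R] LT φ x :=
  { gT φ x f with commutes' := gT_algebraMap φ x f }

end Sub

/-- The localization is Noetherian if `R` is. -/
theorem good_LT (hx : IndepOver φ x) : Good φ (LT φ x) (phiT φ x) := by
  classical
  have hpre := preGood_LT φ x hx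
  refine { hpre with noeth := fun hR => ?_ }
  haveI := hpre.isLocalRing
  apply isNoetherianRing_of_family
  intro l y
  choose p s hps using fun k => IsLocalization.exists_mk'_eq (pT φ x).primeCompl (y k)
  let V : Finset σ := Finset.univ.biUnion fun k => (p k).vars ∪ (s k : MvPolynomial σ R).vars
  let τ : Type u := {t : σ // t ∈ V}
  let f : τ → σ := Subtype.val
  have hf : Function.Injective f := Subtype.val_injective
  have hrange : Set.range f = (V : Set σ) := Subtype.range_val
  have hp : ∀ k, ∃ q : MvPolynomial τ R, MvPolynomial.rename f q = p k := fun k => by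
    apply MvPolynomial.exists_rename_eq_of_vars_subset_range _ f hf
    rw [hrange]
    intro v hv
    exact Finset.mem_biUnion.mpr ⟨k, Finset.mem_univ _, Finset.mem_union_left _ hv⟩
  have hs : ∀ k, ∃ q : MvPolynomial τ R, MvPolynomial.rename f q = (s k : MvPolynomial σ R) :=
    fun k => by
    apply MvPolynomial.exists_rename_eq_of_vars_subset_range _ f hf
    rw [hrange]
    intro v hv
    exact Finset.mem_biUnion.mpr ⟨k, Finset.mem_univ _, Finset.mem_union_right _ hv⟩
  choose p' hp' using hp
  choose s' hs' using hs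
  have hs'mem : ∀ k, s' k ∈ (pT φ (x ∘ f)).primeCompl := fun k hmem => by
    have hmem' : s' k ∈ pT φ (x ∘ f) := hmem
    rw [pT_comp_eq φ x f, Ideal.mem_comap] at hmem'
    have h1 : MvPolynomial.rename f (s' k) ∈ pT φ x := hmem'
    rw [hs' k] at h1
    exact (s k).2 h1
  have hpre' : PreGood φ (LT φ (x ∘ f)) (phiT φ (x ∘ f)) :=
    preGood_LT φ (x ∘ f) (indepOver_comp φ x f hf hx)
  haveI : Finite τ := Finite.of_fintype _
  haveI : IsNoetherianRing (MvPolynomial τ R) := inferInstance
  have hnoeth : IsNoetherianRing (LT φ (x ∘ f)) :=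
    IsLocalization.isNoetherianRing (pT φ (x ∘ f)).primeCompl _ inferInstance
  refine ⟨LT φ (x ∘ f), inferInstance, inferInstance, hnoeth, gT φ x f, gT_flat φ x f hf,
    ?_, ?_, fun k => ?_⟩
  · exact Localization.isLocalHom_localRingHom _ _ _ _
  · exact hpre'.map_maximalIdeal_of_algHom hpre (gTA φ x f)
  · refine ⟨IsLocalization.mk' _ (p' k) ⟨s' k, hs'mem k⟩, ?_⟩
    rw [gT, Localization.localRingHom_mk', ← hps k]
    congr 1
    · exact hp' k
    · exact Subtype.ext (hs' k)

end Groth.Agent.Lib.FlatLocalExtH3
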