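import Mathlib
import Groth.Agent.Lib.FlatLocalExt4_helper3

/-!
# Flat local extensions with prescribed residue field: the general theorem (helper3)

EGA 0_III 10.3.1: for a local ring `R` and a local homomorphism `φ : R → K` to a field there is a
flat local `R`-algebra `B` with `𝔪_R B = 𝔪_B` and residue field `K`; `B` is Noetherian if `R` is.
-/

set_option autoImplicit false
set_option linter.unusedSectionVars false
universe u

open IsLocalRing Polynomial

namespace Groth.Agent.Lib.FlatLocalExtH3

variable {R K : Type u} [CommRing R] [IsLocalRing R] [Field K] (φ : R →+* K) [IsLocalHom φ]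

/-- Transitivity of `Good`. -/
theorem Good.trans {φ : R →+* K} [IsLocalHom φ] {Q : Type u} [CommRing Q] [IsLocalRing Q]
    [Algebra R Q] {ψ : Q →+* K}
    (h : Good φ Q ψ) {Q' : Type u} [CommRing Q'] [Algebra Q Q'] [Algebra R Q']
    [IsScalarTower R Q Q'] {ψ' : Q' →+* K} (h' : Good ψ Q' ψ') : Good φ Q' ψ' where
  comp := by
    rw [IsScalarTower.algebraMap_eq R Q Q', ← RingHom.comp_assoc, h'.comp, h.comp]
  isUnit := h'.isUnit
  ker := by
    haveI := h.isLocalHom
    refine h'.ker.trans ?_
    rw [← ker_eq_maximalIdeal ψ, ← h.map_maximalIdeal, Ideal.map_map,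
      ← IsScalarTower.algebraMap_eq R Q Q']
  flat := by
    haveI := h.flat
    haveI := h'.flat
    exact Module.Flat.trans R Q Q'
  noeth := fun hR => h'.noeth (h.noeth hR)

/-- Lifting a monic polynomial over the residue field. -/
theorem isIntegralElem_of_isIntegral_residueField {Q : Type u} [CommRing Q] [IsLocalRing Q]
    (ψ : Q →+* K) [IsLocalHom ψ] (α : K)
    (h : ∃ p : (ResidueField Q)[X], p.Monic ∧ p.eval₂ (ResidueField.lift ψ) α = 0) :
    ψ.IsIntegralElem α := by
  obtain ⟨p, hp, hp0⟩ := h
  obtain ⟨q, hq, -, hqmon⟩ := Polynomial.lifts_and_degree_eq_and_monic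
    (f := residue Q) (p := p)
    ((Polynomial.mem_lifts _).mpr (Polynomial.map_surjective _ residue_surjective p)) hp
  refine ⟨q, hqmon, ?_⟩
  rw [← ResidueField.lift_comp_residue ψ, ← Polynomial.eval₂_map, hq]
  exact hp0

/-- **EGA 0_III 10.3.1.** -/
theorem exists_good : ∃ (B : Type u) (_ : CommRing B) (_ : Algebra R B) (ψ : B →+* K),
    Function.Surjective ψ ∧ Good φ B ψ := by
  classical
  let κ := ResidueField R
  letI : Algebra κ K := (ResidueField.lift φ).toAlgebra
  have hκ : ∀ r : R, algebraMap κ K (residue R r) = φ r := fun r => rfl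
  obtain ⟨𝔗, h𝔗⟩ := exists_isTranscendenceBasis κ K
  let x : 𝔗 → K := fun t => t.1
  have hx : IndepOver φ x := by
    intro p hp m
    have h1 : MvPolynomial.aeval x (MvPolynomial.map (residue R) p) = 0 := by
      rw [MvPolynomial.aeval_def, MvPolynomial.eval₂_map]
      exact hp
    have h2 : MvPolynomial.map (residue R) p = 0 := by
      apply h𝔗.1
      rw [h1, map_zero]
    have h3 := congrArg (MvPolynomial.coeff m) h2
    rw [MvPolynomial.coeff_map, MvPolynomial.coeff_zero] at h3
    rw [← hκ, h3, map_zero]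
  have hgood₁ := good_LT φ x hx
  haveI := hgood₁.isLocalRing
  haveI := hgood₁.isLocalHom
  haveI := hgood₁.isLocalHom_algebraMap
  -- integrality
  have hint : ∀ α : K, (phiT φ x).IsIntegralElem α := by
    let κ₁ := ResidueField (LT φ x)
    letI : Algebra κ₁ K := (ResidueField.lift (phiT φ x)).toAlgebra
    letI : Algebra κ κ₁ := (ResidueField.map (algebraMap R (LT φ x))).toAlgebra
    haveI : IsScalarTower κ κ₁ K := by
      refine IsScalarTower.of_algebraMap_eq fun c => ?_
      obtain ⟨r, rfl⟩ := residue_surjective c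
      show φ r = phiT φ x (algebraMap R (LT φ x) r)
      exact (hgood₁.comp_apply r).symm
    have halg : Algebra.IsAlgebraic κ₁ K := by
      rw [h𝔗.isAlgebraic_iff (S := κ₁)]
      intro t
      have : (t : K) = algebraMap κ₁ K (residue (LT φ x)
          (algebraMap (MvPolynomial 𝔗 R) (LT φ x) (MvPolynomial.X t))) := by
        show (t : K) = phiT φ x (algebraMap (MvPolynomial 𝔗 R) (LT φ x) (MvPolynomial.X t))
        rw [phiT_algebraMap, piT_X]
      rw [this]
      exact isAlgebraic_algebraMap _
    intro α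
    apply isIntegralElem_of_isIntegral_residueField
    obtain ⟨p, hp, hp0⟩ := (halg.isAlgebraic α).isIntegral
    exact ⟨p, hp, hp0⟩
  obtain ⟨B, _, _, ψ, hsurj, hgoodB⟩ := exists_good_of_integral (φ := phiT φ x) hint
  letI : Algebra R B := ((algebraMap (LT φ x) B).comp (algebraMap R (LT φ x))).toAlgebra
  haveI : IsScalarTower R (LT φ x) B := IsScalarTower.of_algebraMap_eq fun r => rfl
  exact ⟨B, inferInstance, inferInstance, ψ, hsurj, hgood₁.trans hgoodB⟩

end Groth.Agent.Lib.FlatLocalExtH3
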