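import Mathlib
import Groth.Agent.Lib.FlatLocalExt5_helper3
import Groth.Prelude.Def_Found

/-!
# Existence of Cohen rings (helper3)
-/

set_option autoImplicit false
universe u

open IsLocalRing

namespace Groth.Agent.Lib.CohenRingH3

/-- A Noetherian local ring whose maximal ideal is generated by a regular element is a domain. -/
theorem isDomain_of_principal (Λ : Type u) [CommRing Λ] [IsLocalRing Λ] [IsNoetherianRing Λ]
    (π : Λ) (hπ : maximalIdeal Λ = Ideal.span {π}) (hreg : IsSMulRegular Λ π) : IsDomain Λ := by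
  have hK : ⨅ n : ℕ, maximalIdeal Λ ^ n = ⊥ :=
    Ideal.iInf_pow_eq_bot_of_isLocalRing _ (Ideal.IsMaximal.ne_top inferInstance)
  have hpow : ∀ n : ℕ, maximalIdeal Λ ^ n = Ideal.span {π ^ n} := fun n => by
    rw [hπ, Ideal.span_singleton_pow]
  have hrep : ∀ x : Λ, x ≠ 0 → ∃ (n : ℕ) (a : Λ), IsUnit a ∧ x = a * π ^ n := by
    intro x hx
    have hex : ∃ n : ℕ, x ∉ maximalIdeal Λ ^ n := by
      by_contra hcon
      push Not at hcon
      have : x ∈ ⨅ n : ℕ, maximalIdeal Λ ^ n := by
        rw [Ideal.mem_iInf]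
        exact hcon
      rw [hK] at this
      exact hx this
    classical
    let n₀ := Nat.find hex
    have hn₀ : x ∉ maximalIdeal Λ ^ n₀ := Nat.find_spec hex
    have hn₀pos : n₀ ≠ 0 := by
      intro h0
      rw [h0, pow_zero, Ideal.one_eq_top] at hn₀
      exact hn₀ trivial
    obtain ⟨n, hn⟩ := Nat.exists_eq_succ_of_ne_zero hn₀pos
    have hxn : x ∈ maximalIdeal Λ ^ n := by
      by_contra hcon
      have := Nat.find_min' hex hcon
      omega
    rw [hpow, Ideal.mem_span_singleton'] at hxn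
    obtain ⟨a, ha⟩ := hxn
    refine ⟨n, a, ?_, ha.symm⟩
    by_contra hnu
    have ham : a ∈ maximalIdeal Λ := hnu
    rw [hπ, Ideal.mem_span_singleton'] at ham
    obtain ⟨b, hb⟩ := ham
    apply hn₀
    rw [hn, hpow, Ideal.mem_span_singleton']
    exact ⟨b, by rw [← ha, ← hb, pow_succ]; ring⟩
  have hπpow : ∀ n : ℕ, π ^ n ≠ 0 := by
    intro n h0
    have h1 : IsSMulRegular Λ (π ^ n) := hreg.pow n
    have h2 : (π ^ n) • (1 : Λ) = (π ^ n) • (0 : Λ) := by
      rw [smul_eq_mul, smul_eq_mul, h0, zero_mul, zero_mul]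
    exact one_ne_zero (h1 h2)
  haveI : NoZeroDivisors Λ := by
    constructor
    intro x y hxy
    by_contra hcon
    push Not at hcon
    obtain ⟨n, a, ha, rfl⟩ := hrep x hcon.1
    obtain ⟨l, b, hb, rfl⟩ := hrep y hcon.2
    have h1 : (a * b) * π ^ (n + l) = 0 := by
      rw [← hxy, pow_add]
      ring
    have h2 : π ^ (n + l) = 0 := by
      have := (ha.mul hb).mul_right_eq_zero.mp h1
      exact this
    exact hπpow _ h2
  exact NoZeroDivisors.to_isDomain Λ

/-- A Noetherian local ring whose maximal ideal is generated by a regular element is a DVR. -/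
theorem isDVR_of_principal (Λ : Type u) [CommRing Λ] [IsLocalRing Λ] [IsNoetherianRing Λ]
    (π : Λ) (hπ : maximalIdeal Λ = Ideal.span {π}) (hreg : IsSMulRegular Λ π) :
    ∃ (_ : IsDomain Λ), IsDiscreteValuationRing Λ := by
  haveI := isDomain_of_principal Λ π hπ hreg
  refine ⟨inferInstance, ?_⟩
  have hπ0 : π ≠ 0 := by
    intro h0
    have h2 : π • (1 : Λ) = π • (0 : Λ) := by
      rw [smul_eq_mul, smul_eq_mul, h0, zero_mul, zero_mul]
    exact one_ne_zero (hreg h2)
  have hnf : ¬ IsField Λ := by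
    rw [IsLocalRing.isField_iff_maximalIdeal_eq, hπ, Ideal.span_singleton_eq_bot]
    exact hπ0
  have hprinc : (maximalIdeal Λ).IsPrincipal := ⟨⟨π, hπ⟩⟩
  exact ((IsDiscreteValuationRing.TFAE Λ hnf).out 0 4).mpr hprinc

/-- **Existence of Cohen rings.** -/
theorem exists_cohenRing (p : ℕ) [hp : Fact p.Prime] (k : Type u) [Field k] [CharP k p] :
    ∃ (Λ : Type u) (_ : CommRing Λ) (_ : IsLocalRing Λ), CAlg.IsCohenRing Λ ∧
      Nonempty (ResidueField Λ ≃+* k) := by
  classical
  haveI : IsDomain (ULift.{u} ℤ) :=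
    MulEquiv.isDomain ℤ (ULift.ringEquiv : ULift.{u} ℤ ≃+* ℤ).toMulEquiv
  haveI : IsNoetherianRing (ULift.{u} ℤ) := isNoetherianRing_of_ringEquiv ℤ ULift.ringEquiv.symm
  let ψ₀ : (ULift.{u} ℤ) →+* k := (Int.castRingHom k).comp (ULift.ringEquiv : ULift.{u} ℤ ≃+* ℤ).toRingHom
  have hψ₀ : ∀ a : (ULift.{u} ℤ), ψ₀ a = ((a.down : ℤ) : k) := fun a => rfl
  let 𝔭 : Ideal (ULift.{u} ℤ) := RingHom.ker ψ₀
  haveI : 𝔭.IsPrime := RingHom.ker_isPrime ψ₀
  have h𝔭 : 𝔭 = Ideal.span {(p : (ULift.{u} ℤ))} := by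
    ext a
    rw [RingHom.mem_ker, hψ₀, CharP.intCast_eq_zero_iff k p, Ideal.mem_span_singleton]
    constructor
    · rintro ⟨c, hc⟩
      refine ⟨ULift.up c, ?_⟩
      apply ULift.ext
      rw [hc]
      simp
    · rintro ⟨c, hc⟩
      refine ⟨c.down, ?_⟩
      rw [hc]
      simp
  let R := Localization.AtPrime 𝔭
  let φ : R →+* k := IsLocalization.lift (M := 𝔭.primeCompl) (g := ψ₀) (fun y =>
    isUnit_iff_ne_zero.mpr fun h => y.2 (RingHom.mem_ker.mpr h))
  have hφmk : ∀ (a : (ULift.{u} ℤ)) (s : 𝔭.primeCompl), φ (IsLocalization.mk' R a s) * ψ₀ s = ψ₀ a := by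
    intro a s
    have h1 : φ (algebraMap (ULift.{u} ℤ) R (s : (ULift.{u} ℤ))) = ψ₀ s := IsLocalization.lift_eq _ _
    have h2 : φ (algebraMap (ULift.{u} ℤ) R a) = ψ₀ a := IsLocalization.lift_eq _ _
    rw [← h1, ← map_mul, IsLocalization.mk'_spec, h2]
  haveI : IsLocalHom φ := by
    constructor
    intro y hy
    obtain ⟨a, s, rfl⟩ := IsLocalization.exists_mk'_eq 𝔭.primeCompl y
    rw [IsLocalization.AtPrime.isUnit_mk'_iff R 𝔭]
    intro ha
    have h1 := hφmk a s
    rw [RingHom.mem_ker.mp ha] at h1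
    have hs : ψ₀ s ≠ 0 := fun h => s.2 (RingHom.mem_ker.mpr h)
    exact hy.ne_zero ((mul_eq_zero.mp h1).resolve_right hs)
  have hmaxR : maximalIdeal R = Ideal.span {(p : R)} := by
    have h1 : 𝔭.map (algebraMap (ULift.{u} ℤ) R) =
        (Ideal.span {(p : ULift.{u} ℤ)}).map (algebraMap (ULift.{u} ℤ) R) :=
      congrArg (Ideal.map (algebraMap (ULift.{u} ℤ) R)) h𝔭
    rw [← Localization.AtPrime.map_eq_maximalIdeal (I := 𝔭), h1, Ideal.map_span,
      Set.image_singleton, map_natCast]
  have hpR : IsSMulRegular R (p : R) := by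
    have hne : (p : R) ≠ 0 := by
      have hinj : Function.Injective (algebraMap (ULift.{u} ℤ) R) :=
        IsLocalization.injective R 𝔭.primeCompl_le_nonZeroDivisors
      have h0 : (p : (ULift.{u} ℤ)) ≠ 0 := by
        intro h
        have := congrArg ULift.down h
        simp at this
        exact hp.out.ne_zero (by exact_mod_cast this)
      intro h
      apply h0
      apply hinj
      rw [map_natCast, map_zero, h]
    exact (IsRegular.of_ne_zero hne).left.isSMulRegular
  -- the flat local extension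
  obtain ⟨B, _, _, ψ, hsurj, hgood⟩ := Groth.Agent.Lib.FlatLocalExtH3.exists_good φ
  haveI := hgood.isLocalRing
  haveI := hgood.isLocalHom
  haveI : IsNoetherianRing B :=
    hgood.noeth (IsLocalization.isNoetherianRing 𝔭.primeCompl R inferInstance)
  haveI := hgood.flat
  have hmaxB : maximalIdeal B = Ideal.span {(p : B)} := by
    rw [← hgood.ker_eq, ← hgood.map_maximalIdeal, hmaxR, Ideal.map_span, Set.image_singleton,
      map_natCast]
  have hpB : IsSMulRegular B (p : B) := by
    have := IsSMulRegular.of_flat (S := B) hpR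
    rwa [map_natCast] at this
  -- completion
  let Λ := AdicCompletion (maximalIdeal B) B
  haveI : IsNoetherianRing Λ :=
    Groth.Agent.Lib.NoethApproxH3.isNoetherianRing_adicCompletion_of_fg B
      (maximalIdeal B).fg_of_isNoetherianRing
  have hmaxΛ : maximalIdeal Λ = Ideal.span {(p : Λ)} := by
    have h1 : (maximalIdeal B).map (algebraMap B Λ) =
        (Ideal.span {(p : B)}).map (algebraMap B Λ) :=
      congrArg (Ideal.map (algebraMap B Λ)) hmaxB
    rw [AdicCompletion.maximalIdeal_eq_map, h1, Ideal.map_span, Set.image_singleton,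
      map_natCast]
  have hpΛ : IsSMulRegular Λ (p : Λ) := by
    have := IsSMulRegular.of_flat (S := Λ) hpB
    rwa [map_natCast] at this
  obtain ⟨hdom, hdvr⟩ := isDVR_of_principal Λ (p : Λ) hmaxΛ hpΛ
  refine ⟨Λ, inferInstance, inferInstance, ⟨hdom, hdvr, inferInstance, p, hp.out, hmaxΛ⟩, ?_⟩
  have hbij := AdicCompletion.residueField_map_bijective_of_fg (R := B)
    (maximalIdeal B).fg_of_isNoetherianRing
  let e₁ : ResidueField B ≃+* ResidueField Λ := RingEquiv.ofBijective _ hbij
  let e₂ : ResidueField B ≃+* k := RingEquiv.ofBijective (ResidueField.lift ψ)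
    ⟨(ResidueField.lift ψ).injective, fun y => by
      obtain ⟨b, rfl⟩ := hsurj y
      exact ⟨residue B b, rfl⟩⟩
  exact ⟨e₁.symm.trans e₂⟩

end Groth.Agent.Lib.CohenRingH3
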