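import Mathlib

/-!
Helper lemmas (helper1): evaluation of multivariate power series (finitely many variables) at
nilpotent elements, and uniqueness of algebra maps out of power series rings with nilpotent
values on the variables.  APPEND-ONLY once landed.
-/

set_option autoImplicit false

namespace Groth.Agent.Lib.PSEvalH1

open MvPowerSeries

section Span

variable {σ : Type*} {R : Type*} [CommRing R]

theorem mem_span_X_pow_finset (N : ℕ) (s : Finset σ) : ∀ f : MvPowerSeries σ R,
    (∀ d : σ →₀ ℕ, (∀ i ∈ s, d i < N) → coeff d f = 0) →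
    f ∈ Ideal.span ((fun i => (X i : MvPowerSeries σ R) ^ N) '' (s : Set σ)) := by
  classical
  induction s using Finset.induction_on with
  | empty =>
    intro f hf
    have h0 : f = 0 := by
      ext d
      rw [hf d (fun i hi => absurd hi (Finset.notMem_empty i)), map_zero]
    rw [h0]
    exact Ideal.zero_mem _
  | insert j s hj ih =>
    intro f hf
    let f₁ : MvPowerSeries σ R := fun d => if N ≤ d j then coeff d f else 0
    let f₂ : MvPowerSeries σ R := fun d => if N ≤ d j then 0 else coeff d f
    have hc₁ : ∀ d, coeff d f₁ = if N ≤ d j then coeff d f else 0 := fun d => rfl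
    have hc₂ : ∀ d, coeff d f₂ = if N ≤ d j then 0 else coeff d f := fun d => rfl
    have hsum : f = f₁ + f₂ := by
      ext d
      rw [map_add, hc₁, hc₂]
      split_ifs <;> simp
    have h₁ : (X j : MvPowerSeries σ R) ^ N ∣ f₁ := by
      rw [X_pow_dvd_iff]
      intro m hm
      rw [hc₁, if_neg (not_le.2 hm)]
    have h₂ : f₂ ∈ Ideal.span ((fun i => (X i : MvPowerSeries σ R) ^ N) '' (s : Set σ)) := by
      apply ih
      intro d hd
      rw [hc₂]
      split_ifs with h
      · rfl
      · apply hf
        intro i hi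
        rcases Finset.mem_insert.1 hi with hij | hi'
        · rw [hij]; exact not_le.1 h
        · exact hd i hi'
    rw [hsum]
    refine Ideal.add_mem _ ?_ ?_
    · obtain ⟨g, hg⟩ := h₁
      rw [hg]
      exact Ideal.mul_mem_right _ _ (Ideal.subset_span
        ⟨j, Finset.mem_coe.2 (Finset.mem_insert_self j s), rfl⟩)
    · exact Ideal.span_mono (Set.image_mono (Finset.coe_subset.2 (Finset.subset_insert j s))) h₂

end Span

section Ext

variable {σ : Type*} [Finite σ] {R : Type*} [CommRing R] {S : Type*} [CommRing S] [Algebra R S]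

theorem exists_trunc_decomp (N : ℕ) (hN : 0 < N) (f : MvPowerSeries σ R) :
    ∃ p : MvPolynomial σ R, f - (p : MvPowerSeries σ R) ∈
      Ideal.span (Set.range fun i => (X i : MvPowerSeries σ R) ^ N) := by
  classical
  haveI := Fintype.ofFinite σ
  let n : σ →₀ ℕ := Finsupp.equivFunOnFinite.symm (fun _ => N - 1)
  refine ⟨trunc' R n f, ?_⟩
  have h := mem_span_X_pow_finset N (Finset.univ : Finset σ) (f - (trunc' R n f : MvPowerSeries σ R))
    (by
      intro d hd
      have hdn : d ≤ n := by
        rw [Finsupp.le_iff]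
        intro i _
        have := hd i (Finset.mem_univ i)
        show d i ≤ N - 1
        omega
      rw [map_sub, MvPolynomial.coeff_coe, coeff_trunc', if_pos hdn, sub_self])
  rwa [Finset.coe_univ, Set.image_univ] at h

theorem algHom_ext_of_nilpotent (ε₁ ε₂ : MvPowerSeries σ R →ₐ[R] S)
    (h : ∀ s, ε₁ (X s) = ε₂ (X s)) (hn : ∀ s, IsNilpotent (ε₁ (X s))) : ε₁ = ε₂ := by
  classical
  haveI := Fintype.ofFinite σ
  choose n hn' using hn
  obtain ⟨N, hN, hNn⟩ : ∃ N, 0 < N ∧ ∀ s, ε₁ (X s) ^ N = 0 :=
    ⟨(Finset.univ.sup n) + 1, Nat.succ_pos _, fun s =>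
      pow_eq_zero_of_le (le_trans (Finset.le_sup (Finset.mem_univ s)) (Nat.le_succ _)) (hn' s)⟩
  have hkill : ∀ (ε : MvPowerSeries σ R →ₐ[R] S), (∀ s, ε (X s) ^ N = 0) →
      ∀ g ∈ Ideal.span (Set.range fun i => (X i : MvPowerSeries σ R) ^ N), ε g = 0 := by
    intro ε hε g hg
    have hle : Ideal.span (Set.range fun i => (X i : MvPowerSeries σ R) ^ N) ≤
        RingHom.ker (ε : MvPowerSeries σ R →+* S) := by
      rw [Ideal.span_le]
      rintro _ ⟨i, rfl⟩
      rw [SetLike.mem_coe, RingHom.mem_ker]
      show ε (X i ^ N) = 0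
      rw [map_pow]
      exact hε i
    exact RingHom.mem_ker.1 (hle hg)
  have hpoly : ∀ p : MvPolynomial σ R, ε₁ (p : MvPowerSeries σ R) = ε₂ (p : MvPowerSeries σ R) := by
    intro p
    have hcomp : (ε₁ : MvPowerSeries σ R →+* S).comp MvPolynomial.coeToMvPowerSeries.ringHom =
        (ε₂ : MvPowerSeries σ R →+* S).comp MvPolynomial.coeToMvPowerSeries.ringHom := by
      apply MvPolynomial.ringHom_ext
      · intro r
        show ε₁ ((MvPolynomial.C r : MvPolynomial σ R) : MvPowerSeries σ R) =
          ε₂ ((MvPolynomial.C r : MvPolynomial σ R) : MvPowerSeries σ R)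
        rw [MvPolynomial.coe_C, MvPowerSeries.c_eq_algebraMap, AlgHom.commutes, AlgHom.commutes]
      · intro i
        show ε₁ ((MvPolynomial.X i : MvPolynomial σ R) : MvPowerSeries σ R) =
          ε₂ ((MvPolynomial.X i : MvPolynomial σ R) : MvPowerSeries σ R)
        rw [MvPolynomial.coe_X]
        exact h i
    exact RingHom.congr_fun hcomp p
  apply AlgHom.ext
  intro f
  obtain ⟨p, hp⟩ := exists_trunc_decomp N hN f
  have e1 := hkill ε₁ hNn _ hp
  have e2 := hkill ε₂ (fun s => by rw [← h]; exact hNn s) _ hp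
  rw [map_sub, sub_eq_zero] at e1 e2
  rw [e1, e2, hpoly]

end Ext

section Eval

variable {σ : Type*} [Finite σ] {R : Type*} [CommRing R] {S : Type*} [CommRing S] [Algebra R S]

attribute [local instance] DiscreteTopology.instContinuousSMul

theorem hasEval_of_nilpotent [TopologicalSpace S] [DiscreteTopology S] (a : σ → S)
    (ha : ∀ s, IsNilpotent (a s)) : HasEval a where
  hpow s := by
    obtain ⟨n, hn⟩ := ha s
    exact tendsto_atTop_of_eventually_const (i₀ := n) fun m hm => pow_eq_zero_of_le hm hn
  tendsto_zero := by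
    rw [Filter.cofinite_eq_bot]
    exact Filter.tendsto_bot

/-- evaluation of power series in finitely many variables at nilpotent elements -/
noncomputable def evalNil (a : σ → S) (ha : ∀ s, IsNilpotent (a s)) :
    MvPowerSeries σ R →ₐ[R] S :=
  letI : UniformSpace R := ⊥
  letI : UniformSpace S := ⊥
  MvPowerSeries.aeval (hasEval_of_nilpotent a ha)

theorem evalNil_X (a : σ → S) (ha : ∀ s, IsNilpotent (a s)) (s : σ) :
    evalNil (R := R) a ha (X s) = a s := by
  letI : UniformSpace R := ⊥
  letI : UniformSpace S := ⊥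
  have h := MvPowerSeries.aeval_coe (R := R) (hasEval_of_nilpotent a ha) (MvPolynomial.X s)
  rw [MvPolynomial.coe_X, MvPolynomial.aeval_X] at h
  exact h

/-- existence and uniqueness in one statement -/
theorem exists_unique_algHom (a : σ → S) (ha : ∀ s, IsNilpotent (a s)) :
    ∃! ε : MvPowerSeries σ R →ₐ[R] S, ∀ s, ε (X s) = a s := by
  refine ⟨evalNil a ha, evalNil_X a ha, fun ε hε => ?_⟩
  apply algHom_ext_of_nilpotent
  · intro s
    rw [hε, evalNil_X]
  · intro s
    rw [hε]
    exact ha s

end Eval

end Groth.Agent.Lib.PSEvalH1
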