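import Mathlib
import Groth.Prelude.Def_ArtFun5
import Groth.Agent.Lib.PSEval_helper1

/-!
Helper lemmas (helper1): adic completeness of power series rings in finitely many variables over an
adically complete ring, and the power series ring over a coefficient ring as a coefficient ring.
APPEND-ONLY once landed.
-/

set_option autoImplicit false
universe u v

namespace Groth.Agent.Lib.PSCompleteH1

open MvPowerSeries Groth.Agent.Lib.PSEvalH1

section Filt

variable {σ : Type*} {R : Type*} [CommRing R]

/-- power series whose coefficient at `d` lies in `I^(k - |d|)` -/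
def filt (I : Ideal R) (k : ℕ) : Ideal (MvPowerSeries σ R) where
  carrier := {f | ∀ d : σ →₀ ℕ, coeff d f ∈ I ^ (k - Finsupp.degree d)}
  add_mem' := fun {f g} hf hg d => by
    rw [map_add]
    exact Ideal.add_mem _ (hf d) (hg d)
  zero_mem' := fun d => by
    rw [map_zero]
    exact Ideal.zero_mem _
  smul_mem' := fun c f hf d => by
    classical
    rw [smul_eq_mul, coeff_mul]
    refine Ideal.sum_mem _ fun p hp => ?_
    have hpd : p.1 + p.2 = d := Finset.HasAntidiagonal.mem_antidiagonal.1 hp
    have hdeg : Finsupp.degree d = Finsupp.degree p.1 + Finsupp.degree p.2 := by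
      rw [← hpd, map_add]
    have hle : k - Finsupp.degree d ≤ k - Finsupp.degree p.2 := by omega
    exact Ideal.mul_mem_left _ _ (Ideal.pow_le_pow_right hle (hf p.2))

theorem mem_filt (I : Ideal R) (k : ℕ) (f : MvPowerSeries σ R) :
    f ∈ filt I k ↔ ∀ d : σ →₀ ℕ, coeff d f ∈ I ^ (k - Finsupp.degree d) := Iff.rfl

theorem filt_zero (I : Ideal R) : (filt I 0 : Ideal (MvPowerSeries σ R)) = ⊤ := by
  rw [Ideal.eq_top_iff_one, mem_filt]
  intro d
  rw [Nat.zero_sub, pow_zero, Ideal.one_eq_top]
  trivial

theorem mul_mem_filt (I : Ideal R) (a b : ℕ) (f g : MvPowerSeries σ R) (hf : f ∈ filt I a)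
    (hg : g ∈ filt I b) : f * g ∈ filt I (a + b) := by
  classical
  intro d
  rw [coeff_mul]
  refine Ideal.sum_mem _ fun p hp => ?_
  have hpd : p.1 + p.2 = d := Finset.HasAntidiagonal.mem_antidiagonal.1 hp
  have hdeg : Finsupp.degree d = Finsupp.degree p.1 + Finsupp.degree p.2 := by
    rw [← hpd, map_add]
  have hle : a + b - Finsupp.degree d ≤ (a - Finsupp.degree p.1) + (b - Finsupp.degree p.2) := by
    omega
  apply Ideal.pow_le_pow_right hle
  rw [pow_add]
  exact Ideal.mul_mem_mul (hf p.1) (hg p.2)

theorem comap_le_filt_one (I : Ideal R) :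
    I.comap (constantCoeff : MvPowerSeries σ R →+* R) ≤ filt I 1 := by
  intro f hf d
  by_cases hd : d = 0
  · rw [hd, map_zero, Nat.sub_zero, pow_one]
    exact hf
  · have h1 : 1 ≤ Finsupp.degree d := by
      rw [Nat.one_le_iff_ne_zero]
      intro h0
      exact hd ((Finsupp.degree_eq_zero_iff d).1 h0)
    rw [Nat.sub_eq_zero_of_le h1, pow_zero, Ideal.one_eq_top]
    trivial

theorem pow_le_filt (I : Ideal R) (k : ℕ) :
    (I.comap (constantCoeff : MvPowerSeries σ R →+* R)) ^ k ≤ filt I k := by
  induction k with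
  | zero => rw [filt_zero]; exact le_top
  | succ k ih =>
    rw [pow_succ, Ideal.mul_le]
    intro f hf g hg
    exact mul_mem_filt I k 1 f g (ih hf) (comap_le_filt_one I hg)

theorem X_mem_comap (I : Ideal R) (i : σ) :
    (X i : MvPowerSeries σ R) ∈ I.comap (constantCoeff : MvPowerSeries σ R →+* R) := by
  rw [Ideal.mem_comap, constantCoeff_X]
  exact Ideal.zero_mem _

theorem monomial_one_mem_pow (I : Ideal R) (d : σ →₀ ℕ) :
    (monomial d (1 : R) : MvPowerSeries σ R) ∈
      (I.comap (constantCoeff : MvPowerSeries σ R →+* R)) ^ (Finsupp.degree d) := by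
  induction d using Finsupp.induction with
  | zero =>
    rw [map_zero, pow_zero, Ideal.one_eq_top]
    trivial
  | single_add a b f _ _ ih =>
    have e : (monomial (Finsupp.single a b + f) (1 : R) : MvPowerSeries σ R) =
        (X a : MvPowerSeries σ R) ^ b * monomial f (1 : R) := by
      rw [X_pow_eq, monomial_mul_monomial, one_mul]
    rw [e, map_add, Finsupp.degree_single, pow_add]
    exact Ideal.mul_mem_mul (Ideal.pow_mem_pow (X_mem_comap I a) b) ih

theorem monomial_mem_pow (I : Ideal R) (k : ℕ) (d : σ →₀ ℕ) (c : R)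
    (hc : c ∈ I ^ (k - Finsupp.degree d)) :
    (monomial d c : MvPowerSeries σ R) ∈ (I.comap (constantCoeff : MvPowerSeries σ R →+* R)) ^ k := by
  have e : (monomial d c : MvPowerSeries σ R) = C c * monomial d (1 : R) := by
    rw [← monomial_zero_eq_C_apply, monomial_mul_monomial, zero_add, mul_one]
  have hC : (C c : MvPowerSeries σ R) ∈
      (I.comap (constantCoeff : MvPowerSeries σ R →+* R)) ^ (k - Finsupp.degree d) := by
    have h1 : Ideal.map (C : R →+* MvPowerSeries σ R) I ≤
        I.comap (constantCoeff : MvPowerSeries σ R →+* R) := by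
      rw [Ideal.map_le_iff_le_comap]
      intro x hx
      rw [Ideal.mem_comap, Ideal.mem_comap, constantCoeff_C]
      exact hx
    have h2 := Ideal.mem_map_of_mem (C : R →+* MvPowerSeries σ R) hc
    rw [Ideal.map_pow] at h2
    exact Ideal.pow_right_mono h1 _ h2
  rw [e]
  by_cases hk : Finsupp.degree d ≤ k
  · have h3 := Ideal.mul_mem_mul hC (monomial_one_mem_pow I d)
    rw [← pow_add, Nat.sub_add_cancel hk] at h3
    exact h3
  · have hk' : k ≤ Finsupp.degree d := by omega
    exact Ideal.mul_mem_left _ _ (Ideal.pow_le_pow_right hk' (monomial_one_mem_pow I d))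

theorem filt_le_pow [Finite σ] (I : Ideal R) (k : ℕ) :
    filt I k ≤ (I.comap (constantCoeff : MvPowerSeries σ R →+* R)) ^ k := by
  classical
  haveI := Fintype.ofFinite σ
  rcases Nat.eq_zero_or_pos k with hk | hk
  · rw [hk, pow_zero, Ideal.one_eq_top]
    exact le_top
  intro f hf
  let n : σ →₀ ℕ := Finsupp.equivFunOnFinite.symm (fun _ => k - 1)
  have h := mem_span_X_pow_finset k (Finset.univ : Finset σ) (f - (trunc' R n f : MvPowerSeries σ R))
    (by
      intro d hd
      have hdn : d ≤ n := by
        rw [Finsupp.le_iff]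
        intro i _
        have := hd i (Finset.mem_univ i)
        show d i ≤ k - 1
        omega
      rw [map_sub, MvPolynomial.coeff_coe, coeff_trunc', if_pos hdn, sub_self])
  have htail : f - (trunc' R n f : MvPowerSeries σ R) ∈
      (I.comap (constantCoeff : MvPowerSeries σ R →+* R)) ^ k := by
    have hle : Ideal.span ((fun i => (X i : MvPowerSeries σ R) ^ k) '' ((Finset.univ : Finset σ) : Set σ)) ≤
        (I.comap (constantCoeff : MvPowerSeries σ R →+* R)) ^ k := by
      rw [Ideal.span_le]
      rintro _ ⟨i, _, rfl⟩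
      exact Ideal.pow_mem_pow (X_mem_comap I i) k
    exact hle h
  have hpoly : ((trunc' R n f : MvPolynomial σ R) : MvPowerSeries σ R) ∈
      (I.comap (constantCoeff : MvPowerSeries σ R →+* R)) ^ k := by
    have hsum : ((trunc' R n f : MvPolynomial σ R) : MvPowerSeries σ R) =
        ∑ v ∈ (trunc' R n f).support,
          (monomial v (MvPolynomial.coeff v (trunc' R n f)) : MvPowerSeries σ R) := by
      conv_lhs => rw [(trunc' R n f).as_sum]
      rw [← MvPolynomial.coeToMvPowerSeries.ringHom_apply, map_sum]
      refine Finset.sum_congr rfl fun v _ => ?_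
      rw [MvPolynomial.coeToMvPowerSeries.ringHom_apply, MvPolynomial.coe_monomial]
    rw [hsum]
    refine Ideal.sum_mem _ fun v _ => ?_
    apply monomial_mem_pow
    rw [coeff_trunc']
    split_ifs
    · exact hf v
    · exact Ideal.zero_mem _
  have e : f = (f - (trunc' R n f : MvPowerSeries σ R)) + (trunc' R n f : MvPowerSeries σ R) := by
    ring
  rw [e]
  exact Ideal.add_mem _ htail hpoly

theorem pow_eq_filt [Finite σ] (I : Ideal R) (k : ℕ) :
    (I.comap (constantCoeff : MvPowerSeries σ R →+* R)) ^ k = filt I k :=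
  le_antisymm (pow_le_filt I k) (filt_le_pow I k)

end Filt

section Complete

variable {σ : Type*} [Finite σ] {R : Type*} [CommRing R]

theorem isAdicComplete_comap (I : Ideal R) [IsAdicComplete I R] :
    IsAdicComplete (I.comap (constantCoeff : MvPowerSeries σ R →+* R)) (MvPowerSeries σ R) := by
  have hH : IsHausdorff I R := inferInstance
  have hP : IsPrecomplete I R := inferInstance
  refine { haus' := ?_, prec' := ?_ }
  · intro x hx
    ext d
    rw [map_zero]
    apply hH.haus
    intro m
    rw [SModEq.zero, smul_eq_mul, Ideal.mul_top]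
    have h1 := hx (m + Finsupp.degree d)
    rw [SModEq.zero, smul_eq_mul, Ideal.mul_top, pow_eq_filt] at h1
    have h2 := h1 d
    rw [Nat.add_sub_cancel] at h2
    exact h2
  · intro f hf
    have hcauchy : ∀ (d : σ →₀ ℕ) {m n : ℕ}, m ≤ n →
        coeff d (f (m + Finsupp.degree d)) ≡ coeff d (f (n + Finsupp.degree d))
          [SMOD (I ^ m • ⊤ : Submodule R R)] := by
      intro d m n hmn
      have h1 := hf (Nat.add_le_add_right hmn (Finsupp.degree d))
      rw [SModEq.sub_mem, smul_eq_mul, Ideal.mul_top, pow_eq_filt] at h1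
      have h2 := h1 d
      rw [Nat.add_sub_cancel, map_sub] at h2
      rw [SModEq.sub_mem, smul_eq_mul, Ideal.mul_top]
      exact h2
    have hex : ∀ d : σ →₀ ℕ, ∃ L : R, ∀ n, coeff d (f (n + Finsupp.degree d)) ≡ L
        [SMOD (I ^ n • ⊤ : Submodule R R)] := fun d =>
      hP.prec' (fun m => coeff d (f (m + Finsupp.degree d))) (fun {m n} hmn => hcauchy d hmn)
    choose L hL using hex
    let F : MvPowerSeries σ R := fun d => L d
    have hF : ∀ d, coeff d F = L d := fun d => rfl
    refine ⟨F, fun n => ?_⟩
    rw [SModEq.sub_mem, smul_eq_mul, Ideal.mul_top, pow_eq_filt]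
    intro d
    by_cases hd : Finsupp.degree d ≤ n
    · have h1 := hL d (n - Finsupp.degree d)
      rw [Nat.sub_add_cancel hd, SModEq.sub_mem, smul_eq_mul, Ideal.mul_top] at h1
      rw [map_sub, hF]
      exact h1
    · have h0 : n - Finsupp.degree d = 0 := by omega
      rw [h0, pow_zero, Ideal.one_eq_top]
      trivial

omit [Finite σ] in
theorem maximalIdeal_eq_comap [IsLocalRing R] :
    IsLocalRing.maximalIdeal (MvPowerSeries σ R) =
      (IsLocalRing.maximalIdeal R).comap (constantCoeff : MvPowerSeries σ R →+* R) := by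
  ext f
  rw [Ideal.mem_comap, IsLocalRing.mem_maximalIdeal, IsLocalRing.mem_maximalIdeal, mem_nonunits_iff,
    mem_nonunits_iff, MvPowerSeries.isUnit_iff_constantCoeff]

theorem mem_maximalIdeal_iff [IsLocalRing R] (f : MvPowerSeries σ R) :
    f ∈ IsLocalRing.maximalIdeal (MvPowerSeries σ R) ↔
      constantCoeff f ∈ IsLocalRing.maximalIdeal R := by
  rw [maximalIdeal_eq_comap, Ideal.mem_comap]

theorem isAdicComplete_maximalIdeal [IsLocalRing R]
    [IsAdicComplete (IsLocalRing.maximalIdeal R) R] :
    IsAdicComplete (IsLocalRing.maximalIdeal (MvPowerSeries σ R)) (MvPowerSeries σ R) := by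
  rw [maximalIdeal_eq_comap]
  exact isAdicComplete_comap _

end Complete

section CRingPS

open ArtFun

variable {Λ : Type u} {k : Type u} [CommRing Λ] [Field k] [Algebra Λ k]

/-- the constant coefficient as an algebra map over a base -/
noncomputable def constantCoeffₐ (σ : Type*) (R : Type*) [CommRing R] [Algebra Λ R] :
    MvPowerSeries σ R →ₐ[Λ] R where
  toRingHom := constantCoeff
  commutes' c := by
    show constantCoeff (algebraMap Λ (MvPowerSeries σ R) c) = algebraMap Λ R c
    rw [MvPowerSeries.algebraMap_apply, constantCoeff_C]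

theorem constantCoeffₐ_apply (σ : Type*) (R : Type*) [CommRing R] [Algebra Λ R]
    (f : MvPowerSeries σ R) : constantCoeffₐ (Λ := Λ) σ R f = constantCoeff f := rfl

/-- the power series ring over a coefficient ring, as a coefficient ring -/
noncomputable def psCRing (R : CRing Λ k) (n : ℕ) : CRing Λ k where
  carrier := MvPowerSeries (Fin n) R.carrier
  res := R.res.comp (constantCoeffₐ (Fin n) R.carrier)
  res_surjective := by
    intro c
    obtain ⟨a, ha⟩ := R.res_surjective c
    refine ⟨C a, ?_⟩
    show R.res (constantCoeff (C a)) = c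
    rw [constantCoeff_C, ha]
  isAdicComplete := by
    haveI := R.isAdicComplete
    exact isAdicComplete_maximalIdeal

theorem psCRing_res (R : CRing Λ k) (n : ℕ) (f : MvPowerSeries (Fin n) R.carrier) :
    (psCRing R n).res f = R.res (constantCoeff f) := rfl

end CRingPS

end Groth.Agent.Lib.PSCompleteH1
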