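import Groth.Agent.Lib.CohenLift2_helper3
import Groth.Agent.Lib.CohenRing_helper3
import Groth.Agent.Lib.PSComplete_helper1
import Groth.Agent.S0579

/-!
# Cohen structure theorem (quotient form)
-/

set_option autoImplicit false
set_option maxSynthPendingDepth 3

namespace Groth.Agent.Lib.CohenStructH3

universe u

open IsLocalRing EGA41 MvPowerSeries Groth.Agent.Lib.CohenLiftH3

/-- Hausdorffness passes to smaller ideals. -/
theorem isHausdorff_of_le {A : Type*} [CommRing A] (I J : Ideal A) (h : J ≤ I) [hI : IsHausdorff I A] :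
    IsHausdorff J A :=
  ⟨fun r hr => IsHausdorff.haus hI r
    (fun k => SModEq.mono (Submodule.smul_mono_left (Ideal.pow_right_mono h k)) (hr k))⟩

/-- Lifting the residue map of a Cohen ring to a complete local ring (no Noetherian hypothesis). -/
theorem exists_lift_residue {W C : Type u} [CommRing W] [IsLocalRing W]
    (hW : IsCohenRingEGA W) [CommRing C] [IsLocalRing C] [IsAdicComplete (maximalIdeal C) C]
    (u : W →+* C ⧸ maximalIdeal C) [IsLocalHom u] :
    ∃ v : W →+* C, (Ideal.Quotient.mk (maximalIdeal C)).comp v = u := by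
  classical
  obtain ⟨p, hp⟩ := CharP.exists (ResidueField W)
  haveI := hp
  letI := ulAlg W
  letI := ulAlg C
  have hfs := cohen_isFormallySmoothAdic hW p (maximalIdeal W)
  have hmk : (maximalIdeal C).map (Ideal.Quotient.mk (maximalIdeal C)) = ⊥ :=
    Ideal.map_quotient_self _
  have hpW : (p : W) ∈ maximalIdeal W := by
    rw [← residue_eq_zero_iff, map_natCast]
    exact CharP.cast_eq_zero _ p
  have hpC : (p : C) ∈ maximalIdeal C := by
    rw [mem_maximalIdeal, mem_nonunits_iff]
    intro hunit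
    have h1 : IsUnit (u (p : W)) := by
      rw [map_natCast, ← map_natCast (Ideal.Quotient.mk (maximalIdeal C))]
      exact hunit.map _
    exact (mem_nonunits_iff.1 ((mem_maximalIdeal _).1 hpW)) (isUnit_of_map_unit u _ h1)
  haveI : IsHausdorff ((maximalIdeal C).map (Ideal.Quotient.mk (maximalIdeal C)))
      (C ⧸ maximalIdeal C) := by
    rw [hmk]
    infer_instance
  have hAC : ∃ k : ℕ, ((Ideal.span {(p : ULift.{u} ℤ)}) ^ k).map
      (algebraMap (ULift.{u} ℤ) C) ≤ maximalIdeal C := by
    refine ⟨1, ?_⟩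
    rw [pow_one, Ideal.map_span, Set.image_singleton, Ideal.span_le, Set.singleton_subset_iff,
      map_natCast]
    exact hpC
  have hJ' : ∃ t : ℕ, maximalIdeal C ^ t ≤ maximalIdeal C := ⟨1, by rw [pow_one]⟩
  have hu : ∃ k : ℕ, ((maximalIdeal W) ^ k).map (toULAlgHom u).toRingHom ≤
      (maximalIdeal C).map (Ideal.Quotient.mk (maximalIdeal C)) := by
    refine ⟨1, ?_⟩
    rw [pow_one, hmk, Ideal.map_le_iff_le_comap]
    intro x hx
    rw [Ideal.mem_comap, Ideal.mem_bot]
    show u x = 0
    by_contra hne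
    obtain ⟨b, hb⟩ := ((Ideal.Quotient.maximal_ideal_iff_isField_quotient (maximalIdeal C)).1
      (maximalIdeal.isMaximal C)).mul_inv_cancel hne
    exact (mem_nonunits_iff.1 ((mem_maximalIdeal _).1 hx))
      (isUnit_of_map_unit u _ (isUnit_iff_exists_inv.2 ⟨b, hb⟩))
  obtain ⟨v, -, hv⟩ := Groth.Agent.S4542.result (Ideal.span {(p : ULift.{u} ℤ)})
    (maximalIdeal W) (maximalIdeal C) hfs hAC (maximalIdeal C) hJ' (toULAlgHom u) hu
  exact ⟨v.toRingHom, RingHom.ext fun x => AlgHom.congr_fun hv x⟩

section Surj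

variable {Λ R : Type u} [CommRing Λ] [IsLocalRing Λ] [IsAdicComplete (maximalIdeal Λ) Λ]
  [CommRing R] [IsLocalRing R] [IsAdicComplete (maximalIdeal R) R]

/-- A complete local ring with maximal ideal generated by `x_1, …, x_n` is a quotient of
`Λ[[T_1, …, T_n]]` as soon as `Λ → R` is local and surjective on residue fields. -/
theorem exists_surjective_mvPowerSeries (φ : Λ →+* R)
    (hφ : Function.Surjective ((residue R).comp φ))
    (hloc : ∀ a ∈ maximalIdeal Λ, φ a ∈ maximalIdeal R)
    (n : ℕ) (x : Fin n → R) (hx : Ideal.span (Set.range x) = maximalIdeal R) :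
    ∃ f : MvPowerSeries (Fin n) Λ →+* R, Function.Surjective f := by
  classical
  letI : Algebra Λ R := φ.toAlgebra
  have hxm : ∀ i, x i ∈ maximalIdeal R := fun i => hx ▸ Ideal.subset_span ⟨i, rfl⟩
  let a : ∀ k : ℕ, Fin n → R ⧸ maximalIdeal R ^ k := fun k i => Ideal.Quotient.mk _ (x i)
  have ha : ∀ k i, IsNilpotent (a k i) := fun k i =>
    ⟨k, by
      show (Ideal.Quotient.mk (maximalIdeal R ^ k) (x i)) ^ k = 0
      rw [← map_pow, Ideal.Quotient.eq_zero_iff_mem]
      exact Ideal.pow_mem_pow (hxm i) k⟩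
  let ε : ∀ k : ℕ, MvPowerSeries (Fin n) Λ →ₐ[Λ] R ⧸ maximalIdeal R ^ k := fun k =>
    Groth.Agent.Lib.PSEvalH1.evalNil (R := Λ) (a k) (ha k)
  have hεX : ∀ k i, ε k (X i) = a k i := fun k i =>
    Groth.Agent.Lib.PSEvalH1.evalNil_X (a k) (ha k) i
  have hcompat : ∀ {k l : ℕ} (hle : k ≤ l),
      (Ideal.Quotient.factorₐ Λ (Ideal.pow_le_pow_right hle)).comp (ε l) = ε k := by
    intro k l hle
    apply Groth.Agent.Lib.PSEvalH1.algHom_ext_of_nilpotent
    · intro i
      rw [AlgHom.comp_apply, hεX, hεX]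
      rfl
    · intro i
      rw [AlgHom.comp_apply, hεX]
      exact ha k i
  let f : MvPowerSeries (Fin n) Λ →ₐ[Λ] R :=
    IsAdicComplete.liftAlgHom (maximalIdeal R) ε hcompat
  have hfX : ∀ i, f (X i) = x i := by
    intro i
    rw [← sub_eq_zero]
    apply IsHausdorff.haus (inferInstance : IsHausdorff (maximalIdeal R) R)
    intro k
    rw [SModEq.zero, smul_eq_mul, Ideal.mul_top, ← Ideal.Quotient.eq,
      IsAdicComplete.mk_liftAlgHom, hεX]
  set I := maximalIdeal (MvPowerSeries (Fin n) Λ) with hI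
  have hXI : ∀ i, (X i : MvPowerSeries (Fin n) Λ) ∈ I := by
    intro i
    rw [hI, Groth.Agent.Lib.PSCompleteH1.mem_maximalIdeal_iff, constantCoeff_X]
    exact Ideal.zero_mem _
  have hge : maximalIdeal R ≤ I.map f.toRingHom := by
    rw [← hx, Ideal.span_le]
    rintro _ ⟨i, rfl⟩
    rw [← hfX i]
    exact Ideal.mem_map_of_mem _ (hXI i)
  have hle : I.map f.toRingHom ≤ maximalIdeal R := by
    rw [Ideal.map_le_iff_le_comap]
    intro g hg
    rw [Ideal.mem_comap]
    have hg0 : constantCoeff g ∈ maximalIdeal Λ :=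
      (Groth.Agent.Lib.PSCompleteH1.mem_maximalIdeal_iff g).1 hg
    have h1 : g - C (constantCoeff g) ∈
        Ideal.span ((fun i => (X i : MvPowerSeries (Fin n) Λ) ^ 1) ''
          ((Finset.univ : Finset (Fin n)) : Set (Fin n))) := by
      apply Groth.Agent.Lib.PSEvalH1.mem_span_X_pow_finset 1 Finset.univ
      intro d hd
      have hd0 : d = 0 := by
        ext i
        have := hd i (Finset.mem_univ i)
        simpa using Nat.lt_one_iff.1 this
      rw [hd0, coeff_zero_eq_constantCoeff_apply, map_sub, constantCoeff_C, sub_self]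
    have h2 : Ideal.span ((fun i => (X i : MvPowerSeries (Fin n) Λ) ^ 1) ''
          ((Finset.univ : Finset (Fin n)) : Set (Fin n))) ≤
        (maximalIdeal R).comap f.toRingHom := by
      rw [Ideal.span_le]
      rintro _ ⟨i, -, rfl⟩
      show f (X i ^ 1) ∈ maximalIdeal R
      rw [pow_one, hfX]
      exact hxm i
    have h3 : f (g - C (constantCoeff g)) ∈ maximalIdeal R := h2 h1
    have h4 : f (C (constantCoeff g)) ∈ maximalIdeal R := by
      rw [c_eq_algebraMap, AlgHom.commutes]
      exact hloc _ hg0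
    have h5 : f g = f (g - C (constantCoeff g)) + f (C (constantCoeff g)) := by
      rw [← map_add, sub_add_cancel]
    show f g ∈ maximalIdeal R
    rw [h5]
    exact Ideal.add_mem _ h3 h4
  haveI : IsHausdorff (I.map f.toRingHom) R := isHausdorff_of_le (maximalIdeal R) _ hle
  haveI : IsAdicComplete I (MvPowerSeries (Fin n) Λ) :=
    Groth.Agent.Lib.PSCompleteH1.isAdicComplete_maximalIdeal
  refine ⟨f.toRingHom, surjective_of_mk_map_comp_surjective (I := I) f.toRingHom ?_⟩
  intro y
  obtain ⟨r, rfl⟩ := Ideal.Quotient.mk_surjective y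
  obtain ⟨l, hl⟩ := hφ (residue R r)
  refine ⟨C l, ?_⟩
  rw [RingHom.comp_apply, Ideal.Quotient.eq]
  apply hge
  rw [← residue_eq_zero_iff, map_sub]
  have h6 : f.toRingHom (C l) = φ l := by
    show f (C l) = φ l
    rw [c_eq_algebraMap, AlgHom.commutes]
    rfl
  rw [h6, sub_eq_zero]
  exact hl

end Surj

/-- **Cohen structure theorem**, quotient form. -/
theorem exists_surjective_of_complete (R : Type u) [CommRing R] [IsLocalRing R]
    [IsAdicComplete (maximalIdeal R) R] (hfg : (maximalIdeal R).FG) :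
    ∃ (Λ : Type u) (_ : CommRing Λ) (n : ℕ) (f : MvPowerSeries (Fin n) Λ →+* R),
      (IsField Λ ∨ CAlg.IsCohenRing Λ) ∧ Function.Surjective f := by
  classical
  obtain ⟨n, x, hx⟩ := Submodule.fg_iff_exists_fin_generating_family.1 hfg
  obtain ⟨p, hp⟩ := CharP.exists (ResidueField R)
  rcases CharP.char_is_prime_or_zero (ResidueField R) p with hpp | rfl
  · -- residue characteristic `p > 0`
    haveI : Fact p.Prime := ⟨hpp⟩
    obtain ⟨W, _, _, hW, ⟨e⟩⟩ := Groth.Agent.Lib.CohenRingH3.exists_cohenRing p (ResidueField R)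
    obtain ⟨hdom, hdvr, hcomp, -⟩ := id hW
    haveI : IsAdicComplete (maximalIdeal W) W := hcomp
    let u : W →+* R ⧸ maximalIdeal R := (e : ResidueField W →+* ResidueField R).comp (residue W)
    haveI : IsLocalHom u := ⟨fun a ha => by
      by_contra hna
      have h1 : residue W a = 0 := (residue_eq_zero_iff a).2 ((mem_maximalIdeal a).2 hna)
      have h2 : u a = 0 := by
        show e (residue W a) = 0
        rw [h1, map_zero]
      rw [h2] at ha
      haveI : Nontrivial (R ⧸ maximalIdeal R) :=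
        Ideal.Quotient.nontrivial_iff.2 (maximalIdeal.isMaximal R).ne_top
      exact not_isUnit_zero ha⟩
    obtain ⟨v, hv⟩ := exists_lift_residue (Or.inr hW) u
    have hvu : ∀ a, residue R (v a) = e (residue W a) := fun a => RingHom.congr_fun hv a
    obtain ⟨f, hf⟩ := exists_surjective_mvPowerSeries v
      (fun y => by
        obtain ⟨z, hz⟩ := e.surjective y
        obtain ⟨a, rfl⟩ := residue_surjective z
        exact ⟨a, (hvu a).trans hz⟩)
      (fun a ha => by
        rw [← residue_eq_zero_iff, hvu, (residue_eq_zero_iff a).2 ha, map_zero])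
      n x hx
    exact ⟨W, inferInstance, n, f, Or.inr hW, hf⟩
  · -- residue characteristic zero
    haveI : CharZero (ResidueField R) := CharP.charP_to_charZero _
    obtain ⟨s, hs⟩ := Groth.Agent.S0579.result R
    haveI : IsAdicComplete (maximalIdeal (ResidueField R)) (ResidueField R) := by
      rw [IsLocalRing.maximalIdeal_eq_bot]
      infer_instance
    obtain ⟨f, hf⟩ := exists_surjective_mvPowerSeries s
      (fun y => ⟨y, RingHom.congr_fun hs y⟩)
      (fun a ha => by
        rw [IsLocalRing.maximalIdeal_eq_bot, Ideal.mem_bot] at ha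
        rw [ha, map_zero]
        exact Ideal.zero_mem _)
      n x hx
    exact ⟨ResidueField R, inferInstance, n, f, Or.inl (Field.toIsField _), hf⟩

end Groth.Agent.Lib.CohenStructH3
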