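import Mathlib
import Groth.Agent.Lib.Regular3_helper5

/-!
# Regular local rings IV (helper5): embedding dimension estimates
-/

set_option autoImplicit false
universe u

namespace Groth.Agent.RegularLib

open IsLocalRing

theorem ringKrullDim_quotient_eq_coheight {A : Type u} [CommRing A] (p : Ideal A)
    [hp : p.IsPrime] :
    ringKrullDim (A ⧸ p) = ((Order.coheight (⟨p, hp⟩ : PrimeSpectrum A) : ℕ∞) : WithBot ℕ∞) := by
  rw [ringKrullDim_quotient, Order.coheight_eq_krullDim_Ici]
  have h1 : PrimeSpectrum.zeroLocus (p : Set A) = Set.Ici (⟨p, hp⟩ : PrimeSpectrum A) := by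
    ext y
    rw [PrimeSpectrum.mem_zeroLocus, SetLike.coe_subset_coe, Set.mem_Ici]
    rfl
  rw [h1]

theorem height_add_ringKrullDim_quotient_le {A : Type u} [CommRing A] (p : Ideal A)
    [hp : p.IsPrime] :
    (p.height : WithBot ℕ∞) + ringKrullDim (A ⧸ p) ≤ ringKrullDim A := by
  rw [ringKrullDim_quotient_eq_coheight p,
    show p.height = Order.height (⟨p, hp⟩ : PrimeSpectrum A) from
      PrimeSpectrum.height_eq_orderHeight ⟨p, hp⟩]
  haveI : Nonempty (PrimeSpectrum A) := ⟨⟨p, hp⟩⟩
  rw [ringKrullDim, Order.krullDim_eq_iSup_height_add_coheight_of_nonempty, ← WithBot.coe_add,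
    WithBot.coe_le_coe]
  exact le_iSup (fun a : PrimeSpectrum A => Order.height a + Order.coheight a) ⟨p, hp⟩

/-- `embdim A ≤ μ(J) + embdim (A/J)`. -/
theorem spanFinrank_maximalIdeal_le_add (A : Type u) [CommRing A] [IsLocalRing A]
    [IsNoetherianRing A] (J : Ideal A) [IsLocalRing (A ⧸ J)] :
    (maximalIdeal A).spanFinrank ≤ J.spanFinrank + (maximalIdeal (A ⧸ J)).spanFinrank := by
  classical
  obtain ⟨s, hscard, hsspan⟩ := Submodule.FG.exists_span_finset_card_eq_spanFinrank
    (IsNoetherian.noetherian (maximalIdeal (A ⧸ J)))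
  obtain ⟨sJ, hJcard, hJspan⟩ := Submodule.FG.exists_span_finset_card_eq_spanFinrank
    (IsNoetherian.noetherian J)
  have surj : Function.Surjective (Ideal.Quotient.mk J) := Ideal.Quotient.mk_surjective
  obtain ⟨l, hl⟩ := List.map_surjective_iff.mpr surj s.toList
  have hJm : J ≤ maximalIdeal A := IsLocalRing.le_maximalIdeal (ne_top_of_isLocalRing_quotient J)
  have h1 : J ⊔ Ideal.ofList l = maximalIdeal A :=
    sup_ofList_eq _ _ hJm l (by
      rw [hl, IsLocalRing.map_maximalIdeal_of_surjective _ surj, ofList_toList]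
      exact hsspan)
  have h2 : Ideal.ofList (sJ.toList ++ l) = maximalIdeal A := by
    rw [Ideal.ofList_append, ofList_toList]
    change Submodule.span A (sJ : Set A) ⊔ _ = _
    rw [hJspan]
    exact h1
  have hlen : l.length = s.card := by rw [← Finset.length_toList, ← hl, List.length_map]
  calc (maximalIdeal A).spanFinrank = (Ideal.ofList (sJ.toList ++ l)).spanFinrank := by rw [h2]
    _ ≤ (sJ.toList ++ l).length := spanFinrank_ofList_le _
    _ = _ := by rw [List.length_append, Finset.length_toList, hlen, hJcard, hscard]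

/-- If `A/p` is regular and `p` is generated by `ht p` elements, then `A` is regular. -/
theorem of_quotient_prime_regular (A : Type u) [CommRing A] [IsLocalRing A] [IsNoetherianRing A]
    (p : Ideal A) [p.IsPrime] [IsRegularLocalRing (A ⧸ p)]
    (hgen : (Submodule.spanFinrank p : ℕ∞) = p.height) : IsRegularLocalRing A := by
  apply IsRegularLocalRing.of_spanFinrank_maximalIdeal_le
  have h1 := spanFinrank_maximalIdeal_le_add A p
  have h2 := height_add_ringKrullDim_quotient_le p
  rw [← hgen, ← spanFinrank_eq_dim (A ⧸ p)] at h2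
  refine le_trans ?_ h2
  exact_mod_cast h1

/-- For a regular quotient `R/I` of a regular local ring, `μ(I) + dim R/I ≤ dim R`. -/
theorem spanFinrank_add_le (R : Type u) [CommRing R] [IsRegularLocalRing R] (I : Ideal R)
    [IsRegularLocalRing (R ⧸ I)] :
    I.spanFinrank + (maximalIdeal (R ⧸ I)).spanFinrank ≤ (maximalIdeal R).spanFinrank := by
  obtain ⟨l₁, l₂, hlen, hm, hI⟩ := exists_lists R I
  have h1 : I.spanFinrank ≤ l₁.length := by rw [← hI]; exact spanFinrank_ofList_le l₁
  have surj : Function.Surjective (Ideal.Quotient.mk I) := Ideal.Quotient.mk_surjective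
  have h2 : (maximalIdeal (R ⧸ I)).spanFinrank ≤ l₂.length := by
    have : maximalIdeal (R ⧸ I) = Ideal.ofList (l₂.map (Ideal.Quotient.mk I)) := by
      rw [← IsLocalRing.map_maximalIdeal_of_surjective _ surj, ← hm, Ideal.ofList_append,
        Ideal.map_sup, hI, Ideal.map_quotient_self, bot_sup_eq, Ideal.map_ofList]
    rw [this]
    exact (spanFinrank_ofList_le _).trans (by simp)
  omega


theorem spanFinrank_sup_le {A : Type u} [CommRing A] [IsNoetherianRing A] (I J : Ideal A) :
    (I ⊔ J).spanFinrank ≤ I.spanFinrank + J.spanFinrank := by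
  classical
  obtain ⟨sI, hIcard, hIspan⟩ := Submodule.FG.exists_span_finset_card_eq_spanFinrank
    (IsNoetherian.noetherian I)
  obtain ⟨sJ, hJcard, hJspan⟩ := Submodule.FG.exists_span_finset_card_eq_spanFinrank
    (IsNoetherian.noetherian J)
  have h : I ⊔ J = Submodule.span A ((sI ∪ sJ : Finset A) : Set A) := by
    rw [Finset.coe_union, Submodule.span_union, hIspan, hJspan]
  rw [h]
  calc _ ≤ ((sI ∪ sJ : Finset A) : Set A).ncard :=
        Submodule.spanFinrank_span_le_ncard_of_finite (Finset.finite_toSet _)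
    _ = (sI ∪ sJ).card := Set.ncard_coe_finset _
    _ ≤ sI.card + sJ.card := Finset.card_union_le _ _
    _ = _ := by rw [hIcard, hJcard]

/-- Transversal intersection of two regular quotients. -/
theorem transversal (R : Type u) [CommRing R] [IsRegularLocalRing R]
    (I J : Ideal R) [IsRegularLocalRing (R ⧸ I)] [IsRegularLocalRing (R ⧸ J)]
    [IsLocalRing (R ⧸ (I ⊔ J))]
    (h : (maximalIdeal (R ⧸ (I ⊔ J))).spanFinrank + (maximalIdeal R).spanFinrank =
      (maximalIdeal (R ⧸ I)).spanFinrank + (maximalIdeal (R ⧸ J)).spanFinrank) :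
    IsRegularLocalRing (R ⧸ (I ⊔ J)) := by
  have hI := spanFinrank_add_le R I
  have hJ := spanFinrank_add_le R J
  have hsup := spanFinrank_sup_le I J
  have hjac : I ⊔ J ≤ Ring.jacobson R := by
    rw [IsLocalRing.ringJacobson_eq_maximalIdeal]
    exact IsLocalRing.le_maximalIdeal (ne_top_of_isLocalRing_quotient _)
  have hdim := ringKrullDim_le_ringKrullDim_quotient_add_spanFinrank (I ⊔ J) hjac
  have hle := ringKrullDim_le_spanFinrank_maximalIdeal (R ⧸ (I ⊔ J))
  obtain ⟨k, hk, hke⟩ := exists_nat_eq_of_le ringKrullDim_nonneg_of_nontrivial hle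
  rw [hk, ← spanFinrank_eq_dim R] at hdim
  have hdim' : (maximalIdeal R).spanFinrank ≤ k + (I ⊔ J).spanFinrank := by exact_mod_cast hdim
  apply IsRegularLocalRing.of_spanFinrank_maximalIdeal_le
  rw [hk]
  have : (maximalIdeal (R ⧸ (I ⊔ J))).spanFinrank ≤ k := by omega
  exact_mod_cast this

end Groth.Agent.RegularLib
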