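import Mathlib
import Groth.Agent.Lib.Regular4_helper5
import Groth.Agent.Lib.CompleteNoeth_lead

/-!
# Adic completions of Noetherian local rings: dimension and regularity (helper5)
-/

set_option autoImplicit false
universe u

namespace Groth.Agent.RegularLib

open IsLocalRing

/-- From a finite generating family of the maximal ideal one can extract a minimal one. -/
theorem exists_finset_span_eq (B : Type u) [CommRing B] [IsLocalRing B] [IsNoetherianRing B]
    {ι : Type u} [Finite ι] (f : ι → B)
    (hf : Ideal.span (Set.range f) = maximalIdeal B) :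
    ∃ t : Finset ι, t.card ≤ (maximalIdeal B).spanFinrank ∧
      Ideal.span (f '' (t : Set ι)) = maximalIdeal B := by
  classical
  have hfm : ∀ i, f i ∈ maximalIdeal B := fun i => by
    rw [← hf]; exact Ideal.subset_span ⟨i, rfl⟩
  let g : ι → maximalIdeal B := fun i => ⟨f i, hfm i⟩
  let v : ι → CotangentSpace B := fun i => (maximalIdeal B).toCotangent (g i)
  obtain ⟨b, -, -, hb2, hb3⟩ := exists_linearIndepOn_extension (K := ResidueField B) (v := v)
    (s := ∅) (t := Set.univ) (linearIndepOn_empty _ _) (Set.empty_subset _)
  have hsub : ∀ S : Set ι, Submodule.map (maximalIdeal B).subtype (Submodule.span B (g '' S)) =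
      Ideal.span (f '' S) := by
    intro S
    rw [Submodule.map_span, Set.image_image]
    rfl
  have hg : Submodule.span B (g '' Set.univ) = ⊤ := by
    apply Submodule.map_injective_of_injective (maximalIdeal B).injective_subtype
    rw [hsub, Submodule.map_top, Submodule.range_subtype, Set.image_univ]
    exact hf
  have hv : Submodule.span (ResidueField B) (v '' Set.univ) = ⊤ := by
    have := (CotangentSpace.span_image_eq_top_iff (s := g '' Set.univ)).mpr hg
    rwa [Set.image_image] at this
  have hvb : Submodule.span (ResidueField B) (v '' b) = ⊤ := by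
    rw [eq_top_iff, ← hv, Submodule.span_le]
    exact hb2
  have hgb : Submodule.span B (g '' b) = ⊤ := by
    apply (CotangentSpace.span_image_eq_top_iff (s := g '' b)).mp
    rwa [Set.image_image]
  haveI : Fintype b := Fintype.ofFinite b
  have hcard : Fintype.card b ≤ Module.finrank (ResidueField B) (CotangentSpace B) :=
    LinearIndependent.fintype_card_le_finrank hb3
  refine ⟨b.toFinset, ?_, ?_⟩
  · rw [Set.toFinset_card, spanFinrank_maximalIdeal_eq_finrank_cotangentSpace]
    exact hcard
  · rw [Set.coe_toFinset, ← hsub, hgb, Submodule.map_top, Submodule.range_subtype]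

/-- Embedding dimension descends along faithfully flat local maps with `m_A B = m_B`. -/
theorem spanFinrank_le_of_faithfullyFlat (A B : Type u) [CommRing A] [CommRing B] [IsLocalRing A]
    [IsNoetherianRing A] [IsLocalRing B] [IsNoetherianRing B] [Algebra A B]
    [Module.FaithfullyFlat A B]
    (h : (maximalIdeal A).map (algebraMap A B) = maximalIdeal B) :
    (maximalIdeal A).spanFinrank ≤ (maximalIdeal B).spanFinrank := by
  classical
  obtain ⟨s, hscard, hsspan⟩ := Submodule.FG.exists_span_finset_card_eq_spanFinrank
    (IsNoetherian.noetherian (maximalIdeal A))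
  let f : s → B := fun i => algebraMap A B i
  have hf : Ideal.span (Set.range f) = maximalIdeal B := by
    rw [← h]
    have : maximalIdeal A = Ideal.span (s : Set A) := hsspan.symm
    rw [this, Ideal.map_span]
    congr 1
    ext y
    simp [f]
  obtain ⟨t, htcard, htspan⟩ := exists_finset_span_eq B f hf
  have hJ : (Ideal.span ((fun i : s => (i : A)) '' (t : Set s))).map (algebraMap A B) =
      (maximalIdeal A).map (algebraMap A B) := by
    rw [h, ← htspan, Ideal.map_span, Set.image_image]
  have hJm : Ideal.span ((fun i : s => (i : A)) '' (t : Set s)) = maximalIdeal A := by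
    rw [← Ideal.comap_map_eq_self_of_faithfullyFlat (B := B)
      (Ideal.span ((fun i : s => (i : A)) '' (t : Set s))), hJ,
      Ideal.comap_map_eq_self_of_faithfullyFlat]
  calc (maximalIdeal A).spanFinrank
      = (Ideal.span ((fun i : s => (i : A)) '' (t : Set s))).spanFinrank := by rw [hJm]
    _ ≤ ((fun i : s => (i : A)) '' (t : Set s)).ncard :=
        Submodule.spanFinrank_span_le_ncard_of_finite (t.finite_toSet.image _)
    _ ≤ (t : Set s).ncard := Set.ncard_image_le t.finite_toSet
    _ = t.card := Set.ncard_coe_finset t
    _ ≤ _ := htcard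

section completion
variable (A : Type u) [CommRing A] [IsLocalRing A] [IsNoetherianRing A] (I : Ideal A)

theorem isLocalHom_evalOne :
    IsLocalHom (AdicCompletion.evalOneₐ I).toRingHom := by
  have fg : I.FG := IsNoetherian.noetherian I
  haveI := AdicCompletion.isAdicComplete_self I fg
  have hjac : I.map (algebraMap A (AdicCompletion I A)) ≤ Ideal.jacobson ⊥ :=
    IsAdicComplete.le_jacobson_bot _
  constructor
  intro a ha
  obtain ⟨c, hc⟩ := ha.exists_right_inv
  obtain ⟨b, rfl⟩ := AdicCompletion.evalOneₐ_surjective I c
  have hker : a * b - 1 ∈ RingHom.ker (AdicCompletion.evalOneₐ I).toRingHom := by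
    rw [RingHom.mem_ker, map_sub, map_mul, map_one]
    exact sub_eq_zero.mpr hc
  rw [AdicCompletion.ker_evalOneₐ_eq_map I fg] at hker
  have hu : IsUnit (a * b) := Ideal.isUnit_of_sub_one_mem_jacobson_bot _ (hjac hker)
  exact isUnit_of_mul_isUnit_left hu

theorem isLocalRing_adicCompletion (hI : I ≠ ⊤) : IsLocalRing (AdicCompletion I A) := by
  haveI : IsLocalRing (A ⧸ I) := isLocalRing_quotient I hI
  haveI := isLocalHom_evalOne A I
  exact RingHom.domain_isLocalRing (AdicCompletion.evalOneₐ I).toRingHom

theorem isNoetherianRing_adicCompletion : IsNoetherianRing (AdicCompletion I A) := by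
  have fg : I.FG := IsNoetherian.noetherian I
  haveI := AdicCompletion.isAdicComplete_self I fg
  obtain ⟨n, x, hx⟩ := Submodule.fg_iff_exists_fin_generating_family.mp fg
  have e : (AdicCompletion I A ⧸ I.map (algebraMap A (AdicCompletion I A))) ≃+* (A ⧸ I) :=
    (Ideal.quotEquivOfEq (AdicCompletion.ker_evalOneₐ_eq_map I fg).symm).trans
      (RingHom.quotientKerEquivOfSurjective
        (f := (AdicCompletion.evalOneₐ I).toRingHom) (AdicCompletion.evalOneₐ_surjective I))
  haveI : IsNoetherianRing
      (AdicCompletion I A ⧸ I.map (algebraMap A (AdicCompletion I A))) :=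
    isNoetherianRing_of_ringEquiv _ e.symm
  have hspan : I.map (algebraMap A (AdicCompletion I A)) =
      Ideal.span (Set.range (fun i => algebraMap A (AdicCompletion I A) (x i))) := by
    have key : ∀ K : Ideal A, K = Ideal.span (Set.range x) →
        K.map (algebraMap A (AdicCompletion I A)) =
          Ideal.span (Set.range (fun i => algebraMap A (AdicCompletion I A) (x i))) := by
      rintro K rfl
      rw [Ideal.map_span, ← Set.range_comp]
      rfl
    exact key I hx.symm
  refine Groth.Agent.Lib.CompleteNoethLead.isNoetherianRing_of_isAdicComplete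
    (I.map (algebraMap A (AdicCompletion I A)))
    (fun i => algebraMap A (AdicCompletion I A) (x i)) ?_ ?_
  · intro i
    apply Ideal.mem_map_of_mem
    rw [← hx]
    exact Submodule.subset_span ⟨i, rfl⟩
  · rw [← hspan]
    exact le_sup_left

theorem map_maximalIdeal_adicCompletion (hI : I ≠ ⊤)
    [IsLocalRing (AdicCompletion I A)] :
    (maximalIdeal A).map (algebraMap A (AdicCompletion I A)) =
      maximalIdeal (AdicCompletion I A) :=
  IsLocalRing.eq_maximalIdeal
    (AdicCompletion.isMaximal_map_of_le I (maximalIdeal A) (IsLocalRing.le_maximalIdeal hI)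
      (IsNoetherian.noetherian I))

theorem isLocalHom_adicCompletion (hI : I ≠ ⊤) [IsLocalRing (AdicCompletion I A)] :
    IsLocalHom (algebraMap A (AdicCompletion I A)) :=
  ((IsLocalRing.local_hom_TFAE (algebraMap A (AdicCompletion I A))).out 0 2).mpr
    (map_maximalIdeal_adicCompletion A I hI).le

theorem ringKrullDim_adicCompletion (hI : I ≠ ⊤) :
    ringKrullDim (AdicCompletion I A) = ringKrullDim A := by
  haveI := isLocalRing_adicCompletion A I hI
  haveI := isNoetherianRing_adicCompletion A I
  haveI := isLocalHom_adicCompletion A I hI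
  have hmap := map_maximalIdeal_adicCompletion A I hI
  haveI : (maximalIdeal (AdicCompletion I A)).LiesOver (maximalIdeal A) :=
    ⟨(IsLocalRing.maximalIdeal_comap (algebraMap A (AdicCompletion I A))).symm⟩
  have h1 := Ideal.height_eq_height_add_of_liesOver_of_hasGoingDown (maximalIdeal A)
    (maximalIdeal (AdicCompletion I A))
  have h2 : (maximalIdeal (AdicCompletion I A)).map
      (Ideal.Quotient.mk ((maximalIdeal A).map (algebraMap A (AdicCompletion I A)))) = ⊥ :=
    Ideal.map_mk_eq_bot_of_le hmap.ge
  haveI : Nontrivial (AdicCompletion I A ⧸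
      (maximalIdeal A).map (algebraMap A (AdicCompletion I A))) :=
    Ideal.Quotient.nontrivial_iff.mpr (by rw [hmap]; exact Ideal.IsPrime.ne_top')
  rw [h2, Ideal.height_bot, add_zero] at h1
  rw [← IsLocalRing.maximalIdeal_height_eq_ringKrullDim,
    ← IsLocalRing.maximalIdeal_height_eq_ringKrullDim, h1]

theorem spanFinrank_adicCompletion (hI : I ≠ ⊤) [IsLocalRing (AdicCompletion I A)]
    [IsNoetherianRing (AdicCompletion I A)] :
    (maximalIdeal (AdicCompletion I A)).spanFinrank = (maximalIdeal A).spanFinrank := by
  have hmap := map_maximalIdeal_adicCompletion A I hI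
  haveI := isLocalHom_adicCompletion A I hI
  haveI : Module.FaithfullyFlat A (AdicCompletion I A) :=
    Module.FaithfullyFlat.of_flat_of_isLocalHom
  apply le_antisymm
  · rw [← hmap]
    exact Ideal.spanFinrank_map_le_of_fg _ (IsNoetherian.noetherian _)
  · exact spanFinrank_le_of_faithfullyFlat A (AdicCompletion I A) hmap

theorem isRegularLocalRing_adicCompletion_iff (hI : I ≠ ⊤) :
    IsRegularLocalRing A ↔ IsRegularLocalRing (AdicCompletion I A) := by
  haveI := isLocalRing_adicCompletion A I hI
  haveI := isNoetherianRing_adicCompletion A I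
  rw [isRegularLocalRing_iff, isRegularLocalRing_iff, ringKrullDim_adicCompletion A I hI,
    spanFinrank_adicCompletion A I hI]

end completion

end Groth.Agent.RegularLib
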