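import Mathlib
import Groth.Prelude.Def_Found

/-! In a Noetherian catenary domain, `ht P = ht Q + ht (P/Q)` for primes `Q ≤ P`. -/

universe u

namespace Groth.Agent.CatHtH8

/-- A chain of maximal length ending at `x` starts at `⊥` and is saturated. -/
theorem exists_saturated_of_height {α : Type*} [PartialOrder α] [OrderBot α] (x : α) (n : ℕ)
    (hn : Order.height x = n) :
    ∃ s : LTSeries α, s.last = x ∧ s.head = ⊥ ∧ s.length = n ∧
      ∀ i : Fin s.length, s i.castSucc ⋖ s i.succ := by
  obtain ⟨s, hsl, hsn⟩ := Order.exists_series_of_height_eq_coe x hn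
  have hlen : (s.length : ℕ∞) = Order.height s.last := by rw [hsl, hn, hsn]
  have hidx := Order.height_eq_index_of_length_eq_height_last hlen
  refine ⟨s, hsl, ?_, hsn, ?_⟩
  · have h0 : Order.height s.head = 0 := by
      have := hidx 0
      simpa [RelSeries.head] using this
    exact isMin_iff_eq_bot.mp (Order.height_eq_zero.mp h0)
  · intro i
    refine ⟨s.step i, ?_⟩
    intro z hz1 hz2
    have h1 := Order.height_add_one_le hz1
    have h2 := Order.height_add_one_le hz2
    rw [hidx i.castSucc] at h1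
    rw [hidx i.succ] at h2
    have h3 : ((i.castSucc : Fin (s.length + 1)) : ℕ∞) + 1 + 1 ≤ ((i.succ : Fin (s.length + 1)) : ℕ∞) := by
      calc ((i.castSucc : Fin (s.length + 1)) : ℕ∞) + 1 + 1 ≤ Order.height z + 1 := by gcongr
        _ ≤ _ := h2
    simp only [Fin.val_castSucc, Fin.val_succ] at h3
    have h4 : (i : ℕ) + 1 + 1 ≤ (i : ℕ) + 1 := by exact_mod_cast h3
    omega

theorem saturated_snoc {α : Type*} [Preorder α] (t : LTSeries α) (x : α) (hx : t.last < x)
    (hxc : t.last ⋖ x) (ht : ∀ i : Fin t.length, t i.castSucc ⋖ t i.succ) :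
    ∀ i : Fin (t.snoc x hx).length, (t.snoc x hx) i.castSucc ⋖ (t.snoc x hx) i.succ := by
  intro i
  have hlen : (t.snoc x hx).length = t.length + 1 := by simp
  obtain ⟨iv, hiv⟩ := i
  by_cases hlt : iv < t.length
  · have e1 : (t.snoc x hx) (Fin.castSucc ⟨iv, hiv⟩) = t ⟨iv, by omega⟩ := by
      have := RelSeries.snoc_castSucc t x hx ⟨iv, by omega⟩
      rw [← this]
      congr 1
    have e2 : (t.snoc x hx) (Fin.succ ⟨iv, hiv⟩) = t ⟨iv + 1, by omega⟩ := by
      have := RelSeries.snoc_castSucc t x hx ⟨iv + 1, by omega⟩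
      rw [← this]
      congr 1
    rw [e1, e2]
    exact ht ⟨iv, hlt⟩
  · have hiv' : iv = t.length := by omega
    subst hiv'
    have e1 : (t.snoc x hx) (Fin.castSucc ⟨t.length, hiv⟩) = t.last := by
      have := RelSeries.snoc_castSucc t x hx (Fin.last _)
      rw [RelSeries.last, ← this]
      congr 1
    have e2 : (t.snoc x hx) (Fin.succ ⟨t.length, hiv⟩) = x := by
      have := RelSeries.last_snoc t x hx
      refine Eq.trans ?_ this
      rw [RelSeries.last]
      congr 1
    rw [e1, e2]
    exact hxc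


variable {A : Type u} [CommRing A]

theorem height_eq_of_covBy [IsDomain A] (hcat : CAlg.IsCatenary A) (x y : PrimeSpectrum A)
    (hxy : x ⋖ y) (hfin : Order.height y < ⊤) :
    Order.height y = Order.height x + 1 := by
  obtain ⟨k, hk⟩ := ENat.ne_top_iff_exists.mp hfin.ne
  have hxfin : Order.height x < ⊤ := lt_of_le_of_lt (Order.height_mono hxy.lt.le) hfin
  obtain ⟨n, hn⟩ := ENat.ne_top_iff_exists.mp hxfin.ne
  obtain ⟨s, hsl, hsh, hsn, hss⟩ := exists_saturated_of_height x n hn.symm
  obtain ⟨t, htl, hth, htn, hts⟩ := exists_saturated_of_height y k hk.symm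
  have hlt : s.last < y := by rw [hsl]; exact hxy.lt
  have hcv : s.last ⋖ y := by rw [hsl]; exact hxy
  have h1 : (s.snoc y hlt).length = t.length := by
    apply hcat.2 (s.snoc y hlt) t
    · rw [RelSeries.head_snoc, hsh, hth]
    · rw [RelSeries.last_snoc, htl]
    · exact saturated_snoc s y hlt hcv hss
    · exact hts
  rw [← hn, ← hk]
  have : n + 1 = k := by
    have h2 : (s.snoc y hlt).length = s.length + 1 := by simp
    omega
  exact_mod_cast this.symm

theorem height_last_eq_of_saturated [IsDomain A] (hcat : CAlg.IsCatenary A)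
    (s : LTSeries (PrimeSpectrum A)) (hs : ∀ i : Fin s.length, s i.castSucc ⋖ s i.succ)
    (hfin : Order.height s.last < ⊤) :
    Order.height s.last = Order.height s.head + s.length := by
  have key : ∀ i : Fin (s.length + 1), Order.height (s i) = Order.height s.head + (i : ℕ) := by
    intro i
    induction i using Fin.induction with
    | zero => simp [RelSeries.head]
    | succ i ih =>
      have hfin' : Order.height (s i.succ) < ⊤ :=
        lt_of_le_of_lt (Order.height_mono (s.monotone (Fin.le_last _))) hfin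
      rw [height_eq_of_covBy hcat _ _ (hs i) hfin', ih]
      simp only [Fin.val_castSucc, Fin.val_succ, Nat.cast_add, Nat.cast_one]
      rw [add_assoc]
  have := key (Fin.last _)
  simpa [RelSeries.last] using this

/-- A saturated chain from `Q` to `P` of length `ht (P/Q)`. -/
theorem exists_saturated_between [IsNoetherianRing A] (Q P : Ideal A) [hQ : Q.IsPrime]
    [hP : P.IsPrime] (hQP : Q ≤ P) :
    ∃ (k : ℕ) (s : LTSeries (PrimeSpectrum A)), (P.map (Ideal.Quotient.mk Q)).height = k ∧
      s.head = ⟨Q, hQ⟩ ∧ s.last = ⟨P, hP⟩ ∧ s.length = k ∧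
      ∀ i : Fin s.length, s i.castSucc ⋖ s i.succ := by
  have hker : RingHom.ker (Ideal.Quotient.mk Q) ≤ P := by rwa [Ideal.mk_ker]
  haveI hP' : (P.map (Ideal.Quotient.mk Q)).IsPrime :=
    Ideal.map_isPrime_of_surjective Ideal.Quotient.mk_surjective hker
  obtain ⟨k, hk⟩ := ENat.ne_top_iff_exists.mp
    (Ideal.height_ne_top_of_isPrime (I := P.map (Ideal.Quotient.mk Q)))
  have hk' : Order.height (⟨P.map (Ideal.Quotient.mk Q), hP'⟩ : PrimeSpectrum (A ⧸ Q)) = k := by
    rw [← PrimeSpectrum.height_eq_orderHeight, ← hk]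
  obtain ⟨s', hsl, hsh, hsn, hss⟩ := exists_saturated_of_height _ k hk'
  let c : PrimeSpectrum (A ⧸ Q) → PrimeSpectrum A := PrimeSpectrum.comap (Ideal.Quotient.mk Q)
  have hc : StrictMono c := RingHom.strictMono_comap_of_surjective Ideal.Quotient.mk_surjective
  have hcle : ∀ a b : PrimeSpectrum (A ⧸ Q), c a ≤ c b ↔ a ≤ b := by
    intro a b
    exact Ideal.comap_le_comap_iff_of_surjective _ Ideal.Quotient.mk_surjective _ _
  refine ⟨k, s'.map c hc, hk.symm, ?_, ?_, by simpa using hsn, ?_⟩
  · rw [LTSeries.head_map, hsh]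
    apply PrimeSpectrum.ext
    change Ideal.comap (Ideal.Quotient.mk Q) ⊥ = Q
    rw [← RingHom.ker_eq_comap_bot, Ideal.mk_ker]
  · rw [LTSeries.last_map, hsl]
    apply PrimeSpectrum.ext
    change Ideal.comap (Ideal.Quotient.mk Q) (P.map (Ideal.Quotient.mk Q)) = P
    rw [Ideal.comap_map_of_surjective _ Ideal.Quotient.mk_surjective, ← RingHom.ker_eq_comap_bot]
    exact sup_eq_left.mpr hker
  · intro i
    have hi : (s'.map c hc).length = s'.length := by simp
    let i' : Fin s'.length := ⟨i.1, by have := i.2; omega⟩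
    have e1 : (s'.map c hc) i.castSucc = c (s' i'.castSucc) := rfl
    have e2 : (s'.map c hc) i.succ = c (s' i'.succ) := rfl
    rw [e1, e2]
    have hcov := hss i'
    refine ⟨hc hcov.lt, ?_⟩
    intro z hz1 hz2
    have hQz : RingHom.ker (Ideal.Quotient.mk Q) ≤ z.asIdeal := by
      rw [Ideal.mk_ker]
      have h1 : Q ≤ (c (s' i'.castSucc)).asIdeal := by
        change Q ≤ Ideal.comap (Ideal.Quotient.mk Q) _
        intro a ha
        rw [Ideal.mem_comap, Ideal.Quotient.eq_zero_iff_mem.mpr ha]
        exact Ideal.zero_mem _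
      exact h1.trans hz1.le
    let z' : PrimeSpectrum (A ⧸ Q) := ⟨z.asIdeal.map (Ideal.Quotient.mk Q),
      Ideal.map_isPrime_of_surjective Ideal.Quotient.mk_surjective hQz⟩
    have hz' : c z' = z := by
      apply PrimeSpectrum.ext
      change Ideal.comap (Ideal.Quotient.mk Q) (z.asIdeal.map (Ideal.Quotient.mk Q)) = z.asIdeal
      rw [Ideal.comap_map_of_surjective _ Ideal.Quotient.mk_surjective,
        ← RingHom.ker_eq_comap_bot]
      exact sup_eq_left.mpr hQz
    rw [← hz'] at hz1 hz2
    have h1 : s' i'.castSucc < z' := by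
      rw [lt_iff_le_not_ge] at hz1 ⊢
      exact ⟨(hcle _ _).mp hz1.1, fun h => hz1.2 ((hcle _ _).mpr h)⟩
    have h2 : z' < s' i'.succ := by
      rw [lt_iff_le_not_ge] at hz2 ⊢
      exact ⟨(hcle _ _).mp hz2.1, fun h => hz2.2 ((hcle _ _).mpr h)⟩
    exact hcov.2 h1 h2

/-- In a Noetherian catenary domain heights are additive along inclusions of primes. -/
theorem height_add_height_map_mk_eq [IsDomain A] [IsNoetherianRing A] (hcat : CAlg.IsCatenary A)
    (Q P : Ideal A) [hQ : Q.IsPrime] [hP : P.IsPrime] (hQP : Q ≤ P) :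
    Q.height + (P.map (Ideal.Quotient.mk Q)).height = P.height := by
  obtain ⟨k, s, hk, hsh, hsl, hsn, hss⟩ := exists_saturated_between Q P hQP
  have hfin : Order.height s.last < ⊤ := by
    rw [hsl, ← PrimeSpectrum.height_eq_orderHeight]
    exact Ideal.height_lt_top_of_isPrime
  have := height_last_eq_of_saturated hcat s hss hfin
  rw [hsl, hsh, ← PrimeSpectrum.height_eq_orderHeight, ← PrimeSpectrum.height_eq_orderHeight,
    hsn] at this
  rw [hk]
  exact this.symm

end Groth.Agent.CatHtH8
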