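import Mathlib
import Groth.Agent.Lib.CatHt_helper8

/-! Height additivity `ht Q + ht (P/Q) = ht P` when a localization containing `P` is a catenary
domain. -/

universe u

namespace Groth.Agent.CatHtLocH8

open Groth.Agent.CatHtH8

theorem height_add_height_map_mk_eq_of_localization {A : Type u} [CommRing A] [IsNoetherianRing A]
    (M : Submonoid A) (A' : Type u) [CommRing A'] [Algebra A A'] [IsLocalization M A']
    [IsDomain A'] (hcat : CAlg.IsCatenary A')
    (Q P : Ideal A) [hQ : Q.IsPrime] [hP : P.IsPrime] (hQP : Q ≤ P)
    (hdisj : Disjoint (M : Set A) (P : Set A)) :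
    Q.height + (P.map (Ideal.Quotient.mk Q)).height = P.height := by
  classical
  obtain ⟨k, s, hk, hsh, hsl, hsn, hss⟩ := exists_saturated_between Q P hQP
  let e := IsLocalization.primeSpectrumOrderIso M A'
  have hd : ∀ i : Fin (s.length + 1), Disjoint (M : Set A) ((s i).asIdeal : Set A) := by
    intro i
    have hle : s i ≤ s.last := s.monotone (Fin.le_last i)
    rw [hsl] at hle
    exact Set.disjoint_of_subset_right hle hdisj
  let s' : LTSeries (PrimeSpectrum A') :=
    LTSeries.mk s.length (fun i => e.symm ⟨s i, hd i⟩)
      (fun i j hij => e.symm.strictMono (show (⟨s i, hd i⟩ :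
        {p : PrimeSpectrum A // Disjoint (M : Set A) p.asIdeal}) < ⟨s j, hd j⟩ from
          s.strictMono hij))
  have hs'sat : ∀ i : Fin s'.length, s' i.castSucc ⋖ s' i.succ := by
    intro i
    change e.symm ⟨s i.castSucc, hd _⟩ ⋖ e.symm ⟨s i.succ, hd _⟩
    have hcov := hss i
    refine ⟨e.symm.strictMono (show (⟨s i.castSucc, hd _⟩ :
        {p : PrimeSpectrum A // Disjoint (M : Set A) p.asIdeal}) < ⟨s i.succ, hd _⟩ from
          hcov.lt), ?_⟩
    intro z hz1 hz2
    have h1 : (⟨s i.castSucc, hd _⟩ :
        {p : PrimeSpectrum A // Disjoint (M : Set A) p.asIdeal}) < e z := by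
      have := e.strictMono hz1
      rwa [OrderIso.apply_symm_apply] at this
    have h2 : e z < (⟨s i.succ, hd _⟩ :
        {p : PrimeSpectrum A // Disjoint (M : Set A) p.asIdeal}) := by
      have := e.strictMono hz2
      rwa [OrderIso.apply_symm_apply] at this
    exact hcov.2 (show s i.castSucc < (e z).1 from h1) (show (e z).1 < s i.succ from h2)
  have hheight : ∀ (p : PrimeSpectrum A) (hp : Disjoint (M : Set A) (p.asIdeal : Set A)),
      Order.height (e.symm ⟨p, hp⟩) = p.asIdeal.height := by
    intro p hp
    rw [← PrimeSpectrum.height_eq_orderHeight]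
    haveI := p.2
    exact IsLocalization.height_map_of_disjoint M p.asIdeal hp
  have hfin : Order.height s'.last < ⊤ := by
    change Order.height (e.symm ⟨s (Fin.last _), hd _⟩) < ⊤
    rw [hheight]
    haveI := (s (Fin.last _)).2
    exact Ideal.height_lt_top_of_isPrime
  have key := height_last_eq_of_saturated hcat s' hs'sat hfin
  have hl : Order.height s'.last = P.height := by
    change Order.height (e.symm ⟨s (Fin.last _), hd _⟩) = _
    rw [hheight]
    change (s.last).asIdeal.height = _
    rw [hsl]
  have hh : Order.height s'.head = Q.height := by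
    change Order.height (e.symm ⟨s 0, hd _⟩) = _
    rw [hheight]
    change (s.head).asIdeal.height = _
    rw [hsh]
  rw [hl, hh] at key
  have hlen : s'.length = k := hsn
  rw [hlen] at key
  rw [hk]
  exact key.symm

end Groth.Agent.CatHtLocH8
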