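import Mathlib
import Groth.Agent.Lib.DimFT_helper8

/-! Dimension formula `ht p + trdeg (B/p) = trdeg B` for f.g. domains over a field. -/

universe u

namespace Groth.Agent.DimFT3H8

open Ideal

theorem ringKrullDim_quotient_eq_coheight {A : Type*} [CommRing A] (p : Ideal A) [hp : p.IsPrime] :
    ringKrullDim (A ⧸ p) = ((Order.coheight (⟨p, hp⟩ : PrimeSpectrum A) : ℕ∞) : WithBot ℕ∞) := by
  rw [ringKrullDim_quotient, Order.coheight_eq_krullDim_Ici]
  have h1 : PrimeSpectrum.zeroLocus (p : Set A) = Set.Ici (⟨p, hp⟩ : PrimeSpectrum A) := by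
    ext y
    rw [PrimeSpectrum.mem_zeroLocus, SetLike.coe_subset_coe, Set.mem_Ici]
    rfl
  rw [h1]

theorem height_add_ringKrullDim_quotient_le {A : Type*} [CommRing A] (p : Ideal A)
    [hp : p.IsPrime] :
    (p.height : WithBot ℕ∞) + ringKrullDim (A ⧸ p) ≤ ringKrullDim A := by
  haveI : Nonempty (PrimeSpectrum A) := ⟨⟨p, hp⟩⟩
  rw [ringKrullDim_quotient_eq_coheight, ringKrullDim,
    Order.krullDim_eq_iSup_height_add_coheight_of_nonempty,
    PrimeSpectrum.height_eq_orderHeight ⟨p, hp⟩, ← WithBot.coe_add, WithBot.coe_le_coe]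
  exact le_iSup (fun a : PrimeSpectrum A => Order.height a + Order.coheight a) ⟨p, hp⟩

/-- Key step: quotient by a height one prime drops the transcendence degree by exactly one. -/
theorem trdeg_quotient_of_height_eq_one (k B : Type u) [Field k] [CommRing B] [IsDomain B]
    [Algebra k B] [Algebra.FiniteType k B] (P : Ideal B) [hPp : P.IsPrime] (hP : P.height = 1) :
    Algebra.trdeg k (B ⧸ P) + 1 = Algebra.trdeg k B := by
  obtain ⟨d, g, hinj, hint⟩ := exists_integral_inj_algHom_of_fg k B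
  letI : Algebra (MvPolynomial (Fin d) k) B := g.toRingHom.toAlgebra
  haveI : IsScalarTower k (MvPolynomial (Fin d) k) B :=
    IsScalarTower.of_algebraMap_eq fun x => (g.commutes x).symm
  haveI : FaithfulSMul (MvPolynomial (Fin d) k) B :=
    (faithfulSMul_iff_algebraMap_injective _ _).mpr hinj
  haveI : Algebra.IsIntegral (MvPolynomial (Fin d) k) B := ⟨hint⟩
  haveI : IsNoetherianRing B := Algebra.FiniteType.isNoetherianRing k B
  -- trdeg B = d
  have hB : Algebra.trdeg k B = d := by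
    have h1 := trdeg_add_eq k (MvPolynomial (Fin d) k) (A := B)
    have h2 : Algebra.trdeg (MvPolynomial (Fin d) k) B = 0 := trdeg_eq_zero
    rw [h2, add_zero, MvPolynomial.trdeg_of_isDomain] at h1
    rw [← h1]
    simp
  set P₀ := P.under (MvPolynomial (Fin d) k) with hP₀
  haveI hP₀p : P₀.IsPrime := inferInstance
  have hPne : P ≠ ⊥ := by
    intro h
    rw [h, Ideal.height_bot] at hP
    exact zero_ne_one hP
  have hP₀ne : P₀ ≠ ⊥ := Ideal.IsIntegral.comap_ne_bot (MvPolynomial (Fin d) k) hPne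
  have hht := Ideal.height_eq_height_add_of_liesOver_of_hasGoingDown P₀ P
  have hP₀1 : P₀.height = 1 := by
    apply le_antisymm
    · rw [← hP, hht]
      exact le_self_add
    · rw [Order.one_le_iff_pos, pos_iff_ne_zero, Ne, Ideal.height_eq_zero_iff_eq_bot]
      exact hP₀ne
  obtain ⟨f, hfP, hfprime⟩ := hP₀p.exists_mem_prime_of_ne_bot hP₀ne
  have hspan : P₀ = Ideal.span {f} := Ideal.eq_span_singleton_of_height_eq_one hP₀1 hfP hfprime
  -- dimension of R / P₀
  haveI : Algebra.FiniteType k (MvPolynomial (Fin d) k ⧸ P₀) :=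
    Algebra.FiniteType.of_surjective (Ideal.Quotient.mkₐ k P₀) (Ideal.Quotient.mkₐ_surjective k P₀)
  obtain ⟨n₀, -, hn₀, hdim₀, -⟩ := Groth.Agent.DimFTH8.exists_dim_eq k (MvPolynomial (Fin d) k ⧸ P₀)
  have hRdim : ringKrullDim (MvPolynomial (Fin d) k) = d := by
    rw [MvPolynomial.ringKrullDim_of_isNoetherianRing]
    simp
  have hle : (n₀ : WithBot ℕ∞) + 1 ≤ d := by
    have := ringKrullDim_quotient_succ_le_of_nonZeroDivisor (R := MvPolynomial (Fin d) k) (r := f)
      (mem_nonZeroDivisors_of_ne_zero hfprime.ne_zero)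
    rw [← hspan, hdim₀, hRdim] at this
    exact this
  have hge : (d : WithBot ℕ∞) ≤ n₀ + 1 := by
    obtain ⟨m, hm, hPm⟩ := P₀.exists_le_maximal hP₀p.ne_top
    haveI := hm
    have h1 := Ideal.height_le_ringKrullDim_quotient_add_one (p := m) (hPm hfP)
    rw [← hspan, hdim₀, Groth.Agent.DimFTH8.height_of_isMaximal_mvPolynomial k d m] at h1
    exact h1
  have hd : d = n₀ + 1 := by
    have h1 : ((n₀ + 1 : ℕ) : WithBot ℕ∞) ≤ ((d : ℕ) : WithBot ℕ∞) := by exact_mod_cast hle
    have h2 : ((d : ℕ) : WithBot ℕ∞) ≤ ((n₀ + 1 : ℕ) : WithBot ℕ∞) := by exact_mod_cast hge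
    have h1' : n₀ + 1 ≤ d := by exact_mod_cast h1
    have h2' : d ≤ n₀ + 1 := by exact_mod_cast h2
    omega
  -- trdeg (B/P) = trdeg (R/P₀)
  have hBP : Algebra.trdeg k (B ⧸ P) = n₀ := by
    have h1 := trdeg_add_eq k (MvPolynomial (Fin d) k ⧸ P₀) (A := B ⧸ P)
    have h2 : Algebra.trdeg (MvPolynomial (Fin d) k ⧸ P₀) (B ⧸ P) = 0 := trdeg_eq_zero
    rw [h2, add_zero, hn₀] at h1
    exact h1.symm
  rw [hBP, hB, hd]
  push_cast
  rfl


theorem height_map_mk_add_one_le {B : Type*} [CommRing B] [IsDomain B] [IsNoetherianRing B]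
    (P p : Ideal B) [hPp : P.IsPrime] [hp : p.IsPrime] (hle : P ≤ p) (hP : P ≠ ⊥) :
    (p.map (Ideal.Quotient.mk P)).height + 1 ≤ p.height := by
  have hker : RingHom.ker (Ideal.Quotient.mk P) ≤ p := by rwa [Ideal.mk_ker]
  haveI hp' : (p.map (Ideal.Quotient.mk P)).IsPrime :=
    Ideal.map_isPrime_of_surjective Ideal.Quotient.mk_surjective hker
  obtain ⟨l, hl_last, hl_len⟩ := (p.map (Ideal.Quotient.mk P)).exists_ltSeries_length_eq_height
  let l₁ : LTSeries (PrimeSpectrum B) := l.map (PrimeSpectrum.comap (Ideal.Quotient.mk P))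
    (RingHom.strictMono_comap_of_surjective Ideal.Quotient.mk_surjective)
  have hhead : (⟨⊥, Ideal.isPrime_bot⟩ : PrimeSpectrum B) < l₁.head := by
    have h1 : P ≤ l₁.head.asIdeal := by
      change P ≤ (l.head.asIdeal).comap (Ideal.Quotient.mk P)
      intro x hx
      rw [Ideal.mem_comap, Ideal.Quotient.eq_zero_iff_mem.mpr hx]
      exact zero_mem _
    refine lt_of_le_of_ne bot_le ?_
    intro h
    apply hP
    have h2 : l₁.head.asIdeal = ⊥ := by rw [← h]
    rw [h2] at h1
    exact le_bot_iff.mp h1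
  let l₂ : LTSeries (PrimeSpectrum B) := l₁.cons ⟨⊥, Ideal.isPrime_bot⟩ hhead
  have hlast : l₂.last = ⟨p, hp⟩ := by
    rw [RelSeries.last_cons]
    apply PrimeSpectrum.ext
    change (l.last.asIdeal).comap (Ideal.Quotient.mk P) = p
    rw [hl_last]
    change (p.map (Ideal.Quotient.mk P)).comap (Ideal.Quotient.mk P) = p
    rw [Ideal.comap_map_of_surjective _ Ideal.Quotient.mk_surjective, ← RingHom.ker_eq_comap_bot]
    exact sup_eq_left.mpr hker
  have h3 := Order.length_le_height_last (p := l₂)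
  rw [hlast, ← PrimeSpectrum.height_eq_orderHeight] at h3
  have hlen : l₂.length = l.length + 1 := by simp [l₂, l₁]
  rw [hlen] at h3
  rw [← hl_len]
  exact_mod_cast h3

/-- **Dimension formula** for finitely generated domains over a field. -/
theorem height_add_trdeg_quotient : ∀ (n : ℕ) (k B : Type u) [Field k] [CommRing B] [IsDomain B]
    [Algebra k B] [Algebra.FiniteType k B] (_ : Algebra.trdeg k B = n) (p : Ideal B) [p.IsPrime],
    ∃ r : ℕ, Algebra.trdeg k (B ⧸ p) = r ∧ p.height + r = n := by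
  intro n
  induction n with
  | zero =>
    intro k B _ _ _ _ _ hB p hp
    haveI : Algebra.FiniteType k (B ⧸ p) :=
      Algebra.FiniteType.of_surjective (Ideal.Quotient.mkₐ k p) (Ideal.Quotient.mkₐ_surjective k p)
    obtain ⟨r, -, hr, hdim, -⟩ := Groth.Agent.DimFTH8.exists_dim_eq k (B ⧸ p)
    obtain ⟨n', -, hn', hdimB, -⟩ := Groth.Agent.DimFTH8.exists_dim_eq k B
    have hn0 : n' = 0 := by
      have : ((n' : ℕ) : Cardinal) = ((0 : ℕ) : Cardinal) := by rw [← hn', hB]
      exact_mod_cast this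
    have h1 := height_add_ringKrullDim_quotient_le p
    rw [hdim, hdimB, hn0] at h1
    have h2 : ((p.height + r : ℕ∞) : WithBot ℕ∞) ≤ ((0 : ℕ∞) : WithBot ℕ∞) := by exact_mod_cast h1
    have h3 : p.height + r ≤ 0 := by exact_mod_cast h2
    exact ⟨r, hr, le_antisymm h3 bot_le⟩
  | succ n ih =>
    intro k B _ _ _ _ _ hB p hp
    haveI : IsNoetherianRing B := Algebra.FiniteType.isNoetherianRing k B
    haveI : Algebra.FiniteType k (B ⧸ p) :=
      Algebra.FiniteType.of_surjective (Ideal.Quotient.mkₐ k p) (Ideal.Quotient.mkₐ_surjective k p)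
    obtain ⟨r, -, hr, hdim, -⟩ := Groth.Agent.DimFTH8.exists_dim_eq k (B ⧸ p)
    obtain ⟨n', -, hn', hdimB, -⟩ := Groth.Agent.DimFTH8.exists_dim_eq k B
    have hn1 : n' = n + 1 := by
      have : ((n' : ℕ) : Cardinal) = ((n + 1 : ℕ) : Cardinal) := by rw [← hn', hB]
      exact_mod_cast this
    have hle : p.height + r ≤ (n + 1 : ℕ) := by
      have h1 := height_add_ringKrullDim_quotient_le p
      rw [hdim, hdimB, hn1] at h1
      have h2 : ((p.height + r : ℕ∞) : WithBot ℕ∞) ≤ (((n + 1 : ℕ) : ℕ∞) : WithBot ℕ∞) := by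
        exact_mod_cast h1
      exact_mod_cast h2
    refine ⟨r, hr, le_antisymm hle ?_⟩
    by_cases hpb : p = ⊥
    · subst hpb
      have e : (B ⧸ (⊥ : Ideal B)) ≃ₐ[k] B := AlgEquiv.quotientBot k B
      have : Algebra.trdeg k (B ⧸ (⊥ : Ideal B)) = Algebra.trdeg k B := e.trdeg_eq
      rw [hr, hB] at this
      have hrn : r = n + 1 := by exact_mod_cast this
      rw [hrn]
      exact le_add_self
    · obtain ⟨a, hap, ha0⟩ := Submodule.exists_mem_ne_zero_of_ne_bot hpb
      obtain ⟨P, hPmin, hPp⟩ := Ideal.exists_minimalPrimes_le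
        (I := Ideal.span {a}) (J := p) ((Ideal.span_singleton_le_iff_mem p).mpr hap)
      haveI hPprime : P.IsPrime := hPmin.1.1
      have haP : a ∈ P := hPmin.1.2 (Ideal.mem_span_singleton_self a)
      have hPne : P ≠ ⊥ := fun h => ha0 (by rw [h] at haP; exact haP)
      have hP1 : P.height = 1 := by
        apply le_antisymm
        · exact Ideal.height_le_one_of_isPrincipal_of_mem_minimalPrimes (Ideal.span {a}) P hPmin
        · rw [Order.one_le_iff_pos, pos_iff_ne_zero, Ne, Ideal.height_eq_zero_iff_eq_bot]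
          exact hPne
      have hKS := trdeg_quotient_of_height_eq_one k B P hP1
      haveI : Algebra.FiniteType k (B ⧸ P) :=
        Algebra.FiniteType.of_surjective (Ideal.Quotient.mkₐ k P) (Ideal.Quotient.mkₐ_surjective k P)
      have hBP : Algebra.trdeg k (B ⧸ P) = n := by
        obtain ⟨n'', -, hn'', -, -⟩ := Groth.Agent.DimFTH8.exists_dim_eq k (B ⧸ P)
        rw [hn'', hB] at hKS
        have : n'' + 1 = n + 1 := by exact_mod_cast hKS
        rw [hn'']
        have : n'' = n := by omega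
        rw [this]
      have hker : RingHom.ker (Ideal.Quotient.mk P) ≤ p := by rwa [Ideal.mk_ker]
      haveI hp' : (p.map (Ideal.Quotient.mk P)).IsPrime :=
        Ideal.map_isPrime_of_surjective Ideal.Quotient.mk_surjective hker
      obtain ⟨r', hr', hsum⟩ := ih k (B ⧸ P) hBP (p.map (Ideal.Quotient.mk P))
      have e := DoubleQuot.quotQuotEquivQuotOfLEₐ k hPp
      have hrr : r' = r := by
        have h1 : Algebra.trdeg k ((B ⧸ P) ⧸ p.map (Ideal.Quotient.mkₐ k P)) =
            Algebra.trdeg k (B ⧸ p) := e.trdeg_eq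
        have h2 : Algebra.trdeg k ((B ⧸ P) ⧸ p.map (Ideal.Quotient.mk P)) = r' := hr'
        have h3 : ((r' : ℕ) : Cardinal) = ((r : ℕ) : Cardinal) := by
          rw [← h2, ← hr]; exact h1
        exact_mod_cast h3
      have hstep := height_map_mk_add_one_le P p hPp hPne
      rw [hrr] at hsum
      calc ((n + 1 : ℕ) : ℕ∞) = (n : ℕ∞) + 1 := by push_cast; rfl
        _ = (p.map (Ideal.Quotient.mk P)).height + r + 1 := by rw [hsum]
        _ = (p.map (Ideal.Quotient.mk P)).height + 1 + r := by ring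
        _ ≤ p.height + r := by gcongr

end Groth.Agent.DimFT3H8
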