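import Mathlib
import Groth.Prelude.Def_Flat
import Groth.Agent.Lib.DimFT2_helper8
import Groth.Agent.Lib.DimFT3_helper8

/-! Local dimension of schemes locally of finite type over a field. -/

universe u

open AlgebraicGeometry CategoryTheory TopologicalSpace

namespace Groth.Agent.LocDimH8

/-- Krull dimension of an open subset of a scheme as a supremum of coheights. -/
theorem topologicalKrullDim_opens (X : Scheme.{u}) (U : Set X) (hU : IsOpen U) :
    topologicalKrullDim ↥U = ⨆ u : U, ((Order.coheight (u : X) : ℕ∞) : WithBot ℕ∞) := by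
  have hemb : Topology.IsOpenEmbedding (Subtype.val : U → X) := hU.isOpenEmbedding_subtypeVal
  haveI : QuasiSober U := hemb.quasiSober
  have h1 : topologicalKrullDim ↥U = @Order.krullDim U (specializationPreorder U) := by
    unfold topologicalKrullDim
    exact @Order.krullDim_eq_of_orderIso (IrreducibleCloseds U) U _ (specializationPreorder U)
      (irreducibleSetEquivPoints (α := U))
  rw [h1, @Order.krullDim_eq_iSup_coheight U (specializationPreorder U)]
  congr 1
  ext u
  congr 1
  exact (@Topology.IsOpenEmbedding.coheight_eq U X _ _ _ _ _ _ u (Subtype.val : U → X) hemb).symm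


open Ideal

theorem height_add_height_map_mk_le {A : Type*} [CommRing A] [IsNoetherianRing A] (p m : Ideal A)
    [hp : p.IsPrime] [hm : m.IsPrime] (h : p ≤ m) :
    p.height + (m.map (Ideal.Quotient.mk p)).height ≤ m.height := by
  have hker : RingHom.ker (Ideal.Quotient.mk p) ≤ m := by rwa [Ideal.mk_ker]
  haveI hm' : (m.map (Ideal.Quotient.mk p)).IsPrime :=
    Ideal.map_isPrime_of_surjective Ideal.Quotient.mk_surjective hker
  obtain ⟨l₁, hl₁_last, hl₁_len⟩ := p.exists_ltSeries_length_eq_height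
  obtain ⟨l₂, hl₂_last, hl₂_len⟩ := (m.map (Ideal.Quotient.mk p)).exists_ltSeries_length_eq_height
  have hlen : (l₂.length : ℕ∞) = Order.height l₂.last := by
    rw [hl₂_len, ← PrimeSpectrum.height_eq_orderHeight, hl₂_last]
  have h0 := Order.height_eq_index_of_length_eq_height_last hlen 0
  have hhead0 : (RelSeries.head l₂).asIdeal = ⊥ := by
    have h0' : Order.height (l₂.toFun 0) = 0 := by simpa using h0
    have h1 : (RelSeries.head l₂).asIdeal.height = 0 := by
      rw [PrimeSpectrum.height_eq_orderHeight]; exact h0'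
    exact Ideal.height_eq_zero_iff_eq_bot.mp h1
  let l₂' : LTSeries (PrimeSpectrum A) := l₂.map (PrimeSpectrum.comap (Ideal.Quotient.mk p))
    (RingHom.strictMono_comap_of_surjective Ideal.Quotient.mk_surjective)
  have hconn : l₁.last = l₂'.head := by
    rw [hl₁_last]
    apply PrimeSpectrum.ext
    change p = (RelSeries.head l₂).asIdeal.comap (Ideal.Quotient.mk p)
    rw [hhead0, ← RingHom.ker_eq_comap_bot, Ideal.mk_ker]
  let l : LTSeries (PrimeSpectrum A) := RelSeries.smash l₁ l₂' hconn
  have hlast : l.last = ⟨m, hm⟩ := by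
    rw [RelSeries.last_smash]
    apply PrimeSpectrum.ext
    change (l₂.last.asIdeal).comap (Ideal.Quotient.mk p) = m
    rw [hl₂_last]
    change (m.map (Ideal.Quotient.mk p)).comap (Ideal.Quotient.mk p) = m
    rw [Ideal.comap_map_of_surjective _ Ideal.Quotient.mk_surjective, ← RingHom.ker_eq_comap_bot]
    exact sup_eq_left.mpr hker
  have h3 := Order.length_le_height_last (p := l)
  rw [hlast, ← PrimeSpectrum.height_eq_orderHeight] at h3
  have hl : l.length = l₁.length + l₂.length := rfl
  rw [hl] at h3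
  rw [← hl₁_len, ← hl₂_len]
  exact_mod_cast h3

/-- (C1) every open neighbourhood of `p` contains a maximal ideal of large height. -/
theorem exists_isMaximal_mem_open (k A : Type u) [Field k] [CommRing A] [Algebra k A]
    [Algebra.FiniteType k A] (p : PrimeSpectrum A) (U : Set (PrimeSpectrum A)) (hU : IsOpen U)
    (hpU : p ∈ U) :
    ∃ m : PrimeSpectrum A, m ∈ U ∧ p ≤ m ∧ m.asIdeal.IsMaximal ∧
      ∃ r : ℕ, Algebra.trdeg k (A ⧸ p.asIdeal) = r ∧ p.asIdeal.height + r ≤ m.asIdeal.height := by
  haveI : IsNoetherianRing A := Algebra.FiniteType.isNoetherianRing k A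
  haveI : IsJacobsonRing A := isJacobsonRing_of_finiteType (A := k) (B := A)
  obtain ⟨_, ⟨f, rfl⟩, hpf, hfU⟩ :=
    PrimeSpectrum.isTopologicalBasis_basic_opens.exists_subset_of_mem_open hpU hU
  have hfp : f ∉ p.asIdeal := hpf
  have hjac : p.asIdeal.jacobson = p.asIdeal := IsJacobsonRing.out inferInstance p.2.isRadical
  have : ∃ m : Ideal A, p.asIdeal ≤ m ∧ m.IsMaximal ∧ f ∉ m := by
    by_contra hcon
    push Not at hcon
    apply hfp
    rw [← hjac, Ideal.jacobson, Ideal.mem_sInf]
    rintro m ⟨hpm, hm⟩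
    exact hcon m hpm hm
  obtain ⟨m, hpm, hm, hfm⟩ := this
  haveI := hm
  haveI := p.2
  refine ⟨⟨m, hm.isPrime⟩, hfU hfm, hpm, hm, ?_⟩
  obtain ⟨r, h1, h2⟩ := Groth.Agent.DimFT2H8.exists_trdeg_eq_height_map k A p.asIdeal m hpm
  refine ⟨r, h1, ?_⟩
  rw [← h2]
  haveI := hm.isPrime
  exact height_add_height_map_mk_le p.asIdeal m hpm


/-- (C2) some open neighbourhood of `p` consists of primes of small height. -/
theorem exists_open_height_le (k A : Type u) [Field k] [CommRing A] [Algebra k A]
    [Algebra.FiniteType k A] (p : PrimeSpectrum A) :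
    ∃ U : Set (PrimeSpectrum A), IsOpen U ∧ p ∈ U ∧
      ∃ r : ℕ, Algebra.trdeg k (A ⧸ p.asIdeal) = r ∧
        ∀ x ∈ U, x.asIdeal.height ≤ p.asIdeal.height + r := by
  haveI : IsNoetherianRing A := Algebra.FiniteType.isNoetherianRing k A
  haveI := p.2
  haveI : Algebra.FiniteType k (A ⧸ p.asIdeal) :=
    Algebra.FiniteType.of_surjective (Ideal.Quotient.mkₐ k p.asIdeal)
      (Ideal.Quotient.mkₐ_surjective k p.asIdeal)
  obtain ⟨r, -, hr, -, -⟩ := Groth.Agent.DimFTH8.exists_dim_eq k (A ⧸ p.asIdeal)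
  set S : Set (Ideal A) := {q | q ∈ minimalPrimes A ∧ ¬ q ≤ p.asIdeal} with hS
  have hSfin : S.Finite := (minimalPrimes.finite_of_isNoetherianRing (R := A)).subset
    (fun q hq => hq.1)
  refine ⟨(⋃ q ∈ S, PrimeSpectrum.zeroLocus (q : Set A))ᶜ, ?_, ?_, r, hr, ?_⟩
  · rw [isOpen_compl_iff]
    exact hSfin.isClosed_biUnion fun q _ => PrimeSpectrum.isClosed_zeroLocus _
  · simp only [Set.mem_compl_iff, Set.mem_iUnion, not_exists]
    intro q hq hp
    exact hq.2 hp
  · intro x hx
    haveI := x.2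
    obtain ⟨q, hqmin, hqx, hh⟩ := Groth.Agent.DimFT2H8.exists_minimalPrimes_height_map_eq x.asIdeal
    haveI hqp : q.IsPrime := hqmin.1.1
    have hqle : q ≤ p.asIdeal := by
      by_contra hcon
      apply hx
      simp only [Set.mem_iUnion]
      exact ⟨q, ⟨hqmin, hcon⟩, hqx⟩
    haveI : Algebra.FiniteType k (A ⧸ q) :=
      Algebra.FiniteType.of_surjective (Ideal.Quotient.mkₐ k q) (Ideal.Quotient.mkₐ_surjective k q)
    obtain ⟨N, -, hN, hdimq, -⟩ := Groth.Agent.DimFTH8.exists_dim_eq k (A ⧸ q)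
    have hkerx : RingHom.ker (Ideal.Quotient.mk q) ≤ x.asIdeal := by rwa [Ideal.mk_ker]
    haveI hx' : (x.asIdeal.map (Ideal.Quotient.mk q)).IsPrime :=
      Ideal.map_isPrime_of_surjective Ideal.Quotient.mk_surjective hkerx
    have h1 : (x.asIdeal.map (Ideal.Quotient.mk q)).height ≤ N := by
      have := Ideal.height_le_ringKrullDim_of_ne_top hx'.ne_top
      rw [hdimq] at this
      exact_mod_cast this
    have hkerp : RingHom.ker (Ideal.Quotient.mk q) ≤ p.asIdeal := by rwa [Ideal.mk_ker]
    haveI hp' : (p.asIdeal.map (Ideal.Quotient.mk q)).IsPrime :=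
      Ideal.map_isPrime_of_surjective Ideal.Quotient.mk_surjective hkerp
    obtain ⟨r', hr', hsum⟩ := Groth.Agent.DimFT3H8.height_add_trdeg_quotient N k (A ⧸ q) hN
      (p.asIdeal.map (Ideal.Quotient.mk q))
    have e := DoubleQuot.quotQuotEquivQuotOfLEₐ k hqle
    have hrr : r' = r := by
      have h1 : Algebra.trdeg k ((A ⧸ q) ⧸ p.asIdeal.map (Ideal.Quotient.mkₐ k q)) =
          Algebra.trdeg k (A ⧸ p.asIdeal) := e.trdeg_eq
      have h2 : Algebra.trdeg k ((A ⧸ q) ⧸ p.asIdeal.map (Ideal.Quotient.mk q)) = r' := hr'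
      have h3 : ((r' : ℕ) : Cardinal) = ((r : ℕ) : Cardinal) := by
        rw [← h2, ← hr]; exact h1
      exact_mod_cast h3
    rw [hrr] at hsum
    calc x.asIdeal.height = (x.asIdeal.map (Ideal.Quotient.mk q)).height := hh.symm
      _ ≤ N := h1
      _ = (p.asIdeal.map (Ideal.Quotient.mk q)).height + r := hsum.symm
      _ ≤ p.asIdeal.height + r := by
        gcongr
        exact Groth.Agent.DimFT2H8.height_map_mk_le q p.asIdeal hqle


theorem topologicalKrullDim_open_primeSpectrum (S : Type u) [CommRing S]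
    (U : Set (PrimeSpectrum S)) (hU : IsOpen U) :
    topologicalKrullDim ↥U = ⨆ u : U, ((u.1.asIdeal.height : ℕ∞) : WithBot ℕ∞) := by
  have h := topologicalKrullDim_opens (Spec (CommRingCat.of S)) U hU
  refine Eq.trans h ?_
  congr 1
  ext u
  congr 1
  exact (AlgebraicGeometry.idealHeight_eq_coheight (CommRingCat.of S) u.1).symm

/-- local dimension of the spectrum of a f.g. algebra over a field -/
theorem localDim_primeSpectrum (k A : Type u) [Field k] [CommRing A] [Algebra k A]
    [Algebra.FiniteType k A] (p : PrimeSpectrum A) (r : ℕ)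
    (hr : Algebra.trdeg k (A ⧸ p.asIdeal) = r) :
    FlatMor.localDim (PrimeSpectrum A) p = ((p.asIdeal.height + r : ℕ∞) : WithBot ℕ∞) := by
  unfold FlatMor.localDim
  apply le_antisymm
  · obtain ⟨U, hUo, hpU, r', hr', hU⟩ := exists_open_height_le k A p
    have hrr : r' = r := by
      have : ((r' : ℕ) : Cardinal) = ((r : ℕ) : Cardinal) := by rw [← hr', hr]
      exact_mod_cast this
    subst hrr
    refine iInf_le_of_le ⟨⟨U, hUo⟩, hpU⟩ ?_
    change topologicalKrullDim ↥U ≤ _
    rw [topologicalKrullDim_open_primeSpectrum A U hUo]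
    apply iSup_le
    intro u
    exact_mod_cast hU u.1 u.2
  · apply le_iInf
    rintro ⟨U, hpU⟩
    obtain ⟨m, hmU, -, -, r', hr', hm⟩ := exists_isMaximal_mem_open k A p U.1 U.2 hpU
    have hrr : r' = r := by
      have : ((r' : ℕ) : Cardinal) = ((r : ℕ) : Cardinal) := by rw [← hr', hr]
      exact_mod_cast this
    subst hrr
    change _ ≤ topologicalKrullDim ↥(U : Set (PrimeSpectrum A))
    rw [topologicalKrullDim_open_primeSpectrum A (U : Set (PrimeSpectrum A)) U.2]
    refine le_trans ?_ (le_iSup _ (⟨m, hmU⟩ : (U : Set (PrimeSpectrum A))))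
    exact_mod_cast hm

end Groth.Agent.LocDimH8
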