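import Mathlib
import Groth.Agent.Lib.DimFT3_helper8
import Groth.Agent.Lib.LocDim_helper8

/-! The dimension inequality for finite type extensions of Noetherian domains
(polynomial case with equality). -/

universe u v

open Ideal

namespace Groth.Agent.DimIneqH8

/-- Transcendence degree is invariant under compatible ring isomorphisms of base and algebra. -/
theorem trdeg_le_of_ringEquiv {R S : Type u} {A B : Type v} [CommRing R] [CommRing S] [CommRing A]
    [CommRing B] [Algebra R A] [Algebra S B] [Nontrivial S] (f : R ≃+* S) (g : A ≃+* B)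
    (h : ∀ r, g (algebraMap R A r) = algebraMap S B (f r)) :
    Algebra.trdeg R A ≤ Algebra.trdeg S B := by
  unfold Algebra.trdeg
  apply ciSup_le'
  rintro ⟨s, hs⟩
  have hcomp : RingHom.comp (algebraMap S B) (f : R →+* S) =
      RingHom.comp (g : A →+* B) (algebraMap R A) := by
    ext r
    exact (h r).symm
  have h2 : AlgebraicIndependent S ((g : A →+* B) ∘ ((↑) : s → A)) :=
    (algebraicIndependent_ringHom_iff_of_comp_eq f (g : A →+* B) g.injective hcomp).mpr hs
  exact h2.cardinalMk_le_trdeg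

theorem trdeg_eq_of_ringEquiv {R S : Type u} {A B : Type v} [CommRing R] [CommRing S] [CommRing A]
    [CommRing B] [Algebra R A] [Algebra S B] [Nontrivial R] (f : R ≃+* S) (g : A ≃+* B)
    (h : ∀ r, g (algebraMap R A r) = algebraMap S B (f r)) :
    Algebra.trdeg R A = Algebra.trdeg S B := by
  haveI : Nontrivial S := f.injective.nontrivial
  apply le_antisymm (trdeg_le_of_ringEquiv f g h)
  apply trdeg_le_of_ringEquiv f.symm g.symm
  intro s
  apply g.injective
  rw [RingEquiv.apply_symm_apply]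
  have := h (f.symm s)
  rw [RingEquiv.apply_symm_apply] at this
  exact this.symm

/-- An algebraic extension on top does not change the transcendence degree. -/
theorem trdeg_eq_of_algebraic_top (D E E' : Type u) [CommRing D] [CommRing E] [CommRing E']
    [Nontrivial D] [NoZeroDivisors E'] [Algebra D E] [Algebra E E'] [Algebra D E']
    [IsScalarTower D E E'] [FaithfulSMul D E] [FaithfulSMul E E'] [Algebra.IsAlgebraic E E'] :
    Algebra.trdeg D E = Algebra.trdeg D E' := by
  have h1 := trdeg_add_eq D E (A := E')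
  have h2 : Algebra.trdeg E E' = 0 := trdeg_eq_zero
  rw [h2, add_zero] at h1
  exact h1

/-- An algebraic extension at the bottom does not change the transcendence degree. -/
theorem trdeg_eq_of_algebraic_bot (D L E' : Type u) [CommRing D] [CommRing L] [CommRing E']
    [Nontrivial D] [NoZeroDivisors E'] [Algebra D L] [Algebra L E'] [Algebra D E']
    [IsScalarTower D L E'] [FaithfulSMul D L] [FaithfulSMul L E'] [Algebra.IsAlgebraic D L] :
    Algebra.trdeg D E' = Algebra.trdeg L E' := by
  have h1 := trdeg_add_eq D L (A := E')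
  have h2 : Algebra.trdeg D L = 0 := trdeg_eq_zero
  rw [h2, zero_add] at h1
  exact h1.symm


attribute [local instance] MvPolynomial.algebraMvPolynomial

/-- Polynomial ring over a domain: a prime meeting the coefficients trivially. -/
theorem height_add_trdeg_of_comap_eq_bot (D : Type u) [CommRing D] [IsDomain D] (n : ℕ)
    (Q : Ideal (MvPolynomial (Fin n) D)) [hQ : Q.IsPrime]
    (hQD : Q.comap (MvPolynomial.C) = ⊥) :
    ∃ r : ℕ, Algebra.trdeg D (MvPolynomial (Fin n) D ⧸ Q) = r ∧ Q.height + r = n := by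
  classical
  let L := FractionRing D
  let B := MvPolynomial (Fin n) D
  let BL := MvPolynomial (Fin n) L
  let M : Submonoid B := (nonZeroDivisors D).map (MvPolynomial.C (σ := Fin n))
  haveI : IsLocalization M BL := MvPolynomial.isLocalization (nonZeroDivisors D) L
  have hdisj : Disjoint (M : Set B) (Q : Set B) := by
    rw [Set.disjoint_left]
    rintro x ⟨d, hd, rfl⟩ hxQ
    have : d ∈ Q.comap MvPolynomial.C := hxQ
    rw [hQD, Ideal.mem_bot] at this
    exact (nonZeroDivisors.ne_zero hd) this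
  set J : Ideal BL := Q.map (algebraMap B BL) with hJ
  haveI hJp : J.IsPrime := IsLocalization.isPrime_of_isPrime_disjoint M BL Q hQ hdisj
  have hht : J.height = Q.height := IsLocalization.height_map_of_disjoint M Q hdisj
  have hcomap : J.comap (algebraMap B BL) = Q :=
    IsLocalization.under_map_of_isPrime_disjoint M BL hQ hdisj
  have htr : Algebra.trdeg L BL = n := by
    rw [MvPolynomial.trdeg_of_isDomain]; simp
  obtain ⟨r, hr, hsum⟩ := Groth.Agent.DimFT3H8.height_add_trdeg_quotient n L BL htr J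
  refine ⟨r, ?_, by rw [← hht]; exact hsum⟩
  rw [← hr]
  -- compare transcendence degrees
  let ι : (MvPolynomial (Fin n) D ⧸ Q) →+* (MvPolynomial (Fin n) (FractionRing D) ⧸ J) :=
    Ideal.quotientMap J (algebraMap B BL) (le_of_eq hcomap.symm)
  have hι : Function.Injective ι := Ideal.quotientMap_injective' (le_of_eq hcomap)
  letI algEE : Algebra (MvPolynomial (Fin n) D ⧸ Q)
    (MvPolynomial (Fin n) (FractionRing D) ⧸ J) :=
    @RingHom.toAlgebra (MvPolynomial (Fin n) D ⧸ Q) (MvPolynomial (Fin n) (FractionRing D) ⧸ J) _ _ ι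
  haveI : IsScalarTower D (MvPolynomial (Fin n) D ⧸ Q)
      (MvPolynomial (Fin n) (FractionRing D) ⧸ J) :=
    IsScalarTower.of_algebraMap_eq (R := D) (S := MvPolynomial (Fin n) D ⧸ Q)
      (A := MvPolynomial (Fin n) (FractionRing D) ⧸ J) (fun d => by
    change _ = ι (Ideal.Quotient.mk Q (MvPolynomial.C d))
    rw [Ideal.quotientMap_mk]
    change Ideal.Quotient.mk J (MvPolynomial.C (algebraMap D L d)) = _
    congr 1
    exact (MvPolynomial.map_C _ _).symm)
  haveI : FaithfulSMul (MvPolynomial (Fin n) D ⧸ Q)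
      (MvPolynomial (Fin n) (FractionRing D) ⧸ J) :=
    (faithfulSMul_iff_algebraMap_injective _ _).mpr hι
  haveI : FaithfulSMul D (MvPolynomial (Fin n) D ⧸ Q) :=
      (faithfulSMul_iff_algebraMap_injective D (MvPolynomial (Fin n) D ⧸ Q)).mpr (by
    rw [injective_iff_map_eq_zero (algebraMap D (MvPolynomial (Fin n) D ⧸ Q))]
    intro d hd
    have h1 : Ideal.Quotient.mk Q (MvPolynomial.C d) = 0 := hd
    rw [Ideal.Quotient.eq_zero_iff_mem] at h1
    have : d ∈ Q.comap MvPolynomial.C := h1
    rwa [hQD, Ideal.mem_bot] at this)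
  haveI : Algebra.IsAlgebraic (MvPolynomial (Fin n) D ⧸ Q)
      (MvPolynomial (Fin n) (FractionRing D) ⧸ J) := by
    constructor
    intro y
    obtain ⟨x, rfl⟩ := Ideal.Quotient.mk_surjective y
    obtain ⟨⟨b, t⟩, h⟩ := IsLocalization.surj M x
    obtain ⟨d, hd, hdt⟩ := t.2
    have hd0 : d ≠ 0 := nonZeroDivisors.ne_zero hd
    have hne : Ideal.Quotient.mk Q (MvPolynomial.C d) ≠ 0 := by
      rw [Ne, Ideal.Quotient.eq_zero_iff_mem]
      intro hmem
      have : d ∈ Q.comap MvPolynomial.C := hmem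
      rw [hQD, Ideal.mem_bot] at this
      exact hd0 this
    refine ⟨Polynomial.C (Ideal.Quotient.mk Q (MvPolynomial.C d)) * Polynomial.X -
      Polynomial.C (Ideal.Quotient.mk Q b), ?_, ?_⟩
    · intro h0
      have := congrArg (fun q => Polynomial.coeff q 1) h0
      simp at this
      exact hne this
    · simp only [map_sub, map_mul, Polynomial.aeval_C, Polynomial.aeval_X]
      change ι (Ideal.Quotient.mk Q (MvPolynomial.C d)) * _ - ι (Ideal.Quotient.mk Q b) = 0
      rw [Ideal.quotientMap_mk, Ideal.quotientMap_mk, ← map_mul, ← map_sub,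
        Ideal.Quotient.eq_zero_iff_mem]
      have h' : x * algebraMap B BL (MvPolynomial.C d) = algebraMap B BL b := by
        rw [hdt]; exact h
      rw [mul_comm, h', sub_self]
      exact J.zero_mem
  haveI : Algebra.IsAlgebraic D (FractionRing D) :=
    IsLocalization.isAlgebraic (FractionRing D) (nonZeroDivisors D)
  rw [trdeg_eq_of_algebraic_top D (MvPolynomial (Fin n) D ⧸ Q)
    (MvPolynomial (Fin n) (FractionRing D) ⧸ J),
    trdeg_eq_of_algebraic_bot D (FractionRing D) (MvPolynomial (Fin n) (FractionRing D) ⧸ J)]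


theorem eq_map_comap_equiv {A B : Type*} [CommRing A] [CommRing B] (e : A ≃+* B) (J : Ideal B) :
    J = (J.comap (e : A →+* B)).map (e : A →+* B) :=
  (Ideal.map_comap_of_surjective (e : A →+* B) e.surjective J).symm

/-- **Dimension formula for polynomial rings** over a Noetherian ring. -/
theorem height_add_trdeg_mvPolynomial (R : Type u) [CommRing R] [IsNoetherianRing R] (n : ℕ)
    (p : Ideal R) [hp : p.IsPrime] (P : Ideal (MvPolynomial (Fin n) R)) [hP : P.IsPrime]
    [hPp : P.LiesOver p] :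
    ∃ r : ℕ, Algebra.trdeg (R ⧸ p) (MvPolynomial (Fin n) R ⧸ P) = r ∧
      P.height + r = p.height + n := by
  classical
  have h1 := Ideal.height_eq_height_add_of_liesOver_of_hasGoingDown p P
  have hI : p.map (algebraMap R (MvPolynomial (Fin n) R)) = p.map MvPolynomial.C := rfl
  rw [hI] at h1
  have hunder : P.comap MvPolynomial.C = p := (hPp.over).symm
  have hIP : p.map MvPolynomial.C ≤ P := by
    rw [Ideal.map_le_iff_le_comap, hunder]
  set Pbar : Ideal (MvPolynomial (Fin n) R ⧸ p.map MvPolynomial.C) :=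
    P.map (Ideal.Quotient.mk (p.map MvPolynomial.C)) with hPbar
  haveI hPbarp : Pbar.IsPrime :=
    Ideal.map_isPrime_of_surjective Ideal.Quotient.mk_surjective (by rwa [Ideal.mk_ker])
  let e : MvPolynomial (Fin n) (R ⧸ p) ≃+* (MvPolynomial (Fin n) R ⧸ p.map MvPolynomial.C) :=
    (MvPolynomial.quotientEquivQuotientMvPolynomial p).toRingEquiv
  have heC : ∀ a : R, e (MvPolynomial.C (Ideal.Quotient.mk p a)) =
      Ideal.Quotient.mk (p.map MvPolynomial.C) (MvPolynomial.C a) := by
    intro a
    change (MvPolynomial.quotientEquivQuotientMvPolynomial p) _ = _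
    simp [MvPolynomial.quotientEquivQuotientMvPolynomial]
  set Q : Ideal (MvPolynomial (Fin n) (R ⧸ p)) := Pbar.comap (e : _ →+* _) with hQ
  haveI hQp : Q.IsPrime := Ideal.comap_isPrime _ _
  have hQh : Q.height = Pbar.height := RingEquiv.height_comap e Pbar
  have hQD : Q.comap MvPolynomial.C = ⊥ := by
    rw [eq_bot_iff]
    intro d hd
    obtain ⟨a, rfl⟩ := Ideal.Quotient.mk_surjective d
    have h2 : e (MvPolynomial.C (Ideal.Quotient.mk p a)) ∈ Pbar := hd
    rw [heC, hPbar, Ideal.mem_quotient_iff_mem hIP] at h2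
    have h3 : a ∈ P.comap MvPolynomial.C := h2
    rw [hunder] at h3
    rw [Ideal.mem_bot, Ideal.Quotient.eq_zero_iff_mem]
    exact h3
  obtain ⟨r, hr, hsum⟩ := height_add_trdeg_of_comap_eq_bot (R ⧸ p) n Q hQD
  refine ⟨r, ?_, ?_⟩
  · rw [← hr]
    symm
    have hmap : Pbar = Q.map (e : _ →+* _) := by
      rw [hQ]
      exact eq_map_comap_equiv e Pbar
    let g1 : (MvPolynomial (Fin n) (R ⧸ p) ⧸ Q) ≃+*
        ((MvPolynomial (Fin n) R ⧸ p.map MvPolynomial.C) ⧸ Pbar) :=
      Ideal.quotientEquiv Q Pbar e hmap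
    let g2 : ((MvPolynomial (Fin n) R ⧸ p.map MvPolynomial.C) ⧸ Pbar) ≃+*
        (MvPolynomial (Fin n) R ⧸ P) := DoubleQuot.quotQuotEquivQuotOfLE hIP
    refine trdeg_eq_of_ringEquiv (RingEquiv.refl (R ⧸ p)) (g1.trans g2) (fun d => ?_)
    obtain ⟨a, rfl⟩ := Ideal.Quotient.mk_surjective d
    change g2 (g1 (Ideal.Quotient.mk Q (MvPolynomial.C (Ideal.Quotient.mk p a)))) = _
    rw [Ideal.quotientEquiv_mk, heC]
    change g2 (DoubleQuot.quotQuotMk _ _ (MvPolynomial.C a)) = _
    rw [DoubleQuot.quotQuotEquivQuotOfLE_quotQuotMk]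
    rfl
  · rw [h1, ← hQh, add_assoc, hsum]


/-- Data attached to a presentation of a finite type extension of domains. -/
theorem data_of_surjective (R : Type u) [CommRing R] [IsDomain R] [IsNoetherianRing R]
    (S : Type u) [CommRing S] [IsDomain S] [Algebra R S] [FaithfulSMul R S]
    (p : Ideal R) [hp : p.IsPrime] (q : Ideal S) [hq : q.IsPrime] [hqp : q.LiesOver p]
    (n : ℕ) (f : MvPolynomial (Fin n) R →ₐ[R] S) (hf : Function.Surjective f) :
    ∃ rq rS : ℕ, Algebra.trdeg (R ⧸ p) (S ⧸ q) = rq ∧ Algebra.trdeg R S = rS ∧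
      (q.comap (f : MvPolynomial (Fin n) R →+* S)).height + rq = p.height + n ∧
      (RingHom.ker (f : MvPolynomial (Fin n) R →+* S)).height + rS = n ∧
      (RingHom.ker (f : MvPolynomial (Fin n) R →+* S)).height + q.height ≤
        (q.comap (f : MvPolynomial (Fin n) R →+* S)).height := by
  classical
  set f' : MvPolynomial (Fin n) R →+* S := (f : MvPolynomial (Fin n) R →+* S) with hf'
  have hfC : ∀ a : R, f' (MvPolynomial.C a) = algebraMap R S a := fun a => f.commutes a
  have hf's : Function.Surjective f' := hf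
  set P : Ideal (MvPolynomial (Fin n) R) := q.comap f' with hPdef
  haveI hPp : P.IsPrime := Ideal.comap_isPrime _ _
  haveI hPl : P.LiesOver p := ⟨by
    rw [hqp.over]
    ext a
    simp only [Ideal.under, Ideal.mem_comap, hPdef]
    rw [MvPolynomial.algebraMap_eq, hfC]⟩
  obtain ⟨rP, hrP, hsumP⟩ := height_add_trdeg_mvPolynomial R n p P
  set Q : Ideal (MvPolynomial (Fin n) R) := RingHom.ker f' with hQdef
  haveI hQp : Q.IsPrime := RingHom.ker_isPrime f'
  haveI hbp : (⊥ : Ideal R).IsPrime := Ideal.isPrime_bot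
  haveI hQl : Q.LiesOver (⊥ : Ideal R) := ⟨by
    ext a
    simp only [Ideal.under, Ideal.mem_comap, hQdef, RingHom.mem_ker, Ideal.mem_bot]
    rw [MvPolynomial.algebraMap_eq, hfC]
    constructor
    · rintro rfl; simp
    · intro h
      exact (FaithfulSMul.algebraMap_injective R S) (by rw [h, map_zero])⟩
  obtain ⟨rQ, hrQ, hsumQ⟩ := height_add_trdeg_mvPolynomial R n (⊥ : Ideal R) Q
  rw [Ideal.height_bot, zero_add] at hsumQ
  -- identify the transcendence degrees
  have htrQ : Algebra.trdeg (R ⧸ (⊥ : Ideal R)) (MvPolynomial (Fin n) R ⧸ Q) =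
      Algebra.trdeg R S := by
    refine trdeg_eq_of_ringEquiv (RingEquiv.quotientBot R)
      (RingHom.quotientKerEquivOfSurjective hf's) (fun d => ?_)
    obtain ⟨a, rfl⟩ := Ideal.Quotient.mk_surjective d
    rw [RingEquiv.quotientBot_mk, Ideal.Quotient.algebraMap_mk_of_liesOver,
      RingHom.quotientKerEquivOfSurjective_apply_mk, MvPolynomial.algebraMap_eq, hfC]
  have htrP : Algebra.trdeg (R ⧸ p) (MvPolynomial (Fin n) R ⧸ P) =
      Algebra.trdeg (R ⧸ p) (S ⧸ q) := by
    let g : (MvPolynomial (Fin n) R ⧸ P) ≃+* (S ⧸ q) :=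
      RingEquiv.ofBijective (Ideal.quotientMap q f' le_rfl)
        ⟨Ideal.quotientMap_injective, Ideal.quotientMap_surjective hf's⟩
    refine trdeg_eq_of_ringEquiv (RingEquiv.refl (R ⧸ p)) g (fun d => ?_)
    obtain ⟨a, rfl⟩ := Ideal.Quotient.mk_surjective d
    rw [Ideal.Quotient.algebraMap_mk_of_liesOver]
    change Ideal.quotientMap q f' le_rfl (Ideal.Quotient.mk P _) = _
    rw [Ideal.quotientMap_mk, MvPolynomial.algebraMap_eq, hfC]
    rfl
  refine ⟨rP, rQ, by rw [← htrP, hrP], by rw [← htrQ, hrQ], hsumP, hsumQ, ?_⟩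
  -- heights
  have hQP : Q ≤ P := by
    intro x hx
    rw [hPdef, Ideal.mem_comap]
    rw [hQdef, RingHom.mem_ker] at hx
    rw [hx]
    exact q.zero_mem
  have h1 := Groth.Agent.LocDimH8.height_add_height_map_mk_le Q P hQP
  have h2 : (P.map (Ideal.Quotient.mk Q)).height = q.height := by
    have h3 := RingEquiv.height_map (RingHom.quotientKerEquivOfSurjective hf's)
      (P.map (Ideal.Quotient.mk Q))
    rw [← h3]
    congr 1
    apply le_antisymm
    · rw [Ideal.map_le_iff_le_comap, Ideal.map_le_iff_le_comap]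
      intro x hx
      simp only [Ideal.mem_comap]
      rw [RingHom.quotientKerEquivOfSurjective_apply_mk]
      exact hx
    · intro y hy
      obtain ⟨x, rfl⟩ := hf's y
      have hxP : x ∈ P := hy
      have := Ideal.mem_map_of_mem (RingHom.quotientKerEquivOfSurjective hf's)
        (Ideal.mem_map_of_mem (Ideal.Quotient.mk Q) hxP)
      rwa [RingHom.quotientKerEquivOfSurjective_apply_mk] at this
  rw [h2] at h1
  exact h1


/-- **The dimension inequality** (Cohen, EGA IV 5.5.8 / 5.6.1). -/
theorem height_add_trdeg_le (R : Type u) [CommRing R] [IsDomain R] [IsNoetherianRing R]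
    (S : Type u) [CommRing S] [IsDomain S] [Algebra R S] [FaithfulSMul R S]
    [hft : Algebra.FiniteType R S]
    (p : Ideal R) [hp : p.IsPrime] (q : Ideal S) [hq : q.IsPrime] [hqp : q.LiesOver p] :
    ∃ a b rq rS : ℕ, q.height = a ∧ p.height = b ∧ Algebra.trdeg (R ⧸ p) (S ⧸ q) = rq ∧
      Algebra.trdeg R S = rS ∧ a + rq ≤ b + rS := by
  obtain ⟨n, f, hf⟩ := Algebra.FiniteType.iff_quotient_mvPolynomial''.mp hft
  obtain ⟨rq, rS, h1, h2, h3, h4, h5⟩ := data_of_surjective R S p q n f hf
  haveI : IsNoetherianRing S := Algebra.FiniteType.isNoetherianRing R S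
  obtain ⟨a, ha⟩ := ENat.ne_top_iff_exists.mp (Ideal.height_ne_top_of_isPrime (I := q))
  obtain ⟨b, hb⟩ := ENat.ne_top_iff_exists.mp (Ideal.height_ne_top_of_isPrime (I := p))
  set P := q.comap (f : MvPolynomial (Fin n) R →+* S)
  set Q := RingHom.ker (f : MvPolynomial (Fin n) R →+* S)
  haveI : P.IsPrime := Ideal.comap_isPrime _ _
  haveI : Q.IsPrime := RingHom.ker_isPrime _
  obtain ⟨c, hc⟩ := ENat.ne_top_iff_exists.mp (Ideal.height_ne_top_of_isPrime (I := P))
  obtain ⟨d, hd⟩ := ENat.ne_top_iff_exists.mp (Ideal.height_ne_top_of_isPrime (I := Q))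
  refine ⟨a, b, rq, rS, ha.symm, hb.symm, h1, h2, ?_⟩
  rw [← hc, ← hb] at h3
  rw [← hd] at h4
  rw [← hd, ← ha, ← hc] at h5
  have h3' : c + rq = b + n := by exact_mod_cast h3
  have h4' : d + rS = n := by exact_mod_cast h4
  have h5' : d + a ≤ c := by exact_mod_cast h5
  omega

end Groth.Agent.DimIneqH8
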