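import Mathlib
import Groth.Agent.Lib.DimIneq_helper8
import Groth.Agent.Lib.CatHt_helper8

/-! The dimension formula (equality) over universally catenary Noetherian domains. -/

universe u

open Ideal

namespace Groth.Agent.DimEqH8

theorem height_map_mk_ker {A S : Type*} [CommRing A] [CommRing S] (f : A →+* S)
    (hf : Function.Surjective f) (q : Ideal S) :
    ((q.comap f).map (Ideal.Quotient.mk (RingHom.ker f))).height = q.height := by
  have h3 := RingEquiv.height_map (RingHom.quotientKerEquivOfSurjective hf)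
    ((q.comap f).map (Ideal.Quotient.mk (RingHom.ker f)))
  rw [← h3]
  congr 1
  apply le_antisymm
  · rw [Ideal.map_le_iff_le_comap, Ideal.map_le_iff_le_comap]
    intro x hx
    simp only [Ideal.mem_comap]
    rw [RingHom.quotientKerEquivOfSurjective_apply_mk]
    exact hx
  · intro y hy
    obtain ⟨x, rfl⟩ := hf y
    have hxP : x ∈ q.comap f := hy
    have := Ideal.mem_map_of_mem (RingHom.quotientKerEquivOfSurjective hf)
      (Ideal.mem_map_of_mem (Ideal.Quotient.mk (RingHom.ker f)) hxP)
    rwa [RingHom.quotientKerEquivOfSurjective_apply_mk] at this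

/-- **The dimension formula** over a universally catenary Noetherian domain. -/
theorem height_add_trdeg_eq (R : Type u) [CommRing R] [IsDomain R]
    (hR : CAlg.IsUniversallyCatenary R)
    (S : Type u) [CommRing S] [IsDomain S] [Algebra R S] [FaithfulSMul R S]
    [hft : Algebra.FiniteType R S]
    (p : Ideal R) [hp : p.IsPrime] (q : Ideal S) [hq : q.IsPrime] [hqp : q.LiesOver p] :
    ∃ a b rq rS : ℕ, q.height = a ∧ p.height = b ∧ Algebra.trdeg (R ⧸ p) (S ⧸ q) = rq ∧
      Algebra.trdeg R S = rS ∧ a + rq = b + rS := by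
  haveI : IsNoetherianRing R := hR.1
  obtain ⟨n, f, hf⟩ := Algebra.FiniteType.iff_quotient_mvPolynomial''.mp hft
  obtain ⟨rq, rS, h1, h2, h3, h4, -⟩ := Groth.Agent.DimIneqH8.data_of_surjective R S p q n f hf
  haveI : IsNoetherianRing S := Algebra.FiniteType.isNoetherianRing R S
  have hcat : CAlg.IsCatenary (MvPolynomial (Fin n) R) := hR.2 _ inferInstance
  obtain ⟨a, ha⟩ := ENat.ne_top_iff_exists.mp (Ideal.height_ne_top_of_isPrime (I := q))
  obtain ⟨b, hb⟩ := ENat.ne_top_iff_exists.mp (Ideal.height_ne_top_of_isPrime (I := p))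
  set P := q.comap (f : MvPolynomial (Fin n) R →+* S) with hPdef
  set Q := RingHom.ker (f : MvPolynomial (Fin n) R →+* S) with hQdef
  haveI : P.IsPrime := Ideal.comap_isPrime _ _
  haveI : Q.IsPrime := RingHom.ker_isPrime _
  have hQP : Q ≤ P := by
    intro x hx
    rw [hPdef, Ideal.mem_comap]
    rw [hQdef, RingHom.mem_ker] at hx
    rw [hx]
    exact q.zero_mem
  have h5 := Groth.Agent.CatHtH8.height_add_height_map_mk_eq hcat Q P hQP
  have hf' : Function.Surjective (f : MvPolynomial (Fin n) R →+* S) := hf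
  rw [height_map_mk_ker (f : MvPolynomial (Fin n) R →+* S) hf' q] at h5
  obtain ⟨c, hc⟩ := ENat.ne_top_iff_exists.mp (Ideal.height_ne_top_of_isPrime (I := P))
  obtain ⟨d, hd⟩ := ENat.ne_top_iff_exists.mp (Ideal.height_ne_top_of_isPrime (I := Q))
  refine ⟨a, b, rq, rS, ha.symm, hb.symm, h1, h2, ?_⟩
  rw [← hc, ← hb] at h3
  rw [← hd] at h4
  rw [← hd, ← ha, ← hc] at h5
  have h3' : c + rq = b + n := by exact_mod_cast h3
  have h4' : d + rS = n := by exact_mod_cast h4
  have h5' : d + a = c := by exact_mod_cast h5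
  omega

end Groth.Agent.DimEqH8
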