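import Mathlib
import Groth.Agent.Lib.DimEq_helper8
import Groth.Agent.Lib.CatHtLoc_helper8

/-! The dimension formula (equality) when only the localization of the base at the prime is
universally catenary. -/

universe u

open Ideal

namespace Groth.Agent.DimEqLocH8

attribute [local instance] MvPolynomial.algebraMvPolynomial

theorem height_add_trdeg_eq_of_localization (R : Type u) [CommRing R] [IsDomain R]
    [IsNoetherianRing R]
    (S : Type u) [CommRing S] [IsDomain S] [Algebra R S] [FaithfulSMul R S]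
    [hft : Algebra.FiniteType R S]
    (p : Ideal R) [hp : p.IsPrime] (q : Ideal S) [hq : q.IsPrime] [hqp : q.LiesOver p]
    (hcat : ∀ n : ℕ, CAlg.IsCatenary (MvPolynomial (Fin n) (Localization.AtPrime p))) :
    ∃ a b rq rS : ℕ, q.height = a ∧ p.height = b ∧ Algebra.trdeg (R ⧸ p) (S ⧸ q) = rq ∧
      Algebra.trdeg R S = rS ∧ a + rq = b + rS := by
  obtain ⟨n, f, hf⟩ := Algebra.FiniteType.iff_quotient_mvPolynomial''.mp hft
  obtain ⟨rq, rS, h1, h2, h3, h4, -⟩ := Groth.Agent.DimIneqH8.data_of_surjective R S p q n f hf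
  haveI : IsNoetherianRing S := Algebra.FiniteType.isNoetherianRing R S
  obtain ⟨a, ha⟩ := ENat.ne_top_iff_exists.mp (Ideal.height_ne_top_of_isPrime (I := q))
  obtain ⟨b, hb⟩ := ENat.ne_top_iff_exists.mp (Ideal.height_ne_top_of_isPrime (I := p))
  set P := q.comap (f : MvPolynomial (Fin n) R →+* S) with hPdef
  set Q := RingHom.ker (f : MvPolynomial (Fin n) R →+* S) with hQdef
  haveI : P.IsPrime := Ideal.comap_isPrime _ _
  haveI : Q.IsPrime := RingHom.ker_isPrime _
  have hQP : Q ≤ P := by
    intro x hx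
    rw [hPdef, Ideal.mem_comap]
    rw [hQdef, RingHom.mem_ker] at hx
    rw [hx]
    exact q.zero_mem
  haveI : IsDomain (Localization.AtPrime p) :=
    IsLocalization.isDomain_of_local_atPrime hp
  have hdisj : Disjoint ((p.primeCompl.map (MvPolynomial.C (σ := Fin n)) :
      Submonoid (MvPolynomial (Fin n) R)) : Set (MvPolynomial (Fin n) R)) (P : Set _) := by
    rw [Set.disjoint_left]
    rintro x ⟨a, ha, rfl⟩ hxP
    apply ha
    have h1 : (f : MvPolynomial (Fin n) R →+* S) (MvPolynomial.C a) ∈ q := hxP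
    have h2 : (f : MvPolynomial (Fin n) R →+* S) (MvPolynomial.C a) = algebraMap R S a :=
      f.commutes a
    rw [h2] at h1
    have h3 : a ∈ q.under R := h1
    rwa [← hqp.over] at h3
  have h5 := Groth.Agent.CatHtLocH8.height_add_height_map_mk_eq_of_localization
    (p.primeCompl.map (MvPolynomial.C (σ := Fin n)))
    (MvPolynomial (Fin n) (Localization.AtPrime p)) (hcat n) Q P hQP hdisj
  have hf' : Function.Surjective (f : MvPolynomial (Fin n) R →+* S) := hf
  rw [Groth.Agent.DimEqH8.height_map_mk_ker (f : MvPolynomial (Fin n) R →+* S) hf' q] at h5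
  obtain ⟨c, hc⟩ := ENat.ne_top_iff_exists.mp (Ideal.height_ne_top_of_isPrime (I := P))
  obtain ⟨d, hd⟩ := ENat.ne_top_iff_exists.mp (Ideal.height_ne_top_of_isPrime (I := Q))
  refine ⟨a, b, rq, rS, ha.symm, hb.symm, h1, h2, ?_⟩
  rw [← hc, ← hb] at h3
  rw [← hd] at h4
  rw [← hd, ← ha, ← hc] at h5
  have h3' : c + rq = b + n := by exact_mod_cast h3
  have h4' : d + rS = n := by exact_mod_cast h4
  have h5' : d + a = c := by exact_mod_cast h5
  omega

end Groth.Agent.DimEqLocH8
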