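import Mathlib
import Groth.Agent.Lib.SchFT_helper8
import Groth.Agent.Lib.DimIneq_helper8

/-! Residue field extensions of a morphism of schemes computed on affine charts. -/

universe u

open AlgebraicGeometry CategoryTheory IsLocalRing TopologicalSpace Opposite

namespace Groth.Agent.ResQuotH8

open Groth.Agent.SchFTH8

variable {X : Scheme.{u}}

/-- the injection `Γ(X, U) / p_x → κ(x)`. -/
noncomputable def resQuot {U : X.Opens} (hU : IsAffineOpen U) (x : X) (hx : x ∈ U) :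
    Γ(X, U) ⧸ (hU.primeIdealOf ⟨x, hx⟩).asIdeal →+* X.residueField x :=
  Ideal.Quotient.lift _ (toRes U x hx) (fun a ha => by
    rw [← RingHom.mem_ker, ker_toRes hU x hx]; exact ha)

theorem resQuot_mk {U : X.Opens} (hU : IsAffineOpen U) (x : X) (hx : x ∈ U) (a : Γ(X, U)) :
    resQuot hU x hx (Ideal.Quotient.mk _ a) = toRes U x hx a :=
  Ideal.Quotient.lift_mk _ _ _

theorem resQuot_injective {U : X.Opens} (hU : IsAffineOpen U) (x : X) (hx : x ∈ U) :
    Function.Injective (resQuot hU x hx) := by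
  rw [injective_iff_map_eq_zero]
  intro a ha
  obtain ⟨a, rfl⟩ := Ideal.Quotient.mk_surjective a
  rw [resQuot_mk, ← RingHom.mem_ker, ker_toRes hU x hx] at ha
  exact Ideal.Quotient.eq_zero_iff_mem.mpr ha

/-- every element of `κ(x)` is a fraction of elements of `Γ(X, U)/p_x`. -/
theorem exists_resQuot_mul_eq {U : X.Opens} (hU : IsAffineOpen U) (x : X) (hx : x ∈ U)
    (y : X.residueField x) :
    ∃ a t : Γ(X, U) ⧸ (hU.primeIdealOf ⟨x, hx⟩).asIdeal, t ≠ 0 ∧
      y * resQuot hU x hx t = resQuot hU x hx a := by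
  obtain ⟨s, rfl⟩ := X.residue_surjective x y
  letI : Algebra Γ(X, U) (X.presheaf.stalk x) :=
    TopCat.Presheaf.algebra_section_stalk X.presheaf (⟨x, hx⟩ : U)
  haveI : IsLocalization.AtPrime (X.presheaf.stalk x) (hU.primeIdealOf ⟨x, hx⟩).asIdeal :=
    hU.isLocalization_stalk ⟨x, hx⟩
  obtain ⟨⟨a, t⟩, h⟩ := IsLocalization.surj (hU.primeIdealOf ⟨x, hx⟩).asIdeal.primeCompl s
  have h' : s * (X.presheaf.germ U x hx).hom t.1 = (X.presheaf.germ U x hx).hom a := h
  refine ⟨Ideal.Quotient.mk _ a, Ideal.Quotient.mk _ t.1, ?_, ?_⟩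
  · rw [Ne, Ideal.Quotient.eq_zero_iff_mem]
    exact t.2
  · rw [resQuot_mk, resQuot_mk]
    have := congrArg (X.residue x).hom h'
    rw [map_mul] at this
    exact this

open Polynomial in
theorem isAlgebraic_resQuot {U : X.Opens} (hU : IsAffineOpen U) (x : X) (hx : x ∈ U) :
    @Algebra.IsAlgebraic (Γ(X, U) ⧸ (hU.primeIdealOf ⟨x, hx⟩).asIdeal) (X.residueField x) _ _
      (resQuot hU x hx).toAlgebra := by
  letI := (resQuot hU x hx).toAlgebra
  constructor
  intro y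
  obtain ⟨a, t, ht, h⟩ := exists_resQuot_mul_eq hU x hx y
  refine ⟨C t * Polynomial.X - C a, ?_, ?_⟩
  · intro h0
    have := congrArg (fun q => Polynomial.coeff q 1) h0
    simp at this
    exact ht this
  · simp only [map_sub, map_mul, aeval_C, aeval_X]
    change resQuot hU x hx t * _ - resQuot hU x hx a = 0
    rw [mul_comm, h, sub_self]

variable {S : Scheme.{u}} (f : X ⟶ S)

theorem residueFieldMap_toRes {U : X.Opens} {V : S.Opens} (e : U ≤ f ⁻¹ᵁ V) (x : X) (hx : x ∈ U)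
    (a : Γ(S, V)) :
    (f.residueFieldMap x).hom (toRes V (f.base x) (e hx) a) =
      toRes U x hx ((f.appLE V U e).hom a) := by
  simp only [toRes, RingHom.comp_apply]
  have h1 := Scheme.residue_residueFieldMap f x
  have h2 := congrArg (fun φ => φ.hom ((S.presheaf.germ V (f.base x) (e hx)).hom a)) h1
  simp only [CommRingCat.hom_comp, RingHom.comp_apply] at h2
  erw [h2]
  congr 1
  have h3 := Scheme.Hom.germ_stalkMap_apply f V x (e hx) a
  erw [h3]
  rw [Scheme.Hom.appLE]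
  simp only [CommRingCat.hom_comp, RingHom.comp_apply]
  exact (TopCat.Presheaf.germ_res_apply X.presheaf (homOfLE e) x hx _).symm

theorem primeIdealOf_map {U : X.Opens} (hU : IsAffineOpen U) {V : S.Opens} (hV : IsAffineOpen V)
    (e : U ≤ f ⁻¹ᵁ V) (x : X) (hx : x ∈ U) :
    (hV.primeIdealOf ⟨f.base x, e hx⟩).asIdeal =
      (hU.primeIdealOf ⟨x, hx⟩).asIdeal.comap (f.appLE V U e).hom := by
  rw [← ker_toRes hV, ← ker_toRes hU]
  ext a
  rw [RingHom.mem_ker, Ideal.mem_comap, RingHom.mem_ker, ← residueFieldMap_toRes f e x hx a]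
  constructor
  · intro h; rw [h, map_zero]
  · intro h
    exact (f.residueFieldMap x).hom.injective (by rw [h, map_zero])


/-- the induced map `Γ(S, V)/p_{f x} → Γ(X, U)/p_x`. -/
noncomputable def quotMap {U : X.Opens} (hU : IsAffineOpen U) {V : S.Opens} (hV : IsAffineOpen V)
    (e : U ≤ f ⁻¹ᵁ V) (x : X) (hx : x ∈ U) :
    Γ(S, V) ⧸ (hV.primeIdealOf ⟨f.base x, e hx⟩).asIdeal →+*
      Γ(X, U) ⧸ (hU.primeIdealOf ⟨x, hx⟩).asIdeal :=
  Ideal.quotientMap _ (f.appLE V U e).hom (le_of_eq (primeIdealOf_map f hU hV e x hx))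

theorem quotMap_mk {U : X.Opens} (hU : IsAffineOpen U) {V : S.Opens} (hV : IsAffineOpen V)
    (e : U ≤ f ⁻¹ᵁ V) (x : X) (hx : x ∈ U) (a : Γ(S, V)) :
    quotMap f hU hV e x hx (Ideal.Quotient.mk _ a) =
      Ideal.Quotient.mk _ ((f.appLE V U e).hom a) :=
  Ideal.quotientMap_mk

theorem quotMap_injective {U : X.Opens} (hU : IsAffineOpen U) {V : S.Opens}
    (hV : IsAffineOpen V) (e : U ≤ f ⁻¹ᵁ V) (x : X) (hx : x ∈ U) :
    Function.Injective (quotMap f hU hV e x hx) :=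
  Ideal.quotientMap_injective' (le_of_eq (primeIdealOf_map f hU hV e x hx).symm)

/-- The transcendence degree of the residue field extension, computed on affine charts. -/
theorem trdeg_residueFieldMap {U : X.Opens} (hU : IsAffineOpen U) {V : S.Opens}
    (hV : IsAffineOpen V) (e : U ≤ f ⁻¹ᵁ V) (x : X) (hx : x ∈ U) :
    @Algebra.trdeg (S.residueField (f.base x)) (X.residueField x) _ _
        (f.residueFieldMap x).hom.toAlgebra =
      @Algebra.trdeg (Γ(S, V) ⧸ (hV.primeIdealOf ⟨f.base x, e hx⟩).asIdeal)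
        (Γ(X, U) ⧸ (hU.primeIdealOf ⟨x, hx⟩).asIdeal) _ _ (quotMap f hU hV e x hx).toAlgebra := by
  letI a1 : Algebra (S.residueField (f.base x)) (X.residueField x) :=
    (f.residueFieldMap x).hom.toAlgebra
  letI a2 : Algebra (Γ(S, V) ⧸ (hV.primeIdealOf ⟨f.base x, e hx⟩).asIdeal)
    (Γ(X, U) ⧸ (hU.primeIdealOf ⟨x, hx⟩).asIdeal) := (quotMap f hU hV e x hx).toAlgebra
  letI a3 : Algebra (Γ(X, U) ⧸ (hU.primeIdealOf ⟨x, hx⟩).asIdeal) (X.residueField x) :=
    (resQuot hU x hx).toAlgebra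
  letI a4 : Algebra (Γ(S, V) ⧸ (hV.primeIdealOf ⟨f.base x, e hx⟩).asIdeal)
    (S.residueField (f.base x)) := (resQuot hV (f.base x) (e hx)).toAlgebra
  letI a5 : Algebra (Γ(S, V) ⧸ (hV.primeIdealOf ⟨f.base x, e hx⟩).asIdeal) (X.residueField x) :=
    ((resQuot hU x hx).comp (quotMap f hU hV e x hx)).toAlgebra
  haveI : IsScalarTower (Γ(S, V) ⧸ (hV.primeIdealOf ⟨f.base x, e hx⟩).asIdeal)
      (Γ(X, U) ⧸ (hU.primeIdealOf ⟨x, hx⟩).asIdeal) (X.residueField x) :=
    IsScalarTower.of_algebraMap_eq fun d => rfl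
  haveI : IsScalarTower (Γ(S, V) ⧸ (hV.primeIdealOf ⟨f.base x, e hx⟩).asIdeal)
      (S.residueField (f.base x)) (X.residueField x) :=
    IsScalarTower.of_algebraMap_eq fun d => by
      obtain ⟨a, rfl⟩ := Ideal.Quotient.mk_surjective d
      change resQuot hU x hx (quotMap f hU hV e x hx (Ideal.Quotient.mk _ a)) =
        (f.residueFieldMap x).hom (resQuot hV (f.base x) (e hx) (Ideal.Quotient.mk _ a))
      rw [quotMap_mk, resQuot_mk, resQuot_mk, residueFieldMap_toRes]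
  haveI : FaithfulSMul (Γ(S, V) ⧸ (hV.primeIdealOf ⟨f.base x, e hx⟩).asIdeal)
      (Γ(X, U) ⧸ (hU.primeIdealOf ⟨x, hx⟩).asIdeal) :=
    (faithfulSMul_iff_algebraMap_injective _ _).mpr (quotMap_injective f hU hV e x hx)
  haveI : FaithfulSMul (Γ(X, U) ⧸ (hU.primeIdealOf ⟨x, hx⟩).asIdeal) (X.residueField x) :=
    (faithfulSMul_iff_algebraMap_injective _ _).mpr (resQuot_injective hU x hx)
  haveI : FaithfulSMul (Γ(S, V) ⧸ (hV.primeIdealOf ⟨f.base x, e hx⟩).asIdeal)
      (S.residueField (f.base x)) :=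
    (faithfulSMul_iff_algebraMap_injective _ _).mpr (resQuot_injective hV (f.base x) (e hx))
  haveI : FaithfulSMul (S.residueField (f.base x)) (X.residueField x) :=
    (faithfulSMul_iff_algebraMap_injective _ _).mpr (f.residueFieldMap x).hom.injective
  haveI : Algebra.IsAlgebraic (Γ(X, U) ⧸ (hU.primeIdealOf ⟨x, hx⟩).asIdeal)
      (X.residueField x) := isAlgebraic_resQuot hU x hx
  haveI : Algebra.IsAlgebraic (Γ(S, V) ⧸ (hV.primeIdealOf ⟨f.base x, e hx⟩).asIdeal)
      (S.residueField (f.base x)) := isAlgebraic_resQuot hV (f.base x) (e hx)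
  haveI : (hV.primeIdealOf ⟨f.base x, e hx⟩).asIdeal.IsPrime := (hV.primeIdealOf _).2
  rw [Groth.Agent.DimIneqH8.trdeg_eq_of_algebraic_top
      (Γ(S, V) ⧸ (hV.primeIdealOf ⟨f.base x, e hx⟩).asIdeal)
      (Γ(X, U) ⧸ (hU.primeIdealOf ⟨x, hx⟩).asIdeal) (X.residueField x),
    Groth.Agent.DimIneqH8.trdeg_eq_of_algebraic_bot
      (Γ(S, V) ⧸ (hV.primeIdealOf ⟨f.base x, e hx⟩).asIdeal)
      (S.residueField (f.base x)) (X.residueField x)]

end Groth.Agent.ResQuotH8
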