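import Mathlib
import Groth.Agent.Lib.ResQuot_helper8

/-! Finiteness of the transcendence degree of residue field extensions of morphisms locally of
finite type. -/

universe u

open AlgebraicGeometry CategoryTheory IsLocalRing TopologicalSpace Opposite

namespace Groth.Agent.ResQuot2H8

open Groth.Agent.SchFTH8 Groth.Agent.ResQuotH8

theorem finiteType_quotientMap {R B : Type u} [CommRing R] [CommRing B] (φ : R →+* B)
    (hφ : φ.FiniteType) (q : Ideal B) (p : Ideal R) (hp : p = q.comap φ) :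
    (Ideal.quotientMap q φ (le_of_eq hp)).FiniteType := by
  subst hp
  letI algRB : Algebra R B := φ.toAlgebra
  haveI hft : Algebra.FiniteType R B := hφ
  letI alg0 : Algebra (R ⧸ q.comap φ) (B ⧸ q) := (Ideal.quotientMap q φ le_rfl).toAlgebra
  have halg0 : ∀ a : R, algebraMap (R ⧸ q.comap φ) (B ⧸ q) (Ideal.Quotient.mk _ a) =
      Ideal.Quotient.mk q (φ a) := fun a => Ideal.quotientMap_mk
  haveI : IsScalarTower R (R ⧸ q.comap φ) (B ⧸ q) := IsScalarTower.of_algebraMap_eq fun a => by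
    rw [Ideal.Quotient.algebraMap_eq, halg0]
    rfl
  haveI : Algebra.FiniteType R (B ⧸ q) :=
    Algebra.FiniteType.of_surjective (Ideal.Quotient.mkₐ R q) (Ideal.Quotient.mkₐ_surjective R q)
  exact Algebra.FiniteType.of_restrictScalars_finiteType R (R ⧸ q.comap φ) (B ⧸ q)

variable {X S : Scheme.{u}} (f : X ⟶ S)

theorem exists_trdeg_nat [LocallyOfFiniteType f] (x : X) :
    ∃ n : ℕ, @Algebra.trdeg (S.residueField (f.base x)) (X.residueField x) _ _
      (f.residueFieldMap x).hom.toAlgebra = n := by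
  obtain ⟨_, ⟨V, hV, rfl⟩, hfxV, -⟩ :=
    S.isBasis_affineOpens.exists_subset_of_mem_open (Set.mem_univ (f.base x)) isOpen_univ
  obtain ⟨_, ⟨U, hU, rfl⟩, hxU, hUV⟩ :=
    X.isBasis_affineOpens.exists_subset_of_mem_open (show x ∈ (f ⁻¹ᵁ V : Set X) from hfxV)
      (f ⁻¹ᵁ V).2
  have e : U ≤ f ⁻¹ᵁ V := hUV
  have hφ : (f.appLE V U e).hom.FiniteType :=
    HasRingHomProperty.appLE (P := @LocallyOfFiniteType) f inferInstance ⟨V, hV⟩ ⟨U, hU⟩ e
  rw [trdeg_residueFieldMap f hU hV e x hxU]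
  letI := (quotMap f hU hV e x hxU).toAlgebra
  haveI : Algebra.FiniteType (Γ(S, V) ⧸ (hV.primeIdealOf ⟨f.base x, e hxU⟩).asIdeal)
      (Γ(X, U) ⧸ (hU.primeIdealOf ⟨x, hxU⟩).asIdeal) :=
    finiteType_quotientMap (f.appLE V U e).hom hφ _ _ (primeIdealOf_map f hU hV e x hxU)
  haveI : (hV.primeIdealOf ⟨f.base x, e hxU⟩).asIdeal.IsPrime := (hV.primeIdealOf _).2
  have := _root_.trdeg_lt_aleph0_of_finiteType
    (R := Γ(S, V) ⧸ (hV.primeIdealOf ⟨f.base x, e hxU⟩).asIdeal)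
    (S := Γ(X, U) ⧸ (hU.primeIdealOf ⟨x, hxU⟩).asIdeal)
  obtain ⟨n, hn⟩ := Cardinal.lt_aleph0.mp this
  exact ⟨n, hn⟩

end Groth.Agent.ResQuot2H8
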