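import Mathlib
import Groth.Agent.Lib.DimEqLoc_helper8
import Groth.Agent.Lib.ResQuot2_helper8

/-! The dimension formula (equality) for a pair of primes of a finite type algebra, under a
universal catenarity hypothesis on the local ring of the base. -/

universe u

open Ideal

namespace Groth.Agent.DimEqQH8

/-- Transfer of universal catenarity from a local ring `O = R_p` to polynomial rings over the
local ring of `R/p0` at `p/p0`. -/
theorem isCatenary_mvPolynomial_of_isLocalization {R : Type u} [CommRing R] (p0 p : Ideal R)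
    [hp0 : p0.IsPrime] [hp : p.IsPrime] (hpp : p0 ≤ p)
    (O : Type u) [CommRing O] [Algebra R O] [IsLocalization.AtPrime O p]
    (hO : CAlg.IsUniversallyCatenary O)
    [hp' : (p.map (Ideal.Quotient.mk p0)).IsPrime] (n : ℕ) :
    CAlg.IsCatenary (MvPolynomial (Fin n)
      (Localization.AtPrime (p.map (Ideal.Quotient.mk p0)))) := by
  classical
  set p' : Ideal (R ⧸ p0) := p.map (Ideal.Quotient.mk p0) with hp'def
  let g0 : R →+* Localization.AtPrime p' :=
    (algebraMap (R ⧸ p0) (Localization.AtPrime p')).comp (Ideal.Quotient.mk p0)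
  have hg0 : ∀ y : p.primeCompl, IsUnit (g0 y) := by
    intro y
    have : Ideal.Quotient.mk p0 (y : R) ∈ p'.primeCompl := by
      change Ideal.Quotient.mk p0 (y : R) ∉ p'
      rw [hp'def, Ideal.mem_quotient_iff_mem hpp]
      exact y.2
    exact IsLocalization.map_units (Localization.AtPrime p')
      (⟨Ideal.Quotient.mk p0 (y : R), this⟩ : p'.primeCompl)
  let g : O →+* Localization.AtPrime p' := IsLocalization.lift hg0
  have hgs : Function.Surjective g := by
    intro z
    obtain ⟨b, t, rfl⟩ := IsLocalization.exists_mk'_eq p'.primeCompl z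
    obtain ⟨a, rfl⟩ := Ideal.Quotient.mk_surjective b
    obtain ⟨t, ht⟩ := t
    obtain ⟨s, rfl⟩ := Ideal.Quotient.mk_surjective t
    have hs : s ∈ p.primeCompl := by
      intro hsp
      apply ht
      rw [SetLike.mem_coe, hp'def, Ideal.mem_quotient_iff_mem hpp]
      exact hsp
    refine ⟨IsLocalization.mk' O a (⟨s, hs⟩ : p.primeCompl), ?_⟩
    rw [IsLocalization.lift_mk'_spec]
    change algebraMap (R ⧸ p0) _ (Ideal.Quotient.mk p0 a) =
      algebraMap (R ⧸ p0) _ (Ideal.Quotient.mk p0 s) * _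
    rw [mul_comm]
    exact (IsLocalization.mk'_spec (Localization.AtPrime p') _ _).symm
  have hG : @RingHom.FiniteType O (MvPolynomial (Fin n) (Localization.AtPrime p')) _ _
      ((algebraMap (Localization.AtPrime p')
      (MvPolynomial (Fin n) (Localization.AtPrime p'))).comp g) := by
    refine @RingHom.FiniteType.comp O (Localization.AtPrime p')
      (MvPolynomial (Fin n) (Localization.AtPrime p')) _ _ _ _ _ ?_
      (RingHom.FiniteType.of_surjective g hgs)
    exact RingHom.finiteType_algebraMap.mpr inferInstance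
  letI : Algebra O (MvPolynomial (Fin n) (Localization.AtPrime p')) :=
    @RingHom.toAlgebra O (MvPolynomial (Fin n) (Localization.AtPrime p')) _ _
    ((algebraMap (Localization.AtPrime p')
      (MvPolynomial (Fin n) (Localization.AtPrime p'))).comp g)
  exact hO.2 _ hG

/-- The dimension formula with equality for primes `q0 ≤ q` of a finite type algebra. -/
theorem dim_eq_quot {R B : Type u} [CommRing R] [CommRing B] [IsNoetherianRing R]
    (φ : R →+* B) (hφ : φ.FiniteType) (q0 q : Ideal B) [hq0 : q0.IsPrime] [hq : q.IsPrime]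
    (hqq : q0 ≤ q) (p0 p : Ideal R) (hp0 : p0 = q0.comap φ) (hp : p = q.comap φ)
    [hp0p : p0.IsPrime] [hpp : p.IsPrime]
    (O : Type u) [CommRing O] [Algebra R O] [IsLocalization.AtPrime O p]
    (hO : CAlg.IsUniversallyCatenary O) :
    ∃ a b r r0 : ℕ, (q.map (Ideal.Quotient.mk q0)).height = a ∧
      (p.map (Ideal.Quotient.mk p0)).height = b ∧
      @Algebra.trdeg (R ⧸ p) (B ⧸ q) _ _ (Ideal.quotientMap q φ (le_of_eq hp)).toAlgebra = r ∧
      @Algebra.trdeg (R ⧸ p0) (B ⧸ q0) _ _
        (Ideal.quotientMap q0 φ (le_of_eq hp0)).toAlgebra = r0 ∧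
      a + r = b + r0 := by
  classical
  have hpp0 : p0 ≤ p := by rw [hp0, hp]; exact Ideal.comap_mono hqq
  letI algRB : Algebra R B := φ.toAlgebra
  haveI hft : Algebra.FiniteType R B := hφ
  letI alg0 : Algebra (R ⧸ p0) (B ⧸ q0) := (Ideal.quotientMap q0 φ (le_of_eq hp0)).toAlgebra
  have halg0 : ∀ a : R, algebraMap (R ⧸ p0) (B ⧸ q0) (Ideal.Quotient.mk p0 a) =
      Ideal.Quotient.mk q0 (φ a) := fun a => Ideal.quotientMap_mk
  haveI : Algebra.FiniteType (R ⧸ p0) (B ⧸ q0) :=
    Groth.Agent.ResQuot2H8.finiteType_quotientMap φ hφ q0 p0 hp0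
  haveI : FaithfulSMul (R ⧸ p0) (B ⧸ q0) :=
    (faithfulSMul_iff_algebraMap_injective _ _).mpr
      (Ideal.quotientMap_injective' (le_of_eq hp0.symm))
  set p' : Ideal (R ⧸ p0) := p.map (Ideal.Quotient.mk p0) with hp'
  set q' : Ideal (B ⧸ q0) := q.map (Ideal.Quotient.mk q0) with hq'
  haveI hp'p : p'.IsPrime :=
    Ideal.map_isPrime_of_surjective Ideal.Quotient.mk_surjective (by rwa [Ideal.mk_ker])
  haveI hq'p : q'.IsPrime :=
    Ideal.map_isPrime_of_surjective Ideal.Quotient.mk_surjective (by rwa [Ideal.mk_ker])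
  haveI hlies : q'.LiesOver p' := ⟨by
    ext d
    obtain ⟨a, rfl⟩ := Ideal.Quotient.mk_surjective d
    rw [Ideal.under, Ideal.mem_comap, halg0, hp', hq', Ideal.mem_quotient_iff_mem hpp0,
      Ideal.mem_quotient_iff_mem hqq, hp]
    rfl⟩
  have hcat : ∀ n : ℕ, CAlg.IsCatenary (MvPolynomial (Fin n) (Localization.AtPrime p')) :=
    fun n => isCatenary_mvPolynomial_of_isLocalization p0 p hpp0 O hO n
  obtain ⟨a, b, rq, rS, ha, hb, h1, h2, h3⟩ :=
    Groth.Agent.DimEqLocH8.height_add_trdeg_eq_of_localization (R ⧸ p0) (B ⧸ q0) p' q' hcat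
  refine ⟨a, b, rq, rS, ha, hb, ?_, h2, h3⟩
  rw [← h1]
  symm
  letI alg1 : Algebra (R ⧸ p) (B ⧸ q) := (Ideal.quotientMap q φ (le_of_eq hp)).toAlgebra
  refine Groth.Agent.DimIneqH8.trdeg_eq_of_ringEquiv
    (DoubleQuot.quotQuotEquivQuotOfLE hpp0) (DoubleQuot.quotQuotEquivQuotOfLE hqq) (fun d => ?_)
  obtain ⟨d', rfl⟩ := Ideal.Quotient.mk_surjective d
  obtain ⟨a', rfl⟩ := Ideal.Quotient.mk_surjective d'
  rw [Ideal.Quotient.algebraMap_mk_of_liesOver, halg0]
  change DoubleQuot.quotQuotEquivQuotOfLE hqq (DoubleQuot.quotQuotMk _ _ (φ a')) =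
    algebraMap (R ⧸ p) (B ⧸ q) (DoubleQuot.quotQuotEquivQuotOfLE hpp0
      (DoubleQuot.quotQuotMk _ _ a'))
  rw [DoubleQuot.quotQuotEquivQuotOfLE_quotQuotMk, DoubleQuot.quotQuotEquivQuotOfLE_quotQuotMk]
  exact (Ideal.quotientMap_mk).symm

end Groth.Agent.DimEqQH8
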