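import Mathlib
import Groth.Agent.Lib.DimEqQ_helper8
import Groth.Agent.Lib.ResQuot_helper8
import Groth.Agent.Lib.DimFT2_helper8
import Groth.Agent.Lib.SchFT_helper8

/-! Scheme-level dimension formula (equality) for irreducible source and target. -/

universe u

open CategoryTheory CategoryTheory.Limits AlgebraicGeometry

namespace Groth.Agent.DimEqSchH8

theorem height_map_mk_of_le_all {B : Type*} [CommRing B] [IsNoetherianRing B] (q0 q : Ideal B)
    [hq0 : q0.IsPrime] [hq : q.IsPrime] (h : ∀ q' : Ideal B, q'.IsPrime → q0 ≤ q') :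
    (q.map (Ideal.Quotient.mk q0)).height = q.height := by
  obtain ⟨q1, hq1min, hq1q, hht⟩ := Groth.Agent.DimFT2H8.exists_minimalPrimes_height_map_eq q
  have h1 : q0 ≤ q1 := h q1 hq1min.1.1
  have h2 : q1 ≤ q0 := hq1min.2 ⟨hq0, bot_le⟩ h1
  have : q1 = q0 := le_antisymm h2 h1
  subst this
  exact hht

theorem primeIdealOf_le_of_generic {X : Scheme.{u}} {U : X.Opens} (hU : IsAffineOpen U) (ξ : X)
    (hξU : ξ ∈ U) (hξ : ∀ x' : X, ξ ⤳ x') (q' : Ideal Γ(X, U)) (hq' : q'.IsPrime) :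
    (hU.primeIdealOf ⟨ξ, hξU⟩).asIdeal ≤ q' := by
  have hz := Groth.Agent.SchFTH8.fromSpec_mem hU ⟨q', hq'⟩
  have h1 := (Groth.Agent.SchFTH8.specializes_iff_primeIdealOf_le hU ξ _ hξU hz).mp (hξ _)
  rw [Groth.Agent.SchFTH8.primeIdealOf_fromSpec hU ⟨q', hq'⟩ hz] at h1
  exact h1

/-- Dimension formula (equality) at the level of schemes: `X` and `S` have generic points `ξ` and
`f ξ`, `O_{S, f x}` universally catenary. -/
theorem dim_formula_eq {X S : Scheme.{u}} [IsLocallyNoetherian S]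
    (f : X ⟶ S) [LocallyOfFiniteType f] (ξ x : X) (hξ : ∀ x' : X, ξ ⤳ x')
    (hη : ∀ s' : S, f.base ξ ⤳ s')
    (hcat : CAlg.IsUniversallyCatenary (S.presheaf.stalk (f.base x))) (n E : ℕ)
    (hn : @Algebra.trdeg (S.residueField (f.base x)) (X.residueField x) _ _
      (f.residueFieldMap x).hom.toAlgebra = n)
    (hE : @Algebra.trdeg (S.residueField (f.base ξ)) (X.residueField ξ) _ _
      (f.residueFieldMap ξ).hom.toAlgebra = E) :
    ringKrullDim (X.presheaf.stalk x) + n = ringKrullDim (S.presheaf.stalk (f.base x)) + E := by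
  classical
  obtain ⟨_, ⟨V, hV, rfl⟩, hfxV, -⟩ :=
    S.isBasis_affineOpens.exists_subset_of_mem_open (Set.mem_univ (f.base x)) isOpen_univ
  obtain ⟨_, ⟨U, hU, rfl⟩, hxU, hUV⟩ :=
    X.isBasis_affineOpens.exists_subset_of_mem_open (show x ∈ (f ⁻¹ᵁ V : Set X) from hfxV)
      (f ⁻¹ᵁ V).2
  have e : U ≤ f ⁻¹ᵁ V := hUV
  haveI hRn : IsNoetherianRing Γ(S, V) := IsLocallyNoetherian.component_noetherian ⟨V, hV⟩
  have hφ : (f.appLE V U e).hom.FiniteType :=
    HasRingHomProperty.appLE (P := @LocallyOfFiniteType) f inferInstance ⟨V, hV⟩ ⟨U, hU⟩ e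
  haveI hBn : IsNoetherianRing Γ(X, U) := by
    letI := (f.appLE V U e).hom.toAlgebra
    haveI : Algebra.FiniteType Γ(S, V) Γ(X, U) := hφ
    exact Algebra.FiniteType.isNoetherianRing Γ(S, V) Γ(X, U)
  have hξU : ξ ∈ U := (hξ x).mem_open U.2 hxU
  set q := (hU.primeIdealOf ⟨x, hxU⟩).asIdeal with hq
  haveI hqp : q.IsPrime := (hU.primeIdealOf ⟨x, hxU⟩).2
  set q0 := (hU.primeIdealOf ⟨ξ, hξU⟩).asIdeal with hq0
  haveI hq0p : q0.IsPrime := (hU.primeIdealOf ⟨ξ, hξU⟩).2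
  have hqq : q0 ≤ q := primeIdealOf_le_of_generic hU ξ hξU hξ q hqp
  set p := (hV.primeIdealOf ⟨f.base x, e hxU⟩).asIdeal with hp
  haveI hpp : p.IsPrime := (hV.primeIdealOf ⟨f.base x, e hxU⟩).2
  set p0 := (hV.primeIdealOf ⟨f.base ξ, e hξU⟩).asIdeal with hp0
  haveI hp0p : p0.IsPrime := (hV.primeIdealOf ⟨f.base ξ, e hξU⟩).2
  letI algO : Algebra Γ(S, V) (S.presheaf.stalk (f.base x)) :=
    TopCat.Presheaf.algebra_section_stalk S.presheaf ⟨f.base x, e hxU⟩
  haveI hloc : IsLocalization.AtPrime (S.presheaf.stalk (f.base x)) p :=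
    hV.isLocalization_stalk ⟨f.base x, e hxU⟩
  obtain ⟨a, b, r, r0, ha, hb, hr, hr0, hsum⟩ :=
    Groth.Agent.DimEqQH8.dim_eq_quot (f.appLE V U e).hom hφ q0 q hqq p0 p
      (Groth.Agent.ResQuotH8.primeIdealOf_map f hU hV e ξ hξU)
      (Groth.Agent.ResQuotH8.primeIdealOf_map f hU hV e x hxU)
      (S.presheaf.stalk (f.base x)) hcat
  have hrx := Groth.Agent.ResQuotH8.trdeg_residueFieldMap f hU hV e x hxU
  have hrξ := Groth.Agent.ResQuotH8.trdeg_residueFieldMap f hU hV e ξ hξU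
  have hrn : r = n := by
    have h1 : ((r : ℕ) : Cardinal) = ((n : ℕ) : Cardinal) := by
      rw [← hn, hrx]; exact hr.symm
    exact_mod_cast h1
  have hr0E : r0 = E := by
    have h1 : ((r0 : ℕ) : Cardinal) = ((E : ℕ) : Cardinal) := by
      rw [← hE, hrξ]; exact hr0.symm
    exact_mod_cast h1
  have hax : q.height = a := by
    rw [← ha]
    exact (height_map_mk_of_le_all q0 q (primeIdealOf_le_of_generic hU ξ hξU hξ)).symm
  have hbx : p.height = b := by
    rw [← hb]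
    exact (height_map_mk_of_le_all p0 p
      (primeIdealOf_le_of_generic hV (f.base ξ) (e hξU) hη)).symm
  rw [Groth.Agent.SchFTH8.ringKrullDim_stalk_eq_height hU x hxU,
    Groth.Agent.SchFTH8.ringKrullDim_stalk_eq_height hV (f.base x) (e hxU), ← hq, hax, ← hp, hbx]
  have : a + n = b + E := by omega
  exact_mod_cast this

end Groth.Agent.DimEqSchH8
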