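import Mathlib

/-! Quotients of localizations at primes: dimension. -/

universe u

namespace LocQuotH8

/-- dimension of the quotient of a localization at a prime by an extended prime. -/
theorem ringKrullDim_quot_localization {R : Type*} [CommRing R] (p0 p : Ideal R)
    [hp0 : p0.IsPrime] [hp : p.IsPrime] (h : p0 ≤ p)
    (O : Type*) [CommRing O] [Algebra R O] [IsLocalization.AtPrime O p] :
    ringKrullDim (O ⧸ p0.map (algebraMap R O)) = (p.map (Ideal.Quotient.mk p0)).height := by
  haveI hp' : (p.map (Ideal.Quotient.mk p0)).IsPrime :=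
    Ideal.map_isPrime_of_surjective Ideal.Quotient.mk_surjective (by rwa [Ideal.mk_ker])
  have hloc : IsLocalization (Algebra.algebraMapSubmonoid (R ⧸ p0) p.primeCompl)
      (O ⧸ p0.map (algebraMap R O)) := inferInstance
  have hsub : Algebra.algebraMapSubmonoid (R ⧸ p0) p.primeCompl =
      (p.map (Ideal.Quotient.mk p0)).primeCompl := by
    ext a
    constructor
    · rintro ⟨b, hb, rfl⟩
      intro hmem
      apply hb
      exact (Ideal.mem_quotient_iff_mem h).mp hmem
    · intro ha
      obtain ⟨b, rfl⟩ := Ideal.Quotient.mk_surjective a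
      refine ⟨b, ?_, rfl⟩
      intro hb
      apply ha
      exact Ideal.mem_map_of_mem _ hb
  rw [hsub] at hloc
  haveI : IsLocalization.AtPrime (O ⧸ p0.map (algebraMap R O)) (p.map (Ideal.Quotient.mk p0)) :=
    hloc
  exact IsLocalization.AtPrime.ringKrullDim_eq_height (p.map (Ideal.Quotient.mk p0)) _

end LocQuotH8
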