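import Mathlib
import Groth.Prelude.Def_EGA43
import Groth.Agent.Lib.DimEqSch_helper8
import Groth.Agent.Lib.LocQuot_helper8

/-! Dimension formula (with equality) relative to a prime of the stalk. -/

universe u
open AlgebraicGeometry CategoryTheory TopologicalSpace

namespace DimPrimeH8

theorem ringKrullDim_quot_congr {R : Type*} [CommRing R] {I J : Ideal R} (h : I = J) :
    ringKrullDim (R ⧸ I) = ringKrullDim (R ⧸ J) := by
  subst h; rfl

/-- the chart prime of the point corresponding to a prime of the stalk. -/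
theorem primeIdealOf_fromSpecStalk {X : Scheme.{u}} {U : X.Opens} (hU : IsAffineOpen U) (x : X)
    (hxU : x ∈ U) (P : Spec (X.presheaf.stalk x)) (h₀ : X.fromSpecStalk x P ∈ U) :
    (hU.primeIdealOf ⟨X.fromSpecStalk x P, h₀⟩).asIdeal =
      P.asIdeal.comap (X.presheaf.germ U x hxU).hom := by
  have key : ∀ (x₀ : X) (hx₀U : x₀ ∈ U) (Q : PrimeSpectrum Γ(X, U)), x₀ = hU.fromSpec Q →
      (hU.primeIdealOf ⟨x₀, hx₀U⟩).asIdeal = Q.asIdeal := by
    rintro _ hz Q rfl
    rw [Groth.Agent.SchFTH8.primeIdealOf_fromSpec hU Q hz]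
  refine key _ h₀ ⟨P.asIdeal.comap (X.presheaf.germ U x hxU).hom, inferInstance⟩ ?_
  rw [← hU.fromSpecStalk_eq_fromSpecStalk hxU, IsAffineOpen.fromSpecStalk, Scheme.Hom.comp_apply]
  rfl


/-- **Dimension formula with equality relative to a prime `P` of the stalk** (EGA IV 5.6.5-type,
component-wise). -/
theorem dim_formula_prime {X S : Scheme.{u}} [IsLocallyNoetherian S]
    (f : X ⟶ S) [LocallyOfFiniteType f] (x : X) (P : Spec (X.presheaf.stalk x))
    (hcat : CAlg.IsUniversallyCatenary (S.presheaf.stalk (f.base x))) (n E : ℕ)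
    (hn : @Algebra.trdeg (S.residueField (f.base x)) (X.residueField x) _ _
      (f.residueFieldMap x).hom.toAlgebra = n)
    (hE : @Algebra.trdeg (S.residueField (f.base (X.fromSpecStalk x P)))
      (X.residueField (X.fromSpecStalk x P)) _ _
      (f.residueFieldMap (X.fromSpecStalk x P)).hom.toAlgebra = E) :
    ringKrullDim (X.presheaf.stalk x ⧸ P.asIdeal) + n =
      ringKrullDim (S.presheaf.stalk (f.base x) ⧸ P.asIdeal.comap (f.stalkMap x).hom) + E := by
  classical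
  have hξx : X.fromSpecStalk x P ⤳ x := by
    have : X.fromSpecStalk x P ∈ Set.range (X.fromSpecStalk x) := ⟨P, rfl⟩
    rw [Scheme.range_fromSpecStalk] at this; exact this
  generalize hξdef : X.fromSpecStalk x P = ξ at hE hξx
  obtain ⟨_, ⟨V, hV, rfl⟩, hfxV, -⟩ :=
    S.isBasis_affineOpens.exists_subset_of_mem_open (Set.mem_univ (f.base x)) isOpen_univ
  obtain ⟨_, ⟨U, hU, rfl⟩, hxU, hUV⟩ :=
    X.isBasis_affineOpens.exists_subset_of_mem_open (show x ∈ (f ⁻¹ᵁ V : Set X) from hfxV)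
      (f ⁻¹ᵁ V).2
  have e : U ≤ f ⁻¹ᵁ V := hUV
  haveI hRn : IsNoetherianRing Γ(S, V) := IsLocallyNoetherian.component_noetherian ⟨V, hV⟩
  have hφ : (f.appLE V U e).hom.FiniteType :=
    HasRingHomProperty.appLE (P := @LocallyOfFiniteType) f inferInstance ⟨V, hV⟩ ⟨U, hU⟩ e
  have hξU : ξ ∈ U := hξx.mem_open U.2 hxU
  set q := (hU.primeIdealOf ⟨x, hxU⟩).asIdeal with hq
  haveI hqp : q.IsPrime := (hU.primeIdealOf ⟨x, hxU⟩).2
  set q0 := (hU.primeIdealOf ⟨ξ, hξU⟩).asIdeal with hq0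
  haveI hq0p : q0.IsPrime := (hU.primeIdealOf ⟨ξ, hξU⟩).2
  have hqq : q0 ≤ q :=
    (Groth.Agent.SchFTH8.specializes_iff_primeIdealOf_le hU ξ x hξU hxU).mp hξx
  set p := (hV.primeIdealOf ⟨f.base x, e hxU⟩).asIdeal with hp
  haveI hpp : p.IsPrime := (hV.primeIdealOf ⟨f.base x, e hxU⟩).2
  set p0 := (hV.primeIdealOf ⟨f.base ξ, e hξU⟩).asIdeal with hp0
  haveI hp0p : p0.IsPrime := (hV.primeIdealOf ⟨f.base ξ, e hξU⟩).2
  have hpp0 : p0 ≤ p :=
    (Groth.Agent.SchFTH8.specializes_iff_primeIdealOf_le hV (f.base ξ) (f.base x) (e hξU)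
      (e hxU)).mp (hξx.map f.continuous)
  letI algO : Algebra Γ(S, V) (S.presheaf.stalk (f.base x)) :=
    TopCat.Presheaf.algebra_section_stalk S.presheaf ⟨f.base x, e hxU⟩
  haveI hloc : IsLocalization.AtPrime (S.presheaf.stalk (f.base x)) p :=
    hV.isLocalization_stalk ⟨f.base x, e hxU⟩
  have hp0eq : p0 = q0.comap (f.appLE V U e).hom :=
    Groth.Agent.ResQuotH8.primeIdealOf_map f hU hV e ξ hξU
  obtain ⟨a, b, r, r0, ha, hb, hr, hr0, hsum⟩ :=
    Groth.Agent.DimEqQH8.dim_eq_quot (f.appLE V U e).hom hφ q0 q hqq p0 p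
      hp0eq
      (Groth.Agent.ResQuotH8.primeIdealOf_map f hU hV e x hxU)
      (S.presheaf.stalk (f.base x)) hcat
  have hrx := Groth.Agent.ResQuotH8.trdeg_residueFieldMap f hU hV e x hxU
  have hrξ := Groth.Agent.ResQuotH8.trdeg_residueFieldMap f hU hV e ξ hξU
  have hrn : r = n := by
    have h1 : ((r : ℕ) : Cardinal) = ((n : ℕ) : Cardinal) := by
      rw [← hn, hrx]; exact hr.symm
    exact_mod_cast h1
  have hr0E : r0 = E := by
    have h1 : ((r0 : ℕ) : Cardinal) = ((E : ℕ) : Cardinal) := by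
      rw [← hE, hrξ]; exact hr0.symm
    exact_mod_cast h1
  -- the stalk of `X`
  letI algX : Algebra Γ(X, U) (X.presheaf.stalk x) :=
    TopCat.Presheaf.algebra_section_stalk X.presheaf ⟨x, hxU⟩
  haveI hlocX : IsLocalization.AtPrime (X.presheaf.stalk x) q :=
    hU.isLocalization_stalk ⟨x, hxU⟩
  have hq0P : q0 = P.asIdeal.comap (algebraMap Γ(X, U) (X.presheaf.stalk x)) := by
    have h1 : X.fromSpecStalk x P ∈ U := hξdef ▸ hξU
    have h2 := primeIdealOf_fromSpecStalk hU x hxU P h1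
    have key : ∀ (ξ' : X) (h' : ξ' ∈ U), ξ' = ξ →
        (hU.primeIdealOf ⟨ξ', h'⟩).asIdeal = (hU.primeIdealOf ⟨ξ, hξU⟩).asIdeal := by
      rintro _ _ rfl; rfl
    rw [hq0, ← key _ h1 hξdef, h2]
    rfl
  have hP : P.asIdeal = q0.map (algebraMap Γ(X, U) (X.presheaf.stalk x)) := by
    rw [hq0P, IsLocalization.map_comap q.primeCompl]
  have hdimX : ringKrullDim (X.presheaf.stalk x ⧸ P.asIdeal) = (a : WithBot ℕ∞) := by
    rw [ringKrullDim_quot_congr hP, LocQuotH8.ringKrullDim_quot_localization q0 q hqq, ha]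
    rfl
  -- the stalk of `S`
  have hcomm : (f.stalkMap x).hom.comp (algebraMap Γ(S, V) (S.presheaf.stalk (f.base x))) =
      (algebraMap Γ(X, U) (X.presheaf.stalk x)).comp (f.appLE V U e).hom := by
    ext a
    change (f.stalkMap x).hom (S.presheaf.germ V (f.base x) (e hxU) a) =
      X.presheaf.germ U x hxU ((f.appLE V U e).hom a)
    erw [Scheme.Hom.germ_stalkMap_apply]
    rw [Scheme.Hom.appLE]
    simp only [CommRingCat.hom_comp, RingHom.comp_apply]
    exact (TopCat.Presheaf.germ_res_apply X.presheaf (homOfLE e) x hxU _).symm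
  have hp0𝔮 : p0 = (P.asIdeal.comap (f.stalkMap x).hom).comap
      (algebraMap Γ(S, V) (S.presheaf.stalk (f.base x))) := by
    rw [hp0eq, hq0P, Ideal.comap_comap, Ideal.comap_comap, hcomm]
  have h𝔮 : P.asIdeal.comap (f.stalkMap x).hom =
      p0.map (algebraMap Γ(S, V) (S.presheaf.stalk (f.base x))) := by
    rw [hp0𝔮, IsLocalization.map_comap p.primeCompl]
  have hdimS : ringKrullDim (S.presheaf.stalk (f.base x) ⧸ P.asIdeal.comap (f.stalkMap x).hom) =
      (b : WithBot ℕ∞) := by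
    rw [ringKrullDim_quot_congr h𝔮, LocQuotH8.ringKrullDim_quot_localization p0 p hpp0, hb]
    rfl
  rw [hdimX, hdimS]
  have : a + n = b + E := by omega
  exact_mod_cast this

end DimPrimeH8
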