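import Mathlib

/-!
# Heights of primes in integral extensions (helper5)
-/

set_option autoImplicit false
universe u v

namespace Groth.Agent.IntegralHeight

variable (A : Type u) (B : Type v) [CommRing A] [CommRing B] [Algebra A B]
  [Algebra.IsIntegral A B]

/-- Contraction of primes along an integral extension is strictly monotone (incomparability). -/
theorem comap_strictMono_of_isIntegral :
    StrictMono (fun P : PrimeSpectrum B =>
      (⟨P.asIdeal.comap (algebraMap A B), inferInstance⟩ : PrimeSpectrum A)) := by
  intro P P' h
  have hlt : P.asIdeal < P'.asIdeal := h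
  obtain ⟨hle, x, hxP', hxP⟩ := SetLike.lt_iff_le_and_exists.mp hlt
  exact Ideal.comap_lt_comap_of_integral_mem_sdiff hle ⟨hxP', hxP⟩
    (Algebra.IsIntegral.isIntegral x)

variable {B} in
/-- In an integral extension, `ht Q ≤ ht (Q ∩ A)`. -/
theorem height_le_height_comap_of_isIntegral (Q : Ideal B) [Q.IsPrime] :
    Q.height ≤ (Q.comap (algebraMap A B)).height := by
  have := Order.height_le_height_apply_of_strictMono _ (comap_strictMono_of_isIntegral A B)
    (⟨Q, inferInstance⟩ : PrimeSpectrum B)
  rwa [← PrimeSpectrum.height_eq_orderHeight, ← PrimeSpectrum.height_eq_orderHeight] at this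

/-- `dim B ≤ dim A` for an integral extension. -/
theorem ringKrullDim_le_of_isIntegral : ringKrullDim B ≤ ringKrullDim A :=
  Order.krullDim_le_of_strictMono _ (comap_strictMono_of_isIntegral A B)

/-- `dim A ≤ dim B` for an injective integral extension (lying over + going up). -/
theorem ringKrullDim_le_of_isIntegral_of_injective
    (hinj : Function.Injective (algebraMap A B)) : ringKrullDim A ≤ ringKrullDim B := by
  rw [ringKrullDim, Order.krullDim]
  refine iSup_le fun l => ?_
  haveI : FaithfulSMul A B := (faithfulSMul_iff_algebraMap_injective A B).2 hinj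
  obtain ⟨⟨P, hP1, hP2⟩⟩ := Ideal.nonempty_primesOver (S := B) l.head.asIdeal
  obtain ⟨L, hL, -, -⟩ := Ideal.exists_ltSeries_of_hasGoingUp l P
  rw [← hL]
  exact Order.LTSeries.length_le_krullDim L

theorem ringKrullDim_eq_of_isIntegral_of_injective
    (hinj : Function.Injective (algebraMap A B)) : ringKrullDim B = ringKrullDim A :=
  le_antisymm (ringKrullDim_le_of_isIntegral A B)
    (ringKrullDim_le_of_isIntegral_of_injective A B hinj)

end Groth.Agent.IntegralHeight
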