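import Mathlib
import Groth.Agent.Lib.IntegralHeight_helper5

/-! Krull dimension of a finite type algebra over a field is invariant under extension of the
base field; going-down and heights; dimension of basic opens. -/

universe u

open TensorProduct

namespace Groth.Agent.BCDimH8

/-- dimension of an algebra integral and injective over a polynomial ring over a field. -/
theorem dim_of_integral_inj {F P B : Type u} [Field F] [CommRing P] [CommRing B] (s : ℕ)
    (e : P ≃+* MvPolynomial (Fin s) F) (f : P →+* B) (hinj : Function.Injective f)
    (hint : f.IsIntegral) : ringKrullDim B = s := by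
  letI : Algebra P B := f.toAlgebra
  haveI : Algebra.IsIntegral P B := ⟨hint⟩
  have h1 := Groth.Agent.IntegralHeight.ringKrullDim_eq_of_isIntegral_of_injective P B hinj
  rw [h1, ringKrullDim_eq_of_ringEquiv e, MvPolynomial.ringKrullDim_of_isNoetherianRing,
    ringKrullDim_eq_zero_of_field]
  simp

/-- The Krull dimension of a finite type algebra over a field does not change under extension
of the base field. -/
theorem ringKrullDim_tensor_field (k K S : Type u) [Field k] [Field K] [Algebra k K] [CommRing S]
    [Algebra k S] [Algebra.FiniteType k S] :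
    ringKrullDim (K ⊗[k] S) = ringKrullDim S := by
  by_cases hS : Subsingleton S
  · haveI := hS
    haveI : Subsingleton (K ⊗[k] S) := by
      refine ⟨fun a b => ?_⟩
      have h0 : ∀ x : K ⊗[k] S, x = 0 := by
        intro x
        induction x using TensorProduct.induction_on with
        | zero => rfl
        | tmul a s => rw [Subsingleton.elim s 0, TensorProduct.tmul_zero]
        | add x y hx hy => rw [hx, hy, add_zero]
      rw [h0 a, h0 b]
    rw [ringKrullDim_eq_bot_of_subsingleton, ringKrullDim_eq_bot_of_subsingleton]
  haveI : Nontrivial S := not_subsingleton_iff_nontrivial.mp hS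
  obtain ⟨s, g, hginj, hgint⟩ := exists_integral_inj_algHom_of_fg k S
  have hS : ringKrullDim S = s :=
    dim_of_integral_inj s (RingEquiv.refl _) g.toRingHom hginj hgint
  rw [hS]
  let f : K ⊗[k] MvPolynomial (Fin s) k →ₐ[K] K ⊗[k] S :=
    Algebra.TensorProduct.map (AlgHom.id K K) g
  have hfinj : Function.Injective f := by
    have h := Module.Flat.lTensor_preserves_injective_linearMap (M := K) g.toLinearMap hginj
    intro a b hab
    apply h
    have hfa : ∀ x, f x = (g.toLinearMap.lTensor K) x := by
      intro x
      induction x using TensorProduct.induction_on with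
      | zero => simp
      | tmul a p => simp [f]
      | add x y hx hy => rw [map_add, map_add, hx, hy]
    rw [← hfa, ← hfa, hab]
  have hfint : f.toRingHom.IsIntegral := by
    intro x
    induction x using TensorProduct.induction_on with
    | zero => exact RingHom.isIntegralElem_zero _
    | tmul a t =>
      have h1 : a ⊗ₜ[k] t = f (a ⊗ₜ 1) * ((1 : K) ⊗ₜ[k] t) := by
        simp [f, Algebra.TensorProduct.tmul_mul_tmul]
      rw [h1]
      refine RingHom.IsIntegralElem.mul _ (RingHom.isIntegralElem_map _) ?_
      -- integrality of 1 ⊗ t
      obtain ⟨p, hpm, hp⟩ := hgint t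
      refine ⟨p.map (Algebra.TensorProduct.includeRight : MvPolynomial (Fin s) k →ₐ[k]
        K ⊗[k] MvPolynomial (Fin s) k).toRingHom, hpm.map _, ?_⟩
      rw [Polynomial.eval₂_map]
      have hcomp : f.toRingHom.comp (Algebra.TensorProduct.includeRight :
          MvPolynomial (Fin s) k →ₐ[k] K ⊗[k] MvPolynomial (Fin s) k).toRingHom =
          (Algebra.TensorProduct.includeRight : S →ₐ[k] K ⊗[k] S).toRingHom.comp g.toRingHom := by
        refine RingHom.ext fun q => ?_
        simp [f]
      rw [hcomp]
      have : ((1 : K) ⊗ₜ[k] t) = (Algebra.TensorProduct.includeRight : S →ₐ[k] K ⊗[k] S).toRingHom t := by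
        simp
      rw [this, ← Polynomial.hom_eval₂, hp, map_zero]
    | add x y hx hy => exact RingHom.IsIntegralElem.add _ hx hy
  exact dim_of_integral_inj s
    (MvPolynomial.algebraTensorAlgEquiv k K).toRingEquiv f.toRingHom hfinj hfint

/-- Going down implies that heights do not decrease. -/
theorem height_le_of_liesOver {R S : Type*} [CommRing R] [CommRing S] [Algebra R S]
    [Algebra.HasGoingDown R S] (p : Ideal R) [p.IsPrime] (P : Ideal S) [P.IsPrime]
    [P.LiesOver p] : p.height ≤ P.height := by
  have h1 := PrimeSpectrum.height_eq_orderHeight (⟨p, inferInstance⟩ : PrimeSpectrum R)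
  have h2 := PrimeSpectrum.height_eq_orderHeight (⟨P, inferInstance⟩ : PrimeSpectrum S)
  change p.height = _ at h1
  change P.height = _ at h2
  rw [h1, h2, Order.height_le_iff']
  intro l hl
  haveI : P.LiesOver l.last.asIdeal := by rw [hl]; infer_instance
  obtain ⟨L, hlen, hlast, -⟩ := Ideal.exists_ltSeries_of_hasGoingDown l P
  rw [← hlen]
  have := Order.length_le_height_last (p := L)
  rw [hlast] at this
  exact this

/-- dimension of a basic open subset of a prime spectrum. -/
theorem topologicalKrullDim_basicOpen (R : Type u) [CommRing R] (f : R) :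
    topologicalKrullDim ↥((PrimeSpectrum.basicOpen f : TopologicalSpace.Opens (PrimeSpectrum R)) :
      Set (PrimeSpectrum R)) = ringKrullDim (Localization.Away f) := by
  have hemb := PrimeSpectrum.localization_away_isOpenEmbedding (Localization.Away f) f
  have hrange := PrimeSpectrum.localization_away_comap_range (Localization.Away f) f
  rw [← PrimeSpectrum.topologicalKrullDim_eq_ringKrullDim]
  have e := hemb.isEmbedding.toHomeomorph
  rw [hrange] at e
  exact (IsHomeomorph.topologicalKrullDim_eq _ e.isHomeomorph).symm

end Groth.Agent.BCDimH8
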