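import Mathlib
import Groth.Agent.Lib.BCDim_helper8

/-! Chevalley semicontinuity, algebra part: Noether normalization of a fibre with parameters
coming from the total space. -/

universe u
open TensorProduct

namespace ChevH8

theorem exists_finite_param {A B : Type u} [CommRing A] [CommRing B] [Algebra A B]
    [Algebra.FiniteType A B] (p : Ideal A) [p.IsPrime] [Nontrivial (p.Fiber B)] :
    ∃ (d : ℕ) (b : Fin d → B), ringKrullDim (p.Fiber B) = d ∧
      (Algebra.TensorProduct.map (AlgHom.id p.ResidueField p.ResidueField)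
        (MvPolynomial.aeval b : MvPolynomial (Fin d) A →ₐ[A] B)).toRingHom.Finite := by
  obtain ⟨d, g0, hinj, hfin⟩ := exists_finite_inj_algHom_of_fg p.ResidueField (p.Fiber B)
  have hdim : ringKrullDim (p.Fiber B) = d :=
    Groth.Agent.BCDimH8.dim_of_integral_inj d (RingEquiv.refl _) g0.toRingHom hinj
      (RingHom.Finite.to_isIntegral hfin)
  choose a ha b hb using fun i => Ideal.Fiber.exists_smul_eq_one_tmul p (g0 (MvPolynomial.X i))
  refine ⟨d, b, hdim, ?_⟩
  -- unit of the residue field attached to `a i`
  have hane : ∀ i, algebraMap A p.ResidueField (a i) ≠ 0 := by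
    intro i h0
    apply ha i
    rwa [Ideal.algebraMap_residueField_eq_zero] at h0
  let τ : MvPolynomial (Fin d) p.ResidueField →ₐ[p.ResidueField]
      p.ResidueField ⊗[A] MvPolynomial (Fin d) A :=
    MvPolynomial.aeval fun i => (algebraMap A p.ResidueField (a i))⁻¹ ⊗ₜ[A] MvPolynomial.X i
  have hcomp : (Algebra.TensorProduct.map (AlgHom.id p.ResidueField p.ResidueField)
      (MvPolynomial.aeval b : MvPolynomial (Fin d) A →ₐ[A] B)).comp τ = g0 := by
    apply MvPolynomial.algHom_ext
    intro i
    simp only [τ, AlgHom.comp_apply, MvPolynomial.aeval_X, Algebra.TensorProduct.map_tmul,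
      AlgHom.coe_id, id_eq]
    have h1 := hb i
    -- `a i • g0 (X i) = 1 ⊗ b i`
    have h2 : (algebraMap A p.ResidueField (a i))⁻¹ ⊗ₜ[A] b i =
        (algebraMap A p.ResidueField (a i))⁻¹ • ((1 : p.ResidueField) ⊗ₜ[A] b i) := by
      rw [TensorProduct.smul_tmul', smul_eq_mul, mul_one]
    rw [h2, ← h1]
    have h3 : a i • g0 (MvPolynomial.X i) =
        algebraMap A p.ResidueField (a i) • g0 (MvPolynomial.X i) := by
      rw [algebraMap_smul]
    rw [h3, smul_smul, inv_mul_cancel₀ (hane i), one_smul]
  have hfin' : ((Algebra.TensorProduct.map (AlgHom.id p.ResidueField p.ResidueField)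
      (MvPolynomial.aeval b : MvPolynomial (Fin d) A →ₐ[A] B)).toRingHom.comp
        τ.toRingHom).Finite := by
    have : (Algebra.TensorProduct.map (AlgHom.id p.ResidueField p.ResidueField)
      (MvPolynomial.aeval b : MvPolynomial (Fin d) A →ₐ[A] B)).toRingHom.comp
        τ.toRingHom = g0.toRingHom := by
      rw [← hcomp]; rfl
    rw [this]; exact hfin
  exact RingHom.Finite.of_comp_finite hfin'

end ChevH8
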