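import Mathlib

universe u
open AlgebraicGeometry CategoryTheory

namespace EtDimH8

/-- Generic chain lifting: if strict lower bounds of `f x` lift to strict lower bounds of `x`,
then `height (f x) ≤ height x`. -/
theorem le_height_of_lift {α β : Type*} [Preorder α] [Preorder β] (f : α → β)
    (h : ∀ (x : α) (b : β), b < f x → ∃ x', x' < x ∧ f x' = b) :
    ∀ (n : ℕ) (p : LTSeries β), p.length = n → ∀ x : α, p.last ≤ f x →
      (n : ℕ∞) ≤ Order.height x := by
  intro n
  induction n with
  | zero => intro p _ x _; simp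
  | succ n ih =>
    intro p hp x hx
    have hne : p.length ≠ 0 := by omega
    have hlt : p.eraseLast.last < p.last := p.eraseLast_last_rel_last hne
    have hlt' : p.eraseLast.last < f x := lt_of_lt_of_le hlt hx
    obtain ⟨x', hx'lt, hfx'⟩ := h x _ hlt'
    have hlen : p.eraseLast.length = n := by
      rw [RelSeries.eraseLast_length]; omega
    have h1 := ih p.eraseLast hlen x' (le_of_eq hfx'.symm)
    calc ((n + 1 : ℕ) : ℕ∞) = (n : ℕ∞) + 1 := by push_cast; rfl
      _ ≤ Order.height x' + 1 := by gcongr
      _ ≤ Order.height x := Order.height_add_one_le hx'lt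

theorem height_le_of_lift {α β : Type*} [Preorder α] [Preorder β] (f : α → β)
    (h : ∀ (x : α) (b : β), b < f x → ∃ x', x' < x ∧ f x' = b) (x : α) :
    Order.height (f x) ≤ Order.height x := by
  apply Order.height_le
  intro p hp
  exact le_height_of_lift f h p.length p rfl x (le_of_eq hp)

theorem coheight_le_of_lift {α β : Type*} [Preorder α] [Preorder β] (f : α → β)
    (h : ∀ (x : α) (b : β), f x < b → ∃ x', x < x' ∧ f x' = b) (x : α) :
    Order.coheight (f x) ≤ Order.coheight x :=
  height_le_of_lift (α := αᵒᵈ) (β := βᵒᵈ) f (fun x b hb => h x b hb) x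

/-- For a generalizing map of schemes, `coheight (f x) ≤ coheight x`. -/
theorem coheight_le_of_generalizingMap {X Y : Scheme.{u}} (f : X ⟶ Y) (hg : GeneralizingMap f)
    (x : X) : Order.coheight (f x) ≤ Order.coheight x := by
  apply coheight_le_of_lift (fun x : X => f x)
  intro x b hb
  have hsp : b ⤳ f x := hb.le
  obtain ⟨x', hx', hfx'⟩ := hg hsp
  refine ⟨x', ?_, hfx'⟩
  have hle : x ≤ x' := hx'
  refine lt_of_le_not_ge hle ?_
  intro hge
  have h2 : x ⤳ x' := hge
  have h3 : f x ⤳ f x' := h2.map f.continuous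
  rw [hfx'] at h3
  exact (not_le_of_gt hb) h3

/-- A locally quasi-finite morphism is strictly monotone for the specialization order. -/
theorem strictMono_of_locallyQuasiFinite {X Y : Scheme.{u}} (f : X ⟶ Y) [LocallyQuasiFinite f] :
    StrictMono (fun x : X => f x) := by
  intro a b hab
  have h1 : b ⤳ a := hab.le
  have h2 : ¬ a ⤳ b := fun h => (not_le_of_gt hab) h
  have h3 : f b ⤳ f a := h1.map f.continuous
  refine lt_of_le_not_ge h3 ?_
  intro h4
  have h5 : f a ⤳ f b := h4
  have heq : f a = f b := (h5.antisymm h3).eq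
  have hdisc : _root_.IsDiscrete (f ⁻¹' {f b}) := f.isDiscrete_preimage_singleton (f b)
  haveI := hdisc.to_subtype
  have ha : a ∈ f ⁻¹' {f b} := heq
  have hb : b ∈ f ⁻¹' {f b} := rfl
  have h6 : (⟨b, hb⟩ : ↥(f ⁻¹' {f b})) ⤳ ⟨a, ha⟩ :=
    (Topology.IsInducing.subtypeVal.specializes_iff).mp h1
  have h7 : (⟨b, hb⟩ : ↥(f ⁻¹' {f b})) = ⟨a, ha⟩ := h6.eq
  have h8 : b = a := congrArg Subtype.val h7
  exact h2 (h8 ▸ specializes_rfl)

/-- An étale morphism is locally quasi-finite. -/
theorem locallyQuasiFinite_of_etale {A B : Scheme.{u}} (g : A ⟶ B) [Etale g] :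
    LocallyQuasiFinite g := by
  constructor
  intro U hU V hV e
  have h1 := LocallyOfFiniteType.finiteType_appLE (f := g) hU hV e
  have h2 := FormallyUnramified.formallyUnramified_appLE (f := g) hU hV e
  algebraize [(g.appLE U V e).hom]
  have : Algebra.EssFiniteType Γ(B, U) Γ(A, V) := inferInstance
  show Algebra.QuasiFinite _ _
  infer_instance

/-- For an étale morphism, `dim 𝒪_{X,x} = dim 𝒪_{Y,f x}` (as coheights). -/
theorem coheight_eq_of_etale {X Y : Scheme.{u}} (f : X ⟶ Y) [Etale f] (x : X) :
    Order.coheight (f x) = Order.coheight x := by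
  haveI := locallyQuasiFinite_of_etale f
  apply le_antisymm
  · exact coheight_le_of_generalizingMap f (Flat.generalizingMap f) x
  · exact Order.coheight_le_coheight_apply_of_strictMono _ (strictMono_of_locallyQuasiFinite f) x

end EtDimH8
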