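import Mathlib
import Groth.Agent.Lib.BCDim_helper8

/-! Dimension of schemes locally of finite type over a field is invariant under extension of
the base field. -/

universe u

open AlgebraicGeometry CategoryTheory CategoryTheory.Limits TensorProduct

namespace Groth.Agent.BCDimSchH8

theorem dim_eq_iSup_coheight (X : Scheme.{u}) :
    topologicalKrullDim X = ⨆ x : X, ((Order.coheight x : ℕ∞) : WithBot ℕ∞) := by
  have hdimX : topologicalKrullDim X = Order.krullDim X := by
    unfold topologicalKrullDim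
    exact Order.krullDim_eq_of_orderIso (irreducibleSetEquivPoints (α := X))
  rw [hdimX, Order.krullDim_eq_iSup_coheight]

theorem dim_eq_iSup_openCover (X : Scheme.{u}) (𝒰 : X.OpenCover) :
    topologicalKrullDim X = ⨆ i, topologicalKrullDim (𝒰.X i) := by
  apply le_antisymm
  · rw [dim_eq_iSup_coheight X]
    refine iSup_le fun x => ?_
    obtain ⟨i, v, rfl⟩ := 𝒰.exists_eq x
    rw [AlgebraicGeometry.coheight_eq_of_isOpenImmersion]
    refine le_trans ?_ (le_iSup _ i)
    rw [dim_eq_iSup_coheight (𝒰.X i)]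
    exact le_iSup (fun v : 𝒰.X i => ((Order.coheight v : ℕ∞) : WithBot ℕ∞)) v
  · refine iSup_le fun i => ?_
    rw [dim_eq_iSup_coheight (𝒰.X i), dim_eq_iSup_coheight X]
    refine iSup_le fun v => ?_
    rw [← AlgebraicGeometry.coheight_eq_of_isOpenImmersion (𝒰.f i)]
    exact le_iSup (fun x : X => ((Order.coheight x : ℕ∞) : WithBot ℕ∞)) (𝒰.f i v)

theorem dim_eq_of_iso {X Y : Scheme.{u}} (e : X ≅ Y) :
    topologicalKrullDim X = topologicalKrullDim Y :=
  IsHomeomorph.topologicalKrullDim_eq _ (Scheme.homeoOfIso e).isHomeomorph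

/-- affine case -/
theorem dim_pullback_spec (κ κ' : Type u) [Field κ] [Field κ'] (R : CommRingCat.{u})
    (φ : CommRingCat.of κ ⟶ R)
    (hφ : φ.hom.FiniteType) (ψ : CommRingCat.of κ ⟶ CommRingCat.of κ') :
    topologicalKrullDim ↥(pullback (Spec.map φ) (Spec.map ψ)) = topologicalKrullDim ↥(Spec R) := by
  letI : Algebra κ R := φ.hom.toAlgebra
  letI : Algebra κ κ' := ψ.hom.toAlgebra
  haveI : Algebra.FiniteType κ R := hφ
  have e := pullbackSpecIso κ R κ'
  have h1 : topologicalKrullDim ↥(pullback (Spec.map φ) (Spec.map ψ)) =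
      topologicalKrullDim ↥(Spec (.of (R ⊗[κ] κ'))) := dim_eq_of_iso e
  rw [h1]
  change topologicalKrullDim (PrimeSpectrum (R ⊗[κ] κ')) = topologicalKrullDim (PrimeSpectrum R)
  rw [PrimeSpectrum.topologicalKrullDim_eq_ringKrullDim,
    PrimeSpectrum.topologicalKrullDim_eq_ringKrullDim,
    ringKrullDim_eq_of_ringEquiv (Algebra.TensorProduct.comm κ R κ').toRingEquiv]
  exact Groth.Agent.BCDimH8.ringKrullDim_tensor_field κ κ' R

/-- general case -/
theorem dim_pullback_field (κ κ' : Type u) [Field κ] [Field κ'] (X : Scheme.{u})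
    (p : X ⟶ Spec (CommRingCat.of κ)) [LocallyOfFiniteType p]
    (ψ : CommRingCat.of κ ⟶ CommRingCat.of κ') :
    topologicalKrullDim ↥(pullback p (Spec.map ψ)) = topologicalKrullDim X := by
  let 𝒰 := X.affineOpenCover
  rw [dim_eq_iSup_openCover X 𝒰.openCover,
    dim_eq_iSup_openCover _ (Scheme.Pullback.openCoverOfLeft 𝒰.openCover p (Spec.map ψ))]
  refine iSup_congr fun i => ?_
  change topologicalKrullDim ↥(pullback (𝒰.f i ≫ p) (Spec.map ψ)) =
    topologicalKrullDim ↥(Spec (𝒰.X i))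
  have hft : LocallyOfFiniteType (𝒰.f i ≫ p) := inferInstance
  obtain ⟨φ, hφ⟩ : ∃ φ : CommRingCat.of κ ⟶ 𝒰.X i, Spec.map φ = 𝒰.f i ≫ p :=
    ⟨Spec.preimage (𝒰.f i ≫ p), Spec.map_preimage _⟩
  rw [← hφ] at hft ⊢
  have hφft : φ.hom.FiniteType := (HasRingHomProperty.Spec_iff (P := @LocallyOfFiniteType)).mp hft
  exact dim_pullback_spec κ κ' (𝒰.X i) φ hφft ψ

end Groth.Agent.BCDimSchH8
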