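import Mathlib
import Groth.Prelude.Def_CurvBase

/-! Naturality of the structure maps `k → κ(x)` for morphisms of `k`-schemes. -/

universe u

open CategoryTheory CategoryTheory.Limits AlgebraicGeometry

namespace Groth.Agent.ResNatH8

theorem toGlobal_comp {A : Type u} [CommRing A] {X Y : Scheme.{u}}
    (p : X ⟶ Spec (CommRingCat.of A)) (q : Y ⟶ Spec (CommRingCat.of A)) (f : Y ⟶ X)
    (hf : f ≫ p = q) (a : A) :
    f.appTop.hom (Coh.toGlobal p a) = Coh.toGlobal q a := by
  subst hf
  simp only [Coh.toGlobal]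
  rw [Scheme.Hom.comp_appTop]
  rfl

theorem stalkMap_comp (k : Type u) [Field k] {X Y : Scheme.{u}}
    [X.Over (Spec (CommRingCat.of k))] [Y.Over (Spec (CommRingCat.of k))] (f : Y ⟶ X)
    (hf : f ≫ (X ↘ Spec (CommRingCat.of k)) = (Y ↘ Spec (CommRingCat.of k))) (y : Y) (c : k) :
    (f.stalkMap y).hom (Curv2.stalkMap k X (f.base y) c) = Curv2.stalkMap k Y y c := by
  simp only [Curv2.stalkMap, RingHom.comp_apply]
  have h1 := Scheme.Hom.germ_stalkMap_apply f ⊤ y trivial
    (Coh.toGlobal (X ↘ Spec (CommRingCat.of k)) c)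
  erw [h1]
  have h2 := toGlobal_comp (X ↘ Spec (CommRingCat.of k)) (Y ↘ Spec (CommRingCat.of k)) f hf c
  erw [h2]
  rfl

theorem resMap_comp (k : Type u) [Field k] {X Y : Scheme.{u}}
    [X.Over (Spec (CommRingCat.of k))] [Y.Over (Spec (CommRingCat.of k))] (f : Y ⟶ X)
    (hf : f ≫ (X ↘ Spec (CommRingCat.of k)) = (Y ↘ Spec (CommRingCat.of k))) (y : Y) (c : k) :
    (f.residueFieldMap y).hom (Curv2.resMap k X (f.base y) c) = Curv2.resMap k Y y c := by
  simp only [Curv2.resMap, RingHom.comp_apply]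
  have h1 := Scheme.residue_residueFieldMap f y
  have h2 := congrArg (fun φ => φ.hom (Curv2.stalkMap k X (f.base y) c)) h1
  simp only [CommRingCat.hom_comp, RingHom.comp_apply] at h2
  erw [h2]
  rw [stalkMap_comp k f hf y c]

attribute [local instance] Curv2.stalkAlgebra Curv2.resAlgebra

/-- The residue field map as a `k`-algebra homomorphism. -/
noncomputable def residueFieldAlgHom (k : Type u) [Field k] {X Y : Scheme.{u}}
    [X.Over (Spec (CommRingCat.of k))] [Y.Over (Spec (CommRingCat.of k))] (f : Y ⟶ X)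
    (hf : f ≫ (X ↘ Spec (CommRingCat.of k)) = (Y ↘ Spec (CommRingCat.of k))) (y : Y) :
    X.residueField (f.base y) →ₐ[k] Y.residueField y :=
  { (f.residueFieldMap y).hom with
    commutes' := fun c => resMap_comp k f hf y c }

theorem trdeg_residueField_le (k : Type u) [Field k] {X Y : Scheme.{u}}
    [X.Over (Spec (CommRingCat.of k))] [Y.Over (Spec (CommRingCat.of k))] (f : Y ⟶ X)
    (hf : f ≫ (X ↘ Spec (CommRingCat.of k)) = (Y ↘ Spec (CommRingCat.of k))) (y : Y) :
    Algebra.trdeg k (X.residueField (f.base y)) ≤ Algebra.trdeg k (Y.residueField y) :=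
  _root_.trdeg_le_of_injective (residueFieldAlgHom k f hf y)
    (residueFieldAlgHom k f hf y).toRingHom.injective

end Groth.Agent.ResNatH8
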