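import Mathlib
import Groth.Agent.Lib.ResNat_helper8
import Groth.Agent.Lib.SchFT_helper8
import Groth.Agent.Lib.DimIneq_helper8

/-! Residue fields of fibres vs residue fields of the total space. -/

universe u

open CategoryTheory CategoryTheory.Limits AlgebraicGeometry

namespace Groth.Agent.FibResH8

/-- The canonical map `K → κ(pt)` for a point of `Spec K`. -/
noncomputable def specResMap (K : Type u) [Field K] (pt : Spec (CommRingCat.of K)) :
    K →+* (Spec (CommRingCat.of K)).residueField pt :=
  ((Spec (CommRingCat.of K)).residue pt).hom.comp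
    (((Spec (CommRingCat.of K)).presheaf.germ ⊤ pt trivial).hom.comp
      (Scheme.ΓSpecIso (CommRingCat.of K)).inv.hom)

theorem specResMap_bijective (K : Type u) [Field K] (pt : Spec (CommRingCat.of K)) :
    Function.Bijective (specResMap K pt) := by
  refine ⟨(specResMap K pt).injective, ?_⟩
  have h := Scheme.Spec.algebraMap_residueFieldIso_inv (CommRingCat.of K) pt
  have h2 : (specResMap K pt) =
      ((Scheme.Spec.residueFieldIso (CommRingCat.of K) pt).inv.hom).comp
        (algebraMap K pt.asIdeal.ResidueField) := by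
    have := congrArg (fun φ => φ.hom) h
    simp only [CommRingCat.hom_comp, CommRingCat.hom_ofHom] at this
    rw [specResMap]
    exact this.symm
  rw [h2]
  haveI : pt.asIdeal.IsMaximal := by
    have : pt.asIdeal = ⊥ := Ideal.eq_bot_of_prime _
    rw [this]; exact Ideal.bot_isMaximal
  rw [RingHom.coe_comp]
  refine Function.Surjective.comp
    (ConcreteCategory.bijective_of_isIso (Scheme.Spec.residueFieldIso (CommRingCat.of K) pt).inv).2 ?_
  have h3 := Ideal.bijective_algebraMap_quotient_residueField pt.asIdeal
  intro z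
  obtain ⟨w, rfl⟩ := h3.2 z
  obtain ⟨a, rfl⟩ := Ideal.Quotient.mk_surjective w
  exact ⟨a, rfl⟩

theorem resMap_spec (k K : Type u) [Field k] [Field K] (φ : k →+* K)
    (pt : Spec (CommRingCat.of K)) :
    letI : (Spec (CommRingCat.of K)).Over (Spec (CommRingCat.of k)) :=
      ⟨Spec.map (CommRingCat.ofHom φ)⟩
    Curv2.resMap k (Spec (CommRingCat.of K)) pt = (specResMap K pt).comp φ := by
  letI : (Spec (CommRingCat.of K)).Over (Spec (CommRingCat.of k)) :=
    ⟨Spec.map (CommRingCat.ofHom φ)⟩
  have hnat := Scheme.ΓSpecIso_inv_naturality (CommRingCat.ofHom φ)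
  have hnat' : ∀ a : k, (Spec.map (CommRingCat.ofHom φ)).appTop.hom
      ((Scheme.ΓSpecIso (CommRingCat.of k)).inv.hom a) =
      (Scheme.ΓSpecIso (CommRingCat.of K)).inv.hom (φ a) := by
    intro a
    have := congrArg (fun ψ => ψ.hom a) hnat
    simp only [CommRingCat.hom_comp, CommRingCat.hom_ofHom, RingHom.comp_apply] at this
    exact this.symm
  ext a
  simp only [Curv2.resMap, Curv2.stalkMap, Coh.toGlobal, specResMap, RingHom.comp_apply]
  congr 2
  exact hnat' a

theorem trdeg_spec_field (k K : Type u) [Field k] [Field K] (φ : k →+* K)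
    (pt : Spec (CommRingCat.of K)) :
    letI : (Spec (CommRingCat.of K)).Over (Spec (CommRingCat.of k)) :=
      ⟨Spec.map (CommRingCat.ofHom φ)⟩
    @Algebra.trdeg k ((Spec (CommRingCat.of K)).residueField pt) _ _
      (Curv2.resAlgebra k (Spec (CommRingCat.of K)) pt) =
    @Algebra.trdeg k K _ _ φ.toAlgebra := by
  letI : (Spec (CommRingCat.of K)).Over (Spec (CommRingCat.of k)) :=
    ⟨Spec.map (CommRingCat.ofHom φ)⟩
  letI := φ.toAlgebra
  letI := Curv2.resAlgebra k (Spec (CommRingCat.of K)) pt
  symm
  refine Groth.Agent.DimIneqH8.trdeg_eq_of_ringEquiv (RingEquiv.refl k)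
    (RingEquiv.ofBijective (specResMap K pt) (specResMap_bijective K pt)) ?_
  intro r
  have := resMap_spec k K φ pt
  change specResMap K pt (φ r) = Curv2.resMap k (Spec (CommRingCat.of K)) pt r
  rw [this]
  rfl

attribute [local instance] Curv2.stalkAlgebra Curv2.resAlgebra

theorem residueFieldMap_surjective_of_isPreimmersion {X Y : Scheme.{u}} (g : X ⟶ Y)
    [IsPreimmersion g] (x : X) : Function.Surjective (g.residueFieldMap x).hom := by
  intro z
  obtain ⟨w, rfl⟩ := X.residue_surjective x z
  obtain ⟨v, rfl⟩ := g.stalkMap_surjective x w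
  refine ⟨(Y.residue (g.base x)).hom v, ?_⟩
  have := Scheme.residue_residueFieldMap g x
  have h2 := congrArg (fun ψ => ψ.hom v) this
  simpa only [CommRingCat.hom_comp, RingHom.comp_apply] using h2

/-- Bridge lemma: the residue field of the fibre at `x` has the same transcendence degree over
`κ(f x)` as the residue field of `X` at `x`. -/
theorem trdeg_asFiber {X Y : Scheme.{u}} (f : X ⟶ Y) (x : X) :
    letI : (f.fiber (f.base x)).Over (Spec (CommRingCat.of (Y.residueField (f.base x)))) :=
      ⟨f.fiberToSpecResidueField (f.base x)⟩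
    @Algebra.trdeg (Y.residueField (f.base x))
      ((f.fiber (f.base x)).residueField (f.asFiber x)) _ _
      (Curv2.resAlgebra (Y.residueField (f.base x)) (f.fiber (f.base x)) (f.asFiber x)) =
    @Algebra.trdeg (Y.residueField (f.base x)) (X.residueField x) _ _
      (f.residueFieldMap x).hom.toAlgebra := by
  letI ovZ : (f.fiber (f.base x)).Over (Spec (CommRingCat.of (Y.residueField (f.base x)))) :=
    ⟨f.fiberToSpecResidueField (f.base x)⟩
  letI ovT : (Spec (CommRingCat.of (X.residueField x))).Over
      (Spec (CommRingCat.of (Y.residueField (f.base x)))) :=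
    ⟨Spec.map (CommRingCat.ofHom (f.residueFieldMap x).hom)⟩
  let pt : Spec (CommRingCat.of (X.residueField x)) := ⟨⊥, Ideal.isPrime_bot⟩
  let g : Spec (CommRingCat.of (X.residueField x)) ⟶ f.fiber (f.base x) := f.asFiberHom x
  have hg : g ≫ (f.fiber (f.base x) ↘ Spec (CommRingCat.of (Y.residueField (f.base x)))) =
      (Spec (CommRingCat.of (X.residueField x)) ↘
        Spec (CommRingCat.of (Y.residueField (f.base x)))) :=
    f.asFiberHom_fiberToSpecResidueField x
  have hpt : g.base pt = f.asFiber x := f.asFiberHom_apply x pt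
  rw [← trdeg_spec_field (Y.residueField (f.base x)) (X.residueField x)
    (f.residueFieldMap x).hom pt, ← hpt]
  haveI : IsPreimmersion g := inferInstanceAs (IsPreimmersion (f.asFiberHom x))
  let a := Groth.Agent.ResNatH8.residueFieldAlgHom (Y.residueField (f.base x)) g hg pt
  have hbij : Function.Bijective a :=
    ⟨a.toRingHom.injective, residueFieldMap_surjective_of_isPreimmersion g pt⟩
  exact Groth.Agent.DimIneqH8.trdeg_eq_of_ringEquiv (RingEquiv.refl _)
    (RingEquiv.ofBijective a hbij) (fun r => a.commutes r)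

end Groth.Agent.FibResH8
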