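import Mathlib
import Groth.Agent.Lib.SchFT_helper8
import Groth.Agent.Lib.DimFT_helper8
import Groth.Agent.Lib.DimFT3_helper8

/-! For `X` locally of finite type over a field `k`: the height of a point in the
specialization order (= dimension of its closure) equals the transcendence degree of its
residue field. -/

universe u

open CategoryTheory CategoryTheory.Limits AlgebraicGeometry
attribute [local instance] Curv2.stalkAlgebra Curv2.resAlgebra

namespace Groth.Agent.HtTrdegH8

variable (k : Type u) [Field k] (X : Scheme.{u}) [X.Over (Spec (CommRingCat.of k))]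
  [LocallyOfFiniteType (X ↘ (Spec (CommRingCat.of k)))]

theorem exists_trdeg_eq {U : X.Opens} (hU : IsAffineOpen U) (x : X) (hx : x ∈ U) :
    ∃ n : ℕ, Algebra.trdeg k (X.residueField x) = n ∧
      Order.coheight (hU.primeIdealOf ⟨x, hx⟩) = n := by
  letI := Groth.Agent.SchFTH8.secAlgebra k X U
  haveI := Groth.Agent.SchFTH8.finiteType_sec k X U hU
  set p := (hU.primeIdealOf ⟨x, hx⟩).asIdeal with hp
  haveI hpp : p.IsPrime := (hU.primeIdealOf ⟨x, hx⟩).2
  haveI : Algebra.FiniteType k (Γ(X, U) ⧸ p) :=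
    Algebra.FiniteType.of_surjective (Ideal.Quotient.mkₐ k p) (Ideal.Quotient.mkₐ_surjective k p)
  obtain ⟨n, -, h2, h3, -⟩ := Groth.Agent.DimFTH8.exists_dim_eq k (Γ(X, U) ⧸ p)
  refine ⟨n, ?_, ?_⟩
  · rw [Groth.Agent.SchFTH8.trdeg_residueField k hU x hx]
    exact h2
  · have := Groth.Agent.DimFT3H8.ringKrullDim_quotient_eq_coheight p
    rw [h3] at this
    have h4 : (⟨p, hpp⟩ : PrimeSpectrum Γ(X, U)) = hU.primeIdealOf ⟨x, hx⟩ := rfl
    rw [h4] at this
    exact_mod_cast this.symm

theorem exists_affine (x : X) : ∃ U : X.Opens, IsAffineOpen U ∧ x ∈ U := by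
  obtain ⟨_, ⟨U, hU, rfl⟩, hxU, -⟩ :=
    X.isBasis_affineOpens.exists_subset_of_mem_open (Set.mem_univ x) isOpen_univ
  exact ⟨U, hU, hxU⟩

theorem exists_trdeg_nat (x : X) : ∃ n : ℕ, Algebra.trdeg k (X.residueField x) = n := by
  obtain ⟨U, hU, hxU⟩ := exists_affine X x
  obtain ⟨n, hn, -⟩ := exists_trdeg_eq k X hU x hxU
  exact ⟨n, hn⟩

theorem trdeg_lt_of_specializes (x x' : X) (hsp : x ⤳ x') (hne : x ≠ x') :
    Algebra.trdeg k (X.residueField x') < Algebra.trdeg k (X.residueField x) := by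
  obtain ⟨U, hU, hx'U⟩ := exists_affine X x'
  have hxU : x ∈ U := hsp.mem_open U.2 hx'U
  obtain ⟨n, hn, hcn⟩ := exists_trdeg_eq k X hU x hxU
  obtain ⟨n', hn', hcn'⟩ := exists_trdeg_eq k X hU x' hx'U
  have hle : hU.primeIdealOf ⟨x, hxU⟩ ≤ hU.primeIdealOf ⟨x', hx'U⟩ :=
    (Groth.Agent.SchFTH8.specializes_iff_primeIdealOf_le hU x x' hxU hx'U).mp hsp
  have hne' : hU.primeIdealOf ⟨x, hxU⟩ ≠ hU.primeIdealOf ⟨x', hx'U⟩ := by
    intro heq
    apply hne
    have := congrArg hU.fromSpec heq
    rw [hU.fromSpec_primeIdealOf, hU.fromSpec_primeIdealOf] at this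
    exact this
  have hlt : hU.primeIdealOf ⟨x, hxU⟩ < hU.primeIdealOf ⟨x', hx'U⟩ := lt_of_le_of_ne hle hne'
  have h1 := Order.coheight_add_one_le hlt
  rw [hcn, hcn'] at h1
  have h2 : n' + 1 ≤ n := by exact_mod_cast h1
  rw [hn, hn']
  exact_mod_cast h2

theorem height_eq_trdeg (x : X) :
    ∃ n : ℕ, Algebra.trdeg k (X.residueField x) = n ∧ Order.height x = n := by
  obtain ⟨U, hU, hxU⟩ := exists_affine X x
  obtain ⟨n, hn, hcn⟩ := exists_trdeg_eq k X hU x hxU
  refine ⟨n, hn, le_antisymm ?_ ?_⟩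
  · -- strictly monotone function to ℕ
    let g : X → ℕ := fun y => Cardinal.toNat (Algebra.trdeg k (X.residueField y))
    have hg : StrictMono g := by
      intro a b hab
      have hsp : b ⤳ a := hab.le
      have hne : b ≠ a := by
        rintro rfl
        exact lt_irrefl _ hab
      have h1 := trdeg_lt_of_specializes k X b a hsp hne
      obtain ⟨na, hna⟩ := exists_trdeg_nat k X a
      obtain ⟨nb, hnb⟩ := exists_trdeg_nat k X b
      change Cardinal.toNat _ < Cardinal.toNat _
      rw [hna, hnb] at h1 ⊢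
      simp only [Cardinal.toNat_natCast]
      exact_mod_cast h1
    have h1 := Order.height_le_height_apply_of_strictMono g hg x
    have h2 : g x = n := by
      change Cardinal.toNat _ = n
      rw [hn]; simp
    rw [h2, Order.height_nat] at h1
    exact h1
  · let φ : (PrimeSpectrum Γ(X, U))ᵒᵈ → X := fun q => hU.fromSpec (OrderDual.ofDual q)
    have hφ : StrictMono φ := by
      intro a b hab
      have hab' : OrderDual.ofDual b < OrderDual.ofDual a := hab
      have hma := Groth.Agent.SchFTH8.fromSpec_mem hU (OrderDual.ofDual a)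
      have hmb := Groth.Agent.SchFTH8.fromSpec_mem hU (OrderDual.ofDual b)
      have key : ∀ q q' : PrimeSpectrum Γ(X, U), hU.fromSpec q ⤳ hU.fromSpec q' ↔ q ≤ q' := by
        intro q q'
        rw [Groth.Agent.SchFTH8.specializes_iff_primeIdealOf_le hU _ _
          (Groth.Agent.SchFTH8.fromSpec_mem hU q) (Groth.Agent.SchFTH8.fromSpec_mem hU q'),
          Groth.Agent.SchFTH8.primeIdealOf_fromSpec, Groth.Agent.SchFTH8.primeIdealOf_fromSpec]
      rw [lt_iff_le_not_ge]
      constructor
      · change hU.fromSpec (OrderDual.ofDual b) ⤳ hU.fromSpec (OrderDual.ofDual a)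
        rw [key]; exact hab'.le
      · intro hcon
        have hcon' : hU.fromSpec (OrderDual.ofDual a) ⤳ hU.fromSpec (OrderDual.ofDual b) := hcon
        rw [key] at hcon'
        exact hab'.not_ge hcon'
    have h1 := Order.height_le_height_apply_of_strictMono φ hφ
      (OrderDual.toDual (hU.primeIdealOf ⟨x, hxU⟩))
    rw [Order.height_toDual, hcn] at h1
    have h2 : φ (OrderDual.toDual (hU.primeIdealOf ⟨x, hxU⟩)) = x := hU.fromSpec_primeIdealOf ⟨x, hxU⟩
    rw [h2] at h1
    exact h1

end Groth.Agent.HtTrdegH8
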