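import Mathlib
import Groth.Agent.Lib.FibRes_helper8
import Groth.Agent.Lib.HtTrdeg_helper8
import Groth.Agent.Lib.BCDimSch_helper8

/-! Heights in fibres and dimension of fibres via transcendence degrees. -/

universe u

open CategoryTheory CategoryTheory.Limits AlgebraicGeometry

namespace Groth.Agent.FibRes2H8

variable {X Y : Scheme.{u}} (f : X ⟶ Y)

theorem lft_fiber [LocallyOfFiniteType f] (y : Y) :
    LocallyOfFiniteType (f.fiberToSpecResidueField y) :=
  MorphismProperty.pullback_snd _ _ inferInstance

/-- The height of `x` in its fibre (dimension of its closure in the fibre) is the transcendence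
degree of `κ(x)` over `κ(f x)`. -/
theorem height_asFiber [LocallyOfFiniteType f] (x : X) :
    ∃ n : ℕ, @Algebra.trdeg (Y.residueField (f.base x)) (X.residueField x) _ _
      (f.residueFieldMap x).hom.toAlgebra = n ∧ Order.height (f.asFiber x) = n := by
  letI ovZ : (f.fiber (f.base x)).Over (Spec (CommRingCat.of (Y.residueField (f.base x)))) :=
    ⟨f.fiberToSpecResidueField (f.base x)⟩
  haveI : LocallyOfFiniteType
      (f.fiber (f.base x) ↘ Spec (CommRingCat.of (Y.residueField (f.base x)))) :=
    lft_fiber f (f.base x)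
  obtain ⟨n, hn, hh⟩ := Groth.Agent.HtTrdegH8.height_eq_trdeg (Y.residueField (f.base x))
    (f.fiber (f.base x)) (f.asFiber x)
  refine ⟨n, ?_, hh⟩
  rw [← Groth.Agent.FibResH8.trdeg_asFiber f x]
  exact hn

theorem fiberι_mem (y : Y) (z : f.fiber y) : f.base ((f.fiberι y).base z) = y := by
  have h : (f.fiberι y).base z ∈ Set.range (f.fiberι y).base := ⟨z, rfl⟩
  rw [Scheme.Hom.range_fiberι] at h
  exact h

theorem specializes_fiber_iff (y : Y) (z z' : f.fiber y) :
    z ⤳ z' ↔ (f.fiberι y).base z ⤳ (f.fiberι y).base z' :=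
  ((f.fiberι y).isEmbedding.isInducing.specializes_iff).symm

/-- If `ξ` is generic in its fibre then the fibre has dimension `trdeg κ(ξ)/κ(f ξ)`. -/
theorem dim_fiber_of_generic [LocallyOfFiniteType f] (ξ : X)
    (hξ : ∀ x' : X, f.base x' = f.base ξ → ξ ⤳ x') (n : ℕ)
    (hn : @Algebra.trdeg (Y.residueField (f.base ξ)) (X.residueField ξ) _ _
      (f.residueFieldMap ξ).hom.toAlgebra = n) :
    topologicalKrullDim (f.fiber (f.base ξ)) = n := by
  obtain ⟨n', hn', hh⟩ := height_asFiber f ξ
  have hnn : n' = n := by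
    have : ((n' : ℕ) : Cardinal) = ((n : ℕ) : Cardinal) := by rw [← hn', hn]
    exact_mod_cast this
  subst hnn
  have hdim : topologicalKrullDim (f.fiber (f.base ξ)) = Order.krullDim (f.fiber (f.base ξ)) := by
    unfold topologicalKrullDim
    exact Order.krullDim_eq_of_orderIso (irreducibleSetEquivPoints (α := f.fiber (f.base ξ)))
  rw [hdim]
  haveI : Nonempty (f.fiber (f.base ξ)) := ⟨f.asFiber ξ⟩
  rw [Order.krullDim_eq_iSup_height]
  apply le_antisymm
  · refine iSup_le fun z => ?_
    have hz : z ≤ f.asFiber ξ := by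
      change f.asFiber ξ ⤳ z
      rw [specializes_fiber_iff, Scheme.Hom.fiberι_asFiber]
      exact hξ _ (fiberι_mem f _ z)
    have := Order.height_mono hz
    rw [hh] at this
    exact_mod_cast this
  · refine le_trans ?_ (le_iSup _ (f.asFiber ξ))
    rw [hh]
    rfl

end Groth.Agent.FibRes2H8
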