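import Mathlib
import Groth.Agent.Lib.FibRes2_helper8

/-! Chains of specializations inside a fibre, transported to the total space. -/

universe u

open CategoryTheory CategoryTheory.Limits AlgebraicGeometry

namespace Groth.Agent.FibChainH8

variable {X Y : Scheme.{u}} (f : X ⟶ Y)

theorem fiberι_le_iff (y : Y) (z z' : f.fiber y) :
    (f.fiberι y).base z ≤ (f.fiberι y).base z' ↔ z ≤ z' :=
  (Groth.Agent.FibRes2H8.specializes_fiber_iff f y z' z).symm

theorem fiberι_strictMono (y : Y) : StrictMono (f.fiberι y).base := by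
  intro z z' h
  rw [lt_iff_le_not_ge] at h ⊢
  exact ⟨(fiberι_le_iff f y z z').mpr h.1, fun h' => h.2 ((fiberι_le_iff f y z' z).mp h')⟩

theorem coheight_add_index_le {α : Type*} [Preorder α] (p : LTSeries α) :
    ∀ (i : ℕ) (hi : i < p.length + 1), Order.coheight (p ⟨i, hi⟩) + i ≤ Order.coheight p.head := by
  intro i
  induction i with
  | zero =>
    intro hi
    simp only [Nat.cast_zero, add_zero]
    exact le_of_eq rfl
  | succ i ih =>
    intro hi
    have hi' : i < p.length + 1 := by omega
    have hlt : p ⟨i, hi'⟩ < p ⟨i + 1, hi⟩ := p.strictMono (by simp [Fin.lt_def])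
    have h1 := Order.coheight_add_one_le hlt
    calc Order.coheight (p ⟨i + 1, hi⟩) + ((i + 1 : ℕ) : ℕ∞)
        = (Order.coheight (p ⟨i + 1, hi⟩) + 1) + (i : ℕ∞) := by push_cast; ring
      _ ≤ Order.coheight (p ⟨i, hi'⟩) + (i : ℕ∞) := by gcongr
      _ ≤ Order.coheight p.head := ih hi'

theorem coheight_last_add_length_le {α : Type*} [Preorder α] (p : LTSeries α) :
    Order.coheight p.last + p.length ≤ Order.coheight p.head :=
  coheight_add_index_le p p.length (by omega)

/-- transport of the fibre local ring dimension along `f x' = y`. -/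
theorem stalk_dim_fiber_eq (x' : X) (y : Y) (h : f.base x' = y) (z : f.fiber y)
    (hz : (f.fiberι y).base z = x') :
    ringKrullDim ((f.fiber y).presheaf.stalk z) =
      ringKrullDim ((f.fiber (f.base x')).presheaf.stalk (f.asFiber x')) := by
  subst h
  have : z = f.asFiber x' := by
    apply (f.fiberι (f.base x')).isEmbedding.injective
    rw [hz, Scheme.Hom.fiberι_asFiber]
  rw [this]

theorem isLocallyNoetherian_fiber [LocallyOfFiniteType f] (y : Y) :
    IsLocallyNoetherian (f.fiber y) := by
  haveI := Groth.Agent.FibRes2H8.lft_fiber f y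
  exact LocallyOfFiniteType.isLocallyNoetherian (f.fiberToSpecResidueField y)

/-- A maximal point `x₀` of the fibre above `x` realising `dim O_{X_y,x}`. -/
theorem exists_generic_in_fiber [LocallyOfFiniteType f] (x : X) :
    ∃ x₀ : X, f.base x₀ = f.base x ∧ x₀ ⤳ x ∧
      ringKrullDim ((f.fiber (f.base x₀)).presheaf.stalk (f.asFiber x₀)) = 0 ∧
      ringKrullDim (X.presheaf.stalk x₀) +
        ringKrullDim ((f.fiber (f.base x)).presheaf.stalk (f.asFiber x)) ≤
          ringKrullDim (X.presheaf.stalk x) := by
  haveI := isLocallyNoetherian_fiber f (f.base x)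
  have hfin : ringKrullDim ((f.fiber (f.base x)).presheaf.stalk (f.asFiber x)) ≠ ⊤ :=
    ringKrullDim_ne_top
  rw [AlgebraicGeometry.ringKrullDim_stalk_eq_coheight] at hfin
  have hfin' : Order.coheight (f.asFiber x) ≠ ⊤ := by
    intro h; rw [h] at hfin; exact hfin rfl
  obtain ⟨m, hm⟩ := ENat.ne_top_iff_exists.mp hfin'
  obtain ⟨p, hphead, hplen⟩ := Order.exists_series_of_coheight_eq_coe (f.asFiber x) hm.symm
  have hlast : Order.coheight p.last = 0 := by
    have h1 : (p.length : ℕ∞) = Order.coheight p.head := by rw [hphead, hplen, hm]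
    have := Order.coheight_eq_index_of_length_eq_head_coheight h1 (Fin.last _)
    rw [Fin.rev_last] at this
    exact_mod_cast this
  refine ⟨(f.fiberι (f.base x)).base p.last, Groth.Agent.FibRes2H8.fiberι_mem f _ _, ?_, ?_, ?_⟩
  · have h1 : p.head ≤ p.last := LTSeries.head_le_last p
    rw [hphead] at h1
    have h2 := (fiberι_le_iff f (f.base x) _ _).mpr h1
    rw [Scheme.Hom.fiberι_asFiber] at h2
    exact h2
  · rw [← stalk_dim_fiber_eq f _ (f.base x) (Groth.Agent.FibRes2H8.fiberι_mem f _ _) p.last rfl,
      AlgebraicGeometry.ringKrullDim_stalk_eq_coheight, hlast]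
    rfl
  · let p' : LTSeries X := p.map (f.fiberι (f.base x)).base (fiberι_strictMono f (f.base x))
    have h1 := coheight_last_add_length_le p'
    have hl : p'.last = (f.fiberι (f.base x)).base p.last := LTSeries.last_map _ _ _
    have hh : p'.head = x := by
      have : p'.head = (f.fiberι (f.base x)).base p.head := LTSeries.head_map _ _ _
      rw [this, hphead, Scheme.Hom.fiberι_asFiber]
    have hlen : p'.length = m := hplen
    rw [hl, hh, hlen] at h1
    rw [AlgebraicGeometry.ringKrullDim_stalk_eq_coheight,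
      AlgebraicGeometry.ringKrullDim_stalk_eq_coheight,
      AlgebraicGeometry.ringKrullDim_stalk_eq_coheight, ← hm]
    exact_mod_cast WithBot.coe_le_coe.mpr h1

end Groth.Agent.FibChainH8
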