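import Mathlib
import Groth.Prelude.Def_Flat
import Groth.Agent.Lib.LocDim_helper8
import Groth.Agent.Lib.SchFT_helper8

/-! Local dimension of schemes locally of finite type over a field (scheme version). -/

universe u

open AlgebraicGeometry CategoryTheory TopologicalSpace

namespace Groth.Agent.LocDimSchH8

theorem localDim_scheme (k : Type u) [Field k] (X : Scheme.{u}) [X.Over (Spec (CommRingCat.of k))]
    [LocallyOfFiniteType (X ↘ Spec (CommRingCat.of k))] (x : X) (a b : ℕ)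
    (ha : @Algebra.trdeg k (X.residueField x) _ _ (Curv2.resAlgebra k X x) = a)
    (hb : ringKrullDim (X.presheaf.stalk x) = b) :
    FlatMor.localDim X x = (a + b : ℕ) := by
  obtain ⟨_, ⟨W, hW', rfl⟩, hxW, -⟩ :=
    X.isBasis_affineOpens.exists_subset_of_mem_open (Set.mem_univ x) isOpen_univ
  have hW : IsAffineOpen W := hW'
  letI := Groth.Agent.SchFTH8.secAlgebra k X W
  haveI := Groth.Agent.SchFTH8.finiteType_sec k X W hW
  set p := hW.primeIdealOf ⟨x, hxW⟩ with hp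
  have htr : Algebra.trdeg k (Γ(X, W) ⧸ p.asIdeal) = a := by
    rw [← Groth.Agent.SchFTH8.trdeg_residueField k hW x hxW]; exact ha
  have hht : p.asIdeal.height = b := by
    have := Groth.Agent.SchFTH8.ringKrullDim_stalk_eq_height hW x hxW
    rw [hb] at this
    exact_mod_cast this.symm
  have hcoh : ∀ (u : X) (hu : u ∈ W),
      Order.coheight u = (hW.primeIdealOf ⟨u, hu⟩).asIdeal.height := by
    intro u hu
    have h1 := Groth.Agent.SchFTH8.ringKrullDim_stalk_eq_height hW u hu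
    rw [AlgebraicGeometry.ringKrullDim_stalk_eq_coheight] at h1
    exact_mod_cast h1
  have hfp : hW.fromSpec p = x := hW.fromSpec_primeIdealOf ⟨x, hxW⟩
  unfold FlatMor.localDim
  apply le_antisymm
  · obtain ⟨V, hVo, hpV, r', hr', hV⟩ := Groth.Agent.LocDimH8.exists_open_height_le k Γ(X, W) p
    have hrr : r' = a := by
      have : ((r' : ℕ) : Cardinal) = ((a : ℕ) : Cardinal) := by rw [← hr', htr]
      exact_mod_cast this
    subst hrr
    have hxU : x ∈ hW.fromSpec ''ᵁ (⟨V, hVo⟩ : (Spec Γ(X, W)).Opens) := ⟨p, hpV, hfp⟩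
    refine iInf_le_of_le ⟨hW.fromSpec ''ᵁ (⟨V, hVo⟩ : (Spec Γ(X, W)).Opens), hxU⟩ ?_
    change topologicalKrullDim ↥((hW.fromSpec ''ᵁ (⟨V, hVo⟩ : (Spec Γ(X, W)).Opens) : X.Opens) :
      Set X) ≤ _
    rw [Groth.Agent.LocDimH8.topologicalKrullDim_opens X
      ((hW.fromSpec ''ᵁ (⟨V, hVo⟩ : (Spec Γ(X, W)).Opens) : X.Opens) : Set X)
      (hW.fromSpec ''ᵁ (⟨V, hVo⟩ : (Spec Γ(X, W)).Opens)).2]
    apply iSup_le
    rintro ⟨u, hu⟩
    obtain ⟨q, hqV, hq⟩ := hu
    have hq' : hW.fromSpec q = u := hq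
    have huW : u ∈ W := hq' ▸ Groth.Agent.SchFTH8.fromSpec_mem hW q
    have hpu : hW.primeIdealOf ⟨u, huW⟩ = q := by
      subst hq'
      exact Groth.Agent.SchFTH8.primeIdealOf_fromSpec hW q huW
    change ((Order.coheight u : ℕ∞) : WithBot ℕ∞) ≤ _
    rw [hcoh u huW, hpu]
    have := hV q hqV
    rw [hht] at this
    have h2 : ((q.asIdeal.height : ℕ∞) : WithBot ℕ∞) ≤ (((b : ℕ∞) + (r' : ℕ∞) : ℕ∞) : WithBot ℕ∞) := by
      exact_mod_cast this
    refine h2.trans (le_of_eq ?_)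
    push_cast
    rw [add_comm]
  · apply le_iInf
    rintro ⟨U, hxU⟩
    have hpV : p ∈ (hW.fromSpec ⁻¹ᵁ U : (Spec Γ(X, W)).Opens) := by
      change hW.fromSpec p ∈ U
      rw [hfp]; exact hxU
    obtain ⟨m, hmV, -, -, r', hr', hm⟩ := Groth.Agent.LocDimH8.exists_isMaximal_mem_open k Γ(X, W) p
      (hW.fromSpec ⁻¹ᵁ U : (Spec Γ(X, W)).Opens).1 (hW.fromSpec ⁻¹ᵁ U : (Spec Γ(X, W)).Opens).2 hpV
    have hrr : r' = a := by
      have : ((r' : ℕ) : Cardinal) = ((a : ℕ) : Cardinal) := by rw [← hr', htr]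
      exact_mod_cast this
    subst hrr
    have huU : hW.fromSpec m ∈ U := hmV
    have huW : hW.fromSpec m ∈ W := Groth.Agent.SchFTH8.fromSpec_mem hW m
    change _ ≤ topologicalKrullDim ↥(U : Set X)
    rw [Groth.Agent.LocDimH8.topologicalKrullDim_opens X (U : Set X) U.2]
    refine le_trans ?_ (le_iSup _ (⟨hW.fromSpec m, huU⟩ : (U : Set X)))
    rw [hcoh _ huW, Groth.Agent.SchFTH8.primeIdealOf_fromSpec hW m huW]
    rw [hht] at hm
    have h2 : (((b : ℕ∞) + (r' : ℕ∞) : ℕ∞) : WithBot ℕ∞) ≤ ((m.asIdeal.height : ℕ∞) : WithBot ℕ∞) := by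
      exact_mod_cast hm
    refine le_trans (le_of_eq ?_) h2
    push_cast
    rw [add_comm]

end Groth.Agent.LocDimSchH8
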