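import Mathlib
import Groth.Prelude.Def_Flat
import Groth.Agent.Lib.EtDim1_helper8
import Groth.Agent.Lib.FibChain_helper8
import Groth.Agent.Lib.LocDimSch_helper8
import Groth.Agent.Lib.FibRes_helper8
import Groth.Agent.Lib.ResQuot2_helper8

universe u
open AlgebraicGeometry CategoryTheory

namespace FibCohH8

/-- The coheight of `u` inside its fibre `{u' | h u' = h u}` (as a subtype of the specialization
preorder). -/
noncomputable def fibCoh {U V : Scheme.{u}} (h : U ⟶ V) (u : U) : ℕ∞ :=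
  Order.coheight (⟨u, rfl⟩ : {u' : U // h u' = h u})

theorem stalk_fiber_eq_fibCoh {U V : Scheme.{u}} (h : U ⟶ V) (u : U) :
    ringKrullDim ↥((h.fiber (h u)).presheaf.stalk (h.asFiber u)) = ((fibCoh h u : ℕ∞) : WithBot ℕ∞) := by
  rw [AlgebraicGeometry.ringKrullDim_stalk_eq_coheight]
  congr 1
  let φ : h.fiber (h u) → {u' : U // h u' = h u} := fun z =>
    ⟨h.fiberι (h u) z, Groth.Agent.FibRes2H8.fiberι_mem h (h u) z⟩
  have hφle : ∀ z z' : h.fiber (h u), φ z ≤ φ z' ↔ z ≤ z' := fun z z' =>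
    Groth.Agent.FibChainH8.fiberι_le_iff h (h u) z z'
  have hφsurj : Function.Surjective φ := by
    rintro ⟨u', hu'⟩
    have : u' ∈ Set.range (h.fiberι (h u)) := by
      rw [Scheme.Hom.range_fiberι]; exact hu'
    obtain ⟨z, hz⟩ := this
    exact ⟨z, Subtype.ext hz⟩
  have hφ : φ (h.asFiber u) = ⟨u, rfl⟩ := Subtype.ext (Scheme.Hom.fiberι_asFiber h u)
  unfold fibCoh
  rw [← hφ]
  apply le_antisymm
  · apply Order.coheight_le_coheight_apply_of_strictMono
    intro z z' hzz'
    rw [lt_iff_le_not_ge] at hzz' ⊢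
    exact ⟨(hφle z z').mpr hzz'.1, fun h' => hzz'.2 ((hφle z' z).mp h')⟩
  · apply EtDimH8.coheight_le_of_lift φ
    intro z b hb
    obtain ⟨z', rfl⟩ := hφsurj b
    refine ⟨z', ?_, rfl⟩
    rw [lt_iff_le_not_ge] at hb ⊢
    exact ⟨(hφle z z').mp hb.1, fun h' => hb.2 ((hφle z' z).mpr h')⟩

/-- étale precomposition does not change the fibre coheight. -/
theorem fibCoh_etale_comp {W U V : Scheme.{u}} (p : W ⟶ U) [Etale p] (h : U ⟶ V) (w : W) :
    fibCoh (p ≫ h) w = fibCoh h (p w) := by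
  haveI := EtDimH8.locallyQuasiFinite_of_etale p
  have hsm := EtDimH8.strictMono_of_locallyQuasiFinite p
  let ψ : {w' : W // (p ≫ h) w' = (p ≫ h) w} → {u' : U // h u' = h (p w)} := fun z =>
    ⟨p z.1, by have := z.2; simpa using this⟩
  have hψ : ψ ⟨w, rfl⟩ = ⟨p w, rfl⟩ := rfl
  unfold fibCoh
  rw [← hψ]
  apply le_antisymm
  · apply Order.coheight_le_coheight_apply_of_strictMono
    intro z z' hzz'
    exact hsm hzz'
  · apply EtDimH8.coheight_le_of_lift ψ
    rintro ⟨w', hw'⟩ ⟨u', hu'⟩ hb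
    have hb' : p w' < u' := hb
    have hsp : u' ⤳ p w' := hb'.le
    obtain ⟨w'', hw'', hpw''⟩ := (Flat.generalizingMap p) hsp
    refine ⟨⟨w'', by simp only [Scheme.Hom.comp_apply]; rw [hpw'', hu']⟩, ?_, Subtype.ext hpw''⟩
    have hle : w' ≤ w'' := hw''
    show w' < w''
    refine lt_of_le_not_ge hle ?_
    intro hge
    have h2 : w' ⤳ w'' := hge
    have h3 : p w' ⤳ p w'' := h2.map p.continuous
    rw [hpw''] at h3
    exact (not_le_of_gt hb') h3

/-- étale postcomposition does not change the fibre coheight. -/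
theorem fibCoh_comp_etale {W V' V : Scheme.{u}} (m : W ⟶ V') (q : V' ⟶ V) [Etale q] (w : W) :
    fibCoh (m ≫ q) w = fibCoh m w := by
  haveI := EtDimH8.locallyQuasiFinite_of_etale q
  have hsm := EtDimH8.strictMono_of_locallyQuasiFinite q
  let ι : {w' : W // m w' = m w} → {w' : W // (m ≫ q) w' = (m ≫ q) w} := fun z =>
    ⟨z.1, by simp only [Scheme.Hom.comp_apply]; rw [z.2]⟩
  have hι : ι ⟨w, rfl⟩ = ⟨w, rfl⟩ := rfl
  unfold fibCoh
  rw [← hι]
  apply le_antisymm
  · apply EtDimH8.coheight_le_of_lift ι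
    rintro ⟨w', hw'⟩ ⟨w'', hw''⟩ hb
    have hb' : w' < w'' := hb
    have hsp : w'' ⤳ w' := hb'.le
    have h1 : m w'' ⤳ m w' := hsp.map m.continuous
    have h1' : m w' ≤ m w'' := h1
    have hq : q (m w'') = q (m w') := by
      have := hw''
      simp only [Scheme.Hom.comp_apply] at this
      rw [this, hw']
    have heq : m w'' = m w' := by
      by_contra hne
      have hlt : m w' < m w'' := by
        refine lt_of_le_not_ge h1' ?_
        intro hge
        have h2 : m w' ⤳ m w'' := hge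
        exact hne (h1.antisymm h2).eq
      have := hsm hlt
      simp only [hq] at this
      exact lt_irrefl _ this
    exact ⟨⟨w'', heq.trans hw'⟩, hb, rfl⟩
  · apply Order.coheight_le_coheight_apply_of_strictMono
    intro z z' hzz'
    exact hzz'

theorem fibCoh_congr {W V : Scheme.{u}} {k k' : W ⟶ V} (h : k = k') (w : W) :
    fibCoh k w = fibCoh k' w := by subst h; rfl

/-- A locally quasi-finite morphism has zero fibre coheight. -/
theorem fibCoh_eq_zero_of_lqf {U V : Scheme.{u}} (h : U ⟶ V) [LocallyQuasiFinite h] (u : U) :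
    fibCoh h u = 0 := by
  have hsm := EtDimH8.strictMono_of_locallyQuasiFinite h
  unfold fibCoh
  rw [Order.coheight_eq_zero]
  rintro ⟨u', hu'⟩ hb
  have hb' : u ≤ u' := hb
  by_contra hne
  have hlt : u < u' := lt_of_le_not_ge hb' (fun hge => hne hge)
  have := hsm hlt
  simp only [hu'] at this
  exact lt_irrefl _ this

end FibCohH8
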