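import Mathlib
import Groth.Prelude.Def_Flat
import Groth.Prelude.Def_Dual3
import Groth.Agent.Lib.FibCoh_helper8

universe u
open AlgebraicGeometry CategoryTheory

namespace FibCohH8

/-- `dim_x (X_y) = dim O_{X_y,x} + trdeg κ(x)/κ(y)` for a morphism locally of finite type. -/
theorem fibreDimAt_eq {U V : Scheme.{u}} (h : U ⟶ V) [LocallyOfFiniteType h] (u : U) :
    FlatMor.fibreDimAt h u = ((fibCoh h u : ℕ∞) : WithBot ℕ∞) +
      ((Cardinal.toENat (Dual3.resTrdeg h u) : ℕ∞) : WithBot ℕ∞) := by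
  obtain ⟨n, hn⟩ := Groth.Agent.ResQuot2H8.exists_trdeg_nat h u
  letI ovZ : (h.fiber (h.base u)).Over (Spec (CommRingCat.of (V.residueField (h.base u)))) :=
    ⟨h.fiberToSpecResidueField (h.base u)⟩
  haveI hlft : LocallyOfFiniteType
      (h.fiber (h.base u) ↘ Spec (CommRingCat.of (V.residueField (h.base u)))) :=
    Groth.Agent.FibRes2H8.lft_fiber h (h.base u)
  haveI : IsLocallyNoetherian (h.fiber (h.base u)) :=
    LocallyOfFiniteType.isLocallyNoetherian
      (h.fiber (h.base u) ↘ Spec (CommRingCat.of (V.residueField (h.base u))))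
  have hb : ringKrullDim ((h.fiber (h.base u)).presheaf.stalk (h.asFiber u)) =
      ((LTSeries.longestOf (PrimeSpectrum ((h.fiber (h.base u)).presheaf.stalk (h.asFiber u)))).length : ℕ) :=
    Order.krullDim_eq_length_of_finiteDimensionalOrder
  set b := (LTSeries.longestOf
    (PrimeSpectrum ((h.fiber (h.base u)).presheaf.stalk (h.asFiber u)))).length with hbdef
  have hloc := Groth.Agent.LocDimSchH8.localDim_scheme (V.residueField (h.base u))
    (h.fiber (h.base u)) (h.asFiber u) n b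
    (by rw [Groth.Agent.FibResH8.trdeg_asFiber h u]; exact hn) hb
  have h1 : FlatMor.fibreDimAt h u = ((n + b : ℕ) : WithBot ℕ∞) := hloc
  have h2 : ((fibCoh h u : ℕ∞) : WithBot ℕ∞) = ((b : ℕ) : WithBot ℕ∞) := by
    rw [← stalk_fiber_eq_fibCoh]; exact hb
  have h3 : Dual3.resTrdeg h u = (n : Cardinal.{u}) := hn
  rw [h1, h2, h3, Cardinal.toENat_nat]
  push_cast
  rw [add_comm]

end FibCohH8
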