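import Mathlib
import Groth.Agent.Lib.FibCoh_helper8

universe u
open AlgebraicGeometry CategoryTheory

namespace FibCohH8

theorem coheight_eq_of_surj_embedding {α β : Type*} [Preorder α] [Preorder β] (φ : α → β)
    (hle : ∀ a a', φ a ≤ φ a' ↔ a ≤ a') (hsurj : Function.Surjective φ) (a : α) :
    Order.coheight (φ a) = Order.coheight a := by
  apply le_antisymm
  · apply EtDimH8.coheight_le_of_lift φ
    intro z b hb
    obtain ⟨z', rfl⟩ := hsurj b
    refine ⟨z', ?_, rfl⟩
    rw [lt_iff_le_not_ge] at hb ⊢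
    exact ⟨(hle z z').mp hb.1, fun h' => hb.2 ((hle z' z).mpr h')⟩
  · apply Order.coheight_le_coheight_apply_of_strictMono
    intro z z' hzz'
    rw [lt_iff_le_not_ge] at hzz' ⊢
    exact ⟨(hle z z').mpr hzz'.1, fun h' => hzz'.2 ((hle z' z).mp h')⟩

/-- Pointwise going-down: if the stalk map at `x` is flat, then generizations of the image of any
generization `x'` of `x` lift to generizations of `x'`. -/
theorem exists_generization_of_flat_stalkMap {X Y : Scheme.{u}} (f : X ⟶ Y) (x : X)
    (hfl : (f.stalkMap x).hom.Flat) (x' : X) (hx' : x' ⤳ x) (y' : Y) (hy' : y' ⤳ f x') :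
    ∃ x'' : X, x'' ⤳ x' ∧ f x'' = y' := by
  have h1 : x' ∈ Set.range (X.fromSpecStalk x) := by
    rw [Scheme.range_fromSpecStalk]; exact hx'
  obtain ⟨P', rfl⟩ := h1
  have h2 : y' ∈ Set.range (Y.fromSpecStalk (f x)) := by
    rw [Scheme.range_fromSpecStalk]
    exact hy'.trans (hx'.map f.continuous)
  obtain ⟨Q', rfl⟩ := h2
  have hcomm : ∀ P : Spec (X.presheaf.stalk x),
      Y.fromSpecStalk (f x) ((Spec.map (f.stalkMap x)) P) = f (X.fromSpecStalk x P) := by
    intro P
    have := congrArg (fun g : Spec (X.presheaf.stalk x) ⟶ Y => g P)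
      (Scheme.SpecMap_stalkMap_fromSpecStalk f (x := x))
    exact this
  have h3 : Q' ⤳ (Spec.map (f.stalkMap x)) P' := by
    rw [← (Y.fromSpecStalk (f x)).isEmbedding.isInducing.specializes_iff, hcomm]
    exact hy'
  have hgen : GeneralizingMap (PrimeSpectrum.comap (f.stalkMap x).hom) :=
    RingHom.Flat.generalizingMap_comap hfl
  obtain ⟨P'', hP'', hφ⟩ := hgen h3
  refine ⟨X.fromSpecStalk x P'', hP''.map (X.fromSpecStalk x).continuous, ?_⟩
  rw [← hcomm]
  exact congrArg _ hφ

/-- Under flatness of the stalk map at `x`, the fibre coheight of a composite is at least the sum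
of the fibre coheights. -/
theorem fibCoh_add_le_of_flat {X Y S : Scheme.{u}} (f : X ⟶ Y) (g : Y ⟶ S) (x : X)
    (hfl : (f.stalkMap x).hom.Flat) :
    fibCoh f x + fibCoh g (f x) ≤ fibCoh (f ≫ g) x := by
  -- step 1: for any `x₁` in the fibre of `f` through `x` generizing `x`,
  -- `fibCoh g (f x) ≤ coheight` of `x₁` in the fibre of `f ≫ g`.
  have step1 : ∀ (x₁ : X) (hx₁ : f x₁ = f x) (hsp : x₁ ⤳ x),
      fibCoh g (f x) ≤ Order.coheight
        (⟨x₁, by simp only [Scheme.Hom.comp_apply]; rw [hx₁]⟩ :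
          {x' : X // (f ≫ g) x' = (f ≫ g) x}) := by
    intro x₁ hx₁ hsp
    let A := {x' : X // x' ⤳ x ∧ g (f x') = g (f x)}
    let φ : A → {y' : Y // g y' = g (f x)} := fun a => ⟨f a.1, a.2.2⟩
    let ι : A → {x' : X // (f ≫ g) x' = (f ≫ g) x} := fun a => ⟨a.1, a.2.2⟩
    have hφ : Order.coheight (φ ⟨x₁, hsp, by rw [hx₁]⟩) ≤
        Order.coheight (⟨x₁, hsp, by rw [hx₁]⟩ : A) := by
      apply EtDimH8.coheight_le_of_lift φ
      rintro ⟨a, ha1, ha2⟩ ⟨b, hb⟩ hlt
      have hlt' : f a < b := hlt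
      have hsp' : b ⤳ f a := hlt'.le
      obtain ⟨a', ha', hfa'⟩ := exists_generization_of_flat_stalkMap f x hfl a ha1 b hsp'
      refine ⟨⟨a', ha'.trans ha1, by rw [hfa', hb]⟩, ?_, Subtype.ext hfa'⟩
      have hle : a ≤ a' := ha'
      show a < a'
      refine lt_of_le_not_ge hle ?_
      intro hge
      have h2 : a ⤳ a' := hge
      have h3 : f a ⤳ f a' := h2.map f.continuous
      rw [hfa'] at h3
      exact (not_le_of_gt hlt') h3
    have hι : Order.coheight (⟨x₁, hsp, by rw [hx₁]⟩ : A) ≤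
        Order.coheight (ι ⟨x₁, hsp, by rw [hx₁]⟩) := by
      apply Order.coheight_le_coheight_apply_of_strictMono
      intro z z' hzz'
      exact hzz'
    have hfx : φ ⟨x₁, hsp, by rw [hx₁]⟩ = ⟨f x, rfl⟩ := Subtype.ext hx₁
    unfold fibCoh
    rw [← hfx]
    exact hφ.trans hι
  -- step 2: chains in the fibre of `f`
  have step2 : ∀ n : ℕ, (n : ℕ∞) ≤ fibCoh f x → (n : ℕ∞) + fibCoh g (f x) ≤ fibCoh (f ≫ g) x := by
    intro n hn
    obtain ⟨p, hphead, hplen⟩ := Order.exists_series_of_le_coheight _ hn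
    let j : {x' : X // f x' = f x} → {x' : X // (f ≫ g) x' = (f ≫ g) x} := fun a =>
      ⟨a.1, by simp only [Scheme.Hom.comp_apply]; rw [a.2]⟩
    have hj : StrictMono j := fun a b hab => hab
    let p' : LTSeries {x' : X // (f ≫ g) x' = (f ≫ g) x} := p.map j hj
    have h1 := Groth.Agent.FibChainH8.coheight_last_add_length_le p'
    have hh : p'.head = ⟨x, rfl⟩ := by
      have : p'.head = j p.head := LTSeries.head_map _ _ _
      rw [this, hphead]
    have hl : p'.last = j p.last := LTSeries.last_map _ _ _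
    have hlen : p'.length = n := hplen
    rw [hh, hl, hlen] at h1
    have hsp : p.last.1 ⤳ x := by
      have : p.head ≤ p.last := LTSeries.head_le_last p
      rw [hphead] at this
      exact this
    have h2 := step1 p.last.1 p.last.2 hsp
    unfold fibCoh at h2 ⊢
    calc (n : ℕ∞) + Order.coheight (⟨f x, rfl⟩ : {y' : Y // g y' = g (f x)})
        ≤ (n : ℕ∞) + Order.coheight (j p.last) := by gcongr
      _ = Order.coheight (j p.last) + n := add_comm _ _
      _ ≤ _ := h1
  -- conclude
  by_cases htop : fibCoh f x = ⊤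
  · have : fibCoh (f ≫ g) x = ⊤ := by
      rw [ENat.eq_top_iff_forall_ge]
      intro m
      have := step2 m (by rw [htop]; exact le_top)
      exact le_trans le_self_add this
    rw [this]; exact le_top
  · obtain ⟨n, hn⟩ := ENat.ne_top_iff_exists.mp htop
    rw [← hn]
    exact step2 n (by rw [← hn])

end FibCohH8
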