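import Mathlib

open IsLocalRing Pointwise

namespace Groth.Agent.FibDim

universe u


section Quot

variable {A B : Type*} [CommRing A] [CommRing B] [IsLocalRing A] [IsLocalRing B] [Algebra A B]
  [IsLocalHom (algebraMap A B)]

theorem map_le_maximalIdeal {I : Ideal A} (hI : I ≤ maximalIdeal A) :
    I.map (algebraMap A B) ≤ maximalIdeal B :=
  (Ideal.map_mono hI).trans (IsLocalRing.map_maximalIdeal_le (algebraMap A B))

theorem nontrivial_quot {R : Type*} [CommRing R] [IsLocalRing R] {I : Ideal R}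
    (hI : I ≤ maximalIdeal R) : Nontrivial (R ⧸ I) :=
  Ideal.Quotient.nontrivial_iff.mpr
    (fun h => (maximalIdeal.isMaximal R).ne_top (top_le_iff.mp (h ▸ hI)))

theorem isLocalRing_quot {R : Type*} [CommRing R] [IsLocalRing R] {I : Ideal R}
    (hI : I ≤ maximalIdeal R) : IsLocalRing (R ⧸ I) :=
  haveI := nontrivial_quot hI
  IsLocalRing.of_surjective' (Ideal.Quotient.mk I) Ideal.Quotient.mk_surjective

/-- In a local ring, `mk b` is a unit in `R ⧸ I` (for `I ≤ m`) iff `b` is a unit. -/
theorem isUnit_of_isUnit_mk {R : Type*} [CommRing R] [IsLocalRing R] {I : Ideal R}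
    (hI : I ≤ maximalIdeal R) {b : R} (hb : IsUnit (Ideal.Quotient.mk I b)) : IsUnit b := by
  obtain ⟨c', hc'⟩ := hb.exists_right_inv
  obtain ⟨c, rfl⟩ := Ideal.Quotient.mk_surjective c'
  rw [← map_mul, ← map_one (Ideal.Quotient.mk I), Ideal.Quotient.eq] at hc'
  by_contra hnb
  have hbm : b ∈ maximalIdeal R := (IsLocalRing.mem_maximalIdeal b).mpr hnb
  have h1 : (1 : R) ∈ maximalIdeal R := by
    have h2 : b * c - 1 ∈ maximalIdeal R := hI hc'
    have h3 : b * c ∈ maximalIdeal R := Ideal.mul_mem_right c _ hbm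
    have : (1 : R) = b * c - (b * c - 1) := by ring
    rw [this]
    exact Ideal.sub_mem _ h3 h2
  exact (maximalIdeal.isMaximal R).ne_top ((Ideal.eq_top_iff_one _).mpr h1)

theorem isLocalHom_quot {I : Ideal A} (hI : I ≤ maximalIdeal A) :
    IsLocalHom (algebraMap (A ⧸ I) (B ⧸ I.map (algebraMap A B))) := by
  constructor
  intro a' ha'
  obtain ⟨a, rfl⟩ := Ideal.Quotient.mk_surjective a'
  have h1 : IsUnit (Ideal.Quotient.mk (I.map (algebraMap A B)) (algebraMap A B a)) := ha'
  have h2 : IsUnit (algebraMap A B a) := isUnit_of_isUnit_mk (map_le_maximalIdeal hI) h1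
  have h3 : IsUnit a := isUnit_of_map_unit (algebraMap A B) a h2
  exact h3.map _

end Quot



theorem dim_quot_succ_le {R : Type*} [CommRing R] [IsNoetherianRing R] {x : R}
    (hn : ∀ p ∈ minimalPrimes R, x ∉ p) (J : Ideal R) (hJ : J = Ideal.span {x}) :
    ringKrullDim (R ⧸ J) + 1 ≤ ringKrullDim R := by
  subst hJ
  have h : Ideal.span {x} = x • (⊤ : Ideal R) := by
    simp [← Submodule.ideal_span_singleton_smul]
  rw [ringKrullDim_eq_of_ringEquiv (Ideal.quotientEquivAlgOfEq R h).toRingEquiv,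
    ← Module.supportDim_quotient_eq_ringKrullDim, ← Module.supportDim_self_eq_ringKrullDim]
  apply Module.supportDim_quotSMulTop_succ_le_of_notMem_minimalPrimes
  intro p hp
  apply hn p
  rwa [Module.annihilator_eq_bot.mpr inferInstance] at hp

theorem dim_quot_succ_eq {R : Type*} [CommRing R] [IsNoetherianRing R] [IsLocalRing R] {x : R}
    (hx : x ∈ maximalIdeal R)
    (hn : ∀ p ∈ minimalPrimes R, x ∉ p) (J : Ideal R) (hJ : J = Ideal.span {x}) :
    ringKrullDim (R ⧸ J) + 1 = ringKrullDim R := by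
  subst hJ
  have h : Ideal.span {x} = x • (⊤ : Ideal R) := by
    simp [← Submodule.ideal_span_singleton_smul]
  rw [ringKrullDim_eq_of_ringEquiv (Ideal.quotientEquivAlgOfEq R h).toRingEquiv,
    ← Module.supportDim_quotient_eq_ringKrullDim, ← Module.supportDim_self_eq_ringKrullDim]
  apply Module.supportDim_quotSMulTop_succ_eq_of_notMem_minimalPrimes_of_mem_maximalIdeal _ hx
  intro p hp
  apply hn p
  rwa [Module.annihilator_eq_bot.mpr inferInstance] at hp



theorem exists_avoid {A B : Type*} [CommRing A] [CommRing B] [IsNoetherianRing A]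
    [IsNoetherianRing B] [IsLocalRing A] [Algebra A B]
    (hA : ∀ p ∈ minimalPrimes A, p ≠ maximalIdeal A)
    (hB : ∀ q ∈ minimalPrimes B, q.comap (algebraMap A B) ≠ maximalIdeal A) :
    ∃ x ∈ maximalIdeal A, (∀ p ∈ minimalPrimes A, x ∉ p) ∧
      (∀ q ∈ minimalPrimes B, algebraMap A B x ∉ q) := by
  classical
  have hfin : ((minimalPrimes A) ∪ (Ideal.comap (algebraMap A B) '' minimalPrimes B)).Finite :=
    (minimalPrimes.finite_of_isNoetherianRing A).union
      ((minimalPrimes.finite_of_isNoetherianRing B).image _)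
  by_contra hcon
  push Not at hcon
  have hsub : ((maximalIdeal A : Ideal A) : Set A) ⊆ ⋃ i ∈ (hfin.toFinset : Set (Ideal A)), (i : Set A) := by
    intro x hx
    by_cases h1 : ∀ p ∈ minimalPrimes A, x ∉ p
    · obtain ⟨q, hq, hxq⟩ := hcon x hx h1
      refine Set.mem_biUnion (x := q.comap (algebraMap A B)) ?_ hxq
      simp only [Set.Finite.coe_toFinset]
      exact Or.inr ⟨q, hq, rfl⟩
    · push Not at h1
      obtain ⟨p, hp, hxp⟩ := h1
      refine Set.mem_biUnion (x := p) ?_ hxp
      simp only [Set.Finite.coe_toFinset]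
      exact Or.inl hp
  have hprime : ∀ i ∈ hfin.toFinset, i ≠ (⊥ : Ideal A) → i ≠ (⊥ : Ideal A) → (id i : Ideal A).IsPrime := by
    intro i hi _ _
    rw [Set.Finite.mem_toFinset] at hi
    rcases hi with hi | ⟨q, hq, rfl⟩
    · exact hi.1.1
    · haveI := hq.1.1
      exact Ideal.IsPrime.comap _
  obtain ⟨i, hi, hle⟩ := (Ideal.subset_union_prime (f := id) ⊥ ⊥ hprime).mp hsub
  rw [Set.Finite.mem_toFinset] at hi
  have hip : (i : Ideal A).IsPrime := by
    rcases hi with hi | ⟨q, hq, rfl⟩
    · exact hi.1.1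
    · haveI := hq.1.1
      exact Ideal.IsPrime.comap _
  have hieq : i = maximalIdeal A := le_antisymm (IsLocalRing.le_maximalIdeal hip.ne_top) hle
  rcases hi with hi | ⟨q, hq, rfl⟩
  · exact hA i hi hieq
  · exact hB q hq hieq

/-- The closed fibre of `A/I → B/IB` is the closed fibre of `A → B`. -/
noncomputable def fibEquiv {A B : Type*} [CommRing A] [CommRing B] [IsLocalRing A] [Algebra A B]
    (I : Ideal A) (hI : I ≤ maximalIdeal A) [IsLocalRing (A ⧸ I)] :
    ((B ⧸ I.map (algebraMap A B)) ⧸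
      (maximalIdeal (A ⧸ I)).map (algebraMap (A ⧸ I) (B ⧸ I.map (algebraMap A B)))) ≃+*
      (B ⧸ (maximalIdeal A).map (algebraMap A B)) := by
  have h1 : (maximalIdeal (A ⧸ I)).map (algebraMap (A ⧸ I) (B ⧸ I.map (algebraMap A B))) =
      ((maximalIdeal A).map (algebraMap A B)).map (Ideal.Quotient.mk (I.map (algebraMap A B))) := by
    rw [← IsLocalRing.map_maximalIdeal_of_surjective (Ideal.Quotient.mk I)
      Ideal.Quotient.mk_surjective, Ideal.map_map, Ideal.map_map]
    rfl
  have h2 : I.map (algebraMap A B) ⊔ (maximalIdeal A).map (algebraMap A B) =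
      (maximalIdeal A).map (algebraMap A B) := sup_eq_right.mpr (Ideal.map_mono hI)
  exact (Ideal.quotEquivOfEq h1).trans
    ((DoubleQuot.quotQuotEquivQuotSup _ _).trans (Ideal.quotEquivOfEq h2))



/-- The EGA hypothesis: for each non-maximal prime `p` of `A`, no minimal prime over `pB`
lies over the maximal ideal of `A`. -/
def Hyp (A B : Type*) [CommRing A] [CommRing B] [IsLocalRing A] [Algebra A B] : Prop :=
  ∀ p : Ideal A, p.IsPrime → p ≠ maximalIdeal A →
    ∀ q ∈ (p.map (algebraMap A B)).minimalPrimes,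
      q.comap (algebraMap A B) ≠ maximalIdeal A

theorem hyp_quot {A B : Type*} [CommRing A] [CommRing B] [IsLocalRing A] [Algebra A B]
    (I : Ideal A) [IsLocalRing (A ⧸ I)] (h : Hyp A B) :
    Hyp (A ⧸ I) (B ⧸ I.map (algebraMap A B)) := by
  intro p' hp' hne q' hq' hcon
  have hsurjA : Function.Surjective (Ideal.Quotient.mk I) := Ideal.Quotient.mk_surjective
  have hsurjB : Function.Surjective (Ideal.Quotient.mk (I.map (algebraMap A B))) :=
    Ideal.Quotient.mk_surjective
  haveI : IsLocalHom (Ideal.Quotient.mk I) := IsLocalHom.of_surjective _ hsurjA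
  have hcomp : (algebraMap (A ⧸ I) (B ⧸ I.map (algebraMap A B))).comp (Ideal.Quotient.mk I) =
      (Ideal.Quotient.mk (I.map (algebraMap A B))).comp (algebraMap A B) := rfl
  have hp : (p'.comap (Ideal.Quotient.mk I)).IsPrime := Ideal.IsPrime.comap _
  have hpne : p'.comap (Ideal.Quotient.mk I) ≠ maximalIdeal A := by
    intro heq
    apply hne
    rw [← Ideal.map_comap_of_surjective _ hsurjA p', heq,
      IsLocalRing.map_maximalIdeal_of_surjective _ hsurjA]
  have hIp : I ≤ p'.comap (Ideal.Quotient.mk I) := by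
    intro x hx
    rw [Ideal.mem_comap, Ideal.Quotient.eq_zero_iff_mem.mpr hx]
    exact zero_mem _
  have hideal : (p'.map (algebraMap (A ⧸ I) (B ⧸ I.map (algebraMap A B)))).comap
      (Ideal.Quotient.mk (I.map (algebraMap A B))) =
      (p'.comap (Ideal.Quotient.mk I)).map (algebraMap A B) := by
    conv_lhs => rw [← Ideal.map_comap_of_surjective _ hsurjA p', Ideal.map_map, hcomp,
      ← Ideal.map_map, Ideal.comap_map_of_surjective _ hsurjB, ← RingHom.ker_eq_comap_bot,
      Ideal.mk_ker]
    exact sup_eq_left.mpr (Ideal.map_mono hIp)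
  have hQ : q'.comap (Ideal.Quotient.mk (I.map (algebraMap A B))) ∈
      ((p'.comap (Ideal.Quotient.mk I)).map (algebraMap A B)).minimalPrimes := by
    rw [← hideal, Ideal.comap_minimalPrimes_eq_of_surjective hsurjB]
    exact ⟨q', hq', rfl⟩
  apply h _ hp hpne _ hQ
  rw [Ideal.comap_comap, ← hcomp, ← Ideal.comap_comap, hcon]
  exact IsLocalRing.maximalIdeal_comap _


theorem dim_ge_aux (n : ℕ) : ∀ (A B : Type u) [CommRing A] [CommRing B] [IsNoetherianRing A]
    [IsNoetherianRing B] [IsLocalRing A] [IsLocalRing B] [Algebra A B]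
    [IsLocalHom (algebraMap A B)], Hyp A B → ringKrullDim A = n →
    ringKrullDim A + ringKrullDim (B ⧸ (maximalIdeal A).map (algebraMap A B)) ≤
      ringKrullDim B := by
  induction n with
  | zero =>
    intro A B _ _ _ _ _ _ _ _ _ hn
    rw [hn]
    simp only [CharP.cast_eq_zero, zero_add]
    exact ringKrullDim_quotient_le _
  | succ n ih =>
    intro A B _ _ _ _ _ _ _ _ h hn
    have hmin : maximalIdeal A ∉ minimalPrimes A := by
      intro hm
      have h0 : (maximalIdeal A).height = 0 := Ideal.height_eq_zero_iff.mpr hm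
      have h1 := IsLocalRing.maximalIdeal_height_eq_ringKrullDim (R := A)
      rw [h0, hn] at h1
      norm_cast at h1
    have hA : ∀ p ∈ minimalPrimes A, p ≠ maximalIdeal A := fun p hp heq => hmin (heq ▸ hp)
    have hB : ∀ q ∈ minimalPrimes B, q.comap (algebraMap A B) ≠ maximalIdeal A := by
      intro q hq
      haveI := hq.1.1
      obtain ⟨p, hp, hpq⟩ := Ideal.exists_minimalPrimes_le
        (I := (⊥ : Ideal A)) (J := q.comap (algebraMap A B)) bot_le
      refine h p hp.1.1 (hA p hp) q ⟨⟨hq.1.1, Ideal.map_le_iff_le_comap.mpr hpq⟩, ?_⟩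
      intro q' hq' hle
      exact hq.2 ⟨hq'.1, bot_le⟩ hle
    obtain ⟨x, hxm, hxA, hxB⟩ := exists_avoid hA hB
    have hI : Ideal.span {x} ≤ maximalIdeal A := (Ideal.span_singleton_le_iff_mem _).mpr hxm
    haveI : Nontrivial (A ⧸ Ideal.span {x}) := nontrivial_quot hI
    haveI : IsLocalRing (A ⧸ Ideal.span {x}) := isLocalRing_quot hI
    haveI : Nontrivial (B ⧸ (Ideal.span {x}).map (algebraMap A B)) :=
      nontrivial_quot (map_le_maximalIdeal hI)
    haveI : IsLocalRing (B ⧸ (Ideal.span {x}).map (algebraMap A B)) :=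
      isLocalRing_quot (map_le_maximalIdeal hI)
    haveI : IsLocalHom (algebraMap (A ⧸ Ideal.span {x})
      (B ⧸ (Ideal.span {x}).map (algebraMap A B))) := isLocalHom_quot hI
    have hdA : ringKrullDim (A ⧸ Ideal.span {x}) + 1 = ringKrullDim A :=
      dim_quot_succ_eq hxm hxA _ rfl
    have hdB : ringKrullDim (B ⧸ (Ideal.span {x}).map (algebraMap A B)) + 1 ≤ ringKrullDim B :=
      dim_quot_succ_le hxB _ (by rw [Ideal.map_span, Set.image_singleton])
    have hdA' : ringKrullDim (A ⧸ Ideal.span {x}) = n := by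
      rw [hn] at hdA
      have hnb : ringKrullDim (A ⧸ Ideal.span {x}) ≠ ⊥ := ringKrullDim_ne_bot
      obtain ⟨m, hm⟩ := WithBot.ne_bot_iff_exists.mp hnb
      rw [← hm] at hdA ⊢
      have : m + 1 = ((n + 1 : ℕ) : ℕ∞) := by exact_mod_cast hdA
      have h' : m + 1 = (n : ℕ∞) + 1 := by exact_mod_cast this
      have h2 : m = (n : ℕ∞) := ENat.add_left_injective_of_ne_top ENat.one_ne_top h'
      rw [h2]; rfl
    have key := ih (A ⧸ Ideal.span {x}) (B ⧸ (Ideal.span {x}).map (algebraMap A B))
      (hyp_quot _ h) hdA'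
    rw [ringKrullDim_eq_of_ringEquiv (fibEquiv (Ideal.span {x}) hI)] at key
    calc ringKrullDim A + ringKrullDim (B ⧸ (maximalIdeal A).map (algebraMap A B))
        = (ringKrullDim (A ⧸ Ideal.span {x}) +
            ringKrullDim (B ⧸ (maximalIdeal A).map (algebraMap A B))) + 1 := by
          rw [← hdA]; abel
      _ ≤ ringKrullDim (B ⧸ (Ideal.span {x}).map (algebraMap A B)) + 1 := by gcongr
      _ ≤ ringKrullDim B := hdB


theorem dim_le {A B : Type*} [CommRing A] [CommRing B] [IsNoetherianRing A]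
    [IsNoetherianRing B] [IsLocalRing A] [IsLocalRing B] [Algebra A B]
    [IsLocalHom (algebraMap A B)] :
    ringKrullDim B ≤
      ringKrullDim A + ringKrullDim (B ⧸ (maximalIdeal A).map (algebraMap A B)) := by
  haveI : Nontrivial (B ⧸ (maximalIdeal A).map (algebraMap A B)) :=
    nontrivial_quot (map_le_maximalIdeal le_rfl)
  haveI : IsLocalRing (B ⧸ (maximalIdeal A).map (algebraMap A B)) :=
    isLocalRing_quot (map_le_maximalIdeal le_rfl)
  have hlo : (maximalIdeal B).LiesOver (maximalIdeal A) := by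
    constructor
    exact (((local_hom_TFAE (algebraMap A B)).out 0 4 rfl rfl).mp ‹_›).symm
  have key := Ideal.height_le_height_add_of_liesOver (maximalIdeal A) (maximalIdeal B)
  rw [IsLocalRing.map_maximalIdeal_of_surjective _ Ideal.Quotient.mk_surjective] at key
  rw [← IsLocalRing.maximalIdeal_height_eq_ringKrullDim,
    ← IsLocalRing.maximalIdeal_height_eq_ringKrullDim,
    ← IsLocalRing.maximalIdeal_height_eq_ringKrullDim]
  exact_mod_cast key

theorem dim_eq (A B : Type u) [CommRing A] [CommRing B] [IsNoetherianRing A]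
    [IsNoetherianRing B] [IsLocalRing A] [IsLocalRing B] [Algebra A B]
    [IsLocalHom (algebraMap A B)] (h : Hyp A B) :
    ringKrullDim B =
      ringKrullDim A + ringKrullDim (B ⧸ (maximalIdeal A).map (algebraMap A B)) := by
  refine le_antisymm dim_le ?_
  have hnb : ringKrullDim A ≠ ⊥ := ringKrullDim_ne_bot
  have hnt : ringKrullDim A ≠ ⊤ := ringKrullDim_ne_top
  obtain ⟨m, hm⟩ := WithBot.ne_bot_iff_exists.mp hnb
  have hmt : m ≠ ⊤ := by
    rintro rfl
    exact hnt hm.symm
  obtain ⟨n, rfl⟩ := ENat.ne_top_iff_exists.mp hmt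
  exact dim_ge_aux n A B h hm.symm

end Groth.Agent.FibDim
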