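import Mathlib
import Groth.Agent.Lib.FibDim_helper8

/-! Dimension of the local ring of a fibre is at least that of `O_x / m_y O_x`. -/

universe u

open AlgebraicGeometry CategoryTheory IsLocalRing

namespace Groth.Agent.FibStalkDimH8

variable {X Y : Scheme.{u}} (f : X ⟶ Y) (x : X)

/-- the ideal `m_y O_x`. -/
noncomputable abbrev fibIdeal : Ideal (X.presheaf.stalk x) :=
  (maximalIdeal (Y.presheaf.stalk (f x))).map (f.stalkMap x).hom

/-- point of `X` attached to a prime of `O_x / m_y O_x`. -/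
noncomputable def pt (P : PrimeSpectrum (X.presheaf.stalk x ⧸ fibIdeal f x)) : X :=
  X.fromSpecStalk x (PrimeSpectrum.comap (Ideal.Quotient.mk (fibIdeal f x)) P)

theorem pt_specializes (P : PrimeSpectrum (X.presheaf.stalk x ⧸ fibIdeal f x)) :
    pt f x P ⤳ x := by
  have : pt f x P ∈ Set.range (X.fromSpecStalk x) := ⟨_, rfl⟩
  rw [Scheme.range_fromSpecStalk] at this
  exact this

theorem f_pt (P : PrimeSpectrum (X.presheaf.stalk x ⧸ fibIdeal f x)) :
    f (pt f x P) = f x := by
  set p : Spec (X.presheaf.stalk x) := PrimeSpectrum.comap (Ideal.Quotient.mk (fibIdeal f x)) P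
    with hp
  have h1 : f (pt f x P) = (X.fromSpecStalk x ≫ f) p := rfl
  rw [h1, ← Scheme.SpecMap_stalkMap_fromSpecStalk]
  have h2 : (Spec.map (f.stalkMap x)) p = closedPoint (Y.presheaf.stalk (f x)) := by
    apply PrimeSpectrum.ext
    change Ideal.comap (f.stalkMap x).hom p.asIdeal = maximalIdeal _
    refine (IsLocalRing.eq_maximalIdeal ?_)
    have hle : maximalIdeal (Y.presheaf.stalk (f x)) ≤ Ideal.comap (f.stalkMap x).hom p.asIdeal := by
      rw [← Ideal.map_le_iff_le_comap]
      intro a ha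
      change Ideal.Quotient.mk (fibIdeal f x) a ∈ P.asIdeal
      rw [Ideal.Quotient.eq_zero_iff_mem.mpr ha]
      exact zero_mem _
    have hprime : (Ideal.comap (f.stalkMap x).hom p.asIdeal).IsPrime := Ideal.comap_isPrime _ _
    rcases (IsLocalRing.maximalIdeal.isMaximal _).eq_of_le hprime.ne_top hle with h
    rw [← h]
    exact IsLocalRing.maximalIdeal.isMaximal _
  rw [Scheme.Hom.comp_apply, h2, Scheme.fromSpecStalk_closedPoint]


/-- point of the fibre attached to a prime of `O_x / m_y O_x`. -/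
noncomputable def fpt (P : PrimeSpectrum (X.presheaf.stalk x ⧸ fibIdeal f x)) : f.fiber (f x) :=
  (f.fiberHomeo (f x)).symm ⟨pt f x P, f_pt f x P⟩

theorem fiberι_fpt (P : PrimeSpectrum (X.presheaf.stalk x ⧸ fibIdeal f x)) :
    f.fiberι (f x) (fpt f x P) = pt f x P :=
  f.fiberι_fiberHomeo_symm _ _

theorem fpt_specializes (P : PrimeSpectrum (X.presheaf.stalk x ⧸ fibIdeal f x)) :
    fpt f x P ⤳ f.asFiber x := by
  rw [← (f.fiberι (f x)).isEmbedding.isInducing.specializes_iff, fiberι_fpt,
    Scheme.Hom.fiberι_asFiber]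
  exact pt_specializes f x P

theorem fpt_specializes_iff (P Q : PrimeSpectrum (X.presheaf.stalk x ⧸ fibIdeal f x)) :
    fpt f x P ⤳ fpt f x Q ↔ P ≤ Q := by
  rw [← (f.fiberι (f x)).isEmbedding.isInducing.specializes_iff, fiberι_fpt, fiberι_fpt]
  unfold pt
  rw [(X.fromSpecStalk x).isEmbedding.isInducing.specializes_iff]
  refine (PrimeSpectrum.le_iff_specializes
    (PrimeSpectrum.comap (Ideal.Quotient.mk (fibIdeal f x)) P)
    (PrimeSpectrum.comap (Ideal.Quotient.mk (fibIdeal f x)) Q)).symm.trans ?_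
  constructor
  · intro h
    change P.asIdeal ≤ Q.asIdeal
    intro a ha
    obtain ⟨a, rfl⟩ := Ideal.Quotient.mk_surjective a
    exact h ha
  · intro h a ha
    exact h ha


theorem dim_quot_le :
    ringKrullDim (X.presheaf.stalk x ⧸ fibIdeal f x) ≤
      ringKrullDim ((f.fiber (f x)).presheaf.stalk (f.asFiber x)) := by
  rw [ringKrullDim_stalk_eq_coheight, Order.coheight_eq_krullDim_Ici, ringKrullDim,
    ← Order.krullDim_orderDual]
  let g : (PrimeSpectrum (X.presheaf.stalk x ⧸ fibIdeal f x))ᵒᵈ → Set.Ici (f.asFiber x) :=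
    fun P => ⟨fpt f x (OrderDual.ofDual P), fpt_specializes f x _⟩
  refine Order.krullDim_le_of_strictMono g ?_
  intro a b hab
  have hab' : OrderDual.ofDual b < OrderDual.ofDual a := hab
  rw [lt_iff_le_not_ge] at hab' ⊢
  constructor
  · change fpt f x (OrderDual.ofDual b) ⤳ fpt f x (OrderDual.ofDual a)
    rw [fpt_specializes_iff]
    exact hab'.1
  · intro h
    change fpt f x (OrderDual.ofDual a) ⤳ fpt f x (OrderDual.ofDual b) at h
    rw [fpt_specializes_iff] at h
    exact hab'.2 h

theorem main [IsLocallyNoetherian Y] [LocallyOfFiniteType f] :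
    ringKrullDim (X.presheaf.stalk x) ≤
      ringKrullDim (Y.presheaf.stalk (f x)) +
        ringKrullDim ((f.fiber (f x)).presheaf.stalk (f.asFiber x)) := by
  haveI : IsLocallyNoetherian X := LocallyOfFiniteType.isLocallyNoetherian f
  letI : Algebra (Y.presheaf.stalk (f x)) (X.presheaf.stalk x) := (f.stalkMap x).hom.toAlgebra
  haveI : IsLocalHom (algebraMap (Y.presheaf.stalk (f x)) (X.presheaf.stalk x)) :=
    inferInstanceAs (IsLocalHom (f.stalkMap x).hom)
  have h := FibDim.dim_le (A := Y.presheaf.stalk (f x)) (B := X.presheaf.stalk x)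
  refine h.trans ?_
  gcongr
  exact dim_quot_le f x

end Groth.Agent.FibStalkDimH8
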