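import Mathlib
import Groth.Agent.Lib.FibCoh5_helper8
import Groth.Agent.Lib.FibStalkDim_helper8

universe u
open AlgebraicGeometry CategoryTheory CategoryTheory.Limits

namespace FibCohH8

/-- The dimension inequality for the local rings of the fibres of a composite. -/
theorem fibCoh_comp_le {X Y S : Scheme.{u}} (f : X ⟶ Y) (g : Y ⟶ S) [LocallyOfFiniteType f]
    [LocallyOfFiniteType g] (x : X) :
    fibCoh (f ≫ g) x ≤ fibCoh f x + fibCoh g (f x) := by
  let fs : (f ≫ g).fiber ((f ≫ g) x) ⟶ g.fiber ((f ≫ g) x) :=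
    pullback.lift ((f ≫ g).fiberι ((f ≫ g) x) ≫ f) ((f ≫ g).fiberToSpecResidueField ((f ≫ g) x))
      (by rw [Category.assoc]; exact pullback.condition)
  have hι : fs ≫ g.fiberι ((f ≫ g) x) = (f ≫ g).fiberι ((f ≫ g) x) ≫ f := pullback.lift_fst _ _ _
  have hπ : fs ≫ g.fiberToSpecResidueField ((f ≫ g) x) =
      (f ≫ g).fiberToSpecResidueField ((f ≫ g) x) := pullback.lift_snd _ _ _
  have hι' : ∀ z, g.fiberι ((f ≫ g) x) (fs z) = f ((f ≫ g).fiberι ((f ≫ g) x) z) := fun z =>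
    congrArg (fun k : (f ≫ g).fiber ((f ≫ g) x) ⟶ Y => k z) hι
  haveI : LocallyOfFiniteType (fs ≫ g.fiberToSpecResidueField ((f ≫ g) x)) := by
    rw [hπ]; exact Groth.Agent.FibRes2H8.lft_fiber (f ≫ g) _
  haveI : LocallyOfFiniteType fs :=
    locallyOfFiniteType_of_comp fs (g.fiberToSpecResidueField ((f ≫ g) x))
  haveI : IsLocallyNoetherian (g.fiber ((f ≫ g) x)) :=
    Groth.Agent.FibChainH8.isLocallyNoetherian_fiber g _
  have key := Groth.Agent.FibStalkDimH8.main fs ((f ≫ g).asFiber x)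
  have hinj := (g.fiberι ((f ≫ g) x)).isEmbedding.injective
  have hxs : fs ((f ≫ g).asFiber x) = g.asFiber (f x) := by
    apply hinj
    rw [hι', Scheme.Hom.fiberι_asFiber]
    exact (Scheme.Hom.fiberι_asFiber g (f x)).symm
  rw [stalk_fiber_eq_fibCoh (f ≫ g) x, stalk_fiber_eq_fibCoh fs ((f ≫ g).asFiber x), hxs] at key
  have h2 := stalk_fiber_eq_fibCoh g (f x)
  have key' : ((fibCoh (f ≫ g) x : ℕ∞) : WithBot ℕ∞) ≤ ((fibCoh g (f x) : ℕ∞) : WithBot ℕ∞) +
      ((fibCoh fs ((f ≫ g).asFiber x) : ℕ∞) : WithBot ℕ∞) := by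
    rw [← h2]; exact key
  clear key
  rename' key' => key
  rw [← WithBot.coe_add, WithBot.coe_le_coe] at key
  -- compare `fibCoh fs` with `fibCoh f`
  have h3 : fibCoh fs ((f ≫ g).asFiber x) = fibCoh f x := by
    let φ : {z : (f ≫ g).fiber ((f ≫ g) x) // fs z = fs ((f ≫ g).asFiber x)} →
        {x' : X // f x' = f x} := fun z =>
      ⟨(f ≫ g).fiberι ((f ≫ g) x) z.1, by
        rw [← hι', z.2, hι', Scheme.Hom.fiberι_asFiber]⟩
    have hφ : φ ⟨(f ≫ g).asFiber x, rfl⟩ = ⟨x, rfl⟩ :=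
      Subtype.ext (Scheme.Hom.fiberι_asFiber (f ≫ g) x)
    unfold fibCoh
    rw [← hφ]
    symm
    apply coheight_eq_of_surj_embedding φ
    · intro a a'
      exact Groth.Agent.FibChainH8.fiberι_le_iff (f ≫ g) ((f ≫ g) x) a.1 a'.1
    · rintro ⟨x', hx'⟩
      have hmem : x' ∈ Set.range ((f ≫ g).fiberι ((f ≫ g) x)) := by
        rw [Scheme.Hom.range_fiberι]
        show g (f x') = g (f x)
        rw [hx']
      obtain ⟨z, hz⟩ := hmem
      refine ⟨⟨z, ?_⟩, Subtype.ext hz⟩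
      apply hinj
      rw [hι', hι', hz, Scheme.Hom.fiberι_asFiber, hx']
  rw [h3] at key
  rw [add_comm]
  exact key

end FibCohH8
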