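import Mathlib
import Groth.Agent.Lib.DimIneq_helper8
import Groth.Agent.Lib.ResQuot2_helper8

/-! Strict decrease of the transcendence degree of residue fields along a specialization inside a
fibre of a finite type ring map. -/

universe u

open Ideal

namespace Groth.Agent.TrdegLtH8

/-- A finite type domain `E` over a domain `D` (injective) and a nonzero prime `q'` of `E` meeting
`D` trivially: the transcendence degree drops. -/
theorem trdeg_quotient_lt (D E : Type u) [CommRing D] [IsDomain D] [CommRing E] [IsDomain E]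
    [Algebra D E] [FaithfulSMul D E] [Algebra.FiniteType D E] (q' : Ideal E) [hq' : q'.IsPrime]
    (hne : q' ≠ ⊥) (hD : q'.comap (algebraMap D E) = ⊥) :
    Algebra.trdeg D (E ⧸ q') < Algebra.trdeg D E := by
  classical
  obtain ⟨n, ψ, hψ⟩ := Algebra.FiniteType.iff_quotient_mvPolynomial''.mp
    (inferInstance : Algebra.FiniteType D E)
  set ψ' : MvPolynomial (Fin n) D →+* E := (ψ : MvPolynomial (Fin n) D →+* E) with hψ'
  have hψs : Function.Surjective ψ' := hψ
  have hψC : ∀ a : D, ψ' (MvPolynomial.C a) = algebraMap D E a := fun a => ψ.commutes a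
  set Q : Ideal (MvPolynomial (Fin n) D) := RingHom.ker ψ' with hQ
  set Q' : Ideal (MvPolynomial (Fin n) D) := q'.comap ψ' with hQ'
  haveI hQp : Q.IsPrime := RingHom.ker_isPrime ψ'
  haveI hQ'p : Q'.IsPrime := Ideal.comap_isPrime _ _
  have hQD : Q.comap MvPolynomial.C = ⊥ := by
    rw [eq_bot_iff]
    intro a ha
    have h1 : ψ' (MvPolynomial.C a) = 0 := ha
    rw [hψC] at h1
    rw [Ideal.mem_bot]
    exact (FaithfulSMul.algebraMap_injective D E) (by rw [h1, map_zero])
  have hQ'D : Q'.comap MvPolynomial.C = ⊥ := by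
    rw [eq_bot_iff]
    intro a ha
    have h1 : ψ' (MvPolynomial.C a) ∈ q' := ha
    rw [hψC] at h1
    have h2 : a ∈ q'.comap (algebraMap D E) := h1
    rwa [hD] at h2
  obtain ⟨r, hr, hsum⟩ := Groth.Agent.DimIneqH8.height_add_trdeg_of_comap_eq_bot D n Q hQD
  obtain ⟨r', hr', hsum'⟩ := Groth.Agent.DimIneqH8.height_add_trdeg_of_comap_eq_bot D n Q' hQ'D
  have hlt : Q < Q' := by
    refine lt_of_le_of_ne ?_ ?_
    · intro x hx
      rw [hQ', Ideal.mem_comap]
      rw [hQ, RingHom.mem_ker] at hx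
      rw [hx]
      exact q'.zero_mem
    · intro heq
      apply hne
      rw [eq_bot_iff]
      intro y hy
      obtain ⟨x, rfl⟩ := hψs y
      have : x ∈ Q' := hy
      rw [← heq, hQ, RingHom.mem_ker] at this
      rw [this]
      exact Ideal.zero_mem _
  have hht := Ideal.height_add_one_le_of_lt_of_isPrime hlt
  -- identify the transcendence degrees
  have h1 : Algebra.trdeg D (MvPolynomial (Fin n) D ⧸ Q) = Algebra.trdeg D E := by
    refine Groth.Agent.DimIneqH8.trdeg_eq_of_ringEquiv (RingEquiv.refl D)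
      (RingHom.quotientKerEquivOfSurjective hψs) (fun d => ?_)
    have hd : algebraMap D (MvPolynomial (Fin n) D ⧸ Q) d =
        Ideal.Quotient.mk Q (MvPolynomial.C d) := rfl
    rw [hd, RingHom.quotientKerEquivOfSurjective_apply_mk, hψC]
    rfl
  have h2 : Algebra.trdeg D (MvPolynomial (Fin n) D ⧸ Q') = Algebra.trdeg D (E ⧸ q') := by
    let g : (MvPolynomial (Fin n) D ⧸ Q') ≃+* (E ⧸ q') :=
      RingEquiv.ofBijective (Ideal.quotientMap q' ψ' le_rfl)
        ⟨Ideal.quotientMap_injective, Ideal.quotientMap_surjective hψs⟩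
    refine Groth.Agent.DimIneqH8.trdeg_eq_of_ringEquiv (RingEquiv.refl D) g (fun d => ?_)
    have hd : algebraMap D (MvPolynomial (Fin n) D ⧸ Q') d =
        Ideal.Quotient.mk Q' (MvPolynomial.C d) := rfl
    rw [hd]
    change Ideal.quotientMap q' ψ' le_rfl (Ideal.Quotient.mk Q' _) = _
    rw [Ideal.quotientMap_mk, hψC]
    rfl
  rw [← h1, ← h2, hr, hr']
  obtain ⟨c, hc⟩ : ∃ c : ℕ, Q.height = c := by
    have : Q.height ≠ ⊤ := by
      intro htop
      rw [htop] at hsum
      simp at hsum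
    exact ⟨_, (ENat.natCast_toNat this).symm⟩
  obtain ⟨c', hc'⟩ : ∃ c' : ℕ, Q'.height = c' := by
    have : Q'.height ≠ ⊤ := by
      intro htop
      rw [htop] at hsum'
      simp at hsum'
    exact ⟨_, (ENat.natCast_toNat this).symm⟩
  rw [hc] at hsum hht
  rw [hc'] at hsum' hht
  have e1 : c + r = n := by exact_mod_cast hsum
  have e2 : c' + r' = n := by exact_mod_cast hsum'
  have e3 : c + 1 ≤ c' := by exact_mod_cast hht
  have : r' < r := by omega
  exact_mod_cast this


/-- Strict decrease of transcendence degrees along `q < q'` over the same prime. -/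
theorem trdeg_lt_of_lt {R B : Type u} [CommRing R] [CommRing B] (φ : R →+* B)
    (hφ : φ.FiniteType) (q q' : Ideal B) [hq : q.IsPrime] [hq' : q'.IsPrime] (hlt : q < q')
    (p p' : Ideal R) (hp : p = q.comap φ) (hp' : p' = q'.comap φ) (hpp : p = p') :
    @Algebra.trdeg (R ⧸ p') (B ⧸ q') _ _ (Ideal.quotientMap q' φ (le_of_eq hp')).toAlgebra <
      @Algebra.trdeg (R ⧸ p) (B ⧸ q) _ _ (Ideal.quotientMap q φ (le_of_eq hp)).toAlgebra := by
  subst hpp
  haveI hpp : p.IsPrime := by rw [hp]; exact Ideal.comap_isPrime _ _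
  letI alg0 : Algebra (R ⧸ p) (B ⧸ q) := (Ideal.quotientMap q φ (le_of_eq hp)).toAlgebra
  letI alg1 : Algebra (R ⧸ p) (B ⧸ q') := (Ideal.quotientMap q' φ (le_of_eq hp')).toAlgebra
  have halg0 : ∀ a : R, algebraMap (R ⧸ p) (B ⧸ q) (Ideal.Quotient.mk p a) =
      Ideal.Quotient.mk q (φ a) := fun a => Ideal.quotientMap_mk
  have halg1 : ∀ a : R, algebraMap (R ⧸ p) (B ⧸ q') (Ideal.Quotient.mk p a) =
      Ideal.Quotient.mk q' (φ a) := fun a => Ideal.quotientMap_mk
  haveI : FaithfulSMul (R ⧸ p) (B ⧸ q) :=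
    (faithfulSMul_iff_algebraMap_injective _ _).mpr
      (Ideal.quotientMap_injective' (le_of_eq hp.symm))
  haveI : Algebra.FiniteType (R ⧸ p) (B ⧸ q) :=
    Groth.Agent.ResQuot2H8.finiteType_quotientMap φ hφ q p hp
  set q'' : Ideal (B ⧸ q) := q'.map (Ideal.Quotient.mk q) with hq''
  haveI hq''p : q''.IsPrime :=
    Ideal.map_isPrime_of_surjective Ideal.Quotient.mk_surjective (by rw [Ideal.mk_ker]; exact hlt.le)
  have hne : q'' ≠ ⊥ := by
    intro h0
    obtain ⟨x, hxq', hxq⟩ := SetLike.exists_of_lt hlt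
    have : Ideal.Quotient.mk q x ∈ q'' := Ideal.mem_map_of_mem _ hxq'
    rw [h0, Ideal.mem_bot, Ideal.Quotient.eq_zero_iff_mem] at this
    exact hxq this
  have hD : q''.comap (algebraMap (R ⧸ p) (B ⧸ q)) = ⊥ := by
    rw [eq_bot_iff]
    intro d hd
    obtain ⟨a, rfl⟩ := Ideal.Quotient.mk_surjective d
    rw [Ideal.mem_comap, halg0, hq'', Ideal.mem_quotient_iff_mem hlt.le] at hd
    have : a ∈ q'.comap φ := hd
    rw [← hp'] at this
    rw [Ideal.mem_bot, Ideal.Quotient.eq_zero_iff_mem]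
    exact this
  have key := trdeg_quotient_lt (R ⧸ p) (B ⧸ q) q'' hne hD
  have htr : Algebra.trdeg (R ⧸ p) ((B ⧸ q) ⧸ q'') = Algebra.trdeg (R ⧸ p) (B ⧸ q') := by
    refine Groth.Agent.DimIneqH8.trdeg_eq_of_ringEquiv (RingEquiv.refl (R ⧸ p))
      (DoubleQuot.quotQuotEquivQuotOfLE hlt.le) (fun d => ?_)
    obtain ⟨a, rfl⟩ := Ideal.Quotient.mk_surjective d
    have hd : algebraMap (R ⧸ p) ((B ⧸ q) ⧸ q'') (Ideal.Quotient.mk p a) =
        Ideal.Quotient.mk q'' (algebraMap (R ⧸ p) (B ⧸ q) (Ideal.Quotient.mk p a)) := rfl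
    rw [hd, halg0]
    change DoubleQuot.quotQuotEquivQuotOfLE hlt.le (DoubleQuot.quotQuotMk _ _ (φ a)) = _
    rw [DoubleQuot.quotQuotEquivQuotOfLE_quotQuotMk]
    exact (halg1 a).symm
  rw [htr] at key
  exact key

end Groth.Agent.TrdegLtH8
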