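import Mathlib
import Groth.Agent.Lib.FibRes2_helper8
import Groth.Agent.S9381

/-! Existence of points of a fibre with algebraic residue field extension. -/

universe u

open CategoryTheory CategoryTheory.Limits AlgebraicGeometry

namespace Groth.Agent.FibRes3H8

variable {X Y : Scheme.{u}} (f : X ⟶ Y)

theorem exists_trdeg_zero_aux [LocallyOfFiniteType f] (n : ℕ) : ∀ (x₀ : X),
    @Algebra.trdeg (Y.residueField (f.base x₀)) (X.residueField x₀) _ _
      (f.residueFieldMap x₀).hom.toAlgebra = n →
    ∃ x' : X, x₀ ⤳ x' ∧ f.base x' = f.base x₀ ∧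
      @Algebra.trdeg (Y.residueField (f.base x')) (X.residueField x') _ _
        (f.residueFieldMap x').hom.toAlgebra = 0 := by
  induction n using Nat.strong_induction_on with
  | _ n ih =>
    intro x₀ hn
    obtain ⟨n', hn', hh⟩ := Groth.Agent.FibRes2H8.height_asFiber f x₀
    have hnn : n' = n := by
      have : ((n' : ℕ) : Cardinal) = ((n : ℕ) : Cardinal) := by rw [← hn', hn]
      exact_mod_cast this
    subst hnn
    by_cases h0 : n' = 0
    · subst h0
      exact ⟨x₀, specializes_rfl, rfl, by simpa using hn⟩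
    · have hnotmin : ¬ IsMin (f.asFiber x₀) := by
        intro hmin
        rw [← Order.height_eq_zero, hh] at hmin
        exact h0 (by exact_mod_cast hmin)
      rw [not_isMin_iff] at hnotmin
      obtain ⟨z, hz⟩ := hnotmin
      set x₁ := (f.fiberι (f.base x₀)).base z with hx₁
      have hfx₁ : f.base x₁ = f.base x₀ := Groth.Agent.FibRes2H8.fiberι_mem f _ z
      have hsp : x₀ ⤳ x₁ := by
        have h1 : f.asFiber x₀ ⤳ z := hz.le
        rw [Groth.Agent.FibRes2H8.specializes_fiber_iff, Scheme.Hom.fiberι_asFiber] at h1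
        exact h1
      have hne : x₀ ≠ x₁ := by
        intro h
        have h2 : (f.fiberι (f.base x₀)).base (f.asFiber x₀) = (f.fiberι (f.base x₀)).base z := by
          rw [Scheme.Hom.fiberι_asFiber]; exact h
        have h3 := (f.fiberι (f.base x₀)).isEmbedding.injective h2
        exact hz.ne h3.symm
      have hlt := Groth.Agent.S9381.result f x₀ x₁ hsp hne hfx₁.symm
      obtain ⟨m, hm⟩ := Groth.Agent.ResQuot2H8.exists_trdeg_nat f x₁
      have hmlt : m < n' := by
        have : ((m : ℕ) : Cardinal) < ((n' : ℕ) : Cardinal) := by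
          rw [← hm, ← hn]; exact hlt
        exact_mod_cast this
      obtain ⟨x', hsp', hfx', htr⟩ := ih m hmlt x₁ hm
      exact ⟨x', hsp.trans hsp', hfx'.trans hfx₁, htr⟩

theorem exists_trdeg_zero [LocallyOfFiniteType f] (x₀ : X) :
    ∃ x' : X, x₀ ⤳ x' ∧ f.base x' = f.base x₀ ∧
      @Algebra.trdeg (Y.residueField (f.base x')) (X.residueField x') _ _
        (f.residueFieldMap x').hom.toAlgebra = 0 := by
  obtain ⟨n, hn⟩ := Groth.Agent.ResQuot2H8.exists_trdeg_nat f x₀
  exact exists_trdeg_zero_aux f n x₀ hn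

end Groth.Agent.FibRes3H8
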