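import Mathlib

/-! Small order lemmas on `WithBot ℕ∞`. -/

namespace Groth.Agent.WBEH8

theorem le_sub_of_add_le (a : WithBot ℕ∞) (c D : ℕ) (h : a + (c : WithBot ℕ∞) ≤ (D : WithBot ℕ∞)) :
    a = ⊥ ∨ (c ≤ D ∧ a ≤ ((D - c : ℕ) : WithBot ℕ∞)) := by
  induction a with
  | bot => exact Or.inl rfl
  | coe a =>
    right
    induction a with
    | top =>
      exfalso
      have : ((⊤ : ℕ∞) : WithBot ℕ∞) + (c : WithBot ℕ∞) = ((⊤ : ℕ∞) : WithBot ℕ∞) := by
        have : (⊤ : ℕ∞) + (c : ℕ∞) = ⊤ := top_add _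
        exact_mod_cast congrArg (fun t : ℕ∞ => (t : WithBot ℕ∞)) this
      rw [this] at h
      have h2 : ((⊤ : ℕ∞) : WithBot ℕ∞) ≤ ((D : ℕ∞) : WithBot ℕ∞) := by exact_mod_cast h
      rw [WithBot.coe_le_coe] at h2
      exact absurd h2 (by simp)
    | coe m =>
      have h2 : (((m + c : ℕ) : ℕ∞) : WithBot ℕ∞) ≤ ((D : ℕ∞) : WithBot ℕ∞) := by
        exact_mod_cast h
      rw [WithBot.coe_le_coe, Nat.cast_le] at h2
      refine ⟨by omega, ?_⟩
      have : m ≤ D - c := by omega
      change (((m : ℕ) : ℕ∞) : WithBot ℕ∞) ≤ (((D - c : ℕ) : ℕ∞) : WithBot ℕ∞)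
      exact WithBot.coe_le_coe.mpr (Nat.cast_le.mpr this)

theorem iSup_add_nat_le {ι : Sort*} (a : ι → WithBot ℕ∞) (c : ℕ) (b : WithBot ℕ∞)
    (h : ∀ i, a i + (c : WithBot ℕ∞) ≤ b) : (⨆ i, a i) + (c : WithBot ℕ∞) ≤ b := by
  induction b with
  | bot =>
    have h1 : ∀ i, a i = ⊥ := by
      intro i
      have := h i
      rw [le_bot_iff, WithBot.add_eq_bot] at this
      rcases this with h2 | h2
      · exact h2
      · exact absurd h2 (by simp)
    have : (⨆ i, a i) = ⊥ := by
      rw [iSup_eq_bot]; exact h1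
    rw [this, WithBot.bot_add]
  | coe b =>
    induction b with
    | top => exact le_top
    | coe D =>
      by_cases hall : ∀ i, a i = ⊥
      · have : (⨆ i, a i) = ⊥ := by
          rw [iSup_eq_bot]; exact hall
        rw [this, WithBot.bot_add]
        exact bot_le
      · rw [not_forall] at hall
        obtain ⟨i0, hi0⟩ := hall
        have hc : c ≤ D := by
          rcases le_sub_of_add_le (a i0) c D (h i0) with h1 | h1
          · exact absurd h1 hi0
          · exact h1.1
        have hle : (⨆ i, a i) ≤ ((D - c : ℕ) : WithBot ℕ∞) := by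
          apply iSup_le
          intro i
          rcases le_sub_of_add_le (a i) c D (h i) with h1 | h1
          · rw [h1]; exact bot_le
          · exact h1.2
        calc (⨆ i, a i) + (c : WithBot ℕ∞) ≤ ((D - c : ℕ) : WithBot ℕ∞) + (c : WithBot ℕ∞) := by
              gcongr
          _ = ((D : ℕ∞) : WithBot ℕ∞) := by
              have : D - c + c = D := by omega
              change (((D - c : ℕ) : ℕ∞) : WithBot ℕ∞) + (((c : ℕ) : ℕ∞) : WithBot ℕ∞) =
                (((D : ℕ) : ℕ∞) : WithBot ℕ∞)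
              rw [← WithBot.coe_add, ← Nat.cast_add, this]

theorem add_nat_cancel (a b : WithBot ℕ∞) (c : ℕ)
    (h : a + (c : WithBot ℕ∞) = b + (c : WithBot ℕ∞)) : a = b := by
  induction a with
  | bot =>
    rw [WithBot.bot_add] at h
    have := h.symm
    rw [WithBot.add_eq_bot] at this
    rcases this with h2 | h2
    · exact h2.symm
    · exact absurd h2 (by simp)
  | coe a =>
    induction b with
    | bot =>
      rw [WithBot.bot_add, WithBot.add_eq_bot] at h
      rcases h with h2 | h2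
      · exact h2
      · exact absurd h2 (by simp)
    | coe b =>
      have h2 : ((a + (c : ℕ∞) : ℕ∞) : WithBot ℕ∞) = ((b + (c : ℕ∞) : ℕ∞) : WithBot ℕ∞) := by
        exact_mod_cast h
      rw [WithBot.coe_inj] at h2
      have h3 : a = b := by
        have hc : (c : ℕ∞) ≠ ⊤ := ENat.natCast_ne_top c
        exact (ENat.add_left_injective_of_ne_top hc) h2
      rw [h3]

end Groth.Agent.WBEH8
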