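import Mathlib
import Groth.Agent.Lib.DimIneq_helper8
import Groth.Agent.Lib.DimFT2_helper8

/-! The dimension inequality for quotients of a finite type ring map. -/

universe u

open Ideal

namespace Groth.Agent.DimIneqQH8

/-- Dimension inequality relative to a pair of primes `q0 ≤ q` of a finite type algebra. -/
theorem dim_ineq_quot {R B : Type u} [CommRing R] [CommRing B] [IsNoetherianRing R]
    (φ : R →+* B) (hφ : φ.FiniteType) (q0 q : Ideal B) [hq0 : q0.IsPrime] [hq : q.IsPrime]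
    (hqq : q0 ≤ q) (p0 p : Ideal R) (hp0 : p0 = q0.comap φ) (hp : p = q.comap φ) :
    ∃ a b r r0 : ℕ, (q.map (Ideal.Quotient.mk q0)).height = a ∧ p.height = b ∧
      @Algebra.trdeg (R ⧸ p) (B ⧸ q) _ _ (Ideal.quotientMap q φ (le_of_eq hp)).toAlgebra = r ∧
      @Algebra.trdeg (R ⧸ p0) (B ⧸ q0) _ _
        (Ideal.quotientMap q0 φ (le_of_eq hp0)).toAlgebra = r0 ∧
      a + r ≤ b + r0 := by
  classical
  subst hp0 hp
  set p0 : Ideal R := q0.comap φ with hp0
  set p : Ideal R := q.comap φ with hp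
  haveI hp0p : p0.IsPrime := Ideal.comap_isPrime _ _
  haveI hpp : p.IsPrime := Ideal.comap_isPrime _ _
  have hpp0 : p0 ≤ p := Ideal.comap_mono hqq
  letI algRB : Algebra R B := φ.toAlgebra
  haveI hft : Algebra.FiniteType R B := hφ
  -- the algebra R/p0 → B/q0
  letI alg0 : Algebra (R ⧸ p0) (B ⧸ q0) := (Ideal.quotientMap q0 φ (le_of_eq hp0)).toAlgebra
  have halg0 : ∀ a : R, algebraMap (R ⧸ p0) (B ⧸ q0) (Ideal.Quotient.mk p0 a) =
      Ideal.Quotient.mk q0 (φ a) := fun a => Ideal.quotientMap_mk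
  haveI : IsScalarTower R (R ⧸ p0) (B ⧸ q0) := IsScalarTower.of_algebraMap_eq fun a => by
    rw [Ideal.Quotient.algebraMap_eq, halg0]
    rfl
  haveI : Algebra.FiniteType R (B ⧸ q0) :=
    Algebra.FiniteType.of_surjective (Ideal.Quotient.mkₐ R q0) (Ideal.Quotient.mkₐ_surjective R q0)
  haveI : Algebra.FiniteType (R ⧸ p0) (B ⧸ q0) :=
    Algebra.FiniteType.of_restrictScalars_finiteType R (R ⧸ p0) (B ⧸ q0)
  haveI : FaithfulSMul (R ⧸ p0) (B ⧸ q0) :=
    (faithfulSMul_iff_algebraMap_injective _ _).mpr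
      (Ideal.quotientMap_injective' (le_of_eq hp0.symm))
  -- primes of the quotients
  set p' : Ideal (R ⧸ p0) := p.map (Ideal.Quotient.mk p0) with hp'
  set q' : Ideal (B ⧸ q0) := q.map (Ideal.Quotient.mk q0) with hq'
  haveI hp'p : p'.IsPrime :=
    Ideal.map_isPrime_of_surjective Ideal.Quotient.mk_surjective (by rwa [Ideal.mk_ker])
  haveI hq'p : q'.IsPrime :=
    Ideal.map_isPrime_of_surjective Ideal.Quotient.mk_surjective (by rwa [Ideal.mk_ker])
  haveI hlies : q'.LiesOver p' := ⟨by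
    ext d
    obtain ⟨a, rfl⟩ := Ideal.Quotient.mk_surjective d
    rw [Ideal.under, Ideal.mem_comap, halg0, hp', hq', Ideal.mem_quotient_iff_mem hpp0,
      Ideal.mem_quotient_iff_mem hqq]
    rfl⟩
  obtain ⟨a, b', rq, rS, ha, hb', h1, h2, h3⟩ :=
    Groth.Agent.DimIneqH8.height_add_trdeg_le (R ⧸ p0) (B ⧸ q0) p' q'
  obtain ⟨b, hb⟩ := ENat.ne_top_iff_exists.mp (Ideal.height_ne_top_of_isPrime (I := p))
  have hle : p'.height ≤ p.height := Groth.Agent.DimFT2H8.height_map_mk_le p0 p hpp0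
  rw [hb', ← hb] at hle
  have hle' : b' ≤ b := by exact_mod_cast hle
  refine ⟨a, b, rq, rS, ha, hb.symm, ?_, h2, by omega⟩
  rw [← h1]
  symm
  letI alg1 : Algebra (R ⧸ p) (B ⧸ q) := (Ideal.quotientMap q φ (le_of_eq hp)).toAlgebra
  refine Groth.Agent.DimIneqH8.trdeg_eq_of_ringEquiv
    (DoubleQuot.quotQuotEquivQuotOfLE hpp0) (DoubleQuot.quotQuotEquivQuotOfLE hqq) (fun d => ?_)
  obtain ⟨d', rfl⟩ := Ideal.Quotient.mk_surjective d
  obtain ⟨a', rfl⟩ := Ideal.Quotient.mk_surjective d'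
  rw [Ideal.Quotient.algebraMap_mk_of_liesOver, halg0]
  change DoubleQuot.quotQuotEquivQuotOfLE hqq (DoubleQuot.quotQuotMk _ _ (φ a')) =
    algebraMap (R ⧸ p) (B ⧸ q) (DoubleQuot.quotQuotEquivQuotOfLE hpp0
      (DoubleQuot.quotQuotMk _ _ a'))
  rw [DoubleQuot.quotQuotEquivQuotOfLE_quotQuotMk, DoubleQuot.quotQuotEquivQuotOfLE_quotQuotMk]
  exact (Ideal.quotientMap_mk).symm

end Groth.Agent.DimIneqQH8
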