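import Mathlib
import Groth.Agent.Lib.DimEqSch_helper8
import Groth.Agent.Lib.FibRes3_helper8
import Groth.Agent.Lib.WBE_helper8
import Groth.Agent.S9687

/-! Dimension of an irreducible scheme over a base: sup of local dimensions of the base at the
image plus the generic fibre dimension. -/

universe u

open CategoryTheory CategoryTheory.Limits AlgebraicGeometry

namespace Groth.Agent.DimGenFibH8

variable {X Y : Scheme.{u}} (f : X ⟶ Y)

theorem topDim_eq_krullDim (X : Scheme.{u}) : topologicalKrullDim X = Order.krullDim X := by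
  unfold topologicalKrullDim
  exact Order.krullDim_eq_of_orderIso (irreducibleSetEquivPoints (α := X))

theorem stalk_dim_le_topDim (X : Scheme.{u}) (x : X) :
    ringKrullDim (X.presheaf.stalk x) ≤ topologicalKrullDim X := by
  rw [AlgebraicGeometry.ringKrullDim_stalk_eq_coheight, topDim_eq_krullDim]
  exact Order.coheight_le_krullDim _

theorem topDim_eq_iSup_stalk (X : Scheme.{u}) :
    topologicalKrullDim X = ⨆ x : X, ringKrullDim (X.presheaf.stalk x) := by
  rw [topDim_eq_krullDim, Order.krullDim_eq_iSup_coheight]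
  congr 1
  ext x
  rw [AlgebraicGeometry.ringKrullDim_stalk_eq_coheight]

theorem eq_of_closure_mem_irreducibleComponents (ξ ξ' : X) (hξ : ∀ x' : X, ξ ⤳ x')
    (h : closure {ξ'} ∈ irreducibleComponents ↥X) : ξ' = ξ := by
  have h1 : closure ({ξ'} : Set X) ≤ closure {ξ} := by
    apply closure_minimal _ isClosed_closure
    intro z hz
    rw [Set.mem_singleton_iff] at hz
    subst hz
    exact (hξ z).mem_closure
  have h2 : closure ({ξ} : Set X) ≤ closure {ξ'} :=
    h.2 (isIrreducible_singleton.closure) h1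
  have h3 : ξ' ⤳ ξ := specializes_iff_mem_closure.mpr (h2 (subset_closure rfl))
  exact (h3.antisymm (hξ ξ')).eq

/-- `dim O_{X,x} ≤ dim O_{Y, f x} + E`. -/
theorem stalk_dim_le [IsLocallyNoetherian Y] [LocallyOfFiniteType f] (ξ : X)
    (hξ : ∀ x' : X, ξ ⤳ x') (E : ℕ)
    (hE : @Algebra.trdeg (Y.residueField (f.base ξ)) (X.residueField ξ) _ _
      (f.residueFieldMap ξ).hom.toAlgebra = E) (x : X) :
    ringKrullDim (X.presheaf.stalk x) ≤ ringKrullDim (Y.presheaf.stalk (f.base x)) + E := by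
  obtain ⟨n, hn⟩ := Groth.Agent.ResQuot2H8.exists_trdeg_nat f x
  have h := Groth.Agent.S9687.result f x n E hn (fun ξ' hξ' _ => by
    have := eq_of_closure_mem_irreducibleComponents ξ ξ' hξ hξ'
    subst this
    exact le_of_eq hE)
  rw [AlgebraicGeometry.ringKrullDim_stalk_eq_coheight,
    AlgebraicGeometry.ringKrullDim_stalk_eq_coheight] at h
  rw [AlgebraicGeometry.ringKrullDim_stalk_eq_coheight,
    AlgebraicGeometry.ringKrullDim_stalk_eq_coheight]
  have h0 : ((Order.coheight x : ℕ∞) : WithBot ℕ∞) ≤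
      (Order.coheight x : ℕ∞) + (n : WithBot ℕ∞) := by
    have : (Order.coheight x : ℕ∞) ≤ Order.coheight x + (n : ℕ∞) := le_self_add
    exact_mod_cast WithBot.coe_le_coe.mpr this
  exact h0.trans h

/-- `dim X ≤ sup_{x} dim O_{Y, f x} + E`. -/
theorem dim_le_iSup_add [IsLocallyNoetherian Y] [LocallyOfFiniteType f] (ξ : X)
    (hξ : ∀ x' : X, ξ ⤳ x') (E : ℕ)
    (hE : @Algebra.trdeg (Y.residueField (f.base ξ)) (X.residueField ξ) _ _
      (f.residueFieldMap ξ).hom.toAlgebra = E) :
    topologicalKrullDim X ≤ (⨆ x : X, ringKrullDim (Y.presheaf.stalk (f.base x))) + E := by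
  rw [topDim_eq_iSup_stalk]
  apply iSup_le
  intro x
  refine (stalk_dim_le f ξ hξ E hE x).trans ?_
  gcongr
  exact le_iSup (fun x : X => ringKrullDim (Y.presheaf.stalk (f.base x))) x

/-- Under universal catenarity: `dim O_{Y, f x₀} + E ≤ dim X`. -/
theorem add_le_dim [IsLocallyNoetherian Y] [LocallyOfFiniteType f] (ξ : X)
    (hξ : ∀ x' : X, ξ ⤳ x') (hη : ∀ y' : Y, f.base ξ ⤳ y') (E : ℕ)
    (hE : @Algebra.trdeg (Y.residueField (f.base ξ)) (X.residueField ξ) _ _
      (f.residueFieldMap ξ).hom.toAlgebra = E)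
    (hcat : ∀ y : Y, CAlg.IsUniversallyCatenary (Y.presheaf.stalk y)) (x₀ : X) :
    ringKrullDim (Y.presheaf.stalk (f.base x₀)) + E ≤ topologicalKrullDim X := by
  obtain ⟨x', -, hfx', htr⟩ := Groth.Agent.FibRes3H8.exists_trdeg_zero f x₀
  have h := Groth.Agent.DimEqSchH8.dim_formula_eq f ξ x' hξ hη (hcat _) 0 E
    (by simpa using htr) hE
  rw [hfx'] at h
  rw [← h]
  simp only [Nat.cast_zero, add_zero]
  exact stalk_dim_le_topDim X x'

end Groth.Agent.DimGenFibH8
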