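import Mathlib
import Groth.Agent.S9687
import Groth.Agent.Lib.FibRes2_helper8
import Groth.Agent.Lib.SchFT_helper8
import Groth.Agent.Lib.DimGenFib_helper8
import Groth.Agent.Lib.ResQuot2_helper8

universe u
open AlgebraicGeometry CategoryTheory Limits

namespace QFCodim1H8
section A

variable {X Y : Scheme.{u}} (f : X ⟶ Y)

/-- If `x` has no proper specialization in its fibre, the residue field extension is algebraic. -/
theorem trdeg_eq_zero_of_closed_in_fibre [LocallyOfFiniteType f] (x : X)
    (h : ∀ z : X, f z = f x → x ⤳ z → z = x) :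
    @Algebra.trdeg (Y.residueField (f x)) (X.residueField x) _ _
      (f.residueFieldMap x).hom.toAlgebra = 0 := by
  obtain ⟨n, hn, hh⟩ := Groth.Agent.FibRes2H8.height_asFiber f x
  have hmin : IsMin (f.asFiber x) := by
    intro w hw
    have h1 : f.asFiber x ⤳ w := hw
    rw [Groth.Agent.FibRes2H8.specializes_fiber_iff] at h1
    rw [Scheme.Hom.fiberι_asFiber] at h1
    have h2 := h _ (Groth.Agent.FibRes2H8.fiberι_mem f (f x) w) h1
    have h3 : w = f.asFiber x := by
      apply (f.fiberι (f x)).isEmbedding.injective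
      rw [h2, Scheme.Hom.fiberι_asFiber]
    rw [h3]
  rw [Order.height_eq_zero.mpr hmin] at hh
  have hn0 : n = 0 := by exact_mod_cast hh.symm
  rw [hn, hn0]
  simp

/-- Conversely, if the residue field extension has transcendence degree zero, `x` is closed in
its fibre. -/
theorem closed_in_fibre_of_trdeg_eq_zero [LocallyOfFiniteType f] (x : X)
    (h : @Algebra.trdeg (Y.residueField (f x)) (X.residueField x) _ _
      (f.residueFieldMap x).hom.toAlgebra = 0) (z : X) (hz : f z = f x) (hxz : x ⤳ z) : z = x := by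
  obtain ⟨n, hn, hh⟩ := Groth.Agent.FibRes2H8.height_asFiber f x
  rw [h] at hn
  have hn0 : n = 0 := by exact_mod_cast hn.symm
  rw [hn0] at hh
  have hmin : IsMin (f.asFiber x) := Order.height_eq_zero.mp (by exact_mod_cast hh)
  have hzr : z ∈ Set.range (f.fiberι (f x)) := by
    rw [Scheme.Hom.range_fiberι]; exact hz
  obtain ⟨w, rfl⟩ := hzr
  have h1 : f.asFiber x ⤳ w := by
    rw [Groth.Agent.FibRes2H8.specializes_fiber_iff, Scheme.Hom.fiberι_asFiber]
    exact hxz
  have h2 : w ≤ f.asFiber x := h1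
  have h3 : f.asFiber x ≤ w := hmin h2
  have h4 : w ⤳ f.asFiber x := h3
  have h5 : w = f.asFiber x := (h4.antisymm h1).eq
  rw [h5, Scheme.Hom.fiberι_asFiber]

/-- A point at which `f` is quasi-finite is closed in its fibre. -/
theorem closed_in_fibre_of_quasiFiniteAt [LocallyOfFiniteType f] (x : X) (hx : f.QuasiFiniteAt x)
    (z : X) (hz : f z = f x) (hxz : x ⤳ z) : z = x := by
  have hcl : IsClosed ({f.asFiber x} : Set (f.fiber (f x))) := hx.isClopen_singleton_asFiber.1
  have hzr : z ∈ Set.range (f.fiberι (f x)) := by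
    rw [Scheme.Hom.range_fiberι]; exact hz
  obtain ⟨w, rfl⟩ := hzr
  have h1 : f.asFiber x ⤳ w := by
    rw [Groth.Agent.FibRes2H8.specializes_fiber_iff, Scheme.Hom.fiberι_asFiber]
    exact hxz
  have h2 : w ∈ closure ({f.asFiber x} : Set (f.fiber (f x))) := h1.mem_closure
  rw [hcl.closure_eq, Set.mem_singleton_iff] at h2
  rw [h2, Scheme.Hom.fiberι_asFiber]

end A

/-- Core: over a point of codimension `≤ 1` of a locally Noetherian base, if all generic points
through `z` have algebraic residue field extensions, so does `z`, and `dim 𝒪_z ≤ 1`. -/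
theorem core {Z T : Scheme.{u}} [IsLocallyNoetherian T] (g : Z ⟶ T) [LocallyOfFiniteType g] (z : Z)
    (hdim : ringKrullDim (T.presheaf.stalk (g z)) ≤ 1)
    (hgen : ∀ ξ : Z, closure {ξ} ∈ irreducibleComponents ↥Z → ξ ⤳ z →
      @Algebra.trdeg (T.residueField (g ξ)) (Z.residueField ξ) _ _
        (g.residueFieldMap ξ).hom.toAlgebra = 0) :
    @Algebra.trdeg (T.residueField (g z)) (Z.residueField z) _ _
        (g.residueFieldMap z).hom.toAlgebra = 0 ∧ Order.coheight z ≤ 1 := by
  obtain ⟨n, hn⟩ := Groth.Agent.ResQuot2H8.exists_trdeg_nat g z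
  have h := Groth.Agent.S9687.result g z n 0 hn (fun ξ hξ hξz => by
    have := hgen ξ hξ hξz
    simp only at this ⊢
    rw [this]
    simp)
  rw [AlgebraicGeometry.ringKrullDim_stalk_eq_coheight] at h
  have h2 : ((Order.coheight z : ℕ∞) : WithBot ℕ∞) + (n : WithBot ℕ∞) ≤ 1 := by
    refine h.trans ?_
    simpa using hdim
  have h3 : Order.coheight z + (n : ℕ∞) ≤ 1 := by exact_mod_cast h2
  by_cases hn0 : n = 0
  · subst hn0
    refine ⟨by simpa using hn, ?_⟩
    simpa using h3
  · exfalso
    have hn1 : (1 : ℕ∞) ≤ (n : ℕ∞) := by exact_mod_cast Nat.one_le_iff_ne_zero.mpr hn0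
    have hc0 : Order.coheight z = 0 := by
      by_contra hc
      have hc1 : (1 : ℕ∞) ≤ Order.coheight z := Order.one_le_iff_pos.mpr (pos_iff_ne_zero.mpr hc)
      have : (1 : ℕ∞) + 1 ≤ 1 := (add_le_add hc1 hn1).trans h3
      exact absurd this (by decide)
    have hmax : IsMax z := Order.coheight_eq_zero.mp hc0
    have hcomp : closure {z} ∈ irreducibleComponents ↥Z := by
      rw [Groth.Agent.SchFTH8.closure_mem_irreducibleComponents_iff]
      intro w hw
      have h1 : z ≤ w := hw
      have h2 : w ≤ z := hmax h1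
      have h3 : z ⤳ w := h2
      exact (hw.antisymm h3).eq
    have := hgen z hcomp specializes_rfl
    simp only at hn
    rw [this] at hn
    exact hn0 (by exact_mod_cast hn.symm)

/-- In the spectrum of a Noetherian ring, a prime that is both maximal and minimal is an
isolated point. -/
theorem isOpen_singleton_of_isMax_of_isMin {R : Type*} [CommRing R] [IsNoetherianRing R]
    (x : PrimeSpectrum R) (h₁ : IsMax x) (h₂ : IsMin x) : IsOpen ({x} : Set (PrimeSpectrum R)) := by
  suffices {x} = (⋃ p ∈ { p : PrimeSpectrum R | IsMin p ∧ p ≠ x }, closure {p})ᶜ by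
    rw [this, isOpen_compl_iff]
    refine Set.Finite.isClosed_biUnion ?_ (fun _ _ ↦ isClosed_closure)
    exact (PrimeSpectrum.finite_setOfPred_isMin R).subset fun x h ↦ h.1
  ext p
  simp only [Set.mem_singleton_iff, ne_eq, Set.mem_ofPred_eq, Set.compl_iUnion, Set.mem_iInter,
    Set.mem_compl_iff, and_imp, ← specializes_iff_mem_closure, ← PrimeSpectrum.le_iff_specializes,
    not_imp_not]
  constructor
  · rintro rfl _ _
    exact h₂.eq_of_le
  · intro hp
    apply h₁.eq_of_ge
    obtain ⟨q, hq, hq'⟩ := Ideal.exists_minimalPrimes_le (J := p.asIdeal) bot_le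
    exact (hp ⟨q, hq.1.1⟩ (PrimeSpectrum.isMin_iff.mpr hq) hq').ge.trans hq'

/-- In a locally Noetherian scheme, a point that is closed and has no proper generization is
isolated. -/
theorem isOpen_singleton_of_closed_of_maximal {F : Scheme.{u}} [IsLocallyNoetherian F] (w : F)
    (hcl : ∀ w' : F, w ⤳ w' → w' = w) (hmax : ∀ w' : F, w' ⤳ w → w' = w) :
    IsOpen ({w} : Set F) := by
  obtain ⟨_, ⟨W, hW0, rfl⟩, hwW, -⟩ :=
    F.isBasis_affineOpens.exists_subset_of_mem_open (Set.mem_univ w) isOpen_univ
  have hW : IsAffineOpen W := hW0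
  haveI : IsNoetherianRing Γ(F, W) := IsLocallyNoetherian.component_noetherian ⟨W, hW0⟩
  set P := hW.primeIdealOf ⟨w, hwW⟩ with hP
  have hPmax : IsMax P := by
    intro Q hQ
    have hz := Groth.Agent.SchFTH8.fromSpec_mem hW Q
    have h1 : w ⤳ hW.fromSpec Q := by
      rw [Groth.Agent.SchFTH8.specializes_iff_primeIdealOf_le hW w _ hwW hz,
        Groth.Agent.SchFTH8.primeIdealOf_fromSpec hW Q hz]
      exact hQ
    have h2 := hcl _ h1
    have h3 : hW.primeIdealOf ⟨hW.fromSpec Q, hz⟩ = P := by
      rw [hP]; congr 1; exact Subtype.ext h2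
    rw [Groth.Agent.SchFTH8.primeIdealOf_fromSpec hW Q hz] at h3
    rw [h3]
  have hPmin : IsMin P := by
    intro Q hQ
    have hz := Groth.Agent.SchFTH8.fromSpec_mem hW Q
    have h1 : hW.fromSpec Q ⤳ w := by
      rw [Groth.Agent.SchFTH8.specializes_iff_primeIdealOf_le hW _ w hz hwW,
        Groth.Agent.SchFTH8.primeIdealOf_fromSpec hW Q hz]
      exact hQ
    have h2 := hmax _ h1
    have h3 : hW.primeIdealOf ⟨hW.fromSpec Q, hz⟩ = P := by
      rw [hP]; congr 1; exact Subtype.ext h2
    rw [Groth.Agent.SchFTH8.primeIdealOf_fromSpec hW Q hz] at h3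
    rw [h3]
  have hopen := isOpen_singleton_of_isMax_of_isMin P hPmax hPmin
  have h4 : IsOpen (hW.fromSpec '' {P}) := hW.fromSpec.isOpenEmbedding.isOpenMap _ hopen
  have h5 : (hW.fromSpec '' {P} : Set F) = {w} := by
    have h6 : hW.fromSpec P = w := by rw [hP]; exact hW.fromSpec_primeIdealOf ⟨w, hwW⟩
    rw [← h6]
    exact Set.image_singleton
  rw [h5] at h4
  exact h4

section BC

variable {X Y : Scheme.{u}} (f : X ⟶ Y) (y : Y)

/-- The base change of `X` to the local scheme of `Y` at `y`. -/
noncomputable abbrev XL : Scheme.{u} := pullback f (Y.fromSpecStalk y)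

noncomputable abbrev p1 : XL f y ⟶ X := pullback.fst f (Y.fromSpecStalk y)

noncomputable abbrev p2 : XL f y ⟶ Spec (Y.presheaf.stalk y) := pullback.snd f (Y.fromSpecStalk y)

theorem f_p1 (z : XL f y) : f (p1 f y z) = Y.fromSpecStalk y (p2 f y z) := by
  have h : p1 f y ≫ f = p2 f y ≫ Y.fromSpecStalk y := pullback.condition
  have h2 := congrArg (fun g => g z) h
  simpa using h2

theorem p1_injective : Function.Injective (p1 f y) := (p1 f y).isEmbedding.injective

theorem ι_injective : Function.Injective (Y.fromSpecStalk y) :=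
  (Y.fromSpecStalk y).isEmbedding.injective

theorem specializes_p1_iff (a b : XL f y) : p1 f y a ⤳ p1 f y b ↔ a ⤳ b :=
  (p1 f y).isEmbedding.isInducing.specializes_iff

theorem mem_range_p1 (z : X) (hz : f z ⤳ y) : z ∈ Set.range (p1 f y) := by
  rw [Scheme.Pullback.range_fst, Scheme.range_fromSpecStalk]
  exact hz

theorem f_p1_specializes (z : XL f y) : f (p1 f y z) ⤳ y := by
  have : f (p1 f y z) ∈ Set.range (Y.fromSpecStalk y) := ⟨_, (f_p1 f y z).symm⟩
  rw [Scheme.range_fromSpecStalk] at this
  exact this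

/-- Maximal points of the base change map to maximal points. -/
theorem maximal_p1 (ξ : XL f y) (hξ : ∀ w : XL f y, w ⤳ ξ → w = ξ) (w : X)
    (hw : w ⤳ p1 f y ξ) : w = p1 f y ξ := by
  have h1 : f w ⤳ y := (hw.map f.continuous).trans (f_p1_specializes f y ξ)
  obtain ⟨w', rfl⟩ := mem_range_p1 f y w h1
  rw [specializes_p1_iff] at hw
  rw [hξ w' hw]

theorem p2_eq_of_f_eq (a b : XL f y) (h : f (p1 f y a) = f (p1 f y b)) : p2 f y a = p2 f y b := by
  apply ι_injective y
  rw [← f_p1, ← f_p1, h]

theorem f_eq_of_p2_eq (a b : XL f y) (h : p2 f y a = p2 f y b) :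
    f (p1 f y a) = f (p1 f y b) := by
  rw [f_p1, f_p1, h]

end BC

/-- Main theorem: quasi-finiteness over a point of codimension `≤ 1` with Noetherian local ring. -/
theorem main {X Y : Scheme.{u}} (f : X ⟶ Y) [LocallyOfFiniteType f] (x : X)
    [IsNoetherianRing (Y.presheaf.stalk (f x))]
    (hy : ringKrullDim (Y.presheaf.stalk (f x)) ≤ 1)
    (hgen : ∀ η : X, closure {η} ∈ irreducibleComponents ↥X → f.QuasiFiniteAt η) :
    f.QuasiFiniteAt x := by
  set y := f x with hy_def
  -- the point x' of the base change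
  obtain ⟨x', hx'1, hx'2⟩ := Scheme.Pullback.exists_preimage_pullback (f := f)
    (g := Y.fromSpecStalk y) x (IsLocalRing.closedPoint (Y.presheaf.stalk y))
    (by rw [Scheme.fromSpecStalk_closedPoint])
  change p1 f y x' = x at hx'1
  change p2 f y x' = _ at hx'2
  have hmaxcomp : ∀ ξ : XL f y, closure {ξ} ∈ irreducibleComponents ↥(XL f y) →
      f.QuasiFiniteAt (p1 f y ξ) := by
    intro ξ hξ
    rw [Groth.Agent.SchFTH8.closure_mem_irreducibleComponents_iff] at hξ
    apply hgen
    rw [Groth.Agent.SchFTH8.closure_mem_irreducibleComponents_iff]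
    exact maximal_p1 f y ξ hξ
  have hgen' : ∀ ξ : XL f y, closure {ξ} ∈ irreducibleComponents ↥(XL f y) → ξ ⤳ x' →
      @Algebra.trdeg ((Spec (Y.presheaf.stalk y)).residueField (p2 f y ξ))
        ((XL f y).residueField ξ) _ _ ((p2 f y).residueFieldMap ξ).hom.toAlgebra = 0 := by
    intro ξ hξ _
    apply trdeg_eq_zero_of_closed_in_fibre
    intro z hz hξz
    have h1 := closed_in_fibre_of_quasiFiniteAt f (p1 f y ξ) (hmaxcomp ξ hξ) (p1 f y z)
      (f_eq_of_p2_eq f y z ξ hz) ((specializes_p1_iff f y ξ z).mpr hξz)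
    exact p1_injective f y h1
  have hdim : ringKrullDim ((Spec (Y.presheaf.stalk y)).presheaf.stalk (p2 f y x')) ≤ 1 := by
    refine (Groth.Agent.DimGenFibH8.stalk_dim_le_topDim _ _).trans ?_
    have := PrimeSpectrum.topologicalKrullDim_eq_ringKrullDim (Y.presheaf.stalk y)
    exact (le_of_eq this).trans hy
  obtain ⟨htr, hco⟩ := core (p2 f y) x' hdim hgen'
  have hclx' := closed_in_fibre_of_trdeg_eq_zero (p2 f y) x' htr
  -- the fibre is locally Noetherian
  haveI : LocallyOfFiniteType (f.fiberToSpecResidueField y) := Groth.Agent.FibRes2H8.lft_fiber f y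
  haveI : IsLocallyNoetherian (f.fiber y) :=
    LocallyOfFiniteType.isLocallyNoetherian (f.fiberToSpecResidueField y)
  rw [Scheme.Hom.quasiFiniteAt_iff_isOpen_singleton_asFiber]
  apply isOpen_singleton_of_closed_of_maximal
  · intro w' hw'
    rw [Groth.Agent.FibRes2H8.specializes_fiber_iff, Scheme.Hom.fiberι_asFiber] at hw'
    have hf1 : f ((f.fiberι y) w') = y := Groth.Agent.FibRes2H8.fiberι_mem f y w'
    obtain ⟨x1', hx1'⟩ := mem_range_p1 f y ((f.fiberι y) w') (by rw [hf1])
    rw [← hx1', ← hx'1, specializes_p1_iff] at hw'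
    have h2 : p2 f y x1' = p2 f y x' := by
      apply p2_eq_of_f_eq
      rw [hx1', hx'1, hf1]
    have h3 : x1' = x' := hclx' x1' h2 hw'
    apply (f.fiberι y).isEmbedding.injective
    rw [Scheme.Hom.fiberι_asFiber, ← hx1', h3, hx'1]
  · intro w' hw'
    rw [Groth.Agent.FibRes2H8.specializes_fiber_iff, Scheme.Hom.fiberι_asFiber] at hw'
    have hf1 : f ((f.fiberι y) w') = y := Groth.Agent.FibRes2H8.fiberι_mem f y w'
    obtain ⟨x1', hx1'⟩ := mem_range_p1 f y ((f.fiberι y) w') (by rw [hf1])
    have hsp : x1' ⤳ x' := by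
      rw [← specializes_p1_iff, hx1', hx'1]; exact hw'
    have h3 : x1' = x' := by
      by_contra hne
      -- x1' is maximal
      have hx1max : ∀ z' : XL f y, z' ⤳ x1' → z' = x1' := by
        intro z' hz'
        by_contra hne2
        have hle1 : x' ≤ x1' := hsp
        have hle2 : x1' ≤ z' := hz'
        have hlt1 : x' < x1' := lt_of_le_not_ge hle1 (fun h => hne (by
          have h' : x' ⤳ x1' := h
          exact (hsp.antisymm h').eq))
        have hlt2 : x1' < z' := lt_of_le_not_ge hle2 (fun h => hne2 (by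
          have h' : x1' ⤳ z' := h
          exact (hz'.antisymm h').eq))
        have hc1 := Order.coheight_add_one_le hlt1
        have hc2 := Order.coheight_add_one_le hlt2
        have hc3 : (1 : ℕ∞) + 1 ≤ 1 :=
          calc (1 : ℕ∞) + 1 ≤ (Order.coheight z' + 1) + 1 := by
                gcongr; exact le_add_self
            _ ≤ Order.coheight x1' + 1 := by gcongr
            _ ≤ Order.coheight x' := hc1
            _ ≤ 1 := hco
        exact absurd hc3 (by decide)
      have hcomp : closure {x1'} ∈ irreducibleComponents ↥(XL f y) := by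
        rw [Groth.Agent.SchFTH8.closure_mem_irreducibleComponents_iff]
        exact hx1max
      have hqf := hmaxcomp x1' hcomp
      have h4 := closed_in_fibre_of_quasiFiniteAt f (p1 f y x1') hqf x
        (by rw [hx1', hf1]) (by rw [hx1']; exact hw')
      rw [← hx'1] at h4
      exact hne (p1_injective f y h4).symm
    apply (f.fiberι y).isEmbedding.injective
    rw [Scheme.Hom.fiberι_asFiber, ← hx1', h3, hx'1]

end QFCodim1H8
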