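import Mathlib
import Groth.Prelude.Def_Dual3
import Groth.Agent.Lib.QFCodim1_helper8
import Groth.Agent.Lib.EtDim1_helper8

universe u
open AlgebraicGeometry CategoryTheory

namespace ResTrdegH8

/-- Transcendence degrees of residue field extensions add up along a composition. -/
theorem resTrdeg_comp {W U V : Scheme.{u}} (p : W ⟶ U) (h : U ⟶ V) (w : W) :
    Dual3.resTrdeg (p ≫ h) w = Dual3.resTrdeg h (p w) + Dual3.resTrdeg p w := by
  unfold Dual3.resTrdeg
  letI a1 : Algebra (V.residueField (h (p w))) (U.residueField (p w)) :=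
    (h.residueFieldMap (p w)).hom.toAlgebra
  letI a2 : Algebra (U.residueField (p w)) (W.residueField w) := (p.residueFieldMap w).hom.toAlgebra
  letI a3 : Algebra (V.residueField (h (p w))) (W.residueField w) :=
    ((p ≫ h).residueFieldMap w).hom.toAlgebra
  haveI : IsScalarTower (V.residueField (h (p w))) (U.residueField (p w)) (W.residueField w) :=
    IsScalarTower.of_algebraMap_eq fun x => by
      change ((p ≫ h).residueFieldMap w).hom x =
        (p.residueFieldMap w).hom ((h.residueFieldMap (p w)).hom x)
      rw [AlgebraicGeometry.Scheme.residueFieldMap_comp]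
      rfl
  exact (trdeg_add_eq (V.residueField (h (p w))) (U.residueField (p w))
    (A := W.residueField w)).symm

/-- A locally quasi-finite morphism locally of finite type has algebraic residue field
extensions. -/
theorem resTrdeg_eq_zero_of_lqf {W U : Scheme.{u}} (p : W ⟶ U) [LocallyQuasiFinite p]
    [LocallyOfFiniteType p] (w : W) : Dual3.resTrdeg p w = 0 := by
  unfold Dual3.resTrdeg
  exact QFCodim1H8.trdeg_eq_zero_of_closed_in_fibre p w
    (QFCodim1H8.closed_in_fibre_of_quasiFiniteAt p w (p.quasiFiniteAt w))

theorem resTrdeg_eq_zero_of_etale {W U : Scheme.{u}} (p : W ⟶ U) [Etale p] (w : W) :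
    Dual3.resTrdeg p w = 0 := by
  haveI := EtDimH8.locallyQuasiFinite_of_etale p
  exact resTrdeg_eq_zero_of_lqf p w

/-- Precomposing with an étale morphism does not change the transcendence degree. -/
theorem resTrdeg_etale_comp {W U V : Scheme.{u}} (p : W ⟶ U) [Etale p] (h : U ⟶ V) (w : W) :
    Dual3.resTrdeg (p ≫ h) w = Dual3.resTrdeg h (p w) := by
  rw [resTrdeg_comp, resTrdeg_eq_zero_of_etale p w, add_zero]

/-- Postcomposing with an étale morphism does not change the transcendence degree. -/
theorem resTrdeg_comp_etale {W V' V : Scheme.{u}} (k : W ⟶ V') (q : V' ⟶ V) [Etale q] (w : W) :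
    Dual3.resTrdeg (k ≫ q) w = Dual3.resTrdeg k w := by
  rw [resTrdeg_comp, resTrdeg_eq_zero_of_etale q (k w), zero_add]

theorem resTrdeg_congr {W V : Scheme.{u}} {k k' : W ⟶ V} (h : k = k') (w : W) :
    Dual3.resTrdeg k w = Dual3.resTrdeg k' w := by subst h; rfl

end ResTrdegH8
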