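import Mathlib
import Groth.Prelude.Def_Flat
import Groth.Prelude.Def_Dual3
import Groth.Agent.Lib.FibCoh6_helper8
import Groth.Agent.Lib.FibCoh2_helper8
import Groth.Agent.Lib.ResTrdeg1_helper8

universe u
open AlgebraicGeometry CategoryTheory CategoryTheory.Limits

namespace FibCohH8

/-- `dim_x(X_s) ≤ dim_x(X_y) + dim_y(Y_s)`, with equality when `f` is flat at `x`. -/
theorem fibreDimAt_comp {X Y S : Scheme.{u}} (f : X ⟶ Y) (g : Y ⟶ S) [LocallyOfFiniteType f]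
    [LocallyOfFiniteType g] (x : X) :
    FlatMor.fibreDimAt (f ≫ g) x ≤ FlatMor.fibreDimAt f x + FlatMor.fibreDimAt g (f x) ∧
      ((f.stalkMap x).hom.Flat →
        FlatMor.fibreDimAt (f ≫ g) x = FlatMor.fibreDimAt f x + FlatMor.fibreDimAt g (f x)) := by
  haveI : LocallyOfFiniteType (f ≫ g) := inferInstance
  rw [fibreDimAt_eq (f ≫ g) x, fibreDimAt_eq f x, fibreDimAt_eq g (f x),
    ResTrdegH8.resTrdeg_comp f g x]
  obtain ⟨n1, hn1⟩ := Groth.Agent.ResQuot2H8.exists_trdeg_nat f x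
  obtain ⟨n2, hn2⟩ := Groth.Agent.ResQuot2H8.exists_trdeg_nat g (f x)
  have h1 : Dual3.resTrdeg f x = (n1 : Cardinal.{u}) := hn1
  have h2 : Dual3.resTrdeg g (f x) = (n2 : Cardinal.{u}) := hn2
  rw [h1, h2, map_add, Cardinal.toENat_nat, Cardinal.toENat_nat]
  have hle := fibCoh_comp_le f g x
  simp only [← WithBot.coe_add, WithBot.coe_le_coe, WithBot.coe_inj]
  constructor
  · calc fibCoh (f ≫ g) x + ((n2 : ℕ∞) + (n1 : ℕ∞))
        ≤ (fibCoh f x + fibCoh g (f x)) + ((n2 : ℕ∞) + (n1 : ℕ∞)) := by gcongr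
      _ = fibCoh f x + (n1 : ℕ∞) + (fibCoh g (f x) + (n2 : ℕ∞)) := by ring
  · intro hfl
    have hge := fibCoh_add_le_of_flat f g x hfl
    rw [le_antisymm hle hge]
    ring

end FibCohH8
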