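import Mathlib
import Groth.Agent.Lib.EtDim1_helper8

universe u
open AlgebraicGeometry CategoryTheory

namespace EtDimH8

/-- The dimension of a quasi-sober subspace of a scheme is the Krull dimension of its
specialization order. -/
theorem topDim_subset_eq_krullDim {Y : Scheme.{u}} (T : Set Y) [QuasiSober ↥T] :
    topologicalKrullDim ↥T = Order.krullDim ↥T := by
  unfold topologicalKrullDim
  let e1 := @irreducibleSetEquivPoints ↥T _ _ _
  let e : TopologicalSpace.IrreducibleCloseds ↥T ≃o ↥T :=
    { toEquiv := e1.toEquiv
      map_rel_iff' := by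
        intro s t
        have h := e1.map_rel_iff' (a := s) (b := t)
        exact (subtype_specializes_iff (e1 t) (e1 s)).symm.trans h }
  exact Order.krullDim_eq_of_orderIso e

/-- The dimension of an open subset is the supremum of the dimensions of the local rings
(coheights) at its points. -/
theorem topDim_open_eq_iSup (X : Scheme.{u}) (W : TopologicalSpace.Opens X) :
    topologicalKrullDim ↥(W : Set X) =
      ⨆ w : ↥(W : Set X), ((Order.coheight (w : X) : ℕ∞) : WithBot ℕ∞) := by
  haveI : QuasiSober ↥(W : Set X) := W.2.isOpenEmbedding_subtypeVal.quasiSober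
  rw [topDim_subset_eq_krullDim, Order.krullDim_eq_iSup_coheight]
  congr 1
  ext w
  congr 1
  refine Order.coheight_eq_of_strictMono Subtype.val (Subtype.strictMono_coe _) ?_ w
  intro a b hab
  have hsp : b ⤳ (a : X) := hab.le
  exact ⟨⟨b, hsp.mem_open W.2 a.2⟩, hab, rfl⟩

end EtDimH8
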