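import Mathlib
import Groth.Prelude.Def_Flat
import Groth.Agent.Lib.FibCoh_helper8
import Groth.Agent.Lib.EtDim2_helper8

universe u
open AlgebraicGeometry CategoryTheory CategoryTheory.Limits

namespace FibCohH8

theorem coheight_fiber_eq_fibCoh {U V : Scheme.{u}} (h : U ⟶ V) (y : V) (z : h.fiber y) :
    Order.coheight z = fibCoh h (h.fiberι y z) := by
  have hy : h (h.fiberι y z) = y := Groth.Agent.FibRes2H8.fiberι_mem h y z
  generalize hu : h.fiberι y z = u at hy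
  subst hy
  have hz : z = h.asFiber u := by
    apply (h.fiberι (h u)).isEmbedding.injective
    rw [hu, Scheme.Hom.fiberι_asFiber]
  rw [hz]
  have := stalk_fiber_eq_fibCoh h u
  rw [AlgebraicGeometry.ringKrullDim_stalk_eq_coheight] at this
  exact_mod_cast this

/-- A neighbourhood-wise comparison of fibre coheights gives a comparison of relative dimensions. -/
theorem fibreDimAt_le_of_nhds {U V U' V' : Scheme.{u}} (h : U ⟶ V) (u : U) (h' : U' ⟶ V')
    (u' : U')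
    (H : ∀ W : TopologicalSpace.Opens U, u ∈ W → ∃ W' : TopologicalSpace.Opens U', u' ∈ W' ∧
      ∀ w' ∈ W', h' w' = h' u' → ∃ w ∈ W, h w = h u ∧ fibCoh h' w' ≤ fibCoh h w) :
    FlatMor.fibreDimAt h' u' ≤ FlatMor.fibreDimAt h u := by
  unfold FlatMor.fibreDimAt FlatMor.localDim
  refine le_iInf fun Ω => ?_
  obtain ⟨W, hWo, hWΩ⟩ := (h.fiberι (h u)).isEmbedding.isInducing.isOpen_iff.mp Ω.1.2
  have huW : u ∈ W := by
    have : h.asFiber u ∈ (h.fiberι (h u)) ⁻¹' W := by rw [hWΩ]; exact Ω.2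
    rw [Set.mem_preimage, Scheme.Hom.fiberι_asFiber] at this
    exact this
  obtain ⟨W', hu'W', hW'⟩ := H ⟨W, hWo⟩ huW
  have hΩ'o : IsOpen ((h'.fiberι (h' u')) ⁻¹' (W' : Set U')) :=
    W'.2.preimage (h'.fiberι (h' u')).continuous
  have hmem : h'.asFiber u' ∈ (h'.fiberι (h' u')) ⁻¹' (W' : Set U') := by
    rw [Set.mem_preimage, Scheme.Hom.fiberι_asFiber]; exact hu'W'
  have h1 : (⨅ Ω' : {Ω' : TopologicalSpace.Opens ↥(h'.fiber (h' u')) // h'.asFiber u' ∈ Ω'},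
      topologicalKrullDim ↥(Ω'.1 : Set ↥(h'.fiber (h' u')))) ≤
      topologicalKrullDim ↥((h'.fiberι (h' u')) ⁻¹' (W' : Set U')) :=
    iInf_le (fun Ω' : {Ω' : TopologicalSpace.Opens ↥(h'.fiber (h' u')) // h'.asFiber u' ∈ Ω'} =>
      topologicalKrullDim ↥(Ω'.1 : Set ↥(h'.fiber (h' u')))) ⟨⟨_, hΩ'o⟩, hmem⟩
  refine h1.trans ?_
  have h2 := EtDimH8.topDim_open_eq_iSup (h'.fiber (h' u')) ⟨_, hΩ'o⟩
  simp only [TopologicalSpace.Opens.coe_mk] at h2
  rw [h2, EtDimH8.topDim_open_eq_iSup]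
  refine iSup_le fun z' => ?_
  have hz'W' : h'.fiberι (h' u') z'.1 ∈ W' := z'.2
  have hz'f : h' (h'.fiberι (h' u') z'.1) = h' u' := Groth.Agent.FibRes2H8.fiberι_mem h' (h' u') z'.1
  obtain ⟨w, hwW, hwf, hle⟩ := hW' _ hz'W' hz'f
  have hwr : w ∈ Set.range (h.fiberι (h u)) := by
    rw [Scheme.Hom.range_fiberι]; exact hwf
  obtain ⟨z, hz⟩ := hwr
  have hzΩ : z ∈ (Ω.1 : Set ↥(h.fiber (h u))) := by
    have : z ∈ (h.fiberι (h u)) ⁻¹' W := by
      rw [Set.mem_preimage, hz]; exact hwW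
    rw [hWΩ] at this
    exact this
  rw [coheight_fiber_eq_fibCoh h' (h' u') z'.1]
  refine (WithBot.coe_le_coe.mpr hle).trans ?_
  rw [← hz, ← coheight_fiber_eq_fibCoh h (h u) z]
  exact le_iSup (fun v : ↥(Ω.1 : Set ↥(h.fiber (h u))) =>
    ((Order.coheight (v : ↥(h.fiber (h u))) : ℕ∞) : WithBot ℕ∞)) ⟨z, hzΩ⟩

/-- The relative dimension at a point is étale local on the source and target. -/
theorem fibreDimAt_etale_local {U U' V V' : Scheme.{u}} (h : U ⟶ V) (h' : U' ⟶ V') (a : U' ⟶ U)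
    (b : V' ⟶ V) [Etale a] [Etale b] (comm : h' ≫ b = a ≫ h) (u' : U') :
    FlatMor.fibreDimAt h (a u') = FlatMor.fibreDimAt h' u' := by
  have hpt : ∀ w' : U', b (h' w') = h (a w') := fun w' =>
    congrArg (fun k : U' ⟶ V => k w') comm
  have hcoh : ∀ w' : U', fibCoh h' w' = fibCoh h (a w') := fun w' => by
    rw [← fibCoh_comp_etale h' b w', fibCoh_congr comm w', fibCoh_etale_comp a h w']
  apply le_antisymm
  · -- `fibreDimAt h (a u') ≤ fibreDimAt h' u'`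
    apply fibreDimAt_le_of_nhds
    intro W' hu'W'
    haveI := EtDimH8.locallyQuasiFinite_of_etale b
    have hdisc := b.isDiscrete_preimage_singleton (b (h' u'))
    rw [isDiscrete_iff_forall_mem_exists_isOpen] at hdisc
    obtain ⟨N, hNo, hN⟩ := hdisc (h' u') rfl
    have hv'N : h' u' ∈ N := by
      have : h' u' ∈ N ∩ b ⁻¹' {b (h' u')} := by rw [hN]; rfl
      exact this.1
    have hopen : IsOpen ((W' : Set U') ∩ h' ⁻¹' N) := W'.2.inter (hNo.preimage h'.continuous)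
    refine ⟨⟨a '' ((W' : Set U') ∩ h' ⁻¹' N), a.isOpenMap _ hopen⟩, ⟨u', ⟨hu'W', hv'N⟩, rfl⟩, ?_⟩
    rintro w ⟨w', ⟨hw'W', hw'N⟩, rfl⟩ hw
    have hb : b (h' w') = b (h' u') := by rw [hpt, hpt]; exact hw
    have hh' : h' w' = h' u' := by
      have : h' w' ∈ N ∩ b ⁻¹' {b (h' u')} := ⟨hw'N, hb⟩
      rw [hN] at this
      exact this
    exact ⟨w', hw'W', hh', le_of_eq (hcoh w').symm⟩
  · apply fibreDimAt_le_of_nhds
    intro W hW
    refine ⟨a ⁻¹ᵁ W, hW, ?_⟩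
    intro w' hw' hh'
    refine ⟨a w', hw', ?_, le_of_eq (hcoh w')⟩
    rw [← hpt, ← hpt, hh']

end FibCohH8
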