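import Mathlib
import Groth.Agent.Lib.FibDim_helper8

open IsLocalRing Pointwise TensorProduct

namespace Groth.Agent.FibDim

universe u

theorem mem_smul_top_of_flat {A N : Type*} [CommRing A] [AddCommGroup N] [Module A N]
    [Module.Flat A N] (p : Ideal A) [p.IsPrime] {t : A} (ht : t ∉ p) {n : N}
    (h : t • n ∈ p • (⊤ : Submodule A N)) : n ∈ p • (⊤ : Submodule A N) := by
  let e := TensorProduct.tensorQuotEquivQuotSMul N p
  let f : (A ⧸ p) →ₗ[A] (A ⧸ p) := LinearMap.lsmul A (A ⧸ p) t
  have hf : Function.Injective f := by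
    rw [injective_iff_map_eq_zero]
    intro y hy
    obtain ⟨y, rfl⟩ := Ideal.Quotient.mk_surjective y
    have : Ideal.Quotient.mk p (t * y) = 0 := by
      simpa [f, Algebra.smul_def] using hy
    rw [Ideal.Quotient.eq_zero_iff_mem] at this ⊢
    exact (Ideal.IsPrime.mem_or_mem ‹_› this).resolve_left ht
  have hinj := Module.Flat.lTensor_preserves_injective_linearMap (M := N) f hf
  have hfl : ∀ z, f.lTensor N z = t • z := by
    intro z
    induction z using TensorProduct.induction_on with
    | zero => simp
    | tmul a b => simp [f, TensorProduct.tmul_smul]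
    | add a b ha hb => rw [map_add, ha, hb, smul_add]
  have h0 : t • (Submodule.Quotient.mk n : N ⧸ p • (⊤ : Submodule A N)) = 0 := by
    rw [← Submodule.Quotient.mk_smul, Submodule.Quotient.mk_eq_zero]
    exact h
  have h1 : f.lTensor N (e.symm (Submodule.Quotient.mk n)) = 0 := by
    rw [hfl, ← map_smul, h0, map_zero]
  have h2 : e.symm (Submodule.Quotient.mk n) = 0 := by
    apply hinj
    rw [h1, map_zero]
  have h3 : (Submodule.Quotient.mk n : N ⧸ p • (⊤ : Submodule A N)) = 0 := by
    simpa using h2
  exact (Submodule.Quotient.mk_eq_zero _).mp h3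

theorem map_smul_top_eq {A B N : Type*} [CommRing A] [CommRing B] [Algebra A B]
    [AddCommGroup N] [Module A N] [Module B N] [IsScalarTower A B N] (p : Ideal A) (n : N) :
    n ∈ (p.map (algebraMap A B)) • (⊤ : Submodule B N) ↔ n ∈ p • (⊤ : Submodule A N) := by
  constructor
  · intro hn
    have key : ∀ b ∈ p.map (algebraMap A B), ∀ m : N, b • m ∈ p • (⊤ : Submodule A N) := by
      intro b hb
      refine Submodule.span_induction (p := fun b _ => ∀ m : N, b • m ∈ p • (⊤ : Submodule A N))
        ?_ ?_ ?_ ?_ hb
      · rintro _ ⟨a, ha, rfl⟩ m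
        rw [algebraMap_smul]
        exact Submodule.smul_mem_smul ha Submodule.mem_top
      · intro m; simp
      · intro x y _ _ hx hy m
        rw [add_smul]
        exact Submodule.add_mem _ (hx m) (hy m)
      · intro c x _ hx m
        rw [smul_eq_mul, mul_comm, mul_smul]
        exact hx (c • m)
    refine Submodule.smul_induction_on hn (fun b hb m _ => key b hb m) ?_
    intro x y hx hy
    exact Submodule.add_mem _ hx hy
  · intro hn
    refine Submodule.smul_induction_on hn ?_ ?_
    · intro a ha m _
      rw [← algebraMap_smul B a m]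
      exact Submodule.smul_mem_smul (Ideal.mem_map_of_mem _ ha) Submodule.mem_top
    · intro x y hx hy
      exact Submodule.add_mem _ hx hy

theorem hyp_of_flat_module (A B : Type*) [CommRing A] [CommRing B] [IsLocalRing A] [Algebra A B]
    (N : Type*) [AddCommGroup N] [Module B N] [Module A N] [IsScalarTower A B N]
    [Module.Finite B N] [Module.Flat A N]
    (hs : Module.support B N = Set.univ) : Hyp A B := by
  intro p hp hne q hq hcon
  obtain ⟨t, htm, htp⟩ : ∃ t ∈ maximalIdeal A, t ∉ p := by
    by_contra hc
    push Not at hc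
    exact hne (le_antisymm (le_maximalIdeal hp.ne_top) hc)
  have hreg : IsSMulRegular (N ⧸ (p.map (algebraMap A B)) • (⊤ : Submodule B N))
      (algebraMap A B t) := by
    apply IsSMulRegular.of_right_eq_zero_of_smul
    intro m hm
    obtain ⟨n, rfl⟩ := Submodule.Quotient.mk_surjective _ m
    rw [← Submodule.Quotient.mk_smul, Submodule.Quotient.mk_eq_zero, algebraMap_smul,
      map_smul_top_eq] at hm
    rw [Submodule.Quotient.mk_eq_zero, map_smul_top_eq]
    exact mem_smul_top_of_flat p htp hm
  have hqmem : algebraMap A B t ∈ q := by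
    have : t ∈ q.comap (algebraMap A B) := hcon ▸ htm
    exact this
  have hsupp : ∀ q' : PrimeSpectrum B,
      q' ∈ Module.support B (N ⧸ (p.map (algebraMap A B)) • (⊤ : Submodule B N)) ↔
        p.map (algebraMap A B) ≤ q'.asIdeal := by
    intro q'
    rw [Module.support_quotient, hs]
    simp [PrimeSpectrum.mem_zeroLocus]
  have hqmin : q ∈ (Module.annihilator B
      (N ⧸ (p.map (algebraMap A B)) • (⊤ : Submodule B N))).minimalPrimes := by
    refine ⟨⟨hq.1.1, ?_⟩, ?_⟩
    · exact Module.mem_support_iff_of_finite.mp ((hsupp ⟨q, hq.1.1⟩).mpr hq.1.2)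
    · intro q' hq' hle
      have : p.map (algebraMap A B) ≤ q' :=
        (hsupp ⟨q', hq'.1⟩).mp (Module.mem_support_iff_of_finite.mpr hq'.2)
      exact hq.2 ⟨hq'.1, this⟩ hle
  exact hreg.notMem_of_mem_minimalPrimes hqmin hqmem

end Groth.Agent.FibDim
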