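import Mathlib
import Groth.Prelude.Def_EGA4b
import Groth.Prelude.Def_Flat
import Groth.Agent.Lib.FibDim_helper8
import Groth.Agent.Lib.FibFlat_helper8

/-! The fibre local ring `B_P / p B_P` of a flat map of Noetherian rings: dimension formula,
and vanishing of its dimension at minimal primes of `pB`. Also invariance of `localDim` under
homeomorphisms. -/

universe u

namespace Groth.Agent.FibLocH8

open IsLocalRing

theorem dim_fibLocRing_add {A B : Type u} [CommRing A] [CommRing B] [Algebra A B]
    [IsNoetherianRing A] [IsNoetherianRing B] [Module.Flat A B] (p : Ideal A) [p.IsPrime]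
    (P : Ideal B) [P.IsPrime] [P.LiesOver p] :
    ringKrullDim (EGA4.FibLocRing A B P) + ringKrullDim (Localization.AtPrime p) =
      ringKrullDim (Localization.AtPrime P) := by
  letI := Localization.AtPrime.algebraOfLiesOver p P
  haveI : IsLocalHom (algebraMap (Localization.AtPrime p) (Localization.AtPrime P)) :=
    Localization.isLocalHom_localRingHom _ _ _ _
  have hs : Module.support (Localization.AtPrime P) (Localization.AtPrime P) = Set.univ := by
    ext p'
    simp only [Set.mem_univ, iff_true]
    rw [Module.mem_support_iff_exists_annihilator]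
    refine ⟨1, fun a ha => ?_⟩
    rw [Submodule.mem_annihilator_span_singleton] at ha
    simp only [smul_eq_mul, mul_one] at ha
    rw [ha]; exact zero_mem _
  have hyp := Groth.Agent.FibDim.hyp_of_flat_module (Localization.AtPrime p) (Localization.AtPrime P)
    (Localization.AtPrime P) hs
  have heq := Groth.Agent.FibDim.dim_eq (Localization.AtPrime p) (Localization.AtPrime P) hyp
  have hI : (maximalIdeal (Localization.AtPrime p)).map
      (algebraMap (Localization.AtPrime p) (Localization.AtPrime P)) =
      (P.comap (algebraMap A B)).map (algebraMap A (Localization.AtPrime P)) := by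
    rw [← Localization.AtPrime.map_eq_maximalIdeal, Ideal.map_map,
      ← IsScalarTower.algebraMap_eq]
    have : p = P.comap (algebraMap A B) := Ideal.LiesOver.over
    rw [← this]
  rw [heq, add_comm]
  congr 1
  exact ringKrullDim_eq_of_ringEquiv (Ideal.quotEquivOfEq hI.symm)

theorem dim_fibLocRing_eq_zero {A B : Type*} [CommRing A] [CommRing B] [Algebra A B]
    (P : Ideal B) [P.IsPrime]
    (hP : P ∈ ((P.comap (algebraMap A B)).map (algebraMap A B)).minimalPrimes) :
    ringKrullDim (EGA4.FibLocRing A B P) = 0 := by
  set R := Localization.AtPrime P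
  set I : Ideal R := (P.comap (algebraMap A B)).map (algebraMap A R) with hI
  have hIm : I ≤ maximalIdeal R := by
    rw [hI, Ideal.map_le_iff_le_comap]
    intro x hx
    rw [Ideal.mem_comap, IsScalarTower.algebraMap_apply A B R, ← Ideal.mem_comap]
    have hcm : (maximalIdeal R).comap (algebraMap B R) = P :=
      Localization.AtPrime.under_maximalIdeal
    rw [hcm]
    exact hx
  haveI : Nontrivial (R ⧸ I) :=
    Ideal.Quotient.nontrivial_iff.mpr (fun h => (maximalIdeal.isMaximal R).ne_top (top_le_iff.mp (h ▸ hIm)))
  rw [← ringKrullDimZero_iff_ringKrullDim_eq_zero,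
    Ideal.krullDimLE_zero_quotient_iff_forall_minimalPrimes_isMaximal]
  intro J hJ
  haveI hJp : J.IsPrime := hJ.1.1
  have hJI : I ≤ J := hJ.1.2
  set P1 := J.comap (algebraMap B R) with hP1
  haveI : P1.IsPrime := Ideal.IsPrime.comap _
  have h1 : P1 ≤ P := by
    have : J ≤ maximalIdeal R := le_maximalIdeal hJp.ne_top
    calc P1 ≤ (maximalIdeal R).comap (algebraMap B R) := Ideal.comap_mono this
      _ = P := Localization.AtPrime.under_maximalIdeal
  have h2 : (P.comap (algebraMap A B)).map (algebraMap A B) ≤ P1 := by
    rw [Ideal.map_le_iff_le_comap]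
    intro x hx
    rw [Ideal.mem_comap, hP1, Ideal.mem_comap, ← IsScalarTower.algebraMap_apply A B R]
    exact hJI (Ideal.mem_map_of_mem _ hx)
  have h3 : P ≤ P1 := hP.2 ⟨inferInstance, h2⟩ h1
  have h4 : maximalIdeal R ≤ J := by
    rw [← Localization.AtPrime.map_eq_maximalIdeal (I := P)]
    exact (Ideal.map_mono h3).trans Ideal.map_comap_le
  have : J = maximalIdeal R := ((maximalIdeal.isMaximal R).eq_of_le hJp.ne_top h4).symm
  rw [this]
  exact maximalIdeal.isMaximal R

theorem localDim_le_of_homeomorph {X Y : Type*} [TopologicalSpace X] [TopologicalSpace Y]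
    (φ : X ≃ₜ Y) (x : X) : FlatMor.localDim Y (φ x) ≤ FlatMor.localDim X x := by
  unfold FlatMor.localDim
  refine le_iInf ?_
  rintro ⟨U, hx⟩
  let V : TopologicalSpace.Opens Y := ⟨φ '' U, φ.isOpenMap _ U.2⟩
  refine (iInf_le _ ⟨V, ⟨x, hx, rfl⟩⟩).trans ?_
  change topologicalKrullDim ↥(φ '' (U : Set X)) ≤ topologicalKrullDim ↥(U : Set X)
  exact (IsHomeomorph.topologicalKrullDim_eq _ (φ.image (U : Set X)).isHomeomorph).symm.le

theorem localDim_homeomorph {X Y : Type*} [TopologicalSpace X] [TopologicalSpace Y]
    (φ : X ≃ₜ Y) (x : X) : FlatMor.localDim Y (φ x) = FlatMor.localDim X x := by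
  refine le_antisymm (localDim_le_of_homeomorph φ x) ?_
  have := localDim_le_of_homeomorph φ.symm (φ x)
  rwa [Homeomorph.symm_apply_apply] at this

end Groth.Agent.FibLocH8
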