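import Mathlib
import Groth.Prelude.Def_Flat
import Groth.Agent.Lib.FibLoc_helper8
import Groth.Agent.Lib.FibCoh8_helper8

/-! Relative dimension of a morphism to the spectrum of a field is the local dimension. -/

universe u
open AlgebraicGeometry CategoryTheory CategoryTheory.Limits

namespace FieldBaseH8

theorem fibreDimAt_to_field {W T : Scheme.{u}} [Subsingleton T] (t : W ⟶ T) (w : W) :
    FlatMor.fibreDimAt t w = FlatMor.localDim ↥W w := by
  have hsurj : Function.Surjective (t.fiberι (t w)) := by
    intro x
    have : x ∈ Set.range (t.fiberι (t w)) := by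
      rw [Scheme.Hom.range_fiberι]
      exact Subsingleton.elim _ _
    exact this
  let φ : ↥(t.fiber (t w)) ≃ₜ ↥W :=
    (t.fiberι (t w)).isEmbedding.toHomeomorphOfSurjective hsurj
  have h := Groth.Agent.FibLocH8.localDim_homeomorph φ (t.asFiber w)
  have hφ : φ (t.asFiber w) = w := t.fiberι_asFiber w
  rw [hφ] at h
  exact h.symm

/-- Relative dimension over an étale scheme over a field is the local dimension. -/
theorem fibreDimAt_of_etale_to_field {W V T : Scheme.{u}} [Subsingleton T] (κ : W ⟶ V)
    (ψ : V ⟶ T) [Etale ψ] (w : W) :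
    FlatMor.fibreDimAt κ w = FlatMor.localDim ↥W w := by
  rw [← fibreDimAt_to_field (κ ≫ ψ) w]
  have := FibCohH8.fibreDimAt_etale_local (κ ≫ ψ) κ (𝟙 W) ψ (by simp) w
  exact this.symm

end FieldBaseH8
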