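import Mathlib
import Groth.Prelude.Def_Flat
import Groth.Agent.Lib.BCDimSch_helper8
import Groth.Agent.Lib.EtDim2_helper8

/-! Local dimension of a scheme locally of finite type over a field is invariant under
extension of the base field. -/

universe u
open AlgebraicGeometry CategoryTheory CategoryTheory.Limits

namespace FieldExtH8

instance subsingleton_spec_field (κ : Type u) [Field κ] :
    Subsingleton ↥(Spec (CommRingCat.of κ)) :=
  inferInstanceAs (Subsingleton (PrimeSpectrum κ))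

/-- dimension of the preimage of an open under a base field extension -/
theorem topDim_preimage_eq (κ κ' : Type u) [Field κ] [Field κ'] {Z' Z : Scheme.{u}}
    (π : Z' ⟶ Z) (q : Z' ⟶ Spec (CommRingCat.of κ')) (p : Z ⟶ Spec (CommRingCat.of κ))
    (ψ : CommRingCat.of κ ⟶ CommRingCat.of κ') (sq : IsPullback π q p (Spec.map ψ))
    [LocallyOfFiniteType p] (U : Z.Opens) :
    topologicalKrullDim ↥((π ⁻¹ᵁ U : Z'.Opens) : Set Z') = topologicalKrullDim ↥(U : Set Z) := by
  have sq1 : IsPullback (π ∣_ U) (π ⁻¹ᵁ U).ι U.ι π := isPullback_morphismRestrict π U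
  have sq2 : IsPullback (π ∣_ U) ((π ⁻¹ᵁ U).ι ≫ q) (U.ι ≫ p) (Spec.map ψ) := sq1.paste_vert sq
  let e : (π ⁻¹ᵁ U).toScheme ≅ pullback (U.ι ≫ p) (Spec.map ψ) := sq2.isoPullback
  have h1 := Groth.Agent.BCDimSchH8.dim_eq_of_iso e
  have h2 := Groth.Agent.BCDimSchH8.dim_pullback_field κ κ' U.toScheme (U.ι ≫ p) ψ
  exact h1.trans h2

theorem localDim_of_isPullback_field (κ κ' : Type u) [Field κ] [Field κ'] {Z' Z : Scheme.{u}}
    (π : Z' ⟶ Z) (q : Z' ⟶ Spec (CommRingCat.of κ')) (p : Z ⟶ Spec (CommRingCat.of κ))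
    (ψ : CommRingCat.of κ ⟶ CommRingCat.of κ') (sq : IsPullback π q p (Spec.map ψ))
    [LocallyOfFiniteType p] (z' : Z') :
    FlatMor.localDim ↥Z' z' = FlatMor.localDim ↥Z (π z') := by
  haveI : Flat (Spec.map ψ) := inferInstance
  haveI : UniversallyOpen (Spec.map ψ) := inferInstance
  haveI : Flat π := MorphismProperty.of_isPullback sq.flip inferInstance
  haveI : UniversallyOpen π := MorphismProperty.of_isPullback sq.flip inferInstance
  unfold FlatMor.localDim
  apply le_antisymm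
  · refine le_iInf fun U => ?_
    refine (iInf_le _ ⟨π ⁻¹ᵁ U.1, U.2⟩).trans ?_
    exact (topDim_preimage_eq κ κ' π q p ψ sq U.1).le
  · refine le_iInf fun W' => ?_
    have hopen : IsOpen (π '' (W'.1 : Set ↥Z')) := π.isOpenMap _ W'.1.2
    have h1 : (⨅ V : {V : TopologicalSpace.Opens ↥Z // π z' ∈ V},
        topologicalKrullDim ↥(V.1 : Set ↥Z)) ≤
        topologicalKrullDim ↥(π '' (W'.1 : Set ↥Z')) :=
      iInf_le (fun V : {V : TopologicalSpace.Opens ↥Z // π z' ∈ V} =>
        topologicalKrullDim ↥(V.1 : Set ↥Z)) ⟨⟨π '' (W'.1 : Set ↥Z'), hopen⟩, ⟨z', W'.2, rfl⟩⟩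
    refine h1.trans ?_
    have h2 := EtDimH8.topDim_open_eq_iSup Z ⟨π '' (W'.1 : Set ↥Z'), hopen⟩
    simp only [TopologicalSpace.Opens.coe_mk] at h2
    rw [h2, EtDimH8.topDim_open_eq_iSup]
    refine iSup_le fun v => ?_
    obtain ⟨w', hw'W, hw'v⟩ := v.2
    rw [← hw'v]
    refine le_trans ?_ (le_iSup (fun w : ↥(W'.1 : Set ↥Z') =>
      ((Order.coheight (w : Z') : ℕ∞) : WithBot ℕ∞)) ⟨w', hw'W⟩)
    exact_mod_cast EtDimH8.coheight_le_of_generalizingMap π (Flat.generalizingMap π) w'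

end FieldExtH8
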