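import Mathlib
import Groth.Prelude.Def_Flat
import Groth.Agent.Lib.FieldExt1_helper8
import Groth.Agent.Lib.FibRes2_helper8

/-! Relative dimension at a point is invariant under base change. -/

universe u
open AlgebraicGeometry CategoryTheory CategoryTheory.Limits

namespace FieldExtH8

theorem localDim_fiber_eq_fibreDimAt {X S : Scheme.{u}} (f : X ⟶ S) (s : S) (z : f.fiber s) (x : X)
    (hz : f.fiberι s z = x) : FlatMor.localDim ↥(f.fiber s) z = FlatMor.fibreDimAt f x := by
  have hs : f x = s := by rw [← hz]; exact Groth.Agent.FibRes2H8.fiberι_mem f s z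
  subst hs
  have hz' : z = f.asFiber x := by
    apply (f.fiberι (f x)).isEmbedding.injective
    rw [hz, Scheme.Hom.fiberι_asFiber]
  subst hz'
  rfl

theorem fibreDimAt_baseChange {X S X' S' : Scheme.{u}} (f : X ⟶ S) [LocallyOfFiniteType f]
    (g : S' ⟶ S) (g' : X' ⟶ X) (f' : X' ⟶ S') (hsq : IsPullback g' f' f g) (x' : X') :
    FlatMor.fibreDimAt f' x' = FlatMor.fibreDimAt f (g' x') := by
  have sq := isPullback_fiberToSpecResidueField_of_isPullback hsq (f' x')
  set θ := pullback.map f' (S'.fromSpecResidueField (f' x')) f (S.fromSpecResidueField (g (f' x')))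
    g' (Spec.map (g.residueFieldMap (f' x'))) g hsq.w.symm (by simp) with hθ
  have hlft : LocallyOfFiniteType (f.fiberToSpecResidueField (g (f' x'))) :=
    Groth.Agent.FibRes2H8.lft_fiber f _
  have h1 := @localDim_of_isPullback_field (S.residueField (g (f' x')))
    (S'.residueField (f' x')) _ _ _ _
    θ (f'.fiberToSpecResidueField (f' x')) (f.fiberToSpecResidueField (g (f' x')))
    (g.residueFieldMap (f' x')) sq hlft (f'.asFiber x')
  refine Eq.trans (b := FlatMor.localDim ↥(f.fiber (g (f' x'))) (θ (f'.asFiber x'))) h1 ?_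
  apply localDim_fiber_eq_fibreDimAt
  have hι : θ ≫ f.fiberι (g (f' x')) = f'.fiberι (f' x') ≫ g' := pullback.lift_fst _ _ _
  have := congrArg (fun k : f'.fiber (f' x') ⟶ X => k (f'.asFiber x')) hι
  refine Eq.trans this ?_
  change g' (f'.fiberι (f' x') (f'.asFiber x')) = g' x'
  rw [Scheme.Hom.fiberι_asFiber]

end FieldExtH8
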