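import Groth.Agent.Lib.AlgSpQC2_helper7

/-!
# Open subspaces of algebraic spaces (helper7)
-/

set_option autoImplicit false
universe u
open CategoryTheory CategoryTheory.Limits AlgebraicGeometry Opposite

namespace Groth.Agent.Lib.AlgSpOpen_helper7

open AlgSp Groth.Agent.Lib.AlgSpQC2_helper7 Groth.Agent.Lib.AlgSpPoints_helper7
  Groth.Agent.Lib.AlgSpQC_helper7 Groth.Agent.Lib.AlgSpDiag_helper7 Groth.Agent.Lib.AlgSpTop_helper7
  Groth.Agent.Lib.AlgSpPullback_helper7

variable {S : Scheme.{u}}

/-- A representable open immersion which is surjective on points is an isomorphism. -/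
theorem isIso_of_openImmersion_of_surjective {A B : Sp S} (g : A ⟶ B)
    (hg : RepWith @IsOpenImmersion g) (hs : IsSurjectiveMor g) : IsIso g := by
  apply isIso_of_repWith_isomorphisms
  have h2 : RepWith (@IsOpenImmersion ⊓ @Surjective) g :=
    repWith_inf hg ((repWith_surjective_iff g hg.rep).2 hs)
  refine repWith_mono ?_ h2
  intro U V k ⟨hk1, hk2⟩
  have : IsOpenImmersion k := hk1
  have : Surjective k := hk2
  exact isIso_of_isOpenImmersion_of_opensRange_eq_top k
    (by ext x; simpa using k.surjective x)

/-- A morphism factors through an open subspace iff its image on points lies in it. -/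
theorem factors_iff_of_openImmersion {X X' Y : Sp S}
    (j : X' ⟶ X) (hj : RepWith @IsOpenImmersion j) (f : Y ⟶ X) :
    (∃ g : Y ⟶ X', g ≫ j = f) ↔
      Set.range (Points.map f) ⊆ Set.range (Points.map j) := by
  constructor
  · rintro ⟨g, rfl⟩ _ ⟨y, rfl⟩
    exact ⟨Points.map g y, (Points.map_comp g j y).symm⟩
  · intro h
    have sq := IsPullback.of_hasPullback f j
    have h1 : RepWith @IsOpenImmersion (pullback.fst f j) := repWith_fst_of_isPullback _ sq hj
    have h2 : IsSurjectiveMor (pullback.fst f j) := by
      intro y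
      obtain ⟨x', hx'⟩ := h ⟨y, rfl⟩
      obtain ⟨p, hp, _⟩ := exists_of_isPullback sq y x' hx'.symm
      exact ⟨p, hp⟩
    have := isIso_of_openImmersion_of_surjective _ h1 h2
    exact ⟨inv (pullback.fst f j) ≫ pullback.snd f j, by
      rw [Category.assoc, ← pullback.condition, IsIso.inv_hom_id_assoc]⟩

/-- For a property of schemes local in the étale topology, `EtaleLocally P` can be tested on all
étale charts. -/
theorem etaleLocally_iff_forall_chart (P : Scheme.{u} → Prop)
    (hP : ∀ (V : Scheme.{u}) (𝒰 : Scheme.Cover.{u} (Scheme.precoverage @Etale) V),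
      P V ↔ ∀ i, P (𝒰.X i)) {X : Sp S} (hX : IsAlgSpace X) :
    EtaleLocally P X ↔ ∀ (U : Over S) (a : (yon S).obj U ⟶ X), RepWith @Etale a → P U.left := by
  constructor
  · rintro ⟨U, p, hpe, hps, hU⟩ V a ha
    have sq := hpe.rep.isPullback a
    let W := hpe.rep.pullback a
    have hs1 : Etale (hpe.rep.snd a).left := hpe.property_snd a
    have hs2 : Surjective (hpe.rep.snd a).left := hps.property _ _ _ sq
    obtain ⟨w, hw⟩ := (yon S).map_surjective (hpe.rep.fst a)
    have hw1 : RepWith @Etale ((yon S).map w) := by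
      rw [hw]; exact repWith_fst_of_isPullback _ sq ha
    have hw2 : Etale w.left := (repWith_yon_map_iff _ _).1 hw1
    -- `P W`
    have hPW : P W.left := by
      let 𝒰 : Scheme.Cover.{u} (Scheme.precoverage @Etale) U.left :=
        Scheme.Cover.mkOfCovers (Option PUnit.{u+1})
          (fun o => match o with | none => U.left | some _ => W.left)
          (fun o => match o with | none => 𝟙 _ | some _ => w.left)
          (fun x => ⟨none, x, rfl⟩)
          (by intro o; rcases o with _ | _ <;> dsimp only <;> infer_instance)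
      exact ((hP _ 𝒰).1 hU) (some PUnit.unit)
    let 𝒱 : Scheme.Cover.{u} (Scheme.precoverage @Etale) V.left :=
      Scheme.Cover.mkOfCovers PUnit.{u+1} (fun _ => W.left) (fun _ => (hpe.rep.snd a).left)
        (fun x => ⟨PUnit.unit, hs2.surj x⟩) (fun _ => hs1)
    exact (hP _ 𝒱).2 (fun _ => hPW)
  · intro h
    obtain ⟨U, p, hpe, hps⟩ := hX.atlas
    exact ⟨U, p, hpe, hps, h U p hpe⟩

end Groth.Agent.Lib.AlgSpOpen_helper7
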