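import Groth.Agent.Lib.AlgSpEpi_helper7
import Groth.Agent.Lib.AlgSpOpen_helper7
import Mathlib.CategoryTheory.Sites.Subsheaf

set_option autoImplicit false
universe u
open CategoryTheory CategoryTheory.Limits AlgebraicGeometry Opposite

namespace Groth.Agent.Lib.AlgSpOpenSub_helper7

open AlgSp Groth.Agent.Lib.AlgSpPoints_helper7 Groth.Agent.Lib.AlgSpTop_helper7
  Groth.Agent.Lib.AlgSpPullback_helper7 Groth.Agent.Lib.AlgSpBasic_helper7
  Groth.Agent.Lib.AlgSpOpen_helper7

variable {S : Scheme.{u}}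

/-- Yoneda for fppf sheaves over `S`, with universes pinned. -/
noncomputable abbrev yE {X : Sp S} {T : Over S} : ((yon S).obj T ⟶ X) ≃ X.obj.obj (op T) :=
  GrothendieckTopology.uliftYonedaEquiv.{u + 1} (J S)

theorem yE_symm_map {X : Sp S} {T T' : Over S} (f : T' ⟶ T) (x : X.obj.obj (op T)) :
    (yon S).map f ≫ yE.symm x = yE.symm (X.obj.map f.op x) :=
  GrothendieckTopology.uliftYonedaEquiv_symm_naturality_left.{u + 1} (J S) f X x

theorem yE_comp {X Y : Sp S} {T : Over S} (a : (yon S).obj T ⟶ X) (b : X ⟶ Y) :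
    yE (a ≫ b) = b.hom.app _ (yE a) := rfl

/-- The subfunctor of `X` of sections all of whose points lie in `W`. -/
def openSubfunctor (X : Sp S) (W : Set (Points X)) : Subfunctor X.obj where
  obj T := {x | ∀ t : ↥T.unop.left, Points.ofPt (yE (T := T.unop).symm x) t ∈ W}
  map := by
    intro T T' i x hx t
    have h1 := yE_symm_map i.unop x
    show Points.ofPt (yE.symm (X.obj.map i.unop.op x)) t ∈ W
    rw [← h1, ofPt_comp]
    exact hx _

theorem openSubfunctor_isSheaf (X : Sp S) (W : Set (Points X)) :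
    Presheaf.IsSheaf (J S) (openSubfunctor X W).toFunctor := by
  rw [isSheaf_iff_isSheaf_of_type]
  have hX : Presieve.IsSheaf (J S) X.obj := (isSheaf_iff_isSheaf_of_type _ _).1 X.property
  rw [Subfunctor.isSheaf_iff _ hX]
  intro T x hx
  show ∀ t : ↥T.unop.left, Points.ofPt (yE (T := T.unop).symm x) t ∈ W
  intro t
  rw [J_eq, GrothendieckTopology.mem_over_iff] at hx
  have hx' : Sieve.overEquiv (unop T) ((openSubfunctor X W).sieveOfSection x) ∈
      Scheme.grothendieckTopology ⊤ (unop T).left :=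
    (Scheme.grothendieckTopology_monotone le_top :
      Scheme.grothendieckTopology (@Flat ⊓ @LocallyOfFinitePresentation) ≤
        Scheme.grothendieckTopology ⊤) _ hx
  obtain ⟨𝒰, h𝒰⟩ := (Scheme.mem_grothendieckTopology_iff (P := ⊤)).1 hx'
  obtain ⟨i, y, rfl⟩ := 𝒰.exists_eq t
  have h1 := h𝒰 _ _ (Presieve.ofArrows.mk i)
  rw [Sieve.overEquiv_iff] at h1
  have h2 := h1 y
  have h3 := yE_symm_map
    (Over.homMk (𝒰.f i) : Over.mk (𝒰.f i ≫ T.unop.hom) ⟶ T.unop) x
  change Points.ofPt (yE.symm
    (X.obj.map (Over.homMk (𝒰.f i) : Over.mk (𝒰.f i ≫ T.unop.hom) ⟶ T.unop).op x)) y ∈ W at h2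
  rw [← h3, ofPt_comp] at h2
  exact h2

/-- The open subspace of `X` on the set `W`, as a sheaf. -/
def openSub (X : Sp S) (W : Set (Points X)) : Sp S :=
  ⟨(openSubfunctor X W).toFunctor, openSubfunctor_isSheaf X W⟩

/-- The inclusion of the open subspace. -/
def openSubι (X : Sp S) (W : Set (Points X)) : openSub X W ⟶ X :=
  ObjectProperty.homMk (openSubfunctor X W).ι

instance mono_openSubι (X : Sp S) (W : Set (Points X)) : Mono (openSubι X W) := by
  have : Mono ((sheafToPresheaf (J S) (Type (u + 1))).map (openSubι X W)) :=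
    inferInstanceAs (Mono (openSubfunctor X W).ι)
  exact (sheafToPresheaf (J S) (Type (u + 1))).mono_of_mono_map this

theorem exists_lift_openSub {X : Sp S} {W : Set (Points X)} {T : Over S} (g : (yon S).obj T ⟶ X)
    (hg : ∀ t, Points.ofPt g t ∈ W) :
    ∃ g' : (yon S).obj T ⟶ openSub X W, g' ≫ openSubι X W = g := by
  have hx : yE g ∈ (openSubfunctor X W).obj (op T) := by
    show ∀ t : ↥T.left, Points.ofPt (yE.symm (yE g)) t ∈ W
    intro t
    rw [Equiv.symm_apply_apply]
    exact hg t
  refine ⟨yE.symm (⟨yE g, hx⟩ : (openSub X W).obj.obj (op T)), ?_⟩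
  apply yE.injective
  rw [yE_comp, Equiv.apply_symm_apply]
  rfl

theorem ofPt_comp_openSubι_mem {X : Sp S} {W : Set (Points X)} {T : Over S}
    (g' : (yon S).obj T ⟶ openSub X W) (t : ↥T.left) :
    Points.ofPt (g' ≫ openSubι X W) t ∈ W := by
  have h : ∀ t : ↥T.left, Points.ofPt (yE.symm (yE g').1) t ∈ W := (yE g').2
  have e : yE.symm (yE g').1 = g' ≫ openSubι X W := by
    apply yE.injective
    rw [Equiv.apply_symm_apply, yE_comp]
    rfl
  rw [e] at h
  exact h t

theorem exists_isPullback_openSub {X : Sp S} {W : Set (Points X)} (hW : IsOpen W) {T : Over S}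
    (g : (yon S).obj T ⟶ X) :
    ∃ (V : Over S) (ι : V ⟶ T) (fst : (yon S).obj V ⟶ openSub X W), IsOpenImmersion ι.left ∧
      Set.range ι.left = Points.ofPt g ⁻¹' W ∧
      IsPullback fst ((yon S).map ι) (openSubι X W) g := by
  let O : T.left.Opens := ⟨Points.ofPt g ⁻¹' W, Points.isOpen_iff.1 hW T g⟩
  let V : Over S := Over.mk (O.ι ≫ T.hom)
  let ι : V ⟶ T := Over.homMk O.ι rfl
  have hr : Set.range ι.left = Points.ofPt g ⁻¹' W := by
    change Set.range O.ι = _
    rw [Scheme.Opens.range_ι]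
    rfl
  have hV : ∀ v : ↥V.left, Points.ofPt ((yon S).map ι ≫ g) v ∈ W := by
    intro v
    rw [ofPt_comp]
    have : ι.left v ∈ Set.range ι.left := ⟨v, rfl⟩
    rw [hr] at this
    exact this
  obtain ⟨fst, hfst⟩ := exists_lift_openSub _ hV
  have hιo : IsOpenImmersion ι.left := inferInstanceAs (IsOpenImmersion O.ι)
  have hιm : Mono ι := by
    have : Mono ι.left := inferInstanceAs (Mono O.ι)
    exact Over.mono_of_mono_left ι
  refine ⟨V, ι, fst, hιo, hr, ?_⟩
  refine isPullback_of_forall_yon hfst ?_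
  intro Z a b hab
  obtain ⟨β, rfl⟩ := (yon S).map_surjective b
  have hβ : Set.range β.left ⊆ Set.range ι.left := by
    rintro _ ⟨z, rfl⟩
    rw [hr]
    show Points.ofPt g (β.left z) ∈ W
    rw [← ofPt_comp, ← hab]
    exact ofPt_comp_openSubι_mem a z
  let γl : Z.left ⟶ V.left := IsOpenImmersion.lift ι.left β.left hβ
  have hγl : γl ≫ ι.left = β.left := IsOpenImmersion.lift_fac _ _ _
  let γ : Z ⟶ V := Over.homMk γl (by
    rw [← Over.w ι, ← Category.assoc, hγl, Over.w])
  have hγ : γ ≫ ι = β := by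
    ext
    exact hγl
  refine ⟨(yon S).map γ, ⟨?_, ?_⟩, ?_⟩
  · rw [← cancel_mono (openSubι X W), Category.assoc, hfst, ← Category.assoc, ← Functor.map_comp,
      hγ, hab]
  · rw [← Functor.map_comp, hγ]
  · rintro p ⟨-, hp2⟩
    obtain ⟨γ', rfl⟩ := (yon S).map_surjective p
    rw [← Functor.map_comp] at hp2
    have h3 : γ' ≫ ι = β := (yon S).map_injective hp2
    congr 1
    rw [← cancel_mono ι, h3, hγ]

theorem repWith_isOpenImmersion_openSubι {X : Sp S} {W : Set (Points X)} (hW : IsOpen W) :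
    RepWith @IsOpenImmersion (openSubι X W) := by
  apply MorphismProperty.relative.of_exists
  intro T g
  obtain ⟨V, ι, fst, h1, -, sq⟩ := exists_isPullback_openSub hW g
  exact ⟨V, fst, ι, sq, h1⟩

theorem isAlgSpace_openSub {X : Sp S} (hX : IsAlgSpace X) {W : Set (Points X)} (hW : IsOpen W) :
    IsAlgSpace (openSub X W) where
  diag := by
    have h1 : Representable (openSubι X W ≫ Limits.diag X) :=
      MorphismProperty.comp_mem _ _ _ (repWith_isOpenImmersion_openSubι hW).rep hX.diag
    rw [← prod.diag_map] at h1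
    exact representable_of_comp_mono _ (prod.map (openSubι X W) (openSubι X W)) h1
  atlas := by
    obtain ⟨U, p, hpe, hps⟩ := hX.atlas
    obtain ⟨V, ι, fst, -, -, sq⟩ := exists_isPullback_openSub hW p
    exact ⟨V, fst, MorphismProperty.of_isPullback sq.flip hpe,
      MorphismProperty.of_isPullback sq.flip hps⟩

theorem range_map_openSubι {X : Sp S} (hX : IsAlgSpace X) {W : Set (Points X)} (hW : IsOpen W) :
    Set.range (Points.map (openSubι X W)) = W := by
  apply Set.Subset.antisymm
  · rintro _ ⟨x', rfl⟩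
    obtain ⟨U', p', -, hp's⟩ := (isAlgSpace_openSub hX hW).atlas
    obtain ⟨v, rfl⟩ := ofPt_surjective p' hp's x'
    rw [Points.map_ofPt]
    exact ofPt_comp_openSubι_mem p' v
  · intro w hw
    obtain ⟨U, p, hpe, hps⟩ := hX.atlas
    obtain ⟨u, rfl⟩ := ofPt_surjective p hps w
    obtain ⟨V, ι, fst, -, hr, sq⟩ := exists_isPullback_openSub hW p
    have hu : u ∈ Set.range ι.left := by
      rw [hr]
      exact hw
    obtain ⟨v, rfl⟩ := hu
    refine ⟨Points.ofPt fst v, ?_⟩
    rw [Points.map_ofPt, sq.w, ofPt_comp]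

/-- Existence of the open subspace on a given open set of points. -/
theorem exists_openSubspace (X : Space S) (W : Set (Points X.obj)) (hW : IsOpen W) :
    ∃ (X' : Space S) (j : X' ⟶ X),
      RepWith @IsOpenImmersion j.hom ∧ Set.range (Points.map j.hom) = W :=
  ⟨⟨openSub X.obj W, isAlgSpace_openSub X.property hW⟩, ObjectProperty.homMk (openSubι X.obj W),
    repWith_isOpenImmersion_openSubι hW, range_map_openSubι X.property hW⟩

/-- The map on points of a monomorphism of sheaves is injective. -/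
theorem map_injective_of_mono {F G : Sp S} (f : F ⟶ G) [Mono f] :
    Function.Injective (Points.map f) := by
  intro x y h
  obtain ⟨K, _, sK, m, rfl⟩ := mk_surjective' x
  obtain ⟨L, _, sL, n, rfl⟩ := mk_surjective' y
  rw [map_mk_ofHom, map_mk_ofHom, mk_ofHom_eq_iff] at h
  obtain ⟨Ω, _, w, a, b, hab⟩ := h
  rw [mk_ofHom_eq_iff]
  refine ⟨Ω, inferInstance, w, a, b, ?_⟩
  rw [← cancel_mono f]
  simpa using hab

theorem mono_of_openImmersion {F G : Sp S} (j : F ⟶ G) (hj : RepWith @IsOpenImmersion j) :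
    Mono j :=
  mono_of_repWith_le_mono (P := @IsOpenImmersion)
    (fun _ _ g hg => by
      have : IsOpenImmersion g := hg
      exact (inferInstance : Mono g)) j hj

theorem repWith_etale_of_openImmersion {F G : Sp S} {j : F ⟶ G}
    (hj : RepWith @IsOpenImmersion j) : RepWith @Etale j :=
  repWith_mono (fun _ _ g hg => by
    have : IsOpenImmersion g := hg
    exact (inferInstance : Etale g)) hj

theorem range_map_yon (U : Over S) {X : Sp S} (a : (yon S).obj U ⟶ X) :
    Set.range (Points.map a) = Set.range (Points.ofPt a) := by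
  ext x
  constructor
  · rintro ⟨y, rfl⟩
    obtain ⟨u, rfl⟩ := ofScheme_surjective U y
    exact ⟨u, Points.ofPt_eq_map_ofScheme a u⟩
  · rintro ⟨u, rfl⟩
    exact ⟨Points.ofScheme U u, (Points.ofPt_eq_map_ofScheme a u).symm⟩

/-- An étale chart whose image lies in an open subspace factors through it by an étale chart,
which is surjective when the image is the whole open subspace. -/
theorem exists_factor_chart {X X' : Sp S} {U : Over S} (a : (yon S).obj U ⟶ X)
    (ha : RepWith @Etale a) (j : X' ⟶ X) (hj : RepWith @IsOpenImmersion j)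
    (himage : Set.range (Points.ofPt a) ⊆ Set.range (Points.map j)) :
    ∃ a' : (yon S).obj U ⟶ X', a' ≫ j = a ∧ RepWith @Etale a' ∧
      (Set.range (Points.map j) ⊆ Set.range (Points.ofPt a) → RepWith @Surjective a') := by
  haveI : Mono j := mono_of_openImmersion j hj
  obtain ⟨a', ha'⟩ := (factors_iff_of_openImmersion j hj a).2 (by rwa [range_map_yon])
  have hae' : RepWith @Etale a' := repWith_of_comp_mono @Etale a' j (by rw [ha']; exact ha)
  refine ⟨a', ha', hae', fun h => (repWith_surjective_iff a' hae'.rep).2 ?_⟩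
  intro x'
  obtain ⟨u, hu⟩ := h ⟨x', rfl⟩
  refine ⟨Points.ofScheme U u, ?_⟩
  apply map_injective_of_mono j
  rw [← Points.map_comp, ha', ← Points.ofPt_eq_map_ofScheme, hu]

/-- The restriction of a chart to an open subscheme. -/
theorem repWith_etale_restrict {X : Sp S} {U : Over S} (a : (yon S).obj U ⟶ X)
    (ha : RepWith @Etale a) (O : U.left.Opens) :
    RepWith @Etale ((yon S).map (Over.homMk O.ι rfl : Over.mk (O.ι ≫ U.hom) ⟶ U) ≫ a) :=
  repWith_comp _ ((repWith_yon_map_iff @Etale _).2 (inferInstanceAs (Etale O.ι))) ha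

end Groth.Agent.Lib.AlgSpOpenSub_helper7
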