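import Groth.Agent.Lib.AlgSpQC_helper7

/-!
# Fibre products of algebraic spaces (helper7)
-/

set_option autoImplicit false
universe u
open CategoryTheory CategoryTheory.Limits AlgebraicGeometry Opposite

namespace Groth.Agent.Lib.AlgSpPullback_helper7

open AlgSp Groth.Agent.Lib.AlgSpPoints_helper7 Groth.Agent.Lib.AlgSpQC_helper7

variable {S : Scheme.{u}}

/-- A morphism of sheaves is an isomorphism if it induces bijections on `h_T`-valued points. -/
theorem isIso_of_bijective_comp {P Q : Sp S} (k : P ⟶ Q)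
    (h : ∀ T : Over S, Function.Bijective (fun a : (yon S).obj T ⟶ P => a ≫ k)) : IsIso k := by
  have : IsIso ((sheafToPresheaf _ _).map k) := by
    rw [NatTrans.isIso_iff_isIso_app]
    intro T
    rw [isIso_iff_bijective]
    let eP : ((yon S).obj T.unop ⟶ P) ≃ P.obj.obj (op T.unop) := (J S).uliftYonedaEquiv
    let eQ : ((yon S).obj T.unop ⟶ Q) ≃ Q.obj.obj (op T.unop) := (J S).uliftYonedaEquiv
    have e : ∀ x, ((sheafToPresheaf _ _).map k).app T x = eQ ((fun a => a ≫ k) (eP.symm x)) := by
      intro x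
      simp only [eP, eQ]
      rw [GrothendieckTopology.uliftYonedaEquiv_comp, Equiv.apply_symm_apply]
      rfl
    have : (⇑(((sheafToPresheaf _ _).map k).app T) : P.obj.obj T → Q.obj.obj T) =
        eQ ∘ (fun a => a ≫ k) ∘ eP.symm := funext e
    rw [this]
    exact (eQ.bijective.comp (h T.unop)).comp eP.symm.bijective
  exact isIso_of_reflects_iso k (sheafToPresheaf _ _)

/-- A commutative square of sheaves is a pullback square as soon as it has the universal
property with respect to representable sheaves. -/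
theorem isPullback_of_forall_yon {P F G H : Sp S} {fst : P ⟶ F} {snd : P ⟶ G} {f : F ⟶ H}
    {g : G ⟶ H} (w : fst ≫ f = snd ≫ g)
    (h : ∀ (T : Over S) (a : (yon S).obj T ⟶ F) (b : (yon S).obj T ⟶ G), a ≫ f = b ≫ g →
      ∃! p : (yon S).obj T ⟶ P, p ≫ fst = a ∧ p ≫ snd = b) : IsPullback fst snd f g := by
  have sqQ := IsPullback.of_hasPullback f g
  let k : P ⟶ pullback f g := sqQ.lift fst snd w
  have hk : IsIso k := by
    apply isIso_of_bijective_comp
    intro T
    constructor
    · intro p₁ p₂ h12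
      dsimp only at h12
      have h1 := h12 =≫ pullback.fst f g
      have h2 := h12 =≫ pullback.snd f g
      simp only [k, Category.assoc, sqQ.lift_fst, sqQ.lift_snd] at h1 h2
      obtain ⟨p, _, hp⟩ := h T (p₁ ≫ fst) (p₁ ≫ snd) (by simp [w])
      rw [hp p₁ ⟨rfl, rfl⟩, hp p₂ ⟨h1.symm, h2.symm⟩]
    · intro q
      obtain ⟨p, ⟨hp1, hp2⟩, _⟩ := h T (q ≫ pullback.fst f g) (q ≫ pullback.snd f g)
        (by simp [sqQ.w])
      refine ⟨p, ?_⟩
      apply sqQ.hom_ext
      · simp [k, hp1]
      · simp [k, hp2]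
  exact IsPullback.of_iso_pullback ⟨w⟩ (asIso k) (by simp [k]) (by simp [k])

/-- In a fibre product of two sheaves with representable diagonals, every morphism from a
representable sheaf is representable. -/
theorem representable_from_yon_of_isPullback {X Y H P : Sp S} (hX : Representable (Limits.diag X))
    (hY : Representable (Limits.diag Y)) {f : X ⟶ H} {g : Y ⟶ H} {fst : P ⟶ X} {snd : P ⟶ Y}
    (sq : IsPullback fst snd f g) {T : Over S} (c : (yon S).obj T ⟶ P) : Representable c := by
  intro T' c'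
  have hx : Representable (c ≫ fst) := Functor.relativelyRepresentable.of_diag hX _
  have hy : Representable (c ≫ snd) := Functor.relativelyRepresentable.of_diag hY _
  let a1 := hx.fst' (c' ≫ fst)
  let b1 := hx.snd (c' ≫ fst)
  have sq1 : IsPullback ((yon S).map a1) ((yon S).map b1) (c ≫ fst) (c' ≫ fst) :=
    hx.isPullback' (c' ≫ fst)
  let a2 := hy.fst' (c' ≫ snd)
  let b2 := hy.snd (c' ≫ snd)
  have sq2 : IsPullback ((yon S).map a2) ((yon S).map b2) (c ≫ snd) (c' ≫ snd) :=
    hy.isPullback' (c' ≫ snd)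
  let q1 : hx.pullback (c' ≫ fst) ⟶ T ⨯ T' := prod.lift a1 b1
  let q2 : hy.pullback (c' ≫ snd) ⟶ T ⨯ T' := prod.lift a2 b2
  have e1 : pullback.fst q1 q2 ≫ a1 = pullback.snd q1 q2 ≫ a2 := by
    have := pullback.condition (f := q1) (g := q2) =≫ prod.fst
    rwa [Category.assoc, Category.assoc, prod.lift_fst, prod.lift_fst] at this
  have e2 : pullback.fst q1 q2 ≫ b1 = pullback.snd q1 q2 ≫ b2 := by
    have := pullback.condition (f := q1) (g := q2) =≫ prod.snd
    rwa [Category.assoc, Category.assoc, prod.lift_snd, prod.lift_snd] at this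
  refine ⟨pullback q1 q2, pullback.fst q1 q2 ≫ b1, (yon S).map (pullback.fst q1 q2 ≫ a1), ?_⟩
  have w : (yon S).map (pullback.fst q1 q2 ≫ a1) ≫ c =
      (yon S).map (pullback.fst q1 q2 ≫ b1) ≫ c' := by
    apply sq.hom_ext
    · simp only [Functor.map_comp, Category.assoc]
      rw [sq1.w]
    · rw [e1, e2]
      simp only [Functor.map_comp, Category.assoc]
      rw [sq2.w]
  refine isPullback_of_forall_yon w ?_
  intro T'' a b hab
  obtain ⟨t, rfl⟩ := (yon S).map_surjective a
  obtain ⟨t', rfl⟩ := (yon S).map_surjective b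
  let w1 : T'' ⟶ hx.pullback (c' ≫ fst) := hx.lift' t t' (by
    simp only [← Category.assoc]; rw [hab])
  let w2 : T'' ⟶ hy.pullback (c' ≫ snd) := hy.lift' t t' (by
    simp only [← Category.assoc]; rw [hab])
  have hw1a : w1 ≫ a1 = t := hx.lift'_fst _ _ _
  have hw1b : w1 ≫ b1 = t' := hx.lift'_snd _ _ _
  have hw2a : w2 ≫ a2 = t := hy.lift'_fst _ _ _
  have hw2b : w2 ≫ b2 = t' := hy.lift'_snd _ _ _
  have hq : w1 ≫ q1 = w2 ≫ q2 := by
    apply Limits.prod.hom_ext
    · rw [Category.assoc, Category.assoc, prod.lift_fst, prod.lift_fst, hw1a, hw2a]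
    · rw [Category.assoc, Category.assoc, prod.lift_snd, prod.lift_snd, hw1b, hw2b]
  refine ⟨(yon S).map (pullback.lift w1 w2 hq), ⟨?_, ?_⟩, ?_⟩
  · rw [← Functor.map_comp, pullback.lift_fst_assoc, hw1a]
  · rw [← Functor.map_comp, pullback.lift_fst_assoc, hw1b]
  · rintro p' ⟨hp1, hp2⟩
    obtain ⟨w', rfl⟩ := (yon S).map_surjective p'
    rw [← Functor.map_comp] at hp1 hp2
    have hp1' := (yon S).map_injective hp1
    have hp2' := (yon S).map_injective hp2
    congr 1
    apply pullback.hom_ext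
    · rw [pullback.lift_fst]
      apply hx.hom_ext'
      · rw [Category.assoc]
        exact hp1'.trans hw1a.symm
      · rw [Category.assoc]
        exact hp2'.trans hw1b.symm
    · rw [pullback.lift_snd]
      apply hy.hom_ext'
      · rw [Category.assoc]
        change w' ≫ pullback.snd q1 q2 ≫ a2 = _
        rw [← e1]
        exact hp1'.trans hw2a.symm
      · rw [Category.assoc]
        change w' ≫ pullback.snd q1 q2 ≫ b2 = _
        rw [← e2]
        exact hp2'.trans hw2b.symm

theorem repWith_comp (Q : MorphismProperty Scheme.{u}) [Q.IsStableUnderBaseChange]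
    [Q.IsMultiplicative] {A B C : Sp S} {f : A ⟶ B} {g : B ⟶ C} (hf : RepWith Q f)
    (hg : RepWith Q g) : RepWith Q (f ≫ g) :=
  (RepWith (S := S) Q).comp_mem f g hf hg

/-- The fibre product `h_U ×_H h_V` maps to `X ×_H Y` by a morphism which has every property
(stable under base change and composition) that `h_U ⟶ X` and `h_V ⟶ Y` both have. -/
theorem exists_chart_of_isPullback {X Y H P : Sp S} (hH : Representable (Limits.diag H))
    {f : X ⟶ H} {g : Y ⟶ H} {fst : P ⟶ X} {snd : P ⟶ Y} (sq : IsPullback fst snd f g)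
    {U V : Over S} (p : (yon S).obj U ⟶ X) (q : (yon S).obj V ⟶ Y) :
    ∃ (W : Over S) (a : W ⟶ U) (b : W ⟶ V) (r : (yon S).obj W ⟶ P),
      r ≫ fst = (yon S).map a ≫ p ∧ r ≫ snd = (yon S).map b ≫ q ∧
      IsPullback ((yon S).map a) ((yon S).map b) (p ≫ f) (q ≫ g) ∧
      ∀ (Q : MorphismProperty Scheme.{u}) [Q.IsStableUnderBaseChange] [Q.IsMultiplicative],
        RepWith Q p → RepWith Q q → RepWith Q r := by
  have hpf : Representable (p ≫ f) := Functor.relativelyRepresentable.of_diag hH _
  let W := hpf.pullback (q ≫ g)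
  let a : W ⟶ U := hpf.fst' (q ≫ g)
  let b : W ⟶ V := hpf.snd (q ≫ g)
  have sqW : IsPullback ((yon S).map a) ((yon S).map b) (p ≫ f) (q ≫ g) := hpf.isPullback' _
  -- the intermediate fibre product `M = X ×_H h_V`
  have sqM := IsPullback.of_hasPullback f (q ≫ g)
  let m : pullback f (q ≫ g) ⟶ P := sq.lift (pullback.fst f (q ≫ g)) (pullback.snd f (q ≫ g) ≫ q)
    (by rw [sqM.w, Category.assoc])
  have hm1 : m ≫ fst = pullback.fst f (q ≫ g) := sq.lift_fst _ _ _
  have hm2 : m ≫ snd = pullback.snd f (q ≫ g) ≫ q := sq.lift_snd _ _ _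
  have sqL : IsPullback m (pullback.snd f (q ≫ g)) snd q := by
    refine IsPullback.of_right ?_ hm2 sq
    rw [hm1]
    exact sqM
  let n : (yon S).obj W ⟶ pullback f (q ≫ g) := sqM.lift ((yon S).map a ≫ p) ((yon S).map b)
    (by rw [Category.assoc, sqW.w])
  have hn1 : n ≫ pullback.fst f (q ≫ g) = (yon S).map a ≫ p := sqM.lift_fst _ _ _
  have hn2 : n ≫ pullback.snd f (q ≫ g) = (yon S).map b := sqM.lift_snd _ _ _
  have sqN : IsPullback n ((yon S).map a) (pullback.fst f (q ≫ g)) p := by
    refine IsPullback.of_right ?_ hn1 sqM.flip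
    rw [hn2]
    exact sqW.flip
  refine ⟨W, a, b, n ≫ m, ?_, ?_, sqW, ?_⟩
  · rw [Category.assoc, hm1, hn1]
  · rw [Category.assoc, hm2, ← Category.assoc, hn2]
  · intro Q _ _ hp hq
    exact repWith_comp Q (repWith_fst_of_isPullback Q sqN hp) (repWith_fst_of_isPullback Q sqL hq)

/-- The fibre product of two algebraic spaces over a sheaf with representable diagonal is an
algebraic space. -/
theorem isAlgSpace_of_isPullback {X Y H P : Sp S} (hH : Representable (Limits.diag H))
    (hX : IsAlgSpace X) (hY : IsAlgSpace Y) {f : X ⟶ H} {g : Y ⟶ H} {fst : P ⟶ X} {snd : P ⟶ Y}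
    (sq : IsPullback fst snd f g) : IsAlgSpace P where
  diag := Functor.relativelyRepresentable.diag_of_map_from_obj
    (fun _ c => representable_from_yon_of_isPullback hX.diag hY.diag sq c)
  atlas := by
    obtain ⟨U, p, hpe, hps⟩ := hX.atlas
    obtain ⟨V, q, hqe, hqs⟩ := hY.atlas
    obtain ⟨W, a, b, r, _, _, _, hr⟩ := exists_chart_of_isPullback hH sq p q
    exact ⟨W, r, hr _ hpe hqe, hr _ hps hqs⟩

/-- Charts of the target can be refined to charts of the source. -/
theorem exists_chart_over {X Y : Sp S} (hX : IsAlgSpace X) (a : X ⟶ Y) {V : Over S}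
    (q : (yon S).obj V ⟶ Y) (hqe : RepWith @Etale q) (hqs : RepWith @Surjective q) :
    ∃ (U : Over S) (p : (yon S).obj U ⟶ X) (α : U ⟶ V),
      RepWith @Etale p ∧ RepWith @Surjective p ∧ p ≫ a = (yon S).map α ≫ q := by
  obtain ⟨U0, p0, hp0e, hp0s⟩ := hX.atlas
  have sq := hqe.rep.isPullback' (p0 ≫ a)
  refine ⟨hqe.rep.pullback (p0 ≫ a), (yon S).map (hqe.rep.snd (p0 ≫ a)) ≫ p0,
    hqe.rep.fst' (p0 ≫ a), ?_, ?_, ?_⟩
  · exact repWith_comp _ (repWith_snd_of_isPullback _ sq hqe) hp0e
  · exact repWith_comp _ (repWith_snd_of_isPullback _ sq hqs) hp0s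
  · rw [Category.assoc, sq.w]

instance isAlgSpace_isClosedUnderLimitsOfShape_walkingCospan :
    ObjectProperty.IsClosedUnderLimitsOfShape (IsAlgSpace (S := S)) WalkingCospan where
  limitsOfShape_le := by
    rintro X ⟨p⟩
    have sq := IsPullback.of_isLimit_cone p.isLimit
    exact isAlgSpace_of_isPullback (p.prop_diag_obj WalkingCospan.one).diag
      (p.prop_diag_obj WalkingCospan.left) (p.prop_diag_obj WalkingCospan.right) sq

instance hasPullbacks_space : HasPullbacks (Space S) :=
  Limits.hasLimitsOfShape_of_closedUnderLimits _ _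

noncomputable instance preservesPullbacks_ι :
    PreservesLimitsOfShape WalkingCospan (ObjectProperty.ι (IsAlgSpace (S := S))) :=
  inferInstance

/-- A pullback square in `Space S` from a pullback square of the underlying sheaves. -/
theorem isPullback_space_of_hom {A B C D : Space S} {fst : A ⟶ B} {snd : A ⟶ C} {f : B ⟶ D}
    {g : C ⟶ D} (sq : IsPullback fst.hom snd.hom f.hom g.hom) : IsPullback fst snd f g :=
  IsPullback.of_map (ObjectProperty.ι (IsAlgSpace (S := S)))
    ((ObjectProperty.ι (IsAlgSpace (S := S))).map_injective (by simpa using sq.w)) sq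

theorem isPullback_hom_of_space {A B C D : Space S} {fst : A ⟶ B} {snd : A ⟶ C} {f : B ⟶ D}
    {g : C ⟶ D} (sq : IsPullback fst snd f g) : IsPullback fst.hom snd.hom f.hom g.hom :=
  sq.map (ObjectProperty.ι (IsAlgSpace (S := S)))

end Groth.Agent.Lib.AlgSpPullback_helper7
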