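import Groth.Agent.Lib.AlgSpLargestOpen_helper7
import Mathlib.RingTheory.Flat.FaithfullyFlat.Algebra
import Mathlib.RingTheory.RingHom.FaithfullyFlat

/-!
# Descent of "locally Noetherian" along fppf surjections (helper7)
-/

set_option autoImplicit false
universe u
open CategoryTheory CategoryTheory.Limits AlgebraicGeometry Opposite TopologicalSpace

namespace Groth.Agent.Lib.AlgSpNoethDesc_helper7

open AlgSp Groth.Agent.Lib.AlgSpPoints_helper7 Groth.Agent.Lib.AlgSpTop_helper7
  Groth.Agent.Lib.AlgSpPullback_helper7 Groth.Agent.Lib.AlgSpBasic_helper7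
  Groth.Agent.Lib.AlgSpQC_helper7

theorem isNoetherianRing_of_faithfullyFlat {A B : Type*} [CommRing A] [CommRing B] (φ : A →+* B)
    (hφ : φ.FaithfullyFlat) [IsNoetherianRing B] : IsNoetherianRing A := by
  letI := φ.toAlgebra
  have hff : Module.FaithfullyFlat A B := hφ
  have hinj : Function.Injective (Ideal.map (algebraMap A B)) := by
    intro I J h
    rw [← Ideal.comap_map_eq_self_of_faithfullyFlat (B := B) I, h,
      Ideal.comap_map_eq_self_of_faithfullyFlat]
  have hmono : StrictMono (Ideal.map (algebraMap A B)) :=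
    Monotone.strictMono_of_injective (fun _ _ h => Ideal.map_mono h) hinj
  have : WellFoundedGT (Ideal B) := isNoetherian_iff'.mp inferInstance
  exact isNoetherian_iff'.mpr hmono.wellFoundedGT

theorem isLocallyNoetherian_of_flat_of_surjective {W V : Scheme.{u}} (k : W ⟶ V) [Flat k]
    (hk : IsOpenMap k) [Surjective k] [IsLocallyNoetherian W] : IsLocallyNoetherian V := by
  have key : ∀ v : V, ∃ U : V.affineOpens, v ∈ U.1 ∧ IsNoetherianRing Γ(V, U.1) := by
    intro v
    obtain ⟨w, rfl⟩ := k.surjective v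
    obtain ⟨V', hV', hvV', -⟩ := (Opens.isBasis_iff_nbhd.mp V.isBasis_affineOpens)
      (show k w ∈ (⊤ : V.Opens) from trivial)
    obtain ⟨O', hO', hwO', hO'le⟩ := (Opens.isBasis_iff_nbhd.mp W.isBasis_affineOpens)
      (show w ∈ k ⁻¹ᵁ V' from hvV')
    let I : V.Opens := ⟨k '' (O' : Set W), hk _ O'.isOpen⟩
    have hwI : k w ∈ I := ⟨w, hwO', rfl⟩
    obtain ⟨g, hg1, hg2⟩ := IsAffineOpen.exists_basicOpen_le hV' (V := I) ⟨k w, hwI⟩ hvV'
    have hV'' : IsAffineOpen (V.basicOpen g) := IsAffineOpen.basicOpen hV' g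
    have hO : IsAffineOpen (W.basicOpen (k.appLE V' O' hO'le g)) := IsAffineOpen.basicOpen hO' _
    have hOeq : W.basicOpen (k.appLE V' O' hO'le g) = O' ⊓ k ⁻¹ᵁ (V.basicOpen g) :=
      Scheme.basicOpen_appLE k O' V' hO'le g
    have hOle : W.basicOpen (k.appLE V' O' hO'le g) ≤ k ⁻¹ᵁ (V.basicOpen g) := by
      rw [hOeq]
      exact inf_le_right
    have hflat : (k.appLE (V.basicOpen g) _ hOle).hom.Flat := Flat.flat_appLE k hV'' hO hOle
    have hsurj : Function.Surjective (Spec.map (k.appLE (V.basicOpen g) _ hOle)) := by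
      intro p
      have hx : hV''.fromSpec p ∈ V.basicOpen g := by
        have : hV''.fromSpec p ∈ Set.range hV''.fromSpec := ⟨p, rfl⟩
        rwa [IsAffineOpen.range_fromSpec] at this
      obtain ⟨w', hw'O', hw'⟩ := hg1 hx
      have hw'O : w' ∈ W.basicOpen (k.appLE V' O' hO'le g) := by
        rw [hOeq]
        refine ⟨hw'O', ?_⟩
        change k w' ∈ V.basicOpen g
        rw [hw']
        exact hx
      have : w' ∈ Set.range hO.fromSpec := by
        rw [IsAffineOpen.range_fromSpec]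
        exact hw'O
      obtain ⟨q, rfl⟩ := this
      refine ⟨q, ?_⟩
      apply hV''.fromSpec.isOpenEmbedding.injective
      rw [← Scheme.Hom.comp_apply, IsAffineOpen.SpecMap_appLE_fromSpec k hV'' hO hOle,
        Scheme.Hom.comp_apply, hw']
    have hff : (k.appLE (V.basicOpen g) _ hOle).hom.FaithfullyFlat :=
      RingHom.FaithfullyFlat.iff_flat_and_comap_surjective.2 ⟨hflat, hsurj⟩
    have : IsNoetherianRing Γ(W, W.basicOpen (k.appLE V' O' hO'le g)) :=
      IsLocallyNoetherian.component_noetherian ⟨_, hO⟩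
    exact ⟨⟨V.basicOpen g, hV''⟩, hg2, isNoetherianRing_of_faithfullyFlat _ hff⟩
  choose U hU1 hU2 using key
  refine isLocallyNoetherian_of_affine_cover (S := U) ?_ hU2
  rw [eq_top_iff]
  intro v _
  exact Opens.mem_iSup.2 ⟨v, hU1 v⟩

variable {S : Scheme.{u}}

/-- The target of a flat surjective morphism locally of finite presentation with locally
Noetherian source is locally Noetherian. -/
theorem isLocNoethSp_of_flat_surjective_lfp {X Y : Sp S} (hY : IsAlgSpace Y)
    (f : X ⟶ Y) (hfp : LocP @LocallyOfFinitePresentation f) (hfl : LocP @Flat f)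
    (hs : IsSurjectiveMor f) (h : IsLocNoethSp X) : IsLocNoethSp Y := by
  obtain ⟨U₀, a₀, ha₀e, ha₀s, hU₀⟩ := h
  obtain ⟨V, q, hqe, hqs⟩ := hY.atlas
  have sq := IsPullback.of_hasPullback (a₀ ≫ f) q
  have hP : IsAlgSpace (pullback (a₀ ≫ f) q) :=
    isAlgSpace_of_isPullback hY.diag (IsAlgSpace.yon_obj U₀) (IsAlgSpace.yon_obj V) sq
  obtain ⟨W, w, hwe, hws⟩ := hP.atlas
  obtain ⟨c, hc⟩ := (yon S).map_surjective (w ≫ pullback.fst (a₀ ≫ f) q)
  obtain ⟨k, hk⟩ := (yon S).map_surjective (w ≫ pullback.snd (a₀ ≫ f) q)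
  have hfst_e : RepWith @Etale (pullback.fst (a₀ ≫ f) q) := repWith_fst_of_isPullback _ sq hqe
  have hce : Etale c.left := (repWith_yon_map_iff _ _).1 (by
    rw [hc]
    exact repWith_comp _ hwe hfst_e)
  haveI : IsLocallyNoetherian U₀.left := hU₀
  haveI : IsLocallyNoetherian W.left := LocallyOfFiniteType.isLocallyNoetherian c.left
  have hcomm : ((yon S).map c ≫ a₀) ≫ f = (yon S).map k ≫ q := by
    rw [hc, hk, Category.assoc, Category.assoc, Category.assoc, ← pullback.condition]
  have hae : RepWith @Etale ((yon S).map c ≫ a₀) :=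
    repWith_comp _ ((repWith_yon_map_iff _ _).2 hce) ha₀e
  haveI hkfl : Flat k.left := hfl _ q k hae hqe hcomm
  haveI hkfp : LocallyOfFinitePresentation k.left := hfp _ q k hae hqe hcomm
  haveI hksurj : Surjective k.left := by
    refine ⟨fun v => ?_⟩
    obtain ⟨x, hx⟩ := hs (Points.ofPt q v)
    obtain ⟨u₀, rfl⟩ := ofPt_surjective a₀ ha₀s x
    obtain ⟨z, hz1, hz2⟩ := exists_of_isPullback sq (Points.ofScheme U₀ u₀) (Points.ofScheme V v)
      (by
        rw [Points.map_comp, ← Points.ofPt_eq_map_ofScheme, ← Points.ofPt_eq_map_ofScheme]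
        exact hx)
    obtain ⟨w₀, rfl⟩ := ofPt_surjective w hws z
    refine ⟨w₀, ?_⟩
    apply ofScheme_injective V
    rw [← hz2, Points.map_ofPt, ← hk, ofPt_yon_map]
  exact ⟨V, q, hqe, hqs, isLocallyNoetherian_of_flat_of_surjective k.left k.left.isOpenMap⟩

end Groth.Agent.Lib.AlgSpNoethDesc_helper7
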