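import Groth.Agent.Lib.AlgSpFieldFlat_helper7

/-!
# One point reduced algebraic spaces (helper7)
-/

set_option autoImplicit false
universe u
open CategoryTheory CategoryTheory.Limits AlgebraicGeometry Opposite

namespace Groth.Agent.Lib.AlgSpOnePt_helper7

open AlgSp Groth.Agent.Lib.AlgSpPoints_helper7 Groth.Agent.Lib.AlgSpTop_helper7
  Groth.Agent.Lib.AlgSpPullback_helper7 Groth.Agent.Lib.AlgSpBasic_helper7
  Groth.Agent.Lib.AlgSpLocP_helper7 Groth.Agent.Lib.AlgSpLocP4_helper7
  Groth.Agent.Lib.AlgSpLocP6_helper7 Groth.Agent.Lib.AlgSpLocP7_helper7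
  Groth.Agent.Lib.AlgSpEtale_helper7 Groth.Agent.Lib.AlgSpSrc_helper7
  Groth.Agent.Lib.AlgSpFieldFlat_helper7

variable {S : Scheme.{u}}

/-- The canonical morphism from the spectrum of a local ring of a scheme is flat. -/
theorem flat_fromSpecStalk (X : Scheme.{u}) (x : X) : Flat (X.fromSpecStalk x) := by
  obtain ⟨_, ⟨U, hU, rfl⟩, hxU, -⟩ :=
    X.isBasis_affineOpens.exists_subset_of_mem_open (Set.mem_univ x) isOpen_univ
  rw [← hU.fromSpecStalk_eq_fromSpecStalk hxU]
  dsimp [IsAffineOpen.fromSpecStalk]
  have : Flat (Spec.map (X.presheaf.germ U x hxU)) := by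
    rw [HasRingHomProperty.Spec_iff (P := @Flat)]
    letI : Algebra Γ(X, U) (X.presheaf.stalk x) := (X.presheaf.germ U x hxU).hom.toAlgebra
    haveI := hU.isLocalization_stalk ⟨x, hxU⟩
    exact IsLocalization.flat (X.presheaf.stalk x) (hU.primeIdealOf ⟨x, hxU⟩).asIdeal.primeCompl
  infer_instance

/-- If the local ring at `x` is a field, the inclusion of the point `x` is flat. -/
theorem flat_fromSpecResidueField_of_isField (X : Scheme.{u}) (x : X)
    (h : IsField (X.presheaf.stalk x)) : Flat (X.fromSpecResidueField x) := by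
  have hbij : Function.Bijective (X.residue x).hom := by
    refine ⟨?_, X.residue_surjective x⟩
    rw [injective_iff_map_eq_zero]
    intro r hr
    have hm : IsLocalRing.maximalIdeal (X.presheaf.stalk x) = ⊥ :=
      IsLocalRing.isField_iff_maximalIdeal_eq.1 h
    have : r ∈ IsLocalRing.maximalIdeal (X.presheaf.stalk x) :=
      (IsLocalRing.residue_eq_zero_iff r).1 hr
    rw [hm] at this
    exact this
  have hiso : IsIso (X.residue x) :=
    (ConcreteCategory.isIso_iff_bijective (X.residue x)).2 hbij
  haveI := flat_fromSpecStalk X x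
  change Flat (Spec.map (X.residue x) ≫ X.fromSpecStalk x)
  infer_instance

/-- Reducedness descends along flat surjective morphisms (copied from helper4's `GeomBC`). -/
theorem isReduced_of_flat_surjective {Z' Z : Scheme.{u}} (q : Z' ⟶ Z) [Flat q] [Surjective q]
    [IsReduced Z'] : IsReduced Z := by
  haveI : ∀ x : Z, _root_.IsReduced (Z.presheaf.stalk x) := by
    intro x
    obtain ⟨x', rfl⟩ := q.surjective x
    have hinj : Function.Injective (q.stalkMap x').hom := by
      algebraize [(q.stalkMap x').hom]
      have : Module.FaithfullyFlat (Z.presheaf.stalk (q x')) (Z'.presheaf.stalk x') :=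
        @Module.FaithfullyFlat.of_flat_of_isLocalHom _ _ _ _ _ _ _
          (Flat.stalkMap q x') (q.toLRSHom.prop x')
      exact ‹RingHom.FaithfullyFlat _›.injective
    exact isReduced_of_injective (q.stalkMap x').hom hinj
  exact isReduced_of_isReduced_stalk Z

theorem locP_flat_yon_map_comp {Z : Sp S} (hZ : IsAlgSpace Z) {T U : Over S} (ι : T ⟶ U)
    (hι : Flat ι.left) (a : (yon S).obj U ⟶ Z) (hae : RepWith @Etale a) :
    LocP @Flat ((yon S).map ι ≫ a) := by
  have hE : ∀ ⦃A B : Scheme.{u}⦄ (g : A ⟶ B), Etale g → Flat g := fun A B g hg => inferInstance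
  have h1 : LocP @Flat ((yon S).map ι) :=
    locP_of_repWith @Flat hE _ ((repWith_yon_map_iff @Flat ι).2 hι)
  have h2 : LocP @Flat a :=
    locP_of_repWith @Flat hE a (repWith_mono (fun A B g hg => hE g hg) hae)
  exact locP_comp etLocal_flat (IsAlgSpace.yon_obj _) (IsAlgSpace.yon_obj _) hZ _ _ h1 h2

/-- A reduced algebraic space with exactly one point admits a flat surjective morphism from the
spectrum of a field. -/
theorem exists_flat_surjective_field {Z : Sp S} (hZ : IsAlgSpace Z)
    (hred : EtaleLocally (fun U => IsReduced U) Z) (hne : Nonempty (Points Z))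
    (hsub : Subsingleton (Points Z)) :
    ∃ (k : Type u) (_ : Field k) (str : Spec (CommRingCat.of k) ⟶ S)
      (p : (yon S).obj (Over.mk str) ⟶ Z), LocP @Flat p ∧ IsSurjectiveMor p := by
  obtain ⟨U, a, hae, has, hUred⟩ := hred
  haveI : IsReduced U.left := hUred
  obtain ⟨z₀⟩ := hne
  obtain ⟨u, -⟩ := ofPt_surjective a has z₀
  have hirr : IsIrreducible (irreducibleComponent u) := isIrreducible_irreducibleComponent
  obtain ⟨η, hη⟩ : ∃ η : ↥U.left, closure {η} = irreducibleComponent u := by
    obtain ⟨η, hη⟩ := QuasiSober.sober hirr isClosed_irreducibleComponent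
    exact ⟨η, hη.def⟩
  have hfield : IsField (U.left.presheaf.stalk η) :=
    isField_stalk_of_closure_mem_irreducibleComponents U.left η
      (hη ▸ irreducibleComponent_mem_irreducibleComponents u)
  have hfl : Flat (U.left.fromSpecResidueField η) :=
    flat_fromSpecResidueField_of_isField U.left η hfield
  obtain ⟨ι, hι⟩ : ∃ ι : Over.mk (U.left.fromSpecResidueField η ≫ U.hom) ⟶ U,
      ι.left = U.left.fromSpecResidueField η := ⟨Over.homMk _ rfl, rfl⟩
  refine ⟨↥(U.left.residueField η), inferInstance, U.left.fromSpecResidueField η ≫ U.hom,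
    (yon S).map ι ≫ a, locP_flat_yon_map_comp hZ ι (by rw [hι]; exact hfl) a hae, ?_⟩
  intro z
  exact ⟨Points.ofScheme _ (IsLocalRing.closedPoint _), Subsingleton.elim _ _⟩

/-- An algebraic space admitting a flat surjective morphism from the spectrum of a field is
reduced and has exactly one point. -/
theorem reduced_singleton_of_flat_surjective_field {Z : Sp S} (hZ : IsAlgSpace Z)
    {k : Type u} [Field k] (str : Spec (CommRingCat.of k) ⟶ S)
    (p : (yon S).obj (Over.mk str) ⟶ Z) (hpf : LocP @Flat p) (hps : IsSurjectiveMor p) :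
    EtaleLocally (fun U => IsReduced U) Z ∧ Nonempty (Points Z) ∧ Subsingleton (Points Z) := by
  have hsub := subsingleton_points_field str
  refine ⟨?_, ⟨Points.map p (Points.ofScheme _ (IsLocalRing.closedPoint k))⟩, ⟨?_⟩⟩
  · obtain ⟨U, a, hae, has⟩ := hZ.atlas
    refine ⟨U, a, hae, has, ?_⟩
    have sq := hae.rep.isPullback' p
    haveI hfl : Flat (hae.rep.fst' p).left :=
      hpf ((yon S).map (hae.rep.snd p)) a (hae.rep.fst' p)
        ((repWith_yon_map_iff @Etale _).2 (hae.property_snd p)) hae sq.w.symm
    haveI hsurj : Surjective (hae.rep.fst' p).left :=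
      surjective_left_of_isPullback sq.flip hps
    haveI het : Etale (hae.rep.snd p).left := hae.property_snd p
    haveI : IsReduced (hae.rep.pullback p).left := isReduced_of_etale_field (hae.rep.snd p).left
    exact isReduced_of_flat_surjective (hae.rep.fst' p).left
  · intro z z'
    obtain ⟨x, rfl⟩ := hps z
    obtain ⟨x', rfl⟩ := hps z'
    rw [Subsingleton.elim x x']

end Groth.Agent.Lib.AlgSpOnePt_helper7
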