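import Groth.Agent.Lib.EtaleReduced_helper7
import Groth.Agent.Lib.AlgSpNoethDesc_helper7
import Groth.Agent.Lib.AlgSpOnePt_helper7

/-!
# Reduced algebraic spaces (helper7)
-/

set_option autoImplicit false
universe u
open CategoryTheory CategoryTheory.Limits AlgebraicGeometry Opposite

namespace Groth.Agent.Lib.AlgSpReduced_helper7

open AlgSp Groth.Agent.Lib.AlgSpPoints_helper7 Groth.Agent.Lib.AlgSpTop_helper7
  Groth.Agent.Lib.AlgSpPullback_helper7 Groth.Agent.Lib.AlgSpBasic_helper7
  Groth.Agent.Lib.AlgSpLocP_helper7 Groth.Agent.Lib.AlgSpLocP4_helper7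
  Groth.Agent.Lib.AlgSpLocP6_helper7 Groth.Agent.Lib.AlgSpLocP7_helper7
  Groth.Agent.Lib.AlgSpEtale_helper7 Groth.Agent.Lib.AlgSpSrc_helper7
  Groth.Agent.Lib.AlgSpOnePt_helper7 Groth.Agent.Lib.EtaleReduced_helper7
  Groth.Agent.Lib.AlgSpQC_helper7

/-- The stalk maps of a flat morphism are injective. -/
theorem stalkMap_injective_of_flat {Z' Z : Scheme.{u}} (q : Z' ⟶ Z) [Flat q] (x' : ↥Z') :
    Function.Injective (q.stalkMap x').hom := by
  algebraize [(q.stalkMap x').hom]
  have : Module.FaithfullyFlat (Z.presheaf.stalk (q x')) (Z'.presheaf.stalk x') :=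
    @Module.FaithfullyFlat.of_flat_of_isLocalHom _ _ _ _ _ _ _
      (Flat.stalkMap q x') (q.toLRSHom.prop x')
  exact ‹RingHom.FaithfullyFlat _›.injective

/-- Reducedness of a local ring descends along flat morphisms. -/
theorem isReduced_stalk_of_flat {Z' Z : Scheme.{u}} (q : Z' ⟶ Z) [Flat q] (x' : ↥Z')
    (h : _root_.IsReduced ↥(Z'.presheaf.stalk x')) :
    _root_.IsReduced ↥(Z.presheaf.stalk (q x')) :=
  isReduced_of_injective (q.stalkMap x').hom (stalkMap_injective_of_flat q x')

/-- Reducedness of a local ring ascends along etale morphisms. -/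
theorem isReduced_stalk_of_etale {W U : Scheme.{u}} (g : W ⟶ U) [Etale g] (w : ↥W)
    (h : _root_.IsReduced ↥(U.presheaf.stalk (g w))) :
    _root_.IsReduced ↥(W.presheaf.stalk w) := by
  haveI : IsReduced (Spec (U.presheaf.stalk (g w))) := (affine_isReduced_iff _).2 h
  haveI : IsReduced (pullback g (U.fromSpecStalk (g w))) :=
    isReduced_of_etale_scheme (pullback.snd g (U.fromSpecStalk (g w)))
  obtain ⟨z, hz, -⟩ := Scheme.Pullback.exists_preimage_pullback (f := g)
    (g := U.fromSpecStalk (g w)) w (IsLocalRing.closedPoint _)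
    (Scheme.fromSpecStalk_closedPoint).symm
  haveI : Flat (U.fromSpecStalk (g w)) := flat_fromSpecStalk U (g w)
  have := isReduced_stalk_of_flat (pullback.fst g (U.fromSpecStalk (g w))) z inferInstance
  rwa [hz] at this

variable {S : Scheme.{u}}

/-- If `f : X ⟶ Y` is flat and surjective and `X` is reduced then every etale chart of `Y` is
reduced. -/
theorem isReduced_chart_of_flat_surjective {X Y : Sp S} (hY : IsAlgSpace Y)
    (f : X ⟶ Y) (hfl : LocP @Flat f) (hs : IsSurjectiveMor f) (h : EtaleLocally (fun U => IsReduced U) X)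
    {V : Over S} (q : (yon S).obj V ⟶ Y) (hqe : RepWith @Etale q) : IsReduced V.left := by
  obtain ⟨U₀, a₀, ha₀e, ha₀s, hU₀⟩ := h
  have sq := IsPullback.of_hasPullback (a₀ ≫ f) q
  have hP : IsAlgSpace (pullback (a₀ ≫ f) q) :=
    isAlgSpace_of_isPullback hY.diag (IsAlgSpace.yon_obj U₀) (IsAlgSpace.yon_obj V) sq
  obtain ⟨W, w, hwe, hws⟩ := hP.atlas
  obtain ⟨c, hc⟩ := (yon S).map_surjective (w ≫ pullback.fst (a₀ ≫ f) q)
  obtain ⟨k, hk⟩ := (yon S).map_surjective (w ≫ pullback.snd (a₀ ≫ f) q)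
  have hfst_e : RepWith @Etale (pullback.fst (a₀ ≫ f) q) := repWith_fst_of_isPullback _ sq hqe
  haveI hce : Etale c.left := (repWith_yon_map_iff _ _).1 (by
    rw [hc]
    exact repWith_comp _ hwe hfst_e)
  haveI : IsReduced U₀.left := hU₀
  haveI : IsReduced W.left := isReduced_of_etale_scheme c.left
  have hcomm : ((yon S).map c ≫ a₀) ≫ f = (yon S).map k ≫ q := by
    rw [hc, hk, Category.assoc, Category.assoc, Category.assoc, ← pullback.condition]
  have hae : RepWith @Etale ((yon S).map c ≫ a₀) :=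
    repWith_comp _ ((repWith_yon_map_iff _ _).2 hce) ha₀e
  haveI hkfl : Flat k.left := hfl _ q k hae hqe hcomm
  haveI hksurj : Surjective k.left := by
    refine ⟨fun v => ?_⟩
    obtain ⟨x, hx⟩ := hs (Points.ofPt q v)
    obtain ⟨u₀, rfl⟩ := ofPt_surjective a₀ ha₀s x
    obtain ⟨z, hz1, hz2⟩ := exists_of_isPullback sq (Points.ofScheme U₀ u₀) (Points.ofScheme V v)
      (by
        rw [Points.map_comp, ← Points.ofPt_eq_map_ofScheme, ← Points.ofPt_eq_map_ofScheme]
        exact hx)
    obtain ⟨w₀, rfl⟩ := ofPt_surjective w hws z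
    refine ⟨w₀, ?_⟩
    apply ofScheme_injective V
    rw [← hz2, Points.map_ofPt, ← hk, ofPt_yon_map]
  exact isReduced_of_flat_surjective k.left

/-- Every etale chart of a reduced algebraic space is reduced. -/
theorem isReduced_chart_of_isReducedSp {X : Sp S} (hX : IsAlgSpace X) (h : EtaleLocally (fun U => IsReduced U) X)
    {V : Over S} (q : (yon S).obj V ⟶ X) (hqe : RepWith @Etale q) : IsReduced V.left := by
  have hE : ∀ ⦃A B : Scheme.{u}⦄ (g : A ⟶ B), Etale g → Flat g := fun A B g hg => inferInstance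
  exact isReduced_chart_of_flat_surjective hX (𝟙 X)
    (locP_of_repWith @Flat hE _ ((RepWith @Flat).id_mem X)) (fun x => ⟨x, Points.map_id x⟩) h q hqe

/-- Reducedness descends along flat surjective morphisms of algebraic spaces. -/
theorem isReducedSp_of_flat_surjective {X Y : Sp S} (hY : IsAlgSpace Y)
    (f : X ⟶ Y) (hfl : LocP @Flat f) (hs : IsSurjectiveMor f) (h : EtaleLocally (fun U => IsReduced U) X) :
    EtaleLocally (fun U => IsReduced U) Y := by
  obtain ⟨V, q, hqe, hqs⟩ := hY.atlas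
  exact ⟨V, q, hqe, hqs, isReduced_chart_of_flat_surjective hY f hfl hs h q hqe⟩

end Groth.Agent.Lib.AlgSpReduced_helper7

namespace Groth.Agent.Lib.AlgSpReduced_helper7

open AlgSp Groth.Agent.Lib.AlgSpPoints_helper7 Groth.Agent.Lib.AlgSpTop_helper7
  Groth.Agent.Lib.AlgSpPullback_helper7 Groth.Agent.Lib.AlgSpBasic_helper7
  Groth.Agent.Lib.AlgSpLocP_helper7 Groth.Agent.Lib.AlgSpLocP4_helper7
  Groth.Agent.Lib.AlgSpLocP6_helper7 Groth.Agent.Lib.AlgSpLocP7_helper7
  Groth.Agent.Lib.AlgSpEtale_helper7 Groth.Agent.Lib.AlgSpSrc_helper7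
  Groth.Agent.Lib.AlgSpOnePt_helper7 Groth.Agent.Lib.EtaleReduced_helper7
  Groth.Agent.Lib.AlgSpQC_helper7

variable {S : Scheme.{u}}

/-- An algebraic space smooth over a reduced algebraic space is reduced. -/
theorem isReducedSp_of_smooth {X Y : Sp S} (hX : IsAlgSpace X) (hY : IsAlgSpace Y)
    (f : X ⟶ Y) (hf : LocP @Smooth f) (h : EtaleLocally (fun U => IsReduced U) Y) :
    EtaleLocally (fun U => IsReduced U) X := by
  obtain ⟨U, a, hae, has⟩ := hX.atlas
  obtain ⟨V, b, hbe, hbs, hV⟩ := h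
  have sq := IsPullback.of_hasPullback (a ≫ f) b
  have hP : IsAlgSpace (pullback (a ≫ f) b) :=
    isAlgSpace_of_isPullback hY.diag (IsAlgSpace.yon_obj U) (IsAlgSpace.yon_obj V) sq
  obtain ⟨W, w, hwe, hws⟩ := hP.atlas
  obtain ⟨c, hc⟩ := (yon S).map_surjective (w ≫ pullback.fst (a ≫ f) b)
  obtain ⟨k, hk⟩ := (yon S).map_surjective (w ≫ pullback.snd (a ≫ f) b)
  have hfst_e : RepWith @Etale (pullback.fst (a ≫ f) b) := repWith_fst_of_isPullback _ sq hbe
  have hfst_s : RepWith @Surjective (pullback.fst (a ≫ f) b) :=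
    repWith_fst_of_isPullback _ sq hbs
  haveI hce : Etale c.left := (repWith_yon_map_iff _ _).1 (by
    rw [hc]
    exact repWith_comp _ hwe hfst_e)
  haveI hcs : Surjective c.left := (repWith_yon_map_iff _ _).1 (by
    rw [hc]
    exact repWith_comp _ hws hfst_s)
  have hcomm : ((yon S).map c ≫ a) ≫ f = (yon S).map k ≫ b := by
    rw [hc, hk, Category.assoc, Category.assoc, Category.assoc, ← pullback.condition]
  have hae' : RepWith @Etale ((yon S).map c ≫ a) :=
    repWith_comp _ ((repWith_yon_map_iff _ _).2 hce) hae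
  haveI hksm : Smooth k.left := hf _ b k hae' hbe hcomm
  haveI : IsReduced V.left := hV
  haveI : IsReduced W.left := isReduced_of_smooth_scheme k.left
  exact ⟨U, a, hae, has, isReduced_of_flat_surjective c.left⟩

end Groth.Agent.Lib.AlgSpReduced_helper7
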