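import Mathlib
import Groth.Prelude.Def_AlgSpDec
import Groth.Agent.Lib.ResTrdeg1_helper8
import Groth.Agent.Lib.AlgSpReduced_helper7

universe u
open AlgebraicGeometry CategoryTheory CategoryTheory.Limits
open AlgSp
open Groth.Agent.Lib.AlgSpReduced_helper7 Groth.Agent.Lib.AlgSpPoints_helper7

namespace ResTrdegH8

variable {S : Scheme.{u}}

/-- Chart independence of the residue transcendence degree: two chart diagrams of `f` through the same
point give the same transcendence degree. -/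
theorem chart_indep {F G : Sp S} (f : F ⟶ G) {U V U' V' : Over S}
    (a : (yon S).obj U ⟶ F) (b : (yon S).obj V ⟶ G) (h : U ⟶ V) (u : ↥U.left)
    (a' : (yon S).obj U' ⟶ F) (b' : (yon S).obj V' ⟶ G) (h' : U' ⟶ V') (u' : ↥U'.left)
    (hae : RepWith @Etale a) (hbe : RepWith @Etale b)
    (ha'e : RepWith @Etale a') (hb'e : RepWith @Etale b')
    (comm : a ≫ f = (yon S).map h ≫ b) (comm' : a' ≫ f = (yon S).map h' ≫ b')
    (hpt : Points.ofPt a u = Points.ofPt a' u') :
    Dual3.resTrdeg h.left u = Dual3.resTrdeg h'.left u' := by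
  have sqW := hae.rep.isPullback' a'
  haveI e2 : Etale (hae.rep.snd a').left := hae.property_snd a'
  haveI e1 : Etale (hae.rep.fst' a').left := ha'e.property _ _ _ sqW.flip
  obtain ⟨w, hw1, hw2⟩ := exists_ofPt_eq_of_isPullback sqW u u' hpt
  have sqQ := hbe.rep.isPullback' b'
  haveI e4 : Etale (hbe.rep.snd b').left := hbe.property_snd b'
  haveI e3 : Etale (hbe.rep.fst' b').left := hb'e.property _ _ _ sqQ.flip
  have hi : (yon S).map (hae.rep.fst' a' ≫ h) ≫ b = (yon S).map (hae.rep.snd a' ≫ h') ≫ b' := by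
    rw [Functor.map_comp, Functor.map_comp, Category.assoc, Category.assoc, ← comm, ← comm',
      ← Category.assoc, ← Category.assoc, sqW.w]
  have m1 : hbe.rep.lift' _ _ hi ≫ hbe.rep.fst' b' = hae.rep.fst' a' ≫ h := hbe.rep.lift'_fst _ _ hi
  have m2 : hbe.rep.lift' _ _ hi ≫ hbe.rep.snd b' = hae.rep.snd a' ≫ h' := hbe.rep.lift'_snd _ _ hi
  have m1' : (hbe.rep.lift' _ _ hi).left ≫ (hbe.rep.fst' b').left = (hae.rep.fst' a').left ≫ h.left := by
    rw [← Over.comp_left, m1, Over.comp_left]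
  have m2' : (hbe.rep.lift' _ _ hi).left ≫ (hbe.rep.snd b').left = (hae.rep.snd a').left ≫ h'.left := by
    rw [← Over.comp_left, m2, Over.comp_left]
  calc Dual3.resTrdeg h.left u = Dual3.resTrdeg h.left ((hae.rep.fst' a').left w) := by rw [hw1]
    _ = Dual3.resTrdeg ((hae.rep.fst' a').left ≫ h.left) w := (resTrdeg_etale_comp _ _ _).symm
    _ = Dual3.resTrdeg ((hbe.rep.lift' _ _ hi).left ≫ (hbe.rep.fst' b').left) w :=
        resTrdeg_congr m1'.symm w
    _ = Dual3.resTrdeg (hbe.rep.lift' _ _ hi).left w := resTrdeg_comp_etale _ _ _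
    _ = Dual3.resTrdeg ((hbe.rep.lift' _ _ hi).left ≫ (hbe.rep.snd b').left) w :=
        (resTrdeg_comp_etale _ _ _).symm
    _ = Dual3.resTrdeg ((hae.rep.snd a').left ≫ h'.left) w := resTrdeg_congr m2' w
    _ = Dual3.resTrdeg h'.left ((hae.rep.snd a').left w) := resTrdeg_etale_comp _ _ _
    _ = Dual3.resTrdeg h'.left u' := by rw [hw2]

end ResTrdegH8

namespace ResTrdegH8

variable {S : Scheme.{u}}

/-- Given an étale chart `(U,a,u)` of `F` and an étale chart `(V',b',v')` of `G` through the image point,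
there is a chart diagram of `f` over them (with source étale over `U`). -/
theorem exists_chart_over {F G : Sp S} (f : F ⟶ G) {U : Over S} (a : (yon S).obj U ⟶ F)
    (hae : RepWith @Etale a) (u : ↥U.left) {V' : Over S} (b' : (yon S).obj V' ⟶ G)
    (hb'e : RepWith @Etale b') (v' : ↥V'.left)
    (hv' : Points.ofPt b' v' = Points.map f (Points.ofPt a u)) :
    ∃ (P : Over S) (p : P ⟶ U) (h'' : P ⟶ V') (w : ↥P.left),
      Etale p.left ∧ RepWith @Etale ((yon S).map p ≫ a) ∧
      ((yon S).map p ≫ a) ≫ f = (yon S).map h'' ≫ b' ∧ p.left w = u ∧ h''.left w = v' ∧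
      Points.ofPt ((yon S).map p ≫ a) w = Points.ofPt a u := by
  have sq := hb'e.rep.isPullback' (a ≫ f)
  haveI e2 : Etale (hb'e.rep.snd (a ≫ f)).left := hb'e.property_snd (a ≫ f)
  obtain ⟨w, hw1, hw2⟩ := exists_ofPt_eq_of_isPullback sq v' u (by rw [hv', Points.map_ofPt])
  refine ⟨_, hb'e.rep.snd (a ≫ f), hb'e.rep.fst' (a ≫ f), w, e2,
    (RepWith (S := S) @Etale).comp_mem _ _ ((repWith_yon_map_iff _ _).2 e2) hae, ?_, hw2, hw1, ?_⟩
  · rw [Category.assoc]
    exact sq.w.symm
  · rw [ofPt_comp, hw2]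

/-- Chart independence of the dimension of the local ring (as a coheight). -/
theorem coheight_chart_indep {F : Sp S} {U U' : Over S} (a : (yon S).obj U ⟶ F)
    (a' : (yon S).obj U' ⟶ F) (hae : RepWith @Etale a) (ha'e : RepWith @Etale a') (u : ↥U.left)
    (u' : ↥U'.left) (hpt : Points.ofPt a u = Points.ofPt a' u') :
    Order.coheight u = Order.coheight u' := by
  have sqW := hae.rep.isPullback' a'
  haveI e2 : Etale (hae.rep.snd a').left := hae.property_snd a'
  haveI e1 : Etale (hae.rep.fst' a').left := ha'e.property _ _ _ sqW.flip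
  obtain ⟨w, hw1, hw2⟩ := exists_ofPt_eq_of_isPullback sqW u u' hpt
  rw [← hw1, ← hw2, EtDimH8.coheight_eq_of_etale, EtDimH8.coheight_eq_of_etale]

theorem stalkDim_chart_indep {F : Sp S} {U U' : Over S} (a : (yon S).obj U ⟶ F)
    (a' : (yon S).obj U' ⟶ F) (hae : RepWith @Etale a) (ha'e : RepWith @Etale a') (u : ↥U.left)
    (u' : ↥U'.left) (hpt : Points.ofPt a u = Points.ofPt a' u') :
    ringKrullDim ↥(U.left.presheaf.stalk u) = ringKrullDim ↥(U'.left.presheaf.stalk u') := by
  rw [AlgebraicGeometry.ringKrullDim_stalk_eq_coheight,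
    AlgebraicGeometry.ringKrullDim_stalk_eq_coheight, coheight_chart_indep a a' hae ha'e u u' hpt]

end ResTrdegH8
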