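import Mathlib
import Groth.Prelude.Def_AlgSpDec
import Groth.Agent.Lib.ResTrdeg2_helper8

universe u
open AlgebraicGeometry CategoryTheory CategoryTheory.Limits
open AlgSp
open Groth.Agent.Lib.AlgSpReduced_helper7 Groth.Agent.Lib.AlgSpPoints_helper7

namespace ResTrdegH8

variable {S : Scheme.{u}}

/-- Every point of an algebraic space lies on an étale chart. -/
theorem exists_chart (X : AlgSp.Space S) (x : AlgSp.Points X.obj) :
    ∃ (U : Over S) (a : (yon S).obj U ⟶ X.obj) (u : ↥U.left), RepWith @Etale a ∧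
      Points.ofPt a u = x := by
  obtain ⟨U, a, hae, has⟩ := X.property.atlas
  obtain ⟨u, hu⟩ := ofPt_surjective a has x
  exact ⟨U, a, u, hae, hu⟩

/-- Every point of an algebraic space lies on a chart diagram for a given morphism. -/
theorem exists_chart_diagram {X Y : AlgSp.Space S} (f : X ⟶ Y) (x : AlgSp.Points X.obj) :
    ∃ (U V : Over S) (a : (yon S).obj U ⟶ X.obj) (b : (yon S).obj V ⟶ Y.obj) (h : U ⟶ V)
      (u : ↥U.left), RepWith @Etale a ∧ RepWith @Etale b ∧ a ≫ f.hom = (yon S).map h ≫ b ∧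
      Points.ofPt a u = x := by
  obtain ⟨U, a, u, hae, hu⟩ := exists_chart X x
  obtain ⟨V, b, v, hbe, hv⟩ := exists_chart Y (Points.map f.hom x)
  obtain ⟨P, p, h'', w, hp, hpa, cm, hw1, hw2, hwx⟩ :=
    exists_chart_over f.hom a hae u b hbe v (by rw [hv, hu])
  exact ⟨P, V, _, b, h'', w, hpa, hbe, cm, hwx.trans hu⟩

theorem exists_hasAtMor_resTrdeg {X Y : AlgSp.Space S} (f : X ⟶ Y) (x : AlgSp.Points X.obj) :
    ∃ s : Cardinal.{u}, HasAtMor (fun _ _ h u => Dual3.resTrdeg h u = s) f.hom x := by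
  obtain ⟨U, V, a, b, h, u, hae, hbe, cm, hu⟩ := exists_chart_diagram f x
  exact ⟨Dual3.resTrdeg h.left u, U, V, a, b, h, u, hae, hbe, cm, hu, rfl⟩

theorem hasAtMor_resTrdeg_unique {F G : Sp S} (f : F ⟶ G) (x : AlgSp.Points F) {s s' : Cardinal.{u}}
    (h1 : HasAtMor (fun _ _ h u => Dual3.resTrdeg h u = s) f x)
    (h2 : HasAtMor (fun _ _ h u => Dual3.resTrdeg h u = s') f x) : s = s' := by
  obtain ⟨U, V, a, b, h, u, hae, hbe, cm, hu, hs⟩ := h1
  obtain ⟨U', V', a', b', h', u', hae', hbe', cm', hu', hs'⟩ := h2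
  rw [← hs, ← hs']
  exact chart_indep f a b h u a' b' h' u' hae hbe hae' hbe' cm cm' (hu.trans hu'.symm)

end ResTrdegH8
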