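import Mathlib
import Groth.Prelude.Def_AlgSpDec
import Groth.Agent.Lib.ResTrdeg3_helper8
import Groth.Agent.Lib.FibCoh2_helper8

universe u
open AlgebraicGeometry CategoryTheory CategoryTheory.Limits
open AlgSp
open Groth.Agent.Lib.AlgSpReduced_helper7 Groth.Agent.Lib.AlgSpPoints_helper7

namespace ChartIndepH8

variable {S : Scheme.{u}}

/-- Generic chart independence: a quantity of pointed morphisms of schemes invariant under étale
precomposition and étale postcomposition takes the same value on any two chart diagrams through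
the same point. -/
theorem chart_indep_gen {β : Type*} (Φ : ∀ {U V : Scheme.{u}}, (U ⟶ V) → ↥U → β)
    (pre : ∀ {W U V : Scheme.{u}} (p : W ⟶ U) [Etale p] (h : U ⟶ V) (w : ↥W),
      Φ (p ≫ h) w = Φ h (p w))
    (post : ∀ {W V' V : Scheme.{u}} (k : W ⟶ V') (q : V' ⟶ V) [Etale q] (w : ↥W),
      Φ (k ≫ q) w = Φ k w)
    {F G : Sp S} (f : F ⟶ G) {U V U' V' : Over S}
    (a : (yon S).obj U ⟶ F) (b : (yon S).obj V ⟶ G) (h : U ⟶ V) (u : ↥U.left)
    (a' : (yon S).obj U' ⟶ F) (b' : (yon S).obj V' ⟶ G) (h' : U' ⟶ V') (u' : ↥U'.left)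
    (hae : RepWith @Etale a) (hbe : RepWith @Etale b)
    (ha'e : RepWith @Etale a') (hb'e : RepWith @Etale b')
    (comm : a ≫ f = (yon S).map h ≫ b) (comm' : a' ≫ f = (yon S).map h' ≫ b')
    (hpt : Points.ofPt a u = Points.ofPt a' u') :
    Φ h.left u = Φ h'.left u' := by
  have sqW := hae.rep.isPullback' a'
  haveI e2 : Etale (hae.rep.snd a').left := hae.property_snd a'
  haveI e1 : Etale (hae.rep.fst' a').left := ha'e.property _ _ _ sqW.flip
  obtain ⟨w, hw1, hw2⟩ := exists_ofPt_eq_of_isPullback sqW u u' hpt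
  have sqQ := hbe.rep.isPullback' b'
  haveI e4 : Etale (hbe.rep.snd b').left := hbe.property_snd b'
  haveI e3 : Etale (hbe.rep.fst' b').left := hb'e.property _ _ _ sqQ.flip
  have hi : (yon S).map (hae.rep.fst' a' ≫ h) ≫ b = (yon S).map (hae.rep.snd a' ≫ h') ≫ b' := by
    rw [Functor.map_comp, Functor.map_comp, Category.assoc, Category.assoc, ← comm, ← comm',
      ← Category.assoc, ← Category.assoc, sqW.w]
  have m1 : hbe.rep.lift' _ _ hi ≫ hbe.rep.fst' b' = hae.rep.fst' a' ≫ h := hbe.rep.lift'_fst _ _ hi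
  have m2 : hbe.rep.lift' _ _ hi ≫ hbe.rep.snd b' = hae.rep.snd a' ≫ h' := hbe.rep.lift'_snd _ _ hi
  have m1' : (hbe.rep.lift' _ _ hi).left ≫ (hbe.rep.fst' b').left = (hae.rep.fst' a').left ≫ h.left := by
    rw [← Over.comp_left, m1, Over.comp_left]
  have m2' : (hbe.rep.lift' _ _ hi).left ≫ (hbe.rep.snd b').left = (hae.rep.snd a').left ≫ h'.left := by
    rw [← Over.comp_left, m2, Over.comp_left]
  calc Φ h.left u = Φ h.left ((hae.rep.fst' a').left w) := by rw [hw1]
    _ = Φ ((hae.rep.fst' a').left ≫ h.left) w := (pre _ _ _).symm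
    _ = Φ ((hbe.rep.lift' _ _ hi).left ≫ (hbe.rep.fst' b').left) w := by rw [m1']
    _ = Φ (hbe.rep.lift' _ _ hi).left w := post _ _ _
    _ = Φ ((hbe.rep.lift' _ _ hi).left ≫ (hbe.rep.snd b').left) w := (post _ _ _).symm
    _ = Φ ((hae.rep.snd a').left ≫ h'.left) w := by rw [m2']
    _ = Φ h'.left ((hae.rep.snd a').left w) := pre _ _ _
    _ = Φ h'.left u' := by rw [hw2]

/-- Chart independence of the dimension of the local ring of the fibre. -/
theorem fibCoh_chart_indep {F G : Sp S} (f : F ⟶ G) {U V U' V' : Over S}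
    (a : (yon S).obj U ⟶ F) (b : (yon S).obj V ⟶ G) (h : U ⟶ V) (u : ↥U.left)
    (a' : (yon S).obj U' ⟶ F) (b' : (yon S).obj V' ⟶ G) (h' : U' ⟶ V') (u' : ↥U'.left)
    (hae : RepWith @Etale a) (hbe : RepWith @Etale b)
    (ha'e : RepWith @Etale a') (hb'e : RepWith @Etale b')
    (comm : a ≫ f = (yon S).map h ≫ b) (comm' : a' ≫ f = (yon S).map h' ≫ b')
    (hpt : Points.ofPt a u = Points.ofPt a' u') :
    FibCohH8.fibCoh h.left u = FibCohH8.fibCoh h'.left u' :=
  chart_indep_gen (fun h u => FibCohH8.fibCoh h u)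
    (fun p _ h w => FibCohH8.fibCoh_etale_comp p h w)
    (fun k q _ w => FibCohH8.fibCoh_comp_etale k q w)
    f a b h u a' b' h' u' hae hbe ha'e hb'e comm comm' hpt

/-- Chart independence of the relative dimension at a point, for morphisms locally of finite type. -/
theorem fibreDimAt_chart_indep {F G : Sp S} (f : F ⟶ G) (hf : LocP @LocallyOfFiniteType f)
    {U V U' V' : Over S}
    (a : (yon S).obj U ⟶ F) (b : (yon S).obj V ⟶ G) (h : U ⟶ V) (u : ↥U.left)
    (a' : (yon S).obj U' ⟶ F) (b' : (yon S).obj V' ⟶ G) (h' : U' ⟶ V') (u' : ↥U'.left)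
    (hae : RepWith @Etale a) (hbe : RepWith @Etale b)
    (ha'e : RepWith @Etale a') (hb'e : RepWith @Etale b')
    (comm : a ≫ f = (yon S).map h ≫ b) (comm' : a' ≫ f = (yon S).map h' ≫ b')
    (hpt : Points.ofPt a u = Points.ofPt a' u') :
    FlatMor.fibreDimAt h.left u = FlatMor.fibreDimAt h'.left u' := by
  haveI : LocallyOfFiniteType h.left := hf a b h hae hbe comm
  haveI : LocallyOfFiniteType h'.left := hf a' b' h' ha'e hb'e comm'
  rw [FibCohH8.fibreDimAt_eq, FibCohH8.fibreDimAt_eq,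
    fibCoh_chart_indep f a b h u a' b' h' u' hae hbe ha'e hb'e comm comm' hpt,
    ResTrdegH8.chart_indep f a b h u a' b' h' u' hae hbe ha'e hb'e comm comm' hpt]

end ChartIndepH8
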