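import Mathlib
import Groth.Prelude.Def_Flat
import Groth.Prelude.Def_Dual3
import Groth.Agent.Lib.FibCoh2_helper8
import Groth.Agent.Lib.QFCodim1_helper8
import Groth.Agent.Lib.ResTrdeg1_helper8

universe u
open AlgebraicGeometry CategoryTheory

namespace FibCohH8

theorem fibreDimAt_eq_zero_iff {U V : Scheme.{u}} (h : U ⟶ V) [LocallyOfFiniteType h] (u : U) :
    FlatMor.fibreDimAt h u = 0 ↔ fibCoh h u = 0 ∧ Dual3.resTrdeg h u = 0 := by
  rw [fibreDimAt_eq]
  obtain ⟨n, hn⟩ := Groth.Agent.ResQuot2H8.exists_trdeg_nat h u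
  have h3 : Dual3.resTrdeg h u = (n : Cardinal.{u}) := hn
  rw [h3, Cardinal.toENat_nat, ← WithBot.coe_add]
  constructor
  · intro H
    have H' : fibCoh h u + (n : ℕ∞) = 0 := by exact_mod_cast H
    rw [add_eq_zero] at H'
    refine ⟨H'.1, ?_⟩
    have : n = 0 := by exact_mod_cast H'.2
    rw [this]; rfl
  · rintro ⟨h1, h2⟩
    have : n = 0 := by exact_mod_cast h2
    rw [h1, this]
    rfl

theorem fibreDimAt_eq_zero_of_lqf {U V : Scheme.{u}} (h : U ⟶ V) [LocallyOfFiniteType h]
    [LocallyQuasiFinite h] (u : U) : FlatMor.fibreDimAt h u = 0 :=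
  (fibreDimAt_eq_zero_iff h u).mpr
    ⟨fibCoh_eq_zero_of_lqf h u, ResTrdegH8.resTrdeg_eq_zero_of_lqf h u⟩

/-- A point of relative dimension zero is isolated in its fibre. -/
theorem isOpen_singleton_asFiber_of_fibreDimAt_eq_zero {U V : Scheme.{u}} (h : U ⟶ V)
    [LocallyOfFiniteType h] (u : U) (H : FlatMor.fibreDimAt h u = 0) :
    IsOpen ({h.asFiber u} : Set ↥(h.fiber (h u))) := by
  obtain ⟨h1, h2⟩ := (fibreDimAt_eq_zero_iff h u).mp H
  haveI := Groth.Agent.FibChainH8.isLocallyNoetherian_fiber h (h u)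
  apply QFCodim1H8.isOpen_singleton_of_closed_of_maximal
  · intro w' hw'
    have hsp : (h.fiberι (h u)) (h.asFiber u) ⤳ (h.fiberι (h u)) w' :=
      (Groth.Agent.FibRes2H8.specializes_fiber_iff h (h u) _ _).mp hw'
    rw [Scheme.Hom.fiberι_asFiber] at hsp
    have := QFCodim1H8.closed_in_fibre_of_trdeg_eq_zero h u h2 ((h.fiberι (h u)) w')
      (Groth.Agent.FibRes2H8.fiberι_mem h (h u) w') hsp
    apply (h.fiberι (h u)).isEmbedding.injective
    rw [this, Scheme.Hom.fiberι_asFiber]
  · intro w' hw'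
    have hc : Order.coheight (h.asFiber u) = 0 := by
      have := stalk_fiber_eq_fibCoh h u
      rw [AlgebraicGeometry.ringKrullDim_stalk_eq_coheight, h1] at this
      exact_mod_cast this
    rw [Order.coheight_eq_zero] at hc
    have hle : h.asFiber u ≤ w' := hw'
    have hge : w' ≤ h.asFiber u := hc hle
    have hsp2 : h.asFiber u ⤳ w' := hge
    exact (hw'.antisymm hsp2).eq

/-- A morphism locally of finite type all of whose points have relative dimension zero is locally
quasi-finite. -/
theorem lqf_of_forall_fibreDimAt_eq_zero {U V : Scheme.{u}} (h : U ⟶ V) [LocallyOfFiniteType h]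
    (H : ∀ u : U, FlatMor.fibreDimAt h u = 0) : LocallyQuasiFinite h := by
  rw [locallyQuasiFinite_iff_isDiscrete_preimage_singleton]
  intro y
  rw [isDiscrete_iff_discreteTopology]
  haveI : DiscreteTopology ↥(h.fiber y) := by
    rw [discreteTopology_iff_isOpen_singleton]
    intro z
    have hy : h ((h.fiberι y) z) = y := Groth.Agent.FibRes2H8.fiberι_mem h y z
    generalize hu : (h.fiberι y) z = u at hy
    subst hy
    have hz : z = h.asFiber u := by
      apply (h.fiberι (h u)).isEmbedding.injective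
      rw [hu, Scheme.Hom.fiberι_asFiber]
    rw [hz]
    exact isOpen_singleton_asFiber_of_fibreDimAt_eq_zero h u (H u)
  exact DiscreteTopology.of_continuous_injective (h.fiberHomeo y).symm.continuous
    (h.fiberHomeo y).symm.injective

end FibCohH8
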