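import Mathlib
import Groth.Prelude.Def_AlgSpDec
import Groth.Agent.Lib.FibCoh8_helper8
import Groth.Agent.Lib.FibCoh3_helper8
import Groth.Agent.Lib.ChartIndep_helper8
import Groth.Agent.Lib.AlgSpOpenSub_helper7
import Groth.Agent.Lib.AlgSpPullback_helper7

/-! The locus where a morphism locally of finite type has relative dimension zero. -/

universe u
open AlgebraicGeometry CategoryTheory CategoryTheory.Limits
open AlgSp
open Groth.Agent.Lib.AlgSpReduced_helper7 Groth.Agent.Lib.AlgSpPoints_helper7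
  Groth.Agent.Lib.AlgSpPullback_helper7 Groth.Agent.Lib.AlgSpOpenSub_helper7

namespace LqfLocusH8

theorem fibreDimAt_eq_zero_iff_quasiFiniteAt {U V : Scheme.{u}} (h : U ⟶ V)
    [LocallyOfFiniteType h] (u : U) : FlatMor.fibreDimAt h u = 0 ↔ h.QuasiFiniteAt u := by
  constructor
  · intro H
    rw [Scheme.Hom.quasiFiniteAt_iff_isOpen_singleton_asFiber]
    exact FibCohH8.isOpen_singleton_asFiber_of_fibreDimAt_eq_zero h u H
  · intro H
    have hu : u ∈ h.quasiFiniteLocus := H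
    haveI : LocallyQuasiFinite (h.quasiFiniteLocus.ι ≫ h) := by
      rw [← Scheme.Hom.quasiFiniteLocus_eq_top_iff, Scheme.Hom.quasiFiniteLocus_comp]
      ext x
      simp
    have h1 := FibCohH8.fibreDimAt_etale_local h (h.quasiFiniteLocus.ι ≫ h) h.quasiFiniteLocus.ι
      (𝟙 V) (by simp) ⟨u, hu⟩
    have h2 := FibCohH8.fibreDimAt_eq_zero_of_lqf (h.quasiFiniteLocus.ι ≫ h) ⟨u, hu⟩
    rw [h2] at h1
    exact h1

theorem isOpen_setOf_fibreDimAt_eq_zero {U V : Scheme.{u}} (h : U ⟶ V)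
    [LocallyOfFiniteType h] : IsOpen {u : U | FlatMor.fibreDimAt h u = 0} := by
  have : {u : U | FlatMor.fibreDimAt h u = 0} = {u | h.QuasiFiniteAt u} := by
    ext u; exact fibreDimAt_eq_zero_iff_quasiFiniteAt h u
  rw [this]
  exact h.isOpen_quasiFiniteAt

/-- "quasi-finite at `u`" in the sense of an open neighbourhood, versus relative dimension `0`. -/
theorem exists_opens_lqf_iff {U V : Scheme.{u}} (h : U ⟶ V) [LocallyOfFiniteType h] (u : U) :
    (∃ W : U.Opens, u ∈ W ∧ LocallyQuasiFinite (W.ι ≫ h) ∧ LocallyOfFiniteType (W.ι ≫ h)) ↔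
      FlatMor.fibreDimAt h u = 0 := by
  constructor
  · rintro ⟨W, huW, h1, h2⟩
    have h3 := FibCohH8.fibreDimAt_etale_local h (W.ι ≫ h) W.ι (𝟙 V) (by simp) ⟨u, huW⟩
    rw [FibCohH8.fibreDimAt_eq_zero_of_lqf (W.ι ≫ h) ⟨u, huW⟩] at h3
    exact h3
  · intro H
    have hu : u ∈ h.quasiFiniteLocus := (fibreDimAt_eq_zero_iff_quasiFiniteAt h u).mp H
    refine ⟨h.quasiFiniteLocus, hu, ?_, inferInstance⟩
    rw [← Scheme.Hom.quasiFiniteLocus_eq_top_iff, Scheme.Hom.quasiFiniteLocus_comp]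
    ext x
    simp

/-- the same without assuming `h` locally of finite type globally -/
theorem fibreDimAt_eq_zero_of_exists_opens {U V : Scheme.{u}} (h : U ⟶ V) (u : U)
    (H : ∃ W : U.Opens, u ∈ W ∧ LocallyQuasiFinite (W.ι ≫ h) ∧ LocallyOfFiniteType (W.ι ≫ h)) :
    FlatMor.fibreDimAt h u = 0 := by
  obtain ⟨W, huW, h1, h2⟩ := H
  have h3 := FibCohH8.fibreDimAt_etale_local h (W.ι ≫ h) W.ι (𝟙 V) (by simp) ⟨u, huW⟩
  rw [FibCohH8.fibreDimAt_eq_zero_of_lqf (W.ι ≫ h) ⟨u, huW⟩] at h3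
  exact h3

variable {S : Scheme.{u}}

/-- The relative-dimension-zero locus. -/
def lqfLocus {X Y : AlgSp.Space S} (f : X ⟶ Y) : Set (Points X.obj) :=
  {x | HasAtMor (fun _ _ h u => FlatMor.fibreDimAt h u = 0) f.hom x}

theorem isOpen_lqfLocus {X Y : AlgSp.Space S} (f : X ⟶ Y)
    (hf : LocP @LocallyOfFiniteType f.hom) : IsOpen (lqfLocus f) := by
  rw [isOpen_iff_forall_mem_open]
  intro x hx
  obtain ⟨U, V, a, b, h, u, hae, hbe, comm, hu, hd⟩ := hx
  haveI : LocallyOfFiniteType h.left := hf a b h hae hbe comm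
  refine ⟨Points.ofPt a '' {u' : ↥U.left | FlatMor.fibreDimAt h.left u' = 0}, ?_,
    isOpenMap_ofPt_of_etale a hae _ (isOpen_setOf_fibreDimAt_eq_zero h.left), ⟨u, hd, hu⟩⟩
  rintro _ ⟨u', hu', rfl⟩
  exact ⟨U, V, a, b, h, u', hae, hbe, comm, rfl, hu'⟩

theorem hasAtMor_exists_opens_iff {X Y : AlgSp.Space S} (f : X ⟶ Y)
    (hf : LocP @LocallyOfFiniteType f.hom) (x : Points X.obj) :
    HasAtMor (fun U _ h u => ∃ W : U.Opens, u ∈ W ∧ LocallyQuasiFinite (W.ι ≫ h) ∧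
      LocallyOfFiniteType (W.ι ≫ h)) f.hom x ↔ x ∈ lqfLocus f := by
  constructor
  · rintro ⟨U, V, a, b, h, u, hae, hbe, comm, hu, hd⟩
    exact ⟨U, V, a, b, h, u, hae, hbe, comm, hu, fibreDimAt_eq_zero_of_exists_opens h.left u hd⟩
  · rintro ⟨U, V, a, b, h, u, hae, hbe, comm, hu, hd⟩
    haveI : LocallyOfFiniteType h.left := hf a b h hae hbe comm
    exact ⟨U, V, a, b, h, u, hae, hbe, comm, hu, (exists_opens_lqf_iff h.left u).mpr hd⟩

theorem exists_lqf_open {X Y : AlgSp.Space S} (f : X ⟶ Y)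
    (hf : LocP @LocallyOfFiniteType f.hom) :
    ∃ (X' : AlgSp.Space S) (j : X' ⟶ X), RepWith @IsOpenImmersion j.hom ∧
      Set.range (Points.map j.hom) = lqfLocus f ∧
      LocP (@LocallyQuasiFinite ⊓ @LocallyOfFiniteType) (j ≫ f).hom := by
  obtain ⟨X', j, hj, hrange⟩ := exists_openSubspace X (lqfLocus f) (isOpen_lqfLocus f hf)
  refine ⟨X', j, hj, hrange, ?_⟩
  intro U V a b h hae hbe comm
  have hje : RepWith @Etale j.hom :=
    repWith_mono (fun _ _ g (hg : IsOpenImmersion g) => (inferInstance : Etale g)) hj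
  have hae' : RepWith @Etale (a ≫ j.hom) := repWith_comp _ hae hje
  have comm' : (a ≫ j.hom) ≫ f.hom = (yon S).map h ≫ b := by
    rw [Category.assoc]; exact comm
  haveI : LocallyOfFiniteType h.left := hf (a ≫ j.hom) b h hae' hbe comm'
  refine ⟨?_, inferInstance⟩
  apply FibCohH8.lqf_of_forall_fibreDimAt_eq_zero
  intro u
  have hx : Points.ofPt (a ≫ j.hom) u ∈ lqfLocus f := by
    rw [← hrange, ← Points.map_ofPt]
    exact ⟨_, rfl⟩
  obtain ⟨U1, V1, a1, b1, h1, u1, hae1, hbe1, comm1, hu1, hd1⟩ := hx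
  rw [ChartIndepH8.fibreDimAt_chart_indep f.hom hf (a ≫ j.hom) b h u a1 b1 h1 u1 hae' hbe hae1 hbe1
    comm' comm1 hu1.symm]
  exact hd1

end LqfLocusH8
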