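import Mathlib
import Groth.Prelude.Def_Flat
import Groth.Agent.Lib.BCDimSch_helper8
import Groth.Agent.Lib.EtDim2_helper8

universe u
open AlgebraicGeometry CategoryTheory CategoryTheory.Limits

namespace TopDimLocH8

theorem coheight_le_localDim (U : Scheme.{u}) (u : U) :
    ((Order.coheight u : ℕ∞) : WithBot ℕ∞) ≤ FlatMor.localDim ↥U u := by
  unfold FlatMor.localDim
  refine le_iInf fun W => ?_
  rw [EtDimH8.topDim_open_eq_iSup]
  exact le_iSup (fun w : ↥(W.1 : Set ↥U) => ((Order.coheight (w : U) : ℕ∞) : WithBot ℕ∞)) ⟨u, W.2⟩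

theorem localDim_le_topDim (U : Scheme.{u}) (u : U) :
    FlatMor.localDim ↥U u ≤ topologicalKrullDim ↥U := by
  unfold FlatMor.localDim
  refine (iInf_le _ ⟨⊤, trivial⟩).trans ?_
  exact topologicalKrullDim_subspace_le _ _

theorem topDim_le_iff_forall_localDim (U : Scheme.{u}) (d : WithBot ℕ∞) :
    topologicalKrullDim ↥U ≤ d ↔ ∀ u : U, FlatMor.localDim ↥U u ≤ d := by
  constructor
  · intro h u
    exact (localDim_le_topDim U u).trans h
  · intro h
    rw [Groth.Agent.BCDimSchH8.dim_eq_iSup_coheight]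
    exact iSup_le fun u => (coheight_le_localDim U u).trans (h u)

theorem topDim_ne_bot (U : Scheme.{u}) (u : U) : topologicalKrullDim ↥U ≠ ⊥ := by
  intro h
  have h1 : ((Order.coheight u : ℕ∞) : WithBot ℕ∞) ≤ topologicalKrullDim ↥U := by
    rw [Groth.Agent.BCDimSchH8.dim_eq_iSup_coheight]
    exact le_iSup (fun x : U => ((Order.coheight x : ℕ∞) : WithBot ℕ∞)) u
  rw [h] at h1
  exact absurd h1 (by simp)

theorem topDim_eq_bot_of_isEmpty (U : Scheme.{u}) [IsEmpty U] : topologicalKrullDim ↥U = ⊥ := by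
  rw [Groth.Agent.BCDimSchH8.dim_eq_iSup_coheight]
  exact iSup_of_empty _

end TopDimLocH8
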