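import Mathlib
import Groth.Prelude.Def_Flat
import Groth.Agent.Lib.Chev1_helper8
import Groth.Agent.Lib.FieldExt3_helper8
import Groth.Agent.Lib.FieldBase_helper8
import Groth.Agent.Lib.TopDimLoc_helper8
import Groth.Agent.Lib.FibCoh7_helper8
import Groth.Agent.Lib.LqfLocus_helper8

/-! Chevalley semicontinuity: the affine core. -/

universe u
open AlgebraicGeometry CategoryTheory CategoryTheory.Limits TensorProduct

namespace ChevH8

theorem exists_preimage_of_isPullback {P X Y Z : Scheme.{u}} {fst : P ⟶ X} {snd : P ⟶ Y}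
    {f : X ⟶ Z} {g : Y ⟶ Z} (sq : IsPullback fst snd f g) (x : X) (y : Y) (h : f x = g y) :
    ∃ z : P, fst z = x ∧ snd z = y := by
  obtain ⟨w, hw1, hw2⟩ := Scheme.Pullback.exists_preimage_pullback x y h
  refine ⟨sq.isoPullback.inv w, ?_, ?_⟩
  · rw [← hw1, ← Scheme.Hom.comp_apply, sq.isoPullback_inv_fst]
  · rw [← hw2, ← Scheme.Hom.comp_apply, sq.isoPullback_inv_snd]

/-- the pullback square `Spec (k ⊗ B) → Spec B` over `Spec k → Spec A`. -/
theorem isPullback_spec_tensor (A k B : Type u) [CommRing A] [CommRing k] [CommRing B]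
    [Algebra A k] [Algebra A B] :
    IsPullback
      (Spec.map (CommRingCat.ofHom
        (Algebra.TensorProduct.includeRight (R := A) (A := k) (B := B)).toRingHom))
      (Spec.map (CommRingCat.ofHom
        (Algebra.TensorProduct.includeLeftRingHom (R := A) (A := k) (B := B))))
      (Spec.map (CommRingCat.ofHom (algebraMap A B)))
      (Spec.map (CommRingCat.ofHom (algebraMap A k))) :=
  (isPullback_SpecMap_of_isPushout _ _ _ _ (CommRingCat.isPushout_tensorProduct A k B)).flip

/-- every point of affine space over `A` has relative dimension at most `d`. -/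
theorem fibreDimAt_affineSpace_le (A : Type u) [CommRing A] (d : ℕ)
    (y : ↥(Spec (CommRingCat.of (MvPolynomial (Fin d) A)))) :
    FlatMor.fibreDimAt (Spec.map (CommRingCat.ofHom (algebraMap A (MvPolynomial (Fin d) A)))) y ≤
      (d : WithBot ℕ∞) := by
  set π := Spec.map (CommRingCat.ofHom (algebraMap A (MvPolynomial (Fin d) A))) with hπ
  let q : PrimeSpectrum A := π y
  let k := q.asIdeal.ResidueField
  have sq := isPullback_spec_tensor A k (MvPolynomial (Fin d) A)
  haveI : LocallyOfFiniteType π := by
    rw [hπ, HasRingHomProperty.Spec_iff (P := @LocallyOfFiniteType)]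
    exact RingHom.finiteType_algebraMap.mpr inferInstance
  have hpt : π y = (Spec.map (CommRingCat.ofHom (algebraMap A k)))
      (IsLocalRing.closedPoint k : PrimeSpectrum k) := by
    change q = PrimeSpectrum.comap (algebraMap A k) (IsLocalRing.closedPoint k)
    apply PrimeSpectrum.ext
    change q.asIdeal = Ideal.comap (algebraMap A k) (IsLocalRing.maximalIdeal k)
    rw [IsLocalRing.maximalIdeal_eq_bot, ← RingHom.ker_eq_comap_bot,
      Ideal.ker_algebraMap_residueField]
  obtain ⟨y', hy1, hy2⟩ := exists_preimage_of_isPullback sq y _ hpt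
  rw [← hy1, ← FieldExtH8.fibreDimAt_baseChange π _ _ _ sq y']
  haveI : Subsingleton ↥(Spec (CommRingCat.of k)) :=
    inferInstanceAs (Subsingleton (PrimeSpectrum k))
  rw [FieldBaseH8.fibreDimAt_to_field]
  refine (TopDimLocH8.localDim_le_topDim _ y').trans ?_
  change topologicalKrullDim (PrimeSpectrum (k ⊗[A] MvPolynomial (Fin d) A)) ≤ _
  rw [PrimeSpectrum.topologicalKrullDim_eq_ringKrullDim,
    ringKrullDim_eq_of_ringEquiv (MvPolynomial.algebraTensorAlgEquiv A k).toRingEquiv,
    MvPolynomial.ringKrullDim_of_isNoetherianRing, ringKrullDim_eq_zero_of_field]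
  simp

end ChevH8
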