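import Mathlib
import Groth.Prelude.Def_Flat
import Groth.Agent.Lib.Chev2_helper8

/-! Chevalley semicontinuity: the affine core, second part. -/

universe u
open AlgebraicGeometry CategoryTheory CategoryTheory.Limits TensorProduct

namespace ChevH8

/-- Affine core: if the fibre of `Spec B → Spec A` over `p` is nonempty of dimension `≤ n`, then
the relative dimension is `≤ n` on an open set containing the whole fibre over `p`. -/
theorem affine_core {A B : Type u} [CommRing A] [CommRing B] [Algebra A B]
    [Algebra.FiniteType A B] (p : Ideal A) [p.IsPrime] [Nontrivial (p.Fiber B)] (n : ℕ)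
    (hn : ringKrullDim (p.Fiber B) ≤ n) :
    ∃ Ω : Set ↥(Spec (CommRingCat.of B)), IsOpen Ω ∧
      (∀ x : ↥(Spec (CommRingCat.of B)),
        (Spec.map (CommRingCat.ofHom (algebraMap A B))) x = (⟨p, inferInstance⟩ : PrimeSpectrum A) →
          x ∈ Ω) ∧
      ∀ x ∈ Ω, FlatMor.fibreDimAt (Spec.map (CommRingCat.ofHom (algebraMap A B))) x ≤
        (n : WithBot ℕ∞) := by
  obtain ⟨d, b, hdim, hfin⟩ := exists_finite_param (A := A) (B := B) p
  have hdn : d ≤ n := by
    rw [hdim] at hn; exact_mod_cast hn
  set k := p.ResidueField with hk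
  let ψ : MvPolynomial (Fin d) A →ₐ[A] B := MvPolynomial.aeval b
  set f := Spec.map (CommRingCat.ofHom (algebraMap A B)) with hf
  set g := Spec.map (CommRingCat.ofHom ψ.toRingHom) with hg
  set π := Spec.map (CommRingCat.ofHom (algebraMap A (MvPolynomial (Fin d) A))) with hπ
  have hgπ : g ≫ π = f := by
    rw [hg, hπ, hf, ← Spec.map_comp, ← CommRingCat.ofHom_comp]
    congr 2
    exact ψ.comp_algebraMap
  haveI : LocallyOfFiniteType π := by
    rw [hπ, HasRingHomProperty.Spec_iff (P := @LocallyOfFiniteType)]
    exact RingHom.finiteType_algebraMap.mpr inferInstance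
  haveI : LocallyOfFiniteType g := by
    rw [hg, HasRingHomProperty.Spec_iff (P := @LocallyOfFiniteType)]
    have h1 : (algebraMap A B).FiniteType := RingHom.finiteType_algebraMap.mpr inferInstance
    have h2 : algebraMap A B = ψ.toRingHom.comp (algebraMap A (MvPolynomial (Fin d) A)) :=
      ψ.comp_algebraMap.symm
    rw [h2] at h1
    exact h1.of_comp_finiteType
  -- the base change of g to the residue field
  let g' := Spec.map (CommRingCat.ofHom
    (Algebra.TensorProduct.map (AlgHom.id k k) ψ).toRingHom)
  have sqB := isPullback_spec_tensor A k B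
  have sqR := isPullback_spec_tensor A k (MvPolynomial (Fin d) A)
  have sqG : IsPullback (Spec.map (CommRingCat.ofHom
        (Algebra.TensorProduct.includeRight (R := A) (A := k) (B := B)).toRingHom)) g' g
      (Spec.map (CommRingCat.ofHom (Algebra.TensorProduct.includeRight (R := A) (A := k)
        (B := MvPolynomial (Fin d) A)).toRingHom)) := by
    refine (IsPullback.of_right (h₁₂ := Spec.map (CommRingCat.ofHom
        (Algebra.TensorProduct.includeLeftRingHom (R := A) (A := k)
          (B := MvPolynomial (Fin d) A)))) (h₂₂ := π) ?_ ?_ sqR.flip).flip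
    · have e1 : g' ≫ Spec.map (CommRingCat.ofHom
          (Algebra.TensorProduct.includeLeftRingHom (R := A) (A := k)
            (B := MvPolynomial (Fin d) A))) =
          Spec.map (CommRingCat.ofHom
            (Algebra.TensorProduct.includeLeftRingHom (R := A) (A := k) (B := B))) := by
        rw [← Spec.map_comp, ← CommRingCat.ofHom_comp]
        congr 2
        ext x
        simp
      rw [e1, hgπ]
      exact sqB.flip
    · rw [hg, ← Spec.map_comp, ← Spec.map_comp, ← CommRingCat.ofHom_comp,
        ← CommRingCat.ofHom_comp]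
      congr 2
  haveI : IsFinite g' := by
    rw [IsFinite.SpecMap_iff]
    exact hfin
  refine ⟨{x | FlatMor.fibreDimAt g x = 0}, LqfLocusH8.isOpen_setOf_fibreDimAt_eq_zero g, ?_, ?_⟩
  · intro x hx
    have hpt : f x = (Spec.map (CommRingCat.ofHom (algebraMap A k)))
        (IsLocalRing.closedPoint k : PrimeSpectrum k) := by
      rw [hx]
      change (⟨p, inferInstance⟩ : PrimeSpectrum A) =
        PrimeSpectrum.comap (algebraMap A k) (IsLocalRing.closedPoint k)
      apply PrimeSpectrum.ext
      change p = Ideal.comap (algebraMap A k) (IsLocalRing.maximalIdeal k)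
      rw [IsLocalRing.maximalIdeal_eq_bot, ← RingHom.ker_eq_comap_bot,
        Ideal.ker_algebraMap_residueField]
    obtain ⟨x', hx1, -⟩ := exists_preimage_of_isPullback sqB x _ hpt
    show FlatMor.fibreDimAt g x = 0
    rw [← hx1, ← FieldExtH8.fibreDimAt_baseChange g _ _ g' sqG x']
    exact FibCohH8.fibreDimAt_eq_zero_of_lqf g' x'
  · intro x hx
    have hx0 : FlatMor.fibreDimAt g x = 0 := hx
    have h1 := (FibCohH8.fibreDimAt_comp g π x).1
    rw [hgπ, hx0, zero_add] at h1
    refine h1.trans ((fibreDimAt_affineSpace_le A d (g x)).trans ?_)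
    exact_mod_cast hdn

end ChevH8
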