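import Mathlib
import Groth.Prelude.Def_Flat
import Groth.Agent.Lib.Chev3_helper8

/-! Chevalley's theorem: upper semicontinuity of the fibre dimension on the source. -/

universe u
open AlgebraicGeometry CategoryTheory CategoryTheory.Limits TensorProduct

namespace ChevH8

theorem exists_opens_topDim_le_of_localDim_le {T : Type*} [TopologicalSpace T] (t : T)
    (c : WithBot ℕ∞) (h : FlatMor.localDim T t ≤ c) :
    ∃ U : TopologicalSpace.Opens T, t ∈ U ∧ topologicalKrullDim ↥(U : Set T) ≤ c := by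
  unfold FlatMor.localDim at h
  haveI : Nonempty {U : TopologicalSpace.Opens T // t ∈ U} := ⟨⟨⊤, trivial⟩⟩
  obtain ⟨U, hU⟩ := ciInf_mem
    (fun U : {U : TopologicalSpace.Opens T // t ∈ U} => topologicalKrullDim ↥(U.1 : Set T))
  have hU' : topologicalKrullDim ↥(U.1 : Set T) =
      ⨅ U : {U : TopologicalSpace.Opens T // t ∈ U}, topologicalKrullDim ↥(U.1 : Set T) := hU
  exact ⟨U.1, U.2, by rw [hU']; exact h⟩

theorem isOpen_fibreDimAt_le {X S : Scheme.{u}} (f : X ⟶ S) [LocallyOfFiniteType f] (n : ℕ) :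
    IsOpen {x : X | FlatMor.fibreDimAt f x ≤ (n : WithBot ℕ∞)} := by
  rw [isOpen_iff_forall_mem_open]
  intro x hx
  -- an open of the fibre of dimension ≤ n
  obtain ⟨Ω0, hzΩ0, hΩ0⟩ := exists_opens_topDim_le_of_localDim_le (f.asFiber x) _ hx
  obtain ⟨Ω1, hΩ1o, hΩ1⟩ := (f.fiberι (f x)).isEmbedding.isInducing.isOpen_iff.mp Ω0.2
  have hxΩ1 : x ∈ Ω1 := by
    have : f.asFiber x ∈ (f.fiberι (f x)) ⁻¹' Ω1 := by rw [hΩ1]; exact hzΩ0
    rw [Set.mem_preimage, Scheme.Hom.fiberι_asFiber] at this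
    exact this
  -- affine opens
  obtain ⟨_, ⟨V, hV0, rfl⟩, hsV, -⟩ :=
    S.isBasis_affineOpens.exists_subset_of_mem_open (Set.mem_univ (f x)) isOpen_univ
  have hV : IsAffineOpen V := hV0
  obtain ⟨_, ⟨X1, hX10, rfl⟩, hxX1, hX1sub⟩ :=
    X.isBasis_affineOpens.exists_subset_of_mem_open (a := x)
      (show x ∈ Ω1 ∩ (f ⁻¹ᵁ V : Set X) from ⟨hxΩ1, hsV⟩) (hΩ1o.inter (f ⁻¹ᵁ V).2)
  have hX1 : IsAffineOpen X1 := hX10
  have e : X1 ≤ f ⁻¹ᵁ V := fun y hy => (hX1sub hy).2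
  set φ := f.appLE V X1 e with hφ
  have comm : Spec.map φ ≫ hV.fromSpec = hX1.fromSpec ≫ f := hV.SpecMap_appLE_fromSpec f hX1 e
  letI : Algebra Γ(S, V) Γ(X, X1) := φ.hom.toAlgebra
  haveI : Algebra.FiniteType Γ(S, V) Γ(X, X1) :=
    HasRingHomProperty.appLE (P := @LocallyOfFiniteType) _ inferInstance ⟨V, hV0⟩ ⟨X1, hX10⟩ e
  have hSpec : Spec.map (CommRingCat.ofHom (algebraMap Γ(S, V) Γ(X, X1))) = Spec.map φ := rfl
  -- the points
  set p : PrimeSpectrum Γ(S, V) := hV.primeIdealOf ⟨f x, hsV⟩ with hp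
  have hbp : hV.fromSpec p = f x := hV.fromSpec_primeIdealOf ⟨f x, hsV⟩
  set q0 : PrimeSpectrum Γ(X, X1) := hX1.primeIdealOf ⟨x, hxX1⟩ with hq0
  have haq0 : hX1.fromSpec q0 = x := hX1.fromSpec_primeIdealOf ⟨x, hxX1⟩
  have hpt : ∀ q : ↥(Spec Γ(X, X1)), hV.fromSpec ((Spec.map φ) q) = f (hX1.fromSpec q) := fun q =>
    congrArg (fun k : Spec Γ(X, X1) ⟶ S => k q) comm
  have hinj : Function.Injective hV.fromSpec := hV.fromSpec.isOpenEmbedding.injective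
  have hq0p : (Spec.map φ) q0 = p := by
    apply hinj
    rw [hpt, haq0, hbp]
  -- the comparison map to Ω0
  have hmem : ∀ q : ↥(PrimeSpectrum.comap (algebraMap Γ(S, V) Γ(X, X1)) ⁻¹' {p}),
      hX1.fromSpec q.1 ∈ f ⁻¹' {f x} := by
    intro q
    have hq : (Spec.map φ) q.1 = p := q.2
    show f (hX1.fromSpec q.1) = f x
    rw [← hpt, hq, hbp]
  let j0 : ↥(PrimeSpectrum.comap (algebraMap Γ(S, V) Γ(X, X1)) ⁻¹' {p}) → ↥(f.fiber (f x)) :=
    fun q => (f.fiberHomeo (f x)).symm ⟨hX1.fromSpec q.1, hmem q⟩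
  have hj0 : ∀ q, f.fiberι (f x) (j0 q) = hX1.fromSpec q.1 := fun q =>
    f.fiberι_fiberHomeo_symm _ _
  have hj0mem : ∀ q, j0 q ∈ (Ω0 : Set ↥(f.fiber (f x))) := by
    intro q
    have h1 : hX1.fromSpec q.1 ∈ X1 := by
      have : hX1.fromSpec q.1 ∈ Set.range hX1.fromSpec := ⟨_, rfl⟩
      rw [hX1.range_fromSpec] at this
      exact this
    have h2 : f.fiberι (f x) (j0 q) ∈ Ω1 := by rw [hj0]; exact (hX1sub h1).1
    have h3 : j0 q ∈ (f.fiberι (f x)) ⁻¹' Ω1 := h2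
    rw [hΩ1] at h3
    exact h3
  let j : ↥(PrimeSpectrum.comap (algebraMap Γ(S, V) Γ(X, X1)) ⁻¹' {p}) →
      ↥(Ω0 : Set ↥(f.fiber (f x))) := fun q => ⟨j0 q, hj0mem q⟩
  let gg : ↥(Ω0 : Set ↥(f.fiber (f x))) → X := fun w => f.fiberι (f x) w.1
  have hgg : Topology.IsInducing gg :=
    (f.fiberι (f x)).isEmbedding.isInducing.comp Topology.IsInducing.subtypeVal
  have hcomp : gg ∘ j = (fun q => hX1.fromSpec q.1) := funext fun q => hj0 q
  have hcompInd : Topology.IsInducing (gg ∘ j) := by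
    rw [hcomp]
    exact hX1.fromSpec.isOpenEmbedding.isInducing.comp Topology.IsInducing.subtypeVal
  have hjcont : Continuous j := hgg.continuous_iff.mpr hcompInd.continuous
  have hjind : Topology.IsInducing j := Topology.IsInducing.of_comp hjcont hgg.continuous hcompInd
  have hdim : ringKrullDim (p.asIdeal.Fiber Γ(X, X1)) ≤ (n : WithBot ℕ∞) := by
    rw [← PrimeSpectrum.topologicalKrullDim_eq_ringKrullDim,
      ← IsHomeomorph.topologicalKrullDim_eq _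
        (PrimeSpectrum.preimageHomeomorphFiber Γ(S, V) Γ(X, X1) p).isHomeomorph]
    exact hjind.topologicalKrullDim_le.trans hΩ0
  haveI : Nontrivial (p.asIdeal.Fiber Γ(X, X1)) := by
    have : Nonempty (PrimeSpectrum (p.asIdeal.Fiber Γ(X, X1))) :=
      ⟨PrimeSpectrum.preimageHomeomorphFiber Γ(S, V) Γ(X, X1) p ⟨q0, hq0p⟩⟩
    exact (PrimeSpectrum.nonempty_iff_nontrivial).mp this
  obtain ⟨Ω', hΩ'o, hΩ'p, hΩ'd⟩ := affine_core (A := Γ(S, V)) (B := Γ(X, X1)) p.asIdeal n hdim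
  refine ⟨hX1.fromSpec '' Ω', ?_, hX1.fromSpec.isOpenEmbedding.isOpenMap _ hΩ'o,
    ⟨q0, hΩ'p q0 hq0p, haq0⟩⟩
  rintro _ ⟨q, hq, rfl⟩
  show FlatMor.fibreDimAt f (hX1.fromSpec q) ≤ (n : WithBot ℕ∞)
  rw [FibCohH8.fibreDimAt_etale_local f (Spec.map φ) hX1.fromSpec hV.fromSpec comm q]
  exact hΩ'd q hq

end ChevH8
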