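import Mathlib
import Groth.Agent.Lib.FibDim_helper8

/-! Ring lemma: if every minimal prime of `B` lies over a minimal prime of `A` and
`dim B/m_A B = dim B`, then `dim A = 0`. -/

open IsLocalRing

namespace DomRingH8

theorem maximalIdeal_mem_minimalPrimes {A B : Type*} [CommRing A] [CommRing B]
    [IsNoetherianRing A] [IsNoetherianRing B] [IsLocalRing A] [IsLocalRing B] [Algebra A B]
    [IsLocalHom (algebraMap A B)]
    (hB : ∀ q ∈ minimalPrimes B, q.comap (algebraMap A B) ∈ minimalPrimes A)
    (hdim : ringKrullDim (B ⧸ (maximalIdeal A).map (algebraMap A B)) = ringKrullDim B) :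
    maximalIdeal A ∈ minimalPrimes A := by
  by_contra hcon
  have hA : ∀ p ∈ minimalPrimes A, p ≠ maximalIdeal A := by
    intro p hp h; exact hcon (h ▸ hp)
  have hB' : ∀ q ∈ minimalPrimes B, q.comap (algebraMap A B) ≠ maximalIdeal A :=
    fun q hq => hA _ (hB q hq)
  obtain ⟨a, ham, -, haB⟩ := Groth.Agent.FibDim.exists_avoid hA hB'
  have h1 := Groth.Agent.FibDim.dim_quot_succ_le haB (Ideal.span {algebraMap A B a}) rfl
  have hle : Ideal.span {algebraMap A B a} ≤ (maximalIdeal A).map (algebraMap A B) := by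
    rw [Ideal.span_singleton_le_iff_mem]
    exact Ideal.mem_map_of_mem _ ham
  have h2 : ringKrullDim (B ⧸ (maximalIdeal A).map (algebraMap A B)) ≤
      ringKrullDim (B ⧸ Ideal.span {algebraMap A B a}) :=
    ringKrullDim_le_of_surjective (Ideal.Quotient.factor hle) (Ideal.Quotient.factor_surjective hle)
  rw [hdim] at h2
  have h3 : ringKrullDim B + 1 ≤ ringKrullDim B := (add_le_add_left h2 1).trans h1
  have hfin : ringKrullDim B < ⊤ := ringKrullDim_lt_top
  have hnn : (0 : WithBot ℕ∞) ≤ ringKrullDim B := ringKrullDim_nonneg_of_nontrivial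
  generalize ringKrullDim B = d at h3 hfin hnn
  induction d with
  | bot => simp at hnn
  | coe d =>
    induction d with
    | top => simp at hfin
    | coe d =>
      have : ((d + 1 : ℕ) : WithBot ℕ∞) ≤ ((d : ℕ) : WithBot ℕ∞) := by exact_mod_cast h3
      have : d + 1 ≤ d := by exact_mod_cast this
      omega

end DomRingH8
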