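import Mathlib

/-! Dimension of the closure of a point of a scheme is the height of the point in the
specialization order. -/

universe u

open AlgebraicGeometry CategoryTheory TopologicalSpace

namespace Groth.Agent.ClosHtH8

theorem topologicalKrullDim_closure_singleton (X : Scheme.{u}) (ξ : X) :
    topologicalKrullDim ↥(closure ({ξ} : Set X)) = Order.height ξ := by
  have hset : closure ({ξ} : Set X) = Set.Iic ξ := by
    ext y
    rw [← specializes_iff_mem_closure]
    rfl
  have hclosed : IsClosed (Set.Iic ξ : Set X) := hset ▸ isClosed_closure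
  rw [hset]
  have hemb : Topology.IsClosedEmbedding (Subtype.val : Set.Iic ξ → X) :=
    hclosed.isClosedEmbedding_subtypeVal
  haveI : QuasiSober (Set.Iic ξ) := hemb.quasiSober
  have h1 : topologicalKrullDim ↥(Set.Iic ξ) =
      @Order.krullDim (Set.Iic ξ) (specializationPreorder _) := by
    unfold topologicalKrullDim
    exact @Order.krullDim_eq_of_orderIso (TopologicalSpace.IrreducibleCloseds (Set.Iic ξ))
      (Set.Iic ξ) _ (specializationPreorder _) (irreducibleSetEquivPoints (α := Set.Iic ξ))
  rw [h1, Order.height_eq_krullDim_Iic]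
  refine @Order.krullDim_eq_of_orderIso _ _ (specializationPreorder _) _ ?_
  refine @RelIso.mk _ _ (@LE.le _ (specializationPreorder (Set.Iic ξ)).toLE) (· ≤ ·)
    (Equiv.refl _) ?_
  intro a b
  change (b : X) ⤳ (a : X) ↔ b ⤳ a
  exact (subtype_specializes_iff b a).symm

theorem topologicalKrullDim_eq_iSup_height (X : Scheme.{u}) :
    topologicalKrullDim X = ⨆ a : X, ((Order.height a : ℕ∞) : WithBot ℕ∞) := by
  have hdimX : topologicalKrullDim X = Order.krullDim X := by
    unfold topologicalKrullDim
    exact Order.krullDim_eq_of_orderIso (irreducibleSetEquivPoints (α := X))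
  rw [hdimX, Order.krullDim_eq_iSup_height]

end Groth.Agent.ClosHtH8
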