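import Mathlib
import Groth.Agent.Lib.FibChain_helper8
import Groth.Agent.Lib.FibStalkDim_helper8
import Groth.Agent.Lib.FibFlat_helper8
import Groth.Agent.Lib.ClosHt_helper8

/-! Flat morphisms: local dimension at points generic in their fibre; irreducible components
of schemes and their generic points. -/

universe u

open CategoryTheory CategoryTheory.Limits AlgebraicGeometry IsLocalRing

namespace Groth.Agent.FlatFibDimH8

variable {X Y : Scheme.{u}} (f : X ⟶ Y)

/-- Flat: if the local ring of the fibre at `x` has dimension zero then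
`dim O_{X,x} = dim O_{Y, f x}`. -/
theorem flat_stalk_dim_eq [IsLocallyNoetherian Y] [LocallyOfFiniteType f] [Flat f] (x : X)
    (h0 : ringKrullDim ((f.fiber (f.base x)).presheaf.stalk (f.asFiber x)) = 0) :
    ringKrullDim (X.presheaf.stalk x) = ringKrullDim (Y.presheaf.stalk (f.base x)) := by
  haveI : IsLocallyNoetherian X := LocallyOfFiniteType.isLocallyNoetherian f
  letI : Algebra (Y.presheaf.stalk (f.base x)) (X.presheaf.stalk x) := (f.stalkMap x).hom.toAlgebra
  haveI : IsLocalHom (algebraMap (Y.presheaf.stalk (f.base x)) (X.presheaf.stalk x)) :=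
    inferInstanceAs (IsLocalHom (f.stalkMap x).hom)
  haveI : Module.Flat (Y.presheaf.stalk (f.base x)) (X.presheaf.stalk x) := Flat.stalkMap f x
  have hyp : Groth.Agent.FibDim.Hyp (Y.presheaf.stalk (f.base x)) (X.presheaf.stalk x) := by
    apply Groth.Agent.FibDim.hyp_of_flat_module (Y.presheaf.stalk (f.base x))
      (X.presheaf.stalk x) (X.presheaf.stalk x)
    rw [Module.support_eq_zeroLocus, Module.annihilator_eq_bot.mpr inferInstance]
    simp
  have h := Groth.Agent.FibDim.dim_eq (Y.presheaf.stalk (f.base x)) (X.presheaf.stalk x) hyp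
  have h1 := Groth.Agent.FibStalkDimH8.dim_quot_le f x
  rw [h0] at h1
  have hnt : Nontrivial (X.presheaf.stalk x ⧸ Groth.Agent.FibStalkDimH8.fibIdeal f x) :=
    Groth.Agent.FibDim.nontrivial_quot (Groth.Agent.FibDim.map_le_maximalIdeal le_rfl)
  have h2 : ringKrullDim (X.presheaf.stalk x ⧸ Groth.Agent.FibStalkDimH8.fibIdeal f x) = 0 :=
    le_antisymm h1 ringKrullDim_nonneg_of_nontrivial
  change ringKrullDim (X.presheaf.stalk x) = ringKrullDim (Y.presheaf.stalk (f.base x)) +
    ringKrullDim (X.presheaf.stalk x ⧸ Groth.Agent.FibStalkDimH8.fibIdeal f x) at h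
  rw [h, h2, add_zero]

/-- Generic point of an irreducible component of a scheme. -/
theorem exists_generic_of_mem_irreducibleComponents (Z : Scheme.{u}) (T : Set Z)
    (hT : T ∈ irreducibleComponents Z) :
    ∃ z₀ : Z, T = closure {z₀} ∧ IsMax z₀ ∧
      topologicalKrullDim T = ((Order.height z₀ : ℕ∞) : WithBot ℕ∞) := by
  have hclosed : IsClosed T := isClosed_of_mem_irreducibleComponents T hT
  obtain ⟨z₀, hz₀⟩ := QuasiSober.sober hT.1 hclosed
  have hTeq : T = closure {z₀} := hz₀.def.symm
  refine ⟨z₀, hTeq, ?_, ?_⟩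
  · intro z' hz'
    have h1 : z' ⤳ z₀ := hz'
    have h2 : T ≤ closure ({z'} : Set Z) := by
      rw [hTeq]
      exact closure_minimal (Set.singleton_subset_iff.mpr h1.mem_closure) isClosed_closure
    have h3 : closure ({z'} : Set Z) ≤ T := hT.2 isIrreducible_singleton.closure h2
    have h4 : z' ∈ closure ({z₀} : Set Z) := hTeq ▸ h3 (subset_closure rfl)
    exact specializes_iff_mem_closure.mpr h4
  · rw [hTeq]
    exact Groth.Agent.ClosHtH8.topologicalKrullDim_closure_singleton Z z₀

/-- A nonempty scheme all of whose irreducible components have dimension `E` has dimension `E`. -/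
theorem topDim_eq_of_irreducibleComponents (Z : Scheme.{u}) [Nonempty Z] (E : ℕ)
    (h : ∀ T ∈ irreducibleComponents Z, topologicalKrullDim T = E) :
    topologicalKrullDim Z = E := by
  rw [Groth.Agent.ClosHtH8.topologicalKrullDim_eq_iSup_height]
  have key : ∀ z : Z, ∃ z₀ : Z, z ≤ z₀ ∧ ((Order.height z₀ : ℕ∞) : WithBot ℕ∞) = E := by
    intro z
    obtain ⟨z₀, hTeq, -, hdim⟩ := exists_generic_of_mem_irreducibleComponents Z
      (irreducibleComponent z) (irreducibleComponent_mem_irreducibleComponents z)
    refine ⟨z₀, ?_, ?_⟩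
    · have : z ∈ closure ({z₀} : Set Z) := hTeq ▸ mem_irreducibleComponent
      exact specializes_iff_mem_closure.mpr this
    · rw [← hdim]
      exact h _ (irreducibleComponent_mem_irreducibleComponents z)
  apply le_antisymm
  · refine iSup_le fun z => ?_
    obtain ⟨z₀, hle, hE⟩ := key z
    rw [← hE]
    exact_mod_cast WithBot.coe_le_coe.mpr (Order.height_mono hle)
  · obtain ⟨z⟩ := ‹Nonempty Z›
    obtain ⟨z₀, -, hE⟩ := key z
    rw [← hE]
    exact le_iSup (fun a : Z => ((Order.height a : ℕ∞) : WithBot ℕ∞)) z₀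

/-- transport of heights in fibres. -/
theorem height_fiber_eq [LocallyOfFiniteType f] (x' : X) (y : Y) (h : f.base x' = y)
    (z : f.fiber y) (hz : (f.fiberι y).base z = x') (n : ℕ)
    (hn : @Algebra.trdeg (Y.residueField (f.base x')) (X.residueField x') _ _
      (f.residueFieldMap x').hom.toAlgebra = n) :
    Order.height z = n := by
  subst h
  have : z = f.asFiber x' := by
    apply (f.fiberι (f.base x')).isEmbedding.injective
    rw [hz, Scheme.Hom.fiberι_asFiber]
  rw [this]
  obtain ⟨n', hn', hh⟩ := Groth.Agent.FibRes2H8.height_asFiber f x'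
  have hnn : n' = n := by
    have : ((n' : ℕ) : Cardinal) = ((n : ℕ) : Cardinal) := by rw [← hn', hn]
    exact_mod_cast this
  rw [hh, hnn]

end Groth.Agent.FlatFibDimH8
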