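import Mathlib
import Groth.Prelude.Def_Flat
import Groth.Agent.Lib.LqfLocus_helper8
import Groth.Agent.Lib.TopDimLoc_helper8
import Groth.Agent.Lib.QFCodim1_helper8
import Groth.Agent.Lib.FlatFibDim_helper8

/-! Fibres over codimension zero points. -/

universe u
open AlgebraicGeometry CategoryTheory CategoryTheory.Limits

namespace CodimZeroH8

/-- over a maximal point of the target the coheight in the fibre is the coheight. -/
theorem fibCoh_eq_coheight_of_isMax {U V : Scheme.{u}} (h : U ⟶ V) (u : U)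
    (hv : Order.coheight (h u) = 0) : FibCohH8.fibCoh h u = Order.coheight u := by
  unfold FibCohH8.fibCoh
  have key := Order.coheight_eq_of_strictMono (α := {u' : U // h u' = h u}) (β := U)
    Subtype.val (Subtype.strictMono_coe _) ?_ ⟨u, rfl⟩
  · exact key
  intro a b hab
  have hsp : b ⤳ (a : U) := hab.le
  have h1 : h b ⤳ h a.1 := hsp.map h.continuous
  have hmax : IsMax (h u) := Order.coheight_eq_zero.mp hv
  have h2 : h b = h u := by
    have hle : h u ≤ h b := by rw [← a.2]; exact h1
    have hge : h b ≤ h u := hmax hle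
    have e1 : h b ⤳ h u := hle
    have e2 : h u ⤳ h b := hge
    exact (e1.antisymm e2).eq
  exact ⟨⟨b, h2⟩, hab, rfl⟩

theorem coheight_eq_zero_of_fibreDimAt_eq_zero {U V : Scheme.{u}} (h : U ⟶ V)
    [LocallyOfFiniteType h] (u : U) (hv : Order.coheight (h u) = 0)
    (h0 : FlatMor.fibreDimAt h u = 0) : Order.coheight u = 0 := by
  rw [← fibCoh_eq_coheight_of_isMax h u hv]
  exact ((FibCohH8.fibreDimAt_eq_zero_iff h u).mp h0).1

theorem fibreDimAt_eq_zero_of_forall_coheight {U V : Scheme.{u}} (h : U ⟶ V) (v : V)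
    (hv : Order.coheight v = 0) (H : ∀ u' : U, h u' = v → Order.coheight u' = 0) (u : U)
    (hu : h u = v) : FlatMor.fibreDimAt h u = 0 := by
  subst hu
  have hcoh : ∀ z : h.fiber (h u), Order.coheight z = 0 := by
    intro z
    rw [FibCohH8.coheight_fiber_eq_fibCoh h (h u) z]
    have hz := Groth.Agent.FibRes2H8.fiberι_mem h (h u) z
    rw [fibCoh_eq_coheight_of_isMax h _ (by rw [hz]; exact hv)]
    exact H _ hz
  have hdim : topologicalKrullDim ↥(h.fiber (h u)) ≤ 0 := by
    rw [Groth.Agent.BCDimSchH8.dim_eq_iSup_coheight]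
    refine iSup_le fun z => ?_
    rw [hcoh z]; rfl
  apply le_antisymm
  · exact (TopDimLocH8.localDim_le_topDim _ _).trans hdim
  · refine le_trans ?_ (TopDimLocH8.coheight_le_localDim _ (h.asFiber u))
    exact_mod_cast bot_le

theorem exists_isMax_ge {U : Scheme.{u}} (u : U) : ∃ u0 : U, u0 ⤳ u ∧ Order.coheight u0 = 0 := by
  obtain ⟨z₀, hT, hmax, -⟩ := Groth.Agent.FlatFibDimH8.exists_generic_of_mem_irreducibleComponents U
    (irreducibleComponent u) (irreducibleComponent_mem_irreducibleComponents u)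
  refine ⟨z₀, ?_, Order.coheight_eq_zero.mpr hmax⟩
  rw [specializes_iff_mem_closure, ← hT]
  exact mem_irreducibleComponent

theorem coheight_eq_zero_of_forall_max {U V : Scheme.{u}} (h : U ⟶ V) [LocallyOfFiniteType h]
    (v : V) (hv : Order.coheight v = 0)
    (H : ∀ u' : U, h u' = v → Order.coheight u' = 0 → FlatMor.fibreDimAt h u' = 0) (u : U)
    (hu : h u = v) : Order.coheight u = 0 := by
  obtain ⟨u0, hsp, hu0⟩ := exists_isMax_ge u
  have hmax : IsMax v := Order.coheight_eq_zero.mp hv
  have h1 : h u0 ⤳ h u := hsp.map h.continuous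
  have hu0v : h u0 = v := by
    have hle : v ≤ h u0 := by rw [← hu]; exact h1
    have hge : h u0 ≤ v := hmax hle
    have e1 : h u0 ⤳ v := hle
    have e2 : v ⤳ h u0 := hge
    exact (e1.antisymm e2).eq
  have hqf : h.QuasiFiniteAt u0 :=
    (LqfLocusH8.fibreDimAt_eq_zero_iff_quasiFiniteAt h u0).mp (H u0 hu0v hu0)
  have := QFCodim1H8.closed_in_fibre_of_quasiFiniteAt h u0 hqf u (by rw [hu, hu0v]) hsp
  rw [this]; exact hu0

end CodimZeroH8
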