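import Mathlib
import Groth.Prelude.Def_Flat
import Groth.Agent.S9687
import Groth.Agent.Lib.FibCoh8_helper8
import Groth.Agent.Lib.FibCoh2_helper8
import Groth.Agent.Lib.FlatFibDim_helper8
import Groth.Agent.Lib.CodimZero_helper8
import Groth.Agent.Lib.SchFT_helper8

/-! Bounding the relative dimension at a point by the transcendence degrees at the generic points
of the fibre through it. -/

universe u
open AlgebraicGeometry CategoryTheory CategoryTheory.Limits

namespace FibGenH8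

/-- order theory: `coheight z + height z` is bounded by the heights of maximal elements above. -/
theorem coheight_add_height_le {α : Type*} [Preorder α] (z : α) (E : ℕ∞)
    (hex : ∀ a : α, z ≤ a → ∃ ζ, a ≤ ζ ∧ IsMax ζ)
    (H : ∀ ζ, z ≤ ζ → IsMax ζ → Order.height ζ ≤ E) :
    Order.coheight z + Order.height z ≤ E := by
  by_cases htop : Order.height z = ⊤
  · obtain ⟨ζ, hzζ, hζ⟩ := hex z le_rfl
    have h1 : Order.height z ≤ Order.height ζ := Order.height_mono hzζ
    have h2 := H ζ hzζ hζ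
    rw [htop] at h1
    have : E = ⊤ := top_le_iff.mp (h1.trans h2)
    rw [this]; exact le_top
  obtain ⟨k, hk⟩ := ENat.ne_top_iff_exists.mp htop
  rw [← hk]
  have hcancel : AddLECancellable (k : ℕ∞) := ENat.addLECancellable_of_ne_top (ENat.natCast_ne_top k)
  have hkE : (k : ℕ∞) ≤ E := by
    obtain ⟨ζ, hzζ, hζ⟩ := hex z le_rfl
    have h1 : Order.height z ≤ Order.height ζ := Order.height_mono hzζ
    rw [hk]
    exact h1.trans (H ζ hzζ hζ)
  rw [← hcancel.le_tsub_iff_right hkE, Order.coheight_le_iff']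
  intro p hp
  rw [hcancel.le_tsub_iff_right hkE]
  obtain ⟨q, hqlast, hqlen⟩ := Order.exists_series_of_height_eq_coe z hk.symm
  obtain ⟨ζ, hpζ, hζ⟩ := hex p.last (by rw [← hp]; exact LTSeries.head_le_last p)
  have hzζ : z ≤ ζ := by rw [← hp]; exact (LTSeries.head_le_last p).trans hpζ
  have h2 := H ζ hzζ hζ
  let r := q.smash p (by rw [hqlast, hp])
  have hr : r.last ≤ ζ := by
    have : r.last = p.last := RelSeries.last_smash _
    rw [this]; exact hpζ
  have h3 := Order.length_le_height hr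
  have hlen : r.length = q.length + p.length := rfl
  rw [hlen, hqlen] at h3
  refine le_trans ?_ (h3.trans h2)
  push_cast
  rw [add_comm]

theorem add_coheight_add_height_le {α : Type*} [Preorder α] (z : α) (k E : ℕ∞)
    (hex : ∀ a : α, z ≤ a → ∃ ζ, a ≤ ζ ∧ IsMax ζ)
    (H : ∀ ζ, z ≤ ζ → IsMax ζ → k + Order.height ζ ≤ E) :
    k + (Order.coheight z + Order.height z) ≤ E := by
  have h1 := coheight_add_height_le z (⨆ ζ : {ζ : α // z ≤ ζ ∧ IsMax ζ}, Order.height ζ.1) hex
    (fun ζ h1 h2 => le_iSup (fun ζ : {ζ : α // z ≤ ζ ∧ IsMax ζ} => Order.height ζ.1) ⟨ζ, h1, h2⟩)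
  haveI : Nonempty {ζ : α // z ≤ ζ ∧ IsMax ζ} := by
    obtain ⟨ζ, h1, h2⟩ := hex z le_rfl
    exact ⟨⟨ζ, h1, h2⟩⟩
  refine (add_le_add_right h1 k).trans ?_
  rw [ENat.add_iSup]
  exact iSup_le fun ζ => H ζ.1 ζ.2.1 ζ.2.2

variable {U V : Scheme.{u}} (h : U ⟶ V)

/-- The relative dimension at `u` is bounded by the transcendence degrees at the generic points of
the fibre which specialize to `u`. -/
theorem add_fibreDimAt_le_of_fibre_generic [LocallyOfFiniteType h] (u : U) (k E : ℕ∞)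
    (H : ∀ x' : U, h x' = h u → x' ⤳ u → (∀ x'' : U, h x'' = h u → x'' ⤳ x' → x'' = x') →
      k + Cardinal.toENat (Dual3.resTrdeg h x') ≤ E) :
    ((k : ℕ∞) : WithBot ℕ∞) + FlatMor.fibreDimAt h u ≤ ((E : ℕ∞) : WithBot ℕ∞) := by
  set Z := h.fiber (h u) with hZ
  set z : Z := h.asFiber u with hz
  have hιz : h.fiberι (h u) z = u := Scheme.Hom.fiberι_asFiber h u
  have hind : Topology.IsInducing (h.fiberι (h u)) := (h.fiberι (h u)).isEmbedding.isInducing
  have hheight : ∀ ζ : Z, (Order.height ζ : ℕ∞) =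
      Cardinal.toENat (Dual3.resTrdeg h (h.fiberι (h u) ζ)) := by
    intro ζ
    obtain ⟨m, hm⟩ := Groth.Agent.ResQuot2H8.exists_trdeg_nat h (h.fiberι (h u) ζ)
    have hht := Groth.Agent.FlatFibDimH8.height_fiber_eq h _ (h u)
      (Groth.Agent.FibRes2H8.fiberι_mem h (h u) ζ) ζ rfl m hm
    have hm' : Dual3.resTrdeg h (h.fiberι (h u) ζ) = m := hm
    rw [hht, hm', Cardinal.toENat_nat]
  have key : k + (Order.coheight z + Order.height z) ≤ E := by
    apply add_coheight_add_height_le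
    · intro a _
      obtain ⟨ζ, hsp, hζ⟩ := CodimZeroH8.exists_isMax_ge a
      exact ⟨ζ, hsp, Order.coheight_eq_zero.mp hζ⟩
    · intro ζ hzζ hζ
      rw [hheight ζ]
      have hsp : ζ ⤳ z := hzζ
      apply H
      · exact Groth.Agent.FibRes2H8.fiberι_mem h (h u) ζ
      · have hsp' := hind.specializes_iff.mpr hsp
        rw [hιz] at hsp'
        exact hsp'
      · intro x'' hx'' hx''sp
        have hx''r : x'' ∈ Set.range (h.fiberι (h u)) := by
          rw [Scheme.Hom.range_fiberι]; exact hx''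
        obtain ⟨ζ'', rfl⟩ := hx''r
        have h1 : ζ'' ⤳ ζ := hind.specializes_iff.mp hx''sp
        have h1' : ζ ≤ ζ'' := h1
        have h2 : ζ ⤳ ζ'' := hζ h1'
        rw [(h1.antisymm h2).eq]
  rw [FibCohH8.fibreDimAt_eq h u]
  have e1 : FibCohH8.fibCoh h u = Order.coheight z := by
    rw [FibCohH8.coheight_fiber_eq_fibCoh h (h u) z, hιz]
  have e2 : Cardinal.toENat (Dual3.resTrdeg h u) = Order.height z := by
    rw [hheight z, hιz]
  rw [e1, e2]
  exact_mod_cast key

theorem fibreDimAt_le_of_fibre_generic [LocallyOfFiniteType h] (u : U) (E : ℕ∞)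
    (H : ∀ x' : U, h x' = h u → x' ⤳ u → (∀ x'' : U, h x'' = h u → x'' ⤳ x' → x'' = x') →
      Cardinal.toENat (Dual3.resTrdeg h x') ≤ E) :
    FlatMor.fibreDimAt h u ≤ ((E : ℕ∞) : WithBot ℕ∞) := by
  have := add_fibreDimAt_le_of_fibre_generic h u 0 E (fun x' h1 h2 h3 => by
    rw [zero_add]; exact H x' h1 h2 h3)
  simpa using this

/-- The dimension inequality in `ℕ∞`-form. -/
theorem coheight_add_trdeg_le [IsLocallyNoetherian V] [LocallyOfFiniteType h] (x : U) (d : ℕ)
    (H : ∀ ξ : U, (∀ ξ' : U, ξ' ⤳ ξ → ξ' = ξ) → ξ ⤳ x → Dual3.resTrdeg h ξ ≤ d) :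
    Order.coheight x + Cardinal.toENat (Dual3.resTrdeg h x) ≤ Order.coheight (h x) + (d : ℕ∞) := by
  obtain ⟨n, hn⟩ := Groth.Agent.ResQuot2H8.exists_trdeg_nat h x
  have hn' : Dual3.resTrdeg h x = n := hn
  have key := Groth.Agent.S9687.result h x n d hn (by
    intro ξ hξ hsp
    rw [Groth.Agent.SchFTH8.closure_mem_irreducibleComponents_iff] at hξ
    exact H ξ hξ hsp)
  rw [AlgebraicGeometry.ringKrullDim_stalk_eq_coheight,
    AlgebraicGeometry.ringKrullDim_stalk_eq_coheight] at key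
  rw [hn', Cardinal.toENat_nat]
  have : ((Order.coheight x + (n : ℕ∞) : ℕ∞) : WithBot ℕ∞) ≤
      ((Order.coheight (h x) + (d : ℕ∞) : ℕ∞) : WithBot ℕ∞) := by
    push_cast
    exact key
  exact WithBot.coe_le_coe.mp this

end FibGenH8
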