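import Mathlib
import Groth.Prelude.Def_Flat
import Groth.Agent.Lib.FibGen_helper8
import Groth.Agent.Lib.Chev4_helper8
import Groth.Agent.Lib.FieldExt3_helper8
import Groth.Agent.Lib.TopDimLoc_helper8

/-! Local base change to `Spec O_{Y,y}` and relative dimension at maximal points. -/

universe u
open AlgebraicGeometry CategoryTheory CategoryTheory.Limits

namespace FibGenH8

/-- upper semicontinuity along specializations -/
theorem fibreDimAt_le_of_specializes {X Y : Scheme.{u}} (f : X ⟶ Y) [LocallyOfFiniteType f]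
    {η x : X} (hsp : η ⤳ x) : FlatMor.fibreDimAt f η ≤ FlatMor.fibreDimAt f x := by
  have h0 : ((Order.coheight (f.asFiber x) : ℕ∞) : WithBot ℕ∞) ≤ FlatMor.fibreDimAt f x :=
    TopDimLocH8.coheight_le_localDim (f.fiber (f x)) (f.asFiber x)
  generalize hc : FlatMor.fibreDimAt f x = c at h0
  induction c with
  | bot => exact absurd h0 (by simp)
  | coe a =>
    induction a with
    | top => exact le_top
    | coe m =>
      have hopen := ChevH8.isOpen_fibreDimAt_le f m
      have hxm : x ∈ {x' : X | FlatMor.fibreDimAt f x' ≤ (m : WithBot ℕ∞)} := by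
        rw [Set.mem_ofPred_eq, hc]; rfl
      exact hsp.mem_open hopen hxm

/-- at a maximal point the relative dimension is the transcendence degree -/
theorem fibreDimAt_of_isMax {X Y : Scheme.{u}} (f : X ⟶ Y) [LocallyOfFiniteType f] (ξ : X)
    (hξ : ∀ ξ' : X, ξ' ⤳ ξ → ξ' = ξ) :
    FlatMor.fibreDimAt f ξ = ((Cardinal.toENat (Dual3.resTrdeg f ξ) : ℕ∞) : WithBot ℕ∞) := by
  rw [FibCohH8.fibreDimAt_eq f ξ]
  have : FibCohH8.fibCoh f ξ = 0 := by
    unfold FibCohH8.fibCoh
    rw [Order.coheight_eq_zero]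
    rintro ⟨b, hb⟩ hle
    have hsp : b ⤳ ξ := hle
    have := hξ b hsp
    subst this
    exact le_refl _
  rw [this]
  simp

/-- Base change to the local scheme at `f x`. -/
theorem exists_local_baseChange {X Y : Scheme.{u}} (f : X ⟶ Y) [LocallyOfFiniteType f] (x : X) :
    ∃ (X' : Scheme.{u}) (g' : X' ⟶ X) (f' : X' ⟶ Spec (Y.presheaf.stalk (f x))) (x' : X'),
      LocallyOfFiniteType f' ∧ g' x' = x ∧
      (∀ ξ' : X', FlatMor.fibreDimAt f' ξ' = FlatMor.fibreDimAt f (g' ξ')) ∧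
      (∀ ξ' : X', (∀ ξ'' : X', ξ'' ⤳ ξ' → ξ'' = ξ') → ∀ ξ0 : X, ξ0 ⤳ g' ξ' → ξ0 = g' ξ') ∧
      (∀ a b : X', a ⤳ b → g' a ⤳ g' b) ∧
      (∀ a b : X', f' a = f' b → f (g' a) = f (g' b)) := by
  set j := Y.fromSpecStalk (f x) with hj
  have sq : IsPullback (pullback.fst f j) (pullback.snd f j) f j := IsPullback.of_hasPullback f j
  have hclosed : j (IsLocalRing.closedPoint _) = f x := Scheme.fromSpecStalk_closedPoint
  have hrange : Set.range j = {y' | y' ⤳ f x} := Scheme.range_fromSpecStalk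
  obtain ⟨x', hx'1, hx'2⟩ := Scheme.Pullback.exists_preimage_pullback (f := f) (g := j) x
    (IsLocalRing.closedPoint _) hclosed.symm
  have hcomm : ∀ a : ↥(pullback f j), f (pullback.fst f j a) = j (pullback.snd f j a) := fun a =>
    congrArg (fun k : pullback f j ⟶ Y => k a) sq.w
  haveI : IsPreimmersion (pullback.fst f j) := MorphismProperty.pullback_fst f j inferInstance
  have hemb : Topology.IsEmbedding (pullback.fst f j) := (pullback.fst f j).isEmbedding
  refine ⟨pullback f j, pullback.fst f j, pullback.snd f j, x', inferInstance, hx'1, ?_, ?_, ?_, ?_⟩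
  · intro ξ'
    exact FieldExtH8.fibreDimAt_baseChange f j _ _ sq ξ'
  · intro ξ' hξ' ξ0 hξ0
    have h1 : f ξ0 ⤳ j (pullback.snd f j ξ') := by
      rw [← hcomm]; exact hξ0.map f.continuous
    have h2 : j (pullback.snd f j ξ') ⤳ f x := by
      have : j (pullback.snd f j ξ') ∈ Set.range j := ⟨_, rfl⟩
      rw [hrange] at this
      exact this
    have h3 : f ξ0 ∈ Set.range j := by
      rw [hrange]
      exact h1.trans h2
    have h4 : ξ0 ∈ Set.range (pullback.fst f j) := by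
      rw [Scheme.Pullback.range_fst]; exact h3
    obtain ⟨ξ0', rfl⟩ := h4
    have h5 : ξ0' ⤳ ξ' := hemb.isInducing.specializes_iff.mp hξ0
    rw [hξ' ξ0' h5]
  · intro a b hab
    exact hab.map (pullback.fst f j).continuous
  · intro a b hab
    rw [hcomm, hcomm, hab]

end FibGenH8

namespace FibGenH8

variable {U V : Scheme.{u}} (h : U ⟶ V)

/-- bound at the generic points of `U` from the relative dimension there -/
theorem trdeg_le_of_fibreDimAt_isMax [LocallyOfFiniteType h] (u : U) (d : ℕ)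
    (Hgen : ∀ ξ : U, (∀ ξ' : U, ξ' ⤳ ξ → ξ' = ξ) → ξ ⤳ u → FlatMor.fibreDimAt h ξ = d)
    (ξ : U) (hξ : ∀ ξ' : U, ξ' ⤳ ξ → ξ' = ξ) (hsp : ξ ⤳ u) :
    Cardinal.toENat (Dual3.resTrdeg h ξ) = (d : ℕ∞) := by
  have h1 := fibreDimAt_of_isMax h ξ hξ
  rw [Hgen ξ hξ hsp] at h1
  have : ((d : ℕ∞) : WithBot ℕ∞) = ((Cardinal.toENat (Dual3.resTrdeg h ξ) : ℕ∞) : WithBot ℕ∞) := h1
  exact (WithBot.coe_inj.mp this).symm

theorem resTrdeg_le_of_toENat_le [LocallyOfFiniteType h] (ξ : U) (d : ℕ)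
    (H : Cardinal.toENat (Dual3.resTrdeg h ξ) ≤ (d : ℕ∞)) : Dual3.resTrdeg h ξ ≤ d := by
  obtain ⟨n, hn⟩ := Groth.Agent.ResQuot2H8.exists_trdeg_nat h ξ
  have hn' : Dual3.resTrdeg h ξ = n := hn
  rw [hn', Cardinal.toENat_nat] at H
  rw [hn']
  have : n ≤ d := by exact_mod_cast H
  exact_mod_cast this

/-- codimension ≤ 1 case -/
theorem fibreDimAt_le_of_codim_le_one [IsLocallyNoetherian V] [LocallyOfFiniteType h] (u : U)
    (d : ℕ) (hv : Order.coheight (h u) ≤ 1)
    (Hgen : ∀ ξ : U, (∀ ξ' : U, ξ' ⤳ ξ → ξ' = ξ) → ξ ⤳ u → FlatMor.fibreDimAt h ξ = d) :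
    FlatMor.fibreDimAt h u ≤ (d : WithBot ℕ∞) := by
  have := fibreDimAt_le_of_fibre_generic h u (d : ℕ∞) ?_
  · exact_mod_cast this
  intro x1 hx1 hx1u hx1gen
  obtain ⟨us, hus, husmax⟩ := CodimZeroH8.exists_isMax_ge x1
  have husmax' : ∀ ξ' : U, ξ' ⤳ us → ξ' = us := by
    intro ξ' hξ'
    have hmax : IsMax us := Order.coheight_eq_zero.mp husmax
    have h1 : us ≤ ξ' := hξ'
    have h2 : us ⤳ ξ' := hmax h1
    exact (hξ'.antisymm h2).eq
  by_cases hcase : h us = h u
  · have : us = x1 := hx1gen us hcase hus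
    rw [← this]
    exact le_of_eq (trdeg_le_of_fibreDimAt_isMax h u d Hgen us husmax' (hus.trans hx1u))
  · have key := coheight_add_trdeg_le h x1 d (fun ξ hξ hsp =>
      resTrdeg_le_of_toENat_le h ξ d
        (le_of_eq (trdeg_le_of_fibreDimAt_isMax h u d Hgen ξ hξ (hsp.trans hx1u))))
    rw [hx1] at key
    have hlt : x1 < us := by
      refine lt_of_le_not_ge hus ?_
      intro hle
      have hsp' : x1 ⤳ us := hle
      have : us = x1 := (hus.antisymm hsp').eq
      exact hcase (by rw [this, hx1])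
    have h1 : 1 ≤ Order.coheight x1 := by
      have := Order.coheight_add_one_le hlt
      exact le_trans (by simp) this
    have h2 : (1 : ℕ∞) + Cardinal.toENat (Dual3.resTrdeg h x1) ≤ 1 + (d : ℕ∞) :=
      (add_le_add_left h1 _).trans (key.trans (add_le_add_left hv _))
    exact (ENat.add_le_add_iff_left (by simp)).mp h2

/-- the case where no generic point of `U` through `u` lies in the fibre -/
theorem one_add_fibreDimAt_le [IsLocallyNoetherian V] [LocallyOfFiniteType h] (u : U)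
    (d : ℕ)
    (Hgen : ∀ ξ : U, (∀ ξ' : U, ξ' ⤳ ξ → ξ' = ξ) → ξ ⤳ u →
      h ξ ≠ h u ∧ FlatMor.fibreDimAt h ξ = d) :
    ((1 : ℕ∞) : WithBot ℕ∞) + FlatMor.fibreDimAt h u ≤
      ((Order.coheight (h u) + (d : ℕ∞) : ℕ∞) : WithBot ℕ∞) := by
  apply add_fibreDimAt_le_of_fibre_generic h u 1
  intro x1 hx1 hx1u hx1gen
  obtain ⟨us, hus, husmax⟩ := CodimZeroH8.exists_isMax_ge x1
  have husmax' : ∀ ξ' : U, ξ' ⤳ us → ξ' = us := by
    intro ξ' hξ'
    have hmax : IsMax us := Order.coheight_eq_zero.mp husmax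
    have h1 : us ≤ ξ' := hξ'
    have h2 : us ⤳ ξ' := hmax h1
    exact (hξ'.antisymm h2).eq
  have hcase : h us ≠ h u := (Hgen us husmax' (hus.trans hx1u)).1
  have key := coheight_add_trdeg_le h x1 d (fun ξ hξ hsp =>
    resTrdeg_le_of_toENat_le h ξ d
      (le_of_eq (trdeg_le_of_fibreDimAt_isMax h u d (fun ξ h1 h2 => (Hgen ξ h1 h2).2) ξ hξ
        (hsp.trans hx1u))))
  rw [hx1] at key
  have hlt : x1 < us := by
    refine lt_of_le_not_ge hus ?_
    intro hle
    have hsp' : x1 ⤳ us := hle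
    have : us = x1 := (hus.antisymm hsp').eq
    exact hcase (by rw [this, hx1])
  have h1 : 1 ≤ Order.coheight x1 := by
    have := Order.coheight_add_one_le hlt
    exact le_trans (by simp) this
  exact (add_le_add_left h1 _).trans key

end FibGenH8
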