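import Mathlib
import Groth.Prelude.Def_Flat
import Groth.Agent.Lib.FlatFibDim_helper8
import Groth.Agent.Lib.LocDimSch_helper8
import Groth.Agent.Lib.FibRes2_helper8
import Groth.Agent.Lib.FieldExt3_helper8
import Groth.Agent.Lib.HtTrdeg_helper8

/-! Dimension of irreducible components of fibres via `fibreDimAt` at generic points. -/

universe u
open AlgebraicGeometry CategoryTheory CategoryTheory.Limits

namespace FibCompH8

/-- an irreducible component of a fibre has dimension `fibreDimAt` at its generic point. -/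
theorem dim_component_fiber {X Y : Scheme.{u}} (f : X ⟶ Y) [LocallyOfFiniteType f] (y : Y)
    (Z : Set ↥(f.fiber y)) (hZ : Z ∈ irreducibleComponents ↥(f.fiber y)) :
    ∃ z' : ↥(f.fiber y), Z = closure {z'} ∧
      topologicalKrullDim ↥Z = FlatMor.fibreDimAt f (f.fiberι y z') := by
  obtain ⟨z', hZz', hz'max, hdim⟩ :=
    Groth.Agent.FlatFibDimH8.exists_generic_of_mem_irreducibleComponents (f.fiber y) Z hZ
  refine ⟨z', hZz', ?_⟩
  rw [hdim]
  letI ov : (f.fiber y).Over (Spec (CommRingCat.of (Y.residueField y))) :=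
    ⟨f.fiberToSpecResidueField y⟩
  haveI : LocallyOfFiniteType ((f.fiber y) ↘ Spec (CommRingCat.of (Y.residueField y))) :=
    Groth.Agent.FibRes2H8.lft_fiber f y
  obtain ⟨N, hN, hhN⟩ := Groth.Agent.HtTrdegH8.height_eq_trdeg (Y.residueField y) (f.fiber y) z'
  have hb : ringKrullDim ((f.fiber y).presheaf.stalk z') = ((0 : ℕ) : WithBot ℕ∞) := by
    rw [AlgebraicGeometry.ringKrullDim_stalk_eq_coheight, Order.coheight_eq_zero.mpr hz'max]
    rfl
  have h3 := Groth.Agent.LocDimSchH8.localDim_scheme (Y.residueField y) (f.fiber y) z' N 0 hN hb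
  rw [FieldExtH8.localDim_fiber_eq_fibreDimAt f y z' _ rfl] at h3
  rw [hhN, h3]
  rfl

/-- transfer to the fibre as a subspace. -/
theorem dim_component_preimage {X Y : Scheme.{u}} (f : X ⟶ Y) [LocallyOfFiniteType f] (y : Y)
    (T : Set ↥(⇑f ⁻¹' {y})) (hT : T ∈ irreducibleComponents ↥(⇑f ⁻¹' {y})) :
    ∃ z : X, f z = y ∧ topologicalKrullDim ↥T = FlatMor.fibreDimAt f z := by
  set e := f.fiberHomeo y with he
  have hT' : (e ⁻¹' T) ∈ irreducibleComponents ↥(f.fiber y) := by
    apply preimage_mem_irreducibleComponents hT e.isOpenEmbedding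
    rw [e.range_coe, Set.inter_univ]
    exact hT.1.nonempty
  obtain ⟨z', -, hdim⟩ := dim_component_fiber f y _ hT'
  refine ⟨f.fiberι y z', Groth.Agent.FibRes2H8.fiberι_mem f y z', ?_⟩
  rw [← hdim]
  have h1 := (e.isEmbedding.homeomorphImage (e ⁻¹' T)).isHomeomorph.topologicalKrullDim_eq
  rw [h1]
  rw [Set.image_preimage_eq _ e.surjective]

theorem dim_preimage_eq {X Y : Scheme.{u}} (f : X ⟶ Y) (y : Y) :
    topologicalKrullDim ↥(⇑f ⁻¹' {y}) = topologicalKrullDim ↥(f.fiber y) :=
  ((f.fiberHomeo y).isHomeomorph.topologicalKrullDim_eq).symm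

end FibCompH8
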