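import Mathlib
import Groth.Prelude.Def_EGA43
import Groth.Agent.Lib.FibRes2_helper8

/-! If `f` is open at `x'` (source locally Noetherian) then generizations of `f x'` lift to
generizations of `x'`. -/

universe u
open AlgebraicGeometry CategoryTheory TopologicalSpace

namespace OpenAtGenH8

theorem exists_generalization_of_isOpenAt {X Y : Scheme.{u}} [IsLocallyNoetherian X] (f : X ⟶ Y)
    (x' : X) (h : EGA43.IsOpenAt f.base x') (y' : Y) (hy' : y' ⤳ f.base x') :
    ∃ x'' : X, x'' ⤳ x' ∧ f.base x'' = y' := by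
  obtain ⟨U₀, hU₀, hxU₀⟩ : ∃ U : X.Opens, IsAffineOpen U ∧ x' ∈ U := by
    obtain ⟨_, ⟨U, hU, rfl⟩, hxU, -⟩ :=
      X.isBasis_affineOpens.exists_subset_of_mem_open (Set.mem_univ x') isOpen_univ
    exact ⟨U, hU, hxU⟩
  haveI : IsNoetherianRing Γ(X, U₀) := IsLocallyNoetherian.component_noetherian ⟨U₀, hU₀⟩
  haveI hNS : NoetherianSpace ↥U₀ := noetherianSpace_of_isAffineOpen U₀ hU₀
  set j := f.fiberι y' with hj
  let V : Set ↥(f.fiber y') := j.base ⁻¹' (U₀ : Set X)
  have hVo : IsOpen V := U₀.2.preimage j.continuous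
  let g : V → U₀ := fun v => ⟨j.base v.1, v.2⟩
  have hg : Topology.IsInducing g := by
    have h1 : Topology.IsInducing (fun v : V => j.base v.1) :=
      j.isEmbedding.isInducing.comp Topology.IsInducing.subtypeVal
    have h2 : (Subtype.val : U₀ → X) ∘ g = fun v : V => j.base v.1 := rfl
    exact Topology.IsInducing.of_comp (by
      apply Continuous.subtype_mk
      exact j.continuous.comp continuous_subtype_val) continuous_subtype_val (h2 ▸ h1)
  haveI : NoetherianSpace V := hg.noetherianSpace
  let k : V → X := fun v => j.base v.1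
  have hk : Continuous k := j.continuous.comp continuous_subtype_val
  -- x' is in the closure of the image of V
  have hcl : x' ∈ closure (Set.range k) := by
    rw [mem_closure_iff_nhds]
    intro W hW
    have h1 : W ∩ (U₀ : Set X) ∈ nhds x' := Filter.inter_mem hW (U₀.2.mem_nhds hxU₀)
    have h2 := h _ h1
    have h3 : y' ∈ f.base '' (W ∩ (U₀ : Set X)) := mem_of_mem_nhds (hy' h2)
    obtain ⟨w, ⟨hwW, hwU⟩, hfw⟩ := h3
    have hw : w ∈ Set.range j.base := by
      rw [Scheme.Hom.range_fiberι]
      exact hfw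
    obtain ⟨v, rfl⟩ := hw
    exact ⟨j.base v, hwW, ⟨⟨v, hwU⟩, rfl⟩⟩
  have hfin := NoetherianSpace.finite_irreducibleComponents (α := V)
  have hrange : Set.range k = ⋃ C ∈ irreducibleComponents V, k '' C := by
    rw [← Set.image_univ, ← sUnion_irreducibleComponents, Set.image_sUnion, Set.sUnion_image]
  rw [hrange, hfin.closure_biUnion] at hcl
  simp only [Set.mem_iUnion] at hcl
  obtain ⟨C, hC, hxC⟩ := hcl
  haveI : QuasiSober V := hVo.isOpenEmbedding_subtypeVal.quasiSober
  have hCcl : IsClosed C := isClosed_of_mem_irreducibleComponents C hC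
  obtain ⟨v, hv⟩ := QuasiSober.sober hC.1 hCcl
  refine ⟨k v, ?_, Groth.Agent.FibRes2H8.fiberι_mem f y' v.1⟩
  rw [specializes_iff_mem_closure]
  have h5 : k '' C ⊆ closure {k v} := by
    rw [← hv.def]
    refine (image_closure_subset_closure_image hk).trans ?_
    rw [Set.image_singleton]
  exact closure_minimal h5 isClosed_closure hxC

end OpenAtGenH8
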