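import Mathlib
import Groth.Prelude.Def_EGA43
import Groth.Agent.Lib.OpenAtGen_helper8
import Groth.Agent.Lib.FibStalkDim_helper8
import Groth.Agent.Lib.CodimZero_helper8

/-! EGA IV 14.2.1: the dimension formula at points where `f` is open at the generic points of
the fibre components. -/

universe u
open AlgebraicGeometry CategoryTheory TopologicalSpace IsLocalRing

namespace OpenAtDimH8

open Groth.Agent.FibStalkDimH8

variable {X Y : Scheme.{u}} (f : X ⟶ Y) (x : X)

/-- a prime of `O_x` lying over the maximal ideal of `O_y` gives a point of the fibre. -/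
theorem map_fromSpecStalk (Q : Spec (X.presheaf.stalk x)) :
    f.base (X.fromSpecStalk x Q) =
      Y.fromSpecStalk (f.base x) ((Spec.map (f.stalkMap x)).base Q) := by
  have h1 : f.base (X.fromSpecStalk x Q) = (X.fromSpecStalk x ≫ f).base Q := rfl
  rw [h1, ← Scheme.SpecMap_stalkMap_fromSpecStalk]
  rfl

theorem exists_fromSpecStalk_eq {x' : X} (h : x' ⤳ x) :
    ∃ Q : Spec (X.presheaf.stalk x), X.fromSpecStalk x Q = x' := by
  have : x' ∈ Set.range (X.fromSpecStalk x) := by
    rw [Scheme.range_fromSpecStalk]; exact h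
  exact this

theorem fromSpecStalk_specializes_iff (Q Q' : Spec (X.presheaf.stalk x)) :
    X.fromSpecStalk x Q ⤳ X.fromSpecStalk x Q' ↔ Q.asIdeal ≤ Q'.asIdeal := by
  rw [(X.fromSpecStalk x).isEmbedding.isInducing.specializes_iff]
  exact (PrimeSpectrum.le_iff_specializes Q Q').symm

theorem comap_eq_of_map_eq (Q : Spec (X.presheaf.stalk x)) (P : Spec (Y.presheaf.stalk (f.base x)))
    (h : f.base (X.fromSpecStalk x Q) = Y.fromSpecStalk (f.base x) P) :
    Q.asIdeal.comap (f.stalkMap x).hom = P.asIdeal := by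
  rw [map_fromSpecStalk] at h
  have := (Y.fromSpecStalk (f.base x)).isEmbedding.injective h
  rw [← this]
  rfl

theorem fpt_surj (z : ↥(f.fiber (f.base x))) (hz : z ⤳ f.asFiber x) :
    ∃ P : PrimeSpectrum (X.presheaf.stalk x ⧸ fibIdeal f x), fpt f x P = z := by
  have h1 : (f.fiberι (f.base x)).base z ⤳ x := by
    have := hz.map (f.fiberι (f.base x)).continuous
    rwa [Scheme.Hom.fiberι_asFiber] at this
  obtain ⟨Q, hQ⟩ := exists_fromSpecStalk_eq x h1
  have h2 : f.base (X.fromSpecStalk x Q) = Y.fromSpecStalk (f.base x) (closedPoint _) := by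
    rw [hQ, Scheme.fromSpecStalk_closedPoint]
    exact Groth.Agent.FibRes2H8.fiberι_mem f (f.base x) z
  have h3 := comap_eq_of_map_eq f x Q _ h2
  have h4 : Q ∈ Set.range (PrimeSpectrum.comap (Ideal.Quotient.mk (fibIdeal f x))) := by
    rw [_root_.range_comap_of_surjective _ _ Ideal.Quotient.mk_surjective, Ideal.mk_ker]
    show fibIdeal f x ≤ Q.asIdeal
    rw [Ideal.map_le_iff_le_comap, h3]
    exact le_rfl
  obtain ⟨P, hP⟩ := h4
  refine ⟨P, ?_⟩
  apply (f.fiberι (f.base x)).isEmbedding.injective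
  rw [fiberι_fpt]
  unfold pt
  rw [hP, hQ]

theorem dim_quot_ge :
    ringKrullDim ((f.fiber (f.base x)).presheaf.stalk (f.asFiber x)) ≤
      ringKrullDim (X.presheaf.stalk x ⧸ fibIdeal f x) := by
  rw [ringKrullDim_stalk_eq_coheight, Order.coheight_eq_krullDim_Ici, ringKrullDim,
    ← Order.krullDim_orderDual (α := PrimeSpectrum (X.presheaf.stalk x ⧸ fibIdeal f x))]
  choose g hg using fun z : Set.Ici (f.asFiber x) => fpt_surj f x z.1 z.2
  let g' : Set.Ici (f.asFiber x) → (PrimeSpectrum (X.presheaf.stalk x ⧸ fibIdeal f x))ᵒᵈ :=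
    fun z => OrderDual.toDual (g z)
  refine Order.krullDim_le_of_strictMono g' ?_
  intro a b hab
  have h1 : b.1 ⤳ a.1 := hab.le
  have h2 : ¬ a.1 ⤳ b.1 := fun h => (not_le_of_gt hab) h
  rw [← hg a, ← hg b, fpt_specializes_iff] at h1 h2
  show g b < g a
  exact lt_of_le_not_ge h1 h2

theorem dim_quot_eq :
    ringKrullDim (X.presheaf.stalk x ⧸ fibIdeal f x) =
      ringKrullDim ((f.fiber (f.base x)).presheaf.stalk (f.asFiber x)) :=
  le_antisymm (dim_quot_le f x) (dim_quot_ge f x)

/-- The EGA hypothesis follows from openness at generic points of the fibre components. -/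
theorem hyp_of_isOpenAt [IsLocallyNoetherian X]
    (h : ∀ z : ↥(f.fiber (f.base x)), f.asFiber x ∈ closure {z} →
      (∀ z' : ↥(f.fiber (f.base x)), z ∈ closure {z'} → z' = z) →
      EGA43.IsOpenAt f.base ((f.fiberι (f.base x)).base z)) :
    letI : Algebra (Y.presheaf.stalk (f.base x)) (X.presheaf.stalk x) :=
      (f.stalkMap x).hom.toAlgebra
    Groth.Agent.FibDim.Hyp (Y.presheaf.stalk (f.base x)) (X.presheaf.stalk x) := by
  letI : Algebra (Y.presheaf.stalk (f.base x)) (X.presheaf.stalk x) :=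
    (f.stalkMap x).hom.toAlgebra
  intro p hp hpne q hq hcon
  haveI := hq.1.1
  have hmapeq : algebraMap (Y.presheaf.stalk (f.base x)) (X.presheaf.stalk x) =
      (f.stalkMap x).hom := rfl
  rw [hmapeq] at hq hcon
  set Q : Spec (X.presheaf.stalk x) := ⟨q, hq.1.1⟩ with hQ
  set x' := X.fromSpecStalk x Q with hx'
  have hx'x : x' ⤳ x := by
    have : x' ∈ Set.range (X.fromSpecStalk x) := ⟨Q, rfl⟩
    rwa [Scheme.range_fromSpecStalk] at this
  have hfx' : f.base x' = f.base x := by
    rw [hx', map_fromSpecStalk]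
    have : (Spec.map (f.stalkMap x)).base Q = closedPoint (Y.presheaf.stalk (f.base x)) := by
      apply PrimeSpectrum.ext
      exact hcon
    rw [this, Scheme.fromSpecStalk_closedPoint]
  set z' : ↥(f.fiber (f.base x)) := (f.fiberHomeo (f.base x)).symm ⟨x', hfx'⟩ with hz'
  have hιz' : (f.fiberι (f.base x)).base z' = x' := f.fiberι_fiberHomeo_symm _ _
  have hind := (f.fiberι (f.base x)).isEmbedding.isInducing
  have hz'x : z' ⤳ f.asFiber x := by
    rw [← hind.specializes_iff, hιz', Scheme.Hom.fiberι_asFiber]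
    exact hx'x
  obtain ⟨z, hzz', hzmax⟩ := CodimZeroH8.exists_isMax_ge z'
  have hzx : f.asFiber x ∈ closure {z} := specializes_iff_mem_closure.mp (hzz'.trans hz'x)
  have hzmax' : ∀ z'' : ↥(f.fiber (f.base x)), z ∈ closure {z''} → z'' = z := by
    intro z'' hz''
    have h1 : z'' ⤳ z := specializes_iff_mem_closure.mpr hz''
    have hmax : IsMax z := Order.coheight_eq_zero.mp hzmax
    have h2 : z ⤳ z'' := hmax (show z ≤ z'' from h1)
    exact (h1.antisymm h2).eq
  have hopen := h z hzx hzmax'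
  -- ι z = x'
  have hιzx' : (f.fiberι (f.base x)).base z ⤳ x' := by
    rw [← hιz']; exact hzz'.map (f.fiberι (f.base x)).continuous
  obtain ⟨Qz, hQz⟩ := exists_fromSpecStalk_eq x (hιzx'.trans hx'x)
  have hQzle : Qz.asIdeal ≤ q := by
    have := hιzx'
    rw [← hQz, hx', fromSpecStalk_specializes_iff] at this
    exact this
  have hfιz : f.base ((f.fiberι (f.base x)).base z) = f.base x :=
    Groth.Agent.FibRes2H8.fiberι_mem f (f.base x) z
  have hpm : p ≤ maximalIdeal (Y.presheaf.stalk (f.base x)) := le_maximalIdeal hp.ne_top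
  have hQzeq : Qz.asIdeal = q := by
    have h2 : f.base (X.fromSpecStalk x Qz) = Y.fromSpecStalk (f.base x) (closedPoint _) := by
      rw [hQz, Scheme.fromSpecStalk_closedPoint]; exact hfιz
    have h3 := comap_eq_of_map_eq f x Qz _ h2
    have h4 : p.map (f.stalkMap x).hom ≤ Qz.asIdeal := by
      rw [Ideal.map_le_iff_le_comap, h3]; exact hpm
    exact le_antisymm hQzle (hq.2 ⟨Qz.2, h4⟩ hQzle)
  have hιz : (f.fiberι (f.base x)).base z = x' := by
    rw [← hQz, hx']
    congr 1
    exact PrimeSpectrum.ext hQzeq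
  rw [hιz] at hopen
  -- lift the generization
  set P : Spec (Y.presheaf.stalk (f.base x)) := ⟨p, hp⟩ with hP
  set y' := Y.fromSpecStalk (f.base x) P with hy'
  have hy'sp : y' ⤳ f.base x' := by
    rw [hfx']
    have : y' ∈ Set.range (Y.fromSpecStalk (f.base x)) := ⟨P, rfl⟩
    rwa [Scheme.range_fromSpecStalk] at this
  obtain ⟨x'', hx''sp, hfx''⟩ := OpenAtGenH8.exists_generalization_of_isOpenAt f x' hopen y' hy'sp
  obtain ⟨Q'', hQ''⟩ := exists_fromSpecStalk_eq x (hx''sp.trans hx'x)
  have hQ''le : Q''.asIdeal ≤ q := by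
    have := hx''sp
    rw [← hQ'', hx', fromSpecStalk_specializes_iff] at this
    exact this
  have h5 : f.base (X.fromSpecStalk x Q'') = Y.fromSpecStalk (f.base x) P := by
    rw [hQ'', hfx'']
  have h6 := comap_eq_of_map_eq f x Q'' P h5
  have h7 : p.map (f.stalkMap x).hom ≤ Q''.asIdeal := by
    rw [Ideal.map_le_iff_le_comap, h6]
  have h8 : Q''.asIdeal = q := le_antisymm hQ''le (hq.2 ⟨Q''.2, h7⟩ hQ''le)
  apply hpne
  have : P.asIdeal = p := rfl
  rw [← this, ← h6, h8, hcon]

/-- **EGA IV 14.2.1.** -/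
theorem dim_formula [IsLocallyNoetherian X] [IsLocallyNoetherian Y]
    (h : ∀ z : ↥(f.fiber (f.base x)), f.asFiber x ∈ closure {z} →
      (∀ z' : ↥(f.fiber (f.base x)), z ∈ closure {z'} → z' = z) →
      EGA43.IsOpenAt f.base ((f.fiberι (f.base x)).base z)) :
    ringKrullDim (X.presheaf.stalk x) =
      ringKrullDim (Y.presheaf.stalk (f.base x)) +
        ringKrullDim ((f.fiber (f.base x)).presheaf.stalk (f.asFiber x)) := by
  letI : Algebra (Y.presheaf.stalk (f.base x)) (X.presheaf.stalk x) :=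
    (f.stalkMap x).hom.toAlgebra
  haveI : IsLocalHom (algebraMap (Y.presheaf.stalk (f.base x)) (X.presheaf.stalk x)) :=
    inferInstanceAs (IsLocalHom (f.stalkMap x).hom)
  have key := Groth.Agent.FibDim.dim_eq (Y.presheaf.stalk (f.base x)) (X.presheaf.stalk x)
    (hyp_of_isOpenAt f x h)
  rw [key]
  congr 1
  exact dim_quot_eq f x

end OpenAtDimH8
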