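import Mathlib
import Groth.Prelude.Def_EGA43
import Groth.Agent.Lib.OpenAtDim_helper8
import Groth.Agent.Lib.FibGen_helper8
import Groth.Agent.Lib.FibCoh8_helper8
import Groth.Agent.Lib.FibComp_helper8

/-! EGA IV 14.2.2: consequences of openness at the generic points of the fibre components. -/

universe u
open AlgebraicGeometry CategoryTheory TopologicalSpace IsLocalRing

namespace OpenAtEqH8

variable {X Y : Scheme.{u}} (f : X ⟶ Y)

/-- translation of the fibre-level openness hypothesis to points of `X`. -/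
theorem hopen_of_fiber (x : X)
    (h : ∀ z : ↥(f.fiber (f.base x)), f.asFiber x ∈ closure {z} →
      (∀ z' : ↥(f.fiber (f.base x)), z ∈ closure {z'} → z' = z) →
      EGA43.IsOpenAt f.base ((f.fiberι (f.base x)).base z)) :
    ∀ x' : X, f.base x' = f.base x → x' ⤳ x →
      (∀ x'' : X, f.base x'' = f.base x → x'' ⤳ x' → x'' = x') → EGA43.IsOpenAt f.base x' := by
  intro x' hfx' hsp hmax
  set z : ↥(f.fiber (f.base x)) := (f.fiberHomeo (f.base x)).symm ⟨x', hfx'⟩ with hz
  have hιz : (f.fiberι (f.base x)).base z = x' := f.fiberι_fiberHomeo_symm _ _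
  have hind := (f.fiberι (f.base x)).isEmbedding.isInducing
  have h1 : f.asFiber x ∈ closure {z} := by
    rw [← specializes_iff_mem_closure, ← hind.specializes_iff, hιz, Scheme.Hom.fiberι_asFiber]
    exact hsp
  have h2 : ∀ z' : ↥(f.fiber (f.base x)), z ∈ closure {z'} → z' = z := by
    intro z' hz'
    rw [← specializes_iff_mem_closure, ← hind.specializes_iff, hιz] at hz'
    apply (f.fiberι (f.base x)).isEmbedding.injective
    rw [hιz]
    exact hmax _ (Groth.Agent.FibRes2H8.fiberι_mem f (f.base x) z') hz'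
  have := h z h1 h2
  rwa [hιz] at this

/-- the fibre-level hypothesis at a point maximal in its fibre. -/
theorem fiber_hyp_of_isMax (x' : X) (hopen : EGA43.IsOpenAt f.base x')
    (hmax : ∀ x'' : X, f.base x'' = f.base x' → x'' ⤳ x' → x'' = x') :
    ∀ z : ↥(f.fiber (f.base x')), f.asFiber x' ∈ closure {z} →
      (∀ z' : ↥(f.fiber (f.base x')), z ∈ closure {z'} → z' = z) →
      EGA43.IsOpenAt f.base ((f.fiberι (f.base x')).base z) := by
  intro z hz _
  have hind := (f.fiberι (f.base x')).isEmbedding.isInducing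
  rw [← specializes_iff_mem_closure, ← hind.specializes_iff, Scheme.Hom.fiberι_asFiber] at hz
  rw [hmax _ (Groth.Agent.FibRes2H8.fiberι_mem f (f.base x') z) hz]
  exact hopen

theorem fibCoh_eq_zero_of_isMax (x' : X)
    (hmax : ∀ x'' : X, f.base x'' = f.base x' → x'' ⤳ x' → x'' = x') :
    FibCohH8.fibCoh f x' = 0 := by
  unfold FibCohH8.fibCoh
  rw [Order.coheight_eq_zero]
  rintro ⟨b, hb⟩ hle
  have hsp : b ⤳ x' := hle
  have := hmax b hb hsp
  subst this
  exact le_rfl

/-- at a point maximal in its fibre where `f` is open, `dim O_{X,x'} = dim O_{Y,f x'}`. -/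
theorem coheight_eq_of_isOpenAt [IsLocallyNoetherian X] [IsLocallyNoetherian Y] (x' : X)
    (hopen : EGA43.IsOpenAt f.base x')
    (hmax : ∀ x'' : X, f.base x'' = f.base x' → x'' ⤳ x' → x'' = x') :
    Order.coheight x' = Order.coheight (f.base x') := by
  have key := OpenAtDimH8.dim_formula f x' (fiber_hyp_of_isMax f x' hopen hmax)
  rw [FibCohH8.stalk_fiber_eq_fibCoh, fibCoh_eq_zero_of_isMax f x' hmax,
    AlgebraicGeometry.ringKrullDim_stalk_eq_coheight,
    AlgebraicGeometry.ringKrullDim_stalk_eq_coheight] at key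
  have : ((Order.coheight x' : ℕ∞) : WithBot ℕ∞) = ((Order.coheight (f.base x') : ℕ∞) : WithBot ℕ∞) := by
    rw [key]; simp
  exact WithBot.coe_inj.mp this

theorem coheight_ne_top [IsLocallyNoetherian X] (x : X) : Order.coheight x ≠ ⊤ := by
  intro h
  have h1 := AlgebraicGeometry.ringKrullDim_stalk_eq_coheight x
  rw [h] at h1
  exact ringKrullDim_ne_top h1

/-- **Key bound.** -/
theorem trdeg_le_of_isOpenAt [IsLocallyNoetherian Y] [LocallyOfFiniteType f] (x' : X)
    (hopen : EGA43.IsOpenAt f.base x')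
    (hmax : ∀ x'' : X, f.base x'' = f.base x' → x'' ⤳ x' → x'' = x') (d : ℕ)
    (H : ∀ ξ : X, (∀ ξ' : X, ξ' ⤳ ξ → ξ' = ξ) → ξ ⤳ x' → Dual3.resTrdeg f ξ ≤ d) :
    Cardinal.toENat (Dual3.resTrdeg f x') ≤ (d : ℕ∞) := by
  haveI : IsLocallyNoetherian X := LocallyOfFiniteType.isLocallyNoetherian f
  have h1 := FibGenH8.coheight_add_trdeg_le f x' d H
  rw [← coheight_eq_of_isOpenAt f x' hopen hmax] at h1
  exact (ENat.add_le_add_iff_left (coheight_ne_top x')).mp h1

/-- **EGA IV 14.2.2, main bound.** -/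
theorem fibreDimAt_le_of_isOpenAt [IsLocallyNoetherian Y] [LocallyOfFiniteType f] (x : X)
    (hopen : ∀ x' : X, f.base x' = f.base x → x' ⤳ x →
      (∀ x'' : X, f.base x'' = f.base x → x'' ⤳ x' → x'' = x') → EGA43.IsOpenAt f.base x')
    (d : ℕ)
    (H : ∀ ξ : X, (∀ ξ' : X, ξ' ⤳ ξ → ξ' = ξ) → ξ ⤳ x → Dual3.resTrdeg f ξ ≤ d) :
    FlatMor.fibreDimAt f x ≤ ((d : ℕ∞) : WithBot ℕ∞) := by
  apply FibGenH8.fibreDimAt_le_of_fibre_generic f x (d : ℕ∞)
  intro x' hfx' hsp hmax
  apply trdeg_le_of_isOpenAt f x' (hopen x' hfx' hsp hmax) (by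
    intro x'' h1 h2
    exact hmax x'' (h1.trans hfx') h2) d
  intro ξ hξ hξx'
  exact H ξ hξ (hξx'.trans hsp)

/-- restriction to an open does not change the relative dimension. -/
theorem fibreDimAt_restrict (U : X.Opens) (u : ↥U) :
    FlatMor.fibreDimAt (U.ι ≫ f) u = FlatMor.fibreDimAt f (U.ι.base u) := by
  have comm : (U.ι ≫ f) ≫ 𝟙 Y = U.ι ≫ f := Category.comp_id _
  exact (FibCohH8.fibreDimAt_etale_local f (U.ι ≫ f) U.ι (𝟙 Y) comm u).symm

/-- criterion for equidimensionality at a point. -/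
theorem isEquidimAt_of_fibreDimAt_const [LocallyOfFiniteType f] (x : X) (e : ℕ) (U : X.Opens)
    (hxU : x ∈ U)
    (h1 : ∀ Z ∈ irreducibleComponents (↥U : Type u),
      ∃ W ∈ irreducibleComponents (Y : Type u), f.base x ∈ W ∧ closure ((U.ι ≫ f).base '' Z) = W)
    (h2 : ∀ u : X, u ∈ U → FlatMor.fibreDimAt f u = (e : WithBot ℕ∞)) :
    EGA43.IsEquidimAt f x := by
  refine ⟨e, U, hxU, h1, ?_⟩
  intro x' Z hZ
  obtain ⟨z', -, hdim⟩ := FibCompH8.dim_component_fiber (U.ι ≫ f) _ Z hZ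
  rw [hdim, fibreDimAt_restrict]
  exact h2 _ (Subtype.property _)

end OpenAtEqH8
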