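import Mathlib

/-! Irreducible components of a closed subspace, in the ambient space. -/

namespace SubCompH8

theorem closure_mem_irreducibleComponents_iff {T : Type*} [TopologicalSpace T] [QuasiSober T]
    [T0Space T] (η : T) :
    closure ({η} : Set T) ∈ irreducibleComponents T ↔ ∀ z : T, z ⤳ η → z = η := by
  constructor
  · intro hc z hz
    have hsub : closure ({η} : Set T) ⊆ closure {z} :=
      closure_minimal (Set.singleton_subset_iff.mpr (specializes_iff_mem_closure.mp hz))
        isClosed_closure
    have := hc.2 isIrreducible_singleton.closure hsub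
    have hz' : z ∈ closure ({η} : Set T) := this (subset_closure rfl)
    exact ((specializes_iff_mem_closure.mpr hz').antisymm hz).eq.symm
  · intro h
    refine ⟨isIrreducible_singleton.closure, ?_⟩
    intro F hFi hF y hy
    obtain ⟨z, hz⟩ := QuasiSober.sober hFi.closure isClosed_closure
    have h1 : z ⤳ η := by
      rw [specializes_iff_mem_closure, hz.def]
      exact subset_closure (hF (subset_closure rfl))
    have hzη := h z h1
    rw [← hzη, hz.def]
    exact subset_closure hy

theorem dim_image_val {T : Type*} [TopologicalSpace T] (P : Set T) (W : Set ↥P) :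
    topologicalKrullDim ↥(Subtype.val '' W : Set T) = topologicalKrullDim ↥W :=
  ((Topology.IsEmbedding.subtypeVal (p := (· ∈ P))).homeomorphImage W).isHomeomorph.topologicalKrullDim_eq.symm

/-- generic point (in the ambient space) of an irreducible component of a closed subspace. -/
theorem exists_generic_of_component_closed {T : Type*} [TopologicalSpace T] [QuasiSober T]
    [T0Space T] (P : Set T) (hP : IsClosed P) (W : Set ↥P) (hW : W ∈ irreducibleComponents ↥P) :
    ∃ w : T, w ∈ P ∧ Subtype.val '' W = closure {w} ∧ ∀ w₁ ∈ P, w₁ ⤳ w → w₁ = w := by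
  haveI : QuasiSober ↥P := hP.isClosedEmbedding_subtypeVal.quasiSober
  have hclosed : IsClosed W := isClosed_of_mem_irreducibleComponents W hW
  obtain ⟨wP, hwP⟩ := QuasiSober.sober hW.1 hclosed
  have hmax := (closure_mem_irreducibleComponents_iff wP).mp (hwP.def.symm ▸ hW)
  refine ⟨wP.1, wP.2, ?_, ?_⟩
  · rw [← hwP.def, ← hP.isClosedEmbedding_subtypeVal.closure_image_eq, Set.image_singleton]
  · intro w₁ hw₁ hsp
    have : (⟨w₁, hw₁⟩ : ↥P) ⤳ wP := by
      rw [← Topology.IsInducing.subtypeVal.specializes_iff]
      exact hsp
    exact congrArg Subtype.val (hmax _ this)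

/-- conversely: maximal points of a closed subset give components. -/
theorem component_of_isMax_closed {T : Type*} [TopologicalSpace T] [QuasiSober T]
    [T0Space T] (P : Set T) (hP : IsClosed P) (w : T) (hw : w ∈ P)
    (hmax : ∀ w₁ ∈ P, w₁ ⤳ w → w₁ = w) :
    (Subtype.val ⁻¹' closure {w} : Set ↥P) ∈ irreducibleComponents ↥P ∧
      Subtype.val '' (Subtype.val ⁻¹' closure {w} : Set ↥P) = closure {w} := by
  haveI : QuasiSober ↥P := hP.isClosedEmbedding_subtypeVal.quasiSober
  have h1 : (Subtype.val ⁻¹' closure {w} : Set ↥P) = closure {(⟨w, hw⟩ : ↥P)} := by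
    rw [Topology.IsInducing.subtypeVal.closure_eq_preimage_closure_image, Set.image_singleton]
  constructor
  · rw [h1, closure_mem_irreducibleComponents_iff]
    intro z hz
    rw [← Topology.IsInducing.subtypeVal.specializes_iff] at hz
    exact Subtype.ext (hmax z.1 z.2 hz)
  · rw [Subtype.image_preimage_coe]
    exact Set.inter_eq_right.mpr (closure_minimal (Set.singleton_subset_iff.mpr hw) hP)

end SubCompH8
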