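import Mathlib
import Groth.Prelude.Def_EGA43
import Groth.Agent.Lib.OpenAtEq_helper8
import Groth.Agent.Lib.FibGen_helper8
import Groth.Agent.Lib.FibGen2_helper8
import Groth.Agent.Lib.SubComp_helper8
import Groth.Agent.Lib.ClosHt_helper8
import Groth.Agent.Lib.CodimZero_helper8

/-! Consequences of `EGA43.IsEquidimAt`: constancy of the fibre dimension and dominance. -/

universe u
open AlgebraicGeometry CategoryTheory TopologicalSpace

namespace EquidimCharH8

variable {X Y : Scheme.{u}} (f : X ⟶ Y)

/-- a point which is maximal in its fibre gives a maximal point of the fibre scheme. -/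
theorem asFiber_isMax (x' : X)
    (hmax : ∀ x'' : X, f.base x'' = f.base x' → x'' ⤳ x' → x'' = x')
    (z : ↥(f.fiber (f.base x'))) (hz : z ⤳ f.asFiber x') : z = f.asFiber x' := by
  have hind := (f.fiberι (f.base x')).isEmbedding.isInducing
  apply (f.fiberι (f.base x')).isEmbedding.injective
  rw [Scheme.Hom.fiberι_asFiber]
  apply hmax _ (Groth.Agent.FibRes2H8.fiberι_mem f _ z)
  have := hz.map (f.fiberι (f.base x')).base.hom.continuous
  rwa [Scheme.Hom.fiberι_asFiber] at this

/-- every point of a fibre has a generization in the fibre which is maximal in the fibre. -/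
theorem exists_fibre_max (u : X) :
    ∃ x' : X, f.base x' = f.base u ∧ x' ⤳ u ∧
      ∀ x'' : X, f.base x'' = f.base u → x'' ⤳ x' → x'' = x' := by
  obtain ⟨z₀, hz₀u, hz₀⟩ := CodimZeroH8.exists_isMax_ge (f.asFiber u)
  have hind := (f.fiberι (f.base u)).isEmbedding.isInducing
  rw [Order.coheight_eq_zero] at hz₀
  refine ⟨(f.fiberι (f.base u)).base z₀, Groth.Agent.FibRes2H8.fiberι_mem f _ z₀, ?_, ?_⟩
  · have := hz₀u.map (f.fiberι (f.base u)).base.hom.continuous
    rwa [Scheme.Hom.fiberι_asFiber] at this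
  · intro x'' h1 h2
    have har : x'' ∈ Set.range (f.fiberι (f.base u)).base := by
      rw [Scheme.Hom.range_fiberι]; exact h1
    obtain ⟨z'', rfl⟩ := har
    rw [hind.specializes_iff] at h2
    have h3 : z₀ ⤳ z'' := hz₀ h2
    rw [(h2.antisymm h3).eq]

/-- if all irreducible components of the fibre through `x'` have dimension `e`, then a point `x'`
maximal in its fibre has residue transcendence degree `e`. -/
theorem trdeg_of_fibre_max [LocallyOfFiniteType f] (e : ℕ) (x' : X)
    (hdim : ∀ Z ∈ irreducibleComponents (↥(f.fiber (f.base x')) : Type u),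
      topologicalKrullDim (↥Z : Type u) = e)
    (hmax : ∀ x'' : X, f.base x'' = f.base x' → x'' ⤳ x' → x'' = x') :
    Cardinal.toENat (Dual3.resTrdeg f x') = (e : ℕ∞) := by
  have hcomp : closure ({f.asFiber x'} : Set ↥(f.fiber (f.base x'))) ∈
      irreducibleComponents (↥(f.fiber (f.base x')) : Type u) :=
    (SubCompH8.closure_mem_irreducibleComponents_iff (f.asFiber x')).mpr
      (fun z hz => asFiber_isMax f x' hmax z hz)
  have h1 := hdim _ hcomp
  rw [Groth.Agent.ClosHtH8.topologicalKrullDim_closure_singleton] at h1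
  obtain ⟨n, hn, hh⟩ := Groth.Agent.FibRes2H8.height_asFiber f x'
  have hn' : Dual3.resTrdeg f x' = n := hn
  rw [hn', Cardinal.toENat_nat]
  rw [hh] at h1
  exact_mod_cast h1

/-- fibre dimension constant from equidimensional fibres. -/
theorem fibreDimAt_eq_of_components [LocallyOfFiniteType f] (e : ℕ)
    (hdim : ∀ x' : X, ∀ Z ∈ irreducibleComponents (↥(f.fiber (f.base x')) : Type u),
      topologicalKrullDim (↥Z : Type u) = e) (u : X) :
    FlatMor.fibreDimAt f u = (e : WithBot ℕ∞) := by
  apply le_antisymm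
  · have := FibGenH8.fibreDimAt_le_of_fibre_generic f u (e : ℕ∞) (by
      intro x' h1 h2 h3
      have h3' : ∀ x'' : X, f.base x'' = f.base x' → x'' ⤳ x' → x'' = x' := by
        intro x'' h4 h5
        exact h3 x'' (h4.trans h1) h5
      exact (trdeg_of_fibre_max f e x' (hdim x') h3').le)
    exact_mod_cast this
  · obtain ⟨x', h1, h2, h3⟩ := exists_fibre_max f u
    have h3' : ∀ x'' : X, f.base x'' = f.base x' → x'' ⤳ x' → x'' = x' := by
      intro x'' h4 h5
      exact h3 x'' (h4.trans h1) h5
    have h4 := trdeg_of_fibre_max f e x' (hdim x') h3'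
    have h5 : FlatMor.fibreDimAt f x' = (e : WithBot ℕ∞) := by
      rw [FibCohH8.fibreDimAt_eq f x', OpenAtEqH8.fibCoh_eq_zero_of_isMax f x' h3', h4]
      simp
    rw [← h5]
    exact FibGenH8.fibreDimAt_le_of_specializes f h2

/-- **Consequences of equidimensionality at a point.** -/
theorem exists_of_isEquidimAt [IrreducibleSpace Y] [LocallyOfFiniteType f] (x : X)
    (hf : EGA43.IsEquidimAt f x) :
    ∃ (e : ℕ) (U : X.Opens), x ∈ U ∧ (∀ u ∈ U, FlatMor.fibreDimAt f u = (e : WithBot ℕ∞)) ∧
      (∀ ξ ∈ U, (∀ ξ' : X, ξ' ⤳ ξ → ξ' = ξ) → f.base ξ = genericPoint Y) := by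
  obtain ⟨e, U, hxU, h1, h2⟩ := hf
  refine ⟨e, U, hxU, ?_, ?_⟩
  · intro u hu
    have := fibreDimAt_eq_of_components (U.ι ≫ f) e h2 ⟨u, hu⟩
    rw [OpenAtEqH8.fibreDimAt_restrict] at this
    exact this
  · intro ξ hξU hξmax
    have key : ∀ ξ₀ : ↥(U : Scheme.{u}), U.ι.base ξ₀ = ξ → f.base ξ = genericPoint Y := by
      intro ξ₀ hξ₀
      have hmax' : ∀ a : ↥(U : Scheme.{u}), a ⤳ ξ₀ → a = ξ₀ := by
        intro a ha
        have h3 : U.ι.base a ⤳ U.ι.base ξ₀ := ha.map U.ι.base.hom.continuous
        rw [hξ₀] at h3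
        have h4 := hξmax _ h3
        exact U.ι.isEmbedding.injective (h4.trans hξ₀.symm)
      have hcomp : closure ({ξ₀} : Set ↥(U : Scheme.{u})) ∈
          irreducibleComponents (↥(U : Scheme.{u}) : Type u) :=
        (SubCompH8.closure_mem_irreducibleComponents_iff ξ₀).mpr hmax'
      obtain ⟨W, hW, -, hcl⟩ := h1 _ hcomp
      rw [irreducibleComponents_eq_singleton, Set.mem_singleton_iff] at hW
      subst hW
      have hsub : (U.ι ≫ f).base '' closure ({ξ₀} : Set ↥(U : Scheme.{u})) ⊆
          closure ({f.base ξ} : Set Y) := by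
        refine (image_closure_subset_closure_image (U.ι ≫ f).base.hom.continuous).trans ?_
        rw [Set.image_singleton]
        have : (U.ι ≫ f).base ξ₀ = f.base ξ := by rw [← hξ₀]; rfl
        rw [this]
      have huniv : closure ({f.base ξ} : Set Y) = Set.univ := by
        apply Set.eq_univ_of_univ_subset
        rw [← hcl]
        exact closure_minimal hsub isClosed_closure
      have hgen : IsGenericPoint (f.base ξ) (⊤ : Set Y) := huniv
      exact hgen.eq (genericPoint_spec Y)
    exact key ⟨ξ, hξU⟩ rfl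

end EquidimCharH8
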