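import Mathlib

/-! Order-theoretic lemmas on integer-valued strictly monotone functions and chains, and
the comparison between primes of a stalk and generizations. -/

universe u

open AlgebraicGeometry CategoryTheory

namespace Groth.Agent.DimFunH8

theorem add_length_le {α : Type*} [Preorder α] (f : α → ℤ) (hf : StrictMono f) (l : LTSeries α) :
    f l.head + l.length ≤ f l.last := by
  have h : ∀ i : Fin (l.length + 1), f (l 0) + ((i : ℕ) : ℤ) ≤ f (l i) := by
    intro i
    induction i using Fin.induction with
    | zero => simp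
    | succ i ih =>
      have h1 := hf (l.step i)
      simp only [Fin.val_succ, Fin.val_castSucc] at *
      push_cast
      omega
  have := h (Fin.last _)
  simpa [RelSeries.head, RelSeries.last] using this

theorem exists_chain {α : Type*} [PartialOrder α] (g : α → ℤ) (hg : StrictMono g)
    (hcov : ∀ a b, a ⋖ b → g b = g a + 1) :
    ∀ (d : ℕ) (a b : α), a ≤ b → (g b - g a).toNat = d →
      ∃ l : LTSeries α, l.head = a ∧ l.last = b ∧ (l.length : ℤ) = g b - g a := by
  intro d
  induction d using Nat.strong_induction_on with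
  | _ d ih =>
    intro a b hab hd
    rcases hab.eq_or_lt with rfl | hlt
    · exact ⟨RelSeries.singleton _ a, rfl, rfl, by simp⟩
    · by_cases hc : a ⋖ b
      · refine ⟨(RelSeries.singleton _ a).snoc b hlt, ?_, ?_, ?_⟩
        · simp
        · simp
        · simp [hcov a b hc]
      · obtain ⟨c, hac, hcb⟩ := (not_covBy_iff hlt).mp hc
        have h1 := hg hac
        have h2 := hg hcb
        obtain ⟨l1, hl1h, hl1l, hl1n⟩ := ih (g c - g a).toNat (by omega) a c hac.le rfl
        obtain ⟨l2, hl2h, hl2l, hl2n⟩ := ih (g b - g c).toNat (by omega) c b hcb.le rfl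
        refine ⟨RelSeries.smash l1 l2 (by rw [hl1l, hl2h]), ?_, ?_, ?_⟩
        · simp [hl1h]
        · simp [hl2l]
        · simp only [RelSeries.smash_length]
          push_cast
          omega

section Scheme

variable (X : Scheme.{u}) (z : X)

/-- the point of `X` attached to a prime of the stalk at `z`. -/
noncomputable def φ (P : PrimeSpectrum (X.presheaf.stalk z)) : X :=
  (X.fromSpecStalk z) P

theorem φ_specializes (P : PrimeSpectrum (X.presheaf.stalk z)) : φ X z P ⤳ z := by
  have : φ X z P ∈ Set.range (X.fromSpecStalk z) := ⟨P, rfl⟩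
  rw [Scheme.range_fromSpecStalk] at this
  exact this

theorem exists_φ_eq (y : X) (hy : y ⤳ z) : ∃ P, φ X z P = y := by
  have : y ∈ Set.range (X.fromSpecStalk z) := by
    rw [Scheme.range_fromSpecStalk]; exact hy
  obtain ⟨P, hP⟩ := this
  exact ⟨P, hP⟩

theorem φ_specializes_iff (P Q : PrimeSpectrum (X.presheaf.stalk z)) :
    φ X z P ⤳ φ X z Q ↔ P ≤ Q := by
  rw [PrimeSpectrum.le_iff_specializes]
  exact (X.fromSpecStalk z).isEmbedding.isInducing.specializes_iff

theorem φ_injective : Function.Injective (φ X z) :=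
  (X.fromSpecStalk z).isEmbedding.injective

theorem φ_closedPoint : φ X z (IsLocalRing.closedPoint (X.presheaf.stalk z)) = z :=
  Scheme.fromSpecStalk_closedPoint

/-- the prime of the stalk at `z` attached to a generization `ξ`. -/
theorem φ_ker (ξ : X) (h : ξ ⤳ z) :
    φ X z ⟨RingHom.ker (X.presheaf.stalkSpecializes h ≫ X.residue ξ).hom,
      RingHom.ker_isPrime _⟩ = ξ := by
  have h1 := Scheme.fromSpecStalk_closedPoint (X := X) (x := ξ)
  rw [← Scheme.SpecMap_stalkSpecializes_fromSpecStalk h] at h1
  rw [Scheme.Hom.comp_apply] at h1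
  refine Eq.trans ?_ h1
  unfold φ
  congr 1
  apply PrimeSpectrum.ext
  ext a
  change _ ↔ a ∈ Ideal.comap (X.presheaf.stalkSpecializes h).hom
    (IsLocalRing.closedPoint (X.presheaf.stalk ξ)).asIdeal
  rw [RingHom.mem_ker, Ideal.mem_comap, IsLocalRing.closedPoint]
  change (X.residue ξ).hom ((X.presheaf.stalkSpecializes h).hom a) = 0 ↔ _
  rw [← RingHom.mem_ker]
  have : RingHom.ker (X.residue ξ).hom = IsLocalRing.maximalIdeal (X.presheaf.stalk ξ) :=
    IsLocalRing.ker_residue
  rw [this]

end Scheme

end Groth.Agent.DimFunH8
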