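import Mathlib
import Groth.Prelude.Def_Cyc
import Groth.Agent.Lib.DimFun_helper8

/-! Krull dimension of subspaces `F ∩ Γ` (`F` closed, `Γ` stable under generization) of a scheme
carrying a dimension function, computed through the dimension function. -/

universe u

open AlgebraicGeometry CategoryTheory

namespace Groth.Agent.LocDim1H8

theorem quasiSober_inter {X : Type*} [TopologicalSpace X] [QuasiSober X] (F Γ : Set X)
    (hF : IsClosed F) (hΓ : ∀ a b : X, a ⤳ b → b ∈ Γ → a ∈ Γ) : QuasiSober ↥(F ∩ Γ) := by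
  constructor
  intro Z hZ hZc
  have hZ' : IsIrreducible (closure (Subtype.val '' Z)) :=
    (hZ.image _ continuous_subtype_val.continuousOn).closure
  obtain ⟨ζ, hζ⟩ := QuasiSober.sober hZ' isClosed_closure
  obtain ⟨z, hz⟩ := hZ.nonempty
  have hζz : ζ ⤳ z.1 := by
    rw [specializes_iff_mem_closure, hζ.def]
    exact subset_closure ⟨z, hz, rfl⟩
  have hζF : ζ ∈ F := by
    have h1 : closure (Subtype.val '' Z) ⊆ F :=
      closure_minimal (by rintro _ ⟨w, _, rfl⟩; exact w.2.1) hF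
    apply h1
    rw [← hζ.def]
    exact subset_closure rfl
  have hζΓ : ζ ∈ Γ := hΓ ζ z.1 hζz z.2.2
  refine ⟨⟨ζ, hζF, hζΓ⟩, ?_⟩
  rw [isGenericPoint_def]
  ext w
  rw [closure_subtype, Set.image_singleton, hζ.def, ← closure_subtype, hZc.closure_eq]

theorem topDim_inter_eq (X : Scheme.{u}) (δ : X → ℤ) (hδ : Cyc.IsDimFun X δ)
    (F Γ : Set X) (hF : IsClosed F) (hΓ : ∀ a b : X, a ⤳ b → b ∈ Γ → a ∈ Γ) :
    topologicalKrullDim ↥(F ∩ Γ) =
      ⨆ (a : X) (b : X) (_ : a ∈ F ∩ Γ ∧ b ∈ F ∩ Γ ∧ a ⤳ b),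
        (((δ a - δ b).toNat : ℕ) : WithBot ℕ∞) := by
  classical
  haveI := quasiSober_inter F Γ hF hΓ
  have hle_iff : ∀ a b : ↥(F ∩ Γ), a ≤ b ↔ (b : X) ⤳ (a : X) := fun a b => Iff.rfl
  have h1 : topologicalKrullDim ↥(F ∩ Γ) = Order.krullDim ↥(F ∩ Γ) := by
    unfold topologicalKrullDim
    let e1 := @irreducibleSetEquivPoints ↥(F ∩ Γ) _ _ _
    let e : TopologicalSpace.IrreducibleCloseds ↥(F ∩ Γ) ≃o ↥(F ∩ Γ) :=
      { toEquiv := e1.toEquiv
        map_rel_iff' := by
          intro s t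
          have h := e1.map_rel_iff' (a := s) (b := t)
          exact (subtype_specializes_iff (e1 t) (e1 s)).symm.trans h }
    exact Order.krullDim_eq_of_orderIso e
  rw [h1]
  letI : PartialOrder ↥(F ∩ Γ) :=
    { (inferInstance : Preorder ↥(F ∩ Γ)) with
      le_antisymm := fun a b hab hba => Subtype.ext
        (Specializes.antisymm (show (b : X) ⤳ (a : X) from hab)
          (show (a : X) ⤳ (b : X) from hba)).eq.symm }
  have hmono : StrictMono (fun a : ↥(F ∩ Γ) => δ a.1) := by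
    intro a b hab
    have hsp : (b : X) ⤳ (a : X) := (hle_iff a b).mp hab.le
    have hne : (b : X) ≠ (a : X) := by
      intro h
      have : b = a := Subtype.ext h
      rw [this] at hab
      exact lt_irrefl _ hab
    exact (hδ b a hsp hne).1
  have hcov : ∀ a b : ↥(F ∩ Γ), a ⋖ b → δ b.1 = δ a.1 + 1 := by
    intro a b hab
    have hsp : (b : X) ⤳ (a : X) := (hle_iff a b).mp hab.lt.le
    have hne : (b : X) ≠ (a : X) := by
      intro h
      have : b = a := Subtype.ext h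
      exact hab.lt.ne this.symm
    refine (hδ b a hsp hne).2 ?_
    intro z hz1 hz2
    have hzF : z ∈ F := hz1.mem_closed hF b.2.1
    have hzΓ : z ∈ Γ := hΓ z a hz2 a.2.2
    by_contra hcon
    push Not at hcon
    have h1 : a < (⟨z, hzF, hzΓ⟩ : ↥(F ∩ Γ)) :=
      lt_of_le_of_ne ((hle_iff _ _).mpr hz2) (fun h => hcon.2 (congrArg Subtype.val h).symm)
    have h2 : (⟨z, hzF, hzΓ⟩ : ↥(F ∩ Γ)) < b :=
      lt_of_le_of_ne ((hle_iff _ _).mpr hz1) (fun h => hcon.1 (congrArg Subtype.val h))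
    exact hab.2 h1 h2
  apply le_antisymm
  · apply iSup_le
    intro p
    have h2 := Groth.Agent.DimFunH8.add_length_le (fun a : ↥(F ∩ Γ) => δ a.1) hmono p
    have hsp : (p.last : X) ⤳ (p.head : X) := (hle_iff _ _).mp (LTSeries.head_le_last p)
    refine le_iSup_of_le p.last.1 (le_iSup_of_le p.head.1 (le_iSup_of_le ⟨p.last.2, p.head.2, hsp⟩ ?_))
    have h3 : p.length ≤ (δ p.last.1 - δ p.head.1).toNat := by
      have : (p.length : ℤ) ≤ δ p.last.1 - δ p.head.1 := by
        have := h2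
        simp only at this
        omega
      omega
    exact_mod_cast h3
  · apply iSup_le
    intro a
    apply iSup_le
    intro b
    apply iSup_le
    rintro ⟨ha, hb, hab⟩
    obtain ⟨l, -, -, hlen⟩ := Groth.Agent.DimFunH8.exists_chain (fun a : ↥(F ∩ Γ) => δ a.1) hmono hcov _
      (⟨b, hb⟩ : ↥(F ∩ Γ)) ⟨a, ha⟩ ((hle_iff _ _).mpr hab) rfl
    have h2 := Order.LTSeries.length_le_krullDim l
    refine le_trans ?_ h2
    have h3 : (δ a - δ b).toNat = l.length := by
      simp only at hlen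
      omega
    rw [h3]


theorem delta_nonneg (X : Scheme.{u}) [JacobsonSpace X] (δ : X → ℤ) (hδ : Cyc.IsDimFun X δ)
    (h0 : ∀ x : X, IsClosed ({x} : Set X) → δ x = 0) (x : X) : 0 ≤ δ x := by
  obtain ⟨t, ht1, ht2⟩ := nonempty_inter_closedPoints (X := X) (Z := closure ({x} : Set X))
    ⟨x, subset_closure rfl⟩ isClosed_closure.isLocallyClosed
  have hsp : x ⤳ t := specializes_iff_mem_closure.mpr ht1
  by_cases hne : x = t
  · rw [hne, h0 t ht2]
  · have := (hδ x t hsp hne).1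
    rw [h0 t ht2] at this
    omega

theorem delta_mono (X : Scheme.{u}) (δ : X → ℤ) (hδ : Cyc.IsDimFun X δ) (a b : X) (h : a ⤳ b) :
    δ b ≤ δ a := by
  by_cases hne : a = b
  · rw [hne]
  · exact (hδ a b h hne).1.le

theorem topDim_locClosed_eq (X : Scheme.{u}) [JacobsonSpace X] (δ : X → ℤ)
    (hδ : Cyc.IsDimFun X δ) (h0 : ∀ x : X, IsClosed ({x} : Set X) → δ x = 0)
    (F U : Set X) (hF : IsClosed F) (hU : IsOpen U) :
    topologicalKrullDim ↥(F ∩ U) =
      ⨆ (a : X) (_ : a ∈ F ∩ U), (((δ a).toNat : ℕ) : WithBot ℕ∞) := by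
  rw [topDim_inter_eq X δ hδ F U hF (fun a b hab hb => hab.mem_open hU hb)]
  apply le_antisymm
  · apply iSup_le
    intro a
    apply iSup_le
    intro b
    apply iSup_le
    rintro ⟨ha, hb, hab⟩
    refine le_iSup₂_of_le a ha ?_
    have := delta_nonneg X δ hδ h0 b
    have h3 : (δ a - δ b).toNat ≤ (δ a).toNat := by omega
    exact_mod_cast h3
  · apply iSup₂_le
    intro a ha
    obtain ⟨b, hb1, hb2⟩ := nonempty_inter_closedPoints (X := X)
      (Z := closure ({a} : Set X) ∩ U) ⟨a, subset_closure rfl, ha.2⟩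
      (isClosed_closure.isLocallyClosed.inter hU.isLocallyClosed)
    have hab : a ⤳ b := specializes_iff_mem_closure.mpr hb1.1
    refine le_iSup_of_le a (le_iSup_of_le b
      (le_iSup_of_le ⟨ha, ⟨hab.mem_closed hF ha.1, hb1.2⟩, hab⟩ ?_))
    rw [h0 b hb2, sub_zero]

theorem topDim_image_val {X : Type*} [TopologicalSpace X] (Y : Set X) (C : Set ↥Y) :
    topologicalKrullDim ↥C = topologicalKrullDim ↥(Subtype.val '' C) := by
  let j : ↥C → X := fun c => c.1.1
  have hj : Topology.IsEmbedding j :=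
    Topology.IsEmbedding.subtypeVal.comp Topology.IsEmbedding.subtypeVal
  have hrange : Subtype.val '' C = Set.range j := by
    ext a
    constructor
    · rintro ⟨c, hc, rfl⟩
      exact ⟨⟨c, hc⟩, rfl⟩
    · rintro ⟨c, rfl⟩
      exact ⟨c.1, c.2, rfl⟩
  rw [hrange]
  exact (hj.toHomeomorph).isHomeomorph.topologicalKrullDim_eq

theorem exists_generic_of_irreducible {X : Type*} [TopologicalSpace X] [QuasiSober X] (Y : Set X)
    (hY : IsClosed Y) (C : Set ↥Y) (hC : IsIrreducible C) (hCc : IsClosed C) :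
    ∃ η : X, η ∈ Y ∧ ∀ b : ↥Y, b ∈ C ↔ η ⤳ b.1 := by
  haveI : QuasiSober ↥Y := hY.isClosedEmbedding_subtypeVal.quasiSober
  obtain ⟨η, hη⟩ := QuasiSober.sober hC hCc
  refine ⟨η.1, η.2, fun b => ?_⟩
  rw [← hη.def, ← specializes_iff_mem_closure, subtype_specializes_iff]

/-- the common value -/
noncomputable def D (X : Scheme.{u}) (δ : X → ℤ) (Y : Set X) (x : X) : WithBot ℕ∞ :=
  ⨆ (a : X) (_ : a ∈ Y ∧ a ⤳ x), (((δ a).toNat : ℕ) : WithBot ℕ∞)

end Groth.Agent.LocDim1H8
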