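import Mathlib
import Groth.Prelude.Def_Cyc
import Groth.Prelude.Def_Flat
import Groth.Agent.Lib.LocDim1_helper8
import Groth.Agent.Lib.WBE_helper8

/-! Local dimension of a closed subset of a locally Noetherian Jacobson scheme carrying a
dimension function that vanishes at the closed points. -/

universe u

open AlgebraicGeometry CategoryTheory

namespace Groth.Agent.LocDim2H8

open Groth.Agent.LocDim1H8

variable (X : Scheme.{u}) [JacobsonSpace X] (δ : X → ℤ) (hδ : Cyc.IsDimFun X δ)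
  (h0 : ∀ x : X, IsClosed ({x} : Set X) → δ x = 0)
  (Y : Set X) (hY : IsClosed Y) (x : X) (hx : x ∈ Y)

include hδ h0 in
theorem dim_closure_eq : topologicalKrullDim ↥(closure ({x} : Set X)) =
    (((δ x).toNat : ℕ) : WithBot ℕ∞) := by
  have e1 := topDim_locClosed_eq X δ hδ h0 (closure {x}) Set.univ isClosed_closure isOpen_univ
  rw [Set.inter_univ] at e1
  rw [e1]
  apply le_antisymm
  · apply iSup₂_le
    intro a ha
    have hsp : x ⤳ a := specializes_iff_mem_closure.mpr ha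
    have h1 := delta_mono X δ hδ x a hsp
    have h3 : (δ a).toNat ≤ (δ x).toNat := by omega
    exact_mod_cast h3
  · exact le_iSup₂_of_le x (subset_closure rfl) le_rfl

omit [JacobsonSpace ↥X] in
include hδ hY in
theorem dim_gen_eq : topologicalKrullDim ↥{t : X | t ∈ Y ∧ t ⤳ x} =
    ⨆ (a : X) (b : X) (_ : (a ∈ Y ∧ a ⤳ x) ∧ (b ∈ Y ∧ b ⤳ x) ∧ a ⤳ b),
        (((δ a - δ b).toNat : ℕ) : WithBot ℕ∞) :=
  topDim_inter_eq X δ hδ Y {t | t ⤳ x} hY (fun _a _b hab hb => hab.trans hb)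

include hδ h0 hY hx in
theorem partA : topologicalKrullDim ↥(closure ({x} : Set X)) +
    topologicalKrullDim ↥{t : X | t ∈ Y ∧ t ⤳ x} = D X δ Y x := by
  rw [dim_closure_eq X δ hδ h0 x, dim_gen_eq X δ hδ Y hY x]
  have hx0 := delta_nonneg X δ hδ h0 x
  apply le_antisymm
  · rw [add_comm]
    refine Groth.Agent.WBEH8.iSup_add_nat_le _ _ _ (fun a =>
      Groth.Agent.WBEH8.iSup_add_nat_le _ _ _ (fun b =>
        Groth.Agent.WBEH8.iSup_add_nat_le _ _ _ (fun h => ?_)))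
    obtain ⟨ha, hb, hab⟩ := h
    have h1 := delta_mono X δ hδ b x hb.2
    have h2 := delta_mono X δ hδ a b hab
    refine le_trans ?_ (le_iSup₂_of_le a ha le_rfl)
    have h3 : (δ a - δ b).toNat + (δ x).toNat ≤ (δ a).toNat := by omega
    exact_mod_cast h3
  · unfold D
    apply iSup₂_le
    intro a ha
    have h1 := delta_mono X δ hδ a x ha.2
    have h3 : (δ a).toNat = (δ x).toNat + (δ a - δ x).toNat := by omega
    rw [h3]
    push_cast
    gcongr
    exact le_iSup_of_le a (le_iSup_of_le x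
      (le_iSup_of_le ⟨ha, ⟨hx, specializes_rfl⟩, ha.2⟩ le_rfl))

include hδ h0 hY in
theorem D_le_dim_open (U : Set X) (hU : IsOpen U) (hxU : x ∈ U) :
    D X δ Y x ≤ topologicalKrullDim ↥(U ∩ Y) := by
  have e := topDim_locClosed_eq X δ hδ h0 Y U hY hU
  rw [Set.inter_comm Y U] at e
  rw [e]
  unfold D
  apply iSup₂_le
  intro a ha
  exact le_iSup₂_of_le a ⟨ha.2.mem_open hU hxU, ha.1⟩ le_rfl

include hδ h0 hY in
theorem dim_open_eq_D (U : Set X) (hU : IsOpen U) (hxU : x ∈ U)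
    (hprop : ∀ a ∈ U ∩ Y, ∃ η ∈ Y, η ⤳ x ∧ η ⤳ a) :
    topologicalKrullDim ↥(U ∩ Y) = D X δ Y x := by
  apply le_antisymm _ (D_le_dim_open X δ hδ h0 Y hY x U hU hxU)
  have e := topDim_locClosed_eq X δ hδ h0 Y U hY hU
  rw [Set.inter_comm Y U] at e
  rw [e]
  apply iSup₂_le
  intro a ha
  obtain ⟨η, hηY, hηx, hηa⟩ := hprop a ha
  have h1 := delta_mono X δ hδ η a hηa
  refine le_trans ?_ (le_iSup₂_of_le η ⟨hηY, hηx⟩ le_rfl)
  have h3 : (δ a).toNat ≤ (δ η).toNat := by omega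
  exact_mod_cast h3

theorem exists_good_nbhd (X : Scheme.{u}) [IsLocallyNoetherian X] (Y : Set X) (hY : IsClosed Y)
    (x : X) :
    ∃ U : Set X, IsOpen U ∧ x ∈ U ∧ ∀ a ∈ U ∩ Y, ∃ η ∈ Y, η ⤳ x ∧ η ⤳ a := by
  classical
  obtain ⟨_, ⟨U₀, hU₀, rfl⟩, hxU₀, -⟩ :=
    X.isBasis_affineOpens.exists_subset_of_mem_open (Set.mem_univ x) isOpen_univ
  haveI : TopologicalSpace.NoetherianSpace U₀ := by
    haveI : IsNoetherianRing Γ(X, U₀) := IsLocallyNoetherian.component_noetherian ⟨U₀, hU₀⟩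
    exact noetherianSpace_of_isAffineOpen U₀ hU₀
  have hcl : IsClosed (Subtype.val ⁻¹' Y : Set U₀) := hY.preimage continuous_subtype_val
  obtain ⟨S, hSfin, hSc, hSi, hSU⟩ :=
    TopologicalSpace.NoetherianSpace.exists_finite_set_isClosed_irreducible hcl
  let K : Set X := ⋃ t ∈ {t ∈ S | x ∉ closure (Subtype.val '' t)}, closure (Subtype.val '' t)
  have hK : IsClosed K :=
    (hSfin.subset (by intro t ht; exact ht.1)).isClosed_biUnion (fun t _ => isClosed_closure)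
  refine ⟨(U₀ : Set X) ∩ Kᶜ, U₀.2.inter hK.isOpen_compl, ⟨hxU₀, ?_⟩, ?_⟩
  · intro hxK
    simp only [K, Set.mem_iUnion] at hxK
    obtain ⟨t, ht, hxt⟩ := hxK
    exact ht.2 hxt
  · rintro a ⟨⟨haU₀, haK⟩, haY⟩
    have hmem : (⟨a, haU₀⟩ : U₀) ∈ (Subtype.val ⁻¹' Y : Set U₀) := haY
    rw [hSU] at hmem
    obtain ⟨t, htS, hat⟩ := hmem
    have hat' : a ∈ closure (Subtype.val '' t) := subset_closure ⟨⟨a, haU₀⟩, hat, rfl⟩
    have hxt : x ∈ closure (Subtype.val '' t) := by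
      by_contra hcon
      apply haK
      simp only [K, Set.mem_iUnion]
      exact ⟨t, ⟨htS, hcon⟩, hat'⟩
    have hirr : IsIrreducible (closure (Subtype.val '' t)) :=
      ((hSi t htS).image _ continuous_subtype_val.continuousOn).closure
    obtain ⟨η, hη⟩ := QuasiSober.sober hirr isClosed_closure
    have hsub : closure (Subtype.val '' t) ⊆ Y := by
      apply closure_minimal _ hY
      rintro _ ⟨w, hw, rfl⟩
      have : w ∈ ⋃₀ S := ⟨t, htS, hw⟩
      rw [← hSU] at this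
      exact this
    have hηmem : η ∈ closure (Subtype.val '' t) := by
      rw [← hη.def]
      exact subset_closure rfl
    refine ⟨η, hsub hηmem, ?_, ?_⟩
    · rw [specializes_iff_mem_closure, hη.def]
      exact hxt
    · rw [specializes_iff_mem_closure, hη.def]
      exact hat'

include hδ h0 hY in
theorem localDim_eq_D [IsLocallyNoetherian X] :
    FlatMor.localDim ↥Y ⟨x, hx⟩ = D X δ Y x := by
  unfold FlatMor.localDim
  apply le_antisymm
  · obtain ⟨U, hU, hxU, hprop⟩ := exists_good_nbhd X Y hY x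
    let V : TopologicalSpace.Opens ↥Y := ⟨Subtype.val ⁻¹' U, hU.preimage continuous_subtype_val⟩
    refine iInf_le_of_le ⟨V, hxU⟩ ?_
    change topologicalKrullDim ↥(Subtype.val ⁻¹' U : Set ↥Y) ≤ _
    rw [topDim_image_val, Subtype.image_preimage_coe, Set.inter_comm,
      dim_open_eq_D X δ hδ h0 Y hY x U hU hxU hprop]
  · apply le_iInf
    rintro ⟨V, hxV⟩
    obtain ⟨U, hU, hUV⟩ := isOpen_induced_iff.mp V.2
    change D X δ Y x ≤ topologicalKrullDim ↥(V : Set ↥Y)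
    have hxU : x ∈ U := by
      have : (⟨x, hx⟩ : ↥Y) ∈ Subtype.val ⁻¹' U := by rw [hUV]; exact hxV
      exact this
    rw [show (V : Set ↥Y) = Subtype.val ⁻¹' U from hUV.symm, topDim_image_val,
      Subtype.image_preimage_coe, Set.inter_comm]
    exact D_le_dim_open X δ hδ h0 Y hY x U hU hxU

include hδ h0 hY in
theorem dim_closed_sub (C : Set ↥Y) (hC : IsClosed C) :
    topologicalKrullDim ↥C =
      ⨆ (a : X) (_ : a ∈ Subtype.val '' C), (((δ a).toNat : ℕ) : WithBot ℕ∞) := by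
  rw [topDim_image_val]
  have hcl : IsClosed (Subtype.val '' C : Set X) :=
    hY.isClosedEmbedding_subtypeVal.isClosedMap _ hC
  have e := topDim_locClosed_eq X δ hδ h0 (Subtype.val '' C) Set.univ hcl isOpen_univ
  rw [Set.inter_univ] at e
  exact e

include hδ h0 hY in
theorem iSup_components_eq_D :
    (⨆ C ∈ {C : Set ↥Y | C ∈ irreducibleComponents ↥Y ∧ (⟨x, hx⟩ : ↥Y) ∈ C},
      topologicalKrullDim ↥C) = D X δ Y x := by
  apply le_antisymm
  · apply iSup₂_le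
    rintro C ⟨hC, hxC⟩
    have hCc : IsClosed C := isClosed_of_mem_irreducibleComponents C hC
    rw [dim_closed_sub X δ hδ h0 Y hY C hCc]
    apply iSup₂_le
    rintro _ ⟨a, haC, rfl⟩
    obtain ⟨η, hηY, hη⟩ := exists_generic_of_irreducible Y hY C hC.1 hCc
    have hηa : η ⤳ a.1 := (hη a).mp haC
    have hηx : η ⤳ x := (hη ⟨x, hx⟩).mp hxC
    have h1 := delta_mono X δ hδ η a.1 hηa
    refine le_trans ?_ (le_iSup₂_of_le η ⟨hηY, hηx⟩ le_rfl)
    have h3 : (δ a.1).toNat ≤ (δ η).toNat := by omega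
    exact_mod_cast h3
  · unfold D
    apply iSup₂_le
    rintro a ⟨haY, hax⟩
    have hsp : (⟨a, haY⟩ : ↥Y) ⤳ ⟨x, hx⟩ := (subtype_specializes_iff _ _).mpr hax
    have hxC : (⟨x, hx⟩ : ↥Y) ∈ irreducibleComponent (⟨a, haY⟩ : ↥Y) :=
      hsp.mem_closed isClosed_irreducibleComponent mem_irreducibleComponent
    refine le_iSup₂_of_le (irreducibleComponent (⟨a, haY⟩ : ↥Y))
      ⟨irreducibleComponent_mem_irreducibleComponents _, hxC⟩ ?_
    rw [dim_closed_sub X δ hδ h0 Y hY _ isClosed_irreducibleComponent]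
    exact le_iSup₂_of_le a ⟨⟨a, haY⟩, mem_irreducibleComponent, rfl⟩ le_rfl

omit [JacobsonSpace ↥X] in
include hY in
theorem prop_of_disjoint (U : Set X)
    (h : ∀ C ∈ irreducibleComponents ↥Y, (⟨x, hx⟩ : ↥Y) ∉ C → Disjoint (Subtype.val ⁻¹' U) C) :
    ∀ a ∈ U ∩ Y, ∃ η ∈ Y, η ⤳ x ∧ η ⤳ a := by
  rintro a ⟨haU, haY⟩
  have hC := irreducibleComponent_mem_irreducibleComponents (⟨a, haY⟩ : ↥Y)
  have hxC : (⟨x, hx⟩ : ↥Y) ∈ irreducibleComponent (⟨a, haY⟩ : ↥Y) := by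
    by_contra hcon
    have hd := h _ hC hcon
    exact Set.disjoint_left.mp hd (show (⟨a, haY⟩ : ↥Y) ∈ Subtype.val ⁻¹' U from haU)
      mem_irreducibleComponent
  obtain ⟨η, hηY, hη⟩ := exists_generic_of_irreducible Y hY _ hC.1 isClosed_irreducibleComponent
  exact ⟨η, hηY, (hη ⟨x, hx⟩).mp hxC, (hη ⟨a, haY⟩).mp mem_irreducibleComponent⟩

include hδ h0 hY in
theorem main [IsLocallyNoetherian X] :
    FlatMor.localDim ↥Y ⟨x, hx⟩ =
        topologicalKrullDim ↥(closure ({x} : Set X)) +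
          topologicalKrullDim ↥{t : X | t ∈ Y ∧ t ⤳ x} ∧
      FlatMor.localDim ↥Y ⟨x, hx⟩ =
        ⨆ C ∈ {C : Set ↥Y | C ∈ irreducibleComponents ↥Y ∧ (⟨x, hx⟩ : ↥Y) ∈ C},
          topologicalKrullDim ↥C ∧
      ∀ U : Set X, IsOpen U → x ∈ U →
        (∀ C ∈ irreducibleComponents ↥Y, (⟨x, hx⟩ : ↥Y) ∉ C →
          Disjoint (Subtype.val ⁻¹' U) C) →
        topologicalKrullDim ↥(U ∩ Y) = FlatMor.localDim ↥Y ⟨x, hx⟩ := by
  rw [localDim_eq_D X δ hδ h0 Y hY x hx, partA X δ hδ h0 Y hY x hx,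
    iSup_components_eq_D X δ hδ h0 Y hY x hx]
  refine ⟨rfl, rfl, fun U hU hxU h => ?_⟩
  exact dim_open_eq_D X δ hδ h0 Y hY x U hU hxU (prop_of_disjoint X Y hY x hx U h)

end Groth.Agent.LocDim2H8
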