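import Mathlib
import Groth.Prelude.Def_Flat
import Groth.Agent.Lib.LocDim1_helper8

/-! Local dimension of a subspace `S ⊆ X` computed with open sets of `X`. -/

open TopologicalSpace

namespace SubLocDimH8

variable {X : Type*} [TopologicalSpace X]

theorem topDim_mono {A B : Set X} (h : A ⊆ B) :
    topologicalKrullDim ↥A ≤ topologicalKrullDim ↥B :=
  (Topology.IsEmbedding.inclusion h).isInducing.topologicalKrullDim_le

omit [TopologicalSpace X] in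
theorem image_val_preimage (S V : Set X) :
    (Subtype.val '' (Subtype.val ⁻¹' V : Set ↥S)) = V ∩ S := by
  ext a
  constructor
  · rintro ⟨⟨b, hb⟩, hbV, rfl⟩
    exact ⟨hbV, hb⟩
  · rintro ⟨haV, haS⟩
    exact ⟨⟨a, haS⟩, haV, rfl⟩

/-- (T0) -/
theorem localDim_subtype_eq (S : Set X) (t : X) (ht : t ∈ S) :
    FlatMor.localDim ↥S ⟨t, ht⟩ =
      ⨅ V : {V : Opens X // t ∈ V}, topologicalKrullDim ↥((V.1 : Set X) ∩ S) := by
  unfold FlatMor.localDim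
  apply le_antisymm
  · refine le_iInf ?_
    rintro ⟨V, hV⟩
    let U : Opens ↥S := ⟨Subtype.val ⁻¹' (V : Set X), V.2.preimage continuous_subtype_val⟩
    refine (iInf_le _ (⟨U, hV⟩ : {U : Opens ↥S // (⟨t, ht⟩ : ↥S) ∈ U})).trans ?_
    show topologicalKrullDim ↥(Subtype.val ⁻¹' (V : Set X) : Set ↥S) ≤ _
    rw [Groth.Agent.LocDim1H8.topDim_image_val S, image_val_preimage]
  · refine le_iInf ?_
    rintro ⟨U, hU⟩
    obtain ⟨V, hVo, hVU⟩ := isOpen_induced_iff.mp U.2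
    have htV : t ∈ V := by
      have : (⟨t, ht⟩ : ↥S) ∈ Subtype.val ⁻¹' V := by rw [hVU]; exact hU
      exact this
    refine (iInf_le _ (⟨⟨V, hVo⟩, htV⟩ : {V : Opens X // t ∈ V})).trans ?_
    show topologicalKrullDim ↥(V ∩ S) ≤ topologicalKrullDim ↥(U : Set ↥S)
    have hVU' : (U : Set ↥S) = Subtype.val ⁻¹' V := hVU.symm
    rw [Groth.Agent.LocDim1H8.topDim_image_val S (U : Set ↥S), hVU', image_val_preimage]

/-- (T1) -/
theorem localDim_eq_of_nhd (S₁ S₂ : Set X) (h12 : S₁ ⊆ S₂) (t : X) (ht : t ∈ S₁)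
    (U : Set X) (hU : IsOpen U) (htU : t ∈ U) (hUS : U ∩ S₂ ⊆ S₁) :
    FlatMor.localDim ↥S₁ ⟨t, ht⟩ = FlatMor.localDim ↥S₂ ⟨t, h12 ht⟩ := by
  rw [localDim_subtype_eq, localDim_subtype_eq]
  have key : ∀ V : Set X, (V ∩ U) ∩ S₁ = (V ∩ U) ∩ S₂ := by
    intro V
    ext a
    constructor
    · rintro ⟨h1, h2⟩; exact ⟨h1, h12 h2⟩
    · rintro ⟨h1, h2⟩; exact ⟨h1, hUS ⟨h1.2, h2⟩⟩
  apply le_antisymm
  · refine le_iInf ?_
    rintro ⟨V, hV⟩
    refine (iInf_le _ (⟨V ⊓ ⟨U, hU⟩, ⟨hV, htU⟩⟩ : {V : Opens X // t ∈ V})).trans ?_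
    show topologicalKrullDim ↥(((V : Set X) ∩ U) ∩ S₁) ≤ _
    rw [key]
    exact topDim_mono (Set.inter_subset_inter_left _ Set.inter_subset_left)
  · refine le_iInf ?_
    rintro ⟨V, hV⟩
    refine (iInf_le _ (⟨V ⊓ ⟨U, hU⟩, ⟨hV, htU⟩⟩ : {V : Opens X // t ∈ V})).trans ?_
    show topologicalKrullDim ↥(((V : Set X) ∩ U) ∩ S₂) ≤ _
    rw [← key]
    exact topDim_mono (Set.inter_subset_inter_left _ Set.inter_subset_left)

/-- a set between an irreducible set and its closure is irreducible. -/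
theorem isIrreducible_of_subset_closure {Z S : Set X} (hZ : IsIrreducible Z) (h1 : Z ⊆ S)
    (h2 : S ⊆ closure Z) : IsIrreducible S := by
  refine ⟨hZ.nonempty.mono h1, ?_⟩
  intro U V hU hV ⟨a, haS, haU⟩ ⟨b, hbS, hbV⟩
  have h3 : (Z ∩ U).Nonempty := by
    have := mem_closure_iff.mp (h2 haS) U hU haU
    obtain ⟨c, hcU, hcZ⟩ := this
    exact ⟨c, hcZ, hcU⟩
  have h4 : (Z ∩ V).Nonempty := by
    have := mem_closure_iff.mp (h2 hbS) V hV hbV
    obtain ⟨c, hcV, hcZ⟩ := this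
    exact ⟨c, hcZ, hcV⟩
  obtain ⟨c, hcZ, hcUV⟩ := hZ.2 U V hU hV h3 h4
  exact ⟨c, h1 hcZ, hcUV⟩

end SubLocDimH8
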