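import Mathlib
import Groth.Prelude.Def_EGA43
import Groth.Agent.Lib.SubLocDim_helper8
import Groth.Agent.Lib.FibRes2_helper8
import Groth.Agent.Lib.ClosHt_helper8
import Groth.Agent.Lib.FibLoc_helper8
import Groth.Agent.Lib.FibCoh2_helper8
import Groth.Agent.Lib.OpenAtEq_helper8
import Groth.Agent.Lib.LocDim2_helper8

/-! Closures of points inside fibres: dimensions. -/

universe u
open AlgebraicGeometry CategoryTheory TopologicalSpace

namespace FibClosH8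

variable {X Y : Scheme.{u}} (f : X ⟶ Y)

theorem closure_inter_fiber_eq (x : X) :
    closure ({x} : Set X) ∩ f.base ⁻¹' {f.base x} =
      (f.fiberι (f.base x)).base '' closure {f.asFiber x} := by
  have hind := (f.fiberι (f.base x)).isEmbedding.isInducing
  ext a
  constructor
  · rintro ⟨ha1, ha2⟩
    have har : a ∈ Set.range (f.fiberι (f.base x)).base := by
      rw [Scheme.Hom.range_fiberι]; exact ha2
    obtain ⟨w, rfl⟩ := har
    refine ⟨w, ?_, rfl⟩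
    rw [← specializes_iff_mem_closure] at ha1 ⊢
    rw [← hind.specializes_iff, Scheme.Hom.fiberι_asFiber]
    exact ha1
  · rintro ⟨w, hw, rfl⟩
    refine ⟨?_, Groth.Agent.FibRes2H8.fiberι_mem f _ w⟩
    rw [← specializes_iff_mem_closure] at hw ⊢
    rw [← hind.specializes_iff, Scheme.Hom.fiberι_asFiber] at hw
    exact hw

/-- (L1) -/
theorem dim_closure_inter_fiber [LocallyOfFiniteType f] (x : X) :
    topologicalKrullDim ↥(closure ({x} : Set X) ∩ f.base ⁻¹' {f.base x}) =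
      ((Cardinal.toENat (Dual3.resTrdeg f x) : ℕ∞) : WithBot ℕ∞) := by
  rw [closure_inter_fiber_eq]
  have hemb := (f.fiberι (f.base x)).isEmbedding
  have h1 : topologicalKrullDim ↥((f.fiberι (f.base x)).base '' closure {f.asFiber x}) =
      topologicalKrullDim ↥(closure ({f.asFiber x} : Set ↥(f.fiber (f.base x)))) :=
    ((hemb.homeomorphImage (closure {f.asFiber x})).isHomeomorph.topologicalKrullDim_eq).symm
  rw [h1, Groth.Agent.ClosHtH8.topologicalKrullDim_closure_singleton]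
  obtain ⟨n, hn, hh⟩ := Groth.Agent.FibRes2H8.height_asFiber f x
  have hn' : Dual3.resTrdeg f x = n := hn
  rw [hh, hn', Cardinal.toENat_nat]

/-- (A) a maximal irreducible subset of a fibre has a generic point. -/
theorem exists_generic (y : Y) (Z : Set X) (hZy : Z ⊆ f.base ⁻¹' {y}) (hZ : IsIrreducible Z)
    (hZmax : ∀ Z' : Set X, IsIrreducible Z' → Z' ⊆ f.base ⁻¹' {y} → Z ⊆ Z' → Z' = Z) :
    ∃ ζ₀ : X, ζ₀ ∈ Z ∧ Z = closure {ζ₀} ∩ f.base ⁻¹' {y} := by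
  have hsub : Z ⊆ closure Z ∩ f.base ⁻¹' {y} := fun a ha => ⟨subset_closure ha, hZy ha⟩
  have h1 : closure Z ∩ f.base ⁻¹' {y} = Z :=
    hZmax _ (SubLocDimH8.isIrreducible_of_subset_closure hZ hsub Set.inter_subset_left)
      Set.inter_subset_right hsub
  obtain ⟨ζ₀, hζ₀⟩ := QuasiSober.sober hZ.closure isClosed_closure
  have hcl : closure {ζ₀} = closure Z := hζ₀.def
  obtain ⟨z, hz⟩ := hZ.nonempty
  have hfz : f.base z = y := hZy hz
  have hmem : ζ₀ ∈ closure Z := hcl ▸ subset_closure rfl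
  have hfζ : f.base ζ₀ = y := by
    have a1 : ζ₀ ⤳ z := by rw [specializes_iff_mem_closure, hcl]; exact subset_closure hz
    have a2 : f.base ζ₀ ⤳ y := hfz ▸ a1.map f.base.hom.continuous
    have a3 : f.base ζ₀ ∈ closure (f.base '' Z) :=
      (image_closure_subset_closure_image f.base.hom.continuous) ⟨ζ₀, hmem, rfl⟩
    have a4 : f.base '' Z ⊆ {y} := by rintro _ ⟨w, hw, rfl⟩; exact hZy hw
    have a5 : y ⤳ f.base ζ₀ := specializes_iff_mem_closure.mpr (closure_mono a4 a3)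
    exact (a2.antisymm a5).eq
  refine ⟨ζ₀, ?_, ?_⟩
  · rw [← h1]; exact ⟨hmem, hfζ⟩
  · rw [hcl, h1]

/-- (D) -/
theorem localDim_inter_fiber [LocallyOfFiniteType f] (ζ₀ : X)
    (hmax : ∀ x'' : X, f.base x'' = f.base ζ₀ → x'' ⤳ ζ₀ → x'' = ζ₀)
    (X' : Set X) (hX' : closure {ζ₀} ⊆ X') (hζ : ζ₀ ∈ X' ∩ f.base ⁻¹' {f.base ζ₀}) :
    FlatMor.localDim ↥(X' ∩ f.base ⁻¹' {f.base ζ₀}) ⟨ζ₀, hζ⟩ =
      ((Cardinal.toENat (Dual3.resTrdeg f ζ₀) : ℕ∞) : WithBot ℕ∞) := by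
  have hind := (f.fiberι (f.base ζ₀)).isEmbedding.isInducing
  letI ovZ : (f.fiber (f.base ζ₀)).Over (Spec (CommRingCat.of (Y.residueField (f.base ζ₀)))) :=
    ⟨f.fiberToSpecResidueField (f.base ζ₀)⟩
  haveI hlft : LocallyOfFiniteType
      (f.fiber (f.base ζ₀) ↘ Spec (CommRingCat.of (Y.residueField (f.base ζ₀)))) :=
    Groth.Agent.FibRes2H8.lft_fiber f (f.base ζ₀)
  haveI : IsLocallyNoetherian (f.fiber (f.base ζ₀)) :=
    LocallyOfFiniteType.isLocallyNoetherian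
      (f.fiber (f.base ζ₀) ↘ Spec (CommRingCat.of (Y.residueField (f.base ζ₀))))
  obtain ⟨U', hU'o, hzU', hU'⟩ := Groth.Agent.LocDim2H8.exists_good_nbhd (f.fiber (f.base ζ₀))
    Set.univ isClosed_univ (f.asFiber ζ₀)
  obtain ⟨UX, hUXo, hUX⟩ := hind.isOpen_iff.mp hU'o
  have hζU : ζ₀ ∈ UX := by
    have : f.asFiber ζ₀ ∈ (f.fiberι (f.base ζ₀)).base ⁻¹' UX := by rw [hUX]; exact hzU'
    rw [Set.mem_preimage, Scheme.Hom.fiberι_asFiber] at this
    exact this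
  have hUS : UX ∩ f.base ⁻¹' {f.base ζ₀} ⊆ X' ∩ f.base ⁻¹' {f.base ζ₀} := by
    rintro a ⟨haU, haf⟩
    refine ⟨hX' ?_, haf⟩
    have har : a ∈ Set.range (f.fiberι (f.base ζ₀)).base := by
      rw [Scheme.Hom.range_fiberι]; exact haf
    obtain ⟨a', rfl⟩ := har
    have ha'U : a' ∈ U' := by rw [← hUX]; exact haU
    obtain ⟨η, -, hη1, hη2⟩ := hU' a' ⟨ha'U, trivial⟩
    have hη1' : (f.fiberι (f.base ζ₀)).base η ⤳ ζ₀ := by
      have := hη1.map (f.fiberι (f.base ζ₀)).base.hom.continuous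
      rwa [Scheme.Hom.fiberι_asFiber] at this
    have hηeq := hmax _ (Groth.Agent.FibRes2H8.fiberι_mem f _ η) hη1'
    rw [← specializes_iff_mem_closure]
    have h3 : (f.fiberι (f.base ζ₀)).base η ⤳ (f.fiberι (f.base ζ₀)).base a' :=
      hη2.map (f.fiberι (f.base ζ₀)).base.hom.continuous
    have key : ∀ w : X, w = ζ₀ → w ⤳ (f.fiberι (f.base ζ₀)).base a' →
        ζ₀ ⤳ (f.fiberι (f.base ζ₀)).base a' := by
      rintro _ rfl hw; exact hw
    exact key _ hηeq h3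
  rw [SubLocDimH8.localDim_eq_of_nhd (X' ∩ f.base ⁻¹' {f.base ζ₀}) (f.base ⁻¹' {f.base ζ₀})
    Set.inter_subset_right ζ₀ hζ UX hUXo hζU hUS]
  -- D1
  have hD1 : FlatMor.localDim ↥(f.base ⁻¹' {f.base ζ₀}) ⟨ζ₀, hζ.2⟩ = FlatMor.fibreDimAt f ζ₀ := by
    have := Groth.Agent.FibLocH8.localDim_homeomorph (f.fiberHomeo (f.base ζ₀)) (f.asFiber ζ₀)
    have e : f.fiberHomeo (f.base ζ₀) (f.asFiber ζ₀) = ⟨ζ₀, rfl⟩ :=
      (f.fiberHomeo (f.base ζ₀)).apply_symm_apply ⟨ζ₀, rfl⟩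
    rw [e] at this
    exact this
  rw [hD1, FibCohH8.fibreDimAt_eq f ζ₀, OpenAtEqH8.fibCoh_eq_zero_of_isMax f ζ₀ hmax]
  simp

end FibClosH8
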