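import Mathlib

/-! Lifting generalizations in products over a field, inside the preimage of a closed subset. -/

universe u
open AlgebraicGeometry CategoryTheory CategoryTheory.Limits TopologicalSpace

namespace ProdGenH8

/-- every closed subset is the range of a closed immersion. -/
theorem exists_closedImmersion_range (Y : Scheme.{u}) (C : Set Y) (hC : IsClosed C) :
    ∃ (Y'' : Scheme.{u}) (i : Y'' ⟶ Y), IsClosedImmersion i ∧ Set.range i = C := by
  refine ⟨_, (Scheme.IdealSheafData.vanishingIdeal ⟨C, hC⟩).subschemeι, inferInstance, ?_⟩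
  rw [Scheme.IdealSheafData.range_subschemeι, Scheme.IdealSheafData.coe_support_vanishingIdeal]
  rfl

/-- **Lemma G.** `P = X ×_k Y`; `C ⊆ Y` closed.  The projection `q⁻¹(C) → X` lifts
generalizations. -/
theorem exists_generalization {k : Type u} [Field k] {P X Y : Scheme.{u}}
    {p : P ⟶ X} {q : P ⟶ Y} {f : X ⟶ Spec (CommRingCat.of k)} {g : Y ⟶ Spec (CommRingCat.of k)}
    (sq : IsPullback p q f g) (C : Set Y) (hC : IsClosed C) (w : P) (hw : q w ∈ C)
    (ξ : X) (hξ : ξ ⤳ p w) :
    ∃ w₁ : P, w₁ ⤳ w ∧ p w₁ = ξ ∧ q w₁ ∈ C := by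
  obtain ⟨Y'', i, hi, hrange⟩ := exists_closedImmersion_range Y C hC
  have sq1 : IsPullback (pullback.snd q i) (pullback.fst q i) i q :=
    (IsPullback.of_hasPullback q i).flip
  have sq2 := sq1.paste_vert sq.flip
  haveI : Flat (i ≫ g) := inferInstance
  haveI : Flat (pullback.fst q i ≫ p) := MorphismProperty.of_isPullback sq2 inferInstance
  obtain ⟨y'', hy''⟩ : q w ∈ Set.range i := hrange ▸ hw
  obtain ⟨t, ht1, ht2⟩ := Scheme.Pullback.exists_preimage_pullback (f := q) (g := i) w y'' hy''.symm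
  have hξ' : ξ ⤳ (pullback.fst q i ≫ p) t := by
    rw [Scheme.Hom.comp_apply, ht1]; exact hξ
  obtain ⟨t₁, ht₁, hpt₁⟩ := Flat.generalizingMap (pullback.fst q i ≫ p) hξ'
  refine ⟨(pullback.fst q i) t₁, ?_, ?_, ?_⟩
  · rw [← ht1]
    exact ht₁.map (pullback.fst q i).continuous
  · rw [← Scheme.Hom.comp_apply]; exact hpt₁
  · rw [← hrange]
    refine ⟨(pullback.snd q i) t₁, ?_⟩
    rw [← Scheme.Hom.comp_apply, ← Scheme.Hom.comp_apply, pullback.condition]

end ProdGenH8
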