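import Mathlib
import Groth.Agent.Lib.FibDim_helper8

/-! Ring-level lemmas on dimensions of quotients by primes under a local homomorphism. -/

open IsLocalRing

namespace QuotDimH8

open Groth.Agent.FibDim

/-- **R1.** `dim B/q ≤ dim A/(q ∩ A) + dim B/m_A B`. -/
theorem dim_quot_prime_le {A B : Type*} [CommRing A] [CommRing B] [IsNoetherianRing A]
    [IsNoetherianRing B] [IsLocalRing A] [IsLocalRing B] [Algebra A B]
    [IsLocalHom (algebraMap A B)] (q : Ideal B) [q.IsPrime] :
    ringKrullDim (B ⧸ q) ≤ ringKrullDim (A ⧸ q.comap (algebraMap A B)) +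
      ringKrullDim (B ⧸ (maximalIdeal A).map (algebraMap A B)) := by
  set p := q.comap (algebraMap A B) with hp
  have hI : p ≤ maximalIdeal A := le_maximalIdeal (Ideal.IsPrime.ne_top inferInstance)
  haveI : Nontrivial (A ⧸ p) := nontrivial_quot hI
  haveI : IsLocalRing (A ⧸ p) := isLocalRing_quot hI
  haveI : Nontrivial (B ⧸ p.map (algebraMap A B)) := nontrivial_quot (map_le_maximalIdeal hI)
  haveI : IsLocalRing (B ⧸ p.map (algebraMap A B)) := isLocalRing_quot (map_le_maximalIdeal hI)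
  haveI : IsLocalHom (algebraMap (A ⧸ p) (B ⧸ p.map (algebraMap A B))) := isLocalHom_quot hI
  have h1 := dim_le (A := A ⧸ p) (B := B ⧸ p.map (algebraMap A B))
  rw [ringKrullDim_eq_of_ringEquiv (fibEquiv p hI)] at h1
  have hle : p.map (algebraMap A B) ≤ q := Ideal.map_comap_le
  have h2 : ringKrullDim (B ⧸ q) ≤ ringKrullDim (B ⧸ p.map (algebraMap A B)) :=
    ringKrullDim_le_of_surjective (Ideal.Quotient.factor hle) (Ideal.Quotient.factor_surjective hle)
  exact h2.trans h1

theorem zeroLocus_eq_Ici {A : Type*} [CommRing A] (P : PrimeSpectrum A) :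
    PrimeSpectrum.zeroLocus (P.asIdeal : Set A) = Set.Ici P := by
  ext x
  rw [PrimeSpectrum.mem_zeroLocus, Set.mem_Ici]
  rfl

theorem dim_quot_eq_coheight {A : Type*} [CommRing A] (P : PrimeSpectrum A) :
    ringKrullDim (A ⧸ P.asIdeal) = Order.coheight P := by
  rw [ringKrullDim_quotient, zeroLocus_eq_Ici, Order.coheight_eq_krullDim_Ici]

/-- **R2.** -/
theorem mem_minimalPrimes_of_dim_quot_eq {A : Type*} [CommRing A] [IsNoetherianRing A]
    [IsLocalRing A] (p : Ideal A) [hp : p.IsPrime] (h : ringKrullDim (A ⧸ p) = ringKrullDim A) :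
    p ∈ minimalPrimes A := by
  by_contra hcon
  obtain ⟨p', hp'min, hp'le⟩ := Ideal.exists_minimalPrimes_le (I := (⊥ : Ideal A)) (J := p) bot_le
  have hne : p' ≠ p := fun h => hcon (h ▸ hp'min)
  haveI := hp'min.1.1
  set P : PrimeSpectrum A := ⟨p, hp⟩
  set P' : PrimeSpectrum A := ⟨p', hp'min.1.1⟩
  have hlt : P' < P := lt_of_le_of_ne hp'le (fun h => hne (congrArg PrimeSpectrum.asIdeal h))
  have h1 := Order.coheight_add_one_le hlt
  have h2 : ((Order.coheight P' : ℕ∞) : WithBot ℕ∞) ≤ ringKrullDim A := Order.coheight_le_krullDim P'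
  have h3 : ringKrullDim (A ⧸ p) = Order.coheight P := dim_quot_eq_coheight P
  rw [h3] at h
  have h4 : ((Order.coheight P + 1 : ℕ∞) : WithBot ℕ∞) ≤ ringKrullDim A :=
    (WithBot.coe_le_coe.mpr h1).trans h2
  rw [← h] at h4
  have h5 : Order.coheight P + 1 ≤ Order.coheight P := WithBot.coe_le_coe.mp h4
  have hfin : Order.coheight P ≠ ⊤ := by
    intro htop
    rw [htop] at h
    exact ringKrullDim_ne_top h.symm
  exact absurd h5 (not_le.mpr (ENat.lt_add_one_iff hfin |>.mpr le_rfl))

end QuotDimH8
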