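import Mathlib
import Groth.Prelude.Def_EGA43
import Groth.Agent.Lib.OpenAtEq_helper8
import Groth.Agent.Lib.QuotDim_helper8
import Groth.Agent.Lib.FibGen2_helper8
import Groth.Agent.Lib.ProdGen_helper8
import Groth.Agent.Lib.ResTrdeg1_helper8

/-! EGA IV 14.2.4, core: at a point `ζ` maximal in its fibre where `f` is open, some irreducible
component of `X` through `ζ` dominates the (irreducible) base and has the right relative dimension. -/

universe u
open AlgebraicGeometry CategoryTheory TopologicalSpace IsLocalRing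

namespace OpenAtCompH8

open OpenAtDimH8

/-- **P1.** a chain in `X` from `ζ` to the point of a prime `Q` of `O_ζ` bounds `dim O_ζ/Q` below. -/
theorem le_dim_quot_of_ltSeries (X : Scheme.{u}) (ζ : X) (l : LTSeries X) (hhead : l.head = ζ)
    (Q : Spec (X.presheaf.stalk ζ)) (hQ : X.fromSpecStalk ζ Q = l.last) :
    (l.length : WithBot ℕ∞) ≤ ringKrullDim (X.presheaf.stalk ζ ⧸ Q.asIdeal) := by
  rw [ringKrullDim, ← Order.krullDim_orderDual (α := PrimeSpectrum (X.presheaf.stalk ζ ⧸ Q.asIdeal))]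
  have hsp : ∀ j : Fin (l.length + 1), l j ⤳ ζ := by
    intro j
    rw [← hhead]
    exact l.head_le j
  choose Qj hQj using fun j => exists_fromSpecStalk_eq ζ (hsp j)
  have hQle : ∀ j, Q.asIdeal ≤ (Qj j).asIdeal := by
    intro j
    rw [← fromSpecStalk_specializes_iff, hQ, hQj]
    exact l.monotone (Fin.le_last j)
  have hmem : ∀ j, Qj j ∈ Set.range (PrimeSpectrum.comap (Ideal.Quotient.mk Q.asIdeal)) := by
    intro j
    rw [_root_.range_comap_of_surjective _ _ Ideal.Quotient.mk_surjective, Ideal.mk_ker]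
    exact hQle j
  choose Qb hQb using hmem
  let g : Fin (l.length + 1) → (PrimeSpectrum (X.presheaf.stalk ζ ⧸ Q.asIdeal))ᵒᵈ :=
    fun j => OrderDual.toDual (Qb j)
  have hg : StrictMono g := by
    intro j k hjk
    have h1 : l j < l k := l.strictMono hjk
    have h2 : l k ⤳ l j := h1.le
    have h3 : ¬ l j ⤳ l k := fun h => (not_le_of_gt h1) h
    rw [← hQj j, ← hQj k, fromSpecStalk_specializes_iff] at h2 h3
    show Qb k < Qb j
    rw [lt_iff_le_not_ge]
    constructor
    · show (Qb k).asIdeal ≤ (Qb j).asIdeal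
      intro a ha
      obtain ⟨a, rfl⟩ := Ideal.Quotient.mk_surjective a
      have : a ∈ (Qj k).asIdeal := by rw [← hQb k]; exact ha
      have := h2 this
      rw [← hQb j] at this
      exact this
    · intro hle
      apply h3
      intro a ha
      rw [← hQb j] at ha
      have := hle ha
      rw [← hQb k]
      exact this
  exact Order.LTSeries.length_le_krullDim (LTSeries.mk l.length g hg)

/-- closed immersions do not change residue transcendence degrees. -/
theorem resTrdeg_closedImmersion_comp {X'' X Y : Scheme.{u}} (i : X'' ⟶ X) [IsClosedImmersion i]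
    (f : X ⟶ Y) (w : X'') : Dual3.resTrdeg (i ≫ f) w = Dual3.resTrdeg f (i.base w) := by
  rw [ResTrdegH8.resTrdeg_comp, ResTrdegH8.resTrdeg_eq_zero_of_lqf i w, add_zero]

variable {X Y : Scheme.{u}} (f : X ⟶ Y)

/-- **Core of EGA IV 14.2.4.** -/
theorem core [IsLocallyNoetherian Y] [IrreducibleSpace Y] [LocallyOfFiniteType f] (ζ : X)
    (hopen : EGA43.IsOpenAt f.base ζ)
    (hmax : ∀ x'' : X, f.base x'' = f.base ζ → x'' ⤳ ζ → x'' = ζ) :
    ∃ ξ : X, (∀ ξ' : X, ξ' ⤳ ξ → ξ' = ξ) ∧ ξ ⤳ ζ ∧ f.base ξ = genericPoint Y ∧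
      Dual3.resTrdeg f ξ = Dual3.resTrdeg f ζ := by
  haveI : IsLocallyNoetherian X := LocallyOfFiniteType.isLocallyNoetherian f
  have hcoh : Order.coheight ζ = Order.coheight (f.base ζ) :=
    OpenAtEqH8.coheight_eq_of_isOpenAt f ζ hopen hmax
  obtain ⟨d, hd⟩ := ENat.ne_top_iff_exists.mp (OpenAtEqH8.coheight_ne_top ζ)
  obtain ⟨l, hlhead, hllen⟩ := Order.exists_series_of_coheight_eq_coe ζ hd.symm
  set ξ := l.last with hξ
  have hξζ : ξ ⤳ ζ := by
    have := l.head_le_last
    rw [hlhead] at this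
    exact this
  have hξmax : ∀ ξ' : X, ξ' ⤳ ξ → ξ' = ξ := by
    intro ξ' hsp
    by_contra hne
    have hlt : l.last < ξ' := by
      rw [lt_iff_le_not_ge]
      refine ⟨hsp, fun h => hne ?_⟩
      exact (hsp.antisymm h).eq
    have h1 := Order.length_le_coheight_head (p := l.snoc ξ' hlt)
    rw [RelSeries.head_snoc, hlhead, RelSeries.snoc_length, ← hd, hllen] at h1
    have : (d + 1 : ℕ) ≤ d := by exact_mod_cast h1
    omega
  -- ring part
  letI : Algebra (Y.presheaf.stalk (f.base ζ)) (X.presheaf.stalk ζ) :=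
    (f.stalkMap ζ).hom.toAlgebra
  haveI : IsLocalHom (algebraMap (Y.presheaf.stalk (f.base ζ)) (X.presheaf.stalk ζ)) :=
    inferInstanceAs (IsLocalHom (f.stalkMap ζ).hom)
  obtain ⟨Q, hQ⟩ := exists_fromSpecStalk_eq ζ hξζ
  have hP1 := le_dim_quot_of_ltSeries X ζ l hlhead Q hQ
  have hR1 := QuotDimH8.dim_quot_prime_le (A := Y.presheaf.stalk (f.base ζ))
    (B := X.presheaf.stalk ζ) Q.asIdeal
  have hfib : ringKrullDim (X.presheaf.stalk ζ ⧸
      (maximalIdeal (Y.presheaf.stalk (f.base ζ))).map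
        (algebraMap (Y.presheaf.stalk (f.base ζ)) (X.presheaf.stalk ζ))) = 0 := by
    have := dim_quot_eq f ζ
    rw [FibCohH8.stalk_fiber_eq_fibCoh, OpenAtEqH8.fibCoh_eq_zero_of_isMax f ζ hmax] at this
    exact this
  rw [hfib, add_zero] at hR1
  have hA : ringKrullDim (Y.presheaf.stalk (f.base ζ)) = (d : WithBot ℕ∞) := by
    rw [AlgebraicGeometry.ringKrullDim_stalk_eq_coheight, ← hcoh, ← hd]
    rfl
  set p₁ := Q.asIdeal.comap (algebraMap (Y.presheaf.stalk (f.base ζ)) (X.presheaf.stalk ζ))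
    with hp₁
  have hle : ringKrullDim (Y.presheaf.stalk (f.base ζ) ⧸ p₁) ≤
      ringKrullDim (Y.presheaf.stalk (f.base ζ)) := ringKrullDim_quotient_le _
  have heq : ringKrullDim (Y.presheaf.stalk (f.base ζ) ⧸ p₁) =
      ringKrullDim (Y.presheaf.stalk (f.base ζ)) := by
    apply le_antisymm hle
    rw [hA, ← hllen]
    exact hP1.trans hR1
  have hmin := QuotDimH8.mem_minimalPrimes_of_dim_quot_eq p₁ heq
  have hfξ : f.base ξ = genericPoint Y := by
    have h1 : f.base ξ = Y.fromSpecStalk (f.base ζ) ((Spec.map (f.stalkMap ζ)).base Q) := by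
      rw [← hQ, map_fromSpecStalk]
    have h2 : genericPoint Y ⤳ f.base ξ := genericPoint_specializes _
    have h3 : f.base ξ ⤳ f.base ζ := hξζ.map f.continuous
    obtain ⟨P₀, hP₀⟩ := exists_fromSpecStalk_eq (f.base ζ) (h2.trans h3)
    have h4 : P₀.asIdeal ≤ ((Spec.map (f.stalkMap ζ)).base Q).asIdeal := by
      rw [← fromSpecStalk_specializes_iff, hP₀, ← h1]
      exact h2
    have h5 : ((Spec.map (f.stalkMap ζ)).base Q).asIdeal = p₁ := rfl
    rw [h5] at h4
    have h6 : p₁ ≤ P₀.asIdeal := hmin.2 ⟨P₀.2, bot_le⟩ h4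
    have h7 : P₀ = (Spec.map (f.stalkMap ζ)).base Q := by
      apply PrimeSpectrum.ext
      rw [h5]
      exact le_antisymm h4 h6
    rw [h1, ← h7, hP₀]
  refine ⟨ξ, hξmax, hξζ, hfξ, ?_⟩
  -- transcendence degrees
  obtain ⟨e', he'⟩ := Groth.Agent.ResQuot2H8.exists_trdeg_nat f ξ
  obtain ⟨t, ht⟩ := Groth.Agent.ResQuot2H8.exists_trdeg_nat f ζ
  have he'' : Dual3.resTrdeg f ξ = e' := he'
  have ht'' : Dual3.resTrdeg f ζ = t := ht
  rw [he'', ht'']
  have hle1 : e' ≤ t := by
    have h1 := FibGenH8.fibreDimAt_le_of_specializes f hξζ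
    rw [FibGenH8.fibreDimAt_of_isMax f ξ hξmax, FibCohH8.fibreDimAt_eq f ζ,
      OpenAtEqH8.fibCoh_eq_zero_of_isMax f ζ hmax, he'', ht'', Cardinal.toENat_nat,
      Cardinal.toENat_nat] at h1
    have : ((e' : ℕ∞) : WithBot ℕ∞) ≤ ((t : ℕ∞) : WithBot ℕ∞) := by simpa using h1
    exact_mod_cast this
  have hle2 : t ≤ e' := by
    obtain ⟨X'', i, hi, hrange⟩ :=
      ProdGenH8.exists_closedImmersion_range X (closure {ξ}) isClosed_closure
    have hemb := i.isEmbedding
    have hmem : ∀ j : Fin (l.length + 1), l j ∈ Set.range i.base := by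
      intro j
      rw [hrange, ← specializes_iff_mem_closure]
      exact l.monotone (Fin.le_last j)
    choose w hw using hmem
    have hwmono : StrictMono w := by
      intro j k hjk
      have h1 : l j < l k := l.strictMono hjk
      rw [lt_iff_le_not_ge] at h1 ⊢
      constructor
      · show w k ⤳ w j
        rw [← hemb.isInducing.specializes_iff, hw, hw]
        exact h1.1
      · intro h
        apply h1.2
        have h' : w j ⤳ w k := h
        rw [← hemb.isInducing.specializes_iff, hw, hw] at h'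
        exact h'
    set l'' : LTSeries X'' := LTSeries.mk l.length w hwmono with hl''
    set ζ'' := w 0 with hζ''
    have hiζ'' : i.base ζ'' = ζ := by
      rw [hζ'', hw, ← hlhead]; rfl
    have hcoh'' : (d : ℕ∞) ≤ Order.coheight ζ'' := by
      have := Order.length_le_coheight_head (p := l'')
      rw [← hllen]
      exact this
    have hgζ'' : (i ≫ f).base ζ'' = f.base ζ := by
      rw [Scheme.Hom.comp_base, TopCat.coe_comp, Function.comp_apply, hiζ'']
    have H : ∀ v : X'', (∀ v' : X'', v' ⤳ v → v' = v) → v ⤳ ζ'' →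
        Dual3.resTrdeg (i ≫ f) v ≤ e' := by
      intro v hv _
      have h1 : w (Fin.last _) ⤳ v := by
        rw [← hemb.isInducing.specializes_iff, hw, specializes_iff_mem_closure]
        have : i.base v ∈ Set.range i.base := ⟨v, rfl⟩
        rw [hrange] at this
        exact this
      have h2 := hv _ h1
      rw [resTrdeg_closedImmersion_comp, ← h2, hw]
      exact le_of_eq he''
    have key := FibGenH8.coheight_add_trdeg_le (i ≫ f) ζ'' e' H
    rw [hgζ'', ← hcoh, ← hd, resTrdeg_closedImmersion_comp, hiζ'', ht'', Cardinal.toENat_nat] at key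
    have h3 : (d : ℕ∞) + (t : ℕ∞) ≤ (d : ℕ∞) + (e' : ℕ∞) :=
      (add_le_add_left hcoh'' _).trans key
    have : d + t ≤ d + e' := by exact_mod_cast h3
    omega
  have : t = e' := le_antisymm hle2 hle1
  rw [this]

end OpenAtCompH8
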