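import Mathlib
import Groth.Prelude.Def_EGA43
import Groth.Agent.Lib.EquidimChar_helper8
import Groth.Agent.Lib.DomRing_helper8
import Groth.Agent.Lib.OpenAtDim_helper8
import Groth.Agent.Lib.OpenAtComp_helper8
import Groth.Agent.Lib.FibClos_helper8
import Groth.Agent.Lib.Chev4_helper8

/-! EGA IV 13.3.6-type results: restriction of an equidimensional morphism to closed subsets. -/

universe u
open AlgebraicGeometry CategoryTheory TopologicalSpace IsLocalRing

namespace EquidimSubH8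

variable {X Y : Scheme.{u}} (f : X ⟶ Y)

/-- (W4) dominance from equality of dimensions. -/
theorem map_eq_genericPoint [IrreducibleSpace Y] [IsLocallyNoetherian Y] [LocallyOfFiniteType f]
    (x' : X)
    (hgen : ∀ ξ : X, ξ ⤳ x' → (∀ ξ' : X, ξ' ⤳ ξ → ξ' = ξ) → f.base ξ = genericPoint Y)
    (hdim : ringKrullDim ((f.fiber (f.base x')).presheaf.stalk (f.asFiber x')) =
      ringKrullDim (X.presheaf.stalk x')) :
    f.base x' = genericPoint Y := by
  haveI : IsLocallyNoetherian X := LocallyOfFiniteType.isLocallyNoetherian f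
  letI : Algebra (Y.presheaf.stalk (f.base x')) (X.presheaf.stalk x') :=
    (f.stalkMap x').hom.toAlgebra
  haveI : IsLocalHom (algebraMap (Y.presheaf.stalk (f.base x')) (X.presheaf.stalk x')) :=
    inferInstanceAs (IsLocalHom (f.stalkMap x').hom)
  -- the generic point as a prime of `O_{Y,y'}`
  have hηsp : genericPoint Y ⤳ f.base x' := genericPoint_specializes _
  obtain ⟨P, hP⟩ := OpenAtDimH8.exists_fromSpecStalk_eq (f.base x') hηsp
  have hPmin : P.asIdeal ∈ minimalPrimes (Y.presheaf.stalk (f.base x')) := by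
    refine ⟨⟨P.isPrime, bot_le⟩, ?_⟩
    rintro P' ⟨hP'prime, -⟩ hP'P
    let P'' : Spec (Y.presheaf.stalk (f.base x')) := ⟨P', hP'prime⟩
    have h1 : Y.fromSpecStalk (f.base x') P'' ⤳ Y.fromSpecStalk (f.base x') P :=
      (OpenAtDimH8.fromSpecStalk_specializes_iff (f.base x') P'' P).mpr hP'P
    rw [hP] at h1
    have h2 : genericPoint Y ⤳ Y.fromSpecStalk (f.base x') P'' := genericPoint_specializes _
    have h3 : Y.fromSpecStalk (f.base x') P'' = Y.fromSpecStalk (f.base x') P := by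
      rw [hP]; exact (h1.antisymm h2).eq
    have h4 : P'' = P := (Y.fromSpecStalk (f.base x')).isEmbedding.injective h3
    rw [← h4]
  have hB : ∀ q ∈ minimalPrimes (X.presheaf.stalk x'),
      q.comap (algebraMap (Y.presheaf.stalk (f.base x')) (X.presheaf.stalk x')) ∈
        minimalPrimes (Y.presheaf.stalk (f.base x')) := by
    intro q hq
    haveI hqp : q.IsPrime := hq.1.1
    let Q : Spec (X.presheaf.stalk x') := ⟨q, hqp⟩
    have hξsp : X.fromSpecStalk x' Q ⤳ x' := by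
      have : X.fromSpecStalk x' Q ∈ Set.range (X.fromSpecStalk x') := ⟨Q, rfl⟩
      rw [Scheme.range_fromSpecStalk] at this
      exact this
    have hξmax : ∀ ξ' : X, ξ' ⤳ X.fromSpecStalk x' Q → ξ' = X.fromSpecStalk x' Q := by
      intro ξ' hξ'
      obtain ⟨Q', rfl⟩ := OpenAtDimH8.exists_fromSpecStalk_eq x' (hξ'.trans hξsp)
      rw [OpenAtDimH8.fromSpecStalk_specializes_iff] at hξ'
      have h1 : q ≤ Q'.asIdeal := hq.2 ⟨Q'.isPrime, bot_le⟩ hξ'
      have h2 : Q' = Q := PrimeSpectrum.ext (le_antisymm hξ' h1)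
      rw [h2]
    have hfξ := hgen _ hξsp hξmax
    rw [← hP] at hfξ
    have := OpenAtDimH8.comap_eq_of_map_eq f x' Q P hfξ
    have h5 : q.comap (algebraMap (Y.presheaf.stalk (f.base x')) (X.presheaf.stalk x')) =
        P.asIdeal := this
    rw [h5]
    exact hPmin
  have hdim' : ringKrullDim (X.presheaf.stalk x' ⧸ (maximalIdeal (Y.presheaf.stalk (f.base x'))).map
      (algebraMap (Y.presheaf.stalk (f.base x')) (X.presheaf.stalk x'))) =
      ringKrullDim (X.presheaf.stalk x') := by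
    rw [← hdim]
    exact OpenAtDimH8.dim_quot_eq f x'
  have hmin := DomRingH8.maximalIdeal_mem_minimalPrimes hB hdim'
  -- conclude
  have hle : P.asIdeal ≤ maximalIdeal (Y.presheaf.stalk (f.base x')) :=
    IsLocalRing.le_maximalIdeal P.isPrime.ne_top
  have hge := hmin.2 ⟨P.isPrime, bot_le⟩ hle
  have hPeq : P = closedPoint (Y.presheaf.stalk (f.base x')) :=
    PrimeSpectrum.ext (le_antisymm hle hge)
  rw [← hP, hPeq, Scheme.fromSpecStalk_closedPoint]

theorem localDim_congr {T : Type*} [TopologicalSpace T] {S S' : Set T} (h : S = S') (t : T)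
    (ht : t ∈ S) : FlatMor.localDim ↥S ⟨t, ht⟩ = FlatMor.localDim ↥S' ⟨t, h ▸ ht⟩ := by
  subst h; rfl

/-- `fibreDimAt` as the local dimension of the set-theoretic fibre. -/
theorem fibreDimAt_eq_localDim_preimage (w : X) :
    FlatMor.fibreDimAt f w = FlatMor.localDim ↥(f.base ⁻¹' {f.base w}) ⟨w, rfl⟩ := by
  have := Groth.Agent.FibLocH8.localDim_homeomorph (f.fiberHomeo (f.base w)) (f.asFiber w)
  have e : f.fiberHomeo (f.base w) (f.asFiber w) = ⟨w, rfl⟩ :=
    (f.fiberHomeo (f.base w)).apply_symm_apply ⟨w, rfl⟩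
  rw [e] at this
  exact this.symm

/-- (W2) bridging for embeddings. -/
theorem fibreDimAt_comp_eq_localDim {X'' : Scheme.{u}} (i : X'' ⟶ X)
    (hi : Topology.IsEmbedding i.base) (w : X'') :
    FlatMor.fibreDimAt (i ≫ f) w =
      FlatMor.localDim ↥(Set.range i.base ∩ f.base ⁻¹' {f.base (i.base w)})
        ⟨i.base w, ⟨⟨w, rfl⟩, rfl⟩⟩ := by
  rw [fibreDimAt_eq_localDim_preimage]
  let ψ := hi.homeomorphImage ((i ≫ f).base ⁻¹' {(i ≫ f).base w})
  have h1 := Groth.Agent.FibLocH8.localDim_homeomorph ψ ⟨w, rfl⟩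
  rw [← h1]
  have hset : i.base '' ((i ≫ f).base ⁻¹' {(i ≫ f).base w}) =
      Set.range i.base ∩ f.base ⁻¹' {f.base (i.base w)} := by
    ext a
    constructor
    · rintro ⟨v, hv, rfl⟩
      exact ⟨⟨v, rfl⟩, hv⟩
    · rintro ⟨⟨v, rfl⟩, hv⟩
      exact ⟨v, hv, rfl⟩
  exact localDim_congr hset (i.base w) ⟨w, rfl, rfl⟩

theorem fiberStalk_dim_le (x' : X) :
    ringKrullDim ((f.fiber (f.base x')).presheaf.stalk (f.asFiber x')) ≤
      ringKrullDim (X.presheaf.stalk x') := by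
  have h1 : Function.Surjective ((f.fiberι (f.base x')).stalkMap (f.asFiber x')).hom :=
    (f.fiberι (f.base x')).stalkMap_surjective (f.asFiber x')
  have h2 := ringKrullDim_le_of_surjective _ h1
  have h3 : ringKrullDim ↑(X.presheaf.stalk ((f.fiberι (f.base x')).base (f.asFiber x'))) =
      ringKrullDim ↑(X.presheaf.stalk x') :=
    congrArg (fun z => ringKrullDim ↑(X.presheaf.stalk z)) (f.fiberι_asFiber x')
  exact h2.trans h3.le

/-- (K) the key numerical lemma. -/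
theorem key [IrreducibleSpace Y] [IsLocallyNoetherian Y] [LocallyOfFiniteType f]
    (e : ℕ) (U : X.Opens)
    (hconst : ∀ u ∈ U, FlatMor.fibreDimAt f u = (e : WithBot ℕ∞))
    (hdom : ∀ ξ ∈ U, (∀ ξ' : X, ξ' ⤳ ξ → ξ' = ξ) → f.base ξ = genericPoint Y)
    {X'' : Scheme.{u}} (i : X'' ⟶ X) [IsClosedImmersion i] (w : X'')
    (hwU : i.base w ∈ U) (n : ℕ)
    (hb : FlatMor.fibreDimAt (i ≫ f) w + n ≤ (e : WithBot ℕ∞))
    (x'' : X'') (hmax : ∀ a : X'', a ⤳ x'' → a = x'') (hsp : x'' ⤳ w)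
    (ha : ringKrullDim (X.presheaf.stalk (i.base x'')) ≤ n) :
    ringKrullDim (X.presheaf.stalk (i.base x'')) = n ∧
      FlatMor.fibreDimAt (i ≫ f) w + n = (e : WithBot ℕ∞) ∧
      FlatMor.fibreDimAt (i ≫ f) x'' + n = (e : WithBot ℕ∞) ∧
      f.base (i.base x'') = genericPoint Y := by
  have hsp' : i.base x'' ⤳ i.base w := hsp.map i.base.hom.continuous
  have hx'U : i.base x'' ∈ U := hsp'.mem_open U.2 hwU
  obtain ⟨t, ht⟩ := Groth.Agent.ResQuot2H8.exists_trdeg_nat f (i.base x'')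
  have ht' : Dual3.resTrdeg f (i.base x'') = t := ht
  have k1 : FlatMor.fibreDimAt (i ≫ f) x'' = (t : WithBot ℕ∞) := by
    rw [FibGenH8.fibreDimAt_of_isMax (i ≫ f) x'' hmax,
      OpenAtCompH8.resTrdeg_closedImmersion_comp i f x'', ht', Cardinal.toENat_nat]
    rfl
  have k2 : FlatMor.fibreDimAt (i ≫ f) x'' ≤ FlatMor.fibreDimAt (i ≫ f) w :=
    FibGenH8.fibreDimAt_le_of_specializes (i ≫ f) hsp
  have k3 := hconst _ hx'U
  rw [FibCohH8.fibreDimAt_eq f (i.base x''), ht', Cardinal.toENat_nat] at k3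
  have k4 : ((FibCohH8.fibCoh f (i.base x'') : ℕ∞) : WithBot ℕ∞) ≤
      ringKrullDim (X.presheaf.stalk (i.base x'')) := by
    rw [← FibCohH8.stalk_fiber_eq_fibCoh]
    exact fiberStalk_dim_le f (i.base x'')
  -- make everything natural
  have hc_le : FibCohH8.fibCoh f (i.base x'') ≤ (e : ℕ∞) := by
    have : ((FibCohH8.fibCoh f (i.base x'') : ℕ∞) : WithBot ℕ∞) ≤ (e : WithBot ℕ∞) := by
      rw [← k3]
      exact_mod_cast le_self_add
    exact_mod_cast this
  obtain ⟨c, hc⟩ := ENat.ne_top_iff_exists.mp (ne_top_of_le_ne_top (ENat.natCast_ne_top e) hc_le)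
  rw [← hc] at k3 k4
  have k3' : c + t = e := by exact_mod_cast k3
  have k4' : ((c : ℕ) : WithBot ℕ∞) ≤ (n : WithBot ℕ∞) := k4.trans ha
  have k4'' : c ≤ n := by exact_mod_cast k4'
  rw [k1] at k2
  generalize hL : FlatMor.fibreDimAt (i ≫ f) w = L at hb k2
  induction L with
  | bot => simp at k2
  | coe L =>
    induction L with
    | top =>
      exfalso
      have : ((⊤ : ℕ∞) : WithBot ℕ∞) + (n : WithBot ℕ∞) ≤ (e : WithBot ℕ∞) := hb
      have h2 : ((⊤ : ℕ∞) : WithBot ℕ∞) + (n : WithBot ℕ∞) = ((⊤ : ℕ∞) : WithBot ℕ∞) := by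
        rfl
      rw [h2] at this
      have h3 : (⊤ : ℕ∞) ≤ (e : ℕ∞) := by exact_mod_cast this
      simp at h3
    | coe l =>
      have hb' : l + n ≤ e := by exact_mod_cast hb
      have k2' : t ≤ l := by exact_mod_cast k2
      have e1 : c = n := by omega
      have e2 : t = l := by omega
      have e3 : l + n = e := by omega
      have hdimeq : ringKrullDim (X.presheaf.stalk (i.base x'')) = n := by
        apply le_antisymm ha
        rw [← e1]; exact k4
      refine ⟨hdimeq, by exact_mod_cast e3, ?_, ?_⟩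
      · rw [k1, e2]; exact_mod_cast e3
      · apply map_eq_genericPoint f (i.base x'')
        · intro ξ hξ hξmax
          exact hdom ξ (hξ.mem_open U.2 hx'U) hξmax
        · rw [FibCohH8.stalk_fiber_eq_fibCoh, ← hc, hdimeq, e1]
          rfl

theorem isMax_of_coheight {T : Scheme.{u}} {a : T} (h : Order.coheight a = 0) :
    ∀ b : T, b ⤳ a → b = a := by
  rw [Order.coheight_eq_zero] at h
  intro b hb
  exact (hb.antisymm (h hb)).eq

/-- **Main theorem (EGA IV 13.3.6, for arbitrary closed subschemes).** -/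
theorem main [IrreducibleSpace Y] [IsLocallyNoetherian Y] [LocallyOfFiniteType f] (x : X)
    (hf : EGA43.IsEquidimAt f x) {X'' : Scheme.{u}} (i : X'' ⟶ X) [IsClosedImmersion i] (w : X'')
    (hw : i.base w = x) (n : ℕ)
    (ha : ∀ x'' : X'', (∀ a : X'', a ⤳ x'' → a = x'') → x'' ⤳ w →
      ringKrullDim (X.presheaf.stalk (i.base x'')) ≤ n)
    (hb : FlatMor.fibreDimAt (i ≫ f) w + n ≤ FlatMor.fibreDimAt f x) :
    (∀ x'' : X'', (∀ a : X'', a ⤳ x'' → a = x'') → x'' ⤳ w →
      ringKrullDim (X.presheaf.stalk (i.base x'')) = n) ∧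
    FlatMor.fibreDimAt (i ≫ f) w + n = FlatMor.fibreDimAt f x ∧
    EGA43.IsEquidimAt (i ≫ f) w := by
  obtain ⟨e, U, hxU, hconst, hdom⟩ := EquidimCharH8.exists_of_isEquidimAt f x hf
  have hwU : i.base w ∈ U := hw ▸ hxU
  have he : FlatMor.fibreDimAt f x = (e : WithBot ℕ∞) := hconst x hxU
  rw [he] at hb ⊢
  have K := fun x'' hmax hsp => key f e U hconst hdom i w hwU n hb x'' hmax hsp (ha x'' hmax hsp)
  haveI : IsLocallyNoetherian X := LocallyOfFiniteType.isLocallyNoetherian f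
  haveI : IsLocallyNoetherian X'' := LocallyOfFiniteType.isLocallyNoetherian i
  obtain ⟨x₀, hx₀w, hx₀⟩ := CodimZeroH8.exists_isMax_ge w
  have hx₀max := isMax_of_coheight hx₀
  obtain ⟨-, hL, -, -⟩ := K x₀ hx₀max hx₀w
  refine ⟨fun x'' hmax hsp => (K x'' hmax hsp).1, hL, ?_⟩
  -- e' with e' + n = e
  have hne : n ≤ e := by
    generalize FlatMor.fibreDimAt (i ≫ f) w = L at hL
    induction L with
    | bot => simp at hL
    | coe L =>
      have : L + (n : ℕ∞) = (e : ℕ∞) := by exact_mod_cast hL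
      have h2 : (n : ℕ∞) ≤ (e : ℕ∞) := this ▸ le_add_self
      exact_mod_cast h2
  obtain ⟨e', rfl⟩ : ∃ e', e = e' + n := ⟨e - n, by omega⟩
  have hval : ∀ L : WithBot ℕ∞, L + (n : WithBot ℕ∞) = ((e' + n : ℕ) : WithBot ℕ∞) →
      L = (e' : WithBot ℕ∞) := by
    intro L hL
    induction L with
    | bot =>
      rw [WithBot.bot_add] at hL
      exact absurd hL (WithBot.bot_ne_coe (a := ((e' + n : ℕ) : ℕ∞)))
    | coe L =>
      have h1 : ((L + (n : ℕ∞) : ℕ∞) : WithBot ℕ∞) = (((e' + n : ℕ) : ℕ∞) : WithBot ℕ∞) := by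
        exact_mod_cast hL
      have h2 : L + (n : ℕ∞) = (e' : ℕ∞) + (n : ℕ∞) := by
        rw [WithBot.coe_inj.mp h1]; push_cast; rfl
      have h3 : L = (e' : ℕ∞) := ENat.add_left_injective_of_ne_top (ENat.natCast_ne_top n) h2
      rw [h3]; rfl
  obtain ⟨V, hVo, hwV, hV⟩ :=
    Groth.Agent.LocDim2H8.exists_good_nbhd X'' Set.univ isClosed_univ w
  have hOo := ChevH8.isOpen_fibreDimAt_le (i ≫ f) e'
  let U'' : X''.Opens := ⟨{u | FlatMor.fibreDimAt (i ≫ f) u ≤ (e' : WithBot ℕ∞)} ∩ V, hOo.inter hVo⟩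
  have hwU'' : w ∈ U'' := ⟨(hval _ hL).le, hwV⟩
  -- every point of `U''` has a maximal generization specializing to `w`
  have hgenz : ∀ u ∈ U'', ∃ x'' : X'', (∀ a : X'', a ⤳ x'' → a = x'') ∧ x'' ⤳ w ∧ x'' ⤳ u := by
    intro u hu
    obtain ⟨η, -, hηw, hηu⟩ := hV u ⟨hu.2, trivial⟩
    obtain ⟨x'', hx''η, hx''⟩ := CodimZeroH8.exists_isMax_ge η
    exact ⟨x'', isMax_of_coheight hx'', hx''η.trans hηw, hx''η.trans hηu⟩
  refine OpenAtEqH8.isEquidimAt_of_fibreDimAt_const (i ≫ f) w e' U'' hwU'' ?_ ?_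
  · intro Z hZ
    refine ⟨Set.univ, by rw [irreducibleComponents_eq_singleton]; rfl, trivial, ?_⟩
    obtain ⟨a₀, hZa₀, ha₀max, -⟩ :=
      Groth.Agent.FlatFibDimH8.exists_generic_of_mem_irreducibleComponents (U'' : Scheme.{u}) Z hZ
    have ha₀max' : ∀ b : X'', b ⤳ U''.ι.base a₀ → b = U''.ι.base a₀ := by
      intro b hb
      have hbU : b ∈ U'' := hb.mem_open U''.2 a₀.2
      have hbr : b ∈ Set.range U''.ι.base := by rw [Scheme.Opens.range_ι]; exact hbU
      obtain ⟨b₀, rfl⟩ := hbr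
      have h1 : b₀ ⤳ a₀ := (U''.ι.isEmbedding.isInducing.specializes_iff).mp hb
      have h2 := ha₀max h1
      rw [(h1.antisymm h2).eq]
    obtain ⟨x'', hx''max, hx''w, hx''a⟩ := hgenz (U''.ι.base a₀) a₀.2
    have hx''eq : x'' = U''.ι.base a₀ := ha₀max' x'' hx''a
    rw [hx''eq] at hx''w
    obtain ⟨-, -, -, hgen⟩ := K (U''.ι.base a₀) ha₀max' hx''w
    apply Set.eq_univ_of_univ_subset
    have h1 : genericPoint Y ∈ (U''.ι ≫ i ≫ f).base '' Z := by
      refine ⟨a₀, ?_, hgen⟩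
      rw [hZa₀]; exact subset_closure rfl
    have h2 : closure ({genericPoint Y} : Set Y) = Set.univ := (genericPoint_spec Y).def
    rw [← h2]
    exact closure_mono (Set.singleton_subset_iff.mpr h1)
  · intro u hu
    apply le_antisymm hu.1
    obtain ⟨x'', hx''max, hx''w, hx''u⟩ := hgenz u hu
    obtain ⟨-, -, h3, -⟩ := K x'' hx''max hx''w
    rw [← hval _ h3]
    exact FibGenH8.fibreDimAt_le_of_specializes (i ≫ f) hx''u

end EquidimSubH8
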