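import Mathlib
import Groth.Agent.Lib.EquidimSub_helper8

/-! Bridging lemma for closed subsets given as ranges. -/

universe u
open AlgebraicGeometry CategoryTheory TopologicalSpace

namespace EquidimSubH8

variable {X Y : Scheme.{u}} (f : X ⟶ Y)

theorem bridge {X'' : Scheme.{u}} (i : X'' ⟶ X) (hi : Topology.IsEmbedding i.base) (w : X'')
    (x : X) (hw : i.base w = x) (S : Set X) (hS : Set.range i.base = S)
    (hx : x ∈ S ∩ f.base ⁻¹' {f.base x}) :
    FlatMor.fibreDimAt (i ≫ f) w = FlatMor.localDim ↥(S ∩ f.base ⁻¹' {f.base x}) ⟨x, hx⟩ := by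
  subst hw
  subst hS
  exact fibreDimAt_comp_eq_localDim f i hi w

theorem range_vanishingIdeal_subschemeι (X' : TopologicalSpace.Closeds X) :
    Set.range (Scheme.IdealSheafData.vanishingIdeal X').subschemeι.base = (X' : Set X) := by
  rw [Scheme.IdealSheafData.range_subschemeι, Scheme.IdealSheafData.coe_support_vanishingIdeal]

end EquidimSubH8
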