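import Mathlib
import Groth.Agent.Lib.EquidimSub2_helper8

/-! A closed subset containing no maximal point of the fibre has fibre dimension `≤ e - 1`. -/

universe u
open AlgebraicGeometry CategoryTheory TopologicalSpace

namespace EquidimSubH8

variable {X Y : Scheme.{u}} (f : X ⟶ Y)

theorem one_le_fibCoh (ζ : X) (z' : X) (h1 : f.base z' = f.base ζ) (h2 : z' ⤳ ζ) (h3 : z' ≠ ζ) :
    1 ≤ FibCohH8.fibCoh f ζ := by
  by_contra hcon
  have h0 : FibCohH8.fibCoh f ζ = 0 := by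
    rw [not_le] at hcon
    exact Order.lt_one_iff.mp hcon
  unfold FibCohH8.fibCoh at h0
  rw [Order.coheight_eq_zero] at h0
  have hle : (⟨ζ, rfl⟩ : {u' : X // f.base u' = f.base ζ}) ≤ ⟨z', h1⟩ := h2
  have hge := h0 hle
  have hsp : ζ ⤳ z' := hge
  exact h3 (h2.antisymm hsp).eq

theorem add_one_le [LocallyOfFiniteType f] (e : ℕ) (U : X.Opens)
    (hconst : ∀ u ∈ U, FlatMor.fibreDimAt f u = (e : WithBot ℕ∞))
    {X'' : Scheme.{u}} (i : X'' ⟶ X) [IsClosedImmersion i] (w : X'') (hwU : i.base w ∈ U)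
    (hnm : ∀ x'' : X'', (i ≫ f).base x'' = (i ≫ f).base w → x'' ⤳ w →
      ∃ z' : X, f.base z' = f.base (i.base x'') ∧ z' ⤳ i.base x'' ∧ z' ≠ i.base x'') :
    FlatMor.fibreDimAt (i ≫ f) w + (1 : ℕ) ≤ (e : WithBot ℕ∞) := by
  have key := FibGenH8.add_fibreDimAt_le_of_fibre_generic (i ≫ f) w 1 (e : ℕ∞) (by
    intro x' h1 h2 _
    rw [OpenAtCompH8.resTrdeg_closedImmersion_comp i f x']
    have hsp : i.base x' ⤳ i.base w := h2.map i.base.hom.continuous
    have hζU : i.base x' ∈ U := hsp.mem_open U.2 hwU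
    have hc := hconst _ hζU
    rw [FibCohH8.fibreDimAt_eq f (i.base x')] at hc
    have hc' : FibCohH8.fibCoh f (i.base x') + Cardinal.toENat (Dual3.resTrdeg f (i.base x')) =
        (e : ℕ∞) := by exact_mod_cast hc
    obtain ⟨z', hz1, hz2, hz3⟩ := hnm x' h1 h2
    have h1le := one_le_fibCoh f (i.base x') z' hz1 hz2 hz3
    rw [← hc']
    exact add_le_add_left h1le _)
  rw [add_comm]
  exact_mod_cast key

end EquidimSubH8
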