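import Mathlib
import Groth.Prelude.Def_EGA43
import Groth.Agent.Lib.EquidimSub3_helper8
import Groth.Agent.Lib.FibChain_helper8

/-! Quasi-sections: locally quasi-finite from fibre dimension zero. -/

universe u
open AlgebraicGeometry CategoryTheory TopologicalSpace

namespace QSecH8

variable {X Y : Scheme.{u}} (f : X ⟶ Y)

/-- fibre dimension of a restriction to an embedded subscheme is at most the fibre dimension. -/
theorem fibreDimAt_comp_le {X'' : Scheme.{u}} (i : X'' ⟶ X)
    (hi : Topology.IsEmbedding i.base) (w : X'') :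
    FlatMor.fibreDimAt (i ≫ f) w ≤ FlatMor.fibreDimAt f (i.base w) := by
  rw [EquidimSubH8.fibreDimAt_comp_eq_localDim f i hi w,
    EquidimSubH8.fibreDimAt_eq_localDim_preimage f (i.base w),
    SubLocDimH8.localDim_subtype_eq, SubLocDimH8.localDim_subtype_eq]
  refine le_iInf fun V => ?_
  refine (iInf_le _ V).trans ?_
  exact SubLocDimH8.topDim_mono (Set.inter_subset_inter_right _ Set.inter_subset_right)

/-- a point at which the fibre dimension is `≤ 0` is isolated in its fibre. -/
theorem isOpen_singleton_asFiber [LocallyOfFiniteType f] (t : X)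
    (H : FlatMor.fibreDimAt f t ≤ 0) :
    IsOpen ({f.asFiber t} : Set (f.fiber (f.base t))) := by
  haveI : IsLocallyNoetherian (f.fiber (f.base t)) :=
    Groth.Agent.FibChainH8.isLocallyNoetherian_fiber f (f.base t)
  unfold FlatMor.fibreDimAt FlatMor.localDim at H
  have H1 : (⨅ U : {U : TopologicalSpace.Opens (f.fiber (f.base t)) // f.asFiber t ∈ U},
      topologicalKrullDim (U.1 : Set (f.fiber (f.base t)))) < 1 :=
    lt_of_le_of_lt H (by exact_mod_cast zero_lt_one)
  rw [iInf_lt_iff] at H1
  obtain ⟨⟨W, hpW⟩, hW⟩ := H1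
  have hW0 : topologicalKrullDim (W : Set (f.fiber (f.base t))) ≤ 0 := by
    generalize topologicalKrullDim (W : Set (f.fiber (f.base t))) = L at hW
    induction L with
    | bot => exact bot_le
    | coe L =>
      have : L < 1 := by exact_mod_cast hW
      have : L = 0 := Order.lt_one_iff.mp this
      rw [this]; rfl
  haveI : IsLocallyNoetherian (W : Scheme.{u}) := inferInstance
  haveI : IsLocallyArtinian (W : Scheme.{u}) :=
    IsLocallyArtinian.of_topologicalKrullDim_le_zero hW0
  have hd : DiscreteTopology (W : Set (f.fiber (f.base t))) :=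
    (inferInstance : DiscreteTopology (W : Scheme.{u}))
  have h1 : IsOpen ({⟨f.asFiber t, hpW⟩} : Set (W : Set (f.fiber (f.base t)))) := isOpen_discrete _
  have h2 := W.2.isOpenEmbedding_subtypeVal.isOpenMap _ h1
  rw [Set.image_singleton] at h2
  exact h2

/-- every point of every fibre is isolated. -/
theorem isOpen_singleton_fiber [LocallyOfFiniteType f]
    (H : ∀ t, FlatMor.fibreDimAt f t ≤ 0) (y : Y) (p : f.fiber y) :
    IsOpen ({p} : Set (f.fiber y)) := by
  have key : ∀ (t : X) (y' : Y) (hy : f.base t = y') (p' : f.fiber y'),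
      (f.fiberι y').base p' = t → IsOpen ({p'} : Set (f.fiber y')) := by
    rintro t _ rfl p' hp'
    have : p' = f.asFiber t := by
      apply (f.fiberι (f.base t)).isEmbedding.injective
      rw [hp', Scheme.Hom.fiberι_asFiber]
    rw [this]
    exact isOpen_singleton_asFiber f t (H t)
  exact key _ y (Groth.Agent.FibRes2H8.fiberι_mem f y p) p rfl

/-- **Lemma Q**: fibre dimension `≤ 0` everywhere implies locally quasi-finite. -/
theorem locallyQuasiFinite_of_fibreDimAt_le_zero [LocallyOfFiniteType f]
    (H : ∀ t, FlatMor.fibreDimAt f t ≤ 0) : LocallyQuasiFinite f := by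
  rw [locallyQuasiFinite_iff_isDiscrete_preimage_singleton]
  intro y
  haveI : DiscreteTopology (f.fiber y) :=
    discreteTopology_iff_isOpen_singleton.mpr (isOpen_singleton_fiber f H y)
  have := (f.fiberHomeo y).symm.isEmbedding.discreteTopology
  exact ⟨this⟩

end QSecH8
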