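import Mathlib
import Groth.Prelude.Def_EGA43
import Groth.Agent.Lib.QSecA_helper8

/-! Quasi-sections: restriction of equidimensionality to opens. -/

universe u
open AlgebraicGeometry CategoryTheory TopologicalSpace

namespace QSecH8

variable {X Y : Scheme.{u}} (f : X ⟶ Y)

/-- maximality is preserved by open immersions -/
theorem isMax_ι (U : X.Opens) (a : ↥(U : Scheme.{u}))
    (ha : ∀ b : ↥(U : Scheme.{u}), b ⤳ a → b = a) :
    ∀ b : X, b ⤳ U.ι.base a → b = U.ι.base a := by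
  intro b hb
  have hbU : b ∈ U := hb.mem_open U.2 a.2
  have hbr : b ∈ Set.range U.ι.base := by rw [Scheme.Opens.range_ι]; exact hbU
  obtain ⟨b₀, rfl⟩ := hbr
  have h1 : b₀ ⤳ a := (U.ι.isEmbedding.isInducing.specializes_iff).mp hb
  rw [ha b₀ h1]

/-- **Lemma A**: equidimensionality at a point restricts to open neighbourhoods. -/
theorem isEquidimAt_restrict [IrreducibleSpace Y] [LocallyOfFiniteType f] (x : X)
    (hf : EGA43.IsEquidimAt f x) (U₁ : X.Opens) (x₁ : ↥(U₁ : Scheme.{u})) (hx₁ : U₁.ι.base x₁ = x) :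
    EGA43.IsEquidimAt (U₁.ι ≫ f) x₁ := by
  obtain ⟨e, U, hxU, hconst, hdom⟩ := EquidimCharH8.exists_of_isEquidimAt f x hf
  let U'' : (U₁ : Scheme.{u}).Opens := U₁.ι ⁻¹ᵁ U
  have hx₁U : x₁ ∈ U'' := by
    change U₁.ι.base x₁ ∈ U
    rw [hx₁]; exact hxU
  refine OpenAtEqH8.isEquidimAt_of_fibreDimAt_const (U₁.ι ≫ f) x₁ e U'' hx₁U ?_ ?_
  · intro Z hZ
    refine ⟨Set.univ, by rw [irreducibleComponents_eq_singleton]; rfl, trivial, ?_⟩
    obtain ⟨a₀, hZa₀, ha₀max, -⟩ :=
      Groth.Agent.FlatFibDimH8.exists_generic_of_mem_irreducibleComponents (U'' : Scheme.{u}) Z hZ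
    have ha₀max' : ∀ b : ↥(U'' : Scheme.{u}), b ⤳ a₀ → b = a₀ := by
      intro b hb
      exact (hb.antisymm (ha₀max hb)).eq
    have h1 := isMax_ι U'' a₀ ha₀max'
    have h2 := isMax_ι U₁ (U''.ι.base a₀) h1
    have hmem : U₁.ι.base (U''.ι.base a₀) ∈ U := a₀.2
    have hgen := hdom _ hmem h2
    apply Set.eq_univ_of_univ_subset
    have h3 : genericPoint Y ∈ (U''.ι ≫ U₁.ι ≫ f).base '' Z := by
      refine ⟨a₀, ?_, hgen⟩
      rw [hZa₀]; exact subset_closure rfl
    have h4 : closure ({genericPoint Y} : Set Y) = Set.univ := (genericPoint_spec Y).def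
    rw [← h4]
    exact closure_mono (Set.singleton_subset_iff.mpr h3)
  · intro u hu
    rw [OpenAtEqH8.fibreDimAt_restrict]
    exact hconst _ hu

end QSecH8
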