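import Mathlib
import Groth.Prelude.Def_EGA43
import Groth.Agent.Lib.QSecB_helper8
import Groth.Agent.S2285

/-! Quasi-sections: base case (fibre dimension zero). -/

universe u
open AlgebraicGeometry CategoryTheory TopologicalSpace

namespace QSecH8

/-- the conclusion of the quasi-section theorem. -/
def Goal {X Y : Scheme.{u}} (f : X ⟶ Y) (x : X) : Prop :=
  ∃ (T : Scheme.{u}) (i : T ⟶ X), IsImmersion i ∧ IrreducibleSpace ↥T ∧ IsReduced T ∧
    x ∈ Set.range i.base ∧ LocallyOfFiniteType (i ≫ f) ∧ LocallyQuasiFinite (i ≫ f) ∧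
    QuasiCompact (i ≫ f) ∧ IsDominant (i ≫ f)

theorem goal_of_comp {X' X Y : Scheme.{u}} (j : X' ⟶ X) [IsImmersion j] (f : X ⟶ Y) (w : X')
    (h : Goal (j ≫ f) w) : Goal f (j.base w) := by
  obtain ⟨T, i, h1, h2, h3, h4, h5, h6, h7, h8⟩ := h
  refine ⟨T, i ≫ j, inferInstance, h2, h3, ?_, ?_, ?_, ?_, ?_⟩
  · obtain ⟨t, rfl⟩ := h4
    exact ⟨t, rfl⟩
  · rw [Category.assoc]; exact h5
  · rw [Category.assoc]; exact h6
  · rw [Category.assoc]; exact h7
  · rw [Category.assoc]; exact h8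

theorem irreducibleSpace_of_forall_specializes {T : Type*} [TopologicalSpace T] (ξ : T)
    (h : ∀ a : T, ξ ⤳ a) : IrreducibleSpace T := by
  rw [irreducibleSpace_def]
  have : (Set.univ : Set T) = closure {ξ} := by
    apply Set.eq_of_subset_of_subset
    · intro a _
      exact (h a).mem_closure
    · exact Set.subset_univ _
  change IsIrreducible (Set.univ : Set T)
  rw [this]
  exact isIrreducible_singleton.closure

variable {X Y : Scheme.{u}} (f : X ⟶ Y)

theorem base [IrreducibleSpace Y] [IsLocallyNoetherian Y] [LocallyOfFiniteType f] (x : X)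
    (hf : EGA43.IsEquidimAt f x) (h0 : FlatMor.fibreDimAt f x = 0) : Goal f x := by
  obtain ⟨e, U, hxU, hconst, hdom⟩ := EquidimCharH8.exists_of_isEquidimAt f x hf
  have he : (e : WithBot ℕ∞) = 0 := (hconst x hxU).symm.trans h0
  haveI : IsLocallyNoetherian X := LocallyOfFiniteType.isLocallyNoetherian f
  obtain ⟨ξ, hξx, hξ⟩ := CodimZeroH8.exists_isMax_ge x
  have hξmax := EquidimSubH8.isMax_of_coheight hξ
  have hξU : ξ ∈ U := hξx.mem_open U.2 hxU
  have hgen : f.base ξ = genericPoint Y := hdom ξ hξU hξmax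
  obtain ⟨_, ⟨W, hW, rfl⟩, hxW, hWU⟩ :=
      X.isBasis_affineOpens.exists_subset_of_mem_open hxU U.2
  have hξW : ξ ∈ W := hξx.mem_open W.2 hxW
  let Z₀ : Set X := closure {ξ} ∩ W
  have hZ₀ : IsLocallyClosed Z₀ := isClosed_closure.isLocallyClosed.inter W.2.isLocallyClosed
  obtain ⟨⟨T, i, hi, hT, hr⟩, -⟩ := Groth.Agent.S2285.result X Z₀ hZ₀
  have hr' : Set.range i.base = Z₀ := hr
  have hemb : Topology.IsEmbedding i.base := i.isEmbedding
  obtain ⟨ξ₀, hξ₀⟩ : ξ ∈ Set.range i.base := by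
    rw [hr']; exact ⟨subset_closure rfl, hξW⟩
  obtain ⟨t₀, ht₀⟩ : x ∈ Set.range i.base := by
    rw [hr']; exact ⟨hξx.mem_closure, hxW⟩
  have hirr : IrreducibleSpace ↥T := by
    apply irreducibleSpace_of_forall_specializes ξ₀
    intro a
    rw [← hemb.isInducing.specializes_iff, hξ₀, specializes_iff_mem_closure]
    have : i.base a ∈ Z₀ := hr' ▸ ⟨a, rfl⟩
    exact this.1
  haveI : CompactSpace ↥T := by
    rw [← isCompact_univ_iff, hemb.isCompact_iff, Set.image_univ, hr']
    exact hW.isCompact.inter_left isClosed_closure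
  haveI : QuasiSeparatedSpace Y := inferInstance
  have hU' : ∀ t : T, i.base t ∈ U := by
    intro t
    have : i.base t ∈ Z₀ := hr' ▸ ⟨t, rfl⟩
    exact hWU this.2
  haveI : LocallyOfFiniteType (i ≫ f) := inferInstance
  refine ⟨T, i, hi, hirr, hT, ⟨t₀, ht₀⟩, inferInstance, ?_, inferInstance, ⟨?_⟩⟩
  · apply locallyQuasiFinite_of_fibreDimAt_le_zero
    intro t
    refine (fibreDimAt_comp_le f i hemb t).trans ?_
    rw [hconst _ (hU' t), he]
  · -- dominant
    have h1 : genericPoint Y ∈ Set.range (i ≫ f).base := ⟨ξ₀, by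
      rw [Scheme.Hom.comp_base, TopCat.comp_app, hξ₀, hgen]⟩
    have h2 : closure ({genericPoint Y} : Set Y) = Set.univ := (genericPoint_spec Y).def
    rw [DenseRange, dense_iff_closure_eq, ← Set.univ_subset_iff, ← h2]
    exact closure_mono (Set.singleton_subset_iff.mpr h1)

end QSecH8
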