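import Mathlib
import Groth.Prelude.Def_EGA43
import Groth.Agent.Lib.QSecC_helper8

/-! Equidimensionality at a point for morphisms with irreducible source. -/

universe u
open AlgebraicGeometry CategoryTheory TopologicalSpace

namespace EquidimIrrH8

/-- closure of image of a set containing the generic point -/
theorem closure_image_eq {T S : Type*} [TopologicalSpace T] [TopologicalSpace S] (g : T → S)
    (hg : Continuous g) (ξ : T) (hξ : ∀ a : T, ξ ⤳ a) (Z : Set T) (hZ : ξ ∈ Z) :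
    closure (g '' Z) = closure {g ξ} := by
  apply subset_antisymm
  · apply closure_minimal _ isClosed_closure
    rintro _ ⟨a, -, rfl⟩
    exact ((hξ a).map hg).mem_closure
  · exact closure_mono (Set.singleton_subset_iff.mpr ⟨ξ, hZ, rfl⟩)

/-- **Lemma E**: equidimensionality criterion for a source with a generic point. -/
theorem isEquidimAt_of_generic {W S : Scheme.{u}} (g : W ⟶ S) [LocallyOfFiniteType g] (ξ w : W)
    (hξ : ∀ a : W, ξ ⤳ a) (e : ℕ)
    (h1 : FlatMor.fibreDimAt g ξ = (e : WithBot ℕ∞)) (h2 : FlatMor.fibreDimAt g w ≤ (e : WithBot ℕ∞))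
    (h3 : closure {g.base ξ} ∈ irreducibleComponents (S : Type u)) :
    EGA43.IsEquidimAt g w := by
  let U₃ : W.Opens := ⟨{u | FlatMor.fibreDimAt g u ≤ (e : WithBot ℕ∞)}, ChevH8.isOpen_fibreDimAt_le g e⟩
  have hwU : w ∈ U₃ := h2
  have hξU : ξ ∈ U₃ := (hξ w).mem_open U₃.2 hwU
  refine OpenAtEqH8.isEquidimAt_of_fibreDimAt_const g w e U₃ hwU ?_ ?_
  · intro Z hZ
    let ξ₃ : ↥U₃ := ⟨ξ, hξU⟩
    have hgen : ∀ a : ↥U₃, ξ₃ ⤳ a := fun a =>
      (Topology.IsInducing.subtypeVal.specializes_iff).mp (hξ a.1)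
    haveI : IrreducibleSpace ↥U₃ := QSecH8.irreducibleSpace_of_forall_specializes ξ₃ hgen
    have hZuniv : Z = Set.univ := by
      rw [irreducibleComponents_eq_singleton] at hZ; exact hZ
    refine ⟨closure {g.base ξ}, h3, ((hξ w).map g.continuous).mem_closure, ?_⟩
    rw [hZuniv]
    exact closure_image_eq (U₃.ι ≫ g).base (U₃.ι ≫ g).continuous ξ₃ hgen Set.univ trivial
  · intro u hu
    exact le_antisymm hu (h1 ▸ FibGenH8.fibreDimAt_le_of_specializes g (hξ u))

variable {X S : Scheme.{u}} (f : X ⟶ S)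

/-- the fibre dimension at a point is a natural number. -/
theorem exists_nat_fibreDimAt [LocallyOfFiniteType f] (u : X) :
    ∃ D : ℕ, FlatMor.fibreDimAt f u = (D : WithBot ℕ∞) := by
  rw [FibCohH8.fibreDimAt_eq f u]
  haveI := Groth.Agent.FibChainH8.isLocallyNoetherian_fiber f (f.base u)
  have hfin : ringKrullDim ((f.fiber (f.base u)).presheaf.stalk (f.asFiber u)) ≠ ⊤ :=
    ringKrullDim_ne_top
  rw [FibCohH8.stalk_fiber_eq_fibCoh] at hfin
  have hfin' : FibCohH8.fibCoh f u ≠ ⊤ := by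
    intro h; rw [h] at hfin; exact hfin rfl
  obtain ⟨m, hm⟩ := ENat.ne_top_iff_exists.mp hfin'
  obtain ⟨n, hn⟩ := Groth.Agent.ResQuot2H8.exists_trdeg_nat f u
  have hn' : Dual3.resTrdeg f u = n := hn
  refine ⟨m + n, ?_⟩
  rw [← hm, hn', Cardinal.toENat_nat]
  push_cast
  rfl

/-- there is a generization maximal in the fibre realising the fibre dimension. -/
theorem exists_fibre_max_dim [LocallyOfFiniteType f] (u : X) :
    ∃ x' : X, f.base x' = f.base u ∧ x' ⤳ u ∧
      (∀ x'' : X, f.base x'' = f.base u → x'' ⤳ x' → x'' = x') ∧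
      FlatMor.fibreDimAt f u ≤ ((Cardinal.toENat (Dual3.resTrdeg f x') : ℕ∞) : WithBot ℕ∞) := by
  obtain ⟨D, hD⟩ := exists_nat_fibreDimAt f u
  rcases Nat.eq_zero_or_pos D with h0 | hpos
  · obtain ⟨x', h1, h2, h3⟩ := EquidimCharH8.exists_fibre_max f u
    refine ⟨x', h1, h2, h3, ?_⟩
    rw [hD, h0]
    exact_mod_cast bot_le
  · by_contra hcon
    push Not at hcon
    have hle := FibGenH8.fibreDimAt_le_of_fibre_generic f u ((D - 1 : ℕ) : ℕ∞) (by
      intro x' h1 h2 h3
      have := hcon x' h1 h2 h3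
      rw [hD] at this
      have h4 : Cardinal.toENat (Dual3.resTrdeg f x') < (D : ℕ∞) := by exact_mod_cast this
      obtain ⟨n, hn⟩ := Groth.Agent.ResQuot2H8.exists_trdeg_nat f x'
      have hn' : Dual3.resTrdeg f x' = n := hn
      rw [hn', Cardinal.toENat_nat] at h4 ⊢
      have h5 : n < D := by exact_mod_cast h4
      have h6 : n ≤ D - 1 := by omega
      exact_mod_cast h6)
    rw [hD] at hle
    have h7 : (D : ℕ∞) ≤ ((D - 1 : ℕ) : ℕ∞) := by exact_mod_cast hle
    have h8 : D ≤ D - 1 := by exact_mod_cast h7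
    omega

end EquidimIrrH8
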