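import Mathlib
import Groth.Prelude.Def_EGA43
import Groth.Agent.Lib.EquidimIrr_helper8

/-! Irreducible components equidimensional over the base at a point. -/

universe u
open AlgebraicGeometry CategoryTheory TopologicalSpace

namespace EquidimIrrH8

variable {X S : Scheme.{u}} (f : X ⟶ S)

/-- generic point of the reduced subscheme on an irreducible closed subset. -/
theorem exists_generic_subscheme (W : Closeds X) (ξ : X) (hξ : closure {ξ} = (W : Set X)) :
    ∃ ξ'' : ↥(Scheme.IdealSheafData.vanishingIdeal W).subscheme,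
      (Scheme.IdealSheafData.vanishingIdeal W).subschemeι.base ξ'' = ξ ∧ ∀ a, ξ'' ⤳ a := by
  have hrange := EquidimSubH8.range_vanishingIdeal_subschemeι W
  obtain ⟨ξ'', hξ''⟩ : ξ ∈ Set.range (Scheme.IdealSheafData.vanishingIdeal W).subschemeι.base := by
    rw [hrange, ← hξ]; exact subset_closure rfl
  refine ⟨ξ'', hξ'', fun a => ?_⟩
  rw [← (Scheme.IdealSheafData.vanishingIdeal W).subschemeι.isEmbedding.isInducing.specializes_iff,
    hξ'', specializes_iff_mem_closure, hξ, ← hrange]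
  exact ⟨a, rfl⟩

/-- the dominance part of equidimensionality applied to a maximal point. -/
theorem closure_mem_of_part (U : X.Opens) (x : X)
    (h1 : ∀ Z ∈ irreducibleComponents (↥U : Type u),
      ∃ W ∈ irreducibleComponents (S : Type u), f.base x ∈ W ∧ closure ((U.ι ≫ f).base '' Z) = W)
    (ξ : X) (hξU : ξ ∈ U) (hξmax : ∀ b : X, b ⤳ ξ → b = ξ) :
    closure {f.base ξ} ∈ irreducibleComponents (S : Type u) := by
  let ξU : ↥U := ⟨ξ, hξU⟩
  haveI : QuasiSober ↥U := U.2.isOpenEmbedding_subtypeVal.quasiSober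
  have hmaxU : ∀ z : ↥U, z ⤳ ξU → z = ξU := by
    intro z hz
    have h2 : z.1 ⤳ ξ := hz.map continuous_subtype_val
    exact Subtype.ext (hξmax z.1 h2)
  have hZ₁ : closure ({ξU} : Set ↥U) ∈ irreducibleComponents ↥U :=
    (SubCompH8.closure_mem_irreducibleComponents_iff ξU).mpr hmaxU
  obtain ⟨W', hW', -, hcl⟩ := h1 _ hZ₁
  have key : closure ((fun a : ↥U => f.base a.1) '' closure ({ξU} : Set ↥U)) =
      closure {f.base ξ} := by
    have hc : Continuous (fun a : ↥U => f.base a.1) := f.continuous.comp continuous_subtype_val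
    rw [closure_image_closure hc, Set.image_singleton]
  have hcl' : closure ((fun a : ↥U => f.base a.1) '' closure ({ξU} : Set ↥U)) = W' := hcl
  rw [← key, hcl']; exact hW'

/-- fibre dimension at the generic point of a component. -/
theorem fibreDimAt_generic_eq [LocallyOfFiniteType f] (W : Closeds X) (ξ : X)
    (hξmax : ∀ b : X, b ⤳ ξ → b = ξ)
    (ξ'' : ↥(Scheme.IdealSheafData.vanishingIdeal W).subscheme)
    (hξ'' : (Scheme.IdealSheafData.vanishingIdeal W).subschemeι.base ξ'' = ξ)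
    (hgen : ∀ a, ξ'' ⤳ a) :
    FlatMor.fibreDimAt ((Scheme.IdealSheafData.vanishingIdeal W).subschemeι ≫ f) ξ'' =
      FlatMor.fibreDimAt f ξ := by
  have hmax'' : ∀ b, b ⤳ ξ'' → b = ξ'' := fun b hb => (hb.antisymm (hgen b)).eq
  rw [FibGenH8.fibreDimAt_of_isMax _ ξ'' hmax'', OpenAtCompH8.resTrdeg_closedImmersion_comp, hξ'',
    ← FibGenH8.fibreDimAt_of_isMax f ξ hξmax]

/-- **core**: criterion for a component to be equidimensional over the base at a point. -/
theorem core [LocallyOfFiniteType f] (W : Closeds X) (ξ : X) (hξ : closure {ξ} = (W : Set X))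
    (hξmax : ∀ b : X, b ⤳ ξ → b = ξ)
    (w : ↥(Scheme.IdealSheafData.vanishingIdeal W).subscheme) (e : ℕ)
    (h1 : FlatMor.fibreDimAt f ξ = (e : WithBot ℕ∞))
    (h2 : FlatMor.fibreDimAt f ((Scheme.IdealSheafData.vanishingIdeal W).subschemeι.base w) ≤
      (e : WithBot ℕ∞))
    (h3 : closure {f.base ξ} ∈ irreducibleComponents (S : Type u)) :
    EGA43.IsEquidimAt ((Scheme.IdealSheafData.vanishingIdeal W).subschemeι ≫ f) w := by
  obtain ⟨ξ'', hξ'', hgen⟩ := exists_generic_subscheme W ξ hξ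
  refine isEquidimAt_of_generic _ ξ'' w hgen e ?_ ?_ ?_
  · rw [fibreDimAt_generic_eq f W ξ hξmax ξ'' hξ'' hgen, h1]
  · exact (QSecH8.fibreDimAt_comp_le f _
      (Scheme.IdealSheafData.vanishingIdeal W).subschemeι.isEmbedding w).trans h2
  · have : ((Scheme.IdealSheafData.vanishingIdeal W).subschemeι ≫ f).base ξ'' = f.base ξ := by
      rw [← hξ'']; rfl
    rw [this]; exact h3

/-- **S14076**. -/
theorem of_isEquidimAt [LocallyOfFiniteType f] (x : X) (hx : EGA43.IsEquidimAt f x) :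
    ∃ W : TopologicalSpace.Closeds X, (W : Set X) ∈ irreducibleComponents (X : Type u) ∧
      ∃ w : ↥((Scheme.IdealSheafData.vanishingIdeal W).subscheme),
        (Scheme.IdealSheafData.vanishingIdeal W).subschemeι.base w = x ∧
        EGA43.IsEquidimAt ((Scheme.IdealSheafData.vanishingIdeal W).subschemeι ≫ f) w := by
  obtain ⟨e, U, hxU, h1, h2⟩ := hx
  have hconst : ∀ u ∈ U, FlatMor.fibreDimAt f u = (e : WithBot ℕ∞) := fun u hu => by
    have := EquidimCharH8.fibreDimAt_eq_of_components (U.ι ≫ f) e h2 ⟨u, hu⟩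
    rwa [OpenAtEqH8.fibreDimAt_restrict] at this
  have hWc : irreducibleComponent x ∈ irreducibleComponents X :=
    irreducibleComponent_mem_irreducibleComponents x
  obtain ⟨ξ, hWξ, hξmax, -⟩ :=
    Groth.Agent.FlatFibDimH8.exists_generic_of_mem_irreducibleComponents X _ hWc
  have hξx : ξ ⤳ x := by
    rw [specializes_iff_mem_closure, ← hWξ]; exact mem_irreducibleComponent
  have hξmax' : ∀ b : X, b ⤳ ξ → b = ξ := fun b hb => (hb.antisymm (hξmax hb)).eq
  have hξU : ξ ∈ U := hξx.mem_open U.2 hxU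
  let W : Closeds X := ⟨irreducibleComponent x, isClosed_irreducibleComponent⟩
  have hrange := EquidimSubH8.range_vanishingIdeal_subschemeι W
  obtain ⟨w, hw⟩ : x ∈ Set.range (Scheme.IdealSheafData.vanishingIdeal W).subschemeι.base := by
    rw [hrange]; exact mem_irreducibleComponent
  refine ⟨W, hWc, w, hw, core f W ξ hWξ.symm hξmax' w e (hconst ξ hξU) ?_ ?_⟩
  · rw [hw, hconst x hxU]
  · exact closure_mem_of_part f U x h1 ξ hξU hξmax'


/-- **S14079**. -/
theorem of_fibre_max [LocallyOfFiniteType f]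
    (h : ∀ x : X, (∀ x' : X, f.base x' = f.base x → x ∈ closure ({x'} : Set X) → x' = x) →
      ∃ W : TopologicalSpace.Closeds X, (W : Set X) ∈ irreducibleComponents (X : Type u) ∧
      ∃ w : ↥((Scheme.IdealSheafData.vanishingIdeal W).subscheme),
        (Scheme.IdealSheafData.vanishingIdeal W).subschemeι.base w = x ∧
        EGA43.IsEquidimAt ((Scheme.IdealSheafData.vanishingIdeal W).subschemeι ≫ f) w)
    (x : X) :
    ∃ W : TopologicalSpace.Closeds X, (W : Set X) ∈ irreducibleComponents (X : Type u) ∧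
      ∃ w : ↥((Scheme.IdealSheafData.vanishingIdeal W).subscheme),
        (Scheme.IdealSheafData.vanishingIdeal W).subschemeι.base w = x ∧
        EGA43.IsEquidimAt ((Scheme.IdealSheafData.vanishingIdeal W).subschemeι ≫ f) w := by
  obtain ⟨x₀, hx₀f, hx₀x, hx₀max, hx₀dim⟩ := exists_fibre_max_dim f x
  have hx₀max' : ∀ x' : X, f.base x' = f.base x₀ → x₀ ∈ closure ({x'} : Set X) → x' = x₀ := by
    intro x' h1 h2
    exact hx₀max x' (h1.trans hx₀f) (specializes_iff_mem_closure.mpr h2)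
  obtain ⟨W, hWc, w₀, hw₀, hEq⟩ := h x₀ hx₀max'
  have hrange := EquidimSubH8.range_vanishingIdeal_subschemeι W
  obtain ⟨ξ, hWξ, hξmax, -⟩ :=
    Groth.Agent.FlatFibDimH8.exists_generic_of_mem_irreducibleComponents X _ hWc
  have hξmax' : ∀ b : X, b ⤳ ξ → b = ξ := fun b hb => (hb.antisymm (hξmax hb)).eq
  obtain ⟨ξ'', hξ'', hgen⟩ := exists_generic_subscheme W ξ hWξ.symm
  have hx₀W : x₀ ∈ (W : Set X) := hrange ▸ ⟨w₀, hw₀⟩
  have hxW : x ∈ (W : Set X) := hx₀x.mem_closed W.2 hx₀W
  obtain ⟨w, hw⟩ : x ∈ Set.range (Scheme.IdealSheafData.vanishingIdeal W).subschemeι.base := by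
    rw [hrange]; exact hxW
  obtain ⟨e, U'', hw₀U, hc1, hc2⟩ := hEq
  have hconst : ∀ u ∈ U'', FlatMor.fibreDimAt
      ((Scheme.IdealSheafData.vanishingIdeal W).subschemeι ≫ f) u = (e : WithBot ℕ∞) :=
    fun u hu => by
      have := EquidimCharH8.fibreDimAt_eq_of_components
        (U''.ι ≫ (Scheme.IdealSheafData.vanishingIdeal W).subschemeι ≫ f) e hc2 ⟨u, hu⟩
      rwa [OpenAtEqH8.fibreDimAt_restrict] at this
  have hξU : ξ'' ∈ U'' := (hgen w₀).mem_open U''.2 hw₀U
  have hmax'' : ∀ b, b ⤳ ξ'' → b = ξ'' := fun b hb => (hb.antisymm (hgen b)).eq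
  refine ⟨W, hWc, w, hw, core f W ξ hWξ.symm hξmax' w e ?_ ?_ ?_⟩
  · rw [← fibreDimAt_generic_eq f W ξ hξmax' ξ'' hξ'' hgen]; exact hconst ξ'' hξU
  · rw [hw]
    refine hx₀dim.trans ?_
    rw [← hw₀, ← OpenAtCompH8.resTrdeg_closedImmersion_comp
      (Scheme.IdealSheafData.vanishingIdeal W).subschemeι f w₀]
    have h5 := hconst w₀ hw₀U
    rw [FibCohH8.fibreDimAt_eq _ w₀] at h5
    rw [← h5, ← WithBot.coe_add]
    exact WithBot.coe_le_coe.mpr le_add_self
  · have h6 := closure_mem_of_part ((Scheme.IdealSheafData.vanishingIdeal W).subschemeι ≫ f)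
      U'' w₀ hc1 ξ'' hξU hmax''
    have : ((Scheme.IdealSheafData.vanishingIdeal W).subschemeι ≫ f).base ξ'' = f.base ξ := by
      rw [← hξ'']; rfl
    rw [this] at h6; exact h6

end EquidimIrrH8
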