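import Mathlib
import Groth.Prelude.Def_EGA43
import Groth.Agent.Lib.DimPrime_helper8
import Groth.Agent.Lib.EquidimIrr2_helper8
import Groth.Agent.Lib.OpenAtDim_helper8

/-! EGA IV 13.3.x: equidimensional morphisms over universally catenary bases. -/

universe u
open AlgebraicGeometry CategoryTheory TopologicalSpace IsLocalRing

namespace Equi133H8

/-- a Noetherian local ring has a minimal prime of full coheight. -/
theorem exists_minimalPrimes_dim_eq (A : Type*) [CommRing A] [IsLocalRing A] [IsNoetherianRing A] :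
    ∃ 𝔭 ∈ minimalPrimes A, ringKrullDim (A ⧸ 𝔭) = ringKrullDim A := by
  obtain ⟨q, hq, hqm, hht⟩ := Groth.Agent.DimFT2H8.exists_minimalPrimes_height_map_eq
    (maximalIdeal A)
  refine ⟨q, hq, ?_⟩
  haveI : q.IsPrime := hq.1.1
  haveI : IsLocalization.AtPrime A (maximalIdeal A) :=
    IsLocalization.of_le_isUnit (fun a ha => IsLocalRing.notMem_maximalIdeal.mp ha)
  have h1 := LocQuotH8.ringKrullDim_quot_localization q (maximalIdeal A) hqm A
  have h2 : q.map (algebraMap A A) = q := Ideal.map_id q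
  rw [h2] at h1
  rw [h1, hht, IsLocalRing.maximalIdeal_height_eq_ringKrullDim]

theorem add_nat_cancel (a b : WithBot ℕ∞) (n : ℕ)
    (h : a + (n : WithBot ℕ∞) = b + (n : WithBot ℕ∞)) : a = b := by
  induction a with
  | bot =>
    induction b with
    | bot => rfl
    | coe b =>
      rw [WithBot.bot_add] at h
      exact absurd h.symm (by
        have : ((b : WithBot ℕ∞) + (n : WithBot ℕ∞)) = ((b + (n : ℕ∞) : ℕ∞) : WithBot ℕ∞) := by
          push_cast; rfl
        rw [this]; exact WithBot.coe_ne_bot)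
  | coe a =>
    induction b with
    | bot =>
      rw [WithBot.bot_add] at h
      exact absurd h (by
        have : ((a : WithBot ℕ∞) + (n : WithBot ℕ∞)) = ((a + (n : ℕ∞) : ℕ∞) : WithBot ℕ∞) := by
          push_cast; rfl
        rw [this]; exact WithBot.coe_ne_bot)
    | coe b =>
      have h' : a + (n : ℕ∞) = b + (n : ℕ∞) := by exact_mod_cast h
      rw [ENat.add_left_injective_of_ne_top (ENat.natCast_ne_top n) h']

variable {X Y : Scheme.{u}} (f : X ⟶ Y)

theorem isMax_fromSpecStalk (x : X) (P : Spec (X.presheaf.stalk x))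
    (hP : P.asIdeal ∈ minimalPrimes (X.presheaf.stalk x)) :
    ∀ b : X, b ⤳ X.fromSpecStalk x P → b = X.fromSpecStalk x P := by
  intro b hb
  have hPx : X.fromSpecStalk x P ⤳ x := by
    have : X.fromSpecStalk x P ∈ Set.range (X.fromSpecStalk x) := ⟨P, rfl⟩
    rw [Scheme.range_fromSpecStalk] at this; exact this
  obtain ⟨Q, rfl⟩ := OpenAtDimH8.exists_fromSpecStalk_eq x (hb.trans hPx)
  have hle : Q.asIdeal ≤ P.asIdeal := (OpenAtDimH8.fromSpecStalk_specializes_iff x Q P).mp hb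
  have hge : P.asIdeal ≤ Q.asIdeal := hP.2 ⟨Q.2, bot_le⟩ hle
  have : Q = P := PrimeSpectrum.ext (le_antisymm hle hge)
  rw [this]

theorem minimal_of_isMax (y : Y) (Q : Spec (Y.presheaf.stalk y))
    (hQ : ∀ b : Y, b ⤳ Y.fromSpecStalk y Q → b = Y.fromSpecStalk y Q) :
    Q.asIdeal ∈ minimalPrimes (Y.presheaf.stalk y) := by
  refine ⟨⟨Q.2, bot_le⟩, ?_⟩
  rintro I ⟨hI, -⟩ hle
  let Q' : Spec (Y.presheaf.stalk y) := ⟨I, hI⟩
  have h1 : Y.fromSpecStalk y Q' ⤳ Y.fromSpecStalk y Q :=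
    (OpenAtDimH8.fromSpecStalk_specializes_iff y Q' Q).mpr hle
  have h2 := hQ _ h1
  have h3 : Q' = Q := (Y.fromSpecStalk y).isEmbedding.injective h2
  rw [← h3]


/-- **Key formula (EGA IV 13.3.6-type)**. -/
theorem key [IsLocallyNoetherian Y] [LocallyOfFiniteType f] (x : X) (h : EGA43.IsEquidimAt f x)
    (hcat : CAlg.IsUniversallyCatenary (Y.presheaf.stalk (f.base x)))
    (𝔭 : Ideal (X.presheaf.stalk x)) (h𝔭 : 𝔭 ∈ minimalPrimes (X.presheaf.stalk x)) (n : ℕ)
    (hn : @Algebra.trdeg (Y.residueField (f.base x)) (X.residueField x) _ _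
      (f.residueFieldMap x).hom.toAlgebra = n) :
    ringKrullDim (X.presheaf.stalk x ⧸ 𝔭) + (n : WithBot ℕ∞) =
      ringKrullDim (Y.presheaf.stalk (f.base x) ⧸ 𝔭.comap (f.stalkMap x).hom) +
        FlatMor.fibreDimAt f x ∧
    𝔭.comap (f.stalkMap x).hom ∈ minimalPrimes (Y.presheaf.stalk (f.base x)) := by
  obtain ⟨e, U, hxU, h1, h2⟩ := h
  have hconst : ∀ u ∈ U, FlatMor.fibreDimAt f u = (e : WithBot ℕ∞) := fun u hu => by
    have := EquidimCharH8.fibreDimAt_eq_of_components (U.ι ≫ f) e h2 ⟨u, hu⟩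
    rwa [OpenAtEqH8.fibreDimAt_restrict] at this
  haveI : 𝔭.IsPrime := h𝔭.1.1
  let P : Spec (X.presheaf.stalk x) := ⟨𝔭, inferInstance⟩
  have hξmax := isMax_fromSpecStalk x P h𝔭
  have hξx : X.fromSpecStalk x P ⤳ x := by
    have : X.fromSpecStalk x P ∈ Set.range (X.fromSpecStalk x) := ⟨P, rfl⟩
    rw [Scheme.range_fromSpecStalk] at this; exact this
  have hξU : X.fromSpecStalk x P ∈ U := hξx.mem_open U.2 hxU
  obtain ⟨E, hE⟩ := Groth.Agent.ResQuot2H8.exists_trdeg_nat f (X.fromSpecStalk x P)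
  have hEe : ((E : ℕ) : WithBot ℕ∞) = (e : WithBot ℕ∞) := by
    have := hconst _ hξU
    rw [FibGenH8.fibreDimAt_of_isMax f _ hξmax] at this
    have hE' : Dual3.resTrdeg f (X.fromSpecStalk x P) = E := hE
    rw [hE', Cardinal.toENat_nat] at this
    exact this
  have hform := DimPrimeH8.dim_formula_prime f x P hcat n E hn hE
  constructor
  · rw [hconst x hxU, ← hEe]; exact hform
  · have hclos := EquidimIrrH8.closure_mem_of_part f U x h1 _ hξU hξmax
    have hfξmax : ∀ b : Y, b ⤳ f.base (X.fromSpecStalk x P) → b = f.base (X.fromSpecStalk x P) :=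
      (SubCompH8.closure_mem_irreducibleComponents_iff _).mp hclos
    have hQ := OpenAtDimH8.map_fromSpecStalk f x P
    exact minimal_of_isMax (f.base x) ((Spec.map (f.stalkMap x)).base P) (by
      rw [← hQ]; exact hfξmax)

end Equi133H8
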