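import Mathlib
import Groth.Prelude.Def_CAlg
import Groth.Agent.Lib.DepthLoc_helper5

/-!
# Depth and associated primes (helper5)

`depth M ≤ dim R/p` for `p ∈ Ass M` over a Noetherian local ring.
-/

set_option autoImplicit false
universe u

namespace Groth.Agent.DepthLib

open RingTheory.Sequence Pointwise

/-- If `x ∈ Jac(R)` is `M`-regular and `p ∈ Ass M`, there is `q ∈ Ass (M/xM)` containing `p` and `x`. -/
theorem exists_associatedPrime_quotSMulTop {R : Type u} [CommRing R] [IsNoetherianRing R]
    (M : Type u) [AddCommGroup M] [Module R M] [Module.Finite R M] {x : R}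
    (hxJ : x ∈ Ideal.jacobson (⊥ : Ideal R)) (hreg : IsSMulRegular M x) (p : Ideal R)
    (hp : p ∈ associatedPrimes R M) :
    ∃ q ∈ associatedPrimes R (QuotSMulTop x M), p ≤ q ∧ x ∈ q := by
  haveI : IsNoetherian R M := isNoetherian_of_isNoetherianRing_of_finite R M
  obtain ⟨hpprime, m₀, hm₀⟩ := isAssociatedPrime_iff.1 hp
  have hm₀ne : m₀ ≠ 0 := by
    rintro rfl
    apply hpprime.ne_top
    rw [hm₀, Ideal.eq_top_iff_one, Submodule.mem_colon_singleton]
    simp
  -- the submodule killed by p
  let N : Submodule R M :=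
    { carrier := {m | ∀ a ∈ p, a • m = 0}
      add_mem' := by
        intro a b ha hb r hr
        rw [smul_add, ha r hr, hb r hr, add_zero]
      zero_mem' := by
        intro r _
        exact smul_zero r
      smul_mem' := by
        intro c m hm r hr
        rw [smul_comm, hm r hr, smul_zero] }
  have hNmem : ∀ m, m ∈ N ↔ ∀ a ∈ p, a • m = 0 := fun m => Iff.rfl
  have hm₀N : m₀ ∈ N := by
    intro a ha
    rw [hm₀, Submodule.mem_colon_singleton, Submodule.mem_bot] at ha
    exact ha
  -- N is not contained in xM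
  have hnot : ¬ N ≤ x • (⊤ : Submodule R M) := by
    intro hle
    have hNx : N ≤ Ideal.span {x} • N := by
      intro n hn
      obtain ⟨m, _, rfl⟩ := (Submodule.mem_smul_pointwise_iff_exists _ _ _).1 (hle hn)
      have hmN : m ∈ N := by
        intro a ha
        have h1 := hn a ha
        rw [smul_comm] at h1
        exact hreg (show x • (a • m) = x • 0 by rw [h1, smul_zero])
      exact Submodule.smul_mem_smul (Ideal.mem_span_singleton_self x) hmN
    have hN0 : N = ⊥ := Submodule.eq_bot_of_le_smul_of_le_jacobson_bot (Ideal.span {x}) N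
      (IsNoetherian.noetherian N) hNx ((Ideal.span_singleton_le_iff_mem _).2 hxJ)
    rw [hN0] at hm₀N
    exact hm₀ne ((Submodule.mem_bot R).1 hm₀N)
  obtain ⟨n, hnN, hnx⟩ := SetLike.not_le_iff_exists.1 hnot
  set y : QuotSMulTop x M := Submodule.Quotient.mk n with hy
  have hyne : y ≠ 0 := by
    rw [hy, Ne, Submodule.Quotient.mk_eq_zero]
    exact hnx
  obtain ⟨q, hq, hle⟩ := exists_le_isAssociatedPrime_of_isNoetherianRing R y hyne
  refine ⟨q, hq, ?_, ?_⟩
  · intro a ha
    apply hle
    rw [Submodule.mem_colon_singleton, Submodule.mem_bot, hy, ← Submodule.Quotient.mk_smul,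
      hnN a ha, Submodule.Quotient.mk_zero]
  · apply hle
    rw [Submodule.mem_colon_singleton, Submodule.mem_bot, hy, ← Submodule.Quotient.mk_smul,
      Submodule.Quotient.mk_eq_zero]
    exact Submodule.smul_mem_pointwise_smul _ _ _ Submodule.mem_top

/-- `depth M ≤ dim R/p` for every associated prime `p` of `M` (natural number form) -/
theorem le_ringKrullDim_quotient_of_le_depth (R : Type u) [CommRing R] [IsLocalRing R]
    [IsNoetherianRing R] (n : ℕ) :
    ∀ (M : Type u) [AddCommGroup M] [Module R M] [Module.Finite R M] (p : Ideal R),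
      p ∈ associatedPrimes R M → (n : ℕ∞) ≤ LocCoh.depth R M →
      (n : WithBot ℕ∞) ≤ ringKrullDim (R ⧸ p) := by
  induction n with
  | zero =>
    intro M _ _ _ p hp _
    haveI := hp.isPrime
    exact_mod_cast ringKrullDim_nonneg_of_nontrivial (R := R ⧸ p)
  | succ n ih =>
    intro M _ _ _ p hp hn
    haveI hpprime := hp.isPrime
    unfold LocCoh.depth at hn
    have h1 : 1 ≤ LocCoh.idealDepth (IsLocalRing.maximalIdeal R) M := by
      refine le_trans ?_ hn
      exact_mod_cast Nat.succ_le_succ (Nat.zero_le n)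
    rw [one_le_idealDepth_iff] at h1
    rcases h1 with htop | ⟨x, hx, hreg⟩
    · exfalso
      have h0 := Submodule.eq_bot_of_le_smul_of_le_jacobson_bot (IsLocalRing.maximalIdeal R)
        (⊤ : Submodule R M) Module.Finite.fg_top (by rw [htop])
        (IsLocalRing.maximalIdeal_le_jacobson _)
      obtain ⟨_, m₀, hm₀⟩ := isAssociatedPrime_iff.1 hp
      have : m₀ = 0 := by
        have : m₀ ∈ (⊤ : Submodule R M) := Submodule.mem_top
        rw [h0] at this
        exact (Submodule.mem_bot R).1 this
      apply hpprime.ne_top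
      rw [hm₀, this, Ideal.eq_top_iff_one, Submodule.mem_colon_singleton]
      simp
    · obtain ⟨q, hq, hpq, hxq⟩ := exists_associatedPrime_quotSMulTop M
        (IsLocalRing.maximalIdeal_le_jacobson _ hx) hreg p hp
      have hn' : (n : ℕ∞) ≤ LocCoh.depth R (QuotSMulTop x M) := by
        unfold LocCoh.depth
        rw [le_idealDepth_quotSMulTop_iff _ M hx hreg]
        exact hn
      have hq' := ih (QuotSMulTop x M) q hq hn'
      haveI := hq.isPrime
      -- x ∉ p
      have hxp : x ∉ p := by
        intro hxp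
        obtain ⟨_, m₀, hm₀⟩ := isAssociatedPrime_iff.1 hp
        have hm₀ne : m₀ ≠ 0 := by
          rintro rfl
          apply hpprime.ne_top
          rw [hm₀, Ideal.eq_top_iff_one, Submodule.mem_colon_singleton]
          simp
        rw [hm₀, Submodule.mem_colon_singleton, Submodule.mem_bot] at hxp
        exact hm₀ne (hreg (show x • m₀ = x • 0 by rw [hxp, smul_zero]))
      have hdim : ringKrullDim (R ⧸ q) + 1 ≤ ringKrullDim (R ⧸ p) := by
        apply ringKrullDim_succ_le_of_surjective (Ideal.Quotient.factor hpq)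
          (Ideal.Quotient.factor_surjective hpq) (r := Ideal.Quotient.mk p x)
        · rw [mem_nonZeroDivisors_iff_ne_zero, Ne, Ideal.Quotient.eq_zero_iff_mem]
          exact hxp
        · rw [Ideal.Quotient.factor_mk, Ideal.Quotient.eq_zero_iff_mem]
          exact hxq
      refine le_trans ?_ hdim
      have : ((n + 1 : ℕ) : WithBot ℕ∞) = (n : WithBot ℕ∞) + 1 := by push_cast; rfl
      rw [this]
      gcongr

/-- `depth M ≤ dim R/p` for every associated prime `p` of `M` -/
theorem depth_le_ringKrullDim_quotient (R : Type u) [CommRing R] [IsLocalRing R]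
    [IsNoetherianRing R] (M : Type u) [AddCommGroup M] [Module R M] [Module.Finite R M]
    (p : Ideal R) (hp : p ∈ associatedPrimes R M) :
    ((LocCoh.depth R M : ℕ∞) : WithBot ℕ∞) ≤ ringKrullDim (R ⧸ p) := by
  haveI := hp.isPrime
  have hne : ringKrullDim (R ⧸ p) ≠ ⊥ := by
    intro h
    have := ringKrullDim_nonneg_of_nontrivial (R := R ⧸ p)
    rw [h] at this
    exact absurd this (by simp)
  obtain ⟨t, ht⟩ := WithBot.ne_bot_iff_exists.1 hne
  rw [← ht, WithBot.coe_le_coe, ← ENat.forall_natCast_le_iff_le]
  intro n hn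
  have := le_ringKrullDim_quotient_of_le_depth R n M p hp hn
  rw [← ht] at this
  exact_mod_cast this

end Groth.Agent.DepthLib
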