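import Mathlib
import Groth.Prelude.Def_CAlg
import Groth.Agent.Lib.DepthSeq_helper5
import Groth.Agent.Lib.DepthAss_helper5

/-!
# Depth along chains of primes (helper5)

`depth M ≤ depth_J M + dim R/J` over a Noetherian local ring, and
`depth M_s ≤ depth M_p + ht(s/p)`.
-/

set_option autoImplicit false
universe u

namespace Groth.Agent.DepthLib

open RingTheory.Sequence Pointwise

/-- over a Noetherian local ring, `depth M ≤ depth_J M + dim R/J` -/
theorem depth_le_idealDepth_add_dim (R : Type u) [CommRing R] [IsLocalRing R] [IsNoetherianRing R]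
    (M : Type u) [AddCommGroup M] [Module R M] [Module.Finite R M] (J : Ideal R) (hJ : J ≠ ⊤) :
    ((LocCoh.depth R M : ℕ∞) : WithBot ℕ∞) ≤
      ((LocCoh.idealDepth J M : ℕ∞) : WithBot ℕ∞) + ringKrullDim (R ⧸ J) := by
  classical
  haveI : Nontrivial (R ⧸ J) := Ideal.Quotient.nontrivial_iff.2 hJ
  have hdim0 : (0 : WithBot ℕ∞) ≤ ringKrullDim (R ⧸ J) := ringKrullDim_nonneg_of_nontrivial
  have hne : ringKrullDim (R ⧸ J) ≠ ⊥ := by
    intro h
    rw [h] at hdim0
    exact absurd hdim0 (by simp)
  obtain ⟨t, ht⟩ := WithBot.ne_bot_iff_exists.1 hne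
  by_cases hJM : J • (⊤ : Submodule R M) = ⊤
  · have h1 : LocCoh.idealDepth J M = ⊤ := by
      unfold LocCoh.idealDepth
      rw [if_pos hJM]
    rw [h1, ← ht, ← WithBot.coe_add, top_add, WithBot.coe_le_coe]
    exact le_top
  · obtain ⟨rs, -, hreg, hmem, hmax⟩ := exists_maximal_extension J M hJM []
      (IsWeaklyRegular.nil _ _) (by simp)
    have hlen := length_eq_idealDepth_of_maximal J M hJM rs hreg hmem hmax
    have h1 := idealDepth_quot_ofList_add_length J rs M hreg hmem
    have h0 : ¬ 1 ≤ LocCoh.idealDepth J (M ⧸ (Ideal.ofList rs • ⊤ : Submodule R M)) := by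
      intro h
      have h5 : (1 : ℕ∞) + (rs.length : ℕ∞) ≤ (rs.length : ℕ∞) := by
        calc (1 : ℕ∞) + (rs.length : ℕ∞)
            ≤ LocCoh.idealDepth J (M ⧸ (Ideal.ofList rs • ⊤ : Submodule R M)) + rs.length :=
              add_le_add_left h _
          _ = (rs.length : ℕ∞) := by rw [h1, hlen]
      have h6 : ((1 + rs.length : ℕ) : ℕ∞) ≤ ((rs.length : ℕ) : ℕ∞) := by
        push_cast
        exact h5
      have := Nat.cast_le.1 h6
      omega
    obtain ⟨Q, hQ, hJQ⟩ := exists_associatedPrime_of_not_one_le J _ h0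
    have h2 := depth_le_ringKrullDim_quotient R _ Q hQ
    have h3 : ringKrullDim (R ⧸ Q) ≤ ringKrullDim (R ⧸ J) :=
      ringKrullDim_le_of_surjective (Ideal.Quotient.factor hJQ)
        (Ideal.Quotient.factor_surjective hJQ)
    have hm : ∀ r ∈ rs, r ∈ IsLocalRing.maximalIdeal R :=
      fun r hr => (IsLocalRing.le_maximalIdeal hJ) (hmem r hr)
    have h4 := idealDepth_quot_ofList_add_length (IsLocalRing.maximalIdeal R) rs M hreg hm
    unfold LocCoh.depth at h2 ⊢
    rw [← h4, ← hlen]
    push_cast
    rw [add_comm]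
    exact add_le_add_right (le_trans h2 h3) _

section LocReg

variable {A : Type u} [CommRing A] (S : Submonoid A) (M : Type u) [AddCommGroup M] [Module A M]

/-- regularity of `x/1` on a localized module in terms of `M` -/
theorem isSMulRegular_localizedModule_iff (x : A) :
    IsSMulRegular (LocalizedModule S M) (algebraMap A (Localization S) x) ↔
      ∀ m : M, x • m = 0 → ∃ t ∈ S, t • m = 0 := by
  rw [isSMulRegular_iff_right_eq_zero_of_smul]
  constructor
  · intro h m hm
    have h1 : algebraMap A (Localization S) x • (LocalizedModule.mkLinearMap S M m) = 0 := by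
      rw [algebraMap_smul, ← map_smul, hm, map_zero]
    have h2 := h _ h1
    obtain ⟨t, ht⟩ := (IsLocalizedModule.eq_zero_iff S (LocalizedModule.mkLinearMap S M)).1 h2
    exact ⟨t.1, t.2, ht⟩
  · intro h y hy
    induction y using LocalizedModule.induction_on with
    | h m u =>
      rw [algebraMap_smul, LocalizedModule.smul'_mk, ← LocalizedModule.zero_mk u,
        LocalizedModule.mk_eq] at hy
      obtain ⟨t, ht⟩ := hy
      rw [smul_zero, smul_zero] at ht
      have h3 : x • ((t : A) • (u : A) • m) = 0 := by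
        have : (t : A) • (u : A) • x • m = 0 := ht
        rw [smul_comm x, smul_comm x, this]
      obtain ⟨t', ht', h4⟩ := h _ h3
      rw [← LocalizedModule.zero_mk u, LocalizedModule.mk_eq]
      refine ⟨⟨t', ht'⟩ * t, ?_⟩
      rw [smul_zero, smul_zero, mul_smul]
      exact h4

/-- the localized sequence `M_S --x--> M_S --> (M/xM)_S` is exact -/
theorem localized_smul_exact (x : A) :
    Function.Exact
      ((algebraMap A (Localization S) x) • LinearMap.id :
        LocalizedModule S M →ₗ[Localization S] LocalizedModule S M)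
      (LocalizedModule.map S (Submodule.mkQ (x • (⊤ : Submodule A M)))) := by
  set g : M →ₗ[A] QuotSMulTop x M := Submodule.mkQ _ with hg
  have hex0 : Function.Exact (x • LinearMap.id : M →ₗ[A] M) g := by
    intro m
    rw [hg, Submodule.mkQ_apply, Submodule.Quotient.mk_eq_zero]
    constructor
    · intro hm
      obtain ⟨m', _, hm'⟩ := (Submodule.mem_smul_pointwise_iff_exists _ _ _).1 hm
      exact ⟨m', hm'⟩
    · rintro ⟨m', rfl⟩
      exact Submodule.smul_mem_pointwise_smul _ _ _ Submodule.mem_top
  have hexp := LocalizedModule.map_exact S (x • LinearMap.id : M →ₗ[A] M) g hex0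
  have hfun : ∀ y : LocalizedModule S M,
      IsLocalizedModule.map S (LocalizedModule.mkLinearMap S M)
        (LocalizedModule.mkLinearMap S M) (x • LinearMap.id : M →ₗ[A] M) y =
        algebraMap A (Localization S) x • y := by
    intro y
    rw [LinearMap.map_smul, IsLocalizedModule.map_id, LinearMap.smul_apply, LinearMap.id_apply,
      algebraMap_smul]
  intro y
  have := hexp y
  rw [show (LocalizedModule.map S g) y =
    IsLocalizedModule.map S (LocalizedModule.mkLinearMap S M)
      (LocalizedModule.mkLinearMap S (QuotSMulTop x M)) g y from rfl, this]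
  constructor
  · rintro ⟨z, hz⟩
    exact ⟨z, by rw [← hz, hfun]; rfl⟩
  · rintro ⟨z, hz⟩
    exact ⟨z, by rw [hfun, ← hz]; rfl⟩

end LocReg

/-- `depth_{pR_s}(M_s) ≤ depth(M_p)` for primes `p ≤ s` -/
theorem le_depth_localization_of_le_idealDepth_map {R : Type u} [CommRing R] [IsNoetherianRing R]
    (p s : Ideal R) [p.IsPrime] [s.IsPrime] (hps : p ≤ s) (n : ℕ) :
    ∀ (M : Type u) [AddCommGroup M] [Module R M] [Module.Finite R M],
    (n : ℕ∞) ≤ LocCoh.idealDepth (p.map (algebraMap R (Localization.AtPrime s)))
      (LocalizedModule s.primeCompl M) →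
    (n : ℕ∞) ≤ LocCoh.depth (Localization.AtPrime p) (LocalizedModule p.primeCompl M) := by
  induction n with
  | zero => intro M _ _ _ _; simp
  | succ n ih =>
    intro M _ _ _ h
    have hp'le : p.map (algebraMap R (Localization.AtPrime s)) ≤
        IsLocalRing.maximalIdeal (Localization.AtPrime s) := by
      rw [← Localization.AtPrime.map_eq_maximalIdeal]
      exact Ideal.map_mono hps
    have h1 : 1 ≤ LocCoh.idealDepth (p.map (algebraMap R (Localization.AtPrime s)))
        (LocalizedModule s.primeCompl M) := by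
      refine le_trans ?_ h
      exact_mod_cast Nat.succ_le_succ (Nat.zero_le n)
    rcases (one_le_idealDepth_iff _ _).1 h1 with htop | ⟨y, hy, hyreg⟩
    · have hbot : (⊤ : Submodule (Localization.AtPrime s) (LocalizedModule s.primeCompl M)) = ⊥ :=
        Submodule.eq_bot_of_le_smul_of_le_jacobson_bot _ ⊤ Module.Finite.fg_top (by rw [htop])
          (le_trans hp'le (IsLocalRing.maximalIdeal_le_jacobson _))
      have hsub : Subsingleton (LocalizedModule s.primeCompl M) := by
        rw [← Submodule.subsingleton_iff (Localization.AtPrime s)]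
        exact subsingleton_of_bot_eq_top hbot.symm
      have hsubp : Subsingleton (LocalizedModule p.primeCompl M) := by
        rw [LocalizedModule.subsingleton_iff] at hsub ⊢
        intro m
        obtain ⟨r, hr, hrm⟩ := hsub m
        exact ⟨r, fun hrp => hr (hps hrp), hrm⟩
      unfold LocCoh.depth
      rw [le_idealDepth_iff]
      exact Or.inl (Subsingleton.elim _ _)
    · obtain ⟨⟨⟨x, hx⟩, t⟩, hxt⟩ :=
        (IsLocalization.mem_map_algebraMap_iff s.primeCompl (Localization.AtPrime s)).1 hy
      have hxs_reg : IsSMulRegular (LocalizedModule s.primeCompl M)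
          (algebraMap R (Localization.AtPrime s) x) := by
        have hu : IsUnit (algebraMap R (Localization.AtPrime s) (t : R)) :=
          IsLocalization.map_units _ t
        have := hyreg.mul (hu.isSMulRegular (LocalizedModule s.primeCompl M))
        rw [hxt] at this
        exact this
      have hxs_mem : algebraMap R (Localization.AtPrime s) x ∈
          p.map (algebraMap R (Localization.AtPrime s)) := Ideal.mem_map_of_mem _ hx
      have key := le_idealDepth_iff_of_smul_ses (p.map (algebraMap R (Localization.AtPrime s)))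
        (LocalizedModule s.primeCompl M) (LocalizedModule s.primeCompl (QuotSMulTop x M))
        hxs_mem hxs_reg (LocalizedModule.map s.primeCompl (Submodule.mkQ _))
        (LocalizedModule.map_surjective _ _ (Submodule.mkQ_surjective _))
        (localized_smul_exact s.primeCompl M x) n
      have h2 := key.2 h
      have h3 := ih (QuotSMulTop x M) h2
      have hxp_reg : IsSMulRegular (LocalizedModule p.primeCompl M)
          (algebraMap R (Localization.AtPrime p) x) := by
        rw [isSMulRegular_localizedModule_iff] at hxs_reg ⊢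
        intro m hm
        obtain ⟨t, ht, htm⟩ := hxs_reg m hm
        exact ⟨t, fun htp => ht (hps htp), htm⟩
      have hxp_mem : algebraMap R (Localization.AtPrime p) x ∈
          IsLocalRing.maximalIdeal (Localization.AtPrime p) :=
        (IsLocalization.AtPrime.to_map_mem_maximal_iff _ p x).2 hx
      unfold LocCoh.depth at h3 ⊢
      exact (le_idealDepth_iff_of_smul_ses (IsLocalRing.maximalIdeal (Localization.AtPrime p))
        (LocalizedModule p.primeCompl M) (LocalizedModule p.primeCompl (QuotSMulTop x M))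
        hxp_mem hxp_reg (LocalizedModule.map p.primeCompl (Submodule.mkQ _))
        (LocalizedModule.map_surjective _ _ (Submodule.mkQ_surjective _))
        (localized_smul_exact p.primeCompl M x) n).1 h3

/-- `dim R_s/pR_s ≤ ht(s/p)` -/
theorem ringKrullDim_localization_quotient_le {R : Type u} [CommRing R] (p s : Ideal R) [p.IsPrime]
    [hs : s.IsPrime] (hps : p ≤ s) :
    ringKrullDim (Localization.AtPrime s ⧸ p.map (algebraMap R (Localization.AtPrime s))) ≤
      ((s.map (Ideal.Quotient.mk p)).height : WithBot ℕ∞) := by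
  set Rs := Localization.AtPrime s with hRs
  set p' := p.map (algebraMap R Rs) with hp'
  haveI hsp : (s.map (Ideal.Quotient.mk p)).IsPrime :=
    Ideal.map_isPrime_of_surjective Ideal.Quotient.mk_surjective (by rw [Ideal.mk_ker]; exact hps)
  rw [show (s.map (Ideal.Quotient.mk p)).height =
    Order.height (⟨s.map (Ideal.Quotient.mk p), hsp⟩ : PrimeSpectrum (R ⧸ p)) from
      PrimeSpectrum.height_eq_orderHeight ⟨s.map (Ideal.Quotient.mk p), hsp⟩,
    Order.height_eq_krullDim_Iic]
  set φ : R ⧸ p →+* Rs ⧸ p' := Ideal.quotientMap p' (algebraMap R Rs) Ideal.le_comap_map with hφ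
  have hφmk : ∀ a : R, φ (Ideal.Quotient.mk p a) = Ideal.Quotient.mk p' (algebraMap R Rs a) := by
    intro a
    rw [hφ, Ideal.quotientMap_mk]
  have hle : ∀ Q : PrimeSpectrum (Rs ⧸ p'),
      PrimeSpectrum.comap φ Q ≤ (⟨s.map (Ideal.Quotient.mk p), hsp⟩ : PrimeSpectrum (R ⧸ p)) := by
    intro Q xbar hx
    obtain ⟨x, rfl⟩ := Ideal.Quotient.mk_surjective xbar
    have hxQ : φ (Ideal.Quotient.mk p x) ∈ Q.asIdeal := hx
    rw [hφmk] at hxQ
    have hxs : x ∈ s := by
      by_contra hxs
      have hu : IsUnit (algebraMap R Rs x) := IsLocalization.map_units Rs (⟨x, hxs⟩ : s.primeCompl)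
      exact Q.isPrime.ne_top (Ideal.eq_top_of_isUnit_mem _ hxQ (hu.map (Ideal.Quotient.mk p')))
    exact Ideal.mem_map_of_mem _ hxs
  let f : PrimeSpectrum (Rs ⧸ p') →
      Set.Iic (⟨s.map (Ideal.Quotient.mk p), hsp⟩ : PrimeSpectrum (R ⧸ p)) :=
    fun Q => ⟨PrimeSpectrum.comap φ Q, hle Q⟩
  have hf : StrictMono f := by
    intro Q1 Q2 hlt
    have hlt' : Q1.asIdeal < Q2.asIdeal := hlt
    obtain ⟨hle12, z, hz2, hz1⟩ := SetLike.lt_iff_le_and_exists.1 hlt'
    obtain ⟨z', rfl⟩ := Ideal.Quotient.mk_surjective z
    obtain ⟨a, t, rfl⟩ := IsLocalization.exists_mk'_eq s.primeCompl z'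
    have hmul : IsLocalization.mk' Rs a t * algebraMap R Rs (t : R) = algebraMap R Rs a :=
      IsLocalization.mk'_spec Rs a t
    have ha2 : Ideal.Quotient.mk p' (algebraMap R Rs a) ∈ Q2.asIdeal := by
      rw [← hmul, map_mul]
      exact Ideal.mul_mem_right _ _ hz2
    have ha1 : Ideal.Quotient.mk p' (algebraMap R Rs a) ∉ Q1.asIdeal := by
      intro h
      apply hz1
      have hu : IsUnit (algebraMap R Rs (t : R)) := IsLocalization.map_units Rs t
      rw [← hmul, map_mul] at h
      rcases Q1.isPrime.mem_or_mem h with h' | h'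
      · exact h'
      · exact absurd (Ideal.eq_top_of_isUnit_mem _ h' (hu.map (Ideal.Quotient.mk p')))
          Q1.isPrime.ne_top
    have hle' : (f Q1 : PrimeSpectrum (R ⧸ p)) ≤ f Q2 := by
      intro x hx
      exact hle12 hx
    refine lt_of_le_of_ne hle' ?_
    intro heq
    apply ha1
    have h3 : Ideal.Quotient.mk p a ∈ (f Q2 : PrimeSpectrum (R ⧸ p)).asIdeal := by
      show φ (Ideal.Quotient.mk p a) ∈ Q2.asIdeal
      rw [hφmk]
      exact ha2
    rw [← heq] at h3
    have h4 : φ (Ideal.Quotient.mk p a) ∈ Q1.asIdeal := h3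
    rw [hφmk] at h4
    exact h4
  exact Order.krullDim_le_of_strictMono f hf

end Groth.Agent.DepthLib
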