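import Mathlib

/-!
# Support and support dimension of localized modules (helper5)
-/

set_option autoImplicit false
universe u

namespace Groth.Agent.DepthLib

variable {A : Type u} [CommRing A] (M : Type u) [AddCommGroup M] [Module A M]
  (p : Ideal A) [hp : p.IsPrime]

/-- support of a localized module: `Q ∈ Supp M_p` iff `Q ∩ A ∈ Supp M` -/
theorem mem_support_localizedModule_iff (Q : PrimeSpectrum (Localization.AtPrime p)) :
    Q ∈ Module.support (Localization.AtPrime p) (LocalizedModule p.primeCompl M) ↔
      (PrimeSpectrum.comap (algebraMap A (Localization.AtPrime p)) Q) ∈ Module.support A M := by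
  rw [Module.mem_support_iff', Module.mem_support_iff']
  constructor
  · rintro ⟨y, hy⟩
    induction y using LocalizedModule.induction_on with
    | h m s =>
      refine ⟨m, ?_⟩
      intro a ha ham
      have ha' : algebraMap A (Localization.AtPrime p) a ∉ Q.asIdeal := ha
      apply hy _ ha'
      rw [algebraMap_smul, LocalizedModule.smul'_mk, ham, LocalizedModule.zero_mk]
  · rintro ⟨m, hm⟩
    refine ⟨LocalizedModule.mk m 1, ?_⟩
    intro r hr hzero
    obtain ⟨a, s, rfl⟩ := IsLocalization.exists_mk'_eq p.primeCompl r
    have ha : a ∉ (PrimeSpectrum.comap (algebraMap A (Localization.AtPrime p)) Q).asIdeal := by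
      intro hmem
      apply hr
      have h1 : algebraMap A (Localization.AtPrime p) a ∈ Q.asIdeal := hmem
      have h2 : IsLocalization.mk' (Localization.AtPrime p) a s =
          IsLocalization.mk' (Localization.AtPrime p) 1 s * algebraMap A _ a := by
        rw [mul_comm, IsLocalization.mul_mk'_eq_mk'_of_mul, mul_one]
      rw [h2]
      exact Ideal.mul_mem_left _ _ h1
    rw [← Localization.mk_eq_mk', LocalizedModule.mk_smul_mk, ← LocalizedModule.zero_mk (s * 1),
      LocalizedModule.mk_eq] at hzero
    obtain ⟨t, ht⟩ := hzero
    rw [smul_zero, smul_zero] at ht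
    have hta : (t : A) * ((s * 1 : p.primeCompl) : A) * a ∉
        (PrimeSpectrum.comap (algebraMap A (Localization.AtPrime p)) Q).asIdeal := by
      intro hmem
      have hQle : (PrimeSpectrum.comap (algebraMap A (Localization.AtPrime p)) Q).asIdeal ≤ p := by
        intro x hx
        by_contra hxp
        have hu : IsUnit (algebraMap A (Localization.AtPrime p) x) :=
          IsLocalization.map_units _ (⟨x, hxp⟩ : p.primeCompl)
        exact Q.isPrime.ne_top (Ideal.eq_top_of_isUnit_mem _ hx hu)
      have hprime := (PrimeSpectrum.comap (algebraMap A (Localization.AtPrime p)) Q).isPrime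
      rcases hprime.mem_or_mem hmem with h1 | h1
      · rcases hprime.mem_or_mem h1 with h2 | h2
        · exact t.2 (hQle h2)
        · exact (s * 1 : p.primeCompl).2 (hQle h2)
      · exact ha h1
    apply hm _ hta
    rw [mul_smul, mul_smul]
    exact ht

theorem primeSpectrumOrderIso_val (Q : PrimeSpectrum (Localization.AtPrime p)) :
    (IsLocalization.AtPrime.primeSpectrumOrderIso (Localization.AtPrime p) p Q).1 =
      PrimeSpectrum.comap (algebraMap A (Localization.AtPrime p)) Q := by
  apply PrimeSpectrum.ext
  simp [IsLocalization.AtPrime.primeSpectrumOrderIso]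
  rfl

/-- the order isomorphism `Supp M_p ≃o {q ∈ Supp M | q ≤ p}` -/
noncomputable def supportLocOrderIso (hpM : (⟨p, hp⟩ : PrimeSpectrum A) ∈ Module.support A M) :
    Module.support (Localization.AtPrime p) (LocalizedModule p.primeCompl M) ≃o
      Set.Iic (⟨⟨p, hp⟩, hpM⟩ : Module.support A M) where
  toFun Q := ⟨⟨(IsLocalization.AtPrime.primeSpectrumOrderIso (Localization.AtPrime p) p Q.1).1, by
      rw [primeSpectrumOrderIso_val]
      exact (mem_support_localizedModule_iff M p Q.1).1 Q.2⟩,
    (IsLocalization.AtPrime.primeSpectrumOrderIso (Localization.AtPrime p) p Q.1).2⟩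
  invFun q := ⟨(IsLocalization.AtPrime.primeSpectrumOrderIso (Localization.AtPrime p) p).symm
      ⟨q.1.1, q.2⟩, by
    rw [mem_support_localizedModule_iff, ← primeSpectrumOrderIso_val, OrderIso.apply_symm_apply]
    exact q.1.2⟩
  left_inv Q := by
    apply Subtype.ext
    simp
  right_inv q := by
    apply Subtype.ext
    apply Subtype.ext
    simp
  map_rel_iff' := by
    intro Q Q'
    exact (IsLocalization.AtPrime.primeSpectrumOrderIso (Localization.AtPrime p) p).map_rel_iff
      (a := Q.1) (b := Q'.1)

/-- `dim Supp M_p` is the height of `p` in `Supp M` -/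
theorem supportDim_localizedModule (hpM : (⟨p, hp⟩ : PrimeSpectrum A) ∈ Module.support A M) :
    Module.supportDim (Localization.AtPrime p) (LocalizedModule p.primeCompl M) =
      (Order.height (⟨⟨p, hp⟩, hpM⟩ : Module.support A M) : ℕ∞) := by
  rw [Order.height_eq_krullDim_Iic]
  exact Order.krullDim_eq_of_orderIso (supportLocOrderIso M p hpM)

end Groth.Agent.DepthLib
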