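import Mathlib
import Groth.Prelude.Def_CAlg
import Groth.Agent.Lib.DepthChain_helper5
import Groth.Agent.Lib.SupportLoc_helper5

/-!
# Cohen–Macaulay modules over Noetherian local rings (helper5)
-/

set_option autoImplicit false
universe u

namespace Groth.Agent.DepthLib

open RingTheory.Sequence Pointwise

section General

variable {R : Type u} [CommRing R] (M : Type u) [AddCommGroup M] [Module R M] [Module.Finite R M]

/-- `dim R/p ≤ dim M` for `p ∈ Supp M` -/
theorem ringKrullDim_quotient_le_supportDim (p : Ideal R) (hp : Module.annihilator R M ≤ p) :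
    ringKrullDim (R ⧸ p) ≤ Module.supportDim R M := by
  rw [Module.supportDim_eq_ringKrullDim_quotient_annihilator]
  exact ringKrullDim_le_of_surjective (Ideal.Quotient.factor hp)
    (Ideal.Quotient.factor_surjective hp)

theorem annihilator_le_of_mem_support (p : PrimeSpectrum R) (hp : p ∈ Module.support R M) :
    Module.annihilator R M ≤ p.asIdeal := by
  rw [Module.support_eq_zeroLocus] at hp
  exact hp

end General

section Local

variable {R : Type u} [CommRing R] [IsLocalRing R] [IsNoetherianRing R]
  (M : Type u) [AddCommGroup M] [Module R M] [Module.Finite R M]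

theorem supportDim_lt_top : Module.supportDim R M < ⊤ :=
  lt_of_le_of_lt (Module.supportDim_le_ringKrullDim R M) ringKrullDim_lt_top

theorem nontrivial_of_isCM (hM : LocCoh.IsCohenMacaulayModule R M) : Nontrivial M := by
  rw [← Module.supportDim_ne_bot_iff_nontrivial R, hM]
  exact WithBot.coe_ne_bot

/-- associated primes of a CM module have maximal dimension -/
theorem ringKrullDim_quotient_eq_of_isCM (hM : LocCoh.IsCohenMacaulayModule R M) (p : Ideal R)
    (hp : p ∈ associatedPrimes R M) : ringKrullDim (R ⧸ p) = Module.supportDim R M := by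
  apply le_antisymm
  · apply ringKrullDim_quotient_le_supportDim
    have := IsAssociatedPrime.annihilator_le hp
    rwa [Submodule.annihilator_top] at this
  · rw [hM]
    exact depth_le_ringKrullDim_quotient R M p hp

/-- `x + 1 ≤ x` is impossible for finite non-bottom `x` -/
theorem not_add_one_le_self {x : WithBot ℕ∞} (h1 : x ≠ ⊥) (h2 : x < ⊤) : ¬ x + 1 ≤ x := by
  obtain ⟨t, rfl⟩ := WithBot.ne_bot_iff_exists.1 h1
  have ht : t ≠ ⊤ := by
    rintro rfl
    exact absurd h2 (by simp)
  obtain ⟨n, rfl⟩ := ENat.ne_top_iff_exists.1 ht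
  intro h
  have h3 : ((n + 1 : ℕ) : WithBot ℕ∞) ≤ ((n : ℕ) : WithBot ℕ∞) := by
    push_cast
    exact h
  have := Nat.cast_le.1 (WithBot.coe_le_coe.1 h3)
  omega

/-- for a CM module, an element cutting the dimension down by one is regular -/
theorem isSMulRegular_of_isCM_of_supportDim (hM : LocCoh.IsCohenMacaulayModule R M) (g : R)
    (hdim : Module.supportDim R (QuotSMulTop g M) + 1 = Module.supportDim R M) :
    IsSMulRegular M g := by
  by_contra hreg
  rw [isSMulRegular_iff_right_eq_zero_of_smul] at hreg
  push Not at hreg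
  obtain ⟨m, hm0, hmne⟩ := hreg
  have hzd : g ∈ {r : R | ∃ x : M, x ≠ 0 ∧ r • x = 0} := ⟨m, hmne, hm0⟩
  rw [← biUnion_associatedPrimes_eq_zero_divisors R M] at hzd
  simp only [Set.mem_iUnion, SetLike.mem_coe] at hzd
  obtain ⟨p, hp, hgp⟩ := hzd
  haveI := hp.isPrime
  have hpann : Module.annihilator R M ≤ p := by
    have := IsAssociatedPrime.annihilator_le hp
    rwa [Submodule.annihilator_top] at this
  have hpsupp : (⟨p, hp.isPrime⟩ : PrimeSpectrum R) ∈ Module.support R (QuotSMulTop g M) := by
    rw [Module.support_quotSMulTop]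
    refine ⟨?_, ?_⟩
    · rw [Module.support_eq_zeroLocus]
      exact hpann
    · intro x hx
      rw [Set.mem_singleton_iff] at hx
      rw [hx]
      exact hgp
  have h1 : ringKrullDim (R ⧸ p) ≤ Module.supportDim R (QuotSMulTop g M) :=
    ringKrullDim_quotient_le_supportDim _ p (annihilator_le_of_mem_support _ ⟨p, hp.isPrime⟩ hpsupp)
  rw [ringKrullDim_quotient_eq_of_isCM M hM p hp, ← hdim] at h1
  refine not_add_one_le_self ?_ (supportDim_lt_top _) h1
  rw [Module.supportDim_ne_bot_iff_nontrivial, ← Module.nonempty_support_iff (R := R)]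
  exact ⟨_, hpsupp⟩

theorem add_one_cancel {x : WithBot ℕ∞} {d : ℕ∞} (h : x + 1 = ((d + 1 : ℕ∞) : WithBot ℕ∞)) :
    x = (d : WithBot ℕ∞) := by
  cases x with
  | bot =>
    rw [WithBot.bot_add] at h
    exact absurd h.symm WithBot.coe_ne_bot
  | coe n =>
    have h' : ((n + 1 : ℕ∞) : WithBot ℕ∞) = ((d + 1 : ℕ∞) : WithBot ℕ∞) := by
      rw [← h]
      rfl
    have h2 : n + 1 = d + 1 := WithBot.coe_injective h'
    have := ENat.add_left_injective_of_ne_top (n := 1) (by simp) h2
    rw [this]

/-- the quotient of a CM module by a regular element of the maximal ideal is CM -/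
theorem isCM_quotSMulTop (hM : LocCoh.IsCohenMacaulayModule R M) (g : R)
    (hg : g ∈ IsLocalRing.maximalIdeal R) (hreg : IsSMulRegular M g) :
    LocCoh.IsCohenMacaulayModule R (QuotSMulTop g M) := by
  have h1 := Module.supportDim_quotSMulTop_succ_eq_supportDim hreg hg
  have h2 := idealDepth_quotSMulTop_add_one (IsLocalRing.maximalIdeal R) M hg hreg
  unfold LocCoh.IsCohenMacaulayModule LocCoh.depth at *
  rw [hM, ← h2] at h1
  exact add_one_cancel h1

/-- the quotient by `span {g}` -/
noncomputable def quotSpanSingletonEquiv (g : R) :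
    (M ⧸ Ideal.span {g} • (⊤ : Submodule R M)) ≃ₗ[R] QuotSMulTop g M :=
  Submodule.quotEquivOfEq _ _ ((⊤ : Submodule R M).ideal_span_singleton_smul g)

theorem isCM_congr {N : Type u} [AddCommGroup N] [Module R N] (e : M ≃ₗ[R] N)
    (hM : LocCoh.IsCohenMacaulayModule R M) : LocCoh.IsCohenMacaulayModule R N := by
  unfold LocCoh.IsCohenMacaulayModule LocCoh.depth at *
  rw [← Module.supportDim_eq_of_equiv e, ← idealDepth_congr _ _ e]
  exact hM

/-- general inequality `dim N ≤ dim N/(xs)N + length xs` -/
theorem supportDim_le_supportDim_quot_ofList_add_length (xs : List R) :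
    ∀ (N : Type u) [AddCommGroup N] [Module R N] [Module.Finite R N],
      (∀ x ∈ xs, x ∈ IsLocalRing.maximalIdeal R) →
      Module.supportDim R N ≤
        Module.supportDim R (N ⧸ (Ideal.ofList xs • ⊤ : Submodule R N)) + xs.length := by
  induction xs with
  | nil =>
    intro N _ _ _ _
    rw [List.length_nil, Nat.cast_zero, add_zero]
    exact le_of_eq (Module.supportDim_eq_of_equiv
      (Submodule.quotEquivOfEqBot _ (by rw [Ideal.ofList_nil, Submodule.bot_smul])).symm)
  | cons x xs ih =>
    intro N _ _ _ hmem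
    have h1 := Module.supportDim_le_supportDim_quotSMulTop_succ (M := N)
      (hmem x List.mem_cons_self)
    have h2 := ih (QuotSMulTop x N) (fun y hy => hmem y (List.mem_cons_of_mem _ hy))
    rw [← Module.supportDim_eq_of_equiv
      (Submodule.quotOfListConsSMulTopEquivQuotSMulTopInner N x xs)] at h2
    rw [List.length_cons]
    push_cast
    rw [← add_assoc]
    exact le_trans h1 (add_le_add_left h2 1)

theorem add_one_cancel' {a b : WithBot ℕ∞} (h : a + 1 = b + 1) : a = b := by
  cases b with
  | bot =>
    rw [WithBot.bot_add] at h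
    cases a with
    | bot => rfl
    | coe n => exact absurd h (by rw [← WithBot.coe_one, ← WithBot.coe_add]; exact WithBot.coe_ne_bot)
  | coe d => exact add_one_cancel h

/-- for a CM module: `xs` is regular iff it cuts down the dimension by its length; quotients are CM -/
theorem isCM_list (xs : List R) :
    ∀ (M : Type u) [AddCommGroup M] [Module R M] [Module.Finite R M],
      LocCoh.IsCohenMacaulayModule R M → (∀ x ∈ xs, x ∈ IsLocalRing.maximalIdeal R) →
      (IsWeaklyRegular M xs ↔
        Module.supportDim R (M ⧸ (Ideal.ofList xs • (⊤ : Submodule R M))) + xs.length =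
          Module.supportDim R M) ∧
      (IsWeaklyRegular M xs →
        LocCoh.IsCohenMacaulayModule R (M ⧸ (Ideal.ofList xs • (⊤ : Submodule R M)))) := by
  induction xs with
  | nil =>
    intro M _ _ _ hM _
    have e : M ≃ₗ[R] (M ⧸ (Ideal.ofList ([] : List R) • (⊤ : Submodule R M))) :=
      (Submodule.quotEquivOfEqBot _ (by rw [Ideal.ofList_nil, Submodule.bot_smul])).symm
    refine ⟨⟨fun _ => ?_, fun _ => IsWeaklyRegular.nil R M⟩, fun _ => isCM_congr M e hM⟩
    rw [List.length_nil, Nat.cast_zero, add_zero]
    exact (Module.supportDim_eq_of_equiv e).symm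
  | cons x xs ih =>
    intro M _ _ _ hM hmem
    have hx : x ∈ IsLocalRing.maximalIdeal R := hmem x List.mem_cons_self
    have hxs : ∀ y ∈ xs, y ∈ IsLocalRing.maximalIdeal R :=
      fun y hy => hmem y (List.mem_cons_of_mem _ hy)
    have e := Submodule.quotOfListConsSMulTopEquivQuotSMulTopInner M x xs
    have hde := Module.supportDim_eq_of_equiv e
    refine ⟨⟨?_, ?_⟩, ?_⟩
    · intro hreg
      rw [isWeaklyRegular_cons_iff] at hreg
      obtain ⟨hreg1, hreg2⟩ := hreg
      have hM' := isCM_quotSMulTop M hM x hx hreg1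
      have h1 := ((ih (QuotSMulTop x M) hM' hxs).1.1 hreg2)
      have h2 := Module.supportDim_quotSMulTop_succ_eq_supportDim hreg1 hx
      rw [hde, List.length_cons]
      push_cast
      rw [← add_assoc, h1, h2]
    · intro hdim
      rw [hde, List.length_cons] at hdim
      push_cast at hdim
      rw [← add_assoc] at hdim
      have h1 := Module.supportDim_le_supportDim_quotSMulTop_succ (M := M) hx
      have h2 := supportDim_le_supportDim_quot_ofList_add_length xs (QuotSMulTop x M) hxs
      have h3 : Module.supportDim R (QuotSMulTop x M) + 1 = Module.supportDim R M := by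
        apply le_antisymm
        · rw [← hdim]
          exact add_le_add_left h2 1
        · exact h1
      have hreg1 := isSMulRegular_of_isCM_of_supportDim M hM x h3
      have hM' := isCM_quotSMulTop M hM x hx hreg1
      rw [← h3] at hdim
      have h4 := add_one_cancel' hdim
      rw [isWeaklyRegular_cons_iff]
      exact ⟨hreg1, (ih (QuotSMulTop x M) hM' hxs).1.2 h4⟩
    · intro hreg
      rw [isWeaklyRegular_cons_iff] at hreg
      obtain ⟨hreg1, hreg2⟩ := hreg
      have hM' := isCM_quotSMulTop M hM x hx hreg1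
      exact isCM_congr _ e.symm ((ih (QuotSMulTop x M) hM' hxs).2 hreg2)

theorem supportDim_congr_support {N : Type u} [AddCommGroup N] [Module R N]
    (h : Module.support R M = Module.support R N) :
    Module.supportDim R M = Module.supportDim R N := by
  unfold Module.supportDim
  rw [h]

/-- `dim M = dim M/IM + depth_I M` for a CM module -/
theorem supportDim_eq_add_idealDepth_of_isCM (I : Ideal R) (hI : I ≠ ⊤) (n : ℕ) :
    ∀ (M : Type u) [AddCommGroup M] [Module R M] [Module.Finite R M],
      LocCoh.IsCohenMacaulayModule R M → LocCoh.idealDepth I M = n →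
      Module.supportDim R M = Module.supportDim R (M ⧸ (I • (⊤ : Submodule R M))) + (n : ℕ∞) := by
  induction n with
  | zero =>
    intro M _ _ _ hM hn
    have h0 : ¬ 1 ≤ LocCoh.idealDepth I M := by
      rw [hn]
      simp
    obtain ⟨p, hp, hIp⟩ := exists_associatedPrime_of_not_one_le I M h0
    haveI := hp.isPrime
    have hpann : Module.annihilator R M ≤ p := by
      have := IsAssociatedPrime.annihilator_le hp
      rwa [Submodule.annihilator_top] at this
    have hpsupp : (⟨p, hp.isPrime⟩ : PrimeSpectrum R) ∈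
        Module.support R (M ⧸ (I • (⊤ : Submodule R M))) := by
      rw [Module.support_quotient]
      refine ⟨?_, hIp⟩
      rw [Module.support_eq_zeroLocus]
      exact hpann
    have h1 : ringKrullDim (R ⧸ p) ≤ Module.supportDim R (M ⧸ (I • (⊤ : Submodule R M))) :=
      ringKrullDim_quotient_le_supportDim _ p
        (annihilator_le_of_mem_support _ ⟨p, hp.isPrime⟩ hpsupp)
    rw [ringKrullDim_quotient_eq_of_isCM M hM p hp] at h1
    rw [Nat.cast_zero, WithBot.coe_zero, add_zero]
    exact le_antisymm h1 (Module.supportDim_le_of_surjective _ (Submodule.mkQ_surjective _))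
  | succ n ih =>
    intro M _ _ _ hM hn
    haveI := nontrivial_of_isCM M hM
    have h1 : 1 ≤ LocCoh.idealDepth I M := by
      rw [hn]
      exact_mod_cast Nat.succ_le_succ (Nat.zero_le n)
    rcases (one_le_idealDepth_iff I M).1 h1 with htop | ⟨x, hxI, hreg⟩
    · exfalso
      have hbot : (⊤ : Submodule R M) = ⊥ :=
        Submodule.eq_bot_of_le_smul_of_le_jacobson_bot I ⊤ Module.Finite.fg_top (by rw [htop])
          (le_trans (IsLocalRing.le_maximalIdeal hI) (IsLocalRing.maximalIdeal_le_jacobson _))
      exact top_ne_bot hbot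
    · have hx : x ∈ IsLocalRing.maximalIdeal R := IsLocalRing.le_maximalIdeal hI hxI
      have hM' := isCM_quotSMulTop M hM x hx hreg
      have h2 := idealDepth_quotSMulTop_add_one I M hxI hreg
      have h3 : LocCoh.idealDepth I (QuotSMulTop x M) = n := by
        rw [hn] at h2
        have h4 : LocCoh.idealDepth I (QuotSMulTop x M) + 1 = (n : ℕ∞) + 1 := by
          rw [h2]
          push_cast
          rfl
        exact ENat.add_left_injective_of_ne_top (n := 1) (by simp) h4
      have h5 := ih (QuotSMulTop x M) hM' h3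
      have h6 := Module.supportDim_quotSMulTop_succ_eq_supportDim hreg hx
      have h7 : Module.supportDim R (QuotSMulTop x M ⧸ (I • (⊤ : Submodule R (QuotSMulTop x M)))) =
          Module.supportDim R (M ⧸ (I • (⊤ : Submodule R M))) := by
        apply supportDim_congr_support
        rw [Module.support_quotient, Module.support_quotient, Module.support_quotSMulTop,
          Set.inter_assoc]
        congr 1
        apply Set.inter_eq_right.2
        intro q hq
        intro y hy
        rw [Set.mem_singleton_iff] at hy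
        rw [hy]
        exact hq hxI
      rw [← h6, h5, h7]
      push_cast
      rw [add_assoc]

end Local

section Chain

variable {A : Type u} [CommRing A] (M : Type u) [AddCommGroup M] [Module A M] [Module.Finite A M]
  (p : Ideal A) [hp : p.IsPrime]

/-- the order isomorphism `V(p) ∩ Supp M ≃o {q ∈ Supp M | p ≤ q}` -/
def supportIciOrderIso (hpM : (⟨p, hp⟩ : PrimeSpectrum A) ∈ Module.support A M) :
    Set.Ici (⟨⟨p, hp⟩, hpM⟩ : Module.support A M) ≃o
      ↥(Module.support A M ∩ PrimeSpectrum.zeroLocus (p : Set A)) where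
  toFun y := ⟨y.1.1, ⟨y.1.2, fun a ha => y.2 ha⟩⟩
  invFun q := ⟨⟨q.1, q.2.1⟩, fun a ha => q.2.2 ha⟩
  left_inv y := rfl
  right_inv q := rfl
  map_rel_iff' := Iff.rfl

/-- `dim M_p + dim M/pM ≤ dim M` -/
theorem supportDim_localizedModule_add_le (hpM : (⟨p, hp⟩ : PrimeSpectrum A) ∈ Module.support A M) :
    Module.supportDim (Localization.AtPrime p) (LocalizedModule p.primeCompl M) +
      Module.supportDim A (M ⧸ (p • (⊤ : Submodule A M))) ≤ Module.supportDim A M := by
  rw [supportDim_localizedModule M p hpM]
  have h1 : Module.supportDim A (M ⧸ (p • (⊤ : Submodule A M))) =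
      ((Order.coheight (⟨⟨p, hp⟩, hpM⟩ : Module.support A M) : ℕ∞) : WithBot ℕ∞) := by
    rw [Order.coheight_eq_krullDim_Ici]
    unfold Module.supportDim
    rw [Module.support_quotient]
    exact (Order.krullDim_eq_of_orderIso (supportIciOrderIso M p hpM)).symm
  rw [h1, ← WithBot.coe_add]
  haveI : Nonempty (Module.support A M) := ⟨⟨⟨p, hp⟩, hpM⟩⟩
  unfold Module.supportDim
  rw [Order.krullDim_eq_iSup_height_add_coheight_of_nonempty, WithBot.coe_le_coe]
  exact le_iSup (fun a : Module.support A M => Order.height a + Order.coheight a) _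

theorem le_of_add_le_add_left' {a b c : WithBot ℕ∞} (hc1 : c ≠ ⊥) (hc2 : c < ⊤)
    (h : a + c ≤ c + b) : a ≤ b := by
  obtain ⟨t, rfl⟩ := WithBot.ne_bot_iff_exists.1 hc1
  have ht : t ≠ ⊤ := by
    rintro rfl
    exact absurd hc2 (by simp)
  cases a with
  | bot => exact bot_le
  | coe a' =>
    cases b with
    | bot =>
      rw [WithBot.add_bot] at h
      exact absurd h (by rw [← WithBot.coe_add]; simp)
    | coe b' =>
      rw [← WithBot.coe_add, ← WithBot.coe_add, WithBot.coe_le_coe, add_comm t b'] at h
      exact WithBot.coe_le_coe.2 ((ENat.add_le_add_iff_right ht).1 h)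

/-- `dim M/pM = dim A/p` for `p ∈ Supp M` -/
theorem supportDim_quotient_smul_top_eq (hpM : (⟨p, hp⟩ : PrimeSpectrum A) ∈ Module.support A M) :
    Module.supportDim A (M ⧸ (p • (⊤ : Submodule A M))) = ringKrullDim (A ⧸ p) := by
  have hpsupp : (⟨p, hp⟩ : PrimeSpectrum A) ∈
      Module.support A (M ⧸ (p • (⊤ : Submodule A M))) := by
    rw [Module.support_quotient]
    exact ⟨hpM, fun a ha => ha⟩
  apply le_antisymm
  · rw [Module.supportDim_eq_ringKrullDim_quotient_annihilator]
    have hle : p ≤ Module.annihilator A (M ⧸ (p • (⊤ : Submodule A M))) := by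
      intro a ha
      rw [Module.mem_annihilator]
      intro m
      obtain ⟨m, rfl⟩ := Submodule.mkQ_surjective _ m
      rw [← map_smul, Submodule.mkQ_apply, Submodule.Quotient.mk_eq_zero]
      exact Submodule.smul_mem_smul ha Submodule.mem_top
    exact ringKrullDim_le_of_surjective (Ideal.Quotient.factor hle)
      (Ideal.Quotient.factor_surjective hle)
  · exact ringKrullDim_quotient_le_supportDim _ p
      (annihilator_le_of_mem_support _ ⟨p, hp⟩ hpsupp)

/-- comparable primes with the same finite coheight are equal -/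
theorem eq_of_le_of_ringKrullDim_quotient_eq (p q : Ideal A) [p.IsPrime] [q.IsPrime] (hpq : p ≤ q)
    (hdim : ringKrullDim (A ⧸ p) = ringKrullDim (A ⧸ q)) (hfin : ringKrullDim (A ⧸ q) < ⊤) :
    p = q := by
  by_contra hne
  have hlt : p < q := lt_of_le_of_ne hpq hne
  obtain ⟨a, haq, hap⟩ := SetLike.exists_of_lt hlt
  have hr : Ideal.Quotient.mk p a ∈ nonZeroDivisors (A ⧸ p) := by
    rw [mem_nonZeroDivisors_iff_ne_zero]
    intro h0
    rw [Ideal.Quotient.eq_zero_iff_mem] at h0
    exact hap h0
  have h1 := ringKrullDim_succ_le_of_surjective (Ideal.Quotient.factor hpq)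
    (Ideal.Quotient.factor_surjective hpq) hr (by
      rw [Ideal.Quotient.factor_mk, Ideal.Quotient.eq_zero_iff_mem]
      exact haq)
  rw [hdim] at h1
  have hne : ringKrullDim (A ⧸ q) ≠ ⊥ := by
    intro h
    have := ringKrullDim_nonneg_of_nontrivial (R := A ⧸ q)
    rw [h] at this
    exact absurd this (by simp)
  obtain ⟨t, ht⟩ := WithBot.ne_bot_iff_exists.1 hne
  rw [← ht] at h1 hfin
  have htne : t ≠ ⊤ := by
    rintro rfl
    exact absurd hfin (by simp)
  obtain ⟨n, rfl⟩ := ENat.ne_top_iff_exists.1 htne
  have h3 : ((n + 1 : ℕ) : WithBot ℕ∞) ≤ ((n : ℕ) : WithBot ℕ∞) := by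
    push_cast
    exact h1
  have := Nat.cast_le.1 (WithBot.coe_le_coe.1 h3)
  omega

theorem add_nat_cancel {a c : WithBot ℕ∞} (r : ℕ) (h : a + (r : ℕ∞) = c + (r : ℕ∞)) : a = c := by
  induction r with
  | zero => simpa using h
  | succ r ih =>
    apply ih
    have h1 : a + ((r : ℕ∞) : WithBot ℕ∞) + 1 = c + ((r : ℕ∞) : WithBot ℕ∞) + 1 := by
      rw [add_assoc, add_assoc]
      have : (((r + 1 : ℕ) : ℕ∞) : WithBot ℕ∞) = ((r : ℕ∞) : WithBot ℕ∞) + 1 := by
        push_cast
        rfl
      rw [← this]
      exact h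
    exact add_one_cancel' h1

end Chain

section LocalCM

variable {R : Type u} [CommRing R] [IsLocalRing R] [IsNoetherianRing R]
  (M : Type u) [AddCommGroup M] [Module R M] [Module.Finite R M]

/-- localization of a CM module at a prime in its support: `dim M_p = depth_p M = depth M_p` -/
theorem supportDim_localizedModule_of_isCM (hM : LocCoh.IsCohenMacaulayModule R M) (p : Ideal R)
    [hp : p.IsPrime] (hpM : (⟨p, hp⟩ : PrimeSpectrum R) ∈ Module.support R M) :
    Module.supportDim (Localization.AtPrime p) (LocalizedModule p.primeCompl M) =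
        ((LocCoh.idealDepth p M : ℕ∞) : WithBot ℕ∞) ∧
      LocCoh.idealDepth p M =
        LocCoh.depth (Localization.AtPrime p) (LocalizedModule p.primeCompl M) := by
  haveI := nontrivial_of_isCM M hM
  have hpne : p ≠ ⊤ := hp.ne_top
  have hIM : p • (⊤ : Submodule R M) ≠ ⊤ := by
    intro htop
    have hbot : (⊤ : Submodule R M) = ⊥ :=
      Submodule.eq_bot_of_le_smul_of_le_jacobson_bot p ⊤ Module.Finite.fg_top (by rw [htop])
        (le_trans (IsLocalRing.le_maximalIdeal hpne) (IsLocalRing.maximalIdeal_le_jacobson _))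
    exact top_ne_bot hbot
  obtain ⟨n, hn⟩ := ENat.ne_top_iff_exists.1 (idealDepth_ne_top p M hIM)
  have ha := supportDim_eq_add_idealDepth_of_isCM p hpne n M hM hn.symm
  have hb := supportDim_localizedModule_add_le M p hpM
  have hpsupp : (⟨p, hp⟩ : PrimeSpectrum R) ∈
      Module.support R (M ⧸ (p • (⊤ : Submodule R M))) := by
    rw [Module.support_quotient]
    exact ⟨hpM, fun a ha => ha⟩
  have hc1 : Module.supportDim R (M ⧸ (p • (⊤ : Submodule R M))) ≠ ⊥ := by
    rw [Module.supportDim_ne_bot_iff_nontrivial, ← Module.nonempty_support_iff (R := R)]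
    exact ⟨_, hpsupp⟩
  rw [ha] at hb
  have h1 := le_of_add_le_add_left' hc1 (supportDim_lt_top _) hb
  have hc := idealDepth_le_depth_localization p M p le_rfl
  haveI : Nontrivial (LocalizedModule p.primeCompl M) := Module.mem_support_iff.1 hpM
  have hd := depth_le_supportDim (Localization.AtPrime p) (LocalizedModule p.primeCompl M)
  rw [← hn] at hc ⊢
  have h2 : ((n : ℕ∞) : WithBot ℕ∞) ≤
      ((LocCoh.depth (Localization.AtPrime p) (LocalizedModule p.primeCompl M) : ℕ∞) :
        WithBot ℕ∞) := WithBot.coe_le_coe.2 hc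
  refine ⟨le_antisymm h1 (le_trans h2 hd), ?_⟩
  exact le_antisymm hc (WithBot.coe_le_coe.1 (le_trans hd h1))

end LocalCM

end Groth.Agent.DepthLib
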