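import Groth.Agent.Lib.Gorenstein2_helper5
import Groth.Agent.Lib.CM_helper5
import Groth.Agent.Lib.Regular4_helper5

/-!
# `Ext(M, A)` over regular local rings (helper5)

* `ext_top_not_subsingleton`: `pd M = d` (finite) over a Noetherian ring gives `Ext^d(M, A) ≠ 0`;
* `pd_eq_iff`, `free_of_ext`, `serre_Skc`, `dim_add_le`, `ext_vanish_of_supportDim`.
-/

set_option autoImplicit false
set_option maxHeartbeats 400000
universe u
open CategoryTheory CategoryTheory.Limits Abelian IsLocalRing RingTheory.Sequence
open Pointwise

namespace Groth.Agent.ExtTop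

open Groth.Agent.TorLES Groth.Agent.DepthLib Groth.Agent.Serre Groth.Agent.GlDim
  Groth.Agent.RegularLib Groth.Agent.ExtDev

section general

variable {A : Type u} [CommRing A]

/-- finite powers in the second variable. -/
theorem subsingleton_ext_pi (X : ModuleCat.{u} A) (N : Type u) [AddCommGroup N] [Module A N]
    (n : ℕ) (h : Subsingleton (Ext X (ModuleCat.of A N) n)) :
    ∀ m : ℕ, Subsingleton (Ext X (ModuleCat.of A (Fin m → N)) n) := by
  intro m
  induction m with
  | zero =>
    exact subsingleton_of_isZero_right X
      (ModuleCat.isZero_of_subsingleton (ModuleCat.of A (Fin 0 → N))) n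
  | succ m ih =>
    have hex : Function.Exact (LinearMap.inl A N (Fin m → N)) (LinearMap.snd A N (Fin m → N)) := by
      intro y
      constructor
      · intro hy
        exact ⟨y.1, Prod.ext rfl hy.symm⟩
      · rintro ⟨z, rfl⟩
        rfl
    have hS := mk_shortExact (LinearMap.inl A N (Fin m → N)) (LinearMap.snd A N (Fin m → N))
      LinearMap.inl_injective hex LinearMap.snd_surjective
    have h2 : Subsingleton (Ext X (ModuleCat.of A (N × (Fin m → N))) n) :=
      subsingleton_mid_right X hS n h ih
    exact subsingleton_of_iso_right X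
      (Fin.consLinearEquiv A (fun _ : Fin (m + 1) => N)).toModuleIso n h2

/-- the top `Ext(M, A)` does not vanish. -/
theorem ext_top_not_subsingleton [IsNoetherianRing A] (M : Type u) [AddCommGroup M] [Module A M]
    [Module.Finite A M] (d : ℕ)
    (h1 : HasProjectiveDimensionLT (ModuleCat.of A M) (d + 1))
    (h2 : ¬ HasProjectiveDimensionLT (ModuleCat.of A M) d) :
    ¬ Subsingleton (Ext (ModuleCat.of A M) (ModuleCat.of A A) d) := by
  intro hsub
  apply h2
  haveI : Module.Finite A (ModuleCat.of A M) := inferInstanceAs (Module.Finite A M)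
  apply ModuleCat.hasProjectiveDimensionLT_of_forall_finite (ModuleCat.of A M) d
  intro L hL
  obtain ⟨m, p, hp⟩ := Module.Finite.exists_fin' A L
  have hS := mk_shortExact (LinearMap.ker p).subtype p Subtype.val_injective
    (LinearMap.exact_subtype_ker_map p) hp
  have hm := subsingleton_ext_pi (ModuleCat.of A M) A d hsub m
  refine ⟨fun a b => ?_⟩
  have key : ∀ e : Ext (ModuleCat.of A M) L d, e = 0 := by
    intro e
    obtain ⟨e₂, he₂⟩ := Ext.covariant_sequence_exact₃ (ModuleCat.of A M) hS e rfl
      ((hasProjectiveDimensionLT_iff (X := ModuleCat.of A M) (n := d + 1)).mp h1 (d + 1) le_rfl _)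
    have h0 : e₂ = 0 := @Subsingleton.elim _ hm _ _
    rw [← he₂, h0, Ext.zero_comp]
    rfl
  rw [key a, key b]

/-- the projective dimension exists as a natural number. -/
theorem exists_pd (M : Type u) [AddCommGroup M] [Module A M] [Nontrivial M]
    (h : ∃ n, HasProjectiveDimensionLT (ModuleCat.of A M) n) :
    ∃ r, HasProjectiveDimensionLT (ModuleCat.of A M) (r + 1) ∧
      ¬ HasProjectiveDimensionLT (ModuleCat.of A M) r := by
  classical
  have hfind := Nat.find_spec h
  rcases hn : Nat.find h with _ | r
  · rw [hn] at hfind
    exfalso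
    have hz : IsZero (ModuleCat.of A M) := by
      haveI := hfind
      exact isZero_of_hasProjectiveDimensionLT_zero _
    exact not_subsingleton M (ModuleCat.isZero_iff_subsingleton.mp hz)
  · rw [hn] at hfind
    refine ⟨r, hfind, fun h' => ?_⟩
    have := Nat.find_min h (m := r) (by omega)
    exact this h'

end general

section regular

variable (A : Type u) [CommRing A] [IsRegularLocalRing A]

/-- a regular local ring has depth equal to its dimension. -/
theorem regular_depth (n : ℕ) (hn : ringKrullDim A = n) :
    LocCoh.idealDepth (maximalIdeal A) A = n := by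
  have hinj : ∃ N, HasInjectiveDimensionLT (ModuleCat.of A A) N :=
    ⟨n + 1, hasInjectiveDimensionLT_of_regular A n hn (ModuleCat.of A A)⟩
  obtain ⟨t, ht⟩ := Groth.Agent.Gor.depth_exists A
  have h := Groth.Agent.Gor.dim_eq_depth t A hinj ht
  rw [hn] at h
  have hnt : n = t := by exact_mod_cast h
  rw [ht, hnt]

variable (M : Type u) [AddCommGroup M] [Module A M] [Module.Finite A M]

/-- S10933. -/
theorem pd_eq_iff (d : ℕ) :
    projectiveDimension (ModuleCat.of A M) = (d : WithBot ℕ∞) ↔
      ((∀ j : ℕ, d < j → Subsingleton (Ext (ModuleCat.of A M) (ModuleCat.of A A) j)) ∧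
        Nontrivial (Ext (ModuleCat.of A M) (ModuleCat.of A A) d)) := by
  constructor
  · intro h
    have h1 : HasProjectiveDimensionLT (ModuleCat.of A M) (d + 1) :=
      (projectiveDimension_le_iff _ d).mp h.le
    have h2 : ¬ HasProjectiveDimensionLT (ModuleCat.of A M) d :=
      (projectiveDimension_ge_iff _ d).mp h.ge
    refine ⟨fun j hj => ?_, ?_⟩
    · haveI := h1
      exact HasProjectiveDimensionLT.subsingleton _ (d + 1) j hj _
    · exact not_subsingleton_iff_nontrivial.mp (ext_top_not_subsingleton M d h1 h2)
  · rintro ⟨hv, hn⟩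
    haveI : Nontrivial M := by
      by_contra hM
      rw [not_nontrivial_iff_subsingleton] at hM
      have := subsingleton_of_isZero_left (ModuleCat.of A A)
        (ModuleCat.isZero_of_subsingleton (ModuleCat.of A M)) d
      exact not_subsingleton _ this
    obtain ⟨n, hn'⟩ := exists_dim A
    have hfin := hasProjectiveDimensionLT_of_regular A n hn' M
    obtain ⟨d', hd1, hd2⟩ := exists_pd M ⟨n + 1, hfin⟩
    have hne := ext_top_not_subsingleton M d' hd1 hd2
    have h1 : d' ≤ d := by
      by_contra hcon
      push Not at hcon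
      exact hne (hv d' hcon)
    have h2 : d ≤ d' := by
      by_contra hcon
      push Not at hcon
      haveI := hd1
      exact not_subsingleton _ (HasProjectiveDimensionLT.subsingleton (ModuleCat.of A M)
        (d' + 1) d (by omega) (ModuleCat.of A A))
    have hdd : d' = d := le_antisymm h1 h2
    subst hdd
    exact le_antisymm ((projectiveDimension_le_iff _ d').mpr hd1)
      ((projectiveDimension_ge_iff _ d').mpr hd2)

/-- S10932. -/
theorem free_of_ext (n : ℕ) (hn : ringKrullDim A = n)
    (h : ∀ j : ℕ, 1 ≤ j → j ≤ n →
      Subsingleton (Ext (ModuleCat.of A M) (ModuleCat.of A A) j)) :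
    Module.Free A M := by
  by_cases hM : Subsingleton M
  · exact Module.Free.of_subsingleton A M
  · haveI : Nontrivial M := not_subsingleton_iff_nontrivial.mp hM
    have hfin := hasProjectiveDimensionLT_of_regular A n hn M
    obtain ⟨d', hd1, hd2⟩ := exists_pd M ⟨n + 1, hfin⟩
    have hne := ext_top_not_subsingleton M d' hd1 hd2
    have hle : d' ≤ n := by
      by_contra hcon
      push Not at hcon
      haveI := hfin
      exact hd2 (hasProjectiveDimensionLT_of_ge _ (n + 1) d' (by omega))
    have h0 : d' = 0 := by
      by_contra hcon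
      exact hne (h d' (by omega) hle)
    subst h0
    haveI : Projective (ModuleCat.of A M) := projective_iff_hasProjectiveDimensionLT_one.mpr hd1
    haveI : Module.Projective A M :=
      (IsProjective.iff_projective (R := A) (P := M)).mpr inferInstance
    exact Module.free_of_flat_of_isLocalRing

/-- S12051. -/
theorem serre_Skc (n : ℕ) (hn : ringKrullDim A = n) (k c : ℕ) :
    ((min k (n - c) : ℕ) : ℕ∞) ≤ LocCoh.depth A M ↔
      ∀ q : ℕ, c < q → Nontrivial (Ext (ModuleCat.of A M) (ModuleCat.of A A) q) →
        q + k ≤ n := by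
  by_cases hM : Subsingleton M
  · constructor
    · intro _ q _ hq
      exact absurd (subsingleton_of_isZero_left (ModuleCat.of A A)
        (ModuleCat.isZero_of_subsingleton (ModuleCat.of A M)) q) (not_subsingleton _)
    · intro _
      have htop : LocCoh.depth A M = ⊤ := by
        unfold LocCoh.depth LocCoh.idealDepth
        rw [if_pos (Subsingleton.elim _ _)]
      rw [htop]
      exact le_top
  · haveI : Nontrivial M := not_subsingleton_iff_nontrivial.mp hM
    have hfin := hasProjectiveDimensionLT_of_regular A n hn M
    obtain ⟨d', hd1, hd2⟩ := exists_pd M ⟨n + 1, hfin⟩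
    have hne := ext_top_not_subsingleton M d' hd1 hd2
    have hpd : projectiveDimension (ModuleCat.of A M) = (d' : WithBot ℕ∞) :=
      le_antisymm ((projectiveDimension_le_iff _ d').mpr hd1)
        ((projectiveDimension_ge_iff _ d').mpr hd2)
    have ab := Groth.Agent.AB.auslander_buchsbaum A M d' hpd
    have hdA : LocCoh.depth A A = n := regular_depth A n hn
    rw [hdA] at ab
    have hneM : maximalIdeal A • (⊤ : Submodule A M) ≠ ⊤ :=
      fun h => not_subsingleton M (Groth.Agent.AB.subsingleton_of_smul_top A M h)
    obtain ⟨k', hk'⟩ := ENat.ne_top_iff_exists.1 (idealDepth_ne_top (maximalIdeal A) M hneM)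
    have hk'' : LocCoh.depth A M = k' := hk'.symm
    rw [hk''] at ab ⊢
    have hsum : n = d' + k' := by exact_mod_cast ab
    have hq' : ∀ q, Nontrivial (Ext (ModuleCat.of A M) (ModuleCat.of A A) q) → q ≤ d' := by
      intro q hq
      by_contra hcon
      push Not at hcon
      haveI := hd1
      exact not_subsingleton _ (HasProjectiveDimensionLT.subsingleton (ModuleCat.of A M)
        (d' + 1) q (by omega) (ModuleCat.of A A))
    constructor
    · intro hle q hq hnt
      have hle' : min k (n - c) ≤ k' := by exact_mod_cast hle
      have := hq' q hnt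
      omega
    · intro hall
      have hle' : min k (n - c) ≤ k' := by
        by_cases hc : c < d'
        · have := hall d' hc (not_subsingleton_iff_nontrivial.mp hne)
          omega
        · omega
      exact_mod_cast hle'

/-- S11496. -/
theorem dim_add_le (i : ℕ) (p : Ideal A) [p.IsPrime]
    (h : Nontrivial (Ext
      (ModuleCat.of (Localization.AtPrime p) (LocalizedModule p.primeCompl M))
      (ModuleCat.of (Localization.AtPrime p) (Localization.AtPrime p)) i)) :
    ringKrullDim (A ⧸ p) + (i : WithBot ℕ∞) ≤ ringKrullDim A := by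
  haveI := localization_regular A p
  obtain ⟨d, hd⟩ := exists_dim (Localization.AtPrime p)
  have hLT := hasProjectiveDimensionLT_of_regular (Localization.AtPrime p) d hd
    (LocalizedModule p.primeCompl M)
  have hid : i ≤ d := by
    by_contra hcon
    push Not at hcon
    haveI := hLT
    exact not_subsingleton _ (HasProjectiveDimensionLT.subsingleton
      (ModuleCat.of (Localization.AtPrime p) (LocalizedModule p.primeCompl M)) (d + 1) i
      (by omega) (ModuleCat.of (Localization.AtPrime p) (Localization.AtPrime p)))
  have hht : ringKrullDim (Localization.AtPrime p) = p.height :=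
    IsLocalization.AtPrime.ringKrullDim_eq_height p (Localization.AtPrime p)
  have h1 : (i : WithBot ℕ∞) ≤ (p.height : WithBot ℕ∞) := by
    rw [← hht, hd]
    exact_mod_cast hid
  calc ringKrullDim (A ⧸ p) + (i : WithBot ℕ∞)
      ≤ ringKrullDim (A ⧸ p) + (p.height : WithBot ℕ∞) := add_le_add_right h1 _
    _ = (p.height : WithBot ℕ∞) + ringKrullDim (A ⧸ p) := add_comm _ _
    _ ≤ ringKrullDim A := height_add_ringKrullDim_quotient_le p

/-- S5671. -/
theorem ext_vanish_of_supportDim (p : ℕ)
    (hdim : Module.supportDim A M + p ≤ ringKrullDim A) (i : ℕ) (hi : i < p) :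
    Subsingleton (Ext (ModuleCat.of A M) (ModuleCat.of A A) i) := by
  by_cases hM : Subsingleton M
  · exact subsingleton_of_isZero_left _ (ModuleCat.isZero_of_subsingleton _) i
  haveI : Nontrivial M := not_subsingleton_iff_nontrivial.mp hM
  obtain ⟨n, hn⟩ := exists_dim A
  have hI : Module.annihilator A M ≠ ⊤ := by
    intro h
    have h1 : (1 : A) ∈ Module.annihilator A M := h ▸ Submodule.mem_top
    have h2 := Module.mem_annihilator.mp h1
    exact hM ⟨fun a b => by rw [← one_smul A a, ← one_smul A b, h2 a, h2 b]⟩
  have hne : Module.annihilator A M • (⊤ : Submodule A A) ≠ ⊤ := by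
    rw [smul_eq_mul, Ideal.mul_top]
    exact hI
  obtain ⟨t, ht⟩ := ENat.ne_top_iff_exists.1
    (idealDepth_ne_top (Module.annihilator A M) A hne)
  have hCM : LocCoh.IsCohenMacaulayModule A A := by
    unfold LocCoh.IsCohenMacaulayModule LocCoh.depth
    rw [Module.supportDim_self_eq_ringKrullDim, hn, regular_depth A n hn]
    rfl
  have key := supportDim_eq_add_idealDepth_of_isCM (Module.annihilator A M) hI t A hCM ht.symm
  have hIeq : (Module.annihilator A M • ⊤ : Submodule A A) = Module.annihilator A M := by
    rw [smul_eq_mul, Ideal.mul_top]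
  rw [hIeq, Module.supportDim_quotient_eq_ringKrullDim,
    ← Module.supportDim_eq_ringKrullDim_quotient_annihilator,
    Module.supportDim_self_eq_ringKrullDim] at key
  rw [key] at hdim
  have hc1 : Module.supportDim A M ≠ ⊥ := Module.supportDim_ne_bot_of_nontrivial A M
  have hc2 : Module.supportDim A M < ⊤ := supportDim_lt_top M
  have hpt : (p : WithBot ℕ∞) ≤ ((t : ℕ∞) : WithBot ℕ∞) := by
    apply le_of_add_le_add_left' hc1 hc2
    rw [add_comm]
    exact hdim
  have hpt' : p ≤ t := by exact_mod_cast hpt
  have hle : (p : ℕ∞) ≤ LocCoh.idealDepth (Module.annihilator A M) A := by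
    rw [← ht]
    exact_mod_cast hpt'
  rw [le_idealDepth_iff] at hle
  rcases hle with htop | ⟨rs, hreg, hmem, hlen⟩
  · exact absurd htop hne
  refine Groth.Agent.S5150.result A (Module.annihilator A M) A M rs hreg hmem 1 ?_ i
    (by rw [hlen]; exact hi)
  rw [pow_one, eq_bot_iff]
  intro m hm
  refine Submodule.smul_induction_on hm (fun r hr m _ => ?_) (fun x y hx hy => ?_)
  · rw [Submodule.mem_bot]
    exact Module.mem_annihilator.mp hr m
  · exact Submodule.add_mem _ hx hy

end regular

end Groth.Agent.ExtTop
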