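import Mathlib
import Groth.Prelude.Def_Wider
import Groth.Agent.Lib.LocCohDeltaZero_helper7

/-!
# Independence of the base for local cohomology (helper7)
-/

open CategoryTheory CategoryTheory.Limits Opposite Pointwise

namespace Groth.Agent.Lib.LocCohBaseIndepH7

open Groth.Agent.Lib.LocCohLESH7 Groth.Agent.DepthLib
open Groth.Agent.Lib.InjHull_helper3
open Groth.Agent.Lib.LocCohCdSupH7 Groth.Agent.Lib.LocCohDeltaZeroH7 LocCoh

universe u

variable {R : Type u} [CommRing R] {R' : Type u} [CommRing R'] [Algebra R R'] (I : Ideal R)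

section Gamma

variable {X : Type u} [AddCommGroup X] [Module R' X] [Module R X] [IsScalarTower R R' X]

theorem mem_Γ_map_iff (x : X) : x ∈ Γ (I.map (algebraMap R R')) X ↔ x ∈ Γ I X := by
  rw [mem_Γ_iff, mem_Γ_iff]
  refine exists_congr fun n => ?_
  rw [← Ideal.map_pow]
  constructor
  · intro h a ha
    rw [← algebraMap_smul R' a x]
    exact h _ (Ideal.mem_map_of_mem _ ha)
  · intro h b hb
    have hle : (I ^ n).map (algebraMap R R') ≤ Ideal.torsionOf R' X x := by
      rw [Ideal.map_le_iff_le_comap]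
      intro a ha
      rw [Ideal.mem_comap, Ideal.mem_torsionOf_iff, algebraMap_smul]
      exact h a ha
    exact (Ideal.mem_torsionOf_iff x b).1 (hle hb)

/-- identity on elements -/
def θ : ↥(Γ (I.map (algebraMap R R')) X) ≃+ ↥(Γ I X) where
  toFun x := ⟨x.1, (mem_Γ_map_iff I x.1).1 x.2⟩
  invFun x := ⟨x.1, (mem_Γ_map_iff I x.1).2 x.2⟩
  left_inv _ := rfl
  right_inv _ := rfl
  map_add' _ _ := rfl

theorem θ_smul (r : R) (x : ↥(Γ (I.map (algebraMap R R')) X)) :
    θ I (algebraMap R R' r • x) = r • θ I x := by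
  apply Subtype.ext
  show algebraMap R R' r • x.1 = r • x.1
  rw [algebraMap_smul]

end Gamma

variable (R')

/-- the statement -/
abbrev P (i : ℕ) : Prop :=
  ∀ (M' : Type u) [AddCommGroup M'] [Module R' M'] [Module R M'] [IsScalarTower R R' M'],
    ∃ φ : LocCoh.H (I.map (algebraMap R R')) i M' ≃+ LocCoh.H I i M',
      ∀ (r : R) (x : LocCoh.H (I.map (algebraMap R R')) i M'),
        φ (algebraMap R R' r • x) = r • φ x

theorem P0 : P R' I 0 := by
  intro M' _ _ _ _
  obtain ⟨e'⟩ := H0_equiv' (I.map (algebraMap R R')) M'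
  obtain ⟨e⟩ := H0_equiv' I M'
  refine ⟨e'.toAddEquiv.trans ((θ I).trans e.symm.toAddEquiv), fun r x => ?_⟩
  show e.symm (θ I (e' (algebraMap R R' r • x))) = r • e.symm (θ I (e' x))
  rw [map_smul, θ_smul, map_smul]

variable [IsNoetherianRing R] [IsNoetherianRing R']

theorem P1 : P R' I 1 := by
  intro M' _ _ _ _
  obtain ⟨N, _, _, ι, hN, hι⟩ := exists_injective_embedding (R := R') M'
  letI : Module R N := Module.compHom N (algebraMap R R')
  haveI : IsScalarTower R R' N := IsScalarTower.of_algebraMap_smul fun r x => rfl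
  have hg' : Function.Surjective (LinearMap.range ι).mkQ := Submodule.mkQ_surjective _
  have hfg' : Function.Exact ι (LinearMap.range ι).mkQ := LinearMap.exact_map_mkQ_range ι
  let f : M' →ₗ[R] N := ι.restrictScalars R
  let g : N →ₗ[R] (N ⧸ LinearMap.range ι) := (LinearMap.range ι).mkQ.restrictScalars R
  have hf : Function.Injective f := hι
  have hg : Function.Surjective g := hg'
  have hfg : Function.Exact f g := hfg'
  haveI := hN
  have hN1' : Subsingleton (LocCoh.H (I.map (algebraMap R R')) 1 N) :=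
    Groth.Agent.Lib.LocCohInjAcycH7.main (R := R') (R' := R') (I.map (algebraMap R R')) N 1
      one_pos
  have hN1 : Subsingleton (LocCoh.H I 1 N) :=
    Groth.Agent.Lib.LocCohInjAcycH7.main (R := R) (R' := R') I N 1 one_pos
  let c' := cMap (I.map (algebraMap R R')) ι (LinearMap.range ι).mkQ hι hg' hfg'
  let c := cMap I f g hf hg hfg
  have hc' : Function.Surjective c' := cMap_surjective _ _ _ hι hg' hfg' hN1'
  have hc : Function.Surjective c := cMap_surjective _ _ _ hf hg hfg hN1
  have hker : ∀ a, c'.toAddMonoidHom a = 0 ↔ c.toAddMonoidHom (θ I a) = 0 := by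
    intro a
    show c' a = 0 ↔ c (θ I a) = 0
    rw [cMap_eq_zero_iff, cMap_eq_zero_iff]
    constructor
    · rintro ⟨y, hy, hgy⟩
      exact ⟨y, (mem_Γ_map_iff I y).1 hy, hgy⟩
    · rintro ⟨y, hy, hgy⟩
      exact ⟨y, (mem_Γ_map_iff I y).2 hy, hgy⟩
  obtain ⟨φ, hφ⟩ := exists_addEquiv_of_surjective c'.toAddMonoidHom c.toAddMonoidHom (θ I)
    hc' hc hker
  refine ⟨φ, fun r x => ?_⟩
  obtain ⟨a, rfl⟩ := hc' x
  have h1 : algebraMap R R' r • c' a = c' (algebraMap R R' r • a) := (map_smul c' _ a).symm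
  have h2 : φ (c' (algebraMap R R' r • a)) = c (θ I (algebraMap R R' r • a)) :=
    hφ (algebraMap R R' r • a)
  have h3 : φ (c' a) = c (θ I a) := hφ a
  rw [h1, h2, h3, θ_smul, map_smul]

theorem Pstep (p : ℕ) (ih : P R' I (p + 1)) : P R' I (p + 2) := by
  intro M' _ _ _ _
  obtain ⟨N, _, _, ι, hN, hι⟩ := exists_injective_embedding (R := R') M'
  letI : Module R N := Module.compHom N (algebraMap R R')
  haveI : IsScalarTower R R' N := IsScalarTower.of_algebraMap_smul fun r x => rfl
  have hg' : Function.Surjective (LinearMap.range ι).mkQ := Submodule.mkQ_surjective _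
  have hfg' : Function.Exact ι (LinearMap.range ι).mkQ := LinearMap.exact_map_mkQ_range ι
  let f : M' →ₗ[R] N := ι.restrictScalars R
  let g : N →ₗ[R] (N ⧸ LinearMap.range ι) := (LinearMap.range ι).mkQ.restrictScalars R
  have hf : Function.Injective f := hι
  have hg : Function.Surjective g := hg'
  have hfg : Function.Exact f g := hfg'
  haveI := hN
  have hS' := shortComplexOf_shortExact ι (LinearMap.range ι).mkQ hι hg' hfg'
  have hS := shortComplexOf_shortExact f g hf hg hfg
  have hb' := δ_bijective (I.map (algebraMap R R')) hS' p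
    (Groth.Agent.Lib.LocCohInjAcycH7.main (R := R') (R' := R') (I.map (algebraMap R R')) N (p + 1)
      (Nat.succ_pos p))
    (Groth.Agent.Lib.LocCohInjAcycH7.main (R := R') (R' := R') (I.map (algebraMap R R')) N (p + 2)
      (Nat.succ_pos (p + 1)))
  have hb := δ_bijective I hS p
    (Groth.Agent.Lib.LocCohInjAcycH7.main (R := R) (R' := R') I N (p + 1) (Nat.succ_pos p))
    (Groth.Agent.Lib.LocCohInjAcycH7.main (R := R) (R' := R') I N (p + 2) (Nat.succ_pos (p + 1)))
  let e' : LocCoh.H (I.map (algebraMap R R')) (p + 1) (N ⧸ LinearMap.range ι) ≃ₗ[R']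
      LocCoh.H (I.map (algebraMap R R')) (p + 2) M' :=
    LinearEquiv.ofBijective (δ (I.map (algebraMap R R')) hS' p).hom hb'
  let e : LocCoh.H I (p + 1) (N ⧸ LinearMap.range ι) ≃ₗ[R] LocCoh.H I (p + 2) M' :=
    LinearEquiv.ofBijective (δ I hS p).hom hb
  obtain ⟨φQ, hφQ⟩ := ih (N ⧸ LinearMap.range ι)
  refine ⟨e'.symm.toAddEquiv.trans (φQ.trans e.toAddEquiv), fun r x => ?_⟩
  show e (φQ (e'.symm (algebraMap R R' r • x))) = r • e (φQ (e'.symm x))
  rw [map_smul, hφQ, map_smul]

theorem Psucc : ∀ p : ℕ, P R' I (p + 1) := by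
  intro p
  induction p with
  | zero => exact P1 R' I
  | succ p ih => exact Pstep R' I p ih

/-- S11614 -/
theorem main (i : ℕ) : P R' I i := by
  rcases i with _ | p
  · exact P0 R' I
  · exact Psucc R' I p

end Groth.Agent.Lib.LocCohBaseIndepH7
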