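import Mathlib
import Groth.Prelude.Def_Wider
import Groth.Agent.Lib.LocCohInjAcyc_helper7

/-!
# Base change of injective modules is `Γ`-acyclic (helper7)
-/

open CategoryTheory CategoryTheory.Limits Opposite Pointwise TensorProduct

namespace Groth.Agent.Lib.LocCohInjAcycH7

open Groth.Agent.Lib.LocCohLESH7 Groth.Agent.Lib.LocCohFunctH7 Groth.Agent.DepthLib
open Groth.Agent.Lib.LocCohFinH7 Groth.Agent.Lib.LocCohGVH7 Groth.Agent.Lib.LocCohAraH7
open Groth.Agent.Lib.InjHull_helper3

universe u

variable {R : Type u} [CommRing R] [IsNoetherianRing R] {R' : Type u} [CommRing R']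
  [IsNoetherianRing R'] [Algebra R R']

theorem bc_aux (s : Finset R) :
    ∀ (E : Type u) [AddCommGroup E] [Module R E], Module.Injective R E →
      ∀ q : ℕ, Subsingleton (LocCoh.H ((Ideal.span (s : Set R)).map (algebraMap R R')) (q + 1)
        (R' ⊗[R] E)) := by
  classical
  induction s using Finset.induction_on with
  | empty =>
    intro E _ _ _ q
    have h0 : (Ideal.span ((∅ : Finset R) : Set R)).map (algebraMap R R') =
        Ideal.span ((∅ : Finset R') : Set R') := by
      rw [Finset.coe_empty, Ideal.span_empty, Ideal.map_bot, Finset.coe_empty, Ideal.span_empty]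
    rw [h0]
    exact cdLE_span (R := R') ∅ (R' ⊗[R] E) (q + 1) (by simp)
  | insert x s' hx ih =>
    intro E _ _ hE q
    set y : R' := algebraMap R R' x with hy
    set J : Ideal R' := (Ideal.span (s' : Set R)).map (algebraMap R R') with hJ
    have hspan : (Ideal.span ((insert x s' : Finset R) : Set R)).map (algebraMap R R') =
        J ⊔ Ideal.span {y} := by
      rw [Finset.coe_insert, Ideal.span_insert, Ideal.map_sup, Ideal.map_span,
        Set.image_singleton, sup_comm]
    rw [hspan]
    have hyI : y ∈ J ⊔ Ideal.span {y} := Ideal.mem_sup_right (Ideal.mem_span_singleton_self y)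
    -- the torsion part
    let T : Submodule R E := Γ (Ideal.span {x}) E
    have hTinj : Module.Injective R ↥T := injective_Γ hE (Ideal.span {x})
    have hmemT : ∀ z : E, z ∈ T ↔ ∃ n : ℕ, x ^ n • z = 0 := by
      intro z
      show z ∈ Γ (Ideal.span {x}) E ↔ _
      rw [mem_Γ_iff]
      constructor
      · rintro ⟨n, hn⟩
        exact ⟨n, hn _ (Ideal.pow_mem_pow (Ideal.mem_span_singleton_self x) n)⟩
      · rintro ⟨n, hn⟩
        refine ⟨n, fun a ha => ?_⟩
        rw [Ideal.span_singleton_pow, Ideal.mem_span_singleton'] at ha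
        obtain ⟨r, rfl⟩ := ha
        rw [mul_smul, hn, smul_zero]
    obtain ⟨ρ, hρ⟩ := exists_extension hTinj T.subtype (Submodule.injective_subtype _)
      LinearMap.id
    -- scalar action of `y`
    -- `R' ⊗ T` is `y`-power torsion
    have hTt0 : ∀ z : R' ⊗[R] ↥T, ∃ n : ℕ, y ^ n • z = 0 := by
      intro z
      induction z using TensorProduct.induction_on with
      | zero => exact ⟨0, smul_zero _⟩
      | tmul r t =>
        obtain ⟨n, hn⟩ := (hmemT t.1).1 t.2
        refine ⟨n, ?_⟩
        have h1 : y ^ n • (r ⊗ₜ[R] t) = (x ^ n) • (r ⊗ₜ[R] t) := by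
          rw [hy, ← map_pow, algebraMap_smul]
        rw [h1, ← TensorProduct.tmul_smul]
        have h2 : x ^ n • t = 0 := Subtype.ext hn
        rw [h2, TensorProduct.tmul_zero]
      | add a b ha hb =>
        obtain ⟨n, hn⟩ := ha
        obtain ⟨m, hm⟩ := hb
        refine ⟨n + m, ?_⟩
        have h1 : y ^ (n + m) • a = 0 := by rw [pow_add, mul_comm, mul_smul, hn, smul_zero]
        have h2 : y ^ (n + m) • b = 0 := by rw [pow_add, mul_smul, hm, smul_zero]
        rw [smul_add, h1, h2, add_zero]
    have hTt : LocCoh.IsPowerTorsion (Ideal.span {y}) (R' ⊗[R] ↥T) := by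
      intro z
      obtain ⟨n, hn⟩ := hTt0 z
      refine ⟨n, fun a ha => ?_⟩
      rw [Ideal.span_singleton_pow, Ideal.mem_span_singleton'] at ha
      obtain ⟨r, rfl⟩ := ha
      rw [mul_smul, hn, smul_zero]
    have hT0 : Subsingleton (LocCoh.H (J ⊔ Ideal.span {y}) (q + 1) (R' ⊗[R] ↥T)) :=
      H_of_sup J y q (ModuleCat.of R' (R' ⊗[R] ↥T)) hTt (ih ↥T hTinj q)
    -- the quotient
    have hinjQ : ∀ a : E ⧸ T, x • a = 0 → a = 0 := by
      intro a
      obtain ⟨e, rfl⟩ := Submodule.mkQ_surjective _ a
      intro h1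
      rw [← map_smul, Submodule.mkQ_apply, Submodule.Quotient.mk_eq_zero] at h1
      obtain ⟨n, hn⟩ := (hmemT _).1 h1
      rw [Submodule.mkQ_apply, Submodule.Quotient.mk_eq_zero]
      refine (hmemT e).2 ⟨n + 1, ?_⟩
      rw [pow_succ, mul_smul]
      exact hn
    have hbijQ : Function.Bijective (x • LinearMap.id : (E ⧸ T) →ₗ[R] (E ⧸ T)) := by
      constructor
      · intro a b hab
        have h3 : x • (a - b) = 0 := by
          rw [smul_sub, sub_eq_zero]
          exact hab
        exact sub_eq_zero.1 (hinjQ _ h3)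
      · intro z
        obtain ⟨e, rfl⟩ := Submodule.mkQ_surjective _ z
        obtain ⟨g, e', ⟨n, hn⟩, he⟩ := exists_smul_add E hE x e
        refine ⟨T.mkQ e', ?_⟩
        show x • T.mkQ e' = T.mkQ e
        have hg : T.mkQ g = 0 := by
          rw [Submodule.mkQ_apply, Submodule.Quotient.mk_eq_zero]
          exact (hmemT g).2 ⟨n, hn⟩
        rw [he, map_add, map_smul, hg, zero_add]
    let ψ : (E ⧸ T) →ₗ[R] (E ⧸ T) := x • LinearMap.id
    let φ : (E ⧸ T) ≃ₗ[R] (E ⧸ T) := LinearEquiv.ofBijective ψ hbijQ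
    have hc1 : φ.symm.toLinearMap ∘ₗ ψ = LinearMap.id := by
      apply LinearMap.ext
      intro a
      exact φ.symm_apply_apply a
    have hc2 : ψ ∘ₗ φ.symm.toLinearMap = LinearMap.id := by
      apply LinearMap.ext
      intro a
      exact φ.apply_symm_apply a
    have hl : ∀ z, (φ.symm.toLinearMap.baseChange R') (ψ.baseChange R' z) = z := by
      intro z
      have h1 : (φ.symm.toLinearMap.baseChange R') ∘ₗ (ψ.baseChange R') = LinearMap.id := by
        rw [← LinearMap.baseChange_comp, hc1, LinearMap.baseChange_id]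
      exact LinearMap.congr_fun h1 z
    have hr : ∀ z, ψ.baseChange R' ((φ.symm.toLinearMap.baseChange R') z) = z := by
      intro z
      have h1 : (ψ.baseChange R') ∘ₗ (φ.symm.toLinearMap.baseChange R') = LinearMap.id := by
        rw [← LinearMap.baseChange_comp, hc2, LinearMap.baseChange_id]
      exact LinearMap.congr_fun h1 z
    have hyψ : ∀ z : R' ⊗[R] (E ⧸ T), y • z = ψ.baseChange R' z := by
      intro z
      induction z using TensorProduct.induction_on with
      | zero => rw [smul_zero, map_zero]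
      | tmul r a =>
        rw [LinearMap.baseChange_tmul, TensorProduct.smul_tmul', smul_eq_mul]
        show (y * r) ⊗ₜ[R] a = r ⊗ₜ[R] (x • a)
        rw [← TensorProduct.smul_tmul, Algebra.smul_def]
      | add a b ha hb => rw [smul_add, map_add, ha, hb]
    have hbij : Function.Bijective (fun l : R' ⊗[R] (E ⧸ T) => y • l) := by
      rw [Function.bijective_iff_has_inverse]
      refine ⟨fun z => (φ.symm.toLinearMap.baseChange R') z, fun z => ?_, fun z => ?_⟩
      · show (φ.symm.toLinearMap.baseChange R') (y • z) = z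
        rw [hyψ, hl]
      · show y • ((φ.symm.toLinearMap.baseChange R') z) = z
        rw [hyψ, hr]
    have hQ0 : Subsingleton (LocCoh.H (J ⊔ Ideal.span {y}) (q + 1) (R' ⊗[R] (E ⧸ T))) :=
      subsingleton_of_bijective _ (q + 1) _ y hyI hbij
    -- the sequence
    let f : R' ⊗[R] ↥T →ₗ[R'] R' ⊗[R] E := T.subtype.baseChange R'
    let g : R' ⊗[R] E →ₗ[R'] R' ⊗[R] (E ⧸ T) := T.mkQ.baseChange R'
    have hf : Function.Injective f := by
      have h1 : (ρ.baseChange R') ∘ₗ f = LinearMap.id := by
        rw [← LinearMap.baseChange_comp, hρ, LinearMap.baseChange_id]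
      intro a b hab
      have h2 := congrArg (ρ.baseChange R') hab
      have h3 : ∀ c, (ρ.baseChange R') (f c) = c := fun c => LinearMap.congr_fun h1 c
      rwa [h3, h3] at h2
    have hg : Function.Surjective g :=
      LinearMap.lTensor_surjective R' (Submodule.mkQ_surjective T)
    have hfg : Function.Exact f g :=
      lTensor_exact R' (LinearMap.exact_subtype_mkQ T) (Submodule.mkQ_surjective T)
    have hS2 := shortComplexOf_shortExact f g hf hg hfg
    have key : ∀ m : LocCoh.H (J ⊔ Ideal.span {y}) (q + 1) (R' ⊗[R] E), m = 0 := by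
      intro m
      obtain ⟨m₁, hm₁⟩ := exact_middle (J ⊔ Ideal.span {y}) hS2 q m (hQ0.elim _ _)
      have hm0 : m₁ = 0 := hT0.elim _ _
      exact hm₁.symm.trans ((congrArg
        (fun z => ((localCohomology (J ⊔ Ideal.span {y}) (q + 1)).map
          (shortComplexOf f g hfg).f).hom z)
        hm0).trans (map_zero _))
    exact ⟨fun a b => (key a).trans (key b).symm⟩

/-- S11613 -/
theorem main_bc (I : Ideal R) (E : Type u) [AddCommGroup E] [Module R E]
    [hE : Module.Injective R E] (i : ℕ) (hi : 0 < i) :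
    Subsingleton (LocCoh.H (Ideal.map (algebraMap R R') I) i (R' ⊗[R] E)) := by
  obtain ⟨s, hs⟩ := (IsNoetherian.noetherian I : I.FG)
  obtain ⟨q, rfl⟩ : ∃ q, i = q + 1 := ⟨i - 1, by omega⟩
  have h := bc_aux (R' := R') s E hE q
  have hs' : Ideal.span (s : Set R) = I := hs
  rwa [hs'] at h

end Groth.Agent.Lib.LocCohInjAcycH7
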