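import Mathlib
import Groth.Prelude.Def_Wider
import Groth.Agent.Lib.LocCohBaseIndep_helper7
import Groth.Agent.Lib.LocCohInjAcyc2_helper7

/-!
# Flat base change for local cohomology (helper7)
-/

open CategoryTheory CategoryTheory.Limits Opposite Pointwise TensorProduct

namespace Groth.Agent.Lib.LocCohFlatBCH7

open Groth.Agent.Lib.LocCohLESH7 Groth.Agent.DepthLib
open Groth.Agent.Lib.InjHull_helper3
open Groth.Agent.Lib.LocCohCdSupH7 Groth.Agent.Lib.LocCohDeltaZeroH7
open Groth.Agent.Lib.LocCohBaseIndepH7 LocCoh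

universe u

variable {R : Type u} [CommRing R] (R' : Type u) [CommRing R'] [Algebra R R'] (I : Ideal R)

section Beta

variable (X : Type u) [AddCommGroup X] [Module R X]

/-- `R' ⊗ Γ_I(X) → R' ⊗ X` -/
noncomputable abbrev bX : R' ⊗[R] ↥(Γ I X) →ₗ[R'] R' ⊗[R] X := (Γ I X).subtype.baseChange R'

theorem bX_eq (z : R' ⊗[R] ↥(Γ I X)) : bX R' I X z = (Γ I X).subtype.lTensor R' z := rfl

theorem bX_mem (z : R' ⊗[R] ↥(Γ I X)) :
    bX R' I X z ∈ Γ (I.map (algebraMap R R')) (R' ⊗[R] X) := by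
  rw [mem_Γ_map_iff]
  induction z using TensorProduct.induction_on with
  | zero => rw [map_zero]; exact zero_mem _
  | tmul r' x =>
    rw [LinearMap.baseChange_tmul, mem_Γ_iff]
    obtain ⟨n, hn⟩ := (mem_Γ_iff I (x : X)).1 x.2
    refine ⟨n, fun a ha => ?_⟩
    rw [Submodule.subtype_apply, ← TensorProduct.tmul_smul, hn a ha, TensorProduct.tmul_zero]
  | add z w hz hw => rw [map_add]; exact add_mem hz hw

theorem bX_injective [Module.Flat R R'] : Function.Injective (bX R' I X) := by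
  rw [LinearMap.baseChange_eq_ltensor]
  exact Module.Flat.lTensor_preserves_injective_linearMap _ (Submodule.injective_subtype _)

theorem bX_surj [Module.Flat R R'] [IsNoetherianRing R] (w : R' ⊗[R] X)
    (hw : w ∈ Γ (I.map (algebraMap R R')) (R' ⊗[R] X)) : ∃ z, bX R' I X z = w := by
  classical
  rw [mem_Γ_map_iff, mem_Γ_iff] at hw
  obtain ⟨n, hn⟩ := hw
  obtain ⟨k, a, ha⟩ := Submodule.fg_iff_exists_fin_generating_family.1
    (IsNoetherian.noetherian (I ^ n))
  let φ : X →ₗ[R] (Fin k → X) := LinearMap.pi (fun j => (a j) • LinearMap.id)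
  have hφ : ∀ x j, φ x j = a j • x := fun x j => rfl
  have hex : Function.Exact ((LinearMap.ker φ).subtype.lTensor R') (φ.lTensor R') :=
    Module.Flat.lTensor_exact R' φ.exact_subtype_ker_map
  have hkey : ∀ w : R' ⊗[R] X,
      TensorProduct.piRightHom R R' R' (fun _ : Fin k => X) ((φ.lTensor R') w) =
        fun j => a j • w := by
    intro w
    induction w using TensorProduct.induction_on with
    | zero =>
      rw [map_zero, map_zero]
      ext j
      rw [smul_zero]
      rfl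
    | tmul r' x =>
      rw [LinearMap.lTensor_tmul, TensorProduct.piRightHom_tmul]
      ext j
      rw [hφ, TensorProduct.tmul_smul]
    | add w₁ w₂ h₁ h₂ =>
      rw [map_add, map_add, h₁, h₂]
      ext j
      rw [Pi.add_apply, smul_add]
  have h0 : (φ.lTensor R') w = 0 := by
    apply (TensorProduct.piRight R R' R' (fun _ : Fin k => X)).injective
    rw [TensorProduct.piRight_apply, TensorProduct.piRight_apply, hkey, map_zero]
    ext j
    rw [hn (a j) (by rw [← ha]; exact Submodule.subset_span ⟨j, rfl⟩)]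
    rfl
  obtain ⟨w₀, hw₀⟩ := (hex w).1 h0
  have hle : LinearMap.ker φ ≤ Γ I X := by
    intro x hx
    rw [mem_Γ_iff]
    refine ⟨n, fun b hb => ?_⟩
    have hle' : I ^ n ≤ Ideal.torsionOf R X x := by
      rw [← ha]
      apply Submodule.span_le.2
      rintro _ ⟨j, rfl⟩
      rw [SetLike.mem_coe, Ideal.mem_torsionOf_iff]
      exact congrFun (LinearMap.mem_ker.1 hx) j
    exact (Ideal.mem_torsionOf_iff x b).1 (hle' hb)
  refine ⟨(Submodule.inclusion hle).lTensor R' w₀, ?_⟩
  rw [← hw₀, bX_eq, ← LinearMap.lTensor_comp_apply, Submodule.subtype_comp_inclusion]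

/-- `R' ⊗ Γ_I(X) ≃ Γ_{IR'}(R' ⊗ X)` for flat `R'` -/
noncomputable def β [Module.Flat R R'] [IsNoetherianRing R] :
    R' ⊗[R] ↥(Γ I X) ≃ₗ[R'] ↥(Γ (I.map (algebraMap R R')) (R' ⊗[R] X)) :=
  LinearEquiv.ofBijective (LinearMap.codRestrict _ (bX R' I X) (bX_mem R' I X))
    ⟨fun _ _ h => bX_injective R' I X (congrArg Subtype.val h),
     fun ⟨w, hw⟩ => by
      obtain ⟨z, hz⟩ := bX_surj R' I X w hw
      exact ⟨z, Subtype.ext hz⟩⟩

theorem β_val [Module.Flat R R'] [IsNoetherianRing R] (z : R' ⊗[R] ↥(Γ I X)) :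
    (β R' I X z).1 = bX R' I X z := rfl

end Beta

section SES

variable [Module.Flat R R'] {M N C : Type u} [AddCommGroup M] [Module R M] [AddCommGroup N]
  [Module R N] [AddCommGroup C] [Module R C] (f : M →ₗ[R] N) (g : N →ₗ[R] C)

theorem bc_injective (hf : Function.Injective f) : Function.Injective (f.baseChange R') := by
  rw [LinearMap.baseChange_eq_ltensor]
  exact Module.Flat.lTensor_preserves_injective_linearMap f hf

omit [Module.Flat R R'] in
theorem bc_surjective (hg : Function.Surjective g) : Function.Surjective (g.baseChange R') := by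
  rw [LinearMap.baseChange_eq_ltensor]
  exact LinearMap.lTensor_surjective R' hg

omit [Module.Flat R R'] in
theorem bc_exact (hg : Function.Surjective g) (hfg : Function.Exact f g) :
    Function.Exact (f.baseChange R') (g.baseChange R') := by
  rw [LinearMap.baseChange_eq_ltensor, LinearMap.baseChange_eq_ltensor]
  exact lTensor_exact R' hfg hg

end SES

/-- the statement -/
abbrev Q (i : ℕ) : Prop :=
  ∀ (M : Type u) [AddCommGroup M] [Module R M],
    Nonempty (R' ⊗[R] LocCoh.H I i M ≃ₗ[R']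
      LocCoh.H (I.map (algebraMap R R')) i (R' ⊗[R] M))

variable [Module.Flat R R'] [IsNoetherianRing R]

theorem Q0 : Q R' I 0 := by
  intro M _ _
  obtain ⟨e⟩ := H0_equiv' I M
  obtain ⟨e'⟩ := H0_equiv' (I.map (algebraMap R R')) (R' ⊗[R] M)
  exact ⟨(LinearEquiv.baseChange R R' _ _ e).trans ((β R' I M).trans e'.symm)⟩

variable [IsNoetherianRing R']

theorem Qstep (p : ℕ) (ih : Q R' I (p + 1)) : Q R' I (p + 2) := by
  intro M _ _
  obtain ⟨N, _, _, ι, hN, hι⟩ := exists_injective_embedding (R := R) M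
  have hg : Function.Surjective (LinearMap.range ι).mkQ := Submodule.mkQ_surjective _
  have hfg : Function.Exact ι (LinearMap.range ι).mkQ := LinearMap.exact_map_mkQ_range ι
  haveI := hN
  have hS := shortComplexOf_shortExact ι (LinearMap.range ι).mkQ hι hg hfg
  have hS' := shortComplexOf_shortExact (ι.baseChange R') ((LinearMap.range ι).mkQ.baseChange R')
    (bc_injective R' ι hι) (bc_surjective R' _ hg) (bc_exact R' ι _ hg hfg)
  have hb := δ_bijective I hS p
    (Groth.Agent.Lib.LocCohInjAcycH7.main (R := R) (R' := R) I N (p + 1) (Nat.succ_pos p))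
    (Groth.Agent.Lib.LocCohInjAcycH7.main (R := R) (R' := R) I N (p + 2) (Nat.succ_pos (p + 1)))
  have hb' := δ_bijective (I.map (algebraMap R R')) hS' p
    (Groth.Agent.Lib.LocCohInjAcycH7.main_bc (R' := R') I N (p + 1) (Nat.succ_pos p))
    (Groth.Agent.Lib.LocCohInjAcycH7.main_bc (R' := R') I N (p + 2) (Nat.succ_pos (p + 1)))
  let e : LocCoh.H I (p + 1) (N ⧸ LinearMap.range ι) ≃ₗ[R] LocCoh.H I (p + 2) M :=
    LinearEquiv.ofBijective (δ I hS p).hom hb
  let e' : LocCoh.H (I.map (algebraMap R R')) (p + 1) (R' ⊗[R] (N ⧸ LinearMap.range ι)) ≃ₗ[R']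
      LocCoh.H (I.map (algebraMap R R')) (p + 2) (R' ⊗[R] M) :=
    LinearEquiv.ofBijective (δ (I.map (algebraMap R R')) hS' p).hom hb'
  obtain ⟨φ⟩ := ih (N ⧸ LinearMap.range ι)
  exact ⟨(LinearEquiv.baseChange R R' _ _ e).symm.trans (φ.trans e')⟩

theorem Q1 : Q R' I 1 := by
  intro M _ _
  obtain ⟨N, _, _, ι, hN, hι⟩ := exists_injective_embedding (R := R) M
  have hg : Function.Surjective (LinearMap.range ι).mkQ := Submodule.mkQ_surjective _
  have hfg : Function.Exact ι (LinearMap.range ι).mkQ := LinearMap.exact_map_mkQ_range ι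
  haveI := hN
  have hN1 : Subsingleton (LocCoh.H I 1 N) :=
    Groth.Agent.Lib.LocCohInjAcycH7.main (R := R) (R' := R) I N 1 one_pos
  have hN1' : Subsingleton (LocCoh.H (I.map (algebraMap R R')) 1 (R' ⊗[R] N)) :=
    Groth.Agent.Lib.LocCohInjAcycH7.main_bc (R' := R') I N 1 one_pos
  let c := cMap I ι (LinearMap.range ι).mkQ hι hg hfg
  have hc : Function.Surjective c := cMap_surjective _ _ _ hι hg hfg hN1
  let gΓ : ↥(Γ I N) →ₗ[R] ↥(Γ I (N ⧸ LinearMap.range ι)) :=
    (LinearMap.range ι).mkQ.restrict (fun _ hx => map_mem_Γ I _ hx)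
  have hex : Function.Exact gΓ c := by
    intro q
    rw [cMap_eq_zero_iff]
    constructor
    · rintro ⟨y, hy, hgy⟩
      exact ⟨⟨y, hy⟩, Subtype.ext hgy⟩
    · rintro ⟨y, rfl⟩
      exact ⟨y.1, y.2, rfl⟩
  have hex' : Function.Exact (gΓ.lTensor R') (c.lTensor R') := lTensor_exact R' hex hc
  have hf' := bc_injective R' ι hι
  have hg' := bc_surjective R' (LinearMap.range ι).mkQ hg
  have hfg' := bc_exact R' ι (LinearMap.range ι).mkQ hg hfg
  let c' := cMap (I.map (algebraMap R R')) (ι.baseChange R')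
    ((LinearMap.range ι).mkQ.baseChange R') hf' hg' hfg'
  have hc' : Function.Surjective c' := cMap_surjective _ _ _ hf' hg' hfg' hN1'
  let f₁ : R' ⊗[R] ↥(Γ I (N ⧸ LinearMap.range ι)) →ₗ[R'] R' ⊗[R] LocCoh.H I 1 M :=
    c.baseChange R'
  have hf₁ : Function.Surjective f₁ := bc_surjective R' c hc
  have hcomp : (LinearMap.range ι).mkQ ∘ₗ (Γ I N).subtype =
      (Γ I (N ⧸ LinearMap.range ι)).subtype ∘ₗ gΓ := LinearMap.ext fun _ => rfl
  have hnat : ∀ a₀ : R' ⊗[R] ↥(Γ I N),
      ((LinearMap.range ι).mkQ.baseChange R') (bX R' I N a₀) =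
        bX R' I (N ⧸ LinearMap.range ι) ((gΓ.lTensor R') a₀) := by
    intro a₀
    have h2 := congrArg (fun l => (LinearMap.lTensor R' l) a₀) hcomp
    simp only [LinearMap.lTensor_comp_apply] at h2
    exact h2
  have hker : ∀ a, f₁.toAddMonoidHom a = 0 ↔
      c'.toAddMonoidHom ((β R' I (N ⧸ LinearMap.range ι)).toAddEquiv a) = 0 := by
    intro a
    show f₁ a = 0 ↔ c' (β R' I (N ⧸ LinearMap.range ι) a) = 0
    rw [cMap_eq_zero_iff]
    constructor
    · intro h
      have h' : (c.lTensor R') a = 0 := h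
      obtain ⟨a₀, ha₀⟩ := (hex' a).1 h'
      refine ⟨bX R' I N a₀, bX_mem R' I N a₀, ?_⟩
      rw [hnat, ha₀]
      rfl
    · rintro ⟨y, hy, hgy⟩
      obtain ⟨a₀, rfl⟩ := bX_surj R' I N y hy
      rw [hnat] at hgy
      have h2 : (gΓ.lTensor R') a₀ = a := bX_injective R' I (N ⧸ LinearMap.range ι) hgy
      show (c.lTensor R') a = 0
      rw [← h2]
      exact hex'.apply_apply_eq_zero a₀
  obtain ⟨φ, hφ⟩ := exists_addEquiv_of_surjective
    (A := R' ⊗[R] ↥(Γ I (N ⧸ LinearMap.range ι)))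
    (A' := ↥(Γ (I.map (algebraMap R R')) (R' ⊗[R] (N ⧸ LinearMap.range ι))))
    (B := R' ⊗[R] LocCoh.H I 1 M)
    (B' := LocCoh.H (I.map (algebraMap R R')) 1 (R' ⊗[R] M))
    f₁.toAddMonoidHom c'.toAddMonoidHom
    (β R' I (N ⧸ LinearMap.range ι)).toAddEquiv hf₁ hc' hker
  have hsmul : ∀ (r : R') (x : R' ⊗[R] LocCoh.H I 1 M), φ (r • x) = r • φ x := by
    intro r x
    obtain ⟨a, rfl⟩ := hf₁ x
    have h1 : r • f₁ a = f₁ (r • a) := (map_smul f₁ r a).symm
    have h2 : φ (f₁ (r • a)) = c' (β R' I (N ⧸ LinearMap.range ι) (r • a)) := hφ (r • a)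
    have h3 : φ (f₁ a) = c' (β R' I (N ⧸ LinearMap.range ι) a) := hφ a
    rw [h1, h2, h3, map_smul, map_smul]
  exact ⟨φ.toLinearEquiv hsmul⟩

theorem Qsucc : ∀ p : ℕ, Q R' I (p + 1) := by
  intro p
  induction p with
  | zero => exact Q1 R' I
  | succ p ih => exact Qstep R' I p ih

/-- S11617 -/
theorem main (i : ℕ) : Q R' I i := by
  rcases i with _ | p
  · exact Q0 R' I
  · exact Qsucc R' I p

end Groth.Agent.Lib.LocCohFlatBCH7
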