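import Mathlib
import Groth.Prelude.Def_CAlg
import Groth.Agent.Lib.Depth_helper5
import Groth.Agent.Lib.DepthSeq_helper5
import Groth.Agent.Lib.CM_helper5

/-!
# Regular sequences inside an ideal of a CM local ring cutting out its components (helper5)
-/

set_option autoImplicit false
universe u

namespace Groth.Agent.DepthLib

open RingTheory.Sequence Pointwise

section

variable {R : Type u} [CommRing R] [IsLocalRing R] [IsNoetherianRing R]

theorem ideal_smul_top_self (J : Ideal R) : (J • (⊤ : Submodule R R)) = J := by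
  rw [smul_eq_mul, Ideal.mul_top]

theorem supportDim_quot_smul_top_self (J : Ideal R) :
    Module.supportDim R (R ⧸ (J • (⊤ : Submodule R R))) = ringKrullDim (R ⧸ J) := by
  rw [Module.supportDim_eq_of_equiv (Submodule.quotEquivOfEq _ _ (ideal_smul_top_self J))]
  exact Module.supportDim_quotient_eq_ringKrullDim J

theorem annihilator_quot_smul_top_self (J : Ideal R) :
    Module.annihilator R (R ⧸ (J • (⊤ : Submodule R R))) = J := by
  rw [(Submodule.quotEquivOfEq _ _ (ideal_smul_top_self J)).annihilator_eq]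
  exact Ideal.annihilator_quotient

theorem exists_regular_sequence_of_equidim (hCM : LocCoh.IsCohenMacaulayModule R R) (I : Ideal R)
    (hI : ∀ p ∈ I.minimalPrimes, ringKrullDim (R ⧸ p) = ringKrullDim (R ⧸ I)) :
    ∃ rs : List R, IsWeaklyRegular R rs ∧ Ideal.ofList rs ≤ I ∧
      ringKrullDim (R ⧸ Ideal.ofList rs) = ringKrullDim (R ⧸ I) ∧
      I.minimalPrimes ⊆ (Ideal.ofList rs).minimalPrimes := by
  by_cases hItop : I = ⊤
  · subst hItop
    refine ⟨[1], ?_, le_top, ?_, ?_⟩
    · rw [isWeaklyRegular_cons_iff]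
      exact ⟨IsSMulRegular.one R, IsWeaklyRegular.nil _ _⟩
    · have h1 : Ideal.ofList [(1 : R)] = (⊤ : Ideal R) := by
        rw [Ideal.ofList_singleton, Ideal.span_singleton_one]
      rw [h1]
    · rw [Ideal.minimalPrimes_top]
      exact Set.empty_subset _
  · have hIsmul : I • (⊤ : Submodule R R) ≠ ⊤ := by
      rw [ideal_smul_top_self]
      exact hItop
    have hfin := idealDepth_ne_top I R hIsmul
    obtain ⟨n, hn⟩ := ENat.ne_top_iff_exists.1 hfin
    have hle : (n : ℕ∞) ≤ LocCoh.idealDepth I R := hn.le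
    rw [le_idealDepth_iff] at hle
    rcases hle with h | ⟨rs, hreg, hmem, hlen⟩
    · exact absurd h hIsmul
    have hrsI : Ideal.ofList rs ≤ I := by
      rw [Ideal.ofList, Ideal.span_le]
      intro r hr
      exact hmem r hr
    have hmemm : ∀ x ∈ rs, x ∈ IsLocalRing.maximalIdeal R :=
      fun x hx => IsLocalRing.le_maximalIdeal hItop (hmem x hx)
    obtain ⟨hiff, hCMq⟩ := isCM_list rs R hCM hmemm
    have hdim1 := hiff.1 hreg
    have hCMquot := hCMq hreg
    have hdim2 := supportDim_eq_add_idealDepth_of_isCM I hItop n R hCM hn.symm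
    have hdim3 : Module.supportDim R (R ⧸ (Ideal.ofList rs • (⊤ : Submodule R R))) =
        Module.supportDim R (R ⧸ (I • (⊤ : Submodule R R))) := by
      apply add_nat_cancel n
      rw [← hdim2, ← hdim1, hlen]
      rfl
    have hdim4 : ringKrullDim (R ⧸ Ideal.ofList rs) = ringKrullDim (R ⧸ I) := by
      rw [← supportDim_quot_smul_top_self, ← supportDim_quot_smul_top_self, hdim3]
    refine ⟨rs, hreg, hrsI, hdim4, ?_⟩
    intro p hp
    haveI : p.IsPrime := hp.1.1
    have hrsp : Ideal.ofList rs ≤ p := le_trans hrsI hp.1.2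
    obtain ⟨q, hq, hqp⟩ := Ideal.exists_minimalPrimes_le hrsp
    haveI : q.IsPrime := hq.1.1
    have hqass : q ∈ associatedPrimes R (R ⧸ (Ideal.ofList rs • (⊤ : Submodule R R))) := by
      apply Module.associatedPrimes.minimalPrimes_annihilator_subset_associatedPrimes
      rw [annihilator_quot_smul_top_self]
      exact hq
    have hdq := ringKrullDim_quotient_eq_of_isCM _ hCMquot q hqass
    have hdimqp : ringKrullDim (R ⧸ q) = ringKrullDim (R ⧸ p) := by
      rw [hdq, supportDim_quot_smul_top_self, hdim4, hI p hp]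
    have hfinp : ringKrullDim (R ⧸ p) < ⊤ :=
      lt_of_le_of_lt (ringKrullDim_quotient_le p) ringKrullDim_lt_top
    have hqeq := eq_of_le_of_ringKrullDim_quotient_eq q p hqp hdimqp hfinp
    rw [← hqeq]
    exact hq

end

end Groth.Agent.DepthLib
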