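import Mathlib
import Groth.Prelude.Def_Wider
import Groth.Agent.Lib.Depth_helper5
import Groth.Agent.Lib.DepthLoc_helper5
import Groth.Agent.Lib.LocCohDepth_helper7

/-!
# Vanishing of local cohomology of Cohen–Macaulay modules below the codimension (helper7)
-/

open CategoryTheory CategoryTheory.Limits Opposite

namespace Groth.Agent.Lib.LocCohCMH7

open Groth.Agent.Lib.LocCohBridgeH7 Groth.Agent.Lib.LocCohDepthH7 Groth.Agent.DepthLib

universe u

variable {A : Type u} [CommRing A]

lemma idealDepth_eq_top_of_subsingleton (I : Ideal A) (M : Type u) [AddCommGroup M] [Module A M]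
    [Subsingleton M] : LocCoh.idealDepth I M = ⊤ := by
  unfold LocCoh.idealDepth
  rw [if_pos]
  rw [Submodule.eq_top_iff']
  intro x
  rw [Subsingleton.elim x 0]
  exact zero_mem _

lemma idealDepth_eq_top_of_smul_top (I : Ideal A) (M : Type u) [AddCommGroup M] [Module A M]
    (h : I • (⊤ : Submodule A M) = ⊤) : LocCoh.idealDepth I M = ⊤ := by
  unfold LocCoh.idealDepth
  rw [if_pos h]

lemma pow_smul_top (I : Ideal A) (M : Type u) [AddCommGroup M] [Module A M]
    (h : I • (⊤ : Submodule A M) = ⊤) (k : ℕ) : (I ^ k) • (⊤ : Submodule A M) = ⊤ := by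
  induction k with
  | zero => rw [pow_zero, Ideal.one_eq_top, Submodule.top_smul]
  | succ k ih => rw [pow_succ, mul_smul, h, ih]

/-- all local cohomology vanishes when `IM = M` -/
theorem vanishing_of_smul_top [IsNoetherianRing A] (I : Ideal A) (M : Type u) [AddCommGroup M]
    [Module A M] [Module.Finite A M] (h : I • (⊤ : Submodule A M) = ⊤) (i : ℕ) :
    Subsingleton (LocCoh.H I i M) := by
  have key : ∀ x : LocCoh.H I i M, x = 0 := fun x => by
    have := smul_H_eq_zero I i M (1 : A) (fun k y => by
      rw [one_smul]
      exact (ext_subsingleton_of_smul_top_eq_top (I ^ k) M (pow_smul_top I M h k) i).elim _ _) x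
    rwa [one_smul] at this
  exact ⟨fun a b => by rw [key a, key b]⟩

/-- vanishing below `n` iff depth at least `n` -/
theorem vanishing_iff_le_depth [IsNoetherianRing A] (I : Ideal A) (M : Type u) [AddCommGroup M]
    [Module A M] [Module.Finite A M] (n : ℕ) :
    (∀ i : ℕ, i < n → Subsingleton (LocCoh.H I i M)) ↔ (n : ℕ∞) ≤ LocCoh.idealDepth I M := by
  by_cases hIM : I • (⊤ : Submodule A M) = ⊤
  · rw [idealDepth_eq_top_of_smul_top I M hIM]
    exact ⟨fun _ => le_top, fun _ i _ => vanishing_of_smul_top I M hIM i⟩
  · constructor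
    · intro hv
      by_contra hlt
      push Not at hlt
      obtain ⟨m, hm⟩ := ENat.ne_top_iff_exists.1 (ne_top_of_lt hlt)
      rw [← hm] at hlt
      have hmn : m < n := by exact_mod_cast hlt
      haveI := hv m hmn
      haveI := nonvanishing I M hIM m hm.symm
      exact not_subsingleton (LocCoh.H I m M) ‹_›
    · intro hn i hi
      exact vanishing I M hIM i (lt_of_lt_of_le (by exact_mod_cast hi) hn)

theorem main (A : Type u) [CommRing A] [IsNoetherianRing A] (J : Ideal A) (G : Type u)
    [AddCommGroup G] [Module A G] [Module.Finite A G]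
    (hCM : ∀ p : PrimeSpectrum A, Subsingleton (LocalizedModule p.asIdeal.primeCompl G) ∨
      LocCoh.IsCohenMacaulayModule (Localization.AtPrime p.asIdeal)
        (LocalizedModule p.asIdeal.primeCompl G)) (n : ℕ) :
    (∀ i : ℕ, i < n → Subsingleton (LocCoh.H J i G)) ↔
      ∀ p : PrimeSpectrum A, J ≤ p.asIdeal → p ∈ Module.support A G →
        (n : WithBot ℕ∞) ≤ Module.supportDim (Localization.AtPrime p.asIdeal)
          (LocalizedModule p.asIdeal.primeCompl G) := by
  rw [vanishing_iff_le_depth, idealDepth_eq_iInf, le_iInf₂_iff]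
  refine forall₂_congr fun p hp => ?_
  by_cases hsupp : p ∈ Module.support A G
  · have hnt : Nontrivial (LocalizedModule p.asIdeal.primeCompl G) :=
      Module.mem_support_iff.1 hsupp
    rcases hCM p with h | h
    · exact absurd h (not_subsingleton_iff_nontrivial.2 hnt)
    · unfold LocCoh.IsCohenMacaulayModule at h
      rw [h]
      constructor
      · intro hle _
        exact_mod_cast hle
      · intro hle
        have := hle hsupp
        exact_mod_cast this
  · have hsub : Subsingleton (LocalizedModule p.asIdeal.primeCompl G) := by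
      rw [Module.mem_support_iff, not_nontrivial_iff_subsingleton] at hsupp
      exact hsupp
    constructor
    · intro _ h; exact absurd h hsupp
    · intro _
      unfold LocCoh.depth
      rw [idealDepth_eq_top_of_subsingleton]
      exact le_top

end Groth.Agent.Lib.LocCohCMH7
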