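import Mathlib
import Groth.Prelude.Def_Wider
import Groth.Prelude.Def_CAlg
import Groth.Agent.Lib.LocCohDepth_helper7
import Groth.Agent.Lib.LocCohDeltaZero_helper7
import Groth.Agent.Lib.LocCohGV_helper7
import Groth.Agent.Lib.LocCohCM_helper7
import Groth.Agent.Lib.CMSeq_helper5
import Groth.Agent.Lib.LocCohFunct_helper7
import Groth.Agent.Lib.LocCohH0_helper7

/-!
# Grothendieck non-vanishing, part 1: the annihilator of the top local cohomology of a
Cohen–Macaulay module, and non-vanishing for quotients of CM local rings by primes (helper7)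
-/

set_option autoImplicit false

open CategoryTheory IsLocalRing RingTheory.Sequence Pointwise

namespace Groth.Agent.Lib.NonVanH7

open Groth.Agent.DepthLib Groth.Agent.Lib.InjHull_helper3 Groth.Agent.Lib.LocCohLESH7

universe u

variable {S : Type u} [CommRing S] [IsLocalRing S] [IsNoetherianRing S]

/-- a finite module of support dimension zero is power torsion -/
lemma isPowerTorsion_of_supportDim_eq_zero (A : Type u) [AddCommGroup A] [Module S A]
    [Module.Finite S A] (h : Module.supportDim S A = 0) :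
    LocCoh.IsPowerTorsion (maximalIdeal S) A := by
  have h1 := support_of_supportDim_eq_zero (R := S) (N := A) h
  rw [Module.support_eq_zeroLocus] at h1
  have h2 : maximalIdeal S ≤ (Module.annihilator S A).radical :=
    (PrimeSpectrum.zeroLocus_subset_zeroLocus_iff _ _).1 h1.le
  obtain ⟨k, hk⟩ := Ideal.exists_pow_le_of_le_radical_of_fg h2 (IsNoetherian.noetherian _)
  intro m
  exact ⟨k, fun a ha => Module.mem_annihilator.1 (hk ha) m⟩

/-- the multiplication short exact sequence -/
lemma smul_exact (A : Type u) [AddCommGroup A] [Module S A] (r : S) :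
    Function.Exact (r • (LinearMap.id : A →ₗ[S] A))
      (Submodule.mkQ (r • (⊤ : Submodule S A))) := by
  rw [LinearMap.exact_iff, Submodule.ker_mkQ]
  ext y
  rw [Submodule.mem_smul_pointwise_iff_exists, LinearMap.mem_range]
  constructor
  · rintro ⟨z, -, rfl⟩
    exact ⟨z, rfl⟩
  · rintro ⟨z, rfl⟩
    exact ⟨z, Submodule.mem_top, rfl⟩

lemma Γ_eq_bot_of_regular (A : Type u) [AddCommGroup A] [Module S A] (x : S)
    (hx : x ∈ maximalIdeal S) (hreg : IsSMulRegular A x) (z : A)
    (hz : z ∈ Γ (maximalIdeal S) A) : z = 0 := by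
  rw [mem_Γ_iff] at hz
  obtain ⟨k, hk⟩ := hz
  have h1 : x ^ k • z = 0 := hk _ (Ideal.pow_mem_pow hx k)
  exact (hreg.pow k) (show x ^ k • z = x ^ k • (0 : A) by rw [h1, smul_zero])

/-- **the annihilator of the top local cohomology of a CM module annihilates the module** -/
theorem ann_top (n : ℕ) : ∀ (A : Type u) [AddCommGroup A] [Module S A] [Module.Finite S A],
    LocCoh.IsCohenMacaulayModule S A → Module.supportDim S A = n → ∀ a : S,
    (∀ y : LocCoh.H (maximalIdeal S) n A, a • y = 0) → ∀ b : A, a • b = 0 := by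
  induction n with
  | zero =>
    intro A _ _ _ hCM hdim a ha b
    have hT := isPowerTorsion_of_supportDim_eq_zero A (by rw [hdim]; rfl)
    obtain ⟨e⟩ := Groth.Agent.Lib.LocCohH0H7.H0_equiv (maximalIdeal S) A hT
    have h2 := congrArg e (ha (e.symm b))
    rwa [map_smul, e.apply_symm_apply, map_zero] at h2
  | succ n ih =>
    intro A _ _ _ hCM hdim a ha b
    have hdepth : ((n + 1 : ℕ) : ℕ∞) = LocCoh.idealDepth (maximalIdeal S) A := by
      have h3 : (((n + 1 : ℕ) : ℕ∞) : WithBot ℕ∞) =
          ((LocCoh.idealDepth (maximalIdeal S) A : ℕ∞) : WithBot ℕ∞) :=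
        (show (((n + 1 : ℕ) : ℕ∞) : WithBot ℕ∞) = Module.supportDim S A from hdim.symm).trans hCM
      exact WithBot.coe_injective h3
    have h1 : ((1 : ℕ) : ℕ∞) ≤ LocCoh.idealDepth (maximalIdeal S) A := by
      rw [← hdepth]
      exact_mod_cast Nat.succ_le_succ (Nat.zero_le n)
    have hIM : maximalIdeal S • (⊤ : Submodule S A) ≠ ⊤ := by
      intro h
      have := Groth.Agent.Lib.LocCohCMH7.idealDepth_eq_top_of_smul_top (maximalIdeal S) A h
      rw [this] at hdepth
      exact ENat.coe_ne_top _ hdepth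
    rw [le_idealDepth_iff] at h1
    rcases h1 with h1 | ⟨rs, hreg, hmem, hlen⟩
    · exact absurd h1 hIM
    obtain ⟨x, rfl⟩ : ∃ x, rs = [x] := List.length_eq_one_iff.1 hlen
    have hx : x ∈ maximalIdeal S := hmem x (List.mem_singleton.2 rfl)
    rw [isWeaklyRegular_cons_iff] at hreg
    have hxreg : IsSMulRegular A x := hreg.1
    have key : ∀ t : ℕ, 0 < t → ∀ c : QuotSMulTop (x ^ t) A, a • c = 0 := by
      intro t ht
      have hxt : x ^ t ∈ maximalIdeal S := Ideal.pow_mem_of_mem _ hx t ht
      have hregt : IsSMulRegular A (x ^ t) := hxreg.pow t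
      have hCMt := isCM_quotSMulTop A hCM (x ^ t) hxt hregt
      have hdimt : Module.supportDim S (QuotSMulTop (x ^ t) A) = (n : ℕ) := by
        have h5 := Module.supportDim_quotSMulTop_succ_eq_supportDim hregt hxt
        rw [hdim] at h5
        have h6 : Module.supportDim S (QuotSMulTop (x ^ t) A) + 1 =
            (((n : ℕ∞) + 1 : ℕ∞) : WithBot ℕ∞) := by
          rw [h5]
          rfl
        exact add_one_cancel h6
      have hinj : Function.Injective ((x ^ t) • (LinearMap.id : A →ₗ[S] A)) := hregt
      have hsurj : Function.Surjective (Submodule.mkQ ((x ^ t) • (⊤ : Submodule S A))) :=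
        Submodule.mkQ_surjective _
      have hex := smul_exact A (x ^ t)
      apply ih (QuotSMulTop (x ^ t) A) hCMt hdimt a
      intro y
      cases n with
      | zero =>
        obtain ⟨e'⟩ := Groth.Agent.Lib.LocCohDeltaZeroH7.H0_equiv' (maximalIdeal S)
          (QuotSMulTop (x ^ t) A)
        have h7 : Groth.Agent.Lib.LocCohDeltaZeroH7.cMap (maximalIdeal S) _ _ hinj hsurj hex
            (a • e' y) = 0 := by
          rw [map_smul]
          exact ha _
        rw [Groth.Agent.Lib.LocCohDeltaZeroH7.cMap_eq_zero_iff] at h7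
        obtain ⟨z, hz, hgz⟩ := h7
        have hz0 := Γ_eq_bot_of_regular A x hx hxreg z hz
        rw [hz0, map_zero] at hgz
        have h8 : a • e' y = 0 := Subtype.ext hgz.symm
        rw [← map_smul] at h8
        exact e'.injective (h8.trans (map_zero e').symm)
      | succ p =>
        have hT := shortComplexOf_shortExact ((x ^ t) • (LinearMap.id : A →ₗ[S] A))
          (Submodule.mkQ ((x ^ t) • (⊤ : Submodule S A))) hinj hsurj hex
        have h7 : (δ (maximalIdeal S) hT p).hom (a • y) = 0 := by
          have h70 := (δ (maximalIdeal S) hT p).hom.map_smul a y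
          exact h70.trans (ha _)
        obtain ⟨m₂, hm₂⟩ := exists_of_δ_eq_zero (maximalIdeal S) hT p (a • y) h7
        haveI : Subsingleton (LocCoh.H (maximalIdeal S) (p + 1) A) :=
          Groth.Agent.Lib.LocCohDepthH7.vanishing (maximalIdeal S) A hIM (p + 1) (by
            rw [← hdepth]
            exact_mod_cast Nat.lt_succ_self (p + 1))
        have hm0 : m₂ = 0 := Subsingleton.elim (α := LocCoh.H (maximalIdeal S) (p + 1) A) _ _
        rw [hm0, map_zero] at hm₂
        exact hm₂.symm
    have hmem' : a • b ∈ (⨅ i : ℕ, maximalIdeal S ^ i • (⊤ : Submodule S A)) := by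
      rw [Submodule.mem_iInf]
      intro t
      rcases Nat.eq_zero_or_pos t with rfl | ht
      · rw [pow_zero, Ideal.one_eq_top, Submodule.top_smul]
        exact Submodule.mem_top
      · have h9 : a • (Submodule.Quotient.mk b : QuotSMulTop (x ^ t) A) = 0 := key t ht _
        rw [← Submodule.Quotient.mk_smul, Submodule.Quotient.mk_eq_zero,
          Submodule.mem_smul_pointwise_iff_exists] at h9
        obtain ⟨w, -, hw⟩ := h9
        rw [← hw]
        exact Submodule.smul_mem_smul (Ideal.pow_mem_pow hx t) Submodule.mem_top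
    rw [Ideal.iInf_pow_smul_eq_bot_of_isLocalRing (maximalIdeal S)
      (Ideal.IsPrime.ne_top inferInstance)] at hmem'
    exact (Submodule.mem_bot S).1 hmem'

/-- non-vanishing of `H^n_m(S/q)` for a prime `q` of a CM local ring with `dim S/q = n` -/
theorem nonvanishing_quot_prime (hCM : LocCoh.IsCohenMacaulayModule S S) (q : Ideal S) [q.IsPrime]
    (n : ℕ) (hq : ringKrullDim (S ⧸ q) = n) :
    Nontrivial (LocCoh.H (maximalIdeal S) n (S ⧸ q)) := by
  obtain ⟨rs, hreg, hle, hdim, hmin⟩ := exists_regular_sequence_of_equidim hCM q (by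
    intro p hp
    rw [Ideal.minimalPrimes_eq_subsingleton_self] at hp
    rw [Set.mem_singleton_iff.1 hp])
  have hmemm : ∀ x ∈ rs, x ∈ maximalIdeal S := fun x hx =>
    le_maximalIdeal (Ideal.IsPrime.ne_top inferInstance) (hle (Ideal.subset_span hx))
  have hCMA0 := (isCM_list rs S hCM hmemm).2 hreg
  let e0 : (S ⧸ (Ideal.ofList rs • (⊤ : Submodule S S))) ≃ₗ[S] (S ⧸ Ideal.ofList rs) :=
    Submodule.quotEquivOfEq _ _ (ideal_smul_top_self (Ideal.ofList rs))
  have hCMA : LocCoh.IsCohenMacaulayModule S (S ⧸ Ideal.ofList rs) := isCM_congr _ e0 hCMA0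
  have hdimA : Module.supportDim S (S ⧸ Ideal.ofList rs) = n := by
    rw [← Module.supportDim_eq_of_equiv e0, supportDim_quot_smul_top_self, hdim, hq]
  have hass : q ∈ associatedPrimes S (S ⧸ Ideal.ofList rs) := by
    apply Module.associatedPrimes.minimalPrimes_annihilator_subset_associatedPrimes
    rw [Ideal.annihilator_quotient]
    exact hmin (by rw [Ideal.minimalPrimes_eq_subsingleton_self]; rfl)
  obtain ⟨-, j, hj⟩ := (isAssociatedPrime_iff_exists_injective_linearMap _ _).1 hass
  let π : (S ⧸ Ideal.ofList rs) →ₗ[S] (S ⧸ q) :=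
    Submodule.mapQ (Ideal.ofList rs) q LinearMap.id (by
      intro z hz
      exact hle hz)
  obtain ⟨a, ha⟩ := Ideal.Quotient.mk_surjective (j (Ideal.Quotient.mk q 1))
  have hcomp : j ∘ₗ π = a • (LinearMap.id : (S ⧸ Ideal.ofList rs) →ₗ[S] (S ⧸ Ideal.ofList rs)) := by
    apply LinearMap.ext
    intro z
    obtain ⟨b, rfl⟩ := Ideal.Quotient.mk_surjective z
    have h1 : π (Ideal.Quotient.mk (Ideal.ofList rs) b) = b • (Ideal.Quotient.mk q 1) := by
      show Ideal.Quotient.mk q b = b • (Ideal.Quotient.mk q 1)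
      rw [Algebra.smul_def, map_one, mul_one]
      rfl
    rw [LinearMap.comp_apply, h1, map_smul, ← ha, LinearMap.smul_apply, LinearMap.id_apply,
      Algebra.smul_def, Algebra.smul_def]
    show Ideal.Quotient.mk _ b * Ideal.Quotient.mk _ a = Ideal.Quotient.mk _ a * Ideal.Quotient.mk _ b
    exact mul_comm _ _
  by_contra hnt
  rw [not_nontrivial_iff_subsingleton] at hnt
  have hkill : ∀ y : LocCoh.H (maximalIdeal S) n (S ⧸ Ideal.ofList rs), a • y = 0 := by
    intro y
    have h1 : (localCohomology (maximalIdeal S) n).map (ModuleCat.ofHom π) ≫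
        (localCohomology (maximalIdeal S) n).map (ModuleCat.ofHom j) =
          a • 𝟙 ((localCohomology (maximalIdeal S) n).obj (ModuleCat.of S (S ⧸ Ideal.ofList rs))) := by
      rw [← Functor.map_comp, ← ModuleCat.ofHom_comp, hcomp,
        ← (localCohomology (maximalIdeal S) n).map_id,
        ← Groth.Agent.Lib.LocCohFunctH7.H_map_smul]
      rfl
    have h2 := congrArg (fun φ => φ.hom y) h1
    have h3 : ((localCohomology (maximalIdeal S) n).map (ModuleCat.ofHom π)).hom y = 0 :=
      Subsingleton.elim (α := LocCoh.H (maximalIdeal S) n (S ⧸ q)) _ _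
    have h4 : ((localCohomology (maximalIdeal S) n).map (ModuleCat.ofHom j)).hom
        (((localCohomology (maximalIdeal S) n).map (ModuleCat.ofHom π)).hom y) = a • y := h2
    rw [← h4, h3, map_zero]
  have h5 := ann_top n (S ⧸ Ideal.ofList rs) hCMA hdimA a hkill (Ideal.Quotient.mk _ 1)
  have h6 : j (Ideal.Quotient.mk q 1) = 0 := by
    rw [← ha]
    rw [Algebra.smul_def, map_one, mul_one] at h5
    exact h5
  have h7 : Ideal.Quotient.mk q 1 = 0 := hj (h6.trans (map_zero j).symm)
  rw [Ideal.Quotient.eq_zero_iff_mem] at h7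
  exact (Ideal.IsPrime.ne_top inferInstance) ((Ideal.eq_top_iff_one q).2 h7)

end Groth.Agent.Lib.NonVanH7
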