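import Mathlib
import Groth.Agent.Lib.PSComplete_helper1

/-!
# Power series rings over regular local rings: dimension, regularity, and maps onto complete local
rings
-/

set_option autoImplicit false
set_option maxSynthPendingDepth 3

namespace Groth.Agent.Lib.RegPSH3

universe u

open IsLocalRing MvPowerSeries

section Dim

variable (R : Type*) [CommRing R]

/-- `dim R + n ≤ dim R[[T_1, …, T_n]]`. -/
theorem ringKrullDim_add_le (n : ℕ) :
    ringKrullDim R + n ≤ ringKrullDim (MvPowerSeries (Fin n) R) := by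
  induction n with
  | zero =>
    rw [Nat.cast_zero, add_zero]
    exact (ringKrullDim_eq_of_ringEquiv (isEmptyEquiv (Fin 0) R).toRingEquiv).ge
  | succ n ih =>
    rw [ringKrullDim_eq_of_ringEquiv (finSuccEquiv R n).toRingEquiv, Nat.cast_add, Nat.cast_one,
      ← add_assoc]
    exact le_trans (add_le_add_left ih 1) ringKrullDim_succ_le_ringKrullDim_powerseries

variable {R}

/-- the maximal ideal of `R[[T]]` is generated by `𝔪_R` and the variables -/
theorem maximalIdeal_eq [IsLocalRing R] (n : ℕ) :
    maximalIdeal (MvPowerSeries (Fin n) R) =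
      (maximalIdeal R).map (C : R →+* MvPowerSeries (Fin n) R) ⊔
        Ideal.span (Set.range (X : Fin n → MvPowerSeries (Fin n) R)) := by
  classical
  apply le_antisymm
  · intro g hg
    have hg0 := (Groth.Agent.Lib.PSCompleteH1.mem_maximalIdeal_iff g).1 hg
    have h1 : g - C (constantCoeff g) ∈
        Ideal.span ((fun i => (X i : MvPowerSeries (Fin n) R) ^ 1) ''
          ((Finset.univ : Finset (Fin n)) : Set (Fin n))) := by
      apply Groth.Agent.Lib.PSEvalH1.mem_span_X_pow_finset 1 Finset.univ
      intro d hd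
      have hd0 : d = 0 := by
        ext i
        have := hd i (Finset.mem_univ i)
        simpa using Nat.lt_one_iff.1 this
      rw [hd0, coeff_zero_eq_constantCoeff_apply, map_sub, constantCoeff_C, sub_self]
    have h2 : Ideal.span ((fun i => (X i : MvPowerSeries (Fin n) R) ^ 1) ''
          ((Finset.univ : Finset (Fin n)) : Set (Fin n))) ≤
        Ideal.span (Set.range (X : Fin n → MvPowerSeries (Fin n) R)) := by
      apply Ideal.span_mono
      rintro _ ⟨i, -, rfl⟩
      exact ⟨i, (pow_one _).symm⟩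
    have h3 : g = C (constantCoeff g) + (g - C (constantCoeff g)) := by ring
    rw [h3]
    exact Ideal.add_mem _ (Ideal.mem_sup_left (Ideal.mem_map_of_mem _ hg0))
      (Ideal.mem_sup_right (h2 h1))
  · rw [sup_le_iff]
    constructor
    · rw [Ideal.map_le_iff_le_comap]
      intro a ha
      rw [Ideal.mem_comap, Groth.Agent.Lib.PSCompleteH1.mem_maximalIdeal_iff, constantCoeff_C]
      exact ha
    · rw [Ideal.span_le]
      rintro _ ⟨i, rfl⟩
      rw [SetLike.mem_coe, Groth.Agent.Lib.PSCompleteH1.mem_maximalIdeal_iff, constantCoeff_X]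
      exact Ideal.zero_mem _

/-- `𝔪_{R[[T]]}` needs at most `r + n` generators when `𝔪_R` needs `r`. -/
theorem spanFinrank_maximalIdeal_le [IsLocalRing R] [IsNoetherianRing R] (n : ℕ) :
    (maximalIdeal (MvPowerSeries (Fin n) R)).spanFinrank ≤ (maximalIdeal R).spanFinrank + n := by
  classical
  obtain ⟨s, hs, hspan⟩ := Submodule.FG.exists_span_finset_card_eq_spanFinrank
    (IsNoetherian.noetherian (maximalIdeal R))
  have h1 : maximalIdeal (MvPowerSeries (Fin n) R) =
      Ideal.span ((C : R →+* MvPowerSeries (Fin n) R) '' (s : Set R) ∪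
        Set.range (X : Fin n → MvPowerSeries (Fin n) R)) := by
    rw [maximalIdeal_eq, Ideal.span_union, ← Ideal.map_span]
    congr 2
    exact hspan.symm
  rw [h1]
  have hfin : ((C : R →+* MvPowerSeries (Fin n) R) '' (s : Set R) ∪
      Set.range (X : Fin n → MvPowerSeries (Fin n) R)).Finite :=
    (s.finite_toSet.image _).union (Set.finite_range _)
  refine le_trans (Submodule.spanFinrank_span_le_ncard_of_finite hfin) ?_
  refine le_trans (Set.ncard_union_le _ _) ?_
  refine add_le_add ?_ ?_
  · refine le_trans (Set.ncard_image_le s.finite_toSet) ?_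
    rw [Set.ncard_coe_finset, hs]
  · have := Set.ncard_image_le (f := (X : Fin n → MvPowerSeries (Fin n) R))
      (Set.finite_univ (α := Fin n))
    rw [Set.image_univ, Set.ncard_univ, Nat.card_fin] at this
    exact this

/-- Power series rings over regular local rings are regular. -/
theorem isRegularLocalRing_mvPowerSeries (R : Type*) [CommRing R] [IsRegularLocalRing R]
    (n : ℕ) : IsRegularLocalRing (MvPowerSeries (Fin n) R) := by
  apply IsRegularLocalRing.of_spanFinrank_maximalIdeal_le
  have h1 : ((maximalIdeal (MvPowerSeries (Fin n) R)).spanFinrank : WithBot ℕ∞) ≤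
      ((maximalIdeal R).spanFinrank + n : ℕ) := by
    exact_mod_cast spanFinrank_maximalIdeal_le (R := R) n
  refine le_trans h1 ?_
  rw [Nat.cast_add, IsRegularLocalRing.spanFinrank_maximalIdeal]
  exact ringKrullDim_add_le R n

/-- dimension bound for power series over a field -/
theorem ringKrullDim_mvPowerSeries_field_le (k : Type*) [Field k] (n : ℕ) :
    ringKrullDim (MvPowerSeries (Fin n) k) ≤ n := by
  refine le_trans (ringKrullDim_le_spanFinrank_maximalIdeal _) ?_
  have h1 := spanFinrank_maximalIdeal_le (R := k) n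
  rw [IsLocalRing.maximalIdeal_eq_bot, Submodule.spanFinrank_bot, zero_add] at h1
  exact_mod_cast h1

/-- A surjection from a domain of dimension `≤ d` onto a ring of dimension `≥ d` is injective. -/
theorem injective_of_surjective_of_dim {A B : Type*} [CommRing A] [IsDomain A] [CommRing B]
    (f : A →+* B) (hf : Function.Surjective f) (d : ℕ) (hA : ringKrullDim A ≤ d)
    (hB : (d : WithBot ℕ∞) ≤ ringKrullDim B) : Function.Injective f := by
  rw [injective_iff_map_eq_zero]
  intro g hg
  by_contra hne
  have h1 := ringKrullDim_succ_le_of_surjective f hf (mem_nonZeroDivisors_of_ne_zero hne) hg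
  have h2 : (d : WithBot ℕ∞) + 1 ≤ d := (add_le_add_left hB 1).trans (h1.trans hA)
  have h3 : ((d + 1 : ℕ) : WithBot ℕ∞) ≤ (d : ℕ) := by
    rw [Nat.cast_add, Nat.cast_one]
    exact h2
  have h4 : d + 1 ≤ d := by exact_mod_cast h3
  omega

end Dim

section Surj

variable {Λ R : Type u} [CommRing Λ] [IsLocalRing Λ] [IsAdicComplete (maximalIdeal Λ) Λ]
  [CommRing R] [IsLocalRing R] [IsAdicComplete (maximalIdeal R) R] [Algebra Λ R]

/-- existence of the `Λ`-algebra map `Λ[[T]] → R`, `T_i ↦ x_i ∈ 𝔪_R` -/
theorem exists_algHom_X (n : ℕ) (x : Fin n → R) (hxm : ∀ i, x i ∈ maximalIdeal R) :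
    ∃ f : MvPowerSeries (Fin n) Λ →ₐ[Λ] R, ∀ i, f (X i) = x i := by
  classical
  let a : ∀ k : ℕ, Fin n → R ⧸ maximalIdeal R ^ k := fun k i => Ideal.Quotient.mk _ (x i)
  have ha : ∀ k i, IsNilpotent (a k i) := fun k i =>
    ⟨k, by
      show (Ideal.Quotient.mk (maximalIdeal R ^ k) (x i)) ^ k = 0
      rw [← map_pow, Ideal.Quotient.eq_zero_iff_mem]
      exact Ideal.pow_mem_pow (hxm i) k⟩
  let ε : ∀ k : ℕ, MvPowerSeries (Fin n) Λ →ₐ[Λ] R ⧸ maximalIdeal R ^ k := fun k =>
    Groth.Agent.Lib.PSEvalH1.evalNil (R := Λ) (a k) (ha k)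
  have hεX : ∀ k i, ε k (X i) = a k i := fun k i =>
    Groth.Agent.Lib.PSEvalH1.evalNil_X (a k) (ha k) i
  have hcompat : ∀ {k l : ℕ} (hle : k ≤ l),
      (Ideal.Quotient.factorₐ Λ (Ideal.pow_le_pow_right hle)).comp (ε l) = ε k := by
    intro k l hle
    apply Groth.Agent.Lib.PSEvalH1.algHom_ext_of_nilpotent
    · intro i
      rw [AlgHom.comp_apply, hεX, hεX]
      rfl
    · intro i
      rw [AlgHom.comp_apply, hεX]
      exact ha k i
  refine ⟨IsAdicComplete.liftAlgHom (maximalIdeal R) ε hcompat, fun i => ?_⟩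
  rw [← sub_eq_zero]
  apply IsHausdorff.haus (inferInstance : IsHausdorff (maximalIdeal R) R)
  intro k
  rw [SModEq.zero, smul_eq_mul, Ideal.mul_top, ← Ideal.Quotient.eq,
    IsAdicComplete.mk_liftAlgHom, hεX]

/-- a `Λ`-algebra map `Λ[[T]] → R` whose values on the variables generate `𝔪_R` is surjective, if
`Λ → R` is local and surjective on residue fields -/
theorem surjective_of_span_eq (n : ℕ) (f : MvPowerSeries (Fin n) Λ →ₐ[Λ] R)
    (hx : Ideal.span (Set.range fun i => f (X i)) = maximalIdeal R)
    (hφ : Function.Surjective ((residue R).comp (algebraMap Λ R)))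
    (hloc : ∀ a ∈ maximalIdeal Λ, algebraMap Λ R a ∈ maximalIdeal R) :
    Function.Surjective f := by
  classical
  have hxm : ∀ i, f (X i) ∈ maximalIdeal R := fun i => hx ▸ Ideal.subset_span ⟨i, rfl⟩
  set I := maximalIdeal (MvPowerSeries (Fin n) Λ) with hI
  have hXI : ∀ i, (X i : MvPowerSeries (Fin n) Λ) ∈ I := by
    intro i
    rw [hI, Groth.Agent.Lib.PSCompleteH1.mem_maximalIdeal_iff, constantCoeff_X]
    exact Ideal.zero_mem _
  have hge : maximalIdeal R ≤ I.map f.toRingHom := by
    rw [← hx, Ideal.span_le]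
    rintro _ ⟨i, rfl⟩
    exact Ideal.mem_map_of_mem _ (hXI i)
  have hle : I.map f.toRingHom ≤ maximalIdeal R := by
    rw [hI, maximalIdeal_eq, Ideal.map_sup, sup_le_iff]
    constructor
    · rw [Ideal.map_map, Ideal.map_le_iff_le_comap]
      intro a ha
      rw [Ideal.mem_comap]
      show f (C a) ∈ maximalIdeal R
      rw [c_eq_algebraMap, AlgHom.commutes]
      exact hloc a ha
    · rw [Ideal.map_span, Ideal.span_le]
      rintro _ ⟨_, ⟨i, rfl⟩, rfl⟩
      exact hxm i
  haveI : IsHausdorff (I.map f.toRingHom) R :=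
    ⟨fun r hr => IsHausdorff.haus (inferInstance : IsHausdorff (maximalIdeal R) R) r
      (fun k => SModEq.mono (Submodule.smul_mono_left (Ideal.pow_right_mono hle k)) (hr k))⟩
  haveI : IsAdicComplete I (MvPowerSeries (Fin n) Λ) :=
    Groth.Agent.Lib.PSCompleteH1.isAdicComplete_maximalIdeal
  refine surjective_of_mk_map_comp_surjective (I := I) f.toRingHom ?_
  intro y
  obtain ⟨r, rfl⟩ := Ideal.Quotient.mk_surjective y
  obtain ⟨l, hl⟩ := hφ (residue R r)
  refine ⟨C l, ?_⟩
  rw [RingHom.comp_apply, Ideal.Quotient.eq]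
  apply hge
  rw [← residue_eq_zero_iff, map_sub]
  have h6 : f.toRingHom (C l) = algebraMap Λ R l := by
    show f (C l) = algebraMap Λ R l
    rw [c_eq_algebraMap, AlgHom.commutes]
  rw [h6, sub_eq_zero]
  exact hl

end Surj

section RegularComplete

/-- S9443 in library form: a complete regular local ring with a coefficient field `k` is a power
series ring over `k` in `dim R` variables, on any minimal system of generators. -/
theorem exists_algEquiv_of_regular_complete (R : Type u) [CommRing R] [IsRegularLocalRing R]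
    [IsAdicComplete (maximalIdeal R) R] (k : Type u) [Field k] [Algebra k R]
    (hk : Function.Surjective ((residue R).comp (algebraMap k R))) :
    ∃ d : ℕ, (d : WithBot ℕ∞) = ringKrullDim R ∧ Nonempty (R ≃ₐ[k] MvPowerSeries (Fin d) k) := by
  classical
  obtain ⟨s, hs, hspan⟩ := Submodule.FG.exists_span_finset_card_eq_spanFinrank
    (IsNoetherian.noetherian (maximalIdeal R))
  set d := (maximalIdeal R).spanFinrank with hd
  have hdim : (d : WithBot ℕ∞) = ringKrullDim R := IsRegularLocalRing.spanFinrank_maximalIdeal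
  let e : s ≃ Fin d := Finset.equivFinOfCardEq hs
  let x : Fin d → R := fun i => ((e.symm i : s) : R)
  have hrange : Set.range x = (s : Set R) := by
    ext r
    constructor
    · rintro ⟨i, rfl⟩
      exact (e.symm i).2
    · intro hr
      exact ⟨e ⟨r, hr⟩, by simp [x]⟩
  have hx : Ideal.span (Set.range x) = maximalIdeal R := by
    rw [hrange]
    exact hspan
  have hxm : ∀ i, x i ∈ maximalIdeal R := fun i => hx ▸ Ideal.subset_span ⟨i, rfl⟩
  haveI : IsAdicComplete (maximalIdeal k) k := by
    rw [IsLocalRing.maximalIdeal_eq_bot]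
    infer_instance
  obtain ⟨f, hf⟩ := exists_algHom_X (Λ := k) d x hxm
  have hfspan : Ideal.span (Set.range fun i => f (X i)) = maximalIdeal R := by
    rw [← hx]
    congr 2
    funext i
    exact hf i
  have hsurj : Function.Surjective f := surjective_of_span_eq d f hfspan hk (fun a ha => by
    rw [IsLocalRing.maximalIdeal_eq_bot, Ideal.mem_bot] at ha
    rw [ha, map_zero]
    exact Ideal.zero_mem _)
  haveI : IsDomain (MvPowerSeries (Fin d) k) := NoZeroDivisors.to_isDomain _
  have hinj : Function.Injective f :=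
    injective_of_surjective_of_dim f.toRingHom hsurj d (ringKrullDim_mvPowerSeries_field_le k d)
      hdim.le
  exact ⟨d, hdim, ⟨(AlgEquiv.ofBijective f ⟨hinj, hsurj⟩).symm⟩⟩

end RegularComplete

section Subst

/-- exact dimension of power series rings over a regular local ring -/
theorem ringKrullDim_mvPowerSeries_regular (Λ : Type*) [CommRing Λ] [IsRegularLocalRing Λ]
    (n : ℕ) : ringKrullDim (MvPowerSeries (Fin n) Λ) =
      (((maximalIdeal Λ).spanFinrank + n : ℕ) : WithBot ℕ∞) := by
  apply le_antisymm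
  · refine le_trans (ringKrullDim_le_spanFinrank_maximalIdeal _) ?_
    exact_mod_cast spanFinrank_maximalIdeal_le (R := Λ) n
  · rw [Nat.cast_add, IsRegularLocalRing.spanFinrank_maximalIdeal]
    exact ringKrullDim_add_le Λ n

variable {Λ R : Type u} [CommRing Λ] [IsLocalRing Λ] [IsAdicComplete (maximalIdeal Λ) Λ]
  [CommRing R] [IsLocalRing R] [IsAdicComplete (maximalIdeal R) R] [Algebra Λ R]

/-- general form of `surjective_of_span_eq`: it is enough that `𝔪_R` is generated by the image of
the maximal ideal of `Λ[[T]]`. -/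
theorem surjective_of_le_map (n : ℕ) (f : MvPowerSeries (Fin n) Λ →ₐ[Λ] R)
    (hge : maximalIdeal R ≤ (maximalIdeal (MvPowerSeries (Fin n) Λ)).map f.toRingHom)
    (hxm : ∀ i, f (X i) ∈ maximalIdeal R)
    (hφ : Function.Surjective ((residue R).comp (algebraMap Λ R)))
    (hloc : ∀ a ∈ maximalIdeal Λ, algebraMap Λ R a ∈ maximalIdeal R) :
    Function.Surjective f := by
  classical
  set I := maximalIdeal (MvPowerSeries (Fin n) Λ) with hI
  have hle : I.map f.toRingHom ≤ maximalIdeal R := by
    rw [hI, maximalIdeal_eq, Ideal.map_sup, sup_le_iff]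
    constructor
    · rw [Ideal.map_map, Ideal.map_le_iff_le_comap]
      intro a ha
      rw [Ideal.mem_comap]
      show f (C a) ∈ maximalIdeal R
      rw [c_eq_algebraMap, AlgHom.commutes]
      exact hloc a ha
    · rw [Ideal.map_span, Ideal.span_le]
      rintro _ ⟨_, ⟨i, rfl⟩, rfl⟩
      exact hxm i
  haveI : IsHausdorff (I.map f.toRingHom) R :=
    ⟨fun r hr => IsHausdorff.haus (inferInstance : IsHausdorff (maximalIdeal R) R) r
      (fun k => SModEq.mono (Submodule.smul_mono_left (Ideal.pow_right_mono hle k)) (hr k))⟩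
  haveI : IsAdicComplete I (MvPowerSeries (Fin n) Λ) :=
    Groth.Agent.Lib.PSCompleteH1.isAdicComplete_maximalIdeal
  refine surjective_of_mk_map_comp_surjective (I := I) f.toRingHom ?_
  intro y
  obtain ⟨r, rfl⟩ := Ideal.Quotient.mk_surjective y
  obtain ⟨l, hl⟩ := hφ (residue R r)
  refine ⟨C l, ?_⟩
  rw [RingHom.comp_apply, Ideal.Quotient.eq]
  apply hge
  rw [← residue_eq_zero_iff, map_sub]
  have h6 : f.toRingHom (C l) = algebraMap Λ R l := by
    show f (C l) = algebraMap Λ R l
    rw [c_eq_algebraMap, AlgHom.commutes]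
  rw [h6, sub_eq_zero]
  exact hl

omit [IsAdicComplete (maximalIdeal Λ) Λ] in
/-- the residue field of `Λ[[x]]` is that of `Λ` -/
theorem residue_comp_C_surjective (n : ℕ) :
    Function.Surjective ((residue (MvPowerSeries (Fin n) Λ)).comp
      (algebraMap Λ (MvPowerSeries (Fin n) Λ))) := by
  intro y
  obtain ⟨r, rfl⟩ := residue_surjective y
  refine ⟨constantCoeff r, ?_⟩
  rw [RingHom.comp_apply, ← sub_eq_zero, ← map_sub, residue_eq_zero_iff,
    Groth.Agent.Lib.PSCompleteH1.mem_maximalIdeal_iff, map_sub, ← c_eq_algebraMap,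
    constantCoeff_C, sub_self]
  exact Ideal.zero_mem _

/-- An endomorphism-like `Λ`-algebra map `Λ[[T_1..T_n]] → Λ[[x_1..x_n]]` (`Λ` a complete regular
local domain) which is onto on maximal ideals is bijective. -/
theorem bijective_of_le_map (Λ : Type u) [CommRing Λ] [IsRegularLocalRing Λ] [IsDomain Λ]
    [IsAdicComplete (maximalIdeal Λ) Λ] (n : ℕ)
    (f : MvPowerSeries (Fin n) Λ →ₐ[Λ] MvPowerSeries (Fin n) Λ)
    (hge : maximalIdeal (MvPowerSeries (Fin n) Λ) ≤
      (maximalIdeal (MvPowerSeries (Fin n) Λ)).map f.toRingHom)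
    (hxm : ∀ i, f (X i) ∈ maximalIdeal (MvPowerSeries (Fin n) Λ)) :
    Function.Bijective f := by
  haveI : IsAdicComplete (maximalIdeal (MvPowerSeries (Fin n) Λ)) (MvPowerSeries (Fin n) Λ) :=
    Groth.Agent.Lib.PSCompleteH1.isAdicComplete_maximalIdeal
  have hsurj : Function.Surjective f := surjective_of_le_map n f hge hxm
    (residue_comp_C_surjective n) (fun a ha => by
      rw [Groth.Agent.Lib.PSCompleteH1.mem_maximalIdeal_iff, ← c_eq_algebraMap, constantCoeff_C]
      exact ha)
  haveI : IsDomain (MvPowerSeries (Fin n) Λ) := NoZeroDivisors.to_isDomain _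
  refine ⟨?_, hsurj⟩
  exact injective_of_surjective_of_dim f.toRingHom hsurj ((maximalIdeal Λ).spanFinrank + n)
    (ringKrullDim_mvPowerSeries_regular Λ n).le (ringKrullDim_mvPowerSeries_regular Λ n).ge

end Subst

end Groth.Agent.Lib.RegPSH3
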