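import Mathlib
import Groth.Agent.Lib.NonVan_helper7
import Groth.Agent.Lib.CohenStruct_helper3
import Groth.Agent.Lib.RegPS_helper3
import Groth.Agent.Lib.ExtTop_helper5
import Groth.Agent.Lib.LocCohBaseIndep_helper7
import Groth.Agent.Lib.LocCohFlatBC_helper7
import Groth.Agent.Lib.CompletionRegular_helper5
import Groth.Agent.Lib.Equi133_helper8
import Groth.Agent.Lib.LocCohLES_helper7
import Groth.Agent.Lib.DepthLoc_helper5

/-!
# Grothendieck non-vanishing, part 2: the ring case `H^{dim R}_m(R) ≠ 0` (helper7)

via Cohen's structure theorem (complete case) and flat base change to the completion.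
-/

set_option autoImplicit false

open CategoryTheory IsLocalRing TensorProduct

namespace Groth.Agent.Lib.NonVan2H7

open Groth.Agent.DepthLib Groth.Agent.Lib.LocCohLESH7 Groth.Agent.Lib.NonVanH7

universe u

/-- the maximal ideal maps onto the maximal ideal under a surjection of local rings -/
lemma map_maximalIdeal_of_surjective {S R : Type*} [CommRing S] [CommRing R] [IsLocalRing S]
    [IsLocalRing R] (f : S →+* R) (hf : Function.Surjective f) :
    (maximalIdeal S).map f = maximalIdeal R := by
  have h1 : (maximalIdeal R).comap f = maximalIdeal S :=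
    IsLocalRing.eq_maximalIdeal (Ideal.comap_isMaximal_of_surjective f hf)
  rw [← h1, Ideal.map_comap_of_surjective f hf]

/-- transfer of non-vanishing along a surjection of Noetherian local rings -/
theorem transfer {S R : Type u} [CommRing S] [CommRing R] [IsLocalRing S] [IsLocalRing R]
    [IsNoetherianRing S] [IsNoetherianRing R] [Algebra S R]
    (hf : Function.Surjective (algebraMap S R)) (M' : Type u) [AddCommGroup M'] [Module R M']
    [Module S M'] [IsScalarTower S R M'] (n : ℕ)
    (h : Nontrivial (LocCoh.H (maximalIdeal S) n M')) :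
    Nontrivial (LocCoh.H (maximalIdeal R) n M') := by
  obtain ⟨φ, -⟩ := LocCohBaseIndepH7.main R (maximalIdeal S) n M'
  rw [map_maximalIdeal_of_surjective (algebraMap S R) hf] at φ
  exact φ.toEquiv.nontrivial

/-- and back -/
theorem transfer' {S R : Type u} [CommRing S] [CommRing R] [IsLocalRing S] [IsLocalRing R]
    [IsNoetherianRing S] [IsNoetherianRing R] [Algebra S R]
    (hf : Function.Surjective (algebraMap S R)) (M' : Type u) [AddCommGroup M'] [Module R M']
    [Module S M'] [IsScalarTower S R M'] (n : ℕ)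
    (h : Nontrivial (LocCoh.H (maximalIdeal R) n M')) :
    Nontrivial (LocCoh.H (maximalIdeal S) n M') := by
  obtain ⟨φ, -⟩ := LocCohBaseIndepH7.main R (maximalIdeal S) n M'
  rw [map_maximalIdeal_of_surjective (algebraMap S R) hf] at φ
  exact φ.symm.toEquiv.nontrivial

/-- regular local rings are Cohen–Macaulay -/
theorem isCM_of_regular (S : Type u) [CommRing S] [IsRegularLocalRing S] :
    LocCoh.IsCohenMacaulayModule S S := by
  have h1 : ((Submodule.spanFinrank (maximalIdeal S) : ℕ) : WithBot ℕ∞) = ringKrullDim S :=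
    IsRegularLocalRing.spanFinrank_maximalIdeal
  have h2 := Groth.Agent.ExtTop.regular_depth S _ h1.symm
  unfold LocCoh.IsCohenMacaulayModule LocCoh.depth
  rw [Module.supportDim_self_eq_ringKrullDim, h2, ← h1]
  rfl

lemma isRegularLocalRing_of_isField (Λ : Type*) [CommRing Λ] (h : IsField Λ) :
    IsRegularLocalRing Λ := by
  letI := h.toField
  infer_instance

/-- non-vanishing for quotients by primes of a quotient of a CM local ring -/
theorem nonvanishing_quot_of_surjective {S R : Type u} [CommRing S] [CommRing R] [IsLocalRing S]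
    [IsLocalRing R] [IsNoetherianRing S] [IsNoetherianRing R]
    (hCM : LocCoh.IsCohenMacaulayModule S S) (f : S →+* R) (hf : Function.Surjective f)
    (P : Ideal R) [P.IsPrime] (n : ℕ) (hP : ringKrullDim (R ⧸ P) = n) :
    Nontrivial (LocCoh.H (maximalIdeal R) n (R ⧸ P)) := by
  letI : Algebra S R := f.toAlgebra
  have hf' : Function.Surjective (algebraMap S R) := hf
  let g : S →ₐ[S] (R ⧸ P) := Algebra.ofId S (R ⧸ P)
  have hg : Function.Surjective g := by
    intro y
    obtain ⟨r, rfl⟩ := Ideal.Quotient.mk_surjective y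
    obtain ⟨s, rfl⟩ := hf r
    exact ⟨s, rfl⟩
  haveI : (RingHom.ker g).IsPrime := RingHom.ker_isPrime g
  let e : (S ⧸ RingHom.ker g) ≃ₐ[S] (R ⧸ P) := Ideal.quotientKerAlgEquivOfSurjective hg
  have hdim : ringKrullDim (S ⧸ RingHom.ker g) = n := by
    rw [ringKrullDim_eq_of_ringEquiv e.toRingEquiv, hP]
  haveI h1 := nonvanishing_quot_prime hCM (RingHom.ker g) n hdim
  have h2 : Nontrivial (LocCoh.H (maximalIdeal S) n (R ⧸ P)) :=
    (((localCohomology (maximalIdeal S) n).mapIso
      e.toLinearEquiv.toModuleIso).toLinearEquiv.symm.toEquiv).nontrivial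
  exact transfer hf' (R ⧸ P) n h2

/-- non-vanishing of `H^n_m(R/P)`, `n = dim R/P`, for complete local `R` -/
theorem nonvanishing_complete_quot (R : Type u) [CommRing R] [IsLocalRing R] [IsNoetherianRing R]
    [IsAdicComplete (maximalIdeal R) R] (P : Ideal R) [P.IsPrime] (n : ℕ)
    (hP : ringKrullDim (R ⧸ P) = n) : Nontrivial (LocCoh.H (maximalIdeal R) n (R ⧸ P)) := by
  obtain ⟨Λ, instΛ, N, f, hΛ, hf⟩ :=
    Groth.Agent.Lib.CohenStructH3.exists_surjective_of_complete R (IsNoetherian.noetherian _)
  haveI hΛreg : IsRegularLocalRing Λ := by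
    rcases hΛ with hΛ | hΛ
    · exact isRegularLocalRing_of_isField Λ hΛ
    · obtain ⟨hdom, hdvr, -, -⟩ := hΛ
      infer_instance
  haveI hreg : IsRegularLocalRing (MvPowerSeries (Fin N) Λ) :=
    Groth.Agent.Lib.RegPSH3.isRegularLocalRing_mvPowerSeries Λ N
  exact nonvanishing_quot_of_surjective (isCM_of_regular _) f hf P n hP

/-- non-vanishing of `H^n_m(R)`, `n = dim R`, for complete local `R` -/
theorem nonvanishing_complete (R : Type u) [CommRing R] [IsLocalRing R] [IsNoetherianRing R]
    [IsAdicComplete (maximalIdeal R) R] (n : ℕ) (hn : ringKrullDim R = n) :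
    Nontrivial (LocCoh.H (maximalIdeal R) n R) := by
  rcases n with _ | p
  · have h1 := Groth.Agent.DepthLib.depth_le_supportDim R R
    rw [Module.supportDim_self_eq_ringKrullDim, hn] at h1
    have h3 : LocCoh.depth R R ≤ 0 := by exact_mod_cast h1
    have h2 : LocCoh.idealDepth (maximalIdeal R) R = ((0 : ℕ) : ℕ∞) :=
      le_antisymm (by exact_mod_cast h3) (by simp)
    have hIM : maximalIdeal R • (⊤ : Submodule R R) ≠ ⊤ := by
      rw [ideal_smul_top_self]
      exact Ideal.IsPrime.ne_top inferInstance
    exact Groth.Agent.Lib.LocCohDepthH7.nonvanishing (maximalIdeal R) R hIM 0 h2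
  · obtain ⟨P, hPmin, hPdim⟩ := Equi133H8.exists_minimalPrimes_dim_eq R
    haveI : P.IsPrime := hPmin.1.1
    haveI hq := nonvanishing_complete_quot R P (p + 1) (hPdim.trans hn)
    have hT := shortComplexOf_shortExact P.subtype P.mkQ P.injective_subtype P.mkQ_surjective
      (LinearMap.exact_subtype_mkQ P)
    have hlt : Module.supportDim R ↥P < ((p + 2 : ℕ) : WithBot ℕ∞) := by
      refine lt_of_le_of_lt (Module.supportDim_le_ringKrullDim (R := R) (M := ↥P)) ?_
      rw [hn]
      exact_mod_cast Nat.lt_succ_self _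
    have hsub : Subsingleton (LocCoh.H (maximalIdeal R) (p + 2) ↥P) :=
      Groth.Agent.Lib.LocCohGVH7.GV (maximalIdeal R) ↥P (p + 2) hlt
    have hsurj := surjective_of_subsingleton (maximalIdeal R) hT p hsub
    exact @Function.Surjective.nontrivial _ _ hq _ hsurj

/-- **Grothendieck non-vanishing, ring case**: `H^n_m(R) ≠ 0` for `n = dim R`. -/
theorem nonvanishing_ring (R : Type u) [CommRing R] [IsLocalRing R] [IsNoetherianRing R] (n : ℕ)
    (hn : ringKrullDim R = n) : Nontrivial (LocCoh.H (maximalIdeal R) n R) := by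
  have hI : maximalIdeal R ≠ ⊤ := Ideal.IsPrime.ne_top inferInstance
  have fg : (maximalIdeal R).FG := IsNoetherian.noetherian _
  haveI := Groth.Agent.RegularLib.isLocalRing_adicCompletion R (maximalIdeal R) hI
  haveI := Groth.Agent.RegularLib.isNoetherianRing_adicCompletion R (maximalIdeal R)
  have hmap := Groth.Agent.RegularLib.map_maximalIdeal_adicCompletion R (maximalIdeal R) hI
  have hdim := Groth.Agent.RegularLib.ringKrullDim_adicCompletion R (maximalIdeal R) hI
  haveI hc : IsAdicComplete (maximalIdeal (AdicCompletion (maximalIdeal R) R))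
      (AdicCompletion (maximalIdeal R) R) := by
    rw [← hmap]
    exact AdicCompletion.isAdicComplete_self (maximalIdeal R) fg
  have hnv := nonvanishing_complete (AdicCompletion (maximalIdeal R) R) n (hdim.trans hn)
  rw [← hmap] at hnv
  obtain ⟨e⟩ := Groth.Agent.Lib.LocCohFlatBCH7.main (AdicCompletion (maximalIdeal R) R)
    (maximalIdeal R) n R
  let e2 := ((localCohomology ((maximalIdeal R).map
      (algebraMap R (AdicCompletion (maximalIdeal R) R))) n).mapIso
      (TensorProduct.AlgebraTensorModule.rid R (AdicCompletion (maximalIdeal R) R)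
        (AdicCompletion (maximalIdeal R) R)).toModuleIso).toLinearEquiv
  by_contra hne
  rw [not_nontrivial_iff_subsingleton] at hne
  have hsub : ∀ z : AdicCompletion (maximalIdeal R) R ⊗[R] LocCoh.H (maximalIdeal R) n R,
      z = 0 := by
    intro z
    induction z using TensorProduct.induction_on with
    | zero => rfl
    | tmul a y => rw [Subsingleton.elim y 0, TensorProduct.tmul_zero]
    | add a b ha hb => rw [ha, hb, add_zero]
  obtain ⟨x, y, hxy⟩ := hnv
  exact hxy ((e.toEquiv.trans e2.toEquiv).symm.injective ((hsub _).trans (hsub _).symm))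

end Groth.Agent.Lib.NonVan2H7
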