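import Mathlib
import Groth.Agent.Lib.NonVan2_helper7
import Groth.Agent.Lib.LocCohTors_helper7

/-!
# Grothendieck non-vanishing, part 3: the module case (helper7)

For a finite module `N` over a Noetherian local ring with `dim N ≤ k+1`, and `p ∈ Supp N` with
`dim R/p = k+1`, the annihilator of `H^{k+1}_m(N)` lies in `p`.  Proved by dévissage.
-/

set_option autoImplicit false

open CategoryTheory IsLocalRing TensorProduct Pointwise

namespace Groth.Agent.Lib.NonVan3H7

open Groth.Agent.DepthLib Groth.Agent.Lib.LocCohLESH7 Groth.Agent.Lib.NonVanH7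
  Groth.Agent.Lib.NonVan2H7 Groth.Agent.Lib.LocCohGVH7 Groth.Agent.Lib.LocCohFunctH7

universe u

variable {R : Type u} [CommRing R] [IsLocalRing R] [IsNoetherianRing R]

/-- multiplication by a regular element is surjective on top local cohomology -/
theorem smul_surjective_top (N : Type u) [AddCommGroup N] [Module R N] [Module.Finite R N]
    (d : R) (hreg : IsSMulRegular N d) (p : ℕ)
    (hdim : Module.supportDim R N ≤ ((p + 1 : ℕ) : WithBot ℕ∞))
    (y : LocCoh.H (maximalIdeal R) (p + 1) N) :
    ∃ y' : LocCoh.H (maximalIdeal R) (p + 1) N, d • y' = y := by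
  by_cases hd : IsUnit d
  · obtain ⟨u, rfl⟩ := hd
    exact ⟨((u⁻¹ : Rˣ) : R) • y, by rw [smul_smul, Units.mul_inv, one_smul]⟩
  · have hdm : d ∈ maximalIdeal R := (IsLocalRing.mem_maximalIdeal d).2 hd
    have h5 := Module.supportDim_quotSMulTop_succ_eq_supportDim hreg hdm
    have hle : Module.supportDim R (QuotSMulTop d N) ≤ (p : WithBot ℕ∞) :=
      wb_c _ p (h5.le.trans hdim)
    have hlt : Module.supportDim R (QuotSMulTop d N) < ((p + 1 : ℕ) : WithBot ℕ∞) :=
      lt_of_le_of_lt hle (by exact_mod_cast Nat.lt_succ_self p)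
    have hsub : Subsingleton (LocCoh.H (maximalIdeal R) (p + 1) (QuotSMulTop d N)) :=
      GV _ _ _ hlt
    have hinj : Function.Injective (d • (LinearMap.id : N →ₗ[R] N)) := hreg
    have hT := shortComplexOf_shortExact (d • (LinearMap.id : N →ₗ[R] N))
      (Submodule.mkQ (d • (⊤ : Submodule R N))) hinj (Submodule.mkQ_surjective _) (smul_exact N d)
    obtain ⟨y', hy'⟩ := exact_middle (maximalIdeal R) hT p y
      (Subsingleton.elim (α := LocCoh.H (maximalIdeal R) (p + 1) (QuotSMulTop d N)) _ _)
    refine ⟨y', ?_⟩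
    have h1 : (localCohomology (maximalIdeal R) (p + 1)).map
        (ModuleCat.ofHom (d • (LinearMap.id : N →ₗ[R] N))) =
          d • 𝟙 ((localCohomology (maximalIdeal R) (p + 1)).obj (ModuleCat.of R N)) := by
      rw [show ModuleCat.ofHom (d • (LinearMap.id : N →ₗ[R] N)) = d • 𝟙 (ModuleCat.of R N) from rfl,
        H_map_smul, CategoryTheory.Functor.map_id]
    have h2 := congrArg (fun φ => φ.hom y') h1
    have h3 : ((localCohomology (maximalIdeal R) (p + 1)).map
        (ModuleCat.ofHom (d • (LinearMap.id : N →ₗ[R] N)))).hom y' = d • y' := h2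
    exact h3.symm.trans hy'

/-- the key property for the dévissage -/
def AnnProp (N : Type u) [AddCommGroup N] [Module R N] : Prop :=
  ∀ (k : ℕ), Module.supportDim R N ≤ ((k + 1 : ℕ) : WithBot ℕ∞) →
    ∀ p : PrimeSpectrum R, p ∈ Module.support R N →
      ringKrullDim (R ⧸ p.asIdeal) = ((k + 1 : ℕ) : WithBot ℕ∞) →
      ∀ a : R, (∀ y : LocCoh.H (maximalIdeal R) (k + 1) N, a • y = 0) → a ∈ p.asIdeal

theorem annProp_quotient (N : Type u) [AddCommGroup N] [Module R N] [Module.Finite R N]
    (q : PrimeSpectrum R) (e : N ≃ₗ[R] R ⧸ q.1) : AnnProp (R := R) N := by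
  intro k hdim p hp hpdim a ha
  have hp' : p ∈ Module.support R (R ⧸ q.1) :=
    Module.support_subset_of_injective e.toLinearMap e.injective hp
  have hqp : q.1 ≤ p.1 := by
    have := Module.mem_support_iff_of_finite.1 hp'
    rwa [Ideal.annihilator_quotient] at this
  have hdimq : ringKrullDim (R ⧸ q.1) = ((k + 1 : ℕ) : WithBot ℕ∞) := by
    apply le_antisymm
    · rw [← Module.supportDim_quotient_eq_ringKrullDim, ← Module.supportDim_eq_of_equiv e]
      exact hdim
    · rw [← hpdim]
      exact ringKrullDim_le_of_surjective (Ideal.Quotient.factor hqp)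
        (Ideal.Quotient.factor_surjective hqp)
  haveI : IsLocalRing (R ⧸ q.1) :=
    IsLocalRing.of_surjective' (Ideal.Quotient.mk q.1) Ideal.Quotient.mk_surjective
  have hnv0 := nonvanishing_ring (R ⧸ q.1) (k + 1) hdimq
  haveI hnv1 : Nontrivial (LocCoh.H (maximalIdeal R) (k + 1) (R ⧸ q.1)) :=
    transfer' (S := R) (R := R ⧸ q.1) Ideal.Quotient.mk_surjective (R ⧸ q.1) (k + 1) hnv0
  have hnv : Nontrivial (LocCoh.H (maximalIdeal R) (k + 1) N) :=
    (((localCohomology (maximalIdeal R) (k + 1)).mapIso
      e.toModuleIso).toLinearEquiv.toEquiv).nontrivial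
  by_contra hap
  have haq : a ∉ q.1 := fun h => hap (hqp h)
  have hreg : IsSMulRegular N a := by
    intro x y hxy
    have hxy' : a • x = a • y := hxy
    have h1 : a • e x = a • e y := by
      rw [← map_smul, ← map_smul]
      exact congrArg e hxy'
    rw [Algebra.smul_def, Algebra.smul_def] at h1
    have h2 : algebraMap R (R ⧸ q.1) a ≠ 0 := by
      rw [Ideal.Quotient.algebraMap_eq, Ne, Ideal.Quotient.eq_zero_iff_mem]
      exact haq
    exact e.injective (mul_left_cancel₀ h2 h1)
  obtain ⟨x, y, hxy⟩ := hnv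
  obtain ⟨x', rfl⟩ := smul_surjective_top N a hreg k hdim x
  obtain ⟨y', rfl⟩ := smul_surjective_top N a hreg k hdim y
  exact hxy ((ha x').trans (ha y').symm)

theorem annProp_exact (N₁ : Type u) [AddCommGroup N₁] [Module R N₁] [Module.Finite R N₁]
    (N₂ : Type u) [AddCommGroup N₂] [Module R N₂] [Module.Finite R N₂]
    (N₃ : Type u) [AddCommGroup N₃] [Module R N₃] [Module.Finite R N₃]
    (f : N₁ →ₗ[R] N₂) (g : N₂ →ₗ[R] N₃) (hf : Function.Injective f) (hg : Function.Surjective g)
    (hfg : Function.Exact f g) (h1 : AnnProp (R := R) N₁) (h3 : AnnProp (R := R) N₃) :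
    AnnProp (R := R) N₂ := by
  intro k hdim p hp hpdim a ha
  have hd1 : Module.supportDim R N₁ ≤ ((k + 1 : ℕ) : WithBot ℕ∞) :=
    (Module.supportDim_le_of_injective f hf).trans hdim
  have hd3 : Module.supportDim R N₃ ≤ ((k + 1 : ℕ) : WithBot ℕ∞) :=
    (Module.supportDim_le_of_surjective g hg).trans hdim
  rw [Module.support_of_exact hfg hf hg] at hp
  by_cases hp3 : p ∈ Module.support R N₃
  · apply h3 k hd3 p hp3 hpdim a
    intro z
    have hT := shortComplexOf_shortExact f g hf hg hfg
    have hsub : Subsingleton (LocCoh.H (maximalIdeal R) (k + 2) N₁) :=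
      GV (maximalIdeal R) N₁ (k + 2)
        (lt_of_le_of_lt hd1 (by exact_mod_cast Nat.lt_succ_self (k + 1)))
    obtain ⟨y, hy⟩ := surjective_of_subsingleton (maximalIdeal R) hT k hsub z
    have h0 : a • y = 0 := ha y
    have hφ := ((localCohomology (maximalIdeal R) (k + 1)).map
      (shortComplexOf f g hfg).g).hom.map_smul a y
    rw [← hy]
    exact hφ.symm.trans ((congrArg _ h0).trans (map_zero _))
  · have hp1 : p ∈ Module.support R N₁ := hp.resolve_right hp3
    have hnle : ¬ Module.annihilator R N₃ ≤ p.asIdeal := fun h =>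
      hp3 (Module.mem_support_iff_of_finite.2 h)
    obtain ⟨b, hb, hbp⟩ := SetLike.not_le_iff_exists.1 hnle
    have hbx : ∀ x : N₂, (b • (LinearMap.id : N₂ →ₗ[R] N₂)) x ∈ LinearMap.range f := by
      intro x
      rw [← (LinearMap.exact_iff.1 hfg), LinearMap.mem_ker]
      show g (b • x) = 0
      rw [map_smul]
      exact Module.mem_annihilator.1 hb (g x)
    let r : N₂ →ₗ[R] N₁ := (LinearEquiv.ofInjective f hf).symm.toLinearMap ∘ₗ
      LinearMap.codRestrict (LinearMap.range f) (b • (LinearMap.id : N₂ →ₗ[R] N₂)) hbx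
    have hr : ∀ x, f (r x) = b • x := by
      intro x
      exact congrArg Subtype.val
        ((LinearEquiv.ofInjective f hf).apply_symm_apply ⟨b • x, hbx x⟩)
    have hrf : r ∘ₗ f = b • (LinearMap.id : N₁ →ₗ[R] N₁) := by
      apply LinearMap.ext
      intro x
      apply hf
      rw [LinearMap.comp_apply, hr, LinearMap.smul_apply, LinearMap.id_apply, map_smul]
    have hba : b * a ∈ p.asIdeal := by
      apply h1 k hd1 p hp1 hpdim (b * a)
      intro y
      have hmap : (localCohomology (maximalIdeal R) (k + 1)).map (ModuleCat.ofHom f) ≫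
          (localCohomology (maximalIdeal R) (k + 1)).map (ModuleCat.ofHom r) =
            b • 𝟙 ((localCohomology (maximalIdeal R) (k + 1)).obj (ModuleCat.of R N₁)) := by
        rw [← Functor.map_comp, ← ModuleCat.ofHom_comp, hrf,
          show ModuleCat.ofHom (b • (LinearMap.id : N₁ →ₗ[R] N₁)) = b • 𝟙 (ModuleCat.of R N₁)
            from rfl, H_map_smul, CategoryTheory.Functor.map_id]
      have h2 := congrArg (fun φ => φ.hom (a • y)) hmap
      have h4 : ((localCohomology (maximalIdeal R) (k + 1)).map (ModuleCat.ofHom r)).hom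
          (((localCohomology (maximalIdeal R) (k + 1)).map (ModuleCat.ofHom f)).hom (a • y)) =
            b • (a • y) := h2
      have h5 : ((localCohomology (maximalIdeal R) (k + 1)).map (ModuleCat.ofHom f)).hom (a • y)
          = 0 := by
        have h50 := ((localCohomology (maximalIdeal R) (k + 1)).map
          (ModuleCat.ofHom f)).hom.map_smul a y
        exact h50.trans (ha _)
      rw [mul_smul, ← h4, h5, map_zero]
    exact (p.2.mem_or_mem hba).resolve_left hbp

/-- the annihilator of the top local cohomology lies in the top-dimensional primes of the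
support -/
theorem annProp (N : Type u) [AddCommGroup N] [Module R N] [hN : Module.Finite R N] :
    AnnProp (R := R) N := by
  induction hN using IsNoetherianRing.induction_on_isQuotientEquivQuotientPrime R with
  | subsingleton N =>
    intro k _ p hp
    rw [Module.support_eq_empty] at hp
    exact absurd hp (Set.notMem_empty _)
  | quotient N q e => exact annProp_quotient N q e
  | exact N₁ N₂ N₃ f g hf hg hfg h1 h3 => exact annProp_exact N₁ N₂ N₃ f g hf hg hfg h1 h3

/-- a finite module of dimension `k+1` has a prime in its support of coheight `k+1` containing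
the annihilator of its top local cohomology -/
theorem exists_prime_ann_le (M : Type u) [AddCommGroup M] [Module R M] [Module.Finite R M]
    (k : ℕ) (hn : Module.supportDim R M = ((k + 1 : ℕ) : WithBot ℕ∞)) :
    ∃ p : PrimeSpectrum R, ringKrullDim (R ⧸ p.asIdeal) = ((k + 1 : ℕ) : WithBot ℕ∞) ∧
      ∀ a : R, (∀ y : LocCoh.H (maximalIdeal R) (k + 1) M, a • y = 0) → a ∈ p.asIdeal := by
  haveI : Nontrivial M := by
    by_contra h
    rw [not_nontrivial_iff_subsingleton] at h
    rw [(Module.supportDim_eq_bot_iff_subsingleton (R := R) (M := M)).2 h] at hn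
    exact absurd hn.symm (WithBot.natCast_ne_bot _)
  have hann : Module.annihilator R M ≠ ⊤ := by
    intro h
    have h1 : (1 : R) ∈ Module.annihilator R M := h ▸ Submodule.mem_top
    obtain ⟨x, hx⟩ := exists_ne (0 : M)
    exact hx (by simpa using Module.mem_annihilator.1 h1 x)
  haveI : Nontrivial (R ⧸ Module.annihilator R M) := Ideal.Quotient.nontrivial_iff.2 hann
  haveI : IsLocalRing (R ⧸ Module.annihilator R M) :=
    IsLocalRing.of_surjective' (Ideal.Quotient.mk _) Ideal.Quotient.mk_surjective
  obtain ⟨𝔭, h𝔭min, h𝔭dim⟩ := Equi133H8.exists_minimalPrimes_dim_eq (R ⧸ Module.annihilator R M)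
  haveI : 𝔭.IsPrime := h𝔭min.1.1
  let φ : R →+* (R ⧸ Module.annihilator R M) ⧸ 𝔭 :=
    (Ideal.Quotient.mk 𝔭).comp (Ideal.Quotient.mk (Module.annihilator R M))
  have hφ : Function.Surjective φ :=
    Ideal.Quotient.mk_surjective.comp Ideal.Quotient.mk_surjective
  haveI hP : (RingHom.ker φ).IsPrime := RingHom.ker_isPrime φ
  have hle : Module.annihilator R M ≤ RingHom.ker φ := by
    intro x hx
    rw [RingHom.mem_ker]
    show Ideal.Quotient.mk 𝔭 (Ideal.Quotient.mk (Module.annihilator R M) x) = 0
    rw [Ideal.Quotient.eq_zero_iff_mem.2 hx, map_zero]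
  have hdimP : ringKrullDim (R ⧸ RingHom.ker φ) = ((k + 1 : ℕ) : WithBot ℕ∞) := by
    rw [ringKrullDim_eq_of_ringEquiv (RingHom.quotientKerEquivOfSurjective hφ), h𝔭dim,
      ← Module.supportDim_eq_ringKrullDim_quotient_annihilator, hn]
  refine ⟨⟨RingHom.ker φ, hP⟩, hdimP, ?_⟩
  exact annProp M k hn.le ⟨RingHom.ker φ, hP⟩ (Module.mem_support_iff_of_finite.2 hle) hdimP

/-- **Grothendieck non-vanishing, module case** -/
theorem nonvanishing_module (M : Type u) [AddCommGroup M] [Module R M] [Module.Finite R M]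
    [Nontrivial M] (n : ℕ) (hn : Module.supportDim R M = n) :
    Nontrivial (LocCoh.H (maximalIdeal R) n M) := by
  rcases n with _ | k
  · have hT := isPowerTorsion_of_supportDim_eq_zero M (by rw [hn]; rfl)
    obtain ⟨e⟩ := Groth.Agent.Lib.LocCohH0H7.H0_equiv (maximalIdeal R) M hT
    exact e.toEquiv.nontrivial
  · obtain ⟨p, -, hp⟩ := exists_prime_ann_le M k hn
    by_contra hne
    rw [not_nontrivial_iff_subsingleton] at hne
    exact p.2.ne_top ((Ideal.eq_top_iff_one _).2 (hp 1 (fun y => Subsingleton.elim _ _)))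

/-- uniform power killing a finite power-torsion module -/
lemma exists_pow_kill_of_finite {A : Type*} [CommRing A] (I : Ideal A) (H : Type*)
    [AddCommGroup H] [Module A H] [hfin : Module.Finite A H]
    (hT : LocCoh.IsPowerTorsion I H) : ∃ j : ℕ, ∀ a ∈ I ^ j, ∀ y : H, a • y = 0 := by
  classical
  obtain ⟨s, hs⟩ := (Module.finite_def.1 hfin : (⊤ : Submodule A H).FG)
  choose j hj using hT
  refine ⟨s.sup j, fun a ha y => ?_⟩
  have hy : y ∈ Submodule.span A (s : Set H) := hs ▸ Submodule.mem_top
  induction hy using Submodule.span_induction with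
  | mem x hx => exact hj x a (Ideal.pow_le_pow_right (Finset.le_sup hx) ha)
  | zero => exact smul_zero a
  | add x y _ _ hx hy => rw [smul_add, hx, hy, add_zero]
  | smul r x _ hx => rw [smul_comm, hx, smul_zero]

/-- the top local cohomology of a module of positive dimension is not finitely generated -/
theorem not_finite_top (M : Type u) [AddCommGroup M] [Module R M] [Module.Finite R M]
    (n : ℕ) (hn0 : 0 < n) (hn : Module.supportDim R M = n) :
    ¬ Module.Finite R (LocCoh.H (maximalIdeal R) n M) := by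
  obtain ⟨k, rfl⟩ : ∃ k, n = k + 1 := ⟨n - 1, by omega⟩
  intro hfin
  obtain ⟨p, hpdim, hp⟩ := exists_prime_ann_le M k hn
  obtain ⟨j, hj⟩ := exists_pow_kill_of_finite (maximalIdeal R) _
    (Groth.Agent.Lib.LocCohTorsH7.main R (maximalIdeal R) (k + 1) M)
  have h1 : maximalIdeal R ^ j ≤ p.asIdeal := fun a ha => hp a (hj a ha)
  have h2 : maximalIdeal R ≤ p.asIdeal := Ideal.IsPrime.le_of_pow_le h1
  have h3 : maximalIdeal R = p.asIdeal :=
    (IsLocalRing.maximalIdeal.isMaximal R).eq_of_le p.2.ne_top h2
  have hfld : IsField (R ⧸ maximalIdeal R) :=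
    (Ideal.Quotient.maximal_ideal_iff_isField_quotient _).1 (IsLocalRing.maximalIdeal.isMaximal R)
  rw [← h3, ringKrullDim_eq_zero_of_isField hfld] at hpdim
  have h4 : (0 : ℕ) = k + 1 := by exact_mod_cast hpdim
  omega

end Groth.Agent.Lib.NonVan3H7
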