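import Mathlib
import Groth.Agent.Lib.NonVan3_helper7
import Groth.Agent.Lib.LocCohDeltaZero_helper7
import Groth.Agent.Lib.Matlis3_helper5
import Groth.Agent.Lib.Gorenstein_helper5
import Groth.Agent.Lib.InjHull6_helper3
import Groth.Agent.Lib.GlDim_helper5
import Groth.Agent.Lib.LocCohTors_helper7

/-!
# The top local cohomology of a Gorenstein local ring is an injective hull of the residue field
(helper7)
-/

set_option autoImplicit false

open CategoryTheory CategoryTheory.Limits IsLocalRing Pointwise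

namespace Groth.Agent.Lib.GorHullH7

open Groth.Agent.Lib.LocCohLESH7 Groth.Agent.DepthLib
open Groth.Agent.Lib.InjHull_helper3 Groth.Agent.Lib.DT_helper3 Groth.Agent.Lib.LocCohDTH7
open Groth.Agent.Lib.LocCohCdSupH7 Groth.Agent.Lib.LocCohDTExactH7 LocCoh
open Groth.Agent.Lib.LocCohDeltaZeroH7 Groth.Agent.Matlis Groth.Agent.Lib.LocCohFunctH7

universe u

section conn

variable {R : Type u} [CommRing R]

/-- exactness at `H^1_K(M)` of the connecting map -/
theorem cMap_range (K : Ideal R) {M N Q : Type u} [AddCommGroup M] [Module R M] [AddCommGroup N]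
    [Module R N] [AddCommGroup Q] [Module R Q] (f : M →ₗ[R] N) (g : N →ₗ[R] Q)
    (hf : Function.Injective f) (hg : Function.Surjective g) (hfg : Function.Exact f g)
    (y : LocCoh.H K 1 M)
    (hy : ((localCohomology K 1).map (ModuleCat.ofHom f)).hom y = 0) :
    ∃ q, cMap K f g hf hg hfg q = y := by
  obtain ⟨z, rfl⟩ := ΦD_surjective K M y
  have h0 : (ΦD K N).hom (((idealTransform K).map (ModuleCat.ofHom f)).hom z) = 0 := by
    rw [ΦD_nat]
    exact hy
  obtain ⟨e, he⟩ := mem_range_of_ΦD_eq_zero K N _ h0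
  have hq : g e ∈ Γ K Q := by
    rw [← toDT_eq_zero_iff_mem_Γ, ← toDT_nat, he]
    exact D_comp_zero K f g hfg z
  exact ⟨⟨g e, hq⟩, cMap_spec K f g hf hg hfg ⟨g e, hq⟩ e z rfl he.symm⟩

/-- an element killing a module kills its local cohomology -/
lemma smul_eq_zero_of_kills (K : Ideal R) (i : ℕ) (X : Type u) [AddCommGroup X] [Module R X]
    (a : R) (ha : ∀ x : X, a • x = 0) (z : LocCoh.H K i X) : a • z = 0 := by
  have h2 : a • 𝟙 (ModuleCat.of R X) = 0 := by
    apply ModuleCat.hom_ext
    apply LinearMap.ext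
    intro x
    exact ha x
  have h1 : (localCohomology K i).map (a • 𝟙 (ModuleCat.of R X)) =
      a • 𝟙 ((localCohomology K i).obj (ModuleCat.of R X)) := by
    rw [H_map_smul, CategoryTheory.Functor.map_id]
  rw [h2, Functor.map_zero] at h1
  have h3 := congrArg (fun φ => φ.hom z) h1
  exact h3.symm

lemma exact_fm (f : R) :
    Function.Exact (f • (LinearMap.id : R →ₗ[R] R)) (Ideal.span {f}).mkQ := by
  rw [LinearMap.exact_iff, Submodule.ker_mkQ]
  ext x
  rw [Ideal.mem_span_singleton', LinearMap.mem_range]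
  constructor
  · rintro ⟨a, rfl⟩
    exact ⟨a, by rw [LinearMap.smul_apply, LinearMap.id_apply, smul_eq_mul, mul_comm]⟩
  · rintro ⟨a, rfl⟩
    exact ⟨a, by rw [LinearMap.smul_apply, LinearMap.id_apply, smul_eq_mul, mul_comm]⟩

lemma map_fm (K : Ideal R) (i : ℕ) (f : R) (y : LocCoh.H K i R) :
    ((localCohomology K i).map (ModuleCat.ofHom (f • (LinearMap.id : R →ₗ[R] R)))).hom y =
      f • y := by
  have h1 : (localCohomology K i).map
      (ModuleCat.ofHom (f • (LinearMap.id : R →ₗ[R] R))) =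
        f • 𝟙 ((localCohomology K i).obj (ModuleCat.of R R)) := by
    rw [show ModuleCat.ofHom (f • (LinearMap.id : R →ₗ[R] R)) = f • 𝟙 (ModuleCat.of R R) from rfl,
      H_map_smul, CategoryTheory.Functor.map_id]
  exact congrArg (fun φ => φ.hom y) h1

/-- the connecting map identifies `H^n_K(R/f)` with the `f`-torsion of `H^{n+1}_K(R)` -/
theorem exists_conn (K : Ideal R) (f : R) (hreg : IsSMulRegular R f) (n : ℕ)
    (h0 : Subsingleton (LocCoh.H K n R)) :
    ∃ d : LocCoh.H K n (R ⧸ Ideal.span {f}) →ₗ[R] LocCoh.H K (n + 1) R,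
      Function.Injective d ∧ ∀ y, f • y = 0 ↔ ∃ z, d z = y := by
  have hinj : Function.Injective (f • (LinearMap.id : R →ₗ[R] R)) := hreg
  have hsurj : Function.Surjective (Ideal.span {f}).mkQ := Submodule.mkQ_surjective _
  have hkill : ∀ x : R ⧸ Ideal.span {f}, f • x = 0 := by
    intro x
    obtain ⟨r, rfl⟩ := Submodule.mkQ_surjective _ x
    rw [← map_smul, Submodule.mkQ_apply, Submodule.Quotient.mk_eq_zero, smul_eq_mul]
    exact Ideal.mul_mem_right _ _ (Ideal.mem_span_singleton_self f)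
  rcases n with _ | p
  · obtain ⟨e⟩ := H0_equiv' K (R ⧸ Ideal.span {f})
    obtain ⟨e0⟩ := H0_equiv' K R
    refine ⟨(cMap K _ _ hinj hsurj (exact_fm f)) ∘ₗ e.toLinearMap, ?_, ?_⟩
    · rw [← LinearMap.ker_eq_bot, LinearMap.ker_eq_bot']
      intro z hz
      rw [LinearMap.comp_apply, cMap_eq_zero_iff] at hz
      obtain ⟨y, hy, hgy⟩ := hz
      have hy0 : (⟨y, hy⟩ : ↥(Γ K R)) = 0 := by
        have : e0.symm ⟨y, hy⟩ = e0.symm 0 := Subsingleton.elim _ _
        exact e0.symm.injective this
      have hy1 : y = 0 := congrArg Subtype.val hy0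
      rw [hy1, map_zero] at hgy
      have hez : e z = 0 := Subtype.ext hgy.symm
      exact e.injective (hez.trans (map_zero e).symm)
    · intro y
      constructor
      · intro hy
        obtain ⟨q, hq⟩ := cMap_range K _ _ hinj hsurj (exact_fm f) y
          ((map_fm K 1 f y).trans hy)
        exact ⟨e.symm q, by rw [LinearMap.comp_apply]; simpa using hq⟩
      · rintro ⟨z, rfl⟩
        rw [← map_smul, smul_eq_zero_of_kills K 0 _ f hkill z, map_zero]
  · have hT := shortComplexOf_shortExact (f • (LinearMap.id : R →ₗ[R] R))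
      (Ideal.span {f}).mkQ hinj hsurj (exact_fm f)
    refine ⟨(δ K hT p).hom, ?_, ?_⟩
    · have key : ∀ m, (δ K hT p).hom m = 0 → m = 0 := by
        intro m hm
        obtain ⟨m₂, rfl⟩ := exists_of_δ_eq_zero K hT p m hm
        have : m₂ = 0 := Subsingleton.elim (α := LocCoh.H K (p + 1) R) _ _
        rw [this, map_zero]
      intro a b hab
      have h1 : (δ K hT p).hom (a - b) = 0 := by
        have := (δ K hT p).hom.map_sub a b
        exact this.trans (sub_eq_zero.2 hab)
      exact sub_eq_zero.1 (key _ h1)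
    · intro y
      constructor
      · intro hy
        exact exists_δ_eq K hT p y ((map_fm K (p + 2) f y).trans hy)
      · rintro ⟨z, rfl⟩
        have h1 := (δ K hT p).hom.map_smul f z
        have h2 : f • z = 0 := smul_eq_zero_of_kills K (p + 1) (R ⧸ Ideal.span {f}) f hkill z
        exact h1.symm.trans ((congrArg _ h2).trans (map_zero _))

end conn

section embedding

variable {R : Type u} [CommRing R] [IsLocalRing R] [IsNoetherianRing R]

/-- the semilinear embedding of `H^n_{m̄}(R/f)` onto the `f`-torsion of `H^{n+1}_m(R)` -/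
theorem exists_embedding (f : R) (hreg : IsSMulRegular R f) [IsLocalRing (R ⧸ Ideal.span {f})]
    (n : ℕ) (h0 : Subsingleton (LocCoh.H (maximalIdeal R) n R)) :
    ∃ ψ : LocCoh.H (maximalIdeal (R ⧸ Ideal.span {f})) n (R ⧸ Ideal.span {f}) →+
        LocCoh.H (maximalIdeal R) (n + 1) R,
      Function.Injective ψ ∧
      (∀ (r : R) (x : LocCoh.H (maximalIdeal (R ⧸ Ideal.span {f})) n (R ⧸ Ideal.span {f})),
        ψ (Ideal.Quotient.mk (Ideal.span {f}) r • x) = r • ψ x) ∧
      ∀ y, f • y = 0 ↔ ∃ z, ψ z = y := by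
  obtain ⟨d, hdinj, hdr⟩ := exists_conn (maximalIdeal R) f hreg n h0
  have hmap : (maximalIdeal R).map (algebraMap R (R ⧸ Ideal.span {f})) =
      maximalIdeal (R ⧸ Ideal.span {f}) :=
    Groth.Agent.Lib.NonVan2H7.map_maximalIdeal_of_surjective _ Ideal.Quotient.mk_surjective
  have key : ∀ J : Ideal (R ⧸ Ideal.span {f}), J = maximalIdeal (R ⧸ Ideal.span {f}) →
      (∃ φ : LocCoh.H J n (R ⧸ Ideal.span {f}) ≃+
          LocCoh.H (maximalIdeal R) n (R ⧸ Ideal.span {f}),
        ∀ (r : R) (x : LocCoh.H J n (R ⧸ Ideal.span {f})),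
          φ (algebraMap R (R ⧸ Ideal.span {f}) r • x) = r • φ x) →
      ∃ φ : LocCoh.H (maximalIdeal (R ⧸ Ideal.span {f})) n (R ⧸ Ideal.span {f}) ≃+
          LocCoh.H (maximalIdeal R) n (R ⧸ Ideal.span {f}),
        ∀ (r : R) (x : LocCoh.H (maximalIdeal (R ⧸ Ideal.span {f})) n (R ⧸ Ideal.span {f})),
          φ (algebraMap R (R ⧸ Ideal.span {f}) r • x) = r • φ x := by
    rintro J rfl h
    exact h
  obtain ⟨φ, hφ⟩ := key _ hmap
    (Groth.Agent.Lib.LocCohBaseIndepH7.main (R ⧸ Ideal.span {f}) (maximalIdeal R) n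
      (R ⧸ Ideal.span {f}))
  refine ⟨d.toAddMonoidHom.comp φ.toAddMonoidHom, ?_, ?_, ?_⟩
  · exact hdinj.comp φ.injective
  · intro r x
    show d (φ (Ideal.Quotient.mk (Ideal.span {f}) r • x)) = r • d (φ x)
    rw [← map_smul]
    exact congrArg d (hφ r x)
  · intro y
    rw [hdr y]
    constructor
    · rintro ⟨z, rfl⟩
      exact ⟨φ.symm z, by
        show d (φ (φ.symm z)) = d z
        rw [φ.apply_symm_apply]⟩
    · rintro ⟨z, rfl⟩
      exact ⟨φ z, rfl⟩

end embedding

section abstract

/-- transport of a socle generator along a linear equivalence -/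
theorem hull_of_equiv {R : Type u} [CommRing R] [IsLocalRing R] {X Y : Type u} [AddCommGroup X]
    [Module R X] [AddCommGroup Y] [Module R Y] (e : X ≃ₗ[R] Y) [Module.Injective R Y] {y : Y}
    (hy : IsSocleGen R y) :
    ∃ g : ResidueField R →ₗ[R] X, InjHull.IsInjectiveHull g := by
  haveI : Module.Injective R X := injective_of_linearEquiv e
  have hx : IsSocleGen R (e.symm y) := by
    refine ⟨?_, ?_, ?_⟩
    · intro h
      apply hy.ne_zero
      have := congrArg e h
      rwa [e.apply_symm_apply, map_zero] at this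
    · intro a ha
      rw [← map_smul, hy.smul_eq_zero a ha, map_zero]
    · intro z hz
      have hez : e z ≠ 0 := fun h => hz (e.injective (h.trans (map_zero e).symm))
      obtain ⟨b, hb⟩ := hy.exists_smul (e z) hez
      refine ⟨b, ?_⟩
      apply e.injective
      rw [map_smul, hb, e.apply_symm_apply]
  obtain ⟨g, -, hg⟩ := hx.exists_isEssentialInj
  exact ⟨g, { toIsEssentialInj := hg, isInjective := inferInstance }⟩

/-- a self-injective Noetherian local ring of dimension zero has a socle generator -/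
theorem exists_socleGen_of_injective (R : Type u) [CommRing R] [IsLocalRing R]
    [IsNoetherianRing R] [hRinj : Module.Injective R R] (hdim : ringKrullDim R = 0) :
    ∃ y : R, IsSocleGen R y := by
  have hT : LocCoh.IsPowerTorsion (maximalIdeal R) R :=
    Groth.Agent.Lib.NonVanH7.isPowerTorsion_of_supportDim_eq_zero (S := R) R (by
      rw [Module.supportDim_self_eq_ringKrullDim, hdim])
  obtain ⟨b, hb0, hb⟩ := exists_socle_smul hT (1 : R) one_ne_zero
  obtain ⟨E, _, _, f₀, hf₀⟩ :=
    Groth.Agent.Lib.InjHull6_helper3.exists_injective_hull (R := R) (ResidueField R)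
  have hyE := isSocleGen_of_isEssentialInj hf₀.toIsEssentialInj
  haveI : Module.Injective R E := hf₀.isInjective
  obtain ⟨φ, hφ⟩ := hRinj.out f₀ hf₀.injective (ofSocle (b • (1 : R)) hb)
  have hφ1 : φ (f₀ 1) = b • (1 : R) := (hφ 1).trans (ofSocle_one _ _)
  have hφinj : Function.Injective φ := by
    rw [← LinearMap.ker_eq_bot, LinearMap.ker_eq_bot']
    intro e he
    by_contra he0
    obtain ⟨c, hc⟩ := hyE.exists_smul e he0
    apply hb0
    rw [← hφ1, ← hc, map_smul, he, smul_zero]
  haveI : Ring.KrullDimLE 0 R := Ring.krullDimLE_iff.2 (by rw [hdim]; rfl)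
  haveI : IsArtinianRing R := IsNoetherianRing.isArtinianRing_of_krullDimLE_zero
  have hfl : IsFiniteLength R R :=
    isFiniteLength_iff_isNoetherian_isArtinian.2 ⟨inferInstance, inferInstance⟩
  have hlen : Module.length R R = Module.length R E := by
    rw [← length_hom hyE R hfl]
    exact (LinearMap.ringLmapEquivSelf R R E).length_eq
  have hfin : Module.length R E ≠ ⊤ := by
    rw [← hlen]
    exact Module.length_ne_top_iff.2 hfl
  have hφsurj := surjective_of_injective_of_length_eq φ hφinj hlen hfin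
  refine ⟨b • (1 : R), hb0, hb, ?_⟩
  intro z hz
  obtain ⟨e, rfl⟩ := hφsurj z
  have he0 : e ≠ 0 := by
    rintro rfl
    exact hz (map_zero φ)
  obtain ⟨c, hc⟩ := hyE.exists_smul e he0
  exact ⟨c, by rw [← map_smul, hc, hφ1]⟩

/-- the inductive step, abstractly -/
theorem hull_of_quot {R : Type u} [CommRing R] [IsLocalRing R] [IsNoetherianRing R] (f : R)
    (hfm : f ∈ maximalIdeal R) [IsLocalRing (R ⧸ Ideal.span {f})]
    (H : Type u) [AddCommGroup H] [Module R H] (Hb : Type u) [AddCommGroup Hb]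
    [Module (R ⧸ Ideal.span {f}) Hb]
    (ψ : Hb →+ H) (hψinj : Function.Injective ψ)
    (hψs : ∀ (r : R) (x : Hb), ψ (Ideal.Quotient.mk (Ideal.span {f}) r • x) = r • ψ x)
    (hψr : ∀ y : H, f • y = 0 ↔ ∃ z, ψ z = y)
    (htor : LocCoh.IsPowerTorsion (maximalIdeal R) H)
    (hdiv : ∀ y : H, ∃ y', f • y' = y)
    (hb : ∃ g : ResidueField (R ⧸ Ideal.span {f}) →ₗ[R ⧸ Ideal.span {f}] Hb,
      InjHull.IsInjectiveHull g) :
    ∃ g : ResidueField R →ₗ[R] H, InjHull.IsInjectiveHull g := by
  classical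
  obtain ⟨gb, hgb⟩ := hb
  have hyb := isSocleGen_of_isEssentialInj hgb.toIsEssentialInj
  have hinjb : Module.Injective (R ⧸ Ideal.span {f}) Hb := hgb.isInjective
  generalize gb 1 = yb at hyb
  have hmk_mem : ∀ r ∈ maximalIdeal R,
      Ideal.Quotient.mk (Ideal.span {f}) r ∈ maximalIdeal (R ⧸ Ideal.span {f}) := by
    intro r hr
    rw [mem_maximalIdeal, mem_nonunits_iff] at hr ⊢
    intro hu
    apply hr
    haveI : IsLocalHom (Ideal.Quotient.mk (Ideal.span {f})) :=
      IsLocalHom.of_surjective _ Ideal.Quotient.mk_surjective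
    exact isUnit_of_map_unit (Ideal.Quotient.mk (Ideal.span {f})) r hu
  have hmkf : Ideal.Quotient.mk (Ideal.span {f}) f = 0 :=
    Ideal.Quotient.eq_zero_iff_mem.2 (Ideal.mem_span_singleton_self f)
  -- the socle generator of `H`
  have hy : IsSocleGen R (ψ yb) := by
    refine ⟨?_, ?_, ?_⟩
    · intro h
      exact hyb.ne_zero (hψinj (h.trans (map_zero ψ).symm))
    · intro a ha
      rw [← hψs, hyb.smul_eq_zero _ (hmk_mem a ha), map_zero]
    · intro z hz
      have hex : ∃ t : ℕ, f ^ t • z = 0 := by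
        obtain ⟨t, ht⟩ := htor z
        exact ⟨t, ht _ (Ideal.pow_mem_pow hfm t)⟩
      have hspec : f ^ (Nat.find hex) • z = 0 := Nat.find_spec hex
      have ht0 : Nat.find hex ≠ 0 := by
        intro h0
        rw [h0, pow_zero, one_smul] at hspec
        exact hz hspec
      obtain ⟨t', ht'⟩ := Nat.exists_eq_succ_of_ne_zero ht0
      have hmin : f ^ t' • z ≠ 0 := Nat.find_min hex (by omega : t' < Nat.find hex)
      have hfz : f • (f ^ t' • z) = 0 := by
        rw [ht', pow_succ', mul_smul] at hspec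
        exact hspec
      obtain ⟨zb, hzb⟩ := (hψr _).1 hfz
      have hzb0 : zb ≠ 0 := by
        rintro rfl
        rw [map_zero] at hzb
        exact hmin hzb.symm
      obtain ⟨bb, hbb⟩ := hyb.exists_smul zb hzb0
      obtain ⟨b, rfl⟩ := Ideal.Quotient.mk_surjective bb
      refine ⟨b * f ^ t', ?_⟩
      rw [mul_smul, ← hzb, ← hψs, hbb]
  -- the injective hull of `H`
  obtain ⟨E, _, _, ι, hι⟩ := Groth.Agent.Lib.InjHull6_helper3.exists_injective_hull (R := R) H
  haveI : Module.Injective R E := hι.isInjective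
  have hyE : IsSocleGen R (ι (ψ yb)) := by
    refine ⟨fun h => hy.ne_zero (hι.injective (h.trans (map_zero ι).symm)),
      fun r hr => by rw [← map_smul, hy.smul_eq_zero r hr, map_zero], fun z hz => ?_⟩
    have hN : Submodule.span R {z} ≠ ⊥ := by
      rw [Ne, Submodule.span_singleton_eq_bot]
      exact hz
    obtain ⟨x, hx, hx0⟩ := (Submodule.ne_bot_iff _).mp (hι.essential _ hN)
    obtain ⟨hx1, hx2⟩ := Submodule.mem_inf.mp hx
    obtain ⟨c, rfl⟩ := Submodule.mem_span_singleton.mp hx1
    obtain ⟨h, hh⟩ := hx2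
    have hh0 : h ≠ 0 := by
      rintro rfl
      rw [map_zero] at hh
      exact hx0 hh.symm
    obtain ⟨b, hb⟩ := hy.exists_smul h hh0
    refine ⟨b * c, ?_⟩
    rw [mul_smul, ← hh, ← map_smul, hb]
  have htorE := hyE.isPowerTorsion
  have hmemT : ∀ x : Hb, ι (ψ x) ∈ LocCoh.torsionBy (Ideal.span {f}) E := by
    intro x
    rw [Submodule.mem_torsionBySet_iff]
    rintro ⟨a, ha⟩
    obtain ⟨c, rfl⟩ := Ideal.mem_span_singleton'.1 ha
    show (c * f) • ι (ψ x) = 0
    rw [← map_smul, ← hψs, map_mul, hmkf, mul_zero, zero_smul, map_zero, map_zero]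
  let j : Hb →ₗ[R ⧸ Ideal.span {f}] LocCoh.torsionBy (Ideal.span {f}) E :=
    { toFun := fun x => ⟨ι (ψ x), hmemT x⟩
      map_add' := fun x x' => Subtype.ext (by
        show ι (ψ (x + x')) = ι (ψ x) + ι (ψ x')
        rw [map_add, map_add])
      map_smul' := fun rb x => by
        obtain ⟨r, rfl⟩ := Ideal.Quotient.mk_surjective rb
        rw [RingHom.id_apply, Submodule.torsionBySet.mk_smul]
        apply Subtype.ext
        show ι (ψ (Ideal.Quotient.mk _ r • x)) = r • ι (ψ x)
        rw [hψs, map_smul] }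
  have hjinj : Function.Injective j := by
    intro x x' hxx'
    have h1 : ι (ψ x) = ι (ψ x') := congrArg Subtype.val hxx'
    exact hψinj (hι.injective h1)
  obtain ⟨ρ, hρ⟩ := hinjb.out j hjinj LinearMap.id
  obtain ⟨hmem, hyT⟩ := isSocleGen_torsionBy (Ideal.span {f}) hyE
  have hρinj : ∀ c, ρ c = 0 → c = 0 := by
    intro c hc
    by_contra hc0
    obtain ⟨bb, hbb⟩ := hyT.exists_smul c hc0
    have h1 : ρ (bb • c) = 0 := by rw [map_smul, hc, smul_zero]
    rw [hbb] at h1
    have h2 : (⟨ι (ψ yb), hmem⟩ : LocCoh.torsionBy (Ideal.span {f}) E) = j yb := rfl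
    rw [h2, hρ] at h1
    exact hyb.ne_zero h1
  have h7 : ∀ e : E, f • e = 0 → ∃ h : H, ι h = e := by
    intro e he
    have heT : e ∈ LocCoh.torsionBy (Ideal.span {f}) E := by
      rw [Submodule.mem_torsionBySet_iff]
      rintro ⟨a, ha⟩
      obtain ⟨c, rfl⟩ := Ideal.mem_span_singleton'.1 ha
      show (c * f) • e = 0
      rw [mul_smul, he, smul_zero]
    have h1 : j (ρ ⟨e, heT⟩) = ⟨e, heT⟩ := by
      have h2 : ρ (j (ρ ⟨e, heT⟩) - ⟨e, heT⟩) = 0 := by
        rw [map_sub, hρ, LinearMap.id_apply, sub_self]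
      exact sub_eq_zero.1 (hρinj _ h2)
    exact ⟨ψ (ρ ⟨e, heT⟩), congrArg Subtype.val h1⟩
  have h8 : ∀ t : ℕ, ∀ e : E, f ^ t • e = 0 → ∃ h : H, ι h = e := by
    intro t
    induction t with
    | zero =>
      intro e he
      rw [pow_zero, one_smul] at he
      exact ⟨0, by rw [map_zero, he]⟩
    | succ t ih =>
      intro e he
      have h1 : f ^ t • (f • e) = 0 := by
        rw [← mul_smul, ← pow_succ]
        exact he
      obtain ⟨h, hh⟩ := ih _ h1
      obtain ⟨h', rfl⟩ := hdiv h
      have h2 : f • (e - ι h') = 0 := by rw [smul_sub, ← map_smul, hh, sub_self]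
      obtain ⟨h'', hh''⟩ := h7 _ h2
      exact ⟨h'' + h', by rw [map_add, hh'']; abel⟩
  have hsurj : Function.Surjective ι := by
    intro e
    obtain ⟨t, ht⟩ := htorE e
    exact h8 t e (ht _ (Ideal.pow_mem_pow hfm t))
  let eι : H ≃ₗ[R] E := LinearEquiv.ofBijective ι ⟨hι.injective, hsurj⟩
  haveI : Module.Injective R H := injective_of_linearEquiv eι
  obtain ⟨g, -, hg⟩ := hy.exists_isEssentialInj
  exact ⟨g, { toIsEssentialInj := hg, isInjective := inferInstance }⟩

end abstract

/-- **the top local cohomology of a Gorenstein local ring is an injective hull of the residue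
field** -/
theorem gorenstein_hull : ∀ (n : ℕ) (R : Type u) [CommRing R] [IsLocalRing R] [IsNoetherianRing R],
    (∃ N, HasInjectiveDimensionLT (ModuleCat.of R R) N) → ringKrullDim R = n →
    ∃ g : ResidueField R →ₗ[R] LocCoh.H (maximalIdeal R) n R, InjHull.IsInjectiveHull g := by
  intro n
  induction n with
  | zero =>
    intro R _ _ _ hinj hdim
    have h1 := Groth.Agent.Gor.injDim_le_dim_local R hinj 0 (by rw [hdim]; rfl)
    haveI : Injective (ModuleCat.of R R) := injective_iff_hasInjectiveDimensionLT_one.2 h1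
    haveI : Module.Injective R R := Module.injective_module_of_injective_object R R
    have hdim0 : ringKrullDim R = 0 := by rw [hdim]; rfl
    obtain ⟨y, hy⟩ := exists_socleGen_of_injective R hdim0
    have hT : LocCoh.IsPowerTorsion (maximalIdeal R) R :=
      Groth.Agent.Lib.NonVanH7.isPowerTorsion_of_supportDim_eq_zero (S := R) R (by
        rw [Module.supportDim_self_eq_ringKrullDim, hdim0])
    obtain ⟨e⟩ := Groth.Agent.Lib.LocCohH0H7.H0_equiv (maximalIdeal R) R hT
    exact hull_of_equiv e hy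
  | succ n ih =>
    intro R _ _ _ hinj hdim
    obtain ⟨t, ht⟩ := Groth.Agent.Gor.depth_exists R
    have h2 := Groth.Agent.Gor.dim_eq_depth t R hinj ht
    have htn : t = n + 1 := by
      rw [hdim] at h2
      exact_mod_cast h2.symm
    have hIM : maximalIdeal R • (⊤ : Submodule R R) ≠ ⊤ := by
      rw [ideal_smul_top_self]
      exact Ideal.IsPrime.ne_top inferInstance
    have h1 : ((1 : ℕ) : ℕ∞) ≤ LocCoh.idealDepth (maximalIdeal R) R := by
      rw [ht, htn]
      exact_mod_cast Nat.succ_le_succ (Nat.zero_le n)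
    rw [le_idealDepth_iff] at h1
    rcases h1 with h1 | ⟨rs, hreg, hmem, hlen⟩
    · exact absurd h1 hIM
    obtain ⟨f, rfl⟩ : ∃ x, rs = [x] := List.length_eq_one_iff.1 hlen
    have hfm : f ∈ maximalIdeal R := hmem f (List.mem_singleton.2 rfl)
    rw [RingTheory.Sequence.isWeaklyRegular_cons_iff] at hreg
    have hfreg : IsSMulRegular R f := hreg.1
    have hspan : Ideal.span {f} ≠ ⊤ := by
      intro h
      have h3 : Ideal.span {f} ≤ maximalIdeal R :=
        (Ideal.span_singleton_le_iff_mem _).2 hfm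
      rw [h] at h3
      exact (Ideal.IsPrime.ne_top (inferInstance : (maximalIdeal R).IsPrime)) (top_le_iff.1 h3)
    haveI : Nontrivial (R ⧸ Ideal.span {f}) := Ideal.Quotient.nontrivial_iff.2 hspan
    haveI : IsLocalRing (R ⧸ Ideal.span {f}) :=
      IsLocalRing.of_surjective' (Ideal.Quotient.mk _) Ideal.Quotient.mk_surjective
    obtain ⟨N, hN⟩ := hinj
    have hinjb := Groth.Agent.Gor.injDim_quot f hfreg N hN
    have hdimb : ringKrullDim (R ⧸ Ideal.span {f}) = n := by
      have h5 := ringKrullDim_quotient_span_singleton_succ_eq_ringKrullDim hfreg hfm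
      rw [hdim] at h5
      exact add_one_cancel h5
    have hb := ih (R ⧸ Ideal.span {f}) ⟨N, hinjb⟩ hdimb
    have h0 : Subsingleton (LocCoh.H (maximalIdeal R) n R) :=
      Groth.Agent.Lib.LocCohDepthH7.vanishing (maximalIdeal R) R hIM n (by
        rw [ht, htn]
        exact_mod_cast Nat.lt_succ_self n)
    obtain ⟨ψ, hψinj, hψs, hψr⟩ := exists_embedding f hfreg n h0
    exact hull_of_quot f hfm _ _ ψ hψinj hψs hψr
      (Groth.Agent.Lib.LocCohTorsH7.main R (maximalIdeal R) (n + 1) R)
      (fun y => Groth.Agent.Lib.NonVan3H7.smul_surjective_top R f hfreg n (by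
        rw [Module.supportDim_self_eq_ringKrullDim, hdim]) y) hb

end Groth.Agent.Lib.GorHullH7
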