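import Mathlib
import Groth.Agent.Lib.GorHull_helper7
import Groth.Agent.Lib.InjHull6_helper3
import Groth.Agent.Lib.LocCohInjAcyc_helper7
import Groth.Agent.Lib.LocCohGV_helper7
import Groth.Agent.Lib.LocCohDepth_helper7

/-!
# Gorenstein local rings via local cohomology (helper7; S11175)

`A` is Gorenstein iff `H^i_m(A) = 0` for `i ≠ d` and `H^d_m(A)` is injective.
-/

set_option autoImplicit false

open CategoryTheory CategoryTheory.Limits IsLocalRing Pointwise Abelian

namespace Groth.Agent.Lib.GorCharH7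

open Groth.Agent.Lib.LocCohLESH7 Groth.Agent.DepthLib
open Groth.Agent.Lib.InjHull_helper3 LocCoh
open Groth.Agent.Lib.LocCohDeltaZeroH7 Groth.Agent.Matlis

universe u

variable {R : Type u} [CommRing R] [IsNoetherianRing R]

/-- the connecting isomorphism when the middle term is acyclic in two consecutive degrees -/
theorem conn_equiv (K : Ideal R) {M N Q : Type u} [AddCommGroup M] [Module R M] [AddCommGroup N]
    [Module R N] [AddCommGroup Q] [Module R Q] (f : M →ₗ[R] N) (g : N →ₗ[R] Q)
    (hf : Function.Injective f) (hg : Function.Surjective g) (hfg : Function.Exact f g) (n : ℕ)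
    (h1 : Subsingleton (LocCoh.H K n N)) (h2 : Subsingleton (LocCoh.H K (n + 1) N)) :
    Nonempty (LocCoh.H K n Q ≃ₗ[R] LocCoh.H K (n + 1) M) := by
  rcases n with _ | p
  · obtain ⟨e⟩ := H0_equiv' K Q
    obtain ⟨e0⟩ := H0_equiv' K N
    have hΓN : ∀ y ∈ Γ K N, y = 0 := by
      intro y hy
      have : e0.symm ⟨y, hy⟩ = e0.symm 0 := Subsingleton.elim _ _
      exact congrArg Subtype.val (e0.symm.injective this)
    have hinj : Function.Injective (cMap K f g hf hg hfg) := by
      rw [← LinearMap.ker_eq_bot, LinearMap.ker_eq_bot']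
      intro q hq
      rw [cMap_eq_zero_iff] at hq
      obtain ⟨y, hy, hgy⟩ := hq
      rw [hΓN y hy, map_zero] at hgy
      exact Subtype.ext hgy.symm
    have hsurj := cMap_surjective K f g hf hg hfg h2
    exact ⟨e.trans (LinearEquiv.ofBijective _ ⟨hinj, hsurj⟩)⟩
  · have hT := shortComplexOf_shortExact f g hf hg hfg
    have hb := δ_bijective K hT p h1 h2
    exact ⟨LinearEquiv.ofBijective (δ K hT p).hom hb⟩

theorem Γ_zero_of_H0 (K : Ideal R) (N : Type u) [AddCommGroup N] [Module R N]
    (h : Subsingleton (LocCoh.H K 0 N)) : ∀ y ∈ Γ K N, y = 0 := by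
  obtain ⟨e0⟩ := H0_equiv' K N
  intro y hy
  have : e0.symm ⟨y, hy⟩ = e0.symm 0 := Subsingleton.elim _ _
  exact congrArg Subtype.val (e0.symm.injective this)

theorem H0_of_Γ_zero (K : Ideal R) (N : Type u) [AddCommGroup N] [Module R N]
    (h : ∀ y ∈ Γ K N, y = 0) : Subsingleton (LocCoh.H K 0 N) := by
  obtain ⟨e0⟩ := H0_equiv' K N
  refine ⟨fun a b => e0.injective (Subtype.ext ?_)⟩
  rw [h _ (e0 a).2, h _ (e0 b).2]

/-- essential extensions of a `Γ_K`-torsion-free module are `Γ_K`-torsion-free -/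
theorem Γ_zero_of_essential (K : Ideal R) {M E : Type u} [AddCommGroup M] [Module R M]
    [AddCommGroup E] [Module R E] (f : M →ₗ[R] E) (hf : InjHull.IsEssentialInj f)
    (hM : ∀ y ∈ Γ K M, y = 0) : ∀ y ∈ Γ K E, y = 0 := by
  intro y hy
  by_contra hne
  have hN : Submodule.span R {y} ≠ ⊥ := by
    rw [Ne, Submodule.span_singleton_eq_bot]
    exact hne
  obtain ⟨z, hz, hz0⟩ := Submodule.exists_mem_ne_zero_of_ne_bot (hf.essential _ hN)
  obtain ⟨hz1, hz2⟩ := Submodule.mem_inf.1 hz
  obtain ⟨a, rfl⟩ := Submodule.mem_span_singleton.1 hz1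
  obtain ⟨m, hm⟩ := hz2
  obtain ⟨n, hn⟩ := (mem_Γ_iff K y).1 hy
  have hmΓ : m ∈ Γ K M := by
    rw [mem_Γ_iff]
    refine ⟨n, fun b hb => ?_⟩
    apply hf.injective
    rw [map_smul, hm, map_zero, smul_comm, hn b hb, smul_zero]
  rw [hM m hmΓ, map_zero] at hm
  exact hz0 hm.symm

/-- `Hom(X, M) = 0` when `K` kills `X` and `M` has no `K`-power torsion -/
theorem ext_zero_subsingleton (K : Ideal R) (X : ModuleCat.{u} R)
    (hX : ∀ a ∈ K, ∀ x : X, a • x = 0) (M : Type u) [AddCommGroup M] [Module R M]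
    (hM : ∀ y ∈ Γ K M, y = 0) : Subsingleton (Ext X (ModuleCat.of R M) 0) := by
  have key : ∀ e : Ext X (ModuleCat.of R M) 0, e = 0 := by
    intro e
    obtain ⟨φ, rfl⟩ := (Ext.mk₀_bijective X (ModuleCat.of R M)).2 e
    have hφ : φ = 0 := by
      apply ModuleCat.hom_ext
      apply LinearMap.ext
      intro x
      have hx : φ.hom x ∈ Γ K M := by
        rw [mem_Γ_iff]
        refine ⟨1, fun a ha => ?_⟩
        rw [pow_one] at ha
        rw [← map_smul, hX a ha x, map_zero]
      exact hM _ hx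
    rw [hφ, Ext.mk₀_zero]
  exact ⟨fun a b => by rw [key a, key b]⟩

section hull

variable (K : Ideal R) (X : ModuleCat.{u} R)
  {M E : Type u} [AddCommGroup M] [Module R M] [AddCommGroup E] [Module R E]
  (f : M →ₗ[R] E) (hf : InjHull.IsInjectiveHull f)

include hf in
theorem hull_acyclic (h0 : Subsingleton (LocCoh.H K 0 M)) (j : ℕ) :
    Subsingleton (LocCoh.H K j E) := by
  haveI := hf.isInjective
  rcases j with _ | j
  · exact H0_of_Γ_zero K E (Γ_zero_of_essential K f hf.toIsEssentialInj (Γ_zero_of_H0 K M h0))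
  · exact Groth.Agent.Lib.LocCohInjAcycH7.main (R' := R) K E (j + 1) (Nat.succ_pos j)

include hf in
theorem hull_shift (h0 : Subsingleton (LocCoh.H K 0 M)) (j : ℕ) :
    Nonempty (LocCoh.H K j (E ⧸ LinearMap.range f) ≃ₗ[R] LocCoh.H K (j + 1) M) :=
  conn_equiv K f (LinearMap.range f).mkQ hf.injective (Submodule.mkQ_surjective _)
    (LinearMap.exact_map_mkQ_range f) j (hull_acyclic K f hf h0 j) (hull_acyclic K f hf h0 (j + 1))

include hf in
/-- dimension shifting for `Ext(X, -)` along an injective hull -/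
theorem ext_shift (i : ℕ) (h : Subsingleton (Ext X (ModuleCat.of R (E ⧸ LinearMap.range f)) i)) :
    Subsingleton (Ext X (ModuleCat.of R M) (i + 1)) := by
  haveI := hf.isInjective
  have hS := shortComplexOf_shortExact f (LinearMap.range f).mkQ hf.injective
    (Submodule.mkQ_surjective _) (LinearMap.exact_map_mkQ_range f)
  haveI : Injective (shortComplexOf f (LinearMap.range f).mkQ
      (LinearMap.exact_map_mkQ_range f)).X₂ :=
    Module.injective_object_of_injective_module (R := R) (M := E)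
  have key : ∀ x : Ext X (ModuleCat.of R M) (i + 1), x = 0 := by
    intro x
    have hx : x.comp (Ext.mk₀ (shortComplexOf f (LinearMap.range f).mkQ
        (LinearMap.exact_map_mkQ_range f)).f) (add_zero (i + 1)) = 0 :=
      Ext.eq_zero_of_injective _
    obtain ⟨x₃, hx₃⟩ := Ext.covariant_sequence_exact₁ X hS x hx rfl
    have h3 : x₃ = 0 := @Subsingleton.elim _ h x₃ 0
    rw [← hx₃, h3, Ext.zero_comp]
    rfl
  exact ⟨fun a b => by rw [key a, key b]⟩

end hull

/-- modules with vanishing local cohomology have vanishing `Ext(X, -)` for `X` killed by `K` -/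
theorem ext_subsingleton_of_H_zero (K : Ideal R) (X : ModuleCat.{u} R)
    (hX : ∀ a ∈ K, ∀ x : X, a • x = 0) :
    ∀ (i : ℕ) (M : Type u) [AddCommGroup M] [Module R M],
      (∀ j, Subsingleton (LocCoh.H K j M)) → Subsingleton (Ext X (ModuleCat.of R M) i) := by
  intro i
  induction i with
  | zero =>
    intro M _ _ hM
    exact ext_zero_subsingleton K X hX M (Γ_zero_of_H0 K M (hM 0))
  | succ i ih =>
    intro M _ _ hM
    obtain ⟨E, _, _, f, hf⟩ := Groth.Agent.Lib.InjHull6_helper3.exists_injective_hull (R := R) M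
    have hQ : ∀ j, Subsingleton (LocCoh.H K j (E ⧸ LinearMap.range f)) := by
      intro j
      obtain ⟨e⟩ := hull_shift K f hf (hM 0) j
      haveI := hM (j + 1)
      exact e.toEquiv.subsingleton
    exact ext_shift X f hf i (ih (E ⧸ LinearMap.range f) hQ)

/-- the key vanishing: if `H^j_K(M) = 0` for `j ≠ d` and `H^d_K(M)` is injective, then
`Ext^i(X, M) = 0` for `i > d` -/
theorem ext_vanishing_above (K : Ideal R) (X : ModuleCat.{u} R)
    (hX : ∀ a ∈ K, ∀ x : X, a • x = 0) :
    ∀ (d : ℕ) (M : Type u) [AddCommGroup M] [Module R M],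
      (∀ j, j ≠ d → Subsingleton (LocCoh.H K j M)) → Module.Injective R (LocCoh.H K d M) →
      ∀ i, d < i → Subsingleton (Ext X (ModuleCat.of R M) i) := by
  intro d
  induction d with
  | zero =>
    intro M _ _ hM hinj i hi
    obtain ⟨i, rfl⟩ : ∃ i', i = i' + 1 := ⟨i - 1, by omega⟩
    obtain ⟨e0⟩ := H0_equiv' K M
    haveI : Module.Injective R ↥(Γ K M) := injective_of_linearEquiv e0.symm
    have hfi : Function.Injective (Γ K M).subtype := Submodule.injective_subtype _
    have hgs : Function.Surjective (Γ K M).mkQ := Submodule.mkQ_surjective _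
    have hex : Function.Exact (Γ K M).subtype (Γ K M).mkQ := by
      have := LinearMap.exact_map_mkQ_range (Γ K M).subtype
      rwa [Submodule.range_subtype] at this
    have hΓj : ∀ j, Subsingleton (LocCoh.H K (j + 1) ↥(Γ K M)) := fun j =>
      Groth.Agent.Lib.LocCohInjAcycH7.main (R' := R) K ↥(Γ K M) (j + 1) (Nat.succ_pos j)
    have hQ : ∀ j, Subsingleton (LocCoh.H K j (M ⧸ Γ K M)) := by
      intro j
      rcases j with _ | j
      · apply H0_of_Γ_zero
        intro q hq
        have h1 := (cMap_eq_zero_iff K _ _ hfi hgs hex ⟨q, hq⟩).1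
          (@Subsingleton.elim _ (hΓj 0) _ _)
        obtain ⟨y, hy, hgy⟩ := h1
        have hgy' : (Γ K M).mkQ y = q := hgy
        rw [← hgy']
        exact (Submodule.Quotient.mk_eq_zero _).2 hy
      · obtain ⟨e⟩ := conn_equiv K _ _ hfi hgs hex (j + 1) (hM (j + 1) (Nat.succ_ne_zero j))
          (hM (j + 1 + 1) (Nat.succ_ne_zero _))
        haveI := hΓj (j + 1)
        exact e.toEquiv.subsingleton
    have h3 := ext_subsingleton_of_H_zero K X hX (i + 1) (M ⧸ Γ K M) hQ
    have hS := shortComplexOf_shortExact _ _ hfi hgs hex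
    haveI : Injective (shortComplexOf (Γ K M).subtype (Γ K M).mkQ hex).X₁ :=
      Module.injective_object_of_injective_module (R := R) (M := ↥(Γ K M))
    have key : ∀ x : Ext X (ModuleCat.of R M) (i + 1), x = 0 := by
      intro x
      have hx : x.comp (Ext.mk₀ (shortComplexOf (Γ K M).subtype (Γ K M).mkQ hex).g)
          (add_zero (i + 1)) = 0 := @Subsingleton.elim _ h3 _ _
      obtain ⟨x₁, hx₁⟩ := Ext.covariant_sequence_exact₂ X hS x hx
      rw [← hx₁, Ext.eq_zero_of_injective x₁, Ext.zero_comp]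
      rfl
    exact ⟨fun a b => by rw [key a, key b]⟩
  | succ d ih =>
    intro M _ _ hM hinj i hi
    obtain ⟨i, rfl⟩ : ∃ i', i = i' + 1 := ⟨i - 1, by omega⟩
    have hi' : d < i := by omega
    obtain ⟨E, _, _, f, hf⟩ := Groth.Agent.Lib.InjHull6_helper3.exists_injective_hull (R := R) M
    have h0 : Subsingleton (LocCoh.H K 0 M) := hM 0 (Nat.succ_ne_zero d).symm
    have hQ : ∀ j, j ≠ d → Subsingleton (LocCoh.H K j (E ⧸ LinearMap.range f)) := by
      intro j hj
      obtain ⟨e⟩ := hull_shift K f hf h0 j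
      haveI := hM (j + 1) (by omega)
      exact e.toEquiv.subsingleton
    have hQd : Module.Injective R (LocCoh.H K d (E ⧸ LinearMap.range f)) := by
      obtain ⟨e⟩ := hull_shift K f hf h0 d
      haveI := hinj
      exact injective_of_linearEquiv e
    exact ext_shift X f hf i (ih (E ⧸ LinearMap.range f) hQ hQd i hi')

section final

variable (A : Type u) [CommRing A] [IsLocalRing A] [IsNoetherianRing A]

omit [IsNoetherianRing A] in
theorem residue_kill : ∀ a ∈ maximalIdeal A,
    ∀ x : (ModuleCat.of A (ResidueField A) : ModuleCat.{u} A), a • x = 0 := by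
  intro a ha x
  obtain ⟨r, rfl⟩ := IsLocalRing.residue_surjective (R := A) x
  show a • IsLocalRing.residue A r = 0
  rw [Algebra.smul_def]
  have : algebraMap A (ResidueField A) a = 0 := (IsLocalRing.residue_eq_zero_iff a).2 ha
  rw [this, zero_mul]

/-- S11175, `⇐` -/
theorem gorenstein_of_H (d : ℕ)
    (h1 : ∀ i : ℕ, i ≠ d → Subsingleton (LocCoh.H (maximalIdeal A) i A))
    (h2 : Module.Injective A (LocCoh.H (maximalIdeal A) d A)) :
    HasInjectiveDimensionLT (ModuleCat.of A A) (d + 1) := by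
  apply Groth.Agent.Gor.hasInjectiveDimensionLT_sharp A A (d + 1)
  intro i hi
  exact ext_vanishing_above (maximalIdeal A) (ModuleCat.of A (ResidueField A)) (residue_kill A)
    d A h1 h2 i (by omega)

/-- S11175, `⇒` -/
theorem H_of_gorenstein (hinj : ∃ N, HasInjectiveDimensionLT (ModuleCat.of A A) N) :
    ∃ d : ℕ, (∀ i : ℕ, i ≠ d → Subsingleton (LocCoh.H (maximalIdeal A) i A)) ∧
      Module.Injective A (LocCoh.H (maximalIdeal A) d A) := by
  obtain ⟨t, ht⟩ := Groth.Agent.Gor.depth_exists A
  have hdim := Groth.Agent.Gor.dim_eq_depth t A hinj ht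
  have hdim' : ringKrullDim A = (t : WithBot ℕ∞) := hdim
  have hIM : maximalIdeal A • (⊤ : Submodule A A) ≠ ⊤ := by
    rw [ideal_smul_top_self]
    exact Ideal.IsPrime.ne_top inferInstance
  refine ⟨t, ?_, ?_⟩
  · intro i hi
    rcases lt_or_gt_of_ne hi with hlt | hgt
    · exact Groth.Agent.Lib.LocCohDepthH7.vanishing (maximalIdeal A) A hIM i (by
        rw [ht]
        exact_mod_cast hlt)
    · apply Groth.Agent.Lib.LocCohGVH7.GV (maximalIdeal A) A i
      rw [Module.supportDim_self_eq_ringKrullDim, hdim']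
      exact_mod_cast hgt
  · obtain ⟨g, hg⟩ := Groth.Agent.Lib.GorHullH7.gorenstein_hull t A hinj hdim'
    exact hg.isInjective

end final

end Groth.Agent.Lib.GorCharH7
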