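import Mathlib
import Groth.Prelude.Def_Wider
import Groth.Agent.Lib.InjHull2_helper3
import Groth.Agent.S17756

set_option autoImplicit false
universe u

namespace Groth.Agent.Lib.InjHull3_helper3

open Groth.Agent.Lib.InjHull_helper3 Groth.Agent.Lib.InjHull2_helper3 IsLocalRing

variable {R : Type u} [CommRing R]

section dual

variable {M E : Type u} [AddCommGroup M] [Module R M] [AddCommGroup E] [Module R E]

/-- additivity of the length of the `E`-dual -/
theorem length_hom_eq_add (hE : Module.Injective R E) (S : Submodule R M) :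
    Module.length R (M →ₗ[R] E) =
      Module.length R ((M ⧸ S) →ₗ[R] E) + Module.length R (S →ₗ[R] E) := by
  refine Module.length_eq_add_of_exact (LinearMap.lcomp R E S.mkQ) (LinearMap.lcomp R E S.subtype)
    ?_ ?_ ?_
  · intro φ ψ h
    ext x
    exact LinearMap.congr_fun h x
  · intro φ
    obtain ⟨ψ, hψ⟩ := exists_extension hE S.subtype S.injective_subtype φ
    exact ⟨ψ, hψ⟩
  · intro ψ
    constructor
    · intro h
      have hle : S ≤ LinearMap.ker ψ := by
        intro x hx
        exact LinearMap.congr_fun h ⟨x, hx⟩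
      refine ⟨S.liftQ ψ hle, ?_⟩
      ext x
      simp [LinearMap.lcomp_apply]
    · rintro ⟨φ, rfl⟩
      ext x
      simp only [LinearMap.lcomp_apply, Submodule.subtype_apply, Submodule.mkQ_apply,
        LinearMap.zero_apply]
      rw [(Submodule.Quotient.mk_eq_zero S).2 x.2, map_zero]

end dual

section artin

variable [IsLocalRing R] {E : Type u} [AddCommGroup E] [Module R E]

theorem length_hom_residueField [IsNoetherianRing R] (f : ResidueField R →ₗ[R] E)
    (hf : InjHull.IsInjectiveHull f) : Module.length R (ResidueField R →ₗ[R] E) = 1 := by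
  have h1 := Groth.Agent.S17756.result R E f hf (ResidueField R)
  have htop : LocCoh.torsionBy (maximalIdeal R) (ResidueField R →ₗ[R] E) = ⊤ := by
    rw [eq_top_iff]
    intro φ _
    rw [Submodule.mem_torsionBySet_iff]
    rintro ⟨a, ha⟩
    ext c
    rw [LinearMap.smul_apply, ← map_smul]
    have : a • c = 0 := by
      rw [Algebra.smul_def]
      have : algebraMap R (ResidueField R) a = 0 := (IsLocalRing.residue_eq_zero_iff a).2 ha
      rw [this, zero_mul]
    rw [this, map_zero, LinearMap.zero_apply]
  rw [htop, Module.length_top] at h1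
  rw [← h1]
  have hspan : (⊤ : Submodule R (ResidueField R)) = Submodule.span R {(1 : ResidueField R)} := by
    rw [eq_comm, eq_top_iff]
    intro c _
    obtain ⟨r, rfl⟩ := IsLocalRing.residue_surjective c
    rw [Submodule.mem_span_singleton]
    exact ⟨r, by rw [Algebra.smul_def, mul_one]; rfl⟩
  rw [hspan, Submodule.spanFinrank_singleton one_ne_zero]
  rfl

theorem length_hom_simple [IsNoetherianRing R] (f : ResidueField R →ₗ[R] E)
    (hf : InjHull.IsInjectiveHull f) (S : Type u) [AddCommGroup S] [Module R S]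
    [IsSimpleModule R S] : Module.length R (S →ₗ[R] E) = 1 := by
  obtain ⟨I, hI, ⟨e⟩⟩ := isSimpleModule_iff_quot_maximal.1 (inferInstance : IsSimpleModule R S)
  have hIm : I = maximalIdeal R := IsLocalRing.eq_maximalIdeal hI
  subst hIm
  rw [← length_hom_residueField f hf]
  exact (LinearEquiv.congrLeft E R e).length_eq

/-- S0308 -/
theorem length_hom_hull [IsArtinianRing R] (f : ResidueField R →ₗ[R] E)
    (hf : InjHull.IsInjectiveHull f) (n : ℕ) :
    ∀ (M : Type u) [AddCommGroup M] [Module R M] [Module.Finite R M],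
      Module.length R M = n → Module.length R (M →ₗ[R] E) = n := by
  induction n with
  | zero =>
    intro M _ _ _ h
    rw [Nat.cast_zero, Module.length_eq_zero_iff] at h
    rw [Nat.cast_zero, Module.length_eq_zero_iff]
    exact ⟨fun φ ψ => LinearMap.ext fun x => by rw [Subsingleton.elim x 0, map_zero, map_zero]⟩
  | succ n ih =>
    intro M _ _ _ h
    have hnt : Nontrivial M := by
      rw [← Module.length_pos_iff (R := R), h]
      exact_mod_cast Nat.succ_pos n
    obtain ⟨S, hS, -⟩ := (eq_bot_or_exists_atom_le (⊤ : Submodule R M)).resolve_left top_ne_bot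
    haveI : IsSimpleModule R S := isSimpleModule_iff_isAtom.2 hS
    have hadd : Module.length R M = Module.length R S + Module.length R (M ⧸ S) :=
      Module.length_eq_add_of_exact S.subtype S.mkQ S.injective_subtype S.mkQ_surjective
        (LinearMap.exact_subtype_mkQ S)
    rw [h, Module.length_eq_one] at hadd
    have hq : Module.length R (M ⧸ S) = n := by
      have hne : Module.length R (M ⧸ S) ≠ ⊤ := by
        intro htop
        rw [htop, add_top] at hadd
        exact absurd hadd (by exact_mod_cast ENat.natCast_ne_top (n + 1))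
      obtain ⟨k, hk⟩ := ENat.ne_top_iff_exists.1 hne
      rw [← hk] at hadd ⊢
      have : n + 1 = 1 + k := by exact_mod_cast hadd
      congr 1
      omega
    rw [length_hom_eq_add hf.isInjective S, ih (M ⧸ S) hq, length_hom_simple f hf S]
    push_cast
    rfl

theorem length_hom_hull' [IsArtinianRing R] (f : ResidueField R →ₗ[R] E)
    (hf : InjHull.IsInjectiveHull f) (M : Type u) [AddCommGroup M] [Module R M]
    [Module.Finite R M] : Module.length R (M →ₗ[R] E) = Module.length R M := by
  obtain ⟨n, hn⟩ := ENat.ne_top_iff_exists.1 (Module.length_ne_top (R := R) (M := M))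
  rw [← hn]
  exact length_hom_hull f hf n M hn.symm

/-- `E` is a cogenerator -/
theorem exists_hom_ne_zero (f : ResidueField R →ₗ[R] E) (hf : InjHull.IsInjectiveHull f)
    {M : Type u} [AddCommGroup M] [Module R M] (x : M) (hx : x ≠ 0) :
    ∃ φ : M →ₗ[R] E, φ x ≠ 0 := by
  let q : R →ₗ[R] M := LinearMap.toSpanSingleton R M x
  let t : R →ₗ[R] E := f ∘ₗ (Algebra.linearMap R (ResidueField R))
  have hle : LinearMap.ker q ≤ LinearMap.ker t := by
    intro r hr
    rw [LinearMap.mem_ker] at hr ⊢
    have hrm : r ∈ maximalIdeal R := by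
      rw [IsLocalRing.mem_maximalIdeal]
      intro hu
      apply hx
      obtain ⟨u, rfl⟩ := hu
      have : (↑u⁻¹ : R) • ((u : R) • x) = 0 := by
        rw [show (u : R) • x = q (u : R) from rfl, hr, smul_zero]
      rwa [smul_smul, Units.inv_mul, one_smul] at this
    simp only [t, LinearMap.comp_apply, Algebra.linearMap_apply]
    have : algebraMap R (ResidueField R) r = 0 := (IsLocalRing.residue_eq_zero_iff r).2 hrm
    rw [this, map_zero]
  let ψ₀ : (R ⧸ LinearMap.ker q) →ₗ[R] E := (LinearMap.ker q).liftQ t hle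
  let qbar : (R ⧸ LinearMap.ker q) →ₗ[R] M := (LinearMap.ker q).liftQ q le_rfl
  have hqbar : Function.Injective qbar := by
    rw [← LinearMap.ker_eq_bot]
    exact Submodule.ker_liftQ_eq_bot _ _ _ le_rfl
  obtain ⟨φ, hφ⟩ := exists_extension hf.isInjective qbar hqbar ψ₀
  refine ⟨φ, ?_⟩
  have h1 := LinearMap.congr_fun hφ ((LinearMap.ker q).mkQ 1)
  simp only [LinearMap.comp_apply, qbar, ψ₀, Submodule.mkQ_apply, Submodule.liftQ_apply] at h1
  have hq1 : q 1 = x := by simp [q]
  rw [hq1] at h1
  rw [h1]
  simp only [t, LinearMap.comp_apply, Algebra.linearMap_apply, map_one]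
  intro h0
  have := hf.injective (h0.trans (map_zero f).symm)
  exact one_ne_zero this

/-- S0309 -/
theorem applyₗ_bijective [IsArtinianRing R] (f : ResidueField R →ₗ[R] E)
    (hf : InjHull.IsInjectiveHull f) (M : Type u) [AddCommGroup M] [Module R M]
    [Module.Finite R M] :
    Function.Bijective (LinearMap.applyₗ : M →ₗ[R] (M →ₗ[R] E) →ₗ[R] E) := by
  have hinj : Function.Injective (LinearMap.applyₗ : M →ₗ[R] (M →ₗ[R] E) →ₗ[R] E) := by
    rw [injective_iff_map_eq_zero]
    intro x hx
    by_contra hne
    obtain ⟨φ, hφ⟩ := exists_hom_ne_zero f hf x hne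
    exact hφ (LinearMap.congr_fun hx φ)
  refine ⟨hinj, ?_⟩
  have hfinM : Module.length R M ≠ ⊤ := Module.length_ne_top
  have h1 : Module.length R (M →ₗ[R] E) = Module.length R M := length_hom_hull' f hf M
  have hfl1 : IsFiniteLength R (M →ₗ[R] E) := by
    rw [← Module.length_ne_top_iff, h1]; exact hfinM
  obtain ⟨hN1, hA1⟩ := isFiniteLength_iff_isNoetherian_isArtinian.1 hfl1
  haveI : Module.Finite R (M →ₗ[R] E) := inferInstance
  have h2 : Module.length R ((M →ₗ[R] E) →ₗ[R] E) = Module.length R M := by
    rw [length_hom_hull' f hf (M →ₗ[R] E), h1]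
  have hfl2 : IsFiniteLength R ((M →ₗ[R] E) →ₗ[R] E) := by
    rw [← Module.length_ne_top_iff, h2]; exact hfinM
  obtain ⟨hN2, hA2⟩ := isFiniteLength_iff_isNoetherian_isArtinian.1 hfl2
  rw [← LinearMap.range_eq_top]
  by_contra hne
  have hlt := Submodule.length_lt (R := R) hne
  have h3 : Module.length R (LinearMap.range
      (LinearMap.applyₗ : M →ₗ[R] (M →ₗ[R] E) →ₗ[R] E)) = Module.length R M :=
    (LinearEquiv.ofInjective _ hinj).length_eq.symm
  rw [h3, h2] at hlt
  exact lt_irrefl _ hlt

end artin

end Groth.Agent.Lib.InjHull3_helper3
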