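import Mathlib
import Groth.Prelude.Def_GrLC
import Groth.Prelude.Def_GrLC2
import Groth.Prelude.Def_Wider
import Groth.Agent.Lib.GorChar_helper7
import Groth.Agent.Lib.GorHull_helper7
import Groth.Agent.Lib.InjHull3_helper3
import Groth.Agent.Lib.BassShift_helper1

/-! Bass numbers of a Gorenstein local ring: `μ^j = δ_{j, dim}` (helper1; uses helper7's
characterisation of Gorenstein local rings through local cohomology). -/

set_option autoImplicit false

namespace Groth.Agent.Lib.GorBassH1

open CategoryTheory CategoryTheory.Limits IsLocalRing Abelian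
open Groth.Agent.Lib.LocCohLESH7 Groth.Agent.DepthLib Groth.Agent.Lib.InjHull_helper3 LocCoh
open Groth.Agent.Lib.LocCohDeltaZeroH7 Groth.Agent.Lib.GorCharH7

universe u

section general

variable {A : Type u} [CommRing A]

/-- postcomposition with a morphism, as a linear map on `Ext` -/
noncomputable def postL {K X Y : ModuleCat.{u} A} (f : X ⟶ Y) (j : ℕ) :
    Abelian.Ext.{u} K X j →ₗ[A] Abelian.Ext.{u} K Y j where
  toFun x := x.comp (Abelian.Ext.mk₀ f) (add_zero j)
  map_add' x y := Abelian.Ext.add_comp x y _ _
  map_smul' r x := Abelian.Ext.smul_comp x _ _ r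

theorem length_ext_congr {K X Y : ModuleCat.{u} A} (e : X ≅ Y) (j : ℕ) :
    Module.length A (Abelian.Ext.{u} K X j) = Module.length A (Abelian.Ext.{u} K Y j) := by
  refine LinearEquiv.length_eq (LinearEquiv.ofLinear (postL e.hom j) (postL e.inv j) ?_ ?_)
  · ext x
    change (x.comp (Abelian.Ext.mk₀ e.inv) (add_zero j)).comp (Abelian.Ext.mk₀ e.hom)
      (add_zero j) = x
    rw [Abelian.Ext.comp_assoc_of_third_deg_zero, Abelian.Ext.mk₀_comp_mk₀, e.inv_hom_id,
      Abelian.Ext.comp_mk₀_id]
  · ext x
    change (x.comp (Abelian.Ext.mk₀ e.hom) (add_zero j)).comp (Abelian.Ext.mk₀ e.inv)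
      (add_zero j) = x
    rw [Abelian.Ext.comp_assoc_of_third_deg_zero, Abelian.Ext.mk₀_comp_mk₀, e.hom_inv_id,
      Abelian.Ext.comp_mk₀_id]

end general

section local_

variable (A : Type u) [CommRing A] [IsLocalRing A] [IsNoetherianRing A]

/-- maps from the residue field land in the torsion part -/
theorem length_hom_gamma (M : Type u) [AddCommGroup M] [Module A M] :
    Module.length A (ResidueField A →ₗ[A] M) =
      Module.length A (ResidueField A →ₗ[A] ↥(Γ (maximalIdeal A) M)) := by
  symm
  refine LinearEquiv.length_eq (LinearEquiv.ofBijective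
    (LinearMap.compRight A (Γ (maximalIdeal A) M).subtype) ⟨?_, ?_⟩)
  · intro g₁ g₂ h
    ext x
    exact LinearMap.congr_fun h x
  · intro φ
    have hmem : ∀ x, φ x ∈ Γ (maximalIdeal A) M := by
      intro x
      rw [mem_Γ_iff]
      refine ⟨1, fun a ha => ?_⟩
      rw [pow_one] at ha
      rw [← φ.map_smul]
      have := residue_kill A a ha x
      rw [this, map_zero]
    refine ⟨LinearMap.codRestrict (Γ (maximalIdeal A) M) φ hmem, ?_⟩
    ext x
    rfl

theorem claim : ∀ (d : ℕ) (M : Type u) [AddCommGroup M] [Module A M],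
    (∀ i, i < d → Subsingleton (LocCoh.H (maximalIdeal A) i M)) →
    (∀ i, i < d → Subsingleton
      (Abelian.Ext.{u} (ModuleCat.of A (ResidueField A)) (ModuleCat.of A M) i)) ∧
    Module.length A (Abelian.Ext.{u} (ModuleCat.of A (ResidueField A)) (ModuleCat.of A M) d) =
      Module.length A (ResidueField A →ₗ[A] LocCoh.H (maximalIdeal A) d M) := by
  intro d
  induction d with
  | zero =>
    intro M _ _ _
    refine ⟨fun i hi => absurd hi (Nat.not_lt_zero i), ?_⟩
    obtain ⟨e0⟩ := H0_equiv' (maximalIdeal A) M
    rw [((Abelian.Ext.linearEquiv₀ (R := A)).trans ModuleCat.homLinearEquiv).length_eq]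
    change Module.length A (ResidueField A →ₗ[A] M) = _
    rw [length_hom_gamma A M]
    exact (LinearEquiv.arrowCongr (LinearEquiv.refl A (ResidueField A)) e0.symm).length_eq
  | succ d ih =>
    intro M _ _ hM
    obtain ⟨E, _, _, f, hf⟩ := Groth.Agent.Lib.InjHull6_helper3.exists_injective_hull (R := A) M
    have h0 : Subsingleton (LocCoh.H (maximalIdeal A) 0 M) := hM 0 (Nat.succ_pos d)
    have hΓM := Γ_zero_of_H0 (maximalIdeal A) M h0
    have hΓE := Γ_zero_of_essential (maximalIdeal A) f hf.toIsEssentialInj hΓM
    have hC : ∀ i, i < d → Subsingleton (LocCoh.H (maximalIdeal A) i (E ⧸ LinearMap.range f)) := by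
      intro i hi
      obtain ⟨e⟩ := hull_shift (maximalIdeal A) f hf h0 i
      haveI := hM (i + 1) (by omega)
      exact e.toEquiv.subsingleton
    obtain ⟨ihv, ihl⟩ := ih (E ⧸ LinearMap.range f) hC
    refine ⟨?_, ?_⟩
    · intro i hi
      rcases i with _ | i
      · exact ext_zero_subsingleton (maximalIdeal A) (ModuleCat.of A (ResidueField A))
          (residue_kill A) M hΓM
      · exact ext_shift (ModuleCat.of A (ResidueField A)) f hf i (ihv i (by omega))
    · have hS := shortComplexOf_shortExact f (LinearMap.range f).mkQ hf.injective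
        (Submodule.mkQ_surjective _) (LinearMap.exact_map_mkQ_range f)
      haveI := hf.isInjective
      haveI : Injective (shortComplexOf f (LinearMap.range f).mkQ
          (LinearMap.exact_map_mkQ_range f)).X₂ :=
        Module.injective_object_of_injective_module (R := A) (M := E)
      have hV : ∀ n : ℕ, Subsingleton (Abelian.Ext.{u} (ModuleCat.of A (ResidueField A))
          (shortComplexOf f (LinearMap.range f).mkQ (LinearMap.exact_map_mkQ_range f)).X₂
          (n + 1)) :=
        fun n => subsingleton_of_forall_eq 0 (fun x => Abelian.Ext.eq_zero_of_injective x)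
      have hφ0 : ∀ φ : ModuleCat.of A (ResidueField A) ⟶ ModuleCat.of A E, φ = 0 := by
        intro φ
        apply ModuleCat.hom_ext
        apply LinearMap.ext
        intro x
        have hx : φ.hom x ∈ Γ (maximalIdeal A) E := by
          rw [mem_Γ_iff]
          refine ⟨1, fun a ha => ?_⟩
          rw [pow_one] at ha
          rw [← map_smul, residue_kill A a ha x, map_zero]
        exact hΓE _ hx
      have h0' : ∀ φ : ModuleCat.of A (ResidueField A) ⟶
          (shortComplexOf f (LinearMap.range f).mkQ (LinearMap.exact_map_mkQ_range f)).X₂,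
          φ ≫ (shortComplexOf f (LinearMap.range f).mkQ
            (LinearMap.exact_map_mkQ_range f)).g = 0 := by
        intro φ
        have hφ : φ = 0 := hφ0 φ
        rw [hφ, zero_comp]
      have key := Groth.Agent.Lib.BassShiftH1.length_ext_shift hS
        (ModuleCat.of A (ResidueField A)) hV h0' d
      obtain ⟨e⟩ := hull_shift (maximalIdeal A) f hf h0 d
      have key' : Module.length A (Abelian.Ext.{u} (ModuleCat.of A (ResidueField A))
          (ModuleCat.of A M) (d + 1)) = Module.length A (Abelian.Ext.{u}
          (ModuleCat.of A (ResidueField A)) (ModuleCat.of A (E ⧸ LinearMap.range f)) d) := key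
      rw [key', ihl]
      exact (LinearEquiv.arrowCongr (LinearEquiv.refl A (ResidueField A)) e).length_eq

theorem bassNumLocal_gorenstein
    (hinj : ∃ N, HasInjectiveDimensionLT (ModuleCat.of A A) N) (n : ℕ)
    (hdim : ringKrullDim A = n) (j : ℕ) :
    GrLC.bassNumLocal A A j = if j = n then 1 else 0 := by
  obtain ⟨d, hd1, hd2⟩ := H_of_gorenstein A hinj
  obtain ⟨g, hg⟩ := Groth.Agent.Lib.GorHullH7.gorenstein_hull n A hinj hdim
  have hdn : d = n := by
    by_contra hne
    haveI := hd1 n (Ne.symm hne)
    have : g 1 = g 0 := Subsingleton.elim _ _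
    exact one_ne_zero (hg.injective this)
  subst hdn
  obtain ⟨hv, hl⟩ := claim A d A (fun i hi => hd1 i (ne_of_lt hi))
  unfold GrLC.bassNumLocal
  by_cases hj : j = d
  · rw [if_pos hj, hj, hl]
    exact Groth.Agent.Lib.InjHull3_helper3.length_hom_residueField g hg
  · rw [if_neg hj, Module.length_eq_zero_iff]
    rcases lt_or_gt_of_ne hj with h | h
    · exact hv j h
    · haveI := gorenstein_of_H A d hd1 hd2
      exact HasInjectiveDimensionLT.subsingleton (ModuleCat.of A A) (d + 1) j h _

end local_

theorem bassNum_gorenstein (R : Type u) [CommRing R] [LocCoh.IsGorensteinRing R] (p : Ideal R)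
    [p.IsPrime] (n : ℕ) (hn : p.height = n) (j : ℕ) :
    GrLC.bassNum p R j = if j = n then 1 else 0 := by
  haveI hG : LocCoh.IsGorensteinLocalRing (Localization.AtPrime p) :=
    LocCoh.IsGorensteinRing.isGorensteinLocalRing_localization p
  have hdim : ringKrullDim (Localization.AtPrime p) = n := by
    rw [IsLocalization.AtPrime.ringKrullDim_eq_height p (Localization.AtPrime p), hn]
    rfl
  rw [← bassNumLocal_gorenstein (Localization.AtPrime p) hG.exists_hasInjectiveDimensionLT n hdim j]
  unfold GrLC.bassNum GrLC.bassNumLocal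
  exact length_ext_congr
    ((IsLocalizedModule.iso p.primeCompl
      (Algebra.linearMap R (Localization.AtPrime p))).extendScalarsOfIsLocalization
      p.primeCompl (Localization.AtPrime p)).toModuleIso j

end Groth.Agent.Lib.GorBassH1
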