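import Mathlib
import Groth.Prelude.Def_GrLC
import Groth.Agent.Lib.GrStar4_helper1

/-! Graded local cohomology from *injective resolutions: chain maps, comparison theorem,
homotopy invariance (helper1). -/

set_option autoImplicit false

namespace Groth.Agent.Lib.GrLES1H1

open DirectSum GrLC Groth.Agent.Lib.GrStarH1 Groth.Agent.Lib.GrStar2H1

universe u

variable {ι : Type} [AddCommGroup ι] [DecidableEq ι]
variable {R : Type u} [CommRing R]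

section gam

variable {I : Ideal R} {A B : Type u} [AddCommGroup A] [Module R A] [AddCommGroup B] [Module R B]

theorem map_mem_gam (f : A →ₗ[R] B) {x : A} (hx : x ∈ gam I A) : f x ∈ gam I B := by
  obtain ⟨n, hn⟩ := hx
  exact ⟨n, fun r hr => by rw [← map_smul, hn r hr, map_zero]⟩

theorem mem_gam_of_injective (f : A →ₗ[R] B) (hf : Function.Injective f) {x : A}
    (hx : f x ∈ gam I B) : x ∈ gam I A := by
  obtain ⟨n, hn⟩ := hx
  exact ⟨n, fun r hr => hf (by rw [map_smul, hn r hr, map_zero])⟩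

end gam

section grhom

variable {A B C : Type u} [AddCommGroup A] [Module R A] [AddCommGroup B] [Module R B]
  [AddCommGroup C] [Module R C]
  (𝓐 : ι → AddSubgroup A) (𝓑 : ι → AddSubgroup B) (𝓒 : ι → AddSubgroup C)

theorem isGrHom_sub {f g : A →ₗ[R] B} (hf : IsGrHom 𝓐 𝓑 f) (hg : IsGrHom 𝓐 𝓑 g) :
    IsGrHom 𝓐 𝓑 (f - g) := fun k m hm => sub_mem (hf k m hm) (hg k m hm)

theorem isGrHom_add {f g : A →ₗ[R] B} (hf : IsGrHom 𝓐 𝓑 f) (hg : IsGrHom 𝓐 𝓑 g) :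
    IsGrHom 𝓐 𝓑 (f + g) := fun k m hm => add_mem (hf k m hm) (hg k m hm)

theorem isGrHom_neg {f : A →ₗ[R] B} (hf : IsGrHom 𝓐 𝓑 f) :
    IsGrHom 𝓐 𝓑 (-f) := fun k m hm => neg_mem (hf k m hm)

theorem isGrHom_comp {f : A →ₗ[R] B} {g : B →ₗ[R] C} (hg : IsGrHom 𝓑 𝓒 g)
    (hf : IsGrHom 𝓐 𝓑 f) : IsGrHom 𝓐 𝓒 (g ∘ₗ f) := fun k m hm => hg k _ (hf k m hm)

theorem mem_congr {k k' : ι} (h : k = k') {x : A} (hx : x ∈ 𝓐 k) : x ∈ 𝓐 k' := h ▸ hx

end grhom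

variable (𝒜 : ι → AddSubgroup R) [GradedRing 𝒜]

/-- extension through a graded map, into a *injective module -/
theorem ext_through {A B Q : Type u} [AddCommGroup A] [Module R A] [AddCommGroup B] [Module R B]
    [AddCommGroup Q] [Module R Q]
    (𝓐 : ι → AddSubgroup A) [Decomposition 𝓐] [SetLike.GradedSMul 𝒜 𝓐]
    (𝓑 : ι → AddSubgroup B) [Decomposition 𝓑] [SetLike.GradedSMul 𝒜 𝓑]
    (𝓠 : ι → AddSubgroup Q) [Decomposition 𝓠] [SetLike.GradedSMul 𝒜 𝓠] (hQ : IsStarInj 𝒜 𝓠)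
    (p : A →ₗ[R] B) (hp : IsGrHom 𝓐 𝓑 p) (g : A →ₗ[R] Q) (hg : IsGrHom 𝓐 𝓠 g)
    (hker : LinearMap.ker p ≤ LinearMap.ker g) :
    ∃ h : B →ₗ[R] Q, IsGrHom 𝓑 𝓠 h ∧ ∀ x, h (p x) = g x := by
  have hK : (LinearMap.ker p).IsHomogeneous 𝓐 := ker_isHomogeneous 𝓐 𝓑 hp
  letI := quotDecomp 𝓐 (LinearMap.ker p) hK
  haveI := quot_gsmul 𝒜 𝓐 (LinearMap.ker p)
  let f : (A ⧸ LinearMap.ker p) →ₗ[R] B := (LinearMap.ker p).liftQ p le_rfl
  let g' : (A ⧸ LinearMap.ker p) →ₗ[R] Q := (LinearMap.ker p).liftQ g hker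
  have hf : IsGrHom (quotGr 𝓐 (LinearMap.ker p)) 𝓑 f := by
    rintro k _ ⟨m, hm, rfl⟩
    exact hp k m hm
  have hg' : IsGrHom (quotGr 𝓐 (LinearMap.ker p)) 𝓠 g' := by
    rintro k _ ⟨m, hm, rfl⟩
    exact hg k m hm
  have hfinj : Function.Injective f := by
    rw [← LinearMap.ker_eq_bot]
    exact Submodule.ker_liftQ_eq_bot _ _ _ le_rfl
  obtain ⟨h, hh, hhf⟩ := starInj_ext 𝒜 (quotGr 𝓐 (LinearMap.ker p)) 𝓑 hQ f hf hfinj g' hg'
  refine ⟨h, hh, fun x => ?_⟩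
  exact LinearMap.congr_fun hhf ((LinearMap.ker p).mkQ x)

variable {𝒜}

section res

variable {M : Type u} [AddCommGroup M] [Module R M] {ℳ : ι → AddSubgroup M} [Decomposition ℳ]
  [SetLike.GradedSMul 𝒜 ℳ]

theorem d_d (E : StarInjRes 𝒜 ℳ) (n : ℕ) (x : (E.X n).carrier) : E.d (n + 1) (E.d n x) = 0 := by
  have : E.d n x ∈ LinearMap.ker (E.d (n + 1)) := by
    rw [E.exact_succ]
    exact ⟨x, rfl⟩
  exact this

theorem d_ε (E : StarInjRes 𝒜 ℳ) (m : M) : E.d 0 (E.ε m) = 0 := by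
  have : E.ε m ∈ LinearMap.ker (E.d 0) := by
    rw [E.exact_zero]
    exact ⟨m, rfl⟩
  exact this

theorem exists_of_d_zero (E : StarInjRes 𝒜 ℳ) (x : (E.X 0).carrier) (h : E.d 0 x = 0) :
    ∃ m, E.ε m = x := by
  have : x ∈ LinearMap.ker (E.d 0) := h
  rw [E.exact_zero] at this
  exact this

theorem exists_of_d_succ (E : StarInjRes 𝒜 ℳ) (n : ℕ) (x : (E.X (n + 1)).carrier)
    (h : E.d (n + 1) x = 0) : ∃ y, E.d n y = x := by
  have : x ∈ LinearMap.ker (E.d (n + 1)) := h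
  rw [E.exact_succ] at this
  exact this

variable (a : HomogeneousIdeal 𝒜)

theorem mem_cobdy_succ (E : StarInjRes 𝒜 ℳ) (n : ℕ) (z : (E.X (n + 1)).carrier) :
    z ∈ E.cobdy a (n + 1) ↔ ∃ w ∈ gam a.toIdeal (E.X n).carrier, E.d n w = z := Iff.rfl

theorem mem_cobdy_zero (E : StarInjRes 𝒜 ℳ) (z : (E.X 0).carrier) :
    z ∈ E.cobdy a 0 ↔ z = 0 := Iff.rfl

theorem d_cobdy (E : StarInjRes 𝒜 ℳ) (i : ℕ) (z : (E.X i).carrier) (hz : z ∈ E.cobdy a i) :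
    E.d i z = 0 := by
  cases i with
  | zero =>
    rw [(mem_cobdy_zero a E z).1 hz, map_zero]
  | succ n =>
    obtain ⟨w, _, rfl⟩ := (mem_cobdy_succ a E n z).1 hz
    exact d_d E n w

theorem cobdy_le_gam (E : StarInjRes 𝒜 ℳ) (i : ℕ) (z : (E.X i).carrier) (hz : z ∈ E.cobdy a i) :
    z ∈ gam a.toIdeal (E.X i).carrier := by
  cases i with
  | zero =>
    rw [(mem_cobdy_zero a E z).1 hz]
    exact Submodule.zero_mem _
  | succ n =>
    obtain ⟨w, hw, rfl⟩ := (mem_cobdy_succ a E n z).1 hz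
    exact map_mem_gam _ hw

theorem toH_eq_zero_iff (E : StarInjRes 𝒜 ℳ) (i : ℕ) (z : ↥(E.cocyc a i)) :
    E.toH a i z = 0 ↔ (z : (E.X i).carrier) ∈ E.cobdy a i := by
  rw [Submodule.mkQ_apply, Submodule.Quotient.mk_eq_zero]
  rfl

theorem toH_surjective (E : StarInjRes 𝒜 ℳ) (i : ℕ) : Function.Surjective (E.toH a i) :=
  Submodule.mkQ_surjective _

/-- build a cocycle -/
def mkZ (E : StarInjRes 𝒜 ℳ) (i : ℕ) (z : (E.X i).carrier)
    (h1 : z ∈ gam a.toIdeal (E.X i).carrier) (h2 : E.d i z = 0) : ↥(E.cocyc a i) :=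
  ⟨z, ⟨h1, h2⟩⟩

theorem mem_Hgr_iff (E : StarInjRes 𝒜 ℳ) (i : ℕ) (g : ι) (x : E.H a i) :
    x ∈ E.Hgr a i g ↔
      ∃ z : ↥(E.cocyc a i), (z : (E.X i).carrier) ∈ (E.X i).gr g ∧ E.toH a i z = x := Iff.rfl

end res

/-! ### chain maps -/

section cmap

variable {M : Type u} [AddCommGroup M] [Module R M] {ℳ : ι → AddSubgroup M} [Decomposition ℳ]
  [SetLike.GradedSMul 𝒜 ℳ]
variable {N : Type u} [AddCommGroup N] [Module R N] {𝒩 : ι → AddSubgroup N} [Decomposition 𝒩]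
  [SetLike.GradedSMul 𝒜 𝒩]
variable {L : Type u} [AddCommGroup L] [Module R L] {𝓛 : ι → AddSubgroup L} [Decomposition 𝓛]
  [SetLike.GradedSMul 𝒜 𝓛]

/-- a graded chain map between *injective resolutions -/
structure CMap (E : StarInjRes 𝒜 ℳ) (F : StarInjRes 𝒜 𝒩) where
  f : ∀ n : ℕ, (E.X n).carrier →ₗ[R] (F.X n).carrier
  gr : ∀ n : ℕ, IsGrHom (E.X n).gr (F.X n).gr (f n)
  comm : ∀ (n : ℕ) (x : (E.X n).carrier), f (n + 1) (E.d n x) = F.d n (f n x)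

namespace CMap

variable {E : StarInjRes 𝒜 ℳ} {F : StarInjRes 𝒜 𝒩} {G : StarInjRes 𝒜 𝓛}
variable (φ : CMap E F) (a : HomogeneousIdeal 𝒜)

/-- the map on cocycles -/
def Z (i : ℕ) : ↥(E.cocyc a i) →ₗ[R] ↥(F.cocyc a i) :=
  (φ.f i).restrict (p := E.cocyc a i) (q := F.cocyc a i) (fun z hz =>
    ⟨map_mem_gam (φ.f i) hz.1, by
      have h2 : E.d i z = 0 := hz.2
      show F.d i (φ.f i z) = 0
      rw [← φ.comm, h2, map_zero]⟩)

theorem Z_coe (i : ℕ) (z : ↥(E.cocyc a i)) :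
    ((φ.Z a i z : ↥(F.cocyc a i)) : (F.X i).carrier) = φ.f i z := rfl

theorem map_cobdy (i : ℕ) (z : (E.X i).carrier) (hz : z ∈ E.cobdy a i) :
    φ.f i z ∈ F.cobdy a i := by
  cases i with
  | zero =>
    rw [(mem_cobdy_zero a E z).1 hz, map_zero]
    exact Submodule.zero_mem _
  | succ n =>
    obtain ⟨w, hw, rfl⟩ := (mem_cobdy_succ a E n z).1 hz
    exact (mem_cobdy_succ a F n _).2 ⟨φ.f n w, map_mem_gam _ hw, (φ.comm n w).symm⟩

/-- the induced map on graded local cohomology -/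
def H (i : ℕ) : E.H a i →ₗ[R] F.H a i :=
  Submodule.mapQ _ _ (φ.Z a i) (fun z hz => φ.map_cobdy a i z hz)

theorem H_toH (i : ℕ) (z : ↥(E.cocyc a i)) :
    φ.H a i (E.toH a i z) = F.toH a i (φ.Z a i z) := rfl

theorem H_gr (i : ℕ) : IsGrHom (E.Hgr a i) (F.Hgr a i) (φ.H a i) := by
  rintro g _ ⟨z, hz, rfl⟩
  exact ⟨φ.Z a i z, φ.gr i g _ hz, rfl⟩

/-- identity chain map -/
def id (E : StarInjRes 𝒜 ℳ) : CMap E E where
  f := fun _ => LinearMap.id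
  gr := fun _ _ _ h => h
  comm := fun _ _ => rfl

/-- composition of chain maps -/
def comp (ψ : CMap F G) (φ : CMap E F) : CMap E G where
  f := fun n => ψ.f n ∘ₗ φ.f n
  gr := fun n k m hm => ψ.gr n k _ (φ.gr n k m hm)
  comm := fun n x => by
    rw [LinearMap.comp_apply, LinearMap.comp_apply, φ.comm, ψ.comm]

theorem H_id (i : ℕ) : (CMap.id E).H a i = LinearMap.id := by
  apply LinearMap.ext
  intro y
  obtain ⟨z, rfl⟩ := toH_surjective a E i y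
  rw [H_toH, LinearMap.id_apply]
  congr 1

theorem H_comp (ψ : CMap F G) (i : ℕ) : (ψ.comp φ).H a i = ψ.H a i ∘ₗ φ.H a i := by
  apply LinearMap.ext
  intro y
  obtain ⟨z, rfl⟩ := toH_surjective a E i y
  rw [LinearMap.comp_apply, H_toH, H_toH, H_toH]
  congr 1

end CMap

/-- a chain homotopy -/
structure Htpy {E : StarInjRes 𝒜 ℳ} {F : StarInjRes 𝒜 𝒩} (φ ψ : CMap E F) where
  s : ∀ n : ℕ, (E.X (n + 1)).carrier →ₗ[R] (F.X n).carrier
  zero : ∀ x : (E.X 0).carrier, φ.f 0 x - ψ.f 0 x = s 0 (E.d 0 x)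
  succ : ∀ (n : ℕ) (x : (E.X (n + 1)).carrier),
    φ.f (n + 1) x - ψ.f (n + 1) x = F.d n (s n x) + s (n + 1) (E.d (n + 1) x)

theorem H_eq_of_htpy {E : StarInjRes 𝒜 ℳ} {F : StarInjRes 𝒜 𝒩} {φ ψ : CMap E F}
    (h : Htpy φ ψ) (a : HomogeneousIdeal 𝒜) (i : ℕ) : φ.H a i = ψ.H a i := by
  apply LinearMap.ext
  intro y
  obtain ⟨z, rfl⟩ := toH_surjective a E i y
  rw [CMap.H_toH, CMap.H_toH, ← sub_eq_zero, ← map_sub, toH_eq_zero_iff]
  show φ.f i z - ψ.f i z ∈ F.cobdy a i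
  cases i with
  | zero =>
    have hz : E.d 0 z = 0 := z.2.2
    rw [h.zero, hz, map_zero]
    exact Submodule.zero_mem _
  | succ n =>
    have hz : E.d (n + 1) z = 0 := z.2.2
    rw [h.succ, hz, map_zero, add_zero]
    exact (mem_cobdy_succ a F n _).2 ⟨h.s n z, map_mem_gam _ z.2.1, rfl⟩

/-! ### existence of lifts -/

section lift

variable (E : StarInjRes 𝒜 ℳ) (F : StarInjRes 𝒜 𝒩)

/-- the invariant carried along the construction of a lift -/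
def LiftP (n : ℕ) (f : (E.X n).carrier →ₗ[R] (F.X n).carrier) : Prop :=
  IsGrHom (E.X n).gr (F.X n).gr f ∧ ∀ x, E.d n x = 0 → F.d n (f x) = 0

theorem lift_zero (u : M →ₗ[R] N) (hu : IsGrHom ℳ 𝒩 u) :
    ∃ f, LiftP E F 0 f ∧ ∀ m, f (E.ε m) = F.ε (u m) := by
  have hgr : IsGrHom ℳ (F.X 0).gr (F.ε ∘ₗ u) := fun k m hm => F.ε_grHom k _ (hu k m hm)
  have hker : LinearMap.ker E.ε ≤ LinearMap.ker (F.ε ∘ₗ u) := by
    intro m hm
    have : m = 0 := E.ε_injective (by rw [LinearMap.mem_ker.1 hm, map_zero])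
    rw [this]
    exact Submodule.zero_mem _
  obtain ⟨h, hh, hspec⟩ := ext_through 𝒜 ℳ (E.X 0).gr (F.X 0).gr (F.starInj 0) E.ε E.ε_grHom
    (F.ε ∘ₗ u) hgr hker
  refine ⟨h, ⟨hh, fun x hx => ?_⟩, hspec⟩
  obtain ⟨m, rfl⟩ := exists_of_d_zero E x hx
  rw [hspec, LinearMap.comp_apply, d_ε]

theorem lift_succ (n : ℕ) (f : (E.X n).carrier →ₗ[R] (F.X n).carrier) (hf : LiftP E F n f) :
    ∃ f', LiftP E F (n + 1) f' ∧ ∀ x, f' (E.d n x) = F.d n (f x) := by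
  have hgr : IsGrHom (E.X n).gr (F.X (n + 1)).gr (F.d n ∘ₗ f) :=
    fun k m hm => F.d_grHom n k _ (hf.1 k m hm)
  have hker : LinearMap.ker (E.d n) ≤ LinearMap.ker (F.d n ∘ₗ f) :=
    fun x hx => hf.2 x hx
  obtain ⟨h, hh, hspec⟩ := ext_through 𝒜 (E.X n).gr (E.X (n + 1)).gr (F.X (n + 1)).gr
    (F.starInj (n + 1)) (E.d n) (E.d_grHom n) (F.d n ∘ₗ f) hgr hker
  refine ⟨h, ⟨hh, fun x hx => ?_⟩, hspec⟩
  obtain ⟨y, rfl⟩ := exists_of_d_succ E n x hx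
  rw [hspec, LinearMap.comp_apply, d_d]

/-- the recursively constructed lift -/
noncomputable def liftSeq (u : M →ₗ[R] N) (hu : IsGrHom ℳ 𝒩 u) :
    (n : ℕ) → {f : (E.X n).carrier →ₗ[R] (F.X n).carrier // LiftP E F n f}
  | 0 => ⟨(lift_zero E F u hu).choose, (lift_zero E F u hu).choose_spec.1⟩
  | n + 1 => ⟨(lift_succ E F n (liftSeq u hu n).1 (liftSeq u hu n).2).choose,
      (lift_succ E F n (liftSeq u hu n).1 (liftSeq u hu n).2).choose_spec.1⟩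

theorem exists_lift (u : M →ₗ[R] N) (hu : IsGrHom ℳ 𝒩 u) :
    ∃ φ : CMap E F, ∀ m, φ.f 0 (E.ε m) = F.ε (u m) :=
  ⟨⟨fun n => (liftSeq E F u hu n).1, fun n => (liftSeq E F u hu n).2.1,
    fun n x => (lift_succ E F n (liftSeq E F u hu n).1 (liftSeq E F u hu n).2).choose_spec.2 x⟩,
    (lift_zero E F u hu).choose_spec.2⟩

end lift

/-! ### uniqueness up to homotopy -/

section htpy

variable {E : StarInjRes 𝒜 ℳ} {F : StarInjRes 𝒜 𝒩} (φ ψ : CMap E F)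

/-- the invariant carried along the construction of a homotopy -/
def HtpyP (n : ℕ) (s : (E.X (n + 1)).carrier →ₗ[R] (F.X n).carrier) : Prop :=
  IsGrHom (E.X (n + 1)).gr (F.X n).gr s ∧
    ∀ x, F.d n (s (E.d n x)) = F.d n (φ.f n x - ψ.f n x)

theorem htpy_zero (h0 : ∀ m, φ.f 0 (E.ε m) = ψ.f 0 (E.ε m)) :
    ∃ s, HtpyP φ ψ 0 s ∧ ∀ x, s (E.d 0 x) = φ.f 0 x - ψ.f 0 x := by
  have hgr : IsGrHom (E.X 0).gr (F.X 0).gr (φ.f 0 - ψ.f 0) :=
    isGrHom_sub _ _ (φ.gr 0) (ψ.gr 0)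
  have hker : LinearMap.ker (E.d 0) ≤ LinearMap.ker (φ.f 0 - ψ.f 0) := by
    intro x hx
    obtain ⟨m, rfl⟩ := exists_of_d_zero E x hx
    rw [LinearMap.mem_ker, LinearMap.sub_apply, h0, sub_self]
  obtain ⟨s, hs, hspec⟩ := ext_through 𝒜 (E.X 0).gr (E.X 1).gr (F.X 0).gr (F.starInj 0)
    (E.d 0) (E.d_grHom 0) (φ.f 0 - ψ.f 0) hgr hker
  refine ⟨s, ⟨hs, fun x => ?_⟩, fun x => ?_⟩
  · rw [hspec, LinearMap.sub_apply]
  · rw [hspec, LinearMap.sub_apply]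

theorem htpy_succ (n : ℕ) (s : (E.X (n + 1)).carrier →ₗ[R] (F.X n).carrier)
    (hs : HtpyP φ ψ n s) :
    ∃ s', HtpyP φ ψ (n + 1) s' ∧
      ∀ x, s' (E.d (n + 1) x) = φ.f (n + 1) x - ψ.f (n + 1) x - F.d n (s x) := by
  have hgr : IsGrHom (E.X (n + 1)).gr (F.X (n + 1)).gr (φ.f (n + 1) - ψ.f (n + 1) - F.d n ∘ₗ s) :=
    isGrHom_sub _ _ (isGrHom_sub _ _ (φ.gr (n + 1)) (ψ.gr (n + 1)))
      (isGrHom_comp _ _ _ (F.d_grHom n) hs.1)
  have hker : LinearMap.ker (E.d (n + 1)) ≤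
      LinearMap.ker (φ.f (n + 1) - ψ.f (n + 1) - F.d n ∘ₗ s) := by
    intro x hx
    obtain ⟨y, rfl⟩ := exists_of_d_succ E n x hx
    rw [LinearMap.mem_ker, LinearMap.sub_apply, LinearMap.sub_apply, LinearMap.comp_apply,
      φ.comm, ψ.comm, hs.2, map_sub, sub_self]
  obtain ⟨s', hs', hspec⟩ := ext_through 𝒜 (E.X (n + 1)).gr (E.X (n + 2)).gr (F.X (n + 1)).gr
    (F.starInj (n + 1)) (E.d (n + 1)) (E.d_grHom (n + 1))
    (φ.f (n + 1) - ψ.f (n + 1) - F.d n ∘ₗ s) hgr hker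
  refine ⟨s', ⟨hs', fun x => ?_⟩, fun x => ?_⟩
  · rw [hspec, LinearMap.sub_apply, LinearMap.sub_apply, LinearMap.comp_apply, map_sub, d_d,
      sub_zero]
  · rw [hspec, LinearMap.sub_apply, LinearMap.sub_apply, LinearMap.comp_apply]

/-- the recursively constructed homotopy -/
noncomputable def htpySeq (h0 : ∀ m, φ.f 0 (E.ε m) = ψ.f 0 (E.ε m)) :
    (n : ℕ) → {s : (E.X (n + 1)).carrier →ₗ[R] (F.X n).carrier // HtpyP φ ψ n s}
  | 0 => ⟨(htpy_zero φ ψ h0).choose, (htpy_zero φ ψ h0).choose_spec.1⟩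
  | n + 1 => ⟨(htpy_succ φ ψ n (htpySeq h0 n).1 (htpySeq h0 n).2).choose,
      (htpy_succ φ ψ n (htpySeq h0 n).1 (htpySeq h0 n).2).choose_spec.1⟩

theorem exists_htpy (h0 : ∀ m, φ.f 0 (E.ε m) = ψ.f 0 (E.ε m)) : Nonempty (Htpy φ ψ) := by
  refine ⟨⟨fun n => (htpySeq φ ψ h0 n).1, fun x => ?_, fun n x => ?_⟩⟩
  · exact ((htpy_zero φ ψ h0).choose_spec.2 x).symm
  · have := (htpy_succ φ ψ n (htpySeq φ ψ h0 n).1 (htpySeq φ ψ h0 n).2).choose_spec.2 x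
    show φ.f (n + 1) x - ψ.f (n + 1) x = F.d n ((htpySeq φ ψ h0 n).1 x) +
      (htpy_succ φ ψ n (htpySeq φ ψ h0 n).1 (htpySeq φ ψ h0 n).2).choose (E.d (n + 1) x)
    rw [this]
    abel

/-- two lifts of the same map induce the same map on graded local cohomology -/
theorem H_unique (h0 : ∀ m, φ.f 0 (E.ε m) = ψ.f 0 (E.ε m)) (a : HomogeneousIdeal 𝒜) (i : ℕ) :
    φ.H a i = ψ.H a i := by
  obtain ⟨h⟩ := exists_htpy φ ψ h0
  exact H_eq_of_htpy h a i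

end htpy

/-- comparison of two resolutions of the same module -/
theorem H_comp_eq_id (E E₂ : StarInjRes 𝒜 ℳ) (c : CMap E E₂) (c' : CMap E₂ E)
    (hc : ∀ m, c.f 0 (E.ε m) = E₂.ε m) (hc' : ∀ m, c'.f 0 (E₂.ε m) = E.ε m)
    (a : HomogeneousIdeal 𝒜) (i : ℕ) : c'.H a i ∘ₗ c.H a i = LinearMap.id := by
  rw [← CMap.H_comp, ← CMap.H_id]
  apply H_unique
  intro m
  show c'.f 0 (c.f 0 (E.ε m)) = E.ε m
  rw [hc, hc']

end cmap

/-- exactness of graded maps restricts to pieces -/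
theorem piece_exact {X Y Z : Type u} [AddCommGroup X] [Module R X] [AddCommGroup Y] [Module R Y]
    [AddCommGroup Z] [Module R Z] (𝒳 : ι → AddSubgroup X) [Decomposition 𝒳]
    (𝒴 : ι → AddSubgroup Y) [Decomposition 𝒴] (f : X →ₗ[R] Y) (g : Y →ₗ[R] Z)
    (hf : IsGrHom 𝒳 𝒴 f) (h : LinearMap.ker g = LinearMap.range f) {k : ι} {y : Y}
    (hy : y ∈ 𝒴 k) (hgy : g y = 0) : ∃ x ∈ 𝒳 k, f x = y := by
  have hy' : y ∈ LinearMap.range f := by
    rw [← h]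
    exact hgy
  obtain ⟨x, rfl⟩ := hy'
  refine ⟨(decompose 𝒳 x k : X), (decompose 𝒳 x k).2, ?_⟩
  rw [← decompose_map 𝒳 𝒴 hf, decompose_of_mem_same 𝒴 hy]

end Groth.Agent.Lib.GrLES1H1
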