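import Mathlib
import Groth.Prelude.Def_GrLC
import Groth.Agent.Lib.GrStar_helper1

/-! graded modules over `k[T,T⁻¹]` have homogeneous bases (helper1). -/

set_option autoImplicit false

namespace Groth.Agent.Lib.GrLaurentH1

open DirectSum GrLC

universe u

theorem coe_decompose_sum {ι : Type} [AddCommGroup ι] [DecidableEq ι]
    {M : Type u} [AddCommGroup M] (ℳ : ι → AddSubgroup M) [Decomposition ℳ]
    {κ : Type*} (s : Finset κ) (f : κ → M) (N : ι) :
    (decompose ℳ (∑ i ∈ s, f i) N : M) = ∑ i ∈ s, (decompose ℳ (f i) N : M) := by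
  classical
  induction s using Finset.induction_on with
  | empty => simp
  | insert a s ha ih =>
    rw [Finset.sum_insert ha, Finset.sum_insert ha, decompose_add, DirectSum.add_apply,
      AddSubgroup.coe_add, ih]

theorem main20022 (R : Type u) [CommRing R]
    (𝒜 : ℤ → AddSubgroup R) [GradedRing 𝒜] (h0 : IsField (GrLC.deg0 𝒜))
    (d : ℤ) (hd : 0 < d) (T : Rˣ) (hT : (T : R) ∈ 𝒜 d)
    (hA : ∀ (n : ℤ) (x : R), x ∈ 𝒜 n → x ≠ 0 →
      ∃ j : ℤ, ∃ a ∈ 𝒜 0, j * d = n ∧ x = a * ((T ^ j : Rˣ) : R))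
    (M : Type u) [AddCommGroup M] [Module R M] (ℳ : ℤ → AddSubgroup M)
    [DirectSum.Decomposition ℳ] [SetLike.GradedSMul 𝒜 ℳ] :
    ∃ (κ : Type u) (b : Module.Basis κ R M), ∀ i : κ, SetLike.IsHomogeneousElem ℳ (b i) := by
  classical
  letI : Field (deg0 𝒜) := h0.toField
  have hTinv : ((T⁻¹ : Rˣ) : R) ∈ 𝒜 (-d) := by
    have h1 := coe_decompose_mul_add_of_right_mem 𝒜 (i := -d) (a := ((T⁻¹ : Rˣ) : R)) hT
    rw [Units.inv_mul, neg_add_cancel, decompose_of_mem_same 𝒜 SetLike.GradedOne.one_mem] at h1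
    have h2 : ((decompose 𝒜 ((T⁻¹ : Rˣ) : R) (-d) : 𝒜 (-d)) : R) = ((T⁻¹ : Rˣ) : R) :=
      Units.eq_inv_of_mul_eq_one_left (by rw [mul_comm]; exact h1.symm)
    rw [← h2]; exact (decompose 𝒜 _ (-d)).2
  have hTpow : ∀ j : ℤ, ((T ^ j : Rˣ) : R) ∈ 𝒜 (j * d) := by
    intro j
    obtain ⟨n, rfl | rfl⟩ := Int.eq_nat_or_neg j
    · rw [zpow_natCast, Units.val_pow_eq_pow_val]
      have := SetLike.pow_mem_graded n hT
      rwa [nsmul_eq_mul] at this
    · rw [zpow_neg, zpow_natCast, ← inv_pow, Units.val_pow_eq_pow_val]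
      have := SetLike.pow_mem_graded n hTinv
      rwa [nsmul_eq_mul, mul_neg, ← neg_mul] at this
  have hdiv : ∀ (n : ℤ) (x : R), x ∈ 𝒜 n → x ≠ 0 → ∃ j : ℤ, n = d * j := by
    intro n x hx hx0
    obtain ⟨j, a, _, hj, _⟩ := hA n x hx hx0
    exact ⟨j, by rw [← hj, mul_comm]⟩
  let Idx := {r : ℤ // 0 ≤ r ∧ r < d}
  let B : Idx → Type u := fun r => Module.Free.ChooseBasisIndex (deg0 𝒜) (comp 𝒜 ℳ r.1)
  let e : ∀ r : Idx, Module.Basis (B r) (deg0 𝒜) (comp 𝒜 ℳ r.1) :=
    fun r => Module.Free.chooseBasis _ _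
  let κ := Σ r : Idx, B r
  let v : κ → M := fun i => ((e i.1 i.2 : comp 𝒜 ℳ i.1.1) : M)
  have hv : ∀ i : κ, v i ∈ ℳ i.1.1 := fun i => (e i.1 i.2).2
  have hli : LinearIndependent R v := by
    rw [linearIndependent_iff']
    intro s g hsum i₀ hi₀
    by_contra hne
    obtain ⟨n₀, hn₀⟩ := GrStarH1.exists_decompose_ne_zero 𝒜 hne
    obtain ⟨j₀, hj₀⟩ := hdiv n₀ _ (decompose 𝒜 (g i₀) n₀).2 hn₀
    rcases i₀ with ⟨r₀, β₀⟩
    obtain ⟨N, hN⟩ : ∃ N : ℤ, N = n₀ + r₀.1 := ⟨_, rfl⟩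
    have hcomp : ∑ i ∈ s, ((decompose 𝒜 (g i) (N - i.1.1) : R)) • v i = 0 := by
      have h1 : (decompose ℳ (∑ i ∈ s, g i • v i) N : M) = 0 := by
        rw [hsum, decompose_zero]; rfl
      rw [coe_decompose_sum] at h1
      rw [← h1]
      exact Finset.sum_congr rfl
        (fun i _ => (GrStarH1.decompose_smul_of_mem 𝒜 ℳ (hv i) (g i) N).symm)
    have hzero : ∀ i ∈ s, i ∉ Set.range (Sigma.mk r₀ : B r₀ → κ) →
        ((decompose 𝒜 (g i) (N - i.1.1) : R)) • v i = 0 := by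
      intro i _ hi
      have : (decompose 𝒜 (g i) (N - i.1.1) : R) = 0 := by
        by_contra h
        obtain ⟨j, hj⟩ := hdiv _ _ (decompose 𝒜 (g i) (N - i.1.1)).2 h
        apply hi
        have hr : i.1 = r₀ := by
          apply Subtype.ext
          have hdvd : d ∣ (r₀.1 - i.1.1) := ⟨j - j₀, by rw [mul_sub, ← hj, ← hj₀, hN]; ring⟩
          have habs : |r₀.1 - i.1.1| < d := by
            rw [abs_lt]
            have h1 := i.1.2.1; have h2 := i.1.2.2; have h3 := r₀.2.1; have h4 := r₀.2.2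
            constructor <;> linarith
          have := Int.eq_zero_of_abs_lt_dvd hdvd habs
          linarith
        rcases i with ⟨r, β⟩
        simp only at hr
        subst hr
        exact ⟨β, rfl⟩
      rw [this, zero_smul]
    have hfib := Finset.sum_preimage (Sigma.mk r₀ : B r₀ → κ) s (sigma_mk_injective.injOn)
      (fun i => ((decompose 𝒜 (g i) (N - i.1.1) : R)) • v i) hzero
    rw [hcomp] at hfib
    have hNr : N - r₀.1 = n₀ := by rw [hN]; ring
    have hfib' : ∑ β ∈ s.preimage (Sigma.mk r₀ : B r₀ → κ) (sigma_mk_injective.injOn),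
        ((decompose 𝒜 (g ⟨r₀, β⟩) n₀ : R)) • v ⟨r₀, β⟩ = 0 := by
      rw [← hNr]; exact hfib
    have hamem : ∀ β : B r₀, ((T ^ (-j₀) : Rˣ) : R) * (decompose 𝒜 (g ⟨r₀, β⟩) n₀ : R) ∈ 𝒜 0 := by
      intro β
      have := SetLike.mul_mem_graded (hTpow (-j₀)) (decompose 𝒜 (g ⟨r₀, β⟩) n₀).2
      rwa [show -j₀ * d + n₀ = 0 by rw [hj₀]; ring] at this
    let a : B r₀ → deg0 𝒜 := fun β => ⟨_, hamem β⟩
    have hk : ∑ β ∈ s.preimage (Sigma.mk r₀ : B r₀ → κ) (sigma_mk_injective.injOn),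
        a β • (e r₀ β) = 0 := by
      apply Subtype.ext
      rw [Submodule.coe_sum, Submodule.coe_zero]
      have : ∀ β ∈ s.preimage (Sigma.mk r₀ : B r₀ → κ) (sigma_mk_injective.injOn),
          ((a β • e r₀ β : comp 𝒜 ℳ r₀.1) : M) = ((T ^ (-j₀) : Rˣ) : R) •
            ((decompose 𝒜 (g ⟨r₀, β⟩) n₀ : R) • v ⟨r₀, β⟩) := by
        intro β _
        rw [Submodule.coe_smul, Subring.smul_def, smul_smul]
      rw [Finset.sum_congr rfl this, ← Finset.smul_sum, hfib', smul_zero]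
    have ha0 := linearIndependent_iff'.mp (e r₀).linearIndependent _ a hk β₀
      (Finset.mem_preimage.mpr hi₀)
    have ha0' : ((T ^ (-j₀) : Rˣ) : R) * (decompose 𝒜 (g ⟨r₀, β₀⟩) n₀ : R) = 0 :=
      congrArg Subtype.val ha0
    exact hn₀ ((Units.mul_right_eq_zero _).mp ha0')
  have hsp : ⊤ ≤ Submodule.span R (Set.range v) := by
    intro m hm
    clear hm
    induction m using DirectSum.Decomposition.inductionOn ℳ with
    | zero => exact zero_mem _
    | @homogeneous N m =>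
      let r₀ : Idx := ⟨N % d, Int.emod_nonneg N (ne_of_gt hd), Int.emod_lt_of_pos N hd⟩
      have hm' : ((T ^ (-(N / d)) : Rˣ) : R) • (m : M) ∈ ℳ r₀.1 := by
        have := GrStarH1.smul_mem_gr 𝒜 ℳ (hTpow (-(N / d))) m.2
        have e : -(N / d) * d + N = N % d := by
          have := Int.emod_add_ediv_mul N d
          linarith
        rwa [e] at this
      have hW : ∀ x : comp 𝒜 ℳ r₀.1, (x : M) ∈ Submodule.span R (Set.range v) := by
        intro x
        have hx : x ∈ Submodule.span (deg0 𝒜) (Set.range (e r₀)) := by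
          rw [(e r₀).span_eq]; trivial
        induction hx using Submodule.span_induction with
        | mem y hy => obtain ⟨β, rfl⟩ := hy; exact Submodule.subset_span ⟨⟨r₀, β⟩, rfl⟩
        | zero => exact zero_mem _
        | add y z _ _ hy hz => rw [Submodule.coe_add]; exact add_mem hy hz
        | smul a y _ hy =>
          rw [Submodule.coe_smul, Subring.smul_def]; exact Submodule.smul_mem _ _ hy
      have h1 := hW ⟨_, hm'⟩
      have h2 := Submodule.smul_mem _ ((T ^ (N / d) : Rˣ) : R) h1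
      rwa [smul_smul, ← Units.val_mul, ← zpow_add, add_neg_cancel, zpow_zero, Units.val_one,
        one_smul] at h2
    | add x y hx hy => exact add_mem hx hy
  refine ⟨κ, Module.Basis.mk hli hsp, fun i => ⟨i.1.1, ?_⟩⟩
  rw [Module.Basis.mk_apply]
  exact hv i

end Groth.Agent.Lib.GrLaurentH1
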