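import Mathlib
import Groth.Prelude.Def_GrLC
import Groth.Prelude.Def_Wider
import Groth.Agent.Lib.AcycRes_helper1
import Groth.Agent.Lib.OldExt_helper1
import Groth.Agent.Lib.LocCohFunct_helper7
import Groth.Agent.Lib.LocCohTors_helper7
import Groth.Agent.Lib.LocCohTorsVanish_helper7

/-! Graded local cohomology computed from a *injective resolution agrees with local cohomology
(helper1; uses helper7's local cohomology library). -/

set_option autoImplicit false

namespace Groth.Agent.Lib.GrStarLCH1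

open CategoryTheory Limits Opposite DirectSum GrLC

universe u

theorem main13224 {ι : Type} [AddCommGroup ι] [DecidableEq ι] [Module.Free ℤ ι] [Module.Finite ℤ ι]
    (R : Type u) [CommRing R] [IsNoetherianRing R] (𝒜 : ι → AddSubgroup R) [GradedRing 𝒜]
    (a : HomogeneousIdeal 𝒜) (M : Type u) [AddCommGroup M] [Module R M] (ℳ : ι → AddSubgroup M)
    [DirectSum.Decomposition ℳ] [SetLike.GradedSMul 𝒜 ℳ] (E : GrLC.StarInjRes 𝒜 ℳ) (i : ℕ) :
    Nonempty (E.H a i ≃ₗ[R] LocCoh.H a.toIdeal i M) := by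
  have hacyc : ∀ (n j : ℕ), 1 ≤ j → Subsingleton (LocCoh.H a.toIdeal j (E.X n).carrier) :=
    fun n j hj => OldExtH1.main13217 R 𝒜 a (E.X n).carrier (E.X n).gr (E.starInj n) j hj
  cases i with
  | zero =>
    exact AcycResH1.zero_equiv a.toIdeal (fun n => (E.X n).carrier) E.d E.ε E.ε_injective
      E.exact_zero
  | succ n =>
    exact AcycResH1.succ_equiv a.toIdeal (fun n => (E.X n).carrier) E.d E.exact_succ E.ε
      E.ε_injective E.exact_zero hacyc n

theorem main18662 (R : Type u) [CommRing R] [IsNoetherianRing R] (𝒜 : ℤ → AddSubgroup R)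
    [GradedRing 𝒜] (hpos : ∀ n : ℤ, n < 0 → 𝒜 n = ⊥) (h0 : IsField (GrLC.deg0 𝒜))
    (m : HomogeneousIdeal 𝒜) (hm : GrLC.IsStarLocal 𝒜 m)
    (hmsp : m.toIdeal = Ideal.span (⋃ n ∈ Set.Ioi (0 : ℤ), (𝒜 n : Set R)))
    (M : Type u) [AddCommGroup M] [Module R M] (ℳ : ℤ → AddSubgroup M)
    [DirectSum.Decomposition ℳ] [SetLike.GradedSMul 𝒜 ℳ] (d : ℤ) (hd : 0 < d) (f : R)
    (hf : f ∈ 𝒜 d) (hbij : Function.Bijective (fun x : M => f • x))
    (E : GrLC.StarInjRes 𝒜 ℳ) (q : ℕ) : Subsingleton (E.H m q) := by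
  obtain ⟨e⟩ := main13224 R 𝒜 m M ℳ E q
  suffices h : Subsingleton (LocCoh.H m.toIdeal q M) from e.toEquiv.subsingleton
  have hfm : f ∈ m.toIdeal := by
    rw [hmsp]
    exact Ideal.subset_span (Set.mem_biUnion (show d ∈ Set.Ioi (0 : ℤ) from hd) hf)
  let φ : M ≃ₗ[R] M := LinearEquiv.ofBijective (LinearMap.lsmul R M f) hbij
  have hφ : ModuleCat.ofHom φ.toLinearMap = f • 𝟙 (ModuleCat.of R M) := by
    apply ModuleCat.hom_ext
    apply LinearMap.ext
    intro x
    rfl
  have hmap : (localCohomology m.toIdeal q).map (ModuleCat.ofHom φ.toLinearMap) = f • 𝟙 _ := by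
    rw [hφ, Groth.Agent.Lib.LocCohFunctH7.H_map_smul, CategoryTheory.Functor.map_id]
  have hiso : IsIso ((localCohomology m.toIdeal q).map (ModuleCat.ofHom φ.toLinearMap)) := by
    have : IsIso (ModuleCat.ofHom φ.toLinearMap) := (φ.toModuleIso).isIso_hom
    infer_instance
  have hinj : ∀ x : LocCoh.H m.toIdeal q M, f • x = 0 → x = 0 := by
    intro x hx
    have h1 : ((localCohomology m.toIdeal q).map (ModuleCat.ofHom φ.toLinearMap)).hom x = f • x := by
      rw [hmap]; rfl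
    have hinj' := (ModuleCat.mono_iff_injective _).mp
      (inferInstance : Mono ((localCohomology m.toIdeal q).map (ModuleCat.ofHom φ.toLinearMap)))
    apply hinj'
    rw [h1, hx, map_zero]
  have key : ∀ (n : ℕ) (x : LocCoh.H m.toIdeal q M), f ^ n • x = 0 → x = 0 := by
    intro n
    induction n with
    | zero => intro x h; simpa using h
    | succ n ih =>
      intro x h
      apply ih
      apply hinj
      rw [smul_smul, ← pow_succ']
      exact h
  refine subsingleton_of_forall_eq 0 (fun x => ?_)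
  obtain ⟨n, hn⟩ := Groth.Agent.Lib.LocCohTorsH7.main R m.toIdeal q M x
  exact key n x (hn _ (Ideal.pow_mem_pow hfm n))

theorem main18661 (R : Type u) [CommRing R] [IsNoetherianRing R] (𝒜 : ℤ → AddSubgroup R)
    [GradedRing 𝒜] (hpos : ∀ n : ℤ, n < 0 → 𝒜 n = ⊥) (h0 : IsField (GrLC.deg0 𝒜))
    (m : HomogeneousIdeal 𝒜) (hm : GrLC.IsStarLocal 𝒜 m)
    (hmsp : m.toIdeal = Ideal.span (⋃ n ∈ Set.Ioi (0 : ℤ), (𝒜 n : Set R)))
    (M : Type u) [AddCommGroup M] [Module R M] (ℳ : ℤ → AddSubgroup M)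
    [DirectSum.Decomposition ℳ] [SetLike.GradedSMul 𝒜 ℳ]
    (hstar : ∀ x : M, x ≠ 0 → ((Submodule.span R {x}).annihilator).IsPrimary ∧
      ((Submodule.span R {x}).annihilator).radical = m.toIdeal) :
    GrLC.gam m.toIdeal M = ⊤ ∧
      ∀ (E : GrLC.StarInjRes 𝒜 ℳ) (q : ℕ), 1 ≤ q → Subsingleton (E.H m q) := by
  have htors : ∀ x : M, ∃ n : ℕ, ∀ r ∈ m.toIdeal ^ n, r • x = 0 := by
    intro x
    by_cases hx : x = 0
    · exact ⟨0, fun r _ => by rw [hx, smul_zero]⟩
    · obtain ⟨_, hrad⟩ := hstar x hx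
      obtain ⟨n, hn⟩ := Ideal.exists_pow_le_of_le_radical_of_fg hrad.ge
        (IsNoetherian.noetherian _)
      exact ⟨n, fun r hr => by
        have := hn hr
        rw [Submodule.mem_annihilator_span_singleton] at this
        exact this⟩
  refine ⟨?_, fun E q hq => ?_⟩
  · rw [eq_top_iff]; intro x _; exact htors x
  · obtain ⟨e⟩ := main13224 R 𝒜 m M ℳ E q
    obtain ⟨p, rfl⟩ : ∃ p, q = p + 1 := ⟨q - 1, by omega⟩
    have := Groth.Agent.Lib.LocCohTorsVanishH7.H_subsingleton m.toIdeal M htors p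
    exact e.toEquiv.subsingleton

end Groth.Agent.Lib.GrStarLCH1
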