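import Mathlib
import Groth.Prelude.Def_Wider
import Groth.Agent.Lib.LocCohFin_helper7

/-!
# The local-global principle for finiteness of local cohomology (helper7)
-/

open CategoryTheory CategoryTheory.Limits Opposite

namespace Groth.Agent.Lib.LocCohLocGlobH7

open Groth.Agent.Lib.LocCohFinH7

universe u

variable {R : Type u} [CommRing R]

/-- "finitely generated after localizing at `p`", in elementwise form -/
def LF (p : Ideal R) (N : Type u) [AddCommGroup N] [Module R N] : Prop :=
  ∃ N' : Submodule R N, N'.FG ∧ ∀ m : N, ∃ s : R, s ∉ p ∧ s • m ∈ N'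

theorem LF_of_finite_localized (p : Ideal R) [p.IsPrime] (N : Type u) [AddCommGroup N]
    [Module R N]
    (h : Module.Finite (Localization.AtPrime p) (LocalizedModule p.primeCompl N)) : LF p N := by
  classical
  let f := LocalizedModule.mkLinearMap p.primeCompl N
  obtain ⟨T, hT⟩ := (Module.Finite.fg_top :
    (⊤ : Submodule (Localization.AtPrime p) (LocalizedModule p.primeCompl N)).FG)
  have hsurj : ∀ τ : LocalizedModule p.primeCompl N, ∃ x : N × p.primeCompl,
      IsLocalizedModule.mk' f x.1 x.2 = τ := by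
    intro τ
    obtain ⟨x, hx⟩ := IsLocalizedModule.mk'_surjective p.primeCompl f τ
    exact ⟨x, hx⟩
  choose num hnum using hsurj
  let N' : Submodule R N :=
    Submodule.span R ((T.image (fun τ => (num τ).1) : Finset N) : Set N)
  have hloc : N'.localized' (Localization.AtPrime p) p.primeCompl f = ⊤ := by
    rw [eq_top_iff, ← hT, Submodule.span_le]
    intro τ hτ
    refine ⟨(num τ).1, Submodule.subset_span ?_, (num τ).2, hnum τ⟩
    exact Finset.mem_coe.2 (Finset.mem_image_of_mem _ hτ)
  refine ⟨N', ⟨_, rfl⟩, fun m => ?_⟩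
  have hm : f m ∈ N'.localized' (Localization.AtPrime p) p.primeCompl f := by
    rw [hloc]; trivial
  obtain ⟨m', hm', s, hs⟩ := hm
  rw [IsLocalizedModule.mk'_eq_iff, Submonoid.smul_def, ← map_smul] at hs
  obtain ⟨c, hc⟩ := IsLocalizedModule.exists_of_eq (S := p.primeCompl) hs
  rw [Submonoid.smul_def, Submonoid.smul_def] at hc
  refine ⟨(c : R) * (s : R), (c * s).2, ?_⟩
  rw [mul_smul, ← hc]
  exact N'.smul_mem _ hm'

theorem LF_of_surjective (p : Ideal R) {N N' : Type u} [AddCommGroup N] [Module R N]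
    [AddCommGroup N'] [Module R N'] (φ : N →ₗ[R] N') (hφ : Function.Surjective φ)
    (h : LF p N) : LF p N' := by
  obtain ⟨W, hW, hm⟩ := h
  refine ⟨W.map φ, hW.map φ, fun m' => ?_⟩
  obtain ⟨m, rfl⟩ := hφ m'
  obtain ⟨s, hs, hsm⟩ := hm m
  exact ⟨s, hs, by rw [← map_smul]; exact Submodule.mem_map_of_mem hsm⟩

theorem LF_of_exact [IsNoetherianRing R] (p : Ideal R) {A B C : Type u} [AddCommGroup A]
    [Module R A] [AddCommGroup B] [Module R B] [AddCommGroup C] [Module R C] [Module.Finite R A]
    (f : A →ₗ[R] B) (g : B →ₗ[R] C) (hfg : LinearMap.ker g ≤ LinearMap.range f)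
    (hC : LF p C) : LF p B := by
  obtain ⟨N', hN', h⟩ := hC
  refine ⟨N'.comap g, ?_, fun b => ?_⟩
  · apply Submodule.fg_of_fg_map_of_fg_inf_ker g
    · haveI : IsNoetherian R ↥N' := isNoetherian_of_fg_of_noetherian N' hN'
      exact (isNoetherian_submodule.1 this) _ (Submodule.map_comap_le g N')
    · have hr : (LinearMap.range f).FG := by
        rw [LinearMap.range_eq_map]
        exact (Module.Finite.fg_top).map f
      haveI : IsNoetherian R ↥(LinearMap.range f) := isNoetherian_of_fg_of_noetherian _ hr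
      exact (isNoetherian_submodule.1 this) _ (le_trans inf_le_right hfg)
  · obtain ⟨s, hs, hm⟩ := h (g b)
    refine ⟨s, hs, ?_⟩
    rw [Submodule.mem_comap, map_smul]
    exact hm

theorem LF_kill (I p : Ideal R) (N : Type u) [AddCommGroup N] [Module R N] (h : LF p N)
    (hN : LocCoh.IsPowerTorsion I N) :
    ∃ k : ℕ, ∀ a ∈ I ^ k, ∀ m : N, ∃ s : R, s ∉ p ∧ s • (a • m) = 0 := by
  obtain ⟨N', hN', hm⟩ := h
  haveI : Module.Finite R ↥N' := Module.Finite.iff_fg.2 hN'
  have hT : LocCoh.IsPowerTorsion I ↥N' := by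
    intro w
    obtain ⟨j, hj⟩ := hN w.1
    exact ⟨j, fun a ha => Subtype.ext (hj a ha)⟩
  obtain ⟨k, hk⟩ := finite_torsion_killed I ↥N' hT
  refine ⟨k, fun a ha m => ?_⟩
  obtain ⟨s, hs, hsm⟩ := hm m
  refine ⟨s, hs, ?_⟩
  have h1 := congrArg Subtype.val (hk a ha ⟨s • m, hsm⟩)
  rw [smul_comm]
  exact h1

/-- the key consequence of finiteness of the set of associated primes -/
theorem killed_of_local [IsNoetherianRing R] (I : Ideal R) (N : Type u) [AddCommGroup N]
    [Module R N] (hN : LocCoh.IsPowerTorsion I N) (y : R) (hy : y ∈ I)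
    (K₀ : Submodule R N) (hK₀ : K₀.FG) (hK : ∀ z : N, y • z = 0 → z ∈ K₀)
    (hloc : ∀ (p : Ideal R) [p.IsPrime], LF p N) :
    ∃ k : ℕ, ∀ a ∈ I ^ k, ∀ m : N, a • m = 0 := by
  classical
  haveI : Module.Finite R ↥K₀ := Module.Finite.iff_fg.2 hK₀
  have hA : (associatedPrimes R ↥K₀).Finite := associatedPrimes.finite R ↥K₀
  have hk : ∀ P : Ideal R, ∃ k : ℕ, P ∈ associatedPrimes R ↥K₀ →
      ∀ a ∈ I ^ k, ∀ m : N, ∃ s : R, s ∉ P ∧ s • (a • m) = 0 := by
    intro P
    by_cases hP : P ∈ associatedPrimes R ↥K₀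
    · haveI : P.IsPrime := IsAssociatedPrime.isPrime hP
      obtain ⟨k, hk⟩ := LF_kill I P N (hloc P) hN
      exact ⟨k, fun _ => hk⟩
    · exact ⟨0, fun h => absurd h hP⟩
  choose kf hkf using hk
  refine ⟨∑ P ∈ hA.toFinset, kf P, fun a ha m => ?_⟩
  by_contra hne
  obtain ⟨P, hP, hle⟩ := exists_le_isAssociatedPrime_of_isNoetherianRing R (a • m) hne
  obtain ⟨hprime, z, hPz⟩ := isAssociatedPrime_iff.1 hP
  have hmem : ∀ r : R, r ∈ P ↔ r • z = 0 := by
    intro r
    rw [hPz, Submodule.mem_colon_singleton, Submodule.mem_bot]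
  have hyP : y ∈ P := by
    obtain ⟨j, hj⟩ := hN z
    have h1 : y ^ j ∈ P := (hmem _).2 (hj _ (Ideal.pow_mem_pow hy j))
    exact hprime.mem_of_pow_mem j h1
  have hz : z ∈ K₀ := hK z ((hmem y).1 hyP)
  have hPA : P ∈ associatedPrimes R ↥K₀ := by
    refine isAssociatedPrime_iff.2 ⟨hprime, ⟨z, hz⟩, ?_⟩
    ext r
    rw [hmem, Submodule.mem_colon_singleton, Submodule.mem_bot]
    constructor
    · intro h; exact Subtype.ext h
    · intro h; exact congrArg Subtype.val h
  have hle' : I ^ (∑ P ∈ hA.toFinset, kf P) ≤ I ^ kf P :=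
    Ideal.pow_le_pow_right
      (Finset.single_le_sum (fun _ _ => Nat.zero_le _) (hA.mem_toFinset.2 hPA))
  obtain ⟨s, hs, hs0⟩ := hkf P hPA a (hle' ha) m
  apply hs
  apply hle
  rw [Submodule.mem_colon_singleton, hs0]
  exact Submodule.zero_mem _

section C

open Groth.Agent.Lib.DT_helper3 Groth.Agent.Lib.LocCohDTH7 LocCoh

theorem exists_K0_H1 [IsNoetherianRing R] (I : Ideal R) (M : Type u) [AddCommGroup M]
    [Module R M] [Module.Finite R M] (y : R) (hy : IsSMulRegular M y) :
    ∃ K₀ : Submodule R (LocCoh.H I 1 M), K₀.FG ∧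
      ∀ z : LocCoh.H I 1 M, y • z = 0 → z ∈ K₀ := by
  obtain ⟨e⟩ := coker_equiv I M
  have hinj : ∀ d : DT I M, y • d = 0 → d = 0 := by
    intro d hd
    obtain ⟨n, f, rfl⟩ := exists_cls I d
    have hd' : cls I n (y • f) = 0 := by
      rw [map_smul]
      exact hd
    rw [cls_eq_zero_iff] at hd'
    obtain ⟨k, h, hres⟩ := hd'
    rw [cls_eq_zero_iff]
    refine ⟨k, h, ?_⟩
    apply LinearMap.ext
    intro z
    have h1 := LinearMap.congr_fun hres z
    have h2 : y • (res I h f z) = y • (0 : M) := by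
      rw [smul_zero]
      exact h1
    exact hy h2
  let W : Submodule R (DT I M) :=
    (LinearMap.range (toDT I M)).comap (LinearMap.lsmul R (DT I M) y)
  let g : ↥W →ₗ[R] ↥(LinearMap.range (toDT I M)) :=
    (LinearMap.lsmul R (DT I M) y).restrict (fun d hd => hd)
  have hg : Function.Injective g := by
    rw [injective_iff_map_eq_zero]
    intro d hd
    apply Subtype.ext
    apply hinj
    exact congrArg Subtype.val hd
  haveI : Module.Finite R ↥W := Module.Finite.of_injective g hg
  have hW : W.FG := Module.Finite.iff_fg.1 inferInstance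
  refine ⟨W.map (e.toLinearMap ∘ₗ (LinearMap.range (toDT I M)).mkQ), hW.map _,
    fun z hz => ?_⟩
  obtain ⟨q, rfl⟩ := e.surjective z
  obtain ⟨d, rfl⟩ := Submodule.mkQ_surjective _ q
  refine ⟨d, ?_, rfl⟩
  show y • d ∈ LinearMap.range (toDT I M)
  have h1 : e ((LinearMap.range (toDT I M)).mkQ (y • d)) = 0 := by
    rw [map_smul, map_smul]
    exact hz
  have h2 : (LinearMap.range (toDT I M)).mkQ (y • d) = 0 :=
    e.injective (h1.trans (map_zero e).symm)
  exact (Submodule.Quotient.mk_eq_zero _).1 h2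

end C

section D

open Groth.Agent.Lib.LocCohLESH7 Groth.Agent.Lib.LocCohFunctH7 Groth.Agent.DepthLib

variable [IsNoetherianRing R] (I : Ideal R)

/-- the inductive step for an `I`-torsion-free module -/
theorem core' (n : ℕ)
    (ih : ∀ (M : Type u) [AddCommGroup M] [Module R M] [Module.Finite R M],
      (∀ (p : Ideal R) [p.IsPrime], ∀ i : ℕ, i < n → LF p (LocCoh.H I (i + 1) M)) →
      ∀ i : ℕ, i < n → Module.Finite R (LocCoh.H I (i + 1) M))
    (M : Type u) [AddCommGroup M] [Module R M] [Module.Finite R M]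
    (htf : DRing.torsionSub I M = ⊥)
    (hLF : ∀ (p : Ideal R) [p.IsPrime], ∀ i : ℕ, i < n + 1 → LF p (LocCoh.H I (i + 1) M))
    (i : ℕ) (hi : i < n + 1) : Module.Finite R (LocCoh.H I (i + 1) M) := by
  obtain ⟨y, hyI, hyreg⟩ := exists_regular I M htf
  let f : M →ₗ[R] M := y • LinearMap.id
  let g : M →ₗ[R] M ⧸ LinearMap.range f := (LinearMap.range f).mkQ
  have hex : Function.Exact f g := LinearMap.exact_map_mkQ_range f
  have hinj : Function.Injective f := fun a b hab => hyreg hab
  have hg : Function.Surjective g := Submodule.mkQ_surjective _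
  have hS := shortComplexOf_shortExact f g hinj hg hex
  set S := shortComplexOf f g hex with hSdef
  have hf : S.f = y • 𝟙 (ModuleCat.of R M) := by
    ext z
    rfl
  have hmap : ∀ q : ℕ, (localCohomology I q).map S.f =
      y • 𝟙 ((localCohomology I q).obj (ModuleCat.of R M)) := by
    intro q
    have h1 : (localCohomology I q).map (y • 𝟙 (ModuleCat.of R M)) =
        y • 𝟙 ((localCohomology I q).obj (ModuleCat.of R M)) := by
      rw [H_map_smul, CategoryTheory.Functor.map_id]
    exact (congrArg (fun φ : ModuleCat.of R M ⟶ ModuleCat.of R M =>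
      (localCohomology I q).map φ) hf).trans h1
  have hHf : ∀ (q : ℕ) (m : ((localCohomology I q).obj S.X₁ : ModuleCat.{u} R)),
      ((localCohomology I q).map S.f).hom m = y • m := by
    intro q m
    have h2 := congrArg (fun φ : (localCohomology I q).obj (ModuleCat.of R M) ⟶
      (localCohomology I q).obj (ModuleCat.of R M) => φ.hom m) (hmap q)
    exact h2
  -- finiteness in lower degrees
  have finM : ∀ q : ℕ, q < n → Module.Finite R (LocCoh.H I (q + 1) M) :=
    ih M (fun p _ q hq => hLF p q (by omega))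
  have LF_T : ∀ (p : Ideal R) [p.IsPrime], ∀ q : ℕ, q < n →
      LF p (LocCoh.H I (q + 1) (M ⧸ LinearMap.range f)) := by
    intro p _ q hq
    haveI : Module.Finite R ((localCohomology I (q + 1)).obj S.X₂ : ModuleCat.{u} R) :=
      finM q hq
    have hC : LF p ((localCohomology I (q + 2)).obj S.X₁ : ModuleCat.{u} R) :=
      hLF p (q + 1) (by omega)
    have hker : LinearMap.ker (δ I hS q).hom ≤
        LinearMap.range ((localCohomology I (q + 1)).map S.g).hom := by
      intro m₃ hm
      obtain ⟨m₂, h⟩ := exists_of_δ_eq_zero I hS q m₃ (LinearMap.mem_ker.1 hm)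
      exact ⟨m₂, h⟩
    exact LF_of_exact p ((localCohomology I (q + 1)).map S.g).hom (δ I hS q).hom hker hC
  have finT : ∀ q : ℕ, q < n →
      Module.Finite R (LocCoh.H I (q + 1) (M ⧸ LinearMap.range f)) :=
    ih (M ⧸ LinearMap.range f) LF_T
  -- the socle-type submodule in the top degree
  have hK : ∃ K₀ : Submodule R (LocCoh.H I (n + 1) M), K₀.FG ∧
      ∀ z : LocCoh.H I (n + 1) M, y • z = 0 → z ∈ K₀ := by
    cases n with
    | zero => exact exists_K0_H1 I M y hyreg
    | succ p =>
      haveI : Module.Finite R ((localCohomology I (p + 1)).obj S.X₃ : ModuleCat.{u} R) :=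
        finT p (by omega)
      refine ⟨LinearMap.range (δ I hS p).hom, ?_, fun z hz => ?_⟩
      · rw [LinearMap.range_eq_map]
        exact (Module.Finite.fg_top).map _
      · apply exists_δ_eq I hS p z
        rw [hHf]
        exact hz
  obtain ⟨K₀, hK₀, hKmem⟩ := hK
  obtain ⟨ktop, hktop⟩ := killed_of_local I (LocCoh.H I (n + 1) M)
    (Groth.Agent.Lib.LocCohTorsH7.main R I (n + 1) M) y hyI K₀ hK₀ hKmem
    (fun p _ => hLF p n (by omega))
  -- a uniform power of `I` killing all the degrees
  have hN : ∀ q : ℕ, ∃ N : ℕ, q < n + 1 →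
      ∀ a ∈ I ^ N, ∀ x : LocCoh.H I (q + 1) M, a • x = 0 := by
    intro q
    by_cases hq : q < n
    · haveI := finM q hq
      obtain ⟨N, hN⟩ := finite_torsion_killed I (LocCoh.H I (q + 1) M)
        (Groth.Agent.Lib.LocCohTorsH7.main R I (q + 1) M)
      exact ⟨N, fun _ => hN⟩
    · by_cases hqn : q = n
      · subst hqn
        exact ⟨ktop, fun _ => hktop⟩
      · exact ⟨0, fun h => absurd h (by omega)⟩
  choose Nf hNf using hN
  refine fin_step I (n + 1) M (I ^ (∑ q ∈ Finset.range (n + 1), Nf q)) ?_ ?_ i hi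
  · intro a ha
    exact ⟨_, Ideal.pow_mem_pow ha _⟩
  · intro q hq a ha x
    exact hNf q hq a (Ideal.pow_le_pow_right
      (Finset.single_le_sum (fun _ _ => Nat.zero_le _)
        (Finset.mem_range.2 hq)) ha) x

theorem locglob_step (n : ℕ) :
    ∀ (M : Type u) [AddCommGroup M] [Module R M] [Module.Finite R M],
      (∀ (p : Ideal R) [p.IsPrime], ∀ i : ℕ, i < n → LF p (LocCoh.H I (i + 1) M)) →
      ∀ i : ℕ, i < n → Module.Finite R (LocCoh.H I (i + 1) M) := by
  induction n with
  | zero =>
    intro M _ _ _ _ i hi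
    exact absurd hi (Nat.not_lt_zero i)
  | succ n ih =>
    intro M _ _ _ hLF i hi
    have b := map_mkQ_torsionSub_bijective I M i
    have hLF' : ∀ (p : Ideal R) [p.IsPrime], ∀ q : ℕ, q < n + 1 →
        LF p (LocCoh.H I (q + 1) (M ⧸ DRing.torsionSub I M)) := by
      intro p _ q hq
      exact LF_of_surjective p _ (map_mkQ_torsionSub_bijective I M q).2 (hLF p q hq)
    haveI : Module.Finite R (LocCoh.H I (i + 1) (M ⧸ DRing.torsionSub I M)) :=
      core' I n ih (M ⧸ DRing.torsionSub I M) (torsionSub_quot_eq_bot I M) hLF' i hi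
    exact Module.Finite.equiv (LinearEquiv.ofBijective _ b).symm

/-- the local-global principle (S0330) -/
theorem main (M : Type u) [AddCommGroup M] [Module R M] [Module.Finite R M] (n : ℕ) :
    (∀ i : ℕ, i ≤ n → Module.Finite R (LocCoh.H I i M)) ↔
      ∀ (p : Ideal R) [p.IsPrime], ∀ i : ℕ, i ≤ n →
        Module.Finite (Localization.AtPrime p)
          (LocalizedModule p.primeCompl (LocCoh.H I i M)) := by
  constructor
  · intro h p _ i hi
    haveI := h i hi
    exact Module.Finite.of_isLocalizedModule p.primeCompl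
      (LocalizedModule.mkLinearMap p.primeCompl (LocCoh.H I i M))
  · intro h i hi
    cases i with
    | zero => exact H0_finite I M
    | succ q =>
      exact locglob_step I n M
        (fun p _ j hj => LF_of_finite_localized p _ (h p (j + 1) (by omega))) q (by omega)

end D

end Groth.Agent.Lib.LocCohLocGlobH7
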