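import Mathlib
import Groth.Prelude.Def_Wider
import Groth.Agent.Lib.LocCohGV_helper7
import Groth.Agent.Lib.LocCohLocGlob_helper7

/-!
# Melkersson's lemma and Artinianness of local cohomology (helper7)
-/

open CategoryTheory CategoryTheory.Limits Opposite Pointwise

namespace Groth.Agent.Lib.LocCohArtH7

universe u v

section melk

variable {R : Type u} [CommRing R]

section single

variable (x : R) {X : Type v} [AddCommGroup X] [Module R X]

/-- `x^n (0 :_L x^(n+1))` -/
def T (n : ℕ) (L : Submodule R X) : Submodule R X :=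
  (L ⊓ LinearMap.ker (LinearMap.lsmul R X (x ^ (n + 1)))).map (LinearMap.lsmul R X (x ^ n))

lemma mem_T {n : ℕ} {L : Submodule R X} {z : X} :
    z ∈ T x n L ↔ ∃ y ∈ L, x ^ (n + 1) • y = 0 ∧ x ^ n • y = z := by
  simp only [T, Submodule.mem_map, Submodule.mem_inf, LinearMap.mem_ker, LinearMap.lsmul_apply]
  constructor
  · rintro ⟨y, ⟨hy, h0⟩, rfl⟩
    exact ⟨y, hy, h0, rfl⟩
  · rintro ⟨y, hy, h0, rfl⟩
    exact ⟨y, ⟨hy, h0⟩, rfl⟩

lemma T_mono (n : ℕ) {L L' : Submodule R X} (h : L ≤ L') : T x n L ≤ T x n L' :=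
  Submodule.map_mono (inf_le_inf_right _ h)

lemma T_succ_le (n : ℕ) (L : Submodule R X) : T x (n + 1) L ≤ T x n L := by
  intro z hz
  obtain ⟨y, hy, h0, rfl⟩ := (mem_T x).1 hz
  refine (mem_T x).2 ⟨x • y, L.smul_mem x hy, ?_, ?_⟩
  · rw [smul_smul, ← pow_succ]
    exact h0
  · rw [smul_smul, ← pow_succ]

lemma T_anti (L : Submodule R X) : Antitone (fun n => T x n L) :=
  antitone_nat_of_succ_le (fun n => T_succ_le x n L)

lemma T_killed {n : ℕ} {L : Submodule R X} {z : X} (hz : z ∈ T x n L) : x • z = 0 := by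
  obtain ⟨y, _, h0, rfl⟩ := (mem_T x).1 hz
  rw [smul_smul, ← pow_succ']
  exact h0

theorem melk_core (hX : ∀ m : X, ∃ n : ℕ, x ^ n • m = 0)
    (hst : ∀ g : ℕ → Submodule R X, Antitone g → (∀ t, ∀ y ∈ g t, x • y = 0) →
      ∃ n, ∀ m, n ≤ m → g n = g m)
    (f : ℕ → Submodule R X) (hf : Antitone f) : ∃ n, ∀ m, n ≤ m → f n = f m := by
  have hA : ∀ n, ∃ tn, ∀ t, tn ≤ t → T x n (f tn) = T x n (f t) := fun n =>
    hst (fun t => T x n (f t)) (fun a b hab => T_mono x n (hf hab))
      (fun t y hy => T_killed x hy)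
  choose tn htn using hA
  obtain ⟨k₀, hk₀⟩ := hst (fun k => T x k (f k))
    (fun a b hab => (T_anti x (f b) hab).trans (T_mono x a (hf hab)))
    (fun t y hy => T_killed x hy)
  have hB : ∀ t n, k₀ ≤ t → k₀ ≤ n → T x n (f t) = T x k₀ (f k₀) := by
    intro t n ht hn
    apply le_antisymm
    · exact (T_anti x (f t) hn).trans (T_mono x k₀ (hf ht))
    · have h1 : T x k₀ (f k₀) = T x (max n t) (f (max n t)) :=
        hk₀ (max n t) (le_trans hn (le_max_left _ _))
      rw [h1]
      exact (T_anti x (f (max n t)) (le_max_left n t)).trans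
        (T_mono x n (hf (le_max_right n t)))
  let t₁ := max k₀ ((Finset.range k₀).sup tn)
  have ht₁ : ∀ t, t₁ ≤ t → ∀ n, T x n (f t₁) = T x n (f t) := by
    intro t ht n
    by_cases hn : k₀ ≤ n
    · rw [hB t₁ n (le_max_left _ _) hn, hB t n ((le_max_left _ _).trans ht) hn]
    · push_neg at hn
      have h1 : tn n ≤ t₁ :=
        le_trans (Finset.le_sup (f := tn) (Finset.mem_range.2 hn)) (le_max_right _ _)
      rw [← htn n t₁ h1, ← htn n t (h1.trans ht)]
  refine ⟨t₁, fun t ht => le_antisymm ?_ (hf ht)⟩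
  have hC : ∀ n, ∀ y ∈ f t₁, x ^ n • y = 0 → y ∈ f t := by
    intro n
    induction n with
    | zero =>
      intro y _ h0
      rw [pow_zero, one_smul] at h0
      rw [h0]
      exact zero_mem _
    | succ n ih =>
      intro y hy h0
      have h1 : x ^ n • y ∈ T x n (f t₁) := (mem_T x).2 ⟨y, hy, h0, rfl⟩
      rw [ht₁ t ht n] at h1
      obtain ⟨y', hy', h0', he⟩ := (mem_T x).1 h1
      have h2 : y - y' ∈ f t :=
        ih (y - y') (sub_mem hy (hf ht hy')) (by rw [smul_sub, he, sub_self])
      have h3 : y = (y - y') + y' := by abel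
      rw [h3]
      exact add_mem h2 hy'
  intro y hy
  obtain ⟨n, hn⟩ := hX y
  exact hC n y hy hn

/-- Melkersson's lemma for one element -/
theorem melk_single (hX : ∀ m : X, ∃ n : ℕ, x ^ n • m = 0) (P : Submodule R X)
    (hP : ∀ y : X, x • y = 0 → y ∈ P) (hA : IsArtinian R P) : IsArtinian R X := by
  rw [← monotone_stabilizes_iff_artinian]
  intro f
  have hst : ∀ g : ℕ → Submodule R X, Antitone g → (∀ t, ∀ y ∈ g t, x • y = 0) →
      ∃ n, ∀ m, n ≤ m → g n = g m := by
    intro g hg hk
    have hgP : ∀ t, g t ≤ P := fun t y hy => hP y (hk t y hy)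
    let g' : ℕ →o (Submodule R P)ᵒᵈ :=
      ⟨fun t => OrderDual.toDual ((g t).comap P.subtype),
        fun a b hab => Submodule.comap_mono (hg hab)⟩
    obtain ⟨n, hn⟩ := (monotone_stabilizes_iff_artinian.2 hA) g'
    refine ⟨n, fun m hm => ?_⟩
    have h1 : (g n).comap P.subtype = (g m).comap P.subtype := hn m hm
    have h2 : ∀ t, g t = ((g t).comap P.subtype).map P.subtype := by
      intro t
      rw [Submodule.map_comap_subtype, inf_eq_right.2 (hgP t)]
    rw [h2 n, h2 m, h1]
  obtain ⟨n, hn⟩ := melk_core x hX hst (fun t => OrderDual.ofDual (f t))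
    (fun a b hab => f.monotone hab)
  exact ⟨n, fun m hm => hn m hm⟩

end single

/-- Melkersson's lemma for a finitely generated ideal (S3261) -/
theorem melk_fg (M : Type v) [AddCommGroup M] [Module R M] (S : Finset R) :
    LocCoh.IsPowerTorsion (Ideal.span (S : Set R)) M →
    IsArtinian R (LocCoh.torsionBy (Ideal.span (S : Set R)) M) → IsArtinian R M := by
  classical
  induction S using Finset.induction_on with
  | empty =>
    intro _ hA
    have h1 : LocCoh.torsionBy (Ideal.span ((∅ : Finset R) : Set R)) M = ⊤ := by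
      rw [eq_top_iff]
      intro m _
      rw [Submodule.mem_torsionBySet_iff]
      rintro ⟨a, ha⟩
      have ha' : a = 0 := by simpa using ha
      show a • m = 0
      rw [ha', zero_smul]
    rw [h1] at hA
    exact (Submodule.topEquiv : (⊤ : Submodule R M) ≃ₗ[R] M).isArtinian_iff.1 hA
  | insert b S' hb ih =>
    intro hM hA
    have hb_mem : b ∈ Ideal.span ((insert b S' : Finset R) : Set R) :=
      Ideal.subset_span (by simp)
    have ha' : Ideal.span (S' : Set R) ≤ Ideal.span ((insert b S' : Finset R) : Set R) :=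
      Ideal.span_mono (by simp)
    apply ih
    · intro m
      obtain ⟨n, hn⟩ := hM m
      exact ⟨n, fun r hr => hn r (Ideal.pow_right_mono ha' n hr)⟩
    · let P : Submodule R M := LocCoh.torsionBy (Ideal.span (S' : Set R)) M
      have hle : LocCoh.torsionBy (Ideal.span ((insert b S' : Finset R) : Set R)) M ≤ P := by
        intro y hy
        rw [Submodule.mem_torsionBySet_iff] at hy ⊢
        rintro ⟨r, hr⟩
        exact hy ⟨r, ha' hr⟩
      show IsArtinian R ↥P
      refine melk_single b (X := ↥P) ?_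
        ((LocCoh.torsionBy (Ideal.span ((insert b S' : Finset R) : Set R)) M).comap P.subtype)
        ?_ ?_
      · intro m
        obtain ⟨n, hn⟩ := hM m.1
        exact ⟨n, Subtype.ext (hn (b ^ n) (Ideal.pow_mem_pow hb_mem n))⟩
      · intro y hy
        rw [Submodule.mem_comap, Submodule.mem_torsionBySet_iff]
        rintro ⟨r, hr⟩
        rw [SetLike.mem_coe, Finset.coe_insert, Ideal.mem_span_insert] at hr
        obtain ⟨c, z, hz, rfl⟩ := hr
        have h1 : b • (y : M) = 0 := congrArg Subtype.val hy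
        have h2 : z • (y : M) = 0 := (Submodule.mem_torsionBySet_iff _ _).1 y.2 ⟨z, hz⟩
        show (c * b + z) • (P.subtype y) = 0
        rw [Submodule.subtype_apply, add_smul, mul_smul, h1, h2, smul_zero, add_zero]
      · exact isArtinian_of_linearEquiv (Submodule.comapSubtypeEquivOfLe hle).symm

end melk

end Groth.Agent.Lib.LocCohArtH7
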