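import Mathlib
import Groth.Prelude.Def_Wider
import Groth.Agent.Lib.LocCohArt_helper7

/-!
# Artinianness of local cohomology (helper7)
-/

open CategoryTheory CategoryTheory.Limits Opposite Pointwise

namespace Groth.Agent.Lib.LocCohArtH7

universe u

section base

variable {A : Type u} [CommRing A] [IsNoetherianRing A] [IsLocalRing A]

open IsLocalRing

/-- a finite module killed by the maximal ideal is Artinian -/
theorem artinian_of_killed (P : Type u) [AddCommGroup P] [Module A P] [Module.Finite A P]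
    (hP : ∀ a ∈ maximalIdeal A, ∀ y : P, a • y = 0) : IsArtinian A P := by
  have ht : Module.IsTorsionBySet A P (maximalIdeal A : Set A) := by
    intro y a
    exact hP a.1 a.2 y
  letI : Module (A ⧸ maximalIdeal A) P := ht.module
  haveI : IsScalarTower A (A ⧸ maximalIdeal A) P := ht.isScalarTower
  letI : Field (A ⧸ maximalIdeal A) := Ideal.Quotient.field _
  haveI : Module.Finite (A ⧸ maximalIdeal A) P := Module.Finite.of_restrictScalars_finite A _ _
  haveI : IsArtinian (A ⧸ maximalIdeal A) P := inferInstance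
  exact isArtinian_of_surjective_algebraMap (R := A ⧸ maximalIdeal A) (S := A) (M := P)
    Ideal.Quotient.mk_surjective

/-- a finite `𝔪`-power-torsion module is Artinian -/
theorem artinian_of_fg_torsion (X : Type u) [AddCommGroup X] [Module A X] [Module.Finite A X]
    (hX : LocCoh.IsPowerTorsion (maximalIdeal A) X) : IsArtinian A X := by
  obtain ⟨S, hS⟩ : (maximalIdeal A).FG := IsNoetherian.noetherian _
  have hX' : LocCoh.IsPowerTorsion (Ideal.span (S : Set A)) X := by
    rw [hS]
    exact hX
  apply melk_fg X S hX'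
  rw [hS]
  apply artinian_of_killed
  intro a ha y
  apply Subtype.ext
  exact (Submodule.mem_torsionBySet_iff _ _).1 y.2 ⟨a, ha⟩

/-- a finite module of dimension `≤ 0` is Artinian -/
theorem artinian_of_dim_le_zero (X : Type u) [AddCommGroup X] [Module A X] [Module.Finite A X]
    (hd : Module.supportDim A X ≤ ((0 : ℕ) : WithBot ℕ∞)) : IsArtinian A X := by
  by_cases hsub : Subsingleton X
  · infer_instance
  · haveI : Nontrivial X := not_subsingleton_iff_nontrivial.1 hsub
    have h0 : Module.supportDim A X = 0 := by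
      apply le_antisymm (by simpa using hd)
      haveI : Nonempty (Module.support A X) := Module.nonempty_support_of_nontrivial.to_subtype
      exact Order.krullDim_nonneg
    have hsupp := support_of_supportDim_eq_zero A X h0
    rw [Module.support_eq_zeroLocus] at hsupp
    have hle : maximalIdeal A ≤ (Module.annihilator A X).radical :=
      (PrimeSpectrum.zeroLocus_subset_zeroLocus_iff _ _).1 hsupp.le
    obtain ⟨k, hk⟩ := Ideal.exists_pow_le_of_le_radical_of_fg hle (IsNoetherian.noetherian _)
    apply artinian_of_fg_torsion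
    intro y
    exact ⟨k, fun a ha => Module.mem_annihilator.1 (hk ha) y⟩

end base

section steps

open Groth.Agent.Lib.LocCohLESH7 Groth.Agent.Lib.LocCohFunctH7 Groth.Agent.DepthLib
open Groth.Agent.Lib.DT_helper3 Groth.Agent.Lib.LocCohDTH7 LocCoh

variable {R : Type u} [CommRing R] [IsNoetherianRing R] (I : Ideal R)

/-- passing to the `I`-torsion-free quotient -/
theorem reduce (p : ℕ) (M : Type u) [AddCommGroup M] [Module R M]
    (h : IsArtinian R (LocCoh.H I (p + 1) (M ⧸ DRing.torsionSub I M))) :
    IsArtinian R (LocCoh.H I (p + 1) M) := by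
  have hb := map_mkQ_torsionSub_bijective I M p
  haveI : IsArtinian R ((localCohomology I (p + 1)).obj
      (ModuleCat.of R (M ⧸ DRing.torsionSub I M)) : ModuleCat.{u} R) := h
  exact isArtinian_of_injective
    ((localCohomology I (p + 1)).map (ModuleCat.ofHom (DRing.torsionSub I M).mkQ)).hom hb.1

/-- degree one -/
theorem step1 (N : Type u) [AddCommGroup N] [Module R N]
    (htf : DRing.torsionSub I N = ⊥) (x : R) (hxI : x ∈ I) (hx : IsSMulRegular N x)
    (hA : IsArtinian R ↥(DRing.torsionSub I (QuotSMulTop x N))) :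
    IsArtinian R (LocCoh.H I 1 N) := by
  obtain ⟨e⟩ := coker_equiv I N
  suffices hQ : IsArtinian R (DT I N ⧸ LinearMap.range (toDT I N)) from
    isArtinian_of_linearEquiv e
  have hinj : ∀ d : DT I N, x • d = 0 → d = 0 := by
    intro d hd
    obtain ⟨n, f, rfl⟩ := exists_cls I d
    have hd' : cls I n (x • f) = 0 := by
      rw [map_smul]
      exact hd
    rw [DT_helper3.cls_eq_zero_iff] at hd'
    obtain ⟨k, h, hres⟩ := hd'
    rw [DT_helper3.cls_eq_zero_iff]
    refine ⟨k, h, ?_⟩
    apply LinearMap.ext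
    intro z
    have h1 := LinearMap.congr_fun hres z
    have h2 : x • (res I h f z) = x • (0 : N) := by
      rw [smul_zero]
      exact h1
    exact hx h2
  have htinj : Function.Injective (toDT I N) := by
    rw [injective_iff_map_eq_zero]
    intro n hn
    have h1 := (mem_ker_toDT_iff I n).1 hn
    rw [htf] at h1
    exact (Submodule.mem_bot R).1 h1
  have hQt : ∀ q : DT I N ⧸ LinearMap.range (toDT I N), ∃ n : ℕ, x ^ n • q = 0 := by
    intro q
    obtain ⟨n, hn⟩ := isPowerTorsion_coker_toDT I (M := N) q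
    exact ⟨n, hn _ (Ideal.pow_mem_pow hxI n)⟩
  let Φ : (DT I N × N) →ₗ[R] DT I N :=
    (LinearMap.lsmul R (DT I N) x).comp (LinearMap.fst R (DT I N) N) -
      (toDT I N).comp (LinearMap.snd R (DT I N) N)
  let G : Submodule R (DT I N × N) := LinearMap.ker Φ
  have hG : ∀ g : G, x • g.1.1 = toDT I N g.1.2 := by
    intro g
    have h1 : Φ g.1 = 0 := g.2
    exact sub_eq_zero.1 h1
  let π₁ : G →ₗ[R] DT I N ⧸ LinearMap.range (toDT I N) :=
    (LinearMap.range (toDT I N)).mkQ ∘ₗ (LinearMap.fst R (DT I N) N) ∘ₗ G.subtype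
  let π₂ : G →ₗ[R] QuotSMulTop x N :=
    (x • (⊤ : Submodule R N)).mkQ ∘ₗ (LinearMap.snd R (DT I N) N) ∘ₗ G.subtype
  have hker : LinearMap.ker π₂ ≤ LinearMap.ker π₁ := by
    intro g hg
    rw [LinearMap.mem_ker] at hg ⊢
    have h1 : g.1.2 ∈ x • (⊤ : Submodule R N) := (Submodule.Quotient.mk_eq_zero _).1 hg
    obtain ⟨n', -, hn'⟩ := (Submodule.mem_smul_pointwise_iff_exists _ _ _).1 h1
    have h2 : x • (g.1.1 - toDT I N n') = 0 := by
      rw [smul_sub, hG g, ← hn', map_smul, sub_self]
    have h3 : g.1.1 = toDT I N n' := sub_eq_zero.1 (hinj _ h2)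
    show (LinearMap.range (toDT I N)).mkQ g.1.1 = 0
    rw [h3]
    exact (Submodule.Quotient.mk_eq_zero _).2 ⟨n', rfl⟩
  have hr2 : LinearMap.range π₂ ≤ DRing.torsionSub I (QuotSMulTop x N) := by
    rintro _ ⟨g, rfl⟩
    obtain ⟨k, hk⟩ := isPowerTorsion_coker_toDT I (M := N)
      ((LinearMap.range (toDT I N)).mkQ g.1.1)
    refine ⟨k, fun a ha => ?_⟩
    have h1 : a • g.1.1 ∈ LinearMap.range (toDT I N) := by
      have h0 := hk a ha
      rw [← map_smul] at h0
      exact (Submodule.Quotient.mk_eq_zero _).1 h0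
    obtain ⟨na, hna⟩ := h1
    have h2 : a • g.1.2 = x • na := by
      apply htinj
      rw [map_smul, ← hG g, smul_comm, ← hna, map_smul]
    show a • ((x • (⊤ : Submodule R N)).mkQ g.1.2) = 0
    rw [← map_smul, h2]
    exact (Submodule.Quotient.mk_eq_zero _).2
      (Submodule.smul_mem_pointwise_smul _ _ _ trivial)
  have hr1 : ∀ q : DT I N ⧸ LinearMap.range (toDT I N), x • q = 0 →
      q ∈ LinearMap.range π₁ := by
    intro q hq
    obtain ⟨d, rfl⟩ := Submodule.mkQ_surjective _ q
    have h1 : x • d ∈ LinearMap.range (toDT I N) := by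
      rw [← map_smul] at hq
      exact (Submodule.Quotient.mk_eq_zero _).1 hq
    obtain ⟨n, hn⟩ := h1
    have hmem : ((d, n) : DT I N × N) ∈ G := by
      show Φ (d, n) = 0
      show x • d - toDT I N n = 0
      rw [hn, sub_self]
    exact ⟨⟨(d, n), hmem⟩, rfl⟩
  haveI : IsArtinian R ↥(LinearMap.range π₂) :=
    isArtinian_of_injective (Submodule.inclusion hr2) (Submodule.inclusion_injective hr2)
  haveI : IsArtinian R (G ⧸ LinearMap.ker π₂) :=
    isArtinian_of_linearEquiv (LinearMap.quotKerEquivRange π₂).symm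
  let L : (G ⧸ LinearMap.ker π₂) →ₗ[R] DT I N ⧸ LinearMap.range (toDT I N) :=
    (LinearMap.ker π₂).liftQ π₁ hker
  have hL : LinearMap.range L = LinearMap.range π₁ := Submodule.range_liftQ _ _ _
  exact melk_single x hQt (LinearMap.range L) (fun q hq => hL ▸ hr1 q hq) inferInstance

/-- degrees at least two -/
theorem step2 (q : ℕ) (N : Type u) [AddCommGroup N] [Module R N] (x : R) (hxI : x ∈ I)
    (hx : IsSMulRegular N x) (hA : IsArtinian R (LocCoh.H I (q + 1) (QuotSMulTop x N))) :
    IsArtinian R (LocCoh.H I (q + 2) N) := by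
  let f : N →ₗ[R] N := x • LinearMap.id
  let g : N →ₗ[R] QuotSMulTop x N := (x • (⊤ : Submodule R N)).mkQ
  have hrange : LinearMap.range f = x • (⊤ : Submodule R N) := by
    ext m
    rw [Submodule.mem_smul_pointwise_iff_exists]
    constructor
    · rintro ⟨n, rfl⟩
      exact ⟨n, trivial, rfl⟩
    · rintro ⟨n, _, rfl⟩
      exact ⟨n, rfl⟩
  have hex : Function.Exact f g := by
    intro m
    have h1 : g m = 0 ↔ m ∈ x • (⊤ : Submodule R N) := Submodule.Quotient.mk_eq_zero _
    rw [h1, ← hrange]
    exact Iff.rfl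
  have hinj : Function.Injective f := fun a b hab => hx hab
  have hg : Function.Surjective g := Submodule.mkQ_surjective _
  have hS := shortComplexOf_shortExact f g hinj hg hex
  set S := shortComplexOf f g hex with hSdef
  have hf : S.f = x • 𝟙 (ModuleCat.of R N) := by
    ext z
    rfl
  have hmap : (localCohomology I (q + 2)).map S.f =
      x • 𝟙 ((localCohomology I (q + 2)).obj (ModuleCat.of R N)) := by
    have h1 : (localCohomology I (q + 2)).map (x • 𝟙 (ModuleCat.of R N)) =
        x • 𝟙 ((localCohomology I (q + 2)).obj (ModuleCat.of R N)) := by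
      rw [H_map_smul, CategoryTheory.Functor.map_id]
    exact (congrArg (fun φ : ModuleCat.of R N ⟶ ModuleCat.of R N =>
      (localCohomology I (q + 2)).map φ) hf).trans h1
  have hHf : ∀ (m : ((localCohomology I (q + 2)).obj S.X₁ : ModuleCat.{u} R)),
      ((localCohomology I (q + 2)).map S.f).hom m = x • m := by
    intro m
    have h2 := congrArg (fun φ : (localCohomology I (q + 2)).obj (ModuleCat.of R N) ⟶
      (localCohomology I (q + 2)).obj (ModuleCat.of R N) => φ.hom m) hmap
    exact h2
  have hXt : ∀ m : LocCoh.H I (q + 2) N, ∃ n : ℕ, x ^ n • m = 0 := by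
    intro m
    obtain ⟨n, hn⟩ := Groth.Agent.Lib.LocCohTorsH7.main R I (q + 2) N m
    exact ⟨n, hn _ (Ideal.pow_mem_pow hxI n)⟩
  let δ' : LocCoh.H I (q + 1) (QuotSMulTop x N) →ₗ[R] LocCoh.H I (q + 2) N := (δ I hS q).hom
  haveI := hA
  refine melk_single x hXt (LinearMap.range δ') ?_ inferInstance
  intro y hy
  let y' : ((localCohomology I (q + 2)).obj S.X₁ : ModuleCat.{u} R) := y
  have h0 : ((localCohomology I (q + 2)).map S.f).hom y' = 0 := (hHf y').trans hy
  obtain ⟨m₃, hm₃⟩ := exists_δ_eq I hS q y' h0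
  exact ⟨m₃, hm₃⟩

end steps

section mains

open Groth.Agent.Lib.LocCohFinH7 Groth.Agent.Lib.LocCohGVH7 IsLocalRing

variable (A : Type u) [CommRing A] [IsNoetherianRing A] [IsLocalRing A]

/-- S0817 -/
theorem main817 (i : ℕ) :
    ∀ (M : Type u) [AddCommGroup M] [Module A M] [Module.Finite A M],
      IsArtinian A (LocCoh.H (maximalIdeal A) i M) := by
  have hstep : ∀ p : ℕ,
      (∀ (Y : Type u) [AddCommGroup Y] [Module A Y] [Module.Finite A Y],
        IsArtinian A (LocCoh.H (maximalIdeal A) p Y)) →
      ∀ (M : Type u) [AddCommGroup M] [Module A M] [Module.Finite A M],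
        IsArtinian A (LocCoh.H (maximalIdeal A) (p + 1) M) := by
    intro p ih M _ _ _
    apply reduce (maximalIdeal A) p M
    have htf : DRing.torsionSub (maximalIdeal A) (M ⧸ DRing.torsionSub (maximalIdeal A) M) = ⊥ :=
      torsionSub_quot_eq_bot (maximalIdeal A) M
    obtain ⟨x, hxI, hx⟩ := exists_regular (maximalIdeal A)
      (M ⧸ DRing.torsionSub (maximalIdeal A) M) htf
    rcases p with _ | q
    · apply step1 (maximalIdeal A) _ htf x hxI hx
      apply artinian_of_fg_torsion
      intro y
      obtain ⟨n, hn⟩ := y.2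
      exact ⟨n, fun a ha => Subtype.ext (hn a ha)⟩
    · exact step2 (maximalIdeal A) q _ x hxI hx (ih _)
  induction i with
  | zero =>
    intro M _ _ _
    obtain ⟨Ψ, hΨ⟩ := H0_injective (maximalIdeal A) M
    haveI : Module.Finite A (LocCoh.H (maximalIdeal A) 0 M) := Module.Finite.of_injective Ψ hΨ
    exact artinian_of_fg_torsion _ (Groth.Agent.Lib.LocCohTorsH7.main A (maximalIdeal A) 0 M)
  | succ i ih => exact hstep i ih

/-- S3262 -/
theorem main3262 (a : Ideal A) (n : ℕ) :
    ∀ (M : Type u) [AddCommGroup M] [Module A M] [Module.Finite A M],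
      Module.supportDim A M ≤ (n : WithBot ℕ∞) → IsArtinian A (LocCoh.H a n M) := by
  induction n with
  | zero =>
    intro M _ _ _ hd
    haveI := artinian_of_dim_le_zero M hd
    obtain ⟨Ψ, hΨ⟩ := H0_injective a M
    exact isArtinian_of_injective Ψ hΨ
  | succ n ih =>
    intro M _ _ _ hd
    apply reduce a n M
    have hdN : Module.supportDim A (M ⧸ DRing.torsionSub a M) ≤ ((n + 1 : ℕ) : WithBot ℕ∞) :=
      (Module.supportDim_le_of_surjective (DRing.torsionSub a M).mkQ
        (Submodule.mkQ_surjective _)).trans hd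
    have htf : DRing.torsionSub a (M ⧸ DRing.torsionSub a M) = ⊥ := torsionSub_quot_eq_bot a M
    obtain ⟨x, hxI, hx⟩ := exists_regular a (M ⧸ DRing.torsionSub a M) htf
    have hdrop : Module.supportDim A (QuotSMulTop x (M ⧸ DRing.torsionSub a M)) ≤
        (n : WithBot ℕ∞) :=
      wb_c _ n ((Module.supportDim_quotSMulTop_succ_le_of_notMem_minimalPrimes
        (fun _ => hx.notMem_of_mem_minimalPrimes)).trans hdN)
    rcases n with _ | q
    · apply step1 a _ htf x hxI hx
      haveI := artinian_of_dim_le_zero (QuotSMulTop x (M ⧸ DRing.torsionSub a M)) hdrop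
      infer_instance
    · exact step2 a q _ x hxI hx (ih _ hdrop)

end mains

end Groth.Agent.Lib.LocCohArtH7
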