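import Mathlib

set_option autoImplicit false
universe u
open CategoryTheory CategoryTheory.Limits MonoidalCategory Module
open scoped TensorProduct

namespace Groth.Agent.Lib.EWH7

variable {A : Type u} [CommRing A] (T : ModuleCat.{u} A ⥤ ModuleCat.{u} A) [T.Additive]
  [T.Linear A]

/-- `θ_x : A ⟶ M`, `a ↦ a • x`. -/
noncomputable def theta {M : ModuleCat.{u} A} (x : M) : ModuleCat.of A A ⟶ M :=
  (ModuleCat.homLinearEquiv (S := A)).symm ((LinearMap.ringLmapEquivSelf A A M).symm x)

lemma theta_apply {M : ModuleCat.{u} A} (x : M) (a : A) : (theta x).hom a = a • x := by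
  first
  | rfl
  | simp [theta]

/-- the comparison map `T(A) ⊗ M → T(M)`. -/
noncomputable abbrev tM (M : ModuleCat.{u} A) :
    TensorProduct A (T.obj (ModuleCat.of A A)) M →ₗ[A] T.obj M :=
  TensorProduct.lift (LinearMap.flip
    ((ModuleCat.homLinearEquiv (S := A)).toLinearMap ∘ₗ Functor.mapLinearMap A T ∘ₗ
      (ModuleCat.homLinearEquiv (S := A)).symm.toLinearMap ∘ₗ
        (LinearMap.ringLmapEquivSelf A A M).symm.toLinearMap))

lemma tM_tmul (M : ModuleCat.{u} A) (y : T.obj (ModuleCat.of A A)) (x : M) :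
    tM T M (y ⊗ₜ x) = (T.map (theta x)).hom y := rfl

lemma theta_comp {M N : ModuleCat.{u} A} (g : M ⟶ N) (x : M) :
    theta x ≫ g = theta (g.hom x) := by
  apply ModuleCat.hom_ext
  apply LinearMap.ext_ring
  rw [ModuleCat.hom_comp, LinearMap.comp_apply, theta_apply, theta_apply, one_smul, one_smul]

lemma tM_nat {M N : ModuleCat.{u} A} (g : M ⟶ N) (w : T.obj (ModuleCat.of A A) ⊗[A] M) :
    (T.map g).hom (tM T M w) = tM T N (g.hom.lTensor _ w) := by
  induction w using TensorProduct.induction_on with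
  | zero => simp
  | tmul y x =>
    rw [tM_tmul, LinearMap.lTensor_tmul, tM_tmul, ← theta_comp, T.map_comp]
    rfl
  | add a b ha hb => simp only [map_add, ha, hb]

/-- the comparison map as a morphism. -/
noncomputable def tMor (M : ModuleCat.{u} A) :
    (tensorLeft (T.obj (ModuleCat.of A A))).obj M ⟶ T.obj M := ModuleCat.ofHom (tM T M)

lemma tMor_nat {M N : ModuleCat.{u} A} (g : M ⟶ N) :
    (tensorLeft (T.obj (ModuleCat.of A A))).map g ≫ tMor T N = tMor T M ≫ T.map g := by
  apply ModuleCat.hom_ext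
  apply LinearMap.ext
  intro w
  exact (tM_nat T g w).symm

lemma theta_self (a : A) : theta (M := ModuleCat.of A A) a = a • 𝟙 (ModuleCat.of A A) := by
  apply ModuleCat.hom_ext
  apply LinearMap.ext_ring
  rw [theta_apply, ModuleCat.hom_smul, ModuleCat.hom_id]
  simp

lemma tM_self_eq : tM T (ModuleCat.of A A) =
    (TensorProduct.rid A (T.obj (ModuleCat.of A A))).toLinearMap := by
  apply TensorProduct.ext'
  intro y a
  rw [tM_tmul, theta_self, Functor.map_smul, CategoryTheory.Functor.map_id]
  rfl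

lemma tM_self_bij : Function.Bijective (tM T (ModuleCat.of A A)) := by
  rw [tM_self_eq]
  exact (TensorProduct.rid A _).bijective

section coprod

variable [∀ J : Type u, PreservesColimitsOfShape (Discrete J) T]

lemma tM_bij_of_cofan {J : Type u} (Mj : J → ModuleCat.{u} A) (c : Cofan Mj) (hc : IsColimit c)
    (h : ∀ j, Function.Bijective (tM T (Mj j))) : Function.Bijective (tM T c.pt) := by
  have hc₁ : IsColimit ((tensorLeft (T.obj (ModuleCat.of A A))).mapCocone c) :=
    isColimitOfPreserves (tensorLeft (T.obj (ModuleCat.of A A))) hc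
  have hc₂ : IsColimit (T.mapCocone c) := isColimitOfPreserves T hc
  let α : Discrete.functor Mj ⋙ tensorLeft (T.obj (ModuleCat.of A A)) ≅
      Discrete.functor Mj ⋙ T :=
    Discrete.natIso (fun j => (LinearEquiv.ofBijective (tM T (Mj j.as)) (h j.as)).toModuleIso)
  let e := hc₁.coconePointsIsoOfNatIso hc₂ α
  have he : e.hom = tMor T c.pt := by
    apply hc₁.hom_ext
    intro j
    rw [IsColimit.comp_coconePointsIsoOfNatIso_hom]
    exact (tMor_nat T (c.ι.app j)).symm
  have hb := e.toLinearEquiv.bijective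
  have hb' : Function.Bijective e.hom.hom := hb
  rw [he] at hb'
  exact hb'

lemma tM_surj_of_cofan {J : Type u} (Mj : J → ModuleCat.{u} A) (c : Cofan Mj) (hc : IsColimit c)
    (h : ∀ j, Function.Surjective (tM T (Mj j))) : Function.Surjective (tM T c.pt) := by
  have hc₂ : IsColimit (T.mapCocone c) := isColimitOfPreserves T hc
  haveI : ∀ j, Epi (tMor T (Mj j)) := fun j => (ModuleCat.epi_iff_surjective _).mpr (h j)
  have hepi : Epi (tMor T c.pt) := by
    constructor
    intro Z u v huv
    apply hc₂.hom_ext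
    intro j
    show T.map (c.ι.app j) ≫ u = T.map (c.ι.app j) ≫ v
    have e1 := tMor_nat T (c.ι.app j)
    have e2 : ∀ k : T.obj c.pt ⟶ Z, tMor T (Mj j.as) ≫ T.map (c.ι.app j) ≫ k =
        (tensorLeft (T.obj (ModuleCat.of A A))).map (c.ι.app j) ≫ (tMor T c.pt ≫ k) :=
      fun k => (Category.assoc _ _ _).symm.trans
        ((congrArg (fun m => m ≫ k) e1.symm).trans (Category.assoc _ _ _))
    rw [← cancel_epi (tMor T (Mj j.as)), e2 u, e2 v, huv]
  exact (ModuleCat.epi_iff_surjective _).mp hepi

/-- the cofan exhibiting a free module as a coproduct of copies of `A`. -/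
noncomputable def freeCofan {L : ModuleCat.{u} A} {J : Type u} (b : Basis J A L) :
    Cofan (fun _ : J => ModuleCat.of A A) :=
  Cofan.mk L (fun j => theta (b j))

noncomputable def freeCofanIsColimit {L : ModuleCat.{u} A} {J : Type u} (b : Basis J A L) :
    IsColimit (freeCofan b) :=
  Cofan.IsColimit.mk _ (fun s => ModuleCat.ofHom (b.constr A (fun j => (s.inj j).hom 1)))
    (fun s j => by
      apply ModuleCat.hom_ext
      apply LinearMap.ext_ring
      show (b.constr A (fun j => (s.inj j).hom 1)) ((theta (b j)).hom 1) = (s.inj j).hom 1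
      rw [theta_apply, one_smul, Basis.constr_basis])
    (fun s m hm => by
      apply ModuleCat.hom_ext
      apply b.ext
      intro j
      show m.hom (b j) = b.constr A (fun j => (s.inj j).hom 1) (b j)
      rw [Basis.constr_basis, ← hm j]
      show m.hom (b j) = m.hom ((theta (b j)).hom 1)
      rw [theta_apply, one_smul])

theorem tM_bij_of_free (L : ModuleCat.{u} A) [Module.Free A L] : Function.Bijective (tM T L) :=
  tM_bij_of_cofan T _ (freeCofan (Module.Free.chooseBasis A L))
    (freeCofanIsColimit (Module.Free.chooseBasis A L)) (fun _ => tM_self_bij T)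

theorem tM_bij_of_rightExact
    (hT : ∀ S : ShortComplex (ModuleCat.{u} A), S.Exact ∧ Epi S.g →
      (S.map T).Exact ∧ Epi (T.map S.g)) (M : ModuleCat.{u} A) :
    Function.Bijective (tM T M) := by
  let π : (M →₀ A) →ₗ[A] M := Finsupp.linearCombination A id
  have hπ : Function.Surjective π := Finsupp.linearCombination_id_surjective A M
  let K := LinearMap.ker π
  let φ : (K →₀ A) →ₗ[A] (M →₀ A) := K.subtype ∘ₗ Finsupp.linearCombination A id
  have hφ : LinearMap.range φ = LinearMap.ker π := by
    rw [LinearMap.range_comp, LinearMap.range_eq_top.mpr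
      (Finsupp.linearCombination_id_surjective A K), Submodule.map_top, Submodule.range_subtype]
  have hπφ : π ∘ₗ φ = 0 := by
    apply LinearMap.ext
    intro x
    have : φ x ∈ LinearMap.ker π := by rw [← hφ]; exact LinearMap.mem_range_self φ x
    exact this
  let S : ShortComplex (ModuleCat.{u} A) :=
    ShortComplex.mk (ModuleCat.ofHom φ) (ModuleCat.ofHom π) (by
      rw [← ModuleCat.ofHom_comp, hπφ]; rfl)
  have hSex : S.Exact := (ShortComplex.moduleCat_exact_iff_range_eq_ker S).mpr hφ
  have hSepi : Epi S.g := (ModuleCat.epi_iff_surjective _).mpr hπ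
  obtain ⟨hTex, hTepi⟩ := hT S ⟨hSex, hSepi⟩
  have hTrk : LinearMap.range (T.map (ModuleCat.ofHom φ)).hom =
      LinearMap.ker (T.map (ModuleCat.ofHom π)).hom :=
    (ShortComplex.moduleCat_exact_iff_range_eq_ker (S.map T)).mp hTex
  have hTsurj : Function.Surjective (T.map (ModuleCat.ofHom π)).hom :=
    (ModuleCat.epi_iff_surjective _).mp hTepi
  have hb0 := tM_bij_of_free T (ModuleCat.of A (M →₀ A))
  have hb1 := tM_bij_of_free T (ModuleCat.of A (K →₀ A))
  have hsurjπ : Function.Surjective (π.lTensor (T.obj (ModuleCat.of A A))) :=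
    LinearMap.lTensor_surjective _ hπ
  constructor
  · rw [injective_iff_map_eq_zero]
    intro w hw
    obtain ⟨w₀, rfl⟩ := hsurjπ w
    have h1 : (T.map (ModuleCat.ofHom π)).hom (tM T (ModuleCat.of A (M →₀ A)) w₀) = 0 := by
      rw [tM_nat]
      exact hw
    have h2 : tM T (ModuleCat.of A (M →₀ A)) w₀ ∈
        LinearMap.range (T.map (ModuleCat.ofHom φ)).hom := by
      rw [hTrk]
      exact h1
    obtain ⟨z₁, hz₁⟩ := h2
    obtain ⟨w₁, rfl⟩ := hb1.2 z₁
    rw [tM_nat] at hz₁
    have h3 : φ.lTensor (T.obj (ModuleCat.of A A)) w₁ = w₀ := hb0.1 hz₁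
    rw [← h3, ← LinearMap.comp_apply, ← LinearMap.lTensor_comp, hπφ, LinearMap.lTensor_zero,
      LinearMap.zero_apply]
  · intro z
    obtain ⟨z₀, hz₀⟩ := hTsurj z
    obtain ⟨w₀, hw₀⟩ := hb0.2 z₀
    refine ⟨π.lTensor (T.obj (ModuleCat.of A A)) w₀, ?_⟩
    have := tM_nat T (ModuleCat.ofHom π) w₀
    rw [hw₀, hz₀] at this
    exact this.symm

/-- the natural isomorphism `T(A) ⊗ - ≅ T` when all comparison maps are bijective. -/
noncomputable def natIsoOfBij (h : ∀ M, Function.Bijective (tM T M)) :
    tensorLeft (T.obj (ModuleCat.of A A)) ≅ T :=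
  NatIso.ofComponents (fun M => (LinearEquiv.ofBijective (tM T M) (h M)).toModuleIso)
    (fun g => tMor_nat T g)

theorem s4504 :
    (PreservesFiniteColimits T ↔ ∀ M : ModuleCat.{u} A, Function.Bijective (tM T M)) ∧
    (PreservesFiniteColimits T ↔
      (∀ S : ShortComplex (ModuleCat.{u} A), S.ShortExact → (S.map T).Exact) ∧
        ∀ M : ModuleCat.{u} A, Function.Surjective (tM T M)) := by
  have key : PreservesFiniteColimits T → ∀ M : ModuleCat.{u} A, Function.Bijective (tM T M) :=
    fun h M => tM_bij_of_rightExact T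
      (((Functor.preservesFiniteColimits_tfae T).out 3 1).mp h) M
  refine ⟨⟨key, fun h => ?_⟩, ⟨fun h => ⟨fun S hS => ?_, fun M => (key h M).2⟩, ?_⟩⟩
  · exact preservesFiniteColimits_of_natIso (natIsoOfBij T h)
  · exact ((Functor.preservesFiniteColimits_iff_forall_exact_map_and_epi T).mp h S hS).1
  · rintro ⟨hhalf, hsurj⟩
    rw [Functor.preservesFiniteColimits_iff_forall_exact_map_and_epi]
    intro S hS
    refine ⟨hhalf S hS, ?_⟩
    rw [ModuleCat.epi_iff_surjective]
    intro z
    obtain ⟨w, hw⟩ := hsurj S.X₃ z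
    have hg : Function.Surjective S.g.hom := hS.moduleCat_surjective_g
    obtain ⟨w', hw'⟩ := LinearMap.lTensor_surjective (T.obj (ModuleCat.of A A)) hg w
    refine ⟨tM T S.X₂ w', ?_⟩
    rw [tM_nat, hw', hw]

theorem s2405 :
    PreservesFiniteColimits T ↔ ∃ N : ModuleCat.{u} A, Nonempty (T ≅ tensorLeft N) := by
  constructor
  · intro h
    exact ⟨T.obj (ModuleCat.of A A), ⟨(natIsoOfBij T ((s4504 T).1.mp h)).symm⟩⟩
  · rintro ⟨N, ⟨e⟩⟩
    exact preservesFiniteColimits_of_natIso e.symm

end coprod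

end Groth.Agent.Lib.EWH7
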