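import Mathlib
import Groth.Prelude.Def_Wider
import Groth.Agent.Lib.LocCohDeltaZero_helper7

/-!
# Vanishing of local cohomology below `n` via vanishing of `Ext` (helper7)
-/

open CategoryTheory CategoryTheory.Limits Opposite Pointwise

namespace Groth.Agent.Lib.LocCohExtVanH7

open Groth.Agent.Lib.LocCohLESH7 Groth.Agent.DepthLib
open Groth.Agent.Lib.InjHull_helper3 Groth.Agent.Lib.DT_helper3 Groth.Agent.Lib.LocCohDTH7
open Groth.Agent.Lib.LocCohCdSupH7 Groth.Agent.Lib.LocCohDTExactH7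
open Groth.Agent.Lib.LocCohDeltaZeroH7 LocCoh

universe u

variable {R : Type u} [CommRing R]

/-- a retract of an injective module is injective -/
theorem injective_of_retract {E C : Type u} [AddCommGroup E] [Module R E] [AddCommGroup C]
    [Module R C] (hE : Module.Injective R E) (i : C →ₗ[R] E) (r : E →ₗ[R] C)
    (hri : ∀ c, r (i c) = c) : Module.Injective R C := by
  constructor
  intro X Y _ _ _ _ f hf g
  obtain ⟨h, hh⟩ := hE.out f hf (i ∘ₗ g)
  exact ⟨r ∘ₗ h, fun x => by rw [LinearMap.comp_apply, hh, LinearMap.comp_apply, hri]⟩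

/-- a `J`-torsion-free module embeds in a `J`-torsion-free injective module -/
theorem exists_torsionFree_injective [IsNoetherianRing R] (J : Ideal R) (G : Type u)
    [AddCommGroup G] [Module R G] (hG : ∀ x ∈ Γ J G, x = 0) :
    ∃ (C : Type u) (_ : AddCommGroup C) (_ : Module R C) (ι : G →ₗ[R] C),
      Module.Injective R C ∧ Function.Injective ι ∧ ∀ x ∈ Γ J C, x = 0 := by
  obtain ⟨E, _, _, i, hE, hi⟩ := exists_injective_embedding (R := R) G
  have hΓ : Module.Injective R ↥(Γ J E) := injective_Γ hE J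
  obtain ⟨r, hr⟩ := exists_extension hΓ (Γ J E).subtype Subtype.val_injective LinearMap.id
  have hr' : ∀ y : ↥(Γ J E), r (y : E) = y := fun y => LinearMap.congr_fun hr y
  let C : Submodule R E := LinearMap.ker r
  let π : E →ₗ[R] ↥C := LinearMap.codRestrict C (LinearMap.id - (Γ J E).subtype ∘ₗ r)
    (fun e => LinearMap.mem_ker.2 (by
      rw [LinearMap.sub_apply, LinearMap.id_apply, LinearMap.comp_apply, Submodule.subtype_apply,
        map_sub, hr', sub_self]))
  have hπ : ∀ e : E, ((π e : ↥C) : E) = e - ((r e : ↥(Γ J E)) : E) := fun e => rfl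
  have hπC : ∀ c : ↥C, π (c : E) = c := by
    intro c
    apply Subtype.ext
    rw [hπ]
    have hc : r (c : E) = 0 := LinearMap.mem_ker.1 c.2
    rw [hc, Submodule.coe_zero, sub_zero]
  refine ⟨↥C, inferInstance, inferInstance, π ∘ₗ i, ?_, ?_, ?_⟩
  · exact injective_of_retract hE C.subtype π hπC
  · rw [← LinearMap.ker_eq_bot, LinearMap.ker_eq_bot']
    intro x hx
    have h0 : ((π (i x) : ↥C) : E) = 0 := by
      rw [LinearMap.comp_apply] at hx
      rw [hx, Submodule.coe_zero]
    rw [hπ, sub_eq_zero] at h0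
    have h1 : i x ∈ Γ J E := by rw [h0]; exact (r (i x)).2
    exact hG x (mem_Γ_of_map J i hi h1)
  · intro x hx
    have h1 : (x : E) ∈ Γ J E := map_mem_Γ J C.subtype hx
    have h2 : r (x : E) = 0 := LinearMap.mem_ker.1 x.2
    have h3 := hr' ⟨(x : E), h1⟩
    rw [h2] at h3
    apply Subtype.ext
    rw [Submodule.coe_zero]
    exact (congrArg Subtype.val h3).symm

theorem exists_pow_le_annihilator [IsNoetherianRing R] (J : Ideal R) (F : Type u)
    [AddCommGroup F] [Module R F] [Module.Finite R F]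
    (hF : Module.support R F ⊆ PrimeSpectrum.zeroLocus (J : Set R)) :
    ∃ k : ℕ, J ^ k ≤ Module.annihilator R F := by
  rw [Module.support_eq_zeroLocus, PrimeSpectrum.zeroLocus_subset_zeroLocus_iff] at hF
  exact Ideal.exists_pow_le_of_le_radical_of_fg_radical hF (IsNoetherian.noetherian _)

theorem hom_eq_zero [IsNoetherianRing R] (J : Ideal R) (F C : Type u) [AddCommGroup F]
    [Module R F] [AddCommGroup C] [Module R C] [Module.Finite R F]
    (hF : Module.support R F ⊆ PrimeSpectrum.zeroLocus (J : Set R))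
    (hC : ∀ x ∈ Γ J C, x = 0) (φ : F →ₗ[R] C) : φ = 0 := by
  obtain ⟨k, hk⟩ := exists_pow_le_annihilator J F hF
  ext x
  rw [LinearMap.zero_apply]
  apply hC
  rw [mem_Γ_iff]
  refine ⟨k, fun a ha => ?_⟩
  rw [← map_smul, Module.mem_annihilator.1 (hk ha) x, map_zero]

theorem ext_zero_subsingleton {X Y : ModuleCat.{u} R} (h : ∀ φ : X ⟶ Y, φ = 0) :
    Subsingleton (Abelian.Ext X Y 0) := by
  refine ⟨fun a b => ?_⟩
  apply Abelian.Ext.homEquiv₀.injective
  rw [h (Abelian.Ext.homEquiv₀ a), h (Abelian.Ext.homEquiv₀ b)]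

theorem H0_subsingleton_iff (J : Ideal R) (N : Type u) [AddCommGroup N] [Module R N] :
    Subsingleton (LocCoh.H J 0 N) ↔ ∀ x ∈ Γ J N, x = 0 := by
  obtain ⟨e⟩ := H0_equiv' J N
  constructor
  · intro h x hx
    haveI : Subsingleton ↥(Γ J N) := e.symm.toEquiv.subsingleton
    exact congrArg Subtype.val (Subsingleton.elim (⟨x, hx⟩ : ↥(Γ J N)) 0)
  · intro h
    haveI : Subsingleton ↥(Γ J N) :=
      ⟨fun a b => Subtype.ext (by rw [h a.1 a.2, h b.1 b.2])⟩
    exact e.toEquiv.subsingleton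

/-- `Γ_J(G) = 0` as soon as `Hom(F, G) = 0` for a finite `F` whose support contains `V(J)`. -/
theorem Γ_eq_zero_of_hom [IsNoetherianRing R] (J : Ideal R) (F G : Type u) [AddCommGroup F]
    [Module R F] [AddCommGroup G] [Module R G] [Module.Finite R F]
    (hF : PrimeSpectrum.zeroLocus (J : Set R) ⊆ Module.support R F)
    (h : ∀ φ : F →ₗ[R] G, φ = 0) : ∀ x ∈ Γ J G, x = 0 := by
  intro x hx
  by_contra hx0
  obtain ⟨P, hP, hle⟩ := exists_le_isAssociatedPrime_of_isNoetherianRing (R := R) x hx0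
  obtain ⟨hPprime, y, hy⟩ := isAssociatedPrime_iff.1 hP
  obtain ⟨n, hn⟩ := (mem_Γ_iff J x).1 hx
  haveI := hPprime
  have hJP : J ≤ P := by
    have h1 : J ^ n ≤ P := fun a ha => hle (Submodule.mem_colon_singleton.2 (by
      rw [hn a ha]; exact Submodule.zero_mem _))
    exact Ideal.IsPrime.le_of_pow_le h1
  have hPsupp : (⟨P, hPprime⟩ : PrimeSpectrum R) ∈ Module.support R F :=
    hF ((PrimeSpectrum.mem_zeroLocus _ _).2 hJP)
  obtain ⟨φ, m, a, haP, hφ⟩ := Groth.Agent.Lib.LocCohTopVanH7.exists_map_to_quot F P hPsupp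
  have hker : P ≤ LinearMap.ker (LinearMap.toSpanSingleton R G y) := by
    intro r hr
    rw [LinearMap.mem_ker, LinearMap.toSpanSingleton_apply]
    have hr' : r ∈ (⊥ : Submodule R G).colon {y} := hy ▸ hr
    exact (Submodule.mem_bot R).1 (Submodule.mem_colon_singleton.1 hr')
  let ψ : R ⧸ P →ₗ[R] G := Submodule.liftQ P (LinearMap.toSpanSingleton R G y) hker
  have h0 := LinearMap.congr_fun (h (ψ ∘ₗ φ)) m
  rw [LinearMap.comp_apply, hφ, LinearMap.zero_apply] at h0
  have h1 : ψ (Ideal.Quotient.mk P a) = a • y := by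
    show Submodule.liftQ P _ hker (Submodule.Quotient.mk a) = _
    rw [Submodule.liftQ_apply, LinearMap.toSpanSingleton_apply]
  rw [h1] at h0
  apply haP
  rw [hy]
  exact Submodule.mem_colon_singleton.2 (by rw [h0]; exact Submodule.zero_mem _)

section Shift

variable [IsNoetherianRing R] (J : Ideal R) {G C : Type u} [AddCommGroup G] [Module R G]
  [AddCommGroup C] [Module R C]
  (hC : Module.Injective R C) (ι : G →ₗ[R] C) (hι : Function.Injective ι)
  (hΓC : ∀ x ∈ Γ J C, x = 0)

include hC hι in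
theorem H_shift_down (i : ℕ) (h : Subsingleton (LocCoh.H J i (C ⧸ LinearMap.range ι))) :
    Subsingleton (LocCoh.H J (i + 1) G) := by
  cases i with
  | zero =>
    have hΓQ := (H0_subsingleton_iff J _).1 h
    haveI := hC
    have hN : Subsingleton (LocCoh.H J 1 C) :=
      Groth.Agent.Lib.LocCohInjAcycH7.main (R' := R) J C 1 Nat.one_pos
    have hsurj := cMap_surjective J ι (LinearMap.range ι).mkQ hι (Submodule.mkQ_surjective _)
      (LinearMap.exact_map_mkQ_range ι) hN
    haveI : Subsingleton ↥(Γ J (C ⧸ LinearMap.range ι)) :=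
      ⟨fun a b => Subtype.ext (by rw [hΓQ a.1 a.2, hΓQ b.1 b.2])⟩
    exact hsurj.subsingleton
  | succ p => exact shift_X1 hC ι hι J p h

include hC hι hΓC in
theorem H_shift_up (i : ℕ) (h : Subsingleton (LocCoh.H J (i + 1) G)) :
    Subsingleton (LocCoh.H J i (C ⧸ LinearMap.range ι)) := by
  cases i with
  | zero =>
    rw [H0_subsingleton_iff]
    intro q hq
    haveI : Subsingleton (LocCoh.H J 1 G) := h
    have h0 : cMap J ι (LinearMap.range ι).mkQ hι (Submodule.mkQ_surjective _)
        (LinearMap.exact_map_mkQ_range ι) ⟨q, hq⟩ = 0 := Subsingleton.elim _ _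
    obtain ⟨y, hy, hyq⟩ := (cMap_eq_zero_iff J ι (LinearMap.range ι).mkQ hι
      (Submodule.mkQ_surjective _) (LinearMap.exact_map_mkQ_range ι) ⟨q, hq⟩).1 h0
    have hyq' : (LinearMap.range ι).mkQ y = q := hyq
    rw [← hyq', hΓC y hy, map_zero]
  | succ p => exact shift_X3 hC ι hι J p h

variable (F : Type u) [AddCommGroup F] [Module R F] [Module.Finite R F]
  (hF : Module.support R F ⊆ PrimeSpectrum.zeroLocus (J : Set R))

include hC hΓC hF in
theorem ext_C_eq_zero (i : ℕ)
    (x : Abelian.Ext (ModuleCat.of R F) (ModuleCat.of R C) i) : x = 0 := by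
  cases i with
  | zero =>
    haveI := ext_zero_subsingleton (X := ModuleCat.of R F) (Y := ModuleCat.of R C) (fun φ => by
      apply ModuleCat.hom_ext
      rw [hom_eq_zero J F C hF hΓC φ.hom]
      rfl)
    exact Subsingleton.elim _ _
  | succ i =>
    haveI := hC
    haveI : CategoryTheory.Injective (ModuleCat.of R C) :=
      Module.injective_object_of_injective_module R C
    exact Abelian.Ext.eq_zero_of_injective x

include hC hι hΓC hF in
theorem ext_shift_down (i : ℕ)
    (h : Subsingleton (Abelian.Ext (ModuleCat.of R F)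
      (ModuleCat.of R (C ⧸ LinearMap.range ι)) i)) :
    Subsingleton (Abelian.Ext (ModuleCat.of R F) (ModuleCat.of R G) (i + 1)) := by
  have hS := shortComplexOf_shortExact ι (LinearMap.range ι).mkQ hι (Submodule.mkQ_surjective _)
    (LinearMap.exact_map_mkQ_range ι)
  have hQ0 : ∀ y : Abelian.Ext (ModuleCat.of R F)
      (ModuleCat.of R (C ⧸ LinearMap.range ι)) i, y = 0 := fun y => h.elim _ _
  have key : ∀ x : Abelian.Ext (ModuleCat.of R F) (ModuleCat.of R G) (i + 1), x = 0 := by
    intro x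
    obtain ⟨x₃, hx₃⟩ := Abelian.Ext.covariant_sequence_exact₁ (ModuleCat.of R F) hS x
      (ext_C_eq_zero J hC hΓC F hF (i + 1) _) rfl
    rw [← hx₃, hQ0 x₃]
    exact Abelian.Ext.zero_comp _ _ _ _ _
  exact ⟨fun a b => by rw [key a, key b]⟩

include hC hι hΓC hF in
theorem ext_shift_up (i : ℕ)
    (h : Subsingleton (Abelian.Ext (ModuleCat.of R F) (ModuleCat.of R G) (i + 1))) :
    Subsingleton (Abelian.Ext (ModuleCat.of R F)
      (ModuleCat.of R (C ⧸ LinearMap.range ι)) i) := by
  have hS := shortComplexOf_shortExact ι (LinearMap.range ι).mkQ hι (Submodule.mkQ_surjective _)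
    (LinearMap.exact_map_mkQ_range ι)
  have hG0 : ∀ y : Abelian.Ext (ModuleCat.of R F) (ModuleCat.of R G) (i + 1), y = 0 :=
    fun y => h.elim _ _
  have key : ∀ x : Abelian.Ext (ModuleCat.of R F)
      (ModuleCat.of R (C ⧸ LinearMap.range ι)) i, x = 0 := by
    intro x
    obtain ⟨x₂, hx₂⟩ := Abelian.Ext.covariant_sequence_exact₃ (ModuleCat.of R F) hS x rfl
      (hG0 _)
    rw [← hx₂, ext_C_eq_zero J hC hΓC F hF i x₂]
    exact Abelian.Ext.zero_comp _ _ _ _ _
  exact ⟨fun a b => by rw [key a, key b]⟩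

end Shift

theorem PQ [IsNoetherianRing R] (J : Ideal R) (n : ℕ) :
    ∀ (G : Type u) [AddCommGroup G] [Module R G],
    (∀ i : ℕ, i < n → Subsingleton (LocCoh.H J i G)) →
    ∀ (F : Type u) [AddCommGroup F] [Module R F], Module.Finite R F →
      Module.support R F ⊆ PrimeSpectrum.zeroLocus (J : Set R) →
      ∀ i : ℕ, i < n →
        Subsingleton (Abelian.Ext (ModuleCat.of R F) (ModuleCat.of R G) i) := by
  induction n with
  | zero =>
    intro G _ _ _ F _ _ _ _ i hi
    exact absurd hi (Nat.not_lt_zero i)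
  | succ n ih =>
    intro G _ _ hP F _ _ hfin hF i hi
    haveI := hfin
    have hΓ : ∀ x ∈ Γ J G, x = 0 := (H0_subsingleton_iff J G).1 (hP 0 (Nat.succ_pos n))
    obtain ⟨C, _, _, ι, hC, hι, hΓC⟩ := exists_torsionFree_injective J G hΓ
    have hPQ : ∀ i : ℕ, i < n → Subsingleton (LocCoh.H J i (C ⧸ LinearMap.range ι)) :=
      fun i hi => H_shift_up J hC ι hι hΓC i (hP (i + 1) (Nat.succ_lt_succ hi))
    have hExtQ := ih (C ⧸ LinearMap.range ι) hPQ F hfin hF
    cases i with
    | zero =>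
      exact ext_zero_subsingleton (X := ModuleCat.of R F) (Y := ModuleCat.of R G) (fun φ => by
        apply ModuleCat.hom_ext
        rw [hom_eq_zero J F G hF hΓ φ.hom]
        rfl)
    | succ j =>
      exact ext_shift_down J hC ι hι hΓC F hF j (hExtQ j (Nat.lt_of_succ_lt_succ hi))

theorem RP [IsNoetherianRing R] (J : Ideal R) (F : Type u) [AddCommGroup F] [Module R F]
    [Module.Finite R F]
    (hF : Module.support R F = PrimeSpectrum.zeroLocus (J : Set R)) (n : ℕ) :
    ∀ (G : Type u) [AddCommGroup G] [Module R G],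
    (∀ i : ℕ, i < n →
      Subsingleton (Abelian.Ext (ModuleCat.of R F) (ModuleCat.of R G) i)) →
    ∀ i : ℕ, i < n → Subsingleton (LocCoh.H J i G) := by
  induction n with
  | zero =>
    intro G _ _ _ i hi
    exact absurd hi (Nat.not_lt_zero i)
  | succ n ih =>
    intro G _ _ hR i hi
    have hhom : ∀ φ : F →ₗ[R] G, φ = 0 := by
      intro φ
      haveI := hR 0 (Nat.succ_pos n)
      have h1 : (Abelian.Ext.mk₀ (ModuleCat.ofHom φ)) =
          Abelian.Ext.mk₀ (0 : ModuleCat.of R F ⟶ ModuleCat.of R G) := Subsingleton.elim _ _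
      have h2 := (Abelian.Ext.mk₀_bijective _ _).1 h1
      have h3 : (ModuleCat.ofHom φ).hom = (0 : ModuleCat.of R F ⟶ ModuleCat.of R G).hom :=
        congrArg ModuleCat.Hom.hom h2
      simpa using h3
    have hΓ := Γ_eq_zero_of_hom J F G hF.ge hhom
    obtain ⟨C, _, _, ι, hC, hι, hΓC⟩ := exists_torsionFree_injective J G hΓ
    have hRQ : ∀ i : ℕ, i < n → Subsingleton (Abelian.Ext (ModuleCat.of R F)
        (ModuleCat.of R (C ⧸ LinearMap.range ι)) i) :=
      fun i hi => ext_shift_up J hC ι hι hΓC F hF.le i (hR (i + 1) (Nat.succ_lt_succ hi))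
    have hHQ := ih (C ⧸ LinearMap.range ι) hRQ
    cases i with
    | zero => exact (H0_subsingleton_iff J G).2 hΓ
    | succ j => exact H_shift_down J hC ι hι j (hHQ j (Nat.lt_of_succ_lt_succ hi))

/-- S5162 -/
theorem main (A : Type u) [CommRing A] [IsNoetherianRing A] (J : Ideal A) (G : Type u)
    [AddCommGroup G] [Module A G] (n : ℕ) :
    ((∀ i : ℕ, i < n → Subsingleton (LocCoh.H J i G)) ↔ ∀ (F : Type u) [AddCommGroup F] [Module A F], Module.Finite A F → Module.support A F ⊆ PrimeSpectrum.zeroLocus (J : Set A) → ∀ i : ℕ, i < n → Subsingleton (Abelian.Ext (ModuleCat.of A F) (ModuleCat.of A G) i)) ∧ ((∀ i : ℕ, i < n → Subsingleton (LocCoh.H J i G)) ↔ ∃ (F : Type u) (_ : AddCommGroup F) (_ : Module A F), Module.Finite A F ∧ Module.support A F = PrimeSpectrum.zeroLocus (J : Set A) ∧ ∀ i : ℕ, i < n → Subsingleton (Abelian.Ext (ModuleCat.of A F) (ModuleCat.of A G) i)) := by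
  have hsupp : Module.support A (A ⧸ J) = PrimeSpectrum.zeroLocus (J : Set A) := by
    rw [Module.support_eq_zeroLocus, Ideal.annihilator_quotient]
  refine ⟨⟨fun hP F _ _ hfin hF i hi => PQ J n G hP F hfin hF i hi, fun hQ => ?_⟩,
    ⟨fun hP => ?_, ?_⟩⟩
  · exact RP J (A ⧸ J) hsupp n G (hQ (A ⧸ J) inferInstance hsupp.le)
  · exact ⟨A ⧸ J, inferInstance, inferInstance, inferInstance, hsupp,
      PQ J n G hP (A ⧸ J) inferInstance hsupp.le⟩
  · rintro ⟨F, _, _, hfin, hF, hR⟩
    haveI := hfin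
    exact RP J F hF n G hR

end Groth.Agent.Lib.LocCohExtVanH7
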