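import Mathlib
import Groth.Prelude.Def_ega3

set_option autoImplicit false
universe u
open CategoryTheory CategoryTheory.Limits MonoidalCategory

namespace Groth.Agent.Lib.TFunLESH7

variable {A : Type u} [CommRing A] {ι : Type} {c : ComplexShape ι}

lemma tensorMap_f (P : HomologicalComplex (ModuleCat.{u} A) c) {M N : ModuleCat.{u} A}
    (g : M ⟶ N) (i : ι) : (CohIII.tensorMap P g).f i = P.X i ◁ g := rfl

/-- the short complex of complexes `P ⊗ S`. -/
noncomputable def tensorSC (P : HomologicalComplex (ModuleCat.{u} A) c)
    (S : ShortComplex (ModuleCat.{u} A)) :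
    ShortComplex (HomologicalComplex (ModuleCat.{u} A) c) :=
  ShortComplex.mk (CohIII.tensorMap P S.f) (CohIII.tensorMap P S.g) (by
    apply HomologicalComplex.hom_ext
    intro i
    apply ModuleCat.hom_ext
    show (S.g.hom.lTensor (P.X i)).comp (S.f.hom.lTensor (P.X i)) = 0
    rw [← LinearMap.lTensor_comp, ← ModuleCat.hom_comp, S.zero]
    simp)

lemma tensorSC_shortExact (P : HomologicalComplex (ModuleCat.{u} A) c)
    (hP : ∀ i, Module.Flat A (P.X i)) (S : ShortComplex (ModuleCat.{u} A))
    (hS : S.ShortExact) : (tensorSC P S).ShortExact := by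
  rw [HomologicalComplex.shortExact_iff_degreewise_shortExact]
  intro i
  haveI := hP i
  have hinj : Function.Injective S.f.hom := hS.moduleCat_injective_f
  have hsurj : Function.Surjective S.g.hom := hS.moduleCat_surjective_g
  have hex : Function.Exact S.f.hom S.g.hom :=
    (ShortComplex.ShortExact.moduleCat_exact_iff_function_exact S).mp hS.exact
  refine ShortComplex.ShortExact.mk' ?_ ?_ ?_
  · rw [ShortComplex.ShortExact.moduleCat_exact_iff_function_exact]
    exact lTensor_exact (P.X i) hex hsurj
  · rw [ModuleCat.mono_iff_injective]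
    exact Module.Flat.lTensor_preserves_injective_linearMap S.f.hom hinj
  · rw [ModuleCat.epi_iff_surjective]
    exact LinearMap.lTensor_surjective (P.X i) hsurj

theorem main (P : HomologicalComplex (ModuleCat.{u} A) c) (hP : ∀ i, Module.Flat A (P.X i))
    (p q : ι) (hpq : c.Rel p q) :
    (CohIII.TFun P p).PreservesEpimorphisms ↔ (CohIII.TFun P q).PreservesMonomorphisms := by
  constructor
  · intro h
    refine ⟨fun {M' M} g _ => ?_⟩
    let S : ShortComplex (ModuleCat.{u} A) := ShortComplex.mk g (cokernel.π g) (by simp)
    have hS : S.ShortExact := { exact := ShortComplex.exact_cokernel g }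
    have hS' := tensorSC_shortExact P hP S hS
    have hepi : Epi (HomologicalComplex.homologyMap (tensorSC P S).g p) :=
      h.preserves (cokernel.π g)
    have hδ : hS'.δ p q hpq = 0 := by
      rw [← cancel_epi (HomologicalComplex.homologyMap (tensorSC P S).g p), hS'.comp_δ,
        comp_zero]
    have e1 := hS'.homology_exact₁ p q hpq
    exact e1.mono_g hδ
  · intro h
    refine ⟨fun {M M''} g _ => ?_⟩
    let S : ShortComplex (ModuleCat.{u} A) := ShortComplex.mk (kernel.ι g) g (by simp)
    have hS : S.ShortExact := { exact := ShortComplex.exact_kernel g }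
    have hS' := tensorSC_shortExact P hP S hS
    have hmono : Mono (HomologicalComplex.homologyMap (tensorSC P S).f q) :=
      h.preserves (kernel.ι g)
    have hδ : hS'.δ p q hpq = 0 := by
      rw [← cancel_mono (HomologicalComplex.homologyMap (tensorSC P S).f q), hS'.δ_comp,
        zero_comp]
    have e3 := hS'.homology_exact₃ p q hpq
    exact e3.epi_f hδ

end Groth.Agent.Lib.TFunLESH7
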