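import Mathlib
import Groth.Agent.Lib.TFunLES_helper7

set_option autoImplicit false
universe u
open CategoryTheory CategoryTheory.Limits MonoidalCategory

namespace Groth.Agent.Lib.TFunSmulH7

variable {A : Type u} [CommRing A] {ι : Type} {c : ComplexShape ι}

lemma homologyMap_smul (a : A) {K L : HomologicalComplex (ModuleCat.{u} A) c} (φ : K ⟶ L)
    (i : ι) :
    HomologicalComplex.homologyMap (a • φ) i = a • HomologicalComplex.homologyMap φ i := by
  have h : (HomologicalComplex.shortComplexFunctor (ModuleCat.{u} A) c i).map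
      (a • φ) = a • (HomologicalComplex.shortComplexFunctor _ _ i).map φ := by
    ext <;> rfl
  show ShortComplex.homologyMap
    ((HomologicalComplex.shortComplexFunctor (ModuleCat.{u} A) c i).map (a • φ)) = _
  rw [h, ShortComplex.homologyMap_smul]
  rfl

lemma tensorMap_smul (P : HomologicalComplex (ModuleCat.{u} A) c) (M : ModuleCat.{u} A) (f : A) :
    CohIII.tensorMap P (f • 𝟙 M) = f • 𝟙 (CohIII.tensorObj P M) := by
  apply HomologicalComplex.hom_ext
  intro i
  apply ModuleCat.hom_ext
  show (f • 𝟙 M : M ⟶ M).hom.lTensor (P.X i) = f • LinearMap.id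
  rw [ModuleCat.hom_smul, ModuleCat.hom_id, LinearMap.lTensor_smul, LinearMap.lTensor_id]

lemma TFun_map_smul (P : HomologicalComplex (ModuleCat.{u} A) c) (q : ι) (M : ModuleCat.{u} A)
    (f : A) : (CohIII.TFun P q).map (f • 𝟙 M) = f • 𝟙 _ := by
  show HomologicalComplex.homologyMap (CohIII.tensorMap P (f • 𝟙 M)) q = _
  rw [tensorMap_smul, homologyMap_smul, HomologicalComplex.homologyMap_id]
  rfl

theorem main (P : HomologicalComplex (ModuleCat.{u} A) c) (hP : ∀ i, Module.Flat A (P.X i))
    (p q : ι) (hpq : c.Rel p q) (hex : (CohIII.TFun P p).PreservesEpimorphisms) :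
    (∀ (M : ModuleCat.{u} A) (f : A), Function.Injective (fun x : M => f • x) →
        Function.Injective (fun y : CohIII.T P q M => f • y)) ∧
      (IsDomain A → NoZeroSMulDivisors A (CohIII.T P q (ModuleCat.of A A))) := by
  have hmono := (Groth.Agent.Lib.TFunLESH7.main P hP p q hpq).mp hex
  have key : ∀ (M : ModuleCat.{u} A) (f : A), Function.Injective (fun x : M => f • x) →
      Function.Injective (fun y : CohIII.T P q M => f • y) := by
    intro M f hf
    haveI : Mono (f • 𝟙 M : M ⟶ M) := by
      rw [ModuleCat.mono_iff_injective]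
      intro a b hab
      apply hf
      have h1 : (f • 𝟙 M : M ⟶ M).hom a = f • a := by
        rw [ModuleCat.hom_smul, ModuleCat.hom_id]; rfl
      have h2 : (f • 𝟙 M : M ⟶ M).hom b = f • b := by
        rw [ModuleCat.hom_smul, ModuleCat.hom_id]; rfl
      show f • a = f • b
      rw [← h1, ← h2]
      exact hab
    have h := hmono.preserves (f • 𝟙 M : M ⟶ M)
    rw [TFun_map_smul] at h
    have hinj := (ModuleCat.mono_iff_injective _).mp h
    intro a b hab
    apply hinj
    exact hab
  refine ⟨key, fun hdom => ⟨fun {a x} hax => ?_⟩⟩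
  by_cases ha : a = 0
  · exact Or.inl ha
  · right
    have hinj := key (ModuleCat.of A A) a (fun x y hxy => by
      have hxy' : a * x = a * y := hxy
      exact mul_left_cancel₀ ha hxy')
    apply hinj
    show a • x = a • 0
    rw [hax, smul_zero]

end Groth.Agent.Lib.TFunSmulH7
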