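import Mathlib
import Groth.Agent.Lib.TFunSmul_helper7

set_option autoImplicit false
universe u
open CategoryTheory CategoryTheory.Limits MonoidalCategory
open scoped TensorProduct DirectSum

namespace Groth.Agent.Lib.TFunCoprodH7

variable {A : Type u} [CommRing A]

section criterion

variable {J : Type u} [DecidableEq J]

/-- a cocone over a discrete diagram in `ModuleCat` is colimiting if the induced map from the
direct sum is bijective. -/
noncomputable def isColimitOfBijective (F : Discrete J ⥤ ModuleCat.{u} A) (c : Cocone F)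
    (h : Function.Bijective (DirectSum.toModule A J c.pt
      (fun j => (c.ι.app ⟨j⟩).hom))) : IsColimit c := by
  let e : (⨁ j, F.obj ⟨j⟩) ≃ₗ[A] c.pt := LinearEquiv.ofBijective _ h
  have he : ∀ (j : J) (x : F.obj ⟨j⟩),
      e (DirectSum.lof A J (fun j => F.obj ⟨j⟩) j x) = (c.ι.app ⟨j⟩).hom x := fun j x => by
    show (DirectSum.toModule A J c.pt (fun j => (c.ι.app ⟨j⟩).hom))
      (DirectSum.lof A J (fun j => F.obj ⟨j⟩) j x) = (c.ι.app ⟨j⟩).hom x
    exact DirectSum.toModule_lof A (M := fun j => F.obj ⟨j⟩) j x
  exact
    { desc := fun s => ModuleCat.ofHom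
        ((DirectSum.toModule A J s.pt (fun j => (s.ι.app ⟨j⟩).hom)) ∘ₗ e.symm.toLinearMap)
      fac := by
        rintro s ⟨j⟩
        apply ModuleCat.hom_ext
        apply LinearMap.ext
        intro x
        show (DirectSum.toModule A J s.pt (fun j => (s.ι.app ⟨j⟩).hom))
          (e.symm ((c.ι.app ⟨j⟩).hom x)) = (s.ι.app ⟨j⟩).hom x
        rw [← he j x, LinearEquiv.symm_apply_apply, DirectSum.toModule_lof]
      uniq := by
        intro s m hm
        apply ModuleCat.hom_ext
        have h1 : m.hom ∘ₗ e.toLinearMap =
            DirectSum.toModule A J s.pt (fun j => (s.ι.app ⟨j⟩).hom) := by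
          apply DirectSum.linearMap_ext
          intro j
          apply LinearMap.ext
          intro x
          show m.hom (e (DirectSum.lof A J (fun j => F.obj ⟨j⟩) j x)) =
            (DirectSum.toModule A J s.pt (fun j => (s.ι.app ⟨j⟩).hom))
              (DirectSum.lof A J (fun j => F.obj ⟨j⟩) j x)
          rw [he j x, DirectSum.toModule_lof, ← hm ⟨j⟩]
          rfl
        apply LinearMap.ext
        intro y
        show m.hom y = (DirectSum.toModule A J s.pt (fun j => (s.ι.app ⟨j⟩).hom)) (e.symm y)
        rw [← h1, LinearMap.comp_apply]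
        show m.hom y = m.hom (e (e.symm y))
        rw [LinearEquiv.apply_symm_apply] }

variable (X : J → ModuleCat.{u} A)

/-- the idempotent `e_j` on the direct sum. -/
noncomputable def idem (j : J) : ModuleCat.of A (⨁ j, X j) ⟶ ModuleCat.of A (⨁ j, X j) :=
  ModuleCat.ofHom ((DirectSum.lof A J (fun j => X j) j) ∘ₗ
    (DirectSum.component A J (fun j => X j) j))

variable (T : ModuleCat.{u} A ⥤ ModuleCat.{u} A) [T.Additive]

noncomputable def isColimit_mapCocone
    (hfin : ∀ z : T.obj (ModuleCat.of A (⨁ j, X j)),
      ∃ F : Finset J, z = ∑ j ∈ F, (T.map (idem X j)).hom z) :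
    IsColimit (T.mapCocone (ModuleCat.coproductCocone X)) := by
  apply isColimitOfBijective
  let Φ := DirectSum.toModule A J (T.obj (ModuleCat.of A (⨁ j, X j)))
    (fun j => (T.map (ModuleCat.ofHom (DirectSum.lof A J (fun j => X j) j))).hom)
  show Function.Bijective Φ
  have hΦ : ∀ (j : J) (h : T.obj (X j)),
      Φ (DirectSum.lof A J (fun j => T.obj (X j)) j h) =
        (T.map (ModuleCat.ofHom (DirectSum.lof A J (fun j => X j) j))).hom h := fun j h => by
    show (DirectSum.toModule A J (T.obj (ModuleCat.of A (⨁ j, X j)))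
      (fun j => (T.map (ModuleCat.ofHom (DirectSum.lof A J (fun j => X j) j))).hom))
        (DirectSum.lof A J (fun j => T.obj (X j)) j h) = _
    exact DirectSum.toModule_lof A (M := fun j => T.obj (X j)) j h
  -- the retractions
  have hψ : ∀ i : J, (T.map (ModuleCat.ofHom (DirectSum.component A J (fun j => X j) i))).hom ∘ₗ Φ
      = DirectSum.component A J (fun j => T.obj (X j)) i := by
    intro i
    apply DirectSum.linearMap_ext
    intro j
    apply LinearMap.ext
    intro h
    show (T.map (ModuleCat.ofHom (DirectSum.component A J (fun j => X j) i))).hom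
      (Φ (DirectSum.lof A J (fun j => T.obj (X j)) j h)) =
        DirectSum.component A J (fun j => T.obj (X j)) i
          (DirectSum.lof A J (fun j => T.obj (X j)) j h)
    rw [hΦ]
    have hcomp : (T.map (ModuleCat.ofHom (DirectSum.component A J (fun j => X j) i))).hom
        ((T.map (ModuleCat.ofHom (DirectSum.lof A J (fun j => X j) j))).hom h) =
        (T.map (ModuleCat.ofHom ((DirectSum.component A J (fun j => X j) i) ∘ₗ
          (DirectSum.lof A J (fun j => X j) j)))).hom h := by
      rw [ModuleCat.ofHom_comp, T.map_comp]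
      rfl
    rw [hcomp]
    by_cases hij : j = i
    · subst hij
      have h1 : (DirectSum.component A J (fun j => X j) j) ∘ₗ
          (DirectSum.lof A J (fun j => X j) j) = LinearMap.id := by
        apply LinearMap.ext
        intro b
        exact DirectSum.component.lof_self A (M := fun j => X j) j b
      rw [h1, DirectSum.component.lof_self]
      have h2 : ModuleCat.ofHom (LinearMap.id : X j →ₗ[A] X j) = 𝟙 (X j) := rfl
      rw [h2, T.map_id]
      rfl
    · have h1 : (DirectSum.component A J (fun j => X j) i) ∘ₗ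
          (DirectSum.lof A J (fun j => X j) j) = 0 := by
        apply LinearMap.ext
        intro b
        show DirectSum.component A J (fun j => X j) i (DirectSum.lof A J (fun j => X j) j b) = 0
        rw [DirectSum.component.of, dif_neg hij]
      rw [h1, DirectSum.component.of, dif_neg hij]
      have h2 : ModuleCat.ofHom (0 : X j →ₗ[A] X i) = 0 := rfl
      rw [h2, T.map_zero]
      rfl
  constructor
  · rw [injective_iff_map_eq_zero]
    intro x hx
    apply DFinsupp.ext
    intro i
    have := LinearMap.congr_fun (hψ i) x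
    rw [LinearMap.comp_apply, hx, map_zero] at this
    exact this.symm
  · intro z
    obtain ⟨F, hF⟩ := hfin z
    refine ⟨∑ j ∈ F, DirectSum.lof A J (fun j => T.obj (X j)) j
      ((T.map (ModuleCat.ofHom (DirectSum.component A J (fun j => X j) j))).hom z), ?_⟩
    rw [map_sum]
    conv_rhs => rw [hF]
    apply Finset.sum_congr rfl
    intro j _
    rw [hΦ]
    have : idem X j = ModuleCat.ofHom (DirectSum.component A J (fun j => X j) j) ≫
        ModuleCat.ofHom (DirectSum.lof A J (fun j => X j) j) := rfl
    rw [this, T.map_comp]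
    rfl

theorem preservesCoprod (T : ModuleCat.{u} A ⥤ ModuleCat.{u} A) [T.Additive]
    (hfin : ∀ (J : Type u) [DecidableEq J] (X : J → ModuleCat.{u} A)
      (z : T.obj (ModuleCat.of A (⨁ j, X j))),
      ∃ F : Finset J, z = ∑ j ∈ F, (T.map (idem X j)).hom z) (J : Type u) :
    PreservesColimitsOfShape (Discrete J) T := by
  classical
  haveI : ∀ f : J → ModuleCat.{u} A, PreservesColimit (Discrete.functor f) T := fun f =>
    preservesColimit_of_preserves_colimit_cocone (ModuleCat.coproductCoconeIsColimit f)
      (isColimit_mapCocone f T (hfin J f))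
  exact preservesColimitsOfShape_of_discrete T

lemma tensor_decomp (N : Type u) [AddCommGroup N] [Module A N] (w : N ⊗[A] (⨁ j, X j)) :
    ∃ F : Finset J, ∀ F' : Finset J, F ⊆ F' →
      ∑ j ∈ F', (LinearMap.lTensor N ((DirectSum.lof A J (fun j => X j) j) ∘ₗ
        (DirectSum.component A J (fun j => X j) j))) w = w := by
  classical
  induction w using TensorProduct.induction_on with
  | zero => exact ⟨∅, fun F' _ => by simp⟩
  | tmul a x =>
    refine ⟨x.support, fun F' hF' => ?_⟩
    simp only [LinearMap.lTensor_tmul, LinearMap.comp_apply]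
    rw [← TensorProduct.tmul_sum]
    congr 1
    have h1 : ∑ j ∈ F', (DirectSum.lof A J (fun j => X j) j)
        ((DirectSum.component A J (fun j => X j) j) x) =
        ∑ j ∈ x.support, (DirectSum.lof A J (fun j => X j) j)
          ((DirectSum.component A J (fun j => X j) j) x) := by
      symm
      apply Finset.sum_subset hF'
      intro j _ hj
      have hx0 : x j = 0 := DFinsupp.notMem_support_iff.mp hj
      show (DirectSum.lof A J (fun j => X j) j) (x j) = 0
      rw [hx0, map_zero]
    rw [h1]
    exact DirectSum.sum_support_of x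
  | add w₁ w₂ h₁ h₂ =>
    obtain ⟨F₁, hF₁⟩ := h₁
    obtain ⟨F₂, hF₂⟩ := h₂
    refine ⟨F₁ ∪ F₂, fun F' hF' => ?_⟩
    simp only [map_add, Finset.sum_add_distrib]
    rw [hF₁ F' (Finset.union_subset_left hF'), hF₂ F' (Finset.union_subset_right hF')]

end criterion

section TFun

variable {ι : Type} {c : ComplexShape ι} (P : HomologicalComplex (ModuleCat.{u} A) c) (p : ι)

lemma tensorMap_add {M N : ModuleCat.{u} A} (f g : M ⟶ N) :
    CohIII.tensorMap P (f + g) = CohIII.tensorMap P f + CohIII.tensorMap P g := by
  apply HomologicalComplex.hom_ext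
  intro i
  apply ModuleCat.hom_ext
  show (f + g).hom.lTensor (P.X i) = f.hom.lTensor (P.X i) + g.hom.lTensor (P.X i)
  rw [ModuleCat.hom_add, LinearMap.lTensor_add]

lemma tensorMap_smul' {M N : ModuleCat.{u} A} (a : A) (f : M ⟶ N) :
    CohIII.tensorMap P (a • f) = a • CohIII.tensorMap P f := by
  apply HomologicalComplex.hom_ext
  intro i
  apply ModuleCat.hom_ext
  show (a • f).hom.lTensor (P.X i) = a • f.hom.lTensor (P.X i)
  rw [ModuleCat.hom_smul, LinearMap.lTensor_smul]

instance : (CohIII.TFun P p).Additive where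
  map_add {M N f g} := by
    show HomologicalComplex.homologyMap (CohIII.tensorMap P (f + g)) p =
      HomologicalComplex.homologyMap (CohIII.tensorMap P f) p +
        HomologicalComplex.homologyMap (CohIII.tensorMap P g) p
    rw [tensorMap_add, HomologicalComplex.homologyMap_add]

instance : Functor.Linear A (CohIII.TFun P p) where
  map_smul {M N} f a := by
    show HomologicalComplex.homologyMap (CohIII.tensorMap P (a • f)) p =
      a • HomologicalComplex.homologyMap (CohIII.tensorMap P f) p
    rw [tensorMap_smul', Groth.Agent.Lib.TFunSmulH7.homologyMap_smul]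

lemma TFun_fin_aux {J : Type u} [DecidableEq J] (X : J → ModuleCat.{u} A)
    (z : ((CohIII.tensorObj P (ModuleCat.of A (⨁ j, X j))).homology p : ModuleCat.{u} A)) :
    ∃ F : Finset J, z = ∑ j ∈ F,
      (HomologicalComplex.homologyMap (CohIII.tensorMap P (idem X j)) p).hom z := by
  obtain ⟨cy, rfl⟩ := (ModuleCat.epi_iff_surjective
    ((CohIII.tensorObj P (ModuleCat.of A (⨁ j, X j))).homologyπ p)).mp inferInstance z
  obtain ⟨F, hF⟩ := tensor_decomp X (P.X p)
    (((CohIII.tensorObj P (ModuleCat.of A (⨁ j, X j))).iCycles p).hom cy)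
  refine ⟨F, ?_⟩
  have h1 : ∀ j, (HomologicalComplex.homologyMap (CohIII.tensorMap P (idem X j)) p).hom
      (((CohIII.tensorObj P (ModuleCat.of A (⨁ j, X j))).homologyπ p).hom cy) =
      ((CohIII.tensorObj P (ModuleCat.of A (⨁ j, X j))).homologyπ p).hom
        ((HomologicalComplex.cyclesMap (CohIII.tensorMap P (idem X j)) p).hom cy) := by
    intro j
    have := HomologicalComplex.homologyπ_naturality (CohIII.tensorMap P (idem X j)) p
    exact congrArg (fun φ => φ.hom cy) this
  have h2 : ∀ j, ((CohIII.tensorObj P (ModuleCat.of A (⨁ j, X j))).iCycles p).hom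
      ((HomologicalComplex.cyclesMap (CohIII.tensorMap P (idem X j)) p).hom cy) =
      ((CohIII.tensorMap P (idem X j)).f p).hom
        (((CohIII.tensorObj P (ModuleCat.of A (⨁ j, X j))).iCycles p).hom cy) := by
    intro j
    have := HomologicalComplex.cyclesMap_i (CohIII.tensorMap P (idem X j)) p
    exact congrArg (fun φ => φ.hom cy) this
  have hsum : ∑ j ∈ F, (HomologicalComplex.cyclesMap (CohIII.tensorMap P (idem X j)) p).hom cy
      = cy := by
    apply (ModuleCat.mono_iff_injective
      ((CohIII.tensorObj P (ModuleCat.of A (⨁ j, X j))).iCycles p)).mp inferInstance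
    rw [map_sum, Finset.sum_congr rfl (fun j _ => h2 j)]
    exact hF F (Finset.Subset.refl F)
  calc ((CohIII.tensorObj P (ModuleCat.of A (⨁ j, X j))).homologyπ p).hom cy
      = ((CohIII.tensorObj P (ModuleCat.of A (⨁ j, X j))).homologyπ p).hom
          (∑ j ∈ F, (HomologicalComplex.cyclesMap (CohIII.tensorMap P (idem X j)) p).hom cy) := by
        rw [hsum]
    _ = ∑ j ∈ F, ((CohIII.tensorObj P (ModuleCat.of A (⨁ j, X j))).homologyπ p).hom
          ((HomologicalComplex.cyclesMap (CohIII.tensorMap P (idem X j)) p).hom cy) :=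
        map_sum _ _ _
    _ = _ := Finset.sum_congr rfl (fun j _ => (h1 j).symm)

lemma TFun_fin {J : Type u} [DecidableEq J] (X : J → ModuleCat.{u} A)
    (z : (CohIII.TFun P p).obj (ModuleCat.of A (⨁ j, X j))) :
    ∃ F : Finset J, z = ∑ j ∈ F, ((CohIII.TFun P p).map (idem X j)).hom z :=
  TFun_fin_aux P p X z

instance (J : Type u) : PreservesColimitsOfShape (Discrete J) (CohIII.TFun P p) :=
  preservesCoprod (CohIII.TFun P p) (fun J _ X z => TFun_fin P p X z) J

end TFun

end Groth.Agent.Lib.TFunCoprodH7
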