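import Mathlib
import Groth.Prelude.Def_Wider
import Groth.Agent.Lib.LocCohLES_helper7
import Groth.Agent.Lib.LocCohGV_helper7
import Groth.Agent.Lib.LocCohFunct_helper7
import Groth.Agent.Lib.LocCohColim_helper7
import Groth.Agent.Lib.LocCohH0_helper7
import Groth.Agent.Lib.LocCohExtVan_helper7
import Groth.Agent.Lib.EW_helper7
import Groth.Agent.Lib.TFunCoprod_helper7
import Groth.Agent.Lib.Depth_helper5

/-!
# Top local cohomology is `H^d_I(R) ⊗ M` (helper7, S17757)
-/

open CategoryTheory CategoryTheory.Limits Opposite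
open scoped DirectSum TensorProduct

namespace Groth.Agent.Lib.LocCohTopTensorH7

open Groth.Agent.Lib.LocCohLESH7 Groth.Agent.Lib.LocCohGVH7 Groth.Agent.Lib.LocCohFunctH7
open Groth.Agent.Lib.ExtCompareH7

universe u

variable {R : Type u} [CommRing R] (I : Ideal R)

instance linear_H (i : ℕ) : Functor.Linear R (localCohomology I i) :=
  ⟨fun f s => H_map_smul I i s f⟩

lemma exists_fg_rep [IsNoetherianRing R] (i : ℕ) (M : Type u) [AddCommGroup M] [Module R M]
    (x : ((localCohomology I i).obj (ModuleCat.of R M) : ModuleCat.{u} R)) :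
    ∃ (N : Submodule R M) (_ : N.FG)
      (xN : ((localCohomology I i).obj (ModuleCat.of R N) : ModuleCat.{u} R)),
      ((localCohomology I i).map (ModuleCat.ofHom N.subtype)).hom xN = x := by
  let x' : ((localCohomology I i).obj (cFG (R := R) M).pt : ModuleCat.{u} R) := x
  obtain ⟨k, ξ, hξ⟩ := exists_rep I i (cFG (R := R) M).pt x'
  haveI : Module.Finite R (Xk I k) :=
    (inferInstance : Module.Finite R (R ⧸ (localCohomology.idealPowersDiagram I).obj (unop k)))
  obtain ⟨N, ξN, hξN⟩ := Groth.Agent.Lib.LocCohColimH7.ext_exists_rep (KFG (R := R) M)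
    (cFG (R := R) M) (hcFG (R := R) M) (Xk I k) i ξ
  refine ⟨N.1, N.2, (ιk I i k ((KFG (R := R) M).obj N)).hom ξN, ?_⟩
  have h1 := ι_nat I i ((cFG (R := R) M).ι.app N) k ξN
  exact h1.trans ((congrArg (fun z => (ιk I i k (cFG (R := R) M).pt).hom z) hξN).trans hξ)

lemma sum_idem_apply {J : Type u} [DecidableEq J] (X : J → ModuleCat.{u} R) (x : ⨁ j, X j)
    (F : Finset J) (hF : ∀ j, j ∉ F → x j = 0) :
    ∑ j ∈ F, (Groth.Agent.Lib.TFunCoprodH7.idem X j).hom x = x := by
  classical
  have hsub : x.support ⊆ F := fun j hj => by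
    by_contra hjF
    exact (DFinsupp.mem_support_iff.1 hj) (hF j hjF)
  have h1 : ∑ j ∈ F, (DirectSum.lof R J (fun j => X j) j)
      ((DirectSum.component R J (fun j => X j) j) x) =
      ∑ j ∈ x.support, (DirectSum.lof R J (fun j => X j) j)
        ((DirectSum.component R J (fun j => X j) j) x) := by
    symm
    apply Finset.sum_subset hsub
    intro j _ hj
    have hx0 : x j = 0 := DFinsupp.notMem_support_iff.mp hj
    show (DirectSum.lof R J (fun j => X j) j) (x j) = 0
    rw [hx0, map_zero]
  show ∑ j ∈ F, (DirectSum.lof R J (fun j => X j) j)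
    ((DirectSum.component R J (fun j => X j) j) x) = x
  rw [h1]
  exact DirectSum.sum_support_of x

lemma H_fin [IsNoetherianRing R] (i : ℕ) (J : Type u) [DecidableEq J] (X : J → ModuleCat.{u} R)
    (z : (localCohomology I i).obj (ModuleCat.of R (⨁ j, X j))) :
    ∃ F : Finset J, z = ∑ j ∈ F,
      ((localCohomology I i).map (Groth.Agent.Lib.TFunCoprodH7.idem X j)).hom z := by
  classical
  obtain ⟨N, hN, zN, rfl⟩ := exists_fg_rep I i (⨁ j, X j) z
  obtain ⟨G, hG⟩ := hN
  let F : Finset J := G.biUnion (fun g => g.support)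
  have hzero : ∀ n ∈ N, ∀ j, j ∉ F → n j = 0 := by
    intro n hn
    rw [← hG] at hn
    induction hn using Submodule.span_induction with
    | mem g hg =>
      intro j hj
      by_contra h
      exact hj (Finset.mem_biUnion.2 ⟨g, hg, DFinsupp.mem_support_iff.2 h⟩)
    | zero =>
      intro j _
      rfl
    | add a b _ _ ha hb =>
      intro j hj
      rw [DirectSum.add_apply, ha j hj, hb j hj, add_zero]
    | smul c a _ ha =>
      intro j hj
      rw [DirectSum.smul_apply, ha j hj, smul_zero]
  refine ⟨F, ?_⟩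
  have hmor : ∑ j ∈ F, (ModuleCat.ofHom N.subtype ≫ Groth.Agent.Lib.TFunCoprodH7.idem X j) =
      ModuleCat.ofHom N.subtype := by
    apply ModuleCat.hom_ext
    apply LinearMap.ext
    intro n
    rw [ModuleCat.hom_sum, LinearMap.sum_apply]
    exact sum_idem_apply X (n : ⨁ j, X j) F (hzero n n.2)
  have h2 : ∀ j, ((localCohomology I i).map (Groth.Agent.Lib.TFunCoprodH7.idem X j)).hom
      (((localCohomology I i).map (ModuleCat.ofHom N.subtype)).hom zN) =
      ((localCohomology I i).map
        (ModuleCat.ofHom N.subtype ≫ Groth.Agent.Lib.TFunCoprodH7.idem X j)).hom zN := fun j => by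
    rw [Functor.map_comp]
    rfl
  rw [Finset.sum_congr rfl (fun j _ => h2 j)]
  have h3 := congrArg (fun φ => ((localCohomology I i).map φ).hom zN) hmor
  simp only [Functor.map_sum, ModuleCat.hom_sum, LinearMap.sum_apply] at h3
  exact h3.symm

lemma rightExact [IsNoetherianRing R] (p : ℕ)
    (hcd : ∀ (N : Type u) [AddCommGroup N] [Module R N], Subsingleton (LocCoh.H I (p + 2) N))
    (S : ShortComplex (ModuleCat.{u} R)) (hS : S.Exact ∧ Epi S.g) :
    (S.map (localCohomology I (p + 1))).Exact ∧ Epi ((localCohomology I (p + 1)).map S.g) := by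
  obtain ⟨hex, hepi⟩ := hS
  have hgsurj : Function.Surjective S.g.hom := (ModuleCat.epi_iff_surjective _).1 hepi
  have hexf : Function.Exact S.f.hom S.g.hom :=
    (ShortComplex.ShortExact.moduleCat_exact_iff_function_exact S).1 hex
  let K : Submodule R S.X₂ := LinearMap.ker S.g.hom
  have hex1 : Function.Exact K.subtype S.g.hom := by
    intro x
    constructor
    · intro hx
      exact ⟨⟨x, hx⟩, rfl⟩
    · rintro ⟨y, rfl⟩
      exact y.2
  have hS1 := Groth.Agent.DepthLib.shortComplexOf_shortExact K.subtype S.g.hom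
    K.injective_subtype hgsurj hex1
  let f' : S.X₁ →ₗ[R] K := LinearMap.codRestrict K S.f.hom (fun x => (hexf _).2 ⟨x, rfl⟩)
  have hf'surj : Function.Surjective f' := by
    intro y
    obtain ⟨x, hx⟩ := (hexf y.1).1 y.2
    exact ⟨x, Subtype.ext hx⟩
  let K' : Submodule R S.X₁ := LinearMap.ker f'
  have hex2 : Function.Exact K'.subtype f' := by
    intro x
    constructor
    · intro hx
      exact ⟨⟨x, hx⟩, rfl⟩
    · rintro ⟨y, rfl⟩
      exact y.2
  have hS2 := Groth.Agent.DepthLib.shortComplexOf_shortExact K'.subtype f'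
    K'.injective_subtype hf'surj hex2
  have hsurj1 : Function.Surjective
      ((localCohomology I (p + 1)).map (ModuleCat.ofHom S.g.hom)).hom :=
    surjective_of_subsingleton I hS1 p (hcd K)
  have hsurj2 : Function.Surjective
      ((localCohomology I (p + 1)).map (ModuleCat.ofHom f')).hom :=
    surjective_of_subsingleton I hS2 p (hcd K')
  have hfac : S.f = ModuleCat.ofHom f' ≫ ModuleCat.ofHom K.subtype := by
    apply ModuleCat.hom_ext
    apply LinearMap.ext
    intro x
    rfl
  constructor
  · rw [ShortComplex.moduleCat_exact_iff]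
    intro m hm
    obtain ⟨mK, hmK⟩ := exact_middle I hS1 p m hm
    obtain ⟨m₁, hm₁⟩ := hsurj2 mK
    refine ⟨m₁, ?_⟩
    calc ((localCohomology I (p + 1)).map S.f).hom m₁
        = ((localCohomology I (p + 1)).map (ModuleCat.ofHom K.subtype)).hom
            (((localCohomology I (p + 1)).map (ModuleCat.ofHom f')).hom m₁) := by
          rw [hfac, Functor.map_comp]
          rfl
      _ = m := by
          rw [hm₁]
          exact hmK
  · exact (ModuleCat.epi_iff_surjective _).2 hsurj1

theorem main_succ [IsNoetherianRing R] (p : ℕ) (hd : ringKrullDim R ≤ ((p + 1 : ℕ) : WithBot ℕ∞))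
    (M : Type u) [AddCommGroup M] [Module R M] :
    Nonempty (LocCoh.H I (p + 1) M ≃ₗ[R] TensorProduct R (LocCoh.H I (p + 1) R) M) := by
  have hcd : ∀ (N : Type u) [AddCommGroup N] [Module R N],
      Subsingleton (LocCoh.H I (p + 2) N) :=
    fun N _ _ => cdLE_of_dim I (p + 1) hd N (p + 2) (by omega)
  haveI : ∀ J : Type u, PreservesColimitsOfShape (Discrete J) (localCohomology I (p + 1)) :=
    fun J => Groth.Agent.Lib.TFunCoprodH7.preservesCoprod (localCohomology I (p + 1))
      (fun J _ X z => H_fin I (p + 1) J X z) J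
  have hbij := Groth.Agent.Lib.EWH7.tM_bij_of_rightExact (localCohomology I (p + 1))
    (fun S hS => rightExact I p hcd S hS) (ModuleCat.of R M)
  exact ⟨(LinearEquiv.ofBijective _ hbij).symm⟩

theorem main_zero [IsNoetherianRing R] [IsLocalRing R]
    (hd : ringKrullDim R = ((0 : ℕ) : WithBot ℕ∞))
    (M : Type u) [AddCommGroup M] [Module R M] :
    Nonempty (LocCoh.H I 0 M ≃ₗ[R] TensorProduct R (LocCoh.H I 0 R) M) := by
  by_cases hI : I = ⊤
  · subst hI
    have hsub : ∀ (N : Type u) [AddCommGroup N] [Module R N],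
        Subsingleton (LocCoh.H (⊤ : Ideal R) 0 N) := by
      intro N _ _
      rw [Groth.Agent.Lib.LocCohExtVanH7.H0_subsingleton_iff]
      intro x hx
      obtain ⟨n, hn⟩ := (Groth.Agent.Lib.InjHull_helper3.mem_Γ_iff _ x).1 hx
      have := hn 1 (by rw [Ideal.top_pow]; trivial)
      rwa [one_smul] at this
    haveI := hsub M
    haveI := hsub R
    haveI : Subsingleton (TensorProduct R (LocCoh.H (⊤ : Ideal R) 0 R) M) := by
      refine ⟨fun a b => ?_⟩
      have h0 : ∀ w : TensorProduct R (LocCoh.H (⊤ : Ideal R) 0 R) M, w = 0 := by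
        intro w
        induction w using TensorProduct.induction_on with
        | zero => rfl
        | tmul x y => rw [Subsingleton.elim x 0, TensorProduct.zero_tmul]
        | add a b ha hb => rw [ha, hb, add_zero]
      rw [h0 a, h0 b]
    exact ⟨LinearEquiv.ofSubsingleton _ _⟩
  · haveI : Ring.KrullDimLE 0 R := by
      rw [Ring.krullDimLE_iff]
      exact le_of_eq hd
    haveI : IsArtinianRing R := isArtinianRing_iff_krullDimLE_zero.2 inferInstance
    obtain ⟨n, hn⟩ := IsArtinianRing.isNilpotent_jacobson_bot (R := R)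
    have hIn : I ^ n = ⊥ := by
      rw [eq_bot_iff, ← Ideal.zero_eq_bot, ← hn]
      refine Ideal.pow_right_mono ?_ n
      rw [IsLocalRing.jacobson_eq_maximalIdeal ⊥ bot_ne_top]
      exact IsLocalRing.le_maximalIdeal hI
    have hpt : ∀ (N : Type u) [AddCommGroup N] [Module R N], LocCoh.IsPowerTorsion I N := by
      intro N _ _ x
      refine ⟨n, fun a ha => ?_⟩
      rw [hIn, Ideal.mem_bot] at ha
      rw [ha, zero_smul]
    obtain ⟨eM⟩ := Groth.Agent.Lib.LocCohH0H7.H0_equiv I M (hpt M)
    obtain ⟨eR⟩ := Groth.Agent.Lib.LocCohH0H7.H0_equiv I R (hpt R)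
    exact ⟨eM ≪≫ₗ (TensorProduct.lid R M).symm ≪≫ₗ
      TensorProduct.congr eR.symm (LinearEquiv.refl R M)⟩

theorem main [IsNoetherianRing R] [IsLocalRing R] (d : ℕ)
    (hd : ringKrullDim R = (d : WithBot ℕ∞)) (M : Type u) [AddCommGroup M] [Module R M] :
    Nonempty (LocCoh.H I d M ≃ₗ[R] TensorProduct R (LocCoh.H I d R) M) := by
  cases d with
  | zero => exact main_zero I hd M
  | succ p => exact main_succ I p (le_of_eq hd) M

end Groth.Agent.Lib.LocCohTopTensorH7
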