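import Mathlib
import Groth.Prelude.Def_GrLC
import Groth.Prelude.Def_Wider
import Groth.Agent.Lib.GrStar4_helper1
import Groth.Agent.Lib.GrStarLC_helper1
import Groth.Agent.Lib.GrLaurent_helper1
import Groth.Agent.Lib.LocCohArt2_helper7
import Groth.Agent.Lib.LocCohTopTensor_helper7

/-! Graded structure of graded local cohomology `E.H a i`: tails, Artinian pieces, a-invariant
(helper1; uses helper7's local cohomology library). -/

set_option autoImplicit false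

namespace Groth.Agent.Lib.GrHDecH1

open DirectSum GrLC

universe u

section tails

variable {R : Type u} [CommRing R] (𝒜 : ℤ → AddSubgroup R) [GradedRing 𝒜]
variable {X : Type u} [AddCommGroup X] [Module R X] (𝒳 : ℤ → AddSubgroup X) [Decomposition 𝒳]
  [SetLike.GradedSMul 𝒜 𝒳]

omit [GradedRing 𝒜] [Decomposition 𝒳] [SetLike.GradedSMul 𝒜 𝒳] in
theorem coe_eq_zero_of_bot {n : ℤ} (h : 𝒳 n = ⊥) (z : X) (hz : z ∈ 𝒳 n) : z = 0 := by
  rw [h] at hz
  exact (AddSubgroup.mem_bot).1 hz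

open Classical in
theorem decompose_smul_eq_sum (r : R) (x : X) (j : ℤ) :
    (decompose 𝒳 (r • x) j : X) =
      ∑ l ∈ (decompose 𝒜 r).support, (decompose 𝒜 r l : R) • (decompose 𝒳 x (j - l) : X) := by
  classical
  conv_lhs => rw [← DirectSum.sum_support_decompose 𝒜 r, Finset.sum_smul]
  rw [GrLaurentH1.coe_decompose_sum]
  refine Finset.sum_congr rfl (fun l _ => ?_)
  have := GrStarH1.decompose_smul_homog 𝒜 𝒳 (decompose 𝒜 r l).2 x (j - l)
  rwa [add_sub_cancel] at this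

/-- elements whose components vanish in degrees below `k` -/
def tail (hpos : ∀ n : ℤ, n < 0 → 𝒜 n = ⊥) (k : ℤ) : Submodule R X where
  carrier := {x | ∀ j : ℤ, j < k → (decompose 𝒳 x j : X) = 0}
  zero_mem' := fun j _ => by rw [decompose_zero, DirectSum.zero_apply, ZeroMemClass.coe_zero]
  add_mem' := by
    intro x y hx hy j hj
    rw [decompose_add, DirectSum.add_apply, AddSubgroup.coe_add, hx j hj, hy j hj, add_zero]
  smul_mem' := by
    intro r x hx j hj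
    rw [decompose_smul_eq_sum 𝒜 𝒳]
    refine Finset.sum_eq_zero (fun l _ => ?_)
    by_cases hl : l < 0
    · have : (decompose 𝒜 r l : R) = 0 := coe_eq_zero_of_bot 𝒜 (hpos l hl) _ (decompose 𝒜 r l).2
      rw [this, zero_smul]
    · rw [hx (j - l) (by omega), smul_zero]

variable (hpos : ∀ n : ℤ, n < 0 → 𝒜 n = ⊥)

theorem gr_le_tail {n k : ℤ} (h : k ≤ n) {x : X} (hx : x ∈ 𝒳 n) :
    x ∈ tail 𝒜 𝒳 hpos k := by
  intro j hj
  rw [decompose_of_mem_ne 𝒳 hx (by omega)]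

theorem eq_zero_of_mem_tail {n k : ℤ} (h : n < k) {x : X} (hx : x ∈ 𝒳 n)
    (hx' : x ∈ tail 𝒜 𝒳 hpos k) : x = 0 := by
  have := hx' n h
  rwa [decompose_of_mem_same 𝒳 hx] at this

theorem tail_anti {k k' : ℤ} (h : k ≤ k') : tail 𝒜 𝒳 hpos k' ≤ tail 𝒜 𝒳 hpos k :=
  fun _ hx j hj => hx j (lt_of_lt_of_le hj h)

include hpos in
/-- graded Artinian modules over positively graded rings are bounded above -/
theorem bounded_above_of_artinian [IsArtinian R X] : ∃ N : ℤ, ∀ n : ℤ, N ≤ n → 𝒳 n = ⊥ := by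
  let f : ℕ →o (Submodule R X)ᵒᵈ :=
    ⟨fun k => OrderDual.toDual (tail 𝒜 𝒳 hpos (k : ℤ)),
      fun a b hab => tail_anti 𝒜 𝒳 hpos (by exact_mod_cast hab)⟩
  obtain ⟨N, hN⟩ := IsArtinian.monotone_stabilizes f
  refine ⟨N, fun n hn => ?_⟩
  obtain ⟨k, rfl⟩ : ∃ k : ℕ, n = (k : ℤ) := ⟨n.toNat, by omega⟩
  have hk : N ≤ k := by exact_mod_cast hn
  rw [eq_bot_iff]
  intro x hx
  rw [AddSubgroup.mem_bot]
  have e1 := hN k hk
  have e2 := hN (k + 1) (by omega)
  have h1 : tail 𝒜 𝒳 hpos (k : ℤ) = tail 𝒜 𝒳 hpos ((k + 1 : ℕ) : ℤ) := e1.symm.trans e2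
  have h2 : x ∈ tail 𝒜 𝒳 hpos (k : ℤ) := gr_le_tail 𝒜 𝒳 hpos le_rfl hx
  rw [h1] at h2
  exact eq_zero_of_mem_tail 𝒜 𝒳 hpos (by push_cast; omega) hx h2

include hpos in
/-- pieces of a graded Artinian module over a positively graded ring are Artinian over `R₀` -/
theorem piece_artinian [IsArtinian R X] (n : ℤ) (Q : Submodule (deg0 𝒜) X)
    (hQ : ∀ x, x ∈ Q ↔ x ∈ 𝒳 n) : IsArtinian (deg0 𝒜) Q := by
  classical
  let Φ : Submodule (deg0 𝒜) Q → Submodule R X :=
    fun P => Submodule.span R ((P.map Q.subtype : Submodule (deg0 𝒜) X) : Set X)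
  have key : ∀ (P : Submodule (deg0 𝒜) Q) (x : X), x ∈ Φ P →
      x ∈ tail 𝒜 𝒳 hpos n ∧ (decompose 𝒳 x n : X) ∈ P.map Q.subtype := by
    intro P x hx
    induction hx using Submodule.span_induction with
    | mem x hx =>
      have hxQ : x ∈ Q := by
        obtain ⟨q, _, rfl⟩ := hx
        exact q.2
      have hxn : x ∈ 𝒳 n := (hQ x).1 hxQ
      refine ⟨gr_le_tail 𝒜 𝒳 hpos le_rfl hxn, ?_⟩
      rw [decompose_of_mem_same 𝒳 hxn]
      exact hx
    | zero =>
      refine ⟨Submodule.zero_mem _, ?_⟩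
      rw [decompose_zero, DirectSum.zero_apply, ZeroMemClass.coe_zero]
      exact Submodule.zero_mem _
    | add x y _ _ hx hy =>
      refine ⟨Submodule.add_mem _ hx.1 hy.1, ?_⟩
      rw [decompose_add, DirectSum.add_apply, AddSubgroup.coe_add]
      exact Submodule.add_mem _ hx.2 hy.2
    | smul r x _ hx =>
      refine ⟨Submodule.smul_mem _ r hx.1, ?_⟩
      rw [decompose_smul_eq_sum 𝒜 𝒳]
      refine Submodule.sum_mem _ (fun l _ => ?_)
      by_cases hl : l < 0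
      · have : (decompose 𝒜 r l : R) = 0 := coe_eq_zero_of_bot 𝒜 (hpos l hl) _ (decompose 𝒜 r l).2
        rw [this, zero_smul]
        exact Submodule.zero_mem _
      · by_cases hl0 : l = 0
        · subst hl0
          rw [sub_zero]
          exact Submodule.smul_mem (P.map Q.subtype)
            (⟨(decompose 𝒜 r 0 : R), (decompose 𝒜 r 0).2⟩ : deg0 𝒜) hx.2
        · rw [hx.1 (n - l) (by omega), smul_zero]
          exact Submodule.zero_mem _
  have hmono : StrictMono Φ := by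
    intro P P' h
    refine lt_of_le_of_ne (Submodule.span_mono (SetLike.coe_subset_coe.2 (Submodule.map_mono h.le))) ?_
    intro heq
    apply h.not_ge
    intro p hp
    have h1 : (p : X) ∈ Φ P' := Submodule.subset_span ⟨p, hp, rfl⟩
    rw [← heq] at h1
    have h2 := (key P _ h1).2
    rw [decompose_of_mem_same 𝒳 ((hQ _).1 p.2)] at h2
    obtain ⟨q, hq, hqp⟩ := h2
    have : q = p := Subtype.ext hqp
    rw [← this]
    exact hq
  exact hmono.wellFoundedLT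

/-- with `I = (R₁)` and `I X = X`, vanishing of a piece propagates upwards -/
theorem next_piece_bot (I : Ideal R) (hI : I = Ideal.span ((𝒜 1 : AddSubgroup R) : Set R))
    (htop : I • (⊤ : Submodule R X) = ⊤) (n : ℤ) (hn : 𝒳 n = ⊥) : 𝒳 (n + 1) = ⊥ := by
  have h1 : ∀ r ∈ I, ∀ y : X, (decompose 𝒳 (r • y) (n + 1) : X) = 0 := by
    intro r hr
    rw [hI] at hr
    induction hr using Submodule.span_induction with
    | mem r hr =>
      intro y
      have h := GrStarH1.decompose_smul_homog 𝒜 𝒳 (show r ∈ 𝒜 1 from hr) y n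
      rw [add_comm] at h
      rw [h]
      have : (decompose 𝒳 y n : X) = 0 := coe_eq_zero_of_bot 𝒳 hn _ (decompose 𝒳 y n).2
      rw [this, smul_zero]
    | zero =>
      intro y
      rw [zero_smul, decompose_zero, DirectSum.zero_apply, ZeroMemClass.coe_zero]
    | add r s _ _ hr hs =>
      intro y
      rw [add_smul, decompose_add, DirectSum.add_apply, AddSubgroup.coe_add, hr y, hs y, add_zero]
    | smul s r _ hr =>
      intro y
      rw [smul_eq_mul, mul_comm, mul_smul]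
      exact hr (s • y)
  have h2 : ∀ x ∈ I • (⊤ : Submodule R X), (decompose 𝒳 x (n + 1) : X) = 0 := by
    intro x hx
    refine Submodule.smul_induction_on hx (fun r hr y _ => h1 r hr y) (fun x y hx hy => ?_)
    rw [decompose_add, DirectSum.add_apply, AddSubgroup.coe_add, hx, hy, add_zero]
  rw [eq_bot_iff]
  intro x hx
  rw [AddSubgroup.mem_bot]
  have := h2 x (by rw [htop]; trivial)
  rwa [decompose_of_mem_same 𝒳 hx] at this

end tails

section enddeg

theorem ne_bot_of_endDeg_eq {M : Type u} [AddCommGroup M] (ℳ : ℤ → AddSubgroup M) (a : ℤ)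
    (h : GrLC.endDeg ℳ = ((a : WithTop ℤ) : WithBot (WithTop ℤ))) : ℳ a ≠ ⊥ := by
  intro h0
  have h1 : ∀ n : ℤ, ℳ n ≠ ⊥ → n ≤ a - 1 := by
    intro n hn
    have h2 : ((n : WithTop ℤ) : WithBot (WithTop ℤ)) ≤ GrLC.endDeg ℳ :=
      le_iSup₂ (f := fun (n : ℤ) (_ : ℳ n ≠ ⊥) => ((n : WithTop ℤ) : WithBot (WithTop ℤ))) n hn
    rw [h] at h2
    have h3 : n ≤ a := by exact_mod_cast h2
    have h4 : n ≠ a := fun e => hn (e ▸ h0)
    omega
  have h5 : GrLC.endDeg ℳ ≤ (((a - 1 : ℤ) : WithTop ℤ) : WithBot (WithTop ℤ)) := by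
    refine iSup₂_le (fun n hn => ?_)
    exact_mod_cast h1 n hn
  rw [h] at h5
  have h6 : a ≤ a - 1 := by exact_mod_cast h5
  omega

end enddeg

section HH

variable {ι : Type} [AddCommGroup ι] [DecidableEq ι]
variable {R : Type u} [CommRing R] (𝒜 : ι → AddSubgroup R) [GradedRing 𝒜]
variable {M : Type u} [AddCommGroup M] [Module R M] (ℳ : ι → AddSubgroup M) [Decomposition ℳ]
  [SetLike.GradedSMul 𝒜 ℳ] (a : HomogeneousIdeal 𝒜) (E : StarInjRes 𝒜 ℳ) (i : ℕ)

/-- the decomposition of `E.H a i` into its pieces -/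
@[reducible] noncomputable def HDecomp : Decomposition (E.Hgr a i) :=
  (GrStar4H1.main13225 𝒜 ℳ a E i).chooseDecomposition

theorem HGSMul : SetLike.GradedSMul 𝒜 (E.Hgr a i) where
  smul_mem := fun l g r x hr hx => by
    have hx' : ∃ z : ↥(E.cocyc a i), (z : (E.X i).carrier) ∈ (E.X i).gr g ∧ E.toH a i z = x := hx
    obtain ⟨z, hz, rfl⟩ := hx'
    show ∃ z' : ↥(E.cocyc a i), (z' : (E.X i).carrier) ∈ (E.X i).gr (l + g) ∧
      E.toH a i z' = r • E.toH a i z
    exact ⟨r • z, GrStarH1.smul_mem_gr 𝒜 (E.X i).gr hr hz, map_smul _ _ _⟩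

end HH

section art

variable {A : Type u} [CommRing A] [IsNoetherianRing A] (𝔪 : Ideal A) [𝔪.IsMaximal]

open Groth.Agent.Lib.LocCohArtH7 Groth.Agent.Lib.LocCohFinH7

theorem artinian_of_killed' (P : Type u) [AddCommGroup P] [Module A P] [Module.Finite A P]
    (hP : ∀ a ∈ 𝔪, ∀ y : P, a • y = 0) : IsArtinian A P := by
  have ht : Module.IsTorsionBySet A P (𝔪 : Set A) := by
    intro y a
    exact hP a.1 a.2 y
  letI : Module (A ⧸ 𝔪) P := ht.module
  haveI : IsScalarTower A (A ⧸ 𝔪) P := ht.isScalarTower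
  letI : Field (A ⧸ 𝔪) := Ideal.Quotient.field _
  haveI : Module.Finite (A ⧸ 𝔪) P := Module.Finite.of_restrictScalars_finite A _ _
  haveI : IsArtinian (A ⧸ 𝔪) P := inferInstance
  exact isArtinian_of_surjective_algebraMap (R := A ⧸ 𝔪) (S := A) (M := P)
    Ideal.Quotient.mk_surjective

theorem artinian_of_fg_torsion' (X : Type u) [AddCommGroup X] [Module A X] [Module.Finite A X]
    (hX : LocCoh.IsPowerTorsion 𝔪 X) : IsArtinian A X := by
  obtain ⟨S, hS⟩ : 𝔪.FG := IsNoetherian.noetherian _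
  have hX' : LocCoh.IsPowerTorsion (Ideal.span (S : Set A)) X := by
    rw [hS]
    exact hX
  apply melk_fg X S hX'
  rw [hS]
  apply artinian_of_killed' 𝔪
  intro a ha y
  apply Subtype.ext
  exact (Submodule.mem_torsionBySet_iff _ _).1 y.2 ⟨a, ha⟩

/-- local cohomology with support in a maximal ideal of a finite module is Artinian -/
theorem artinian_H (i : ℕ) :
    ∀ (M : Type u) [AddCommGroup M] [Module A M] [Module.Finite A M],
      IsArtinian A (LocCoh.H 𝔪 i M) := by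
  have hstep : ∀ p : ℕ,
      (∀ (Y : Type u) [AddCommGroup Y] [Module A Y] [Module.Finite A Y],
        IsArtinian A (LocCoh.H 𝔪 p Y)) →
      ∀ (M : Type u) [AddCommGroup M] [Module A M] [Module.Finite A M],
        IsArtinian A (LocCoh.H 𝔪 (p + 1) M) := by
    intro p ih M _ _ _
    apply reduce 𝔪 p M
    have htf : DRing.torsionSub 𝔪 (M ⧸ DRing.torsionSub 𝔪 M) = ⊥ :=
      torsionSub_quot_eq_bot 𝔪 M
    obtain ⟨x, hxI, hx⟩ := exists_regular 𝔪 (M ⧸ DRing.torsionSub 𝔪 M) htf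
    rcases p with _ | q
    · apply step1 𝔪 _ htf x hxI hx
      apply artinian_of_fg_torsion' 𝔪
      intro y
      obtain ⟨n, hn⟩ := y.2
      exact ⟨n, fun a ha => Subtype.ext (hn a ha)⟩
    · exact step2 𝔪 q _ x hxI hx (ih _)
  induction i with
  | zero =>
    intro M _ _ _
    obtain ⟨Ψ, hΨ⟩ := H0_injective 𝔪 M
    haveI : Module.Finite A (LocCoh.H 𝔪 0 M) := Module.Finite.of_injective Ψ hΨ
    exact artinian_of_fg_torsion' 𝔪 _ (Groth.Agent.Lib.LocCohTorsH7.main A 𝔪 0 M)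
  | succ i ih => exact hstep i ih

end art

section starlocal

variable {R : Type u} [CommRing R] (𝒜 : ℤ → AddSubgroup R) [GradedRing 𝒜]
variable (hpos : ∀ n : ℤ, n < 0 → 𝒜 n = ⊥)

include hpos in
theorem irr_le_tail : Ideal.span (⋃ n ∈ Set.Ioi (0 : ℤ), (𝒜 n : Set R)) ≤ tail 𝒜 𝒜 hpos 1 := by
  rw [Ideal.span_le]
  intro x hx
  obtain ⟨n, hn, hxn⟩ := Set.mem_iUnion₂.1 hx
  exact gr_le_tail 𝒜 𝒜 hpos (show (1 : ℤ) ≤ n from hn) hxn

include hpos in
theorem sub_decompose_zero_mem_irr (x : R) :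
    x - (decompose 𝒜 x 0 : R) ∈ Ideal.span (⋃ n ∈ Set.Ioi (0 : ℤ), (𝒜 n : Set R)) := by
  classical
  have hsum : ∑ l ∈ (decompose 𝒜 x).support, (decompose 𝒜 x l : R) = x :=
    DirectSum.sum_support_decompose 𝒜 x
  have h1 : x - (decompose 𝒜 x 0 : R) =
      ∑ l ∈ (decompose 𝒜 x).support.erase 0, (decompose 𝒜 x l : R) := by
    rw [sub_eq_iff_eq_add]
    by_cases h0 : (0 : ℤ) ∈ (decompose 𝒜 x).support
    · rw [Finset.sum_erase_add _ _ h0, hsum]
    · rw [Finset.erase_eq_of_notMem h0, hsum]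
      have : (decompose 𝒜 x 0 : R) = 0 := by
        rw [DFinsupp.mem_support_toFun, not_not] at h0
        rw [h0, ZeroMemClass.coe_zero]
      rw [this, add_zero]
  rw [h1]
  refine Ideal.sum_mem _ (fun l hl => ?_)
  by_cases hl0 : l < 0
  · have : (decompose 𝒜 x l : R) = 0 := coe_eq_zero_of_bot 𝒜 (hpos l hl0) _ (decompose 𝒜 x l).2
    rw [this]
    exact Ideal.zero_mem _
  · have hl1 : 0 < l := by
      have := Finset.ne_of_mem_erase hl
      omega
    exact Ideal.subset_span (Set.mem_iUnion₂.2 ⟨l, hl1, (decompose 𝒜 x l).2⟩)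

include hpos in
theorem isMaximal_of_starLocal (m : HomogeneousIdeal 𝒜) (hm : IsStarLocal 𝒜 m) :
    m.toIdeal.IsMaximal := by
  classical
  have hne : m ≠ ⊤ := hm.1.1
  have h1m : (1 : R) ∉ m.toIdeal := by
    intro h
    exact hne ((HomogeneousIdeal.eq_top_iff m).2 ((Ideal.eq_top_iff_one _).2 h))
  let Rp : HomogeneousIdeal 𝒜 :=
    ⟨Ideal.span (⋃ n ∈ Set.Ioi (0 : ℤ), (𝒜 n : Set R)), Ideal.homogeneous_span 𝒜 _ (by
      intro x hx
      obtain ⟨n, _, hxn⟩ := Set.mem_iUnion₂.1 hx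
      exact ⟨n, hxn⟩)⟩
  have hRp : Rp.toIdeal = Ideal.span (⋃ n ∈ Set.Ioi (0 : ℤ), (𝒜 n : Set R)) := rfl
  have hsup : m ⊔ Rp = m := by
    by_contra hcon
    have hlt : m < m ⊔ Rp := lt_of_le_of_ne le_sup_left (Ne.symm hcon)
    have htop := hm.1.2 _ hlt
    have h1 : (1 : R) ∈ (m ⊔ Rp).toIdeal := by
      rw [htop, HomogeneousIdeal.toIdeal_top]
      trivial
    rw [HomogeneousIdeal.toIdeal_sup] at h1
    obtain ⟨u, hu, v, hv, huv⟩ := Submodule.mem_sup.1 h1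
    have hv0 : (decompose 𝒜 v 0 : R) = 0 := irr_le_tail 𝒜 hpos (hRp ▸ hv) 0 (by norm_num)
    have hu0 : (decompose 𝒜 u 0 : R) ∈ m.toIdeal := m.isHomogeneous 0 hu
    have h10 : (decompose 𝒜 (1 : R) 0 : R) = 1 :=
      decompose_of_mem_same 𝒜 (SetLike.GradedOne.one_mem (A := 𝒜))
    have : (1 : R) = (decompose 𝒜 u 0 : R) := by
      rw [← h10, ← huv, decompose_add, DirectSum.add_apply, AddSubgroup.coe_add, hv0, add_zero]
    exact h1m (this ▸ hu0)
  have hRple : Rp.toIdeal ≤ m.toIdeal := by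
    have : Rp ≤ m := by
      rw [← hsup]
      exact le_sup_right
    exact this
  rw [Ideal.isMaximal_iff]
  refine ⟨h1m, fun J x hmJ hxm hxJ => ?_⟩
  have hsub : x - (decompose 𝒜 x 0 : R) ∈ m.toIdeal :=
    hRple (sub_decompose_zero_mem_irr 𝒜 hpos x)
  have hx0J : (decompose 𝒜 x 0 : R) ∈ J := by
    have : (decompose 𝒜 x 0 : R) = x - (x - (decompose 𝒜 x 0 : R)) := by ring
    rw [this]
    exact J.sub_mem hxJ (hmJ hsub)
  have hx0m : (decompose 𝒜 x 0 : R) ∉ m.toIdeal := by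
    intro h
    apply hxm
    have : x = (x - (decompose 𝒜 x 0 : R)) + (decompose 𝒜 x 0 : R) := by ring
    rw [this]
    exact m.toIdeal.add_mem hsub h
  let Sx : HomogeneousIdeal 𝒜 :=
    ⟨Ideal.span {(decompose 𝒜 x 0 : R)}, Ideal.homogeneous_span 𝒜 _ (by
      intro y hy
      rw [Set.mem_singleton_iff] at hy
      exact ⟨0, hy ▸ (decompose 𝒜 x 0).2⟩)⟩
  have hSx : Sx.toIdeal = Ideal.span {(decompose 𝒜 x 0 : R)} := rfl
  have hlt : m < m ⊔ Sx := by
    refine lt_of_le_of_ne le_sup_left ?_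
    intro heq
    apply hx0m
    have : Sx ≤ m := by
      rw [heq]
      exact le_sup_right
    exact (show Sx.toIdeal ≤ m.toIdeal from this)
      (hSx ▸ Ideal.subset_span (Set.mem_singleton _))
  have htop := hm.1.2 _ hlt
  have h1 : (1 : R) ∈ (m ⊔ Sx).toIdeal := by
    rw [htop, HomogeneousIdeal.toIdeal_top]
    trivial
  rw [HomogeneousIdeal.toIdeal_sup] at h1
  refine (sup_le hmJ ?_ : m.toIdeal ⊔ Sx.toIdeal ≤ J) h1
  rw [hSx, Ideal.span_le]
  intro y hy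
  rw [Set.mem_singleton_iff] at hy
  exact hy ▸ hx0J

end starlocal

section mains

variable (R : Type u) [CommRing R] [IsNoetherianRing R] (𝒜 : ℤ → AddSubgroup R) [GradedRing 𝒜]
  (hpos : ∀ n : ℤ, n < 0 → 𝒜 n = ⊥)

include hpos in
theorem H_artinian (m : HomogeneousIdeal 𝒜) (hm : IsStarLocal 𝒜 m)
    (M : Type u) [AddCommGroup M] [Module R M] [Module.Finite R M] (ℳ : ℤ → AddSubgroup M)
    [Decomposition ℳ] [SetLike.GradedSMul 𝒜 ℳ] (E : StarInjRes 𝒜 ℳ) (i : ℕ) :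
    IsArtinian R (E.H m i) := by
  haveI := isMaximal_of_starLocal 𝒜 hpos m hm
  obtain ⟨e⟩ := GrStarLCH1.main13224 R 𝒜 m M ℳ E i
  haveI := artinian_H m.toIdeal i M
  exact isArtinian_of_linearEquiv e.symm

include hpos in
theorem main17767 (m : HomogeneousIdeal 𝒜) (hm : IsStarLocal 𝒜 m)
    (M : Type u) [AddCommGroup M] [Module R M] [Module.Finite R M] (ℳ : ℤ → AddSubgroup M)
    [Decomposition ℳ] [SetLike.GradedSMul 𝒜 ℳ] (E : StarInjRes 𝒜 ℳ) (i : ℕ) :
    ∃ N : ℤ, ∀ n : ℤ, N ≤ n → E.Hcomp m i n = ⊥ := by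
  haveI := H_artinian R 𝒜 hpos m hm M ℳ E i
  letI := HDecomp 𝒜 ℳ m E i
  haveI := HGSMul 𝒜 ℳ m E i
  obtain ⟨N, hN⟩ := bounded_above_of_artinian 𝒜 (E.Hgr m i) hpos
  refine ⟨N, fun n hn => ?_⟩
  have h := hN n hn
  rw [eq_bot_iff]
  intro x hx
  have hx' : x ∈ E.Hgr m i n := hx
  rw [h, AddSubgroup.mem_bot] at hx'
  rw [hx']
  exact Submodule.zero_mem _

include hpos in
theorem main17768 (m : HomogeneousIdeal 𝒜) (hm : IsStarLocal 𝒜 m)
    (M : Type u) [AddCommGroup M] [Module R M] [Module.Finite R M] (ℳ : ℤ → AddSubgroup M)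
    [Decomposition ℳ] [SetLike.GradedSMul 𝒜 ℳ] (E : StarInjRes 𝒜 ℳ) (i : ℕ) (n : ℤ) :
    IsArtinian (GrLC.deg0 𝒜) (E.Hcomp m i n) := by
  haveI := H_artinian R 𝒜 hpos m hm M ℳ E i
  letI := HDecomp 𝒜 ℳ m E i
  haveI := HGSMul 𝒜 ℳ m E i
  exact piece_artinian 𝒜 (E.Hgr m i) hpos n (E.Hcomp m i n) (fun _ => Iff.rfl)

theorem smul_top_H (m : HomogeneousIdeal 𝒜) (r : ℕ) (hr : ringKrullDim R = r) (h1 : 1 ≤ r)
    (I : StarInjRes 𝒜 𝒜) : m.toIdeal • (⊤ : Submodule R (I.H m r)) = ⊤ := by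
  obtain ⟨p, rfl⟩ : ∃ p, r = p + 1 := ⟨r - 1, by omega⟩
  obtain ⟨e⟩ := GrStarLCH1.main13224 R 𝒜 m R 𝒜 I (p + 1)
  obtain ⟨t⟩ := Groth.Agent.Lib.LocCohTopTensorH7.main_succ m.toIdeal p (le_of_eq hr)
    (R ⧸ m.toIdeal)
  have htors : LocCoh.IsPowerTorsion m.toIdeal (R ⧸ m.toIdeal) := by
    intro x
    refine ⟨1, fun a ha => ?_⟩
    rw [pow_one] at ha
    obtain ⟨y, rfl⟩ := Ideal.Quotient.mk_surjective x
    rw [Algebra.smul_def, Ideal.Quotient.algebraMap_eq, ← map_mul]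
    exact Ideal.Quotient.eq_zero_iff_mem.2 (Ideal.mul_mem_right _ _ ha)
  haveI := Groth.Agent.Lib.LocCohTorsVanishH7.H_subsingleton m.toIdeal (R ⧸ m.toIdeal) htors p
  haveI : Subsingleton (TensorProduct R (LocCoh.H m.toIdeal (p + 1) R) (R ⧸ m.toIdeal)) :=
    t.symm.toEquiv.subsingleton
  haveI : Subsingleton (LocCoh.H m.toIdeal (p + 1) R ⧸
      (m.toIdeal • (⊤ : Submodule R (LocCoh.H m.toIdeal (p + 1) R)))) :=
    (TensorProduct.tensorQuotEquivQuotSMul (LocCoh.H m.toIdeal (p + 1) R)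
      m.toIdeal).symm.toEquiv.subsingleton
  have htop' : m.toIdeal • (⊤ : Submodule R (LocCoh.H m.toIdeal (p + 1) R)) = ⊤ :=
    Submodule.Quotient.subsingleton_iff.1 inferInstance
  rw [eq_top_iff]
  intro h _
  have h1 : e h ∈ m.toIdeal • (⊤ : Submodule R (LocCoh.H m.toIdeal (p + 1) R)) := by
    rw [htop']; trivial
  have h2 : e.symm (e h) ∈ (m.toIdeal • (⊤ : Submodule R (LocCoh.H m.toIdeal (p + 1) R))).map
      e.symm.toLinearMap := Submodule.mem_map_of_mem h1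
  rw [Submodule.map_smul'', LinearEquiv.symm_apply_apply] at h2
  exact Submodule.smul_mono le_rfl le_top h2

omit hpos in
theorem main18656 (h0 : IsField (GrLC.deg0 𝒜)) (m : HomogeneousIdeal 𝒜)
    (hm : GrLC.IsStarLocal 𝒜 m)
    (hmsp : m.toIdeal = Ideal.span (⋃ n ∈ Set.Ioi (0 : ℤ), (𝒜 n : Set R)))
    (hstd : Ideal.span (⋃ n ∈ Set.Ioi (0 : ℤ), (𝒜 n : Set R)) =
      Ideal.span ((𝒜 1 : AddSubgroup R) : Set R))
    (r : ℕ) (hr : ringKrullDim R = r) (h1 : 1 ≤ r) (I : GrLC.StarInjRes 𝒜 𝒜) (a : ℤ)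
    (ha : GrLC.endDeg (I.Hgr m r) = ((a : WithTop ℤ) : WithBot (WithTop ℤ))) (n : ℤ)
    (hn : n ≤ a) : I.Hcomp m r n ≠ ⊥ := by
  intro hbot
  letI := HDecomp 𝒜 𝒜 m I r
  haveI := HGSMul 𝒜 𝒜 m I r
  have htop := smul_top_H R 𝒜 m r hr h1 I
  have hI : m.toIdeal = Ideal.span ((𝒜 1 : AddSubgroup R) : Set R) := hmsp.trans hstd
  have hbot' : I.Hgr m r n = ⊥ := by
    rw [eq_bot_iff]
    intro x hx
    have hx' : x ∈ I.Hcomp m r n := hx
    rw [hbot, Submodule.mem_bot] at hx'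
    rw [AddSubgroup.mem_bot]
    exact hx'
  have hall : ∀ k : ℕ, I.Hgr m r (n + k) = ⊥ := by
    intro k
    induction k with
    | zero => simpa using hbot'
    | succ k ih =>
      have := next_piece_bot 𝒜 (I.Hgr m r) m.toIdeal hI htop (n + k) ih
      rw [add_assoc] at this
      exact_mod_cast this
  have hk := hall (a - n).toNat
  rw [show n + ((a - n).toNat : ℤ) = a by omega] at hk
  exact ne_bot_of_endDeg_eq (I.Hgr m r) a ha hk

end mains

end Groth.Agent.Lib.GrHDecH1
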