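import Mathlib
import Groth.Prelude.Def_GrLC
import Groth.Agent.Lib.GrLES1_helper1

/-! Graded local cohomology from *injective resolutions: products, horseshoe lemma, the long exact
sequence (helper1). -/

set_option autoImplicit false

namespace Groth.Agent.Lib.GrLES2H1

open DirectSum GrLC Groth.Agent.Lib.GrStarH1 Groth.Agent.Lib.GrStar2H1 Groth.Agent.Lib.GrLES1H1

universe u

variable {ι : Type} [AddCommGroup ι] [DecidableEq ι]
variable {R : Type u} [CommRing R]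

/-! ### products of graded modules -/
section prod

variable {A B : Type u} [AddCommGroup A] [AddCommGroup B]
  (𝓐 : ι → AddSubgroup A) (𝓑 : ι → AddSubgroup B)

/-- pieces of the product -/
def prodGr (g : ι) : AddSubgroup (A × B) := (𝓐 g).prod (𝓑 g)

theorem mem_prodGr {g : ι} {x : A × B} : x ∈ prodGr 𝓐 𝓑 g ↔ x.1 ∈ 𝓐 g ∧ x.2 ∈ 𝓑 g := Iff.rfl

/-- left inclusion on pieces -/
def inlC (g : ι) : 𝓐 g →+ prodGr 𝓐 𝓑 g where
  toFun a := ⟨((a : A), 0), ⟨a.2, zero_mem _⟩⟩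
  map_zero' := rfl
  map_add' a b := by
    apply Subtype.ext
    simp

/-- right inclusion on pieces -/
def inrC (g : ι) : 𝓑 g →+ prodGr 𝓐 𝓑 g where
  toFun b := ⟨(0, (b : B)), ⟨zero_mem _, b.2⟩⟩
  map_zero' := rfl
  map_add' a b := by
    apply Subtype.ext
    simp

theorem coe_map_inl (y : ⨁ g, 𝓐 g) :
    DirectSum.coeAddMonoidHom (prodGr 𝓐 𝓑) (DirectSum.map (inlC 𝓐 𝓑) y) =
      (DirectSum.coeAddMonoidHom 𝓐 y, 0) := by
  induction y using DirectSum.induction_on with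
  | zero =>
    rw [map_zero, map_zero, map_zero]
    rfl
  | of g a =>
    rw [DirectSum.map_of, DirectSum.coeAddMonoidHom_of, DirectSum.coeAddMonoidHom_of]
    rfl
  | add y y' hy hy' =>
    rw [map_add, map_add, map_add, hy, hy', Prod.mk_add_mk, add_zero]

theorem coe_map_inr (y : ⨁ g, 𝓑 g) :
    DirectSum.coeAddMonoidHom (prodGr 𝓐 𝓑) (DirectSum.map (inrC 𝓐 𝓑) y) =
      (0, DirectSum.coeAddMonoidHom 𝓑 y) := by
  induction y using DirectSum.induction_on with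
  | zero =>
    rw [map_zero, map_zero, map_zero]
    rfl
  | of g a =>
    rw [DirectSum.map_of, DirectSum.coeAddMonoidHom_of, DirectSum.coeAddMonoidHom_of]
    rfl
  | add y y' hy hy' =>
    rw [map_add, map_add, map_add, hy, hy', Prod.mk_add_mk, add_zero]

variable [Decomposition 𝓐] [Decomposition 𝓑]

/-- decomposition map of the product -/
noncomputable def prodDec : A × B →+ ⨁ g, prodGr 𝓐 𝓑 g :=
  ((DirectSum.map (inlC 𝓐 𝓑)).comp
    ((decomposeAddEquiv 𝓐).toAddMonoidHom.comp (AddMonoidHom.fst A B))) +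
  ((DirectSum.map (inrC 𝓐 𝓑)).comp
    ((decomposeAddEquiv 𝓑).toAddMonoidHom.comp (AddMonoidHom.snd A B)))

theorem prodDec_apply (x : A × B) :
    prodDec 𝓐 𝓑 x = DirectSum.map (inlC 𝓐 𝓑) (decompose 𝓐 x.1) +
      DirectSum.map (inrC 𝓐 𝓑) (decompose 𝓑 x.2) := rfl

/-- the product decomposition -/
noncomputable def prodDecomp : Decomposition (prodGr 𝓐 𝓑) :=
  Decomposition.ofAddHom _ (prodDec 𝓐 𝓑)
    (by
      apply AddMonoidHom.ext
      intro x
      rw [AddMonoidHom.comp_apply, prodDec_apply, map_add, coe_map_inl, coe_map_inr,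
        AddMonoidHom.id_apply]
      have h1 : DirectSum.coeAddMonoidHom 𝓐 (decompose 𝓐 x.1) = x.1 :=
        Decomposition.left_inv x.1
      have h2 : DirectSum.coeAddMonoidHom 𝓑 (decompose 𝓑 x.2) = x.2 :=
        Decomposition.left_inv x.2
      rw [h1, h2, Prod.mk_add_mk, add_zero, zero_add])
    (by
      apply DirectSum.addHom_ext
      rintro g ⟨⟨x, y⟩, ⟨hx, hy⟩⟩
      rw [AddMonoidHom.comp_apply, DirectSum.coeAddMonoidHom_of, AddMonoidHom.id_apply,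
        prodDec_apply]
      have hx' : x ∈ 𝓐 g := hx
      have hy' : y ∈ 𝓑 g := hy
      show DirectSum.map (inlC 𝓐 𝓑) (decompose 𝓐 x) + DirectSum.map (inrC 𝓐 𝓑) (decompose 𝓑 y) = _
      rw [decompose_of_mem 𝓐 hx', decompose_of_mem 𝓑 hy', DirectSum.map_of, DirectSum.map_of,
        ← map_add]
      congr 1
      apply Subtype.ext
      show ((x, 0) : A × B) + (0, y) = (x, y)
      rw [Prod.mk_add_mk, add_zero, zero_add])

end prod

variable (𝒜 : ι → AddSubgroup R) [GradedRing 𝒜]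

section prodmod

variable {A B : Type u} [AddCommGroup A] [Module R A] [AddCommGroup B] [Module R B]
  (𝓐 : ι → AddSubgroup A) (𝓑 : ι → AddSubgroup B)

theorem prod_gsmul [SetLike.GradedSMul 𝒜 𝓐] [SetLike.GradedSMul 𝒜 𝓑] :
    SetLike.GradedSMul 𝒜 (prodGr 𝓐 𝓑) where
  smul_mem := fun _ _ _ _ hr hx =>
    ⟨SetLike.GradedSMul.smul_mem (A := 𝒜) (B := 𝓐) hr hx.1,
      SetLike.GradedSMul.smul_mem (A := 𝒜) (B := 𝓑) hr hx.2⟩

end prodmod

/-- the product of two graded modules, bundled -/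
noncomputable def prodGMod (X Y : GMod.{u} 𝒜) : GMod.{u} 𝒜 :=
  letI := prodDecomp X.gr Y.gr
  letI := prod_gsmul 𝒜 X.gr Y.gr
  { carrier := X.carrier × Y.carrier, gr := prodGr X.gr Y.gr }

theorem prod_starInj (X Y : GMod.{u} 𝒜) (hX : IsStarInj 𝒜 X.gr) (hY : IsStarInj 𝒜 Y.gr) :
    IsStarInj 𝒜 (prodGMod 𝒜 X Y).gr := by
  intro A B f hf hinj g hg
  obtain ⟨h1, hh1, e1⟩ := hX A B f hf hinj
    (LinearMap.fst R X.carrier Y.carrier ∘ₗ g) (fun k m hm => (hg k m hm).1)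
  obtain ⟨h2, hh2, e2⟩ := hY A B f hf hinj
    (LinearMap.snd R X.carrier Y.carrier ∘ₗ g) (fun k m hm => (hg k m hm).2)
  refine ⟨LinearMap.prod h1 h2, fun k m hm => ⟨hh1 k m hm, hh2 k m hm⟩, ?_⟩
  apply LinearMap.ext
  intro x
  exact Prod.ext (LinearMap.congr_fun e1 x) (LinearMap.congr_fun e2 x)

variable {𝒜}

/-! ### the horseshoe lemma -/
section horseshoe

variable {M' : Type u} [AddCommGroup M'] [Module R M'] {ℳ' : ι → AddSubgroup M'}
  [Decomposition ℳ'] [SetLike.GradedSMul 𝒜 ℳ']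
variable {M : Type u} [AddCommGroup M] [Module R M] {ℳ : ι → AddSubgroup M} [Decomposition ℳ]
  [SetLike.GradedSMul 𝒜 ℳ]
variable {M'' : Type u} [AddCommGroup M''] [Module R M''] {ℳ'' : ι → AddSubgroup M''}
  [Decomposition ℳ''] [SetLike.GradedSMul 𝒜 ℳ'']

variable (R) in
/-- a short exact sequence of graded modules -/
structure SES (ℳ' : ι → AddSubgroup M') (ℳ : ι → AddSubgroup M) (ℳ'' : ι → AddSubgroup M'') where
  u : M' →ₗ[R] M
  p : M →ₗ[R] M''
  hu : IsGrHom ℳ' ℳ u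
  hp : IsGrHom ℳ ℳ'' p
  inj : Function.Injective u
  surj : Function.Surjective p
  exact : LinearMap.ker p = LinearMap.range u

variable (S : SES R ℳ' ℳ ℳ'') (E' : StarInjRes 𝒜 ℳ') (E'' : StarInjRes 𝒜 ℳ'')

theorem SES.p_u (m' : M') : S.p (S.u m') = 0 := by
  have : S.u m' ∈ LinearMap.ker S.p := by
    rw [S.exact]
    exact ⟨m', rfl⟩
  exact this

theorem exists_lam : ∃ l : M →ₗ[R] (E'.X 0).carrier, IsGrHom ℳ (E'.X 0).gr l ∧
    ∀ m', l (S.u m') = E'.ε m' := by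
  obtain ⟨h, hh, e⟩ := starInj_ext 𝒜 ℳ' ℳ (E'.starInj 0) S.u S.hu S.inj E'.ε E'.ε_grHom
  exact ⟨h, hh, fun m' => LinearMap.congr_fun e m'⟩

/-- extension of the augmentation of `E'` to `M` -/
noncomputable def lam : M →ₗ[R] (E'.X 0).carrier := (exists_lam S E').choose

theorem lam_gr : IsGrHom ℳ (E'.X 0).gr (lam S E') := (exists_lam S E').choose_spec.1

theorem lam_u (m' : M') : lam S E' (S.u m') = E'.ε m' := (exists_lam S E').choose_spec.2 m'

/-- invariant for the twisting maps -/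
def ThetaP (n : ℕ) (θ : (E''.X n).carrier →ₗ[R] (E'.X (n + 1)).carrier) : Prop :=
  IsGrHom (E''.X n).gr (E'.X (n + 1)).gr θ ∧ ∀ y, E''.d n y = 0 → E'.d (n + 1) (θ y) = 0

theorem theta_zero : ∃ θ, ThetaP E' E'' 0 θ ∧
    ∀ m, θ (E''.ε (S.p m)) = -(E'.d 0 (lam S E' m)) := by
  have hgr1 : IsGrHom ℳ (E''.X 0).gr (E''.ε ∘ₗ S.p) :=
    fun k m hm => E''.ε_grHom k _ (S.hp k m hm)
  have hgr2 : IsGrHom ℳ (E'.X 1).gr (-(E'.d 0 ∘ₗ lam S E')) :=
    isGrHom_neg _ _ (fun k m hm => E'.d_grHom 0 k _ (lam_gr S E' k m hm))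
  have hker : LinearMap.ker (E''.ε ∘ₗ S.p) ≤ LinearMap.ker (-(E'.d 0 ∘ₗ lam S E')) := by
    intro m hm
    have h1 : E''.ε (S.p m) = 0 := hm
    have h2 : S.p m = 0 := E''.ε_injective (by rw [h1, map_zero])
    have h3 : m ∈ LinearMap.range S.u := by
      rw [← S.exact]
      exact h2
    obtain ⟨m', rfl⟩ := h3
    rw [LinearMap.mem_ker, LinearMap.neg_apply, LinearMap.comp_apply, lam_u, d_ε, neg_zero]
  obtain ⟨θ, hθ, hspec⟩ := ext_through 𝒜 ℳ (E''.X 0).gr (E'.X 1).gr (E'.starInj 1)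
    (E''.ε ∘ₗ S.p) hgr1 (-(E'.d 0 ∘ₗ lam S E')) hgr2 hker
  refine ⟨θ, ⟨hθ, fun y hy => ?_⟩, fun m => ?_⟩
  · obtain ⟨m'', rfl⟩ := exists_of_d_zero E'' y hy
    obtain ⟨m, rfl⟩ := S.surj m''
    have := hspec m
    rw [LinearMap.comp_apply] at this
    rw [this, LinearMap.neg_apply, LinearMap.comp_apply, map_neg, d_d, neg_zero]
  · have := hspec m
    rw [LinearMap.comp_apply] at this
    rw [this, LinearMap.neg_apply, LinearMap.comp_apply]

theorem theta_succ (n : ℕ) (θ : (E''.X n).carrier →ₗ[R] (E'.X (n + 1)).carrier)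
    (hθ : ThetaP E' E'' n θ) : ∃ θ', ThetaP E' E'' (n + 1) θ' ∧
      ∀ y, θ' (E''.d n y) = -(E'.d (n + 1) (θ y)) := by
  have hgr2 : IsGrHom (E''.X n).gr (E'.X (n + 2)).gr (-(E'.d (n + 1) ∘ₗ θ)) :=
    isGrHom_neg _ _ (fun k m hm => E'.d_grHom (n + 1) k _ (hθ.1 k m hm))
  have hker : LinearMap.ker (E''.d n) ≤ LinearMap.ker (-(E'.d (n + 1) ∘ₗ θ)) := by
    intro y hy
    rw [LinearMap.mem_ker, LinearMap.neg_apply, LinearMap.comp_apply, hθ.2 y hy, neg_zero]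
  obtain ⟨θ', hθ', hspec⟩ := ext_through 𝒜 (E''.X n).gr (E''.X (n + 1)).gr (E'.X (n + 2)).gr
    (E'.starInj (n + 2)) (E''.d n) (E''.d_grHom n) (-(E'.d (n + 1) ∘ₗ θ)) hgr2 hker
  refine ⟨θ', ⟨hθ', fun y hy => ?_⟩, fun y => ?_⟩
  · obtain ⟨w, rfl⟩ := exists_of_d_succ E'' n y hy
    rw [hspec, LinearMap.neg_apply, LinearMap.comp_apply, map_neg, d_d, neg_zero]
  · rw [hspec, LinearMap.neg_apply, LinearMap.comp_apply]

/-- the recursively constructed twisting maps -/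
noncomputable def thetaSeq :
    (n : ℕ) → {θ : (E''.X n).carrier →ₗ[R] (E'.X (n + 1)).carrier // ThetaP E' E'' n θ}
  | 0 => ⟨(theta_zero S E' E'').choose, (theta_zero S E' E'').choose_spec.1⟩
  | n + 1 => ⟨(theta_succ E' E'' n (thetaSeq n).1 (thetaSeq n).2).choose,
      (theta_succ E' E'' n (thetaSeq n).1 (thetaSeq n).2).choose_spec.1⟩

/-- the twisting maps -/
noncomputable def theta (n : ℕ) : (E''.X n).carrier →ₗ[R] (E'.X (n + 1)).carrier :=
  (thetaSeq S E' E'' n).1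

theorem theta_gr (n : ℕ) : IsGrHom (E''.X n).gr (E'.X (n + 1)).gr (theta S E' E'' n) :=
  (thetaSeq S E' E'' n).2.1

theorem theta_ε (m : M) : theta S E' E'' 0 (E''.ε (S.p m)) = -(E'.d 0 (lam S E' m)) :=
  (theta_zero S E' E'').choose_spec.2 m

theorem theta_d (n : ℕ) (y : (E''.X n).carrier) :
    theta S E' E'' (n + 1) (E''.d n y) = -(E'.d (n + 1) (theta S E' E'' n y)) :=
  (theta_succ E' E'' n (thetaSeq S E' E'' n).1 (thetaSeq S E' E'' n).2).choose_spec.2 y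

/-- the differential of the middle resolution -/
noncomputable def hsD (n : ℕ) : (E'.X n).carrier × (E''.X n).carrier →ₗ[R]
    (E'.X (n + 1)).carrier × (E''.X (n + 1)).carrier :=
  LinearMap.prod (E'.d n ∘ₗ LinearMap.fst R _ _ + theta S E' E'' n ∘ₗ LinearMap.snd R _ _)
    (E''.d n ∘ₗ LinearMap.snd R _ _)

theorem hsD_apply (n : ℕ) (x : (E'.X n).carrier × (E''.X n).carrier) :
    hsD S E' E'' n x = (E'.d n x.1 + theta S E' E'' n x.2, E''.d n x.2) := rfl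

/-- the augmentation of the middle resolution -/
noncomputable def hsε : M →ₗ[R] (E'.X 0).carrier × (E''.X 0).carrier :=
  LinearMap.prod (lam S E') (E''.ε ∘ₗ S.p)

theorem hsε_apply (m : M) : hsε S E' E'' m = (lam S E' m, E''.ε (S.p m)) := rfl

theorem hsε_injective : Function.Injective (hsε S E' E'') := by
  rw [injective_iff_map_eq_zero]
  intro m hm
  rw [hsε_apply, Prod.mk_eq_zero] at hm
  have h2 : S.p m = 0 := E''.ε_injective (by rw [hm.2, map_zero])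
  have h3 : m ∈ LinearMap.range S.u := by
    rw [← S.exact]
    exact h2
  obtain ⟨m', rfl⟩ := h3
  have h4 := hm.1
  rw [lam_u] at h4
  have : m' = 0 := E'.ε_injective (by rw [h4, map_zero])
  rw [this, map_zero]

theorem hs_exact_zero : LinearMap.ker (hsD S E' E'' 0) = LinearMap.range (hsε S E' E'') := by
  apply le_antisymm
  · intro x hx
    rw [LinearMap.mem_ker, hsD_apply, Prod.mk_eq_zero] at hx
    obtain ⟨m'', hm''⟩ := exists_of_d_zero E'' x.2 hx.2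
    obtain ⟨m, rfl⟩ := S.surj m''
    have h1 : E'.d 0 (x.1 - lam S E' m) = 0 := by
      have := hx.1
      rw [← hm'', theta_ε] at this
      rw [map_sub, sub_eq_add_neg]
      exact this
    obtain ⟨m', hm'⟩ := exists_of_d_zero E' _ h1
    refine ⟨m + S.u m', ?_⟩
    rw [hsε_apply, map_add, map_add, lam_u, S.p_u, add_zero, hm', hm'']
    exact Prod.ext (by simp) rfl
  · rintro _ ⟨m, rfl⟩
    rw [LinearMap.mem_ker, hsε_apply, hsD_apply, Prod.mk_eq_zero]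
    exact ⟨by rw [theta_ε, add_neg_cancel], d_ε E'' _⟩

theorem hs_exact_succ (n : ℕ) :
    LinearMap.ker (hsD S E' E'' (n + 1)) = LinearMap.range (hsD S E' E'' n) := by
  apply le_antisymm
  · intro x hx
    rw [LinearMap.mem_ker, hsD_apply, Prod.mk_eq_zero] at hx
    obtain ⟨w, hw⟩ := exists_of_d_succ E'' n x.2 hx.2
    have h1 : E'.d (n + 1) (x.1 - theta S E' E'' n w) = 0 := by
      have := hx.1
      rw [← hw, theta_d] at this
      rw [map_sub, sub_eq_add_neg]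
      exact this
    obtain ⟨v, hv⟩ := exists_of_d_succ E' n _ h1
    refine ⟨(v, w), ?_⟩
    rw [hsD_apply]
    exact Prod.ext (by simp [hv]) hw
  · rintro _ ⟨y, rfl⟩
    rw [LinearMap.mem_ker, hsD_apply, hsD_apply, Prod.mk_eq_zero]
    refine ⟨?_, d_d E'' n _⟩
    show E'.d (n + 1) (E'.d n y.1 + theta S E' E'' n y.2) + theta S E' E'' (n + 1) (E''.d n y.2) = 0
    rw [map_add, d_d, zero_add, theta_d, add_neg_cancel]

/-- the middle resolution of the horseshoe lemma -/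
noncomputable def hs : StarInjRes 𝒜 ℳ where
  X := fun n => prodGMod 𝒜 (E'.X n) (E''.X n)
  d := fun n => hsD S E' E'' n
  ε := hsε S E' E''
  d_grHom := fun n k x hx =>
    ⟨add_mem (E'.d_grHom n k _ hx.1) (theta_gr S E' E'' n k _ hx.2), E''.d_grHom n k _ hx.2⟩
  ε_grHom := fun k m hm => ⟨lam_gr S E' k m hm, E''.ε_grHom k _ (S.hp k m hm)⟩
  ε_injective := hsε_injective S E' E''
  exact_zero := hs_exact_zero S E' E''
  exact_succ := hs_exact_succ S E' E''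
  starInj := fun n => prod_starInj 𝒜 _ _ (E'.starInj n) (E''.starInj n)

/-- inclusion of `E'` -/
noncomputable def hsInl : CMap E' (hs S E' E'') where
  f := fun n => LinearMap.inl R (E'.X n).carrier (E''.X n).carrier
  gr := fun n k x hx => ⟨hx, zero_mem _⟩
  comm := fun n x => by
    show ((E'.d n x, 0) : (E'.X (n + 1)).carrier × (E''.X (n + 1)).carrier) =
      (E'.d n x + theta S E' E'' n 0, E''.d n 0)
    rw [map_zero, map_zero, add_zero]

/-- projection to `E''` -/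
noncomputable def hsSnd : CMap (hs S E' E'') E'' where
  f := fun n => LinearMap.snd R (E'.X n).carrier (E''.X n).carrier
  gr := fun n k x hx => hx.2
  comm := fun n x => rfl

end horseshoe

/-! ### the long exact sequence of a degreewise split sequence of resolutions -/
section chase

variable {M' : Type u} [AddCommGroup M'] [Module R M'] {ℳ' : ι → AddSubgroup M'}
  [Decomposition ℳ'] [SetLike.GradedSMul 𝒜 ℳ']
variable {M : Type u} [AddCommGroup M] [Module R M] {ℳ : ι → AddSubgroup M} [Decomposition ℳ]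
  [SetLike.GradedSMul 𝒜 ℳ]
variable {M'' : Type u} [AddCommGroup M''] [Module R M''] {ℳ'' : ι → AddSubgroup M''}
  [Decomposition ℳ''] [SetLike.GradedSMul 𝒜 ℳ'']
variable {E' : StarInjRes 𝒜 ℳ'} {E : StarInjRes 𝒜 ℳ} {E'' : StarInjRes 𝒜 ℳ''}

/-- a degreewise split short exact sequence of resolutions -/
structure Split (φ : CMap E' E) (ψ : CMap E E'') where
  σ : ∀ n : ℕ, (E''.X n).carrier →ₗ[R] (E.X n).carrier
  σ_gr : ∀ n : ℕ, IsGrHom (E''.X n).gr (E.X n).gr (σ n)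
  sec : ∀ (n : ℕ) (y : (E''.X n).carrier), ψ.f n (σ n y) = y
  inj : ∀ n : ℕ, Function.Injective (φ.f n)
  zero : ∀ (n : ℕ) (x : (E'.X n).carrier), ψ.f n (φ.f n x) = 0
  exact : ∀ (n : ℕ) (y : (E.X n).carrier), ψ.f n y = 0 → ∃ x, φ.f n x = y

variable {φ : CMap E' E} {ψ : CMap E E''} (sp : Split φ ψ) (a : HomogeneousIdeal 𝒜)

include sp in
theorem lift_gam (n : ℕ) (y : (E.X n).carrier) (hy : y ∈ gam a.toIdeal (E.X n).carrier)
    (h : ψ.f n y = 0) : ∃ x ∈ gam a.toIdeal (E'.X n).carrier, φ.f n x = y := by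
  obtain ⟨x, rfl⟩ := sp.exact n y h
  exact ⟨x, mem_gam_of_injective _ (sp.inj n) hy, rfl⟩

include sp in
theorem cobdy_lift (i : ℕ) (z : (E''.X i).carrier) (hz : z ∈ E''.cobdy a i) :
    ∃ b ∈ E.cobdy a i, ψ.f i b = z := by
  cases i with
  | zero =>
    refine ⟨0, Submodule.zero_mem _, ?_⟩
    rw [(mem_cobdy_zero a E'' z).1 hz, map_zero]
  | succ n =>
    obtain ⟨w, hw, rfl⟩ := (mem_cobdy_succ a E'' n z).1 hz
    refine ⟨E.d n (sp.σ n w), (mem_cobdy_succ a E n _).2 ⟨sp.σ n w, map_mem_gam _ hw, rfl⟩, ?_⟩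
    rw [ψ.comm, sp.sec]

include sp in
theorem exact_mid (i : ℕ) : LinearMap.ker (ψ.H a i) = LinearMap.range (φ.H a i) := by
  apply le_antisymm
  · intro y hy
    obtain ⟨z, rfl⟩ := toH_surjective a E i y
    rw [LinearMap.mem_ker, CMap.H_toH, toH_eq_zero_iff] at hy
    obtain ⟨b, hb, hbz⟩ := cobdy_lift sp a i _ hy
    have hψ : ψ.f i ((z : (E.X i).carrier) - b) = 0 := by
      rw [map_sub, hbz]
      exact sub_self _
    obtain ⟨x, hx, hxz⟩ := lift_gam sp a i _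
      (Submodule.sub_mem _ z.2.1 (cobdy_le_gam a E i b hb)) hψ
    have hdx : E'.d i x = 0 := by
      apply sp.inj (i + 1)
      rw [φ.comm, hxz, map_sub, map_zero, d_cobdy a E i b hb, sub_zero]
      exact z.2.2
    refine ⟨E'.toH a i (mkZ a E' i x hx hdx), ?_⟩
    rw [CMap.H_toH, ← sub_eq_zero, ← map_sub, toH_eq_zero_iff]
    show φ.f i x - (z : (E.X i).carrier) ∈ E.cobdy a i
    rw [hxz, sub_sub_cancel_left]
    exact Submodule.neg_mem _ hb
  · rintro _ ⟨x, rfl⟩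
    obtain ⟨z, rfl⟩ := toH_surjective a E' i x
    rw [LinearMap.mem_ker, CMap.H_toH, CMap.H_toH]
    have : ψ.Z a i (φ.Z a i z) = 0 := Subtype.ext (sp.zero i _)
    rw [this, map_zero]

include sp in
theorem H0_injective : Function.Injective (φ.H a 0) := by
  rw [injective_iff_map_eq_zero]
  intro x hx
  obtain ⟨z, rfl⟩ := toH_surjective a E' 0 x
  rw [CMap.H_toH, toH_eq_zero_iff] at hx
  have h1 : φ.f 0 z = 0 := (mem_cobdy_zero a E _).1 hx
  have h2 : (z : (E'.X 0).carrier) = 0 := sp.inj 0 (by rw [h1, map_zero])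
  have : z = 0 := Subtype.ext h2
  rw [this, map_zero]

/-- the auxiliary module used to define the connecting map -/
def W (φ : CMap E' E) (a : HomogeneousIdeal 𝒜) (i : ℕ) :
    Submodule R ((E.X i).carrier × (E'.X (i + 1)).carrier) :=
  ((gam a.toIdeal (E.X i).carrier).prod (gam a.toIdeal (E'.X (i + 1)).carrier)) ⊓
    LinearMap.ker (E.d i ∘ₗ LinearMap.fst R _ _ - φ.f (i + 1) ∘ₗ LinearMap.snd R _ _)

theorem W_fst_mem (i : ℕ) (w : ↥(W φ a i)) : w.1.1 ∈ gam a.toIdeal (E.X i).carrier := w.2.1.1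

theorem W_snd_mem (i : ℕ) (w : ↥(W φ a i)) : w.1.2 ∈ gam a.toIdeal (E'.X (i + 1)).carrier :=
  w.2.1.2

theorem W_eq (i : ℕ) (w : ↥(W φ a i)) : E.d i w.1.1 = φ.f (i + 1) w.1.2 := by
  have h : E.d i w.1.1 - φ.f (i + 1) w.1.2 = 0 := w.2.2
  exact sub_eq_zero.1 h

/-- build an element of `W` -/
def mkW (i : ℕ) (y : (E.X i).carrier) (x : (E'.X (i + 1)).carrier)
    (hy : y ∈ gam a.toIdeal (E.X i).carrier) (hx : x ∈ gam a.toIdeal (E'.X (i + 1)).carrier)
    (h : E.d i y = φ.f (i + 1) x) : ↥(W φ a i) :=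
  ⟨(y, x), ⟨⟨hy, hx⟩, by
    show E.d i y - φ.f (i + 1) x = 0
    rw [h, sub_self]⟩⟩

include sp in
theorem W_d_snd (i : ℕ) (w : ↥(W φ a i)) : E'.d (i + 1) w.1.2 = 0 := by
  apply sp.inj (i + 2)
  rw [φ.comm, ← W_eq a i w, d_d, map_zero]

/-- `W → Z''` -/
def qZ (i : ℕ) : ↥(W φ a i) →ₗ[R] ↥(E''.cocyc a i) :=
  LinearMap.codRestrict (E''.cocyc a i) (ψ.f i ∘ₗ LinearMap.fst R _ _ ∘ₗ (W φ a i).subtype)
    (fun w => ⟨map_mem_gam (ψ.f i) (W_fst_mem a i w), by
      show E''.d i (ψ.f i w.1.1) = 0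
      rw [← ψ.comm, W_eq a i w, sp.zero]⟩)

/-- `W → Z'` -/
def rZ (i : ℕ) : ↥(W φ a i) →ₗ[R] ↥(E'.cocyc a (i + 1)) :=
  LinearMap.codRestrict (E'.cocyc a (i + 1)) (LinearMap.snd R _ _ ∘ₗ (W φ a i).subtype)
    (fun w => ⟨W_snd_mem a i w, W_d_snd sp a i w⟩)

theorem qZ_coe (i : ℕ) (w : ↥(W φ a i)) :
    ((qZ sp a i w : ↥(E''.cocyc a i)) : (E''.X i).carrier) = ψ.f i w.1.1 := rfl

theorem rZ_coe (i : ℕ) (w : ↥(W φ a i)) :
    ((rZ sp a i w : ↥(E'.cocyc a (i + 1))) : (E'.X (i + 1)).carrier) = w.1.2 := rfl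

theorem exists_W (i : ℕ) (z : ↥(E''.cocyc a i)) :
    ∃ w : ↥(W φ a i), qZ sp a i w = z ∧
      ∀ g, (z : (E''.X i).carrier) ∈ (E''.X i).gr g → w.1.2 ∈ (E'.X (i + 1)).gr g := by
  have hσ : sp.σ i z ∈ gam a.toIdeal (E.X i).carrier := map_mem_gam _ z.2.1
  have hψ : ψ.f (i + 1) (E.d i (sp.σ i z)) = 0 := by
    rw [ψ.comm, sp.sec]
    exact z.2.2
  obtain ⟨x, hx, hxz⟩ := lift_gam sp a (i + 1) _ (map_mem_gam (E.d i) hσ) hψ
  refine ⟨mkW a i (sp.σ i z) x hσ hx hxz.symm, Subtype.ext (sp.sec i z), fun g hg => ?_⟩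
  apply mem_of_map_mem (E'.X (i + 1)).gr (E.X (i + 1)).gr (φ.gr (i + 1)) (sp.inj (i + 1))
  show φ.f (i + 1) x ∈ (E.X (i + 1)).gr g
  rw [hxz]
  exact E.d_grHom i g _ (sp.σ_gr i g _ hg)

theorem q_surjective (i : ℕ) : Function.Surjective (E''.toH a i ∘ₗ qZ sp a i) := by
  intro y
  obtain ⟨z, rfl⟩ := toH_surjective a E'' i y
  obtain ⟨w, hw, _⟩ := exists_W sp a i z
  exact ⟨w, by rw [LinearMap.comp_apply, hw]⟩

theorem q_ker_le (i : ℕ) : LinearMap.ker (E''.toH a i ∘ₗ qZ sp a i) ≤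
    LinearMap.ker (E'.toH a (i + 1) ∘ₗ rZ sp a i) := by
  intro w hw
  rw [LinearMap.mem_ker, LinearMap.comp_apply, toH_eq_zero_iff, qZ_coe] at hw
  obtain ⟨b, hb, hbz⟩ := cobdy_lift sp a i _ hw
  have hψ : ψ.f i (w.1.1 - b) = 0 := by
    rw [map_sub, hbz]
    exact sub_self _
  obtain ⟨x₁, hx₁, hxz⟩ := lift_gam sp a i _
    (Submodule.sub_mem _ (W_fst_mem a i w) (cobdy_le_gam a E i b hb)) hψ
  have h2 : E'.d i x₁ = w.1.2 := by
    apply sp.inj (i + 1)
    rw [φ.comm, hxz, map_sub, d_cobdy a E i b hb, sub_zero, W_eq a i w]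
  rw [LinearMap.mem_ker, LinearMap.comp_apply, toH_eq_zero_iff, rZ_coe]
  exact (mem_cobdy_succ a E' i _).2 ⟨x₁, hx₁, h2⟩

/-- the connecting homomorphism -/
noncomputable def delta (i : ℕ) : E''.H a i →ₗ[R] E'.H a (i + 1) :=
  ((LinearMap.ker (E''.toH a i ∘ₗ qZ sp a i)).liftQ (E'.toH a (i + 1) ∘ₗ rZ sp a i)
    (q_ker_le sp a i)) ∘ₗ
  ((E''.toH a i ∘ₗ qZ sp a i).quotKerEquivOfSurjective (q_surjective sp a i)).symm.toLinearMap

theorem delta_spec (i : ℕ) (w : ↥(W φ a i)) :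
    delta sp a i (E''.toH a i (qZ sp a i w)) = E'.toH a (i + 1) (rZ sp a i w) := by
  unfold delta
  rw [LinearMap.comp_apply]
  have h1 : ((E''.toH a i ∘ₗ qZ sp a i).quotKerEquivOfSurjective (q_surjective sp a i)).symm
      (E''.toH a i (qZ sp a i w)) =
      (LinearMap.ker (E''.toH a i ∘ₗ qZ sp a i)).mkQ w := by
    rw [LinearEquiv.symm_apply_eq]
    rfl
  rw [LinearEquiv.coe_coe, h1]
  rfl

theorem delta_gr (i : ℕ) : IsGrHom (E''.Hgr a i) (E'.Hgr a (i + 1)) (delta sp a i) := by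
  rintro g _ ⟨z, hz, rfl⟩
  obtain ⟨w, hw, hwg⟩ := exists_W sp a i z
  rw [← hw, delta_spec]
  exact ⟨rZ sp a i w, hwg g hz, rfl⟩

theorem exact_right (i : ℕ) : LinearMap.ker (delta sp a i) = LinearMap.range (ψ.H a i) := by
  apply le_antisymm
  · intro y hy
    obtain ⟨z, rfl⟩ := toH_surjective a E'' i y
    obtain ⟨w, hw, _⟩ := exists_W sp a i z
    rw [LinearMap.mem_ker, ← hw, delta_spec, toH_eq_zero_iff, rZ_coe] at hy
    obtain ⟨x₁, hx₁, hx₁w⟩ := (mem_cobdy_succ a E' i _).1 hy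
    have hgam : w.1.1 - φ.f i x₁ ∈ gam a.toIdeal (E.X i).carrier :=
      Submodule.sub_mem _ (W_fst_mem a i w) (map_mem_gam _ hx₁)
    have hd : E.d i (w.1.1 - φ.f i x₁) = 0 := by
      rw [map_sub, W_eq a i w, ← φ.comm, hx₁w, sub_self]
    refine ⟨E.toH a i (mkZ a E i _ hgam hd), ?_⟩
    rw [CMap.H_toH, ← hw]
    congr 1
    apply Subtype.ext
    show ψ.f i (w.1.1 - φ.f i x₁) = ψ.f i w.1.1
    rw [map_sub, sp.zero, sub_zero]
  · rintro _ ⟨y, rfl⟩
    obtain ⟨z, rfl⟩ := toH_surjective a E i y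
    let w : ↥(W φ a i) := mkW a i z 0 z.2.1 (Submodule.zero_mem _) (by
      rw [map_zero]
      exact z.2.2)
    have h1 : ψ.Z a i z = qZ sp a i w := Subtype.ext rfl
    rw [LinearMap.mem_ker, CMap.H_toH, h1, delta_spec]
    have h2 : rZ sp a i w = 0 := Subtype.ext rfl
    rw [h2, map_zero]

theorem exact_left (i : ℕ) : LinearMap.ker (φ.H a (i + 1)) = LinearMap.range (delta sp a i) := by
  apply le_antisymm
  · intro x hx
    obtain ⟨z, rfl⟩ := toH_surjective a E' (i + 1) x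
    rw [LinearMap.mem_ker, CMap.H_toH, toH_eq_zero_iff] at hx
    obtain ⟨y, hy, hyz⟩ := (mem_cobdy_succ a E i _).1 hx
    let w : ↥(W φ a i) := mkW a i y z hy z.2.1 hyz
    refine ⟨E''.toH a i (qZ sp a i w), ?_⟩
    rw [delta_spec]
    congr 1
  · rintro _ ⟨y, rfl⟩
    obtain ⟨z, rfl⟩ := toH_surjective a E'' i y
    obtain ⟨w, hw, _⟩ := exists_W sp a i z
    rw [LinearMap.mem_ker, ← hw, delta_spec, CMap.H_toH, toH_eq_zero_iff]
    show φ.f (i + 1) w.1.2 ∈ E.cobdy a (i + 1)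
    rw [← W_eq a i w]
    exact (mem_cobdy_succ a E i _).2 ⟨w.1.1, W_fst_mem a i w, rfl⟩

end chase

/-! ### the long exact sequence -/
section les

variable {M' : Type u} [AddCommGroup M'] [Module R M'] {ℳ' : ι → AddSubgroup M'}
  [Decomposition ℳ'] [SetLike.GradedSMul 𝒜 ℳ']
variable {M : Type u} [AddCommGroup M] [Module R M] {ℳ : ι → AddSubgroup M} [Decomposition ℳ]
  [SetLike.GradedSMul 𝒜 ℳ]
variable {M'' : Type u} [AddCommGroup M''] [Module R M''] {ℳ'' : ι → AddSubgroup M''}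
  [Decomposition ℳ''] [SetLike.GradedSMul 𝒜 ℳ'']

/-- the splitting of the horseshoe sequence -/
noncomputable def hsSplit (S : SES R ℳ' ℳ ℳ'') (E' : StarInjRes 𝒜 ℳ') (E'' : StarInjRes 𝒜 ℳ'') :
    Split (hsInl S E' E'') (hsSnd S E' E'') where
  σ := fun n => LinearMap.inr R (E'.X n).carrier (E''.X n).carrier
  σ_gr := fun n k y hy => ⟨zero_mem _, hy⟩
  sec := fun n y => rfl
  inj := fun n => LinearMap.inl_injective
  zero := fun n x => rfl
  exact := fun n y hy => ⟨y.1, Prod.ext rfl (Eq.symm hy)⟩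

/-- The long exact sequence of graded local cohomology, for arbitrary resolutions and lifts. -/
theorem les (S : SES R ℳ' ℳ ℳ'') (E' : StarInjRes 𝒜 ℳ') (E : StarInjRes 𝒜 ℳ)
    (E'' : StarInjRes 𝒜 ℳ'') (φ : CMap E' E) (hφ : ∀ m, φ.f 0 (E'.ε m) = E.ε (S.u m))
    (ψ : CMap E E'') (hψ : ∀ m, ψ.f 0 (E.ε m) = E''.ε (S.p m)) (a : HomogeneousIdeal 𝒜) :
    Function.Injective (φ.H a 0) ∧
      ∀ i : ℕ, LinearMap.ker (ψ.H a i) = LinearMap.range (φ.H a i) ∧
        ∃ δ : E''.H a i →ₗ[R] E'.H a (i + 1), IsGrHom (E''.Hgr a i) (E'.Hgr a (i + 1)) δ ∧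
          LinearMap.ker δ = LinearMap.range (ψ.H a i) ∧
          LinearMap.ker (φ.H a (i + 1)) = LinearMap.range δ := by
  set E₀ := hs S E' E'' with hE₀
  set φ₀ := hsInl S E' E''
  set ψ₀ := hsSnd S E' E''
  have sp := hsSplit S E' E''
  obtain ⟨c, hc⟩ := exists_lift E E₀ LinearMap.id (fun _ _ h => h)
  obtain ⟨c', hc'⟩ := exists_lift E₀ E LinearMap.id (fun _ _ h => h)
  have hcc' : ∀ i, c'.H a i ∘ₗ c.H a i = LinearMap.id :=
    fun i => H_comp_eq_id E E₀ c c' hc hc' a i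
  have hc'c : ∀ i, c.H a i ∘ₗ c'.H a i = LinearMap.id :=
    fun i => H_comp_eq_id E₀ E c' c hc' hc a i
  have hcinj : ∀ i, Function.Injective (c.H a i) := by
    intro i x y hxy
    have := congrArg (c'.H a i) hxy
    rw [← LinearMap.comp_apply, ← LinearMap.comp_apply, hcc'] at this
    exact this
  have h1 : ∀ i, c.H a i ∘ₗ φ.H a i = φ₀.H a i := by
    intro i
    rw [← CMap.H_comp]
    apply H_unique
    intro m'
    show c.f 0 (φ.f 0 (E'.ε m')) = ((E'.ε m', 0) : (E'.X 0).carrier × (E''.X 0).carrier)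
    rw [hφ, hc]
    show hsε S E' E'' (S.u m') = _
    rw [hsε_apply, lam_u, S.p_u, map_zero]
  have h2 : ∀ i, ψ₀.H a i ∘ₗ c.H a i = ψ.H a i := by
    intro i
    rw [← CMap.H_comp]
    apply H_unique
    intro m
    show (c.f 0 (E.ε m)).2 = ψ.f 0 (E.ε m)
    rw [hc, hψ]
    rfl
  have h3 : ∀ i, ψ₀.H a i = ψ.H a i ∘ₗ c'.H a i := by
    intro i
    rw [← h2, LinearMap.comp_assoc, hc'c, LinearMap.comp_id]
  refine ⟨?_, fun i => ⟨?_, delta sp a i, delta_gr sp a i, ?_, ?_⟩⟩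
  · have := H0_injective sp a
    rw [← h1] at this
    exact Function.Injective.of_comp this
  · ext x
    rw [LinearMap.mem_ker, ← h2, LinearMap.comp_apply, ← LinearMap.mem_ker, exact_mid sp a i,
      ← h1]
    constructor
    · rintro ⟨x', hx'⟩
      exact ⟨x', hcinj i hx'⟩
    · rintro ⟨x', rfl⟩
      exact ⟨x', rfl⟩
  · rw [exact_right sp a i]
    apply le_antisymm
    · rintro _ ⟨y, rfl⟩
      rw [h3]
      exact ⟨c'.H a i y, rfl⟩
    · rintro _ ⟨y, rfl⟩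
      rw [← h2]
      exact ⟨c.H a i y, rfl⟩
  · rw [← exact_left sp a i]
    ext x
    rw [LinearMap.mem_ker, LinearMap.mem_ker, ← h1, LinearMap.comp_apply]
    constructor
    · intro h
      rw [h, map_zero]
    · intro h
      exact hcinj (i + 1) (by rw [h, map_zero])

end les

end Groth.Agent.Lib.GrLES2H1
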