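import Mathlib
import Groth.Prelude.Def_GrLC
import Groth.Agent.Lib.GrLES2_helper1
import Groth.Agent.Lib.GrHDec_helper1

/-! Graded local cohomology: shifted resolutions, multiplication by a homogeneous element,
and S13239 (helper1). -/

set_option autoImplicit false

namespace Groth.Agent.Lib.GrLES3H1

open DirectSum GrLC Groth.Agent.Lib.GrStarH1 Groth.Agent.Lib.GrStar2H1 Groth.Agent.Lib.GrStar3H1
  Groth.Agent.Lib.GrLES1H1 Groth.Agent.Lib.GrLES2H1 Groth.Agent.Lib.GrHDecH1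

universe u

variable {ι : Type} [AddCommGroup ι] [DecidableEq ι]
variable {R : Type u} [CommRing R] (𝒜 : ι → AddSubgroup R) [GradedRing 𝒜]

attribute [local instance] shiftDecomp shift_gsmul

theorem shift_starInj {X : Type u} [AddCommGroup X] [Module R X] (𝒳 : ι → AddSubgroup X)
    [Decomposition 𝒳] [SetLike.GradedSMul 𝒜 𝒳] (hX : IsStarInj 𝒜 𝒳) (s : ι) :
    IsStarInj 𝒜 (shiftGr 𝒳 s) := by
  intro A B f hf hinj g hg
  have hf' : IsGrHom (shiftGr A.gr (-s)) (shiftGr B.gr (-s)) f := fun k m hm => hf _ m hm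
  have hg' : IsGrHom (shiftGr A.gr (-s)) 𝒳 g := fun k m hm => by
    have := hg (-s + k) m hm
    exact mem_congr 𝒳 (add_neg_cancel_left s k) this
  obtain ⟨h, hh, e⟩ := hX (GMod.of 𝒜 A.carrier (shiftGr A.gr (-s)))
    (GMod.of 𝒜 B.carrier (shiftGr B.gr (-s))) f hf' hinj g hg'
  refine ⟨h, fun k m hm => ?_, e⟩
  exact hh (s + k) m (mem_congr B.gr (neg_add_cancel_left s k).symm hm)

/-- the shifted graded module, bundled -/
noncomputable def shiftGMod (X : GMod.{u} 𝒜) (s : ι) : GMod.{u} 𝒜 :=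
  { carrier := X.carrier, gr := shiftGr X.gr s }

variable {M : Type u} [AddCommGroup M] [Module R M] {ℳ : ι → AddSubgroup M} [Decomposition ℳ]
  [SetLike.GradedSMul 𝒜 ℳ]

/-- the shifted resolution -/
noncomputable def shiftRes (E : StarInjRes 𝒜 ℳ) (s : ι) : StarInjRes 𝒜 (shiftGr ℳ s) where
  X := fun n => shiftGMod 𝒜 (E.X n) s
  d := E.d
  ε := E.ε
  d_grHom := fun n _ x hx => E.d_grHom n _ x hx
  ε_grHom := fun _ m hm => E.ε_grHom _ m hm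
  ε_injective := E.ε_injective
  exact_zero := E.exact_zero
  exact_succ := E.exact_succ
  starInj := fun n => shift_starInj 𝒜 (E.X n).gr (E.starInj n) s

/-- multiplication by a homogeneous element as a chain map -/
noncomputable def mulMap (E : StarInjRes 𝒜 ℳ) {t : ι} {x : R} (hx : x ∈ 𝒜 t) :
    CMap (shiftRes 𝒜 E (-t)) E where
  f := fun n => LinearMap.lsmul R (E.X n).carrier x
  gr := fun n k z hz => by
    have := smul_mem_gr 𝒜 (E.X n).gr hx hz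
    exact mem_congr (E.X n).gr (add_neg_cancel_left t k) this
  comm := fun n (z : (E.X n).carrier) => (map_smul (E.d n) x z).symm

theorem mulMap_H (E : StarInjRes 𝒜 ℳ) {t : ι} {x : R} (hx : x ∈ 𝒜 t) (a : HomogeneousIdeal 𝒜)
    (i : ℕ) (y : E.H a i) : (mulMap 𝒜 E hx).H a i y = x • y := by
  obtain ⟨z, rfl⟩ := toH_surjective a E i y
  rfl

theorem mem_shift_Hgr (E : StarInjRes 𝒜 ℳ) (s : ι) (a : HomogeneousIdeal 𝒜) (i : ℕ) (k : ι)
    (y : E.H a i) : y ∈ (shiftRes 𝒜 E s).Hgr a i k ↔ y ∈ E.Hgr a i (s + k) := Iff.rfl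

/-- the short exact sequence `0 → M(-t) → M → M/xM → 0` -/
noncomputable def mulSES {t : ι} {x : R} (hx : x ∈ 𝒜 t) (hreg : IsSMulRegular M x)
    {N : Type u} [AddCommGroup N] [Module R N] {𝒩 : ι → AddSubgroup N} [Decomposition 𝒩]
    [SetLike.GradedSMul 𝒜 𝒩] (π : M →ₗ[R] N) (hπg : IsGrHom ℳ 𝒩 π)
    (hπ : Function.Surjective π) (hker : LinearMap.ker π = LinearMap.range (LinearMap.lsmul R M x)) :
    SES R (shiftGr ℳ (-t)) ℳ 𝒩 where
  u := LinearMap.lsmul R M x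
  p := π
  hu := fun k m hm => by
    have := smul_mem_gr 𝒜 ℳ hx hm
    exact mem_congr ℳ (add_neg_cancel_left t k) this
  hp := hπg
  inj := hreg
  surj := hπ
  exact := hker

/-- The part of the long exact sequence for multiplication by a regular homogeneous element. -/
theorem mul_les {t : ι} {x : R} (hx : x ∈ 𝒜 t) (hreg : IsSMulRegular M x)
    {N : Type u} [AddCommGroup N] [Module R N] {𝒩 : ι → AddSubgroup N} [Decomposition 𝒩]
    [SetLike.GradedSMul 𝒜 𝒩] (π : M →ₗ[R] N) (hπg : IsGrHom ℳ 𝒩 π)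
    (hπ : Function.Surjective π) (hker : LinearMap.ker π = LinearMap.range (LinearMap.lsmul R M x))
    (E : StarInjRes 𝒜 ℳ) (F : StarInjRes 𝒜 𝒩) (a : HomogeneousIdeal 𝒜) :
    ∃ ψ : CMap E F, ∀ i : ℕ,
      (∀ (k : ι) (y : E.H a i), y ∈ E.Hgr a i k → ψ.H a i y = 0 →
        ∃ z ∈ E.Hgr a i (-t + k), x • z = y) ∧
      ∃ δ : F.H a i →ₗ[R] E.H a (i + 1),
        (∀ (k : ι) (w : F.H a i), w ∈ F.Hgr a i k → δ w ∈ E.Hgr a (i + 1) (-t + k)) ∧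
        (∀ (k : ι) (w : F.H a i), w ∈ F.Hgr a i k → δ w = 0 →
          ∃ y ∈ E.Hgr a i k, ψ.H a i y = w) ∧
        (∀ (k : ι) (y : E.H a (i + 1)), y ∈ E.Hgr a (i + 1) (-t + k) → x • y = 0 →
          ∃ w ∈ F.Hgr a i k, δ w = y) := by
  set S := mulSES 𝒜 hx hreg π hπg hπ hker
  set φ := mulMap 𝒜 E hx
  have hφ : ∀ m, φ.f 0 ((shiftRes 𝒜 E (-t)).ε m) = E.ε (S.u m) := fun m =>
    (map_smul E.ε x m).symm
  obtain ⟨ψ, hψ⟩ := exists_lift E F π hπg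
  have hles := les S (shiftRes 𝒜 E (-t)) E F φ hφ ψ hψ a
  refine ⟨ψ, fun i => ?_⟩
  obtain ⟨hmid, δ, hδgr, hright, hleft⟩ := hles.2 i
  letI := HDecomp 𝒜 (shiftGr ℳ (-t)) a (shiftRes 𝒜 E (-t)) i
  letI := HDecomp 𝒜 (shiftGr ℳ (-t)) a (shiftRes 𝒜 E (-t)) (i + 1)
  letI := HDecomp 𝒜 ℳ a E i
  letI := HDecomp 𝒜 𝒩 a F i
  refine ⟨fun k y hy hψy => ?_, δ, fun k w hw => hδgr k w hw, fun k w hw hδw => ?_,
    fun k y hy hxy => ?_⟩
  · obtain ⟨z, hz, hzy⟩ := piece_exact ((shiftRes 𝒜 E (-t)).Hgr a i) (E.Hgr a i) (φ.H a i)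
      (ψ.H a i) (φ.H_gr a i) hmid hy hψy
    exact ⟨z, hz, (mulMap_H 𝒜 E hx a i z).symm.trans hzy⟩
  · exact piece_exact (E.Hgr a i) (F.Hgr a i) (ψ.H a i) δ (ψ.H_gr a i) hright hw hδw
  · have hxy' : φ.H a (i + 1) y = 0 := (mulMap_H 𝒜 E hx a (i + 1) y).trans hxy
    exact piece_exact (F.Hgr a i) ((shiftRes 𝒜 E (-t)).Hgr a (i + 1)) δ (φ.H a (i + 1)) hδgr
      hleft hy hxy'

section s13239

theorem main13239 (R : Type u) [CommRing R] [IsNoetherianRing R] (𝒜 : ℤ → AddSubgroup R)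
    [GradedRing 𝒜] (a : HomogeneousIdeal 𝒜)
    (M : Type u) [AddCommGroup M] [Module R M] (ℳ : ℤ → AddSubgroup M)
    [DirectSum.Decomposition ℳ] [SetLike.GradedSMul 𝒜 ℳ] (x : R) (hx : x ∈ 𝒜 1)
    (hreg : IsSMulRegular M x) (N : Type u) [AddCommGroup N] [Module R N] (𝒩 : ℤ → AddSubgroup N)
    [DirectSum.Decomposition 𝒩] [SetLike.GradedSMul 𝒜 𝒩] (π : M →ₗ[R] N)
    (hπ : Function.Surjective π) (hπg : GrLC.IsGrHom ℳ 𝒩 π)
    (hker : LinearMap.ker π = LinearMap.range (x • (LinearMap.id : M →ₗ[R] M)))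
    (E : GrLC.StarInjRes 𝒜 ℳ) (F : GrLC.StarInjRes 𝒜 𝒩) (m : ℤ)
    (hm : (⨆ (i : ℕ) (_ : 2 ≤ i), GrLC.endDeg (F.Hgr a i) + ((i : ℤ) : WithTop ℤ)) ≤
      (((m + 1 : ℤ) : WithTop ℤ) : WithBot (WithTop ℤ)))
    (y : E.H a 2) (hy : y ∈ E.Hcomp a 2 m) : ∃ z ∈ E.Hcomp a 2 (m - 1), x • z = y := by
  have hker' : LinearMap.ker π = LinearMap.range (LinearMap.lsmul R M x) := by
    rw [hker]
    congr 1
  obtain ⟨ψ, hψ⟩ := mul_les 𝒜 hx hreg π hπg hπ hker' E F a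
  obtain ⟨h1, -⟩ := hψ 2
  have hbot : F.Hgr a 2 m = ⊥ := by
    by_contra hne
    have h2 : ((m : WithTop ℤ) : WithBot (WithTop ℤ)) ≤ GrLC.endDeg (F.Hgr a 2) :=
      le_iSup₂ (f := fun (n : ℤ) (_ : F.Hgr a 2 n ≠ ⊥) =>
        ((n : WithTop ℤ) : WithBot (WithTop ℤ))) m hne
    have h3 : GrLC.endDeg (F.Hgr a 2) + (((2 : ℕ) : ℤ) : WithTop ℤ) ≤
        (((m + 1 : ℤ) : WithTop ℤ) : WithBot (WithTop ℤ)) :=
      le_trans (le_iSup₂ (f := fun (i : ℕ) (_ : 2 ≤ i) =>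
        GrLC.endDeg (F.Hgr a i) + ((i : ℤ) : WithTop ℤ)) 2 le_rfl) hm
    have h4 : ((m : WithTop ℤ) : WithBot (WithTop ℤ)) + (((2 : ℕ) : ℤ) : WithTop ℤ) ≤
        (((m + 1 : ℤ) : WithTop ℤ) : WithBot (WithTop ℤ)) :=
      le_trans (add_le_add h2 le_rfl) h3
    have h5 : m + 2 ≤ m + 1 := by exact_mod_cast h4
    omega
  have hψy : ψ.H a 2 y = 0 := by
    have : ψ.H a 2 y ∈ F.Hgr a 2 m := ψ.H_gr a 2 m y hy
    rw [hbot] at this
    exact (AddSubgroup.mem_bot).1 this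
  obtain ⟨z, hz, hzy⟩ := h1 m y hy hψy
  refine ⟨z, ?_, hzy⟩
  have : (-1 : ℤ) + m = m - 1 := by ring
  rw [this] at hz
  exact hz

end s13239

end Groth.Agent.Lib.GrLES3H1
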