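import Mathlib
import Groth.Prelude.Def_GrLC
import Groth.Prelude.Def_Wider
import Groth.Agent.Lib.GrStar2_helper1
import Groth.Agent.Lib.GrLES1_helper1

/-! Minimal *injective resolutions and comparison of graded local cohomology computed from two
*injective resolutions (helper1). -/

set_option autoImplicit false

namespace Groth.Agent.Lib.MinResH1

open DirectSum GrLC Groth.Agent.Lib.GrStarH1 Groth.Agent.Lib.GrStar2H1 Groth.Agent.Lib.GrLES1H1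

universe u

variable {ι : Type} [AddCommGroup ι] [DecidableEq ι]
variable {R : Type u} [CommRing R] (𝒜 : ι → AddSubgroup R) [GradedRing 𝒜]

theorem exists_hullG (C : GMod.{u} 𝒜) :
    ∃ (X : GMod.{u} 𝒜) (i : C.carrier →ₗ[R] X.carrier), IsStarInjHull 𝒜 C.gr X.gr i :=
  exists_hull 𝒜 C.gr

/-- chosen *injective hull -/
noncomputable def hX (C : GMod.{u} 𝒜) : GMod.{u} 𝒜 := (exists_hullG 𝒜 C).choose

/-- chosen embedding -/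
noncomputable def hι (C : GMod.{u} 𝒜) : C.carrier →ₗ[R] (hX 𝒜 C).carrier :=
  (exists_hullG 𝒜 C).choose_spec.choose

theorem hι_hull (C : GMod.{u} 𝒜) : IsStarInjHull 𝒜 C.gr (hX 𝒜 C).gr (hι 𝒜 C) :=
  (exists_hullG 𝒜 C).choose_spec.choose_spec

/-- the cokernel of the chosen hull -/
noncomputable def hcoker (C : GMod.{u} 𝒜) : GMod.{u} 𝒜 :=
  quotGMod 𝒜 (hX 𝒜 C).gr (LinearMap.range (hι 𝒜 C))
    (range_isHomogeneous C.gr (hX 𝒜 C).gr (hι_hull 𝒜 C).grHom)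

/-- the projection to the cokernel -/
noncomputable def hπ (C : GMod.{u} 𝒜) : (hX 𝒜 C).carrier →ₗ[R] (hcoker 𝒜 C).carrier :=
  (LinearMap.range (hι 𝒜 C)).mkQ

theorem hπ_grHom (C : GMod.{u} 𝒜) : IsGrHom (hX 𝒜 C).gr (hcoker 𝒜 C).gr (hπ 𝒜 C) :=
  mkQ_isGrHom (hX 𝒜 C).gr _

theorem hπ_surjective (C : GMod.{u} 𝒜) : Function.Surjective (hπ 𝒜 C) :=
  Submodule.mkQ_surjective _

theorem hπ_ker (C : GMod.{u} 𝒜) : LinearMap.ker (hπ 𝒜 C) = LinearMap.range (hι 𝒜 C) :=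
  Submodule.ker_mkQ _

/-- the successive cokernels -/
noncomputable def hres (C₀ : GMod.{u} 𝒜) : ℕ → GMod.{u} 𝒜
  | 0 => C₀
  | n + 1 => hcoker 𝒜 (hres C₀ n)

/-- one step of the differential -/
noncomputable def hstepD (C : GMod.{u} 𝒜) :
    (hX 𝒜 C).carrier →ₗ[R] (hX 𝒜 (hcoker 𝒜 C)).carrier :=
  hι 𝒜 (hcoker 𝒜 C) ∘ₗ hπ 𝒜 C

theorem hstepD_grHom (C : GMod.{u} 𝒜) :
    IsGrHom (hX 𝒜 C).gr (hX 𝒜 (hcoker 𝒜 C)).gr (hstepD 𝒜 C) :=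
  fun i x hx => (hι_hull 𝒜 _).grHom i _ (hπ_grHom 𝒜 _ i x hx)

theorem hstepD_ker (C : GMod.{u} 𝒜) :
    LinearMap.ker (hstepD 𝒜 C) = LinearMap.range (hι 𝒜 C) := by
  unfold hstepD
  rw [LinearMap.ker_comp_of_ker_eq_bot _ (LinearMap.ker_eq_bot.2 (hι_hull 𝒜 _).injective)]
  exact hπ_ker 𝒜 _

theorem hstepD_range (C : GMod.{u} 𝒜) :
    LinearMap.range (hstepD 𝒜 C) = LinearMap.range (hι 𝒜 (hcoker 𝒜 C)) := by
  unfold hstepD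
  exact LinearMap.range_comp_of_range_eq_top _ (LinearMap.range_eq_top.2 (hπ_surjective 𝒜 _))

variable {M : Type u} [AddCommGroup M] [Module R M] (ℳ : ι → AddSubgroup M) [Decomposition ℳ]
  [SetLike.GradedSMul 𝒜 ℳ]

/-- the minimal *injective resolution -/
noncomputable def minRes : StarInjRes 𝒜 ℳ where
  X := fun n => hX 𝒜 (hres 𝒜 (GMod.of 𝒜 M ℳ) n)
  d := fun n => hstepD 𝒜 (hres 𝒜 (GMod.of 𝒜 M ℳ) n)
  ε := hι 𝒜 (GMod.of 𝒜 M ℳ)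
  d_grHom := fun n => hstepD_grHom 𝒜 (hres 𝒜 (GMod.of 𝒜 M ℳ) n)
  ε_grHom := (hι_hull 𝒜 (GMod.of 𝒜 M ℳ)).grHom
  ε_injective := (hι_hull 𝒜 (GMod.of 𝒜 M ℳ)).injective
  exact_zero := hstepD_ker 𝒜 (GMod.of 𝒜 M ℳ)
  exact_succ := fun n => (hstepD_ker 𝒜 (hres 𝒜 (GMod.of 𝒜 M ℳ) (n + 1))).trans
    (hstepD_range 𝒜 (hres 𝒜 (GMod.of 𝒜 M ℳ) n)).symm
  starInj := fun n => (hι_hull 𝒜 _).starInj

theorem minRes_min0 (P : Submodule R ((minRes 𝒜 ℳ).X 0).carrier)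
    (hP : P.IsHomogeneous ((minRes 𝒜 ℳ).X 0).gr) (hP0 : P ≠ ⊥) :
    P ⊓ LinearMap.range (minRes 𝒜 ℳ).ε ≠ ⊥ :=
  (hι_hull 𝒜 (GMod.of 𝒜 M ℳ)).essential P hP hP0

theorem minRes_min (n : ℕ) (P : Submodule R ((minRes 𝒜 ℳ).X (n + 1)).carrier)
    (hP : P.IsHomogeneous ((minRes 𝒜 ℳ).X (n + 1)).gr) (hP0 : P ≠ ⊥) :
    P ⊓ LinearMap.range ((minRes 𝒜 ℳ).d n) ≠ ⊥ := by
  have h := (hι_hull 𝒜 (hcoker 𝒜 (hres 𝒜 (GMod.of 𝒜 M ℳ) n))).essential P hP hP0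
  rw [← hstepD_range 𝒜 (hres 𝒜 (GMod.of 𝒜 M ℳ) n)] at h
  exact h

variable {𝒜 ℳ}

/-- graded local cohomology does not depend on the *injective resolution -/
theorem H_equiv (E E₂ : StarInjRes 𝒜 ℳ) (a : HomogeneousIdeal 𝒜) (i : ℕ) :
    ∃ φ : E.H a i ≃ₗ[R] E₂.H a i, IsGrHom (E.Hgr a i) (E₂.Hgr a i) φ.toLinearMap := by
  obtain ⟨c, hc⟩ := exists_lift E E₂ LinearMap.id (fun _ _ h => h)
  obtain ⟨c', hc'⟩ := exists_lift E₂ E LinearMap.id (fun _ _ h => h)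
  have h1 := H_comp_eq_id E E₂ c c' hc hc' a i
  have h2 := H_comp_eq_id E₂ E c' c hc' hc a i
  exact ⟨LinearEquiv.ofLinear (c.H a i) (c'.H a i) h2 h1, c.H_gr a i⟩

end Groth.Agent.Lib.MinResH1
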