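import Mathlib
import Groth.Prelude.Def_GrLC
import Groth.Prelude.Def_GrLC2
import Groth.Prelude.Def_Wider
import Groth.Agent.Lib.GrStar4_helper1
import Groth.Agent.Lib.GrLES1_helper1
import Groth.Agent.Lib.GrLES3_helper1
import Groth.Agent.Lib.BassZero_helper1
import Groth.Agent.Lib.BassShift_helper1
import Groth.Agent.Lib.GorBass_helper1
import Groth.Agent.Lib.MinRes_helper1

/-! Top graded local cohomology of a Gorenstein *local ring is a shifted *injective envelope of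
`R/m` (helper1). -/

set_option autoImplicit false

namespace Groth.Agent.Lib.GorTopH1

open DirectSum GrLC Groth.Agent.Lib.GrStarH1 Groth.Agent.Lib.GrStar2H1 Groth.Agent.Lib.GrStar3H1
  Groth.Agent.Lib.GrStar4H1 Groth.Agent.Lib.GrLES1H1 Groth.Agent.Lib.BassZeroH1
  Groth.Agent.Lib.BassShiftH1 Groth.Agent.Lib.MinResH1

universe u

variable {ι : Type} [AddCommGroup ι] [DecidableEq ι]
variable {R : Type u} [CommRing R] (𝒜 : ι → AddSubgroup R) [GradedRing 𝒜]

/-! ### shifts and homogeneity -/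
section shift

attribute [local instance] shiftDecomp

variable {E : Type u} [AddCommGroup E] [Module R E] (𝓔 : ι → AddSubgroup E) [Decomposition 𝓔]
  (g : ι)

theorem coe_decompose_shift (x : E) (k : ι) :
    ((decompose (shiftGr 𝓔 g) x k : shiftGr 𝓔 g k) : E) = (decompose 𝓔 x (g + k) : E) := by
  induction x using DirectSum.Decomposition.inductionOn 𝓔 with
  | zero =>
    simp only [decompose_zero, DirectSum.zero_apply, ZeroMemClass.coe_zero]
  | @homogeneous i m =>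
    by_cases e : i = g + k
    · subst e
      rw [decompose_of_mem_same 𝓔 m.2,
        decompose_of_mem_same (shiftGr 𝓔 g) (show (m : E) ∈ shiftGr 𝓔 g k from m.2)]
    · have h' : i - g ≠ k := fun e' => e (by rw [← e']; abel)
      rw [decompose_of_mem_ne 𝓔 m.2 e,
        decompose_of_mem_ne (shiftGr 𝓔 g) (shift_le 𝓔 g i m.2) h']
  | add m m' hm hm' =>
    rw [decompose_add, decompose_add, DirectSum.add_apply, DirectSum.add_apply,
      AddSubgroup.coe_add, AddSubgroup.coe_add, hm, hm']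

theorem isHomogeneous_of_shift {P : Submodule R E} (hP : P.IsHomogeneous (shiftGr 𝓔 g)) :
    P.IsHomogeneous 𝓔 := by
  intro j x hx
  have := hP (j - g) hx
  rw [coe_decompose_shift, add_sub_cancel] at this
  exact this

end shift

/-! ### *maximal ideals are prime -/

theorem isPrime_of_coatom [Module.Free ℤ ι] [Module.Finite ℤ ι] (m : HomogeneousIdeal 𝒜)
    (hm : IsCoatom m) : m.toIdeal.IsPrime := by
  apply isPrime_of_homog_cond 𝒜 m.isHomogeneous
  · intro h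
    apply hm.1
    apply HomogeneousIdeal.toIdeal_injective
    rw [h]
    rfl
  · intro x y hx hy hxy
    by_contra hcon
    push_neg at hcon
    obtain ⟨hxm, hym⟩ := hcon
    obtain ⟨K, hK⟩ : ∃ K : HomogeneousIdeal 𝒜, K.toIdeal = Ideal.span {x} :=
      ⟨⟨Ideal.span {x}, Ideal.homogeneous_span 𝒜 {x} (by rintro _ rfl; exact hx)⟩, rfl⟩
    have hxK : x ∈ K.toIdeal := by
      rw [hK]
      exact Ideal.subset_span (Set.mem_singleton x)
    have hlt : m < m ⊔ K := by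
      refine lt_of_le_of_ne le_sup_left (fun h => hxm ?_)
      have hKm : K ≤ m := le_of_le_of_eq le_sup_right h.symm
      have hKm' : K.toIdeal ≤ m.toIdeal := hKm
      exact hKm' hxK
    have htop := hm.2 _ hlt
    have h1 : (1 : R) ∈ m.toIdeal ⊔ K.toIdeal := by
      have h2 : (m ⊔ K).toIdeal = m.toIdeal ⊔ K.toIdeal := rfl
      rw [← h2, htop]
      exact Submodule.mem_top
    rw [hK] at h1
    obtain ⟨a, ha, b, hb, hab⟩ := Submodule.mem_sup.1 h1
    obtain ⟨c, rfl⟩ := Ideal.mem_span_singleton'.1 hb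
    apply hym
    have : y = a * y + c * (x * y) := by
      calc y = 1 * y := (one_mul y).symm
        _ = (a + c * x) * y := by rw [hab]
        _ = a * y + c * (x * y) := by ring
    rw [this]
    exact add_mem (Ideal.mul_mem_right _ _ ha) (Ideal.mul_mem_left _ _ hxy)

/-! ### socles of graded modules -/
section socle

variable {X : Type u} [AddCommGroup X] [Module R X] (𝒳 : ι → AddSubgroup X) [Decomposition 𝒳]
  [SetLike.GradedSMul 𝒜 𝒳]

theorem smul_comp_eq_zero (q : Ideal R) (hqh : q.IsHomogeneous 𝒜) (z : X)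
    (hz : ∀ c ∈ q, c • z = 0) (j : ι) : ∀ c ∈ q, c • (decompose 𝒳 z j : X) = 0 := by
  classical
  intro r hr
  rw [← DirectSum.sum_support_decompose 𝒜 r, Finset.sum_smul]
  refine Finset.sum_eq_zero (fun l _ => ?_)
  have hl : (decompose 𝒜 r l : R) ∈ q := hqh l hr
  rw [← decompose_smul_homog 𝒜 𝒳 (decompose 𝒜 r l).2 z j, hz _ hl, decompose_zero,
    DirectSum.zero_apply, ZeroMemClass.coe_zero]

omit [GradedRing 𝒜] [SetLike.GradedSMul 𝒜 𝒳] in
theorem top_isHomogeneous : (⊤ : Submodule R X).IsHomogeneous 𝒳 :=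
  fun _ _ _ => Submodule.mem_top

theorem ann_eq_of_coatom (m : HomogeneousIdeal 𝒜) (hm : IsCoatom m) {u : X} {g : ι}
    (hu : u ∈ 𝒳 g) (hu0 : u ≠ 0) (hmu : ∀ r ∈ m.toIdeal, r • u = 0) (s : R) :
    s • u = 0 ↔ s ∈ m.toIdeal := by
  refine ⟨fun hs => ?_, hmu s⟩
  have hJhom : (LinearMap.ker (LinearMap.toSpanSingleton R X u)).IsHomogeneous 𝒜 := by
    intro k r hr
    rw [LinearMap.mem_ker, LinearMap.toSpanSingleton_apply] at hr ⊢
    have := decompose_smul_of_mem 𝒜 𝒳 hu r (k + g)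
    rw [add_sub_cancel_right, hr, decompose_zero, DirectSum.zero_apply,
      ZeroMemClass.coe_zero] at this
    exact this.symm
  obtain ⟨J, hJ⟩ : ∃ J : HomogeneousIdeal 𝒜,
      J.toIdeal = LinearMap.ker (LinearMap.toSpanSingleton R X u) := ⟨⟨_, hJhom⟩, rfl⟩
  have hle : m ≤ J := by
    change m.toIdeal ≤ J.toIdeal
    rw [hJ]
    intro r hr
    rw [LinearMap.mem_ker, LinearMap.toSpanSingleton_apply]
    exact hmu r hr
  have hsJ : s ∈ J.toIdeal := by
    rw [hJ, LinearMap.mem_ker, LinearMap.toSpanSingleton_apply]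
    exact hs
  rcases eq_or_lt_of_le hle with h | h
  · rw [h]
    exact hsJ
  · exfalso
    have htop := hm.2 J h
    have h1 : (1 : R) ∈ J.toIdeal := by
      rw [htop]
      exact Submodule.mem_top
    rw [hJ, LinearMap.mem_ker, LinearMap.toSpanSingleton_apply, one_smul] at h1
    exact hu0 h1

theorem exists_homog_socle (m : HomogeneousIdeal 𝒜) (P : Submodule R X)
    (hP : P.IsHomogeneous 𝒳) (h : P ⊓ gam m.toIdeal X ≠ ⊥) :
    ∃ (g : ι) (u : X), u ∈ 𝒳 g ∧ u ∈ P ∧ u ≠ 0 ∧ ∀ r ∈ m.toIdeal, r • u = 0 := by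
  classical
  obtain ⟨x, ⟨hxP, hxg⟩, hx0⟩ := Submodule.exists_mem_ne_zero_of_ne_bot h
  have hex : ∃ n : ℕ, ∀ r ∈ m.toIdeal ^ n, r • x = 0 := hxg
  obtain ⟨k, hk⟩ : ∃ k, k = Nat.find hex := ⟨_, rfl⟩
  have hkspec : ∀ r ∈ m.toIdeal ^ k, r • x = 0 := by
    rw [hk]
    exact Nat.find_spec hex
  have hk0 : k ≠ 0 := by
    intro hk0
    apply hx0
    have := hkspec 1 (by rw [hk0, pow_zero, Ideal.one_eq_top]; exact Submodule.mem_top)
    rwa [one_smul] at this
  obtain ⟨k', hk'⟩ := Nat.exists_eq_succ_of_ne_zero hk0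
  have hmin : ¬ ∀ r ∈ m.toIdeal ^ k', r • x = 0 := by
    intro hcon
    have := Nat.find_min' hex hcon
    rw [← hk] at this
    omega
  push_neg at hmin
  obtain ⟨r, hr, hy0⟩ := hmin
  have hmy : ∀ a ∈ m.toIdeal, a • (r • x) = 0 := by
    intro a ha
    rw [← mul_smul]
    apply hkspec
    rw [hk', Nat.succ_eq_add_one, pow_succ']
    exact Ideal.mul_mem_mul ha hr
  obtain ⟨j, hj⟩ := exists_decompose_ne_zero 𝒳 hy0
  exact ⟨j, (decompose 𝒳 (r • x) j : X), (decompose 𝒳 (r • x) j).2,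
    hP j (P.smul_mem r hxP), hj,
    smul_comp_eq_zero 𝒜 𝒳 m.toIdeal m.isHomogeneous (r • x) hmy j⟩

end socle

/-! ### socles of localizations -/
section locsoc

variable (p : Ideal R) [hp : p.IsPrime] {X : Type u} [AddCommGroup X] [Module R X]

theorem mk_mem_soc {u : X} (hmu : ∀ r ∈ p, r • u = 0) :
    LocalizedModule.mk u (1 : p.primeCompl) ∈ soc p (LocalizedModule p.primeCompl X) := by
  rw [mem_soc]
  intro r hr
  rw [LocalizedModule.smul'_mk, hmu r hr, LocalizedModule.zero_mk]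

theorem mk_ne_zero {u : X} (hann : ∀ s : R, s • u = 0 → s ∈ p) :
    LocalizedModule.mk u (1 : p.primeCompl) ≠ 0 := by
  intro h
  obtain ⟨t, ht⟩ := (mk_eq_zero p).1 h
  rw [Submonoid.smul_def] at ht
  exact t.2 (hann _ ht)

theorem soc_eq_zero_of_gam [IsNoetherianRing R] (hg : gam p X = ⊥)
    (y : LocalizedModule p.primeCompl X) (hy : y ∈ soc p (LocalizedModule p.primeCompl X)) :
    y = 0 := by
  revert hy
  refine LocalizedModule.induction_on (fun x s => ?_) y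
  intro hy
  obtain ⟨t, ht⟩ := exists_common p x s ((mem_soc p).1 hy)
  have hmem : (t : R) • x ∈ gam p X := ⟨1, fun r hr => by rw [pow_one] at hr; exact ht r hr⟩
  rw [hg, Submodule.mem_bot] at hmem
  exact (mk_eq_zero p).2 ⟨t, by rw [Submonoid.smul_def]; exact hmem⟩

end locsoc

/-! ### torsion of *injective modules at a *maximal ideal -/
section graded_soc

variable {X : Type u} [AddCommGroup X] [Module R X] (𝒳 : ι → AddSubgroup X) [Decomposition 𝒳]
  [SetLike.GradedSMul 𝒜 𝒳] (m : HomogeneousIdeal 𝒜) [hp : m.toIdeal.IsPrime]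

include 𝒳 in
theorem gam_eq_bot_of_length_zero (hm : IsCoatom m)
    (hlen : Module.length (Localization.AtPrime m.toIdeal)
      (soc m.toIdeal (LocalizedModule m.toIdeal.primeCompl X)) = 0) :
    gam m.toIdeal X = ⊥ := by
  by_contra h
  have h' : (⊤ : Submodule R X) ⊓ gam m.toIdeal X ≠ ⊥ := by rwa [top_inf_eq]
  obtain ⟨g, u, hu, -, hu0, hmu⟩ := exists_homog_socle 𝒜 𝒳 m ⊤ (top_isHomogeneous 𝒳) h'
  have hann := ann_eq_of_coatom 𝒜 𝒳 m hm hu hu0 hmu
  haveI : Subsingleton (soc m.toIdeal (LocalizedModule m.toIdeal.primeCompl X)) :=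
    Module.length_eq_zero_iff.1 hlen
  have : (⟨_, mk_mem_soc m.toIdeal hmu⟩ :
      soc m.toIdeal (LocalizedModule m.toIdeal.primeCompl X)) = 0 := Subsingleton.elim _ _
  exact mk_ne_zero m.toIdeal (fun s hs => (hann s).1 hs) (congrArg Subtype.val this)

theorem gam_eq_range [IsNoetherianRing R] (hX : IsStarInj 𝒜 𝒳) (hm : IsCoatom m)
    (hlen : Module.length (Localization.AtPrime m.toIdeal)
      (soc m.toIdeal (LocalizedModule m.toIdeal.primeCompl X)) = 1) :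
    ∃ (X' : GMod.{u} 𝒜) (u' : X'.carrier) (g₀ : ι) (ψ : X'.carrier →ₗ[R] X),
      IsStarInj 𝒜 X'.gr ∧ PHull X'.gr m.toIdeal u' g₀ ∧ Function.Injective ψ ∧
        IsGrHom X'.gr 𝒳 ψ ∧ LinearMap.range ψ = gam m.toIdeal X := by
  classical
  have hgne : gam m.toIdeal X ≠ ⊥ := by
    intro h
    haveI : Subsingleton (soc m.toIdeal (LocalizedModule m.toIdeal.primeCompl X)) :=
      ⟨fun a b => Subtype.ext (by
        rw [soc_eq_zero_of_gam m.toIdeal h a.1 a.2, soc_eq_zero_of_gam m.toIdeal h b.1 b.2])⟩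
    rw [Module.length_eq_zero_iff.2 this] at hlen
    exact zero_ne_one hlen
  have h' : (⊤ : Submodule R X) ⊓ gam m.toIdeal X ≠ ⊥ := by rwa [top_inf_eq]
  obtain ⟨g₀, u, hu, -, hu0, hmu⟩ := exists_homog_socle 𝒜 𝒳 m ⊤ (top_isHomogeneous 𝒳) h'
  have hann := ann_eq_of_coatom 𝒜 𝒳 m hm hu hu0 hmu
  have hann' : (Submodule.span R {u}).annihilator = m.toIdeal := by
    ext r
    rw [Submodule.mem_annihilator_span_singleton, hann]
  obtain ⟨X', f, ψ, Q, hhull, hψinj, hψgr, hψf, hQ, hcompl⟩ :=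
    main13223 𝒜 𝒳 hX m g₀ u hu hann'
  obtain ⟨u', hu'⟩ : ∃ u' : X'.carrier, u' = f (Ideal.Quotient.mk m.toIdeal 1) := ⟨_, rfl⟩
  have h1mem : (Ideal.Quotient.mk m.toIdeal 1) ∈ GrLC.quotGr 𝒜 m (g₀ - g₀) := by
    rw [sub_self]
    exact one_mem_quotGr 𝒜 m
  have hph' : PHull X'.gr m.toIdeal u' g₀ := by
    rw [hu']
    exact phull_of_ess X'.gr m.toIdeal hhull.toIsStarEss h1mem
  have hψu : ψ u' = u := by
    rw [hu', map_one]
    exact hψf
  have htors : ∀ w : X'.carrier, ψ w ∈ gam m.toIdeal X := by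
    intro w
    have hw : w ∈ gam m.toIdeal X'.carrier := by
      rw [main13220_aux 𝒜 X'.gr hph']
      exact Submodule.mem_top
    exact map_mem_gam ψ hw
  have hQg : Q ⊓ gam m.toIdeal X = ⊥ := by
    by_contra hne
    obtain ⟨g₁, v, hv, hvQ, hv0, hmv⟩ := exists_homog_socle 𝒜 𝒳 m Q hQ hne
    have hannv := ann_eq_of_coatom 𝒜 𝒳 m hm hv hv0 hmv
    haveI : IsSimpleModule (Localization.AtPrime m.toIdeal)
        (soc m.toIdeal (LocalizedModule m.toIdeal.primeCompl X)) :=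
      Module.length_eq_one_iff.1 hlen
    obtain ⟨a, ha⟩ : ∃ a : soc m.toIdeal (LocalizedModule m.toIdeal.primeCompl X),
        a = ⟨_, mk_mem_soc m.toIdeal hmu⟩ := ⟨_, rfl⟩
    obtain ⟨b, hb⟩ : ∃ b : soc m.toIdeal (LocalizedModule m.toIdeal.primeCompl X),
        b = ⟨_, mk_mem_soc m.toIdeal hmv⟩ := ⟨_, rfl⟩
    have ha0 : a ≠ 0 := by
      intro h0
      rw [ha] at h0
      exact mk_ne_zero m.toIdeal (fun s hs => (hann s).1 hs) (congrArg Subtype.val h0)
    have hspan : Submodule.span (Localization.AtPrime m.toIdeal) {a} = ⊤ := by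
      rcases eq_bot_or_eq_top (Submodule.span (Localization.AtPrime m.toIdeal) {a}) with h | h
      · exfalso
        rw [Submodule.span_singleton_eq_bot] at h
        exact ha0 h
      · exact h
    have hbmem : b ∈ Submodule.span (Localization.AtPrime m.toIdeal) {a} := by
      rw [hspan]
      exact Submodule.mem_top
    obtain ⟨c, hc⟩ := Submodule.mem_span_singleton.1 hbmem
    obtain ⟨r, s, rfl⟩ := IsLocalization.exists_mk'_eq m.toIdeal.primeCompl c
    have hc' := congrArg Subtype.val hc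
    rw [ha, hb, Submodule.coe_smul] at hc'
    change IsLocalization.mk' (Localization.AtPrime m.toIdeal) r s •
      LocalizedModule.mk u (1 : m.toIdeal.primeCompl) =
      LocalizedModule.mk v (1 : m.toIdeal.primeCompl) at hc'
    rw [← Localization.mk_eq_mk'_apply, LocalizedModule.mk_smul_mk, LocalizedModule.mk_eq] at hc'
    obtain ⟨t, ht⟩ := hc'
    simp only [Submonoid.smul_def] at ht
    have hz1 : (t : R) • ((s * 1 : m.toIdeal.primeCompl) : R) • v ∈ LinearMap.range ψ := by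
      rw [← ht]
      exact Submodule.smul_mem _ _ (Submodule.smul_mem _ _ (Submodule.smul_mem _ _ ⟨u', hψu⟩))
    have hz2 : (t : R) • ((s * 1 : m.toIdeal.primeCompl) : R) • v ∈ Q :=
      Q.smul_mem _ (Q.smul_mem _ hvQ)
    have hz : (t : R) • ((s * 1 : m.toIdeal.primeCompl) : R) • v ∈ LinearMap.range ψ ⊓ Q :=
      ⟨hz1, hz2⟩
    rw [hcompl.inf_eq_bot, Submodule.mem_bot, ← mul_smul, hannv] at hz
    rcases hp.mem_or_mem hz with h | h
    · exact t.2 h
    · exact (s * 1).2 h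
  refine ⟨X', u', g₀, ψ, hhull.starInj, hph', hψinj, hψgr, ?_⟩
  apply le_antisymm
  · rintro _ ⟨w, rfl⟩
    exact htors w
  · intro x hx
    have hx' : x ∈ LinearMap.range ψ ⊔ Q := by
      rw [hcompl.sup_eq_top]
      exact Submodule.mem_top
    obtain ⟨a, ha, b, hb, hab⟩ := Submodule.mem_sup.1 hx'
    have hbg : b ∈ gam m.toIdeal X := by
      have : b = x - a := by rw [← hab]; abel
      rw [this]
      obtain ⟨w, rfl⟩ := ha
      exact Submodule.sub_mem _ hx (htors w)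
    have hb0 : b ∈ Q ⊓ gam m.toIdeal X := ⟨hb, hbg⟩
    rw [hQg, Submodule.mem_bot] at hb0
    rw [← hab, hb0, add_zero]
    exact ha

end graded_soc

/-! ### Bass numbers through a minimal resolution -/
section bass

variable [IsNoetherianRing R]

theorem bassNum_zero_eq_soc (p : Ideal R) [p.IsPrime] (M : Type u) [AddCommGroup M]
    [Module R M] :
    GrLC.bassNum p M 0 = Module.length (Localization.AtPrime p)
      (soc p (LocalizedModule p.primeCompl M)) := by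
  unfold GrLC.bassNum GrLC.bassNumLocal
  rw [((CategoryTheory.Abelian.Ext.linearEquiv₀ (R := Localization.AtPrime p)).trans
      ModuleCat.homLinearEquiv).length_eq,
    (LinearEquiv.ofBijective _ (homToSoc_bijective p
      (LocalizedModule p.primeCompl M))).length_eq]

theorem length_soc_of_ess (p : Ideal R) [p.IsPrime] {M E : Type u} [AddCommGroup M]
    [Module R M] [AddCommGroup E] [Module R E] {e : M →ₗ[R] E}
    (he : InjHull.IsEssentialInj e) :
    Module.length (Localization.AtPrime p) (soc p (LocalizedModule p.primeCompl M)) =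
      Module.length (Localization.AtPrime p) (soc p (LocalizedModule p.primeCompl E)) :=
  (LinearEquiv.ofBijective _ (socMap_bijective p he)).length_eq

variable {M : Type u} [AddCommGroup M] [Module R M] (ℳ : ι → AddSubgroup M) [Decomposition ℳ]
  [SetLike.GradedSMul 𝒜 ℳ]

theorem bassNum_eq_length_soc (E : StarInjRes 𝒜 ℳ)
    (hmin0 : ∀ P : Submodule R (E.X 0).carrier, P.IsHomogeneous (E.X 0).gr → P ≠ ⊥ →
      P ⊓ LinearMap.range E.ε ≠ ⊥)
    (hmin : ∀ (n : ℕ) (P : Submodule R (E.X (n + 1)).carrier),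
      P.IsHomogeneous (E.X (n + 1)).gr → P ≠ ⊥ → P ⊓ LinearMap.range (E.d n) ≠ ⊥)
    (p : HomogeneousIdeal 𝒜) [p.toIdeal.IsPrime] (j : ℕ) :
    GrLC.bassNum p.toIdeal M j = Module.length (Localization.AtPrime p.toIdeal)
      (soc p.toIdeal (LocalizedModule p.toIdeal.primeCompl (E.X j).carrier)) := by
  cases j with
  | zero =>
    rw [bassNum_zero_eq_soc]
    exact length_soc_of_ess p.toIdeal
      (main13211 𝒜 ℳ (E.X 0).gr ⟨E.ε_injective, E.ε_grHom, hmin0⟩)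
  | succ n =>
    have h1 := chain 𝒜 E hmin0 hmin p n 0
    rw [zero_add] at h1
    rw [h1, bassNum_zero_eq_soc]
    exact length_soc_of_ess p.toIdeal (ess_ker 𝒜 E n (hmin n))

end bass

/-! ### cohomology concentrated in one degree -/
section Hcomp

variable {𝒜}
variable {M : Type u} [AddCommGroup M] [Module R M] {ℳ : ι → AddSubgroup M} [Decomposition ℳ]
  [SetLike.GradedSMul 𝒜 ℳ] (E₂ : StarInjRes 𝒜 ℳ) (m : HomogeneousIdeal 𝒜)

theorem cobdy_eq_zero (n : ℕ)
    (hprev : ∀ k, k + 1 = n → gam m.toIdeal (E₂.X k).carrier = ⊥) (z : (E₂.X n).carrier)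
    (hz : z ∈ E₂.cobdy m n) : z = 0 := by
  cases n with
  | zero => exact (mem_cobdy_zero m E₂ z).1 hz
  | succ k =>
    obtain ⟨w, hw, rfl⟩ := (mem_cobdy_succ m E₂ k z).1 hz
    rw [hprev k rfl, Submodule.mem_bot] at hw
    rw [hw, map_zero]

theorem H_equiv_of_range (n : ℕ)
    (hprev : ∀ k, k + 1 = n → gam m.toIdeal (E₂.X k).carrier = ⊥)
    (hnext : gam m.toIdeal (E₂.X (n + 1)).carrier = ⊥) (X' : GMod.{u} 𝒜)
    (ψ : X'.carrier →ₗ[R] (E₂.X n).carrier) (hψinj : Function.Injective ψ)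
    (hψgr : IsGrHom X'.gr (E₂.X n).gr ψ)
    (hrange : LinearMap.range ψ = gam m.toIdeal (E₂.X n).carrier) :
    ∃ Φ : X'.carrier ≃ₗ[R] E₂.H m n, IsGrHom X'.gr (E₂.Hgr m n) Φ.toLinearMap ∧
      IsGrHom (E₂.Hgr m n) X'.gr Φ.symm.toLinearMap := by
  have hmem : ∀ w, ψ w ∈ E₂.cocyc m n := by
    intro w
    have h1 : ψ w ∈ gam m.toIdeal (E₂.X n).carrier := by
      rw [← hrange]
      exact LinearMap.mem_range_self ψ w
    refine ⟨h1, ?_⟩
    have h2 : E₂.d n (ψ w) ∈ gam m.toIdeal (E₂.X (n + 1)).carrier := map_mem_gam _ h1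
    rw [hnext, Submodule.mem_bot] at h2
    exact h2
  obtain ⟨Φ₀, hΦ₀⟩ : ∃ Φ₀ : X'.carrier →ₗ[R] E₂.H m n,
      ∀ w, Φ₀ w = E₂.toH m n ⟨ψ w, hmem w⟩ :=
    ⟨E₂.toH m n ∘ₗ LinearMap.codRestrict (E₂.cocyc m n) ψ hmem, fun w => rfl⟩
  have hinj : Function.Injective Φ₀ := by
    rw [injective_iff_map_eq_zero]
    intro w hw
    rw [hΦ₀, toH_eq_zero_iff] at hw
    have := cobdy_eq_zero E₂ m n hprev _ hw
    exact hψinj (this.trans (map_zero ψ).symm)
  have hsurj : Function.Surjective Φ₀ := by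
    intro x
    obtain ⟨z, rfl⟩ := toH_surjective m E₂ n x
    have hz : (z : (E₂.X n).carrier) ∈ LinearMap.range ψ := by
      rw [hrange]
      exact z.2.1
    obtain ⟨w, hw⟩ := hz
    refine ⟨w, ?_⟩
    rw [hΦ₀]
    congr 1
    exact Subtype.ext hw
  refine ⟨LinearEquiv.ofBijective Φ₀ ⟨hinj, hsurj⟩, ?_, ?_⟩
  · intro g w hw
    change Φ₀ w ∈ E₂.Hgr m n g
    rw [hΦ₀, mem_Hgr_iff]
    exact ⟨⟨ψ w, hmem w⟩, hψgr g w hw, rfl⟩
  · intro g x hx
    obtain ⟨z, hzg, rfl⟩ := (mem_Hgr_iff m E₂ n g x).1 hx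
    have hz : (z : (E₂.X n).carrier) ∈ LinearMap.range ψ := by
      rw [hrange]
      exact z.2.1
    obtain ⟨w, hw⟩ := hz
    have hwg : w ∈ X'.gr g :=
      mem_of_map_mem X'.gr (E₂.X n).gr hψgr hψinj (by rw [hw]; exact hzg)
    have hΦw : LinearEquiv.ofBijective Φ₀ ⟨hinj, hsurj⟩ w = E₂.toH m n z := by
      change Φ₀ w = _
      rw [hΦ₀]
      congr 1
      exact Subtype.ext hw
    change (LinearEquiv.ofBijective Φ₀ ⟨hinj, hsurj⟩).symm (E₂.toH m n z) ∈ X'.gr g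
    rw [← hΦw, LinearEquiv.symm_apply_apply]
    exact hwg

end Hcomp

/-! ### uniqueness of pointed *injective hulls -/
section unique

variable {E : Type u} [AddCommGroup E] [Module R E] (𝓔 : ι → AddSubgroup E) [Decomposition 𝓔]
  [SetLike.GradedSMul 𝒜 𝓔]
variable {F : Type u} [AddCommGroup F] [Module R F] (𝓕 : ι → AddSubgroup F) [Decomposition 𝓕]
  [SetLike.GradedSMul 𝒜 𝓕]

/-- the cyclic submodule generated by `u` -/
def cyc (R : Type u) [CommRing R] {E : Type u} [AddCommGroup E] [Module R E] (u : E) :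
    Submodule R E :=
  LinearMap.range (LinearMap.toSpanSingleton R E u)

omit [GradedRing 𝒜] [DecidableEq ι] [AddCommGroup ι] in
theorem smul_mem_cyc (u : E) (r : R) : r • u ∈ cyc R u := ⟨r, rfl⟩

omit [GradedRing 𝒜] [DecidableEq ι] [AddCommGroup ι] in
theorem exists_of_mem_cyc {u x : E} (hx : x ∈ cyc R u) : ∃ r : R, r • u = x := by
  obtain ⟨r, hr⟩ := hx
  exact ⟨r, hr⟩

omit [GradedRing 𝒜] [DecidableEq ι] [AddCommGroup ι] in
theorem cyc_eq_span (u : E) : cyc R u = Submodule.span R {u} :=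
  LinearMap.range_toSpanSingleton u

omit [GradedRing 𝒜] [DecidableEq ι] [AddCommGroup ι] in
theorem exists_cyc_map {u : E} {v : F} (hker : ∀ r : R, r • u = 0 → r • v = 0) :
    ∃ f₂ : cyc R u →ₗ[R] F, ∀ (r : R) (h : r • u ∈ cyc R u), f₂ ⟨r • u, h⟩ = r • v := by
  have hker' : LinearMap.ker (LinearMap.toSpanSingleton R E u) ≤
      LinearMap.ker (LinearMap.toSpanSingleton R F v) := by
    intro r hr
    rw [LinearMap.mem_ker, LinearMap.toSpanSingleton_apply] at hr ⊢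
    exact hker r hr
  refine ⟨(LinearMap.ker (LinearMap.toSpanSingleton R E u)).liftQ
    (LinearMap.toSpanSingleton R F v) hker' ∘ₗ
    (LinearMap.toSpanSingleton R E u).quotKerEquivRange.symm.toLinearMap, fun r h => ?_⟩
  change (LinearMap.ker (LinearMap.toSpanSingleton R E u)).liftQ
    (LinearMap.toSpanSingleton R F v) hker'
    ((LinearMap.toSpanSingleton R E u).quotKerEquivRange.symm
      ⟨LinearMap.toSpanSingleton R E u r, LinearMap.mem_range_self _ r⟩) = r • v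
  rw [LinearMap.quotKerEquivRange_symm_apply_image, Submodule.mkQ_apply, Submodule.liftQ_apply,
    LinearMap.toSpanSingleton_apply]

theorem phull_unique (hE : IsStarInj 𝒜 𝓔) (hF : IsStarInj 𝒜 𝓕) {p : Ideal R} {u : E} {v : F}
    {g₁ g₂ : ι} (h₁ : PHull 𝓔 p u g₁) (h₂ : PHull 𝓕 p v g₂) :
    ∃ β : E ≃ₗ[R] F, IsGrHomDeg 𝓔 𝓕 β.toLinearMap (g₂ - g₁) := by
  have hShom : (cyc R u).IsHomogeneous 𝓔 := by
    rw [cyc_eq_span]
    exact span_singleton_isHomogeneous 𝒜 𝓔 h₁.mem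
  letI : Decomposition (subGr 𝓔 (cyc R u)) := subDecomp 𝓔 (cyc R u) hShom
  letI : SetLike.GradedSMul 𝒜 (subGr 𝓔 (cyc R u)) := sub_gsmul 𝒜 𝓔 (cyc R u)
  have h₁' : IsStarInjHull 𝒜 (subGr 𝓔 (cyc R u)) 𝓔 (cyc R u).subtype := by
    refine ⟨⟨(cyc R u).injective_subtype, subtype_isGrHom 𝓔 (cyc R u), fun P hP hP0 => ?_⟩, hE⟩
    rw [Submodule.range_subtype, cyc_eq_span]
    exact h₁.ess P hP hP0
  obtain ⟨s, hs⟩ : ∃ s : ι, s = g₂ - g₁ := ⟨_, rfl⟩
  letI : Decomposition (shiftGr 𝓕 s) := shiftDecomp 𝓕 s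
  letI : SetLike.GradedSMul 𝒜 (shiftGr 𝓕 s) := shift_gsmul 𝒜 𝓕 s
  obtain ⟨f₂, hf₂⟩ := exists_cyc_map (R := R) (u := u) (v := v)
    (fun r hr => (h₂.ann r).2 ((h₁.ann r).1 hr))
  have hrep : ∀ x : cyc R u, ∃ r : R, x = ⟨r • u, smul_mem_cyc u r⟩ := by
    intro x
    obtain ⟨r, hr⟩ := exists_of_mem_cyc x.2
    exact ⟨r, Subtype.ext hr.symm⟩
  have hf₂inj : Function.Injective f₂ := by
    rw [injective_iff_map_eq_zero]
    intro x hx
    obtain ⟨r, rfl⟩ := hrep x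
    rw [hf₂] at hx
    apply Subtype.ext
    rw [Submodule.coe_zero]
    exact (h₁.ann r).2 ((h₂.ann r).1 hx)
  have hf₂gr : IsGrHom (subGr 𝓔 (cyc R u)) (shiftGr 𝓕 s) f₂ := by
    intro k x hx
    obtain ⟨r, rfl⟩ := hrep x
    have hx' : r • u ∈ 𝓔 k := hx
    have h3 := decompose_smul_of_mem 𝒜 𝓔 h₁.mem r k
    rw [decompose_of_mem_same 𝓔 hx'] at h3
    have h4 : (⟨r • u, smul_mem_cyc u r⟩ : cyc R u) =
        ⟨(decompose 𝒜 r (k - g₁) : R) • u, smul_mem_cyc u _⟩ := Subtype.ext h3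
    rw [h4, hf₂]
    have h5 := smul_mem_gr 𝒜 𝓕 (decompose 𝒜 r (k - g₁)).2 h₂.mem
    exact mem_congr 𝓕 (by rw [hs]; abel) h5
  have hvrange : v ∈ LinearMap.range f₂ := by
    refine ⟨⟨(1 : R) • u, smul_mem_cyc u 1⟩, ?_⟩
    rw [hf₂, one_smul]
  have h₂' : IsStarInjHull 𝒜 (subGr 𝓔 (cyc R u)) (shiftGr 𝓕 s) f₂ := by
    refine ⟨⟨hf₂inj, hf₂gr, fun P hP hP0 => ?_⟩, GrLES3H1.shift_starInj 𝒜 𝓕 hF s⟩
    have hP' : P.IsHomogeneous 𝓕 := isHomogeneous_of_shift 𝓕 s hP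
    have h6 := h₂.ess P hP' hP0
    intro hbot
    apply h6
    rw [eq_bot_iff]
    refine le_trans (inf_le_inf_left P ?_) (eq_bot_iff.1 hbot)
    rw [Submodule.span_singleton_le_iff_mem]
    exact hvrange
  obtain ⟨β, hβ, -⟩ := main13214 𝒜 (subGr 𝓔 (cyc R u)) 𝓔 (shiftGr 𝓕 s) (cyc R u).subtype f₂
    h₁' h₂'
  refine ⟨β, fun k x hx => ?_⟩
  have h7 := hβ k x hx
  rw [← hs]
  exact mem_congr 𝓕 (add_comm s k) h7

end unique

/-! ### the main theorem -/

theorem main13244 [Module.Free ℤ ι] [Module.Finite ℤ ι] (R : Type u) [CommRing R]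
    [LocCoh.IsGorensteinRing R] (𝒜 : ι → AddSubgroup R) [GradedRing 𝒜] (m : HomogeneousIdeal 𝒜)
    (hm : GrLC.IsStarLocal 𝒜 m) (n : ℕ) (hn : m.toIdeal.height = n) (I : GrLC.StarInjRes 𝒜 𝒜)
    (E' : Type u) [AddCommGroup E'] [Module R E'] (𝓔 : ι → AddSubgroup E')
    [DirectSum.Decomposition 𝓔] [SetLike.GradedSMul 𝒜 𝓔] (e : (R ⧸ m.toIdeal) →ₗ[R] E')
    (he : GrLC.IsStarInjHull 𝒜 (GrLC.quotGr 𝒜 m) 𝓔 e) :
    ∃ (g : ι) (φ : I.H m n ≃ₗ[R] E'), GrLC.IsGrHomDeg (I.Hgr m n) 𝓔 φ.toLinearMap g := by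
  haveI hprime : m.toIdeal.IsPrime := isPrime_of_coatom 𝒜 m hm.1
  obtain ⟨E₂, hE₂⟩ : ∃ E₂ : StarInjRes 𝒜 𝒜, E₂ = minRes 𝒜 𝒜 := ⟨_, rfl⟩
  have hmin0 : ∀ P : Submodule R (E₂.X 0).carrier, P.IsHomogeneous (E₂.X 0).gr → P ≠ ⊥ →
      P ⊓ LinearMap.range E₂.ε ≠ ⊥ := by
    rw [hE₂]
    exact minRes_min0 𝒜 𝒜
  have hmin : ∀ (k : ℕ) (P : Submodule R (E₂.X (k + 1)).carrier),
      P.IsHomogeneous (E₂.X (k + 1)).gr → P ≠ ⊥ → P ⊓ LinearMap.range (E₂.d k) ≠ ⊥ := by
    rw [hE₂]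
    exact minRes_min 𝒜 𝒜
  have hσ : ∀ j : ℕ, Module.length (Localization.AtPrime m.toIdeal)
      (soc m.toIdeal (LocalizedModule m.toIdeal.primeCompl (E₂.X j).carrier)) =
      if j = n then 1 else 0 := by
    intro j
    rw [← bassNum_eq_length_soc 𝒜 𝒜 E₂ hmin0 hmin m j]
    exact Groth.Agent.Lib.GorBassH1.bassNum_gorenstein R m.toIdeal n hn j
  have hnext : gam m.toIdeal (E₂.X (n + 1)).carrier = ⊥ :=
    gam_eq_bot_of_length_zero 𝒜 (E₂.X (n + 1)).gr m hm.1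
      (by rw [hσ, if_neg (Nat.succ_ne_self n)])
  have hprev : ∀ k, k + 1 = n → gam m.toIdeal (E₂.X k).carrier = ⊥ := by
    intro k hk
    exact gam_eq_bot_of_length_zero 𝒜 (E₂.X k).gr m hm.1
      (by rw [hσ, if_neg (by omega)])
  obtain ⟨X', u', g₀, ψ, hX'inj, hph', hψinj, hψgr, hrange⟩ :=
    gam_eq_range 𝒜 (E₂.X n).gr m (E₂.starInj n) hm.1 (by rw [hσ, if_pos rfl])
  obtain ⟨Φ, -, hΦ'⟩ := H_equiv_of_range E₂ m n hprev hnext X' ψ hψinj hψgr hrange
  obtain ⟨β, hβ⟩ := phull_unique 𝒜 X'.gr 𝓔 hX'inj he.starInj hph' (phull_of_hull 𝒜 𝓔 m he)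
  obtain ⟨γ, hγ⟩ := H_equiv I E₂ m n
  refine ⟨0 - g₀, (γ.trans Φ.symm).trans β, ?_⟩
  intro k x hx
  have h1 := hγ k x hx
  have h2 := hΦ' k _ h1
  exact hβ k _ h2

end Groth.Agent.Lib.GorTopH1
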