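import Mathlib
import Groth.Prelude.Def_GrLC
import Groth.Prelude.Def_Wider
import Groth.Agent.Lib.GrStar2_helper1
import Groth.Agent.Lib.InjHull_helper3

/-! A *injective module over a Noetherian `ℤ`-graded ring has injective dimension at most one
(helper1).  The coinduced module `Coind 𝒜 I = I[t,t⁻¹]` (twisted action) of an injective module `I` has
the resolution `0 → I[t,t⁻¹] → ∏_k D → ∏_k D → 0`, `D = ⊕ I` with the plain action and the product
with the twisted action `(r_h ψ)(k) = r_h ψ(h+k)`; a *injective module is a retract of a coinduced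
one. -/

set_option autoImplicit false

namespace Groth.Agent.Lib.GrInjDimH1

open DirectSum GrLC Groth.Agent.Lib.GrStarH1 Groth.Agent.Lib.GrStar2H1

universe u

variable {R : Type u} [CommRing R] (𝒜 : ℤ → AddSubgroup R) [GradedRing 𝒜]

/-- additive and linear for homogeneous scalars implies linear -/
theorem smul_of_homog {X W : Type*} [AddCommGroup X] [Module R X] [AddCommGroup W] [Module R W]
    (F : X →+ W) (hF : ∀ (h : ℤ) (r : R), r ∈ 𝒜 h → ∀ x, F (r • x) = r • F x) (r : R) (x : X) :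
    F (r • x) = r • F x := by
  induction r using DirectSum.Decomposition.inductionOn 𝒜 with
  | zero => rw [zero_smul, zero_smul, map_zero]
  | @homogeneous h r => exact hF h r r.2 x
  | add r r' hr hr' => rw [add_smul, map_add, hr, hr', add_smul]

/-- a linear map out of a coinduced module from an additive one -/
noncomputable def linOfAdd {X : Type u} {W : Type*} [AddCommGroup X] [Module R X] [AddCommGroup W]
    [Module R W] (F : Coind 𝒜 X →+ W)
    (hF : ∀ (h : ℤ) (r : R), r ∈ 𝒜 h → ∀ (g : ℤ) (x : X),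
      F (cof 𝒜 X (h + g) (r • x)) = r • F (cof 𝒜 X g x)) : Coind 𝒜 X →ₗ[R] W where
  toFun := F
  map_add' := map_add F
  map_smul' := by
    intro r v
    rw [RingHom.id_apply]
    refine smul_of_homog 𝒜 F (fun h r hr v => ?_) r v
    induction v using coind_induction 𝒜 X with
    | zero => rw [smul_zero, map_zero, smul_zero]
    | of g y => rw [smul_cof 𝒜 X hr, hF h r hr]
    | add x y hx hy => rw [smul_add, map_add, hx, hy, map_add, smul_add]

theorem linOfAdd_apply {X : Type u} {W : Type*} [AddCommGroup X] [Module R X] [AddCommGroup W]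
    [Module R W] (F : Coind 𝒜 X →+ W) (hF) (v : Coind 𝒜 X) : linOfAdd 𝒜 F hF v = F v := rfl

/-! ### the plain direct sum -/
section theta

variable (I : Type u) [AddCommGroup I] [Module R I]

/-- the identification of the coinduced module with the plain direct sum -/
noncomputable def theta : Coind 𝒜 I →+ (ℤ →₀ I) :=
  DirectSum.toAddMonoid (fun g =>
    (Finsupp.singleAddHom g).comp (AddSubgroup.topEquiv (G := I)).toAddMonoidHom)

theorem theta_cof (g : ℤ) (y : I) : theta 𝒜 I (cof 𝒜 I g y) = Finsupp.single g y := by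
  change DirectSum.toAddMonoid _
    (DirectSum.of (fun i : ℤ => ↥(topFam (ι := ℤ) I i)) g ⟨y, trivial⟩) = _
  rw [DirectSum.toAddMonoid_of]
  rfl

/-- the inverse identification -/
noncomputable def thetaInv : (ℤ →₀ I) →+ Coind 𝒜 I :=
  Finsupp.liftAddHom (fun g => cof 𝒜 I g)

theorem thetaInv_single (g : ℤ) (y : I) : thetaInv 𝒜 I (Finsupp.single g y) = cof 𝒜 I g y := by
  unfold thetaInv
  rw [Finsupp.liftAddHom_apply_single]

theorem thetaInv_theta (v : Coind 𝒜 I) : thetaInv 𝒜 I (theta 𝒜 I v) = v := by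
  induction v using coind_induction 𝒜 I with
  | zero => rw [map_zero, map_zero]
  | of g y => rw [theta_cof, thetaInv_single]
  | add x y hx hy => rw [map_add, map_add, hx, hy]

theorem theta_thetaInv (d : ℤ →₀ I) : theta 𝒜 I (thetaInv 𝒜 I d) = d := by
  induction d using Finsupp.induction_linear with
  | zero => rw [map_zero, map_zero]
  | add x y hx hy => rw [map_add, map_add, hx, hy]
  | single g y => rw [thetaInv_single, theta_cof]

variable (R) in
/-- the plain shift -/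
noncomputable def shD (k : ℤ) : (ℤ →₀ I) →ₗ[R] (ℤ →₀ I) := Finsupp.lmapDomain I R (fun g => k + g)

theorem shD_single (k g : ℤ) (y : I) :
    shD R I k (Finsupp.single g y) = Finsupp.single (k + g) y :=
  Finsupp.mapDomain_single

theorem shD_zero (d : ℤ →₀ I) : shD R I 0 d = d := by
  unfold shD
  rw [Finsupp.lmapDomain_apply]
  have : (fun g : ℤ => 0 + g) = id := funext zero_add
  rw [this, Finsupp.mapDomain_id]

theorem shD_add (a b : ℤ) (d : ℤ →₀ I) : shD R I (a + b) d = shD R I a (shD R I b d) := by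
  unfold shD
  rw [Finsupp.lmapDomain_apply, Finsupp.lmapDomain_apply, Finsupp.lmapDomain_apply,
    ← Finsupp.mapDomain_comp]
  congr 1
  funext g
  exact add_assoc a b g

end theta


/-! ### the twisted product -/
section pind

/-- the product of copies of `D` indexed by `ℤ`, with the twisted action -/
def Pind (_𝒜 : ℤ → AddSubgroup R) (D : Type u) : Type u := ℤ → D

variable (D : Type u) [AddCommGroup D] [Module R D]

instance : AddCommGroup (Pind 𝒜 D) := inferInstanceAs (AddCommGroup (ℤ → D))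

theorem pind_ext {ψ φ : Pind 𝒜 D} (h : ∀ k : ℤ, ψ k = φ k) : ψ = φ := funext h

/-- action of a homogeneous element -/
def rhoFun (h : ℤ) (r : R) : AddMonoid.End (Pind 𝒜 D) where
  toFun ψ := fun k => r • ψ (h + k)
  map_zero' := pind_ext 𝒜 D fun _ => smul_zero r
  map_add' ψ φ := pind_ext 𝒜 D fun _ => smul_add r _ _

/-- action of the homogeneous elements of degree `h` -/
def rhoH (h : ℤ) : 𝒜 h →+ AddMonoid.End (Pind 𝒜 D) where
  toFun r := rhoFun 𝒜 D h r
  map_zero' := AddMonoidHom.ext fun ψ => pind_ext 𝒜 D fun k => zero_smul R (ψ (h + k))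
  map_add' r s := AddMonoidHom.ext fun ψ => pind_ext 𝒜 D fun k => add_smul (r : R) s (ψ (h + k))

theorem rhoH_one : rhoH 𝒜 D 0 (GradedMonoid.GOne.one (A := fun i => ↥(𝒜 i))) = 1 := by
  refine AddMonoidHom.ext fun ψ => pind_ext 𝒜 D fun k => ?_
  show (1 : R) • ψ (0 + k) = ψ k
  rw [one_smul, zero_add]

theorem rhoH_mul {i j : ℤ} (ai : 𝒜 i) (aj : 𝒜 j) :
    rhoH 𝒜 D (i + j) (GradedMonoid.GMul.mul (A := fun i => ↥(𝒜 i)) ai aj) =
      rhoH 𝒜 D i ai * rhoH 𝒜 D j aj := by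
  refine AddMonoidHom.ext fun ψ => pind_ext 𝒜 D fun k => ?_
  show ((ai : R) * (aj : R)) • ψ (i + j + k) = (ai : R) • ((aj : R) • ψ (j + (i + k)))
  rw [mul_smul]
  congr 3
  ring

/-- the twisted action as a ring homomorphism -/
noncomputable def rho : R →+* AddMonoid.End (Pind 𝒜 D) :=
  (DirectSum.toSemiring (rhoH 𝒜 D) (rhoH_one 𝒜 D) (fun ai aj => rhoH_mul 𝒜 D ai aj)).comp
    (DirectSum.decomposeRingEquiv 𝒜).toRingHom

noncomputable instance : Module R (Pind 𝒜 D) := Module.compHom (Pind 𝒜 D) (rho 𝒜 D)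

theorem pind_smul_apply {r : R} {h : ℤ} (hr : r ∈ 𝒜 h) (ψ : Pind 𝒜 D) (k : ℤ) :
    (r • ψ) k = r • ψ (h + k) := by
  change (rho 𝒜 D r) ψ k = _
  unfold rho
  rw [RingHom.comp_apply]
  change (DirectSum.toSemiring (rhoH 𝒜 D) _ _ (DirectSum.decompose 𝒜 r)) ψ k = _
  rw [DirectSum.decompose_of_mem 𝒜 hr, DirectSum.toSemiring_of]
  rfl

theorem pind_add_apply (ψ φ : Pind 𝒜 D) (k : ℤ) : (ψ + φ) k = ψ k + φ k := rfl

theorem pind_zero_apply (k : ℤ) : (0 : Pind 𝒜 D) k = 0 := rfl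

/-- evaluation -/
def evalP (k : ℤ) : Pind 𝒜 D →+ D where
  toFun ψ := ψ k
  map_zero' := rfl
  map_add' _ _ := rfl

theorem evalP_apply (k : ℤ) (ψ : Pind 𝒜 D) : evalP 𝒜 D k ψ = ψ k := rfl

end pind

/-! ### functoriality of the coinduced module -/
section cmap

variable {X Y : Type u} [AddCommGroup X] [Module R X] [AddCommGroup Y] [Module R Y]

/-- functoriality, additive -/
noncomputable def cmapAdd (φ : X →ₗ[R] Y) : Coind 𝒜 X →+ Coind 𝒜 Y :=
  DirectSum.toAddMonoid (fun g =>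
    (cof 𝒜 Y g).comp (φ.toAddMonoidHom.comp (AddSubgroup.topEquiv (G := X)).toAddMonoidHom))

theorem cmapAdd_cof (φ : X →ₗ[R] Y) (g : ℤ) (x : X) :
    cmapAdd 𝒜 φ (cof 𝒜 X g x) = cof 𝒜 Y g (φ x) := by
  change DirectSum.toAddMonoid _
    (DirectSum.of (fun i : ℤ => ↥(topFam (ι := ℤ) X i)) g ⟨x, trivial⟩) = _
  rw [DirectSum.toAddMonoid_of]
  rfl

/-- functoriality -/
noncomputable def cmap (φ : X →ₗ[R] Y) : Coind 𝒜 X →ₗ[R] Coind 𝒜 Y :=
  linOfAdd 𝒜 (cmapAdd 𝒜 φ) (by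
    intro h r hr g x
    rw [cmapAdd_cof, cmapAdd_cof, map_smul, smul_cof 𝒜 Y hr])

theorem cmap_cof (φ : X →ₗ[R] Y) (g : ℤ) (x : X) :
    cmap 𝒜 φ (cof 𝒜 X g x) = cof 𝒜 Y g (φ x) := cmapAdd_cof 𝒜 φ g x

theorem theta_cmap (φ : X →ₗ[R] Y) (v : Coind 𝒜 X) :
    theta 𝒜 Y (cmap 𝒜 φ v) = Finsupp.mapRange.addMonoidHom φ.toAddMonoidHom (theta 𝒜 X v) := by
  induction v using coind_induction 𝒜 X with
  | zero => rw [map_zero, map_zero, map_zero, map_zero]
  | of g y =>
    rw [cmap_cof, theta_cof, theta_cof, Finsupp.mapRange.addMonoidHom_apply,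
      Finsupp.mapRange_single]
    rfl
  | add x y hx hy => rw [map_add, map_add, hx, hy, map_add, map_add]

theorem cmap_injective (φ : X →ₗ[R] Y) (hφ : Function.Injective φ) :
    Function.Injective (cmap 𝒜 φ) := by
  rw [injective_iff_map_eq_zero]
  intro v hv
  have h1 := theta_cmap 𝒜 φ v
  rw [hv, map_zero] at h1
  have h2 : theta 𝒜 X v = 0 := by
    apply Finsupp.mapRange_injective φ (map_zero φ) hφ
    rw [Finsupp.mapRange_zero]
    exact h1.symm
  rw [← thetaInv_theta 𝒜 X v, h2, map_zero]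

end cmap

/-! ### injectivity of the twisted product -/
section pinj

variable (D : Type u) [AddCommGroup D] [Module R D]

theorem pind_injective [Module.Injective R D] : Module.Injective R (Pind 𝒜 D) := by
  apply Module.Baer.injective
  intro 𝔞 f
  obtain ⟨F, hFdef⟩ : ∃ F : Coind 𝒜 𝔞 →+ D, F = DirectSum.toAddMonoid (fun g =>
      ((evalP 𝒜 D (-g)).comp f.toAddMonoidHom).comp
        (AddSubgroup.topEquiv (G := 𝔞)).toAddMonoidHom) := ⟨_, rfl⟩
  have hFc : ∀ (g : ℤ) (x : 𝔞), F (cof 𝒜 𝔞 g x) = f x (-g) := by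
    intro g x
    rw [hFdef]
    change DirectSum.toAddMonoid _
      (DirectSum.of (fun i : ℤ => ↥(topFam (ι := ℤ) 𝔞 i)) g ⟨x, trivial⟩) = _
    rw [DirectSum.toAddMonoid_of]
    rfl
  have hF : ∀ (h : ℤ) (r : R), r ∈ 𝒜 h → ∀ (g : ℤ) (x : 𝔞),
      F (cof 𝒜 𝔞 (h + g) (r • x)) = r • F (cof 𝒜 𝔞 g x) := by
    intro h r hr g x
    rw [hFc, hFc, map_smul, pind_smul_apply 𝒜 D hr]
    congr 2
    ring
  obtain ⟨G, hG⟩ := Module.Injective.extension_property R D (Coind 𝒜 𝔞) (Coind 𝒜 R)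
    (cmap 𝒜 𝔞.subtype) (cmap_injective 𝒜 𝔞.subtype 𝔞.subtype_injective) (linOfAdd 𝒜 F hF)
  obtain ⟨q, hq⟩ : ∃ q : Pind 𝒜 D, ∀ k : ℤ, q k = G (cof 𝒜 R (-k) 1) :=
    ⟨fun k => G (cof 𝒜 R (-k) 1), fun _ => rfl⟩
  have key : ∀ (r : R) (k : ℤ), (r • q) k = G (cof 𝒜 R (-k) r) := by
    intro r
    induction r using DirectSum.Decomposition.inductionOn 𝒜 with
    | zero =>
      intro k
      rw [zero_smul, map_zero, map_zero]
      rfl
    | @homogeneous h r =>
      intro k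
      rw [pind_smul_apply 𝒜 D r.2, hq, ← map_smul, smul_cof 𝒜 R r.2, smul_eq_mul, mul_one]
      congr 2
      ring
    | add r r' hr hr' =>
      intro k
      rw [add_smul, map_add, map_add, pind_add_apply, hr, hr']
  refine ⟨LinearMap.toSpanSingleton R (Pind 𝒜 D) q, fun x mem => ?_⟩
  rw [LinearMap.toSpanSingleton_apply]
  refine pind_ext 𝒜 D fun k => ?_
  rw [key]
  have h1 := LinearMap.congr_fun hG (cof 𝒜 𝔞 (-k) ⟨x, mem⟩)
  rw [LinearMap.comp_apply, cmap_cof, linOfAdd_apply, hFc, neg_neg] at h1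
  exact h1

end pinj


/-! ### the resolution -/
section res

variable (I : Type u) [AddCommGroup I] [Module R I]

/-- `v ↦ (k ↦ t^k v)`, additive -/
noncomputable def epsAdd : Coind 𝒜 I →+ Pind 𝒜 (ℤ →₀ I) where
  toFun v := fun k => shD R I k (theta 𝒜 I v)
  map_zero' := pind_ext 𝒜 _ fun k => by
    show shD R I k (theta 𝒜 I 0) = 0
    rw [map_zero, map_zero]
  map_add' v w := pind_ext 𝒜 _ fun k => by
    show shD R I k (theta 𝒜 I (v + w)) = shD R I k (theta 𝒜 I v) + shD R I k (theta 𝒜 I w)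
    rw [map_add, map_add]

theorem epsAdd_apply (v : Coind 𝒜 I) (k : ℤ) : epsAdd 𝒜 I v k = shD R I k (theta 𝒜 I v) := rfl

/-- `v ↦ (k ↦ t^k v)` -/
noncomputable def eps : Coind 𝒜 I →ₗ[R] Pind 𝒜 (ℤ →₀ I) :=
  linOfAdd 𝒜 (epsAdd 𝒜 I) (by
    intro h r hr g y
    refine pind_ext 𝒜 _ fun k => ?_
    rw [pind_smul_apply 𝒜 _ hr, epsAdd_apply, epsAdd_apply, theta_cof, theta_cof, shD_single,
      shD_single, Finsupp.smul_single]
    congr 1
    ring)

theorem eps_apply (v : Coind 𝒜 I) (k : ℤ) : eps 𝒜 I v k = shD R I k (theta 𝒜 I v) := rfl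

/-- `ψ ↦ (k ↦ ψ (k+1) - t ψ k)`, additive -/
noncomputable def dAdd : Pind 𝒜 (ℤ →₀ I) →+ Pind 𝒜 (ℤ →₀ I) where
  toFun ψ := fun k => ψ (k + 1) - shD R I 1 (ψ k)
  map_zero' := pind_ext 𝒜 _ fun k => by
    show (0 : ℤ →₀ I) - shD R I 1 0 = 0
    rw [map_zero, sub_zero]
  map_add' ψ φ := pind_ext 𝒜 _ fun k => by
    show (ψ (k + 1) + φ (k + 1)) - shD R I 1 (ψ k + φ k) =
      (ψ (k + 1) - shD R I 1 (ψ k)) + (φ (k + 1) - shD R I 1 (φ k))
    rw [map_add]
    abel

theorem dAdd_apply (ψ : Pind 𝒜 (ℤ →₀ I)) (k : ℤ) :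
    dAdd 𝒜 I ψ k = ψ (k + 1) - shD R I 1 (ψ k) := rfl

/-- `ψ ↦ (k ↦ ψ (k+1) - t ψ k)` -/
noncomputable def dd : Pind 𝒜 (ℤ →₀ I) →ₗ[R] Pind 𝒜 (ℤ →₀ I) where
  toFun := dAdd 𝒜 I
  map_add' := map_add _
  map_smul' := by
    intro r ψ
    rw [RingHom.id_apply]
    refine smul_of_homog 𝒜 (dAdd 𝒜 I) (fun h r hr ψ => ?_) r ψ
    refine pind_ext 𝒜 _ fun k => ?_
    rw [pind_smul_apply 𝒜 _ hr, dAdd_apply, dAdd_apply, pind_smul_apply 𝒜 _ hr,
      pind_smul_apply 𝒜 _ hr, map_smul, smul_sub, add_assoc]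

theorem dd_apply (ψ : Pind 𝒜 (ℤ →₀ I)) (k : ℤ) :
    dd 𝒜 I ψ k = ψ (k + 1) - shD R I 1 (ψ k) := rfl

theorem eps_injective : Function.Injective (eps 𝒜 I) := by
  rw [injective_iff_map_eq_zero]
  intro v hv
  have h1 : eps 𝒜 I v 0 = 0 := by rw [hv]; rfl
  rw [eps_apply, shD_zero] at h1
  rw [← thetaInv_theta 𝒜 I v, h1, map_zero]

theorem dd_eps (v : Coind 𝒜 I) : dd 𝒜 I (eps 𝒜 I v) = 0 := by
  refine pind_ext 𝒜 _ fun k => ?_
  rw [dd_apply, eps_apply, eps_apply, add_comm k 1, shD_add, sub_self]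
  rfl

theorem exists_of_dd_eq_zero (ψ : Pind 𝒜 (ℤ →₀ I)) (h : dd 𝒜 I ψ = 0) :
    ∃ v, eps 𝒜 I v = ψ := by
  have h1 : ∀ k : ℤ, ψ (k + 1) = shD R I 1 (ψ k) := by
    intro k
    have h2 : dd 𝒜 I ψ k = 0 := by rw [h]; rfl
    rw [dd_apply, sub_eq_zero] at h2
    exact h2
  have h3 : ∀ k : ℤ, ψ k = shD R I k (ψ 0) := by
    intro k
    induction k using Int.induction_on with
    | zero => rw [shD_zero]
    | succ i ih => rw [h1, ih, ← shD_add, add_comm]
    | pred i ih =>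
      have h4 := h1 (-(i : ℤ) - 1)
      rw [sub_add_cancel, ih] at h4
      have h5 := congrArg (shD R I (-1)) h4
      rw [← shD_add, ← shD_add, neg_add_cancel, shD_zero] at h5
      rw [← h5]
      congr 1
      ring
  refine ⟨thetaInv 𝒜 I (ψ 0), pind_ext 𝒜 _ fun k => ?_⟩
  rw [eps_apply, theta_thetaInv, ← h3]

theorem dd_surjective : Function.Surjective (dd 𝒜 I) := by
  intro c
  obtain ⟨p, hp0, hps⟩ : ∃ p : ℕ → (ℤ →₀ I), p 0 = 0 ∧
      ∀ n : ℕ, p (n + 1) = c (n : ℤ) + shD R I 1 (p n) :=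
    ⟨fun n => Nat.rec (0 : ℤ →₀ I) (fun k pk => c (k : ℤ) + shD R I 1 pk) n, rfl, fun _ => rfl⟩
  obtain ⟨m, hm0, hms⟩ : ∃ m : ℕ → (ℤ →₀ I), m 0 = 0 ∧
      ∀ n : ℕ, m (n + 1) = shD R I (-1) (m n - c (-((n : ℤ) + 1))) :=
    ⟨fun n => Nat.rec (0 : ℤ →₀ I) (fun k mk => shD R I (-1) (mk - c (-((k : ℤ) + 1)))) n, rfl,
      fun _ => rfl⟩
  obtain ⟨ψ, hψp, hψm⟩ : ∃ ψ : Pind 𝒜 (ℤ →₀ I), (∀ n : ℕ, ψ (n : ℤ) = p n) ∧
      ∀ n : ℕ, ψ (-(n : ℤ)) = m n := by
    refine ⟨fun k => if 0 ≤ k then p k.toNat else m (-k).toNat, fun n => ?_, fun n => ?_⟩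
    · show (if 0 ≤ (n : ℤ) then p (n : ℤ).toNat else m (-(n : ℤ)).toNat) = p n
      rw [if_pos (Int.natCast_nonneg n), Int.toNat_natCast]
    · show (if 0 ≤ -(n : ℤ) then p (-(n : ℤ)).toNat else m (-(-(n : ℤ))).toNat) = m n
      rcases Nat.eq_zero_or_pos n with hn | hn
      · subst hn
        rw [if_pos (by simp)]
        simp [hp0, hm0]
      · rw [if_neg (by omega), neg_neg, Int.toNat_natCast]
  refine ⟨ψ, pind_ext 𝒜 _ fun k => ?_⟩
  rw [dd_apply]
  rcases le_or_gt 0 k with hk | hk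
  · obtain ⟨n, rfl⟩ := Int.eq_ofNat_of_zero_le hk
    have h1 : ((n : ℤ) + 1) = ((n + 1 : ℕ) : ℤ) := by push_cast; ring
    rw [h1, hψp, hψp, hps, add_sub_cancel_right]
  · obtain ⟨n, hn⟩ : ∃ n : ℕ, k = -((n : ℤ) + 1) := ⟨(-k - 1).toNat, by omega⟩
    subst hn
    have h1 : -((n : ℤ) + 1) + 1 = -(n : ℤ) := by ring
    have h2 : -((n : ℤ) + 1) = -((n + 1 : ℕ) : ℤ) := by push_cast; ring
    rw [h1, hψm]
    conv_lhs => rw [h2, hψm, hms]
    rw [← shD_add, add_neg_cancel, shD_zero]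
    abel

theorem D_injective [IsNoetherianRing R] [Module.Injective R I] :
    Module.Injective R (ℤ →₀ I) := by
  have h1 : Module.Injective R (DirectSum (ULift.{u} ℤ) (fun _ => I)) :=
    Groth.Agent.Lib.InjHull_helper3.injective_directSum (fun _ : ULift.{u} ℤ => I)
      (fun _ => inferInstance)
  exact (Module.Baer.of_equiv ((Finsupp.domLCongr Equiv.ulift.symm).trans
    (finsuppLEquivDirectSum R I (ULift.{u} ℤ))).symm (Module.Baer.of_injective h1)).injective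

end res

/-! ### the main result -/
section main

open CategoryTheory

theorem main [IsNoetherianRing R] {M : Type u} [AddCommGroup M] [Module R M]
    (ℳ : ℤ → AddSubgroup M) [DirectSum.Decomposition ℳ] [SetLike.GradedSMul 𝒜 ℳ]
    (hM : GrLC.IsStarInj 𝒜 ℳ) : HasInjectiveDimensionLT (ModuleCat.of R M) 2 := by
  obtain ⟨I, _, _, _, e, he⟩ := exists_injective_embedding (R := R) M
  obtain ⟨h, -, hh⟩ := starInj_ext 𝒜 ℳ (coindGr 𝒜 I) hM (coext 𝒜 I ℳ e) (coext_isGrHom 𝒜 I ℳ e)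
    (coext_injective 𝒜 I ℳ e he) LinearMap.id (fun _ _ hm => hm)
  haveI hD : Module.Injective R (ℤ →₀ I) := D_injective I
  haveI hP : Module.Injective R (Pind 𝒜 (ℤ →₀ I)) := pind_injective 𝒜 _
  obtain ⟨S, hS⟩ : ∃ S : ShortComplex (ModuleCat.{u} R), S =
      ShortComplex.mk (ModuleCat.ofHom (eps 𝒜 I)) (ModuleCat.ofHom (dd 𝒜 I))
        (by ext v; exact dd_eps 𝒜 I v) := ⟨_, rfl⟩
  have hSE : S.ShortExact := by
    subst hS
    refine ShortComplex.ShortExact.mk' ?_ ?_ ?_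
    · rw [ShortComplex.moduleCat_exact_iff]
      intro ψ hψ
      exact exists_of_dd_eq_zero 𝒜 I ψ hψ
    · rw [ModuleCat.mono_iff_injective]
      exact eps_injective 𝒜 I
    · rw [ModuleCat.epi_iff_surjective]
      exact dd_surjective 𝒜 I
  haveI h2 : Injective S.X₂ := by
    subst hS
    exact Module.injective_object_of_injective_module R (Pind 𝒜 (ℤ →₀ I))
  haveI h3 : Injective S.X₃ := by
    subst hS
    exact Module.injective_object_of_injective_module R (Pind 𝒜 (ℤ →₀ I))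
  haveI h1 : HasInjectiveDimensionLT S.X₁ 2 :=
    hSE.hasInjectiveDimensionLT_X₁ 1 inferInstance inferInstance
  have r : Retract (ModuleCat.of R M) S.X₁ := by
    subst hS
    exact { i := ModuleCat.ofHom (coext 𝒜 I ℳ e)
            r := ModuleCat.ofHom h
            retract := by
              ext m
              exact LinearMap.congr_fun hh m }
  exact r.hasInjectiveDimensionLT 2

end main

end Groth.Agent.Lib.GrInjDimH1
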