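import Mathlib
import Groth.Prelude.Def_GrLC
import Groth.Prelude.Def_GrLC2
import Groth.Prelude.Def_CAlg
import Groth.Prelude.Def_Wider
import Groth.Agent.Lib.GorTop_helper1
import Groth.Agent.Lib.GorLoc_helper1
import Groth.Agent.Lib.GrStarLC_helper1
import Groth.Agent.Lib.GrInjDim_helper1
import Groth.Agent.Lib.LocCohFlatBC_helper7
import Groth.Agent.Lib.LocCohGV_helper7
import Groth.Agent.Lib.LocCohDepth_helper7

/-! A Cohen–Macaulay *local `ℤ`-graded ring is Gorenstein iff its top graded local cohomology is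
*injective (helper1, S18650). -/

set_option autoImplicit false

namespace Groth.Agent.Lib.GorTop2H1

open DirectSum GrLC Groth.Agent.Lib.GrStarH1 Groth.Agent.Lib.GrStar2H1 Groth.Agent.Lib.GrStar3H1
  Groth.Agent.Lib.GrStar4H1 Groth.Agent.Lib.GrLES1H1 Groth.Agent.Lib.BassZeroH1
  Groth.Agent.Lib.BassShiftH1 Groth.Agent.Lib.MinResH1 Groth.Agent.Lib.GorTopH1
  Groth.Agent.Lib.GorLocH1

universe u

variable {R : Type u} [CommRing R] (𝒜 : ℤ → AddSubgroup R) [GradedRing 𝒜]

/-! ### *local rings -/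

theorem le_of_starLocal [IsNoetherianRing R] {m : HomogeneousIdeal 𝒜} (hm : IsStarLocal 𝒜 m)
    (q : HomogeneousIdeal 𝒜) (hq : q ≠ ⊤) : q ≤ m := by
  haveI : WellFoundedGT (Ideal R) := isNoetherian_iff'.1 inferInstance
  haveI : WellFoundedGT (HomogeneousIdeal 𝒜) :=
    StrictMono.wellFoundedGT (f := fun a : HomogeneousIdeal 𝒜 => a.toIdeal)
      (fun a b hab => lt_of_le_of_ne (fun x hx => hab.le hx)
        (fun h => hab.ne (HomogeneousIdeal.toIdeal_injective h)))
  haveI : IsCoatomic (HomogeneousIdeal 𝒜) := isCoatomic_of_orderTop_gt_wellFounded wellFounded_gt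
  rcases eq_top_or_exists_le_coatom q with h | ⟨a, ha, hqa⟩
  · exact absurd h hq
  · rw [← hm.2 a ha]
    exact hqa

/-! ### homogeneous associated primes -/
section ass

variable [IsNoetherianRing R] {X : Type u} [AddCommGroup X] [Module R X] (𝒳 : ℤ → AddSubgroup X)
  [Decomposition 𝒳] [SetLike.GradedSMul 𝒜 𝒳]

theorem exists_homog_prime_ann (hX : Nontrivial X) :
    ∃ (q : HomogeneousIdeal 𝒜) (g₀ : ℤ) (u : X), q.toIdeal.IsPrime ∧ u ∈ 𝒳 g₀ ∧ u ≠ 0 ∧
      ∀ s : R, s • u = 0 ↔ s ∈ q.toIdeal := by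
  classical
  obtain ⟨x, hx0⟩ := exists_ne (0 : X)
  obtain ⟨g₁, hg₁⟩ := exists_decompose_ne_zero 𝒳 hx0
  obtain ⟨S, hS⟩ : ∃ S : Set (Ideal R), S = {a | ∃ (g₀ : ℤ) (m : X), m ∈ 𝒳 g₀ ∧ m ≠ 0 ∧
      a = (Submodule.span R {m}).annihilator} := ⟨_, rfl⟩
  have hSne : S.Nonempty := by
    rw [hS]
    exact ⟨_, g₁, _, (decompose 𝒳 x g₁).2, hg₁, rfl⟩
  obtain ⟨a, haS, hamax⟩ := set_has_maximal_iff_noetherian.2 inferInstance S hSne
  rw [hS] at haS
  obtain ⟨g₀, m, hm, hm0, rfl⟩ := haS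
  have hannm : ∀ s : R, s ∈ (Submodule.span R {m}).annihilator ↔ s • m = 0 :=
    fun s => Submodule.mem_annihilator_span_singleton m s
  have hhom : ((Submodule.span R {m}).annihilator).IsHomogeneous 𝒜 := by
    intro i r hr
    rw [hannm] at hr ⊢
    have := decompose_smul_of_mem 𝒜 𝒳 hm r (i + g₀)
    rw [hr, decompose_zero, DirectSum.zero_apply, ZeroMemClass.coe_zero, add_sub_cancel_right] at this
    exact this.symm
  have hne : (Submodule.span R {m}).annihilator ≠ ⊤ := by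
    intro h
    apply hm0
    have : (1 : R) ∈ (Submodule.span R {m}).annihilator := h ▸ Submodule.mem_top
    rw [hannm, one_smul] at this
    exact this
  have hprime : ((Submodule.span R {m}).annihilator).IsPrime := by
    apply isPrime_of_homog_cond 𝒜 hhom hne
    intro x y hxh hyh hxy
    obtain ⟨j, hy⟩ := hyh
    by_cases hym : y • m = 0
    · exact Or.inr ((hannm y).2 hym)
    · left
      have hle : (Submodule.span R {m}).annihilator ≤ (Submodule.span R {y • m}).annihilator := by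
        intro s hs
        rw [hannm] at hs
        rw [Submodule.mem_annihilator_span_singleton, smul_comm, hs, smul_zero]
      have hmem : (Submodule.span R {y • m}).annihilator ∈ S := by
        rw [hS]
        exact ⟨j + g₀, y • m, smul_mem_gr 𝒜 𝒳 hy hm, hym, rfl⟩
      have heq : (Submodule.span R {m}).annihilator = (Submodule.span R {y • m}).annihilator := by
        by_contra hne'
        exact hamax _ hmem (lt_of_le_of_ne hle hne')
      rw [heq, Submodule.mem_annihilator_span_singleton, ← mul_smul]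
      exact (hannm _).1 hxy
  exact ⟨⟨_, hhom⟩, g₀, m, hprime, hm, hm0, fun s => (hannm s).symm⟩

end ass

/-! ### non-vanishing Bass numbers from non-zero terms of a minimal resolution -/
section bass

variable [IsNoetherianRing R] {M : Type u} [AddCommGroup M] [Module R M] (ℳ : ℤ → AddSubgroup M)
  [Decomposition ℳ] [SetLike.GradedSMul 𝒜 ℳ]

theorem exists_bassNum_ne_zero (E : StarInjRes 𝒜 ℳ)
    (hmin0 : ∀ P : Submodule R (E.X 0).carrier, P.IsHomogeneous (E.X 0).gr → P ≠ ⊥ →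
      P ⊓ LinearMap.range E.ε ≠ ⊥)
    (hmin : ∀ (n : ℕ) (P : Submodule R (E.X (n + 1)).carrier),
      P.IsHomogeneous (E.X (n + 1)).gr → P ≠ ⊥ → P ⊓ LinearMap.range (E.d n) ≠ ⊥)
    (j : ℕ) (hX : Nontrivial (E.X j).carrier) :
    ∃ (q : HomogeneousIdeal 𝒜) (_ : q.toIdeal.IsPrime), GrLC.bassNum q.toIdeal M j ≠ 0 := by
  obtain ⟨q, g₀, u, hq, hu, hu0, hann⟩ := exists_homog_prime_ann 𝒜 (E.X j).gr hX
  haveI := hq
  refine ⟨q, hq, ?_⟩
  rw [bassNum_eq_length_soc 𝒜 ℳ E hmin0 hmin q j]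
  intro h0
  haveI : Subsingleton (soc q.toIdeal (LocalizedModule q.toIdeal.primeCompl (E.X j).carrier)) :=
    Module.length_eq_zero_iff.1 h0
  have : (⟨_, mk_mem_soc q.toIdeal (fun r hr => (hann r).2 hr)⟩ :
      soc q.toIdeal (LocalizedModule q.toIdeal.primeCompl (E.X j).carrier)) = 0 :=
    Subsingleton.elim _ _
  exact mk_ne_zero q.toIdeal (fun s hs => (hann s).1 hs) (congrArg Subtype.val this)

end bass

/-! ### Bass numbers below the height, Cohen–Macaulay case -/

theorem bassNum_eq_zero_of_lt [hR : LocCoh.IsCohenMacaulayRing R] (p : Ideal R) [p.IsPrime] (n : ℕ)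
    (hn : p.height = n) (j : ℕ) (hj : j < n) : GrLC.bassNum p R j = 0 := by
  haveI : IsNoetherianRing R := hR.toIsNoetherian
  haveI hCM : LocCoh.IsCohenMacaulayLocalRing (Localization.AtPrime p) :=
    LocCoh.IsCohenMacaulayRing.isCohenMacaulayLocalRing_localization p
  have hdim : ringKrullDim (Localization.AtPrime p) = n := by
    rw [IsLocalization.AtPrime.ringKrullDim_eq_height p (Localization.AtPrime p), hn]
    rfl
  have hdepth : LocCoh.depth (Localization.AtPrime p) (Localization.AtPrime p) = (n : ℕ∞) := by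
    have h1 := hCM.supportDim_eq_depth
    rw [Module.supportDim_self_eq_ringKrullDim, hdim] at h1
    have h2 : ((n : ℕ∞) : WithBot ℕ∞) =
        ((LocCoh.depth (Localization.AtPrime p) (Localization.AtPrime p) : ℕ∞) : WithBot ℕ∞) := h1
    exact (WithBot.coe_injective h2).symm
  have hIM : (IsLocalRing.maximalIdeal (Localization.AtPrime p)) •
      (⊤ : Submodule (Localization.AtPrime p) (Localization.AtPrime p)) ≠ ⊤ := by
    rw [smul_eq_mul, Ideal.mul_top]
    exact (IsLocalRing.maximalIdeal.isMaximal (Localization.AtPrime p)).ne_top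
  have hlt : ((j : ℕ) : ℕ∞) < LocCoh.idealDepth (IsLocalRing.maximalIdeal (Localization.AtPrime p))
      (Localization.AtPrime p) := by
    have : LocCoh.idealDepth (IsLocalRing.maximalIdeal (Localization.AtPrime p))
        (Localization.AtPrime p) = (n : ℕ∞) := hdepth
    rw [this]
    exact_mod_cast hj
  haveI : Module.Finite (Localization.AtPrime p)
      ↑(ModuleCat.of (Localization.AtPrime p)
        (IsLocalRing.ResidueField (Localization.AtPrime p))) :=
    inferInstanceAs (Module.Finite (Localization.AtPrime p)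
      (Localization.AtPrime p ⧸ IsLocalRing.maximalIdeal (Localization.AtPrime p)))
  have hsupp : Module.support (Localization.AtPrime p)
      ↑(ModuleCat.of (Localization.AtPrime p)
        (IsLocalRing.ResidueField (Localization.AtPrime p))) ⊆
      PrimeSpectrum.zeroLocus (IsLocalRing.maximalIdeal (Localization.AtPrime p)) := by
    intro q hq
    have hq' : q ∈ Module.support (Localization.AtPrime p)
        (Localization.AtPrime p ⧸ IsLocalRing.maximalIdeal (Localization.AtPrime p)) := hq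
    rw [Module.support_eq_zeroLocus, Ideal.annihilator_quotient] at hq'
    exact hq'
  have hsub := Groth.Agent.Lib.LocCohDepthH7.ext_subsingleton_of_lt_depth
    (IsLocalRing.maximalIdeal (Localization.AtPrime p)) (Localization.AtPrime p) hIM j hlt
    (ModuleCat.of (Localization.AtPrime p) (IsLocalRing.ResidueField (Localization.AtPrime p)))
    hsupp
  unfold GrLC.bassNum GrLC.bassNumLocal
  rw [Module.length_eq_zero_iff]
  exact ext_subsingleton_of_iso_right (locSelfIso p).symm j hsub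

/-! ### graded local cohomology vanishes above the height of the *maximal ideal -/
section vanish

variable [IsNoetherianRing R] {M : Type u} [AddCommGroup M] [Module R M] {ℳ : ℤ → AddSubgroup M}
  [Decomposition ℳ] [SetLike.GradedSMul 𝒜 ℳ]

theorem cobdy_isHomogeneous (E : StarInjRes 𝒜 ℳ) (a : HomogeneousIdeal 𝒜) (i : ℕ) :
    (E.cobdy a i).IsHomogeneous (E.X i).gr := by
  cases i with
  | zero =>
    intro k x hx
    have hx0 : x = 0 := (mem_cobdy_zero a E x).1 hx
    rw [hx0, decompose_zero, DirectSum.zero_apply, ZeroMemClass.coe_zero]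
    exact Submodule.zero_mem _
  | succ n =>
    exact map_isHomogeneous (E.X n).gr (E.X (n + 1)).gr (E.d_grHom n)
      (gam_isHomogeneous 𝒜 (E.X n).gr a)

theorem cocyc_isHomogeneous (E : StarInjRes 𝒜 ℳ) (a : HomogeneousIdeal 𝒜) (i : ℕ) :
    (E.cocyc a i).IsHomogeneous (E.X i).gr := by
  intro k x hx
  exact ⟨gam_isHomogeneous 𝒜 (E.X i).gr a k hx.1,
    ker_isHomogeneous (E.X i).gr (E.X (i + 1)).gr (E.d_grHom i) k hx.2⟩

open TensorProduct in
theorem H_subsingleton_of_gt (m : HomogeneousIdeal 𝒜) (hm : IsStarLocal 𝒜 m) (n : ℕ)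
    (hn : m.toIdeal.height = n) (E : StarInjRes 𝒜 ℳ) (j : ℕ) (hj : n < j) :
    Subsingleton (E.H m j) := by
  classical
  haveI hprime : m.toIdeal.IsPrime := isPrime_of_coatom 𝒜 m hm.1
  obtain ⟨γ⟩ := Groth.Agent.Lib.GrStarLCH1.main13224 R 𝒜 m M ℳ E j
  obtain ⟨β⟩ := Groth.Agent.Lib.LocCohFlatBCH7.main (Localization.AtPrime m.toIdeal) m.toIdeal j M
  have hdim : ringKrullDim (Localization.AtPrime m.toIdeal) = n := by
    rw [IsLocalization.AtPrime.ringKrullDim_eq_height m.toIdeal (Localization.AtPrime m.toIdeal), hn]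
    rfl
  haveI hGV : Subsingleton (LocCoh.H (m.toIdeal.map (algebraMap R (Localization.AtPrime m.toIdeal)))
      j (Localization.AtPrime m.toIdeal ⊗[R] M)) := by
    apply Groth.Agent.Lib.LocCohGVH7.GV
    refine lt_of_le_of_lt (Module.supportDim_le_ringKrullDim _ _) ?_
    rw [hdim]
    exact_mod_cast hj
  haveI hT : Subsingleton (Localization.AtPrime m.toIdeal ⊗[R] LocCoh.H m.toIdeal j M) :=
    β.toEquiv.subsingleton
  -- every class is killed by an element outside `m`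
  have hkill : ∀ x : E.H m j, ∃ s : R, s ∉ m.toIdeal ∧ s • x = 0 := by
    intro x
    haveI : IsLocalizedModule m.toIdeal.primeCompl
        (TensorProduct.mk R (Localization.AtPrime m.toIdeal) (LocCoh.H m.toIdeal j M) 1) :=
      (isLocalizedModule_iff_isBaseChange m.toIdeal.primeCompl (Localization.AtPrime m.toIdeal)
        _).2 (TensorProduct.isBaseChange R (LocCoh.H m.toIdeal j M)
          (Localization.AtPrime m.toIdeal))
    obtain ⟨c, hc⟩ := (IsLocalizedModule.eq_zero_iff m.toIdeal.primeCompl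
      (TensorProduct.mk R (Localization.AtPrime m.toIdeal) (LocCoh.H m.toIdeal j M) 1)).1
      (Subsingleton.elim ((TensorProduct.mk R (Localization.AtPrime m.toIdeal)
        (LocCoh.H m.toIdeal j M) 1) (γ x)) 0)
    refine ⟨(c : R), c.2, ?_⟩
    apply γ.injective
    rw [map_smul, map_zero]
    exact hc
  -- homogeneous cocycles are coboundaries
  have key : ∀ (g : ℤ) (z : (E.X j).carrier), z ∈ E.cocyc m j → z ∈ (E.X j).gr g →
      z ∈ E.cobdy m j := by
    intro g z hz hzg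
    have hqhom : ((E.cobdy m j).colon {z}).IsHomogeneous 𝒜 := by
      intro k r hr
      rw [Submodule.mem_colon_singleton] at hr ⊢
      have h1 := decompose_smul_of_mem 𝒜 (E.X j).gr hzg r (k + g)
      rw [add_sub_cancel_right] at h1
      rw [← h1]
      exact cobdy_isHomogeneous 𝒜 E m j (k + g) hr
    obtain ⟨s, hsm, hs⟩ := hkill (E.toH m j ⟨z, hz⟩)
    have hsq : s ∈ (E.cobdy m j).colon {z} := by
      rw [Submodule.mem_colon_singleton]
      have h2 : E.toH m j (s • ⟨z, hz⟩) = 0 := by rw [map_smul]; exact hs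
      exact (toH_eq_zero_iff m E j _).1 h2
    obtain ⟨Q, hQ⟩ : ∃ Q : HomogeneousIdeal 𝒜, Q.toIdeal = (E.cobdy m j).colon {z} :=
      ⟨⟨_, hqhom⟩, rfl⟩
    have htop : Q = ⊤ := by
      by_contra hne
      have hle : Q.toIdeal ≤ m.toIdeal := le_of_starLocal 𝒜 hm Q hne
      exact hsm (hle (by rw [hQ]; exact hsq))
    have h1 : (1 : R) ∈ (E.cobdy m j).colon {z} := by
      rw [← hQ, htop]
      exact Submodule.mem_top
    rw [Submodule.mem_colon_singleton, one_smul] at h1
    exact h1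
  have hall : ∀ z : ↥(E.cocyc m j), E.toH m j z = 0 := by
    intro z
    rw [toH_eq_zero_iff]
    rw [← DirectSum.sum_support_decompose (E.X j).gr (z : (E.X j).carrier)]
    refine Submodule.sum_mem _ (fun g _ => ?_)
    exact key g _ (cocyc_isHomogeneous 𝒜 E m j g z.2) (decompose (E.X j).gr (z : (E.X j).carrier) g).2
  refine ⟨fun x y => ?_⟩
  obtain ⟨z, rfl⟩ := toH_surjective m E j x
  obtain ⟨w, rfl⟩ := toH_surjective m E j y
  rw [hall z, hall w]

end vanish

/-! ### the torsion of a minimal resolution above the top degree -/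
section top

variable [IsNoetherianRing R] {M : Type u} [AddCommGroup M] [Module R M] {ℳ : ℤ → AddSubgroup M}
  [Decomposition ℳ] [SetLike.GradedSMul 𝒜 ℳ] (E : StarInjRes 𝒜 ℳ)
  (hmin0 : ∀ P : Submodule R (E.X 0).carrier, P.IsHomogeneous (E.X 0).gr → P ≠ ⊥ →
    P ⊓ LinearMap.range E.ε ≠ ⊥)
  (hmin : ∀ (n : ℕ) (P : Submodule R (E.X (n + 1)).carrier),
    P.IsHomogeneous (E.X (n + 1)).gr → P ≠ ⊥ → P ⊓ LinearMap.range (E.d n) ≠ ⊥)
  (m : HomogeneousIdeal 𝒜)

include hmin0 hmin in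
theorem ess_ker' (j : ℕ) (P : Submodule R (E.X j).carrier) (hP : P.IsHomogeneous (E.X j).gr)
    (hP0 : P ≠ ⊥) : P ⊓ LinearMap.ker (E.d j) ≠ ⊥ := by
  cases j with
  | zero =>
    rw [E.exact_zero]
    exact hmin0 P hP hP0
  | succ k =>
    rw [E.exact_succ]
    exact hmin k P hP hP0

include hmin0 hmin in
theorem gam_eq_bot_step (j : ℕ)
    (hker : gam m.toIdeal (E.X j).carrier ≤ LinearMap.ker (E.d j))
    (hH : Subsingleton (E.H m (j + 1))) : gam m.toIdeal (E.X (j + 1)).carrier = ⊥ := by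
  by_contra hne
  have h1 := ess_ker' 𝒜 E hmin0 hmin (j + 1) _ (gam_isHomogeneous 𝒜 (E.X (j + 1)).gr m) hne
  apply h1
  rw [eq_bot_iff]
  intro z hz
  have h2 : E.toH m (j + 1) ⟨z, hz⟩ = 0 := Subsingleton.elim _ _
  rw [toH_eq_zero_iff] at h2
  obtain ⟨w, hw, hwz⟩ := (mem_cobdy_succ m E j z).1 h2
  have h3 : E.d j w = 0 := hker hw
  rw [Submodule.mem_bot, ← hwz, h3]

include hmin0 hmin in
theorem gam_le_ker_top (n : ℕ) (hprev : ∀ k, k + 1 = n → gam m.toIdeal (E.X k).carrier = ⊥)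
    (X : GMod.{u} 𝒜) (hX : IsStarInj 𝒜 X.gr) (θ' : E.H m n ≃ₗ[R] X.carrier)
    (hθ' : IsGrHom (E.Hgr m n) X.gr θ'.toLinearMap) :
    gam m.toIdeal (E.X n).carrier ≤ LinearMap.ker (E.d n) := by
  have hZhom := cocyc_isHomogeneous 𝒜 E m n
  obtain ⟨θ, hθ⟩ : ∃ θ : ↥(E.cocyc m n) →ₗ[R] X.carrier, ∀ z, θ z = θ' (E.toH m n z) :=
    ⟨θ'.toLinearMap ∘ₗ E.toH m n, fun _ => rfl⟩
  have hθgr : IsGrHom (subGMod 𝒜 (E.X n).gr (E.cocyc m n) hZhom).gr X.gr θ := by
    intro g z hz
    rw [hθ]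
    exact hθ' g _ ((mem_Hgr_iff m E n g _).2 ⟨z, hz, rfl⟩)
  have hθinj : Function.Injective θ := by
    rw [injective_iff_map_eq_zero]
    intro z hz
    rw [hθ] at hz
    have h1 : E.toH m n z = 0 := θ'.injective (hz.trans (map_zero θ').symm)
    rw [toH_eq_zero_iff] at h1
    exact Subtype.ext (cobdy_eq_zero E m n hprev _ h1)
  have hθsurj : Function.Surjective θ := by
    intro y
    obtain ⟨x, rfl⟩ := θ'.surjective y
    obtain ⟨z, rfl⟩ := toH_surjective m E n x
    exact ⟨z, hθ z⟩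
  obtain ⟨h, hhgr, hh⟩ := hX (subGMod 𝒜 (E.X n).gr (E.cocyc m n) hZhom) (E.X n)
    (E.cocyc m n).subtype (subtype_isGrHom (E.X n).gr (E.cocyc m n))
    (E.cocyc m n).injective_subtype θ hθgr
  have hhz : ∀ z : ↥(E.cocyc m n), h (z : (E.X n).carrier) = θ z := fun z =>
    LinearMap.congr_fun hh z
  -- the kernel of `h` meets the torsion trivially
  have hKhom : (LinearMap.ker h ⊓ gam m.toIdeal (E.X n).carrier).IsHomogeneous (E.X n).gr := by
    intro k x hx
    exact ⟨ker_isHomogeneous (E.X n).gr X.gr hhgr k hx.1,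
      gam_isHomogeneous 𝒜 (E.X n).gr m k hx.2⟩
  have hK : LinearMap.ker h ⊓ gam m.toIdeal (E.X n).carrier = ⊥ := by
    by_contra hne
    apply ess_ker' 𝒜 E hmin0 hmin n _ hKhom hne
    rw [eq_bot_iff]
    rintro x ⟨⟨hx1, hx2⟩, hx3⟩
    have h1 : θ ⟨x, ⟨hx2, hx3⟩⟩ = 0 := by
      rw [← hhz]
      exact hx1
    have h2 := hθinj (h1.trans (map_zero θ).symm)
    exact congrArg Subtype.val h2
  intro g hg
  obtain ⟨z, hz⟩ := hθsurj (h g)
  have h1 : g - (z : (E.X n).carrier) ∈ LinearMap.ker h ⊓ gam m.toIdeal (E.X n).carrier := by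
    refine Submodule.mem_inf.2 ⟨?_, Submodule.sub_mem _ hg z.2.1⟩
    rw [LinearMap.mem_ker, map_sub, hhz, hz, sub_self]
  rw [hK, Submodule.mem_bot, sub_eq_zero] at h1
  rw [h1]
  exact z.2.2

include hmin0 hmin in
theorem gam_eq_bot_above (n : ℕ) (hprev : ∀ k, k + 1 = n → gam m.toIdeal (E.X k).carrier = ⊥)
    (hH : ∀ j, n < j → Subsingleton (E.H m j))
    (X : GMod.{u} 𝒜) (hX : IsStarInj 𝒜 X.gr) (θ' : E.H m n ≃ₗ[R] X.carrier)
    (hθ' : IsGrHom (E.Hgr m n) X.gr θ'.toLinearMap) :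
    ∀ t : ℕ, gam m.toIdeal (E.X (n + 1 + t)).carrier = ⊥ := by
  intro t
  induction t with
  | zero =>
    exact gam_eq_bot_step 𝒜 E hmin0 hmin m n
      (gam_le_ker_top 𝒜 E hmin0 hmin m n hprev X hX θ' hθ') (hH (n + 1) (by omega))
  | succ t ih =>
    have h1 : gam m.toIdeal (E.X (n + 1 + t)).carrier ≤ LinearMap.ker (E.d (n + 1 + t)) := by
      rw [ih]
      exact bot_le
    exact gam_eq_bot_step 𝒜 E hmin0 hmin m (n + 1 + t) h1 (hH (n + 1 + t + 1) (by omega))

end top

/-! ### the main theorem -/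

theorem main18650 (R : Type u) [CommRing R] [hCM : LocCoh.IsCohenMacaulayRing R]
    (𝒜 : ℤ → AddSubgroup R) [GradedRing 𝒜] (m : HomogeneousIdeal 𝒜)
    (hm : GrLC.IsStarLocal 𝒜 m) (n : ℕ) (hn : m.toIdeal.height = n)
    (I : GrLC.StarInjRes 𝒜 𝒜) :
    LocCoh.IsGorensteinRing R ↔ ∃ (X : GrLC.GMod.{u} 𝒜) (φ : I.H m n ≃ₗ[R] X.carrier),
      GrLC.IsStarInj 𝒜 X.gr ∧ GrLC.IsGrHom (I.Hgr m n) X.gr φ.toLinearMap := by
  haveI : IsNoetherianRing R := hCM.toIsNoetherian
  haveI hprime : m.toIdeal.IsPrime := isPrime_of_coatom 𝒜 m hm.1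
  obtain ⟨E₂, hE₂⟩ : ∃ E₂ : StarInjRes 𝒜 𝒜, E₂ = minRes 𝒜 𝒜 := ⟨_, rfl⟩
  have hmin0 : ∀ P : Submodule R (E₂.X 0).carrier, P.IsHomogeneous (E₂.X 0).gr → P ≠ ⊥ →
      P ⊓ LinearMap.range E₂.ε ≠ ⊥ := by
    rw [hE₂]
    exact minRes_min0 𝒜 𝒜
  have hmin : ∀ (k : ℕ) (P : Submodule R (E₂.X (k + 1)).carrier),
      P.IsHomogeneous (E₂.X (k + 1)).gr → P ≠ ⊥ → P ⊓ LinearMap.range (E₂.d k) ≠ ⊥ := by
    rw [hE₂]
    exact minRes_min 𝒜 𝒜
  have hσ : ∀ j : ℕ, GrLC.bassNum m.toIdeal R j =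
      Module.length (Localization.AtPrime m.toIdeal)
        (soc m.toIdeal (LocalizedModule m.toIdeal.primeCompl (E₂.X j).carrier)) :=
    fun j => bassNum_eq_length_soc 𝒜 𝒜 E₂ hmin0 hmin m j
  constructor
  · intro hG
    have hσ' : ∀ j : ℕ, Module.length (Localization.AtPrime m.toIdeal)
        (soc m.toIdeal (LocalizedModule m.toIdeal.primeCompl (E₂.X j).carrier)) =
        if j = n then 1 else 0 := by
      intro j
      rw [← hσ j]
      exact Groth.Agent.Lib.GorBassH1.bassNum_gorenstein R m.toIdeal n hn j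
    have hnext : gam m.toIdeal (E₂.X (n + 1)).carrier = ⊥ :=
      gam_eq_bot_of_length_zero 𝒜 (E₂.X (n + 1)).gr m hm.1
        (by rw [hσ', if_neg (Nat.succ_ne_self n)])
    have hprev : ∀ k, k + 1 = n → gam m.toIdeal (E₂.X k).carrier = ⊥ := by
      intro k hk
      exact gam_eq_bot_of_length_zero 𝒜 (E₂.X k).gr m hm.1
        (by rw [hσ', if_neg (by omega)])
    obtain ⟨X', u', g₀, ψ, hX'inj, -, hψinj, hψgr, hrange⟩ :=
      gam_eq_range 𝒜 (E₂.X n).gr m (E₂.starInj n) hm.1 (by rw [hσ', if_pos rfl])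
    obtain ⟨Φ, -, hΦ'⟩ := H_equiv_of_range E₂ m n hprev hnext X' ψ hψinj hψgr hrange
    obtain ⟨γ, hγ⟩ := H_equiv I E₂ m n
    refine ⟨X', γ.trans Φ.symm, hX'inj, ?_⟩
    intro k x hx
    exact hΦ' k _ (hγ k x hx)
  · rintro ⟨X, φ, hX, hφ⟩
    have hprev : ∀ k, k < n → gam m.toIdeal (E₂.X k).carrier = ⊥ := by
      intro k hk
      exact gam_eq_bot_of_length_zero 𝒜 (E₂.X k).gr m hm.1
        (by rw [← hσ k]; exact bassNum_eq_zero_of_lt m.toIdeal n hn k hk)
    have hH : ∀ j, n < j → Subsingleton (E₂.H m j) :=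
      fun j hj => H_subsingleton_of_gt 𝒜 m hm n hn E₂ j hj
    obtain ⟨γ, hγ⟩ := H_equiv E₂ I m n
    have hθ' : IsGrHom (E₂.Hgr m n) X.gr (γ.trans φ).toLinearMap := by
      intro k x hx
      exact hφ k _ (hγ k x hx)
    have hgam := gam_eq_bot_above 𝒜 E₂ hmin0 hmin m n (fun k hk => hprev k (by omega)) hH X hX
      (γ.trans φ) hθ'
    have hμ : ∀ j, n + 1 ≤ j → GrLC.bassNum m.toIdeal R j = 0 := by
      intro j hj
      obtain ⟨t, rfl⟩ : ∃ t, j = n + 1 + t := ⟨j - (n + 1), by omega⟩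
      rw [hσ, Module.length_eq_zero_iff]
      exact ⟨fun a b => Subtype.ext (by
        rw [soc_eq_zero_of_gam m.toIdeal (hgam t) a.1 a.2,
          soc_eq_zero_of_gam m.toIdeal (hgam t) b.1 b.2])⟩
    have hX0 : Subsingleton (E₂.X (n + 2)).carrier := by
      by_contra hns
      rw [not_subsingleton_iff_nontrivial] at hns
      obtain ⟨q, hq, hqne⟩ := exists_bassNum_ne_zero 𝒜 𝒜 E₂ hmin0 hmin (n + 2) hns
      haveI := hq
      apply hqne
      have hqtop : q ≠ ⊤ := by
        intro h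
        apply hq.ne_top
        rw [h]
        rfl
      exact bassNum_eq_zero_of_le m.toIdeal q.toIdeal (le_of_starLocal 𝒜 hm q hqtop) (n + 1) hμ
        (n + 2) le_rfl
    have hinj : CategoryTheory.HasInjectiveDimensionLT (ModuleCat.of R R) (n + 2 + 1) :=
      injDim_of_res (fun k => (E₂.X k).carrier) E₂.d E₂.exact_succ E₂.ε E₂.ε_injective
        E₂.exact_zero (fun k => Groth.Agent.Lib.GrInjDimH1.main 𝒜 (E₂.X k).gr (E₂.starInj k))
        (n + 2) hX0
    exact isGorensteinRing_of_injDim (n + 2 + 1) hinj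

end Groth.Agent.Lib.GorTop2H1
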