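import Mathlib
import Groth.Prelude.Def_GrLC
import Groth.Prelude.Def_Wider
import Groth.Agent.Lib.GrStar4_helper1
import Groth.Agent.Lib.GrExt_helper1
import Groth.Agent.Lib.GrLaurent_helper1
import Groth.Agent.Lib.AcycRes_helper1
import Groth.Agent.Lib.LocCohDepth_helper7
import Groth.Agent.Lib.LocCohLES2_helper7
import Groth.Agent.Lib.DepthSeq_helper5
import Groth.Agent.Lib.LocCohTorsVanish_helper7

/-! Graded Nakayama over a positively `ℤ`-graded ring and vanishing of local cohomology with support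
in the irrelevant ideal (helper1). -/

set_option autoImplicit false

namespace Groth.Agent.Lib.GrNakH1

open DirectSum GrLC

universe u

section graded

variable {R : Type u} [CommRing R] (𝒜 : ℤ → AddSubgroup R) [GradedRing 𝒜]
variable {M : Type u} [AddCommGroup M] [Module R M] (ℳ : ℤ → AddSubgroup M) [Decomposition ℳ]
  [SetLike.GradedSMul 𝒜 ℳ]

theorem decompose_linComb {n : ℕ} {dg : Fin n → ℤ} {s : Fin n → M} (hs : ∀ k, s k ∈ ℳ (dg k))
    (c : Fin n → R) (j : ℤ) :
    (decompose ℳ (∑ k, c k • s k) j : M) = ∑ k, (decompose 𝒜 (c k) (j - dg k) : R) • s k := by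
  rw [GrLaurentH1.coe_decompose_sum]
  exact Finset.sum_congr rfl (fun k _ => GrStarH1.decompose_smul_of_mem 𝒜 ℳ (hs k) (c k) j)

/-- a homogeneous element in terms of homogeneous generators, with homogeneous coefficients -/
theorem homog_eq_linComb {n : ℕ} {dg : Fin n → ℤ} {s : Fin n → M} (hs : ∀ k, s k ∈ ℳ (dg k))
    (hspan : Submodule.span R (Set.range s) = ⊤) {j : ℤ} {y : M} (hy : y ∈ ℳ j) :
    ∃ c : Fin n → R, (∀ k, c k ∈ 𝒜 (j - dg k)) ∧ y = ∑ k, c k • s k := by
  have hy' : y ∈ Submodule.span R (Set.range s) := by rw [hspan]; trivial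
  obtain ⟨c, hc⟩ := (Submodule.mem_span_range_iff_exists_fun R).mp hy'
  refine ⟨fun k => (decompose 𝒜 (c k) (j - dg k) : R),
    fun k => (decompose 𝒜 (c k) (j - dg k)).2, ?_⟩
  rw [← decompose_linComb 𝒜 ℳ hs c j, hc, decompose_of_mem_same ℳ hy]

theorem exists_lower_bound (hpos : ∀ n : ℤ, n < 0 → 𝒜 n = ⊥) [Module.Finite R M] :
    ∃ j₀ : ℤ, ∀ j : ℤ, j < j₀ → ℳ j = ⊥ := by
  obtain ⟨n, dg, s, hs, hspan⟩ := GrExtH1.exists_homog_generators (R := R) ℳ
  refine ⟨-(∑ k, |dg k|), fun j hj => ?_⟩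
  rw [eq_bot_iff]
  intro y hy
  obtain ⟨c, hc, rfl⟩ := homog_eq_linComb 𝒜 ℳ hs hspan hy
  rw [AddSubgroup.mem_bot]
  refine Finset.sum_eq_zero (fun k _ => ?_)
  have hk : j - dg k < 0 := by
    have h1 : |dg k| ≤ ∑ k, |dg k| :=
      Finset.single_le_sum (f := fun k => |dg k|) (fun i _ => abs_nonneg _) (Finset.mem_univ k)
    have h2 := neg_abs_le (dg k)
    linarith
  have := hc k
  rw [hpos _ hk, AddSubgroup.mem_bot] at this
  rw [this, zero_smul]

omit [Decomposition ℳ] [SetLike.GradedSMul 𝒜 ℳ] in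
theorem pow_le_span (I : Ideal R) (hI : I = Ideal.span ((𝒜 1 : AddSubgroup R) : Set R)) (N : ℕ) :
    I ^ N ≤ Ideal.span ((𝒜 (N : ℤ) : AddSubgroup R) : Set R) := by
  induction N with
  | zero =>
    rw [pow_zero, Ideal.one_eq_top]
    intro x _
    have h1 : (1 : R) ∈ Ideal.span ((𝒜 ((0 : ℕ) : ℤ) : AddSubgroup R) : Set R) :=
      Ideal.subset_span (by
        rw [Nat.cast_zero]
        exact SetLike.GradedOne.one_mem (A := 𝒜))
    have := Ideal.mul_mem_left _ x h1
    rwa [mul_one] at this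
  | succ N ih =>
    rw [pow_succ]
    refine (Ideal.mul_mono ih (le_of_eq hI)).trans ?_
    rw [Ideal.span_mul_span']
    apply Ideal.span_le.mpr
    rintro _ ⟨p, hp, q, hq, rfl⟩
    apply Ideal.subset_span
    have := SetLike.GradedMul.mul_mem (A := 𝒜) hp hq
    rw [Nat.cast_succ]
    exact this

theorem torsion_of_bounded (I : Ideal R) (hI : I = Ideal.span ((𝒜 1 : AddSubgroup R) : Set R))
    (n₀ : ℤ) (h : ∀ n, n₀ ≤ n → ℳ n = ⊥) : GrLC.gam I M = ⊤ := by
  classical
  have hom : ∀ (j : ℤ) (y : M), y ∈ ℳ j → y ∈ GrLC.gam I M := by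
    intro j y hy
    refine ⟨(n₀ - j).toNat, fun r hr => ?_⟩
    have hr' := pow_le_span 𝒜 I hI _ hr
    refine Submodule.span_induction (p := fun r _ => r • y = 0) ?_ ?_ ?_ ?_ hr'
    · intro r hr
      have h1 : r • y ∈ ℳ (((n₀ - j).toNat : ℤ) + j) := GrStarH1.smul_mem_gr 𝒜 ℳ hr hy
      rw [h _ (by have := Int.self_le_toNat (n₀ - j); linarith), AddSubgroup.mem_bot] at h1
      exact h1
    · exact zero_smul _ _
    · intro r r' _ _ hr hr'
      rw [add_smul, hr, hr', add_zero]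
    · intro c r _ hr
      rw [smul_eq_mul, mul_smul, hr, smul_zero]
  rw [eq_top_iff]
  intro x _
  rw [← DirectSum.sum_support_decompose ℳ x]
  exact Submodule.sum_mem _ (fun j _ => hom j _ (decompose ℳ x j).2)

/-- graded Nakayama, relative to a homogeneous submodule -/
theorem eq_top_of_sup_smul (hpos : ∀ n : ℤ, n < 0 → 𝒜 n = ⊥) [Module.Finite R M] (I : Ideal R)
    (hI : I = Ideal.span (⋃ n ∈ Set.Ioi (0 : ℤ), (𝒜 n : Set R))) (T : Submodule R M)
    (hT : T.IsHomogeneous ℳ)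
    (h : ∀ y : M, ∃ z ∈ I • (⊤ : Submodule R M), y - z ∈ T) : T = ⊤ := by
  classical
  obtain ⟨j₀, hj₀⟩ := exists_lower_bound 𝒜 ℳ hpos
  have key : ∀ (k : ℕ) (j : ℤ), j < j₀ + k → ∀ y ∈ ℳ j, y ∈ T := by
    intro k
    induction k with
    | zero =>
      intro j hj y hy
      rw [hj₀ j (by simpa using hj), AddSubgroup.mem_bot] at hy
      rw [hy]; exact T.zero_mem
    | succ k ih =>
      intro j hj y hy
      -- components of elements of `I • ⊤`
      have hgen : ∀ r ∈ I, ∀ m : M, (decompose ℳ (r • m) j : M) ∈ T := by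
        intro r hr
        rw [hI] at hr
        refine Submodule.span_induction (p := fun r _ => ∀ m : M, (decompose ℳ (r • m) j : M) ∈ T)
          ?_ ?_ ?_ ?_ hr
        · intro s hs m
          obtain ⟨n, hn, hsn⟩ := Set.mem_iUnion₂.mp hs
          have hn0 : 0 < n := hn
          have e : j = n + (j - n) := by ring
          rw [e, GrStarH1.decompose_smul_homog 𝒜 ℳ hsn]
          apply T.smul_mem
          apply ih (j - n) _ _ (decompose ℳ m (j - n)).2
          push_cast at hj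
          linarith
        · intro m
          rw [zero_smul, decompose_zero, DirectSum.zero_apply, ZeroMemClass.coe_zero]
          exact T.zero_mem
        · intro r r' _ _ hr hr' m
          rw [add_smul, decompose_add, DirectSum.add_apply, AddSubgroup.coe_add]
          exact T.add_mem (hr m) (hr' m)
        · intro c r _ hr m
          rw [smul_eq_mul, mul_comm, mul_smul]
          exact hr (c • m)
      have hsm : ∀ z ∈ I • (⊤ : Submodule R M), (decompose ℳ z j : M) ∈ T := by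
        intro z hz
        refine Submodule.smul_induction_on hz (fun r hr m _ => hgen r hr m) ?_
        intro z z' hz hz'
        rw [decompose_add, DirectSum.add_apply, AddSubgroup.coe_add]
        exact T.add_mem hz hz'
      obtain ⟨z, hz, hyz⟩ := h y
      have e : y = (decompose ℳ z j : M) + (decompose ℳ (y - z) j : M) := by
        rw [← AddSubgroup.coe_add, ← DirectSum.add_apply, ← decompose_add, add_sub_cancel,
          decompose_of_mem_same ℳ hy]
      rw [e]
      exact T.add_mem (hsm z hz) (hT j hyz)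
  rw [eq_top_iff]
  intro x _
  rw [← DirectSum.sum_support_decompose ℳ x]
  refine Submodule.sum_mem _ (fun j _ => ?_)
  refine key (j - j₀ + 1).toNat j ?_ _ (decompose ℳ x j).2
  have := Int.self_le_toNat (j - j₀ + 1)
  linarith

omit [Decomposition ℳ] [SetLike.GradedSMul 𝒜 ℳ] in
theorem piece_le_pow (I : Ideal R) (hI1 : I = Ideal.span ((𝒜 1 : AddSubgroup R) : Set R))
    (hI : I = Ideal.span (⋃ n ∈ Set.Ioi (0 : ℤ), (𝒜 n : Set R))) (m : ℕ) :
    ∀ x ∈ 𝒜 (m : ℤ), x ∈ I ^ m := by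
  induction m with
  | zero =>
    intro x _
    rw [pow_zero, Ideal.one_eq_top]; trivial
  | succ m ih =>
    intro x hx
    have hxI : x ∈ I := by
      rw [hI]
      exact Ideal.subset_span (Set.mem_biUnion (show ((m + 1 : ℕ) : ℤ) ∈ Set.Ioi (0 : ℤ) from by
        simp only [Set.mem_Ioi]; positivity) hx)
    rw [hI1] at hxI
    obtain ⟨n, f, g, hfg⟩ := Submodule.mem_span_set'.mp hxI
    have hx' : x = ∑ i, (decompose 𝒜 (f i) (m : ℤ) : R) * (g i : R) := by
      conv_lhs => rw [← decompose_of_mem_same 𝒜 hx, ← hfg]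
      rw [GrLaurentH1.coe_decompose_sum]
      refine Finset.sum_congr rfl (fun i _ => ?_)
      have := GrStarH1.decompose_smul_of_mem 𝒜 𝒜 (g i).2 (f i) ((m + 1 : ℕ) : ℤ)
      have e : ((m + 1 : ℕ) : ℤ) - 1 = (m : ℤ) := by push_cast; ring
      rw [e] at this
      rw [this, smul_eq_mul]
    rw [hx', pow_succ]
    refine Ideal.sum_mem _ (fun i _ => ?_)
    apply Ideal.mul_mem_mul (ih _ (decompose 𝒜 (f i) (m : ℤ)).2)
    rw [hI1]
    exact Ideal.subset_span (g i).2

theorem bounded_of_torsion (hpos : ∀ n : ℤ, n < 0 → 𝒜 n = ⊥) [Module.Finite R M] (I : Ideal R)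
    (hI1 : I = Ideal.span ((𝒜 1 : AddSubgroup R) : Set R))
    (hI : I = Ideal.span (⋃ n ∈ Set.Ioi (0 : ℤ), (𝒜 n : Set R)))
    (htors : ∀ x : M, ∃ N : ℕ, ∀ r ∈ I ^ N, r • x = 0) :
    ∃ n₀ : ℤ, ∀ n : ℤ, n₀ ≤ n → ℳ n = ⊥ := by
  obtain ⟨n, dg, s, hs, hspan⟩ := GrExtH1.exists_homog_generators (R := R) ℳ
  choose N hN using fun k => htors (s k)
  refine ⟨∑ k, |dg k| + ((∑ k, N k : ℕ) : ℤ), fun j hj => ?_⟩
  rw [eq_bot_iff]
  intro y hy
  obtain ⟨c, hc, rfl⟩ := homog_eq_linComb 𝒜 ℳ hs hspan hy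
  rw [AddSubgroup.mem_bot]
  refine Finset.sum_eq_zero (fun k _ => ?_)
  have h1 : |dg k| ≤ ∑ k, |dg k| :=
    Finset.single_le_sum (f := fun k => |dg k|) (fun i _ => abs_nonneg _) (Finset.mem_univ k)
  have h2 := le_abs_self (dg k)
  have h3 : N k ≤ ∑ k, N k :=
    Finset.single_le_sum (f := fun k => N k) (fun i _ => Nat.zero_le _) (Finset.mem_univ k)
  have h3' : (N k : ℤ) ≤ ((∑ k, N k : ℕ) : ℤ) := by exact_mod_cast h3
  have h4 : (N k : ℤ) ≤ j - dg k := by linarith
  have h5 : j - dg k = (((j - dg k).toNat : ℕ) : ℤ) := by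
    rw [Int.toNat_of_nonneg]; linarith [Int.natCast_nonneg (N k)]
  have hck := hc k
  rw [h5] at hck
  have h6 := piece_le_pow 𝒜 I hI1 hI _ _ hck
  have h7 : N k ≤ (j - dg k).toNat := by
    have : (N k : ℤ) ≤ ((j - dg k).toNat : ℤ) := by rw [← h5]; exact h4
    exact_mod_cast this
  exact hN k _ (Ideal.pow_le_pow_right h7 h6)

end graded

section lc

open Groth.Agent.Lib.InjHull_helper3

variable {R : Type u} [CommRing R] [IsNoetherianRing R]

theorem smul_top_eq_top_of_vanishing (I : Ideal R) (N : Type u) [AddCommGroup N] [Module R N]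
    [Module.Finite R N] (h : ∀ i : ℕ, Subsingleton (LocCoh.H I i N)) :
    I • (⊤ : Submodule R N) = ⊤ := by
  by_contra hIN
  have hne := Groth.Agent.DepthLib.idealDepth_ne_top I N hIN
  obtain ⟨n, hn⟩ := ENat.ne_top_iff_exists.mp hne
  haveI := Groth.Agent.Lib.LocCohDepthH7.nonvanishing I N hIN n hn.symm
  exact not_subsingleton (LocCoh.H I n N) (h n)

/-- `Γ_I(M / Γ_I(M)) = 0` -/
theorem torsionSub_quot_eq_bot (I : Ideal R) (M : Type u) [AddCommGroup M] [Module R M] :
    Γ I (M ⧸ DRing.torsionSub I M) = ⊥ := by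
  classical
  rw [eq_bot_iff]
  intro xb hxb
  obtain ⟨x, rfl⟩ := Submodule.mkQ_surjective _ xb
  obtain ⟨n, hn⟩ := (mem_Γ_iff I _).mp hxb
  have hmem : ∀ c ∈ I ^ n, c • x ∈ DRing.torsionSub I M := by
    intro c hc
    have := hn c hc
    rw [← map_smul, Submodule.mkQ_apply, Submodule.Quotient.mk_eq_zero] at this
    exact this
  obtain ⟨S, hS⟩ := (IsNoetherian.noetherian (I ^ n) : (I ^ n).FG)
  have hS' : ∀ s ∈ S, s ∈ I ^ n := fun s hs => by rw [← hS]; exact Submodule.subset_span hs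
  choose! k hk using fun s (hs : s ∈ S) => hmem s (hS' s hs)
  have key : ∀ c ∈ I ^ n, ∀ b ∈ I ^ (S.sup k), b • c • x = 0 := by
    intro c hc
    rw [← hS] at hc
    refine Submodule.span_induction (p := fun c _ => ∀ b ∈ I ^ (S.sup k), b • c • x = 0)
      ?_ ?_ ?_ ?_ hc
    · intro s hs b hb
      exact hk s hs b (Ideal.pow_le_pow_right (Finset.le_sup hs) hb)
    · intro b _
      rw [zero_smul, smul_zero]
    · intro c c' _ _ hc hc' b hb
      rw [add_smul, smul_add, hc b hb, hc' b hb, add_zero]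
    · intro d c _ hc b hb
      rw [smul_eq_mul, mul_smul, smul_comm b d, hc b hb, smul_zero]
  have hx : x ∈ DRing.torsionSub I M := by
    refine ⟨S.sup k + n, fun r hr => ?_⟩
    rw [pow_add] at hr
    refine Submodule.mul_induction_on hr ?_ ?_
    · intro b hb c hc
      rw [mul_smul]
      exact key c hc b hb
    · intro r r' hr hr'
      rw [add_smul, hr, hr', add_zero]
  rw [Submodule.mem_bot, Submodule.mkQ_apply, Submodule.Quotient.mk_eq_zero]
  exact hx

theorem quot_vanishing (I : Ideal R) (M : Type u) [AddCommGroup M] [Module R M]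
    (h : ∀ i : ℕ, 1 ≤ i → Subsingleton (LocCoh.H I i M)) (i : ℕ) :
    Subsingleton (LocCoh.H I i (M ⧸ DRing.torsionSub I M)) := by
  cases i with
  | zero =>
    obtain ⟨e⟩ := Groth.Agent.Lib.LocCohDeltaZeroH7.H0_equiv' I (M ⧸ DRing.torsionSub I M)
    have : Subsingleton ↥(Γ I (M ⧸ DRing.torsionSub I M)) := by
      rw [torsionSub_quot_eq_bot]
      infer_instance
    exact e.toEquiv.subsingleton
  | succ p =>
    have hb := Groth.Agent.Lib.LocCohLESH7.map_mkQ_torsionSub_bijective I M p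
    haveI := h (p + 1) (by omega)
    exact hb.2.subsingleton

end lc

theorem main13229 (R : Type u) [CommRing R] [IsNoetherianRing R] (𝒜 : ℤ → AddSubgroup R)
    [GradedRing 𝒜] (hpos : ∀ n : ℤ, n < 0 → 𝒜 n = ⊥) (a : HomogeneousIdeal 𝒜)
    (ha : a.toIdeal = Ideal.span (⋃ n ∈ Set.Ioi (0 : ℤ), (𝒜 n : Set R)))
    (hhom : a.toIdeal = Ideal.span ((𝒜 1 : AddSubgroup R) : Set R)) (M : Type u) [AddCommGroup M]
    [Module R M] [Module.Finite R M] (ℳ : ℤ → AddSubgroup M) [DirectSum.Decomposition ℳ]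
    [SetLike.GradedSMul 𝒜 ℳ] :
    (∀ i : ℕ, 1 ≤ i → Subsingleton (LocCoh.H a.toIdeal i M)) ↔
      ∃ n₀ : ℤ, ∀ n : ℤ, n₀ ≤ n → ℳ n = ⊥ := by
  constructor
  · intro h
    have hT : DRing.torsionSub a.toIdeal M = GrLC.gam a.toIdeal M := by
      ext x; rfl
    have hN := quot_vanishing a.toIdeal M h
    have hIN := smul_top_eq_top_of_vanishing a.toIdeal (M ⧸ DRing.torsionSub a.toIdeal M) hN
    have hsup : ∀ y : M, ∃ z ∈ a.toIdeal • (⊤ : Submodule R M),
        y - z ∈ GrLC.gam a.toIdeal M := by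
      intro y
      have hy : (DRing.torsionSub a.toIdeal M).mkQ y ∈
          a.toIdeal • (⊤ : Submodule R (M ⧸ DRing.torsionSub a.toIdeal M)) := by
        rw [hIN]; trivial
      have hmap : a.toIdeal • (⊤ : Submodule R (M ⧸ DRing.torsionSub a.toIdeal M)) =
          (a.toIdeal • (⊤ : Submodule R M)).map (DRing.torsionSub a.toIdeal M).mkQ := by
        rw [Submodule.map_smul'', Submodule.map_top, Submodule.range_mkQ]
      rw [hmap] at hy
      obtain ⟨z, hz, hzy⟩ := hy
      refine ⟨z, hz, ?_⟩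
      rw [← hT, ← Submodule.Quotient.mk_eq_zero, Submodule.Quotient.mk_sub]
      rw [Submodule.mkQ_apply, Submodule.mkQ_apply] at hzy
      rw [hzy, sub_self]
    have htop := eq_top_of_sup_smul 𝒜 ℳ hpos a.toIdeal ha (GrLC.gam a.toIdeal M)
      (GrStar4H1.gam_isHomogeneous 𝒜 ℳ a) hsup
    have htors : ∀ x : M, ∃ N : ℕ, ∀ r ∈ a.toIdeal ^ N, r • x = 0 := by
      intro x
      have : x ∈ GrLC.gam a.toIdeal M := by rw [htop]; trivial
      exact this
    exact bounded_of_torsion 𝒜 ℳ hpos a.toIdeal hhom ha htors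
  · rintro ⟨n₀, hn₀⟩ i hi
    have htop := torsion_of_bounded 𝒜 ℳ a.toIdeal hhom n₀ hn₀
    have htors : LocCoh.IsPowerTorsion a.toIdeal M := by
      intro x
      have : x ∈ GrLC.gam a.toIdeal M := by rw [htop]; trivial
      exact this
    obtain ⟨p, rfl⟩ : ∃ p, i = p + 1 := ⟨i - 1, by omega⟩
    exact Groth.Agent.Lib.LocCohTorsVanishH7.H_subsingleton a.toIdeal M htors p

end Groth.Agent.Lib.GrNakH1
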