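import Mathlib
import Groth.Prelude.Def_GrLC
import Groth.Prelude.Def_Wider
import Groth.Agent.Lib.GrStar3_helper1

/-! The *injective hull of `R/m`, `m` a graded maximal ideal of a Noetherian `ℤ`-graded ring, is an
injective hull (helper1).  Part A (ungraded): a module `E` over a Noetherian ring, `m`-power torsion
with simple essential socle `R u` and faithful on each `R/m^c` through the elements killed by
`m^c`, is injective (Matlis length count and Baer's criterion with Artin-Rees).  Part B: the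
hypotheses for a *injective hull. -/

set_option autoImplicit false

namespace Groth.Agent.Lib.MaxHullH1

universe u

/-! ### Part A -/
section partA

variable {R : Type u} [CommRing R] {E : Type u} [AddCommGroup E] [Module R E]
variable (m : Ideal R) [hm : m.IsMaximal] (u : E)

theorem enat_aux {lB lN lQ lK lR lH : ℕ∞} (hfin : lB ≠ ⊤) (e1 : lB = lN + lQ) (e2 : lB = lK + lR)
    (i1 : lK ≤ lQ) (i2 : lR ≤ lH) (i3 : lH ≤ lN) : lH ≤ lR ∧ lH ≠ ⊤ := by
  have hN : lN ≠ ⊤ := fun h => hfin (by rw [e1, h, top_add])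
  have hQ : lQ ≠ ⊤ := fun h => hfin (by rw [e1, h, add_top])
  have hK : lK ≠ ⊤ := fun h => hfin (by rw [e2, h, top_add])
  have hR : lR ≠ ⊤ := fun h => hfin (by rw [e2, h, add_top])
  have hH : lH ≠ ⊤ := ne_top_of_le_ne_top hN i3
  refine ⟨?_, hH⟩
  lift lB to ℕ using hfin
  lift lN to ℕ using hN
  lift lQ to ℕ using hQ
  lift lK to ℕ using hK
  lift lR to ℕ using hR
  lift lH to ℕ using hH
  norm_cast at *
  omega

section hom

variable {N : Type u} [AddCommGroup N] [Module R N] (S : Submodule R N)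

/-- restriction of maps to a submodule -/
noncomputable def resHom : (N →ₗ[R] E) →ₗ[R] (S →ₗ[R] E) := LinearMap.lcomp R E S.subtype

theorem resHom_apply (φ : N →ₗ[R] E) (s : S) : resHom (E := E) S φ s = φ s := rfl

theorem length_ker_resHom_le :
    Module.length R (LinearMap.ker (resHom (E := E) S)) ≤ Module.length R ((N ⧸ S) →ₗ[R] E) := by
  let α : ((N ⧸ S) →ₗ[R] E) →ₗ[R] LinearMap.ker (resHom (E := E) S) :=
    (LinearMap.lcomp R E S.mkQ).codRestrict _ (fun ψ => by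
      rw [LinearMap.mem_ker]
      ext s
      show ψ (S.mkQ s) = 0
      rw [Submodule.mkQ_apply, (Submodule.Quotient.mk_eq_zero S).2 s.2, map_zero])
  have hα : Function.Surjective α := by
    rintro ⟨φ, hφ⟩
    rw [LinearMap.mem_ker] at hφ
    have hle : S ≤ LinearMap.ker φ := fun s hs => by
      rw [LinearMap.mem_ker]
      exact LinearMap.congr_fun hφ ⟨s, hs⟩
    refine ⟨S.liftQ φ hle, Subtype.ext ?_⟩
    ext x
    rfl
  exact Module.length_le_of_surjective α hα

theorem length_hom_split : Module.length R (N →ₗ[R] E) =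
    Module.length R (LinearMap.ker (resHom (E := E) S)) +
      Module.length R (LinearMap.range (resHom (E := E) S)) :=
  Module.length_eq_add_of_exact (LinearMap.ker (resHom (E := E) S)).subtype
    (resHom (E := E) S).rangeRestrict (Submodule.injective_subtype _)
    (resHom (E := E) S).surjective_rangeRestrict
    (LinearMap.exact_iff.2 (by rw [LinearMap.ker_rangeRestrict, Submodule.range_subtype]))

theorem length_range_resHom_le :
    Module.length R (LinearMap.range (resHom (E := E) S)) ≤ Module.length R (S →ₗ[R] E) :=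
  Module.length_le_of_injective (LinearMap.range (resHom (E := E) S)).subtype
    (Submodule.injective_subtype _)

end hom

variable (htor : ∀ x : E, ∃ k : ℕ, ∀ r ∈ m ^ k, r • x = 0)
  (hess : ∀ N : Submodule R E, N ≠ ⊥ → ∃ t : R, t • u ∈ N ∧ t • u ≠ 0)
  (hu : ∀ r ∈ m, r • u = 0)

include hess hu in
theorem socle (x : E) (hx : ∀ r ∈ m, r • x = 0) : x ∈ Submodule.span R {u} := by
  by_cases hx0 : x = 0
  · rw [hx0]
    exact Submodule.zero_mem _
  have hN : Submodule.span R {x} ≠ ⊥ := by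
    intro h
    apply hx0
    have : x ∈ Submodule.span R {x} := Submodule.mem_span_singleton_self x
    rw [h] at this
    simpa using this
  obtain ⟨t, ht, ht0⟩ := hess _ hN
  obtain ⟨s, hs⟩ := Submodule.mem_span_singleton.1 ht
  have hsm : s ∉ m := fun h => ht0 (by rw [← hs]; exact hx s h)
  obtain ⟨s', i, hi, hsi⟩ := hm.exists_inv hsm
  have hxe : x = s' • (t • u) := by
    calc x = (s' * s + i) • x := by rw [hsi, one_smul]
      _ = s' • (s • x) + i • x := by rw [add_smul, mul_smul]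
      _ = s' • (t • u) := by rw [hx i hi, add_zero, hs]
  rw [hxe]
  exact Submodule.smul_mem _ _ (Submodule.smul_mem _ _ (Submodule.mem_span_singleton_self u))

include hu in
theorem length_span_le : Module.length R (Submodule.span R {u}) ≤ 1 := by
  haveI : IsSimpleModule R (R ⧸ m) :=
    isSimpleModule_iff_quot_maximal.mpr ⟨m, hm, ⟨LinearEquiv.refl R _⟩⟩
  have h1 : Module.length R (R ⧸ m) = 1 := Module.length_eq_one R (R ⧸ m)
  let g0 : R →ₗ[R] Submodule.span R {u} :=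
    (LinearMap.toSpanSingleton R E u).codRestrict (Submodule.span R {u})
      (fun r => Submodule.smul_mem _ r (Submodule.mem_span_singleton_self u))
  have hg0 : m ≤ LinearMap.ker g0 := by
    intro r hr
    rw [LinearMap.mem_ker]
    apply Subtype.ext
    exact hu r hr
  have hg : Function.Surjective (Submodule.liftQ m g0 hg0) := by
    rintro ⟨y, hy⟩
    obtain ⟨s, rfl⟩ := Submodule.mem_span_singleton.1 hy
    exact ⟨Submodule.Quotient.mk s, Subtype.ext rfl⟩
  calc Module.length R (Submodule.span R {u}) ≤ Module.length R (R ⧸ m) :=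
        Module.length_le_of_surjective _ hg
    _ = 1 := h1

include htor hess hu in
theorem length_hom_simple (N : Type u) [AddCommGroup N] [Module R N] [IsSimpleModule R N] :
    Module.length R (N →ₗ[R] E) ≤ 1 := by
  obtain ⟨𝔫, h𝔫, ⟨ε⟩⟩ := isSimpleModule_iff_quot_maximal.mp (inferInstance : IsSimpleModule R N)
  obtain ⟨n₀, hn₀⟩ : ∃ n₀ : N, n₀ = ε.symm (Submodule.Quotient.mk 1) := ⟨_, rfl⟩
  have hsm : ∀ s : R, s • n₀ = ε.symm (Submodule.Quotient.mk s) := by
    intro s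
    rw [hn₀, ← map_smul, ← Submodule.Quotient.mk_smul, smul_eq_mul, mul_one]
  have hgen : ∀ y : N, ∃ s : R, y = s • n₀ := by
    intro y
    obtain ⟨s, hs⟩ := Submodule.Quotient.mk_surjective 𝔫 (ε y)
    refine ⟨s, ?_⟩
    rw [hsm, hs, LinearEquiv.symm_apply_apply]
  have hann : ∀ r ∈ 𝔫, r • n₀ = 0 := by
    intro r hr
    rw [hsm, (Submodule.Quotient.mk_eq_zero 𝔫).2 hr, map_zero]
  have hrange : ∀ φ : N →ₗ[R] E, φ n₀ ∈ Submodule.span R {u} := by
    intro φ
    have hk : ∀ r ∈ 𝔫, r • φ n₀ = 0 := fun r hr => by rw [← map_smul, hann r hr, map_zero]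
    by_cases hmn : m ≤ 𝔫
    · have hmeq : m = 𝔫 := hm.eq_of_le h𝔫.ne_top hmn
      exact socle m u hess hu _ (fun r hr => hk r (hmeq ▸ hr))
    · obtain ⟨k, hk'⟩ := htor (φ n₀)
      haveI := h𝔫.isPrime
      have hnot : ¬ m ^ k ≤ 𝔫 := fun h => hmn (Ideal.IsPrime.le_of_pow_le h)
      have htop : m ^ k ⊔ 𝔫 = ⊤ := by
        by_contra hne
        have h1 : 𝔫 = m ^ k ⊔ 𝔫 := h𝔫.eq_of_le hne le_sup_right
        exact hnot (le_sup_left.trans_eq h1.symm)
      have h1 : (1 : R) ∈ m ^ k ⊔ 𝔫 := htop ▸ Submodule.mem_top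
      obtain ⟨a, ha, b, hb, hab⟩ := Submodule.mem_sup.1 h1
      have h0 : φ n₀ = 0 := by
        calc φ n₀ = (a + b) • φ n₀ := by rw [hab, one_smul]
          _ = 0 := by rw [add_smul, hk' a ha, hk b hb, add_zero]
      rw [h0]
      exact Submodule.zero_mem _
  let ev : (N →ₗ[R] E) →ₗ[R] Submodule.span R {u} :=
    (LinearMap.applyₗ n₀).codRestrict _ hrange
  have hev : Function.Injective ev := by
    intro φ ψ h
    have h0 : φ n₀ = ψ n₀ := congrArg Subtype.val h
    ext y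
    obtain ⟨s, rfl⟩ := hgen y
    rw [map_smul, map_smul, h0]
  exact (Module.length_le_of_injective ev hev).trans (length_span_le m u hu)

include htor hess hu in
theorem length_hom_le_aux : ∀ (n : ℕ) (N : Type u) [AddCommGroup N] [Module R N],
    Module.length R N = n → Module.length R (N →ₗ[R] E) ≤ n := by
  intro n
  induction n with
  | zero =>
    intro N _ _ hN
    rw [Nat.cast_zero, Module.length_eq_zero_iff] at hN
    have : Subsingleton (N →ₗ[R] E) :=
      ⟨fun φ ψ => LinearMap.ext fun x => by rw [Subsingleton.elim x 0, map_zero, map_zero]⟩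
    rw [Module.length_eq_zero]
    exact bot_le
  | succ n ih =>
    intro N _ _ hN
    have hfin : IsFiniteLength R N :=
      Module.length_ne_top_iff.1 (by rw [hN]; exact ENat.coe_ne_top _)
    obtain ⟨_, _⟩ := isFiniteLength_iff_isNoetherian_isArtinian.1 hfin
    haveI : Nontrivial N := by
      rw [← Module.length_pos_iff (R := R), hN]
      exact_mod_cast Nat.succ_pos n
    obtain ⟨S, hS, -⟩ := (eq_bot_or_exists_atom_le (⊤ : Submodule R N)).resolve_left top_ne_bot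
    haveI : IsSimpleModule R S := isSimpleModule_iff_isAtom.2 hS
    have hadd := Module.length_eq_add_of_exact S.subtype S.mkQ S.injective_subtype
      S.mkQ_surjective (LinearMap.exact_subtype_mkQ S)
    rw [hN, Module.length_eq_one R S] at hadd
    have hq : Module.length R (N ⧸ S) = n := by
      have hne : Module.length R (N ⧸ S) ≠ ⊤ := by
        intro h
        rw [h, add_top] at hadd
        exact ENat.coe_ne_top _ hadd
      obtain ⟨k, hk⟩ := ENat.ne_top_iff_exists.1 hne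
      rw [← hk] at hadd ⊢
      have h2 : n + 1 = 1 + k := by exact_mod_cast hadd
      have h3 : k = n := by omega
      rw [h3]
    have ih' := ih (N ⧸ S) hq
    have h1 := length_hom_simple m u htor hess hu S
    rw [length_hom_split (E := E) S]
    calc _ ≤ Module.length R ((N ⧸ S) →ₗ[R] E) + Module.length R (S →ₗ[R] E) :=
          add_le_add (length_ker_resHom_le S) (length_range_resHom_le S)
      _ ≤ (n : ℕ∞) + 1 := add_le_add ih' h1
      _ = ((n + 1 : ℕ) : ℕ∞) := by norm_cast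

include htor hess hu in
theorem length_hom_le (N : Type u) [AddCommGroup N] [Module R N] :
    Module.length R (N →ₗ[R] E) ≤ Module.length R N := by
  by_cases h : Module.length R N = ⊤
  · rw [h]
    exact le_top
  · obtain ⟨k, hk⟩ := ENat.ne_top_iff_exists.1 h
    rw [← hk]
    exact length_hom_le_aux m u htor hess hu k N hk.symm

/-- the elements killed by `m ^ c` -/
def Ec (c : ℕ) : Submodule R E where
  carrier := {x | ∀ r ∈ m ^ c, r • x = 0}
  zero_mem' := fun r _ => smul_zero r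
  add_mem' := fun {x y} hx hy r hr => by rw [smul_add, hx r hr, hy r hr, add_zero]
  smul_mem' := fun a x hx r hr => by rw [smul_comm, hx r hr, smul_zero]

variable (hfaith : ∀ (c : ℕ) (r : R), r ∉ m ^ c → ∃ x : E, (∀ s ∈ m ^ c, s • x = 0) ∧ r • x ≠ 0)

include hfaith in
theorem length_quot_le (c : ℕ) :
    Module.length R (R ⧸ m ^ c) ≤ Module.length R (Ec (E := E) m c →ₗ[R] E) := by
  let Φ : R →ₗ[R] (Ec (E := E) m c →ₗ[R] E) :=
    LinearMap.toSpanSingleton R _ (Ec (E := E) m c).subtype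
  have hker : m ^ c ≤ LinearMap.ker Φ := by
    intro r hr
    rw [LinearMap.mem_ker]
    ext ⟨x, hx⟩
    exact hx r hr
  have hinj : Function.Injective ((m ^ c).liftQ Φ hker) := by
    rw [← LinearMap.ker_eq_bot]
    apply Submodule.ker_liftQ_eq_bot
    intro r hr
    by_contra hrc
    obtain ⟨x, hx, hrx⟩ := hfaith c r hrc
    apply hrx
    rw [LinearMap.mem_ker] at hr
    exact LinearMap.congr_fun hr ⟨x, hx⟩
  exact Module.length_le_of_injective _ hinj

theorem length_Ec_le (c : ℕ) :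
    Module.length R (Ec (E := E) m c) ≤ Module.length R ((R ⧸ m ^ c) →ₗ[R] E) := by
  let ev : ((R ⧸ m ^ c) →ₗ[R] E) →ₗ[R] E :=
    LinearMap.applyₗ ((m ^ c).mkQ (1 : R))
  have hle : Ec (E := E) m c ≤ LinearMap.range ev := by
    intro x hx
    have hk : m ^ c ≤ LinearMap.ker (LinearMap.toSpanSingleton R E x) := fun r hr => by
      rw [LinearMap.mem_ker, LinearMap.toSpanSingleton_apply]
      exact hx r hr
    refine ⟨(m ^ c).liftQ (LinearMap.toSpanSingleton R E x) hk, ?_⟩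
    show (m ^ c).liftQ (LinearMap.toSpanSingleton R E x) hk ((m ^ c).mkQ (1 : R)) = x
    rw [Submodule.mkQ_apply, Submodule.liftQ_apply, LinearMap.toSpanSingleton_apply, one_smul]
  calc Module.length R (Ec (E := E) m c) ≤ Module.length R (LinearMap.range ev) :=
        Module.length_le_of_injective (Submodule.inclusion hle) (Submodule.inclusion_injective hle)
    _ ≤ _ := Module.length_le_of_surjective ev.rangeRestrict ev.surjective_rangeRestrict

include htor hess hu hfaith in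
theorem length_hom_quot_eq (c : ℕ) :
    Module.length R ((R ⧸ m ^ c) →ₗ[R] E) = Module.length R (R ⧸ m ^ c) :=
  le_antisymm (length_hom_le m u htor hess hu _)
    ((length_quot_le m hfaith c).trans
      ((length_hom_le m u htor hess hu (Ec (E := E) m c)).trans (length_Ec_le m c)))

theorem finiteLength_quot [IsNoetherianRing R] (c : ℕ) : Module.length R (R ⧸ m ^ c) ≠ ⊤ := by
  have hK : Ring.KrullDimLE 0 (R ⧸ m ^ c) := by
    rw [Ideal.krullDimLE_zero_quotient_iff_forall_minimalPrimes_isMaximal]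
    intro J hJ
    haveI hJp : J.IsPrime := hJ.1.1
    have hmJ : m ≤ J := Ideal.IsPrime.le_of_pow_le hJ.1.2
    rw [← hm.eq_of_le hJp.ne_top hmJ]
    exact hm
  haveI : IsArtinianRing (R ⧸ m ^ c) := IsNoetherianRing.isArtinianRing_of_krullDimLE_zero
  haveI : IsArtinian R (R ⧸ m ^ c) :=
    isArtinian_of_surjective_algebraMap (Ideal.Quotient.mk_surjective (I := m ^ c))
  exact Module.length_ne_top

include htor hess hu hfaith in
theorem restrict_surjective [IsNoetherianRing R] (c : ℕ) (N' : Submodule R (R ⧸ m ^ c))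
    (φ : N' →ₗ[R] E) : ∃ ψ : (R ⧸ m ^ c) →ₗ[R] E, ψ ∘ₗ N'.subtype = φ := by
  have hfin := finiteLength_quot m c
  have e1 := Module.length_eq_add_of_exact N'.subtype N'.mkQ N'.injective_subtype
    N'.mkQ_surjective (LinearMap.exact_subtype_mkQ N')
  have e2 := length_hom_split (E := E) N'
  rw [length_hom_quot_eq m u htor hess hu hfaith c] at e2
  have i1 := (length_ker_resHom_le (E := E) N').trans (length_hom_le m u htor hess hu _)
  have i2 := length_range_resHom_le (E := E) N'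
  have i3 := length_hom_le m u htor hess hu N'
  obtain ⟨h1, h2⟩ := enat_aux hfin e1 e2 i1 i2 i3
  have hfl : IsFiniteLength R (N' →ₗ[R] E) := Module.length_ne_top_iff.1 h2
  obtain ⟨_, _⟩ := isFiniteLength_iff_isNoetherian_isArtinian.1 hfl
  have htop : LinearMap.range (resHom (E := E) N') = ⊤ := by
    by_contra hne
    exact absurd (Submodule.length_lt hne) (not_lt.2 h1)
  have hφ : φ ∈ LinearMap.range (resHom (E := E) N') := by
    rw [htop]
    trivial
  obtain ⟨ψ, hψ⟩ := hφ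
  exact ⟨ψ, hψ⟩

include htor hess hu hfaith in
theorem injective_of [IsNoetherianRing R] : Module.Injective R E := by
  apply Module.Baer.injective
  intro 𝔞 f
  obtain ⟨n, hn⟩ : ∃ n : ℕ, ∀ a : 𝔞, ∀ r ∈ m ^ n, r • f a = 0 := by
    obtain ⟨t, ht⟩ := (IsNoetherian.noetherian (⊤ : Submodule R 𝔞))
    choose k hk using fun a : 𝔞 => htor (f a)
    refine ⟨t.sup k, fun a r hr => ?_⟩
    have ha : a ∈ Submodule.span R (t : Set 𝔞) := by
      rw [ht]
      trivial
    induction ha using Submodule.span_induction with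
    | mem y hy => exact hk y r (Ideal.pow_le_pow_right (Finset.le_sup hy) hr)
    | zero => rw [map_zero, smul_zero]
    | add y z _ _ hy hz => rw [map_add, smul_add, hy, hz, add_zero]
    | smul a y _ hy => rw [map_smul, smul_comm, hy, smul_zero]
  obtain ⟨k, hk⟩ := Ideal.exists_pow_inf_eq_pow_smul m (𝔞 : Submodule R R)
  obtain ⟨c, hc⟩ : ∃ c : ℕ, c = n + k := ⟨_, rfl⟩
  have hkill : ∀ a : 𝔞, (a : R) ∈ m ^ c → f a = 0 := by
    intro a ha
    have h1 : (a : R) ∈ m ^ c • (⊤ : Submodule R R) ⊓ 𝔞 := by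
      have h0 : m ^ c • (⊤ : Submodule R R) = m ^ c := by rw [smul_eq_mul, Ideal.mul_top]
      rw [h0]
      exact ⟨ha, a.2⟩
    rw [hk c (by omega)] at h1
    have hck : c - k = n := by omega
    rw [hck] at h1
    have key : ∀ y : R, y ∈ m ^ n • (m ^ k • (⊤ : Submodule R R) ⊓ 𝔞) →
        y ∈ 𝔞 ∧ ∀ hy : y ∈ 𝔞, f ⟨y, hy⟩ = 0 := by
      intro y hy
      refine Submodule.smul_induction_on hy (fun s hs b hb => ?_) (fun x y hx hy => ?_)
      · refine ⟨𝔞.smul_mem s hb.2, fun hsb => ?_⟩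
        have : (⟨s • b, hsb⟩ : 𝔞) = s • ⟨b, hb.2⟩ := Subtype.ext rfl
        rw [this, map_smul]
        exact hn _ s hs
      · refine ⟨𝔞.add_mem hx.1 hy.1, fun hxy => ?_⟩
        have : (⟨x + y, hxy⟩ : 𝔞) = ⟨x, hx.1⟩ + ⟨y, hy.1⟩ := Subtype.ext rfl
        rw [this, map_add, hx.2, hy.2, add_zero]
    exact (key _ h1).2 a.2
  obtain ⟨τ, hτ⟩ : ∃ τ : 𝔞 →ₗ[R] (R ⧸ m ^ c), τ = (m ^ c).mkQ ∘ₗ 𝔞.subtype := ⟨_, rfl⟩
  have hτker : LinearMap.ker τ ≤ LinearMap.ker f := by
    intro a ha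
    rw [LinearMap.mem_ker] at ha ⊢
    apply hkill
    rw [hτ, LinearMap.comp_apply, Submodule.mkQ_apply, Submodule.Quotient.mk_eq_zero] at ha
    exact ha
  obtain ⟨fbar, hfbar⟩ : ∃ fbar : LinearMap.range τ →ₗ[R] E,
      ∀ a : 𝔞, fbar ⟨τ a, ⟨a, rfl⟩⟩ = f a := by
    refine ⟨((LinearMap.ker τ).liftQ f hτker) ∘ₗ (LinearMap.quotKerEquivRange τ).symm.toLinearMap,
      fun a => ?_⟩
    have h1 : (LinearMap.quotKerEquivRange τ).symm ⟨τ a, ⟨a, rfl⟩⟩ = Submodule.Quotient.mk a := by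
      rw [LinearEquiv.symm_apply_eq]
      rfl
    rw [LinearMap.comp_apply, LinearEquiv.coe_coe, h1, Submodule.liftQ_apply]
  obtain ⟨ψ, hψ⟩ := restrict_surjective m u htor hess hu hfaith c (LinearMap.range τ) fbar
  refine ⟨ψ ∘ₗ (m ^ c).mkQ, fun x mem => ?_⟩
  have h2 := LinearMap.congr_fun hψ ⟨τ ⟨x, mem⟩, ⟨⟨x, mem⟩, rfl⟩⟩
  rw [hfbar] at h2
  rw [← h2, hτ]
  rfl

end partA


/-! ### Part B -/
section partB

open DirectSum GrLC Groth.Agent.Lib.GrStarH1 Groth.Agent.Lib.GrStar2H1 Groth.Agent.Lib.GrStar3H1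

variable {R : Type u} [CommRing R] (𝒜 : ℤ → AddSubgroup R) [GradedRing 𝒜]
variable {E : Type u} [AddCommGroup E] [Module R E] (𝓔 : ℤ → AddSubgroup E) [Decomposition 𝓔]
  [SetLike.GradedSMul 𝒜 𝓔]

/-- extension of `b ↦ u` to a homogeneous map of degree `-g` -/
theorem exists_ext {B : Type u} [AddCommGroup B] [Module R B] (ℬ : ℤ → AddSubgroup B)
    [Decomposition ℬ] [SetLike.GradedSMul 𝒜 ℬ] (hE : IsStarInj 𝒜 𝓔) {m : Ideal R} {u : E}
    (hu0 : u ∈ 𝓔 0) (hann : ∀ s : R, s • u = 0 ↔ s ∈ m) {g : ℤ} {b : B} (hb : b ∈ ℬ g)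
    (hbm : ∀ s : R, s • b = 0 → s ∈ m) :
    ∃ hh : B →ₗ[R] E, (∀ k x, x ∈ ℬ k → hh x ∈ 𝓔 (k - g)) ∧ hh b = u := by
  obtain ⟨K, hK⟩ : ∃ K : Submodule R R, K = LinearMap.ker (LinearMap.toSpanSingleton R B b) :=
    ⟨_, rfl⟩
  have hKhom : K.IsHomogeneous 𝒜 := by
    intro k s hs
    rw [hK, LinearMap.mem_ker, LinearMap.toSpanSingleton_apply] at hs ⊢
    have h1 := decompose_smul_of_mem 𝒜 ℬ hb s (k + g)
    rw [add_sub_cancel_right, hs, decompose_zero, DirectSum.zero_apply, ZeroMemClass.coe_zero] at h1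
    exact h1.symm
  letI := quotDecomp 𝒜 K hKhom
  letI := quot_gsmul 𝒜 𝒜 K
  letI := shiftDecomp ℬ g
  letI := shift_gsmul 𝒜 ℬ g
  obtain ⟨f, hf⟩ : ∃ f : (R ⧸ K) →ₗ[R] B, ∀ s : R, f (K.mkQ s) = s • b :=
    ⟨K.liftQ (LinearMap.toSpanSingleton R B b) (le_of_eq hK), fun s => by
      rw [Submodule.mkQ_apply, Submodule.liftQ_apply, LinearMap.toSpanSingleton_apply]⟩
  have hfinj : Function.Injective f := by
    rw [injective_iff_map_eq_zero]
    intro q hq
    obtain ⟨s, rfl⟩ := K.mkQ_surjective q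
    rw [hf] at hq
    rw [Submodule.mkQ_apply, Submodule.Quotient.mk_eq_zero, hK, LinearMap.mem_ker,
      LinearMap.toSpanSingleton_apply]
    exact hq
  have hfgr : IsGrHom (quotGr 𝒜 K) (shiftGr ℬ g) f := by
    rintro k _ ⟨s, hs, rfl⟩
    show f (K.mkQ s) ∈ ℬ (g + k)
    rw [hf, add_comm]
    exact smul_mem_gr 𝒜 ℬ hs hb
  obtain ⟨φ, hφ⟩ : ∃ φ : (R ⧸ K) →ₗ[R] E, ∀ s : R, φ (K.mkQ s) = s • u := by
    have hle : K ≤ LinearMap.ker (LinearMap.toSpanSingleton R E u) := by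
      intro s hs
      rw [hK, LinearMap.mem_ker, LinearMap.toSpanSingleton_apply] at hs
      rw [LinearMap.mem_ker, LinearMap.toSpanSingleton_apply, hann]
      exact hbm s hs
    exact ⟨K.liftQ (LinearMap.toSpanSingleton R E u) hle, fun s => by
      rw [Submodule.mkQ_apply, Submodule.liftQ_apply, LinearMap.toSpanSingleton_apply]⟩
  have hφgr : IsGrHom (quotGr 𝒜 K) 𝓔 φ := by
    rintro k _ ⟨s, hs, rfl⟩
    show φ (K.mkQ s) ∈ 𝓔 k
    rw [hφ]
    have h1 := smul_mem_gr 𝒜 𝓔 hs hu0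
    rwa [add_zero] at h1
  obtain ⟨hh, hhgr, hhf⟩ := starInj_ext 𝒜 (quotGr 𝒜 K) (shiftGr ℬ g) hE f hfgr hfinj φ hφgr
  refine ⟨hh, fun k x hx => ?_, ?_⟩
  · have h1 : x ∈ shiftGr ℬ g (k - g) := shift_le ℬ g k hx
    exact hhgr _ x h1
  · have h1 := LinearMap.congr_fun hhf (K.mkQ 1)
    rw [LinearMap.comp_apply, hf, hφ, one_smul, one_smul] at h1
    exact h1

theorem isHomogeneous_pow {I : Ideal R} (hI : I.IsHomogeneous 𝒜) (c : ℕ) :
    (I ^ c).IsHomogeneous 𝒜 := by
  induction c with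
  | zero =>
    rw [pow_zero, Ideal.one_eq_top]
    exact Ideal.IsHomogeneous.top 𝒜
  | succ c ih =>
    rw [pow_succ]
    exact ih.mul hI

theorem exists_dual_elt (hE : IsStarInj 𝒜 𝓔) (m : HomogeneousIdeal 𝒜) [hm : m.toIdeal.IsMaximal]
    {u : E} (hu0 : u ∈ 𝓔 0) (hann : ∀ s : R, s • u = 0 ↔ s ∈ m.toIdeal) (c : ℕ) {g : ℤ} {r : R}
    (hr : r ∈ 𝒜 g) (hrc : r ∉ m.toIdeal ^ c) :
    ∃ x : E, x ∈ 𝓔 (-g) ∧ (∀ s ∈ m.toIdeal ^ c, s • x = 0) ∧ r • x = u := by
  obtain ⟨J, hJ⟩ : ∃ J : Submodule R R, J = m.toIdeal ^ c := ⟨_, rfl⟩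
  have hJhom : J.IsHomogeneous 𝒜 := hJ ▸ isHomogeneous_pow 𝒜 m.isHomogeneous c
  letI := quotDecomp 𝒜 J hJhom
  letI := quot_gsmul 𝒜 𝒜 J
  have hb : J.mkQ r ∈ quotGr 𝒜 J g := mk_mem_quotGr 𝒜 J hr
  have hbm : ∀ s : R, s • J.mkQ r = 0 → s ∈ m.toIdeal := by
    intro s hs
    rw [← map_smul, Submodule.mkQ_apply, Submodule.Quotient.mk_eq_zero, smul_eq_mul, hJ] at hs
    by_contra hsm
    apply hrc
    have htop : Ideal.span {s} ⊔ m.toIdeal = ⊤ := by
      by_contra hne
      have h1 : m.toIdeal = Ideal.span {s} ⊔ m.toIdeal := hm.eq_of_le hne le_sup_right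
      apply hsm
      rw [h1]
      exact Ideal.mem_sup_left (Ideal.subset_span rfl)
    have h2 : (1 : R) ∈ Ideal.span {s} ⊔ m.toIdeal ^ c := by
      rw [Ideal.sup_pow_eq_top htop]
      trivial
    obtain ⟨a, ha, j, hj, haj⟩ := Submodule.mem_sup.1 h2
    obtain ⟨a', rfl⟩ := Ideal.mem_span_singleton'.1 ha
    have h3 : r = a' * (s * r) + j * r := by
      calc r = (a' * s + j) * r := by rw [haj, one_mul]
        _ = a' * (s * r) + j * r := by ring
    rw [h3]
    exact Ideal.add_mem _ (Ideal.mul_mem_left _ _ hs) (Ideal.mul_mem_right _ _ hj)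
  obtain ⟨hh, hdeg, hhb⟩ := exists_ext 𝒜 𝓔 (quotGr 𝒜 J) hE hu0 hann hb hbm
  have h1mem : J.mkQ 1 ∈ quotGr 𝒜 J 0 :=
    mk_mem_quotGr 𝒜 J (show (1 : R) ∈ 𝒜 0 from SetLike.GradedOne.one_mem)
  refine ⟨hh (J.mkQ 1), ?_, fun s hs => ?_, ?_⟩
  · have h2 := hdeg 0 _ h1mem
    rwa [zero_sub] at h2
  · rw [← map_smul, ← map_smul, smul_eq_mul, mul_one]
    have h2 : J.mkQ s = 0 := by
      rw [Submodule.mkQ_apply, Submodule.Quotient.mk_eq_zero, hJ]
      exact hs
    rw [h2, map_zero]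
  · rw [← map_smul, ← map_smul, smul_eq_mul, mul_one]
    exact hhb

theorem faithful (hE : IsStarInj 𝒜 𝓔) (m : HomogeneousIdeal 𝒜) [hm : m.toIdeal.IsMaximal]
    {u : E} (hu0 : u ∈ 𝓔 0) (hune : u ≠ 0) (hann : ∀ s : R, s • u = 0 ↔ s ∈ m.toIdeal) (c : ℕ)
    (r : R) (hrc : r ∉ m.toIdeal ^ c) :
    ∃ x : E, (∀ s ∈ m.toIdeal ^ c, s • x = 0) ∧ r • x ≠ 0 := by
  classical
  obtain ⟨g, hg⟩ : ∃ g, (decompose 𝒜 r g : R) ∉ m.toIdeal ^ c := by
    by_contra hcon
    push_neg at hcon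
    apply hrc
    rw [← DirectSum.sum_support_decompose 𝒜 r]
    exact Ideal.sum_mem _ (fun i _ => hcon i)
  obtain ⟨x, hxdeg, hx, hrx⟩ := exists_dual_elt 𝒜 𝓔 hE m hu0 hann c (decompose 𝒜 r g).2 hg
  refine ⟨x, hx, fun h0 => ?_⟩
  have h1 := decompose_smul_of_mem 𝒜 𝓔 hxdeg r 0
  rw [h0, decompose_zero, DirectSum.zero_apply, ZeroMemClass.coe_zero, zero_sub, neg_neg, hrx] at h1
  exact hune h1.symm

theorem main18637 [IsNoetherianRing R] (m : HomogeneousIdeal 𝒜) [hm : m.toIdeal.IsMaximal]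
    (e : (R ⧸ m.toIdeal) →ₗ[R] E) (he : IsStarInjHull 𝒜 (GrLC.quotGr 𝒜 m) 𝓔 e) :
    InjHull.IsInjectiveHull e := by
  have h := phull_of_hull 𝒜 𝓔 m he
  obtain ⟨u, hu⟩ : ∃ u, u = e (Ideal.Quotient.mk m.toIdeal 1) := ⟨_, rfl⟩
  rw [← hu] at h
  haveI : m.toIdeal.IsPrime := hm.isPrime
  have htor : ∀ x : E, ∃ k : ℕ, ∀ r ∈ m.toIdeal ^ k, r • x = 0 := by
    intro x
    have h1 := main13220_aux 𝒜 𝓔 h
    have hx : x ∈ GrLC.gam m.toIdeal E := by
      rw [h1]
      trivial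
    exact hx
  have hess : ∀ N : Submodule R E, N ≠ ⊥ → ∃ t : R, t • u ∈ N ∧ t • u ≠ 0 :=
    fun N hN => h.exists_mem_span 𝒜 𝓔 hN
  have hu' : ∀ r ∈ m.toIdeal, r • u = 0 := fun r hr => (h.ann r).2 hr
  have hune : u ≠ 0 := h.ne_zero 𝓔 hm.ne_top
  have hfaith := faithful 𝒜 𝓔 he.starInj m h.mem hune h.ann
  refine ⟨⟨he.injective, fun N hN => ?_⟩, injective_of m.toIdeal u htor hess hu' hfaith⟩
  obtain ⟨t, ht, ht0⟩ := hess N hN
  intro hbot
  apply ht0
  have h2 : t • u ∈ N ⊓ LinearMap.range e :=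
    ⟨ht, ⟨t • (Ideal.Quotient.mk m.toIdeal 1), by rw [map_smul, hu]⟩⟩
  rw [hbot] at h2
  simpa using h2

end partB

end Groth.Agent.Lib.MaxHullH1
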