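import Mathlib
import Groth.Prelude.Def_GrLC
import Groth.Prelude.Def_GrLC2
import Groth.Prelude.Def_CAlg
import Groth.Prelude.Def_Wider
import Groth.Agent.Lib.GorTop2_helper1
import Groth.Agent.Lib.MaxHull_helper1
import Groth.Agent.Lib.GrNak_helper1
import Groth.Agent.Lib.GrHDec_helper1
import Groth.Agent.Lib.GrLES3_helper1
import Groth.Agent.Lib.DimFT_helper8
import Groth.Agent.Lib.DimFT2_helper8

/-! Positively graded Noetherian rings over a field: finite type, `dim R = ht R_+`, and the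
Gorenstein criterion `K_R ≅ R(a)` (helper1, S18638). -/

set_option autoImplicit false

namespace Groth.Agent.Lib.GorCanH1

open DirectSum GrLC Groth.Agent.Lib.GrStarH1 Groth.Agent.Lib.GrStar2H1 Groth.Agent.Lib.GrStar3H1
  Groth.Agent.Lib.GrStar4H1 Groth.Agent.Lib.GrLES1H1 Groth.Agent.Lib.GrHDecH1

universe u

variable {R : Type u} [CommRing R] (𝒜 : ℤ → AddSubgroup R) [GradedRing 𝒜]

/-! ### finite type over the degree zero part -/

theorem finiteType_of_pos [IsNoetherianRing R] (hpos : ∀ n : ℤ, n < 0 → 𝒜 n = ⊥) :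
    Algebra.FiniteType ↥(GrLC.deg0 𝒜) R := by
  classical
  obtain ⟨S, hS⟩ : ∃ S : Set R, S = ⋃ n ∈ Set.Ioi (0 : ℤ), (𝒜 n : Set R) := ⟨_, rfl⟩
  have hfg : (Submodule.span R S).FG := IsNoetherian.noetherian _
  obtain ⟨T, hTS, hT⟩ := (Submodule.fg_span_iff_fg_span_finset_subset S).1 hfg
  refine ⟨⟨T, ?_⟩⟩
  obtain ⟨B, hB⟩ : ∃ B : Subalgebra ↥(GrLC.deg0 𝒜) R,
      B = Algebra.adjoin ↥(GrLC.deg0 𝒜) (T : Set R) := ⟨_, rfl⟩
  rw [← hB]
  have hTB : ∀ t ∈ T, t ∈ B := fun t ht => hB ▸ Algebra.subset_adjoin ht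
  have key : ∀ (d : ℕ) (e : ℤ), e < d → ∀ x ∈ 𝒜 e, x ∈ B := by
    intro d
    induction d with
    | zero =>
      intro e he x hx
      rw [hpos e (by simpa using he), AddSubgroup.mem_bot] at hx
      rw [hx]
      exact B.zero_mem
    | succ d ih =>
      intro e he x hx
      by_cases he0 : e ≤ 0
      · rcases lt_or_eq_of_le he0 with h | h
        · rw [hpos e h, AddSubgroup.mem_bot] at hx
          rw [hx]
          exact B.zero_mem
        · subst h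
          exact B.algebraMap_mem ⟨x, hx⟩
      · push_neg at he0
        have hxS : x ∈ Submodule.span R S :=
          Submodule.subset_span (by rw [hS]; exact Set.mem_iUnion₂.2 ⟨e, he0, hx⟩)
        rw [hT] at hxS
        obtain ⟨c, -, hxc⟩ := Submodule.mem_span_finset.1 hxS
        have hx2 : x = ∑ t ∈ T, (decompose 𝒜 (c t • t) e : R) := by
          rw [← GrLaurentH1.coe_decompose_sum, hxc, decompose_of_mem_same 𝒜 hx]
        rw [hx2]
        refine B.sum_mem (fun t ht => ?_)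
        obtain ⟨nt, hnt, htn⟩ := Set.mem_iUnion₂.1 (hS ▸ hTS ht)
        rw [GrStarH1.decompose_smul_of_mem 𝒜 𝒜 htn (c t) e, smul_eq_mul]
        refine B.mul_mem ?_ (hTB t ht)
        apply ih (e - nt) _ _ (decompose 𝒜 (c t) (e - nt)).2
        have h1 : (0 : ℤ) < nt := hnt
        push_cast at he
        linarith
  rw [eq_top_iff]
  intro x _
  rw [← DirectSum.sum_support_decompose 𝒜 x]
  refine B.sum_mem (fun j _ => ?_)
  refine key (j.toNat + 1) j ?_ _ (decompose 𝒜 x j).2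
  have := Int.self_le_toNat j
  push_cast
  linarith

/-! ### minimal primes are homogeneous; the dimension -/

theorem minimalPrimes_isHomogeneous {q : Ideal R} (hq : q ∈ minimalPrimes R) :
    q.IsHomogeneous 𝒜 := by
  have hqp : q.IsPrime := hq.1.1
  have h1 : (q.homogeneousCore 𝒜).toIdeal.IsPrime := Ideal.IsPrime.homogeneousCore hqp
  have h2 : (q.homogeneousCore 𝒜).toIdeal ≤ q := Ideal.toIdeal_homogeneousCore_le 𝒜 q
  have h3 : q ≤ (q.homogeneousCore 𝒜).toIdeal := hq.2 ⟨h1, bot_le⟩ h2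
  have h4 : (q.homogeneousCore 𝒜).toIdeal = q := le_antisymm h2 h3
  rw [← h4]
  exact (q.homogeneousCore 𝒜).isHomogeneous

theorem ringKrullDim_eq_height [IsNoetherianRing R] (hpos : ∀ n : ℤ, n < 0 → 𝒜 n = ⊥)
    (h0 : IsField (GrLC.deg0 𝒜)) (m : HomogeneousIdeal 𝒜) (hm : IsStarLocal 𝒜 m) :
    ringKrullDim R = (m.toIdeal.height : WithBot ℕ∞) := by
  classical
  haveI hmax : m.toIdeal.IsMaximal := isMaximal_of_starLocal 𝒜 hpos m hm
  letI : Field ↥(GrLC.deg0 𝒜) := h0.toField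
  haveI : Algebra.FiniteType ↥(GrLC.deg0 𝒜) R := finiteType_of_pos 𝒜 hpos
  apply le_antisymm
  · rw [ringKrullDim_le_iff_isMaximal_height_le]
    intro M hM
    haveI := hM
    haveI : M.IsPrime := hM.isPrime
    obtain ⟨q, hq, hqM, hht⟩ := Groth.Agent.DimFT2H8.exists_minimalPrimes_height_map_eq M
    haveI hqp : q.IsPrime := hq.1.1
    have hqhom := minimalPrimes_isHomogeneous 𝒜 hq
    have hqm : q ≤ m.toIdeal := by
      obtain ⟨Q, hQ⟩ : ∃ Q : HomogeneousIdeal 𝒜, Q.toIdeal = q := ⟨⟨q, hqhom⟩, rfl⟩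
      have hQtop : Q ≠ ⊤ := by
        intro h
        apply hqp.ne_top
        rw [← hQ, h]
        rfl
      have h1 := Groth.Agent.Lib.GorTop2H1.le_of_starLocal 𝒜 hm Q hQtop
      rw [← hQ]
      exact h1
    haveI : Algebra.FiniteType ↥(GrLC.deg0 𝒜) (R ⧸ q) :=
      Algebra.FiniteType.of_surjective (Ideal.Quotient.mkₐ ↥(GrLC.deg0 𝒜) q)
        (Ideal.Quotient.mkₐ_surjective _ q)
    obtain ⟨d, -, -, -, hd⟩ := Groth.Agent.DimFTH8.exists_dim_eq ↥(GrLC.deg0 𝒜) (R ⧸ q)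
    haveI h1 : (M.map (Ideal.Quotient.mk q)).IsMaximal :=
      Ideal.IsMaximal.map_of_surjective_of_ker_le Ideal.Quotient.mk_surjective
        (by rw [Ideal.mk_ker]; exact hqM)
    haveI h2 : (m.toIdeal.map (Ideal.Quotient.mk q)).IsMaximal :=
      Ideal.IsMaximal.map_of_surjective_of_ker_le Ideal.Quotient.mk_surjective
        (by rw [Ideal.mk_ker]; exact hqm)
    have e1 := hd (M.map (Ideal.Quotient.mk q))
    have e2 := hd (m.toIdeal.map (Ideal.Quotient.mk q))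
    have e3 := Groth.Agent.DimFT2H8.height_map_mk_le q m.toIdeal hqm
    apply WithBot.coe_le_coe.2
    rw [← hht, e1, ← e2]
    exact e3
  · exact Ideal.height_le_ringKrullDim_of_ne_top hmax.ne_top

/-! ### powers of the irrelevant ideal -/

theorem pow_le_tail (hpos : ∀ n : ℤ, n < 0 → 𝒜 n = ⊥) (I : Ideal R)
    (hI : I = Ideal.span (⋃ n ∈ Set.Ioi (0 : ℤ), (𝒜 n : Set R))) (c : ℕ) :
    I ^ c ≤ tail 𝒜 𝒜 hpos (c : ℤ) := by
  induction c with
  | zero =>
    intro x _ j hj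
    exact coe_eq_zero_of_bot 𝒜 (hpos j (by simpa using hj)) _ (decompose 𝒜 x j).2
  | succ c ih =>
    rw [pow_succ, Ideal.mul_le]
    intro r hr s hs
    rw [hI] at hs
    refine Submodule.span_induction
      (p := fun s _ => r * s ∈ tail 𝒜 𝒜 hpos ((c + 1 : ℕ) : ℤ)) ?_ ?_ ?_ ?_ hs
    · intro s hs
      obtain ⟨n, hn, hsn⟩ := Set.mem_iUnion₂.1 hs
      intro j hj
      have e : j = n + (j - n) := by ring
      have hn0 : (0 : ℤ) < n := hn
      rw [mul_comm, ← smul_eq_mul, e, GrStarH1.decompose_smul_homog 𝒜 𝒜 hsn,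
        ih hr (j - n) (by push_cast at hj; omega), smul_zero]
    · rw [mul_zero]
      exact Submodule.zero_mem _
    · intro s s' _ _ h h'
      rw [mul_add]
      exact Submodule.add_mem _ h h'
    · intro t s _ h
      rw [smul_eq_mul, mul_left_comm]
      exact Submodule.smul_mem _ t h

theorem eq_zero_of_forall_mem_pow (hpos : ∀ n : ℤ, n < 0 → 𝒜 n = ⊥) (I : Ideal R)
    (hI : I = Ideal.span (⋃ n ∈ Set.Ioi (0 : ℤ), (𝒜 n : Set R))) (r : R)
    (h : ∀ c : ℕ, r ∈ I ^ c) : r = 0 := by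
  classical
  rw [← DirectSum.sum_support_decompose 𝒜 r]
  refine Finset.sum_eq_zero (fun j _ => ?_)
  have h1 := pow_le_tail 𝒜 hpos I hI (j.toNat + 1) (h (j.toNat + 1))
  refine h1 j ?_
  have := Int.self_le_toNat j
  push_cast
  linarith

/-! ### inverse of a bijective homogeneous map -/

section inv

variable {ι : Type} [AddCommGroup ι] [DecidableEq ι]
variable {M : Type u} [AddCommGroup M] [Module R M] (ℳ : ι → AddSubgroup M) [Decomposition ℳ]
variable {N : Type u} [AddCommGroup N] [Module R N] (𝒩 : ι → AddSubgroup N) [Decomposition 𝒩]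

theorem mem_of_map_mem_deg {f : M →ₗ[R] N} {d : ι} (hf : IsGrHomDeg ℳ 𝒩 f d)
    (hinj : Function.Injective f) {y : M} {k : ι} (h : f y ∈ 𝒩 k) : y ∈ ℳ (k - d) := by
  have h1 := GrStarH1.decompose_map_deg ℳ 𝒩 hf y (k - d)
  have h' : f y ∈ 𝒩 (k - d + d) := by
    rw [sub_add_cancel]
    exact h
  rw [decompose_of_mem_same 𝒩 h'] at h1
  rw [hinj h1]
  exact (decompose ℳ y (k - d)).2

end inv

/-! ### `Hom(C, E) ≅ E` for `C ≅ R` -/

section theta

variable {C : Type u} [AddCommGroup C] [Module R C] {E' : Type u} [AddCommGroup E'] [Module R E']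

noncomputable def thetaEquiv (F : R ≃ₗ[R] C) : E' ≃ₗ[R] (C →ₗ[R] E') where
  toFun y := (LinearMap.toSpanSingleton R E' y) ∘ₗ F.symm.toLinearMap
  map_add' y y' := by
    ext c
    simp only [LinearMap.comp_apply, LinearMap.add_apply, LinearMap.toSpanSingleton_apply,
      LinearEquiv.coe_coe, smul_add]
  map_smul' r y := by
    ext c
    simp only [LinearMap.comp_apply, LinearMap.smul_apply, LinearMap.toSpanSingleton_apply,
      LinearEquiv.coe_coe, RingHom.id_apply]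
    rw [smul_comm]
  invFun α := α (F 1)
  left_inv y := by
    simp only [LinearMap.comp_apply, LinearMap.toSpanSingleton_apply, LinearEquiv.coe_coe,
      LinearEquiv.symm_apply_apply, one_smul]
  right_inv α := by
    ext c
    simp only [LinearMap.comp_apply, LinearMap.toSpanSingleton_apply, LinearEquiv.coe_coe]
    rw [← map_smul, ← map_smul, smul_eq_mul, mul_one, LinearEquiv.apply_symm_apply]

theorem thetaEquiv_apply (F : R ≃ₗ[R] C) (y : E') (c : C) :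
    thetaEquiv (E' := E') F y c = F.symm c • y := rfl

end theta

/-! ### the two directions -/

variable {E' : Type u} [AddCommGroup E'] [Module R E'] (𝓔 : ℤ → AddSubgroup E')
  [Decomposition 𝓔] [SetLike.GradedSMul 𝒜 𝓔]
variable {C : Type u} [AddCommGroup C] [Module R C] (𝒞 : ℤ → AddSubgroup C)
  [Decomposition 𝒞] [SetLike.GradedSMul 𝒜 𝒞]

theorem forward [IsNoetherianRing R] (hpos : ∀ n : ℤ, n < 0 → 𝒜 n = ⊥) (m : HomogeneousIdeal 𝒜)
    [hmax : m.toIdeal.IsMaximal]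
    (hmsp : m.toIdeal = Ideal.span (⋃ n ∈ Set.Ioi (0 : ℤ), (𝒜 n : Set R)))
    (e : (R ⧸ m.toIdeal) →ₗ[R] E') (he : IsStarInjHull 𝒜 (GrLC.quotGr 𝒜 m) 𝓔 e)
    [Module.Finite R C] (Ψ : (C →ₗ[R] E') ≃ₗ[R] E') :
    ∃ (a : ℤ) (f : R →ₗ[R] C), Function.Bijective f ∧ IsGrHomDeg 𝒜 𝒞 f a := by
  classical
  have hinj : Module.Injective R E' :=
    (Groth.Agent.Lib.MaxHullH1.main18637 𝒜 𝓔 m e he).isInjective
  have hph := phull_of_hull 𝒜 𝓔 m he
  obtain ⟨u, hu⟩ : ∃ u, u = e (Ideal.Quotient.mk m.toIdeal 1) := ⟨_, rfl⟩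
  rw [← hu] at hph
  haveI : m.toIdeal.IsPrime := hmax.isPrime
  have hune : u ≠ 0 := hph.ne_zero 𝓔 hmax.ne_top
  have hess : ∀ N : Submodule R E', N ≠ ⊥ → ∃ t : R, t • u ∈ N ∧ t • u ≠ 0 :=
    fun N hN => hph.exists_mem_span 𝒜 𝓔 hN
  have hu' : ∀ r ∈ m.toIdeal, r • u = 0 := fun r hr => (hph.ann r).2 hr
  obtain ⟨α₀, hα₀⟩ : ∃ α₀, α₀ = Ψ.symm u := ⟨_, rfl⟩
  have hα₀m : ∀ r ∈ m.toIdeal, r • α₀ = 0 := by
    intro r hr
    rw [hα₀, ← map_smul, hu' r hr, map_zero]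
  have hα₀ne : α₀ ≠ 0 := by
    intro h
    apply hune
    have h1 : Ψ α₀ = u := by rw [hα₀, LinearEquiv.apply_symm_apply]
    rw [← h1, h, map_zero]
  have hsoc : ∀ α : C →ₗ[R] E', (∀ r ∈ m.toIdeal, r • α = 0) → ∃ t : R, α = t • α₀ := by
    intro α hα
    have h1 : ∀ r ∈ m.toIdeal, r • Ψ α = 0 := fun r hr => by rw [← map_smul, hα r hr, map_zero]
    have h2 := Groth.Agent.Lib.MaxHullH1.socle m.toIdeal u hess hu' (Ψ α) h1
    obtain ⟨t, ht⟩ := Submodule.mem_span_singleton.1 h2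
    refine ⟨t, ?_⟩
    apply Ψ.injective
    rw [map_smul, hα₀, LinearEquiv.apply_symm_apply, ht]
  obtain ⟨c, hc⟩ : ∃ c, α₀ c ≠ 0 := by
    by_contra h
    push_neg at h
    exact hα₀ne (LinearMap.ext h)
  obtain ⟨j, hj⟩ : ∃ j, α₀ (decompose 𝒞 c j : C) ≠ 0 := by
    by_contra h
    push_neg at h
    apply hc
    rw [← DirectSum.sum_support_decompose 𝒞 c, map_sum]
    exact Finset.sum_eq_zero (fun i _ => h i)
  obtain ⟨c₀, hc₀⟩ : ∃ c₀ : C, c₀ = (decompose 𝒞 c j : C) := ⟨_, rfl⟩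
  have hc₀mem : c₀ ∈ 𝒞 j := hc₀ ▸ (decompose 𝒞 c j).2
  rw [← hc₀] at hj
  obtain ⟨w, hw⟩ : ∃ w, w = α₀ c₀ := ⟨_, rfl⟩
  have hwm : ∀ r ∈ m.toIdeal, r • w = 0 := by
    intro r hr
    rw [hw, ← LinearMap.smul_apply, hα₀m r hr, LinearMap.zero_apply]
  obtain ⟨T, hT⟩ : ∃ T : Submodule R C, T = Submodule.span R {c₀} := ⟨_, rfl⟩
  have hThom : T.IsHomogeneous 𝒞 := hT ▸ GrStarH1.span_singleton_isHomogeneous 𝒜 𝒞 hc₀mem
  obtain ⟨N, hN⟩ : ∃ N : Submodule R C, N = T ⊔ m.toIdeal • (⊤ : Submodule R C) := ⟨_, rfl⟩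
  have hNtop : N = ⊤ := by
    by_contra hne
    obtain ⟨v, hv⟩ : ∃ v : C, v ∉ N := by
      by_contra h
      push_neg at h
      exact hne (eq_top_iff.2 (fun x _ => h x))
    obtain ⟨ι₀, hι₀⟩ : ∃ ι₀ : R →ₗ[R] C ⧸ N,
        ι₀ = LinearMap.toSpanSingleton R (C ⧸ N) (N.mkQ v) := ⟨_, rfl⟩
    have hmC : ∀ r ∈ m.toIdeal, ∀ x : C, r • x ∈ N := fun r hr x => by
      rw [hN]
      exact Submodule.mem_sup_right (Submodule.smul_mem_smul hr Submodule.mem_top)
    have hker : LinearMap.ker ι₀ = m.toIdeal := by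
      have hle : m.toIdeal ≤ LinearMap.ker ι₀ := by
        intro r hr
        rw [LinearMap.mem_ker, hι₀, LinearMap.toSpanSingleton_apply, ← map_smul,
          Submodule.mkQ_apply, Submodule.Quotient.mk_eq_zero]
        exact hmC r hr v
      have hne' : LinearMap.ker ι₀ ≠ ⊤ := by
        intro h
        have h1 : (1 : R) ∈ LinearMap.ker ι₀ := by
          rw [h]
          trivial
        rw [LinearMap.mem_ker, hι₀, LinearMap.toSpanSingleton_apply, one_smul,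
          Submodule.mkQ_apply, Submodule.Quotient.mk_eq_zero] at h1
        exact hv h1
      exact (hmax.eq_of_le hne' hle).symm
    obtain ⟨j', hj'⟩ : ∃ j' : (R ⧸ m.toIdeal) →ₗ[R] C ⧸ N,
        ∀ r : R, j' (Ideal.Quotient.mk m.toIdeal r) = ι₀ r :=
      ⟨Submodule.liftQ m.toIdeal ι₀ hker.ge, fun r => rfl⟩
    have hj'inj : Function.Injective j' := by
      rw [← LinearMap.ker_eq_bot, eq_bot_iff]
      intro x hx
      obtain ⟨r, rfl⟩ := Ideal.Quotient.mk_surjective x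
      rw [LinearMap.mem_ker, hj'] at hx
      have hr : r ∈ m.toIdeal := by
        rw [← hker]
        exact hx
      rw [Submodule.mem_bot]
      exact Ideal.Quotient.eq_zero_iff_mem.2 hr
    obtain ⟨β', hβ'⟩ := hinj.out j' hj'inj e
    obtain ⟨β, hβ⟩ : ∃ β : C →ₗ[R] E', β = β' ∘ₗ N.mkQ := ⟨_, rfl⟩
    have hβv : β v = u := by
      rw [hβ, LinearMap.comp_apply, hu, ← hβ', hj', hι₀, LinearMap.toSpanSingleton_apply,
        one_smul]
    have hβN : ∀ x ∈ N, β x = 0 := by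
      intro x hx
      rw [hβ, LinearMap.comp_apply, Submodule.mkQ_apply, (Submodule.Quotient.mk_eq_zero N).2 hx,
        map_zero]
    have hβm : ∀ r ∈ m.toIdeal, r • β = 0 := by
      intro r hr
      ext x
      rw [LinearMap.smul_apply, ← map_smul, hβN _ (hmC r hr x), LinearMap.zero_apply]
    obtain ⟨t, ht⟩ := hsoc β hβm
    have hc₀N : c₀ ∈ N := by
      rw [hN, hT]
      exact Submodule.mem_sup_left (Submodule.mem_span_singleton_self c₀)
    have h0 : t • w = 0 := by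
      rw [hw, ← LinearMap.smul_apply, ← ht]
      exact hβN c₀ hc₀N
    have htm : t ∈ m.toIdeal := by
      by_contra htm
      obtain ⟨s, i, hi, hsi⟩ := hmax.exists_inv htm
      apply hj
      rw [← hw]
      calc w = (s * t + i) • w := by rw [hsi, one_smul]
        _ = s • (t • w) + i • w := by rw [add_smul, mul_smul]
        _ = 0 := by rw [h0, smul_zero, hwm i hi, add_zero]
    apply hune
    rw [← hβv, ht, hα₀m t htm, LinearMap.zero_apply]
  have hTtop : T = ⊤ := by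
    apply Groth.Agent.Lib.GrNakH1.eq_top_of_sup_smul 𝒜 𝒞 hpos m.toIdeal hmsp T hThom
    intro y
    have hy : y ∈ T ⊔ m.toIdeal • (⊤ : Submodule R C) := by
      rw [← hN, hNtop]
      trivial
    obtain ⟨t, ht, z, hz, htz⟩ := Submodule.mem_sup.1 hy
    refine ⟨z, hz, ?_⟩
    rw [← htz, add_sub_cancel_right]
    exact ht
  refine ⟨j, LinearMap.toSpanSingleton R C c₀, ⟨?_, ?_⟩, ?_⟩
  · rw [← LinearMap.ker_eq_bot, eq_bot_iff]
    intro r hr
    rw [LinearMap.mem_ker, LinearMap.toSpanSingleton_apply] at hr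
    have hrC : ∀ x : C, r • x = 0 := by
      intro x
      have hx : x ∈ Submodule.span R {c₀} := by
        rw [← hT, hTtop]
        trivial
      obtain ⟨s, rfl⟩ := Submodule.mem_span_singleton.1 hx
      rw [smul_comm, hr, smul_zero]
    have hrE : ∀ y : E', r • y = 0 := by
      intro y
      have h1 : r • Ψ.symm y = 0 := by
        ext x
        rw [LinearMap.smul_apply, ← map_smul, hrC, map_zero, LinearMap.zero_apply]
      rw [← Ψ.apply_symm_apply y, ← map_smul, h1, map_zero]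
    rw [Submodule.mem_bot]
    apply eq_zero_of_forall_mem_pow 𝒜 hpos m.toIdeal hmsp r
    intro k
    by_contra hrk
    obtain ⟨x, -, hx⟩ := Groth.Agent.Lib.MaxHullH1.faithful 𝒜 𝓔 he.starInj m hph.mem hune
      hph.ann k r hrk
    exact hx (hrE x)
  · rw [← LinearMap.range_eq_top, ← LinearMap.span_singleton_eq_range, ← hT, hTtop]
  · intro g r hr
    rw [LinearMap.toSpanSingleton_apply]
    exact GrStarH1.smul_mem_gr 𝒜 𝒞 hr hc₀mem

theorem backward [hCM : LocCoh.IsCohenMacaulayRing R] (m : HomogeneousIdeal 𝒜)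
    (hm : IsStarLocal 𝒜 m) (n : ℕ) (hn : m.toIdeal.height = n) (I : StarInjRes 𝒜 𝒜)
    (hE : IsStarInj 𝒜 𝓔)
    (φ : (C →ₗ[R] E') ≃ₗ[R] I.H m n)
    (hφ : IsGrHom (fun d => (homDeg 𝒜 𝒞 𝓔 d).toAddSubgroup) (I.Hgr m n) φ.toLinearMap)
    (a : ℤ) (f : R →ₗ[R] C) (hf : Function.Bijective f) (hfa : IsGrHomDeg 𝒜 𝒞 f a) :
    LocCoh.IsGorensteinRing R := by
  classical
  obtain ⟨F, hF⟩ : ∃ F : R ≃ₗ[R] C, ∀ r, F r = f r :=
    ⟨LinearEquiv.ofBijective f hf, fun r => rfl⟩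
  have hFsymm : ∀ (h : ℤ) (c : C), c ∈ 𝒞 h → F.symm c ∈ 𝒜 (h - a) := by
    intro h c hc
    apply mem_of_map_mem_deg 𝒜 𝒞 hfa hf.1
    rw [← hF, LinearEquiv.apply_symm_apply]
    exact hc
  obtain ⟨Θ, hΘ⟩ : ∃ Θ : E' ≃ₗ[R] (C →ₗ[R] E'), ∀ y c, Θ y c = F.symm c • y :=
    ⟨thetaEquiv F, fun y c => rfl⟩
  letI : Decomposition (I.Hgr m n) := (main13225 𝒜 𝒜 m I n).chooseDecomposition
  obtain ⟨Φ, hΦ⟩ : ∃ Φ : E' ≃ₗ[R] I.H m n, Φ = Θ.trans φ := ⟨_, rfl⟩
  have hΦdeg : IsGrHomDeg 𝓔 (I.Hgr m n) Φ.toLinearMap (-a) := by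
    intro g y hy
    have h1 : Θ y ∈ (homDeg 𝒜 𝒞 𝓔 (g + -a)).toAddSubgroup := by
      change IsGrHomDeg 𝒞 𝓔 (Θ y) (g + -a)
      intro h c hc
      rw [hΘ]
      have h2 := GrStarH1.smul_mem_gr 𝒜 𝓔 (hFsymm h c hc) hy
      exact mem_congr 𝓔 (by ring) h2
    rw [hΦ]
    exact hφ (g + -a) (Θ y) h1
  refine (Groth.Agent.Lib.GorTop2H1.main18650 R 𝒜 m hm n hn I).2
    ⟨Groth.Agent.Lib.GrLES3H1.shiftGMod 𝒜 (GMod.of 𝒜 E' 𝓔) a, Φ.symm, ?_, ?_⟩
  · exact Groth.Agent.Lib.GrLES3H1.shift_starInj 𝒜 𝓔 hE a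
  · intro k x hx
    have h2 : Φ.toLinearMap (Φ.symm x) ∈ I.Hgr m n k := by
      change Φ (Φ.symm x) ∈ _
      rw [LinearEquiv.apply_symm_apply]
      exact hx
    have h3 := mem_of_map_mem_deg 𝓔 (I.Hgr m n) hΦdeg Φ.injective h2
    exact mem_congr 𝓔 (by ring) h3

theorem main18638 (R : Type u) [CommRing R] [hCM : LocCoh.IsCohenMacaulayRing R]
    (𝒜 : ℤ → AddSubgroup R) [GradedRing 𝒜] (hpos : ∀ n : ℤ, n < 0 → 𝒜 n = ⊥)
    (h0 : IsField (GrLC.deg0 𝒜)) (m : HomogeneousIdeal 𝒜) (hm : GrLC.IsStarLocal 𝒜 m)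
    (hmsp : m.toIdeal = Ideal.span (⋃ n ∈ Set.Ioi (0 : ℤ), (𝒜 n : Set R))) (n : ℕ)
    (hn : ringKrullDim R = n) (I : GrLC.StarInjRes 𝒜 𝒜) (E' : Type u) [AddCommGroup E']
    [Module R E'] (𝓔 : ℤ → AddSubgroup E') [DirectSum.Decomposition 𝓔]
    [SetLike.GradedSMul 𝒜 𝓔] (e : (R ⧸ m.toIdeal) →ₗ[R] E')
    (he : GrLC.IsStarInjHull 𝒜 (GrLC.quotGr 𝒜 m) 𝓔 e) (C : Type u) [AddCommGroup C]
    [Module R C] (𝒞 : ℤ → AddSubgroup C) [DirectSum.Decomposition 𝒞] [SetLike.GradedSMul 𝒜 𝒞]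
    (hC : GrLC.IsStarCanonical 𝒜 𝒞 𝓔 m n I) :
    LocCoh.IsGorensteinRing R ↔
      ∃ (a : ℤ) (f : R →ₗ[R] C), Function.Bijective f ∧ GrLC.IsGrHomDeg 𝒜 𝒞 f a := by
  haveI : IsNoetherianRing R := hCM.toIsNoetherian
  haveI hmax : m.toIdeal.IsMaximal := isMaximal_of_starLocal 𝒜 hpos m hm
  have hht : m.toIdeal.height = n := by
    have h1 := ringKrullDim_eq_height 𝒜 hpos h0 m hm
    rw [hn] at h1
    exact (WithBot.coe_injective h1).symm
  obtain ⟨hfin, φ, hφ⟩ := hC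
  constructor
  · intro hG
    haveI := hG
    obtain ⟨g, φ₁, -⟩ := Groth.Agent.Lib.GorTopH1.main13244 R 𝒜 m hm n hht I E' 𝓔 e he
    exact forward 𝒜 𝓔 𝒞 hpos m hmsp e he (φ.trans φ₁)
  · rintro ⟨a, f, hf, hfa⟩
    exact backward 𝒜 𝓔 𝒞 m hm n hht I he.starInj φ hφ a f hf hfa

end Groth.Agent.Lib.GorCanH1
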