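import Mathlib
import Groth.Prelude.Def_GrLC
import Groth.Prelude.Def_Wider
import Groth.Agent.Lib.GrLES3_helper1
import Groth.Agent.Lib.GrNak_helper1
import Groth.Agent.Lib.LocCohAra_helper7

/-! Finiteness and vanishing of the pieces of graded local cohomology with respect to the
irrelevant ideal (S13226, S13227) (helper1). -/

set_option autoImplicit false

namespace Groth.Agent.Lib.GrLES4H1

open DirectSum GrLC Groth.Agent.Lib.GrStarH1 Groth.Agent.Lib.GrStar2H1 Groth.Agent.Lib.GrStar3H1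
  Groth.Agent.Lib.GrStar4H1 Groth.Agent.Lib.GrLES1H1 Groth.Agent.Lib.GrLES2H1
  Groth.Agent.Lib.GrLES3H1 Groth.Agent.Lib.GrHDecH1

universe u

/-! ### finitely generated submodules over a Noetherian ring -/
section fg

variable {S₀ : Type*} [CommRing S₀] [IsNoetherianRing S₀]
variable {X Y Z : Type*} [AddCommGroup X] [Module S₀ X] [AddCommGroup Y] [Module S₀ Y]
  [AddCommGroup Z] [Module S₀ Z]

theorem fg_of_le {N N' : Submodule S₀ X} (hN : N.FG) (h : N' ≤ N) : N'.FG := by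
  haveI : Module.Finite S₀ N := Module.Finite.iff_fg.2 hN
  haveI : IsNoetherian S₀ N := isNoetherian_of_isNoetherianRing_of_finite S₀ N
  have h1 := IsNoetherian.noetherian (Submodule.comap N.subtype N')
  have h2 := h1.map N.subtype
  rwa [Submodule.map_comap_subtype, inf_eq_right.2 h] at h2

theorem fg_mid (f : X →ₗ[S₀] Y) (g : Y →ₗ[S₀] Z) (P : Submodule S₀ X) (Q : Submodule S₀ Y)
    (T : Submodule S₀ Z) (hP : P.FG) (hT : T.FG) (hg : ∀ y ∈ Q, g y ∈ T)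
    (hex : ∀ y ∈ Q, g y = 0 → ∃ x ∈ P, f x = y) : Q.FG := by
  apply Submodule.fg_of_fg_map_of_fg_inf_ker g
  · apply fg_of_le hT
    rintro _ ⟨y, hy, rfl⟩
    exact hg y hy
  · apply fg_of_le (hP.map f)
    rintro y ⟨hy, hgy⟩
    obtain ⟨x, hx, rfl⟩ := hex y hy hgy
    exact ⟨x, hx, rfl⟩

theorem fg_of_injOn (g : Y →ₗ[S₀] Z) (Q : Submodule S₀ Y) (T : Submodule S₀ Z) (hT : T.FG)
    (hg : ∀ y ∈ Q, g y ∈ T) (hinj : ∀ y ∈ Q, g y = 0 → y = 0) : Q.FG := by
  apply Submodule.fg_of_fg_map_of_fg_inf_ker g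
  · apply fg_of_le hT
    rintro _ ⟨y, hy, rfl⟩
    exact hg y hy
  · have : Q ⊓ LinearMap.ker g = ⊥ := by
      rw [eq_bot_iff]
      rintro y ⟨hy, hgy⟩
      exact (Submodule.mem_bot _).2 (hinj y hy hgy)
    rw [this]
    exact Submodule.fg_bot

end fg

section general

variable {ι : Type} [AddCommGroup ι] [DecidableEq ι]
variable {R : Type u} [CommRing R] (𝒜 : ι → AddSubgroup R) [GradedRing 𝒜]
variable {X : Type u} [AddCommGroup X] [Module R X] (𝒳 : ι → AddSubgroup X) [Decomposition 𝒳]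
  [SetLike.GradedSMul 𝒜 𝒳]

theorem range_lsmul_isHomogeneous {x : R} {t : ι} (hx : x ∈ 𝒜 t) :
    (LinearMap.range (LinearMap.lsmul R X x)).IsHomogeneous 𝒳 := by
  rintro j _ ⟨m, rfl⟩
  refine ⟨(decompose 𝒳 m (j - t) : X), ?_⟩
  have := decompose_smul_homog 𝒜 𝒳 hx m (j - t)
  rw [add_sub_cancel] at this
  exact this.symm

omit [DecidableEq ι] [AddCommGroup ι] in
/-- `Γ_I(M / Γ_I(M)) = 0` -/
theorem gam_quot_eq_bot [IsNoetherianRing R] (I : Ideal R) (M : Type u) [AddCommGroup M]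
    [Module R M] : gam I (M ⧸ gam I M) = ⊥ := by
  classical
  rw [eq_bot_iff]
  intro xb hxb
  obtain ⟨x, rfl⟩ := Submodule.mkQ_surjective _ xb
  obtain ⟨n, hn⟩ := hxb
  have hmem : ∀ c ∈ I ^ n, c • x ∈ gam I M := by
    intro c hc
    have := hn c hc
    rw [← map_smul, Submodule.mkQ_apply, Submodule.Quotient.mk_eq_zero] at this
    exact this
  obtain ⟨S, hS⟩ := (IsNoetherian.noetherian (I ^ n) : (I ^ n).FG)
  have hS' : ∀ s ∈ S, s ∈ I ^ n := fun s hs => by rw [← hS]; exact Submodule.subset_span hs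
  have hmem' : ∀ s ∈ S, ∃ k : ℕ, ∀ r ∈ I ^ k, r • s • x = 0 := fun s hs => hmem s (hS' s hs)
  choose! k hk using hmem'
  have key : ∀ c ∈ I ^ n, ∀ b ∈ I ^ (S.sup k), b • c • x = 0 := by
    intro c hc
    rw [← hS] at hc
    refine Submodule.span_induction (p := fun c _ => ∀ b ∈ I ^ (S.sup k), b • c • x = 0)
      ?_ ?_ ?_ ?_ hc
    · intro s hs b hb
      exact hk s hs b (Ideal.pow_le_pow_right (Finset.le_sup hs) hb)
    · intro b _
      rw [zero_smul, smul_zero]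
    · intro c c' _ _ hc hc' b hb
      rw [add_smul, smul_add, hc b hb, hc' b hb, add_zero]
    · intro d c _ hc b hb
      rw [smul_eq_mul, mul_smul, smul_comm b d, hc b hb, smul_zero]
  have hx : x ∈ gam I M := by
    refine ⟨S.sup k + n, fun r hr => ?_⟩
    rw [pow_add] at hr
    refine Submodule.mul_induction_on hr ?_ ?_
    · intro b hb c hc
      rw [mul_smul]
      exact key c hc b hb
    · intro r r' hr hr'
      rw [add_smul, hr, hr', add_zero]
  rw [Submodule.mem_bot, Submodule.mkQ_apply, Submodule.Quotient.mk_eq_zero]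
  exact hx

end general

/-! ### homogeneous prime avoidance -/
section hpa

variable {R : Type u} [CommRing R] (𝒜 : ℤ → AddSubgroup R) [GradedRing 𝒜]

theorem hpa (I : Ideal R) :
    ∀ S : Finset (Ideal R), (∀ Q ∈ S, Q.IsPrime) →
      (∀ Q ∈ S, ∃ t : ℤ, 0 < t ∧ ∃ y ∈ 𝒜 t, y ∈ I ∧ y ∉ Q) →
      ∃ t : ℤ, 0 < t ∧ ∃ x ∈ 𝒜 t, x ∈ I ∧ ∀ Q ∈ S, x ∉ Q := by
  classical
  intro S
  induction S using Finset.strongInduction with
  | H S ih =>
    intro hS h
    have key : ∀ Q ∈ S, ∃ t : ℤ, 0 < t ∧ ∃ x ∈ 𝒜 t, x ∈ I ∧ ∀ Q' ∈ S.erase Q, x ∉ Q' :=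
      fun Q hQ => ih (S.erase Q) (Finset.erase_ssubset hQ)
        (fun Q' h' => hS Q' (Finset.mem_of_mem_erase h'))
        (fun Q' h' => h Q' (Finset.mem_of_mem_erase h'))
    choose t ht x hx hxI hxav using key
    by_cases hgood : ∃ Q, ∃ hQ : Q ∈ S, x Q hQ ∉ Q
    · obtain ⟨Q, hQ, hn⟩ := hgood
      refine ⟨t Q hQ, ht Q hQ, x Q hQ, hx Q hQ, hxI Q hQ, fun Q' hQ' => ?_⟩
      by_cases e : Q' = Q
      · rw [e]
        exact hn
      · exact hxav Q hQ Q' (Finset.mem_erase.2 ⟨e, hQ'⟩)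
    · push_neg at hgood
      rcases S.eq_empty_or_nonempty with hemp | ⟨Q₁, hQ₁⟩
      · refine ⟨1, one_pos, 0, zero_mem _, zero_mem _, fun Q hQ => ?_⟩
        rw [hemp] at hQ
        exact absurd hQ (Finset.notMem_empty _)
      by_cases hS1 : S.erase Q₁ = ∅
      · obtain ⟨t₀, ht₀, y, hy, hyI, hyQ⟩ := h Q₁ hQ₁
        refine ⟨t₀, ht₀, y, hy, hyI, fun Q hQ => ?_⟩
        have : Q = Q₁ := by
          by_contra hne
          have hmem : Q ∈ S.erase Q₁ := Finset.mem_erase.2 ⟨hne, hQ⟩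
          rw [hS1] at hmem
          exact absurd hmem (Finset.notMem_empty _)
        rw [this]
        exact hyQ
      · have hne : (S.erase Q₁).Nonempty := Finset.nonempty_iff_ne_empty.2 hS1
        have hmem : ∀ Q : {Q // Q ∈ S.erase Q₁}, Q.1 ∈ S := fun Q => Finset.mem_of_mem_erase Q.2
        obtain ⟨w, hwdef⟩ : ∃ w : R, w = ∏ Q ∈ (S.erase Q₁).attach, x Q.1 (hmem Q) := ⟨_, rfl⟩
        obtain ⟨tw, htwdef⟩ : ∃ tw : ℤ, tw = ∑ Q ∈ (S.erase Q₁).attach, t Q.1 (hmem Q) := ⟨_, rfl⟩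
        have htw : 0 < tw := by
          rw [htwdef]
          exact Finset.sum_pos (fun Q _ => ht Q.1 (hmem Q)) (Finset.attach_nonempty_iff.2 hne)
        have hw : w ∈ 𝒜 tw := by
          rw [hwdef, htwdef]
          exact SetLike.prod_mem_graded 𝒜 (fun Q : {Q // Q ∈ S.erase Q₁} => t Q.1 (hmem Q))
            (fun Q => x Q.1 (hmem Q)) (fun Q _ => hx Q.1 (hmem Q))
        obtain ⟨Q₂, hQ₂⟩ := hne
        have hwI : w ∈ I := by
          rw [hwdef]
          exact Ideal.prod_mem I (Finset.mem_attach _ ⟨Q₂, hQ₂⟩) (hxI Q₂ (hmem ⟨Q₂, hQ₂⟩))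
        have hwQ₁ : w ∉ Q₁ := by
          haveI := hS Q₁ hQ₁
          intro hc
          rw [hwdef] at hc
          obtain ⟨Q, _, hQc⟩ := (Ideal.IsPrime.prod_mem_iff).1 hc
          have h1 : Q₁ ∈ S.erase Q.1 :=
            Finset.mem_erase.2 ⟨fun e => (Finset.mem_erase.1 Q.2).1 e.symm, hQ₁⟩
          exact hxav Q.1 (hmem Q) Q₁ h1 hQc
        have hwQ : ∀ Q ∈ S.erase Q₁, w ∈ Q := fun Q hQ => by
          rw [hwdef]
          exact Ideal.prod_mem Q (Finset.mem_attach _ ⟨Q, hQ⟩) (hgood Q (hmem ⟨Q, hQ⟩))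
        have ht₁ : 0 < t Q₁ hQ₁ := ht Q₁ hQ₁
        have hx₁Q₁ : x Q₁ hQ₁ ∈ Q₁ := hgood Q₁ hQ₁
        have hx₁Q : ∀ Q ∈ S.erase Q₁, x Q₁ hQ₁ ∉ Q := fun Q hQ => hxav Q₁ hQ₁ Q hQ
        obtain ⟨p, hp⟩ : ∃ p : ℕ, (p : ℤ) = tw := ⟨tw.toNat, Int.toNat_of_nonneg htw.le⟩
        obtain ⟨q, hq⟩ : ∃ q : ℕ, (q : ℤ) = t Q₁ hQ₁ :=
          ⟨(t Q₁ hQ₁).toNat, Int.toNat_of_nonneg ht₁.le⟩
        have hp0 : 0 < p := by omega
        have hq0 : 0 < q := by omega
        have h1 : x Q₁ hQ₁ ^ p ∈ 𝒜 (tw * t Q₁ hQ₁) := by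
          have := SetLike.pow_mem_graded p (hx Q₁ hQ₁)
          rwa [nsmul_eq_mul, hp] at this
        have h2 : w ^ q ∈ 𝒜 (tw * t Q₁ hQ₁) := by
          have := SetLike.pow_mem_graded q hw
          rwa [nsmul_eq_mul, hq, mul_comm] at this
        refine ⟨tw * t Q₁ hQ₁, mul_pos htw ht₁, x Q₁ hQ₁ ^ p + w ^ q, add_mem h1 h2,
          I.add_mem (Ideal.pow_mem_of_mem I (hxI Q₁ hQ₁) p hp0) (Ideal.pow_mem_of_mem I hwI q hq0),
          fun Q hQ => ?_⟩
        by_cases e : Q = Q₁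
        · rw [e]
          intro hc
          have h3 : w ^ q ∈ Q₁ := by
            have := Q₁.sub_mem hc (Ideal.pow_mem_of_mem Q₁ hx₁Q₁ p hp0)
            rwa [add_sub_cancel_left] at this
          exact hwQ₁ ((hS Q₁ hQ₁).mem_of_pow_mem q h3)
        · have hQ' : Q ∈ S.erase Q₁ := Finset.mem_erase.2 ⟨e, hQ⟩
          intro hc
          have h3 : x Q₁ hQ₁ ^ p ∈ Q := by
            have := Q.sub_mem hc (Ideal.pow_mem_of_mem Q (hwQ Q hQ') q hq0)
            rwa [add_sub_cancel_right] at this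
          exact hx₁Q Q hQ' ((hS Q hQ).mem_of_pow_mem p h3)

theorem exists_regular_homog [IsNoetherianRing R] (a : HomogeneousIdeal 𝒜)
    (ha : a.toIdeal = Ideal.span (⋃ n ∈ Set.Ioi (0 : ℤ), (𝒜 n : Set R)))
    (M : Type u) [AddCommGroup M] [Module R M] [Module.Finite R M]
    (hM : gam a.toIdeal M = ⊥) :
    ∃ t : ℤ, 0 < t ∧ ∃ x ∈ 𝒜 t, x ∈ a.toIdeal ∧ IsSMulRegular M x := by
  classical
  have hfin := associatedPrimes.finite R M
  have hav : ∀ Q ∈ hfin.toFinset, ∃ t : ℤ, 0 < t ∧ ∃ y ∈ 𝒜 t, y ∈ a.toIdeal ∧ y ∉ Q := by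
    intro Q hQ
    have hQ' : Q ∈ associatedPrimes R M := (hfin.mem_toFinset).1 hQ
    obtain ⟨hprime, m, hm⟩ := (isAssociatedPrime_iff).1 hQ'
    by_contra hcon
    push_neg at hcon
    have hle : a.toIdeal ≤ Q := by
      rw [ha, Ideal.span_le]
      intro y hy
      obtain ⟨n, hn, hyn⟩ := Set.mem_iUnion₂.1 hy
      exact hcon n hn y hyn (by rw [ha]; exact Ideal.subset_span hy)
    have hm0 : m ∈ gam a.toIdeal M := ⟨1, fun r hr => by
      rw [pow_one] at hr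
      have := hle hr
      rw [hm, Submodule.mem_colon_singleton, Submodule.mem_bot] at this
      exact this⟩
    rw [hM, Submodule.mem_bot] at hm0
    apply hprime.ne_top
    rw [hm, hm0, Ideal.eq_top_iff_one, Submodule.mem_colon_singleton, smul_zero]
    exact Submodule.zero_mem _
  obtain ⟨t, ht, x, hx, hxa, hxav⟩ := hpa 𝒜 a.toIdeal hfin.toFinset
    (fun Q hQ => ((hfin.mem_toFinset).1 hQ).isPrime) hav
  refine ⟨t, ht, x, hx, hxa, ?_⟩
  intro m₁ m₂ h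
  by_contra hne
  have h0 : x • (m₁ - m₂) = 0 := by
    rw [smul_sub]
    exact sub_eq_zero.2 h
  have hx' : x ∈ {r : R | ∃ y : M, y ≠ 0 ∧ r • y = 0} := ⟨m₁ - m₂, sub_ne_zero.2 hne, h0⟩
  rw [← biUnion_associatedPrimes_eq_zero_divisors R M] at hx'
  obtain ⟨Q, hQ, hxQ⟩ := Set.mem_iUnion₂.1 hx'
  exact hxav Q ((hfin.mem_toFinset).2 hQ) hxQ

end hpa

/-! ### positively graded rings -/
section pos

variable {R : Type u} [CommRing R] (𝒜 : ℤ → AddSubgroup R) [GradedRing 𝒜]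
  (hpos : ∀ n : ℤ, n < 0 → 𝒜 n = ⊥)

include hpos in
theorem deg0_noetherian [IsNoetherianRing R] : IsNoetherianRing (deg0 𝒜) := by
  let I : Ideal R := Ideal.span (⋃ n ∈ Set.Ioi (0 : ℤ), (𝒜 n : Set R))
  let f : (deg0 𝒜) →+* R ⧸ I := (Ideal.Quotient.mk I).comp (deg0 𝒜).subtype
  have hinj : Function.Injective f := by
    rw [injective_iff_map_eq_zero]
    intro r hr
    have h1 : (r : R) ∈ I := Ideal.Quotient.eq_zero_iff_mem.1 hr
    have h2 : (decompose 𝒜 (r : R) 0 : R) = 0 := irr_le_tail 𝒜 hpos h1 0 (by norm_num)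
    have h3 : (r : R) ∈ 𝒜 0 := r.2
    rw [decompose_of_mem_same 𝒜 h3] at h2
    exact Subtype.ext h2
  have hsurj : Function.Surjective f := by
    intro y
    obtain ⟨x, rfl⟩ := Ideal.Quotient.mk_surjective y
    refine ⟨⟨(decompose 𝒜 x 0 : R), (decompose 𝒜 x 0).2⟩, ?_⟩
    show Ideal.Quotient.mk I (decompose 𝒜 x 0 : R) = Ideal.Quotient.mk I x
    rw [eq_comm, Ideal.Quotient.eq]
    exact sub_decompose_zero_mem_irr 𝒜 hpos x
  exact isNoetherianRing_of_ringEquiv (R ⧸ I) (RingEquiv.ofBijective f ⟨hinj, hsurj⟩).symm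

variable {X : Type u} [AddCommGroup X] [Module R X] (𝒳 : ℤ → AddSubgroup X) [Decomposition 𝒳]
  [SetLike.GradedSMul 𝒜 𝒳]

include hpos in
/-- pieces of a Noetherian graded module are finitely generated over `R₀` -/
theorem piece_fg [IsNoetherian R X] (n : ℤ) (Q : Submodule (deg0 𝒜) X)
    (hQ : ∀ x, x ∈ Q ↔ x ∈ 𝒳 n) : Q.FG := by
  classical
  obtain ⟨S, hS⟩ := IsNoetherian.noetherian (tail 𝒜 𝒳 hpos n)
  let P : Submodule (deg0 𝒜) X :=
    Submodule.span (deg0 𝒜) ((fun y => (decompose 𝒳 y n : X)) '' (S : Set X))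
  have hPfg : P.FG := Submodule.fg_span ((S.finite_toSet).image _)
  have hSt : ∀ y ∈ S, y ∈ tail 𝒜 𝒳 hpos n := fun y hy => by
    rw [← hS]
    exact Submodule.subset_span hy
  have key : ∀ x ∈ Submodule.span R (S : Set X),
      x ∈ tail 𝒜 𝒳 hpos n ∧ (decompose 𝒳 x n : X) ∈ P := by
    intro x hx
    induction hx using Submodule.span_induction with
    | mem x hx => exact ⟨hSt x hx, Submodule.subset_span ⟨x, hx, rfl⟩⟩
    | zero =>
      refine ⟨Submodule.zero_mem _, ?_⟩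
      rw [decompose_zero, DirectSum.zero_apply, ZeroMemClass.coe_zero]
      exact Submodule.zero_mem _
    | add x y _ _ hx hy =>
      refine ⟨Submodule.add_mem _ hx.1 hy.1, ?_⟩
      rw [decompose_add, DirectSum.add_apply, AddSubgroup.coe_add]
      exact Submodule.add_mem _ hx.2 hy.2
    | smul r x _ hx =>
      refine ⟨Submodule.smul_mem _ r hx.1, ?_⟩
      rw [decompose_smul_eq_sum 𝒜 𝒳]
      refine Submodule.sum_mem _ (fun l _ => ?_)
      by_cases hl : l < 0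
      · have : (decompose 𝒜 r l : R) = 0 := coe_eq_zero_of_bot 𝒜 (hpos l hl) _ (decompose 𝒜 r l).2
        rw [this, zero_smul]
        exact Submodule.zero_mem _
      · by_cases hl0 : l = 0
        · subst hl0
          rw [sub_zero]
          exact Submodule.smul_mem P
            (⟨(decompose 𝒜 r 0 : R), (decompose 𝒜 r 0).2⟩ : deg0 𝒜) hx.2
        · rw [hx.1 (n - l) (by omega), smul_zero]
          exact Submodule.zero_mem _
  have hQP : Q = P := by
    apply le_antisymm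
    · intro x hx
      have hxn := (hQ x).1 hx
      have hxT : x ∈ Submodule.span R (S : Set X) := by
        rw [hS]
        exact gr_le_tail 𝒜 𝒳 hpos le_rfl hxn
      have := (key x hxT).2
      rwa [decompose_of_mem_same 𝒳 hxn] at this
    · rw [Submodule.span_le]
      rintro _ ⟨y, _, rfl⟩
      exact (hQ _).2 (decompose 𝒳 y n).2
  rw [hQP]
  exact hPfg

theorem smul_isHomogeneous (I : Ideal R) (hI : I.IsHomogeneous 𝒜) (P : Submodule R X)
    (hP : P.IsHomogeneous 𝒳) : (I • P).IsHomogeneous 𝒳 := by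
  classical
  intro j x hx
  refine Submodule.smul_induction_on hx (fun r hr p hp => ?_) (fun x y hx hy => ?_)
  · rw [decompose_smul_eq_sum 𝒜 𝒳]
    exact Submodule.sum_mem _ (fun l _ => Submodule.smul_mem_smul (hI l hr) (hP (j - l) hp))
  · rw [decompose_add, DirectSum.add_apply, AddSubgroup.coe_add]
    exact Submodule.add_mem _ hx hy

theorem bounded_of_pow_smul [IsNoetherianRing R] [Module.Finite R X] (a : HomogeneousIdeal 𝒜)
    (ha : a.toIdeal = Ideal.span (⋃ n ∈ Set.Ioi (0 : ℤ), (𝒜 n : Set R))) :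
    ∀ (k : ℕ) (P : Submodule R X), P.IsHomogeneous 𝒳 →
      (∀ r ∈ a.toIdeal ^ k, ∀ p ∈ P, r • p = 0) →
      ∃ n₀ : ℤ, ∀ n, n₀ ≤ n → ∀ p ∈ P, p ∈ 𝒳 n → p = 0 := by
  intro k
  induction k with
  | zero =>
    intro P _ hk
    refine ⟨0, fun n _ p hp _ => ?_⟩
    have h1 : (1 : R) ∈ a.toIdeal ^ 0 := by
      rw [pow_zero, Ideal.one_eq_top]
      trivial
    have := hk 1 h1 p hp
    rwa [one_smul] at this
  | succ k ih =>
    intro P hP hk
    have hP' : (a.toIdeal • P).IsHomogeneous 𝒳 :=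
      smul_isHomogeneous 𝒜 𝒳 a.toIdeal a.isHomogeneous P hP
    have hk' : ∀ r ∈ a.toIdeal ^ k, ∀ p ∈ a.toIdeal • P, r • p = 0 := by
      intro r hr p hp
      refine Submodule.smul_induction_on hp (fun s hs q hq => ?_) (fun x y hx hy => ?_)
      · rw [smul_smul]
        exact hk (r * s) (by rw [pow_succ]; exact Ideal.mul_mem_mul hr hs) q hq
      · rw [smul_add, hx, hy, add_zero]
    obtain ⟨n₁, hn₁⟩ := ih (a.toIdeal • P) hP' hk'
    haveI : IsNoetherian R X := isNoetherian_of_isNoetherianRing_of_finite R X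
    letI := subDecomp 𝒳 P hP
    haveI := sub_gsmul 𝒜 𝒳 P
    haveI : Module.Finite R P := Module.IsNoetherian.finite R P
    obtain ⟨n, dg, s, hs, hspan⟩ := GrExtH1.exists_homog_generators (R := R) (subGr 𝒳 P)
    refine ⟨max n₁ (∑ j, |dg j| + 1), fun m hm p hp hpm => ?_⟩
    have hp' : (⟨p, hp⟩ : P) ∈ subGr 𝒳 P m := hpm
    obtain ⟨c, hc, hpc⟩ := GrNakH1.homog_eq_linComb 𝒜 (subGr 𝒳 P) hs hspan hp'
    apply hn₁ m (le_trans (le_max_left _ _) hm) p _ hpm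
    have hpc' : p = ∑ j, c j • (s j : X) := by
      have := congrArg Subtype.val hpc
      simpa using this
    rw [hpc']
    refine Submodule.sum_mem _ (fun j _ => Submodule.smul_mem_smul ?_ (s j).2)
    rw [ha]
    apply Ideal.subset_span
    refine Set.mem_iUnion₂.2 ⟨m - dg j, ?_, hc j⟩
    have h1 : |dg j| ≤ ∑ j, |dg j| :=
      Finset.single_le_sum (fun i _ => abs_nonneg (dg i)) (Finset.mem_univ j)
    have h2 : dg j ≤ |dg j| := le_abs_self _
    have h3 := le_trans (le_max_right n₁ _) hm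
    show 0 < m - dg j
    omega

theorem gam_bounded [IsNoetherianRing R] [Module.Finite R X] (a : HomogeneousIdeal 𝒜)
    (ha : a.toIdeal = Ideal.span (⋃ n ∈ Set.Ioi (0 : ℤ), (𝒜 n : Set R))) :
    ∃ n₀ : ℤ, ∀ n, n₀ ≤ n → ∀ p ∈ gam a.toIdeal X, p ∈ 𝒳 n → p = 0 := by
  classical
  haveI : IsNoetherian R X := isNoetherian_of_isNoetherianRing_of_finite R X
  obtain ⟨S, hS⟩ := IsNoetherian.noetherian (gam a.toIdeal X)
  have hSmem : ∀ s ∈ S, ∃ n : ℕ, ∀ r ∈ a.toIdeal ^ n, r • s = 0 := fun s hs => by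
    have : s ∈ Submodule.span R (S : Set X) := Submodule.subset_span hs
    rw [hS] at this
    exact this
  choose! k hk using hSmem
  refine bounded_of_pow_smul 𝒜 𝒳 a ha (∑ s ∈ S, k s) (gam a.toIdeal X)
    (gam_isHomogeneous 𝒜 𝒳 a) (fun r hr p hp => ?_)
  rw [← hS] at hp
  induction hp using Submodule.span_induction with
  | mem s hs =>
    exact hk s hs r (Ideal.pow_le_pow_right
      (Finset.single_le_sum (fun _ _ => Nat.zero_le _) hs) hr)
  | zero => exact smul_zero r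
  | add x y _ _ hx hy => rw [smul_add, hx, hy, add_zero]
  | smul c x _ hx => rw [smul_comm, hx, smul_zero]

end pos

/-! ### `H⁰` -/
section H0

variable {ι : Type} [AddCommGroup ι] [DecidableEq ι]
variable {R : Type u} [CommRing R] {𝒜 : ι → AddSubgroup R} [GradedRing 𝒜]
variable {M : Type u} [AddCommGroup M] [Module R M] {ℳ : ι → AddSubgroup M} [Decomposition ℳ]
  [SetLike.GradedSMul 𝒜 ℳ] (E : StarInjRes 𝒜 ℳ) (a : HomogeneousIdeal 𝒜)

theorem cocyc0_le_range : E.cocyc a 0 ≤ LinearMap.range E.ε := fun z hz => by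
  rw [← E.exact_zero]
  exact hz.2

/-- `H⁰ → M` -/
noncomputable def Psi0 : E.H a 0 →ₗ[R] M :=
  Submodule.liftQ _ ((LinearEquiv.ofInjective E.ε E.ε_injective).symm.toLinearMap ∘ₗ
    Submodule.inclusion (cocyc0_le_range E a))
    (fun z hz => by
      have h1 : (z : (E.X 0).carrier) = 0 := hz
      have h2 : z = 0 := Subtype.ext h1
      rw [h2]
      exact Submodule.zero_mem _)

theorem ε_Psi0 (z : ↥(E.cocyc a 0)) : E.ε (Psi0 E a (E.toH a 0 z)) = z := by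
  show E.ε ((LinearEquiv.ofInjective E.ε E.ε_injective).symm
    (Submodule.inclusion (cocyc0_le_range E a) z)) = z
  have := LinearEquiv.apply_symm_apply (LinearEquiv.ofInjective E.ε E.ε_injective)
    (Submodule.inclusion (cocyc0_le_range E a) z)
  have h2 := congrArg Subtype.val this
  rw [LinearEquiv.ofInjective_apply] at h2
  exact h2

theorem Psi0_injective : Function.Injective (Psi0 E a) := by
  rw [injective_iff_map_eq_zero]
  intro y hy
  obtain ⟨z, rfl⟩ := toH_surjective a E 0 y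
  have h1 := ε_Psi0 E a z
  rw [hy, map_zero] at h1
  have : z = 0 := Subtype.ext h1.symm
  rw [this, map_zero]

theorem Psi0_mem_gr (n : ι) (y : E.H a 0) (hy : y ∈ E.Hgr a 0 n) : Psi0 E a y ∈ ℳ n := by
  obtain ⟨z, hz, rfl⟩ := hy
  apply mem_of_map_mem ℳ (E.X 0).gr E.ε_grHom E.ε_injective
  rw [ε_Psi0]
  exact hz

theorem Psi0_mem_gam (y : E.H a 0) : Psi0 E a y ∈ gam a.toIdeal M := by
  obtain ⟨z, rfl⟩ := toH_surjective a E 0 y
  apply mem_gam_of_injective E.ε E.ε_injective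
  rw [ε_Psi0]
  exact z.2.1

theorem H_torsion (i : ℕ) (y : E.H a i) {x : R} (hx : x ∈ a.toIdeal) : ∃ k : ℕ, x ^ k • y = 0 := by
  obtain ⟨z, rfl⟩ := toH_surjective a E i y
  obtain ⟨n, hn⟩ := z.2.1
  refine ⟨n, ?_⟩
  rw [← map_smul]
  have : x ^ n • z = 0 := Subtype.ext (hn _ (Ideal.pow_mem_pow hx n))
  rw [this, map_zero]

end H0

/-! ### the induction -/
section main

variable {R : Type u} [CommRing R] [IsNoetherianRing R] (𝒜 : ℤ → AddSubgroup R) [GradedRing 𝒜]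
  (hpos : ∀ n : ℤ, n < 0 → 𝒜 n = ⊥) (a : HomogeneousIdeal 𝒜)
  (ha : a.toIdeal = Ideal.span (⋃ n ∈ Set.Ioi (0 : ℤ), (𝒜 n : Set R)))

include hpos ha in
theorem P0 (M : Type u) [AddCommGroup M] [Module R M] [Module.Finite R M] (ℳ : ℤ → AddSubgroup M)
    [Decomposition ℳ] [SetLike.GradedSMul 𝒜 ℳ] (E : StarInjRes 𝒜 ℳ) :
    (∀ n, (E.Hcomp a 0 n).FG) ∧ ∃ r : ℤ, ∀ n, r ≤ n → E.Hcomp a 0 n = ⊥ := by
  haveI := deg0_noetherian 𝒜 hpos
  haveI : IsNoetherian R M := isNoetherian_of_isNoetherianRing_of_finite R M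
  constructor
  · intro n
    have hT : (comp 𝒜 ℳ n).FG := piece_fg 𝒜 hpos ℳ n (comp 𝒜 ℳ n) (fun _ => Iff.rfl)
    exact fg_of_injOn ((Psi0 E a).restrictScalars (deg0 𝒜)) (E.Hcomp a 0 n) (comp 𝒜 ℳ n) hT
      (fun y hy => Psi0_mem_gr E a n y hy)
      (fun y _ hy0 => Psi0_injective E a (by rw [map_zero]; exact hy0))
  · obtain ⟨r, hr⟩ := gam_bounded 𝒜 ℳ a ha
    refine ⟨r, fun n hn => ?_⟩
    rw [eq_bot_iff]
    intro y hy
    have h1 := hr n hn (Psi0 E a y) (Psi0_mem_gam E a y) (Psi0_mem_gr E a n y hy)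
    exact (Submodule.mem_bot _).2 (Psi0_injective E a (by rw [h1, map_zero]))

theorem stepA (M : Type u) [AddCommGroup M] [Module R M] (ℳ : ℤ → AddSubgroup M)
    [Decomposition ℳ] [SetLike.GradedSMul 𝒜 ℳ]
    (N : Type u) [AddCommGroup N] [Module R N] (𝒩 : ℤ → AddSubgroup N)
    [Decomposition 𝒩] [SetLike.GradedSMul 𝒜 𝒩] (π : M →ₗ[R] N) (hπg : IsGrHom ℳ 𝒩 π)
    (hπs : Function.Surjective π) (hker : LinearMap.ker π = gam a.toIdeal M)
    (E : StarInjRes 𝒜 ℳ) (F : StarInjRes 𝒜 𝒩) (i : ℕ) :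
    ∃ f : E.H a (i + 1) →ₗ[R] F.H a (i + 1),
      IsGrHom (E.Hgr a (i + 1)) (F.Hgr a (i + 1)) f ∧ Function.Injective f := by
  have hT : (gam a.toIdeal M).IsHomogeneous ℳ := gam_isHomogeneous 𝒜 ℳ a
  letI := subDecomp ℳ (gam a.toIdeal M) hT
  haveI := sub_gsmul 𝒜 ℳ (gam a.toIdeal M)
  let S : SES R (subGr ℳ (gam a.toIdeal M)) ℳ 𝒩 :=
    { u := (gam a.toIdeal M).subtype
      p := π
      hu := subtype_isGrHom ℳ _
      hp := hπg
      inj := Subtype.val_injective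
      surj := hπs
      exact := by rw [hker, Submodule.range_subtype] }
  obtain ⟨ET⟩ := main13215 𝒜 (subGr ℳ (gam a.toIdeal M))
  obtain ⟨φ, hφ⟩ := exists_lift ET E S.u S.hu
  obtain ⟨ψ, hψ⟩ := exists_lift E F S.p S.hp
  obtain ⟨-, h⟩ := les S ET E F φ hφ ψ hψ a
  obtain ⟨hmid, -⟩ := h (i + 1)
  have hsub : Subsingleton (ET.H a (i + 1)) := by
    obtain ⟨e⟩ := GrStarLCH1.main13224 R 𝒜 a ↥(gam a.toIdeal M) (subGr ℳ (gam a.toIdeal M))
      ET (i + 1)
    have htors : LocCoh.IsPowerTorsion a.toIdeal ↥(gam a.toIdeal M) := by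
      intro y
      obtain ⟨n, hn⟩ := y.2
      exact ⟨n, fun r hr => Subtype.ext (hn r hr)⟩
    haveI := Groth.Agent.Lib.LocCohTorsVanishH7.H_subsingleton a.toIdeal ↥(gam a.toIdeal M)
      htors i
    exact e.toEquiv.subsingleton
  refine ⟨ψ.H a (i + 1), ψ.H_gr a (i + 1), ?_⟩
  rw [← LinearMap.ker_eq_bot, hmid, eq_bot_iff]
  rintro _ ⟨y, rfl⟩
  rw [Subsingleton.elim y 0, map_zero]
  exact Submodule.zero_mem _

include hpos in
theorem stepBC (M : Type u) [AddCommGroup M] [Module R M] (ℳ : ℤ → AddSubgroup M)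
    [Decomposition ℳ] [SetLike.GradedSMul 𝒜 ℳ] {t : ℤ} (ht : 0 < t) {x : R} (hx : x ∈ 𝒜 t)
    (hxa : x ∈ a.toIdeal) (hreg : IsSMulRegular M x)
    (N : Type u) [AddCommGroup N] [Module R N] (𝒩 : ℤ → AddSubgroup N)
    [Decomposition 𝒩] [SetLike.GradedSMul 𝒜 𝒩] (π : M →ₗ[R] N) (hπg : IsGrHom ℳ 𝒩 π)
    (hπs : Function.Surjective π)
    (hker : LinearMap.ker π = LinearMap.range (LinearMap.lsmul R M x))
    (E : StarInjRes 𝒜 ℳ) (F : StarInjRes 𝒜 𝒩) (i : ℕ)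
    (PF : (∀ m, (F.Hcomp a i m).FG) ∧ ∃ r : ℤ, ∀ m, r ≤ m → F.Hcomp a i m = ⊥) :
    (∀ n, (E.Hcomp a (i + 1) n).FG) ∧ ∃ r : ℤ, ∀ n, r ≤ n → E.Hcomp a (i + 1) n = ⊥ := by
  haveI := deg0_noetherian 𝒜 hpos
  obtain ⟨hPfg, r, hr⟩ := PF
  obtain ⟨ψ, hψ⟩ := mul_les 𝒜 hx hreg π hπg hπs hker E F a
  obtain ⟨-, δ, hδgr, -, hδex⟩ := hψ i
  letI := HDecomp 𝒜 ℳ a E (i + 1)
  haveI := HGSMul 𝒜 ℳ a E (i + 1)
  have hvan : ∀ (k : ℕ) (n : ℤ), r - t ≤ n → ∀ y ∈ E.Hgr a (i + 1) n, x ^ k • y = 0 → y = 0 := by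
    intro k
    induction k with
    | zero =>
      intro n _ y _ h
      rwa [pow_zero, one_smul] at h
    | succ k ih =>
      intro n hn y hy h
      have hxy : x • y ∈ E.Hgr a (i + 1) (t + n) := smul_mem_gr 𝒜 (E.Hgr a (i + 1)) hx hy
      have h1 : x • y = 0 := by
        apply ih (t + n) (by omega) (x • y) hxy
        rw [smul_smul, ← pow_succ]
        exact h
      have hy' : y ∈ E.Hgr a (i + 1) (-t + (n + t)) :=
        mem_congr (E.Hgr a (i + 1)) (by ring) hy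
      obtain ⟨w, hw, hwy⟩ := hδex (n + t) y hy' h1
      have hw' : w ∈ F.Hcomp a i (n + t) := hw
      rw [hr (n + t) (by omega), Submodule.mem_bot] at hw'
      rw [← hwy, hw', map_zero]
  have hbot : ∀ n, r - t ≤ n → E.Hcomp a (i + 1) n = ⊥ := by
    intro n hn
    rw [eq_bot_iff]
    intro y hy
    obtain ⟨k, hk⟩ := H_torsion E a (i + 1) y hxa
    exact (Submodule.mem_bot _).2 (hvan k n hn y hy hk)
  have hfg : ∀ (j : ℕ) (n : ℤ), r - t ≤ n + j * t → (E.Hcomp a (i + 1) n).FG := by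
    intro j
    induction j with
    | zero =>
      intro n hn
      rw [hbot n (by simpa using hn)]
      exact Submodule.fg_bot
    | succ j ih =>
      intro n hn
      have h1 : (E.Hcomp a (i + 1) (n + t)).FG := ih (n + t) (by push_cast at hn ⊢; linarith)
      refine fg_mid (δ.restrictScalars (deg0 𝒜))
        ((LinearMap.lsmul R (E.H a (i + 1)) x).restrictScalars (deg0 𝒜))
        (F.Hcomp a i (n + t)) (E.Hcomp a (i + 1) n) (E.Hcomp a (i + 1) (n + t)) (hPfg (n + t)) h1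
        (fun y hy => ?_) (fun y hy hxy => ?_)
      · have hxy : x • y ∈ E.Hgr a (i + 1) (t + n) := smul_mem_gr 𝒜 (E.Hgr a (i + 1)) hx hy
        exact mem_congr (E.Hgr a (i + 1)) (add_comm t n) hxy
      · have hy' : y ∈ E.Hgr a (i + 1) (-t + (n + t)) :=
          mem_congr (E.Hgr a (i + 1)) (by ring) hy
        obtain ⟨w, hw, hwy⟩ := hδex (n + t) y hy' hxy
        exact ⟨w, hw, hwy⟩
  refine ⟨fun n => ?_, r - t, hbot⟩
  apply hfg (r - t - n).toNat n
  have h1 : r - t - n ≤ ((r - t - n).toNat : ℤ) := Int.self_le_toNat _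
  have h2 : (0 : ℤ) ≤ ((r - t - n).toNat : ℤ) := Int.natCast_nonneg _
  nlinarith

include hpos ha in
theorem PFin_all : ∀ (i : ℕ) (M : Type u) [AddCommGroup M] [Module R M] [Module.Finite R M]
    (ℳ : ℤ → AddSubgroup M) [Decomposition ℳ] [SetLike.GradedSMul 𝒜 ℳ] (E : StarInjRes 𝒜 ℳ),
    (∀ n, (E.Hcomp a i n).FG) ∧ ∃ r : ℤ, ∀ n, r ≤ n → E.Hcomp a i n = ⊥ := by
  intro i
  induction i with
  | zero =>
    intro M _ _ _ ℳ _ _ E
    exact P0 𝒜 hpos a ha M ℳ E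
  | succ i ih =>
    intro M _ _ _ ℳ _ _ E
    haveI := deg0_noetherian 𝒜 hpos
    have hT : (gam a.toIdeal M).IsHomogeneous ℳ := gam_isHomogeneous 𝒜 ℳ a
    letI := quotDecomp ℳ (gam a.toIdeal M) hT
    haveI := quot_gsmul 𝒜 ℳ (gam a.toIdeal M)
    obtain ⟨Eb⟩ := main13215 𝒜 (GrStar2H1.quotGr ℳ (gam a.toIdeal M))
    obtain ⟨f, hfgr, hfinj⟩ := stepA 𝒜 a M ℳ (M ⧸ gam a.toIdeal M) (GrStar2H1.quotGr ℳ (gam a.toIdeal M))
      (gam a.toIdeal M).mkQ (mkQ_isGrHom ℳ (gam a.toIdeal M))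
      (Submodule.mkQ_surjective (gam a.toIdeal M))
      (Submodule.ker_mkQ (gam a.toIdeal M)) E Eb i
    suffices hbar : (∀ n, (Eb.Hcomp a (i + 1) n).FG) ∧
        ∃ r : ℤ, ∀ n, r ≤ n → Eb.Hcomp a (i + 1) n = ⊥ by
      obtain ⟨h1, r, h2⟩ := hbar
      constructor
      · intro n
        exact fg_of_injOn (f.restrictScalars (deg0 𝒜)) (E.Hcomp a (i + 1) n)
          (Eb.Hcomp a (i + 1) n) (h1 n) (fun y hy => hfgr n y hy)
          (fun y _ hy0 => hfinj (by rw [map_zero]; exact hy0))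
      · refine ⟨r, fun n hn => ?_⟩
        rw [eq_bot_iff]
        intro y hy
        have h3 : f y ∈ Eb.Hcomp a (i + 1) n := hfgr n y hy
        rw [h2 n hn, Submodule.mem_bot] at h3
        exact (Submodule.mem_bot _).2 (hfinj (by rw [h3, map_zero]))
    have hMb : gam a.toIdeal (M ⧸ gam a.toIdeal M) = ⊥ := gam_quot_eq_bot a.toIdeal M
    obtain ⟨t, ht, x, hx, hxa, hreg⟩ := exists_regular_homog 𝒜 a ha (M ⧸ gam a.toIdeal M) hMb
    have hKhom : (LinearMap.range (LinearMap.lsmul R (M ⧸ gam a.toIdeal M) x)).IsHomogeneous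
        (GrStar2H1.quotGr ℳ (gam a.toIdeal M)) :=
      range_lsmul_isHomogeneous 𝒜 (GrStar2H1.quotGr ℳ (gam a.toIdeal M)) hx
    letI := quotDecomp (GrStar2H1.quotGr ℳ (gam a.toIdeal M))
      (LinearMap.range (LinearMap.lsmul R (M ⧸ gam a.toIdeal M) x)) hKhom
    haveI := quot_gsmul 𝒜 (GrStar2H1.quotGr ℳ (gam a.toIdeal M))
      (LinearMap.range (LinearMap.lsmul R (M ⧸ gam a.toIdeal M) x))
    obtain ⟨F⟩ := main13215 𝒜 (GrStar2H1.quotGr (GrStar2H1.quotGr ℳ (gam a.toIdeal M))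
      (LinearMap.range (LinearMap.lsmul R (M ⧸ gam a.toIdeal M) x)))
    have PF := ih ((M ⧸ gam a.toIdeal M) ⧸
      LinearMap.range (LinearMap.lsmul R (M ⧸ gam a.toIdeal M) x))
      (GrStar2H1.quotGr (GrStar2H1.quotGr ℳ (gam a.toIdeal M))
        (LinearMap.range (LinearMap.lsmul R (M ⧸ gam a.toIdeal M) x))) F
    exact stepBC 𝒜 hpos a (M ⧸ gam a.toIdeal M) (GrStar2H1.quotGr ℳ (gam a.toIdeal M)) ht hx hxa hreg
      ((M ⧸ gam a.toIdeal M) ⧸ LinearMap.range (LinearMap.lsmul R (M ⧸ gam a.toIdeal M) x))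
      (GrStar2H1.quotGr (GrStar2H1.quotGr ℳ (gam a.toIdeal M))
        (LinearMap.range (LinearMap.lsmul R (M ⧸ gam a.toIdeal M) x)))
      (LinearMap.range (LinearMap.lsmul R (M ⧸ gam a.toIdeal M) x)).mkQ
      (mkQ_isGrHom (GrStar2H1.quotGr ℳ (gam a.toIdeal M))
        (LinearMap.range (LinearMap.lsmul R (M ⧸ gam a.toIdeal M) x)))
      (Submodule.mkQ_surjective
        (LinearMap.range (LinearMap.lsmul R (M ⧸ gam a.toIdeal M) x)))
      (Submodule.ker_mkQ (LinearMap.range (LinearMap.lsmul R (M ⧸ gam a.toIdeal M) x)))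
      Eb F i PF

include hpos ha in
theorem main13226 (M : Type u) [AddCommGroup M] [Module R M] [Module.Finite R M]
    (ℳ : ℤ → AddSubgroup M) [DirectSum.Decomposition ℳ] [SetLike.GradedSMul 𝒜 ℳ]
    (E : GrLC.StarInjRes 𝒜 ℳ) (i : ℕ) (n : ℤ) :
    Module.Finite (GrLC.deg0 𝒜) (E.Hcomp a i n) :=
  Module.Finite.iff_fg.2 ((PFin_all 𝒜 hpos a ha i M ℳ E).1 n)

include hpos ha in
theorem main13227 (M : Type u) [AddCommGroup M] [Module R M] [Module.Finite R M]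
    (ℳ : ℤ → AddSubgroup M) [DirectSum.Decomposition ℳ] [SetLike.GradedSMul 𝒜 ℳ]
    (E : GrLC.StarInjRes 𝒜 ℳ) : ∃ r : ℤ, ∀ (i : ℕ) (n : ℤ), r ≤ n → E.Hcomp a i n = ⊥ := by
  classical
  obtain ⟨S, hS⟩ := (IsNoetherian.noetherian a.toIdeal : a.toIdeal.FG)
  have hcd : LocCoh.CdLE R a.toIdeal S.card := by
    rw [← hS]
    exact Groth.Agent.Lib.LocCohAraH7.cdLE_span S
  have hall := fun i => (PFin_all 𝒜 hpos a ha i M ℳ E).2
  choose r hr using hall
  refine ⟨∑ i ∈ Finset.range (S.card + 1), |r i|, fun i n hn => ?_⟩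
  by_cases hi : i ≤ S.card
  · apply hr i n
    have h1 : |r i| ≤ ∑ i ∈ Finset.range (S.card + 1), |r i| :=
      Finset.single_le_sum (fun j _ => abs_nonneg (r j)) (Finset.mem_range.2 (by omega))
    have h2 : r i ≤ |r i| := le_abs_self _
    omega
  · push_neg at hi
    obtain ⟨e⟩ := GrStarLCH1.main13224 R 𝒜 a M ℳ E i
    haveI := hcd M i hi
    haveI : Subsingleton (E.H a i) := e.toEquiv.subsingleton
    rw [eq_bot_iff]
    intro y _
    rw [Subsingleton.elim y 0]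
    exact Submodule.zero_mem _

end main

end Groth.Agent.Lib.GrLES4H1
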