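import Mathlib
import Groth.Prelude.Def_GrLC
import Groth.Prelude.Def_GrLC2
import Groth.Prelude.Def_CAlg
import Groth.Prelude.Def_Wider
import Groth.Agent.Lib.GorCan_helper1
import Groth.Agent.Lib.GrLES3_helper1
import Groth.Agent.Lib.GrLES4_helper1
import Groth.Agent.Lib.LocCohGV_helper7

/-! The `a`-invariant of a quotient by a homogeneous regular sequence (helper1, S18645). -/

set_option autoImplicit false

namespace Groth.Agent.Lib.AInvH1

open DirectSum GrLC Groth.Agent.Lib.GrStarH1 Groth.Agent.Lib.GrStar2H1 Groth.Agent.Lib.GrStar3H1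
  Groth.Agent.Lib.GrStar4H1 Groth.Agent.Lib.GrLES1H1 Groth.Agent.Lib.GrLES3H1
  Groth.Agent.Lib.GrLES4H1 Groth.Agent.Lib.GrHDecH1 Groth.Agent.Lib.MinResH1
  Groth.Agent.Lib.GorTopH1 Groth.Agent.Lib.GorTop2H1

open scoped Pointwise

universe u

variable {R : Type u} [CommRing R] (𝒜 : ℤ → AddSubgroup R) [GradedRing 𝒜]

/-! ### isomorphic graded modules have the same graded local cohomology -/
section congr

variable {M : Type u} [AddCommGroup M] [Module R M] {ℳ : ℤ → AddSubgroup M} [Decomposition ℳ]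
  [SetLike.GradedSMul 𝒜 ℳ]
variable {N : Type u} [AddCommGroup N] [Module R N] {𝒩 : ℤ → AddSubgroup N} [Decomposition 𝒩]
  [SetLike.GradedSMul 𝒜 𝒩]

theorem Hgr_ne_bot_of_bijective (π : M →ₗ[R] N) (hπ : IsGrHom ℳ 𝒩 π)
    (hbij : Function.Bijective π) (E : StarInjRes 𝒜 ℳ) (F : StarInjRes 𝒜 𝒩)
    (a : HomogeneousIdeal 𝒜) (i : ℕ) (k : ℤ) (h : E.Hgr a i k ≠ ⊥) : F.Hgr a i k ≠ ⊥ := by
  obtain ⟨ρ, hρ⟩ : ∃ ρ : N →ₗ[R] M, ∀ y, ρ (π y) = y :=
    ⟨(LinearEquiv.ofBijective π hbij).symm.toLinearMap,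
      fun y => (LinearEquiv.ofBijective π hbij).symm_apply_apply y⟩
  have hρg : IsGrHom 𝒩 ℳ ρ := by
    intro g y hy
    obtain ⟨x, rfl⟩ := hbij.2 y
    rw [hρ]
    exact mem_of_map_mem ℳ 𝒩 hπ hbij.1 hy
  obtain ⟨c, hc⟩ := exists_lift E F π hπ
  obtain ⟨c', hc'⟩ := exists_lift F E ρ hρg
  have hid : c'.H a i ∘ₗ c.H a i = LinearMap.id := by
    rw [← CMap.H_comp, ← CMap.H_id]
    apply H_unique
    intro y
    show c'.f 0 (c.f 0 (E.ε y)) = E.ε y
    rw [hc, hc', hρ]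
  intro hbot
  apply h
  rw [eq_bot_iff]
  intro x hx
  have h1 : c.H a i x ∈ F.Hgr a i k := c.H_gr a i k x hx
  rw [hbot, AddSubgroup.mem_bot] at h1
  have h2 : x = (c'.H a i ∘ₗ c.H a i) x := by rw [hid, LinearMap.id_apply]
  rw [AddSubgroup.mem_bot, h2, LinearMap.comp_apply, h1, map_zero]

theorem endDeg_congr (π : M →ₗ[R] N) (hπ : IsGrHom ℳ 𝒩 π) (hbij : Function.Bijective π)
    (E : StarInjRes 𝒜 ℳ) (F : StarInjRes 𝒜 𝒩) (a : HomogeneousIdeal 𝒜) (i : ℕ) :
    endDeg (E.Hgr a i) = endDeg (F.Hgr a i) := by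
  obtain ⟨ρ, hρ, hρb⟩ : ∃ ρ : N →ₗ[R] M, (∀ y, ρ (π y) = y) ∧ Function.Bijective ρ :=
    ⟨(LinearEquiv.ofBijective π hbij).symm.toLinearMap,
      fun y => (LinearEquiv.ofBijective π hbij).symm_apply_apply y,
      (LinearEquiv.ofBijective π hbij).symm.bijective⟩
  have hρg : IsGrHom 𝒩 ℳ ρ := by
    intro g y hy
    obtain ⟨x, rfl⟩ := hbij.2 y
    rw [hρ]
    exact mem_of_map_mem ℳ 𝒩 hπ hbij.1 hy
  apply le_antisymm
  · refine iSup₂_le (fun k hk => ?_)
    exact le_iSup₂ (f := fun (n : ℤ) (_ : F.Hgr a i n ≠ ⊥) =>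
      ((n : WithTop ℤ) : WithBot (WithTop ℤ))) k
      (Hgr_ne_bot_of_bijective 𝒜 π hπ hbij E F a i k hk)
  · refine iSup₂_le (fun k hk => ?_)
    exact le_iSup₂ (f := fun (n : ℤ) (_ : E.Hgr a i n ≠ ⊥) =>
      ((n : WithTop ℤ) : WithBot (WithTop ℤ))) k
      (Hgr_ne_bot_of_bijective 𝒜 ρ hρg hρb F E a i k hk)

theorem subsingleton_of_pieces (E : StarInjRes 𝒜 ℳ) (a : HomogeneousIdeal 𝒜) (i : ℕ)
    (h : ∀ (k : ℤ) (w : E.H a i), w ∈ E.Hgr a i k → w = 0) : Subsingleton (E.H a i) := by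
  classical
  letI := HDecomp 𝒜 ℳ a E i
  have key : ∀ z : E.H a i, z = 0 := by
    intro z
    rw [← DirectSum.sum_support_decompose (E.Hgr a i) z]
    exact Finset.sum_eq_zero (fun k _ => h k _ (decompose (E.Hgr a i) z k).2)
  exact ⟨fun x y => by rw [key x, key y]⟩

theorem Hgr_eq_bot_of_Hcomp (E : StarInjRes 𝒜 ℳ) (a : HomogeneousIdeal 𝒜) (i : ℕ) (n : ℤ)
    (h : E.Hcomp a i n = ⊥) : E.Hgr a i n = ⊥ := by
  rw [eq_bot_iff]
  intro y hy
  have h1 : y ∈ E.Hcomp a i n := hy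
  rw [h, Submodule.mem_bot] at h1
  rw [AddSubgroup.mem_bot]
  exact h1

theorem exists_ne_zero_of_ne_bot {X : Type u} [AddCommGroup X] {P : AddSubgroup X}
    (h : P ≠ ⊥) : ∃ w ∈ P, w ≠ 0 := by
  by_contra hcon
  push_neg at hcon
  exact h (eq_bot_iff.2 (fun w hw => (AddSubgroup.mem_bot).2 (hcon w hw)))

/-- one step: the `a`-invariant of `M/xM` -/
theorem step [IsNoetherianRing R] (a : HomogeneousIdeal 𝒜) (E : StarInjRes 𝒜 ℳ) {t' : ℤ}
    (ht' : 0 < t') {x : R} (hx : x ∈ 𝒜 t') (hreg : IsSMulRegular M x) (π : M →ₗ[R] N)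
    (hπg : IsGrHom ℳ 𝒩 π) (hπ : Function.Surjective π)
    (hker : LinearMap.ker π = LinearMap.range (LinearMap.lsmul R M x)) (F : StarInjRes 𝒜 𝒩)
    (d' : ℕ) (hvan : ∀ i, i ≠ d' + 1 → Subsingleton (E.H a i))
    (hbdd : ∃ r : ℤ, ∀ n, r ≤ n → E.Hgr a (d' + 1) n = ⊥) :
    (∀ i, i < d' → Subsingleton (F.H a i)) ∧
      endDeg (F.Hgr a d') =
        endDeg (E.Hgr a (d' + 1)) + ((t' : WithTop ℤ) : WithBot (WithTop ℤ)) := by
  classical
  obtain ⟨ψ, hψ⟩ := mul_les 𝒜 hx hreg π hπg hπ hker E F a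
  constructor
  · intro i hi
    obtain ⟨-, δ, hδgr, hC, -⟩ := hψ i
    haveI := hvan i (by omega)
    haveI := hvan (i + 1) (by omega)
    exact subsingleton_of_pieces 𝒜 F a i (fun k w hw => by
      obtain ⟨y, -, hy⟩ := hC k w hw (Subsingleton.elim _ _)
      rw [← hy, Subsingleton.elim y 0, map_zero])
  · obtain ⟨-, δ, hδgr, hC, hD⟩ := hψ d'
    haveI := hvan d' (by omega)
    have hδinj : ∀ (k : ℤ) (w : F.H a d'), w ∈ F.Hgr a d' k → δ w = 0 → w = 0 := by
      intro k w hw h0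
      obtain ⟨y, -, hy⟩ := hC k w hw h0
      rw [← hy, Subsingleton.elim y 0, map_zero]
    apply le_antisymm
    · refine iSup₂_le (fun k hk => ?_)
      obtain ⟨w, hw, hw0⟩ := exists_ne_zero_of_ne_bot hk
      have h1 : δ w ∈ E.Hgr a (d' + 1) (-t' + k) := hδgr k w hw
      have h2 : δ w ≠ 0 := fun h0 => hw0 (hδinj k w hw h0)
      have h3 : E.Hgr a (d' + 1) (-t' + k) ≠ ⊥ := by
        intro hb
        rw [hb, AddSubgroup.mem_bot] at h1
        exact h2 h1
      have h4 : (((-t' + k : ℤ) : WithTop ℤ) : WithBot (WithTop ℤ)) ≤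
          endDeg (E.Hgr a (d' + 1)) :=
        le_iSup₂ (f := fun (n : ℤ) (_ : E.Hgr a (d' + 1) n ≠ ⊥) =>
          ((n : WithTop ℤ) : WithBot (WithTop ℤ))) (-t' + k) h3
      have h5 : ((k : WithTop ℤ) : WithBot (WithTop ℤ)) =
          (((-t' + k : ℤ) : WithTop ℤ) : WithBot (WithTop ℤ)) +
            ((t' : WithTop ℤ) : WithBot (WithTop ℤ)) := by
        rw [← WithBot.coe_add, ← WithTop.coe_add, neg_add_cancel_comm]
      rw [h5]
      exact add_le_add h4 le_rfl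
    · by_cases hne : ∃ j, E.Hgr a (d' + 1) j ≠ ⊥
      · obtain ⟨r, hr⟩ := hbdd
        obtain ⟨j', hj', hmax⟩ := Int.exists_greatest_of_bdd
          (P := fun j => E.Hgr a (d' + 1) j ≠ ⊥)
          ⟨r, fun z hz => by
            by_contra h
            push_neg at h
            exact hz (hr z h.le)⟩ hne
        have hE : endDeg (E.Hgr a (d' + 1)) = ((j' : WithTop ℤ) : WithBot (WithTop ℤ)) := by
          apply le_antisymm
          · refine iSup₂_le (fun j hj => ?_)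
            exact_mod_cast hmax j hj
          · exact le_iSup₂ (f := fun (n : ℤ) (_ : E.Hgr a (d' + 1) n ≠ ⊥) =>
              ((n : WithTop ℤ) : WithBot (WithTop ℤ))) j' hj'
        rw [hE]
        obtain ⟨y, hy, hy0⟩ := exists_ne_zero_of_ne_bot hj'
        have hxy : x • y = 0 := by
          have h1 := (HGSMul 𝒜 ℳ a E (d' + 1)).smul_mem hx hy
          rw [vadd_eq_add] at h1
          have h2 : E.Hgr a (d' + 1) (t' + j') = ⊥ := by
            by_contra h
            have := hmax _ h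
            omega
          rw [h2, AddSubgroup.mem_bot] at h1
          exact h1
        obtain ⟨w, hw, hwy⟩ := hD (t' + j') y
          (mem_congr (E.Hgr a (d' + 1)) (neg_add_cancel_left t' j').symm hy) hxy
        have hw0 : w ≠ 0 := by
          rintro rfl
          exact hy0 (by rw [← hwy, map_zero])
        have h3 : F.Hgr a d' (t' + j') ≠ ⊥ := by
          intro hb
          rw [hb, AddSubgroup.mem_bot] at hw
          exact hw0 hw
        have h4 : (((t' + j' : ℤ) : WithTop ℤ) : WithBot (WithTop ℤ)) ≤ endDeg (F.Hgr a d') :=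
          le_iSup₂ (f := fun (n : ℤ) (_ : F.Hgr a d' n ≠ ⊥) =>
            ((n : WithTop ℤ) : WithBot (WithTop ℤ))) (t' + j') h3
        have h5 : ((j' : WithTop ℤ) : WithBot (WithTop ℤ)) +
            ((t' : WithTop ℤ) : WithBot (WithTop ℤ)) =
            (((t' + j' : ℤ) : WithTop ℤ) : WithBot (WithTop ℤ)) := by
          rw [← WithBot.coe_add, ← WithTop.coe_add, add_comm]
        rw [h5]
        exact h4
      · push_neg at hne
        have hE : endDeg (E.Hgr a (d' + 1)) = ⊥ := by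
          apply le_antisymm ?_ bot_le
          exact iSup₂_le (fun j hj => absurd (hne j) hj)
        rw [hE, WithBot.bot_add]
        exact bot_le

end congr

/-! ### small lemmas -/

theorem pos_of_mem (hpos : ∀ n : ℤ, n < 0 → 𝒜 n = ⊥) (I : Ideal R)
    (hI : I = Ideal.span (⋃ n ∈ Set.Ioi (0 : ℤ), (𝒜 n : Set R))) {x : R} {k : ℤ}
    (hxk : x ∈ 𝒜 k) (hxI : x ∈ I) (hx0 : x ≠ 0) : 0 < k := by
  by_contra hk
  push_neg at hk
  apply hx0
  have h1 : x ∈ tail 𝒜 𝒜 hpos 1 := irr_le_tail 𝒜 hpos (hI ▸ hxI)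
  exact eq_zero_of_mem_tail 𝒜 𝒜 hpos (by omega : k < 1) hxk h1

theorem wb_le_pred {a : WithBot ℕ∞} {d' : ℕ} (h : a + 1 ≤ ((d' + 1 : ℕ) : WithBot ℕ∞)) :
    a ≤ (d' : WithBot ℕ∞) := by
  induction a using WithBot.recBotCoe with
  | bot => exact bot_le
  | coe a' =>
    have h' : a' + 1 ≤ ((d' + 1 : ℕ) : ℕ∞) := by exact_mod_cast h
    have hne : a' ≠ ⊤ := by
      intro h0
      rw [h0, top_add] at h'
      exact absurd h' (by simp)
    lift a' to ℕ using hne
    have h'' : a' + 1 ≤ d' + 1 := by exact_mod_cast h'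
    have h3 : a' ≤ d' := by omega
    exact_mod_cast h3

/-! ### vanishing below the height, Cohen–Macaulay case -/

theorem H_subsingleton_of_lt [hCM : LocCoh.IsCohenMacaulayRing R] (m : HomogeneousIdeal 𝒜)
    (hm : IsStarLocal 𝒜 m) (n : ℕ) (hn : m.toIdeal.height = n) (I : StarInjRes 𝒜 𝒜) (k : ℕ)
    (hk : k < n) : Subsingleton (I.H m k) := by
  haveI : IsNoetherianRing R := hCM.toIsNoetherian
  haveI hprime : m.toIdeal.IsPrime := isPrime_of_coatom 𝒜 m hm.1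
  obtain ⟨E₂, hE₂⟩ : ∃ E₂ : StarInjRes 𝒜 𝒜, E₂ = minRes 𝒜 𝒜 := ⟨_, rfl⟩
  have hmin0 : ∀ P : Submodule R (E₂.X 0).carrier, P.IsHomogeneous (E₂.X 0).gr → P ≠ ⊥ →
      P ⊓ LinearMap.range E₂.ε ≠ ⊥ := by
    rw [hE₂]
    exact minRes_min0 𝒜 𝒜
  have hmin : ∀ (k : ℕ) (P : Submodule R (E₂.X (k + 1)).carrier),
      P.IsHomogeneous (E₂.X (k + 1)).gr → P ≠ ⊥ → P ⊓ LinearMap.range (E₂.d k) ≠ ⊥ := by
    rw [hE₂]
    exact minRes_min 𝒜 𝒜
  have hσ := bassNum_eq_length_soc 𝒜 𝒜 E₂ hmin0 hmin m k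
  have hgam : gam m.toIdeal (E₂.X k).carrier = ⊥ :=
    gam_eq_bot_of_length_zero 𝒜 (E₂.X k).gr m hm.1
      (by rw [← hσ]; exact bassNum_eq_zero_of_lt m.toIdeal n hn k hk)
  obtain ⟨γ, -⟩ := H_equiv I E₂ m k
  haveI : Subsingleton ↥(E₂.cocyc m k) := by
    refine ⟨fun x y => Subtype.ext ?_⟩
    have hx : (x : (E₂.X k).carrier) ∈ gam m.toIdeal (E₂.X k).carrier := x.2.1
    have hy : (y : (E₂.X k).carrier) ∈ gam m.toIdeal (E₂.X k).carrier := y.2.1
    rw [hgam, Submodule.mem_bot] at hx hy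
    rw [hx, hy]
  haveI : Subsingleton (E₂.H m k) := (toH_surjective m E₂ k).subsingleton
  exact γ.toEquiv.subsingleton

/-! ### the induction -/

set_option maxHeartbeats 3200000 in
theorem endDeg_regular [IsNoetherianRing R] (hpos : ∀ n : ℤ, n < 0 → 𝒜 n = ⊥)
    (m : HomogeneousIdeal 𝒜)
    (hmsp : m.toIdeal = Ideal.span (⋃ n ∈ Set.Ioi (0 : ℤ), (𝒜 n : Set R))) :
    ∀ (t : ℕ) (M : Type u) [AddCommGroup M] [Module R M] [Module.Finite R M]
      (ℳ : ℤ → AddSubgroup M) [Decomposition ℳ] [SetLike.GradedSMul 𝒜 ℳ] (E : StarInjRes 𝒜 ℳ)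
      (d : ℕ), t ≤ d → (∀ i, i ≠ d → Subsingleton (E.H m i)) →
      Module.supportDim R M ≤ (d : WithBot ℕ∞) →
      ∀ (f : Fin t → R) (deg : Fin t → ℤ), (∀ i, f i ∈ 𝒜 (deg i)) → (∀ i, f i ∈ m.toIdeal) →
      RingTheory.Sequence.IsRegular M (List.ofFn f) →
      ∀ (N : Type u) [AddCommGroup N] [Module R N] (𝒩 : ℤ → AddSubgroup N) [Decomposition 𝒩]
        [SetLike.GradedSMul 𝒜 𝒩] (π : M →ₗ[R] N), IsGrHom ℳ 𝒩 π → Function.Surjective π →
        LinearMap.ker π = Ideal.span (Set.range f) • (⊤ : Submodule R M) →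
        ∀ F : StarInjRes 𝒜 𝒩, endDeg (F.Hgr m (d - t)) =
          endDeg (E.Hgr m d) + (((∑ i, deg i : ℤ) : WithTop ℤ) : WithBot (WithTop ℤ)) := by
  intro t
  induction t with
  | zero =>
    intro M _ _ _ ℳ _ _ E d _ _ _ f deg _ _ _ N _ _ 𝒩 _ _ π hπ hπs hπk F
    have hinj : Function.Injective π := by
      rw [← LinearMap.ker_eq_bot, hπk]
      have h1 : Set.range f = ∅ := Set.range_eq_empty f
      rw [h1, Ideal.span_empty, Submodule.bot_smul]
    rw [Nat.sub_zero, Finset.univ_eq_empty, Finset.sum_empty,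
      ← endDeg_congr 𝒜 π hπ ⟨hinj, hπs⟩ E F m d]
    simp
  | succ t ih =>
    intro M _ _ _ ℳ _ _ E d htd hvan hdim f deg hfdeg hfm hreg N _ _ 𝒩 _ _ π hπ hπs hπk F
    classical
    rw [List.ofFn_succ] at hreg
    obtain ⟨hreg0, hreg'⟩ := (RingTheory.Sequence.isRegular_cons_iff M (f 0) _).1 hreg
    have hMnt : Nontrivial M := by
      by_contra h
      rw [not_nontrivial_iff_subsingleton] at h
      exact hreg.top_ne_smul (Subsingleton.elim _ _)
    have hf0 : f 0 ≠ 0 := by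
      intro h0
      obtain ⟨y, hy⟩ := exists_ne (0 : M)
      apply hy
      apply hreg0
      show f 0 • y = f 0 • 0
      rw [h0, zero_smul, zero_smul]
    have hdeg0 : 0 < deg 0 := pos_of_mem 𝒜 hpos m.toIdeal hmsp (hfdeg 0) (hfm 0) hf0
    obtain ⟨d', rfl⟩ : ∃ d', d = d' + 1 := ⟨d - 1, by omega⟩
    obtain ⟨P₀, hP₀⟩ : ∃ P₀ : Submodule R M, P₀ = (f 0) • (⊤ : Submodule R M) := ⟨_, rfl⟩
    have hP₀r : P₀ = LinearMap.range (LinearMap.lsmul R M (f 0)) := by
      rw [hP₀]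
      ext y
      rw [Submodule.mem_smul_pointwise_iff_exists, LinearMap.mem_range]
      constructor
      · rintro ⟨z, -, rfl⟩
        exact ⟨z, rfl⟩
      · rintro ⟨z, rfl⟩
        exact ⟨z, Submodule.mem_top, rfl⟩
    have hP₀h : P₀.IsHomogeneous ℳ := hP₀r ▸ range_lsmul_isHomogeneous 𝒜 ℳ (hfdeg 0)
    letI := quotDecomp ℳ P₀ hP₀h
    letI := quot_gsmul 𝒜 ℳ P₀
    obtain ⟨E', hE'⟩ : ∃ E' : StarInjRes 𝒜 (quotGr ℳ P₀), E' = minRes 𝒜 (quotGr ℳ P₀) :=
      ⟨_, rfl⟩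
    obtain ⟨r, hr⟩ := main13227 𝒜 hpos m hmsp M ℳ E
    have hbdd : ∃ r : ℤ, ∀ n, r ≤ n → E.Hgr m (d' + 1) n = ⊥ :=
      ⟨r, fun n hn => Hgr_eq_bot_of_Hcomp 𝒜 E m (d' + 1) n (hr (d' + 1) n hn)⟩
    obtain ⟨hlow, hend⟩ := step 𝒜 m E hdeg0 (hfdeg 0) hreg0 P₀.mkQ (mkQ_isGrHom ℳ P₀)
      P₀.mkQ_surjective (by rw [Submodule.ker_mkQ, hP₀r]) E' d' hvan hbdd
    have hdim' : Module.supportDim R (M ⧸ P₀) ≤ (d' : WithBot ℕ∞) := by
      have h1 : Module.supportDim R (QuotSMulTop (f 0) M) + 1 ≤ Module.supportDim R M :=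
        Module.supportDim_quotSMulTop_succ_le_of_notMem_minimalPrimes
          (fun _ => hreg0.notMem_of_mem_minimalPrimes)
      rw [hP₀]
      exact wb_le_pred (le_trans h1 hdim)
    have hvan' : ∀ i, i ≠ d' → Subsingleton (E'.H m i) := by
      intro i hi
      rcases lt_or_gt_of_ne hi with h | h
      · exact hlow i h
      · obtain ⟨γ⟩ := Groth.Agent.Lib.GrStarLCH1.main13224 R 𝒜 m (M ⧸ P₀) (quotGr ℳ P₀) E' i
        haveI : Subsingleton (LocCoh.H m.toIdeal i (M ⧸ P₀)) := by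
          apply Groth.Agent.Lib.LocCohGVH7.GV
          exact lt_of_le_of_lt hdim' (by exact_mod_cast h)
        exact γ.toEquiv.subsingleton
    have hle : P₀ ≤ LinearMap.ker π := by
      rw [hπk, hP₀]
      intro y hy
      obtain ⟨z, -, rfl⟩ := (Submodule.mem_smul_pointwise_iff_exists _ _ _).1 hy
      exact Submodule.smul_mem_smul (Ideal.subset_span ⟨0, rfl⟩) Submodule.mem_top
    obtain ⟨π', hπ'⟩ : ∃ π' : (M ⧸ P₀) →ₗ[R] N, ∀ y, π' (P₀.mkQ y) = π y :=
      ⟨P₀.liftQ π hle, fun y => rfl⟩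
    have hπ'g : IsGrHom (quotGr ℳ P₀) 𝒩 π' := by
      rintro k _ ⟨y, hy, rfl⟩
      have h1 : π' (P₀.mkQ y) ∈ 𝒩 k := by
        rw [hπ']
        exact hπ k y hy
      exact h1
    have hπ's : Function.Surjective π' := fun z => by
      obtain ⟨y, rfl⟩ := hπs z
      exact ⟨P₀.mkQ y, hπ' y⟩
    have hπ'k : LinearMap.ker π' =
        Ideal.span (Set.range (fun i : Fin t => f i.succ)) • (⊤ : Submodule R (M ⧸ P₀)) := by
      apply le_antisymm
      · intro z hz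
        obtain ⟨y, rfl⟩ := P₀.mkQ_surjective z
        rw [LinearMap.mem_ker, hπ'] at hz
        have hy : y ∈ Ideal.span (Set.range f) • (⊤ : Submodule R M) := by
          rw [← hπk]
          exact hz
        refine Submodule.smul_induction_on hy ?_ ?_
        · intro r hr y' _
          rw [map_smul]
          refine Submodule.span_induction (p := fun r _ => r • P₀.mkQ y' ∈
            Ideal.span (Set.range (fun i : Fin t => f i.succ)) • (⊤ : Submodule R (M ⧸ P₀)))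
            ?_ ?_ ?_ ?_ hr
          · rintro _ ⟨i, rfl⟩
            refine Fin.cases ?_ (fun j => ?_) i
            · have h0 : f 0 • P₀.mkQ y' = 0 := by
                rw [← map_smul, Submodule.mkQ_apply, Submodule.Quotient.mk_eq_zero, hP₀]
                exact Submodule.smul_mem_pointwise_smul _ _ _ Submodule.mem_top
              rw [h0]
              exact Submodule.zero_mem _
            · exact Submodule.smul_mem_smul (Ideal.subset_span ⟨j, rfl⟩) Submodule.mem_top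
          · rw [zero_smul]
            exact Submodule.zero_mem _
          · intro r r' _ _ h h'
            rw [add_smul]
            exact Submodule.add_mem _ h h'
          · intro c r _ h
            rw [smul_eq_mul, mul_smul]
            exact Submodule.smul_mem _ c h
        · intro y₁ y₂ h₁ h₂
          rw [map_add]
          exact Submodule.add_mem _ h₁ h₂
      · rw [Submodule.smul_le]
        intro r hr z _
        obtain ⟨y, rfl⟩ := P₀.mkQ_surjective z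
        rw [LinearMap.mem_ker, ← map_smul, hπ']
        have h1 : r • y ∈ LinearMap.ker π := by
          rw [hπk]
          refine Submodule.smul_mem_smul (Ideal.span_mono ?_ hr) Submodule.mem_top
          rintro _ ⟨j, rfl⟩
          exact ⟨j.succ, rfl⟩
        exact h1
    have hreg'' : RingTheory.Sequence.IsRegular (M ⧸ P₀)
        (List.ofFn (fun i : Fin t => f i.succ)) := by
      rw [hP₀]
      exact hreg'
    have hfin' : Module.Finite R (M ⧸ P₀) := inferInstance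
    have htd' : t ≤ d' := by omega
    have key := @ih (M ⧸ P₀) (Submodule.Quotient.addCommGroup P₀) (Submodule.Quotient.module P₀)
      hfin' (quotGr ℳ P₀) (quotDecomp ℳ P₀ hP₀h) (quot_gsmul 𝒜 ℳ P₀) E' d' htd' hvan' hdim'
      (fun i => f i.succ)
      (fun i => deg i.succ) (fun i => hfdeg i.succ) (fun i => hfm i.succ) hreg'' N _ _ 𝒩 _ _ π'
      hπ'g hπ's hπ'k F
    rw [show d' + 1 - (t + 1) = d' - t from by omega, key, hend, Fin.sum_univ_succ, add_assoc,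
      ← WithBot.coe_add, ← WithTop.coe_add]

/-! ### the main theorem -/

theorem main18645 (R : Type u) [CommRing R] [hCM : LocCoh.IsCohenMacaulayRing R]
    (𝒜 : ℤ → AddSubgroup R) [GradedRing 𝒜] (hpos : ∀ n : ℤ, n < 0 → 𝒜 n = ⊥)
    (h0 : IsField (GrLC.deg0 𝒜)) (m : HomogeneousIdeal 𝒜) (hm : GrLC.IsStarLocal 𝒜 m)
    (hmsp : m.toIdeal = Ideal.span (⋃ n ∈ Set.Ioi (0 : ℤ), (𝒜 n : Set R))) (n : ℕ)
    (hn : ringKrullDim R = n) (I : GrLC.StarInjRes 𝒜 𝒜) (t : ℕ) (htn : t ≤ n) (f : Fin t → R)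
    (deg : Fin t → ℤ) (hfdeg : ∀ i, f i ∈ 𝒜 (deg i)) (hfm : ∀ i, f i ∈ m.toIdeal)
    (hreg : RingTheory.Sequence.IsRegular R (List.ofFn f)) (N : Type u) [AddCommGroup N]
    [Module R N] (𝒩 : ℤ → AddSubgroup N) [DirectSum.Decomposition 𝒩] [SetLike.GradedSMul 𝒜 𝒩]
    (π : R →ₗ[R] N) (hπ : GrLC.IsGrHom 𝒜 𝒩 π) (hπs : Function.Surjective π)
    (hπk : LinearMap.ker π = Ideal.span (Set.range f)) (F : GrLC.StarInjRes 𝒜 𝒩) :
    GrLC.endDeg (F.Hgr m (n - t)) = GrLC.endDeg (I.Hgr m n) +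
      ((((Finset.univ : Finset (Fin t)).sum deg : ℤ) : WithTop ℤ) : WithBot (WithTop ℤ)) := by
  haveI : IsNoetherianRing R := hCM.toIsNoetherian
  have hht : m.toIdeal.height = n := by
    have h1 := Groth.Agent.Lib.GorCanH1.ringKrullDim_eq_height 𝒜 hpos h0 m hm
    rw [hn] at h1
    exact (WithBot.coe_injective h1).symm
  have hvan : ∀ i, i ≠ n → Subsingleton (I.H m i) := by
    intro i hi
    rcases lt_or_gt_of_ne hi with h | h
    · exact H_subsingleton_of_lt 𝒜 m hm n hht I i h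
    · exact H_subsingleton_of_gt 𝒜 m hm n hht I i h
  have hdim : Module.supportDim R R ≤ (n : WithBot ℕ∞) := by
    rw [Module.supportDim_self_eq_ringKrullDim, hn]
  have hπk' : LinearMap.ker π = Ideal.span (Set.range f) • (⊤ : Submodule R R) := by
    rw [hπk, smul_eq_mul, Ideal.mul_top]
  exact endDeg_regular 𝒜 hpos m hmsp t R 𝒜 I n htn hvan hdim f deg hfdeg hfm hreg N 𝒩 π hπ hπs
    hπk' F

end Groth.Agent.Lib.AInvH1
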