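import Mathlib
import Groth.Prelude.Def_GrLC
import Groth.Agent.Lib.GrLES4_helper1

/-! Lengths of graded pieces, Euler characteristics of long exact sequences of graded local
cohomology (towards the Grothendieck–Serre formula, S17770) (helper1). -/

set_option autoImplicit false

namespace Groth.Agent.Lib.GrHS1H1

open DirectSum GrLC Groth.Agent.Lib.GrStarH1 Groth.Agent.Lib.GrStar2H1 Groth.Agent.Lib.GrStar3H1
  Groth.Agent.Lib.GrStar4H1 Groth.Agent.Lib.GrLES1H1 Groth.Agent.Lib.GrLES2H1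
  Groth.Agent.Lib.GrLES3H1 Groth.Agent.Lib.GrHDecH1 Groth.Agent.Lib.GrLES4H1

universe u

/-! ### lengths -/
section len

variable {S₀ : Type*} [Ring S₀] {X Y : Type*} [AddCommGroup X] [Module S₀ X]
  [AddCommGroup Y] [Module S₀ Y]

theorem length_split (f : X →ₗ[S₀] Y) (P : Submodule S₀ X) :
    Module.length S₀ P =
      Module.length S₀ ↥(P ⊓ LinearMap.ker f) + Module.length S₀ ↥(P.map f) := by
  have hg : ∀ x : ↥P, (f.domRestrict P) x ∈ P.map f := fun x => ⟨x.1, x.2, rfl⟩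
  refine Module.length_eq_add_of_exact
    (Submodule.inclusion (inf_le_left : P ⊓ LinearMap.ker f ≤ P))
    ((f.domRestrict P).codRestrict (P.map f) hg)
    (Submodule.inclusion_injective _) ?_ ?_
  · rintro ⟨_, x, hx, rfl⟩
    exact ⟨⟨x, hx⟩, rfl⟩
  · intro x
    constructor
    · intro hx
      have h0 : f x.1 = 0 := congrArg Subtype.val hx
      exact ⟨⟨x.1, Submodule.mem_inf.2 ⟨x.2, LinearMap.mem_ker.2 h0⟩⟩, rfl⟩
    · rintro ⟨y, rfl⟩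
      exact Subtype.ext (LinearMap.mem_ker.1 (Submodule.mem_inf.1 y.2).2)

theorem lq_split (f : X →ₗ[S₀] Y) (P : Submodule S₀ X) (hP : Module.length S₀ P ≠ ⊤) :
    ((Module.length S₀ P).toNat : ℚ) =
      ((Module.length S₀ ↥(P ⊓ LinearMap.ker f)).toNat : ℚ) +
        ((Module.length S₀ ↥(P.map f)).toNat : ℚ) := by
  have h := length_split f P
  have h1 : Module.length S₀ ↥(P ⊓ LinearMap.ker f) ≠ ⊤ := fun h' => hP (by rw [h, h', top_add])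
  have h2 : Module.length S₀ ↥(P.map f) ≠ ⊤ := fun h' => hP (by rw [h, h', add_top])
  rw [h, ENat.toNat_add h1 h2, Nat.cast_add]

theorem length_map_of_injective (f : X →ₗ[S₀] Y) (hf : Function.Injective f)
    (P : Submodule S₀ X) : Module.length S₀ ↥(P.map f) = Module.length S₀ P :=
  (Submodule.equivMapOfInjective f hf P).length_eq.symm

theorem length_eq_zero_of_eq_bot {P : Submodule S₀ X} (h : P = ⊥) : Module.length S₀ P = 0 := by
  rw [h]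
  exact Module.length_bot

theorem toNat_add_of_ne_top {x y z : ℕ∞} (h : x = y + z) (hx : x ≠ ⊤) :
    (x.toNat : ℚ) = (y.toNat : ℚ) + (z.toNat : ℚ) := by
  have h1 : y ≠ ⊤ := fun h' => hx (by rw [h, h', top_add])
  have h2 : z ≠ ⊤ := fun h' => hx (by rw [h, h', add_top])
  rw [h, ENat.toNat_add h1 h2, Nat.cast_add]

end len

/-! ### the telescoping sum -/
section euler

theorem euler_tel (α β γ u v w : ℕ → ℚ) (h0 : α 0 = u 0)
    (hα : ∀ i, α (i + 1) = w i + u (i + 1)) (hβ : ∀ i, β i = u i + v i)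
    (hγ : ∀ i, γ i = v i + w i) (D : ℕ) :
    ∑ i ∈ Finset.range (D + 1), (-1 : ℚ) ^ i * (α i - β i + γ i) = (-1) ^ D * w D := by
  induction D with
  | zero =>
    rw [Finset.sum_range_one, h0, hβ 0, hγ 0]
    ring
  | succ D ih =>
    rw [Finset.sum_range_succ, ih, hα D, hβ (D + 1), hγ (D + 1), pow_succ]
    ring

theorem euler_sum (α β γ u v w : ℕ → ℚ) (h0 : α 0 = u 0)
    (hα : ∀ i, α (i + 1) = w i + u (i + 1)) (hβ : ∀ i, β i = u i + v i)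
    (hγ : ∀ i, γ i = v i + w i) (D : ℕ) (hw : w D = 0) :
    ∑ i ∈ Finset.range (D + 1), (-1 : ℚ) ^ i * β i =
      ∑ i ∈ Finset.range (D + 1), (-1 : ℚ) ^ i * α i +
        ∑ i ∈ Finset.range (D + 1), (-1 : ℚ) ^ i * γ i := by
  have h := euler_tel α β γ u v w h0 hα hβ hγ D
  rw [hw, mul_zero] at h
  have h2 : ∑ i ∈ Finset.range (D + 1), (-1 : ℚ) ^ i * (α i - β i + γ i) =
      ∑ i ∈ Finset.range (D + 1), (-1 : ℚ) ^ i * α i -
        ∑ i ∈ Finset.range (D + 1), (-1 : ℚ) ^ i * β i +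
          ∑ i ∈ Finset.range (D + 1), (-1 : ℚ) ^ i * γ i := by
    simp only [mul_add, mul_sub, Finset.sum_add_distrib, Finset.sum_sub_distrib]
  rw [h2] at h
  linarith

end euler

/-! ### graded pieces -/
section graded

variable {ι : Type} [AddCommGroup ι] [DecidableEq ι]
variable {R : Type u} [CommRing R] (𝒜 : ι → AddSubgroup R) [GradedRing 𝒜]

theorem piece_inf_ker {X Y Z : Type u} [AddCommGroup X] [Module R X] [AddCommGroup Y]
    [Module R Y] [AddCommGroup Z] [Module R Z] (𝒳 : ι → AddSubgroup X) [Decomposition 𝒳]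
    (𝒴 : ι → AddSubgroup Y) [Decomposition 𝒴] (f : X →ₗ[R] Y) (g : Y →ₗ[R] Z)
    (hf : IsGrHom 𝒳 𝒴 f) (h : LinearMap.ker g = LinearMap.range f) (n : ι)
    (Pn : Submodule (deg0 𝒜) X) (Qn : Submodule (deg0 𝒜) Y)
    (hP : ∀ x, x ∈ Pn ↔ x ∈ 𝒳 n) (hQ : ∀ y, y ∈ Qn ↔ y ∈ 𝒴 n) :
    Qn ⊓ LinearMap.ker (g.restrictScalars (deg0 𝒜)) =
      Pn.map (f.restrictScalars (deg0 𝒜)) := by
  ext y
  rw [Submodule.mem_inf, LinearMap.mem_ker, Submodule.mem_map]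
  constructor
  · rintro ⟨hy, hgy⟩
    obtain ⟨x, hx, hxy⟩ := piece_exact 𝒳 𝒴 f g hf h ((hQ y).1 hy) hgy
    exact ⟨x, (hP x).2 hx, hxy⟩
  · rintro ⟨x, hx, rfl⟩
    refine ⟨(hQ _).2 (hf n x ((hP x).1 hx)), ?_⟩
    have h1 : f x ∈ LinearMap.ker g := by
      rw [h]
      exact ⟨x, rfl⟩
    exact h1

/-- rational length of the image of a piece -/
noncomputable def lqm {X Y : Type u} [AddCommGroup X] [Module R X] [AddCommGroup Y] [Module R Y]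
    (P : Submodule (deg0 𝒜) X) (f : X →ₗ[R] Y) : ℚ :=
  ((Module.length (deg0 𝒜) ↥(P.map (f.restrictScalars (deg0 𝒜)))).toNat : ℚ)

theorem lq_piece {X Y Z : Type u} [AddCommGroup X] [Module R X] [AddCommGroup Y]
    [Module R Y] [AddCommGroup Z] [Module R Z] (𝒳 : ι → AddSubgroup X) [Decomposition 𝒳]
    (𝒴 : ι → AddSubgroup Y) [Decomposition 𝒴] (f : X →ₗ[R] Y) (g : Y →ₗ[R] Z)
    (hf : IsGrHom 𝒳 𝒴 f) (h : LinearMap.ker g = LinearMap.range f) (n : ι)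
    (Pn : Submodule (deg0 𝒜) X) (Qn : Submodule (deg0 𝒜) Y)
    (hP : ∀ x, x ∈ Pn ↔ x ∈ 𝒳 n) (hQ : ∀ y, y ∈ Qn ↔ y ∈ 𝒴 n)
    (hfin : Module.length (deg0 𝒜) Qn ≠ ⊤) :
    ((Module.length (deg0 𝒜) Qn).toNat : ℚ) = lqm 𝒜 Pn f + lqm 𝒜 Qn g := by
  unfold lqm
  rw [lq_split (g.restrictScalars (deg0 𝒜)) Qn hfin,
    piece_inf_ker 𝒜 𝒳 𝒴 f g hf h n Pn Qn hP hQ]

variable {𝒜}
variable {M' : Type u} [AddCommGroup M'] [Module R M'] {ℳ' : ι → AddSubgroup M'}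
  [Decomposition ℳ'] [SetLike.GradedSMul 𝒜 ℳ']
variable {M : Type u} [AddCommGroup M] [Module R M] {ℳ : ι → AddSubgroup M} [Decomposition ℳ]
  [SetLike.GradedSMul 𝒜 ℳ]
variable {M'' : Type u} [AddCommGroup M''] [Module R M''] {ℳ'' : ι → AddSubgroup M''}
  [Decomposition ℳ''] [SetLike.GradedSMul 𝒜 ℳ'']

/-- rational length of a piece of graded local cohomology -/
noncomputable def hq (E : StarInjRes 𝒜 ℳ) (a : HomogeneousIdeal 𝒜) (i : ℕ) (n : ι) : ℚ :=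
  ((Module.length (deg0 𝒜) (E.Hcomp a i n)).toNat : ℚ)

/-- the (truncated) Euler characteristic of graded local cohomology in degree `n` -/
noncomputable def chi (E : StarInjRes 𝒜 ℳ) (a : HomogeneousIdeal 𝒜) (D : ℕ) (n : ι) : ℚ :=
  ∑ i ∈ Finset.range (D + 1), (-1 : ℚ) ^ i * hq E a i n

theorem chi_add (S : SES R ℳ' ℳ ℳ'') (E' : StarInjRes 𝒜 ℳ') (E : StarInjRes 𝒜 ℳ)
    (E'' : StarInjRes 𝒜 ℳ'') (φ : CMap E' E) (hφ : ∀ m, φ.f 0 (E'.ε m) = E.ε (S.u m))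
    (ψ : CMap E E'') (hψ : ∀ m, ψ.f 0 (E.ε m) = E''.ε (S.p m)) (a : HomogeneousIdeal 𝒜)
    (n : ι) (D : ℕ)
    (hf' : ∀ i, Module.length (deg0 𝒜) (E'.Hcomp a i n) ≠ ⊤)
    (hf : ∀ i, Module.length (deg0 𝒜) (E.Hcomp a i n) ≠ ⊤)
    (hf'' : ∀ i, Module.length (deg0 𝒜) (E''.Hcomp a i n) ≠ ⊤)
    (hvan : E'.Hcomp a (D + 1) n = ⊥) :
    chi E a D n = chi E' a D n + chi E'' a D n := by
  obtain ⟨hinj, hles⟩ := les S E' E E'' φ hφ ψ hψ a
  choose hmid δ hδgr hright hleft using hles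
  have h0 : hq E' a 0 n = lqm 𝒜 (E'.Hcomp a 0 n) (φ.H a 0) := by
    unfold hq lqm
    rw [lq_split ((φ.H a 0).restrictScalars (deg0 𝒜)) (E'.Hcomp a 0 n) (hf' 0)]
    have hb : E'.Hcomp a 0 n ⊓ LinearMap.ker ((φ.H a 0).restrictScalars (deg0 𝒜)) = ⊥ := by
      rw [eq_bot_iff]
      rintro y ⟨-, hy⟩
      exact (Submodule.mem_bot _).2 (hinj (by rw [map_zero]; exact hy))
    rw [length_eq_zero_of_eq_bot hb]
    simp
  have hα : ∀ i, hq E' a (i + 1) n =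
      lqm 𝒜 (E''.Hcomp a i n) (δ i) + lqm 𝒜 (E'.Hcomp a (i + 1) n) (φ.H a (i + 1)) := by
    intro i
    letI := HDecomp 𝒜 ℳ'' a E'' i
    letI := HDecomp 𝒜 ℳ' a E' (i + 1)
    exact lq_piece 𝒜 (E''.Hgr a i) (E'.Hgr a (i + 1)) (δ i) (φ.H a (i + 1)) (hδgr i) (hleft i) n
      (E''.Hcomp a i n) (E'.Hcomp a (i + 1) n) (fun _ => Iff.rfl) (fun _ => Iff.rfl) (hf' (i + 1))
  have hβ : ∀ i, hq E a i n =
      lqm 𝒜 (E'.Hcomp a i n) (φ.H a i) + lqm 𝒜 (E.Hcomp a i n) (ψ.H a i) := by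
    intro i
    letI := HDecomp 𝒜 ℳ' a E' i
    letI := HDecomp 𝒜 ℳ a E i
    exact lq_piece 𝒜 (E'.Hgr a i) (E.Hgr a i) (φ.H a i) (ψ.H a i) (φ.H_gr a i) (hmid i) n
      (E'.Hcomp a i n) (E.Hcomp a i n) (fun _ => Iff.rfl) (fun _ => Iff.rfl) (hf i)
  have hγ : ∀ i, hq E'' a i n =
      lqm 𝒜 (E.Hcomp a i n) (ψ.H a i) + lqm 𝒜 (E''.Hcomp a i n) (δ i) := by
    intro i
    letI := HDecomp 𝒜 ℳ a E i
    letI := HDecomp 𝒜 ℳ'' a E'' i
    exact lq_piece 𝒜 (E.Hgr a i) (E''.Hgr a i) (ψ.H a i) (δ i) (ψ.H_gr a i) (hright i) n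
      (E.Hcomp a i n) (E''.Hcomp a i n) (fun _ => Iff.rfl) (fun _ => Iff.rfl) (hf'' i)
  have hw : lqm 𝒜 (E''.Hcomp a D n) (δ D) = 0 := by
    unfold lqm
    have hb : (E''.Hcomp a D n).map ((δ D).restrictScalars (deg0 𝒜)) = ⊥ := by
      rw [eq_bot_iff]
      rintro _ ⟨y, hy, rfl⟩
      have h1 : δ D y ∈ E'.Hcomp a (D + 1) n := hδgr D n y hy
      rw [hvan] at h1
      exact h1
    rw [length_eq_zero_of_eq_bot hb]
    simp
  exact euler_sum (fun i => hq E' a i n) (fun i => hq E a i n) (fun i => hq E'' a i n)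
    (fun i => lqm 𝒜 (E'.Hcomp a i n) (φ.H a i)) (fun i => lqm 𝒜 (E.Hcomp a i n) (ψ.H a i))
    (fun i => lqm 𝒜 (E''.Hcomp a i n) (δ i)) h0 hα hβ hγ D hw

/-! ### Hilbert functions -/

variable (𝒜)

/-- the Hilbert function -/
noncomputable def hM (ℳ : ι → AddSubgroup M) [SetLike.GradedSMul 𝒜 ℳ] (n : ι) : ℚ :=
  ((Module.length (deg0 𝒜) (comp 𝒜 ℳ n)).toNat : ℚ)

variable {𝒜}

theorem len_ses (S : SES R ℳ' ℳ ℳ'') (n : ι) :
    Module.length (deg0 𝒜) (comp 𝒜 ℳ n) =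
      Module.length (deg0 𝒜) (comp 𝒜 ℳ' n) + Module.length (deg0 𝒜) (comp 𝒜 ℳ'' n) := by
  rw [length_split (S.p.restrictScalars (deg0 𝒜)) (comp 𝒜 ℳ n)]
  have h1 : comp 𝒜 ℳ n ⊓ LinearMap.ker (S.p.restrictScalars (deg0 𝒜)) =
      (comp 𝒜 ℳ' n).map (S.u.restrictScalars (deg0 𝒜)) :=
    piece_inf_ker 𝒜 ℳ' ℳ S.u S.p S.hu S.exact n _ _ (fun _ => Iff.rfl) (fun _ => Iff.rfl)
  have h2 : (comp 𝒜 ℳ n).map (S.p.restrictScalars (deg0 𝒜)) = comp 𝒜 ℳ'' n := by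
    have hz : LinearMap.ker (0 : M'' →ₗ[R] M'') = LinearMap.range S.p := by
      rw [LinearMap.ker_zero, LinearMap.range_eq_top.2 S.surj]
    have h3 := piece_inf_ker 𝒜 ℳ ℳ'' S.p (0 : M'' →ₗ[R] M'') S.hp hz n (comp 𝒜 ℳ n)
      (comp 𝒜 ℳ'' n) (fun _ => Iff.rfl) (fun _ => Iff.rfl)
    rw [← h3]
    exact inf_eq_left.2 (fun y _ => LinearMap.mem_ker.2 rfl)
  have hinj : Function.Injective (S.u.restrictScalars (deg0 𝒜)) := S.inj
  rw [h1, h2, length_map_of_injective _ hinj]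

theorem hM_ses (S : SES R ℳ' ℳ ℳ'') (n : ι)
    (hfin : Module.length (deg0 𝒜) (comp 𝒜 ℳ n) ≠ ⊤) :
    hM 𝒜 ℳ n = hM 𝒜 ℳ' n + hM 𝒜 ℳ'' n :=
  toNat_add_of_ne_top (len_ses S n) hfin

/-! ### `H⁰` of a torsion module -/

theorem length_H0_of_torsion (E : StarInjRes 𝒜 ℳ) (a : HomogeneousIdeal 𝒜)
    (htors : gam a.toIdeal M = ⊤) (n : ι) :
    Module.length (deg0 𝒜) (E.Hcomp a 0 n) = Module.length (deg0 𝒜) (comp 𝒜 ℳ n) := by
  have hmap : (E.Hcomp a 0 n).map ((Psi0 E a).restrictScalars (deg0 𝒜)) = comp 𝒜 ℳ n := by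
    ext x
    constructor
    · rintro ⟨y, hy, rfl⟩
      exact Psi0_mem_gr E a n y hy
    · intro hx
      have hxg : x ∈ gam a.toIdeal M := by
        rw [htors]
        exact Submodule.mem_top
      have h1 : E.ε x ∈ gam a.toIdeal (E.X 0).carrier := map_mem_gam E.ε hxg
      refine ⟨E.toH a 0 (mkZ a E 0 (E.ε x) h1 (d_ε E x)),
        ⟨mkZ a E 0 (E.ε x) h1 (d_ε E x), E.ε_grHom n x hx, rfl⟩, ?_⟩
      apply E.ε_injective
      exact ε_Psi0 E a (mkZ a E 0 (E.ε x) h1 (d_ε E x))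
  have hinj : Function.Injective ((Psi0 E a).restrictScalars (deg0 𝒜)) := Psi0_injective E a
  rw [← hmap, length_map_of_injective _ hinj]

/-! ### change of the supporting ideal -/

theorem cocyc_le_of_gam_le (E : StarInjRes 𝒜 ℳ) (a b : HomogeneousIdeal 𝒜)
    (h : ∀ i, gam a.toIdeal (E.X i).carrier ≤ gam b.toIdeal (E.X i).carrier) (i : ℕ) :
    E.cocyc a i ≤ E.cocyc b i := fun _ hz => ⟨h i hz.1, hz.2⟩

theorem cobdy_le_of_gam_le (E : StarInjRes 𝒜 ℳ) (a b : HomogeneousIdeal 𝒜)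
    (h : ∀ i, gam a.toIdeal (E.X i).carrier ≤ gam b.toIdeal (E.X i).carrier) (i : ℕ) :
    E.cobdy a i ≤ E.cobdy b i := by
  cases i with
  | zero => exact le_refl _
  | succ k =>
    rintro _ ⟨w, hw, rfl⟩
    exact ⟨w, h k hw, rfl⟩

/-- the comparison map for two supporting ideals -/
noncomputable def Hmap (E : StarInjRes 𝒜 ℳ) (a b : HomogeneousIdeal 𝒜) (i : ℕ)
    (hc : E.cocyc a i ≤ E.cocyc b i) (hb : E.cobdy a i ≤ E.cobdy b i) :
    E.H a i →ₗ[R] E.H b i :=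
  Submodule.mapQ _ _ (Submodule.inclusion hc) (fun _ hz => hb hz)

theorem Hmap_toH (E : StarInjRes 𝒜 ℳ) (a b : HomogeneousIdeal 𝒜) (i : ℕ)
    (hc : E.cocyc a i ≤ E.cocyc b i) (hb : E.cobdy a i ≤ E.cobdy b i) (z : ↥(E.cocyc a i)) :
    Hmap E a b i hc hb (E.toH a i z) = E.toH b i (Submodule.inclusion hc z) := rfl

theorem length_Hcomp_congr (E : StarInjRes 𝒜 ℳ) (a b : HomogeneousIdeal 𝒜)
    (h : ∀ i, gam a.toIdeal (E.X i).carrier = gam b.toIdeal (E.X i).carrier) (i : ℕ) (n : ι) :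
    Module.length (deg0 𝒜) (E.Hcomp a i n) = Module.length (deg0 𝒜) (E.Hcomp b i n) := by
  have hab : ∀ i, gam a.toIdeal (E.X i).carrier ≤ gam b.toIdeal (E.X i).carrier :=
    fun i => (h i).le
  have hba : ∀ i, gam b.toIdeal (E.X i).carrier ≤ gam a.toIdeal (E.X i).carrier :=
    fun i => (h i).ge
  obtain ⟨Φ, hΦ⟩ : ∃ Φ : E.H a i →ₗ[R] E.H b i, ∀ z : ↥(E.cocyc a i),
      Φ (E.toH a i z) = E.toH b i (Submodule.inclusion (cocyc_le_of_gam_le E a b hab i) z) :=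
    ⟨Hmap E a b i (cocyc_le_of_gam_le E a b hab i) (cobdy_le_of_gam_le E a b hab i),
      fun z => rfl⟩
  obtain ⟨Ψ, hΨ⟩ : ∃ Ψ : E.H b i →ₗ[R] E.H a i, ∀ z : ↥(E.cocyc b i),
      Ψ (E.toH b i z) = E.toH a i (Submodule.inclusion (cocyc_le_of_gam_le E b a hba i) z) :=
    ⟨Hmap E b a i (cocyc_le_of_gam_le E b a hba i) (cobdy_le_of_gam_le E b a hba i),
      fun z => rfl⟩
  have hΨΦ : ∀ y, Ψ (Φ y) = y := by
    intro y
    obtain ⟨z, rfl⟩ := toH_surjective a E i y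
    rw [hΦ, hΨ]
    rfl
  have hinj : Function.Injective (Φ.restrictScalars (deg0 𝒜)) :=
    Function.LeftInverse.injective hΨΦ
  have hmap : (E.Hcomp a i n).map (Φ.restrictScalars (deg0 𝒜)) = E.Hcomp b i n := by
    ext y
    constructor
    · rintro ⟨x, ⟨z, hz, rfl⟩, rfl⟩
      exact ⟨Submodule.inclusion (cocyc_le_of_gam_le E a b hab i) z, hz, (hΦ z).symm⟩
    · rintro ⟨z', hz', rfl⟩
      refine ⟨E.toH a i (Submodule.inclusion (cocyc_le_of_gam_le E b a hba i) z'),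
        ⟨_, hz', rfl⟩, ?_⟩
      show Φ (E.toH a i (Submodule.inclusion (cocyc_le_of_gam_le E b a hba i) z')) = _
      rw [hΦ]
      rfl
  rw [← hmap, length_map_of_injective _ hinj]

end graded

end Groth.Agent.Lib.GrHS1H1
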