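import Mathlib
import Groth.Prelude.Def_GrLC
import Groth.Agent.Lib.GrHS1_helper1
import Groth.Agent.Lib.GrStarLC_helper1
import Groth.Agent.Lib.LocCohGV_helper7

/-! The Grothendieck–Serre formula for graded local cohomology with respect to the irrelevant
ideal, `R₀` Artinian (towards S17770) (helper1). -/

set_option autoImplicit false

namespace Groth.Agent.Lib.GrHS2H1

open DirectSum GrLC Groth.Agent.Lib.GrStarH1 Groth.Agent.Lib.GrStar2H1 Groth.Agent.Lib.GrStar3H1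
  Groth.Agent.Lib.GrStar4H1 Groth.Agent.Lib.GrLES1H1 Groth.Agent.Lib.GrLES2H1
  Groth.Agent.Lib.GrLES3H1 Groth.Agent.Lib.GrHDecH1 Groth.Agent.Lib.GrLES4H1
  Groth.Agent.Lib.GrHS1H1

open scoped Pointwise

universe u

attribute [local instance] shiftDecomp shift_gsmul

section fin

variable {S₀ : Type*} [CommRing S₀] [IsArtinianRing S₀]

theorem length_ne_top_of_finite (X : Type*) [AddCommGroup X] [Module S₀ X] [Module.Finite S₀ X] :
    Module.length S₀ X ≠ ⊤ := by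
  haveI : IsNoetherian S₀ X := isNoetherian_of_isNoetherianRing_of_finite S₀ X
  exact Module.length_ne_top

end fin

theorem wb_c {x : WithBot ℕ∞} {e : ℕ} (h : x + 1 ≤ (e : WithBot ℕ∞)) :
    x < (e : WithBot ℕ∞) := by
  induction x using WithBot.recBotCoe with
  | bot =>
    have : (⊥ : WithBot ℕ∞) < ((e : ℕ∞) : WithBot ℕ∞) := WithBot.bot_lt_coe _
    exact_mod_cast this
  | coe a' =>
    have h' : a' + 1 ≤ (e : ℕ∞) := by exact_mod_cast h
    have hne : a' ≠ ⊤ := by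
      intro h0
      rw [h0, top_add] at h'
      exact absurd h' (by simp)
    lift a' to ℕ using hne
    have h'' : a' + 1 ≤ e := by exact_mod_cast h'
    have h3 : a' < e := by omega
    exact_mod_cast h3

section general

variable {R : Type u} [CommRing R] {𝒜 : ℤ → AddSubgroup R} [GradedRing 𝒜]
variable {M : Type u} [AddCommGroup M] [Module R M] {ℳ : ℤ → AddSubgroup M} [Decomposition ℳ]
  [SetLike.GradedSMul 𝒜 ℳ]

theorem Hcomp_eq_bot_of_subsingleton (E : StarInjRes 𝒜 ℳ) (a : HomogeneousIdeal 𝒜) (i : ℕ)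
    (n : ℤ) [Subsingleton (E.H a i)] : E.Hcomp a i n = ⊥ := by
  rw [eq_bot_iff]
  intro y _
  rw [Subsingleton.elim y 0]
  exact Submodule.zero_mem _

theorem hq_eq_zero_of_subsingleton (E : StarInjRes 𝒜 ℳ) (a : HomogeneousIdeal 𝒜) (i : ℕ)
    (n : ℤ) [Subsingleton (E.H a i)] : hq E a i n = 0 := by
  unfold hq
  rw [length_eq_zero_of_eq_bot (Hcomp_eq_bot_of_subsingleton E a i n)]
  simp

end general

section main

variable {R : Type u} [CommRing R] [IsNoetherianRing R] (𝒜 : ℤ → AddSubgroup R) [GradedRing 𝒜]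
  (hpos : ∀ n : ℤ, n < 0 → 𝒜 n = ⊥) [IsArtinianRing (deg0 𝒜)] (a : HomogeneousIdeal 𝒜)
  (ha : a.toIdeal = Ideal.span (⋃ n ∈ Set.Ioi (0 : ℤ), (𝒜 n : Set R)))

include hpos ha in
theorem len_H_ne_top (M : Type u) [AddCommGroup M] [Module R M] [Module.Finite R M]
    (ℳ : ℤ → AddSubgroup M) [Decomposition ℳ] [SetLike.GradedSMul 𝒜 ℳ] (E : StarInjRes 𝒜 ℳ)
    (i : ℕ) (n : ℤ) : Module.length (deg0 𝒜) (E.Hcomp a i n) ≠ ⊤ := by
  haveI := main13226 𝒜 hpos a ha M ℳ E i n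
  exact length_ne_top_of_finite _

include hpos in
theorem len_comp_ne_top (M : Type u) [AddCommGroup M] [Module R M] [Module.Finite R M]
    (ℳ : ℤ → AddSubgroup M) [Decomposition ℳ] [SetLike.GradedSMul 𝒜 ℳ] (n : ℤ) :
    Module.length (deg0 𝒜) (comp 𝒜 ℳ n) ≠ ⊤ := by
  haveI : IsNoetherian R M := isNoetherian_of_isNoetherianRing_of_finite R M
  have hfg : (comp 𝒜 ℳ n).FG := piece_fg 𝒜 hpos ℳ n (comp 𝒜 ℳ n) (fun _ => Iff.rfl)
  haveI : Module.Finite (deg0 𝒜) ↥(comp 𝒜 ℳ n) := Module.Finite.iff_fg.2 hfg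
  exact length_ne_top_of_finite _

omit [IsArtinianRing (deg0 𝒜)] in
theorem H_subsingleton_of_torsion (M : Type u) [AddCommGroup M] [Module R M]
    (ℳ : ℤ → AddSubgroup M) [Decomposition ℳ] [SetLike.GradedSMul 𝒜 ℳ] (E : StarInjRes 𝒜 ℳ)
    (htors : gam a.toIdeal M = ⊤) (i : ℕ) : Subsingleton (E.H a (i + 1)) := by
  obtain ⟨e⟩ := GrStarLCH1.main13224 R 𝒜 a M ℳ E (i + 1)
  have ht : LocCoh.IsPowerTorsion a.toIdeal M := by
    intro y
    have hy : y ∈ gam a.toIdeal M := by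
      rw [htors]
      exact Submodule.mem_top
    obtain ⟨k, hk⟩ := hy
    exact ⟨k, hk⟩
  haveI := Groth.Agent.Lib.LocCohTorsVanishH7.H_subsingleton a.toIdeal M ht i
  exact e.toEquiv.subsingleton

omit [IsArtinianRing (deg0 𝒜)] in
theorem H_subsingleton_of_subsingleton (M : Type u) [AddCommGroup M] [Module R M]
    [Subsingleton M] (ℳ : ℤ → AddSubgroup M) [Decomposition ℳ] [SetLike.GradedSMul 𝒜 ℳ]
    (E : StarInjRes 𝒜 ℳ) (i : ℕ) : Subsingleton (E.H a i) := by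
  obtain ⟨e⟩ := GrStarLCH1.main13224 R 𝒜 a M ℳ E i
  haveI : Subsingleton (LocCoh.H a.toIdeal i M) := by
    apply Groth.Agent.Lib.LocCohGVH7.GV
    rw [Module.supportDim_eq_bot_of_subsingleton]
    have : (⊥ : WithBot ℕ∞) < ((i : ℕ∞) : WithBot ℕ∞) := WithBot.bot_lt_coe _
    exact_mod_cast this
  exact e.toEquiv.subsingleton

omit [IsArtinianRing (deg0 𝒜)] in
theorem zero_case (D : ℕ) (M : Type u) [AddCommGroup M] [Module R M] [Subsingleton M]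
    (ℳ : ℤ → AddSubgroup M) [Decomposition ℳ] [SetLike.GradedSMul 𝒜 ℳ] (E : StarInjRes 𝒜 ℳ)
    (P : Polynomial ℚ) (N₀ : ℤ) (hP : ∀ n : ℤ, N₀ ≤ n → P.eval (n : ℚ) = hM 𝒜 ℳ n) (n : ℤ) :
    hM 𝒜 ℳ n - P.eval (n : ℚ) = chi E a D n := by
  have h1 : ∀ k, hM 𝒜 ℳ k = 0 := by
    intro k
    have hb : comp 𝒜 ℳ k = ⊥ := by
      rw [eq_bot_iff]
      intro y _
      rw [Subsingleton.elim y 0]
      exact Submodule.zero_mem _
    unfold hM
    rw [length_eq_zero_of_eq_bot hb]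
    simp
  have h2 : P = 0 := by
    apply Polynomial.eq_zero_of_infinite_isRoot
    refine Set.infinite_of_injective_forall_mem (f := fun k : ℕ => ((N₀ + k : ℤ) : ℚ)) ?_ ?_
    · intro k l hkl
      have h3 : (N₀ + k : ℤ) = N₀ + l := Int.cast_injective (α := ℚ) hkl
      omega
    · intro k
      show Polynomial.IsRoot P _
      rw [Polynomial.IsRoot.def, hP _ (by omega), h1]
  have h3 : ∀ i, hq E a i n = 0 := by
    intro i
    haveI := H_subsingleton_of_subsingleton 𝒜 a M ℳ E i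
    exact hq_eq_zero_of_subsingleton E a i n
  rw [h1, h2, Polynomial.eval_zero, sub_zero]
  unfold chi
  rw [Finset.sum_eq_zero]
  intro i _
  rw [h3, mul_zero]

include hpos ha in
theorem torsion_step (D : ℕ)
    (hD : ∀ (L : Type u) [AddCommGroup L] [Module R L] (𝓛 : ℤ → AddSubgroup L) [Decomposition 𝓛]
      [SetLike.GradedSMul 𝒜 𝓛] (EL : StarInjRes 𝒜 𝓛) (i : ℕ), D < i → Subsingleton (EL.H a i))
    (M : Type u) [AddCommGroup M] [Module R M] [Module.Finite R M]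
    (ℳ : ℤ → AddSubgroup M) [Decomposition ℳ] [SetLike.GradedSMul 𝒜 ℳ]
    (N : Type u) [AddCommGroup N] [Module R N] (𝒩 : ℤ → AddSubgroup N) [Decomposition 𝒩]
    [SetLike.GradedSMul 𝒜 𝒩] (π : M →ₗ[R] N) (hπg : IsGrHom ℳ 𝒩 π)
    (hπs : Function.Surjective π) (hker : LinearMap.ker π = gam a.toIdeal M)
    (EN : StarInjRes 𝒜 𝒩)
    (hN : ∀ (P : Polynomial ℚ) (N₁ : ℤ), (∀ n : ℤ, N₁ ≤ n → P.eval (n : ℚ) = hM 𝒜 𝒩 n) →
      ∀ n : ℤ, hM 𝒜 𝒩 n - P.eval (n : ℚ) = chi EN a D n)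
    (E : StarInjRes 𝒜 ℳ) (P : Polynomial ℚ) (N₀ : ℤ)
    (hP : ∀ n : ℤ, N₀ ≤ n → P.eval (n : ℚ) = hM 𝒜 ℳ n) (n : ℤ) :
    hM 𝒜 ℳ n - P.eval (n : ℚ) = chi E a D n := by
  haveI : IsNoetherian R M := isNoetherian_of_isNoetherianRing_of_finite R M
  haveI : Module.Finite R N := Module.Finite.of_surjective π hπs
  have hT : (gam a.toIdeal M).IsHomogeneous ℳ := gam_isHomogeneous 𝒜 ℳ a
  letI := subDecomp ℳ (gam a.toIdeal M) hT
  haveI := sub_gsmul 𝒜 ℳ (gam a.toIdeal M)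
  haveI : Module.Finite R ↥(gam a.toIdeal M) := Module.IsNoetherian.finite R _
  let S : SES R (subGr ℳ (gam a.toIdeal M)) ℳ 𝒩 :=
    { u := (gam a.toIdeal M).subtype
      p := π
      hu := subtype_isGrHom ℳ _
      hp := hπg
      inj := Subtype.val_injective
      surj := hπs
      exact := by rw [hker, Submodule.range_subtype] }
  obtain ⟨ET⟩ := main13215 𝒜 (subGr ℳ (gam a.toIdeal M))
  obtain ⟨φ, hφ⟩ := exists_lift ET E S.u S.hu
  obtain ⟨ψ, hψ⟩ := exists_lift E EN S.p S.hp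
  haveI := hD ↥(gam a.toIdeal M) (subGr ℳ (gam a.toIdeal M)) ET (D + 1) (Nat.lt_succ_self D)
  have hadd := chi_add S ET E EN φ hφ ψ hψ a n D
    (fun i => len_H_ne_top 𝒜 hpos a ha _ _ ET i n)
    (fun i => len_H_ne_top 𝒜 hpos a ha M ℳ E i n)
    (fun i => len_H_ne_top 𝒜 hpos a ha N 𝒩 EN i n)
    (Hcomp_eq_bot_of_subsingleton ET a (D + 1) n)
  have htors : gam a.toIdeal ↥(gam a.toIdeal M) = ⊤ := by
    rw [eq_top_iff]
    intro y _
    obtain ⟨k, hk⟩ := y.2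
    exact ⟨k, fun r hr => Subtype.ext (hk r hr)⟩
  have hchiT : chi ET a D n = hM 𝒜 (subGr ℳ (gam a.toIdeal M)) n := by
    unfold chi
    rw [Finset.sum_range_succ']
    have h1 : ∑ i ∈ Finset.range D, (-1 : ℚ) ^ (i + 1) * hq ET a (i + 1) n = 0 := by
      apply Finset.sum_eq_zero
      intro i _
      haveI := H_subsingleton_of_torsion 𝒜 a _ (subGr ℳ (gam a.toIdeal M)) ET htors i
      rw [hq_eq_zero_of_subsingleton, mul_zero]
    rw [h1, zero_add, pow_zero, one_mul]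
    unfold hq hM
    rw [length_H0_of_torsion ET a htors n]
  have hsum : ∀ k, hM 𝒜 ℳ k = hM 𝒜 (subGr ℳ (gam a.toIdeal M)) k + hM 𝒜 𝒩 k := fun k =>
    hM_ses S k (len_comp_ne_top 𝒜 hpos M ℳ k)
  obtain ⟨n₀, hn₀⟩ := gam_bounded 𝒜 ℳ a ha
  have hTz : ∀ k, n₀ ≤ k → hM 𝒜 (subGr ℳ (gam a.toIdeal M)) k = 0 := by
    intro k hk
    have hb : comp 𝒜 (subGr ℳ (gam a.toIdeal M)) k = ⊥ := by
      rw [eq_bot_iff]
      intro y hy
      have h1 : (y : M) = 0 := hn₀ k hk y.1 y.2 hy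
      exact (Submodule.mem_bot _).2 (Subtype.ext h1)
    unfold hM
    rw [length_eq_zero_of_eq_bot hb]
    simp
  have hPN : ∀ k : ℤ, max N₀ n₀ ≤ k → P.eval (k : ℚ) = hM 𝒜 𝒩 k := by
    intro k hk
    rw [hP k (le_trans (le_max_left _ _) hk), hsum k,
      hTz k (le_trans (le_max_right _ _) hk), zero_add]
  have hNn := hN P (max N₀ n₀) hPN n
  rw [hadd, hchiT, ← hNn, hsum n]
  ring

include hpos ha in
theorem regular_step (D : ℕ)
    (N : Type u) [AddCommGroup N] [Module R N] [Module.Finite R N] (𝒩 : ℤ → AddSubgroup N)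
    [Decomposition 𝒩] [SetLike.GradedSMul 𝒜 𝒩] {t : ℤ} (ht : 0 < t) {x : R} (hx : x ∈ 𝒜 t)
    (hreg : IsSMulRegular N x)
    (C : Type u) [AddCommGroup C] [Module R C] (𝒞 : ℤ → AddSubgroup C) [Decomposition 𝒞]
    [SetLike.GradedSMul 𝒜 𝒞] (π : N →ₗ[R] C) (hπg : IsGrHom 𝒩 𝒞 π)
    (hπs : Function.Surjective π)
    (hker : LinearMap.ker π = LinearMap.range (LinearMap.lsmul R N x))
    (EC : StarInjRes 𝒜 𝒞)
    (hC : ∀ (PC : Polynomial ℚ) (N₁ : ℤ), (∀ n : ℤ, N₁ ≤ n → PC.eval (n : ℚ) = hM 𝒜 𝒞 n) →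
      ∀ n : ℤ, hM 𝒜 𝒞 n - PC.eval (n : ℚ) = chi EC a D n)
    (EN : StarInjRes 𝒜 𝒩) (hDN : Subsingleton (EN.H a (D + 1)))
    (P : Polynomial ℚ) (N₀ : ℤ)
    (hP : ∀ n : ℤ, N₀ ≤ n → P.eval (n : ℚ) = hM 𝒜 𝒩 n) (n : ℤ) :
    hM 𝒜 𝒩 n - P.eval (n : ℚ) = chi EN a D n := by
  haveI : Module.Finite R C := Module.Finite.of_surjective π hπs
  obtain ⟨S, hS⟩ : ∃ S : SES R (shiftGr 𝒩 (-t)) 𝒩 𝒞, S = mulSES 𝒜 hx hreg π hπg hπs hker :=
    ⟨_, rfl⟩
  obtain ⟨φ, hφd⟩ : ∃ φ : CMap (shiftRes 𝒜 EN (-t)) EN, φ = mulMap 𝒜 EN hx := ⟨_, rfl⟩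
  have hφ : ∀ m, φ.f 0 ((shiftRes 𝒜 EN (-t)).ε m) = EN.ε (S.u m) := fun m => by
    rw [hφd, hS]
    exact (map_smul EN.ε x m).symm
  obtain ⟨ψ, hψ⟩ := exists_lift EN EC π hπg
  have hψ' : ∀ m, ψ.f 0 (EN.ε m) = EC.ε (S.p m) := fun m => by
    rw [hS]
    exact hψ m
  haveI : Subsingleton ((shiftRes 𝒜 EN (-t)).H a (D + 1)) := hDN
  have hadd : ∀ k, chi EN a D k = chi (shiftRes 𝒜 EN (-t)) a D k + chi EC a D k := fun k =>
    chi_add S (shiftRes 𝒜 EN (-t)) EN EC φ hφ ψ hψ' a k D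
      (fun i => len_H_ne_top 𝒜 hpos a ha N (shiftGr 𝒩 (-t)) (shiftRes 𝒜 EN (-t)) i k)
      (fun i => len_H_ne_top 𝒜 hpos a ha N 𝒩 EN i k)
      (fun i => len_H_ne_top 𝒜 hpos a ha C 𝒞 EC i k)
      (Hcomp_eq_bot_of_subsingleton (shiftRes 𝒜 EN (-t)) a (D + 1) k)
  have hshift : ∀ k, chi (shiftRes 𝒜 EN (-t)) a D k = chi EN a D (-t + k) := fun k => rfl
  have hshiftM : ∀ k, hM 𝒜 (shiftGr 𝒩 (-t)) k = hM 𝒜 𝒩 (-t + k) := fun k => rfl
  have hsum : ∀ k, hM 𝒜 𝒩 k = hM 𝒜 𝒩 (-t + k) + hM 𝒜 𝒞 k := fun k => by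
    rw [← hshiftM k]
    exact hM_ses S k (len_comp_ne_top 𝒜 hpos N 𝒩 k)
  obtain ⟨PC, hPCdef⟩ : ∃ PC : Polynomial ℚ, ∀ y : ℚ,
      PC.eval y = P.eval y - P.eval (y - (t : ℚ)) :=
    ⟨P - P.comp (Polynomial.X - Polynomial.C (t : ℚ)), fun y => by
      rw [Polynomial.eval_sub, Polynomial.eval_comp, Polynomial.eval_sub, Polynomial.eval_X,
        Polynomial.eval_C]⟩
  have ecast : ∀ k : ℤ, ((k : ℚ) - (t : ℚ)) = ((-t + k : ℤ) : ℚ) := fun k => by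
    push_cast
    ring
  have hPC : ∀ k : ℤ, N₀ + t ≤ k → PC.eval (k : ℚ) = hM 𝒜 𝒞 k := by
    intro k hk
    rw [hPCdef, ecast, hP k (by omega), hP (-t + k) (by omega), hsum k]
    ring
  have hCk := hC PC (N₀ + t) hPC
  have hf : ∀ k : ℤ, hM 𝒜 𝒩 k - P.eval (k : ℚ) - chi EN a D k =
      hM 𝒜 𝒩 (-t + k) - P.eval ((-t + k : ℤ) : ℚ) - chi EN a D (-t + k) := by
    intro k
    have h1 := hCk k
    rw [hPCdef, ecast] at h1
    rw [hsum k, hadd k, hshift k]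
    linarith
  obtain ⟨r, hr⟩ := main13227 𝒜 hpos a ha N 𝒩 EN
  have hzero : ∀ k : ℤ, max N₀ r ≤ k →
      hM 𝒜 𝒩 k - P.eval (k : ℚ) - chi EN a D k = 0 := by
    intro k hk
    have h1 : chi EN a D k = 0 := by
      unfold chi
      apply Finset.sum_eq_zero
      intro i _
      unfold hq
      rw [length_eq_zero_of_eq_bot (hr i k (le_trans (le_max_right _ _) hk))]
      simp
    rw [h1, hP k (le_trans (le_max_left _ _) hk)]
    ring
  have hiter : ∀ (j : ℕ) (k : ℤ),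
      hM 𝒜 𝒩 (k + (j : ℤ) * t) - P.eval ((k + (j : ℤ) * t : ℤ) : ℚ) -
        chi EN a D (k + (j : ℤ) * t) = hM 𝒜 𝒩 k - P.eval (k : ℚ) - chi EN a D k := by
    intro j
    induction j with
    | zero =>
      intro k
      simp
    | succ j ih =>
      intro k
      have h1 := hf (k + ((j + 1 : ℕ) : ℤ) * t)
      have e : -t + (k + ((j + 1 : ℕ) : ℤ) * t) = k + (j : ℤ) * t := by
        push_cast
        ring
      rw [e] at h1
      rw [h1, ih k]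
  have hj := hiter (max N₀ r - n).toNat n
  have hbig : max N₀ r ≤ n + ((max N₀ r - n).toNat : ℤ) * t := by
    have h1 : max N₀ r - n ≤ ((max N₀ r - n).toNat : ℤ) := Int.self_le_toNat _
    have h2 : (0 : ℤ) ≤ ((max N₀ r - n).toNat : ℤ) := Int.natCast_nonneg _
    have h3 : ((max N₀ r - n).toNat : ℤ) ≤ ((max N₀ r - n).toNat : ℤ) * t :=
      le_mul_of_one_le_right h2 (by omega)
    omega
  have hfin := hzero _ hbig
  rw [hj] at hfin
  linarith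

include hpos ha in
theorem GS_aux (D : ℕ)
    (hD : ∀ (L : Type u) [AddCommGroup L] [Module R L] (𝓛 : ℤ → AddSubgroup L) [Decomposition 𝓛]
      [SetLike.GradedSMul 𝒜 𝓛] (EL : StarInjRes 𝒜 𝓛) (i : ℕ), D < i → Subsingleton (EL.H a i)) :
    ∀ (e : ℕ) (M : Type u) [AddCommGroup M] [Module R M] [Module.Finite R M]
      (ℳ : ℤ → AddSubgroup M) [Decomposition ℳ] [SetLike.GradedSMul 𝒜 ℳ],
      Module.supportDim R M < (e : WithBot ℕ∞) →
      ∀ (E : StarInjRes 𝒜 ℳ) (P : Polynomial ℚ) (N₀ : ℤ),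
        (∀ n : ℤ, N₀ ≤ n → P.eval (n : ℚ) = hM 𝒜 ℳ n) →
        ∀ n : ℤ, hM 𝒜 ℳ n - P.eval (n : ℚ) = chi E a D n := by
  intro e
  induction e with
  | zero =>
    intro M _ _ _ ℳ _ _ hdim E P N₀ hP n
    haveI : Subsingleton M := (Module.supportDim_eq_bot_iff_subsingleton (R := R) (M := M)).1
      (Groth.Agent.Lib.LocCohGVH7.wb_a _ hdim)
    exact zero_case 𝒜 a D M ℳ E P N₀ hP n
  | succ e ih =>
    intro M _ _ _ ℳ _ _ hdim E P N₀ hP n
    have hT : (gam a.toIdeal M).IsHomogeneous ℳ := gam_isHomogeneous 𝒜 ℳ a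
    letI := quotDecomp ℳ (gam a.toIdeal M) hT
    haveI := quot_gsmul 𝒜 ℳ (gam a.toIdeal M)
    obtain ⟨EN⟩ := main13215 𝒜 (GrStar2H1.quotGr ℳ (gam a.toIdeal M))
    refine torsion_step 𝒜 hpos a ha D hD M ℳ (M ⧸ gam a.toIdeal M)
      (GrStar2H1.quotGr ℳ (gam a.toIdeal M)) (gam a.toIdeal M).mkQ
      (mkQ_isGrHom ℳ (gam a.toIdeal M)) (Submodule.mkQ_surjective _) (Submodule.ker_mkQ _) EN ?_
      E P N₀ hP n
    intro P' N₁ hP' k
    have hNb : gam a.toIdeal (M ⧸ gam a.toIdeal M) = ⊥ := gam_quot_eq_bot a.toIdeal M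
    obtain ⟨t, ht, x, hx, hxa, hreg⟩ := exists_regular_homog 𝒜 a ha (M ⧸ gam a.toIdeal M) hNb
    obtain ⟨K, hK⟩ : ∃ K : Submodule R (M ⧸ gam a.toIdeal M),
        K = x • (⊤ : Submodule R (M ⧸ gam a.toIdeal M)) := ⟨_, rfl⟩
    have hKr : K = LinearMap.range (LinearMap.lsmul R (M ⧸ gam a.toIdeal M) x) := by
      rw [hK]
      ext y
      rw [Submodule.mem_smul_pointwise_iff_exists, LinearMap.mem_range]
      constructor
      · rintro ⟨z, -, rfl⟩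
        exact ⟨z, rfl⟩
      · rintro ⟨z, rfl⟩
        exact ⟨z, Submodule.mem_top, rfl⟩
    have hKh : K.IsHomogeneous (GrStar2H1.quotGr ℳ (gam a.toIdeal M)) :=
      hKr ▸ range_lsmul_isHomogeneous 𝒜 (GrStar2H1.quotGr ℳ (gam a.toIdeal M)) hx
    letI := quotDecomp (GrStar2H1.quotGr ℳ (gam a.toIdeal M)) K hKh
    haveI := quot_gsmul 𝒜 (GrStar2H1.quotGr ℳ (gam a.toIdeal M)) K
    obtain ⟨EC⟩ := main13215 𝒜 (GrStar2H1.quotGr (GrStar2H1.quotGr ℳ (gam a.toIdeal M)) K)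
    have hdimC : Module.supportDim R ((M ⧸ gam a.toIdeal M) ⧸ K) < (e : WithBot ℕ∞) := by
      have h1 : Module.supportDim R (QuotSMulTop x (M ⧸ gam a.toIdeal M)) + 1 ≤
          Module.supportDim R (M ⧸ gam a.toIdeal M) :=
        Module.supportDim_quotSMulTop_succ_le_of_notMem_minimalPrimes
          (fun _ => hreg.notMem_of_mem_minimalPrimes)
      have h2 : Module.supportDim R (M ⧸ gam a.toIdeal M) ≤ Module.supportDim R M :=
        Module.supportDim_le_of_surjective (gam a.toIdeal M).mkQ (Submodule.mkQ_surjective _)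
      have h3 : Module.supportDim R M ≤ (e : WithBot ℕ∞) :=
        Groth.Agent.Lib.LocCohGVH7.wb_b _ e hdim
      rw [hK]
      exact wb_c (le_trans h1 (le_trans h2 h3))
    have hDN := hD (M ⧸ gam a.toIdeal M) (GrStar2H1.quotGr ℳ (gam a.toIdeal M)) EN (D + 1)
      (Nat.lt_succ_self D)
    exact regular_step 𝒜 hpos a ha D (M ⧸ gam a.toIdeal M)
      (GrStar2H1.quotGr ℳ (gam a.toIdeal M)) ht hx hreg
      ((M ⧸ gam a.toIdeal M) ⧸ K) (GrStar2H1.quotGr (GrStar2H1.quotGr ℳ (gam a.toIdeal M)) K)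
      K.mkQ (mkQ_isGrHom (GrStar2H1.quotGr ℳ (gam a.toIdeal M)) K) K.mkQ_surjective
      (by rw [Submodule.ker_mkQ, hKr]) EC
      (fun PC N₂ hPC j => ih ((M ⧸ gam a.toIdeal M) ⧸ K)
        (GrStar2H1.quotGr (GrStar2H1.quotGr ℳ (gam a.toIdeal M)) K) hdimC EC PC N₂ hPC j)
      EN hDN P' N₁ hP' k

end main

end Groth.Agent.Lib.GrHS2H1
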