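import Mathlib
import Groth.Prelude.Def_GrLC
import Groth.Agent.Lib.GrHS2_helper1
import Groth.Agent.Lib.GorTop2_helper1

/-! The Grothendieck–Serre formula S17770: comparison of the *maximal ideal with the irrelevant
ideal when `R₀` is Artinian, and the final statement (helper1). -/

set_option autoImplicit false

namespace Groth.Agent.Lib.GrHS3H1

open DirectSum GrLC Groth.Agent.Lib.GrStarH1 Groth.Agent.Lib.GrStar2H1 Groth.Agent.Lib.GrStar3H1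
  Groth.Agent.Lib.GrStar4H1 Groth.Agent.Lib.GrLES1H1 Groth.Agent.Lib.GrLES2H1
  Groth.Agent.Lib.GrLES3H1 Groth.Agent.Lib.GrHDecH1 Groth.Agent.Lib.GrLES4H1
  Groth.Agent.Lib.GrHS1H1 Groth.Agent.Lib.GrHS2H1

universe u

section transport

variable {R : Type u} [CommRing R] (𝒜 : ℤ → AddSubgroup R) [GradedRing 𝒜]

/-- the irrelevant ideal -/
def Rp : HomogeneousIdeal 𝒜 :=
  ⟨Ideal.span (⋃ n ∈ Set.Ioi (0 : ℤ), (𝒜 n : Set R)), Ideal.homogeneous_span 𝒜 _ (by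
    intro x hx
    obtain ⟨n, _, hxn⟩ := Set.mem_iUnion₂.1 hx
    exact ⟨n, hxn⟩)⟩

theorem Rp_toIdeal : (Rp 𝒜).toIdeal = Ideal.span (⋃ n ∈ Set.Ioi (0 : ℤ), (𝒜 n : Set R)) := rfl

variable (hpos : ∀ n : ℤ, n < 0 → 𝒜 n = ⊥)

theorem one_notMem {m : HomogeneousIdeal 𝒜} (hm : IsStarLocal 𝒜 m) : (1 : R) ∉ m.toIdeal := by
  intro h
  exact hm.1.1 ((HomogeneousIdeal.eq_top_iff m).2 ((Ideal.eq_top_iff_one _).2 h))

include hpos in
theorem Rp_le [IsNoetherianRing R] {m : HomogeneousIdeal 𝒜} (hm : IsStarLocal 𝒜 m) :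
    (Rp 𝒜).toIdeal ≤ m.toIdeal := by
  have hne : Rp 𝒜 ≠ ⊤ := by
    intro h
    have h1 : (1 : R) ∈ (Rp 𝒜).toIdeal := by
      rw [h, HomogeneousIdeal.toIdeal_top]
      trivial
    have h2 : (decompose 𝒜 (1 : R) 0 : R) = 0 := irr_le_tail 𝒜 hpos h1 0 (by norm_num)
    have h10 : (decompose 𝒜 (1 : R) 0 : R) = 1 :=
      decompose_of_mem_same 𝒜 (SetLike.GradedOne.one_mem (A := 𝒜))
    apply one_notMem 𝒜 hm
    rw [← h10, h2]
    exact m.toIdeal.zero_mem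
  exact Groth.Agent.Lib.GorTop2H1.le_of_starLocal 𝒜 hm (Rp 𝒜) hne

theorem isNilpotent_of_mem_deg0 [IsNoetherianRing R] [IsArtinianRing (deg0 𝒜)]
    {m : HomogeneousIdeal 𝒜} (hm : IsStarLocal 𝒜 m) {r : R} (hr0 : r ∈ 𝒜 0)
    (hrm : r ∈ m.toIdeal) : IsNilpotent r := by
  classical
  obtain ⟨r₀, hr₀⟩ : ∃ r₀ : deg0 𝒜, (r₀ : R) = r := ⟨⟨r, hr0⟩, rfl⟩
  let f : ℕ →o (Submodule (deg0 𝒜) (deg0 𝒜))ᵒᵈ :=
    ⟨fun k => OrderDual.toDual (Ideal.span {r₀ ^ k}), fun k l hkl =>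
      OrderDual.toDual_le_toDual.2
        (Ideal.span_singleton_le_span_singleton.2 (pow_dvd_pow r₀ hkl))⟩
  obtain ⟨k, hk⟩ := IsArtinian.monotone_stabilizes f
  have h1 : Ideal.span {r₀ ^ k} = Ideal.span {r₀ ^ (k + 1)} :=
    congrArg OrderDual.ofDual (hk (k + 1) (Nat.le_succ k))
  have h2 : r₀ ^ k ∈ Ideal.span {r₀ ^ (k + 1)} := by
    rw [← h1]
    exact Ideal.subset_span rfl
  obtain ⟨s, hs⟩ := Ideal.mem_span_singleton'.1 h2
  have hs' : (s : R) * r ^ (k + 1) = r ^ k := by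
    have := congrArg (fun z : deg0 𝒜 => (z : R)) hs
    simpa [hr₀] using this
  have hu0 : (1 - (s : R) * r) ∈ 𝒜 0 := by
    have h3 : (1 : R) ∈ 𝒜 0 := SetLike.GradedOne.one_mem (A := 𝒜)
    have h4 : (s : R) * r ∈ 𝒜 0 := by
      have := SetLike.GradedMul.mul_mem (A := 𝒜) s.2 hr0
      rwa [add_zero] at this
    exact sub_mem h3 h4
  let U : HomogeneousIdeal 𝒜 := ⟨Ideal.span {1 - (s : R) * r}, Ideal.homogeneous_span 𝒜 _ (by
    rintro x hx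
    rw [Set.mem_singleton_iff] at hx
    rw [hx]
    exact ⟨0, hu0⟩)⟩
  have hUtop : U = ⊤ := by
    by_contra hU
    have hUm : U.toIdeal ≤ m.toIdeal := Groth.Agent.Lib.GorTop2H1.le_of_starLocal 𝒜 hm U hU
    have h5 : (1 - (s : R) * r) ∈ m.toIdeal := hUm (Ideal.subset_span rfl)
    apply one_notMem 𝒜 hm
    have h6 : (1 : R) = (1 - (s : R) * r) + (s : R) * r := by ring
    rw [h6]
    exact m.toIdeal.add_mem h5 (m.toIdeal.mul_mem_left _ hrm)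
  have hUt : Ideal.span {1 - (s : R) * r} = ⊤ := by
    have := congrArg HomogeneousIdeal.toIdeal hUtop
    exact this
  obtain ⟨y, hy⟩ := (Ideal.span_singleton_eq_top.1 hUt).exists_right_inv
  refine ⟨k, ?_⟩
  have h7 : r ^ k * (1 - (s : R) * r) = 0 := by
    have : r ^ k * (1 - (s : R) * r) = r ^ k - (s : R) * r ^ (k + 1) := by ring
    rw [this, hs', sub_self]
  calc r ^ k = r ^ k * ((1 - (s : R) * r) * y) := by rw [hy, mul_one]
    _ = (r ^ k * (1 - (s : R) * r)) * y := by ring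
    _ = 0 := by rw [h7, zero_mul]

include hpos in
theorem gam_eq [IsNoetherianRing R] [IsArtinianRing (deg0 𝒜)] {m : HomogeneousIdeal 𝒜}
    (hm : IsStarLocal 𝒜 m) (X : Type u) [AddCommGroup X] [Module R X] :
    gam m.toIdeal X = gam (Rp 𝒜).toIdeal X := by
  have hle := Rp_le 𝒜 hpos hm
  have hrad : m.toIdeal ≤ (Rp 𝒜).toIdeal.radical := by
    intro x hx
    have hx0m : (decompose 𝒜 x 0 : R) ∈ m.toIdeal := m.isHomogeneous 0 hx
    obtain ⟨k, hk⟩ := isNilpotent_of_mem_deg0 𝒜 hm (decompose 𝒜 x 0).2 hx0m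
    refine ⟨k, ?_⟩
    have h1 : x - (decompose 𝒜 x 0 : R) ∈ (Rp 𝒜).toIdeal := sub_decompose_zero_mem_irr 𝒜 hpos x
    have h2 : Ideal.Quotient.mk (Rp 𝒜).toIdeal x =
        Ideal.Quotient.mk (Rp 𝒜).toIdeal (decompose 𝒜 x 0 : R) := Ideal.Quotient.eq.2 h1
    rw [← Ideal.Quotient.eq_zero_iff_mem, map_pow, h2, ← map_pow, hk, map_zero]
  obtain ⟨K, hK⟩ := Ideal.exists_radical_pow_le_of_fg (Rp 𝒜).toIdeal
    (IsNoetherian.noetherian _)
  have hmK : m.toIdeal ^ K ≤ (Rp 𝒜).toIdeal :=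
    le_trans (Ideal.pow_right_mono hrad K) hK
  apply le_antisymm
  · rintro x ⟨k, hk⟩
    exact ⟨k, fun r hr => hk r (Ideal.pow_right_mono hle k hr)⟩
  · rintro x ⟨j, hj⟩
    refine ⟨K * j, fun r hr => hj r ?_⟩
    rw [pow_mul] at hr
    exact Ideal.pow_right_mono hmK j hr

end transport

section final

theorem main17770 (R : Type u) [CommRing R] [IsNoetherianRing R] (𝒜 : ℤ → AddSubgroup R)
    [GradedRing 𝒜] (hpos : ∀ n : ℤ, n < 0 → 𝒜 n = ⊥) [IsArtinianRing (GrLC.deg0 𝒜)]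
    (m : HomogeneousIdeal 𝒜) (hm : GrLC.IsStarLocal 𝒜 m) (d : ℕ) (hd : ringKrullDim R = d)
    (M : Type u) [AddCommGroup M] [Module R M] [Module.Finite R M] (ℳ : ℤ → AddSubgroup M)
    [DirectSum.Decomposition ℳ] [SetLike.GradedSMul 𝒜 ℳ] (E : GrLC.StarInjRes 𝒜 ℳ)
    (P : Polynomial ℚ)
    (hP : ∃ N : ℤ, ∀ n : ℤ, N ≤ n →
      P.eval (n : ℚ) = ((Module.length (GrLC.deg0 𝒜) (GrLC.comp 𝒜 ℳ n)).toNat : ℚ)) (n : ℤ) :
    ((Module.length (GrLC.deg0 𝒜) (GrLC.comp 𝒜 ℳ n)).toNat : ℚ) - P.eval (n : ℚ) =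
      ∑ i ∈ Finset.range (d + 1),
        (-1 : ℚ) ^ i * ((Module.length (GrLC.deg0 𝒜) (E.Hcomp m i n)).toNat : ℚ) := by
  obtain ⟨N₀, hN₀⟩ := hP
  have hD : ∀ (L : Type u) [AddCommGroup L] [Module R L] (𝓛 : ℤ → AddSubgroup L)
      [Decomposition 𝓛] [SetLike.GradedSMul 𝒜 𝓛] (EL : StarInjRes 𝒜 𝓛) (i : ℕ), d < i →
      Subsingleton (EL.H (Rp 𝒜) i) := by
    intro L _ _ 𝓛 _ _ EL i hi
    obtain ⟨γ⟩ := Groth.Agent.Lib.GrStarLCH1.main13224 R 𝒜 (Rp 𝒜) L 𝓛 EL i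
    haveI : Subsingleton (LocCoh.H (Rp 𝒜).toIdeal i L) := by
      apply Groth.Agent.Lib.LocCohGVH7.GV
      have h1 : (d : WithBot ℕ∞) < ((i : ℕ) : WithBot ℕ∞) := by exact_mod_cast hi
      refine lt_of_le_of_lt (Module.supportDim_le_ringKrullDim R L) ?_
      rw [hd]
      exact h1
    exact γ.toEquiv.subsingleton
  have hdim : Module.supportDim R M < ((d + 1 : ℕ) : WithBot ℕ∞) := by
    have h1 : (d : WithBot ℕ∞) < ((d + 1 : ℕ) : WithBot ℕ∞) := by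
      exact_mod_cast Nat.lt_succ_self d
    refine lt_of_le_of_lt (Module.supportDim_le_ringKrullDim R M) ?_
    rw [hd]
    exact h1
  have key := GS_aux 𝒜 hpos (Rp 𝒜) (Rp_toIdeal 𝒜) d hD (d + 1) M ℳ hdim E P N₀ hN₀ n
  have hkey : ((Module.length (GrLC.deg0 𝒜) (GrLC.comp 𝒜 ℳ n)).toNat : ℚ) - P.eval (n : ℚ) =
      ∑ i ∈ Finset.range (d + 1),
        (-1 : ℚ) ^ i * ((Module.length (GrLC.deg0 𝒜) (E.Hcomp (Rp 𝒜) i n)).toNat : ℚ) := key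
  rw [hkey]
  apply Finset.sum_congr rfl
  intro i _
  rw [length_Hcomp_congr E m (Rp 𝒜) (fun j => gam_eq 𝒜 hpos hm _) i n]

end final

end Groth.Agent.Lib.GrHS3H1
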