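import Mathlib
import Groth.Prelude.Def_GrLC
import Groth.Agent.Lib.GrHS3_helper1
import Groth.Agent.Lib.GorCan_helper1
import Groth.Agent.Lib.AInv_helper1

/-! S17772: the a-invariant of a Cohen–Macaulay standard graded ring over an Artinian local ring
via the Hilbert function (helper1). -/

set_option autoImplicit false

namespace Groth.Agent.Lib.GrHS4H1

open DirectSum GrLC Groth.Agent.Lib.GrStarH1 Groth.Agent.Lib.GrStar2H1 Groth.Agent.Lib.GrStar3H1
  Groth.Agent.Lib.GrStar4H1 Groth.Agent.Lib.GrLES1H1 Groth.Agent.Lib.GrLES2H1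
  Groth.Agent.Lib.GrLES3H1 Groth.Agent.Lib.GrHDecH1 Groth.Agent.Lib.GrLES4H1
  Groth.Agent.Lib.GrHS1H1 Groth.Agent.Lib.GrHS2H1 Groth.Agent.Lib.GrHS3H1

universe u

variable {R : Type u} [CommRing R] (𝒜 : ℤ → AddSubgroup R) [GradedRing 𝒜]

theorem ringKrullDim_eq_height_art [IsNoetherianRing R] (hpos : ∀ n : ℤ, n < 0 → 𝒜 n = ⊥)
    [IsArtinianRing (GrLC.deg0 𝒜)] (m : HomogeneousIdeal 𝒜) (hm : IsStarLocal 𝒜 m) :
    ringKrullDim R = (m.toIdeal.height : WithBot ℕ∞) := by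
  classical
  haveI hmax : m.toIdeal.IsMaximal := isMaximal_of_starLocal 𝒜 hpos m hm
  haveI : Algebra.FiniteType ↥(GrLC.deg0 𝒜) R := Groth.Agent.Lib.GorCanH1.finiteType_of_pos 𝒜 hpos
  apply le_antisymm
  · rw [ringKrullDim_le_iff_isMaximal_height_le]
    intro Mx hMx
    haveI := hMx
    haveI : Mx.IsPrime := hMx.isPrime
    obtain ⟨q, hq, hqM, hht⟩ := Groth.Agent.DimFT2H8.exists_minimalPrimes_height_map_eq Mx
    haveI hqp : q.IsPrime := hq.1.1
    have hqhom := Groth.Agent.Lib.GorCanH1.minimalPrimes_isHomogeneous 𝒜 hq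
    have hqm : q ≤ m.toIdeal := by
      obtain ⟨Q, hQ⟩ : ∃ Q : HomogeneousIdeal 𝒜, Q.toIdeal = q := ⟨⟨q, hqhom⟩, rfl⟩
      have hQtop : Q ≠ ⊤ := by
        intro h
        apply hqp.ne_top
        rw [← hQ, h]
        rfl
      have h1 := Groth.Agent.Lib.GorTop2H1.le_of_starLocal 𝒜 hm Q hQtop
      rw [← hQ]
      exact h1
    haveI : Algebra.FiniteType ↥(GrLC.deg0 𝒜) (R ⧸ q) :=
      Algebra.FiniteType.of_surjective (Ideal.Quotient.mkₐ ↥(GrLC.deg0 𝒜) q)
        (Ideal.Quotient.mkₐ_surjective _ q)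
    -- the residue field, as a subring of `R ⧸ q`
    obtain ⟨g, hg⟩ : ∃ g : ↥(GrLC.deg0 𝒜) →+* (R ⧸ q), g = algebraMap ↥(GrLC.deg0 𝒜) (R ⧸ q) :=
      ⟨_, rfl⟩
    haveI : IsArtinianRing g.range := inferInstance
    have hfield : IsField g.range := by
      refine ⟨exists_pair_ne _, mul_comm, fun {a} ha => ?_⟩
      have hu : IsUnit a :=
        IsArtinianRing.isUnit_of_mem_nonZeroDivisors (mem_nonZeroDivisors_of_ne_zero ha)
      exact hu.exists_right_inv
    letI : Field g.range := hfield.toField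
    letI : Algebra ↥(GrLC.deg0 𝒜) g.range := g.rangeRestrict.toAlgebra
    haveI : IsScalarTower ↥(GrLC.deg0 𝒜) g.range (R ⧸ q) :=
      IsScalarTower.of_algebraMap_eq (fun x => by
        show (algebraMap ↥(GrLC.deg0 𝒜) (R ⧸ q)) x = g x
        rw [hg])
    haveI : Algebra.FiniteType g.range (R ⧸ q) :=
      Algebra.FiniteType.of_restrictScalars_finiteType ↥(GrLC.deg0 𝒜) g.range (R ⧸ q)
    obtain ⟨d, -, -, -, hd⟩ := Groth.Agent.DimFTH8.exists_dim_eq g.range (R ⧸ q)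
    haveI h1 : (Mx.map (Ideal.Quotient.mk q)).IsMaximal :=
      Ideal.IsMaximal.map_of_surjective_of_ker_le Ideal.Quotient.mk_surjective
        (by rw [Ideal.mk_ker]; exact hqM)
    haveI h2 : (m.toIdeal.map (Ideal.Quotient.mk q)).IsMaximal :=
      Ideal.IsMaximal.map_of_surjective_of_ker_le Ideal.Quotient.mk_surjective
        (by rw [Ideal.mk_ker]; exact hqm)
    have e1 := hd (Mx.map (Ideal.Quotient.mk q))
    have e2 := hd (m.toIdeal.map (Ideal.Quotient.mk q))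
    have e3 := Groth.Agent.DimFT2H8.height_map_mk_le q m.toIdeal hqm
    apply WithBot.coe_le_coe.2
    rw [← hht, e1, ← e2]
    exact e3
  · exact Ideal.height_le_ringKrullDim_of_ne_top hmax.ne_top

theorem main17772 (R : Type u) [CommRing R] [hCM : LocCoh.IsCohenMacaulayRing R]
    (𝒜 : ℤ → AddSubgroup R) [GradedRing 𝒜] (hpos : ∀ n : ℤ, n < 0 → 𝒜 n = ⊥)
    [IsArtinianRing (GrLC.deg0 𝒜)] (m : HomogeneousIdeal 𝒜) (hm : GrLC.IsStarLocal 𝒜 m)
    (d : ℕ) (hd : ringKrullDim R = d) (I : GrLC.StarInjRes 𝒜 𝒜) (P : Polynomial ℚ)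
    (hP : ∃ N : ℤ, ∀ n : ℤ, N ≤ n →
      P.eval (n : ℚ) = ((Module.length (GrLC.deg0 𝒜) (GrLC.comp 𝒜 𝒜 n)).toNat : ℚ)) :
    GrLC.endDeg (I.Hgr m d) =
      ⨆ (n : ℤ) (_ : P.eval (n : ℚ) ≠
        ((Module.length (GrLC.deg0 𝒜) (GrLC.comp 𝒜 𝒜 n)).toNat : ℚ)),
        ((n : WithTop ℤ) : WithBot (WithTop ℤ)) := by
  haveI : IsNoetherianRing R := hCM.toIsNoetherian
  have hht : m.toIdeal.height = d := by
    have h1 := ringKrullDim_eq_height_art 𝒜 hpos m hm
    rw [hd] at h1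
    exact (WithBot.coe_injective h1).symm
  have hlow : ∀ k, k < d → Subsingleton (I.H m k) := fun k hk =>
    Groth.Agent.Lib.AInvH1.H_subsingleton_of_lt 𝒜 m hm d hht I k hk
  have hGS : ∀ n : ℤ,
      ((Module.length (GrLC.deg0 𝒜) (GrLC.comp 𝒜 𝒜 n)).toNat : ℚ) - P.eval (n : ℚ) =
        (-1 : ℚ) ^ d * ((Module.length (GrLC.deg0 𝒜) (I.Hcomp m d n)).toNat : ℚ) := by
    intro n
    rw [main17770 R 𝒜 hpos m hm d hd R 𝒜 I P hP n]
    apply Finset.sum_eq_single d
    · intro i hi hid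
      have hlt : i < d := by
        have := Finset.mem_range.1 hi
        omega
      haveI := hlow i hlt
      have h0 := hq_eq_zero_of_subsingleton I m i n
      unfold hq at h0
      rw [h0, mul_zero]
    · intro h
      exact absurd (Finset.mem_range.2 (Nat.lt_succ_self d)) h
  have hfin : ∀ n : ℤ, Module.length (GrLC.deg0 𝒜) (I.Hcomp m d n) ≠ ⊤ := by
    intro n
    rw [length_Hcomp_congr I m (Rp 𝒜) (fun j => gam_eq 𝒜 hpos hm _) d n]
    exact len_H_ne_top 𝒜 hpos (Rp 𝒜) (Rp_toIdeal 𝒜) R 𝒜 I d n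
  have hiff : ∀ n : ℤ, I.Hgr m d n ≠ ⊥ ↔ P.eval (n : ℚ) ≠
      ((Module.length (GrLC.deg0 𝒜) (GrLC.comp 𝒜 𝒜 n)).toNat : ℚ) := by
    intro n
    have h1 := hGS n
    constructor
    · intro hne heq
      apply hne
      rw [heq, sub_self] at h1
      have h2 : ((Module.length (GrLC.deg0 𝒜) (I.Hcomp m d n)).toNat : ℚ) = 0 := by
        rcases mul_eq_zero.1 h1.symm with h | h
        · exact absurd h (pow_ne_zero _ (by norm_num))
        · exact h
      have h3 : (Module.length (GrLC.deg0 𝒜) (I.Hcomp m d n)).toNat = 0 := by exact_mod_cast h2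
      have h4 : Module.length (GrLC.deg0 𝒜) (I.Hcomp m d n) = 0 := by
        rcases (ENat.toNat_eq_zero).1 h3 with h | h
        · exact h
        · exact absurd h (hfin n)
      haveI : Subsingleton ↥(I.Hcomp m d n) := Module.length_eq_zero_iff.1 h4
      rw [eq_bot_iff]
      intro y hy
      have h5 : (⟨y, hy⟩ : ↥(I.Hcomp m d n)) = 0 := Subsingleton.elim _ _
      exact (AddSubgroup.mem_bot).2 (congrArg Subtype.val h5)
    · intro hne hbot
      apply hne
      have hb : I.Hcomp m d n = ⊥ := by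
        rw [eq_bot_iff]
        intro y hy
        have h5 : y ∈ I.Hgr m d n := hy
        rw [hbot] at h5
        exact (Submodule.mem_bot _).2 ((AddSubgroup.mem_bot).1 h5)
      rw [length_eq_zero_of_eq_bot hb] at h1
      simp at h1
      linarith
  unfold GrLC.endDeg
  exact iSup_congr (fun n => iSup_congr_Prop (hiff n) (fun _ => rfl))

end Groth.Agent.Lib.GrHS4H1
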