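import Mathlib

/-! Regular sequences and polynomial rings (helper1, Mathlib only).

* `aeval_smul_injective`: if `f₀, …, f_{d-1}` is a weakly regular sequence on a `B`-module `M`
  and `e : M` is such that `A → M / (f) M`, `a ↦ a • e` is injective, then
  `A[T₀, …, T_{d-1}] → M`, `P ↦ P(f) • e` is injective.
* `supportDim_weaklyRegular_le`: `dim M/(rs)M + length rs ≤ dim M` for a weakly regular sequence.
-/

set_option autoImplicit false

namespace Groth.Agent.Lib.PolyRegH1

open RingTheory.Sequence

open scoped Pointwise

universe u v w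

section link

variable {A : Type u} [CommRing A] {B : Type v} [CommRing B] [Algebra A B]

/-- evaluation of a polynomial in `T₀` whose coefficients are polynomials in the other
variables -/
noncomputable def evT {d : ℕ} (f : Fin (d + 1) → B) :
    Polynomial (MvPolynomial (Fin d) A) →ₐ[A] B :=
  Polynomial.aevalTower (MvPolynomial.aeval (fun i : Fin d => f i.succ)) (f 0)

theorem evT_decomp {d : ℕ} (f : Fin (d + 1) → B) (p : Polynomial (MvPolynomial (Fin d) A)) :
    evT f p = evT f p.divX * f 0 + MvPolynomial.aeval (fun i : Fin d => f i.succ) (p.coeff 0) := by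
  have h := congrArg (evT (A := A) f) (Polynomial.divX_mul_X_add p)
  rw [map_add, map_mul] at h
  unfold evT at h ⊢
  rw [Polynomial.aevalTower_X, Polynomial.aevalTower_C] at h
  exact h.symm

theorem aeval_eq_evT {d : ℕ} (f : Fin (d + 1) → B) (P : MvPolynomial (Fin (d + 1)) A) :
    MvPolynomial.aeval f P = evT f (MvPolynomial.finSuccEquiv A d P) := by
  have h : (MvPolynomial.aeval f : MvPolynomial (Fin (d + 1)) A →ₐ[A] B) =
      (evT f).comp (MvPolynomial.finSuccEquiv A d).toAlgHom := by
    apply MvPolynomial.algHom_ext
    intro i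
    refine Fin.cases ?_ (fun j => ?_) i
    · rw [MvPolynomial.aeval_X, AlgHom.comp_apply]
      show _ = evT f (MvPolynomial.finSuccEquiv A d (MvPolynomial.X 0))
      rw [MvPolynomial.finSuccEquiv_X_zero]
      unfold evT
      rw [Polynomial.aevalTower_X]
    · rw [MvPolynomial.aeval_X, AlgHom.comp_apply]
      show _ = evT f (MvPolynomial.finSuccEquiv A d (MvPolynomial.X j.succ))
      rw [MvPolynomial.finSuccEquiv_X_succ]
      unfold evT
      rw [Polynomial.aevalTower_C, MvPolynomial.aeval_X]
  rw [h]
  rfl

end link

section PL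

variable {A : Type u} [CommRing A] {B : Type v} [CommRing B] [Algebra A B]

theorem aeval_smul_injective (d : ℕ) :
    ∀ (M : Type w) [AddCommGroup M] [Module B M] (f : Fin d → B),
      IsWeaklyRegular M (List.ofFn f) → ∀ e : M,
      (∀ a : A, algebraMap A B a • e ∈ Ideal.span (Set.range f) • (⊤ : Submodule B M) → a = 0) →
      ∀ P : MvPolynomial (Fin d) A, MvPolynomial.aeval f P • e = 0 → P = 0 := by
  induction d with
  | zero =>
    intro M _ _ f _ e he P hP
    obtain ⟨a, rfl⟩ : ∃ a : A, P = MvPolynomial.C a := ⟨_, MvPolynomial.eq_C_of_isEmpty P⟩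
    rw [MvPolynomial.aeval_C] at hP
    have ha : a = 0 := he a (by rw [hP]; exact Submodule.zero_mem _)
    rw [ha, map_zero]
  | succ d ih =>
    intro M _ _ f hreg e he P hP
    rw [List.ofFn_succ] at hreg
    obtain ⟨hreg0, hreg'⟩ := (isWeaklyRegular_cons_iff M (f 0) _).1 hreg
    have he' : ∀ a : A, algebraMap A B a • (Submodule.Quotient.mk e : QuotSMulTop (f 0) M) ∈
        Ideal.span (Set.range (fun i : Fin d => f i.succ)) •
          (⊤ : Submodule B (QuotSMulTop (f 0) M)) → a = 0 := by
      intro a ha
      apply he a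
      have hmap : (Ideal.span (Set.range (fun i : Fin d => f i.succ)) •
          (⊤ : Submodule B (QuotSMulTop (f 0) M))) =
          Submodule.map (Submodule.mkQ (f 0 • (⊤ : Submodule B M)))
            (Ideal.span (Set.range (fun i : Fin d => f i.succ)) • (⊤ : Submodule B M)) := by
        rw [Submodule.map_smul'', Submodule.map_top, Submodule.range_mkQ]
      rw [hmap] at ha
      obtain ⟨y, hy, hya⟩ := ha
      have h1 : algebraMap A B a • e - y ∈ f 0 • (⊤ : Submodule B M) := by
        rw [← Submodule.Quotient.mk_eq_zero, Submodule.Quotient.mk_sub, sub_eq_zero]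
        exact hya.symm
      have h2 : algebraMap A B a • e = (algebraMap A B a • e - y) + y := by abel
      rw [h2]
      refine Submodule.add_mem _ ?_ ?_
      · obtain ⟨z, -, hz⟩ := (Submodule.mem_smul_pointwise_iff_exists _ _ _).1 h1
        rw [← hz]
        exact Submodule.smul_mem_smul (Ideal.subset_span ⟨0, rfl⟩) Submodule.mem_top
      · refine Submodule.smul_mono_left (Ideal.span_mono ?_) hy
        rintro _ ⟨j, rfl⟩
        exact ⟨j.succ, rfl⟩
    have hc : ∀ p : Polynomial (MvPolynomial (Fin d) A), evT f p • e = 0 → p.coeff 0 = 0 := by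
      intro p hp
      apply ih (QuotSMulTop (f 0) M) (fun i : Fin d => f i.succ) hreg'
        (Submodule.Quotient.mk e) he'
      have h3 : MvPolynomial.aeval (fun i : Fin d => f i.succ) (p.coeff 0) • e =
          -(f 0 • (evT f p.divX • e)) := by
        rw [evT_decomp, add_smul, mul_comm, mul_smul] at hp
        exact eq_neg_of_add_eq_zero_right hp
      rw [← Submodule.Quotient.mk_smul, h3, Submodule.Quotient.mk_eq_zero]
      exact Submodule.neg_mem _ (Submodule.smul_mem_pointwise_smul _ _ _ Submodule.mem_top)
    have hmain : ∀ (n : ℕ) (p : Polynomial (MvPolynomial (Fin d) A)), p.natDegree ≤ n →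
        evT f p • e = 0 → p = 0 := by
      intro n
      induction n with
      | zero =>
        intro p hn hp
        rw [Polynomial.eq_C_of_natDegree_le_zero hn, hc p hp, map_zero]
      | succ n ihn =>
        intro p hn hp
        have hc0 := hc p hp
        have hq : evT f p.divX • e = 0 := by
          rw [evT_decomp, hc0, map_zero, add_zero, mul_comm, mul_smul] at hp
          apply hreg0
          show f 0 • (evT f p.divX • e) = f 0 • 0
          rw [smul_zero]
          exact hp
        have hq0 : p.divX = 0 :=
          ihn p.divX (by rw [Polynomial.natDegree_divX_eq_natDegree_tsub_one]; omega) hq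
        rw [← Polynomial.divX_mul_X_add p, hq0, hc0, zero_mul, map_zero, add_zero]
    have h0 := hmain _ (MvPolynomial.finSuccEquiv A d P) le_rfl
      (by rw [← aeval_eq_evT]; exact hP)
    exact (EmbeddingLike.map_eq_zero_iff (f := MvPolynomial.finSuccEquiv A d)).1 h0

end PL

section dim

theorem supportDim_weaklyRegular_le {R : Type u} [CommRing R] (rs : List R) :
    ∀ (M : Type v) [AddCommGroup M] [Module R M] [Module.Finite R M], IsWeaklyRegular M rs →
      Module.supportDim R (M ⧸ Ideal.ofList rs • (⊤ : Submodule R M)) + (rs.length : WithBot ℕ∞) ≤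
        Module.supportDim R M := by
  induction rs with
  | nil =>
    intro M _ _ _ _
    rw [Ideal.ofList_nil, Submodule.bot_smul, List.length_nil, Nat.cast_zero, add_zero]
    exact (Module.supportDim_eq_of_equiv (Submodule.quotEquivOfEqBot ⊥ rfl)).le
  | cons x rs ih =>
    intro M _ _ _ hreg
    obtain ⟨h0, h'⟩ := (isWeaklyRegular_cons_iff M x rs).1 hreg
    rw [Module.supportDim_eq_of_equiv
      (Submodule.quotOfListConsSMulTopEquivQuotSMulTopInner M x rs)]
    have h1 := ih (QuotSMulTop x M) h'
    have h2 : Module.supportDim R (QuotSMulTop x M) + 1 ≤ Module.supportDim R M :=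
      Module.supportDim_quotSMulTop_succ_le_of_notMem_minimalPrimes
        (fun _ => h0.notMem_of_mem_minimalPrimes)
    rw [List.length_cons, Nat.cast_add, Nat.cast_one, ← add_assoc]
    exact le_trans (add_le_add h1 le_rfl) h2

theorem wb_le_zero {a : WithBot ℕ∞} {d : ℕ} (h : a + (d : WithBot ℕ∞) ≤ (d : WithBot ℕ∞)) :
    a ≤ 0 := by
  induction a using WithBot.recBotCoe with
  | bot => exact bot_le
  | coe a' =>
    have h' : a' + (d : ℕ∞) ≤ (d : ℕ∞) := by exact_mod_cast h
    have hne : a' ≠ ⊤ := by
      intro h0
      rw [h0, top_add] at h'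
      exact absurd h' (by simp)
    lift a' to ℕ using hne
    have h'' : a' + d ≤ d := by exact_mod_cast h'
    have h3 : a' = 0 := by omega
    rw [h3]
    rfl

end dim

end Groth.Agent.Lib.PolyRegH1
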