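import Mathlib
import Groth.Prelude.Def_GrLC
import Groth.Agent.Lib.GrStar_helper1

/-! The Veronese functor on graded modules (helper1). -/

set_option autoImplicit false

namespace Groth.Agent.Lib.Ver1H1

open DirectSum GrLC

universe u

section basic

variable {R : Type u} [CommRing R] {R' : Type u} [CommRing R']
variable (𝒜 : ℤ → AddSubgroup R) (𝒜' : ℤ → AddSubgroup R') (φ : R' →+* R) (q : ℕ)

/-- Veronese data: `φ` identifies `R'` with the `q`-th Veronese subring of `R`. -/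
structure VData : Prop where
  hq : 0 < q
  inj : Function.Injective φ
  deg : ∀ j : ℤ, (𝒜' j).map (φ : R' →+ R) = 𝒜 (j * q)

variable {𝒜 𝒜' φ q}

theorem VData.map_mem (hV : VData 𝒜 𝒜' φ q) {j : ℤ} {r : R'} (hr : r ∈ 𝒜' j) :
    φ r ∈ 𝒜 (j * q) := by
  rw [← hV.deg j]
  exact ⟨r, hr, rfl⟩

theorem VData.exists_of_mem (hV : VData 𝒜 𝒜' φ q) {j : ℤ} {s : R} (hs : s ∈ 𝒜 (j * q)) :
    ∃ r ∈ 𝒜' j, φ r = s := by
  rw [← hV.deg j] at hs
  obtain ⟨r, hr, h⟩ := hs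
  exact ⟨r, hr, h⟩

theorem VData.qne (hV : VData 𝒜 𝒜' φ q) : (q : ℤ) ≠ 0 := by
  have := hV.hq
  exact_mod_cast this.ne'

end basic

section ver

variable {R : Type u} [CommRing R] {𝒜 : ℤ → AddSubgroup R} [GradedRing 𝒜]
variable {R' : Type u} [CommRing R'] {𝒜' : ℤ → AddSubgroup R'} [GradedRing 𝒜']
variable {φ : R' →+* R} {q : ℕ} (hV : VData 𝒜 𝒜' φ q)
variable {N : Type u} [AddCommGroup N] [Module R N] [Module R' N]
  (hsm : ∀ (r : R') (x : N), r • x = φ r • x)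
variable (𝒩 : ℤ → AddSubgroup N) [SetLike.GradedSMul 𝒜 𝒩]

include hV hsm in
theorem smul_mem_iSup (r : R') (x : N) (hx : x ∈ ⨆ j : ℤ, 𝒩 (j * q)) :
    r • x ∈ ⨆ j : ℤ, 𝒩 (j * q) := by
  classical
  induction r using DirectSum.Decomposition.inductionOn 𝒜' with
  | zero => rw [zero_smul]; exact zero_mem _
  | @homogeneous i r =>
    refine AddSubgroup.iSup_induction (fun j : ℤ => 𝒩 (j * q))
      (C := fun x => (r : R') • x ∈ ⨆ j : ℤ, 𝒩 (j * q)) hx ?_ ?_ ?_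
    · intro j x hx
      rw [hsm]
      have h := SetLike.GradedSMul.smul_mem (A := 𝒜) (B := 𝒩) (hV.map_mem r.2) hx
      rw [vadd_eq_add, ← add_mul] at h
      exact AddSubgroup.mem_iSup_of_mem (i + j) h
    · rw [smul_zero]; exact zero_mem _
    · intro x y hx hy
      rw [smul_add]; exact add_mem hx hy
  | add a b ha hb => rw [add_smul]; exact add_mem ha hb

/-- the Veronese submodule `⊕_j N_{jq}` -/
def verSubm : Submodule R' N :=
  { (⨆ j : ℤ, 𝒩 (j * q) : AddSubgroup N).toAddSubmonoid with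
    smul_mem' := fun r x hx => smul_mem_iSup hV hsm 𝒩 r x hx }

theorem mem_verSubm {x : N} : x ∈ verSubm hV hsm 𝒩 ↔ x ∈ ⨆ j : ℤ, 𝒩 (j * q) := Iff.rfl

theorem mem_ver_of_mem {j : ℤ} {x : N} (hx : x ∈ 𝒩 (j * q)) : x ∈ verSubm hV hsm 𝒩 := by
  rw [mem_verSubm]
  exact AddSubgroup.mem_iSup_of_mem j hx

theorem mem_ver_of_dvd {k : ℤ} {x : N} (hx : x ∈ 𝒩 k) (h : (q : ℤ) ∣ k) :
    x ∈ verSubm hV hsm 𝒩 := by
  obtain ⟨c, rfl⟩ := h
  exact mem_ver_of_mem hV hsm 𝒩 (j := c) (by rw [mul_comm]; exact hx)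

theorem ver_induction {C : N → Prop} (mem : ∀ (j : ℤ) (x : N), x ∈ 𝒩 (j * q) → C x) (zero : C 0)
    (add : ∀ x y, C x → C y → C (x + y)) {x : N} (hx : x ∈ verSubm hV hsm 𝒩) : C x :=
  AddSubgroup.iSup_induction (fun j : ℤ => 𝒩 (j * q)) (C := C) hx mem zero add

open scoped Classical in
/-- inclusion of the pieces of degree divisible by `q`, zero on the others -/
noncomputable def piAux (k : ℤ) : 𝒩 k →+ ↥(verSubm hV hsm 𝒩) :=
  if h : (q : ℤ) ∣ k then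
    { toFun := fun x => ⟨x.1, mem_ver_of_dvd hV hsm 𝒩 x.2 h⟩
      map_zero' := rfl
      map_add' := fun _ _ => rfl }
  else 0

theorem piAux_of_dvd {k : ℤ} (h : (q : ℤ) ∣ k) (x : 𝒩 k) :
    ((piAux hV hsm 𝒩 k x : ↥(verSubm hV hsm 𝒩)) : N) = x := by
  unfold piAux
  rw [dif_pos h]
  rfl

theorem piAux_of_not_dvd {k : ℤ} (h : ¬ (q : ℤ) ∣ k) (x : 𝒩 k) : piAux hV hsm 𝒩 k x = 0 := by
  unfold piAux
  rw [dif_neg h]
  rfl

/-- pieces of the Veronese submodule -/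
def verGr (j : ℤ) : AddSubgroup ↥(verSubm hV hsm 𝒩) :=
  (𝒩 (j * q)).comap (verSubm hV hsm 𝒩).subtype.toAddMonoidHom

theorem mem_verGr {j : ℤ} {x : ↥(verSubm hV hsm 𝒩)} :
    x ∈ verGr hV hsm 𝒩 j ↔ (x : N) ∈ 𝒩 (j * q) := Iff.rfl

theorem ver_gsmul : SetLike.GradedSMul 𝒜' (verGr hV hsm 𝒩) where
  smul_mem := by
    intro i j r x hr hx
    rw [mem_verGr, vadd_eq_add, Submodule.coe_smul, hsm, add_mul]
    have h := SetLike.GradedSMul.smul_mem (A := 𝒜) (B := 𝒩) (hV.map_mem hr)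
      ((mem_verGr hV hsm 𝒩).1 hx)
    rwa [vadd_eq_add] at h

variable [Decomposition 𝒩]

/-- the projection onto the Veronese submodule -/
noncomputable def vpi : N →+ ↥(verSubm hV hsm 𝒩) :=
  (DirectSum.toAddMonoid (piAux hV hsm 𝒩)).comp (DirectSum.decomposeAddEquiv 𝒩).toAddMonoidHom

theorem vpi_of_mem {k : ℤ} {x : N} (hx : x ∈ 𝒩 k) :
    vpi hV hsm 𝒩 x = piAux hV hsm 𝒩 k ⟨x, hx⟩ := by
  show DirectSum.toAddMonoid (piAux hV hsm 𝒩) (DirectSum.decompose 𝒩 x) = _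
  rw [DirectSum.decompose_of_mem 𝒩 hx, DirectSum.toAddMonoid_of]

theorem vpi_coe_of_dvd {k : ℤ} {x : N} (hx : x ∈ 𝒩 k) (h : (q : ℤ) ∣ k) :
    ((vpi hV hsm 𝒩 x : ↥(verSubm hV hsm 𝒩)) : N) = x := by
  rw [vpi_of_mem hV hsm 𝒩 hx, piAux_of_dvd hV hsm 𝒩 h]

theorem vpi_of_not_dvd {k : ℤ} {x : N} (hx : x ∈ 𝒩 k) (h : ¬ (q : ℤ) ∣ k) :
    vpi hV hsm 𝒩 x = 0 := by
  rw [vpi_of_mem hV hsm 𝒩 hx, piAux_of_not_dvd hV hsm 𝒩 h]

theorem vpi_coe (x : ↥(verSubm hV hsm 𝒩)) : vpi hV hsm 𝒩 (x : N) = x := by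
  apply Subtype.ext
  have key : ∀ y : N, y ∈ verSubm hV hsm 𝒩 →
      ((vpi hV hsm 𝒩 y : ↥(verSubm hV hsm 𝒩)) : N) = y := by
    intro y hy
    refine ver_induction hV hsm 𝒩
      (C := fun y => ((vpi hV hsm 𝒩 y : ↥(verSubm hV hsm 𝒩)) : N) = y) ?_ ?_ ?_ hy
    · intro j y hy
      exact vpi_coe_of_dvd hV hsm 𝒩 hy (dvd_mul_left _ _)
    · rw [map_zero]; rfl
    · intro a b ha hb
      rw [map_add, Submodule.coe_add, ha, hb]
  exact key x x.2

theorem vpi_smul (r : R') (x : N) : vpi hV hsm 𝒩 (r • x) = r • vpi hV hsm 𝒩 x := by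
  classical
  induction r using DirectSum.Decomposition.inductionOn 𝒜' with
  | zero => rw [zero_smul, zero_smul, map_zero]
  | @homogeneous i r =>
    induction x using DirectSum.Decomposition.inductionOn 𝒩 with
    | zero => rw [smul_zero, map_zero, smul_zero]
    | @homogeneous k x =>
      have hrx : (r : R') • (x : N) ∈ 𝒩 (i * q + k) := by
        rw [hsm]
        have h := SetLike.GradedSMul.smul_mem (A := 𝒜) (B := 𝒩) (hV.map_mem r.2) x.2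
        rwa [vadd_eq_add] at h
      by_cases hk : (q : ℤ) ∣ k
      · have hk' : (q : ℤ) ∣ i * q + k := dvd_add (dvd_mul_left _ _) hk
        apply Subtype.ext
        rw [vpi_coe_of_dvd hV hsm 𝒩 hrx hk', Submodule.coe_smul,
          vpi_coe_of_dvd hV hsm 𝒩 x.2 hk]
      · have hk' : ¬ (q : ℤ) ∣ i * q + k :=
          fun h => hk ((dvd_add_right (dvd_mul_left _ _)).1 h)
        rw [vpi_of_not_dvd hV hsm 𝒩 hrx hk', vpi_of_not_dvd hV hsm 𝒩 x.2 hk, smul_zero]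
    | add x y hx hy => rw [smul_add, map_add, hx, hy, map_add, smul_add]
  | add r r' hr hr' => rw [add_smul, map_add, hr, hr', add_smul]

/-- the projection, as an `R'`-linear map -/
noncomputable def vpiL : N →ₗ[R'] ↥(verSubm hV hsm 𝒩) where
  toFun := vpi hV hsm 𝒩
  map_add' := map_add _
  map_smul' := fun r x => vpi_smul hV hsm 𝒩 r x

theorem ver_comp_eq (w : ⨁ j, verGr hV hsm 𝒩 j) (j₀ : ℤ) :
    (((w j₀ : verGr hV hsm 𝒩 j₀) : ↥(verSubm hV hsm 𝒩)) : N) =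
      (decompose 𝒩 ((DirectSum.coeAddMonoidHom (verGr hV hsm 𝒩) w :
        ↥(verSubm hV hsm 𝒩)) : N) (j₀ * q) : N) := by
  classical
  induction w using DirectSum.induction_on with
  | zero => simp
  | of j y =>
    rw [DirectSum.coeAddMonoidHom_of]
    by_cases hj : j = j₀
    · subst hj
      rw [DirectSum.of_eq_same, DirectSum.decompose_of_mem_same 𝒩 ((mem_verGr hV hsm 𝒩).1 y.2)]
    · rw [DirectSum.of_eq_of_ne _ _ _ (fun h => hj h.symm),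
        DirectSum.decompose_of_mem_ne 𝒩 ((mem_verGr hV hsm 𝒩).1 y.2)
          (fun h => hj (mul_right_cancel₀ hV.qne h))]
      rfl
  | add x y hx hy =>
    rw [DirectSum.add_apply, AddSubgroup.coe_add, Submodule.coe_add, hx, hy, map_add,
      Submodule.coe_add, DirectSum.decompose_add, DirectSum.add_apply, AddSubgroup.coe_add]

theorem ver_isInternal : DirectSum.IsInternal (verGr hV hsm 𝒩) := by
  classical
  constructor
  · rw [injective_iff_map_eq_zero]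
    intro w hw
    apply DFinsupp.ext
    intro j
    apply Subtype.ext
    apply Subtype.ext
    rw [ver_comp_eq hV hsm 𝒩 w j, hw]
    simp
  · intro x
    have key : ∀ y : N, y ∈ verSubm hV hsm 𝒩 → ∃ w : ⨁ j, verGr hV hsm 𝒩 j,
        ((DirectSum.coeAddMonoidHom (verGr hV hsm 𝒩) w : ↥(verSubm hV hsm 𝒩)) : N) = y := by
      intro y hy
      refine ver_induction hV hsm 𝒩
        (C := fun y => ∃ w : ⨁ j, verGr hV hsm 𝒩 j,
          ((DirectSum.coeAddMonoidHom (verGr hV hsm 𝒩) w : ↥(verSubm hV hsm 𝒩)) : N) = y)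
        ?_ ?_ ?_ hy
      · intro j y hy
        refine ⟨DirectSum.of (fun j => verGr hV hsm 𝒩 j) j
          ⟨⟨y, mem_ver_of_mem hV hsm 𝒩 hy⟩, hy⟩, ?_⟩
        rw [DirectSum.coeAddMonoidHom_of]
      · exact ⟨0, by rw [map_zero]; rfl⟩
      · rintro a b ⟨wa, ha⟩ ⟨wb, hb⟩
        exact ⟨wa + wb, by rw [map_add, Submodule.coe_add, ha, hb]⟩
    obtain ⟨w, hw⟩ := key x x.2
    exact ⟨w, Subtype.ext hw⟩

/-- the decomposition of the Veronese submodule -/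
noncomputable def verDecomp : Decomposition (verGr hV hsm 𝒩) :=
  (ver_isInternal hV hsm 𝒩).chooseDecomposition

end ver

section maps

variable {R : Type u} [CommRing R] {𝒜 : ℤ → AddSubgroup R} [GradedRing 𝒜]
variable {R' : Type u} [CommRing R'] {𝒜' : ℤ → AddSubgroup R'} [GradedRing 𝒜']
variable {φ : R' →+* R} {q : ℕ} (hV : VData 𝒜 𝒜' φ q)
variable {N : Type u} [AddCommGroup N] [Module R N] [Module R' N]
  (hsm : ∀ (r : R') (x : N), r • x = φ r • x)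
variable (𝒩 : ℤ → AddSubgroup N) [SetLike.GradedSMul 𝒜 𝒩]
variable {P : Type u} [AddCommGroup P] [Module R P] [Module R' P]
  (hsmP : ∀ (r : R') (x : P), r • x = φ r • x)
variable (𝒴 : ℤ → AddSubgroup P) [SetLike.GradedSMul 𝒜 𝒴]
variable {Q : Type u} [AddCommGroup Q] [Module R Q] [Module R' Q]
  (hsmQ : ∀ (r : R') (x : Q), r • x = φ r • x)
variable (𝒵 : ℤ → AddSubgroup Q) [SetLike.GradedSMul 𝒜 𝒵]

theorem map_mem_ver {f : N →ₗ[R] P} (hf : IsGrHom 𝒩 𝒴 f) {x : N} (hx : x ∈ verSubm hV hsm 𝒩) :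
    f x ∈ verSubm hV hsmP 𝒴 := by
  refine ver_induction hV hsm 𝒩 (C := fun x => f x ∈ verSubm hV hsmP 𝒴) ?_ ?_ ?_ hx
  · intro j y hy
    exact mem_ver_of_mem hV hsmP 𝒴 (hf _ y hy)
  · rw [map_zero]; exact zero_mem _
  · intro a b ha hb
    rw [map_add]; exact add_mem ha hb

/-- the Veronese functor on graded maps -/
def vmap (f : N →ₗ[R] P) (hf : IsGrHom 𝒩 𝒴 f) :
    ↥(verSubm hV hsm 𝒩) →ₗ[R'] ↥(verSubm hV hsmP 𝒴) where
  toFun x := ⟨f x.1, map_mem_ver hV hsm 𝒩 hsmP 𝒴 hf x.2⟩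
  map_add' x y := Subtype.ext (by
    show f ((x : N) + (y : N)) = f x + f y
    rw [map_add])
  map_smul' r x := Subtype.ext (by
    show f (r • (x : N)) = r • f (x : N)
    rw [hsm, map_smul, hsmP])

theorem vmap_coe (f : N →ₗ[R] P) (hf : IsGrHom 𝒩 𝒴 f) (x : ↥(verSubm hV hsm 𝒩)) :
    ((vmap hV hsm 𝒩 hsmP 𝒴 f hf x : ↥(verSubm hV hsmP 𝒴)) : P) = f x := rfl

theorem vmap_gr (f : N →ₗ[R] P) (hf : IsGrHom 𝒩 𝒴 f) :
    IsGrHom (verGr hV hsm 𝒩) (verGr hV hsmP 𝒴) (vmap hV hsm 𝒩 hsmP 𝒴 f hf) :=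
  fun j x hx => hf _ _ ((mem_verGr hV hsm 𝒩).1 hx)

theorem vmap_injective (f : N →ₗ[R] P) (hf : IsGrHom 𝒩 𝒴 f) (hinj : Function.Injective f) :
    Function.Injective (vmap hV hsm 𝒩 hsmP 𝒴 f hf) := by
  intro x y h
  apply Subtype.ext
  apply hinj
  exact congrArg Subtype.val h

variable [Decomposition 𝒩] [Decomposition 𝒴]

theorem vpi_nat {f : N →ₗ[R] P} (hf : IsGrHom 𝒩 𝒴 f) (x : N) :
    vpi hV hsmP 𝒴 (f x) = vmap hV hsm 𝒩 hsmP 𝒴 f hf (vpi hV hsm 𝒩 x) := by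
  classical
  induction x using DirectSum.Decomposition.inductionOn 𝒩 with
  | zero => simp only [map_zero]
  | @homogeneous k x =>
    by_cases hk : (q : ℤ) ∣ k
    · apply Subtype.ext
      rw [vpi_coe_of_dvd hV hsmP 𝒴 (hf k x x.2) hk, vmap_coe,
        vpi_coe_of_dvd hV hsm 𝒩 x.2 hk]
    · rw [vpi_of_not_dvd hV hsmP 𝒴 (hf k x x.2) hk, vpi_of_not_dvd hV hsm 𝒩 x.2 hk, map_zero]
  | add x y hx hy => rw [map_add, map_add, hx, hy, map_add, map_add]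

theorem vmap_surjective (f : N →ₗ[R] P) (hf : IsGrHom 𝒩 𝒴 f) (hsurj : Function.Surjective f) :
    Function.Surjective (vmap hV hsm 𝒩 hsmP 𝒴 f hf) := by
  intro y
  obtain ⟨x, hx⟩ := hsurj (y : P)
  refine ⟨vpi hV hsm 𝒩 x, ?_⟩
  rw [← vpi_nat hV hsm 𝒩 hsmP 𝒴 hf, hx, vpi_coe]

theorem vmap_exact {f : N →ₗ[R] P} {g : P →ₗ[R] Q} (hf : IsGrHom 𝒩 𝒴 f) (hg : IsGrHom 𝒴 𝒵 g)
    (h : LinearMap.ker g = LinearMap.range f) :
    LinearMap.ker (vmap hV hsmP 𝒴 hsmQ 𝒵 g hg) = LinearMap.range (vmap hV hsm 𝒩 hsmP 𝒴 f hf) := by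
  apply le_antisymm
  · intro y hy
    have hy' : g (y : P) = 0 := congrArg Subtype.val (LinearMap.mem_ker.1 hy)
    have hy2 : (y : P) ∈ LinearMap.range f := by
      rw [← h]
      exact hy'
    obtain ⟨x, hx⟩ := hy2
    refine ⟨vpi hV hsm 𝒩 x, ?_⟩
    rw [← vpi_nat hV hsm 𝒩 hsmP 𝒴 hf, hx, vpi_coe]
  · rintro _ ⟨x, rfl⟩
    rw [LinearMap.mem_ker]
    apply Subtype.ext
    show g (f (x : N)) = 0
    have h1 : f (x : N) ∈ LinearMap.ker g := by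
      rw [h]
      exact ⟨_, rfl⟩
    exact h1

end maps

end Groth.Agent.Lib.Ver1H1
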