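import Mathlib
import Groth.Prelude.Def_GrLC
import Groth.Prelude.Def_Wider
import Groth.Agent.Lib.Ver1_helper1
import Groth.Agent.Lib.GrStarLC_helper1
import Groth.Agent.Lib.LocCohBaseIndep_helper7

/-! The Veronese functor on bundled graded modules; Noetherianity of the Veronese subring;
acyclicity of the Veronese of a *injective module (helper1). -/

set_option autoImplicit false

namespace Groth.Agent.Lib.Ver2H1

open DirectSum GrLC CategoryTheory Groth.Agent.Lib.Ver1H1

universe u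

section bundle

variable {R : Type u} [CommRing R] {𝒜 : ℤ → AddSubgroup R} [GradedRing 𝒜]
variable {R' : Type u} [CommRing R'] {𝒜' : ℤ → AddSubgroup R'} [GradedRing 𝒜']
variable {φ : R' →+* R} {q : ℕ} (hV : VData 𝒜 𝒜' φ q)

/-- the Veronese module of a graded module -/
noncomputable def ver (X : GMod.{u} 𝒜) : GMod.{u} 𝒜' :=
  letI : Module R' X.carrier := Module.compHom X.carrier φ
  letI := verDecomp hV (fun (_ : R') (_ : X.carrier) => rfl) X.gr
  letI := ver_gsmul hV (fun (_ : R') (_ : X.carrier) => rfl) X.gr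
  { carrier := ↥(verSubm hV (fun (_ : R') (_ : X.carrier) => rfl) X.gr)
    gr := verGr hV (fun (_ : R') (_ : X.carrier) => rfl) X.gr }

/-- the inclusion of the Veronese module -/
def vinc (X : GMod.{u} 𝒜) : (ver hV X).carrier →+ X.carrier :=
  letI : Module R' X.carrier := Module.compHom X.carrier φ
  (verSubm hV (fun (_ : R') (_ : X.carrier) => rfl) X.gr).subtype.toAddMonoidHom

theorem vinc_injective (X : GMod.{u} 𝒜) : Function.Injective (vinc hV X) :=
  Subtype.val_injective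

theorem vinc_smul (X : GMod.{u} 𝒜) (r : R') (x : (ver hV X).carrier) :
    vinc hV X (r • x) = φ r • vinc hV X x := rfl

theorem mem_ver_gr (X : GMod.{u} 𝒜) {j : ℤ} {x : (ver hV X).carrier} :
    x ∈ (ver hV X).gr j ↔ vinc hV X x ∈ X.gr (j * q) := Iff.rfl

/-- the projection onto the Veronese module -/
noncomputable def vproj (X : GMod.{u} 𝒜) : X.carrier →+ (ver hV X).carrier :=
  letI : Module R' X.carrier := Module.compHom X.carrier φ
  vpi hV (fun (_ : R') (_ : X.carrier) => rfl) X.gr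

theorem vproj_smul (X : GMod.{u} 𝒜) (r : R') (x : X.carrier) :
    vproj hV X (φ r • x) = r • vproj hV X x :=
  letI : Module R' X.carrier := Module.compHom X.carrier φ
  vpi_smul hV (fun (_ : R') (_ : X.carrier) => rfl) X.gr r x

theorem vproj_vinc (X : GMod.{u} 𝒜) (x : (ver hV X).carrier) : vproj hV X (vinc hV X x) = x :=
  letI : Module R' X.carrier := Module.compHom X.carrier φ
  vpi_coe hV (fun (_ : R') (_ : X.carrier) => rfl) X.gr x

theorem vinc_vproj_of_dvd (X : GMod.{u} 𝒜) {k : ℤ} {x : X.carrier} (hx : x ∈ X.gr k)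
    (h : (q : ℤ) ∣ k) : vinc hV X (vproj hV X x) = x :=
  letI : Module R' X.carrier := Module.compHom X.carrier φ
  vpi_coe_of_dvd hV (fun (_ : R') (_ : X.carrier) => rfl) X.gr hx h

theorem vproj_of_not_dvd (X : GMod.{u} 𝒜) {k : ℤ} {x : X.carrier} (hx : x ∈ X.gr k)
    (h : ¬ (q : ℤ) ∣ k) : vproj hV X x = 0 :=
  letI : Module R' X.carrier := Module.compHom X.carrier φ
  vpi_of_not_dvd hV (fun (_ : R') (_ : X.carrier) => rfl) X.gr hx h

theorem exists_vinc_eq (X : GMod.{u} 𝒜) {j : ℤ} {y : X.carrier} (hy : y ∈ X.gr (j * q)) :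
    ∃ x : (ver hV X).carrier, x ∈ (ver hV X).gr j ∧ vinc hV X x = y :=
  letI : Module R' X.carrier := Module.compHom X.carrier φ
  ⟨⟨y, mem_ver_of_mem hV (fun (_ : R') (_ : X.carrier) => rfl) X.gr hy⟩, hy, rfl⟩

theorem vinc_induction (X : GMod.{u} 𝒜) {C : X.carrier → Prop}
    (mem : ∀ (j : ℤ) (x : X.carrier), x ∈ X.gr (j * q) → C x) (zero : C 0)
    (add : ∀ x y, C x → C y → C (x + y)) (x : (ver hV X).carrier) : C (vinc hV X x) :=
  letI : Module R' X.carrier := Module.compHom X.carrier φ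
  ver_induction hV (fun (_ : R') (_ : X.carrier) => rfl) X.gr mem zero add x.2

variable {X Y Z : GMod.{u} 𝒜}

/-- the Veronese functor on graded maps -/
noncomputable def vmapG (f : X.carrier →ₗ[R] Y.carrier) (hf : IsGrHom X.gr Y.gr f) :
    (ver hV X).carrier →ₗ[R'] (ver hV Y).carrier :=
  letI : Module R' X.carrier := Module.compHom X.carrier φ
  letI : Module R' Y.carrier := Module.compHom Y.carrier φ
  vmap hV (fun (_ : R') (_ : X.carrier) => rfl) X.gr (fun (_ : R') (_ : Y.carrier) => rfl) Y.gr f hf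

theorem vinc_vmapG (f : X.carrier →ₗ[R] Y.carrier) (hf : IsGrHom X.gr Y.gr f)
    (x : (ver hV X).carrier) : vinc hV Y (vmapG hV f hf x) = f (vinc hV X x) := rfl

theorem vmapG_gr (f : X.carrier →ₗ[R] Y.carrier) (hf : IsGrHom X.gr Y.gr f) :
    IsGrHom (ver hV X).gr (ver hV Y).gr (vmapG hV f hf) :=
  fun j x hx => hf _ _ ((mem_ver_gr hV X).1 hx)

theorem vproj_nat (f : X.carrier →ₗ[R] Y.carrier) (hf : IsGrHom X.gr Y.gr f) (x : X.carrier) :
    vproj hV Y (f x) = vmapG hV f hf (vproj hV X x) :=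
  letI : Module R' X.carrier := Module.compHom X.carrier φ
  letI : Module R' Y.carrier := Module.compHom Y.carrier φ
  vpi_nat hV (fun (_ : R') (_ : X.carrier) => rfl) X.gr (fun (_ : R') (_ : Y.carrier) => rfl) Y.gr
    hf x

theorem vmapG_injective (f : X.carrier →ₗ[R] Y.carrier) (hf : IsGrHom X.gr Y.gr f)
    (hinj : Function.Injective f) : Function.Injective (vmapG hV f hf) := by
  intro x y h
  apply vinc_injective hV X
  apply hinj
  rw [← vinc_vmapG hV f hf, ← vinc_vmapG hV f hf, h]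

theorem vmapG_exact {f : X.carrier →ₗ[R] Y.carrier} {g : Y.carrier →ₗ[R] Z.carrier}
    (hf : IsGrHom X.gr Y.gr f) (hg : IsGrHom Y.gr Z.gr g)
    (h : LinearMap.ker g = LinearMap.range f) :
    LinearMap.ker (vmapG hV g hg) = LinearMap.range (vmapG hV f hf) := by
  apply le_antisymm
  · intro y hy
    have hy' : g (vinc hV Y y) = 0 := by
      rw [← vinc_vmapG hV g hg, LinearMap.mem_ker.1 hy, map_zero]
    have hy2 : vinc hV Y y ∈ LinearMap.range f := by
      rw [← h]
      exact hy'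
    obtain ⟨x, hx⟩ := hy2
    refine ⟨vproj hV X x, ?_⟩
    rw [← vproj_nat hV f hf, hx, vproj_vinc]
  · rintro _ ⟨x, rfl⟩
    rw [LinearMap.mem_ker]
    apply vinc_injective hV Z
    rw [vinc_vmapG, vinc_vmapG, map_zero]
    have h1 : f (vinc hV X x) ∈ LinearMap.ker g := by
      rw [h]
      exact ⟨_, rfl⟩
    exact h1

theorem vproj_mem_gr (X : GMod.{u} 𝒜) {j : ℤ} {x : X.carrier} (hx : x ∈ X.gr (j * q)) :
    vproj hV X x ∈ (ver hV X).gr j := by
  rw [mem_ver_gr, vinc_vproj_of_dvd hV X hx (dvd_mul_left _ _)]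
  exact hx

end bundle

section noeth

variable {R : Type u} [CommRing R] {𝒜 : ℤ → AddSubgroup R} [GradedRing 𝒜]
variable {R' : Type u} [CommRing R'] {𝒜' : ℤ → AddSubgroup R'} [GradedRing 𝒜']
variable {φ : R' →+* R} {q : ℕ} (hV : VData 𝒜 𝒜' φ q)

include hV in
theorem isNoetherianRing_of_vdata [IsNoetherianRing R] : IsNoetherianRing R' := by
  classical
  let X₀ : GMod.{u} 𝒜 := GMod.of 𝒜 R 𝒜
  let ρ : R →+ R := (vinc hV X₀).comp (vproj hV X₀)
  have hρadd : ∀ s t, ρ (s + t) = ρ s + ρ t := fun s t => map_add ρ s t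
  have hρzero : ρ 0 = 0 := map_zero ρ
  have hρsmul : ∀ (b : R') (s : R), ρ (φ b * s) = φ b * ρ s := by
    intro b s
    have h1 := vproj_smul hV X₀ b s
    have h2 := congrArg (vinc hV X₀) h1
    rw [vinc_smul] at h2
    exact h2
  have hρrange : ∀ s : R, ∃ c : R', φ c = ρ s := by
    intro s
    refine vinc_induction hV X₀ (C := fun y => ∃ c : R', φ c = y) ?_ ?_ ?_ (vproj hV X₀ s)
    · intro j x hx
      obtain ⟨r, -, h⟩ := hV.exists_of_mem hx
      exact ⟨r, h⟩
    · exact ⟨0, map_zero φ⟩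
    · rintro x y ⟨c, hc⟩ ⟨d, hd⟩
      exact ⟨c + d, (map_add φ c d).trans (by rw [hc, hd]; rfl)⟩
  have hρφ : ∀ c : R', ρ (φ c) = φ c := by
    intro c
    have h1 : ρ 1 = 1 :=
      vinc_vproj_of_dvd hV X₀ (k := 0) (SetLike.GradedOne.one_mem : (1 : R) ∈ 𝒜 0) (dvd_zero _)
    have := hρsmul c 1
    rw [mul_one, h1, mul_one] at this
    exact this
  have key : ∀ J : Ideal R', (J.map φ).comap φ = J := by
    intro J
    apply le_antisymm
    · intro x hx
      have hx' : φ x ∈ Submodule.span R ((φ : R' → R) '' (J : Set R')) := hx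
      have hP : ∀ y ∈ Submodule.span R ((φ : R' → R) '' (J : Set R')),
          ∀ s : R, ∃ c ∈ J, φ c = ρ (s * y) := by
        intro y hy
        refine Submodule.span_induction
          (p := fun y _ => ∀ s : R, ∃ c ∈ J, φ c = ρ (s * y)) ?_ ?_ ?_ ?_ hy
        · rintro _ ⟨b, hb, rfl⟩ s
          obtain ⟨c₀, hc₀⟩ := hρrange s
          refine ⟨b * c₀, J.mul_mem_right _ hb, ?_⟩
          rw [mul_comm s, hρsmul, map_mul, hc₀]
        · intro s
          exact ⟨0, J.zero_mem, by rw [mul_zero, hρzero, map_zero]⟩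
        · intro y z _ _ hy hz s
          obtain ⟨c, hc, h1⟩ := hy s
          obtain ⟨d, hd, h2⟩ := hz s
          exact ⟨c + d, J.add_mem hc hd, by rw [mul_add, hρadd, map_add, h1, h2]⟩
        · intro t y _ hy s
          obtain ⟨c, hc, h1⟩ := hy (s * t)
          exact ⟨c, hc, by rw [h1, smul_eq_mul, mul_assoc]⟩
      obtain ⟨c, hc, h⟩ := hP _ hx' 1
      rw [one_mul, hρφ] at h
      rw [← hV.inj h]
      exact hc
    · exact Ideal.le_comap_map
  have hinj : Function.Injective (fun J : Ideal R' => J.map φ) := by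
    intro J₁ J₂ h
    rw [← key J₁, ← key J₂]
    exact congrArg (Ideal.comap φ) h
  have hmono : StrictMono (fun J : Ideal R' => J.map φ) :=
    Monotone.strictMono_of_injective (f := fun J : Ideal R' => J.map φ)
      (fun J₁ J₂ h => Ideal.map_mono h) hinj
  haveI : WellFoundedGT (Ideal R) := (isNoetherian_iff' (R := R) (M := R)).1 inferInstance
  exact (isNoetherian_iff' (R := R') (M := R')).2 hmono.wellFoundedGT

include hV in
theorem map_isHomogeneous (a' : HomogeneousIdeal 𝒜') : (a'.toIdeal.map φ).IsHomogeneous 𝒜 := by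
  obtain ⟨S, hS⟩ := (Ideal.IsHomogeneous.iff_exists (𝒜 := 𝒜') (I := a'.toIdeal)).1 a'.isHomogeneous
  rw [hS, Ideal.map_span]
  apply Ideal.homogeneous_span
  rintro _ ⟨_, ⟨s, -, rfl⟩, rfl⟩
  obtain ⟨j, hj⟩ := s.2
  exact ⟨j * q, hV.map_mem hj⟩

theorem ver_acyclic [IsNoetherianRing R] [IsNoetherianRing R'] (a' : HomogeneousIdeal 𝒜')
    (X : GMod.{u} 𝒜) (hX : IsStarInj 𝒜 X.gr) (G : StarInjRes 𝒜' (ver hV X).gr) (p : ℕ)
    (hp : 1 ≤ p) : Subsingleton (G.H a' p) := by
  letI : Algebra R' R := φ.toAlgebra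
  letI : Module R' X.carrier := Module.compHom X.carrier φ
  haveI : IsScalarTower R' R X.carrier := IsScalarTower.of_algebraMap_smul fun r x => rfl
  let a : HomogeneousIdeal 𝒜 := ⟨a'.toIdeal.map φ, map_isHomogeneous hV a'⟩
  have h1 : Subsingleton (LocCoh.H (a'.toIdeal.map (algebraMap R' R)) p X.carrier) :=
    OldExtH1.main13217 R 𝒜 a X.carrier X.gr hX p hp
  obtain ⟨e, -⟩ := LocCohBaseIndepH7.main (R := R') R a'.toIdeal p X.carrier
  have h2 : Subsingleton (LocCoh.H a'.toIdeal p X.carrier) := e.symm.toEquiv.subsingleton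
  let ιL : (ver hV X).carrier →ₗ[R'] X.carrier :=
    (verSubm hV (fun (_ : R') (_ : X.carrier) => rfl) X.gr).subtype
  let πL : X.carrier →ₗ[R'] (ver hV X).carrier :=
    vpiL hV (fun (_ : R') (_ : X.carrier) => rfl) X.gr
  have hπι : πL ∘ₗ ιL = LinearMap.id :=
    LinearMap.ext fun x => vpi_coe hV (fun (_ : R') (_ : X.carrier) => rfl) X.gr x
  have h3 : Subsingleton (LocCoh.H a'.toIdeal p (ver hV X).carrier) := by
    let F := localCohomology a'.toIdeal p
    have hcomp : F.map (ModuleCat.ofHom ιL) ≫ F.map (ModuleCat.ofHom πL) = 𝟙 _ := by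
      rw [← F.map_comp, ← ModuleCat.ofHom_comp, hπι, ModuleCat.ofHom_id, F.map_id]
    have key : ∀ z : F.obj (ModuleCat.of R' (ver hV X).carrier),
        z = (F.map (ModuleCat.ofHom πL)).hom ((F.map (ModuleCat.ofHom ιL)).hom z) := by
      intro z
      have := congrArg (fun f => f.hom z) hcomp
      exact this.symm
    refine ⟨fun x y => ?_⟩
    rw [key x, key y, Subsingleton.elim ((F.map (ModuleCat.ofHom ιL)).hom x)
      ((F.map (ModuleCat.ofHom ιL)).hom y)]
  obtain ⟨e2⟩ := GrStarLCH1.main13224 R' 𝒜' a' (ver hV X).carrier (ver hV X).gr G p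
  exact e2.toEquiv.subsingleton

end noeth

end Groth.Agent.Lib.Ver2H1
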