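import Mathlib
import Groth.Prelude.Def_GrLC
import Groth.Prelude.Def_Wider
import Groth.Agent.Lib.Ver2_helper1
import Groth.Agent.Lib.GrLES2_helper1
import Groth.Agent.Lib.GrHDec_helper1
import Groth.Agent.Lib.GrStar4_helper1

/-! Graded local cohomology of Veronese modules (helper1). -/

set_option autoImplicit false

namespace Groth.Agent.Lib.Ver3H1

open DirectSum GrLC Groth.Agent.Lib.Ver1H1 Groth.Agent.Lib.Ver2H1 Groth.Agent.Lib.GrLES1H1
  Groth.Agent.Lib.GrLES2H1 Groth.Agent.Lib.GrHDecH1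

universe u

/-! ### generalities -/
section general

variable {ι : Type} [AddCommGroup ι] [DecidableEq ι]
variable {R : Type u} [CommRing R] {𝒜 : ι → AddSubgroup R} [GradedRing 𝒜]
variable {M : Type u} [AddCommGroup M] [Module R M] {ℳ : ι → AddSubgroup M} [Decomposition ℳ]
  [SetLike.GradedSMul 𝒜 ℳ]
variable {N : Type u} [AddCommGroup N] [Module R N] {𝒩 : ι → AddSubgroup N} [Decomposition 𝒩]
  [SetLike.GradedSMul 𝒜 𝒩]
variable (E : StarInjRes 𝒜 ℳ) (a : HomogeneousIdeal 𝒜)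

/-- `Γ_a(M) → H⁰_a(M)` -/
noncomputable def Theta0 : ↥(gam a.toIdeal M) →ₗ[R] E.H a 0 :=
  E.toH a 0 ∘ₗ LinearMap.codRestrict (E.cocyc a 0) (E.ε ∘ₗ (gam a.toIdeal M).subtype)
    (fun x => ⟨map_mem_gam E.ε x.2, d_ε E x.1⟩)

theorem Theta0_apply (x : ↥(gam a.toIdeal M)) :
    Theta0 E a x = E.toH a 0 (mkZ a E 0 (E.ε x.1) (map_mem_gam E.ε x.2) (d_ε E x.1)) := rfl

theorem Theta0_surjective : Function.Surjective (Theta0 E a) := by
  intro y
  obtain ⟨z, rfl⟩ := toH_surjective a E 0 y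
  have hz : (z : (E.X 0).carrier) ∈ LinearMap.range E.ε := by
    rw [← E.exact_zero]
    exact z.2.2
  obtain ⟨x, hx⟩ := hz
  have hxg : x ∈ gam a.toIdeal M :=
    mem_gam_of_injective E.ε E.ε_injective (by rw [hx]; exact z.2.1)
  refine ⟨⟨x, hxg⟩, ?_⟩
  rw [Theta0_apply]
  congr 1
  exact Subtype.ext hx

theorem Theta0_injective : Function.Injective (Theta0 E a) := by
  rw [injective_iff_map_eq_zero]
  intro x hx
  rw [Theta0_apply, toH_eq_zero_iff, mem_cobdy_zero] at hx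
  have h1 : E.ε x.1 = 0 := hx
  exact Subtype.ext (E.ε_injective (by rw [h1, Submodule.coe_zero, map_zero]))

theorem Theta0_mem_gr {j : ι} (x : ↥(gam a.toIdeal M)) (hx : x.1 ∈ ℳ j) :
    Theta0 E a x ∈ E.Hgr a 0 j :=
  ⟨_, E.ε_grHom j x.1 hx, rfl⟩

theorem Theta0_gr_surj {j : ι} {y : E.H a 0} (hy : y ∈ E.Hgr a 0 j) :
    ∃ x : ↥(gam a.toIdeal M), x.1 ∈ ℳ j ∧ Theta0 E a x = y := by
  obtain ⟨z, hzj, rfl⟩ := hy
  have hz : (z : (E.X 0).carrier) ∈ LinearMap.range E.ε := by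
    rw [← E.exact_zero]
    exact z.2.2
  obtain ⟨x, hx⟩ := hz
  have hxg : x ∈ gam a.toIdeal M :=
    mem_gam_of_injective E.ε E.ε_injective (by rw [hx]; exact z.2.1)
  refine ⟨⟨x, hxg⟩, GrStar2H1.mem_of_map_mem ℳ (E.X 0).gr E.ε_grHom E.ε_injective
    (by rw [hx]; exact hzj), ?_⟩
  rw [Theta0_apply]
  congr 1
  exact Subtype.ext hx

theorem Theta0_nat (F : StarInjRes 𝒜 𝒩) (ψ : CMap E F) (v : M →ₗ[R] N)
    (hψ : ∀ m, ψ.f 0 (E.ε m) = F.ε (v m)) (x : ↥(gam a.toIdeal M)) :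
    ψ.H a 0 (Theta0 E a x) = Theta0 F a ⟨v x.1, map_mem_gam v x.2⟩ := by
  rw [Theta0_apply, Theta0_apply, CMap.H_toH]
  congr 1
  apply Subtype.ext
  rw [CMap.Z_coe]
  exact hψ x.1

/-- change the augmentation by a graded isomorphism -/
def reaug (θ : N ≃ₗ[R] M) (hθ : IsGrHom 𝒩 ℳ θ.toLinearMap) : StarInjRes 𝒜 𝒩 where
  X := E.X
  d := E.d
  ε := E.ε ∘ₗ θ.toLinearMap
  d_grHom := E.d_grHom
  ε_grHom := fun j z hz => E.ε_grHom j _ (hθ j z hz)
  ε_injective := E.ε_injective.comp θ.injective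
  exact_zero := by
    rw [E.exact_zero, LinearMap.range_comp_of_range_eq_top _ (LinearEquiv.range θ)]
  exact_succ := E.exact_succ
  starInj := E.starInj

theorem piece_surj {X Y : Type u} [AddCommGroup X] [Module R X] [AddCommGroup Y] [Module R Y]
    (𝒳 : ι → AddSubgroup X) [Decomposition 𝒳] (𝒴 : ι → AddSubgroup Y) [Decomposition 𝒴]
    (f : X →ₗ[R] Y) (hf : IsGrHom 𝒳 𝒴 f) (hs : Function.Surjective f) {k : ι} {y : Y}
    (hy : y ∈ 𝒴 k) : ∃ x ∈ 𝒳 k, f x = y :=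
  piece_exact 𝒳 𝒴 f (0 : Y →ₗ[R] Y) hf
    (by rw [LinearMap.ker_zero, LinearMap.range_eq_top.2 hs]) hy rfl

end general

theorem exists_induced {A B' B : Type u} [AddCommGroup A] [AddCommGroup B'] [AddCommGroup B]
    (c' : A →+ B') (c : A →+ B) (hc' : Function.Surjective c')
    (hker : ∀ a, c' a = 0 ↔ c a = 0) :
    ∃ Φ : B' →+ B, Function.Injective Φ ∧ ∀ a, Φ (c' a) = c a := by
  have hle : c'.ker ≤ c.ker := fun a ha =>
    (AddMonoidHom.mem_ker).2 ((hker a).1 ((AddMonoidHom.mem_ker).1 ha))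
  refine ⟨c'.liftOfSurjective hc' ⟨c, hle⟩, ?_, fun a => ?_⟩
  · rw [injective_iff_map_eq_zero]
    intro b hb
    obtain ⟨a, rfl⟩ := hc' b
    rw [AddMonoidHom.liftOfRightInverse_comp_apply] at hb
    exact (hker a).2 hb
  · exact AddMonoidHom.liftOfRightInverse_comp_apply _ _ _ ⟨c, hle⟩ a

/-- Veronese maps -/
structure IsVer {R R' : Type u} [CommRing R] [CommRing R'] (φ : R' →+* R) (q : ℕ) {H' H : Type u}
    [AddCommGroup H'] [Module R' H'] [AddCommGroup H] [Module R H]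
    (𝓗' : ℤ → AddSubgroup H') (𝓗 : ℤ → AddSubgroup H) (Φ : H' →+ H) : Prop where
  smul : ∀ (r : R') (x : H'), Φ (r • x) = φ r • Φ x
  inj : Function.Injective Φ
  map_mem : ∀ (j : ℤ) (x : H'), x ∈ 𝓗' j → Φ x ∈ 𝓗 (j * q)
  surj : ∀ (j : ℤ) (y : H), y ∈ 𝓗 (j * q) → ∃ x ∈ 𝓗' j, Φ x = y

/-! ### the Veronese complex -/
section veronese

variable {R : Type u} [CommRing R] {𝒜 : ℤ → AddSubgroup R} [GradedRing 𝒜]
variable {R' : Type u} [CommRing R'] {𝒜' : ℤ → AddSubgroup R'} [GradedRing 𝒜']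
variable {φ : R' →+* R} {q : ℕ} (hV : VData 𝒜 𝒜' φ q)
variable (m : HomogeneousIdeal 𝒜) (m' : HomogeneousIdeal 𝒜')

/-- compatibility of the torsion functors -/
def GamCompat (φ : R' →+* R) (m : HomogeneousIdeal 𝒜) (m' : HomogeneousIdeal 𝒜') : Prop :=
  ∀ (X : Type u) [AddCommGroup X] [Module R X] (x : X),
    x ∈ gam m.toIdeal X ↔ ∃ n : ℕ, ∀ r ∈ m'.toIdeal ^ n, φ r • x = 0

include hV in
theorem gamCompat_of_span [IsNoetherianRing R]
    (hmsp : m.toIdeal = Ideal.span (⋃ n ∈ Set.Ioi (0 : ℤ), (𝒜 n : Set R)))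
    (hm'sp : m'.toIdeal = Ideal.span (⋃ j ∈ Set.Ioi (0 : ℤ), (𝒜' j : Set R'))) :
    GamCompat φ m m' := by
  have hqpos : (0 : ℤ) < q := by exact_mod_cast hV.hq
  have hle : m'.toIdeal.map φ ≤ m.toIdeal := by
    rw [Ideal.map_le_iff_le_comap, hm'sp, Ideal.span_le]
    intro r hr
    simp only [Set.mem_iUnion, Set.mem_Ioi] at hr
    obtain ⟨j, hj, hrj⟩ := hr
    show φ r ∈ m.toIdeal
    rw [hmsp]
    apply Ideal.subset_span
    simp only [Set.mem_iUnion, Set.mem_Ioi]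
    exact ⟨j * q, mul_pos hj hqpos, hV.map_mem hrj⟩
  have hrad : m.toIdeal ≤ (m'.toIdeal.map φ).radical := by
    rw [hmsp, Ideal.span_le]
    intro s hs
    simp only [Set.mem_iUnion, Set.mem_Ioi] at hs
    obtain ⟨k, hk, hsk⟩ := hs
    refine ⟨q, ?_⟩
    have h1 : s ^ q ∈ 𝒜 (q • k) := SetLike.pow_mem_graded q hsk
    have h2 : s ^ q ∈ 𝒜 (k * q) := by rwa [nsmul_eq_mul, mul_comm] at h1
    obtain ⟨r, hr, hrs⟩ := hV.exists_of_mem h2
    rw [← hrs]
    apply Ideal.mem_map_of_mem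
    rw [hm'sp]
    apply Ideal.subset_span
    simp only [Set.mem_iUnion, Set.mem_Ioi]
    exact ⟨k, hk, hr⟩
  obtain ⟨N, hN⟩ := Ideal.exists_pow_le_of_le_radical_of_fg hrad (IsNoetherian.noetherian _)
  intro X _ _ x
  constructor
  · rintro ⟨n, hn⟩
    refine ⟨n, fun r hr => hn _ ?_⟩
    have h1 : φ r ∈ (m'.toIdeal ^ n).map φ := Ideal.mem_map_of_mem _ hr
    rw [Ideal.map_pow] at h1
    exact Ideal.pow_right_mono hle n h1
  · rintro ⟨n, hn⟩
    refine ⟨N * n, fun s hs => ?_⟩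
    have h1 : s ∈ (m'.toIdeal ^ n).map φ := by
      rw [Ideal.map_pow]
      rw [pow_mul] at hs
      exact Ideal.pow_right_mono hN n hs
    have h2 : ∀ t ∈ Submodule.span R ((φ : R' → R) '' ((m'.toIdeal ^ n : Ideal R') : Set R')),
        t • x = 0 := by
      intro t ht
      refine Submodule.span_induction (p := fun t _ => t • x = 0) ?_ ?_ ?_ ?_ ht
      · rintro _ ⟨r, hr, rfl⟩
        exact hn r hr
      · exact zero_smul _ _
      · intro a b _ _ ha hb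
        rw [add_smul, ha, hb, add_zero]
      · intro c t _ ht
        rw [smul_eq_mul, mul_smul, ht, smul_zero]
    exact h2 s h1

variable (hΓ : GamCompat φ m m')

include hΓ in
theorem mem_gam_ver (X : GMod.{u} 𝒜) (x : (ver hV X).carrier) :
    x ∈ gam m'.toIdeal (ver hV X).carrier ↔ vinc hV X x ∈ gam m.toIdeal X.carrier := by
  rw [hΓ X.carrier (vinc hV X x)]
  constructor
  · rintro ⟨n, hn⟩
    exact ⟨n, fun r hr => by rw [← vinc_smul, hn r hr, map_zero]⟩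
  · rintro ⟨n, hn⟩
    exact ⟨n, fun r hr => vinc_injective hV X (by rw [vinc_smul, hn r hr, map_zero])⟩

include hΓ in
theorem vproj_mem_gam (X : GMod.{u} 𝒜) {y : X.carrier} (hy : y ∈ gam m.toIdeal X.carrier) :
    vproj hV X y ∈ gam m'.toIdeal (ver hV X).carrier := by
  obtain ⟨n, hn⟩ := (hΓ X.carrier y).1 hy
  exact ⟨n, fun r hr => by rw [← vproj_smul, hn r hr, map_zero]⟩

variable {M : Type u} [AddCommGroup M] [Module R M] {ℳ : ℤ → AddSubgroup M} [Decomposition ℳ]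
  [SetLike.GradedSMul 𝒜 ℳ] (E : StarInjRes 𝒜 ℳ)

/-- the terms of the Veronese complex -/
noncomputable abbrev A (i : ℕ) : GMod.{u} 𝒜' := ver hV (E.X i)

/-- the differentials of the Veronese complex -/
noncomputable def D (i : ℕ) : (A hV E i).carrier →ₗ[R'] (A hV E (i + 1)).carrier :=
  vmapG hV (E.d i) (E.d_grHom i)

theorem D_gr (i : ℕ) : IsGrHom (A hV E i).gr (A hV E (i + 1)).gr (D hV E i) :=
  vmapG_gr hV (E.d i) (E.d_grHom i)

theorem vinc_D (i : ℕ) (x : (A hV E i).carrier) :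
    vinc hV (E.X (i + 1)) (D hV E i x) = E.d i (vinc hV (E.X i) x) := rfl

theorem D_exact (i : ℕ) : LinearMap.ker (D hV E (i + 1)) = LinearMap.range (D hV E i) :=
  vmapG_exact hV (E.d_grHom i) (E.d_grHom (i + 1)) (E.exact_succ i)

/-- the cocycles of the Veronese complex -/
noncomputable def Zs (i : ℕ) : Submodule R' (A hV E i).carrier := LinearMap.ker (D hV E i)

theorem Zs_homog (i : ℕ) : (Zs hV E i).IsHomogeneous (A hV E i).gr :=
  GrStarH1.ker_isHomogeneous (A hV E i).gr (A hV E (i + 1)).gr (D_gr hV E i)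

/-- the cocycles as a graded module -/
noncomputable def ZG (i : ℕ) : GMod.{u} 𝒜' :=
  GrStar4H1.subGMod 𝒜' (A hV E i).gr (Zs hV E i) (Zs_homog hV E i)

/-- inclusion of the cocycles -/
noncomputable def zinc (i : ℕ) : (ZG hV E i).carrier →ₗ[R'] (A hV E i).carrier :=
  (Zs hV E i).subtype

theorem zinc_injective (i : ℕ) : Function.Injective (zinc hV E i) := Subtype.val_injective

theorem D_zinc (i : ℕ) (z : (ZG hV E i).carrier) : D hV E i (zinc hV E i z) = 0 := z.2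

theorem mem_ZG_gr (i : ℕ) {j : ℤ} {z : (ZG hV E i).carrier} :
    z ∈ (ZG hV E i).gr j ↔ zinc hV E i z ∈ (A hV E i).gr j := Iff.rfl

/-- build a cocycle -/
def mkZs (i : ℕ) (x : (A hV E i).carrier) (hx : D hV E i x = 0) : (ZG hV E i).carrier := ⟨x, hx⟩

theorem zinc_mkZs (i : ℕ) (x : (A hV E i).carrier) (hx : D hV E i x = 0) :
    zinc hV E i (mkZs hV E i x hx) = x := rfl

theorem D_mem_Zs (i : ℕ) (x : (A hV E i).carrier) : D hV E i x ∈ Zs hV E (i + 1) := by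
  show D hV E i x ∈ LinearMap.ker (D hV E (i + 1))
  rw [D_exact]
  exact LinearMap.mem_range_self _ x

/-- the corestricted differential -/
noncomputable def sesP (i : ℕ) : (A hV E i).carrier →ₗ[R'] (ZG hV E (i + 1)).carrier :=
  show (A hV E i).carrier →ₗ[R'] ↥(Zs hV E (i + 1)) from
    (D hV E i).codRestrict (Zs hV E (i + 1)) (D_mem_Zs hV E i)

theorem zinc_sesP (i : ℕ) (x : (A hV E i).carrier) :
    zinc hV E (i + 1) (sesP hV E i x) = D hV E i x := rfl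

/-- the short exact sequences of the Veronese complex -/
noncomputable def ses (i : ℕ) :
    SES R' (ZG hV E i).gr (A hV E i).gr (ZG hV E (i + 1)).gr where
  u := zinc hV E i
  p := sesP hV E i
  hu := fun j x hx => hx
  hp := fun j x hx => D_gr hV E i j x hx
  inj := zinc_injective hV E i
  surj := by
    intro z
    have hz : zinc hV E (i + 1) z ∈ LinearMap.range (D hV E i) := by
      rw [← D_exact]
      exact z.2
    obtain ⟨x, hx⟩ := hz
    exact ⟨x, zinc_injective hV E (i + 1) (by rw [zinc_sesP, hx])⟩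
  exact := by
    ext x
    constructor
    · intro hx
      have h1 : D hV E i x = 0 := by
        rw [← zinc_sesP, LinearMap.mem_ker.1 hx, map_zero]
      exact ⟨mkZs hV E i x h1, rfl⟩
    · rintro ⟨z, rfl⟩
      rw [LinearMap.mem_ker]
      apply zinc_injective hV E (i + 1)
      rw [zinc_sesP, D_zinc, map_zero]

theorem zinc_ses_p (i : ℕ) (x : (A hV E i).carrier) :
    zinc hV E (i + 1) ((ses hV E i).p x) = D hV E i x := rfl

/-! ### the comparison map on cocycles -/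

include hΓ in
theorem emb_mem_gam (i : ℕ) (z : ↥(gam m'.toIdeal (ZG hV E i).carrier)) :
    vinc hV (E.X i) (zinc hV E i z.1) ∈ gam m.toIdeal (E.X i).carrier :=
  (mem_gam_ver hV m m' hΓ (E.X i) _).1 (map_mem_gam (zinc hV E i) z.2)

theorem emb_d (i : ℕ) (z : (ZG hV E i).carrier) :
    E.d i (vinc hV (E.X i) (zinc hV E i z)) = 0 := by
  rw [← vinc_D, D_zinc, map_zero]

/-- torsion Veronese cocycles to cocycles -/
noncomputable def cZ (i : ℕ) : ↥(gam m'.toIdeal (ZG hV E i).carrier) →+ ↥(E.cocyc m i) where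
  toFun z := mkZ m E i (vinc hV (E.X i) (zinc hV E i z.1)) (emb_mem_gam hV m m' hΓ E i z)
    (emb_d hV E i z.1)
  map_zero' := by
    apply Subtype.ext
    show vinc hV (E.X i) (zinc hV E i
      ((0 : ↥(gam m'.toIdeal (ZG hV E i).carrier)) : (ZG hV E i).carrier)) = 0
    rw [Submodule.coe_zero, map_zero, map_zero]
  map_add' x y := by
    apply Subtype.ext
    show vinc hV (E.X i) (zinc hV E i
      ((x + y : ↥(gam m'.toIdeal (ZG hV E i).carrier)) : (ZG hV E i).carrier)) =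
      vinc hV (E.X i) (zinc hV E i x.1) + vinc hV (E.X i) (zinc hV E i y.1)
    rw [Submodule.coe_add, map_add, map_add]

/-- torsion Veronese cocycles to cohomology -/
noncomputable def cH (i : ℕ) : ↥(gam m'.toIdeal (ZG hV E i).carrier) →+ E.H m i :=
  (E.toH m i).toAddMonoidHom.comp (cZ hV m m' hΓ E i)

theorem cH_apply (i : ℕ) (z : ↥(gam m'.toIdeal (ZG hV E i).carrier)) :
    cH hV m m' hΓ E i z = E.toH m i (cZ hV m m' hΓ E i z) := rfl

theorem cZ_coe (i : ℕ) (z : ↥(gam m'.toIdeal (ZG hV E i).carrier)) :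
    ((cZ hV m m' hΓ E i z : ↥(E.cocyc m i)) : (E.X i).carrier) =
      vinc hV (E.X i) (zinc hV E i z.1) := rfl

theorem cH_smul (i : ℕ) (r : R') (z : ↥(gam m'.toIdeal (ZG hV E i).carrier)) :
    cH hV m m' hΓ E i (r • z) = φ r • cH hV m m' hΓ E i z := by
  rw [cH_apply, cH_apply, ← map_smul]
  congr 1

theorem cH_mem (i : ℕ) {j : ℤ} (z : ↥(gam m'.toIdeal (ZG hV E i).carrier))
    (hz : z.1 ∈ (ZG hV E i).gr j) : cH hV m m' hΓ E i z ∈ E.Hgr m i (j * q) :=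
  ⟨cZ hV m m' hΓ E i z, hz, rfl⟩

theorem cH_surj (i : ℕ) {j : ℤ} {y : E.H m i} (hy : y ∈ E.Hgr m i (j * q)) :
    ∃ z : ↥(gam m'.toIdeal (ZG hV E i).carrier), z.1 ∈ (ZG hV E i).gr j ∧
      cH hV m m' hΓ E i z = y := by
  obtain ⟨w, hwj, rfl⟩ := hy
  have hw1 : (w : (E.X i).carrier) ∈ gam m.toIdeal (E.X i).carrier := w.2.1
  have hw2 : E.d i (w : (E.X i).carrier) = 0 := w.2.2
  have hvx : vinc hV (E.X i) (vproj hV (E.X i) (w : (E.X i).carrier)) = w :=
    vinc_vproj_of_dvd hV (E.X i) hwj (dvd_mul_left _ _)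
  have hDx : D hV E i (vproj hV (E.X i) (w : (E.X i).carrier)) = 0 := by
    apply vinc_injective hV (E.X (i + 1))
    rw [vinc_D, hvx, hw2, map_zero]
  have hxg : vproj hV (E.X i) (w : (E.X i).carrier) ∈ gam m'.toIdeal (A hV E i).carrier :=
    vproj_mem_gam hV m m' hΓ (E.X i) hw1
  have hz0g : mkZs hV E i _ hDx ∈ gam m'.toIdeal (ZG hV E i).carrier :=
    mem_gam_of_injective (zinc hV E i) (zinc_injective hV E i) hxg
  refine ⟨⟨mkZs hV E i _ hDx, hz0g⟩, ?_, ?_⟩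
  · show vinc hV (E.X i) (vproj hV (E.X i) (w : (E.X i).carrier)) ∈ (E.X i).gr (j * q)
    rw [hvx]
    exact hwj
  · rw [cH_apply]
    congr 1
    exact Subtype.ext hvx

theorem cH_zero_injective : Function.Injective (cH hV m m' hΓ E 0) := by
  rw [injective_iff_map_eq_zero]
  intro z hz
  rw [cH_apply, toH_eq_zero_iff, mem_cobdy_zero, cZ_coe] at hz
  apply Subtype.ext
  apply zinc_injective hV E 0
  apply vinc_injective hV (E.X 0)
  rw [hz, Submodule.coe_zero, map_zero, map_zero]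

theorem cH_succ_eq_zero_iff (i : ℕ) (z : ↥(gam m'.toIdeal (ZG hV E (i + 1)).carrier)) :
    cH hV m m' hΓ E (i + 1) z = 0 ↔
      ∃ y : (A hV E i).carrier, y ∈ gam m'.toIdeal (A hV E i).carrier ∧
        D hV E i y = zinc hV E (i + 1) z.1 := by
  rw [cH_apply, toH_eq_zero_iff, mem_cobdy_succ, cZ_coe]
  constructor
  · rintro ⟨w, hw, hdw⟩
    refine ⟨vproj hV (E.X i) w, vproj_mem_gam hV m m' hΓ (E.X i) hw, ?_⟩
    show vmapG hV (E.d i) (E.d_grHom i) (vproj hV (E.X i) w) = _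
    rw [← vproj_nat, hdw, vproj_vinc]
  · rintro ⟨y, hy, hDy⟩
    refine ⟨vinc hV (E.X i) y, (mem_gam_ver hV m m' hΓ (E.X i) y).1 hy, ?_⟩
    rw [← vinc_D, hDy]

/-! ### dimension shifting -/

variable [IsNoetherianRing R] [IsNoetherianRing R']

theorem les_data (i : ℕ) (F : StarInjRes 𝒜' (ZG hV E i).gr) :
    ∃ (G : StarInjRes 𝒜' (A hV E i).gr) (F' : StarInjRes 𝒜' (ZG hV E (i + 1)).gr)
      (ψ : CMap G F'),
      (∀ x, ψ.f 0 (G.ε x) = F'.ε ((ses hV E i).p x)) ∧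
      (∀ p, 1 ≤ p → Subsingleton (G.H m' p)) ∧
      ∀ p : ℕ, ∃ δ : F'.H m' p →ₗ[R'] F.H m' (p + 1),
        IsGrHom (F'.Hgr m' p) (F.Hgr m' (p + 1)) δ ∧
        LinearMap.ker δ = LinearMap.range (ψ.H m' p) ∧ Function.Surjective δ := by
  obtain ⟨G⟩ := GrStar2H1.main13215 𝒜' (A hV E i).gr
  obtain ⟨F'⟩ := GrStar2H1.main13215 𝒜' (ZG hV E (i + 1)).gr
  obtain ⟨φc, hφc⟩ := exists_lift F G (ses hV E i).u (ses hV E i).hu
  obtain ⟨ψc, hψc⟩ := exists_lift G F' (ses hV E i).p (ses hV E i).hp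
  have hacyc : ∀ p, 1 ≤ p → Subsingleton (G.H m' p) :=
    fun p hp => ver_acyclic hV m' (E.X i) (E.starInj i) G p hp
  obtain ⟨-, hles⟩ := les (ses hV E i) F G F' φc hφc ψc hψc m'
  refine ⟨G, F', ψc, hψc, hacyc, fun p => ?_⟩
  obtain ⟨-, δ, hδgr, hδker, hδrange⟩ := hles p
  refine ⟨δ, hδgr, hδker, ?_⟩
  haveI := hacyc (p + 1) (Nat.le_add_left 1 p)
  rw [← LinearMap.range_eq_top, ← hδrange]
  exact eq_top_iff.2 fun y _ => LinearMap.mem_ker.2 (Subsingleton.elim _ _)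

/-- the inductive statement -/
def QP (p : ℕ) : Prop :=
  ∀ (i n : ℕ), n = p + 1 + i → ∀ F : StarInjRes 𝒜' (ZG hV E i).gr,
    ∃ Φ : F.H m' (p + 1) →+ E.H m n, IsVer φ q (F.Hgr m' (p + 1)) (E.Hgr m n) Φ

include hΓ in
theorem QP_zero : QP hV m m' E 0 := by
  intro i n hn F
  have hn' : n = i + 1 := by omega
  subst hn'
  obtain ⟨G, F', ψc, hψc, hacyc, hδ⟩ := les_data hV m' E i F
  obtain ⟨δ, hδgr, hδker, hδsurj⟩ := hδ 0
  let c' : ↥(gam m'.toIdeal (ZG hV E (i + 1)).carrier) →+ F.H m' (0 + 1) :=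
    δ.toAddMonoidHom.comp (Theta0 F' m').toAddMonoidHom
  have hc'surj : Function.Surjective c' := hδsurj.comp (Theta0_surjective F' m')
  have hker : ∀ z, c' z = 0 ↔ cH hV m m' hΓ E (i + 1) z = 0 := by
    intro z
    rw [cH_succ_eq_zero_iff]
    constructor
    · intro hz
      have h1 : Theta0 F' m' z ∈ LinearMap.ker δ := hz
      rw [hδker] at h1
      obtain ⟨h, hh⟩ := h1
      obtain ⟨y, rfl⟩ := Theta0_surjective G m' h
      rw [Theta0_nat G m' F' ψc (ses hV E i).p hψc y] at hh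
      have h2 := Theta0_injective F' m' hh
      refine ⟨y.1, y.2, ?_⟩
      have h3 := congrArg (fun w : ↥(gam m'.toIdeal (ZG hV E (i + 1)).carrier) =>
        zinc hV E (i + 1) w.1) h2
      exact h3
    · rintro ⟨y, hy, hDy⟩
      have h2 : (⟨(ses hV E i).p y, map_mem_gam (ses hV E i).p hy⟩ :
          ↥(gam m'.toIdeal (ZG hV E (i + 1)).carrier)) = z :=
        Subtype.ext (zinc_injective hV E (i + 1) hDy)
      have h1 : Theta0 F' m' z ∈ LinearMap.range (ψc.H m' 0) :=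
        ⟨Theta0 G m' ⟨y, hy⟩, by
          rw [Theta0_nat G m' F' ψc (ses hV E i).p hψc ⟨y, hy⟩, h2]⟩
      rw [← hδker] at h1
      exact h1
  obtain ⟨Φ, hΦinj, hΦ⟩ := exists_induced c' (cH hV m m' hΓ E (i + 1)) hc'surj hker
  refine ⟨Φ, ⟨?_, hΦinj, ?_, ?_⟩⟩
  · intro r x
    obtain ⟨z, rfl⟩ := hc'surj x
    have h1 : r • c' z = c' (r • z) := by
      show r • δ (Theta0 F' m' z) = δ (Theta0 F' m' (r • z))
      rw [map_smul, map_smul]
    rw [h1, hΦ, hΦ, cH_smul]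
  · intro j x hx
    letI := HDecomp 𝒜' (ZG hV E (i + 1)).gr m' F' 0
    letI := HDecomp 𝒜' (ZG hV E i).gr m' F (0 + 1)
    obtain ⟨h, hh, rfl⟩ := piece_surj (F'.Hgr m' 0) (F.Hgr m' (0 + 1)) δ hδgr hδsurj hx
    obtain ⟨z, hz, rfl⟩ := Theta0_gr_surj F' m' hh
    have h1 : δ (Theta0 F' m' z) = c' z := rfl
    rw [h1, hΦ]
    exact cH_mem hV m m' hΓ E (i + 1) z hz
  · intro j y hy
    obtain ⟨z, hz, rfl⟩ := cH_surj hV m m' hΓ E (i + 1) hy
    exact ⟨c' z, hδgr j _ (Theta0_mem_gr F' m' z hz), hΦ z⟩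

theorem QP_succ (p : ℕ) (ih : QP hV m m' E p) : QP hV m m' E (p + 1) := by
  intro i n hn F
  obtain ⟨G, F', ψc, hψc, hacyc, hδ⟩ := les_data hV m' E i F
  obtain ⟨δ, hδgr, hδker, hδsurj⟩ := hδ (p + 1)
  have hδinj : Function.Injective δ := by
    rw [← LinearMap.ker_eq_bot, hδker]
    haveI := hacyc (p + 1) (Nat.le_add_left 1 p)
    rw [eq_bot_iff]
    rintro _ ⟨h, rfl⟩
    rw [Subsingleton.elim h 0, map_zero]
    exact Submodule.zero_mem _
  obtain ⟨Φ', hΦ'⟩ := ih (i + 1) n (by omega) F'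
  let δe := LinearEquiv.ofBijective δ ⟨hδinj, hδsurj⟩
  refine ⟨Φ'.comp δe.symm.toLinearMap.toAddMonoidHom, ⟨?_, ?_, ?_, ?_⟩⟩
  · intro r x
    show Φ' (δe.symm (r • x)) = φ r • Φ' (δe.symm x)
    rw [map_smul, hΦ'.smul]
  · exact hΦ'.inj.comp δe.symm.injective
  · intro j x hx
    letI := HDecomp 𝒜' (ZG hV E (i + 1)).gr m' F' (p + 1)
    letI := HDecomp 𝒜' (ZG hV E i).gr m' F (p + 1 + 1)
    obtain ⟨h, hh, rfl⟩ :=
      piece_surj (F'.Hgr m' (p + 1)) (F.Hgr m' (p + 1 + 1)) δ hδgr hδsurj hx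
    show Φ' (δe.symm (δ h)) ∈ _
    have h1 : δe.symm (δ h) = h := δe.symm_apply_apply h
    rw [h1]
    exact hΦ'.map_mem j h hh
  · intro j y hy
    obtain ⟨h, hh, rfl⟩ := hΦ'.surj j y hy
    refine ⟨δ h, hδgr j h hh, ?_⟩
    show Φ' (δe.symm (δ h)) = Φ' h
    have h1 : δe.symm (δ h) = h := δe.symm_apply_apply h
    rw [h1]

include hΓ in
theorem QP_all (p : ℕ) : QP hV m m' E p := by
  induction p with
  | zero => exact QP_zero hV m m' hΓ E
  | succ p ih => exact QP_succ hV m m' E p ih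

omit [IsNoetherianRing R] [IsNoetherianRing R'] in
include hΓ in
theorem Q0 (F : StarInjRes 𝒜' (ZG hV E 0).gr) :
    ∃ Φ : F.H m' 0 →+ E.H m 0, IsVer φ q (F.Hgr m' 0) (E.Hgr m 0) Φ := by
  let c' : ↥(gam m'.toIdeal (ZG hV E 0).carrier) →+ F.H m' 0 := (Theta0 F m').toAddMonoidHom
  have hc'surj : Function.Surjective c' := Theta0_surjective F m'
  have hker : ∀ z, c' z = 0 ↔ cH hV m m' hΓ E 0 z = 0 := by
    intro z
    constructor
    · intro hz
      have h1 : z = 0 := Theta0_injective F m' (by rw [map_zero]; exact hz)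
      rw [h1, map_zero]
    · intro hz
      have h1 : z = 0 := cH_zero_injective hV m m' hΓ E (by rw [map_zero]; exact hz)
      rw [h1, map_zero]
  obtain ⟨Φ, hΦinj, hΦ⟩ := exists_induced c' (cH hV m m' hΓ E 0) hc'surj hker
  refine ⟨Φ, ⟨?_, hΦinj, ?_, ?_⟩⟩
  · intro r x
    obtain ⟨z, rfl⟩ := hc'surj x
    have h1 : r • c' z = c' (r • z) := (map_smul (Theta0 F m') r z).symm
    rw [h1, hΦ, hΦ, cH_smul]
  · intro j x hx
    obtain ⟨z, hz, rfl⟩ := Theta0_gr_surj F m' hx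
    have h1 : Theta0 F m' z = c' z := rfl
    rw [h1, hΦ]
    exact cH_mem hV m m' hΓ E 0 z hz
  · intro j y hy
    obtain ⟨z, hz, rfl⟩ := cH_surj hV m m' hΓ E 0 hy
    exact ⟨c' z, Theta0_mem_gr F m' z hz, hΦ z⟩

include hΓ in
theorem main_ver (F : StarInjRes 𝒜' (ZG hV E 0).gr) (p : ℕ) :
    ∃ Φ : F.H m' p →+ E.H m p, IsVer φ q (F.Hgr m' p) (E.Hgr m p) Φ := by
  cases p with
  | zero => exact Q0 hV m m' hΓ E F
  | succ p => exact QP_all hV m m' hΓ E p 0 (p + 1) (by omega) F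

end veronese

end Groth.Agent.Lib.Ver3H1
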