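import Mathlib
import Groth.Prelude.Def_GrLC
import Groth.Prelude.Def_GrLC2
import Groth.Prelude.Def_CAlg
import Groth.Prelude.Def_Wider
import Groth.Agent.Lib.AInv_helper1
import Groth.Agent.Lib.GrHS4_helper1
import Groth.Agent.Lib.FiltReg_helper1
import Groth.Agent.Lib.Ver3_helper1
import Groth.Agent.Lib.PolyReg_helper1

/-! A standard graded Cohen–Macaulay ring with `a(R) = -dim R` is a polynomial ring
(helper1, S19881). -/

set_option autoImplicit false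

namespace Groth.Agent.Lib.AInvPolyH1

open DirectSum GrLC Groth.Agent.Lib.GrStarH1 Groth.Agent.Lib.GrStar2H1
  Groth.Agent.Lib.GrStar4H1 Groth.Agent.Lib.GrLES1H1 Groth.Agent.Lib.GrLES4H1
  Groth.Agent.Lib.GrHDecH1 Groth.Agent.Lib.GrHS1H1 Groth.Agent.Lib.GrHS3H1 Groth.Agent.Lib.GrHS4H1
  Groth.Agent.Lib.AInvH1 Groth.Agent.Lib.PolyRegH1 RingTheory.Sequence IsLocalRing
open Groth.Agent.Lib.Ver3H1 (Theta0 Theta0_apply Theta0_surjective Theta0_injective Theta0_mem_gr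
  Theta0_gr_surj)
open Groth.Agent.Lib.FiltRegH1 (modK towerK qm qm_surjective span_image_ne_top)

open scoped Pointwise

universe u

/-! ### the degree zero part of a *local ring -/
section local0

variable {R : Type u} [CommRing R] (𝒜 : ℤ → AddSubgroup R) [GradedRing 𝒜]
variable (hpos : ∀ n : ℤ, n < 0 → 𝒜 n = ⊥)

theorem isUnit_deg0_iff [IsNoetherianRing R] {m : HomogeneousIdeal 𝒜} (hm : IsStarLocal 𝒜 m)
    (a : deg0 𝒜) : IsUnit a ↔ (a : R) ∉ m.toIdeal := by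
  constructor
  · intro hu ha
    obtain ⟨b, hb⟩ := hu.exists_right_inv
    apply one_notMem 𝒜 hm
    have h1 : (a : R) * (b : R) = 1 := congrArg (fun z : deg0 𝒜 => (z : R)) hb
    rw [← h1]
    exact m.toIdeal.mul_mem_right _ ha
  · intro ha
    let U : HomogeneousIdeal 𝒜 := ⟨Ideal.span {(a : R)}, Ideal.homogeneous_span 𝒜 _ (by
      rintro x hx
      rw [Set.mem_singleton_iff] at hx
      rw [hx]
      exact ⟨0, a.2⟩)⟩
    have hUtop : U = ⊤ := by
      by_contra hU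
      have hUm : U.toIdeal ≤ m.toIdeal := Groth.Agent.Lib.GorTop2H1.le_of_starLocal 𝒜 hm U hU
      exact ha (hUm (Ideal.subset_span rfl))
    have hUt : Ideal.span {(a : R)} = ⊤ := congrArg HomogeneousIdeal.toIdeal hUtop
    obtain ⟨y, hy⟩ := (Ideal.span_singleton_eq_top.1 hUt).exists_right_inv
    have h0 : (decompose 𝒜 ((a : R) • y) (0 + 0) : R) = (a : R) • (decompose 𝒜 y 0 : R) :=
      decompose_smul_homog 𝒜 𝒜 a.2 y 0
    have h1 : (a : R) • y = 1 := hy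
    rw [h1, add_zero, decompose_of_mem_same 𝒜 (SetLike.GradedOne.one_mem (A := 𝒜)),
      smul_eq_mul] at h0
    exact isUnit_iff_exists_inv.2
      ⟨⟨(decompose 𝒜 y 0 : R), (decompose 𝒜 y 0).2⟩, Subtype.ext h0.symm⟩

theorem isLocalRing_deg0 [IsNoetherianRing R] {m : HomogeneousIdeal 𝒜} (hm : IsStarLocal 𝒜 m) :
    IsLocalRing (deg0 𝒜) := by
  haveI : Nontrivial (deg0 𝒜) := by
    refine ⟨⟨0, 1, fun h => ?_⟩⟩
    apply one_notMem 𝒜 hm
    have h1 : (0 : R) = 1 := congrArg (fun z : deg0 𝒜 => (z : R)) h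
    rw [← h1]
    exact m.toIdeal.zero_mem
  apply IsLocalRing.of_nonunits_add
  intro a b ha hb
  rw [mem_nonunits_iff, isUnit_deg0_iff 𝒜 hm, not_not] at ha hb ⊢
  exact m.toIdeal.add_mem ha hb

theorem mem_maximalIdeal_deg0 [IsNoetherianRing R] {m : HomogeneousIdeal 𝒜}
    (hm : IsStarLocal 𝒜 m) [IsLocalRing (deg0 𝒜)] (a : deg0 𝒜) :
    a ∈ maximalIdeal (deg0 𝒜) ↔ (a : R) ∈ m.toIdeal := by
  rw [IsLocalRing.mem_maximalIdeal, mem_nonunits_iff, isUnit_deg0_iff 𝒜 hm, not_not]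

include hpos in
theorem infinite_residueField [IsNoetherianRing R] {m : HomogeneousIdeal 𝒜}
    (hm : IsStarLocal 𝒜 m) [IsLocalRing (deg0 𝒜)] (hinf : Infinite (R ⧸ m.toIdeal)) :
    Infinite (ResidueField (deg0 𝒜)) := by
  classical
  let φ : deg0 𝒜 →+* R ⧸ m.toIdeal := (Ideal.Quotient.mk m.toIdeal).comp (deg0 𝒜).subtype
  have hφ : ∀ a ∈ maximalIdeal (deg0 𝒜), φ a = 0 := by
    intro a ha
    exact Ideal.Quotient.eq_zero_iff_mem.2 ((mem_maximalIdeal_deg0 𝒜 hm a).1 ha)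
  have hsurj : Function.Surjective (Ideal.Quotient.lift (maximalIdeal (deg0 𝒜)) φ hφ) := by
    apply Ideal.Quotient.lift_surjective_of_surjective
    intro y
    obtain ⟨x, rfl⟩ := Ideal.Quotient.mk_surjective y
    refine ⟨⟨(decompose 𝒜 x 0 : R), (decompose 𝒜 x 0).2⟩, ?_⟩
    show Ideal.Quotient.mk m.toIdeal (decompose 𝒜 x 0 : R) = Ideal.Quotient.mk m.toIdeal x
    rw [eq_comm, Ideal.Quotient.eq]
    exact Rp_le 𝒜 hpos hm (sub_decompose_zero_mem_irr 𝒜 hpos x)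
  exact Infinite.of_surjective _ hsurj

end local0

/-! ### change of the supporting ideal -/
section transport

variable {ι : Type} [AddCommGroup ι] [DecidableEq ι]
variable {R : Type u} [CommRing R] {𝒜 : ι → AddSubgroup R} [GradedRing 𝒜]
variable {M : Type u} [AddCommGroup M] [Module R M] {ℳ : ι → AddSubgroup M} [Decomposition ℳ]
  [SetLike.GradedSMul 𝒜 ℳ]
variable (E : StarInjRes 𝒜 ℳ) (a b : HomogeneousIdeal 𝒜)
  (h : ∀ i, gam a.toIdeal (E.X i).carrier = gam b.toIdeal (E.X i).carrier)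

include h in
theorem toH_eq_zero_of_gam_eq (i : ℕ) (z : ↥(E.cocyc b i)) (z' : ↥(E.cocyc a i))
    (hz : (z' : (E.X i).carrier) = z) (h0 : E.toH a i z' = 0) : E.toH b i z = 0 := by
  rw [toH_eq_zero_iff] at h0 ⊢
  rw [← hz]
  exact cobdy_le_of_gam_le E a b (fun j => (h j).le) i h0

include h in
theorem subsingleton_H_of_gam_eq (i : ℕ) [Subsingleton (E.H a i)] : Subsingleton (E.H b i) := by
  have key : ∀ w : E.H b i, w = 0 := by
    intro w
    obtain ⟨z, rfl⟩ := toH_surjective b E i w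
    exact toH_eq_zero_of_gam_eq E a b h i z
      ⟨z.1, cocyc_le_of_gam_le E b a (fun j => (h j).ge) i z.2⟩ rfl (Subsingleton.elim _ _)
  exact ⟨fun x y => by rw [key x, key y]⟩

include h in
theorem Hgr_eq_bot_of_gam_eq (i : ℕ) (n : ι) (h0 : E.Hgr a i n = ⊥) : E.Hgr b i n = ⊥ := by
  rw [eq_bot_iff]
  rintro w ⟨z, hzn, rfl⟩
  rw [AddSubgroup.mem_bot]
  have hz' : (z : (E.X i).carrier) ∈ E.cocyc a i :=
    cocyc_le_of_gam_le E b a (fun j => (h j).ge) i z.2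
  refine toH_eq_zero_of_gam_eq E a b h i z ⟨z.1, hz'⟩ rfl ?_
  have h1 : E.toH a i ⟨z.1, hz'⟩ ∈ E.Hgr a i n := ⟨_, hzn, rfl⟩
  rw [h0, AddSubgroup.mem_bot] at h1
  exact h1

end transport

section transportZ

variable {R : Type u} [CommRing R] {𝒜 : ℤ → AddSubgroup R} [GradedRing 𝒜]
variable {M : Type u} [AddCommGroup M] [Module R M] {ℳ : ℤ → AddSubgroup M} [Decomposition ℳ]
  [SetLike.GradedSMul 𝒜 ℳ]

theorem endDeg_eq_of_gam_eq (E : StarInjRes 𝒜 ℳ) (a b : HomogeneousIdeal 𝒜)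
    (h : ∀ i, gam a.toIdeal (E.X i).carrier = gam b.toIdeal (E.X i).carrier) (i : ℕ) :
    endDeg (E.Hgr a i) = endDeg (E.Hgr b i) := by
  have hiff : ∀ n : ℤ, E.Hgr a i n ≠ ⊥ ↔ E.Hgr b i n ≠ ⊥ := fun n =>
    not_congr ⟨Hgr_eq_bot_of_gam_eq E a b h i n,
      Hgr_eq_bot_of_gam_eq E b a (fun j => (h j).symm) i n⟩
  unfold endDeg
  simp only [hiff]

end transportZ

/-! ### avoidance -/
section avoid

attribute [local instance] Groth.Agent.Lib.FiltRegH1.modK Groth.Agent.Lib.FiltRegH1.towerK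

theorem exists_avoid {S₀ : Type*} [CommRing S₀] [IsLocalRing S₀] {V : Type*} [AddCommGroup V]
    [Module S₀ V] [Module.Finite S₀ V] [Infinite (ResidueField S₀)]
    (s : Set (Submodule S₀ V)) (hs : s.Finite) (hprop : ∀ L ∈ s, L ≠ ⊤) :
    ∃ v : V, ∀ L ∈ s, v ∉ L := by
  haveI : Finite ↥s := hs.to_subtype
  let p : ↥s → Submodule (ResidueField S₀) (V ⧸ (maximalIdeal S₀ • (⊤ : Submodule S₀ V))) :=
    fun L => Submodule.span (ResidueField S₀) (qm S₀ V '' ((L.1 : Submodule S₀ V) : Set V))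
  have hp : ∀ o, p o ≠ ⊤ := fun L => span_image_ne_top L.1 (hprop L.1 L.2)
  obtain ⟨x, hx⟩ := Submodule.exists_forall_notMem_of_forall_ne_top p hp
  obtain ⟨v, rfl⟩ := qm_surjective x
  exact ⟨v, fun L hL hvL => hx ⟨L, hL⟩ (Submodule.subset_span ⟨v, hvL, rfl⟩)⟩

end avoid

/-! ### regular sequences of degree one -/
section regular

variable {R : Type u} [CommRing R] (𝒜 : ℤ → AddSubgroup R) [GradedRing 𝒜]
variable (hpos : ∀ n : ℤ, n < 0 → 𝒜 n = ⊥)
variable (hstd : Ideal.span (⋃ n ∈ Set.Ioi (0 : ℤ), (𝒜 n : Set R)) =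
  Ideal.span ((𝒜 1 : AddSubgroup R) : Set R))

include hpos hstd in
theorem exists_regular_deg_one [IsNoetherianRing R] [IsLocalRing (deg0 𝒜)]
    [Infinite (ResidueField (deg0 𝒜))] (M : Type u) [AddCommGroup M] [Module R M]
    [Module.Finite R M] (hgam : gam (Rp 𝒜).toIdeal M = ⊥) : ∃ v ∈ 𝒜 1, IsSMulRegular M v := by
  classical
  haveI := deg0_noetherian 𝒜 hpos
  obtain ⟨V₁, hV₁⟩ : ∃ V₁ : Submodule (deg0 𝒜) R, V₁ = comp 𝒜 𝒜 1 := ⟨_, rfl⟩
  have hmemV : ∀ x : R, x ∈ V₁ ↔ x ∈ 𝒜 1 := by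
    intro x
    rw [hV₁]
    exact Iff.rfl
  have hfg : V₁.FG := by
    rw [hV₁]
    exact piece_fg 𝒜 hpos 𝒜 1 (comp 𝒜 𝒜 1) (fun _ => Iff.rfl)
  haveI : Module.Finite (deg0 𝒜) ↥V₁ := Module.Finite.iff_fg.2 hfg
  obtain ⟨s, hs⟩ : ∃ s : Set (Submodule (deg0 𝒜) ↥V₁),
      s = (fun P : Ideal R => (P.restrictScalars (deg0 𝒜)).comap V₁.subtype) ''
        (associatedPrimes R M) := ⟨_, rfl⟩
  have hfin : s.Finite := by
    rw [hs]
    exact (associatedPrimes.finite R M).image _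
  have hprop : ∀ L ∈ s, L ≠ ⊤ := by
    rw [hs]
    rintro _ ⟨P, hP, rfl⟩ htop
    have h1 : ∀ v ∈ 𝒜 1, v ∈ P := by
      intro v hv
      have h2 : (⟨v, (hmemV v).2 hv⟩ : ↥V₁) ∈
          (P.restrictScalars (deg0 𝒜)).comap V₁.subtype := by
        have htop' : (P.restrictScalars (deg0 𝒜)).comap V₁.subtype = ⊤ := htop
        rw [htop']
        exact Submodule.mem_top
      exact h2
    have h2 : (Rp 𝒜).toIdeal ≤ P := by
      rw [Rp_toIdeal, hstd, Ideal.span_le]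
      exact fun v hv => h1 v hv
    obtain ⟨hPp, x, hx⟩ := isAssociatedPrime_iff.1 hP
    have hxg : x ∈ gam (Rp 𝒜).toIdeal M := by
      refine ⟨1, fun r hr => ?_⟩
      rw [pow_one] at hr
      have h3 : r ∈ (⊥ : Submodule R M).colon {x} := by
        rw [← hx]
        exact h2 hr
      rw [Submodule.mem_colon_singleton, Submodule.mem_bot] at h3
      exact h3
    rw [hgam, Submodule.mem_bot] at hxg
    apply hPp.ne_top
    rw [hx, hxg, eq_top_iff]
    intro r _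
    rw [Submodule.mem_colon_singleton, smul_zero]
    exact Submodule.zero_mem _
  obtain ⟨v, hv⟩ := exists_avoid s hfin hprop
  refine ⟨(v : R), (hmemV _).1 v.2, ?_⟩
  rw [isSMulRegular_iff_right_eq_zero_of_smul]
  intro y hy
  by_contra hy0
  have h1 : (v : R) ∈ ⋃ p ∈ associatedPrimes R M, (p : Set R) := by
    rw [biUnion_associatedPrimes_eq_zero_divisors]
    exact ⟨y, hy0, hy⟩
  obtain ⟨P, hP, hvP⟩ := Set.mem_iUnion₂.1 h1
  have hL : (P.restrictScalars (deg0 𝒜)).comap V₁.subtype ∈ s := by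
    rw [hs]
    exact ⟨P, hP, rfl⟩
  exact hv _ hL hvP

set_option maxHeartbeats 1600000 in
include hpos hstd in
theorem exists_regular_seq [IsNoetherianRing R] [IsLocalRing (deg0 𝒜)]
    [Infinite (ResidueField (deg0 𝒜))] :
    ∀ (t : ℕ) (M : Type u) [AddCommGroup M] [Module R M] [Module.Finite R M]
      (ℳ : ℤ → AddSubgroup M) [Decomposition ℳ] [SetLike.GradedSMul 𝒜 ℳ] (E : StarInjRes 𝒜 ℳ)
      (d : ℕ), t ≤ d → (∀ i, i ≠ d → Subsingleton (E.H (Rp 𝒜) i)) →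
      Module.supportDim R M ≤ (d : WithBot ℕ∞) →
      ∃ f : Fin t → R, (∀ i, f i ∈ 𝒜 1) ∧ IsWeaklyRegular M (List.ofFn f) := by
  intro t
  induction t with
  | zero =>
    intro M _ _ _ ℳ _ _ E d _ _ _
    exact ⟨Fin.elim0, fun i => i.elim0, by rw [List.ofFn_zero]; exact IsWeaklyRegular.nil R M⟩
  | succ t ih =>
    intro M _ _ _ ℳ _ _ E d htd hvan hdim
    classical
    obtain ⟨d', rfl⟩ : ∃ d', d = d' + 1 := ⟨d - 1, by omega⟩
    have hgam : gam (Rp 𝒜).toIdeal M = ⊥ := by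
      haveI := hvan 0 (by omega)
      rw [eq_bot_iff]
      intro x hx
      have h1 : (⟨x, hx⟩ : ↥(gam (Rp 𝒜).toIdeal M)) = 0 :=
        Theta0_injective E (Rp 𝒜) (Subsingleton.elim _ _)
      exact (Submodule.mem_bot R).2 (congrArg Subtype.val h1)
    obtain ⟨v, hv1, hvreg⟩ := exists_regular_deg_one 𝒜 hpos hstd M hgam
    obtain ⟨P₀, hP₀⟩ : ∃ P₀ : Submodule R M, P₀ = v • (⊤ : Submodule R M) := ⟨_, rfl⟩
    have hP₀r : P₀ = LinearMap.range (LinearMap.lsmul R M v) := by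
      rw [hP₀]
      ext y
      rw [Submodule.mem_smul_pointwise_iff_exists, LinearMap.mem_range]
      constructor
      · rintro ⟨z, -, rfl⟩
        exact ⟨z, rfl⟩
      · rintro ⟨z, rfl⟩
        exact ⟨z, Submodule.mem_top, rfl⟩
    have hP₀h : P₀.IsHomogeneous ℳ := hP₀r ▸ range_lsmul_isHomogeneous 𝒜 ℳ hv1
    letI := quotDecomp ℳ P₀ hP₀h
    letI := quot_gsmul 𝒜 ℳ P₀
    obtain ⟨E'⟩ := Groth.Agent.Lib.GrStar2H1.main13215 𝒜 (quotGr ℳ P₀)
    obtain ⟨r, hr⟩ := main13227 𝒜 hpos (Rp 𝒜) (Rp_toIdeal 𝒜) M ℳ E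
    have hbdd : ∃ r : ℤ, ∀ n, r ≤ n → E.Hgr (Rp 𝒜) (d' + 1) n = ⊥ :=
      ⟨r, fun n hn => Hgr_eq_bot_of_Hcomp 𝒜 E (Rp 𝒜) (d' + 1) n (hr (d' + 1) n hn)⟩
    obtain ⟨hlow, -⟩ := step 𝒜 (Rp 𝒜) E (by norm_num : (0 : ℤ) < 1) hv1 hvreg P₀.mkQ
      (mkQ_isGrHom ℳ P₀) P₀.mkQ_surjective (by rw [Submodule.ker_mkQ, hP₀r]) E' d' hvan hbdd
    have hdim' : Module.supportDim R (M ⧸ P₀) ≤ (d' : WithBot ℕ∞) := by
      have h1 : Module.supportDim R (QuotSMulTop v M) + 1 ≤ Module.supportDim R M :=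
        Module.supportDim_quotSMulTop_succ_le_of_notMem_minimalPrimes
          (fun _ => hvreg.notMem_of_mem_minimalPrimes)
      rw [hP₀]
      exact wb_le_pred (le_trans h1 hdim)
    have hvan' : ∀ i, i ≠ d' → Subsingleton (E'.H (Rp 𝒜) i) := by
      intro i hi
      rcases lt_or_gt_of_ne hi with h | h
      · exact hlow i h
      · obtain ⟨γ⟩ := Groth.Agent.Lib.GrStarLCH1.main13224 R 𝒜 (Rp 𝒜) (M ⧸ P₀) (quotGr ℳ P₀) E' i
        haveI : Subsingleton (LocCoh.H (Rp 𝒜).toIdeal i (M ⧸ P₀)) := by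
          apply Groth.Agent.Lib.LocCohGVH7.GV
          exact lt_of_le_of_lt hdim' (by exact_mod_cast h)
        exact γ.toEquiv.subsingleton
    have hfin' : Module.Finite R (M ⧸ P₀) := inferInstance
    obtain ⟨f', hf'1, hf'reg⟩ := @ih (M ⧸ P₀) (Submodule.Quotient.addCommGroup P₀)
      (Submodule.Quotient.module P₀) hfin' (quotGr ℳ P₀) (quotDecomp ℳ P₀ hP₀h)
      (quot_gsmul 𝒜 ℳ P₀) E' d' (by omega) hvan' hdim'
    rw [hP₀] at hf'reg
    refine ⟨Fin.cons v f', fun i => ?_, ?_⟩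
    · refine Fin.cases ?_ (fun j => ?_) i
      · rw [Fin.cons_zero]
        exact hv1
      · rw [Fin.cons_succ]
        exact hf'1 j
    · rw [List.ofFn_succ]
      simp only [Fin.cons_zero, Fin.cons_succ]
      exact IsWeaklyRegular.cons hvreg hf'reg

end regular

/-! ### nilpotency in the Artinian quotient -/
section artin

variable {R : Type u} [CommRing R] (𝒜 : ℤ → AddSubgroup R) [GradedRing 𝒜]
variable (hpos : ∀ n : ℤ, n < 0 → 𝒜 n = ⊥)

include hpos in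
theorem pow_mem_of_artinian (J : Ideal R) (hJ : J.IsHomogeneous 𝒜) [IsArtinianRing (R ⧸ J)]
    {k : ℤ} (hk : 0 < k) {x : R} (hx : x ∈ 𝒜 k) : x ∈ J.radical := by
  classical
  obtain ⟨xb, hxb⟩ : ∃ xb : R ⧸ J, xb = Ideal.Quotient.mk J x := ⟨_, rfl⟩
  let c : ℕ →o (Submodule (R ⧸ J) (R ⧸ J))ᵒᵈ :=
    ⟨fun n => OrderDual.toDual (Ideal.span {xb ^ n}), fun a b hab =>
      OrderDual.toDual_le_toDual.2
        (Ideal.span_singleton_le_span_singleton.2 (pow_dvd_pow xb hab))⟩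
  obtain ⟨n, hn⟩ := IsArtinian.monotone_stabilizes c
  have h1 : Ideal.span {xb ^ n} = Ideal.span {xb ^ (n + 1)} :=
    congrArg OrderDual.ofDual (hn (n + 1) (Nat.le_succ n))
  have h2 : xb ^ n ∈ Ideal.span {xb ^ (n + 1)} := by
    rw [← h1]
    exact Ideal.subset_span rfl
  obtain ⟨yb, hyb⟩ := Ideal.mem_span_singleton'.1 h2
  obtain ⟨y, rfl⟩ := Ideal.Quotient.mk_surjective yb
  have h3 : y * x ^ (n + 1) - x ^ n ∈ J := by
    rw [← Ideal.Quotient.eq_zero_iff_mem, map_sub, map_mul, map_pow, map_pow, ← hxb, hyb,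
      sub_self]
  refine ⟨n, ?_⟩
  have hxn : x ^ n ∈ 𝒜 (n • k) := SetLike.pow_mem_graded n hx
  have hxn1 : x ^ (n + 1) ∈ 𝒜 ((n + 1) • k) := SetLike.pow_mem_graded (n + 1) hx
  have h4 := hJ (n • k) h3
  rw [decompose_sub, DirectSum.sub_apply, AddSubgroup.coe_sub,
    decompose_of_mem_same 𝒜 hxn] at h4
  have h5 : (decompose 𝒜 (y * x ^ (n + 1)) (n • k) : R) = 0 := by
    have e : n • k = (n + 1) • k + -k := by
      rw [succ_nsmul]
      ring
    have h6 := decompose_smul_homog 𝒜 𝒜 hxn1 y (-k)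
    rw [smul_eq_mul, smul_eq_mul, mul_comm] at h6
    rw [e, h6]
    have hmem : ∀ z : R, z ∈ 𝒜 (-k) → z = 0 := fun z hz => by
      rw [hpos (-k) (by omega)] at hz
      exact (AddSubgroup.mem_bot).1 hz
    have h7 : (decompose 𝒜 y (-k) : R) = 0 := hmem _ (decompose 𝒜 y (-k)).2
    rw [h7, mul_zero]
  rw [h5, zero_sub] at h4
  exact (Ideal.neg_mem_iff J).1 h4

end artin

/-! ### the polynomial ring -/
section poly

variable {R : Type u} [CommRing R] (𝒜 : ℤ → AddSubgroup R) [GradedRing 𝒜]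
variable (hpos : ∀ n : ℤ, n < 0 → 𝒜 n = ⊥)
variable (hstd : Ideal.span (⋃ n ∈ Set.Ioi (0 : ℤ), (𝒜 n : Set R)) =
  Ideal.span ((𝒜 1 : AddSubgroup R) : Set R))

include hpos hstd in
theorem aeval_surjective {d : ℕ} (f : Fin d → R) (hf1 : ∀ i, f i ∈ 𝒜 1)
    (h1J : ∀ x ∈ 𝒜 1, x ∈ Ideal.span (Set.range f)) :
    Function.Surjective
      (MvPolynomial.aeval f : MvPolynomial (Fin d) (deg0 𝒜) →ₐ[deg0 𝒜] R) := by
  classical
  obtain ⟨S, hS⟩ : ∃ S : Subalgebra (deg0 𝒜) R,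
      S = (MvPolynomial.aeval f : MvPolynomial (Fin d) (deg0 𝒜) →ₐ[deg0 𝒜] R).range := ⟨_, rfl⟩
  have hfS : ∀ i, f i ∈ S := by
    intro i
    rw [hS]
    exact ⟨MvPolynomial.X i, MvPolynomial.aeval_X f i⟩
  have hirrJ : Ideal.span (⋃ n ∈ Set.Ioi (0 : ℤ), (𝒜 n : Set R)) ≤
      Ideal.span (Set.range f) := by
    rw [hstd, Ideal.span_le]
    exact fun x hx => h1J x hx
  have key : ∀ (n : ℕ) (x : R), x ∈ 𝒜 (n : ℤ) → x ∈ S := by
    intro n
    induction n with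
    | zero =>
      intro x hx
      have hx0 : x ∈ 𝒜 0 := hx
      have h1 : x = algebraMap (deg0 𝒜) R ⟨x, hx0⟩ := rfl
      rw [h1]
      exact S.algebraMap_mem _
    | succ n ih =>
      intro x hx
      have hpos' : (0 : ℤ) < ((n + 1 : ℕ) : ℤ) := by exact_mod_cast Nat.succ_pos n
      have hxJ : x ∈ Ideal.span (Set.range f) :=
        hirrJ (Ideal.subset_span (Set.mem_iUnion₂.2 ⟨((n + 1 : ℕ) : ℤ), Set.mem_Ioi.2 hpos', hx⟩))
      obtain ⟨c, hc⟩ := (Ideal.mem_span_range_iff_exists_fun).1 hxJ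
      have hx' : x = ∑ i, f i * (decompose 𝒜 (c i) (n : ℤ) : R) := by
        have h1 : GradedRing.proj 𝒜 ((n + 1 : ℕ) : ℤ) x = x := by
          rw [GradedRing.proj_apply]
          exact decompose_of_mem_same 𝒜 hx
        calc x = GradedRing.proj 𝒜 ((n + 1 : ℕ) : ℤ) x := h1.symm
          _ = GradedRing.proj 𝒜 ((n + 1 : ℕ) : ℤ) (∑ i, c i * f i) := by rw [hc]
          _ = ∑ i, GradedRing.proj 𝒜 ((n + 1 : ℕ) : ℤ) (c i * f i) := map_sum _ _ _
          _ = ∑ i, f i * (decompose 𝒜 (c i) (n : ℤ) : R) := by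
            refine Finset.sum_congr rfl (fun i _ => ?_)
            rw [GradedRing.proj_apply]
            have h2 := decompose_smul_homog 𝒜 𝒜 (hf1 i) (c i) (n : ℤ)
            rw [smul_eq_mul, smul_eq_mul] at h2
            have e : ((n + 1 : ℕ) : ℤ) = 1 + (n : ℤ) := by
              push_cast
              ring
            rw [mul_comm (c i) (f i), e]
            exact h2
      rw [hx']
      exact S.sum_mem (fun i _ => S.mul_mem (hfS i) (ih _ (decompose 𝒜 (c i) (n : ℤ)).2))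
  intro x
  have hxS : x ∈ S := by
    rw [← DirectSum.sum_support_decompose 𝒜 x]
    refine S.sum_mem (fun k _ => ?_)
    by_cases hk : k < 0
    · have hmem : ∀ z : R, z ∈ 𝒜 k → z = 0 := fun z hz => by
        rw [hpos k hk] at hz
        exact (AddSubgroup.mem_bot).1 hz
      rw [hmem _ (decompose 𝒜 x k).2]
      exact S.zero_mem
    · push_neg at hk
      obtain ⟨n, rfl⟩ := Int.eq_ofNat_of_zero_le hk
      exact key n _ (decompose 𝒜 x n).2
  rw [hS] at hxS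
  exact hxS

include hpos in
theorem aeval_injective {d : ℕ} (f : Fin d → R) (hf1 : ∀ i, f i ∈ 𝒜 1)
    (hreg : IsWeaklyRegular R (List.ofFn f)) :
    Function.Injective
      (MvPolynomial.aeval f : MvPolynomial (Fin d) (deg0 𝒜) →ₐ[deg0 𝒜] R) := by
  rw [injective_iff_map_eq_zero]
  intro P hP
  refine aeval_smul_injective (A := deg0 𝒜) (B := R) d R f hreg (1 : R) ?_ P
    (by rw [hP, zero_smul])
  intro a ha
  simp only [smul_eq_mul, Ideal.mul_top, mul_one] at ha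
  have h1 : Ideal.span (Set.range f) ≤ Ideal.span (⋃ n ∈ Set.Ioi (0 : ℤ), (𝒜 n : Set R)) := by
    rw [Ideal.span_le]
    rintro _ ⟨i, rfl⟩
    exact Ideal.subset_span (Set.mem_iUnion₂.2 ⟨1, Set.mem_Ioi.2 one_pos, hf1 i⟩)
  have h2 : (a : R) ∈ tail 𝒜 𝒜 hpos 1 := irr_le_tail 𝒜 hpos (h1 ha)
  exact Subtype.ext (eq_zero_of_mem_tail 𝒜 𝒜 hpos (by norm_num : (0 : ℤ) < 1) a.2 h2)

end poly

end Groth.Agent.Lib.AInvPolyH1
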