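import Mathlib
import Groth.Prelude.Def_GrLC
import Groth.Prelude.Def_GrLC2
import Groth.Prelude.Def_CAlg
import Groth.Prelude.Def_Wider
import Groth.Agent.Lib.AInvPoly_helper1

/-! A standard graded Cohen–Macaulay ring with `a(R) = -dim R` is a polynomial ring
(helper1, S19881), part 2. -/

set_option autoImplicit false

namespace Groth.Agent.Lib.AInvPolyH1

open DirectSum GrLC Groth.Agent.Lib.GrStarH1 Groth.Agent.Lib.GrStar2H1
  Groth.Agent.Lib.GrStar4H1 Groth.Agent.Lib.GrLES1H1 Groth.Agent.Lib.GrLES4H1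
  Groth.Agent.Lib.GrHDecH1 Groth.Agent.Lib.GrHS1H1 Groth.Agent.Lib.GrHS3H1 Groth.Agent.Lib.GrHS4H1
  Groth.Agent.Lib.AInvH1 Groth.Agent.Lib.PolyRegH1 RingTheory.Sequence IsLocalRing
open Groth.Agent.Lib.Ver3H1 (Theta0 Theta0_apply Theta0_surjective Theta0_injective Theta0_mem_gr
  Theta0_gr_surj)

open scoped Pointwise

universe u

section final

variable {R : Type u} [CommRing R] (𝒜 : ℤ → AddSubgroup R) [GradedRing 𝒜]
variable (hpos : ∀ n : ℤ, n < 0 → 𝒜 n = ⊥)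

set_option maxHeartbeats 1600000 in
include hpos in
theorem one_le_span [IsNoetherianRing R] (m : HomogeneousIdeal 𝒜) (hm : IsStarLocal 𝒜 m) (d : ℕ)
    (hd : ringKrullDim R = d) (I : StarInjRes 𝒜 𝒜)
    (hvan : ∀ i, i ≠ d → Subsingleton (I.H (Rp 𝒜) i))
    (hend : endDeg (I.Hgr (Rp 𝒜) d) = (((-(d : ℤ) : ℤ) : WithTop ℤ) : WithBot (WithTop ℤ)))
    (f : Fin d → R) (hf1 : ∀ i, f i ∈ 𝒜 1) (hfreg : IsWeaklyRegular R (List.ofFn f)) :
    ∀ x ∈ 𝒜 1, x ∈ Ideal.span (Set.range f) := by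
  classical
  obtain ⟨J, hJ⟩ : ∃ J : Ideal R, J = Ideal.span (Set.range f) := ⟨_, rfl⟩
  rw [← hJ]
  have hdim : Module.supportDim R R ≤ (d : WithBot ℕ∞) := by
    rw [Module.supportDim_self_eq_ringKrullDim, hd]
  have hfm : ∀ i, f i ∈ (Rp 𝒜).toIdeal := fun i =>
    Ideal.subset_span (Set.mem_iUnion₂.2 ⟨1, Set.mem_Ioi.2 one_pos, hf1 i⟩)
  have hJle : J ≤ (Rp 𝒜).toIdeal := by
    rw [hJ, Ideal.span_le]
    rintro _ ⟨i, rfl⟩
    exact hfm i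
  have hJhom : J.IsHomogeneous 𝒜 := by
    rw [hJ]
    exact Ideal.homogeneous_span 𝒜 _ (by
      rintro _ ⟨i, rfl⟩
      exact ⟨1, hf1 i⟩)
  have hJne : J ≠ ⊤ := by
    intro h
    apply one_notMem 𝒜 hm
    apply Rp_le 𝒜 hpos hm
    apply hJle
    rw [h]
    trivial
  have hJ' : Ideal.ofList (List.ofFn f) • (⊤ : Submodule R R) = J := by
    rw [smul_eq_mul, Ideal.mul_top, hJ]
    have hset : {r | r ∈ List.ofFn f} = Set.range f := by
      ext x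
      simp only [Set.mem_setOf_eq, List.mem_ofFn, Set.mem_range]
    show Ideal.span {r | r ∈ List.ofFn f} = Ideal.span (Set.range f)
    rw [hset]
  have hreg : IsRegular R (List.ofFn f) := ⟨hfreg, by
    rw [hJ']
    exact fun h => hJne h.symm⟩
  -- dimension zero
  have hdimJ : ringKrullDim (R ⧸ J) ≤ 0 := by
    have h1 := supportDim_weaklyRegular_le (List.ofFn f) R hfreg
    rw [hJ', List.length_ofFn, Module.supportDim_self_eq_ringKrullDim, hd] at h1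
    have h2 := wb_le_zero h1
    rw [Module.supportDim_quotient_eq_ringKrullDim] at h2
    exact h2
  haveI : Ring.KrullDimLE 0 (R ⧸ J) := Ring.krullDimLE_iff.2 (by exact_mod_cast hdimJ)
  haveI : IsArtinianRing (R ⧸ J) := IsNoetherianRing.isArtinianRing_of_krullDimLE_zero
  have hrad : (Rp 𝒜).toIdeal ≤ J.radical := by
    rw [Rp_toIdeal, Ideal.span_le]
    intro x hx
    obtain ⟨k, hk, hxk⟩ := Set.mem_iUnion₂.1 hx
    exact pow_mem_of_artinian 𝒜 hpos J hJhom (Set.mem_Ioi.1 hk) hxk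
  obtain ⟨K, hK⟩ := Ideal.exists_pow_le_of_le_radical_of_fg hrad (IsNoetherian.noetherian _)
  -- the graded quotient
  letI := quotDecomp 𝒜 J hJhom
  letI := quot_gsmul 𝒜 𝒜 J
  obtain ⟨F⟩ := Groth.Agent.Lib.GrStar2H1.main13215 𝒜 (quotGr 𝒜 J)
  have hker : LinearMap.ker J.mkQ = Ideal.span (Set.range f) • (⊤ : Submodule R R) := by
    rw [Submodule.ker_mkQ, smul_eq_mul, Ideal.mul_top, hJ]
  have key := endDeg_regular 𝒜 hpos (Rp 𝒜) (Rp_toIdeal 𝒜) d R 𝒜 I d le_rfl hvan hdim f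
    (fun _ => 1) hf1 hfm hreg _ (quotGr 𝒜 J) J.mkQ (mkQ_isGrHom 𝒜 J) J.mkQ_surjective hker F
  have hsum : (∑ _i : Fin d, (1 : ℤ)) = (d : ℤ) := by simp
  rw [Nat.sub_self, hend, hsum, ← WithBot.coe_add, ← WithTop.coe_add, neg_add_cancel] at key
  -- torsion
  have htors : ∀ y : R ⧸ J, y ∈ gam (Rp 𝒜).toIdeal (R ⧸ J) := by
    intro y
    obtain ⟨x, rfl⟩ := J.mkQ_surjective y
    refine ⟨K, fun r hr => ?_⟩
    rw [← map_smul, Submodule.mkQ_apply, Submodule.Quotient.mk_eq_zero, smul_eq_mul]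
    exact J.mul_mem_right x (hK hr)
  intro x hx
  have hbot : F.Hgr (Rp 𝒜) 0 1 = ⊥ := by
    by_contra hne
    have h1 : (((1 : ℤ) : WithTop ℤ) : WithBot (WithTop ℤ)) ≤ endDeg (F.Hgr (Rp 𝒜) 0) :=
      le_iSup₂ (f := fun (k : ℤ) (_ : F.Hgr (Rp 𝒜) 0 k ≠ ⊥) =>
        ((k : WithTop ℤ) : WithBot (WithTop ℤ))) 1 hne
    rw [key] at h1
    have h2 : (1 : ℤ) ≤ 0 := by exact_mod_cast h1
    omega
  have hxb : J.mkQ x ∈ gam (Rp 𝒜).toIdeal (R ⧸ J) := htors _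
  have h3 : Theta0 F (Rp 𝒜) ⟨J.mkQ x, hxb⟩ ∈ F.Hgr (Rp 𝒜) 0 1 :=
    Theta0_mem_gr F (Rp 𝒜) _ (mkQ_isGrHom 𝒜 J 1 x hx)
  rw [hbot, AddSubgroup.mem_bot] at h3
  have h4 : (⟨J.mkQ x, hxb⟩ : ↥(gam (Rp 𝒜).toIdeal (R ⧸ J))) = 0 :=
    Theta0_injective F (Rp 𝒜) (by rw [h3, map_zero])
  have h5 : J.mkQ x = 0 := congrArg Subtype.val h4
  exact (Submodule.Quotient.mk_eq_zero J).1 h5

theorem main19881 (R : Type u) [CommRing R] [hCM : LocCoh.IsCohenMacaulayRing R]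
    (𝒜 : ℤ → AddSubgroup R) [GradedRing 𝒜] (hpos : ∀ n : ℤ, n < 0 → 𝒜 n = ⊥)
    (hstd : Ideal.span (⋃ n ∈ Set.Ioi (0 : ℤ), (𝒜 n : Set R)) =
      Ideal.span ((𝒜 1 : AddSubgroup R) : Set R))
    [IsArtinianRing (GrLC.deg0 𝒜)] (m : HomogeneousIdeal 𝒜) (hm : GrLC.IsStarLocal 𝒜 m)
    (hinf : Infinite (R ⧸ m.toIdeal)) (d : ℕ) (hd : ringKrullDim R = d)
    (I : GrLC.StarInjRes 𝒜 𝒜)
    (ha : GrLC.endDeg (I.Hgr m d) = (((-(d : ℤ) : ℤ) : WithTop ℤ) : WithBot (WithTop ℤ))) :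
    ∃ e : MvPolynomial (Fin d) (GrLC.deg0 𝒜) ≃ₐ[GrLC.deg0 𝒜] R,
      ∀ t : Fin d, e (MvPolynomial.X t) ∈ 𝒜 1 := by
  classical
  haveI : IsNoetherianRing R := hCM.toIsNoetherian
  haveI hloc : IsLocalRing (deg0 𝒜) := isLocalRing_deg0 𝒜 hm
  haveI hinf' : Infinite (ResidueField (deg0 𝒜)) := infinite_residueField 𝒜 hpos hm hinf
  have hht : m.toIdeal.height = d := by
    have h1 := ringKrullDim_eq_height_art 𝒜 hpos m hm
    rw [hd] at h1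
    exact (WithBot.coe_injective h1).symm
  have hgam : ∀ j, gam m.toIdeal (I.X j).carrier = gam (Rp 𝒜).toIdeal (I.X j).carrier :=
    fun j => gam_eq 𝒜 hpos hm _
  have hdim : Module.supportDim R R ≤ (d : WithBot ℕ∞) := by
    rw [Module.supportDim_self_eq_ringKrullDim, hd]
  have hvan : ∀ i, i ≠ d → Subsingleton (I.H (Rp 𝒜) i) := by
    intro i hi
    rcases lt_or_gt_of_ne hi with h | h
    · haveI := H_subsingleton_of_lt 𝒜 m hm d hht I i h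
      exact subsingleton_H_of_gam_eq I m (Rp 𝒜) hgam i
    · obtain ⟨γ⟩ := Groth.Agent.Lib.GrStarLCH1.main13224 R 𝒜 (Rp 𝒜) R 𝒜 I i
      haveI : Subsingleton (LocCoh.H (Rp 𝒜).toIdeal i R) := by
        apply Groth.Agent.Lib.LocCohGVH7.GV
        exact lt_of_le_of_lt hdim (by exact_mod_cast h)
      exact γ.toEquiv.subsingleton
  have hend : endDeg (I.Hgr (Rp 𝒜) d) =
      (((-(d : ℤ) : ℤ) : WithTop ℤ) : WithBot (WithTop ℤ)) := by
    rw [← ha]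
    exact (endDeg_eq_of_gam_eq I m (Rp 𝒜) hgam d).symm
  obtain ⟨f, hf1, hfreg⟩ := exists_regular_seq 𝒜 hpos hstd d R 𝒜 I d le_rfl hvan hdim
  have hsurj1 := one_le_span 𝒜 hpos m hm d hd I hvan hend f hf1 hfreg
  refine ⟨AlgEquiv.ofBijective (MvPolynomial.aeval f)
    ⟨aeval_injective 𝒜 hpos f hf1 hfreg, aeval_surjective 𝒜 hpos hstd f hf1 hsurj1⟩,
    fun t => ?_⟩
  show MvPolynomial.aeval f (MvPolynomial.X t) ∈ 𝒜 1
  rw [MvPolynomial.aeval_X]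
  exact hf1 t

end final

end Groth.Agent.Lib.AInvPolyH1
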