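import Groth.Agent.Lib.PB7_helper8
set_option autoImplicit false
open CategoryTheory AlgebraicGeometry Opposite TopologicalSpace TensorProduct
open AlgebraicGeometry.Scheme.Modules
universe u
namespace PBH8

section
variable {X Y : Scheme.{u}} (f : X ⟶ Y)

/-- naturality of the canonical map in the module. -/
lemma cUV_naturality {F G : Y.Modules} (u : F ⟶ G) {U : X.Opens} {V : Y.Opens}
    (h : U ≤ f ⁻¹ᵁ V) (x : Γ(F, V)) :
    ((Scheme.Modules.pullback f).map u).app U (cUV f F h x) = cUV f G h (u.app V x) := by
  unfold cUV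
  have h1 := (pullbackPushforwardAdjunction f).unit.naturality u
  have h2 : ((pullbackPushforwardAdjunction f).unit.app G).app V (u.app V x) =
      ((Scheme.Modules.pullback f).map u).app (f ⁻¹ᵁ V)
        (((pullbackPushforwardAdjunction f).unit.app F).app V x) :=
    congrArg (fun ψ => (Scheme.Modules.Hom.app ψ V) x) h1
  rw [h2]
  exact QCohCrit.app_naturality ((Scheme.Modules.pullback f).map u) (homOfLE h)
    (((pullbackPushforwardAdjunction f).unit.app F).app V x)

variable (F : Y.Modules) [F.IsQuasicoherent] {U : X.Opens} {V : Y.Opens}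
  (hU : IsAffineOpen U) (hV : IsAffineOpen V) (h : U ≤ f ⁻¹ᵁ V)

include hU hV in
/-- every section of `f^*F` over `U` is a combination of images of sections of `F`. -/
theorem span_cUV :
    Submodule.span Γ(X, U) (Set.range (cUV f F h)) = ⊤ := by
  letI := (f.appLE V U h).hom.toAlgebra
  letI : Module Γ(Y, V) Γ((Scheme.Modules.pullback f).obj F, U) :=
    Module.compHom _ (f.appLE V U h).hom
  haveI : IsScalarTower Γ(Y, V) Γ(X, U) Γ((Scheme.Modules.pullback f).obj F, U) :=
    IsScalarTower.of_algebraMap_smul fun _ _ => rfl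
  have hbc := isBaseChange_cUV f F h hU hV
  rw [eq_top_iff]
  intro y _
  refine hbc.inductionOn y _ (zero_mem _) ?_ ?_ ?_
  · intro m
    exact Submodule.subset_span ⟨m, rfl⟩
  · intro s n hn
    exact Submodule.smul_mem _ s hn
  · intro n₁ n₂ h1 h2
    exact Submodule.add_mem _ h1 h2

end
end PBH8
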