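import Mathlib

/-!
# Exactness of sections of quasi-coherent modules over affine opens
-/

universe u

open CategoryTheory CategoryTheory.Limits AlgebraicGeometry Opposite TopologicalSpace

namespace QCohExact

lemma epi_aux {C : Type*} [Category C] {A B A' B' : C} (a : A ⟶ B) (b : B ⟶ B') (c : A ⟶ A')
    (p : A' ⟶ B') [IsIso b] [IsIso c] [Epi p] (h : a ≫ b = c ≫ p) : Epi a := by
  have : a = (c ≫ p) ≫ inv b := by
    rw [← h, Category.assoc, IsIso.hom_inv_id, Category.comp_id]
  rw [this]; infer_instance

/-- On `Spec R`, an epimorphism of quasi-coherent modules is surjective on global sections. -/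
theorem spec_app_top_surjective {R : CommRingCat.{u}} {F G : (Spec R).Modules}
    [F.IsQuasicoherent] [G.IsQuasicoherent] (p : F ⟶ G) [Epi p] :
    Function.Surjective (p.app ⊤) := by
  have nat := (Scheme.Modules.fromTildeΓNatTrans (R := R)).naturality p
  haveI : IsIso ((Scheme.Modules.fromTildeΓNatTrans (R := R)).app G) :=
    Scheme.Modules.isIso_fromTildeΓ_of_isQuasicoherent G
  haveI : IsIso ((Scheme.Modules.fromTildeΓNatTrans (R := R)).app F) :=
    Scheme.Modules.isIso_fromTildeΓ_of_isQuasicoherent F
  haveI : Epi ((𝟭 (Spec (CommRingCat.of ↑R)).Modules).map p) := ‹Epi p›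
  haveI : Epi ((tilde.functor R).map (moduleSpecΓFunctor.map p)) := epi_aux _ _ _ _ nat
  haveI : Epi (moduleSpecΓFunctor.map p) := (tilde.functor R).epi_of_epi_map inferInstance
  have h2 := (ModuleCat.epi_iff_surjective _).mp (inferInstance : Epi (moduleSpecΓFunctor.map p))
  exact h2

/-- An epimorphism of quasi-coherent modules is surjective on sections over affine opens. -/
theorem app_surjective_of_epi {X : Scheme.{u}} {F G : X.Modules} [F.IsQuasicoherent]
    [G.IsQuasicoherent] (p : F ⟶ G) [Epi p] {U : X.Opens} (hU : IsAffineOpen U) :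
    Function.Surjective (p.app U) := by
  have h1 : Function.Surjective (((Scheme.Modules.restrictFunctor hU.fromSpec).map p).app ⊤) :=
    spec_app_top_surjective _
  have e : hU.fromSpec ''ᵁ ⊤ = U := by
    rw [Scheme.Hom.image_top_eq_opensRange, hU.opensRange_fromSpec]
  have h2 : Function.Surjective (p.app (hU.fromSpec ''ᵁ ⊤)) := h1
  rw [e] at h2
  exact h2

/-- The sections functor over `U`. -/
noncomputable def sec (X : Scheme.{u}) (U : X.Opens) : X.Modules ⥤ Ab :=
  Scheme.Modules.toPresheaf X ⋙ (evaluation (Opens ↥X)ᵒᵖ Ab.{u}).obj (op U)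

instance (X : Scheme.{u}) (U : X.Opens) : PreservesLimits (sec X U) := by
  haveI : PreservesLimits ((evaluation (Opens ↥X)ᵒᵖ Ab.{u}).obj (op U)) := inferInstance
  exact comp_preservesLimits (Scheme.Modules.toPresheaf X)
    ((evaluation (Opens ↥X)ᵒᵖ Ab.{u}).obj (op U))

instance (X : Scheme.{u}) (U : X.Opens) : (sec X U).PreservesZeroMorphisms :=
  inferInstance

theorem app_injective_of_mono {X : Scheme.{u}} {F G : X.Modules} (i : F ⟶ G) [Mono i]
    (U : X.Opens) : Function.Injective (i.app U) := by
  haveI : Mono ((sec X U).map i) := inferInstance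
  exact (AddCommGrpCat.mono_iff_injective _).mp this

theorem app_exact {X : Scheme.{u}} (E : ShortComplex X.Modules) (hE : E.Exact) [Mono E.f]
    (U : X.Opens) (x : Γ(E.X₂, U)) (hx : E.g.app U x = 0) : ∃ y, E.f.app U y = x := by
  have := hE.map_of_mono_of_preservesKernel (sec X U) inferInstance inferInstance
  exact (ShortComplex.ab_exact_iff _).mp this x hx

end QCohExact
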