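import Mathlib
import Groth.Prelude.Def_FlatMod2

/-!
# Quasi-coherent modules on schemes: sections over basic opens and stalks are localizations (helper4)

For a quasi-coherent `F : X.Modules`, an affine open `U` and `f : Γ(X, U)`:
* `exists_res_eq_pow_smul`: every section over `D(f)` times a power of `f` extends to `U`.
* `exists_pow_smul_eq_zero`: a section over `U` vanishing on `D(f)` is killed by a power of `f`.
* `exists_germ_eq_smul`, `exists_smul_eq_zero_of_germ_eq_zero`: the stalk versions.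
-/

set_option autoImplicit false
universe u

namespace Groth.Agent.Lib.QCohLoc_helper4

open AlgebraicGeometry CategoryTheory TopologicalSpace Opposite

section Spec

variable {R : CommRingCat.{u}} (M : (Spec R).Modules) [M.IsQuasicoherent]

theorem spec_isLocalizedModule (f : R) :
    IsLocalizedModule (.powers f)
      ((modulesSpecToSheaf.obj M).obj.map
        (PrimeSpectrum.basicOpen f : (Spec R).Opens).leTop.op).hom :=
  (isIso_fromTildeΓ_iff_isLocalizing M).mp inferInstance f

theorem spec_exists_res (f : R) (s : Γ(M, (PrimeSpectrum.basicOpen f : (Spec R).Opens))) :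
    ∃ (n : ℕ) (t : Γ(M, (⊤ : (Spec R).Opens))),
      M.presheaf.map (PrimeSpectrum.basicOpen f : (Spec R).Opens).leTop.op t = f ^ n • s := by
  let φ := ((modulesSpecToSheaf.obj M).obj.map
        (PrimeSpectrum.basicOpen f : (Spec R).Opens).leTop.op).hom
  have hf : IsLocalizedModule.Away f φ := spec_isLocalizedModule M f
  obtain ⟨n, y, hy⟩ := hf.surj _ _ s
  exact ⟨n, y, hy.symm⟩

theorem spec_exists_pow_smul_eq_zero (f : R) (t : Γ(M, (⊤ : (Spec R).Opens)))
    (ht : M.presheaf.map (PrimeSpectrum.basicOpen f : (Spec R).Opens).leTop.op t = 0) :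
    ∃ n : ℕ, f ^ n • t = 0 := by
  let φ := ((modulesSpecToSheaf.obj M).obj.map
        (PrimeSpectrum.basicOpen f : (Spec R).Opens).leTop.op).hom
  have hf : IsLocalizedModule.Away f φ := spec_isLocalizedModule M f
  obtain ⟨⟨_, n, rfl⟩, hn⟩ := (IsLocalizedModule.eq_zero_iff (.powers f) φ).mp ht
  exact ⟨n, hn⟩

end Spec

section Transport

variable {X : Scheme.{u}} (F : X.Modules) {U : X.Opens} (hU : IsAffineOpen U)

theorem fromSpec_image_top : hU.fromSpec ''ᵁ ⊤ = U := by
  rw [Scheme.Hom.image_top_eq_opensRange, hU.opensRange_fromSpec]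

theorem fromSpec_image_le (V : (Spec Γ(X, U)).Opens) : hU.fromSpec ''ᵁ V ≤ U :=
  (hU.fromSpec.image_mono le_top).trans (fromSpec_image_top hU).le

theorem ring_compat (V : (Spec Γ(X, U)).Opens) :
    (Scheme.ΓSpecIso Γ(X, U)).inv ≫ (Spec Γ(X, U)).presheaf.map V.leTop.op ≫
        (hU.fromSpec.appIso V).inv =
      X.presheaf.map (homOfLE (fromSpec_image_le hU V)).op := by
  rw [← Category.assoc, Iso.comp_inv_eq, Scheme.Hom.appIso_hom', Scheme.Hom.map_appLE,
    Scheme.Hom.appLE, hU.fromSpec_app_self, Category.assoc, ← Functor.map_comp]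
  rfl

/-- The action of `a : Γ(X, U)` on sections of the restriction of `F` to `Spec Γ(X, U)`. -/
theorem smul_restrict (V : (Spec Γ(X, U)).Opens) (a : Γ(X, U))
    (s : Γ(F.restrict hU.fromSpec, V)) :
    (F.restrictAppIso hU.fromSpec V).hom (a • s) =
      (X.presheaf.map (homOfLE (fromSpec_image_le hU V)).op).hom a •
        (F.restrictAppIso hU.fromSpec V).hom s := by
  rw [Scheme.Modules.smul_Spec_def, ← ring_compat hU V]
  rfl

omit hU in
theorem map_map_eq {A B C : X.Opensᵒᵖ} (i : A ⟶ B) (j : B ⟶ C) (k : A ⟶ C)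
    (x : F.presheaf.obj A) :
    F.presheaf.map j (F.presheaf.map i x) = F.presheaf.map k x := by
  have : i ≫ j = k := Subsingleton.elim _ _
  rw [← this, Functor.map_comp, ConcreteCategory.comp_apply]

omit hU in
theorem ring_map_map_eq {A B C : X.Opensᵒᵖ} (i : A ⟶ B) (j : B ⟶ C) (k : A ⟶ C)
    (x : X.presheaf.obj A) :
    (X.presheaf.map j).hom ((X.presheaf.map i).hom x) = (X.presheaf.map k).hom x := by
  have : i ≫ j = k := Subsingleton.elim _ _
  rw [← this, Functor.map_comp, CommRingCat.comp_apply]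

omit hU in
theorem map_map_map_eq {A B C D : X.Opensᵒᵖ} (i : A ⟶ B) (j : B ⟶ C) (l : C ⟶ D) (k : A ⟶ D)
    (x : F.presheaf.obj A) :
    F.presheaf.map l (F.presheaf.map j (F.presheaf.map i x)) = F.presheaf.map k x :=
  (congrArg _ (map_map_eq F i j (i ≫ j) x)).trans (map_map_eq F _ l k x)

omit hU in
theorem ring_map_congr {A B : X.Opensᵒᵖ} (i j : A ⟶ B) (x : X.presheaf.obj A) :
    (X.presheaf.map i).hom x = (X.presheaf.map j).hom x := by
  have : i = j := Subsingleton.elim _ _
  rw [this]

variable [F.IsQuasicoherent] (f : Γ(X, U))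

include hU

theorem exists_res_eq_pow_smul (s : Γ(F, X.basicOpen f)) :
    ∃ (n : ℕ) (t : Γ(F, U)), F.presheaf.map (homOfLE (X.basicOpen_le f)).op t =
      (X.presheaf.map (homOfLE (X.basicOpen_le f)).op).hom f ^ n • s := by
  have e₁ : hU.fromSpec ''ᵁ (PrimeSpectrum.basicOpen f) = X.basicOpen f :=
    hU.fromSpec_image_basicOpen f
  have e₂ : hU.fromSpec ''ᵁ ⊤ = U := fromSpec_image_top hU
  obtain ⟨n, t', ht'⟩ := spec_exists_res (F.restrict hU.fromSpec) f
    ((F.restrictAppIso hU.fromSpec (PrimeSpectrum.basicOpen f)).inv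
      (F.presheaf.map (eqToHom e₁).op s))
  refine ⟨n, F.presheaf.map (eqToHom e₂.symm).op ((F.restrictAppIso hU.fromSpec ⊤).hom t'), ?_⟩
  have hinj : Function.Injective (F.presheaf.map (eqToHom e₁).op) :=
    (ConcreteCategory.bijective_of_isIso _).1
  apply hinj
  have h2 := congrArg (F.restrictAppIso hU.fromSpec (PrimeSpectrum.basicOpen f)).hom ht'
  rw [smul_restrict, Scheme.Modules.map_restrictAppIso_hom_apply] at h2
  simp only [Iso.inv_hom_id_apply] at h2
  rw [map_pow] at h2
  refine (map_map_map_eq F _ _ _ _ _).trans (h2.trans ?_)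
  have hpow : (X.presheaf.map (homOfLE (fromSpec_image_le hU
        (PrimeSpectrum.basicOpen f))).op).hom f ^ n =
      (X.presheaf.map (eqToHom e₁).op).hom
        ((X.presheaf.map (homOfLE (X.basicOpen_le f)).op).hom f ^ n) :=
    ((map_pow (X.presheaf.map (eqToHom e₁).op).hom _ n).trans
      (congrArg (· ^ n) (ring_map_map_eq _ _ _ f))).symm
  exact (congrArg (· • F.presheaf.map (eqToHom e₁).op s) hpow).trans
    (Scheme.Modules.map_smul F _ _ _).symm

theorem exists_pow_smul_eq_zero (t : Γ(F, U))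
    (ht : F.presheaf.map (homOfLE (X.basicOpen_le f)).op t = 0) : ∃ n : ℕ, f ^ n • t = 0 := by
  have e₁ : hU.fromSpec ''ᵁ (PrimeSpectrum.basicOpen f) = X.basicOpen f :=
    hU.fromSpec_image_basicOpen f
  have e₂ : hU.fromSpec ''ᵁ ⊤ = U := fromSpec_image_top hU
  have hT : (F.restrict hU.fromSpec).presheaf.map
      (PrimeSpectrum.basicOpen f : (Spec Γ(X, U)).Opens).leTop.op
      ((F.restrictAppIso hU.fromSpec ⊤).inv (F.presheaf.map (eqToHom e₂).op t)) = 0 := by
    apply (ConcreteCategory.bijective_of_isIso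
      (F.restrictAppIso hU.fromSpec (PrimeSpectrum.basicOpen f)).hom).1
    rw [Scheme.Modules.map_restrictAppIso_hom_apply, Iso.inv_hom_id_apply, map_zero]
    exact (map_map_eq F _ _ ((homOfLE (X.basicOpen_le f)).op ≫ (eqToHom e₁).op) _).trans
      ((map_map_eq F (homOfLE (X.basicOpen_le f)).op (eqToHom e₁).op _ t).symm.trans
        ((congrArg (F.presheaf.map (eqToHom e₁).op) ht).trans (map_zero _)))
  obtain ⟨n, hn⟩ := spec_exists_pow_smul_eq_zero (F.restrict hU.fromSpec) f _ hT
  refine ⟨n, ?_⟩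
  have h2 := congrArg (F.restrictAppIso hU.fromSpec ⊤).hom hn
  rw [smul_restrict, Iso.inv_hom_id_apply, map_zero] at h2
  have hinj : Function.Injective (F.presheaf.map (eqToHom e₂).op) :=
    (ConcreteCategory.bijective_of_isIso _).1
  apply hinj
  refine ((Scheme.Modules.map_smul F _ _ _).trans ?_).trans (map_zero _).symm
  exact (congrArg (· • F.presheaf.map (eqToHom e₂).op t) (ring_map_congr _ _ _)).trans h2

end Transport

section Stalk

variable {X : Scheme.{u}} (F : X.Modules)

theorem germ_smul (U : X.Opens) (x : X) (hx : x ∈ U) (r : Γ(X, U)) (m : Γ(F, U)) :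
    F.presheaf.germ U x hx (r • m) = X.presheaf.germ U x hx r • F.presheaf.germ U x hx m :=
  PresheafOfModules.germ_smul (R := X.presheaf)
    (show PresheafOfModules (X.presheaf ⋙ forget₂ CommRingCat RingCat) from F.val) x U hx r m

/-- `F` is "localizing on `U`": sections of `F` over basic opens of `U` are localizations of the
sections over `U`. Holds for quasi-coherent `F` and affine `U`. -/
structure LocOn (U : X.Opens) : Prop where
  ex : ∀ (f : Γ(X, U)) (s : Γ(F, X.basicOpen f)), ∃ (n : ℕ) (t : Γ(F, U)),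
      F.presheaf.map (homOfLE (X.basicOpen_le f)).op t =
        (X.presheaf.map (homOfLE (X.basicOpen_le f)).op).hom f ^ n • s
  ker : ∀ (f : Γ(X, U)) (t : Γ(F, U)),
      F.presheaf.map (homOfLE (X.basicOpen_le f)).op t = 0 → ∃ n : ℕ, f ^ n • t = 0

theorem locOn_of_isQuasicoherent [F.IsQuasicoherent] {U : X.Opens} (hU : IsAffineOpen U) :
    LocOn F U :=
  ⟨fun f s => exists_res_eq_pow_smul F hU f s, fun f t ht => exists_pow_smul_eq_zero F hU f t ht⟩

variable {F} {U : X.Opens} (h : LocOn F U) (hU : IsAffineOpen U)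

include h hU

/-- Every element of the stalk at a point of an affine open `U`
is, up to a function invertible at the point, the germ of a section over `U`. -/
theorem LocOn.exists_germ_eq_smul {x : X} (hx : x ∈ U) (z : F.presheaf.stalk x) :
    ∃ (g : Γ(X, U)) (t : Γ(F, U)), x ∈ X.basicOpen g ∧
      F.presheaf.germ U x hx t = X.presheaf.germ U x hx g • z := by
  obtain ⟨V, hxV, s, rfl⟩ := TopCat.Presheaf.exists_germ_eq F.presheaf z
  obtain ⟨g, hgV, hxg⟩ := hU.exists_basicOpen_le ⟨x, hxV⟩ hx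
  obtain ⟨n, t, ht⟩ := h.ex g (F.presheaf.map (homOfLE hgV).op s)
  have hxg' : x ∈ X.basicOpen g := hxg
  refine ⟨g ^ n, t, ?_, ?_⟩
  · rw [Scheme.mem_basicOpen _ _ _ hx, map_pow]
    exact ((Scheme.mem_basicOpen _ _ _ hx).mp hxg').pow n
  · have h1 := congrArg (F.presheaf.germ (X.basicOpen g) x hxg') ht
    rw [TopCat.Presheaf.germ_res_apply, germ_smul, TopCat.Presheaf.germ_res_apply, map_pow,
      TopCat.Presheaf.germ_res_apply] at h1
    rw [h1, map_pow]

/-- A section over an affine open `U` whose germ at `x ∈ U` vanishes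
is killed by a function invertible at `x`. -/
theorem LocOn.exists_smul_eq_zero_of_germ_eq_zero {x : X} (hx : x ∈ U) (t : Γ(F, U))
    (ht : F.presheaf.germ U x hx t = 0) : ∃ g : Γ(X, U), x ∈ X.basicOpen g ∧ g • t = 0 := by
  have ht' : F.presheaf.germ U x hx t = F.presheaf.germ U x hx 0 := by rw [ht, map_zero]
  obtain ⟨W, hxW, iU, iV, hW⟩ := TopCat.Presheaf.germ_eq F.presheaf x hx hx t 0 ht'
  rw [map_zero] at hW
  obtain ⟨g, hgW, hxg⟩ := hU.exists_basicOpen_le ⟨x, hxW⟩ hx
  have hxg' : x ∈ X.basicOpen g := hxg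
  obtain ⟨n, hn⟩ := h.ker g t (by
    have := congrArg (F.presheaf.map (homOfLE hgW).op) hW
    rw [map_zero] at this
    exact (map_map_eq F iU.op (homOfLE hgW).op _ t).symm.trans this)
  refine ⟨g ^ n, ?_, hn⟩
  rw [Scheme.mem_basicOpen _ _ _ hx, map_pow]
  exact ((Scheme.mem_basicOpen _ _ _ hx).mp hxg').pow n

end Stalk

end Groth.Agent.Lib.QCohLoc_helper4
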