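import Groth.Agent.Lib.RelFP_helper9

/-!
# Relative finite presentation: change of base algebra and finite extensions
-/

namespace Groth.Agent.Lib.RelFP

universe u

open MvPolynomial

theorem fp_via_fp_algebra_iff {R S C : Type u} [CommRing R] [CommRing S] [CommRing C]
    [Algebra R S] [Algebra R C] [Algebra.FinitePresentation R S]
    (ψ : S →ₐ[R] C) (hψ : Function.Surjective ψ)
    {N : Type u} [AddCommGroup N] [Module C N] {k : ℕ}
    (β : MvPolynomial (Fin k) R →ₐ[R] C) (hβ : Function.Surjective β) :
    @Module.FinitePresentation S N _ _ (Module.compHom N ψ.toRingHom) ↔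
      @Module.FinitePresentation (MvPolynomial (Fin k) R) N _ _
        (Module.compHom N β.toRingHom) := by
  obtain ⟨m, Θ, hΘ⟩ := Algebra.FiniteType.iff_quotient_mvPolynomial''.mp
    (inferInstance : Algebra.FiniteType R S)
  have hΘfp : Θ.toRingHom.FinitePresentation := by
    letI : Algebra (MvPolynomial (Fin m) R) S := Θ.toRingHom.toAlgebra
    haveI : IsScalarTower R (MvPolynomial (Fin m) R) S :=
      IsScalarTower.of_algebraMap_eq' Θ.comp_algebraMap.symm
    exact Algebra.FinitePresentation.of_restrict_scalars_finitePresentation R _ _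
  let γ₂ : MvPolynomial (Fin m) R →ₐ[R] C := ψ.comp Θ
  have hγ₂ : Function.Surjective γ₂ := hψ.comp hΘ
  constructor
  · intro h
    have h2 := fp_down Θ.toRingHom hΘ hΘfp (Module.compHom N ψ.toRingHom) h
    have h3 : @Module.FinitePresentation (MvPolynomial (Fin m) R) N _ _
        (Module.compHom N γ₂.toRingHom) := fp_congr_inst _ _ (fun _ _ => rfl) h2
    exact indep_presentation β hβ γ₂ hγ₂ h3
  · intro h
    have h3 := indep_presentation γ₂ hγ₂ β hβ h
    apply fp_up Θ.toRingHom hΘ (Module.compHom N ψ.toRingHom)
    exact fp_congr_inst _ _ (fun _ _ => rfl) h3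

theorem finite_ext_iff {P B' : Type*} [CommRing P] [CommRing B'] [Algebra P B']
    [Module.Finite P B'] [Module.FinitePresentation P B']
    {N : Type*} [AddCommGroup N] [Module P N] [Module B' N] [IsScalarTower P B' N] :
    Module.FinitePresentation P N ↔ Module.FinitePresentation B' N := by
  constructor
  · intro h
    haveI : Module.Finite B' N := Module.Finite.of_restrictScalars_finite P B' N
    obtain ⟨k, π, hπ⟩ := Module.Finite.exists_fin' B' N
    have hK : (LinearMap.ker (π.restrictScalars P)).FG :=
      Module.FinitePresentation.fg_ker (π.restrictScalars P) hπ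
    apply Module.finitePresentation_of_surjective π hπ
    apply Submodule.FG.of_restrictScalars P
    rw [← LinearMap.ker_restrictScalars]
    exact hK
  · intro h
    exact Module.FinitePresentation.trans P N B'

theorem of_finite_extension {R A B : Type u} [CommRing R] [CommRing A] [CommRing B]
    [Algebra R A] [Algebra A B] [Algebra R B] [IsScalarTower R A B]
    [Module.Finite A B] (M : Type u) [AddCommGroup M] [Module B M] [Module A M]
    [IsScalarTower A B M] {n k : ℕ} (α : MvPolynomial (Fin n) R →ₐ[R] A)
    (hα : Function.Surjective α)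
    (β : MvPolynomial (Fin k) R →ₐ[R] B) (hβ : Function.Surjective β) :
    @Module.FinitePresentation (MvPolynomial (Fin n) R) M _ _ (Module.compHom M α.toRingHom) ↔
      @Module.FinitePresentation (MvPolynomial (Fin k) R) M _ _
        (Module.compHom M β.toRingHom) := by
  letI algPA : Algebra (MvPolynomial (Fin n) R) A := α.toRingHom.toAlgebra
  letI algPB : Algebra (MvPolynomial (Fin n) R) B :=
    ((algebraMap A B).comp α.toRingHom).toAlgebra
  haveI : IsScalarTower (MvPolynomial (Fin n) R) A B := IsScalarTower.of_algebraMap_eq' rfl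
  haveI : Module.Finite (MvPolynomial (Fin n) R) A :=
    Module.Finite.of_surjective (Algebra.linearMap (MvPolynomial (Fin n) R) A) hα
  haveI : Module.Finite (MvPolynomial (Fin n) R) B := Module.Finite.trans A B
  haveI : IsScalarTower R (MvPolynomial (Fin n) R) B := IsScalarTower.of_algebraMap_eq fun r => by
    show algebraMap R B r = algebraMap A B (α (algebraMap R (MvPolynomial (Fin n) R) r))
    rw [α.commutes, ← IsScalarTower.algebraMap_apply]
  obtain ⟨B', _, _, _, _, _, ψ, hψ⟩ :=
    Module.Finite.exists_free_surjective (MvPolynomial (Fin n) R) B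
  letI algRB' : Algebra R B' :=
    ((algebraMap (MvPolynomial (Fin n) R) B').comp (algebraMap R (MvPolynomial (Fin n) R))).toAlgebra
  haveI : IsScalarTower R (MvPolynomial (Fin n) R) B' := IsScalarTower.of_algebraMap_eq' rfl
  haveI : Algebra.FinitePresentation R B' :=
    Algebra.FinitePresentation.trans R (MvPolynomial (Fin n) R) B'
  let ψR : B' →ₐ[R] B := ψ.restrictScalars R
  letI modPM : Module (MvPolynomial (Fin n) R) M := Module.compHom M α.toRingHom
  letI modB'M : Module B' M := Module.compHom M ψ.toRingHom
  haveI : IsScalarTower (MvPolynomial (Fin n) R) B' M :=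
    IsScalarTower.of_algebraMap_smul fun p m => by
      have h1 : algebraMap (MvPolynomial (Fin n) R) B' p • m =
          ψ (algebraMap (MvPolynomial (Fin n) R) B' p) • m := rfl
      rw [h1, ψ.commutes]
      have h2 : algebraMap (MvPolynomial (Fin n) R) B p • m = algebraMap A B (α p) • m := rfl
      rw [h2, algebraMap_smul B (α p) m]
      rfl
  haveI : Module.FinitePresentation (MvPolynomial (Fin n) R) B' :=
    Module.finitePresentation_of_projective _ _
  have e1 : Module.FinitePresentation (MvPolynomial (Fin n) R) M ↔
      Module.FinitePresentation B' M := finite_ext_iff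
  have e2 := fp_via_fp_algebra_iff (N := M) ψR hψ β hβ
  exact e1.trans e2

theorem trans_fp_algebra {R A B : Type u} [CommRing R] [CommRing A]
    [CommRing B] [Algebra R A] [Algebra A B] [Algebra R B] [IsScalarTower R A B]
    [Algebra.FinitePresentation R A]
    (M : Type u) [AddCommGroup M] [Module B M] {n k : ℕ}
    (α : MvPolynomial (Fin n) A →ₐ[A] B) (hα : Function.Surjective α)
    (β : MvPolynomial (Fin k) R →ₐ[R] B) (hβ : Function.Surjective β)
    (hM : @Module.FinitePresentation (MvPolynomial (Fin n) A) M _ _
      (Module.compHom M α.toRingHom)) :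
    @Module.FinitePresentation (MvPolynomial (Fin k) R) M _ _
      (Module.compHom M β.toRingHom) := by
  haveI : Algebra.FinitePresentation R (MvPolynomial (Fin n) A) :=
    Algebra.FinitePresentation.trans R A _
  exact (fp_via_fp_algebra_iff (N := M) (α.restrictScalars R) hα β hβ).mp
    (fp_congr_inst _ _ (fun _ _ => rfl) hM)

end Groth.Agent.Lib.RelFP
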