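import Mathlib

/-!
# Relative finite presentation: independence of the presentation and locality
-/

namespace Groth.Agent.Lib.RelFP

universe u

open MvPolynomial

section basic

variable {B' B : Type*} [CommRing B'] [CommRing B] {N : Type*} [AddCommGroup N]

lemma fp_congr_inst (inst1 inst2 : Module B N)
    (h : ∀ (b : B) (n : N), (haveI := inst1; b • n) = (haveI := inst2; b • n))
    (h1 : @Module.FinitePresentation B N _ _ inst1) :
    @Module.FinitePresentation B N _ _ inst2 := by
  have : inst1 = inst2 := Module.ext' inst1 inst2 h
  subst this; exact h1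

/-- Transfer down along a surjective finitely presented ring map. -/
lemma fp_down (φ : B' →+* B) (hφ : Function.Surjective φ) (hfp : φ.FinitePresentation)
    (inst : Module B N) (h : @Module.FinitePresentation B N _ _ inst) :
    @Module.FinitePresentation B' N _ _ (letI := inst; Module.compHom N φ) := by
  letI := inst
  letI : Algebra B' B := φ.toAlgebra
  letI : Module B' N := Module.compHom N φ
  haveI : IsScalarTower B' B N := IsScalarTower.of_algebraMap_smul fun r m => rfl
  haveI : Algebra.FinitePresentation B' B := hfp
  haveI : Module.Finite B' B := Module.Finite.of_surjective (Algebra.linearMap B' B) hφ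
  haveI : Module.FinitePresentation B' B :=
    Module.FinitePresentation.of_finite_of_finitePresentation B' B
  exact Module.FinitePresentation.trans B' N B

/-- Transfer up along a surjective ring map. -/
lemma fp_up (φ : B' →+* B) (hφ : Function.Surjective φ) (inst : Module B N)
    (h : @Module.FinitePresentation B' N _ _ (letI := inst; Module.compHom N φ)) :
    @Module.FinitePresentation B N _ _ inst := by
  letI := inst
  letI : Algebra B' B := φ.toAlgebra
  letI : Module B' N := Module.compHom N φ
  haveI : IsScalarTower B' B N := IsScalarTower.of_algebraMap_smul fun r m => rfl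
  haveI : Module.FinitePresentation B' N := h
  obtain ⟨k, π', hπ'⟩ := Module.Finite.exists_fin' B' N
  have hK : (LinearMap.ker π').FG := Module.FinitePresentation.fg_ker π' hπ'
  let π : (Fin k → B) →ₗ[B] N :=
    Fintype.linearCombination B (fun j => π' (fun j' => if j = j' then 1 else 0))
  let Φ : (Fin k → B') →ₗ[B'] (Fin k → B) := (Algebra.linearMap B' B).compLeft (Fin k)
  have hΦ : Function.Surjective Φ := fun v => by
    choose u hu using fun j => hφ (v j)
    exact ⟨u, funext hu⟩
  have hcomp : ∀ u, π (Φ u) = π' u := by
    intro u
    rw [LinearMap.pi_apply_eq_sum_univ π' u, Fintype.linearCombination_apply]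
    refine Finset.sum_congr rfl fun j _ => ?_
    show (algebraMap B' B (u j)) • _ = u j • _
    exact algebraMap_smul B (u j) _
  apply Module.finitePresentation_of_surjective π
  · intro n
    obtain ⟨u, rfl⟩ := hπ' n
    exact ⟨Φ u, hcomp u⟩
  · have hker : (LinearMap.ker π).restrictScalars B' = (LinearMap.ker π').map Φ := by
      ext v; constructor
      · intro hv
        obtain ⟨u, rfl⟩ := hΦ v
        refine ⟨u, ?_, rfl⟩
        show π' u = 0
        rw [← hcomp]; exact hv
      · rintro ⟨u, hu, rfl⟩
        show π (Φ u) = 0
        rw [hcomp]; exact hu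
    apply Submodule.FG.of_restrictScalars B'
    rw [hker]; exact hK.map Φ

end basic

section IP

variable {R : Type*} [CommRing R] {C : Type*} [CommRing C] [Algebra R C]
  {N : Type*} [AddCommGroup N] [Module C N] {σ τ : Type*} [Finite σ] [Finite τ]

/-- Independence of the presentation. -/
theorem indep_presentation (β₁ : MvPolynomial σ R →ₐ[R] C) (h₁ : Function.Surjective β₁)
    (β₂ : MvPolynomial τ R →ₐ[R] C) (h₂ : Function.Surjective β₂)
    (h : @Module.FinitePresentation (MvPolynomial τ R) N _ _ (Module.compHom N β₂.toRingHom)) :
    @Module.FinitePresentation (MvPolynomial σ R) N _ _ (Module.compHom N β₁.toRingHom) := by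
  classical
  choose q hq using fun j : σ => h₂ (β₁ (X j))
  choose p hp using fun t : τ => h₁ (β₂ (X t))
  let ρ₂ : MvPolynomial (σ ⊕ τ) R →ₐ[R] MvPolynomial τ R := aeval (Sum.elim q X)
  let ρ₁ : MvPolynomial (σ ⊕ τ) R →ₐ[R] MvPolynomial σ R := aeval (Sum.elim X p)
  have hρ₂ : Function.Surjective ρ₂ := by
    intro y
    refine ⟨rename Sum.inr y, ?_⟩
    show aeval (Sum.elim q X) (rename Sum.inr y) = y
    rw [aeval_rename]
    have : (Sum.elim q X ∘ Sum.inr : τ → MvPolynomial τ R) = X := by
      funext t; rfl
    rw [this, aeval_X_left, AlgHom.id_apply]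
  have hρ₁ : Function.Surjective ρ₁ := by
    intro y
    refine ⟨rename Sum.inl y, ?_⟩
    show aeval (Sum.elim X p) (rename Sum.inl y) = y
    rw [aeval_rename]
    have : (Sum.elim X p ∘ Sum.inl : σ → MvPolynomial σ R) = X := by
      funext t; rfl
    rw [this, aeval_X_left, AlgHom.id_apply]
  have hcomp : β₂.comp ρ₂ = β₁.comp ρ₁ := by
    apply MvPolynomial.algHom_ext
    intro i
    cases i with
    | inl j =>
      show β₂ (aeval (Sum.elim q X) (X (Sum.inl j))) = β₁ (aeval (Sum.elim X p) (X (Sum.inl j)))
      rw [aeval_X, aeval_X]; exact hq j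
    | inr t =>
      show β₂ (aeval (Sum.elim q X) (X (Sum.inr t))) = β₁ (aeval (Sum.elim X p) (X (Sum.inr t)))
      rw [aeval_X, aeval_X]; exact (hp t).symm
  have hfp₂ : ρ₂.toRingHom.FinitePresentation := by
    letI : Algebra (MvPolynomial (σ ⊕ τ) R) (MvPolynomial τ R) := ρ₂.toRingHom.toAlgebra
    haveI : IsScalarTower R (MvPolynomial (σ ⊕ τ) R) (MvPolynomial τ R) :=
      IsScalarTower.of_algebraMap_eq' ρ₂.comp_algebraMap.symm
    exact Algebra.FinitePresentation.of_restrict_scalars_finitePresentation R _ _
  have s1 := fp_down (N := N) ρ₂.toRingHom hρ₂ hfp₂ (Module.compHom N β₂.toRingHom) h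
  have s2 : @Module.FinitePresentation (MvPolynomial (σ ⊕ τ) R) N _ _
      (letI := Module.compHom N β₁.toRingHom; Module.compHom N ρ₁.toRingHom) := by
    refine fp_congr_inst _ _ (fun b n => ?_) s1
    show β₂ (ρ₂ b) • n = β₁ (ρ₁ b) • n
    have := AlgHom.congr_fun hcomp b
    simp only [AlgHom.comp_apply] at this
    rw [this]
  exact fp_up ρ₁.toRingHom hρ₁ (Module.compHom N β₁.toRingHom) s2

end IP

section main

variable {R A : Type u} [CommRing R] [CommRing A] [Algebra R A]

set_option maxHeartbeats 1600000 in
/-- The local comparison. -/
theorem local_iff {n : ℕ} (α : MvPolynomial (Fin n) R →ₐ[R] A) (hα : Function.Surjective α)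
    (M : Type u) [AddCommGroup M] [Module A M] (f : A) (F : MvPolynomial (Fin n) R)
    (hF : α F = f) {k : ℕ} (γ : MvPolynomial (Fin k) R →ₐ[R] Localization.Away f)
    (hγ : Function.Surjective γ) :
    (letI : Module (MvPolynomial (Fin n) R) M := Module.compHom M α.toRingHom
     Module.FinitePresentation (Localization.Away F)
       (LocalizedModule (Submonoid.powers F) M)) ↔
    @Module.FinitePresentation (MvPolynomial (Fin k) R)
      (LocalizedModule (Submonoid.powers f) M) _ _
      (Module.compHom (LocalizedModule (Submonoid.powers f) M) γ.toRingHom) := by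
  letI modPM : Module (MvPolynomial (Fin n) R) M := Module.compHom M α.toRingHom
  letI algPA : Algebra (MvPolynomial (Fin n) R) A := α.toRingHom.toAlgebra
  haveI : IsScalarTower (MvPolynomial (Fin n) R) A M :=
    IsScalarTower.of_algebraMap_smul fun _ _ => rfl
  let ι : M →ₗ[A] LocalizedModule (Submonoid.powers f) M :=
    LocalizedModule.mkLinearMap (Submonoid.powers f) M
  haveI : IsLocalizedModule (Submonoid.powers (algebraMap (MvPolynomial (Fin n) R) A F)) ι := by
    have : algebraMap (MvPolynomial (Fin n) R) A F = f := hF
    rw [this]; infer_instance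
  haveI hloc : IsLocalizedModule (Submonoid.powers F)
      (ι.restrictScalars (MvPolynomial (Fin n) R)) :=
    IsLocalizedModule.restrictScalars_powers F ι
  -- the map on localizations
  let g : MvPolynomial (Fin n) R →ₐ[R] Localization.Away f :=
    (IsScalarTower.toAlgHom R A (Localization.Away f)).comp α
  have hg : ∀ y : Submonoid.powers F, IsUnit (g y) := by
    rintro ⟨_, j, rfl⟩
    show IsUnit (algebraMap A (Localization.Away f) (α (F ^ j)))
    rw [map_pow, hF, map_pow]
    exact (IsLocalization.Away.algebraMap_isUnit f).pow j
  let lam : Localization.Away F →ₐ[R] Localization.Away f :=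
    IsLocalization.liftAlgHom (M := Submonoid.powers F) (S := Localization.Away F) (f := g) hg
  have hlam : ∀ p : MvPolynomial (Fin n) R,
      lam (algebraMap _ (Localization.Away F) p) = algebraMap A (Localization.Away f) (α p) :=
    fun p => IsLocalization.lift_eq _ p
  letI modPFMi : Module (Localization.Away F) (LocalizedModule (Submonoid.powers f) M) :=
    Module.compHom (LocalizedModule (Submonoid.powers f) M) lam.toRingHom
  haveI : IsScalarTower (MvPolynomial (Fin n) R) (Localization.Away F)
      (LocalizedModule (Submonoid.powers f) M) :=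
    IsScalarTower.of_algebraMap_smul fun p m => by
      have h1 : algebraMap _ (Localization.Away F) p • m =
          lam (algebraMap _ (Localization.Away F) p) • m := rfl
      rw [h1, hlam, algebraMap_smul (Localization.Away f) (α p) m]
      exact algebraMap_smul A p m
  let e0 : LocalizedModule (Submonoid.powers F) M ≃ₗ[MvPolynomial (Fin n) R]
      LocalizedModule (Submonoid.powers f) M :=
    IsLocalizedModule.iso (Submonoid.powers F) (ι.restrictScalars (MvPolynomial (Fin n) R))
  let e : LocalizedModule (Submonoid.powers F) M ≃ₗ[Localization.Away F]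
      LocalizedModule (Submonoid.powers f) M :=
    LinearEquiv.extendScalarsOfIsLocalization (Submonoid.powers F) (Localization.Away F) e0
  have step1 : Module.FinitePresentation (Localization.Away F)
        (LocalizedModule (Submonoid.powers F) M) ↔
      Module.FinitePresentation (Localization.Away F)
        (LocalizedModule (Submonoid.powers f) M) :=
    ⟨fun h => Module.FinitePresentation.of_equiv e, fun h => Module.FinitePresentation.of_equiv e.symm⟩
  -- a presentation of the localization
  haveI : Algebra.FinitePresentation (MvPolynomial (Fin n) R) (Localization.Away F) :=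
    IsLocalization.Away.finitePresentation F
  haveI : Algebra.FinitePresentation R (Localization.Away F) :=
    Algebra.FinitePresentation.trans R (MvPolynomial (Fin n) R) (Localization.Away F)
  obtain ⟨m, θ, hθ⟩ := Algebra.FiniteType.iff_quotient_mvPolynomial''.mp
    (inferInstance : Algebra.FiniteType R (Localization.Away F))
  have hθfp : θ.toRingHom.FinitePresentation := by
    letI : Algebra (MvPolynomial (Fin m) R) (Localization.Away F) := θ.toRingHom.toAlgebra
    haveI : IsScalarTower R (MvPolynomial (Fin m) R) (Localization.Away F) :=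
      IsScalarTower.of_algebraMap_eq' θ.comp_algebraMap.symm
    exact Algebra.FinitePresentation.of_restrict_scalars_finitePresentation R _ _
  have hlamsurj : Function.Surjective lam := by
    intro y
    obtain ⟨⟨a, ⟨_, j, rfl⟩⟩, hy⟩ := IsLocalization.surj (Submonoid.powers f) y
    obtain ⟨p, rfl⟩ := hα a
    refine ⟨IsLocalization.mk' (Localization.Away F) p
      (⟨F ^ j, j, rfl⟩ : Submonoid.powers F), ?_⟩
    have hu : IsUnit (algebraMap A (Localization.Away f) (f ^ j)) := by
      rw [map_pow]; exact (IsLocalization.Away.algebraMap_isUnit f).pow j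
    apply hu.mul_left_injective
    show lam _ * algebraMap A (Localization.Away f) (f ^ j) =
      y * algebraMap A (Localization.Away f) (f ^ j)
    have hy' : y * algebraMap A (Localization.Away f) (f ^ j) =
        algebraMap A (Localization.Away f) (α p) := hy
    rw [hy']
    have h2 : algebraMap A (Localization.Away f) (f ^ j) =
        lam (algebraMap _ (Localization.Away F) (F ^ j)) := by
      rw [hlam, map_pow α, hF]
    rw [h2, ← map_mul]
    have h3 := IsLocalization.mk'_spec (Localization.Away F) p
      (⟨F ^ j, j, rfl⟩ : Submonoid.powers F)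
    have h3' : IsLocalization.mk' (Localization.Away F) p
        (⟨F ^ j, j, rfl⟩ : Submonoid.powers F) *
        algebraMap _ (Localization.Away F) (F ^ j) = algebraMap _ (Localization.Away F) p := h3
    rw [h3', hlam]
  let γ' : MvPolynomial (Fin m) R →ₐ[R] Localization.Away f := lam.comp θ
  have hγ' : Function.Surjective γ' := hlamsurj.comp hθ
  have step2 : Module.FinitePresentation (Localization.Away F)
        (LocalizedModule (Submonoid.powers f) M) ↔
      @Module.FinitePresentation (MvPolynomial (Fin m) R)
        (LocalizedModule (Submonoid.powers f) M) _ _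
        (Module.compHom (LocalizedModule (Submonoid.powers f) M) γ'.toRingHom) := by
    constructor
    · intro h
      have h' := fp_down θ.toRingHom hθ hθfp modPFMi h
      exact fp_congr_inst _ _ (fun _ _ => rfl) h'
    · intro h
      apply fp_up θ.toRingHom hθ modPFMi
      exact fp_congr_inst _ _ (fun _ _ => rfl) h
  have step3 : @Module.FinitePresentation (MvPolynomial (Fin m) R)
        (LocalizedModule (Submonoid.powers f) M) _ _
        (Module.compHom (LocalizedModule (Submonoid.powers f) M) γ'.toRingHom) ↔
      @Module.FinitePresentation (MvPolynomial (Fin k) R)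
        (LocalizedModule (Submonoid.powers f) M) _ _
        (Module.compHom (LocalizedModule (Submonoid.powers f) M) γ.toRingHom) :=
    ⟨indep_presentation γ hγ γ' hγ', indep_presentation γ' hγ' γ hγ⟩
  exact step1.trans (step2.trans step3)

theorem main {n : ℕ} (α : MvPolynomial (Fin n) R →ₐ[R] A) (hα : Function.Surjective α)
    (M : Type u) [AddCommGroup M] [Module A M] {r : ℕ} (f : Fin r → A)
    (hf : Ideal.span (Set.range f) = ⊤) (k : Fin r → ℕ)
    (γ : ∀ i, MvPolynomial (Fin (k i)) R →ₐ[R] Localization.Away (f i))
    (hγ : ∀ i, Function.Surjective (γ i)) :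
    @Module.FinitePresentation (MvPolynomial (Fin n) R) M _ _ (Module.compHom M α.toRingHom) ↔
      ∀ i, @Module.FinitePresentation (MvPolynomial (Fin (k i)) R)
        (LocalizedModule (Submonoid.powers (f i)) M) _ _
        (Module.compHom (LocalizedModule (Submonoid.powers (f i)) M) (γ i).toRingHom) := by
  classical
  choose F hF using fun i => hα (f i)
  letI modPM : Module (MvPolynomial (Fin n) R) M := Module.compHom M α.toRingHom
  constructor
  · intro h i
    haveI : Module.FinitePresentation (MvPolynomial (Fin n) R) M := h
    exact (local_iff α hα M (f i) (F i) (hF i) (γ i) (hγ i)).mp inferInstance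
  · intro h
    have h1 : (1 : A) ∈ Ideal.span (Set.range f) := by rw [hf]; trivial
    obtain ⟨c, hc⟩ := Ideal.mem_span_range_iff_exists_fun.mp h1
    choose G hG using fun i => hα (c i)
    set F₀ : MvPolynomial (Fin n) R := 1 - ∑ i, G i * F i with hF₀
    have hαF₀ : α F₀ = 0 := by
      rw [hF₀, map_sub, map_one, map_sum]
      simp only [map_mul, hG, hF, hc, sub_self]
    let s : Set (MvPolynomial (Fin n) R) := insert F₀ (Set.range F)
    have hs : Ideal.span s = ⊤ := by
      rw [Ideal.eq_top_iff_one]
      have : (1 : MvPolynomial (Fin n) R) = F₀ + ∑ i, G i * F i := by rw [hF₀]; ring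
      rw [this]
      refine Ideal.add_mem _ (Ideal.subset_span (Set.mem_insert _ _))
        (Ideal.sum_mem _ fun i _ => Ideal.mul_mem_left _ _
          (Ideal.subset_span (Set.mem_insert_of_mem _ ⟨i, rfl⟩)))
    apply Module.FinitePresentation.of_localizationSpan s hs
    rintro ⟨g, hg⟩
    rcases hg with rfl | ⟨i, rfl⟩
    · haveI : Subsingleton (LocalizedModule (Submonoid.powers F₀) M) := by
        have hz : ∀ x : LocalizedModule (Submonoid.powers F₀) M, x = 0 := by
          intro x
          induction x using LocalizedModule.induction_on with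
          | h m t =>
            rw [← LocalizedModule.zero_mk (1 : Submonoid.powers F₀), LocalizedModule.mk_eq]
            refine ⟨⟨F₀, Submonoid.mem_powers _⟩, ?_⟩
            have h0 : ∀ m' : M, F₀ • m' = 0 := fun m' => by
              show α F₀ • m' = 0
              rw [hαF₀, zero_smul]
            rw [smul_zero, smul_zero]
            exact h0 _
        exact ⟨fun a b => by rw [hz a, hz b]⟩
      exact Module.finitePresentation_of_projective _ _
    · exact (local_iff α hα M (f i) (F i) (hF i) (γ i) (hγ i)).mpr (h i)

end main

end Groth.Agent.Lib.RelFP
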