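import Mathlib
import Groth.Prelude.Def_Flatn
import Groth.Agent.Lib.RelFP_helper9
import Groth.Agent.Lib.RelFP3_helper9

/-!
# Relative finite presentation along ring homomorphisms: a toolkit
-/

universe u

open MvPolynomial

namespace RelFPKit

open Groth.Agent.Lib.RelFP

/-- Relative finite presentation along a ring hom. -/
def RelFPHom {R A : Type u} [CommRing R] [CommRing A] (φ : R →+* A) (M : Type u)
    [AddCommGroup M] [Module A M] : Prop :=
  letI := φ.toAlgebra
  FlatCA.RelFinitePresentation R A M

/-- Transport along compatible isomorphisms. -/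
theorem transport {R R' A A' : Type u} [CommRing R] [CommRing R'] [CommRing A] [CommRing A']
    (φ : R →+* A) (φ' : R' →+* A') (eR : R ≃+* R') (eA : A ≃+* A')
    (hcomm : ∀ r, eA (φ r) = φ' (eR r))
    {M M' : Type u} [AddCommGroup M] [Module A M] [AddCommGroup M'] [Module A' M']
    (eM : M ≃+ M') (hM : ∀ (a : A) (m : M), eM (a • m) = eA a • eM m)
    (h : RelFPHom φ M) : RelFPHom φ' M' := by
  letI := φ.toAlgebra
  letI := φ'.toAlgebra
  obtain ⟨n, α, hα, hfp⟩ := h
  let α' : MvPolynomial (Fin n) R' →ₐ[R'] A' := MvPolynomial.aeval (fun i => eA (α (X i)))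
  let E : MvPolynomial (Fin n) R ≃+* MvPolynomial (Fin n) R' := MvPolynomial.mapEquiv (Fin n) eR
  have key : ∀ p : MvPolynomial (Fin n) R, α' (E p) = eA (α p) := by
    intro p
    have : (α'.toRingHom.comp E.toRingHom) = eA.toRingHom.comp α.toRingHom := by
      apply MvPolynomial.ringHom_ext
      · intro r
        show α' (E (C r)) = eA (α (C r))
        have h1 : E (C r) = C (eR r) := by simp [E]
        rw [h1]
        have h2 : α' (C (eR r)) = φ' (eR r) := by
          simp only [α', MvPolynomial.aeval_C]; rfl
        have h3 : α (C r) = φ r := by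
          rw [← MvPolynomial.algebraMap_eq, AlgHom.commutes]; rfl
        rw [h2, h3, hcomm]
      · intro i
        show α' (E (X i)) = eA (α (X i))
        have h1 : E (X i) = X i := by simp [E]
        rw [h1]
        simp [α']
    exact RingHom.congr_fun this p
  refine ⟨n, α', ?_, ?_⟩
  · intro a'
    obtain ⟨p, hp⟩ := hα (eA.symm a')
    exact ⟨E p, by rw [key, hp, eA.apply_symm_apply]⟩
  · letI modM : Module (MvPolynomial (Fin n) R) M := Module.compHom M α.toRingHom
    letI modM' : Module (MvPolynomial (Fin n) R') M' := Module.compHom M' α'.toRingHom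
    letI modM'' : Module (MvPolynomial (Fin n) R) M' := Module.compHom M' E.toRingHom
    haveI : Module.FinitePresentation (MvPolynomial (Fin n) R) M := hfp
    let eL : M ≃ₗ[MvPolynomial (Fin n) R] M' :=
      { eM with
        map_smul' := fun p m => by
          show eM (α p • m) = α' (E p) • eM m
          rw [hM, key] }
    haveI : Module.FinitePresentation (MvPolynomial (Fin n) R) M' :=
      Module.FinitePresentation.of_equiv eL
    exact fp_up E.toRingHom E.surjective modM' this

theorem relFPHom_algebraMap {R A : Type u} [CommRing R] [CommRing A] [inst : Algebra R A]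
    (M : Type u) [AddCommGroup M] [Module A M] :
    RelFPHom (algebraMap R A) M ↔ FlatCA.RelFinitePresentation R A M := by
  have : (algebraMap R A).toAlgebra = inst := Algebra.algebra_ext _ _ (fun r => rfl)
  show @FlatCA.RelFinitePresentation R A _ _ (algebraMap R A).toAlgebra M _ _ ↔ _
  rw [this]

/-- Concrete localization. -/
theorem loc_concrete {R A : Type u} [CommRing R] [CommRing A] [Algebra R A] (M : Type u)
    [AddCommGroup M] [Module A M] (h : FlatCA.RelFinitePresentation R A M) (a : A) :
    FlatCA.RelFinitePresentation R (Localization.Away a)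
      (LocalizedModule (Submonoid.powers a) M) := by
  obtain ⟨n, α, hα, hfp⟩ := h
  obtain ⟨F, hF⟩ := hα a
  haveI : Algebra.FiniteType R A := Algebra.FiniteType.of_surjective α hα
  haveI : Algebra.FinitePresentation A (Localization.Away a) :=
    IsLocalization.Away.finitePresentation a
  haveI : Algebra.FiniteType A (Localization.Away a) := inferInstance
  haveI : Algebra.FiniteType R (Localization.Away a) :=
    Algebra.FiniteType.trans (S := A) inferInstance inferInstance
  obtain ⟨k, γ, hγ⟩ := Algebra.FiniteType.iff_quotient_mvPolynomial''.mp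
    (inferInstance : Algebra.FiniteType R (Localization.Away a))
  refine ⟨k, γ, hγ, ?_⟩
  letI : Module (MvPolynomial (Fin n) R) M := Module.compHom M α.toRingHom
  haveI : Module.FinitePresentation (MvPolynomial (Fin n) R) M := hfp
  exact (local_iff α hα M a F hF γ hγ).mp inferInstance

/-- Concrete locality. -/
theorem of_span_concrete {R A : Type u} [CommRing R] [CommRing A] [Algebra R A]
    [Algebra.FiniteType R A] (M : Type u) [AddCommGroup M] [Module A M] {r : ℕ} (f : Fin r → A)
    (hf : Ideal.span (Set.range f) = ⊤)
    (h : ∀ i, FlatCA.RelFinitePresentation R (Localization.Away (f i))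
      (LocalizedModule (Submonoid.powers (f i)) M)) :
    FlatCA.RelFinitePresentation R A M := by
  obtain ⟨n, α, hα⟩ := Algebra.FiniteType.iff_quotient_mvPolynomial''.mp
    (inferInstance : Algebra.FiniteType R A)
  choose k γ hγ hfp using h
  exact ⟨n, α, hα, (main α hα M f hf k γ hγ).mpr hfp⟩

section LocEquiv

variable {R A A' : Type u} [CommRing R] [CommRing A] [CommRing A'] (φ : R →+* A) (ρ : A →+* A')
  (a : A) {M M' : Type u} [AddCommGroup M] [Module A M] [AddCommGroup M'] [Module A' M']
  (l : M →+ M')

/-- Elementary localization data: `A'` is `A_a` through `ρ` and `M'` is `M_a` through `l`. -/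
structure LocData : Prop where
  isLoc : letI := ρ.toAlgebra; IsLocalization.Away a A'
  smul : ∀ (x : A) (m : M), l (x • m) = ρ x • l m
  surj : ∀ m' : M', ∃ (n : ℕ) (m : M), ρ a ^ n • m' = l m
  ker : ∀ m : M, l m = 0 → ∃ n : ℕ, a ^ n • m = 0

variable {ρ a l}

theorem loc_equiv (h : LocData ρ a l) :
    RelFPHom (ρ.comp φ) M' ↔
      (letI := φ.toAlgebra
       FlatCA.RelFinitePresentation R (Localization.Away a)
        (LocalizedModule (Submonoid.powers a) M)) := by
  letI := φ.toAlgebra
  letI algA' : Algebra A A' := ρ.toAlgebra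
  haveI : IsLocalization.Away a A' := h.isLoc
  letI modAM' : Module A M' := Module.compHom M' ρ
  haveI : IsScalarTower A A' M' := IsScalarTower.of_algebraMap_smul (fun _ _ => rfl)
  let lA : M →ₗ[A] M' := { toFun := l, map_add' := l.map_add, map_smul' := h.smul }
  haveI : IsLocalizedModule (Submonoid.powers a) lA := by
    refine ⟨?_, ?_, ?_⟩
    · rintro ⟨x, n, rfl⟩
      rw [Module.End.isUnit_iff]
      have hu : IsUnit (ρ (a ^ n)) := by
        rw [map_pow]
        exact (IsLocalization.Away.algebraMap_isUnit (S := A') a).pow n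
      obtain ⟨u, hu⟩ := hu
      have : (fun m' : M' => (algebraMap A (Module.End A M') (a ^ n)) m') = fun m' => u • m' := by
        funext m'
        show ρ (a ^ n) • m' = u • m'
        rw [← hu]; rfl
      show Function.Bijective (fun m' : M' => (algebraMap A (Module.End A M') (a ^ n)) m')
      rw [this]
      exact MulAction.bijective u
    · intro y
      obtain ⟨n, m, hnm⟩ := h.surj y
      refine ⟨(m, ⟨a ^ n, n, rfl⟩), ?_⟩
      show ρ (a ^ n) • y = l m
      rw [map_pow]; exact hnm
    · intro x₁ x₂ hx
      have h0 : l (x₁ - x₂) = 0 := by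
        rw [map_sub]; exact sub_eq_zero.mpr hx
      obtain ⟨n, hn⟩ := h.ker _ h0
      refine ⟨⟨a ^ n, n, rfl⟩, ?_⟩
      show a ^ n • x₁ = a ^ n • x₂
      rw [smul_sub] at hn
      exact sub_eq_zero.mp hn
  let eA : Localization.Away a ≃ₐ[A] A' := IsLocalization.algEquiv (Submonoid.powers a) _ _
  let eM : LocalizedModule (Submonoid.powers a) M ≃ₗ[A] M' :=
    IsLocalizedModule.iso (Submonoid.powers a) lA
  have hM : ∀ (x : Localization.Away a) (m : LocalizedModule (Submonoid.powers a) M),
      eM (x • m) = eA x • eM m := by
    letI modLM' : Module (Localization.Away a) M' :=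
      Module.compHom M' (eA : Localization.Away a →+* A')
    haveI : IsScalarTower A (Localization.Away a) M' :=
      IsScalarTower.of_algebraMap_smul (fun x m => by
        show eA (algebraMap A _ x) • m = ρ x • m
        rw [eA.commutes]; rfl)
    let eM' := LinearMap.extendScalarsOfIsLocalization (Submonoid.powers a)
      (Localization.Away a) eM.toLinearMap
    intro x m
    exact eM'.map_smul x m
  have hcomm : ∀ r : R, eA (algebraMap R (Localization.Away a) r) = (ρ.comp φ) r := by
    intro r
    rw [IsScalarTower.algebraMap_apply R A (Localization.Away a), eA.commutes]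
    rfl
  rw [← relFPHom_algebraMap]
  constructor
  · refine transport (ρ.comp φ) (algebraMap R (Localization.Away a)) (RingEquiv.refl R)
      eA.symm.toRingEquiv ?_ eM.symm.toAddEquiv ?_
    · intro r
      show eA.symm ((ρ.comp φ) r) = algebraMap R (Localization.Away a) r
      rw [← hcomm, AlgEquiv.symm_apply_apply]
    · intro x m'
      show eM.symm (x • m') = eA.symm x • eM.symm m'
      apply eM.injective
      rw [hM, LinearEquiv.apply_symm_apply, AlgEquiv.apply_symm_apply,
        LinearEquiv.apply_symm_apply]
  · exact transport (algebraMap R (Localization.Away a)) (ρ.comp φ) (RingEquiv.refl R)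
      eA.toRingEquiv hcomm eM.toAddEquiv hM

/-- Localization in `A` preserves relative finite presentation. -/
theorem localization (h : LocData ρ a l) (hM : RelFPHom φ M) : RelFPHom (ρ.comp φ) M' := by
  rw [loc_equiv φ h]
  letI := φ.toAlgebra
  exact loc_concrete M hM a

end LocEquiv

/-- Locality in `A`. -/
theorem of_span {R A : Type u} [CommRing R] [CommRing A] (φ : R →+* A) (hft : φ.FiniteType)
    (M : Type u) [AddCommGroup M] [Module A M] {ι : Type*} [Finite ι] (a : ι → A)
    (ha : Ideal.span (Set.range a) = ⊤)
    (A' : ι → Type u) [∀ i, CommRing (A' i)] (ρ : ∀ i, A →+* A' i)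
    (M' : ι → Type u) [∀ i, AddCommGroup (M' i)] [∀ i, Module (A' i) (M' i)]
    (l : ∀ i, M →+ M' i) (hl : ∀ i, LocData (ρ i) (a i) (l i))
    (h : ∀ i, RelFPHom ((ρ i).comp φ) (M' i)) : RelFPHom φ M := by
  letI := φ.toAlgebra
  haveI : Algebra.FiniteType R A := hft
  obtain ⟨r, ⟨e⟩⟩ := Finite.exists_equiv_fin ι
  refine of_span_concrete M (fun j => a (e.symm j)) ?_ (fun j => ?_)
  · rw [← ha]
    congr 1
    ext x
    constructor
    · rintro ⟨j, rfl⟩; exact ⟨_, rfl⟩
    · rintro ⟨i, rfl⟩; exact ⟨e i, by simp⟩
  · exact (loc_equiv φ (hl (e.symm j))).mp (h (e.symm j))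

/-- Change of base along a finitely presented ring map. -/
theorem base_iff {R R' A : Type u} [CommRing R] [CommRing R'] [CommRing A] (lam : R →+* R')
    (ψ : R' →+* A) (hfp : lam.FinitePresentation) (M : Type u) [AddCommGroup M] [Module A M] :
    RelFPHom (ψ.comp lam) M ↔ RelFPHom ψ M := by
  letI := lam.toAlgebra
  letI := ψ.toAlgebra
  letI : Algebra R A := (ψ.comp lam).toAlgebra
  haveI : IsScalarTower R R' A := IsScalarTower.of_algebraMap_eq (fun _ => rfl)
  haveI : Algebra.FinitePresentation R R' := hfp
  constructor
  · rintro ⟨k, β, hβ, hfpM⟩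
    let α' : MvPolynomial (Fin k) R' →ₐ[R'] A := MvPolynomial.aeval (fun i => β (X i))
    have key : ∀ p : MvPolynomial (Fin k) R, α' (MvPolynomial.map lam p) = β p := by
      intro p
      have : (α'.toRingHom.comp (MvPolynomial.map lam)) = β.toRingHom := by
        apply MvPolynomial.ringHom_ext
        · intro r
          show α' (MvPolynomial.map lam (C r)) = β (C r)
          rw [MvPolynomial.map_C]
          have h2 : α' (C (lam r)) = ψ (lam r) := by
            simp only [α', MvPolynomial.aeval_C]; rfl
          have h3 : β (C r) = ψ (lam r) := by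
            rw [← MvPolynomial.algebraMap_eq, AlgHom.commutes]; rfl
          rw [h2, h3]
        · intro i
          show α' (MvPolynomial.map lam (X i)) = β (X i)
          rw [MvPolynomial.map_X]
          simp [α']
      exact RingHom.congr_fun this p
    have hα' : Function.Surjective (α'.restrictScalars R) := by
      intro x
      obtain ⟨p, rfl⟩ := hβ x
      exact ⟨MvPolynomial.map lam p, key p⟩
    haveI : Algebra.FinitePresentation R (MvPolynomial (Fin k) R') :=
      Algebra.FinitePresentation.trans R R' _
    refine ⟨k, α', hα', ?_⟩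
    exact (fp_via_fp_algebra_iff (α'.restrictScalars R) hα' β hβ).mpr hfpM
  · rintro ⟨n, α', hα', hfpM⟩
    haveI : Algebra.FiniteType R' A := Algebra.FiniteType.of_surjective α' hα'
    haveI : Algebra.FiniteType R R' := inferInstance
    haveI : Algebra.FiniteType R A := Algebra.FiniteType.trans (S := R') inferInstance inferInstance
    obtain ⟨k, β, hβ⟩ := Algebra.FiniteType.iff_quotient_mvPolynomial''.mp
      (inferInstance : Algebra.FiniteType R A)
    haveI : Algebra.FinitePresentation R (MvPolynomial (Fin n) R') :=
      Algebra.FinitePresentation.trans R R' _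
    refine ⟨k, β, hβ, ?_⟩
    exact (fp_via_fp_algebra_iff (α'.restrictScalars R) hα' β hβ).mp hfpM

end RelFPKit
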