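import Mathlib
import Groth.Prelude.Def_Flatn
import Groth.Agent.Lib.RelFPKit_helper9
import Groth.Agent.Lib.QCohLoc_helper4

/-!
# Relative finite presentation of quasi-coherent modules: all affine pairs
-/

universe u

open CategoryTheory AlgebraicGeometry Opposite TopologicalSpace RelFPKit

namespace RelFPAff

variable {X S : Scheme.{u}} (f : X ⟶ S) (F : X.Modules)

/-- The property for a pair of opens. -/
def P (U : X.Opens) (V : S.Opens) (h : U ≤ f ⁻¹ᵁ V) : Prop :=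
  RelFPHom (f.appLE V U h).hom Γ(F, U)

theorem relFPOn_iff (U : X.affineOpens) (V : S.affineOpens)
    (h : (U : X.Opens) ≤ f ⁻¹ᵁ (V : S.Opens)) : Flatn.RelFPOn f F U V h ↔ P f F U V h := Iff.rfl

theorem P_congr {U U' : X.Opens} {V V' : S.Opens} (eU : U = U') (eV : V = V')
    (h : U ≤ f ⁻¹ᵁ V) (h' : U' ≤ f ⁻¹ᵁ V') : P f F U V h ↔ P f F U' V' h' := by
  subst eU eV; rfl

variable {F}

theorem locData [F.IsQuasicoherent] {U V : X.Opens} (hU : IsAffineOpen U) (a : Γ(X, U))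
    (i : V ⟶ U) (e : V = X.basicOpen a) :
    LocData (X.presheaf.map i.op).hom a (F.presheaf.map i.op).hom := by
  subst e
  have hi : i = homOfLE (X.basicOpen_le a) := Subsingleton.elim _ _
  subst hi
  refine ⟨hU.isLocalization_basicOpen a, fun x m => Scheme.Modules.map_smul F _ x m, ?_, ?_⟩
  · intro s
    obtain ⟨n, t, ht⟩ := Groth.Agent.Lib.QCohLoc_helper4.exists_res_eq_pow_smul F hU a s
    exact ⟨n, t, ht.symm⟩
  · intro t ht
    exact Groth.Agent.Lib.QCohLoc_helper4.exists_pow_smul_eq_zero F hU a t ht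

variable {f}

/-- (a) shrink `U` to a basic open. -/
theorem P_basicOpen [F.IsQuasicoherent] {U : X.Opens} (hU : IsAffineOpen U) {V : S.Opens}
    (h : U ≤ f ⁻¹ᵁ V) (a : Γ(X, U)) {U' : X.Opens} (e : U' = X.basicOpen a)
    (h' : U' ≤ f ⁻¹ᵁ V) (hP : P f F U V h) : P f F U' V h' := by
  have hle : U' ≤ U := e ▸ X.basicOpen_le a
  have key := localization (f.appLE V U h).hom (locData (F := F) hU a (homOfLE hle) e) hP
  have : (f.appLE V U' h').hom =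
      (X.presheaf.map (homOfLE hle).op).hom.comp (f.appLE V U h).hom := by
    rw [← CommRingCat.hom_comp, Scheme.Hom.appLE_map]
  unfold P
  rw [this]
  exact key

/-- (b)/(c) change `V` to a basic open. -/
theorem P_base_iff {U : X.Opens} {V : S.Opens} (hV : IsAffineOpen V)
    (h : U ≤ f ⁻¹ᵁ V) (r : Γ(S, V)) {V' : S.Opens} (e : V' = S.basicOpen r)
    (h' : U ≤ f ⁻¹ᵁ V') : P f F U V h ↔ P f F U V' h' := by
  have hle : V' ≤ V := e ▸ S.basicOpen_le r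
  have hfp : (S.presheaf.map (homOfLE hle).op).hom.FinitePresentation := by
    letI := (S.presheaf.map (homOfLE hle).op).hom.toAlgebra
    haveI : IsLocalization.Away r Γ(S, V') := hV.isLocalization_of_eq_basicOpen r _ e
    exact IsLocalization.Away.finitePresentation r
  have : (f.appLE V U h).hom =
      (f.appLE V' U h').hom.comp (S.presheaf.map (homOfLE hle).op).hom := by
    rw [← CommRingCat.hom_comp, Scheme.Hom.map_appLE]
  unfold P
  rw [this]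
  exact base_iff _ _ hfp _

/-- (d) locality on `U`. -/
theorem P_of_span [F.IsQuasicoherent] [LocallyOfFiniteType f] {U : X.Opens} (hU : IsAffineOpen U)
    {V : S.Opens} (hV : IsAffineOpen V) (h : U ≤ f ⁻¹ᵁ V) {ι : Type*} [Finite ι]
    (a : ι → Γ(X, U)) (ha : Ideal.span (Set.range a) = ⊤)
    (hP : ∀ i, P f F (X.basicOpen (a i)) V ((X.basicOpen_le (a i)).trans h)) : P f F U V h := by
  refine of_span (f.appLE V U h).hom (f.finiteType_appLE hV hU h) Γ(F, U) a ha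
    (fun i => Γ(X, X.basicOpen (a i)))
    (fun i => (X.presheaf.map (homOfLE (X.basicOpen_le (a i))).op).hom)
    (fun i => Γ(F, X.basicOpen (a i)))
    (fun i => (F.presheaf.map (homOfLE (X.basicOpen_le (a i))).op).hom)
    (fun i => locData (F := F) hU (a i) _ rfl) (fun i => ?_)
  have : (f.appLE V (X.basicOpen (a i)) ((X.basicOpen_le (a i)).trans h)).hom =
      (X.presheaf.map (homOfLE (X.basicOpen_le (a i))).op).hom.comp (f.appLE V U h).hom := by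
    rw [← CommRingCat.hom_comp, Scheme.Hom.appLE_map]
  have h1 := hP i
  unfold P at h1
  rw [this] at h1
  exact h1

variable (f F)

/-- Local step: every point of `U` has a basic open neighbourhood in `U` with the property. -/
theorem exists_basicOpen_P [F.IsQuasicoherent] (hF : Flatn.IsRelFP f F) {U : X.Opens}
    (hU : IsAffineOpen U) {V : S.Opens} (hV : IsAffineOpen V) (h : U ≤ f ⁻¹ᵁ V) (x : X)
    (hx : x ∈ U) :
    ∃ a : Γ(X, U), x ∈ X.basicOpen a ∧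
      P f F (X.basicOpen a) V ((X.basicOpen_le a).trans h) := by
  obtain ⟨𝒱, h𝒱, h𝒰⟩ := hF
  have hy : f.base x ∈ V := h hx
  -- choose `V₁ ∈ 𝒱` containing `f x`
  have hy1 : f.base x ∈ (⨆ V ∈ 𝒱, (V : S.Opens)) := by rw [h𝒱]; trivial
  simp only [Opens.mem_iSup] at hy1
  obtain ⟨V₁, hV₁m, hyV₁⟩ := hy1
  obtain ⟨r₀, r₁, hr, hyr⟩ := exists_basicOpen_le_affine_inter hV V₁.2 (f.base x) ⟨hy, hyV₁⟩
  obtain ⟨𝒰, h𝒰cov, h𝒰P⟩ := h𝒰 V₁ hV₁m
  have hx1 : x ∈ (⨆ U ∈ 𝒰, (U : X.Opens)) := by rw [h𝒰cov]; exact hyV₁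
  simp only [Opens.mem_iSup] at hx1
  obtain ⟨U₁, hU₁m, hxU₁⟩ := hx1
  have hU₁le : (U₁ : X.Opens) ≤ f ⁻¹ᵁ (V₁ : S.Opens) := by
    rw [← h𝒰cov]; exact le_iSup₂ (f := fun (U : X.affineOpens) (_ : U ∈ 𝒰) => (U : X.Opens)) U₁ hU₁m
  have hP₁ : P f F U₁ V₁ hU₁le := h𝒰P U₁ hU₁m hU₁le
  -- shrink
  set b₁ := (f.appLE V₁ U₁ hU₁le).hom r₁ with hb₁
  set b₀ := (f.appLE V U h).hom r₀ with hb₀
  have eU₂ : X.basicOpen b₁ = (U₁ : X.Opens) ⊓ f ⁻¹ᵁ (S.basicOpen r₁) :=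
    Scheme.basicOpen_appLE f U₁ V₁ hU₁le r₁
  have eU₀ : X.basicOpen b₀ = U ⊓ f ⁻¹ᵁ (S.basicOpen r₀) := Scheme.basicOpen_appLE f U V h r₀
  have hxU₂ : x ∈ X.basicOpen b₁ := by
    rw [eU₂]; exact ⟨hxU₁, hr ▸ hyr⟩
  have hxU₀ : x ∈ X.basicOpen b₀ := by
    rw [eU₀]; exact ⟨hx, hyr⟩
  have hP₂ : P f F (X.basicOpen b₁) V₁ ((X.basicOpen_le b₁).trans hU₁le) :=
    P_basicOpen U₁.2 hU₁le b₁ rfl _ hP₁
  obtain ⟨a₁, a₂, ha, hxa⟩ := exists_basicOpen_le_affine_inter (hU.basicOpen b₀)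
    (U₁.2.basicOpen b₁) x ⟨hxU₀, hxU₂⟩
  have hle₂ : X.basicOpen a₂ ≤ f ⁻¹ᵁ (V₁ : S.Opens) :=
    (X.basicOpen_le a₂).trans ((X.basicOpen_le b₁).trans hU₁le)
  have hP₃ : P f F (X.basicOpen a₂) V₁ hle₂ :=
    P_basicOpen (U₁.2.basicOpen b₁) _ a₂ rfl _ hP₂
  have hle₃ : X.basicOpen a₂ ≤ f ⁻¹ᵁ (S.basicOpen r₁) :=
    (X.basicOpen_le a₂).trans (eU₂.le.trans inf_le_right)
  have hP₄ : P f F (X.basicOpen a₂) (S.basicOpen r₁) hle₃ :=
    (P_base_iff V₁.2 hle₂ r₁ rfl hle₃).mp hP₃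
  have hle₄ : X.basicOpen a₁ ≤ f ⁻¹ᵁ (S.basicOpen r₀) :=
    (X.basicOpen_le a₁).trans (eU₀.le.trans inf_le_right)
  have hP₅ : P f F (X.basicOpen a₁) (S.basicOpen r₀) hle₄ :=
    (P_congr f F ha.symm hr.symm _ _).mp hP₄
  have hle₅ : X.basicOpen a₁ ≤ f ⁻¹ᵁ V :=
    (X.basicOpen_le a₁).trans ((X.basicOpen_le b₀).trans h)
  have hP₆ : P f F (X.basicOpen a₁) V hle₅ :=
    (P_base_iff hV hle₅ r₀ rfl hle₄).mpr hP₅
  obtain ⟨a₀, ha₀⟩ := hU.basicOpen_basicOpen_is_basicOpen b₀ a₁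
  refine ⟨a₀, ha₀ ▸ hxa, ?_⟩
  exact (P_congr f F ha₀.symm rfl _ _).mp hP₆

/-- All affine pairs. -/
theorem all_pairs [F.IsQuasicoherent] [LocallyOfFiniteType f] (hF : Flatn.IsRelFP f F)
    {U : X.Opens} (hU : IsAffineOpen U) {V : S.Opens} (hV : IsAffineOpen V)
    (h : U ≤ f ⁻¹ᵁ V) : P f F U V h := by
  choose a hxa hPa using fun x : U => exists_basicOpen_P f F hF hU hV h x.1 x.2
  have hspan : Ideal.span (Set.range a) = ⊤ := by
    rw [← hU.self_le_iSup_basicOpen_iff]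
    intro x hx
    simp only [Opens.mem_iSup]
    exact ⟨⟨a ⟨x, hx⟩, ⟨⟨x, hx⟩, rfl⟩⟩, hxa ⟨x, hx⟩⟩
  obtain ⟨t, ht₁, ht₂⟩ := (Ideal.span_eq_top_iff_finite _).mp hspan
  refine P_of_span hU hV h (ι := t) (fun b => b.1) (by
    have : (Set.range fun b : t => (b.1 : Γ(X, U))) = ↑t := Subtype.range_coe
    rw [this]; exact ht₂) ?_
  rintro ⟨b, hb⟩
  obtain ⟨x, rfl⟩ := ht₁ hb
  exact hPa x

/-- The converse: the property on all affine pairs gives relative finite presentation. -/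
theorem isRelFP_of_all_pairs
    (H : ∀ (U : X.affineOpens) (V : S.affineOpens) (h : (U : X.Opens) ≤ f ⁻¹ᵁ (V : S.Opens)),
      Flatn.RelFPOn f F U V h) : Flatn.IsRelFP f F := by
  refine ⟨Set.univ, ?_, fun V _ => ⟨{U | (U : X.Opens) ≤ f ⁻¹ᵁ (V : S.Opens)}, ?_, ?_⟩⟩
  · rw [eq_top_iff]
    intro y _
    obtain ⟨W, hW, hyW, -⟩ := (Opens.isBasis_iff_nbhd.mp S.isBasis_affineOpens)
      (show y ∈ (⊤ : S.Opens) from trivial)
    simp only [Opens.mem_iSup]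
    exact ⟨⟨W, hW⟩, Set.mem_univ _, hyW⟩
  · apply le_antisymm
    · exact iSup₂_le fun U hU => hU
    · intro x hx
      obtain ⟨W, hW, hxW, hWle⟩ := (Opens.isBasis_iff_nbhd.mp X.isBasis_affineOpens) hx
      simp only [Opens.mem_iSup]
      exact ⟨⟨W, hW⟩, hWle, hxW⟩
  · intro U _ h
    exact H U V h

end RelFPAff
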