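import Mathlib
import Groth.Agent.Lib.QCohExact_helper9
import Groth.Agent.Lib.RelFPAff_helper9

/-!
# Finite type quasi-coherent modules have finitely generated sections over affine opens
-/

universe u

open CategoryTheory CategoryTheory.Limits AlgebraicGeometry Opposite TopologicalSpace

namespace QCohFT

variable {Y : Scheme.{u}}

/-- Sheaves of modules on `Y` (as `SheafOfModules`). -/
abbrev 𝒞 (Y : Scheme.{u}) := SheafOfModules.{u} Y.ringCatSheaf

/-- The unit. -/
noncomputable abbrev unitS (Y : Scheme.{u}) : 𝒞 Y := SheafOfModules.unit Y.ringCatSheaf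

/-- The free module. -/
noncomputable abbrev freeS (Y : Scheme.{u}) (I : Type u) : 𝒞 Y := SheafOfModules.free I

/-- Sections map as an additive hom into linear maps. -/
noncomputable def secHom (M N : 𝒞 Y) (U : Y.Opens) :
    (M ⟶ N) →+ (M.val.obj (op U) →ₗ[(Y.ringCatSheaf.obj.obj (op U) : Type u)] N.val.obj (op U)) where
  toFun φ := (φ.val.app (op U)).hom
  map_zero' := rfl
  map_add' _ _ := rfl

theorem secHom_comp {M N P : 𝒞 Y} (φ : M ⟶ N) (ψ : N ⟶ P) (U : Y.Opens) (x : M.val.obj (op U)) :
    secHom M P U (φ ≫ ψ) x = secHom N P U ψ (secHom M N U φ x) := rfl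

theorem secHom_id {M : 𝒞 Y} (U : Y.Opens) (x : M.val.obj (op U)) :
    secHom M M U (𝟙 M) x = x := rfl

section decomposition

variable {I : Type u} [Fintype I] [DecidableEq I]

/-- Projections from the free module. -/
noncomputable def proj (i : I) : freeS Y I ⟶ unitS Y :=
  Sigma.desc (fun j => if j = i then 𝟙 _ else 0)

omit [Fintype I] in
theorem ι_proj (i j : I) :
    (SheafOfModules.ιFree j : unitS Y ⟶ freeS Y I) ≫ proj i = if j = i then 𝟙 _ else 0 := by
  unfold proj SheafOfModules.ιFree
  exact Sigma.ι_desc _ j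

theorem id_eq_sum :
    𝟙 (freeS Y I) = ∑ i, proj i ≫ (SheafOfModules.ιFree i : unitS Y ⟶ freeS Y I) := by
  apply Sigma.hom_ext
  intro j
  have hj : Sigma.ι (fun _ : I => unitS Y) j = (SheafOfModules.ιFree j : unitS Y ⟶ freeS Y I) := rfl
  refine (Category.comp_id _).trans ?_
  refine Eq.trans ?_ (Preadditive.comp_sum _ _ _).symm
  have h1 : ∀ i ∈ (Finset.univ : Finset I),
      Sigma.ι (fun _ : I => unitS Y) j ≫ proj i ≫ (SheafOfModules.ιFree i : unitS Y ⟶ freeS Y I) =
        if i = j then (SheafOfModules.ιFree j : unitS Y ⟶ freeS Y I) else 0 := by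
    intro i _
    refine (Category.assoc _ _ _).symm.trans ?_
    refine (congrArg (· ≫ (SheafOfModules.ιFree i : unitS Y ⟶ freeS Y I)) (ι_proj i j)).trans ?_
    by_cases h : j = i
    · subst h; rw [if_pos rfl, if_pos rfl]; exact Category.id_comp _
    · rw [if_neg h, if_neg (Ne.symm h)]; exact zero_comp
  have h2 : ∑ i : I, (if i = j then (SheafOfModules.ιFree j : unitS Y ⟶ freeS Y I) else 0) =
      SheafOfModules.ιFree j := by
    simp
  exact hj.trans (h2.symm.trans (Finset.sum_congr rfl h1).symm)

end decomposition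

theorem mem_of_eq {R M : Type*} [Semiring R] [AddCommMonoid M] [Module R M] {S : Submodule R M}
    {x y : M} (h : x = y) (hy : y ∈ S) : x ∈ S := h ▸ hy

/-- The image of a map from a finite free module is contained in the span of the images of the
basis sections. -/
theorem range_le_span {I : Type u} [Finite I] {N : 𝒞 Y} (π : freeS Y I ⟶ N) (U : Y.Opens)
    (x : (freeS Y I).val.obj (op U)) :
    secHom _ _ U π x ∈ Submodule.span (Y.ringCatSheaf.obj.obj (op U) : Type u)
      (Set.range fun i : I => secHom _ _ U (SheafOfModules.ιFree i ≫ π)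
        (1 : (Y.ringCatSheaf.obj.obj (op U) : Type u))) := by
  classical
  haveI := Fintype.ofFinite I
  have hx : secHom _ _ U π x = ∑ i : I, secHom _ _ U (SheafOfModules.ιFree i ≫ π)
      (secHom _ _ U (proj i) x) := by
    have h0 : secHom _ _ U π x = secHom _ _ U (𝟙 (freeS Y I) ≫ π) x := rfl
    rw [h0, id_eq_sum, Preadditive.sum_comp, map_sum, LinearMap.sum_apply]
    refine Finset.sum_congr rfl (fun i _ => ?_)
    have h2 : (proj i ≫ (SheafOfModules.ιFree i : unitS Y ⟶ freeS Y I)) ≫ π =
        proj i ≫ (SheafOfModules.ιFree i ≫ π) := Category.assoc _ _ _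
    rw [h2]
    rfl
  refine mem_of_eq hx (Submodule.sum_mem _ (fun i _ => ?_))
  set a := secHom _ _ U (proj i) x with ha
  let r : (Y.ringCatSheaf.obj.obj (op U) : Type u) := a
  have h1 : a = r • (1 : (Y.ringCatSheaf.obj.obj (op U) : Type u)) := by
    show r = r * 1
    exact (mul_one r).symm
  have key : secHom _ _ U (SheafOfModules.ιFree i ≫ π) a =
      r • secHom _ _ U (SheafOfModules.ιFree i ≫ π)
        (1 : (Y.ringCatSheaf.obj.obj (op U) : Type u)) :=
    (congrArg _ h1).trans (LinearMap.map_smul _ r _)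
  exact mem_of_eq key (Submodule.smul_mem _ r (Submodule.subset_span ⟨i, rfl⟩))

set_option backward.isDefEq.respectTransparency false in
/-- On an affine scheme, a quasi-coherent module with finitely many generating sections has
finitely generated global sections. -/
theorem finite_of_generatingSections [IsAffine Y] (N : Y.Modules) [N.IsQuasicoherent]
    (G : SheafOfModules.GeneratingSections (R := Y.ringCatSheaf) N) [Finite G.I] :
    Module.Finite Γ(Y, ⊤) Γ(N, ⊤) := by
  let p : (freeS Y G.I : Y.Modules) ⟶ N := G.π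
  haveI : Epi p := G.epi
  haveI : (freeS Y G.I : Y.Modules).IsQuasicoherent :=
    inferInstanceAs (SheafOfModules.free (R := Y.ringCatSheaf) G.I).IsQuasicoherent
  have hsurj : Function.Surjective (Scheme.Modules.Hom.app p ⊤) :=
    QCohExact.app_surjective_of_epi p (isAffineOpen_top Y)
  refine ⟨⟨(Set.finite_range fun i : G.I => secHom _ _ ⊤ (SheafOfModules.ιFree i ≫ G.π)
    (1 : (Y.ringCatSheaf.obj.obj (op ⊤) : Type u))).toFinset, ?_⟩⟩
  rw [Set.Finite.coe_toFinset, eq_top_iff]
  intro m _
  obtain ⟨x, rfl⟩ := hsurj m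
  exact range_le_span G.π ⊤ x

open Scheme.Modules in
set_option backward.isDefEq.respectTransparency false in
/-- Restricting local generators to a smaller open. -/
noncomputable def generatingSectionsRestrict {X : Scheme.{u}} (M : X.Modules) (W V : X.Opens)
    (hVW : V ≤ W) (G : (M.over W).GeneratingSections) :
    SheafOfModules.GeneratingSections (R := (V : Scheme.{u}).ringCatSheaf) (M.restrict V.ι) := by
  let u := X.homOfLE hVW
  have : PreservesColimitsOfSize.{u, u} (restrictFunctor u) := inferInstance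
  let F := (overEquiv W).functor ⋙ restrictFunctor u
  let iso : SheafOfModules.overFunctor X.ringCatSheaf _ ⋙ F ≅ restrictFunctor
      (Scheme.Opens.ι V) := (Functor.associator _ _ _).symm ≪≫
        Functor.isoWhiskerRight (Scheme.Modules.overFunctorEquiv _) _ ≪≫
        (restrictFunctorComp _ _).symm ≪≫ (restrictFunctorCongr (by simp [u]))
  exact (G.map F (Scheme.Modules.restrictUnitIso _).symm).ofEpi (iso.app M).hom

theorem generatingSectionsRestrict_I {X : Scheme.{u}} (M : X.Modules) (W V : X.Opens)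
    (hVW : V ≤ W) (G : (M.over W).GeneratingSections) :
    (generatingSectionsRestrict M W V hVW G).I = G.I := rfl

theorem finite_of_smul_eq {R R' M : Type*} [CommRing R] [CommRing R'] [AddCommGroup M]
    [Module R M] [Module R' M] (e : R →+* R') (hsm : ∀ (r : R) (x : M), r • x = e r • x)
    [Module.Finite R M] : Module.Finite R' M := by
  letI := e.toAlgebra
  haveI : IsScalarTower R R' M := IsScalarTower.of_algebraMap_smul (fun r x => (hsm r x).symm)
  exact Module.Finite.of_restrictScalars_finite R R' M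

theorem finite_congr {X : Scheme.{u}} (F : X.Modules) {V V' : X.Opens} (e : V = V')
    (h : Module.Finite Γ(X, V) Γ(F, V)) : Module.Finite Γ(X, V') Γ(F, V') := by
  subst e; exact h

/-- If the restriction of `F` to an affine open `V` has finitely many generating sections then
`Γ(F, V)` is a finite module. -/
theorem finite_of_generatingSections_restrict {X : Scheme.{u}} (F : X.Modules) [F.IsQuasicoherent]
    {V : X.Opens} (hV : IsAffineOpen V)
    (G : SheafOfModules.GeneratingSections (R := (V : Scheme.{u}).ringCatSheaf) (F.restrict V.ι))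
    [Finite G.I] : Module.Finite Γ(X, V) Γ(F, V) := by
  haveI : IsAffine (V : Scheme.{u}) := hV
  haveI h1 : Module.Finite Γ((V : Scheme.{u}), ⊤) Γ(F.restrict V.ι, ⊤) :=
    finite_of_generatingSections (F.restrict V.ι) G
  have h2 : Module.Finite Γ(X, V.ι ''ᵁ ⊤) Γ(F, V.ι ''ᵁ ⊤) :=
    @finite_of_smul_eq Γ((V : Scheme.{u}), ⊤) Γ(X, V.ι ''ᵁ ⊤) Γ(F.restrict V.ι, ⊤) _ _ _
      inferInstance (inferInstance : Module Γ(X, V.ι ''ᵁ ⊤) Γ(F, V.ι ''ᵁ ⊤))
      (V.ι.appIso ⊤).inv.hom (fun _ _ => rfl) h1
  exact finite_congr F V.ι_image_top h2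

/-- `LocData` gives a localized module. -/
theorem isLocalizedModule_of_locData {A A' : Type u} [CommRing A] [CommRing A'] {ρ : A →+* A'}
    {a : A} {M M' : Type u} [AddCommGroup M] [Module A M] [AddCommGroup M'] [Module A' M']
    {l : M →+ M'} (h : RelFPKit.LocData ρ a l) :
    letI := ρ.toAlgebra
    letI : Module A M' := Module.compHom M' ρ
    IsLocalizedModule (Submonoid.powers a)
      ({ toFun := l, map_add' := l.map_add, map_smul' := h.smul } : M →ₗ[A] M') := by
  letI algA' : Algebra A A' := ρ.toAlgebra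
  haveI : IsLocalization.Away a A' := h.isLoc
  letI modAM' : Module A M' := Module.compHom M' ρ
  refine ⟨?_, ?_, ?_⟩
  · rintro ⟨x, n, rfl⟩
    rw [Module.End.isUnit_iff]
    have hu : IsUnit (ρ (a ^ n)) := by
      rw [map_pow]
      exact (IsLocalization.Away.algebraMap_isUnit (S := A') a).pow n
    obtain ⟨u, hu⟩ := hu
    have : (fun m' : M' => (algebraMap A (Module.End A M') (a ^ n)) m') = fun m' => u • m' := by
      funext m'
      show ρ (a ^ n) • m' = u • m'
      rw [← hu]; rfl
    show Function.Bijective (fun m' : M' => (algebraMap A (Module.End A M') (a ^ n)) m')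
    rw [this]
    exact MulAction.bijective u
  · intro y
    obtain ⟨n, m, hnm⟩ := h.surj y
    refine ⟨(m, ⟨a ^ n, n, rfl⟩), ?_⟩
    show ρ (a ^ n) • y = l m
    rw [map_pow]; exact hnm
  · intro x₁ x₂ hx
    have h0 : l (x₁ - x₂) = 0 := by
      rw [map_sub]; exact sub_eq_zero.mpr hx
    obtain ⟨n, hn⟩ := h.ker _ h0
    refine ⟨⟨a ^ n, n, rfl⟩, ?_⟩
    show a ^ n • x₁ = a ^ n • x₂
    rw [smul_sub] at hn
    exact sub_eq_zero.mp hn

/-- A quasi-coherent module of finite type has finitely generated sections over affine opens. -/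
theorem finite_of_isFiniteType {X : Scheme.{u}} (F : X.Modules) [F.IsQuasicoherent]
    [hFT : SheafOfModules.IsFiniteType (R := X.ringCatSheaf) F] {U : X.Opens}
    (hU : IsAffineOpen U) : Module.Finite Γ(X, U) Γ(F, U) := by
  obtain ⟨σ, hσ⟩ := SheafOfModules.IsFiniteType.exists_localGeneratorsData (R := X.ringCatSheaf) F
  have hcov := σ.coversTop
  rw [Opens.coversTop_iff] at hcov
  -- local step
  have step : ∀ x ∈ U, ∃ a : Γ(X, U), x ∈ X.basicOpen a ∧
      Module.Finite Γ(X, X.basicOpen a) Γ(F, X.basicOpen a) := by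
    intro x hx
    have hx' : x ∈ (⨆ i, σ.X i : X.Opens) := by rw [hcov]; trivial
    simp only [Opens.mem_iSup] at hx'
    obtain ⟨i, hxi⟩ := hx'
    obtain ⟨a, ha, hxa⟩ := hU.exists_basicOpen_le (V := U ⊓ σ.X i) ⟨x, ⟨hx, hxi⟩⟩ hx
    refine ⟨a, hxa, ?_⟩
    haveI : Finite (generatingSectionsRestrict F (σ.X i) (X.basicOpen a) (ha.trans inf_le_right)
        (σ.generators i)).I := by
      rw [generatingSectionsRestrict_I]
      exact (hσ.isFiniteType i).finite
    exact finite_of_generatingSections_restrict F (hU.basicOpen a)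
      (generatingSectionsRestrict F (σ.X i) (X.basicOpen a) (ha.trans inf_le_right)
        (σ.generators i))
  -- assemble
  let t : Set Γ(X, U) := {a | Module.Finite Γ(X, X.basicOpen a) Γ(F, X.basicOpen a)}
  have ht : Ideal.span t = ⊤ := by
    rw [← hU.self_le_iSup_basicOpen_iff]
    intro x hx
    obtain ⟨a, hxa, hfin⟩ := step x hx
    simp only [Opens.mem_iSup]
    exact ⟨⟨a, hfin⟩, hxa⟩
  letI : ∀ g : t, Algebra Γ(X, U) Γ(X, X.basicOpen g.1) := fun g =>
    (X.presheaf.map (homOfLE (X.basicOpen_le g.1)).op).hom.toAlgebra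
  letI : ∀ g : t, Module Γ(X, U) Γ(F, X.basicOpen g.1) := fun g =>
    Module.compHom _ (X.presheaf.map (homOfLE (X.basicOpen_le g.1)).op).hom
  haveI : ∀ g : t, IsScalarTower Γ(X, U) Γ(X, X.basicOpen g.1) Γ(F, X.basicOpen g.1) := fun g =>
    IsScalarTower.of_algebraMap_smul (fun _ _ => rfl)
  haveI : ∀ g : t, IsLocalization.Away g.1 Γ(X, X.basicOpen g.1) := fun g =>
    hU.isLocalization_basicOpen g.1
  have hld : ∀ g : t, RelFPKit.LocData (X.presheaf.map (homOfLE (X.basicOpen_le g.1)).op).hom g.1
      (F.presheaf.map (homOfLE (X.basicOpen_le g.1)).op).hom := fun g =>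
    RelFPAff.locData (F := F) hU g.1 _ rfl
  let f : ∀ g : t, Γ(F, U) →ₗ[Γ(X, U)] Γ(F, X.basicOpen g.1) := fun g =>
    { toFun := (F.presheaf.map (homOfLE (X.basicOpen_le g.1)).op).hom
      map_add' := map_add _
      map_smul' := (hld g).smul }
  haveI : ∀ g : t, IsLocalizedModule.Away g.1 (f g) := fun g =>
    isLocalizedModule_of_locData (hld g)
  exact Module.Finite.of_localizationSpan' t ht f (fun g => g.2)

end QCohFT
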