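import Mathlib
import Groth.Agent.Lib.QCohFT_helper9
import Groth.Agent.Lib.QCohLoc_helper4

/-!
# A quasi-coherent module with finitely presented sections over an affine open cover is
of finite presentation
-/

universe u

open CategoryTheory CategoryTheory.Limits AlgebraicGeometry Opposite TopologicalSpace Scheme.Modules
open Groth.Agent.Lib.QCohLoc_helper4

namespace QCohFP

/-- A finite presentation of the tilde of a finitely presented module. -/
theorem exists_finite_presentation_tilde {R : CommRingCat.{u}} (N : ModuleCat.{u} R)
    [Module.FinitePresentation R N] :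
    ∃ P : SheafOfModules.Presentation (R := (Spec R).ringCatSheaf) (tilde N), P.IsFinite := by
  obtain ⟨s, hs, ⟨t, ht⟩⟩ := Module.FinitePresentation.out (R := R) (M := N)
  refine ⟨presentationTilde N (s : Set N) hs (t : Set ((s : Set N) →₀ R)) ht, ?_⟩
  constructor
  · exact ⟨inferInstanceAs (Finite (s : Set N))⟩
  · exact ⟨inferInstanceAs (Finite (t : Set ((s : Set N) →₀ R)))⟩

variable {X : Scheme.{u}} {U : X.Opens} (hU : IsAffineOpen U)

set_option backward.isDefEq.respectTransparency false in
/-- The functor from modules on `Spec Γ(X, U)` to modules on the over site. -/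
noncomputable def Φ : (Spec Γ(X, U)).Modules ⥤ SheafOfModules.{u} (X.ringCatSheaf.over U) :=
  restrictFunctor hU.isoSpec.hom ⋙ (overEquiv U).inverse

set_option backward.isDefEq.respectTransparency false in
theorem preservesColimits_Φ : PreservesColimitsOfSize.{u, u} (Φ hU) := by
  unfold Φ
  infer_instance

set_option backward.isDefEq.respectTransparency false in
/-- The unit isomorphism. -/
noncomputable def η : SheafOfModules.unit (X.ringCatSheaf.over U) ≅
    (Φ hU).obj (SheafOfModules.unit (Spec Γ(X, U)).ringCatSheaf) :=
  (overEquiv U).unitIso.app _ ≪≫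
    (overEquiv U).inverse.mapIso (restrictUnitIso hU.isoSpec.hom).symm

set_option backward.isDefEq.respectTransparency false in
/-- The comparison isomorphism. -/
noncomputable def compIso (F : X.Modules) : (Φ hU).obj (F.restrict hU.fromSpec) ≅ F.over U :=
  (overEquiv U).inverse.mapIso
    (((restrictFunctorComp hU.isoSpec.hom hU.fromSpec).symm.app F) ≪≫
      ((restrictFunctorCongr (show hU.isoSpec.hom ≫ hU.fromSpec = U.ι by
        rw [← hU.isoSpec_inv_ι, Iso.hom_inv_id_assoc])).app F) ≪≫
      ((overFunctorEquiv U).symm.app F)) ≪≫
  ((overEquiv U).unitIso.symm.app (F.over U))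

/-- The module of global sections of the restriction to `Spec Γ(X, U)`. -/
noncomputable abbrev secSpec (F : X.Modules) : ModuleCat.{u} Γ(X, U) :=
  (modulesSpecToSheaf.obj (F.restrict hU.fromSpec)).presheaf.obj (op ⊤)

/-- The underlying map. -/
noncomputable def secSpecFun (F : X.Modules) (x : secSpec hU F) : Γ(F, U) :=
  F.presheaf.map (eqToHom (fromSpec_image_top hU).symm).op (id x : Γ(F, hU.fromSpec ''ᵁ ⊤))

theorem secSpecFun_smul (F : X.Modules) (a : Γ(X, U)) (x : secSpec hU F) :
    secSpecFun hU F (a • x) = a • secSpecFun hU F x := by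
  have h1 := smul_restrict F hU ⊤ a (id x : Γ(F.restrict hU.fromSpec, ⊤))
  unfold secSpecFun
  refine (congrArg (F.presheaf.map (eqToHom (fromSpec_image_top hU).symm).op) h1).trans ?_
  refine (Scheme.Modules.map_smul F _ _ _).trans ?_
  congr 1
  exact (ring_map_map_eq _ _ (𝟙 _) a).trans (by simp)

/-- It is linearly equivalent to `Γ(F, U)`. -/
noncomputable def secSpecEquiv (F : X.Modules) : secSpec hU F ≃ₗ[Γ(X, U)] Γ(F, U) :=
  LinearEquiv.ofBijective
    { toFun := secSpecFun hU F
      map_add' := fun _ _ =>
        (F.presheaf.map (eqToHom (fromSpec_image_top hU).symm).op).hom.map_add _ _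
      map_smul' := secSpecFun_smul hU F }
    (ConcreteCategory.bijective_of_isIso
      (F.presheaf.map (eqToHom (fromSpec_image_top hU).symm).op))

include hU in
set_option backward.isDefEq.respectTransparency false in
theorem exists_finite_presentation_over (F : X.Modules) [F.IsQuasicoherent]
    (h : Module.FinitePresentation Γ(X, U) Γ(F, U)) :
    ∃ P : (F.over U).Presentation, P.IsFinite := by
  haveI : Module.FinitePresentation Γ(X, U) (secSpec hU F) :=
    Module.FinitePresentation.of_equiv (secSpecEquiv hU F).symm
  obtain ⟨P₀, hP₀⟩ := exists_finite_presentation_tilde (secSpec hU F)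
  haveI : (F.restrict hU.fromSpec).IsQuasicoherent := inferInstance
  haveI : IsIso (F.restrict hU.fromSpec).fromTildeΓ :=
    Scheme.Modules.isIso_fromTildeΓ_of_isQuasicoherent _
  let P₁ := P₀.ofIsIso (F.restrict hU.fromSpec).fromTildeΓ
  haveI : P₁.IsFinite := inferInstance
  haveI := preservesColimits_Φ hU
  let P₂ := P₁.map (Φ hU) (η hU)
  haveI : P₂.IsFinite :=
    ⟨⟨inferInstanceAs (Finite P₁.generators.I)⟩, ⟨inferInstanceAs (Finite P₁.relations.I)⟩⟩
  exact ⟨P₂.ofIsIso (compIso hU F).hom, inferInstance⟩

/-- A quasi-coherent module whose sections over all affine opens are finitely presented is of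
finite presentation. -/
theorem isFinitePresentation_of_sections (F : X.Modules) [F.IsQuasicoherent]
    (H : ∀ U : X.affineOpens, Module.FinitePresentation Γ(X, (U : X.Opens)) Γ(F, (U : X.Opens))) :
    SheafOfModules.IsFinitePresentation (R := X.ringCatSheaf) F := by
  choose P hP using fun U : X.affineOpens => exists_finite_presentation_over U.2 F (H U)
  have hcov : (Opens.grothendieckTopology X).CoversTop (fun U : X.affineOpens => (U : X.Opens)) := by
    rw [Opens.coversTop_iff]
    exact iSup_affineOpens_eq_top X
  let σ : SheafOfModules.QuasicoherentData.{u} (R := X.ringCatSheaf) F :=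
    { I := X.affineOpens, X := fun U => U.1, coversTop := hcov, presentation := P }
  have hσ : σ.IsFinitePresentation := by
    constructor
    intro i
    exact hP i
  constructor
  exact ⟨σ, hσ⟩

end QCohFP
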