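import Mathlib
import Groth.Agent.Lib.QCohFP_helper9
import Groth.Agent.Lib.RelFPAff_helper9

/-!
# A criterion for quasi-coherence: sections over basic opens of affine opens are localizations

* `QCohCrit.isQuasicoherent_of_locOnU`: an `𝒪_X`-module whose sections over basic opens of all
  affine opens are the localizations is quasi-coherent.
* `QCohCrit.isQuasicoherent_pushforward`: pushforward along an affine morphism preserves
  quasi-coherence.
* `QCohCrit.isFiniteType_of_sections_cover`: a quasi-coherent module with finite sections over an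
  affine open cover is of finite type.
* `QCohCrit.isFiniteType_pushforward`, `QCohCrit.isFiniteType_of_pushforward`: finite type and
  finite pushforward.
-/

universe u

open CategoryTheory CategoryTheory.Limits AlgebraicGeometry Opposite TopologicalSpace Scheme.Modules
open Groth.Agent.Lib.QCohLoc_helper4 QCohFP

namespace QCohCrit

section Crit

variable {X : Scheme.{u}} (F : X.Modules) {U : X.Opens} (hU : IsAffineOpen U)

/-- Sections over basic opens of `U` are localizations of the sections over `U`. -/
def LocOnU (F : X.Modules) (U : X.Opens) : Prop :=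
  ∀ a : Γ(X, U), RelFPKit.LocData (X.presheaf.map (homOfLE (X.basicOpen_le a)).op).hom a
    (F.presheaf.map (homOfLE (X.basicOpen_le a)).op).hom

include hU in
set_option backward.isDefEq.respectTransparency false in
theorem isLocalizing_restrict (H : LocOnU F U) :
    IsLocalizing (modulesSpecToSheaf.obj (F.restrict hU.fromSpec)) := by
  intro a
  have e₁ : hU.fromSpec ''ᵁ (PrimeSpectrum.basicOpen a) = X.basicOpen a :=
    hU.fromSpec_image_basicOpen a
  have e₂ : hU.fromSpec ''ᵁ ⊤ = U := fromSpec_image_top hU
  have hinj₁ : Function.Injective (F.presheaf.map (eqToHom e₁.symm).op) :=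
    (ConcreteCategory.bijective_of_isIso _).1
  -- the action on sections over `D(a)`
  have hsmul : ∀ (b : Γ(X, U)) (y : Γ(F.restrict hU.fromSpec,
      (PrimeSpectrum.basicOpen a : (Spec Γ(X, U)).Opens))),
      F.presheaf.map (eqToHom e₁.symm).op (id (b • y) : Γ(F, hU.fromSpec ''ᵁ _)) =
        (X.presheaf.map (homOfLE (X.basicOpen_le a)).op).hom b •
          F.presheaf.map (eqToHom e₁.symm).op (id y : Γ(F, hU.fromSpec ''ᵁ _)) := by
    intro b y
    have h1 := smul_restrict F hU (PrimeSpectrum.basicOpen a) b y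
    refine (congrArg (F.presheaf.map (eqToHom e₁.symm).op) h1).trans ?_
    refine (Scheme.Modules.map_smul F _ _ _).trans ?_
    congr 1
    exact ring_map_map_eq _ _ _ b
  -- compatibility of the restriction maps
  have hle : X.basicOpen a ≤ hU.fromSpec ''ᵁ ⊤ := (X.basicOpen_le a).trans e₂.symm.le
  have hC1 : ∀ x : secSpec hU F,
      F.presheaf.map (eqToHom e₁.symm).op
        (id (((modulesSpecToSheaf.obj (F.restrict hU.fromSpec)).obj.map
          (PrimeSpectrum.basicOpen a : (Spec Γ(X, U)).Opens).leTop.op).hom x) :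
            Γ(F, hU.fromSpec ''ᵁ (PrimeSpectrum.basicOpen a))) =
      F.presheaf.map (homOfLE (X.basicOpen_le a)).op (secSpecFun hU F x) := by
    intro x
    exact (map_map_eq F (hU.fromSpec.opensFunctor.map
        (PrimeSpectrum.basicOpen a : (Spec Γ(X, U)).Opens).leTop).op (eqToHom e₁.symm).op
        (homOfLE hle).op (id x : Γ(F, hU.fromSpec ''ᵁ ⊤))).trans
      (map_map_eq F (eqToHom e₂.symm).op (homOfLE (X.basicOpen_le a)).op
        (homOfLE hle).op (id x : Γ(F, hU.fromSpec ''ᵁ ⊤))).symm
  refine ⟨?_, ?_, ?_⟩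
  · rintro ⟨x, n, rfl⟩
    have := (F.restrict hU.fromSpec).isUnit_algebraMap_end_of_le_basicOpen a
      (U := PrimeSpectrum.basicOpen a) le_rfl
    rw [map_pow]
    exact this.pow n
  · intro y
    obtain ⟨n, m, hnm⟩ := (H a).surj (F.presheaf.map (eqToHom e₁.symm).op
      (id y : Γ(F, hU.fromSpec ''ᵁ _)))
    refine ⟨((secSpecEquiv hU F).symm m, ⟨a ^ n, n, rfl⟩), ?_⟩
    apply hinj₁
    show F.presheaf.map (eqToHom e₁.symm).op (id ((a ^ n) • y) : Γ(F, hU.fromSpec ''ᵁ _)) = _
    rw [hsmul, map_pow]
    have hm : m = secSpecFun hU F ((secSpecEquiv hU F).symm m) :=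
      ((secSpecEquiv hU F).apply_symm_apply m).symm
    exact hnm.trans ((congrArg (fun z => (F.presheaf.map (homOfLE (X.basicOpen_le a)).op).hom z)
      hm).trans (hC1 _).symm)
  · intro x₁ x₂ hx
    have h0 : (F.presheaf.map (homOfLE (X.basicOpen_le a)).op).hom
        (secSpecFun hU F x₁ - secSpecFun hU F x₂) = 0 := by
      rw [map_sub, sub_eq_zero]
      have := congrArg (fun z => F.presheaf.map (eqToHom e₁.symm).op
        (id z : Γ(F, hU.fromSpec ''ᵁ (PrimeSpectrum.basicOpen a)))) hx
      exact ((hC1 x₁).symm.trans this).trans (hC1 x₂)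
    obtain ⟨n, hn⟩ := (H a).ker _ h0
    refine ⟨⟨a ^ n, n, rfl⟩, ?_⟩
    apply (secSpecEquiv hU F).injective
    show secSpecFun hU F ((a ^ n) • x₁) = secSpecFun hU F ((a ^ n) • x₂)
    rw [secSpecFun_smul, secSpecFun_smul]
    rw [smul_sub] at hn
    exact sub_eq_zero.mp hn

include hU in
set_option backward.isDefEq.respectTransparency false in
/-- Under `LocOnU`, the module `F.over U` has a (global) presentation. -/
theorem nonempty_presentation_over (H : LocOnU F U) : Nonempty (F.over U).Presentation := by
  have hloc := isLocalizing_restrict F hU H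
  haveI : IsIso (F.restrict hU.fromSpec).fromTildeΓ :=
    (isIso_fromTildeΓ_iff_isLocalizing _).mpr hloc
  let P₀ : (tilde (secSpec hU F)).Presentation :=
    presentationTilde.{u} (secSpec hU F) .univ (by simp) _ (Submodule.span_eq _)
  let P₁ := P₀.ofIsIso (F.restrict hU.fromSpec).fromTildeΓ
  haveI := preservesColimits_Φ hU
  let P₂ := P₁.map (Φ hU) (η hU)
  exact ⟨P₂.ofIsIso (compIso hU F).hom⟩

/-- **Criterion for quasi-coherence.** -/
theorem isQuasicoherent_of_locOnU (F : X.Modules)
    (H : ∀ U : X.affineOpens, LocOnU F (U : X.Opens)) : F.IsQuasicoherent := by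
  have hcov : (Opens.grothendieckTopology X).CoversTop
      (fun U : X.affineOpens => (U : X.Opens)) := by
    rw [Opens.coversTop_iff]
    exact iSup_affineOpens_eq_top X
  let σ : SheafOfModules.QuasicoherentData.{u} (R := X.ringCatSheaf) F :=
    { I := X.affineOpens, X := fun U => U.1, coversTop := hcov,
      presentation := fun U => (nonempty_presentation_over F U.2 (H U)).some }
  exact σ.isQuasicoherent

/-- The converse: a quasi-coherent module satisfies `LocOnU` on every affine open. -/
theorem locOnU_of_isQuasicoherent (F : X.Modules) [F.IsQuasicoherent] (hU : IsAffineOpen U) :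
    LocOnU F U :=
  fun a => RelFPAff.locData (F := F) hU a _ rfl

end Crit

section Push

variable {X Y : Scheme.{u}} (f : X ⟶ Y)

theorem push_smul (M : X.Modules) (V : Y.Opens) (b : Γ(Y, V))
    (s : Γ((Scheme.Modules.pushforward f).obj M, V)) :
    (id (b • s) : Γ(M, f ⁻¹ᵁ V)) = (f.app V).hom b • (id s : Γ(M, f ⁻¹ᵁ V)) := rfl

set_option backward.isDefEq.respectTransparency false in
theorem locOnU_pushforward [IsAffineHom f] (M : X.Modules) [M.IsQuasicoherent] {V : Y.Opens}
    (hV : IsAffineOpen V) : LocOnU ((Scheme.Modules.pushforward f).obj M) V := by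
  intro a
  have hU : IsAffineOpen (f ⁻¹ᵁ V) := hV.preimage f
  have e : f ⁻¹ᵁ (Y.basicOpen a) = X.basicOpen ((f.app V).hom a) := Scheme.preimage_basicOpen f a
  have L := RelFPAff.locData (F := M) hU ((f.app V).hom a)
    ((Opens.map f.base).map (homOfLE (Y.basicOpen_le a))) e
  have hnat : ∀ x : Γ(Y, V),
      (X.presheaf.map ((Opens.map f.base).map (homOfLE (Y.basicOpen_le a))).op).hom
          ((f.app V).hom x) =
        (f.app (Y.basicOpen a)).hom ((Y.presheaf.map (homOfLE (Y.basicOpen_le a)).op).hom x) := by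
    intro x
    have := congrArg (fun φ => φ.hom x) (f.naturality (homOfLE (Y.basicOpen_le a)).op)
    exact this.symm
  refine ⟨hV.isLocalization_basicOpen a, fun x m => Scheme.Modules.map_smul _ _ x m, ?_, ?_⟩
  · intro m'
    obtain ⟨n, m, hm⟩ := L.surj m'
    refine ⟨n, m, ?_⟩
    rw [hnat, ← map_pow] at hm
    exact hm
  · intro m hm
    obtain ⟨n, hn⟩ := L.ker m hm
    refine ⟨n, ?_⟩
    rw [← map_pow] at hn
    exact hn

/-- **Pushforward along an affine morphism preserves quasi-coherence.** -/
theorem isQuasicoherent_pushforward [IsAffineHom f] (M : X.Modules) [M.IsQuasicoherent] :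
    ((Scheme.Modules.pushforward f).obj M).IsQuasicoherent :=
  isQuasicoherent_of_locOnU _ (fun V => locOnU_pushforward f M V.2)

end Push

section FiniteType

set_option backward.isDefEq.respectTransparency false in
theorem exists_generatingSections_tilde {R : CommRingCat.{u}} (M : ModuleCat.{u} R)
    [Module.Finite R M] :
    ∃ G : SheafOfModules.GeneratingSections (R := (Spec R).ringCatSheaf) (tilde M),
      Finite G.I := by
  obtain ⟨n, gens, hgens⟩ := Module.Finite.exists_fin (R := R) (M := M)
  let ι : Type u := ULift.{u} (Fin n)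
  let l : (ι →₀ R) →ₗ[R] M := Finsupp.linearCombination R (fun i : ι => gens i.down)
  have hl : Function.Surjective l := by
    rw [← LinearMap.range_eq_top, Finsupp.range_linearCombination, eq_top_iff, ← hgens]
    apply Submodule.span_mono
    rintro _ ⟨i, rfl⟩
    exact ⟨⟨i⟩, rfl⟩
  let p : ModuleCat.of R (ι →₀ R) ⟶ M := ModuleCat.ofHom l
  haveI : Epi p := (ModuleCat.epi_iff_surjective p).mpr hl
  haveI : Epi ((tilde.functor R).map p) := inferInstance
  let q : SheafOfModules.free (R := (Spec R).ringCatSheaf) ι ⟶ tilde M :=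
    (tildeFinsupp ι).inv ≫ (tilde.functor R).map p
  haveI : Epi q := epi_comp _ _
  let G : SheafOfModules.GeneratingSections (R := (Spec R).ringCatSheaf) (tilde M) :=
    { I := ι
      s := (tilde M).freeHomEquiv q
      epi := by rw [Equiv.symm_apply_apply]; infer_instance }
  exact ⟨G, inferInstanceAs (Finite (ULift.{u} (Fin n)))⟩

variable {X : Scheme.{u}} {U : X.Opens} (hU : IsAffineOpen U)

include hU in
set_option backward.isDefEq.respectTransparency false in
theorem exists_finite_generators_over (F : X.Modules) [F.IsQuasicoherent]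
    (h : Module.Finite Γ(X, U) Γ(F, U)) :
    ∃ G : (F.over U).GeneratingSections, G.IsFiniteType := by
  haveI : Module.Finite Γ(X, U) (secSpec hU F) := Module.Finite.equiv (secSpecEquiv hU F).symm
  obtain ⟨G₀, hG₀⟩ := exists_generatingSections_tilde (secSpec hU F)
  haveI : G₀.IsFiniteType := ⟨hG₀⟩
  haveI : (F.restrict hU.fromSpec).IsQuasicoherent := inferInstance
  haveI : IsIso (F.restrict hU.fromSpec).fromTildeΓ :=
    Scheme.Modules.isIso_fromTildeΓ_of_isQuasicoherent _
  let G₁ := G₀.ofEpi (F.restrict hU.fromSpec).fromTildeΓ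
  haveI : G₁.IsFiniteType := inferInstance
  haveI := preservesColimits_Φ hU
  let G₂ := G₁.map (Φ hU) (η hU)
  haveI : G₂.IsFiniteType := ⟨inferInstanceAs (Finite G₁.I)⟩
  exact ⟨G₂.ofEpi (compIso hU F).hom, ⟨inferInstanceAs (Finite G₁.I)⟩⟩

/-- A quasi-coherent module with finite sections over an affine open cover is of finite type. -/
theorem isFiniteType_of_sections_cover (F : X.Modules) [F.IsQuasicoherent] {ι : Type u}
    (𝒰 : ι → X.Opens) (h𝒰 : ∀ i, IsAffineOpen (𝒰 i)) (hcov : ⨆ i, 𝒰 i = ⊤)
    (H : ∀ i, Module.Finite Γ(X, 𝒰 i) Γ(F, 𝒰 i)) :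
    SheafOfModules.IsFiniteType (R := X.ringCatSheaf) F := by
  choose G hG using fun i => exists_finite_generators_over (h𝒰 i) F (H i)
  have hc : (Opens.grothendieckTopology X).CoversTop 𝒰 := by
    rw [Opens.coversTop_iff]
    exact hcov
  let σ : SheafOfModules.LocalGeneratorsData.{u} (R := X.ringCatSheaf) F :=
    { I := ι, X := 𝒰, coversTop := hc, generators := G }
  have hσ : σ.IsFiniteType := by
    constructor
    intro i
    exact hG i
  constructor
  exact ⟨σ, hσ⟩

theorem finite_of_ringHom_finite {A B : Type u} [CommRing A] [CommRing B] (ψ : A →+* B)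
    (hψ : ψ.Finite) {N M : Type u} [AddCommGroup N] [Module A N] [AddCommGroup M] [Module B M]
    (e : N ≃+ M) (hsm : ∀ (a : A) (n : N), e (a • n) = ψ a • e n) [Module.Finite B M] :
    Module.Finite A N := by
  letI := ψ.toAlgebra
  letI : Module A M := Module.compHom M ψ
  haveI : IsScalarTower A B M := IsScalarTower.of_algebraMap_smul (fun _ _ => rfl)
  haveI : Module.Finite A B := hψ
  haveI : Module.Finite A M := Module.Finite.trans B M
  let eL : N ≃ₗ[A] M := { e with map_smul' := hsm }
  exact Module.Finite.equiv eL.symm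

theorem finite_of_restrict {A B : Type u} [CommRing A] [CommRing B] (ψ : A →+* B)
    {N M : Type u} [AddCommGroup N] [Module A N] [AddCommGroup M] [Module B M]
    (e : N ≃+ M) (hsm : ∀ (a : A) (n : N), e (a • n) = ψ a • e n) [Module.Finite A N] :
    Module.Finite B M := by
  letI := ψ.toAlgebra
  letI : Module A M := Module.compHom M ψ
  haveI : IsScalarTower A B M := IsScalarTower.of_algebraMap_smul (fun _ _ => rfl)
  let eL : N ≃ₗ[A] M := { e with map_smul' := hsm }
  haveI : Module.Finite A M := Module.Finite.equiv eL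
  exact Module.Finite.of_restrictScalars_finite A B M

variable {Y : Scheme.{u}} (f : X ⟶ Y)

/-- Finite pushforward of a quasi-coherent module of finite type is of finite type. -/
theorem isFiniteType_pushforward [IsFinite f] (M : X.Modules) [M.IsQuasicoherent]
    [SheafOfModules.IsFiniteType (R := X.ringCatSheaf) M] :
    SheafOfModules.IsFiniteType (R := Y.ringCatSheaf)
      ((Scheme.Modules.pushforward f).obj M) := by
  haveI := isQuasicoherent_pushforward f M
  refine isFiniteType_of_sections_cover _ (fun V : Y.affineOpens => (V : Y.Opens))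
    (fun V => V.2) (iSup_affineOpens_eq_top Y) (fun V => ?_)
  haveI : Module.Finite Γ(X, f ⁻¹ᵁ (V : Y.Opens)) Γ(M, f ⁻¹ᵁ (V : Y.Opens)) :=
    QCohFT.finite_of_isFiniteType M (V.2.preimage f)
  exact finite_of_ringHom_finite (N := Γ((Scheme.Modules.pushforward f).obj M, (V : Y.Opens)))
    (M := Γ(M, f ⁻¹ᵁ (V : Y.Opens))) (f.app V).hom (f.finite_app V V.2)
    (AddEquiv.refl _) (fun _ _ => rfl)

/-- Conversely, if the finite pushforward is of finite type then so is the module. -/
theorem isFiniteType_of_pushforward [IsFinite f] (M : X.Modules) [M.IsQuasicoherent]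
    (h : SheafOfModules.IsFiniteType (R := Y.ringCatSheaf)
      ((Scheme.Modules.pushforward f).obj M)) :
    SheafOfModules.IsFiniteType (R := X.ringCatSheaf) M := by
  haveI := isQuasicoherent_pushforward f M
  haveI := h
  refine isFiniteType_of_sections_cover _ (fun V : Y.affineOpens => f ⁻¹ᵁ (V : Y.Opens))
    (fun V => V.2.preimage f) ?_ (fun V => ?_)
  · refine eq_top_iff.mpr (fun x _ => ?_)
    have hx : f.base x ∈ (⨆ V : Y.affineOpens, (V : Y.Opens)) := by
      rw [iSup_affineOpens_eq_top]; trivial
    obtain ⟨V, hV⟩ := Opens.mem_iSup.mp hx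
    exact Opens.mem_iSup.mpr ⟨V, hV⟩
  · haveI : Module.Finite Γ(Y, (V : Y.Opens))
        Γ((Scheme.Modules.pushforward f).obj M, (V : Y.Opens)) :=
      QCohFT.finite_of_isFiniteType _ V.2
    exact finite_of_restrict (N := Γ((Scheme.Modules.pushforward f).obj M, (V : Y.Opens)))
      (M := Γ(M, f ⁻¹ᵁ (V : Y.Opens))) (f.app V).hom (AddEquiv.refl _) (fun _ _ => rfl)

end FiniteType

end QCohCrit
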