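import Mathlib
import Groth.Prelude.Def_Flatn
import Groth.Agent.Lib.RelFPAff_helper9

/-!
# Relative finite presentation: local criterion and composition
-/

universe u

open CategoryTheory AlgebraicGeometry Opposite TopologicalSpace RelFPKit

namespace RelFPAff

variable {X S : Scheme.{u}} {f : X ⟶ S} {F : X.Modules}

/-- Local criterion on `U`. -/
theorem P_of_local [F.IsQuasicoherent] [LocallyOfFiniteType f] {U : X.Opens} (hU : IsAffineOpen U)
    {V : S.Opens} (hV : IsAffineOpen V) (h : U ≤ f ⁻¹ᵁ V)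
    (H : ∀ x ∈ U, ∃ a : Γ(X, U), x ∈ X.basicOpen a ∧
      P f F (X.basicOpen a) V ((X.basicOpen_le a).trans h)) : P f F U V h := by
  choose a hxa hPa using fun x : U => H x.1 x.2
  have hspan : Ideal.span (Set.range a) = ⊤ := by
    rw [← hU.self_le_iSup_basicOpen_iff]
    intro x hx
    simp only [Opens.mem_iSup]
    exact ⟨⟨a ⟨x, hx⟩, ⟨⟨x, hx⟩, rfl⟩⟩, hxa ⟨x, hx⟩⟩
  obtain ⟨t, ht₁, ht₂⟩ := (Ideal.span_eq_top_iff_finite _).mp hspan
  refine P_of_span hU hV h (ι := t) (fun b => b.1) (by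
    have : (Set.range fun b : t => (b.1 : Γ(X, U))) = ↑t := Subtype.range_coe
    rw [this]; exact ht₂) ?_
  rintro ⟨b, hb⟩
  obtain ⟨x, rfl⟩ := ht₁ hb
  exact hPa x

/-- Composition with a morphism locally of finite presentation. -/
theorem isRelFP_comp {X Y S : Scheme.{u}} (f : X ⟶ Y) (g : Y ⟶ S) [LocallyOfFiniteType f]
    [LocallyOfFinitePresentation g] (F : X.Modules) [F.IsQuasicoherent]
    (hF : Flatn.IsRelFP f F) : Flatn.IsRelFP (f ≫ g) F := by
  apply isRelFP_of_all_pairs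
  intro U W h
  rw [relFPOn_iff]
  refine P_of_local U.2 W.2 h (fun x hx => ?_)
  have hy : f.base x ∈ g ⁻¹ᵁ (W : S.Opens) := h hx
  obtain ⟨V, hV, hyV, hVle⟩ := (Opens.isBasis_iff_nbhd.mp Y.isBasis_affineOpens) hy
  obtain ⟨a, ha, hxa⟩ := U.2.exists_basicOpen_le (V := (U : X.Opens) ⊓ f ⁻¹ᵁ V)
    ⟨x, ⟨hx, hyV⟩⟩ hx
  refine ⟨a, hxa, ?_⟩
  have hle : X.basicOpen a ≤ f ⁻¹ᵁ V := ha.trans inf_le_right
  have h1 : P f F (X.basicOpen a) V hle := all_pairs f F hF (U.2.basicOpen a) hV hle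
  have hfp : (g.appLE W V hVle).hom.FinitePresentation := g.finitePresentation_appLE W.2 hV hVle
  have : ((f ≫ g).appLE W (X.basicOpen a) ((X.basicOpen_le a).trans h)).hom =
      (f.appLE V (X.basicOpen a) hle).hom.comp (g.appLE W V hVle).hom := by
    rw [← CommRingCat.hom_comp, Scheme.Hom.appLE_comp_appLE]
  unfold P
  rw [this]
  exact (base_iff _ _ hfp _).mpr h1

end RelFPAff
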