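import Mathlib
import Groth.Prelude.Def_Flatn
import Groth.Agent.Lib.RelFPKit_helper9

/-!
# Relative finite presentation toolkit, part 3: exact sequences
-/

universe u

open MvPolynomial

namespace RelFPKit

open Groth.Agent.Lib.RelFP

variable {R A : Type u} [CommRing R] [CommRing A] (φ : R →+* A)
  {M' M M'' : Type u} [AddCommGroup M'] [AddCommGroup M] [AddCommGroup M'']
  [Module A M'] [Module A M] [Module A M'']

/-- Extensions of relatively finitely presented modules are relatively finitely presented. -/
theorem of_exact (i : M' →ₗ[A] M) (p : M →ₗ[A] M'') (hi : Function.Injective i)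
    (hp : Function.Surjective p) (hex : ∀ x, p x = 0 → ∃ y, i y = x) (hpi : ∀ y, p (i y) = 0)
    (h' : RelFPHom φ M') (h'' : RelFPHom φ M'') : RelFPHom φ M := by
  letI := φ.toAlgebra
  obtain ⟨n, α, hα, hfp''⟩ := h''
  obtain ⟨n', α', hα', hfp'⟩ := h'
  have hfp'₂ := indep_presentation α hα α' hα' hfp'
  refine ⟨n, α, hα, ?_⟩
  letI : Module (MvPolynomial (Fin n) R) M' := Module.compHom M' α.toRingHom
  letI : Module (MvPolynomial (Fin n) R) M := Module.compHom M α.toRingHom
  letI : Module (MvPolynomial (Fin n) R) M'' := Module.compHom M'' α.toRingHom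
  haveI : Module.FinitePresentation (MvPolynomial (Fin n) R) M' := hfp'₂
  haveI : Module.FinitePresentation (MvPolynomial (Fin n) R) M'' := hfp''
  let i' : M' →ₗ[MvPolynomial (Fin n) R] M :=
    { toFun := i, map_add' := i.map_add, map_smul' := fun q x => i.map_smul (α q) x }
  let p' : M →ₗ[MvPolynomial (Fin n) R] M'' :=
    { toFun := p, map_add' := p.map_add, map_smul' := fun q x => p.map_smul (α q) x }
  have hker : LinearMap.ker p' = LinearMap.range i' := by
    ext x
    constructor
    · intro hx
      obtain ⟨y, hy⟩ := hex x hx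
      exact ⟨y, hy⟩
    · rintro ⟨y, rfl⟩
      exact hpi y
  haveI : Module.FinitePresentation (MvPolynomial (Fin n) R) (LinearMap.ker p') := by
    rw [hker]
    exact Module.FinitePresentation.of_equiv (LinearEquiv.ofInjective i' hi)
  exact Module.finitePresentation_of_ker p' hp

/-- Quotients of relatively finitely presented modules by finitely generated submodules. -/
theorem quotient (i : M' →ₗ[A] M) (p : M →ₗ[A] M'')
    (hp : Function.Surjective p) (hex : ∀ x, p x = 0 → ∃ y, i y = x) (hpi : ∀ y, p (i y) = 0)
    [Module.Finite A M'] (h : RelFPHom φ M) : RelFPHom φ M'' := by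
  letI := φ.toAlgebra
  obtain ⟨n, α, hα, hfp⟩ := h
  refine ⟨n, α, hα, ?_⟩
  letI : Module (MvPolynomial (Fin n) R) M' := Module.compHom M' α.toRingHom
  letI : Module (MvPolynomial (Fin n) R) M := Module.compHom M α.toRingHom
  letI : Module (MvPolynomial (Fin n) R) M'' := Module.compHom M'' α.toRingHom
  letI : Algebra (MvPolynomial (Fin n) R) A := α.toRingHom.toAlgebra
  haveI : IsScalarTower (MvPolynomial (Fin n) R) A M' :=
    IsScalarTower.of_algebraMap_smul (fun _ _ => rfl)
  haveI : Module.Finite (MvPolynomial (Fin n) R) A :=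
    Module.Finite.of_surjective (Algebra.linearMap (MvPolynomial (Fin n) R) A) hα
  haveI : Module.Finite (MvPolynomial (Fin n) R) M' := Module.Finite.trans A M'
  haveI : Module.FinitePresentation (MvPolynomial (Fin n) R) M := hfp
  let i' : M' →ₗ[MvPolynomial (Fin n) R] M :=
    { toFun := i, map_add' := i.map_add, map_smul' := fun q x => i.map_smul (α q) x }
  let p' : M →ₗ[MvPolynomial (Fin n) R] M'' :=
    { toFun := p, map_add' := p.map_add, map_smul' := fun q x => p.map_smul (α q) x }
  have hker : LinearMap.ker p' = LinearMap.range i' := by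
    ext x
    constructor
    · intro hx
      obtain ⟨y, hy⟩ := hex x hx
      exact ⟨y, hy⟩
    · rintro ⟨y, rfl⟩
      exact hpi y
  refine Module.finitePresentation_of_surjective p' hp ?_
  rw [hker, LinearMap.range_eq_map]
  exact Module.Finite.fg_top.map _

end RelFPKit
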