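import Mathlib
import Groth.Prelude.Def_Flatn
import Groth.Agent.Lib.RelFPAff2_helper9
import Groth.Agent.Lib.RelFPKit3_helper9
import Groth.Agent.Lib.QCohExact_helper9

/-!
# Relative finite presentation and short exact sequences
-/

universe u

open CategoryTheory AlgebraicGeometry Opposite TopologicalSpace RelFPKit

namespace RelFPAff

variable {X S : Scheme.{u}} (f : X ⟶ S)

/-- Sections of a morphism of modules as a linear map. -/
noncomputable def appₗ {F G : X.Modules} (φ : F ⟶ G) (U : X.Opens) : Γ(F, U) →ₗ[Γ(X, U)] Γ(G, U) where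
  toFun := φ.app U
  map_add' := map_add _
  map_smul' r x := Scheme.Modules.Hom.app_smul φ r x

theorem comp_app_zero (E : ShortComplex X.Modules) (U : X.Opens) (y : Γ(E.X₁, U)) :
    E.g.app U (E.f.app U y) = 0 := by
  have := congrArg (fun φ => Scheme.Modules.Hom.app φ U y) E.zero
  exact this

theorem isRelFP_of_shortExact [LocallyOfFiniteType f] (E : ShortComplex X.Modules)
    (hE : E.ShortExact) [E.X₁.IsQuasicoherent] [E.X₂.IsQuasicoherent] [E.X₃.IsQuasicoherent]
    (h₁ : Flatn.IsRelFP f E.X₁) (h₃ : Flatn.IsRelFP f E.X₃) : Flatn.IsRelFP f E.X₂ := by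
  haveI := hE.mono_f
  haveI := hE.epi_g
  apply isRelFP_of_all_pairs
  intro U V h
  rw [relFPOn_iff]
  exact of_exact (f.appLE V U h).hom (appₗ E.f U) (appₗ E.g U)
    (QCohExact.app_injective_of_mono E.f U) (QCohExact.app_surjective_of_epi E.g U.2)
    (QCohExact.app_exact E hE.exact U) (comp_app_zero E U)
    (all_pairs f E.X₁ h₁ U.2 V.2 h) (all_pairs f E.X₃ h₃ U.2 V.2 h)

end RelFPAff
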