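import Mathlib
import Groth.Agent.Lib.QCohCrit_helper9
import Groth.Agent.Lib.RelFPAff4_helper9

/-!
# More on the quasi-coherence criterion

* `QCohCrit.isQuasicoherent_of_locOnU_cover`: the criterion on an affine open cover.
* `QCohCrit.locOnU_pushforward'`, `QCohCrit.locOnU_of_subsingleton`.
* `QCohCrit.isIso_of_bijective_on_cover`: a morphism of quasi-coherent modules which is bijective
  on sections over an affine open cover is an isomorphism.
* `QCohCrit.acc_qcoh_subobjects`: ACC for quasi-coherent submodules of a coherent module on a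
  Noetherian scheme.
-/

universe u

open CategoryTheory CategoryTheory.Limits AlgebraicGeometry Opposite TopologicalSpace Scheme.Modules
open Groth.Agent.Lib.QCohLoc_helper4 QCohFP

namespace QCohCrit

variable {X : Scheme.{u}}

/-- **Criterion for quasi-coherence**, on an affine open cover. -/
theorem isQuasicoherent_of_locOnU_cover (F : X.Modules) {ι : Type u} (𝒰 : ι → X.Opens)
    (h𝒰 : ∀ i, IsAffineOpen (𝒰 i)) (hcov : ⨆ i, 𝒰 i = ⊤) (H : ∀ i, LocOnU F (𝒰 i)) :
    F.IsQuasicoherent := by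
  have hc : (Opens.grothendieckTopology X).CoversTop 𝒰 := by
    rw [Opens.coversTop_iff]
    exact hcov
  let σ : SheafOfModules.QuasicoherentData.{u} (R := X.ringCatSheaf) F :=
    { I := ι, X := 𝒰, coversTop := hc,
      presentation := fun i => (nonempty_presentation_over F (h𝒰 i) (H i)).some }
  exact σ.isQuasicoherent

set_option backward.isDefEq.respectTransparency false in
theorem locOnU_pushforward' {X Y : Scheme.{u}} (f : X ⟶ Y) (M : X.Modules) [M.IsQuasicoherent]
    {V : Y.Opens} (hV : IsAffineOpen V) (hU : IsAffineOpen (f ⁻¹ᵁ V)) :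
    LocOnU ((Scheme.Modules.pushforward f).obj M) V := by
  intro a
  have e : f ⁻¹ᵁ (Y.basicOpen a) = X.basicOpen ((f.app V).hom a) := Scheme.preimage_basicOpen f a
  have L := RelFPAff.locData (F := M) hU ((f.app V).hom a)
    ((Opens.map f.base).map (homOfLE (Y.basicOpen_le a))) e
  have hnat : ∀ x : Γ(Y, V),
      (X.presheaf.map ((Opens.map f.base).map (homOfLE (Y.basicOpen_le a))).op).hom
          ((f.app V).hom x) =
        (f.app (Y.basicOpen a)).hom ((Y.presheaf.map (homOfLE (Y.basicOpen_le a)).op).hom x) := by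
    intro x
    have := congrArg (fun φ => φ.hom x) (f.naturality (homOfLE (Y.basicOpen_le a)).op)
    exact this.symm
  refine ⟨hV.isLocalization_basicOpen a, fun x m => Scheme.Modules.map_smul _ _ x m, ?_, ?_⟩
  · intro m'
    obtain ⟨n, m, hm⟩ := L.surj m'
    refine ⟨n, m, ?_⟩
    rw [hnat, ← map_pow] at hm
    exact hm
  · intro m hm
    obtain ⟨n, hn⟩ := L.ker m hm
    refine ⟨n, ?_⟩
    rw [← map_pow] at hn
    exact hn

/-- A sheaf of modules with vanishing stalks on `W` has no nonzero sections over `W`. -/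
theorem subsingleton_sections (F : X.Modules) (W : X.Opens)
    (h : ∀ x ∈ W, Subsingleton (F.presheaf.stalk x)) : Subsingleton Γ(F, W) := by
  refine ⟨fun s t => ?_⟩
  refine TopCat.Presheaf.section_ext ⟨F.presheaf, F.isSheaf⟩ W s t (fun x hx => ?_)
  exact @Subsingleton.elim _ (h x hx) _ _

theorem locOnU_of_subsingleton (N : X.Modules) {V : X.Opens} (hV : IsAffineOpen V)
    (h : ∀ W : X.Opens, W ≤ V → Subsingleton Γ(N, W)) : LocOnU N V := by
  intro a
  haveI := h V le_rfl
  haveI := h (X.basicOpen a) (X.basicOpen_le a)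
  exact ⟨hV.isLocalization_basicOpen a, fun x m => Scheme.Modules.map_smul _ _ x m,
    fun m' => ⟨0, 0, Subsingleton.elim _ _⟩, fun m _ => ⟨0, Subsingleton.elim _ _⟩⟩

theorem ι_app_bijective (U V : X.Opens) (hVU : V ≤ U) :
    Function.Bijective (U.ι.app V).hom := by
  have e : U.ι ''ᵁ U.ι ⁻¹ᵁ V = V := by
    rw [Scheme.Hom.image_preimage_eq_opensRange_inf, Scheme.Opens.opensRange_ι,
      inf_eq_right.mpr hVU]
  haveI : IsIso (homOfLE (x := U.ι ''ᵁ U.ι ⁻¹ᵁ V) (y := V) e.le) :=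
    ⟨⟨homOfLE e.ge, Subsingleton.elim _ _, Subsingleton.elim _ _⟩⟩
  haveI : IsIso (U.ι.app V) := by
    rw [Scheme.Opens.ι_app]
    haveI : IsIso (homOfLE (x := U.ι ''ᵁ U.ι ⁻¹ᵁ V) (y := V) e.le).op := inferInstance
    exact Functor.map_isIso X.presheaf (homOfLE (x := U.ι ''ᵁ U.ι ⁻¹ᵁ V) (y := V) e.le).op
  exact ConcreteCategory.bijective_of_isIso (U.ι.app V)

/-- Localizing a bijection. -/
theorem bijective_of_locData {A A' : Type u} [CommRing A] [CommRing A'] {ρ : A →+* A'} {a : A}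
    {M₁ M₁' M₂ M₂' : Type u} [AddCommGroup M₁] [Module A M₁] [AddCommGroup M₁'] [Module A' M₁']
    [AddCommGroup M₂] [Module A M₂] [AddCommGroup M₂'] [Module A' M₂']
    {l₁ : M₁ →+ M₁'} {l₂ : M₂ →+ M₂'} (h₁ : RelFPKit.LocData ρ a l₁)
    (h₂ : RelFPKit.LocData ρ a l₂) (f : M₁ →+ M₂) (f' : M₁' →+ M₂')
    (hf : ∀ (x : A) (m : M₁), f (x • m) = x • f m)
    (hf' : ∀ (x : A') (m : M₁'), f' (x • m) = x • f' m) (comm : ∀ m, f' (l₁ m) = l₂ (f m))
    (hbij : Function.Bijective f) : Function.Bijective f' := by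
  have hu : IsUnit (ρ a) := by
    letI := ρ.toAlgebra
    haveI : IsLocalization.Away a A' := h₁.isLoc
    exact IsLocalization.Away.algebraMap_isUnit a
  constructor
  · rw [injective_iff_map_eq_zero]
    intro m' hm'
    obtain ⟨n, m, hnm⟩ := h₁.surj m'
    have h1 : l₂ (f m) = 0 := by
      rw [← comm, ← hnm, hf', hm', smul_zero]
    obtain ⟨k, hk⟩ := h₂.ker _ h1
    have h2 : a ^ k • m = 0 := by
      apply hbij.1
      rw [hf, hk, map_zero]
    have h3 : ρ a ^ (k + n) • m' = 0 := by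
      rw [pow_add, mul_smul, hnm, ← map_pow, ← h₁.smul, h2, map_zero]
    exact ((hu.pow (k + n)).smul_eq_zero).mp h3
  · intro m₂'
    obtain ⟨n, m₂, hnm⟩ := h₂.surj m₂'
    obtain ⟨m₁, rfl⟩ := hbij.2 m₂
    obtain ⟨v, hv⟩ := (hu.pow n)
    refine ⟨(↑v⁻¹ : A') • l₁ m₁, ?_⟩
    rw [hf', comm, ← hnm, ← hv, ← mul_smul, Units.inv_mul, one_smul]

set_option backward.isDefEq.respectTransparency false in
/-- A morphism of `𝒪_X`-modules which is an isomorphism on a basis of opens is an isomorphism. -/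
theorem isIso_of_isIso_app_basis {M N : X.Modules} (φ : M ⟶ N) {ι : Type*} (B : ι → X.Opens)
    (hB : Opens.IsBasis (Set.range B)) (h : ∀ i, IsIso (φ.app (B i))) : IsIso φ := by
  let F' : TopCat.Sheaf Ab X := ⟨M.presheaf, M.isSheaf⟩
  let G' : TopCat.Sheaf Ab X := ⟨N.presheaf, N.isSheaf⟩
  let ψ : F' ⟶ G' := ⟨φ.mapPresheaf⟩
  haveI : IsIso ψ := TopCat.Sheaf.isIso_iff_isIso_basis (B := B) hB (fun i => h i)
  have h1 : IsIso ((sheafToPresheaf _ _).map ψ) := inferInstance
  rw [← isIso_iff_of_reflects_iso _ (Scheme.Modules.toPresheaf X)]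
  exact h1

theorem app_naturality {M N : X.Modules} (φ : M ⟶ N) {U V : X.Opens} (i : V ⟶ U) (m : Γ(M, U)) :
    φ.app V (M.presheaf.map i.op m) = N.presheaf.map i.op (φ.app U m) := by
  have := congrArg (fun ψ => ψ.hom m) (φ.mapPresheaf.naturality i.op)
  exact this

/-- A morphism of quasi-coherent modules which is bijective on sections over an affine open
cover is an isomorphism. -/
theorem isIso_of_bijective_on_cover {A B : X.Modules} [A.IsQuasicoherent] [B.IsQuasicoherent]
    (φ : A ⟶ B) {ι : Type u} (𝒰 : ι → X.Opens) (h𝒰 : ∀ i, IsAffineOpen (𝒰 i))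
    (hcov : ⨆ i, 𝒰 i = ⊤) (h : ∀ i, Function.Bijective (φ.app (𝒰 i))) : IsIso φ := by
  let Bs : (Σ i, Γ(X, 𝒰 i)) → X.Opens := fun p => X.basicOpen p.2
  have hB : Opens.IsBasis (Set.range Bs) := by
    rw [Opens.isBasis_iff_nbhd]
    intro W x hxW
    have hx : x ∈ (⨆ i, 𝒰 i) := by rw [hcov]; trivial
    obtain ⟨i, hxi⟩ := Opens.mem_iSup.mp hx
    obtain ⟨a, ha, hxa⟩ := (h𝒰 i).exists_basicOpen_le (V := W ⊓ 𝒰 i) ⟨x, ⟨hxW, hxi⟩⟩ hxi
    exact ⟨_, ⟨⟨i, a⟩, rfl⟩, hxa, ha.trans inf_le_left⟩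
  refine isIso_of_isIso_app_basis φ Bs hB (fun p => ?_)
  have hbij : Function.Bijective (φ.app (X.basicOpen p.2)) := by
    have L₁ := RelFPAff.locData (F := A) (h𝒰 p.1) p.2 (homOfLE (X.basicOpen_le p.2)) rfl
    have L₂ := RelFPAff.locData (F := B) (h𝒰 p.1) p.2 (homOfLE (X.basicOpen_le p.2)) rfl
    exact bijective_of_locData L₁ L₂ (φ.app (𝒰 p.1)).hom (φ.app (X.basicOpen p.2)).hom
      (fun x m => Scheme.Modules.Hom.app_smul φ x m)
      (fun x m => Scheme.Modules.Hom.app_smul φ x m)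
      (fun m => app_naturality φ (homOfLE (X.basicOpen_le p.2)) m) (h p.1)
  exact (ConcreteCategory.isIso_iff_bijective _).mpr hbij

/-- **ACC** for quasi-coherent submodules of a coherent module on a Noetherian scheme. -/
theorem acc_qcoh_subobjects (X : Scheme.{u}) [IsNoetherian X] (M : X.Modules)
    [M.IsQuasicoherent] [SheafOfModules.IsFiniteType (R := X.ringCatSheaf) M]
    (F : ℕ →o Subobject M) (hF : ∀ n, ((F n : Subobject M) : X.Modules).IsQuasicoherent) :
    ∃ n : ℕ, ∀ m : ℕ, n ≤ m → F m = F n := by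
  -- a finite affine cover
  obtain ⟨t, ht⟩ := isCompact_univ.elim_finite_subcover
    (fun U : X.affineOpens => ((U : X.Opens) : Set X)) (fun U => U.1.isOpen)
    (fun x _ => by
      have hx : x ∈ (⨆ V : X.affineOpens, (V : X.Opens)) := by
        rw [iSup_affineOpens_eq_top]; trivial
      obtain ⟨V, hV⟩ := Opens.mem_iSup.mp hx
      exact Set.mem_iUnion.mpr ⟨V, hV⟩)
  let ι : Type u := {U : X.affineOpens // U ∈ t}
  let 𝒰 : ι → X.Opens := fun i => i.1.1
  have h𝒰 : ∀ i, IsAffineOpen (𝒰 i) := fun i => i.1.2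
  have hcov : ⨆ i, 𝒰 i = ⊤ := by
    refine eq_top_iff.mpr (fun x _ => ?_)
    obtain ⟨U, hU, hx⟩ := Set.mem_iUnion₂.mp (ht (Set.mem_univ x))
    exact Opens.mem_iSup.mpr ⟨⟨U, hU⟩, hx⟩
  -- the chains of submodules
  have hcomp : ∀ {k l : ℕ} (hkl : k ≤ l) (U : X.Opens) (x : Γ((F k : X.Modules), U)),
      (F k).arrow.app U x =
        (F l).arrow.app U ((Subobject.ofLE (F k) (F l) (F.monotone hkl)).app U x) := by
    intro k l hkl U x
    have := congrArg (fun φ => Scheme.Modules.Hom.app φ U x)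
      (Subobject.ofLE_arrow (F.monotone hkl)).symm
    exact this
  have hmono : ∀ U : X.Opens, Monotone (fun k => LinearMap.range (RelFPAff.appₗ (F k).arrow U)) := by
    intro U k l hkl
    rintro _ ⟨x, rfl⟩
    exact ⟨(Subobject.ofLE (F k) (F l) (F.monotone hkl)).app U x, (hcomp hkl U x).symm⟩
  have hstab : ∀ U : X.affineOpens, ∃ n, ∀ m, n ≤ m →
      LinearMap.range (RelFPAff.appₗ (F n).arrow U.1) =
        LinearMap.range (RelFPAff.appₗ (F m).arrow U.1) := by
    intro U
    haveI : IsNoetherianRing Γ(X, U.1) := IsLocallyNoetherian.component_noetherian U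
    haveI : Module.Finite Γ(X, U.1) Γ(M, U.1) := QCohFT.finite_of_isFiniteType M U.2
    haveI : IsNoetherian Γ(X, U.1) Γ(M, U.1) := isNoetherian_of_isNoetherianRing_of_finite _ _
    exact monotone_stabilizes_iff_noetherian.mpr inferInstance
      ⟨fun k => LinearMap.range (RelFPAff.appₗ (F k).arrow U.1), hmono U.1⟩
  choose n hn using hstab
  refine ⟨t.sup n, fun m hm => ?_⟩
  let φ := Subobject.ofLE (F (t.sup n)) (F m) (F.monotone hm)
  haveI := hF (t.sup n)
  haveI := hF m
  haveI : IsIso φ := by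
    refine isIso_of_bijective_on_cover φ 𝒰 h𝒰 hcov (fun i => ⟨?_, ?_⟩)
    · exact QCohExact.app_injective_of_mono φ _
    · intro y
      have hle : n i.1 ≤ t.sup n := Finset.le_sup (f := n) i.2
      have hmem : (F m).arrow.app (𝒰 i) y ∈
          LinearMap.range (RelFPAff.appₗ (F (t.sup n)).arrow (𝒰 i)) := by
        rw [← hn i.1 (t.sup n) hle, hn i.1 m (hle.trans hm)]
        exact ⟨y, rfl⟩
      obtain ⟨x, hx⟩ := hmem
      refine ⟨x, ?_⟩
      apply QCohExact.app_injective_of_mono (F m).arrow (𝒰 i)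
      exact (hcomp hm (𝒰 i) x).symm.trans hx
  refine le_antisymm ?_ (F.monotone hm)
  refine Subobject.le_of_comm (inv φ) ?_
  rw [IsIso.inv_comp_eq]
  exact (Subobject.ofLE_arrow (F.monotone hm)).symm

end QCohCrit
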