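import Mathlib
import Groth.Agent.Lib.QCohLoc_helper4
import Groth.Prelude.Def_Coh

/-!
# Extending sections of quasi-coherent modules from `X_f` (helper1)

For a quasi-compact quasi-separated scheme `X`, `f ∈ Γ(X, O_X)`, `F` quasi-coherent,
and `t ∈ Γ(X_f, F)`, some `f^n t` extends to a global section.
-/

set_option autoImplicit false
universe u

namespace Groth.Agent.Lib.QCohExtH1

open AlgebraicGeometry CategoryTheory TopologicalSpace Opposite
open Groth.Agent.Lib.QCohLoc_helper4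

section
variable {X : Scheme.{u}} (F : X.Modules)

theorem rF_smul {U V : X.Opens} (h : V ≤ U) (a : Γ(X, U)) (x : Γ(F, U)) :
    F.presheaf.map (homOfLE h).op (a • x) =
      (X.presheaf.map (homOfLE h).op).hom a • F.presheaf.map (homOfLE h).op x :=
  Scheme.Modules.map_smul F (homOfLE h) a x

theorem rF_pow_smul {U V : X.Opens} (h : V ≤ U) (a : Γ(X, U)) (n : ℕ) (x : Γ(F, U)) :
    F.presheaf.map (homOfLE h).op (a ^ n • x) =
      (X.presheaf.map (homOfLE h).op).hom a ^ n • F.presheaf.map (homOfLE h).op x := by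
  rw [rF_smul, map_pow]

theorem rF_rF {U V W : X.Opens} (h1 : V ≤ U) (h2 : W ≤ V) (x : Γ(F, U)) :
    F.presheaf.map (homOfLE h2).op (F.presheaf.map (homOfLE h1).op x) =
      F.presheaf.map (homOfLE (h2.trans h1)).op x := map_map_eq F _ _ _ x

theorem rO_rO {U V W : X.Opens} (h1 : V ≤ U) (h2 : W ≤ V) (a : Γ(X, U)) :
    (X.presheaf.map (homOfLE h2).op).hom ((X.presheaf.map (homOfLE h1).op).hom a) =
      (X.presheaf.map (homOfLE (h2.trans h1)).op).hom a := ring_map_map_eq _ _ _ a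

theorem rF_congr {A B : X.Opensᵒᵖ} (i j : A ⟶ B) (x : F.presheaf.obj A) :
    F.presheaf.map i x = F.presheaf.map j x := by
  have : i = j := Subsingleton.elim _ _
  rw [this]

theorem exists_pow_smul_eq_zero_of_isCompact [F.IsQuasicoherent]
    (U : X.Opens) (hU : IsCompact (U : Set X)) (f : Γ(X, U)) (s : Γ(F, U))
    (hs : F.presheaf.map (homOfLE (X.basicOpen_le f)).op s = 0) :
    ∃ n : ℕ, f ^ n • s = 0 := by
  obtain ⟨S, hS, hcov⟩ := isCompact_iff_finite_and_eq_biUnion_affineOpens.mp hU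
  have hle' : ∀ W : S, (W.1 : X.Opens) ≤ U := fun W =>
    (le_iSup₂ (f := fun (i : X.affineOpens) (_ : i ∈ S) => (i : X.Opens)) W.1 W.2).trans hcov.ge
  have hcov' : U ≤ ⨆ W : S, (W.1 : X.Opens) := by
    intro x hx
    have hx' : x ∈ (⨆ i ∈ S, (i : X.Opens) : X.Opens) := hcov ▸ hx
    simp only [Opens.mem_iSup] at hx' ⊢
    obtain ⟨W, hW, hxW⟩ := hx'
    exact ⟨⟨W, hW⟩, hxW⟩
  have key : ∀ W : S, ∃ n : ℕ, (X.presheaf.map (homOfLE (hle' W)).op).hom f ^ n •
      F.presheaf.map (homOfLE (hle' W)).op s = 0 := by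
    intro W
    have hloc := locOn_of_isQuasicoherent F W.1.2
    apply hloc.ker
    have hbo : X.basicOpen ((X.presheaf.map (homOfLE (hle' W)).op).hom f) ≤ X.basicOpen f :=
      (Scheme.basicOpen_res _ f (homOfLE (hle' W)).op).le.trans inf_le_right
    have h1 := congrArg (F.presheaf.map (homOfLE hbo).op) hs
    rw [map_zero] at h1
    exact (map_map_eq F _ _ (homOfLE ((X.basicOpen_le _).trans (hle' W))).op s).trans
      ((map_map_eq F _ _ _ s).symm.trans h1)
  choose nfun hn using key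
  have : Finite S := hS.to_subtype
  haveI : Fintype S := Fintype.ofFinite S
  refine ⟨Finset.univ.sup nfun, ?_⟩
  refine TopCat.Sheaf.eq_of_locally_eq' ⟨F.presheaf, F.isSheaf⟩
    (fun W : S => (W.1 : X.Opens)) U (fun W => homOfLE (hle' W)) hcov' _ 0 ?_
  intro W
  rw [map_zero]
  have h1 : F.presheaf.map (homOfLE (hle' W)).op (f ^ (Finset.univ.sup nfun) • s) =
      (X.presheaf.map (homOfLE (hle' W)).op).hom (f ^ (Finset.univ.sup nfun)) •
        F.presheaf.map (homOfLE (hle' W)).op s :=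
    Scheme.Modules.map_smul F (homOfLE (hle' W)) _ s
  have hle2 : nfun W ≤ Finset.univ.sup nfun := Finset.le_sup (Finset.mem_univ W)
  refine h1.trans ?_
  rw [map_pow, ← Nat.sub_add_cancel hle2, pow_add, mul_smul, hn W, smul_zero]

variable (f : Γ(X, ⊤))

/-- restriction of a global function to an open -/
noncomputable def fRes (V : X.Opens) : Γ(X, V) :=
  (X.presheaf.map (homOfLE (le_top : V ≤ ⊤)).op).hom f

theorem fRes_res {V V' : X.Opens} (h : V' ≤ V) :
    (X.presheaf.map (homOfLE h).op).hom (fRes f V) = fRes f V' := rO_rO _ _ f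

theorem basicOpen_fRes (V : X.Opens) : X.basicOpen (fRes f V) = V ⊓ X.basicOpen f :=
  Scheme.basicOpen_res _ f _

theorem basicOpen_fRes_le (V : X.Opens) : X.basicOpen (fRes f V) ≤ X.basicOpen f :=
  (basicOpen_fRes f V).le.trans inf_le_right

theorem basicOpen_fRes_mono {V V' : X.Opens} (h : V' ≤ V) :
    X.basicOpen (fRes f V') ≤ X.basicOpen (fRes f V) := by
  rw [basicOpen_fRes, basicOpen_fRes]
  exact inf_le_inf_right _ h

variable {f}

/-- `u` extends `f^N t` on `V` -/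
def IsExt (t : Γ(F, X.basicOpen f)) (N : ℕ) (V : X.Opens) (u : Γ(F, V)) : Prop :=
  F.presheaf.map (homOfLE (X.basicOpen_le (fRes f V))).op u =
    F.presheaf.map (homOfLE (basicOpen_fRes_le f V)).op (fRes f (X.basicOpen f) ^ N • t)

variable {F}
variable {t : Γ(F, X.basicOpen f)}

theorem IsExt.res {N : ℕ} {V V' : X.Opens} {u : Γ(F, V)} (hu : IsExt F t N V u) (h : V' ≤ V) :
    IsExt F t N V' (F.presheaf.map (homOfLE h).op u) := by
  unfold IsExt at hu ⊢
  rw [rF_rF]
  have h1 := congrArg (F.presheaf.map (homOfLE (basicOpen_fRes_mono f h)).op) hu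
  rw [rF_rF, rF_rF] at h1
  exact h1

theorem IsExt.smul {N : ℕ} {V : X.Opens} {u : Γ(F, V)} (hu : IsExt F t N V u) (k : ℕ) :
    IsExt F t (N + k) V (fRes f V ^ k • u) := by
  unfold IsExt at hu ⊢
  rw [rF_pow_smul, hu, fRes_res, ← fRes_res f (basicOpen_fRes_le f V), ← rF_pow_smul,
    ← mul_smul, ← pow_add, add_comm]

theorem IsExt.sub_zero {N : ℕ} {V : X.Opens} {u u' : Γ(F, V)} (hu : IsExt F t N V u)
    (hu' : IsExt F t N V u') :
    F.presheaf.map (homOfLE (X.basicOpen_le (fRes f V))).op (u - u') = 0 := by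
  unfold IsExt at hu hu'
  rw [map_sub, hu, hu', sub_self]

theorem exists_isExt_of_isAffineOpen [F.IsQuasicoherent] (t : Γ(F, X.basicOpen f))
    {V : X.Opens} (hV : IsAffineOpen V) :
    ∃ (n : ℕ) (u : Γ(F, V)), IsExt F t n V u := by
  obtain ⟨n, u, hu⟩ := exists_res_eq_pow_smul F hV (fRes f V)
    (F.presheaf.map (homOfLE (basicOpen_fRes_le f V)).op t)
  refine ⟨n, u, ?_⟩
  unfold IsExt
  rw [hu, fRes_res, ← fRes_res f (basicOpen_fRes_le f V), ← rF_pow_smul]

theorem eq_of_isExt {ι : Type*} (O : ι → X.Opens) (hcov : (⊤ : X.Opens) ≤ ⨆ i, O i)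
    (n : ℕ) (s : Γ(F, ⊤))
    (hs : ∀ i, IsExt F t n (O i) (F.presheaf.map (homOfLE (le_top : O i ≤ ⊤)).op s)) :
    F.presheaf.map (homOfLE (le_top : X.basicOpen f ≤ ⊤)).op s =
      fRes f (X.basicOpen f) ^ n • t := by
  have hcov' : X.basicOpen f ≤ ⨆ i, X.basicOpen (fRes f (O i)) := by
    intro x hx
    have hx' : x ∈ (⨆ i, O i : X.Opens) := hcov (by trivial)
    simp only [Opens.mem_iSup] at hx' ⊢
    obtain ⟨i, hi⟩ := hx'
    refine ⟨i, ?_⟩
    rw [basicOpen_fRes]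
    exact ⟨hi, hx⟩
  refine TopCat.Sheaf.eq_of_locally_eq' ⟨F.presheaf, F.isSheaf⟩
    (fun i => X.basicOpen (fRes f (O i))) (X.basicOpen f)
    (fun i => homOfLE (basicOpen_fRes_le f (O i))) hcov' _ _ ?_
  intro i
  have h := hs i
  unfold IsExt at h
  rw [rF_rF] at h
  exact (rF_rF F _ _ s).trans h

theorem extends_aux [QuasiSeparatedSpace X] [F.IsQuasicoherent]
    {ι : Type*} [Fintype ι] (O : ι → X.Opens)
    (hO : ∀ i, IsAffineOpen (O i)) (hcov : (⊤ : X.Opens) ≤ ⨆ i, O i)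
    (t : Γ(F, X.basicOpen f)) :
    ∃ (n : ℕ) (s : Γ(F, ⊤)), F.presheaf.map (homOfLE (le_top : X.basicOpen f ≤ ⊤)).op s =
      fRes f (X.basicOpen f) ^ n • t := by
  classical
  choose n1 u1 hu1 using fun i => exists_isExt_of_isAffineOpen t (hO i)
  set N := Finset.univ.sup n1 with hN
  have hu2' : ∀ i, IsExt F t N (O i) (fRes f (O i) ^ (N - n1 i) • u1 i) := by
    intro i
    have hle : n1 i ≤ N := Finset.le_sup (Finset.mem_univ i)
    have h := (hu1 i).smul (N - n1 i)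
    rwa [Nat.add_sub_cancel' hle] at h
  obtain ⟨u2, hu2⟩ : ∃ u2 : ∀ i, Γ(F, O i), ∀ i, IsExt F t N (O i) (u2 i) := ⟨_, hu2'⟩
  have hcpt : ∀ i j, IsCompact ((O i ⊓ O j : X.Opens) : Set X) := fun i j =>
    QuasiSeparatedSpace.inter_isCompact (O i).1 (O j).1 (O i).2 (hO i).isCompact (O j).2
      (hO j).isCompact
  have key2 : ∀ i j, ∃ m : ℕ, fRes f (O i ⊓ O j) ^ m •
      (F.presheaf.map (homOfLE (inf_le_left : O i ⊓ O j ≤ O i)).op (u2 i) -
        F.presheaf.map (homOfLE (inf_le_right : O i ⊓ O j ≤ O j)).op (u2 j)) = 0 := by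
    intro i j
    exact exists_pow_smul_eq_zero_of_isCompact F _ (hcpt i j) _ _
      (((hu2 i).res inf_le_left).sub_zero ((hu2 j).res inf_le_right))
  choose m2 hm2 using key2
  set M := Finset.univ.sup (fun p : ι × ι => m2 p.1 p.2) with hM
  have hv : ∀ i, IsExt F t (N + M) (O i) (fRes f (O i) ^ M • u2 i) :=
    fun i => (hu2 i).smul M
  have hcompat : TopCat.Presheaf.IsCompatible F.presheaf O
      (fun i => fRes f (O i) ^ M • u2 i) := by
    intro i j
    have hle : m2 i j ≤ M :=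
      Finset.le_sup (f := fun p : ι × ι => m2 p.1 p.2) (Finset.mem_univ (i, j))
    have h1 : F.presheaf.map (homOfLE (inf_le_left : O i ⊓ O j ≤ O i)).op
          (fRes f (O i) ^ M • u2 i) -
        F.presheaf.map (homOfLE (inf_le_right : O i ⊓ O j ≤ O j)).op
          (fRes f (O j) ^ M • u2 j) = 0 := by
      rw [rF_pow_smul, rF_pow_smul, fRes_res, fRes_res, ← smul_sub,
        ← Nat.sub_add_cancel hle, pow_add, mul_smul, hm2 i j, smul_zero]
    have h2 := sub_eq_zero.mp h1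
    exact (rF_congr F _ _ _).trans (h2.trans (rF_congr F _ _ _))
  obtain ⟨s, hs, -⟩ := TopCat.Sheaf.existsUnique_gluing' ⟨F.presheaf, F.isSheaf⟩ O ⊤
    (fun i => homOfLE le_top) hcov _ hcompat
  refine ⟨N + M, s, eq_of_isExt O hcov (N + M) s ?_⟩
  intro i
  have h := hs i
  have h' : F.presheaf.map (homOfLE (le_top : O i ≤ ⊤)).op s =
      fRes f (O i) ^ M • u2 i := h
  rw [h']
  exact hv i

theorem exists_pow_smul_extends [CompactSpace X] [QuasiSeparatedSpace X] [F.IsQuasicoherent]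
    (t : Γ(F, X.basicOpen f)) :
    ∃ (n : ℕ) (s : Γ(F, ⊤)), F.presheaf.map (homOfLE (le_top : X.basicOpen f ≤ ⊤)).op s =
      fRes f (X.basicOpen f) ^ n • t := by
  have hc : IsCompact (X := X) ((⊤ : X.Opens) : Set X) := by simpa using isCompact_univ
  obtain ⟨S, hS, hcov⟩ := isCompact_iff_finite_and_eq_biUnion_affineOpens.mp hc
  have hcov' : (⊤ : X.Opens) ≤ ⨆ W : S, (W.1 : X.Opens) := by
    intro x hx
    have hx' : x ∈ (⨆ i ∈ S, (i : X.Opens) : X.Opens) := hcov ▸ hx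
    simp only [Opens.mem_iSup] at hx' ⊢
    obtain ⟨W, hW, hxW⟩ := hx'
    exact ⟨⟨W, hW⟩, hxW⟩
  have : Finite S := hS.to_subtype
  haveI : Fintype S := Fintype.ofFinite S
  exact extends_aux (fun W : S => (W.1 : X.Opens)) (fun W => W.1.2) hcov' t

end

theorem S4341
    (X : Scheme.{u}) [CompactSpace X] [QuasiSeparatedSpace X] (f : Γ(X, ⊤))
    (F : X.Modules) [Coh.IsQCoh F] (t : F.val.obj (op (X.basicOpen f))) :
    ∃ n : ℕ, 0 < n ∧ ∃ s : F.val.obj (op ⊤),
      (F.val.map (homOfLE (le_top : X.basicOpen f ≤ ⊤)).op).hom s =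
        (show X.ringCatSheaf.obj.obj (op (X.basicOpen f)) from
          X.presheaf.map (homOfLE (le_top : X.basicOpen f ≤ ⊤)).op f) ^ n • t := by
  haveI : F.IsQuasicoherent := ‹Coh.IsQCoh F›
  obtain ⟨n, s, hs⟩ := exists_pow_smul_extends (F := F) (f := f) (show Γ(F, X.basicOpen f) from t)
  refine ⟨n + 1, Nat.succ_pos _, (f • s : Γ(F, ⊤)), ?_⟩
  have h1 : F.presheaf.map (homOfLE (le_top : X.basicOpen f ≤ ⊤)).op (f • s) =
      fRes f (X.basicOpen f) ^ (n + 1) • (show Γ(F, X.basicOpen f) from t) := by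
    rw [rF_smul, hs, pow_succ', mul_smul]
    rfl
  exact h1

end Groth.Agent.Lib.QCohExtH1
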