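import Mathlib
import Groth.Prelude.Def_CohB1
import Groth.Agent.Lib.QCohFT_helper9
import Groth.Agent.Lib.QCohLoc_helper4
import Groth.Agent.Lib.QCohExact_helper9
import Groth.Agent.Lib.QCohCrit2_helper9

/-!
# Supports of quasi-coherent modules

* `SupportCoh.support_shortExact`: the support of the middle term of a short exact sequence is
  the union of the supports of the outer terms (for quasi-coherent modules).
* `SupportCoh.isClosed_support`: the support of a quasi-coherent module of finite type is closed.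
-/

universe u

open CategoryTheory CategoryTheory.Limits AlgebraicGeometry Opposite TopologicalSpace
open Groth.Agent.Lib.QCohLoc_helper4

namespace SupportCoh

variable {X : Scheme.{u}}

theorem subsingleton_stalk_iff (M : X.Modules) (x : X) :
    Subsingleton (M.presheaf.stalk x) ↔
      ∀ (U : X.Opens) (hx : x ∈ U) (s : Γ(M, U)), M.presheaf.germ U x hx s = 0 := by
  constructor
  · intro h U hx s
    exact Subsingleton.elim _ _
  · intro h
    refine subsingleton_of_forall_eq 0 (fun t => ?_)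
    obtain ⟨U, hx, s, rfl⟩ := TopCat.Presheaf.exists_germ_eq M.presheaf t
    exact h U hx s

theorem exists_res_eq_zero (M : X.Modules) {U : X.Opens} {x : X} (hx : x ∈ U) (s : Γ(M, U))
    (h : M.presheaf.germ U x hx s = 0) :
    ∃ (W : X.Opens) (_ : x ∈ W) (i : W ⟶ U), M.presheaf.map i.op s = 0 := by
  have h' : M.presheaf.germ U x hx s = M.presheaf.germ U x hx 0 := by rw [h, map_zero]
  obtain ⟨W, hxW, iU, iV, hW⟩ := TopCat.Presheaf.germ_eq M.presheaf x hx hx s 0 h'
  rw [map_zero] at hW
  exact ⟨W, hxW, iU, hW⟩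

theorem germ_eq_zero_of_res (M : X.Modules) {U W : X.Opens} {x : X} (hxW : x ∈ W) (i : W ⟶ U)
    (s : Γ(M, U)) (h : M.presheaf.map i.op s = 0) :
    M.presheaf.germ U x (i.le hxW) s = 0 := by
  rw [← TopCat.Presheaf.germ_res_apply M.presheaf i x hxW s, h, map_zero]

theorem subsingleton_stalk_X₂ (E : ShortComplex X.Modules) (hE : E.ShortExact) (x : X)
    (h₁ : Subsingleton (E.X₁.presheaf.stalk x)) (h₃ : Subsingleton (E.X₃.presheaf.stalk x)) :
    Subsingleton (E.X₂.presheaf.stalk x) := by
  haveI := hE.mono_f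
  rw [subsingleton_stalk_iff]
  intro U hx s
  obtain ⟨W, hxW, i, hW⟩ := exists_res_eq_zero E.X₃ hx (E.g.app U s) (Subsingleton.elim _ _)
  have h1 : E.g.app W (E.X₂.presheaf.map i.op s) = 0 := by
    rw [QCohCrit.app_naturality]
    exact hW
  obtain ⟨y, hy⟩ := QCohExact.app_exact E hE.exact W _ h1
  obtain ⟨W', hxW', i', hW'⟩ := exists_res_eq_zero E.X₁ hxW y (Subsingleton.elim _ _)
  have h2 : E.X₂.presheaf.map i'.op (E.X₂.presheaf.map i.op s) = 0 := by
    rw [← hy, ← QCohCrit.app_naturality, hW', map_zero]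
  have h3 := germ_eq_zero_of_res E.X₂ hxW' i' _ h2
  rw [TopCat.Presheaf.germ_res_apply] at h3
  exact h3

theorem subsingleton_stalk_X₁ (E : ShortComplex X.Modules) (hE : E.ShortExact) (x : X)
    (h₂ : Subsingleton (E.X₂.presheaf.stalk x)) : Subsingleton (E.X₁.presheaf.stalk x) := by
  haveI := hE.mono_f
  rw [subsingleton_stalk_iff]
  intro U hx y
  obtain ⟨W, hxW, i, hW⟩ := exists_res_eq_zero E.X₂ hx (E.f.app U y) (Subsingleton.elim _ _)
  have h1 : E.f.app W (E.X₁.presheaf.map i.op y) = 0 := by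
    rw [QCohCrit.app_naturality]
    exact hW
  have h2 : E.X₁.presheaf.map i.op y = 0 :=
    QCohExact.app_injective_of_mono E.f W (h1.trans (map_zero _).symm)
  exact germ_eq_zero_of_res E.X₁ hxW i y h2

theorem subsingleton_stalk_X₃ (E : ShortComplex X.Modules) (hE : E.ShortExact)
    [E.X₂.IsQuasicoherent] [E.X₃.IsQuasicoherent] (x : X)
    (h₂ : Subsingleton (E.X₂.presheaf.stalk x)) : Subsingleton (E.X₃.presheaf.stalk x) := by
  haveI := hE.epi_g
  rw [subsingleton_stalk_iff]
  intro U hx z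
  obtain ⟨V, hV, hxV, hVU⟩ := Opens.isBasis_iff_nbhd.mp X.isBasis_affineOpens hx
  obtain ⟨s, hs⟩ := QCohExact.app_surjective_of_epi E.g hV
    (E.X₃.presheaf.map (homOfLE hVU).op z)
  obtain ⟨W, hxW, i, hW⟩ := exists_res_eq_zero E.X₂ hxV s (Subsingleton.elim _ _)
  have h1 : E.X₃.presheaf.map i.op (E.X₃.presheaf.map (homOfLE hVU).op z) = 0 := by
    rw [← hs, ← QCohCrit.app_naturality, hW, map_zero]
  have h3 := germ_eq_zero_of_res E.X₃ hxW i _ h1
  rw [TopCat.Presheaf.germ_res_apply] at h3
  exact h3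

theorem support_shortExact (E : ShortComplex X.Modules) (hE : E.ShortExact)
    [E.X₂.IsQuasicoherent] [E.X₃.IsQuasicoherent] :
    CohB1.support E.X₂ = CohB1.support E.X₁ ∪ CohB1.support E.X₃ := by
  ext x
  simp only [CohB1.support, Set.mem_union, Set.mem_ofPred_eq]
  constructor
  · intro h
    by_contra hc
    rw [not_or, not_not, not_not] at hc
    exact h (subsingleton_stalk_X₂ E hE x hc.1 hc.2)
  · rintro (h | h) h₂
    · exact h (subsingleton_stalk_X₁ E hE x h₂)
    · exact h (subsingleton_stalk_X₃ E hE x h₂)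

theorem isClosed_support (M : X.Modules) [M.IsQuasicoherent]
    [SheafOfModules.IsFiniteType (R := X.ringCatSheaf) M] : IsClosed (CohB1.support M) := by
  classical
  rw [← isOpen_compl_iff, isOpen_iff_forall_mem_open]
  intro x hx
  have hx0 : Subsingleton (M.presheaf.stalk x) := by
    by_contra h
    exact hx h
  obtain ⟨U, hU, hxU, -⟩ := Opens.isBasis_iff_nbhd.mp X.isBasis_affineOpens (Opens.mem_top x)
  have hL := locOn_of_isQuasicoherent M hU
  haveI : Module.Finite Γ(X, U) Γ(M, U) := QCohFT.finite_of_isFiniteType M hU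
  obtain ⟨S, hS⟩ := (Module.Finite.fg_top : (⊤ : Submodule Γ(X, U) Γ(M, U)).FG)
  have key : ∀ T : Finset Γ(M, U), ∃ g : Γ(X, U), x ∈ X.basicOpen g ∧ ∀ m ∈ T, g • m = 0 := by
    intro T
    induction T using Finset.induction_on with
    | empty =>
      refine ⟨1, ?_, by simp⟩
      rw [Scheme.basicOpen_of_isUnit _ isUnit_one]
      exact hxU
    | insert a T ha ih =>
      obtain ⟨g, hg, hgT⟩ := ih
      obtain ⟨g', hg', hg'a⟩ := hL.exists_smul_eq_zero_of_germ_eq_zero hU hxU a
        (Subsingleton.elim _ _)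
      refine ⟨g' * g, ?_, ?_⟩
      · rw [Scheme.basicOpen_mul]
        exact ⟨hg', hg⟩
      · intro m hm
        rcases Finset.mem_insert.mp hm with rfl | hm
        · rw [mul_comm, mul_smul, hg'a, smul_zero]
        · rw [mul_smul, hgT m hm, smul_zero]
  obtain ⟨g, hxg, hg⟩ := key S
  have hall : ∀ m : Γ(M, U), g • m = 0 := by
    intro m
    have hm : m ∈ Submodule.span Γ(X, U) (S : Set Γ(M, U)) := by rw [hS]; trivial
    refine Submodule.span_induction (p := fun m _ => g • m = 0) ?_ ?_ ?_ ?_ hm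
    · intro m hm
      exact hg m hm
    · exact smul_zero g
    · intro a b _ _ ha hb
      rw [smul_add, ha, hb, add_zero]
    · intro c a _ ha
      rw [smul_comm, ha, smul_zero]
  refine ⟨(X.basicOpen g : Set X), ?_, (X.basicOpen g).isOpen, hxg⟩
  intro y hy hns
  have hyU : y ∈ U := X.basicOpen_le g hy
  apply hns
  refine subsingleton_of_forall_eq 0 (fun z => ?_)
  obtain ⟨g', t, hyg', ht⟩ := hL.exists_germ_eq_smul hU hyU z
  have hu : IsUnit (X.presheaf.germ U y hyU g) := (Scheme.mem_basicOpen _ _ _ hyU).mp hy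
  have hu' : IsUnit (X.presheaf.germ U y hyU g') := (Scheme.mem_basicOpen _ _ _ hyU).mp hyg'
  have h0 : M.presheaf.germ U y hyU t = 0 := by
    have := germ_smul M U y hyU g t
    rw [hall t, map_zero] at this
    exact (hu.smul_eq_zero).mp this.symm
  rw [h0] at ht
  exact (hu'.smul_eq_zero).mp ht.symm

end SupportCoh
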