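import Mathlib
import Groth.Prelude.Def_CohB1
import Groth.Agent.Lib.QCohExt_helper1
import Groth.Agent.Lib.QCohCrit2_helper9
import Groth.Agent.Lib.SupportCoh_helper9

/-!
# Sections of quasi-coherent modules over `U_a` for a quasi-compact quasi-separated open `U`

For a quasi-coherent module `F`, a quasi-compact quasi-separated open `U` and `a ∈ Γ(X, U)`:
every section of `F` over `D(a) ⊆ U` becomes, after multiplication by a power of `a`, the restriction
of a section over `U` (`QcqsLoc.surj_of_qcqs`), and a section over `U` vanishing on `D(a)` is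
killed by a power of `a` (`QcqsLoc.ker_of_isCompact`).  Consequence: the direct image of a
quasi-coherent module along a quasi-compact quasi-separated morphism is quasi-coherent
(`QcqsLoc.isQuasicoherent_pushforward_qcqs`).
-/

universe u

open CategoryTheory CategoryTheory.Limits AlgebraicGeometry Opposite TopologicalSpace
open Groth.Agent.Lib.QCohLoc_helper4

namespace QcqsLoc

variable {X : Scheme.{u}}

/-- Restriction of sections of `F`. -/
noncomputable abbrev rF (F : X.Modules) {V W : X.Opens} (h : V ≤ W) : Γ(F, W) →+ Γ(F, V) :=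
  (F.presheaf.map (homOfLE h).op).hom

/-- Restriction of functions. -/
noncomputable abbrev rX {V W : X.Opens} (h : V ≤ W) : Γ(X, W) →+* Γ(X, V) :=
  (X.presheaf.map (homOfLE h).op).hom

section basics

variable (F : X.Modules)

theorem rF_rF {V W Z : X.Opens} (h₁ : V ≤ W) (h₂ : W ≤ Z) (t : Γ(F, Z)) :
    rF F h₁ (rF F h₂ t) = rF F (h₁.trans h₂) t :=
  map_map_eq F (homOfLE h₂).op (homOfLE h₁).op (homOfLE (h₁.trans h₂)).op t

theorem rX_rX {V W Z : X.Opens} (h₁ : V ≤ W) (h₂ : W ≤ Z) (r : Γ(X, Z)) :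
    rX h₁ (rX h₂ r) = rX (h₁.trans h₂) r :=
  ring_map_map_eq (homOfLE h₂).op (homOfLE h₁).op (homOfLE (h₁.trans h₂)).op r

theorem rF_smul {V W : X.Opens} (h : V ≤ W) (r : Γ(X, W)) (t : Γ(F, W)) :
    rF F h (r • t) = rX h r • rF F h t :=
  Scheme.Modules.map_smul F (homOfLE h) r t

theorem rF_pow_smul {V W : X.Opens} (h : V ≤ W) (r : Γ(X, W)) (n : ℕ) (t : Γ(F, W)) :
    rF F h (r ^ n • t) = rX h r ^ n • rF F h t := by
  rw [rF_smul, map_pow]

theorem basicOpen_rX {V W : X.Opens} (h : V ≤ W) (a : Γ(X, W)) :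
    X.basicOpen (rX h a) = V ⊓ X.basicOpen a :=
  Scheme.basicOpen_res X a (homOfLE h).op

theorem eq_zero_of_cover {U : X.Opens} (s : Γ(F, U))
    (h : ∀ x ∈ U, ∃ (W : X.Opens) (hW : W ≤ U), x ∈ W ∧ rF F hW s = 0) : s = 0 := by
  refine TopCat.Presheaf.section_ext ⟨F.presheaf, F.isSheaf⟩ U s 0 (fun x hx => ?_)
  obtain ⟨W, hW, hxW, h0⟩ := h x hx
  have h3 := SupportCoh.germ_eq_zero_of_res F hxW (homOfLE hW) s h0
  exact h3.trans (map_zero _).symm

theorem eq_of_cover {U : X.Opens} (s t : Γ(F, U))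
    (h : ∀ x ∈ U, ∃ (W : X.Opens) (hW : W ≤ U), x ∈ W ∧ rF F hW s = rF F hW t) : s = t := by
  rw [← sub_eq_zero]
  apply eq_zero_of_cover
  intro x hx
  obtain ⟨W, hW, hxW, h0⟩ := h x hx
  exact ⟨W, hW, hxW, by rw [map_sub, h0, sub_self]⟩

end basics

section Ext

variable (F : X.Modules) {U : X.Opens} (a : Γ(X, U))

/-- `u ∈ Γ(F, W)` agrees with `a^N t` on `W ∩ D(a)`. -/
def IsExt (t : Γ(F, X.basicOpen a)) (N : ℕ) {W : X.Opens} (u : Γ(F, W)) : Prop :=
  rF F (inf_le_left : W ⊓ X.basicOpen a ≤ W) u =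
    rF F (inf_le_right : W ⊓ X.basicOpen a ≤ X.basicOpen a) (rX (X.basicOpen_le a) a ^ N • t)

variable {F a}
variable {t : Γ(F, X.basicOpen a)}

theorem IsExt.res {N : ℕ} {W W' : X.Opens} {u : Γ(F, W)} (hu : IsExt F a t N u) (h : W' ≤ W) :
    IsExt F a t N (rF F h u) := by
  unfold IsExt at hu ⊢
  have hle : W' ⊓ X.basicOpen a ≤ W ⊓ X.basicOpen a := inf_le_inf_right _ h
  have h1 := congrArg (rF F hle) hu
  rw [rF_rF, rF_rF] at h1
  rw [rF_rF]
  exact h1

theorem IsExt.smul {N : ℕ} {W : X.Opens} {u : Γ(F, W)} (hu : IsExt F a t N u) (hW : W ≤ U)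
    (k : ℕ) : IsExt F a t (k + N) (rX hW a ^ k • u) := by
  unfold IsExt at hu ⊢
  have hl : W ⊓ X.basicOpen a ≤ W := inf_le_left
  have hr : W ⊓ X.basicOpen a ≤ X.basicOpen a := inf_le_right
  have hD : X.basicOpen a ≤ U := X.basicOpen_le a
  have hu' : rF F hl u = rF F hr (rX hD a ^ N • t) := hu
  show rF F hl (rX hW a ^ k • u) = rF F hr (rX hD a ^ (k + N) • t)
  calc rF F hl (rX hW a ^ k • u)
      = rX hl (rX hW a) ^ k • rF F hl u := rF_pow_smul F hl _ k u
    _ = rX hl (rX hW a) ^ k • rF F hr (rX hD a ^ N • t) := by rw [hu']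
    _ = rX hr (rX hD a) ^ k • rF F hr (rX hD a ^ N • t) := by rw [rX_rX, rX_rX]
    _ = rF F hr (rX hD a ^ k • (rX hD a ^ N • t)) := (rF_pow_smul F hr _ k _).symm
    _ = rF F hr (rX hD a ^ (k + N) • t) := by rw [pow_add, mul_smul]

theorem IsExt.sub_zero {N : ℕ} {W : X.Opens} {u u' : Γ(F, W)} (hu : IsExt F a t N u)
    (hu' : IsExt F a t N u') :
    rF F (inf_le_left : W ⊓ X.basicOpen a ≤ W) (u - u') = 0 := by
  unfold IsExt at hu hu'
  rw [map_sub, hu, hu', sub_self]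

theorem exists_isExt_of_isAffineOpen [F.IsQuasicoherent] (t : Γ(F, X.basicOpen a))
    {W : X.Opens} (hW : W ≤ U) (hW' : IsAffineOpen W) :
    ∃ (n : ℕ) (u : Γ(F, W)), IsExt F a t n u := by
  have hl : W ⊓ X.basicOpen a ≤ W := inf_le_left
  have hr : W ⊓ X.basicOpen a ≤ X.basicOpen a := inf_le_right
  have hD : X.basicOpen a ≤ U := X.basicOpen_le a
  have e : W ⊓ X.basicOpen a = X.basicOpen (rX hW a) := (basicOpen_rX hW a).symm
  have L := RelFPAff.locData (F := F) hW' (rX hW a) (homOfLE hl) e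
  obtain ⟨n, u, h⟩ := L.surj (rF F hr t)
  refine ⟨n, u, ?_⟩
  have h' : rX hl (rX hW a) ^ n • rF F hr t = rF F hl u := h
  show rF F hl u = rF F hr (rX hD a ^ n • t)
  rw [← h', rF_pow_smul, rX_rX, rX_rX]

theorem eq_of_isExt {ι : Type*} (O : ι → X.Opens) (hO : ∀ i, O i ≤ U) (hcov : U ≤ ⨆ i, O i)
    (N : ℕ) (s : Γ(F, U)) (hs : ∀ i, IsExt F a t N (rF F (hO i) s)) :
    rF F (X.basicOpen_le a) s = rX (X.basicOpen_le a) a ^ N • t := by
  apply eq_of_cover
  intro x hx
  have hxU : x ∈ U := X.basicOpen_le a hx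
  obtain ⟨i, hxi⟩ := Opens.mem_iSup.mp (hcov hxU)
  refine ⟨O i ⊓ X.basicOpen a, inf_le_right, ⟨hxi, hx⟩, ?_⟩
  have h := hs i
  unfold IsExt at h
  rw [rF_rF] at h ⊢
  exact h

theorem extends_aux [F.IsQuasicoherent] {ι : Type*} [Fintype ι] (O : ι → X.Opens)
    (hO : ∀ i, IsAffineOpen (O i)) (hle : ∀ i, O i ≤ U) (hcov : U ≤ ⨆ i, O i)
    (hcpt : ∀ i j, IsCompact ((O i ⊓ O j : X.Opens) : Set X))
    (t : Γ(F, X.basicOpen a)) :
    ∃ (n : ℕ) (s : Γ(F, U)),
      rF F (X.basicOpen_le a) s = rX (X.basicOpen_le a) a ^ n • t := by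
  classical
  choose n1 u1 hu1 using fun i => exists_isExt_of_isAffineOpen t (hle i) (hO i)
  set N := Finset.univ.sup n1 with hN
  have hu2' : ∀ i, IsExt F a t N (rX (hle i) a ^ (N - n1 i) • u1 i) := by
    intro i
    have hle' : n1 i ≤ N := Finset.le_sup (Finset.mem_univ i)
    have h := (hu1 i).smul (hle i) (N - n1 i)
    rwa [Nat.sub_add_cancel hle'] at h
  obtain ⟨u2, hu2⟩ : ∃ u2 : ∀ i, Γ(F, O i), ∀ i, IsExt F a t N (u2 i) := ⟨_, hu2'⟩
  have hij : ∀ i j, O i ⊓ O j ≤ U := fun i j => inf_le_left.trans (hle i)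
  have key2 : ∀ i j, ∃ m : ℕ, rX (hij i j) a ^ m •
      (rF F (inf_le_left : O i ⊓ O j ≤ O i) (u2 i) -
        rF F (inf_le_right : O i ⊓ O j ≤ O j) (u2 j)) = 0 := by
    intro i j
    apply Groth.Agent.Lib.QCohExtH1.exists_pow_smul_eq_zero_of_isCompact F _ (hcpt i j)
    have h0 := ((hu2 i).res (inf_le_left : O i ⊓ O j ≤ O i)).sub_zero
      ((hu2 j).res (inf_le_right : O i ⊓ O j ≤ O j))
    have hle2 : X.basicOpen (rX (hij i j) a) ≤ (O i ⊓ O j) ⊓ X.basicOpen a :=
      (basicOpen_rX (hij i j) a).le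
    have h1 := congrArg (rF F hle2) h0
    rw [rF_rF, map_zero] at h1
    exact h1
  choose m2 hm2 using key2
  set M := Finset.univ.sup (fun p : ι × ι => m2 p.1 p.2) with hM
  have hv : ∀ i, IsExt F a t (M + N) (rX (hle i) a ^ M • u2 i) :=
    fun i => (hu2 i).smul (hle i) M
  have hcompat : TopCat.Presheaf.IsCompatible F.presheaf O
      (fun i => rX (hle i) a ^ M • u2 i) := by
    intro i j
    have hle' : m2 i j ≤ M :=
      Finset.le_sup (f := fun p : ι × ι => m2 p.1 p.2) (Finset.mem_univ (i, j))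
    have h1 : rF F (inf_le_left : O i ⊓ O j ≤ O i) (rX (hle i) a ^ M • u2 i) -
        rF F (inf_le_right : O i ⊓ O j ≤ O j) (rX (hle j) a ^ M • u2 j) = 0 := by
      rw [rF_pow_smul, rF_pow_smul, rX_rX, rX_rX, ← smul_sub,
        ← Nat.sub_add_cancel hle', pow_add, mul_smul, hm2 i j, smul_zero]
    have h2 : F.presheaf.map (homOfLE (inf_le_left : O i ⊓ O j ≤ O i)).op
          (rX (hle i) a ^ M • u2 i) =
        F.presheaf.map (homOfLE (inf_le_right : O i ⊓ O j ≤ O j)).op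
          (rX (hle j) a ^ M • u2 j) := sub_eq_zero.mp h1
    exact (Groth.Agent.Lib.QCohExtH1.rF_congr F _ _ _).trans
      (h2.trans (Groth.Agent.Lib.QCohExtH1.rF_congr F _ _ _))
  obtain ⟨s, hs, -⟩ := TopCat.Sheaf.existsUnique_gluing' ⟨F.presheaf, F.isSheaf⟩ O U
    (fun i => homOfLE (hle i)) hcov _ hcompat
  refine ⟨M + N, s, eq_of_isExt O hle hcov (M + N) s ?_⟩
  intro i
  have h := hs i
  have h' : rF F (hle i) s = rX (hle i) a ^ M • u2 i := h
  rw [h']
  exact hv i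

theorem exists_pow_smul_extends [F.IsQuasicoherent] (hc : IsCompact (U : Set X))
    (hqs : IsQuasiSeparated (U : Set X)) (t : Γ(F, X.basicOpen a)) :
    ∃ (n : ℕ) (s : Γ(F, U)),
      rF F (X.basicOpen_le a) s = rX (X.basicOpen_le a) a ^ n • t := by
  obtain ⟨S, hS, hcov⟩ := isCompact_iff_finite_and_eq_biUnion_affineOpens.mp hc
  have hle' : ∀ W : S, (W.1 : X.Opens) ≤ U := fun W =>
    (le_iSup₂ (f := fun (i : X.affineOpens) (_ : i ∈ S) => (i : X.Opens)) W.1 W.2).trans hcov.ge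
  have hcov' : U ≤ ⨆ W : S, (W.1 : X.Opens) := by
    intro x hx
    have hx' : x ∈ (⨆ i ∈ S, (i : X.Opens) : X.Opens) := hcov ▸ hx
    simp only [Opens.mem_iSup] at hx' ⊢
    obtain ⟨W, hW, hxW⟩ := hx'
    exact ⟨⟨W, hW⟩, hxW⟩
  have : Finite S := hS.to_subtype
  haveI : Fintype S := Fintype.ofFinite S
  refine extends_aux (fun W : S => (W.1 : X.Opens)) (fun W => W.1.2) hle' hcov' ?_ t
  intro i j
  exact hqs ((i.1 : X.Opens) : Set X) ((j.1 : X.Opens) : Set X)
    (SetLike.coe_subset_coe.mpr (hle' i)) (i.1 : X.Opens).2 i.1.2.isCompact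
    (SetLike.coe_subset_coe.mpr (hle' j)) (j.1 : X.Opens).2 j.1.2.isCompact

end Ext

section Flexible

variable (F : X.Modules) [F.IsQuasicoherent] {U : X.Opens} (a : Γ(X, U))

theorem surj_of_qcqs (hc : IsCompact (U : Set X)) (hqs : IsQuasiSeparated (U : Set X))
    {V : X.Opens} (i : V ⟶ U) (e : V = X.basicOpen a) (m' : Γ(F, V)) :
    ∃ (n : ℕ) (m : Γ(F, U)),
      (X.presheaf.map i.op).hom a ^ n • m' = (F.presheaf.map i.op).hom m := by
  subst e
  have hi : i = homOfLE (X.basicOpen_le a) := Subsingleton.elim _ _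
  subst hi
  obtain ⟨n, s, hs⟩ := exists_pow_smul_extends (F := F) (a := a) hc hqs m'
  exact ⟨n, s, hs.symm⟩

theorem ker_of_isCompact (hc : IsCompact (U : Set X))
    {V : X.Opens} (i : V ⟶ U) (e : V = X.basicOpen a) (m : Γ(F, U))
    (hm : (F.presheaf.map i.op).hom m = 0) : ∃ n : ℕ, a ^ n • m = 0 := by
  subst e
  have hi : i = homOfLE (X.basicOpen_le a) := Subsingleton.elim _ _
  subst hi
  exact Groth.Agent.Lib.QCohExtH1.exists_pow_smul_eq_zero_of_isCompact F U hc a m hm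

end Flexible

section Push

open QCohCrit

set_option backward.isDefEq.respectTransparency false in
theorem locOnU_pushforward_qcqs {X Y : Scheme.{u}} (f : X ⟶ Y) [QuasiCompact f]
    [QuasiSeparated f] (M : X.Modules) [M.IsQuasicoherent] {V : Y.Opens}
    (hV : IsAffineOpen V) : LocOnU ((Scheme.Modules.pushforward f).obj M) V := by
  intro a
  have e : f ⁻¹ᵁ (Y.basicOpen a) = X.basicOpen ((f.app V).hom a) := Scheme.preimage_basicOpen f a
  have hc : IsCompact ((f ⁻¹ᵁ V : X.Opens) : Set X) :=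
    QuasiCompact.isCompact_preimage (f := f) (V : Set Y) V.2 hV.isCompact
  have hqs : IsQuasiSeparated ((f ⁻¹ᵁ V : X.Opens) : Set X) :=
    f.isQuasiSeparated_preimage hV.isQuasiSeparated
  have hnat : ∀ x : Γ(Y, V),
      (X.presheaf.map ((Opens.map f.base).map (homOfLE (Y.basicOpen_le a))).op).hom
          ((f.app V).hom x) =
        (f.app (Y.basicOpen a)).hom ((Y.presheaf.map (homOfLE (Y.basicOpen_le a)).op).hom x) := by
    intro x
    have := congrArg (fun φ => φ.hom x) (f.naturality (homOfLE (Y.basicOpen_le a)).op)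
    exact this.symm
  refine ⟨hV.isLocalization_basicOpen a, fun x m => Scheme.Modules.map_smul _ _ x m, ?_, ?_⟩
  · intro m'
    obtain ⟨n, m, hm⟩ := surj_of_qcqs M ((f.app V).hom a) hc hqs
      ((Opens.map f.base).map (homOfLE (Y.basicOpen_le a))) e m'
    refine ⟨n, m, ?_⟩
    rw [hnat, ← map_pow] at hm
    exact hm
  · intro m hm
    obtain ⟨n, hn⟩ := ker_of_isCompact M ((f.app V).hom a) hc
      ((Opens.map f.base).map (homOfLE (Y.basicOpen_le a))) e m hm
    refine ⟨n, ?_⟩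
    rw [← map_pow] at hn
    exact hn

/-- The direct image of a quasi-coherent module along a quasi-compact quasi-separated morphism
is quasi-coherent. -/
theorem isQuasicoherent_pushforward_qcqs {X Y : Scheme.{u}} (f : X ⟶ Y) [QuasiCompact f]
    [QuasiSeparated f] (M : X.Modules) [M.IsQuasicoherent] :
    ((Scheme.Modules.pushforward f).obj M).IsQuasicoherent :=
  isQuasicoherent_of_locOnU _ (fun V => locOnU_pushforward_qcqs f M V.2)

end Push

end QcqsLoc
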