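import Mathlib
import Groth.Prelude.Def_Curv2
import Groth.Agent.Lib.QcqsLoc_helper9

/-!
# Global generation of quasi-coherent modules on quasi-affine schemes

* `GlobGen.epi_of_surjective_on_basis`: a morphism of `O_X`-modules which is surjective on sections
  over a basis of opens is an epimorphism.
* `GlobGen.isGloballyGenerated_of_isQuasiAffine`: on a quasi-affine scheme every quasi-coherent
  module is a quotient of a free module (generated by global sections).
-/

universe u

open CategoryTheory CategoryTheory.Limits AlgebraicGeometry Opposite TopologicalSpace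
open Groth.Agent.Lib.QCohLoc_helper4 QcqsLoc

namespace GlobGen

variable {X : Scheme.{u}}

theorem epi_of_surjective_on_basis {F G : X.Modules} (p : G ⟶ F) (B : Set X.Opens)
    (hB : Opens.IsBasis B) (h : ∀ U ∈ B, Function.Surjective (p.app U)) : Epi p := by
  constructor
  intro H a b hab
  apply Scheme.Modules.hom_ext
  intro W
  ext x
  apply eq_of_cover H
  intro y hy
  obtain ⟨U, hUB, hyU, hUW⟩ := Opens.isBasis_iff_nbhd.mp hB hy
  refine ⟨U, hUW, hyU, ?_⟩
  obtain ⟨z, hz⟩ := h U hUB (rF F hUW x)
  have ha : rF H hUW (a.app W x) = a.app U (rF F hUW x) :=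
    (QCohCrit.app_naturality a (homOfLE hUW) x).symm
  have hb : rF H hUW (b.app W x) = b.app U (rF F hUW x) :=
    (QCohCrit.app_naturality b (homOfLE hUW) x).symm
  rw [ha, hb, ← hz]
  have := congrArg (fun φ => φ.app U z) hab
  exact this

set_option backward.isDefEq.respectTransparency false in
/-- The compatible family of restrictions of a global section. -/
noncomputable def globalSection (F : X.Modules) (g : Γ(F, ⊤)) :
    SheafOfModules.sections (R := X.ringCatSheaf) F :=
  PresheafOfModules.sectionsMk (M := F.val)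
    (fun W => F.presheaf.map (homOfLE (le_top : W.unop ≤ ⊤)).op g)
    (fun W W' f => map_map_eq F (homOfLE (le_top : W.unop ≤ ⊤)).op f
      (homOfLE (le_top : W'.unop ≤ ⊤)).op g)

set_option backward.isDefEq.respectTransparency false in
theorem isGloballyGenerated_of_isQuasiAffine [X.IsQuasiAffine] (F : X.Modules)
    [F.IsQuasicoherent] : Curv2.IsGloballyGenerated F := by
  let s : Γ(F, ⊤) → SheafOfModules.sections (R := X.ringCatSheaf) F := globalSection F
  let A : X.Modules := SheafOfModules.free (R := X.ringCatSheaf) Γ(F, ⊤)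
  let p : A ⟶ F := (SheafOfModules.freeHomEquiv F).symm s
  refine ⟨Γ(F, ⊤), p, ?_⟩
  apply epi_of_surjective_on_basis p _ (Scheme.IsQuasiAffine.isBasis_basicOpen X)
  rintro U ⟨f, hf, rfl⟩
  intro t
  have hc : IsCompact ((⊤ : X.Opens) : Set X) := by simpa using isCompact_univ
  have hqs : IsQuasiSeparated ((⊤ : X.Opens) : Set X) := by
    simpa using (isQuasiSeparated_univ (α := X))
  obtain ⟨n, g, hg⟩ := exists_pow_smul_extends (F := F) (a := f) hc hqs t
  have hunit : IsUnit (rX (X.basicOpen_le f) f ^ n) :=
    (RingedSpace.isUnit_res_basicOpen _ f).pow n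
  obtain ⟨u, hu⟩ := hunit
  obtain ⟨e, he⟩ : ∃ e : Γ(A, X.basicOpen f), p.app (X.basicOpen f) e =
      rF F (X.basicOpen_le f) g := by
    refine ⟨(SheafOfModules.freeSection (R := X.ringCatSheaf) g).val (op (X.basicOpen f)), ?_⟩
    have h1 := SheafOfModules.sectionsMap_freeHomEquiv_symm_freeSection (M := F) s g
    have h2 := congrArg (fun σ => σ.val (op (X.basicOpen f))) h1
    exact h2
  refine ⟨(↑u⁻¹ : Γ(X, X.basicOpen f)) • e, ?_⟩
  rw [Scheme.Modules.Hom.app_smul, he, hg, ← hu, smul_smul, Units.inv_mul, one_smul]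

end GlobGen
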