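import Mathlib
import Groth.Prelude.Def_CohB1

/-!
# Epimorphisms of `O_X`-modules are locally surjective

* `EpiLoc.epi_toSheaf`: the forgetful functor from `O_X`-modules to sheaves of abelian groups
  preserves epimorphisms.
* `EpiLoc.isLocallySurjective_of_epi`, `EpiLoc.exists_local_lift`: an epimorphism of `O_X`-modules is
  locally surjective on sections.
* `EpiLoc.stalk_surjective_of_epi`: and surjective on stalks.
-/

universe u

open CategoryTheory CategoryTheory.Limits AlgebraicGeometry Opposite TopologicalSpace

namespace EpiLoc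

variable {X : Scheme.{u}}

set_option backward.isDefEq.respectTransparency false in
theorem epi_toSheaf {F G : X.Modules} (p : F ⟶ G) [Epi p] :
    Epi ((SheafOfModules.toSheaf.{u} X.ringCatSheaf).map p) := by
  let α := 𝟙 X.ringCatSheaf.obj
  let L := PresheafOfModules.sheafification.{u} α
  let i := SheafOfModules.forget.{u} X.ringCatSheaf ⋙ PresheafOfModules.restrictScalars α
  let adj : L ⊣ i := PresheafOfModules.sheafificationAdjunction α
  let T := SheafOfModules.toSheaf.{u} X.ringCatSheaf
  let e := Abelian.factorThruImage (i.map p)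
  let m := Abelian.image.ι (i.map p)
  have hfac : e ≫ m = i.map p := Abelian.image.fac _
  haveI : Epi e := inferInstance
  haveI : Mono m := inferInstance
  haveI : IsIso (adj.counit.app F) := inferInstance
  haveI : IsIso (adj.counit.app G) := inferInstance
  have hnat : L.map (i.map p) ≫ adj.counit.app G = adj.counit.app F ≫ p :=
    adj.counit.naturality p
  haveI : Epi (L.map (i.map p)) := by
    have h2 : L.map (i.map p) = (adj.counit.app F ≫ p) ≫ inv (adj.counit.app G) := by
      rw [← hnat, Category.assoc, IsIso.hom_inv_id, Category.comp_id]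
    rw [h2]
    infer_instance
  have hLfac : L.map e ≫ L.map m = L.map (i.map p) := by rw [← L.map_comp, hfac]
  haveI : Epi (L.map m) := by
    haveI : Epi (L.map e ≫ L.map m) := by rw [hLfac]; infer_instance
    exact epi_of_epi (L.map e) (L.map m)
  haveI : Mono (L.map m) := inferInstance
  haveI : IsIso (L.map m) := isIso_of_mono_of_epi _
  haveI : Epi ((PresheafOfModules.toPresheaf _).map e) := inferInstance
  haveI : Epi (T.map (L.map e)) := by
    show Epi ((presheafToSheaf _ _).map ((PresheafOfModules.toPresheaf _).map e))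
    infer_instance
  have h3 : p = inv (adj.counit.app F) ≫ (L.map e ≫ L.map m) ≫ adj.counit.app G := by
    rw [hLfac, hnat, IsIso.inv_hom_id_assoc]
  have h4 : T.map p = T.map (inv (adj.counit.app F)) ≫ (T.map (L.map e) ≫ T.map (L.map m)) ≫
      T.map (adj.counit.app G) := by
    conv_lhs => rw [h3]
    simp only [Functor.map_comp]
  show Epi (T.map p)
  rw [h4]
  infer_instance

theorem isLocallySurjective_of_epi {F G : X.Modules} (p : F ⟶ G) [Epi p] :
    TopCat.Presheaf.IsLocallySurjective p.mapPresheaf := by
  exact (TopCat.Sheaf.isLocallySurjective_iff_epi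
    ((SheafOfModules.toSheaf.{u} X.ringCatSheaf).map p)).mpr (epi_toSheaf p)

/-- An epimorphism of `O_X`-modules is locally surjective on sections. -/
theorem exists_local_lift {F G : X.Modules} (p : F ⟶ G) [Epi p] {U : X.Opens} (s : Γ(G, U))
    {x : X} (hx : x ∈ U) :
    ∃ (V : X.Opens) (hV : V ≤ U) (_ : x ∈ V) (t : Γ(F, V)),
      p.app V t = G.presheaf.map (homOfLE hV).op s := by
  obtain ⟨V, hV, ⟨t, ht⟩, hxV⟩ :=
    (TopCat.Presheaf.isLocallySurjective_iff _).mp (isLocallySurjective_of_epi p) U s x hx
  exact ⟨V, hV, hxV, t, ht⟩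

/-- An epimorphism of `O_X`-modules is surjective on stalks. -/
theorem stalk_surjective_of_epi {F G : X.Modules} (p : F ⟶ G) [Epi p] (x : X) :
    Function.Surjective ((TopCat.Presheaf.stalkFunctor Ab x).map p.mapPresheaf) :=
  (TopCat.Presheaf.locally_surjective_iff_surjective_on_stalks _).mp
    (isLocallySurjective_of_epi p) x

end EpiLoc
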