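import Mathlib
import Groth.Prelude.Def_CohB1
import Groth.Agent.Lib.EpiLoc_helper9
import Groth.Agent.Lib.QcqsLoc_helper9
import Groth.Agent.Lib.QCohExact_helper9

/-!
# Extensions of quasi-coherent modules

* `QCohExtn.app_surjective_of_qcoh_kernel`: for a short exact sequence `0 → A → B → C → 0` of
  `O_X`-modules with `A` quasi-coherent, `B(U) → C(U)` is surjective for every affine open `U`
  (vanishing of `H¹(U, A)`, proved by hand).
* `QCohExtn.isQuasicoherent_of_shortExact`: an extension of quasi-coherent modules is quasi-coherent.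
-/

universe u

open CategoryTheory CategoryTheory.Limits AlgebraicGeometry Opposite TopologicalSpace
open Groth.Agent.Lib.QCohLoc_helper4 QcqsLoc

namespace QCohExtn

variable {X : Scheme.{u}}

/-- The map on sections, as an additive map. -/
noncomputable abbrev ap {M N : X.Modules} (φ : M ⟶ N) (W : X.Opens) : Γ(M, W) →+ Γ(N, W) :=
  (φ.app W).hom

theorem ap_rF {M N : X.Modules} (φ : M ⟶ N) {V W : X.Opens} (h : V ≤ W) (m : Γ(M, W)) :
    ap φ V (rF M h m) = rF N h (ap φ W m) :=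
  QCohCrit.app_naturality φ (homOfLE h) m

theorem ap_smul {M N : X.Modules} (φ : M ⟶ N) {W : X.Opens} (r : Γ(X, W)) (m : Γ(M, W)) :
    ap φ W (r • m) = r • ap φ W m :=
  Scheme.Modules.Hom.app_smul φ r m

section K

variable (E : ShortComplex X.Modules) (hE : E.ShortExact) {U : X.Opens} (f : Γ(X, U))
  (c : Γ(E.X₃, U)) (t : Γ(E.X₂, X.basicOpen f))

/-- `b ∈ B(W)` lifts `f^n c` and agrees with `f^n t` on `W ∩ D(f)`. -/
def Good (n : ℕ) {W : X.Opens} (hW : W ≤ U) (b : Γ(E.X₂, W)) : Prop :=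
  ap E.g W b = rX hW f ^ n • rF E.X₃ hW c ∧
  rF E.X₂ (inf_le_left : W ⊓ X.basicOpen f ≤ W) b =
    rX (inf_le_left.trans hW : W ⊓ X.basicOpen f ≤ U) f ^ n •
      rF E.X₂ (inf_le_right : W ⊓ X.basicOpen f ≤ X.basicOpen f) t

variable {E f c t}

theorem Good.res {n : ℕ} {W W' : X.Opens} {hW : W ≤ U} {b : Γ(E.X₂, W)}
    (hb : Good E f c t n hW b) (h : W' ≤ W) :
    Good E f c t n (h.trans hW) (rF E.X₂ h b) := by
  obtain ⟨h1, h2⟩ := hb
  constructor
  · rw [ap_rF, h1, rF_pow_smul, rX_rX, rF_rF]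
  · have hle : W' ⊓ X.basicOpen f ≤ W ⊓ X.basicOpen f := inf_le_inf_right _ h
    have h3 := congrArg (rF E.X₂ hle) h2
    rw [rF_rF, rF_pow_smul, rX_rX, rF_rF] at h3
    rw [rF_rF]
    exact h3

theorem Good.smul {n : ℕ} {W : X.Opens} {hW : W ≤ U} {b : Γ(E.X₂, W)}
    (hb : Good E f c t n hW b) (k : ℕ) :
    Good E f c t (k + n) hW (rX hW f ^ k • b) := by
  obtain ⟨h1, h2⟩ := hb
  constructor
  · rw [ap_smul, h1, ← mul_smul, ← pow_add]
  · rw [rF_pow_smul, h2, rX_rX, ← mul_smul, ← pow_add]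

include hE in
theorem Good.sub {n : ℕ} {W : X.Opens} {hW : W ≤ U} {b b' : Γ(E.X₂, W)}
    (hb : Good E f c t n hW b) (hb' : Good E f c t n hW b') :
    ∃ α : Γ(E.X₁, W), ap E.f W α = b - b' ∧
      rF E.X₁ (inf_le_left : W ⊓ X.basicOpen f ≤ W) α = 0 := by
  haveI := hE.mono_f
  have h0 : ap E.g W (b - b') = 0 := by rw [map_sub, hb.1, hb'.1, sub_self]
  obtain ⟨α, hα⟩ := QCohExact.app_exact E hE.exact W (b - b') h0
  have hα' : ap E.f W α = b - b' := hα
  refine ⟨α, hα', ?_⟩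
  apply QCohExact.app_injective_of_mono E.f (W ⊓ X.basicOpen f)
  have h3 : ap E.f (W ⊓ X.basicOpen f) (rF E.X₁ inf_le_left α) =
      rF E.X₂ inf_le_left (ap E.f W α) := ap_rF E.f _ α
  have h4 : rF E.X₂ (inf_le_left : W ⊓ X.basicOpen f ≤ W) (ap E.f W α) = 0 := by
    rw [hα', map_sub, hb.2, hb'.2, sub_self]
  exact (h3.trans h4).trans (map_zero (ap E.f (W ⊓ X.basicOpen f))).symm

include hE in
theorem exists_good_of_affine [E.X₁.IsQuasicoherent]
    (ht : ap E.g (X.basicOpen f) t = rF E.X₃ (X.basicOpen_le f) c)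
    {W : X.Opens} (hW : W ≤ U) (hW' : IsAffineOpen W) (tW : Γ(E.X₂, W))
    (htW : ap E.g W tW = rF E.X₃ hW c) :
    ∃ (n : ℕ) (b : Γ(E.X₂, W)), Good E f c t n hW b := by
  haveI := hE.mono_f
  have hl : W ⊓ X.basicOpen f ≤ W := inf_le_left
  have hr : W ⊓ X.basicOpen f ≤ X.basicOpen f := inf_le_right
  have hD : X.basicOpen f ≤ U := X.basicOpen_le f
  have ht' : ap E.g (X.basicOpen f) t = rF E.X₃ hD c := ht
  have h0 : ap E.g (W ⊓ X.basicOpen f) (rF E.X₂ hr t - rF E.X₂ hl tW) = 0 := by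
    rw [map_sub, ap_rF, ap_rF, ht', htW, rF_rF, rF_rF, sub_self]
  obtain ⟨α', hα'⟩ := QCohExact.app_exact E hE.exact _ _ h0
  have hα'' : ap E.f (W ⊓ X.basicOpen f) α' = rF E.X₂ hr t - rF E.X₂ hl tW := hα'
  have e : W ⊓ X.basicOpen f = X.basicOpen (rX hW f) := (basicOpen_rX hW f).symm
  have L := RelFPAff.locData (F := E.X₁) hW' (rX hW f) (homOfLE hl) e
  obtain ⟨n, α, hnα⟩ := L.surj α'
  have hnα' : rX hl (rX hW f) ^ n • α' = rF E.X₁ hl α := hnα
  refine ⟨n, rX hW f ^ n • tW + ap E.f W α, ?_, ?_⟩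
  · have hz : ap E.g W (ap E.f W α) = 0 := by
      have := congrArg (fun χ => (χ.app W).hom α) E.zero
      exact this
    rw [map_add, ap_smul, htW, hz, add_zero]
  · show rF E.X₂ hl (rX hW f ^ n • tW + ap E.f W α) = rX (hl.trans hW) f ^ n • rF E.X₂ hr t
    rw [map_add, rF_pow_smul, ← ap_rF, ← hnα', ap_smul, hα'', rX_rX, ← smul_add,
      add_sub_cancel]

theorem glue_good {ι : Type*} (O : ι → X.Opens) (hle : ∀ i, O i ≤ U) (hcov : U ≤ ⨆ i, O i)
    (N : ℕ) (b : ∀ i, Γ(E.X₂, O i)) (hb : ∀ i, Good E f c t N (hle i) (b i))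
    (hcompat : ∀ i j, rF E.X₂ (inf_le_left : O i ⊓ O j ≤ O i) (b i) =
      rF E.X₂ (inf_le_right : O i ⊓ O j ≤ O j) (b j)) :
    ∃ b₀ : Γ(E.X₂, U), ap E.g U b₀ = f ^ N • c := by
  have hc : TopCat.Presheaf.IsCompatible E.X₂.presheaf O b := by
    intro i j
    have h2 : E.X₂.presheaf.map (homOfLE (inf_le_left : O i ⊓ O j ≤ O i)).op (b i) =
        E.X₂.presheaf.map (homOfLE (inf_le_right : O i ⊓ O j ≤ O j)).op (b j) := hcompat i j
    exact (Groth.Agent.Lib.QCohExtH1.rF_congr E.X₂ _ _ _).trans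
      (h2.trans (Groth.Agent.Lib.QCohExtH1.rF_congr E.X₂ _ _ _))
  obtain ⟨b₀, hb₀, -⟩ := TopCat.Sheaf.existsUnique_gluing' ⟨E.X₂.presheaf, E.X₂.isSheaf⟩ O U
    (fun i => homOfLE (hle i)) hcov b hc
  refine ⟨b₀, ?_⟩
  apply eq_of_cover E.X₃
  intro x hx
  obtain ⟨i, hxi⟩ := Opens.mem_iSup.mp (hcov hx)
  refine ⟨O i, hle i, hxi, ?_⟩
  have h' : rF E.X₂ (hle i) b₀ = b i := hb₀ i
  rw [← ap_rF, h', (hb i).1, rF_pow_smul]

include hE in
theorem exists_lift_pow [E.X₁.IsQuasicoherent]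
    (ht : ap E.g (X.basicOpen f) t = rF E.X₃ (X.basicOpen_le f) c)
    {ι : Type*} [Fintype ι] (O : ι → X.Opens) (hO : ∀ i, IsAffineOpen (O i))
    (hle : ∀ i, O i ≤ U) (hcov : U ≤ ⨆ i, O i)
    (hcpt : ∀ i j, IsCompact ((O i ⊓ O j : X.Opens) : Set X))
    (tO : ∀ i, Γ(E.X₂, O i)) (htO : ∀ i, ap E.g (O i) (tO i) = rF E.X₃ (hle i) c) :
    ∃ (n : ℕ) (b₀ : Γ(E.X₂, U)), ap E.g U b₀ = f ^ n • c := by
  classical
  choose n1 b1 hb1 using fun i =>
    exists_good_of_affine hE (f := f) (c := c) (t := t) ht (hle i) (hO i) (tO i) (htO i)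
  set N := Finset.univ.sup n1 with hN
  have hb2' : ∀ i, Good E f c t N (hle i) (rX (hle i) f ^ (N - n1 i) • b1 i) := by
    intro i
    have hle' : n1 i ≤ N := Finset.le_sup (Finset.mem_univ i)
    have h := (hb1 i).smul (N - n1 i)
    rwa [Nat.sub_add_cancel hle'] at h
  obtain ⟨b2, hb2⟩ : ∃ b2 : ∀ i, Γ(E.X₂, O i), ∀ i, Good E f c t N (hle i) (b2 i) := ⟨_, hb2'⟩
  have hij : ∀ i j, O i ⊓ O j ≤ U := fun i j => inf_le_left.trans (hle i)
  have key2 : ∀ i j, ∃ m : ℕ, rX (hij i j) f ^ m •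
      (rF E.X₂ (inf_le_left : O i ⊓ O j ≤ O i) (b2 i) -
        rF E.X₂ (inf_le_right : O i ⊓ O j ≤ O j) (b2 j)) = 0 := by
    intro i j
    obtain ⟨α, hα, hα0⟩ := ((hb2 i).res (inf_le_left : O i ⊓ O j ≤ O i)).sub hE
      ((hb2 j).res (inf_le_right : O i ⊓ O j ≤ O j))
    obtain ⟨m, hm⟩ := Groth.Agent.Lib.QCohExtH1.exists_pow_smul_eq_zero_of_isCompact E.X₁ _
      (hcpt i j) (rX (hij i j) f) α (by
        have hle2 : X.basicOpen (rX (hij i j) f) ≤ (O i ⊓ O j) ⊓ X.basicOpen f :=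
          (basicOpen_rX (hij i j) f).le
        have h1 := congrArg (rF E.X₁ hle2) hα0
        rw [rF_rF, map_zero] at h1
        exact h1)
    refine ⟨m, ?_⟩
    rw [← hα, ← ap_smul, hm, map_zero]
  choose m2 hm2 using key2
  set M := Finset.univ.sup (fun p : ι × ι => m2 p.1 p.2) with hM
  have hv : ∀ i, Good E f c t (M + N) (hle i) (rX (hle i) f ^ M • b2 i) :=
    fun i => (hb2 i).smul M
  obtain ⟨b₀, hb₀⟩ := glue_good O hle hcov (M + N) (fun i => rX (hle i) f ^ M • b2 i) hv (by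
    intro i j
    have hle' : m2 i j ≤ M :=
      Finset.le_sup (f := fun p : ι × ι => m2 p.1 p.2) (Finset.mem_univ (i, j))
    have h1 : rF E.X₂ (inf_le_left : O i ⊓ O j ≤ O i) (rX (hle i) f ^ M • b2 i) -
        rF E.X₂ (inf_le_right : O i ⊓ O j ≤ O j) (rX (hle j) f ^ M • b2 j) = 0 := by
      rw [rF_pow_smul, rF_pow_smul, rX_rX, rX_rX, ← smul_sub,
        ← Nat.sub_add_cancel hle', pow_add, mul_smul, hm2 i j, smul_zero]
    exact sub_eq_zero.mp h1)
  exact ⟨M + N, b₀, hb₀⟩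

end K

section H1

variable (E : ShortComplex X.Modules) (hE : E.ShortExact) {U : X.Opens}

include hE in
/-- `H¹`-vanishing in elementary form: for a short exact sequence with quasi-coherent kernel,
sections over an affine open lift. -/
theorem app_surjective_of_qcoh_kernel [E.X₁.IsQuasicoherent] (hU : IsAffineOpen U) :
    Function.Surjective (ap E.g U) := by
  classical
  haveI := hE.epi_g
  intro c
  let s : Set Γ(X, U) := {g | ∃ tg : Γ(E.X₂, X.basicOpen g),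
    ap E.g (X.basicOpen g) tg = rF E.X₃ (X.basicOpen_le g) c}
  have hs : Ideal.span s = ⊤ := by
    rw [← hU.self_le_iSup_basicOpen_iff]
    intro x hx
    obtain ⟨V, hV, hxV, tV, htV⟩ := EpiLoc.exists_local_lift E.g c hx
    obtain ⟨g, hgV, hxg⟩ := hU.exists_basicOpen_le ⟨x, hxV⟩ hx
    simp only [Opens.mem_iSup]
    refine ⟨⟨g, rF E.X₂ hgV tV, ?_⟩, hxg⟩
    have htV' : ap E.g V tV = rF E.X₃ hV c := htV
    rw [ap_rF, htV', rF_rF]
  obtain ⟨s', hs's, hs'⟩ := (Ideal.span_eq_top_iff_finite s).mp hs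
  let ι : Type u := ((s' : Set Γ(X, U)) : Type u)
  haveI : Finite ι := s'.finite_toSet.to_subtype
  haveI : Fintype ι := Fintype.ofFinite ι
  let O : ι → X.Opens := fun g => X.basicOpen g.1
  have hO : ∀ g : ι, IsAffineOpen (O g) := fun g => hU.basicOpen g.1
  have hle : ∀ g : ι, O g ≤ U := fun g => X.basicOpen_le g.1
  have hcov : U ≤ ⨆ g : ι, O g := hU.self_le_iSup_basicOpen_iff.mpr hs'
  have hcpt : ∀ g g' : ι, IsCompact ((O g ⊓ O g' : X.Opens) : Set X) := fun g g' =>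
    hU.isQuasiSeparated ((O g : X.Opens) : Set X) ((O g' : X.Opens) : Set X)
      (SetLike.coe_subset_coe.mpr (hle g)) (O g).2 (hO g).isCompact
      (SetLike.coe_subset_coe.mpr (hle g')) (O g').2 (hO g').isCompact
  have hlift : ∀ g : ι, ∃ tg : Γ(E.X₂, X.basicOpen g.1),
      ap E.g (X.basicOpen g.1) tg = rF E.X₃ (X.basicOpen_le g.1) c := fun g => hs's g.2
  choose tg htg using hlift
  let I : Ideal Γ(X, U) :=
    { carrier := {a | ∃ b : Γ(E.X₂, U), ap E.g U b = a • c}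
      add_mem' := by
        rintro a a' ⟨b, hb⟩ ⟨b', hb'⟩
        exact ⟨b + b', by rw [map_add, hb, hb', add_smul]⟩
      zero_mem' := ⟨0, by rw [map_zero, zero_smul]⟩
      smul_mem' := by
        rintro r a ⟨b, hb⟩
        exact ⟨r • b, by rw [ap_smul, hb, smul_eq_mul, mul_smul]⟩ }
  have hK : ∀ f₀ : ι, ∃ n : ℕ, f₀.1 ^ n ∈ I := by
    intro f₀
    obtain ⟨n, b₀, hb₀⟩ := exists_lift_pow hE (f := f₀.1) (c := c) (t := tg f₀) (htg f₀)
      O hO hle hcov hcpt tg htg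
    exact ⟨n, b₀, hb₀⟩
  choose nf hnf using hK
  obtain ⟨n, hn⟩ : ∃ n, n = Finset.univ.sup nf := ⟨_, rfl⟩
  have hpow : ∀ f₀ : ι, f₀.1 ^ n ∈ I := fun f₀ => by
    have hle' : nf f₀ ≤ n := by rw [hn]; exact Finset.le_sup (Finset.mem_univ f₀)
    rw [← Nat.sub_add_cancel hle', pow_add]
    exact I.mul_mem_left _ (hnf f₀)
  have htop : I = ⊤ := by
    rw [eq_top_iff, ← Ideal.span_pow_eq_top (s' : Set Γ(X, U)) hs' n, Ideal.span_le]
    rintro _ ⟨f₀, hf₀, rfl⟩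
    exact hpow ⟨f₀, hf₀⟩
  have h1 : (1 : Γ(X, U)) ∈ I := by rw [htop]; trivial
  obtain ⟨b, hb⟩ := h1
  exact ⟨b, by rw [hb, one_smul]⟩

include hE in
theorem locOnU_X₂ [E.X₁.IsQuasicoherent] [E.X₃.IsQuasicoherent] (hU : IsAffineOpen U) :
    QCohCrit.LocOnU E.X₂ U := by
  haveI := hE.mono_f
  intro a
  have hl : X.basicOpen a ≤ U := X.basicOpen_le a
  have LA := RelFPAff.locData (F := E.X₁) hU a (homOfLE hl) rfl
  have LC := RelFPAff.locData (F := E.X₃) hU a (homOfLE hl) rfl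
  refine ⟨hU.isLocalization_basicOpen a, fun x m => Scheme.Modules.map_smul _ _ x m, ?_, ?_⟩
  · intro t
    obtain ⟨n, c, hc⟩ := LC.surj (ap E.g _ t)
    obtain ⟨b₀, hb₀⟩ := app_surjective_of_qcoh_kernel E hE hU c
    have hc' : rX hl a ^ n • ap E.g (X.basicOpen a) t = rF E.X₃ hl c := hc
    have h0 : ap E.g (X.basicOpen a) (rF E.X₂ hl b₀ - rX hl a ^ n • t) = 0 := by
      rw [map_sub, ap_rF, hb₀, ap_smul, hc', sub_self]
    obtain ⟨α', hα'⟩ := QCohExact.app_exact E hE.exact _ _ h0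
    have hα'' : ap E.f (X.basicOpen a) α' = rF E.X₂ hl b₀ - rX hl a ^ n • t := hα'
    obtain ⟨m, α, hα⟩ := LA.surj α'
    have hα2 : rX hl a ^ m • α' = rF E.X₁ hl α := hα
    refine ⟨m + n, a ^ m • b₀ - ap E.f U α, ?_⟩
    show rX hl a ^ (m + n) • t = rF E.X₂ hl (a ^ m • b₀ - ap E.f U α)
    rw [map_sub, rF_pow_smul, ← ap_rF, ← hα2, ap_smul, hα'', smul_sub, sub_sub_cancel,
      ← mul_smul, ← pow_add]
  · intro b hb
    have hb' : rF E.X₂ hl b = 0 := hb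
    have h1 : rF E.X₃ hl (ap E.g U b) = 0 := by rw [← ap_rF, hb', map_zero]
    obtain ⟨n, hn⟩ := LC.ker (ap E.g U b) h1
    have h2 : ap E.g U (a ^ n • b) = 0 := by rw [ap_smul]; exact hn
    obtain ⟨α, hα⟩ := QCohExact.app_exact E hE.exact U _ h2
    have hα' : ap E.f U α = a ^ n • b := hα
    have h3 : rF E.X₁ hl α = 0 := by
      apply QCohExact.app_injective_of_mono E.f (X.basicOpen a)
      have h4 : ap E.f (X.basicOpen a) (rF E.X₁ hl α) = rF E.X₂ hl (ap E.f U α) :=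
        ap_rF E.f hl α
      have h5 : rF E.X₂ hl (ap E.f U α) = 0 := by rw [hα', rF_pow_smul, hb', smul_zero]
      exact (h4.trans h5).trans (map_zero (ap E.f (X.basicOpen a))).symm
    obtain ⟨m, hm⟩ := LA.ker α h3
    refine ⟨m + n, ?_⟩
    rw [pow_add, mul_smul, ← hα', ← ap_smul, hm, map_zero]

/-- An extension of quasi-coherent modules is quasi-coherent. -/
theorem isQuasicoherent_of_shortExact [E.X₁.IsQuasicoherent] [E.X₃.IsQuasicoherent]
    (hE : E.ShortExact) : E.X₂.IsQuasicoherent :=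
  QCohCrit.isQuasicoherent_of_locOnU _ (fun U => locOnU_X₂ E hE U.2)

end H1

end QCohExtn
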