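import Mathlib
import Groth.Prelude.Def_CohB1
import Groth.Agent.Lib.QCohExtn_helper9

/-!
# Fibre products of quasi-coherent modules are quasi-coherent
-/

universe u

open CategoryTheory CategoryTheory.Limits AlgebraicGeometry Opposite TopologicalSpace
open Groth.Agent.Lib.QCohLoc_helper4 QcqsLoc QCohExtn

namespace QCohPb

variable {X : Scheme.{u}} {A B C : X.Modules} (g : A ⟶ C) (h : B ⟶ C)

theorem pb_exists (W : X.Opens) (x : Γ(A, W)) (y : Γ(B, W)) (hxy : ap g W x = ap h W y) :
    ∃ s : Γ(pullback g h, W),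
      ap (pullback.fst g h) W s = x ∧ ap (pullback.snd g h) W s = y := by
  let G := QCohExact.sec X W
  let e := PreservesPullback.iso G g h
  have hf : e.inv ≫ G.map (pullback.fst g h) = pullback.fst (G.map g) (G.map h) :=
    PreservesPullback.iso_inv_fst G g h
  have hs : e.inv ≫ G.map (pullback.snd g h) = pullback.snd (G.map g) (G.map h) :=
    PreservesPullback.iso_inv_snd G g h
  have hxy' : (G.map g) x = (G.map h) y := hxy
  refine ⟨e.inv (Concrete.pullbackMk (G.map g) (G.map h) x y hxy'), ?_, ?_⟩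
  · have h1 := ConcreteCategory.congr_hom hf (Concrete.pullbackMk (G.map g) (G.map h) x y hxy')
    rw [Concrete.pullbackMk_fst] at h1
    exact h1
  · have h1 := ConcreteCategory.congr_hom hs (Concrete.pullbackMk (G.map g) (G.map h) x y hxy')
    rw [Concrete.pullbackMk_snd] at h1
    exact h1

theorem pb_ext (W : X.Opens) (s s' : Γ(pullback g h, W))
    (h1 : ap (pullback.fst g h) W s = ap (pullback.fst g h) W s')
    (h2 : ap (pullback.snd g h) W s = ap (pullback.snd g h) W s') : s = s' := by
  let G := QCohExact.sec X W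
  let e := PreservesPullback.iso G g h
  have hf : e.hom ≫ pullback.fst (G.map g) (G.map h) = G.map (pullback.fst g h) :=
    PreservesPullback.iso_hom_fst G g h
  have hs : e.hom ≫ pullback.snd (G.map g) (G.map h) = G.map (pullback.snd g h) :=
    PreservesPullback.iso_hom_snd G g h
  have hinj : Function.Injective e.hom := (ConcreteCategory.bijective_of_isIso e.hom).1
  apply hinj
  obtain ⟨x₁, y₁, hh, hs₁⟩ := Concrete.pullbackMk_surjective (G.map g) (G.map h) (e.hom s)
  obtain ⟨x₂, y₂, hh', hs₂⟩ := Concrete.pullbackMk_surjective (G.map g) (G.map h) (e.hom s')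
  have hx₁ : x₁ = (G.map (pullback.fst g h)) s := by
    have h3 := congrArg (pullback.fst (G.map g) (G.map h)) hs₁
    rw [Concrete.pullbackMk_fst] at h3
    exact h3.symm.trans (ConcreteCategory.congr_hom hf s)
  have hx₂ : x₂ = (G.map (pullback.fst g h)) s' := by
    have h3 := congrArg (pullback.fst (G.map g) (G.map h)) hs₂
    rw [Concrete.pullbackMk_fst] at h3
    exact h3.symm.trans (ConcreteCategory.congr_hom hf s')
  have hy₁ : y₁ = (G.map (pullback.snd g h)) s := by
    have h3 := congrArg (pullback.snd (G.map g) (G.map h)) hs₁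
    rw [Concrete.pullbackMk_snd] at h3
    exact h3.symm.trans (ConcreteCategory.congr_hom hs s)
  have hy₂ : y₂ = (G.map (pullback.snd g h)) s' := by
    have h3 := congrArg (pullback.snd (G.map g) (G.map h)) hs₂
    rw [Concrete.pullbackMk_snd] at h3
    exact h3.symm.trans (ConcreteCategory.congr_hom hs s')
  have hxx : x₁ = x₂ := hx₁.trans (h1.trans hx₂.symm)
  have hyy : y₁ = y₂ := hy₁.trans (h2.trans hy₂.symm)
  subst hxx
  subst hyy
  exact hs₁.trans hs₂.symm

theorem locOnU_pullback (hA : A.IsQuasicoherent) (hB : B.IsQuasicoherent)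
    (hC : C.IsQuasicoherent) {U : X.Opens} (hU : IsAffineOpen U) :
    QCohCrit.LocOnU (pullback g h) U := by
  intro a
  have hl : X.basicOpen a ≤ U := X.basicOpen_le a
  have LA := RelFPAff.locData (F := A) hU a (homOfLE hl) rfl
  have LB := RelFPAff.locData (F := B) hU a (homOfLE hl) rfl
  have LC := RelFPAff.locData (F := C) hU a (homOfLE hl) rfl
  have hcond : ∀ (W : X.Opens) (s : Γ(pullback g h, W)),
      ap g W (ap (pullback.fst g h) W s) = ap h W (ap (pullback.snd g h) W s) := by
    intro W s
    have := congrArg (fun χ => (χ.app W).hom s) (pullback.condition (f := g) (g := h))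
    exact this
  refine ⟨hU.isLocalization_basicOpen a, fun x m => Scheme.Modules.map_smul _ _ x m, ?_, ?_⟩
  · intro s'
    obtain ⟨n, x, hx⟩ := LA.surj (ap (pullback.fst g h) _ s')
    obtain ⟨m, y, hy⟩ := LB.surj (ap (pullback.snd g h) _ s')
    have hx' : rX hl a ^ n • ap (pullback.fst g h) (X.basicOpen a) s' = rF A hl x := hx
    have hy' : rX hl a ^ m • ap (pullback.snd g h) (X.basicOpen a) s' = rF B hl y := hy
    have e1 : rF C hl (ap g U (a ^ m • x)) =
        rX hl a ^ m • rX hl a ^ n • ap g (X.basicOpen a)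
          (ap (pullback.fst g h) (X.basicOpen a) s') := by
      rw [← ap_rF, rF_pow_smul, ← hx', ap_smul, ap_smul]
    have e2 : rF C hl (ap h U (a ^ n • y)) =
        rX hl a ^ n • rX hl a ^ m • ap h (X.basicOpen a)
          (ap (pullback.snd g h) (X.basicOpen a) s') := by
      rw [← ap_rF, rF_pow_smul, ← hy', ap_smul, ap_smul]
    have hd : rF C hl (ap g U (a ^ m • x) - ap h U (a ^ n • y)) = 0 := by
      rw [map_sub, e1, e2, hcond, smul_comm, sub_self]
    obtain ⟨k, hk⟩ := LC.ker _ hd
    obtain ⟨s, hs1, hs2⟩ := pb_exists g h U (a ^ k • a ^ m • x) (a ^ k • a ^ n • y) (by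
      rw [ap_smul g, ap_smul h, ← sub_eq_zero, ← smul_sub]
      exact hk)
    refine ⟨k + (m + n), s, ?_⟩
    show rX hl a ^ (k + (m + n)) • s' = rF (pullback g h) hl s
    apply pb_ext g h
    · rw [ap_smul, ap_rF, hs1, rF_pow_smul, rF_pow_smul, ← hx', pow_add, pow_add, mul_smul,
        mul_smul]
    · rw [show k + (m + n) = k + (n + m) by omega, ap_smul, ap_rF, hs2, rF_pow_smul,
        rF_pow_smul, ← hy', pow_add, pow_add, mul_smul, mul_smul]
  · intro s hs
    have hs' : rF (pullback g h) hl s = 0 := hs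
    have h1 : rF A hl (ap (pullback.fst g h) U s) = 0 := by rw [← ap_rF, hs', map_zero]
    have h2 : rF B hl (ap (pullback.snd g h) U s) = 0 := by rw [← ap_rF, hs', map_zero]
    obtain ⟨n, hn⟩ := LA.ker _ h1
    obtain ⟨m, hm⟩ := LB.ker _ h2
    refine ⟨n + m, ?_⟩
    apply pb_ext g h
    · rw [map_zero, ap_smul, pow_add, mul_comm, mul_smul, hn, smul_zero]
    · rw [map_zero, ap_smul, pow_add, mul_smul, hm, smul_zero]

/-- The fibre product of quasi-coherent modules is quasi-coherent. -/
theorem isQuasicoherent_pullback (hA : A.IsQuasicoherent) (hB : B.IsQuasicoherent)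
    (hC : C.IsQuasicoherent) : (pullback g h).IsQuasicoherent :=
  QCohCrit.isQuasicoherent_of_locOnU _ (fun U => locOnU_pullback g h hA hB hC U.2)

end QCohPb
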