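import Mathlib
import Groth.Prelude.Def_CohB1
import Groth.Agent.Lib.QCohPb_helper9

/-!
# Subsheaves of modules given by local conditions on sections

`LSub H`: a family of submodules `N(W) ⊆ Γ(H, W)`, stable under restriction and local.  It gives a
sheaf of modules `N.toModules` with a monomorphism `N.ι : N.toModules ⟶ H` whose image on sections
over `W` is `N(W)` (`ι_mem`, `exists_of_mem`).
-/

universe u

open CategoryTheory CategoryTheory.Limits AlgebraicGeometry Opposite TopologicalSpace
open Groth.Agent.Lib.QCohLoc_helper4 QcqsLoc QCohExtn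

/-- A subsheaf of `H` given sectionwise. -/
structure LSub {X : Scheme.{u}} (H : X.Modules) where
  /-- the sections over `W` -/
  carrier : ∀ W : X.Opens, Submodule Γ(X, W) Γ(H, W)
  res : ∀ {W W' : X.Opens} (h : W' ≤ W) {s : Γ(H, W)}, s ∈ carrier W → rF H h s ∈ carrier W'
  loc : ∀ {W : X.Opens} (s : Γ(H, W)),
    (∀ x ∈ W, ∃ (W' : X.Opens) (h : W' ≤ W), x ∈ W' ∧ rF H h s ∈ carrier W') → s ∈ carrier W

namespace LSub

variable {X : Scheme.{u}} {H : X.Modules}

set_option backward.isDefEq.respectTransparency false in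
/-- The underlying subobject of the presheaf of modules. -/
noncomputable def toPSub (N : LSub H) : PresheafOfModules.Submodule H.val where
  obj W := N.carrier W.unop
  map {W W'} f := by
    intro s hs
    have h1 : rF H (leOfHom f.unop) s ∈ N.carrier W'.unop := N.res (leOfHom f.unop) hs
    have h2 : rF H (leOfHom f.unop) s = H.presheaf.map f s :=
      Groth.Agent.Lib.QCohExtH1.rF_congr H _ _ s
    rw [h2] at h1
    exact h1

/-- A subpresheaf (given by an injective map) of a sheaf of abelian groups, whose image is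
local, is a sheaf. -/
theorem isSheaf_of_sub {Y : TopCat.{u}} {F' F : TopCat.Presheaf Ab.{u} Y} (φ : F' ⟶ F)
    (hF : F.IsSheaf) (hinj : ∀ W : Opens Y, Function.Injective (φ.app (op W)))
    (hloc : ∀ (W : Opens Y) (s : ToType (F.obj (op W))),
      (∀ x ∈ W, ∃ (W' : Opens Y) (h : W' ≤ W), x ∈ W' ∧
        ∃ t, φ.app (op W') t = F.map (homOfLE h).op s) → ∃ t, φ.app (op W) t = s) :
    F'.IsSheaf := by
  refine (TopCat.Presheaf.isSheaf_iff_isSheafUniqueGluing F').mpr (fun ι U sf hsf => ?_)
  let sf' : ∀ i, ToType (F.obj (op (U i))) := fun i => φ.app (op (U i)) (sf i)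
  have nat : ∀ {A B : (Opens Y)ᵒᵖ} (f : A ⟶ B) (x : ToType (F'.obj A)),
      φ.app B (F'.map f x) = F.map f (φ.app A x) := fun f x => NatTrans.naturality_apply φ f x
  have hsf' : TopCat.Presheaf.IsCompatible F U sf' := by
    intro i j
    show F.map _ (φ.app _ (sf i)) = F.map _ (φ.app _ (sf j))
    rw [← nat, ← nat, hsf i j]
  obtain ⟨s, hs, huniq⟩ := TopCat.Sheaf.existsUnique_gluing ⟨F, hF⟩ U sf' hsf'
  obtain ⟨s₀, hs₀⟩ := hloc (iSup U) s (fun x hx => by
    obtain ⟨i, hi⟩ := Opens.mem_iSup.mp hx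
    exact ⟨U i, le_iSup U i, hi, sf i, (hs i).symm⟩)
  refine ⟨s₀, fun i => ?_, fun s₁ hs₁ => ?_⟩
  · apply hinj
    rw [nat, hs₀]
    exact hs i
  · apply hinj
    rw [hs₀]
    apply huniq
    intro i
    show F.map _ (φ.app _ s₁) = φ.app _ (sf i)
    rw [← nat, hs₁ i]

set_option backward.isDefEq.respectTransparency false in
theorem isSheaf_toPSub (N : LSub H) :
    Presheaf.IsSheaf (Opens.grothendieckTopology X) N.toPSub.toPresheafOfModules.presheaf := by
  let φ : N.toPSub.toPresheafOfModules.presheaf ⟶ H.val.presheaf :=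
    (PresheafOfModules.toPresheaf _).map N.toPSub.ι
  refine isSheaf_of_sub φ H.isSheaf (fun W => ?_) (fun W s hs => ?_)
  · intro a b hab
    exact Subtype.ext hab
  · have hsN : s ∈ N.carrier W := by
      apply N.loc
      intro x hx
      obtain ⟨W', h, hxW', t, ht⟩ := hs x hx
      refine ⟨W', h, hxW', ?_⟩
      have h1 : rF H h s = φ.app (op W') t := ht.symm
      rw [h1]
      exact (t : ↥(N.carrier W')).2
    exact ⟨(⟨s, hsN⟩ : ↥(N.carrier W)), rfl⟩

/-- The sheaf of modules attached to `N`. -/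
noncomputable def toModules (N : LSub H) : X.Modules :=
  ⟨N.toPSub.toPresheafOfModules, N.isSheaf_toPSub⟩

/-- The inclusion. -/
noncomputable def ι (N : LSub H) : N.toModules ⟶ H := ⟨N.toPSub.ι⟩

instance mono_ι (N : LSub H) : Mono N.ι := by
  have h : Mono ((SheafOfModules.forget _).map N.ι) :=
    inferInstanceAs (Mono N.toPSub.ι)
  exact (SheafOfModules.forget _).mono_of_mono_map h

set_option backward.isDefEq.respectTransparency false in
theorem ι_mem (N : LSub H) {W : X.Opens} (s : Γ(N.toModules, W)) :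
    ap N.ι W s ∈ N.carrier W :=
  (s : ↥(N.carrier W)).2

set_option backward.isDefEq.respectTransparency false in
theorem exists_of_mem (N : LSub H) {W : X.Opens} {y : Γ(H, W)} (hy : y ∈ N.carrier W) :
    ∃ s : Γ(N.toModules, W), ap N.ι W s = y :=
  ⟨(⟨y, hy⟩ : ↥(N.carrier W)), rfl⟩

theorem ι_injective (N : LSub H) (W : X.Opens) : Function.Injective (ap N.ι W) :=
  QCohExact.app_injective_of_mono N.ι W

theorem ι_bijective_of_eq_top (N : LSub H) {W : X.Opens} (h : N.carrier W = ⊤) :
    Function.Bijective (ap N.ι W) :=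
  ⟨N.ι_injective W, fun y => N.exists_of_mem (by rw [h]; trivial)⟩

/-- Localization surjectivity for `N` at `O`. -/
def LocSurj (N : LSub H) (O : X.Opens) : Prop :=
  ∀ (a : Γ(X, O)) (s' : Γ(H, X.basicOpen a)), s' ∈ N.carrier (X.basicOpen a) →
    ∃ (n : ℕ) (s : Γ(H, O)), s ∈ N.carrier O ∧
      rX (X.basicOpen_le a) a ^ n • s' = rF H (X.basicOpen_le a) s

theorem locOnU_of_locSurj [H.IsQuasicoherent] (N : LSub H) {O : X.Opens} (hO : IsAffineOpen O)
    (h : LocSurj N O) : QCohCrit.LocOnU N.toModules O := by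
  intro a
  have hl : X.basicOpen a ≤ O := X.basicOpen_le a
  have LH := RelFPAff.locData (F := H) hO a (homOfLE hl) rfl
  refine ⟨hO.isLocalization_basicOpen a, fun x m => Scheme.Modules.map_smul _ _ x m, ?_, ?_⟩
  · intro m'
    obtain ⟨n, s, hs, hns⟩ := h a (ap N.ι _ m') (N.ι_mem m')
    obtain ⟨m, hm⟩ := N.exists_of_mem hs
    refine ⟨n, m, ?_⟩
    show rX hl a ^ n • m' = rF N.toModules hl m
    apply N.ι_injective
    rw [ap_smul, ap_rF, hm]
    exact hns
  · intro m hm
    have hm' : rF N.toModules hl m = 0 := hm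
    have h1 : rF H hl (ap N.ι O m) = 0 := by rw [← ap_rF, hm', map_zero]
    obtain ⟨n, hn⟩ := LH.ker _ h1
    refine ⟨n, ?_⟩
    apply N.ι_injective
    rw [ap_smul, hn, map_zero]

theorem finite_of_fg (N : LSub H) {O : X.Opens} (h : (N.carrier O).FG) :
    Module.Finite Γ(X, O) Γ(N.toModules, O) := by
  haveI : Module.Finite Γ(X, O) ↥(N.carrier O) := Module.Finite.iff_fg.mpr h
  let f : Γ(N.toModules, O) →ₗ[Γ(X, O)] ↥(N.carrier O) :=
    { toFun := fun s => ⟨ap N.ι O s, N.ι_mem s⟩
      map_add' := fun a b => Subtype.ext (map_add (ap N.ι O) a b)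
      map_smul' := fun r a => Subtype.ext (ap_smul N.ι r a) }
  have hf : Function.Bijective f := by
    refine ⟨fun a b hab => N.ι_injective O (congrArg Subtype.val hab), fun y => ?_⟩
    obtain ⟨s, hs⟩ := N.exists_of_mem y.2
    exact ⟨s, Subtype.ext hs⟩
  exact Module.Finite.equiv (LinearEquiv.ofBijective f hf).symm

/-- Intersection of a family of subsheaves. -/
noncomputable def iInf {ι' : Sort*} (N : ι' → LSub H) : LSub H where
  carrier W := ⨅ i, (N i).carrier W
  res h s hs := by
    rw [Submodule.mem_iInf] at hs ⊢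
    exact fun i => (N i).res h (hs i)
  loc s hs := by
    rw [Submodule.mem_iInf]
    intro i
    apply (N i).loc
    intro x hx
    obtain ⟨W', h, hxW', hm⟩ := hs x hx
    exact ⟨W', h, hxW', (Submodule.mem_iInf _).mp hm i⟩

theorem mem_iInf {ι' : Sort*} (N : ι' → LSub H) {W : X.Opens} (s : Γ(H, W)) :
    s ∈ (iInf N).carrier W ↔ ∀ i, s ∈ (N i).carrier W :=
  Submodule.mem_iInf _

end LSub
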