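import Mathlib
import Groth.Prelude.Def_Curv2
import Groth.Agent.Lib.LSub_helper9
import Groth.Agent.Lib.GlobGen_helper9

/-!
# Globally generated modules: local sections are locally combinations of global sections

* `GGH8.LocSpan H g W s`: near every point of `W`, the section `s` is a finite linear combination
  of restrictions of the global sections `g i`.
* `GGH8.spanSub H g : LSub H`: the subsheaf of such sections.
* `GGH8.locSpan_of_epi`: if `p : free ι ⟶ H` is an epimorphism, every section of `H` is locally
  a combination of the images of the generators.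
* `GGH8.exists_locSpan`: the same for `Curv2.IsGloballyGenerated H`.
-/

universe u

open CategoryTheory CategoryTheory.Limits AlgebraicGeometry Opposite TopologicalSpace
open Groth.Agent.Lib.QCohLoc_helper4 QcqsLoc QCohExtn

namespace GGH8

variable {X : Scheme.{u}}

/-- The submodule of `Γ(H, W)` spanned by the restrictions of the global sections `g i`. -/
noncomputable def spanAt (H : X.Modules) {ι : Type*} (g : ι → Γ(H, ⊤)) (W : X.Opens) :
    Submodule Γ(X, W) Γ(H, W) :=
  Submodule.span Γ(X, W) (Set.range fun i => rF H (le_top : W ≤ ⊤) (g i))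

theorem spanAt_res (H : X.Modules) {ι : Type*} (g : ι → Γ(H, ⊤)) {W W' : X.Opens} (h : W' ≤ W)
    {t : Γ(H, W)} (ht : t ∈ spanAt H g W) : rF H h t ∈ spanAt H g W' := by
  unfold spanAt at ht ⊢
  induction ht using Submodule.span_induction with
  | mem y hy =>
    obtain ⟨i, rfl⟩ := hy
    apply Submodule.subset_span
    refine ⟨i, ?_⟩
    show rF H le_top (g i) = rF H h (rF H le_top (g i))
    rw [rF_rF]
  | zero => rw [map_zero]; exact Submodule.zero_mem _
  | add a b _ _ ha hb => rw [map_add]; exact Submodule.add_mem _ ha hb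
  | smul r a _ ha => rw [rF_smul]; exact Submodule.smul_mem _ _ ha

/-- Near every point of `W`, `s` is a combination of the `g i`. -/
def LocSpan (H : X.Modules) {ι : Type*} (g : ι → Γ(H, ⊤)) (W : X.Opens) (s : Γ(H, W)) : Prop :=
  ∀ x ∈ W, ∃ (W' : X.Opens) (h : W' ≤ W), x ∈ W' ∧ rF H h s ∈ spanAt H g W'

/-- The subsheaf of locally finite combinations of the `g i`. -/
noncomputable def spanSub (H : X.Modules) {ι : Type*} (g : ι → Γ(H, ⊤)) : LSub H where
  carrier W :=
    { carrier := {s | LocSpan H g W s}
      add_mem' := by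
        intro a b ha hb x hx
        obtain ⟨W1, h1, hx1, m1⟩ := ha x hx
        obtain ⟨W2, h2, hx2, m2⟩ := hb x hx
        refine ⟨W1 ⊓ W2, inf_le_left.trans h1, ⟨hx1, hx2⟩, ?_⟩
        rw [map_add]
        apply Submodule.add_mem
        · have := spanAt_res H g (inf_le_left : W1 ⊓ W2 ≤ W1) m1
          rw [rF_rF] at this
          exact this
        · have := spanAt_res H g (inf_le_right : W1 ⊓ W2 ≤ W2) m2
          rw [rF_rF] at this
          exact this
      zero_mem' := by
        intro x hx
        refine ⟨W, le_rfl, hx, ?_⟩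
        rw [map_zero]
        exact Submodule.zero_mem _
      smul_mem' := by
        intro r a ha x hx
        obtain ⟨W1, h1, hx1, m1⟩ := ha x hx
        refine ⟨W1, h1, hx1, ?_⟩
        rw [rF_smul]
        exact Submodule.smul_mem _ _ m1 }
  res := by
    intro W W' h s hs x hx
    obtain ⟨W1, h1, hx1, m1⟩ := hs x (h hx)
    refine ⟨W1 ⊓ W', inf_le_right, ⟨hx1, hx⟩, ?_⟩
    have := spanAt_res H g (inf_le_left : W1 ⊓ W' ≤ W1) m1
    rw [rF_rF] at this
    rw [rF_rF]
    exact this
  loc := by
    intro W s hloc x hx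
    obtain ⟨W', h, hxW', hs'⟩ := hloc x hx
    obtain ⟨W1, h1, hx1, m1⟩ := hs' x hxW'
    refine ⟨W1, h1.trans h, hx1, ?_⟩
    rw [rF_rF] at m1
    exact m1

theorem mem_spanSub (H : X.Modules) {ι : Type*} (g : ι → Γ(H, ⊤)) {W : X.Opens} (s : Γ(H, W)) :
    s ∈ (spanSub H g).carrier W ↔ LocSpan H g W s := Iff.rfl

theorem gen_mem_spanSub (H : X.Modules) {ι : Type*} (g : ι → Γ(H, ⊤)) (i : ι) :
    g i ∈ (spanSub H g).carrier ⊤ := by
  intro x hx
  refine ⟨⊤, le_rfl, hx, ?_⟩
  apply Submodule.subset_span
  exact ⟨i, rfl⟩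

set_option backward.isDefEq.respectTransparency false in
/-- If `p : free ι ⟶ H` is an epimorphism then every local section of `H` is locally a
combination of the images of the generators. -/
theorem locSpan_of_epi {H : X.Modules} {ι : Type u}
    (p : (SheafOfModules.free ι : X.Modules) ⟶ H) [Epi p] (W : X.Opens) (s : Γ(H, W)) :
    LocSpan H (fun i => ((SheafOfModules.freeHomEquiv H p i).val (op ⊤) : Γ(H, ⊤))) W s := by
  let g : ι → Γ(H, ⊤) := fun i => ((SheafOfModules.freeHomEquiv H p i).val (op ⊤) : Γ(H, ⊤))
  let N : LSub H := spanSub H g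
  choose g' hg' using fun i => N.exists_of_mem (gen_mem_spanSub H g i)
  let q : (SheafOfModules.free ι : X.Modules) ⟶ N.toModules :=
    (SheafOfModules.freeHomEquiv N.toModules).symm
      (fun i => GlobGen.globalSection N.toModules (g' i))
  have hq : q ≫ N.ι = p := by
    apply (SheafOfModules.freeHomEquiv H).injective
    funext i
    rw [SheafOfModules.freeHomEquiv_comp_apply]
    have h1 : SheafOfModules.freeHomEquiv N.toModules q i =
        GlobGen.globalSection N.toModules (g' i) := by
      show (SheafOfModules.freeHomEquiv N.toModules)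
        ((SheafOfModules.freeHomEquiv N.toModules).symm _) i = _
      rw [Equiv.apply_symm_apply]
    rw [h1]
    apply Subtype.ext
    funext V
    show ap N.ι V.unop (rF N.toModules (le_top : V.unop ≤ ⊤) (g' i)) =
      (SheafOfModules.freeHomEquiv H p i).val V
    rw [ap_rF, hg' i]
    exact (SheafOfModules.freeHomEquiv H p i).property (homOfLE (le_top : V.unop ≤ ⊤)).op
  haveI : Epi (q ≫ N.ι) := by rw [hq]; infer_instance
  haveI : Epi N.ι := epi_of_epi q N.ι
  haveI : IsIso N.ι := isIso_of_mono_of_epi N.ι
  have h2 : ap N.ι W (ap (inv N.ι) W s) = s := by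
    have := congrArg (fun φ : H ⟶ H => ap φ W s) (IsIso.inv_hom_id N.ι)
    exact this
  have h3 := N.ι_mem (ap (inv N.ι) W s)
  rw [h2] at h3
  exact h3

/-- A globally generated module has a family of global sections locally spanning all sections. -/
theorem exists_locSpan {H : X.Modules} (h : Curv2.IsGloballyGenerated H) :
    ∃ (ι : Type u) (g : ι → Γ(H, ⊤)), ∀ (W : X.Opens) (s : Γ(H, W)), LocSpan H g W s := by
  obtain ⟨ι, p, hp⟩ := h
  exact ⟨ι, _, fun W s => locSpan_of_epi p W s⟩

end GGH8
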