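import Mathlib.Algebra.Homology.DerivedCategory.Ext.ExactSequences
import Mathlib.Algebra.Homology.DerivedCategory.Ext.EnoughInjectives
import Mathlib.CategoryTheory.Abelian.Injective.Basic

/-!
# Vanishing of `Ext^{n+1}(G, F)` for `F` in a class of "acyclic" objects

A dimension shifting argument: if a class `P` of objects contains the injectives, is stable under
cokernels of monomorphisms between objects of `P`, and `Hom(G, -)` sends short exact sequences with
kernel in `P` to surjections, then `Ext^{n+1}(G, F) = 0` for all `F` in `P`.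
-/

set_option autoImplicit false
universe w v u
open CategoryTheory Limits Abelian

namespace Groth.Agent.Lib.ExtAcyclic

variable {A : Type u} [Category.{v} A] [Abelian A] [HasExt.{w} A] [EnoughInjectives A]

theorem ext_eq_zero_of_class (G : A) (P : A → Prop)
    (hinj : ∀ I : A, Injective I → P I)
    (hquot : ∀ S : ShortComplex A, S.ShortExact → P S.X₁ → P S.X₂ → P S.X₃)
    (hsurj : ∀ S : ShortComplex A, S.ShortExact → P S.X₁ →
      ∀ φ : G ⟶ S.X₃, ∃ ψ : G ⟶ S.X₂, ψ ≫ S.g = φ)
    (n : ℕ) : ∀ (F : A) (_ : P F) (ξ : Ext G F (n + 1)), ξ = 0 := by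
  induction n with
  | zero =>
    intro F hF ξ
    let S : ShortComplex A := ShortComplex.mk (Injective.ι F) (cokernel.π (Injective.ι F))
      (cokernel.condition _)
    have hS : S.ShortExact :=
      { exact := ShortComplex.exact_of_g_is_cokernel _ (cokernelIsCokernel _)
        mono_f := inferInstanceAs (Mono (Injective.ι F))
        epi_g := inferInstanceAs (Epi (cokernel.π (Injective.ι F))) }
    obtain ⟨x₃, hx₃⟩ := Ext.covariant_sequence_exact₁ G hS ξ
      (Ext.eq_zero_of_injective (I := Injective.under F) _) (zero_add 1)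
    obtain ⟨φ, rfl⟩ := (Ext.mk₀_bijective G S.X₃).2 x₃
    obtain ⟨ψ, rfl⟩ := hsurj S hS hF φ
    rw [← hx₃, ← Ext.mk₀_comp_mk₀, Ext.comp_assoc_of_second_deg_zero, hS.comp_extClass,
      Ext.comp_zero]
  | succ n ih =>
    intro F hF ξ
    let S : ShortComplex A := ShortComplex.mk (Injective.ι F) (cokernel.π (Injective.ι F))
      (cokernel.condition _)
    have hS : S.ShortExact :=
      { exact := ShortComplex.exact_of_g_is_cokernel _ (cokernelIsCokernel _)
        mono_f := inferInstanceAs (Mono (Injective.ι F))
        epi_g := inferInstanceAs (Epi (cokernel.π (Injective.ι F))) }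
    obtain ⟨x₃, hx₃⟩ := Ext.covariant_sequence_exact₁ G hS ξ
      (Ext.eq_zero_of_injective (I := Injective.under F) _) (rfl : n + 1 + 1 = n + 1 + 1)
    have hQ : P S.X₃ := hquot S hS hF (hinj _ (inferInstanceAs (Injective (Injective.under F))))
    rw [← hx₃, ih S.X₃ hQ x₃, Ext.zero_comp]

end Groth.Agent.Lib.ExtAcyclic
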