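import Mathlib.CategoryTheory.Sites.SheafCohomology.Basic
import Mathlib.CategoryTheory.Adjunction.Whiskering
import Mathlib.Algebra.Category.Grp.Adjunctions

/-!
# The free abelian sheaf on a representable presheaf

`freeSheaf J U` is the abelian sheaf used by Mathlib to define `Sheaf.H'`. We construct the natural
bijection `(freeSheaf J U ⟶ F) ≃ F(U)`.
-/

set_option autoImplicit false
universe v u
open CategoryTheory Limits Opposite

namespace Groth.Agent.Lib.FreeSheaf

variable {C : Type u} [Category.{v} C] (J : GrothendieckTopology C)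
  [HasWeakSheafify J AddCommGrpCat.{v}]

/-- the free abelian presheaf on `yoneda U` -/
noncomputable abbrev freePresheaf (U : C) : Cᵒᵖ ⥤ AddCommGrpCat.{v} :=
  ((Functor.whiskeringRight _ _ _).obj AddCommGrpCat.free).obj (yoneda.obj U)

/-- the free abelian sheaf on `yoneda U` -/
noncomputable abbrev freeSheaf (U : C) : Sheaf J AddCommGrpCat.{v} :=
  (presheafToSheaf J _).obj (freePresheaf U)

/-- the functor `U ↦ freeSheaf J U` -/
noncomputable abbrev freeSheafFunctor : C ⥤ Sheaf J AddCommGrpCat.{v} :=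
  yoneda ⋙ (Functor.whiskeringRight _ _ _).obj AddCommGrpCat.free ⋙ presheafToSheaf _ _

/-- the map `freeSheaf J V ⟶ freeSheaf J U` induced by `V ⟶ U` -/
noncomputable abbrev freeSheafMap {U V : C} (g : V ⟶ U) : freeSheaf J V ⟶ freeSheaf J U :=
  (freeSheafFunctor J).map g

/-- maps from the free presheaf are sections -/
noncomputable def freePresheafHomEquiv (U : C) (P : Cᵒᵖ ⥤ AddCommGrpCat.{v}) :
    (freePresheaf U ⟶ P) ≃ P.obj (op U) :=
  ((AddCommGrpCat.adj.whiskerRight Cᵒᵖ).homEquiv (yoneda.obj U) P).trans yonedaEquiv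

lemma freePresheafHomEquiv_comp (U : C) {P Q : Cᵒᵖ ⥤ AddCommGrpCat.{v}}
    (f : freePresheaf U ⟶ P) (φ : P ⟶ Q) :
    freePresheafHomEquiv U Q (f ≫ φ) = φ.app (op U) (freePresheafHomEquiv U P f) := by
  dsimp [freePresheafHomEquiv]
  rw [Adjunction.homEquiv_naturality_right, yonedaEquiv_comp]
  rfl

lemma freePresheafHomEquiv_map {U V : C} (g : V ⟶ U) (P : Cᵒᵖ ⥤ AddCommGrpCat.{v})
    (f : freePresheaf U ⟶ P) :
    freePresheafHomEquiv V P
      (((Functor.whiskeringRight _ _ _).obj AddCommGrpCat.free).map (yoneda.map g) ≫ f) =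
      P.map g.op (freePresheafHomEquiv U P f) := by
  have h1 := (AddCommGrpCat.adj.whiskerRight Cᵒᵖ).homEquiv_naturality_left (yoneda.map g) f
  show yonedaEquiv ((AddCommGrpCat.adj.whiskerRight Cᵒᵖ).homEquiv _ _
    (((Functor.whiskeringRight _ _ _).obj AddCommGrpCat.free).map (yoneda.map g) ≫ f)) = _
  rw [h1]
  exact (yonedaEquiv_naturality (F := P ⋙ forget AddCommGrpCat) _ g).symm

/-- maps from the free sheaf are sections -/
noncomputable def freeSheafHomEquiv (U : C) (F : Sheaf J AddCommGrpCat.{v}) :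
    (freeSheaf J U ⟶ F) ≃ F.obj.obj (op U) :=
  ((sheafificationAdjunction J AddCommGrpCat.{v}).homEquiv (freePresheaf U) F).trans
    (freePresheafHomEquiv U F.obj)

lemma freeSheafHomEquiv_comp (U : C) {F G : Sheaf J AddCommGrpCat.{v}}
    (f : freeSheaf J U ⟶ F) (φ : F ⟶ G) :
    freeSheafHomEquiv J U G (f ≫ φ) = φ.hom.app (op U) (freeSheafHomEquiv J U F f) := by
  dsimp [freeSheafHomEquiv]
  rw [Adjunction.homEquiv_naturality_right]
  exact freePresheafHomEquiv_comp U _ _

lemma freeSheafHomEquiv_map {U V : C} (g : V ⟶ U) (F : Sheaf J AddCommGrpCat.{v})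
    (f : freeSheaf J U ⟶ F) :
    freeSheafHomEquiv J V F (freeSheafMap J g ≫ f) =
      F.obj.map g.op (freeSheafHomEquiv J U F f) := by
  dsimp [freeSheafHomEquiv]
  rw [← freePresheafHomEquiv_map]
  congr 1
  exact (sheafificationAdjunction J AddCommGrpCat.{v}).homEquiv_naturality_left _ _

lemma freePresheafMap_mono {U V : C} (g : V ⟶ U) [Mono g] :
    Mono (((Functor.whiskeringRight Cᵒᵖ _ _).obj AddCommGrpCat.free.{v}).map (yoneda.map g)) := by
  have : ∀ W : Cᵒᵖ, Mono ((((Functor.whiskeringRight Cᵒᵖ _ _).obj AddCommGrpCat.free.{v}).map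
      (yoneda.map g)).app W) := by
    intro W
    have : Mono ((yoneda.map g).app W) := by
      rw [mono_iff_injective]
      intro a b hab
      exact (cancel_mono g).1 hab
    exact inferInstanceAs (Mono (AddCommGrpCat.free.map ((yoneda.map g).app W)))
  exact NatTrans.mono_of_mono_app _

lemma freeSheafMap_mono [HasSheafify J AddCommGrpCat.{v}] {U V : C} (g : V ⟶ U) [Mono g] :
    Mono (freeSheafMap J g) := by
  have := freePresheafMap_mono g
  exact inferInstanceAs (Mono ((presheafToSheaf J AddCommGrpCat.{v}).map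
    (((Functor.whiskeringRight Cᵒᵖ _ _).obj AddCommGrpCat.free.{v}).map (yoneda.map g))))

/-- An injective abelian sheaf has surjective restriction maps along monomorphisms. -/
lemma surjective_map_of_injective [HasSheafify J AddCommGrpCat.{v}]
    (F : Sheaf J AddCommGrpCat.{v}) [Injective F] {U V : C} (g : V ⟶ U) [Mono g] :
    Function.Surjective (F.obj.map g.op) := by
  intro s
  have := freeSheafMap_mono J g
  let f : freeSheaf J V ⟶ F := (freeSheafHomEquiv J V F).symm s
  refine ⟨freeSheafHomEquiv J U F (Injective.factorThru f (freeSheafMap J g)), ?_⟩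
  rw [← freeSheafHomEquiv_map, Injective.comp_factorThru]
  exact (freeSheafHomEquiv J V F).apply_symm_apply s

end Groth.Agent.Lib.FreeSheaf
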