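import Groth.Prelude.Def_CohTop
import Groth.Agent.Lib.FreeSheaf_helper2
import Groth.Agent.Lib.ExtAcyclicClass_helper2
import Mathlib.Topology.Sheaves.Flasque
import Mathlib.CategoryTheory.Sites.ConstantSheaf

/-!
# Flasque abelian sheaves on a topological space are acyclic
-/

set_option autoImplicit false
universe u
open CategoryTheory Limits Opposite TopologicalSpace Abelian

namespace Groth.Agent.Lib.FlasqueAcyclic

open Groth.Agent.Lib.FreeSheaf

variable {X : TopCat.{u}}

/-- injective abelian sheaves are flasque -/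
theorem isFlasque_of_injective (F : CohTop.Ab X) [Injective F] : TopCat.Sheaf.IsFlasque F := by
  refine ⟨fun {U V} i => ?_⟩
  rw [AddCommGrpCat.epi_iff_surjective]
  have hm : Mono i.unop := ⟨fun a b _ => Subsingleton.elim _ _⟩
  exact surjective_map_of_injective (Opens.grothendieckTopology X) F i.unop

/-- General vanishing of `Ext^{n+1}(G, F)` for flasque `F`, given that `Hom(G, -)` is computed by
sections over some open `U`, naturally. -/
theorem ext_eq_zero_of_isFlasque (G : CohTop.Ab X) (U : Opens X)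
    (e : ∀ F : CohTop.Ab X, (G ⟶ F) ≃ F.obj.obj (op U))
    (he : ∀ {F F' : CohTop.Ab X} (f : G ⟶ F) (φ : F ⟶ F'), e F' (f ≫ φ) = φ.hom.app (op U) (e F f))
    (F : CohTop.Ab X) [TopCat.Sheaf.IsFlasque F] (n : ℕ) (ξ : Ext G F (n + 1)) : ξ = 0 := by
  refine Groth.Agent.Lib.ExtAcyclic.ext_eq_zero_of_class G
    (fun F => TopCat.Sheaf.IsFlasque F) ?_ ?_ ?_ n F inferInstance ξ
  · intro I hI
    exact isFlasque_of_injective I
  · intro S hS h1 h2
    exact TopCat.Sheaf.IsFlasque.of_shortExact_of_isFlasque₁₂ hS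
  · intro S hS h1 φ
    have hepi : Epi (S.g.1.app (op U)) := TopCat.Sheaf.IsFlasque.epi_of_shortExact hS
    rw [AddCommGrpCat.epi_iff_surjective] at hepi
    obtain ⟨t, ht⟩ := hepi (e S.X₃ φ)
    refine ⟨(e S.X₂).symm t, ?_⟩
    apply (e S.X₃).injective
    rw [he, Equiv.apply_symm_apply]
    exact ht

theorem ext_freeSheaf_eq_zero_of_isFlasque (F : CohTop.Ab X) [TopCat.Sheaf.IsFlasque F]
    (U : Opens X) (n : ℕ) (ξ : Ext (freeSheaf (Opens.grothendieckTopology X) U) F (n + 1)) :
    ξ = 0 :=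
  ext_eq_zero_of_isFlasque _ U (fun F => freeSheafHomEquiv _ U F)
    (fun f φ => freeSheafHomEquiv_comp _ U f φ) F n ξ

end Groth.Agent.Lib.FlasqueAcyclic

namespace Groth.Agent.Lib.FlasqueAcyclic

open Groth.Agent.Lib.FreeSheaf

variable {X : TopCat.{u}}

/-- maps from the constant sheaf `ℤ` are global sections -/
noncomputable def constEquiv (F : CohTop.Ab X) :
    ((constantSheaf (Opens.grothendieckTopology X) AddCommGrpCat.{u}).obj
      (AddCommGrpCat.of (ULift ℤ)) ⟶ F) ≃ F.obj.obj (op (⊤ : Opens X)) :=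
  ((constantSheafAdj (Opens.grothendieckTopology X) AddCommGrpCat.{u} isTerminalTop).homEquiv
    (AddCommGrpCat.of (ULift ℤ)) F).trans
    (AddCommGrpCat.uliftZMultiplesAddEquiv (F.obj.obj (op (⊤ : Opens X)))).toEquiv

lemma constEquiv_comp {F F' : CohTop.Ab X}
    (f : (constantSheaf (Opens.grothendieckTopology X) AddCommGrpCat.{u}).obj
      (AddCommGrpCat.of (ULift ℤ)) ⟶ F) (φ : F ⟶ F') :
    constEquiv F' (f ≫ φ) = φ.hom.app (op ⊤) (constEquiv F f) := by
  dsimp [constEquiv]
  rw [Adjunction.homEquiv_naturality_right]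
  rfl

theorem H_eq_zero_of_isFlasque (F : CohTop.Ab X) [TopCat.Sheaf.IsFlasque F]
    (n : ℕ) (ξ : CohTop.H F (n + 1)) : ξ = 0 :=
  ext_eq_zero_of_isFlasque _ ⊤ (fun F => constEquiv F)
    (fun f φ => constEquiv_comp f φ) F n ξ

end Groth.Agent.Lib.FlasqueAcyclic
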