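import Mathlib
import Groth.Prelude.Def_CohB1
import Groth.Agent.Lib.QCohPb_helper9

/-!
# Extending submodules from a quasi-compact open

* `SubExt.isQuasicoherent_kernel`, `SubExt.isQuasicoherent_X₃`, `SubExt.isQuasicoherent_coimage`:
  kernels, cokernels of monomorphisms and (co)images of quasi-coherent modules are quasi-coherent.
* `SubExt.ext U F G φ`: for `φ : G ⟶ F|_U`, the fibre product `F ×_{j_* j^* F} j_* G`, with its
  sections (`ext_exists`, `ext_ext`, `ext_cond`), its restriction to `U` (`extRes`, an isomorphism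
  onto `G`), and quasi-coherence.
-/

universe u

open CategoryTheory CategoryTheory.Limits AlgebraicGeometry Opposite TopologicalSpace
open Groth.Agent.Lib.QCohLoc_helper4 QcqsLoc QCohExtn

namespace SubExt

variable {X : Scheme.{u}}

section misc

/-- A morphism bijective on all sections is an isomorphism. -/
theorem isIso_of_bijective {M N : X.Modules} (φ : M ⟶ N)
    (h : ∀ W : X.Opens, Function.Bijective (ap φ W)) : IsIso φ := by
  have hB : Opens.IsBasis (Set.range (fun W : X.Opens => W)) := by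
    rw [Opens.isBasis_iff_nbhd]
    intro W x hx
    exact ⟨W, ⟨W, rfl⟩, hx, le_rfl⟩
  refine QCohCrit.isIso_of_isIso_app_basis φ (fun W : X.Opens => W) hB (fun W => ?_)
  exact (ConcreteCategory.isIso_iff_bijective _).mpr (h W)

theorem map_map_self (F : X.Modules) {A B : X.Opensᵒᵖ} (i : A ⟶ B) (j : B ⟶ A)
    (y : F.presheaf.obj A) : F.presheaf.map j (F.presheaf.map i y) = y := by
  have h1 := map_map_eq F i j (𝟙 A) y
  rw [F.presheaf.map_id] at h1
  exact h1

theorem rF_self (F : X.Modules) {W : X.Opens} (h : W ≤ W) (t : Γ(F, W)) : rF F h t = t := by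
  have h1 : (homOfLE h).op = 𝟙 (op W) := Subsingleton.elim _ _
  show (F.presheaf.map (homOfLE h).op).hom t = t
  rw [h1, F.presheaf.map_id]
  rfl

theorem rF_bijective_of_eq (F : X.Modules) {V W : X.Opens} (h : V ≤ W) (e : V = W) :
    Function.Bijective (rF F h) := by
  subst e
  have key : ∀ t, rF F h t = t := fun t => rF_self F h t
  refine ⟨fun a b hab => ?_, fun b => ⟨b, key b⟩⟩
  rw [← key a, ← key b]
  exact hab

/-- For a monomorphism of sheaves of modules, lying in the image is a local condition. -/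
theorem mem_range_of_locally {A B : X.Modules} (i : A ⟶ B) [Mono i] {W : X.Opens} (y : Γ(B, W))
    (h : ∀ x ∈ W, ∃ (W' : X.Opens) (hW' : W' ≤ W), x ∈ W' ∧
      ∃ z : Γ(A, W'), ap i W' z = rF B hW' y) :
    ∃ z : Γ(A, W), ap i W z = y := by
  classical
  choose O hO hxO z hz using h
  let ι : Type u := {x : X // x ∈ W}
  let O' : ι → X.Opens := fun p => O p.1 p.2
  have hle : ∀ p : ι, O' p ≤ W := fun p => hO p.1 p.2
  let b : ∀ p : ι, Γ(A, O' p) := fun p => z p.1 p.2
  have hb : ∀ p : ι, ap i (O' p) (b p) = rF B (hle p) y := fun p => hz p.1 p.2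
  have hcov : W ≤ ⨆ p : ι, O' p := by
    intro x hx
    exact Opens.mem_iSup.mpr ⟨⟨x, hx⟩, hxO x hx⟩
  have hinj : ∀ V : X.Opens, Function.Injective (ap i V) := fun V =>
    QCohExact.app_injective_of_mono i V
  have hcompat : ∀ p q : ι, rF A (inf_le_left : O' p ⊓ O' q ≤ O' p) (b p) =
      rF A (inf_le_right : O' p ⊓ O' q ≤ O' q) (b q) := by
    intro p q
    apply hinj
    rw [ap_rF, ap_rF, hb, hb, rF_rF, rF_rF]
  have hc : TopCat.Presheaf.IsCompatible A.presheaf O' b := by
    intro p q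
    have h2 : A.presheaf.map (homOfLE (inf_le_left : O' p ⊓ O' q ≤ O' p)).op (b p) =
        A.presheaf.map (homOfLE (inf_le_right : O' p ⊓ O' q ≤ O' q)).op (b q) := hcompat p q
    exact (Groth.Agent.Lib.QCohExtH1.rF_congr A _ _ _).trans
      (h2.trans (Groth.Agent.Lib.QCohExtH1.rF_congr A _ _ _))
  obtain ⟨z₀, hz₀, -⟩ := TopCat.Sheaf.existsUnique_gluing' ⟨A.presheaf, A.isSheaf⟩ O' W
    (fun p => homOfLE (hle p)) hcov b hc
  refine ⟨z₀, ?_⟩
  apply eq_of_cover B
  intro x hx
  refine ⟨O' ⟨x, hx⟩, hle _, hxO x hx, ?_⟩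
  have h' : rF A (hle ⟨x, hx⟩) z₀ = b ⟨x, hx⟩ := hz₀ ⟨x, hx⟩
  rw [← ap_rF, h', hb]

end misc

section Ker

variable {M N : X.Modules} (φ : M ⟶ N)

theorem locOnU_kernel [M.IsQuasicoherent] [N.IsQuasicoherent] {U : X.Opens}
    (hU : IsAffineOpen U) : QCohCrit.LocOnU (kernel φ) U := by
  intro a
  have hl : X.basicOpen a ≤ U := X.basicOpen_le a
  have LM := RelFPAff.locData (F := M) hU a (homOfLE hl) rfl
  have LN := RelFPAff.locData (F := N) hU a (homOfLE hl) rfl
  let E : ShortComplex X.Modules := ShortComplex.mk (kernel.ι φ) φ (kernel.condition φ)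
  have hE : E.Exact := ShortComplex.exact_kernel φ
  haveI : Mono E.f := inferInstanceAs (Mono (kernel.ι φ))
  have hzero : ∀ (W : X.Opens) (k : Γ(kernel φ, W)), ap φ W (ap (kernel.ι φ) W k) = 0 := by
    intro W k
    have := congrArg (fun χ => (χ.app W).hom k) (kernel.condition φ)
    exact this
  have hinj : ∀ W : X.Opens, Function.Injective (ap (kernel.ι φ) W) := fun W =>
    QCohExact.app_injective_of_mono (kernel.ι φ) W
  refine ⟨hU.isLocalization_basicOpen a, fun x m => Scheme.Modules.map_smul _ _ x m, ?_, ?_⟩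
  · intro k'
    obtain ⟨n, m, hm⟩ := LM.surj (ap (kernel.ι φ) _ k')
    have hm' : rX hl a ^ n • ap (kernel.ι φ) (X.basicOpen a) k' = rF M hl m := hm
    have h1 : rF N hl (ap φ U m) = 0 := by
      rw [← ap_rF, ← hm', ap_smul, hzero, smul_zero]
    obtain ⟨l, hl'⟩ := LN.ker _ h1
    have h2 : ap φ U (a ^ l • m) = 0 := by rw [ap_smul]; exact hl'
    obtain ⟨k, hk⟩ := QCohExact.app_exact E hE U _ h2
    have hk' : ap (kernel.ι φ) U k = a ^ l • m := hk
    refine ⟨l + n, k, ?_⟩
    show rX hl a ^ (l + n) • k' = rF (kernel φ) hl k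
    apply hinj
    rw [ap_smul, ap_rF, hk', rF_pow_smul, ← hm', pow_add, mul_smul]
  · intro k hk
    have hk' : rF (kernel φ) hl k = 0 := hk
    have h1 : rF M hl (ap (kernel.ι φ) U k) = 0 := by rw [← ap_rF, hk', map_zero]
    obtain ⟨n, hn⟩ := LM.ker _ h1
    refine ⟨n, ?_⟩
    apply hinj
    rw [ap_smul, hn, map_zero]

/-- The kernel of a morphism of quasi-coherent modules is quasi-coherent. -/
theorem isQuasicoherent_kernel [M.IsQuasicoherent] [N.IsQuasicoherent] :
    (kernel φ).IsQuasicoherent :=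
  QCohCrit.isQuasicoherent_of_locOnU _ (fun U => locOnU_kernel φ U.2)

end Ker

section X3

variable (E : ShortComplex X.Modules) (hE : E.ShortExact) {U : X.Opens}

include hE in
theorem locOnU_X₃ [E.X₁.IsQuasicoherent] [E.X₂.IsQuasicoherent] (hU : IsAffineOpen U) :
    QCohCrit.LocOnU E.X₃ U := by
  haveI := hE.mono_f
  intro a
  have hl : X.basicOpen a ≤ U := X.basicOpen_le a
  have LA := RelFPAff.locData (F := E.X₁) hU a (homOfLE hl) rfl
  have LB := RelFPAff.locData (F := E.X₂) hU a (homOfLE hl) rfl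
  have hzero : ∀ (W : X.Opens) (α : Γ(E.X₁, W)), ap E.g W (ap E.f W α) = 0 := by
    intro W α
    have := congrArg (fun χ => (χ.app W).hom α) E.zero
    exact this
  refine ⟨hU.isLocalization_basicOpen a, fun x m => Scheme.Modules.map_smul _ _ x m, ?_, ?_⟩
  · intro y
    obtain ⟨b', hb'⟩ := app_surjective_of_qcoh_kernel E hE (hU.basicOpen a) y
    obtain ⟨n, b, hb⟩ := LB.surj b'
    have hb2 : rX hl a ^ n • b' = rF E.X₂ hl b := hb
    refine ⟨n, ap E.g U b, ?_⟩
    show rX hl a ^ n • y = rF E.X₃ hl (ap E.g U b)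
    rw [← ap_rF, ← hb2, ap_smul, hb']
  · intro y hy
    have hy' : rF E.X₃ hl y = 0 := hy
    obtain ⟨b, hb⟩ := app_surjective_of_qcoh_kernel E hE hU y
    have h0 : ap E.g (X.basicOpen a) (rF E.X₂ hl b) = 0 := by rw [ap_rF, hb, hy']
    obtain ⟨α', hα'⟩ := QCohExact.app_exact E hE.exact _ _ h0
    have hα'' : ap E.f (X.basicOpen a) α' = rF E.X₂ hl b := hα'
    obtain ⟨m, α, hα⟩ := LA.surj α'
    have hα2 : rX hl a ^ m • α' = rF E.X₁ hl α := hα
    have h1 : rF E.X₂ hl (a ^ m • b - ap E.f U α) = 0 := by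
      rw [map_sub, rF_pow_smul, ← ap_rF, ← hα2, ap_smul, hα'', sub_self]
    obtain ⟨l, hl'⟩ := LB.ker _ h1
    refine ⟨l + m, ?_⟩
    have h2 := congrArg (ap E.g U) hl'
    rw [map_zero, ap_smul, map_sub, hzero, sub_zero, ap_smul, hb, ← mul_smul, ← pow_add] at h2
    exact h2

/-- The cokernel of a monomorphism of quasi-coherent modules is quasi-coherent. -/
theorem isQuasicoherent_X₃ [E.X₁.IsQuasicoherent] [E.X₂.IsQuasicoherent]
    (hE : E.ShortExact) : E.X₃.IsQuasicoherent :=
  QCohCrit.isQuasicoherent_of_locOnU _ (fun U => locOnU_X₃ E hE U.2)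

/-- The coimage of a morphism of quasi-coherent modules is quasi-coherent. -/
theorem isQuasicoherent_coimage {P Q : X.Modules} (p : P ⟶ Q) [P.IsQuasicoherent]
    [Q.IsQuasicoherent] : (Abelian.coimage p).IsQuasicoherent := by
  haveI hK : (kernel p).IsQuasicoherent := isQuasicoherent_kernel p
  let E : ShortComplex X.Modules :=
    ShortComplex.mk (kernel.ι p) (cokernel.π (kernel.ι p)) (cokernel.condition _)
  have hE : E.ShortExact := ShortComplex.ShortExact.mk' (ShortComplex.exact_cokernel (kernel.ι p))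
    (inferInstanceAs (Mono (kernel.ι p))) (inferInstanceAs (Epi (cokernel.π (kernel.ι p))))
  haveI : E.X₁.IsQuasicoherent := hK
  haveI : E.X₂.IsQuasicoherent := ‹P.IsQuasicoherent›
  exact isQuasicoherent_X₃ E hE

end X3

section Ext

variable (U : X.Opens) (F : X.Modules) (G : (U : Scheme.{u}).Modules) (φ : G ⟶ F.restrict U.ι)

/-- `j_* φ`. -/
noncomputable abbrev pushMap : (Scheme.Modules.pushforward U.ι).obj G ⟶
    (Scheme.Modules.pushforward U.ι).obj (F.restrict U.ι) :=
  (Scheme.Modules.pushforward U.ι).map φ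

/-- The unit `F ⟶ j_* j^* F`. -/
noncomputable abbrev unitMap : F ⟶ (Scheme.Modules.pushforward U.ι).obj (F.restrict U.ι) :=
  (Scheme.Modules.restrictAdjunction U.ι).unit.app F

/-- The largest submodule (when `φ` is mono) of `F` restricting to `G` on `U`:
`F ×_{j_* j^* F} j_* G`. -/
noncomputable def ext : X.Modules := pullback (pushMap U F G φ) (unitMap U F)

/-- The map `ext ⟶ F`. -/
noncomputable def extι : ext U F G φ ⟶ F := pullback.snd _ _

/-- The map `ext ⟶ j_* G`. -/
noncomputable def extπ : ext U F G φ ⟶ (Scheme.Modules.pushforward U.ι).obj G := pullback.fst _ _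

theorem ext_cond (W : X.Opens) (s : Γ(ext U F G φ, W)) :
    ap (pushMap U F G φ) W (ap (extπ U F G φ) W s) =
      ap (unitMap U F) W (ap (extι U F G φ) W s) := by
  have := congrArg (fun χ => (χ.app W).hom s)
    (pullback.condition (f := pushMap U F G φ) (g := unitMap U F))
  exact this

theorem ext_exists (W : X.Opens) (x : Γ((Scheme.Modules.pushforward U.ι).obj G, W)) (y : Γ(F, W))
    (h : ap (pushMap U F G φ) W x = ap (unitMap U F) W y) :
    ∃ s : Γ(ext U F G φ, W), ap (extπ U F G φ) W s = x ∧ ap (extι U F G φ) W s = y :=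
  QCohPb.pb_exists _ _ W x y h

theorem ext_ext (W : X.Opens) (s s' : Γ(ext U F G φ, W))
    (h1 : ap (extπ U F G φ) W s = ap (extπ U F G φ) W s')
    (h2 : ap (extι U F G φ) W s = ap (extι U F G φ) W s') : s = s' :=
  QCohPb.pb_ext _ _ W s s' h1 h2

theorem mono_extι [Mono φ] : Mono (extι U F G φ) := by
  have hm : Mono (pushMap U F G φ) :=
    inferInstanceAs (Mono ((Scheme.Modules.pushforward U.ι).map φ))
  exact @pullback.snd_of_mono _ _ _ _ _ (pushMap U F G φ) (unitMap U F) _ hm

set_option backward.isDefEq.respectTransparency false in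
theorem unit_bijective (W : X.Opens) (hW : W ≤ U) :
    Function.Bijective (ap (unitMap U F) W) := by
  have e : U.ι ''ᵁ (U.ι ⁻¹ᵁ W) = W := by
    rw [Scheme.Hom.image_preimage_eq_opensRange_inf, Scheme.Opens.opensRange_ι]
    exact inf_eq_right.mpr hW
  exact rF_bijective_of_eq F (U.ι.image_preimage_le W) e

/-- Over opens contained in `U`, `ext ⟶ j_* G` is bijective on sections. -/
theorem extπ_bijective (W : X.Opens) (hW : W ≤ U) :
    Function.Bijective (ap (extπ U F G φ) W) := by
  have hb := unit_bijective U F W hW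
  constructor
  · intro s s' hss
    apply ext_ext U F G φ W s s' hss
    apply hb.1
    rw [← ext_cond, ← ext_cond, hss]
  · intro x
    obtain ⟨y, hy⟩ := hb.2 (ap (pushMap U F G φ) W x)
    obtain ⟨s, hs, -⟩ := ext_exists U F G φ W x y hy.symm
    exact ⟨s, hs⟩

set_option backward.isDefEq.respectTransparency false in
theorem isIso_restrict_extπ :
    IsIso ((Scheme.Modules.restrictFunctor U.ι).map (extπ U F G φ)) := by
  apply isIso_of_bijective
  intro W'
  exact extπ_bijective U F G φ (U.ι ''ᵁ W') (U.ι_image_le W')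

/-- The comparison `ext|_U ⟶ G`. -/
noncomputable def extRes : (ext U F G φ).restrict U.ι ⟶ G :=
  (Scheme.Modules.restrictFunctor U.ι).map (extπ U F G φ) ≫
    (Scheme.Modules.restrictAdjunction U.ι).counit.app G

instance isIso_extRes : IsIso (extRes U F G φ) := by
  haveI := isIso_restrict_extπ U F G φ
  unfold extRes
  infer_instance

set_option backward.isDefEq.respectTransparency false in
theorem extRes_comp :
    extRes U F G φ ≫ φ = (Scheme.Modules.restrictFunctor U.ι).map (extι U F G φ) := by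
  refine Scheme.Modules.hom_ext _ _ (fun W' => ?_)
  refine ConcreteCategory.hom_ext _ _ (fun s => ?_)
  let y : Γ(F, U.ι ''ᵁ W') := ap (extι U F G φ) (U.ι ''ᵁ W') s
  let x : Γ(G, U.ι ⁻¹ᵁ (U.ι ''ᵁ W')) := ap (extπ U F G φ) (U.ι ''ᵁ W') s
  have hc : ap φ (U.ι ⁻¹ᵁ (U.ι ''ᵁ W')) x =
      F.presheaf.map (homOfLE (U.ι.image_preimage_le (U.ι ''ᵁ W'))).op y :=
    ext_cond U F G φ (U.ι ''ᵁ W') s
  let i : W' ⟶ U.ι ⁻¹ᵁ (U.ι ''ᵁ W') := eqToHom (U.ι.preimage_image_eq W').symm
  have hnat : ap φ W' (G.presheaf.map i.op x) =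
      (F.restrict U.ι).presheaf.map i.op (ap φ (U.ι ⁻¹ᵁ (U.ι ''ᵁ W')) x) :=
    QCohCrit.app_naturality φ i x
  have h3 : (F.restrict U.ι).presheaf.map i.op
      (F.presheaf.map (homOfLE (U.ι.image_preimage_le (U.ι ''ᵁ W'))).op y) = y :=
    map_map_self F (homOfLE (U.ι.image_preimage_le (U.ι ''ᵁ W'))).op
      (U.ι.opensFunctor.map i).op y
  show ap φ W' (G.presheaf.map i.op x) = y
  rw [hnat, hc]
  exact h3

theorem isQuasicoherent_ext [QuasiCompact U.ι] [F.IsQuasicoherent] [G.IsQuasicoherent] :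
    (ext U F G φ).IsQuasicoherent := by
  haveI : (F.restrict U.ι).IsQuasicoherent := inferInstance
  have h1 : ((Scheme.Modules.pushforward U.ι).obj G).IsQuasicoherent :=
    QcqsLoc.isQuasicoherent_pushforward_qcqs U.ι G
  have h2 : ((Scheme.Modules.pushforward U.ι).obj (F.restrict U.ι)).IsQuasicoherent :=
    QcqsLoc.isQuasicoherent_pushforward_qcqs U.ι _
  exact QCohPb.isQuasicoherent_pullback _ _ h1 ‹F.IsQuasicoherent› h2

end Ext

end SubExt
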