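import Mathlib
import Groth.Prelude.Def_CohB1
import Groth.Agent.Lib.SubExt_helper9
import Groth.Agent.Lib.GlobGen_helper9
import Groth.Agent.Lib.QCohFT_helper9

/-!
# Finite type quasi-coherent submodules on quasi-compact quasi-separated schemes

* `SubExt.gen V K T`: the largest submodule of `K` which over the affine open `V` is generated by
  the finite set `T ⊆ Γ(K, V)`.
* `SubExt.step`: one step of the induction (add an affine open).
* `SubExt.exists_ft_sub`: on a qcqs scheme, a quasi-coherent module which is of finite type over a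
  quasi-compact open `U` contains a quasi-coherent submodule of finite type with the same
  restriction to `U`.
-/

universe u

open CategoryTheory CategoryTheory.Limits AlgebraicGeometry Opposite TopologicalSpace
open Groth.Agent.Lib.QCohLoc_helper4 QcqsLoc QCohExtn

namespace SubExt

variable {X : Scheme.{u}}

/-- `K` has finitely generated sections near every point of `Q`. -/
def FinOn (K : X.Modules) (Q : X.Opens) : Prop :=
  ∀ x ∈ Q, ∃ W : X.Opens, IsAffineOpen W ∧ x ∈ W ∧ W ≤ Q ∧ Module.Finite Γ(X, W) Γ(K, W)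

theorem finite_of_locData {A A' : Type u} [CommRing A] [CommRing A'] {ρ : A →+* A'} {a : A}
    {M M' : Type u} [AddCommGroup M] [Module A M] [AddCommGroup M'] [Module A' M']
    {l : M →+ M'} (h : RelFPKit.LocData ρ a l) [hM : Module.Finite A M] :
    Module.Finite A' M' := by
  classical
  obtain ⟨S, hS⟩ := hM.fg_top
  have hu : IsUnit (ρ a) := by
    letI := ρ.toAlgebra
    haveI : IsLocalization.Away a A' := h.isLoc
    exact IsLocalization.Away.algebraMap_isUnit a
  have hl : ∀ m : M, m ∈ Submodule.span A (S : Set M) →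
      l m ∈ Submodule.span A' (l '' (S : Set M)) := by
    intro m hm
    induction hm using Submodule.span_induction with
    | mem x hx => exact Submodule.subset_span ⟨x, hx, rfl⟩
    | zero => rw [map_zero]; exact Submodule.zero_mem _
    | add x y _ _ hx hy => rw [map_add]; exact Submodule.add_mem _ hx hy
    | smul c x _ hx => rw [h.smul]; exact Submodule.smul_mem _ _ hx
  refine ⟨⟨S.image l, ?_⟩⟩
  rw [Finset.coe_image, eq_top_iff]
  intro m' _
  obtain ⟨n, m, hm⟩ := h.surj m'
  obtain ⟨v, hv⟩ := hu.pow n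
  have h1 : m' = (↑v⁻¹ : A') • l m := by
    rw [← hm, ← hv, ← mul_smul, Units.inv_mul, one_smul]
  rw [h1]
  exact Submodule.smul_mem _ _ (hl m (by rw [hS]; trivial))

theorem finite_of_bijective {M N : X.Modules} (i : M ⟶ N) (W : X.Opens)
    (hb : Function.Bijective (ap i W)) [Module.Finite Γ(X, W) Γ(N, W)] :
    Module.Finite Γ(X, W) Γ(M, W) := by
  let e : Γ(M, W) ≃ₗ[Γ(X, W)] Γ(N, W) :=
    { AddEquiv.ofBijective (ap i W) hb with
      map_smul' := fun r m => ap_smul i r m }
  exact Module.Finite.equiv e.symm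

section Span

variable (K : X.Modules) {V : X.Opens} (T : Finset Γ(K, V))

/-- `t ∈ Γ(K, O)` is a combination of restrictions of sections in `T ⊆ Γ(K, V)`. -/
def InSpan {O : X.Opens} (hO : O ≤ V) (t : Γ(K, O)) : Prop :=
  t ∈ Submodule.span Γ(X, O) ((fun n : Γ(K, V) => rF K hO n) '' (T : Set Γ(K, V)))

variable {K T}

theorem InSpan.res {O O' : X.Opens} {hO : O ≤ V} {t : Γ(K, O)} (ht : InSpan K T hO t)
    (hO' : O' ≤ O) : InSpan K T (hO'.trans hO) (rF K hO' t) := by
  unfold InSpan at ht ⊢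
  induction ht using Submodule.span_induction with
  | mem x hx =>
    obtain ⟨n, hn, rfl⟩ := hx
    refine Submodule.subset_span ⟨n, hn, ?_⟩
    exact (rF_rF K hO' hO n).symm
  | zero => rw [map_zero]; exact Submodule.zero_mem _
  | add x y _ _ hx hy => rw [map_add]; exact Submodule.add_mem _ hx hy
  | smul c x _ hx => rw [rF_smul]; exact Submodule.smul_mem _ _ hx

theorem InSpan.mono {T' : Finset Γ(K, V)} (hTT' : T ⊆ T') {O : X.Opens} {hO : O ≤ V}
    {t : Γ(K, O)} (ht : InSpan K T hO t) : InSpan K T' hO t :=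
  Submodule.span_mono (Set.image_mono (Finset.coe_subset.mpr hTT')) ht

variable (K T)

theorem InSpan.of_loc [K.IsQuasicoherent] {O : X.Opens} (hO : O ≤ V) (hOaff : IsAffineOpen O)
    (hall : ∀ s : Γ(K, O), InSpan K T hO s) (g : Γ(X, O)) {O' : X.Opens}
    (e : O' = X.basicOpen g) (hO' : O' ≤ V) (t : Γ(K, O')) : InSpan K T hO' t := by
  subst e
  have hl : X.basicOpen g ≤ O := X.basicOpen_le g
  have L := RelFPAff.locData (F := K) hOaff g (homOfLE hl) rfl
  obtain ⟨n, s, hs⟩ := L.surj t
  have hs' : rX hl g ^ n • t = rF K hl s := hs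
  have hu : IsUnit (rX hl g) := RingedSpace.isUnit_res_basicOpen _ g
  obtain ⟨v, hv⟩ := hu.pow n
  have ht : t = (↑v⁻¹ : Γ(X, X.basicOpen g)) • rF K hl s := by
    rw [← hs', ← hv, ← mul_smul, Units.inv_mul, one_smul]
  rw [ht]
  exact Submodule.smul_mem _ _ ((hall s).res hl)

theorem exists_local_span [K.IsQuasicoherent] (hV : IsAffineOpen V) {Q : X.Opens}
    (hfin : FinOn K Q) (x : X) (hxQ : x ∈ Q) (hxV : x ∈ V) :
    ∃ (g : Γ(X, V)) (T : Finset Γ(K, V)), x ∈ X.basicOpen g ∧ X.basicOpen g ≤ Q ∧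
      ∀ s : Γ(K, X.basicOpen g), InSpan K T (X.basicOpen_le g) s := by
  classical
  obtain ⟨W, hW, hxW, hWQ, hfinW⟩ := hfin x hxQ
  obtain ⟨f, g, efg, hxf⟩ := exists_basicOpen_le_affine_inter hW hV x ⟨hxW, hxV⟩
  have L1 := RelFPAff.locData (F := K) hW f (homOfLE (X.basicOpen_le f)) rfl
  haveI := hfinW
  have hf1 : Module.Finite Γ(X, X.basicOpen f) Γ(K, X.basicOpen f) := finite_of_locData L1
  have hf2 : Module.Finite Γ(X, X.basicOpen g) Γ(K, X.basicOpen g) :=
    QCohFT.finite_congr K efg hf1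
  obtain ⟨S, hS⟩ := hf2.fg_top
  have L2 := RelFPAff.locData (F := K) hV g (homOfLE (X.basicOpen_le g)) rfl
  choose N n hn using fun y : Γ(K, X.basicOpen g) => L2.surj y
  refine ⟨g, S.image n, ?_, ?_, ?_⟩
  · rw [← efg]; exact hxf
  · rw [← efg]; exact (X.basicOpen_le f).trans hWQ
  · intro s
    have hu : IsUnit (rX (X.basicOpen_le g) g) := RingedSpace.isUnit_res_basicOpen _ g
    have hle : Submodule.span Γ(X, X.basicOpen g) (S : Set Γ(K, X.basicOpen g)) ≤
        Submodule.span Γ(X, X.basicOpen g)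
          ((fun m : Γ(K, V) => rF K (X.basicOpen_le g) m) ''
            ((S.image n : Finset Γ(K, V)) : Set Γ(K, V))) := by
      rw [Submodule.span_le]
      intro y hy
      obtain ⟨v, hv⟩ := hu.pow (N y)
      have hy' : rX (X.basicOpen_le g) g ^ N y • y = rF K (X.basicOpen_le g) (n y) := hn y
      have h1 : y = (↑v⁻¹ : Γ(X, X.basicOpen g)) • rF K (X.basicOpen_le g) (n y) := by
        rw [← hy', ← hv, ← mul_smul, Units.inv_mul, one_smul]
      rw [h1]
      refine Submodule.smul_mem _ _ (Submodule.subset_span ⟨n y, ?_, rfl⟩)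
      exact Finset.mem_coe.mpr (Finset.mem_image_of_mem n hy)
    exact hle (by rw [hS]; trivial)

end Span

section Img

variable (V : X.Opens) (K : X.Modules) (T : Finset Γ(K, V))

set_option backward.isDefEq.respectTransparency false in
/-- The global section of `K|_V` attached to `n ∈ Γ(K, V)`. -/
noncomputable def gsec (n : Γ(K, V)) : Γ(K.restrict V.ι, ⊤) :=
  rF K V.ι_image_top.le n

/-- The map `O_V^T ⟶ K|_V` given by the sections in `T`. -/
noncomputable def pT : (SheafOfModules.free (R := V.toScheme.ringCatSheaf) (↥T) :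
    V.toScheme.Modules) ⟶ K.restrict V.ι :=
  (SheafOfModules.freeHomEquiv (K.restrict V.ι)).symm
    (fun n : ↥T => GlobGen.globalSection (K.restrict V.ι) (gsec V K n.1))

/-- The submodule of `K|_V` generated by `T`. -/
noncomputable abbrev imgI : V.toScheme.Modules := Abelian.coimage (pT V K T)

noncomputable abbrev imgι : imgI V K T ⟶ K.restrict V.ι := Abelian.factorThruCoimage (pT V K T)

noncomputable abbrev imgπ : (SheafOfModules.free (R := V.toScheme.ringCatSheaf) (↥T) :
    V.toScheme.Modules) ⟶ imgI V K T := Abelian.coimage.π (pT V K T)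

theorem isQuasicoherent_imgI [K.IsQuasicoherent] : (imgI V K T).IsQuasicoherent := by
  haveI : (K.restrict V.ι).IsQuasicoherent := inferInstance
  haveI : (SheafOfModules.free (R := V.toScheme.ringCatSheaf) (↥T) :
      V.toScheme.Modules).IsQuasicoherent :=
    inferInstanceAs (SheafOfModules.free (R := V.toScheme.ringCatSheaf) (↥T)).IsQuasicoherent
  exact isQuasicoherent_coimage (pT V K T)

theorem isFiniteType_imgI :
    SheafOfModules.IsFiniteType (R := V.toScheme.ringCatSheaf) (imgI V K T) := by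
  haveI : Epi (imgπ V K T) := inferInstanceAs (Epi (cokernel.π (kernel.ι (pT V K T))))
  let σ := (SheafOfModules.free.generatingSections (R := V.toScheme.ringCatSheaf) (↥T)).ofEpi
    (imgπ V K T)
  haveI : σ.IsFiniteType := ⟨inferInstanceAs (Finite (↥T))⟩
  have hσ : σ.localGeneratorsData.IsFiniteType :=
    { isFiniteType := fun x => ⟨inferInstanceAs (Finite (↥T))⟩ }
  constructor
  exact ⟨σ.localGeneratorsData, hσ⟩

set_option backward.isDefEq.respectTransparency false in
theorem imgι_gen (W : V.toScheme.Opens) (n : Γ(K, V)) (hn : n ∈ T) :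
    ∃ z : Γ(imgI V K T, W), ap (imgι V K T) W z = rF K (V.ι_image_le W) n := by
  let e : Γ((SheafOfModules.free (R := V.toScheme.ringCatSheaf) (↥T) : V.toScheme.Modules), W) :=
    (SheafOfModules.freeSection (R := V.toScheme.ringCatSheaf) (⟨n, hn⟩ : ↥T)).val (op W)
  have h1 := SheafOfModules.sectionsMap_freeHomEquiv_symm_freeSection (M := K.restrict V.ι)
    (fun n : ↥T => GlobGen.globalSection (K.restrict V.ι) (gsec V K n.1)) ⟨n, hn⟩
  have h2 : ap (pT V K T) W e =
      (K.restrict V.ι).presheaf.map (homOfLE (le_top : W ≤ ⊤)).op (gsec V K n) :=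
    congrArg (fun σ => σ.val (op W)) h1
  refine ⟨ap (imgπ V K T) W e, ?_⟩
  have hfac : imgπ V K T ≫ imgι V K T = pT V K T := Abelian.coimage.fac _
  have h3 : ap (imgι V K T) W (ap (imgπ V K T) W e) = ap (pT V K T) W e := by
    rw [← hfac]; rfl
  rw [h3, h2]
  exact map_map_eq K _ _ _ n

set_option backward.isDefEq.respectTransparency false in
theorem imgι_range_of_inSpan (W : V.toScheme.Opens) (t : Γ(K, V.ι ''ᵁ W))
    (ht : InSpan K T (V.ι_image_le W) t) :
    ∃ z : Γ(imgI V K T, W), ap (imgι V K T) W z = t := by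
  unfold InSpan at ht
  induction ht using Submodule.span_induction with
  | mem x hx =>
    obtain ⟨n, hn, rfl⟩ := hx
    exact imgι_gen V K T W n hn
  | zero => exact ⟨0, map_zero _⟩
  | add x y _ _ hx hy =>
    obtain ⟨zx, hzx⟩ := hx
    obtain ⟨zy, hzy⟩ := hy
    exact ⟨zx + zy, by rw [map_add, hzx, hzy]⟩
  | smul c x _ hx =>
    obtain ⟨zx, hzx⟩ := hx
    obtain ⟨r, hr⟩ := (ConcreteCategory.bijective_of_isIso (V.ι.appIso W).inv).2 c
    refine ⟨r • zx, ?_⟩
    rw [ap_smul, hzx, ← hr]
    rfl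

/-- The largest submodule of `K` which over `V` is generated by `T`. -/
noncomputable def gen : X.Modules := ext V K (imgI V K T) (imgι V K T)

/-- The inclusion `gen ⟶ K`. -/
noncomputable def genι : gen V K T ⟶ K := extι V K (imgI V K T) (imgι V K T)

instance mono_imgι : Mono (imgι V K T) :=
  inferInstanceAs (Mono (Abelian.factorThruCoimage (pT V K T)))

instance mono_genι : Mono (genι V K T) := mono_extι V K (imgI V K T) (imgι V K T)

theorem isQuasicoherent_gen [QuasiCompact V.ι] [K.IsQuasicoherent] :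
    (gen V K T).IsQuasicoherent := by
  haveI := isQuasicoherent_imgI V K T
  exact isQuasicoherent_ext V K (imgI V K T) (imgι V K T)

end Img

section FiniteExt

variable (U : X.Opens) (F : X.Modules) (G : (U : Scheme.{u}).Modules) (φ : G ⟶ F.restrict U.ι)

set_option backward.isDefEq.respectTransparency false in
theorem finite_ext (W : X.Opens) (hW : W ≤ U) (haff : IsAffineOpen (U.ι ⁻¹ᵁ W))
    [G.IsQuasicoherent] [SheafOfModules.IsFiniteType (R := U.toScheme.ringCatSheaf) G] :
    Module.Finite Γ(X, W) Γ(ext U F G φ, W) := by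
  haveI : Module.Finite Γ(U.toScheme, U.ι ⁻¹ᵁ W) Γ(G, U.ι ⁻¹ᵁ W) :=
    QCohFT.finite_of_isFiniteType G haff
  have hb := extπ_bijective U F G φ W hW
  haveI : IsIso (U.ι.app W) :=
    U.ι.isIso_app W (by rw [Scheme.Opens.opensRange_ι]; exact hW)
  have hψ : (U.ι.app W).hom.Finite :=
    RingHom.Finite.of_surjective _ (ConcreteCategory.bijective_of_isIso (U.ι.app W)).2
  exact QCohCrit.finite_of_ringHom_finite (U.ι.app W).hom hψ (N := Γ(ext U F G φ, W))
    (M := Γ(G, U.ι ⁻¹ᵁ W)) (AddEquiv.ofBijective (ap (extπ U F G φ) W) hb)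
    (fun a n => ap_smul (extπ U F G φ) a n)

set_option backward.isDefEq.respectTransparency false in
theorem mem_range_extι (W : X.Opens) (y : Γ(F, W)) (x : Γ(G, U.ι ⁻¹ᵁ W))
    (hx : ap φ (U.ι ⁻¹ᵁ W) x = rF F (U.ι.image_preimage_le W) y) :
    ∃ s, ap (extι U F G φ) W s = y := by
  obtain ⟨s, -, hs⟩ := ext_exists U F G φ W x y hx
  exact ⟨s, hs⟩

end FiniteExt

section Gen

variable {V : X.Opens} (hV : IsAffineOpen V) (K : X.Modules) (T : Finset Γ(K, V))

include hV in
theorem finite_gen [K.IsQuasicoherent] : Module.Finite Γ(X, V) Γ(gen V K T, V) := by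
  haveI : IsAffine V.toScheme := hV
  haveI := isQuasicoherent_imgI V K T
  haveI := isFiniteType_imgI V K T
  have haff : IsAffineOpen (V.ι ⁻¹ᵁ V) := by
    rw [V.ι_preimage_self]; exact isAffineOpen_top _
  exact finite_ext V K (imgI V K T) (imgι V K T) V le_rfl haff

set_option backward.isDefEq.respectTransparency false in
theorem mem_range_genι (n : Γ(K, V)) (hn : n ∈ T) : ∃ s, ap (genι V K T) V s = n := by
  obtain ⟨z, hz⟩ := imgι_gen V K T (V.ι ⁻¹ᵁ V) n hn
  obtain ⟨s, hs⟩ := mem_range_extι V K (imgI V K T) (imgι V K T) V n z hz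
  exact ⟨s, hs⟩

end Gen

section Step

set_option backward.isDefEq.respectTransparency false in
/-- One step: make `K` of finite type over one more affine open. -/
theorem step {V : X.Opens} (hV : IsAffineOpen V) [QuasiCompact V.ι] (K : X.Modules)
    [K.IsQuasicoherent] (Q : X.Opens) (hQV : IsCompact ((Q ⊓ V : X.Opens) : Set X))
    (hfin : FinOn K Q) :
    ∃ (K' : X.Modules) (i : K' ⟶ K), Mono i ∧ K'.IsQuasicoherent ∧ FinOn K' (Q ⊔ V) ∧
      ∀ W : X.Opens, W ≤ Q → Function.Bijective (ap i W) := by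
  classical
  have hloc : ∀ p : {x : X // x ∈ ((Q ⊓ V : X.Opens) : Set X)}, ∃ (g : Γ(X, V))
      (T : Finset Γ(K, V)), p.1 ∈ X.basicOpen g ∧ X.basicOpen g ≤ Q ∧
      ∀ s : Γ(K, X.basicOpen g), InSpan K T (X.basicOpen_le g) s :=
    fun p => exists_local_span K hV hfin p.1 p.2.1 p.2.2
  choose g Tg hpg hgQ hspan using hloc
  obtain ⟨t, ht⟩ := hQV.elim_finite_subcover
    (fun p => ((X.basicOpen (g p) : X.Opens) : Set X)) (fun p => (X.basicOpen (g p)).2)
    (fun x hx => Set.mem_iUnion.mpr ⟨⟨x, hx⟩, hpg ⟨x, hx⟩⟩)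
  let T : Finset Γ(K, V) := t.biUnion Tg
  have hspanT : ∀ p ∈ t, ∀ s : Γ(K, X.basicOpen (g p)),
      InSpan K T (X.basicOpen_le (g p)) s := by
    intro p hp s
    exact (hspan p s).mono (Finset.subset_biUnion_of_mem Tg hp)
  haveI hqI : (imgI V K T).IsQuasicoherent := isQuasicoherent_imgI V K T
  have hbij : ∀ W : X.Opens, W ≤ Q → Function.Bijective (ap (genι V K T) W) := by
    intro W hWQ
    refine ⟨QCohExact.app_injective_of_mono (genι V K T) W, fun y => ?_⟩
    let y₁ : Γ(K.restrict V.ι, V.ι ⁻¹ᵁ W) := rF K (V.ι.image_preimage_le W) y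
    obtain ⟨x, hx⟩ : ∃ x : Γ(imgI V K T, V.ι ⁻¹ᵁ W),
        ap (imgι V K T) (V.ι ⁻¹ᵁ W) x = y₁ := by
      apply mem_range_of_locally (imgι V K T) y₁
      intro p hp
      have hpW : V.ι p ∈ W := hp
      have hpV : V.ι p ∈ V := p.2
      have hpQV : V.ι p ∈ ((Q ⊓ V : X.Opens) : Set X) := ⟨hWQ hpW, hpV⟩
      obtain ⟨q, hq, hpq⟩ := Set.mem_iUnion₂.mp (ht hpQV)
      obtain ⟨g', hg'le, hpg'⟩ := hV.exists_basicOpen_le
        (V := W ⊓ X.basicOpen (g q)) ⟨V.ι p, ⟨hpW, hpq⟩⟩ hpV
      let W'' : V.toScheme.Opens := V.ι ⁻¹ᵁ (X.basicOpen g')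
      have hW''le : W'' ≤ V.ι ⁻¹ᵁ W := V.ι.preimage_mono (hg'le.trans inf_le_left)
      refine ⟨W'', hW''le, hpg', ?_⟩
      have e : V.ι ''ᵁ W'' = X.basicOpen (rX (X.basicOpen_le (g q)) g') := by
        rw [basicOpen_rX, Scheme.Hom.image_preimage_eq_opensRange_inf,
          Scheme.Opens.opensRange_ι, inf_eq_right.mpr (X.basicOpen_le g'),
          inf_eq_right.mpr (hg'le.trans inf_le_right)]
      have hin : InSpan K T (V.ι_image_le W'') (rF (K.restrict V.ι) hW''le y₁) :=
        InSpan.of_loc K T (X.basicOpen_le (g q)) (hV.basicOpen (g q)) (hspanT q hq)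
          (rX (X.basicOpen_le (g q)) g') e (V.ι_image_le W'') _
      exact imgι_range_of_inSpan V K T W'' _ hin
    exact mem_range_extι V K (imgI V K T) (imgι V K T) W y x hx
  refine ⟨gen V K T, genι V K T, inferInstance, isQuasicoherent_gen V K T, ?_, hbij⟩
  intro x hx
  rcases (hx : x ∈ (Q : Set X) ∪ V) with hxQ | hxV
  · obtain ⟨W, hW, hxW, hWQ, hfinW⟩ := hfin x hxQ
    haveI := hfinW
    exact ⟨W, hW, hxW, hWQ.trans le_sup_left, finite_of_bijective (genι V K T) W (hbij W hWQ)⟩
  · exact ⟨V, hV, hxV, le_sup_right, finite_gen hV K T⟩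

end Step

section Induction

variable [CompactSpace X] [QuasiSeparatedSpace X]

/-- On a qcqs scheme, a quasi-coherent module of finite type over a quasi-compact open `U` contains
a quasi-coherent submodule of finite type with the same sections over opens contained in `U`. -/
theorem exists_ft_sub (H : X.Modules) [H.IsQuasicoherent] (U : X.Opens)
    (hU : IsCompact (U : Set X)) (hfin : FinOn H U) :
    ∃ (K' : X.Modules) (i : K' ⟶ H), Mono i ∧ K'.IsQuasicoherent ∧
      SheafOfModules.IsFiniteType (R := X.ringCatSheaf) K' ∧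
      ∀ W : X.Opens, W ≤ U → Function.Bijective (ap i W) := by
  let P : X.Opens → Prop := fun S => ∃ (K' : X.Modules) (i : K' ⟶ H), Mono i ∧
    K'.IsQuasicoherent ∧ FinOn K' (U ⊔ S) ∧ ∀ W : X.Opens, W ≤ U → Function.Bijective (ap i W)
  have hP : P ⊤ := by
    refine compact_open_induction_on (P := P) ⊤ (by simpa using isCompact_univ) ?_ ?_
    · refine ⟨H, 𝟙 H, inferInstance, inferInstance, ?_, fun W _ => Function.bijective_id⟩
      rw [sup_bot_eq]
      exact hfin
    · rintro S hS V ⟨K', i, hi, hK', hfin', hbij⟩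
      haveI := hi
      haveI := hK'
      haveI : IsAffine (V : X.Opens).toScheme := V.2
      haveI : QuasiCompact (V : X.Opens).ι := inferInstance
      have hc : IsCompact (((U ⊔ S) ⊓ (V : X.Opens) : X.Opens) : Set X) := by
        have h1 : IsCompact ((U ⊔ S : X.Opens) : Set X) := hU.union hS
        exact QuasiSeparatedSpace.inter_isCompact _ _ (U ⊔ S).2 h1 (V : X.Opens).2 V.2.isCompact
      obtain ⟨K'', i', hi', hK'', hfin'', hbij'⟩ := step V.2 K' (U ⊔ S) hc hfin'
      haveI := hi'
      refine ⟨K'', i' ≫ i, inferInstance, hK'', ?_, ?_⟩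
      · rw [← sup_assoc]
        exact hfin''
      · intro W hW
        exact (hbij W hW).comp (hbij' W (hW.trans le_sup_left))
  obtain ⟨K', i, hi, hK', hfin', hbij⟩ := hP
  refine ⟨K', i, hi, hK', ?_, hbij⟩
  haveI := hK'
  choose W hW hxW _ hfinW using fun x : X => hfin' x (Or.inr trivial)
  refine QCohCrit.isFiniteType_of_sections_cover K' W hW ?_ hfinW
  rw [eq_top_iff]
  intro x _
  exact Opens.mem_iSup.mpr ⟨x, hxW x⟩

end Induction

end SubExt
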