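import Mathlib
import Groth.Prelude.Def_CohB1
import Groth.Agent.Lib.SubExt2_helper9

/-!
# Extension of finite type quasi-coherent submodules on qcqs schemes (EGA I 9.4.7–9.4.9)
-/

universe u

open CategoryTheory CategoryTheory.Limits AlgebraicGeometry Opposite TopologicalSpace
open Groth.Agent.Lib.QCohLoc_helper4 QcqsLoc QCohExtn

namespace SubExt

variable {X : Scheme.{u}}

set_option backward.isDefEq.respectTransparency false in
/-- `ext U F G φ` has finite sections near the points of `U` when `G` is of finite type. -/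
theorem finOn_ext (U : X.Opens) (F : X.Modules) (G : (U : Scheme.{u}).Modules)
    (φ : G ⟶ F.restrict U.ι) [G.IsQuasicoherent]
    [SheafOfModules.IsFiniteType (R := U.toScheme.ringCatSheaf) G] :
    FinOn (ext U F G φ) U := by
  intro x hx
  obtain ⟨W', hW', hxW', -⟩ := Opens.isBasis_iff_nbhd.mp U.toScheme.isBasis_affineOpens
    (U := ⊤) (x := (⟨x, hx⟩ : U.toScheme)) trivial
  have hW'aff : IsAffineOpen W' := hW'
  refine ⟨U.ι ''ᵁ W', hW'aff.image_of_isOpenImmersion U.ι, ⟨⟨x, hx⟩, hxW', rfl⟩,
    U.ι_image_le W', ?_⟩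
  have haff : IsAffineOpen (U.ι ⁻¹ᵁ (U.ι ''ᵁ W')) := by
    rw [U.ι.preimage_image_eq]; exact hW'aff
  exact finite_ext U F G φ (U.ι ''ᵁ W') (U.ι_image_le W') haff

set_option backward.isDefEq.respectTransparency false in
/-- EGA I 9.4.7 / Stacks 01PE on a qcqs scheme. -/
theorem extend_ft [CompactSpace X] [QuasiSeparatedSpace X] (U : X.Opens)
    (hU : IsCompact (U : Set X)) (G : X.Modules) [G.IsQuasicoherent]
    (F' : (U : Scheme.{u}).Modules) [F'.IsQuasicoherent]
    (hF' : SheafOfModules.IsFiniteType (R := U.toScheme.ringCatSheaf) F')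
    (i' : F' ⟶ G.restrict U.ι) [Mono i'] :
    ∃ (F : X.Modules) (i : F ⟶ G) (e : F.restrict U.ι ≅ F'), Mono i ∧ F.IsQuasicoherent ∧
      SheafOfModules.IsFiniteType (R := X.ringCatSheaf) F ∧
      e.hom ≫ i' = (Scheme.Modules.restrictFunctor U.ι).map i := by
  haveI := hF'
  haveI : CompactSpace U.toScheme := isCompact_iff_compactSpace.mp hU
  haveI : QuasiCompact U.ι := inferInstance
  haveI hH : (ext U G F' i').IsQuasicoherent := isQuasicoherent_ext U G F' i'
  have hfinH : FinOn (ext U G F' i') U := finOn_ext U G F' i'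
  obtain ⟨K', i₁, hi₁, hK', hK'ft, hbij⟩ := exists_ft_sub (ext U G F' i') U hU hfinH
  haveI := hi₁
  haveI : Mono (extι U G F' i') := mono_extι U G F' i'
  haveI : IsIso ((Scheme.Modules.restrictFunctor U.ι).map i₁) := by
    apply isIso_of_bijective
    intro W'
    exact hbij (U.ι ''ᵁ W') (U.ι_image_le W')
  refine ⟨K', i₁ ≫ extι U G F' i',
    asIso ((Scheme.Modules.restrictFunctor U.ι).map i₁) ≪≫ asIso (extRes U G F' i'),
    inferInstance, hK', hK'ft, ?_⟩
  simp only [Iso.trans_hom, asIso_hom, Category.assoc, Functor.map_comp]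
  rw [extRes_comp]

set_option backward.isDefEq.respectTransparency false in
/-- Stacks 01PF: a quasi-coherent module of finite type on a quasi-compact open of a qcqs scheme
extends. -/
theorem extend_ft_module [CompactSpace X] [QuasiSeparatedSpace X] (U : X.Opens)
    (hU : IsCompact (U : Set X)) (G : (U : Scheme.{u}).Modules) [G.IsQuasicoherent]
    (hG : SheafOfModules.IsFiniteType (R := U.toScheme.ringCatSheaf) G) :
    ∃ G' : X.Modules, G'.IsQuasicoherent ∧
      SheafOfModules.IsFiniteType (R := X.ringCatSheaf) G' ∧ Nonempty (G'.restrict U.ι ≅ G) := by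
  haveI : CompactSpace U.toScheme := isCompact_iff_compactSpace.mp hU
  haveI : QuasiCompact U.ι := inferInstance
  haveI : ((Scheme.Modules.pushforward U.ι).obj G).IsQuasicoherent :=
    QcqsLoc.isQuasicoherent_pushforward_qcqs U.ι G
  let i' : G ⟶ ((Scheme.Modules.pushforward U.ι).obj G).restrict U.ι :=
    inv ((Scheme.Modules.restrictAdjunction U.ι).counit.app G)
  haveI : Mono i' := inferInstance
  obtain ⟨F, i, e, -, hF, hFft, -⟩ :=
    extend_ft U hU ((Scheme.Modules.pushforward U.ι).obj G) G hG i'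
  exact ⟨F, hF, hFft, ⟨e⟩⟩

set_option backward.isDefEq.respectTransparency false in
/-- EGA I 9.4.9 on a qcqs scheme: every section over an affine open lies in a quasi-coherent
submodule of finite type. -/
theorem exists_ft_sub_section [CompactSpace X] [QuasiSeparatedSpace X] (F : X.Modules)
    [F.IsQuasicoherent] {U : X.Opens} (hU : IsAffineOpen U) (s : Γ(F, U)) :
    ∃ (G : X.Modules) (i : G ⟶ F), Mono i ∧ G.IsQuasicoherent ∧
      SheafOfModules.IsFiniteType (R := X.ringCatSheaf) G ∧ ∃ g : Γ(G, U), ap i U g = s := by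
  haveI : IsAffine U.toScheme := hU
  haveI : QuasiCompact U.ι := inferInstance
  let T : Finset Γ(F, U) := {s}
  haveI hK : (gen U F T).IsQuasicoherent := isQuasicoherent_gen U F T
  have hfin : FinOn (gen U F T) U := fun x hx => ⟨U, hU, hx, le_rfl, finite_gen hU F T⟩
  obtain ⟨K', i₁, hi₁, hK', hK'ft, hbij⟩ := exists_ft_sub (gen U F T) U hU.isCompact hfin
  haveI := hi₁
  obtain ⟨s₁, hs₁⟩ := mem_range_genι F T s (Finset.mem_singleton_self s)
  obtain ⟨g, hg⟩ := (hbij U le_rfl).2 s₁
  refine ⟨K', i₁ ≫ genι U F T, inferInstance, hK', hK'ft, g, ?_⟩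
  show ap (genι U F T) U (ap i₁ U g) = s
  rw [hg, hs₁]

end SubExt
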