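import Mathlib
import Groth.Prelude.Def_CohB1
import Groth.Agent.Lib.LSub_helper9
import Groth.Agent.Lib.SubExt2_helper9

/-!
# The subsheaf generated over an affine open by finitely many sections

For `T ⊆ Γ(H, V)` finite, `SubExt.Sp H T : LSub H` is the largest subsheaf of `H` which over `V` is
generated by `T`.  For quasi-coherent `H` and affine `O ≤ V`, its sections over `O` are the span of
the restrictions of `T` (`LocIn.inSpan_of_affine`), with denominators cleared by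
`InSpan.clear_denoms`.
-/

universe u

open CategoryTheory CategoryTheory.Limits AlgebraicGeometry Opposite TopologicalSpace
open Groth.Agent.Lib.QCohLoc_helper4 QcqsLoc QCohExtn

namespace SubExt

variable {X : Scheme.{u}}

theorem ring_surj_of_locData {A A' : Type u} [CommRing A] [CommRing A'] {ρ : A →+* A'} {a : A}
    {M M' : Type u} [AddCommGroup M] [Module A M] [AddCommGroup M'] [Module A' M']
    {l : M →+ M'} (h : RelFPKit.LocData ρ a l) (c : A') :
    ∃ (k : ℕ) (c' : A), ρ a ^ k * c = ρ c' := by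
  letI := ρ.toAlgebra
  haveI : IsLocalization.Away a A' := h.isLoc
  obtain ⟨k, c', hc⟩ := IsLocalization.Away.surj a c
  exact ⟨k, c', by rw [mul_comm]; exact hc⟩

section LocIn

variable (H : X.Modules) {V : X.Opens} (T : Finset Γ(H, V))

/-- `s` is locally a combination of restrictions of sections in `T`. -/
def LocIn {O : X.Opens} (hO : O ≤ V) (s : Γ(H, O)) : Prop :=
  ∀ x ∈ O, ∃ (O' : X.Opens) (h : O' ≤ O), x ∈ O' ∧ InSpan H T (h.trans hO) (rF H h s)

variable {H T}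

theorem LocIn.of_inSpan {O : X.Opens} {hO : O ≤ V} {s : Γ(H, O)} (h : InSpan H T hO s) :
    LocIn H T hO s := by
  intro x hx
  refine ⟨O, le_rfl, hx, ?_⟩
  rw [rF_self]
  exact h

theorem LocIn.res {O O' : X.Opens} {hO : O ≤ V} {s : Γ(H, O)} (h : LocIn H T hO s)
    (hO' : O' ≤ O) : LocIn H T (hO'.trans hO) (rF H hO' s) := by
  intro x hx
  obtain ⟨O₁, h₁, hx₁, hin⟩ := h x (hO' hx)
  refine ⟨O₁ ⊓ O', inf_le_right, ⟨hx₁, hx⟩, ?_⟩
  have h2 := hin.res (inf_le_left : O₁ ⊓ O' ≤ O₁)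
  rw [rF_rF] at h2 ⊢
  exact h2

theorem LocIn.of_local {O : X.Opens} {hO : O ≤ V} {s : Γ(H, O)}
    (h : ∀ x ∈ O, ∃ (O' : X.Opens) (h' : O' ≤ O), x ∈ O' ∧
      LocIn H T (h'.trans hO) (rF H h' s)) : LocIn H T hO s := by
  intro x hx
  obtain ⟨O', h', hxO', hl⟩ := h x hx
  obtain ⟨O'', h'', hxO'', hin⟩ := hl x hxO'
  refine ⟨O'', h''.trans h', hxO'', ?_⟩
  rw [rF_rF] at hin
  exact hin

theorem LocIn.zero {O : X.Opens} {hO : O ≤ V} : LocIn H T hO (0 : Γ(H, O)) :=
  LocIn.of_inSpan (Submodule.zero_mem _)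

theorem LocIn.add {O : X.Opens} {hO : O ≤ V} {s₁ s₂ : Γ(H, O)} (h1 : LocIn H T hO s₁)
    (h2 : LocIn H T hO s₂) : LocIn H T hO (s₁ + s₂) := by
  intro x hx
  obtain ⟨O₁, h₁, hx₁, hin₁⟩ := h1 x hx
  obtain ⟨O₂, h₂, hx₂, hin₂⟩ := h2 x hx
  refine ⟨O₁ ⊓ O₂, inf_le_left.trans h₁, ⟨hx₁, hx₂⟩, ?_⟩
  have a1 := hin₁.res (inf_le_left : O₁ ⊓ O₂ ≤ O₁)
  have a2 := hin₂.res (inf_le_right : O₁ ⊓ O₂ ≤ O₂)
  rw [rF_rF] at a1 a2
  rw [map_add]
  exact Submodule.add_mem _ a1 a2

theorem LocIn.smul {O : X.Opens} {hO : O ≤ V} {s : Γ(H, O)} (r : Γ(X, O))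
    (h : LocIn H T hO s) : LocIn H T hO (r • s) := by
  intro x hx
  obtain ⟨O₁, h₁, hx₁, hin⟩ := h x hx
  refine ⟨O₁, h₁, hx₁, ?_⟩
  rw [rF_smul]
  exact Submodule.smul_mem _ _ hin

theorem LocIn.mono {T' : Finset Γ(H, V)} (hTT' : T ⊆ T') {O : X.Opens} {hO : O ≤ V}
    {s : Γ(H, O)} (h : LocIn H T hO s) : LocIn H T' hO s := by
  intro x hx
  obtain ⟨O₁, h₁, hx₁, hin⟩ := h x hx
  exact ⟨O₁, h₁, hx₁, hin.mono hTT'⟩

/-- Sections which are locally combinations of `T` lie in any subsheaf containing `T`. -/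
theorem LocIn.mem_lsub {O : X.Opens} {hO : O ≤ V} {s : Γ(H, O)} (h : LocIn H T hO s)
    (N : LSub H) (hT : ∀ t ∈ T, t ∈ N.carrier V) : s ∈ N.carrier O := by
  apply N.loc
  intro x hx
  obtain ⟨O', h', hxO', hin⟩ := h x hx
  refine ⟨O', h', hxO', ?_⟩
  have hle : Submodule.span Γ(X, O')
      ((fun n : Γ(H, V) => rF H (h'.trans hO) n) '' (T : Set Γ(H, V))) ≤ N.carrier O' := by
    rw [Submodule.span_le]
    rintro _ ⟨t, ht, rfl⟩
    exact N.res _ (hT t ht)
  exact hle hin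

variable (H T)

/-- Membership predicate of `Sp`. -/
def SpMem (W : X.Opens) (s : Γ(H, W)) : Prop :=
  LocIn H T (inf_le_right : W ⊓ V ≤ V) (rF H (inf_le_left : W ⊓ V ≤ W) s)

theorem SpMem.res {W W' : X.Opens} (h : W' ≤ W) {s : Γ(H, W)} (hs : SpMem H T W s) :
    SpMem H T W' (rF H h s) := by
  unfold SpMem at hs ⊢
  have h1 : W' ⊓ V ≤ W ⊓ V := inf_le_inf_right V h
  have h2 := hs.res h1
  rw [rF_rF] at h2 ⊢
  exact h2

theorem SpMem.loc {W : X.Opens} (s : Γ(H, W))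
    (hs : ∀ x ∈ W, ∃ (W' : X.Opens) (h : W' ≤ W), x ∈ W' ∧ SpMem H T W' (rF H h s)) :
    SpMem H T W s := by
  unfold SpMem
  apply LocIn.of_local
  intro x hx
  obtain ⟨W', h, hxW', hm⟩ := hs x hx.1
  refine ⟨W' ⊓ V, inf_le_inf_right V h, ⟨hxW', hx.2⟩, ?_⟩
  unfold SpMem at hm
  rw [rF_rF] at hm ⊢
  exact hm

/-- The largest subsheaf of `H` generated over `V` by `T`. -/
noncomputable def Sp : LSub H where
  carrier W :=
    { carrier := {s | SpMem H T W s}
      add_mem' := fun {a b} ha hb => by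
        have h : LocIn H T (inf_le_right : W ⊓ V ≤ V)
            (rF H (inf_le_left : W ⊓ V ≤ W) a + rF H (inf_le_left : W ⊓ V ≤ W) b) :=
          LocIn.add ha hb
        rw [← map_add] at h
        exact h
      zero_mem' := by
        have h : LocIn H T (inf_le_right : W ⊓ V ≤ V) (0 : Γ(H, W ⊓ V)) := LocIn.zero
        rw [← map_zero (rF H (inf_le_left : W ⊓ V ≤ W))] at h
        exact h
      smul_mem' := fun r a ha => by
        have h : LocIn H T (inf_le_right : W ⊓ V ≤ V)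
            (rX (inf_le_left : W ⊓ V ≤ W) r • rF H (inf_le_left : W ⊓ V ≤ W) a) :=
          LocIn.smul _ ha
        rw [← rF_smul] at h
        exact h }
  res := fun h _ hs => SpMem.res H T h hs
  loc := fun s hs => SpMem.loc H T s hs

variable {H T}

theorem mem_Sp_iff {O : X.Opens} (hO : O ≤ V) (s : Γ(H, O)) :
    s ∈ (Sp H T).carrier O ↔ LocIn H T hO s := by
  constructor
  · intro h x hx
    obtain ⟨O', h', hxO', hin⟩ := (h : LocIn H T _ _) x ⟨hx, hO hx⟩
    refine ⟨O', h'.trans inf_le_left, hxO', ?_⟩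
    rw [rF_rF] at hin
    exact hin
  · intro h
    exact h.res (inf_le_left : O ⊓ V ≤ O)

theorem mem_Sp_iff' {W : X.Opens} (s : Γ(H, W)) :
    s ∈ (Sp H T).carrier W ↔
      LocIn H T (inf_le_right : W ⊓ V ≤ V) (rF H (inf_le_left : W ⊓ V ≤ W) s) :=
  Iff.rfl

theorem InSpan.clear_denoms [H.IsQuasicoherent] {O : X.Opens} (hO : O ≤ V)
    (hOaff : IsAffineOpen O) (a : Γ(X, O)) {s' : Γ(H, X.basicOpen a)}
    (hs' : InSpan H T ((X.basicOpen_le a).trans hO) s') :
    ∃ (n : ℕ) (s : Γ(H, O)), InSpan H T hO s ∧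
      rX (X.basicOpen_le a) a ^ n • s' = rF H (X.basicOpen_le a) s := by
  have hl : X.basicOpen a ≤ O := X.basicOpen_le a
  have L := RelFPAff.locData (F := H) hOaff a (homOfLE hl) rfl
  unfold InSpan at hs'
  induction hs' using Submodule.span_induction with
  | mem x hx =>
    obtain ⟨t, ht, rfl⟩ := hx
    refine ⟨0, rF H hO t, Submodule.subset_span ⟨t, ht, rfl⟩, ?_⟩
    rw [pow_zero, one_smul]
    exact (rF_rF H hl hO t).symm
  | zero => exact ⟨0, 0, Submodule.zero_mem _, by rw [smul_zero, map_zero]⟩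
  | add x y _ _ hx hy =>
    obtain ⟨n₁, s₁, hs₁, e₁⟩ := hx
    obtain ⟨n₂, s₂, hs₂, e₂⟩ := hy
    refine ⟨n₁ + n₂, a ^ n₂ • s₁ + a ^ n₁ • s₂,
      Submodule.add_mem _ (Submodule.smul_mem _ _ hs₁) (Submodule.smul_mem _ _ hs₂), ?_⟩
    rw [map_add, rF_pow_smul, rF_pow_smul, ← e₁, ← e₂]
    module
  | smul c x _ hx =>
    obtain ⟨n, s, hs, e⟩ := hx
    obtain ⟨k, c', hc⟩ := ring_surj_of_locData L c
    have hc' : rX hl a ^ k * c = rX hl c' := hc
    refine ⟨k + n, c' • s, Submodule.smul_mem _ _ hs, ?_⟩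
    rw [rF_smul, ← e, ← hc']
    module

theorem LocIn.inSpan_of_affine [H.IsQuasicoherent] {O : X.Opens} {hO : O ≤ V}
    (hOaff : IsAffineOpen O) {s : Γ(H, O)} (h : LocIn H T hO s) : InSpan H T hO s := by
  let I : Ideal Γ(X, O) :=
    { carrier := {a | InSpan H T hO (a • s)}
      add_mem' := fun {a b} ha hb => by
        show InSpan H T hO ((a + b) • s)
        rw [add_smul]
        exact Submodule.add_mem _ ha hb
      zero_mem' := by
        show InSpan H T hO ((0 : Γ(X, O)) • s)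
        rw [zero_smul]
        exact Submodule.zero_mem _
      smul_mem' := fun r a ha => by
        show InSpan H T hO ((r • a) • s)
        rw [smul_eq_mul, mul_smul]
        exact Submodule.smul_mem _ r ha }
  have hcov : O ≤ ⨆ g : (I.radical : Set Γ(X, O)), X.basicOpen g.1 := by
    intro x hx
    obtain ⟨O', h', hxO', hin⟩ := h x hx
    obtain ⟨g, hgO', hxg⟩ := hOaff.exists_basicOpen_le ⟨x, hxO'⟩ hx
    have hin' := hin.res hgO'
    rw [rF_rF] at hin'
    obtain ⟨n, s₁, hs₁, e⟩ := InSpan.clear_denoms hO hOaff g hin'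
    have L := RelFPAff.locData (F := H) hOaff g (homOfLE (X.basicOpen_le g)) rfl
    have h0 : rF H (X.basicOpen_le g) (g ^ n • s - s₁) = 0 := by
      rw [map_sub, rF_pow_smul]
      exact sub_eq_zero.mpr e
    obtain ⟨k, hk⟩ := L.ker _ h0
    have hmem : g ^ (k + n) ∈ I := by
      show InSpan H T hO (g ^ (k + n) • s)
      have h3 : g ^ (k + n) • s = g ^ k • s₁ := by
        rw [smul_sub, sub_eq_zero] at hk
        rw [pow_add, mul_smul]
        exact hk
      rw [h3]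
      exact Submodule.smul_mem _ _ hs₁
    exact Opens.mem_iSup.mpr ⟨⟨g, ⟨k + n, hmem⟩⟩, hxg⟩
  have htop : I.radical = ⊤ := by
    have h1 := hOaff.self_le_iSup_basicOpen_iff.mp hcov
    rwa [Ideal.span_eq] at h1
  have hI : I = ⊤ := Ideal.radical_eq_top.mp htop
  have h1 : (1 : Γ(X, O)) ∈ I := by rw [hI]; trivial
  have h2 : InSpan H T hO ((1 : Γ(X, O)) • s) := h1
  rwa [one_smul] at h2

/-- Over `V` itself the sections of `Sp H T` are the span of `T`. -/
theorem Sp_carrier_eq [H.IsQuasicoherent] (hV : IsAffineOpen V) :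
    (Sp H T).carrier V = Submodule.span Γ(X, V)
      ((fun n : Γ(H, V) => rF H (le_refl V) n) '' (T : Set Γ(H, V))) := by
  ext s
  rw [mem_Sp_iff (le_refl V)]
  exact ⟨fun h => h.inSpan_of_affine hV, fun h => LocIn.of_inSpan h⟩

theorem Sp_fg [H.IsQuasicoherent] (hV : IsAffineOpen V) : ((Sp H T).carrier V).FG := by
  rw [Sp_carrier_eq hV]
  exact Submodule.fg_span (Set.Finite.image _ T.finite_toSet)

theorem locSurj_Sp [H.IsQuasicoherent] (hV : IsAffineOpen V) : (Sp H T).LocSurj V := by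
  intro a s' hs'
  have h1 : LocIn H T (X.basicOpen_le a) s' := (mem_Sp_iff (X.basicOpen_le a) s').mp hs'
  have h2 := h1.inSpan_of_affine (hV.basicOpen a)
  obtain ⟨n, s, hs, e⟩ := InSpan.clear_denoms (le_refl V) hV a h2
  exact ⟨n, s, (mem_Sp_iff (le_refl V) s).mpr (LocIn.of_inSpan hs), e⟩

end LocIn

end SubExt
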