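import Mathlib
import Groth.Prelude.Def_CohB1
import Groth.Agent.Lib.SpanSub_helper9

/-!
# Transfinite construction of finite type quasi-coherent submodules (EGA I 9.4.7)

For a quasi-coherent module `H` on a scheme `X` with a well-ordered affine open cover `(V_l)` such
that `V_l ∩ ⋃_{m<l} V_m` is quasi-compact, and an open `U` with `U ∩ V_l` quasi-compact over
which `H` is of finite type: `H` contains a quasi-coherent submodule of finite type which
coincides with `H` over `U` (`SubExt.exists_ft_sub_wo`).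
-/

universe u v

open CategoryTheory CategoryTheory.Limits AlgebraicGeometry Opposite TopologicalSpace
open Groth.Agent.Lib.QCohLoc_helper4 QcqsLoc QCohExtn

namespace SubExt

/-- Transfinite dependent choice. -/
theorem exists_family {L : Type v} [LinearOrder L] [WellFoundedLT L] {α : L → Type u}
    [∀ l, Nonempty (α l)] (R : ∀ l, (∀ m, m < l → α m) → α l → Prop)
    (hR : ∀ (T : ∀ l, α l) (l : L), (∀ m, m < l → R m (fun m' _ => T m') (T m)) →
      ∃ a, R l (fun m _ => T m) a) :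
    ∃ T : ∀ l, α l, ∀ l, R l (fun m _ => T m) (T l) := by
  classical
  let F : ∀ l, (∀ m, m < l → α m) → α l := fun l f => Classical.epsilon (R l f)
  let T : ∀ l, α l := fun l => WellFounded.fix (wellFounded_lt (α := L)) F l
  have hT : ∀ l, T l = F l (fun m _ => T m) := fun l => WellFounded.fix_eq _ F l
  refine ⟨T, fun l => ?_⟩
  induction l using WellFoundedLT.induction with
  | _ l ih =>
    obtain ⟨a, ha⟩ := hR T l ih
    rw [hT l]
    exact Classical.epsilon_spec ⟨a, ha⟩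

variable {X : Scheme.{u}} (H : X.Modules) {L : Type v} [LinearOrder L] [WellFoundedLT L]
  (V : L → X.Opens) (U : X.Opens)

/-- Intersection of the `Sp`'s for the indices `< l`. -/
noncomputable def NltP (l : L) (f : ∀ m, m < l → Finset Γ(H, V m)) : LSub H :=
  LSub.iInf (fun m : {m : L // m < l} => Sp H (f m.1 m.2))

/-- Intersection of all the `Sp`'s. -/
noncomputable def Ninf (T : ∀ l, Finset Γ(H, V l)) : LSub H :=
  LSub.iInf (fun m : L => Sp H (T m))

/-- The open `U ∪ ⋃_{m<l} V_m`. -/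
def Qlt (l : L) : X.Opens := U ⊔ ⨆ m : {m : L // m < l}, V m.1

/-- The property of the `l`-th choice. -/
def RR (l : L) (f : ∀ m, m < l → Finset Γ(H, V m)) (a : Finset Γ(H, V l)) : Prop :=
  (∀ t ∈ a, t ∈ (NltP H V l f).carrier (V l)) ∧
  ∀ (O : X.Opens) (hO : O ≤ V l), O ≤ Qlt V U l → ∀ s : Γ(H, O),
    s ∈ (NltP H V l f).carrier O → LocIn H a hO s

variable {H V U}

theorem claimE (T : ∀ l, Finset Γ(H, V l)) (b : L → Prop)
    (hb : ∀ m m', m' < m → b m → b m')
    (hR : ∀ m, b m → RR H V U m (fun m' _ => T m') (T m)) :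
    ∀ m', b m' → ∀ m, b m → ∀ (O : X.Opens) (hO : O ≤ V m) (s : Γ(H, O)),
      LocIn H (T m) hO s → s ∈ (Sp H (T m')).carrier O := by
  intro m'
  induction m' using WellFoundedLT.induction with
  | _ m' ih =>
    intro hbm' m hbm O hO s hs
    rcases lt_trichotomy m' m with h | h | h
    · refine hs.mem_lsub (Sp H (T m')) (fun t ht => ?_)
      have h1 := (hR m hbm).1 t ht
      exact (LSub.mem_iInf _ t).mp h1 ⟨m', h⟩
    · subst h
      exact (mem_Sp_iff hO s).mpr hs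
    · rw [mem_Sp_iff']
      refine (hR m' hbm').2 (O ⊓ V m') inf_le_right ?_ _ ?_
      · exact inf_le_left.trans (hO.trans (le_sup_of_le_right
          (le_iSup (fun m : {m : L // m < m'} => V m.1) ⟨m, h⟩)))
      · refine (LSub.mem_iInf _ _).mpr ?_
        rintro ⟨m'', hm''⟩
        exact ih m'' hm'' (hb m' m'' hm'' hbm') m hbm (O ⊓ V m') (inf_le_left.trans hO) _
          (hs.res inf_le_left)

theorem claimD (T : ∀ l, Finset Γ(H, V l)) (b : L → Prop)
    (hb : ∀ m m', m' < m → b m → b m')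
    (hR : ∀ m, b m → RR H V U m (fun m' _ => T m') (T m)) :
    ∀ m', b m' → ∀ (O : X.Opens), O ≤ U → ∀ s : Γ(H, O), s ∈ (Sp H (T m')).carrier O := by
  intro m'
  induction m' using WellFoundedLT.induction with
  | _ m' ih =>
    intro hbm' O hOU s
    rw [mem_Sp_iff']
    refine (hR m' hbm').2 (O ⊓ V m') inf_le_right
      (inf_le_left.trans (hOU.trans le_sup_left)) _ ?_
    refine (LSub.mem_iInf _ _).mpr ?_
    rintro ⟨m'', hm''⟩
    exact ih m'' hm'' (hb m' m'' hm'' hbm') (O ⊓ V m') (inf_le_left.trans hOU) _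

section Stage

variable [H.IsQuasicoherent] (hV : ∀ l, IsAffineOpen (V l)) (hfin : FinOn H U)
  (T : ∀ l, Finset Γ(H, V l)) (l : L)
  (hAB : ∀ m, m < l → RR H V U m (fun m' _ => T m') (T m))

include hAB in
theorem stage_mem_iff (m : L) (hm : m < l) {O : X.Opens} (hO : O ≤ V m) (s : Γ(H, O)) :
    s ∈ (NltP H V l (fun m' _ => T m')).carrier O ↔ LocIn H (T m) hO s := by
  constructor
  · intro h
    exact (mem_Sp_iff hO s).mp ((LSub.mem_iInf _ s).mp h ⟨m, hm⟩)
  · intro h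
    refine (LSub.mem_iInf _ s).mpr ?_
    rintro ⟨m', hm'⟩
    exact claimE T (fun m => m < l) (fun m m' h1 h2 => h1.trans h2) hAB m' hm' m hm O hO s h

include hAB in
theorem stage_mem_of_le_U {O : X.Opens} (hOU : O ≤ U) (s : Γ(H, O)) :
    s ∈ (NltP H V l (fun m' _ => T m')).carrier O := by
  refine (LSub.mem_iInf _ s).mpr ?_
  rintro ⟨m', hm'⟩
  exact claimD T (fun m => m < l) (fun m m' h1 h2 => h1.trans h2) hAB m' hm' O hOU s

include hV hAB in
theorem stage_locSurj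
    (hC : IsCompact ((V l : Set X) ∩ ⋃ m ∈ Set.Iio l, (V m : Set X))) :
    (NltP H V l (fun m' _ => T m')).LocSurj (V l) := by
  classical
  set N := NltP H V l (fun m' _ => T m') with hN
  intro a s' hs'
  have hl : X.basicOpen a ≤ V l := X.basicOpen_le a
  have LH := RelFPAff.locData (F := H) (hV l) a (homOfLE hl) rfl
  obtain ⟨n, h, hh⟩ := LH.surj s'
  have hh' : rX hl a ^ n • s' = rF H hl h := hh
  have hptC : ∀ p : {x : X // x ∈ (V l : Set X) ∩ ⋃ m ∈ Set.Iio l, (V m : Set X)},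
      ∃ (g : Γ(X, V l)) (m : L), m < l ∧ p.1 ∈ X.basicOpen g ∧ X.basicOpen g ≤ V m := by
    intro p
    obtain ⟨m, hm, hpm⟩ := Set.mem_iUnion₂.mp p.2.2
    obtain ⟨g, hg, hpg⟩ := (hV l).exists_basicOpen_le (V := V l ⊓ V m)
      ⟨p.1, ⟨p.2.1, hpm⟩⟩ p.2.1
    exact ⟨g, m, hm, hpg, hg.trans inf_le_right⟩
  choose g m hm hpg hgm using hptC
  obtain ⟨t, ht⟩ := hC.elim_finite_subcover
    (fun p => ((X.basicOpen (g p) : X.Opens) : Set X)) (fun p => (X.basicOpen (g p)).2)
    (fun x hx => Set.mem_iUnion.mpr ⟨⟨x, hx⟩, hpg ⟨x, hx⟩⟩)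
  have hexp : ∀ p, ∃ k : ℕ, rF H (X.basicOpen_le (g p)) (a ^ k • h) ∈
      N.carrier (X.basicOpen (g p)) := by
    intro p
    have hOaff : IsAffineOpen (X.basicOpen (g p)) := (hV l).basicOpen (g p)
    have hOl : X.basicOpen (g p) ≤ V l := X.basicOpen_le (g p)
    have hOm : X.basicOpen (g p) ≤ V (m p) := hgm p
    obtain ⟨a', ha'⟩ : ∃ a' : Γ(X, X.basicOpen (g p)), a' = rX hOl a := ⟨_, rfl⟩
    have eD : X.basicOpen a' = X.basicOpen (g p) ⊓ X.basicOpen a := by
      rw [ha']; exact basicOpen_rX hOl a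
    have hD1 : X.basicOpen a' ≤ X.basicOpen a := eD.le.trans inf_le_right
    have hDO : X.basicOpen a' ≤ X.basicOpen (g p) := X.basicOpen_le a'
    have h1 : rF H (hDO.trans hOl) h ∈ N.carrier (X.basicOpen a') := by
      have e1 : rF H (hDO.trans hOl) h = rF H hD1 (rF H hl h) := (rF_rF H hD1 hl h).symm
      rw [e1, ← hh', rF_pow_smul]
      exact Submodule.smul_mem _ _ (N.res hD1 hs')
    have h2 : LocIn H (T (m p)) (hDO.trans hOm) (rF H (hDO.trans hOl) h) :=
      (stage_mem_iff T l hAB (m p) (hm p) (hDO.trans hOm) _).mp h1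
    have h3 := h2.inSpan_of_affine (hOaff.basicOpen a')
    have h3' : InSpan H (T (m p)) (hDO.trans hOm) (rF H hDO (rF H hOl h)) := by
      rw [rF_rF]; exact h3
    obtain ⟨n', s₁, hs₁, e⟩ := InSpan.clear_denoms hOm hOaff a' h3'
    have LO := RelFPAff.locData (F := H) hOaff a' (homOfLE hDO) rfl
    have h0 : rF H hDO (a' ^ n' • rF H hOl h - s₁) = 0 := by
      rw [map_sub, rF_pow_smul]
      exact sub_eq_zero.mpr e
    obtain ⟨k, hk⟩ := LO.ker _ h0
    refine ⟨k + n', ?_⟩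
    have e2 : rF H hOl (a ^ (k + n') • h) = a' ^ k • s₁ := by
      rw [rF_pow_smul, ← ha']
      rw [smul_sub, sub_eq_zero] at hk
      rw [pow_add, mul_smul]
      exact hk
    rw [e2]
    exact Submodule.smul_mem _ _
      ((stage_mem_iff T l hAB (m p) (hm p) hOm s₁).mpr (LocIn.of_inSpan hs₁))
  choose kf hkf using hexp
  obtain ⟨k, hk⟩ : ∃ k, ∀ p ∈ t, kf p ≤ k := ⟨t.sup kf, fun p hp => Finset.le_sup hp⟩
  have hkall : ∀ p ∈ t, rF H (X.basicOpen_le (g p)) (a ^ k • h) ∈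
      N.carrier (X.basicOpen (g p)) := by
    intro p hp
    have e3 : a ^ k • h = a ^ (k - kf p) • (a ^ kf p • h) := by
      rw [← mul_smul, ← pow_add, Nat.sub_add_cancel (hk p hp)]
    rw [e3, rF_pow_smul]
    exact Submodule.smul_mem _ _ (hkf p)
  have hmemN : a ^ k • h ∈ N.carrier (V l) := by
    refine (LSub.mem_iInf _ _).mpr ?_
    rintro ⟨m₀, hm₀⟩
    rw [mem_Sp_iff']
    apply LocIn.of_local
    intro x hx
    have hxC : x ∈ (V l : Set X) ∩ ⋃ m ∈ Set.Iio l, (V m : Set X) :=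
      ⟨hx.1, Set.mem_iUnion₂.mpr ⟨m₀, hm₀, hx.2⟩⟩
    obtain ⟨p, hp, hxp⟩ := Set.mem_iUnion₂.mp (ht hxC)
    refine ⟨(V l ⊓ V m₀) ⊓ X.basicOpen (g p), inf_le_left, ⟨hx, hxp⟩, ?_⟩
    have h5 : rF H (inf_le_right : (V l ⊓ V m₀) ⊓ X.basicOpen (g p) ≤ X.basicOpen (g p))
        (rF H (X.basicOpen_le (g p)) (a ^ k • h)) ∈ N.carrier _ := N.res _ (hkall p hp)
    have h6 := (LSub.mem_iInf _ _).mp h5 ⟨m₀, hm₀⟩
    have h7 := (mem_Sp_iff (inf_le_left.trans inf_le_right :
      (V l ⊓ V m₀) ⊓ X.basicOpen (g p) ≤ V m₀) _).mp h6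
    rw [rF_rF] at h7 ⊢
    exact h7
  refine ⟨k + n, a ^ k • h, hmemN, ?_⟩
  rw [rF_pow_smul, ← hh', pow_add, mul_smul]

include hV hfin hAB in
theorem stage_caseU (hLS : (NltP H V l (fun m' _ => T m')).LocSurj (V l)) (x : X) (hxU : x ∈ U)
    (hxV : x ∈ V l) :
    ∃ (g : Γ(X, V l)) (Tx : Finset Γ(H, V l)),
      (∀ t ∈ Tx, t ∈ (NltP H V l (fun m' _ => T m')).carrier (V l)) ∧ x ∈ X.basicOpen g ∧
      X.basicOpen g ≤ Qlt V U l ∧
      ∀ (O : X.Opens) (hO : O ≤ X.basicOpen g) (s : Γ(H, O)),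
        s ∈ (NltP H V l (fun m' _ => T m')).carrier O →
          LocIn H Tx (hO.trans (X.basicOpen_le g)) s := by
  classical
  obtain ⟨W, hW, hxW, hWU, hfinW⟩ := hfin x hxU
  obtain ⟨f, g, efg, hxf⟩ := exists_basicOpen_le_affine_inter hW (hV l) x ⟨hxW, hxV⟩
  have L1 := RelFPAff.locData (F := H) hW f (homOfLE (X.basicOpen_le f)) rfl
  haveI := hfinW
  have hf1 : Module.Finite Γ(X, X.basicOpen f) Γ(H, X.basicOpen f) := finite_of_locData L1
  have hf2 : Module.Finite Γ(X, X.basicOpen g) Γ(H, X.basicOpen g) :=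
    QCohFT.finite_congr H efg hf1
  obtain ⟨S, hS⟩ := hf2.fg_top
  have hgU : X.basicOpen g ≤ U := by rw [← efg]; exact (X.basicOpen_le f).trans hWU
  have hl : X.basicOpen g ≤ V l := X.basicOpen_le g
  have hall_mem : ∀ y : Γ(H, X.basicOpen g),
      y ∈ (NltP H V l (fun m' _ => T m')).carrier (X.basicOpen g) :=
    fun y => stage_mem_of_le_U T l hAB hgU y
  choose nn tt htt hne using fun y : Γ(H, X.basicOpen g) => hLS g y (hall_mem y)
  refine ⟨g, S.image tt, ?_, by rw [← efg]; exact hxf, hgU.trans le_sup_left, ?_⟩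
  · intro t ht
    obtain ⟨y, -, rfl⟩ := Finset.mem_image.mp ht
    exact htt y
  · have hu : IsUnit (rX hl g) := RingedSpace.isUnit_res_basicOpen _ g
    have hall : ∀ s : Γ(H, X.basicOpen g), InSpan H (S.image tt) hl s := by
      intro s
      have hle : Submodule.span Γ(X, X.basicOpen g) (S : Set Γ(H, X.basicOpen g)) ≤
          Submodule.span Γ(X, X.basicOpen g)
            ((fun m : Γ(H, V l) => rF H hl m) ''
              ((S.image tt : Finset Γ(H, V l)) : Set Γ(H, V l))) := by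
        rw [Submodule.span_le]
        intro y hy
        obtain ⟨v, hv⟩ := hu.pow (nn y)
        have h1 : y = (↑v⁻¹ : Γ(X, X.basicOpen g)) • rF H hl (tt y) := by
          rw [← hne y, ← hv, ← mul_smul, Units.inv_mul, one_smul]
        rw [h1]
        refine Submodule.smul_mem _ _ (Submodule.subset_span ⟨tt y, ?_, rfl⟩)
        exact Finset.mem_coe.mpr (Finset.mem_image_of_mem tt hy)
      exact hle (by rw [hS]; trivial)
    intro O hO s _
    intro x' hx'
    obtain ⟨g'', hg'', hx'g⟩ := ((hV l).basicOpen g).exists_basicOpen_le ⟨x', hx'⟩ (hO hx')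
    refine ⟨X.basicOpen g'', hg'', hx'g, ?_⟩
    exact InSpan.of_loc H (S.image tt) hl ((hV l).basicOpen g) hall g'' rfl _ _

include hV hAB in
theorem stage_caseM (hLS : (NltP H V l (fun m' _ => T m')).LocSurj (V l)) (m : L) (hm : m < l)
    (x : X) (hxm : x ∈ V m) (hxV : x ∈ V l) :
    ∃ (g : Γ(X, V l)) (Tx : Finset Γ(H, V l)),
      (∀ t ∈ Tx, t ∈ (NltP H V l (fun m' _ => T m')).carrier (V l)) ∧ x ∈ X.basicOpen g ∧
      X.basicOpen g ≤ Qlt V U l ∧
      ∀ (O : X.Opens) (hO : O ≤ X.basicOpen g) (s : Γ(H, O)),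
        s ∈ (NltP H V l (fun m' _ => T m')).carrier O →
          LocIn H Tx (hO.trans (X.basicOpen_le g)) s := by
  classical
  obtain ⟨f, g, efg, hxf⟩ := exists_basicOpen_le_affine_inter (hV m) (hV l) x ⟨hxm, hxV⟩
  have hgm : X.basicOpen g ≤ V m := by rw [← efg]; exact X.basicOpen_le f
  have hl : X.basicOpen g ≤ V l := X.basicOpen_le g
  have hTmem : ∀ t : {t : Γ(H, V m) // t ∈ T m},
      rF H hgm t.1 ∈ (NltP H V l (fun m' _ => T m')).carrier (X.basicOpen g) := fun t =>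
    (stage_mem_iff T l hAB m hm hgm _).mpr
      (LocIn.of_inSpan (Submodule.subset_span ⟨t.1, t.2, rfl⟩))
  choose nn tt htt hne using fun t : {t : Γ(H, V m) // t ∈ T m} => hLS g _ (hTmem t)
  refine ⟨g, (T m).attach.image tt, ?_, by rw [← efg]; exact hxf,
    hgm.trans (le_sup_of_le_right (le_iSup (fun m : {m : L // m < l} => V m.1) ⟨m, hm⟩)), ?_⟩
  · intro t ht
    obtain ⟨y, -, rfl⟩ := Finset.mem_image.mp ht
    exact htt y
  · intro O hO s hs
    have h1 : LocIn H (T m) (hO.trans hgm) s :=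
      (stage_mem_iff T l hAB m hm (hO.trans hgm) s).mp hs
    intro x' hx'
    obtain ⟨O', h', hx'O', hin⟩ := h1 x' hx'
    refine ⟨O', h', hx'O', ?_⟩
    have hu : IsUnit (rX hl g) := RingedSpace.isUnit_res_basicOpen _ g
    have hO'g : O' ≤ X.basicOpen g := h'.trans hO
    have hle : Submodule.span Γ(X, O')
        ((fun n : Γ(H, V m) => rF H (h'.trans (hO.trans hgm)) n) '' (T m : Set Γ(H, V m))) ≤
        Submodule.span Γ(X, O')
          ((fun n : Γ(H, V l) => rF H (h'.trans (hO.trans hl)) n) ''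
            (((T m).attach.image tt : Finset Γ(H, V l)) : Set Γ(H, V l))) := by
      rw [Submodule.span_le]
      rintro _ ⟨t, ht, rfl⟩
      obtain ⟨v, hv⟩ := hu.pow (nn ⟨t, ht⟩)
      have e1 : rF H hgm t = (↑v⁻¹ : Γ(X, X.basicOpen g)) • rF H hl (tt ⟨t, ht⟩) := by
        rw [← hne ⟨t, ht⟩, ← hv, ← mul_smul, Units.inv_mul, one_smul]
      have e2 : rF H (h'.trans (hO.trans hgm)) t =
          rX hO'g (↑v⁻¹ : Γ(X, X.basicOpen g)) • rF H (h'.trans (hO.trans hl)) (tt ⟨t, ht⟩) := by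
        rw [← rF_rF H hO'g hgm t, e1, rF_smul, rF_rF]
      show rF H (h'.trans (hO.trans hgm)) t ∈ _
      rw [e2]
      refine Submodule.smul_mem _ _ (Submodule.subset_span ⟨tt ⟨t, ht⟩, ?_, rfl⟩)
      exact Finset.mem_coe.mpr (Finset.mem_image_of_mem tt (Finset.mem_attach _ _))
    exact hle hin

include hV hfin hAB in
theorem stage (hC : IsCompact ((V l : Set X) ∩ ⋃ m ∈ Set.Iio l, (V m : Set X)))
    (hUl : IsCompact ((U ⊓ V l : X.Opens) : Set X)) :
    ∃ a, RR H V U l (fun m _ => T m) a := by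
  classical
  have hLS := stage_locSurj hV T l hAB hC
  have hK : IsCompact (((U ⊓ V l : X.Opens) : Set X) ∪
      ((V l : Set X) ∩ ⋃ m ∈ Set.Iio l, (V m : Set X))) := hUl.union hC
  have hpt : ∀ p : {x : X // x ∈ ((U ⊓ V l : X.Opens) : Set X) ∪
      ((V l : Set X) ∩ ⋃ m ∈ Set.Iio l, (V m : Set X))},
      ∃ (g : Γ(X, V l)) (Tx : Finset Γ(H, V l)),
        (∀ t ∈ Tx, t ∈ (NltP H V l (fun m' _ => T m')).carrier (V l)) ∧
        p.1 ∈ X.basicOpen g ∧ X.basicOpen g ≤ Qlt V U l ∧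
        ∀ (O : X.Opens) (hO : O ≤ X.basicOpen g) (s : Γ(H, O)),
          s ∈ (NltP H V l (fun m' _ => T m')).carrier O →
            LocIn H Tx (hO.trans (X.basicOpen_le g)) s := by
    rintro ⟨x, hx | hx⟩
    · exact stage_caseU hV hfin T l hAB hLS x hx.1 hx.2
    · obtain ⟨m, hm, hxm⟩ := Set.mem_iUnion₂.mp hx.2
      exact stage_caseM hV T l hAB hLS m hm x hxm hx.1
  choose g Tx hTx hpg hgQ hsp using hpt
  obtain ⟨t, ht⟩ := hK.elim_finite_subcover
    (fun p => ((X.basicOpen (g p) : X.Opens) : Set X)) (fun p => (X.basicOpen (g p)).2)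
    (fun x hx => Set.mem_iUnion.mpr ⟨⟨x, hx⟩, hpg ⟨x, hx⟩⟩)
  refine ⟨t.biUnion Tx, ?_, ?_⟩
  · intro t' ht'
    obtain ⟨p, -, hp⟩ := Finset.mem_biUnion.mp ht'
    exact hTx p t' hp
  · intro O hO hOQ s hs
    apply LocIn.of_local
    intro x hx
    have hxK : x ∈ ((U ⊓ V l : X.Opens) : Set X) ∪
        ((V l : Set X) ∩ ⋃ m ∈ Set.Iio l, (V m : Set X)) := by
      rcases (hOQ hx : x ∈ (U : Set X) ∪
        ((⨆ m : {m : L // m < l}, V m.1 : X.Opens) : Set X)) with h | h
      · exact Or.inl ⟨h, hO hx⟩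
      · obtain ⟨⟨m, hm⟩, hxm⟩ := Opens.mem_iSup.mp h
        exact Or.inr ⟨hO hx, Set.mem_iUnion₂.mpr ⟨m, hm, hxm⟩⟩
    obtain ⟨p, hp, hxp⟩ := Set.mem_iUnion₂.mp (ht hxK)
    refine ⟨O ⊓ X.basicOpen (g p), inf_le_left, ⟨hx, hxp⟩, ?_⟩
    exact (hsp p (O ⊓ X.basicOpen (g p)) inf_le_right _
      ((NltP H V l (fun m' _ => T m')).res inf_le_left hs)).mono
      (Finset.subset_biUnion_of_mem Tx hp)

end Stage

section Final

variable [H.IsQuasicoherent]

/-- **EGA I 9.4.7, core.**  A quasi-coherent module which is of finite type over `U` contains a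
quasi-coherent submodule of finite type with the same sections over the opens contained in `U`,
given a well-ordered affine cover with quasi-compact overlaps. -/
theorem exists_ft_sub_wo (hV : ∀ l, IsAffineOpen (V l)) (hcov : ⨆ l, V l = ⊤)
    (hW : ∀ l, IsCompact ((V l : Set X) ∩ ⋃ m ∈ Set.Iio l, (V m : Set X)))
    (hUc : ∀ l, IsCompact ((U ⊓ V l : X.Opens) : Set X)) (hfin : FinOn H U) :
    ∃ (K' : X.Modules) (i : K' ⟶ H), Mono i ∧ K'.IsQuasicoherent ∧
      SheafOfModules.IsFiniteType (R := X.ringCatSheaf) K' ∧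
      ∀ W : X.Opens, W ≤ U → Function.Bijective (ap i W) := by
  obtain ⟨T, hT⟩ := exists_family (α := fun l => Finset Γ(H, V l)) (RR H V U)
    (fun T l ih => stage hV hfin T l ih (hW l) (hUc l))
  let N := Ninf H V T
  have hb : ∀ m m' : L, m' < m → True → True := fun _ _ _ _ => trivial
  have hEq : ∀ (l : L) (O : X.Opens), O ≤ V l → N.carrier O = (Sp H (T l)).carrier O := by
    intro l O hO
    ext s
    constructor
    · intro h
      exact (LSub.mem_iInf _ s).mp h l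
    · intro h
      refine (LSub.mem_iInf _ s).mpr (fun m' => ?_)
      exact claimE T (fun _ => True) hb (fun m _ => hT m) m' trivial l trivial O hO s
        ((mem_Sp_iff hO s).mp h)
  have hLS : ∀ l, N.LocSurj (V l) := by
    intro l a s' hs'
    rw [hEq l _ (X.basicOpen_le a)] at hs'
    obtain ⟨n, s, hs, e⟩ := locSurj_Sp (hV l) a s' hs'
    exact ⟨n, s, by rw [hEq l _ le_rfl]; exact hs, e⟩
  have hFG : ∀ l, (N.carrier (V l)).FG := by
    intro l
    rw [hEq l _ le_rfl]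
    exact Sp_fg (hV l)
  have hbijU : ∀ W : X.Opens, W ≤ U → Function.Bijective (ap N.ι W) := by
    intro W hWU
    apply N.ι_bijective_of_eq_top
    rw [eq_top_iff]
    intro s _
    refine (LSub.mem_iInf _ s).mpr (fun m' => ?_)
    exact claimD T (fun _ => True) hb (fun m _ => hT m) m' trivial W hWU s
  let ι' : Type u := {W : X.Opens // ∃ l, V l = W}
  let 𝒰 : ι' → X.Opens := fun W => W.1
  have h𝒰 : ∀ i, IsAffineOpen (𝒰 i) := by
    rintro ⟨W, l, rfl⟩
    exact hV l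
  have hcov' : ⨆ i, 𝒰 i = ⊤ := by
    rw [eq_top_iff]
    intro x hx
    rw [← hcov] at hx
    obtain ⟨l, hl⟩ := Opens.mem_iSup.mp hx
    exact Opens.mem_iSup.mpr ⟨⟨V l, l, rfl⟩, hl⟩
  have hq : N.toModules.IsQuasicoherent := by
    refine QCohCrit.isQuasicoherent_of_locOnU_cover N.toModules 𝒰 h𝒰 hcov' ?_
    rintro ⟨W, l, rfl⟩
    exact N.locOnU_of_locSurj (hV l) (hLS l)
  refine ⟨N.toModules, N.ι, inferInstance, hq, ?_, hbijU⟩
  haveI := hq
  refine QCohCrit.isFiniteType_of_sections_cover N.toModules 𝒰 h𝒰 hcov' ?_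
  rintro ⟨W, l, rfl⟩
  exact N.finite_of_fg (hFG l)

end Final

end SubExt
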