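import Mathlib
import Groth.Prelude.Def_CohB1
import Groth.Agent.Lib.WellExt_helper9
import Groth.Agent.Lib.SubExt3_helper9

/-!
# EGA I 9.4.7–9.4.9 with a well-ordered affine cover, and on locally Noetherian schemes
-/

universe u v

open CategoryTheory CategoryTheory.Limits AlgebraicGeometry Opposite TopologicalSpace
open Groth.Agent.Lib.QCohLoc_helper4 QcqsLoc QCohExtn

namespace SubExt

variable {X : Scheme.{u}}

theorem isCompact_inf_of_quasiCompact (U : X.Opens) [QuasiCompact U.ι] {V : X.Opens}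
    (hV : IsAffineOpen V) : IsCompact ((U ⊓ V : X.Opens) : Set X) := by
  have h1 : IsCompact ((U.ι ⁻¹ᵁ V : U.toScheme.Opens) : Set U.toScheme) :=
    QuasiCompact.isCompact_preimage (f := U.ι) (V : Set X) V.2 hV.isCompact
  have h2 := h1.image U.ι.continuous
  have e : (U.ι ''ᵁ (U.ι ⁻¹ᵁ V) : X.Opens) = U ⊓ V := by
    rw [Scheme.Hom.image_preimage_eq_opensRange_inf, Scheme.Opens.opensRange_ι]
  rw [← e]
  exact h2

set_option backward.isDefEq.respectTransparency false in
/-- **EGA I 9.4.7** in full generality. -/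
theorem extend_ft_wo {L : Type v} [LinearOrder L] [WellFoundedLT L] (V : L → X.Opens)
    (hV : ∀ l, IsAffineOpen (V l)) (hcov : ⨆ l, V l = ⊤)
    (hW : ∀ l, IsCompact ((V l : Set X) ∩ ⋃ m ∈ Set.Iio l, (V m : Set X)))
    (U : X.Opens) [QuasiCompact U.ι] (F : X.Modules) [F.IsQuasicoherent]
    (G : (U : Scheme.{u}).Modules) (i : G ⟶ F.restrict U.ι) [Mono i] [G.IsQuasicoherent]
    (hG : SheafOfModules.IsFiniteType (R := U.toScheme.ringCatSheaf) G) :
    ∃ (G' : X.Modules) (i' : G' ⟶ F) (e : G'.restrict U.ι ≅ G), Mono i' ∧ G'.IsQuasicoherent ∧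
      SheafOfModules.IsFiniteType (R := X.ringCatSheaf) G' ∧
      e.hom ≫ i = (Scheme.Modules.restrictFunctor U.ι).map i' := by
  haveI := hG
  haveI hH : (ext U F G i).IsQuasicoherent := isQuasicoherent_ext U F G i
  have hfinH : FinOn (ext U F G i) U := finOn_ext U F G i
  obtain ⟨K', i₁, hi₁, hK', hK'ft, hbij⟩ := exists_ft_sub_wo (H := ext U F G i) (V := V) (U := U)
    hV hcov hW (fun l => isCompact_inf_of_quasiCompact U (hV l)) hfinH
  haveI := hi₁
  haveI : Mono (extι U F G i) := mono_extι U F G i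
  haveI : IsIso ((Scheme.Modules.restrictFunctor U.ι).map i₁) := by
    apply isIso_of_bijective
    intro W'
    exact hbij (U.ι ''ᵁ W') (U.ι_image_le W')
  refine ⟨K', i₁ ≫ extι U F G i,
    asIso ((Scheme.Modules.restrictFunctor U.ι).map i₁) ≪≫ asIso (extRes U F G i),
    inferInstance, hK', hK'ft, ?_⟩
  simp only [Iso.trans_hom, asIso_hom, Category.assoc, Functor.map_comp]
  rw [extRes_comp]

section LocNoeth

variable (hX : ∀ x : X, ∃ U : X.Opens, x ∈ U ∧ NoetherianSpace (U : Set X))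

include hX in
theorem isCompact_of_subset_affine {V : X.Opens} (hV : IsAffineOpen V) {t : Set X}
    (ht : t ⊆ V) : IsCompact t := by
  choose N hxN hN using hX
  obtain ⟨s, hs⟩ := hV.isCompact.elim_finite_subcover (fun x : X => (N x : Set X))
    (fun x => (N x).2) (fun x _ => Set.mem_iUnion.mpr ⟨x, hxN x⟩)
  have e : t = ⋃ x ∈ s, (t ∩ N x) := by
    ext y
    constructor
    · intro hy
      obtain ⟨x, hx, hyx⟩ := Set.mem_iUnion₂.mp (hs (ht hy))
      exact Set.mem_iUnion₂.mpr ⟨x, hx, hy, hyx⟩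
    · intro hy
      obtain ⟨x, hx, hy', -⟩ := Set.mem_iUnion₂.mp hy
      exact hy'
  rw [e]
  exact s.isCompact_biUnion
    (fun x _ => (noetherianSpace_set_iff _).mp (hN x) _ Set.inter_subset_right)

include hX in
theorem quasiCompact_ι_of_locNoeth (U : X.Opens) : QuasiCompact U.ι := by
  rw [quasiCompact_iff_forall_isAffineOpen]
  intro V hV
  have h1 : IsCompact ((U : Set X) ∩ V) :=
    isCompact_of_subset_affine hX hV Set.inter_subset_right
  have h2 : ((U.ι ⁻¹ᵁ V : U.toScheme.Opens) : Set U.toScheme) =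
      U.ι ⁻¹' ((U : Set X) ∩ V) :=
    Set.ext fun y => ⟨fun h => ⟨y.2, h⟩, fun h => h.2⟩
  rw [h2]
  exact U.ι.isOpenEmbedding.isEmbedding.isInducing.isCompact_preimage' h1
    (by rw [Scheme.Opens.range_ι]; exact Set.inter_subset_left)

include hX in
/-- **EGA I 9.4.7 a)**: locally Noetherian case. -/
theorem extend_ft_locNoeth (U : X.Opens) (F : X.Modules) [F.IsQuasicoherent]
    (G : (U : Scheme.{u}).Modules) (i : G ⟶ F.restrict U.ι) [Mono i] [G.IsQuasicoherent]
    (hG : SheafOfModules.IsFiniteType (R := U.toScheme.ringCatSheaf) G) :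
    ∃ (G' : X.Modules) (i' : G' ⟶ F) (e : G'.restrict U.ι ≅ G), Mono i' ∧ G'.IsQuasicoherent ∧
      SheafOfModules.IsFiniteType (R := X.ringCatSheaf) G' ∧
      e.hom ≫ i = (Scheme.Modules.restrictFunctor U.ι).map i' := by
  haveI := quasiCompact_ι_of_locNoeth hX U
  obtain ⟨_, _⟩ := exists_wellFoundedLT X.affineOpens
  exact extend_ft_wo (fun V : X.affineOpens => (V : X.Opens)) (fun V => V.2)
    (iSup_affineOpens_eq_top X)
    (fun l => isCompact_of_subset_affine hX l.2 Set.inter_subset_left) U F G i hG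

include hX in
set_option backward.isDefEq.respectTransparency false in
/-- **EGA I 9.4.8**: locally Noetherian case. -/
theorem extend_ft_module_locNoeth (U : X.Opens) (G : (U : Scheme.{u}).Modules)
    [G.IsQuasicoherent] (hG : SheafOfModules.IsFiniteType (R := U.toScheme.ringCatSheaf) G) :
    ∃ G' : X.Modules, G'.IsQuasicoherent ∧
      SheafOfModules.IsFiniteType (R := X.ringCatSheaf) G' ∧ Nonempty (G'.restrict U.ι ≅ G) := by
  haveI := quasiCompact_ι_of_locNoeth hX U
  haveI : ((Scheme.Modules.pushforward U.ι).obj G).IsQuasicoherent :=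
    QcqsLoc.isQuasicoherent_pushforward_qcqs U.ι G
  let i' : G ⟶ ((Scheme.Modules.pushforward U.ι).obj G).restrict U.ι :=
    inv ((Scheme.Modules.restrictAdjunction U.ι).counit.app G)
  haveI : Mono i' := inferInstance
  obtain ⟨F, i, e, -, hF, hFft, -⟩ :=
    extend_ft_locNoeth hX U ((Scheme.Modules.pushforward U.ι).obj G) G i' hG
  exact ⟨F, hF, hFft, ⟨e⟩⟩

include hX in
set_option backward.isDefEq.respectTransparency false in
/-- **EGA I 9.4.9**: locally Noetherian case. -/
theorem exists_ft_sub_section_locNoeth (F : X.Modules) [F.IsQuasicoherent] {U : X.Opens}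
    (hU : IsAffineOpen U) (s : Γ(F, U)) :
    ∃ (G : X.Modules) (i : G ⟶ F), Mono i ∧ G.IsQuasicoherent ∧
      SheafOfModules.IsFiniteType (R := X.ringCatSheaf) G ∧ ∃ g : Γ(G, U), ap i U g = s := by
  haveI := quasiCompact_ι_of_locNoeth hX U
  let T : Finset Γ(F, U) := {s}
  haveI hK : (gen U F T).IsQuasicoherent := isQuasicoherent_gen U F T
  have hfin : FinOn (gen U F T) U := fun x hx => ⟨U, hU, hx, le_rfl, finite_gen hU F T⟩
  obtain ⟨_, _⟩ := exists_wellFoundedLT X.affineOpens
  obtain ⟨K', i₁, hi₁, hK', hK'ft, hbij⟩ := exists_ft_sub_wo (H := gen U F T)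
    (V := fun V : X.affineOpens => (V : X.Opens)) (U := U) (fun V => V.2)
    (iSup_affineOpens_eq_top X)
    (fun l => isCompact_of_subset_affine hX l.2 Set.inter_subset_left)
    (fun l => isCompact_of_subset_affine hX l.2 Set.inter_subset_right) hfin
  haveI := hi₁
  obtain ⟨s₁, hs₁⟩ := mem_range_genι F T s (Finset.mem_singleton_self s)
  obtain ⟨g, hg⟩ := (hbij U le_rfl).2 s₁
  refine ⟨K', i₁ ≫ genι U F T, inferInstance, hK', hK'ft, g, ?_⟩
  show ap (genι U F T) U (ap i₁ U g) = s
  rw [hg, hs₁]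

end LocNoeth

end SubExt
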