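import Mathlib
import Groth.Prelude.Def_RelSpec
import Groth.Prelude.Def_CohB1
import Groth.Agent.Lib.SubExt4_helper9

/-!
# Quasi-coherent algebras as modules, and generating submodules of finite type

* `QCAlgMod.isQuasicoherent_toModule`: the module underlying a quasi-coherent algebra is
  quasi-coherent.
* `QCAlgMod.exists_sup`: the sum of two quasi-coherent finite type "submodules".
* `QCAlgMod.exists_ft_sub_family`: finitely many sections over affine opens lie in a common
  quasi-coherent submodule of finite type (qcqs case).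
* `QCAlgMod.AW`: the subring of `B(W)` generated by the functions and the sections of a submodule.
* `QCAlgMod.main`: EGA I 9.6.5: a quasi-coherent algebra of finite type over a qcqs scheme is
  generated by a quasi-coherent submodule of finite type.
-/

universe u

open CategoryTheory CategoryTheory.Limits AlgebraicGeometry Opposite TopologicalSpace
open Groth.Agent.Lib.QCohLoc_helper4 QcqsLoc QCohExtn

namespace QCAlgMod

variable {X : Scheme.{u}} (B : RelSpec.QCAlg X)

/-- Sections of `B.toModule` are ring elements. -/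
abbrev toB {W : X.Opens} (x : Γ(B.toModule, W)) : B.presheaf.obj (op W) := x

/-- Ring elements as sections of `B.toModule`. -/
abbrev ofB {W : X.Opens} (x : B.presheaf.obj (op W)) : Γ(B.toModule, W) := x

theorem smul_eq {W : X.Opens} (r : Γ(X, W)) (m : Γ(B.toModule, W)) :
    toB B (r • m) = (B.str.app (op W)).hom r * toB B m := rfl

theorem rF_eq {W' W : X.Opens} (h : W' ≤ W) (m : Γ(B.toModule, W)) :
    toB B (rF B.toModule h m) = (B.presheaf.map (homOfLE h).op).hom (toB B m) := rfl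

theorem ap_add {M N : X.Modules} (f g : M ⟶ N) (W : X.Opens) (x : Γ(M, W)) :
    ap (f + g) W x = ap f W x + ap g W x := rfl

theorem str_res {W' W : X.Opens} (h : W' ≤ W) (r : Γ(X, W)) :
    (B.presheaf.map (homOfLE h).op).hom ((B.str.app (op W)).hom r) =
      (B.str.app (op W')).hom (rX h r) := by
  have h1 := congr_arg (fun ψ => ψ.hom r) (B.str.naturality (homOfLE h).op)
  simp only [CommRingCat.hom_comp] at h1
  exact h1.symm

set_option backward.isDefEq.respectTransparency false in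
theorem locOnU_toModule {U : X.Opens} (hU : IsAffineOpen U) :
    QCohCrit.LocOnU B.toModule U := by
  intro a
  have hl : X.basicOpen a ≤ U := X.basicOpen_le a
  letI alg : Algebra (B.presheaf.obj (op U)) (B.presheaf.obj (op (X.basicOpen a))) :=
    (B.presheaf.map (homOfLE hl).op).hom.toAlgebra
  haveI hloc : IsLocalization.Away ((B.str.app (op U)).hom a)
      (B.presheaf.obj (op (X.basicOpen a))) := B.isQC U hU a
  refine ⟨hU.isLocalization_basicOpen a, fun x m => Scheme.Modules.map_smul _ _ x m, ?_, ?_⟩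
  · intro m'
    obtain ⟨n, b, hb⟩ := IsLocalization.Away.surj ((B.str.app (op U)).hom a) (toB B m')
    have hb' : toB B m' * (B.presheaf.map (homOfLE hl).op).hom ((B.str.app (op U)).hom a) ^ n =
        (B.presheaf.map (homOfLE hl).op).hom b := hb
    refine ⟨n, ofB B b, ?_⟩
    show toB B ((rX hl a) ^ n • m') = (B.presheaf.map (homOfLE hl).op).hom b
    rw [smul_eq, map_pow, ← str_res B hl a, mul_comm]
    exact hb'
  · intro m hm
    have h0 : algebraMap (B.presheaf.obj (op U)) (B.presheaf.obj (op (X.basicOpen a))) (toB B m) =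
        algebraMap (B.presheaf.obj (op U)) (B.presheaf.obj (op (X.basicOpen a))) 0 := by
      rw [map_zero]; exact hm
    obtain ⟨n, hn⟩ := IsLocalization.Away.exists_of_eq ((B.str.app (op U)).hom a) h0
    refine ⟨n, ?_⟩
    show toB B (a ^ n • m) = 0
    rw [smul_eq, map_pow, hn, mul_zero]

/-- The module underlying a quasi-coherent algebra is quasi-coherent. -/
theorem isQuasicoherent_toModule : B.toModule.IsQuasicoherent :=
  QCohCrit.isQuasicoherent_of_locOnU _ (fun U => locOnU_toModule B U.2)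

section Sup

theorem isQuasicoherent_biprod (G₁ G₂ : X.Modules) [G₁.IsQuasicoherent] [G₂.IsQuasicoherent] :
    (G₁ ⊞ G₂).IsQuasicoherent := by
  let E : ShortComplex X.Modules :=
    ShortComplex.mk (biprod.inl : G₁ ⟶ G₁ ⊞ G₂) (biprod.snd : G₁ ⊞ G₂ ⟶ G₂) (by simp)
  have hE : E.ShortExact := (ShortComplex.Splitting.ofHasBinaryBiproduct G₁ G₂).shortExact
  haveI : E.X₁.IsQuasicoherent := ‹G₁.IsQuasicoherent›
  haveI : E.X₃.IsQuasicoherent := ‹G₂.IsQuasicoherent›
  exact QCohExtn.isQuasicoherent_of_shortExact E hE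

set_option backward.isDefEq.respectTransparency false in
/-- The sum of two quasi-coherent finite type modules mapping to `H`. -/
theorem exists_sup (H : X.Modules) [H.IsQuasicoherent] {G₁ G₂ : X.Modules} (i₁ : G₁ ⟶ H)
    (i₂ : G₂ ⟶ H) [G₁.IsQuasicoherent] [G₂.IsQuasicoherent]
    (h₁ : SheafOfModules.IsFiniteType (R := X.ringCatSheaf) G₁)
    (h₂ : SheafOfModules.IsFiniteType (R := X.ringCatSheaf) G₂) :
    ∃ (G : X.Modules) (i : G ⟶ H), Mono i ∧ G.IsQuasicoherent ∧
      SheafOfModules.IsFiniteType (R := X.ringCatSheaf) G ∧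
      (∀ (W : X.Opens) (g : Γ(G₁, W)), ∃ g', ap i W g' = ap i₁ W g) ∧
      (∀ (W : X.Opens) (g : Γ(G₂, W)), ∃ g', ap i W g' = ap i₂ W g) := by
  haveI hq : (G₁ ⊞ G₂).IsQuasicoherent := isQuasicoherent_biprod G₁ G₂
  let p : G₁ ⊞ G₂ ⟶ H := biprod.desc i₁ i₂
  haveI hqc : (Abelian.coimage p).IsQuasicoherent := SubExt.isQuasicoherent_coimage p
  let π : G₁ ⊞ G₂ ⟶ Abelian.coimage p := Abelian.coimage.π p
  let i : Abelian.coimage p ⟶ H := Abelian.factorThruCoimage p
  have hfac : π ≫ i = p := Abelian.coimage.fac p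
  have hmono : Mono i := inferInstanceAs (Mono (Abelian.factorThruCoimage p))
  haveI hK : (kernel p).IsQuasicoherent := SubExt.isQuasicoherent_kernel p
  let E : ShortComplex X.Modules :=
    ShortComplex.mk (kernel.ι p) (cokernel.π (kernel.ι p)) (cokernel.condition _)
  have hE : E.ShortExact := ShortComplex.ShortExact.mk' (ShortComplex.exact_cokernel (kernel.ι p))
    (inferInstanceAs (Mono (kernel.ι p))) (inferInstanceAs (Epi (cokernel.π (kernel.ι p))))
  haveI : E.X₁.IsQuasicoherent := hK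
  have hsurj : ∀ W : X.Opens, IsAffineOpen W → Function.Surjective (ap π W) := fun W hW =>
    QCohExtn.app_surjective_of_qcoh_kernel E hE hW
  refine ⟨Abelian.coimage p, i, hmono, hqc, ?_, ?_, ?_⟩
  · refine QCohCrit.isFiniteType_of_sections_cover _ (fun V : X.affineOpens => (V : X.Opens))
      (fun V => V.2) (iSup_affineOpens_eq_top X) (fun V => ?_)
    haveI := h₁
    haveI := h₂
    haveI : Module.Finite Γ(X, (V : X.Opens)) Γ(G₁, (V : X.Opens)) :=
      QCohFT.finite_of_isFiniteType G₁ V.2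
    haveI : Module.Finite Γ(X, (V : X.Opens)) Γ(G₂, (V : X.Opens)) :=
      QCohFT.finite_of_isFiniteType G₂ V.2
    let φ : (Γ(G₁, (V : X.Opens)) × Γ(G₂, (V : X.Opens))) →ₗ[Γ(X, (V : X.Opens))]
        Γ(Abelian.coimage p, (V : X.Opens)) :=
      { toFun := fun x => ap (biprod.inl ≫ π) V x.1 + ap (biprod.inr ≫ π) V x.2
        map_add' := fun a b => by
          simp only [Prod.fst_add, Prod.snd_add, map_add]
          abel
        map_smul' := fun r a => by
          simp only [Prod.smul_fst, Prod.smul_snd, ap_smul, RingHom.id_apply, smul_add] }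
    have hφ : Function.Surjective φ := by
      intro y
      obtain ⟨x, hx⟩ := hsurj V V.2 y
      refine ⟨(ap (biprod.fst : G₁ ⊞ G₂ ⟶ G₁) V x, ap (biprod.snd : G₁ ⊞ G₂ ⟶ G₂) V x), ?_⟩
      have htot : ap ((biprod.fst : G₁ ⊞ G₂ ⟶ G₁) ≫ biprod.inl +
          (biprod.snd : G₁ ⊞ G₂ ⟶ G₂) ≫ biprod.inr) V x = x := by
        rw [biprod.total]; rfl
      show ap (biprod.inl ≫ π) V (ap (biprod.fst : G₁ ⊞ G₂ ⟶ G₁) V x) +
        ap (biprod.inr ≫ π) V (ap (biprod.snd : G₁ ⊞ G₂ ⟶ G₂) V x) = y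
      rw [← hx]
      conv_rhs => rw [← htot]
      rw [ap_add, map_add]
      rfl
    exact Module.Finite.of_surjective φ hφ
  · intro W g
    refine ⟨ap π W (ap biprod.inl W g), ?_⟩
    show ap (biprod.inl ≫ π ≫ i) W g = ap i₁ W g
    rw [hfac, biprod.inl_desc]
  · intro W g
    refine ⟨ap π W (ap biprod.inr W g), ?_⟩
    show ap (biprod.inr ≫ π ≫ i) W g = ap i₂ W g
    rw [hfac, biprod.inr_desc]

/-- Finitely many sections over affine opens lie in a common quasi-coherent submodule of finite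
type. -/
theorem exists_ft_sub_family [CompactSpace X] [QuasiSeparatedSpace X] (H : X.Modules)
    [H.IsQuasicoherent] (L : List (Σ U : X.affineOpens, Γ(H, (U : X.Opens)))) :
    ∃ (G : X.Modules) (i : G ⟶ H), Mono i ∧ G.IsQuasicoherent ∧
      SheafOfModules.IsFiniteType (R := X.ringCatSheaf) G ∧
      ∀ p ∈ L, ∃ g : Γ(G, (p.1 : X.Opens)), ap i (p.1 : X.Opens) g = p.2 := by
  induction L with
  | nil =>
    obtain ⟨K', i, hi, hK', hft, -⟩ := SubExt.exists_ft_sub H ⊥ (by simp)
      (fun x hx => (Set.notMem_empty x hx).elim)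
    exact ⟨K', i, hi, hK', hft, fun p hp => absurd hp List.not_mem_nil⟩
  | cons p L ih =>
    obtain ⟨G₁, i₁, _, hG₁, hft₁, hL⟩ := ih
    obtain ⟨G₂, i₂, _, hG₂, hft₂, g₂, hg₂⟩ := SubExt.exists_ft_sub_section H p.1.2 p.2
    haveI := hG₁
    haveI := hG₂
    obtain ⟨G, i, hi, hG, hft, h1, h2⟩ := exists_sup H i₁ i₂ hft₁ hft₂
    refine ⟨G, i, hi, hG, hft, ?_⟩
    intro q hq
    rcases List.mem_cons.mp hq with rfl | hq
    · obtain ⟨g', hg'⟩ := h2 _ g₂
      exact ⟨g', hg'.trans hg₂⟩
    · obtain ⟨g, hg⟩ := hL q hq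
      obtain ⟨g', hg'⟩ := h1 _ g
      exact ⟨g', hg'.trans hg⟩

end Sup

section Gen

variable {E : X.Modules} (j : E ⟶ B.toModule)

/-- The subring of `B(W)` generated by the functions on `W` and the sections of `E` over `W`. -/
def AW (W : X.Opens) : Subring (B.presheaf.obj (op W)) :=
  Subring.closure (Set.range (B.str.app (op W)).hom ∪
    Set.range (fun e : Γ(E, W) => toB B (ap j W e)))

theorem str_mem_AW {W : X.Opens} (r : Γ(X, W)) : (B.str.app (op W)).hom r ∈ AW B j W :=
  Subring.subset_closure (Or.inl ⟨r, rfl⟩)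

theorem j_mem_AW {W : X.Opens} (e : Γ(E, W)) : toB B (ap j W e) ∈ AW B j W :=
  Subring.subset_closure (Or.inr ⟨e, rfl⟩)

theorem AW_res {W' W : X.Opens} (h : W' ≤ W) {c : B.presheaf.obj (op W)} (hc : c ∈ AW B j W) :
    (B.presheaf.map (homOfLE h).op).hom c ∈ AW B j W' := by
  have hle : AW B j W ≤ (AW B j W').comap (B.presheaf.map (homOfLE h).op).hom := by
    refine Subring.closure_le.mpr ?_
    rintro x (⟨r, rfl⟩ | ⟨e, rfl⟩)
    · show (B.presheaf.map (homOfLE h).op).hom ((B.str.app (op W)).hom r) ∈ AW B j W'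
      rw [str_res B h r]
      exact str_mem_AW B j _
    · show (B.presheaf.map (homOfLE h).op).hom (toB B (ap j W e)) ∈ AW B j W'
      have e1 : (B.presheaf.map (homOfLE h).op).hom (toB B (ap j W e)) =
          toB B (ap j W' (rF E h e)) := by
        rw [ap_rF, rF_eq]
      rw [e1]
      exact j_mem_AW B j _
  exact hle hc

set_option backward.isDefEq.respectTransparency false in
theorem AW_loc [E.IsQuasicoherent] {U : X.Opens} (hU : IsAffineOpen U) (f : Γ(X, U))
    {c : B.presheaf.obj (op (X.basicOpen f))} (hc : c ∈ AW B j (X.basicOpen f)) :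
    ∃ (n : ℕ) (a : B.presheaf.obj (op U)), a ∈ AW B j U ∧
      (B.presheaf.map (homOfLE (X.basicOpen_le f)).op).hom ((B.str.app (op U)).hom f) ^ n * c =
        (B.presheaf.map (homOfLE (X.basicOpen_le f)).op).hom a := by
  have hl : X.basicOpen f ≤ U := X.basicOpen_le f
  have LE := RelFPAff.locData (F := E) hU f (homOfLE hl) rfl
  have hσf : (B.str.app (op U)).hom f ∈ AW B j U := str_mem_AW B j f
  have hc' : c ∈ Subring.closure (Set.range (B.str.app (op (X.basicOpen f))).hom ∪
    Set.range (fun e : Γ(E, X.basicOpen f) => toB B (ap j (X.basicOpen f) e))) := hc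
  clear hc
  induction hc' using Subring.closure_induction with
  | mem x hx =>
    rcases hx with ⟨r', rfl⟩ | ⟨e', rfl⟩
    · obtain ⟨k, r, hr⟩ := SubExt.ring_surj_of_locData LE r'
      refine ⟨k, (B.str.app (op U)).hom r, str_mem_AW B j r, ?_⟩
      rw [str_res B hl f, str_res B hl r, ← map_pow, ← map_mul]
      exact congrArg _ hr
    · obtain ⟨k, e, he⟩ := LE.surj e'
      refine ⟨k, toB B (ap j U e), j_mem_AW B j e, ?_⟩
      have h1 : toB B (ap j (X.basicOpen f) (rX hl f ^ k • e')) =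
          toB B (ap j (X.basicOpen f) (rF E hl e)) := by rw [he]
      rw [ap_smul, smul_eq, ap_rF, rF_eq, map_pow] at h1
      rw [str_res B hl f]
      exact h1
  | zero => exact ⟨0, 0, Subring.zero_mem _, by simp⟩
  | one => exact ⟨0, 1, Subring.one_mem _, by simp⟩
  | add x y hx hy ihx ihy =>
    obtain ⟨n₁, a₁, ha₁, h₁⟩ := ihx
    obtain ⟨n₂, a₂, ha₂, h₂⟩ := ihy
    refine ⟨n₁ + n₂, (B.str.app (op U)).hom f ^ n₂ * a₁ + (B.str.app (op U)).hom f ^ n₁ * a₂,
      Subring.add_mem _ (Subring.mul_mem _ (Subring.pow_mem _ hσf _) ha₁)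
        (Subring.mul_mem _ (Subring.pow_mem _ hσf _) ha₂), ?_⟩
    rw [map_add, map_mul, map_mul, map_pow, map_pow, ← h₁, ← h₂]
    ring
  | neg x hx ih =>
    obtain ⟨n, a, ha, h⟩ := ih
    exact ⟨n, -a, Subring.neg_mem _ ha, by rw [map_neg, ← h, mul_neg]⟩
  | mul x y hx hy ihx ihy =>
    obtain ⟨n₁, a₁, ha₁, h₁⟩ := ihx
    obtain ⟨n₂, a₂, ha₂, h₂⟩ := ihy
    refine ⟨n₁ + n₂, a₁ * a₂, Subring.mul_mem _ ha₁ ha₂, ?_⟩
    rw [map_mul, ← h₁, ← h₂]
    ring

set_option backward.isDefEq.respectTransparency false in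
theorem AW_descend [E.IsQuasicoherent] {U : X.Opens} (hU : IsAffineOpen U) (f : Γ(X, U))
    (b : B.presheaf.obj (op U))
    (hb : (B.presheaf.map (homOfLE (X.basicOpen_le f)).op).hom b ∈ AW B j (X.basicOpen f)) :
    ∃ N : ℕ, (B.str.app (op U)).hom (f ^ N) * b ∈ AW B j U := by
  have hl : X.basicOpen f ≤ U := X.basicOpen_le f
  obtain ⟨n, a, ha, h⟩ := AW_loc B j hU f hb
  have LB := locOnU_toModule B hU f
  have hσf : (B.str.app (op U)).hom f ∈ AW B j U := str_mem_AW B j f
  have h0 : rF B.toModule hl (ofB B ((B.str.app (op U)).hom f ^ n * b - a)) = 0 := by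
    show (B.presheaf.map (homOfLE hl).op).hom ((B.str.app (op U)).hom f ^ n * b - a) = 0
    rw [map_sub, map_mul, map_pow, h, sub_self]
  obtain ⟨m, hm⟩ := LB.ker _ h0
  have hm' : (B.str.app (op U)).hom (f ^ m) * ((B.str.app (op U)).hom f ^ n * b - a) = 0 := hm
  refine ⟨m + n, ?_⟩
  have e1 : (B.str.app (op U)).hom (f ^ (m + n)) * b = (B.str.app (op U)).hom f ^ m * a := by
    rw [map_pow] at hm' ⊢
    rw [mul_sub, sub_eq_zero] at hm'
    rw [pow_add, mul_assoc]
    exact hm'
  rw [e1]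
  exact Subring.mul_mem _ (Subring.pow_mem _ hσf _) ha

set_option backward.isDefEq.respectTransparency false in
theorem AW_basicOpen_top {V : X.Opens} (hV : IsAffineOpen V) (g : Γ(X, V))
    (hVtop : AW B j V = ⊤) : AW B j (X.basicOpen g) = ⊤ := by
  have hl : X.basicOpen g ≤ V := X.basicOpen_le g
  have LB := locOnU_toModule B hV g
  rw [eq_top_iff]
  intro c _
  obtain ⟨n, b, hb⟩ := LB.surj (ofB B c)
  have hb' : (B.str.app (op (X.basicOpen g))).hom (rX hl g) ^ n * c =
      (B.presheaf.map (homOfLE hl).op).hom (toB B b) := by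
    have h1 : toB B (rX hl g ^ n • ofB B c) = toB B (rF B.toModule hl b) := hb
    rw [smul_eq, rF_eq, map_pow] at h1
    exact h1
  have hunit : IsUnit (rX hl g) := X.toRingedSpace.isUnit_res_basicOpen g
  obtain ⟨u, hu⟩ := hunit
  have hinv : (B.str.app (op (X.basicOpen g))).hom (rX hl g) *
      (B.str.app (op (X.basicOpen g))).hom ↑u⁻¹ = 1 := by
    rw [← map_mul, ← hu, Units.mul_inv, map_one]
  have hres : (B.presheaf.map (homOfLE hl).op).hom (toB B b) ∈ AW B j (X.basicOpen g) :=
    AW_res B j hl (by rw [hVtop]; trivial)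
  have hc : c = (B.presheaf.map (homOfLE hl).op).hom (toB B b) *
      (B.str.app (op (X.basicOpen g))).hom ↑u⁻¹ ^ n := by
    rw [← hb', mul_comm _ c, mul_assoc, ← mul_pow, hinv, one_pow, mul_one]
  rw [hc]
  exact Subring.mul_mem _ hres (Subring.pow_mem _ (str_mem_AW B j _) _)

theorem AW_top_of_cover [E.IsQuasicoherent] (𝒱 : Set X.Opens) (h𝒱 : ∀ V ∈ 𝒱, IsAffineOpen V)
    (hcov : ∀ x : X, ∃ V ∈ 𝒱, x ∈ V) (htop : ∀ V ∈ 𝒱, AW B j V = ⊤) {U : X.Opens}
    (hU : IsAffineOpen U) : AW B j U = ⊤ := by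
  rw [eq_top_iff]
  intro b _
  let I : Ideal Γ(X, U) :=
    { carrier := {r | (B.str.app (op U)).hom r * b ∈ AW B j U}
      add_mem' := fun {r s} hr hs => by
        show (B.str.app (op U)).hom (r + s) * b ∈ AW B j U
        rw [map_add, add_mul]
        exact Subring.add_mem _ hr hs
      zero_mem' := by
        show (B.str.app (op U)).hom 0 * b ∈ AW B j U
        rw [map_zero, zero_mul]
        exact Subring.zero_mem _
      smul_mem' := fun c r hr => by
        show (B.str.app (op U)).hom (c • r) * b ∈ AW B j U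
        rw [smul_eq_mul, map_mul, mul_assoc]
        exact Subring.mul_mem _ (str_mem_AW B j c) hr }
  have hI : I = ⊤ := by
    have hspan : Ideal.span (I : Set Γ(X, U)) = ⊤ := by
      rw [← hU.self_le_iSup_basicOpen_iff]
      intro x hxU
      obtain ⟨V, hV𝒱, hxV⟩ := hcov x
      obtain ⟨f, g, hfg, hxf⟩ := exists_basicOpen_le_affine_inter hU (h𝒱 V hV𝒱) x ⟨hxU, hxV⟩
      have h1 : AW B j (X.basicOpen g) = ⊤ := AW_basicOpen_top B j (h𝒱 V hV𝒱) g (htop V hV𝒱)
      have h2 : AW B j (X.basicOpen f) = ⊤ := by rw [hfg]; exact h1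
      obtain ⟨N, hN⟩ := AW_descend B j hU f b (by rw [h2]; trivial)
      have hfN : f ^ N ∈ I := hN
      have hfN' : f ^ (N + 1) ∈ I := by
        rw [pow_succ']
        exact I.mul_mem_left f hfN
      refine Opens.mem_iSup.mpr ⟨⟨f ^ (N + 1), hfN'⟩, ?_⟩
      show x ∈ X.basicOpen (f ^ (N + 1))
      rw [X.basicOpen_pow f (Nat.succ_pos N)]
      exact hxf
    rwa [Ideal.span_eq] at hspan
  have h1 : (B.str.app (op U)).hom 1 * b ∈ AW B j U := by
    have : (1 : Γ(X, U)) ∈ I := by rw [hI]; trivial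
    exact this
  rwa [map_one, one_mul] at h1

end Gen

theorem closure_top_of_finiteType {R S : Type u} [CommRing R] [CommRing S] (σ : R →+* S)
    (h : σ.FiniteType) : ∃ T : Finset S, Subring.closure (Set.range σ ∪ (T : Set S)) = ⊤ := by
  letI := σ.toAlgebra
  obtain ⟨T, hT⟩ := (show Algebra.FiniteType R S from h).out
  refine ⟨T, ?_⟩
  have h1 := Algebra.adjoin_eq_ring_closure (R := R) (T : Set S)
  rw [hT] at h1
  have e : algebraMap R S = σ := RingHom.algebraMap_toAlgebra σ
  rw [e] at h1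
  exact h1.symm.trans Algebra.top_toSubring

/-- EGA I 9.6.5 with `AW`. -/
theorem exists_gen_sub [CompactSpace X] [QuasiSeparatedSpace X]
    (hB : ∀ U : X.affineOpens, (B.str.app (op (U : X.Opens))).hom.FiniteType) :
    ∃ (E : X.Modules) (j : E ⟶ B.toModule), Mono j ∧ E.IsQuasicoherent ∧
      SheafOfModules.IsFiniteType (R := X.ringCatSheaf) E ∧
      ∀ U : X.affineOpens, AW B j (U : X.Opens) = ⊤ := by
  classical
  haveI : B.toModule.IsQuasicoherent := isQuasicoherent_toModule B
  choose T hT using fun V : X.affineOpens =>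
    closure_top_of_finiteType (B.str.app (op (V : X.Opens))).hom (hB V)
  obtain ⟨t, ht⟩ := isCompact_univ.elim_finite_subcover
    (fun V : X.affineOpens => ((V : X.Opens) : Set X)) (fun V => (V : X.Opens).2) (fun x _ => by
      have hx : x ∈ (⨆ V : X.affineOpens, (V : X.Opens)) := by
        rw [iSup_affineOpens_eq_top]; trivial
      obtain ⟨V, hV⟩ := Opens.mem_iSup.mp hx
      exact Set.mem_iUnion.mpr ⟨V, hV⟩)
  let L : List (Σ U : X.affineOpens, Γ(B.toModule, (U : X.Opens))) :=
    t.toList.flatMap (fun V => (T V).toList.map (fun b => ⟨V, ofB B b⟩))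
  obtain ⟨E, j, hj, hE, hft, hL⟩ := exists_ft_sub_family B.toModule L
  haveI := hE
  refine ⟨E, j, hj, hE, hft, fun U => ?_⟩
  refine AW_top_of_cover B j {V | ∃ V' ∈ t, (V' : X.Opens) = V} ?_ ?_ ?_ U.2
  · rintro V ⟨V', -, rfl⟩
    exact V'.2
  · intro x
    obtain ⟨V, hVt, hxV⟩ := Set.mem_iUnion₂.mp (ht (Set.mem_univ x))
    exact ⟨V, ⟨V, hVt, rfl⟩, hxV⟩
  · rintro V ⟨V', hV't, rfl⟩
    rw [eq_top_iff, ← hT V']
    refine Subring.closure_mono (Set.union_subset_union_right _ ?_)
    intro b hb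
    obtain ⟨g, hg⟩ := hL ⟨V', ofB B b⟩ (List.mem_flatMap.mpr ⟨V', Finset.mem_toList.mpr hV't,
      List.mem_map.mpr ⟨b, Finset.mem_toList.mpr (Finset.mem_coe.mp hb), rfl⟩⟩)
    exact ⟨g, hg⟩

set_option backward.isDefEq.respectTransparency false in
/-- **EGA I 9.6.5**, in the form of the statements S4353/S4354. -/
theorem main [CompactSpace X] [QuasiSeparatedSpace X]
    (hB : ∀ U : X.affineOpens, (B.str.app (op (U : X.Opens))).hom.FiniteType) :
    ∃ (E : X.Modules) (j : E ⟶ B.toModule), Mono j ∧ Coh.IsQCoh E ∧ CohB1.IsFT E ∧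
      ∀ U : X.affineOpens,
        Subring.closure (Set.range (B.str.app (op (U : X.Opens))).hom ∪
          Set.range (fun e : E.val.obj (op (U : X.Opens)) ↦
            (show B.presheaf.obj (op (U : X.Opens)) from
              (j.val.app (op (U : X.Opens))).hom e))) = ⊤ := by
  obtain ⟨E, j, hj, hE, hft, h⟩ := exists_gen_sub B hB
  exact ⟨E, j, hj, hE, hft, fun U => h U⟩

end QCAlgMod
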