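import Mathlib
import Groth.Prelude.Def_Coh
import Groth.Prelude.Def_CohTop
import Groth.Agent.Lib.FlasqueAcyclic_helper2
import Groth.Agent.Lib.QCAlgMod_helper9

/-!
# Vanishing of the cohomology of quasi-coherent modules over affine opens

For a scheme `X`, we consider the class `MV` of abelian sheaves `F` on `X` such that for every
affine open `U` and `f, g ∈ Γ(X, U)` generating the unit ideal, every section of `F` over
`D(f) ∩ D(g)` is a difference of sections over `D(f)` and `D(g)`.  This class contains the flasque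
sheaves and the quasi-coherent modules, is stable under cokernels of monomorphisms, and sections
over affine opens lift along epimorphisms with kernel in the class.  By dimension shifting
(`ext_eq_zero_of_class`, helper2) the higher cohomology over affine opens of sheaves in `MV`
vanishes.

* `AffVanish.ext_eq_zero_of_MV`
* `AffVanish.HH_subsingleton_of_isAffine` (Serre vanishing on affine schemes).
-/

universe u

open CategoryTheory CategoryTheory.Limits AlgebraicGeometry Opposite TopologicalSpace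
open Groth.Agent.Lib.QCohLoc_helper4 QcqsLoc QCohExtn

namespace AffVanish

section Top

variable {Y : TopCat.{u}}

/-- Sections of an abelian sheaf. -/
abbrev Sec (F : TopCat.Sheaf AddCommGrpCat.{u} Y) (U : Opens Y) : Type u := ↑(F.obj.obj (op U))

/-- Restriction of sections. -/
abbrev rs (F : TopCat.Sheaf AddCommGrpCat.{u} Y) {V W : Opens Y} (h : V ≤ W) : Sec F W →+ Sec F V :=
  (F.obj.map (homOfLE h).op).hom

/-- A morphism on sections. -/
abbrev apS {F G : TopCat.Sheaf AddCommGrpCat.{u} Y} (φ : F ⟶ G) (U : Opens Y) : Sec F U →+ Sec G U :=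
  (φ.hom.app (op U)).hom

variable (F : TopCat.Sheaf AddCommGrpCat.{u} Y)

theorem rs_rs {U V W : Opens Y} (h₁ : U ≤ V) (h₂ : V ≤ W) (s : Sec F W) :
    rs F h₁ (rs F h₂ s) = rs F (h₁.trans h₂) s := by
  show (F.obj.map (homOfLE h₂).op ≫ F.obj.map (homOfLE h₁).op).hom s = _
  rw [← F.obj.map_comp]
  rfl

theorem rs_self {W : Opens Y} (h : W ≤ W) (s : Sec F W) : rs F h s = s := by
  have e : (homOfLE h).op = 𝟙 (op W) := rfl
  show (F.obj.map (homOfLE h).op).hom s = s
  rw [e, F.obj.map_id]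
  rfl

variable {F}

theorem ap_rs {G : TopCat.Sheaf AddCommGrpCat.{u} Y} (φ : F ⟶ G) {V W : Opens Y} (h : V ≤ W)
    (s : Sec F W) : apS φ V (rs F h s) = rs G h (apS φ W s) := by
  have hn := φ.hom.naturality (homOfLE h).op
  show (F.obj.map (homOfLE h).op ≫ φ.hom.app (op V)).hom s =
    (φ.hom.app (op W) ≫ G.obj.map (homOfLE h).op).hom s
  rw [hn]

variable (F)

/-- Sections over the empty open are unique. -/
theorem eq_of_bot {V : Opens Y} (hV : V = ⊥) (s t : Sec F V) : s = t :=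
  TopCat.Sheaf.eq_of_locally_eq' F (fun i : PEmpty.{1} => (i.elim : Opens Y)) V (fun i => i.elim)
    (by rw [hV]; exact bot_le) s t (fun i => i.elim)

/-- Equality of sections can be checked on a cover by two opens. -/
theorem eq_of_cover₂ {A B V : Opens Y} (hA : A ≤ V) (hB : B ≤ V) (hV : V ≤ A ⊔ B) (s t : Sec F V)
    (h₁ : rs F hA s = rs F hA t) (h₂ : rs F hB s = rs F hB t) : s = t :=
  TopCat.Sheaf.eq_of_locally_eq₂ F (homOfLE hA) (homOfLE hB) hV s t h₁ h₂

/-- Gluing two sections. -/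
theorem glue₂ {A B V : Opens Y} (hA : A ≤ V) (hB : B ≤ V) (hV : V ≤ A ⊔ B) (a : Sec F A)
    (b : Sec F B)
    (hab : rs F (inf_le_left : A ⊓ B ≤ A) a = rs F (inf_le_right : A ⊓ B ≤ B) b) :
    ∃ s : Sec F V, rs F hA s = a ∧ rs F hB s = b := by
  let U : Bool → Opens Y := fun i => cond i A B
  let sf : ∀ i : Bool, ToType (F.1.obj (op (U i))) := fun i =>
    match i with
    | true => a
    | false => b
  have hUV : ∀ i, U i ≤ V := fun i => by cases i; exact hB; exact hA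
  have hcov : V ≤ iSup U := hV.trans (sup_le (le_iSup U true) (le_iSup U false))
  have hcompat : TopCat.Presheaf.IsCompatible F.1 U sf := by
    rintro (_ | _) (_ | _)
    · rfl
    · have h1 := congrArg (rs F (le_of_eq (inf_comm B A) : B ⊓ A ≤ A ⊓ B)) hab
      rw [rs_rs, rs_rs] at h1
      exact h1.symm
    · exact hab
    · rfl
  obtain ⟨s, hs, -⟩ := TopCat.Sheaf.existsUnique_gluing' F U V (fun i => homOfLE (hUV i)) hcov sf
    hcompat
  exact ⟨s, hs true, hs false⟩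

variable {F}

/-- Local lifting along an epimorphism of abelian sheaves. -/
theorem exists_local_lift {G : TopCat.Sheaf AddCommGrpCat.{u} Y} (φ : F ⟶ G) [Epi φ]
    {U : Opens Y} (s : Sec G U) (x : Y) (hx : x ∈ U) :
    ∃ (W : Opens Y) (hW : W ≤ U), x ∈ W ∧ ∃ t : Sec F W, apS φ W t = rs G hW s := by
  have h1 := (TopCat.Sheaf.isLocallySurjective_iff_epi φ).mpr inferInstance
  obtain ⟨W, hW, ⟨t, ht⟩, hxW⟩ := (TopCat.Presheaf.isLocallySurjective_iff φ.hom).mp h1 U s x hx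
  exact ⟨W, hW, hxW, t, ht⟩

theorem fg_zero (S : ShortComplex (TopCat.Sheaf AddCommGrpCat.{u} Y)) (W : Opens Y)
    (a : Sec S.X₁ W) : apS S.g W (apS S.f W a) = 0 := by
  have h := congrArg (fun ψ : S.X₁ ⟶ S.X₃ => (ψ.hom.app (op W)).hom a) S.zero
  exact h

end Top

section Scheme

variable {X : Scheme.{u}}

/-- The Mayer–Vietoris class. -/
def MV (F : TopCat.Sheaf AddCommGrpCat.{u} X.carrier) : Prop :=
  ∀ (U : X.Opens), IsAffineOpen U → ∀ (f g : Γ(X, U)), Ideal.span {f, g} = ⊤ →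
    ∀ s : Sec F (X.basicOpen f ⊓ X.basicOpen g),
      ∃ (a : Sec F (X.basicOpen f)) (b : Sec F (X.basicOpen g)),
        rs F inf_le_left a - rs F inf_le_right b = s

variable {S : ShortComplex (TopCat.Sheaf AddCommGrpCat.{u} X.carrier)}

theorem lift_of_bot_eq_top (V : X.Opens) (c : Sec S.X₃ V)
    (h : (⊥ : Ideal Γ(X, V)) = ⊤) : ∃ y : Sec S.X₂ V, apS S.g V y = c := by
  have h10 : (1 : Γ(X, V)) = 0 := by
    have : (1 : Γ(X, V)) ∈ (⊥ : Ideal Γ(X, V)) := by rw [h]; trivial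
    exact this
  have hV : V = ⊥ := by
    have e1 : X.basicOpen (1 : Γ(X, V)) = V := X.basicOpen_of_isUnit isUnit_one
    rw [h10, X.basicOpen_zero] at e1
    exact e1.symm
  exact ⟨0, eq_of_bot S.X₃ hV _ _⟩

theorem lift_fin (hS : S.ShortExact) (h1 : MV S.X₁) :
    ∀ (n : ℕ) (V : X.Opens), IsAffineOpen V → ∀ (c : Sec S.X₃ V) (t : Finset Γ(X, V)),
      t.card ≤ n → Ideal.span (t : Set Γ(X, V)) = ⊤ →
      (∀ h ∈ t, ∃ y : Sec S.X₂ (X.basicOpen h),
        apS S.g (X.basicOpen h) y = rs S.X₃ (X.basicOpen_le h) c) →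
      ∃ y : Sec S.X₂ V, apS S.g V y = c := by
  classical
  intro n
  induction n with
  | zero =>
    intro V hV c t ht hspan _
    have ht0 : t = ∅ := Finset.card_eq_zero.mp (Nat.le_zero.mp ht)
    rw [ht0, Finset.coe_empty, Ideal.span_empty] at hspan
    exact lift_of_bot_eq_top V c hspan
  | succ n ih =>
    intro V hV c t ht hspan hloc
    by_cases ht0 : t = ∅
    · rw [ht0, Finset.coe_empty, Ideal.span_empty] at hspan
      exact lift_of_bot_eq_top V c hspan
    obtain ⟨f₁, hf₁⟩ := Finset.nonempty_iff_ne_empty.mpr ht0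
    let t' := t.erase f₁
    have hcoe : (t : Set Γ(X, V)) = insert f₁ (t' : Set Γ(X, V)) := by
      rw [← Finset.coe_insert, Finset.insert_erase hf₁]
    have h1mem : (1 : Γ(X, V)) ∈ Ideal.span (insert f₁ (t' : Set Γ(X, V))) := by
      rw [← hcoe, hspan]; trivial
    obtain ⟨a, z, hz, h1az⟩ := Ideal.mem_span_insert.mp h1mem
    have hle : X.basicOpen z ≤ V := X.basicOpen_le z
    have hVz : IsAffineOpen (X.basicOpen z) := hV.basicOpen z
    let t'' : Finset Γ(X, X.basicOpen z) := t'.image (rX hle)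
    have hcard : t''.card ≤ n := by
      have h2 : t''.card ≤ t'.card := Finset.card_image_le
      have h3 : t'.card = t.card - 1 := Finset.card_erase_of_mem hf₁
      omega
    have hunit : IsUnit (rX hle z) := X.toRingedSpace.isUnit_res_basicOpen z
    have hz' : rX hle z ∈ Ideal.span (t'' : Set Γ(X, X.basicOpen z)) := by
      rw [Finset.coe_image, ← Ideal.map_span]
      exact Ideal.mem_map_of_mem (rX hle) hz
    have hspan'' : Ideal.span (t'' : Set Γ(X, X.basicOpen z)) = ⊤ :=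
      Ideal.eq_top_of_isUnit_mem _ hz' hunit
    have hloc'' : ∀ h ∈ t'', ∃ y : Sec S.X₂ (X.basicOpen h),
        apS S.g (X.basicOpen h) y = rs S.X₃ (X.basicOpen_le h) (rs S.X₃ hle c) := by
      intro h' hh'
      obtain ⟨h, hh, rfl⟩ := Finset.mem_image.mp hh'
      obtain ⟨y, hy⟩ := hloc h (Finset.mem_of_mem_erase hh)
      have hle' : X.basicOpen (rX hle h) ≤ X.basicOpen h := by
        rw [basicOpen_rX]; exact inf_le_right
      refine ⟨rs S.X₂ hle' y, ?_⟩
      rw [ap_rs, hy, rs_rs, rs_rs]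
    obtain ⟨yz, hyz⟩ := ih (X.basicOpen z) hVz (rs S.X₃ hle c) t'' hcard hspan'' hloc''
    obtain ⟨y₁, hy₁⟩ := hloc f₁ hf₁
    have hA : X.basicOpen f₁ ≤ V := X.basicOpen_le f₁
    -- the difference on the intersection
    have hd : apS S.g (X.basicOpen f₁ ⊓ X.basicOpen z)
        (rs S.X₂ inf_le_left y₁ - rs S.X₂ inf_le_right yz) = 0 := by
      rw [map_sub, ap_rs, ap_rs, hy₁, hyz, rs_rs, rs_rs, sub_self]
    obtain ⟨m', hm'⟩ := TopCat.Sheaf.sections_exact_of_left_exact hS.exact hS.mono_f _ hd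
    have hm'' : apS S.f (X.basicOpen f₁ ⊓ X.basicOpen z) m' =
        rs S.X₂ inf_le_left y₁ - rs S.X₂ inf_le_right yz := hm'
    have hspan2 : Ideal.span ({f₁, z} : Set Γ(X, V)) = ⊤ :=
      (Ideal.eq_top_iff_one _).mpr (Ideal.mem_span_pair.mpr ⟨a, 1, by rw [one_mul]; exact h1az.symm⟩)
    obtain ⟨a', b', hab⟩ := h1 V hV f₁ z hspan2 m'
    have hcompat : rs S.X₂ (inf_le_left : X.basicOpen f₁ ⊓ X.basicOpen z ≤ X.basicOpen f₁)
        (y₁ - apS S.f _ a') =
        rs S.X₂ (inf_le_right : X.basicOpen f₁ ⊓ X.basicOpen z ≤ X.basicOpen z)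
          (yz - apS S.f _ b') := by
      rw [map_sub, map_sub, ← ap_rs, ← ap_rs]
      apply sub_eq_sub_iff_sub_eq_sub.mpr
      rw [← hm'', ← hab, map_sub]
    have hcov : V ≤ X.basicOpen f₁ ⊔ X.basicOpen z := by
      have h3 := hV.self_le_iSup_basicOpen_iff.mpr hspan2
      refine h3.trans (iSup_le ?_)
      rintro ⟨f, hf⟩
      rcases hf with rfl | hf
      · exact le_sup_left
      · have hfz : f = z := Set.mem_singleton_iff.mp hf
        subst hfz
        exact le_sup_right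
    obtain ⟨y, hyA, hyB⟩ := glue₂ S.X₂ hA hle hcov _ _ hcompat
    refine ⟨y, eq_of_cover₂ S.X₃ hA hle hcov _ _ ?_ ?_⟩
    · rw [← ap_rs, hyA, map_sub, fg_zero, sub_zero, hy₁]
    · rw [← ap_rs, hyB, map_sub, fg_zero, sub_zero, hyz]

/-- Sections over affine opens lift along an epimorphism whose kernel is in the class `MV`. -/
theorem surj_of_MV (hS : S.ShortExact) (h1 : MV S.X₁) {V : X.Opens} (hV : IsAffineOpen V)
    (c : Sec S.X₃ V) : ∃ y : Sec S.X₂ V, apS S.g V y = c := by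
  haveI := hS.epi_g
  let 𝒢 : Set Γ(X, V) := {h | ∃ y : Sec S.X₂ (X.basicOpen h),
    apS S.g (X.basicOpen h) y = rs S.X₃ (X.basicOpen_le h) c}
  have hspan : Ideal.span 𝒢 = ⊤ := by
    rw [← hV.self_le_iSup_basicOpen_iff]
    intro x hxV
    obtain ⟨W, hW, hxW, y, hy⟩ := exists_local_lift S.g c x hxV
    obtain ⟨h, hhW, hxh⟩ := hV.exists_basicOpen_le (V := W) ⟨x, hxW⟩ hxV
    refine Opens.mem_iSup.mpr ⟨⟨h, rs S.X₂ hhW y, ?_⟩, hxh⟩
    rw [ap_rs, hy, rs_rs]
  obtain ⟨t, ht𝒢, htspan⟩ := (Ideal.span_eq_top_iff_finite _).mp hspan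
  exact lift_fin hS h1 t.card V hV c t le_rfl htspan (fun h hh => ht𝒢 hh)

theorem MV_X₃ (hS : S.ShortExact) (h1 : MV S.X₁) (h2 : MV S.X₂) : MV S.X₃ := by
  intro U hU f g hfg s
  have haff : IsAffineOpen (X.basicOpen f ⊓ X.basicOpen g) := by
    rw [← X.basicOpen_mul]
    exact hU.basicOpen (f * g)
  obtain ⟨y, hy⟩ := surj_of_MV hS h1 haff s
  obtain ⟨a, b, hab⟩ := h2 U hU f g hfg y
  refine ⟨apS S.g _ a, apS S.g _ b, ?_⟩
  rw [← ap_rs, ← ap_rs, ← map_sub, hab, hy]

theorem MV_of_isFlasque (F : TopCat.Sheaf AddCommGrpCat.{u} X.carrier)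
    [TopCat.Sheaf.IsFlasque F] : MV F := by
  intro U hU f g hfg s
  have hepi : Epi (F.obj.map (homOfLE
      (inf_le_left : X.basicOpen f ⊓ X.basicOpen g ≤ X.basicOpen f)).op) :=
    TopCat.Presheaf.IsFlasque.epi (F := F.obj) _
  obtain ⟨a, ha⟩ := (AddCommGrpCat.epi_iff_surjective (F.obj.map (homOfLE
    (inf_le_left : X.basicOpen f ⊓ X.basicOpen g ≤ X.basicOpen f)).op)).mp hepi s
  exact ⟨a, 0, by rw [map_zero, sub_zero]; exact ha⟩

set_option backward.isDefEq.respectTransparency false in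
theorem mv_qcoh (M : X.Modules) [M.IsQuasicoherent] {U : X.Opens} (hU : IsAffineOpen U)
    (f g : Γ(X, U)) (hfg : Ideal.span ({f, g} : Set Γ(X, U)) = ⊤)
    (s : Γ(M, X.basicOpen f ⊓ X.basicOpen g)) :
    ∃ (a : Γ(M, X.basicOpen f)) (b : Γ(M, X.basicOpen g)),
      rF M (inf_le_left : X.basicOpen f ⊓ X.basicOpen g ≤ X.basicOpen f) a -
        rF M (inf_le_right : X.basicOpen f ⊓ X.basicOpen g ≤ X.basicOpen g) b = s := by
  have hAU : X.basicOpen f ≤ U := X.basicOpen_le f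
  have hBU : X.basicOpen g ≤ U := X.basicOpen_le g
  have hWA : X.basicOpen f ⊓ X.basicOpen g ≤ X.basicOpen f := inf_le_left
  have hWB : X.basicOpen f ⊓ X.basicOpen g ≤ X.basicOpen g := inf_le_right
  have hWU : X.basicOpen f ⊓ X.basicOpen g ≤ U := hWA.trans hAU
  have LD := RelFPAff.locData (F := M) hU (f * g) (homOfLE hWU) (X.basicOpen_mul f g).symm
  obtain ⟨N, m, hm⟩ := LD.surj s
  have hm' : rF M hWU m = rX hWU (f * g) ^ N • s := hm.symm
  have hpow : Ideal.span ({f ^ N, g ^ N} : Set Γ(X, U)) = ⊤ := by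
    have h3 := Ideal.span_pow_eq_top _ hfg N
    rwa [Set.image_pair] at h3
  obtain ⟨α, β, hαβ⟩ := Ideal.mem_span_pair.mp
    (show (1 : Γ(X, U)) ∈ Ideal.span ({f ^ N, g ^ N} : Set Γ(X, U)) by rw [hpow]; trivial)
  have hunitf : IsUnit (rX hAU f) := X.toRingedSpace.isUnit_res_basicOpen f
  have hunitg : IsUnit (rX hBU g) := X.toRingedSpace.isUnit_res_basicOpen g
  obtain ⟨uf, huf⟩ := hunitf
  obtain ⟨ug, hug⟩ := hunitg
  have e1 : rX hWA ↑uf⁻¹ * rX hWU f = 1 := by
    rw [← rX_rX hWA hAU f, ← map_mul, ← huf, Units.inv_mul, map_one]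
  have e2 : rX hWB ↑ug⁻¹ * rX hWU g = 1 := by
    rw [← rX_rX hWB hBU g, ← map_mul, ← hug, Units.inv_mul, map_one]
  have e3 : rX hWU α * rX hWU f ^ N + rX hWU β * rX hWU g ^ N = 1 := by
    rw [← map_pow, ← map_pow, ← map_mul, ← map_mul, ← map_add, hαβ, map_one]
  have key : (rX hWA ↑uf⁻¹ ^ N * rX hWU β + rX hWB ↑ug⁻¹ ^ N * rX hWU α) *
      (rX hWU f * rX hWU g) ^ N = 1 := by
    calc (rX hWA ↑uf⁻¹ ^ N * rX hWU β + rX hWB ↑ug⁻¹ ^ N * rX hWU α) *
        (rX hWU f * rX hWU g) ^ N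
        = rX hWU β * (rX hWA ↑uf⁻¹ * rX hWU f) ^ N * rX hWU g ^ N +
          rX hWU α * (rX hWB ↑ug⁻¹ * rX hWU g) ^ N * rX hWU f ^ N := by ring
      _ = 1 := by
        rw [e1, e2, one_pow, mul_one, mul_one, add_comm]
        exact e3
  refine ⟨(↑uf⁻¹ ^ N * rX hAU β) • rF M hAU m, -((↑ug⁻¹ ^ N * rX hBU α) • rF M hBU m), ?_⟩
  have ea : rX hWA (↑uf⁻¹ ^ N * rX hAU β) = rX hWA ↑uf⁻¹ ^ N * rX hWU β := by
    rw [map_mul, map_pow, rX_rX]
  have eb : rX hWB (↑ug⁻¹ ^ N * rX hBU α) = rX hWB ↑ug⁻¹ ^ N * rX hWU α := by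
    rw [map_mul, map_pow, rX_rX]
  have ma : rF M hWA (rF M hAU m) = rF M hWU m := rF_rF M hWA hAU m
  have mb : rF M hWB (rF M hBU m) = rF M hWU m := rF_rF M hWB hBU m
  rw [map_neg, sub_neg_eq_add, rF_smul, rF_smul, ea, eb, ma, mb, hm', ← mul_smul, ← mul_smul,
    ← add_smul, ← add_mul, map_mul, key, one_smul]

set_option backward.isDefEq.respectTransparency false in
theorem MV_toAb (M : X.Modules) [M.IsQuasicoherent] : MV (Coh.toAb M) := by
  intro U hU f g hfg s
  obtain ⟨a, b, hab⟩ := mv_qcoh M hU f g hfg s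
  exact ⟨a, b, hab⟩

/-- Vanishing of `Ext^{n+1}(G, F)` for `F` in the class `MV`, when `Hom(G, -)` is computed by
sections over an affine open `U`. -/
theorem ext_eq_zero_of_MV (G : TopCat.Sheaf AddCommGrpCat.{u} X.carrier) (U : X.Opens)
    (hU : IsAffineOpen U)
    (e : ∀ F : TopCat.Sheaf AddCommGrpCat.{u} X.carrier, (G ⟶ F) ≃ Sec F U)
    (he : ∀ {F F' : TopCat.Sheaf AddCommGrpCat.{u} X.carrier} (f : G ⟶ F) (φ : F ⟶ F'),
      e F' (f ≫ φ) = apS φ U (e F f))
    (F : TopCat.Sheaf AddCommGrpCat.{u} X.carrier) (hF : MV F) (n : ℕ)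
    (ξ : Abelian.Ext G F (n + 1)) : ξ = 0 := by
  refine Groth.Agent.Lib.ExtAcyclic.ext_eq_zero_of_class G MV ?_ ?_ ?_ n F hF ξ
  · intro I hI
    haveI : TopCat.Sheaf.IsFlasque I :=
      @Groth.Agent.Lib.FlasqueAcyclic.isFlasque_of_injective X.carrier I hI
    exact MV_of_isFlasque I
  · intro S hS h1 h2
    exact MV_X₃ hS h1 h2
  · intro S hS h1 φ
    obtain ⟨t, ht⟩ := surj_of_MV hS h1 hU (e S.X₃ φ)
    refine ⟨(e S.X₂).symm t, ?_⟩
    apply (e S.X₃).injective
    rw [he, Equiv.apply_symm_apply]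
    exact ht

/-- Vanishing of `H'^{n+1}(U, F)` for `U` affine and `F` in the class `MV`. -/
theorem ext_freeSheaf_eq_zero_of_MV (F : TopCat.Sheaf AddCommGrpCat.{u} X.carrier) (hF : MV F)
    (U : X.Opens) (hU : IsAffineOpen U) (n : ℕ)
    (ξ : Abelian.Ext (Groth.Agent.Lib.FreeSheaf.freeSheaf (Opens.grothendieckTopology X) U) F
      (n + 1)) : ξ = 0 :=
  ext_eq_zero_of_MV _ U hU (fun F => Groth.Agent.Lib.FreeSheaf.freeSheafHomEquiv _ U F)
    (fun f φ => Groth.Agent.Lib.FreeSheaf.freeSheafHomEquiv_comp _ U f φ) F hF n ξ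

/-- **Serre vanishing** on affine schemes. -/
theorem HH_subsingleton_of_isAffine (X : Scheme.{u}) [IsAffine X] (M : X.Modules)
    [M.IsQuasicoherent] (n : ℕ) : Subsingleton (Coh.HH X M (n + 1)) := by
  refine ⟨fun a b => ?_⟩
  have h : ∀ ξ : Coh.HH X M (n + 1), ξ = 0 := fun ξ =>
    ext_eq_zero_of_MV _ ⊤ (isAffineOpen_top X)
      (fun F => Groth.Agent.Lib.FlasqueAcyclic.constEquiv F)
      (fun f φ => Groth.Agent.Lib.FlasqueAcyclic.constEquiv_comp f φ) (Coh.toAb M) (MV_toAb M) n ξ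
  exact (h a).trans (h b).symm

end Scheme

end AffVanish
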