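import Mathlib
import Groth.Prelude.Def_Coh
import Groth.Agent.Lib.LSub_helper9
import Groth.Agent.Lib.QCohExact_helper9
import Groth.Agent.Lib.SubExt_helper9
import Groth.Agent.Lib.AffVanish_helper9

/-!
# Serre's affineness criterion, part 1

* the structure sheaf is quasi-coherent (`isQuasicoherent_OO`);
* `VZ H e Z`: sections of `H` whose image under `e : H ⟶ O_X` vanishes at all points of `Z`;
  quasi-coherent when `H` is;
* `SurjHyp X`: global sections are right exact on subsheaves of `O_X^n`;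
* `exists_basicOpen`: under `SurjHyp`, closed points have neighbourhoods of the form `X_f` inside
  any given open.
-/

universe u

open CategoryTheory CategoryTheory.Limits AlgebraicGeometry Opposite TopologicalSpace
open Groth.Agent.Lib.QCohLoc_helper4 QcqsLoc QCohExtn
open scoped ZeroObject

namespace SerreCrit

variable {X : Scheme.{u}}

/-- The structure sheaf as a module. -/
noncomputable abbrev OO (X : Scheme.{u}) : X.Modules := Coh.structureModule X

/-- Sections of `O_X` as functions. -/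
abbrev toFn {W : X.Opens} (s : Γ(OO X, W)) : Γ(X, W) := s

/-- Functions as sections of `O_X`. -/
abbrev ofFn {W : X.Opens} (a : Γ(X, W)) : Γ(OO X, W) := a

theorem smul_eq {W : X.Opens} (r : Γ(X, W)) (m : Γ(OO X, W)) :
    toFn (r • m) = r * toFn m := rfl

theorem rF_eq {W' W : X.Opens} (h : W' ≤ W) (m : Γ(OO X, W)) :
    toFn (rF (OO X) h m) = rX h (toFn m) := rfl

theorem add_eq {W : X.Opens} (m m' : Γ(OO X, W)) : toFn (m + m') = toFn m + toFn m' := rfl

set_option backward.isDefEq.respectTransparency false in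
theorem locOnU_OO {U : X.Opens} (hU : IsAffineOpen U) : QCohCrit.LocOnU (OO X) U := by
  intro a
  have hl : X.basicOpen a ≤ U := X.basicOpen_le a
  letI alg : Algebra Γ(X, U) Γ(X, X.basicOpen a) :=
    (X.presheaf.map (homOfLE hl).op).hom.toAlgebra
  haveI hloc : IsLocalization.Away a Γ(X, X.basicOpen a) := hU.isLocalization_basicOpen a
  refine ⟨hU.isLocalization_basicOpen a, fun x m => Scheme.Modules.map_smul _ _ x m, ?_, ?_⟩
  · intro m'
    obtain ⟨n, b, hb⟩ := IsLocalization.Away.surj a (toFn m')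
    refine ⟨n, ofFn b, ?_⟩
    show rX hl a ^ n * toFn m' = rX hl b
    rw [mul_comm]
    exact hb
  · intro m hm
    have h0 : algebraMap Γ(X, U) Γ(X, X.basicOpen a) (toFn m) =
        algebraMap Γ(X, U) Γ(X, X.basicOpen a) 0 := by
      rw [map_zero]
      exact hm
    obtain ⟨n, hn⟩ := IsLocalization.Away.exists_of_eq a h0
    refine ⟨n, ?_⟩
    show a ^ n * toFn m = 0
    rw [hn, mul_zero]

theorem isQuasicoherent_OO : (OO X).IsQuasicoherent :=
  QCohCrit.isQuasicoherent_of_locOnU _ (fun U => locOnU_OO U.2)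

instance : (OO X).IsQuasicoherent := isQuasicoherent_OO

section VZ

variable (H : X.Modules) (e : H ⟶ OO X) (Z : Set X)

/-- Sections of `H` whose image under `e` vanishes at all points of `Z`. -/
noncomputable def VZ : LSub H where
  carrier W :=
    { carrier := {s | ∀ z ∈ Z, z ∉ X.basicOpen (toFn (ap e W s))}
      add_mem' := by
        intro a b ha hb z hz hzab
        have h1 : z ∈ X.basicOpen (toFn (ap e W a) + toFn (ap e W b)) := by
          rw [← add_eq, ← map_add]
          exact hzab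
        rcases X.basicOpen_add_le _ _ h1 with h | h
        · exact ha z hz h
        · exact hb z hz h
      zero_mem' := by
        intro z hz h
        have h1 : z ∈ X.basicOpen (0 : Γ(X, W)) := by
          have e0 : toFn (ap e W 0) = 0 := map_zero _
          rw [← e0]
          exact h
        rw [Scheme.basicOpen_zero] at h1
        exact absurd h1 (Set.notMem_empty z)
      smul_mem' := by
        intro r a ha z hz h
        have h1 : z ∈ X.basicOpen (r * toFn (ap e W a)) := by
          rw [← smul_eq, ← ap_smul]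
          exact h
        rw [Scheme.basicOpen_mul] at h1
        exact ha z hz h1.2 }
  res := by
    intro W W' h s hs z hz hz'
    have h1 : z ∈ X.basicOpen (rX h (toFn (ap e W s))) := by
      rw [← rF_eq, ← ap_rF]
      exact hz'
    rw [basicOpen_rX] at h1
    exact hs z hz h1.2
  loc := by
    intro W s hloc z hz hzs
    have hzW : z ∈ W := X.basicOpen_le _ hzs
    obtain ⟨W', h, hzW', hs'⟩ := hloc z hzW
    apply hs' z hz
    have h1 : z ∈ X.basicOpen (rX h (toFn (ap e W s))) := by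
      rw [basicOpen_rX]
      exact ⟨hzW', hzs⟩
    rw [← rF_eq, ← ap_rF] at h1
    exact h1

theorem mem_VZ {W : X.Opens} (s : Γ(H, W)) :
    s ∈ (VZ H e Z).carrier W ↔ ∀ z ∈ Z, z ∉ X.basicOpen (toFn (ap e W s)) := Iff.rfl

theorem locSurj_VZ [H.IsQuasicoherent] {O : X.Opens} (hO : IsAffineOpen O) :
    (VZ H e Z).LocSurj O := by
  intro a s' hs'
  have hl : X.basicOpen a ≤ O := X.basicOpen_le a
  have LH := RelFPAff.locData (F := H) hO a (homOfLE hl) rfl
  obtain ⟨n, s₀, hs₀⟩ := LH.surj s'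
  have hs₀' : rX hl a ^ n • s' = rF H hl s₀ := hs₀
  refine ⟨n + 1, a • s₀, ?_, ?_⟩
  · intro z hz hzs
    have h1 : z ∈ X.basicOpen (a * toFn (ap e O s₀)) := by
      rw [← smul_eq, ← ap_smul]
      exact hzs
    rw [Scheme.basicOpen_mul] at h1
    obtain ⟨hza, hzs₀⟩ := h1
    apply hs' z hz
    have h2 : z ∈ X.basicOpen (rX hl (toFn (ap e O s₀))) := by
      rw [basicOpen_rX]
      exact ⟨hza, hzs₀⟩
    rw [← rF_eq, ← ap_rF, ← hs₀', ap_smul, smul_eq, Scheme.basicOpen_mul] at h2
    exact h2.2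
  · rw [rF_smul, ← hs₀', smul_smul, ← pow_succ']

theorem isQuasicoherent_VZ [H.IsQuasicoherent] : (VZ H e Z).toModules.IsQuasicoherent :=
  QCohCrit.isQuasicoherent_of_locOnU _
    (fun U => (VZ H e Z).locOnU_of_locSurj U.2 (locSurj_VZ H e Z U.2))

end VZ

section Glue

set_option backward.isDefEq.respectTransparency false in
/-- Gluing two sections of a module. -/
theorem glue₂_mod (C : X.Modules) {A B V : X.Opens} (hA : A ≤ V) (hB : B ≤ V) (hV : V ≤ A ⊔ B)
    (a : Γ(C, A)) (b : Γ(C, B))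
    (hab : rF C (inf_le_left : A ⊓ B ≤ A) a = rF C (inf_le_right : A ⊓ B ≤ B) b) :
    ∃ s : Γ(C, V), rF C hA s = a ∧ rF C hB s = b :=
  AffVanish.glue₂ (Coh.toAb C) hA hB hV a b hab

end Glue

/-- `O_X^n`, defined recursively with binary biproducts. -/
noncomputable def Orec (X : Scheme.{u}) : ℕ → X.Modules
  | 0 => 0
  | n + 1 => OO X ⊞ Orec X n

/-- Global sections are right exact on quasi-coherent subsheaves of `O_X^n`. -/
def SurjHyp (X : Scheme.{u}) : Prop :=
  ∀ (n : ℕ) (S : ShortComplex X.Modules), S.ShortExact → S.X₁.IsQuasicoherent →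
    S.X₂.IsQuasicoherent → (∃ i : S.X₂ ⟶ Orec X n, Mono i) →
    ∀ c : Γ(S.X₃, ⊤), ∃ b : Γ(S.X₂, ⊤), ap S.g ⊤ b = c

/-- Under `SurjHyp`, a closed point has a neighbourhood `X_f` inside any given open
neighbourhood. -/
theorem exists_basicOpen (hyp : SurjHyp X) (x : X) (hx : IsClosed ({x} : Set X)) (U : X.Opens)
    (hxU : x ∈ U) : ∃ f : Γ(X, ⊤), x ∈ X.basicOpen f ∧ X.basicOpen f ≤ U := by
  let N := VZ (OO X) (𝟙 _) ((U : Set X)ᶜ)
  haveI hJ : N.toModules.IsQuasicoherent := isQuasicoherent_VZ _ _ _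
  let K := VZ N.toModules N.ι {x}
  haveI hK : K.toModules.IsQuasicoherent := isQuasicoherent_VZ _ _ _
  let S : ShortComplex X.Modules :=
    ShortComplex.mk K.ι (cokernel.π K.ι) (cokernel.condition K.ι)
  have hS : S.ShortExact := ShortComplex.ShortExact.mk' (ShortComplex.exact_cokernel K.ι)
    (inferInstanceAs (Mono K.ι)) (inferInstanceAs (Epi (cokernel.π K.ι)))
  have hKπ : ∀ (W : X.Opens) (k : Γ(K.toModules, W)), ap (cokernel.π K.ι) W (ap K.ι W k) = 0 := by
    intro W k
    exact congrArg (fun χ => (χ.app W).hom k) (cokernel.condition K.ι)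
  -- the section `1` over `U`
  have h1mem : ofFn (1 : Γ(X, U)) ∈ N.carrier U := by
    intro z hz hzb
    exact hz (X.basicOpen_le _ hzb)
  obtain ⟨u, hu⟩ := N.exists_of_mem h1mem
  let U₂ : X.Opens := ⟨({x} : Set X)ᶜ, hx.isOpen_compl⟩
  have hcov : (⊤ : X.Opens) ≤ U ⊔ U₂ := by
    intro y _
    by_cases hy : y = x
    · exact Or.inl (hy ▸ hxU)
    · exact Or.inr hy
  have hagree : rF (cokernel K.ι) (inf_le_left : U ⊓ U₂ ≤ U) (ap (cokernel.π K.ι) U u) =
      rF (cokernel K.ι) (inf_le_right : U ⊓ U₂ ≤ U₂) 0 := by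
    rw [map_zero, ← ap_rF]
    have hmem : rF N.toModules (inf_le_left : U ⊓ U₂ ≤ U) u ∈ K.carrier (U ⊓ U₂) := by
      intro z hz hzb
      have hzx : z = x := hz
      have h2 : z ∈ U ⊓ U₂ := X.basicOpen_le _ hzb
      exact h2.2 hzx
    obtain ⟨k, hk⟩ := K.exists_of_mem hmem
    rw [← hk]
    exact hKπ _ k
  obtain ⟨c, hcU, -⟩ := glue₂_mod (cokernel K.ι) (le_top : U ≤ ⊤) (le_top : U₂ ≤ ⊤) hcov
    (ap (cokernel.π K.ι) U u) 0 hagree
  have hmono : ∃ i : S.X₂ ⟶ Orec X 1, Mono i := by
    haveI : Mono (biprod.inl : OO X ⟶ OO X ⊞ Orec X 0) :=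
      (SplitMono.mk biprod.fst biprod.inl_fst).mono
    have h1 : Mono (N.ι ≫ (biprod.inl : OO X ⟶ OO X ⊞ Orec X 0)) := mono_comp _ _
    exact ⟨N.ι ≫ (biprod.inl : OO X ⟶ OO X ⊞ Orec X 0), h1⟩
  obtain ⟨b, hb⟩ := hyp 1 S hS hK hJ hmono c
  refine ⟨toFn (ap N.ι ⊤ b), ?_, ?_⟩
  · by_contra hxb
    have hbK : b ∈ K.carrier ⊤ := by
      intro z hz
      have hzx : z = x := hz
      rw [hzx]
      exact hxb
    obtain ⟨k, hk⟩ := K.exists_of_mem hbK
    have hc0 : c = 0 := by
      rw [← hb, ← hk]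
      exact hKπ _ k
    have hcU0 : ap (cokernel.π K.ι) U u = 0 := by
      rw [← hcU, hc0, map_zero]
    obtain ⟨k', hk'⟩ := QCohExact.app_exact S hS.exact U u hcU0
    have huK : u ∈ K.carrier U := by
      have := K.ι_mem k'
      rwa [show ap K.ι U k' = u from hk'] at this
    have hx1 := huK x rfl
    rw [hu] at hx1
    apply hx1
    rw [show toFn (ofFn (1 : Γ(X, U))) = 1 from rfl, Scheme.basicOpen_of_isUnit X isUnit_one]
    exact hxU
  · intro z hz
    by_contra hzU
    exact N.ι_mem b z hzU hz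

end SerreCrit
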