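import Mathlib
import Groth.Prelude.Def_Curv2
import Groth.Agent.Lib.GG1_helper8
import Groth.Agent.Lib.SerreCrit1_helper9
import Groth.Agent.Lib.SubExt3_helper9

/-!
# Global generation of ideals and quasi-affineness

* `GGH8.exists_basicOpen_of_gg`: a globally generated module `G` with a map to `O_X` whose sections
  vanish outside an affine open `U` and with a local section not vanishing at `x` produces a global
  function `r` with `x ∈ X_r`, `X_r` affine.
* `GGH8.vanSub U`: the ideal of functions vanishing outside `U`, with its section `1` over `U`.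
-/

universe u

open CategoryTheory CategoryTheory.Limits AlgebraicGeometry Opposite TopologicalSpace
open Groth.Agent.Lib.QCohLoc_helper4 QcqsLoc QCohExtn SerreCrit

namespace GGH8

variable {X : Scheme.{u}}

theorem exists_basicOpen_of_gg {G : X.Modules} (i : G ⟶ OO X) (hG : Curv2.IsGloballyGenerated G)
    {U : X.Opens} (hU : IsAffineOpen U)
    (hvan : ∀ (W : X.Opens) (t : Γ(G, W)), ∀ z, z ∉ U → z ∉ X.basicOpen (toFn (ap i W t)))
    {x : X} {W : X.Opens} (t : Γ(G, W)) (hx : x ∈ X.basicOpen (toFn (ap i W t))) :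
    ∃ r : Γ(X, ⊤), IsAffineOpen (X.basicOpen r) ∧ x ∈ X.basicOpen r := by
  obtain ⟨ι, g, hg⟩ := exists_locSpan hG
  have hxW : x ∈ W := X.basicOpen_le _ hx
  obtain ⟨W', h, hxW', hm⟩ := hg W t x hxW
  have key : ∀ y ∈ spanAt G g W', x ∈ X.basicOpen (toFn (ap i W' y)) →
      ∃ j, x ∈ X.basicOpen (toFn (ap i ⊤ (g j))) := by
    intro y hy
    unfold spanAt at hy
    induction hy using Submodule.span_induction with
    | mem y hy =>
      obtain ⟨j, rfl⟩ := hy
      intro hxy
      refine ⟨j, ?_⟩
      have h1 : x ∈ X.basicOpen (rX (le_top : W' ≤ ⊤) (toFn (ap i ⊤ (g j)))) := by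
        rw [← rF_eq, ← ap_rF]
        exact hxy
      rw [basicOpen_rX] at h1
      exact h1.2
    | zero =>
      intro hxy
      have e0 : toFn (ap i W' 0) = 0 := map_zero _
      rw [e0, Scheme.basicOpen_zero] at hxy
      exact absurd hxy (Set.notMem_empty x)
    | add a b _ _ ha hb =>
      intro hxy
      have h1 : x ∈ X.basicOpen (toFn (ap i W' a) + toFn (ap i W' b)) := by
        rw [← add_eq, ← map_add]
        exact hxy
      rcases X.basicOpen_add_le _ _ h1 with h' | h'
      · exact ha h'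
      · exact hb h'
    | smul r a _ ha =>
      intro hxy
      have h1 : x ∈ X.basicOpen (r * toFn (ap i W' a)) := by
        rw [← smul_eq, ← ap_smul]
        exact hxy
      rw [Scheme.basicOpen_mul] at h1
      exact ha h1.2
  have hx' : x ∈ X.basicOpen (toFn (ap i W' (rF G h t))) := by
    have h1 : x ∈ X.basicOpen (rX h (toFn (ap i W t))) := by
      rw [basicOpen_rX]
      exact ⟨hxW', hx⟩
    rw [← rF_eq, ← ap_rF] at h1
    exact h1
  obtain ⟨j, hj⟩ := key _ hm hx'
  refine ⟨toFn (ap i ⊤ (g j)), ?_, hj⟩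
  have hle : X.basicOpen (toFn (ap i ⊤ (g j))) ≤ U := by
    intro z hz
    by_contra hzU
    exact hvan ⊤ (g j) z hzU hz
  have e : X.basicOpen (rX (le_top : U ≤ ⊤) (toFn (ap i ⊤ (g j)))) =
      X.basicOpen (toFn (ap i ⊤ (g j))) := by
    rw [basicOpen_rX]
    exact inf_eq_right.mpr hle
  rw [← e]
  exact hU.basicOpen _

/-- The ideal of functions vanishing outside `U`. -/
noncomputable def vanSub (U : X.Opens) : LSub (OO X) := VZ (OO X) (𝟙 _) ((U : Set X)ᶜ)

theorem isQuasicoherent_vanSub (U : X.Opens) : (vanSub U).toModules.IsQuasicoherent :=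
  isQuasicoherent_VZ _ _ _

theorem vanSub_van (U : X.Opens) (W : X.Opens) (t : Γ((vanSub U).toModules, W)) (z : X)
    (hz : z ∉ U) : z ∉ X.basicOpen (toFn (ap (vanSub U).ι W t)) :=
  ((vanSub U).ι_mem t) z hz

theorem exists_one_vanSub (U : X.Opens) :
    ∃ t : Γ((vanSub U).toModules, U), toFn (ap (vanSub U).ι U t) = 1 := by
  have h1 : (ofFn (1 : Γ(X, U))) ∈ (vanSub U).carrier U := by
    intro z hz hz'
    exact hz (X.basicOpen_le _ hz')
  obtain ⟨t, ht⟩ := (vanSub U).exists_of_mem h1
  exact ⟨t, ht⟩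

/-- On a quasi-compact scheme, if for every affine open `U` and `x ∈ U` there is a globally
generated module mapping to the ideal of `U`ᶜ hitting a function not vanishing at `x`, then `X`
is quasi-affine. -/
theorem isQuasiAffine_of_gg [CompactSpace X]
    (H : ∀ (U : X.Opens), IsAffineOpen U → ∀ x ∈ U,
      ∃ (G : X.Modules) (i : G ⟶ (vanSub U).toModules), Curv2.IsGloballyGenerated G ∧
        ∃ (g : Γ(G, U)), toFn (ap (vanSub U).ι U (ap i U g)) = 1) :
    X.IsQuasiAffine := by
  apply Scheme.IsQuasiAffine.of_forall_exists_mem_basicOpen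
  intro x
  obtain ⟨U, hU, hxU, -⟩ := Opens.isBasis_iff_nbhd.mp X.isBasis_affineOpens
    (show x ∈ (⊤ : X.Opens) from trivial)
  obtain ⟨G, i, hG, g, hg⟩ := H U hU x hxU
  refine exists_basicOpen_of_gg (i ≫ (vanSub U).ι) hG hU ?_ g ?_
  · intro W t z hz
    exact vanSub_van U W (ap i W t) z hz
  · have e : toFn (ap (i ≫ (vanSub U).ι) U g) = 1 := hg
    rw [e, Scheme.basicOpen_of_isUnit _ isUnit_one]
    exact hxU

end GGH8
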