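import Mathlib
import Groth.Agent.Lib.QCohCrit_helper9
import Groth.Agent.Lib.RelFP3_helper9

/-!
# Finitely presented `𝒪_X`-modules have finitely presented sections over affine opens

* `QCohFP2.finitePresentation_of_isFinitePresentation`
* `QCohFP2.tilde_isFP_iff`
* `QCohFP2.isFinitePresentation_pushforward`, `QCohFP2.isFinitePresentation_of_pushforward`
-/

universe u

open CategoryTheory CategoryTheory.Limits AlgebraicGeometry Opposite TopologicalSpace Scheme.Modules
open Groth.Agent.Lib.QCohLoc_helper4 QCohFP

namespace QCohFP2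

section Spec

variable {R : CommRingCat.{u}}

set_option backward.isDefEq.respectTransparency false in
theorem exists_iso_tilde_cokernel (M : (Spec R).Modules) (P : M.Presentation) :
    ∃ (g : ModuleCat.of R (P.relations.I →₀ R) ⟶ ModuleCat.of R (P.generators.I →₀ R)),
      Nonempty (tilde (cokernel g) ≅ M) := by
  let g := (tilde.functor _).preimage <| (tildeFinsupp _).hom ≫ P.relations.π ≫ kernel.ι _ ≫
    (tildeFinsupp _).inv
  let iso : cokernel ((tilde.functor R).map g) ≅ cokernel (P.relations.π ≫ kernel.ι _) := by
    refine cokernel.mapIso _ _ (tildeFinsupp _) (tildeFinsupp _) ?_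
    simp only [g, (tilde.functor R).map_preimage]
    simp
  exact ⟨g, ⟨PreservesCokernel.iso (tilde.functor R) g ≪≫ iso ≪≫
    IsColimit.coconePointUniqueUpToIso (colimit.isColimit _) P.isColimit⟩⟩

theorem finitePresentation_cokernel {I J : Type u} [Finite I] [Finite J]
    (g : ModuleCat.of R (J →₀ R) ⟶ ModuleCat.of R (I →₀ R)) :
    Module.FinitePresentation R (cokernel g : ModuleCat.{u} R) := by
  haveI : Module.Finite R (ModuleCat.of R (J →₀ R)) := inferInstanceAs (Module.Finite R (J →₀ R))
  haveI : Module.FinitePresentation R (ModuleCat.of R (I →₀ R)) :=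
    inferInstanceAs (Module.FinitePresentation R (I →₀ R))
  haveI : Module.FinitePresentation R
      ((ModuleCat.of R (I →₀ R)) ⧸ LinearMap.range g.hom) := by
    refine Module.finitePresentation_of_surjective (LinearMap.range g.hom).mkQ
      (Submodule.mkQ_surjective _) ?_
    rw [Submodule.ker_mkQ, LinearMap.range_eq_map]
    exact Submodule.FG.map _ Module.Finite.fg_top
  exact Module.FinitePresentation.of_equiv
    (ModuleCat.cokernelIsoRangeQuotient g).toLinearEquiv.symm

set_option backward.isDefEq.respectTransparency false in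
theorem finitePresentation_sections_of_presentation (M : (Spec R).Modules) (P : M.Presentation)
    [P.IsFinite] :
    Module.FinitePresentation R ((modulesSpecToSheaf.obj M).presheaf.obj (op ⊤)) := by
  obtain ⟨g, ⟨e⟩⟩ := exists_iso_tilde_cokernel M P
  haveI : Finite P.generators.I := inferInstance
  haveI : Finite P.relations.I := inferInstance
  haveI := finitePresentation_cokernel g
  let i1 := tilde.isoTop (cokernel g)
  let i2 : (modulesSpecToSheaf.obj (tilde (cokernel g))).presheaf.obj (op ⊤) ≅
      (modulesSpecToSheaf.obj M).presheaf.obj (op ⊤) :=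
    ((sheafSections _ _).obj (op ⊤)).mapIso (modulesSpecToSheaf.mapIso e)
  exact Module.FinitePresentation.of_equiv (i1 ≪≫ i2).toLinearEquiv

theorem fp_of_bijective {R R' N : Type u} [CommRing R] [CommRing R'] [AddCommGroup N]
    [Module R N] [Module R' N] (e : R →+* R') (he : Function.Bijective e)
    (hsm : ∀ (r : R) (x : N), r • x = e r • x) [Module.FinitePresentation R' N] :
    Module.FinitePresentation R N := by
  letI := e.toAlgebra
  haveI : IsScalarTower R R' N := IsScalarTower.of_algebraMap_smul (fun r x => (hsm r x).symm)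
  haveI : Module.FinitePresentation R R' := by
    refine Module.finitePresentation_of_surjective (Algebra.linearMap R R') he.2 ?_
    have : LinearMap.ker (Algebra.linearMap R R') = ⊥ := LinearMap.ker_eq_bot.mpr he.1
    rw [this]
    exact Submodule.fg_bot
  exact Module.FinitePresentation.trans R N R'

end Spec

section Restrict

variable {X : Scheme.{u}}

set_option backward.isDefEq.respectTransparency false in
/-- Restricting a presentation over `W` along an open immersion into `W`. -/
noncomputable def presentationRestrictOver (M : X.Modules) (W : X.Opens) {Z : Scheme.{u}}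
    (j : Z ⟶ (W : Scheme.{u})) [IsOpenImmersion j] (k : Z ⟶ X) [IsOpenImmersion k]
    (hk : j ≫ W.ι = k) (P : (M.over W).Presentation) : (M.restrict k).Presentation := by
  have : PreservesColimitsOfSize.{u, u} (restrictFunctor j) := inferInstance
  let F := (overEquiv W).functor ⋙ restrictFunctor j
  let iso : SheafOfModules.overFunctor X.ringCatSheaf _ ⋙ F ≅ restrictFunctor k :=
    (Functor.associator _ _ _).symm ≪≫
      Functor.isoWhiskerRight (Scheme.Modules.overFunctorEquiv _) _ ≪≫
      (restrictFunctorComp _ _).symm ≪≫ (restrictFunctorCongr hk)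
  exact SheafOfModules.Presentation.ofIsIso.{u, u, u} (iso.app M).hom
    (P.map F (Scheme.Modules.restrictUnitIso _).symm)

theorem presentationRestrictOver_generators_I (M : X.Modules) (W : X.Opens) {Z : Scheme.{u}}
    (j : Z ⟶ (W : Scheme.{u})) [IsOpenImmersion j] (k : Z ⟶ X) [IsOpenImmersion k]
    (hk : j ≫ W.ι = k) (P : (M.over W).Presentation) :
    (presentationRestrictOver M W j k hk P).generators.I = P.generators.I := rfl

theorem presentationRestrictOver_relations_I (M : X.Modules) (W : X.Opens) {Z : Scheme.{u}}
    (j : Z ⟶ (W : Scheme.{u})) [IsOpenImmersion j] (k : Z ⟶ X) [IsOpenImmersion k]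
    (hk : j ≫ W.ι = k) (P : (M.over W).Presentation) :
    (presentationRestrictOver M W j k hk P).relations.I = P.relations.I := rfl

theorem finitePresentation_of_presentation_over (F : X.Modules) {V W : X.Opens}
    (hV : IsAffineOpen V) (hVW : V ≤ W) (P : (F.over W).Presentation) [P.IsFinite] :
    Module.FinitePresentation Γ(X, V) Γ(F, V) := by
  let j : Spec Γ(X, V) ⟶ (W : Scheme.{u}) := hV.isoSpec.inv ≫ X.homOfLE hVW
  have hk : j ≫ W.ι = hV.fromSpec := by
    rw [Category.assoc, Scheme.homOfLE_ι]
    exact hV.isoSpec_inv_ι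
  let P' := presentationRestrictOver F W j hV.fromSpec hk P
  haveI : P'.IsFinite :=
    ⟨⟨by rw [presentationRestrictOver_generators_I]; infer_instance⟩,
     ⟨by rw [presentationRestrictOver_relations_I]; infer_instance⟩⟩
  haveI : Module.FinitePresentation Γ(X, V) (secSpec hV F) :=
    finitePresentation_sections_of_presentation _ P'
  exact Module.FinitePresentation.of_equiv (secSpecEquiv hV F)

/-- **A finitely presented `𝒪_X`-module has finitely presented sections over affine opens.** -/
theorem finitePresentation_of_isFinitePresentation (F : X.Modules)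
    [hFP : SheafOfModules.IsFinitePresentation (R := X.ringCatSheaf) F] {U : X.Opens}
    (hU : IsAffineOpen U) : Module.FinitePresentation Γ(X, U) Γ(F, U) := by
  haveI : F.IsQuasicoherent := inferInstance
  obtain ⟨σ, hσ⟩ :=
    SheafOfModules.IsFinitePresentation.exists_quasicoherentData (R := X.ringCatSheaf) F
  have hcov := σ.coversTop
  rw [Opens.coversTop_iff] at hcov
  -- local step
  have step : ∀ x ∈ U, ∃ a : Γ(X, U), x ∈ X.basicOpen a ∧
      Module.FinitePresentation Γ(X, X.basicOpen a) Γ(F, X.basicOpen a) := by
    intro x hx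
    have hx' : x ∈ (⨆ i, σ.X i : X.Opens) := by rw [hcov]; trivial
    simp only [Opens.mem_iSup] at hx'
    obtain ⟨i, hxi⟩ := hx'
    obtain ⟨a, ha, hxa⟩ := hU.exists_basicOpen_le (V := U ⊓ σ.X i) ⟨x, ⟨hx, hxi⟩⟩ hx
    refine ⟨a, hxa, ?_⟩
    haveI : (σ.presentation i).IsFinite := hσ.isFinite_presentation i
    exact finitePresentation_of_presentation_over F (hU.basicOpen a) (ha.trans inf_le_right)
      (σ.presentation i)
  -- assemble
  let t : Set Γ(X, U) :=
    {a | Module.FinitePresentation Γ(X, X.basicOpen a) Γ(F, X.basicOpen a)}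
  have ht : Ideal.span t = ⊤ := by
    rw [← hU.self_le_iSup_basicOpen_iff]
    intro x hx
    obtain ⟨a, hxa, hfin⟩ := step x hx
    simp only [Opens.mem_iSup]
    exact ⟨⟨a, hfin⟩, hxa⟩
  letI : ∀ g : t, Algebra Γ(X, U) Γ(X, X.basicOpen g.1) := fun g =>
    (X.presheaf.map (homOfLE (X.basicOpen_le g.1)).op).hom.toAlgebra
  letI : ∀ g : t, Module Γ(X, U) Γ(F, X.basicOpen g.1) := fun g =>
    Module.compHom _ (X.presheaf.map (homOfLE (X.basicOpen_le g.1)).op).hom
  haveI : ∀ g : t, IsScalarTower Γ(X, U) Γ(X, X.basicOpen g.1) Γ(F, X.basicOpen g.1) := fun g =>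
    IsScalarTower.of_algebraMap_smul (fun _ _ => rfl)
  haveI : ∀ g : t, IsLocalization.Away g.1 Γ(X, X.basicOpen g.1) := fun g =>
    hU.isLocalization_basicOpen g.1
  have hld : ∀ g : t, RelFPKit.LocData (X.presheaf.map (homOfLE (X.basicOpen_le g.1)).op).hom g.1
      (F.presheaf.map (homOfLE (X.basicOpen_le g.1)).op).hom := fun g =>
    RelFPAff.locData (F := F) hU g.1 _ rfl
  let f : ∀ g : t, Γ(F, U) →ₗ[Γ(X, U)] Γ(F, X.basicOpen g.1) := fun g =>
    { toFun := (F.presheaf.map (homOfLE (X.basicOpen_le g.1)).op).hom
      map_add' := map_add _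
      map_smul' := (hld g).smul }
  haveI : ∀ g : t, IsLocalizedModule.Away g.1 (f g) := fun g =>
    QCohFT.isLocalizedModule_of_locData (hld g)
  exact Module.FinitePresentation.of_localizationSpan' t ht f (fun g => g.2)

/-- A module with a finite global presentation is finitely presented. -/
theorem isFinitePresentation_of_presentation (N : X.Modules)
    (P : SheafOfModules.Presentation (R := X.ringCatSheaf) N) [P.IsFinite] :
    SheafOfModules.IsFinitePresentation (R := X.ringCatSheaf) N := by
  constructor
  refine ⟨P.quasicoherentData, ?_⟩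
  constructor
  intro i
  exact ⟨⟨inferInstanceAs (Finite P.generators.I)⟩, ⟨inferInstanceAs (Finite P.relations.I)⟩⟩

/-- A quasi-coherent module with finitely presented sections over an affine open cover is
finitely presented. -/
theorem isFinitePresentation_of_sections_cover (F : X.Modules) [F.IsQuasicoherent] {ι : Type u}
    (𝒰 : ι → X.Opens) (h𝒰 : ∀ i, IsAffineOpen (𝒰 i)) (hcov : ⨆ i, 𝒰 i = ⊤)
    (H : ∀ i, Module.FinitePresentation Γ(X, 𝒰 i) Γ(F, 𝒰 i)) :
    SheafOfModules.IsFinitePresentation (R := X.ringCatSheaf) F := by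
  choose P hP using fun i => exists_finite_presentation_over (h𝒰 i) F (H i)
  have hc : (Opens.grothendieckTopology X).CoversTop 𝒰 := by
    rw [Opens.coversTop_iff]
    exact hcov
  let σ : SheafOfModules.QuasicoherentData.{u} (R := X.ringCatSheaf) F :=
    { I := ι, X := 𝒰, coversTop := hc, presentation := P }
  have hσ : σ.IsFinitePresentation := by
    constructor
    intro i
    exact hP i
  constructor
  exact ⟨σ, hσ⟩

end Restrict

section Tilde

set_option backward.isDefEq.respectTransparency false in
/-- `tilde M` is finitely presented iff `M` is. -/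
theorem tilde_isFP_iff {R : CommRingCat.{u}} (M : ModuleCat.{u} R) :
    SheafOfModules.IsFinitePresentation (R := (Spec R).ringCatSheaf) (tilde M) ↔
      Module.FinitePresentation R M := by
  constructor
  · intro h
    haveI : SheafOfModules.IsFinitePresentation (R := (Spec R).ringCatSheaf) (tilde M) := h
    have h1 : Module.FinitePresentation Γ(Spec R, ⊤) Γ(tilde M, ⊤) :=
      finitePresentation_of_isFinitePresentation (tilde M) (isAffineOpen_top (Spec R))
    let N : ModuleCat R := (modulesSpecToSheaf.obj (tilde M)).presheaf.obj (.op ⊤)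
    let e : M ≅ N := tilde.isoTop M
    suffices hN : Module.FinitePresentation R N from
      Module.FinitePresentation.of_equiv e.toLinearEquiv.symm
    exact @fp_of_bijective R Γ(Spec R, ⊤) N _ _ _ N.isModule
      (inferInstance : Module Γ(Spec R, ⊤) Γ(tilde M, ⊤)) (Scheme.ΓSpecIso R).inv.hom
      (ConcreteCategory.bijective_of_isIso (Scheme.ΓSpecIso R).inv) (fun _ _ => rfl) h1
  · intro h
    obtain ⟨P, hP⟩ := exists_finite_presentation_tilde M
    exact isFinitePresentation_of_presentation (tilde M) P

end Tilde

section Push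

theorem fp_iff_of_ringHom_finite_fp {A B : Type u} [CommRing A] [CommRing B] (ψ : A →+* B)
    (hfin : ψ.Finite) (hfp : ψ.FinitePresentation) {N M : Type u} [AddCommGroup N] [Module A N]
    [AddCommGroup M] [Module B M] (e : N ≃+ M)
    (hsm : ∀ (a : A) (n : N), e (a • n) = ψ a • e n) :
    Module.FinitePresentation A N ↔ Module.FinitePresentation B M := by
  letI := ψ.toAlgebra
  letI : Module A M := Module.compHom M ψ
  haveI : IsScalarTower A B M := IsScalarTower.of_algebraMap_smul (fun _ _ => rfl)
  haveI : Module.Finite A B := hfin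
  haveI : Algebra.FinitePresentation A B := hfp
  haveI : Module.FinitePresentation A B :=
    Module.FinitePresentation.of_finite_of_finitePresentation A B
  let eL : N ≃ₗ[A] M := { e with map_smul' := hsm }
  rw [eL.finitePresentation_iff]
  exact Groth.Agent.Lib.RelFP.finite_ext_iff

variable {X Y : Scheme.{u}} (f : X ⟶ Y)

theorem finitePresentation_app [LocallyOfFinitePresentation f] [IsAffineHom f] {V : Y.Opens}
    (hV : IsAffineOpen V) : (f.app V).hom.FinitePresentation := by
  rw [Scheme.Hom.app_eq_appLE]
  exact f.finitePresentation_appLE hV (hV.preimage f) le_rfl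

theorem isFinitePresentation_pushforward [IsFinite f] [LocallyOfFinitePresentation f]
    (M : X.Modules) [SheafOfModules.IsFinitePresentation (R := X.ringCatSheaf) M] :
    SheafOfModules.IsFinitePresentation (R := Y.ringCatSheaf)
      ((Scheme.Modules.pushforward f).obj M) := by
  haveI : M.IsQuasicoherent := inferInstance
  haveI := QCohCrit.isQuasicoherent_pushforward f M
  refine QCohFP.isFinitePresentation_of_sections _ (fun V => ?_)
  have h1 : Module.FinitePresentation Γ(X, f ⁻¹ᵁ (V : Y.Opens)) Γ(M, f ⁻¹ᵁ (V : Y.Opens)) :=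
    finitePresentation_of_isFinitePresentation M (V.2.preimage f)
  exact (fp_iff_of_ringHom_finite_fp
    (N := Γ((Scheme.Modules.pushforward f).obj M, (V : Y.Opens)))
    (M := Γ(M, f ⁻¹ᵁ (V : Y.Opens))) (f.app V).hom (f.finite_app V V.2)
    (finitePresentation_app f V.2) (AddEquiv.refl _) (fun _ _ => rfl)).mpr h1

theorem isFinitePresentation_of_pushforward [IsFinite f] [LocallyOfFinitePresentation f]
    (M : X.Modules) [M.IsQuasicoherent]
    (h : SheafOfModules.IsFinitePresentation (R := Y.ringCatSheaf)
      ((Scheme.Modules.pushforward f).obj M)) :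
    SheafOfModules.IsFinitePresentation (R := X.ringCatSheaf) M := by
  haveI := h
  refine isFinitePresentation_of_sections_cover _ (fun V : Y.affineOpens => f ⁻¹ᵁ (V : Y.Opens))
    (fun V => V.2.preimage f) ?_ (fun V => ?_)
  · refine eq_top_iff.mpr (fun x _ => ?_)
    have hx : f.base x ∈ (⨆ V : Y.affineOpens, (V : Y.Opens)) := by
      rw [iSup_affineOpens_eq_top]; trivial
    obtain ⟨V, hV⟩ := Opens.mem_iSup.mp hx
    exact Opens.mem_iSup.mpr ⟨V, hV⟩
  · have h1 : Module.FinitePresentation Γ(Y, (V : Y.Opens))
        Γ((Scheme.Modules.pushforward f).obj M, (V : Y.Opens)) :=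
      finitePresentation_of_isFinitePresentation _ V.2
    exact (fp_iff_of_ringHom_finite_fp
      (N := Γ((Scheme.Modules.pushforward f).obj M, (V : Y.Opens)))
      (M := Γ(M, f ⁻¹ᵁ (V : Y.Opens))) (f.app V).hom (f.finite_app V V.2)
      (finitePresentation_app f V.2) (AddEquiv.refl _) (fun _ _ => rfl)).mp h1

end Push

end QCohFP2
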