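import Mathlib
import Groth.Prelude.Def_Fitting
import Groth.Prelude.Def_W4c4lgringredgrpLG

/-!
# Misc commutative algebra, part 8 (helper1)

* `fitt_zero`              — S6891
* `fitt_principal_local`   — S6896
* `lg_unimodular`          — S16598
* `node_sequences`         — S7923
* `exact_iff_completions`  — S14680
-/

open TensorProduct

universe u v

namespace Groth.Agent.CAlgMisc8H1

/-! ## Fitting ideals -/

theorem det_smul_eq_sum_adj {R : Type*} [CommRing R] {M : Type*} [AddCommGroup M] [Module R M]
    {n : ℕ} (a : Matrix (Fin n) (Fin n) R) (x : Fin n → M) (j : Fin n) :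
    a.det • x j = ∑ i, a.adjugate j i • ∑ l, a i l • x l := by
  have h1 : ∑ l, (a.adjugate * a) j l • x l = a.det • x j := by
    rw [Matrix.adjugate_mul]
    simp [Matrix.smul_apply, Matrix.one_apply]
  rw [← h1]
  simp only [Matrix.mul_apply, Finset.sum_smul, Finset.smul_sum, mul_smul]
  exact Finset.sum_comm

theorem fitt_zero_le_ann {R : Type u} [CommRing R] (M : Type v) [AddCommGroup M] [Module R M] :
    Fitt.ideal R M 0 ≤ Module.annihilator R M := by
  unfold Fitt.ideal
  refine Ideal.span_le.mpr ?_
  rintro d ⟨n, x, a, hx, ha, rfl⟩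
  have hrow : ∀ i : Fin n, ∑ l, a i l • x l = 0 := fun i => ha i (by simpa using i.2)
  have key : ∀ j, a.det • x j = 0 := by
    intro j
    rw [det_smul_eq_sum_adj a x j]
    refine Finset.sum_eq_zero (fun i _ => ?_)
    rw [hrow i, smul_zero]
  show a.det ∈ Module.annihilator R M
  rw [Module.mem_annihilator]
  intro m
  have hm : m ∈ Submodule.span R (Set.range x) := hx ▸ Submodule.mem_top
  induction hm using Submodule.span_induction with
  | mem w hw => obtain ⟨j, rfl⟩ := hw; exact key j
  | zero => exact smul_zero _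
  | add w1 w2 _ _ h1 h2 => rw [smul_add, h1, h2, add_zero]
  | smul r w _ h => rw [smul_comm, h, smul_zero]

theorem fitt_zero {R : Type u} [CommRing R] (M : Type u) [AddCommGroup M]
    [Module R M] [Module.Finite R M] (I : Ideal R) :
    Fitt.ideal R M 0 ≤ Module.annihilator R M ∧
    PrimeSpectrum.zeroLocus (Fitt.ideal R M 0 : Set R) = Module.support R M ∧
    Fitt.ideal R (R ⧸ I) 0 = I := by
  classical
  refine ⟨fitt_zero_le_ann M, ?_, ?_⟩
  · ext p
    constructor
    · intro hp
      by_contra hsupp
      rw [Module.notMem_support_iff'] at hsupp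
      obtain ⟨n, x, hx⟩ := Module.Finite.exists_fin (R := R) (M := M)
      choose r hr hrx using fun j => hsupp (x j)
      have hdet : (Matrix.diagonal r).det ∈ Fitt.ideal R M 0 := by
        unfold Fitt.ideal
        refine Ideal.subset_span ⟨n, x, Matrix.diagonal r, hx, ?_, rfl⟩
        intro i _
        rw [Finset.sum_eq_single i]
        · simpa using hrx i
        · intro l _ hl
          rw [Matrix.diagonal_apply_ne _ hl.symm, zero_smul]
        · intro h; exact absurd (Finset.mem_univ i) h
      have hmem : (Matrix.diagonal r).det ∈ p.asIdeal := (PrimeSpectrum.mem_zeroLocus _ _).mp hp hdet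
      rw [Matrix.det_diagonal] at hmem
      obtain ⟨i, _, hi⟩ := (Ideal.IsPrime.prod_mem_iff).mp hmem
      exact hr i hi
    · intro hp
      rw [Module.support_eq_zeroLocus] at hp
      rw [PrimeSpectrum.mem_zeroLocus] at hp ⊢
      exact le_trans (fitt_zero_le_ann M) hp
  · apply le_antisymm
    · have := fitt_zero_le_ann (R := R) (R ⧸ I)
      rwa [Ideal.annihilator_quotient] at this
    · intro r hr
      unfold Fitt.ideal
      refine Ideal.subset_span ⟨1, fun _ => (1 : R ⧸ I), Matrix.diagonal (fun _ => r), ?_, ?_, ?_⟩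
      · rw [eq_top_iff]
        rintro q -
        obtain ⟨s, rfl⟩ := Ideal.Quotient.mk_surjective q
        have : (Ideal.Quotient.mk I s : R ⧸ I) = s • (1 : R ⧸ I) := by
          rw [Algebra.smul_def, mul_one]; rfl
        rw [this]
        exact Submodule.smul_mem _ _ (Submodule.subset_span ⟨0, rfl⟩)
      · intro i _
        simp only [Finset.univ_unique, Finset.sum_singleton]
        have hi : i = default := Subsingleton.elim _ _
        subst hi
        rw [Matrix.diagonal_apply_eq, Algebra.smul_def, mul_one]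
        exact Ideal.Quotient.eq_zero_iff_mem.mpr hr
      · rw [Matrix.det_diagonal]; simp

theorem fitt_principal_local {R : Type u} [CommRing R] [IsLocalRing R]
    (M : Type u) [AddCommGroup M] [Module R M] [Module.Finite R M] (k : ℕ) (f : R)
    (hf : Fitt.ideal R M k = Ideal.span {f}) :
    ∃ g : Fin k → M ⧸ LinearMap.ker (f • (LinearMap.id : M →ₗ[R] M)),
      Submodule.span R (Set.range g) = ⊤ := by
  classical
  by_cases hf0 : f = 0
  · subst hf0
    have hsub : Subsingleton (M ⧸ LinearMap.ker ((0 : R) • (LinearMap.id : M →ₗ[R] M))) := by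
      rw [Submodule.Quotient.subsingleton_iff, zero_smul, LinearMap.ker_zero]
    exact ⟨fun _ => 0, Subsingleton.elim _ _⟩
  have hex : ∃ (n : ℕ) (x : Fin n → M) (a : Matrix (Fin n) (Fin n) R) (c : R),
      Submodule.span R (Set.range x) = ⊤ ∧
      (∀ i : Fin n, (i : ℕ) < n - k → ∑ j, a i j • x j = 0) ∧
      a.det = c * f ∧ IsUnit c := by
    by_contra hall
    push Not at hall
    have hle : Ideal.span {f} ≤ IsLocalRing.maximalIdeal R • Ideal.span {f} := by
      conv_lhs => rw [← hf]
      unfold Fitt.ideal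
      refine Ideal.span_le.mpr ?_
      rintro d ⟨n, x, a, hx, ha, rfl⟩
      have hd : a.det ∈ Ideal.span {f} := by
        rw [← hf]; exact Ideal.subset_span ⟨n, x, a, hx, ha, rfl⟩
      obtain ⟨c, hc⟩ := Ideal.mem_span_singleton'.mp hd
      have hcu : ¬ IsUnit c := hall n x a c hx ha hc.symm
      show a.det ∈ IsLocalRing.maximalIdeal R • Ideal.span {f}
      rw [← hc, ← smul_eq_mul]
      exact Submodule.smul_mem_smul ((IsLocalRing.mem_maximalIdeal c).mpr hcu)
        (Ideal.mem_span_singleton_self f)
    have hbot : Ideal.span {f} = ⊥ :=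
      Submodule.eq_bot_of_le_smul_of_le_jacobson_bot (IsLocalRing.maximalIdeal R) _
        (Submodule.fg_span_singleton f) hle (IsLocalRing.maximalIdeal_le_jacobson _)
    exact hf0 (Ideal.span_singleton_eq_bot.mp hbot)
  obtain ⟨n, x, a, c, hx, ha, hdet, hc⟩ := hex
  have hfit : ∀ d, (∃ (a' : Matrix (Fin n) (Fin n) R),
      (∀ i : Fin n, (i : ℕ) < n - k → ∑ j, a' i j • x j = 0) ∧ d = a'.det) → ∃ c', d = c' * f := by
    rintro d ⟨a', ha', rfl⟩
    have : a'.det ∈ Ideal.span {f} := by
      rw [← hf]; exact Ideal.subset_span ⟨n, x, a', hx, ha', rfl⟩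
    obtain ⟨c', hc'⟩ := Ideal.mem_span_singleton'.mp this
    exact ⟨c', hc'.symm⟩
  have hadj : ∀ (j i : Fin n), n - k ≤ (i : ℕ) → ∃ c', a.adjugate j i = c' * f := by
    intro j i hi
    apply hfit
    refine ⟨a.updateRow i (Pi.single j 1), ?_, Matrix.adjugate_apply a j i⟩
    intro l hl
    have hli : l ≠ i := by rintro rfl; omega
    simp only [Matrix.updateRow_ne hli]
    exact ha l hl
  choose! c' hc' using hadj
  let y : Fin n → M := fun i => ∑ l, a i l • x l
  have hy0 : ∀ i : Fin n, (i : ℕ) < n - k → y i = 0 := ha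
  set N := LinearMap.ker (f • (LinearMap.id : M →ₗ[R] M)) with hN
  let g : Fin k → M ⧸ N := fun t =>
    if h : n - k + (t : ℕ) < n then N.mkQ (y ⟨n - k + t, h⟩) else 0
  refine ⟨g, ?_⟩
  have hgi : ∀ i : Fin n, n - k ≤ (i : ℕ) → N.mkQ (y i) ∈ Submodule.span R (Set.range g) := by
    intro i hi
    have ht : (i : ℕ) - (n - k) < k := by omega
    refine Submodule.subset_span ⟨⟨(i : ℕ) - (n - k), ht⟩, ?_⟩
    have h1 : n - k + ((i : ℕ) - (n - k)) < n := by omega
    simp only [g]
    rw [dif_pos h1]
    have : (⟨n - k + ((i : ℕ) - (n - k)), h1⟩ : Fin n) = i := by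
      apply Fin.ext; simp only; omega
    rw [this]
  obtain ⟨b, hb⟩ := hc.exists_left_inv
  have hxj : ∀ j, N.mkQ (x j) ∈ Submodule.span R (Set.range g) := by
    intro j
    have h1 : a.det • x j = ∑ i, a.adjugate j i • y i := det_smul_eq_sum_adj a x j
    have h2 : ∀ i, a.adjugate j i • y i =
        f • (if n - k ≤ (i : ℕ) then c' j i • y i else 0) := by
      intro i
      by_cases hi : n - k ≤ (i : ℕ)
      · rw [if_pos hi, hc' j i hi, mul_comm, mul_smul]
      · rw [if_neg hi, hy0 i (by omega), smul_zero, smul_zero]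
    have h3 : f • (c • x j - ∑ i : Fin n, (if n - k ≤ (i : ℕ) then c' j i • y i else 0)) = 0 := by
      rw [smul_sub, Finset.smul_sum, ← mul_smul, mul_comm f c, ← hdet, h1, sub_eq_zero]
      exact Finset.sum_congr rfl (fun i _ => h2 i)
    have h4 : c • x j - ∑ i : Fin n, (if n - k ≤ (i : ℕ) then c' j i • y i else 0) ∈ N := by
      rw [hN, LinearMap.mem_ker, LinearMap.smul_apply, LinearMap.id_apply]
      exact h3
    have h5 : c • N.mkQ (x j) =
        ∑ i : Fin n, (if n - k ≤ (i : ℕ) then c' j i • N.mkQ (y i) else 0) := by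
      have h5' : N.mkQ (c • x j - ∑ i : Fin n, (if n - k ≤ (i : ℕ) then c' j i • y i else 0)) = 0 :=
        (Submodule.Quotient.mk_eq_zero N).mpr h4
      rw [map_sub, map_smul, map_sum, sub_eq_zero] at h5'
      rw [h5']
      refine Finset.sum_congr rfl (fun i _ => ?_)
      split_ifs
      · rw [map_smul]
      · rw [map_zero]
    have h6 : N.mkQ (x j) = b • (c • N.mkQ (x j)) := by rw [← mul_smul, hb, one_smul]
    rw [h6, h5]
    refine Submodule.smul_mem _ _ (Submodule.sum_mem _ (fun i _ => ?_))
    split_ifs with hi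
    · exact Submodule.smul_mem _ _ (hgi i hi)
    · exact zero_mem _
  rw [eq_top_iff]
  rintro z -
  obtain ⟨w, rfl⟩ := N.mkQ_surjective z
  have hw : w ∈ Submodule.span R (Set.range x) := hx ▸ Submodule.mem_top
  induction hw using Submodule.span_induction with
  | mem w hw => obtain ⟨j, rfl⟩ := hw; exact hxj j
  | zero => rw [map_zero]; exact zero_mem _
  | add w1 w2 _ _ h1 h2 => rw [map_add]; exact add_mem h1 h2
  | smul r w _ h => rw [map_smul]; exact Submodule.smul_mem _ _ h

/-! ## LG rings -/

theorem lg_unimodular {R : Type u} [CommRing R] (hR : LGRing.IsLGRing R)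
    (M : Type v) [AddCommGroup M] [Module R M] [Module.Finite R M] [Module.Projective R M]
    [FaithfulSMul R M] :
    ∃ (m : M) (f : Module.Dual R M), f m = 1 := by
  classical
  obtain ⟨n, f, g, hfsurj, hginj, hfg⟩ := Module.Finite.exists_comp_eq_id_of_projective R M
  let e : Fin n → Fin n → R := fun j l => g (f (Pi.single l 1)) j
  have hdecomp : ∀ u : Fin n → R, u = ∑ l, u l • (Pi.single l (1 : R) : Fin n → R) := by
    intro u
    ext i
    simp [Finset.sum_apply, Pi.single_apply]
  have hgf : ∀ (u : Fin n → R) (j : Fin n), g (f u) j = ∑ l, e j l * u l := by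
    intro u j
    conv_lhs => rw [hdecomp u]
    simp only [map_sum, map_smul, Finset.sum_apply, Pi.smul_apply, smul_eq_mul, e]
    exact Finset.sum_congr rfl (fun l _ => mul_comm _ _)
  let F : MvPolynomial (Fin (n + n)) R :=
    ∑ j, ∑ l, MvPolynomial.C (e j l) * MvPolynomial.X (Fin.natAdd n j) *
      MvPolynomial.X (Fin.castAdd n l)
  have hFeval : ∀ (S : Type u) [CommRing S] [Algebra R S] (s : Fin (n + n) → S),
      MvPolynomial.aeval s F =
        ∑ j, ∑ l, algebraMap R S (e j l) * s (Fin.natAdd n j) * s (Fin.castAdd n l) := by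
    intro S _ _ s
    simp [F, map_sum]
  have hrep : ∀ (m : Ideal R) [m.IsMaximal], LGRing.RepresentsUnit F (R ⧸ m) := by
    intro m hm
    have hex : ∃ j l, e j l ∉ m := by
      by_contra hall
      push Not at hall
      have hle : (⊤ : Submodule R M) ≤ m • ⊤ := by
        intro x _
        have hx : f (g x) = x := by
          have := LinearMap.congr_fun hfg x
          simpa using this
        have hg2 : ∀ j, g x j ∈ m := by
          intro j
          have h1 : g x = g (f (g x)) := by rw [hx]
          rw [h1, hgf]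
          exact m.sum_mem (fun l _ => m.mul_mem_right _ (hall j l))
        rw [← hx, hdecomp (g x), map_sum]
        refine Submodule.sum_mem _ (fun j _ => ?_)
        rw [map_smul]
        exact Submodule.smul_mem_smul (hg2 j) Submodule.mem_top
      obtain ⟨r, hr1, hr0⟩ := Submodule.exists_sub_one_mem_and_smul_eq_zero_of_fg_of_le_smul m ⊤
        Module.Finite.fg_top hle
      have hr : r = 0 := by
        apply FaithfulSMul.eq_of_smul_eq_smul (α := M)
        intro x
        rw [zero_smul]
        exact hr0 x Submodule.mem_top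
      rw [hr, zero_sub] at hr1
      exact hm.ne_top ((Ideal.eq_top_iff_one m).mpr (by simpa using m.neg_mem hr1))
    obtain ⟨j, l, hjl⟩ := hex
    refine ⟨Fin.append (Pi.single l 1) (Pi.single j 1), ?_⟩
    rw [hFeval]
    have hval : ∑ j', ∑ l', algebraMap R (R ⧸ m) (e j' l') *
        (Fin.append (Pi.single l (1 : R ⧸ m)) (Pi.single j 1) : Fin (n + n) → R ⧸ m)
          (Fin.natAdd n j') *
        (Fin.append (Pi.single l (1 : R ⧸ m)) (Pi.single j 1) : Fin (n + n) → R ⧸ m)
          (Fin.castAdd n l') = algebraMap R (R ⧸ m) (e j l) := by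
      simp only [Fin.append_left, Fin.append_right]
      rw [Finset.sum_eq_single j]
      · rw [Finset.sum_eq_single l]
        · simp
        · intro l' _ hl'
          simp [Pi.single_eq_of_ne hl']
        · intro h; exact absurd (Finset.mem_univ l) h
      · intro j' _ hj'
        refine Finset.sum_eq_zero (fun l' _ => ?_)
        simp [Pi.single_eq_of_ne hj']
      · intro h; exact absurd (Finset.mem_univ j) h
    rw [hval]
    obtain ⟨y, i, hi, hyi⟩ := hm.exists_inv hjl
    refine IsUnit.of_mul_eq_one (Ideal.Quotient.mk m y) ?_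
    rw [Ideal.Quotient.algebraMap_eq, ← map_mul, ← map_one (Ideal.Quotient.mk m),
      Ideal.Quotient.eq]
    have : e j l * y - 1 = -i := by
      have := hyi
      linear_combination this
    rw [this]
    exact m.neg_mem hi
  obtain ⟨s, hs⟩ := hR (n + n) F hrep
  rw [hFeval] at hs
  obtain ⟨b, hb⟩ := hs.exists_left_inv
  let uu : Fin n → R := fun l => s (Fin.castAdd n l)
  let vv : Fin n → R := fun j => s (Fin.natAdd n j)
  let φ : M →ₗ[R] R := ∑ j, vv j • ((LinearMap.proj j : (Fin n → R) →ₗ[R] R) ∘ₗ g)
  refine ⟨f uu, b • φ, ?_⟩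
  have hφ : φ (f uu) = ∑ j, ∑ l, algebraMap R R (e j l) * s (Fin.natAdd n j) * s (Fin.castAdd n l) := by
    simp only [φ, LinearMap.sum_apply, LinearMap.smul_apply, LinearMap.comp_apply,
      LinearMap.proj_apply, hgf, smul_eq_mul, Finset.mul_sum]
    refine Finset.sum_congr rfl (fun j _ => Finset.sum_congr rfl (fun l _ => ?_))
    simp only [uu, vv, Algebra.algebraMap_self, RingHom.id_apply]
    ring
  rw [LinearMap.smul_apply, hφ, smul_eq_mul, hb]

/-! ## S7923 -/

section Node

variable (A B : Type u) [CommRing A] [IsLocalRing A] [CommRing B] [IsLocalRing B] [Algebra A B]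
  [IsLocalHom (algebraMap A B)]

/-- the ideal `𝔪_A^n B`. -/
def Ipow (n : ℕ) : Ideal B := (IsLocalRing.maximalIdeal A ^ n).map (algebraMap A B)

variable {A B}

theorem Ipow_mul_mem {a b : ℕ} {x y : B} (hx : x ∈ Ipow A B a) (hy : y ∈ Ipow A B b) :
    x * y ∈ Ipow A B (a + b) := by
  have : Ipow A B (a + b) = Ipow A B a * Ipow A B b := by
    unfold Ipow
    rw [pow_add, Ideal.map_mul]
  rw [this]
  exact Ideal.mul_mem_mul hx hy

theorem Ipow_anti {a b : ℕ} (h : a ≤ b) : Ipow A B b ≤ Ipow A B a :=
  Ideal.map_mono (Ideal.pow_le_pow_right h)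

theorem Ipow_one_le : Ipow A B 1 ≤ IsLocalRing.maximalIdeal B := by
  unfold Ipow
  rw [pow_one]
  refine Ideal.map_le_iff_le_comap.mpr (fun a ha => ?_)
  rw [Ideal.mem_comap, IsLocalRing.mem_maximalIdeal, mem_nonunits_iff]
  rw [IsLocalRing.mem_maximalIdeal, mem_nonunits_iff] at ha
  exact fun h => ha (isUnit_of_map_unit (algebraMap A B) a h)

theorem decomp
    (hres : Function.Bijective (IsLocalRing.ResidueField.map (algebraMap A B)))
    (u v : B)
    (hgen : IsLocalRing.maximalIdeal B =
      Ideal.span {u, v} ⊔ (IsLocalRing.maximalIdeal A).map (algebraMap A B))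
    (u' v' : B) (hu' : u' - u ∈ Ipow A B 1) (hv' : v' - v ∈ Ipow A B 1) (b : B) :
    ∃ (α : A) (β γ : B), b - (algebraMap A B α + β * u' + γ * v') ∈ Ipow A B 1 := by
  obtain ⟨abar, habar⟩ := hres.2 (IsLocalRing.residue B b)
  obtain ⟨α, rfl⟩ := IsLocalRing.residue_surjective abar
  rw [IsLocalRing.ResidueField.map_residue] at habar
  have h1 : b - algebraMap A B α ∈ IsLocalRing.maximalIdeal B := by
    rw [← IsLocalRing.residue_eq_zero_iff, map_sub, ← habar, sub_self]
  rw [hgen] at h1
  obtain ⟨y, hy, z, hz, hyz⟩ := Submodule.mem_sup.mp h1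
  obtain ⟨β, γ, rfl⟩ := Ideal.mem_span_pair.mp hy
  refine ⟨α, β, γ, ?_⟩
  have h1' : Ipow A B 1 = (IsLocalRing.maximalIdeal A).map (algebraMap A B) := by
    rw [Ipow, pow_one]
  have e : b - (algebraMap A B α + β * u' + γ * v') =
      z - β * (u' - u) - γ * (v' - v) := by
    have : b = algebraMap A B α + (β * u + γ * v + z) := by rw [hyz]; ring
    rw [this]; ring
  rw [e]
  exact Ideal.sub_mem _ (Ideal.sub_mem _ (h1' ▸ hz) (Ideal.mul_mem_left _ _ hu'))
    (Ideal.mul_mem_left _ _ hv')

theorem approx
    (hres : Function.Bijective (IsLocalRing.ResidueField.map (algebraMap A B)))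
    (u v : B)
    (hgen : IsLocalRing.maximalIdeal B =
      Ideal.span {u, v} ⊔ (IsLocalRing.maximalIdeal A).map (algebraMap A B))
    (n : ℕ) (u' v' : B) (hu' : u' - u ∈ Ipow A B 1) (hv' : v' - v ∈ Ipow A B 1)
    (x : B) (hx : x ∈ Ipow A B (n + 1)) :
    ∃ e ∈ IsLocalRing.maximalIdeal A ^ (n + 1), ∃ β ∈ Ipow A B (n + 1), ∃ γ ∈ Ipow A B (n + 1),
      x - (algebraMap A B e + β * u' + γ * v') ∈ Ipow A B (n + 2) := by
  have hx' : x ∈ Submodule.span B
      (algebraMap A B '' ((IsLocalRing.maximalIdeal A ^ (n + 1) : Ideal A) : Set A)) := hx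
  refine Submodule.span_induction
    (p := fun x _ => ∃ e ∈ IsLocalRing.maximalIdeal A ^ (n + 1), ∃ β ∈ Ipow A B (n + 1),
      ∃ γ ∈ Ipow A B (n + 1), x - (algebraMap A B e + β * u' + γ * v') ∈ Ipow A B (n + 2))
    ?_ ?_ ?_ ?_ hx'
  · rintro _ ⟨a0, ha0, rfl⟩
    exact ⟨a0, ha0, 0, zero_mem _, 0, zero_mem _, by simp⟩
  · exact ⟨0, zero_mem _, 0, zero_mem _, 0, zero_mem _, by simp⟩
  · rintro x y _ _ ⟨e1, he1, β1, hβ1, γ1, hγ1, h1⟩ ⟨e2, he2, β2, hβ2, γ2, hγ2, h2⟩
    refine ⟨e1 + e2, add_mem he1 he2, β1 + β2, add_mem hβ1 hβ2, γ1 + γ2, add_mem hγ1 hγ2, ?_⟩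
    have : x + y - (algebraMap A B (e1 + e2) + (β1 + β2) * u' + (γ1 + γ2) * v') =
        (x - (algebraMap A B e1 + β1 * u' + γ1 * v')) +
          (y - (algebraMap A B e2 + β2 * u' + γ2 * v')) := by
      rw [map_add]; ring
    rw [this]
    exact add_mem h1 h2
  · rintro b x _ ⟨e, he, β, hβ, γ, hγ, h1⟩
    obtain ⟨α, β', γ', hb⟩ := decomp hres u v hgen u' v' hu' hv' b
    have hφe : algebraMap A B e ∈ Ipow A B (n + 1) := Ideal.mem_map_of_mem _ he
    refine ⟨α * e, Ideal.mul_mem_left _ _ he, b * β + β' * algebraMap A B e, ?_,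
      b * γ + γ' * algebraMap A B e, ?_, ?_⟩
    · exact add_mem (Ideal.mul_mem_left _ _ hβ) (Ideal.mul_mem_left _ _ hφe)
    · exact add_mem (Ideal.mul_mem_left _ _ hγ) (Ideal.mul_mem_left _ _ hφe)
    · have e1 : b • x - (algebraMap A B (α * e) + (b * β + β' * algebraMap A B e) * u' +
          (b * γ + γ' * algebraMap A B e) * v') =
          b * (x - (algebraMap A B e + β * u' + γ * v')) +
            (b - (algebraMap A B α + β' * u' + γ' * v')) * algebraMap A B e := by
        rw [smul_eq_mul, map_mul]; ring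
      rw [e1]
      refine add_mem (Ideal.mul_mem_left _ _ h1) ?_
      exact Ipow_anti (by omega) (Ipow_mul_mem hb hφe)

theorem step
    (hres : Function.Bijective (IsLocalRing.ResidueField.map (algebraMap A B)))
    (u v : B)
    (hgen : IsLocalRing.maximalIdeal B =
      Ideal.span {u, v} ⊔ (IsLocalRing.maximalIdeal A).map (algebraMap A B))
    (n : ℕ) (u' v' : B) (ε' : A) (hu' : u' - u ∈ Ipow A B 1) (hv' : v' - v ∈ Ipow A B 1)
    (h : u' * v' - algebraMap A B ε' ∈ Ipow A B (n + 1)) :
    ∃ (u'' v'' : B) (ε'' : A), u'' - u' ∈ Ipow A B (n + 1) ∧ v'' - v' ∈ Ipow A B (n + 1) ∧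
      ε'' - ε' ∈ IsLocalRing.maximalIdeal A ^ (n + 1) ∧
      u'' * v'' - algebraMap A B ε'' ∈ Ipow A B (n + 2) := by
  obtain ⟨e, he, β, hβ, γ, hγ, hx⟩ := approx hres u v hgen n u' v' hu' hv' _ h
  refine ⟨u' - γ, v' - β, ε' + e, ?_, ?_, ?_, ?_⟩
  · simpa using neg_mem hγ
  · simpa using neg_mem hβ
  · simpa using he
  · have e1 : (u' - γ) * (v' - β) - algebraMap A B (ε' + e) =
        (u' * v' - algebraMap A B ε' - (algebraMap A B e + β * u' + γ * v')) + γ * β := by
      rw [map_add]; ring
    rw [e1]
    exact add_mem hx (Ipow_anti (by omega) (Ipow_mul_mem hγ hβ))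

/-- invariant. -/
def Good (u v : B) (n : ℕ) (t : B × B × A) : Prop :=
  t.1 ∈ IsLocalRing.maximalIdeal B ∧ t.2.1 ∈ IsLocalRing.maximalIdeal B ∧
    t.2.2 ∈ IsLocalRing.maximalIdeal A ∧ t.1 - u ∈ Ipow A B 1 ∧ t.2.1 - v ∈ Ipow A B 1 ∧
    t.1 * t.2.1 - algebraMap A B t.2.2 ∈ Ipow A B (n + 1)

/-- relation between consecutive terms. -/
def Rel (n : ℕ) (t t' : B × B × A) : Prop :=
  t'.1 - t.1 ∈ Ipow A B (n + 1) ∧ t'.2.1 - t.2.1 ∈ Ipow A B (n + 1) ∧
    t'.2.2 - t.2.2 ∈ IsLocalRing.maximalIdeal A ^ (n + 1)

theorem exNext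
    (hres : Function.Bijective (IsLocalRing.ResidueField.map (algebraMap A B)))
    (u v : B)
    (hgen : IsLocalRing.maximalIdeal B =
      Ideal.span {u, v} ⊔ (IsLocalRing.maximalIdeal A).map (algebraMap A B))
    (n : ℕ) (t : B × B × A) (ht : Good u v n t) :
    ∃ t' : B × B × A, Good u v (n + 1) t' ∧ Rel n t t' := by
  obtain ⟨h1, h2, h3, h4, h5, h6⟩ := ht
  obtain ⟨u'', v'', ε'', hu'', hv'', hε'', hprod⟩ := step hres u v hgen n t.1 t.2.1 t.2.2 h4 h5 h6
  have hle1 : Ipow A B (n + 1) ≤ Ipow A B 1 := Ipow_anti (by omega)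
  refine ⟨(u'', v'', ε''), ⟨?_, ?_, ?_, ?_, ?_, hprod⟩, ⟨hu'', hv'', hε''⟩⟩
  · have : u'' = t.1 + (u'' - t.1) := by ring
    rw [this]
    exact add_mem h1 (Ipow_one_le (hle1 hu''))
  · have : v'' = t.2.1 + (v'' - t.2.1) := by ring
    rw [this]
    exact add_mem h2 (Ipow_one_le (hle1 hv''))
  · have : ε'' = t.2.2 + (ε'' - t.2.2) := by ring
    rw [this]
    exact add_mem h3 (Ideal.pow_le_self (by omega) hε'')
  · have : u'' - u = (u'' - t.1) + (t.1 - u) := by ring
    show u'' - u ∈ Ipow A B 1
    rw [this]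
    exact add_mem (hle1 hu'') h4
  · have : v'' - v = (v'' - t.2.1) + (t.2.1 - v) := by ring
    show v'' - v ∈ Ipow A B 1
    rw [this]
    exact add_mem (hle1 hv'') h5

end Node

theorem node_sequences (A B : Type u) [CommRing A] [IsLocalRing A] [IsNoetherianRing A]
    [CommRing B] [IsLocalRing B] [IsNoetherianRing B] [Algebra A B] [IsLocalHom (algebraMap A B)]
    (hres : Function.Bijective (IsLocalRing.ResidueField.map (algebraMap A B)))
    (u v : B) (hu : u ∈ IsLocalRing.maximalIdeal B) (hv : v ∈ IsLocalRing.maximalIdeal B)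
    (huv : u * v ∈ (IsLocalRing.maximalIdeal A).map (algebraMap A B))
    (hgen : IsLocalRing.maximalIdeal B = Ideal.span {u, v} ⊔ (IsLocalRing.maximalIdeal A).map (algebraMap A B)) :
    ∃ (us vs : ℕ → B) (ε : ℕ → A), us 0 = u ∧ vs 0 = v ∧
      ∀ n : ℕ, us n ∈ IsLocalRing.maximalIdeal B ∧ vs n ∈ IsLocalRing.maximalIdeal B ∧
        ε n ∈ IsLocalRing.maximalIdeal A ∧
        us (n + 1) - us n ∈ (IsLocalRing.maximalIdeal A ^ (n + 1)).map (algebraMap A B) ∧
        vs (n + 1) - vs n ∈ (IsLocalRing.maximalIdeal A ^ (n + 1)).map (algebraMap A B) ∧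
        ε (n + 1) - ε n ∈ IsLocalRing.maximalIdeal A ^ (n + 1) ∧
        us n * vs n - algebraMap A B (ε n) ∈ (IsLocalRing.maximalIdeal A ^ (n + 1)).map (algebraMap A B) := by
  classical
  let seq : ℕ → B × B × A := fun n =>
    Nat.rec (u, v, 0)
      (fun n t => if h : Good u v n t then Classical.choose (exNext hres u v hgen n t h) else t) n
  have hsucc : ∀ n, seq (n + 1) =
      if h : Good u v n (seq n) then Classical.choose (exNext hres u v hgen n (seq n) h)
      else seq n := fun n => rfl
  have hgood : ∀ n, Good u v n (seq n) := by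
    intro n
    induction n with
    | zero =>
      refine ⟨hu, hv, zero_mem _, ?_, ?_, ?_⟩
      · show u - u ∈ Ipow A B 1
        rw [sub_self]; exact zero_mem _
      · show v - v ∈ Ipow A B 1
        rw [sub_self]; exact zero_mem _
      · show u * v - algebraMap A B 0 ∈ Ipow A B (0 + 1)
        rw [map_zero, sub_zero, Ipow, zero_add, pow_one]
        exact huv
    | succ n ih =>
      rw [hsucc, dif_pos ih]
      exact (Classical.choose_spec (exNext hres u v hgen n (seq n) ih)).1
  have hrel : ∀ n, Rel n (seq n) (seq (n + 1)) := by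
    intro n
    rw [hsucc, dif_pos (hgood n)]
    exact (Classical.choose_spec (exNext hres u v hgen n (seq n) (hgood n))).2
  refine ⟨fun n => (seq n).1, fun n => (seq n).2.1, fun n => (seq n).2.2, rfl, rfl, fun n => ?_⟩
  obtain ⟨h1, h2, h3, _, _, h6⟩ := hgood n
  obtain ⟨r1, r2, r3⟩ := hrel n
  exact ⟨h1, h2, h3, r1, r2, r3, h6⟩

/-! ## S14680 -/

theorem subsingleton_of_adic {A : Type u} [CommRing A] (N : Type u) [AddCommGroup N] [Module A N]
    [Module.Finite A N]
    (h : ∀ (m : Ideal A) [m.IsMaximal], Subsingleton (AdicCompletion m N)) : Subsingleton N := by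
  by_contra hN
  rw [not_subsingleton_iff_nontrivial] at hN
  have hann : Module.annihilator A N ≠ ⊤ := by
    intro htop
    have h1 : (1 : A) ∈ Module.annihilator A N := htop ▸ Submodule.mem_top
    rw [Module.mem_annihilator] at h1
    obtain ⟨x, y, hxy⟩ := exists_pair_ne N
    exact hxy (by rw [← one_smul A x, ← one_smul A y, h1 x, h1 y])
  obtain ⟨m, hm, hle⟩ := Ideal.exists_le_maximal _ hann
  haveI := hm
  haveI := h m
  have hq : Subsingleton (N ⧸ (m ^ 1 • ⊤ : Submodule A N)) :=
    (AdicCompletion.eval_surjective m N 1).subsingleton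
  have htop : (m ^ 1 • ⊤ : Submodule A N) = ⊤ := Submodule.Quotient.subsingleton_iff.mp hq
  rw [pow_one] at htop
  obtain ⟨r, hr1, hr0⟩ := Submodule.exists_sub_one_mem_and_smul_eq_zero_of_fg_of_le_smul m ⊤
    Module.Finite.fg_top (le_of_eq htop.symm)
  have hrann : r ∈ Module.annihilator A N :=
    Module.mem_annihilator.mpr (fun n => hr0 n Submodule.mem_top)
  have hrm : r ∈ m := hle hrann
  have h1 : (1 : A) ∈ m := by
    have := m.sub_mem hrm hr1
    simpa using this
  exact hm.ne_top ((Ideal.eq_top_iff_one m).mpr h1)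

theorem exact_iff_completions (A : Type u) [CommRing A] [IsNoetherianRing A]
    (M' M M'' : Type u) [AddCommGroup M'] [Module A M'] [AddCommGroup M] [Module A M] [AddCommGroup M''] [Module A M'']
    [Module.Finite A M'] [Module.Finite A M] [Module.Finite A M''] (f : M' →ₗ[A] M) (g : M →ₗ[A] M'') :
    (Function.Injective f ∧ Function.Exact f g ∧ Function.Surjective g) ↔
      ∀ (m : Ideal A) [m.IsMaximal],
        Function.Injective (AdicCompletion.map m f) ∧ Function.Exact (AdicCompletion.map m f) (AdicCompletion.map m g) ∧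
          Function.Surjective (AdicCompletion.map m g) := by
  haveI : IsNoetherian A M' := isNoetherian_of_isNoetherianRing_of_finite A M'
  haveI : IsNoetherian A M := isNoetherian_of_isNoetherianRing_of_finite A M
  haveI : IsNoetherian A M'' := isNoetherian_of_isNoetherianRing_of_finite A M''
  constructor
  · rintro ⟨hf, hfg, hg⟩ m hm
    exact ⟨AdicCompletion.map_injective m hf, AdicCompletion.map_exact hf hfg hg,
      AdicCompletion.map_surjective m hg⟩
  · intro h
    have hgsurj : Function.Surjective g := by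
      rw [← LinearMap.range_eq_top, ← Submodule.Quotient.subsingleton_iff]
      apply subsingleton_of_adic (A := A)
      intro m hm
      obtain ⟨_, _, hs⟩ := h m
      have key : ∀ z : AdicCompletion m (M'' ⧸ LinearMap.range g), z = 0 := by
        intro z
        obtain ⟨w, rfl⟩ := AdicCompletion.map_surjective m (LinearMap.range g).mkQ_surjective z
        obtain ⟨v, rfl⟩ := hs w
        rw [AdicCompletion.map_comp_apply, LinearMap.range_mkQ_comp, AdicCompletion.map_zero,
          LinearMap.zero_apply]
      exact ⟨fun x y => by rw [key x, key y]⟩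
    have hfinj : Function.Injective f := by
      rw [← LinearMap.ker_eq_bot]
      haveI : Subsingleton (LinearMap.ker f) := by
        apply subsingleton_of_adic (A := A)
        intro m hm
        obtain ⟨hi, _, _⟩ := h m
        have hι : Function.Injective (AdicCompletion.map m (LinearMap.ker f).subtype) :=
          AdicCompletion.map_injective m (Submodule.injective_subtype _)
        have key : ∀ z : AdicCompletion m (LinearMap.ker f), z = 0 := by
          intro z
          apply hι
          apply hi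
          rw [AdicCompletion.map_comp_apply, map_zero, map_zero, LinearMap.comp_ker_subtype,
            AdicCompletion.map_zero, LinearMap.zero_apply]
        exact ⟨fun x y => by rw [key x, key y]⟩
      exact Submodule.eq_bot_of_subsingleton
    have hcomp : g ∘ₗ f = 0 := by
      haveI : Subsingleton (LinearMap.range (g ∘ₗ f)) := by
        apply subsingleton_of_adic (A := A)
        intro m hm
        obtain ⟨_, he, _⟩ := h m
        have hι : Function.Injective
            (AdicCompletion.map m (LinearMap.range (g ∘ₗ f)).subtype) :=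
          AdicCompletion.map_injective m (Submodule.injective_subtype _)
        have hs : Function.Surjective (AdicCompletion.map m (g ∘ₗ f).rangeRestrict) :=
          AdicCompletion.map_surjective m (g ∘ₗ f).surjective_rangeRestrict
        have key : ∀ z : AdicCompletion m (LinearMap.range (g ∘ₗ f)), z = 0 := by
          intro z
          obtain ⟨w, rfl⟩ := hs z
          apply hι
          rw [AdicCompletion.map_comp_apply, map_zero]
          have e1 : (LinearMap.range (g ∘ₗ f)).subtype ∘ₗ (g ∘ₗ f).rangeRestrict = g ∘ₗ f :=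
            LinearMap.ext (fun x => rfl)
          rw [e1, ← AdicCompletion.map_comp_apply]
          exact he.apply_apply_eq_zero w
        exact ⟨fun x y => by rw [key x, key y]⟩
      ext x
      have : (⟨(g ∘ₗ f) x, LinearMap.mem_range_self (g ∘ₗ f) x⟩ : LinearMap.range (g ∘ₗ f)) = 0 :=
        Subsingleton.elim _ _
      simpa using congrArg Subtype.val this
    have hexact : Function.Exact f g := by
      rw [LinearMap.exact_iff]
      apply le_antisymm
      · have hmem : ∀ x, f x ∈ LinearMap.ker g := fun x => by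
          have := LinearMap.congr_fun hcomp x
          simpa using this
        haveI : Subsingleton (LinearMap.ker g ⧸ LinearMap.range (f.codRestrict (LinearMap.ker g) hmem)) := by
          apply subsingleton_of_adic (A := A)
          intro m hm
          obtain ⟨_, he, _⟩ := h m
          have hι : Function.Injective (AdicCompletion.map m (LinearMap.ker g).subtype) :=
            AdicCompletion.map_injective m (Submodule.injective_subtype _)
          have key : ∀ z : AdicCompletion m
              (LinearMap.ker g ⧸ LinearMap.range (f.codRestrict (LinearMap.ker g) hmem)), z = 0 := by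
            intro z
            obtain ⟨w, rfl⟩ := AdicCompletion.map_surjective m
              (LinearMap.range (f.codRestrict (LinearMap.ker g) hmem)).mkQ_surjective z
            have h1 : AdicCompletion.map m g (AdicCompletion.map m (LinearMap.ker g).subtype w) = 0 := by
              rw [AdicCompletion.map_comp_apply, LinearMap.comp_ker_subtype,
                AdicCompletion.map_zero, LinearMap.zero_apply]
            obtain ⟨v, hv⟩ := (he _).mp h1
            have h2 : (LinearMap.ker g).subtype ∘ₗ f.codRestrict (LinearMap.ker g) hmem = f :=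
              LinearMap.ext (fun x => rfl)
            have hv' : AdicCompletion.map m (LinearMap.ker g).subtype
                (AdicCompletion.map m (f.codRestrict (LinearMap.ker g) hmem) v) =
                AdicCompletion.map m (LinearMap.ker g).subtype w := by
              rw [AdicCompletion.map_comp_apply, h2]; exact hv
            have h3 := hι hv'
            rw [← h3, AdicCompletion.map_comp_apply, LinearMap.range_mkQ_comp,
              AdicCompletion.map_zero, LinearMap.zero_apply]
          exact ⟨fun x y => by rw [key x, key y]⟩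
        have htop : LinearMap.range (f.codRestrict (LinearMap.ker g) hmem) = ⊤ :=
          Submodule.Quotient.subsingleton_iff.mp inferInstance
        intro y hy
        have hy' : (⟨y, hy⟩ : LinearMap.ker g) ∈
            LinearMap.range (f.codRestrict (LinearMap.ker g) hmem) := htop ▸ Submodule.mem_top
        obtain ⟨x, hx⟩ := hy'
        exact ⟨x, by simpa using congrArg Subtype.val hx⟩
      · rintro _ ⟨x, rfl⟩
        exact LinearMap.congr_fun hcomp x
    exact ⟨hfinj, hexact, hgsurj⟩

end Groth.Agent.CAlgMisc8H1
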