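import Mathlib
import Groth.Prelude.Def_Fitting

/-!
# Fitting ideals: independence of the generating family (helper8)

`FittH8.detIdeal x k`: for a family `x : ι → M` indexed by a fintype, the ideal generated by the
determinants of the `ι × ι` matrices all of whose rows, except at most `k`, are relations among
the `x i`.  Main result `detIdeal_eq_of_span_eq_top`: it does not depend on the generating family.
APPEND-ONLY once landed.
-/

set_option autoImplicit false

namespace FittH8

open Matrix

universe u v w w'

variable {R : Type u} [CommRing R] {M : Type v} [AddCommGroup M] [Module R M]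

/-- The determinantal ideal attached to a finite family. -/
def detIdeal {ι : Type w} [Fintype ι] [DecidableEq ι] (x : ι → M) (k : ℕ) : Ideal R :=
  Ideal.span {d | ∃ (a : Matrix ι ι R) (s : Finset ι), Fintype.card ι ≤ s.card + k ∧
    (∀ i ∈ s, ∑ j, a i j • x j = 0) ∧ d = a.det}

section Equiv

variable {ι : Type w} {κ : Type w'} [Fintype ι] [DecidableEq ι] [Fintype κ] [DecidableEq κ]

theorem detIdeal_comp_le (e : ι ≃ κ) (x : κ → M) (k : ℕ) :
    detIdeal (R := R) (x ∘ e) k ≤ detIdeal x k := by
  apply Ideal.span_le.mpr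
  rintro d ⟨a, s, hs, hrel, rfl⟩
  apply Ideal.subset_span
  refine ⟨a.submatrix e.symm e.symm, s.map e.toEmbedding, ?_, ?_, ?_⟩
  · rw [Finset.card_map, ← Fintype.card_congr e]
    exact hs
  · intro i hi
    rw [Finset.mem_map] at hi
    obtain ⟨i', hi', rfl⟩ := hi
    have := hrel i' hi'
    rw [← this]
    simp only [Equiv.coe_toEmbedding, submatrix_apply, Equiv.symm_apply_apply]
    exact (Fintype.sum_equiv e _ _ (fun j => by simp)).symm
  · exact (det_submatrix_equiv_self e.symm a).symm

theorem detIdeal_comp (e : ι ≃ κ) (x : κ → M) (k : ℕ) :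
    detIdeal (R := R) (x ∘ e) k = detIdeal x k := by
  apply le_antisymm (detIdeal_comp_le e x k)
  have := detIdeal_comp_le (R := R) e.symm (x ∘ e) k
  have h2 : (x ∘ e) ∘ e.symm = x := by
    funext i
    simp
  rwa [h2] at this

end Equiv

section FinCons

variable {n : ℕ} (x : Fin n → M) (y : M) (c : Fin n → R) (k : ℕ)

theorem detIdeal_le_cons (hy : y = ∑ j, c j • x j) :
    detIdeal (R := R) x k ≤ detIdeal (Fin.cons y x : Fin (n + 1) → M) k := by
  classical
  apply Ideal.span_le.mpr
  rintro d ⟨a, s, hs, hrel, rfl⟩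
  apply Ideal.subset_span
  let a' : Matrix (Fin (n + 1)) (Fin (n + 1)) R :=
    Matrix.of (Fin.cons (Fin.cons 1 (fun j => - c j)) (fun i => Fin.cons 0 (a i)))
  have ha'0 : ∀ j : Fin n, a' 0 j.succ = - c j := fun j => by simp [a']
  have ha'00 : a' 0 0 = 1 := by simp [a']
  have ha's0 : ∀ i : Fin n, a' i.succ 0 = 0 := fun i => by simp [a']
  have ha'ss : ∀ i j : Fin n, a' i.succ j.succ = a i j := fun i j => by simp [a']
  refine ⟨a', insert 0 (s.map (Fin.succEmb n)), ?_, ?_, ?_⟩
  · rw [Finset.card_insert_of_notMem, Finset.card_map, Fintype.card_fin]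
    · rw [Fintype.card_fin] at hs
      omega
    · simp [Fin.succ_ne_zero]
  · intro i hi
    rw [Finset.mem_insert] at hi
    rcases hi with rfl | hi
    · rw [Fin.sum_univ_succ]
      simp only [Fin.cons_zero, Fin.cons_succ, ha'00, ha'0, one_smul, neg_smul,
        Finset.sum_neg_distrib]
      rw [hy]
      abel
    · obtain ⟨i', hi', rfl⟩ := Finset.mem_map.mp hi
      rw [Fin.sum_univ_succ]
      have hs1 : (Fin.succEmb n) i' = i'.succ := rfl
      rw [hs1]
      simp only [Fin.cons_zero, Fin.cons_succ, ha's0, ha'ss, zero_smul, zero_add]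
      exact hrel i' hi'
  · rw [det_succ_column_zero, Fin.sum_univ_succ]
    have h1 : a'.submatrix (Fin.succAbove 0) Fin.succ = a := by
      ext i j
      simp [ha'ss]
    simp only [Fin.val_zero, pow_zero, ha'00, mul_one, one_mul, h1, ha's0, mul_zero, zero_mul,
      Finset.sum_const_zero, add_zero]

theorem cons_le_detIdeal (hy : y = ∑ j, c j • x j) :
    detIdeal (R := R) (Fin.cons y x : Fin (n + 1) → M) k ≤ detIdeal x k := by
  classical
  apply Ideal.span_le.mpr
  rintro d ⟨a, s, hs, hrel, rfl⟩
  let c' : Fin (n + 1) → R := Fin.cons 0 c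
  let a'' : Matrix (Fin (n + 1)) (Fin (n + 1)) R := Matrix.of fun i j => a i j + c' j * a i 0
  have hdet : a''.det = a.det := by
    rw [← det_transpose a'', ← det_transpose a]
    exact det_eq_of_forall_row_eq_smul_add_const c' 0 rfl (fun i j => rfl)
  rw [SetLike.mem_coe, ← hdet, det_succ_column_zero]
  apply Ideal.sum_mem
  intro i _
  apply Ideal.mul_mem_left
  apply Ideal.subset_span
  refine ⟨a''.submatrix i.succAbove Fin.succ,
    s.preimage i.succAbove (Fin.succAbove_right_injective.injOn), ?_, ?_, rfl⟩
  · rw [Fintype.card_fin] at hs ⊢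
    rw [Finset.card_preimage]
    have h1 : (s.filter (fun j => j ∈ Set.range i.succAbove)) = s.erase i := by
      ext j
      simp only [Fin.range_succAbove, Set.mem_compl_iff, Set.mem_singleton_iff, Finset.mem_filter,
        Finset.mem_erase]
      tauto
    rw [h1]
    have := Finset.pred_card_le_card_erase (s := s) (a := i)
    omega
  · intro r hr
    rw [Finset.mem_preimage] at hr
    have h1 := hrel _ hr
    rw [Fin.sum_univ_succ] at h1
    simp only [Fin.cons_zero, Fin.cons_succ] at h1
    simp only [submatrix_apply, a'', c', Matrix.of_apply, Fin.cons_succ, add_smul, mul_smul,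
      Finset.sum_add_distrib]
    rw [← h1, hy, add_comm]
    congr 1
    rw [Finset.smul_sum]
    refine Finset.sum_congr rfl (fun j _ => ?_)
    rw [smul_comm]

theorem detIdeal_cons (hy : y = ∑ j, c j • x j) :
    detIdeal (R := R) (Fin.cons y x : Fin (n + 1) → M) k = detIdeal x k :=
  le_antisymm (cons_le_detIdeal x y c k hy) (detIdeal_le_cons x y c k hy)

end FinCons

section Option

variable {ι : Type w} [Fintype ι] [DecidableEq ι]

theorem detIdeal_option (x : ι → M) (y : M) (hy : y ∈ Submodule.span R (Set.range x)) (k : ℕ) :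
    detIdeal (R := R) (fun o : Option ι => o.elim y x) k = detIdeal x k := by
  classical
  obtain ⟨c, hc⟩ : ∃ c : ι → R, y = ∑ j, c j • x j := by
    rw [Submodule.mem_span_range_iff_exists_fun] at hy
    obtain ⟨c, hc⟩ := hy
    exact ⟨c, hc.symm⟩
  let e : ι ≃ Fin (Fintype.card ι) := Fintype.equivFin ι
  let E : Option ι ≃ Fin (Fintype.card ι + 1) :=
    (Equiv.optionCongr e).trans (finSuccEquiv (Fintype.card ι)).symm
  have h1 : (fun o : Option ι => o.elim y x) =
      (Fin.cons y (x ∘ e.symm) : Fin (Fintype.card ι + 1) → M) ∘ E := by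
    funext o
    cases o with
    | none => simp [E]
    | some i => simp [E]
  rw [h1, detIdeal_comp E, detIdeal_cons (x ∘ e.symm) y (c ∘ e.symm) k ?_, detIdeal_comp e.symm x k]
  rw [hc]
  exact Fintype.sum_equiv e _ _ (fun j => by simp)

theorem detIdeal_sum (x : ι → M) (k : ℕ) : ∀ (m : ℕ) (y : Fin m → M),
    (∀ j, y j ∈ Submodule.span R (Set.range x)) →
    detIdeal (R := R) (Sum.elim y x : Fin m ⊕ ι → M) k = detIdeal x k
  | 0, y, _ => by
      have h1 : (Sum.elim y x) = x ∘ (Equiv.emptySum (Fin 0) ι) := by
        funext s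
        rcases s with j | i
        · exact j.elim0
        · rfl
      rw [h1, detIdeal_comp]
  | m + 1, y, hy => by
      let E : Option (Fin m ⊕ ι) ≃ Fin (m + 1) ⊕ ι :=
        { toFun := fun o => o.elim (Sum.inl 0) (Sum.elim (fun j => Sum.inl j.succ) Sum.inr)
          invFun := Sum.elim (Fin.cases none (fun j => some (Sum.inl j))) (fun i => some (Sum.inr i))
          left_inv := by
            rintro (_ | (j | i)) <;> simp
          right_inv := by
            rintro (j | i)
            · refine Fin.cases ?_ (fun j' => ?_) j <;> simp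
            · simp }
      have h1 : (fun o : Option (Fin m ⊕ ι) => o.elim (y 0) (Sum.elim (Fin.tail y) x)) =
          Sum.elim y x ∘ E := by
        funext o
        rcases o with _ | (j | i) <;> simp [E, Fin.tail]
      rw [← detIdeal_comp E (Sum.elim y x) k, ← h1, detIdeal_option _ _ ?_ k,
        detIdeal_sum x k m (Fin.tail y) (fun j => hy j.succ)]
      refine Submodule.span_mono ?_ (hy 0)
      rintro _ ⟨i, rfl⟩
      exact ⟨Sum.inr i, rfl⟩

end Option

/-- **Independence of the generating family.** -/
theorem detIdeal_eq_of_span_eq_top {n m : ℕ} (x : Fin n → M) (y : Fin m → M)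
    (hx : Submodule.span R (Set.range x) = ⊤) (hy : Submodule.span R (Set.range y) = ⊤) (k : ℕ) :
    detIdeal (R := R) x k = detIdeal y k := by
  rw [← detIdeal_sum x k m y (fun j => by rw [hx]; trivial),
    ← detIdeal_sum y k n x (fun j => by rw [hy]; trivial)]
  have h1 : (Sum.elim y x : Fin m ⊕ Fin n → M) = Sum.elim x y ∘ (Equiv.sumComm _ _) := by
    funext s
    cases s <;> rfl
  rw [h1, detIdeal_comp]

end FittH8
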