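import Mathlib
import Groth.Prelude.Def_Fitting
import Groth.Agent.Lib.Fitt1_helper8

/-!
# Fitting ideals: minors (helper8)
APPEND-ONLY once landed.
-/

set_option autoImplicit false

namespace FittH8

open Matrix

universe u v

variable {R : Type u} [CommRing R] {M : Type v} [AddCommGroup M] [Module R M]

/-- Laplace expansion: the determinant lies in the ideal of maximal minors of any injective
selection of rows (inductive form). -/
theorem det_mem_span_minors_aux (m : ℕ) : ∀ (d : ℕ) (a : Matrix (Fin (m + d)) (Fin (m + d)) R)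
    (ρ : Fin m → Fin (m + d)), Function.Injective ρ →
    a.det ∈ Ideal.span {t | ∃ e : Fin m → Fin (m + d),
      t = (Matrix.of fun i b => a (ρ b) (e i)).det}
  | 0, a, ρ, hρ => by
      have hbij : Function.Bijective ρ := Finite.injective_iff_bijective.mp hρ
      let σ : Equiv.Perm (Fin m) := Equiv.ofBijective ρ hbij
      have h1 : (Matrix.of fun i b => a (ρ b) i : Matrix (Fin m) (Fin m) R) =
          (a.submatrix σ id)ᵀ := by
        ext i b
        rfl
      have h3 : (a.submatrix σ id).det ∈ Ideal.span {t | ∃ e : Fin m → Fin (m + 0),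
          t = (Matrix.of fun i b => a (ρ b) (e i)).det} := by
        apply Ideal.subset_span
        refine ⟨id, ?_⟩
        rw [← det_transpose]
        rfl
      rw [det_permute] at h3
      rcases Int.units_eq_one_or (Equiv.Perm.sign σ) with h | h
      · rw [h] at h3
        simpa using h3
      · rw [h] at h3
        have := Ideal.neg_mem_iff _ |>.mpr h3
        simpa using this
  | d + 1, a, ρ, hρ => by
      classical
      -- a row outside the range of ρ
      obtain ⟨r, hr⟩ : ∃ r : Fin (m + d + 1), r ∉ Set.range ρ := by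
        by_contra hcon
        push Not at hcon
        have hsurj : Function.Surjective ρ := hcon
        have := Fintype.card_le_of_surjective ρ hsurj
        simp only [Fintype.card_fin] at this
        omega
      have hne : ∀ b, ρ b ≠ r := fun b hb => hr ⟨b, hb⟩
      choose ρ' hρ' using fun b => Fin.exists_succAbove_eq (hne b)
      have hρ'inj : Function.Injective ρ' := by
        intro b b' hbb'
        apply hρ
        rw [← hρ' b, ← hρ' b', hbb']
      rw [det_succ_row a r]
      apply Ideal.sum_mem
      intro j _
      apply Ideal.mul_mem_left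
      have IH := det_mem_span_minors_aux m d (a.submatrix r.succAbove j.succAbove) ρ' hρ'inj
      refine Ideal.span_le.mpr ?_ IH
      rintro t ⟨e, rfl⟩
      apply Ideal.subset_span
      refine ⟨fun i => j.succAbove (e i), ?_⟩
      congr 1
      ext i b
      simp only [submatrix_apply, of_apply, hρ']

theorem det_mem_span_minors {n m : ℕ} (a : Matrix (Fin n) (Fin n) R) (ρ : Fin m → Fin n)
    (hρ : Function.Injective ρ) :
    a.det ∈ Ideal.span {t | ∃ e : Fin m → Fin n,
      t = (Matrix.of fun i b => a (ρ b) (e i)).det} := by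
  have hmn : m ≤ n := by simpa using Fintype.card_le_of_injective ρ hρ
  obtain ⟨d, rfl⟩ := Nat.exists_eq_add_of_le hmn
  exact det_mem_span_minors_aux m d a ρ hρ

/-- The ideal of `(n-k)`-minors of relation matrices. -/
def minorIdeal {n : ℕ} (x : Fin n → M) (k : ℕ) : Ideal R :=
  Ideal.span {d | ∃ (z : Fin (n - k) → (Fin n → R)) (e : Fin (n - k) → Fin n),
    (∀ j, ∑ i, z j i • x i = 0) ∧ d = (Matrix.of fun a b => z b (e a)).det}

theorem detIdeal_le_minorIdeal {n : ℕ} (x : Fin n → M) (k : ℕ) :
    detIdeal (R := R) x k ≤ minorIdeal x k := by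
  apply Ideal.span_le.mpr
  rintro d ⟨a, s, hs, hrel, rfl⟩
  rw [Fintype.card_fin] at hs
  obtain ⟨s', hs's, hs'c⟩ := Finset.exists_subset_card_eq (show n - k ≤ s.card by omega)
  let ρ : Fin (n - k) → Fin n := s'.orderEmbOfFin hs'c
  have hρ : Function.Injective ρ := (s'.orderEmbOfFin hs'c).injective
  have hρs : ∀ b, ρ b ∈ s := fun b => hs's (Finset.orderEmbOfFin_mem s' hs'c b)
  refine Ideal.span_le.mpr ?_ (det_mem_span_minors a ρ hρ)
  rintro t ⟨e, rfl⟩
  apply Ideal.subset_span
  exact ⟨fun b => a (ρ b), e, fun j => hrel _ (hρs j), rfl⟩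

theorem fitt_le_detIdeal {n : ℕ} (x : Fin n → M)
    (hx : Submodule.span R (Set.range x) = ⊤) (k : ℕ) :
    Fitt.ideal R M k ≤ detIdeal x k := by
  apply Ideal.span_le.mpr
  rintro d ⟨n', x', a, hx', hrel, rfl⟩
  rw [detIdeal_eq_of_span_eq_top x x' hx hx' k]
  apply Ideal.subset_span
  refine ⟨a, Finset.univ.filter (fun i : Fin n' => (i : ℕ) < n' - k), ?_, ?_, rfl⟩
  · rw [Fintype.card_fin]
    have h1 : (Finset.univ.filter (fun i : Fin n' => (i : ℕ) < n' - k)).card = n' - k := by
      rw [Fin.card_filter_val_lt]
      omega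
    omega
  · intro i hi
    rw [Finset.mem_filter] at hi
    exact hrel i hi.2

theorem minorIdeal_le_fitt {n : ℕ} (x : Fin n → M)
    (hx : Submodule.span R (Set.range x) = ⊤) (k : ℕ) :
    minorIdeal (R := R) x k ≤ Fitt.ideal R M k := by
  classical
  apply Ideal.span_le.mpr
  rintro d ⟨z, e, hrel, rfl⟩
  by_cases he : Function.Injective e
  · -- the complement of the range of `e`
    have hmn : n - k ≤ n := Nat.sub_le _ _
    have hcard : (Finset.univ \ Finset.univ.image e).card = n - (n - k) := by
      rw [Finset.card_sdiff_of_subset (Finset.subset_univ _), Finset.card_image_of_injective _ he]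
      simp
    let g : Fin (n - (n - k)) → Fin n := (Finset.univ \ Finset.univ.image e).orderEmbOfFin hcard
    have hg : Function.Injective g :=
      ((Finset.univ \ Finset.univ.image e).orderEmbOfFin hcard).injective
    have hge : ∀ c a, g c ≠ e a := by
      intro c a h
      have := Finset.orderEmbOfFin_mem (Finset.univ \ Finset.univ.image e) hcard c
      rw [Finset.mem_sdiff] at this
      exact this.2 (Finset.mem_image.mpr ⟨a, Finset.mem_univ _, h.symm⟩)
    have hge' : ∀ c a, e a ≠ g c := fun c a h => hge c a h.symm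
    let ε : Fin n ≃ Fin (n - k) ⊕ Fin (n - (n - k)) :=
      (finCongr (show n = (n - k) + (n - (n - k)) by omega)).trans finSumFinEquiv.symm
    have hε : ∀ (i : Fin n) (hi : (i : ℕ) < n - k), ε i = Sum.inl ⟨i, hi⟩ := by
      intro i hi
      simp only [ε, Equiv.trans_apply]
      rw [Equiv.symm_apply_eq]
      ext
      simp
    let A' : Matrix (Fin (n - k) ⊕ Fin (n - (n - k))) (Fin n) R :=
      Matrix.of (Sum.elim (fun b => z b) (fun c => Pi.single (g c) 1))
    let P' : Matrix (Fin n) (Fin (n - k) ⊕ Fin (n - (n - k))) R :=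
      Matrix.of fun l => Sum.elim (fun a => if l = e a then 1 else 0)
        (fun c => if l = g c then 1 else 0)
    have hprod : A' * P' = Matrix.fromBlocks (Matrix.of fun b a => z b (e a))
        (Matrix.of fun b c => z b (g c)) 0 1 := by
      ext (b | c) (a | c')
      · simp [A', P', Matrix.mul_apply]
      · simp [A', P', Matrix.mul_apply]
      · simp [A', P', Matrix.mul_apply, Pi.single_apply, hge']
      · simp [A', P', Matrix.mul_apply, Pi.single_apply, Matrix.one_apply, hg.eq_iff, eq_comm]
    have hdet : (A'.submatrix ε id).det * (P'.submatrix id ε).det =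
        (Matrix.of fun a b => z b (e a)).det := by
      rw [← det_mul]
      have h1 : A'.submatrix ε id * P'.submatrix id ε = (A' * P').submatrix ε ε := by
        ext i j
        simp [Matrix.mul_apply]
      rw [h1, det_submatrix_equiv_self, hprod, det_fromBlocks_zero₂₁, det_one, mul_one,
        ← det_transpose]
      rfl
    rw [SetLike.mem_coe, ← hdet]
    apply Ideal.mul_mem_right
    apply Ideal.subset_span
    refine ⟨n, x, A'.submatrix ε id, hx, ?_, rfl⟩
    intro i hi
    have : (A'.submatrix ε id) i = z ⟨i, hi⟩ := by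
      funext j
      simp [A', hε i hi]
    simp only [this]
    exact hrel _
  · -- two equal rows
    rw [Function.Injective] at he
    push Not at he
    obtain ⟨a, a', haa', hne⟩ := he
    rw [det_zero_of_row_eq hne]
    · exact Ideal.zero_mem _
    · funext b
      simp [haa']

theorem fitt_eq_minorIdeal {n : ℕ} (x : Fin n → M)
    (hx : Submodule.span R (Set.range x) = ⊤) (k : ℕ) :
    Fitt.ideal R M k = minorIdeal x k :=
  le_antisymm ((fitt_le_detIdeal x hx k).trans (detIdeal_le_minorIdeal x k))
    (minorIdeal_le_fitt x hx k)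

theorem fitt_eq_detIdeal {n : ℕ} (x : Fin n → M)
    (hx : Submodule.span R (Set.range x) = ⊤) (k : ℕ) :
    Fitt.ideal R M k = detIdeal x k :=
  le_antisymm (fitt_le_detIdeal x hx k)
    ((detIdeal_le_minorIdeal x k).trans (minorIdeal_le_fitt x hx k))

end FittH8
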