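import Mathlib
import Groth.Prelude.Def_Fitting
import Groth.Agent.Lib.Fitt2_helper8

/-!
# Fitting ideals: multilinearity, finite generation, functoriality (helper8)
APPEND-ONLY once landed.
-/

set_option autoImplicit false

namespace FittH8

open Matrix

universe u v w

variable {R : Type u} [CommRing R] {M : Type v} [AddCommGroup M] [Module R M]

/-- A multilinear map with values in `R` that sends families from `W` into an ideal sends
families from the span of `W` into that ideal. -/
theorem multilinear_mem_of_span {ι : Type*} [Fintype ι] [DecidableEq ι] {N : Type*}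
    [AddCommGroup N] [Module R N] (f : MultilinearMap R (fun _ : ι => N) R) (W : Set N)
    (I : Ideal R) (hW : ∀ w : ι → N, (∀ i, w i ∈ W) → f w ∈ I) :
    ∀ z : ι → N, (∀ i, z i ∈ Submodule.span R W) → f z ∈ I := by
  classical
  suffices H : ∀ (T : Finset ι) (z : ι → N), (∀ i ∈ T, z i ∈ Submodule.span R W) →
      (∀ i, i ∉ T → z i ∈ W) → f z ∈ I by
    intro z hz
    exact H Finset.univ z (fun i _ => hz i) (fun i hi => absurd (Finset.mem_univ i) hi)
  intro T
  induction T using Finset.induction_on with
  | empty =>
    intro z _ hz
    exact hW z (fun i => hz i (Finset.notMem_empty i))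
  | insert i₀ T hi₀ IH =>
    intro z hzT hz
    have key : ∀ v ∈ Submodule.span R W, f (Function.update z i₀ v) ∈ I := by
      intro v hv
      induction hv using Submodule.span_induction with
      | mem v hv =>
        apply IH
        · intro i hi
          have hne : i ≠ i₀ := fun h => hi₀ (h ▸ hi)
          rw [Function.update_of_ne hne]
          exact hzT i (Finset.mem_insert_of_mem hi)
        · intro i hi
          by_cases hii : i = i₀
          · subst hii
            rw [Function.update_self]
            exact hv
          · rw [Function.update_of_ne hii]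
            exact hz i (fun h => by
              rcases Finset.mem_insert.mp h with h | h
              · exact hii h
              · exact hi h)
      | zero =>
        rw [f.map_update_zero]
        exact I.zero_mem
      | add v w _ _ hv hw =>
        rw [f.map_update_add]
        exact I.add_mem hv hw
      | smul c v _ hv =>
        rw [f.map_update_smul]
        exact I.mul_mem_left c hv
    have := key (z i₀) (hzT i₀ (Finset.mem_insert_self _ _))
    rwa [Function.update_eq_self] at this

/-- The minor with column selection `e`, as a multilinear map of the rows. -/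
noncomputable def minorMultilinear {n m : ℕ} (e : Fin m → Fin n) :
    MultilinearMap R (fun _ : Fin m => Fin n → R) R :=
  (Matrix.detRowAlternating (R := R) (n := Fin m)).toMultilinearMap.compLinearMap
    (fun _ => LinearMap.funLeft R R e)

theorem minorMultilinear_apply {n m : ℕ} (e : Fin m → Fin n) (z : Fin m → Fin n → R) :
    minorMultilinear e z = (Matrix.of fun a b => z b (e a)).det := by
  rw [← det_transpose]
  rfl

/-- Minors of relation matrices are generated by minors of matrices with rows in a spanning set. -/
theorem minor_mem_of_span {n m : ℕ} (W : Set (Fin n → R)) (I : Ideal R)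
    (hW : ∀ (w : Fin m → Fin n → R) (e : Fin m → Fin n), (∀ b, w b ∈ W) →
      (Matrix.of fun a b => w b (e a)).det ∈ I)
    (z : Fin m → Fin n → R) (hz : ∀ b, z b ∈ Submodule.span R W) (e : Fin m → Fin n) :
    (Matrix.of fun a b => z b (e a)).det ∈ I := by
  rw [← minorMultilinear_apply]
  apply multilinear_mem_of_span (minorMultilinear e) W I _ z hz
  intro w hw
  rw [minorMultilinear_apply]
  exact hW w e hw

theorem detIdeal_eq_top {ι : Type w} [Fintype ι] [DecidableEq ι] (x : ι → M) (k : ℕ)
    (h : Fintype.card ι ≤ k) : detIdeal (R := R) x k = ⊤ := by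
  rw [Ideal.eq_top_iff_one]
  apply Ideal.subset_span
  exact ⟨1, ∅, by simpa using h, by simp, by simp⟩

theorem detIdeal_le_map {ι : Type w} [Fintype ι] [DecidableEq ι] {M' : Type*} [AddCommGroup M']
    [Module R M'] (f : M →ₗ[R] M') (x : ι → M) (k : ℕ) :
    detIdeal (R := R) x k ≤ detIdeal (f ∘ x) k := by
  apply Ideal.span_mono
  rintro d ⟨a, s, hs, hrel, rfl⟩
  refine ⟨a, s, hs, fun i hi => ?_, rfl⟩
  have := congrArg f (hrel i hi)
  simpa [map_sum] using this

theorem fitt_le_of_surjective {M' : Type*} [AddCommGroup M'] [Module R M'] [Module.Finite R M]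
    (f : M →ₗ[R] M') (hf : Function.Surjective f) (k : ℕ) :
    Fitt.ideal R M k ≤ Fitt.ideal R M' k := by
  obtain ⟨n, x, hx⟩ := Module.Finite.exists_fin (R := R) (M := M)
  have hx' : Submodule.span R (Set.range (f ∘ x)) = ⊤ := by
    rw [Set.range_comp, ← Submodule.map_span, hx, Submodule.map_top, LinearMap.range_eq_top.mpr hf]
  rw [fitt_eq_detIdeal x hx k, fitt_eq_detIdeal (f ∘ x) hx' k]
  exact detIdeal_le_map f x k

theorem fitt_eq_of_linearEquiv {M' : Type*} [AddCommGroup M'] [Module R M'] [Module.Finite R M]
    (f : M ≃ₗ[R] M') (k : ℕ) : Fitt.ideal R M k = Fitt.ideal R M' k := by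
  haveI : Module.Finite R M' := Module.Finite.equiv f
  exact le_antisymm (fitt_le_of_surjective f.toLinearMap f.surjective k)
    (fitt_le_of_surjective f.symm.toLinearMap f.symm.surjective k)

theorem fitt_eq_top_of_span {n : ℕ} (x : Fin n → M) (hx : Submodule.span R (Set.range x) = ⊤)
    (k : ℕ) (hk : n ≤ k) : Fitt.ideal R M k = ⊤ := by
  rw [fitt_eq_detIdeal x hx k]
  exact detIdeal_eq_top x k (by simpa using hk)

/-- Fitting ideals of a finitely presented module are finitely generated. -/
theorem fitt_fg [Module.FinitePresentation R M] (k : ℕ) : (Fitt.ideal R M k).FG := by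
  classical
  obtain ⟨n, x, hx⟩ := Module.Finite.exists_fin (R := R) (M := M)
  have hsurj : Function.Surjective (Fintype.linearCombination R x) := by
    rw [← LinearMap.range_eq_top, Fintype.range_linearCombination, hx]
  have hK := Module.FinitePresentation.fg_ker (Fintype.linearCombination R x) hsurj
  obtain ⟨r, w, hw⟩ := Submodule.fg_iff_exists_fin_generating_family.mp hK
  let F : (Fin (n - k) → Fin r) × (Fin (n - k) → Fin n) → R :=
    fun te => (Matrix.of fun a b => w (te.1 b) (te.2 a)).det
  have hrelw : ∀ l, ∑ i, w l i • x i = 0 := by
    intro l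
    have : w l ∈ LinearMap.ker (Fintype.linearCombination R x) := by
      rw [← hw]
      exact Submodule.subset_span ⟨l, rfl⟩
    simpa [Fintype.linearCombination_apply] using this
  have heq : Fitt.ideal R M k = Ideal.span (Set.range F) := by
    rw [fitt_eq_minorIdeal x hx k]
    apply le_antisymm
    · apply Ideal.span_le.mpr
      rintro d ⟨z, e, hrel, rfl⟩
      apply minor_mem_of_span (Set.range w) _ _ z _ e
      · intro w' e' hw'
        choose t ht using hw'
        apply Ideal.subset_span
        refine ⟨(t, e'), ?_⟩
        simp only [F, ht]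
      · intro b
        rw [hw]
        simpa [Fintype.linearCombination_apply] using hrel b
    · apply Ideal.span_le.mpr
      rintro d ⟨⟨t, e⟩, rfl⟩
      apply Ideal.subset_span
      exact ⟨fun b => w (t b), e, fun j => hrelw (t j), rfl⟩
  rw [heq]
  exact Submodule.fg_span (Set.finite_range F)

end FittH8
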