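import Mathlib
import Groth.Prelude.Def_Fitting
import Groth.Agent.Lib.Fitt3_helper8

/-!
# Fitting ideals: base change (helper8)
APPEND-ONLY once landed.
-/

set_option autoImplicit false

namespace FittH8

open Matrix TensorProduct

universe u v w

variable {R : Type u} [CommRing R] {M : Type v} [AddCommGroup M] [Module R M]
variable (R' : Type w) [CommRing R'] [Algebra R R']

theorem span_one_tmul_eq_top {n : ℕ} (x : Fin n → M) (hx : Submodule.span R (Set.range x) = ⊤) :
    Submodule.span R' (Set.range fun i => (1 : R') ⊗ₜ[R] x i) = ⊤ := by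
  have h1 := Submodule.baseChange_span (R := R) (A := R') (Set.range x)
  rw [hx, Submodule.baseChange_top] at h1
  rw [h1]
  congr 1
  ext t
  simp

theorem lTensor_linearCombination {n : ℕ} (x : Fin n → M) (t : R' ⊗[R] (Fin n → R)) :
    LinearMap.lTensor R' (Fintype.linearCombination R x) t =
      ∑ i, (TensorProduct.piScalarRight R R' R' (Fin n) t) i • ((1 : R') ⊗ₜ[R] x i) := by
  induction t using TensorProduct.induction_on with
  | zero => simp
  | tmul r v =>
    rw [LinearMap.lTensor_tmul, Fintype.linearCombination_apply, TensorProduct.tmul_sum]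
    refine Finset.sum_congr rfl (fun i _ => ?_)
    rw [TensorProduct.piScalarRight_apply, TensorProduct.piScalarRightHom_tmul,
      TensorProduct.smul_tmul', TensorProduct.tmul_smul, TensorProduct.smul_tmul', smul_eq_mul,
      mul_one]
  | add a b ha hb =>
    rw [map_add, ha, hb, map_add, ← Finset.sum_add_distrib]
    refine Finset.sum_congr rfl (fun i _ => ?_)
    rw [Pi.add_apply, add_smul]

/-- Relations among the `1 ⊗ x i` are spanned by the images of the relations among the `x i`. -/
theorem rel_baseChange_mem_span {n : ℕ} (x : Fin n → M)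
    (hx : Submodule.span R (Set.range x) = ⊤) (z' : Fin n → R')
    (hz' : ∑ i, z' i • ((1 : R') ⊗ₜ[R] x i) = 0) :
    z' ∈ Submodule.span R' {w : Fin n → R' | ∃ κ : Fin n → R, (∑ i, κ i • x i = 0) ∧
      w = fun i => algebraMap R R' (κ i)} := by
  set g := Fintype.linearCombination R x with hg
  set W := {w : Fin n → R' | ∃ κ : Fin n → R, (∑ i, κ i • x i = 0) ∧
      w = fun i => algebraMap R R' (κ i)} with hW
  let Φ := TensorProduct.piScalarRight R R' R' (Fin n)
  have hsurj : Function.Surjective g := by
    rw [← LinearMap.range_eq_top, hg, Fintype.range_linearCombination, hx]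
  have hexact : Function.Exact (LinearMap.ker g).subtype g := by
    intro v
    simp
  have hex2 := lTensor_exact R' hexact hsurj
  have h0 : LinearMap.lTensor R' g (Φ.symm z') = 0 := by
    rw [lTensor_linearCombination]
    simpa [Φ] using hz'
  obtain ⟨u, hu⟩ := (hex2 (Φ.symm z')).mp h0
  have key : ∀ u : R' ⊗[R] (LinearMap.ker g),
      Φ (LinearMap.lTensor R' (LinearMap.ker g).subtype u) ∈ Submodule.span R' W := by
    intro u
    induction u using TensorProduct.induction_on with
    | zero => simp
    | tmul r κ =>
      rw [LinearMap.lTensor_tmul]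
      have h1 : Φ (r ⊗ₜ[R] ((LinearMap.ker g).subtype κ)) =
          r • (fun i => algebraMap R R' ((κ : Fin n → R) i)) := by
        funext i
        simp only [Φ, TensorProduct.piScalarRight_apply, TensorProduct.piScalarRightHom_tmul,
          Submodule.subtype_apply, Pi.smul_apply, smul_eq_mul, Algebra.smul_def]
        rw [mul_comm]
      rw [h1]
      apply Submodule.smul_mem
      apply Submodule.subset_span
      refine ⟨κ, ?_, rfl⟩
      have := κ.2
      rw [LinearMap.mem_ker] at this
      rw [← Fintype.linearCombination_apply R x]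
      exact this
    | add a b ha hb =>
      rw [map_add, map_add]
      exact Submodule.add_mem _ ha hb
  have := key u
  rwa [hu, LinearEquiv.apply_symm_apply] at this

theorem algebraMap_minor {n m : ℕ} (z : Fin m → Fin n → R) (e : Fin m → Fin n) :
    algebraMap R R' (Matrix.of fun a b => z b (e a)).det =
      (Matrix.of fun a b => algebraMap R R' (z b (e a))).det := by
  rw [RingHom.map_det]
  rfl

/-- **Base change of Fitting ideals.** -/
theorem fitt_baseChange [Module.Finite R M] (k : ℕ) :
    Fitt.ideal R' (R' ⊗[R] M) k = (Fitt.ideal R M k).map (algebraMap R R') := by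
  obtain ⟨n, x, hx⟩ := Module.Finite.exists_fin (R := R) (M := M)
  have hy := span_one_tmul_eq_top R' x hx
  rw [fitt_eq_minorIdeal (fun i => (1 : R') ⊗ₜ[R] x i) hy k, fitt_eq_minorIdeal x hx k]
  apply le_antisymm
  · apply Ideal.span_le.mpr
    rintro d ⟨z', e, hrel, rfl⟩
    apply minor_mem_of_span {w : Fin n → R' | ∃ κ : Fin n → R, (∑ i, κ i • x i = 0) ∧
      w = fun i => algebraMap R R' (κ i)} _ _ z' _ e
    · intro w' e' hw'
      choose κ hκ hκ' using hw'
      have h1 : (Matrix.of fun a b => w' b (e' a)).det =
          algebraMap R R' (Matrix.of fun a b => κ b (e' a)).det := by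
        rw [algebraMap_minor]
        congr 1
        ext a b
        simp [hκ' b]
      rw [h1]
      apply Ideal.mem_map_of_mem
      apply Ideal.subset_span
      exact ⟨κ, e', hκ, rfl⟩
    · intro b
      exact rel_baseChange_mem_span R' x hx (z' b) (hrel b)
  · rw [minorIdeal, Ideal.map_span]
    apply Ideal.span_le.mpr
    rintro _ ⟨d, ⟨z, e, hrel, rfl⟩, rfl⟩
    apply Ideal.subset_span
    refine ⟨fun b i => algebraMap R R' (z b i), e, fun j => ?_, algebraMap_minor R' z e⟩
    have h1 : ∀ i, algebraMap R R' (z j i) • ((1 : R') ⊗ₜ[R] x i) = (1 : R') ⊗ₜ[R] (z j i • x i) := by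
      intro i
      rw [TensorProduct.smul_tmul', TensorProduct.tmul_smul, TensorProduct.smul_tmul',
        smul_eq_mul, mul_one, Algebra.smul_def, mul_one]
    simp only [h1]
    rw [← TensorProduct.tmul_sum, hrel j, TensorProduct.tmul_zero]

end FittH8
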