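import Mathlib
import Groth.Prelude.Def_Fitting
import Groth.Agent.Lib.Fitt4_helper8

/-!
# Fitting ideals: number of local generators, free modules (helper8)
APPEND-ONLY once landed.
-/

set_option autoImplicit false

namespace FittH8

open Matrix TensorProduct

universe u v w

section Pad

variable {A : Type u} [CommRing A] {N : Type v} [AddCommGroup N] [Module A N]

/-- A spanning family indexed by a finset of cardinality at most `k` can be reindexed (padding
with zeros) by `Fin k`. -/
theorem exists_fin_of_finset {ι : Type*} (S : Finset ι) (y : ι → N) (k : ℕ) (hS : S.card ≤ k)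
    (h : Submodule.span A (y '' (S : Set ι)) = ⊤) :
    ∃ g : Fin k → N, Submodule.span A (Set.range g) = ⊤ := by
  classical
  let eq : S ≃ Fin S.card := S.equivFin
  refine ⟨fun j => if hj : (j : ℕ) < S.card then y (eq.symm ⟨j, hj⟩) else 0, ?_⟩
  rw [eq_top_iff, ← h]
  apply Submodule.span_mono
  rintro _ ⟨i, hi, rfl⟩
  refine ⟨Fin.castLE hS (eq ⟨i, hi⟩), ?_⟩
  have : ((Fin.castLE hS (eq ⟨i, hi⟩) : Fin k) : ℕ) < S.card := by simp
  simp only [this, dif_pos]
  simp

/-- If some maximal minor of a matrix of relations among a spanning family `y : Fin n → N` is a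
unit, then `N` is spanned by `k` elements, where the relation matrix has `n - k` rows. -/
theorem exists_fin_span_of_isUnit_minor {n k : ℕ} (y : Fin n → N)
    (hy : Submodule.span A (Set.range y) = ⊤) (z : Fin (n - k) → Fin n → A)
    (e : Fin (n - k) → Fin n) (hrel : ∀ b, ∑ i, z b i • y i = 0)
    (hd : IsUnit (Matrix.of fun a b => z b (e a)).det) :
    ∃ g : Fin k → N, Submodule.span A (Set.range g) = ⊤ := by
  classical
  by_cases he : Function.Injective e
  · let S : Finset (Fin n) := Finset.univ \ Finset.univ.image e
    have hScard : S.card ≤ k := by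
      rw [Finset.card_sdiff_of_subset (Finset.subset_univ _), Finset.card_image_of_injective _ he]
      simp
      omega
    apply exists_fin_of_finset S y k hScard
    set L := Submodule.span A (y '' (S : Set (Fin n))) with hL
    let B : Matrix (Fin (n - k)) (Fin (n - k)) A := Matrix.of fun b a => z b (e a)
    have hBdet : IsUnit B.det := by
      have : B = (Matrix.of fun a b => z b (e a))ᵀ := rfl
      rw [this, det_transpose]
      exact hd
    -- each row relation gives an element of `L`
    have hrow : ∀ b, ∑ a, B b a • y (e a) ∈ L := by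
      intro b
      have h1 := hrel b
      rw [← Finset.sum_sdiff (Finset.subset_univ (Finset.univ.image e)),
        Finset.sum_image (fun a _ a' _ h => he h)] at h1
      have h2 : ∑ a, B b a • y (e a) = - ∑ i ∈ S, z b i • y i := by
        rw [eq_neg_iff_add_eq_zero, add_comm]
        exact h1
      rw [h2]
      apply Submodule.neg_mem
      apply Submodule.sum_mem
      intro i hi
      apply Submodule.smul_mem
      exact Submodule.subset_span ⟨i, hi, rfl⟩
    have hmem : ∀ a, y (e a) ∈ L := by
      intro a
      have h1 : B.det • y (e a) = ∑ b, B.adjugate a b • ∑ a', B b a' • y (e a') := by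
        have h2 : ∀ a', (B.adjugate * B) a a' = ∑ b, B.adjugate a b * B b a' := fun a' => rfl
        simp_rw [Finset.smul_sum, smul_smul]
        rw [Finset.sum_comm]
        simp_rw [← Finset.sum_smul, ← h2, Matrix.adjugate_mul, Matrix.smul_apply,
          Matrix.one_apply, smul_eq_mul, mul_ite, mul_one, mul_zero]
        simp
      have h3 : B.det • y (e a) ∈ L := by
        rw [h1]
        apply Submodule.sum_mem
        intro b _
        exact Submodule.smul_mem _ _ (hrow b)
      obtain ⟨u, hu⟩ := hBdet
      have := Submodule.smul_mem L (↑u⁻¹ : A) h3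
      rwa [← hu, smul_smul, Units.inv_mul, one_smul] at this
    rw [eq_top_iff, ← hy]
    apply Submodule.span_le.mpr
    rintro _ ⟨i, rfl⟩
    by_cases hi : i ∈ Finset.univ.image e
    · obtain ⟨a, -, rfl⟩ := Finset.mem_image.mp hi
      exact hmem a
    · exact Submodule.subset_span ⟨i, Finset.mem_sdiff.mpr ⟨Finset.mem_univ _, hi⟩, rfl⟩
  · -- then the minor vanishes, so `A` is trivial
    rw [Function.Injective] at he
    push Not at he
    obtain ⟨a, a', haa', hne⟩ := he
    have h0 : (Matrix.of fun a b => z b (e a)).det = 0 := by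
      apply det_zero_of_row_eq hne
      funext b
      simp [haa']
    rw [h0] at hd
    haveI : Subsingleton A := subsingleton_of_zero_eq_one (isUnit_zero_iff.mp hd)
    haveI : Subsingleton N := Module.subsingleton A N
    exact ⟨fun _ => 0, Subsingleton.elim _ _⟩

end Pad

section Local

variable {R : Type u} [CommRing R] {M : Type v} [AddCommGroup M] [Module R M]

theorem exists_minor_notMem {n : ℕ} (x : Fin n → M) (hx : Submodule.span R (Set.range x) = ⊤)
    (k : ℕ) (p : Ideal R) (hp : ¬ Fitt.ideal R M k ≤ p) :
    ∃ (z : Fin (n - k) → Fin n → R) (e : Fin (n - k) → Fin n), (∀ j, ∑ i, z j i • x i = 0) ∧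
      (Matrix.of fun a b => z b (e a)).det ∉ p := by
  by_contra hcon
  push Not at hcon
  apply hp
  rw [fitt_eq_minorIdeal x hx k]
  apply Ideal.span_le.mpr
  rintro d ⟨z, e, hrel, rfl⟩
  exact hcon z e hrel

theorem exists_fin_span_of_minor {n : ℕ} (x : Fin n → M)
    (hx : Submodule.span R (Set.range x) = ⊤) (k : ℕ)
    (z : Fin (n - k) → Fin n → R) (e : Fin (n - k) → Fin n) (hrel : ∀ j, ∑ i, z j i • x i = 0)
    (A : Type w) [CommRing A] [Algebra R A] (N : Type*) [AddCommGroup N] [Module R N] [Module A N]
    [IsScalarTower R A N] (φ : M →ₗ[R] N) (hφ : Submodule.span A (Set.range φ) = ⊤)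
    (hunit : IsUnit (algebraMap R A (Matrix.of fun a b => z b (e a)).det)) :
    ∃ g : Fin k → N, Submodule.span A (Set.range g) = ⊤ := by
  apply exists_fin_span_of_isUnit_minor (fun i => φ (x i)) ?_ (fun b i => algebraMap R A (z b i)) e
  · intro b
    have := congrArg φ (hrel b)
    simpa [map_sum, algebraMap_smul] using this
  · rw [← algebraMap_minor]
    exact hunit
  · rw [eq_top_iff, ← hφ]
    apply Submodule.span_le.mpr
    rintro _ ⟨m, rfl⟩
    have hm : m ∈ Submodule.span R (Set.range x) := by rw [hx]; trivial
    have h1 : φ m ∈ Submodule.span R (φ '' Set.range x) := by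
      rw [← Submodule.map_span]
      exact Submodule.mem_map_of_mem hm
    have h2 : φ '' Set.range x = Set.range fun i => φ (x i) := by
      ext t
      simp
    rw [h2] at h1
    exact Submodule.span_subset_span R A _ h1

/-- If a localization of `M` (at a submonoid disjoint from `p`) is spanned by `k` elements, then
`Fit_k(M)` is not contained in `p`. -/
theorem fitt_not_le_of_span [Module.Finite R M] (k : ℕ) (p : Ideal R) (S : Submonoid R)
    (hS : Disjoint (S : Set R) (p : Set R))
    (A : Type w) [CommRing A] [Algebra R A] [IsLocalization S A] (N : Type*) [AddCommGroup N]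
    [Module R N] [Module A N] [IsScalarTower R A N] (φ : M →ₗ[R] N) [IsLocalizedModule S φ]
    (g : Fin k → N) (hg : Submodule.span A (Set.range g) = ⊤) :
    ¬ Fitt.ideal R M k ≤ p := by
  intro hle
  have h1 : Fitt.ideal A N k = ⊤ := fitt_eq_top_of_span g hg k le_rfl
  have hbc := IsLocalizedModule.isBaseChange S A φ
  have h2 : Fitt.ideal A (A ⊗[R] M) k = Fitt.ideal A N k :=
    fitt_eq_of_linearEquiv hbc.equiv k
  rw [fitt_baseChange A k, h1] at h2
  have h3 : (Fitt.ideal R M k).map (algebraMap R A) ≤ p.map (algebraMap R A) := Ideal.map_mono hle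
  rw [h2, top_le_iff] at h3
  exact (IsLocalization.map_algebraMap_ne_top_iff_disjoint S A p).mpr hS h3

end Local

section Free

variable {R : Type u} [CommRing R] {M : Type v} [AddCommGroup M] [Module R M]

theorem fitt_of_basis_of_le {d : ℕ} (b : Module.Basis (Fin d) R M) (k : ℕ) (h : d ≤ k) :
    Fitt.ideal R M k = ⊤ :=
  fitt_eq_top_of_span b b.span_eq k h

theorem fitt_of_basis_of_lt {d : ℕ} (b : Module.Basis (Fin d) R M) (k : ℕ) (h : k < d) :
    Fitt.ideal R M k = ⊥ := by
  rw [fitt_eq_minorIdeal b b.span_eq k, eq_bot_iff]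
  apply Ideal.span_le.mpr
  rintro t ⟨z, e, hrel, rfl⟩
  have hz : ∀ j i, z j i = 0 := by
    intro j
    exact Fintype.linearIndependent_iff.mp b.linearIndependent (z j) (hrel j)
  have h0 : (Matrix.of fun a b' => z b' (e a)) = (0 : Matrix (Fin (d - k)) (Fin (d - k)) R) := by
    ext a b'
    simp [hz]
  haveI : Nonempty (Fin (d - k)) := ⟨⟨0, by omega⟩⟩
  rw [h0, det_zero]
  exact Ideal.zero_mem _

end Free

end FittH8
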