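import Mathlib
import Groth.Prelude.Def_Fitting
import Groth.Agent.Lib.Fitt5_helper8

/-!
# Fitting ideals: localization and local freeness (helper8)
APPEND-ONLY once landed.
-/

set_option autoImplicit false

namespace FittH8

open Matrix TensorProduct

universe u v w

variable {R : Type u} [CommRing R] {M : Type v} [AddCommGroup M] [Module R M]

/-- Fitting ideals commute with localization. -/
theorem fitt_localization [Module.Finite R M] (S : Submonoid R)
    (A : Type w) [CommRing A] [Algebra R A] [IsLocalization S A] (N : Type*) [AddCommGroup N]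
    [Module R N] [Module A N] [IsScalarTower R A N] (φ : M →ₗ[R] N) [IsLocalizedModule S φ]
    (k : ℕ) : Fitt.ideal A N k = (Fitt.ideal R M k).map (algebraMap R A) := by
  rw [← fitt_baseChange A k]
  exact (fitt_eq_of_linearEquiv (IsLocalizedModule.isBaseChange S A φ).equiv k).symm

/-- A spanning family of `r ≥ 1` elements of a module whose `(r-1)`-st Fitting ideal vanishes is
linearly independent. -/
theorem linearIndependent_of_fitt_eq_bot {r : ℕ} (g : Fin r → M)
    (hg : Submodule.span R (Set.range g) = ⊤) (hr : 0 < r) (h : Fitt.ideal R M (r - 1) = ⊥) :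
    LinearIndependent R g := by
  classical
  rw [Fintype.linearIndependent_iff]
  intro z hz j
  have hmem : z j ∈ Fitt.ideal R M (r - 1) := by
    rw [fitt_eq_detIdeal g hg (r - 1)]
    apply Ideal.subset_span
    refine ⟨(1 : Matrix (Fin r) (Fin r) R).updateRow j z, {j}, ?_, ?_, ?_⟩
    · simp
      omega
    · intro i hi
      rw [Finset.mem_singleton] at hi
      subst hi
      simpa using hz
    · rw [← cramer_transpose_apply, transpose_one, cramer_one]
      rfl
  rw [h] at hmem
  exact hmem

theorem nontrivial_away_of_notMem (p : Ideal R) [p.IsPrime] (d : R) (hd : d ∉ p) :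
    Nontrivial (Localization.Away d) := by
  by_contra hcon
  rw [not_nontrivial_iff_subsingleton] at hcon
  have h0 : algebraMap R (Localization.Away d) 1 = 0 := Subsingleton.elim _ _
  rw [IsLocalization.map_eq_zero_iff (Submonoid.powers d)] at h0
  obtain ⟨⟨_, m, rfl⟩, hm⟩ := h0
  simp only [mul_one] at hm
  have : d ^ m ∈ p := by rw [hm]; exact p.zero_mem
  exact hd (Ideal.IsPrime.mem_of_pow_mem inferInstance m this)

/-- A module with `Fit_r ⊄ p` and `Fit_{r-1} = 0` is free of rank `r` on a basic open
neighbourhood of `p`. -/
theorem exists_free_of_fitt [Module.Finite R M] (r : ℕ) (p : Ideal R) [p.IsPrime]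
    (h1 : ∀ k, k < r → Fitt.ideal R M k = ⊥) (h2 : ¬ Fitt.ideal R M r ≤ p) :
    ∃ f : R, f ∉ p ∧
      Module.Free (Localization.Away f) (LocalizedModule (Submonoid.powers f) M) ∧
        Module.finrank (Localization.Away f) (LocalizedModule (Submonoid.powers f) M) = r := by
  classical
  obtain ⟨n, x, hx⟩ := Module.Finite.exists_fin (R := R) (M := M)
  obtain ⟨z, e, hrel, hd⟩ := exists_minor_notMem x hx r p h2
  obtain ⟨d, hdd⟩ : ∃ d, d = (Matrix.of fun a b => z b (e a)).det := ⟨_, rfl⟩
  rw [← hdd] at hd
  refine ⟨d, hd, ?_⟩
  obtain ⟨g, hg⟩ := exists_fin_span_of_minor x hx r z e hrel (Localization.Away d)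
    (LocalizedModule (Submonoid.powers d) M) (LocalizedModule.mkLinearMap (Submonoid.powers d) M)
    (by
      have := span_eq_top_of_isLocalizedModule (Localization.Away d) (Submonoid.powers d)
        (LocalizedModule.mkLinearMap (Submonoid.powers d) M) (v := Set.univ) (by simp)
      rw [Set.image_univ] at this
      exact this)
    (by
      rw [← hdd]
      exact IsLocalization.map_units (Localization.Away d) ⟨d, Submonoid.mem_powers d⟩)
  haveI := nontrivial_away_of_notMem p d hd
  rcases Nat.eq_zero_or_pos r with hr0 | hrpos
  · subst hr0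
    haveI : Subsingleton (LocalizedModule (Submonoid.powers d) M) := by
      rw [← Submodule.subsingleton_iff (Localization.Away d), ← subsingleton_iff_bot_eq_top, ← hg]
      simp
    exact ⟨inferInstance, Module.finrank_zero_of_subsingleton⟩
  · have hfit : Fitt.ideal (Localization.Away d) (LocalizedModule (Submonoid.powers d) M) (r - 1)
        = ⊥ := by
      rw [fitt_localization (Submonoid.powers d) (Localization.Away d) _
        (LocalizedModule.mkLinearMap (Submonoid.powers d) M), h1 (r - 1) (by omega), Ideal.map_bot]
    have hli := linearIndependent_of_fitt_eq_bot g hg hrpos hfit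
    let b := Module.Basis.mk hli hg.ge
    refine ⟨Module.Free.of_basis b, ?_⟩
    rw [Module.finrank_eq_card_basis b, Fintype.card_fin]

/-- **Finite locally free of rank `r`** in terms of Fitting ideals. -/
theorem locally_free_iff_fitt [Module.Finite R M] (r : ℕ) :
    (∀ (p : Ideal R) [p.IsPrime], ∃ f : R, f ∉ p ∧
      Module.Free (Localization.Away f) (LocalizedModule (Submonoid.powers f) M) ∧
        Module.finrank (Localization.Away f) (LocalizedModule (Submonoid.powers f) M) = r) ↔
    ((∀ k, k < r → Fitt.ideal R M k = ⊥) ∧ (∀ k, r ≤ k → Fitt.ideal R M k = ⊤)) := by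
  classical
  constructor
  · intro h
    constructor
    · intro k hk
      rw [eq_bot_iff]
      intro a ha
      by_contra ha0
      have ha0' : a ≠ 0 := ha0
      let I : Ideal R := LinearMap.ker (LinearMap.toSpanSingleton R R a)
      have hI : I ≠ ⊤ := by
        intro hI
        have : (1 : R) ∈ I := by rw [hI]; trivial
        simp [I] at this
        exact ha0' this
      obtain ⟨p, hpmax, hIp⟩ := Ideal.exists_le_maximal I hI
      haveI := hpmax.isPrime
      obtain ⟨f, hf, hfree, hfr⟩ := h p
      haveI := hfree
      haveI := nontrivial_away_of_notMem p f hf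
      let b := Module.finBasis (Localization.Away f) (LocalizedModule (Submonoid.powers f) M)
      have hfit := fitt_of_basis_of_lt b k (by rw [hfr]; exact hk)
      rw [fitt_localization (Submonoid.powers f) (Localization.Away f) _
        (LocalizedModule.mkLinearMap (Submonoid.powers f) M)] at hfit
      have h0 : algebraMap R (Localization.Away f) a = 0 := by
        have : algebraMap R (Localization.Away f) a ∈
            (Fitt.ideal R M k).map (algebraMap R (Localization.Away f)) :=
          Ideal.mem_map_of_mem _ ha
        rw [hfit] at this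
        exact this
      rw [IsLocalization.map_eq_zero_iff (Submonoid.powers f)] at h0
      obtain ⟨⟨_, m, rfl⟩, hm⟩ := h0
      have : f ^ m ∈ p := hIp (by simpa [I] using hm)
      exact hf (Ideal.IsPrime.mem_of_pow_mem inferInstance m this)
    · intro k hk
      by_contra hne
      obtain ⟨p, hpmax, hIp⟩ := Ideal.exists_le_maximal _ hne
      haveI := hpmax.isPrime
      obtain ⟨f, hf, hfree, hfr⟩ := h p
      haveI := hfree
      haveI := nontrivial_away_of_notMem p f hf
      let b := Module.finBasis (Localization.Away f) (LocalizedModule (Submonoid.powers f) M)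
      have hfit := fitt_of_basis_of_le b k (by rw [hfr]; exact hk)
      rw [fitt_localization (Submonoid.powers f) (Localization.Away f) _
        (LocalizedModule.mkLinearMap (Submonoid.powers f) M)] at hfit
      have h3 : (Fitt.ideal R M k).map (algebraMap R (Localization.Away f)) ≤
          p.map (algebraMap R (Localization.Away f)) := Ideal.map_mono hIp
      rw [hfit, top_le_iff] at h3
      refine (IsLocalization.map_algebraMap_ne_top_iff_disjoint (Submonoid.powers f)
        (Localization.Away f) p).mpr ?_ h3
      rw [Set.disjoint_left]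
      rintro a ⟨m, rfl⟩ ha
      exact hf (Ideal.IsPrime.mem_of_pow_mem inferInstance m ha)
  · rintro ⟨h1, h2⟩ p hp
    apply exists_free_of_fitt r p h1
    rw [h2 r le_rfl]
    exact fun h => hp.ne_top (top_le_iff.mp h)

end FittH8
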