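import Mathlib
import Groth.Prelude.Def_Fitting
import Groth.Agent.Lib.Fitt6_helper8

/-!
# Fitting ideals: vanishing from stalkwise freeness (helper8)
APPEND-ONLY once landed.
-/

set_option autoImplicit false

namespace FittH8

open Matrix TensorProduct

universe u v w

variable {R : Type u} [CommRing R] {M : Type v} [AddCommGroup M] [Module R M]

/-- If all stalks at maximal ideals are free of rank `k`, the Fitting ideals below `k` vanish. -/
theorem fitt_eq_bot_of_stalks_free [Module.Finite R M] (j k : ℕ) (hj : j < k)
    (h : ∀ (p : Ideal R) [p.IsMaximal],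
      Module.Free (Localization.AtPrime p) (LocalizedModule p.primeCompl M) ∧
        Module.finrank (Localization.AtPrime p) (LocalizedModule p.primeCompl M) = k) :
    Fitt.ideal R M j = ⊥ := by
  rw [eq_bot_iff]
  intro a ha
  apply eq_zero_of_localization
  intro J hJ
  obtain ⟨hfree, hfr⟩ := h J
  haveI := hfree
  let b := Module.finBasis (Localization.AtPrime J) (LocalizedModule J.primeCompl M)
  have hfit := fitt_of_basis_of_lt b j (by rw [hfr]; exact hj)
  rw [fitt_localization J.primeCompl (Localization.AtPrime J) _
    (LocalizedModule.mkLinearMap J.primeCompl M)] at hfit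
  have : algebraMap R (Localization.AtPrime J) a ∈
      (Fitt.ideal R M j).map (algebraMap R (Localization.AtPrime J)) :=
    Ideal.mem_map_of_mem _ ha
  rw [hfit] at this
  exact this

/-- Fitting ideals below the rank of a finite projective module of constant rank vanish. -/
theorem fitt_eq_bot_of_projective [Module.Finite R M] [Module.Projective R M] (j k : ℕ)
    (hj : j < k) (h : ∀ p : PrimeSpectrum R, Module.rankAtStalk M p = k) :
    Fitt.ideal R M j = ⊥ := by
  apply fitt_eq_bot_of_stalks_free j k hj
  intro p hp
  refine ⟨Module.free_of_flat_of_isLocalRing, ?_⟩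
  exact h ⟨p, hp.isPrime⟩

end FittH8
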