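import Mathlib
import Groth.Prelude.Def_Fitting
import Groth.Agent.Lib.Fitt7_helper8

/-!
# Fitting ideals: strict transforms (helper8)
APPEND-ONLY once landed.
-/

set_option autoImplicit false

namespace FittH8

open Matrix TensorProduct

universe u v w

variable {S : Type u} [CommRing S] {N : Type v} [AddCommGroup N] [Module S N]

/-- If `Fit_k(N) = (a)` with `a` a nonzerodivisor and `T` contains the `a`-torsion of `N`, then
`Fit_k(N ⧸ T) = ⊤`. -/
theorem fitt_quotient_torsion_eq_top [Module.Finite S N] (k : ℕ) (a : S)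
    (ha : a ∈ nonZeroDivisors S) (hfit : Fitt.ideal S N k = Ideal.span {a})
    (T : Submodule S N) (hT : ∀ x : N, a • x = 0 → x ∈ T) :
    Fitt.ideal S (N ⧸ T) k = ⊤ := by
  classical
  obtain ⟨n, y, hy⟩ := Module.Finite.exists_fin (R := S) (M := N)
  have hyq : Submodule.span S (Set.range (T.mkQ ∘ y)) = ⊤ := by
    rw [Set.range_comp, ← Submodule.map_span, hy, Submodule.map_top, Submodule.range_mkQ]
  have hcancel : ∀ c c' : S, a * c = a * c' → c = c' := by
    intro c c' h
    have h1 : (c - c') * a = 0 := by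
      rw [sub_mul, mul_comm c, mul_comm c', h, sub_self]
    exact sub_eq_zero.mp ((mem_nonZeroDivisors_iff.mp ha).2 _ h1)
  have hfit' := hfit
  rw [fitt_eq_minorIdeal y hy k] at hfit'
  set gens : Set S := {u | ∃ (z : Fin (n - k) → Fin n → S) (e : Fin (n - k) → Fin n),
    (∀ j, ∑ i, z j i • y i = 0) ∧ (Matrix.of fun a' b => z b (e a')).det = a * u} with hgens
  -- Step 1-2: the `u`'s generate the unit ideal
  have hJ : Ideal.span gens = ⊤ := by
    have h1 : minorIdeal (R := S) y k ≤ Ideal.span {a} * Ideal.span gens := by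
      apply Ideal.span_le.mpr
      rintro d ⟨z, e, hrel, rfl⟩
      have hmem : (Matrix.of fun a' b => z b (e a')).det ∈ Ideal.span {a} := by
        rw [← hfit']
        exact Ideal.subset_span ⟨z, e, hrel, rfl⟩
      obtain ⟨u, hu⟩ := Ideal.mem_span_singleton'.mp hmem
      have hu' : (Matrix.of fun a' b => z b (e a')).det = a * u := by rw [← hu, mul_comm]
      rw [SetLike.mem_coe, hu']
      exact Ideal.mul_mem_mul (Ideal.mem_span_singleton_self a)
        (Ideal.subset_span ⟨z, e, hrel, hu'⟩)
    have h2 : a ∈ Ideal.span {a} * Ideal.span gens := by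
      apply h1
      rw [hfit']
      exact Ideal.mem_span_singleton_self a
    obtain ⟨j, hj, hja⟩ := Ideal.mem_span_singleton_mul.mp h2
    have : j = 1 := hcancel j 1 (by rw [hja, mul_one])
    rw [Ideal.eq_top_iff_one, ← this]
    exact hj
  have hJs := Ideal.span_pow_eq_top gens hJ (n - k)
  rw [eq_top_iff, ← hJs, fitt_eq_minorIdeal (T.mkQ ∘ y) hyq k]
  apply Ideal.span_le.mpr
  rintro _ ⟨u, ⟨z, e, hrel, hdet⟩, rfl⟩
  -- Step 4
  let A : Matrix (Fin (n - k)) (Fin (n - k)) S := Matrix.of fun b a' => z b (e a')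
  have hAdet : A.det = a * u := by
    have : A = (Matrix.of fun a' b => z b (e a'))ᵀ := rfl
    rw [this, det_transpose, hdet]
  let w : Fin (n - k) → Fin n → S := fun a' j => ∑ b, A.adjugate a' b * z b j
  have hw_minor : ∀ a' j, w a' j ∈ Ideal.span {a} := by
    intro a' j
    have h1 : w a' j = (A.updateCol a' (fun b => z b j)).det := by
      rw [← cramer_apply, cramer_eq_adjugate_mulVec]
      rfl
    have h2 : A.updateCol a' (fun b => z b j) =
        (Matrix.of fun a'' b => z b ((Function.update e a' j) a''))ᵀ := by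
      ext b a''
      simp only [updateCol_apply, transpose_apply, of_apply, Function.update_apply, A]
      split_ifs <;> rfl
    rw [h1, h2, det_transpose, ← hfit']
    exact Ideal.subset_span ⟨z, _, hrel, rfl⟩
  choose W hW using fun a' j => Ideal.mem_span_singleton'.mp (hw_minor a' j)
  have hW' : ∀ a' j, a * W a' j = w a' j := fun a' j => by rw [mul_comm, hW]
  have hwrel : ∀ a', ∑ j, w a' j • y j = 0 := by
    intro a'
    simp only [w, Finset.sum_smul, mul_smul]
    rw [Finset.sum_comm]
    simp only [← Finset.smul_sum, hrel, smul_zero, Finset.sum_const_zero]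
  have hWrel : ∀ a', ∑ j, W a' j • (T.mkQ ∘ y) j = 0 := by
    intro a'
    have h1 : a • ∑ j, W a' j • y j = 0 := by
      rw [Finset.smul_sum]
      simp only [smul_smul, hW', hwrel]
    have h2 := hT _ h1
    simp only [Function.comp_apply, ← map_smul, ← map_sum]
    exact (Submodule.Quotient.mk_eq_zero T).mpr h2
  have hWe : ∀ a' a'', W a' (e a'') = if a' = a'' then u else 0 := by
    intro a' a''
    apply hcancel
    rw [hW']
    have h1 : w a' (e a'') = (A.adjugate * A) a' a'' := rfl
    rw [h1, adjugate_mul, hAdet]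
    simp [Matrix.one_apply]
  apply Ideal.subset_span
  refine ⟨W, e, hWrel, ?_⟩
  have h3 : (Matrix.of fun a'' a' => W a' (e a'')) = (u • (1 : Matrix (Fin (n - k)) (Fin (n - k)) S)) := by
    ext a'' a'
    simp [hWe, Matrix.one_apply, eq_comm]
  rw [h3, det_smul, det_one, mul_one, Fintype.card_fin]

end FittH8
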