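import Mathlib
import Groth.Prelude.Def_Fitting
import Groth.Prelude.Def_BlowUp2
import Groth.Prelude.Def_FlatCA
import Groth.Agent.Lib.Fitt8_helper8

/-!
# Affine blow-up algebras and strict transforms (helper8)
APPEND-ONLY once landed.
-/

set_option autoImplicit false

namespace FittH8

open Matrix TensorProduct

universe u

variable {R : Type u} [CommRing R] (I : Ideal R) (a : R)
  (R₁ : Type u) [CommRing R₁] [Algebra R R₁] (e : R₁ ≃ₐ[R] ↥(BlowUp.affineAlgebra R I a))

include e in
theorem blowup_algebraMap_mem_nonZeroDivisors : algebraMap R R₁ a ∈ nonZeroDivisors R₁ := by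
  rw [mem_nonZeroDivisors_iff]
  have key : ∀ t : R₁, t * algebraMap R R₁ a = 0 → t = 0 := by
    intro t ht
    have h1 := congrArg (fun s => ((e s : ↥(BlowUp.affineAlgebra R I a)) : Localization.Away a)) ht
    simp only [map_mul, AlgEquiv.commutes, map_zero, Subalgebra.coe_mul, Subalgebra.coe_algebraMap,
      ZeroMemClass.coe_zero] at h1
    have hunit : IsUnit (algebraMap R (Localization.Away a) a) :=
      IsLocalization.map_units (Localization.Away a) ⟨a, Submonoid.mem_powers a⟩
    have h2 : ((e t : ↥(BlowUp.affineAlgebra R I a)) : Localization.Away a) = 0 :=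
      hunit.mul_left_eq_zero.mp h1
    have h3 : e t = 0 := Subtype.ext h2
    exact (map_eq_zero_iff e e.injective).mp h3
  exact ⟨fun t ht => key t (by rw [mul_comm]; exact ht), key⟩

include e in
theorem blowup_map_eq_span (ha : a ∈ I) :
    I.map (algebraMap R R₁) = Ideal.span {algebraMap R R₁ a} := by
  apply le_antisymm
  · rw [Ideal.map_le_iff_le_comap]
    intro x hx
    rw [Ideal.mem_comap, Ideal.mem_span_singleton']
    let q : ↥(BlowUp.affineAlgebra R I a) :=
      ⟨IsLocalization.mk' (Localization.Away a) x ⟨a, Submonoid.mem_powers a⟩,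
        Algebra.subset_adjoin ⟨x, hx, rfl⟩⟩
    refine ⟨e.symm q, ?_⟩
    apply e.injective
    rw [map_mul, AlgEquiv.apply_symm_apply, AlgEquiv.commutes, AlgEquiv.commutes]
    apply Subtype.ext
    simp only [Subalgebra.coe_mul, Subalgebra.coe_algebraMap, q]
    rw [mul_comm]
    exact IsLocalization.mk'_spec' (Localization.Away a) x ⟨a, Submonoid.mem_powers a⟩
  · rw [Ideal.span_singleton_le_iff_mem]
    exact Ideal.mem_map_of_mem _ ha

include e in
/-- The strict transform of `M` along the affine blow-up of `Fit_k(M)` has `Fit_k = ⊤`. -/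
theorem fitt_strict_transform_eq_top (M : Type u) [AddCommGroup M] [Module R M] [Module.Finite R M]
    (k : ℕ) (hI : I = Fitt.ideal R M k) (ha : a ∈ I) :
    Fitt.ideal R₁ ((R₁ ⊗[R] M) ⧸ FlatCA.powTorsion R₁ (algebraMap R R₁ a) (R₁ ⊗[R] M)) k = ⊤ := by
  apply fitt_quotient_torsion_eq_top k (algebraMap R R₁ a)
    (blowup_algebraMap_mem_nonZeroDivisors I a R₁ e)
  · rw [fitt_baseChange R₁ k, ← hI]
    exact blowup_map_eq_span I a R₁ e ha
  · intro x hx
    apply Submodule.mem_iSup_of_mem 1
    rw [Submodule.mem_torsionBy_iff, pow_one]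
    exact hx

end FittH8
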