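import Mathlib
import Groth.Prelude.Def_Fitting
import Groth.Prelude.Def_BlowUp2
import Groth.Prelude.Def_FlatCA
import Groth.Agent.Lib.Fitt9_helper8

/-!
# Strict transforms are locally free (helper8)
APPEND-ONLY once landed.
-/

set_option autoImplicit false

namespace FittH8

open Matrix TensorProduct

universe u v

section General

variable {S : Type u} [CommRing S] {N : Type u} [AddCommGroup N] [Module S N]

theorem mem_powTorsion_iff (a : S) (x : N) :
    x ∈ FlatCA.powTorsion S a N ↔ ∃ m : ℕ, a ^ m • x = 0 := by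
  unfold FlatCA.powTorsion
  rw [Submodule.mem_iSup_of_directed]
  · simp only [Submodule.mem_torsionBy_iff]
  · intro m m'
    refine ⟨m + m', ?_, ?_⟩
    · intro x hx
      rw [Submodule.mem_torsionBy_iff] at hx ⊢
      rw [pow_add, mul_comm, mul_smul, hx, smul_zero]
    · intro x hx
      rw [Submodule.mem_torsionBy_iff] at hx ⊢
      rw [pow_add, mul_smul, hx, smul_zero]

/-- Killing power torsion for a nonzerodivisor does not create Fitting ideals. -/
theorem fitt_quotient_powTorsion_eq_bot [Module.Finite S N] (j : ℕ) (a : S)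
    (ha : a ∈ nonZeroDivisors S) (hfit : Fitt.ideal S N j = ⊥) :
    Fitt.ideal S (N ⧸ FlatCA.powTorsion S a N) j = ⊥ := by
  classical
  obtain ⟨n, y, hy⟩ := Module.Finite.exists_fin (R := S) (M := N)
  set T := FlatCA.powTorsion S a N with hT
  have hyq : Submodule.span S (Set.range (T.mkQ ∘ y)) = ⊤ := by
    rw [Set.range_comp, ← Submodule.map_span, hy, Submodule.map_top, Submodule.range_mkQ]
  rw [fitt_eq_minorIdeal (T.mkQ ∘ y) hyq j, eq_bot_iff]
  apply Ideal.span_le.mpr
  rintro _ ⟨z, e, hrel, rfl⟩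
  have h1 : ∀ b, ∃ m : ℕ, a ^ m • ∑ i, z b i • y i = 0 := by
    intro b
    rw [← mem_powTorsion_iff]
    have := hrel b
    simp only [Function.comp_apply, ← map_smul, ← map_sum] at this
    exact (Submodule.Quotient.mk_eq_zero T).mp this
  choose m hm using h1
  set m₀ := ∑ b, m b with hm₀
  have h2 : ∀ b, ∑ i, (a ^ m₀ * z b i) • y i = 0 := by
    intro b
    have hle : m b ≤ m₀ := Finset.single_le_sum (f := m) (fun _ _ => Nat.zero_le _) (Finset.mem_univ b)
    obtain ⟨l, hl⟩ := Nat.exists_eq_add_of_le hle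
    simp only [mul_smul]
    rw [← Finset.smul_sum, hl, pow_add, mul_comm, mul_smul, hm, smul_zero]
  have h3 : (Matrix.of fun a' b => a ^ m₀ * z b (e a')).det ∈ Fitt.ideal S N j := by
    rw [fitt_eq_minorIdeal y hy j]
    exact Ideal.subset_span ⟨fun b i => a ^ m₀ * z b i, e, h2, rfl⟩
  rw [hfit] at h3
  have h4 : (Matrix.of fun a' b => a ^ m₀ * z b (e a')) =
      (a ^ m₀) • (Matrix.of fun a' b => z b (e a')) := by
    ext a' b
    simp
  rw [h4, det_smul] at h3
  have h5 : (a ^ m₀) ^ Fintype.card (Fin (n - j)) ∈ nonZeroDivisors S :=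
    pow_mem (pow_mem ha _) _
  have h6 : (Matrix.of fun a' b => z b (e a')).det * (a ^ m₀) ^ Fintype.card (Fin (n - j)) = 0 := by
    rw [mul_comm]
    exact h3
  exact (mem_nonZeroDivisors_iff.mp h5).2 _ h6

end General

section Blowup

variable {R : Type u} [CommRing R] (M : Type u) [AddCommGroup M] [Module R M]

/-- If `M` is free of rank `k` at the primes not containing `Fit_k(M)`, then elements of the lower
Fitting ideals are killed by powers of any `a ∈ Fit_k(M)`. -/
theorem exists_pow_mul_eq_zero_of_fitt [Module.Finite R M] (k : ℕ)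
    (hfree : ∀ (p : Ideal R) [p.IsPrime], ¬ Fitt.ideal R M k ≤ p →
      Module.Free (Localization.AtPrime p) (LocalizedModule p.primeCompl M) ∧
        Module.finrank (Localization.AtPrime p) (LocalizedModule p.primeCompl M) = k)
    (a : R) (ha : a ∈ Fitt.ideal R M k) (j : ℕ) (hj : j < k) (c : R) (hc : c ∈ Fitt.ideal R M j) :
    ∃ m : ℕ, a ^ m * c = 0 := by
  let J : Ideal R := LinearMap.ker (LinearMap.toSpanSingleton R R c)
  have hJ : ∀ r, r ∈ J ↔ r * c = 0 := by
    intro r
    simp [J]
  suffices h : a ∈ J.radical by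
    obtain ⟨m, hm⟩ := h
    exact ⟨m, (hJ _).mp hm⟩
  rw [Ideal.radical_eq_sInf, Ideal.mem_sInf]
  rintro p ⟨hJp, hp⟩
  by_contra hap
  haveI := hp
  have hnot : ¬ Fitt.ideal R M k ≤ p := fun hle => hap (hle ha)
  obtain ⟨hfr, hrk⟩ := hfree p hnot
  haveI := hfr
  let b := Module.finBasis (Localization.AtPrime p) (LocalizedModule p.primeCompl M)
  have hfit := fitt_of_basis_of_lt b j (by rw [hrk]; exact hj)
  rw [fitt_localization p.primeCompl (Localization.AtPrime p) _
    (LocalizedModule.mkLinearMap p.primeCompl M)] at hfit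
  have h0 : algebraMap R (Localization.AtPrime p) c = 0 := by
    have : algebraMap R (Localization.AtPrime p) c ∈
        (Fitt.ideal R M j).map (algebraMap R (Localization.AtPrime p)) :=
      Ideal.mem_map_of_mem _ hc
    rw [hfit] at this
    exact this
  rw [IsLocalization.map_eq_zero_iff p.primeCompl] at h0
  obtain ⟨s, hs⟩ := h0
  exact s.2 (hJp ((hJ _).mpr hs))

/-- The strict transform of `M` along the affine blow-up of `Fit_k(M)` is finite locally free of
rank `k` when `M` is free of rank `k` away from `V(Fit_k(M))`. -/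
theorem strict_transform_locally_free [Module.Finite R M] (k : ℕ)
    (hfree : ∀ (p : Ideal R) [p.IsPrime], ¬ Fitt.ideal R M k ≤ p →
      Module.Free (Localization.AtPrime p) (LocalizedModule p.primeCompl M) ∧
        Module.finrank (Localization.AtPrime p) (LocalizedModule p.primeCompl M) = k)
    (a : R) (ha : a ∈ Fitt.ideal R M k) (R₁ : Type u) [CommRing R₁] [Algebra R R₁]
    (e : R₁ ≃ₐ[R] ↥(BlowUp.affineAlgebra R (Fitt.ideal R M k) a))
    (p' : Ideal R₁) [p'.IsPrime] :
    ∃ g : R₁, g ∉ p' ∧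
      Module.Free (Localization.Away g) (LocalizedModule (Submonoid.powers g)
        ((R₁ ⊗[R] M) ⧸ FlatCA.powTorsion R₁ (algebraMap R R₁ a) (R₁ ⊗[R] M))) ∧
      Module.finrank (Localization.Away g) (LocalizedModule (Submonoid.powers g)
        ((R₁ ⊗[R] M) ⧸ FlatCA.powTorsion R₁ (algebraMap R R₁ a) (R₁ ⊗[R] M))) = k := by
  have hnzd := blowup_algebraMap_mem_nonZeroDivisors (Fitt.ideal R M k) a R₁ e
  apply exists_free_of_fitt k p'
  · intro j hj
    apply fitt_quotient_powTorsion_eq_bot j _ hnzd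
    rw [fitt_baseChange R₁ j, eq_bot_iff, Ideal.map_le_iff_le_comap]
    intro c hc
    rw [Ideal.mem_comap, Ideal.mem_bot]
    obtain ⟨m, hm⟩ := exists_pow_mul_eq_zero_of_fitt M k hfree a ha j hj c hc
    have h1 : algebraMap R R₁ c * (algebraMap R R₁ a) ^ m = 0 := by
      rw [← map_pow, ← map_mul, mul_comm, hm, map_zero]
    exact (mem_nonZeroDivisors_iff.mp (pow_mem hnzd m)).2 _ h1
  · rw [fitt_strict_transform_eq_top (Fitt.ideal R M k) a R₁ e M k rfl ha]
    exact fun h => (‹p'.IsPrime›).ne_top (top_le_iff.mp h)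

end Blowup

end FittH8
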