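import Mathlib
import Groth.Prelude.Def_Fitting
import Groth.Prelude.Def_BlowUp2
import Groth.Prelude.Def_FlatCA
import Groth.Agent.Lib.Fitt10_helper8

/-!
# Flattening by blowing up: the locally free case (helper8)
APPEND-ONLY once landed.
-/

set_option autoImplicit false

namespace FittH8

open Matrix TensorProduct

universe u

section BlowupFacts

variable {R : Type u} [CommRing R] (I : Ideal R) (a : R)
  (R₁ : Type u) [CommRing R₁] [Algebra R R₁] (e : R₁ ≃ₐ[R] ↥(BlowUp.affineAlgebra R I a))

include e in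
theorem blowup_map_eq_span_of_mul (J : Ideal R) (b f : R) (hab : a = f * b) (hb : b ∈ J)
    (hJ : ∀ x ∈ J, f * x ∈ I) :
    J.map (algebraMap R R₁) = Ideal.span {algebraMap R R₁ b} := by
  apply le_antisymm
  · rw [Ideal.map_le_iff_le_comap]
    intro x hx
    rw [Ideal.mem_comap, Ideal.mem_span_singleton']
    let q : ↥(BlowUp.affineAlgebra R I a) :=
      ⟨IsLocalization.mk' (Localization.Away a) (f * x) ⟨a, Submonoid.mem_powers a⟩,
        Algebra.subset_adjoin ⟨f * x, hJ x hx, rfl⟩⟩
    refine ⟨e.symm q, ?_⟩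
    apply e.injective
    rw [map_mul, AlgEquiv.apply_symm_apply, AlgEquiv.commutes, AlgEquiv.commutes]
    apply Subtype.ext
    simp only [Subalgebra.coe_mul, Subalgebra.coe_algebraMap, q]
    have hunit : IsUnit (algebraMap R (Localization.Away a) a) :=
      IsLocalization.map_units (Localization.Away a) ⟨a, Submonoid.mem_powers a⟩
    apply hunit.mul_right_cancel
    have h1 := IsLocalization.mk'_spec (Localization.Away a) (f * x)
      (⟨a, Submonoid.mem_powers a⟩ : Submonoid.powers a)
    simp only at h1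
    calc IsLocalization.mk' (Localization.Away a) (f * x) ⟨a, Submonoid.mem_powers a⟩ *
          algebraMap R (Localization.Away a) b * algebraMap R (Localization.Away a) a
        = (IsLocalization.mk' (Localization.Away a) (f * x) ⟨a, Submonoid.mem_powers a⟩ *
          algebraMap R (Localization.Away a) a) * algebraMap R (Localization.Away a) b := by ring
      _ = algebraMap R (Localization.Away a) (f * x) * algebraMap R (Localization.Away a) b := by
          rw [h1]
      _ = algebraMap R (Localization.Away a) x * algebraMap R (Localization.Away a) a := by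
          rw [← map_mul, ← map_mul, hab]
          congr 1
          ring
  · rw [Ideal.span_singleton_le_iff_mem]
    exact Ideal.mem_map_of_mem _ hb

end BlowupFacts

section Main

variable {R : Type u} [CommRing R] (M : Type u) [AddCommGroup M] [Module R M]

theorem disjoint_powers_of_notMem (p : Ideal R) [p.IsPrime] (g : R) (hg : g ∉ p) :
    Disjoint (Submonoid.powers g : Set R) (p : Set R) := by
  rw [Set.disjoint_left]
  rintro a ⟨m, rfl⟩ ha
  exact hg (Ideal.IsPrime.mem_of_pow_mem inferInstance m ha)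

/-- If `M` is locally free of rank `r` on `D(f)`, a power of `f` lies in `Fit_r(M)`. -/
theorem exists_pow_mem_fitt [Module.Finite R M] (f : R) (r : ℕ)
    (hf : ∀ (p : Ideal R) [p.IsPrime], f ∉ p → ∃ g : R, g ∉ p ∧
      Module.Free (Localization.Away g) (LocalizedModule (Submonoid.powers g) M) ∧
        Module.finrank (Localization.Away g) (LocalizedModule (Submonoid.powers g) M) = r) :
    ∃ N : ℕ, f ^ N ∈ Fitt.ideal R M r := by
  suffices h : f ∈ (Fitt.ideal R M r).radical from h
  rw [Ideal.radical_eq_sInf, Ideal.mem_sInf]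
  rintro p ⟨hJp, hp⟩
  by_contra hfp
  haveI := hp
  obtain ⟨g, hg, hfree, hrk⟩ := hf p hfp
  haveI := hfree
  haveI := nontrivial_away_of_notMem p g hg
  let b := (Module.finBasis (Localization.Away g)
    (LocalizedModule (Submonoid.powers g) M)).reindex (finCongr hrk)
  exact fitt_not_le_of_span r p (Submonoid.powers g) (disjoint_powers_of_notMem p g hg)
    (Localization.Away g) _ (LocalizedModule.mkLinearMap (Submonoid.powers g) M) b b.span_eq hJp

/-- If `M` is locally free of rank `r` on `D(f)`, elements of the lower Fitting ideals are killed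
by powers of `f`. -/
theorem exists_pow_mul_eq_zero_of_locally_free [Module.Finite R M] (f : R) (r : ℕ)
    (hf : ∀ (p : Ideal R) [p.IsPrime], f ∉ p → ∃ g : R, g ∉ p ∧
      Module.Free (Localization.Away g) (LocalizedModule (Submonoid.powers g) M) ∧
        Module.finrank (Localization.Away g) (LocalizedModule (Submonoid.powers g) M) = r)
    (j : ℕ) (hj : j < r) (c : R) (hc : c ∈ Fitt.ideal R M j) :
    ∃ m : ℕ, f ^ m * c = 0 := by
  let J : Ideal R := LinearMap.ker (LinearMap.toSpanSingleton R R c)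
  have hJ : ∀ t, t ∈ J ↔ t * c = 0 := by
    intro t
    simp [J]
  suffices h : f ∈ J.radical by
    obtain ⟨m, hm⟩ := h
    exact ⟨m, (hJ _).mp hm⟩
  rw [Ideal.radical_eq_sInf, Ideal.mem_sInf]
  rintro p ⟨hJp, hp⟩
  by_contra hfp
  haveI := hp
  obtain ⟨g, hg, hfree, hrk⟩ := hf p hfp
  haveI := hfree
  haveI := nontrivial_away_of_notMem p g hg
  let b := Module.finBasis (Localization.Away g) (LocalizedModule (Submonoid.powers g) M)
  have hfit := fitt_of_basis_of_lt b j (by rw [hrk]; exact hj)
  rw [fitt_localization (Submonoid.powers g) (Localization.Away g) _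
    (LocalizedModule.mkLinearMap (Submonoid.powers g) M)] at hfit
  have h0 : algebraMap R (Localization.Away g) c = 0 := by
    have : algebraMap R (Localization.Away g) c ∈
        (Fitt.ideal R M j).map (algebraMap R (Localization.Away g)) :=
      Ideal.mem_map_of_mem _ hc
    rw [hfit] at this
    exact this
  rw [IsLocalization.map_eq_zero_iff (Submonoid.powers g)] at h0
  obtain ⟨⟨_, l, rfl⟩, hs⟩ := h0
  have : g ^ l ∈ p := hJp ((hJ _).mpr hs)
  exact hg (Ideal.IsPrime.mem_of_pow_mem inferInstance l this)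

/-- A finitely presented cover of `M` whose `r`-th Fitting ideal still contains `f ^ N`. -/
theorem exists_fp_cover [Module.Finite R M] (r : ℕ) (f : R) (N : ℕ)
    (hN : f ^ N ∈ Fitt.ideal R M r) :
    ∃ (M₁ : Type u) (_ : AddCommGroup M₁) (_ : Module R M₁) (_ : Module.FinitePresentation R M₁)
      (π : M₁ →ₗ[R] M), Function.Surjective π ∧ f ^ N ∈ Fitt.ideal R M₁ r := by
  classical
  obtain ⟨n, x, hx⟩ := Module.Finite.exists_fin (R := R) (M := M)
  rw [fitt_eq_minorIdeal x hx r] at hN
  obtain ⟨T, hTG, hT⟩ := Submodule.mem_span_finite_of_mem_span hN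
  have hdata : ∀ t : T, ∃ (z : Fin (n - r) → Fin n → R) (e : Fin (n - r) → Fin n),
      (∀ j, ∑ i, z j i • x i = 0) ∧ (t : R) = (Matrix.of fun a b => z b (e a)).det :=
    fun t => hTG t.2
  choose z e hrel hdet using hdata
  let K₀ : Submodule R (Fin n → R) := Submodule.span R (⋃ t : T, Set.range (z t))
  have hK₀fg : K₀.FG := Submodule.fg_span (Set.finite_iUnion fun t => Set.finite_range (z t))
  have hzK₀ : ∀ t b, z t b ∈ K₀ := fun t b =>
    Submodule.subset_span (Set.mem_iUnion.mpr ⟨t, ⟨b, rfl⟩⟩)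
  have hK₀le : K₀ ≤ LinearMap.ker (Fintype.linearCombination R x) := by
    apply Submodule.span_le.mpr
    intro v hv
    obtain ⟨t, b, rfl⟩ := Set.mem_iUnion.mp hv
    simpa [Fintype.linearCombination_apply] using hrel t b
  haveI : Module.FinitePresentation R ((Fin n → R) ⧸ K₀) :=
    Module.finitePresentation_of_free_of_surjective K₀.mkQ (Submodule.mkQ_surjective _)
      (by rw [Submodule.ker_mkQ]; exact hK₀fg)
  refine ⟨(Fin n → R) ⧸ K₀, inferInstance, inferInstance, inferInstance,
    K₀.liftQ (Fintype.linearCombination R x) hK₀le, ?_, ?_⟩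
  · rw [← LinearMap.range_eq_top, Submodule.range_liftQ, Fintype.range_linearCombination, hx]
  · let ē : Fin n → (Fin n → R) ⧸ K₀ := fun i => K₀.mkQ (Pi.single i 1)
    have hē : Submodule.span R (Set.range ē) = ⊤ := by
      have h1 : Set.range ē = K₀.mkQ '' Set.range (fun i : Fin n => (Pi.single i 1 : Fin n → R)) := by
        ext v
        simp [ē]
      rw [h1, ← Submodule.map_span]
      have h2 : Submodule.span R (Set.range fun i : Fin n => (Pi.single i 1 : Fin n → R)) = ⊤ := by
        have := (Pi.basisFun R (Fin n)).span_eq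
        convert this using 3
        funext i
        simp [Pi.basisFun_apply]
      rw [h2, Submodule.map_top, Submodule.range_mkQ]
    rw [fitt_eq_minorIdeal ē hē r]
    refine (Ideal.span_le.mpr ?_) hT
    intro t ht
    have hd := hdet ⟨t, ht⟩
    simp only at hd
    rw [SetLike.mem_coe, hd]
    apply Ideal.subset_span
    refine ⟨z ⟨t, ht⟩, e ⟨t, ht⟩, fun j => ?_, rfl⟩
    have h3 : ∑ i, z ⟨t, ht⟩ j i • ē i = K₀.mkQ (z ⟨t, ht⟩ j) := by
      simp only [ē, ← map_smul, ← map_sum]
      congr 1
      funext i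
      simp [Finset.sum_apply, Pi.single_apply]
    rw [h3]
    exact (Submodule.Quotient.mk_eq_zero K₀).mpr (hzK₀ _ _)

/-- **Flattening by blowing up, locally free case.** -/
theorem flatten_locally_free [Module.Finite R M] (f : R) (r : ℕ)
    (hf : ∀ (p : Ideal R) [p.IsPrime], f ∉ p → ∃ g : R, g ∉ p ∧
      Module.Free (Localization.Away g) (LocalizedModule (Submonoid.powers g) M) ∧
        Module.finrank (Localization.Away g) (LocalizedModule (Submonoid.powers g) M) = r) :
    ∃ I : Ideal R, I.FG ∧ I.radical = (Ideal.span {f}).radical ∧ ∀ a ∈ I,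
      ∀ (R₁ : Type u) [CommRing R₁] [Algebra R R₁] (_ : R₁ ≃ₐ[R] ↥(BlowUp.affineAlgebra R I a)),
      ∀ (p' : Ideal R₁) [p'.IsPrime], ∃ g : R₁, g ∉ p' ∧
        Module.Free (Localization.Away g) (LocalizedModule (Submonoid.powers g)
          ((R₁ ⊗[R] M) ⧸ FlatCA.powTorsion R₁ (algebraMap R R₁ a) (R₁ ⊗[R] M))) ∧
        Module.finrank (Localization.Away g) (LocalizedModule (Submonoid.powers g)
          ((R₁ ⊗[R] M) ⧸ FlatCA.powTorsion R₁ (algebraMap R R₁ a) (R₁ ⊗[R] M))) = r := by
  obtain ⟨N, hN⟩ := exists_pow_mem_fitt M f r hf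
  obtain ⟨M₁, _, _, _, π, hπ, hN₁⟩ := exists_fp_cover M r f N hN
  have hJ₁fg : (Fitt.ideal R M₁ r).FG := fitt_fg r
  refine ⟨Ideal.span {f} * Fitt.ideal R M₁ r, Ideal.FG.mul ⟨{f}, by simp⟩ hJ₁fg, ?_, ?_⟩
  · apply le_antisymm
    · exact Ideal.radical_mono Ideal.mul_le_left
    · rw [Ideal.radical_le_radical_iff, Ideal.span_singleton_le_iff_mem]
      refine ⟨N + 1, ?_⟩
      rw [pow_succ, mul_comm (f ^ N) f]
      exact Ideal.mul_mem_mul (Ideal.mem_span_singleton_self f) hN₁
  · intro a ha R₁ _ _ e p' hp'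
    obtain ⟨b, hb, hab⟩ := Ideal.mem_span_singleton_mul.mp ha
    have hnzd_a := blowup_algebraMap_mem_nonZeroDivisors _ a R₁ e
    have hnzd_b : algebraMap R R₁ b ∈ nonZeroDivisors R₁ := by
      have h1 : algebraMap R R₁ f * algebraMap R R₁ b ∈ nonZeroDivisors R₁ := by
        rw [← map_mul, hab]
        exact hnzd_a
      exact (mul_mem_nonZeroDivisors.mp h1).2
    have hJmap := blowup_map_eq_span_of_mul _ a R₁ e (Fitt.ideal R M₁ r) b f hab.symm hb
      (fun x hx => Ideal.mul_mem_mul (Ideal.mem_span_singleton_self f) hx)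
    have hfit₁ : Fitt.ideal R₁ (R₁ ⊗[R] M₁) r = Ideal.span {algebraMap R R₁ b} := by
      rw [fitt_baseChange R₁ r, hJmap]
    have htop₁ : Fitt.ideal R₁ ((R₁ ⊗[R] M₁) ⧸
        FlatCA.powTorsion R₁ (algebraMap R R₁ a) (R₁ ⊗[R] M₁)) r = ⊤ := by
      apply fitt_quotient_torsion_eq_top r _ hnzd_b hfit₁
      intro x hx
      rw [mem_powTorsion_iff]
      refine ⟨1, ?_⟩
      rw [pow_one, ← hab, map_mul, mul_smul, hx, smul_zero]
    let φ : R₁ ⊗[R] M₁ →ₗ[R₁] R₁ ⊗[R] M := π.baseChange R₁
    have hφ : Function.Surjective φ := by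
      intro y
      obtain ⟨x, hx⟩ := LinearMap.lTensor_surjective R₁ hπ y
      exact ⟨x, hx⟩
    have hTT : FlatCA.powTorsion R₁ (algebraMap R R₁ a) (R₁ ⊗[R] M₁) ≤
        (FlatCA.powTorsion R₁ (algebraMap R R₁ a) (R₁ ⊗[R] M)).comap φ := by
      intro x hx
      rw [Submodule.mem_comap, mem_powTorsion_iff]
      rw [mem_powTorsion_iff] at hx
      obtain ⟨m, hm⟩ := hx
      exact ⟨m, by rw [← map_smul, hm, map_zero]⟩
    have hsurj : Function.Surjective (Submodule.mapQ _ _ φ hTT) := by
      intro y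
      obtain ⟨y', rfl⟩ := Submodule.mkQ_surjective _ y
      obtain ⟨x, rfl⟩ := hφ y'
      exact ⟨Submodule.mkQ _ x, rfl⟩
    have htop : Fitt.ideal R₁ ((R₁ ⊗[R] M) ⧸
        FlatCA.powTorsion R₁ (algebraMap R R₁ a) (R₁ ⊗[R] M)) r = ⊤ := by
      have := fitt_le_of_surjective _ hsurj r
      rw [htop₁] at this
      exact top_le_iff.mp this
    apply exists_free_of_fitt r p' ?_ (by rw [htop]; exact fun h => hp'.ne_top (top_le_iff.mp h))
    intro j hj
    apply fitt_quotient_powTorsion_eq_bot j _ hnzd_a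
    rw [fitt_baseChange R₁ j, eq_bot_iff, Ideal.map_le_iff_le_comap]
    intro c hc
    rw [Ideal.mem_comap, Ideal.mem_bot]
    obtain ⟨m, hm⟩ := exists_pow_mul_eq_zero_of_locally_free M f r hf j hj c hc
    have h1 : a ^ m * c = 0 := by
      rw [← hab, mul_pow, mul_assoc, mul_comm (b ^ m), ← mul_assoc, hm, zero_mul]
    have h2 : algebraMap R R₁ c * (algebraMap R R₁ a) ^ m = 0 := by
      rw [← map_pow, ← map_mul, mul_comm, h1, map_zero]
    exact (mem_nonZeroDivisors_iff.mp (pow_mem hnzd_a m)).2 _ h2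

end Main

end FittH8
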