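import Mathlib
import Groth.Prelude.Def_Fitting
import Groth.Agent.Lib.Fitt11_helper8

/-!
# Fitting ideals: `Fit_k = (f)`, `Fit_{k-1} = 0` implies projective dimension `≤ 1` (helper8)
APPEND-ONLY once landed.
-/

set_option autoImplicit false

namespace FittH8

open Matrix

universe u v w

variable {R : Type u} [CommRing R] {M : Type v} [AddCommGroup M] [Module R M]

theorem fitt_mono {j j' : ℕ} (h : j ≤ j') : Fitt.ideal R M j ≤ Fitt.ideal R M j' := by
  apply Ideal.span_mono
  rintro d ⟨n, x, a, hx, hrel, rfl⟩
  exact ⟨n, x, a, hx, fun i hi => hrel i (by omega), rfl⟩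

/-- Any minor of `m` relations among `n` generators lies in `Fit_j` as soon as `n ≤ m + j`. -/
theorem minor_mem_fitt {n : ℕ} (x : Fin n → M) (hx : Submodule.span R (Set.range x) = ⊤)
    (j m : ℕ) (hnm : n ≤ m + j) (z : Fin m → Fin n → R) (hz : ∀ b, ∑ i, z b i • x i = 0)
    (e : Fin m → Fin n) :
    (Matrix.of fun a b => z b (e a)).det ∈ Fitt.ideal R M j := by
  classical
  by_cases hmn : m ≤ n
  · apply fitt_mono (show n - m ≤ j by omega)
    rw [fitt_eq_minorIdeal x hx (n - m)]
    obtain ⟨k, hk⟩ : ∃ k, n - k = m ∧ k = n - m := ⟨n - m, by omega, rfl⟩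
    obtain ⟨hk1, hk2⟩ := hk
    rw [← hk2]
    subst hk1
    exact Ideal.subset_span ⟨z, e, hz, rfl⟩
  · have hlt : Fintype.card (Fin n) < Fintype.card (Fin m) := by simpa using (by omega : n < m)
    obtain ⟨a, a', hne, heq⟩ := Fintype.exists_ne_map_eq_of_card_lt e hlt
    rw [Matrix.det_zero_of_row_eq hne (by funext b; simp [heq])]
    exact Ideal.zero_mem _

/-- Dividing a linear form with values in `(f)` by the nonzerodivisor `f`. -/
theorem exists_div_linear {K : Type*} [AddCommGroup K] [Module R K] (f : R)
    (hf0 : f ∈ nonZeroDivisors R) (W : K →ₗ[R] R) (hW : ∀ v, W v ∈ Ideal.span {f}) :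
    ∃ w' : K →ₗ[R] R, ∀ v, W v = f * w' v := by
  have hcancel : ∀ c c' : R, f * c = f * c' → c = c' := by
    intro c c' h
    have h1 : (c - c') * f = 0 := by
      rw [sub_mul, mul_comm c, mul_comm c', h, sub_self]
    exact sub_eq_zero.mp ((mem_nonZeroDivisors_iff.mp hf0).2 _ h1)
  have hex : ∀ v, ∃ c, W v = f * c := by
    intro v
    obtain ⟨c, hc⟩ := Ideal.mem_span_singleton'.mp (hW v)
    exact ⟨c, by rw [← hc, mul_comm]⟩
  choose w hw using hex
  refine ⟨{ toFun := w, map_add' := ?_, map_smul' := ?_ }, hw⟩
  · intro a b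
    apply hcancel
    rw [← hw, map_add, hw a, hw b, mul_add]
  · intro c a
    apply hcancel
    rw [← hw, map_smul, hw a, RingHom.id_apply, smul_eq_mul, smul_eq_mul]
    ring

/-- The key identity. -/
theorem key_identity {N m k : ℕ} (x : Fin N → M) (hx : Submodule.span R (Set.range x) = ⊤)
    (hNm : N ≤ m + k) (f g : R) (hf0 : f ∈ nonZeroDivisors R)
    (hk : k = 0 ∨ Fitt.ideal R M (k - 1) = ⊥)
    (z : Fin m → Fin N → R) (hz : ∀ b, ∑ i, z b i • x i = 0) (e : Fin m → Fin N)
    (hΔ : (Matrix.of fun a b => z b (e a)).det = g * f)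
    (v : Fin N → R) (hv : ∑ i, v i • x i = 0)
    (w' : Fin m → R)
    (hw' : ∀ b, Matrix.cramer (Matrix.of fun a b => z b (e a)) (fun a => v (e a)) b = f * w' b) :
    (g * g) • v = ∑ b, (g * w' b) • z b := by
  classical
  obtain ⟨Z, hZ⟩ : ∃ Z : Matrix (Fin m) (Fin m) R, Z = Matrix.of fun a b => z b (e a) := ⟨_, rfl⟩
  rw [← hZ] at hΔ hw'
  have hcancel : ∀ c : R, f * c = 0 → c = 0 := fun c h =>
    (mem_nonZeroDivisors_iff.mp hf0).1 c h
  let π : (Fin N → R) →ₗ[R] M := Fintype.linearCombination R x
  have hπ : ∀ t : Fin N → R, π t = ∑ i, t i • x i := fun t => Fintype.linearCombination_apply R x t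
  let y : Fin N → R := g • v - ∑ b, w' b • z b
  let u : Fin N → R := f • y
  have hu_rel : ∑ i, u i • x i = 0 := by
    rw [← hπ]
    have h1 : π v = 0 := by rw [hπ, hv]
    have h2 : ∀ b, π (z b) = 0 := fun b => by rw [hπ, hz]
    simp only [u, y, map_smul, map_sub, map_sum, h1, h2, smul_zero, Finset.sum_const_zero,
      sub_zero]
  have hu_e : ∀ a, u (e a) = 0 := by
    intro a
    have h1 := congrFun (Matrix.mulVec_cramer Z (fun a => v (e a))) a
    rw [hΔ] at h1
    simp only [Matrix.mulVec, dotProduct, Pi.smul_apply, smul_eq_mul] at h1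
    have h2 : ∑ b, Z a b * (f * w' b) = g * f * v (e a) := by
      rw [← h1]
      exact Finset.sum_congr rfl (fun b _ => by rw [hw' b])
    simp only [u, y, Pi.smul_apply, Pi.sub_apply, Finset.sum_apply, smul_eq_mul]
    have h3 : ∀ b, Z a b = z b (e a) := fun b => by rw [hZ]; rfl
    have h4 : f * ∑ b, w' b * z b (e a) = g * f * v (e a) := by
      rw [← h2, Finset.mul_sum]
      exact Finset.sum_congr rfl (fun b _ => by rw [h3 b]; ring)
    rw [mul_sub, h4]
    ring
  have hΔu : ∀ i₀, (g * f) * u i₀ = 0 := by
    intro i₀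
    by_cases hi : ∃ a, e a = i₀
    · obtain ⟨a, rfl⟩ := hi
      rw [hu_e, mul_zero]
    · rcases Nat.eq_zero_or_pos k with hk0 | hkpos
      · -- `k = 0`: then `Δ = 0`
        have hΔ0 : Z.det = 0 := by
          by_contra hne
          have hinj : Function.Injective e := by
            intro a a' haa
            by_contra hne'
            apply hne
            rw [hZ]
            exact Matrix.det_zero_of_row_eq hne' (by funext b; simp [haa])
          have hcard : m ≤ N := by simpa using Fintype.card_le_of_injective e hinj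
          have hmN : m = N := by omega
          subst hmN
          exact hi (Finite.injective_iff_surjective.mp hinj i₀)
        rw [← hΔ, hΔ0, zero_mul]
      · have hfit : Fitt.ideal R M (k - 1) = ⊥ := by
          rcases hk with h | h
          · omega
          · exact h
        have hu_rel' : ∀ b : Fin (m + 1),
            ∑ i, (Fin.cons u z : Fin (m + 1) → Fin N → R) b i • x i = 0 := by
          intro b
          refine Fin.cases ?_ (fun b' => ?_) b
          · simpa using hu_rel
          · simpa using hz b'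
        have hmem := minor_mem_fitt x hx (k - 1) (m + 1) (by omega)
          (Fin.cons u z : Fin (m + 1) → Fin N → R) hu_rel' (Fin.cons i₀ e)
        rw [hfit, Ideal.mem_bot, Matrix.det_succ_column_zero, Fin.sum_univ_succ] at hmem
        have htail : ∀ a : Fin m, (-1 : R) ^ (a.succ : ℕ) *
            (Matrix.of fun a b => (Fin.cons u z : Fin (m + 1) → Fin N → R) b
              ((Fin.cons i₀ e : Fin (m + 1) → Fin N) a)) a.succ 0 *
            ((Matrix.of fun a b => (Fin.cons u z : Fin (m + 1) → Fin N → R) b
              ((Fin.cons i₀ e : Fin (m + 1) → Fin N) a)).submatrix a.succ.succAbove Fin.succ).det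
              = 0 := by
          intro a
          simp [hu_e]
        rw [Finset.sum_eq_zero (fun a _ => htail a), add_zero] at hmem
        have hsub : ((Matrix.of fun a b => (Fin.cons u z : Fin (m + 1) → Fin N → R) b
              ((Fin.cons i₀ e : Fin (m + 1) → Fin N) a)).submatrix (Fin.succAbove 0) Fin.succ)
              = Z := by
          rw [hZ]
          ext a b
          simp
        rw [hsub] at hmem
        simp only [Fin.val_zero, pow_zero, one_mul, Matrix.of_apply, Fin.cons_zero] at hmem
        rw [← hΔ, mul_comm]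
        exact hmem
  funext i₀
  have h1 := hΔu i₀
  simp only [u, Pi.smul_apply, smul_eq_mul] at h1
  have h2 : f * (f * (g * y i₀)) = 0 := by
    rw [← h1]
    ring
  have h3 := hcancel _ (hcancel _ h2)
  simp only [y, Pi.smul_apply, Pi.sub_apply, Finset.sum_apply, smul_eq_mul] at h3
  simp only [Pi.smul_apply, Finset.sum_apply, smul_eq_mul]
  rw [mul_sub, sub_eq_zero] at h3
  rw [mul_assoc, h3, Finset.mul_sum]
  exact Finset.sum_congr rfl (fun b _ => by ring)

/-- If `Fit_k(M) = (f)` with `f` a nonzerodivisor and `Fit_{k-1}(M) = 0`, the module of relations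
among any finite generating family of `M` is projective. -/
theorem ker_projective {N : ℕ} (x : Fin N → M) (hx : Submodule.span R (Set.range x) = ⊤)
    (k : ℕ) (f : R) (hf0 : f ∈ nonZeroDivisors R) (hf : Fitt.ideal R M k = Ideal.span {f})
    (hk : k = 0 ∨ Fitt.ideal R M (k - 1) = ⊥) :
    Module.Projective R (LinearMap.ker (Fintype.linearCombination R x)) := by
  classical
  have hcancel : ∀ c c' : R, f * c = f * c' → c = c' := by
    intro c c' h
    have h1 : (c - c') * f = 0 := by
      rw [sub_mul, mul_comm c, mul_comm c', h, sub_self]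
    exact sub_eq_zero.mp ((mem_nonZeroDivisors_iff.mp hf0).2 _ h1)
  have hmemK : ∀ v : Fin N → R, v ∈ LinearMap.ker (Fintype.linearCombination R x) ↔
      ∑ i, v i • x i = 0 := by
    intro v
    rw [LinearMap.mem_ker, Fintype.linearCombination_apply]
  have hfit' := hf
  rw [fitt_eq_minorIdeal x hx k] at hfit'
  set gens : Set R := {g | ∃ (z : Fin (N - k) → Fin N → R) (e : Fin (N - k) → Fin N),
    (∀ j, ∑ i, z j i • x i = 0) ∧ (Matrix.of fun a' b => z b (e a')).det = g * f} with hgens
  have hJ : Ideal.span gens = ⊤ := by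
    have h1 : minorIdeal (R := R) x k ≤ Ideal.span {f} * Ideal.span gens := by
      apply Ideal.span_le.mpr
      rintro d ⟨z, e, hrel, rfl⟩
      have hmem : (Matrix.of fun a' b => z b (e a')).det ∈ Ideal.span {f} := by
        rw [← hfit']
        exact Ideal.subset_span ⟨z, e, hrel, rfl⟩
      obtain ⟨g, hg⟩ := Ideal.mem_span_singleton'.mp hmem
      rw [SetLike.mem_coe, ← hg, mul_comm g f]
      exact Ideal.mul_mem_mul (Ideal.mem_span_singleton_self f)
        (Ideal.subset_span ⟨z, e, hrel, hg.symm⟩)
    have h2 : f ∈ Ideal.span {f} * Ideal.span gens := by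
      apply h1
      rw [hfit']
      exact Ideal.mem_span_singleton_self f
    obtain ⟨j, hj, hja⟩ := Ideal.mem_span_singleton_mul.mp h2
    have : j = 1 := hcancel j 1 (by rw [hja, mul_one])
    rw [Ideal.eq_top_iff_one, ← this]
    exact hj
  have hJs := Ideal.span_pow_eq_top gens hJ 2
  have h1mem : (1 : R) ∈ Ideal.span ((fun x => x ^ 2) '' gens) := by
    rw [hJs]; trivial
  obtain ⟨n, c, γ, hsum⟩ := Submodule.mem_span_set'.mp h1mem
  have hγ : ∀ i, ∃ g ∈ gens, g ^ 2 = (γ i : R) := fun i => (γ i).2
  choose g hg hgsq using hγ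
  choose z e hz hdet using hg
  have hzK : ∀ i b, z i b ∈ LinearMap.ker (Fintype.linearCombination R x) := fun i b => by
    rw [hmemK]; exact hz i b
  -- the Cramer linear forms
  let W : Fin n → Fin (N - k) →
      LinearMap.ker (Fintype.linearCombination R x) →ₗ[R] R := fun i b =>
    (LinearMap.proj b) ∘ₗ (Matrix.cramer (Matrix.of fun a' b' => z i b' (e i a'))) ∘ₗ
      (LinearMap.funLeft R R (e i)) ∘ₗ (Submodule.subtype _)
  have hWapp : ∀ i b (v : LinearMap.ker (Fintype.linearCombination R x)),
      W i b v = Matrix.cramer (Matrix.of fun a' b' => z i b' (e i a'))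
        (fun a => (v : Fin N → R) (e i a)) b := fun i b v => rfl
  have hWmem : ∀ i b v, W i b v ∈ Ideal.span {f} := by
    intro i b v
    rw [hWapp, Matrix.cramer_apply, ← hf]
    have hupd : (Matrix.of fun a' b' => z i b' (e i a')).updateCol b
        (fun a => (v : Fin N → R) (e i a)) =
        Matrix.of fun a' b' => (Function.update (z i) b (v : Fin N → R)) b' (e i a') := by
      ext a' b'
      rw [Matrix.updateCol_apply, Matrix.of_apply, Matrix.of_apply, Function.update_apply]
      split_ifs <;> rfl
    rw [hupd]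
    apply minor_mem_fitt x hx k (N - k) (by omega)
    intro b'
    rw [Function.update_apply]
    split_ifs
    · exact (hmemK _).mp v.2
    · exact hz i b'
  have hdiv : ∀ i b, ∃ w' : LinearMap.ker (Fintype.linearCombination R x) →ₗ[R] R,
      ∀ v, W i b v = f * w' v := fun i b => exists_div_linear f hf0 (W i b) (hWmem i b)
  choose w' hw' using hdiv
  -- the key identity for each `i`
  have hkey : ∀ i (v : LinearMap.ker (Fintype.linearCombination R x)),
      (g i * g i) • (v : Fin N → R) = ∑ b, (g i * w' i b v) • z i b := by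
    intro i v
    exact key_identity x hx (by omega) f (g i) hf0 hk (z i) (hz i) (e i) (hdet i)
      (v : Fin N → R) ((hmemK _).mp v.2) (fun b => w' i b v)
      (fun b => by rw [← hw' i b v, hWapp])
  -- the splitting
  let s : (Fin n → Fin (N - k) → R) →ₗ[R] LinearMap.ker (Fintype.linearCombination R x) :=
    ∑ i, ∑ b, (((LinearMap.proj b : (Fin (N - k) → R) →ₗ[R] R) ∘ₗ
      (LinearMap.proj i : (Fin n → Fin (N - k) → R) →ₗ[R] (Fin (N - k) → R)))).smulRight
      (⟨z i b, hzK i b⟩ : LinearMap.ker (Fintype.linearCombination R x))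
  let ι : LinearMap.ker (Fintype.linearCombination R x) →ₗ[R] (Fin n → Fin (N - k) → R) :=
    LinearMap.pi fun i => LinearMap.pi fun b => (c i * g i) • w' i b
  refine Module.Projective.of_split ι s ?_
  ext v : 1
  apply Subtype.ext
  have hs : ∀ t : Fin n → Fin (N - k) → R,
      ((s t : LinearMap.ker (Fintype.linearCombination R x)) : Fin N → R) =
        ∑ i, ∑ b, t i b • z i b := by
    intro t
    simp only [s, LinearMap.sum_apply, LinearMap.smulRight_apply, LinearMap.comp_apply,
      LinearMap.proj_apply, Submodule.coe_sum, Submodule.coe_smul]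
  rw [LinearMap.comp_apply, hs, LinearMap.id_apply]
  have hι : ∀ i b, ι v i b = c i * g i * w' i b v := fun i b => by
    simp [ι]
  calc ∑ i, ∑ b, ι v i b • z i b = ∑ i, c i • ∑ b, (g i * w' i b v) • z i b := by
        apply Finset.sum_congr rfl
        intro i _
        rw [Finset.smul_sum]
        apply Finset.sum_congr rfl
        intro b _
        rw [hι, smul_smul, mul_assoc]
    _ = ∑ i, (c i * (γ i : R)) • (v : Fin N → R) := by
        apply Finset.sum_congr rfl
        intro i _
        rw [← hkey i v, smul_smul, ← hgsq i, pow_two]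
    _ = (v : Fin N → R) := by
        rw [← Finset.sum_smul]
        have : ∑ i, c i * (γ i : R) = 1 := by
          rw [← hsum]
          exact Finset.sum_congr rfl (fun i _ => by rw [smul_eq_mul])
        rw [this, one_smul]

end FittH8
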