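import Mathlib
import Groth.Prelude.Def_Fitting
import Groth.Agent.Lib.Fitt12_helper8

/-!
# Fitting ideals as ideals of minors of a presentation matrix (helper8)
APPEND-ONLY once landed.
-/

set_option autoImplicit false

namespace FittH8

open Matrix

universe u v w

variable {R : Type u} [CommRing R] {M : Type v} [AddCommGroup M] [Module R M]

/-- The ideal of `r × r` minors of a "matrix" `c : ι → κ → R` (repeated rows and columns
allowed). -/
def minorsIdeal {ι : Type*} {κ : Type*} (c : ι → κ → R) (r : ℕ) : Ideal R :=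
  Ideal.span {d | ∃ (t : Fin r → ι) (e : Fin r → κ), d = (Matrix.of fun a b => c (t b) (e a)).det}

theorem minorsIdeal_transpose {ι : Type*} {κ : Type*} (c : ι → κ → R) (r : ℕ) :
    minorsIdeal (fun k i => c i k) r = minorsIdeal c r := by
  apply le_antisymm
  · apply Ideal.span_le.mpr
    rintro d ⟨t, e, rfl⟩
    apply Ideal.subset_span
    refine ⟨e, t, ?_⟩
    rw [← Matrix.det_transpose]
    rfl
  · apply Ideal.span_le.mpr
    rintro d ⟨t, e, rfl⟩
    apply Ideal.subset_span
    refine ⟨e, t, ?_⟩
    rw [← Matrix.det_transpose]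
    rfl

theorem minorsIdeal_eq_bot {ι : Type*} [Fintype ι] {κ : Type*} (c : ι → κ → R) (r : ℕ)
    (hr : Fintype.card ι < r) : minorsIdeal c r = ⊥ := by
  classical
  rw [eq_bot_iff]
  apply Ideal.span_le.mpr
  rintro d ⟨t, e, rfl⟩
  have hlt : Fintype.card ι < Fintype.card (Fin r) := by simpa using hr
  obtain ⟨b, b', hne, heq⟩ := Fintype.exists_ne_map_eq_of_card_lt t hlt
  rw [SetLike.mem_coe, Ideal.mem_bot]
  exact Matrix.det_zero_of_column_eq hne (by intro a; simp [heq])

/-- If the relations among the generators `x` are spanned by the rows `c i`, then `Fit_k(M)` is the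
ideal of `(N-k)`-minors of `c`. -/
theorem fitt_eq_minorsIdeal {N : ℕ} (x : Fin N → M) (hx : Submodule.span R (Set.range x) = ⊤)
    {ι : Type*} (c : ι → Fin N → R)
    (hc : Submodule.span R (Set.range c) = LinearMap.ker (Fintype.linearCombination R x)) (k : ℕ) :
    Fitt.ideal R M k = minorsIdeal c (N - k) := by
  classical
  rw [fitt_eq_minorIdeal x hx k]
  apply le_antisymm
  · apply Ideal.span_le.mpr
    rintro d ⟨z, e, hrel, rfl⟩
    refine minor_mem_of_span (Set.range c) (minorsIdeal c (N - k)) ?_ z ?_ e
    · intro w e' hw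
      choose t ht using hw
      apply Ideal.subset_span
      refine ⟨t, e', ?_⟩
      congr 1
      ext a b
      simp [ht b]
    · intro b
      rw [hc, LinearMap.mem_ker, Fintype.linearCombination_apply]
      exact hrel b
  · apply Ideal.span_le.mpr
    rintro d ⟨t, e, rfl⟩
    apply Ideal.subset_span
    refine ⟨fun b => c (t b), e, fun b => ?_, rfl⟩
    have h1 : c (t b) ∈ Submodule.span R (Set.range c) := Submodule.subset_span ⟨t b, rfl⟩
    rw [hc, LinearMap.mem_ker, Fintype.linearCombination_apply] at h1
    exact h1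

section Coker

variable (R)

/-- Relations among the images of the standard basis in `R^n ⧸ range σ` are spanned by the columns
of `σ`. -/
theorem coker_rel {m n : ℕ} (σ : (Fin m → R) →ₗ[R] (Fin n → R)) :
    Submodule.span R (Set.range fun b : Fin m => σ (Pi.single b 1)) =
      LinearMap.ker (Fintype.linearCombination R
        (fun i : Fin n => (LinearMap.range σ).mkQ (Pi.single i 1))) := by
  classical
  have h1 : ∀ z : Fin n → R, Fintype.linearCombination R
      (fun i : Fin n => (LinearMap.range σ).mkQ (Pi.single i 1)) z = (LinearMap.range σ).mkQ z := by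
    intro z
    rw [Fintype.linearCombination_apply]
    conv_rhs => rw [← (Pi.basisFun R (Fin n)).sum_repr z]
    rw [map_sum]
    apply Finset.sum_congr rfl
    intro i _
    rw [map_smul]
    simp
  have h2 : Submodule.span R (Set.range fun b : Fin m => σ (Pi.single b 1)) = LinearMap.range σ := by
    have : (Set.range fun b : Fin m => σ (Pi.single b 1)) = σ '' Set.range (Pi.basisFun R (Fin m)) := by
      rw [← Set.range_comp]
      congr 1
      funext b
      simp
    rw [this, ← Submodule.map_span, (Pi.basisFun R (Fin m)).span_eq, Submodule.map_top]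
  rw [h2]
  ext z
  rw [LinearMap.mem_ker, h1, Submodule.mkQ_apply, Submodule.Quotient.mk_eq_zero]

theorem coker_span {m n : ℕ} (σ : (Fin m → R) →ₗ[R] (Fin n → R)) :
    Submodule.span R (Set.range
      (fun i : Fin n => (LinearMap.range σ).mkQ (Pi.single i 1))) = ⊤ := by
  classical
  have : (Set.range fun i : Fin n => (LinearMap.range σ).mkQ (Pi.single i 1)) =
      (LinearMap.range σ).mkQ '' Set.range (Pi.basisFun R (Fin n)) := by
    rw [← Set.range_comp]
    congr 1
    funext b
    simp
  rw [this, ← Submodule.map_span, (Pi.basisFun R (Fin n)).span_eq, Submodule.map_top,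
    Submodule.range_mkQ]

/-- `Fit_k(R^n ⧸ range σ)` is the ideal of `(n-k)`-minors of `σ`. -/
theorem fitt_coker {m n : ℕ} (σ : (Fin m → R) →ₗ[R] (Fin n → R)) (k : ℕ) :
    Fitt.ideal R ((Fin n → R) ⧸ LinearMap.range σ) k =
      minorsIdeal (fun (b : Fin m) (a : Fin n) => σ (Pi.single b 1) a) (n - k) :=
  fitt_eq_minorsIdeal _ (coker_span R σ) (fun b : Fin m => σ (Pi.single b 1)) (coker_rel R σ) k

/-- The coordinate isomorphism `R^m ≃ (R^m)^∨`. -/
noncomputable def dualCoord (m : ℕ) : (Fin m → R) →ₗ[R] Module.Dual R (Fin m → R) :=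
  Fintype.linearCombination R (fun i : Fin m => (LinearMap.proj i : (Fin m → R) →ₗ[R] R))

theorem dualCoord_apply (m : ℕ) (z t : Fin m → R) : dualCoord R m z t = ∑ i, z i * t i := by
  simp [dualCoord, Fintype.linearCombination_apply, LinearMap.sum_apply]

theorem dualCoord_injective (m : ℕ) : Function.Injective (dualCoord R m) := by
  classical
  intro z z' h
  funext j
  have := congrArg (fun φ => φ (Pi.single j 1)) h
  simpa [dualCoord_apply, Pi.single_apply] using this

theorem dualCoord_surjective (m : ℕ) : Function.Surjective (dualCoord R m) := by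
  classical
  intro φ
  refine ⟨fun i => φ (Pi.single i 1), ?_⟩
  apply LinearMap.ext
  intro t
  rw [dualCoord_apply]
  conv_rhs => rw [← (Pi.basisFun R (Fin m)).sum_repr t]
  rw [map_sum]
  apply Finset.sum_congr rfl
  intro i _
  rw [map_smul]
  simp [mul_comm]

theorem dualCoord_row {m n : ℕ} (σ : (Fin m → R) →ₗ[R] (Fin n → R)) (a : Fin n) :
    dualCoord R m (fun i => σ (Pi.single i 1) a) = σ.dualMap (LinearMap.proj a) := by
  classical
  apply LinearMap.ext
  intro t
  rw [dualCoord_apply, LinearMap.dualMap_apply, LinearMap.proj_apply]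
  conv_rhs => rw [← (Pi.basisFun R (Fin m)).sum_repr t]
  rw [map_sum, Finset.sum_apply]
  apply Finset.sum_congr rfl
  intro i _
  rw [map_smul]
  simp [mul_comm]

theorem dual_coker_span {m n : ℕ} (σ : (Fin m → R) →ₗ[R] (Fin n → R)) :
    Submodule.span R (Set.range (fun i : Fin m =>
      (LinearMap.range σ.dualMap).mkQ (LinearMap.proj i : (Fin m → R) →ₗ[R] R))) = ⊤ := by
  classical
  have hproj : Submodule.span R (Set.range
      (fun i : Fin m => (LinearMap.proj i : (Fin m → R) →ₗ[R] R))) = ⊤ := by
    rw [← Fintype.range_linearCombination]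
    exact LinearMap.range_eq_top.mpr (dualCoord_surjective R m)
  have : (Set.range fun i : Fin m => (LinearMap.range σ.dualMap).mkQ
      (LinearMap.proj i : (Fin m → R) →ₗ[R] R)) =
      (LinearMap.range σ.dualMap).mkQ '' Set.range
        (fun i : Fin m => (LinearMap.proj i : (Fin m → R) →ₗ[R] R)) := by
    rw [← Set.range_comp]
    rfl
  rw [this, ← Submodule.map_span, hproj, Submodule.map_top, Submodule.range_mkQ]

theorem dual_coker_rel {m n : ℕ} (σ : (Fin m → R) →ₗ[R] (Fin n → R)) :
    Submodule.span R (Set.range fun a : Fin n => (fun i : Fin m => σ (Pi.single i 1) a)) =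
      LinearMap.ker (Fintype.linearCombination R (fun i : Fin m =>
        (LinearMap.range σ.dualMap).mkQ (LinearMap.proj i : (Fin m → R) →ₗ[R] R))) := by
  classical
  have h1 : ∀ z : Fin m → R, Fintype.linearCombination R (fun i : Fin m =>
        (LinearMap.range σ.dualMap).mkQ (LinearMap.proj i : (Fin m → R) →ₗ[R] R)) z =
      (LinearMap.range σ.dualMap).mkQ (dualCoord R m z) := by
    intro z
    rw [Fintype.linearCombination_apply, dualCoord, Fintype.linearCombination_apply, map_sum]
    apply Finset.sum_congr rfl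
    intro i _
    rw [map_smul]
  have hprojn : Submodule.span R (Set.range
      (fun a : Fin n => (LinearMap.proj a : (Fin n → R) →ₗ[R] R))) = ⊤ := by
    rw [← Fintype.range_linearCombination]
    exact LinearMap.range_eq_top.mpr (dualCoord_surjective R n)
  have h2 : LinearMap.range σ.dualMap = Submodule.map (dualCoord R m)
      (Submodule.span R (Set.range fun a : Fin n => (fun i : Fin m => σ (Pi.single i 1) a))) := by
    rw [Submodule.map_span, ← Set.range_comp, LinearMap.range_eq_map, ← hprojn, Submodule.map_span,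
      ← Set.range_comp]
    congr 2
    funext a
    exact (dualCoord_row R σ a).symm
  ext z
  rw [LinearMap.mem_ker, h1, Submodule.mkQ_apply, Submodule.Quotient.mk_eq_zero, h2]
  constructor
  · intro hz
    exact ⟨z, hz, rfl⟩
  · rintro ⟨z', hz', heq⟩
    rw [← dualCoord_injective R m heq]
    exact hz'

/-- `Fit_k` of the cokernel of the dual map is the ideal of `(m-k)`-minors of `σ`. -/
theorem fitt_dual_coker {m n : ℕ} (σ : (Fin m → R) →ₗ[R] (Fin n → R)) (k : ℕ) :
    Fitt.ideal R (Module.Dual R (Fin m → R) ⧸ LinearMap.range σ.dualMap) k =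
      minorsIdeal (fun (b : Fin m) (a : Fin n) => σ (Pi.single b 1) a) (m - k) := by
  rw [fitt_eq_minorsIdeal _ (dual_coker_span R σ)
    (fun a : Fin n => (fun i : Fin m => σ (Pi.single i 1) a)) (dual_coker_rel R σ) k]
  exact minorsIdeal_transpose (fun (b : Fin m) (a : Fin n) => σ (Pi.single b 1) a) (m - k)

theorem fitt_coker_dual_shift (m n : ℕ)
    (σ : (Fin m → R) →ₗ[R] (Fin n → R)) (hσ : Function.Injective σ) :
    (∀ j : ℕ, Fitt.ideal R ((Fin n → R) ⧸ LinearMap.range σ) (n - m + j) =
        Fitt.ideal R (Module.Dual R (Fin m → R) ⧸ LinearMap.range σ.dualMap) j) ∧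
      ∀ i : ℕ, i < n - m → Fitt.ideal R ((Fin n → R) ⧸ LinearMap.range σ) i = ⊥ := by
  constructor
  · intro j
    rcases subsingleton_or_nontrivial R with hR | hR
    · exact Subsingleton.elim _ _
    · have hmn : m ≤ n := le_of_fin_injective R σ hσ
      rw [fitt_coker, fitt_dual_coker]
      congr 1
      omega
  · intro i hi
    rw [fitt_coker]
    apply minorsIdeal_eq_bot
    rw [Fintype.card_fin]
    omega

end Coker

end FittH8
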