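import Mathlib
import Groth.Prelude.Def_Fitting
import Groth.Prelude.Def_CohB1
import Groth.Agent.Lib.Fitt14_helper8
import Groth.Agent.Lib.QCohFP2_helper9
import Groth.Agent.Lib.QCohFT_helper9
import Groth.Agent.Lib.CAlgMisc8_helper1
import Groth.Agent.Lib.QCohLoc_helper4

/-!
# Fitting ideal sheaves of quasi-coherent modules of finite type (helper8)
APPEND-ONLY once landed.
-/

set_option autoImplicit false

namespace SDivFittH8

open AlgebraicGeometry CategoryTheory TopologicalSpace Opposite FittH8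

universe u

variable {X : Scheme.{u}} (F : X.Modules)

/-- Fitting ideals of sections are compatible with restriction to basic opens. -/
theorem fitt_map_basicOpen [F.IsQuasicoherent]
    [SheafOfModules.IsFiniteType (R := X.ringCatSheaf) F] (r : ℕ) (U : X.affineOpens)
    (f : Γ(X, U)) :
    (Fitt.ideal Γ(X, (U : X.Opens)) Γ(F, (U : X.Opens)) r).map
      (X.presheaf.map (homOfLE <| X.basicOpen_le f).op).hom =
    Fitt.ideal Γ(X, ((X.affineBasicOpen f : X.affineOpens) : X.Opens))
      Γ(F, ((X.affineBasicOpen f : X.affineOpens) : X.Opens)) r := by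
  have hU : IsAffineOpen (U : X.Opens) := U.2
  haveI : Module.Finite Γ(X, (U : X.Opens)) Γ(F, (U : X.Opens)) :=
    QCohFT.finite_of_isFiniteType F hU
  letI : Algebra Γ(X, (U : X.Opens)) Γ(X, X.basicOpen f) :=
    (X.presheaf.map (homOfLE (X.basicOpen_le f)).op).hom.toAlgebra
  letI : Module Γ(X, (U : X.Opens)) Γ(F, X.basicOpen f) :=
    Module.compHom _ (X.presheaf.map (homOfLE (X.basicOpen_le f)).op).hom
  haveI : IsScalarTower Γ(X, (U : X.Opens)) Γ(X, X.basicOpen f) Γ(F, X.basicOpen f) :=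
    IsScalarTower.of_algebraMap_smul (fun _ _ => rfl)
  haveI : IsLocalization.Away f Γ(X, X.basicOpen f) := hU.isLocalization_basicOpen f
  have hld : RelFPKit.LocData (X.presheaf.map (homOfLE (X.basicOpen_le f)).op).hom f
      (F.presheaf.map (homOfLE (X.basicOpen_le f)).op).hom :=
    RelFPAff.locData (F := F) hU f _ rfl
  let φ : Γ(F, (U : X.Opens)) →ₗ[Γ(X, (U : X.Opens))] Γ(F, X.basicOpen f) :=
    { toFun := (F.presheaf.map (homOfLE (X.basicOpen_le f)).op).hom
      map_add' := map_add _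
      map_smul' := hld.smul }
  haveI : IsLocalizedModule (Submonoid.powers f) φ := QCohFT.isLocalizedModule_of_locData hld
  exact (fitt_localization (Submonoid.powers f) Γ(X, X.basicOpen f) Γ(F, X.basicOpen f) φ r).symm

/-- The Fitting ideal sheaf of a quasi-coherent module of finite type, as explicit data. -/
noncomputable def fittData [F.IsQuasicoherent]
    [SheafOfModules.IsFiniteType (R := X.ringCatSheaf) F] (r : ℕ) : X.IdealSheafData where
  ideal U := Fitt.ideal Γ(X, (U : X.Opens)) Γ(F, (U : X.Opens)) r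
  map_ideal_basicOpen U f := fitt_map_basicOpen F r U f

theorem sheafIdeal_eq_fittData [F.IsQuasicoherent]
    [SheafOfModules.IsFiniteType (R := X.ringCatSheaf) F] (r : ℕ) :
    Fitt.sheafIdeal F r = fittData F r :=
  Scheme.IdealSheafData.ofIdeals_ideal (fittData F r)

/-- The values of the Fitting ideal sheaf on affine opens. -/
theorem sheafIdeal_ideal [F.IsQuasicoherent]
    [SheafOfModules.IsFiniteType (R := X.ringCatSheaf) F] (r : ℕ) (U : X.affineOpens) :
    (Fitt.sheafIdeal F r).ideal U = Fitt.ideal Γ(X, (U : X.Opens)) Γ(F, (U : X.Opens)) r := by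
  rw [sheafIdeal_eq_fittData]
  rfl

/-- Fitting ideal sheaves of finitely presented modules are of finite type. -/
theorem sheafIdeal_fg [hFP : SheafOfModules.IsFinitePresentation (R := X.ringCatSheaf) F] (r : ℕ)
    (U : X.affineOpens) : ((Fitt.sheafIdeal F r).ideal U).FG := by
  haveI : F.IsQuasicoherent := inferInstance
  haveI : SheafOfModules.IsFiniteType (R := X.ringCatSheaf) F := inferInstance
  rw [sheafIdeal_ideal]
  haveI : Module.FinitePresentation Γ(X, (U : X.Opens)) Γ(F, (U : X.Opens)) :=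
    QCohFP2.finitePresentation_of_isFinitePresentation F U.2
  exact fitt_fg r

/-- Every point lies outside the support of some Fitting ideal. -/
theorem exists_notMem_support [F.IsQuasicoherent]
    [SheafOfModules.IsFiniteType (R := X.ringCatSheaf) F] (s : X) :
    ∃ r : ℕ, s ∉ (Fitt.sheafIdeal F r).support := by
  obtain ⟨_, ⟨U, hU : IsAffineOpen U, rfl⟩, hsU, -⟩ :=
    (X.isBasis_affineOpens).exists_subset_of_mem_open (Set.mem_univ s) isOpen_univ
  haveI : Module.Finite Γ(X, U) Γ(F, U) := QCohFT.finite_of_isFiniteType F hU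
  obtain ⟨n, x, hx⟩ := Module.Finite.exists_fin (R := Γ(X, U)) (M := Γ(F, U))
  refine ⟨n, ?_⟩
  rw [Scheme.IdealSheafData.mem_support_iff_of_mem (U := ⟨U, hU⟩) hsU, sheafIdeal_ideal,
    Scheme.mem_zeroLocus_iff]
  intro h
  apply h 1
  · rw [fitt_eq_top_of_span x hx n le_rfl]
    trivial
  · rw [Scheme.basicOpen_of_isUnit _ isUnit_one]
    exact hsU

open Groth.Agent.Lib.QCohLoc_helper4 in
/-- The closed set cut out by `Fit_0(F)` is the support of `F`. -/
theorem support_sheafIdeal_zero [F.IsQuasicoherent]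
    [SheafOfModules.IsFiniteType (R := X.ringCatSheaf) F] :
    ((Fitt.sheafIdeal F 0).support : Set X) = CohB1.support F := by
  ext s
  obtain ⟨_, ⟨U, hU : IsAffineOpen U, rfl⟩, hsU, -⟩ :=
    (X.isBasis_affineOpens).exists_subset_of_mem_open (Set.mem_univ s) isOpen_univ
  have hsU' : s ∈ U := hsU
  haveI : Module.Finite Γ(X, U) Γ(F, U) := QCohFT.finite_of_isFiniteType F hU
  have hloc := locOn_of_isQuasicoherent F hU
  let p : Ideal Γ(X, U) :=
    (IsLocalRing.maximalIdeal (X.presheaf.stalk s)).comap (X.presheaf.germ U s hsU').hom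
  haveI : p.IsPrime := Ideal.comap_isPrime _ _
  have hp : ∀ a, a ∈ p ↔ s ∉ X.basicOpen a := by
    intro a
    rw [Scheme.mem_basicOpen _ _ _ hsU']
    simp [p, Ideal.mem_comap]
  have hunit : ∀ a : Γ(X, U), s ∈ X.basicOpen a → IsUnit (X.presheaf.germ U s hsU' a) := by
    intro a ha
    exact (Scheme.mem_basicOpen _ _ _ hsU').mp ha
  rw [SetLike.mem_coe, Scheme.IdealSheafData.mem_support_iff_of_mem (U := ⟨U, hU⟩) hsU',
    sheafIdeal_ideal, Scheme.mem_zeroLocus_iff]
  have h1 : (∀ a ∈ ((Fitt.ideal Γ(X, U) Γ(F, U) 0 : Ideal Γ(X, U)) : Set Γ(X, U)),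
      s ∉ X.basicOpen a) ↔ (⟨p, inferInstance⟩ : PrimeSpectrum Γ(X, U)) ∈
        PrimeSpectrum.zeroLocus ((Fitt.ideal Γ(X, U) Γ(F, U) 0 : Ideal Γ(X, U)) : Set Γ(X, U)) := by
    rw [PrimeSpectrum.mem_zeroLocus]
    constructor
    · intro h a ha
      exact (hp a).2 (h a ha)
    · intro h a ha
      exact (hp a).1 (h ha)
  change (∀ a ∈ ((Fitt.ideal Γ(X, U) Γ(F, U) 0 : Ideal Γ(X, U)) : Set Γ(X, U)),
      s ∉ X.basicOpen a) ↔ _
  have h2 : PrimeSpectrum.zeroLocus
      ((Fitt.ideal Γ(X, U) Γ(F, U) 0 : Ideal Γ(X, U)) : Set Γ(X, U)) =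
      Module.support Γ(X, U) Γ(F, U) :=
    (Groth.Agent.CAlgMisc8H1.fitt_zero (R := Γ(X, U)) Γ(F, U) ⊥).2.1
  rw [h1, h2, Module.mem_support_iff_exists_annihilator]
  constructor
  · rintro ⟨m, hm⟩ hsub
    have hg0 : F.presheaf.germ U s hsU' m = 0 := Subsingleton.elim _ _
    obtain ⟨g, hsg, hgm⟩ := hloc.exists_smul_eq_zero_of_germ_eq_zero hU hsU' m hg0
    have : g ∈ p := hm (by rw [Submodule.mem_annihilator_span_singleton]; exact hgm)
    exact (hp g).1 this hsg
  · intro hs
    by_contra hcon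
    push Not at hcon
    apply hs
    have hgerm : ∀ t : Γ(F, U), F.presheaf.germ U s hsU' t = 0 := by
      intro t
      have h2 := hcon t
      rw [SetLike.not_le_iff_exists] at h2
      obtain ⟨a, ha, hap⟩ := h2
      rw [Submodule.mem_annihilator_span_singleton] at ha
      have hsa : s ∈ X.basicOpen a := by
        by_contra h
        exact hap ((hp a).2 h)
      have h3 := germ_smul F U s hsU' a t
      rw [ha, map_zero] at h3
      exact ((hunit a hsa).smul_eq_zero).mp h3.symm
    have hz : ∀ z : F.presheaf.stalk s, z = 0 := by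
      intro z
      obtain ⟨g, t, hsg, hgt⟩ := hloc.exists_germ_eq_smul hU hsU' z
      rw [hgerm t] at hgt
      exact ((hunit g hsg).smul_eq_zero).mp hgt.symm
    exact ⟨fun z z' => by rw [hz z, hz z']⟩

end SDivFittH8
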