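import Mathlib
import Groth.Prelude.Def_Fitting
import Groth.Prelude.Def_CohB1
import Groth.Prelude.Def_FlatMod2
import Groth.Agent.Lib.SDivFitt_helper8
import Groth.Agent.Lib.EpiLoc_helper9
import Groth.Agent.Lib.QCohLoc_helper4
import Groth.Agent.Lib.QCohFT_helper9

/-!
# Generation by `r` sections and Fitting ideal sheaves (helper8)
APPEND-ONLY once landed.
-/

set_option autoImplicit false

namespace SDivGenH8

open AlgebraicGeometry CategoryTheory CategoryTheory.Limits TopologicalSpace Opposite FittH8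

universe u

variable {Y : Scheme.{u}} (G : Y.Modules)

/-- The compatible family of restrictions of a global section. -/
noncomputable def secOfTop (t : Γ(G, ⊤)) : SheafOfModules.sections G :=
  PresheafOfModules.sectionsMk (fun V => G.val.map (homOfLE (le_top : V.unop ≤ ⊤)).op t)
    (fun V W f => by
      rw [← PresheafOfModules.map_comp_apply]
      rfl)

/-- The morphism `O_Y ⟶ G` determined by a global section. -/
noncomputable def unitHom (t : Γ(G, ⊤)) : Coh.structureModule Y ⟶ G :=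
  (SheafOfModules.unitHomEquiv G).symm (secOfTop G t)

theorem unitHom_app_one (t : Γ(G, ⊤)) (V : Y.Opens) :
    (unitHom G t).val.app (op V) (1 : Y.ringCatSheaf.obj.obj (op V)) =
      G.val.map (homOfLE (le_top : V ≤ ⊤)).op t := by
  have h := congrArg (fun s => s.val (op V))
    ((SheafOfModules.unitHomEquiv G).apply_symm_apply (secOfTop G t))
  exact h

theorem unitHom_app (t : Γ(G, ⊤)) (V : Y.Opens) (a : Y.ringCatSheaf.obj.obj (op V)) :
    (unitHom G t).val.app (op V) a =
      a • (G.val.map (homOfLE (le_top : V ≤ ⊤)).op t : G.val.obj (op V)) := by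
  have h1 : a = a • (1 : Y.ringCatSheaf.obj.obj (op V)) := (mul_one a).symm
  let e1 : (Coh.structureModule Y).val.obj (op V) := (1 : Y.ringCatSheaf.obj.obj (op V))
  have h2 : (unitHom G t).val.app (op V) (a • e1) =
      a • (unitHom G t).val.app (op V) e1 :=
    ((unitHom G t).val.app (op V)).hom.map_smul a e1
  rw [← unitHom_app_one]
  exact (congrArg _ h1).trans h2

/-- The morphism `O_Y^r ⟶ G` determined by `r` global sections. -/
noncomputable def freeHom {r : ℕ} (t : Fin r → Γ(G, ⊤)) : FlatMod.freeMod Y r ⟶ G :=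
  Sigma.desc (fun i => unitHom G (t i))

theorem ι_freeHom {r : ℕ} (t : Fin r → Γ(G, ⊤)) (i : Fin r) :
    Sigma.ι (fun _ : Fin r => Coh.structureModule Y) i ≫ freeHom G t = unitHom G (t i) :=
  Sigma.ι_desc _ _

theorem freeHom_app_ι {r : ℕ} (t : Fin r → Γ(G, ⊤)) (i : Fin r) (V : Y.Opens)
    (a : Y.ringCatSheaf.obj.obj (op V)) :
    (freeHom G t).val.app (op V)
      ((Sigma.ι (fun _ : Fin r => Coh.structureModule Y) i).val.app (op V) a) =
      a • (G.val.map (homOfLE (le_top : V ≤ ⊤)).op (t i) : G.val.obj (op V)) := by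
  rw [← unitHom_app, ← ι_freeHom G t i]
  rfl

open Groth.Agent.Lib.QCohLoc_helper4 in
/-- On an affine scheme, global sections spanning `Γ(G, ⊤)` define an epimorphism from the free
module. -/
theorem epi_freeHom [IsAffine Y] [G.IsQuasicoherent] {r : ℕ} (t : Fin r → Γ(G, ⊤))
    (ht : Submodule.span Γ(Y, (⊤ : Y.Opens)) (Set.range t) = ⊤) : Epi (freeHom G t) := by
  have hloc := locOn_of_isQuasicoherent G (isAffineOpen_top Y)
  suffices h : TopCat.Presheaf.IsLocallySurjective (freeHom G t).mapPresheaf by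
    haveI : Epi ((SheafOfModules.toSheaf.{u} Y.ringCatSheaf).map (freeHom G t)) :=
      (TopCat.Sheaf.isLocallySurjective_iff_epi
        ((SheafOfModules.toSheaf.{u} Y.ringCatSheaf).map (freeHom G t))).mp h
    exact (SheafOfModules.toSheaf.{u} Y.ringCatSheaf).epi_of_epi_map this
  rw [TopCat.Presheaf.isLocallySurjective_iff]
  intro U m x hx
  obtain ⟨h, hhU, hxh⟩ := (isAffineOpen_top Y).exists_basicOpen_le ⟨x, hx⟩ (Opens.mem_top x)
  refine ⟨Y.basicOpen h, hhU, ?_, hxh⟩
  obtain ⟨n, t', ht'⟩ := hloc.ex h (G.presheaf.map (homOfLE hhU).op m)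
  have hmem : t' ∈ Submodule.span Γ(Y, (⊤ : Y.Opens)) (Set.range t) := by rw [ht]; trivial
  obtain ⟨c, hc⟩ := (Submodule.mem_span_range_iff_exists_fun _).mp hmem
  have hu : IsUnit ((Y.presheaf.map (homOfLE (Y.basicOpen_le h)).op).hom h ^ n) :=
    (Y.toRingedSpace.isUnit_res_basicOpen h).pow n
  obtain ⟨v, hv⟩ := hu
  let ρ := (Y.presheaf.map (homOfLE (Y.basicOpen_le h)).op).hom
  refine ⟨∑ i, (Sigma.ι (fun _ : Fin r => Coh.structureModule Y) i).val.app (op (Y.basicOpen h))
    ((↑v⁻¹ : Γ(Y, Y.basicOpen h)) * ρ (c i)), ?_⟩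
  have hm : G.presheaf.map (homOfLE hhU).op m =
      (↑v⁻¹ : Γ(Y, Y.basicOpen h)) • G.presheaf.map (homOfLE (Y.basicOpen_le h)).op t' := by
    rw [ht', ← hv, smul_smul, Units.inv_mul, one_smul]
  have ht'' : G.presheaf.map (homOfLE (Y.basicOpen_le h)).op t' =
      ∑ i, ρ (c i) • G.presheaf.map (homOfLE (Y.basicOpen_le h)).op (t i) := by
    rw [← hc, map_sum]
    exact Finset.sum_congr rfl (fun i _ => Scheme.Modules.map_smul G _ _ _)
  change _ = G.presheaf.map (homOfLE hhU).op m
  rw [hm, ht'', Finset.smul_sum, map_sum]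
  apply Finset.sum_congr rfl
  intro i _
  refine (freeHom_app_ι G t i (Y.basicOpen h) ((↑v⁻¹ : Γ(Y, Y.basicOpen h)) * ρ (c i))).trans ?_
  exact mul_smul (↑v⁻¹ : Γ(Y, Y.basicOpen h)) (ρ (c i))
    (G.presheaf.map (homOfLE (Y.basicOpen_le h)).op (t i))


section Transport

/-- Spanning is insensitive to replacing the ring of scalars along a surjection compatible with
the actions. -/
theorem span_top_of_smul_eq {R R' M : Type*} [CommRing R] [CommRing R'] [AddCommGroup M]
    [Module R M] [Module R' M] (e : R' →+* R) (he : Function.Surjective e)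
    (hsm : ∀ (r' : R') (x : M), r' • x = e r' • x) (s : Set M)
    (h : Submodule.span R s = ⊤) : Submodule.span R' s = ⊤ := by
  rw [eq_top_iff]
  intro m _
  have hm : m ∈ Submodule.span R s := by rw [h]; trivial
  induction hm using Submodule.span_induction with
  | mem x hx => exact Submodule.subset_span hx
  | zero => exact Submodule.zero_mem _
  | add x y _ _ hx hy => exact Submodule.add_mem _ (hx trivial) (hy trivial)
  | smul r x _ hx =>
    obtain ⟨r', rfl⟩ := he r
    rw [← hsm]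
    exact Submodule.smul_mem _ _ (hx trivial)

theorem span_top_of_smul_eq' {R R' M : Type*} [CommRing R] [CommRing R'] [AddCommGroup M]
    [Module R M] [Module R' M] (e : R' →+* R)
    (hsm : ∀ (r' : R') (x : M), r' • x = e r' • x) (s : Set M)
    (h : Submodule.span R' s = ⊤) : Submodule.span R s = ⊤ := by
  rw [eq_top_iff]
  intro m _
  have hm : m ∈ Submodule.span R' s := by rw [h]; trivial
  induction hm using Submodule.span_induction with
  | mem x hx => exact Submodule.subset_span hx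
  | zero => exact Submodule.zero_mem _
  | add x y _ _ hx hy => exact Submodule.add_mem _ (hx trivial) (hy trivial)
  | smul r x _ hx =>
    rw [hsm]
    exact Submodule.smul_mem _ _ (hx trivial)

end Transport

section FreeQCoh

/-- The free module of rank `r` is isomorphic to Mathlib's free sheaf of modules. -/
noncomputable def freeIso (r : ℕ) :
    (SheafOfModules.free (R := Y.ringCatSheaf) (ULift.{u} (Fin r)) : Y.Modules) ≅
      FlatMod.freeMod Y r :=
  Sigma.reindex (Equiv.ulift : ULift.{u} (Fin r) ≃ Fin r) (fun _ : Fin r => Coh.structureModule Y)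

theorem isQuasicoherent_freeMod (r : ℕ) : (FlatMod.freeMod Y r).IsQuasicoherent := by
  haveI : (SheafOfModules.free (R := Y.ringCatSheaf) (ULift.{u} (Fin r))).IsQuasicoherent :=
    inferInstance
  exact (SheafOfModules.isQuasicoherent Y.ringCatSheaf).prop_of_iso (freeIso (Y := Y) r)
    (inferInstanceAs (SheafOfModules.free (R := Y.ringCatSheaf)
      (ULift.{u} (Fin r))).IsQuasicoherent)

/-- If `G` is a quasi-coherent quotient of the free module of rank `r`, its sections over affine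
opens are generated by `r` elements. -/
theorem exists_span_of_epi [G.IsQuasicoherent] {r : ℕ} (π : FlatMod.freeMod Y r ⟶ G) (hπ : Epi π)
    {V : Y.Opens} (hV : IsAffineOpen V) :
    ∃ g : Fin r → Γ(G, V), Submodule.span Γ(Y, V) (Set.range g) = ⊤ := by
  haveI := isQuasicoherent_freeMod (Y := Y) r
  let π' : (SheafOfModules.free (R := Y.ringCatSheaf) (ULift.{u} (Fin r)) : Y.Modules) ⟶ G :=
    (freeIso (Y := Y) r).hom ≫ π
  haveI : (SheafOfModules.free (R := Y.ringCatSheaf) (ULift.{u} (Fin r)) :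
      Y.Modules).IsQuasicoherent :=
    inferInstanceAs (SheafOfModules.free (R := Y.ringCatSheaf)
      (ULift.{u} (Fin r))).IsQuasicoherent
  haveI : Epi π' := @epi_comp _ _ _ _ _ (freeIso (Y := Y) r).hom inferInstance π hπ
  have hsurj : Function.Surjective (Scheme.Modules.Hom.app π' V) :=
    QCohExact.app_surjective_of_epi π' hV
  refine ⟨fun i => QCohFT.secHom _ _ V (SheafOfModules.ιFree (ULift.up i) ≫ π')
    (1 : (Y.ringCatSheaf.obj.obj (op V) : Type u)), ?_⟩
  rw [eq_top_iff]
  intro m _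
  obtain ⟨x, rfl⟩ := hsurj m
  have h1 := QCohFT.range_le_span π' V x
  refine Submodule.span_mono ?_ h1
  rintro _ ⟨⟨i⟩, rfl⟩
  exact ⟨i, rfl⟩

end FreeQCoh

section Main

variable {X : Scheme.{u}} (F : X.Modules)

theorem cast_span {V V' : X.Opens} (e : V = V') (r : ℕ)
    (h : ∃ g : Fin r → Γ(F, V), Submodule.span Γ(X, V) (Set.range g) = ⊤) :
    ∃ g : Fin r → Γ(F, V'), Submodule.span Γ(X, V') (Set.range g) = ⊤ := by
  subst e
  exact h

/-- If `Fit_r` is not contained in the prime of `s`, then `F` is generated by `r` sections over a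
basic open neighbourhood of `s`. -/
theorem exists_span_basicOpen [F.IsQuasicoherent]
    [SheafOfModules.IsFiniteType (R := X.ringCatSheaf) F] {V : X.Opens} (hV : IsAffineOpen V)
    {s : X} (hsV : s ∈ V) (r : ℕ) (a : Γ(X, V)) (ha : a ∈ Fitt.ideal Γ(X, V) Γ(F, V) r)
    (hsa : s ∈ X.basicOpen a) :
    ∃ d : Γ(X, V), s ∈ X.basicOpen d ∧ ∃ g : Fin r → Γ(F, X.basicOpen d),
      Submodule.span Γ(X, X.basicOpen d) (Set.range g) = ⊤ := by
  classical
  haveI : Module.Finite Γ(X, V) Γ(F, V) := QCohFT.finite_of_isFiniteType F hV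
  obtain ⟨n, x, hx⟩ := Module.Finite.exists_fin (R := Γ(X, V)) (M := Γ(F, V))
  let p : Ideal Γ(X, V) :=
    (IsLocalRing.maximalIdeal (X.presheaf.stalk s)).comap (X.presheaf.germ V s hsV).hom
  haveI : p.IsPrime := Ideal.comap_isPrime _ _
  have hp : ∀ b, b ∈ p ↔ s ∉ X.basicOpen b := by
    intro b
    rw [Scheme.mem_basicOpen _ _ _ hsV]
    simp [p, Ideal.mem_comap]
  have hnotle : ¬ Fitt.ideal Γ(X, V) Γ(F, V) r ≤ p := fun h => (hp a).1 (h ha) hsa
  obtain ⟨z, e, hrel, hd⟩ := exists_minor_notMem x hx r p hnotle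
  obtain ⟨d, hdd⟩ : ∃ d, d = (Matrix.of fun a b => z b (e a)).det := ⟨_, rfl⟩
  rw [← hdd] at hd
  have hsd : s ∈ X.basicOpen d := by
    by_contra h
    exact hd ((hp d).2 h)
  refine ⟨d, hsd, ?_⟩
  letI : Algebra Γ(X, V) Γ(X, X.basicOpen d) :=
    (X.presheaf.map (homOfLE (X.basicOpen_le d)).op).hom.toAlgebra
  letI : Module Γ(X, V) Γ(F, X.basicOpen d) :=
    Module.compHom _ (X.presheaf.map (homOfLE (X.basicOpen_le d)).op).hom
  haveI : IsScalarTower Γ(X, V) Γ(X, X.basicOpen d) Γ(F, X.basicOpen d) :=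
    IsScalarTower.of_algebraMap_smul (fun _ _ => rfl)
  haveI : IsLocalization.Away d Γ(X, X.basicOpen d) := hV.isLocalization_basicOpen d
  have hld : RelFPKit.LocData (X.presheaf.map (homOfLE (X.basicOpen_le d)).op).hom d
      (F.presheaf.map (homOfLE (X.basicOpen_le d)).op).hom :=
    RelFPAff.locData (F := F) hV d _ rfl
  let φ : Γ(F, V) →ₗ[Γ(X, V)] Γ(F, X.basicOpen d) :=
    { toFun := (F.presheaf.map (homOfLE (X.basicOpen_le d)).op).hom
      map_add' := map_add _
      map_smul' := hld.smul }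
  haveI : IsLocalizedModule (Submonoid.powers d) φ := QCohFT.isLocalizedModule_of_locData hld
  apply exists_fin_span_of_minor x hx r z e hrel Γ(X, X.basicOpen d) Γ(F, X.basicOpen d) φ
  · have := span_eq_top_of_isLocalizedModule Γ(X, X.basicOpen d) (Submonoid.powers d) φ
      (v := Set.univ) (by simp)
    rw [Set.image_univ] at this
    exact this
  · rw [← hdd]
    exact IsLocalization.map_units Γ(X, X.basicOpen d) ⟨d, Submonoid.mem_powers d⟩

/-- `F` is generated by `r` sections near `s` iff `s` is not in the support of `Fit_r(F)`. -/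
theorem generated_iff [F.IsQuasicoherent]
    [SheafOfModules.IsFiniteType (R := X.ringCatSheaf) F] (s : X) (r : ℕ) :
    (∃ U : X.Opens, s ∈ U ∧ ∃ π : FlatMod.freeMod (↑U) r ⟶ F.restrict U.ι, Epi π) ↔
      s ∉ (Fitt.sheafIdeal F r).support := by
  constructor
  · rintro ⟨U, hsU, π, hπ⟩
    obtain ⟨_, ⟨V', hV' : IsAffineOpen V', rfl⟩, hs'V', -⟩ :=
      ((U : Scheme.{u}).isBasis_affineOpens).exists_subset_of_mem_open
        (Set.mem_univ (⟨s, hsU⟩ : (U : Scheme.{u}))) isOpen_univ
    obtain ⟨g, hg⟩ := exists_span_of_epi (F.restrict U.ι) π hπ hV'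
    have hW : IsAffineOpen (U.ι ''ᵁ V') := hV'.image_of_isOpenImmersion U.ι
    have hsW : s ∈ U.ι ''ᵁ V' := ⟨⟨s, hsU⟩, hs'V', rfl⟩
    let g' : Fin r → Γ(F, U.ι ''ᵁ V') := g
    have hg' : Submodule.span Γ(X, U.ι ''ᵁ V') (Set.range g') = ⊤ :=
      @span_top_of_smul_eq' Γ(X, U.ι ''ᵁ V') Γ((U : Scheme.{u}), V') Γ(F.restrict U.ι, V') _ _ _
        (inferInstance : Module Γ(X, U.ι ''ᵁ V') Γ(F, U.ι ''ᵁ V')) inferInstance
        (U.ι.appIso V').inv.hom (fun _ _ => rfl) _ hg
    rw [Scheme.IdealSheafData.mem_support_iff_of_mem (U := ⟨U.ι ''ᵁ V', hW⟩) hsW,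
      SDivFittH8.sheafIdeal_ideal, Scheme.mem_zeroLocus_iff]
    intro h
    apply h 1
    · rw [fitt_eq_top_of_span g' hg' r le_rfl]
      trivial
    · rw [Scheme.basicOpen_of_isUnit _ isUnit_one]
      exact hsW
  · intro hs
    obtain ⟨_, ⟨V, hV : IsAffineOpen V, rfl⟩, hsV, -⟩ :=
      (X.isBasis_affineOpens).exists_subset_of_mem_open (Set.mem_univ s) isOpen_univ
    have hsV' : s ∈ V := hsV
    rw [Scheme.IdealSheafData.mem_support_iff_of_mem (U := ⟨V, hV⟩) hsV',
      SDivFittH8.sheafIdeal_ideal, Scheme.mem_zeroLocus_iff] at hs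
    push Not at hs
    obtain ⟨a, ha, hsa⟩ := hs
    obtain ⟨d, hsd, hgen⟩ := exists_span_basicOpen F hV hsV' r a ha hsa
    have hW : IsAffineOpen (X.basicOpen d) := hV.basicOpen d
    obtain ⟨g, hg⟩ := cast_span F (X.basicOpen d).ι_image_top.symm r hgen
    haveI : IsAffine ((X.basicOpen d : X.Opens) : Scheme.{u}) := hW
    let t : Fin r → Γ(F.restrict (X.basicOpen d).ι, ⊤) := g
    have ht : Submodule.span Γ(((X.basicOpen d : X.Opens) : Scheme.{u}), ⊤) (Set.range t) = ⊤ :=
      @span_top_of_smul_eq Γ(X, (X.basicOpen d).ι ''ᵁ ⊤)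
        Γ(((X.basicOpen d : X.Opens) : Scheme.{u}), ⊤) Γ(F.restrict (X.basicOpen d).ι, ⊤) _ _ _
        (inferInstance : Module Γ(X, (X.basicOpen d).ι ''ᵁ ⊤) Γ(F, (X.basicOpen d).ι ''ᵁ ⊤))
        inferInstance ((X.basicOpen d).ι.appIso ⊤).inv.hom
        (fun y => ⟨((X.basicOpen d).ι.appIso ⊤).hom.hom y, by
          change (((X.basicOpen d).ι.appIso ⊤).hom ≫ ((X.basicOpen d).ι.appIso ⊤).inv).hom y = y
          rw [Iso.hom_inv_id]
          rfl⟩)
        (fun _ _ => rfl) _ hg
    exact ⟨X.basicOpen d, hsd, freeHom (F.restrict (X.basicOpen d).ι) t,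
      epi_freeHom (F.restrict (X.basicOpen d).ι) t ht⟩

end Main

end SDivGenH8
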