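import Mathlib
import Groth.Prelude.Def_Fitting
import Groth.Prelude.Def_CohB1
import Groth.Prelude.Def_FlatMod2
import Groth.Agent.Lib.SDivGen_helper8

/-!
# Finite locally free modules and Fitting ideal sheaves (helper8)
APPEND-ONLY once landed.
-/

set_option autoImplicit false

namespace SDivFreeH8

open AlgebraicGeometry CategoryTheory CategoryTheory.Limits TopologicalSpace Opposite FittH8
open SDivGenH8

universe u

variable {Y : Scheme.{u}}

section decomposition

variable {r : ℕ}

/-- The inclusions into the free module. -/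
noncomputable abbrev ιM (i : Fin r) : Coh.structureModule Y ⟶ FlatMod.freeMod Y r :=
  Sigma.ι (fun _ : Fin r => Coh.structureModule Y) i

/-- Projections from the free module. -/
noncomputable def projM (i : Fin r) : FlatMod.freeMod Y r ⟶ Coh.structureModule Y :=
  Sigma.desc (fun j => if j = i then 𝟙 _ else 0)

theorem ι_projM (i j : Fin r) :
    (ιM j : Coh.structureModule Y ⟶ FlatMod.freeMod Y r) ≫ projM i = if j = i then 𝟙 _ else 0 := by
  unfold projM
  exact Sigma.ι_desc _ j

theorem id_eq_sumM :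
    𝟙 (FlatMod.freeMod Y r) = ∑ i, projM i ≫ (ιM i : Coh.structureModule Y ⟶ FlatMod.freeMod Y r) := by
  apply Sigma.hom_ext
  intro j
  refine (Category.comp_id _).trans ?_
  refine Eq.trans ?_ (Preadditive.comp_sum _ _ _).symm
  have h1 : ∀ i ∈ (Finset.univ : Finset (Fin r)),
      (ιM j : Coh.structureModule Y ⟶ FlatMod.freeMod Y r) ≫ projM i ≫
        (ιM i : Coh.structureModule Y ⟶ FlatMod.freeMod Y r) =
        if i = j then (ιM j : Coh.structureModule Y ⟶ FlatMod.freeMod Y r) else 0 := by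
    intro i _
    refine (Category.assoc _ _ _).symm.trans ?_
    refine (congrArg (· ≫ (ιM i : Coh.structureModule Y ⟶ FlatMod.freeMod Y r))
      (ι_projM i j)).trans ?_
    by_cases h : j = i
    · subst h; rw [if_pos rfl, if_pos rfl]; exact Category.id_comp _
    · rw [if_neg h, if_neg (Ne.symm h)]; exact zero_comp
  have h2 : ∑ i : Fin r, (if i = j then
      (ιM j : Coh.structureModule Y ⟶ FlatMod.freeMod Y r) else 0) = ιM j := by
    simp
  exact h2.symm.trans (Finset.sum_congr rfl h1).symm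

/-- Every section of the free module is the sum of its components. -/
theorem section_eq_sum (V : Y.Opens) (y : (FlatMod.freeMod Y r).val.obj (op V)) :
    y = ∑ i, (ιM i : Coh.structureModule Y ⟶ FlatMod.freeMod Y r).val.app (op V)
      ((projM i).val.app (op V) y) := by
  calc y = QCohFT.secHom _ _ V (𝟙 (FlatMod.freeMod Y r)) y := rfl
    _ = QCohFT.secHom _ _ V (∑ i, projM i ≫
          (ιM i : Coh.structureModule Y ⟶ FlatMod.freeMod Y r)) y :=
        congrArg (fun φ => QCohFT.secHom (FlatMod.freeMod Y r) (FlatMod.freeMod Y r) V φ y)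
          id_eq_sumM
    _ = (∑ i, QCohFT.secHom _ _ V (projM i ≫
          (ιM i : Coh.structureModule Y ⟶ FlatMod.freeMod Y r))) y :=
        congrArg (fun l => l y)
          (map_sum (QCohFT.secHom (FlatMod.freeMod Y r) (FlatMod.freeMod Y r) V) _ _)
    _ = ∑ i, QCohFT.secHom _ _ V (projM i ≫
          (ιM i : Coh.structureModule Y ⟶ FlatMod.freeMod Y r)) y := LinearMap.sum_apply _ _ _
    _ = _ := Finset.sum_congr rfl (fun i _ => rfl)

theorem projM_ι_app (i j : Fin r) (V : Y.Opens) (a : (Coh.structureModule Y).val.obj (op V)) :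
    (projM i).val.app (op V)
      ((ιM j : Coh.structureModule Y ⟶ FlatMod.freeMod Y r).val.app (op V) a) =
      if j = i then a else 0 := by
  have h : QCohFT.secHom _ _ V ((ιM j : Coh.structureModule Y ⟶ FlatMod.freeMod Y r) ≫ projM i) a =
      QCohFT.secHom _ _ V (if j = i then 𝟙 (Coh.structureModule Y) else 0) a :=
    congrArg (fun φ => QCohFT.secHom (Coh.structureModule Y) (Coh.structureModule Y) V φ a)
      (ι_projM i j)
  refine h.trans ?_
  by_cases hji : j = i
  · rw [if_pos hji, if_pos hji]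
    rfl
  · rw [if_neg hji, if_neg hji]
    rfl

end decomposition

section Iso

variable (G : Y.Modules)

/-- Restrictions to a basic open of linearly independent global sections stay linearly
independent. -/
theorem li_res [IsAffine Y] [G.IsQuasicoherent] {r : ℕ} (t : Fin r → Γ(G, ⊤))
    (hli : LinearIndependent Γ(Y, (⊤ : Y.Opens)) t) (h : Γ(Y, (⊤ : Y.Opens)))
    (a : Fin r → Γ(Y, Y.basicOpen h))
    (hsum : ∑ i, a i • G.presheaf.map (homOfLE (Y.basicOpen_le h)).op (t i) = 0) :
    ∀ i, a i = 0 := by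
  have hU : IsAffineOpen (⊤ : Y.Opens) := isAffineOpen_top Y
  letI : Algebra Γ(Y, (⊤ : Y.Opens)) Γ(Y, Y.basicOpen h) :=
    (Y.presheaf.map (homOfLE (Y.basicOpen_le h)).op).hom.toAlgebra
  letI : Module Γ(Y, (⊤ : Y.Opens)) Γ(G, Y.basicOpen h) :=
    Module.compHom _ (Y.presheaf.map (homOfLE (Y.basicOpen_le h)).op).hom
  haveI : IsScalarTower Γ(Y, (⊤ : Y.Opens)) Γ(Y, Y.basicOpen h) Γ(G, Y.basicOpen h) :=
    IsScalarTower.of_algebraMap_smul (fun _ _ => rfl)
  haveI : IsLocalization.Away h Γ(Y, Y.basicOpen h) := hU.isLocalization_basicOpen h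
  have hld : RelFPKit.LocData (Y.presheaf.map (homOfLE (Y.basicOpen_le h)).op).hom h
      (G.presheaf.map (homOfLE (Y.basicOpen_le h)).op).hom :=
    RelFPAff.locData (F := G) hU h _ rfl
  let φ : Γ(G, (⊤ : Y.Opens)) →ₗ[Γ(Y, (⊤ : Y.Opens))] Γ(G, Y.basicOpen h) :=
    { toFun := (G.presheaf.map (homOfLE (Y.basicOpen_le h)).op).hom
      map_add' := map_add _
      map_smul' := hld.smul }
  haveI : IsLocalizedModule (Submonoid.powers h) φ := QCohFT.isLocalizedModule_of_locData hld
  have hli' : LinearIndependent Γ(Y, Y.basicOpen h) (φ ∘ t) :=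
    LinearIndependent.of_isLocalizedModule Γ(Y, Y.basicOpen h) (Submonoid.powers h) φ hli
  exact Fintype.linearIndependent_iff.mp hli' a hsum

/-- Linearly independent global sections define a monomorphism from the free module. -/
theorem mono_freeHom [IsAffine Y] [G.IsQuasicoherent] {r : ℕ} (t : Fin r → Γ(G, ⊤))
    (hli : LinearIndependent Γ(Y, (⊤ : Y.Opens)) t) : Mono (freeHom G t) := by
  suffices h : ∀ V : Y.Opens, Function.Injective ((freeHom G t).app V) by
    haveI : ∀ V : (Opens Y)ᵒᵖ, Mono ((freeHom G t).mapPresheaf.app V) := fun V =>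
      (AddCommGrpCat.mono_iff_injective _).mpr (h V.unop)
    haveI : Mono ((Scheme.Modules.toPresheaf Y).map (freeHom G t)) :=
      NatTrans.mono_of_mono_app (freeHom G t).mapPresheaf
    exact (Scheme.Modules.toPresheaf Y).mono_of_mono_map this
  intro V
  rw [injective_iff_map_eq_zero]
  intro y hy
  let 𝓕 : TopCat.Sheaf Ab Y := ⟨(FlatMod.freeMod Y r).presheaf, (FlatMod.freeMod Y r).isSheaf⟩
  let ι := {h : Γ(Y, (⊤ : Y.Opens)) // Y.basicOpen h ≤ V}
  refine TopCat.Sheaf.eq_of_locally_eq' 𝓕 (fun h : ι => Y.basicOpen h.1) V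
    (fun h => homOfLE h.2) ?_ y 0 ?_
  · intro x hx
    obtain ⟨h, hhV, hxh⟩ := (isAffineOpen_top Y).exists_basicOpen_le ⟨x, hx⟩ (Opens.mem_top x)
    exact Opens.mem_iSup.mpr ⟨⟨h, hhV⟩, hxh⟩
  · rintro ⟨h, hhV⟩
    rw [map_zero]
    set y' : Γ(FlatMod.freeMod Y r, Y.basicOpen h) :=
      (FlatMod.freeMod Y r).presheaf.map (homOfLE hhV).op y with hy'
    change y' = 0
    have hπy' : (freeHom G t).app (Y.basicOpen h) y' = 0 := by
      have hnat := congrArg (fun φ => φ y)
        ((freeHom G t).mapPresheaf.naturality (homOfLE hhV).op)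
      simp only [ConcreteCategory.comp_apply] at hnat
      rw [hy']
      refine hnat.trans ?_
      change G.presheaf.map (homOfLE hhV).op ((freeHom G t).app V y) = 0
      rw [hy, map_zero]
    let a : Fin r → Γ(Y, Y.basicOpen h) := fun i => (projM i).val.app (op (Y.basicOpen h)) y'
    have hdec := section_eq_sum (Y.basicOpen h) y'
    have hsum : ∑ i, a i • G.presheaf.map (homOfLE (Y.basicOpen_le h)).op (t i) = 0 := by
      rw [← hπy']
      conv_rhs => rw [hdec]
      refine Eq.trans ?_ (map_sum ((freeHom G t).app (Y.basicOpen h)).hom _ Finset.univ).symm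
      exact Finset.sum_congr rfl (fun i _ => (freeHom_app_ι G t i (Y.basicOpen h) (a i)).symm)
    have ha := li_res G t hli h a hsum
    rw [hdec]
    apply Finset.sum_eq_zero
    intro i _
    have : (projM i).val.app (op (Y.basicOpen h)) y' = 0 := ha i
    rw [this, map_zero]
    rfl

theorem isIso_freeHom [IsAffine Y] [G.IsQuasicoherent] {r : ℕ} (t : Fin r → Γ(G, ⊤))
    (hli : LinearIndependent Γ(Y, (⊤ : Y.Opens)) t)
    (ht : Submodule.span Γ(Y, (⊤ : Y.Opens)) (Set.range t) = ⊤) : IsIso (freeHom G t) := by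
  haveI := mono_freeHom G t hli
  haveI := epi_freeHom G t ht
  exact isIso_of_mono_of_epi _

end Iso

section Transport

theorem li_of_smul_eq {R R' M : Type*} [CommRing R] [CommRing R'] [AddCommGroup M]
    [Module R M] [Module R' M] (e : R' →+* R) (he : Function.Injective e)
    (hsm : ∀ (r' : R') (x : M), r' • x = e r' • x) {r : ℕ} (g : Fin r → M)
    (h : LinearIndependent R g) : LinearIndependent R' g := by
  rw [Fintype.linearIndependent_iff] at h ⊢
  intro c hc i
  have h1 : ∑ i, e (c i) • g i = 0 := by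
    rw [← hc]
    exact Finset.sum_congr rfl (fun i _ => (hsm _ _).symm)
  have h2 := h (fun i => e (c i)) h1 i
  exact he (by rw [h2, map_zero])

theorem li_of_smul_eq' {R R' M : Type*} [CommRing R] [CommRing R'] [AddCommGroup M]
    [Module R M] [Module R' M] (e : R' →+* R) (he : Function.Surjective e)
    (hsm : ∀ (r' : R') (x : M), r' • x = e r' • x) {r : ℕ} (g : Fin r → M)
    (h : LinearIndependent R' g) : LinearIndependent R g := by
  rw [Fintype.linearIndependent_iff] at h ⊢
  intro c hc i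
  choose c' hc' using fun i => he (c i)
  have h1 : ∑ i, c' i • g i = 0 := by
    rw [← hc]
    exact Finset.sum_congr rfl (fun i _ => by rw [hsm, hc'])
  have h2 := h c' h1 i
  rw [← hc', h2, map_zero]

end Transport

section Main

variable {X : Scheme.{u}} (F : X.Modules)

theorem cast_basis {V V' : X.Opens} (e : V = V') (r : ℕ)
    (h : ∃ g : Fin r → Γ(F, V), Submodule.span Γ(X, V) (Set.range g) = ⊤ ∧
      LinearIndependent Γ(X, V) g) :
    ∃ g : Fin r → Γ(F, V'), Submodule.span Γ(X, V') (Set.range g) = ⊤ ∧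
      LinearIndependent Γ(X, V') g := by
  subst e
  exact h

/-- A trivialization of `F` over `U` gives bases of the sections over affine opens inside `U`. -/
theorem exists_basis_of_iso {U : X.Opens} {r : ℕ}
    (α : F.restrict U.ι ≅ FlatMod.freeMod (↑U) r) {V' : (U : Scheme.{u}).Opens} :
    ∃ g : Fin r → Γ(F, U.ι ''ᵁ V'), Submodule.span Γ(X, U.ι ''ᵁ V') (Set.range g) = ⊤ ∧
      LinearIndependent Γ(X, U.ι ''ᵁ V') g := by
  classical
  let o1 : Γ(Coh.structureModule (↑U), V') := (1 : Γ((U : Scheme.{u}), V'))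
  -- ring elements as sections of the structure module
  let toM : Γ((U : Scheme.{u}), V') → Γ(Coh.structureModule (↑U), V') := fun a => a
  let ofM : Γ(Coh.structureModule (↑U), V') → Γ((U : Scheme.{u}), V') := fun a => a
  have htoM : ∀ a : Γ((U : Scheme.{u}), V'), toM a = a • o1 := fun a => (mul_one a).symm
  let e1 : Fin r → Γ(FlatMod.freeMod (↑U) r, V') := fun i =>
    (ιM i : Coh.structureModule (↑U) ⟶ FlatMod.freeMod (↑U) r).app V' o1
  have hιa : ∀ (i : Fin r) (a : Γ((U : Scheme.{u}), V')),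
      (ιM i : Coh.structureModule (↑U) ⟶ FlatMod.freeMod (↑U) r).app V' (toM a) = a • e1 i := by
    intro i a
    rw [htoM]
    exact Scheme.Modules.Hom.app_smul _ _ _
  have hhi : ∀ y, α.hom.app V' (α.inv.app V' y) = y := by
    intro y
    have := congrArg (fun φ => Scheme.Modules.Hom.app φ V' y) α.inv_hom_id
    exact this
  have hih : ∀ m, α.inv.app V' (α.hom.app V' m) = m := by
    intro m
    have := congrArg (fun φ => Scheme.Modules.Hom.app φ V' m) α.hom_inv_id
    exact this
  let g : Fin r → Γ(F.restrict U.ι, V') := fun i => α.inv.app V' (e1 i)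
  have hdec : ∀ y : Γ(FlatMod.freeMod (↑U) r, V'),
      y = ∑ i, ofM ((projM i).app V' y) • e1 i := by
    intro y
    refine (section_eq_sum V' y).trans ?_
    apply Finset.sum_congr rfl
    intro i _
    exact hιa i (ofM ((projM i).app V' y))
  have hproj : ∀ (j i : Fin r) (a : Γ((U : Scheme.{u}), V')),
      ofM ((projM j).app V' (a • e1 i)) = if i = j then a else 0 := by
    intro j i a
    rw [← hιa i a]
    have := projM_ι_app j i V' (toM a)
    refine (congrArg ofM this).trans ?_
    split_ifs <;> rfl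
  have hspan : Submodule.span Γ((U : Scheme.{u}), V') (Set.range g) = ⊤ := by
    rw [eq_top_iff]
    intro m _
    have hm : m = ∑ i, ofM ((projM i).app V' (α.hom.app V' m)) • g i := by
      conv_lhs => rw [← hih m, hdec (α.hom.app V' m)]
      refine (map_sum (α.inv.app V').hom _ Finset.univ).trans ?_
      apply Finset.sum_congr rfl
      intro i _
      exact Scheme.Modules.Hom.app_smul _ _ _
    rw [hm]
    exact Submodule.sum_mem _ (fun i _ => Submodule.smul_mem _ _ (Submodule.subset_span ⟨i, rfl⟩))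
  have hli : LinearIndependent Γ((U : Scheme.{u}), V') g := by
    rw [Fintype.linearIndependent_iff]
    intro c hc j
    have h1 : ∑ i, c i • e1 i = 0 := by
      have h2 := congrArg (α.hom.app V') hc
      rw [map_zero] at h2
      refine Eq.trans ?_ h2
      refine Eq.trans ?_ (map_sum (α.hom.app V').hom _ Finset.univ).symm
      apply Finset.sum_congr rfl
      intro i _
      refine Eq.trans ?_ (Scheme.Modules.Hom.app_smul _ _ _).symm
      exact congrArg (c i • ·) (hhi (e1 i)).symm
    have h3 : ofM ((projM j).app V' (∑ i, c i • e1 i)) = 0 := by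
      rw [h1, map_zero]
      rfl
    have h4 : ofM ((projM j).app V' (∑ i, c i • e1 i)) = c j := by
      have h5 : (projM j).app V' (∑ i, c i • e1 i) = ∑ i, (projM j).app V' (c i • e1 i) :=
        map_sum ((projM j).app V').hom _ Finset.univ
      have h6 : ofM (∑ i, (projM j).app V' (c i • e1 i)) =
          ∑ i, ofM ((projM j).app V' (c i • e1 i)) := rfl
      rw [h5, h6, Finset.sum_congr rfl (fun i _ => hproj j i (c i))]
      simp
    rw [h4] at h3
    exact h3
  refine ⟨g, ?_, ?_⟩
  · exact @span_top_of_smul_eq' Γ(X, U.ι ''ᵁ V') Γ((U : Scheme.{u}), V') Γ(F.restrict U.ι, V') _ _ _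
      (inferInstance : Module Γ(X, U.ι ''ᵁ V') Γ(F, U.ι ''ᵁ V')) inferInstance
      (U.ι.appIso V').inv.hom (fun _ _ => rfl) _ hspan
  · refine @li_of_smul_eq' Γ(X, U.ι ''ᵁ V') Γ((U : Scheme.{u}), V') Γ(F.restrict U.ι, V') _ _ _
      (inferInstance : Module Γ(X, U.ι ''ᵁ V') Γ(F, U.ι ''ᵁ V')) inferInstance
      (U.ι.appIso V').inv.hom ?_ (fun _ _ => rfl) _ g hli
    intro y
    refine ⟨(U.ι.appIso V').hom.hom y, ?_⟩
    change ((U.ι.appIso V').hom ≫ (U.ι.appIso V').inv).hom y = y
    rw [Iso.hom_inv_id]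
    rfl


/-- `F` is finite locally free of rank `r` iff `Fit_k(F) = 0` for `k < r` and `Fit_k(F) = O_X` for
`k ≥ r`. -/
theorem finLocFree_iff [F.IsQuasicoherent]
    [SheafOfModules.IsFiniteType (R := X.ringCatSheaf) F] (r : ℕ) :
    FlatMod.IsFinLocFreeOfRank r F ↔
      (∀ k : ℕ, k < r → Fitt.sheafIdeal F k = ⊥) ∧ (∀ k : ℕ, r ≤ k → Fitt.sheafIdeal F k = ⊤) := by
  constructor
  · intro hfree
    let ι := {W : X.affineOpens // ∃ g : Fin r → Γ(F, W.1),
      Submodule.span Γ(X, W.1) (Set.range g) = ⊤ ∧ LinearIndependent Γ(X, W.1) g}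
    have hcover : ⨆ i : ι, (i.1 : X.affineOpens).1 = ⊤ := by
      rw [eq_top_iff]
      intro x _
      obtain ⟨U, hxU, ⟨α⟩⟩ := hfree x
      obtain ⟨_, ⟨V', hV' : IsAffineOpen V', rfl⟩, hxV', -⟩ :=
        ((U : Scheme.{u}).isBasis_affineOpens).exists_subset_of_mem_open
          (Set.mem_univ (⟨x, hxU⟩ : (U : Scheme.{u}))) isOpen_univ
      have hW : IsAffineOpen (U.ι ''ᵁ V') := hV'.image_of_isOpenImmersion U.ι
      obtain ⟨g, hspan, hli⟩ := exists_basis_of_iso F α (V' := V')
      exact Opens.mem_iSup.mpr ⟨⟨⟨U.ι ''ᵁ V', hW⟩, g, hspan, hli⟩, ⟨⟨x, hxU⟩, hxV', rfl⟩⟩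
    constructor
    · intro k hk
      apply Scheme.IdealSheafData.ext_of_iSup_eq_top (fun i : ι => i.1) hcover
      rintro ⟨W, g, hspan, hli⟩
      rw [SDivFittH8.sheafIdeal_ideal]
      exact fitt_of_basis_of_lt (Module.Basis.mk hli hspan.ge) k hk
    · intro k hk
      apply Scheme.IdealSheafData.ext_of_iSup_eq_top (fun i : ι => i.1) hcover
      rintro ⟨W, g, hspan, hli⟩
      rw [SDivFittH8.sheafIdeal_ideal]
      exact fitt_of_basis_of_le (Module.Basis.mk hli hspan.ge) k hk
  · rintro ⟨h1, h2⟩ x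
    obtain ⟨_, ⟨V, hV : IsAffineOpen V, rfl⟩, hxV, -⟩ :=
      (X.isBasis_affineOpens).exists_subset_of_mem_open (Set.mem_univ x) isOpen_univ
    have hxV' : x ∈ V := hxV
    have ha : (1 : Γ(X, V)) ∈ Fitt.ideal Γ(X, V) Γ(F, V) r := by
      rw [← SDivFittH8.sheafIdeal_ideal F r ⟨V, hV⟩, h2 r le_rfl]
      trivial
    have hx1 : x ∈ X.basicOpen (1 : Γ(X, V)) := by
      rw [Scheme.basicOpen_of_isUnit _ isUnit_one]
      exact hxV'
    obtain ⟨d, hxd, g, hg⟩ := exists_span_basicOpen F hV hxV' r 1 ha hx1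
    have hW : IsAffineOpen (X.basicOpen d) := hV.basicOpen d
    have hli : LinearIndependent Γ(X, X.basicOpen d) g := by
      rcases Nat.eq_zero_or_pos r with hr0 | hr
      · subst hr0
        exact linearIndependent_empty_type
      · apply linearIndependent_of_fitt_eq_bot g hg hr
        rw [← SDivFittH8.sheafIdeal_ideal F (r - 1) ⟨X.basicOpen d, hW⟩, h1 (r - 1) (by omega)]
        rfl
    obtain ⟨g', hg', hli'⟩ := cast_basis F (X.basicOpen d).ι_image_top.symm r ⟨g, hg, hli⟩
    haveI : IsAffine ((X.basicOpen d : X.Opens) : Scheme.{u}) := hW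
    let t : Fin r → Γ(F.restrict (X.basicOpen d).ι, ⊤) := g'
    have hsurj : Function.Surjective ((X.basicOpen d).ι.appIso ⊤).inv.hom := by
      intro y
      refine ⟨((X.basicOpen d).ι.appIso ⊤).hom.hom y, ?_⟩
      change (((X.basicOpen d).ι.appIso ⊤).hom ≫ ((X.basicOpen d).ι.appIso ⊤).inv).hom y = y
      rw [Iso.hom_inv_id]
      rfl
    have hinj : Function.Injective ((X.basicOpen d).ι.appIso ⊤).inv.hom := by
      intro y y' hyy
      have := congrArg ((X.basicOpen d).ι.appIso ⊤).hom.hom hyy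
      change (((X.basicOpen d).ι.appIso ⊤).inv ≫ ((X.basicOpen d).ι.appIso ⊤).hom).hom y =
        (((X.basicOpen d).ι.appIso ⊤).inv ≫ ((X.basicOpen d).ι.appIso ⊤).hom).hom y' at this
      rw [Iso.inv_hom_id] at this
      exact this
    have ht : Submodule.span Γ(((X.basicOpen d : X.Opens) : Scheme.{u}), ⊤) (Set.range t) = ⊤ :=
      @span_top_of_smul_eq Γ(X, (X.basicOpen d).ι ''ᵁ ⊤)
        Γ(((X.basicOpen d : X.Opens) : Scheme.{u}), ⊤) Γ(F.restrict (X.basicOpen d).ι, ⊤) _ _ _
        (inferInstance : Module Γ(X, (X.basicOpen d).ι ''ᵁ ⊤) Γ(F, (X.basicOpen d).ι ''ᵁ ⊤))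
        inferInstance ((X.basicOpen d).ι.appIso ⊤).inv.hom hsurj (fun _ _ => rfl) _ hg'
    have hlit : LinearIndependent Γ(((X.basicOpen d : X.Opens) : Scheme.{u}), ⊤) t :=
      @li_of_smul_eq Γ(X, (X.basicOpen d).ι ''ᵁ ⊤)
        Γ(((X.basicOpen d : X.Opens) : Scheme.{u}), ⊤) Γ(F.restrict (X.basicOpen d).ι, ⊤) _ _ _
        (inferInstance : Module Γ(X, (X.basicOpen d).ι ''ᵁ ⊤) Γ(F, (X.basicOpen d).ι ''ᵁ ⊤))
        inferInstance ((X.basicOpen d).ι.appIso ⊤).inv.hom hinj (fun _ _ => rfl) _ g' hli'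
    haveI := isIso_freeHom (F.restrict (X.basicOpen d).ι) t hlit ht
    exact ⟨X.basicOpen d, hxd, ⟨(asIso (freeHom (F.restrict (X.basicOpen d).ι) t)).symm⟩⟩

end Main

end SDivFreeH8
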