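import Mathlib
import Groth.Prelude
import Groth.Agent.Lib.QCohLoc_helper4

set_option autoImplicit false
universe u

open CategoryTheory AlgebraicGeometry TopologicalSpace Opposite
open Groth.Agent.Lib.QCohLoc_helper4

/-! The stalk of a quasi-coherent module at a point of an affine open is the localization of the
module of sections at the corresponding prime. -/

namespace StalkLocH8

variable {X : Scheme.{u}} (F : X.Modules)

/-- The stalk of `F` at `x` as a module over the sections of the structure sheaf over an open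
neighbourhood of `x`. -/
noncomputable abbrev modSec {U : X.Opens} {x : X} (hx : x ∈ U) :
    Module Γ(X, U) (F.presheaf.stalk x) :=
  Module.compHom _ (X.presheaf.germ U x hx).hom

/-- The germ map as a linear map over the sections of the structure sheaf. -/
noncomputable def germLin {U : X.Opens} {x : X} (hx : x ∈ U) :
    letI := modSec F hx
    Γ(F, U) →ₗ[Γ(X, U)] (F.presheaf.stalk x) :=
  letI := modSec F hx
  { toFun := fun m => F.presheaf.germ U x hx m
    map_add' := fun a b => map_add _ a b
    map_smul' := fun a m => germ_smul F U x hx a m }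

theorem germLin_apply {U : X.Opens} {x : X} (hx : x ∈ U) (m : Γ(F, U)) :
    germLin F hx m = F.presheaf.germ U x hx m := rfl

theorem notMem_prime_of_mem_basicOpen {U : X.Opens} (hU : IsAffineOpen U) {x : X} (hx : x ∈ U)
    {g : Γ(X, U)} (hgx : x ∈ X.basicOpen g) :
    g ∈ (hU.primeIdealOf ⟨x, hx⟩).asIdeal.primeCompl := by
  change g ∉ (hU.primeIdealOf ⟨x, hx⟩).asIdeal
  intro hgp
  have h1 : (X.presheaf.germ U x hx).hom g ∈
      IsLocalRing.maximalIdeal (X.presheaf.stalk x) := by
    rw [hU.primeIdealOf_eq_map_closedPoint] at hgp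
    exact hgp
  exact ((IsLocalRing.mem_maximalIdeal _).mp h1)
    ((Scheme.mem_basicOpen _ _ _ hx).mp hgx)

theorem isLocalizedModule_germLin [F.IsQuasicoherent] {U : X.Opens} (hU : IsAffineOpen U) {x : X}
    (hx : x ∈ U) :
    letI := modSec F hx
    IsLocalizedModule (hU.primeIdealOf ⟨x, hx⟩).asIdeal.primeCompl (germLin F hx) := by
  have hloc : LocOn F U := locOn_of_isQuasicoherent F hU
  set p := (hU.primeIdealOf ⟨x, hx⟩).asIdeal with hp
  letI := TopCat.Presheaf.algebra_section_stalk X.presheaf (⟨x, hx⟩ : U)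
  haveI : IsLocalization.AtPrime (X.presheaf.stalk x) p := hU.isLocalization_stalk ⟨x, hx⟩
  letI modA : Module Γ(X, U) (F.presheaf.stalk x) := modSec F hx
  have hunit : ∀ s : p.primeCompl, IsUnit (algebraMap Γ(X, U) (X.presheaf.stalk x) s) :=
    fun s => IsLocalization.map_units (X.presheaf.stalk x) s
  refine ⟨?_, ?_, ?_⟩
  · intro s
    rw [Module.End.isUnit_iff]
    obtain ⟨u, hu⟩ := hunit s
    constructor
    · intro a b hab
      have hab' : algebraMap Γ(X, U) (X.presheaf.stalk x) s • a =
          algebraMap Γ(X, U) (X.presheaf.stalk x) s • b := hab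
      rw [← hu] at hab'
      have := congrArg (fun z => (↑u⁻¹ : X.presheaf.stalk x) • z) hab'
      simpa [smul_smul] using this
    · intro b
      refine ⟨(↑u⁻¹ : X.presheaf.stalk x) • b, ?_⟩
      change algebraMap Γ(X, U) (X.presheaf.stalk x) s • ((↑u⁻¹ : X.presheaf.stalk x) • b) = b
      rw [← hu, smul_smul, Units.mul_inv, one_smul]
  · intro y
    obtain ⟨g, t, hgx, hgt⟩ := hloc.exists_germ_eq_smul hU hx y
    exact ⟨⟨t, ⟨g, notMem_prime_of_mem_basicOpen hU hx hgx⟩⟩, hgt.symm⟩
  · intro m₁ m₂ h
    have h0 : F.presheaf.germ U x hx (m₁ - m₂) = 0 := by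
      rw [map_sub]; exact sub_eq_zero.mpr h
    obtain ⟨g, hgx, hg0⟩ := hloc.exists_smul_eq_zero_of_germ_eq_zero hU hx (m₁ - m₂) h0
    refine ⟨⟨g, notMem_prime_of_mem_basicOpen hU hx hgx⟩, ?_⟩
    rw [smul_sub] at hg0
    exact sub_eq_zero.mp hg0

end StalkLocH8
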