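import Mathlib
import Groth.Prelude.Def_CohB1
import Groth.Prelude.Def_FlatMod2
import Groth.Agent.Lib.SDivFree_helper8
import Groth.Agent.Lib.StalkLoc_helper8
import Groth.Agent.Lib.QCohFP2_helper9
import Groth.Agent.Lib.RelFPAff_helper9

/-!
# Finite locally free modules: basic dictionary (helper8)
APPEND-ONLY once landed.
-/

set_option autoImplicit false

namespace FLFH8

open AlgebraicGeometry CategoryTheory CategoryTheory.Limits TopologicalSpace Opposite
open SDivGenH8 SDivFreeH8

universe u

section Algebra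

/-- Transport of a basis of the standard localization along elementary localization data. -/
theorem basis_of_locData {A A' M M' : Type u} [CommRing A] [CommRing A'] [AddCommGroup M]
    [Module A M] [AddCommGroup M'] [Module A' M'] {ρ : A →+* A'} {a : A} {l : M →+ M'}
    (hld : RelFPKit.LocData ρ a l) {I : Type*}
    (b : Module.Basis I (Localization (Submonoid.powers a)) (LocalizedModule.Away a M)) :
    Nonempty (Module.Basis I A' M') := by
  letI algA' : Algebra A A' := ρ.toAlgebra
  haveI : IsLocalization.Away a A' := hld.isLoc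
  letI modAM' : Module A M' := Module.compHom M' ρ
  haveI : IsScalarTower A A' M' := IsScalarTower.of_algebraMap_smul (fun _ _ => rfl)
  let φ : M →ₗ[A] M' := { toFun := l, map_add' := l.map_add, map_smul' := hld.smul }
  haveI : IsLocalizedModule (Submonoid.powers a) φ := QCohFT.isLocalizedModule_of_locData hld
  let σ : Localization (Submonoid.powers a) ≃ₐ[A] A' :=
    IsLocalization.algEquiv (Submonoid.powers a) (Localization (Submonoid.powers a)) A'
  letI modL : Module (Localization (Submonoid.powers a)) M' :=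
    Module.compHom M' (σ : Localization (Submonoid.powers a) →+* A')
  haveI : IsScalarTower A (Localization (Submonoid.powers a)) M' := by
    refine IsScalarTower.of_algebraMap_smul (fun r m => ?_)
    change σ (algebraMap A _ r) • m = ρ r • m
    rw [σ.commutes]
    rfl
  let e : LocalizedModule.Away a M ≃ₗ[Localization (Submonoid.powers a)] M' :=
    (IsLocalizedModule.iso (Submonoid.powers a) φ).extendScalarsOfIsLocalization
      (Submonoid.powers a) (Localization (Submonoid.powers a))
  let b1 : Module.Basis I (Localization (Submonoid.powers a)) M' := b.map e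
  exact ⟨b1.mapCoeffs σ.toRingEquiv (fun c x => rfl)⟩

end Algebra

section Main

variable {X : Scheme.{u}} (F : X.Modules)

/-- A basis of the sections of a quasi-coherent module over an affine open trivializes the module
over that open. -/
theorem iso_of_basis [F.IsQuasicoherent] {W : X.Opens} (hW : IsAffineOpen W) {r : ℕ}
    (g : Fin r → Γ(F, W)) (hg : Submodule.span Γ(X, W) (Set.range g) = ⊤)
    (hli : LinearIndependent Γ(X, W) g) :
    Nonempty (F.restrict W.ι ≅ FlatMod.freeMod (↑W) r) := by
  obtain ⟨g', hg', hli'⟩ := cast_basis F W.ι_image_top.symm r ⟨g, hg, hli⟩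
  haveI : IsAffine ((W : X.Opens) : Scheme.{u}) := hW
  let t : Fin r → Γ(F.restrict W.ι, ⊤) := g'
  have hsurj : Function.Surjective (W.ι.appIso ⊤).inv.hom := by
    intro y
    refine ⟨(W.ι.appIso ⊤).hom.hom y, ?_⟩
    change ((W.ι.appIso ⊤).hom ≫ (W.ι.appIso ⊤).inv).hom y = y
    rw [Iso.hom_inv_id]
    rfl
  have hinj : Function.Injective (W.ι.appIso ⊤).inv.hom := by
    intro y y' hyy
    have := congrArg (W.ι.appIso ⊤).hom.hom hyy
    change ((W.ι.appIso ⊤).inv ≫ (W.ι.appIso ⊤).hom).hom y =
      ((W.ι.appIso ⊤).inv ≫ (W.ι.appIso ⊤).hom).hom y' at this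
    rw [Iso.inv_hom_id] at this
    exact this
  have ht : Submodule.span Γ(((W : X.Opens) : Scheme.{u}), ⊤) (Set.range t) = ⊤ :=
    @span_top_of_smul_eq Γ(X, W.ι ''ᵁ ⊤)
      Γ(((W : X.Opens) : Scheme.{u}), ⊤) Γ(F.restrict W.ι, ⊤) _ _ _
      (inferInstance : Module Γ(X, W.ι ''ᵁ ⊤) Γ(F, W.ι ''ᵁ ⊤))
      inferInstance (W.ι.appIso ⊤).inv.hom hsurj (fun _ _ => rfl) _ hg'
  have hlit : LinearIndependent Γ(((W : X.Opens) : Scheme.{u}), ⊤) t :=
    @li_of_smul_eq Γ(X, W.ι ''ᵁ ⊤)
      Γ(((W : X.Opens) : Scheme.{u}), ⊤) Γ(F.restrict W.ι, ⊤) _ _ _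
      (inferInstance : Module Γ(X, W.ι ''ᵁ ⊤) Γ(F, W.ι ''ᵁ ⊤))
      inferInstance (W.ι.appIso ⊤).inv.hom hinj (fun _ _ => rfl) _ g' hli'
  haveI := isIso_freeHom (F.restrict W.ι) t hlit ht
  exact ⟨(asIso (freeHom (F.restrict W.ι) t)).symm⟩

theorem mem_basicOpen_of_notMem_prime {U : X.Opens} (hU : IsAffineOpen U) {x : X} (hx : x ∈ U)
    {g : Γ(X, U)} (hg : g ∈ (hU.primeIdealOf ⟨x, hx⟩).asIdeal.primeCompl) :
    x ∈ X.basicOpen g := by
  rw [Scheme.mem_basicOpen _ _ _ hx]
  by_contra hnu
  apply hg
  rw [hU.primeIdealOf_eq_map_closedPoint]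
  exact (IsLocalRing.mem_maximalIdeal _).mpr hnu

/-- If the stalk at `x` of a quasi-coherent module with finitely presented sections over an affine
open `U ∋ x` is free, then the sections over some basic open neighbourhood of `x` have a basis. -/
theorem exists_basis_basicOpen [F.IsQuasicoherent] {U : X.Opens} (hU : IsAffineOpen U) {x : X}
    (hx : x ∈ U) [Module.FinitePresentation Γ(X, U) Γ(F, U)]
    (hfree : Module.Free (X.presheaf.stalk x) (F.presheaf.stalk x)) :
    ∃ f : Γ(X, U), x ∈ X.basicOpen f ∧ ∃ (r : ℕ) (g : Fin r → Γ(F, X.basicOpen f)),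
      Submodule.span Γ(X, X.basicOpen f) (Set.range g) = ⊤ ∧
      LinearIndependent Γ(X, X.basicOpen f) g := by
  classical
  set p := (hU.primeIdealOf ⟨x, hx⟩).asIdeal with hp
  letI := TopCat.Presheaf.algebra_section_stalk X.presheaf (⟨x, hx⟩ : U)
  haveI : IsLocalization.AtPrime (X.presheaf.stalk x) p := hU.isLocalization_stalk ⟨x, hx⟩
  letI modA : Module Γ(X, U) (F.presheaf.stalk x) := StalkLocH8.modSec F hx
  haveI : IsScalarTower Γ(X, U) (X.presheaf.stalk x) (F.presheaf.stalk x) :=
    IsScalarTower.of_algebraMap_smul (fun _ _ => rfl)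
  haveI := StalkLocH8.isLocalizedModule_germLin F hU hx
  haveI : Module.Finite (X.presheaf.stalk x) (F.presheaf.stalk x) :=
    Module.Finite.of_isLocalizedModule p.primeCompl (Rₚ := X.presheaf.stalk x)
      (StalkLocH8.germLin F hx)
  let I := Module.Free.ChooseBasisIndex (X.presheaf.stalk x) (F.presheaf.stalk x)
  let b : Module.Basis I (X.presheaf.stalk x) (F.presheaf.stalk x) :=
    Module.Free.chooseBasis (X.presheaf.stalk x) (F.presheaf.stalk x)
  obtain ⟨f, hf, b', -⟩ := Module.FinitePresentation.exists_basis_localizedModule_powers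
    p.primeCompl (StalkLocH8.germLin F hx) (X.presheaf.stalk x) b
  have hxf : x ∈ X.basicOpen f := mem_basicOpen_of_notMem_prime hU hx hf
  have hld : RelFPKit.LocData (X.presheaf.map (homOfLE (X.basicOpen_le f)).op).hom f
      (F.presheaf.map (homOfLE (X.basicOpen_le f)).op).hom :=
    RelFPAff.locData (F := F) hU f _ rfl
  obtain ⟨b2⟩ := basis_of_locData hld b'
  let b3 := b2.reindex (Fintype.equivFin I)
  exact ⟨f, hxf, Fintype.card I, ⇑b3, b3.span_eq, b3.linearIndependent⟩

/-- A quasi-coherent module of finite presentation with a free stalk at `x` is free near `x`. -/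
theorem exists_free_nhd [F.IsQuasicoherent]
    [SheafOfModules.IsFinitePresentation (R := X.ringCatSheaf) F] (x : X)
    (hfree : Module.Free (X.presheaf.stalk x) (F.presheaf.stalk x)) :
    ∃ (U : X.Opens) (n : ℕ), x ∈ U ∧ Nonempty (F.restrict U.ι ≅ FlatMod.freeMod (↑U) n) := by
  obtain ⟨_, ⟨V, hV : IsAffineOpen V, rfl⟩, hxV, -⟩ :=
    (X.isBasis_affineOpens).exists_subset_of_mem_open (Set.mem_univ x) isOpen_univ
  have hxV' : x ∈ V := hxV
  haveI : Module.FinitePresentation Γ(X, V) Γ(F, V) :=
    QCohFP2.finitePresentation_of_isFinitePresentation F hV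
  obtain ⟨f, hxf, r, g, hg, hli⟩ := exists_basis_basicOpen F hV hxV' hfree
  exact ⟨X.basicOpen f, r, hxf, iso_of_basis F (hV.basicOpen f) g hg hli⟩

end Main

end FLFH8
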