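import Mathlib
import Groth.Prelude.Def_CohB1
import Groth.Prelude.Def_FlatMod2
import Groth.Agent.Lib.FLF1_helper8
import Groth.Agent.Lib.Fitt6_helper8

/-!
# Finite locally free modules: stalks and ranks (helper8)
APPEND-ONLY once landed.
-/

set_option autoImplicit false

namespace FLFH8

open AlgebraicGeometry CategoryTheory CategoryTheory.Limits TopologicalSpace Opposite TensorProduct
open SDivGenH8 SDivFreeH8

universe u

section Main

variable {X : Scheme.{u}} (F : X.Modules)

/-- A finite locally free module has bases of sections over arbitrarily small affine opens. -/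
theorem exists_affine_basis_le (hF : FlatMod.IsFinLocFree F) {x : X} {O : X.Opens} (hxO : x ∈ O) :
    ∃ W : X.Opens, IsAffineOpen W ∧ x ∈ W ∧ W ≤ O ∧ ∃ (r : ℕ) (g : Fin r → Γ(F, W)),
      Submodule.span Γ(X, W) (Set.range g) = ⊤ ∧ LinearIndependent Γ(X, W) g := by
  obtain ⟨U, r, hxU, ⟨α⟩⟩ := hF x
  have hx' : (⟨x, hxU⟩ : (U : Scheme.{u})) ∈ U.ι ⁻¹ᵁ O := hxO
  obtain ⟨_, ⟨V', hV' : IsAffineOpen V', rfl⟩, hxV', hV'O⟩ :=
    ((U : Scheme.{u}).isBasis_affineOpens).exists_subset_of_mem_open hx' (U.ι ⁻¹ᵁ O).isOpen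
  have hW : IsAffineOpen (U.ι ''ᵁ V') := hV'.image_of_isOpenImmersion U.ι
  obtain ⟨g, hspan, hli⟩ := exists_basis_of_iso F α (V' := V')
  refine ⟨U.ι ''ᵁ V', hW, ⟨⟨x, hxU⟩, hxV', rfl⟩, ?_, r, g, hspan, hli⟩
  rintro _ ⟨z, hz, rfl⟩
  exact hV'O hz

theorem exists_affine_basis (hF : FlatMod.IsFinLocFree F) (x : X) :
    ∃ W : X.Opens, IsAffineOpen W ∧ x ∈ W ∧ ∃ (r : ℕ) (g : Fin r → Γ(F, W)),
      Submodule.span Γ(X, W) (Set.range g) = ⊤ ∧ LinearIndependent Γ(X, W) g := by
  obtain ⟨W, hW, hxW, -, h⟩ := exists_affine_basis_le F hF (x := x) (O := ⊤) trivial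
  exact ⟨W, hW, hxW, h⟩

/-- The stalks of a quasi-coherent module at points of an affine open over which the sections have
a basis are free of the corresponding rank. -/
theorem free_stalk_of_basis [F.IsQuasicoherent] {W : X.Opens} (hW : IsAffineOpen W) {y : X}
    (hy : y ∈ W) {r : ℕ} (g : Fin r → Γ(F, W))
    (hg : Submodule.span Γ(X, W) (Set.range g) = ⊤) (hli : LinearIndependent Γ(X, W) g) :
    Module.Free (X.presheaf.stalk y) (F.presheaf.stalk y) ∧
      Module.finrank (X.presheaf.stalk y) (F.presheaf.stalk y) = r := by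
  set p := (hW.primeIdealOf ⟨y, hy⟩).asIdeal with hp
  letI := TopCat.Presheaf.algebra_section_stalk X.presheaf (⟨y, hy⟩ : W)
  haveI : IsLocalization.AtPrime (X.presheaf.stalk y) p := hW.isLocalization_stalk ⟨y, hy⟩
  letI modA : Module Γ(X, W) (F.presheaf.stalk y) := StalkLocH8.modSec F hy
  haveI : IsScalarTower Γ(X, W) (X.presheaf.stalk y) (F.presheaf.stalk y) :=
    IsScalarTower.of_algebraMap_smul (fun _ _ => rfl)
  haveI := StalkLocH8.isLocalizedModule_germLin F hW hy
  let b : Module.Basis (Fin r) Γ(X, W) Γ(F, W) := Module.Basis.mk hli hg.ge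
  haveI : Module.Free Γ(X, W) Γ(F, W) := Module.Free.of_basis b
  haveI : Nontrivial Γ(X, W) := (algebraMap Γ(X, W) (X.presheaf.stalk y)).domain_nontrivial
  refine ⟨Module.free_of_isLocalizedModule p.primeCompl (StalkLocH8.germLin F hy), ?_⟩
  rw [Module.finrank_of_isLocalizedModule_of_free (X.presheaf.stalk y) p.primeCompl
    (StalkLocH8.germLin F hy), Module.finrank_eq_card_basis b, Fintype.card_fin]

/-- The germs of a spanning family of sections over an affine open span the stalk. -/
theorem span_germ [F.IsQuasicoherent] {W : X.Opens} (hW : IsAffineOpen W) {y : X}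
    (hy : y ∈ W) {r : ℕ} (g : Fin r → Γ(F, W))
    (hg : Submodule.span Γ(X, W) (Set.range g) = ⊤) :
    Submodule.span (X.presheaf.stalk y)
      (Set.range fun i => (F.presheaf.germ W y hy (g i) : F.presheaf.stalk y)) = ⊤ := by
  set p := (hW.primeIdealOf ⟨y, hy⟩).asIdeal with hp
  letI := TopCat.Presheaf.algebra_section_stalk X.presheaf (⟨y, hy⟩ : W)
  haveI : IsLocalization.AtPrime (X.presheaf.stalk y) p := hW.isLocalization_stalk ⟨y, hy⟩
  letI modA : Module Γ(X, W) (F.presheaf.stalk y) := StalkLocH8.modSec F hy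
  haveI : IsScalarTower Γ(X, W) (X.presheaf.stalk y) (F.presheaf.stalk y) :=
    IsScalarTower.of_algebraMap_smul (fun _ _ => rfl)
  haveI := StalkLocH8.isLocalizedModule_germLin F hW hy
  have h := span_eq_top_of_isLocalizedModule (X.presheaf.stalk y) p.primeCompl
    (StalkLocH8.germLin F hy) (v := Set.range g) hg
  rw [← Set.range_comp] at h
  exact h

/-- A linear relation between sections gives the corresponding relation between the germs. -/
theorem germ_relation {W : X.Opens} {y : X} (hy : y ∈ W) {r : ℕ} (g : Fin r → Γ(F, W))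
    (c : Fin r → Γ(X, W)) (hc : ∑ i, c i • g i = 0) :
    ∑ i, (X.presheaf.germ W y hy).hom (c i) •
      (F.presheaf.germ W y hy (g i) : F.presheaf.stalk y) = 0 := by
  letI modA : Module Γ(X, W) (F.presheaf.stalk y) := StalkLocH8.modSec F hy
  have h := congrArg (StalkLocH8.germLin F hy) hc
  rw [map_zero, map_sum] at h
  rw [← h]
  apply Finset.sum_congr rfl
  intro i _
  rw [map_smul]
  rfl

/-- A quasi-coherent finite locally free module is of finite presentation. -/
theorem isFinitePresentation_of_finLocFree [F.IsQuasicoherent] (hF : FlatMod.IsFinLocFree F) :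
    SheafOfModules.IsFinitePresentation (R := X.ringCatSheaf) F := by
  let ι := {W : X.affineOpens // ∃ (r : ℕ) (g : Fin r → Γ(F, W.1)),
    Submodule.span Γ(X, W.1) (Set.range g) = ⊤ ∧ LinearIndependent Γ(X, W.1) g}
  have hcover : ⨆ i : ι, (i.1 : X.affineOpens).1 = ⊤ := by
    rw [eq_top_iff]
    intro x _
    obtain ⟨W, hW, hxW, r, g, hg, hli⟩ := exists_affine_basis F hF x
    exact Opens.mem_iSup.mpr ⟨⟨⟨W, hW⟩, r, g, hg, hli⟩, hxW⟩
  refine QCohFP2.isFinitePresentation_of_sections_cover F (fun i : ι => (i.1 : X.affineOpens).1)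
    (fun i => i.1.2) hcover ?_
  rintro ⟨W, r, g, hg, hli⟩
  let b : Module.Basis (Fin r) Γ(X, W.1) Γ(F, W.1) := Module.Basis.mk hli hg.ge
  haveI : Module.Free Γ(X, W.1) Γ(F, W.1) := Module.Free.of_basis b
  haveI : Module.Finite Γ(X, W.1) Γ(F, W.1) := Module.Finite.of_basis b
  exact Module.finitePresentation_of_projective _ _

/-- The stalks of a quasi-coherent finite locally free module are free. -/
theorem free_stalk_of_finLocFree [F.IsQuasicoherent] (hF : FlatMod.IsFinLocFree F) (x : X) :
    Module.Free (X.presheaf.stalk x) (F.presheaf.stalk x) := by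
  obtain ⟨W, hW, hxW, r, g, hg, hli⟩ := exists_affine_basis F hF x
  exact (free_stalk_of_basis F hW hxW g hg hli).1

/-- Spanning sections whose number is the rank of the stalk at `y` have no relations at `y`. -/
theorem germ_coeff_eq_zero [F.IsQuasicoherent] {W : X.Opens} (hW : IsAffineOpen W) {y : X}
    (hy : y ∈ W) {r : ℕ} (g : Fin r → Γ(F, W))
    (hg : Submodule.span Γ(X, W) (Set.range g) = ⊤)
    (hr : r ≤ Module.finrank (X.presheaf.stalk y) (F.presheaf.stalk y))
    (c : Fin r → Γ(X, W)) (hc : ∑ i, c i • g i = 0) (i : Fin r) :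
    (X.presheaf.germ W y hy).hom (c i) = 0 := by
  have hspan := span_germ F hW hy g hg
  have hli : LinearIndependent (X.presheaf.stalk y)
      (fun i => (F.presheaf.germ W y hy (g i) : F.presheaf.stalk y)) :=
    linearIndependent_of_top_le_span_of_card_le_finrank hspan.ge (by simpa using hr)
  exact Fintype.linearIndependent_iff.mp hli _ (germ_relation F hy g c hc) i

/-- Spanning sections whose number is the fibre rank at `y` have relations with coefficients
vanishing at `y`. -/
theorem germ_coeff_mem_maximalIdeal [F.IsQuasicoherent] {W : X.Opens} (hW : IsAffineOpen W) {y : X}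
    (hy : y ∈ W) {r : ℕ} (g : Fin r → Γ(F, W))
    (hg : Submodule.span Γ(X, W) (Set.range g) = ⊤)
    (hr : r ≤ Module.finrank (IsLocalRing.ResidueField (X.presheaf.stalk y))
      ((IsLocalRing.ResidueField (X.presheaf.stalk y)) ⊗[X.presheaf.stalk y]
        (F.presheaf.stalk y)))
    (c : Fin r → Γ(X, W)) (hc : ∑ i, c i • g i = 0) (i : Fin r) :
    (X.presheaf.germ W y hy).hom (c i) ∈ IsLocalRing.maximalIdeal (X.presheaf.stalk y) := by
  set κ := IsLocalRing.ResidueField (X.presheaf.stalk y) with hκ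
  have hspan := span_germ F hW hy g hg
  let γ : Fin r → F.presheaf.stalk y := fun i => F.presheaf.germ W y hy (g i)
  have hspan' : Submodule.span κ (Set.range fun i => (1 : κ) ⊗ₜ[X.presheaf.stalk y] γ i) = ⊤ := by
    rw [eq_top_iff]
    intro z _
    induction z using TensorProduct.induction_on with
    | zero => exact zero_mem _
    | tmul a m =>
      have h1 : a ⊗ₜ[X.presheaf.stalk y] m = a • ((1 : κ) ⊗ₜ[X.presheaf.stalk y] m) := by
        rw [TensorProduct.smul_tmul', smul_eq_mul, mul_one]
      rw [h1]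
      apply Submodule.smul_mem
      have hm : m ∈ Submodule.span (X.presheaf.stalk y) (Set.range γ) := by
        rw [hspan]; trivial
      have hm' : (TensorProduct.mk (X.presheaf.stalk y) κ (F.presheaf.stalk y) 1) m ∈
          Submodule.map (TensorProduct.mk (X.presheaf.stalk y) κ (F.presheaf.stalk y) 1)
            (Submodule.span (X.presheaf.stalk y) (Set.range γ)) := Submodule.mem_map_of_mem hm
      rw [Submodule.map_span, ← Set.range_comp] at hm'
      exact Submodule.span_subset_span (X.presheaf.stalk y) κ _ hm'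
    | add a b ha hb => exact add_mem (ha trivial) (hb trivial)
  have hli : LinearIndependent κ (fun i => (1 : κ) ⊗ₜ[X.presheaf.stalk y] γ i) :=
    linearIndependent_of_top_le_span_of_card_le_finrank hspan'.ge (by simpa using hr)
  have hrel : ∑ i, IsLocalRing.residue (X.presheaf.stalk y) ((X.presheaf.germ W y hy).hom (c i)) •
      ((1 : κ) ⊗ₜ[X.presheaf.stalk y] γ i) = 0 := by
    have h0 := germ_relation F hy g c hc
    have h1 := congrArg (TensorProduct.mk (X.presheaf.stalk y) κ (F.presheaf.stalk y) 1) h0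
    rw [map_zero, map_sum] at h1
    rw [← h1]
    apply Finset.sum_congr rfl
    intro i _
    rw [map_smul]
    change _ = (X.presheaf.germ W y hy).hom (c i) • ((1 : κ) ⊗ₜ[X.presheaf.stalk y] γ i)
    rw [TensorProduct.smul_tmul', TensorProduct.smul_tmul', smul_eq_mul, mul_one]
    rw [Algebra.smul_def, mul_one]
    rfl
  have := Fintype.linearIndependent_iff.mp hli _ hrel i
  exact (IsLocalRing.residue_eq_zero_iff _).mp this

/-- If the stalk at `x` is generated by `r` elements, then `F` is generated by `r` sections over a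
basic open neighbourhood of `x`. -/
theorem exists_span_basicOpen_of_stalk [F.IsQuasicoherent]
    [SheafOfModules.IsFiniteType (R := X.ringCatSheaf) F] {U : X.Opens} (hU : IsAffineOpen U)
    {x : X} (hx : x ∈ U) {r : ℕ} (γ : Fin r → F.presheaf.stalk x)
    (hγ : Submodule.span (X.presheaf.stalk x) (Set.range γ) = ⊤) :
    ∃ d : Γ(X, U), x ∈ X.basicOpen d ∧ ∃ g : Fin r → Γ(F, X.basicOpen d),
      Submodule.span Γ(X, X.basicOpen d) (Set.range g) = ⊤ := by
  set p := (hU.primeIdealOf ⟨x, hx⟩).asIdeal with hp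
  letI := TopCat.Presheaf.algebra_section_stalk X.presheaf (⟨x, hx⟩ : U)
  haveI : IsLocalization.AtPrime (X.presheaf.stalk x) p := hU.isLocalization_stalk ⟨x, hx⟩
  letI modA : Module Γ(X, U) (F.presheaf.stalk x) := StalkLocH8.modSec F hx
  haveI : IsScalarTower Γ(X, U) (X.presheaf.stalk x) (F.presheaf.stalk x) :=
    IsScalarTower.of_algebraMap_smul (fun _ _ => rfl)
  haveI := StalkLocH8.isLocalizedModule_germLin F hU hx
  haveI : Module.Finite Γ(X, U) Γ(F, U) := QCohFT.finite_of_isFiniteType F hU
  have h1 : Fitt.ideal (X.presheaf.stalk x) (F.presheaf.stalk x) r = ⊤ :=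
    FittH8.fitt_eq_top_of_span γ hγ r le_rfl
  have h2 := FittH8.fitt_localization (M := Γ(F, U)) p.primeCompl (X.presheaf.stalk x)
    (F.presheaf.stalk x) (StalkLocH8.germLin F hx) r
  have hnotle : ¬ Fitt.ideal Γ(X, U) Γ(F, U) r ≤ p := by
    intro hle
    have h3 : (Fitt.ideal Γ(X, U) Γ(F, U) r).map (algebraMap Γ(X, U) (X.presheaf.stalk x)) ≤
        p.map (algebraMap Γ(X, U) (X.presheaf.stalk x)) := Ideal.map_mono hle
    rw [← h2, h1, IsLocalization.AtPrime.map_eq_maximalIdeal] at h3
    exact (IsLocalRing.maximalIdeal.isMaximal _).ne_top (top_le_iff.mp h3)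
  obtain ⟨a, ha, hap⟩ := SetLike.not_le_iff_exists.mp hnotle
  exact exists_span_basicOpen F hU hx r a ha (mem_basicOpen_of_notMem_prime hU hx hap)

/-- The stalks of a quasi-coherent module of finite type are finite modules. -/
theorem finite_stalk [F.IsQuasicoherent]
    [SheafOfModules.IsFiniteType (R := X.ringCatSheaf) F] (x : X) :
    Module.Finite (X.presheaf.stalk x) (F.presheaf.stalk x) := by
  obtain ⟨_, ⟨U, hU : IsAffineOpen U, rfl⟩, hxU, -⟩ :=
    (X.isBasis_affineOpens).exists_subset_of_mem_open (Set.mem_univ x) isOpen_univ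
  have hx : x ∈ U := hxU
  set p := (hU.primeIdealOf ⟨x, hx⟩).asIdeal with hp
  letI := TopCat.Presheaf.algebra_section_stalk X.presheaf (⟨x, hx⟩ : U)
  haveI : IsLocalization.AtPrime (X.presheaf.stalk x) p := hU.isLocalization_stalk ⟨x, hx⟩
  letI modA : Module Γ(X, U) (F.presheaf.stalk x) := StalkLocH8.modSec F hx
  haveI : IsScalarTower Γ(X, U) (X.presheaf.stalk x) (F.presheaf.stalk x) :=
    IsScalarTower.of_algebraMap_smul (fun _ _ => rfl)
  haveI := StalkLocH8.isLocalizedModule_germLin F hU hx
  haveI : Module.Finite Γ(X, U) Γ(F, U) := QCohFT.finite_of_isFiniteType F hU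
  exact Module.Finite.of_isLocalizedModule p.primeCompl (Rₚ := X.presheaf.stalk x)
    (StalkLocH8.germLin F hx)

/-- Local freeness from generation of the stalk by `r` elements and a lower bound `r` for the
ranks of the stalks nearby. -/
theorem exists_free_nhd_of_rank [F.IsQuasicoherent]
    [SheafOfModules.IsFiniteType (R := X.ringCatSheaf) F] {x : X} {O : X.Opens} (hxO : x ∈ O)
    {r : ℕ} (γ : Fin r → F.presheaf.stalk x)
    (hγ : Submodule.span (X.presheaf.stalk x) (Set.range γ) = ⊤)
    (hO : ∀ y ∈ O, r ≤ Module.finrank (X.presheaf.stalk y) (F.presheaf.stalk y)) :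
    ∃ U : X.Opens, x ∈ U ∧ U ≤ O ∧ Nonempty (F.restrict U.ι ≅ FlatMod.freeMod (↑U) r) := by
  obtain ⟨_, ⟨U, hU : IsAffineOpen U, rfl⟩, hxU, hUO⟩ :=
    (X.isBasis_affineOpens).exists_subset_of_mem_open hxO O.isOpen
  have hx : x ∈ U := hxU
  obtain ⟨d, hxd, g, hg⟩ := exists_span_basicOpen_of_stalk F hU hx γ hγ
  have hW : IsAffineOpen (X.basicOpen d) := hU.basicOpen d
  have hWO : X.basicOpen d ≤ O := (X.basicOpen_le d).trans hUO
  have hli : LinearIndependent Γ(X, X.basicOpen d) g := by
    rw [Fintype.linearIndependent_iff]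
    intro c hc i
    apply TopCat.Presheaf.section_ext X.sheaf (X.basicOpen d)
    intro y hy
    refine (germ_coeff_eq_zero F hW hy g hg (hO y (hWO hy)) c hc i).trans ?_
    exact (map_zero (X.presheaf.germ (X.basicOpen d) y hy).hom).symm
  exact ⟨X.basicOpen d, hxd, hWO, iso_of_basis F hW g hg hli⟩

/-- On a reduced scheme: local freeness from generation of the stalk by `r` elements and a lower
bound `r` for the fibre ranks nearby. -/
theorem exists_free_nhd_of_fibre_rank [IsReduced X] [F.IsQuasicoherent]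
    [SheafOfModules.IsFiniteType (R := X.ringCatSheaf) F] {x : X} {O : X.Opens} (hxO : x ∈ O)
    {r : ℕ} (γ : Fin r → F.presheaf.stalk x)
    (hγ : Submodule.span (X.presheaf.stalk x) (Set.range γ) = ⊤)
    (hO : ∀ y ∈ O, r ≤ Module.finrank (IsLocalRing.ResidueField (X.presheaf.stalk y))
      ((IsLocalRing.ResidueField (X.presheaf.stalk y)) ⊗[X.presheaf.stalk y]
        (F.presheaf.stalk y))) :
    ∃ U : X.Opens, x ∈ U ∧ U ≤ O ∧ Nonempty (F.restrict U.ι ≅ FlatMod.freeMod (↑U) r) := by
  obtain ⟨_, ⟨U, hU : IsAffineOpen U, rfl⟩, hxU, hUO⟩ :=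
    (X.isBasis_affineOpens).exists_subset_of_mem_open hxO O.isOpen
  have hx : x ∈ U := hxU
  obtain ⟨d, hxd, g, hg⟩ := exists_span_basicOpen_of_stalk F hU hx γ hγ
  have hW : IsAffineOpen (X.basicOpen d) := hU.basicOpen d
  have hWO : X.basicOpen d ≤ O := (X.basicOpen_le d).trans hUO
  have hli : LinearIndependent Γ(X, X.basicOpen d) g := by
    rw [Fintype.linearIndependent_iff]
    intro c hc i
    rw [← basicOpen_eq_bot_iff, eq_bot_iff]
    intro y hy
    have hyW : y ∈ X.basicOpen d := X.basicOpen_le (c i) hy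
    have hmem := germ_coeff_mem_maximalIdeal F hW hyW g hg (hO y (hWO hyW)) c hc i
    exact ((IsLocalRing.mem_maximalIdeal _).mp hmem)
      ((Scheme.mem_basicOpen _ _ _ hyW).mp hy)
  exact ⟨X.basicOpen d, hxd, hWO, iso_of_basis F hW g hg hli⟩

end Main

section Algebra

/-- Over a local ring, a finite module whose fibre has dimension `r` is generated by `r`
elements. -/
theorem exists_span_of_finrank_fibre {R M : Type*} [CommRing R] [IsLocalRing R] [AddCommGroup M]
    [Module R M] [Module.Finite R M] (r : ℕ)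
    (h : Module.finrank (IsLocalRing.ResidueField R) ((IsLocalRing.ResidueField R) ⊗[R] M) = r) :
    ∃ γ : Fin r → M, Submodule.span R (Set.range γ) = ⊤ := by
  let b : Module.Basis (Fin r) (IsLocalRing.ResidueField R) ((IsLocalRing.ResidueField R) ⊗[R] M) :=
    Module.finBasisOfFinrankEq _ _ h
  have hsurj := TensorProduct.mk_surjective R M (IsLocalRing.ResidueField R)
    Ideal.Quotient.mk_surjective
  choose v hv using fun i => hsurj (b i)
  exact ⟨v, IsLocalRing.span_eq_top_of_tmul_eq_basis v b hv⟩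

end Algebra

end FLFH8
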