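import Mathlib

/-! Generic freeness, part A: pseudo-division with respect to a monomial order. -/

open MvPolynomial
open scoped MonomialOrder

namespace GenFreeH8

variable {σ : Type*} {m : MonomialOrder σ} {R : Type*} [CommRing R]

theorem degree_sub_lt_of {d : σ →₀ ℕ} {F G : MvPolynomial σ R} (hd : d ≠ 0)
    (hF : m.degree F ≼[m] d) (hG : m.degree G ≼[m] d) (hc : coeff d F = coeff d G) :
    m.degree (F - G) ≺[m] d := by
  rw [lt_iff_le_and_ne]
  refine ⟨le_trans MonomialOrder.degree_sub_le (sup_le hF hG), ?_⟩
  intro h
  simp only [EmbeddingLike.apply_eq_iff_eq] at h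
  have h0 : F - G ≠ 0 := by
    intro h0
    rw [h0, MonomialOrder.degree_zero] at h
    exact hd h.symm
  rw [← MonomialOrder.coeff_degree_ne_zero_iff (m := m), h] at h0
  apply h0
  simp [hc]

theorem degree_pseudoReduce_lt {f b : MvPolynomial σ R} {a e : R}
    (hae : m.leadingCoeff b * e = a) (hbf : m.degree b ≤ m.degree f) (hf : m.degree f ≠ 0) :
    m.degree (C a * f - monomial (m.degree f - m.degree b) (e * m.leadingCoeff f) * b)
      ≺[m] m.degree f := by
  apply degree_sub_lt_of hf
  · refine le_trans MonomialOrder.degree_mul_le ?_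
    simp [MonomialOrder.degree_C]
  · refine le_trans MonomialOrder.degree_mul_le ?_
    rw [map_add]
    have h1 : m.toSyn (m.degree (monomial (m.degree f - m.degree b) (e * m.leadingCoeff f)))
        ≤ m.toSyn (m.degree f - m.degree b) := MonomialOrder.degree_monomial_le _
    calc _ ≤ m.toSyn (m.degree f - m.degree b) + m.toSyn (m.degree b) := by gcongr
      _ = m.toSyn (m.degree f) := by rw [← map_add, tsub_add_cancel_of_le hbf]
  · rw [coeff_C_mul]
    have h1 : coeff (m.degree f)
        (monomial (m.degree f - m.degree b) (e * m.leadingCoeff f) * b) =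
        e * m.leadingCoeff f * coeff (m.degree b) b := by
      have := coeff_monomial_mul (m.degree b) (m.degree f - m.degree b) (e * m.leadingCoeff f) b
      rwa [tsub_add_cancel_of_le hbf] at this
    rw [h1, ← hae]
    simp only [MonomialOrder.leadingCoeff]
    ring

/-- Pseudo-division: if all leading coefficients of the `b i` divide `a`, then a power of `a`
times `f` is congruent modulo the `b i` to a polynomial none of whose monomials is divisible by a
leading monomial of some `b i`. -/
theorem pseudoDiv {ι : Type*} (b : ι → MvPolynomial σ R) (a : R)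
    (hb : ∀ i, m.leadingCoeff (b i) ∣ a) (f : MvPolynomial σ R) :
    ∃ k : ℕ, ∃ h ∈ Ideal.span (Set.range b), ∃ r : MvPolynomial σ R,
      C a ^ k * f = h + r ∧ ∀ c ∈ r.support, ∀ i, ¬ m.degree (b i) ≤ c := by
  by_cases hb' : ∃ i, m.degree (b i) = 0
  · obtain ⟨i, hi⟩ := hb'
    obtain ⟨e, he⟩ := hb i
    refine ⟨1, C e * f * b i, Ideal.mul_mem_left _ _ (Ideal.subset_span ⟨i, rfl⟩), 0, ?_, by simp⟩
    rw [pow_one, add_zero]
    nth_rewrite 1 [MonomialOrder.eq_C_of_degree_eq_zero hi]
    rw [he, map_mul]
    simp only [MonomialOrder.leadingCoeff]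
    ring
  push Not at hb'
  suffices H : ∀ (d : m.syn) (f : MvPolynomial σ R), m.toSyn (m.degree f) = d →
      ∃ k : ℕ, ∃ h ∈ Ideal.span (Set.range b), ∃ r : MvPolynomial σ R,
      C a ^ k * f = h + r ∧ ∀ c ∈ r.support, ∀ i, ¬ m.degree (b i) ≤ c from H _ f rfl
  intro d
  induction d using WellFoundedLT.induction with
  | _ d ih =>
    intro f hfd
    by_cases hf0 : f = 0
    · exact ⟨0, 0, Submodule.zero_mem _, 0, by simp [hf0], by simp⟩
    by_cases hf : ∃ i, m.degree (b i) ≤ m.degree f
    · obtain ⟨i, hi⟩ := hf
      obtain ⟨e, he⟩ := hb i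
      have hdf : m.degree f ≠ 0 := by
        intro h0
        apply hb' i
        rw [h0] at hi
        exact le_antisymm hi (by simp)
      have hlt := degree_pseudoReduce_lt (m := m) (f := f) (b := b i) (a := a) (e := e)
        he.symm hi hdf
      obtain ⟨k, h', hh', r', heq, hr'⟩ := ih _ (hfd ▸ hlt) _ rfl
      refine ⟨k + 1, h' + C a ^ k *
        (monomial (m.degree f - m.degree (b i)) (e * m.leadingCoeff f) * b i),
        Submodule.add_mem _ hh' (Ideal.mul_mem_left _ _
          (Ideal.mul_mem_left _ _ (Ideal.subset_span ⟨i, rfl⟩))), r', ?_, hr'⟩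
      rw [mul_sub] at heq
      rw [pow_succ, mul_assoc, add_right_comm, ← heq]
      ring
    · push Not at hf
      by_cases hdf : m.degree f = 0
      · refine ⟨0, 0, Submodule.zero_mem _, f, by simp, ?_⟩
        intro c hc i hle
        rw [MonomialOrder.eq_C_of_degree_eq_zero hdf] at hc
        have hc0 : c = 0 := by
          classical
          rw [← monomial_zero'] at hc
          have := support_monomial_subset hc
          simpa using this
        apply hf i
        rw [hdf, ← hc0]
        exact hle
      · have hlt := MonomialOrder.degree_sub_LTerm_lt (m := m) hdf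
        obtain ⟨k, h', hh', r', heq, hr'⟩ := ih _ (hfd ▸ hlt) _ rfl
        refine ⟨k, h', hh', r' + C a ^ k * monomial (m.degree f) (m.leadingCoeff f), ?_, ?_⟩
        · rw [← add_assoc, ← heq, MonomialOrder.subLTerm]
          ring
        · intro c hc i
          classical
          by_cases hc' : c ∈ r'.support
          · exact hr' c hc' i
          · have h1 := MvPolynomial.support_add hc
            rw [Finset.mem_union] at h1
            have h2 : c ∈ (C a ^ k * monomial (m.degree f) (m.leadingCoeff f)).support :=
              h1.resolve_left hc'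
            have h3 : c = m.degree f := by
              rw [← map_pow, C_mul_monomial] at h2
              have := support_monomial_subset h2
              simpa using this
            rw [h3]
            exact hf i

end GenFreeH8
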