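import Mathlib
import Groth.Agent.Lib.GenFreeA_helper8

/-! Generic freeness, part B: Dickson's lemma and the cyclic case in elementary form. -/

open MvPolynomial
open scoped MonomialOrder

namespace GenFreeH8

/-- Dickson's lemma: every set of monomials has a finite subset such that every element of the set
is divisible by an element of the subset. -/
theorem dickson {σ : Type*} [Finite σ] (D : Set (σ →₀ ℕ)) :
    ∃ D₀ : Finset (σ →₀ ℕ), (↑D₀ : Set (σ →₀ ℕ)) ⊆ D ∧ ∀ d ∈ D, ∃ d₀ ∈ D₀, d₀ ≤ d := by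
  have hfin : {x | Minimal (· ∈ D) x}.Finite :=
    WellQuasiOrderedLE.finite_of_isAntichain (setOfPred_minimal_antichain _)
  refine ⟨hfin.toFinset, ?_, ?_⟩
  · intro x hx
    simp only [Set.Finite.coe_toFinset, Set.mem_setOf_eq] at hx
    exact hx.1
  · intro d hd
    obtain ⟨b, hb, hmin⟩ := (Set.isPWO_of_wellQuasiOrderedLE D).exists_le_minimal hd
    exact ⟨b, by simpa using hmin, hb⟩

variable {σ : Type*} [Finite σ] {R : Type*} [CommRing R] [IsDomain R]

/-- The cyclic case of generic freeness in elementary form: for an ideal `I` of a polynomial ring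
over a domain there are a nonzero `a`, a finite subset `G` of `I` and a set `Std` of monomials
such that no nonzero element of `I` is supported in `Std` and every polynomial, multiplied by a
power of `a`, is congruent modulo `G` to a polynomial supported in `Std`. -/
theorem cyclic_elementary (m : MonomialOrder σ) (I : Ideal (MvPolynomial σ R)) :
    ∃ (a : R) (G : Finset (MvPolynomial σ R)) (Std : Set (σ →₀ ℕ)), a ≠ 0 ∧
      (↑G : Set (MvPolynomial σ R)) ⊆ I ∧
      (∀ p ∈ I, (∀ c ∈ p.support, c ∈ Std) → p = 0) ∧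
      (∀ f : MvPolynomial σ R, ∃ k : ℕ, ∃ h ∈ Ideal.span (↑G : Set (MvPolynomial σ R)),
        ∃ r : MvPolynomial σ R, C a ^ k * f = h + r ∧ ∀ c ∈ r.support, c ∈ Std) := by
  classical
  set D : Set (σ →₀ ℕ) := {d | ∃ f ∈ I, f ≠ 0 ∧ m.degree f = d} with hD
  obtain ⟨D₀, hD₀, hdick⟩ := dickson D
  have hD₀' : ∀ d ∈ D₀, ∃ f ∈ I, f ≠ 0 ∧ m.degree f = d := fun d hd => hD₀ hd
  choose! g hgI hg0 hgd using hD₀'
  refine ⟨∏ d ∈ D₀, m.leadingCoeff (g d), D₀.image g, {c | ∀ d ∈ D₀, ¬ d ≤ c}, ?_, ?_, ?_, ?_⟩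
  · rw [Finset.prod_ne_zero_iff]
    intro d hd
    rw [MonomialOrder.leadingCoeff_ne_zero_iff]
    exact hg0 d hd
  · intro p hp
    simp only [Finset.coe_image, Set.mem_image, Finset.mem_coe] at hp
    obtain ⟨d, hd, rfl⟩ := hp
    exact hgI d hd
  · intro p hpI hp
    by_contra hp0
    have h1 : m.degree p ∈ D := ⟨p, hpI, hp0, rfl⟩
    obtain ⟨d₀, hd₀, hle⟩ := hdick _ h1
    exact hp _ (m.degree_mem_support hp0) d₀ hd₀ hle
  · intro f
    obtain ⟨k, h, hh, r, heq, hr⟩ := pseudoDiv (m := m) (fun d : D₀ => g d)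
      (∏ d ∈ D₀, m.leadingCoeff (g d)) (fun d => Finset.dvd_prod_of_mem _ d.2) f
    refine ⟨k, h, ?_, r, heq, ?_⟩
    · refine Ideal.span_mono ?_ hh
      rintro _ ⟨d, rfl⟩
      simp only [Finset.coe_image, Set.mem_image, Finset.mem_coe]
      exact ⟨d, d.2, rfl⟩
    · intro c hc d hd
      have := hr c hc ⟨d, hd⟩
      rwa [hgd d hd] at this

end GenFreeH8
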