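import Mathlib

/-! Generic freeness, part C: elementary predicates "free / finitely generated / finitely presented
after inverting an element" and their stability under extensions. -/

namespace GenFreeH8

section Loc

variable {R : Type*} [CommRing R] (S : Submonoid R)
  {N M M' : Type*} [AddCommGroup N] [Module R N] [AddCommGroup M] [Module R M]
  [AddCommGroup M'] [Module R M']

/-- If `φ : N → M` has `S`-torsion kernel and cokernel and `g : M → M'` is a localization at `S`,
then `g ∘ φ` is a localization of `N` at `S`. -/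
theorem isLocalizedModule_comp (φ : N →ₗ[R] M) (g : M →ₗ[R] M') [IsLocalizedModule S g]
    (hker : ∀ n, φ n = 0 → ∃ s : S, s • n = 0)
    (hcoker : ∀ x : M, ∃ s : S, s • x ∈ LinearMap.range φ) :
    IsLocalizedModule S (g ∘ₗ φ) where
  map_units := IsLocalizedModule.map_units g
  surj y := by
    obtain ⟨⟨x, s⟩, hxs⟩ := IsLocalizedModule.surj S g y
    obtain ⟨t, n, hn⟩ := hcoker x
    refine ⟨⟨n, t * s⟩, ?_⟩
    simp only at hxs ⊢
    rw [mul_smul, hxs, LinearMap.comp_apply, hn, ← LinearMap.map_smul_of_tower]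
  exists_of_eq := by
    intro x₁ x₂ h
    simp only [LinearMap.comp_apply] at h
    obtain ⟨c, hc⟩ := IsLocalizedModule.exists_of_eq (S := S) h
    have h1 : φ (c • (x₁ - x₂)) = 0 := by
      rw [LinearMap.map_smul_of_tower, map_sub, smul_sub, hc, sub_self]
    obtain ⟨s, hs⟩ := hker _ h1
    refine ⟨s * c, ?_⟩
    rw [← sub_eq_zero, ← smul_sub, mul_smul]
    exact hs

end Loc

section GFW

variable (R : Type*) [CommRing R] (M : Type*) [AddCommGroup M] [Module R M]

/-- `M` becomes free over `R` after inverting `a` (elementary form): there is a linearly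
independent family spanning `M` up to powers of `a`. -/
def GFW (a : R) : Prop :=
  ∃ s : Set M, LinearIndependent R ((↑) : s → M) ∧
    ∀ x : M, ∃ k : ℕ, a ^ k • x ∈ Submodule.span R s

variable {R M}

theorem GFW.of_family {a : R} {ι : Type*} (v : ι → M) (hv : LinearIndependent R v)
    (hs : ∀ x : M, ∃ k : ℕ, a ^ k • x ∈ Submodule.span R (Set.range v)) : GFW R M a :=
  ⟨Set.range v, hv.linearIndepOn_id, hs⟩

theorem GFW.mono {a : R} (h : GFW R M a) (b : R) : GFW R M (a * b) := by
  obtain ⟨s, hs, hsp⟩ := h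
  refine ⟨s, hs, fun x => ?_⟩
  obtain ⟨k, hk⟩ := hsp x
  refine ⟨k, ?_⟩
  rw [mul_pow, mul_comm, mul_smul]
  exact Submodule.smul_mem _ _ hk

theorem GFW.mono' {a : R} (h : GFW R M a) (b : R) : GFW R M (b * a) := by
  rw [mul_comm]; exact h.mono b

theorem GFW.of_equiv {M' : Type*} [AddCommGroup M'] [Module R M'] {a : R} (h : GFW R M a)
    (e : M ≃ₗ[R] M') : GFW R M' a := by
  obtain ⟨s, hs, hsp⟩ := h
  refine GFW.of_family (fun x : s => e x) (hs.map' e.toLinearMap e.ker) fun y => ?_
  obtain ⟨k, hk⟩ := hsp (e.symm y)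
  refine ⟨k, ?_⟩
  have h1 : e (a ^ k • e.symm y) ∈ Submodule.map e.toLinearMap (Submodule.span R s) :=
    Submodule.mem_map_of_mem hk
  rw [map_smul, e.apply_symm_apply, Submodule.map_span] at h1
  convert h1 using 2
  ext z
  simp

theorem GFW.of_subsingleton [Subsingleton M] (a : R) : GFW R M a :=
  ⟨∅, linearIndependent_empty_type, fun x => ⟨0, by simp [Subsingleton.elim x 0]⟩⟩

theorem GFW.of_exact {M₁ M₃ : Type*} [AddCommGroup M₁] [Module R M₁] [AddCommGroup M₃]
    [Module R M₃] {a b : R} (f : M₁ →ₗ[R] M) (g : M →ₗ[R] M₃) (hf : Function.Injective f)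
    (hg : Function.Surjective g) (hfg : Function.Exact f g) (h₁ : GFW R M₁ a) (h₃ : GFW R M₃ b) :
    GFW R M (a * b) := by
  obtain ⟨s₁, hs₁, hsp₁⟩ := h₁
  obtain ⟨s₃, hs₃, hsp₃⟩ := h₃
  set lift : M₃ → M := Function.surjInv hg with hlift
  have hgl : ∀ y, g (lift y) = y := Function.surjInv_eq hg
  set v₁ : s₁ → M := fun x => f x with hv₁
  set v₃ : s₃ → M := fun y => lift y with hv₃
  have hli₁ : LinearIndependent R v₁ := hs₁.map' f (LinearMap.ker_eq_bot.mpr hf)
  have hli₃ : LinearIndependent R v₃ := by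
    apply LinearIndependent.of_comp g
    have : (g ∘ v₃) = ((↑) : s₃ → M₃) := by
      ext y; simp [hv₃, hgl]
    rw [this]; exact hs₃
  have hgv₁ : ∀ x ∈ Submodule.span R (Set.range v₁), g x = 0 := by
    intro x hx
    have h1 : Submodule.span R (Set.range v₁) ≤ LinearMap.ker g := by
      rw [Submodule.span_le]
      rintro _ ⟨y, rfl⟩
      simp only [SetLike.mem_coe, LinearMap.mem_ker, hv₁]
      exact hfg.apply_apply_eq_zero _
    exact h1 hx
  have hdisj : Disjoint (Submodule.span R (Set.range v₁)) (Submodule.span R (Set.range v₃)) := by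
    rw [Submodule.disjoint_def]
    intro x hx₁ hx₃
    obtain ⟨l, rfl⟩ := (Finsupp.mem_span_range_iff_exists_finsupp).mp hx₃
    have h1 := hgv₁ _ hx₁
    rw [map_finsuppSum] at h1
    have h2 : (l.sum fun i c => c • ((↑) : s₃ → M₃) i) = 0 := by
      rw [← h1]
      refine Finsupp.sum_congr fun i _ => ?_
      rw [map_smul, hv₃, hgl]
    have h3 : l = 0 := (linearIndependent_iff.mp hs₃) l (by rw [Finsupp.linearCombination_apply]; exact h2)
    simp [h3]
  have hli : LinearIndependent R (Sum.elim v₁ v₃) := hli₁.sum_type hli₃ hdisj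
  refine GFW.of_family _ hli fun x => ?_
  rw [Set.Sum.elim_range, Submodule.span_union]
  obtain ⟨k, hk⟩ := hsp₃ (g x)
  obtain ⟨l, hl⟩ := (Finsupp.mem_span_range_iff_exists_finsupp).mp
    (by rwa [Subtype.range_coe] : b ^ k • g x ∈ Submodule.span R (Set.range ((↑) : s₃ → M₃)))
  set y₃ : M := l.sum fun i c => c • v₃ i with hy₃
  have hy₃mem : y₃ ∈ Submodule.span R (Set.range v₃) :=
    (Finsupp.mem_span_range_iff_exists_finsupp).mpr ⟨l, rfl⟩
  have hgy₃ : g y₃ = b ^ k • g x := by
    rw [hy₃, map_finsuppSum, ← hl]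
    refine Finsupp.sum_congr fun i _ => ?_
    rw [map_smul, hv₃, hgl]
  have hker : g (b ^ k • x - y₃) = 0 := by rw [map_sub, map_smul, hgy₃, sub_self]
  obtain ⟨z, hz⟩ := (hfg _).mp hker
  obtain ⟨j, hj⟩ := hsp₁ z
  have h4 : a ^ j • (b ^ k • x - y₃) ∈ Submodule.span R (Set.range v₁) := by
    rw [← hz, ← map_smul]
    have : f (a ^ j • z) ∈ Submodule.map f (Submodule.span R s₁) := Submodule.mem_map_of_mem hj
    rw [Submodule.map_span] at this
    convert this using 2
    ext w; simp [hv₁]
  refine ⟨j + k, ?_⟩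
  have h5 : (a * b) ^ (j + k) • x = (a ^ k * b ^ j) • (a ^ j • (b ^ k • x - y₃))
      + (a ^ k * b ^ j * a ^ j) • y₃ := by
    rw [smul_sub, smul_sub, smul_smul, smul_smul, smul_smul, sub_add_cancel]
    congr 1; ring
  rw [h5]
  exact Submodule.add_mem _ (Submodule.mem_sup_left (Submodule.smul_mem _ _ h4))
    (Submodule.mem_sup_right (Submodule.smul_mem _ _ hy₃mem))

/-- The localized statement: a module which is `GFW` at `a` has free localization at `a`. -/
theorem GFW.free {a : R} (h : GFW R M a) {A M' : Type*} [CommRing A] [Algebra R A]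
    [IsLocalization.Away a A] [AddCommGroup M'] [Module R M'] [Module A M'] [IsScalarTower R A M']
    (g : M →ₗ[R] M') [IsLocalizedModule (Submonoid.powers a) g] : Module.Free A M' := by
  obtain ⟨s, hs, hsp⟩ := h
  set φ : (s →₀ R) →ₗ[R] M := Finsupp.linearCombination R ((↑) : s → M) with hφ
  haveI : IsLocalizedModule (Submonoid.powers a) (g ∘ₗ φ) := by
    apply isLocalizedModule_comp
    · intro n hn
      exact ⟨1, by rw [(linearIndependent_iff.mp hs) n hn]; simp⟩
    · intro x
      obtain ⟨k, hk⟩ := hsp x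
      refine ⟨⟨a ^ k, k, rfl⟩, ?_⟩
      rw [hφ, Finsupp.range_linearCombination, Subtype.range_coe]
      exact hk
  exact Module.free_of_isLocalizedModule (Submonoid.powers a) (g ∘ₗ φ)

end GFW

end GenFreeH8
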