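import Mathlib
import Groth.Agent.Lib.GenFreeC_helper8

/-! Generic freeness, part D: "finitely presented after inverting an element", elementary form. -/

namespace GenFreeH8

variable {S : Type*} [CommRing S]

section FGW

variable {M : Type*} [AddCommGroup M] [Module S M]

/-- The submodule `N` is finitely generated up to `c`-power torsion. -/
def FGW (N : Submodule S M) (c : S) : Prop :=
  ∃ G : Finset M, (↑G : Set M) ⊆ N ∧
    ∀ x ∈ N, ∃ k : ℕ, c ^ k • x ∈ Submodule.span S (↑G : Set M)

end FGW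

/-- `M` is finitely presented up to `c`-power torsion, elementary form: every map from a finite free
module which is surjective up to `c c'`-power torsion has kernel finitely generated up to
`c c'`-power torsion. -/
def FPZ (S : Type*) [CommRing S] (M : Type*) [AddCommGroup M] [Module S M] (c : S) : Prop :=
  ∀ (c' : S) (t : ℕ) (π : (Fin t → S) →ₗ[S] M),
    (∀ x : M, ∃ k : ℕ, (c * c') ^ k • x ∈ LinearMap.range π) → FGW (LinearMap.ker π) (c * c')

variable {M : Type*} [AddCommGroup M] [Module S M]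

theorem FPZ.mono {c : S} (h : FPZ S M c) (b : S) : FPZ S M (c * b) := by
  intro c' ι π hπ
  rw [mul_assoc] at hπ ⊢
  exact h (b * c') ι π hπ

theorem FPZ.mono' {c : S} (h : FPZ S M c) (b : S) : FPZ S M (b * c) := by
  rw [mul_comm]; exact h.mono b

theorem FPZ.of_equiv {M' : Type*} [AddCommGroup M'] [Module S M'] {c : S} (h : FPZ S M c)
    (e : M ≃ₗ[S] M') : FPZ S M' c := by
  intro c' ι π hπ
  have h1 := h c' ι (e.symm.toLinearMap ∘ₗ π) (by
    intro x
    obtain ⟨k, z, hz⟩ := hπ (e x)
    refine ⟨k, z, ?_⟩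
    simp only [LinearMap.comp_apply, LinearEquiv.coe_coe, hz, map_smul, e.symm_apply_apply])
  have h2 : LinearMap.ker (e.symm.toLinearMap ∘ₗ π) = LinearMap.ker π := by
    ext z; simp
  rwa [h2] at h1

theorem FPZ.of_exact {M₁ M₃ : Type*} [AddCommGroup M₁] [Module S M₁] [AddCommGroup M₃]
    [Module S M₃] {c₁ c₃ : S} (f : M₁ →ₗ[S] M) (g : M →ₗ[S] M₃) (hf : Function.Injective f)
    (hg : Function.Surjective g) (hfg : Function.Exact f g) (h₁ : FPZ S M₁ c₁)
    (h₃ : FPZ S M₃ c₃) : FPZ S M (c₁ * c₃) := by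
  classical
  intro c' ι π hπ
  set d : S := c₁ * c₃ * c' with hd
  -- step 1
  have hd₃ : c₃ * (c₁ * c') = d := by rw [hd]; ring
  have hd₁ : c₁ * (c₃ * c') = d := by rw [hd]; ring
  have h3 := h₃ (c₁ * c') ι (g ∘ₗ π) (by
    intro y
    obtain ⟨x, rfl⟩ := hg y
    obtain ⟨k, z, hz⟩ := hπ x
    rw [hd₃]
    exact ⟨k, z, by rw [LinearMap.comp_apply, hz, map_smul]⟩)
  rw [hd₃] at h3
  obtain ⟨G₃, hG₃, hsp₃⟩ := h3
  -- step 2
  set e : Fin G₃.card ≃ G₃ := G₃.equivFin.symm with he
  set ρ : (Fin G₃.card → S) →ₗ[S] (Fin ι → S) :=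
    Fintype.linearCombination S (fun i : Fin G₃.card => ((e i : G₃) : Fin ι → S)) with hρ
  have hρrange : LinearMap.range ρ = Submodule.span S (↑G₃ : Set (Fin ι → S)) := by
    rw [hρ, Fintype.range_linearCombination]
    congr 1
    ext x
    constructor
    · rintro ⟨i, rfl⟩
      exact (e i).2
    · intro hx
      exact ⟨e.symm ⟨x, hx⟩, by simp⟩
  have hρker : ∀ s, g (π (ρ s)) = 0 := by
    intro s
    have h1 : ρ s ∈ Submodule.span S (↑G₃ : Set (Fin ι → S)) := by
      rw [← hρrange]; exact ⟨s, rfl⟩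
    have h2 : Submodule.span S (↑G₃ : Set (Fin ι → S)) ≤ LinearMap.ker (g ∘ₗ π) :=
      Submodule.span_le.mpr hG₃
    exact h2 h1
  have hρmem : ∀ s, π (ρ s) ∈ LinearMap.range f := fun s => (hfg _).mp (hρker s)
  set π₁ : (Fin G₃.card → S) →ₗ[S] M₁ :=
    (LinearEquiv.ofInjective f hf).symm.toLinearMap ∘ₗ (π ∘ₗ ρ).codRestrict (LinearMap.range f) hρmem
    with hπ₁
  have hfπ₁ : ∀ s, f (π₁ s) = π (ρ s) := by
    intro s
    have := (LinearEquiv.ofInjective f hf).apply_symm_apply
      ((π ∘ₗ ρ).codRestrict (LinearMap.range f) hρmem s)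
    have h2 := congrArg Subtype.val this
    simp [hπ₁]
  -- step 3
  have h1 := h₁ (c₃ * c') G₃.card π₁ (by
    intro y
    rw [hd₁]
    obtain ⟨k, z, hz⟩ := hπ (f y)
    have hz' : z ∈ LinearMap.ker (g ∘ₗ π) := by
      rw [LinearMap.mem_ker, LinearMap.comp_apply, hz, map_smul, hfg.apply_apply_eq_zero,
        smul_zero]
    obtain ⟨l, hl⟩ := hsp₃ z hz'
    rw [← hρrange] at hl
    obtain ⟨s, hs⟩ := hl
    refine ⟨l + k, s, ?_⟩
    apply hf
    rw [hfπ₁, hs, map_smul, hz, map_smul, smul_smul, ← pow_add])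
  rw [hd₁] at h1
  obtain ⟨G₁, hG₁, hsp₁⟩ := h1
  -- step 4
  refine ⟨G₁.image ρ, ?_, ?_⟩
  · intro x hx
    simp only [Finset.coe_image, Set.mem_image, Finset.mem_coe] at hx
    obtain ⟨s, hs, rfl⟩ := hx
    have : π₁ s = 0 := hG₁ hs
    rw [SetLike.mem_coe, LinearMap.mem_ker, ← hfπ₁, this, map_zero]
  · intro x hx
    have hx' : x ∈ LinearMap.ker (g ∘ₗ π) := by
      rw [LinearMap.mem_ker] at hx ⊢
      rw [LinearMap.comp_apply, hx, map_zero]
    obtain ⟨l, hl⟩ := hsp₃ x hx'
    rw [← hρrange] at hl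
    obtain ⟨s, hs⟩ := hl
    have hs1 : s ∈ LinearMap.ker π₁ := by
      rw [LinearMap.mem_ker]
      apply hf
      rw [hfπ₁, hs, map_smul, LinearMap.mem_ker.mp hx, smul_zero, map_zero]
    obtain ⟨k, hk⟩ := hsp₁ s hs1
    refine ⟨k + l, ?_⟩
    have h5 : d ^ (k + l) • x = ρ (d ^ k • s) := by
      rw [map_smul, hs, smul_smul, ← pow_add]
    rw [h5, Finset.coe_image, ← Submodule.map_span]
    exact Submodule.mem_map_of_mem hk

/-- The cyclic case: if the annihilator of a generator `x` of `M` is finitely generated up to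
`c`-power torsion, then `M` is finitely presented up to `c`-power torsion. -/
theorem FPZ.cyclic {c : S} (x : M) (hx : ∀ y : M, ∃ s : S, y = s • x) (G : Finset S)
    (hG : ∀ g ∈ G, g • x = 0)
    (hJ : ∀ j : S, j • x = 0 → ∃ k : ℕ, c ^ k * j ∈ Ideal.span (↑G : Set S)) : FPZ S M c := by
  classical
  intro c' t π hπ
  set d : S := c * c' with hd
  choose s hs using fun i : Fin t => hx (π (Pi.single i 1))
  set π' : (Fin t → S) →ₗ[S] S := Fintype.linearCombination S s with hπ'
  have hππ' : ∀ z, π z = π' z • x := by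
    intro z
    rw [LinearMap.pi_apply_eq_sum_univ π z, hπ', Fintype.linearCombination_apply, Finset.sum_smul]
    refine Finset.sum_congr rfl fun i _ => ?_
    have : (fun j => if i = j then (1 : S) else 0) = Pi.single i 1 := by
      ext j; simp [Pi.single_apply, eq_comm]
    rw [this, hs i, smul_smul, smul_eq_mul]
  obtain ⟨k, u, hu⟩ := hπ x
  have hj₀ : (d ^ k - π' u) • x = 0 := by
    rw [sub_smul, ← hππ', hu, sub_self]
  set A : Fin t → (Fin t → S) := fun i => d ^ k • Pi.single i 1 - s i • u with hA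
  set B : S → (Fin t → S) := fun g => g • u with hB
  have hAker : ∀ i, π (A i) = 0 := by
    intro i
    rw [hA, map_sub, map_smul, map_smul, hs i, hππ' u, smul_smul, smul_smul, ← sub_smul,
      show d ^ k * s i - s i * π' u = s i * (d ^ k - π' u) by ring, mul_smul, hj₀, smul_zero]
  have hBker : ∀ g ∈ G, π (B g) = 0 := by
    intro g hg
    rw [hB, map_smul, hππ' u, smul_smul, mul_comm, mul_smul, hG g hg, smul_zero]
  refine ⟨Finset.univ.image A ∪ G.image B, ?_, ?_⟩
  · intro z hz
    simp only [Finset.coe_union, Finset.coe_image, Finset.coe_univ, Set.image_univ,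
      Set.mem_union, Set.mem_range, Set.mem_image, Finset.mem_coe] at hz
    rcases hz with ⟨i, rfl⟩ | ⟨g, hg, rfl⟩
    · exact hAker i
    · exact hBker g hg
  · intro z hz
    have hz' : π' z • x = 0 := by rw [← hππ']; exact hz
    obtain ⟨l, hl⟩ := hJ _ hz'
    have hl' : d ^ l * π' z ∈ Ideal.span (↑G : Set S) := by
      rw [hd, mul_pow, mul_comm (c ^ l), mul_assoc]
      exact Ideal.mul_mem_left _ _ hl
    refine ⟨l + k, ?_⟩
    have h1 : d ^ (l + k) • z = (∑ i, (d ^ l * z i) • A i) + (d ^ l * π' z) • u := by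
      have hz1 : z = ∑ i, z i • (Pi.single i 1 : Fin t → S) := by
        ext j
        simp [Finset.sum_apply, Pi.single_apply]
      have h2 : (∑ i, (d ^ l * z i) • A i) =
          d ^ (l + k) • (∑ i, z i • (Pi.single i 1 : Fin t → S)) - (d ^ l * π' z) • u := by
        rw [hπ', Fintype.linearCombination_apply, Finset.smul_sum, Finset.mul_sum,
          Finset.sum_smul, ← Finset.sum_sub_distrib]
        refine Finset.sum_congr rfl fun i _ => ?_
        simp only [hA, smul_sub, smul_smul, smul_eq_mul]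
        congr 2 <;> ring
      rw [h2, ← hz1, sub_add_cancel]
    rw [h1]
    refine Submodule.add_mem _ (Submodule.sum_mem _ fun i _ => Submodule.smul_mem _ _
      (Submodule.subset_span ?_)) ?_
    · simp
    · have h3 : (d ^ l * π' z) • u ∈
          Submodule.map (LinearMap.toSpanSingleton S (Fin t → S) u) (Ideal.span (↑G : Set S)) :=
        ⟨_, hl', by simp [LinearMap.toSpanSingleton_apply]⟩
      rw [Ideal.span, Submodule.map_span] at h3
      refine Submodule.span_mono ?_ h3
      rintro _ ⟨g, hg, rfl⟩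
      simp only [Finset.coe_union, Finset.coe_image, Set.mem_union, Set.mem_image, Finset.mem_coe]
      exact Or.inr ⟨g, hg, by simp [hB, LinearMap.toSpanSingleton_apply]⟩

/-- The localized statement: a finite module which is `FPZ` at `c` has finitely presented
localization at `c`. -/
theorem FPZ.finitePresentation [Module.Finite S M] {c : S} (h : FPZ S M c) {A M' : Type*}
    [CommRing A] [Algebra S A] [IsLocalization.Away c A] [AddCommGroup M'] [Module S M']
    [Module A M'] [IsScalarTower S A M'] (g : M →ₗ[S] M')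
    [IsLocalizedModule (Submonoid.powers c) g] : Module.FinitePresentation A M' := by
  obtain ⟨n, f, hf⟩ := Module.Finite.exists_fin' S M
  obtain ⟨G, hG, hsp⟩ := h 1 n f (fun x => ⟨0, hf _⟩)
  rw [mul_one] at hsp
  set K : Submodule S (Fin n → S) := Submodule.span S (↑G : Set (Fin n → S)) with hK
  have hKle : K ≤ LinearMap.ker f := Submodule.span_le.mpr hG
  haveI : Module.FinitePresentation S ((Fin n → S) ⧸ K) :=
    Module.finitePresentation_of_surjective K.mkQ K.mkQ_surjective
      (by rw [Submodule.ker_mkQ]; exact ⟨G, rfl⟩)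
  set φ : ((Fin n → S) ⧸ K) →ₗ[S] M := K.liftQ f hKle with hφ
  haveI : IsLocalizedModule (Submonoid.powers c) (g ∘ₗ φ) := by
    apply isLocalizedModule_comp
    · intro z hz
      obtain ⟨z, rfl⟩ := K.mkQ_surjective z
      have hz' : z ∈ LinearMap.ker f := by simpa [hφ] using hz
      obtain ⟨k, hk⟩ := hsp z hz'
      refine ⟨⟨c ^ k, k, rfl⟩, ?_⟩
      show c ^ k • K.mkQ z = 0
      rw [← map_smul, Submodule.mkQ_apply, Submodule.Quotient.mk_eq_zero]
      exact hk
    · intro x
      obtain ⟨z, rfl⟩ := hf x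
      exact ⟨1, K.mkQ z, by simp [hφ]⟩
  exact FinitePresentation.of_isBaseChange (g ∘ₗ φ)
    (IsLocalizedModule.isBaseChange (Submonoid.powers c) A (g ∘ₗ φ))

end GenFreeH8
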