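import Mathlib
import Groth.Agent.Lib.GenFreeB_helper8
import Groth.Agent.Lib.GenFreeD_helper8

/-! Generic freeness, part E: the main theorem in elementary form. -/

open MvPolynomial

namespace GenFreeH8

section Cyclic

variable {σ : Type*} [Finite σ] {R : Type*} [CommRing R] [IsDomain R]
  {M : Type*} [AddCommGroup M] [Module R M]

/-- A quotient of a polynomial ring over a domain by an ideal is generically free over the base,
and the ideal is finitely generated up to torsion. -/
theorem cyclic_main (m : MonomialOrder σ) (θ : MvPolynomial σ R →ₗ[R] M)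
    (hθ : Function.Surjective θ) (I : Ideal (MvPolynomial σ R)) (hI : ∀ f, θ f = 0 ↔ f ∈ I) :
    ∃ (a : R) (G : Finset (MvPolynomial σ R)), a ≠ 0 ∧ (↑G : Set (MvPolynomial σ R)) ⊆ I ∧
      GFW R M a ∧
      ∀ f ∈ I, ∃ k : ℕ, C a ^ k * f ∈ Ideal.span (↑G : Set (MvPolynomial σ R)) := by
  classical
  obtain ⟨a, G, Std, ha, hGI, hli, hsp⟩ := cyclic_elementary m I
  have hspanI : Ideal.span (↑G : Set (MvPolynomial σ R)) ≤ I := Ideal.span_le.mpr hGI
  refine ⟨a, G, ha, hGI, ?_, ?_⟩
  · refine GFW.of_family (fun c : Std => θ (monomial (c : σ →₀ ℕ) 1)) ?_ ?_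
    · rw [linearIndependent_iff']
      intro t g hsum i hi
      set p : MvPolynomial σ R := ∑ j ∈ t, monomial (j : σ →₀ ℕ) (g j) with hp
      have hθp : θ p = 0 := by
        rw [hp, map_sum, ← hsum]
        refine Finset.sum_congr rfl fun j _ => ?_
        rw [← map_smul, smul_monomial, smul_eq_mul, mul_one]
      have hcoeff : ∀ c : σ →₀ ℕ, coeff c p = ∑ j ∈ t, if (j : σ →₀ ℕ) = c then g j else 0 := by
        intro c
        rw [hp, coeff_sum]
        refine Finset.sum_congr rfl fun j _ => ?_
        rw [coeff_monomial]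
      have hp0 : p = 0 := by
        apply hli p ((hI p).mp hθp)
        intro c hc
        rw [mem_support_iff, hcoeff] at hc
        obtain ⟨j, _, hj⟩ := Finset.exists_ne_zero_of_sum_ne_zero hc
        have : (j : σ →₀ ℕ) = c := by
          by_contra h
          exact hj (if_neg h)
        rw [← this]; exact j.2
      have h1 := hcoeff (i : σ →₀ ℕ)
      rw [hp0, coeff_zero, Finset.sum_eq_single i] at h1
      · simpa using h1.symm
      · intro j _ hji
        rw [if_neg]
        exact fun h => hji (Subtype.ext h)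
      · intro h; exact absurd hi h
    · intro x
      obtain ⟨f, rfl⟩ := hθ x
      obtain ⟨k, h, hh, r, heq, hr⟩ := hsp f
      refine ⟨k, ?_⟩
      have h1 : a ^ k • θ f = θ r := by
        rw [← map_smul, smul_eq_C_mul, map_pow, heq, map_add, (hI h).mpr (hspanI hh), zero_add]
      rw [h1, r.as_sum, map_sum]
      refine Submodule.sum_mem _ fun c hc => ?_
      have h2 : θ (monomial c (coeff c r)) = coeff c r • θ (monomial c 1) := by
        rw [← map_smul, smul_monomial, smul_eq_mul, mul_one]
      rw [h2]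
      exact Submodule.smul_mem _ _ (Submodule.subset_span ⟨⟨c, hr c hc⟩, rfl⟩)
  · intro f hf
    obtain ⟨k, h, hh, r, heq, hr⟩ := hsp f
    have hrI : r ∈ I := by
      have : r = C a ^ k * f - h := by rw [heq]; ring
      rw [this]
      exact I.sub_mem (I.mul_mem_left _ hf) (hspanI hh)
    have hr0 : r = 0 := hli r hrI hr
    refine ⟨k, ?_⟩
    rw [heq, hr0, add_zero]
    exact hh

end Cyclic

section Main

universe v

variable {R : Type*} [CommRing R] [IsDomain R] {S : Type*} [CommRing S] [Algebra R S]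
  [Algebra.FiniteType R S]

theorem main_cyclic {M : Type*} [AddCommGroup M] [Module S M] [Module R M] [IsScalarTower R S M]
    (x : M) (hx : ∀ y : M, ∃ s : S, y = s • x) :
    ∃ a : R, a ≠ 0 ∧ GFW R M a ∧ FPZ S M (algebraMap R S a) := by
  classical
  obtain ⟨n, ρ, hρ⟩ := Algebra.FiniteType.iff_quotient_mvPolynomial''.mp
    (inferInstance : Algebra.FiniteType R S)
  set θ : MvPolynomial (Fin n) R →ₗ[R] M :=
    ((LinearMap.toSpanSingleton S M x).restrictScalars R) ∘ₗ ρ.toLinearMap with hθ
  have hθapp : ∀ f, θ f = ρ f • x := fun f => rfl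
  set J : Ideal S := LinearMap.ker (LinearMap.toSpanSingleton S M x) with hJ
  have hJmem : ∀ j : S, j ∈ J ↔ j • x = 0 := by
    intro j
    rw [hJ, LinearMap.mem_ker, LinearMap.toSpanSingleton_apply]
  obtain ⟨a, G, ha, hGI, hgfw, hfg⟩ := cyclic_main (MonomialOrder.lex (σ := Fin n)) θ
    (by
      intro y
      obtain ⟨s, rfl⟩ := hx y
      obtain ⟨f, rfl⟩ := hρ s
      exact ⟨f, rfl⟩)
    (Ideal.comap ρ J) (by
      intro f
      rw [Ideal.mem_comap, hJmem, hθapp])
  refine ⟨a, ha, hgfw, ?_⟩
  refine FPZ.cyclic x hx (G.image ρ) ?_ ?_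
  · intro g hg
    simp only [Finset.mem_image] at hg
    obtain ⟨g, hg, rfl⟩ := hg
    have := hGI hg
    rwa [SetLike.mem_coe, Ideal.mem_comap, hJmem] at this
  · intro j hj
    obtain ⟨f, rfl⟩ := hρ j
    obtain ⟨k, hk⟩ := hfg f (by rw [Ideal.mem_comap, hJmem]; exact hj)
    refine ⟨k, ?_⟩
    have h1 : ρ (C a ^ k * f) ∈ Ideal.map ρ (Ideal.span (↑G : Set (MvPolynomial (Fin n) R))) :=
      Ideal.mem_map_of_mem _ hk
    rw [Ideal.map_span, map_mul, map_pow] at h1
    have h2 : ρ (C a) = algebraMap R S a := by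
      rw [← MvPolynomial.algebraMap_eq, AlgHom.commutes]
    rw [h2] at h1
    simpa using h1

theorem main_aux (n : ℕ) : ∀ (M : Type v) [AddCommGroup M] [Module S M] [Module R M]
    [IsScalarTower R S M] (x : Fin n → M), Submodule.span S (Set.range x) = ⊤ →
    ∃ a : R, a ≠ 0 ∧ GFW R M a ∧ FPZ S M (algebraMap R S a) := by
  induction n with
  | zero =>
    intro M _ _ _ _ x hx
    haveI : Subsingleton M := by
      rw [← Submodule.subsingleton_iff S, ← subsingleton_iff_bot_eq_top, ← hx]
      simp
    exact main_cyclic (0 : M) (fun y => ⟨0, Subsingleton.elim _ _⟩)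
  | succ n ih =>
    intro M _ _ _ _ x hx
    set M₁ : Submodule S M := Submodule.span S {x 0} with hM₁
    obtain ⟨a₁, ha₁, hg₁, hp₁⟩ := main_cyclic (R := R) (S := S) (M := M₁)
      ⟨x 0, Submodule.mem_span_singleton_self _⟩ (by
        rintro ⟨y, hy⟩
        obtain ⟨s, rfl⟩ := Submodule.mem_span_singleton.mp hy
        exact ⟨s, rfl⟩)
    obtain ⟨a₃, ha₃, hg₃, hp₃⟩ := ih (M ⧸ M₁) (fun i => M₁.mkQ (x i.succ)) (by
      have h1 : Submodule.map M₁.mkQ (Submodule.span S (Set.range x)) = ⊤ := by
        rw [hx, Submodule.map_top, Submodule.range_mkQ]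
      rw [Submodule.map_span] at h1
      rw [← h1, ← Submodule.span_insert_zero]
      apply le_antisymm
      · apply Submodule.span_mono
        rintro y (rfl | ⟨i, rfl⟩)
        · exact ⟨x 0, ⟨0, rfl⟩, by
            rw [Submodule.mkQ_apply, Submodule.Quotient.mk_eq_zero]
            exact Submodule.mem_span_singleton_self _⟩
        · exact ⟨x i.succ, ⟨_, rfl⟩, rfl⟩
      · apply Submodule.span_mono
        rintro _ ⟨_, ⟨i, rfl⟩, rfl⟩
        refine Fin.cases ?_ (fun j => ?_) i
        · left
          rw [Submodule.mkQ_apply, Submodule.Quotient.mk_eq_zero]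
          exact Submodule.mem_span_singleton_self _
        · right; exact ⟨j, rfl⟩)
    refine ⟨a₁ * a₃, mul_ne_zero ha₁ ha₃, ?_, ?_⟩
    · exact GFW.of_exact (M₁.subtype.restrictScalars R) (M₁.mkQ.restrictScalars R)
        M₁.injective_subtype M₁.mkQ_surjective (LinearMap.exact_subtype_mkQ M₁) hg₁ hg₃
    · rw [map_mul]
      exact FPZ.of_exact M₁.subtype M₁.mkQ M₁.injective_subtype M₁.mkQ_surjective
        (LinearMap.exact_subtype_mkQ M₁) hp₁ hp₃

/-- **Generic freeness**, elementary form: a finite module over a finite type algebra over a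
domain is, after inverting a nonzero element of the base, free over the base and finitely
presented over the algebra. -/
theorem main (M : Type*) [AddCommGroup M] [Module S M] [Module R M]
    [IsScalarTower R S M] [Module.Finite S M] :
    ∃ a : R, a ≠ 0 ∧ GFW R M a ∧ FPZ S M (algebraMap R S a) := by
  obtain ⟨n, x, hx⟩ := Module.Finite.exists_fin (R := S) (M := M)
  exact main_aux n M x hx

end Main

end GenFreeH8
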