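import Mathlib
import Groth.Agent.Lib.GenFreeE_helper8

/-! Generic freeness, part F: localized statements. -/

open MvPolynomial TensorProduct

namespace GenFreeH8

section LT

variable {R : Type*} [CommRing R] (a : R) (A : Type*) [CommRing A] [Algebra R A]
  [IsLocalization.Away a A] {N M : Type*} [AddCommGroup N] [Module R N] [AddCommGroup M]
  [Module R M]

theorem lTensor_bijective_of_torsion (ψ : N →ₗ[R] M)
    (hker : ∀ n, ψ n = 0 → ∃ k : ℕ, a ^ k • n = 0) (hsurj : Function.Surjective ψ) :
    Function.Bijective (LinearMap.lTensor A ψ) := by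
  haveI : IsLocalizedModule (Submonoid.powers a) ((TensorProduct.mk R A M 1) ∘ₗ ψ) := by
    apply isLocalizedModule_comp
    · intro n hn
      obtain ⟨k, hk⟩ := hker n hn
      exact ⟨⟨a ^ k, k, rfl⟩, hk⟩
    · intro x
      obtain ⟨n, rfl⟩ := hsurj x
      exact ⟨1, n, by simp⟩
  have h1 : LinearMap.lTensor A ψ = (IsLocalizedModule.linearEquiv (Submonoid.powers a)
      (TensorProduct.mk R A N 1) ((TensorProduct.mk R A M 1) ∘ₗ ψ)).toLinearMap := by
    apply IsLocalizedModule.linearMap_ext (Submonoid.powers a) (TensorProduct.mk R A N 1)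
      ((TensorProduct.mk R A M 1) ∘ₗ ψ)
    ext n
    rw [LinearMap.comp_apply, LinearMap.comp_apply, LinearEquiv.coe_coe,
      IsLocalizedModule.linearEquiv_apply]
    simp
  rw [h1]
  exact LinearEquiv.bijective _

end LT

section

variable {R : Type*} [CommRing R] [IsDomain R] {S : Type*} [CommRing S] [Algebra R S]
  [Algebra.FiniteType R S]

/-- After inverting a nonzero element, a finite type algebra over a domain is finitely
presented. -/
theorem exists_algebra_finitePresentation :
    ∃ a : R, a ≠ 0 ∧ ∀ b : R,
      Algebra.FinitePresentation (Localization.Away (a * b)) (Localization.Away (a * b) ⊗[R] S) := by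
  classical
  obtain ⟨n, ρ, hρ⟩ := Algebra.FiniteType.iff_quotient_mvPolynomial''.mp
    (inferInstance : Algebra.FiniteType R S)
  obtain ⟨a, G, ha, hGI, -, hfg⟩ := cyclic_main (MonomialOrder.lex (σ := Fin n)) ρ.toLinearMap hρ
    (RingHom.ker ρ) (fun f => by simp [RingHom.mem_ker])
  refine ⟨a, ha, fun b => ?_⟩
  set I₀ : Ideal (MvPolynomial (Fin n) R) := Ideal.span (↑G : Set (MvPolynomial (Fin n) R)) with hI₀
  have hI₀le : ∀ f ∈ I₀, ρ f = 0 := by
    intro f hf
    have : I₀ ≤ RingHom.ker ρ := Ideal.span_le.mpr hGI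
    exact this hf
  haveI : Algebra.FinitePresentation R (MvPolynomial (Fin n) R ⧸ I₀) :=
    Algebra.FinitePresentation.quotient ⟨G, rfl⟩
  set ψ : (MvPolynomial (Fin n) R ⧸ I₀) →ₐ[R] S := Ideal.Quotient.liftₐ I₀ ρ hI₀le with hψ
  have hbij := lTensor_bijective_of_torsion (a * b) (Localization.Away (a * b)) ψ.toLinearMap
    (by
      intro z hz
      obtain ⟨f, rfl⟩ := Ideal.Quotient.mk_surjective z
      have hf : ρ f = 0 := by simpa [hψ] using hz
      obtain ⟨k, hk⟩ := hfg f hf
      refine ⟨k, ?_⟩
      show (a * b) ^ k • (Ideal.Quotient.mkₐ R I₀ f) = 0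
      rw [← map_smul, Ideal.Quotient.mkₐ_eq_mk, Ideal.Quotient.eq_zero_iff_mem, smul_eq_C_mul,
        mul_pow, map_mul, mul_comm (C (a ^ k)), mul_assoc, map_pow, map_pow]
      exact Ideal.mul_mem_left _ _ hk)
    (by
      intro x
      obtain ⟨f, rfl⟩ := hρ x
      exact ⟨Ideal.Quotient.mk I₀ f, by simp [hψ]⟩)
  have hTbij : Function.Bijective (Algebra.TensorProduct.map
      (AlgHom.id (Localization.Away (a * b)) (Localization.Away (a * b))) ψ) := by
    convert hbij using 1
    ext z
    induction z using TensorProduct.induction_on with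
    | zero => simp
    | tmul x y => simp
    | add x y hx hy => rw [map_add, map_add, hx, hy]
  have e : (Localization.Away (a * b) ⊗[R] (MvPolynomial (Fin n) R ⧸ I₀))
      ≃ₐ[Localization.Away (a * b)] (Localization.Away (a * b) ⊗[R] S) :=
    AlgEquiv.ofBijective (Algebra.TensorProduct.map
      (AlgHom.id (Localization.Away (a * b)) (Localization.Away (a * b))) ψ) hTbij
  exact Algebra.FinitePresentation.equiv
    (A := Localization.Away (a * b) ⊗[R] (MvPolynomial (Fin n) R ⧸ I₀)) e

/-- **Generic freeness** (Stacks 051T): over a domain, for a finite type algebra and a finite module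
over it, after inverting one nonzero element of the base the algebra and the module become free over
the base, the algebra finitely presented over the base and the module finitely presented over the
algebra. -/
theorem generic_freeness (M : Type*) [AddCommGroup M] [Module S M] [Module R M]
    [IsScalarTower R S M] [Module.Finite S M] :
    ∃ f : R, f ≠ 0 ∧ Module.Free (Localization.Away f) (Localization.Away f ⊗[R] M) ∧
      Module.Free (Localization.Away f) (Localization.Away f ⊗[R] S) ∧
      Algebra.FinitePresentation (Localization.Away f) (Localization.Away f ⊗[R] S) ∧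
      Module.FinitePresentation (Localization.Away (algebraMap R S f))
        (LocalizedModule (Submonoid.powers (algebraMap R S f)) M) := by
  obtain ⟨a₁, ha₁, hg₁, hp₁⟩ := main (R := R) (S := S) M
  obtain ⟨a₂, ha₂, hg₂, -⟩ := main (R := R) (S := S) S
  obtain ⟨a₃, ha₃, h₃⟩ := exists_algebra_finitePresentation (R := R) (S := S)
  refine ⟨a₃ * (a₁ * a₂), mul_ne_zero ha₃ (mul_ne_zero ha₁ ha₂), ?_, ?_, h₃ _, ?_⟩
  · exact ((hg₁.mono a₂).mono' a₃).free (TensorProduct.mk R _ M 1)
  · exact ((hg₂.mono' a₁).mono' a₃).free (TensorProduct.mk R _ S 1)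
  · have h := (hp₁.mono (algebraMap R S a₂)).mono' (algebraMap R S a₃)
    rw [← map_mul, ← map_mul] at h
    exact h.finitePresentation (LocalizedModule.mkLinearMap _ M)

end

end GenFreeH8
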