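import Mathlib
import Groth.Agent.Lib.GenFreeF_helper8

/-! Generic freeness, part G: flatness consequences. -/

open TensorProduct

namespace GenFreeH8

/-- A localization (at a submonoid of an algebra `B`) of an `R`-flat `B`-module is `R`-flat. -/
theorem flat_of_isLocalizedModule_algebra {R B : Type*} [CommRing R] [CommRing B] [Algebra R B]
    (T : Submonoid B) {N N' : Type*} [AddCommGroup N] [Module R N] [Module B N]
    [IsScalarTower R B N] [AddCommGroup N'] [Module R N'] [Module B N'] [IsScalarTower R B N']
    (g : N →ₗ[B] N') [IsLocalizedModule T g] [Module.Flat R N] : Module.Flat R N' := by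
  have H := (Module.Flat.iff_lTensor_injectiveₛ (R := R) (M := N)).mp inferInstance
  rw [Module.Flat.iff_lTensor_injectiveₛ]
  intro P _ _ Q
  rw [← AlgebraTensorModule.coe_lTensor (A := B)]
  have := IsLocalizedModule.map_injective T (AlgebraTensorModule.rTensor R Q g)
    (AlgebraTensorModule.rTensor R P g) (AlgebraTensorModule.lTensor B N Q.subtype) (H Q)
  simpa [IsLocalizedModule.map_lTensor] using this

theorem GFW.flat {R : Type*} [CommRing R] {M : Type*} [AddCommGroup M] [Module R M] {a : R}
    (h : GFW R M a) {M' : Type*} [AddCommGroup M'] [Module R M'] (g : M →ₗ[R] M')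
    [IsLocalizedModule (Submonoid.powers a) g] : Module.Flat R M' := by
  haveI : Module.Free (Localization.Away a) (LocalizedModule (Submonoid.powers a) M) :=
    h.free (LocalizedModule.mkLinearMap (Submonoid.powers a) M)
  haveI : Module.Flat R (Localization.Away a) := IsLocalization.flat _ (Submonoid.powers a)
  haveI : Module.Flat R (LocalizedModule (Submonoid.powers a) M) :=
    Module.Flat.trans R (Localization.Away a) _
  exact Module.Flat.of_linearEquiv (IsLocalizedModule.iso (Submonoid.powers a) g).symm

end GenFreeH8

namespace GenFreeH8

/-- If `M` is generically free over `R` at `a`, every localization of `M` at a submonoid (of an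
`R`-algebra `B` acting on `M`) containing `a` is flat over `R`. -/
theorem GFW.flat_of_isLocalizedModule {R B : Type*} [CommRing R] [CommRing B] [Algebra R B]
    {M : Type*} [AddCommGroup M] [Module R M] [Module B M] [IsScalarTower R B M] {a : R}
    (h : GFW R M a) (T : Submonoid B) (haT : algebraMap R B a ∈ T)
    {M' : Type*} [AddCommGroup M'] [Module R M'] [Module B M'] [IsScalarTower R B M']
    (γ : M →ₗ[B] M') [IsLocalizedModule T γ] : Module.Flat R M' := by
  set c : B := algebraMap R B a with hc
  let N := LocalizedModule (Submonoid.powers c) M
  let ι : M →ₗ[B] N := LocalizedModule.mkLinearMap (Submonoid.powers c) M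
  haveI : IsLocalizedModule (Submonoid.powers (algebraMap R B a)) ι :=
    inferInstanceAs (IsLocalizedModule (Submonoid.powers c)
      (LocalizedModule.mkLinearMap (Submonoid.powers c) M))
  haveI : IsLocalizedModule (Submonoid.powers a) (ι.restrictScalars R) :=
    IsLocalizedModule.restrictScalars_powers a ι
  haveI : Module.Flat R N := h.flat (ι.restrictScalars R)
  have hle : Submonoid.powers c ≤ T := by
    rw [Submonoid.powers_le]; exact haT
  exact flat_of_isLocalizedModule_algebra T
    (IsLocalizedModule.liftOfLE (Submonoid.powers c) T hle ι γ)

end GenFreeH8
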