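import Mathlib
import Groth.Prelude
import Groth.Agent.Lib.StalkLoc_helper8
import Groth.Agent.Lib.GenFreeG_helper8
import Groth.Agent.Lib.QCohFT_helper9

set_option autoImplicit false
universe u

open CategoryTheory AlgebraicGeometry TopologicalSpace Opposite

/-! Generic flatness for quasi-coherent modules of finite type, scheme form. -/

namespace GenFlatSchH8

variable {X Y : Scheme.{u}} (u : X ⟶ Y) (F : X.Modules) [F.IsQuasicoherent]

theorem stalkMap_germ_appLE {V : Y.Opens} {W : X.Opens} (e : W ≤ u ⁻¹ᵁ V) {x : X} (hxW : x ∈ W)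
    (r : Γ(Y, V)) :
    (u.stalkMap x).hom ((Y.presheaf.germ V (u.base x) (e hxW)).hom r) =
      (X.presheaf.germ W x hxW).hom ((u.appLE V W e).hom r) := by
  have h1 := Scheme.Hom.germ_stalkMap_apply u V x (e hxW) r
  rw [Scheme.Hom.appLE, CommRingCat.hom_comp, RingHom.comp_apply]
  erw [X.presheaf.germ_res_apply]
  exact h1

/-- If the sections of `F` over an affine open `W` lying over an affine open `V` of the base are
generically free at `a`, then `F` is flat over the base at all points of `W` over `D(a)`. -/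
theorem isFlatOverAt_of_gfw {V : Y.Opens} (hV : IsAffineOpen V) {W : X.Opens}
    (hW : IsAffineOpen W) (e : W ≤ u ⁻¹ᵁ V) (a : Γ(Y, V))
    (hgfw : letI := Module.compHom Γ(F, W) (u.appLE V W e).hom
      GenFreeH8.GFW Γ(Y, V) Γ(F, W) a)
    (x : X) (hxW : x ∈ W) (hxa : u.base x ∈ Y.basicOpen a) :
    FlatMod.IsFlatOverAt u F x := by
  have hyV : u.base x ∈ V := e hxW
  letI algRB : Algebra Γ(Y, V) Γ(X, W) := (u.appLE V W e).hom.toAlgebra
  letI := TopCat.Presheaf.algebra_section_stalk X.presheaf (⟨x, hxW⟩ : W)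
  letI := TopCat.Presheaf.algebra_section_stalk Y.presheaf (⟨u.base x, hyV⟩ : V)
  haveI : IsLocalization.AtPrime (Y.presheaf.stalk (u.base x))
      (hV.primeIdealOf ⟨u.base x, hyV⟩).asIdeal := hV.isLocalization_stalk ⟨u.base x, hyV⟩
  letI mRM : Module Γ(Y, V) Γ(F, W) := Module.compHom Γ(F, W) (u.appLE V W e).hom
  haveI : IsScalarTower Γ(Y, V) Γ(X, W) Γ(F, W) :=
    IsScalarTower.of_algebraMap_smul (fun _ _ => rfl)
  letI mY : Module (Y.presheaf.stalk (u.base x)) (F.presheaf.stalk x) :=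
    FlatMod.moduleStalkOver u F x
  letI mB : Module Γ(X, W) (F.presheaf.stalk x) := StalkLocH8.modSec F hxW
  letI mR : Module Γ(Y, V) (F.presheaf.stalk x) :=
    Module.compHom _ (algebraMap Γ(Y, V) Γ(X, W))
  haveI : IsScalarTower Γ(Y, V) Γ(X, W) (F.presheaf.stalk x) :=
    IsScalarTower.of_algebraMap_smul (fun _ _ => rfl)
  haveI : IsScalarTower Γ(Y, V) (Y.presheaf.stalk (u.base x)) (F.presheaf.stalk x) := by
    refine IsScalarTower.of_algebraMap_smul (fun r m => ?_)
    change (u.stalkMap x).hom ((Y.presheaf.germ V (u.base x) hyV).hom r) • m =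
      (X.presheaf.germ W x hxW).hom ((u.appLE V W e).hom r) • m
    rw [stalkMap_germ_appLE u e hxW r]
  haveI := StalkLocH8.isLocalizedModule_germLin F hW hxW
  have haT : algebraMap Γ(Y, V) Γ(X, W) a ∈ (hW.primeIdealOf ⟨x, hxW⟩).asIdeal.primeCompl := by
    apply StalkLocH8.notMem_prime_of_mem_basicOpen hW hxW
    have h1 : x ∈ u ⁻¹ᵁ (Y.basicOpen a) := hxa
    rw [Scheme.preimage_basicOpen] at h1
    have h2 : X.basicOpen ((u.appLE V W e).hom a) = W ⊓ X.basicOpen ((u.app V).hom a) := by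
      rw [Scheme.Hom.appLE, CommRingCat.hom_comp, RingHom.comp_apply]
      exact Scheme.basicOpen_res _ _ _
    change x ∈ X.basicOpen ((u.appLE V W e).hom a)
    rw [h2]
    exact ⟨hxW, h1⟩
  haveI : Module.Flat Γ(Y, V) (F.presheaf.stalk x) :=
    hgfw.flat_of_isLocalizedModule _ haT (StalkLocH8.germLin F hxW)
  exact (Module.flat_iff_of_isLocalization (Y.presheaf.stalk (u.base x))
    (hV.primeIdealOf ⟨u.base x, hyV⟩).asIdeal.primeCompl (F.presheaf.stalk x)).mpr inferInstance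

end GenFlatSchH8

namespace GenFlatSchH8

variable {X Y : Scheme.{u}}

/-- **Generic flatness**: for a quasi-compact morphism locally of finite type to an integral scheme
and a quasi-coherent module of finite type, there is a nonempty open of the base over which the
module is flat. -/
theorem generic_flat (u : X ⟶ Y) [IsIntegral Y] [LocallyOfFiniteType u] [QuasiCompact u]
    (F : X.Modules) [F.IsQuasicoherent] [SheafOfModules.IsFiniteType (R := X.ringCatSheaf) F] :
    ∃ U : Y.Opens, (U : Set Y).Nonempty ∧ ∀ x : X, u.base x ∈ U → FlatMod.IsFlatOverAt u F x := by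
  classical
  obtain ⟨y₀⟩ : Nonempty Y := inferInstance
  obtain ⟨_, ⟨V, hV, rfl⟩, hy₀V, -⟩ := Y.isBasis_affineOpens.exists_subset_of_mem_open
    (Set.mem_univ y₀) isOpen_univ
  have hV : IsAffineOpen V := hV
  haveI : Nonempty V := ⟨⟨y₀, hy₀V⟩⟩
  haveI : IsDomain Γ(Y, V) := inferInstance
  -- a finite affine cover of the preimage of `V`
  have hcpt : IsCompact (u.base ⁻¹' (V : Set Y)) :=
    QuasiCompact.isCompact_preimage (f := u) _ V.2 hV.isCompact
  have hcov : ∀ x ∈ u.base ⁻¹' (V : Set Y), ∃ W : X.Opens, IsAffineOpen W ∧ x ∈ W ∧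
      W ≤ u ⁻¹ᵁ V := by
    intro x hx
    obtain ⟨_, ⟨W, hW, rfl⟩, hxW, hWV⟩ := X.isBasis_affineOpens.exists_subset_of_mem_open
      (show x ∈ ((u ⁻¹ᵁ V : X.Opens) : Set X) from hx) (u ⁻¹ᵁ V).2
    exact ⟨W, hW, hxW, hWV⟩
  choose! Wf hWf hxWf hWfV using hcov
  obtain ⟨t, htcov⟩ := hcpt.elim_nhds_subcover' (fun x hx => (Wf x : Set X))
    (fun x hx => (Wf x).2.mem_nhds (hxWf x hx))
  -- generic freeness on each member
  have hgf : ∀ x : (u.base ⁻¹' (V : Set Y)), ∃ a : Γ(Y, V), a ≠ 0 ∧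
      (letI := Module.compHom Γ(F, Wf x) (u.appLE V (Wf x) (hWfV x x.2)).hom;
        GenFreeH8.GFW Γ(Y, V) Γ(F, Wf x) a) := by
    intro x
    have hft : (u.appLE V (Wf x) (hWfV x x.2)).hom.FiniteType :=
      HasRingHomProperty.appLE @LocallyOfFiniteType u inferInstance ⟨V, hV⟩ ⟨Wf x, hWf x x.2⟩ _
    letI : Algebra Γ(Y, V) Γ(X, Wf x) := (u.appLE V (Wf x) (hWfV x x.2)).hom.toAlgebra
    haveI : Algebra.FiniteType Γ(Y, V) Γ(X, Wf x) := hft
    letI : Module Γ(Y, V) Γ(F, Wf x) :=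
      Module.compHom Γ(F, Wf x) (u.appLE V (Wf x) (hWfV x x.2)).hom
    haveI : IsScalarTower Γ(Y, V) Γ(X, Wf x) Γ(F, Wf x) :=
      IsScalarTower.of_algebraMap_smul (fun _ _ => rfl)
    haveI : Module.Finite Γ(X, Wf x) Γ(F, Wf x) :=
      QCohFT.finite_of_isFiniteType F (hWf x x.2)
    obtain ⟨a, ha, hg, -⟩ := GenFreeH8.main (R := Γ(Y, V)) (S := Γ(X, Wf x)) Γ(F, Wf x)
    exact ⟨a, ha, hg⟩
  choose af haf0 hafg using hgf
  set a : Γ(Y, V) := ∏ x ∈ t, af x with ha
  have ha0 : a ≠ 0 := Finset.prod_ne_zero_iff.mpr fun x _ => haf0 x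
  refine ⟨Y.basicOpen a, ?_, ?_⟩
  · rw [Set.nonempty_iff_ne_empty]
    intro h0
    apply ha0
    rw [← AlgebraicGeometry.basicOpen_eq_bot_iff]
    ext1
    simpa using h0
  · intro x hx
    have hxV : u.base x ∈ V := Y.basicOpen_le a hx
    obtain ⟨z, hzt, hxz⟩ : ∃ z ∈ t, x ∈ Wf z := by
      have := htcov hxV
      simpa using this
    have hmono : (letI := Module.compHom Γ(F, Wf z) (u.appLE V (Wf z) (hWfV z z.2)).hom;
        GenFreeH8.GFW Γ(Y, V) Γ(F, Wf z) a) := by
      letI := Module.compHom Γ(F, Wf z) (u.appLE V (Wf z) (hWfV z z.2)).hom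
      rw [ha, ← Finset.mul_prod_erase t af hzt]
      exact (hafg z).mono _
    exact isFlatOverAt_of_gfw u F hV (hWf z z.2) (hWfV z z.2) a hmono x hxz hx

end GenFlatSchH8
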