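import Mathlib
import Groth.Prelude
import Groth.Agent.Lib.StalkLoc_helper8
import Groth.Agent.Lib.GenFlatSch_helper8

set_option autoImplicit false
universe u

open CategoryTheory AlgebraicGeometry TopologicalSpace Opposite

/-! Flatness of a quasi-coherent module over the base in terms of sections over affine opens. -/

namespace FlatSecH8

variable {X S : Scheme.{u}} (f : X ⟶ S) (F : X.Modules)

/-- Flatness over the base at a point, in terms of the sections of the base over an affine open. -/
theorem isFlatOverAt_iff_flat_stalk {V : S.Opens} (hV : IsAffineOpen V) {U : X.Opens}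
    (e : U ≤ f ⁻¹ᵁ V) {x : X} (hxU : x ∈ U) :
    FlatMod.IsFlatOverAt f F x ↔
      @Module.Flat Γ(S, V) (F.presheaf.stalk x) _ _
        (Module.compHom _ ((X.presheaf.germ U x hxU).hom.comp (f.appLE V U e).hom)) := by
  have hyV : f.base x ∈ V := e hxU
  letI := TopCat.Presheaf.algebra_section_stalk S.presheaf (⟨f.base x, hyV⟩ : V)
  haveI : IsLocalization.AtPrime (S.presheaf.stalk (f.base x))
      (hV.primeIdealOf ⟨f.base x, hyV⟩).asIdeal := hV.isLocalization_stalk ⟨f.base x, hyV⟩
  letI mY : Module (S.presheaf.stalk (f.base x)) (F.presheaf.stalk x) :=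
    FlatMod.moduleStalkOver f F x
  letI mR : Module Γ(S, V) (F.presheaf.stalk x) :=
    Module.compHom _ ((X.presheaf.germ U x hxU).hom.comp (f.appLE V U e).hom)
  haveI : IsScalarTower Γ(S, V) (S.presheaf.stalk (f.base x)) (F.presheaf.stalk x) := by
    refine IsScalarTower.of_algebraMap_smul (fun r m => ?_)
    change (f.stalkMap x).hom ((S.presheaf.germ V (f.base x) hyV).hom r) • m =
      (X.presheaf.germ U x hxU).hom ((f.appLE V U e).hom r) • m
    rw [GenFlatSchH8.stalkMap_germ_appLE f e hxU r]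
  exact Module.flat_iff_of_isLocalization (S.presheaf.stalk (f.base x))
    (hV.primeIdealOf ⟨f.base x, hyV⟩).asIdeal.primeCompl (F.presheaf.stalk x)

variable [F.IsQuasicoherent]

/-- If the sections over an affine open are flat over the sections of the base, so are the stalks. -/
theorem flat_stalk_of_flat_sections {V : S.Opens} {U : X.Opens} (hU : IsAffineOpen U)
    (e : U ≤ f ⁻¹ᵁ V) {x : X} (hxU : x ∈ U)
    (h : @Module.Flat Γ(S, V) Γ(F, U) _ _ (Module.compHom Γ(F, U) (f.appLE V U e).hom)) :
    @Module.Flat Γ(S, V) (F.presheaf.stalk x) _ _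
      (Module.compHom _ ((X.presheaf.germ U x hxU).hom.comp (f.appLE V U e).hom)) := by
  letI algRB : Algebra Γ(S, V) Γ(X, U) := (f.appLE V U e).hom.toAlgebra
  letI mRM : Module Γ(S, V) Γ(F, U) := Module.compHom Γ(F, U) (f.appLE V U e).hom
  haveI : IsScalarTower Γ(S, V) Γ(X, U) Γ(F, U) :=
    IsScalarTower.of_algebraMap_smul (fun _ _ => rfl)
  letI mB : Module Γ(X, U) (F.presheaf.stalk x) := StalkLocH8.modSec F hxU
  letI mR : Module Γ(S, V) (F.presheaf.stalk x) :=
    Module.compHom _ ((X.presheaf.germ U x hxU).hom.comp (f.appLE V U e).hom)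
  haveI : IsScalarTower Γ(S, V) Γ(X, U) (F.presheaf.stalk x) :=
    IsScalarTower.of_algebraMap_smul (fun _ _ => rfl)
  haveI := StalkLocH8.isLocalizedModule_germLin F hU hxU
  haveI : Module.Flat Γ(S, V) Γ(F, U) := h
  exact GenFreeH8.flat_of_isLocalizedModule_algebra
    (hU.primeIdealOf ⟨x, hxU⟩).asIdeal.primeCompl (StalkLocH8.germLin F hxU)

/-- If all stalks at points of an affine open are flat over the sections of the base, so are the
sections over the affine open. -/
theorem flat_sections_of_flat_stalks {V : S.Opens} {U : X.Opens} (hU : IsAffineOpen U)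
    (e : U ≤ f ⁻¹ᵁ V)
    (h : ∀ (x : X) (hxU : x ∈ U), @Module.Flat Γ(S, V) (F.presheaf.stalk x) _ _
      (Module.compHom _ ((X.presheaf.germ U x hxU).hom.comp (f.appLE V U e).hom))) :
    @Module.Flat Γ(S, V) Γ(F, U) _ _ (Module.compHom Γ(F, U) (f.appLE V U e).hom) := by
  letI algRB : Algebra Γ(S, V) Γ(X, U) := (f.appLE V U e).hom.toAlgebra
  letI mRM : Module Γ(S, V) Γ(F, U) := Module.compHom Γ(F, U) (f.appLE V U e).hom
  haveI : IsScalarTower Γ(S, V) Γ(X, U) Γ(F, U) :=
    IsScalarTower.of_algebraMap_smul (fun _ _ => rfl)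
  refine Module.flat_of_isLocalized_maximal Γ(X, U) Γ(F, U)
    (fun P _ => LocalizedModule P.primeCompl Γ(F, U))
    (fun P _ => LocalizedModule.mkLinearMap P.primeCompl Γ(F, U)) ?_
  intro P hP
  -- the point of `U` corresponding to `P`
  set 𝔭 : PrimeSpectrum Γ(X, U) := ⟨P, hP.isPrime⟩ with h𝔭
  set x : X := hU.fromSpec 𝔭 with hx
  have hxU : x ∈ U := by
    have : x ∈ hU.fromSpec.opensRange := ⟨𝔭, rfl⟩
    rwa [hU.opensRange_fromSpec] at this
  have hprime : hU.primeIdealOf ⟨x, hxU⟩ = 𝔭 := by
    apply hU.fromSpec.isOpenEmbedding.injective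
    rw [hU.fromSpec_primeIdealOf]
  letI mB : Module Γ(X, U) (F.presheaf.stalk x) := StalkLocH8.modSec F hxU
  letI mR : Module Γ(S, V) (F.presheaf.stalk x) :=
    Module.compHom _ ((X.presheaf.germ U x hxU).hom.comp (f.appLE V U e).hom)
  haveI : IsScalarTower Γ(S, V) Γ(X, U) (F.presheaf.stalk x) :=
    IsScalarTower.of_algebraMap_smul (fun _ _ => rfl)
  haveI hloc := StalkLocH8.isLocalizedModule_germLin F hU hxU
  rw [hprime] at hloc
  haveI : IsLocalizedModule P.primeCompl (StalkLocH8.germLin F hxU) := hloc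
  haveI : Module.Flat Γ(S, V) (F.presheaf.stalk x) := h x hxU
  let E := IsLocalizedModule.linearEquiv P.primeCompl
    (LocalizedModule.mkLinearMap P.primeCompl Γ(F, U)) (StalkLocH8.germLin F hxU)
  exact Module.Flat.of_linearEquiv (E.restrictScalars Γ(S, V))

end FlatSecH8
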