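import Mathlib
import Groth.Prelude
import Groth.Agent.Lib.FlatSec_helper8

set_option autoImplicit false
universe u

open CategoryTheory AlgebraicGeometry TopologicalSpace Opposite

namespace TildeFlatH8

theorem flat_iff_of_bijective {A R' : Type*} [CommRing A] [CommRing R'] (e : A →+* R')
    (he : Function.Bijective e) {N : Type*} [AddCommGroup N] [Module R' N] [Module A N]
    (hcompat : ∀ (a : A) (n : N), a • n = e a • n) :
    Module.Flat A N ↔ Module.Flat R' N := by
  letI := e.toAlgebra
  haveI : IsScalarTower A R' N := IsScalarTower.of_algebraMap_smul (fun a n => (hcompat a n).symm)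
  haveI : IsLocalization (⊥ : Submonoid A) R' := by
    refine IsLocalization.of_le_isUnit_of_bijective ?_ he
    rintro _ ⟨x, hx, rfl⟩
    rw [Submonoid.mem_bot.mp hx, map_one]
    exact isUnit_one
  exact (Module.flat_iff_of_isLocalization R' (⊥ : Submonoid A) N).symm

theorem tilde_isFlatOver_iff (A B : Type u) [CommRing A] [CommRing B] [Algebra A B]
    (M : Type u) [AddCommGroup M] [Module B M] [Module A M] [IsScalarTower A B M] :
    FlatMod.IsFlatOver (Spec.map (CommRingCat.ofHom (algebraMap A B))) (tilde (ModuleCat.of B M)) ↔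
      Module.Flat A M := by
  set f := Spec.map (CommRingCat.ofHom (algebraMap A B)) with hf
  set F : (Spec (CommRingCat.of B)).Modules := tilde (R := CommRingCat.of B) (ModuleCat.of B M) with hF
  have e : (⊤ : (Spec (CommRingCat.of B)).Opens) ≤ f ⁻¹ᵁ ⊤ := le_top
  have hV : IsAffineOpen (⊤ : (Spec (CommRingCat.of A)).Opens) := isAffineOpen_top _
  have hU : IsAffineOpen (⊤ : (Spec (CommRingCat.of B)).Opens) := isAffineOpen_top _
  have h1 : FlatMod.IsFlatOver f F ↔ @Module.Flat Γ(Spec (CommRingCat.of A), ⊤) Γ(F, ⊤) _ _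
      (Module.compHom Γ(F, ⊤) (f.appLE ⊤ ⊤ e).hom) := by
    constructor
    · intro h
      exact FlatSecH8.flat_sections_of_flat_stalks f F hU e (fun x hxU =>
        (FlatSecH8.isFlatOverAt_iff_flat_stalk f F hV e hxU).mp (h x))
    · intro h x
      exact (FlatSecH8.isFlatOverAt_iff_flat_stalk f F hV e (Opens.mem_top x)).mpr
        (FlatSecH8.flat_stalk_of_flat_sections f F hU e (Opens.mem_top x) h)
  rw [h1]
  letI mB : Module B Γ(F, ⊤) :=
    Scheme.Modules.instModuleCarrierCarrierObjOppositeOpensCarrierCarrierCommRingCatSpecAbPresheafOp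
      (R := CommRingCat.of B)
  letI mA : Module A Γ(F, ⊤) := Module.compHom Γ(F, ⊤) (algebraMap A B)
  haveI : IsScalarTower A B Γ(F, ⊤) := IsScalarTower.of_algebraMap_smul fun _ _ => rfl
  let E : Γ(F, ⊤) ≃ₗ[B] M :=
    (tilde.isoTop (R := CommRingCat.of B) (ModuleCat.of B M)).toLinearEquiv.symm
  have h2 : Module.Flat A Γ(F, ⊤) ↔ Module.Flat A M :=
    Module.Flat.equiv_iff (E.restrictScalars A)
  rw [← h2]
  letI mR : Module Γ(Spec (CommRingCat.of A), ⊤) Γ(F, ⊤) :=
    Module.compHom Γ(F, ⊤) (f.appLE ⊤ ⊤ e).hom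
  refine (flat_iff_of_bijective (Scheme.ΓSpecIso (CommRingCat.of A)).inv.hom ?_ ?_).symm
  · exact (ConcreteCategory.bijective_of_isIso (Scheme.ΓSpecIso (CommRingCat.of A)).inv)
  · intro a n
    have key : ((Spec (CommRingCat.of B)).presheaf.map
        (⊤ : (Spec (CommRingCat.of B)).Opens).leTop.op).hom
          ((Scheme.ΓSpecIso (CommRingCat.of B)).inv.hom (algebraMap A B a)) =
        (f.appLE ⊤ ⊤ e).hom ((Scheme.ΓSpecIso (CommRingCat.of A)).inv.hom a) := by
      have h := congrArg (fun φ => φ.hom a)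
        (Scheme.ΓSpecIso_inv_naturality (CommRingCat.ofHom (algebraMap A B)))
      simp only [CommRingCat.hom_comp, RingHom.comp_apply, CommRingCat.hom_ofHom] at h
      rw [h]
      have h2 : f.appLE ⊤ ⊤ e = f.appTop := by
        simp [Scheme.Hom.appLE, Scheme.Hom.appTop]
      rw [h2]
      have h3 : (Spec (CommRingCat.of B)).presheaf.map
          (⊤ : (Spec (CommRingCat.of B)).Opens).leTop.op = 𝟙 _ := by
        apply CategoryTheory.Functor.map_id
      rw [h3]
      rfl
    show (((Spec (CommRingCat.of B)).presheaf.map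
        (⊤ : (Spec (CommRingCat.of B)).Opens).leTop.op).hom
          ((Scheme.ΓSpecIso (CommRingCat.of B)).inv.hom (algebraMap A B a))) • n = _
    rw [key]
    rfl

end TildeFlatH8
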