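import Mathlib
import Groth.Prelude.Def_CohB1
import Groth.Prelude.Def_FlatMod2
import Groth.Agent.Lib.FLF2_helper8
import Groth.Agent.Lib.TildeFlat_helper8

/-!
# Finite locally free modules: flatness of sections, `tilde` (helper8)
APPEND-ONLY once landed.
-/

set_option autoImplicit false

namespace FLFH8

open AlgebraicGeometry CategoryTheory CategoryTheory.Limits TopologicalSpace Opposite TensorProduct

universe u

section Flat

variable {X : Scheme.{u}} (F : X.Modules)

/-- Stalks of a quasi-coherent module with flat sections over an affine open are flat. -/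
theorem flat_stalk_of_flat_sections [F.IsQuasicoherent] {U : X.Opens} (hU : IsAffineOpen U)
    {x : X} (hx : x ∈ U) [Module.Flat Γ(X, U) Γ(F, U)] :
    Module.Flat (X.presheaf.stalk x) (F.presheaf.stalk x) := by
  set p := (hU.primeIdealOf ⟨x, hx⟩).asIdeal with hp
  letI := TopCat.Presheaf.algebra_section_stalk X.presheaf (⟨x, hx⟩ : U)
  haveI : IsLocalization.AtPrime (X.presheaf.stalk x) p := hU.isLocalization_stalk ⟨x, hx⟩
  letI modA : Module Γ(X, U) (F.presheaf.stalk x) := StalkLocH8.modSec F hx
  haveI : IsScalarTower Γ(X, U) (X.presheaf.stalk x) (F.presheaf.stalk x) :=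
    IsScalarTower.of_algebraMap_smul (fun _ _ => rfl)
  haveI := StalkLocH8.isLocalizedModule_germLin F hU hx
  exact Module.Flat.of_isLocalizedModule (X.presheaf.stalk x) p.primeCompl
    (StalkLocH8.germLin F hx)

/-- If all stalks at points of an affine open are flat, so are the sections. -/
theorem flat_sections_of_flat_stalks [F.IsQuasicoherent] {U : X.Opens} (hU : IsAffineOpen U)
    (h : ∀ (x : X), x ∈ U → Module.Flat (X.presheaf.stalk x) (F.presheaf.stalk x)) :
    Module.Flat Γ(X, U) Γ(F, U) := by
  refine Module.flat_of_isLocalized_maximal Γ(X, U) Γ(F, U)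
    (fun P _ => LocalizedModule P.primeCompl Γ(F, U))
    (fun P _ => LocalizedModule.mkLinearMap P.primeCompl Γ(F, U)) ?_
  intro P hP
  set 𝔭 : PrimeSpectrum Γ(X, U) := ⟨P, hP.isPrime⟩ with h𝔭
  set x : X := hU.fromSpec 𝔭 with hx
  have hxU : x ∈ U := by
    have : x ∈ hU.fromSpec.opensRange := ⟨𝔭, rfl⟩
    rwa [hU.opensRange_fromSpec] at this
  have hprime : hU.primeIdealOf ⟨x, hxU⟩ = 𝔭 := by
    apply hU.fromSpec.isOpenEmbedding.injective
    rw [hU.fromSpec_primeIdealOf]
  letI := TopCat.Presheaf.algebra_section_stalk X.presheaf (⟨x, hxU⟩ : U)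
  haveI hlocR : IsLocalization.AtPrime (X.presheaf.stalk x)
      (hU.primeIdealOf ⟨x, hxU⟩).asIdeal := hU.isLocalization_stalk ⟨x, hxU⟩
  letI mB : Module Γ(X, U) (F.presheaf.stalk x) := StalkLocH8.modSec F hxU
  haveI : IsScalarTower Γ(X, U) (X.presheaf.stalk x) (F.presheaf.stalk x) :=
    IsScalarTower.of_algebraMap_smul (fun _ _ => rfl)
  haveI hloc := StalkLocH8.isLocalizedModule_germLin F hU hxU
  rw [hprime] at hloc hlocR
  haveI : IsLocalizedModule P.primeCompl (StalkLocH8.germLin F hxU) := hloc
  haveI : IsLocalization.AtPrime (X.presheaf.stalk x) P := hlocR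
  haveI : Module.Flat (X.presheaf.stalk x) (F.presheaf.stalk x) := h x hxU
  haveI : Module.Flat Γ(X, U) (X.presheaf.stalk x) :=
    IsLocalization.flat (X.presheaf.stalk x) P.primeCompl
  haveI : Module.Flat Γ(X, U) (F.presheaf.stalk x) :=
    Module.Flat.trans Γ(X, U) (X.presheaf.stalk x) (F.presheaf.stalk x)
  let E := IsLocalizedModule.linearEquiv P.primeCompl
    (LocalizedModule.mkLinearMap P.primeCompl Γ(F, U)) (StalkLocH8.germLin F hxU)
  exact Module.Flat.of_linearEquiv E

end Flat

section Tilde

set_option backward.isDefEq.respectTransparency false in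
/-- Flatness of `M` is flatness of the global sections of `tilde M`. -/
theorem flat_tilde_top_iff {R : CommRingCat.{u}} (M : ModuleCat.{u} R) :
    Module.Flat Γ(Spec R, ⊤) Γ(tilde M, ⊤) ↔ Module.Flat R M := by
  let N : ModuleCat R := (modulesSpecToSheaf.obj (tilde M)).presheaf.obj (.op ⊤)
  let e : M ≅ N := tilde.isoTop M
  have h1 : Module.Flat R M ↔ Module.Flat R N := Module.Flat.equiv_iff e.toLinearEquiv
  rw [h1]
  exact (@TildeFlatH8.flat_iff_of_bijective R Γ(Spec R, ⊤) _ _ (Scheme.ΓSpecIso R).inv.hom
    (ConcreteCategory.bijective_of_isIso (Scheme.ΓSpecIso R).inv) N _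
    (inferInstance : Module Γ(Spec R, ⊤) Γ(tilde M, ⊤)) N.isModule (fun _ _ => rfl)).symm

/-- `tilde M` is finite locally free iff `M` is finite projective. -/
theorem tilde_finLocFree_iff {R : CommRingCat.{u}} (M : ModuleCat.{u} R) :
    FlatMod.IsFinLocFree (tilde M) ↔ Module.Finite R M ∧ Module.Projective R M := by
  have hU : IsAffineOpen (⊤ : (Spec R).Opens) := isAffineOpen_top _
  constructor
  · intro h
    haveI := isFinitePresentation_of_finLocFree (tilde M) h
    haveI : Module.FinitePresentation R M :=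
      (QCohFP2.tilde_isFP_iff M).mp inferInstance
    have hflat : Module.Flat Γ(Spec R, ⊤) Γ(tilde M, ⊤) :=
      flat_sections_of_flat_stalks (tilde M) hU (fun x _ => by
        haveI := free_stalk_of_finLocFree (tilde M) h x
        infer_instance)
    haveI : Module.Flat R M := (flat_tilde_top_iff M).mp hflat
    exact ⟨inferInstance, Module.Flat.projective_of_finitePresentation⟩
  · rintro ⟨hfin, hproj⟩ x
    haveI : Module.FinitePresentation R M := Module.finitePresentation_of_projective R M
    haveI : SheafOfModules.IsFinitePresentation (R := (Spec R).ringCatSheaf) (tilde M) :=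
      (QCohFP2.tilde_isFP_iff M).mpr inferInstance
    haveI : Module.Flat Γ(Spec R, ⊤) Γ(tilde M, ⊤) := (flat_tilde_top_iff M).mpr inferInstance
    haveI : Module.Flat ((Spec R).presheaf.stalk x) ((tilde M).presheaf.stalk x) :=
      flat_stalk_of_flat_sections (tilde M) hU (Opens.mem_top x)
    haveI : Module.Finite ((Spec R).presheaf.stalk x) ((tilde M).presheaf.stalk x) :=
      finite_stalk (tilde M) x
    exact exists_free_nhd (tilde M) x Module.free_of_flat_of_isLocalRing

end Tilde

end FLFH8
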