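import Mathlib
import Groth.Prelude.Def_CohB1
import Groth.Prelude.Def_FlatMod2
import Groth.Agent.Lib.FLF3_helper8
import Groth.Agent.Lib.SubExt_helper9

/-!
# Retracts of finite free modules are finite locally free (helper8)
APPEND-ONLY once landed.
-/

set_option autoImplicit false

namespace FLFH8

open AlgebraicGeometry CategoryTheory CategoryTheory.Limits TopologicalSpace Opposite TensorProduct
open SDivGenH8 SDivFreeH8

universe u

section FreeSections

variable {Y : Scheme.{u}}

/-- The sections of a free module over any open have the standard basis. -/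
theorem freeMod_sections_basis (r : ℕ) (V' : Y.Opens) :
    ∃ e : Fin r → Γ(FlatMod.freeMod Y r, V'),
      Submodule.span Γ(Y, V') (Set.range e) = ⊤ ∧ LinearIndependent Γ(Y, V') e := by
  classical
  let o1 : Γ(Coh.structureModule Y, V') := (1 : Γ(Y, V'))
  let toM : Γ(Y, V') → Γ(Coh.structureModule Y, V') := fun a => a
  let ofM : Γ(Coh.structureModule Y, V') → Γ(Y, V') := fun a => a
  have htoM : ∀ a : Γ(Y, V'), toM a = a • o1 := fun a => (mul_one a).symm
  let e1 : Fin r → Γ(FlatMod.freeMod Y r, V') := fun i =>
    (ιM i : Coh.structureModule Y ⟶ FlatMod.freeMod Y r).app V' o1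
  have hιa : ∀ (i : Fin r) (a : Γ(Y, V')),
      (ιM i : Coh.structureModule Y ⟶ FlatMod.freeMod Y r).app V' (toM a) = a • e1 i := by
    intro i a
    rw [htoM]
    exact Scheme.Modules.Hom.app_smul _ _ _
  have hdec : ∀ y : Γ(FlatMod.freeMod Y r, V'),
      y = ∑ i, ofM ((projM i).app V' y) • e1 i := by
    intro y
    refine (section_eq_sum V' y).trans ?_
    apply Finset.sum_congr rfl
    intro i _
    exact hιa i (ofM ((projM i).app V' y))
  have hproj : ∀ (j i : Fin r) (a : Γ(Y, V')),
      ofM ((projM j).app V' (a • e1 i)) = if i = j then a else 0 := by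
    intro j i a
    rw [← hιa i a]
    have := projM_ι_app j i V' (toM a)
    refine (congrArg ofM this).trans ?_
    split_ifs <;> rfl
  refine ⟨e1, ?_, ?_⟩
  · rw [eq_top_iff]
    intro m _
    rw [hdec m]
    exact Submodule.sum_mem _ (fun i _ => Submodule.smul_mem _ _ (Submodule.subset_span ⟨i, rfl⟩))
  · rw [Fintype.linearIndependent_iff]
    intro c hc j
    have h3 : ofM ((projM j).app V' (∑ i, c i • e1 i)) = 0 := by
      rw [hc, map_zero]
      rfl
    have h4 : ofM ((projM j).app V' (∑ i, c i • e1 i)) = c j := by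
      have h5 : (projM j).app V' (∑ i, c i • e1 i) = ∑ i, (projM j).app V' (c i • e1 i) :=
        map_sum ((projM j).app V').hom _ Finset.univ
      have h6 : ofM (∑ i, (projM j).app V' (c i • e1 i)) =
          ∑ i, ofM ((projM j).app V' (c i • e1 i)) := rfl
      rw [h5, h6, Finset.sum_congr rfl (fun i _ => hproj j i (c i))]
      simp
    rw [h4] at h3
    exact h3

end FreeSections

section Retract

variable {X : Scheme.{u}} {M : X.Modules} {n : ℕ}

/-- Sections of a retract of a finite free module are finite projective. -/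
theorem finite_projective_of_retract (i : M ⟶ FlatMod.freeMod X n) (p : FlatMod.freeMod X n ⟶ M)
    (h : i ≫ p = 𝟙 M) (V : X.Opens) :
    Module.Finite Γ(X, V) Γ(M, V) ∧ Module.Projective Γ(X, V) Γ(M, V) := by
  obtain ⟨e, he, hli⟩ := freeMod_sections_basis (Y := X) n V
  let b : Module.Basis (Fin n) Γ(X, V) Γ(FlatMod.freeMod X n, V) := Module.Basis.mk hli he.ge
  haveI : Module.Free Γ(X, V) Γ(FlatMod.freeMod X n, V) := Module.Free.of_basis b
  haveI : Module.Finite Γ(X, V) Γ(FlatMod.freeMod X n, V) := Module.Finite.of_basis b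
  let iV : Γ(M, V) →ₗ[Γ(X, V)] Γ(FlatMod.freeMod X n, V) := QCohFT.secHom _ _ V i
  let pV : Γ(FlatMod.freeMod X n, V) →ₗ[Γ(X, V)] Γ(M, V) := QCohFT.secHom _ _ V p
  have hpi : ∀ m, pV (iV m) = m := by
    intro m
    have := congrArg (fun φ => QCohFT.secHom M M V φ m) h
    exact this
  have hsurj : Function.Surjective pV := fun m => ⟨iV m, hpi m⟩
  exact ⟨Module.Finite.of_surjective pV hsurj,
    Module.Projective.of_split iV pV (LinearMap.ext hpi)⟩

/-- A retract of a finite free module is quasi-coherent. -/
theorem isQuasicoherent_of_retract (i : M ⟶ FlatMod.freeMod X n) (p : FlatMod.freeMod X n ⟶ M)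
    (h : i ≫ p = 𝟙 M) : M.IsQuasicoherent := by
  haveI := isQuasicoherent_freeMod (Y := X) n
  let φ : FlatMod.freeMod X n ⟶ FlatMod.freeMod X n := 𝟙 _ - p ≫ i
  haveI : (kernel φ).IsQuasicoherent := SubExt.isQuasicoherent_kernel φ
  have hi : i ≫ φ = 0 := by
    change i ≫ (𝟙 _ - p ≫ i) = 0
    rw [Preadditive.comp_sub, Category.comp_id, ← Category.assoc, h, Category.id_comp, sub_self]
  let α : M ≅ kernel φ :=
    { hom := kernel.lift φ i hi
      inv := kernel.ι φ ≫ p
      hom_inv_id := by
        rw [← Category.assoc, kernel.lift_ι, h]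
      inv_hom_id := by
        apply (cancel_mono (kernel.ι φ)).mp
        rw [Category.assoc, Category.assoc, kernel.lift_ι, Category.id_comp]
        have h0 : kernel.ι φ ≫ (𝟙 _ - p ≫ i) = 0 := kernel.condition φ
        rw [Preadditive.comp_sub, Category.comp_id, sub_eq_zero] at h0
        exact h0.symm }
  exact (SheafOfModules.isQuasicoherent X.ringCatSheaf).prop_of_iso α.symm
    (inferInstance : (kernel φ).IsQuasicoherent)

/-- A retract of a finite free module is finite locally free. -/
theorem finLocFree_of_retract (i : M ⟶ FlatMod.freeMod X n) (p : FlatMod.freeMod X n ⟶ M)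
    (h : i ≫ p = 𝟙 M) : FlatMod.IsFinLocFree M := by
  haveI := isQuasicoherent_of_retract i p h
  have hfp : ∀ V : X.Opens, Module.FinitePresentation Γ(X, V) Γ(M, V) := by
    intro V
    obtain ⟨h1, h2⟩ := finite_projective_of_retract i p h V
    exact Module.finitePresentation_of_projective _ _
  haveI : SheafOfModules.IsFinitePresentation (R := X.ringCatSheaf) M :=
    QCohFP2.isFinitePresentation_of_sections_cover M (fun W : X.affineOpens => W.1)
      (fun W => W.2) (iSup_affineOpens_eq_top X) (fun W => hfp W.1)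
  intro x
  obtain ⟨_, ⟨U, hU : IsAffineOpen U, rfl⟩, hxU, -⟩ :=
    (X.isBasis_affineOpens).exists_subset_of_mem_open (Set.mem_univ x) isOpen_univ
  have hx : x ∈ U := hxU
  obtain ⟨h1, h2⟩ := finite_projective_of_retract i p h U
  haveI : Module.Flat Γ(X, U) Γ(M, U) := inferInstance
  haveI : Module.Flat (X.presheaf.stalk x) (M.presheaf.stalk x) :=
    flat_stalk_of_flat_sections M hU hx
  haveI : Module.Finite (X.presheaf.stalk x) (M.presheaf.stalk x) := finite_stalk M x
  exact exists_free_nhd M x Module.free_of_flat_of_isLocalRing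

end Retract

end FLFH8
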