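import Mathlib
import Groth.Prelude.Def_CohB1
import Groth.Prelude.Def_FlatMod2
import Groth.Agent.Lib.FLF4_helper8

/-!
# Trivializations and bases of sections (helper8)
APPEND-ONLY once landed.
-/

set_option autoImplicit false

namespace FLFH8

open AlgebraicGeometry CategoryTheory CategoryTheory.Limits TopologicalSpace Opposite TensorProduct
open SDivGenH8 SDivFreeH8 QcqsLoc QCohExtn

universe u

section Bases

variable {X : Scheme.{u}} (F : X.Modules)

/-- The family `t` of sections over `U` restricts to a basis of the sections over `O`. -/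
def BasisOn {U : X.Opens} {r : ℕ} (t : Fin r → Γ(F, U)) (O : X.Opens) (h : O ≤ U) : Prop :=
  Submodule.span Γ(X, O) (Set.range fun j => rF F h (t j)) = ⊤ ∧
    LinearIndependent Γ(X, O) (fun j => rF F h (t j))

theorem BasisOn.of_rF {U U' : X.Opens} {r : ℕ} (t : Fin r → Γ(F, U)) (hU' : U' ≤ U)
    {O : X.Opens} (hO : O ≤ U') (h : BasisOn F t O (hO.trans hU')) :
    BasisOn F (fun j => rF F hU' (t j)) O hO := by
  have e : (fun j => rF F hO (rF F hU' (t j))) = fun j => rF F (hO.trans hU') (t j) := by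
    funext j
    exact rF_rF F hO hU' (t j)
  unfold BasisOn
  rw [e]
  exact h

end Bases

section Free

variable {Y : Scheme.{u}}

/-- Functions as sections of the structure module. -/
def toM {V : Y.Opens} (a : Γ(Y, V)) : Γ(Coh.structureModule Y, V) := a

/-- Sections of the structure module as functions. -/
def ofM {V : Y.Opens} (a : Γ(Coh.structureModule Y, V)) : Γ(Y, V) := a

/-- The standard sections of the free module. -/
noncomputable def stdSec (r : ℕ) (V : Y.Opens) (j : Fin r) : Γ(FlatMod.freeMod Y r, V) :=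
  (ιM j : Coh.structureModule Y ⟶ FlatMod.freeMod Y r).app V (toM (1 : Γ(Y, V)))

theorem rF_stdSec (r : ℕ) {V W : Y.Opens} (h : V ≤ W) (j : Fin r) :
    rF (FlatMod.freeMod Y r) h (stdSec r W j) = stdSec r V j := by
  unfold stdSec
  have h1 := (ap_rF (ιM j : Coh.structureModule Y ⟶ FlatMod.freeMod Y r) h
    (toM (1 : Γ(Y, W)))).symm
  refine h1.trans ?_
  congr 1
  exact map_one (rX h)

theorem ι_app_eq_smul_stdSec (r : ℕ) (V : Y.Opens) (j : Fin r) (a : Γ(Y, V)) :
    (ιM j : Coh.structureModule Y ⟶ FlatMod.freeMod Y r).app V (toM a) = a • stdSec r V j := by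
  have h1 : toM a = a • toM (1 : Γ(Y, V)) := (mul_one a).symm
  rw [h1]
  exact Scheme.Modules.Hom.app_smul _ _ _

theorem section_eq_sum_stdSec (r : ℕ) (V : Y.Opens) (y : Γ(FlatMod.freeMod Y r, V)) :
    y = ∑ i, ofM ((projM i).app V y) • stdSec r V i := by
  refine (section_eq_sum V y).trans ?_
  apply Finset.sum_congr rfl
  intro i _
  exact ι_app_eq_smul_stdSec r V i (ofM ((projM i).app V y))

theorem projM_smul_stdSec (r : ℕ) (V : Y.Opens) (j i : Fin r) (a : Γ(Y, V)) :
    ofM ((projM j).app V (a • stdSec r V i)) = if i = j then a else 0 := by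
  rw [← ι_app_eq_smul_stdSec r V i a]
  have := projM_ι_app j i V (toM a)
  refine (congrArg ofM this).trans ?_
  split_ifs <;> rfl

theorem stdSec_span (r : ℕ) (V : Y.Opens) :
    Submodule.span Γ(Y, V) (Set.range (stdSec (Y := Y) r V)) = ⊤ := by
  rw [eq_top_iff]
  intro m _
  rw [section_eq_sum_stdSec r V m]
  exact Submodule.sum_mem _ (fun i _ => Submodule.smul_mem _ _ (Submodule.subset_span ⟨i, rfl⟩))

theorem stdSec_li (r : ℕ) (V : Y.Opens) :
    LinearIndependent Γ(Y, V) (stdSec (Y := Y) r V) := by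
  classical
  rw [Fintype.linearIndependent_iff]
  intro c hc j
  have h3 : ofM ((projM j).app V (∑ i, c i • stdSec r V i)) = 0 := by
    rw [hc, map_zero]
    rfl
  have h5 : (projM j).app V (∑ i, c i • stdSec r V i) =
      ∑ i, (projM j).app V (c i • stdSec r V i) :=
    map_sum ((projM j).app V).hom _ Finset.univ
  have h6 : ofM (∑ i, (projM j).app V (c i • stdSec r V i)) =
      ∑ i, ofM ((projM j).app V (c i • stdSec r V i)) := rfl
  rw [h5, h6, Finset.sum_congr rfl (fun i _ => projM_smul_stdSec r V j i (c i))] at h3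
  simpa using h3

variable (G : Y.Modules)

theorem freeHom_app_smul_stdSec {r : ℕ} (t : Fin r → Γ(G, ⊤)) (W : Y.Opens) (i : Fin r)
    (a : Γ(Y, W)) :
    ap (freeHom G t) W (a • stdSec r W i) = a • rF G le_top (t i) := by
  rw [← ι_app_eq_smul_stdSec r W i a]
  exact freeHom_app_ι G t i W a

/-- If the global sections `t` restrict to bases over all opens, then `freeHom G t` is an
isomorphism. -/
theorem isIso_freeHom_of_bases {r : ℕ} (t : Fin r → Γ(G, ⊤))
    (h : ∀ W : Y.Opens, BasisOn G t W le_top) : IsIso (freeHom G t) := by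
  apply SubExt.isIso_of_bijective
  intro W
  obtain ⟨hspan, hli⟩ := h W
  constructor
  · rw [injective_iff_map_eq_zero]
    intro y hy
    rw [section_eq_sum_stdSec r W y, map_sum] at hy
    rw [Finset.sum_congr rfl (fun i _ => freeHom_app_smul_stdSec G t W i _)] at hy
    have h0 := Fintype.linearIndependent_iff.mp hli _ hy
    rw [section_eq_sum_stdSec r W y]
    apply Finset.sum_eq_zero
    intro i _
    rw [h0 i, zero_smul]
  · intro m
    have hm : m ∈ Submodule.span Γ(Y, W) (Set.range fun j => rF G le_top (t j)) := by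
      rw [hspan]; trivial
    obtain ⟨c, hc⟩ := (Submodule.mem_span_range_iff_exists_fun _).mp hm
    refine ⟨∑ i, c i • stdSec r W i, ?_⟩
    rw [map_sum, Finset.sum_congr rfl (fun i _ => freeHom_app_smul_stdSec G t W i (c i))]
    exact hc

/-- The sections corresponding to the standard sections under a trivialization. -/
noncomputable def trivSec {r : ℕ} (α : G ≅ FlatMod.freeMod Y r) (j : Fin r) : Γ(G, ⊤) :=
  ap α.inv ⊤ (stdSec r ⊤ j)

theorem rF_trivSec {r : ℕ} (α : G ≅ FlatMod.freeMod Y r) (W : Y.Opens) (j : Fin r) :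
    rF G le_top (trivSec G α j) = ap α.inv W (stdSec r W j) := by
  unfold trivSec
  rw [← ap_rF, rF_stdSec]

/-- The sections of a trivialization restrict to bases over all opens. -/
theorem basisOn_trivSec {r : ℕ} (α : G ≅ FlatMod.freeMod Y r) (W : Y.Opens) :
    BasisOn G (trivSec G α) W le_top := by
  have hhi : ∀ y, ap α.hom W (ap α.inv W y) = y := by
    intro y
    have := congrArg (fun φ => Scheme.Modules.Hom.app φ W y) α.inv_hom_id
    exact this
  have hih : ∀ m, ap α.inv W (ap α.hom W m) = m := by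
    intro m
    have := congrArg (fun φ => Scheme.Modules.Hom.app φ W m) α.hom_inv_id
    exact this
  have e : (fun j => rF G le_top (trivSec G α j)) = fun j => ap α.inv W (stdSec r W j) := by
    funext j
    exact rF_trivSec G α W j
  unfold BasisOn
  rw [e]
  constructor
  · rw [eq_top_iff]
    intro m _
    have hm : m = ∑ i, ofM ((projM i).app W (ap α.hom W m)) •
        ap α.inv W (stdSec r W i) := by
      conv_lhs => rw [← hih m, section_eq_sum_stdSec r W (ap α.hom W m)]
      rw [map_sum]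
      apply Finset.sum_congr rfl
      intro i _
      exact ap_smul α.inv _ _
    rw [hm]
    exact Submodule.sum_mem _ (fun i _ => Submodule.smul_mem _ _ (Submodule.subset_span ⟨i, rfl⟩))
  · rw [Fintype.linearIndependent_iff]
    intro c hc j
    have h1 : ∑ i, c i • stdSec r W i = 0 := by
      have h2 := congrArg (ap α.hom W) hc
      rw [map_zero, map_sum] at h2
      rw [← h2]
      apply Finset.sum_congr rfl
      intro i _
      rw [ap_smul, hhi]
    exact Fintype.linearIndependent_iff.mp (stdSec_li r W) c h1 j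

end Free

section Transport

variable {X : Scheme.{u}} (F : X.Modules) (U : X.Opens)

theorem appIso_inv_surjective (W : (U : Scheme.{u}).Opens) :
    Function.Surjective (U.ι.appIso W).inv.hom := by
  intro y
  refine ⟨(U.ι.appIso W).hom.hom y, ?_⟩
  change ((U.ι.appIso W).hom ≫ (U.ι.appIso W).inv).hom y = y
  rw [Iso.hom_inv_id]
  rfl

theorem appIso_inv_injective (W : (U : Scheme.{u}).Opens) :
    Function.Injective (U.ι.appIso W).inv.hom := by
  intro y y' hyy
  have := congrArg (U.ι.appIso W).hom.hom hyy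
  change ((U.ι.appIso W).inv ≫ (U.ι.appIso W).hom).hom y =
    ((U.ι.appIso W).inv ≫ (U.ι.appIso W).hom).hom y' at this
  rw [Iso.inv_hom_id] at this
  exact this

/-- Bases over the opens of `U` (as a scheme) give bases over the opens of `X` inside `U`. -/
theorem basisOn_of_restrict {r : ℕ} (t : Fin r → Γ(F, U.ι ''ᵁ ⊤))
    (h : ∀ W : (U : Scheme.{u}).Opens,
      BasisOn (F.restrict U.ι) (t : Fin r → Γ(F.restrict U.ι, ⊤)) W le_top)
    (O : X.Opens) (hO : O ≤ U.ι ''ᵁ ⊤) : BasisOn F t O hO := by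
  obtain ⟨W, rfl⟩ : ∃ W : (U : Scheme.{u}).Opens, O = U.ι ''ᵁ W := by
    refine ⟨U.ι ⁻¹ᵁ O, ?_⟩
    rw [Scheme.Hom.image_preimage_eq_opensRange_inf, Scheme.Opens.opensRange_ι]
    rw [Scheme.Opens.ι_image_top] at hO
    exact (inf_eq_right.mpr hO).symm
  obtain ⟨hspan, hli⟩ := h W
  constructor
  · exact @span_top_of_smul_eq' Γ(X, U.ι ''ᵁ W) Γ((U : Scheme.{u}), W) Γ(F.restrict U.ι, W) _ _ _
      (inferInstance : Module Γ(X, U.ι ''ᵁ W) Γ(F, U.ι ''ᵁ W)) inferInstance
      (U.ι.appIso W).inv.hom (fun _ _ => rfl) _ hspan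
  · exact @li_of_smul_eq' Γ(X, U.ι ''ᵁ W) Γ((U : Scheme.{u}), W) Γ(F.restrict U.ι, W) _ _ _
      (inferInstance : Module Γ(X, U.ι ''ᵁ W) Γ(F, U.ι ''ᵁ W)) inferInstance
      (U.ι.appIso W).inv.hom (appIso_inv_surjective U W) (fun _ _ => rfl) _ _ hli

/-- Bases over the opens of `X` inside `U` give bases over the opens of `U` (as a scheme). -/
theorem basisOn_restrict {r : ℕ} (t : Fin r → Γ(F, U.ι ''ᵁ ⊤))
    (h : ∀ (O : X.Opens) (hO : O ≤ U.ι ''ᵁ ⊤), BasisOn F t O hO)
    (W : (U : Scheme.{u}).Opens) :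
    BasisOn (F.restrict U.ι) (t : Fin r → Γ(F.restrict U.ι, ⊤)) W le_top := by
  obtain ⟨hspan, hli⟩ := h (U.ι ''ᵁ W) (U.ι.image_mono le_top)
  constructor
  · exact @span_top_of_smul_eq Γ(X, U.ι ''ᵁ W) Γ((U : Scheme.{u}), W) Γ(F.restrict U.ι, W) _ _ _
      (inferInstance : Module Γ(X, U.ι ''ᵁ W) Γ(F, U.ι ''ᵁ W)) inferInstance
      (U.ι.appIso W).inv.hom (appIso_inv_surjective U W) (fun _ _ => rfl) _ hspan
  · exact @li_of_smul_eq Γ(X, U.ι ''ᵁ W) Γ((U : Scheme.{u}), W) Γ(F.restrict U.ι, W) _ _ _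
      (inferInstance : Module Γ(X, U.ι ''ᵁ W) Γ(F, U.ι ''ᵁ W)) inferInstance
      (U.ι.appIso W).inv.hom (appIso_inv_injective U W) (fun _ _ => rfl) _ _ hli

end Transport

section Comp

variable {Y : Scheme.{u}}

theorem unitHom_comp {G G' : Y.Modules} (t : Γ(G, ⊤)) (f : G ⟶ G') :
    unitHom G t ≫ f = unitHom G' (ap f ⊤ t) := by
  unfold unitHom
  refine (SheafOfModules.unitHomEquiv_symm_comp (secOfTop G t) f).trans ?_
  congr 1
  ext V
  exact ap_rF f (le_top : V.unop ≤ ⊤) t

theorem freeHom_comp {G G' : Y.Modules} {r : ℕ} (t : Fin r → Γ(G, ⊤)) (f : G ⟶ G') :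
    freeHom G t ≫ f = freeHom G' (fun j => ap f ⊤ (t j)) := by
  apply Sigma.hom_ext
  intro j
  rw [← Category.assoc, ι_freeHom, ι_freeHom, unitHom_comp]

end Comp

section Restrict

variable {X : Scheme.{u}} (F : X.Modules)

/-- A trivialization over `U` provides sections over `U` restricting to bases over all opens
inside `U`. -/
theorem exists_sections_of_iso {U : X.Opens} {r : ℕ}
    (α : F.restrict U.ι ≅ FlatMod.freeMod (↑U) r) :
    ∃ t : Fin r → Γ(F, U.ι ''ᵁ ⊤), ∀ (O : X.Opens) (hO : O ≤ U.ι ''ᵁ ⊤), BasisOn F t O hO :=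
  ⟨trivSec (F.restrict U.ι) α,
    basisOn_of_restrict F U _ (basisOn_trivSec (F.restrict U.ι) α)⟩

/-- Sections restricting to bases over all opens inside `V` trivialize `F` over `V`. -/
theorem isIso_freeHom_restrict {V : X.Opens} {r : ℕ} (t : Fin r → Γ(F, V.ι ''ᵁ ⊤))
    (h : ∀ (O : X.Opens) (hO : O ≤ V.ι ''ᵁ ⊤), BasisOn F t O hO) :
    IsIso (freeHom (F.restrict V.ι) (t : Fin r → Γ(F.restrict V.ι, ⊤))) :=
  isIso_freeHom_of_bases _ _ (basisOn_restrict F V t h)

/-- A trivialization restricts to smaller opens. -/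
theorem iso_restrict_of_le {U V : X.Opens} (hVU : V ≤ U) {r : ℕ}
    (α : F.restrict U.ι ≅ FlatMod.freeMod (↑U) r) :
    Nonempty (F.restrict V.ι ≅ FlatMod.freeMod (↑V) r) := by
  obtain ⟨t, ht⟩ := exists_sections_of_iso F α
  have hV' : V.ι ''ᵁ ⊤ ≤ U.ι ''ᵁ ⊤ := by
    rw [Scheme.Opens.ι_image_top, Scheme.Opens.ι_image_top]
    exact hVU
  let t' : Fin r → Γ(F, V.ι ''ᵁ ⊤) := fun j => rF F hV' (t j)
  have ht' : ∀ (O : X.Opens) (hO : O ≤ V.ι ''ᵁ ⊤), BasisOn F t' O hO :=
    fun O hO => BasisOn.of_rF F t hV' hO (ht O (hO.trans hV'))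
  haveI := isIso_freeHom_restrict F t' ht'
  exact ⟨(asIso (freeHom (F.restrict V.ι) (t' : Fin r → Γ(F.restrict V.ι, ⊤)))).symm⟩

end Restrict

end FLFH8
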