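import Mathlib

/-!
# Localization at the complement of a finite union of primes is semilocal (helper8)
APPEND-ONLY once landed.
-/

set_option autoImplicit false

namespace SemiLocH8

open TensorProduct Module

variable {A : Type*} [CommRing A] (s : Finset (PrimeSpectrum A))

/-- The complement of the union of the primes in `s`. -/
def compl : Submonoid A := ⨅ p ∈ s, p.asIdeal.primeCompl

theorem mem_compl {x : A} : x ∈ compl s ↔ ∀ p ∈ s, x ∉ p.asIdeal := by
  simp only [compl, Submonoid.mem_iInf]
  rfl

theorem disjoint_of_mem {p : PrimeSpectrum A} (hp : p ∈ s) :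
    Disjoint (compl s : Set A) (p.asIdeal : Set A) := by
  rw [Set.disjoint_left]
  intro x hx hxp
  exact (mem_compl s).mp hx p hp hxp

/-- A prime disjoint from the complement of the union lies in one of the primes. -/
theorem exists_le_of_disjoint (q : Ideal A) [hq : q.IsPrime]
    (hd : Disjoint (compl s : Set A) (q : Set A)) : ∃ p ∈ s, q ≤ p.asIdeal := by
  have hsub : (q : Set A) ⊆ ⋃ p ∈ (↑s : Set (PrimeSpectrum A)), (p.asIdeal : Set A) := by
    intro x hx
    have hx' : x ∉ compl s := fun h => Set.disjoint_left.mp hd h hx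
    rw [mem_compl] at hx'
    push Not at hx'
    obtain ⟨p, hp, hxp⟩ := hx'
    exact Set.mem_biUnion hp hxp
  exact (Ideal.subset_union_prime (f := fun p : PrimeSpectrum A => p.asIdeal)
    (⟨q, hq⟩ : PrimeSpectrum A) ⟨q, hq⟩ (fun i _ _ _ => i.isPrime)).mp hsub

/-- The localization at the complement of a finite union of primes is semilocal. -/
theorem finite_maximalSpectrum (B : Type*) [CommRing B] [Algebra A B]
    [IsLocalization (compl s) B] : Finite (MaximalSpectrum B) := by
  classical
  have key : ∀ Q : MaximalSpectrum B, ∃ p ∈ s, Q.asIdeal = p.asIdeal.map (algebraMap A B) := by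
    intro Q
    obtain ⟨hprime, hdisj⟩ :=
      (IsLocalization.isPrime_iff_isPrime_disjoint (compl s) B Q.asIdeal).mp Q.isMaximal.isPrime
    haveI := hprime
    obtain ⟨p, hp, hqp⟩ := exists_le_of_disjoint s (Q.asIdeal.under A) hdisj
    refine ⟨p, hp, ?_⟩
    have h1 : Q.asIdeal ≤ p.asIdeal.map (algebraMap A B) := by
      rw [← IsLocalization.map_comap (compl s) B Q.asIdeal]
      exact Ideal.map_mono hqp
    have h2 : p.asIdeal.map (algebraMap A B) ≠ ⊤ :=
      (IsLocalization.isPrime_of_isPrime_disjoint (compl s) B p.asIdeal p.isPrime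
        (disjoint_of_mem s hp)).ne_top
    exact Q.isMaximal.eq_of_le h2 h1
  choose g hg1 hg2 using key
  let G : MaximalSpectrum B → ↥s := fun Q => ⟨g Q, hg1 Q⟩
  apply Finite.of_injective G
  intro Q Q' h
  have h' : g Q = g Q' := congrArg Subtype.val h
  apply MaximalSpectrum.ext
  rw [hg2 Q, hg2 Q', h']

/-- The fibre rank at a maximal ideal is the rank at the stalk. -/
theorem finrank_quotient_tensor {B : Type*} [CommRing B] (N : Type*) [AddCommGroup N] [Module B N]
    [Module.Finite B N] [Module.Flat B N] (P : MaximalSpectrum B) :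
    finrank (B ⧸ P.asIdeal) ((B ⧸ P.asIdeal) ⊗[B] N) =
      rankAtStalk N P.toPrimeSpectrum := by
  haveI := P.isMaximal
  letI : Field (B ⧸ P.asIdeal) := Ideal.Quotient.field P.asIdeal
  rw [rankAtStalk_eq]
  let e : P.asIdeal.ResidueField ⊗[B ⧸ P.asIdeal] ((B ⧸ P.asIdeal) ⊗[B] N) ≃ₗ[P.asIdeal.ResidueField]
      P.asIdeal.ResidueField ⊗[B] N :=
    AlgebraTensorModule.cancelBaseChange B (B ⧸ P.asIdeal) P.asIdeal.ResidueField
      P.asIdeal.ResidueField N
  have h1 : finrank P.asIdeal.ResidueField (P.asIdeal.ResidueField ⊗[B] N) =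
      finrank P.asIdeal.ResidueField
        (P.asIdeal.ResidueField ⊗[B ⧸ P.asIdeal] ((B ⧸ P.asIdeal) ⊗[B] N)) := e.finrank_eq.symm
  change _ = finrank P.asIdeal.ResidueField (P.asIdeal.ResidueField ⊗[B] N)
  rw [h1]
  exact (Module.finrank_baseChange (R := P.asIdeal.ResidueField) (S := B ⧸ P.asIdeal)
    (M' := (B ⧸ P.asIdeal) ⊗[B] N)).symm

/-- A finite flat finitely presented module of constant rank `r` at finitely many primes is free of
rank `r` on a basic open containing these primes. -/
theorem exists_basis_away (M : Type*) [AddCommGroup M] [Module A M]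
    [Module.FinitePresentation A M] [Module.Flat A M] (r : ℕ)
    (h : ∀ p ∈ s, rankAtStalk M p = r) :
    ∃ f : A, (∀ p ∈ s, f ∉ p.asIdeal) ∧
      Nonempty (Basis (Fin r) (Localization (Submonoid.powers f)) (LocalizedModule.Away f M)) := by
  set S := compl s with hS
  let B := Localization S
  let N := LocalizedModule S M
  haveI : Finite (MaximalSpectrum B) := finite_maximalSpectrum s B
  have rk : ∀ P : MaximalSpectrum B,
      finrank (B ⧸ P.asIdeal) ((B ⧸ P.asIdeal) ⊗[B] N) = r := by
    intro P
    rw [finrank_quotient_tensor N P]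
    have hbc : IsBaseChange B (LocalizedModule.mkLinearMap S M) :=
      IsLocalizedModule.isBaseChange S B (LocalizedModule.mkLinearMap S M)
    rw [rankAtStalk_isBaseChange hbc]
    obtain ⟨hprime, hdisj⟩ :=
      (IsLocalization.isPrime_iff_isPrime_disjoint S B P.asIdeal).mp P.isMaximal.isPrime
    haveI := hprime
    obtain ⟨p, hp, hqp⟩ := exists_le_of_disjoint s (P.asIdeal.under A) hdisj
    have hle : P.toPrimeSpectrum.comap (algebraMap A B) ≤ p := hqp
    rw [rankAtStalk_eq_of_le_of_finite_of_flat M hle]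
    exact h p hp
  obtain ⟨b⟩ := Module.nonempty_basis_of_flat_of_finrank_eq B N r rk
  obtain ⟨f, hf, b', -⟩ := Module.FinitePresentation.exists_basis_localizedModule_powers S
    (LocalizedModule.mkLinearMap S M) B b
  exact ⟨f, (mem_compl s).mp hf, ⟨b'⟩⟩

end SemiLocH8
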