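import Mathlib
import Groth.Prelude.Def_CohB1
import Groth.Prelude.Def_FlatMod2
import Groth.Agent.Lib.FLF5_helper8
import Groth.Agent.Lib.SemiLoc_helper8
import Groth.Agent.Lib.QCohCrit2_helper9

/-!
# Finite locally free modules are quasi-coherent; triviality near finite sets (helper8)
APPEND-ONLY once landed.
-/

set_option autoImplicit false

namespace FLFH8

open AlgebraicGeometry CategoryTheory CategoryTheory.Limits TopologicalSpace Opposite TensorProduct
open SDivGenH8 SDivFreeH8 QcqsLoc QCohExtn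

universe u

section Algebra

/-- Elementary localization data from a family spanning the source whose image is a basis of the
target. -/
theorem locData_of_bases {A A' M M' : Type u} [CommRing A] [CommRing A'] [AddCommGroup M]
    [Module A M] [AddCommGroup M'] [Module A' M'] (ρ : A →+* A') (a : A) (l : M →+ M')
    (hloc : letI := ρ.toAlgebra; IsLocalization.Away a A')
    (hsm : ∀ (x : A) (m : M), l (x • m) = ρ x • l m) {r : ℕ} (t : Fin r → M)
    (ht : Submodule.span A (Set.range t) = ⊤)
    (hspan' : Submodule.span A' (Set.range fun j => l (t j)) = ⊤)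
    (hli' : LinearIndependent A' (fun j => l (t j))) : RelFPKit.LocData ρ a l := by
  letI := ρ.toAlgebra
  haveI : IsLocalization.Away a A' := hloc
  refine ⟨hloc, hsm, ?_, ?_⟩
  · intro m'
    have hm' : m' ∈ Submodule.span A' (Set.range fun j => l (t j)) := by rw [hspan']; trivial
    obtain ⟨c', hc'⟩ := (Submodule.mem_span_range_iff_exists_fun _).mp hm'
    choose n x hx using fun j => IsLocalization.Away.surj (S := A') a (c' j)
    refine ⟨∑ j, n j, ∑ j, (a ^ (∑ i, n i - n j) * x j) • t j, ?_⟩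
    rw [← hc', Finset.smul_sum, map_sum]
    apply Finset.sum_congr rfl
    intro j _
    have hle : n j ≤ ∑ i, n i := Finset.single_le_sum (f := n) (fun _ _ => Nat.zero_le _)
      (Finset.mem_univ j)
    have hxj : c' j * ρ a ^ n j = ρ (x j) := hx j
    rw [hsm, smul_smul, map_mul, map_pow, ← hxj]
    congr 1
    have : ρ a ^ (∑ i, n i) = ρ a ^ (∑ i, n i - n j) * ρ a ^ n j := by
      rw [← pow_add, Nat.sub_add_cancel hle]
    rw [this]
    ring
  · intro m hm
    have hm0 : m ∈ Submodule.span A (Set.range t) := by rw [ht]; trivial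
    obtain ⟨c, hc⟩ := (Submodule.mem_span_range_iff_exists_fun _).mp hm0
    have h1 : ∑ j, ρ (c j) • l (t j) = 0 := by
      rw [← hm, ← hc, map_sum]
      exact Finset.sum_congr rfl (fun j _ => (hsm _ _).symm)
    have h2 := Fintype.linearIndependent_iff.mp hli' _ h1
    have h3 : ∀ j, ∃ n : ℕ, a ^ n * c j = a ^ n * 0 := fun j =>
      IsLocalization.Away.exists_of_eq (S := A') a (by
        change ρ (c j) = ρ 0
        rw [h2 j, map_zero])
    choose n hn using h3
    refine ⟨∑ j, n j, ?_⟩
    rw [← hc, Finset.smul_sum]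
    apply Finset.sum_eq_zero
    intro j _
    have hle : n j ≤ ∑ i, n i := Finset.single_le_sum (f := n) (fun _ _ => Nat.zero_le _)
      (Finset.mem_univ j)
    rw [smul_smul, ← Nat.sub_add_cancel hle, pow_add, mul_assoc, hn j, mul_zero, mul_zero,
      zero_smul]

end Algebra

section QCoh

variable {X : Scheme.{u}} (F : X.Modules)

theorem BasisOn.self {W : X.Opens} {r : ℕ} (t : Fin r → Γ(F, W)) (h : BasisOn F t W le_rfl) :
    Submodule.span Γ(X, W) (Set.range t) = ⊤ ∧ LinearIndependent Γ(X, W) t := by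
  have e : (fun j => rF F (le_refl W) (t j)) = t := by
    funext j
    exact SubExt.rF_self F _ (t j)
  unfold BasisOn at h
  rw [e] at h
  exact h

/-- Sections restricting to bases on all smaller opens give localization data on affine opens. -/
theorem locOnU_of_bases {W : X.Opens} (hW : IsAffineOpen W) {r : ℕ} (t : Fin r → Γ(F, W))
    (h : ∀ (O : X.Opens) (hO : O ≤ W), BasisOn F t O hO) : QCohCrit.LocOnU F W := by
  intro a
  obtain ⟨h1, -⟩ := BasisOn.self F t (h W le_rfl)
  obtain ⟨h2, h3⟩ := h (X.basicOpen a) (X.basicOpen_le a)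
  exact locData_of_bases _ a _ (hW.isLocalization_basicOpen a)
    (fun x m => Scheme.Modules.map_smul F _ x m) t h1 h2 h3

/-- Around every point there is an affine open with sections restricting to bases on all smaller
opens. -/
theorem exists_affine_bases {n : ℕ} {x : X} {U : X.Opens} (hxU : x ∈ U)
    (α : F.restrict U.ι ≅ FlatMod.freeMod (↑U) n) :
    ∃ W : X.Opens, IsAffineOpen W ∧ x ∈ W ∧ W ≤ U ∧ ∃ t : Fin n → Γ(F, W),
      ∀ (O : X.Opens) (hO : O ≤ W), BasisOn F t O hO := by
  obtain ⟨t, ht⟩ := exists_sections_of_iso F α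
  have hxU' : x ∈ U.ι ''ᵁ ⊤ := by
    rw [Scheme.Opens.ι_image_top]; exact hxU
  obtain ⟨_, ⟨W, hW : IsAffineOpen W, rfl⟩, hxW, hWU⟩ :=
    (X.isBasis_affineOpens).exists_subset_of_mem_open hxU' (U.ι ''ᵁ ⊤).isOpen
  have hWU' : W ≤ U.ι ''ᵁ ⊤ := hWU
  refine ⟨W, hW, hxW, ?_, fun j => rF F hWU' (t j),
    fun O hO => BasisOn.of_rF F t hWU' hO (ht O (hO.trans hWU'))⟩
  rw [Scheme.Opens.ι_image_top] at hWU'
  exact hWU'

/-- A finite locally free module is quasi-coherent. -/
theorem isQuasicoherent_of_finLocFree (hF : FlatMod.IsFinLocFree F) : F.IsQuasicoherent := by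
  let ι := {W : X.affineOpens // ∃ (r : ℕ) (t : Fin r → Γ(F, W.1)),
    ∀ (O : X.Opens) (hO : O ≤ W.1), BasisOn F t O hO}
  have hcover : ⨆ i : ι, (i.1 : X.affineOpens).1 = ⊤ := by
    rw [eq_top_iff]
    intro x _
    obtain ⟨U, n, hxU, ⟨α⟩⟩ := hF x
    obtain ⟨W, hW, hxW, -, t, ht⟩ := exists_affine_bases F hxU α
    exact Opens.mem_iSup.mpr ⟨⟨⟨W, hW⟩, n, t, ht⟩, hxW⟩
  refine QCohCrit.isQuasicoherent_of_locOnU_cover F (fun i : ι => (i.1 : X.affineOpens).1)
    (fun i => i.1.2) hcover ?_
  rintro ⟨W, r, t, ht⟩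
  exact locOnU_of_bases F W.2 t ht

theorem IsFinLocFreeOfRank.isFinLocFree {r : ℕ} (hF : FlatMod.IsFinLocFreeOfRank r F) :
    FlatMod.IsFinLocFree F := fun x => by
  obtain ⟨U, hxU, h⟩ := hF x
  exact ⟨U, r, hxU, h⟩

/-- The stalks of a module which is finite locally free of rank `r` are free of rank `r`. -/
theorem free_stalk_of_finLocFreeOfRank {r : ℕ} (hF : FlatMod.IsFinLocFreeOfRank r F) (x : X) :
    Module.Free (X.presheaf.stalk x) (F.presheaf.stalk x) ∧
      Module.finrank (X.presheaf.stalk x) (F.presheaf.stalk x) = r := by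
  haveI := isQuasicoherent_of_finLocFree F (IsFinLocFreeOfRank.isFinLocFree F hF)
  obtain ⟨U, hxU, ⟨α⟩⟩ := hF x
  obtain ⟨W, hW, hxW, -, t, ht⟩ := exists_affine_bases F hxU α
  obtain ⟨h1, h2⟩ := BasisOn.self F t (ht W le_rfl)
  exact free_stalk_of_basis F hW hxW t h1 h2

end QCoh

section Finite

variable {X : Scheme.{u}} (F : X.Modules)

/-- The rank at a point of the sections over an affine open is the rank of the stalk. -/
theorem rankAtStalk_sections [F.IsQuasicoherent] {V : X.Opens} (hV : IsAffineOpen V) {z : X}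
    (hz : z ∈ V) :
    Module.rankAtStalk Γ(F, V) (hV.primeIdealOf ⟨z, hz⟩) =
      Module.finrank (X.presheaf.stalk z) (F.presheaf.stalk z) := by
  set p := (hV.primeIdealOf ⟨z, hz⟩).asIdeal with hp
  letI := TopCat.Presheaf.algebra_section_stalk X.presheaf (⟨z, hz⟩ : V)
  haveI : IsLocalization.AtPrime (X.presheaf.stalk z) p := hV.isLocalization_stalk ⟨z, hz⟩
  letI modA : Module Γ(X, V) (F.presheaf.stalk z) := StalkLocH8.modSec F hz
  haveI : IsScalarTower Γ(X, V) (X.presheaf.stalk z) (F.presheaf.stalk z) :=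
    IsScalarTower.of_algebraMap_smul (fun _ _ => rfl)
  haveI := StalkLocH8.isLocalizedModule_germLin F hV hz
  let i : Localization.AtPrime p ≃ₐ[Γ(X, V)] X.presheaf.stalk z :=
    IsLocalization.algEquiv p.primeCompl _ _
  let j : LocalizedModule p.primeCompl Γ(F, V) ≃ₗ[Γ(X, V)] F.presheaf.stalk z :=
    IsLocalizedModule.iso p.primeCompl (StalkLocH8.germLin F hz)
  have hc : ∀ (c : Localization.AtPrime p) (m : LocalizedModule p.primeCompl Γ(F, V)),
      j (c • m) = i c • j m := by
    intro c m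
    obtain ⟨a, s, rfl⟩ := IsLocalization.exists_mk'_eq p.primeCompl c
    apply ((Module.End.isUnit_iff _).mp
      (IsLocalizedModule.map_units (StalkLocH8.germLin F hz) s)).1
    simp [i, ← map_smul, ← smul_assoc]
  unfold Module.rankAtStalk Module.finrank
  exact congrArg Cardinal.toNat (rank_eq_of_equiv_equiv i j.toAddEquiv i.bijective hc)

/-- A module which is finite locally free of rank `r` is free of rank `r` on a neighbourhood of any
finite subset of an affine open. -/
theorem exists_free_nhd_of_finite {r : ℕ} (hE : FlatMod.IsFinLocFreeOfRank r F) (Z : Set X)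
    (hZ : Z.Finite) (V : X.Opens) (hV : IsAffineOpen V) (hZV : Z ⊆ V) :
    ∃ U : X.Opens, Z ⊆ U ∧ U ≤ V ∧
      Nonempty (F.restrict U.ι ≅ FlatMod.freeMod (U : Scheme.{u}) r) := by
  classical
  have hE' := IsFinLocFreeOfRank.isFinLocFree F hE
  haveI := isQuasicoherent_of_finLocFree F hE'
  haveI := isFinitePresentation_of_finLocFree F hE'
  haveI : Module.FinitePresentation Γ(X, V) Γ(F, V) :=
    QCohFP2.finitePresentation_of_isFinitePresentation F hV
  haveI : Module.Flat Γ(X, V) Γ(F, V) := flat_sections_of_flat_stalks F hV (fun x _ => by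
    haveI := (free_stalk_of_finLocFreeOfRank F hE x).1
    infer_instance)
  haveI := hZ.fintype
  let s : Finset (PrimeSpectrum Γ(X, V)) :=
    (Finset.univ : Finset ↥Z).image (fun z => hV.primeIdealOf ⟨z.1, hZV z.2⟩)
  have hs : ∀ p ∈ s, Module.rankAtStalk Γ(F, V) p = r := by
    intro p hp
    obtain ⟨z, -, rfl⟩ := Finset.mem_image.mp hp
    rw [rankAtStalk_sections F hV (hZV z.2)]
    exact (free_stalk_of_finLocFreeOfRank F hE z.1).2
  obtain ⟨f, hf, ⟨b⟩⟩ := SemiLocH8.exists_basis_away s Γ(F, V) r hs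
  have hld : RelFPKit.LocData (X.presheaf.map (homOfLE (X.basicOpen_le f)).op).hom f
      (F.presheaf.map (homOfLE (X.basicOpen_le f)).op).hom :=
    RelFPAff.locData (F := F) hV f _ rfl
  obtain ⟨b2⟩ := basis_of_locData hld b
  refine ⟨X.basicOpen f, ?_, X.basicOpen_le f,
    iso_of_basis F (hV.basicOpen f) (⇑b2) b2.span_eq b2.linearIndependent⟩
  intro z hz
  apply mem_basicOpen_of_notMem_prime hV (hZV hz)
  exact hf _ (Finset.mem_image.mpr ⟨⟨z, hz⟩, Finset.mem_univ _, rfl⟩)

end Finite

end FLFH8
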