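import Mathlib
import Groth.Prelude.Def_CohB1
import Groth.Prelude.Def_FlatMod2
import Groth.Agent.Lib.FLF6_helper8

/-!
# Finite locally free modules: isomorphism invariance, restriction (helper8)
APPEND-ONLY once landed.
-/

set_option autoImplicit false

namespace FLFH8

open AlgebraicGeometry CategoryTheory CategoryTheory.Limits TopologicalSpace Opposite TensorProduct
open SDivGenH8 SDivFreeH8 QcqsLoc QCohExtn

universe u

section Iso

variable {X : Scheme.{u}}

theorem IsFinLocFree.of_iso {M M' : X.Modules} (e : M ≅ M') (h : FlatMod.IsFinLocFree M) :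
    FlatMod.IsFinLocFree M' := fun x => by
  obtain ⟨U, n, hxU, ⟨α⟩⟩ := h x
  exact ⟨U, n, hxU, ⟨(Scheme.Modules.restrictFunctor U.ι).mapIso e.symm ≪≫ α⟩⟩

/-- A globally trivial module is trivial over every open. -/
theorem iso_restrict_of_iso {G : X.Modules} {n : ℕ} (α : G ≅ FlatMod.freeMod X n) (W : X.Opens) :
    Nonempty (G.restrict W.ι ≅ FlatMod.freeMod (↑W) n) := by
  have ht : ∀ (O : X.Opens) (hO : O ≤ ⊤), BasisOn G (trivSec G α) O hO :=
    fun O _ => basisOn_trivSec G α O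
  let t' : Fin n → Γ(G, W.ι ''ᵁ ⊤) := fun j => rF G le_top (trivSec G α j)
  have ht' : ∀ (O : X.Opens) (hO : O ≤ W.ι ''ᵁ ⊤), BasisOn G t' O hO :=
    fun O hO => BasisOn.of_rF G (trivSec G α) le_top hO (ht O le_top)
  haveI := isIso_freeHom_restrict G t' ht'
  exact ⟨(asIso (freeHom (G.restrict W.ι) (t' : Fin n → Γ(G.restrict W.ι, ⊤)))).symm⟩

theorem isFinLocFree_of_iso_free {G : X.Modules} {n : ℕ} (α : G ≅ FlatMod.freeMod X n) :
    FlatMod.IsFinLocFree G := fun _ =>
  ⟨⊤, n, trivial, iso_restrict_of_iso α ⊤⟩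

end Iso

section Restrict

variable {X : Scheme.{u}} (F : X.Modules)

/-- A basis of the sections of the restriction of `F` to `U` over `O ⊆ U` is a basis of the
sections of `F` over the image of `O`. -/
theorem basis_transport {U : X.Opens} (O : (U : Scheme.{u}).Opens) {n : ℕ}
    (g : Fin n → Γ(F.restrict U.ι, O))
    (hspan : Submodule.span Γ((U : Scheme.{u}), O) (Set.range g) = ⊤)
    (hli : LinearIndependent Γ((U : Scheme.{u}), O) g) :
    ∃ g' : Fin n → Γ(F, U.ι ''ᵁ O), Submodule.span Γ(X, U.ι ''ᵁ O) (Set.range g') = ⊤ ∧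
      LinearIndependent Γ(X, U.ι ''ᵁ O) g' := by
  refine ⟨g, ?_, ?_⟩
  · exact @span_top_of_smul_eq' Γ(X, U.ι ''ᵁ O) Γ((U : Scheme.{u}), O) Γ(F.restrict U.ι, O) _ _ _
      (inferInstance : Module Γ(X, U.ι ''ᵁ O) Γ(F, U.ι ''ᵁ O)) inferInstance
      (U.ι.appIso O).inv.hom (fun _ _ => rfl) _ hspan
  · exact @li_of_smul_eq' Γ(X, U.ι ''ᵁ O) Γ((U : Scheme.{u}), O) Γ(F.restrict U.ι, O) _ _ _
      (inferInstance : Module Γ(X, U.ι ''ᵁ O) Γ(F, U.ι ''ᵁ O)) inferInstance
      (U.ι.appIso O).inv.hom (appIso_inv_surjective U O) (fun _ _ => rfl) _ _ hli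

/-- If the restriction of a quasi-coherent module to an open `U` is finite locally free, then its
stalks at the points of `U` are free. -/
theorem free_stalk_of_restrict_finLocFree [F.IsQuasicoherent] {U : X.Opens} {x : X} (hx : x ∈ U)
    (h : FlatMod.IsFinLocFree (F.restrict U.ι)) :
    Module.Free (X.presheaf.stalk x) (F.presheaf.stalk x) := by
  obtain ⟨W', n, hxW', ⟨α'⟩⟩ := h ⟨x, hx⟩
  obtain ⟨O, hO, hxO, -, t, ht⟩ := exists_affine_bases (F.restrict U.ι) hxW' α'
  obtain ⟨h1, h2⟩ := BasisOn.self (F.restrict U.ι) t (ht O le_rfl)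
  obtain ⟨g', h3, h4⟩ := basis_transport F O t h1 h2
  have hOX : IsAffineOpen (U.ι ''ᵁ O) := hO.image_of_isOpenImmersion U.ι
  have hxOX : x ∈ U.ι ''ᵁ O := ⟨⟨x, hx⟩, hxO, rfl⟩
  exact (free_stalk_of_basis F hOX hxOX g' h3 h4).1

end Restrict

end FLFH8
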