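import Mathlib
import Groth.Prelude.Def_CohB1
import Groth.Prelude.Def_FlatMod2
import Groth.Prelude.Def_Mor2
import Groth.Agent.Lib.FLF7_helper8
import Groth.Agent.Lib.SerreCrit1_helper9

/-!
# Finite locally free morphisms and direct images of the structure sheaf (helper8)
APPEND-ONLY once landed.
-/

set_option autoImplicit false

namespace FLFH8

open AlgebraicGeometry CategoryTheory CategoryTheory.Limits TopologicalSpace Opposite TensorProduct

universe u

section Dictionary

variable {X : Scheme.{u}} (F : X.Modules)

/-- Sections of a quasi-coherent finite locally free module over affine opens are finitely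
presented and flat. -/
theorem fp_flat_sections_of_finLocFree [F.IsQuasicoherent] (hF : FlatMod.IsFinLocFree F)
    {U : X.Opens} (hU : IsAffineOpen U) :
    Module.FinitePresentation Γ(X, U) Γ(F, U) ∧ Module.Flat Γ(X, U) Γ(F, U) := by
  haveI := isFinitePresentation_of_finLocFree F hF
  refine ⟨QCohFP2.finitePresentation_of_isFinitePresentation F hU,
    flat_sections_of_flat_stalks F hU (fun x _ => ?_)⟩
  haveI := free_stalk_of_finLocFree F hF x
  infer_instance

/-- A quasi-coherent module whose sections over affine opens are finitely presented and flat is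
finite locally free. -/
theorem finLocFree_of_fp_flat_sections [F.IsQuasicoherent]
    (H : ∀ U : X.affineOpens, Module.FinitePresentation Γ(X, U.1) Γ(F, U.1) ∧
      Module.Flat Γ(X, U.1) Γ(F, U.1)) : FlatMod.IsFinLocFree F := by
  haveI : SheafOfModules.IsFinitePresentation (R := X.ringCatSheaf) F :=
    QCohFP2.isFinitePresentation_of_sections_cover F (fun W : X.affineOpens => W.1)
      (fun W => W.2) (iSup_affineOpens_eq_top X) (fun W => (H W).1)
  intro x
  obtain ⟨_, ⟨U, hU : IsAffineOpen U, rfl⟩, hxU, -⟩ :=
    (X.isBasis_affineOpens).exists_subset_of_mem_open (Set.mem_univ x) isOpen_univ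
  have hx : x ∈ U := hxU
  haveI : Module.Flat Γ(X, U) Γ(F, U) := (H ⟨U, hU⟩).2
  haveI : Module.Flat (X.presheaf.stalk x) (F.presheaf.stalk x) :=
    flat_stalk_of_flat_sections F hU hx
  haveI : Module.Finite (X.presheaf.stalk x) (F.presheaf.stalk x) := finite_stalk F x
  exact exists_free_nhd F x Module.free_of_flat_of_isLocalRing

end Dictionary

section Algebra

/-- Transfer of module properties to ring-homomorphism properties along an additive equivalence
intertwining the actions. -/
theorem ringHom_props_of_module {A B N : Type u} [CommRing A] [CommRing B] [AddCommGroup N]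
    [Module A N] (ψ : A →+* B) (e : N ≃+ B) (hsm : ∀ (a : A) (n : N), e (a • n) = ψ a * e n)
    [Module.FinitePresentation A N] [Module.Flat A N] :
    ψ.Finite ∧ ψ.Flat ∧ ψ.FinitePresentation := by
  letI := ψ.toAlgebra
  have hsm' : ∀ (a : A) (n : N), e (a • n) = a • e n := fun a n => hsm a n
  let eL : N ≃ₗ[A] B := { e with map_smul' := hsm' }
  haveI : Module.FinitePresentation A B := Module.FinitePresentation.of_equiv eL
  haveI : Module.Flat A B := Module.Flat.of_linearEquiv eL.symm
  refine ⟨?_, ?_, ?_⟩
  · exact (inferInstance : Module.Finite A B)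
  · exact (inferInstance : Module.Flat A B)
  · exact (inferInstance : Algebra.FinitePresentation A B)

theorem module_props_of_ringHom {A B N : Type u} [CommRing A] [CommRing B] [AddCommGroup N]
    [Module A N] (ψ : A →+* B) (e : N ≃+ B) (hsm : ∀ (a : A) (n : N), e (a • n) = ψ a * e n)
    (h1 : ψ.Finite) (h2 : ψ.Flat) (h3 : ψ.FinitePresentation) :
    Module.FinitePresentation A N ∧ Module.Flat A N := by
  letI := ψ.toAlgebra
  have hsm' : ∀ (a : A) (n : N), e (a • n) = a • e n := fun a n => hsm a n
  let eL : N ≃ₗ[A] B := { e with map_smul' := hsm' }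
  haveI : Module.Finite A B := h1
  haveI : Module.Flat A B := h2
  haveI : Algebra.FinitePresentation A B := h3
  haveI : Module.FinitePresentation A B :=
    Module.FinitePresentation.of_finite_of_finitePresentation A B
  exact ⟨Module.FinitePresentation.of_equiv eL.symm, Module.Flat.of_linearEquiv eL⟩

end Algebra

section Push

variable {X S : Scheme.{u}} (f : X ⟶ S)

/-- The direct image of the structure sheaf. -/
noncomputable abbrev pushO : S.Modules :=
  (Scheme.Modules.pushforward f).obj (Coh.structureModule X)

theorem isQuasicoherent_pushO [IsAffineHom f] : (pushO f).IsQuasicoherent := by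
  haveI : (Coh.structureModule X).IsQuasicoherent := SerreCrit.isQuasicoherent_OO
  exact QCohCrit.isQuasicoherent_pushforward f (Coh.structureModule X)

/-- `f` is affine with finite locally free direct image of the structure sheaf iff `f` is finite,
flat and locally of finite presentation. -/
theorem isFinLocFree_iff :
    (IsAffineHom f ∧ FlatMod.IsFinLocFree (pushO f)) ↔ Mor2.IsFinLocFree f := by
  constructor
  · rintro ⟨haff, hF⟩
    haveI := haff
    haveI := isQuasicoherent_pushO f
    have key : ∀ (V : S.Opens), IsAffineOpen V →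
        (f.app V).hom.Finite ∧ (f.app V).hom.Flat ∧ (f.app V).hom.FinitePresentation := by
      intro V hV
      obtain ⟨h1, h2⟩ := fp_flat_sections_of_finLocFree (pushO f) hF hV
      haveI := h1
      haveI := h2
      exact ringHom_props_of_module (N := Γ(pushO f, V)) (B := Γ(X, f ⁻¹ᵁ V)) (f.app V).hom
        (AddEquiv.refl _) (fun _ _ => rfl)
    have hfin : IsFinite f := ⟨fun V hV => (key V hV).1⟩
    refine ⟨hfin, ?_, ?_⟩
    · rw [HasRingHomProperty.iff_exists_appLE (P := @Flat)
        (RingHom.Flat.stableUnderComposition.stableUnderCompositionWithLocalizationAway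
          RingHom.Flat.holdsForLocalizationAway).left]
      intro x
      obtain ⟨_, ⟨V, hV : IsAffineOpen V, rfl⟩, hxV, -⟩ :=
        (S.isBasis_affineOpens).exists_subset_of_mem_open (Set.mem_univ (f x)) isOpen_univ
      refine ⟨⟨V, hV⟩, ⟨f ⁻¹ᵁ V, hV.preimage f⟩, hxV, le_rfl, ?_⟩
      rw [← Scheme.Hom.app_eq_appLE]
      exact (key V hV).2.1
    · rw [HasRingHomProperty.iff_exists_appLE (P := @LocallyOfFinitePresentation)
        (RingHom.finitePresentation_stableUnderComposition.stableUnderCompositionWithLocalizationAway
          RingHom.finitePresentation_holdsForLocalizationAway).left]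
      intro x
      obtain ⟨_, ⟨V, hV : IsAffineOpen V, rfl⟩, hxV, -⟩ :=
        (S.isBasis_affineOpens).exists_subset_of_mem_open (Set.mem_univ (f x)) isOpen_univ
      refine ⟨⟨V, hV⟩, ⟨f ⁻¹ᵁ V, hV.preimage f⟩, hxV, le_rfl, ?_⟩
      rw [← Scheme.Hom.app_eq_appLE]
      exact (key V hV).2.2
  · rintro ⟨hfin, hflat, hfp⟩
    haveI := hfin
    haveI := hflat
    haveI := hfp
    refine ⟨inferInstance, ?_⟩
    haveI := isQuasicoherent_pushO f
    apply finLocFree_of_fp_flat_sections
    intro V
    have hU : IsAffineOpen (f ⁻¹ᵁ V.1) := V.2.preimage f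
    have h2 : (f.app V.1).hom.Flat := by
      rw [Scheme.Hom.app_eq_appLE]
      exact HasRingHomProperty.appLE (P := @Flat) f inferInstance V ⟨_, hU⟩ le_rfl
    have h3 : (f.app V.1).hom.FinitePresentation := by
      rw [Scheme.Hom.app_eq_appLE]
      exact HasRingHomProperty.appLE (P := @LocallyOfFinitePresentation) f inferInstance V
        ⟨_, hU⟩ le_rfl
    exact module_props_of_ringHom (N := Γ(pushO f, V.1)) (B := Γ(X, f ⁻¹ᵁ V.1)) (f.app V.1).hom
      (AddEquiv.refl _) (fun _ _ => rfl) (f.finite_app V.1 V.2) h2 h3

end Push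

end FLFH8
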