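import Mathlib
import Groth.Prelude.Def_CohB1
import Groth.Prelude.Def_FlatMod2
import Groth.Agent.Lib.FLF5_helper8

/-!
# Retracts of finite free modules and finite projective modules of global sections (helper8)
APPEND-ONLY once landed.
-/

set_option autoImplicit false

namespace FLFH8

open AlgebraicGeometry CategoryTheory CategoryTheory.Limits TopologicalSpace Opposite TensorProduct
open SDivGenH8 SDivFreeH8 QcqsLoc QCohExtn

universe u

section HomFree

variable {Y : Scheme.{u}}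

theorem hom_eq_unitHom {G : Y.Modules} (h : Coh.structureModule Y ⟶ G) :
    h = unitHom G (ap h ⊤ (toM (1 : Γ(Y, ⊤)))) := by
  unfold unitHom
  apply (SheafOfModules.unitHomEquiv G).injective
  rw [Equiv.apply_symm_apply]
  ext V
  have h1 := ap_rF h (le_top : V.unop ≤ ⊤) (toM (1 : Γ(Y, ⊤)))
  refine Eq.trans ?_ h1
  change ap h V.unop (toM (1 : Γ(Y, V.unop))) = _
  congr 1
  exact (map_one (rX (le_top : V.unop ≤ ⊤))).symm

theorem hom_eq_freeHom {G : Y.Modules} {r : ℕ} (f : FlatMod.freeMod Y r ⟶ G) :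
    f = freeHom G (fun j => ap f ⊤ (stdSec r ⊤ j)) := by
  apply Sigma.hom_ext
  intro j
  rw [ι_freeHom]
  exact hom_eq_unitHom _

theorem free_hom_ext {G : Y.Modules} {r : ℕ} (f g : FlatMod.freeMod Y r ⟶ G)
    (h : ∀ j, ap f ⊤ (stdSec r ⊤ j) = ap g ⊤ (stdSec r ⊤ j)) : f = g := by
  rw [hom_eq_freeHom f, hom_eq_freeHom g]
  congr 1
  exact funext h

theorem freeHom_app_top {G : Y.Modules} {r : ℕ} (t : Fin r → Γ(G, ⊤)) (j : Fin r) :
    ap (freeHom G t) ⊤ (stdSec r ⊤ j) = t j := by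
  have := freeHom_app_smul_stdSec G t ⊤ j 1
  rw [one_smul, one_smul, SubExt.rF_self] at this
  exact this

end HomFree

section Equiv

variable (X : Scheme.{u})

/-- Retracts of finite free modules. -/
abbrev RetrP : ObjectProperty X.Modules := fun M : X.Modules =>
  ∃ (n : ℕ) (i : M ⟶ FlatMod.freeMod X n) (r : FlatMod.freeMod X n ⟶ M), i ≫ r = 𝟙 M

/-- Finite projective modules. -/
abbrev ProjQ : ObjectProperty (ModuleCat.{u} Γ(X, ⊤)) := fun N =>
  Module.Finite Γ(X, ⊤) N ∧ Module.Projective Γ(X, ⊤) N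

/-- The global sections functor on retracts of finite free modules. -/
noncomputable def secFun : (RetrP X).FullSubcategory ⥤ (ProjQ X).FullSubcategory where
  obj M := ⟨ModuleCat.of Γ(X, ⊤) Γ(M.obj, ⊤), by
    obtain ⟨n, i, r, h⟩ := M.property
    exact finite_projective_of_retract i r h ⊤⟩
  map {M N} φ := ObjectProperty.homMk (ModuleCat.ofHom (QCohFT.secHom M.obj N.obj ⊤ φ.hom))
  map_id M := by
    apply ObjectProperty.hom_ext
    ext x
    rfl
  map_comp φ ψ := by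
    apply ObjectProperty.hom_ext
    ext x
    rfl

theorem secFun_map_apply {M N : (RetrP X).FullSubcategory} (φ : M ⟶ N) (x : Γ(M.obj, ⊤)) :
    ((secFun X).map φ).hom.hom x = ap φ.hom ⊤ x := rfl

instance : (secFun X).Faithful where
  map_injective {M N} φ ψ h := by
    obtain ⟨n, i, r, hir⟩ := M.property
    apply ObjectProperty.hom_ext
    have h1 : ∀ x : Γ(M.obj, ⊤), ap φ.hom ⊤ x = ap ψ.hom ⊤ x := by
      intro x
      rw [← secFun_map_apply, ← secFun_map_apply, h]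
    have h2 : r ≫ φ.hom = r ≫ ψ.hom := free_hom_ext _ _ (fun j => h1 _)
    calc φ.hom = (i ≫ r) ≫ φ.hom := by rw [hir, Category.id_comp]
      _ = i ≫ (r ≫ ψ.hom) := by rw [Category.assoc, h2]
      _ = ψ.hom := by rw [← Category.assoc, hir, Category.id_comp]

instance : (secFun X).Full where
  map_surjective {M N} g := by
    obtain ⟨n, i, r, hir⟩ := M.property
    let gl : Γ(M.obj, ⊤) →ₗ[Γ(X, ⊤)] Γ(N.obj, ⊤) := g.hom.hom
    let t : Fin n → Γ(N.obj, ⊤) := fun j => gl (ap r ⊤ (stdSec n ⊤ j))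
    refine ⟨ObjectProperty.homMk (i ≫ freeHom N.obj t), ?_⟩
    apply ObjectProperty.hom_ext
    ext x
    change ap (freeHom N.obj t) ⊤ (ap i ⊤ x) = gl x
    have hx := section_eq_sum_stdSec n ⊤ (ap i ⊤ x)
    have h1 : ap (freeHom N.obj t) ⊤ (ap i ⊤ x) =
        ∑ j, ofM ((projM j).app ⊤ (ap i ⊤ x)) • t j := by
      conv_lhs => rw [hx]
      rw [map_sum]
      refine Finset.sum_congr rfl fun j _ => ?_
      rw [freeHom_app_smul_stdSec, SubExt.rF_self]
    have h2 : gl x = ∑ j, ofM ((projM j).app ⊤ (ap i ⊤ x)) • t j := by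
      have h3 : x = ap r ⊤ (ap i ⊤ x) := by
        have := congrArg (fun φ => ap φ ⊤ x) hir
        exact this.symm
      conv_lhs => rw [h3, hx]
      rw [map_sum, map_sum]
      refine Finset.sum_congr rfl fun j _ => ?_
      rw [ap_smul, map_smul]
    rw [h1, h2]

instance : (secFun X).EssSurj where
  mem_essImage N := by
    obtain ⟨hfin, hproj⟩ := N.property
    obtain ⟨n, π, hπ⟩ := Module.Finite.exists_fin' Γ(X, ⊤) N.obj
    obtain ⟨s, hs⟩ := Module.projective_lifting_property π LinearMap.id hπ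
    have hs' : ∀ y, π (s y) = y := fun y => LinearMap.congr_fun hs y
    let b : Module.Basis (Fin n) Γ(X, ⊤) Γ(FlatMod.freeMod X n, ⊤) :=
      Module.Basis.mk (stdSec_li n ⊤) (stdSec_span n ⊤).ge
    let Φ : (Fin n → Γ(X, ⊤)) ≃ₗ[Γ(X, ⊤)] Γ(FlatMod.freeMod X n, ⊤) := b.equivFun.symm
    let E : Γ(FlatMod.freeMod X n, ⊤) →ₗ[Γ(X, ⊤)] Γ(FlatMod.freeMod X n, ⊤) :=
      Φ.toLinearMap ∘ₗ s ∘ₗ π ∘ₗ Φ.symm.toLinearMap
    have hE : ∀ y, E y = Φ (s (π (Φ.symm y))) := fun y => rfl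
    let ε : FlatMod.freeMod X n ⟶ FlatMod.freeMod X n :=
      freeHom _ (fun j => E (stdSec n ⊤ j))
    have hε0 : QCohFT.secHom _ _ ⊤ ε = E := by
      apply b.ext
      intro j
      rw [Module.Basis.mk_apply]
      exact freeHom_app_top _ j
    have hε : ∀ y, ap ε ⊤ y = E y := fun y => LinearMap.congr_fun hε0 y
    have hEE : ∀ y, E (E y) = E y := by
      intro y
      rw [hE, hE, LinearEquiv.symm_apply_apply, hs']
    have hεε : ε ≫ ε = ε := by
      apply free_hom_ext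
      intro j
      change ap ε ⊤ (ap ε ⊤ _) = _
      rw [hε, hε, hEE]
    obtain ⟨M, i, e, hie, hei⟩ := IsIdempotentComplete.idempotents_split _ ε hεε
    have hei' : ∀ y, ap i ⊤ (ap e ⊤ y) = E y := by
      intro y
      rw [← hε, ← hei]
      rfl
    have hie' : ∀ x, ap e ⊤ (ap i ⊤ x) = x := by
      intro x
      have := congrArg (fun φ => ap φ ⊤ x) hie
      exact this
    let iL : Γ(M, ⊤) →ₗ[Γ(X, ⊤)] Γ(FlatMod.freeMod X n, ⊤) := QCohFT.secHom _ _ ⊤ i
    let eL : Γ(FlatMod.freeMod X n, ⊤) →ₗ[Γ(X, ⊤)] Γ(M, ⊤) := QCohFT.secHom _ _ ⊤ e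
    let α : Γ(M, ⊤) →ₗ[Γ(X, ⊤)] N.obj := π ∘ₗ Φ.symm.toLinearMap ∘ₗ iL
    let β : N.obj →ₗ[Γ(X, ⊤)] Γ(M, ⊤) := eL ∘ₗ Φ.toLinearMap ∘ₗ s
    have hαβ : ∀ y, α (β y) = y := by
      intro y
      change π (Φ.symm (ap i ⊤ (ap e ⊤ (Φ (s y))))) = y
      rw [hei', hE, LinearEquiv.symm_apply_apply, LinearEquiv.symm_apply_apply, hs', hs']
    have hβα : ∀ x, β (α x) = x := by
      intro x
      change ap e ⊤ (Φ (s (π (Φ.symm (ap i ⊤ x))))) = x
      rw [← hE, ← hei', hie', hie']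
    let MM : (RetrP X).FullSubcategory := ⟨M, n, i, e, hie⟩
    exact ⟨MM, ⟨ObjectProperty.isoMk _ (LinearEquiv.toModuleIso
      (LinearEquiv.ofLinearMap α β (LinearMap.ext hαβ) (LinearMap.ext hβα)))⟩⟩

instance : (secFun X).IsEquivalence where

theorem nonempty_equiv :
    Nonempty ((RetrP X).FullSubcategory ≌ (ProjQ X).FullSubcategory) :=
  ⟨(secFun X).asEquivalence⟩

end Equiv

end FLFH8
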