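import Mathlib
import Groth.Prelude
import Groth.Agent.Lib.RetrEq_helper8
import Groth.Agent.Lib.FLF6_helper8

/-!
# Trace of a finite locally free algebra: composite with the structure map (helper8)
APPEND-ONLY once landed.
-/

set_option autoImplicit false

namespace FLFH8

open AlgebraicGeometry CategoryTheory CategoryTheory.Limits TopologicalSpace Opposite TensorProduct
open SDivGenH8 SDivFreeH8 QcqsLoc QCohExtn

universe u

variable {X : Scheme.{u}}

theorem unit_hom_ext_cover {G : X.Modules} (f g : Coh.structureModule X ⟶ G)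
    (h : ∀ x : X, ∃ W : X.Opens, x ∈ W ∧
      ap f W (toM (1 : Γ(X, W))) = ap g W (toM (1 : Γ(X, W)))) : f = g := by
  rw [hom_eq_unitHom f, hom_eq_unitHom g]
  congr 1
  choose W hxW hW using h
  refine TopCat.Sheaf.eq_of_locally_eq' ⟨G.presheaf, G.isSheaf⟩ W ⊤ (fun x => homOfLE le_top)
    ?_ _ _ ?_
  · intro x _
    exact Opens.mem_iSup.mpr ⟨x, hxW x⟩
  · intro x
    change rF G le_top (ap f ⊤ (toM 1)) = rF G le_top (ap g ⊤ (toM 1))
    rw [← ap_rF, ← ap_rF]
    have h1 : rF (Coh.structureModule X) (le_top : W x ≤ ⊤) (toM 1) = toM 1 :=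
      map_one (rX le_top)
    rw [h1]
    exact hW x

theorem ap_nsmul_id {G : X.Modules} (d : ℕ) (W : X.Opens) (y : Γ(G, W)) :
    ap (d • 𝟙 G) W y = d • y := by
  have h1 := map_nsmul (QCohFT.secHom G G W) d (𝟙 G)
  have h2 := LinearMap.congr_fun h1 y
  exact h2

theorem strMod_comp_trace (A : RelSpec.QCAlg X) (d : ℕ)
    (hA : FlatMod.IsFinLocFreeOfRank d A.toModule)
    (τ : A.toModule ⟶ Coh.structureModule X) (hτ : FinCov.IsTrace A τ) :
    FinCov.strMod A ≫ τ = d • 𝟙 (Coh.structureModule X) := by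
  apply unit_hom_ext_cover
  intro x
  obtain ⟨U, hxU, ⟨α⟩⟩ := hA x
  obtain ⟨W, hW, hxW, -, t, ht⟩ := exists_affine_bases A.toModule hxU α
  refine ⟨W, hxW, ?_⟩
  obtain ⟨hsp, hli⟩ := ht W le_rfl
  let b : Module.Basis (Fin d) Γ(X, W) Γ(A.toModule, W) := Module.Basis.mk hli hsp.ge
  letI : Algebra Γ(X, W) (A.presheaf.obj (op W)) := (A.str.app (op W)).hom.toAlgebra
  let b' : Module.Basis (Fin d) Γ(X, W) (A.presheaf.obj (op W)) := b
  have hfree : Module.Free Γ(X, W) (A.presheaf.obj (op W)) := Module.Free.of_basis b'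
  have hfin : Module.Finite Γ(X, W) (A.presheaf.obj (op W)) := Module.Finite.of_basis b'
  have h1 := hτ W hW hfree hfin ((A.str.app (op W)).hom 1)
  rw [ap_nsmul_id]
  change (τ.val.app (op W)).hom ((A.str.app (op W)).hom 1) = _
  rw [h1]
  have h2 := Algebra.trace_algebraMap_of_basis b' (1 : Γ(X, W))
  rw [Fintype.card_fin] at h2
  exact h2

end FLFH8
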