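import Mathlib
import Groth.Prelude
import Groth.Agent.Lib.FinCov1_helper8
import Groth.Agent.Lib.FLF8_helper8

/-!
# Kernel of a split epimorphism from a locally free module onto the structure sheaf (helper8)
APPEND-ONLY once landed.
-/

set_option autoImplicit false

namespace FLFH8

open AlgebraicGeometry CategoryTheory CategoryTheory.Limits TopologicalSpace Opposite TensorProduct
open SDivGenH8 SDivFreeH8 QcqsLoc QCohExtn

universe u

variable {X : Scheme.{u}}

/-- Sections of the structure module are functions. -/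
def ofMLin (W : X.Opens) : Γ(Coh.structureModule X, W) ≃ₗ[Γ(X, W)] Γ(X, W) where
  toFun := ofM
  invFun := toM
  map_add' _ _ := rfl
  map_smul' _ _ := rfl
  left_inv _ := rfl
  right_inv _ := rfl

theorem split_sections {F : X.Modules} {d : ℕ}
    (τ : F ⟶ Coh.structureModule X) (σ : Coh.structureModule X ⟶ F)
    (hστ : σ ≫ τ = 𝟙 _) (W : X.Opens)
    (b : Module.Basis (Fin d) Γ(X, W) Γ(F, W)) :
    Module.Finite Γ(X, W) Γ(kernel τ, W) ∧ Module.Projective Γ(X, W) Γ(kernel τ, W) ∧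
      ∀ q : PrimeSpectrum Γ(X, W), Module.rankAtStalk Γ(kernel τ, W) q = d - 1 := by
  set K := kernel τ with hK
  let i : K ⟶ F := kernel.ι τ
  have hpτ : (𝟙 F - τ ≫ σ) ≫ τ = 0 := by
    rw [Preadditive.sub_comp, Category.id_comp, Category.assoc, hστ, Category.comp_id, sub_self]
  let p : F ⟶ K := kernel.lift τ (𝟙 F - τ ≫ σ) hpτ
  have hpi : p ≫ i = 𝟙 F - τ ≫ σ := kernel.lift_ι _ _ _
  have hip : i ≫ p = 𝟙 K := by
    apply (cancel_mono i).mp
    rw [Category.assoc, hpi, Preadditive.comp_sub, Category.comp_id, ← Category.assoc,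
      kernel.condition, zero_comp, sub_zero, Category.id_comp]
  have hσp : σ ≫ p = 0 := by
    apply (cancel_mono i).mp
    rw [Category.assoc, hpi, Preadditive.comp_sub, Category.comp_id, ← Category.assoc, hστ,
      Category.id_comp, sub_self, zero_comp]
  haveI : Module.Free Γ(X, W) Γ(F, W) := Module.Free.of_basis b
  haveI : Module.Finite Γ(X, W) Γ(F, W) := Module.Finite.of_basis b
  let iW : Γ(K, W) →ₗ[Γ(X, W)] Γ(F, W) := QCohFT.secHom K F W i
  let pW : Γ(F, W) →ₗ[Γ(X, W)] Γ(K, W) := QCohFT.secHom F K W p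
  let τW : Γ(F, W) →ₗ[Γ(X, W)] Γ(Coh.structureModule X, W) := QCohFT.secHom _ _ W τ
  let σW : Γ(Coh.structureModule X, W) →ₗ[Γ(X, W)] Γ(F, W) := QCohFT.secHom _ _ W σ
  have h1 : ∀ k, pW (iW k) = k := fun k => congrArg (fun φ => QCohFT.secHom K K W φ k) hip
  have h2 : ∀ a, iW (pW a) = a - σW (τW a) := by
    intro a
    have e1 : QCohFT.secHom F F W (𝟙 F - τ ≫ σ) =
        QCohFT.secHom F F W (𝟙 F) - QCohFT.secHom F F W (τ ≫ σ) := map_sub _ _ _
    have := congrArg (fun φ => QCohFT.secHom F F W φ a) hpi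
    exact this.trans (LinearMap.congr_fun e1 a)
  have h3 : ∀ r, τW (σW r) = r := fun r =>
    congrArg (fun φ => QCohFT.secHom _ _ W φ r) hστ
  have h4 : ∀ k, τW (iW k) = 0 := fun k =>
    congrArg (fun φ => QCohFT.secHom _ _ W φ k) (kernel.condition τ)
  have h5 : ∀ r, pW (σW r) = 0 := fun r =>
    congrArg (fun φ => QCohFT.secHom _ _ W φ r) hσp
  let u := ofMLin (X := X) W
  let e : Γ(F, W) ≃ₗ[Γ(X, W)] Γ(K, W) × Γ(X, W) :=
    LinearEquiv.ofLinearMap (pW.prod (u.toLinearMap ∘ₗ τW))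
      (iW.coprod (σW ∘ₗ u.symm.toLinearMap))
      (by
        apply LinearMap.ext
        rintro ⟨k, r⟩
        apply Prod.ext
        · change pW (iW k + σW (u.symm r)) = k
          rw [map_add, h1, h5, add_zero]
        · change u (τW (iW k + σW (u.symm r))) = r
          rw [map_add, h4, h3, zero_add, LinearEquiv.apply_symm_apply])
      (by
        apply LinearMap.ext
        intro a
        change iW (pW a) + σW (u.symm (u (τW a))) = a
        rw [LinearEquiv.symm_apply_apply, h2, sub_add_cancel])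
  have hsurj : Function.Surjective pW := fun k => ⟨iW k, h1 k⟩
  have hfin : Module.Finite Γ(X, W) Γ(K, W) := Module.Finite.of_surjective pW hsurj
  have hproj : Module.Projective Γ(X, W) Γ(K, W) :=
    Module.Projective.of_split iW pW (LinearMap.ext h1)
  refine ⟨hfin, hproj, fun q => ?_⟩
  haveI : Nontrivial Γ(X, W) :=
    ⟨⟨0, 1, fun h => q.isPrime.ne_top ((Ideal.eq_top_iff_one _).2 (h ▸ q.asIdeal.zero_mem))⟩⟩
  have hr := congrFun (Module.rankAtStalk_eq_of_equiv e) q
  rw [Module.rankAtStalk_prod, Module.rankAtStalk_eq_finrank_of_free] at hr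
  simp only [Module.finrank_eq_card_basis b, Fintype.card_fin, Pi.natCast_apply, Pi.add_apply,
    Module.rankAtStalk_self, Pi.one_apply] at hr
  have hr' : d = Module.rankAtStalk Γ(K, W) q + 1 := by exact_mod_cast hr
  omega

/-- The kernel of a split epimorphism from a locally free module of rank `d` onto the structure
module is locally free of rank `d - 1`. -/
theorem finLocFreeOfRank_kernel_of_split {F : X.Modules} {d : ℕ}
    (hF : FlatMod.IsFinLocFreeOfRank d F)
    (τ : F ⟶ Coh.structureModule X) (σ : Coh.structureModule X ⟶ F)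
    (hστ : σ ≫ τ = 𝟙 _) : FlatMod.IsFinLocFreeOfRank (d - 1) (kernel τ) := by
  have hF' := IsFinLocFreeOfRank.isFinLocFree F hF
  haveI := isQuasicoherent_of_finLocFree F hF'
  haveI : (Coh.structureModule X).IsQuasicoherent := SerreCrit.isQuasicoherent_OO
  have hKq : (kernel τ : X.Modules).IsQuasicoherent := SubExt.isQuasicoherent_kernel τ
  have hsplit := fun (W : X.Opens) (b : Module.Basis (Fin d) Γ(X, W) Γ(F, W)) =>
    split_sections τ σ hστ W b
  change FlatMod.IsFinLocFreeOfRank (d - 1) (kernel τ : X.Modules)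
  generalize (kernel τ : X.Modules) = K at hKq hsplit ⊢
  haveI := hKq
  -- affine opens with a basis of sections of `F` cover `X`
  have hcov : ∀ x : X, ∃ W : X.Opens, IsAffineOpen W ∧ x ∈ W ∧
      Nonempty (Module.Basis (Fin d) Γ(X, W) Γ(F, W)) := by
    intro x
    obtain ⟨U, hxU, ⟨α⟩⟩ := hF x
    obtain ⟨W, hW, hxW, -, t, ht⟩ := exists_affine_bases F hxU α
    obtain ⟨h1, h2⟩ := BasisOn.self F t (ht W le_rfl)
    exact ⟨W, hW, hxW, ⟨Module.Basis.mk h2 h1.ge⟩⟩
  let ι := {W : X.affineOpens // Nonempty (Module.Basis (Fin d) Γ(X, W.1) Γ(F, W.1))}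
  have hcover : ⨆ i : ι, (i.1 : X.affineOpens).1 = ⊤ := by
    rw [eq_top_iff]
    intro x _
    obtain ⟨W, hW, hxW, hb⟩ := hcov x
    exact Opens.mem_iSup.mpr ⟨⟨⟨W, hW⟩, hb⟩, hxW⟩
  haveI : SheafOfModules.IsFinitePresentation (R := X.ringCatSheaf) K := by
    refine QCohFP2.isFinitePresentation_of_sections_cover K
      (fun i : ι => (i.1 : X.affineOpens).1) (fun i => i.1.2) hcover ?_
    rintro ⟨W, ⟨b⟩⟩
    obtain ⟨h1, h2, -⟩ := hsplit W.1 b
    exact Module.finitePresentation_of_projective _ _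
  -- stalks of the kernel are free of rank `d - 1`
  have hst : ∀ y : X, Module.Free (X.presheaf.stalk y) (K.presheaf.stalk y) ∧
      Module.finrank (X.presheaf.stalk y) (K.presheaf.stalk y) = d - 1 := by
    intro y
    obtain ⟨W, hW, hyW, ⟨b⟩⟩ := hcov y
    obtain ⟨h1, h2, h3⟩ := hsplit W b
    haveI : Module.Flat Γ(X, W) Γ(K, W) := inferInstance
    haveI : Module.Flat (X.presheaf.stalk y) (K.presheaf.stalk y) :=
      flat_stalk_of_flat_sections K hW hyW
    haveI : Module.Finite (X.presheaf.stalk y) (K.presheaf.stalk y) :=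
      finite_stalk K y
    refine ⟨Module.free_of_flat_of_isLocalRing, ?_⟩
    rw [← rankAtStalk_sections K hW hyW]
    exact h3 _
  intro x
  obtain ⟨hfree, hrk⟩ := hst x
  haveI : Module.Finite (X.presheaf.stalk x) (K.presheaf.stalk x) :=
    finite_stalk K x
  let γ := Module.finBasisOfFinrankEq (X.presheaf.stalk x) (K.presheaf.stalk x) hrk
  obtain ⟨U, hxU, -, hU⟩ := exists_free_nhd_of_rank K (Opens.mem_top x)
    (⇑γ) γ.span_eq (fun y _ => (hst y).2.ge)
  exact ⟨U, hxU, hU⟩

theorem trace_split (A : RelSpec.QCAlg X) (d : ℕ)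
    (hA : FlatMod.IsFinLocFreeOfRank d A.toModule)
    (τ : A.toModule ⟶ Coh.structureModule X) (hτ : FinCov.IsTrace A τ)
    (hd : IsUnit ((d : Γ(X, ⊤)))) :
    ∃ σ : Coh.structureModule X ⟶ A.toModule, σ ≫ τ = 𝟙 _ := by
  obtain ⟨c, hc⟩ := hd.exists_right_inv
  refine ⟨unitHom (Coh.structureModule X) (toM c) ≫ FinCov.strMod A, ?_⟩
  rw [Category.assoc, strMod_comp_trace A d hA τ hτ, unitHom_comp, ap_nsmul_id]
  refine Eq.trans ?_ (hom_eq_unitHom (𝟙 (Coh.structureModule X))).symm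
  congr 1
  change toM (d • c) = toM 1
  rw [nsmul_eq_mul, hc]

theorem trace_splitEpi_kernel (A : RelSpec.QCAlg X) (d : ℕ)
    (hA : FlatMod.IsFinLocFreeOfRank d A.toModule)
    (τ : A.toModule ⟶ Coh.structureModule X) (hτ : FinCov.IsTrace A τ)
    (hd : IsUnit ((d : Γ(X, ⊤)))) :
    IsSplitEpi τ ∧ FlatMod.IsFinLocFreeOfRank (d - 1) (kernel τ) := by
  obtain ⟨σ, hσ⟩ := trace_split A d hA τ hτ hd
  exact ⟨IsSplitEpi.mk' ⟨σ, hσ⟩, finLocFreeOfRank_kernel_of_split hA τ σ hσ⟩

end FLFH8
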