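import Mathlib
import Groth.Prelude
import Groth.Agent.Lib.FinCov2_helper8
import Groth.Agent.Lib.QCAlgMod_helper9

/-!
# The double algebra `O ⊕ L` is locally free of rank two (helper8)
APPEND-ONLY once landed.
-/

set_option autoImplicit false

namespace FLFH8

open AlgebraicGeometry CategoryTheory CategoryTheory.Limits TopologicalSpace Opposite TensorProduct
open SDivGenH8 SDivFreeH8 QcqsLoc QCohExtn

universe u

variable {X : Scheme.{u}}

/-- An invertible module is locally free of rank one. -/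
theorem finLocFreeOfRank_one_of_isInvertible {L : X.Modules} (hL : PicF.IsInvertible L) :
    FlatMod.IsFinLocFreeOfRank 1 L := by
  intro x
  obtain ⟨U, hxU, ⟨α⟩⟩ := hL x
  exact ⟨U, hxU, ⟨α ≪≫ (coproductUniqueIso
    (fun _ : Fin 1 => Coh.structureModule (U : Scheme.{u}))).symm⟩⟩

/-- Around every point an invertible module has a generating section over an affine open
restricting to a basis over every smaller open. -/
theorem exists_affine_generator {L : X.Modules} (hL : PicF.IsInvertible L) (x : X) :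
    ∃ W : X.Opens, IsAffineOpen W ∧ x ∈ W ∧ ∃ e : Γ(L, W),
      ∀ (O : X.Opens) (hO : O ≤ W), (∀ l : Γ(L, O), ∃ c : Γ(X, O), l = c • rF L hO e) ∧
        ∀ c : Γ(X, O), c • rF L hO e = 0 → c = 0 := by
  obtain ⟨U, hxU, ⟨α⟩⟩ := finLocFreeOfRank_one_of_isInvertible hL x
  obtain ⟨W, hW, hxW, -, t, ht⟩ := exists_affine_bases L hxU α
  refine ⟨W, hW, hxW, t 0, fun O hO => ?_⟩
  obtain ⟨hsp, hli⟩ := ht O hO
  constructor
  · intro l
    have hl : l ∈ Submodule.span Γ(X, O) (Set.range fun j => rF L hO (t j)) := hsp ▸ Submodule.mem_top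
    obtain ⟨c, hc⟩ := (Submodule.mem_span_range_iff_exists_fun _).1 hl
    refine ⟨c 0, ?_⟩
    rw [← hc]
    simp
  · intro c hc
    have := Fintype.linearIndependent_iff.1 hli (fun _ => c) (by simpa using hc) 0
    exact this

open QCAlgMod in
/-- Over an affine open where `L` has a generator `e`, the sections `1, j(e)` form a basis of the
double algebra. -/
theorem dblAlg_basis {L : X.Modules} (m : CohB1.tensorMod L L ⟶ Coh.structureModule X)
    (A : RelSpec.QCAlg X) (j : L ⟶ A.toModule) (h : FinCov.IsDblAlg L m A j)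
    {W : X.Opens} (e : Γ(L, W)) (hsp : ∀ l : Γ(L, W), ∃ c : Γ(X, W), l = c • e)
    (hli : ∀ c : Γ(X, W), c • e = 0 → c = 0) :
    ∃ g : Fin 2 → Γ(A.toModule, W), g 0 = ofB A (1 : A.presheaf.obj (op W)) ∧
      g 1 = ap j W e ∧ Submodule.span Γ(X, W) (Set.range g) = ⊤ ∧
      LinearIndependent Γ(X, W) g := by
  let g : Fin 2 → Γ(A.toModule, W) := ![ofB A (1 : A.presheaf.obj (op W)), ap j W e]
  have hstr : ∀ s : Γ(X, W), ofB A ((A.str.app (op W)).hom s) = s • g 0 := by
    intro s
    change _ = s • ofB A (1 : A.presheaf.obj (op W))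
    have := smul_eq A s (ofB A (1 : A.presheaf.obj (op W)))
    rw [mul_one] at this
    exact this.symm
  have hj : ∀ c : Γ(X, W), ap j W (c • e) = c • g 1 := fun c => ap_smul j c e
  refine ⟨g, rfl, rfl, ?_, ?_⟩
  · rw [eq_top_iff]
    intro a _
    obtain ⟨⟨s, l⟩, hsl⟩ := (h.1 W).2 a
    obtain ⟨c, rfl⟩ := hsp l
    have ha : a = s • g 0 + c • g 1 := by
      rw [← hstr, ← hj]
      exact hsl.symm
    rw [ha]
    exact Submodule.add_mem _ (Submodule.smul_mem _ _ (Submodule.subset_span ⟨0, rfl⟩))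
      (Submodule.smul_mem _ _ (Submodule.subset_span ⟨1, rfl⟩))
  · rw [Fintype.linearIndependent_iff]
    intro c hc
    rw [Fin.sum_univ_two, ← hstr, ← hj] at hc
    have h0 : (fun p : Γ(X, W) × L.val.obj (op W) =>
        (A.str.app (op W)).hom p.1 + FinCov.toSec A ((j.val.app (op W)).hom p.2))
        (c 0, c 1 • e) = (fun p : Γ(X, W) × L.val.obj (op W) =>
        (A.str.app (op W)).hom p.1 + FinCov.toSec A ((j.val.app (op W)).hom p.2)) (0, 0) := by
      refine Eq.trans hc ?_
      simp only [map_zero, zero_add]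
      rfl
    have h1 := (h.1 W).1 h0
    have h2 : c 0 = 0 := congrArg Prod.fst h1
    have h3 : c 1 • e = 0 := congrArg Prod.snd h1
    intro i
    fin_cases i
    · exact h2
    · exact hli _ h3

/-- The double algebra attached to an invertible module is locally free of rank two. -/
theorem dblAlg_finLocFreeOfRank_two {L : X.Modules} (hL : PicF.IsInvertible L)
    (m : CohB1.tensorMod L L ⟶ Coh.structureModule X)
    (A : RelSpec.QCAlg X) (j : L ⟶ A.toModule) (h : FinCov.IsDblAlg L m A j) :
    FlatMod.IsFinLocFreeOfRank 2 A.toModule := by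
  haveI := QCAlgMod.isQuasicoherent_toModule A
  intro x
  obtain ⟨W, hW, hxW, e, he⟩ := exists_affine_generator hL x
  obtain ⟨h1, h2⟩ := he W le_rfl
  rw [SubExt.rF_self] at h1 h2
  obtain ⟨g, -, -, hg, hli⟩ := dblAlg_basis m A j h e h1 h2
  exact ⟨W, hxW, iso_of_basis A.toModule hW g hg hli⟩

end FLFH8
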