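import Mathlib
import Groth.Prelude
import Groth.Agent.Lib.FinCov3_helper8
import Groth.Agent.Lib.SubExt_helper9

/-!
# The generating locus `X_s` of a section of an invertible module (helper8)
APPEND-ONLY once landed.
-/

set_option autoImplicit false

namespace GenLocH8

open AlgebraicGeometry CategoryTheory CategoryTheory.Limits TopologicalSpace Opposite
open QcqsLoc QCohExtn FLFH8

universe u

variable {X : Scheme.{u}}

/-- A morphism restricts to an isomorphism over `V` iff it is bijective on sections over all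
opens contained in `V`. -/
theorem isIso_restrict_iff {F G : X.Modules} (s : F ⟶ G) (V : X.Opens) :
    IsIso ((Scheme.Modules.restrictFunctor V.ι).map s) ↔
      ∀ W : X.Opens, W ≤ V → Function.Bijective (s.app W) := by
  constructor
  · intro h W hW
    have e : V.ι ''ᵁ (V.ι ⁻¹ᵁ W) = W := by
      rw [Scheme.Hom.image_preimage_eq_opensRange_inf]
      simpa using hW
    have h1 : IsIso (((Scheme.Modules.restrictFunctor V.ι).map s).app (V.ι ⁻¹ᵁ W)) := inferInstance
    have h2 : Function.Bijective (s.app (V.ι ''ᵁ (V.ι ⁻¹ᵁ W))) :=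
      (ConcreteCategory.isIso_iff_bijective _).mp h1
    rw [e] at h2
    exact h2
  · intro h
    refine SubExt.isIso_of_bijective _ (fun W => ?_)
    exact h (V.ι ''ᵁ W) (by
      intro x hx
      obtain ⟨y, -, rfl⟩ := hx
      exact y.2)

theorem mem_genLocus_iff (L : X.Modules) (s : Coh.structureModule X ⟶ L) (x : X) :
    x ∈ CohB1.genLocus L s ↔
      ∃ V : X.Opens, x ∈ V ∧ ∀ W : X.Opens, W ≤ V → Function.Bijective (s.app W) := by
  unfold CohB1.genLocus
  rw [Opens.mem_sSup]
  constructor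
  · rintro ⟨V, hV, hx⟩
    exact ⟨V, hx, (isIso_restrict_iff s V).1 hV⟩
  · rintro ⟨V, hx, hV⟩
    exact ⟨V, (isIso_restrict_iff s V).2 hV, hx⟩

/-- A local basis section of `L` over `W`. -/
def IsGen (L : X.Modules) (W : X.Opens) (e : Γ(L, W)) : Prop :=
  ∀ (O : X.Opens) (hO : O ≤ W), (∀ l : Γ(L, O), ∃ c : Γ(X, O), l = c • rF L hO e) ∧
    ∀ c : Γ(X, O), c • rF L hO e = 0 → c = 0

theorem IsGen.res {L : X.Modules} {W : X.Opens} {e : Γ(L, W)} (he : IsGen L W e)
    {W' : X.Opens} (h : W' ≤ W) : IsGen L W' (rF L h e) := by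
  intro O hO
  have := he O (hO.trans h)
  rw [rF_rF]
  exact this

theorem exists_isGen {L : X.Modules} (hL : PicF.IsInvertible L) (x : X) :
    ∃ W : X.Opens, IsAffineOpen W ∧ x ∈ W ∧ ∃ e : Γ(L, W), IsGen L W e :=
  exists_affine_generator hL x

/-- The value of `s` on a section of the structure module over `O ≤ W` in terms of a generator. -/
theorem ap_eq {L : X.Modules} (s : Coh.structureModule X ⟶ L) {W : X.Opens}
    (e : Γ(L, W)) (f : Γ(X, W)) (hf : ap s W (toM 1) = f • e) {O : X.Opens} (hO : O ≤ W)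
    (a : Γ(Coh.structureModule X, O)) :
    ap s O a = (ofM a * rX hO f) • rF L hO e := by
  have h1 : a = ofM a • (toM (1 : Γ(X, O))) := (mul_one (ofM a)).symm
  have h2 : (toM (1 : Γ(X, O))) = rF (Coh.structureModule X) hO (toM (1 : Γ(X, W))) :=
    (map_one (rX hO)).symm
  calc ap s O a = ap s O (ofM a • (toM (1 : Γ(X, O)))) := congrArg _ h1
    _ = ofM a • ap s O (toM (1 : Γ(X, O))) := ap_smul s _ _
    _ = ofM a • ap s O (rF (Coh.structureModule X) hO (toM (1 : Γ(X, W)))) := by rw [← h2]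
    _ = ofM a • rF L hO (ap s W (toM 1)) := by rw [ap_rF]
    _ = ofM a • rF L hO (f • e) := by rw [hf]
    _ = ofM a • (rX hO f • rF L hO e) := by rw [rF_smul]
    _ = (ofM a * rX hO f) • rF L hO e := (mul_smul _ _ _).symm

theorem genLocus_inf_eq_basicOpen {L : X.Modules} (s : Coh.structureModule X ⟶ L) {W : X.Opens}
    (e : Γ(L, W)) (he : IsGen L W e) (f : Γ(X, W)) (hf : ap s W (toM 1) = f • e) :
    CohB1.genLocus L s ⊓ W = X.basicOpen f := by
  apply le_antisymm
  · intro x hx
    obtain ⟨hx1, hxW⟩ := hx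
    obtain ⟨V, hxV, hV⟩ := (mem_genLocus_iff L s x).1 hx1
    have hO : V ⊓ W ≤ W := inf_le_right
    obtain ⟨a, ha⟩ := (hV (V ⊓ W) inf_le_left).2 (rF L hO e)
    have h1 : (ofM a * rX hO f) • rF L hO e = rF L hO e := (ap_eq s e f hf hO a).symm.trans ha
    have h2 : (ofM a * rX hO f - 1) • rF L hO e = 0 := by
      rw [sub_smul, h1, one_smul, sub_self]
    have h3 := (he _ hO).2 _ h2
    have h4 : IsUnit (rX hO f) := IsUnit.of_mul_eq_one _ ((mul_comm _ _).trans (sub_eq_zero.1 h3))
    have h5 : X.basicOpen (rX hO f) = V ⊓ W := Scheme.basicOpen_of_isUnit X h4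
    have h6 : X.basicOpen (rX hO f) = (V ⊓ W) ⊓ X.basicOpen f := Scheme.basicOpen_res X f _
    have h7 : V ⊓ W ≤ X.basicOpen f := by
      rw [← h5, h6]; exact inf_le_right
    exact h7 ⟨hxV, hxW⟩
  · refine le_inf ?_ (X.basicOpen_le f)
    unfold CohB1.genLocus
    refine le_sSup ?_
    show IsIso _
    rw [isIso_restrict_iff]
    intro O hOf
    have hO : O ≤ W := hOf.trans (X.basicOpen_le f)
    have hu : IsUnit (rX hO f) := by
      have h1 : IsUnit (rX (X.basicOpen_le f) f) := X.toRingedSpace.isUnit_res_basicOpen f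
      have h2 : rX hO f = rX hOf (rX (X.basicOpen_le f) f) := (rX_rX _ _ _).symm
      rw [h2]
      exact h1.map _
    obtain ⟨u, hu⟩ := hu
    constructor
    · intro a b hab
      have h1 : (ofM a * rX hO f) • rF L hO e = (ofM b * rX hO f) • rF L hO e := by
        rw [← ap_eq s e f hf hO a, ← ap_eq s e f hf hO b]; exact hab
      have h2 : ((ofM a - ofM b) * rX hO f) • rF L hO e = 0 := by
        rw [sub_mul, sub_smul, h1, sub_self]
      have h3 := (he _ hO).2 _ h2
      rw [← hu] at h3
      have h4 : ofM a - ofM b = 0 := by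
        have := congrArg (· * ((u⁻¹ : (Γ(X, O))ˣ) : Γ(X, O))) h3
        simpa [mul_assoc] using this
      exact sub_eq_zero.1 h4
    · intro l
      obtain ⟨c, hc⟩ := (he _ hO).1 l
      refine ⟨toM (c * ((u⁻¹ : (Γ(X, O))ˣ) : Γ(X, O))), ?_⟩
      refine (ap_eq s e f hf hO _).trans ?_
      rw [hc, ← hu]
      congr 1
      change c * _ * _ = c
      rw [mul_assoc, Units.inv_mul, mul_one]


/-- For an invertible module, the inclusion of the generating locus is affine. -/
theorem isAffineHom_genLocus_ι {L : X.Modules} (hL : PicF.IsInvertible L)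
    (s : Coh.structureModule X ⟶ L) : IsAffineHom (CohB1.genLocus L s).ι := by
  refine isAffineHom_of_forall_exists_isAffineOpen _ (fun x => ?_)
  obtain ⟨W, hW, hxW, e, he⟩ := exists_isGen hL x
  obtain ⟨f, hf⟩ := (he W le_rfl).1 (ap s W (toM 1))
  have hf' : ap s W (toM 1) = f • e := by
    rw [hf]
    congr 1
    exact SubExt.rF_self L le_rfl e
  refine ⟨W, hxW, hW, ?_⟩
  rw [← (CohB1.genLocus L s).ι.isAffineOpen_iff_of_isOpenImmersion,
    Scheme.Hom.image_preimage_eq_opensRange_inf, Scheme.Opens.opensRange_ι,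
    genLocus_inf_eq_basicOpen s e he f hf']
  exact hW.basicOpen f

end GenLocH8
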