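import Mathlib
import Groth.Prelude
import Groth.Agent.Lib.GenLoc_helper8
import Groth.Agent.Lib.PB8_helper8
import Groth.Agent.Lib.FLF6_helper8

/-!
# The generating locus of a pulled-back section (helper8)
APPEND-ONLY once landed.
-/

set_option autoImplicit false

namespace GenLocH8

open AlgebraicGeometry CategoryTheory CategoryTheory.Limits TopologicalSpace Opposite
open QcqsLoc QCohExtn FLFH8 PBH8

universe u

variable {Z S : Scheme.{u}}

theorem preimage_genLocus_le (u : Z ⟶ S) (L : S.Modules)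
    (s : Coh.structureModule S ⟶ L)
    (e : Coh.structureModule Z ≅ (Scheme.Modules.pullback u).obj (Coh.structureModule S)) :
    u ⁻¹ᵁ CohB1.genLocus L s ≤
      CohB1.genLocus ((Scheme.Modules.pullback u).obj L)
        (e.hom ≫ (Scheme.Modules.pullback u).map s) := by
  intro x hx
  have hx' : u.base x ∈ CohB1.genLocus L s := hx
  unfold CohB1.genLocus at hx'
  rw [Opens.mem_sSup] at hx'
  obtain ⟨(V : S.Opens), hV, hxV⟩ := hx'
  have hV' : IsIso ((Scheme.Modules.restrictFunctor V.ι).map s) := hV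
  have hmem : u ⁻¹ᵁ V ∈ {U : Z.Opens | IsIso ((Scheme.Modules.restrictFunctor U.ι).map
      (e.hom ≫ (Scheme.Modules.pullback u).map s))} := by
    show IsIso _
    rw [Functor.map_comp]
    have comm : (u ⁻¹ᵁ V).ι ≫ u = (u ∣_ V) ≫ V.ι := (morphismRestrict_ι u V).symm
    have h1 : IsIso ((Scheme.Modules.restrictFunctor V.ι ⋙ Scheme.Modules.pullback (u ∣_ V)).map s) := by
      show IsIso ((Scheme.Modules.pullback (u ∣_ V)).map ((Scheme.Modules.restrictFunctor V.ι).map s))
      infer_instance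
    have h2 : IsIso ((Scheme.Modules.pullback u ⋙ Scheme.Modules.restrictFunctor (u ⁻¹ᵁ V).ι).map s) :=
      (NatIso.isIso_map_iff (beta u (u ⁻¹ᵁ V).ι V.ι (u ∣_ V) comm) s).2 h1
    have h3 : IsIso ((Scheme.Modules.restrictFunctor (u ⁻¹ᵁ V).ι).map
        ((Scheme.Modules.pullback u).map s)) := h2
    infer_instance
  exact (le_sSup hmem : u ⁻¹ᵁ V ≤ _) hxV


/-- A generator of `L` over an affine open gives a torsion-free generator of the pullback. -/
theorem cUV_gen_torsionFree (u : Z ⟶ S) (L : S.Modules) [L.IsQuasicoherent]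
    {U : Z.Opens} {V : S.Opens} (h : U ≤ u ⁻¹ᵁ V) (hU : IsAffineOpen U) (hV : IsAffineOpen V)
    (e₀ : Γ(L, V)) (he : IsGen L V e₀) (c : Γ(Z, U)) (hc : c • cUV u L h e₀ = 0) : c = 0 := by
  letI := (u.appLE V U h).hom.toAlgebra
  letI mA : Module Γ(S, V) Γ((Scheme.Modules.pullback u).obj L, U) :=
    Module.compHom _ (u.appLE V U h).hom
  haveI : IsScalarTower Γ(S, V) Γ(Z, U) Γ((Scheme.Modules.pullback u).obj L, U) :=
    IsScalarTower.of_algebraMap_smul fun _ _ => rfl
  have hbc := isBaseChange_cUV u L h hU hV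
  -- the coordinate map
  have hself : rF L (le_rfl : V ≤ V) e₀ = e₀ := SubExt.rF_self L le_rfl e₀
  have h0 := he V le_rfl
  rw [hself] at h0
  let ψ : Γ(S, V) →ₗ[Γ(S, V)] Γ(L, V) := LinearMap.toSpanSingleton Γ(S, V) Γ(L, V) e₀
  have hψ : Function.Bijective ψ := by
    constructor
    · rw [injective_iff_map_eq_zero]
      intro a ha
      exact h0.2 a ha
    · intro l
      obtain ⟨a, ha⟩ := h0.1 l
      exact ⟨a, ha.symm⟩
  let ψe : Γ(S, V) ≃ₗ[Γ(S, V)] Γ(L, V) := LinearEquiv.ofBijective ψ hψ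
  have hψ1 : ψe.symm e₀ = 1 := by
    rw [LinearEquiv.symm_apply_eq]
    exact (one_smul _ e₀).symm
  let g : Γ(L, V) →ₗ[Γ(S, V)] Γ(Z, U) := (Algebra.linearMap Γ(S, V) Γ(Z, U)).comp ψe.symm.toLinearMap
  have hg : hbc.lift g (cUVLin u L h e₀) = g e₀ := hbc.lift_eq g e₀
  have hg1 : g e₀ = 1 := by
    show algebraMap Γ(S, V) Γ(Z, U) (ψe.symm e₀) = 1
    rw [hψ1, map_one]
  have h1 : hbc.lift g (c • cUV u L h e₀) = c • hbc.lift g (cUV u L h e₀) := map_smul _ _ _
  rw [hc, map_zero] at h1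
  have h2 : hbc.lift g (cUV u L h e₀) = 1 := hg.trans hg1
  rw [h2, smul_eq_mul, mul_one] at h1
  exact h1.symm


theorem genLocus_pullback_le (u : Z ⟶ S) (L : S.Modules) (hL : PicF.IsInvertible L)
    (s : Coh.structureModule S ⟶ L)
    (e : Coh.structureModule Z ≅ (Scheme.Modules.pullback u).obj (Coh.structureModule S)) :
    CohB1.genLocus ((Scheme.Modules.pullback u).obj L)
        (e.hom ≫ (Scheme.Modules.pullback u).map s) ≤ u ⁻¹ᵁ CohB1.genLocus L s := by
  intro x hx
  haveI : L.IsQuasicoherent :=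
    isQuasicoherent_of_finLocFree L (IsFinLocFreeOfRank.isFinLocFree L (finLocFreeOfRank_one_of_isInvertible hL))
  haveI : (Coh.structureModule S).IsQuasicoherent := SerreCrit.isQuasicoherent_OO
  obtain ⟨W₀, hxW₀, hW₀⟩ := (mem_genLocus_iff _ _ x).1 hx
  obtain ⟨V, hV, hxV, e₀, he⟩ := exists_isGen hL (u.base x)
  obtain ⟨f, hf⟩ := (he V le_rfl).1 (ap s V (toM 1))
  have hf' : ap s V (toM 1) = f • e₀ := by
    rw [hf]; congr 1; exact SubExt.rF_self L le_rfl e₀
  obtain ⟨U, hU, hxU, hUle⟩ : ∃ U : Z.Opens, IsAffineOpen U ∧ x ∈ U ∧ U ≤ W₀ ⊓ u ⁻¹ᵁ V := by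
    have hx' : x ∈ W₀ ⊓ u ⁻¹ᵁ V := ⟨hxW₀, hxV⟩
    obtain ⟨U', hU', hxU', hle⟩ := (Opens.isBasis_iff_nbhd.mp Z.isBasis_affineOpens) hx'
    exact ⟨U', hU', hxU', hle⟩
  have h : U ≤ u ⁻¹ᵁ V := hUle.trans inf_le_right
  have hbij := hW₀ U (hUle.trans inf_le_left)
  have hsurj : Function.Surjective (((Scheme.Modules.pullback u).map s).app U) := by
    intro y
    obtain ⟨z, hz⟩ := hbij.2 y
    exact ⟨e.hom.app U z, hz⟩
  obtain ⟨m, hm⟩ := hsurj (cUV u L h e₀)
  have hspan := span_cUV u (Coh.structureModule S) hU hV h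
  have hm' : m ∈ Submodule.span Γ(Z, U) {cUV u (Coh.structureModule S) h (toM 1)} := by
    have hle : Submodule.span Γ(Z, U) (Set.range (cUV u (Coh.structureModule S) h)) ≤
        Submodule.span Γ(Z, U) {cUV u (Coh.structureModule S) h (toM 1)} := by
      rw [Submodule.span_le]
      rintro _ ⟨a, rfl⟩
      have ha : a = ofM a • toM (1 : Γ(S, V)) := (mul_one (ofM a)).symm
      rw [ha, cUV_smul]
      exact Submodule.smul_mem _ _ (Submodule.subset_span rfl)
    exact hle (hspan ▸ Submodule.mem_top)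
  obtain ⟨b, rfl⟩ := Submodule.mem_span_singleton.1 hm'
  have h1 : ((Scheme.Modules.pullback u).map s).app U
      (b • cUV u (Coh.structureModule S) h (toM 1)) =
      b • ((Scheme.Modules.pullback u).map s).app U (cUV u (Coh.structureModule S) h (toM 1)) :=
    Scheme.Modules.Hom.app_smul _ b _
  rw [h1, cUV_naturality] at hm
  have h1' : s.app V (toM 1) = f • e₀ := hf'
  rw [h1', cUV_smul, ← mul_smul] at hm
  have h3 : b * u.appLE V U h f - 1 = 0 :=
    cUV_gen_torsionFree u L h hU hV e₀ he _ (by rw [sub_smul, hm, one_smul, sub_self])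
  have h4 : IsUnit (u.appLE V U h f) :=
    IsUnit.of_mul_eq_one _ ((mul_comm _ _).trans (sub_eq_zero.1 h3))
  have h5 : Z.basicOpen (u.appLE V U h f) = U := Scheme.basicOpen_of_isUnit Z h4
  rw [Scheme.basicOpen_appLE] at h5
  have h6 : x ∈ U ⊓ u ⁻¹ᵁ S.basicOpen f := by rw [h5]; exact hxU
  have h7 : u.base x ∈ S.basicOpen f := h6.2
  rw [← genLocus_inf_eq_basicOpen s e₀ he f hf'] at h7
  exact h7.1

theorem genLocus_pullback (u : Z ⟶ S) (L : S.Modules) (hL : PicF.IsInvertible L)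
    (s : Coh.structureModule S ⟶ L)
    (e : Coh.structureModule Z ≅ (Scheme.Modules.pullback u).obj (Coh.structureModule S)) :
    CohB1.genLocus ((Scheme.Modules.pullback u).obj L)
        (e.hom ≫ (Scheme.Modules.pullback u).map s) = u ⁻¹ᵁ CohB1.genLocus L s :=
  le_antisymm (genLocus_pullback_le u L hL s e) (preimage_genLocus_le u L s e)

end GenLocH8
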