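import Mathlib
import Groth.Prelude
import Groth.Agent.Lib.QcqsLoc_helper9

/-!
# A criterion for separatedness by affine open covers (helper8)
APPEND-ONLY once landed.
-/

set_option autoImplicit false

namespace SepCritH8

open AlgebraicGeometry CategoryTheory CategoryTheory.Limits TopologicalSpace Opposite
open QcqsLoc

universe u

variable {X S : Scheme.{u}}

theorem rX_self' {W : X.Opens} (h : W ≤ W) (c : Γ(X, W)) : rX h c = c := by
  have h1 : (homOfLE h).op = 𝟙 (op W) := Subsingleton.elim _ _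
  show (X.presheaf.map (homOfLE h).op).hom c = c
  rw [h1, X.presheaf.map_id]
  rfl

theorem surjective_appTop_of_gen {W : Scheme.{u}} {A B C : X.Opens} (hB : A ≤ B) (hC : A ≤ C)
    (h : (A : Scheme.{u}) ⟶ W) (q1 : W ⟶ B) (q2 : W ⟶ C)
    (h1 : h ≫ q1 = X.homOfLE hB) (h2 : h ≫ q2 = X.homOfLE hC)
    (hgen : ∀ c : Γ(X, A), c ∈ Subring.closure (Set.range (rX hB) ∪ Set.range (rX hC))) :
    Function.Surjective h.appTop := by
  have leA : A.ι ''ᵁ ⊤ ≤ A := A.ι_image_top.le
  have geA : A ≤ A.ι ''ᵁ ⊤ := A.ι_image_top.ge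
  let R' : Subring Γ(X, A.ι ''ᵁ ⊤) := (h.appTop.hom.range : Subring Γ(↑A, ⊤))
  have hs : Set.range (rX hB) ∪ Set.range (rX hC) ⊆ R'.comap (rX leA) := by
    rintro _ (⟨a, rfl⟩ | ⟨a, rfl⟩)
    · show rX leA (rX hB a) ∈ R'
      refine ⟨q1.appTop.hom (rX (B.ι_image_top.le) a), ?_⟩
      have e1 : h.appTop.hom (q1.appTop.hom (rX (B.ι_image_top.le) a)) =
          (X.homOfLE hB).appTop.hom (rX (B.ι_image_top.le) a) := by
        rw [← h1]; rfl
      refine e1.trans ?_
      rw [Scheme.homOfLE_appTop]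
      exact (rX_rX _ _ a).trans (rX_rX _ _ a).symm
    · show rX leA (rX hC a) ∈ R'
      refine ⟨q2.appTop.hom (rX (C.ι_image_top.le) a), ?_⟩
      have e1 : h.appTop.hom (q2.appTop.hom (rX (C.ι_image_top.le) a)) =
          (X.homOfLE hC).appTop.hom (rX (C.ι_image_top.le) a) := by
        rw [← h2]; rfl
      refine e1.trans ?_
      rw [Scheme.homOfLE_appTop]
      exact (rX_rX _ _ a).trans (rX_rX _ _ a).symm
  have key : ∀ c : Γ(X, A), rX leA c ∈ R' := fun c =>
    (Subring.closure_le (t := R'.comap (rX leA))).mpr hs (hgen c)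
  intro c'
  have := key (rX geA c')
  rw [rX_rX, rX_self'] at this
  exact this

/-- A morphism to an affine scheme is separated as soon as the source has a cover by affine opens
with affine pairwise intersections whose functions are generated by those of the two opens. -/
theorem isSeparated_of_affine_cover (p : X ⟶ S) [IsAffine S] {ι : Type u} (U : ι → X.Opens)
    (hU : IsOpenCover U) (haff : ∀ i, IsAffineOpen (U i))
    (hint : ∀ i j, IsAffineOpen (U i ⊓ U j))
    (hgen : ∀ i j (c : Γ(X, U i ⊓ U j)), c ∈ Subring.closure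
      (Set.range (rX (inf_le_left : U i ⊓ U j ≤ U i)) ∪
        Set.range (rX (inf_le_right : U i ⊓ U j ≤ U j)))) :
    IsSeparated p := by
  have hfst : ∀ i j : ι, (isPullback_opens_inf (U i) (U j)).isoPullback.hom ≫
      (pullbackDiagonalMapIdIso (U i).ι (U j).ι p).inv ≫ pullback.snd _ _ ≫ pullback.fst _ _ =
        X.homOfLE inf_le_left := by
    intro i j
    rw [pullbackDiagonalMapIdIso_inv_snd_fst]
    exact (isPullback_opens_inf (U i) (U j)).isoPullback_hom_fst
  have hsnd : ∀ i j : ι, (isPullback_opens_inf (U i) (U j)).isoPullback.hom ≫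
      (pullbackDiagonalMapIdIso (U i).ι (U j).ι p).inv ≫ pullback.snd _ _ ≫ pullback.snd _ _ =
        X.homOfLE inf_le_right := by
    intro i j
    rw [pullbackDiagonalMapIdIso_inv_snd_snd]
    exact (isPullback_opens_inf (U i) (U j)).isoPullback_hom_snd
  let 𝒰 : X.OpenCover := X.openCoverOfIsOpenCover U hU
  refine ⟨IsZariskiLocalAtTarget.of_openCover (Scheme.Pullback.openCoverOfLeftRight 𝒰 𝒰 p p) ?_⟩
  rintro ⟨i, j⟩
  dsimp [Scheme.Cover.pullbackHom, 𝒰]
  refine (MorphismProperty.cancel_left_of_respectsIso (P := @IsClosedImmersion)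
    (f := (pullbackDiagonalMapIdIso ..).inv) _).mp ?_
  haveI : ∀ i, IsAffine ↑(U i) := haff
  haveI : IsAffine ↑(U i ⊓ U j) := hint i j
  let e := (isPullback_opens_inf (U i) (U j)).isoPullback
  refine (MorphismProperty.cancel_left_of_respectsIso (P := @IsClosedImmersion) e.hom _).mp ?_
  haveI : IsAffine ((Scheme.Pullback.openCoverOfLeftRight (X.openCoverOfIsOpenCover U hU)
      (X.openCoverOfIsOpenCover U hU) p p).X (i, j)) := by
    show IsAffine (pullback ((U i).ι ≫ p) ((U j).ι ≫ p))
    infer_instance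
  apply IsClosedImmersion.of_surjective_of_isAffine
  refine surjective_appTop_of_gen (inf_le_left : U i ⊓ U j ≤ U i) (inf_le_right : U i ⊓ U j ≤ U j)
    _ (pullback.fst ((U i).ι ≫ p) ((U j).ι ≫ p)) (pullback.snd ((U i).ι ≫ p) ((U j).ι ≫ p))
    ?_ ?_ (hgen i j)
  · simp only [Category.assoc]
    exact hfst i j
  · simp only [Category.assoc]
    exact hsnd i j

end SepCritH8
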