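import Mathlib
import Groth.Prelude
import Groth.Agent.Lib.FinCov3_helper8

/-!
# The kernel of the trace of a double algebra (helper8)
APPEND-ONLY once landed.
-/

set_option autoImplicit false

namespace FLFH8

open AlgebraicGeometry CategoryTheory CategoryTheory.Limits TopologicalSpace Opposite TensorProduct
open SDivGenH8 SDivFreeH8 QcqsLoc QCohExtn

universe u

variable {X : Scheme.{u}}

/-- Two morphisms of modules agreeing on all opens contained in members of a cover are equal. -/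
theorem hom_ext_cover {M N : X.Modules} (f g : M ⟶ N)
    (h : ∀ x : X, ∃ W : X.Opens, x ∈ W ∧ ∀ (O : X.Opens), O ≤ W → ∀ y : Γ(M, O),
      ap f O y = ap g O y) : f = g := by
  choose W hxW hW using h
  apply Scheme.Modules.hom_ext
  intro U
  ext y
  change ap f U y = ap g U y
  refine TopCat.Sheaf.eq_of_locally_eq' ⟨N.presheaf, N.isSheaf⟩ (fun x : U => U ⊓ W x.1) U
    (fun x => homOfLE inf_le_left) ?_ _ _ ?_
  · intro x hx
    exact Opens.mem_iSup.mpr ⟨⟨x, hx⟩, ⟨hx, hxW x⟩⟩
  · intro x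
    change rF N inf_le_left (ap f U y) = rF N inf_le_left (ap g U y)
    rw [← ap_rF, ← ap_rF]
    exact hW x.1 _ inf_le_right _

theorem trace_eq_zero_of_basis_one {R S : Type*} [CommRing R] [CommRing S] [Algebra R S]
    (b : Module.Basis (Fin 2) R S) (h0 : b 0 = 1) (c : R) (h1 : b 1 * b 1 = algebraMap R S c) :
    Algebra.trace R S (b 1) = 0 := by
  rw [Algebra.trace_eq_matrix_trace b, Matrix.trace_fin_two, Algebra.leftMulMatrix_eq_repr_mul,
    Algebra.leftMulMatrix_eq_repr_mul, h0, mul_one, h1, Algebra.algebraMap_eq_smul_one, ← h0,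
    map_smul]
  simp

open QCAlgMod in
theorem j_comp_trace {L : X.Modules} (hL : PicF.IsInvertible L)
    (m : CohB1.tensorMod L L ⟶ Coh.structureModule X)
    (A : RelSpec.QCAlg X) (j : L ⟶ A.toModule) (h : FinCov.IsDblAlg L m A j)
    (τ : A.toModule ⟶ Coh.structureModule X) (hτ : FinCov.IsTrace A τ) : j ≫ τ = 0 := by
  apply hom_ext_cover
  intro x
  obtain ⟨W, hW, hxW, e, he⟩ := exists_affine_generator hL x
  refine ⟨W, hxW, fun O hO y => ?_⟩
  obtain ⟨c, rfl⟩ := (he O hO).1 y
  have key : ap τ W (ap j W e) = 0 := by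
    obtain ⟨h1, h2⟩ := he W le_rfl
    rw [SubExt.rF_self] at h1 h2
    obtain ⟨g, hg0, hg1, hg, hli⟩ := dblAlg_basis m A j h e h1 h2
    let b : Module.Basis (Fin 2) Γ(X, W) Γ(A.toModule, W) := Module.Basis.mk hli hg.ge
    letI : Algebra Γ(X, W) (A.presheaf.obj (op W)) := (A.str.app (op W)).hom.toAlgebra
    let b' : Module.Basis (Fin 2) Γ(X, W) (A.presheaf.obj (op W)) := b
    have hfree : Module.Free Γ(X, W) (A.presheaf.obj (op W)) := Module.Free.of_basis b'
    have hfin : Module.Finite Γ(X, W) (A.presheaf.obj (op W)) := Module.Finite.of_basis b'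
    have hb0 : b' 0 = 1 := by
      have h3 : b 0 = g 0 := Module.Basis.mk_apply hli hg.ge 0
      exact h3.trans hg0
    have hb1 : b' 1 = toB A (ap j W e) := by
      have h3 : b 1 = g 1 := Module.Basis.mk_apply hli hg.ge 1
      exact h3.trans hg1
    have hmul : b' 1 * b' 1 = algebraMap Γ(X, W) (A.presheaf.obj (op W))
        ((m.val.app (op W)).hom (SecTwist.tmul L L W e e)) := by
      rw [hb1]
      exact h.2 W e e
    have h3 := hτ W hW hfree hfin (b' 1)
    rw [trace_eq_zero_of_basis_one b' hb0 _ hmul, hb1] at h3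
    exact h3
  change ap τ O (ap j O (c • rF L hO e)) = 0
  rw [ap_smul, ap_smul, ap_rF, ap_rF, key, map_zero, smul_zero]

theorem trace_eq_zero_iff {L : X.Modules} (hL : PicF.IsInvertible L)
    (m : CohB1.tensorMod L L ⟶ Coh.structureModule X)
    (A : RelSpec.QCAlg X) (j : L ⟶ A.toModule) (h : FinCov.IsDblAlg L m A j)
    (h2 : IsUnit (2 : Γ(X, ⊤)))
    (τ : A.toModule ⟶ Coh.structureModule X) (hτ : FinCov.IsTrace A τ)
    (U : X.Opens) (a : Γ(A.toModule, U)) :
    ap τ U a = 0 ↔ ∃ l : Γ(L, U), ap j U l = a := by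
  have hjτ := j_comp_trace hL m A j h τ hτ
  have hA := dblAlg_finLocFreeOfRank_two hL m A j h
  have hst := strMod_comp_trace A 2 hA τ hτ
  constructor
  · intro ha
    obtain ⟨⟨s, l⟩, hsl⟩ := (h.1 U).2 a
    have hsl' : a = ap (FinCov.strMod A) U (toM s) + ap j U l := hsl.symm
    have h3 : ap τ U a = toM ((2 : Γ(X, U)) * s) := by
      rw [hsl', map_add]
      have e1 : ap τ U (ap (FinCov.strMod A) U (toM s)) =
        ap (FinCov.strMod A ≫ τ) U (toM s) := rfl
      have e2 : ap τ U (ap j U l) = ap (j ≫ τ) U l := rfl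
      rw [e1, e2, hst, hjτ, ap_nsmul_id]
      have e3 : ap (0 : L ⟶ Coh.structureModule X) U l = 0 := rfl
      rw [e3, add_zero]
      change toM ((2 : ℕ) • s) = _
      rw [nsmul_eq_mul]
      rfl
    have h4 : (2 : Γ(X, U)) * s = 0 := by
      have := h3.symm.trans ha
      exact this
    have hu : IsUnit (2 : Γ(X, U)) := by
      have h5 := h2.map (rX (le_top : U ≤ ⊤))
      have h6 : rX (le_top : U ≤ ⊤) (2 : Γ(X, ⊤)) = 2 := map_ofNat _ 2
      rw [h6] at h5
      exact h5
    have hs : s = 0 := (hu.mul_right_eq_zero).1 h4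
    refine ⟨l, ?_⟩
    rw [hsl', hs]
    have e4 : toM (0 : Γ(X, U)) = 0 := rfl
    rw [e4, map_zero, zero_add]
  · rintro ⟨l, rfl⟩
    change ap (j ≫ τ) U l = 0
    rw [hjτ]
    rfl

end FLFH8
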