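import Mathlib
import Groth.Prelude
import Groth.Agent.Lib.FinCov4_helper8

/-!
# Morphisms out of the tensor product of modules from bilinear pairings of sections (helper8)
APPEND-ONLY once landed.
-/

set_option autoImplicit false

namespace FLFH8

open AlgebraicGeometry CategoryTheory CategoryTheory.Limits TopologicalSpace Opposite TensorProduct
open SDivGenH8 SDivFreeH8 QcqsLoc QCohExtn MonoidalCategory

universe u

variable {X : Scheme.{u}}

/-- A bilinear pairing of sections, natural in the open. -/
structure BilinData (M N P : X.Modules) where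
  β : ∀ U : X.Opens, Γ(M, U) → Γ(N, U) → Γ(P, U)
  add_left : ∀ U m m' n, β U (m + m') n = β U m n + β U m' n
  smul_left : ∀ U (r : Γ(X, U)) m n, β U (r • m) n = r • β U m n
  add_right : ∀ U m n n', β U m (n + n') = β U m n + β U m n'
  smul_right : ∀ U (r : Γ(X, U)) m n, β U m (r • n) = r • β U m n
  natural : ∀ {U V : X.Opens} (h : V ≤ U) m n, rF P h (β U m n) = β V (rF M h m) (rF N h n)

variable {M N P : X.Modules} (B : BilinData M N P)

/-- The morphism of presheaves of modules. -/
noncomputable def BilinData.preHom :
    (CohB1.tensorPre M N : X.PresheafOfModules) ⟶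
      (PresheafOfModules.restrictScalars (𝟙 X.ringCatSheaf.obj)).obj P.val where
  app U := ModuleCat.MonoidalCategory.tensorLift (fun m n => B.β U.unop m n)
    (fun m m' n => B.add_left U.unop m m' n) (fun r m n => B.smul_left U.unop r m n)
    (fun m n n' => B.add_right U.unop m n n') (fun r m n => B.smul_right U.unop r m n)
  naturality {U V} f := by
    apply ModuleCat.MonoidalCategory.tensor_ext
    intro m n
    exact (B.natural (leOfHom f.unop) m n).symm

/-- The morphism out of the tensor product defined by a bilinear pairing. -/
noncomputable def BilinData.toHom : CohB1.tensorMod M N ⟶ P :=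
  ((PresheafOfModules.sheafificationAdjunction (𝟙 X.ringCatSheaf.obj)).homEquiv
    (show X.PresheafOfModules from CohB1.tensorPre M N) P).symm B.preHom

theorem BilinData.toHom_tmul (U : X.Opens) (m : M.val.obj (op U)) (n : N.val.obj (op U)) :
    (B.toHom.val.app (op U)).hom (SecTwist.tmul M N U m n) = B.β U m n := by
  have h1 : (PresheafOfModules.sheafificationAdjunction (𝟙 X.ringCatSheaf.obj)).homEquiv
      (show X.PresheafOfModules from CohB1.tensorPre M N) P B.toHom = B.preHom :=
    Equiv.apply_symm_apply _ _
  rw [Adjunction.homEquiv_unit] at h1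
  have h2 := congrArg (fun φ : (CohB1.tensorPre M N : X.PresheafOfModules) ⟶
      (PresheafOfModules.restrictScalars (𝟙 X.ringCatSheaf.obj)).obj P.val =>
    (PresheafOfModules.Hom.app φ (op U)).hom (m ⊗ₜ n)) h1
  exact h2

end FLFH8
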