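import Mathlib
import Groth.Prelude
import Groth.Agent.Lib.GenLoc_helper8
import Groth.Agent.Lib.Bilin_helper8

/-!
# Tensor products of O_X-modules: sections, local structure (helper8)
APPEND-ONLY once landed.
-/

set_option autoImplicit false

namespace TensH8

open AlgebraicGeometry CategoryTheory CategoryTheory.Limits TopologicalSpace Opposite TensorProduct
open QcqsLoc MonoidalCategory

universe u

variable {X : Scheme.{u}} (M N : X.Modules)

/-- The canonical map `M(U) ⊗ N(U) → (M ⊗ N)(U)`. -/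
noncomputable def eta (U : X.Opens) :
    ↥((CohB1.tensorPre M N).obj (op U)) →+ (CohB1.tensorMod M N).val.obj (op U) :=
  ((SecTwist.toTensor M N).app (op U)).hom.toAddMonoidHom

theorem eta_tmul (U : X.Opens) (m : M.val.obj (op U)) (n : N.val.obj (op U)) :
    eta M N U (m ⊗ₜ n) = SecTwist.tmul M N U m n := rfl

theorem tmul_add_left (U : X.Opens) (m m' : M.val.obj (op U)) (n : N.val.obj (op U)) :
    SecTwist.tmul M N U (m + m') n = SecTwist.tmul M N U m n + SecTwist.tmul M N U m' n := by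
  rw [← eta_tmul, ← eta_tmul, ← eta_tmul, ← map_add]
  congr 1
  exact TensorProduct.add_tmul _ _ _

theorem tmul_add_right (U : X.Opens) (m : M.val.obj (op U)) (n n' : N.val.obj (op U)) :
    SecTwist.tmul M N U m (n + n') = SecTwist.tmul M N U m n + SecTwist.tmul M N U m n' := by
  rw [← eta_tmul, ← eta_tmul, ← eta_tmul, ← map_add]
  congr 1
  exact TensorProduct.tmul_add _ _ _

theorem tmul_smul_left (U : X.Opens) (r : Γ(X, U)) (m : Γ(M, U)) (n : Γ(N, U)) :
    SecTwist.tmul M N U (r • m) n = r • (show Γ(CohB1.tensorMod M N, U) from SecTwist.tmul M N U m n) := by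
  have h := (((SecTwist.toTensor M N).app (op U)).hom).map_smul r (m ⊗ₜ n)
  exact h

theorem tmul_smul_right (U : X.Opens) (r : Γ(X, U)) (m : Γ(M, U)) (n : Γ(N, U)) :
    SecTwist.tmul M N U m (r • n) = r • (show Γ(CohB1.tensorMod M N, U) from SecTwist.tmul M N U m n) := by
  have h := (((SecTwist.toTensor M N).app (op U)).hom).map_smul r (m ⊗ₜ n)
  refine Eq.trans ?_ h
  show eta M N U _ = eta M N U _
  congr 1
  exact TensorProduct.tmul_smul (R := ↑((X.sheaf.obj ⋙ forget₂ CommRingCat RingCat).obj (op U)))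
    (R' := ↑((X.sheaf.obj ⋙ forget₂ CommRingCat RingCat).obj (op U))) r _ _

/-- Restriction in the presheaf tensor product. -/
noncomputable def resPre {U V : X.Opens} (h : V ≤ U) :
    ↥((CohB1.tensorPre M N).obj (op U)) →+ ↥((CohB1.tensorPre M N).obj (op V)) :=
  ((CohB1.tensorPre M N).map (homOfLE h).op).hom.toAddMonoidHom

theorem eta_res {U V : X.Opens} (h : V ≤ U) (p : ↥((CohB1.tensorPre M N).obj (op U))) :
    (CohB1.tensorMod M N).val.map (homOfLE h).op (eta M N U p) = eta M N V (resPre M N h p) :=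
  (PresheafOfModules.naturality_apply (SecTwist.toTensor M N) (homOfLE h).op p).symm

theorem eta_locally_surjective {U : X.Opens} (y : (CohB1.tensorMod M N).val.obj (op U)) (x : X)
    (hx : x ∈ U) : ∃ (V : X.Opens) (h : V ≤ U), x ∈ V ∧
      ∃ p : ↥((CohB1.tensorPre M N).obj (op V)),
        eta M N V p = (CohB1.tensorMod M N).val.map (homOfLE h).op y := by
  let P : X.PresheafOfModules := CohB1.tensorPre M N
  have hmem := Presheaf.imageSieve_mem (Opens.grothendieckTopology X)
    (CategoryTheory.toSheafify (Opens.grothendieckTopology X) P.presheaf) (U := op U) y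
  obtain ⟨V, f, ⟨p, hp⟩, hxV⟩ := hmem x hx
  exact ⟨V, leOfHom f, hxV, p, hp⟩

theorem eta_locally_injective {U : X.Opens} (p q : ↥((CohB1.tensorPre M N).obj (op U)))
    (hpq : eta M N U p = eta M N U q) (x : X) (hx : x ∈ U) :
    ∃ (V : X.Opens) (h : V ≤ U), x ∈ V ∧ resPre M N h p = resPre M N h q := by
  let P : X.PresheafOfModules := CohB1.tensorPre M N
  have hmem := Presheaf.equalizerSieve_mem (Opens.grothendieckTopology X)
    (CategoryTheory.toSheafify (Opens.grothendieckTopology X) P.presheaf) (X := op U) p q hpq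
  obtain ⟨V, f, hf, hxV⟩ := hmem x hx
  exact ⟨V, leOfHom f, hxV, hf⟩

theorem resPre_tmul {U V : X.Opens} (h : V ≤ U) (m : M.val.obj (op U)) (n : N.val.obj (op U)) :
    resPre M N h (m ⊗ₜ n) =
      (((rF M h m : M.val.obj (op V)) ⊗ₜ (rF N h n : N.val.obj (op V)) :
        ↥((CohB1.tensorPre M N).obj (op V)))) := by
  rfl

/-- Gluing of sections of a sheaf of modules. -/
theorem glue (F : X.Modules) {ι : Type*} (O : ι → X.Opens) (U : X.Opens) (hle : ∀ i, O i ≤ U)
    (hcov : U ≤ ⨆ i, O i) (s : ∀ i, Γ(F, O i))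
    (hs : ∀ i j, rF F (inf_le_left : O i ⊓ O j ≤ O i) (s i) =
      rF F (inf_le_right : O i ⊓ O j ≤ O j) (s j)) :
    ∃ t : Γ(F, U), ∀ i, rF F (hle i) t = s i := by
  have hcompat : TopCat.Presheaf.IsCompatible F.presheaf O s := fun i j => hs i j
  obtain ⟨t, ht, -⟩ := TopCat.Sheaf.existsUnique_gluing' ⟨F.presheaf, F.isSheaf⟩ O U
    (fun i => homOfLE (hle i)) hcov _ hcompat
  exact ⟨t, ht⟩

section Gen

open GenLocH8

variable (F L : X.Modules) {W : X.Opens} {e : Γ(L, W)} (he : IsGen L W e)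

include he in
theorem coef_exists {O : X.Opens} (hO : O ≤ W) (l : Γ(L, O)) : ∃ c : Γ(X, O), l = c • rF L hO e :=
  (he O hO).1 l

/-- The coefficient of a section of `L` with respect to the generator `e`. -/
noncomputable def coef {O : X.Opens} (hO : O ≤ W) (l : Γ(L, O)) : Γ(X, O) :=
  Classical.choose (coef_exists L he hO l)

theorem coef_spec {O : X.Opens} (hO : O ≤ W) (l : Γ(L, O)) : l = coef L he hO l • rF L hO e :=
  Classical.choose_spec (coef_exists L he hO l)

theorem coef_unique {O : X.Opens} (hO : O ≤ W) (l : Γ(L, O)) (c : Γ(X, O))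
    (h : l = c • rF L hO e) : c = coef L he hO l := by
  have h1 : (c - coef L he hO l) • rF L hO e = 0 := by
    rw [sub_smul, ← h, ← coef_spec L he hO l, sub_self]
  exact sub_eq_zero.1 ((he O hO).2 _ h1)

theorem coef_add {O : X.Opens} (hO : O ≤ W) (l l' : Γ(L, O)) :
    coef L he hO (l + l') = coef L he hO l + coef L he hO l' := by
  symm
  apply coef_unique
  rw [add_smul, ← coef_spec, ← coef_spec]

theorem coef_smul {O : X.Opens} (hO : O ≤ W) (r : Γ(X, O)) (l : Γ(L, O)) :
    coef L he hO (r • l) = r * coef L he hO l := by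
  symm
  apply coef_unique
  rw [mul_smul, ← coef_spec]

theorem coef_gen {O : X.Opens} (hO : O ≤ W) : coef L he hO (rF L hO e) = 1 := by
  symm
  apply coef_unique
  rw [one_smul]

theorem coef_smul_gen {O : X.Opens} (hO : O ≤ W) (c : Γ(X, O)) :
    coef L he hO (c • rF L hO e) = c := by
  symm
  apply coef_unique
  rfl

/-- The pairing `(t, l) ↦ coef(l) • t`. -/
noncomputable def psiFun {O : X.Opens} (hO : O ≤ W) (t : Γ(F, O)) (l : Γ(L, O)) : Γ(F, O) :=
  coef L he hO l • t

theorem psiFun_add_left {O : X.Opens} (hO : O ≤ W) (t t' : Γ(F, O)) (l : Γ(L, O)) :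
    psiFun F L he hO (t + t') l = psiFun F L he hO t l + psiFun F L he hO t' l :=
  smul_add _ _ _

theorem psiFun_smul_left {O : X.Opens} (hO : O ≤ W) (r : Γ(X, O)) (t : Γ(F, O)) (l : Γ(L, O)) :
    psiFun F L he hO (r • t) l = r • psiFun F L he hO t l :=
  smul_comm _ _ _

theorem psiFun_add_right {O : X.Opens} (hO : O ≤ W) (t : Γ(F, O)) (l l' : Γ(L, O)) :
    psiFun F L he hO t (l + l') = psiFun F L he hO t l + psiFun F L he hO t l' := by
  unfold psiFun
  rw [coef_add, add_smul]

theorem psiFun_smul_right {O : X.Opens} (hO : O ≤ W) (r : Γ(X, O)) (t : Γ(F, O)) (l : Γ(L, O)) :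
    psiFun F L he hO t (r • l) = r • psiFun F L he hO t l := by
  unfold psiFun
  rw [coef_smul, mul_smul]

/-- The left inverse of `t ↦ t ⊗ e`. -/
noncomputable def psi {O : X.Opens} (hO : O ≤ W) :
    ((CohB1.tensorPre F L).obj (op O)) ⟶ ((CohB1.toPMod F).obj (op O)) :=
  ModuleCat.MonoidalCategory.tensorLift
    (fun t l => psiFun F L he hO t l)
    (fun t t' l => psiFun_add_left F L he hO t t' l)
    (fun r t l => psiFun_smul_left F L he hO r t l)
    (fun t l l' => psiFun_add_right F L he hO t l l')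
    (fun r t l => psiFun_smul_right F L he hO r t l)

theorem psi_tmul {O : X.Opens} (hO : O ≤ W) (t : F.val.obj (op O)) (l : L.val.obj (op O)) :
    (psi F L he hO).hom (t ⊗ₜ l) = psiFun F L he hO t l := rfl

variable (e) in
/-- `t ↦ t ⊗ e|_O`. -/
noncomputable def phi {O : X.Opens} (hO : O ≤ W) (t : Γ(F, O)) :
    ↥((CohB1.tensorPre F L).obj (op O)) :=
  ((t : F.val.obj (op O)) ⊗ₜ (rF L hO e : L.val.obj (op O)))

theorem psi_phi {O : X.Opens} (hO : O ≤ W) (t : Γ(F, O)) :
    (psi F L he hO).hom (phi F L e hO t) = t := by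
  show psiFun F L he hO t (rF L hO e) = t
  unfold psiFun
  rw [coef_gen, one_smul]

include he in
theorem phi_injective {O : X.Opens} (hO : O ≤ W) : Function.Injective (phi F L e hO) := by
  intro t t' h
  rw [← psi_phi F L he hO t, ← psi_phi F L he hO t', h]

theorem phi_add {O : X.Opens} (hO : O ≤ W) (t t' : Γ(F, O)) :
    phi F L e hO (t + t') = phi F L e hO t + phi F L e hO t' :=
  TensorProduct.add_tmul _ _ _

include he in
theorem phi_surjective {O : X.Opens} (hO : O ≤ W) : Function.Surjective (phi F L e hO) := by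
  intro p
  induction p using TensorProduct.induction_on with
  | zero => exact ⟨0, TensorProduct.zero_tmul _ _⟩
  | tmul t l =>
    refine ⟨coef L he hO l • (show Γ(F, O) from t), ?_⟩
    unfold phi
    have h1 : (l : Γ(L, O)) = coef L he hO l • rF L hO e := coef_spec L he hO l
    conv_rhs => rw [h1]
    exact TensorProduct.smul_tmul (R := ↑((X.sheaf.obj ⋙ forget₂ CommRingCat RingCat).obj (op O)))
      (R' := ↑((X.sheaf.obj ⋙ forget₂ CommRingCat RingCat).obj (op O))) (coef L he hO l) _ _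
  | add p q hp hq =>
    obtain ⟨t, rfl⟩ := hp
    obtain ⟨t', rfl⟩ := hq
    exact ⟨t + t', phi_add F L hO t t'⟩

theorem resPre_phi {O V : X.Opens} (hO : O ≤ W) (h : V ≤ O) (t : Γ(F, O)) :
    resPre F L h (phi F L e hO t) = phi F L e (h.trans hO) (rF F h t) := by
  unfold phi
  rw [resPre_tmul]
  congr 1
  exact rF_rF L h hO e

theorem eta_phi {O : X.Opens} (hO : O ≤ W) (t : Γ(F, O)) :
    eta F L O (phi F L e hO t) = SecTwist.tmul F L O t (rF L hO e) := rfl

include he in
theorem tmulGen_injective {O : X.Opens} (hO : O ≤ W) (t t' : Γ(F, O))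
    (h : SecTwist.tmul F L O t (rF L hO e) = SecTwist.tmul F L O t' (rF L hO e)) : t = t' := by
  apply eq_of_cover F t t'
  intro x hx
  obtain ⟨V, hV, hxV, hres⟩ := eta_locally_injective F L (phi F L e hO t) (phi F L e hO t') h x hx
  refine ⟨V, hV, hxV, ?_⟩
  rw [resPre_phi, resPre_phi] at hres
  exact phi_injective F L he (hV.trans hO) hres

include he in
theorem tmulGen_surjective {O : X.Opens} (hO : O ≤ W) (y : Γ(CohB1.tensorMod F L, O)) :
    ∃ t : Γ(F, O), SecTwist.tmul F L O t (rF L hO e) = y := by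
  have key : ∀ x : O, ∃ (V : X.Opens) (hV : V ≤ O), x.1 ∈ V ∧ ∃ t : Γ(F, V),
      SecTwist.tmul F L V t (rF L (hV.trans hO) e) = rF (CohB1.tensorMod F L) hV y := by
    intro x
    obtain ⟨V, hV, hxV, p, hp⟩ := eta_locally_surjective F L y x.1 x.2
    obtain ⟨t, rfl⟩ := phi_surjective F L he (hV.trans hO) p
    exact ⟨V, hV, hxV, t, hp⟩
  choose V hV hxV t ht using key
  have hcov : O ≤ ⨆ x : O, V x := by
    intro x hx
    exact Opens.mem_iSup.mpr ⟨⟨x, hx⟩, hxV ⟨x, hx⟩⟩
  have hcompat : ∀ i j, rF F (inf_le_left : V i ⊓ V j ≤ V i) (t i) =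
      rF F (inf_le_right : V i ⊓ V j ≤ V j) (t j) := by
    intro i j
    have hij : V i ⊓ V j ≤ W := inf_le_left.trans ((hV i).trans hO)
    apply tmulGen_injective F L he hij
    have h1 : SecTwist.tmul F L (V i ⊓ V j) (rF F inf_le_left (t i)) (rF L hij e) =
        rF (CohB1.tensorMod F L) (inf_le_left.trans (hV i)) y := by
      have := congrArg (rF (CohB1.tensorMod F L) (inf_le_left : V i ⊓ V j ≤ V i)) (ht i)
      rw [rF_rF] at this
      rw [← this]
      have h2 := SecTwist.map_tmul F L (homOfLE (inf_le_left : V i ⊓ V j ≤ V i)) (t i)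
        (rF L ((hV i).trans hO) e)
      refine Eq.trans ?_ h2.symm
      congr 1
      exact (rF_rF L _ _ e).symm
    have h1' : SecTwist.tmul F L (V i ⊓ V j) (rF F inf_le_right (t j)) (rF L hij e) =
        rF (CohB1.tensorMod F L) (inf_le_left.trans (hV i)) y := by
      have := congrArg (rF (CohB1.tensorMod F L) (inf_le_right : V i ⊓ V j ≤ V j)) (ht j)
      rw [rF_rF] at this
      rw [← this]
      have h2 := SecTwist.map_tmul F L (homOfLE (inf_le_right : V i ⊓ V j ≤ V j)) (t j)
        (rF L ((hV j).trans hO) e)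
      refine Eq.trans ?_ h2.symm
      congr 1
      exact (rF_rF L _ _ e).symm
    exact h1.trans h1'.symm
  obtain ⟨T, hT⟩ := glue F V O hV hcov t hcompat
  refine ⟨T, ?_⟩
  apply eq_of_cover (CohB1.tensorMod F L)
  intro x hx
  refine ⟨V ⟨x, hx⟩, hV ⟨x, hx⟩, hxV ⟨x, hx⟩, ?_⟩
  rw [← ht ⟨x, hx⟩, ← hT ⟨x, hx⟩]
  have h2 := SecTwist.map_tmul F L (homOfLE (hV ⟨x, hx⟩)) T (rF L hO e)
  refine h2.trans ?_
  congr 1
  exact rF_rF L _ _ e

end Gen

end TensH8
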