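import Mathlib
import Groth.Prelude
import Groth.Agent.Lib.Tens1_helper8

/-!
# Tensor products with invertible modules: generators, powers (helper8)
APPEND-ONLY once landed.
-/

set_option autoImplicit false

namespace TensH8

open AlgebraicGeometry CategoryTheory CategoryTheory.Limits TopologicalSpace Opposite TensorProduct
open QcqsLoc MonoidalCategory GenLocH8 FLFH8 QCohExtn

universe u

variable {X : Scheme.{u}}

/-- `val s W` in the `ap` form. -/
theorem val_eq_ap {L : X.Modules} (s : Coh.structureModule X ⟶ L) (W : X.Opens) :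
    SecTwist.val s W = ap s W (toM 1) := rfl

theorem rF_tmul (M N : X.Modules) {U V : X.Opens} (h : V ≤ U) (m : Γ(M, U)) (n : Γ(N, U)) :
    rF (CohB1.tensorMod M N) h (SecTwist.tmul M N U m n) =
      SecTwist.tmul M N V (rF M h m) (rF N h n) :=
  SecTwist.map_tmul M N (homOfLE h) m n

theorem tmul_zero_left (M N : X.Modules) (U : X.Opens) (n : Γ(N, U)) :
    SecTwist.tmul M N U (0 : Γ(M, U)) n = (0 : Γ(CohB1.tensorMod M N, U)) := by
  have h := tmul_smul_left M N U (0 : Γ(X, U)) (0 : Γ(M, U)) n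
  rw [zero_smul, zero_smul] at h
  exact h

theorem tmul_zero_right (M N : X.Modules) (U : X.Opens) (m : Γ(M, U)) :
    SecTwist.tmul M N U m (0 : Γ(N, U)) = (0 : Γ(CohB1.tensorMod M N, U)) := by
  have h := tmul_smul_right M N U (0 : Γ(X, U)) m (0 : Γ(N, U))
  rw [zero_smul, zero_smul] at h
  exact h

/-- The tensor product of generators is a generator. -/
theorem isGen_tmul {L L' : X.Modules} {W : X.Opens} {e : Γ(L, W)} {e' : Γ(L', W)}
    (he : IsGen L W e) (he' : IsGen L' W e') :
    IsGen (CohB1.tensorMod L L') W (SecTwist.tmul L L' W e e') := by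
  intro O hO
  rw [rF_tmul]
  constructor
  · intro y
    obtain ⟨t, ht⟩ := tmulGen_surjective L L' he' hO y
    obtain ⟨c, hc⟩ := (he O hO).1 t
    refine ⟨c, ?_⟩
    rw [← ht, hc]
    exact tmul_smul_left L L' O c _ _
  · intro c hc
    have h1 : SecTwist.tmul L L' O (c • rF L hO e) (rF L' hO e') =
        SecTwist.tmul L L' O (0 : Γ(L, O)) (rF L' hO e') := by
      rw [tmul_zero_left]
      exact (tmul_smul_left L L' O c _ _).trans hc
    have h2 := tmulGen_injective L L' he' hO _ _ h1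
    exact (he O hO).2 c h2

theorem isGen_one (W : X.Opens) : IsGen (Coh.structureModule X) W (toM (1 : Γ(X, W))) := by
  intro O hO
  have h1 : rF (Coh.structureModule X) hO (toM (1 : Γ(X, W))) = toM (1 : Γ(X, O)) :=
    map_one (rX hO)
  rw [h1]
  constructor
  · intro l
    exact ⟨ofM l, (mul_one (ofM l)).symm⟩
  · intro c hc
    have : c * 1 = 0 := hc
    rwa [mul_one] at this

theorem rF_lpow (L : X.Modules) {U V : X.Opens} (h : V ≤ U) (e : Γ(L, U)) (n : ℕ) :
    rF (CohB1.tensorPow L n) h (CycCov.lpow L U e n) = CycCov.lpow L V (rF L h e) n := by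
  induction n with
  | zero => exact map_one (rX h)
  | succ n ih =>
    show rF (CohB1.tensorMod (CohB1.tensorPow L n) L) h
      (SecTwist.tmul (CohB1.tensorPow L n) L U (CycCov.lpow L U e n) e) =
      SecTwist.tmul (CohB1.tensorPow L n) L V (CycCov.lpow L V (rF L h e) n) (rF L h e)
    rw [rF_tmul, ih]

theorem lpow_smul (L : X.Modules) (U : X.Opens) (c : Γ(X, U)) (e : Γ(L, U)) (n : ℕ) :
    CycCov.lpow L U (c • e) n =
      c ^ n • (show Γ(CohB1.tensorPow L n, U) from CycCov.lpow L U e n) := by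
  induction n with
  | zero =>
    rw [pow_zero, one_smul]
    rfl
  | succ n ih =>
    show SecTwist.tmul (CohB1.tensorPow L n) L U (CycCov.lpow L U (c • e) n) (c • e) =
      c ^ (n + 1) • (show Γ(CohB1.tensorMod (CohB1.tensorPow L n) L, U) from
        SecTwist.tmul (CohB1.tensorPow L n) L U (CycCov.lpow L U e n) e)
    rw [ih, tmul_smul_left, tmul_smul_right, pow_succ, mul_smul]

theorem isGen_lpow {L : X.Modules} {W : X.Opens} {e : Γ(L, W)} (he : IsGen L W e) (n : ℕ) :
    IsGen (CohB1.tensorPow L n) W (CycCov.lpow L W e n) := by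
  induction n with
  | zero => exact isGen_one W
  | succ n ih => exact isGen_tmul ih he

theorem _root_.GenLocH8.IsGen.exists_coef {L : X.Modules} {W : X.Opens} {e : Γ(L, W)} (he : IsGen L W e)
    (l : Γ(L, W)) : ∃ c : Γ(X, W), l = c • e := by
  obtain ⟨c, hc⟩ := (he W le_rfl).1 l
  rw [SubExt.rF_self] at hc
  exact ⟨c, hc⟩

/-- `X_s ∩ W = D(f)` when `s = f • e` on `W`, in terms of `val`. -/
theorem genLocus_inf_eq {L : X.Modules} (s : Coh.structureModule X ⟶ L) {W : X.Opens}
    {e : Γ(L, W)} (he : IsGen L W e) (f : Γ(X, W)) (hf : SecTwist.val s W = f • e) :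
    CohB1.genLocus L s ⊓ W = X.basicOpen f :=
  genLocus_inf_eq_basicOpen s e he f hf

/-- Two invertible modules have common local generators. -/
theorem exists_isGen₂ {L L' : X.Modules} (hL : PicF.IsInvertible L) (hL' : PicF.IsInvertible L')
    (x : X) : ∃ (W : X.Opens), x ∈ W ∧ ∃ (e : Γ(L, W)) (e' : Γ(L', W)), IsGen L W e ∧ IsGen L' W e' := by
  obtain ⟨W1, -, hx1, e1, he1⟩ := exists_isGen hL x
  obtain ⟨W2, -, hx2, e2, he2⟩ := exists_isGen hL' x
  exact ⟨W1 ⊓ W2, ⟨hx1, hx2⟩, _, _, he1.res inf_le_left, he2.res inf_le_right⟩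

theorem genLocus_tmulHom {L L' : X.Modules} (hL : PicF.IsInvertible L) (hL' : PicF.IsInvertible L')
    (f : Coh.structureModule X ⟶ L) (g : Coh.structureModule X ⟶ L') :
    CohB1.genLocus (CohB1.tensorMod L L') (SecTwist.tmulHom f g) =
      CohB1.genLocus L f ⊓ CohB1.genLocus L' g := by
  ext x
  obtain ⟨W, hxW, e, e', he, he'⟩ := exists_isGen₂ hL hL' x
  obtain ⟨a, ha⟩ := he.exists_coef (SecTwist.val f W)
  obtain ⟨b, hb⟩ := he'.exists_coef (SecTwist.val g W)
  have h1 := genLocus_inf_eq f he a ha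
  have h2 := genLocus_inf_eq g he' b hb
  have hab : SecTwist.val (SecTwist.tmulHom f g) W =
      (a * b) • (show Γ(CohB1.tensorMod L L', W) from SecTwist.tmul L L' W e e') := by
    rw [SecTwist.val_tmulHom, ha, hb, tmul_smul_left, tmul_smul_right, mul_smul]
  have h3 := genLocus_inf_eq (SecTwist.tmulHom f g) (isGen_tmul he he') (a * b) hab
  have h4 : X.basicOpen (a * b) = X.basicOpen a ⊓ X.basicOpen b := Scheme.basicOpen_mul X a b
  constructor
  · intro hx
    have : x ∈ CohB1.genLocus (CohB1.tensorMod L L') (SecTwist.tmulHom f g) ⊓ W := ⟨hx, hxW⟩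
    rw [h3, h4, ← h1, ← h2] at this
    exact ⟨this.1.1, this.2.1⟩
  · intro hx
    have : x ∈ (CohB1.genLocus L f ⊓ W) ⊓ (CohB1.genLocus L' g ⊓ W) := ⟨⟨hx.1, hxW⟩, ⟨hx.2, hxW⟩⟩
    rw [h1, h2, ← h4, ← h3] at this
    exact this.1

end TensH8
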