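import Mathlib
import Groth.Prelude
import Groth.Agent.Lib.Tens2_helper8

/-!
# Twists by sections of invertible modules: annihilation (helper8)
APPEND-ONLY once landed.
-/

set_option autoImplicit false

namespace TensH8

open AlgebraicGeometry CategoryTheory CategoryTheory.Limits TopologicalSpace Opposite TensorProduct
open QcqsLoc MonoidalCategory GenLocH8 FLFH8 QCohExtn

universe u

variable {X : Scheme.{u}}

/-- Generators exist on arbitrarily small affine neighbourhoods. -/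
theorem exists_isGen_le {L : X.Modules} (hL : PicF.IsInvertible L) (x : X) (U : X.Opens)
    (hxU : x ∈ U) : ∃ W : X.Opens, IsAffineOpen W ∧ x ∈ W ∧ W ≤ U ∧ ∃ e : Γ(L, W), IsGen L W e := by
  obtain ⟨W0, -, hxW0, e, he⟩ := exists_isGen hL x
  obtain ⟨_, ⟨W, hW : IsAffineOpen W, rfl⟩, hxW, hWle⟩ :=
    (X.isBasis_affineOpens).exists_subset_of_mem_open (show x ∈ W0 ⊓ U from ⟨hxW0, hxU⟩)
      (W0 ⊓ U).isOpen
  have h1 : W ≤ W0 := fun y hy => (hWle hy).1
  have h2 : W ≤ U := fun y hy => (hWle hy).2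
  exact ⟨W, hW, hxW, h2, rF L h1 e, he.res h1⟩

theorem rF_twist {L : X.Modules} (s : Coh.structureModule X ⟶ L) (n : ℕ) (F : X.Modules)
    {U V : X.Opens} (h : V ≤ U) (t : Γ(F, U)) :
    rF (CohB1.tensorMod F (CohB1.tensorPow L n)) h (SecTwist.twist s n F U t) =
      SecTwist.twist s n F V (rF F h t) :=
  SecTwist.map_twist s n F (homOfLE h) t

theorem twist_eq_of_coef {L : X.Modules} (s : Coh.structureModule X ⟶ L) (n : ℕ) (F : X.Modules)
    {W : X.Opens} (e : Γ(L, W)) (f : Γ(X, W)) (hf : SecTwist.val s W = f • e) (t : Γ(F, W)) :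
    SecTwist.twist s n F W t =
      SecTwist.tmul F (CohB1.tensorPow L n) W (f ^ n • t) (CycCov.lpow L W e n) := by
  show SecTwist.tmul F (CohB1.tensorPow L n) W t (SecTwist.pow s n W) = _
  rw [← CycCov.lpow_val, hf, lpow_smul, tmul_smul_right, tmul_smul_left]

/-- A section vanishing on `U ∩ X_s` is killed by all large twists. -/
theorem twist_eq_zero_of_res_eq_zero {L : X.Modules} (hL : PicF.IsInvertible L)
    (s : Coh.structureModule X ⟶ L) (F : X.Modules) [F.IsQuasicoherent] (U : X.Opens)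
    (hU : IsCompact (U : Set X)) (t : Γ(F, U))
    (ht : rF F (inf_le_left : U ⊓ CohB1.genLocus L s ≤ U) t = 0) :
    ∃ n : ℕ, ∀ m : ℕ, n ≤ m → SecTwist.twist s m F U t = 0 := by
  have key : ∀ x : U, ∃ W : X.Opens, x.1 ∈ W ∧ ∃ (hWU : W ≤ U) (n : ℕ), ∀ m : ℕ, n ≤ m →
      SecTwist.twist s m F W (rF F hWU t) = 0 := by
    intro x
    obtain ⟨W, hW, hxW, hWU, e, he⟩ := exists_isGen_le hL x.1 U x.2
    obtain ⟨f, hf⟩ := he.exists_coef (SecTwist.val s W)
    have h1 := genLocus_inf_eq s he f hf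
    have h2 : X.basicOpen f ≤ U ⊓ CohB1.genLocus L s := by
      rw [← h1]
      exact le_inf (inf_le_right.trans hWU) inf_le_left
    have h3 : F.presheaf.map (homOfLE (X.basicOpen_le f)).op (rF F hWU t) = 0 := by
      have := congrArg (rF F h2) ht
      rw [rF_rF, map_zero] at this
      show rF F (X.basicOpen_le f) (rF F hWU t) = 0
      rw [rF_rF]
      exact this
    obtain ⟨n, hn⟩ := Groth.Agent.Lib.QCohExtH1.exists_pow_smul_eq_zero_of_isCompact F W
      hW.isCompact f (rF F hWU t) h3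
    refine ⟨W, hxW, hWU, n, fun m hm => ?_⟩
    rw [twist_eq_of_coef s m F e f hf, ← Nat.sub_add_cancel hm, pow_add, mul_smul, hn, smul_zero,
      tmul_zero_left]
    rfl
  choose W hxW hWU n hn using key
  obtain ⟨T, hT⟩ := hU.elim_finite_subcover (fun x : U => ((W x : X.Opens) : Set X))
    (fun x => (W x).isOpen) (fun y hy => Set.mem_iUnion.mpr ⟨⟨y, hy⟩, hxW ⟨y, hy⟩⟩)
  refine ⟨T.sup n, fun m hm => ?_⟩
  apply eq_zero_of_cover (CohB1.tensorMod F (CohB1.tensorPow L m))
  intro y hy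
  obtain ⟨x, hxT, hyx⟩ := Set.mem_iUnion₂.mp (hT hy)
  refine ⟨W x, hWU x, hyx, ?_⟩
  rw [rF_twist]
  exact hn x m ((Finset.le_sup hxT).trans hm)

end TensH8
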