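import Mathlib
import Groth.Prelude
import Groth.Agent.Lib.Tens3_helper8

/-!
# Twists by sections of invertible modules: extension (helper8)
APPEND-ONLY once landed.
-/

set_option autoImplicit false

namespace TensH8

open AlgebraicGeometry CategoryTheory CategoryTheory.Limits TopologicalSpace Opposite TensorProduct
open QcqsLoc MonoidalCategory GenLocH8 FLFH8 QCohExtn

universe u

variable {X : Scheme.{u}}

theorem rF_val {L : X.Modules} (s : Coh.structureModule X ⟶ L) {U V : X.Opens} (h : V ≤ U) :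
    rF L h (SecTwist.val s U) = SecTwist.val s V :=
  SecTwist.map_val s (homOfLE h)

theorem val_res_coef {L : X.Modules} (s : Coh.structureModule X ⟶ L) {W : X.Opens} {e : Γ(L, W)}
    {f : Γ(X, W)} (hf : SecTwist.val s W = f • e) {O : X.Opens} (hO : O ≤ W) :
    SecTwist.val s O = rX hO f • rF L hO e := by
  rw [← rF_val s hO, hf, rF_smul]

/-- Uniqueness of coefficients with respect to a generator. -/
theorem IsGen.coef_ext {L : X.Modules} {W : X.Opens} {e : Γ(L, W)} (he : IsGen L W e)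
    {a b : Γ(X, W)} (h : a • e = b • e) : a = b := by
  have h1 : (a - b) • rF L le_rfl e = 0 := by
    rw [SubExt.rF_self, sub_smul, h, sub_self]
  exact sub_eq_zero.1 ((he W le_rfl).2 _ h1)

theorem tmul_congr (M N : X.Modules) (U : X.Opens) {m m' : Γ(M, U)} {n n' : Γ(N, U)} (hm : m = m')
    (hn : n = n') : SecTwist.tmul M N U m n = SecTwist.tmul M N U m' n' := by
  rw [hm, hn]

/-- Extension of twisted sections from `X_s` to `X` (`X` quasi-compact and quasi-separated). -/
theorem exists_twist_extends {L : X.Modules} (hL : PicF.IsInvertible L)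
    (s : Coh.structureModule X ⟶ L) (F : X.Modules) [F.IsQuasicoherent]
    [CompactSpace X] [QuasiSeparatedSpace X] (t : Γ(F, CohB1.genLocus L s)) :
    ∃ n0 : ℕ, ∀ N : ℕ, n0 ≤ N → ∃ t' : Γ(CohB1.tensorMod F (CohB1.tensorPow L N), ⊤),
      rF (CohB1.tensorMod F (CohB1.tensorPow L N)) (le_top : CohB1.genLocus L s ≤ ⊤) t' =
        SecTwist.twist s N F (CohB1.genLocus L s) t := by
  -- local data
  have key : ∀ x : X, ∃ (W : X.Opens), IsAffineOpen W ∧ x ∈ W ∧ ∃ (e : Γ(L, W)) (f : Γ(X, W)),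
      IsGen L W e ∧ SecTwist.val s W = f • e := by
    intro x
    obtain ⟨W, hW, hxW, e, he⟩ := exists_isGen hL x
    obtain ⟨f, hf⟩ := he.exists_coef (SecTwist.val s W)
    exact ⟨W, hW, hxW, e, f, he, hf⟩
  choose W0 hW0 hxW0 e0 f0 he0 hf0 using key
  obtain ⟨T, hT⟩ := isCompact_univ.elim_finite_subcover (fun x : X => ((W0 x : X.Opens) : Set X))
    (fun x => (W0 x).isOpen) (fun y _ => Set.mem_iUnion.mpr ⟨y, hxW0 y⟩)
  -- reindex over the finite type `T`
  let W : T → X.Opens := fun i => W0 i.1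
  have hW : ∀ i, IsAffineOpen (W i) := fun i => hW0 i.1
  let e : ∀ i : T, Γ(L, W i) := fun i => e0 i.1
  let f : ∀ i : T, Γ(X, W i) := fun i => f0 i.1
  have he : ∀ i, IsGen L (W i) (e i) := fun i => he0 i.1
  have hf : ∀ i, SecTwist.val s (W i) = f i • e i := fun i => hf0 i.1
  have hcov : ∀ y : X, ∃ i : T, y ∈ W i := by
    intro y
    obtain ⟨x, hxT, hyx⟩ := Set.mem_iUnion₂.mp (hT (Set.mem_univ y))
    exact ⟨⟨x, hxT⟩, hyx⟩
  have hD : ∀ i, CohB1.genLocus L s ⊓ W i = X.basicOpen (f i) := fun i =>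
    genLocus_inf_eq s (he i) (f i) (hf i)
  have hDW : ∀ i, X.basicOpen (f i) ≤ W i := fun i => X.basicOpen_le (f i)
  have hDs : ∀ i, X.basicOpen (f i) ≤ CohB1.genLocus L s := fun i => by
    rw [← hD i]; exact inf_le_left
  -- step 2: local extensions
  have ext1 : ∀ i, ∃ (n : ℕ) (u : Γ(F, W i)),
      rF F (hDW i) u = rX (hDW i) (f i) ^ n • rF F (hDs i) t := by
    intro i
    obtain ⟨n, m, hm⟩ := surj_of_qcqs F (f i) (hW i).isCompact (hW i).isQuasiSeparated
      (homOfLE (X.basicOpen_le (f i))) rfl (rF F (hDs i) t)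
    exact ⟨n, m, hm.symm⟩
  choose n1 u1 hu1 using ext1
  let n : ℕ := Finset.univ.sup n1
  obtain ⟨u, hu⟩ : ∃ u : ∀ i : T, Γ(F, W i),
      ∀ i, rF F (hDW i) (u i) = rX (hDW i) (f i) ^ n • rF F (hDs i) t := by
    refine ⟨fun i => f i ^ (n - n1 i) • u1 i, fun i => ?_⟩
    have hle : n1 i ≤ n := Finset.le_sup (f := n1) (Finset.mem_univ i)
    show rF F (hDW i) (f i ^ (n - n1 i) • u1 i) = _
    rw [rF_pow_smul, hu1, ← mul_smul, ← pow_add, Nat.sub_add_cancel hle]
  -- step 3: comparison on overlaps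
  have hl : ∀ i j, W i ⊓ W j ≤ W i := fun i j => inf_le_left
  have hr : ∀ i j, W i ⊓ W j ≤ W j := fun i j => inf_le_right
  have hcoef : ∀ i j, ∃ c : Γ(X, W i ⊓ W j), rF L (hr i j) (e j) = c • rF L (hl i j) (e i) :=
    fun i j => ((he i).res (hl i j)).exists_coef _
  choose c hc using hcoef
  have hfc : ∀ i j, rX (hl i j) (f i) = rX (hr i j) (f j) * c i j := by
    intro i j
    apply IsGen.coef_ext ((he i).res (hl i j))
    rw [← val_res_coef s (hf i) (hl i j), val_res_coef s (hf j) (hr i j), hc, mul_smul]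
  have hkill : ∀ i j, ∃ m : ℕ, rX (hl i j) (f i) ^ m •
      (rF F (hl i j) (u i) - c i j ^ n • rF F (hr i j) (u j)) = 0 := by
    intro i j
    have hcomp : IsCompact ((W i ⊓ W j : X.Opens) : Set X) :=
      QuasiSeparatedSpace.inter_isCompact _ _ (W i).isOpen (hW i).isCompact (W j).isOpen
        (hW j).isCompact
    apply Groth.Agent.Lib.QCohExtH1.exists_pow_smul_eq_zero_of_isCompact F _ hcomp
    show rF F (X.basicOpen_le (rX (hl i j) (f i))) _ = 0
    have hZ : X.basicOpen (rX (hl i j) (f i)) = (W i ⊓ W j) ⊓ X.basicOpen (f i) :=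
      basicOpen_rX (hl i j) (f i)
    have hZi : X.basicOpen (rX (hl i j) (f i)) ≤ X.basicOpen (f i) := by
      rw [hZ]; exact inf_le_right
    have hZj : X.basicOpen (rX (hl i j) (f i)) ≤ X.basicOpen (f j) := by
      rw [← hD j]
      exact le_inf (hZi.trans (hDs i)) ((X.basicOpen_le _).trans (hr i j))
    have hZW : X.basicOpen (rX (hl i j) (f i)) ≤ W i ⊓ W j := X.basicOpen_le _
    have h1 : rF F hZW (rF F (hl i j) (u i)) =
        rX (hZi.trans (hDW i)) (f i) ^ n • rF F (hZi.trans (hDs i)) t := by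
      have := congrArg (rF F hZi) (hu i)
      rw [rF_rF, rF_pow_smul, rX_rX, rF_rF] at this
      rw [rF_rF]
      exact this
    have h2 : rF F hZW (rF F (hr i j) (u j)) =
        rX (hZj.trans (hDW j)) (f j) ^ n • rF F (hZi.trans (hDs i)) t := by
      have := congrArg (rF F hZj) (hu j)
      rw [rF_rF, rF_pow_smul, rX_rX, rF_rF] at this
      rw [rF_rF]
      exact this
    have h3 : rX (hZi.trans (hDW i)) (f i) = rX (hZj.trans (hDW j)) (f j) * rX hZW (c i j) := by
      have := congrArg (rX hZW) (hfc i j)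
      rw [map_mul, rX_rX, rX_rX] at this
      exact this
    rw [map_sub, rF_pow_smul, h1, h2, h3, mul_pow, mul_comm, mul_smul, sub_self]
  choose m1 hm1 using hkill
  let m0 : ℕ := Finset.univ.sup (fun p : T × T => m1 p.1 p.2)
  refine ⟨n + m0, fun N hN => ?_⟩
  have hnN : n ≤ N := (Nat.le_add_right n m0).trans hN
  have hm0 : m0 ≤ N - n := by omega
  -- step 4: local sections and their compatibility
  let σ : ∀ i : T, Γ(CohB1.tensorMod F (CohB1.tensorPow L N), W i) := fun i =>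
    SecTwist.tmul F (CohB1.tensorPow L N) (W i) (f i ^ (N - n) • u i) (CycCov.lpow L (W i) (e i) N)
  have hσ : ∀ i j, rF _ (hl i j) (σ i) = rF _ (hr i j) (σ j) := by
    intro i j
    have hmij : m1 i j ≤ N - n :=
      (Finset.le_sup (f := fun p : T × T => m1 p.1 p.2) (Finset.mem_univ (i, j))).trans hm0
    have h1 : rX (hl i j) (f i) ^ (N - n) • rF F (hl i j) (u i) =
        rX (hl i j) (f i) ^ (N - n) • (c i j ^ n • rF F (hr i j) (u j)) := by
      have := hm1 i j
      rw [← sub_eq_zero, ← smul_sub, ← Nat.sub_add_cancel hmij, pow_add, mul_smul, this, smul_zero]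
    show rF (CohB1.tensorMod F (CohB1.tensorPow L N)) (hl i j) (SecTwist.tmul F (CohB1.tensorPow L N) (W i) (f i ^ (N - n) • u i)
        (CycCov.lpow L (W i) (e i) N)) =
      rF (CohB1.tensorMod F (CohB1.tensorPow L N)) (hr i j) (SecTwist.tmul F (CohB1.tensorPow L N) (W j) (f j ^ (N - n) • u j)
        (CycCov.lpow L (W j) (e j) N))
    rw [rF_tmul, rF_tmul, rF_lpow, rF_lpow, hc, lpow_smul, tmul_smul_right, ← tmul_smul_left,
      rF_pow_smul, rF_pow_smul, h1]
    apply tmul_congr _ _ _ _ rfl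
    rw [hfc i j, ← mul_smul, ← mul_smul]
    congr 1
    have hcN : c i j ^ N = c i j ^ (N - n) * c i j ^ n := by
      rw [← pow_add, Nat.sub_add_cancel hnN]
    rw [mul_pow, hcN]
    ring
  obtain ⟨σ0, hσ0⟩ := glue (CohB1.tensorMod F (CohB1.tensorPow L N)) W ⊤ (fun i => le_top)
    (fun y _ => by
      obtain ⟨i, hi⟩ := hcov y
      exact Opens.mem_iSup.mpr ⟨i, hi⟩) σ hσ
  refine ⟨σ0, ?_⟩
  -- step 6: check on `X_s`
  apply eq_of_cover (CohB1.tensorMod F (CohB1.tensorPow L N))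
  intro y hy
  obtain ⟨i, hi⟩ := hcov y
  have hyD : y ∈ X.basicOpen (f i) := by
    rw [← hD i]; exact ⟨hy, hi⟩
  refine ⟨X.basicOpen (f i), hDs i, hyD, ?_⟩
  rw [rF_rF, rF_twist,
    twist_eq_of_coef s N F (rF L (hDW i) (e i)) (rX (hDW i) (f i)) (val_res_coef s (hf i) (hDW i))]
  have h1 : rF (CohB1.tensorMod F (CohB1.tensorPow L N)) (le_top : X.basicOpen (f i) ≤ ⊤) σ0 =
      rF _ (hDW i) (σ i) := by
    rw [← hσ0 i, rF_rF]
  rw [h1]
  show rF (CohB1.tensorMod F (CohB1.tensorPow L N)) (hDW i) (SecTwist.tmul F (CohB1.tensorPow L N) (W i) (f i ^ (N - n) • u i)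
    (CycCov.lpow L (W i) (e i) N)) = _
  rw [rF_tmul, rF_lpow, rF_pow_smul, hu i, ← mul_smul, ← pow_add, Nat.sub_add_cancel hnN]

end TensH8
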