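import Mathlib
import Groth.Prelude
import Groth.Agent.Lib.Tens4_helper8

/-!
# Modules with local generators are invertible (helper8)
APPEND-ONLY once landed.
-/

set_option autoImplicit false

namespace TensH8

open AlgebraicGeometry CategoryTheory CategoryTheory.Limits TopologicalSpace Opposite TensorProduct
open QcqsLoc MonoidalCategory GenLocH8 FLFH8 QCohExtn

universe u

variable {X : Scheme.{u}}

theorem locOnU_of_isGen {M : X.Modules} {W : X.Opens} (hW : IsAffineOpen W) {g : Γ(M, W)}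
    (hg : IsGen M W g) : QCohCrit.LocOnU M W := by
  intro a
  have hloc := hW.isLocalization_basicOpen a
  have hD : X.basicOpen a ≤ W := X.basicOpen_le a
  refine ⟨hloc, fun x m => Scheme.Modules.map_smul _ _ x m, ?_, ?_⟩
  · intro m'
    obtain ⟨c', hc'⟩ := (hg _ hD).1 m'
    letI : Algebra Γ(X, W) Γ(X, X.basicOpen a) := (rX hD).toAlgebra
    obtain ⟨⟨c, ⟨_, n, rfl⟩⟩, hcn⟩ := IsLocalization.surj (Submonoid.powers a) c'
    refine ⟨n, c • g, ?_⟩
    have h1 : rX hD a ^ n * c' = rX hD c := by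
      have : c' * (algebraMap Γ(X, W) Γ(X, X.basicOpen a)) (a ^ n) =
          (algebraMap Γ(X, W) Γ(X, X.basicOpen a)) c := hcn
      rw [mul_comm, map_pow] at this
      exact this
    show rX hD a ^ n • m' = rF M hD (c • g)
    rw [hc', ← mul_smul, h1, rF_smul]
  · intro m hm
    obtain ⟨c, hc⟩ := hg.exists_coef m
    have hm' : rF M hD m = 0 := hm
    rw [hc, rF_smul] at hm'
    have h0 : rX hD c = 0 := (hg _ hD).2 _ hm'
    letI : Algebra Γ(X, W) Γ(X, X.basicOpen a) := (rX hD).toAlgebra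
    have h1 : (algebraMap Γ(X, W) Γ(X, X.basicOpen a)) c =
        (algebraMap Γ(X, W) Γ(X, X.basicOpen a)) 0 := by
      rw [map_zero]; exact h0
    obtain ⟨⟨_, n, rfl⟩, hn⟩ := (IsLocalization.eq_iff_exists (Submonoid.powers a) _).1 h1
    refine ⟨n, ?_⟩
    rw [hc, ← mul_smul]
    have : a ^ n * c = 0 := by simpa using hn
    rw [this, zero_smul]

/-- A module with local generators on affine opens is quasi-coherent. -/
theorem isQuasicoherent_of_gens {M : X.Modules}
    (h : ∀ x : X, ∃ W : X.Opens, IsAffineOpen W ∧ x ∈ W ∧ ∃ g : Γ(M, W), IsGen M W g) :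
    M.IsQuasicoherent := by
  choose W hW hxW g hg using h
  refine QCohCrit.isQuasicoherent_of_locOnU_cover M W hW ?_ (fun x => locOnU_of_isGen (hW x) (hg x))
  rw [eq_top_iff]
  intro x _
  exact Opens.mem_iSup.mpr ⟨x, hxW x⟩

/-- A module with local generators on affine opens is invertible. -/
theorem isInvertible_of_gens {M : X.Modules}
    (h : ∀ x : X, ∃ W : X.Opens, IsAffineOpen W ∧ x ∈ W ∧ ∃ g : Γ(M, W), IsGen M W g) :
    PicF.IsInvertible M := by
  haveI := isQuasicoherent_of_gens h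
  intro x
  obtain ⟨W, hW, hxW, g, hg⟩ := h x
  have hsp : Submodule.span Γ(X, W) (Set.range (fun _ : Fin 1 => g)) = ⊤ := by
    rw [eq_top_iff]
    intro m _
    obtain ⟨c, hc⟩ := hg.exists_coef m
    rw [hc]
    exact Submodule.smul_mem _ _ (Submodule.subset_span ⟨0, rfl⟩)
  have hli : LinearIndependent Γ(X, W) (fun _ : Fin 1 => g) := by
    rw [Fintype.linearIndependent_iff]
    intro c hc i
    have h1 : c 0 • g = 0 := by simpa using hc
    have h2 : c 0 • rF M le_rfl g = 0 := by rw [SubExt.rF_self]; exact h1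
    have h3 := (hg W le_rfl).2 _ h2
    have : i = 0 := Subsingleton.elim _ _
    rw [this]; exact h3
  obtain ⟨α⟩ := iso_of_basis M hW (fun _ : Fin 1 => g) hsp hli
  exact ⟨W, hxW, ⟨α ≪≫ coproductUniqueIso (fun _ : Fin 1 => Coh.structureModule (W : Scheme.{u}))⟩⟩

theorem isInvertible_tensorMod {L L' : X.Modules} (hL : PicF.IsInvertible L)
    (hL' : PicF.IsInvertible L') : PicF.IsInvertible (CohB1.tensorMod L L') := by
  apply isInvertible_of_gens
  intro x
  obtain ⟨W0, hxW0, e, e', he, he'⟩ := exists_isGen₂ hL hL' x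
  obtain ⟨_, ⟨W, hW : IsAffineOpen W, rfl⟩, hxW, hWle⟩ :=
    (X.isBasis_affineOpens).exists_subset_of_mem_open hxW0 W0.isOpen
  have h1 : W ≤ W0 := hWle
  exact ⟨W, hW, hxW, _, isGen_tmul (he.res h1) (he'.res h1)⟩

theorem isInvertible_tensorPow {L : X.Modules} (hL : PicF.IsInvertible L) (n : ℕ) :
    PicF.IsInvertible (CohB1.tensorPow L n) := by
  apply isInvertible_of_gens
  intro x
  obtain ⟨W, hW, hxW, e, he⟩ := exists_isGen hL x
  exact ⟨W, hW, hxW, _, isGen_lpow he n⟩

/-- If `X_s ≤ W` with `W` affine carrying a generator of `L`, then `X_s` is affine. -/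
theorem isAffineOpen_genLocus_of_le {M : X.Modules} (s : Coh.structureModule X ⟶ M) {W : X.Opens}
    (hW : IsAffineOpen W) {g : Γ(M, W)} (hg : IsGen M W g) (hle : CohB1.genLocus M s ≤ W) :
    IsAffineOpen (CohB1.genLocus M s) := by
  obtain ⟨f, hf⟩ := hg.exists_coef (SecTwist.val s W)
  have h1 := genLocus_inf_eq s hg f hf
  rw [inf_eq_left.mpr hle] at h1
  rw [h1]
  exact hW.basicOpen f

theorem affine_genLocus_isBasis {L : X.Modules} (hL : PicF.IsInvertible L)
    (hB : Opens.IsBasis {U : X.Opens | ∃ (n : ℕ) (s : Coh.structureModule X ⟶ CohB1.tensorPow L (n + 1)),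
      U = CohB1.genLocus _ s}) :
    Opens.IsBasis {U : X.Opens | IsAffineOpen U ∧ ∃ (n : ℕ)
      (s : Coh.structureModule X ⟶ CohB1.tensorPow L (n + 1)), U = CohB1.genLocus _ s} := by
  rw [Opens.isBasis_iff_nbhd] at hB ⊢
  intro U x hxU
  obtain ⟨W, hW, hxW, hWU, e, he⟩ := exists_isGen_le hL x U hxU
  obtain ⟨U', ⟨n, s, rfl⟩, hxU', hU'W⟩ := hB hxW
  exact ⟨_, ⟨isAffineOpen_genLocus_of_le s hW (isGen_lpow he (n + 1)) hU'W, n, s, rfl⟩, hxU',
    hU'W.trans hWU⟩

end TensH8
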