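import Mathlib
import Groth.Prelude
import Groth.Agent.Lib.Tens5_helper8

/-!
# Frames: sections of powers of an invertible module via local coefficients (helper8)
APPEND-ONLY once landed.
-/

set_option autoImplicit false

namespace TensH8

open AlgebraicGeometry CategoryTheory CategoryTheory.Limits TopologicalSpace Opposite TensorProduct
open QcqsLoc MonoidalCategory GenLocH8 FLFH8 QCohExtn

universe u

variable {X : Scheme.{u}}

/-- A frame of weight `N` for `M` relative to `L`: a rule turning local generators of `L` into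
local generators of `M`, homogeneous of degree `N`. -/
structure Frame (L M : X.Modules) (N : ℕ) where
  φ : ∀ (W : X.Opens), Γ(L, W) → Γ(M, W)
  isGen : ∀ {W : X.Opens} {e : Γ(L, W)}, IsGen L W e → IsGen M W (φ W e)
  res : ∀ {W W' : X.Opens} (h : W' ≤ W) (e : Γ(L, W)), rF M h (φ W e) = φ W' (rF L h e)
  smul : ∀ (W : X.Opens) (u : Γ(X, W)) (e : Γ(L, W)), φ W (u • e) = u ^ N • φ W e

namespace Frame

variable {L M M' : X.Modules}

/-- The frame of `L^{⊗N}`. -/
noncomputable def pow (L : X.Modules) (N : ℕ) : Frame L (CohB1.tensorPow L N) N where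
  φ W e := CycCov.lpow L W e N
  isGen he := isGen_lpow he N
  res h e := rF_lpow L h e N
  smul W u e := lpow_smul L W u e N

/-- The frame of a tensor product. -/
noncomputable def tensor {a b : ℕ} (Φ : Frame L M a) (Ψ : Frame L M' b) :
    Frame L (CohB1.tensorMod M M') (a + b) where
  φ W e := SecTwist.tmul M M' W (Φ.φ W e) (Ψ.φ W e)
  isGen he := isGen_tmul (Φ.isGen he) (Ψ.isGen he)
  res h e := by rw [rF_tmul, Φ.res, Ψ.res]
  smul W u e := by
    rw [Φ.smul, Ψ.smul, tmul_smul_left, tmul_smul_right, pow_add, mul_smul]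

/-- The frame of a tensor power of a framed module. -/
noncomputable def powOf {a : ℕ} (Φ : Frame L M a) (k : ℕ) : Frame L (CohB1.tensorPow M k) (a * k) where
  φ W e := CycCov.lpow M W (Φ.φ W e) k
  isGen he := isGen_lpow (Φ.isGen he) k
  res h e := by rw [rF_lpow, Φ.res]
  smul W u e := by rw [Φ.smul, lpow_smul, pow_mul]

/-- The frame of the structure sheaf. -/
noncomputable def unit (L : X.Modules) : Frame L (Coh.structureModule X) 0 where
  φ W _ := toM (1 : Γ(X, W))
  isGen _ := isGen_one _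
  res h _ := map_one (rX h)
  smul W u e := by rw [pow_zero, one_smul]

/-- Change of weight along an equality. -/
def cast {N N' : ℕ} (h : N = N') (Φ : Frame L M N) : Frame L M N' where
  φ := Φ.φ
  isGen := Φ.isGen
  res := Φ.res
  smul W u e := by rw [← h]; exact Φ.smul W u e

section Coef

variable {N : ℕ} (Φ : Frame L M N) {U : X.Opens} (σ : Γ(M, U))

/-- The local coefficient of a section with respect to a frame. -/
noncomputable def coefOf (W : X.Opens) (hW : W ≤ U) (e : Γ(L, W)) (he : IsGen L W e) : Γ(X, W) :=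
  Classical.choose ((Φ.isGen he).exists_coef (rF M hW σ))

theorem coefOf_spec (W : X.Opens) (hW : W ≤ U) (e : Γ(L, W)) (he : IsGen L W e) :
    rF M hW σ = Φ.coefOf σ W hW e he • Φ.φ W e :=
  Classical.choose_spec ((Φ.isGen he).exists_coef (rF M hW σ))

theorem coefOf_unique (W : X.Opens) (hW : W ≤ U) (e : Γ(L, W)) (he : IsGen L W e) (c : Γ(X, W))
    (hc : rF M hW σ = c • Φ.φ W e) : c = Φ.coefOf σ W hW e he := by
  apply IsGen.coef_ext (Φ.isGen he)
  rw [← hc, ← coefOf_spec]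

theorem coefOf_res (W : X.Opens) (hW : W ≤ U) (e : Γ(L, W)) (he : IsGen L W e) {W' : X.Opens}
    (h : W' ≤ W) :
    Φ.coefOf σ W' (h.trans hW) (rF L h e) (he.res h) = rX h (Φ.coefOf σ W hW e he) := by
  symm
  apply coefOf_unique
  rw [← Φ.res, ← rF_smul, ← coefOf_spec, rF_rF]

theorem coefOf_change (W : X.Opens) (hW : W ≤ U) (e : Γ(L, W)) (he : IsGen L W e) (u : Γ(X, W))
    (he' : IsGen L W (u • e)) :
    Φ.coefOf σ W hW e he = Φ.coefOf σ W hW (u • e) he' * u ^ N := by
  symm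
  apply coefOf_unique
  rw [mul_smul, ← Φ.smul, ← coefOf_spec]

end Coef

/-- Gluing a section of a framed module from a system of local coefficients. -/
theorem exists_section (hL : PicF.IsInvertible L) {N : ℕ} (Ψ : Frame L M' N) (U : X.Opens)
    (γ : ∀ (W : X.Opens) (_ : W ≤ U) (e : Γ(L, W)) (_ : IsGen L W e), Γ(X, W))
    (hres : ∀ (W : X.Opens) (hW : W ≤ U) (e : Γ(L, W)) (he : IsGen L W e) {W' : X.Opens}
      (h : W' ≤ W), γ W' (h.trans hW) (rF L h e) (he.res h) = rX h (γ W hW e he))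
    (hchange : ∀ (W : X.Opens) (hW : W ≤ U) (e : Γ(L, W)) (he : IsGen L W e) (u : Γ(X, W))
      (he' : IsGen L W (u • e)), γ W hW e he = γ W hW (u • e) he' * u ^ N) :
    ∃ σ : Γ(M', U), ∀ (W : X.Opens) (hW : W ≤ U) (e : Γ(L, W)) (he : IsGen L W e),
      rF M' hW σ = γ W hW e he • Ψ.φ W e := by
  let I := {p : Σ W : X.Opens, Γ(L, W) // p.1 ≤ U ∧ IsGen L p.1 p.2}
  let O : I → X.Opens := fun p => p.1.1
  have hO : ∀ p : I, O p ≤ U := fun p => p.2.1
  let τ : ∀ p : I, Γ(M', O p) := fun p => γ p.1.1 p.2.1 p.1.2 p.2.2 • Ψ.φ p.1.1 p.1.2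
  have hcov : U ≤ ⨆ p : I, O p := by
    intro x hx
    obtain ⟨W, -, hxW, hWU, e, he⟩ := exists_isGen_le hL x U hx
    exact Opens.mem_iSup.mpr ⟨⟨⟨W, e⟩, hWU, he⟩, hxW⟩
  have hcompat : ∀ p q : I, rF M' (inf_le_left : O p ⊓ O q ≤ O p) (τ p) =
      rF M' (inf_le_right : O p ⊓ O q ≤ O q) (τ q) := by
    rintro ⟨⟨W, e⟩, hWU, he⟩ ⟨⟨W', e'⟩, hW'U, he'⟩
    show rF M' (inf_le_left : W ⊓ W' ≤ W) (γ W hWU e he • Ψ.φ W e) =
      rF M' (inf_le_right : W ⊓ W' ≤ W') (γ W' hW'U e' he' • Ψ.φ W' e')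
    have hl : W ⊓ W' ≤ W := inf_le_left
    have hr : W ⊓ W' ≤ W' := inf_le_right
    obtain ⟨u, hu⟩ := (he.res hl).exists_coef (rF L hr e')
    have he2 : IsGen L (W ⊓ W') (u • rF L hl e) := hu ▸ he'.res hr
    rw [rF_smul, rF_smul, Ψ.res, Ψ.res, ← hres W hWU e he hl, ← hres W' hW'U e' he' hr,
      hchange (W ⊓ W') (hl.trans hWU) (rF L hl e) (he.res hl) u he2, mul_smul, ← Ψ.smul]
    have key : ∀ (e2 : Γ(L, W ⊓ W')) (h2 : e2 = u • rF L hl e) (hg : IsGen L (W ⊓ W') e2),
        γ (W ⊓ W') (hl.trans hWU) (u • rF L hl e) he2 • Ψ.φ (W ⊓ W') (u • rF L hl e) =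
          γ (W ⊓ W') (hr.trans hW'U) e2 hg • Ψ.φ (W ⊓ W') e2 := by
      intro e2 h2 hg
      subst h2
      rfl
    exact key _ hu (he'.res hr)
  obtain ⟨σ, hσ⟩ := glue M' O U hO hcov τ hcompat
  exact ⟨σ, fun W hW e he => hσ ⟨⟨W, e⟩, hW, he⟩⟩

end Frame

/-- The compatible family of restrictions of a global section. -/
noncomputable def secFamily (M : X.Modules) (σ : Γ(M, ⊤)) : M.val.sections :=
  PresheafOfModules.sectionsMk (fun U => (rF M (le_top : U.unop ≤ ⊤) σ : M.val.obj (op U.unop)))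
    (fun U V f => by
      change rF M (leOfHom f.unop) (rF M (le_top : U.unop ≤ ⊤) σ) = rF M (le_top : V.unop ≤ ⊤) σ
      exact rF_rF M _ _ σ)

/-- The morphism `O_X ⟶ M` named by a global section. -/
noncomputable def homOfSec (M : X.Modules) (σ : Γ(M, ⊤)) : Coh.structureModule X ⟶ M :=
  M.unitHomEquiv.symm (secFamily M σ)

theorem val_homOfSec (M : X.Modules) (σ : Γ(M, ⊤)) (W : X.Opens) :
    SecTwist.val (homOfSec M σ) W = rF M (le_top : W ≤ ⊤) σ :=
  congrArg (fun τ => τ.val (op W)) (M.unitHomEquiv.apply_symm_apply (secFamily M σ))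

namespace Frame

variable {L M M' : X.Modules}

/-- The local coefficient of a global section given as a morphism. -/
noncomputable def coefHom {N : ℕ} (Φ : Frame L M N) (s : Coh.structureModule X ⟶ M) (W : X.Opens)
    (e : Γ(L, W)) (he : IsGen L W e) : Γ(X, W) :=
  Φ.coefOf (SecTwist.val s ⊤) W le_top e he

theorem coefHom_spec {N : ℕ} (Φ : Frame L M N) (s : Coh.structureModule X ⟶ M) (W : X.Opens)
    (e : Γ(L, W)) (he : IsGen L W e) :
    SecTwist.val s W = Φ.coefHom s W e he • Φ.φ W e := by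
  rw [← rF_val s (le_top : W ≤ ⊤)]
  exact Φ.coefOf_spec (SecTwist.val s ⊤) W le_top e he

theorem coefHom_unique {N : ℕ} (Φ : Frame L M N) (s : Coh.structureModule X ⟶ M) (W : X.Opens)
    (e : Γ(L, W)) (he : IsGen L W e) (c : Γ(X, W)) (hc : SecTwist.val s W = c • Φ.φ W e) :
    c = Φ.coefHom s W e he := by
  apply Φ.coefOf_unique
  rw [rF_val]
  exact hc

theorem coefHom_res {N : ℕ} (Φ : Frame L M N) (s : Coh.structureModule X ⟶ M) (W : X.Opens)
    (e : Γ(L, W)) (he : IsGen L W e) {W' : X.Opens} (h : W' ≤ W) :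
    Φ.coefHom s W' (rF L h e) (he.res h) = rX h (Φ.coefHom s W e he) :=
  Φ.coefOf_res (SecTwist.val s ⊤) W le_top e he h

theorem coefHom_change {N : ℕ} (Φ : Frame L M N) (s : Coh.structureModule X ⟶ M) (W : X.Opens)
    (e : Γ(L, W)) (he : IsGen L W e) (u : Γ(X, W)) (he' : IsGen L W (u • e)) :
    Φ.coefHom s W e he = Φ.coefHom s W (u • e) he' * u ^ N :=
  Φ.coefOf_change (SecTwist.val s ⊤) W le_top e he u he'

theorem genLocus_inf {N : ℕ} (Φ : Frame L M N) (s : Coh.structureModule X ⟶ M) (W : X.Opens)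
    (e : Γ(L, W)) (he : IsGen L W e) :
    CohB1.genLocus M s ⊓ W = X.basicOpen (Φ.coefHom s W e he) :=
  genLocus_inf_eq s (Φ.isGen he) _ (Φ.coefHom_spec s W e he)

/-- Global sections (as morphisms) of a framed module from a system of local coefficients. -/
theorem exists_hom (hL : PicF.IsInvertible L) {N : ℕ} (Ψ : Frame L M' N)
    (γ : ∀ (W : X.Opens) (e : Γ(L, W)) (_ : IsGen L W e), Γ(X, W))
    (hres : ∀ (W : X.Opens) (e : Γ(L, W)) (he : IsGen L W e) {W' : X.Opens}
      (h : W' ≤ W), γ W' (rF L h e) (he.res h) = rX h (γ W e he))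
    (hchange : ∀ (W : X.Opens) (e : Γ(L, W)) (he : IsGen L W e) (u : Γ(X, W))
      (he' : IsGen L W (u • e)), γ W e he = γ W (u • e) he' * u ^ N) :
    ∃ s' : Coh.structureModule X ⟶ M', ∀ (W : X.Opens) (e : Γ(L, W)) (he : IsGen L W e),
      SecTwist.val s' W = γ W e he • Ψ.φ W e := by
  obtain ⟨σ, hσ⟩ := Ψ.exists_section hL ⊤ (fun W _ e he => γ W e he)
    (fun W _ e he _ h => hres W e he h) (fun W _ e he u he' => hchange W e he u he')
  refine ⟨homOfSec M' σ, fun W e he => ?_⟩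
  rw [val_homOfSec]
  exact hσ W le_top e he

end Frame

theorem genLocus_eq_of_local {M M' : X.Modules} (s : Coh.structureModule X ⟶ M)
    (s' : Coh.structureModule X ⟶ M')
    (h : ∀ x : X, ∃ W : X.Opens, x ∈ W ∧ CohB1.genLocus M s ⊓ W = CohB1.genLocus M' s' ⊓ W) :
    CohB1.genLocus M s = CohB1.genLocus M' s' := by
  ext x
  obtain ⟨W, hxW, hW⟩ := h x
  constructor
  · intro hx
    have : x ∈ CohB1.genLocus M s ⊓ W := ⟨hx, hxW⟩
    rw [hW] at this
    exact this.1
  · intro hx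
    have : x ∈ CohB1.genLocus M' s' ⊓ W := ⟨hx, hxW⟩
    rw [← hW] at this
    exact this.1

/-- Transfer of a section to a framed module of weight `a * k`, keeping the generating locus. -/
theorem Frame.transfer_pow {L M M' : X.Modules} (hL : PicF.IsInvertible L) {a N : ℕ}
    (Φ : Frame L M a) (Ψ : Frame L M' N) (k : ℕ) (hk : 0 < k) (hN : N = a * k)
    (s : Coh.structureModule X ⟶ M) :
    ∃ s' : Coh.structureModule X ⟶ M', CohB1.genLocus M' s' = CohB1.genLocus M s := by
  obtain ⟨s', hs'⟩ := Ψ.exists_hom hL (fun W e he => Φ.coefHom s W e he ^ k)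
    (fun W e he W' h => by rw [Φ.coefHom_res s W e he h, map_pow])
    (fun W e he u he' => by
      rw [Φ.coefHom_change s W e he u he', mul_pow, hN, pow_mul])
  refine ⟨s', genLocus_eq_of_local s' s (fun x => ?_)⟩
  obtain ⟨W, -, hxW, e, he⟩ := exists_isGen hL x
  refine ⟨W, hxW, ?_⟩
  have h1 : Ψ.coefHom s' W e he = Φ.coefHom s W e he ^ k :=
    (Ψ.coefHom_unique s' W e he _ (hs' W e he)).symm
  rw [Ψ.genLocus_inf s' W e he, Φ.genLocus_inf s W e he, h1]
  exact Scheme.basicOpen_pow X _ hk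

end TensH8
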