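import Mathlib
import Groth.Prelude
import Groth.Agent.Lib.Tens6_helper8

/-!
# Frames under restriction to open subschemes; ampleness of framed modules (helper8)
APPEND-ONLY once landed.
-/

set_option autoImplicit false

namespace TensH8

open AlgebraicGeometry CategoryTheory CategoryTheory.Limits TopologicalSpace Opposite TensorProduct
open QcqsLoc MonoidalCategory GenLocH8 FLFH8 QCohExtn

universe u

variable {X : Scheme.{u}}

/-- Ampleness passes between an invertible module and a framed module of positive weight. -/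
theorem isAmple_iff_of_frame {L M : X.Modules} (hL : PicF.IsInvertible L) {n : ℕ} (hn : 0 < n)
    (Φ : Frame L M n) : CohB1.IsAmple L ↔ CohB1.IsAmple M := by
  have hM : PicF.IsInvertible M := by
    apply isInvertible_of_gens
    intro x
    obtain ⟨W, hW, hxW, e, he⟩ := exists_isGen hL x
    exact ⟨W, hW, hxW, _, Φ.isGen he⟩
  constructor
  · rintro ⟨_, hc, h⟩
    refine ⟨hM, hc, fun x => ?_⟩
    obtain ⟨k, s, hxs, haff⟩ := h x
    obtain ⟨s', hs'⟩ := Frame.transfer_pow hL (Frame.pow L (k + 1))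
      (Φ.powOf (k + 1)) n hn (Nat.mul_comm n (k + 1)) s
    exact ⟨k, s', hs' ▸ hxs, hs' ▸ haff⟩
  · rintro ⟨_, hc, h⟩
    refine ⟨hL, hc, fun x => ?_⟩
    obtain ⟨k, s, hxs, haff⟩ := h x
    have hpos : 0 < n * (k + 1) := Nat.mul_pos hn (Nat.succ_pos k)
    obtain ⟨s', hs'⟩ := Frame.transfer_pow hL (Φ.powOf (k + 1))
      (Frame.pow L (n * (k + 1) - 1 + 1)) 1 Nat.one_pos (by omega) s
    exact ⟨n * (k + 1) - 1, s', hs' ▸ hxs, hs' ▸ haff⟩

section Restrict

variable {U : Scheme.{u}} (j : U ⟶ X) [IsOpenImmersion j]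

theorem rF_restrict (M : X.Modules) {W W' : U.Opens} (h : W' ≤ W) (m : Γ(M.restrict j, W)) :
    rF (M.restrict j) h m =
      rF M (show j ''ᵁ W' ≤ j ''ᵁ W from (j.opensFunctor.map (homOfLE h)).le) m := rfl

theorem smul_restrict (M : X.Modules) {W : U.Opens} (c : Γ(U, W)) (m : Γ(M.restrict j, W)) :
    c • m = ((j.appIso W).inv.hom c) • (show Γ(M, j ''ᵁ W) from m) := rfl

theorem exists_eq_image {W : U.Opens} {O : X.Opens} (hO : O ≤ j ''ᵁ W) :
    ∃ O' : U.Opens, O' ≤ W ∧ O = j ''ᵁ O' := by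
  refine ⟨j ⁻¹ᵁ O, ?_, ?_⟩
  · rw [← j.image_le_image_iff, j.image_preimage_eq_opensRange_inf]
    exact inf_le_right.trans hO
  · rw [j.image_preimage_eq_opensRange_inf]
    exact (inf_eq_right.mpr (hO.trans (j.image_le_opensRange W))).symm

theorem appIso_inv_hom (W : U.Opens) (c : Γ(X, j ''ᵁ W)) :
    (j.appIso W).inv.hom ((j.appIso W).hom.hom c) = c := by
  change ((j.appIso W).hom ≫ (j.appIso W).inv).hom c = c
  rw [Iso.hom_inv_id]
  rfl

theorem appIso_hom_inv (W : U.Opens) (c : Γ(U, W)) :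
    (j.appIso W).hom.hom ((j.appIso W).inv.hom c) = c := by
  change ((j.appIso W).inv ≫ (j.appIso W).hom).hom c = c
  rw [Iso.inv_hom_id]
  rfl

theorem isGen_of_restrict (M : X.Modules) {W : U.Opens} (g : Γ(M.restrict j, W))
    (h : IsGen (M.restrict j) W g) : IsGen M (j ''ᵁ W) (show Γ(M, j ''ᵁ W) from g) := by
  intro O hO
  obtain ⟨O', hO', rfl⟩ := exists_eq_image j hO
  obtain ⟨h1, h2⟩ := h O' hO'
  constructor
  · intro l
    obtain ⟨c, hc⟩ := h1 l
    exact ⟨(j.appIso O').inv.hom c, hc⟩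
  · intro c hc
    have h3 := h2 ((j.appIso O').hom.hom c) (by
      rw [smul_restrict, appIso_inv_hom]
      exact hc)
    have := congrArg (j.appIso O').inv.hom h3
    rw [appIso_inv_hom, map_zero] at this
    exact this

theorem isGen_restrict (M : X.Modules) {W : U.Opens} (g : Γ(M, j ''ᵁ W))
    (h : IsGen M (j ''ᵁ W) g) : IsGen (M.restrict j) W (show Γ(M.restrict j, W) from g) := by
  intro O' hO'
  have hO : j ''ᵁ O' ≤ j ''ᵁ W := (j.image_le_image_iff _ _).mpr hO'
  obtain ⟨h1, h2⟩ := h (j ''ᵁ O') hO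
  constructor
  · intro l
    obtain ⟨c, hc⟩ := h1 l
    refine ⟨(j.appIso O').hom.hom c, ?_⟩
    rw [smul_restrict, appIso_inv_hom]
    exact hc
  · intro c hc
    have h3 := h2 ((j.appIso O').inv.hom c) hc
    have := congrArg (j.appIso O').hom.hom h3
    rw [appIso_hom_inv, map_zero] at this
    exact this

/-- The restricted frame function. -/
noncomputable def Frame.restrictφ {L M : X.Modules} {N : ℕ} (Φ : Frame L M N) (W : U.Opens)
    (e : Γ(L.restrict j, W)) : Γ(M.restrict j, W) :=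
  (show Γ(M.restrict j, W) from Φ.φ (j ''ᵁ W) (show Γ(L, j ''ᵁ W) from e))

theorem Frame.restrictφ_isGen {L M : X.Modules} {N : ℕ} (Φ : Frame L M N) {W : U.Opens}
    {e : Γ(L.restrict j, W)} (he : IsGen (L.restrict j) W e) :
    IsGen (M.restrict j) W (Φ.restrictφ j W e) :=
  isGen_restrict j M _ (Φ.isGen (isGen_of_restrict j L e he))

theorem Frame.restrictφ_res {L M : X.Modules} {N : ℕ} (Φ : Frame L M N) {W W' : U.Opens}
    (h : W' ≤ W) (e : Γ(L.restrict j, W)) :
    rF (M.restrict j) h (Φ.restrictφ j W e) = Φ.restrictφ j W' (rF (L.restrict j) h e) :=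
  Φ.res (show j ''ᵁ W' ≤ j ''ᵁ W from (j.opensFunctor.map (homOfLE h)).le)
    (show Γ(L, j ''ᵁ W) from e)

theorem Frame.restrictφ_smul {L M : X.Modules} {N : ℕ} (Φ : Frame L M N) (W : U.Opens)
    (u : Γ(U, W)) (e : Γ(L.restrict j, W)) :
    Φ.restrictφ j W (u • e) = u ^ N • Φ.restrictφ j W e := by
  have h1 := Φ.smul (j ''ᵁ W) ((j.appIso W).inv.hom u) (show Γ(L, j ''ᵁ W) from e)
  rw [← map_pow] at h1
  exact h1

/-- Restriction of a frame to an open subscheme. -/
noncomputable def Frame.restrict {L M : X.Modules} {N : ℕ} (Φ : Frame L M N) :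
    Frame (L.restrict j) (M.restrict j) N where
  φ W e := Φ.restrictφ j W e
  isGen he := Φ.restrictφ_isGen j he
  res h e := Φ.restrictφ_res j h e
  smul W u e := Φ.restrictφ_smul j W u e

theorem isInvertible_restrict {L : X.Modules} (hL : PicF.IsInvertible L) :
    PicF.IsInvertible (L.restrict j) := by
  apply isInvertible_of_gens
  intro y
  obtain ⟨W0, hW0, hyW0, hle, e, he⟩ := exists_isGen_le hL (j y) j.opensRange ⟨y, rfl⟩
  have hle' : W0 ≤ j ''ᵁ ⊤ := by
    rw [Scheme.Hom.image_top_eq_opensRange]; exact hle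
  obtain ⟨W', -, rfl⟩ := exists_eq_image j hle'
  refine ⟨W', (j.isAffineOpen_iff_of_isOpenImmersion).mp hW0, ?_, _, isGen_restrict j L e he⟩
  obtain ⟨y', hy', hyy'⟩ := hyW0
  have : y' = y := j.isOpenEmbedding.injective hyy'
  rw [← this]; exact hy'

end Restrict

/-- Relative ampleness passes between an invertible module and a framed module of positive
weight. -/
theorem isRelAmple_iff_of_frame {S : Scheme.{u}} (f : X ⟶ S) {L M : X.Modules}
    (hL : PicF.IsInvertible L) {n : ℕ} (hn : 0 < n) (Φ : Frame L M n) :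
    RelAmple.IsRelAmple f L ↔ RelAmple.IsRelAmple f M := by
  unfold RelAmple.IsRelAmple
  refine and_congr Iff.rfl (forall_congr' fun V => ?_)
  exact isAmple_iff_of_frame (isInvertible_restrict _ hL) hn (Φ.restrict _)

end TensH8
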