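import Mathlib
import Groth.Prelude
import Groth.Agent.Lib.Tens7_helper8

/-!
# Ample invertible modules: quasi-separatedness, the opens `X_s` form a basis (helper8)
APPEND-ONLY once landed.
-/

set_option autoImplicit false

namespace TensH8

open AlgebraicGeometry CategoryTheory CategoryTheory.Limits TopologicalSpace Opposite TensorProduct
open QcqsLoc MonoidalCategory GenLocH8 FLFH8 QCohExtn

universe u

variable {X : Scheme.{u}}

theorem isQuasicoherent_structureModule : (Coh.structureModule X).IsQuasicoherent := by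
  apply isQuasicoherent_of_gens
  intro x
  obtain ⟨_, ⟨W, hW : IsAffineOpen W, rfl⟩, hxW, -⟩ :=
    (X.isBasis_affineOpens).exists_subset_of_mem_open (Set.mem_univ x) isOpen_univ
  exact ⟨W, hW, hxW, _, isGen_one W⟩

/-- If every point lies in an affine `X_s`, then `X` is quasi-separated. -/
theorem quasiSeparatedSpace_of_affine_genLocus {L : X.Modules} (hL : PicF.IsInvertible L)
    (h : ∀ x : X, ∃ (n : ℕ) (s : Coh.structureModule X ⟶ CohB1.tensorPow L (n + 1)),
      x ∈ CohB1.genLocus _ s ∧ IsAffineOpen (CohB1.genLocus _ s)) :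
    QuasiSeparatedSpace X := by
  choose n s hxs haff using h
  refine Scheme.quasiSeparatedSpace_of_isOpenCover (fun x : X => CohB1.genLocus _ (s x)) ?_ haff ?_
  · rw [IsOpenCover, eq_top_iff]
    intro x _
    exact Opens.mem_iSup.mpr ⟨x, hxs x⟩
  · intro x y
    haveI : IsAffineHom (CohB1.genLocus _ (s y)).ι :=
      isAffineHom_genLocus_ι (isInvertible_tensorPow hL (n y + 1)) (s y)
    have h1 : IsAffineOpen ((CohB1.genLocus _ (s y)).ι ⁻¹ᵁ (CohB1.genLocus _ (s x))) :=
      (haff x).preimage _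
    have h2 := h1.image_of_isOpenImmersion (CohB1.genLocus _ (s y)).ι
    rw [Scheme.Hom.image_preimage_eq_opensRange_inf, Scheme.Opens.opensRange_ι] at h2
    have h3 := h2.isCompact
    rw [inf_comm] at h3
    exact h3

theorem opens_eq_of_local {A B : X.Opens}
    (h : ∀ x : X, ∃ W : X.Opens, x ∈ W ∧ A ⊓ W = B ⊓ W) : A = B := by
  ext x
  obtain ⟨W, hxW, hW⟩ := h x
  constructor
  · intro hx
    have : x ∈ A ⊓ W := ⟨hx, hxW⟩
    rw [hW] at this
    exact this.1
  · intro hx
    have : x ∈ B ⊓ W := ⟨hx, hxW⟩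
    rw [← hW] at this
    exact this.1

theorem isInvertible_of_frame {L M : X.Modules} (hL : PicF.IsInvertible L) {a : ℕ}
    (Φ : Frame L M a) : PicF.IsInvertible M := by
  apply isInvertible_of_gens
  intro x
  obtain ⟨W, hW, hxW, e, he⟩ := exists_isGen hL x
  exact ⟨W, hW, hxW, _, Φ.isGen he⟩

/-- On a quasi-compact quasi-separated scheme, every basic open `D(g)` of `X_s`
(`g ∈ Γ(X_s, O_X)`) is of the form `X_{s''}` for sections `s''` of framed modules of all
sufficiently large suitable weights. -/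
theorem exists_hom_genLocus_eq_basicOpen {L M : X.Modules} (hL : PicF.IsInvertible L)
    [CompactSpace X] [QuasiSeparatedSpace X] {a : ℕ} (Φ : Frame L M a)
    (s : Coh.structureModule X ⟶ M) (g : Γ(X, CohB1.genLocus M s)) :
    ∃ N0 : ℕ, ∀ N : ℕ, N0 ≤ N → ∀ {M' : X.Modules} {b : ℕ} (Ψ : Frame L M' b), b = a * N + a →
      ∃ s'' : Coh.structureModule X ⟶ M', CohB1.genLocus M' s'' = X.basicOpen g := by
  have hM : PicF.IsInvertible M := isInvertible_of_frame hL Φ
  haveI := isQuasicoherent_structureModule (X := X)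
  obtain ⟨N0, hN0⟩ := exists_twist_extends hM s (Coh.structureModule X) (toM g)
  refine ⟨N0, fun N hN M' b Ψ hb => ?_⟩
  obtain ⟨t', ht'⟩ := hN0 N hN
  let Ψ0 : Frame L (CohB1.tensorMod (Coh.structureModule X) (CohB1.tensorPow M N)) (a * N) :=
    (Frame.tensor (Frame.unit L) (Φ.powOf N)).cast (Nat.zero_add (a * N))
  obtain ⟨s'', hs''⟩ := Ψ.exists_hom hL
    (fun W e he => Ψ0.coefOf t' W le_top e he * Φ.coefHom s W e he)
    (fun W e he W' h => by
      rw [Ψ0.coefOf_res t' W le_top e he h, Φ.coefHom_res s W e he h, map_mul])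
    (fun W e he u he' => by
      rw [Ψ0.coefOf_change t' W le_top e he u he', Φ.coefHom_change s W e he u he', hb, pow_add]
      ring)
  refine ⟨s'', opens_eq_of_local (fun x => ?_)⟩
  obtain ⟨W, -, hxW, e, he⟩ := exists_isGen hL x
  refine ⟨W, hxW, ?_⟩
  set c0 := Ψ0.coefOf t' W le_top e he with hc0
  set cs := Φ.coefHom s W e he with hcs
  have h1 : Ψ.coefHom s'' W e he = c0 * cs := (Ψ.coefHom_unique s'' W e he _ (hs'' W e he)).symm
  have hZ : CohB1.genLocus M s ⊓ W = X.basicOpen cs := Φ.genLocus_inf s W e he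
  have hZs : X.basicOpen cs ≤ CohB1.genLocus M s := by rw [← hZ]; exact inf_le_left
  have hZW : X.basicOpen cs ≤ W := X.basicOpen_le cs
  -- the key identity of coefficients on `Z = X_s ∩ W`
  have key : rX hZW c0 = rX hZs g * rX hZW cs ^ N := by
    apply IsGen.coef_ext (Ψ0.isGen (he.res hZW))
    have e1 : rF _ (le_top : X.basicOpen cs ≤ ⊤) t' = rX hZW c0 • Ψ0.φ _ (rF L hZW e) := by
      have := congrArg (rF _ hZW) (Ψ0.coefOf_spec t' W le_top e he)
      rw [rF_rF, rF_smul, Ψ0.res] at this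
      exact this
    have e2 : rF _ (le_top : X.basicOpen cs ≤ ⊤) t' =
        (rX hZs g * rX hZW cs ^ N) • Ψ0.φ _ (rF L hZW e) := by
      have := congrArg (rF _ hZs) ht'
      rw [rF_rF, rF_twist] at this
      rw [this]
      have hval : SecTwist.val s (X.basicOpen cs) = rX hZW cs • Φ.φ _ (rF L hZW e) := by
        rw [← rF_val s hZW, Φ.coefHom_spec s W e he, rF_smul, Φ.res]
      show SecTwist.tmul (Coh.structureModule X) (CohB1.tensorPow M N) (X.basicOpen cs)
        (rF (Coh.structureModule X) hZs (toM g)) (SecTwist.pow s N (X.basicOpen cs)) = _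
      rw [← CycCov.lpow_val, hval, lpow_smul, tmul_smul_right]
      have hg1 : rF (Coh.structureModule X) hZs (toM g) =
          rX hZs g • toM (1 : Γ(X, X.basicOpen cs)) := (mul_one (rX hZs g)).symm
      rw [hg1, tmul_smul_left, ← mul_smul, mul_comm]
      rfl
    rw [← e1, e2]
  have hunit : IsUnit (rX hZW cs) := X.toRingedSpace.isUnit_res_basicOpen cs
  have h2 : X.basicOpen (rX hZW c0) = X.basicOpen cs ⊓ X.basicOpen c0 := basicOpen_rX hZW c0
  have h3 : X.basicOpen (rX hZs g) = X.basicOpen cs ⊓ X.basicOpen g := basicOpen_rX hZs g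
  have h4 : X.basicOpen (rX hZW cs ^ N) = X.basicOpen cs :=
    Scheme.basicOpen_of_isUnit X (hunit.pow N)
  have hgle : X.basicOpen g ≤ CohB1.genLocus M s := X.basicOpen_le g
  rw [Ψ.genLocus_inf s'' W e he, h1, Scheme.basicOpen_mul, inf_comm, ← h2, key,
    Scheme.basicOpen_mul, h3, h4, ← hZ]
  ext y
  constructor
  · rintro ⟨⟨⟨_, hyW⟩, hyg⟩, _⟩
    exact ⟨hyg, hyW⟩
  · rintro ⟨hyg, hyW⟩
    exact ⟨⟨⟨hgle hyg, hyW⟩, hyg⟩, ⟨hgle hyg, hyW⟩⟩

/-- On a quasi-compact scheme, an invertible module is ample iff the opens `X_s` form a basis. -/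
theorem isAmple_iff_isBasis [CompactSpace X] {L : X.Modules} (hL : PicF.IsInvertible L) :
    CohB1.IsAmple L ↔ Opens.IsBasis {U : X.Opens | ∃ (n : ℕ)
      (s : Coh.structureModule X ⟶ CohB1.tensorPow L (n + 1)), U = CohB1.genLocus _ s} := by
  constructor
  · rintro ⟨-, -, h⟩
    haveI : QuasiSeparatedSpace X := quasiSeparatedSpace_of_affine_genLocus hL h
    rw [Opens.isBasis_iff_nbhd]
    intro U x hxU
    obtain ⟨k, s, hxs, haff⟩ := h x
    obtain ⟨g, hgle, hxg⟩ := haff.exists_basicOpen_le (V := U ⊓ CohB1.genLocus _ s)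
      ⟨x, ⟨hxU, hxs⟩⟩ hxs
    obtain ⟨N0, hN0⟩ := exists_hom_genLocus_eq_basicOpen hL (Frame.pow L (k + 1)) s g
    obtain ⟨s'', hs''⟩ := hN0 N0 le_rfl (Frame.pow L ((k + 1) * N0 + k + 1)) (by ring)
    exact ⟨_, ⟨(k + 1) * N0 + k, s'', rfl⟩, hs'' ▸ hxg, hs'' ▸ (hgle.trans inf_le_left)⟩
  · intro hB
    have hB' := affine_genLocus_isBasis hL hB
    rw [Opens.isBasis_iff_nbhd] at hB'
    refine ⟨hL, inferInstance, fun x => ?_⟩
    obtain ⟨U', ⟨haff, n, s, rfl⟩, hxU', -⟩ := hB' (U := ⊤) (x := x) trivial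
    exact ⟨n, s, hxU', haff⟩

end TensH8
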