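import Mathlib
import Groth.Prelude
import Groth.Agent.Lib.Tens8_helper8

/-!
# Frames relative to a pair of invertible modules (helper8)
APPEND-ONLY once landed.
-/

set_option autoImplicit false

namespace TensH8

open AlgebraicGeometry CategoryTheory CategoryTheory.Limits TopologicalSpace Opposite TensorProduct
open QcqsLoc MonoidalCategory GenLocH8 FLFH8 QCohExtn

universe u

variable {X : Scheme.{u}}

/-- The tautological frame of weight one. -/
def Frame.self (L : X.Modules) : Frame L L 1 where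
  φ _ e := e
  isGen he := he
  res _ _ := rfl
  smul W u e := by rw [pow_one]

/-- A frame relative to a pair of modules. -/
structure Frame₂ (L L' M : X.Modules) (a b : ℕ) where
  φ : ∀ (W : X.Opens), Γ(L, W) → Γ(L', W) → Γ(M, W)
  isGen : ∀ {W : X.Opens} {e : Γ(L, W)} {e' : Γ(L', W)}, IsGen L W e → IsGen L' W e' →
    IsGen M W (φ W e e')
  res : ∀ {W W' : X.Opens} (h : W' ≤ W) (e : Γ(L, W)) (e' : Γ(L', W)),
    rF M h (φ W e e') = φ W' (rF L h e) (rF L' h e')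
  smul : ∀ (W : X.Opens) (u u' : Γ(X, W)) (e : Γ(L, W)) (e' : Γ(L', W)),
    φ W (u • e) (u' • e') = (u ^ a * u' ^ b) • φ W e e'

namespace Frame₂

variable {L L' M M' M'' : X.Modules}

/-- The bi-frame of a tensor product of framed modules. -/
noncomputable def tmul {a b : ℕ} (Φ : Frame L M a) (Φ' : Frame L' M' b) :
    Frame₂ L L' (CohB1.tensorMod M M') a b where
  φ W e e' := SecTwist.tmul M M' W (Φ.φ W e) (Φ'.φ W e')
  isGen he he' := isGen_tmul (Φ.isGen he) (Φ'.isGen he')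
  res h e e' := by rw [rF_tmul, Φ.res, Φ'.res]
  smul W u u' e e' := by
    rw [Φ.smul, Φ'.smul, tmul_smul_left, tmul_smul_right, mul_smul]

/-- The bi-frame of a tensor power. -/
noncomputable def powOf {a b : ℕ} (Ψ : Frame₂ L L' M a b) (k : ℕ) :
    Frame₂ L L' (CohB1.tensorPow M k) (a * k) (b * k) where
  φ W e e' := CycCov.lpow M W (Ψ.φ W e e') k
  isGen he he' := isGen_lpow (Ψ.isGen he he') k
  res h e e' := by rw [rF_lpow, Ψ.res]
  smul W u u' e e' := by rw [Ψ.smul, lpow_smul, mul_pow, pow_mul, pow_mul]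

/-- Change of weights along equalities. -/
def cast {a b a' b' : ℕ} (ha : a = a') (hb : b = b') (Ψ : Frame₂ L L' M a b) :
    Frame₂ L L' M a' b' where
  φ := Ψ.φ
  isGen := Ψ.isGen
  res := Ψ.res
  smul W u u' e e' := by rw [← ha, ← hb]; exact Ψ.smul W u u' e e'

/-- Global sections (as morphisms) of a bi-framed module from a system of local coefficients. -/
theorem exists_hom (hL : PicF.IsInvertible L) (hL' : PicF.IsInvertible L') {a b : ℕ}
    (Ψ : Frame₂ L L' M a b)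
    (γ : ∀ (W : X.Opens) (e : Γ(L, W)) (e' : Γ(L', W)) (_ : IsGen L W e) (_ : IsGen L' W e'),
      Γ(X, W))
    (hres : ∀ (W : X.Opens) (e : Γ(L, W)) (e' : Γ(L', W)) (he : IsGen L W e) (he' : IsGen L' W e')
      {W' : X.Opens} (h : W' ≤ W),
      γ W' (rF L h e) (rF L' h e') (he.res h) (he'.res h) = rX h (γ W e e' he he'))
    (hchange : ∀ (W : X.Opens) (e : Γ(L, W)) (e' : Γ(L', W)) (he : IsGen L W e)
      (he' : IsGen L' W e') (u u' : Γ(X, W)) (hue : IsGen L W (u • e)) (hue' : IsGen L' W (u' • e')),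
      γ W e e' he he' = γ W (u • e) (u' • e') hue hue' * (u ^ a * u' ^ b)) :
    ∃ s' : Coh.structureModule X ⟶ M, ∀ (W : X.Opens) (e : Γ(L, W)) (e' : Γ(L', W))
      (he : IsGen L W e) (he' : IsGen L' W e'), SecTwist.val s' W = γ W e e' he he' • Ψ.φ W e e' := by
  let I := {p : Σ W : X.Opens, Γ(L, W) × Γ(L', W) // IsGen L p.1 p.2.1 ∧ IsGen L' p.1 p.2.2}
  let O : I → X.Opens := fun p => p.1.1
  let τ : ∀ p : I, Γ(M, O p) := fun p =>
    γ p.1.1 p.1.2.1 p.1.2.2 p.2.1 p.2.2 • Ψ.φ p.1.1 p.1.2.1 p.1.2.2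
  have hcov : (⊤ : X.Opens) ≤ ⨆ p : I, O p := by
    intro x _
    obtain ⟨W, hxW, e, e', he, he'⟩ := exists_isGen₂ hL hL' x
    exact Opens.mem_iSup.mpr ⟨⟨⟨W, e, e'⟩, he, he'⟩, hxW⟩
  have hcompat : ∀ p q : I, rF M (inf_le_left : O p ⊓ O q ≤ O p) (τ p) =
      rF M (inf_le_right : O p ⊓ O q ≤ O q) (τ q) := by
    rintro ⟨⟨W, e, e'⟩, he, he'⟩ ⟨⟨W', f, f'⟩, hf, hf'⟩
    show rF M (inf_le_left : W ⊓ W' ≤ W) (γ W e e' he he' • Ψ.φ W e e') =
      rF M (inf_le_right : W ⊓ W' ≤ W') (γ W' f f' hf hf' • Ψ.φ W' f f')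
    have hl : W ⊓ W' ≤ W := inf_le_left
    have hr : W ⊓ W' ≤ W' := inf_le_right
    obtain ⟨u, hu⟩ := (he.res hl).exists_coef (rF L hr f)
    obtain ⟨u', hu'⟩ := (he'.res hl).exists_coef (rF L' hr f')
    have he2 : IsGen L (W ⊓ W') (u • rF L hl e) := hu ▸ hf.res hr
    have he2' : IsGen L' (W ⊓ W') (u' • rF L' hl e') := hu' ▸ hf'.res hr
    rw [rF_smul, rF_smul, Ψ.res, Ψ.res, ← hres W e e' he he' hl, ← hres W' f f' hf hf' hr,
      hchange (W ⊓ W') (rF L hl e) (rF L' hl e') (he.res hl) (he'.res hl) u u' he2 he2', mul_smul,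
      ← Ψ.smul]
    have key : ∀ (e2 : Γ(L, W ⊓ W')) (e2' : Γ(L', W ⊓ W')) (h2 : e2 = u • rF L hl e)
        (h2' : e2' = u' • rF L' hl e') (hg : IsGen L (W ⊓ W') e2) (hg' : IsGen L' (W ⊓ W') e2'),
        γ (W ⊓ W') (u • rF L hl e) (u' • rF L' hl e') he2 he2' •
            Ψ.φ (W ⊓ W') (u • rF L hl e) (u' • rF L' hl e') =
          γ (W ⊓ W') e2 e2' hg hg' • Ψ.φ (W ⊓ W') e2 e2' := by
      intro e2 e2' h2 h2' hg hg'
      subst h2 h2'
      rfl
    exact key _ _ hu hu' (hf.res hr) (hf'.res hr)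
  obtain ⟨σ, hσ⟩ := glue M O ⊤ (fun _ => le_top) hcov τ hcompat
  refine ⟨homOfSec M σ, fun W e e' he he' => ?_⟩
  rw [val_homOfSec]
  exact hσ ⟨⟨W, e, e'⟩, he, he'⟩

/-- The product `s^p ⊗ s'^q` as a section of a bi-framed module, with generating locus
`X_s ∩ X_{s'}`. -/
theorem exists_hom_genLocus_inf (hL : PicF.IsInvertible L) (hL' : PicF.IsInvertible L') {a b : ℕ}
    (Φ : Frame L M a) (s : Coh.structureModule X ⟶ M) (Φ' : Frame L' M' b)
    (s' : Coh.structureModule X ⟶ M') {p q : ℕ} (hp : 0 < p) (hq : 0 < q) {A B : ℕ}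
    (Ψ : Frame₂ L L' M'' A B) (hA : A = a * p) (hB : B = b * q) :
    ∃ t : Coh.structureModule X ⟶ M'',
      CohB1.genLocus M'' t = CohB1.genLocus M s ⊓ CohB1.genLocus M' s' := by
  obtain ⟨t, ht⟩ := Ψ.exists_hom hL hL'
    (fun W e e' he he' => Φ.coefHom s W e he ^ p * Φ'.coefHom s' W e' he' ^ q)
    (fun W e e' he he' W' h => by
      rw [Φ.coefHom_res s W e he h, Φ'.coefHom_res s' W e' he' h, map_mul, map_pow, map_pow])
    (fun W e e' he he' u u' hue hue' => by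
      rw [Φ.coefHom_change s W e he u hue, Φ'.coefHom_change s' W e' he' u' hue', hA, hB, mul_pow,
        mul_pow, pow_mul, pow_mul]
      ring)
  refine ⟨t, opens_eq_of_local (fun x => ?_)⟩
  obtain ⟨W, hxW, e, e', he, he'⟩ := exists_isGen₂ hL hL' x
  refine ⟨W, hxW, ?_⟩
  have h1 := genLocus_inf_eq t (Ψ.isGen he he') _ (ht W e e' he he')
  rw [h1, Scheme.basicOpen_mul, Scheme.basicOpen_pow _ _ hp, Scheme.basicOpen_pow _ _ hq,
    ← Φ.genLocus_inf s W e he, ← Φ'.genLocus_inf s' W e' he']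
  ext y
  constructor
  · rintro ⟨⟨h1, h2⟩, ⟨h3, _⟩⟩
    exact ⟨⟨h1, h3⟩, h2⟩
  · rintro ⟨⟨h1, h3⟩, h2⟩
    exact ⟨⟨h1, h2⟩, ⟨h3, h2⟩⟩

end Frame₂

/-- A module bi-framed with weights `(1, 1)` relative to an ample `L` and an invertible `L'`
all of whose points lie in some `X_{s'}` is ample. -/
theorem isAmple_of_frame₂ {L L' M : X.Modules} (hL : CohB1.IsAmple L) (hL' : PicF.IsInvertible L')
    (h' : ∀ x : X, ∃ (n : ℕ) (s' : Coh.structureModule X ⟶ CohB1.tensorPow L' (n + 1)),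
      x ∈ CohB1.genLocus _ s')
    (Ψ : Frame₂ L L' M 1 1) : CohB1.IsAmple M := by
  obtain ⟨hLi, hc, hamp⟩ := id hL
  haveI := hc
  have hM : PicF.IsInvertible M := by
    apply isInvertible_of_gens
    intro x
    obtain ⟨W0, hxW0, e, e', he, he'⟩ := exists_isGen₂ hLi hL' x
    obtain ⟨_, ⟨W, hW : IsAffineOpen W, rfl⟩, hxW, hWle⟩ :=
      (X.isBasis_affineOpens).exists_subset_of_mem_open hxW0 W0.isOpen
    have h1 : W ≤ W0 := hWle
    exact ⟨W, hW, hxW, _, Ψ.isGen (he.res h1) (he'.res h1)⟩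
  refine ⟨hM, hc, fun x => ?_⟩
  obtain ⟨n, s', hxs'⟩ := h' x
  have hB := affine_genLocus_isBasis hLi ((isAmple_iff_isBasis hLi).mp hL)
  rw [Opens.isBasis_iff_nbhd] at hB
  obtain ⟨_, ⟨haff, k, s, rfl⟩, hxs, hle⟩ := hB hxs'
  obtain ⟨t, ht⟩ := Frame₂.exists_hom_genLocus_inf hLi hL' (Frame.pow L (k + 1)) s
    (Frame.pow L' (n + 1)) s' (Nat.succ_pos n) (Nat.succ_pos k)
    (Ψ.powOf (k * n + k + n + 1))
    (show 1 * (k * n + k + n + 1) = (k + 1) * (n + 1) by ring)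
    (show 1 * (k * n + k + n + 1) = (n + 1) * (k + 1) by ring)
  rw [inf_eq_left.mpr hle] at ht
  exact ⟨k * n + k + n, t, ht ▸ hxs, ht ▸ haff⟩

end TensH8
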