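import Mathlib
import Groth.Prelude
import Groth.Agent.Lib.Tens9_helper8

/-!
# Bi-frames under restriction; tensor products of relatively ample modules (helper8)
APPEND-ONLY once landed.
-/

set_option autoImplicit false

namespace TensH8

open AlgebraicGeometry CategoryTheory CategoryTheory.Limits TopologicalSpace Opposite TensorProduct
open QcqsLoc MonoidalCategory GenLocH8 FLFH8 QCohExtn

universe u

variable {X : Scheme.{u}}

section Restrict

variable {U : Scheme.{u}} (j : U ⟶ X) [IsOpenImmersion j]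

/-- The restricted bi-frame function. -/
noncomputable def Frame₂.restrictφ {L L' M : X.Modules} {a b : ℕ} (Ψ : Frame₂ L L' M a b)
    (W : U.Opens) (e : Γ(L.restrict j, W)) (e' : Γ(L'.restrict j, W)) : Γ(M.restrict j, W) :=
  (show Γ(M.restrict j, W) from
    Ψ.φ (j ''ᵁ W) (show Γ(L, j ''ᵁ W) from e) (show Γ(L', j ''ᵁ W) from e'))

theorem Frame₂.restrictφ_isGen {L L' M : X.Modules} {a b : ℕ} (Ψ : Frame₂ L L' M a b)
    {W : U.Opens} {e : Γ(L.restrict j, W)} {e' : Γ(L'.restrict j, W)}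
    (he : IsGen (L.restrict j) W e) (he' : IsGen (L'.restrict j) W e') :
    IsGen (M.restrict j) W (Ψ.restrictφ j W e e') :=
  isGen_restrict j M _ (Ψ.isGen (isGen_of_restrict j L e he) (isGen_of_restrict j L' e' he'))

theorem Frame₂.restrictφ_res {L L' M : X.Modules} {a b : ℕ} (Ψ : Frame₂ L L' M a b)
    {W W' : U.Opens} (h : W' ≤ W) (e : Γ(L.restrict j, W)) (e' : Γ(L'.restrict j, W)) :
    rF (M.restrict j) h (Ψ.restrictφ j W e e') =
      Ψ.restrictφ j W' (rF (L.restrict j) h e) (rF (L'.restrict j) h e') :=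
  Ψ.res (show j ''ᵁ W' ≤ j ''ᵁ W from (j.opensFunctor.map (homOfLE h)).le)
    (show Γ(L, j ''ᵁ W) from e) (show Γ(L', j ''ᵁ W) from e')

theorem Frame₂.restrictφ_smul {L L' M : X.Modules} {a b : ℕ} (Ψ : Frame₂ L L' M a b)
    (W : U.Opens) (u u' : Γ(U, W)) (e : Γ(L.restrict j, W)) (e' : Γ(L'.restrict j, W)) :
    Ψ.restrictφ j W (u • e) (u' • e') = (u ^ a * u' ^ b) • Ψ.restrictφ j W e e' := by
  have h1 := Ψ.smul (j ''ᵁ W) ((j.appIso W).inv.hom u) ((j.appIso W).inv.hom u')
    (show Γ(L, j ''ᵁ W) from e) (show Γ(L', j ''ᵁ W) from e')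
  rw [← map_pow, ← map_pow, ← map_mul] at h1
  exact h1

/-- Restriction of a bi-frame to an open subscheme. -/
noncomputable def Frame₂.restrict {L L' M : X.Modules} {a b : ℕ} (Ψ : Frame₂ L L' M a b) :
    Frame₂ (L.restrict j) (L'.restrict j) (M.restrict j) a b where
  φ W e e' := Ψ.restrictφ j W e e'
  isGen he he' := Ψ.restrictφ_isGen j he he'
  res h e e' := Ψ.restrictφ_res j h e e'
  smul W u u' e e' := Ψ.restrictφ_smul j W u u' e e'

end Restrict

/-- The tensor product of two relatively ample modules is relatively ample. -/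
theorem isRelAmple_tensorMod {S : Scheme.{u}} (f : X ⟶ S) {L L' : X.Modules}
    (hL : RelAmple.IsRelAmple f L) (hL' : RelAmple.IsRelAmple f L') :
    RelAmple.IsRelAmple f (CohB1.tensorMod L L') := by
  refine ⟨hL.1, fun V => ?_⟩
  have h1 := hL.2 V
  have h2 := hL'.2 V
  refine isAmple_of_frame₂ h1 h2.1 (fun x => ?_)
    ((Frame₂.tmul (Frame.self L) (Frame.self L')).restrict (f ⁻¹ᵁ V.1).ι)
  obtain ⟨n, s', hx, -⟩ := h2.2.2 x
  exact ⟨n, s', hx⟩

end TensH8
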