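import Mathlib
import Groth.Prelude
import Groth.Agent.Lib.Tens10_helper8

/-!
# Ampleness on an open subset, in terms of sections and frames (helper8)
APPEND-ONLY once landed.
-/

set_option autoImplicit false

namespace TensH8

open AlgebraicGeometry CategoryTheory CategoryTheory.Limits TopologicalSpace Opposite TensorProduct
open QcqsLoc MonoidalCategory GenLocH8 FLFH8 QCohExtn

universe u

variable {X : Scheme.{u}}

section HasLocus

variable {L M M' : X.Modules}

/-- `O` is the generating locus (inside `V`) of the section `σ` of the framed module `M`. -/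
def HasLocus {N : ℕ} (Φ : Frame L M N) {V : X.Opens} (σ : Γ(M, V)) (O : X.Opens) : Prop :=
  ∀ (W : X.Opens) (hW : W ≤ V) (e : Γ(L, W)) (he : IsGen L W e),
    O ⊓ W = X.basicOpen (Φ.coefOf σ W hW e he)

theorem HasLocus.change_frame (hL : PicF.IsInvertible L) {N : ℕ} (Φ : Frame L M N)
    (Ψ : Frame L M' N) {V : X.Opens} (σ : Γ(M, V)) {O : X.Opens} (h : HasLocus Φ σ O) :
    ∃ σ' : Γ(M', V), HasLocus Ψ σ' O := by
  obtain ⟨σ', hσ'⟩ := Ψ.exists_section hL V (fun W hW e he => Φ.coefOf σ W hW e he)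
    (fun W hW e he W' h => Φ.coefOf_res σ W hW e he h)
    (fun W hW e he u he' => Φ.coefOf_change σ W hW e he u he')
  refine ⟨σ', fun W hW e he => ?_⟩
  rw [h W hW e he, Ψ.coefOf_unique σ' W hW e he _ (hσ' W hW e he)]

/-- The locus of a section is unique inside `V`. -/
theorem HasLocus.unique (hL : PicF.IsInvertible L) {N : ℕ} (Φ : Frame L M N) {V : X.Opens}
    (σ : Γ(M, V)) {O O' : X.Opens} (h : HasLocus Φ σ O) (h' : HasLocus Φ σ O')
    (hO : O ≤ V) (hO' : O' ≤ V) : O = O' := by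
  ext x
  constructor
  · intro hx
    obtain ⟨W, -, hxW, hWV, e, he⟩ := exists_isGen_le hL x V (hO hx)
    have : x ∈ O ⊓ W := ⟨hx, hxW⟩
    rw [h W hWV e he, ← h' W hWV e he] at this
    exact this.1
  · intro hx
    obtain ⟨W, -, hxW, hWV, e, he⟩ := exists_isGen_le hL x V (hO' hx)
    have : x ∈ O' ⊓ W := ⟨hx, hxW⟩
    rw [h' W hWV e he, ← h W hWV e he] at this
    exact this.1

end HasLocus

section Restrict

variable {U : Scheme.{u}} (j : U ⟶ X) [IsOpenImmersion j] {L M : X.Modules}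

theorem coefOf_restrict {N : ℕ} (Φ : Frame L M N) {V' : U.Opens} (σ : Γ(M, j ''ᵁ V'))
    (W' : U.Opens) (hW' : W' ≤ V') (e' : Γ(L.restrict j, W')) (he' : IsGen (L.restrict j) W' e') :
    Φ.coefOf σ (j ''ᵁ W') ((j.image_le_image_iff _ _).mpr hW') e' (isGen_of_restrict j L e' he') =
      (j.appIso W').inv.hom ((Φ.restrict j).coefOf (show Γ(M.restrict j, V') from σ) W' hW' e' he') := by
  symm
  apply Frame.coefOf_unique
  exact (Φ.restrict j).coefOf_spec (show Γ(M.restrict j, V') from σ) W' hW' e' he'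

theorem hasLocus_restrict_iff {N : ℕ} (Φ : Frame L M N) {V' : U.Opens} (σ : Γ(M, j ''ᵁ V'))
    (O' : U.Opens) :
    HasLocus (Φ.restrict j) (show Γ(M.restrict j, V') from σ) O' ↔ HasLocus Φ σ (j ''ᵁ O') := by
  constructor
  · intro h W hW e he
    obtain ⟨W', hW', rfl⟩ := exists_eq_image j hW
    have he' : IsGen (L.restrict j) W' (show Γ(L.restrict j, W') from e) := isGen_restrict j L e he
    have h1 := h W' hW' e he'
    have h2 := coefOf_restrict j Φ σ W' hW' e he'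
    have h3 : Φ.coefOf σ (j ''ᵁ W') hW e he = _ := h2
    rw [h3, ← Scheme.image_basicOpen, ← h1]
    ext x
    constructor
    · rintro ⟨⟨y, hy, rfl⟩, ⟨y', hy', hyy'⟩⟩
      have : y' = y := j.isOpenEmbedding.injective hyy'
      exact ⟨y, ⟨hy, this ▸ hy'⟩, rfl⟩
    · rintro ⟨y, ⟨hy, hy'⟩, rfl⟩
      exact ⟨⟨y, hy, rfl⟩, ⟨y, hy', rfl⟩⟩
  · intro h W' hW' e' he'
    have h1 := h (j ''ᵁ W') ((j.image_le_image_iff _ _).mpr hW') e' (isGen_of_restrict j L e' he')
    rw [coefOf_restrict j Φ σ W' hW' e' he', ← Scheme.image_basicOpen] at h1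
    apply j.image_injective
    show j ''ᵁ (O' ⊓ W') = j ''ᵁ (U.basicOpen _)
    rw [← h1]
    ext x
    constructor
    · rintro ⟨y, ⟨hy, hy'⟩, rfl⟩
      exact ⟨⟨y, hy, rfl⟩, ⟨y, hy', rfl⟩⟩
    · rintro ⟨⟨y, hy, rfl⟩, ⟨y', hy', hyy'⟩⟩
      have : y' = y := j.isOpenEmbedding.injective hyy'
      exact ⟨y, ⟨hy, this ▸ hy'⟩, rfl⟩

end Restrict

/-- `L` is ample on the open `V`, expressed with sections over `V`. -/
def IsAmpleOn (L : X.Modules) (V : X.Opens) : Prop :=
  IsCompact (V : Set X) ∧ ∀ x ∈ V, ∃ (n : ℕ) (σ : Γ(CohB1.tensorPow L (n + 1), V)) (O : X.Opens),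
    IsAffineOpen O ∧ x ∈ O ∧ O ≤ V ∧ HasLocus (Frame.pow L (n + 1)) σ O

theorem hasLocus_val {L M : X.Modules} {N : ℕ} (Φ : Frame L M N) (s : Coh.structureModule X ⟶ M)
    (V : X.Opens) : HasLocus Φ (SecTwist.val s V) (CohB1.genLocus M s ⊓ V) := by
  intro W hW e he
  have h1 := Φ.genLocus_inf s W e he
  have h2 : Φ.coefHom s W e he = Φ.coefOf (SecTwist.val s V) W hW e he := by
    apply Frame.coefOf_unique
    rw [rF_val]
    exact Φ.coefHom_spec s W e he
  rw [← h2, ← h1, inf_assoc, inf_eq_right.mpr hW]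

theorem genLocus_homOfSec {L M : X.Modules} (hL : PicF.IsInvertible L) {N : ℕ} (Φ : Frame L M N)
    (σ : Γ(M, ⊤)) {O : X.Opens} (h : HasLocus Φ σ O) :
    CohB1.genLocus M (homOfSec M σ) = O := by
  have h1 := hasLocus_val Φ (homOfSec M σ) ⊤
  have h2 : SecTwist.val (homOfSec M σ) ⊤ = σ := by
    rw [val_homOfSec]
    exact SubExt.rF_self M _ σ
  rw [h2, inf_top_eq] at h1
  exact HasLocus.unique hL Φ σ h1 h le_top le_top

theorem isAmple_iff_isAmpleOn_top {L : X.Modules} (hL : PicF.IsInvertible L) :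
    CohB1.IsAmple L ↔ IsAmpleOn L ⊤ := by
  constructor
  · rintro ⟨-, hc, h⟩
    refine ⟨by simpa using isCompact_univ (X := X), fun x _ => ?_⟩
    obtain ⟨n, s, hxs, haff⟩ := h x
    refine ⟨n, SecTwist.val s ⊤, CohB1.genLocus _ s, haff, hxs, le_top, ?_⟩
    have := hasLocus_val (Frame.pow L (n + 1)) s ⊤
    rwa [inf_top_eq] at this
  · rintro ⟨hc, h⟩
    refine ⟨hL, ⟨by simpa using hc⟩, fun x => ?_⟩
    obtain ⟨n, σ, O, haff, hxO, -, hloc⟩ := h x trivial
    have := genLocus_homOfSec hL (Frame.pow L (n + 1)) σ hloc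
    exact ⟨n, homOfSec _ σ, this ▸ hxO, this ▸ haff⟩

section Master

variable {U : Scheme.{u}} (j : U ⟶ X) [IsOpenImmersion j]

theorem isCompact_image_iff (V' : U.Opens) :
    IsCompact ((j ''ᵁ V' : X.Opens) : Set X) ↔ IsCompact (V' : Set U) :=
  (j.isOpenEmbedding.isInducing.isCompact_iff (s := (V' : Set U))).symm

/-- Ampleness on an open of an open subscheme, seen from the ambient scheme. -/
theorem isAmpleOn_restrict_iff {L : X.Modules} (hL : PicF.IsInvertible L) (V' : U.Opens) :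
    IsAmpleOn (L.restrict j) V' ↔ IsAmpleOn L (j ''ᵁ V') := by
  have hL' := isInvertible_restrict j hL
  constructor
  · rintro ⟨hc, h⟩
    refine ⟨(isCompact_image_iff j V').mpr hc, ?_⟩
    rintro _ ⟨y, hy, rfl⟩
    obtain ⟨n, σ', O', haff, hyO', hO'V', hloc⟩ := h y hy
    obtain ⟨σ'', hloc''⟩ := hloc.change_frame hL' (Frame.pow (L.restrict j) (n + 1))
      ((Frame.pow L (n + 1)).restrict j) σ'
    exact ⟨n, σ'', j ''ᵁ O', haff.image_of_isOpenImmersion j, ⟨y, hyO', rfl⟩,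
      (j.image_le_image_iff _ _).mpr hO'V',
      (hasLocus_restrict_iff j (Frame.pow L (n + 1)) σ'' O').mp hloc''⟩
  · rintro ⟨hc, h⟩
    refine ⟨(isCompact_image_iff j V').mp hc, fun y hy => ?_⟩
    obtain ⟨n, σ, O, haff, hxO, hOV, hloc⟩ := h (j y) ⟨y, hy, rfl⟩
    obtain ⟨O', hO'V', rfl⟩ := exists_eq_image j hOV
    have hloc' := (hasLocus_restrict_iff j (Frame.pow L (n + 1)) σ O').mpr hloc
    obtain ⟨σ', hσ'⟩ := hloc'.change_frame hL' ((Frame.pow L (n + 1)).restrict j)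
      (Frame.pow (L.restrict j) (n + 1)) _
    refine ⟨n, σ', O', (j.isAffineOpen_iff_of_isOpenImmersion).mp haff, ?_, hO'V', hσ'⟩
    obtain ⟨y', hy', hyy'⟩ := hxO
    have : y' = y := j.isOpenEmbedding.injective hyy'
    exact this ▸ hy'

end Master

/-- An ample module is ample on every quasi-compact open. -/
theorem isAmpleOn_of_isAmple {L : X.Modules} (hL : CohB1.IsAmple L) (V : X.Opens)
    (hV : IsCompact (V : Set X)) : IsAmpleOn L V := by
  obtain ⟨hinv, hc, -⟩ := id hL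
  haveI := hc
  have hB := affine_genLocus_isBasis hinv ((isAmple_iff_isBasis hinv).mp hL)
  rw [Opens.isBasis_iff_nbhd] at hB
  refine ⟨hV, fun x hx => ?_⟩
  obtain ⟨U', ⟨haff, n, s, rfl⟩, hxU', hle⟩ := hB hx
  refine ⟨n, SecTwist.val s V, CohB1.genLocus _ s, haff, hxU', hle, ?_⟩
  have := hasLocus_val (Frame.pow L (n + 1)) s V
  rwa [inf_eq_left.mpr hle] at this

theorem isAmple_restrict_iff {U : Scheme.{u}} (j : U ⟶ X) [IsOpenImmersion j] {L : X.Modules}
    (hL : PicF.IsInvertible L) : CohB1.IsAmple (L.restrict j) ↔ IsAmpleOn L j.opensRange := by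
  rw [isAmple_iff_isAmpleOn_top (isInvertible_restrict j hL), isAmpleOn_restrict_iff j hL,
    Scheme.Hom.image_top_eq_opensRange]

theorem isAmple_restrict_ι_iff {L : X.Modules} (hL : PicF.IsInvertible L) (V : X.Opens) :
    CohB1.IsAmple (L.restrict V.ι) ↔ IsAmpleOn L V := by
  rw [isAmple_restrict_iff V.ι hL, Scheme.Opens.opensRange_ι]

theorem IsAmpleOn.mono {L : X.Modules} (hL : PicF.IsInvertible L) {V V' : X.Opens}
    (h : IsAmpleOn L V) (hle : V' ≤ V) (hc : IsCompact (V' : Set X)) : IsAmpleOn L V' := by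
  have h1 := (isAmple_restrict_ι_iff hL V).mpr h
  have e : V.ι ''ᵁ (V.ι ⁻¹ᵁ V') = V' := by
    rw [Scheme.Hom.image_preimage_eq_opensRange_inf, Scheme.Opens.opensRange_ι]
    exact inf_eq_right.mpr hle
  have h2 := isAmpleOn_of_isAmple h1 (V.ι ⁻¹ᵁ V') ((isCompact_image_iff V.ι _).mp (e.symm ▸ hc))
  have h3 := (isAmpleOn_restrict_iff V.ι hL _).mp h2
  rwa [e] at h3

/-- An ample module restricts to an ample module on every quasi-compact open subscheme. -/
theorem isAmple_restrict {U : Scheme.{u}} (j : U ⟶ X) [IsOpenImmersion j] [CompactSpace U]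
    {L : X.Modules} (hL : CohB1.IsAmple L) : CohB1.IsAmple (L.restrict j) := by
  rw [isAmple_restrict_iff j hL.1]
  apply isAmpleOn_of_isAmple hL
  rw [← Scheme.Hom.image_top_eq_opensRange]
  exact (isCompact_image_iff j ⊤).mpr (by simpa using isCompact_univ (X := U))

end TensH8
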