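import Mathlib
import Groth.Prelude
import Groth.Agent.Lib.Tens11_helper8

/-!
# Ampleness is local over basic opens of global functions; quasi-affine schemes (helper8)
APPEND-ONLY once landed.
-/

set_option autoImplicit false

namespace TensH8

open AlgebraicGeometry CategoryTheory CategoryTheory.Limits TopologicalSpace Opposite TensorProduct
open QcqsLoc MonoidalCategory GenLocH8 FLFH8 QCohExtn

universe u

variable {X : Scheme.{u}}

theorem isQuasicoherent_of_isInvertible {L : X.Modules} (hL : PicF.IsInvertible L) :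
    L.IsQuasicoherent := by
  apply isQuasicoherent_of_gens
  intro x
  obtain ⟨W, hW, hxW, e, he⟩ := exists_isGen hL x
  exact ⟨W, hW, hxW, e, he⟩

theorem isQuasiSeparated_of_isAmpleOn {L : X.Modules} (hL : PicF.IsInvertible L) {V : X.Opens}
    (h : IsAmpleOn L V) : IsQuasiSeparated (V : Set X) := by
  have h1 := (isAmple_restrict_ι_iff hL V).mpr h
  have h2 : QuasiSeparatedSpace ↥V :=
    quasiSeparatedSpace_of_affine_genLocus (isInvertible_restrict V.ι hL) h1.2.2
  exact (isQuasiSeparated_iff_quasiSeparatedSpace _ V.isOpen).mpr h2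

/-- Key computation: multiplying an extension of `a^N σ` by `a` gives a global section with the
same locus as `σ`. -/
theorem hasLocus_smul_extend {L M : X.Modules} {n : ℕ} (Φ : Frame L M n) (a : Γ(X, ⊤))
    (σ : Γ(M, X.basicOpen a)) {O : X.Opens} (hO : O ≤ X.basicOpen a) (hloc : HasLocus Φ σ O)
    (N : ℕ) (s : Γ(M, ⊤))
    (hs : rF M (X.basicOpen_le a) s = rX (X.basicOpen_le a) a ^ N • σ) :
    HasLocus Φ (a • s) O := by
  intro W hW e he
  set c := Φ.coefOf (a • s) W hW e he with hc
  have hspec := Φ.coefOf_spec (a • s) W hW e he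
  -- (A) the basic open of `c` lies in `X_a`
  have hA : X.basicOpen c ≤ X.basicOpen a := by
    have h1 : c = rX hW a * Φ.coefOf s W hW e he := by
      symm
      apply Frame.coefOf_unique
      rw [rF_smul, Φ.coefOf_spec s W hW e he, mul_smul]
    rw [h1, Scheme.basicOpen_mul, basicOpen_rX]
    exact inf_le_left.trans inf_le_right
  -- restriction to `W' = W ⊓ X_a`
  have hW' : W ⊓ X.basicOpen a ≤ W := inf_le_left
  have hW'a : W ⊓ X.basicOpen a ≤ X.basicOpen a := inf_le_right
  have he' := he.res hW'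
  have h2 := hloc _ hW'a _ he'
  set cσ := Φ.coefOf σ _ hW'a _ he' with hcσ
  have h3 : rX hW' c = rX (le_top : W ⊓ X.basicOpen a ≤ ⊤) a ^ (N + 1) * cσ := by
    rw [hc, ← Φ.coefOf_res (a • s) W hW e he hW']
    symm
    apply Frame.coefOf_unique
    have e1 : rF M (hW'.trans hW) (a • s) =
        rF M hW'a (rF M (X.basicOpen_le a) (a • s)) := (rF_rF M _ _ _).symm
    rw [e1, rF_smul, hs, ← mul_smul, ← pow_succ', rF_smul, map_pow, rX_rX,
      Φ.coefOf_spec σ _ hW'a _ he', mul_smul]
  have h4 : X.basicOpen (rX hW' c) = O ⊓ (W ⊓ X.basicOpen a) := by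
    rw [h3, Scheme.basicOpen_mul, Scheme.basicOpen_pow X _ (Nat.succ_pos N), basicOpen_rX, h2]
    exact inf_eq_right.mpr (le_inf (X.basicOpen_le cσ) ((X.basicOpen_le cσ).trans inf_le_right))
  rw [basicOpen_rX] at h4
  apply le_antisymm
  · intro y hy
    have : y ∈ O ⊓ (W ⊓ X.basicOpen a) := ⟨hy.1, hy.2, hO hy.1⟩
    rw [← h4] at this
    exact this.2
  · intro y hy
    have : y ∈ (W ⊓ X.basicOpen a) ⊓ X.basicOpen c := ⟨⟨X.basicOpen_le c hy, hA hy⟩, hy⟩
    rw [h4] at this
    exact ⟨this.1, this.2.1⟩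

/-- Ampleness is local over a cover by basic opens of global functions. -/
theorem isAmple_of_basicOpen_cover [CompactSpace X] {L : X.Modules} (hL : PicF.IsInvertible L)
    (h : ∀ x : X, ∃ a : Γ(X, ⊤), x ∈ X.basicOpen a ∧ IsAmpleOn L (X.basicOpen a)) :
    CohB1.IsAmple L := by
  choose a hxa hA using h
  haveI : QuasiSeparatedSpace X :=
    QuasiSeparatedSpace.of_isOpenCover (U := fun x => X.basicOpen (a x))
      (eq_top_iff.mpr fun x _ => Opens.mem_iSup.mpr ⟨x, hxa x⟩)
      (fun x => isRetrocompact_basicOpen (a x))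
      (fun x => isQuasiSeparated_of_isAmpleOn hL (hA x))
  refine ⟨hL, inferInstance, fun x => ?_⟩
  obtain ⟨n, σ, O, haff, hxO, hOle, hloc⟩ := (hA x).2 x (hxa x)
  haveI := isQuasicoherent_of_isInvertible (isInvertible_tensorPow hL (n + 1))
  obtain ⟨N, s, hs⟩ := exists_pow_smul_extends (F := CohB1.tensorPow L (n + 1)) (U := ⊤) (a := a x)
    (by simpa using isCompact_univ (X := X)) (by simpa using isQuasiSeparated_univ (α := X)) σ
  have h1 := hasLocus_smul_extend (Frame.pow L (n + 1)) (a x) σ hOle hloc N s hs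
  have h2 := genLocus_homOfSec hL (Frame.pow L (n + 1)) _ h1
  exact ⟨n, homOfSec _ (a x • s), h2 ▸ hxO, h2 ▸ haff⟩

/-- A module is ample on any affine open carrying a generator. -/
theorem isAmpleOn_of_isGen {L : X.Modules} {V : X.Opens} (hV : IsAffineOpen V) {e : Γ(L, V)}
    (he : IsGen L V e) : IsAmpleOn L V := by
  refine ⟨hV.isCompact, fun x hx => ?_⟩
  refine ⟨0, (Frame.pow L 1).φ V e, V, hV, hx, le_rfl, ?_⟩
  intro W hW e' he'
  obtain ⟨u, hu⟩ := he'.exists_coef (rF L hW e)
  have hu' : IsGen L W (u • e') := hu ▸ he.res hW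
  have h1 : u ^ 1 = (Frame.pow L 1).coefOf ((Frame.pow L 1).φ V e) W hW e' he' := by
    apply Frame.coefOf_unique
    rw [(Frame.pow L 1).res, hu, (Frame.pow L 1).smul]
  rw [← h1, pow_one, inf_eq_right.mpr hW]
  -- `u` is a unit since `u • e'` generates
  obtain ⟨v, hv⟩ := hu'.exists_coef e'
  have h2 : v * u = 1 := by
    apply IsGen.coef_ext he'
    rw [mul_smul, ← hv, one_smul]
  exact (X.basicOpen_of_isUnit (IsUnit.of_mul_eq_one v (by rw [mul_comm]; exact h2))).symm

/-- On a quasi-affine scheme every invertible module is ample. -/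
theorem isAmple_of_isQuasiAffine [X.IsQuasiAffine] {L : X.Modules} (hL : PicF.IsInvertible L) :
    CohB1.IsAmple L := by
  apply isAmple_of_basicOpen_cover hL
  intro x
  obtain ⟨W, hW, hxW, e, he⟩ := exists_isGen hL x
  obtain ⟨_, ⟨_, ⟨g, hg, rfl⟩, rfl⟩, hxg, hgW⟩ :=
    (Scheme.IsQuasiAffine.isBasis_basicOpen X).exists_subset_of_mem_open hxW W.isOpen
  have hle : X.basicOpen g ≤ W := hgW
  exact ⟨g, hxg, isAmpleOn_of_isGen hg (he.res hle)⟩

end TensH8
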