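import Mathlib
import Groth.Prelude
import Groth.Agent.Lib.Tens12_helper8

/-!
# Relative ampleness via `IsAmpleOn`; locality on the base (helper8)
APPEND-ONLY once landed.
-/

set_option autoImplicit false

namespace TensH8

open AlgebraicGeometry CategoryTheory CategoryTheory.Limits TopologicalSpace Opposite TensorProduct
open QcqsLoc MonoidalCategory GenLocH8 FLFH8 QCohExtn

universe u

variable {X : Scheme.{u}}

/-- Invertibility is local. -/
theorem isInvertible_of_restrict_cover {L : X.Modules}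
    (h : ∀ x : X, ∃ V : X.Opens, x ∈ V ∧ PicF.IsInvertible (L.restrict V.ι)) :
    PicF.IsInvertible L := by
  apply isInvertible_of_gens
  intro x
  obtain ⟨V, hxV, hV⟩ := h x
  obtain ⟨W', hW', hxW', e, he⟩ := exists_isGen hV (⟨x, hxV⟩ : ↥V)
  exact ⟨V.ι ''ᵁ W', hW'.image_of_isOpenImmersion V.ι, ⟨⟨x, hxV⟩, hxW', rfl⟩, _,
    isGen_of_restrict V.ι L e he⟩

theorem isInvertible_of_isRelAmple {S : Scheme.{u}} (f : X ⟶ S) {L : X.Modules}
    (h : RelAmple.IsRelAmple f L) : PicF.IsInvertible L := by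
  apply isInvertible_of_restrict_cover
  intro x
  obtain ⟨_, ⟨V, hV : IsAffineOpen V, rfl⟩, hxV, -⟩ :=
    (S.isBasis_affineOpens).exists_subset_of_mem_open (Set.mem_univ (f x)) isOpen_univ
  exact ⟨f ⁻¹ᵁ V, hxV, (h.2 ⟨V, hV⟩).1⟩

theorem isRelAmple_iff {S : Scheme.{u}} (f : X ⟶ S) {L : X.Modules} (hL : PicF.IsInvertible L) :
    RelAmple.IsRelAmple f L ↔
      QuasiCompact f ∧ ∀ V : S.affineOpens, IsAmpleOn L (f ⁻¹ᵁ V.1) :=
  and_congr Iff.rfl (forall_congr' fun V => isAmple_restrict_ι_iff hL _)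

/-- Relative form of `isAmple_of_basicOpen_cover`. -/
theorem isAmpleOn_of_basicOpen_cover {L : X.Modules} (hL : PicF.IsInvertible L) {V : X.Opens}
    (hc : IsCompact (V : Set X))
    (h : ∀ x ∈ V, ∃ a : Γ(X, V), x ∈ X.basicOpen a ∧ IsAmpleOn L (X.basicOpen a)) :
    IsAmpleOn L V := by
  rw [← isAmple_restrict_ι_iff hL V]
  haveI : CompactSpace (V.toScheme) := isCompact_iff_compactSpace.mp hc
  apply isAmple_of_basicOpen_cover (isInvertible_restrict V.ι hL)
  rintro ⟨x, hx⟩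
  obtain ⟨a, hxa, hA⟩ := h x hx
  refine ⟨V.topIso.inv a, ?_, ?_⟩
  · rw [← Scheme.Opens.ι_image_basicOpen_topIso_inv V a] at hxa
    obtain ⟨y, hy, hyx⟩ := hxa
    have : y = ⟨x, hx⟩ := Subtype.ext hyx
    exact this ▸ hy
  · rw [isAmpleOn_restrict_iff V.ι hL, Scheme.Opens.ι_image_basicOpen_topIso_inv]
    exact hA

/-- Relative ampleness can be checked locally on the base. -/
theorem isRelAmple_of_local {S : Scheme.{u}} (f : X ⟶ S) [QuasiCompact f] {L : X.Modules}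
    (hL : PicF.IsInvertible L)
    (h : ∀ y : S, ∃ U : S.Opens, y ∈ U ∧
      ∀ V : S.affineOpens, V.1 ≤ U → IsAmpleOn L (f ⁻¹ᵁ V.1)) :
    RelAmple.IsRelAmple f L := by
  rw [isRelAmple_iff f hL]
  refine ⟨inferInstance, fun V => ?_⟩
  apply isAmpleOn_of_basicOpen_cover hL
    (QuasiCompact.isCompact_preimage (f := f) _ V.1.isOpen V.2.isCompact)
  intro x hx
  obtain ⟨U, hyU, hU⟩ := h (f x)
  obtain ⟨a, hale, hxa⟩ := V.2.exists_basicOpen_le (V := U ⊓ V.1) ⟨f x, ⟨hyU, hx⟩⟩ hx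
  refine ⟨f.app V.1 a, ?_, ?_⟩
  · rw [← Scheme.preimage_basicOpen]
    exact hxa
  · rw [← Scheme.preimage_basicOpen]
    exact hU ⟨S.basicOpen a, V.2.basicOpen a⟩ (hale.trans inf_le_left)

end TensH8
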