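import Mathlib
import Groth.Prelude
import Groth.Agent.Lib.Tens13_helper8

/-!
# Frames from isomorphisms; weight-zero frames and quasi-affineness (helper8)
APPEND-ONLY once landed.
-/

set_option autoImplicit false

namespace TensH8

open AlgebraicGeometry CategoryTheory CategoryTheory.Limits TopologicalSpace Opposite TensorProduct
open QcqsLoc MonoidalCategory GenLocH8 FLFH8 QCohExtn

universe u

variable {X : Scheme.{u}}

theorem ap_inv_hom {M M' : X.Modules} (α : M ≅ M') (W : X.Opens) (m : Γ(M, W)) :
    ap α.inv W (ap α.hom W m) = m := by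
  have := congrArg (fun φ => Scheme.Modules.Hom.app φ W m) α.hom_inv_id
  exact this

theorem ap_hom_inv {M M' : X.Modules} (α : M ≅ M') (W : X.Opens) (m : Γ(M', W)) :
    ap α.hom W (ap α.inv W m) = m := by
  have := congrArg (fun φ => Scheme.Modules.Hom.app φ W m) α.inv_hom_id
  exact this

theorem isGen_of_iso {M M' : X.Modules} (α : M ≅ M') {W : X.Opens} {e : Γ(M, W)}
    (he : IsGen M W e) : IsGen M' W (ap α.hom W e) := by
  intro O hO
  obtain ⟨h1, h2⟩ := he O hO
  constructor
  · intro l
    obtain ⟨c, hc⟩ := h1 (ap α.inv O l)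
    refine ⟨c, ?_⟩
    rw [← ap_rF, ← ap_smul, ← hc, ap_hom_inv]
  · intro c hc
    apply h2
    rw [← ap_rF, ← ap_smul] at hc
    have := congrArg (ap α.inv O) hc
    rwa [ap_inv_hom, map_zero] at this

/-- The frame of weight one given by an isomorphism. -/
noncomputable def Frame.ofIso {M M' : X.Modules} (α : M ≅ M') : Frame M M' 1 where
  φ W e := ap α.hom W e
  isGen he := isGen_of_iso α he
  res h e := (ap_rF α.hom h e).symm
  smul W u e := by rw [pow_one, ap_smul]

/-- Transport of a frame along an isomorphism of the framed module. -/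
noncomputable def Frame.mapIso {L M M' : X.Modules} {N : ℕ} (Φ : Frame L M N) (α : M ≅ M') :
    Frame L M' N where
  φ W e := ap α.hom W (Φ.φ W e)
  isGen he := isGen_of_iso α (Φ.isGen he)
  res h e := by rw [← ap_rF, Φ.res]
  smul W u e := by rw [Φ.smul, ap_smul]

theorem isAmple_congr {M M' : X.Modules} (α : M ≅ M') : CohB1.IsAmple M ↔ CohB1.IsAmple M' := by
  constructor
  · intro h
    exact (isAmple_iff_of_frame h.1 Nat.one_pos (Frame.ofIso α)).mp h
  · intro h
    exact (isAmple_iff_of_frame h.1 Nat.one_pos (Frame.ofIso α.symm)).mp h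

theorem isInvertible_structureModule : PicF.IsInvertible (Coh.structureModule X) := by
  apply isInvertible_of_gens
  intro x
  obtain ⟨_, ⟨W, hW : IsAffineOpen W, rfl⟩, hxW, -⟩ :=
    (X.isBasis_affineOpens).exists_subset_of_mem_open (Set.mem_univ x) isOpen_univ
  exact ⟨W, hW, hxW, _, isGen_one W⟩

theorem genLocus_structureModule (s : Coh.structureModule X ⟶ Coh.structureModule X) :
    CohB1.genLocus _ s = X.basicOpen (ofM (SecTwist.val s ⊤)) := by
  have := genLocus_inf_eq s (isGen_one (X := X) ⊤) (ofM (SecTwist.val s ⊤))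
    (mul_one (ofM (SecTwist.val s ⊤))).symm
  rwa [inf_top_eq] at this

/-- If `M` carries a frame of weight zero, then `M` is ample iff the scheme is quasi-affine. -/
theorem isAmple_iff_isQuasiAffine_of_frame [CompactSpace X] {L M : X.Modules}
    (hL : PicF.IsInvertible L) (Φ : Frame L M 0) : CohB1.IsAmple M ↔ X.IsQuasiAffine := by
  constructor
  · rintro ⟨-, -, h⟩
    apply Scheme.IsQuasiAffine.of_forall_exists_mem_basicOpen
    intro x
    obtain ⟨n, s, hxs, haff⟩ := h x
    obtain ⟨s', hs'⟩ := Frame.transfer_pow hL (Φ.powOf (n + 1)) (Frame.unit L) 1 Nat.one_pos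
      (by simp) s
    rw [genLocus_structureModule] at hs'
    exact ⟨_, hs' ▸ haff, hs' ▸ hxs⟩
  · intro h
    exact isAmple_of_isQuasiAffine (isInvertible_of_frame hL Φ)

theorem isAmple_structureModule_iff [CompactSpace X] :
    CohB1.IsAmple (Coh.structureModule X) ↔ X.IsQuasiAffine :=
  isAmple_iff_isQuasiAffine_of_frame isInvertible_structureModule
    (Frame.unit (Coh.structureModule X))

end TensH8
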