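import Mathlib
import Groth.Prelude
import Groth.Agent.Lib.Tens14_helper8
import Groth.Agent.Lib.SepCrit_helper8

/-!
# Schemes covered by affine opens `X_s` are separated (helper8)
APPEND-ONLY once landed.
-/

set_option autoImplicit false

namespace TensH8

open AlgebraicGeometry CategoryTheory CategoryTheory.Limits TopologicalSpace Opposite TensorProduct
open QcqsLoc MonoidalCategory GenLocH8 FLFH8 QCohExtn

universe u

variable {X : Scheme.{u}}

/-- A section `s : O_X ⟶ M` is bijective on sections over every open contained in `X_s`. -/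
theorem bijective_ap_of_le_genLocus {M : X.Modules} (s : Coh.structureModule X ⟶ M) {O : X.Opens}
    (hO : O ≤ CohB1.genLocus M s) : Function.Bijective (ap s O) := by
  have hloc : ∀ x ∈ O, ∃ V : X.Opens, x ∈ V ∧ V ≤ O ∧
      ∀ W : X.Opens, W ≤ V → Function.Bijective (ap s W) := by
    intro x hx
    obtain ⟨V, hxV, hV⟩ := (mem_genLocus_iff M s x).1 (hO hx)
    exact ⟨V ⊓ O, ⟨hxV, hx⟩, inf_le_right, fun W hW => hV W (hW.trans inf_le_left)⟩
  constructor
  · rw [injective_iff_map_eq_zero]
    intro a ha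
    apply eq_zero_of_cover (Coh.structureModule X)
    intro x hx
    obtain ⟨V, hxV, hVO, hV⟩ := hloc x hx
    refine ⟨V, hVO, hxV, ?_⟩
    apply (hV V le_rfl).1
    rw [ap_rF, ha, map_zero, map_zero]
  · intro l
    choose V hxV hVO hV using hloc
    let Oi : {x // x ∈ O} → X.Opens := fun x => V x.1 x.2
    have hsurj : ∀ i : {x // x ∈ O}, ∃ a : Γ(Coh.structureModule X, Oi i),
        ap s (Oi i) a = rF M (hVO i.1 i.2) l := fun i => (hV i.1 i.2 _ le_rfl).2 _
    choose a ha using hsurj
    obtain ⟨t, ht⟩ := glue (Coh.structureModule X) Oi O (fun i => hVO i.1 i.2)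
      (fun x hx => Opens.mem_iSup.mpr ⟨⟨x, hx⟩, hxV x hx⟩) a (by
        intro i j
        apply (hV i.1 i.2 (Oi i ⊓ Oi j) inf_le_left).1
        rw [ap_rF, ap_rF, ha, ha, rF_rF, rF_rF])
    refine ⟨t, ?_⟩
    apply eq_of_cover M
    intro x hx
    refine ⟨Oi ⟨x, hx⟩, hVO x hx, hxV x hx, ?_⟩
    rw [← ap_rF, ht, ha]

theorem isGen_val_of_le_genLocus {M : X.Modules} (s : Coh.structureModule X ⟶ M) {O : X.Opens}
    (hO : O ≤ CohB1.genLocus M s) : IsGen M O (SecTwist.val s O) := by
  intro O' hO'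
  rw [rF_val]
  obtain ⟨hinj, hsurj⟩ := bijective_ap_of_le_genLocus s (hO'.trans hO)
  have hsm : ∀ c : Γ(X, O'), c • (show Γ(M, O') from SecTwist.val s O') = ap s O' (toM c) := by
    intro c
    have h1 : toM c = c • toM (1 : Γ(X, O')) := (mul_one c).symm
    calc c • (show Γ(M, O') from SecTwist.val s O') = c • ap s O' (toM 1) := rfl
      _ = ap s O' (c • toM 1) := (ap_smul s c _).symm
      _ = ap s O' (toM c) := by rw [← h1]
  constructor
  · intro l
    obtain ⟨a, rfl⟩ := hsurj l
    exact ⟨ofM a, (hsm (ofM a)).symm⟩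
  · intro c hc
    have hc' : ap s O' (toM c) = 0 := (hsm c).symm.trans hc
    exact hinj (hc'.trans (map_zero _).symm)

theorem exists_pow_mul_eq_res {V : X.Opens} (hV : IsAffineOpen V) (f : Γ(X, V)) {A : X.Opens}
    (hA : A = X.basicOpen f) (hAV : A ≤ V) (c : Γ(X, A)) :
    ∃ (k : ℕ) (a : Γ(X, V)), rX hAV f ^ k * c = rX hAV a := by
  subst hA
  have hloc := hV.isLocalization_basicOpen f
  letI : Algebra Γ(X, V) Γ(X, X.basicOpen f) := (rX hAV).toAlgebra
  obtain ⟨⟨a, ⟨_, k, rfl⟩⟩, hak⟩ := IsLocalization.surj (Submonoid.powers f) c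
  refine ⟨k, a, ?_⟩
  have : c * (algebraMap Γ(X, V) Γ(X, X.basicOpen f)) (f ^ k) =
      (algebraMap Γ(X, V) Γ(X, X.basicOpen f)) a := hak
  rw [mul_comm, map_pow] at this
  exact this

/-- Functions on `X_s ∩ X_t` (with `X_t` affine) are generated by those on `X_s` and on `X_t`. -/
theorem mem_closure_of_genLocus {M : X.Modules} (s t : Coh.structureModule X ⟶ M)
    {U V : X.Opens} (hU : U = CohB1.genLocus M s) (hV : V = CohB1.genLocus M t)
    (hVaff : IsAffineOpen V) (c : Γ(X, U ⊓ V)) :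
    c ∈ Subring.closure (Set.range (rX (inf_le_left : U ⊓ V ≤ U)) ∪
      Set.range (rX (inf_le_right : U ⊓ V ≤ V))) := by
  have hgs : IsGen M U (SecTwist.val s U) := isGen_val_of_le_genLocus s hU.le
  have hgt : IsGen M V (SecTwist.val t V) := isGen_val_of_le_genLocus t hV.le
  obtain ⟨f, hf⟩ := hgt.exists_coef (SecTwist.val s V)
  obtain ⟨f', hf'⟩ := hgs.exists_coef (SecTwist.val t U)
  have hA : U ⊓ V = X.basicOpen f := by
    rw [hU]
    exact genLocus_inf_eq s hgt f hf
  have hl : U ⊓ V ≤ U := inf_le_left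
  have hr : U ⊓ V ≤ V := inf_le_right
  have e1 : SecTwist.val t (U ⊓ V) = rX hl f' • rF M hl (SecTwist.val s U) :=
    val_res_coef t hf' hl
  have e2 : SecTwist.val s (U ⊓ V) = rX hr f • rF M hr (SecTwist.val t V) :=
    val_res_coef s hf hr
  have hone : rX hr f * rX hl f' = 1 := by
    apply IsGen.coef_ext (hgs.res hl)
    refine (mul_smul _ _ _).trans ?_
    refine (congrArg (fun z : Γ(M, U ⊓ V) => rX hr f • z)
      (e1.symm.trans (rF_val t hr).symm)).trans ?_
    exact (e2.symm.trans (rF_val s hl).symm).trans (one_smul _ _).symm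
  obtain ⟨k, a, hka⟩ := exists_pow_mul_eq_res hVaff f hA hr c
  have hc : c = rX hl f' ^ k * rX hr a := by
    rw [← hka, ← mul_assoc, ← mul_pow, mul_comm (rX hl f'), hone, one_pow, one_mul]
  rw [hc]
  exact mul_mem (pow_mem (Subring.subset_closure (Set.mem_union_left _ (Set.mem_range_self f'))) k)
    (Subring.subset_closure (Set.mem_union_right _ (Set.mem_range_self a)))

/-- A scheme covered by affine opens of the form `X_s`, with `s` sections of positive powers of an
invertible module, is separated. -/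
theorem isSeparated_of_affine_genLocus {L : X.Modules} (hL : PicF.IsInvertible L)
    (h : ∀ x : X, ∃ (n : ℕ) (s : Coh.structureModule X ⟶ CohB1.tensorPow L (n + 1)),
      x ∈ CohB1.genLocus _ s ∧ IsAffineOpen (CohB1.genLocus _ s)) :
    X.IsSeparated := by
  choose n s hxs haff using h
  let U : X → X.Opens := fun x => CohB1.genLocus _ (s x)
  have hU : IsOpenCover U := eq_top_iff.mpr fun x _ => Opens.mem_iSup.mpr ⟨x, hxs x⟩
  have hint : ∀ x y, IsAffineOpen (U x ⊓ U y) := by
    intro x y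
    haveI : IsAffineHom (CohB1.genLocus _ (s x)).ι :=
      isAffineHom_genLocus_ι (isInvertible_tensorPow hL (n x + 1)) (s x)
    have h1 : IsAffineOpen ((CohB1.genLocus _ (s x)).ι ⁻¹ᵁ (CohB1.genLocus _ (s y))) :=
      (haff y).preimage _
    have h2 := h1.image_of_isOpenImmersion (CohB1.genLocus _ (s x)).ι
    rw [Scheme.Hom.image_preimage_eq_opensRange_inf, Scheme.Opens.opensRange_ι] at h2
    exact h2
  haveI : IsSeparated X.toSpecΓ := by
    refine SepCritH8.isSeparated_of_affine_cover X.toSpecΓ U hU haff hint ?_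
    intro x y c
    obtain ⟨s1, hs1⟩ := Frame.transfer_pow hL (Frame.pow L (n x + 1))
      (Frame.pow L ((n x + 1) * (n y + 1))) (n y + 1) (Nat.succ_pos _) rfl (s x)
    obtain ⟨t1, ht1⟩ := Frame.transfer_pow hL (Frame.pow L (n y + 1))
      (Frame.pow L ((n x + 1) * (n y + 1))) (n x + 1) (Nat.succ_pos _) (Nat.mul_comm _ _) (s y)
    exact mem_closure_of_genLocus s1 t1 hs1.symm ht1.symm (haff y) c
  constructor
  rw [← terminal.comp_from X.toSpecΓ]
  infer_instance

end TensH8
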