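import Mathlib
import Groth.Prelude
import Groth.Agent.Lib.Tens15_helper8

/-!
# Generators are local; frames from local data (helper8)
APPEND-ONLY once landed.
-/

set_option autoImplicit false

namespace TensH8

open AlgebraicGeometry CategoryTheory CategoryTheory.Limits TopologicalSpace Opposite TensorProduct
open QcqsLoc MonoidalCategory GenLocH8 FLFH8 QCohExtn

universe u

variable {X : Scheme.{u}}

/-- Gluing of functions. -/
theorem glueX {ι : Type*} (O : ι → X.Opens) (U : X.Opens) (hle : ∀ i, O i ≤ U)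
    (hcov : U ≤ ⨆ i, O i) (c : ∀ i, Γ(X, O i))
    (hc : ∀ i j, rX (inf_le_left : O i ⊓ O j ≤ O i) (c i) =
      rX (inf_le_right : O i ⊓ O j ≤ O j) (c j)) :
    ∃ t : Γ(X, U), ∀ i, rX (hle i) t = c i :=
  glue (Coh.structureModule X) O U hle hcov (fun i => toM (c i)) hc

theorem eqX_of_cover {U : X.Opens} (s t : Γ(X, U))
    (h : ∀ x ∈ U, ∃ (W : X.Opens) (hW : W ≤ U), x ∈ W ∧ rX hW s = rX hW t) : s = t :=
  eq_of_cover (Coh.structureModule X) (toM s) (toM t) h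

/-- Being a generator can be checked on a basis of opens. -/
theorem isGen_of_basis {M : X.Modules} {W : X.Opens} (m : Γ(M, W)) (B : Set X.Opens)
    (hB : ∀ (O : X.Opens) (x : X), O ≤ W → x ∈ O → ∃ U' ∈ B, x ∈ U' ∧ U' ≤ O)
    (h : ∀ U' ∈ B, ∀ hU' : U' ≤ W, (∀ l : Γ(M, U'), ∃ c : Γ(X, U'), l = c • rF M hU' m) ∧
      ∀ c : Γ(X, U'), c • rF M hU' m = 0 → c = 0) :
    IsGen M W m := by
  intro O hO
  have hinj : ∀ (O : X.Opens) (hO : O ≤ W) (c : Γ(X, O)), c • rF M hO m = 0 → c = 0 := by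
    intro O hO c hc
    apply eqX_of_cover c 0
    intro x hx
    obtain ⟨U', hU'B, hxU', hU'O⟩ := hB O x hO hx
    refine ⟨U', hU'O, hxU', ?_⟩
    rw [map_zero]
    apply (h U' hU'B (hU'O.trans hO)).2
    have := congrArg (rF M hU'O) hc
    rw [rF_smul, rF_rF, map_zero] at this
    exact this
  refine ⟨fun l => ?_, hinj O hO⟩
  have hloc : ∀ x : {x // x ∈ O}, ∃ (U' : X.Opens) (hU' : U' ≤ O), x.1 ∈ U' ∧
      ∃ c : Γ(X, U'), rF M hU' l = c • rF M (hU'.trans hO) m := by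
    rintro ⟨x, hx⟩
    obtain ⟨U', hU'B, hxU', hU'O⟩ := hB O x hO hx
    obtain ⟨c, hc⟩ := (h U' hU'B (hU'O.trans hO)).1 (rF M hU'O l)
    exact ⟨U', hU'O, hxU', c, hc⟩
  choose U' hU' hxU' c hc using hloc
  obtain ⟨t, ht⟩ := glueX U' O hU' (fun x hx => Opens.mem_iSup.mpr ⟨⟨x, hx⟩, hxU' ⟨x, hx⟩⟩) c (by
    intro i j
    rw [← sub_eq_zero]
    apply hinj (U' i ⊓ U' j) (inf_le_left.trans ((hU' i).trans hO))
    rw [sub_smul, sub_eq_zero]
    have h1 := congrArg (rF M (inf_le_left : U' i ⊓ U' j ≤ U' i)) (hc i)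
    have h2 := congrArg (rF M (inf_le_right : U' i ⊓ U' j ≤ U' j)) (hc j)
    rw [rF_rF, rF_smul, rF_rF] at h1 h2
    exact h1.symm.trans h2)
  refine ⟨t, ?_⟩
  apply eq_of_cover M
  intro x hx
  refine ⟨U' ⟨x, hx⟩, hU' ⟨x, hx⟩, hxU' ⟨x, hx⟩, ?_⟩
  rw [rF_smul, rF_rF, ht, hc]

/-- Being a generator is a local property. -/
theorem isGen_of_cover {M : X.Modules} {W : X.Opens} (m : Γ(M, W))
    (h : ∀ x ∈ W, ∃ (W' : X.Opens) (hW' : W' ≤ W), x ∈ W' ∧ IsGen M W' (rF M hW' m)) :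
    IsGen M W m := by
  refine isGen_of_basis m {U' | ∃ (W' : X.Opens) (hW' : W' ≤ W), U' ≤ W' ∧ IsGen M W' (rF M hW' m)}
    ?_ ?_
  · intro O x hO hx
    obtain ⟨W', hW', hxW', hg⟩ := h x (hO hx)
    exact ⟨O ⊓ W', ⟨W', hW', inf_le_right, hg⟩, ⟨hx, hxW'⟩, inf_le_left⟩
  · rintro U' ⟨W', hW', hU'W', hg⟩ hU'
    have := hg U' hU'W'
    rw [rF_rF] at this
    exact this

theorem isGen_smul_of_isUnit {M : X.Modules} {W : X.Opens} {m : Γ(M, W)} (hm : IsGen M W m)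
    {u : Γ(X, W)} (hu : IsUnit u) : IsGen M W (u • m) := by
  intro O hO
  obtain ⟨h1, h2⟩ := hm O hO
  have hu' : IsUnit (rX hO u) := hu.map (rX hO)
  obtain ⟨v, hv⟩ := hu'.exists_left_inv
  rw [rF_smul]
  constructor
  · intro l
    obtain ⟨c, hc⟩ := h1 l
    refine ⟨c * v, ?_⟩
    rw [← mul_smul, mul_assoc, hv, mul_one]
    exact hc
  · intro c hc
    rw [← mul_smul] at hc
    have h3 := h2 _ hc
    have h4 : c * rX hO u * v = 0 := by rw [h3, zero_mul]
    rwa [mul_assoc, mul_comm (rX hO u), hv, mul_one] at h4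

/-- If `c • e` and `e` are both generators, `c` is a unit. -/
theorem isUnit_of_isGen_smul {M : X.Modules} {W : X.Opens} {e : Γ(M, W)} (he : IsGen M W e)
    {c : Γ(X, W)} (hc : IsGen M W (c • e)) : IsUnit c := by
  obtain ⟨v, hv⟩ := hc.exists_coef e
  have h2 : v * c = 1 := by
    apply IsGen.coef_ext he
    rw [mul_smul, ← hv, one_smul]
  exact IsUnit.of_mul_eq_one v (by rw [mul_comm]; exact h2)

/-- Local data for a frame: generators of `L` and of `M` over a cover, with homogeneous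
transition behaviour. -/
structure LocalFrame (L M : X.Modules) (N : ℕ) where
  ι : Type u
  O : ι → X.Opens
  e : ∀ k, Γ(L, O k)
  m : ∀ k, Γ(M, O k)
  he : ∀ k, IsGen L (O k) (e k)
  hm : ∀ k, IsGen M (O k) (m k)
  cover : ∀ x : X, ∃ k, x ∈ O k
  compat : ∀ k l (c : Γ(X, O k ⊓ O l)),
    rF L (inf_le_left : O k ⊓ O l ≤ O k) (e k) = c • rF L (inf_le_right : O k ⊓ O l ≤ O l) (e l) →
    rF M (inf_le_left : O k ⊓ O l ≤ O k) (m k) =
      c ^ N • rF M (inf_le_right : O k ⊓ O l ≤ O l) (m l)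

namespace LocalFrame

variable {L M : X.Modules} {N : ℕ} (D : LocalFrame L M N)

theorem compat' (k l : D.ι) {Q : X.Opens} (hk : Q ≤ D.O k) (hl : Q ≤ D.O l) (c : Γ(X, Q))
    (h : rF L hk (D.e k) = c • rF L hl (D.e l)) :
    rF M hk (D.m k) = c ^ N • rF M hl (D.m l) := by
  have hQ : Q ≤ D.O k ⊓ D.O l := le_inf hk hl
  obtain ⟨d0, hd0⟩ := ((D.he l).res inf_le_right).exists_coef
    (rF L (inf_le_left : D.O k ⊓ D.O l ≤ D.O k) (D.e k))
  have h1 := D.compat k l d0 hd0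
  have h2 := congrArg (rF L hQ) hd0
  have h3 := congrArg (rF M hQ) h1
  rw [rF_rF, rF_smul, rF_rF] at h2
  rw [rF_rF, rF_smul, rF_rF, map_pow] at h3
  have h4 : c = rX hQ d0 := by
    apply IsGen.coef_ext ((D.he l).res hl)
    rw [← h, h2]
  rw [h4]
  exact h3

/-- The local coefficient of a section of `L` relative to the `k`-th generator. -/
noncomputable def coef (W : X.Opens) (e' : Γ(L, W)) (k : D.ι) : Γ(X, W ⊓ D.O k) :=
  Classical.choose (((D.he k).res (inf_le_right : W ⊓ D.O k ≤ D.O k)).exists_coef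
    (rF L (inf_le_left : W ⊓ D.O k ≤ W) e'))

theorem coef_spec (W : X.Opens) (e' : Γ(L, W)) (k : D.ι) :
    rF L (inf_le_left : W ⊓ D.O k ≤ W) e' =
      D.coef W e' k • rF L (inf_le_right : W ⊓ D.O k ≤ D.O k) (D.e k) :=
  Classical.choose_spec (((D.he k).res (inf_le_right : W ⊓ D.O k ≤ D.O k)).exists_coef
    (rF L (inf_le_left : W ⊓ D.O k ≤ W) e'))

theorem exists_phi (W : X.Opens) (e' : Γ(L, W)) :
    ∃ t : Γ(M, W), ∀ k, rF M (inf_le_left : W ⊓ D.O k ≤ W) t =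
      D.coef W e' k ^ N • rF M (inf_le_right : W ⊓ D.O k ≤ D.O k) (D.m k) := by
  refine glue M (fun k => W ⊓ D.O k) W (fun k => inf_le_left)
    (fun x hx => by
      obtain ⟨k, hk⟩ := D.cover x
      exact Opens.mem_iSup.mpr ⟨k, hx, hk⟩) _ ?_
  intro k l
  set Q := (W ⊓ D.O k) ⊓ (W ⊓ D.O l) with hQdef
  have hQk : Q ≤ W ⊓ D.O k := inf_le_left
  have hQl : Q ≤ W ⊓ D.O l := inf_le_right
  have e1 := congrArg (rF L hQk) (D.coef_spec W e' k)
  have e2 := congrArg (rF L hQl) (D.coef_spec W e' l)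
  rw [rF_rF, rF_smul, rF_rF] at e1 e2
  -- transition on `Q`
  obtain ⟨d, hd⟩ := ((D.he l).res (hQl.trans inf_le_right)).exists_coef
    (rF L (hQk.trans inf_le_right) (D.e k))
  have h1 := D.compat' k l (hQk.trans inf_le_right) (hQl.trans inf_le_right) d hd
  have h2 : rX hQk (D.coef W e' k) * d = rX hQl (D.coef W e' l) := by
    apply IsGen.coef_ext ((D.he l).res (hQl.trans inf_le_right))
    rw [mul_smul, ← hd, ← e1, ← e2]
  show rF M hQk _ = rF M hQl _
  rw [rF_smul, rF_smul, rF_rF, rF_rF, map_pow, map_pow, h1, ← mul_smul, ← mul_pow, h2]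

/-- The frame function extending the local data. -/
noncomputable def phi (W : X.Opens) (e' : Γ(L, W)) : Γ(M, W) :=
  Classical.choose (D.exists_phi W e')

theorem phi_spec (W : X.Opens) (e' : Γ(L, W)) {k : D.ι} {Q : X.Opens} (hQW : Q ≤ W)
    (hQk : Q ≤ D.O k) (c : Γ(X, Q)) (h : rF L hQW e' = c • rF L hQk (D.e k)) :
    rF M hQW (D.phi W e') = c ^ N • rF M hQk (D.m k) := by
  have hQ : Q ≤ W ⊓ D.O k := le_inf hQW hQk
  have h1 := congrArg (rF M hQ) (Classical.choose_spec (D.exists_phi W e') k)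
  rw [rF_rF, rF_smul, rF_rF, map_pow] at h1
  have h2 : c = rX hQ (D.coef W e' k) := by
    apply IsGen.coef_ext ((D.he k).res hQk)
    have h3 := congrArg (rF L hQ) (D.coef_spec W e' k)
    rw [rF_rF, rF_smul, rF_rF] at h3
    rw [← h, h3]
  rw [h2]
  exact h1

/-- The frame extending the local data. -/
noncomputable def toFrame : Frame L M N where
  φ W e' := D.phi W e'
  isGen := by
    intro W e' he'
    apply isGen_of_cover
    intro x hx
    obtain ⟨k, hk⟩ := D.cover x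
    have hQW : W ⊓ D.O k ≤ W := inf_le_left
    have hQk : W ⊓ D.O k ≤ D.O k := inf_le_right
    obtain ⟨c, hc⟩ := ((D.he k).res hQk).exists_coef (rF L hQW e')
    refine ⟨W ⊓ D.O k, hQW, ⟨hx, hk⟩, ?_⟩
    rw [D.phi_spec W e' hQW hQk c hc]
    have hu : IsUnit c := isUnit_of_isGen_smul ((D.he k).res hQk) (hc ▸ he'.res hQW)
    exact isGen_smul_of_isUnit ((D.hm k).res hQk) (hu.pow N)
  res := by
    intro W W' h e'
    apply eq_of_cover M
    intro x hx
    obtain ⟨k, hk⟩ := D.cover x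
    have hQW' : W' ⊓ D.O k ≤ W' := inf_le_left
    have hQk : W' ⊓ D.O k ≤ D.O k := inf_le_right
    obtain ⟨c, hc⟩ := ((D.he k).res hQk).exists_coef (rF L hQW' (rF L h e'))
    refine ⟨W' ⊓ D.O k, hQW', ⟨hx, hk⟩, ?_⟩
    rw [D.phi_spec W' (rF L h e') hQW' hQk c hc, rF_rF]
    rw [rF_rF] at hc
    exact D.phi_spec W e' (hQW'.trans h) hQk c hc
  smul := by
    intro W u e'
    apply eq_of_cover M
    intro x hx
    obtain ⟨k, hk⟩ := D.cover x
    have hQW : W ⊓ D.O k ≤ W := inf_le_left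
    have hQk : W ⊓ D.O k ≤ D.O k := inf_le_right
    obtain ⟨c, hc⟩ := ((D.he k).res hQk).exists_coef (rF L hQW e')
    refine ⟨W ⊓ D.O k, hQW, ⟨hx, hk⟩, ?_⟩
    have hc' : rF L hQW (u • e') = (rX hQW u * c) • rF L hQk (D.e k) := by
      rw [rF_smul, hc, mul_smul]
    rw [D.phi_spec W (u • e') hQW hQk _ hc', rF_smul, D.phi_spec W e' hQW hQk c hc, map_pow,
      mul_pow, mul_smul]

theorem toFrame_φ_eq (k : D.ι) : D.toFrame.φ (D.O k) (D.e k) = D.m k := by
  have h := D.phi_spec (D.O k) (D.e k) (k := k) le_rfl le_rfl 1 (by rw [one_smul])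
  rw [one_pow, one_smul, SubExt.rF_self, SubExt.rF_self] at h
  exact h

end LocalFrame

end TensH8
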