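import Mathlib
import Groth.Prelude
import Groth.Agent.Lib.Tens16_helper8
import Groth.Agent.Lib.GenLoc2_helper8

/-!
# Pullback of frames and of section loci (helper8)
APPEND-ONLY once landed.
-/

set_option autoImplicit false

namespace TensH8

open AlgebraicGeometry CategoryTheory CategoryTheory.Limits TopologicalSpace Opposite TensorProduct
open QcqsLoc MonoidalCategory GenLocH8 FLFH8 QCohExtn PBH8

universe u

variable {Z S : Scheme.{u}} (u : Z ⟶ S)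

theorem rF_cUV (F : S.Modules) {U U' : Z.Opens} {V : S.Opens} (h : U ≤ u ⁻¹ᵁ V) (hU' : U' ≤ U)
    (x : Γ(F, V)) :
    rF ((Scheme.Modules.pullback u).obj F) hU' (cUV u F h x) = cUV u F (hU'.trans h) x :=
  cUV_res u F h hU' x

/-- Compatibility of `cUV` with restriction on the base. -/
theorem cUV_resV (F : S.Modules) {U : Z.Opens} {V V' : S.Opens} (hV : V' ≤ V)
    (h' : U ≤ u ⁻¹ᵁ V') (x : Γ(F, V)) :
    cUV u F h' (rF F hV x) =
      cUV u F (h'.trans (show u ⁻¹ᵁ V' ≤ u ⁻¹ᵁ V from fun _ hz => hV hz)) x := by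
  have h1 : ((Scheme.Modules.pullbackPushforwardAdjunction u).unit.app F).app V' (rF F hV x) =
      rF ((Scheme.Modules.pullback u).obj F)
        (show u ⁻¹ᵁ V' ≤ u ⁻¹ᵁ V from fun _ hz => hV hz)
        (((Scheme.Modules.pullbackPushforwardAdjunction u).unit.app F).app V x) :=
    QCohCrit.app_naturality ((Scheme.Modules.pullbackPushforwardAdjunction u).unit.app F)
      (homOfLE hV) x
  unfold cUV
  rw [h1]
  exact rF_rF ((Scheme.Modules.pullback u).obj F) _ _ _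

theorem isGen_cUV {L : S.Modules} (hL : PicF.IsInvertible L) {V : S.Opens} (hV : IsAffineOpen V)
    {e₀ : Γ(L, V)} (he : IsGen L V e₀) :
    IsGen ((Scheme.Modules.pullback u).obj L) (u ⁻¹ᵁ V) (cUV u L le_rfl e₀) := by
  haveI := isQuasicoherent_of_isInvertible hL
  refine isGen_of_basis _ {U' | IsAffineOpen U'} ?_ ?_
  · intro O x _ hx
    obtain ⟨_, ⟨U', hU' : IsAffineOpen U', rfl⟩, hxU', hle⟩ :=
      (Z.isBasis_affineOpens).exists_subset_of_mem_open hx O.isOpen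
    exact ⟨U', hU', hxU', hle⟩
  · intro U' hU' hle
    rw [rF_cUV]
    constructor
    · intro l
      have hspan := span_cUV u L hU' hV (hle.trans le_rfl)
      have hl : l ∈ Submodule.span Γ(Z, U') {cUV u L (hle.trans le_rfl) e₀} := by
        have hle' : Submodule.span Γ(Z, U') (Set.range (cUV u L (hle.trans le_rfl))) ≤
            Submodule.span Γ(Z, U') {cUV u L (hle.trans le_rfl) e₀} := by
          rw [Submodule.span_le]
          rintro _ ⟨a, rfl⟩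
          obtain ⟨c, hc⟩ := he.exists_coef a
          rw [hc, cUV_smul]
          exact Submodule.smul_mem _ _ (Submodule.subset_span rfl)
        exact hle' (hspan ▸ Submodule.mem_top)
      obtain ⟨b, hb⟩ := Submodule.mem_span_singleton.1 hl
      exact ⟨b, hb.symm⟩
    · intro c hc
      exact cUV_gen_torsionFree u L (hle.trans le_rfl) hU' hV e₀ he c hc

/-- The local frame data of a pulled-back frame. -/
noncomputable def pullbackLocalFrame {L M : S.Modules} (hL : PicF.IsInvertible L) {N : ℕ}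
    (Φ : Frame L M N) :
    LocalFrame ((Scheme.Modules.pullback u).obj L) ((Scheme.Modules.pullback u).obj M) N where
  ι := {p : Σ V : S.Opens, Γ(L, V) // IsAffineOpen p.1 ∧ IsGen L p.1 p.2}
  O p := u ⁻¹ᵁ p.1.1
  e p := cUV u L le_rfl p.1.2
  m p := cUV u M le_rfl (Φ.φ p.1.1 p.1.2)
  he p := isGen_cUV u hL p.2.1 p.2.2
  hm p := isGen_cUV u (isInvertible_of_frame hL Φ) p.2.1 (Φ.isGen p.2.2)
  cover x := by
    obtain ⟨V, hV, hxV, e, he⟩ := exists_isGen hL (u x)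
    exact ⟨⟨⟨V, e⟩, hV, he⟩, hxV⟩
  compat := by
    rintro ⟨⟨V, e₀⟩, hV, he⟩ ⟨⟨V', e₀'⟩, hV', he'⟩ (c : Γ(Z, u ⁻¹ᵁ (V ⊓ V'))) hc
    have hl : V ⊓ V' ≤ V := inf_le_left
    have hr : V ⊓ V' ≤ V' := inf_le_right
    have hpl : u ⁻¹ᵁ (V ⊓ V') ≤ u ⁻¹ᵁ V := fun _ hz => hz.1
    have hpr : u ⁻¹ᵁ (V ⊓ V') ≤ u ⁻¹ᵁ V' := fun _ hz => hz.2
    obtain ⟨d, hd⟩ := (he'.res hr).exists_coef (rF L hl e₀)
    -- the pulled-back generators on the intersection
    have g1 : rF ((Scheme.Modules.pullback u).obj L) hpl (cUV u L le_rfl e₀) =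
        u.appLE (V ⊓ V') (u ⁻¹ᵁ (V ⊓ V')) le_rfl d •
          rF ((Scheme.Modules.pullback u).obj L) hpr (cUV u L le_rfl e₀') := by
      rw [rF_cUV, rF_cUV, ← cUV_resV u L hl le_rfl, hd, cUV_smul, cUV_resV u L hr le_rfl]
    have hgen : IsGen ((Scheme.Modules.pullback u).obj L) (u ⁻¹ᵁ (V ⊓ V'))
        (rF ((Scheme.Modules.pullback u).obj L) hpr (cUV u L le_rfl e₀')) :=
      (isGen_cUV u hL hV' he').res hpr
    have hc' : c = u.appLE (V ⊓ V') (u ⁻¹ᵁ (V ⊓ V')) le_rfl d := by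
      apply IsGen.coef_ext hgen
      exact hc.symm.trans g1
    have g2 : rF M hl (Φ.φ V e₀) = d ^ N • rF M hr (Φ.φ V' e₀') := by
      rw [Φ.res, hd, Φ.smul, Φ.res]
    show rF ((Scheme.Modules.pullback u).obj M) hpl (cUV u M le_rfl (Φ.φ V e₀)) =
      c ^ N • rF ((Scheme.Modules.pullback u).obj M) hpr (cUV u M le_rfl (Φ.φ V' e₀'))
    rw [rF_cUV, rF_cUV, ← cUV_resV u M hl le_rfl, g2, cUV_smul, cUV_resV u M hr le_rfl, hc',
      map_pow]

/-- The pullback of a frame. -/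
noncomputable def Frame.pullback {L M : S.Modules} (hL : PicF.IsInvertible L) {N : ℕ}
    (Φ : Frame L M N) :
    Frame ((Scheme.Modules.pullback u).obj L) ((Scheme.Modules.pullback u).obj M) N :=
  (pullbackLocalFrame u hL Φ).toFrame

theorem Frame.pullback_φ {L M : S.Modules} (hL : PicF.IsInvertible L) {N : ℕ}
    (Φ : Frame L M N) {V : S.Opens} (hV : IsAffineOpen V) {e₀ : Γ(L, V)} (he : IsGen L V e₀) :
    (Φ.pullback u hL).φ (u ⁻¹ᵁ V) (cUV u L le_rfl e₀) = cUV u M le_rfl (Φ.φ V e₀) :=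
  (pullbackLocalFrame u hL Φ).toFrame_φ_eq ⟨⟨V, e₀⟩, hV, he⟩

/-- The locus of a pulled-back section is the preimage of the locus. -/
theorem hasLocus_pullback {L M : S.Modules} (hL : PicF.IsInvertible L) {N : ℕ}
    (Φ : Frame L M N) {V0 : S.Opens} (σ : Γ(M, V0)) {O : S.Opens} (h : HasLocus Φ σ O) :
    HasLocus (Φ.pullback u hL) (cUV u M (le_rfl : u ⁻¹ᵁ V0 ≤ u ⁻¹ᵁ V0) σ) (u ⁻¹ᵁ O) := by
  intro W' hW' e' he'
  set Ψ := Φ.pullback u hL with hΨ
  set c' := Ψ.coefOf (cUV u M (le_rfl : u ⁻¹ᵁ V0 ≤ u ⁻¹ᵁ V0) σ) W' hW' e' he' with hc'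
  have hM := isInvertible_of_frame hL Φ
  -- pointwise
  have key : ∀ z ∈ W', (u z ∈ O ↔ z ∈ Z.basicOpen c') := by
    intro z hz
    obtain ⟨V, hV, hzV, hVV0, e₀, he₀⟩ := exists_isGen_le hL (u z) V0 (hW' hz)
    have hQW : W' ⊓ u ⁻¹ᵁ V ≤ W' := inf_le_left
    have hQV : W' ⊓ u ⁻¹ᵁ V ≤ u ⁻¹ᵁ V := inf_le_right
    have hzQ : z ∈ W' ⊓ u ⁻¹ᵁ V := ⟨hz, hzV⟩
    -- generator on `Q`
    have hg : IsGen ((Scheme.Modules.pullback u).obj L) (W' ⊓ u ⁻¹ᵁ V)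
        (rF ((Scheme.Modules.pullback u).obj L) hQV (cUV u L le_rfl e₀)) :=
      (isGen_cUV u hL hV he₀).res hQV
    obtain ⟨c, hc⟩ := hg.exists_coef (rF ((Scheme.Modules.pullback u).obj L) hQW e')
    have hcu : IsUnit c := isUnit_of_isGen_smul hg (hc ▸ he'.res hQW)
    -- value of the frame on `e'` over `Q`
    have h1 : rF ((Scheme.Modules.pullback u).obj M) hQW (Ψ.φ W' e') =
        c ^ N • rF ((Scheme.Modules.pullback u).obj M) hQV (cUV u M le_rfl (Φ.φ V e₀)) := by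
      rw [Ψ.res, hc, Ψ.smul, ← Ψ.res, hΨ, Frame.pullback_φ u hL Φ hV he₀]
    -- the section over `Q`
    set cσ := Φ.coefOf σ V hVV0 e₀ he₀ with hcσ
    have h2 : rF ((Scheme.Modules.pullback u).obj M) (hQW.trans hW')
        (cUV u M (le_rfl : u ⁻¹ᵁ V0 ≤ u ⁻¹ᵁ V0) σ) =
        u.appLE V (W' ⊓ u ⁻¹ᵁ V) hQV cσ •
          rF ((Scheme.Modules.pullback u).obj M) hQV (cUV u M le_rfl (Φ.φ V e₀)) := by
      rw [rF_cUV, rF_cUV, ← cUV_resV u M hVV0 hQV, Φ.coefOf_spec σ V hVV0 e₀ he₀, cUV_smul]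
    have h3 : rF ((Scheme.Modules.pullback u).obj M) (hQW.trans hW')
        (cUV u M (le_rfl : u ⁻¹ᵁ V0 ≤ u ⁻¹ᵁ V0) σ) =
        (rX hQW c' * c ^ N) •
          rF ((Scheme.Modules.pullback u).obj M) hQV (cUV u M le_rfl (Φ.φ V e₀)) := by
      have := congrArg (rF ((Scheme.Modules.pullback u).obj M) hQW)
        (Ψ.coefOf_spec (cUV u M (le_rfl : u ⁻¹ᵁ V0 ≤ u ⁻¹ᵁ V0) σ) W' hW' e' he')
      rw [rF_rF, rF_smul, h1, ← mul_smul] at this
      exact this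
    have hgM : IsGen ((Scheme.Modules.pullback u).obj M) (W' ⊓ u ⁻¹ᵁ V)
        (rF ((Scheme.Modules.pullback u).obj M) hQV (cUV u M le_rfl (Φ.φ V e₀))) :=
      (isGen_cUV u hM hV (Φ.isGen he₀)).res hQV
    have h4 : u.appLE V (W' ⊓ u ⁻¹ᵁ V) hQV cσ = rX hQW c' * c ^ N :=
      IsGen.coef_ext hgM (h2.symm.trans h3)
    have h5 : (W' ⊓ u ⁻¹ᵁ V) ⊓ u ⁻¹ᵁ (S.basicOpen cσ) =
        ((W' ⊓ u ⁻¹ᵁ V) ⊓ Z.basicOpen c') ⊓ (W' ⊓ u ⁻¹ᵁ V) := by
      rw [← Scheme.basicOpen_appLE u _ V hQV cσ, h4, Scheme.basicOpen_mul, basicOpen_rX,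
        Scheme.basicOpen_of_isUnit Z (hcu.pow N)]
    have h6 : S.basicOpen cσ = O ⊓ V := (h V hVV0 e₀ he₀).symm
    constructor
    · intro hzO
      have : z ∈ (W' ⊓ u ⁻¹ᵁ V) ⊓ u ⁻¹ᵁ (S.basicOpen cσ) := by
        refine ⟨hzQ, ?_⟩
        show u z ∈ S.basicOpen cσ
        rw [h6]
        exact ⟨hzO, hzV⟩
      rw [h5] at this
      exact this.1.2
    · intro hzc
      have : z ∈ ((W' ⊓ u ⁻¹ᵁ V) ⊓ Z.basicOpen c') ⊓ (W' ⊓ u ⁻¹ᵁ V) := ⟨⟨hzQ, hzc⟩, hzQ⟩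
      rw [← h5] at this
      have h7 : u z ∈ S.basicOpen cσ := this.2
      rw [h6] at h7
      exact h7.1
  ext z
  constructor
  · rintro ⟨hzO, hzW⟩
    exact (key z hzW).mp hzO
  · intro hzc
    have hzW : z ∈ W' := Z.basicOpen_le c' hzc
    exact ⟨(key z hzW).mpr hzc, hzW⟩

end TensH8
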