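import Mathlib
import Groth.Prelude
import Groth.Agent.Lib.Tens17_helper8

/-!
# Pullback of ample modules (helper8)
APPEND-ONLY once landed.
-/

set_option autoImplicit false

namespace TensH8

open AlgebraicGeometry CategoryTheory CategoryTheory.Limits TopologicalSpace Opposite TensorProduct
open QcqsLoc MonoidalCategory GenLocH8 FLFH8 QCohExtn PBH8

universe u

section B

variable {X : Scheme.{u}}

/-- Basis form of ampleness on an open. -/
def IsAmpleOnB (L : X.Modules) (V : X.Opens) : Prop :=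
  IsCompact (V : Set X) ∧ ∀ x ∈ V, ∀ U : X.Opens, x ∈ U →
    ∃ (n : ℕ) (σ : Γ(CohB1.tensorPow L (n + 1), V)) (O : X.Opens),
      IsAffineOpen O ∧ x ∈ O ∧ O ≤ V ∧ O ≤ U ∧ HasLocus (Frame.pow L (n + 1)) σ O

theorem isAmpleOnB_of_isAmple {L : X.Modules} (hL : CohB1.IsAmple L) (V : X.Opens)
    (hV : IsCompact (V : Set X)) : IsAmpleOnB L V := by
  obtain ⟨hinv, hc, -⟩ := id hL
  haveI := hc
  have hB := affine_genLocus_isBasis hinv ((isAmple_iff_isBasis hinv).mp hL)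
  rw [Opens.isBasis_iff_nbhd] at hB
  refine ⟨hV, fun x hx U hxU => ?_⟩
  obtain ⟨U', ⟨haff, n, s, rfl⟩, hxU', hle⟩ := hB (U := V ⊓ U) ⟨hx, hxU⟩
  refine ⟨n, SecTwist.val s V, CohB1.genLocus _ s, haff, hxU', hle.trans inf_le_left,
    hle.trans inf_le_right, ?_⟩
  have := hasLocus_val (Frame.pow L (n + 1)) s V
  rwa [inf_eq_left.mpr (hle.trans inf_le_left)] at this

theorem isAmpleOnB_image {U : Scheme.{u}} (j : U ⟶ X) [IsOpenImmersion j] {L : X.Modules}
    (hL : PicF.IsInvertible L) (V' : U.Opens) (h : IsAmpleOnB (L.restrict j) V') :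
    IsAmpleOnB L (j ''ᵁ V') := by
  have hL' := isInvertible_restrict j hL
  obtain ⟨hc, h⟩ := h
  refine ⟨(isCompact_image_iff j V').mpr hc, ?_⟩
  rintro _ ⟨y, hy, rfl⟩ U₀ hyU₀
  obtain ⟨n, σ', O', haff, hyO', hO'V', hO'U, hloc⟩ := h y hy (j ⁻¹ᵁ U₀) hyU₀
  obtain ⟨σ'', hloc''⟩ := hloc.change_frame hL' (Frame.pow (L.restrict j) (n + 1))
    ((Frame.pow L (n + 1)).restrict j) σ'
  refine ⟨n, σ'', j ''ᵁ O', haff.image_of_isOpenImmersion j, ⟨y, hyO', rfl⟩,
    (j.image_le_image_iff _ _).mpr hO'V', ?_,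
    (hasLocus_restrict_iff j (Frame.pow L (n + 1)) σ'' O').mp hloc''⟩
  rintro _ ⟨y', hy', rfl⟩
  exact hO'U hy'

theorem IsAmpleOn.toB {L : X.Modules} (hL : PicF.IsInvertible L) {V : X.Opens}
    (h : IsAmpleOn L V) : IsAmpleOnB L V := by
  have h1 := (isAmple_restrict_ι_iff hL V).mpr h
  haveI := h1.2.1
  have h2 := isAmpleOnB_of_isAmple h1 ⊤ (by simpa using isCompact_univ (X := V.toScheme))
  have h3 := isAmpleOnB_image V.ι hL ⊤ h2
  rwa [Scheme.Hom.image_top_eq_opensRange, Scheme.Opens.opensRange_ι] at h3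

theorem HasLocus.res {L M : X.Modules} {N : ℕ} (Φ : Frame L M N) {V V' : X.Opens}
    (σ : Γ(M, V)) {O : X.Opens} (h : HasLocus Φ σ O) (hV' : V' ≤ V) :
    HasLocus Φ (rF M hV' σ) O := by
  intro W hW e he
  rw [h W (hW.trans hV') e he]
  congr 1
  apply Frame.coefOf_unique
  rw [rF_rF]
  exact Φ.coefOf_spec σ W (hW.trans hV') e he

end B

section Pullback

variable {Z S : Scheme.{u}} (u : Z ⟶ S)

theorem isInvertible_pullback {L : S.Modules} (hL : PicF.IsInvertible L) :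
    PicF.IsInvertible ((Scheme.Modules.pullback u).obj L) := by
  apply isInvertible_of_gens
  intro z
  obtain ⟨V, hV, hzV, e₀, he₀⟩ := exists_isGen hL (u z)
  obtain ⟨_, ⟨U', hU' : IsAffineOpen U', rfl⟩, hzU', hle⟩ :=
    (Z.isBasis_affineOpens).exists_subset_of_mem_open (show z ∈ u ⁻¹ᵁ V from hzV) (u ⁻¹ᵁ V).isOpen
  exact ⟨U', hU', hzU', _, (isGen_cUV u hL hV he₀).res hle⟩

/-- Pullback of ampleness, under a local affineness hypothesis on preimages of loci. -/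
theorem isAmpleOn_pullback {L : S.Modules} (hL : PicF.IsInvertible L) {V : S.Opens}
    (hV : IsAmpleOn L V) {W : Z.Opens} (hWV : W ≤ u ⁻¹ᵁ V) (hW : IsCompact (W : Set Z))
    (H : ∀ z ∈ W, ∃ U : S.Opens, u z ∈ U ∧ ∀ (O : S.Opens) (n : ℕ)
      (σ' : Γ(CohB1.tensorPow ((Scheme.Modules.pullback u).obj L) (n + 1), W)),
      IsAffineOpen O → O ≤ U → O ≤ V →
      HasLocus (Frame.pow ((Scheme.Modules.pullback u).obj L) (n + 1)) σ' (u ⁻¹ᵁ O ⊓ W) →
      IsAffineOpen (u ⁻¹ᵁ O ⊓ W)) :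
    IsAmpleOn ((Scheme.Modules.pullback u).obj L) W := by
  have hL' := isInvertible_pullback u hL
  refine ⟨hW, fun z hz => ?_⟩
  obtain ⟨U, hzU, hU⟩ := H z hz
  obtain ⟨n, σ, O, haff, hxO, hOV, hOU, hloc⟩ := (hV.toB hL).2 (u z) (hWV hz) U hzU
  have h1 := hasLocus_pullback u hL (Frame.pow L (n + 1)) σ hloc
  have h2 := h1.res _ _ hWV
  obtain ⟨σ', hσ'⟩ := h2.change_frame hL' ((Frame.pow L (n + 1)).pullback u hL)
    (Frame.pow ((Scheme.Modules.pullback u).obj L) (n + 1)) _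
  have h3 : HasLocus (Frame.pow ((Scheme.Modules.pullback u).obj L) (n + 1)) σ'
      (u ⁻¹ᵁ O ⊓ W) := by
    intro W' hW' e he
    rw [← hσ' W' hW' e he, inf_assoc, inf_eq_right.mpr hW']
  exact ⟨n, σ', u ⁻¹ᵁ O ⊓ W, hU O n σ' haff hOU hOV h3, ⟨hxO, hz⟩, inf_le_right, h3⟩

theorem isAmpleOn_pullback_of_isAffineHom [IsAffineHom u] {L : S.Modules}
    (hL : PicF.IsInvertible L) {V : S.Opens} (hV : IsAmpleOn L V)
    (hc : IsCompact ((u ⁻¹ᵁ V : Z.Opens) : Set Z)) :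
    IsAmpleOn ((Scheme.Modules.pullback u).obj L) (u ⁻¹ᵁ V) := by
  refine isAmpleOn_pullback u hL hV le_rfl hc (fun z _ => ⟨⊤, trivial, ?_⟩)
  intro O n σ' haff _ hOV _
  have : u ⁻¹ᵁ O ⊓ u ⁻¹ᵁ V = u ⁻¹ᵁ O := inf_eq_left.mpr (fun _ hz => hOV hz)
  rw [this]
  exact haff.preimage u

theorem isAmpleOn_pullback_of_isEmbedding (hu : Topology.IsEmbedding u) {L : S.Modules}
    (hL : PicF.IsInvertible L) {V : S.Opens} (hV : IsAmpleOn L V)
    (hc : IsCompact ((u ⁻¹ᵁ V : Z.Opens) : Set Z)) :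
    IsAmpleOn ((Scheme.Modules.pullback u).obj L) (u ⁻¹ᵁ V) := by
  have hL' := isInvertible_pullback u hL
  refine isAmpleOn_pullback u hL hV le_rfl hc (fun z hz => ?_)
  obtain ⟨U', hU', hzU', hU'le, e', he'⟩ := exists_isGen_le hL' z (u ⁻¹ᵁ V) hz
  obtain ⟨t, ht, htU'⟩ := hu.isInducing.isOpen_iff.mp U'.isOpen
  refine ⟨⟨t, ht⟩, ?_, ?_⟩
  · show z ∈ u ⁻¹' t
    rw [htU']
    exact hzU'
  · intro O n σ' _ hOU _ hloc
    have h1 := hloc U' hU'le e' he'
    have h2 : u ⁻¹ᵁ O ≤ U' := by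
      intro y hy
      have : y ∈ u ⁻¹' t := hOU hy
      rw [htU'] at this
      exact this
    have h3 : u ⁻¹ᵁ O ⊓ u ⁻¹ᵁ V ⊓ U' = u ⁻¹ᵁ O ⊓ u ⁻¹ᵁ V :=
      inf_eq_left.mpr (inf_le_left.trans h2)
    rw [h3] at h1
    rw [h1]
    exact hU'.basicOpen _

/-- The pullback of an ample module along an affine morphism from a quasi-compact scheme is
ample. -/
theorem isAmple_pullback_of_isAffineHom [IsAffineHom u] [CompactSpace Z] {L : S.Modules}
    (hL : CohB1.IsAmple L) : CohB1.IsAmple ((Scheme.Modules.pullback u).obj L) := by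
  rw [isAmple_iff_isAmpleOn_top (isInvertible_pullback u hL.1)]
  exact isAmpleOn_pullback_of_isAffineHom u hL.1 ((isAmple_iff_isAmpleOn_top hL.1).mp hL)
    (by simpa using isCompact_univ (X := Z))

/-- The pullback of an ample module along a topological embedding from a quasi-compact scheme
is ample. -/
theorem isAmple_pullback_of_isEmbedding (hu : Topology.IsEmbedding u) [CompactSpace Z]
    {L : S.Modules} (hL : CohB1.IsAmple L) :
    CohB1.IsAmple ((Scheme.Modules.pullback u).obj L) := by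
  rw [isAmple_iff_isAmpleOn_top (isInvertible_pullback u hL.1)]
  exact isAmpleOn_pullback_of_isEmbedding u hu hL.1 ((isAmple_iff_isAmpleOn_top hL.1).mp hL)
    (by simpa using isCompact_univ (X := Z))

end Pullback

end TensH8
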