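import Mathlib
import Groth.Prelude
import Groth.Agent.Lib.Tens18_helper8

/-!
# Base change of relatively ample modules (helper8)
APPEND-ONLY once landed.
-/

set_option autoImplicit false

namespace TensH8

open AlgebraicGeometry CategoryTheory CategoryTheory.Limits TopologicalSpace Opposite TensorProduct
open QcqsLoc MonoidalCategory GenLocH8 FLFH8 QCohExtn PBH8

universe u

theorem isAffineOpen_pullback_inf {X Y Z : Scheme.{u}} {f : X ⟶ Z} {g : Y ⟶ Z}
    {U : X.Opens} (hU : IsAffineOpen U) {V : Y.Opens} (hV : IsAffineOpen V)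
    {W : Z.Opens} (hW : IsAffineOpen W) (hUW : U ≤ f ⁻¹ᵁ W) (hVW : V ≤ g ⁻¹ᵁ W) :
    IsAffineOpen (pullback.fst f g ⁻¹ᵁ U ⊓ pullback.snd f g ⁻¹ᵁ V) := by
  have : IsAffine U.toScheme := hU
  have : IsAffine W.toScheme := hW
  have : IsAffine V.toScheme := hV
  let f' : U.toScheme ⟶ W := f.resLE _ _ hUW
  let q : V.toScheme ⟶ W := g.resLE _ _ hVW
  let p : pullback f' q ⟶ pullback f g :=
    pullback.map _ _ _ _ U.ι V.ι W.ι (by simp [f']) (by simp [q])
  have h := isAffineOpen_opensRange p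
  have e : p.opensRange = pullback.fst f g ⁻¹ᵁ U ⊓ pullback.snd f g ⁻¹ᵁ V := by
    apply Opens.ext
    simp [p, Scheme.Pullback.range_map]
  rw [← e]
  exact h

/-- Relative ampleness is stable under base change. -/
theorem isRelAmple_baseChange {X Y Y' : Scheme.{u}} (f : X ⟶ Y) [QuasiCompact f] (g : Y' ⟶ Y)
    {L : X.Modules} (hL : RelAmple.IsRelAmple f L) :
    RelAmple.IsRelAmple (pullback.snd f g)
      ((Scheme.Modules.pullback (pullback.fst f g)).obj L) := by
  have hinv := isInvertible_of_isRelAmple f hL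
  have hinv' := isInvertible_pullback (pullback.fst f g) hinv
  apply isRelAmple_of_local _ hinv'
  intro y'
  obtain ⟨_, ⟨V, hV : IsAffineOpen V, rfl⟩, hyV, -⟩ :=
    (Y.isBasis_affineOpens).exists_subset_of_mem_open (Set.mem_univ (g y')) isOpen_univ
  refine ⟨g ⁻¹ᵁ V, hyV, fun V' hV' => ?_⟩
  have h1 : IsAmpleOn L (f ⁻¹ᵁ V) := ((isRelAmple_iff f hinv).mp hL).2 ⟨V, hV⟩
  have hWV : pullback.snd f g ⁻¹ᵁ V'.1 ≤ pullback.fst f g ⁻¹ᵁ (f ⁻¹ᵁ V) := by
    intro z hz
    show f (pullback.fst f g z) ∈ V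
    have : f (pullback.fst f g z) = g (pullback.snd f g z) := by
      rw [← Scheme.Hom.comp_apply, ← Scheme.Hom.comp_apply, pullback.condition]
    rw [this]
    exact hV' hz
  refine isAmpleOn_pullback (pullback.fst f g) hinv h1 hWV
    (QuasiCompact.isCompact_preimage (f := pullback.snd f g) _ V'.1.isOpen V'.2.isCompact)
    (fun z _ => ⟨⊤, trivial, ?_⟩)
  intro O n σ' haff _ hOV _
  exact isAffineOpen_pullback_inf haff V'.2 hV hOV hV'

end TensH8
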