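import Mathlib
import Groth.Prelude
import Groth.Agent.Lib.Tens19_helper8

/-!
# Ampleness from quasi-affine section loci; pullback along quasi-affine morphisms (helper8)
APPEND-ONLY once landed.
-/

set_option autoImplicit false

namespace TensH8

open AlgebraicGeometry CategoryTheory CategoryTheory.Limits TopologicalSpace Opposite TensorProduct
open QcqsLoc MonoidalCategory GenLocH8 FLFH8 QCohExtn PBH8

universe u

variable {X : Scheme.{u}}

/-- If every point lies in a quasi-affine locus `X_s` of a section of a module framed with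
positive weight, then `L` is ample. -/
theorem isAmple_of_quasiAffine_genLocus [CompactSpace X] {L : X.Modules}
    (hL : PicF.IsInvertible L)
    (h : ∀ x : X, ∃ (a : ℕ) (M : X.Modules) (_ : Frame L M (a + 1))
      (s : Coh.structureModule X ⟶ M), x ∈ CohB1.genLocus M s ∧
        Scheme.IsQuasiAffine (CohB1.genLocus M s : Scheme.{u})) :
    CohB1.IsAmple L := by
  choose a M Φ s hxs hqa using h
  haveI : QuasiSeparatedSpace X := by
    refine QuasiSeparatedSpace.of_isOpenCover (U := fun x => CohB1.genLocus (M x) (s x))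
      (eq_top_iff.mpr fun x _ => Opens.mem_iSup.mpr ⟨x, hxs x⟩) (fun x => ?_) (fun x => ?_)
    · haveI : IsAffineHom (CohB1.genLocus (M x) (s x)).ι :=
        isAffineHom_genLocus_ι (isInvertible_of_frame hL (Φ x)) (s x)
      exact IsRetrocompact_iff_isSpectralMap_subtypeVal.mpr
        (CohB1.genLocus (M x) (s x)).ι.isSpectralMap
    · haveI := hqa x
      have : QuasiSeparatedSpace (CohB1.genLocus (M x) (s x) : Scheme.{u}) := inferInstance
      exact (isQuasiSeparated_iff_quasiSeparatedSpace _ (CohB1.genLocus (M x) (s x)).isOpen).mpr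
        this
  refine ⟨hL, inferInstance, fun x => ?_⟩
  haveI := hqa x
  obtain ⟨_, ⟨_, ⟨r, hr, rfl⟩, rfl⟩, hxr, -⟩ :=
    (Scheme.IsQuasiAffine.isBasis_basicOpen (CohB1.genLocus (M x) (s x) : Scheme.{u})).exists_subset_of_mem_open
      (Set.mem_univ (⟨x, hxs x⟩ : ↥(CohB1.genLocus (M x) (s x)))) isOpen_univ
  obtain ⟨g, hgr⟩ : ∃ g : Γ(X, CohB1.genLocus (M x) (s x)),
      (CohB1.genLocus (M x) (s x)).topIso.inv g = r := by
    refine ⟨(CohB1.genLocus (M x) (s x)).topIso.hom r, ?_⟩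
    change ((CohB1.genLocus (M x) (s x)).topIso.hom ≫
      (CohB1.genLocus (M x) (s x)).topIso.inv).hom r = r
    rw [Iso.hom_inv_id]
    rfl
  have himg : (CohB1.genLocus (M x) (s x)).ι ''ᵁ
      ((CohB1.genLocus (M x) (s x)).toScheme.basicOpen r) = X.basicOpen g := by
    rw [← hgr]
    exact Scheme.Opens.ι_image_basicOpen_topIso_inv (CohB1.genLocus (M x) (s x)) g
  obtain ⟨N0, hN0⟩ := exists_hom_genLocus_eq_basicOpen hL (Φ x) (s x) g
  obtain ⟨s'', hs''⟩ := hN0 N0 le_rfl (Frame.pow L ((a x + 1) * N0 + a x + 1)) (by ring)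
  refine ⟨(a x + 1) * N0 + a x, s'', ?_, ?_⟩
  · rw [hs'', ← himg]
    exact ⟨⟨x, hxs x⟩, hxr, rfl⟩
  · rw [hs'', ← himg]
    exact hr.image_of_isOpenImmersion (CohB1.genLocus (M x) (s x)).ι

/-- A section over `W` as a global section of the restriction to the open subscheme `W`. -/
noncomputable def secTop (M : X.Modules) (W : X.Opens) (σ : Γ(M, W)) : Γ(M.restrict W.ι, ⊤) :=
  rF M (W.ι_image_top.le : W.ι ''ᵁ ⊤ ≤ W) σ

/-- Relative form: ampleness on a quasi-compact open from quasi-affine section loci. -/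
theorem isAmpleOn_of_quasiAffine_locus {L : X.Modules} (hL : PicF.IsInvertible L) {W : X.Opens}
    (hW : IsCompact (W : Set X))
    (h : ∀ z ∈ W, ∃ (a : ℕ) (M : X.Modules) (Φ : Frame L M (a + 1)) (σ : Γ(M, W)) (Q : X.Opens),
      z ∈ Q ∧ Q ≤ W ∧ HasLocus Φ σ Q ∧ Scheme.IsQuasiAffine (Q : Scheme.{u})) :
    IsAmpleOn L W := by
  rw [← isAmple_restrict_ι_iff hL W]
  haveI : CompactSpace W.toScheme := isCompact_iff_compactSpace.mp hW
  have hLW := isInvertible_restrict W.ι hL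
  apply isAmple_of_quasiAffine_genLocus hLW
  rintro ⟨z, hz⟩
  obtain ⟨a, M, Φ, σ, Q, hzQ, hQW, hloc, hqa⟩ := h z hz
  have hle : W.ι ''ᵁ ⊤ ≤ W := W.ι_image_top.le
  have e : W.ι ''ᵁ (W.ι ⁻¹ᵁ Q) = Q := by
    rw [Scheme.Hom.image_preimage_eq_opensRange_inf, Scheme.Opens.opensRange_ι]
    exact inf_eq_right.mpr hQW
  have h1 : HasLocus (Φ.restrict W.ι) (secTop M W σ) (W.ι ⁻¹ᵁ Q) :=
    (hasLocus_restrict_iff W.ι Φ (V' := ⊤) (rF M hle σ) (W.ι ⁻¹ᵁ Q)).mpr
      (by rw [e]; exact hloc.res Φ σ hle)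
  have h2 := genLocus_homOfSec hLW (Φ.restrict W.ι) (secTop M W σ) h1
  refine ⟨a, M.restrict W.ι, Φ.restrict W.ι, homOfSec _ (secTop M W σ), ?_, ?_⟩
  · rw [h2]
    exact hzQ
  · rw [h2]
    haveI := hqa
    have hcQ : IsCompact ((W.ι ⁻¹ᵁ Q : W.toScheme.Opens) : Set W.toScheme) := by
      rw [← isCompact_image_iff W.ι, e]
      exact isCompact_iff_compactSpace.mpr (inferInstance : CompactSpace (Q : Scheme.{u}))
    haveI : CompactSpace ((W.ι ⁻¹ᵁ Q : W.toScheme.Opens) : Scheme.{u}) :=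
      isCompact_iff_compactSpace.mp hcQ
    exact Scheme.IsQuasiAffine.of_isImmersion
      ((W.ι.isoImage (W.ι ⁻¹ᵁ Q)).hom ≫ (X.isoOfEq e).hom)

/-- Pullback of relative ampleness along a quasi-affine morphism. -/
theorem isRelAmple_pullback_of_isQuasiAffine {X' Y : Scheme.{u}} (f : X ⟶ Y) [QuasiCompact f]
    (g : X' ⟶ X) (hg : Mor2.IsQuasiAffine g) {L : X.Modules} (hL : RelAmple.IsRelAmple f L) :
    RelAmple.IsRelAmple (g ≫ f) ((Scheme.Modules.pullback g).obj L) := by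
  have hinv := isInvertible_of_isRelAmple f hL
  have hinv' := isInvertible_pullback g hinv
  haveI := hg.1
  rw [isRelAmple_iff _ hinv']
  refine ⟨inferInstance, fun V => ?_⟩
  have h1 : IsAmpleOn L (f ⁻¹ᵁ V.1) := ((isRelAmple_iff f hinv).mp hL).2 V
  refine isAmpleOn_of_quasiAffine_locus hinv'
    (QuasiCompact.isCompact_preimage (f := g ≫ f) _ V.1.isOpen V.2.isCompact) (fun z hz => ?_)
  obtain ⟨n, σ, O, haff, hxO, hOV, hloc⟩ := h1.2 (g z) hz
  exact ⟨n, _, (Frame.pow L (n + 1)).pullback g hinv, cUV g _ le_rfl σ, g ⁻¹ᵁ O, hxO,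
    fun _ hy => hOV hy, hasLocus_pullback g hinv (Frame.pow L (n + 1)) σ hloc, hg.2 O haff⟩

end TensH8
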