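import Mathlib
import Groth.Prelude
import Groth.Agent.Lib.Tens20_helper8
import Groth.Agent.Lib.EpiLoc_helper9

/-!
# Relative global generation from the counit; a criterion for relative ampleness (helper8)
APPEND-ONLY once landed.
-/

set_option autoImplicit false

namespace TensH8

open AlgebraicGeometry CategoryTheory CategoryTheory.Limits TopologicalSpace Opposite TensorProduct
open QcqsLoc MonoidalCategory GenLocH8 FLFH8 QCohExtn PBH8

universe u

variable {X Y : Scheme.{u}} (f : X ⟶ Y)

/-- The counit of the pullback–pushforward adjunction sends the canonical image of a section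
`y ∈ Γ(f_* M, V) = Γ(M, f⁻¹ V)` to the restriction of `y`. -/
theorem counit_cUV (M : X.Modules) {W : X.Opens} {V : Y.Opens} (h : W ≤ f ⁻¹ᵁ V)
    (y : Γ(M, f ⁻¹ᵁ V)) :
    ap ((Scheme.Modules.pullbackPushforwardAdjunction f).counit.app M) W
      (cUV f ((Scheme.Modules.pushforward f).obj M) h
        (show Γ((Scheme.Modules.pushforward f).obj M, V) from y)) = rF M h y := by
  unfold cUV
  have h1 := ap_rF ((Scheme.Modules.pullbackPushforwardAdjunction f).counit.app M) h
    ((((Scheme.Modules.pullbackPushforwardAdjunction f).unit.app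
      ((Scheme.Modules.pushforward f).obj M)).app V)
        (show Γ((Scheme.Modules.pushforward f).obj M, V) from y))
  refine h1.trans ?_
  congr 1
  have h2 := (Scheme.Modules.pullbackPushforwardAdjunction f).right_triangle_components M
  have h3 := congrArg (fun φ => Scheme.Modules.Hom.app φ V
    (show Γ((Scheme.Modules.pushforward f).obj M, V) from y)) h2
  exact h3

/-- If the counit `f^* f_* M ⟶ M` is an epimorphism (`M` invertible, `f` quasi-compact and
quasi-separated), then over every affine open `V` of the base, every point of `f⁻¹ V` has a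
section of `M` over `f⁻¹ V` generating `M` near it. -/
theorem exists_section_isGen_of_epi_counit [QuasiCompact f] [QuasiSeparated f] {M : X.Modules}
    (hM : PicF.IsInvertible M)
    (hepi : Epi ((Scheme.Modules.pullbackPushforwardAdjunction f).counit.app M))
    {V : Y.Opens} (hV : IsAffineOpen V) {x : X} (hx : x ∈ f ⁻¹ᵁ V) :
    ∃ (y : Γ(M, f ⁻¹ᵁ V)) (W' : X.Opens) (hW' : W' ≤ f ⁻¹ᵁ V), x ∈ W' ∧
      IsGen M W' (rF M hW' y) := by
  haveI := isQuasicoherent_of_isInvertible hM
  haveI := isQuasicoherent_pushforward_qcqs f M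
  obtain ⟨W, hW, hxW, hWV, m, hm⟩ := exists_isGen_le hM x (f ⁻¹ᵁ V) hx
  obtain ⟨W1, hW1, hxW1, t, ht⟩ := EpiLoc.exists_local_lift
    ((Scheme.Modules.pullbackPushforwardAdjunction f).counit.app M) m hxW
  obtain ⟨_, ⟨W2, hW2 : IsAffineOpen W2, rfl⟩, hxW2, hW21⟩ :=
    (X.isBasis_affineOpens).exists_subset_of_mem_open hxW1 W1.isOpen
  have hW21' : W2 ≤ W1 := hW21
  have h2V : W2 ≤ f ⁻¹ᵁ V := hW21'.trans (hW1.trans hWV)
  have h2W : W2 ≤ W := hW21'.trans hW1
  -- the generator on `W2`
  have hm2 : IsGen M W2 (rF M h2W m) := hm.res h2W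
  -- the counit as a linear map over `W2`
  let lin : Γ((Scheme.Modules.pullback f).obj ((Scheme.Modules.pushforward f).obj M), W2) →ₗ[Γ(X, W2)]
      Γ(M, W2) :=
    { toFun := ap ((Scheme.Modules.pullbackPushforwardAdjunction f).counit.app M) W2
      map_add' := map_add _
      map_smul' := fun r z =>
        ap_smul ((Scheme.Modules.pullbackPushforwardAdjunction f).counit.app M) r z }
  -- the prime ideal of `x`
  let px : Ideal Γ(X, W2) := Ideal.comap (X.presheaf.germ W2 x hxW2).hom
    (IsLocalRing.maximalIdeal (X.presheaf.stalk x))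
  have hpx : ∀ c : Γ(X, W2), c ∈ px ↔ x ∉ X.basicOpen c := by
    intro c
    rw [Scheme.mem_basicOpen X c x hxW2]
    exact Iff.rfl
  by_contra hcon
  -- every section has coefficient in `px`
  have hall : ∀ y : Γ(M, f ⁻¹ᵁ V), ∀ c : Γ(X, W2), rF M h2V y = c • rF M h2W m → c ∈ px := by
    intro y c hc
    rw [hpx]
    intro hxc
    apply hcon
    have hle : X.basicOpen c ≤ W2 := X.basicOpen_le c
    refine ⟨y, X.basicOpen c, hle.trans h2V, hxc, ?_⟩
    have h1 : rF M (hle.trans h2V) y = rX hle c • rF M (hle.trans h2W) m := by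
      have := congrArg (rF M hle) hc
      rw [rF_rF, rF_smul, rF_rF] at this
      exact this
    rw [h1]
    exact isGen_smul_of_isUnit (hm.res (hle.trans h2W)) (X.toRingedSpace.isUnit_res_basicOpen c)
  -- the submodule of sections with coefficient in `px`
  let P : Submodule Γ(X, W2) Γ(M, W2) :=
    Submodule.map (LinearMap.toSpanSingleton Γ(X, W2) Γ(M, W2) (rF M h2W m)) px
  have hP : ∀ y : Γ(M, f ⁻¹ᵁ V), rF M h2V y ∈ P := by
    intro y
    obtain ⟨c, hc⟩ := hm2.exists_coef (rF M h2V y)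
    exact ⟨c, hall y c hc, hc.symm⟩
  have hspan := span_cUV f ((Scheme.Modules.pushforward f).obj M) hW2 hV h2V
  have hle : Submodule.span Γ(X, W2)
      (Set.range (cUV f ((Scheme.Modules.pushforward f).obj M) h2V)) ≤ P.comap lin := by
    rw [Submodule.span_le]
    rintro _ ⟨y, rfl⟩
    show ap ((Scheme.Modules.pullbackPushforwardAdjunction f).counit.app M) W2
      (cUV f ((Scheme.Modules.pushforward f).obj M) h2V y) ∈ P
    rw [counit_cUV f M h2V y]
    exact hP y
  have hm2P : rF M h2W m ∈ P := by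
    have h1 : ap ((Scheme.Modules.pullbackPushforwardAdjunction f).counit.app M) W2
        (rF ((Scheme.Modules.pullback f).obj ((Scheme.Modules.pushforward f).obj M)) hW21' t) ∈ P :=
      hle (hspan ▸ Submodule.mem_top)
    have h1' : ap ((Scheme.Modules.pullbackPushforwardAdjunction f).counit.app M) W2
        (rF ((Scheme.Modules.pullback f).obj ((Scheme.Modules.pushforward f).obj M)) hW21' t) =
        rF M hW21' (ap ((Scheme.Modules.pullbackPushforwardAdjunction f).counit.app M) W1 t) :=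
      ap_rF ((Scheme.Modules.pullbackPushforwardAdjunction f).counit.app M) hW21' t
    have h2 : ap ((Scheme.Modules.pullbackPushforwardAdjunction f).counit.app M) W1 t =
        rF M hW1 m := ht
    have h3 := h1'.trans ((congrArg (rF M hW21') h2).trans (rF_rF M hW21' hW1 m))
    rw [← h3]
    exact h1
  obtain ⟨a, ha, ha1⟩ := hm2P
  have ha2 : a = 1 := by
    apply IsGen.coef_ext hm2
    rw [one_smul]
    exact ha1
  rw [ha2] at ha
  have : (1 : Γ(X, W2)) ∉ px := by
    rw [hpx]
    intro h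
    apply h
    rw [Scheme.basicOpen_of_isUnit X isUnit_one]
    exact hxW2
  exact this ha

theorem isSeparated_of_isRelAmple {L : X.Modules} (hL : RelAmple.IsRelAmple f L) :
    IsSeparated f := by
  rw [HasAffineProperty.eq_targetAffineLocally (P := @IsSeparated)]
  intro V
  show Scheme.IsSeparated (f ⁻¹ᵁ V.1 : Scheme.{u})
  have h1 := hL.2 V
  exact isSeparated_of_affine_genLocus h1.1 h1.2.2

/-- A section over an open `U`, generating near `x`, gives a global section on the open
subscheme `U` whose locus contains `x`. -/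
theorem mem_genLocus_homOfSec_secTop {M : X.Modules} {U : X.Opens} (y : Γ(M, U))
    {W' : X.Opens} (hW' : W' ≤ U) (hgen : IsGen M W' (rF M hW' y)) {x : ↥U} (hx : x.1 ∈ W') :
    x ∈ CohB1.genLocus (M.restrict U.ι) (homOfSec (M.restrict U.ι) (secTop M U y)) := by
  have e : U.ι ''ᵁ (U.ι ⁻¹ᵁ W') = W' := by
    rw [Scheme.Hom.image_preimage_eq_opensRange_inf, Scheme.Opens.opensRange_ι]
    exact inf_eq_right.mpr hW'
  have hle : U.ι ''ᵁ (U.ι ⁻¹ᵁ W') ≤ W' := e.le
  have h1 : IsGen M (U.ι ''ᵁ (U.ι ⁻¹ᵁ W')) (rF M (hle.trans hW') y) := by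
    have := hgen.res hle
    rwa [rF_rF] at this
  have h2 : SecTwist.val (homOfSec (M.restrict U.ι) (secTop M U y)) (U.ι ⁻¹ᵁ W') =
      rF M (hle.trans hW') y := by
    refine (val_homOfSec (M.restrict U.ι) (secTop M U y) (U.ι ⁻¹ᵁ W')).trans ?_
    refine (rF_restrict U.ι M (le_top : U.ι ⁻¹ᵁ W' ≤ ⊤) (secTop M U y)).trans ?_
    unfold secTop
    exact rF_rF M _ _ y
  have h3 : IsGen (M.restrict U.ι) (U.ι ⁻¹ᵁ W')
      (SecTwist.val (homOfSec (M.restrict U.ι) (secTop M U y)) (U.ι ⁻¹ᵁ W')) := by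
    rw [h2]
    exact isGen_restrict U.ι M _ h1
  have h4 := genLocus_inf_eq (homOfSec (M.restrict U.ι) (secTop M U y)) h3 1 (one_smul _ _).symm
  rw [Scheme.basicOpen_of_isUnit _ isUnit_one] at h4
  have : x ∈ U.ι ⁻¹ᵁ W' := hx
  rw [← h4] at this
  exact this.1

/-- If `L` is relatively ample and the counit `f^* f_* (L'^{⊗ n}) ⟶ L'^{⊗ n}` is an epimorphism
for some `n > 0`, then `L ⊗ L'` is relatively ample. -/
theorem isRelAmple_tensor_of_epi_counit [QuasiCompact f] {L L' : X.Modules}
    (hL : RelAmple.IsRelAmple f L) (hL' : PicF.IsInvertible L') (n : ℕ) (hn : 0 < n)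
    (hepi : Epi ((Scheme.Modules.pullbackPushforwardAdjunction f).counit.app
      (CohB1.tensorPow L' n))) :
    RelAmple.IsRelAmple f (CohB1.tensorMod L L') := by
  haveI : IsSeparated f := isSeparated_of_isRelAmple f hL
  refine ⟨hL.1, fun V => ?_⟩
  have h1 := hL.2 V
  have hL'V := isInvertible_restrict (f ⁻¹ᵁ V.1).ι hL'
  refine isAmple_of_frame₂ h1 hL'V (fun x => ?_)
    ((Frame₂.tmul (Frame.self L) (Frame.self L')).restrict (f ⁻¹ᵁ V.1).ι)
  obtain ⟨y, W', hW', hxW', hgen⟩ := exists_section_isGen_of_epi_counit f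
    (isInvertible_tensorPow hL' n) hepi V.2 (x := x.1) x.2
  have hx0 := mem_genLocus_homOfSec_secTop y hW' hgen (x := x) hxW'
  obtain ⟨s', hs'⟩ := Frame.transfer_pow hL'V ((Frame.pow L' n).restrict (f ⁻¹ᵁ V.1).ι)
    (Frame.pow (L'.restrict (f ⁻¹ᵁ V.1).ι) (n - 1 + 1)) 1 Nat.one_pos (by omega)
    (homOfSec _ (secTop (CohB1.tensorPow L' n) (f ⁻¹ᵁ V.1) y))
  exact ⟨n - 1, s', hs' ▸ hx0⟩

end TensH8
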