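import Mathlib
import Groth.Prelude
import Groth.Agent.Lib.GG1_helper8
import Groth.Agent.Lib.Tens20_helper8

/-!
# Globally generated invertible modules and ample modules (helper8)
APPEND-ONLY once landed.

* `GGH8.exists_hom_mem_genLocus`: a globally generated invertible module has at each point a global
  section generating it there.
* `GGH8.isAffineOpen_inf_genLocus`.
* `GGH8.exists_isAmple_of_gg_cover`: Stacks-style criterion for existence of an ample module.
-/

set_option autoImplicit false

namespace GGH8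

open AlgebraicGeometry CategoryTheory CategoryTheory.Limits TopologicalSpace Opposite
open QcqsLoc GenLocH8 FLFH8 QCohExtn TensH8

universe u

variable {X : Scheme.{u}}

theorem exists_hom_mem_genLocus {L : X.Modules} (hL : PicF.IsInvertible L)
    (hG : Curv2.IsGloballyGenerated L) (x : X) :
    ∃ t : Coh.structureModule X ⟶ L, x ∈ CohB1.genLocus L t := by
  obtain ⟨ι, g, hg⟩ := exists_locSpan hG
  obtain ⟨W, -, hxW, e, he⟩ := exists_isGen hL x
  obtain ⟨W', h, hxW', hm⟩ := hg W e x hxW
  have he' : IsGen L W' (rF L h e) := he.res h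
  have hsurj : ∀ l : Γ(L, W'), ∃ c : Γ(X, W'), l = c • rF L h e := by
    intro l
    obtain ⟨c, hc⟩ := (he' W' le_rfl).1 l
    rw [SubExt.rF_self L le_rfl] at hc
    exact ⟨c, hc⟩
  have hinj : ∀ c : Γ(X, W'), c • rF L h e = 0 → c = 0 := by
    intro c hc
    apply (he' W' le_rfl).2 c
    rw [SubExt.rF_self L le_rfl]
    exact hc
  have key : ∀ y ∈ spanAt L g W', ∀ c : Γ(X, W'), y = c • rF L h e → x ∈ X.basicOpen c →
      ∃ i, x ∈ CohB1.genLocus L (homOfSec L (g i)) := by
    intro y hy
    unfold spanAt at hy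
    induction hy using Submodule.span_induction with
    | mem y hy =>
      obtain ⟨i, rfl⟩ := hy
      intro c hc hxc
      refine ⟨i, ?_⟩
      have h1 := genLocus_inf_eq (homOfSec L (g i)) he' c
        ((val_homOfSec L (g i) W').trans hc)
      have h2 : x ∈ CohB1.genLocus L (homOfSec L (g i)) ⊓ W' := by rw [h1]; exact hxc
      exact h2.1
    | zero =>
      intro c hc hxc
      have hc0 : c = 0 := hinj c hc.symm
      rw [hc0, Scheme.basicOpen_zero] at hxc
      exact absurd hxc (Set.notMem_empty x)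
    | add a b _ _ ha hb =>
      intro c hc hxc
      obtain ⟨ca, hca⟩ := hsurj a
      obtain ⟨cb, hcb⟩ := hsurj b
      have hc' : c = ca + cb := by
        have h0 : (c - (ca + cb)) • rF L h e = 0 := by
          rw [sub_smul, add_smul, ← hca, ← hcb, ← hc, sub_self]
        exact sub_eq_zero.mp (hinj _ h0)
      rw [hc'] at hxc
      rcases X.basicOpen_add_le _ _ hxc with h' | h'
      · exact ha ca hca h'
      · exact hb cb hcb h'
    | smul r a _ ha =>
      intro c hc hxc
      obtain ⟨ca, hca⟩ := hsurj a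
      have hc' : c = r * ca := by
        have h0 : (c - r * ca) • rF L h e = 0 := by
          rw [sub_smul, mul_smul, ← hca, ← hc, sub_self]
        exact sub_eq_zero.mp (hinj _ h0)
      rw [hc', Scheme.basicOpen_mul] at hxc
      exact ha ca hca hxc.2
  obtain ⟨i, hi⟩ := key _ hm 1 (one_smul _ _).symm (by
    rw [Scheme.basicOpen_of_isUnit _ isUnit_one]; exact hxW')
  exact ⟨_, hi⟩

theorem isAffineOpen_inf_genLocus {L : X.Modules} (hL : PicF.IsInvertible L)
    (s : Coh.structureModule X ⟶ L) {U : X.Opens} (hU : IsAffineOpen U) :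
    IsAffineOpen (CohB1.genLocus L s ⊓ U) := by
  haveI : IsAffineHom (CohB1.genLocus L s).ι := isAffineHom_genLocus_ι hL s
  have h1 : IsAffineOpen ((CohB1.genLocus L s).ι ⁻¹ᵁ U) := hU.preimage _
  have h2 := h1.image_of_isOpenImmersion (CohB1.genLocus L s).ι
  rw [Scheme.Hom.image_preimage_eq_opensRange_inf, Scheme.Opens.opensRange_ι] at h2
  exact h2

/-- "Everywhere generated by a global section". -/
def PtGen (M : X.Modules) : Prop :=
  ∀ x : X, ∃ t : Coh.structureModule X ⟶ M, x ∈ CohB1.genLocus M t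

/-- Every point of `V` has an affine neighbourhood `X_σ`. -/
def AffCov (M : X.Modules) (V : Set X) : Prop :=
  ∀ x ∈ V, ∃ σ : Coh.structureModule X ⟶ M, x ∈ CohB1.genLocus M σ ∧
    IsAffineOpen (CohB1.genLocus M σ)

theorem ptGen_tensorMod {M L : X.Modules} (hM : PicF.IsInvertible M) (hL : PicF.IsInvertible L)
    (h1 : PtGen M) (h2 : PtGen L) : PtGen (CohB1.tensorMod M L) := by
  intro x
  obtain ⟨t, ht⟩ := h1 x
  obtain ⟨t', ht'⟩ := h2 x
  refine ⟨SecTwist.tmulHom t t', ?_⟩
  rw [genLocus_tmulHom hM hL]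
  exact ⟨ht, ht'⟩

theorem affCov_tensorMod {M L : X.Modules} (hM : PicF.IsInvertible M) (hL : PicF.IsInvertible L)
    (h1 : PtGen M) (h2 : PtGen L) {V : Set X} (hV : AffCov M V)
    (s : Coh.structureModule X ⟶ L) (hs : IsAffineOpen (CohB1.genLocus L s)) :
    AffCov (CohB1.tensorMod M L) (V ∪ (CohB1.genLocus L s : Set X)) := by
  rintro x (hx | hx)
  · obtain ⟨σ, hxσ, hσ⟩ := hV x hx
    obtain ⟨t', ht'⟩ := h2 x
    refine ⟨SecTwist.tmulHom σ t', ?_, ?_⟩
    · rw [genLocus_tmulHom hM hL]
      exact ⟨hxσ, ht'⟩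
    · rw [genLocus_tmulHom hM hL, inf_comm]
      exact isAffineOpen_inf_genLocus hL t' hσ
  · obtain ⟨t, ht⟩ := h1 x
    refine ⟨SecTwist.tmulHom t s, ?_, ?_⟩
    · rw [genLocus_tmulHom hM hL]
      exact ⟨ht, hx⟩
    · rw [genLocus_tmulHom hM hL]
      exact isAffineOpen_inf_genLocus hM t hs

theorem isAmple_of_affCov [CompactSpace X] {M : X.Modules} (hM : PicF.IsInvertible M)
    (h : AffCov M Set.univ) : CohB1.IsAmple M := by
  apply isAmple_of_quasiAffine_genLocus hM
  intro x
  obtain ⟨σ, hxσ, hσ⟩ := h x trivial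
  haveI : IsAffine (CohB1.genLocus M σ : Scheme.{u}) := hσ
  exact ⟨0, M, Frame.self M, σ, hxσ, inferInstance⟩

/-- If a quasi-compact scheme is covered by affine opens `X_s` with `s` a section of a globally
generated invertible module (depending on the point), then it has an ample invertible module. -/
theorem exists_isAmple_of_gg_cover [CompactSpace X]
    (h : ∀ x : X, ∃ (L : X.Modules) (s : Coh.structureModule X ⟶ L), PicF.IsInvertible L ∧
      Curv2.IsGloballyGenerated L ∧ x ∈ CohB1.genLocus L s ∧ IsAffineOpen (CohB1.genLocus L s)) :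
    ∃ M : X.Modules, CohB1.IsAmple M := by
  classical
  choose L s hL hG hxs haff using h
  have hPt : ∀ y, PtGen (L y) := fun y x => exists_hom_mem_genLocus (hL y) (hG y) x
  have step : ∀ t : Finset X, ∃ M : X.Modules, PicF.IsInvertible M ∧ PtGen M ∧
      AffCov M (⋃ y ∈ t, (CohB1.genLocus (L y) (s y) : Set X)) := by
    intro t
    induction t using Finset.induction_on with
    | empty =>
      refine ⟨Coh.structureModule X, isInvertible_structureModule, ?_, ?_⟩
      · intro x
        refine ⟨𝟙 _, ?_⟩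
        rw [genLocus_structureModule]
        have : ofM (SecTwist.val (𝟙 (Coh.structureModule X)) ⊤) = (1 : Γ(X, ⊤)) := rfl
        rw [this, Scheme.basicOpen_of_isUnit _ isUnit_one]
        trivial
      · intro x hx
        simp at hx
    | insert a t _ ih =>
      obtain ⟨M, hM, hMpt, hMcov⟩ := ih
      refine ⟨CohB1.tensorMod M (L a), isInvertible_tensorMod hM (hL a),
        ptGen_tensorMod hM (hL a) hMpt (hPt a), ?_⟩
      have := affCov_tensorMod hM (hL a) hMpt (hPt a) hMcov (s a) (haff a)
      intro x hx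
      apply this x
      rw [Finset.set_biUnion_insert] at hx
      rcases hx with hx | hx
      · exact Or.inr hx
      · exact Or.inl hx
  obtain ⟨t, ht⟩ := isCompact_univ.elim_finite_subcover
    (fun y : X => (CohB1.genLocus (L y) (s y) : Set X))
    (fun y => (CohB1.genLocus (L y) (s y)).isOpen)
    (fun x _ => Set.mem_iUnion.mpr ⟨x, hxs x⟩)
  obtain ⟨M, hM, -, hMcov⟩ := step t
  refine ⟨M, isAmple_of_affCov hM ?_⟩
  intro x hx
  exact hMcov x (ht hx)

end GGH8
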