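import Groth.Agent.Lib.PB3_helper8
import Groth.Prelude.Def_FlatMod2
set_option autoImplicit false
open CategoryTheory AlgebraicGeometry Opposite TopologicalSpace Limits
open AlgebraicGeometry.Scheme.Modules
universe u
namespace PBH8

section
variable {X Y : Scheme.{u}} (f : X ⟶ Y)

instance final_opensMap : (Opens.map f.base).Final := by
  constructor
  intro d
  let t : StructuredArrow d (Opens.map f.base) := StructuredArrow.mk (Y := ⊤) (homOfLE le_top)
  refine isConnected_of_isTerminal _ (x := t) ?_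
  refine IsTerminal.ofUniqueHom (fun c => StructuredArrow.homMk (homOfLE le_top) (Subsingleton.elim _ _))
    (fun c m => ?_)
  ext
  exact Subsingleton.elim _ _

/-- The pullback of the structure sheaf is the structure sheaf. -/
noncomputable def pullbackUnitIso :
    (Scheme.Modules.pullback f).obj (SheafOfModules.unit Y.ringCatSheaf) ≅
      SheafOfModules.unit X.ringCatSheaf :=
  @asIso _ _ _ _ (SheafOfModules.pullbackObjUnitToUnit f.toRingCatSheafHom)
    (SheafOfModules.instIsIsoPullbackObjUnitToUnitOfFinal f.toRingCatSheafHom)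

end
end PBH8

namespace PBH8
section
variable {X Y : Scheme.{u}} (f : X ⟶ Y)

/-- The pullback of a free module of finite rank is free of the same rank. -/
noncomputable def pullbackFreeIso (n : ℕ) :
    (Scheme.Modules.pullback f).obj (FlatMod.freeMod Y n) ≅ FlatMod.freeMod X n :=
  PreservesCoproduct.iso (Scheme.Modules.pullback f) (fun _ : Fin n => Coh.structureModule Y) ≪≫
    Sigma.mapIso (fun _ => pullbackUnitIso f)

/-- The pullback of a finite locally free module of rank `n` is finite locally free of rank `n`. -/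
theorem isFinLocFreeOfRank_pullback {n : ℕ} {F : Y.Modules} (hF : FlatMod.IsFinLocFreeOfRank n F) :
    FlatMod.IsFinLocFreeOfRank n ((Scheme.Modules.pullback f).obj F) := by
  intro x
  obtain ⟨V, hxV, ⟨α⟩⟩ := hF (f x)
  refine ⟨f ⁻¹ᵁ V, hxV, ⟨?_⟩⟩
  have comm : (f ⁻¹ᵁ V).ι ≫ f = (f ∣_ V) ≫ V.ι := (morphismRestrict_ι f V).symm
  exact (beta f (f ⁻¹ᵁ V).ι V.ι (f ∣_ V) comm).app F ≪≫
    (Scheme.Modules.pullback (f ∣_ V)).mapIso α ≪≫ pullbackFreeIso (f ∣_ V) n

/-- The pullback of a finite locally free module is finite locally free. -/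
theorem isFinLocFree_pullback {F : Y.Modules} (hF : FlatMod.IsFinLocFree F) :
    FlatMod.IsFinLocFree ((Scheme.Modules.pullback f).obj F) := by
  intro x
  obtain ⟨V, n, hxV, ⟨α⟩⟩ := hF (f x)
  refine ⟨f ⁻¹ᵁ V, n, hxV, ⟨?_⟩⟩
  have comm : (f ⁻¹ᵁ V).ι ≫ f = (f ∣_ V) ≫ V.ι := (morphismRestrict_ι f V).symm
  exact (beta f (f ⁻¹ᵁ V).ι V.ι (f ∣_ V) comm).app F ≪≫
    (Scheme.Modules.pullback (f ∣_ V)).mapIso α ≪≫ pullbackFreeIso (f ∣_ V) n

end
end PBH8
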