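import Mathlib
import Groth.Prelude
import Groth.Agent.Lib.GG3_helper8
import Groth.Agent.Lib.PB9_helper8

/-!
# Bi-frames: coefficients, transfer; global generation from pointwise generation (helper8)
APPEND-ONLY once landed.
-/

set_option autoImplicit false

namespace TensH8

open AlgebraicGeometry CategoryTheory CategoryTheory.Limits TopologicalSpace Opposite TensorProduct
open QcqsLoc MonoidalCategory GenLocH8 FLFH8 QCohExtn

universe u

variable {X : Scheme.{u}}

namespace Frame₂

variable {L L' M M' M'' : X.Modules}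

/-- Product of a bi-frame with a frame relative to the first module. -/
noncomputable def tmulFrame {a b c : ℕ} (Ψ : Frame₂ L L' M a b) (Φ : Frame L M' c) :
    Frame₂ L L' (CohB1.tensorMod M M') (a + c) b where
  φ W e e' := SecTwist.tmul M M' W (Ψ.φ W e e') (Φ.φ W e)
  isGen he he' := isGen_tmul (Ψ.isGen he he') (Φ.isGen he)
  res h e e' := by rw [rF_tmul, Ψ.res, Φ.res]
  smul W u u' e e' := by
    rw [Ψ.smul, Φ.smul, tmul_smul_left, tmul_smul_right, ← mul_smul]
    congr 1
    ring

section Coef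

variable {a b : ℕ} (Ψ : Frame₂ L L' M a b) (s : Coh.structureModule X ⟶ M)

/-- The local coefficient of a global section with respect to a bi-frame. -/
noncomputable def coefHom (W : X.Opens) (e : Γ(L, W)) (e' : Γ(L', W)) (he : IsGen L W e)
    (he' : IsGen L' W e') : Γ(X, W) :=
  Classical.choose ((Ψ.isGen he he').exists_coef (SecTwist.val s W))

theorem coefHom_spec (W : X.Opens) (e : Γ(L, W)) (e' : Γ(L', W)) (he : IsGen L W e)
    (he' : IsGen L' W e') :
    SecTwist.val s W = Ψ.coefHom s W e e' he he' • Ψ.φ W e e' :=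
  Classical.choose_spec ((Ψ.isGen he he').exists_coef (SecTwist.val s W))

theorem coefHom_unique (W : X.Opens) (e : Γ(L, W)) (e' : Γ(L', W)) (he : IsGen L W e)
    (he' : IsGen L' W e') (c : Γ(X, W)) (hc : SecTwist.val s W = c • Ψ.φ W e e') :
    c = Ψ.coefHom s W e e' he he' := by
  apply IsGen.coef_ext (Ψ.isGen he he')
  rw [← hc, ← coefHom_spec]

theorem coefHom_res (W : X.Opens) (e : Γ(L, W)) (e' : Γ(L', W)) (he : IsGen L W e)
    (he' : IsGen L' W e') {W' : X.Opens} (h : W' ≤ W) :
    Ψ.coefHom s W' (rF L h e) (rF L' h e') (he.res h) (he'.res h) =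
      rX h (Ψ.coefHom s W e e' he he') := by
  symm
  apply coefHom_unique
  rw [← Ψ.res, ← rF_smul, ← coefHom_spec, rF_val]

theorem coefHom_change (W : X.Opens) (e : Γ(L, W)) (e' : Γ(L', W)) (he : IsGen L W e)
    (he' : IsGen L' W e') (u u' : Γ(X, W)) (hue : IsGen L W (u • e))
    (hue' : IsGen L' W (u' • e')) :
    Ψ.coefHom s W e e' he he' = Ψ.coefHom s W (u • e) (u' • e') hue hue' * (u ^ a * u' ^ b) := by
  symm
  apply coefHom_unique
  rw [mul_smul, ← Ψ.smul, ← coefHom_spec]

theorem genLocus_inf (W : X.Opens) (e : Γ(L, W)) (e' : Γ(L', W)) (he : IsGen L W e)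
    (he' : IsGen L' W e') :
    CohB1.genLocus M s ⊓ W = X.basicOpen (Ψ.coefHom s W e e' he he') :=
  genLocus_inf_eq s (Ψ.isGen he he') _ (Ψ.coefHom_spec s W e e' he he')

end Coef

/-- Sections transfer between modules bi-framed with the same weights, with the same locus. -/
theorem transfer (hL : PicF.IsInvertible L) (hL' : PicF.IsInvertible L') {a b : ℕ}
    (Ψ : Frame₂ L L' M a b) (Ψ' : Frame₂ L L' M' a b) (s : Coh.structureModule X ⟶ M) :
    ∃ s' : Coh.structureModule X ⟶ M', CohB1.genLocus M' s' = CohB1.genLocus M s := by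
  obtain ⟨s', hs'⟩ := Ψ'.exists_hom hL hL' (fun W e e' he he' => Ψ.coefHom s W e e' he he')
    (fun W e e' he he' W' h => Ψ.coefHom_res s W e e' he he' h)
    (fun W e e' he he' u u' hue hue' => Ψ.coefHom_change s W e e' he he' u u' hue hue')
  refine ⟨s', opens_eq_of_local (fun x => ?_)⟩
  obtain ⟨W, hxW, e, e', he, he'⟩ := exists_isGen₂ hL hL' x
  refine ⟨W, hxW, ?_⟩
  rw [genLocus_inf_eq s' (Ψ'.isGen he he') _ (hs' W e e' he he'), Ψ.genLocus_inf s W e e' he he']

theorem isInvertible (hL : PicF.IsInvertible L) (hL' : PicF.IsInvertible L') {a b : ℕ}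
    (Ψ : Frame₂ L L' M a b) : PicF.IsInvertible M := by
  apply isInvertible_of_gens
  intro x
  obtain ⟨W0, hxW0, e, e', he, he'⟩ := exists_isGen₂ hL hL' x
  obtain ⟨_, ⟨W, hW : IsAffineOpen W, rfl⟩, hxW, hWle⟩ :=
    (X.isBasis_affineOpens).exists_subset_of_mem_open hxW0 W0.isOpen
  have h1 : W ≤ W0 := hWle
  exact ⟨W, hW, hxW, _, Ψ.isGen (he.res h1) (he'.res h1)⟩

end Frame₂

set_option backward.isDefEq.respectTransparency false in
/-- A module generated at every point by a global section is globally generated. -/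
theorem isGloballyGenerated_of_ptGen {M : X.Modules} (h : GGH8.PtGen M) :
    Curv2.IsGloballyGenerated M := by
  let A : X.Modules := SheafOfModules.free (R := X.ringCatSheaf) (Coh.structureModule X ⟶ M)
  let p : A ⟶ M := (SheafOfModules.freeHomEquiv M).symm (fun t => M.unitHomEquiv t)
  refine ⟨(Coh.structureModule X ⟶ M), p, ?_⟩
  apply GlobGen.epi_of_surjective_on_basis p
    {W | ∃ t : Coh.structureModule X ⟶ M, W ≤ CohB1.genLocus M t}
  · rw [Opens.isBasis_iff_nbhd]
    intro O x hx
    obtain ⟨t, ht⟩ := h x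
    exact ⟨O ⊓ CohB1.genLocus M t, ⟨t, inf_le_right⟩, ⟨hx, ht⟩, inf_le_left⟩
  · rintro W ⟨t, hW⟩ m
    have hg := isGen_val_of_le_genLocus t hW
    obtain ⟨c, hc⟩ := hg.exists_coef m
    obtain ⟨e0, he0⟩ : ∃ e0 : Γ(A, W),
        p.app W e0 = SecTwist.val t W := by
      refine ⟨(SheafOfModules.freeSection (R := X.ringCatSheaf) t).val (op W), ?_⟩
      have h1 := SheafOfModules.sectionsMap_freeHomEquiv_symm_freeSection (M := M)
        (fun t : Coh.structureModule X ⟶ M => M.unitHomEquiv t) t
      exact congrArg (fun σ => σ.val (op W)) h1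
    refine ⟨c • e0, ?_⟩
    rw [Scheme.Modules.Hom.app_smul, he0, hc]

end TensH8

namespace TensH8

open AlgebraicGeometry CategoryTheory CategoryTheory.Limits TopologicalSpace Opposite TensorProduct
open QcqsLoc MonoidalCategory GenLocH8 FLFH8 QCohExtn

universe u

/-- External tensor products of ample modules over a quasi-separated base are ample. -/
theorem isAmple_pullback_tensor {X Y S : Scheme.{u}} [QuasiSeparatedSpace S]
    (f : X ⟶ S) (g : Y ⟶ S) (L : X.Modules) (N : Y.Modules) (hL : CohB1.IsAmple L)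
    (hN : CohB1.IsAmple N) :
    CohB1.IsAmple (CohB1.tensorMod ((Scheme.Modules.pullback (pullback.fst f g)).obj L)
      ((Scheme.Modules.pullback (pullback.snd f g)).obj N)) := by
  obtain ⟨hLi, hcX, -⟩ := id hL
  obtain ⟨hNi, hcY, -⟩ := id hN
  haveI := hcX
  haveI := hcY
  have hpL := isInvertible_pullback (pullback.fst f g) hLi
  have hqN := isInvertible_pullback (pullback.snd f g) hNi
  have hM := isInvertible_tensorMod hpL hqN
  haveI : QuasiCompact g := inferInstance
  haveI : CompactSpace ↑(pullback f g) := inferInstance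
  refine ⟨hM, inferInstance, fun z => ?_⟩
  obtain ⟨_, ⟨V, hV : IsAffineOpen V, rfl⟩, hwV, -⟩ :=
    (S.isBasis_affineOpens).exists_subset_of_mem_open
      (Set.mem_univ (f (pullback.fst f g z))) isOpen_univ
  have hwV' : g (pullback.snd f g z) ∈ V := by
    have h0 : (pullback.fst f g ≫ f) z = (pullback.snd f g ≫ g) z := by rw [pullback.condition]
    have h1 : f (pullback.fst f g z) = g (pullback.snd f g z) := by
      simpa using h0
    rw [← h1]
    exact hwV
  have hBX := affine_genLocus_isBasis hLi ((isAmple_iff_isBasis hLi).mp hL)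
  rw [Opens.isBasis_iff_nbhd] at hBX
  obtain ⟨_, ⟨haffX, a, s, rfl⟩, hxs, hsV⟩ :=
    hBX (U := f ⁻¹ᵁ V) (x := pullback.fst f g z) hwV
  have hBY := affine_genLocus_isBasis hNi ((isAmple_iff_isBasis hNi).mp hN)
  rw [Opens.isBasis_iff_nbhd] at hBY
  obtain ⟨_, ⟨haffY, b, t, rfl⟩, hyt, htV⟩ :=
    hBY (U := g ⁻¹ᵁ V) (x := pullback.snd f g z) hwV'
  have h1 := genLocus_pullback (pullback.fst f g) _ (isInvertible_tensorPow hLi (a + 1)) s
    (PBH8.pullbackUnitIso (pullback.fst f g)).symm
  have h2 := genLocus_pullback (pullback.snd f g) _ (isInvertible_tensorPow hNi (b + 1)) t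
    (PBH8.pullbackUnitIso (pullback.snd f g)).symm
  obtain ⟨τ, hτ⟩ := Frame₂.exists_hom_genLocus_inf hpL hqN
    ((Frame.pow L (a + 1)).pullback (pullback.fst f g) hLi) _
    ((Frame.pow N (b + 1)).pullback (pullback.snd f g) hNi) _
    (Nat.succ_pos b) (Nat.succ_pos a)
    ((Frame₂.tmul (Frame.self _) (Frame.self _)).powOf (a * b + a + b + 1))
    (show 1 * (a * b + a + b + 1) = (a + 1) * (b + 1) by ring)
    (show 1 * (a * b + a + b + 1) = (b + 1) * (a + 1) by ring)
  rw [h1, h2] at hτ
  refine ⟨a * b + a + b, τ, ?_, ?_⟩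
  · rw [hτ]
    exact ⟨hxs, hyt⟩
  · rw [hτ]
    exact isAffineOpen_pullback_inf haffX haffY hV hsV htV

end TensH8
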