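import Mathlib
import Groth.Prelude
import Groth.Agent.Lib.Tens22_helper8

/-!
# Twists `L^n ⊗ L'` of an invertible module by an ample one (helper8)
APPEND-ONLY once landed.
-/

set_option autoImplicit false

namespace TensH8

open AlgebraicGeometry CategoryTheory CategoryTheory.Limits TopologicalSpace Opposite TensorProduct
open QcqsLoc MonoidalCategory GenLocH8 FLFH8 QCohExtn

universe u

variable {X : Scheme.{u}}

/-- Extension of a generator of `F` over `X_s` to a global section of `(F ⊗ P^N) ⊗ P` with locus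
exactly `X_s`. -/
theorem exists_hom_twist_genLocus [CompactSpace X] [QuasiSeparatedSpace X] {P F : X.Modules}
    (hP : PicF.IsInvertible P) (hF : PicF.IsInvertible F) (s : Coh.structureModule X ⟶ P)
    (t : Γ(F, CohB1.genLocus P s)) (ht : IsGen F (CohB1.genLocus P s) t) :
    ∃ n0 : ℕ, ∀ N : ℕ, n0 ≤ N → ∃ σ : Coh.structureModule X ⟶
        CohB1.tensorMod (CohB1.tensorMod F (CohB1.tensorPow P N)) P,
      CohB1.genLocus _ σ = CohB1.genLocus P s := by
  haveI : F.IsQuasicoherent := isQuasicoherent_of_isInvertible hF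
  obtain ⟨n0, hn0⟩ := exists_twist_extends hP s F t
  refine ⟨n0, fun N hN => ?_⟩
  obtain ⟨t', ht'⟩ := hn0 N hN
  have hFP : PicF.IsInvertible (CohB1.tensorMod F (CohB1.tensorPow P N)) :=
    isInvertible_tensorMod hF (isInvertible_tensorPow hP N)
  refine ⟨SecTwist.tmulHom (homOfSec _ t') s, ?_⟩
  rw [genLocus_tmulHom hFP hP]
  apply inf_eq_right.mpr
  have hgen : IsGen (CohB1.tensorMod F (CohB1.tensorPow P N)) (CohB1.genLocus P s)
      (SecTwist.twist s N F (CohB1.genLocus P s) t) := by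
    have h1 : IsGen P (CohB1.genLocus P s) (SecTwist.val s (CohB1.genLocus P s)) :=
      isGen_val_of_le_genLocus s le_rfl
    have h2 := isGen_lpow h1 N
    rw [CycCov.lpow_val] at h2
    exact isGen_tmul ht h2
  have h3 := genLocus_inf_eq (homOfSec _ t') hgen 1 (by rw [one_smul, val_homOfSec]; exact ht')
  rw [Scheme.basicOpen_of_isUnit _ isUnit_one] at h3
  exact inf_eq_right.mp h3

/-- For `L` ample and `L'` invertible on a qcqs scheme, `L^n ⊗ L'` is ample and globally generated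
for all large `n`. -/
theorem exists_isAmple_gg_twist [CompactSpace X] [QuasiSeparatedSpace X] {L L' : X.Modules}
    (hL : CohB1.IsAmple L) (hL' : PicF.IsInvertible L') :
    ∃ n₀ : ℕ, 0 < n₀ ∧ ∀ n, n₀ ≤ n →
      CohB1.IsAmple (CohB1.tensorMod (CohB1.tensorPow L n) L') ∧
        Curv2.IsGloballyGenerated (CohB1.tensorMod (CohB1.tensorPow L n) L') := by
  classical
  obtain ⟨hLi, -, -⟩ := id hL
  have hB := affine_genLocus_isBasis hLi ((isAmple_iff_isBasis hLi).mp hL)
  rw [Opens.isBasis_iff_nbhd] at hB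
  have key : ∀ x : X, ∃ (k : ℕ) (s : Coh.structureModule X ⟶ CohB1.tensorPow L (k + 1)),
      x ∈ CohB1.genLocus _ s ∧ IsAffineOpen (CohB1.genLocus _ s) ∧
      ∃ (e : Γ(L, CohB1.genLocus _ s)) (e' : Γ(L', CohB1.genLocus _ s)),
        IsGen L _ e ∧ IsGen L' _ e' := by
    intro x
    obtain ⟨W, hxW, e, e', he, he'⟩ := exists_isGen₂ hLi hL' x
    obtain ⟨_, ⟨haff, k, s, rfl⟩, hxs, hle⟩ := hB hxW
    exact ⟨k, s, hxs, haff, rF L hle e, rF L' hle e', he.res hle, he'.res hle⟩
  choose k s hxs haff e e' he he' using key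
  obtain ⟨T, hT⟩ := isCompact_univ.elim_finite_subcover
    (fun y : X => (CohB1.genLocus _ (s y) : Set X)) (fun y => (CohB1.genLocus _ (s y)).isOpen)
    (fun x _ => Set.mem_iUnion.mpr ⟨x, hxs x⟩)
  obtain ⟨m, hm_def⟩ : ∃ m : ℕ, m = ∏ y ∈ T, (k y + 1) := ⟨_, rfl⟩
  have hm : 0 < m := by
    rw [hm_def]
    exact Finset.prod_pos (fun y _ => Nat.succ_pos _)
  have hdvd : ∀ y ∈ T, (k y + 1) ∣ m := fun y hy => by
    rw [hm_def]
    exact Finset.dvd_prod_of_mem _ hy
  have hs' : ∀ y ∈ T, ∃ s' : Coh.structureModule X ⟶ CohB1.tensorPow L m,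
      CohB1.genLocus _ s' = CohB1.genLocus _ (s y) := by
    intro y hy
    obtain ⟨r, hr⟩ := hdvd y hy
    have hr0 : 0 < r := by
      rcases Nat.eq_zero_or_pos r with h | h
      · rw [h, mul_zero] at hr
        omega
      · exact h
    exact Frame.transfer_pow hLi (Frame.pow L (k y + 1)) (Frame.pow L m) r hr0 hr (s y)
  have hD : ∀ y ∈ T, ∀ j : ℕ, ∃ n0 : ℕ, ∀ N : ℕ, n0 ≤ N →
      ∀ n : ℕ, j + m * N + m = n →
        ∃ σ : Coh.structureModule X ⟶ CohB1.tensorMod (CohB1.tensorPow L n) L',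
          CohB1.genLocus _ σ = CohB1.genLocus _ (s y) := by
    intro y hy j
    obtain ⟨s', hs'⟩ := hs' y hy
    have hF : PicF.IsInvertible (CohB1.tensorMod (CohB1.tensorPow L j) L') :=
      isInvertible_tensorMod (isInvertible_tensorPow hLi j) hL'
    have hP := isInvertible_tensorPow hLi m
    have hle : CohB1.genLocus _ s' ≤ CohB1.genLocus _ (s y) := hs'.le
    have ht := (Frame₂.tmul (Frame.pow L j) (Frame.self L')).isGen ((he y).res hle)
      ((he' y).res hle)
    obtain ⟨n0, hn0⟩ := exists_hom_twist_genLocus hP hF s' _ ht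
    refine ⟨n0, fun N hN n hn => ?_⟩
    obtain ⟨σ, hσ⟩ := hn0 N hN
    obtain ⟨σ', hσ'⟩ := Frame₂.transfer hLi hL'
      (((Frame₂.tmul (Frame.pow L j) (Frame.self L')).tmulFrame
        ((Frame.pow L m).powOf N)).tmulFrame (Frame.pow L m))
      ((Frame₂.tmul (Frame.pow L n) (Frame.self L')).cast hn.symm rfl) σ
    exact ⟨σ', by rw [hσ', hσ, hs']⟩
  choose! n0 hn0 using hD
  obtain ⟨K, hK_def⟩ : ∃ K : ℕ, K = T.sup (fun y => (Finset.range m).sup (fun j => n0 y j)) :=
    ⟨_, rfl⟩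
  have hK : ∀ y ∈ T, ∀ j < m, n0 y j ≤ K := by
    intro y hy j hj
    rw [hK_def]
    exact le_trans (Finset.le_sup (f := fun j => n0 y j) (Finset.mem_range.mpr hj))
      (Finset.le_sup (f := fun y => (Finset.range m).sup (fun j => n0 y j)) hy)
  refine ⟨m * K + 2 * m, Nat.add_pos_right _ (by omega), fun n hn => ?_⟩
  have hcov : GGH8.AffCov (CohB1.tensorMod (CohB1.tensorPow L n) L') Set.univ := by
    intro x _
    obtain ⟨y, hyT, hxy⟩ := Set.mem_iUnion₂.mp (hT (Set.mem_univ x))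
    have hj : n % m < m := Nat.mod_lt _ hm
    have hq : K + 2 ≤ n / m := by
      rw [Nat.le_div_iff_mul_le hm]
      calc (K + 2) * m = m * K + 2 * m := by ring
        _ ≤ n := hn
    have hN : n0 y (n % m) ≤ n / m - 1 := le_trans (hK y hyT _ hj) (by omega)
    have hdecomp : n % m + m * (n / m - 1) + m = n := by
      have h1 := Nat.mod_add_div n m
      have h3 : n / m - 1 + 1 = n / m := by omega
      have h2 : m * (n / m - 1) + m = m * (n / m) := by
        calc m * (n / m - 1) + m = m * (n / m - 1 + 1) := by ring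
          _ = m * (n / m) := by rw [h3]
      omega
    obtain ⟨σ, hσ⟩ := hn0 y hyT (n % m) (n / m - 1) hN n hdecomp
    refine ⟨σ, ?_, ?_⟩
    · rw [hσ]
      exact hxy
    · rw [hσ]
      exact haff y
  have hMn : PicF.IsInvertible (CohB1.tensorMod (CohB1.tensorPow L n) L') :=
    isInvertible_tensorMod (isInvertible_tensorPow hLi n) hL'
  refine ⟨GGH8.isAmple_of_affCov hMn hcov, isGloballyGenerated_of_ptGen ?_⟩
  intro x
  obtain ⟨σ, hxσ, -⟩ := hcov x trivial
  exact ⟨σ, hxσ⟩

end TensH8
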