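import Mathlib
import Groth.Prelude
import Groth.Agent.Lib.Tens23_helper8
import Groth.Agent.Lib.Tens21_helper8

/-!
# Composition of relatively ample modules: the absolute step (helper8)
APPEND-ONLY once landed.
-/

set_option autoImplicit false

namespace TensH8

open AlgebraicGeometry CategoryTheory CategoryTheory.Limits TopologicalSpace Opposite TensorProduct
open QcqsLoc MonoidalCategory GenLocH8 FLFH8 QCohExtn

universe u

variable {X : Scheme.{u}}

namespace Frame₂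

variable {L L' M M' : X.Modules}

/-- Product of a bi-frame with a frame relative to the second module. -/
noncomputable def tmulFrame₂ {a b c : ℕ} (Ψ : Frame₂ L L' M a b) (Φ : Frame L' M' c) :
    Frame₂ L L' (CohB1.tensorMod M M') a (b + c) where
  φ W e e' := SecTwist.tmul M M' W (Ψ.φ W e e') (Φ.φ W e')
  isGen he he' := isGen_tmul (Ψ.isGen he he') (Φ.isGen he')
  res h e e' := by rw [rF_tmul, Ψ.res, Φ.res]
  smul W u u' e e' := by
    rw [Ψ.smul, Φ.smul, tmul_smul_left, tmul_smul_right, ← mul_smul]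
    congr 1
    ring

/-- Change of the base modules of a bi-frame along isomorphisms. -/
noncomputable def changeBase {a b : ℕ} (Ψ : Frame₂ L L' M a b) {L₁ L₁' : X.Modules}
    (α : L ≅ L₁) (β : L' ≅ L₁') : Frame₂ L₁ L₁' M a b where
  φ W e e' := Ψ.φ W (ap α.inv W e) (ap β.inv W e')
  isGen he he' := Ψ.isGen (isGen_of_iso α.symm he) (isGen_of_iso β.symm he')
  res h e e' := by rw [Ψ.res, ap_rF, ap_rF]
  smul W u u' e e' := by rw [ap_smul, ap_smul, Ψ.smul]

end Frame₂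

/-- Passing to a power of a section over an open, keeping the locus. -/
theorem HasLocus.change_frame_pow {L M M' : X.Modules} (hL : PicF.IsInvertible L) {a N : ℕ}
    (Φ : Frame L M a) (Ψ : Frame L M' N) (r : ℕ) (hr : 0 < r) (hN : N = a * r) {V : X.Opens}
    (σ : Γ(M, V)) {O : X.Opens} (h : HasLocus Φ σ O) :
    ∃ σ' : Γ(M', V), HasLocus Ψ σ' O := by
  obtain ⟨σ', hσ'⟩ := Ψ.exists_section hL V (fun W hW e he => Φ.coefOf σ W hW e he ^ r)
    (fun W hW e he W' h => by rw [Φ.coefOf_res σ W hW e he h, map_pow])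
    (fun W hW e he u he' => by rw [Φ.coefOf_change σ W hW e he u he', mul_pow, hN, pow_mul])
  refine ⟨σ', fun W hW e he => ?_⟩
  rw [h W hW e he, ← Ψ.coefOf_unique σ' W hW e he _ (hσ' W hW e he), Scheme.basicOpen_pow _ _ hr]

end TensH8

namespace TensH8

open AlgebraicGeometry CategoryTheory CategoryTheory.Limits TopologicalSpace Opposite TensorProduct
open QcqsLoc MonoidalCategory GenLocH8 FLFH8 QCohExtn

universe u

theorem exists_isGen₂_le {X : Scheme.{u}} {L L' : X.Modules} (hL : PicF.IsInvertible L)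
    (hL' : PicF.IsInvertible L') (x : X) (U : X.Opens) (hx : x ∈ U) :
    ∃ (W : X.Opens), x ∈ W ∧ W ≤ U ∧ ∃ (e : Γ(L, W)) (e' : Γ(L', W)),
      IsGen L W e ∧ IsGen L' W e' := by
  obtain ⟨W1, -, hx1, hW1, e1, he1⟩ := exists_isGen_le hL x U hx
  obtain ⟨W2, -, hx2, -, e2, he2⟩ := exists_isGen_le hL' x U hx
  exact ⟨W1 ⊓ W2, ⟨hx1, hx2⟩, inf_le_left.trans hW1, _, _, he1.res inf_le_left,
    he2.res inf_le_right⟩

/-- The per-point step in the composition theorem for ample modules. -/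
theorem exists_hom_comp_step {X Y : Scheme.{u}} [CompactSpace X] [QuasiSeparatedSpace X]
    (f : X ⟶ Y) {K : Y.Modules} (hK : PicF.IsInvertible K) {L : X.Modules}
    (hL : PicF.IsInvertible L) {k a : ℕ}
    (t : Coh.structureModule Y ⟶ CohB1.tensorPow K (k + 1))
    (σ : Γ(CohB1.tensorPow L (a + 1), f ⁻¹ᵁ CohB1.genLocus _ t)) {O : X.Opens}
    (hO : O ≤ f ⁻¹ᵁ CohB1.genLocus _ t) (hloc : HasLocus (Frame.pow L (a + 1)) σ O) :
    ∃ n0 : ℕ, ∀ n : ℕ, n0 ≤ n → ∀ (M : X.Modules)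
      (_ : Frame₂ L ((Scheme.Modules.pullback f).obj K) M 1 n),
      ∃ τ : Coh.structureModule X ⟶ CohB1.tensorPow M (a * k + a + k + 1),
        CohB1.genLocus _ τ = O := by
  have hN : PicF.IsInvertible ((Scheme.Modules.pullback f).obj K) := isInvertible_pullback f hK
  have hP : PicF.IsInvertible ((Scheme.Modules.pullback f).obj (CohB1.tensorPow K (k + 1))) :=
    isInvertible_pullback f (isInvertible_tensorPow hK (k + 1))
  have ht₁ := genLocus_pullback f _ (isInvertible_tensorPow hK (k + 1)) t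
    (PBH8.pullbackUnitIso f).symm
  obtain ⟨t₁, ht₁def⟩ : ∃ t₁ : Coh.structureModule X ⟶
      (Scheme.Modules.pullback f).obj (CohB1.tensorPow K (k + 1)),
      t₁ = (PBH8.pullbackUnitIso f).symm.hom ≫ (Scheme.Modules.pullback f).map t := ⟨_, rfl⟩
  rw [← ht₁def] at ht₁
  obtain ⟨σ', hσ'⟩ := hloc.change_frame_pow hL (Frame.pow L (a + 1))
    (Frame.pow L (a * k + a + k + 1)) (k + 1) (Nat.succ_pos k) (by ring) σ
  have hle : CohB1.genLocus _ t₁ ≤ f ⁻¹ᵁ CohB1.genLocus _ t := ht₁.le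
  have hσ'' := HasLocus.res _ σ' hσ' hle
  have hF : PicF.IsInvertible (CohB1.tensorPow L (a * k + a + k + 1)) :=
    isInvertible_tensorPow hL _
  haveI : (CohB1.tensorPow L (a * k + a + k + 1)).IsQuasicoherent :=
    isQuasicoherent_of_isInvertible hF
  obtain ⟨n0, hn0⟩ := exists_twist_extends hP t₁ (CohB1.tensorPow L (a * k + a + k + 1))
    (rF _ hle σ')
  refine ⟨n0 + 2, fun n hn M Ψ => ?_⟩
  have hna : n ≤ n * (a + 1) := Nat.le_mul_of_pos_right n (Nat.succ_pos a)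
  obtain ⟨N', hN'def⟩ : ∃ N' : ℕ, N' + 1 = n * (a + 1) := ⟨n * (a + 1) - 1, by omega⟩
  have hN'0 : n0 ≤ N' := by omega
  have hN'pos : 0 < N' := by omega
  obtain ⟨τ', hτ'⟩ := hn0 N' hN'0
  have hlocal : ∀ (W : X.Opens) (hW : W ≤ CohB1.genLocus _ t₁) (e : Γ(L, W))
      (e' : Γ((Scheme.Modules.pullback f).obj K, W)) (he : IsGen L W e)
      (he' : IsGen ((Scheme.Modules.pullback f).obj K) W e'),
      CohB1.genLocus _ (homOfSec _ τ') ⊓ W = O ⊓ W := by
    intro W hW e e' he he'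
    obtain ⟨cσ, hcσ⟩ : ∃ c : Γ(X, W), c = (Frame.pow L (a * k + a + k + 1)).coefOf
      (rF _ hle σ') W hW e he := ⟨_, rfl⟩
    obtain ⟨ct, hct⟩ : ∃ c : Γ(X, W), c = ((Frame.pow K (k + 1)).pullback f hK).coefHom t₁ W e'
      he' := ⟨_, rfl⟩
    have h1 : O ⊓ W = X.basicOpen cσ := by rw [hcσ]; exact hσ'' W hW e he
    have h2 : CohB1.genLocus _ t₁ ⊓ W = X.basicOpen ct := by
      rw [hct]; exact ((Frame.pow K (k + 1)).pullback f hK).genLocus_inf t₁ W e' he'
    have h2' : X.basicOpen ct = W := by rw [← h2]; exact inf_eq_right.mpr hW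
    have hspecσ : rF _ hW (rF _ hle σ') = cσ • (Frame.pow L (a * k + a + k + 1)).φ W e := by
      rw [hcσ]; exact (Frame.pow L (a * k + a + k + 1)).coefOf_spec (rF _ hle σ') W hW e he
    have hspect : SecTwist.val t₁ W = ct • ((Frame.pow K (k + 1)).pullback f hK).φ W e' := by
      rw [hct]; exact ((Frame.pow K (k + 1)).pullback f hK).coefHom_spec t₁ W e' he'
    have hval : SecTwist.val (homOfSec _ τ') W = (cσ * ct ^ N') •
        (Frame₂.tmul (Frame.pow L (a * k + a + k + 1))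
          (((Frame.pow K (k + 1)).pullback f hK).powOf N')).φ W e e' := by
      rw [val_homOfSec]
      have h3 := congrArg (rF _ hW) hτ'
      rw [rF_rF, rF_twist] at h3
      rw [h3]
      show SecTwist.tmul (CohB1.tensorPow L (a * k + a + k + 1)) (CohB1.tensorPow _ N') W
        (rF _ hW (rF _ hle σ')) (SecTwist.pow t₁ N' W) = _
      rw [← CycCov.lpow_val, hspect, lpow_smul, tmul_smul_right, hspecσ, tmul_smul_left,
        ← mul_smul, mul_comm (ct ^ N') cσ]
      rfl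
    rw [genLocus_inf_eq (homOfSec _ τ') ((Frame₂.tmul (Frame.pow L (a * k + a + k + 1))
      (((Frame.pow K (k + 1)).pullback f hK).powOf N')).isGen he he') _ hval,
      Scheme.basicOpen_mul, Scheme.basicOpen_pow _ _ hN'pos, h2', ← h1, inf_assoc, inf_idem]
  have key : CohB1.genLocus _ (homOfSec _ τ') ⊓ CohB1.genLocus _ t₁ = O := by
    ext z
    constructor
    · rintro ⟨hz0, hz1⟩
      obtain ⟨W, hzW, hWle, e, e', he, he'⟩ := exists_isGen₂_le hL hN z _ hz1
      have hW := hlocal W hWle e e' he he'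
      have h4 : z ∈ CohB1.genLocus _ (homOfSec _ τ') ⊓ W := ⟨hz0, hzW⟩
      rw [hW] at h4
      exact h4.1
    · intro hzO
      have hz1 : z ∈ CohB1.genLocus _ t₁ := ht₁.ge (hO hzO)
      obtain ⟨W, hzW, hWle, e, e', he, he'⟩ := exists_isGen₂_le hL hN z _ hz1
      have hW := hlocal W hWle e e' he he'
      have h4 : z ∈ O ⊓ W := ⟨hzO, hzW⟩
      rw [← hW] at h4
      exact ⟨h4.1, hz1⟩
  have hFP : PicF.IsInvertible (CohB1.tensorMod (CohB1.tensorPow L (a * k + a + k + 1))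
      (CohB1.tensorPow ((Scheme.Modules.pullback f).obj (CohB1.tensorPow K (k + 1))) N')) :=
    isInvertible_tensorMod hF (isInvertible_tensorPow hP N')
  have hτ₂ := genLocus_tmulHom hFP hP (homOfSec _ τ') t₁
  rw [key] at hτ₂
  obtain ⟨τ, hτ⟩ := Frame₂.transfer hL hN
    ((Frame₂.tmul (Frame.pow L (a * k + a + k + 1))
      (((Frame.pow K (k + 1)).pullback f hK).powOf N')).tmulFrame₂
        ((Frame.pow K (k + 1)).pullback f hK))
    ((Ψ.powOf (a * k + a + k + 1)).cast (Nat.one_mul _)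
      (show n * (a * k + a + k + 1) = (k + 1) * N' + (k + 1) by
        have h5 : (k + 1) * N' + (k + 1) = (k + 1) * (N' + 1) := by ring
        rw [h5, hN'def]; ring))
    (SecTwist.tmulHom (homOfSec _ τ') t₁)
  exact ⟨τ, by rw [hτ, hτ₂]⟩

end TensH8

namespace TensH8

open AlgebraicGeometry CategoryTheory CategoryTheory.Limits TopologicalSpace Opposite TensorProduct
open QcqsLoc MonoidalCategory GenLocH8 FLFH8 QCohExtn

universe u

/-- Absolute composition theorem: `L ⊗ f^*K^n` (any module bi-framed with weights `(1, n)`)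
is ample for large `n` when `K` is ample and `L` is `f`-ample. -/
theorem isAmple_comp_abs {X Y : Scheme.{u}} [CompactSpace X] [QuasiSeparatedSpace X] (f : X ⟶ Y)
    {K : Y.Modules} (hK : CohB1.IsAmple K) {L : X.Modules} (hL : PicF.IsInvertible L)
    (hLf : ∀ U : Y.Opens, IsAffineOpen U → IsAmpleOn L (f ⁻¹ᵁ U)) :
    ∃ n₀ : ℕ, ∀ n : ℕ, n₀ ≤ n → ∀ (M : X.Modules)
      (_ : Frame₂ L ((Scheme.Modules.pullback f).obj K) M 1 n), CohB1.IsAmple M := by
  classical
  obtain ⟨hKi, -, hKamp⟩ := id hK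
  have key : ∀ x : X, ∃ (O : X.Opens) (p n0 : ℕ), IsAffineOpen O ∧ x ∈ O ∧
      ∀ n, n0 ≤ n → ∀ (M : X.Modules) (_ : Frame₂ L ((Scheme.Modules.pullback f).obj K) M 1 n),
        ∃ τ : Coh.structureModule X ⟶ CohB1.tensorPow M (p + 1), CohB1.genLocus _ τ = O := by
    intro x
    obtain ⟨k, t, hxt, hafft⟩ := hKamp (f x)
    obtain ⟨a, σ, O, haffO, hxO, hOle, hloc⟩ := (hLf _ hafft).2 x hxt
    obtain ⟨n0, hn0⟩ := exists_hom_comp_step f hKi hL t σ hOle hloc
    exact ⟨O, a * k + a + k, n0, haffO, hxO, hn0⟩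
  choose O p n0 haff hxO hn0 using key
  obtain ⟨T, hT⟩ := isCompact_univ.elim_finite_subcover (fun y : X => ((O y : X.Opens) : Set X))
    (fun y => (O y).isOpen) (fun x _ => Set.mem_iUnion.mpr ⟨x, hxO x⟩)
  refine ⟨T.sup n0, fun n hn M Ψ =>
    ⟨Ψ.isInvertible hL (isInvertible_pullback f hKi), inferInstance, fun x => ?_⟩⟩
  obtain ⟨y, hyT, hxy⟩ := Set.mem_iUnion₂.mp (hT (Set.mem_univ x))
  obtain ⟨τ, hτ⟩ := hn0 y n (le_trans (Finset.le_sup hyT) hn) M Ψ
  exact ⟨p y, τ, by rw [hτ]; exact hxy, by rw [hτ]; exact haff y⟩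

/-- Restriction of a pullback to the preimage of an open. -/
noncomputable def restrictPullbackIso {X Y : Scheme.{u}} (f : X ⟶ Y) (U : Y.Opens)
    (K : Y.Modules) :
    ((Scheme.Modules.pullback f).obj K).restrict (f ⁻¹ᵁ U).ι ≅
      (Scheme.Modules.pullback (f ∣_ U)).obj (K.restrict U.ι) :=
  (Scheme.Modules.restrictFunctorIsoPullback (f ⁻¹ᵁ U).ι).app _ ≪≫
  (Scheme.Modules.pullbackComp (f ⁻¹ᵁ U).ι f).app K ≪≫
  (Scheme.Modules.pullbackCongr (morphismRestrict_ι f U).symm).app K ≪≫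
  ((Scheme.Modules.pullbackComp (f ∣_ U) U.ι).app K).symm ≪≫
  (Scheme.Modules.pullback (f ∣_ U)).mapIso
    ((Scheme.Modules.restrictFunctorIsoPullback U.ι).app K).symm

end TensH8

namespace TensH8

open AlgebraicGeometry CategoryTheory CategoryTheory.Limits TopologicalSpace Opposite TensorProduct
open QcqsLoc MonoidalCategory GenLocH8 FLFH8 QCohExtn

universe u

/-- EGA II 4.6.13 (ii): composition of relatively ample modules after a large twist. -/
theorem isRelAmple_comp_twist {X Y Z : Scheme.{u}} [CompactSpace Z] (f : X ⟶ Y) (g : Y ⟶ Z)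
    [QuasiCompact f] [QuasiCompact g] (L : X.Modules) (K : Y.Modules)
    (hL : RelAmple.IsRelAmple f L) (hK : RelAmple.IsRelAmple g K) :
    ∃ n₀ : ℕ, 0 < n₀ ∧ ∀ n, n₀ ≤ n →
      RelAmple.IsRelAmple (f ≫ g)
        (CohB1.tensorMod L ((Scheme.Modules.pullback f).obj (CohB1.tensorPow K n))) := by
  classical
  have hLi := isInvertible_of_isRelAmple f hL
  have hKi := isInvertible_of_isRelAmple g hK
  have hMi : ∀ n, PicF.IsInvertible
      (CohB1.tensorMod L ((Scheme.Modules.pullback f).obj (CohB1.tensorPow K n))) :=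
    fun n => isInvertible_tensorMod hLi (isInvertible_pullback f (isInvertible_tensorPow hKi n))
  haveI : IsSeparated f := isSeparated_of_isRelAmple f hL
  have claim : ∀ V : Z.affineOpens, ∃ nV : ℕ, ∀ n, nV ≤ n →
      IsAmpleOn (CohB1.tensorMod L ((Scheme.Modules.pullback f).obj (CohB1.tensorPow K n)))
        (f ⁻¹ᵁ (g ⁻¹ᵁ V.1)) := by
    intro V
    have hK' : CohB1.IsAmple (K.restrict (g ⁻¹ᵁ V.1).ι) := hK.2 V
    have hc : IsCompact ((f ⁻¹ᵁ (g ⁻¹ᵁ V.1) : X.Opens) : Set X) :=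
      QuasiCompact.isCompact_preimage (f := f ≫ g) _ V.1.isOpen V.2.isCompact
    haveI : CompactSpace (f ⁻¹ᵁ (g ⁻¹ᵁ V.1)).toScheme := isCompact_iff_compactSpace.mp hc
    haveI : (g ⁻¹ᵁ V.1).toScheme.IsSeparated :=
      isSeparated_of_affine_genLocus hK'.1 hK'.2.2
    haveI : QuasiSeparatedSpace (f ⁻¹ᵁ (g ⁻¹ᵁ V.1)).toScheme :=
      quasiSeparatedSpace_of_quasiSeparated (f ∣_ (g ⁻¹ᵁ V.1))
    have hLf' : ∀ U' : (g ⁻¹ᵁ V.1).toScheme.Opens, IsAffineOpen U' →
        IsAmpleOn (L.restrict (f ⁻¹ᵁ (g ⁻¹ᵁ V.1)).ι) ((f ∣_ (g ⁻¹ᵁ V.1)) ⁻¹ᵁ U') := by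
      intro U' hU'
      rw [isAmpleOn_restrict_iff _ hLi, image_morphismRestrict_preimage]
      exact ((isRelAmple_iff f hLi).mp hL).2
        ⟨_, hU'.image_of_isOpenImmersion (g ⁻¹ᵁ V.1).ι⟩
    obtain ⟨nV, hnV⟩ := isAmple_comp_abs (f ∣_ (g ⁻¹ᵁ V.1)) hK'
      (isInvertible_restrict _ hLi) hLf'
    refine ⟨nV, fun n hn => ?_⟩
    rw [← isAmple_restrict_ι_iff (hMi n)]
    exact hnV n hn _ (((Frame₂.tmul (Frame.self L) ((Frame.pow K n).pullback f hKi)).restrict
      (f ⁻¹ᵁ (g ⁻¹ᵁ V.1)).ι).changeBase (Iso.refl _) (restrictPullbackIso f (g ⁻¹ᵁ V.1) K))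
  choose nV hnV using claim
  obtain ⟨T, hT⟩ := isCompact_univ.elim_finite_subcover
    (fun V : Z.affineOpens => ((V.1 : Z.Opens) : Set Z)) (fun V => V.1.isOpen) (fun z _ => by
      obtain ⟨_, ⟨V, hV, rfl⟩, hzV, -⟩ := (Z.isBasis_affineOpens).exists_subset_of_mem_open
        (Set.mem_univ z) isOpen_univ
      exact Set.mem_iUnion.mpr ⟨⟨V, hV⟩, hzV⟩)
  refine ⟨T.sup nV + 1, Nat.succ_pos _, fun n hn => ?_⟩
  apply isRelAmple_of_local (f ≫ g) (hMi n)
  intro z
  obtain ⟨V, hVT, hzV⟩ := Set.mem_iUnion₂.mp (hT (Set.mem_univ z))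
  refine ⟨V.1, hzV, fun V' hV' => ?_⟩
  have h1 := hnV V n (le_trans (Finset.le_sup hVT) (Nat.le_of_succ_le hn))
  exact IsAmpleOn.mono (hMi n) h1 (fun x hx => hV' hx)
    (QuasiCompact.isCompact_preimage (f := f ≫ g) _ V'.1.isOpen V'.2.isCompact)

end TensH8
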