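import Mathlib
import Groth.Prelude
import Groth.Agent.Lib.Tens24_helper8
import Groth.Agent.Lib.SerreCrit1_helper9

/-!
# Relative ampleness on a disjoint union (helper8)
APPEND-ONLY once landed.
-/

set_option autoImplicit false

namespace TensH8

open AlgebraicGeometry CategoryTheory CategoryTheory.Limits TopologicalSpace Opposite TensorProduct
open QcqsLoc MonoidalCategory GenLocH8 FLFH8 QCohExtn

universe u

section DisjointUnion

variable {X : Scheme.{u}}

theorem isAmpleOn_sup_aux {M : X.Modules} {A B : X.Opens} (hAB : A ⊓ B = ⊥)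
    (hA : IsAmpleOn M A) (x : X) (hx : x ∈ A) :
    ∃ (n : ℕ) (σ : Γ(CohB1.tensorPow M (n + 1), A ⊔ B)) (O : X.Opens),
      IsAffineOpen O ∧ x ∈ O ∧ O ≤ A ⊔ B ∧ HasLocus (Frame.pow M (n + 1)) σ O := by
  obtain ⟨n, σ, O, haff, hxO, hOA, hloc⟩ := hA.2 x hx
  have hbot : ∀ (s t : Γ(CohB1.tensorPow M (n + 1), A ⊓ B)), s = t := by
    intro s t
    apply eq_of_cover
    intro z hz
    rw [hAB] at hz
    exact absurd hz (by simp)
  obtain ⟨σ', hσA, hσB⟩ := SerreCrit.glue₂_mod (CohB1.tensorPow M (n + 1))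
    (le_sup_left : A ≤ A ⊔ B) le_sup_right le_rfl σ 0 (hbot _ _)
  refine ⟨n, σ', O, haff, hxO, hOA.trans le_sup_left, ?_⟩
  intro W hW e he
  obtain ⟨c, hc⟩ : ∃ c, c = (Frame.pow M (n + 1)).coefOf σ' W hW e he := ⟨_, rfl⟩
  rw [← hc]
  have hspec : rF _ hW σ' = c • (Frame.pow M (n + 1)).φ W e := by
    rw [hc]; exact (Frame.pow M (n + 1)).coefOf_spec σ' W hW e he
  have hWA : W ⊓ A ≤ A := inf_le_right
  have hA1 : O ⊓ (W ⊓ A) = X.basicOpen (rX (inf_le_left : W ⊓ A ≤ W) c) := by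
    rw [hloc (W ⊓ A) hWA (rF M inf_le_left e) (he.res inf_le_left)]
    congr 1
    symm
    apply Frame.coefOf_unique
    rw [← hσA, rF_rF, ← (Frame.pow M (n + 1)).res, ← rF_smul, ← hspec, rF_rF]
  have hB1 : rX (inf_le_left : W ⊓ B ≤ W) c = 0 := by
    apply IsGen.coef_ext ((Frame.pow M (n + 1)).isGen (he.res (inf_le_left : W ⊓ B ≤ W)))
    rw [zero_smul, ← (Frame.pow M (n + 1)).res, ← rF_smul, ← hspec, rF_rF]
    have h5 : rF _ ((inf_le_left : W ⊓ B ≤ W).trans hW) σ' =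
        rF _ (inf_le_right : W ⊓ B ≤ B) (rF _ le_sup_right σ') := (rF_rF _ _ _ _).symm
    rw [h5, hσB, map_zero]
  ext z
  constructor
  · rintro ⟨hzO, hzW⟩
    have h6 : z ∈ O ⊓ (W ⊓ A) := ⟨hzO, hzW, hOA hzO⟩
    rw [hA1, basicOpen_rX] at h6
    exact h6.2
  · intro hzc
    have hzW : z ∈ W := X.basicOpen_le c hzc
    rcases hW hzW with hzA | hzB
    · have h6 : z ∈ X.basicOpen (rX (inf_le_left : W ⊓ A ≤ W) c) := by
        rw [basicOpen_rX]; exact ⟨⟨hzW, hzA⟩, hzc⟩
      rw [← hA1] at h6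
      exact ⟨h6.1, hzW⟩
    · have h6 : z ∈ X.basicOpen (rX (inf_le_left : W ⊓ B ≤ W) c) := by
        rw [basicOpen_rX]; exact ⟨⟨hzW, hzB⟩, hzc⟩
      rw [hB1, Scheme.basicOpen_zero] at h6
      exact absurd h6 (by simp)

/-- Ampleness on a disjoint union of two opens. -/
theorem isAmpleOn_sup_of_disjoint {M : X.Modules} {A B : X.Opens} (hAB : A ⊓ B = ⊥)
    (hA : IsAmpleOn M A) (hB : IsAmpleOn M B) : IsAmpleOn M (A ⊔ B) := by
  refine ⟨by rw [Opens.coe_sup]; exact hA.1.union hB.1, fun x hx => ?_⟩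
  rcases hx with hx | hx
  · exact isAmpleOn_sup_aux hAB hA x hx
  · have hBA : B ⊓ A = ⊥ := by rw [inf_comm]; exact hAB
    obtain ⟨n, σ, O, h1, h2, h3, h4⟩ := isAmpleOn_sup_aux hBA hB x hx
    have e : A ⊔ B ≤ B ⊔ A := le_of_eq (sup_comm _ _)
    exact ⟨n, rF _ e σ, O, h1, h2, h3.trans (le_of_eq (sup_comm _ _)), HasLocus.res _ σ h4 e⟩

end DisjointUnion

end TensH8

namespace TensH8

open AlgebraicGeometry CategoryTheory CategoryTheory.Limits TopologicalSpace Opposite TensorProduct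
open QcqsLoc MonoidalCategory GenLocH8 FLFH8 QCohExtn

universe u

section Coprod

variable {X X' Y : Scheme.{u}}

theorem quasiCompact_of_isClosed_range {U Z : Scheme.{u}} (j : U ⟶ Z) [IsOpenImmersion j]
    (h : IsClosed (Set.range j)) : QuasiCompact j := by
  rw [quasiCompact_iff_forall_isAffineOpen]
  intro V hV
  have hemb : Topology.IsClosedEmbedding j := ⟨j.isOpenEmbedding.isEmbedding, h⟩
  exact hemb.isCompact_preimage hV.isCompact

theorem isQuasiAffine_of_isClosed_range {U Z : Scheme.{u}} (j : U ⟶ Z) [IsOpenImmersion j]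
    (h : IsClosed (Set.range j)) : Mor2.IsQuasiAffine j := by
  haveI := quasiCompact_of_isClosed_range j h
  refine ⟨inferInstance, fun V hV => ?_⟩
  haveI : IsAffine V.toScheme := hV
  haveI : CompactSpace (j ⁻¹ᵁ V).toScheme :=
    isCompact_iff_compactSpace.mp (QuasiCompact.isCompact_preimage (f := j) _ V.isOpen hV.isCompact)
  exact Scheme.IsQuasiAffine.of_isImmersion (j ∣_ V)

theorem isClosed_range_inl : IsClosed (Set.range (coprod.inl : X ⟶ X ⨿ X')) := by
  rw [← (isCompl_range_inl_inr X X').symm.compl_eq]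
  exact (coprod.inr : X' ⟶ X ⨿ X').isOpenEmbedding.isOpen_range.isClosed_compl

theorem isClosed_range_inr : IsClosed (Set.range (coprod.inr : X' ⟶ X ⨿ X')) := by
  rw [← (isCompl_range_inl_inr X X').compl_eq]
  exact (coprod.inl : X ⟶ X ⨿ X').isOpenEmbedding.isOpen_range.isClosed_compl

theorem desc_preimage (f : X ⟶ Y) (f' : X' ⟶ Y) (V : Y.Opens) :
    (coprod.desc f f') ⁻¹ᵁ V =
      (coprod.inl : X ⟶ X ⨿ X') ''ᵁ (f ⁻¹ᵁ V) ⊔ (coprod.inr : X' ⟶ X ⨿ X') ''ᵁ (f' ⁻¹ᵁ V) := by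
  have hl : ∀ x : X, (coprod.desc f f') ((coprod.inl : X ⟶ X ⨿ X') x) = f x := by
    intro x
    rw [← Scheme.Hom.comp_apply, coprod.inl_desc]
  have hr : ∀ x : X', (coprod.desc f f') ((coprod.inr : X' ⟶ X ⨿ X') x) = f' x := by
    intro x
    rw [← Scheme.Hom.comp_apply, coprod.inr_desc]
  ext z
  constructor
  · intro hz
    have hcov := (isCompl_range_inl_inr X X').codisjoint.top_le (Set.mem_univ z)
    rcases hcov with ⟨x, rfl⟩ | ⟨x, rfl⟩
    · left
      refine ⟨x, ?_, rfl⟩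
      have h1 : (coprod.desc f f') ((coprod.inl : X ⟶ X ⨿ X') x) ∈ V := hz
      rw [hl] at h1
      exact h1
    · right
      refine ⟨x, ?_, rfl⟩
      have h1 : (coprod.desc f f') ((coprod.inr : X' ⟶ X ⨿ X') x) ∈ V := hz
      rw [hr] at h1
      exact h1
  · rintro (⟨x, hx, rfl⟩ | ⟨x, hx, rfl⟩)
    · show (coprod.desc f f') ((coprod.inl : X ⟶ X ⨿ X') x) ∈ V
      rw [hl]
      exact hx
    · show (coprod.desc f f') ((coprod.inr : X' ⟶ X ⨿ X') x) ∈ V
      rw [hr]
      exact hx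

theorem image_inl_inf_image_inr (A : X.Opens) (B : X'.Opens) :
    (coprod.inl : X ⟶ X ⨿ X') ''ᵁ A ⊓ (coprod.inr : X' ⟶ X ⨿ X') ''ᵁ B = ⊥ := by
  ext z
  constructor
  · rintro ⟨⟨x, -, rfl⟩, ⟨y, -, hy⟩⟩
    exact absurd hy (AlgebraicGeometry.inr_ne_inl X X' x y)
  · intro h
    exact absurd h (by simp)

theorem isRelAmple_congr {S : Scheme.{u}} (f : X ⟶ S) {M M' : X.Modules} (α : M ≅ M') :
    RelAmple.IsRelAmple f M ↔ RelAmple.IsRelAmple f M' :=
  and_congr Iff.rfl (forall_congr' fun V =>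
    isAmple_congr ((Scheme.Modules.restrictFunctor (f ⁻¹ᵁ V.1).ι).mapIso α))

end Coprod

end TensH8

namespace TensH8

open AlgebraicGeometry CategoryTheory CategoryTheory.Limits TopologicalSpace Opposite TensorProduct
open QcqsLoc MonoidalCategory GenLocH8 FLFH8 QCohExtn

universe u

/-- EGA II 4.6.17: relative ampleness on a disjoint union. -/
theorem isRelAmple_coprod_iff {X X' Y : Scheme.{u}} (f : X ⟶ Y) (f' : X' ⟶ Y) [QuasiCompact f]
    [QuasiCompact f'] (L'' : (X ⨿ X').Modules) :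
    RelAmple.IsRelAmple (coprod.desc f f') L'' ↔
      RelAmple.IsRelAmple f ((Scheme.Modules.pullback (coprod.inl : X ⟶ X ⨿ X')).obj L'') ∧
        RelAmple.IsRelAmple f' ((Scheme.Modules.pullback (coprod.inr : X' ⟶ X ⨿ X')).obj L'') := by
  constructor
  · intro h
    haveI := h.1
    have h1 := isRelAmple_pullback_of_isQuasiAffine (coprod.desc f f')
      (coprod.inl : X ⟶ X ⨿ X') (isQuasiAffine_of_isClosed_range _ isClosed_range_inl) h
    have h2 := isRelAmple_pullback_of_isQuasiAffine (coprod.desc f f')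
      (coprod.inr : X' ⟶ X ⨿ X') (isQuasiAffine_of_isClosed_range _ isClosed_range_inr) h
    rw [coprod.inl_desc] at h1
    rw [coprod.inr_desc] at h2
    exact ⟨h1, h2⟩
  · rintro ⟨h1, h2⟩
    have h1' : RelAmple.IsRelAmple f (L''.restrict (coprod.inl : X ⟶ X ⨿ X')) :=
      (isRelAmple_congr f
        ((Scheme.Modules.restrictFunctorIsoPullback (coprod.inl : X ⟶ X ⨿ X')).app L'')).mpr h1
    have h2' : RelAmple.IsRelAmple f' (L''.restrict (coprod.inr : X' ⟶ X ⨿ X')) :=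
      (isRelAmple_congr f'
        ((Scheme.Modules.restrictFunctorIsoPullback (coprod.inr : X' ⟶ X ⨿ X')).app L'')).mpr h2
    have hLr := isInvertible_of_isRelAmple f h1'
    have hLr' := isInvertible_of_isRelAmple f' h2'
    have hcov : ∀ z : ↥(X ⨿ X'), z ∈ Set.range (coprod.inl : X ⟶ X ⨿ X') ∨
        z ∈ Set.range (coprod.inr : X' ⟶ X ⨿ X') := fun z =>
      (isCompl_range_inl_inr X X').codisjoint.top_le (Set.mem_univ z)
    have hL''i : PicF.IsInvertible L'' := by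
      apply isInvertible_of_gens
      intro z
      rcases hcov z with ⟨x, rfl⟩ | ⟨x, rfl⟩
      · obtain ⟨W', hW', hxW', e, he⟩ := exists_isGen hLr x
        exact ⟨(coprod.inl : X ⟶ X ⨿ X') ''ᵁ W', hW'.image_of_isOpenImmersion _,
          ⟨x, hxW', rfl⟩, _, isGen_of_restrict _ L'' e he⟩
      · obtain ⟨W', hW', hxW', e, he⟩ := exists_isGen hLr' x
        exact ⟨(coprod.inr : X' ⟶ X ⨿ X') ''ᵁ W', hW'.image_of_isOpenImmersion _,
          ⟨x, hxW', rfl⟩, _, isGen_of_restrict _ L'' e he⟩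
    haveI : QuasiCompact (coprod.desc f f') := by
      rw [quasiCompact_iff_forall_isAffineOpen]
      intro V hV
      rw [desc_preimage, Opens.coe_sup]
      exact ((isCompact_image_iff _ _).mpr
        (QuasiCompact.isCompact_preimage (f := f) _ V.isOpen hV.isCompact)).union
        ((isCompact_image_iff _ _).mpr
          (QuasiCompact.isCompact_preimage (f := f') _ V.isOpen hV.isCompact))
    rw [isRelAmple_iff _ hL''i]
    refine ⟨inferInstance, fun V => ?_⟩
    rw [desc_preimage]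
    apply isAmpleOn_sup_of_disjoint (image_inl_inf_image_inr _ _)
    · exact (isAmpleOn_restrict_iff _ hL''i _).mp (((isRelAmple_iff f hLr).mp h1').2 V)
    · exact (isAmpleOn_restrict_iff _ hL''i _).mp (((isRelAmple_iff f' hLr').mp h2').2 V)

end TensH8
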