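import Mathlib
import Groth.Prelude
import Groth.Agent.Lib.Tens25_helper8
import Groth.Agent.Lib.GG2_helper8

/-!
# Relative ampleness from epimorphic counits of twisted ideals (helper8)
APPEND-ONLY once landed.
-/

set_option autoImplicit false

namespace TensH8

open AlgebraicGeometry CategoryTheory CategoryTheory.Limits TopologicalSpace Opposite TensorProduct
open QcqsLoc MonoidalCategory GenLocH8 FLFH8 QCohExtn PBH8 SerreCrit

universe u

section A
variable {X : Scheme.{u}}

/-- `F ⊗ L` satisfies the localisation property on an affine open trivialising `L`. -/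
theorem locOnU_tensorMod (F : X.Modules) {L : X.Modules} {W : X.Opens} (hW : IsAffineOpen W)
    {e : Γ(L, W)} (he : IsGen L W e) (hF : QCohCrit.LocOnU F W) :
    QCohCrit.LocOnU (CohB1.tensorMod F L) W := by
  intro a
  have hD : X.basicOpen a ≤ W := X.basicOpen_le a
  obtain ⟨hloc, -, hsurj, hker⟩ := hF a
  refine ⟨hloc, fun x m => Scheme.Modules.map_smul _ _ x m, ?_, ?_⟩
  · intro m'
    obtain ⟨t', rfl⟩ := tmulGen_surjective F L he hD m'
    obtain ⟨n, t, ht⟩ := hsurj t'
    refine ⟨n, SecTwist.tmul F L W t e, ?_⟩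
    have ht' : rX hD a ^ n • t' = rF F hD t := ht
    show rX hD a ^ n • SecTwist.tmul F L _ t' (rF L hD e) =
      rF (CohB1.tensorMod F L) hD (SecTwist.tmul F L W t e)
    rw [rF_tmul, ← ht']
    exact (tmul_smul_left F L _ _ _ _).symm
  · intro m hm
    obtain ⟨t, rfl⟩ := tmulGen_surjective F L he le_rfl m
    have hm' : rF (CohB1.tensorMod F L) hD (SecTwist.tmul F L W t (rF L le_rfl e)) = 0 := hm
    rw [rF_tmul, rF_rF] at hm'
    have h0 : rF F hD t = 0 := by
      apply tmulGen_injective F L he hD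
      rw [hm', tmul_zero_left]
    obtain ⟨n, hn⟩ := hker t h0
    refine ⟨n, ?_⟩
    refine (tmul_smul_left F L _ _ _ _).symm.trans ?_
    rw [hn, tmul_zero_left]

/-- The tensor product of a quasi-coherent module with an invertible module is quasi-coherent. -/
theorem isQuasicoherent_tensorMod_right (F : X.Modules) [F.IsQuasicoherent] {L : X.Modules}
    (hL : PicF.IsInvertible L) : (CohB1.tensorMod F L).IsQuasicoherent := by
  have h : ∀ x : X, ∃ W : X.Opens, IsAffineOpen W ∧ x ∈ W ∧ ∃ g : Γ(L, W), IsGen L W g := by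
    intro x
    obtain ⟨W, hW, hxW, -, e, he⟩ := exists_isGen_le hL x ⊤ trivial
    exact ⟨W, hW, hxW, e, he⟩
  choose W hW hxW g hg using h
  refine QCohCrit.isQuasicoherent_of_locOnU_cover _ W hW ?_
    (fun x => locOnU_tensorMod F (hW x) (hg x) (QCohCrit.locOnU_of_isQuasicoherent F (hW x)))
  rw [eq_top_iff]
  intro x _
  exact Opens.mem_iSup.mpr ⟨x, hxW x⟩


end A

section B

variable {X Y : Scheme.{u}} (f : X ⟶ Y)

/-- If the counit `f^* f_* T ⟶ T` is an epimorphism (`T` quasi-coherent, `f` quasi-compact and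
quasi-separated), then over every affine open `V` of the base, every local section of `T` over an
open of `f⁻¹ V` is, locally, a combination of restrictions of sections of `T` over `f⁻¹ V`. -/
theorem exists_mem_span_of_epi_counit [QuasiCompact f] [QuasiSeparated f] {T : X.Modules}
    [T.IsQuasicoherent]
    (hepi : Epi ((Scheme.Modules.pullbackPushforwardAdjunction f).counit.app T))
    {V : Y.Opens} (hV : IsAffineOpen V) {W : X.Opens} (hWV : W ≤ f ⁻¹ᵁ V) (m : Γ(T, W))
    {x : X} (hx : x ∈ W) :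
    ∃ (W2 : X.Opens) (h2 : W2 ≤ W), x ∈ W2 ∧
      rF T h2 m ∈ Submodule.span Γ(X, W2)
        (Set.range (fun y : Γ(T, f ⁻¹ᵁ V) => rF T (h2.trans hWV) y)) := by
  haveI := isQuasicoherent_pushforward_qcqs f T
  obtain ⟨W1, hW1, hxW1, t, ht⟩ := EpiLoc.exists_local_lift
    ((Scheme.Modules.pullbackPushforwardAdjunction f).counit.app T) m hx
  obtain ⟨_, ⟨W2, hW2 : IsAffineOpen W2, rfl⟩, hxW2, hW21⟩ :=
    (X.isBasis_affineOpens).exists_subset_of_mem_open hxW1 W1.isOpen
  have hW21' : W2 ≤ W1 := hW21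
  have h2W : W2 ≤ W := hW21'.trans hW1
  have h2V : W2 ≤ f ⁻¹ᵁ V := h2W.trans hWV
  refine ⟨W2, h2W, hxW2, ?_⟩
  let lin : Γ((Scheme.Modules.pullback f).obj ((Scheme.Modules.pushforward f).obj T), W2) →ₗ[Γ(X, W2)]
      Γ(T, W2) :=
    { toFun := ap ((Scheme.Modules.pullbackPushforwardAdjunction f).counit.app T) W2
      map_add' := map_add _
      map_smul' := fun r z =>
        ap_smul ((Scheme.Modules.pullbackPushforwardAdjunction f).counit.app T) r z }
  have hspan := span_cUV f ((Scheme.Modules.pushforward f).obj T) hW2 hV h2V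
  have hle : Submodule.span Γ(X, W2)
      (Set.range (cUV f ((Scheme.Modules.pushforward f).obj T) h2V)) ≤
      (Submodule.span Γ(X, W2)
        (Set.range (fun y : Γ(T, f ⁻¹ᵁ V) => rF T h2V y))).comap lin := by
    rw [Submodule.span_le]
    rintro _ ⟨y, rfl⟩
    show ap ((Scheme.Modules.pullbackPushforwardAdjunction f).counit.app T) W2
      (cUV f ((Scheme.Modules.pushforward f).obj T) h2V y) ∈
        Submodule.span Γ(X, W2) (Set.range (fun y : Γ(T, f ⁻¹ᵁ V) => rF T h2V y))
    rw [counit_cUV f T h2V y]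
    exact Submodule.subset_span ⟨y, rfl⟩
  have h1 : ap ((Scheme.Modules.pullbackPushforwardAdjunction f).counit.app T) W2
      (rF ((Scheme.Modules.pullback f).obj ((Scheme.Modules.pushforward f).obj T)) hW21' t) ∈
      Submodule.span Γ(X, W2) (Set.range (fun y : Γ(T, f ⁻¹ᵁ V) => rF T h2V y)) :=
    hle (hspan ▸ Submodule.mem_top)
  have h1' : ap ((Scheme.Modules.pullbackPushforwardAdjunction f).counit.app T) W2
      (rF ((Scheme.Modules.pullback f).obj ((Scheme.Modules.pushforward f).obj T)) hW21' t) =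
      rF T hW21' (ap ((Scheme.Modules.pullbackPushforwardAdjunction f).counit.app T) W1 t) :=
    ap_rF ((Scheme.Modules.pullbackPushforwardAdjunction f).counit.app T) hW21' t
  have h2 : ap ((Scheme.Modules.pullbackPushforwardAdjunction f).counit.app T) W1 t =
      rF T hW1 m := ht
  have h3 := h1'.trans ((congrArg (rF T hW21') h2).trans (rF_rF T hW21' hW1 m))
  rw [← h3]
  exact h1


end B

section C

variable {X : Scheme.{u}}

section Locus

variable {L M : X.Modules} {N : ℕ} (Φ : Frame L M N) {V : X.Opens} (σ : Γ(M, V))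

theorem basicOpen_coefOf_le (W : X.Opens) (hW : W ≤ V) (e e' : Γ(L, W)) (he : IsGen L W e)
    (he' : IsGen L W e') :
    X.basicOpen (Φ.coefOf σ W hW e' he') ≤ X.basicOpen (Φ.coefOf σ W hW e he) := by
  obtain ⟨u, hu⟩ := he'.exists_coef e
  subst hu
  rw [Φ.coefOf_change σ W hW e' he' u he, Scheme.basicOpen_mul]
  exact inf_le_left

/-- Every section of a framed module has a generating locus. -/
theorem exists_hasLocus : ∃ O : X.Opens, O ≤ V ∧ HasLocus Φ σ O := by
  let I := {p : Σ W : X.Opens, Γ(L, W) // p.1 ≤ V ∧ IsGen L p.1 p.2}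
  let B : I → X.Opens := fun p => X.basicOpen (Φ.coefOf σ p.1.1 p.2.1 p.1.2 p.2.2)
  refine ⟨⨆ p : I, B p, ?_, ?_⟩
  · apply iSup_le
    intro p
    exact (X.basicOpen_le _).trans p.2.1
  · intro W hW e he
    ext z
    constructor
    · rintro ⟨hzO, hzW⟩
      obtain ⟨⟨⟨W', e'⟩, hW', he'⟩, hz⟩ := Opens.mem_iSup.mp hzO
      have hz' : z ∈ X.basicOpen (Φ.coefOf σ W' hW' e' he') := hz
      have hzW' : z ∈ W' := X.basicOpen_le _ hz'
      have hl : W ⊓ W' ≤ W := inf_le_left
      have hr : W ⊓ W' ≤ W' := inf_le_right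
      have h1 : z ∈ X.basicOpen (rX hr (Φ.coefOf σ W' hW' e' he')) := by
        rw [basicOpen_rX]
        exact ⟨⟨hzW, hzW'⟩, hz'⟩
      rw [← Φ.coefOf_res σ W' hW' e' he' hr] at h1
      have h2 := basicOpen_coefOf_le Φ σ (W ⊓ W') (hl.trans hW) (rF L hl e) (rF L hr e')
        (he.res hl) (he'.res hr) h1
      rw [Φ.coefOf_res σ W hW e he hl, basicOpen_rX] at h2
      exact h2.2
    · intro hz
      exact ⟨Opens.mem_iSup.mpr ⟨⟨⟨W, e⟩, hW, he⟩, hz⟩, X.basicOpen_le _ hz⟩

end Locus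

section GCoef

variable {L M : X.Modules} {n : ℕ} (Ψ : Frame L M n) (G : X.Modules) {V : X.Opens}
  (y : Γ(CohB1.tensorMod G M, V))

theorem exists_gcoef (W : X.Opens) (hW : W ≤ V) (e : Γ(L, W)) (he : IsGen L W e) :
    ∃ t : Γ(G, W), SecTwist.tmul G M W t (Ψ.φ W e) = rF (CohB1.tensorMod G M) hW y := by
  obtain ⟨t, ht⟩ := tmulGen_surjective G M (Ψ.isGen he) le_rfl (rF _ hW y)
  rw [SubExt.rF_self] at ht
  exact ⟨t, ht⟩

/-- The `G`-valued coefficient of a section of `G ⊗ M` with respect to a frame of `M`. -/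
noncomputable def gcoef (W : X.Opens) (hW : W ≤ V) (e : Γ(L, W)) (he : IsGen L W e) : Γ(G, W) :=
  Classical.choose (exists_gcoef Ψ G y W hW e he)

theorem gcoef_spec (W : X.Opens) (hW : W ≤ V) (e : Γ(L, W)) (he : IsGen L W e) :
    SecTwist.tmul G M W (gcoef Ψ G y W hW e he) (Ψ.φ W e) = rF (CohB1.tensorMod G M) hW y :=
  Classical.choose_spec (exists_gcoef Ψ G y W hW e he)

theorem gcoef_unique (W : X.Opens) (hW : W ≤ V) (e : Γ(L, W)) (he : IsGen L W e) (t : Γ(G, W))
    (ht : SecTwist.tmul G M W t (Ψ.φ W e) = rF (CohB1.tensorMod G M) hW y) :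
    t = gcoef Ψ G y W hW e he := by
  apply tmulGen_injective G M (Ψ.isGen he) le_rfl
  rw [SubExt.rF_self, ht, gcoef_spec]

theorem gcoef_res (W : X.Opens) (hW : W ≤ V) (e : Γ(L, W)) (he : IsGen L W e) {W' : X.Opens}
    (h : W' ≤ W) :
    gcoef Ψ G y W' (h.trans hW) (rF L h e) (he.res h) = rF G h (gcoef Ψ G y W hW e he) := by
  symm
  apply gcoef_unique
  rw [← Ψ.res, ← rF_tmul, gcoef_spec, rF_rF]

theorem gcoef_change (W : X.Opens) (hW : W ≤ V) (e : Γ(L, W)) (he : IsGen L W e) (u : Γ(X, W))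
    (he' : IsGen L W (u • e)) :
    gcoef Ψ G y W hW e he = u ^ n • gcoef Ψ G y W hW (u • e) he' := by
  symm
  apply gcoef_unique
  rw [← gcoef_spec Ψ G y W hW (u • e) he', Ψ.smul]
  exact (tmul_smul_left G M W _ _ _).trans (tmul_smul_right G M W _ _ _).symm

/-- Multiplying a section of `G ⊗ M` into `M'` along a map `G ⟶ O_X` (with `M`, `M'` framed of
the same weight). -/
theorem exists_mulSec (hL : PicF.IsInvertible L) (i : G ⟶ OO X) {M' : X.Modules}
    (Ψ' : Frame L M' n) :
    ∃ σ : Γ(M', V), ∀ (W : X.Opens) (hW : W ≤ V) (e : Γ(L, W)) (he : IsGen L W e),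
      Ψ'.coefOf σ W hW e he = toFn (ap i W (gcoef Ψ G y W hW e he)) := by
  obtain ⟨σ, hσ⟩ := Ψ'.exists_section hL V
    (fun W hW e he => toFn (ap i W (gcoef Ψ G y W hW e he)))
    (by
      intro W hW e he W' h
      show toFn (ap i W' (gcoef Ψ G y W' (h.trans hW) (rF L h e) (he.res h))) = _
      rw [gcoef_res, ap_rF]
      rfl)
    (by
      intro W hW e he u he'
      show toFn (ap i W (gcoef Ψ G y W hW e he)) = _
      rw [gcoef_change Ψ G y W hW e he u he', ap_smul, smul_eq, mul_comm])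
  exact ⟨σ, fun W hW e he => (Ψ'.coefOf_unique σ W hW e he _ (hσ W hW e he)).symm⟩

end GCoef


end C

section Main

variable {X Y : Scheme.{u}} (f : X ⟶ Y)

theorem isRelAmple_of_counit_ideal_twist_epi [CompactSpace X] [X.IsSeparated]
    [IsSeparated f] [QuasiCompact f] (L : X.Modules) (hL : PicF.IsInvertible L)
    (h : ∀ (J : X.Modules) (i : J ⟶ Coh.structureModule X), Mono i → Coh.IsQCoh J → CohB1.IsFT J →
      ∃ n : ℕ, 0 < n ∧
        Epi ((Scheme.Modules.pullbackPushforwardAdjunction f).counit.app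
          (CohB1.tensorMod J (CohB1.tensorPow L n)))) :
    RelAmple.IsRelAmple f L := by
  rw [isRelAmple_iff f hL]
  refine ⟨inferInstance, fun V =>
    ⟨QuasiCompact.isCompact_preimage (f := f) _ V.1.isOpen V.2.isCompact, fun x hx => ?_⟩⟩
  obtain ⟨U, hU, hxU, hUV, e, he⟩ := exists_isGen_le hL x (f ⁻¹ᵁ V.1) hx
  obtain ⟨t, ht⟩ := GGH8.exists_one_vanSub U
  haveI : (GGH8.vanSub U).toModules.IsQuasicoherent := GGH8.isQuasicoherent_vanSub U
  obtain ⟨G, i, hi, hGq, hGft, g, hg⟩ :=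
    SubExt.exists_ft_sub_section (GGH8.vanSub U).toModules hU t
  haveI := hi
  haveI : G.IsQuasicoherent := hGq
  obtain ⟨n, hn, hepi⟩ := h G (i ≫ (GGH8.vanSub U).ι) inferInstance hGq hGft
  obtain ⟨n', rfl⟩ := Nat.exists_eq_succ_of_ne_zero hn.ne'
  haveI := isQuasicoherent_tensorMod_right G (isInvertible_tensorPow hL (n' + 1))
  obtain ⟨W2, h2, hxW2, hspan⟩ := exists_mem_span_of_epi_counit f hepi V.2 hUV
    (SecTwist.tmul G (CohB1.tensorPow L (n' + 1)) U g ((Frame.pow L (n' + 1)).φ U e)) hxU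
  have h2V : W2 ≤ f ⁻¹ᵁ V.1 := h2.trans hUV
  have he2 : IsGen L W2 (rF L h2 e) := he.res h2
  have hE2 := (Frame.pow L (n' + 1)).isGen he2
  -- the key induction
  have key : ∀ z ∈ Submodule.span Γ(X, W2) (Set.range
      (fun y : Γ(CohB1.tensorMod G (CohB1.tensorPow L (n' + 1)), f ⁻¹ᵁ V.1) =>
        rF (CohB1.tensorMod G (CohB1.tensorPow L (n' + 1))) h2V y)),
      ∀ t' : Γ(G, W2), SecTwist.tmul G (CohB1.tensorPow L (n' + 1)) W2 t'
          ((Frame.pow L (n' + 1)).φ W2 (rF L h2 e)) = z →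
        x ∈ X.basicOpen (toFn (ap (i ≫ (GGH8.vanSub U).ι) W2 t')) →
        ∃ y : Γ(CohB1.tensorMod G (CohB1.tensorPow L (n' + 1)), f ⁻¹ᵁ V.1),
          x ∈ X.basicOpen (toFn (ap (i ≫ (GGH8.vanSub U).ι) W2
            (gcoef (Frame.pow L (n' + 1)) G y W2 h2V (rF L h2 e) he2))) := by
    intro z hz
    induction hz using Submodule.span_induction with
    | mem z hz =>
      obtain ⟨y, rfl⟩ := hz
      intro t' ht' hxt
      refine ⟨y, ?_⟩
      rw [← gcoef_unique (Frame.pow L (n' + 1)) G y W2 h2V (rF L h2 e) he2 t' ht']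
      exact hxt
    | zero =>
      intro t' ht' hxt
      have h0 : t' = 0 := by
        apply tmulGen_injective G _ hE2 le_rfl
        rw [SubExt.rF_self, ht', tmul_zero_left]
      rw [h0] at hxt
      have e0 : toFn (ap (i ≫ (GGH8.vanSub U).ι) W2 0) = 0 := map_zero _
      rw [e0, Scheme.basicOpen_zero] at hxt
      exact absurd hxt (Set.notMem_empty x)
    | add a b _ _ ha hb =>
      intro t' ht' hxt
      obtain ⟨ta, hta⟩ := tmulGen_surjective G _ hE2 le_rfl a
      obtain ⟨tb, htb⟩ := tmulGen_surjective G _ hE2 le_rfl b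
      rw [SubExt.rF_self] at hta htb
      have h0 : t' = ta + tb := by
        apply tmulGen_injective G _ hE2 le_rfl
        rw [SubExt.rF_self, ht', ← hta, ← htb]
        exact (tmul_add_left G _ W2 ta tb _).symm
      rw [h0] at hxt
      have h1 : x ∈ X.basicOpen (toFn (ap (i ≫ (GGH8.vanSub U).ι) W2 ta) +
          toFn (ap (i ≫ (GGH8.vanSub U).ι) W2 tb)) := by
        rw [← add_eq, ← map_add]
        exact hxt
      rcases X.basicOpen_add_le _ _ h1 with h' | h'
      · exact ha ta hta h'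
      · exact hb tb htb h'
    | smul r a _ ha =>
      intro t' ht' hxt
      obtain ⟨ta, hta⟩ := tmulGen_surjective G _ hE2 le_rfl a
      rw [SubExt.rF_self] at hta
      have h0 : t' = r • ta := by
        apply tmulGen_injective G _ hE2 le_rfl
        rw [SubExt.rF_self, ht', ← hta]
        exact (tmul_smul_left G _ W2 r ta _).symm
      rw [h0] at hxt
      have h1 : x ∈ X.basicOpen (r * toFn (ap (i ≫ (GGH8.vanSub U).ι) W2 ta)) := by
        rw [← smul_eq, ← ap_smul]
        exact hxt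
      rw [Scheme.basicOpen_mul] at h1
      exact ha ta hta h1.2
  obtain ⟨y, hy⟩ := key _ hspan (rF G h2 g)
    (by rw [rF_tmul, (Frame.pow L (n' + 1)).res])
    (by
      have e1 : toFn (ap (i ≫ (GGH8.vanSub U).ι) U g) = 1 := by
        have : ap (i ≫ (GGH8.vanSub U).ι) U g = ap (GGH8.vanSub U).ι U (ap i U g) := rfl
        rw [this, hg, ht]
      have e2 : toFn (ap (i ≫ (GGH8.vanSub U).ι) W2 (rF G h2 g)) = 1 := by
        rw [ap_rF, rF_eq, e1, map_one]
      rw [e2, Scheme.basicOpen_of_isUnit _ isUnit_one]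
      exact hxW2)
  obtain ⟨σ, hσ⟩ := exists_mulSec (Frame.pow L (n' + 1)) G y hL (i ≫ (GGH8.vanSub U).ι)
    (Frame.pow L (n' + 1))
  obtain ⟨O, hOV, hloc⟩ := exists_hasLocus (Frame.pow L (n' + 1)) σ
  have hxO : x ∈ O := by
    have h1 : x ∈ O ⊓ W2 := by
      rw [hloc W2 h2V (rF L h2 e) he2, hσ]
      exact hy
    exact h1.1
  have hOU : O ≤ U := by
    intro z hz
    obtain ⟨W, -, hzW, hWV, ez, hez⟩ := exists_isGen_le hL z (f ⁻¹ᵁ V.1) (hOV hz)
    have h1 : z ∈ O ⊓ W := ⟨hz, hzW⟩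
    rw [hloc W hWV ez hez, hσ] at h1
    by_contra hzU
    exact GGH8.vanSub_van U W (ap i W (gcoef (Frame.pow L (n' + 1)) G y W hWV ez hez)) z hzU h1
  have hOaff : IsAffineOpen O := by
    have h1 : O = X.basicOpen ((Frame.pow L (n' + 1)).coefOf σ U hUV e he) := by
      rw [← hloc U hUV e he]
      exact (inf_eq_left.mpr hOU).symm
    rw [h1]
    exact hU.basicOpen _
  exact ⟨n', σ, O, hOaff, hxO, hOV, hloc⟩

end Main

end TensH8
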