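import Mathlib
import Groth.Prelude
import Groth.Agent.Lib.Tens26_helper8

/-!
# Twisted frames: modules locally isomorphic to `F`, homogeneous of weight `n` in `L` (helper8)
APPEND-ONLY once landed.
-/

set_option autoImplicit false

namespace TensH8

open AlgebraicGeometry CategoryTheory CategoryTheory.Limits TopologicalSpace Opposite TensorProduct
open QcqsLoc MonoidalCategory GenLocH8 FLFH8 QCohExtn PBH8 SerreCrit

universe u

variable {X : Scheme.{u}}

/-- A twisted frame: `T` is "`F` twisted by the `n`-th power of `L`". Each local generator `e` of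
`L` over `W` identifies sections of `F` over `W` with sections of `T` over `W`, homogeneously of
degree `n` in `e`. -/
structure TFrame (L F T : X.Modules) (n : ℕ) where
  ψ : ∀ (W : X.Opens) (e : Γ(L, W)), IsGen L W e → Γ(F, W) → Γ(T, W)
  add : ∀ (W : X.Opens) (e : Γ(L, W)) (he : IsGen L W e) (t t' : Γ(F, W)),
    ψ W e he (t + t') = ψ W e he t + ψ W e he t'
  smul : ∀ (W : X.Opens) (e : Γ(L, W)) (he : IsGen L W e) (r : Γ(X, W)) (t : Γ(F, W)),
    ψ W e he (r • t) = r • ψ W e he t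
  bij : ∀ (W : X.Opens) (e : Γ(L, W)) (he : IsGen L W e), Function.Bijective (ψ W e he)
  res : ∀ {W W' : X.Opens} (h : W' ≤ W) (e : Γ(L, W)) (he : IsGen L W e) (t : Γ(F, W)),
    rF T h (ψ W e he t) = ψ W' (rF L h e) (he.res h) (rF F h t)
  change : ∀ (W : X.Opens) (e : Γ(L, W)) (he : IsGen L W e) (u : Γ(X, W))
    (he' : IsGen L W (u • e)) (t : Γ(F, W)), ψ W (u • e) he' t = ψ W e he (u ^ n • t)

namespace TFrame

variable {L F T : X.Modules} {n : ℕ}

/-- The twisted frame of `F ⊗ M` for a framed module `M`. -/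
noncomputable def tensor {M : X.Modules} (Ψ : Frame L M n) (F : X.Modules) :
    TFrame L F (CohB1.tensorMod F M) n where
  ψ W e _ t := SecTwist.tmul F M W t (Ψ.φ W e)
  add W e _ t t' := tmul_add_left F M W t t' _
  smul W e _ r t := tmul_smul_left F M W r t _
  bij W e he := by
    constructor
    · intro t t' h
      apply tmulGen_injective F M (Ψ.isGen he) le_rfl
      rw [SubExt.rF_self]
      exact h
    · intro y
      obtain ⟨t, ht⟩ := tmulGen_surjective F M (Ψ.isGen he) le_rfl y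
      rw [SubExt.rF_self] at ht
      exact ⟨t, ht⟩
  res h e _ t := by rw [rF_tmul, Ψ.res]
  change W e _ u _ t := by
    rw [Ψ.smul]
    exact (tmul_smul_right F M W _ _ _).trans (tmul_smul_left F M W _ _ _).symm

theorem ψ_zero (Θ : TFrame L F T n) (W : X.Opens) (e : Γ(L, W)) (he : IsGen L W e) :
    Θ.ψ W e he 0 = 0 := by
  have h := Θ.add W e he 0 0
  rw [add_zero] at h
  exact left_eq_add.mp h

theorem ψ_congr (Θ : TFrame L F T n) (W : X.Opens) {e e' : Γ(L, W)} (h : e = e')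
    (he : IsGen L W e) (he' : IsGen L W e') (t : Γ(F, W)) : Θ.ψ W e he t = Θ.ψ W e' he' t := by
  subst h
  rfl

section Coef

variable (Θ : TFrame L F T n) {V : X.Opens} (y : Γ(T, V))

/-- The `F`-valued coefficient of a section of `T` with respect to a local generator of `L`. -/
noncomputable def coefOf (W : X.Opens) (hW : W ≤ V) (e : Γ(L, W)) (he : IsGen L W e) : Γ(F, W) :=
  Classical.choose ((Θ.bij W e he).2 (rF T hW y))

theorem coefOf_spec (W : X.Opens) (hW : W ≤ V) (e : Γ(L, W)) (he : IsGen L W e) :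
    Θ.ψ W e he (Θ.coefOf y W hW e he) = rF T hW y :=
  Classical.choose_spec ((Θ.bij W e he).2 (rF T hW y))

theorem coefOf_unique (W : X.Opens) (hW : W ≤ V) (e : Γ(L, W)) (he : IsGen L W e) (t : Γ(F, W))
    (ht : Θ.ψ W e he t = rF T hW y) : t = Θ.coefOf y W hW e he := by
  apply (Θ.bij W e he).1
  rw [ht, coefOf_spec]

theorem coefOf_res (W : X.Opens) (hW : W ≤ V) (e : Γ(L, W)) (he : IsGen L W e) {W' : X.Opens}
    (h : W' ≤ W) :
    Θ.coefOf y W' (h.trans hW) (rF L h e) (he.res h) = rF F h (Θ.coefOf y W hW e he) := by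
  symm
  apply coefOf_unique
  rw [← Θ.res h e he, coefOf_spec, rF_rF]

theorem coefOf_change (W : X.Opens) (hW : W ≤ V) (e : Γ(L, W)) (he : IsGen L W e) (u : Γ(X, W))
    (he' : IsGen L W (u • e)) :
    Θ.coefOf y W hW e he = u ^ n • Θ.coefOf y W hW (u • e) he' := by
  symm
  apply coefOf_unique
  rw [← Θ.change W e he u he', coefOf_spec]

theorem coefOf_congr (W : X.Opens) (hW : W ≤ V) {e e' : Γ(L, W)} (h : e = e')
    (he : IsGen L W e) (he' : IsGen L W e') :
    Θ.coefOf y W hW e he = Θ.coefOf y W hW e' he' := by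
  subst h
  rfl

theorem coefOf_add (y' : Γ(T, V)) (W : X.Opens) (hW : W ≤ V) (e : Γ(L, W)) (he : IsGen L W e) :
    Θ.coefOf (y + y') W hW e he = Θ.coefOf y W hW e he + Θ.coefOf y' W hW e he := by
  symm
  apply coefOf_unique
  rw [Θ.add, coefOf_spec, coefOf_spec, map_add]

theorem coefOf_smul (r : Γ(X, V)) (W : X.Opens) (hW : W ≤ V) (e : Γ(L, W)) (he : IsGen L W e) :
    Θ.coefOf (r • y) W hW e he = rX hW r • Θ.coefOf y W hW e he := by
  symm
  apply coefOf_unique
  rw [Θ.smul, coefOf_spec, rF_smul]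

theorem coefOf_ψ (W : X.Opens) (e : Γ(L, W)) (he : IsGen L W e) (t : Γ(F, W)) :
    Θ.coefOf (Θ.ψ W e he t) W le_rfl e he = t := by
  symm
  apply coefOf_unique
  rw [SubExt.rF_self]

end Coef

/-- Gluing a section of a twisted module from a system of local coefficients. -/
theorem exists_section (hL : PicF.IsInvertible L) (Θ : TFrame L F T n) (U : X.Opens)
    (γ : ∀ (W : X.Opens) (_ : W ≤ U) (e : Γ(L, W)) (_ : IsGen L W e), Γ(F, W))
    (hres : ∀ (W : X.Opens) (hW : W ≤ U) (e : Γ(L, W)) (he : IsGen L W e) {W' : X.Opens}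
      (h : W' ≤ W), γ W' (h.trans hW) (rF L h e) (he.res h) = rF F h (γ W hW e he))
    (hchange : ∀ (W : X.Opens) (hW : W ≤ U) (e : Γ(L, W)) (he : IsGen L W e) (u : Γ(X, W))
      (he' : IsGen L W (u • e)), γ W hW e he = u ^ n • γ W hW (u • e) he') :
    ∃ σ : Γ(T, U), ∀ (W : X.Opens) (hW : W ≤ U) (e : Γ(L, W)) (he : IsGen L W e),
      rF T hW σ = Θ.ψ W e he (γ W hW e he) := by
  let I := {p : Σ W : X.Opens, Γ(L, W) // p.1 ≤ U ∧ IsGen L p.1 p.2}
  let O : I → X.Opens := fun p => p.1.1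
  have hO : ∀ p : I, O p ≤ U := fun p => p.2.1
  let τ : ∀ p : I, Γ(T, O p) := fun p => Θ.ψ p.1.1 p.1.2 p.2.2 (γ p.1.1 p.2.1 p.1.2 p.2.2)
  have hcov : U ≤ ⨆ p : I, O p := by
    intro x hx
    obtain ⟨W, -, hxW, hWU, e, he⟩ := exists_isGen_le hL x U hx
    exact Opens.mem_iSup.mpr ⟨⟨⟨W, e⟩, hWU, he⟩, hxW⟩
  have hcompat : ∀ p q : I, rF T (inf_le_left : O p ⊓ O q ≤ O p) (τ p) =
      rF T (inf_le_right : O p ⊓ O q ≤ O q) (τ q) := by
    rintro ⟨⟨W, e⟩, hWU, he⟩ ⟨⟨W', e'⟩, hW'U, he'⟩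
    show rF T (inf_le_left : W ⊓ W' ≤ W) (Θ.ψ W e he (γ W hWU e he)) =
      rF T (inf_le_right : W ⊓ W' ≤ W') (Θ.ψ W' e' he' (γ W' hW'U e' he'))
    have hl : W ⊓ W' ≤ W := inf_le_left
    have hr : W ⊓ W' ≤ W' := inf_le_right
    obtain ⟨u, hu⟩ := (he.res hl).exists_coef (rF L hr e')
    have he2 : IsGen L (W ⊓ W') (u • rF L hl e) := hu ▸ he'.res hr
    rw [Θ.res, Θ.res, ← hres W hWU e he hl, ← hres W' hW'U e' he' hr,
      hchange (W ⊓ W') (hl.trans hWU) (rF L hl e) (he.res hl) u he2,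
      ← Θ.change (W ⊓ W') (rF L hl e) (he.res hl) u he2]
    have key : ∀ (e2 : Γ(L, W ⊓ W')) (h2 : e2 = u • rF L hl e) (hg : IsGen L (W ⊓ W') e2),
        Θ.ψ (W ⊓ W') (u • rF L hl e) he2 (γ (W ⊓ W') (hl.trans hWU) (u • rF L hl e) he2) =
          Θ.ψ (W ⊓ W') e2 hg (γ (W ⊓ W') (hr.trans hW'U) e2 hg) := by
      intro e2 h2 hg
      subst h2
      rfl
    exact key _ hu (he'.res hr)
  obtain ⟨σ, hσ⟩ := glue T O U hO hcov τ hcompat
  exact ⟨σ, fun W hW e he => hσ ⟨⟨W, e⟩, hW, he⟩⟩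

/-- Untwisting: if `F'` is `F` twisted by weight `b` and `T` is `F` twisted by weight `a + b`, then
`T` is `F'` twisted by weight `a`. -/
noncomputable def untwist {F' : X.Modules} {a b : ℕ} (Θ : TFrame L F T (a + b))
    (Ξ : TFrame L F F' b) : TFrame L F' T a where
  ψ W e he t' := Θ.ψ W e he (Ξ.coefOf t' W le_rfl e he)
  add W e he t t' := by rw [Ξ.coefOf_add, Θ.add]
  smul W e he r t := by
    rw [← Θ.smul]
    congr 1
    symm
    apply Ξ.coefOf_unique
    rw [Ξ.smul, Ξ.coefOf_spec, SubExt.rF_self, SubExt.rF_self]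
  bij W e he := by
    constructor
    · intro t t' h
      have h1 := (Θ.bij W e he).1 h
      have h2 := Ξ.coefOf_spec t W le_rfl e he
      have h3 := Ξ.coefOf_spec t' W le_rfl e he
      rw [SubExt.rF_self] at h2 h3
      rw [← h2, ← h3, h1]
    · intro y
      obtain ⟨t, ht⟩ := (Θ.bij W e he).2 y
      refine ⟨Ξ.ψ W e he t, ?_⟩
      show Θ.ψ W e he (Ξ.coefOf (Ξ.ψ W e he t) W le_rfl e he) = y
      rw [Ξ.coefOf_ψ]
      exact ht
  res {W W'} h e he t := by
    rw [Θ.res, ← Ξ.coefOf_res t W le_rfl e he h]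
    congr 1
    apply Ξ.coefOf_unique
    rw [SubExt.rF_self]
    have := Ξ.coefOf_spec t W' h (rF L h e) (he.res h)
    exact this
  change W e he u he' t := by
    rw [Θ.change W e he u he']
    congr 1
    apply Ξ.coefOf_unique
    rw [pow_add, mul_smul, Ξ.smul, ← Ξ.change W e he u he', Ξ.coefOf_spec,
      SubExt.rF_self, SubExt.rF_self]

end TFrame

end TensH8
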