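import Mathlib
import Groth.Prelude
import Groth.Agent.Lib.Tens27_helper8
import Groth.Agent.Lib.QCohFT_helper9

/-!
# Serre-type generation: twists of a quasi-coherent module of finite type by high powers of an
ample module are generated by sections (helper8)
APPEND-ONLY once landed.
-/

set_option autoImplicit false

namespace TensH8

open AlgebraicGeometry CategoryTheory CategoryTheory.Limits TopologicalSpace Opposite TensorProduct
open QcqsLoc MonoidalCategory GenLocH8 FLFH8 QCohExtn PBH8 SerreCrit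

universe u

section A
variable {X : Scheme.{u}}

theorem Frame.coefOf_congr {L M : X.Modules} {m : ℕ} (Φ : Frame L M m) {V : X.Opens} (σ : Γ(M, V))
    (W : X.Opens) (hW : W ≤ V) {e e' : Γ(L, W)} (h : e = e') (he : IsGen L W e)
    (he' : IsGen L W e') : Φ.coefOf σ W hW e he = Φ.coefOf σ W hW e' he' := by
  subst h
  rfl

namespace TFrame

variable {L M F T : X.Modules} {m : ℕ}

/-- The section "`σ^N t`" of `T` over the open where `t` is defined. -/
theorem exists_twistSec (hL : PicF.IsInvertible L) (Φ : Frame L M m) {V0 : X.Opens} (σ : Γ(M, V0))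
    (N : ℕ) (Θ : TFrame L F T (m * N)) {O : X.Opens} (hO : O ≤ V0) (t : Γ(F, O)) :
    ∃ z : Γ(T, O), ∀ (W : X.Opens) (hW : W ≤ O) (e : Γ(L, W)) (he : IsGen L W e),
      rF T hW z = Θ.ψ W e he (Φ.coefOf σ W (hW.trans hO) e he ^ N • rF F hW t) := by
  apply Θ.exists_section hL O
    (fun W hW e he => Φ.coefOf σ W (hW.trans hO) e he ^ N • rF F hW t)
  · intro W hW e he W' h
    rw [Φ.coefOf_res σ W (hW.trans hO) e he h, rF_pow_smul, rF_rF]
  · intro W hW e he u he'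
    rw [Φ.coefOf_change σ W (hW.trans hO) e he u he', mul_pow, ← pow_mul, mul_comm, mul_smul]

set_option maxHeartbeats 800000 in
/-- Extension of twisted sections from the locus `O` of `σ` to `V0` (`V0` quasi-compact, `X`
quasi-separated, `F` quasi-coherent): for `N` large, "`σ^N t`" extends to `V0`. -/
theorem exists_extend [QuasiSeparatedSpace X] (hL : PicF.IsInvertible L) (F : X.Modules)
    [F.IsQuasicoherent] (Φ : Frame L M m) {V0 : X.Opens} (hV0 : IsCompact (V0 : Set X))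
    (σ : Γ(M, V0)) {O : X.Opens} (hO : O ≤ V0) (hloc : HasLocus Φ σ O) (t : Γ(F, O)) :
    ∃ N0 : ℕ, ∀ N : ℕ, N0 ≤ N → ∀ {T : X.Modules} (Θ : TFrame L F T (m * N)),
      ∃ y : Γ(T, V0), ∀ (W : X.Opens) (hW : W ≤ O) (e : Γ(L, W)) (he : IsGen L W e),
        rF T (hW.trans hO) y = Θ.ψ W e he (Φ.coefOf σ W (hW.trans hO) e he ^ N • rF F hW t) := by
  -- local data
  have key : ∀ x : V0, ∃ W : X.Opens, IsAffineOpen W ∧ x.1 ∈ W ∧ W ≤ V0 ∧
      ∃ e : Γ(L, W), IsGen L W e := fun x => exists_isGen_le hL x.1 V0 x.2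
  choose W0 hW0 hxW0 hW0V e0 he0 using key
  obtain ⟨Tf, hTf⟩ := hV0.elim_finite_subcover (fun x : V0 => ((W0 x : X.Opens) : Set X))
    (fun x => (W0 x).isOpen) (fun y hy => Set.mem_iUnion.mpr ⟨⟨y, hy⟩, hxW0 ⟨y, hy⟩⟩)
  let W : Tf → X.Opens := fun i => W0 i.1
  have hW : ∀ i, IsAffineOpen (W i) := fun i => hW0 i.1
  have hWV : ∀ i, W i ≤ V0 := fun i => hW0V i.1
  let e : ∀ i : Tf, Γ(L, W i) := fun i => e0 i.1
  have he : ∀ i, IsGen L (W i) (e i) := fun i => he0 i.1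
  let f : ∀ i : Tf, Γ(X, W i) := fun i => Φ.coefOf σ (W i) (hWV i) (e i) (he i)
  have hcov : ∀ y ∈ V0, ∃ i : Tf, y ∈ W i := by
    intro y hy
    obtain ⟨x, hxT, hyx⟩ := Set.mem_iUnion₂.mp (hTf hy)
    exact ⟨⟨x, hxT⟩, hyx⟩
  have hD : ∀ i, O ⊓ W i = X.basicOpen (f i) := fun i => hloc (W i) (hWV i) (e i) (he i)
  have hDW : ∀ i, X.basicOpen (f i) ≤ W i := fun i => X.basicOpen_le (f i)
  have hDs : ∀ i, X.basicOpen (f i) ≤ O := fun i => by
    rw [← hD i]; exact inf_le_left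
  -- step 2: local extensions
  have ext1 : ∀ i, ∃ (n : ℕ) (u : Γ(F, W i)),
      rF F (hDW i) u = rX (hDW i) (f i) ^ n • rF F (hDs i) t := by
    intro i
    obtain ⟨n, m', hm⟩ := surj_of_qcqs F (f i) (hW i).isCompact (hW i).isQuasiSeparated
      (homOfLE (X.basicOpen_le (f i))) rfl (rF F (hDs i) t)
    exact ⟨n, m', hm.symm⟩
  choose n1 u1 hu1 using ext1
  let n : ℕ := Finset.univ.sup n1
  obtain ⟨u, hu⟩ : ∃ u : ∀ i : Tf, Γ(F, W i),
      ∀ i, rF F (hDW i) (u i) = rX (hDW i) (f i) ^ n • rF F (hDs i) t := by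
    refine ⟨fun i => f i ^ (n - n1 i) • u1 i, fun i => ?_⟩
    have hle : n1 i ≤ n := Finset.le_sup (f := n1) (Finset.mem_univ i)
    show rF F (hDW i) (f i ^ (n - n1 i) • u1 i) = _
    rw [rF_pow_smul, hu1, ← mul_smul, ← pow_add, Nat.sub_add_cancel hle]
  -- step 3: comparison on overlaps
  have hl : ∀ i j, W i ⊓ W j ≤ W i := fun i j => inf_le_left
  have hr : ∀ i j, W i ⊓ W j ≤ W j := fun i j => inf_le_right
  have hcoef : ∀ i j, ∃ c : Γ(X, W i ⊓ W j), rF L (hr i j) (e j) = c • rF L (hl i j) (e i) :=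
    fun i j => ((he i).res (hl i j)).exists_coef _
  choose c hc using hcoef
  have hgc : ∀ i j, IsGen L (W i ⊓ W j) (c i j • rF L (hl i j) (e i)) := fun i j =>
    hc i j ▸ (he j).res (hr i j)
  have hfc : ∀ i j, rX (hl i j) (f i) = rX (hr i j) (f j) * c i j ^ m := by
    intro i j
    rw [← Φ.coefOf_res σ (W i) (hWV i) (e i) (he i) (hl i j),
      ← Φ.coefOf_res σ (W j) (hWV j) (e j) (he j) (hr i j),
      Φ.coefOf_change σ _ _ (rF L (hl i j) (e i)) ((he i).res (hl i j)) (c i j) (hgc i j)]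
    congr 1
    exact Frame.coefOf_congr Φ σ _ _ (hc i j).symm _ _
  have hkill : ∀ i j, ∃ k : ℕ, rX (hl i j) (f i) ^ k •
      (rF F (hl i j) (u i) - c i j ^ (m * n) • rF F (hr i j) (u j)) = 0 := by
    intro i j
    have hcomp : IsCompact ((W i ⊓ W j : X.Opens) : Set X) :=
      QuasiSeparatedSpace.inter_isCompact _ _ (W i).isOpen (hW i).isCompact (W j).isOpen
        (hW j).isCompact
    apply Groth.Agent.Lib.QCohExtH1.exists_pow_smul_eq_zero_of_isCompact F _ hcomp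
    show rF F (X.basicOpen_le (rX (hl i j) (f i))) _ = 0
    have hZ : X.basicOpen (rX (hl i j) (f i)) = (W i ⊓ W j) ⊓ X.basicOpen (f i) :=
      basicOpen_rX (hl i j) (f i)
    have hZi : X.basicOpen (rX (hl i j) (f i)) ≤ X.basicOpen (f i) := by
      rw [hZ]; exact inf_le_right
    have hZj : X.basicOpen (rX (hl i j) (f i)) ≤ X.basicOpen (f j) := by
      rw [← hD j]
      exact le_inf (hZi.trans (hDs i)) ((X.basicOpen_le _).trans (hr i j))
    have hZW : X.basicOpen (rX (hl i j) (f i)) ≤ W i ⊓ W j := X.basicOpen_le _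
    have h1 : rF F hZW (rF F (hl i j) (u i)) =
        rX (hZi.trans (hDW i)) (f i) ^ n • rF F (hZi.trans (hDs i)) t := by
      have := congrArg (rF F hZi) (hu i)
      rw [rF_rF, rF_pow_smul, rX_rX, rF_rF] at this
      rw [rF_rF]
      exact this
    have h2 : rF F hZW (rF F (hr i j) (u j)) =
        rX (hZj.trans (hDW j)) (f j) ^ n • rF F (hZi.trans (hDs i)) t := by
      have := congrArg (rF F hZj) (hu j)
      rw [rF_rF, rF_pow_smul, rX_rX, rF_rF] at this
      rw [rF_rF]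
      exact this
    have h3 : rX (hZi.trans (hDW i)) (f i) =
        rX (hZj.trans (hDW j)) (f j) * rX hZW (c i j) ^ m := by
      have := congrArg (rX hZW) (hfc i j)
      rw [map_mul, rX_rX, rX_rX, map_pow] at this
      exact this
    rw [map_sub, rF_pow_smul, h1, h2, h3, mul_pow, ← pow_mul, mul_comm, mul_smul, sub_self]
  choose m1 hm1 using hkill
  let m0 : ℕ := Finset.univ.sup (fun p : Tf × Tf => m1 p.1 p.2)
  refine ⟨n + m0, fun N hN T Θ => ?_⟩
  have hnN : n ≤ N := (Nat.le_add_right n m0).trans hN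
  have hm0 : m0 ≤ N - n := by omega
  -- step 4: local sections and their compatibility
  let τ : ∀ i : Tf, Γ(T, W i) := fun i => Θ.ψ (W i) (e i) (he i) (f i ^ (N - n) • u i)
  have hτ : ∀ i j, rF T (hl i j) (τ i) = rF T (hr i j) (τ j) := by
    intro i j
    have hmij : m1 i j ≤ N - n :=
      (Finset.le_sup (f := fun p : Tf × Tf => m1 p.1 p.2) (Finset.mem_univ (i, j))).trans hm0
    have h1 : rX (hl i j) (f i) ^ (N - n) • rF F (hl i j) (u i) =
        rX (hl i j) (f i) ^ (N - n) • (c i j ^ (m * n) • rF F (hr i j) (u j)) := by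
      have := hm1 i j
      rw [← sub_eq_zero, ← smul_sub, ← Nat.sub_add_cancel hmij, pow_add, mul_smul, this, smul_zero]
    show rF T (hl i j) (Θ.ψ (W i) (e i) (he i) (f i ^ (N - n) • u i)) =
      rF T (hr i j) (Θ.ψ (W j) (e j) (he j) (f j ^ (N - n) • u j))
    rw [Θ.res, Θ.res, Θ.ψ_congr _ (hc i j) _ (hgc i j),
      Θ.change _ _ ((he i).res (hl i j)) (c i j) (hgc i j), rF_pow_smul, rF_pow_smul, h1]
    congr 1
    rw [hfc i j, ← mul_smul, ← mul_smul]
    congr 1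
    have hcN : c i j ^ (m * N) = c i j ^ (m * (N - n)) * c i j ^ (m * n) := by
      rw [← pow_add, ← Nat.mul_add, Nat.sub_add_cancel hnN]
    rw [mul_pow, hcN, ← pow_mul]
    ring
  obtain ⟨y, hy⟩ := glue T W V0 hWV
    (fun z hz => by
      obtain ⟨i, hi⟩ := hcov z hz
      exact Opens.mem_iSup.mpr ⟨i, hi⟩) τ hτ
  refine ⟨y, ?_⟩
  obtain ⟨z, hz⟩ := exists_twistSec hL Φ σ N Θ hO t
  have hyz : rF T hO y = z := by
    apply eq_of_cover T
    intro x hx
    obtain ⟨i, hi⟩ := hcov x (hO hx)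
    have hxD : x ∈ X.basicOpen (f i) := by
      rw [← hD i]; exact ⟨hx, hi⟩
    refine ⟨X.basicOpen (f i), hDs i, hxD, ?_⟩
    rw [rF_rF, hz _ (hDs i) (rF L (hDW i) (e i)) ((he i).res (hDW i)),
      Φ.coefOf_res σ (W i) (hWV i) (e i) (he i) (hDW i)]
    have h1 : rF T ((hDs i).trans hO) y = rF T (hDW i) (τ i) := by
      rw [← hy i, rF_rF]
    rw [h1]
    show rF T (hDW i) (Θ.ψ (W i) (e i) (he i) (f i ^ (N - n) • u i)) = _
    rw [Θ.res, rF_pow_smul, hu i, ← mul_smul, ← pow_add, Nat.sub_add_cancel hnN]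
  intro W' hW' e' he'
  rw [← hz W' hW' e' he', ← hyz, rF_rF]

end TFrame


end A

section B

variable {X : Scheme.{u}}

theorem isUnit_of_basicOpen_eq {W : X.Opens} (c : Γ(X, W)) (h : X.basicOpen c = W) : IsUnit c := by
  apply X.toRingedSpace.isUnit_of_isUnit_germ
  intro x hx
  have hx' : x ∈ X.basicOpen c := by rw [h]; exact hx
  exact (Scheme.mem_basicOpen X c x hx).mp hx'

theorem rF_mem_span (F : X.Modules) {O W : X.Opens} (h : W ≤ O) (G : Set Γ(F, O)) (ζ : Γ(F, O))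
    (hζ : ζ ∈ Submodule.span Γ(X, O) G) :
    rF F h ζ ∈ Submodule.span Γ(X, W) ((rF F h) '' G) := by
  induction hζ using Submodule.span_induction with
  | mem z hz => exact Submodule.subset_span ⟨z, hz, rfl⟩
  | zero => rw [map_zero]; exact Submodule.zero_mem _
  | add a b _ _ ha hb => rw [map_add]; exact Submodule.add_mem _ ha hb
  | smul r a _ ha => rw [rF_smul]; exact Submodule.smul_mem _ _ ha

/-- On an affine open `O`, sections of a quasi-coherent module over a basic open are combinations of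
restrictions of generators of `Γ(F, O)`. -/
theorem mem_span_res_of_affine (F : X.Modules) [F.IsQuasicoherent] {O : X.Opens}
    (hO : IsAffineOpen O) (G : Set Γ(F, O)) (hG : Submodule.span Γ(X, O) G = ⊤) (a : Γ(X, O))
    (ζ : Γ(F, X.basicOpen a)) :
    ζ ∈ Submodule.span Γ(X, X.basicOpen a) ((rF F (X.basicOpen_le a)) '' G) := by
  obtain ⟨-, -, hsurj, -⟩ := QCohCrit.locOnU_of_isQuasicoherent F hO a
  obtain ⟨k, ζ0, hk⟩ := hsurj ζ
  have hk' : rX (X.basicOpen_le a) a ^ k • ζ = rF F (X.basicOpen_le a) ζ0 := hk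
  have hu : IsUnit (rX (X.basicOpen_le a) a ^ k) :=
    (X.toRingedSpace.isUnit_res_basicOpen a).pow k
  obtain ⟨v, hv⟩ := hu.exists_left_inv
  have h1 : ζ = v • rF F (X.basicOpen_le a) ζ0 := by
    rw [← hk', ← mul_smul, hv, one_smul]
  rw [h1]
  apply Submodule.smul_mem
  apply rF_mem_span
  rw [hG]
  exact Submodule.mem_top

namespace TFrame

variable {L F T : X.Modules}

/-- Change of weight along an equality. -/
def cast {n n' : ℕ} (h : n = n') (Θ : TFrame L F T n) : TFrame L F T n' where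
  ψ := Θ.ψ
  add := Θ.add
  smul := Θ.smul
  bij := Θ.bij
  res := Θ.res
  change W e he u he' t := by rw [← h]; exact Θ.change W e he u he' t

end TFrame


end B

section Gen

variable {X : Scheme.{u}}

set_option maxHeartbeats 1600000 in
/-- Serre-type generation relative to an open `V0` on which `L` is ample: for `n` large, every
module `T` which is "`F` twisted by `L^n`" is generated over `V0` by its sections over `V0`. -/
theorem exists_gen_of_isAmpleOn [QuasiSeparatedSpace X] {L : X.Modules} (hL : PicF.IsInvertible L)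
    (F : X.Modules) [F.IsQuasicoherent] [SheafOfModules.IsFiniteType (R := X.ringCatSheaf) F]
    {V0 : X.Opens} (hA : IsAmpleOn L V0) :
    ∃ n₀ : ℕ, ∀ n : ℕ, n₀ ≤ n → ∀ {T : X.Modules} (Θ : TFrame L F T n) {W : X.Opens}
      (hW : W ≤ V0) (z : Γ(T, W)) (x : X), x ∈ W →
      ∃ (W' : X.Opens) (h' : W' ≤ W), x ∈ W' ∧ rF T h' z ∈ Submodule.span Γ(X, W')
        (Set.range fun y : Γ(T, V0) => rF T (h'.trans hW) y) := by
  obtain ⟨hc, hB⟩ := hA.toB hL
  -- local data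
  have key : ∀ x : V0, ∃ (n : ℕ) (σ : Γ(CohB1.tensorPow L (n + 1), V0)) (O : X.Opens)
      (ε : Γ(L, O)), IsAffineOpen O ∧ x.1 ∈ O ∧ O ≤ V0 ∧ IsGen L O ε ∧
        HasLocus (Frame.pow L (n + 1)) σ O := by
    intro x
    obtain ⟨U, -, hxU, -, ε, hε⟩ := exists_isGen_le hL x.1 V0 x.2
    obtain ⟨n, σ, O, hO, hxO, hOV, hOU, hloc⟩ := hB x.1 x.2 U hxU
    exact ⟨n, σ, O, rF L hOU ε, hO, hxO, hOV, hε.res hOU, hloc⟩
  choose n1 σ1 O1 ε1 hO1 hxO1 hO1V hε1 hloc1 using key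
  obtain ⟨Tf, hTf⟩ := hc.elim_finite_subcover (fun x : V0 => ((O1 x : X.Opens) : Set X))
    (fun x => (O1 x).isOpen) (fun y hy => Set.mem_iUnion.mpr ⟨⟨y, hy⟩, hxO1 ⟨y, hy⟩⟩)
  -- common exponent
  obtain ⟨m, hmdef⟩ : ∃ m : ℕ, m = ∏ i ∈ Tf, (n1 i + 1) := ⟨_, rfl⟩
  have hm : 0 < m := by
    rw [hmdef]
    exact Finset.prod_pos (fun i _ => Nat.succ_pos _)
  have hdiv : ∀ i : Tf, ∃ r : ℕ, 0 < r ∧ m = (n1 i.1 + 1) * r := by
    intro i
    obtain ⟨r, hr⟩ := Finset.dvd_prod_of_mem (fun i => n1 i + 1) i.2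
    rw [← hmdef] at hr
    refine ⟨r, ?_, hr⟩
    rcases Nat.eq_zero_or_pos r with h0 | h0
    · rw [h0, mul_zero] at hr
      omega
    · exact h0
  have hσ : ∀ i : Tf, ∃ σ' : Γ(CohB1.tensorPow L m, V0),
      HasLocus (Frame.pow L m) σ' (O1 i.1) := by
    intro i
    obtain ⟨r, hr, hmr⟩ := hdiv i
    exact HasLocus.change_frame_pow hL (Frame.pow L (n1 i.1 + 1)) (Frame.pow L m) r hr hmr
      (σ1 i.1) (hloc1 i.1)
  choose σ' hloc' using hσ
  -- generators
  have hfin : ∀ i : Tf, ∃ G : Finset Γ(F, O1 i.1),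
      Submodule.span Γ(X, O1 i.1) (G : Set Γ(F, O1 i.1)) = ⊤ := by
    intro i
    haveI := QCohFT.finite_of_isFiniteType F (hO1 i.1)
    exact Module.Finite.fg_top
  choose G hG using hfin
  -- extension exponents
  have hext : ∀ (i : Tf) (r : ℕ) (g : Γ(F, O1 i.1)), ∃ N0 : ℕ, ∀ N : ℕ, N0 ≤ N →
      ∀ {T' : X.Modules} (Θ' : TFrame L (CohB1.tensorMod F (CohB1.tensorPow L r)) T' (m * N)),
      ∃ y : Γ(T', V0), ∀ (W : X.Opens) (hW : W ≤ O1 i.1) (e : Γ(L, W)) (he : IsGen L W e),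
        rF T' (hW.trans (hO1V i.1)) y = Θ'.ψ W e he
          ((Frame.pow L m).coefOf (σ' i) W (hW.trans (hO1V i.1)) e he ^ N •
            rF (CohB1.tensorMod F (CohB1.tensorPow L r)) hW
              (SecTwist.tmul F (CohB1.tensorPow L r) (O1 i.1) g
                ((Frame.pow L r).φ (O1 i.1) (ε1 i.1)))) := by
    intro i r g
    haveI := isQuasicoherent_tensorMod_right F (isInvertible_tensorPow hL r)
    exact TFrame.exists_extend hL _ (Frame.pow L m) hc (σ' i) (hO1V i.1) (hloc' i) _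
  choose N0 hN0 using hext
  obtain ⟨N3, hN3def⟩ : ∃ N3 : ℕ, N3 = Finset.univ.sup (fun i : Tf =>
      (Finset.range m).sup (fun r => (G i).sup (fun g => N0 i r g))) := ⟨_, rfl⟩
  have hN3 : ∀ (i : Tf) (r : ℕ), r < m → ∀ g ∈ G i, N0 i r g ≤ N3 := by
    intro i r hr g hg
    rw [hN3def]
    refine le_trans ?_ (Finset.le_sup (f := fun i : Tf =>
      (Finset.range m).sup (fun r => (G i).sup (fun g => N0 i r g))) (Finset.mem_univ i))
    refine le_trans ?_ (Finset.le_sup (f := fun r => (G i).sup (fun g => N0 i r g))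
      (Finset.mem_range.mpr hr))
    exact Finset.le_sup (f := fun g => N0 i r g) hg
  refine ⟨m * N3, ?_⟩
  intro n hn T Θ W hW z x hxW
  have hxV : x ∈ V0 := hW hxW
  obtain ⟨i, hxi⟩ : ∃ i : Tf, x ∈ O1 i.1 := by
    obtain ⟨y, hyT, hxy⟩ := Set.mem_iUnion₂.mp (hTf hxV)
    exact ⟨⟨y, hyT⟩, hxy⟩
  obtain ⟨N, r, hr, hnNr⟩ : ∃ N r : ℕ, r < m ∧ n = m * N + r :=
    ⟨n / m, n % m, Nat.mod_lt _ hm, (Nat.div_add_mod n m).symm⟩
  have hN3N : N3 ≤ N := by
    by_contra h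
    have h1 : m * (N + 1) ≤ m * N3 := Nat.mul_le_mul_left m (Nat.not_le.mp h)
    have h2 : m * (N + 1) = m * N + m := by ring
    omega
  -- the frames
  obtain ⟨Θ', hΘ'⟩ : ∃ Θ' : TFrame L F T (m * N + r), Θ'.ψ = Θ.ψ := ⟨Θ.cast hnNr, rfl⟩
  obtain ⟨Ξ, hΞ⟩ : ∃ Ξ : TFrame L F (CohB1.tensorMod F (CohB1.tensorPow L r)) r,
      ∀ (W : X.Opens) (e : Γ(L, W)) (he : IsGen L W e) (t : Γ(F, W)),
        Ξ.ψ W e he t = SecTwist.tmul F (CohB1.tensorPow L r) W t ((Frame.pow L r).φ W e) :=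
    ⟨TFrame.tensor (Frame.pow L r) F, fun _ _ _ _ => rfl⟩
  -- a basic open neighbourhood
  obtain ⟨a, haW, hxa⟩ := (hO1 i.1).exists_basicOpen_le (V := W ⊓ O1 i.1) ⟨x, ⟨hxW, hxi⟩⟩ hxi
  have h2W : X.basicOpen a ≤ W := haW.trans inf_le_left
  have h2O : X.basicOpen a ≤ O1 i.1 := X.basicOpen_le a
  have he2 : IsGen L (X.basicOpen a) (rF L h2O (ε1 i.1)) := (hε1 i.1).res h2O
  refine ⟨X.basicOpen a, h2W, hxa, ?_⟩
  -- the coefficient of `z`
  have hζ := Θ'.coefOf_spec z (X.basicOpen a) h2W (rF L h2O (ε1 i.1)) he2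
  have hζmem := mem_span_res_of_affine F (hO1 i.1) (G i : Set Γ(F, O1 i.1)) (hG i) a
    (Θ'.coefOf z (X.basicOpen a) h2W (rF L h2O (ε1 i.1)) he2)
  -- the linear map
  let Λ : Γ(F, X.basicOpen a) →ₗ[Γ(X, X.basicOpen a)] Γ(T, X.basicOpen a) :=
    { toFun := Θ'.ψ (X.basicOpen a) (rF L h2O (ε1 i.1)) he2
      map_add' := Θ'.add _ _ _
      map_smul' := Θ'.smul _ _ _ }
  have hle : Submodule.span Γ(X, X.basicOpen a) ((rF F h2O) '' (G i : Set Γ(F, O1 i.1))) ≤
      (Submodule.span Γ(X, X.basicOpen a)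
        (Set.range fun y : Γ(T, V0) => rF T (h2W.trans hW) y)).comap Λ := by
    rw [Submodule.span_le]
    rintro _ ⟨g, hg, rfl⟩
    show Θ'.ψ (X.basicOpen a) (rF L h2O (ε1 i.1)) he2 (rF F h2O g) ∈
      Submodule.span Γ(X, X.basicOpen a) (Set.range fun y : Γ(T, V0) => rF T (h2W.trans hW) y)
    obtain ⟨y, hy⟩ := hN0 i r g N ((hN3 i r hr g hg).trans hN3N) (Θ'.untwist Ξ)
    have hy2 := hy (X.basicOpen a) h2O (rF L h2O (ε1 i.1)) he2
    -- the unit
    have hcu : IsUnit ((Frame.pow L m).coefOf (σ' i) (X.basicOpen a) (h2O.trans (hO1V i.1))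
        (rF L h2O (ε1 i.1)) he2) := by
      apply isUnit_of_basicOpen_eq
      rw [← hloc' i (X.basicOpen a) (h2O.trans (hO1V i.1)) (rF L h2O (ε1 i.1)) he2]
      exact inf_eq_right.mpr h2O
    obtain ⟨v, hv⟩ := (hcu.pow N).exists_left_inv
    -- compute the coefficient
    have h3 : Ξ.coefOf ((Frame.pow L m).coefOf (σ' i) (X.basicOpen a) (h2O.trans (hO1V i.1))
        (rF L h2O (ε1 i.1)) he2 ^ N • rF (CohB1.tensorMod F (CohB1.tensorPow L r)) h2O
          (SecTwist.tmul F (CohB1.tensorPow L r) (O1 i.1) g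
            ((Frame.pow L r).φ (O1 i.1) (ε1 i.1)))) (X.basicOpen a) le_rfl
        (rF L h2O (ε1 i.1)) he2 =
        (Frame.pow L m).coefOf (σ' i) (X.basicOpen a) (h2O.trans (hO1V i.1))
          (rF L h2O (ε1 i.1)) he2 ^ N • rF F h2O g := by
      symm
      apply Ξ.coefOf_unique
      rw [Ξ.smul, hΞ, SubExt.rF_self, rF_tmul, (Frame.pow L r).res]
    have h4 : rF T ((h2O).trans (hO1V i.1)) y =
        (Frame.pow L m).coefOf (σ' i) (X.basicOpen a) (h2O.trans (hO1V i.1))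
          (rF L h2O (ε1 i.1)) he2 ^ N •
          Θ'.ψ (X.basicOpen a) (rF L h2O (ε1 i.1)) he2 (rF F h2O g) := by
      rw [hy2, ← Θ'.smul, ← h3]
      rfl
    have h5 : Θ'.ψ (X.basicOpen a) (rF L h2O (ε1 i.1)) he2 (rF F h2O g) =
        v • rF T ((h2O).trans (hO1V i.1)) y := by
      rw [h4, ← mul_smul, hv, one_smul]
    rw [h5]
    exact Submodule.smul_mem _ _ (Submodule.subset_span ⟨y, rfl⟩)
  have hfinal := hle hζmem
  have hfinal' : Θ'.ψ (X.basicOpen a) (rF L h2O (ε1 i.1)) he2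
      (Θ'.coefOf z (X.basicOpen a) h2W (rF L h2O (ε1 i.1)) he2) ∈
      Submodule.span Γ(X, X.basicOpen a) (Set.range fun y : Γ(T, V0) => rF T (h2W.trans hW) y) :=
    hfinal
  rw [hζ] at hfinal'
  exact hfinal'

end Gen

end TensH8
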