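import Mathlib
import Groth.Prelude
import Groth.Agent.Lib.Tens28_helper8
import Groth.Agent.Lib.GlobGen_helper9

/-!
# Consequences of Serre-type generation (helper8)
APPEND-ONLY once landed.
-/

set_option autoImplicit false

namespace TensH8

open AlgebraicGeometry CategoryTheory CategoryTheory.Limits TopologicalSpace Opposite TensorProduct
open QcqsLoc MonoidalCategory GenLocH8 FLFH8 QCohExtn PBH8 SerreCrit

universe u

section Epi

variable {X : Scheme.{u}}

/-- A locally surjective morphism of modules is an epimorphism. -/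
theorem epi_of_locally_surjective {F G : X.Modules} (p : G ⟶ F)
    (h : ∀ (U : X.Opens) (m : Γ(F, U)) (x : X), x ∈ U →
      ∃ (W : X.Opens) (hW : W ≤ U), x ∈ W ∧ ∃ z : Γ(G, W), ap p W z = rF F hW m) : Epi p := by
  constructor
  intro H a b hab
  apply Scheme.Modules.hom_ext
  intro W
  ext x
  apply eq_of_cover H
  intro y hy
  obtain ⟨U, hUW, hyU, z, hz⟩ := h W x y hy
  refine ⟨U, hUW, hyU, ?_⟩
  have ha : rF H hUW (a.app W x) = a.app U (rF F hUW x) :=
    (QCohCrit.app_naturality a (homOfLE hUW) x).symm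
  have hb : rF H hUW (b.app W x) = b.app U (rF F hUW x) :=
    (QCohCrit.app_naturality b (homOfLE hUW) x).symm
  have hz' : p.app U z = rF F hUW x := hz
  rw [ha, hb, ← hz']
  have := congrArg (fun φ => φ.app U z) hab
  exact this

set_option backward.isDefEq.respectTransparency false in
/-- A module all of whose local sections are locally combinations of global sections is globally
generated. -/
theorem isGloballyGenerated_of_span {T : X.Modules}
    (h : ∀ (W : X.Opens) (z : Γ(T, W)) (x : X), x ∈ W →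
      ∃ (W' : X.Opens) (h' : W' ≤ W), x ∈ W' ∧ rF T h' z ∈ Submodule.span Γ(X, W')
        (Set.range fun y : Γ(T, ⊤) => rF T (le_top : W' ≤ ⊤) y)) :
    Curv2.IsGloballyGenerated T := by
  let s : Γ(T, ⊤) → SheafOfModules.sections (R := X.ringCatSheaf) T := GlobGen.globalSection T
  let A : X.Modules := SheafOfModules.free (R := X.ringCatSheaf) Γ(T, ⊤)
  let p : A ⟶ T := (SheafOfModules.freeHomEquiv T).symm s
  refine ⟨Γ(T, ⊤), p, ?_⟩
  apply epi_of_locally_surjective p
  intro U m x hx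
  obtain ⟨W', h', hxW', hmem⟩ := h U m x hx
  refine ⟨W', h', hxW', ?_⟩
  let lin : Γ(A, W') →ₗ[Γ(X, W')] Γ(T, W') :=
    { toFun := ap p W'
      map_add' := map_add _
      map_smul' := fun r z => ap_smul p r z }
  have hle : Submodule.span Γ(X, W') (Set.range fun y : Γ(T, ⊤) => rF T (le_top : W' ≤ ⊤) y) ≤
      LinearMap.range lin := by
    rw [Submodule.span_le]
    rintro _ ⟨g, rfl⟩
    refine ⟨(SheafOfModules.freeSection (R := X.ringCatSheaf) g).val (op W'), ?_⟩
    have h1 := SheafOfModules.sectionsMap_freeHomEquiv_symm_freeSection (M := T) s g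
    have h2 := congrArg (fun σ => σ.val (op W')) h1
    exact h2
  obtain ⟨z, hz⟩ := hle hmem
  exact ⟨z, hz⟩

end Epi

section Counit

variable {X Y : Scheme.{u}} (f : X ⟶ Y)

/-- If every local section of `T` is locally a combination of sections over preimages of opens of
the base, then the counit `f^* f_* T ⟶ T` is an epimorphism. -/
theorem epi_counit_of_span (T : X.Modules)
    (h : ∀ x : X, ∃ V : Y.Opens, f x ∈ V ∧ ∀ (W : X.Opens) (hW : W ≤ f ⁻¹ᵁ V) (z : Γ(T, W)),
      x ∈ W → ∃ (W' : X.Opens) (h' : W' ≤ W), x ∈ W' ∧ rF T h' z ∈ Submodule.span Γ(X, W')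
        (Set.range fun y : Γ(T, f ⁻¹ᵁ V) => rF T (h'.trans hW) y)) :
    Epi ((Scheme.Modules.pullbackPushforwardAdjunction f).counit.app T) := by
  apply epi_of_locally_surjective
  intro U m x hx
  obtain ⟨V, hxV, hV⟩ := h x
  have hl : U ⊓ f ⁻¹ᵁ V ≤ U := inf_le_left
  have hr : U ⊓ f ⁻¹ᵁ V ≤ f ⁻¹ᵁ V := inf_le_right
  obtain ⟨W', h', hxW', hmem⟩ := hV (U ⊓ f ⁻¹ᵁ V) hr (rF T hl m) ⟨hx, hxV⟩
  refine ⟨W', h'.trans hl, hxW', ?_⟩
  let lin : Γ((Scheme.Modules.pullback f).obj ((Scheme.Modules.pushforward f).obj T), W') →ₗ[Γ(X, W')]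
      Γ(T, W') :=
    { toFun := ap ((Scheme.Modules.pullbackPushforwardAdjunction f).counit.app T) W'
      map_add' := map_add _
      map_smul' := fun r z =>
        ap_smul ((Scheme.Modules.pullbackPushforwardAdjunction f).counit.app T) r z }
  have hle : Submodule.span Γ(X, W')
      (Set.range fun y : Γ(T, f ⁻¹ᵁ V) => rF T (h'.trans hr) y) ≤ LinearMap.range lin := by
    rw [Submodule.span_le]
    rintro _ ⟨y, rfl⟩
    exact ⟨cUV f ((Scheme.Modules.pushforward f).obj T) (h'.trans hr) y,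
      counit_cUV f T (h'.trans hr) y⟩
  obtain ⟨z, hz⟩ := hle hmem
  refine ⟨z, ?_⟩
  have hz' : ap ((Scheme.Modules.pullbackPushforwardAdjunction f).counit.app T) W' z =
      rF T h' (rF T hl m) := hz
  exact hz'.trans (rF_rF T h' hl m)

end Counit

section Main

/-- Serre's theorem on generation by global sections (absolute form). -/
theorem exists_isGloballyGenerated_twist {X : Scheme.{u}} [QuasiSeparatedSpace X] {L : X.Modules}
    (hL : CohB1.IsAmple L) (F : X.Modules) (hF : Coh.IsCoh F) :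
    ∃ n₀ : ℕ, ∀ n, n₀ ≤ n →
      Curv2.IsGloballyGenerated (CohB1.tensorMod F (CohB1.tensorPow L n)) := by
  obtain ⟨hinv, hc, -⟩ := id hL
  haveI := hc
  haveI : F.IsQuasicoherent := hF.1
  haveI : SheafOfModules.IsFiniteType (R := X.ringCatSheaf) F := hF.2
  have hA : IsAmpleOn L ⊤ := isAmpleOn_of_isAmple hL ⊤ (by simpa using isCompact_univ (X := X))
  obtain ⟨n₀, hn₀⟩ := exists_gen_of_isAmpleOn hinv F hA
  refine ⟨n₀, fun n hn => isGloballyGenerated_of_span fun W z x hx => ?_⟩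
  exact hn₀ n hn (TFrame.tensor (Frame.pow L n) F) le_top z x hx

/-- Serre's theorem, relative form: for `L` relatively ample and `F` quasi-coherent of finite type,
the counit `f^* f_* (F ⊗ L^n) ⟶ F ⊗ L^n` is an epimorphism for `n` large. -/
theorem exists_epi_counit_twist {X Y : Scheme.{u}} [CompactSpace X] [QuasiSeparatedSpace X]
    (f : X ⟶ Y) {L : X.Modules} (hL : PicF.IsInvertible L) (hamp : RelAmple.IsRelAmple f L)
    (F : X.Modules) (hF : Coh.IsCoh F) :
    ∃ n₀ : ℕ, ∀ n, n₀ ≤ n → Epi ((Scheme.Modules.pullbackPushforwardAdjunction f).counit.app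
      (CohB1.tensorMod F (CohB1.tensorPow L n))) := by
  haveI : F.IsQuasicoherent := hF.1
  haveI : SheafOfModules.IsFiniteType (R := X.ringCatSheaf) F := hF.2
  rw [isRelAmple_iff f hL] at hamp
  obtain ⟨-, hA⟩ := hamp
  have key : ∀ x : X, ∃ V : Y.affineOpens, f x ∈ V.1 := fun x => by
    obtain ⟨_, ⟨V, hV, rfl⟩, hxV, -⟩ := Y.isBasis_affineOpens.exists_subset_of_mem_open
      (Set.mem_univ (f x)) isOpen_univ
    exact ⟨⟨V, hV⟩, hxV⟩
  choose V hV using key
  obtain ⟨Tf, hTf⟩ := isCompact_univ.elim_finite_subcover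
    (fun x : X => ((f ⁻¹ᵁ (V x).1 : X.Opens) : Set X)) (fun x => (f ⁻¹ᵁ (V x).1).isOpen)
    (fun y _ => Set.mem_iUnion.mpr ⟨y, hV y⟩)
  have hgen := fun x : X => exists_gen_of_isAmpleOn hL F (hA (V x))
  choose n1 hn1 using hgen
  refine ⟨Tf.sup n1, fun n hn => ?_⟩
  apply epi_counit_of_span
  intro x
  obtain ⟨y, hyT, hxy⟩ := Set.mem_iUnion₂.mp (hTf (Set.mem_univ x))
  refine ⟨(V y).1, hxy, fun W hW z hxW => ?_⟩
  exact hn1 y n (le_trans (Finset.le_sup hyT) hn) (TFrame.tensor (Frame.pow L n) F) hW z x hxW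

theorem isRelAmple_iff_counit_epi {X Y : Scheme.{u}} [CompactSpace X] [X.IsSeparated] (f : X ⟶ Y)
    [IsSeparated f] [QuasiCompact f] (L : X.Modules) (hL : PicF.IsInvertible L) :
    RelAmple.IsRelAmple f L ↔ ∀ F : X.Modules, Coh.IsQCoh F → CohB1.IsFT F →
      ∃ n₀ : ℕ, 0 < n₀ ∧ ∀ n : ℕ, n₀ ≤ n →
        Epi ((Scheme.Modules.pullbackPushforwardAdjunction f).counit.app
          (CohB1.tensorMod F (CohB1.tensorPow L n))) := by
  constructor
  · intro hamp F hFq hFt
    obtain ⟨n₀, hn₀⟩ := exists_epi_counit_twist f hL hamp F ⟨hFq, hFt⟩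
    exact ⟨n₀ + 1, Nat.succ_pos _, fun n hn => hn₀ n (by omega)⟩
  · intro h
    apply isRelAmple_of_counit_ideal_twist_epi f L hL
    intro J i hi hJq hJt
    obtain ⟨n₀, hn₀, hall⟩ := h J hJq hJt
    exact ⟨n₀, hn₀, hall n₀ le_rfl⟩

end Main

end TensH8
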