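import Mathlib
import Groth.Prelude
import Groth.Agent.Lib.Tens29_helper8

/-!
# Ideal sheaf data of quasi-coherent submodules of `O_X`; ampleness from global generation of
twisted ideals (helper8)
APPEND-ONLY once landed.
-/

set_option autoImplicit false

namespace TensH8

open AlgebraicGeometry CategoryTheory CategoryTheory.Limits TopologicalSpace Opposite TensorProduct
open QcqsLoc MonoidalCategory GenLocH8 FLFH8 QCohExtn PBH8 SerreCrit

universe u

section A
variable {X : Scheme.{u}}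

/-- A morphism `O_X ⟶ M` is determined by its global section. -/
theorem hom_ext_of_val {M : X.Modules} (s t : Coh.structureModule X ⟶ M)
    (h : SecTwist.val s ⊤ = SecTwist.val t ⊤) : s = t := by
  apply M.unitHomEquiv.injective
  apply Subtype.ext
  funext U
  show SecTwist.val s U.unop = SecTwist.val t U.unop
  rw [← rF_val s (le_top : U.unop ≤ ⊤), ← rF_val t (le_top : U.unop ≤ ⊤), h]

/-- The kernel of a morphism, sectionwise. -/
noncomputable def kerSub {A B : X.Modules} (φ : A ⟶ B) : LSub A where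
  carrier W :=
    { carrier := {s | ap φ W s = 0}
      add_mem' := by
        intro a b ha hb
        show ap φ W (a + b) = 0
        rw [map_add, ha, hb, add_zero]
      zero_mem' := map_zero _
      smul_mem' := by
        intro r a ha
        show ap φ W (r • a) = 0
        rw [ap_smul, ha, smul_zero] }
  res := by
    intro W W' h s hs
    show ap φ W' (rF A h s) = 0
    rw [ap_rF, hs, map_zero]
  loc := by
    intro W s hloc
    show ap φ W s = 0
    apply eq_zero_of_cover B
    intro x hx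
    obtain ⟨W', h, hxW', hs'⟩ := hloc x hx
    refine ⟨W', h, hxW', ?_⟩
    rw [← ap_rF]
    exact hs'

theorem kerSub_ι_comp {A B : X.Modules} (φ : A ⟶ B) : (kerSub φ).ι ≫ φ = 0 := by
  apply Scheme.Modules.hom_ext
  intro W
  ext s
  exact (kerSub φ).ι_mem s

/-- Sections of the source killed by `φ` lift to sections of the kernel. -/
theorem exists_kernel_section {A B : X.Modules} (φ : A ⟶ B) {W : X.Opens} (a : Γ(A, W))
    (ha : ap φ W a = 0) : ∃ t : Γ(kernel φ, W), ap (kernel.ι φ) W t = a := by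
  obtain ⟨k, hk⟩ := (kerSub φ).exists_of_mem (show a ∈ (kerSub φ).carrier W from ha)
  refine ⟨ap (kernel.lift φ (kerSub φ).ι (kerSub_ι_comp φ)) W k, ?_⟩
  have h1 := congrArg (fun ψ : (kerSub φ).toModules ⟶ A => ap ψ W k)
    (kernel.lift_ι φ (kerSub φ).ι (kerSub_ι_comp φ))
  exact h1.trans hk

theorem kernel_section_mem {A B : X.Modules} (φ : A ⟶ B) {W : X.Opens} (t : Γ(kernel φ, W)) :
    ap φ W (ap (kernel.ι φ) W t) = 0 := by
  have h1 := congrArg (fun ψ : kernel φ ⟶ B => ap ψ W t) (kernel.condition φ)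
  exact h1

set_option backward.isDefEq.respectTransparency false in
/-- If `p : ∐ O_X ⟶ T` is an epimorphism then every local section of `T` is locally a combination
of the images of the generators. -/
theorem locSpan_of_epi_sigma {T : X.Modules} {κ : Type} [Finite κ]
    (p : (∐ fun _ : κ => Coh.structureModule X) ⟶ T) [Epi p] (W : X.Opens) (s : Γ(T, W)) :
    GGH8.LocSpan T (fun j : κ => SecTwist.val
      (Sigma.ι (fun _ : κ => Coh.structureModule X) j ≫ p) ⊤) W s := by
  obtain ⟨g, hgdef⟩ : ∃ g : κ → Γ(T, ⊤), g = fun j : κ => SecTwist.val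
      (Sigma.ι (fun _ : κ => Coh.structureModule X) j ≫ p) ⊤ := ⟨_, rfl⟩
  rw [← hgdef]
  let N : LSub T := GGH8.spanSub T g
  choose g' hg' using fun j => N.exists_of_mem (GGH8.gen_mem_spanSub T g j)
  let q : (∐ fun _ : κ => Coh.structureModule X) ⟶ N.toModules :=
    Sigma.desc (fun j => homOfSec N.toModules (g' j))
  have hq : q ≫ N.ι = p := by
    apply Sigma.hom_ext
    intro j
    rw [← Category.assoc, Sigma.ι_desc]
    apply hom_ext_of_val
    have h1 : SecTwist.val (homOfSec N.toModules (g' j) ≫ N.ι) ⊤ =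
        ap N.ι ⊤ (SecTwist.val (homOfSec N.toModules (g' j)) ⊤) := rfl
    rw [h1, val_homOfSec, SubExt.rF_self, hg' j, hgdef]
  haveI : Epi (q ≫ N.ι) := by rw [hq]; infer_instance
  haveI : Epi N.ι := epi_of_epi q N.ι
  haveI : IsIso N.ι := isIso_of_mono_of_epi N.ι
  have h2 : ap N.ι W (ap (inv N.ι) W s) = s := by
    have := congrArg (fun φ : T ⟶ T => ap φ W s) (IsIso.inv_hom_id N.ι)
    exact this
  have h3 := N.ι_mem (ap (inv N.ι) W s)
  rw [h2] at h3
  exact h3


end A

section B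

variable {X : Scheme.{u}}

/-- The ideal of functions over `W` which are images of sections of `G`. -/
def imgIdeal {G : X.Modules} (i : G ⟶ OO X) (W : X.Opens) : Ideal Γ(X, W) where
  carrier := {a | ∃ g : Γ(G, W), toFn (ap i W g) = a}
  add_mem' := by
    rintro a b ⟨g, rfl⟩ ⟨g', rfl⟩
    exact ⟨g + g', by rw [map_add]; rfl⟩
  zero_mem' := ⟨0, map_zero _⟩
  smul_mem' := by
    rintro r a ⟨g, rfl⟩
    exact ⟨r • g, by rw [ap_smul]; rfl⟩

theorem mem_imgIdeal {G : X.Modules} (i : G ⟶ OO X) (W : X.Opens) (a : Γ(X, W)) :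
    a ∈ imgIdeal i W ↔ ∃ g : Γ(G, W), toFn (ap i W g) = a := Iff.rfl

theorem map_imgIdeal_basicOpen {G : X.Modules} [G.IsQuasicoherent] (i : G ⟶ OO X) {U : X.Opens}
    (hU : IsAffineOpen U) (f : Γ(X, U)) :
    (imgIdeal i U).map (rX (X.basicOpen_le f)) = imgIdeal i (X.basicOpen f) := by
  apply le_antisymm
  · rw [Ideal.map_le_iff_le_comap]
    rintro a ⟨g, rfl⟩
    refine ⟨rF G (X.basicOpen_le f) g, ?_⟩
    rw [ap_rF]
    rfl
  · rintro a ⟨g', rfl⟩
    obtain ⟨-, -, hsurj, -⟩ := QCohCrit.locOnU_of_isQuasicoherent G hU f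
    obtain ⟨n, g, hn⟩ := hsurj g'
    have hn' : rX (X.basicOpen_le f) f ^ n • g' = rF G (X.basicOpen_le f) g := hn
    have hu : IsUnit (rX (X.basicOpen_le f) f ^ n) :=
      (X.toRingedSpace.isUnit_res_basicOpen f).pow n
    obtain ⟨v, hv⟩ := hu.exists_left_inv
    have h1 : g' = v • rF G (X.basicOpen_le f) g := by
      rw [← hn', ← mul_smul, hv, one_smul]
    have h2 : toFn (ap i (X.basicOpen f) g') =
        v * rX (X.basicOpen_le f) (toFn (ap i U g)) := by
      rw [h1, ap_smul, ap_rF]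
      rfl
    rw [h2]
    apply Ideal.mul_mem_left
    exact Ideal.mem_map_of_mem _ ⟨g, rfl⟩

/-- The ideal sheaf datum of the image of a quasi-coherent module in `O_X`. -/
noncomputable def idealOfSub {G : X.Modules} [G.IsQuasicoherent] (i : G ⟶ OO X) :
    X.IdealSheafData where
  ideal U := imgIdeal i U.1
  map_ideal_basicOpen U f := map_imgIdeal_basicOpen i U.2 f

theorem idealOfSub_ideal {G : X.Modules} [G.IsQuasicoherent] (i : G ⟶ OO X) (U : X.affineOpens) :
    (idealOfSub i).ideal U = imgIdeal i U.1 := rfl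

theorem isFiniteTypeIdeal_idealOfSub {G : X.Modules} [G.IsQuasicoherent]
    [SheafOfModules.IsFiniteType (R := X.ringCatSheaf) G] (i : G ⟶ OO X) :
    BlowUp.IsFiniteTypeIdeal (idealOfSub i) := by
  intro U
  haveI := QCohFT.finite_of_isFiniteType G U.2
  let lin : Γ(G, U.1) →ₗ[Γ(X, U.1)] Γ(X, U.1) :=
    { toFun := fun g => toFn (ap i U.1 g)
      map_add' := fun a b => by rw [map_add]; rfl
      map_smul' := fun r a => by rw [ap_smul]; rfl }
  have h1 : (idealOfSub i).ideal U = Submodule.map lin ⊤ := by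
    ext a
    constructor
    · rintro ⟨g, rfl⟩
      exact ⟨g, trivial, rfl⟩
    · rintro ⟨g, -, rfl⟩
      exact ⟨g, rfl⟩
  rw [h1]
  exact Submodule.FG.map lin Module.Finite.fg_top


end B

section C

variable {X : Scheme.{u}}

/-- Sections of the ideal module over an affine open lie in the ideal. -/
theorem idealModι_mem (I : X.IdealSheafData) {W : X.Opens} (hW : IsAffineOpen W)
    (t : Γ(ClSub.idealMod I, W)) :
    toFn (ap (ClSub.idealModι I) W t) ∈ I.ideal ⟨W, hW⟩ := by
  rw [← I.ker_subschemeι_app ⟨W, hW⟩, RingHom.mem_ker]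
  exact kernel_section_mem (ClSub.toSubscheme I) t

/-- Elements of the ideal over an affine open are sections of the ideal module. -/
theorem exists_idealMod_section (I : X.IdealSheafData) {W : X.Opens} (hW : IsAffineOpen W)
    (a : Γ(X, W)) (ha : a ∈ I.ideal ⟨W, hW⟩) :
    ∃ t : Γ(ClSub.idealMod I, W), toFn (ap (ClSub.idealModι I) W t) = a := by
  rw [← I.ker_subschemeι_app ⟨W, hW⟩, RingHom.mem_ker] at ha
  exact exists_kernel_section (ClSub.toSubscheme I) (ofFn a) ha

theorem idealMod_van {G : X.Modules} [G.IsQuasicoherent] (i : G ⟶ OO X) {U : X.Opens}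
    (hvan : ∀ (W : X.Opens) (g : Γ(G, W)) (z : X), z ∉ U → z ∉ X.basicOpen (toFn (ap i W g)))
    (W : X.Opens) (t : Γ(ClSub.idealMod (idealOfSub i), W)) (z : X) (hz : z ∉ U) :
    z ∉ X.basicOpen (toFn (ap (ClSub.idealModι (idealOfSub i)) W t)) := by
  intro hzb
  have hzW : z ∈ W := X.basicOpen_le _ hzb
  obtain ⟨_, ⟨W', hW' : IsAffineOpen W', rfl⟩, hzW', hle⟩ :=
    X.isBasis_affineOpens.exists_subset_of_mem_open hzW W.isOpen
  have hle' : W' ≤ W := hle
  have h1 := idealModι_mem (idealOfSub i) hW' (rF (ClSub.idealMod (idealOfSub i)) hle' t)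
  obtain ⟨g', hg'⟩ := h1
  have h2 : z ∈ X.basicOpen (toFn (ap i W' g')) := by
    rw [hg', ap_rF, rF_eq, basicOpen_rX]
    exact ⟨hzW', hzb⟩
  exact hvan W' g' z hz h2

theorem exists_one_idealMod {G : X.Modules} [G.IsQuasicoherent] (i : G ⟶ OO X) {U : X.Opens}
    (hU : IsAffineOpen U) (g : Γ(G, U)) (hg : toFn (ap i U g) = 1) :
    ∃ t : Γ(ClSub.idealMod (idealOfSub i), U),
      toFn (ap (ClSub.idealModι (idealOfSub i)) U t) = 1 :=
  exists_idealMod_section (idealOfSub i) hU 1 ⟨g, hg⟩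

end C

section D

variable {X : Scheme.{u}}

/-- The key step in ampleness criteria via twisted ideals: from a module `G ⟶ O_X` vanishing
outside an affine open `U` trivialising `L`, a section `g` with image `1` over `U`, and the fact
that `g ⊗ e^n` is locally a combination of sections of `G ⊗ L^n` over `V0`, produce a section of
`L^n` over `V0` whose locus is an affine neighbourhood of `x` inside `U`. -/
theorem exists_locus_of_span {L : X.Modules} (hL : PicF.IsInvertible L) {V0 U : X.Opens}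
    (hU : IsAffineOpen U) (hUV : U ≤ V0) {e : Γ(L, U)} (he : IsGen L U e) {x : X}
    (G : X.Modules) (i' : G ⟶ OO X)
    (hvan : ∀ (W : X.Opens) (t : Γ(G, W)) (z : X), z ∉ U → z ∉ X.basicOpen (toFn (ap i' W t)))
    (g : Γ(G, U)) (hg : toFn (ap i' U g) = 1) (n' : ℕ)
    {W2 : X.Opens} (h2 : W2 ≤ U) (hxW2 : x ∈ W2)
    (hspan : rF (CohB1.tensorMod G (CohB1.tensorPow L (n' + 1))) h2
        (SecTwist.tmul G (CohB1.tensorPow L (n' + 1)) U g ((Frame.pow L (n' + 1)).φ U e)) ∈
      Submodule.span Γ(X, W2) (Set.range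
        (fun y : Γ(CohB1.tensorMod G (CohB1.tensorPow L (n' + 1)), V0) =>
          rF (CohB1.tensorMod G (CohB1.tensorPow L (n' + 1))) (h2.trans hUV) y))) :
    ∃ (σ : Γ(CohB1.tensorPow L (n' + 1), V0)) (O : X.Opens),
      IsAffineOpen O ∧ x ∈ O ∧ O ≤ V0 ∧ HasLocus (Frame.pow L (n' + 1)) σ O := by
  have h2V : W2 ≤ V0 := h2.trans hUV
  have he2 : IsGen L W2 (rF L h2 e) := he.res h2
  have hE2 := (Frame.pow L (n' + 1)).isGen he2
  have key : ∀ z ∈ Submodule.span Γ(X, W2) (Set.range
      (fun y : Γ(CohB1.tensorMod G (CohB1.tensorPow L (n' + 1)), V0) =>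
        rF (CohB1.tensorMod G (CohB1.tensorPow L (n' + 1))) h2V y)),
      ∀ t' : Γ(G, W2), SecTwist.tmul G (CohB1.tensorPow L (n' + 1)) W2 t'
          ((Frame.pow L (n' + 1)).φ W2 (rF L h2 e)) = z →
        x ∈ X.basicOpen (toFn (ap i' W2 t')) →
        ∃ y : Γ(CohB1.tensorMod G (CohB1.tensorPow L (n' + 1)), V0),
          x ∈ X.basicOpen (toFn (ap i' W2
            (gcoef (Frame.pow L (n' + 1)) G y W2 h2V (rF L h2 e) he2))) := by
    intro z hz
    induction hz using Submodule.span_induction with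
    | mem z hz =>
      obtain ⟨y, rfl⟩ := hz
      intro t' ht' hxt
      refine ⟨y, ?_⟩
      rw [← gcoef_unique (Frame.pow L (n' + 1)) G y W2 h2V (rF L h2 e) he2 t' ht']
      exact hxt
    | zero =>
      intro t' ht' hxt
      have h0 : t' = 0 := by
        apply tmulGen_injective G _ hE2 le_rfl
        rw [SubExt.rF_self, ht', tmul_zero_left]
      rw [h0] at hxt
      have e0 : toFn (ap i' W2 0) = 0 := map_zero _
      rw [e0, Scheme.basicOpen_zero] at hxt
      exact absurd hxt (Set.notMem_empty x)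
    | add a b _ _ ha hb =>
      intro t' ht' hxt
      obtain ⟨ta, hta⟩ := tmulGen_surjective G _ hE2 le_rfl a
      obtain ⟨tb, htb⟩ := tmulGen_surjective G _ hE2 le_rfl b
      rw [SubExt.rF_self] at hta htb
      have h0 : t' = ta + tb := by
        apply tmulGen_injective G _ hE2 le_rfl
        rw [SubExt.rF_self, ht', ← hta, ← htb]
        exact (tmul_add_left G _ W2 ta tb _).symm
      rw [h0] at hxt
      have h1 : x ∈ X.basicOpen (toFn (ap i' W2 ta) + toFn (ap i' W2 tb)) := by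
        rw [← add_eq, ← map_add]
        exact hxt
      rcases X.basicOpen_add_le _ _ h1 with h' | h'
      · exact ha ta hta h'
      · exact hb tb htb h'
    | smul r a _ ha =>
      intro t' ht' hxt
      obtain ⟨ta, hta⟩ := tmulGen_surjective G _ hE2 le_rfl a
      rw [SubExt.rF_self] at hta
      have h0 : t' = r • ta := by
        apply tmulGen_injective G _ hE2 le_rfl
        rw [SubExt.rF_self, ht', ← hta]
        exact (tmul_smul_left G _ W2 r ta _).symm
      rw [h0] at hxt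
      have h1 : x ∈ X.basicOpen (r * toFn (ap i' W2 ta)) := by
        rw [← smul_eq, ← ap_smul]
        exact hxt
      rw [Scheme.basicOpen_mul] at h1
      exact ha ta hta h1.2
  obtain ⟨y, hy⟩ := key _ hspan (rF G h2 g)
    (by rw [rF_tmul, (Frame.pow L (n' + 1)).res])
    (by
      have e2 : toFn (ap i' W2 (rF G h2 g)) = 1 := by
        rw [ap_rF, rF_eq, hg, map_one]
      rw [e2, Scheme.basicOpen_of_isUnit _ isUnit_one]
      exact hxW2)
  obtain ⟨σ, hσ⟩ := exists_mulSec (Frame.pow L (n' + 1)) G y hL i' (Frame.pow L (n' + 1))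
  obtain ⟨O, hOV, hloc⟩ := exists_hasLocus (Frame.pow L (n' + 1)) σ
  have hxO : x ∈ O := by
    have h1 : x ∈ O ⊓ W2 := by
      rw [hloc W2 h2V (rF L h2 e) he2, hσ]
      exact hy
    exact h1.1
  have hOU : O ≤ U := by
    intro z hz
    obtain ⟨W, -, hzW, hWV, ez, hez⟩ := exists_isGen_le hL z V0 (hOV hz)
    have h1 : z ∈ O ⊓ W := ⟨hz, hzW⟩
    rw [hloc W hWV ez hez, hσ] at h1
    by_contra hzU
    exact hvan W _ z hzU h1
  have hOaff : IsAffineOpen O := by
    have h1 : O = X.basicOpen ((Frame.pow L (n' + 1)).coefOf σ U hUV e he) := by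
      rw [← hloc U hUV e he]
      exact (inf_eq_left.mpr hOU).symm
    rw [h1]
    exact hU.basicOpen _
  exact ⟨σ, O, hOaff, hxO, hOV, hloc⟩

/-- If every twist `I ⊗ L^n` (some `n > 0`) of every quasi-coherent ideal of finite type is a
quotient of a finite free module, then `L` is ample. -/
theorem isAmple_of_twisted_ideals_quotient [CompactSpace X] [X.IsSeparated] (L : X.Modules)
    (hL : PicF.IsInvertible L)
    (h : ∀ I : X.IdealSheafData, BlowUp.IsFiniteTypeIdeal I →
      ∃ (n k : ℕ) (p : FlatMod.freeMod X k ⟶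
        CohB1.tensorMod (ClSub.idealMod I) (CohB1.tensorPow L (n + 1))), 0 < k ∧ Epi p) :
    CohB1.IsAmple L := by
  rw [isAmple_iff_isAmpleOn_top hL]
  refine ⟨by simpa using isCompact_univ (X := X), fun x _ => ?_⟩
  obtain ⟨U, hU, hxU, -, e, he⟩ := exists_isGen_le hL x ⊤ trivial
  obtain ⟨t, ht⟩ := GGH8.exists_one_vanSub U
  haveI : (GGH8.vanSub U).toModules.IsQuasicoherent := GGH8.isQuasicoherent_vanSub U
  obtain ⟨G, i, hi, hGq, hGft, g, hg⟩ :=
    SubExt.exists_ft_sub_section (GGH8.vanSub U).toModules hU t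
  haveI : G.IsQuasicoherent := hGq
  haveI : SheafOfModules.IsFiniteType (R := X.ringCatSheaf) G := hGft
  have hvanG : ∀ (W : X.Opens) (g : Γ(G, W)) (z : X), z ∉ U →
      z ∉ X.basicOpen (toFn (ap (i ≫ (GGH8.vanSub U).ι) W g)) :=
    fun W g z hz => GGH8.vanSub_van U W (ap i W g) z hz
  have hg1 : toFn (ap (i ≫ (GGH8.vanSub U).ι) U g) = 1 := by
    have : ap (i ≫ (GGH8.vanSub U).ι) U g = ap (GGH8.vanSub U).ι U (ap i U g) := rfl
    rw [this, hg, ht]
  obtain ⟨n, k, p, -, hp⟩ := h (idealOfSub (i ≫ (GGH8.vanSub U).ι))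
    (isFiniteTypeIdeal_idealOfSub (i ≫ (GGH8.vanSub U).ι))
  haveI := hp
  obtain ⟨t1, ht1⟩ := exists_one_idealMod (i ≫ (GGH8.vanSub U).ι) hU g hg1
  obtain ⟨W2, h2, hxW2, hmem⟩ := locSpan_of_epi_sigma p U
    (SecTwist.tmul (ClSub.idealMod (idealOfSub (i ≫ (GGH8.vanSub U).ι)))
      (CohB1.tensorPow L (n + 1)) U t1 ((Frame.pow L (n + 1)).φ U e)) x hxU
  have hmem' := Submodule.span_mono (R := Γ(X, W2))
    (t := Set.range (fun y : Γ(CohB1.tensorMod (ClSub.idealMod (idealOfSub (i ≫ (GGH8.vanSub U).ι)))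
      (CohB1.tensorPow L (n + 1)), ⊤) =>
        rF (CohB1.tensorMod (ClSub.idealMod (idealOfSub (i ≫ (GGH8.vanSub U).ι)))
          (CohB1.tensorPow L (n + 1))) (h2.trans (le_top : U ≤ ⊤)) y))
    (by rintro _ ⟨j, rfl⟩; exact ⟨_, rfl⟩) hmem
  obtain ⟨σ, O, hO, hxO, hOV, hloc⟩ := exists_locus_of_span hL hU le_top he
    (ClSub.idealMod (idealOfSub (i ≫ (GGH8.vanSub U).ι)))
    (ClSub.idealModι (idealOfSub (i ≫ (GGH8.vanSub U).ι)))
    (idealMod_van (i ≫ (GGH8.vanSub U).ι) hvanG) t1 ht1 n h2 hxW2 hmem'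
  exact ⟨n, σ, O, hO, hxO, hOV, hloc⟩

end D

end TensH8
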