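import Mathlib
import Groth.Prelude
import Groth.Agent.Lib.Tens30_helper8

/-!
# Sums of sections of an invertible module and affine neighbourhoods of finite sets (helper8)
APPEND-ONLY once landed.
-/

set_option autoImplicit false

namespace TensH8

open AlgebraicGeometry CategoryTheory CategoryTheory.Limits TopologicalSpace Opposite TensorProduct
open QcqsLoc MonoidalCategory GenLocH8 FLFH8 QCohExtn PBH8 SerreCrit

universe u

variable {X : Scheme.{u}}

theorem ap_add_hom {A B : X.Modules} (s t : A ⟶ B) (W : X.Opens) (a : Γ(A, W)) :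
    ap (s + t) W a = ap s W a + ap t W a := rfl

theorem ap_zero_hom {A B : X.Modules} (W : X.Opens) (a : Γ(A, W)) :
    ap (0 : A ⟶ B) W a = 0 := rfl

theorem ap_sum_hom {A B : X.Modules} {ι : Type*} (S : Finset ι) (t : ι → (A ⟶ B)) (W : X.Opens)
    (a : Γ(A, W)) : ap (∑ i ∈ S, t i) W a = ∑ i ∈ S, ap (t i) W a := by
  classical
  induction S using Finset.induction_on with
  | empty => simp only [Finset.sum_empty]; rfl
  | insert i S hi ih =>
    rw [Finset.sum_insert hi, Finset.sum_insert hi, ap_add_hom, ih]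

theorem val_sum {M : X.Modules} {ι : Type*} (S : Finset ι) (t : ι → (Coh.structureModule X ⟶ M))
    (W : X.Opens) : SecTwist.val (∑ i ∈ S, t i) W = ∑ i ∈ S, SecTwist.val (t i) W :=
  ap_sum_hom S t W (toM 1)

theorem exists_mem_basicOpen_of_sum {W : X.Opens} {ι : Type*} (S : Finset ι) (c : ι → Γ(X, W))
    (x : X) (hx : x ∈ X.basicOpen (∑ i ∈ S, c i)) : ∃ i ∈ S, x ∈ X.basicOpen (c i) := by
  classical
  induction S using Finset.induction_on with
  | empty =>
    rw [Finset.sum_empty, Scheme.basicOpen_zero] at hx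
    exact absurd hx (Set.notMem_empty x)
  | insert i S hi ih =>
    rw [Finset.sum_insert hi] at hx
    rcases X.basicOpen_add_le _ _ hx with h | h
    · exact ⟨i, Finset.mem_insert_self i S, h⟩
    · obtain ⟨j, hj, hxj⟩ := ih h
      exact ⟨j, Finset.mem_insert_of_mem hj, hxj⟩

theorem mem_basicOpen_sum_of_unique {W : X.Opens} {ι : Type*} [DecidableEq ι] (S : Finset ι)
    (c : ι → Γ(X, W)) (x : X) (i : ι) (hiS : i ∈ S) (hi : x ∈ X.basicOpen (c i))
    (hj : ∀ j ∈ S, j ≠ i → x ∉ X.basicOpen (c j)) : x ∈ X.basicOpen (∑ j ∈ S, c j) := by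
  have hxW : x ∈ W := X.basicOpen_le _ hi
  let px : Ideal Γ(X, W) := Ideal.comap (X.presheaf.germ W x hxW).hom
    (IsLocalRing.maximalIdeal (X.presheaf.stalk x))
  have hpx : ∀ a : Γ(X, W), a ∈ px ↔ x ∉ X.basicOpen a := by
    intro a
    rw [Scheme.mem_basicOpen X a x hxW]
    exact Iff.rfl
  by_contra hcon
  have h1 : ∑ j ∈ S, c j ∈ px := (hpx _).mpr hcon
  have h2 : ∑ j ∈ S.erase i, c j ∈ px := by
    apply Ideal.sum_mem
    intro j hjS
    exact (hpx _).mpr (hj j (Finset.mem_of_mem_erase hjS) (Finset.ne_of_mem_erase hjS))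
  have h3 : c i = ∑ j ∈ S, c j - ∑ j ∈ S.erase i, c j := by
    rw [← Finset.add_sum_erase S c hiS]
    ring
  have h4 : c i ∈ px := by
    rw [h3]
    exact Ideal.sub_mem _ h1 h2
  exact (hpx _).mp h4 hi

/-- The sum lemma: sections `t i` of an invertible module, each with affine locus containing `z i`
and missing the other `z j`, have a sum whose locus is affine, contains all `z i` and lies in the
union of the loci. -/
theorem genLocus_sum {M : X.Modules} (hM : PicF.IsInvertible M) {ι : Type*} [DecidableEq ι]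
    (S : Finset ι) (t : ι → (Coh.structureModule X ⟶ M)) (z : ι → X)
    (h1 : ∀ i ∈ S, z i ∈ CohB1.genLocus M (t i))
    (h2 : ∀ i ∈ S, ∀ j ∈ S, j ≠ i → z i ∉ CohB1.genLocus M (t j))
    (h3 : ∀ i ∈ S, IsAffineOpen (CohB1.genLocus M (t i))) :
    (∀ i ∈ S, z i ∈ CohB1.genLocus M (∑ j ∈ S, t j)) ∧
    (∀ x ∈ CohB1.genLocus M (∑ j ∈ S, t j), ∃ i ∈ S, x ∈ CohB1.genLocus M (t i)) ∧
    IsAffineOpen (CohB1.genLocus M (∑ j ∈ S, t j)) := by
  -- local description
  have hlocal : ∀ x : X, ∃ (W : X.Opens) (c : ι → Γ(X, W)), x ∈ W ∧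
      (∀ i, CohB1.genLocus M (t i) ⊓ W = X.basicOpen (c i)) ∧
      CohB1.genLocus M (∑ j ∈ S, t j) ⊓ W = X.basicOpen (∑ j ∈ S, c j) := by
    intro x
    obtain ⟨W, -, hxW, e, he⟩ := exists_isGen hM x
    choose c hc using fun i => he.exists_coef (SecTwist.val (t i) W)
    refine ⟨W, c, hxW, fun i => genLocus_inf_eq (t i) he (c i) (hc i), ?_⟩
    apply genLocus_inf_eq _ he
    rw [val_sum, Finset.sum_smul]
    exact Finset.sum_congr rfl (fun i _ => hc i)
  refine ⟨?_, ?_, ?_⟩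
  · intro i hi
    obtain ⟨W, c, hxW, hc, hs⟩ := hlocal (z i)
    have h4 : z i ∈ X.basicOpen (∑ j ∈ S, c j) := by
      apply mem_basicOpen_sum_of_unique S c (z i) i hi
      · rw [← hc i]; exact ⟨h1 i hi, hxW⟩
      · intro j hj hji hzj
        rw [← hc j] at hzj
        exact h2 i hi j hj hji hzj.1
    rw [← hs] at h4
    exact h4.1
  · intro x hx
    obtain ⟨W, c, hxW, hc, hs⟩ := hlocal x
    have h4 : x ∈ X.basicOpen (∑ j ∈ S, c j) := by
      rw [← hs]; exact ⟨hx, hxW⟩
    obtain ⟨i, hi, hxi⟩ := exists_mem_basicOpen_of_sum S c x h4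
    rw [← hc i] at hxi
    exact ⟨i, hi, hxi.1⟩
  · -- affineness
    obtain ⟨O, hOdef⟩ : ∃ O : X.Opens, O = CohB1.genLocus M (∑ j ∈ S, t j) := ⟨_, rfl⟩
    rw [← hOdef]
    have hg : IsGen M O (SecTwist.val (∑ j ∈ S, t j) O) :=
      isGen_val_of_le_genLocus _ (le_of_eq hOdef)
    choose h hh using fun i => hg.exists_coef (SecTwist.val (t i) O)
    have hsum : ∑ i ∈ S, h i = 1 := by
      apply IsGen.coef_ext hg
      rw [one_smul, Finset.sum_smul]
      exact (Finset.sum_congr rfl (fun i _ => (hh i).symm)).trans (val_sum S t O).symm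
    have hbo : ∀ i, X.basicOpen (h i) = CohB1.genLocus M (t i) ⊓ O :=
      fun i => (genLocus_inf_eq (t i) hg (h i) (hh i)).symm
    apply isAffineOpen_of_isAffineOpen_basicOpen O ((fun i => h i) '' (S : Set ι))
    · rw [Ideal.eq_top_iff_one, ← hsum]
      apply Ideal.sum_mem
      intro i hi
      exact Ideal.subset_span ⟨i, hi, rfl⟩
    · rintro _ ⟨i, hi, rfl⟩
      rw [hbo i, hOdef, inf_comm]
      exact GGH8.isAffineOpen_inf_genLocus hM _ (h3 i hi)

/-- Reduction of a finite set of points to its most special points. -/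
theorem exists_special_subset {T : Type*} [TopologicalSpace T] [DecidableEq T] (Z : Finset T) :
    ∃ Z' : Finset T, Z' ⊆ Z ∧ (∀ z ∈ Z, ∃ z' ∈ Z', z ⤳ z') ∧
      ∀ z ∈ Z', ∀ z' ∈ Z', z' ⤳ z → z' = z := by
  classical
  induction Z using Finset.induction_on with
  | empty => exact ⟨∅, le_rfl, by simp, by simp⟩
  | insert a Z0 ha ih =>
    obtain ⟨Z0', hsub, hcov, hanti⟩ := ih
    by_cases hcase : ∃ z' ∈ Z0', a ⤳ z'
    · refine ⟨Z0', hsub.trans (Finset.subset_insert a Z0), ?_, hanti⟩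
      intro z hz
      rcases Finset.mem_insert.mp hz with rfl | hz0
      · exact hcase
      · exact hcov z hz0
    · refine ⟨insert a (Z0'.filter (fun z' => ¬ z' ⤳ a)), ?_, ?_, ?_⟩
      · intro z hz
        rcases Finset.mem_insert.mp hz with rfl | hz0
        · exact Finset.mem_insert_self _ _
        · exact Finset.mem_insert_of_mem (hsub (Finset.mem_filter.mp hz0).1)
      · intro z hz
        rcases Finset.mem_insert.mp hz with rfl | hz0
        · exact ⟨z, Finset.mem_insert_self _ _, specializes_rfl⟩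
        · obtain ⟨z', hz', hzz'⟩ := hcov z hz0
          by_cases h : z' ⤳ a
          · exact ⟨a, Finset.mem_insert_self _ _, hzz'.trans h⟩
          · exact ⟨z', Finset.mem_insert_of_mem (Finset.mem_filter.mpr ⟨hz', h⟩), hzz'⟩
      · intro z hz z' hz' hsp
        rcases Finset.mem_insert.mp hz with rfl | hz0
        · rcases Finset.mem_insert.mp hz' with rfl | hz0'
          · rfl
          · exact absurd hsp (Finset.mem_filter.mp hz0').2
        · rcases Finset.mem_insert.mp hz' with rfl | hz0'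
          · exact absurd ⟨z, (Finset.mem_filter.mp hz0).1, hsp⟩ hcase
          · exact hanti z (Finset.mem_filter.mp hz0).1 z' (Finset.mem_filter.mp hz0').1 hsp

/-- For an ample invertible module, every finite set of points contained in an open `U` has an
affine neighbourhood of the form `X_s` inside `U`. -/
theorem exists_affine_genLocus_of_finite [CompactSpace X] {L : X.Modules} (hL : CohB1.IsAmple L)
    (Z : Set X) (hZ : Z.Finite) (U : X.Opens) (hZU : Z ⊆ U) :
    ∃ (n : ℕ) (s : Coh.structureModule X ⟶ CohB1.tensorPow L (n + 1)),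
      Z ⊆ CohB1.genLocus _ s ∧ (CohB1.genLocus _ s : Set X) ⊆ U ∧
        IsAffineOpen (CohB1.genLocus _ s) := by
  classical
  obtain ⟨hinv, -, -⟩ := id hL
  have hB := affine_genLocus_isBasis hinv ((isAmple_iff_isBasis hinv).mp hL)
  rw [Opens.isBasis_iff_nbhd] at hB
  obtain ⟨Z', hsub, hcov, hanti⟩ := exists_special_subset hZ.toFinset
  -- the opens `U_z`
  have hUz : ∀ z : X, ∃ Uz : X.Opens, Uz ≤ U ∧ (z ∈ Z' → z ∈ Uz) ∧
      ∀ z' ∈ Z', z' ≠ z → z' ∉ Uz := by
    intro z
    have hcl : IsClosed (⋃ z' ∈ Z'.erase z, closure ({z'} : Set X)) :=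
      Set.Finite.isClosed_biUnion (Z'.erase z).finite_toSet (fun _ _ => isClosed_closure)
    refine ⟨U ⊓ ⟨(⋃ z' ∈ Z'.erase z, closure ({z'} : Set X))ᶜ, hcl.isOpen_compl⟩, inf_le_left,
      ?_, ?_⟩
    · intro hz
      refine ⟨hZU (hZ.mem_toFinset.mp (hsub hz)), ?_⟩
      show z ∉ ⋃ z' ∈ Z'.erase z, closure ({z'} : Set X)
      intro hmem
      obtain ⟨z', hz', hzcl⟩ := Set.mem_iUnion₂.mp hmem
      have hz'' : z' ∈ Z'.erase z := hz'
      have hsp : z' ⤳ z := specializes_iff_mem_closure.mpr hzcl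
      exact (Finset.ne_of_mem_erase hz'') (hanti z hz z' (Finset.mem_of_mem_erase hz'') hsp)
    · intro z' hz' hne hmem
      apply hmem.2
      exact Set.mem_iUnion₂.mpr ⟨z', Finset.mem_coe.mpr (Finset.mem_erase.mpr ⟨hne, hz'⟩),
        subset_closure rfl⟩
  choose Uz hUzU hzUz hUzne using hUz
  -- sections of varying degrees
  have hsec : ∀ z : X, ∃ (n : ℕ) (t : Coh.structureModule X ⟶ CohB1.tensorPow L (n + 1)),
      (z ∈ Z' → z ∈ CohB1.genLocus _ t ∧ CohB1.genLocus _ t ≤ Uz z ∧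
        IsAffineOpen (CohB1.genLocus _ t)) := by
    intro z
    by_cases hz : z ∈ Z'
    · obtain ⟨_, ⟨haff, n, t, rfl⟩, hzt, hle⟩ := hB (hzUz z hz)
      exact ⟨n, t, fun _ => ⟨hzt, hle, haff⟩⟩
    · exact ⟨0, 0, fun h => absurd h hz⟩
  choose n1 t1 ht1 using hsec
  -- common degree
  obtain ⟨m, hmdef⟩ : ∃ m : ℕ, m = ∏ z ∈ Z', (n1 z + 1) := ⟨_, rfl⟩
  have hm : 0 < m := by
    rw [hmdef]
    exact Finset.prod_pos (fun i _ => Nat.succ_pos _)
  have hdiv : ∀ z ∈ Z', ∃ r : ℕ, 0 < r ∧ m = (n1 z + 1) * r := by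
    intro z hz
    obtain ⟨r, hr⟩ := Finset.dvd_prod_of_mem (fun z => n1 z + 1) hz
    rw [← hmdef] at hr
    refine ⟨r, ?_, hr⟩
    rcases Nat.eq_zero_or_pos r with h0 | h0
    · rw [h0, mul_zero] at hr
      omega
    · exact h0
  have htr : ∀ z : X, ∃ t' : Coh.structureModule X ⟶ CohB1.tensorPow L m,
      z ∈ Z' → CohB1.genLocus _ t' = CohB1.genLocus _ (t1 z) := by
    intro z
    by_cases hz : z ∈ Z'
    · obtain ⟨r, hr, hmr⟩ := hdiv z hz
      obtain ⟨t', ht'⟩ := Frame.transfer_pow hinv (Frame.pow L (n1 z + 1)) (Frame.pow L m) r hr hmr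
        (t1 z)
      exact ⟨t', fun _ => ht'⟩
    · exact ⟨0, fun h => absurd h hz⟩
  choose t' ht' using htr
  obtain ⟨n, rfl⟩ : ∃ n, m = n + 1 := ⟨m - 1, by omega⟩
  have hM := isInvertible_tensorPow hinv (n + 1)
  obtain ⟨hmem, hunion, haff⟩ := genLocus_sum hM Z' t' id
    (fun z hz => by rw [ht' z hz]; exact (ht1 z hz).1)
    (fun z hz z' hz' hne hmem => by
      rw [ht' z' hz'] at hmem
      exact hUzne z' z hz (Ne.symm hne) ((ht1 z' hz').2.1 hmem))
    (fun z hz => by rw [ht' z hz]; exact (ht1 z hz).2.2)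
  refine ⟨n, ∑ z ∈ Z', t' z, ?_, ?_, haff⟩
  · intro z hz
    obtain ⟨z', hz', hsp⟩ := hcov z (hZ.mem_toFinset.mpr hz)
    exact hsp.mem_open (CohB1.genLocus _ _).isOpen (hmem z' hz')
  · intro x hx
    obtain ⟨z, hz, hxz⟩ := hunion x hx
    rw [ht' z hz] at hxz
    exact hUzU z ((ht1 z hz).2.1 hxz)

end TensH8
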