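import Mathlib
import Groth.Prelude
import Groth.Agent.Lib.Tens32_helper8
import Groth.Agent.Lib.PB8_helper8
set_option autoImplicit false
open AlgebraicGeometry CategoryTheory CategoryTheory.Limits TopologicalSpace Opposite
open QcqsLoc QCohExtn PBH8 TensH8
universe u
namespace AModHomH8

section
variable {X S : Scheme.{u}} (f : X ⟶ S) [IsAffineHom f]

/-- Basic opens of the affine opens `f⁻¹V`, `V` affine in `S`. -/
def basisSet : Set X.Opens :=
  {O | ∃ (V : S.Opens) (_ : IsAffineOpen V) (b : Γ(X, f ⁻¹ᵁ V)), O = X.basicOpen b}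

theorem isBasis_basisSet : Opens.IsBasis (basisSet f) := by
  rw [Opens.isBasis_iff_nbhd]
  intro W x hxW
  obtain ⟨_, ⟨V, hV : IsAffineOpen V, rfl⟩, hxV, -⟩ :=
    (S.isBasis_affineOpens).exists_subset_of_mem_open (Set.mem_univ (f x)) isOpen_univ
  have hxV' : x ∈ f ⁻¹ᵁ V := hxV
  obtain ⟨b, hb, hxb⟩ := (hV.preimage f).exists_basicOpen_le (V := W ⊓ f ⁻¹ᵁ V)
    ⟨x, ⟨hxW, hxV'⟩⟩ hxV'
  exact ⟨_, ⟨V, hV, b, rfl⟩, hxb, hb.trans inf_le_left⟩

variable (F : X.Modules) [F.IsQuasicoherent]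

/-- The counit `f^* f_* F ⟶ F` is an epimorphism for `f` affine and `F` quasi-coherent. -/
theorem epi_counit :
    Epi ((Scheme.Modules.pullbackPushforwardAdjunction f).counit.app F) := by
  refine GlobGen.epi_of_surjective_on_basis _ (basisSet f) (isBasis_basisSet f) ?_
  rintro _ ⟨V, hV, b, rfl⟩ m'
  have hW : IsAffineOpen (f ⁻¹ᵁ V) := hV.preimage f
  obtain ⟨n, t, ht⟩ := (QCohCrit.locOnU_of_isQuasicoherent F hW b).surj m'
  have hu : IsUnit (rX (X.basicOpen_le b) b) := X.toRingedSpace.isUnit_res_basicOpen b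
  obtain ⟨c, hc⟩ := (hu.pow n).exists_left_inv
  refine ⟨c • cUV f ((Scheme.Modules.pushforward f).obj F) (X.basicOpen_le b)
    (show Γ((Scheme.Modules.pushforward f).obj F, V) from t), ?_⟩
  have h1 := counit_cUV f F (X.basicOpen_le b) t
  have h2 : ap ((Scheme.Modules.pullbackPushforwardAdjunction f).counit.app F) (X.basicOpen b)
      (c • cUV f ((Scheme.Modules.pushforward f).obj F) (X.basicOpen_le b)
        (show Γ((Scheme.Modules.pushforward f).obj F, V) from t)) = m' := by
    rw [ap_smul, h1]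
    have ht' : rX (X.basicOpen_le b) b ^ n • m' = rF F (X.basicOpen_le b) t := ht
    rw [← ht', ← mul_smul, hc, one_smul]
  exact h2


variable (G : X.Modules) [G.IsQuasicoherent]
  (φ₀ : (Scheme.Modules.pushforward f).obj F ⟶ (Scheme.Modules.pushforward f).obj G)

/-- the morphism `f^* f_* F ⟶ G` adjoint to `φ₀`. -/
noncomputable def adj : (Scheme.Modules.pullback f).obj ((Scheme.Modules.pushforward f).obj F) ⟶ G :=
  (Scheme.Modules.pullback f).map φ₀ ≫ (Scheme.Modules.pullbackPushforwardAdjunction f).counit.app G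

theorem adj_cUV {W : X.Opens} {V : S.Opens} (h : W ≤ f ⁻¹ᵁ V) (m : Γ(F, f ⁻¹ᵁ V)) :
    ap (adj f F G φ₀) W (cUV f ((Scheme.Modules.pushforward f).obj F) h
      (show Γ((Scheme.Modules.pushforward f).obj F, V) from m)) =
      rF G h (φ₀.app V (show Γ((Scheme.Modules.pushforward f).obj F, V) from m)) := by
  unfold adj
  have h1 := cUV_naturality f φ₀ h (show Γ((Scheme.Modules.pushforward f).obj F, V) from m)
  have h2 := counit_cUV f G h (φ₀.app V (show Γ((Scheme.Modules.pushforward f).obj F, V) from m))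
  refine Eq.trans ?_ h2
  refine (congrArg (ap ((Scheme.Modules.pullbackPushforwardAdjunction f).counit.app G) W) h1.symm).symm.trans ?_
  rfl

variable (hlin : ∀ (V : S.Opens) (b : Γ(X, f ⁻¹ᵁ V)) (m : Γ(F, f ⁻¹ᵁ V)),
    φ₀.app V (show Γ((Scheme.Modules.pushforward f).obj F, V) from b • m) =
      (show Γ(G, f ⁻¹ᵁ V) from b • (show Γ(G, f ⁻¹ᵁ V) from
        φ₀.app V (show Γ((Scheme.Modules.pushforward f).obj F, V) from m))))

include hlin in
/-- On `f⁻¹V`, `V` affine, the adjoint morphism is `φ₀ ∘ counit`. -/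
theorem adj_eq {V : S.Opens} (hV : IsAffineOpen V)
    (w : Γ((Scheme.Modules.pullback f).obj ((Scheme.Modules.pushforward f).obj F), f ⁻¹ᵁ V)) :
    ap (adj f F G φ₀) (f ⁻¹ᵁ V) w =
      φ₀.app V (show Γ((Scheme.Modules.pushforward f).obj F, V) from
        ap ((Scheme.Modules.pullbackPushforwardAdjunction f).counit.app F) (f ⁻¹ᵁ V) w) := by
  haveI : ((Scheme.Modules.pushforward f).obj F).IsQuasicoherent :=
    QCohCrit.isQuasicoherent_pushforward f F
  have hspan := span_cUV f ((Scheme.Modules.pushforward f).obj F) (hV.preimage f) hV (le_refl _)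
  have hw : w ∈ Submodule.span Γ(X, f ⁻¹ᵁ V)
      (Set.range (cUV f ((Scheme.Modules.pushforward f).obj F) (le_refl (f ⁻¹ᵁ V)))) := by
    rw [hspan]; trivial
  induction hw using Submodule.span_induction with
  | mem x hx =>
    obtain ⟨m, rfl⟩ := hx
    have h1 := adj_cUV f F G φ₀ (le_refl (f ⁻¹ᵁ V)) m
    have h2 := counit_cUV f F (le_refl (f ⁻¹ᵁ V)) m
    rw [h1, h2, SubExt.rF_self, SubExt.rF_self]
  | zero =>
    rw [map_zero, map_zero]
    exact (map_zero (φ₀.app V).hom).symm
  | add x y _ _ hx hy =>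
    rw [map_add, map_add, hx, hy]
    exact (map_add (φ₀.app V).hom _ _).symm
  | smul b x _ hx =>
    rw [ap_smul, ap_smul, hx]
    exact (hlin V b _).symm


set_option quotPrecheck false in
local notation "PP" => (Scheme.Modules.pullback f).obj ((Scheme.Modules.pushforward f).obj F)
set_option quotPrecheck false in
local notation "εε" => (Scheme.Modules.pullbackPushforwardAdjunction f).counit.app F

include hlin in
/-- The adjoint morphism kills the sections killed by the counit, over the basic opens. -/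
theorem adj_eq_zero_of_counit_eq_zero {V : S.Opens} (hV : IsAffineOpen V) (b : Γ(X, f ⁻¹ᵁ V))
    (p : Γ(PP, X.basicOpen b))
    (hp : ap εε (X.basicOpen b) p = 0) :
    ap (adj f F G φ₀) (X.basicOpen b) p = 0 := by
  haveI : ((Scheme.Modules.pushforward f).obj F).IsQuasicoherent :=
    QCohCrit.isQuasicoherent_pushforward f F
  haveI : (PP).IsQuasicoherent := PBH8.isQuasicoherent_pullback f _
  have hW : IsAffineOpen (f ⁻¹ᵁ V) := hV.preimage f
  have hle : X.basicOpen b ≤ f ⁻¹ᵁ V := X.basicOpen_le b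
  obtain ⟨n, w, hw⟩ := (QCohCrit.locOnU_of_isQuasicoherent PP hW b).surj p
  have hw' : rX hle b ^ n • p = rF PP hle w := hw
  -- `ε w` restricts to zero on `D(b)`
  have h1 : rF F hle (ap εε (f ⁻¹ᵁ V) w) = 0 := by
    refine (ap_rF εε hle w).symm.trans ?_
    refine (congrArg (ap εε (X.basicOpen b)) hw'.symm).trans ?_
    rw [ap_smul, hp, smul_zero]
  obtain ⟨m, hm⟩ := (QCohCrit.locOnU_of_isQuasicoherent F hW b).ker (ap εε (f ⁻¹ᵁ V) w) h1
  -- `w' = b^m w` is killed by `ε`
  have h2 : ap εε (f ⁻¹ᵁ V) (b ^ m • w) = 0 := by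
    rw [ap_smul]; exact hm
  have h3 : ap (adj f F G φ₀) (f ⁻¹ᵁ V) (b ^ m • w) = 0 := by
    rw [adj_eq f F G φ₀ hlin hV, h2]
    exact map_zero (φ₀.app V).hom
  -- restrict to `D(b)`
  have h5 : rF PP hle (b ^ m • w) = rX hle b ^ (m + n) • p := by
    rw [rF_pow_smul, ← hw', ← mul_smul, ← pow_add]
  have h4 : rX hle b ^ (m + n) • ap (adj f F G φ₀) (X.basicOpen b) p = 0 := by
    rw [← ap_smul, ← h5, ap_rF, h3, map_zero]
  have hu : IsUnit (rX hle b) := X.toRingedSpace.isUnit_res_basicOpen b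
  obtain ⟨c, hc⟩ := (hu.pow (m + n)).exists_left_inv
  calc ap (adj f F G φ₀) (X.basicOpen b) p
      = (c * rX hle b ^ (m + n)) • ap (adj f F G φ₀) (X.basicOpen b) p := by rw [hc, one_smul]
    _ = 0 := by rw [mul_smul, h4, smul_zero]


omit [IsAffineHom f] [F.IsQuasicoherent] [G.IsQuasicoherent] in
theorem hom_ext_basis {M N : X.Modules} (a b : M ⟶ N) (B : Set X.Opens) (hB : Opens.IsBasis B)
    (h : ∀ O ∈ B, ∀ y : Γ(M, O), ap a O y = ap b O y) : a = b := by
  apply Scheme.Modules.hom_ext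
  intro U
  ext y
  apply eq_of_cover N
  intro x hx
  obtain ⟨O, hOB, hxO, hOU⟩ := Opens.isBasis_iff_nbhd.mp hB hx
  refine ⟨O, hOU, hxO, ?_⟩
  have h1 := ap_rF a hOU y
  have h2 := ap_rF b hOU y
  exact h1.symm.trans ((h O hOB _).trans h2)

include hlin in
theorem kernel_adj : kernel.ι εε ≫ adj f F G φ₀ = 0 := by
  apply hom_ext_basis _ _ (basisSet f) (isBasis_basisSet f)
  rintro _ ⟨V, hV, b, rfl⟩ k
  show ap (adj f F G φ₀) _ (ap (kernel.ι εε) _ k) = 0
  apply adj_eq_zero_of_counit_eq_zero f F G φ₀ hlin hV b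
  have := congrArg (fun α => ap α (X.basicOpen b) k) (kernel.condition εε)
  exact this

include hlin in
/-- A morphism `f_* F ⟶ f_* G` linear over `f_* O_X` comes from a morphism `F ⟶ G`. -/
theorem exists_desc : ∃ u : F ⟶ G, εε ≫ u = adj f F G φ₀ := by
  haveI := epi_counit f F
  refine ⟨(Abelian.epiIsCokernelOfKernel _ (kernelIsKernel εε)).desc
    (CokernelCofork.ofπ (adj f F G φ₀) (kernel_adj f F G φ₀ hlin)), ?_⟩
  exact (Abelian.epiIsCokernelOfKernel _ (kernelIsKernel εε)).fac
    (CokernelCofork.ofπ (adj f F G φ₀) (kernel_adj f F G φ₀ hlin)) WalkingParallelPair.one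

include hlin in
theorem exists_pushforward_map_eq : ∃ u : F ⟶ G, (Scheme.Modules.pushforward f).map u = φ₀ := by
  obtain ⟨u, hu⟩ := exists_desc f F G φ₀ hlin
  refine ⟨u, ?_⟩
  apply ((Scheme.Modules.pullbackPushforwardAdjunction f).homEquiv _ _).symm.injective
  rw [Adjunction.homEquiv_counit, Adjunction.homEquiv_counit]
  have h1 := (Scheme.Modules.pullbackPushforwardAdjunction f).counit.naturality u
  exact h1.trans hu

omit [G.IsQuasicoherent] in
theorem pushforward_map_injective (u₁ u₂ : F ⟶ G)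
    (h : (Scheme.Modules.pushforward f).map u₁ = (Scheme.Modules.pushforward f).map u₂) :
    u₁ = u₂ := by
  haveI := epi_counit f F
  have h1 := (Scheme.Modules.pullbackPushforwardAdjunction f).counit.naturality u₁
  have h2 := (Scheme.Modules.pullbackPushforwardAdjunction f).counit.naturality u₂
  rw [← cancel_epi εε]
  refine h1.symm.trans (Eq.trans ?_ h2)
  show (Scheme.Modules.pullback f).map ((Scheme.Modules.pushforward f).map u₁) ≫ _ =
    (Scheme.Modules.pullback f).map ((Scheme.Modules.pushforward f).map u₂) ≫ _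
  rw [h]

end
end AModHomH8
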