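import Groth.Statements.S18956
import Groth.Statements.S18957
import Groth.Statements.S18958

/-! # Equivariant maps out of a monoid with a schematically dense group of units (lead) -/

set_option backward.isDefEq.respectTransparency false
set_option backward.isDefEq.respectTransparency.types false
set_option linter.unusedSimpArgs false
set_option linter.unusedVariables false
set_option linter.unusedSectionVars false
set_option linter.style.longLine false
set_option maxHeartbeats 800000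

universe u

open CategoryTheory CategoryTheory.Limits MonoidalCategory CartesianMonoidalCategory MonObj GrpObj
  AlgebraicGeometry Opposite

namespace Groth.Agent.Lib.MagnetDense

/-- A closed subscheme through which a scheme-theoretically dominant morphism factors is everything:
factorisation of `φ` through the closed immersion `j`. -/
theorem exists_factor {W' W X Z : Scheme.{u}} (j : Z ⟶ X) [IsClosedImmersion j] (m : W' ⟶ W)
    [IsSchemeTheoreticallyDominant m] (φ : W ⟶ X) (ψ' : W' ⟶ Z) (h : ψ' ≫ j = m ≫ φ) :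
    ∃ ψ : W ⟶ Z, ψ ≫ j = φ := by
  haveI : IsClosedImmersion (pullback.fst φ j) := inferInstance
  have hl : pullback.lift m ψ' h.symm ≫ pullback.fst φ j = m := pullback.lift_fst _ _ _
  have hk : (pullback.fst φ j).ker = ⊥ := by
    have h1 := Scheme.Hom.le_ker_comp (pullback.lift m ψ' h.symm) (pullback.fst φ j)
    rw [hl, IsSchemeTheoreticallyDominant.ker_eq_bot (f := m)] at h1
    exact le_bot_iff.mp h1
  haveI : IsIso (pullback.fst φ j) := IsClosedImmersion.isIso_iff_ker_eq_bot.mpr hk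
  exact ⟨inv (pullback.fst φ j) ≫ pullback.snd φ j, by
    rw [Category.assoc, ← pullback.condition, IsIso.inv_hom_id_assoc]⟩

variable {S : Scheme.{u}}

theorem exists_factor_over {W' W X Z : Over S} (j : Z ⟶ X) [IsClosedImmersion j.left] (m : W' ⟶ W)
    [IsSchemeTheoreticallyDominant m.left] (φ : W ⟶ X) (ψ' : W' ⟶ Z) (h : ψ' ≫ j = m ≫ φ) :
    ∃ ψ : W ⟶ Z, ψ ≫ j = φ := by
  obtain ⟨ψ₀, hψ₀⟩ := exists_factor j.left m.left φ.left ψ'.left
    (by rw [← Over.comp_left, h, Over.comp_left])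
  refine ⟨Over.homMk ψ₀ ?_, ?_⟩
  · rw [← Over.w j, ← Category.assoc, hψ₀, Over.w]
  · ext
    simpa using hψ₀

theorem mono_of_closed {X Z : Over S} (j : Z ⟶ X) [IsClosedImmersion j.left] : Mono j := by
  haveI : Mono j.left := inferInstance
  exact Over.mono_of_mono_left j

theorem mono_of_open {X Z : Over S} (j : Z ⟶ X) [IsOpenImmersion j.left] : Mono j := by
  haveI : Mono j.left := inferInstance
  exact Over.mono_of_mono_left j

theorem exists_factor_open {W X U : Over S} (j : U ⟶ X) [IsOpenImmersion j.left] (φ : W ⟶ X)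
    (h : Set.range φ.left ⊆ Set.range j.left) : ∃ ψ : W ⟶ U, ψ ≫ j = φ := by
  refine ⟨Over.homMk (IsOpenImmersion.lift j.left φ.left h) ?_, ?_⟩
  · rw [← Over.w j, ← Category.assoc, IsOpenImmersion.lift_fac, Over.w]
  · ext
    simp [IsOpenImmersion.lift_fac]

theorem isPullback_whiskerLeft {U X : Over S} (j : U ⟶ X) (G : Over S) :
    IsPullback (pullback.snd G.hom U.hom) (G ◁ j).left j.left (pullback.snd G.hom X.hom) := by
  have s : IsPullback (pullback.snd G.hom U.hom) ((G ◁ j).left ≫ pullback.fst G.hom X.hom)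
      (j.left ≫ X.hom) G.hom := by
    rw [Over.whiskerLeft_left_fst, Over.w]
    exact (IsPullback.of_hasPullback G.hom U.hom).flip
  exact IsPullback.of_bot s (Over.whiskerLeft_left_snd j).symm
    (IsPullback.of_hasPullback G.hom X.hom).flip

/-- The preimage of a stable open under an equivariant map is stable. -/
theorem stab {G X U : Over S} [GrpObj G]
    (aX : AlgGrp.Action G X) (aU : AlgGrp.Action G U) (j : U ⟶ X) [IsOpenImmersion j.left]
    (hj : Magnet.MonAct.IsEquivariant (Magnet.MonAct.ofAction aU) (Magnet.MonAct.ofAction aX) j)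
    {B : Over S} (ρB : Magnet.MonAct G B) (φ : B ⟶ X)
    (hφ : Magnet.MonAct.IsEquivariant ρB (Magnet.MonAct.ofAction aX) φ) :
    (snd G B).left ⁻¹ᵁ (φ.left ⁻¹ᵁ j.left.opensRange) ≤
      ρB.act.left ⁻¹ᵁ (φ.left ⁻¹ᵁ j.left.opensRange) := by
  intro p hp
  have hp' : φ.left ((snd G B).left p) ∈ Set.range j.left := hp
  show φ.left (ρB.act.left p) ∈ Set.range j.left
  have e1 : (snd G X).left ((G ◁ φ).left p) = φ.left ((snd G B).left p) := by
    rw [← Scheme.Hom.comp_apply, ← Scheme.Hom.comp_apply, ← Over.comp_left, ← Over.comp_left,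
      whiskerLeft_snd]
  obtain ⟨u, hu⟩ := hp'
  obtain ⟨q', -, hq'⟩ := Scheme.exists_preimage_of_isPullback (isPullback_whiskerLeft j G) u
    ((G ◁ φ).left p) (hu.trans e1.symm)
  have hq'' : (G ◁ j).left q' = (G ◁ φ).left p := hq'
  have hφ' : ρB.act ≫ φ = (G ◁ φ) ≫ aX.act := hφ
  have hj' : aU.act ≫ j = (G ◁ j) ≫ aX.act := hj
  refine ⟨aU.act.left q', ?_⟩
  calc j.left (aU.act.left q') = (aU.act ≫ j).left q' := by
        rw [Over.comp_left, Scheme.Hom.comp_apply]
    _ = ((G ◁ j) ≫ aX.act).left q' := by rw [hj']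
    _ = aX.act.left ((G ◁ j).left q') := by rw [Over.comp_left, Scheme.Hom.comp_apply]
    _ = aX.act.left ((G ◁ φ).left p) := by rw [hq'']
    _ = ((G ◁ φ) ≫ aX.act).left p := by rw [Over.comp_left, Scheme.Hom.comp_apply]
    _ = (ρB.act ≫ φ).left p := by rw [hφ']
    _ = φ.left (ρB.act.left p) := by rw [Over.comp_left, Scheme.Hom.comp_apply]

theorem isPullback_of_factor {B G X Z : Over S} [GrpObj G]
    (ρ : Magnet.MonAct G B) (e : 𝟙_ (Over S) ⟶ B)
    (aX : AlgGrp.Action G X) (aZ : AlgGrp.Action G Z) (j : Z ⟶ X) [Mono j]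
    (hj : Magnet.MonAct.IsEquivariant (Magnet.MonAct.ofAction aZ) (Magnet.MonAct.ofAction aX) j)
    (hfac : ∀ (T : Over S) (φ : (Magnet.MonAct.eqvHom ρ (Magnet.MonAct.ofAction aX)).obj (op T))
      (z : T ⟶ Z), lift (toUnit T ≫ e) (𝟙 T) ≫ φ.1 = z ≫ j → ∃ ψ : B ⊗ T ⟶ Z, ψ ≫ j = φ.1) :
    IsPullback
      (Magnet.MonAct.eqvHom.postcomp ρ j hj)
      (Magnet.MonAct.eqvHom.evalAt ρ (Magnet.MonAct.ofAction aZ) e)
      (Magnet.MonAct.eqvHom.evalAt ρ (Magnet.MonAct.ofAction aX) e)
      (yoneda.map j) := by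
  apply IsPullback.of_forall_isPullback_app
  intro T
  rw [Limits.Types.isPullback_iff]
  refine ⟨?_, ?_, ?_⟩
  · ext φ
    simp
    show lift (toUnit (unop T) ≫ e) (𝟙 (unop T)) ≫ (φ.1 ≫ j) =
      (lift (toUnit (unop T) ≫ e) (𝟙 (unop T)) ≫ φ.1) ≫ j
    rw [Category.assoc]
  · rintro φ φ' ⟨h1, -⟩
    apply Subtype.ext
    have h2 : φ.1 ≫ j = φ'.1 ≫ j := congrArg Subtype.val h1
    exact (cancel_mono j).mp h2
  · intro φX z h
    have h' : lift (toUnit (unop T) ≫ e) (𝟙 (unop T)) ≫ φX.1 = z ≫ j := h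
    obtain ⟨ψ, hψ⟩ := hfac (unop T) φX z h'
    have hψeq : Magnet.MonAct.IsEquivariant
        (ρ.prod (Magnet.MonAct.trivial G (unop T))) (Magnet.MonAct.ofAction aZ) ψ := by
      have e1 : Magnet.MonAct.IsEquivariant
          (ρ.prod (Magnet.MonAct.trivial G (unop T))) (Magnet.MonAct.ofAction aX) φX.1 := φX.2
      unfold Magnet.MonAct.IsEquivariant at e1 hj ⊢
      rw [← cancel_mono j]
      simp only [Category.assoc]
      rw [hψ, e1, hj, ← MonoidalCategory.whiskerLeft_comp_assoc, hψ]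
    refine ⟨⟨ψ, hψeq⟩, ?_, ?_⟩
    · apply Subtype.ext
      exact hψ
    · show lift (toUnit (unop T) ≫ e) (𝟙 (unop T)) ≫ ψ = z
      rw [← cancel_mono j, Category.assoc, hψ, h']

section Field

variable (k : Type u) [Field k]

theorem flat_hom (T : Over (Spec (CommRingCat.of k))) : Flat T.hom := by
  haveI : Subsingleton ↥(Spec (CommRingCat.of k)) :=
    (inferInstance : Subsingleton (PrimeSpectrum k))
  infer_instance

theorem isPullback_whiskerRight {G M : Over S} (i : G ⟶ M) (T : Over S) :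
    IsPullback (pullback.fst G.hom T.hom) (i ▷ T).left i.left (pullback.fst M.hom T.hom) := by
  have s : IsPullback (pullback.fst G.hom T.hom) ((i ▷ T).left ≫ pullback.snd M.hom T.hom)
      (i.left ≫ M.hom) T.hom := by
    rw [Over.whiskerRight_left_snd, Over.w]
    exact IsPullback.of_hasPullback _ _
  exact IsPullback.of_bot s (Over.whiskerRight_left_fst i).symm
    (IsPullback.of_hasPullback M.hom T.hom)

theorem dominant_whiskerRight {G M : Over (Spec (CommRingCat.of k))} (i : G ⟶ M)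
    [QuasiCompact i.left] [IsSchemeTheoreticallyDominant i.left]
    (T : Over (Spec (CommRingCat.of k))) :
    IsSchemeTheoreticallyDominant (i ▷ T).left := by
  haveI : Flat T.hom := flat_hom k T
  exact IsSchemeTheoreticallyDominant.of_isPullback (isPullback_whiskerRight i T)

theorem main57 (M G X Z : Over (Spec (CommRingCat.of k))) [MonObj M] [GrpObj G]
    (i : G ⟶ M) [IsMonHom i] [QuasiCompact i.left]
    [IsSchemeTheoreticallyDominant i.left]
    (a : Magnet.MonAct M X) (b : AlgGrp.Action G Z) (j : Z ⟶ X) [IsClosedImmersion j.left]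
    (hj : Magnet.MonAct.IsEquivariant (Magnet.MonAct.ofAction b) (a.restrict i) j) :
    ∃ c : Magnet.MonAct M Z, Magnet.MonAct.IsEquivariant c a j ∧
      c.restrict i = Magnet.MonAct.ofAction b := by
  haveI := dominant_whiskerRight k i Z
  haveI := mono_of_closed j
  have hj' : b.act ≫ j = (G ◁ j) ≫ (i ▷ X) ≫ a.act := hj
  obtain ⟨act, hact⟩ := exists_factor_over j (i ▷ Z) ((M ◁ j) ≫ a.act) b.act (by
    rw [hj', whisker_exchange_assoc])
  have hpt : ∀ {T : Over (Spec (CommRingCat.of k))} (g : T ⟶ M) (x : T ⟶ Z),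
      (lift g x ≫ act) ≫ j = lift g (x ≫ j) ≫ a.act := by
    intro T g x
    rw [Category.assoc, hact, lift_whiskerLeft_assoc]
  refine ⟨Magnet.MonAct.mk' act ?_ ?_, ?_, ?_⟩
  · intro T x
    rw [← cancel_mono j, hpt, Magnet.MonAct.lift_one_act]
  · intro T g h x
    rw [← cancel_mono j, hpt, hpt, hpt, Magnet.MonAct.lift_mul_act]
  · exact hact
  · apply Magnet.MonAct.ext'
    rw [Magnet.MonAct.restrict_act, Magnet.MonAct.mk'_act]
    show (i ▷ Z) ≫ act = b.act
    rw [← cancel_mono j, Category.assoc, hact, hj', whisker_exchange_assoc]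

theorem main56 (M G X Z : Over (Spec (CommRingCat.of k))) [MonObj M] [GrpObj G]
    (i : G ⟶ M) [IsMonHom i] [QuasiCompact i.left]
    [IsSchemeTheoreticallyDominant i.left]
    (aX : AlgGrp.Action G X) (aZ : AlgGrp.Action G Z) (j : Z ⟶ X) [IsClosedImmersion j.left]
    (hj : Magnet.MonAct.IsEquivariant (Magnet.MonAct.ofAction aZ) (Magnet.MonAct.ofAction aX) j) :
    IsPullback
      (Magnet.MonAct.eqvHom.postcomp ((Magnet.MonAct.regular M).restrict i) j hj)
      (Magnet.MonAct.eqvHom.evalAt ((Magnet.MonAct.regular M).restrict i)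
        (Magnet.MonAct.ofAction aZ) η[M])
      (Magnet.MonAct.eqvHom.evalAt ((Magnet.MonAct.regular M).restrict i)
        (Magnet.MonAct.ofAction aX) η[M])
      (yoneda.map j) := by
  haveI := mono_of_closed j
  apply IsPullback.of_forall_isPullback_app
  intro T
  rw [Limits.Types.isPullback_iff]
  refine ⟨?_, ?_, ?_⟩
  · ext φ
    simp
    show lift (toUnit (unop T) ≫ η[M]) (𝟙 (unop T)) ≫ (φ.1 ≫ j) =
      (lift (toUnit (unop T) ≫ η[M]) (𝟙 (unop T)) ≫ φ.1) ≫ j
    rw [Category.assoc]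
  · rintro φ φ' ⟨h1, -⟩
    apply Subtype.ext
    have h2 : φ.1 ≫ j = φ'.1 ≫ j := congrArg Subtype.val h1
    exact (cancel_mono j).mp h2
  · intro φX z h
    have hdom := dominant_whiskerRight k i (unop T)
    have h' : lift (toUnit (unop T) ≫ η[M]) (𝟙 (unop T)) ≫ φX.1 = z ≫ j := h
    have hφ := (Magnet.MonAct.mem_eqvHom_iff φX.1).mp φX.2
    have hone : ∀ {T' : Over (Spec (CommRingCat.of k))} (t : T' ⟶ unop T),
        lift (1 : T' ⟶ M) t ≫ φX.1 = t ≫ z ≫ j := by
      intro T' t
      have e : lift (1 : T' ⟶ M) t = t ≫ lift (toUnit (unop T) ≫ η[M]) (𝟙 (unop T)) := by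
        apply CartesianMonoidalCategory.hom_ext <;> simp [Hom.one_def]
      rw [e, Category.assoc, h']
    have hkey : ((G ◁ z) ≫ aZ.act) ≫ j = (i ▷ unop T) ≫ φX.1 := by
      apply Magnet.hom_ext_lift₂
      intro T' g t
      have h1 := hφ T' g (1 : T' ⟶ M) t
      rw [Magnet.MonAct.lift_restrict_act, Magnet.MonAct.lift_regular_act, _root_.mul_one,
        hone] at h1
      rw [lift_whiskerRight_assoc, h1, Category.assoc, lift_whiskerLeft_assoc]
      have h2 := (Magnet.MonAct.isEquivariant_iff _ _ _).mp hj T' g (t ≫ z)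
      rw [Category.assoc] at h2
      exact h2
    obtain ⟨ψ, hψ⟩ := exists_factor_over j (i ▷ unop T) φX.1 ((G ◁ z) ≫ aZ.act) hkey
    have hψeq : Magnet.MonAct.IsEquivariant
        ((((Magnet.MonAct.regular M).restrict i)).prod (Magnet.MonAct.trivial G (unop T)))
        (Magnet.MonAct.ofAction aZ) ψ := by
      have e1 : Magnet.MonAct.IsEquivariant
          ((((Magnet.MonAct.regular M).restrict i)).prod (Magnet.MonAct.trivial G (unop T)))
          (Magnet.MonAct.ofAction aX) φX.1 := φX.2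
      unfold Magnet.MonAct.IsEquivariant at e1 hj ⊢
      rw [← cancel_mono j]
      simp only [Category.assoc]
      rw [hψ, e1, hj, ← MonoidalCategory.whiskerLeft_comp_assoc, hψ]
    refine ⟨⟨ψ, hψeq⟩, ?_, ?_⟩
    · apply Subtype.ext
      exact hψ
    · show lift (toUnit (unop T) ≫ η[M]) (𝟙 (unop T)) ≫ ψ = z
      rw [← cancel_mono j, Category.assoc, hψ, h']

theorem main58 (M G X U : Over (Spec (CommRingCat.of k))) [MonObj M] [GrpObj G] (i : G ⟶ M)
    [IsMonHom i] (o : 𝟙_ (Over (Spec (CommRingCat.of k))) ⟶ M)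
    (hM : ∀ (T : Over (Spec (CommRingCat.of k))) (K : Type u) [Field K]
      (eT : T.left ≅ Spec (CommRingCat.of K)) (W : (M ⊗ T).left.Opens),
      (CartesianMonoidalCategory.snd G (M ⊗ T)).left ⁻¹ᵁ W ≤
          ((((Magnet.MonAct.regular M).restrict i).prod (Magnet.MonAct.trivial G T)).act).left ⁻¹ᵁ W →
      (CartesianMonoidalCategory.lift (toUnit T ≫ o) (𝟙 T)).left ⁻¹ᵁ W = ⊤ → W = ⊤)
    (aX : AlgGrp.Action G X) (aU : AlgGrp.Action G U) (j : U ⟶ X) [IsOpenImmersion j.left]
    (hj : Magnet.MonAct.IsEquivariant (Magnet.MonAct.ofAction aU) (Magnet.MonAct.ofAction aX) j) :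
    IsPullback
      (Magnet.MonAct.eqvHom.postcomp ((Magnet.MonAct.regular M).restrict i) j hj)
      (Magnet.MonAct.eqvHom.evalAt ((Magnet.MonAct.regular M).restrict i)
        (Magnet.MonAct.ofAction aU) o)
      (Magnet.MonAct.eqvHom.evalAt ((Magnet.MonAct.regular M).restrict i)
        (Magnet.MonAct.ofAction aX) o)
      (yoneda.map j) := by
  haveI := mono_of_open j
  apply isPullback_of_factor
  intro T₀ φ z h'
  have hall : ∀ p : ↥(M ⊗ T₀).left, φ.1.left p ∈ Set.range j.left := by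
    intro p
    obtain ⟨t, ht⟩ : ∃ t, t = (snd M T₀).left p := ⟨_, rfl⟩
    let Tt : Over (Spec (CommRingCat.of k)) := Over.mk (T₀.left.fromSpecResidueField t ≫ T₀.hom)
    let ι' : Tt ⟶ T₀ := Over.homMk (T₀.left.fromSpecResidueField t) rfl
    have hφt : Magnet.MonAct.IsEquivariant
        ((((Magnet.MonAct.regular M).restrict i)).prod (Magnet.MonAct.trivial G Tt))
        (Magnet.MonAct.ofAction aX) ((M ◁ ι') ≫ φ.1) :=
      ((Magnet.MonAct.eqvHom ((Magnet.MonAct.regular M).restrict i)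
        (Magnet.MonAct.ofAction aX)).map ι'.op φ).2
    have hstab := stab aX aU j hj
      ((((Magnet.MonAct.regular M).restrict i)).prod (Magnet.MonAct.trivial G Tt))
      ((M ◁ ι') ≫ φ.1) hφt
    have hzero : (lift (toUnit Tt ≫ o) (𝟙 Tt)).left ⁻¹ᵁ
        (((M ◁ ι') ≫ φ.1).left ⁻¹ᵁ j.left.opensRange) = ⊤ := by
      rw [eq_top_iff]
      intro s _
      show ((M ◁ ι') ≫ φ.1).left ((lift (toUnit Tt ≫ o) (𝟙 Tt)).left s) ∈ Set.range j.left
      have e0 : lift (toUnit Tt ≫ o) (𝟙 Tt) ≫ (M ◁ ι') = ι' ≫ lift (toUnit T₀ ≫ o) (𝟙 T₀) := by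
        apply CartesianMonoidalCategory.hom_ext <;> simp
      have e : lift (toUnit Tt ≫ o) (𝟙 Tt) ≫ (M ◁ ι') ≫ φ.1 = (ι' ≫ z) ≫ j := by
        rw [reassoc_of% e0, h', Category.assoc]
      rw [← Scheme.Hom.comp_apply, ← Over.comp_left, e, Over.comp_left, Scheme.Hom.comp_apply]
      exact ⟨_, rfl⟩
    have htop := hM Tt (T₀.left.residueField t) (Iso.refl _) _ hstab hzero
    obtain ⟨s₀⟩ : Nonempty ↥(Spec (T₀.left.residueField t)) :=
      (inferInstance : Nonempty (PrimeSpectrum (T₀.left.residueField t)))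
    obtain ⟨pt, -, hpt⟩ := Scheme.exists_preimage_of_isPullback (isPullback_whiskerLeft ι' M) s₀ p
      (by
        show (T₀.left.fromSpecResidueField t) s₀ = (snd M T₀).left p
        rw [Scheme.fromSpecResidueField_apply, ht])
    have hpt' : (M ◁ ι').left pt = p := hpt
    have hmem : pt ∈ ((M ◁ ι') ≫ φ.1).left ⁻¹ᵁ j.left.opensRange := by
      rw [htop]; trivial
    have hmem' : ((M ◁ ι') ≫ φ.1).left pt ∈ Set.range j.left := hmem
    rw [Over.comp_left, Scheme.Hom.comp_apply, hpt'] at hmem'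
    exact hmem'
  obtain ⟨ψ, hψ⟩ := exists_factor_open j φ.1 (by rintro _ ⟨p, rfl⟩; exact hall p)
  exact ⟨ψ, hψ⟩

end Field

end Groth.Agent.Lib.MagnetDense
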