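import Groth.Statements.S18284
import Groth.Statements.S18285
import Groth.Statements.S18286
import Groth.Statements.S18288
import Groth.Agent.Lib.MagnetDense_lead

/-! # Schematic density of `A(M)_T → A(N)_T` for an injective `N → M`, and applications to attractors (lead) -/

set_option backward.isDefEq.respectTransparency false
set_option backward.isDefEq.respectTransparency.types false
set_option linter.unusedSimpArgs false
set_option linter.unusedVariables false
set_option linter.unusedSectionVars false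
set_option linter.style.longLine false
set_option maxHeartbeats 800000

universe u

open CategoryTheory CategoryTheory.Limits MonoidalCategory CartesianMonoidalCategory MonObj GrpObj
  AlgebraicGeometry Opposite

namespace Groth.Agent.Lib.AMonDense

/-! ### Ring level -/

section Ring

open TensorProduct

theorem inj_tensor {R P Q B : Type u} [CommRing R] [CommRing P] [CommRing Q] [CommRing B]
    [Algebra R P] [Algebra R Q] [Algebra R B] (iA : P →ₐ[R] Q) (ρ : Q →ₗ[R] P)
    (hρ : ∀ x, ρ (iA x) = x) :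
    Function.Injective (Algebra.TensorProduct.map iA (AlgHom.id R B)) := by
  have key : ∀ x : P ⊗[R] B,
      LinearMap.rTensor B ρ (Algebra.TensorProduct.map iA (AlgHom.id R B) x) = x := by
    intro x
    induction x using TensorProduct.induction_on with
    | zero => rw [map_zero, map_zero]
    | tmul a b =>
      have h0 : Algebra.TensorProduct.map iA (AlgHom.id R B) (a ⊗ₜ[R] b) = iA a ⊗ₜ[R] b :=
        Algebra.TensorProduct.map_tmul _ _ _ _
      rw [h0, LinearMap.rTensor_tmul, hρ]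
    | add x y hx hy => rw [map_add, map_add, hx, hy]
  intro x y hxy
  rw [← key x, ← key y, hxy]

variable (R P B : Type u) [CommRing R] [CommRing P] [CommRing B] [Algebra R P] [Algebra R B]

/-- The left inclusion into the tensor product, bundled. -/
noncomputable def tinl : CommRingCat.of P ⟶ CommRingCat.of (P ⊗[R] B) :=
  CommRingCat.ofHom Algebra.TensorProduct.includeLeftRingHom

/-- The right inclusion into the tensor product, bundled. -/
noncomputable def tinr : CommRingCat.of B ⟶ CommRingCat.of (P ⊗[R] B) :=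
  CommRingCat.ofHom (Algebra.TensorProduct.includeRight (R := R) (A := P) (B := B)).toRingHom

theorem tpush : IsPushout (CommRingCat.ofHom (algebraMap R P)) (CommRingCat.ofHom (algebraMap R B))
    (tinl R P B) (tinr R P B) :=
  CommRingCat.isPushout_tensorProduct R P B

end Ring

theorem iso_of_pushouts {C : Type*} [Category C] {X Y Z P P' : C} {f : X ⟶ Y} {g : X ⟶ Z}
    {inl : Y ⟶ P} {inr : Z ⟶ P} {inl' : Y ⟶ P'} {inr' : Z ⟶ P'}
    (h : IsPushout f g inl inr) (h' : IsPushout f g inl' inr') :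
    ∃ e : P ≅ P', inl ≫ e.hom = inl' ∧ inr ≫ e.hom = inr' :=
  ⟨h.isoIsPushout _ _ h', h.inl_isoIsPushout_hom _ _ h', h.inr_isoIsPushout_hom _ _ h'⟩

open TensorProduct in
theorem inj_of_pushouts {R P Q B C D : CommRingCat.{u}} (α : R ⟶ P) (β : R ⟶ B) (γ : P ⟶ C)
    (δ : B ⟶ C) (i : P ⟶ Q) (ep : Q ⟶ D) (mu : C ⟶ D)
    (h2 : IsPushout α β γ δ) (h1 : IsPushout i γ ep mu)
    (ρ : Q →+ P) (hρ : ∀ x, ρ (i.hom x) = x)
    (hlin : ∀ (r : R) (y : Q), ρ (i.hom (α.hom r) * y) = α.hom r * ρ y) :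
    Function.Injective mu.hom := by
  letI : Algebra R P := α.hom.toAlgebra
  letI : Algebra R B := β.hom.toAlgebra
  letI : Algebra R Q := (α ≫ i).hom.toAlgebra
  have h12 : IsPushout (α ≫ i) β ep (δ ≫ mu) := h2.paste_horiz h1
  have t2 : IsPushout α β (tinl R P B) (tinr R P B) := tpush R P B
  have t1 : IsPushout (α ≫ i) β (tinl R Q B) (tinr R Q B) := tpush R Q B
  let iA : P →ₐ[R] Q := { i.hom with commutes' := fun r => rfl }
  let ρL : Q →ₗ[R] P :=
    { toFun := ρ
      map_add' := map_add ρ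
      map_smul' := fun r y => by
        show ρ (i.hom (α.hom r) * y) = α.hom r * ρ y
        exact hlin r y }
  have hF : Function.Injective (Algebra.TensorProduct.map iA (AlgHom.id R B)) :=
    inj_tensor iA ρL hρ
  let F : CommRingCat.of (P ⊗[R] B) ⟶ CommRingCat.of (Q ⊗[R] B) :=
    CommRingCat.ofHom (Algebra.TensorProduct.map iA (AlgHom.id R B)).toRingHom
  obtain ⟨e2, he2l, he2r⟩ := iso_of_pushouts t2 h2
  obtain ⟨e1, he1l, he1r⟩ := iso_of_pushouts t1 h12
  have hFl : tinl R P B ≫ F = i ≫ tinl R Q B := by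
    ext x
    show Algebra.TensorProduct.map iA (AlgHom.id R B) (x ⊗ₜ[R] (1 : B)) = (i.hom x) ⊗ₜ[R] (1 : B)
    exact Algebra.TensorProduct.map_tmul _ _ _ _
  have hFr : tinr R P B ≫ F = tinr R Q B := by
    ext x
    show Algebra.TensorProduct.map iA (AlgHom.id R B) ((1 : P) ⊗ₜ[R] x) = (1 : Q) ⊗ₜ[R] x
    have h0 : Algebra.TensorProduct.map iA (AlgHom.id R B) ((1 : P) ⊗ₜ[R] x) = iA 1 ⊗ₜ[R] x :=
      Algebra.TensorProduct.map_tmul _ _ _ _
    rw [h0, map_one]
  have hsq : F ≫ e1.hom = e2.hom ≫ mu := by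
    apply t2.hom_ext
    · calc tinl R P B ≫ F ≫ e1.hom = (tinl R P B ≫ F) ≫ e1.hom := (Category.assoc _ _ _).symm
        _ = (i ≫ tinl R Q B) ≫ e1.hom := by rw [hFl]
        _ = i ≫ ep := by rw [Category.assoc, he1l]
        _ = γ ≫ mu := h1.w
        _ = (tinl R P B ≫ e2.hom) ≫ mu := by rw [he2l]
        _ = tinl R P B ≫ e2.hom ≫ mu := Category.assoc _ _ _
    · calc tinr R P B ≫ F ≫ e1.hom = (tinr R P B ≫ F) ≫ e1.hom := (Category.assoc _ _ _).symm
        _ = tinr R Q B ≫ e1.hom := by rw [hFr]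
        _ = δ ≫ mu := he1r
        _ = (tinr R P B ≫ e2.hom) ≫ mu := by rw [he2r]
        _ = tinr R P B ≫ e2.hom ≫ mu := Category.assoc _ _ _
  have hmu : mu = e2.inv ≫ F ≫ e1.hom := by rw [hsq, Iso.inv_hom_id_assoc]
  intro x y hxy
  have h3 : e1.hom.hom (F.hom (e2.inv.hom x)) = e1.hom.hom (F.hom (e2.inv.hom y)) := by
    have h0 := hxy
    rw [hmu] at h0
    exact h0
  have h4 : F.hom (e2.inv.hom x) = F.hom (e2.inv.hom y) :=
    (ConcreteCategory.bijective_of_isIso e1.hom).1 h3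
  have h5 : e2.inv.hom x = e2.inv.hom y := hF h4
  exact (ConcreteCategory.bijective_of_isIso e2.inv).1 h5

/-! ### Geometry -/

theorem dominant_of_squares {W' W P' P T Z : Scheme.{u}} [IsAffine P'] [IsAffine P] [IsAffine Z]
    (a : W' ⟶ P') (m : W' ⟶ W) (p : P' ⟶ P) (q : W ⟶ P) (r : W ⟶ T) (π : P ⟶ Z) (τ : T ⟶ Z)
    (sq1 : IsPullback a m p q) (sq2 : IsPullback q r π τ)
    (ρ : Γ(P', ⊤) →+ Γ(P, ⊤))
    (hρ : ∀ x, ρ (p.appTop.hom x) = x)
    (hint : ∀ c : Γ(Z, ⊤), ∃ n : ℤ, c = (n : Γ(Z, ⊤))) :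
    IsSchemeTheoreticallyDominant m := by
  haveI : IsAffineHom m := MorphismProperty.of_isPullback (P := @IsAffineHom) sq1 inferInstance
  haveI : IsAffineHom r := MorphismProperty.of_isPullback (P := @IsAffineHom) sq2 inferInstance
  rw [isSchemeTheoreticallyDominant_iff]
  refine Scheme.IdealSheafData.ext_of_iSup_eq_top
    (fun j : T.affineOpens ↦ (⟨r ⁻¹ᵁ j.1, j.2.preimage r⟩ : W.affineOpens)) ?_ ?_
  · have h1 := Scheme.Hom.preimage_iSup r (fun j : T.affineOpens => (j : T.Opens))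
    rw [iSup_affineOpens_eq_top] at h1
    exact h1.symm.trans (Scheme.Hom.preimage_top r)
  · intro j
    simp only [Scheme.Hom.ker_apply, Scheme.IdealSheafData.ideal_bot, Pi.bot_apply]
    refine (RingHom.injective_iff_ker_eq_bot _).mp ?_
    have hV : IsAffineOpen (r ⁻¹ᵁ j.1) := j.2.preimage r
    have hUST2 : j.1 ≤ τ ⁻¹ᵁ ⊤ := by first | simp | exact le_top
    have hUSX2 : (⊤ : P.Opens) ≤ π ⁻¹ᵁ ⊤ := by first | simp | exact le_top
    have hUY2 : r ⁻¹ᵁ j.1 = q ⁻¹ᵁ ⊤ ⊓ r ⁻¹ᵁ j.1 := by simp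
    have hUST1 : r ⁻¹ᵁ j.1 ≤ q ⁻¹ᵁ ⊤ := by first | simp | exact le_top
    have hUSX1 : (⊤ : P'.Opens) ≤ p ⁻¹ᵁ ⊤ := by first | simp | exact le_top
    have hUY1 : m ⁻¹ᵁ (r ⁻¹ᵁ j.1) = a ⁻¹ᵁ ⊤ ⊓ m ⁻¹ᵁ (r ⁻¹ᵁ j.1) := by simp
    have h2 := (isIso_pushoutSection_iff sq2 hUST2 hUSX2 hUY2).mp
      (isIso_pushoutSection_of_isAffineOpen sq2 hUST2 hUSX2 hUY2 (isAffineOpen_top Z) j.2
        (isAffineOpen_top P))
    have h1 := (isIso_pushoutSection_iff sq1 hUST1 hUSX1 hUY1).mp
      (isIso_pushoutSection_of_isAffineOpen sq1 hUST1 hUSX1 hUY1 (isAffineOpen_top P) hV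
        (isAffineOpen_top P'))
    have hp : p.appLE ⊤ ⊤ hUSX1 = p.appTop := Scheme.Hom.appLE_eq_app p
    rw [Scheme.Hom.app_eq_appLE]
    refine inj_of_pushouts _ _ _ _ _ _ _ h2 h1 ρ ?_ ?_
    · intro x
      rw [hp]
      exact hρ x
    · intro c y
      obtain ⟨n, rfl⟩ := hint c
      rw [map_intCast, map_intCast, ← zsmul_eq_mul, ← zsmul_eq_mul, map_zsmul]

theorem isPullback_pullback_map {X Y : Scheme.{u}} (f : X ⟶ Y) {A B : Over Y} (k : A ⟶ B) :
    IsPullback (pullback.fst A.hom f) ((Over.pullback f).map k).left k.left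
      (pullback.fst B.hom f) := by
  have h1 : ((Over.pullback f).map k).left ≫ pullback.fst B.hom f =
      pullback.fst A.hom f ≫ k.left :=
    (congrArg (fun t => t ≫ pullback.fst B.hom f) (Over.pullback_map_left f A (k := k))).trans
      (pullback.lift_fst _ _ _)
  have h2 : ((Over.pullback f).map k).left ≫ pullback.snd B.hom f = pullback.snd A.hom f :=
    (congrArg (fun t => t ≫ pullback.snd B.hom f) (Over.pullback_map_left f A (k := k))).trans
      (pullback.lift_snd _ _ _)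
  have s : IsPullback (pullback.fst A.hom f)
      (((Over.pullback f).map k).left ≫ pullback.snd B.hom f) (k.left ≫ B.hom) f := by
    rw [h2, Over.w]
    exact IsPullback.of_hasPullback A.hom f
  exact IsPullback.of_bot s h1.symm (IsPullback.of_hasPullback B.hom f)

theorem comap_map' (R : Type u) [CommRing R] {A B : Type} (f : A → B)
    (hf : Function.Injective f) (x : MonoidAlgebra R A) :
    MonoidAlgebra.comapDomain f hf (MonoidAlgebra.mapDomain f x) = x := by
  apply MonoidAlgebra.coeff_injective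
  rw [MonoidAlgebra.coeff_comapDomain]
  ext b
  rw [Finsupp.comapDomain_apply]
  exact Finsupp.mapDomain_apply hf _ _

theorem dense_aux {N' M' : Type} [CommMonoid N'] [CommMonoid M'] (g' : N' →* M')
    (hg' : Function.Injective g') {W' W T : Scheme.{u}}
    (a : W' ⟶ Spec (CommRingCat.of (MonoidAlgebra (ULift.{u} ℤ) M'))) (m : W' ⟶ W)
    (q : W ⟶ Spec (CommRingCat.of (MonoidAlgebra (ULift.{u} ℤ) N'))) (r : W ⟶ T)
    (τ : T ⟶ Spec (CommRingCat.of (ULift.{u} ℤ)))
    (sq1 : IsPullback a m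
      (Spec.map (CommRingCat.ofHom
        (MonoidAlgebra.mapDomainBialgHom (ULift.{u} ℤ) g').toAlgHom.toRingHom)) q)
    (sq2 : IsPullback q r
      (Spec.map (CommRingCat.ofHom
        (algebraMap (ULift.{u} ℤ) (MonoidAlgebra (ULift.{u} ℤ) N')))) τ) :
    IsSchemeTheoreticallyDominant m := by
  let φ : CommRingCat.of (MonoidAlgebra (ULift.{u} ℤ) N') ⟶
      CommRingCat.of (MonoidAlgebra (ULift.{u} ℤ) M') :=
    CommRingCat.ofHom (MonoidAlgebra.mapDomainBialgHom (ULift.{u} ℤ) g').toAlgHom.toRingHom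
  let eP := Scheme.ΓSpecIso (CommRingCat.of (MonoidAlgebra (ULift.{u} ℤ) N'))
  let eQ := Scheme.ΓSpecIso (CommRingCat.of (MonoidAlgebra (ULift.{u} ℤ) M'))
  let eR := Scheme.ΓSpecIso (CommRingCat.of (ULift.{u} ℤ))
  let ρ₀ : MonoidAlgebra (ULift.{u} ℤ) M' →+ MonoidAlgebra (ULift.{u} ℤ) N' :=
    MonoidAlgebra.comapDomainAddMonoidHom g' hg'
  let ρ : Γ(Spec (CommRingCat.of (MonoidAlgebra (ULift.{u} ℤ) M')), ⊤) →+
      Γ(Spec (CommRingCat.of (MonoidAlgebra (ULift.{u} ℤ) N')), ⊤) :=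
    (eP.inv.hom : _ →+* _).toAddMonoidHom.comp (ρ₀.comp (eQ.hom.hom : _ →+* _).toAddMonoidHom)
  refine dominant_of_squares a m (Spec.map φ) q r _ τ sq1 sq2 ρ ?_ ?_
  · intro x
    have nat : eQ.hom.hom ((Spec.map φ).appTop.hom x) = φ.hom (eP.hom.hom x) :=
      congr($(Scheme.ΓSpecIso_naturality φ).hom x)
    show eP.inv.hom (ρ₀ (eQ.hom.hom ((Spec.map φ).appTop.hom x))) = x
    rw [nat]
    show eP.inv.hom (MonoidAlgebra.comapDomain g' hg'
      (MonoidAlgebra.mapDomain g' (eP.hom.hom x))) = x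
    rw [comap_map']
    exact congr($(eP.hom_inv_id).hom x)
  · intro c
    have h2 : eR.inv.hom (eR.hom.hom c) = c := congr($(eR.hom_inv_id).hom c)
    have h1 : (((eR.hom.hom c).down : ℤ) : ULift.{u} ℤ) = eR.hom.hom c := by
      apply ULift.ext
      first | rfl | simp
    refine ⟨(eR.hom.hom c).down, ?_⟩
    calc c = eR.inv.hom (eR.hom.hom c) := h2.symm
      _ = eR.inv.hom (((eR.hom.hom c).down : ℤ) : ULift.{u} ℤ) := by rw [h1]
      _ = _ := map_intCast eR.inv.hom _

/-- **Density**: for an injective `g : N →+ M` the morphism `A(M)_T → A(N)_T` is schematically dominant,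
over any base and any `T`. -/
theorem dense {N M : Type} [AddCommMonoid N] [AddCommMonoid M] (S : Scheme.{u}) (g : N →+ M)
    (hg : Function.Injective g) (T : Over S) :
    IsSchemeTheoreticallyDominant ((Magnet.AMonS.map S g) ▷ T).left := by
  have hg' : Function.Injective (AddMonoidHom.toMultiplicative g) := by
    intro x y h
    exact Multiplicative.toAdd.injective (hg (congrArg Multiplicative.toAdd h))
  have sqA := Groth.Agent.Lib.MagnetDense.isPullback_whiskerRight (Magnet.AMonS.map S g) T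
  have sqB := isPullback_pullback_map (Limits.IsTerminal.from specULiftZIsTerminal S)
    (Magnet.AMon.map (ULift.{u} ℤ) g)
  have sq1 := sqA.paste_horiz sqB
  have sqC : IsPullback (pullback.fst (Magnet.AMonS S N).hom T.hom)
      (pullback.snd (Magnet.AMonS S N).hom T.hom)
      (pullback.snd (Magnet.AMon (ULift.{u} ℤ) N).hom
        (Limits.IsTerminal.from specULiftZIsTerminal S)) T.hom :=
    IsPullback.of_hasPullback _ _
  have sqD := IsPullback.of_hasPullback (Magnet.AMon (ULift.{u} ℤ) N).hom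
    (Limits.IsTerminal.from specULiftZIsTerminal S)
  have sq2 := sqC.paste_horiz sqD
  exact dense_aux (AddMonoidHom.toMultiplicative g) hg' _ _ _ _ _ sq1 sq2

/-! ### Consequences -/

theorem eq_of_dense {S : Scheme.{u}} {W' W X : Over S} [IsSeparated X.hom] (m : W' ⟶ W)
    [IsSchemeTheoreticallyDominant m.left] (φ₁ φ₂ : W ⟶ X) (h : m ≫ φ₁ = m ≫ φ₂) : φ₁ = φ₂ := by
  haveI := isClosedImmersion_equalizer_ι_left φ₁ φ₂
  obtain ⟨ψ, hψ⟩ := Groth.Agent.Lib.MagnetDense.exists_factor_over (equalizer.ι φ₁ φ₂) m (𝟙 W)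
    (equalizer.lift m h) (by rw [equalizer.lift_ι, Category.comp_id])
  calc φ₁ = (ψ ≫ equalizer.ι φ₁ φ₂) ≫ φ₁ := by rw [hψ, Category.id_comp]
    _ = (ψ ≫ equalizer.ι φ₁ φ₂) ≫ φ₂ := by
      rw [Category.assoc, equalizer.condition, ← Category.assoc]
    _ = φ₂ := by rw [hψ, Category.id_comp]

theorem main84 (S : Scheme.{u}) (M : Type) [AddCommMonoid M]
    (X : Over S) [IsSeparated X.hom] (a : Magnet.MonAct (Magnet.AMonS S M) X) {N N' : AddSubmonoid M}
    (h : N ≤ N') (T : Over S) :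
    Function.Injective (fun φ => (Magnet.attrMap a h).app (op T) φ) := by
  intro φ₁ φ₂ e
  apply Subtype.ext
  have e' : ((Magnet.AMonS.map S (AddSubmonoid.inclusion h)) ▷ T) ≫ φ₁.1 =
      ((Magnet.AMonS.map S (AddSubmonoid.inclusion h)) ▷ T) ≫ φ₂.1 := congrArg Subtype.val e
  haveI := dense S (AddSubmonoid.inclusion h) (AddSubmonoid.inclusion_injective h) T
  exact eq_of_dense _ _ _ e'

theorem orbit_formula {S : Scheme.{u}} {A B X : Over S} [MonObj A] [MonObj B] (i : A ⟶ B)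
    [IsMonHom i] (a : Magnet.MonAct A X) {T : Over S} (φ : B ⊗ T ⟶ X)
    (hφ : Magnet.MonAct.IsEquivariant
      (((Magnet.MonAct.regular B).restrict i).prod (Magnet.MonAct.trivial A T)) a φ) :
    (i ▷ T) ≫ φ = (A ◁ (lift (toUnit T ≫ η[B]) (𝟙 T) ≫ φ)) ≫ a.act := by
  have hφ' := (Magnet.MonAct.mem_eqvHom_iff φ).mp hφ
  apply Magnet.hom_ext_lift₂
  intro T' g t
  have h1 := hφ' T' g (1 : T' ⟶ B) t
  rw [Magnet.MonAct.lift_restrict_act, Magnet.MonAct.lift_regular_act, _root_.mul_one] at h1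
  have e : lift (1 : T' ⟶ B) t = t ≫ lift (toUnit T ≫ η[B]) (𝟙 T) := by
    apply CartesianMonoidalCategory.hom_ext <;> simp [Hom.one_def]
  rw [lift_whiskerRight_assoc, h1, e, Category.assoc, lift_whiskerLeft_assoc]

theorem main85 (S : Scheme.{u}) (M : Type) [AddCommMonoid M]
    (X : Over S) [IsSeparated X.hom] (a : Magnet.MonAct (Magnet.AMonS S M) X) (N : AddSubmonoid M)
    (T : Over S) :
    Function.Injective (fun φ => (Magnet.attrToX a N).app (op T) φ) := by
  intro φ₁ φ₂ e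
  apply Subtype.ext
  have e' : lift (toUnit T ≫ η[Magnet.AMonS S N]) (𝟙 T) ≫ φ₁.1 =
      lift (toUnit T ≫ η[Magnet.AMonS S N]) (𝟙 T) ≫ φ₂.1 := e
  haveI := dense S N.subtype (fun x y h => Subtype.ext h) T
  apply eq_of_dense ((Magnet.AMonS.map S N.subtype) ▷ T)
  rw [orbit_formula (Magnet.AMonS.map S N.subtype) a φ₁.1 φ₁.2,
    orbit_formula (Magnet.AMonS.map S N.subtype) a φ₂.1 φ₂.2, e']

theorem isPullback_gen {S : Scheme.{u}} {A B X Z : Over S} [MonObj A] [MonObj B] (i : A ⟶ B)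
    [IsMonHom i] (hdense : ∀ T : Over S, IsSchemeTheoreticallyDominant (i ▷ T).left)
    (aX : Magnet.MonAct A X) (aZ : Magnet.MonAct A Z) (j : Z ⟶ X) [IsClosedImmersion j.left]
    (hj : Magnet.MonAct.IsEquivariant aZ aX j) :
    IsPullback
      (Magnet.MonAct.eqvHom.postcomp ((Magnet.MonAct.regular B).restrict i) j hj)
      (Magnet.MonAct.eqvHom.evalAt ((Magnet.MonAct.regular B).restrict i) aZ η[B])
      (Magnet.MonAct.eqvHom.evalAt ((Magnet.MonAct.regular B).restrict i) aX η[B])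
      (yoneda.map j) := by
  haveI := Groth.Agent.Lib.MagnetDense.mono_of_closed j
  apply IsPullback.of_forall_isPullback_app
  intro T
  rw [Limits.Types.isPullback_iff]
  refine ⟨?_, ?_, ?_⟩
  · ext φ
    simp
    show lift (toUnit (unop T) ≫ η[B]) (𝟙 (unop T)) ≫ (φ.1 ≫ j) =
      (lift (toUnit (unop T) ≫ η[B]) (𝟙 (unop T)) ≫ φ.1) ≫ j
    rw [Category.assoc]
  · rintro φ φ' ⟨h1, -⟩
    apply Subtype.ext
    have h2 : φ.1 ≫ j = φ'.1 ≫ j := congrArg Subtype.val h1
    exact (cancel_mono j).mp h2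
  · intro φX z h
    haveI := hdense (unop T)
    have h' : lift (toUnit (unop T) ≫ η[B]) (𝟙 (unop T)) ≫ φX.1 = z ≫ j := h
    have hkey : ((A ◁ z) ≫ aZ.act) ≫ j = (i ▷ unop T) ≫ φX.1 := by
      have hj' : aZ.act ≫ j = (A ◁ j) ≫ aX.act := hj
      rw [orbit_formula i aX φX.1 φX.2, h', Category.assoc, hj',
        ← MonoidalCategory.whiskerLeft_comp_assoc]
    obtain ⟨ψ, hψ⟩ := Groth.Agent.Lib.MagnetDense.exists_factor_over j (i ▷ unop T) φX.1
      ((A ◁ z) ≫ aZ.act) hkey
    have hψeq : Magnet.MonAct.IsEquivariant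
        ((((Magnet.MonAct.regular B).restrict i)).prod (Magnet.MonAct.trivial A (unop T)))
        aZ ψ := by
      have e1 : Magnet.MonAct.IsEquivariant
          ((((Magnet.MonAct.regular B).restrict i)).prod (Magnet.MonAct.trivial A (unop T)))
          aX φX.1 := φX.2
      unfold Magnet.MonAct.IsEquivariant at e1 hj ⊢
      rw [← cancel_mono j]
      simp only [Category.assoc]
      rw [hψ, e1, hj, ← MonoidalCategory.whiskerLeft_comp_assoc, hψ]
    refine ⟨⟨ψ, hψeq⟩, ?_, ?_⟩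
    · apply Subtype.ext
      exact hψ
    · show lift (toUnit (unop T) ≫ η[B]) (𝟙 (unop T)) ≫ ψ = z
      rw [← cancel_mono j, Category.assoc, hψ, h']

theorem main86 (S : Scheme.{u}) (M : Type) [AddCommMonoid M]
    (N : AddSubmonoid M) (Y Z : Over S) (aY : Magnet.MonAct (Magnet.AMonS S M) Y)
    (aZ : Magnet.MonAct (Magnet.AMonS S M) Z) (f : Z ⟶ Y) [IsClosedImmersion f.left]
    (hf : Magnet.MonAct.IsEquivariant aZ aY f) :
    IsPullback (Magnet.MonAct.eqvHom.postcomp (Magnet.subAct S M N) f hf) (Magnet.attrToX aZ N)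
      (Magnet.attrToX aY N) (yoneda.map f) :=
  isPullback_gen (Magnet.AMonS.map S N.subtype)
    (fun T => dense S N.subtype (fun x y h => Subtype.ext h) T) aY aZ f hf

end Groth.Agent.Lib.AMonDense
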