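import Groth.Statements.S18288
import Groth.Agent.Lib.AMonDense_lead

/-! # Change of monoid for attractors is an isomorphism for an injective map into a group (lead) -/

set_option backward.isDefEq.respectTransparency false
set_option backward.isDefEq.respectTransparency.types false
set_option linter.unusedSimpArgs false
set_option linter.unusedVariables false
set_option linter.unusedSectionVars false
set_option linter.style.longLine false
set_option maxHeartbeats 800000

universe u

open CategoryTheory CategoryTheory.Limits MonoidalCategory CartesianMonoidalCategory MonObj GrpObj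
  AlgebraicGeometry Opposite

namespace Groth.Agent.Lib.AMonDense

theorem AMon_map_id (R : Type u) [CommRing R] (M : Type) [AddCommMonoid M] :
    Magnet.AMon.map R (AddMonoidHom.id M) = 𝟙 _ := by
  ext : 1
  rw [Magnet.AMon.map_left]
  change Spec.map _ = 𝟙 (Spec _)
  rw [← Spec.map_id]
  congr 1
  apply CommRingCat.hom_ext
  apply MonoidAlgebra.ringHom_ext
  · intro r; simp
  · intro m; simp

theorem AMonS_map_id (S : Scheme.{u}) (M : Type) [AddCommMonoid M] :
    Magnet.AMonS.map S (AddMonoidHom.id M) = 𝟙 _ := by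
  (rw [Magnet.AMonS.map, AMon_map_id, CategoryTheory.Functor.map_id]) <;> rfl

theorem main88 (S : Scheme.{u}) (M Z : Type) [AddCommMonoid M] [AddCommGroup Z] (f : M →+ Z)
    (hf : Function.Injective f) (Y : AddSubmonoid Z) (hY : Y ≤ AddMonoidHom.mrange f)
    (X : Over S) [IsSeparated X.hom] (a : Magnet.MonAct (Magnet.AMonS S M) X) :
    IsIso (Magnet.attrComap a f Y) := by
  let κ : ↥(Y.comap f) →+ ↥Y := (f.comp (Y.comap f).subtype).codRestrict Y (fun x => x.2)
  have hκinj : Function.Injective κ := by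
    intro x y h
    apply Subtype.ext
    apply hf
    exact congrArg Subtype.val h
  have hκsurj : Function.Surjective κ := by
    intro y
    obtain ⟨x, hx⟩ := AddMonoidHom.mem_mrange.mp (hY y.2)
    exact ⟨⟨x, by show f x ∈ Y; rw [hx]; exact y.2⟩, Subtype.ext hx⟩
  let e : ↥(Y.comap f) ≃+ ↥Y := AddEquiv.ofBijective κ ⟨hκinj, hκsurj⟩
  let κ' : ↥Y →+ ↥(Y.comap f) := e.symm.toAddMonoidHom
  have hκκ' : κ.comp κ' = AddMonoidHom.id ↥Y := AddMonoidHom.ext fun y => e.apply_symm_apply y
  have hsub : f.comp ((Y.comap f).subtype.comp κ') = Y.subtype :=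
    AddMonoidHom.ext fun y => congrArg Subtype.val (e.apply_symm_apply y)
  rw [NatTrans.isIso_iff_isIso_app]
  intro T
  rw [isIso_iff_bijective]
  constructor
  · intro φ₁ φ₂ h
    apply Subtype.ext
    have h' : (Magnet.AMonS.map S κ ▷ unop T) ≫ φ₁.1 = (Magnet.AMonS.map S κ ▷ unop T) ≫ φ₂.1 :=
      congrArg Subtype.val h
    haveI := dense S κ hκinj (unop T)
    exact eq_of_dense _ _ _ h'
  · intro ψ
    have hψ := (Magnet.MonAct.mem_eqvHom_iff ψ.1).mp ψ.2
    have hφ : Magnet.MonAct.IsEquivariant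
        ((Magnet.subAct S M (Y.comap f)).prod
          (Magnet.MonAct.trivial (Magnet.AMonS S M) (unop T))) a
        ((Magnet.AMonS.map S κ' ▷ unop T) ≫ ψ.1) := by
      haveI := dense S f hf (Magnet.AMonS S ↥(Y.comap f) ⊗ unop T)
      unfold Magnet.MonAct.IsEquivariant
      apply eq_of_dense (Magnet.AMonS.map S f ▷ (Magnet.AMonS S ↥(Y.comap f) ⊗ unop T))
      apply Magnet.hom_ext_lift₂
      intro T' z w
      obtain ⟨n, t, rfl⟩ : ∃ n t, w = lift n t :=
        ⟨w ≫ fst _ _, w ≫ snd _ _, (lift_comp_fst_snd w).symm⟩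
      have key : (lift (z ≫ Magnet.AMonS.map S f) n ≫ (Magnet.subAct S M (Y.comap f)).act) ≫
            Magnet.AMonS.map S κ' =
          lift z (n ≫ Magnet.AMonS.map S κ') ≫ (Magnet.subAct S Z Y).act := by
        unfold Magnet.subAct
        rw [Magnet.MonAct.lift_restrict_act, Magnet.MonAct.lift_regular_act,
          Magnet.MonAct.lift_restrict_act, Magnet.MonAct.lift_regular_act, MonObj.mul_comp]
        congr 1
        rw [Category.assoc, Category.assoc, ← Magnet.AMonS.map_comp, ← Magnet.AMonS.map_comp,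
          hsub]
      have hL : lift z (lift n t) ≫
            (Magnet.AMonS.map S f ▷ (Magnet.AMonS S ↥(Y.comap f) ⊗ unop T)) ≫
            ((Magnet.subAct S M (Y.comap f)).prod
              (Magnet.MonAct.trivial (Magnet.AMonS S M) (unop T))).act ≫
            (Magnet.AMonS.map S κ' ▷ unop T) ≫ ψ.1 =
          lift ((lift (z ≫ Magnet.AMonS.map S f) n ≫ (Magnet.subAct S M (Y.comap f)).act) ≫
            Magnet.AMonS.map S κ') t ≫ ψ.1 := by
        rw [lift_whiskerRight_assoc, Magnet.MonAct.lift_prod_act_assoc,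
          Magnet.MonAct.lift_trivial_act, lift_whiskerRight_assoc]
      have hR : lift z (lift n t) ≫
            (Magnet.AMonS.map S f ▷ (Magnet.AMonS S ↥(Y.comap f) ⊗ unop T)) ≫
            (Magnet.AMonS S M ◁ ((Magnet.AMonS.map S κ' ▷ unop T) ≫ ψ.1)) ≫ a.act =
          lift (z ≫ Magnet.AMonS.map S f) (lift (n ≫ Magnet.AMonS.map S κ') t ≫ ψ.1) ≫ a.act := by
        rw [lift_whiskerRight_assoc, lift_whiskerLeft_assoc, lift_whiskerRight_assoc]
      calc _ = lift ((lift (z ≫ Magnet.AMonS.map S f) n ≫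
              (Magnet.subAct S M (Y.comap f)).act) ≫ Magnet.AMonS.map S κ') t ≫ ψ.1 := hL
        _ = lift (z ≫ Magnet.AMonS.map S f)
              (lift (n ≫ Magnet.AMonS.map S κ') t ≫ ψ.1) ≫ a.act := by
          rw [key, hψ T' z (n ≫ Magnet.AMonS.map S κ') t, Magnet.MonAct.lift_restrict_act]
        _ = _ := hR.symm
    refine ⟨⟨(Magnet.AMonS.map S κ' ▷ unop T) ≫ ψ.1, hφ⟩, ?_⟩
    apply Subtype.ext
    show (Magnet.AMonS.map S κ ▷ unop T) ≫ (Magnet.AMonS.map S κ' ▷ unop T) ≫ ψ.1 = ψ.1
    rw [← Category.assoc, ← MonoidalCategory.comp_whiskerRight, ← Magnet.AMonS.map_comp, hκκ',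
      AMonS_map_id, MonoidalCategory.id_whiskerRight, Category.id_comp]

end Groth.Agent.Lib.AMonDense
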