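import Mathlib
set_option autoImplicit false
set_option linter.style.haveILetI false

universe v u

open CategoryTheory CategoryTheory.Limits

namespace AbSubobjH4

variable {𝒜 : Type u} [Category.{v} 𝒜] [Abelian 𝒜]

/-! ### images -/

lemma epi_of_image_eq {A B : 𝒜} (S : Subobject B)
    (f : A ⟶ (S : 𝒜)) (h : imageSubobject (f ≫ S.arrow) = S) : Epi f := by
  have hle : imageSubobject (f ≫ S.arrow) ≤ S := le_of_eq h
  have hge : S ≤ imageSubobject (f ≫ S.arrow) := le_of_eq h.symm
  haveI : IsIso (Subobject.ofLE _ _ hle) :=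
    ⟨⟨Subobject.ofLE _ _ hge, by
      rw [Subobject.ofLE_comp_ofLE, Subobject.ofLE_refl], by
      rw [Subobject.ofLE_comp_ofLE, Subobject.ofLE_refl]⟩⟩
  have hf : factorThruImageSubobject (f ≫ S.arrow) ≫ Subobject.ofLE _ _ hle = f := by
    rw [← cancel_mono S.arrow, Category.assoc, Subobject.ofLE_arrow, imageSubobject_arrow_comp]
  rw [← hf]
  exact epi_comp _ _

theorem img_epi_comp {X' X Y : 𝒜} (h : X' ⟶ X) [Epi h] (f : X ⟶ Y) :
    imageSubobject (h ≫ f) = imageSubobject f := by
  refine le_antisymm (imageSubobject_comp_le h f) ?_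
  haveI : IsIso (Subobject.ofLE _ _ (imageSubobject_comp_le h f)) := isIso_of_mono_of_epi _
  refine Subobject.le_of_comm (inv (Subobject.ofLE _ _ (imageSubobject_comp_le h f))) ?_
  rw [IsIso.inv_comp_eq, Subobject.ofLE_arrow]

lemma image_arrow {X : 𝒜} (S : Subobject X) : imageSubobject S.arrow = S := by
  rw [imageSubobject_mono, Subobject.mk_arrow]

lemma le_of_factors {X : 𝒜} (A B : Subobject X) (h : B.Factors A.arrow) : A ≤ B :=
  Subobject.le_of_comm (B.factorThru _ h) (B.factorThru_arrow _ h)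

lemma le_of_epi_factors {X P : 𝒜} (S S' : Subobject X) (b : P ⟶ (S' : 𝒜)) [Epi b]
    (h : S.Factors (b ≫ S'.arrow)) : S' ≤ S := by
  calc S' = imageSubobject S'.arrow := (image_arrow S').symm
    _ = imageSubobject (b ≫ S'.arrow) := (img_epi_comp b _).symm
    _ = imageSubobject (S.factorThru _ h ≫ S.arrow) := by rw [Subobject.factorThru_arrow]
    _ ≤ imageSubobject S.arrow := imageSubobject_comp_le _ _
    _ = S := image_arrow S

lemma image_comp_mono {X Y : 𝒜} {S S' : Subobject X} (h : S ≤ S') (g : X ⟶ Y) :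
    imageSubobject (S.arrow ≫ g) ≤ imageSubobject (S'.arrow ≫ g) := by
  have : S.arrow ≫ g = Subobject.ofLE S S' h ≫ S'.arrow ≫ g := by
    rw [← Category.assoc, Subobject.ofLE_arrow]
  rw [this]
  exact imageSubobject_comp_le _ _

lemma exists_epi_lift' {A A' I Y : 𝒜} (e : A ⟶ I) [Epi e] (m : I ⟶ Y) (e' : A' ⟶ I) :
    ∃ (P : 𝒜) (a : P ⟶ A) (b : P ⟶ A'), Epi b ∧ a ≫ (e ≫ m) = b ≫ (e' ≫ m) :=
  ⟨pullback e e', pullback.fst e e', pullback.snd e e', inferInstance, by
    rw [← Category.assoc, pullback.condition, Category.assoc]⟩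

lemma exists_epi_lift {A A' Y : 𝒜} (u : A ⟶ Y) (u' : A' ⟶ Y)
    (h : imageSubobject u' ≤ imageSubobject u) :
    ∃ (P : 𝒜) (a : P ⟶ A) (b : P ⟶ A'), Epi b ∧ a ≫ u = b ≫ u' := by
  obtain ⟨P, a, b, hb, hab⟩ := exists_epi_lift' (factorThruImageSubobject u)
    (imageSubobject u).arrow (factorThruImageSubobject u' ≫ Subobject.ofLE _ _ h)
  refine ⟨P, a, b, hb, ?_⟩
  rw [imageSubobject_arrow_comp, Category.assoc, Subobject.ofLE_arrow,
    imageSubobject_arrow_comp] at hab
  exact hab

/-! ### the key lemma -/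

theorem le_of_pullback_le_of_image_le {X₁ X₂ X₃ : 𝒜} (f : X₁ ⟶ X₂) (g : X₂ ⟶ X₃)
    (hker : ∀ {W : 𝒜} (k : W ⟶ X₂), k ≫ g = 0 → ∃ l : W ⟶ X₁, l ≫ f = k)
    (S S' : Subobject X₂) (hSS' : S ≤ S')
    (hpb : (Subobject.pullback f).obj S' ≤ (Subobject.pullback f).obj S)
    (him : imageSubobject (S'.arrow ≫ g) ≤ imageSubobject (S.arrow ≫ g)) : S' ≤ S := by
  obtain ⟨P, a, b, hb, hab⟩ := exists_epi_lift (S.arrow ≫ g) (S'.arrow ≫ g) him
  haveI := hb
  have hd : (a ≫ S.arrow - b ≫ S'.arrow) ≫ g = 0 := by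
    rw [Preadditive.sub_comp, Category.assoc, Category.assoc, hab, sub_self]
  obtain ⟨z, hz⟩ := hker _ hd
  have hfac' : S'.Factors (z ≫ f) := by
    have : a ≫ S.arrow - b ≫ S'.arrow = (a ≫ Subobject.ofLE S S' hSS' - b) ≫ S'.arrow := by
      rw [Preadditive.sub_comp, Category.assoc, Subobject.ofLE_arrow]
    rw [hz, this]
    exact Subobject.factors_comp_arrow _
  have hz' : ((Subobject.pullback f).obj S').Factors z := (pullback_factors_iff f S' z).2 hfac'
  have hz'' : ((Subobject.pullback f).obj S).Factors z := Subobject.factors_of_le _ hpb hz'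
  have hfac : S.Factors (z ≫ f) := (pullback_factors_iff f S z).1 hz''
  apply le_of_epi_factors S S' b
  have h1 : b ≫ S'.arrow = a ≫ S.arrow - z ≫ f := by
    rw [hz]
    abel
  have h2 : a ≫ S.arrow - z ≫ f = (a - S.factorThru _ hfac) ≫ S.arrow := by
    rw [Preadditive.sub_comp, Subobject.factorThru_arrow]
  rw [h1, h2]
  exact Subobject.factors_comp_arrow _

theorem eq_of_le_of_pullback_eq_of_image_eq (T : ShortComplex 𝒜) (hT : T.ShortExact)
    (S S' : Subobject T.X₂) (hSS' : S ≤ S')
    (hpb : (Subobject.pullback T.f).obj S = (Subobject.pullback T.f).obj S')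
    (him : imageSubobject (S.arrow ≫ T.g) = imageSubobject (S'.arrow ≫ T.g)) : S = S' := by
  haveI := hT.mono_f
  exact le_antisymm hSS' (le_of_pullback_le_of_image_le T.f T.g
    (fun k hk => ⟨hT.exact.lift k hk, hT.exact.lift_f k hk⟩) S S' hSS' hpb.ge him.ge)

/-! ### sup as an image, modularity -/

section lattice

variable {X : 𝒜}

lemma desc_ofLE_arrow (S Z : Subobject X) :
    biprod.desc (Subobject.ofLE S (S ⊔ Z) le_sup_left) (Subobject.ofLE Z (S ⊔ Z) le_sup_right) ≫
      (S ⊔ Z).arrow = biprod.desc S.arrow Z.arrow := by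
  apply biprod.hom_ext'
  · rw [biprod.inl_desc_assoc, Subobject.ofLE_arrow, biprod.inl_desc]
  · rw [biprod.inr_desc_assoc, Subobject.ofLE_arrow, biprod.inr_desc]

lemma sup_eq_image (S Z : Subobject X) :
    S ⊔ Z = imageSubobject (biprod.desc S.arrow Z.arrow) := by
  apply le_antisymm
  · apply sup_le
    · refine Subobject.le_of_comm (biprod.inl ≫ factorThruImageSubobject _) ?_
      rw [Category.assoc, imageSubobject_arrow_comp, biprod.inl_desc]
    · refine Subobject.le_of_comm (biprod.inr ≫ factorThruImageSubobject _) ?_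
      rw [Category.assoc, imageSubobject_arrow_comp, biprod.inr_desc]
  · exact imageSubobject_le _ _ (desc_ofLE_arrow S Z)

lemma epi_desc_ofLE (S Z : Subobject X) :
    Epi (biprod.desc (Subobject.ofLE S (S ⊔ Z) le_sup_left)
      (Subobject.ofLE Z (S ⊔ Z) le_sup_right)) := by
  apply epi_of_image_eq (S ⊔ Z)
  rw [desc_ofLE_arrow]
  exact (sup_eq_image S Z).symm

lemma image_sup_arrow_comp {Y : 𝒜} (S Z : Subobject X) (g : X ⟶ Y) (hZ : Z.arrow ≫ g = 0) :
    imageSubobject ((S ⊔ Z).arrow ≫ g) = imageSubobject (S.arrow ≫ g) := by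
  haveI := epi_desc_ofLE S Z
  have e : biprod.desc (Subobject.ofLE S (S ⊔ Z) le_sup_left)
      (Subobject.ofLE Z (S ⊔ Z) le_sup_right) ≫ (S ⊔ Z).arrow ≫ g =
      biprod.fst ≫ S.arrow ≫ g := by
    rw [← Category.assoc, desc_ofLE_arrow]
    apply biprod.hom_ext'
    · rw [biprod.inl_desc_assoc, biprod.inl_fst_assoc]
    · rw [biprod.inr_desc_assoc, biprod.inr_fst_assoc, hZ, zero_comp]
  calc imageSubobject ((S ⊔ Z).arrow ≫ g)
      = imageSubobject (biprod.desc (Subobject.ofLE S (S ⊔ Z) le_sup_left)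
          (Subobject.ofLE Z (S ⊔ Z) le_sup_right) ≫ (S ⊔ Z).arrow ≫ g) :=
        (img_epi_comp _ _).symm
    _ = imageSubobject (biprod.fst ≫ S.arrow ≫ g) := by rw [e]
    _ = imageSubobject (S.arrow ≫ g) :=
        img_epi_comp (biprod.fst : (S : 𝒜) ⊞ (Z : 𝒜) ⟶ (S : 𝒜)) _

theorem modular_aux (S S' Z : Subobject X) (h1 : S ≤ S') (h2 : S' ⊓ Z ≤ S)
    (h3 : S' ≤ S ⊔ Z) : S' ≤ S := by
  apply le_of_pullback_le_of_image_le Z.arrow (cokernel.π Z.arrow)
    (fun k hk => ⟨Abelian.monoLift Z.arrow k hk, Abelian.monoLift_comp _ _ _⟩) S S' h1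
  · apply le_of_factors
    rw [pullback_factors_iff]
    apply Subobject.factors_of_le _ h2
    rw [Subobject.inf_factors]
    constructor
    · rw [← (Subobject.isPullback Z.arrow S').w]
      exact Subobject.factors_comp_arrow _
    · exact Subobject.factors_comp_arrow _
  · calc imageSubobject (S'.arrow ≫ cokernel.π Z.arrow)
        ≤ imageSubobject ((S ⊔ Z).arrow ≫ cokernel.π Z.arrow) := image_comp_mono h3 _
      _ = imageSubobject (S.arrow ≫ cokernel.π Z.arrow) :=
        image_sup_arrow_comp S Z _ (cokernel.condition _)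

instance : IsModularLattice (Subobject X) where
  sup_inf_le_assoc_of_le := by
    intro x y z hxz
    apply modular_aux (x ⊔ y ⊓ z) ((x ⊔ y) ⊓ z) y
    · exact le_inf (sup_le le_sup_left (inf_le_left.trans le_sup_right)) (sup_le hxz inf_le_right)
    · exact le_sup_of_le_right (le_inf inf_le_right (inf_le_left.trans inf_le_right))
    · exact inf_le_left.trans (sup_le (le_sup_of_le_left le_sup_left) le_sup_right)

/-! ### second isomorphism theorem -/

theorem secondIso (S Z : Subobject X) :
    Nonempty (cokernel (Subobject.ofLE (S ⊓ Z) Z inf_le_right) ≅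
      cokernel (Subobject.ofLE S (S ⊔ Z) le_sup_left)) := by
  haveI := epi_desc_ofLE S Z
  have hpφ : biprod.desc (Subobject.ofLE S (S ⊔ Z) le_sup_left)
      (Subobject.ofLE Z (S ⊔ Z) le_sup_right) ≫
      cokernel.π (Subobject.ofLE S (S ⊔ Z) le_sup_left) =
      biprod.snd ≫ Subobject.ofLE Z (S ⊔ Z) le_sup_right ≫
        cokernel.π (Subobject.ofLE S (S ⊔ Z) le_sup_left) := by
    apply biprod.hom_ext'
    · rw [biprod.inl_desc_assoc, cokernel.condition, biprod.inl_snd_assoc, zero_comp]
    · rw [biprod.inr_desc_assoc, biprod.inr_snd_assoc]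
  haveI : Epi ((biprod.snd : (S : 𝒜) ⊞ (Z : 𝒜) ⟶ (Z : 𝒜)) ≫
      Subobject.ofLE Z (S ⊔ Z) le_sup_right ≫
      cokernel.π (Subobject.ofLE S (S ⊔ Z) le_sup_left)) := by
    rw [← hpφ]
    exact epi_comp _ _
  haveI hφ : Epi (Subobject.ofLE Z (S ⊔ Z) le_sup_right ≫
      cokernel.π (Subobject.ofLE S (S ⊔ Z) le_sup_left)) :=
    epi_of_epi (biprod.snd : (S : 𝒜) ⊞ (Z : 𝒜) ⟶ (Z : 𝒜)) _
  have w : Subobject.ofLE (S ⊓ Z) Z inf_le_right ≫ Subobject.ofLE Z (S ⊔ Z) le_sup_right ≫
      cokernel.π (Subobject.ofLE S (S ⊔ Z) le_sup_left) = 0 := by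
    rw [← Category.assoc, Subobject.ofLE_comp_ofLE,
      ← Subobject.ofLE_comp_ofLE (S ⊓ Z) S (S ⊔ Z) inf_le_left le_sup_left, Category.assoc,
      cokernel.condition, comp_zero]
  have hker : IsLimit (KernelFork.ofι (Subobject.ofLE (S ⊓ Z) Z inf_le_right) w) := by
    refine KernelFork.IsLimit.ofι' _ w (fun {A} k hk => ?_)
    have hk' : (k ≫ Subobject.ofLE Z (S ⊔ Z) le_sup_right) ≫
        cokernel.π (Subobject.ofLE S (S ⊔ Z) le_sup_left) = 0 := by
      rw [Category.assoc]
      exact hk
    have hl : Abelian.monoLift (Subobject.ofLE S (S ⊔ Z) le_sup_left) _ hk' ≫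
        Subobject.ofLE S (S ⊔ Z) le_sup_left = k ≫ Subobject.ofLE Z (S ⊔ Z) le_sup_right :=
      Abelian.monoLift_comp _ _ _
    have hl' : Abelian.monoLift (Subobject.ofLE S (S ⊔ Z) le_sup_left) _ hk' ≫ S.arrow =
        k ≫ Z.arrow := by
      have := congrArg (fun t => t ≫ (S ⊔ Z).arrow) hl
      simpa only [Category.assoc, Subobject.ofLE_arrow] using this
    have hf : (S ⊓ Z).Factors (k ≫ Z.arrow) := by
      rw [Subobject.inf_factors]
      refine ⟨?_, Subobject.factors_comp_arrow k⟩
      rw [← hl']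
      exact Subobject.factors_comp_arrow _
    exact ⟨(S ⊓ Z).factorThru _ hf, by
      rw [← cancel_mono Z.arrow, Category.assoc, Subobject.ofLE_arrow,
        Subobject.factorThru_arrow]⟩
  have hT : (ShortComplex.mk (Subobject.ofLE (S ⊓ Z) Z inf_le_right)
      (Subobject.ofLE Z (S ⊔ Z) le_sup_right ≫
        cokernel.π (Subobject.ofLE S (S ⊔ Z) le_sup_left)) w).Exact :=
    ShortComplex.exact_of_f_is_kernel _ hker
  haveI : Epi (ShortComplex.mk (Subobject.ofLE (S ⊓ Z) Z inf_le_right)
      (Subobject.ofLE Z (S ⊔ Z) le_sup_right ≫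
        cokernel.π (Subobject.ofLE S (S ⊔ Z) le_sup_left)) w).g := hφ
  exact ⟨(cokernelIsCokernel (Subobject.ofLE (S ⊓ Z) Z inf_le_right)).coconePointUniqueUpToIso
    hT.gIsCokernel⟩

/-! ### simple quotients and covering -/

lemma le_of_epi_comp_cokernel {S R T : Subobject X} (hST : S ≤ T) (hSR : S ≤ R) (hRT : R ≤ T)
    (hepi : Epi (Subobject.ofLE R T hRT ≫ cokernel.π (Subobject.ofLE S T hST))) : T ≤ R := by
  haveI := hepi
  haveI : Epi (pullback.snd (Subobject.ofLE R T hRT ≫ cokernel.π (Subobject.ofLE S T hST))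
      (cokernel.π (Subobject.ofLE S T hST))) := inferInstance
  apply le_of_epi_factors R T (pullback.snd (Subobject.ofLE R T hRT ≫
    cokernel.π (Subobject.ofLE S T hST)) (cokernel.π (Subobject.ofLE S T hST)))
  have hc : (pullback.fst (Subobject.ofLE R T hRT ≫ cokernel.π (Subobject.ofLE S T hST))
      (cokernel.π (Subobject.ofLE S T hST)) ≫ Subobject.ofLE R T hRT -
      pullback.snd (Subobject.ofLE R T hRT ≫ cokernel.π (Subobject.ofLE S T hST))
      (cokernel.π (Subobject.ofLE S T hST))) ≫ cokernel.π (Subobject.ofLE S T hST) = 0 := by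
    rw [Preadditive.sub_comp, Category.assoc, pullback.condition, sub_self]
  have hl := Abelian.monoLift_comp (Subobject.ofLE S T hST) _ hc
  have h1 : pullback.snd (Subobject.ofLE R T hRT ≫ cokernel.π (Subobject.ofLE S T hST))
      (cokernel.π (Subobject.ofLE S T hST)) ≫ T.arrow =
      (pullback.fst (Subobject.ofLE R T hRT ≫ cokernel.π (Subobject.ofLE S T hST))
        (cokernel.π (Subobject.ofLE S T hST)) -
        Abelian.monoLift (Subobject.ofLE S T hST) _ hc ≫ Subobject.ofLE S R hSR) ≫ R.arrow := by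
    have := congrArg (fun t => t ≫ T.arrow) hl
    simp only [Category.assoc, Subobject.ofLE_arrow, Preadditive.sub_comp] at this
    rw [Preadditive.sub_comp, Category.assoc, Subobject.ofLE_arrow, this]
    abel
  rw [h1]
  exact Subobject.factors_comp_arrow _

theorem covBy_of_simple {S T : Subobject X} (h : S ≤ T)
    (hs : Simple (cokernel (Subobject.ofLE S T h))) : S ⋖ T := by
  have hne : ¬ T ≤ S := by
    intro hTS
    haveI : IsIso (Subobject.ofLE S T h) :=
      ⟨⟨Subobject.ofLE T S hTS, by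
        rw [Subobject.ofLE_comp_ofLE, Subobject.ofLE_refl], by
        rw [Subobject.ofLE_comp_ofLE, Subobject.ofLE_refl]⟩⟩
    exact Simple.not_isZero _ (isZero_cokernel_of_epi (Subobject.ofLE S T h))
  refine ⟨lt_of_le_not_ge h hne, fun R hSR hRT => ?_⟩
  by_cases hr : Subobject.ofLE R T hRT.le ≫ cokernel.π (Subobject.ofLE S T h) = 0
  · apply hSR.not_ge
    have hl := Abelian.monoLift_comp (Subobject.ofLE S T h) _ hr
    refine Subobject.le_of_comm (Abelian.monoLift (Subobject.ofLE S T h) _ hr) ?_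
    have := congrArg (fun t => t ≫ T.arrow) hl
    simpa only [Category.assoc, Subobject.ofLE_arrow] using this
  · apply hRT.not_ge
    exact le_of_epi_comp_cokernel h hSR.le hRT.le (epi_of_nonzero_to_simple hr)

theorem simple_of_covBy {S T : Subobject X} (h : S ≤ T) (hc : S ⋖ T) :
    Simple (cokernel (Subobject.ofLE S T h)) := by
  have hQ : ¬ IsZero (cokernel (Subobject.ofLE S T h)) := by
    intro hz
    haveI : Epi (Subobject.ofLE S T h) :=
      Abelian.epi_of_cokernel_π_eq_zero _ (hz.eq_of_tgt _ _)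
    haveI : IsIso (Subobject.ofLE S T h) := isIso_of_mono_of_epi _
    apply hc.lt.not_ge
    refine Subobject.le_of_comm (inv (Subobject.ofLE S T h)) ?_
    rw [IsIso.inv_comp_eq, Subobject.ofLE_arrow]
  refine ⟨fun {Y} f _ => ⟨fun hiso hf0 => ?_, fun hf0 => ?_⟩⟩
  · apply hQ
    rw [IsZero.iff_id_eq_zero]
    exact (IsIso.inv_hom_id f).symm.trans
      ((congrArg (fun g => inv f ≫ g) hf0).trans comp_zero)
  · haveI : Mono (pullback.fst (cokernel.π (Subobject.ofLE S T h)) f) := inferInstance
    haveI : Epi (pullback.snd (cokernel.π (Subobject.ofLE S T h)) f) := inferInstance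
    have hRT : Subobject.mk (pullback.fst (cokernel.π (Subobject.ofLE S T h)) f ≫ T.arrow) ≤ T :=
      Subobject.mk_le_of_comm (pullback.fst (cokernel.π (Subobject.ofLE S T h)) f) rfl
    have hSR : S ≤ Subobject.mk (pullback.fst (cokernel.π (Subobject.ofLE S T h)) f ≫ T.arrow) :=
      Subobject.le_mk_of_comm (pullback.lift (Subobject.ofLE S T h) 0
        (by rw [cokernel.condition, zero_comp])) (by
        rw [← Category.assoc, pullback.lift_fst, Subobject.ofLE_arrow])
    rcases hc.eq_or_eq hSR hRT with hRS | hRT'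
    · exfalso
      apply hf0
      have hfac : S.Factors (pullback.fst (cokernel.π (Subobject.ofLE S T h)) f ≫ T.arrow) :=
        Subobject.factors_of_le _ hRS.le (Subobject.mk_factors_self _)
      have ha : S.factorThru _ hfac ≫ Subobject.ofLE S T h =
          pullback.fst (cokernel.π (Subobject.ofLE S T h)) f := by
        rw [← cancel_mono T.arrow, Category.assoc, Subobject.ofLE_arrow,
          Subobject.factorThru_arrow]
      have h0 : pullback.snd (cokernel.π (Subobject.ofLE S T h)) f ≫ f = 0 := by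
        rw [← pullback.condition, ← ha, Category.assoc, cokernel.condition, comp_zero]
      exact (cancel_epi (pullback.snd (cokernel.π (Subobject.ofLE S T h)) f)).1
        (h0.trans comp_zero.symm)
    · have hfac : (Subobject.mk (pullback.fst (cokernel.π (Subobject.ofLE S T h)) f ≫
          T.arrow)).Factors T.arrow :=
        Subobject.factors_of_le _ hRT'.ge (Subobject.factors_self T)
      have hla : (Subobject.factorThru _ _ hfac ≫ (Subobject.underlyingIso _).hom) ≫
          pullback.fst (cokernel.π (Subobject.ofLE S T h)) f = 𝟙 _ := by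
        rw [← cancel_mono T.arrow, Category.assoc, Category.assoc,
          Subobject.underlyingIso_hom_comp_eq_mk, Subobject.factorThru_arrow, Category.id_comp]
      haveI : Epi (pullback.fst (cokernel.π (Subobject.ofLE S T h)) f) := epi_of_epi_fac hla
      haveI : Epi (pullback.snd (cokernel.π (Subobject.ofLE S T h)) f ≫ f) := by
        rw [← pullback.condition]
        exact epi_comp _ _
      haveI : Epi f := epi_of_epi (pullback.snd (cokernel.π (Subobject.ofLE S T h)) f) f
      exact isIso_of_mono_of_epi f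

end lattice

/-! ### noetherian and artinian objects -/

lemma isNoetherianObject_iff' (X : 𝒜) : IsNoetherianObject X ↔
    ∀ f : ℕ → Subobject X, Monotone f → ∃ n, ∀ m, n ≤ m → f n = f m := by
  rw [isNoetherianObject_iff_monotone_chain_condition]
  exact ⟨fun h f hf => h ⟨f, hf⟩, fun h f => h f f.monotone⟩

lemma isArtinianObject_iff' (X : 𝒜) : IsArtinianObject X ↔
    ∀ f : ℕ → Subobject X, Antitone f → ∃ n, ∀ m, n ≤ m → f n = f m := by
  rw [isArtinianObject_iff_antitone_chain_condition]
  exact ⟨fun h f hf => h ⟨fun n => OrderDual.toDual (f n), fun a b hab => hf hab⟩,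
    fun h f => h (fun n => OrderDual.ofDual (f n)) (fun a b hab => f.monotone hab)⟩

theorem isNoetherianObject_of_shortExact (T : ShortComplex 𝒜) (hT : T.ShortExact)
    [IsNoetherianObject T.X₁] [IsNoetherianObject T.X₃] : IsNoetherianObject T.X₂ := by
  rw [isNoetherianObject_iff']
  intro F hF
  obtain ⟨n₁, h₁⟩ := (isNoetherianObject_iff' T.X₁).1 inferInstance
    (fun n => (Subobject.pullback T.f).obj (F n))
    (fun a b h => (Subobject.pullback T.f).monotone (hF h))
  obtain ⟨n₂, h₂⟩ := (isNoetherianObject_iff' T.X₃).1 inferInstance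
    (fun n => imageSubobject ((F n).arrow ≫ T.g)) (fun a b h => image_comp_mono (hF h) T.g)
  refine ⟨max n₁ n₂, fun m hm => ?_⟩
  apply eq_of_le_of_pullback_eq_of_image_eq T hT _ _ (hF hm)
  · exact (h₁ _ (le_max_left _ _)).symm.trans (h₁ m ((le_max_left _ _).trans hm))
  · exact (h₂ _ (le_max_right _ _)).symm.trans (h₂ m ((le_max_right _ _).trans hm))

theorem isArtinianObject_of_shortExact (T : ShortComplex 𝒜) (hT : T.ShortExact)
    [IsArtinianObject T.X₁] [IsArtinianObject T.X₃] : IsArtinianObject T.X₂ := by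
  rw [isArtinianObject_iff']
  intro F hF
  obtain ⟨n₁, h₁⟩ := (isArtinianObject_iff' T.X₁).1 inferInstance
    (fun n => (Subobject.pullback T.f).obj (F n))
    (fun a b h => (Subobject.pullback T.f).monotone (hF h))
  obtain ⟨n₂, h₂⟩ := (isArtinianObject_iff' T.X₃).1 inferInstance
    (fun n => imageSubobject ((F n).arrow ≫ T.g)) (fun a b h => image_comp_mono (hF h) T.g)
  refine ⟨max n₁ n₂, fun m hm => ?_⟩
  symm
  apply eq_of_le_of_pullback_eq_of_image_eq T hT _ _ (hF hm)
  · exact (h₁ m ((le_max_left _ _).trans hm)).symm.trans (h₁ _ (le_max_left _ _))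
  · exact (h₂ m ((le_max_right _ _).trans hm)).symm.trans (h₂ _ (le_max_right _ _))

lemma image_pullback_arrow {B C' : 𝒜} (g : B ⟶ C') [Epi g] (c : Subobject C') :
    imageSubobject (((Subobject.pullback g).obj c).arrow ≫ g) = c := by
  have hpb := Subobject.isPullback g c
  haveI : Epi (Subobject.pullbackπ g c) := Abelian.epi_fst_of_isLimit _ _ hpb.isLimit
  rw [← hpb.w, img_epi_comp, image_arrow]

theorem isNoetherianObject_of_epi {B C' : 𝒜} (g : B ⟶ C') [Epi g] [IsNoetherianObject B] :
    IsNoetherianObject C' := by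
  rw [isNoetherianObject_iff']
  intro F hF
  obtain ⟨n, hn⟩ := (isNoetherianObject_iff' B).1 inferInstance
    (fun k => (Subobject.pullback g).obj (F k))
    (fun a b h => (Subobject.pullback g).monotone (hF h))
  refine ⟨n, fun m hm => ?_⟩
  calc F n = imageSubobject (((Subobject.pullback g).obj (F n)).arrow ≫ g) :=
        (image_pullback_arrow g _).symm
    _ = imageSubobject (((Subobject.pullback g).obj (F m)).arrow ≫ g) :=
        congrArg (fun P : Subobject B => imageSubobject (P.arrow ≫ g)) (hn m hm)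
    _ = F m := image_pullback_arrow g _

theorem isArtinianObject_of_epi {B C' : 𝒜} (g : B ⟶ C') [Epi g] [IsArtinianObject B] :
    IsArtinianObject C' := by
  rw [isArtinianObject_iff']
  intro F hF
  obtain ⟨n, hn⟩ := (isArtinianObject_iff' B).1 inferInstance
    (fun k => (Subobject.pullback g).obj (F k))
    (fun a b h => (Subobject.pullback g).monotone (hF h))
  refine ⟨n, fun m hm => ?_⟩
  calc F n = imageSubobject (((Subobject.pullback g).obj (F n)).arrow ≫ g) :=
        (image_pullback_arrow g _).symm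
    _ = imageSubobject (((Subobject.pullback g).obj (F m)).arrow ≫ g) :=
        congrArg (fun P : Subobject B => imageSubobject (P.arrow ≫ g)) (hn m hm)
    _ = F m := image_pullback_arrow g _

open scoped IsSimpleOrder in
lemma isNoetherianObject_of_simple (X : 𝒜) [Simple X] : IsNoetherianObject X :=
  ⟨show WellFoundedGT (Subobject X) from inferInstance⟩

open scoped IsSimpleOrder in
lemma isArtinianObject_of_simple (X : 𝒜) [Simple X] : IsArtinianObject X :=
  ⟨show WellFoundedLT (Subobject X) from inferInstance⟩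

/-! ### chains of coverings -/

lemma exists_covBy_series {α : Type*} [PartialOrder α] [OrderTop α] [WellFoundedLT α]
    [WellFoundedGT α] (a : α) :
    ∃ s : RelSeries {(x, y) : α × α | x ⋖ y}, s.head = a ∧ s.last = ⊤ := by
  induction a using WellFoundedGT.induction with
  | ind a ih =>
    by_cases ha : a = ⊤
    · exact ⟨RelSeries.singleton _ a, RelSeries.head_singleton a, by
        rw [RelSeries.last_singleton, ha]⟩
    · have hmax : ¬ IsMax a := fun h => ha (isMax_iff_eq_top.1 h)
      obtain ⟨b, hab⟩ := exists_covBy_of_wellFoundedLT hmax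
      obtain ⟨s, hs0, hsl⟩ := ih b hab.lt
      have hrel : a ⋖ s.head := by
        rw [hs0]
        exact hab
      exact ⟨s.cons a hrel, RelSeries.head_cons _ _ _, by rw [RelSeries.last_cons, hsl]⟩

/-! ### Jordan–Hölder -/

section JH

variable (X : 𝒜)

/-- the relation "isomorphic quotients" on pairs of subobjects -/
def quotRel (p q : Subobject X × Subobject X) : Prop :=
  (p.1 ≤ p.2 ↔ q.1 ≤ q.2) ∧ ∀ (h₁ : p.1 ≤ p.2) (h₂ : q.1 ≤ q.2),
    Nonempty (cokernel (Subobject.ofLE p.1 p.2 h₁) ≅ cokernel (Subobject.ofLE q.1 q.2 h₂))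

lemma quotRel_refl {p : Subobject X × Subobject X} : quotRel X p p :=
  ⟨Iff.rfl, fun _ _ => ⟨Iso.refl _⟩⟩

lemma quotRel_symm {p q : Subobject X × Subobject X} (h : quotRel X p q) : quotRel X q p :=
  ⟨h.1.symm, fun h₁ h₂ => (h.2 h₂ h₁).map Iso.symm⟩

lemma quotRel_trans {p q r : Subobject X × Subobject X} (h : quotRel X p q)
    (h' : quotRel X q r) : quotRel X p r :=
  ⟨h.1.trans h'.1, fun h₁ h₃ => by
    obtain ⟨e⟩ := h.2 h₁ (h.1.1 h₁)
    obtain ⟨e'⟩ := h'.2 (h.1.1 h₁) h₃
    exact ⟨e ≪≫ e'⟩⟩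

lemma quotRel_second {x y : Subobject X} :
    quotRel X (x, x ⊔ y) (x ⊓ y, y) :=
  ⟨⟨fun _ => inf_le_right, fun _ => le_sup_left⟩, fun _ _ => (secondIso x y).map Iso.symm⟩

theorem main1078 (n : ℕ) (F : Fin (n + 1) → Subobject X) (hF : Monotone F) (hF0 : F 0 = ⊥)
    (hFn : F (Fin.last n) = ⊤)
    (hFs : ∀ i : Fin n, Simple (cokernel (Subobject.ofLE (F (Fin.castSucc i)) (F (Fin.succ i))
      (hF (Fin.castSucc_lt_succ (i := i)).le))))
    (m : ℕ) (G : Fin (m + 1) → Subobject X) (hG : Monotone G) (hG0 : G 0 = ⊥)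
    (hGm : G (Fin.last m) = ⊤)
    (hGs : ∀ j : Fin m, Simple (cokernel (Subobject.ofLE (G (Fin.castSucc j)) (G (Fin.succ j))
      (hG (Fin.castSucc_lt_succ (i := j)).le)))) :
    ∃ (e : n = m) (σ : Equiv.Perm (Fin m)), ∀ i : Fin n,
      Nonempty (cokernel (Subobject.ofLE (F (Fin.castSucc i)) (F (Fin.succ i))
          (hF (Fin.castSucc_lt_succ (i := i)).le)) ≅
        cokernel (Subobject.ofLE (G (Fin.castSucc (σ (Fin.cast e i))))
          (G (Fin.succ (σ (Fin.cast e i))))
          (hG (Fin.castSucc_lt_succ (i := σ (Fin.cast e i))).le))) := by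
  let s₁ : CompositionSeries (Subobject X) :=
    { length := n
      toFun := F
      step := fun i => by
        show F (Fin.castSucc i) ⋖ F i.succ
        exact covBy_of_simple _ (hFs i) }
  let s₂ : CompositionSeries (Subobject X) :=
    { length := m
      toFun := G
      step := fun i => by
        show G (Fin.castSucc i) ⋖ G i.succ
        exact covBy_of_simple _ (hGs i) }
  obtain ⟨f, hf⟩ := CompositionSeries.jordan_holder s₁ s₂ (hF0.trans hG0.symm)
    (hFn.trans hGm.symm)
  have e : n = m := by simpa using Fintype.card_congr f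
  subst e
  refine ⟨rfl, f, fun i => ?_⟩
  have := JordanHolderLattice.Iso.rel (X := Subobject X) (quotRel X) (quotRel_refl X)
    (quotRel_symm X) (quotRel_trans X) (fun _ => quotRel_second X) (hf i)
  exact this.2 _ _

theorem main1077 : (IsArtinianObject X ∧ IsNoetherianObject X) ↔
    ∃ (n : ℕ) (F : Fin (n + 1) → Subobject X) (hF : Monotone F), F 0 = ⊥ ∧
      F (Fin.last n) = ⊤ ∧
      ∀ i : Fin n, Simple (cokernel (Subobject.ofLE (F (Fin.castSucc i)) (F (Fin.succ i))
        (hF (Fin.castSucc_lt_succ (i := i)).le))) := by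
  constructor
  · rintro ⟨hA, hN⟩
    haveI := hA
    haveI := hN
    obtain ⟨s, hs0, hsl⟩ := exists_covBy_series (α := Subobject X) ⊥
    refine ⟨s.length, s.toFun, Fin.monotone_iff_le_succ.2 (fun i => (s.step i).le), hs0, hsl,
      fun i => ?_⟩
    exact simple_of_covBy _ (s.step i)
  · rintro ⟨n, F, hF, hF0, hFn, hFs⟩
    have key : ∀ i : Fin (n + 1), IsArtinianObject (F i : 𝒜) ∧ IsNoetherianObject (F i : 𝒜) := by
      intro i
      induction i using Fin.induction with
      | zero =>
        rw [hF0]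
        have hz : IsZero ((⊥ : Subobject X) : 𝒜) :=
          IsZero.of_iso (isZero_zero 𝒜) Subobject.botCoeIsoZero
        exact ⟨isArtinianObject_of_isZero hz, isNoetherianObject_of_isZero hz⟩
      | succ i ih =>
        obtain ⟨ha, hn⟩ := ih
        haveI := hFs i
        have hT : (ShortComplex.mk (Subobject.ofLE (F (Fin.castSucc i)) (F (Fin.succ i))
            (hF (Fin.castSucc_lt_succ (i := i)).le)) (cokernel.π _)
            (cokernel.condition _)).ShortExact :=
          ShortComplex.ShortExact.mk' (ShortComplex.exact_cokernel _) inferInstance inferInstance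
        haveI : IsArtinianObject (ShortComplex.mk (Subobject.ofLE (F (Fin.castSucc i))
            (F (Fin.succ i)) (hF (Fin.castSucc_lt_succ (i := i)).le)) (cokernel.π _)
            (cokernel.condition _)).X₁ := ha
        haveI : IsNoetherianObject (ShortComplex.mk (Subobject.ofLE (F (Fin.castSucc i))
            (F (Fin.succ i)) (hF (Fin.castSucc_lt_succ (i := i)).le)) (cokernel.π _)
            (cokernel.condition _)).X₁ := hn
        haveI : IsArtinianObject (ShortComplex.mk (Subobject.ofLE (F (Fin.castSucc i))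
            (F (Fin.succ i)) (hF (Fin.castSucc_lt_succ (i := i)).le)) (cokernel.π _)
            (cokernel.condition _)).X₃ := isArtinianObject_of_simple _
        haveI : IsNoetherianObject (ShortComplex.mk (Subobject.ofLE (F (Fin.castSucc i))
            (F (Fin.succ i)) (hF (Fin.castSucc_lt_succ (i := i)).le)) (cokernel.π _)
            (cokernel.condition _)).X₃ := isNoetherianObject_of_simple _
        exact ⟨isArtinianObject_of_shortExact _ hT, isNoetherianObject_of_shortExact _ hT⟩
    have h := key (Fin.last n)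
    rw [hFn] at h
    haveI := h.1
    haveI := h.2
    exact ⟨isArtinianObject_of_mono (inv (⊤ : Subobject X).arrow),
      isNoetherianObject_of_mono (inv (⊤ : Subobject X).arrow)⟩

end JH

end AbSubobjH4
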