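import Mathlib
import Groth.Prelude.Def_ARSys
import Groth.Agent.Lib.AbSubobj_helper4
set_option autoImplicit false
set_option linter.style.haveILetI false

universe v u

open CategoryTheory CategoryTheory.Limits Opposite ARSys

namespace ARMLH4

variable {C : Type u} [Category.{v} C]

lemma tr_comp (X : PS C) {n m k : ℕ} (h₁ : n ≤ m) (h₂ : m ≤ k) :
    tr X h₂ ≫ tr X h₁ = tr X (h₁.trans h₂) := by
  show X.map _ ≫ X.map _ = X.map _
  rw [← X.map_comp]
  rfl

lemma nat_tr {X Y : PS C} (u : X ⟶ Y) {n m : ℕ} (h : n ≤ m) :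
    tr X h ≫ u.app (op n) = u.app (op m) ≫ tr Y h := u.naturality (homOfLE h).op

/-- the canonical map `X[r] ⟶ X` -/
def sigma (X : PS C) (r : ℕ) : (shift C r).obj X ⟶ X where
  app k := tr X (Nat.le_add_right k.unop r)
  naturality := by
    intro k k' f
    show X.map _ ≫ X.map _ = X.map _ ≫ X.map _
    rw [← X.map_comp, ← X.map_comp]
    exact congrArg X.map (Subsingleton.elim _ _)

lemma sigma_app (X : PS C) (r n : ℕ) : (sigma X r).app (op n) = shiftMap X r n := rfl

variable [Abelian C]

lemma epi_of_image_eq' {A B' B : C} (f : A ⟶ B') (i : B' ⟶ B) [Mono i]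
    (h : imageSubobject (f ≫ i) = imageSubobject i) : Epi f := by
  haveI : Epi (f ≫ (Subobject.underlyingIso i).inv) := by
    apply AbSubobjH4.epi_of_image_eq (Subobject.mk i)
    rw [Category.assoc, Subobject.underlyingIso_arrow, h, imageSubobject_mono]
  have : f = (f ≫ (Subobject.underlyingIso i).inv) ≫ (Subobject.underlyingIso i).hom := by
    rw [Category.assoc, Iso.inv_hom_id, Category.comp_id]
  rw [this]
  exact epi_comp _ _

lemma image_iota_eq {X Y : PS C} (u : Y ⟶ X) (n : ℕ) :
    imageSubobject ((Abelian.image.ι u).app (op n)) = imageSubobject (u.app (op n)) := by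
  calc imageSubobject ((Abelian.image.ι u).app (op n))
      = imageSubobject ((Abelian.factorThruImage u).app (op n) ≫
          (Abelian.image.ι u).app (op n)) := (AbSubobjH4.img_epi_comp _ _).symm
    _ = imageSubobject (u.app (op n)) := by rw [← NatTrans.comp_app, Abelian.image.fac]

lemma image_le_of_comp_cokernel {X Y : PS C} (u : Y ⟶ X) (n : ℕ) {W : C}
    (f : W ⟶ X.obj (op n)) (hf : f ≫ (cokernel.π u).app (op n) = 0) :
    imageSubobject f ≤ imageSubobject (u.app (op n)) := by
  have hT : (ShortComplex.mk (kernel.ι (cokernel.π u)) (cokernel.π u)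
      (kernel.condition _)).ShortExact :=
    ShortComplex.ShortExact.mk' (ShortComplex.exact_kernel _) inferInstance inferInstance
  have hev := hT.map_of_exact ((evaluation ℕᵒᵖ C).obj (op n))
  haveI := hev.mono_f
  have hl := hev.exact.lift_f f hf
  calc imageSubobject f
      = imageSubobject (hev.exact.lift f hf ≫ (Abelian.image.ι u).app (op n)) := by
        exact congrArg (fun t => imageSubobject t) hl.symm
    _ ≤ imageSubobject ((Abelian.image.ι u).app (op n)) := imageSubobject_comp_le _ _
    _ = imageSubobject (u.app (op n)) := image_iota_eq u n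

lemma isARNull_gen {Q : PS C} {r : ℕ} (hr : ∀ n, shiftMap Q r n = 0) {n m : ℕ} (h : n ≤ m)
    (h' : n + r ≤ m) : tr Q h = 0 := by
  have : tr Q h = tr Q h' ≫ tr Q (Nat.le_add_right n r) := (tr_comp Q _ _).symm
  rw [this]
  show _ ≫ shiftMap Q r n = 0
  rw [hr, comp_zero]

lemma image_shiftMap_anti (X : PS C) (n : ℕ) {s s' : ℕ} (h : s ≤ s') :
    imageSubobject (shiftMap X s' n) ≤ imageSubobject (shiftMap X s n) := by
  have : shiftMap X s' n = tr X (Nat.add_le_add_left h n) ≫ shiftMap X s n :=
    (tr_comp X _ _).symm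
  rw [this]
  exact imageSubobject_comp_le _ _

lemma mlar_image {X : PS C} {r : ℕ}
    (hr : ∀ s, r ≤ s → ∀ n, imageSubobject (shiftMap X s n) = imageSubobject (shiftMap X r n))
    {n k : ℕ} (h : n ≤ k) (h' : n + r ≤ k) :
    imageSubobject (tr X h) = imageSubobject (shiftMap X r n) := by
  obtain ⟨s, rfl⟩ := Nat.exists_eq_add_of_le h
  exact hr s (by omega) n

lemma comp_cokernel_shift {X Y : PS C} (u : Y ⟶ X) {r : ℕ}
    (hr : ∀ n, shiftMap (cokernel u) r n = 0) (n s : ℕ) (hs : r ≤ s) :
    shiftMap X s n ≫ (cokernel.π u).app (op n) = 0 := by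
  have nat := nat_tr (cokernel.π u) (Nat.le_add_right n s)
  show tr X (Nat.le_add_right n s) ≫ _ = 0
  rw [nat, isARNull_gen hr (Nat.le_add_right n s) (Nat.add_le_add_left hs n), comp_zero]

theorem main8631 {X Y : PS C} (u : Y ⟶ X) (hY : IsStrict Y) (hu : IsARIso u) :
    ∃ r : ℕ, ∀ s : ℕ, r ≤ s → ∀ n : ℕ,
      imageSubobject (shiftMap X s n) = imageSubobject (u.app (op n)) := by
  obtain ⟨-, r, hr⟩ := hu
  refine ⟨r, fun s hs n => le_antisymm ?_ ?_⟩
  · exact image_le_of_comp_cokernel u n _ (comp_cokernel_shift u hr n s hs)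
  · haveI := hY n (n + s) (Nat.le_add_right n s)
    have nat := nat_tr u (Nat.le_add_right n s)
    calc imageSubobject (u.app (op n))
        = imageSubobject (tr Y (Nat.le_add_right n s) ≫ u.app (op n)) :=
          (AbSubobjH4.img_epi_comp _ _).symm
      _ = imageSubobject (u.app (op (n + s)) ≫ tr X (Nat.le_add_right n s)) := by rw [nat]
      _ ≤ imageSubobject (shiftMap X s n) := imageSubobject_comp_le _ _

/-- the system of universal images for a uniformly ML system -/
lemma univImages {X : PS C} {r : ℕ}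
    (hr : ∀ s, r ≤ s → ∀ n, imageSubobject (shiftMap X s n) = imageSubobject (shiftMap X r n)) :
    IsStrict (Abelian.image (sigma X r)) ∧
      (∀ n, imageSubobject ((Abelian.image.ι (sigma X r)).app (op n)) =
        imageSubobject (shiftMap X r n)) ∧
      IsARNull (kernel (Abelian.image.ι (sigma X r))) ∧
      IsARNull (cokernel (Abelian.image.ι (sigma X r))) := by
  refine ⟨?_, fun n => image_iota_eq (sigma X r) n, ?_, ?_⟩
  · intro n m h
    have nat := nat_tr (Abelian.factorThruImage (sigma X r)) h
    have hcomp : (tr ((shift C r).obj X) h ≫ (Abelian.factorThruImage (sigma X r)).app (op n)) ≫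
        (Abelian.image.ι (sigma X r)).app (op n) = tr X (h.trans (Nat.le_add_right m r)) := by
      rw [Category.assoc, ← NatTrans.comp_app, Abelian.image.fac]
      exact tr_comp X (Nat.le_add_right n r) (Nat.add_le_add_right h r)
    haveI key : Epi (tr ((shift C r).obj X) h ≫
        (Abelian.factorThruImage (sigma X r)).app (op n)) := by
      apply epi_of_image_eq' _ ((Abelian.image.ι (sigma X r)).app (op n))
      have h3 : imageSubobject (tr X (h.trans (Nat.le_add_right m r))) =
          imageSubobject ((Abelian.image.ι (sigma X r)).app (op n)) :=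
        (mlar_image hr _ (Nat.add_le_add_right h r)).trans (image_iota_eq (sigma X r) n).symm
      exact (congrArg (fun t => imageSubobject t) hcomp).trans h3
    rw [nat] at key
    exact epi_of_epi ((Abelian.factorThruImage (sigma X r)).app (op m)) _
  · exact ⟨0, fun n => IsZero.eq_of_src
      ((Functor.isZero_iff _).1 (isZero_kernel_of_mono (Abelian.image.ι (sigma X r))) _) _ _⟩
  · refine ⟨r, fun n => ?_⟩
    show (tr (cokernel (Abelian.image.ι (sigma X r))) (Nat.le_add_right n r) :
      (cokernel (Abelian.image.ι (sigma X r))).obj (op (n + r)) ⟶ _) = 0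
    rw [← cancel_epi ((cokernel.π (Abelian.image.ι (sigma X r))).app (op (n + r))), comp_zero]
    have nat := nat_tr (cokernel.π (Abelian.image.ι (sigma X r))) (Nat.le_add_right n r)
    have h1 : (Abelian.image.ι (sigma X r)).app (op n) ≫
        (cokernel.π (Abelian.image.ι (sigma X r))).app (op n) = 0 := by
      rw [← NatTrans.comp_app, cokernel.condition]
      rfl
    have h2 : tr X (Nat.le_add_right n r) = (Abelian.factorThruImage (sigma X r)).app (op n) ≫
        (Abelian.image.ι (sigma X r)).app (op n) := by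
      rw [← NatTrans.comp_app, Abelian.image.fac]
      rfl
    have h3 : tr X (Nat.le_add_right n r) ≫
        (cokernel.π (Abelian.image.ι (sigma X r))).app (op n) = 0 := by
      have := congrArg (fun t => t ≫ (cokernel.π (Abelian.image.ι (sigma X r))).app (op n)) h2
      exact this.trans ((Category.assoc _ _ _).trans (by rw [h1, comp_zero]))
    rw [← nat]
    exact h3

theorem main3151 (X : PS C) :
    IsMLAR X ↔ ∃ (Y : PS C) (u : Y ⟶ X), IsStrict Y ∧ IsARIso u := by
  constructor
  · rintro ⟨r, hr⟩
    obtain ⟨h1, -, h3, h4⟩ := univImages hr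
    exact ⟨_, Abelian.image.ι (sigma X r), h1, h3, h4⟩
  · rintro ⟨Y, u, hY, hu⟩
    obtain ⟨r, hr⟩ := main8631 u hY hu
    exact ⟨r, fun s hs n => (hr s hs n).trans (hr r le_rfl n).symm⟩

theorem main3188 (X : PS C) :
    IsMLAR X ↔ (IsML X ∧ ∃ (X' : PS C) (ι : X' ⟶ X), Mono ι ∧
      (∀ n : ℕ, ∃ r₀ : ℕ, ∀ r : ℕ, r₀ ≤ r →
        imageSubobject (ι.app (op n)) = imageSubobject (shiftMap X r n)) ∧
      IsARNull (cokernel ι)) := by
  constructor
  · rintro ⟨r, hr⟩
    obtain ⟨-, h2, -, h4⟩ := univImages hr
    refine ⟨fun n => ⟨r, fun s hs => hr s hs n⟩, _, Abelian.image.ι (sigma X r), inferInstance,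
      fun n => ⟨r, fun r' hr' => (h2 n).trans (hr r' hr' n).symm⟩, h4⟩
  · rintro ⟨-, X', ι, hmono, ha, r, hr⟩
    refine ⟨r, fun s hs n => ?_⟩
    have key : ∀ s, r ≤ s →
        imageSubobject (shiftMap X s n) = imageSubobject (ι.app (op n)) := by
      intro s hs
      apply le_antisymm
      · exact image_le_of_comp_cokernel ι n _ (comp_cokernel_shift ι hr n s hs)
      · obtain ⟨r₀, hr₀⟩ := ha n
        rw [hr₀ (max r₀ s) (le_max_left _ _)]
        exact image_shiftMap_anti X n (le_max_right _ _)
    exact (key s hs).trans (key r le_rfl).symm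

end ARMLH4
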