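import Mathlib
import Groth.Prelude.Def_ARSys
import Groth.Agent.Lib.AbSubobj_helper4
set_option autoImplicit false
set_option linter.style.haveILetI false

universe w v u

open CategoryTheory CategoryTheory.Limits Opposite

namespace ARNoethH4

variable {C : Type u} [Category.{v} C] [Abelian C]

/-- a class of objects closed under zero objects, quotients and extensions -/
structure SerreLike (P : C → Prop) : Prop where
  zero : ∀ Y : C, IsZero Y → P Y
  epi : ∀ {Y Z : C} (g : Y ⟶ Z) [Epi g], P Y → P Z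
  ext : ∀ (T : ShortComplex C), T.ShortExact → P T.X₁ → P T.X₃ → P T.X₂

lemma serreLike_noeth : SerreLike (fun Y : C => IsNoetherianObject Y) where
  zero Y h := isNoetherianObject_of_isZero h
  epi g _ h := by
    haveI := h
    exact AbSubobjH4.isNoetherianObject_of_epi g
  ext T hT h1 h3 := by
    haveI := h1
    haveI := h3
    exact AbSubobjH4.isNoetherianObject_of_shortExact T hT

lemma serreLike_art : SerreLike (fun Y : C => IsArtinianObject Y) where
  zero Y h := isArtinianObject_of_isZero h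
  epi g _ h := by
    haveI := h
    exact AbSubobjH4.isArtinianObject_of_epi g
  ext T hT h1 h3 := by
    haveI := h1
    haveI := h3
    exact AbSubobjH4.isArtinianObject_of_shortExact T hT

namespace SerreLike

variable {P : C → Prop} (hP : SerreLike P)
include hP

lemma sup {Y : C} (S Z : Subobject Y) (hS : P (S : C)) (hZ : P (Z : C)) :
    P ((S ⊔ Z : Subobject Y) : C) := by
  haveI := AbSubobjH4.epi_desc_ofLE S Z
  refine hP.epi (biprod.desc (Subobject.ofLE S (S ⊔ Z) le_sup_left)
    (Subobject.ofLE Z (S ⊔ Z) le_sup_right)) ?_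
  exact hP.ext _ (ShortComplex.Splitting.ofHasBinaryBiproduct (S : C) (Z : C)).shortExact hS hZ

lemma finset_sup {Y : C} {ι : Type*} (s : Finset ι) (f : ι → Subobject Y)
    (h : ∀ i ∈ s, P (f i : C)) : P ((s.sup f : Subobject Y) : C) := by
  classical
  induction s using Finset.induction_on with
  | empty =>
    rw [Finset.sup_empty]
    exact hP.zero _ (IsZero.of_iso (isZero_zero C) Subobject.botCoeIsoZero)
  | insert a s ha ih =>
    rw [Finset.sup_insert]
    exact hP.sup _ _ (h a (Finset.mem_insert_self a s))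
      (ih fun i hi => h i (Finset.mem_insert_of_mem hi))

lemma image {Y Z : C} (f : Y ⟶ Z) (h : P Y) : P ((imageSubobject f : Subobject Z) : C) :=
  hP.epi (factorThruImageSubobject f) h

end SerreLike

variable {A : Type w} [CommRing A] [Linear A C]

lemma epi_of_isQuot {I : Ideal A} {Y Q : C} (p : Y ⟶ Q) (hp : ARSys.IsQuot I p) : Epi p := by
  refine ⟨fun {Z} ψ₁ ψ₂ h => ?_⟩
  have hk : ARSys.HomKilledBy I (p ≫ ψ₁) := by
    intro a ha
    rw [← Linear.comp_smul, ← Category.id_comp ψ₁, ← Linear.smul_comp, hp.1 a ha, zero_comp,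
      comp_zero]
  exact (hp.2 Z (p ≫ ψ₁) hk).unique rfl h.symm

theorem step {P : C → Prop} (hP : SerreLike P) (J : Ideal A) [IsNoetherianRing A]
    (X : ARSys.PS C) (hX : ARSys.IsAdic J X) (n : ℕ) (h0 : P (X.obj (op 0)))
    (hn : P (X.obj (op n))) : P (X.obj (op (n + 1))) := by
  obtain ⟨hkilled, hquot⟩ := hX
  have hk : ARSys.KilledBy (J ^ (n + 1 + 1)) (X.obj (op (n + 1))) := hkilled (n + 1)
  obtain ⟨p0, hq0⟩ : ∃ p0 : X.obj (op (n + 1)) ⟶ X.obj (op 0), ARSys.IsQuot (J ^ (0 + 1)) p0 :=
    ⟨_, hquot 0 (n + 1) (Nat.zero_le _)⟩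
  obtain ⟨pn, hqn⟩ : ∃ pn : X.obj (op (n + 1)) ⟶ X.obj (op n), ARSys.IsQuot (J ^ (n + 1)) pn :=
    ⟨_, hquot n (n + 1) (Nat.le_succ n)⟩
  haveI := epi_of_isQuot p0 hq0
  haveI := epi_of_isQuot pn hqn
  obtain ⟨s, hs⟩ := (isNoetherianRing_iff_ideal_fg A).1 inferInstance (J ^ (n + 1))
  have hβ : ∀ b : A, ∃ β : X.obj (op 0) ⟶ X.obj (op (n + 1)),
      b ∈ J ^ (n + 1) → p0 ≫ β = b • 𝟙 _ := by
    intro b
    by_cases hb : b ∈ J ^ (n + 1)
    · have hkb : ARSys.HomKilledBy (J ^ (0 + 1)) (b • 𝟙 (X.obj (op (n + 1)))) := by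
        intro a ha
        rw [← mul_smul]
        apply hk
        rw [zero_add, pow_one] at ha
        rw [pow_succ']
        exact Ideal.mul_mem_mul ha hb
      obtain ⟨β, hβ, -⟩ := hq0.2 _ _ hkb
      exact ⟨β, fun _ => hβ⟩
    · exact ⟨0, fun h => absurd h hb⟩
  choose β hβ using hβ
  obtain ⟨I, hI⟩ : ∃ I : Subobject (X.obj (op (n + 1))),
      I = s.sup (fun b => imageSubobject (β b)) := ⟨_, rfl⟩
  have hPI : P ((I : Subobject _) : C) := by
    rw [hI]
    exact hP.finset_sup s _ (fun b _ => hP.image (β b) h0)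
  have hq : ARSys.HomKilledBy (J ^ (n + 1)) (cokernel.π I.arrow) := by
    intro a ha
    rw [← hs] at ha
    refine Submodule.span_induction (p := fun a _ => a • cokernel.π I.arrow = 0) ?_ ?_ ?_ ?_ ha
    · intro b hb
      have hbJ : b ∈ J ^ (n + 1) := hs ▸ Submodule.subset_span hb
      have hle : imageSubobject (β b) ≤ I := by
        rw [hI]
        exact Finset.le_sup (f := fun b => imageSubobject (β b)) (Finset.mem_coe.1 hb)
      have h0' : β b ≫ cokernel.π I.arrow = 0 := by
        calc β b ≫ cokernel.π I.arrow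
            = (factorThruImageSubobject (β b) ≫ Subobject.ofLE _ _ hle ≫ I.arrow) ≫
                cokernel.π I.arrow := by
              rw [Subobject.ofLE_arrow, imageSubobject_arrow_comp]
          _ = 0 := by
              rw [Category.assoc, Category.assoc, cokernel.condition, comp_zero, comp_zero]
      calc b • cokernel.π I.arrow = (b • 𝟙 _) ≫ cokernel.π I.arrow := by
            rw [Linear.smul_comp, Category.id_comp]
        _ = p0 ≫ β b ≫ cokernel.π I.arrow := by rw [← hβ b hbJ, Category.assoc]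
        _ = 0 := by rw [h0', comp_zero]
    · exact zero_smul _ _
    · intro x y _ _ hx hy
      rw [add_smul, hx, hy, add_zero]
    · intro c x _ hx
      rw [smul_eq_mul, mul_smul, hx, smul_zero]
  obtain ⟨ψ, hψ, -⟩ := hqn.2 _ _ hq
  haveI : Epi (pn ≫ ψ) := by
    rw [hψ]
    infer_instance
  haveI : Epi ψ := epi_of_epi pn ψ
  have hQ : P (cokernel I.arrow) := hP.epi ψ hn
  exact hP.ext (ShortComplex.mk I.arrow (cokernel.π I.arrow) (cokernel.condition _))
    (ShortComplex.ShortExact.mk' (ShortComplex.exact_cokernel _) inferInstance inferInstance)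
    hPI hQ

theorem main {P : C → Prop} (hP : SerreLike P) (J : Ideal A) [IsNoetherianRing A]
    (X : ARSys.PS C) (hX : ARSys.IsAdic J X) (h0 : P (X.obj (op 0))) (n : ℕ) :
    P (X.obj (op n)) := by
  induction n with
  | zero => exact h0
  | succ n ih => exact step hP J X hX n h0 ih

end ARNoethH4
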