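import Mathlib
import Groth.Prelude.Def_ARSys
import Groth.Agent.Lib.ARML_helper4
import Groth.Agent.Lib.ARNoeth_helper4
set_option autoImplicit false
set_option linter.style.haveILetI false

universe w v u

open CategoryTheory CategoryTheory.Limits Opposite ARSys

namespace ARSESH4

open ARMLH4

variable {C : Type u} [Category.{v} C] [Abelian C]

lemma le_image_of_comp_cokernel {W X Y : C} (f : W ⟶ X) (u : Y ⟶ X)
    (hf : f ≫ cokernel.π u = 0) : imageSubobject f ≤ imageSubobject u := by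
  have h1 : imageSubobject (Abelian.image.ι u) = imageSubobject u := by
    calc imageSubobject (Abelian.image.ι u)
        = imageSubobject (Abelian.factorThruImage u ≫ Abelian.image.ι u) :=
          (AbSubobjH4.img_epi_comp _ _).symm
      _ = imageSubobject u := by rw [Abelian.image.fac]
  have h2 : kernel.lift (cokernel.π u) f hf ≫ Abelian.image.ι u = f := kernel.lift_ι _ _ _
  calc imageSubobject f
      = imageSubobject (kernel.lift (cokernel.π u) f hf ≫ Abelian.image.ι u) := by rw [h2]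
    _ ≤ imageSubobject (Abelian.image.ι u) := imageSubobject_comp_le _ _
    _ = imageSubobject u := h1

lemma exists_cokernel_like {X Y : C} (u : Y ⟶ X) : ∃ (Q : C) (q : X ⟶ Q), u ≫ q = 0 ∧
    ∀ {W : C} (f : W ⟶ X), f ≫ q = 0 → imageSubobject f ≤ imageSubobject u :=
  ⟨cokernel u, cokernel.π u, cokernel.condition u,
    fun f hf => le_image_of_comp_cokernel f u hf⟩

section SES

variable (S : ShortComplex (PS C)) (hS : S.ShortExact)

include hS in
lemma epi_g_app (n : ℕ) : Epi (S.g.app (op n)) := by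
  haveI := hS.epi_g
  infer_instance

include hS in
lemma mono_f_app (n : ℕ) : Mono (S.f.app (op n)) := by
  haveI := hS.mono_f
  infer_instance

lemma fg_app (n : ℕ) : S.f.app (op n) ≫ S.g.app (op n) = 0 := by
  rw [← NatTrans.comp_app, S.zero]
  rfl

include hS in
lemma exists_lift (n : ℕ) {W : C} (k : W ⟶ S.X₂.obj (op n)) (hk : k ≫ S.g.app (op n) = 0) :
    ∃ l : W ⟶ S.X₁.obj (op n), l ≫ S.f.app (op n) = k := by
  have hev := hS.map_of_exact ((evaluation ℕᵒᵖ C).obj (op n))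
  haveI := hev.mono_f
  exact ⟨hev.exact.lift k hk, hev.exact.lift_f k hk⟩

include hS in
lemma exists_desc (n : ℕ) {W : C} (k : S.X₂.obj (op n) ⟶ W) (hk : S.f.app (op n) ≫ k = 0) :
    ∃ l : S.X₃.obj (op n) ⟶ W, S.g.app (op n) ≫ l = k := by
  have hev := hS.map_of_exact ((evaluation ℕᵒᵖ C).obj (op n))
  haveI := hev.epi_g
  exact ⟨hev.exact.desc k hk, hev.exact.g_desc k hk⟩

include hS in
/-- the diagram chase behind "extensions of uniformly ML systems are uniformly ML" -/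
lemma chase {n a b c : ℕ} (hna : n ≤ a) (hab : a ≤ b) (hbc : b ≤ c)
    (hZ : imageSubobject (tr S.X₃ hab) ≤ imageSubobject (tr S.X₃ (hab.trans hbc)))
    (hX : imageSubobject (tr S.X₁ hna) ≤
      imageSubobject (tr S.X₁ (hna.trans (hab.trans hbc)))) :
    imageSubobject (tr S.X₂ (hna.trans hab)) ≤
      imageSubobject (tr S.X₂ (hna.trans (hab.trans hbc))) := by
  haveI := epi_g_app S hS c
  have h1 : imageSubobject (S.g.app (op b) ≫ tr S.X₃ hab) ≤
      imageSubobject (tr S.X₃ (hab.trans hbc)) := (imageSubobject_comp_le _ _).trans hZ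
  obtain ⟨T₁, z3, π₁, hπ₁, e1⟩ := AbSubobjH4.exists_epi_lift (tr S.X₃ (hab.trans hbc))
    (S.g.app (op b) ≫ tr S.X₃ hab) h1
  obtain ⟨T₂, y3, π₂, hπ₂, e2⟩ : ∃ (T₂ : C) (y3 : T₂ ⟶ S.X₂.obj (op c)) (π₂ : T₂ ⟶ T₁),
      Epi π₂ ∧ y3 ≫ S.g.app (op c) = π₂ ≫ z3 :=
    ⟨pullback (S.g.app (op c)) z3, pullback.fst _ _, pullback.snd _ _, inferInstance,
      pullback.condition⟩
  have natg_ac := nat_tr S.g (hab.trans hbc)
  have natg_ab := nat_tr S.g hab
  have hd : (y3 ≫ tr S.X₂ (hab.trans hbc) - π₂ ≫ π₁ ≫ tr S.X₂ hab) ≫ S.g.app (op a) = 0 := by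
    rw [Preadditive.sub_comp]
    simp only [Category.assoc]
    rw [natg_ac, natg_ab, ← Category.assoc y3, e2, Category.assoc, e1, sub_self]
  obtain ⟨x, hx⟩ := exists_lift S hS a _ hd
  obtain ⟨T₃, x', π₃, hπ₃, e4⟩ := AbSubobjH4.exists_epi_lift
    (tr S.X₁ (hna.trans (hab.trans hbc))) (x ≫ tr S.X₁ hna)
    ((imageSubobject_comp_le _ _).trans hX)
  have natf_nc := nat_tr S.f (hna.trans (hab.trans hbc))
  have natf_na := nat_tr S.f hna
  have hd2 : (y3 ≫ tr S.X₂ (hab.trans hbc) - π₂ ≫ π₁ ≫ tr S.X₂ hab) ≫ tr S.X₂ hna =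
      y3 ≫ tr S.X₂ (hna.trans (hab.trans hbc)) - π₂ ≫ π₁ ≫ tr S.X₂ (hna.trans hab) := by
    rw [Preadditive.sub_comp]
    simp only [Category.assoc]
    rw [tr_comp S.X₂ hna (hab.trans hbc), tr_comp S.X₂ hna hab]
  have hx' : x' ≫ S.f.app (op c) ≫ tr S.X₂ (hna.trans (hab.trans hbc)) =
      π₃ ≫ (y3 ≫ tr S.X₂ (hna.trans (hab.trans hbc)) -
        π₂ ≫ π₁ ≫ tr S.X₂ (hna.trans hab)) := by
    calc x' ≫ S.f.app (op c) ≫ tr S.X₂ (hna.trans (hab.trans hbc))
        = (x' ≫ tr S.X₁ (hna.trans (hab.trans hbc))) ≫ S.f.app (op n) := by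
          rw [Category.assoc, natf_nc]
      _ = (π₃ ≫ x ≫ tr S.X₁ hna) ≫ S.f.app (op n) := by rw [e4]
      _ = π₃ ≫ (x ≫ S.f.app (op a)) ≫ tr S.X₂ hna := by
          simp only [Category.assoc]
          rw [natf_na]
      _ = π₃ ≫ (y3 ≫ tr S.X₂ (hab.trans hbc) - π₂ ≫ π₁ ≫ tr S.X₂ hab) ≫ tr S.X₂ hna := by
          rw [hx]
      _ = _ := by rw [hd2]
  have key : (π₃ ≫ y3 - x' ≫ S.f.app (op c)) ≫ tr S.X₂ (hna.trans (hab.trans hbc)) =
      (π₃ ≫ π₂ ≫ π₁) ≫ tr S.X₂ (hna.trans hab) := by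
    rw [Preadditive.sub_comp, Category.assoc, Category.assoc, hx', Preadditive.comp_sub]
    simp only [Category.assoc]
    abel
  haveI : Epi (π₃ ≫ π₂ ≫ π₁) := by
    haveI := hπ₁
    haveI := hπ₂
    haveI := hπ₃
    infer_instance
  calc imageSubobject (tr S.X₂ (hna.trans hab))
      = imageSubobject ((π₃ ≫ π₂ ≫ π₁) ≫ tr S.X₂ (hna.trans hab)) :=
        (AbSubobjH4.img_epi_comp _ _).symm
    _ = imageSubobject ((π₃ ≫ y3 - x' ≫ S.f.app (op c)) ≫
          tr S.X₂ (hna.trans (hab.trans hbc))) := by rw [key]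
    _ ≤ _ := imageSubobject_comp_le _ _

include hS in
theorem main8639 (hX : IsMLAR S.X₁) (hZ : IsMLAR S.X₃) : IsMLAR S.X₂ := by
  obtain ⟨r₁, h₁⟩ := hX
  obtain ⟨r₃, h₃⟩ := hZ
  refine ⟨r₁ + r₃, fun s hs n => le_antisymm (image_shiftMap_anti S.X₂ n hs) ?_⟩
  have hna : n ≤ n + r₁ := Nat.le_add_right _ _
  have hab : n + r₁ ≤ n + (r₁ + r₃) := by omega
  have hbc : n + (r₁ + r₃) ≤ n + s := by omega
  refine chase S hS hna hab hbc ?_ ?_
  · exact le_of_eq ((mlar_image h₃ hab (by omega)).trans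
      (mlar_image h₃ (hab.trans hbc) (by omega)).symm)
  · exact le_of_eq ((mlar_image h₁ hna (by omega)).trans
      (mlar_image h₁ (hna.trans (hab.trans hbc)) (by omega)).symm)

variable {A : Type w} [CommRing A] [Linear A C]

include hS in
theorem main3152 (J : Ideal A) (h₁ : IsStrict S.X₁) (h₂ : IsAdic J S.X₂) : IsAdic J S.X₃ := by
  have hk : ∀ n, KilledBy (J ^ (n + 1)) (S.X₃.obj (op n)) := by
    intro n a ha
    haveI := epi_g_app S hS n
    rw [← cancel_epi (S.g.app (op n)), comp_zero, Linear.comp_smul, Category.comp_id]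
    calc a • S.g.app (op n) = (a • 𝟙 _) ≫ S.g.app (op n) := by
          rw [Linear.smul_comp, Category.id_comp]
      _ = 0 := by rw [h₂.1 n a ha, zero_comp]
  refine ⟨hk, fun n m h => ⟨hk n, fun Y φ hφ => ?_⟩⟩
  haveI := epi_g_app S hS n
  haveI := epi_g_app S hS m
  haveI : Epi (tr S.X₂ h) := ARNoethH4.epi_of_isQuot _ (h₂.2 n m h)
  haveI : Epi (tr S.X₁ h) := h₁ n m h
  have natg := nat_tr S.g h
  have natf := nat_tr S.f h
  haveI : Epi (tr S.X₃ h) := by
    haveI : Epi (tr S.X₂ h ≫ S.g.app (op n)) := epi_comp _ _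
    exact epi_of_epi_fac natg.symm
  have hφ' : HomKilledBy (J ^ (n + 1)) (S.g.app (op m) ≫ φ) := by
    intro a ha
    rw [← Linear.comp_smul, hφ a ha, comp_zero]
  obtain ⟨ψ₂, hψ₂, -⟩ := (h₂.2 n m h).2 Y _ hφ'
  have hψ₂' : tr S.X₂ h ≫ ψ₂ = S.g.app (op m) ≫ φ := hψ₂
  have hzero : S.f.app (op n) ≫ ψ₂ = 0 := by
    rw [← cancel_epi (tr S.X₁ h), comp_zero, ← Category.assoc, natf, Category.assoc, hψ₂',
      ← Category.assoc, fg_app S m, zero_comp]
  obtain ⟨ψ, hψ⟩ := exists_desc S hS n ψ₂ hzero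
  have hψφ : tr S.X₃ h ≫ ψ = φ := by
    rw [← cancel_epi (S.g.app (op m)), ← Category.assoc, ← natg, Category.assoc, hψ, hψ₂']
  refine ⟨ψ, hψφ, fun ψ' hψ' => ?_⟩
  have hψ'' : tr S.X₃ h ≫ ψ' = φ := hψ'
  rw [← cancel_epi (tr S.X₃ h), hψ'', hψφ]

include hS in
theorem main3153 (J : Ideal A) (k₂ : TermKilled J S.X₂) (h₂ : IsStrict S.X₂)
    (h₃ : IsAdic J S.X₃) : IsStrict S.X₁ := by
  intro n m h
  haveI := epi_g_app S hS n
  haveI := epi_g_app S hS m
  haveI := mono_f_app S hS n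
  haveI : Epi (tr S.X₂ h) := h₂ n m h
  have natg := nat_tr S.g h
  have natf := nat_tr S.f h
  obtain ⟨Q, q, hq0, hqu⟩ := exists_cokernel_like (tr S.X₁ h ≫ S.f.app (op n))
  have hfq : S.f.app (op m) ≫ (tr S.X₂ h ≫ q) = 0 := by
    rw [← Category.assoc, ← natf]
    exact hq0
  obtain ⟨φ, hφ⟩ := exists_desc S hS m (tr S.X₂ h ≫ q) hfq
  have hφk : HomKilledBy (J ^ (n + 1)) φ := by
    intro a ha
    rw [← cancel_epi (S.g.app (op m)), comp_zero, Linear.comp_smul, hφ]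
    calc a • (tr S.X₂ h ≫ q) = tr S.X₂ h ≫ (a • 𝟙 _) ≫ q := by
          rw [Linear.smul_comp, Category.id_comp, Linear.comp_smul]
      _ = 0 := by rw [k₂ n a ha, zero_comp, comp_zero]
  obtain ⟨ψ, hψ, -⟩ := (h₃.2 n m h).2 _ φ hφk
  have hψ' : tr S.X₃ h ≫ ψ = φ := hψ
  have hqψ : q = S.g.app (op n) ≫ ψ := by
    rw [← cancel_epi (tr S.X₂ h), ← hφ, ← hψ', ← Category.assoc, ← Category.assoc, ← natg]
  have hfnq : S.f.app (op n) ≫ q = 0 := by
    rw [hqψ, ← Category.assoc, fg_app S n, zero_comp]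
  apply epi_of_image_eq' (tr S.X₁ h) (S.f.app (op n))
  exact le_antisymm (imageSubobject_comp_le _ _) (hqu _ hfnq)

end SES

end ARSESH4
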