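import Mathlib
import Groth.Prelude.Def_ARSys
import Groth.Agent.Lib.ARSES_helper4
set_option autoImplicit false
set_option linter.style.haveILetI false

universe w v u

open CategoryTheory CategoryTheory.Limits Opposite ARSys

namespace ARAdicExtH4

open ARMLH4 ARSESH4

variable {C : Type u} [Category.{v} C] [Abelian C] {A : Type w} [CommRing A] [Linear A C]

theorem main3154 (J : Ideal A) (S : ShortComplex (PS C)) (hS : S.ShortExact)
    (k₂ : TermKilled J S.X₂) (h₁ : IsAdic J S.X₁) (h₃ : IsAdic J S.X₃) : IsAdic J S.X₂ := by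
  refine ⟨k₂, fun n m h => ⟨k₂ n, fun Y φ hφ => ?_⟩⟩
  haveI := epi_g_app S hS n
  haveI := epi_g_app S hS m
  haveI := mono_f_app S hS n
  haveI hα : Epi (tr S.X₁ h) := ARNoethH4.epi_of_isQuot _ (h₁.2 n m h)
  haveI hγ : Epi (tr S.X₃ h) := ARNoethH4.epi_of_isQuot _ (h₃.2 n m h)
  have natg := nat_tr S.g h
  have natf := nat_tr S.f h
  haveI hβ : Epi (tr S.X₂ h) := by
    apply Preadditive.epi_of_cancel_zero
    intro P p hp
    have h1 : S.f.app (op n) ≫ p = 0 := by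
      rw [← cancel_epi (tr S.X₁ h), comp_zero, ← Category.assoc, natf, Category.assoc, hp,
        comp_zero]
    obtain ⟨p', hp'⟩ := exists_desc S hS n p h1
    have h2 : tr S.X₃ h ≫ p' = 0 := by
      rw [← cancel_epi (S.g.app (op m)), comp_zero, ← Category.assoc, ← natg, Category.assoc,
        hp', hp]
    have h3 : p' = 0 := by rw [← cancel_epi (tr S.X₃ h), h2, comp_zero]
    rw [← hp', h3, comp_zero]
  have hβk : HomKilledBy (J ^ (n + 1)) (tr S.X₂ h) := by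
    intro a ha
    calc a • tr S.X₂ h = tr S.X₂ h ≫ (a • 𝟙 _) := by rw [Linear.comp_smul, Category.comp_id]
      _ = 0 := by rw [k₂ n a ha, comp_zero]
  obtain ⟨Φ, hΦ1, hΦ2⟩ : ∃ Φ : S.X₂.obj (op m) ⟶ S.X₂.obj (op n) ⊞ Y,
      Φ ≫ biprod.fst = tr S.X₂ h ∧ Φ ≫ biprod.snd = φ :=
    ⟨biprod.lift _ _, biprod.lift_fst _ _, biprod.lift_snd _ _⟩
  have hΦk : HomKilledBy (J ^ (n + 1)) Φ := by
    intro a ha
    apply biprod.hom_ext
    · rw [Linear.smul_comp, hΦ1, hβk a ha, zero_comp]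
    · rw [Linear.smul_comp, hΦ2, hφ a ha, zero_comp]
  have hfΦk : HomKilledBy (J ^ (n + 1)) (S.f.app (op m) ≫ Φ) := by
    intro a ha
    rw [← Linear.comp_smul, hΦk a ha, comp_zero]
  obtain ⟨Ψ₁, hΨ₁, -⟩ := (h₁.2 n m h).2 _ _ hfΦk
  have hΨ₁' : tr S.X₁ h ≫ Ψ₁ = S.f.app (op m) ≫ Φ := hΨ₁
  have hΨfst : Ψ₁ ≫ biprod.fst = S.f.app (op n) := by
    rw [← cancel_epi (tr S.X₁ h), ← Category.assoc, hΨ₁', Category.assoc, hΦ1, natf]
  obtain ⟨Q, p, hp0, hpu⟩ := exists_cokernel_like Ψ₁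
  have h4 : S.f.app (op m) ≫ (Φ ≫ p) = 0 := by
    rw [← Category.assoc, ← hΨ₁', Category.assoc, hp0, comp_zero]
  obtain ⟨χ, hχ⟩ := exists_desc S hS m (Φ ≫ p) h4
  have hχk : HomKilledBy (J ^ (n + 1)) χ := by
    intro a ha
    rw [← cancel_epi (S.g.app (op m)), comp_zero, Linear.comp_smul, hχ, ← Linear.smul_comp,
      hΦk a ha, zero_comp]
  obtain ⟨χ', hχ', -⟩ := (h₃.2 n m h).2 _ χ hχk
  have hχ'' : tr S.X₃ h ≫ χ' = χ := hχ'
  have h7 : (kernel.ι (tr S.X₂ h) ≫ Φ) ≫ p = 0 := by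
    rw [Category.assoc, ← hχ, ← hχ'', ← Category.assoc (S.g.app (op m)), ← natg, Category.assoc,
      ← Category.assoc (kernel.ι (tr S.X₂ h)), kernel.condition, zero_comp]
  obtain ⟨T, a, π, hπ, e8⟩ := AbSubobjH4.exists_epi_lift Ψ₁ (kernel.ι (tr S.X₂ h) ≫ Φ)
    (hpu _ h7)
  have ha0 : a = 0 := by
    rw [← cancel_mono (S.f.app (op n)), zero_comp, ← hΨfst, ← Category.assoc, e8,
      Category.assoc, Category.assoc, hΦ1, kernel.condition, comp_zero]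
  have h10 : kernel.ι (tr S.X₂ h) ≫ Φ = 0 := by
    haveI := hπ
    rw [← cancel_epi π, comp_zero, ← e8, ha0, zero_comp]
  have hk : kernel.ι (tr S.X₂ h) ≫ φ = 0 := by
    rw [← hΦ2, ← Category.assoc, h10, zero_comp]
  refine ⟨Abelian.epiDesc (tr S.X₂ h) φ hk, Abelian.comp_epiDesc _ _ _, fun ψ' hψ' => ?_⟩
  have hψ'' : tr S.X₂ h ≫ ψ' = φ := hψ'
  rw [← cancel_epi (tr S.X₂ h), hψ'', Abelian.comp_epiDesc]

end ARAdicExtH4
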