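import Mathlib
import Groth.Prelude.Def_ARSys

/-!
# The class of canonical translation maps of `ℕ`-indexed projective systems has a left calculus
of fractions (helper9)
-/

set_option autoImplicit false
universe v u
open CategoryTheory CategoryTheory.Limits Opposite

noncomputable section

namespace Groth.Agent.Lib.TrCalc
open ARSys

section General

variable {C : Type u} [Category.{v} C]

lemma tr_comp (X : PS C) {a b c : ℕ} (h₁ : a ≤ b) (h₂ : b ≤ c) :
    tr X h₂ ≫ tr X h₁ = tr X (h₁.trans h₂) := by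
  rw [← X.map_comp]
  rfl

lemma tr_refl (X : PS C) (a : ℕ) (h : a ≤ a) : tr X h = 𝟙 _ := X.map_id _

lemma tr_tr_id (X : PS C) {a b : ℕ} (h₁ : a ≤ b) (h₂ : b ≤ a) : tr X h₁ ≫ tr X h₂ = 𝟙 _ := by
  rw [tr_comp]
  exact tr_refl X b _

lemma tr_sq (X : PS C) {a b c d : ℕ} (h₁ : a ≤ b) (h₂ : b ≤ d) (h₃ : a ≤ c) (h₄ : c ≤ d) :
    tr X h₂ ≫ tr X h₁ = tr X h₄ ≫ tr X h₃ := by
  rw [tr_comp, tr_comp]

lemma tr_naturality {X Y : PS C} (f : X ⟶ Y) {a b : ℕ} (h : a ≤ b) :
    tr X h ≫ f.app (op a) = f.app (op b) ≫ tr Y h := f.naturality _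

lemma map_eq_tr (X : PS C) {a b : ℕᵒᵖ} (φ : a ⟶ b) : X.map φ = tr X (leOfHom φ.unop) := rfl

/-- The canonical map `X[r] ⟶ X`. -/
def can (r : ℕ) (X : PS C) : (shift C r).obj X ⟶ X where
  app n := tr X (Nat.le_add_right n.unop r)
  naturality a b φ := by
    have h : b.unop ≤ a.unop := leOfHom φ.unop
    show tr X (Nat.add_le_add_right h r) ≫ tr X (Nat.le_add_right b.unop r) =
      tr X (Nat.le_add_right a.unop r) ≫ tr X h
    rw [tr_comp, tr_comp]

lemma can_app (r : ℕ) (X : PS C) (n : ℕ) : (can r X).app (op n) = shiftMap X r n := rfl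

lemma can_naturality (r : ℕ) {X Y : PS C} (f : X ⟶ Y) :
    (shift C r).map f ≫ can r Y = can r X ≫ f := by
  ext n
  exact (tr_naturality f _).symm

lemma mem_of_eq {X Y : PS C} (f : X ⟶ Y) (r : ℕ) (e : X ≅ (shift C r).obj Y)
    (h : f = e.hom ≫ can r Y) : trClass f :=
  ⟨r, e, fun n => by rw [h]; rfl⟩

lemma exists_of_mem {X Y : PS C} {f : X ⟶ Y} (hf : trClass f) :
    ∃ (r : ℕ) (e : X ≅ (shift C r).obj Y), f = e.hom ≫ can r Y := by
  obtain ⟨r, e, h⟩ := hf
  refine ⟨r, e, ?_⟩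
  ext n
  exact h n.unop

/-- Components of `(Z[s])[r] ≅ Z[r+s]`. -/
def assocIsoApp (r s : ℕ) (Z : PS C) (n : ℕ) :
    Z.obj (op (n + r + s)) ≅ Z.obj (op (n + (r + s))) where
  hom := tr Z (show n + (r + s) ≤ n + r + s by omega)
  inv := tr Z (show n + r + s ≤ n + (r + s) by omega)
  hom_inv_id := tr_tr_id Z _ _
  inv_hom_id := tr_tr_id Z _ _

/-- `(Z[s])[r] ≅ Z[r+s]`. -/
def assocIso (r s : ℕ) (Z : PS C) :
    (shift C r).obj ((shift C s).obj Z) ≅ (shift C (r + s)).obj Z :=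
  NatIso.ofComponents (fun n => assocIsoApp r s Z n.unop)
    (fun {a b} φ => by
      have h : b.unop ≤ a.unop := leOfHom φ.unop
      exact tr_sq Z (show b.unop + (r + s) ≤ b.unop + r + s by omega)
        (show b.unop + r + s ≤ a.unop + r + s by omega)
        (show b.unop + (r + s) ≤ a.unop + (r + s) by omega)
        (show a.unop + (r + s) ≤ a.unop + r + s by omega))

lemma can_can (r s : ℕ) (Z : PS C) :
    can r ((shift C s).obj Z) ≫ can s Z = (assocIso r s Z).hom ≫ can (r + s) Z := by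
  ext n
  exact tr_sq Z (Nat.le_add_right n.unop s) (show n.unop + s ≤ n.unop + r + s by omega)
    (Nat.le_add_right n.unop (r + s)) (show n.unop + (r + s) ≤ n.unop + r + s by omega)

instance isIso_can_zero (X : PS C) : IsIso (can 0 X) := by
  haveI : ∀ n, IsIso ((can 0 X).app n) := fun n => by
    show IsIso (tr X (Nat.le_add_right n.unop 0))
    rw [tr_refl]
    infer_instance
  exact NatIso.isIso_of_isIso_app _

instance : (trClass (C := C)).IsMultiplicative where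
  id_mem X := by
    refine mem_of_eq (𝟙 X) 0 (asIso (can 0 X)).symm ?_
    simp
  comp_mem {X Y Z} f g hf hg := by
    obtain ⟨r, e, rfl⟩ := exists_of_mem hf
    obtain ⟨s, e', rfl⟩ := exists_of_mem hg
    refine mem_of_eq _ (r + s) (e ≪≫ (shift C r).mapIso e' ≪≫ assocIso r s Z) ?_
    simp only [Iso.trans_hom, Functor.mapIso_hom, Category.assoc]
    rw [← can_can, ← reassoc_of% (can_naturality r e'.hom)]

end General

section Abelian

variable {C : Type u} [Category.{v} C] [Abelian C]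
open ZeroObject

/-- Objects of the de-translated system. -/
def DX (Y : PS C) : ℕ → C
  | 0 => 0
  | n + 1 => Y.obj (op n)

/-- Transition maps of the de-translated system. -/
def Df (Y : PS C) : ∀ n, DX Y (n + 1) ⟶ DX Y n
  | 0 => 0
  | n + 1 => tr Y (Nat.le_succ n)

/-- The de-translated system `Y[-1]`, with a zero object in degree `0`. -/
def D (Y : PS C) : PS C := Functor.ofOpSequence (Df Y)

lemma D_isZero (Y : PS C) : IsZero ((D Y).obj (op 0)) := isZero_zero C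

lemma D_tr_succ (Y : PS C) (n : ℕ) :
    tr (D Y) (Nat.le_succ (n + 1)) = tr Y (Nat.le_succ n) :=
  Functor.ofOpSequence_map_homOfLE_succ (Df Y) (n + 1)

/-- The map `Y ⟶ (Y[-1])[1]` (componentwise the identity). -/
def eDhom (Y : PS C) : Y ⟶ (shift C 1).obj (D Y) :=
  NatTrans.ofOpSequence (F := Y) (G := (shift C 1).obj (D Y))
    (fun n => 𝟙 (Y.obj (op n))) (fun n => by
      show tr Y (Nat.le_succ n) ≫ 𝟙 _ = 𝟙 _ ≫ tr (D Y) (Nat.le_succ (n + 1))
      rw [D_tr_succ, Category.comp_id, Category.id_comp])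

instance (Y : PS C) : IsIso (eDhom Y) := by
  haveI : ∀ n, IsIso ((eDhom Y).app n) := fun n =>
    show IsIso (𝟙 (Y.obj (op n.unop))) from inferInstance
  exact NatIso.isIso_of_isIso_app _

/-- `Y ≅ (Y[-1])[1]`. -/
def eD (Y : PS C) : Y ≅ (shift C 1).obj (D Y) := asIso (eDhom Y)

lemma eD_hom_app (Y : PS C) (n : ℕ) : (eD Y).hom.app (op n) = 𝟙 (Y.obj (op n)) := rfl

/-- The canonical map `Y ⟶ Y[-1]`. -/
def t (Y : PS C) : Y ⟶ D Y := (eD Y).hom ≫ can 1 (D Y)

lemma t_mem (Y : PS C) : trClass (t Y) := mem_of_eq _ 1 (eD Y) rfl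

lemma t_app_succ (Y : PS C) (n : ℕ) : (t Y).app (op (n + 1)) = tr Y (Nat.le_succ n) := by
  show (eD Y).hom.app (op (n + 1)) ≫ tr (D Y) (Nat.le_succ (n + 1)) = _
  rw [eD_hom_app, D_tr_succ]
  exact Category.id_comp _

/-- Components of the adjunct `X ⟶ Y[-1]` of a map `X[1] ⟶ Y`. -/
def adjApp {X Y : PS C} (g : (shift C 1).obj X ⟶ Y) : ∀ n : ℕ, X.obj (op n) ⟶ (D Y).obj (op n)
  | 0 => 0
  | n + 1 => g.app (op n)

/-- The adjunct `X ⟶ Y[-1]` of a map `X[1] ⟶ Y`. -/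
def adj {X Y : PS C} (g : (shift C 1).obj X ⟶ Y) : X ⟶ D Y :=
  NatTrans.ofOpSequence (adjApp g) (fun n => by
    cases n with
    | zero => exact (D_isZero Y).eq_of_tgt _ _
    | succ n =>
      show tr X (Nat.le_succ (n + 1)) ≫ g.app (op n) = g.app (op (n + 1)) ≫ tr (D Y) (Nat.le_succ (n + 1))
      rw [D_tr_succ]
      exact tr_naturality g (Nat.le_succ n))

lemma adj_app_succ {X Y : PS C} (g : (shift C 1).obj X ⟶ Y) (n : ℕ) :
    (adj g).app (op (n + 1)) = g.app (op n) := rfl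

lemma base_fac {X Y : PS C} (g : (shift C 1).obj X ⟶ Y) : g ≫ t Y = can 1 X ≫ adj g := by
  ext n
  obtain ⟨n⟩ := n
  cases n with
  | zero => exact (D_isZero Y).eq_of_tgt _ _
  | succ n =>
    show g.app (op (n + 1)) ≫ (t Y).app (op (n + 1)) = tr X (Nat.le_succ (n + 1)) ≫ (adj g).app (op (n + 1))
    rw [t_app_succ, adj_app_succ]
    exact (tr_naturality g (Nat.le_succ n)).symm

lemma base_ext {X Y : PS C} (f₁ f₂ : X ⟶ Y) (h : can 1 X ≫ f₁ = can 1 X ≫ f₂) :
    f₁ ≫ t Y = f₂ ≫ t Y := by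
  ext n
  obtain ⟨n⟩ := n
  cases n with
  | zero => exact (D_isZero Y).eq_of_tgt _ _
  | succ n =>
    have e1 : f₁.app (op (n + 1)) ≫ (t Y).app (op (n + 1)) = (can 1 X ≫ f₁).app (op n) := by
      rw [t_app_succ]
      exact (tr_naturality f₁ (Nat.le_succ n)).symm
    have e2 : f₂.app (op (n + 1)) ≫ (t Y).app (op (n + 1)) = (can 1 X ≫ f₂).app (op n) := by
      rw [t_app_succ]
      exact (tr_naturality f₂ (Nat.le_succ n)).symm
    exact e1.trans ((congr_app h (op n)).trans e2.symm)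

/-- `(X[1])[r] ≅ X[r+1]`. -/
def shiftSucc (r : ℕ) (X : PS C) :
    (shift C r).obj ((shift C 1).obj X) ≅ (shift C (r + 1)).obj X := assocIso r 1 X

lemma shiftSucc_can (r : ℕ) (X : PS C) :
    (shiftSucc r X).hom ≫ can (r + 1) X = can r ((shift C 1).obj X) ≫ can 1 X :=
  (can_can r 1 X).symm

lemma leftFrac (r : ℕ) : ∀ {X Y : PS C} (g : (shift C r).obj X ⟶ Y),
    ∃ (Y' : PS C) (t' : Y ⟶ Y') (_ : trClass t') (g' : X ⟶ Y'), g ≫ t' = can r X ≫ g' := by
  induction r with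
  | zero =>
    intro X Y g
    exact ⟨Y, 𝟙 Y, (trClass (C := C)).id_mem Y, inv (can 0 X) ≫ g, by simp⟩
  | succ r ih =>
    intro X Y g
    obtain ⟨Y₁, t₁, ht₁, g₁, h₁⟩ := ih ((shiftSucc r X).hom ≫ g)
    refine ⟨D Y₁, t₁ ≫ t Y₁, (trClass (C := C)).comp_mem _ _ ht₁ (t_mem Y₁), adj g₁, ?_⟩
    rw [← cancel_epi (shiftSucc r X).hom, ← Category.assoc, ← Category.assoc, h₁, Category.assoc,
      base_fac, reassoc_of% (shiftSucc_can r X)]

lemma extFrac (r : ℕ) : ∀ {X Y : PS C} (f₁ f₂ : X ⟶ Y), can r X ≫ f₁ = can r X ≫ f₂ →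
    ∃ (Y' : PS C) (t' : Y ⟶ Y') (_ : trClass t'), f₁ ≫ t' = f₂ ≫ t' := by
  induction r with
  | zero =>
    intro X Y f₁ f₂ h
    exact ⟨Y, 𝟙 Y, (trClass (C := C)).id_mem Y, by
      rw [Category.comp_id, Category.comp_id, ← cancel_epi (can 0 X), h]⟩
  | succ r ih =>
    intro X Y f₁ f₂ h
    have h' : can r ((shift C 1).obj X) ≫ (can 1 X ≫ f₁) = can r ((shift C 1).obj X) ≫ (can 1 X ≫ f₂) := by
      rw [← Category.assoc, ← Category.assoc, ← shiftSucc_can, Category.assoc, Category.assoc, h]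
    obtain ⟨Y₁, t₁, ht₁, h₁⟩ := ih _ _ h'
    refine ⟨D Y₁, t₁ ≫ t Y₁, (trClass (C := C)).comp_mem _ _ ht₁ (t_mem Y₁), ?_⟩
    rw [← Category.assoc, ← Category.assoc]
    exact base_ext _ _ (by simpa using h₁)

theorem main : (trClass (C := C)).HasLeftCalculusOfFractions where
  exists_leftFraction {X Y} φ := by
    obtain ⟨r, e, hs⟩ := exists_of_mem φ.hs
    obtain ⟨Y', t', ht', g', h⟩ := leftFrac r (e.inv ≫ φ.f)
    refine ⟨MorphismProperty.LeftFraction.mk g' t' ht', ?_⟩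
    show φ.f ≫ t' = φ.s ≫ g'
    rw [hs, Category.assoc, ← h, Category.assoc, e.hom_inv_id_assoc]
  ext {X' X Y} f₁ f₂ s hs h := by
    obtain ⟨r, e, rfl⟩ := exists_of_mem hs
    have h' : can r X ≫ f₁ = can r X ≫ f₂ := by
      rw [← cancel_epi e.hom]
      simpa using h
    exact extFrac r f₁ f₂ h'

end Abelian

end Groth.Agent.Lib.TrCalc

end
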