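import Mathlib
import Groth.Prelude.Def_ARSys
import Groth.Agent.Lib.TrCalc_helper9

/-!
# An AR-isomorphism from a translate of a `J`-adic system descends to the system itself (helper9)
-/

set_option autoImplicit false
universe w v u
open CategoryTheory CategoryTheory.Limits Opposite

noncomputable section

namespace Groth.Agent.Lib.ARShift
open ARSys Groth.Agent.Lib.TrCalc

variable {C : Type u} [Category.{v} C] [Abelian C]

/-- Lifting through the kernel, levelwise. -/
lemma exists_lift_kernel_app {F G : PS C} (f : F ⟶ G) (m : ℕᵒᵖ) {T : C} (t : T ⟶ F.obj m)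
    (ht : t ≫ f.app m = 0) : ∃ t' : T ⟶ (kernel f).obj m, t' ≫ (kernel.ι f).app m = t := by
  let S : ShortComplex (PS C) := ShortComplex.mk (kernel.ι f) f (kernel.condition f)
  have hS : S.Exact := ShortComplex.exact_of_f_is_kernel _ (kernelIsKernel f)
  have hS' : (S.map ((evaluation ℕᵒᵖ C).obj m)).Exact := hS.map _
  haveI : Mono (S.map ((evaluation ℕᵒᵖ C).obj m)).f := by
    show Mono ((kernel.ι f).app m)
    infer_instance
  exact ⟨hS'.lift t ht, hS'.lift_f t ht⟩

/-- A quotient of a system null up to translation is null up to translation. -/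
lemma isARNull_of_epi {Z Z' : PS C} (e : Z ⟶ Z') [Epi e] (h : IsARNull Z) : IsARNull Z' := by
  obtain ⟨r, hr⟩ := h
  refine ⟨r, fun n => ?_⟩
  haveI : Epi (e.app (op (n + r))) := inferInstance
  show (tr Z' (Nat.le_add_right n r) : Z'.obj (op (n + r)) ⟶ Z'.obj (op n)) = 0
  rw [← cancel_epi (e.app (op (n + r))), comp_zero]
  have := tr_naturality e (Nat.le_add_right n r)
  have h0 : tr Z (Nat.le_add_right n r) = 0 := hr n
  rw [← this, h0, zero_comp]

/-- If `c` is an epimorphism and `c ≫ u` has a kernel null up to translation, so has `u`. -/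
lemma isARNull_kernel_of_comp {W Y X : PS C} (c : W ⟶ Y) [Epi c] (u : Y ⟶ X)
    (h : IsARNull (kernel (c ≫ u))) : IsARNull (kernel u) := by
  obtain ⟨r, hr⟩ := h
  refine ⟨r, fun n => ?_⟩
  haveI : Mono ((kernel.ι u).app (op n)) := inferInstance
  show (tr (kernel u) (Nat.le_add_right n r) :
    (kernel u).obj (op (n + r)) ⟶ (kernel u).obj (op n)) = 0
  rw [← cancel_mono ((kernel.ι u).app (op n)), zero_comp,
    tr_naturality (kernel.ι u) (Nat.le_add_right n r)]
  haveI : Epi (c.app (op (n + r))) := inferInstance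
  obtain ⟨T', π, hπ, t', ht'⟩ :=
    surjective_up_to_refinements_of_epi (c.app (op (n + r))) ((kernel.ι u).app (op (n + r)))
  have h2 : t' ≫ (c ≫ u).app (op (n + r)) = 0 := by
    rw [NatTrans.comp_app, ← Category.assoc, ← ht', Category.assoc, ← NatTrans.comp_app,
      kernel.condition, NatTrans.app_zero, comp_zero]
  obtain ⟨t'', ht''⟩ := exists_lift_kernel_app (c ≫ u) (op (n + r)) t' h2
  rw [← cancel_epi π, comp_zero, ← Category.assoc, ht', ← ht'', Category.assoc, Category.assoc,
    ← tr_naturality c (Nat.le_add_right n r),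
    ← reassoc_of% (tr_naturality (kernel.ι (c ≫ u)) (Nat.le_add_right n r))]
  have h3 : tr (kernel (c ≫ u)) (Nat.le_add_right n r) = 0 := hr n
  rw [h3, zero_comp, comp_zero]

/-- If `c ≫ u` has a cokernel null up to translation, so has `u`. -/
lemma isARNull_cokernel_of_comp {W Y X : PS C} (c : W ⟶ Y) (u : Y ⟶ X)
    (h : IsARNull (cokernel (c ≫ u))) : IsARNull (cokernel u) := by
  let d : cokernel (c ≫ u) ⟶ cokernel u :=
    cokernel.desc (c ≫ u) (cokernel.π u) (by rw [Category.assoc, cokernel.condition, comp_zero])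
  have hd : cokernel.π (c ≫ u) ≫ d = cokernel.π u := cokernel.π_desc _ _ _
  haveI : Epi d := epi_of_epi_fac hd
  exact isARNull_of_epi d h

lemma isARIso_of_comp {W Y X : PS C} (c : W ⟶ Y) [Epi c] (u : Y ⟶ X) (h : IsARIso (c ≫ u)) :
    IsARIso u :=
  ⟨isARNull_kernel_of_comp c u h.1, isARNull_cokernel_of_comp c u h.2⟩

section Linear

variable {A : Type w} [CommRing A] [Linear A C]

lemma epi_of_isQuot (I : Ideal A) {X Q : C} (p : X ⟶ Q) (hp : IsQuot I p) : Epi p where
  left_cancellation {Z} ψ₁ ψ₂ h := by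
    have hk : HomKilledBy I (p ≫ ψ₁) := fun a ha => by
      have : a • (p ≫ ψ₁) = p ≫ (a • 𝟙 Q) ≫ ψ₁ := by
        rw [Linear.smul_comp, Category.id_comp, Linear.comp_smul]
      rw [this, hp.1 a ha, zero_comp, comp_zero]
    obtain ⟨ψ, _, huniq⟩ := hp.2 Z (p ≫ ψ₁) hk
    rw [huniq ψ₁ rfl, huniq ψ₂ h.symm]

lemma homKilledBy_of_killedBy (I : Ideal A) {X Y : C} (φ : X ⟶ Y) (h : KilledBy I Y) :
    HomKilledBy I φ := fun a ha => by
  have : a • φ = φ ≫ (a • 𝟙 Y) := by rw [Linear.comp_smul, Category.comp_id]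
  rw [this, h a ha, comp_zero]

variable (J : Ideal A) {X Y : PS C} (kX : TermKilled J X) (hY : IsAdic J Y) (r : ℕ)
  (v : (shift C r).obj Y ⟶ X)

include kX hY in
lemma exists_desc (n : ℕ) : ∃ ψ : Y.obj (op n) ⟶ X.obj (op n),
    tr Y (Nat.le_add_right n r) ≫ ψ = v.app (op n) :=
  ((hY.2 n (n + r) (Nat.le_add_right n r)).2 _ (v.app (op n))
    (homKilledBy_of_killedBy _ _ (kX n))).exists

/-- Components of the descended map. -/
def uApp (n : ℕ) : Y.obj (op n) ⟶ X.obj (op n) := (exists_desc J kX hY r v n).choose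

lemma tr_uApp (n : ℕ) : tr Y (Nat.le_add_right n r) ≫ uApp J kX hY r v n = v.app (op n) :=
  (exists_desc J kX hY r v n).choose_spec

/-- The descended map `Y ⟶ X`. -/
def uMap : Y ⟶ X :=
  NatTrans.ofOpSequence (uApp J kX hY r v) (fun n => by
    haveI : Epi (tr Y (Nat.le_add_right (n + 1) r)) :=
      epi_of_isQuot _ _ (hY.2 (n + 1) (n + 1 + r) (Nat.le_add_right (n + 1) r))
    rw [← cancel_epi (tr Y (Nat.le_add_right (n + 1) r)), reassoc_of% (tr_uApp J kX hY r v (n + 1))]
    have h1 : tr Y (Nat.le_add_right (n + 1) r) ≫ Y.map (homOfLE (Nat.le_add_right n 1)).op =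
        tr Y (Nat.add_le_add_right (Nat.le_add_right n 1) r) ≫ tr Y (Nat.le_add_right n r) :=
      tr_sq Y _ _ _ _
    rw [reassoc_of% h1, tr_uApp]
    exact v.naturality (homOfLE (Nat.le_add_right n 1)).op)

lemma can_uMap : can r Y ≫ uMap J kX hY r v = v := by
  ext k
  obtain ⟨n⟩ := k
  exact tr_uApp J kX hY r v n

include hY in
lemma epi_can : Epi (can r Y) := by
  haveI : ∀ k, Epi ((can r Y).app k) := fun k =>
    epi_of_isQuot _ _ (hY.2 k.unop (k.unop + r) (Nat.le_add_right k.unop r))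
  exact NatTrans.epi_of_epi_app _

include kX hY in
theorem main (hv : IsARIso v) : ∃ u : Y ⟶ X, IsARIso u := by
  haveI := epi_can J hY r
  refine ⟨uMap J kX hY r v, isARIso_of_comp (can r Y) _ ?_⟩
  rw [can_uMap]
  exact hv

end Linear

end Groth.Agent.Lib.ARShift

end
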