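import Mathlib
import Groth.Prelude.Def_ARSys
import Groth.Agent.Lib.ARML_helper4
import Groth.Agent.Lib.ARSES_helper4
import Groth.Agent.Lib.ARShift_helper9
set_option autoImplicit false
set_option linter.style.haveILetI false
set_option linter.unusedSectionVars false

universe w v u

open CategoryTheory CategoryTheory.Limits Opposite ARSys

namespace Groth.Agent.Lib.ARQuotH4

open ARMLH4 ARSESH4

variable {C : Type u} [Category.{v} C] [Abelian C] {A : Type w} [CommRing A] [Linear A C]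

lemma homKilledBy_comp (I : Ideal A) {X Y Z : C} (f : X ⟶ Y) (φ : Y ⟶ Z) (h : HomKilledBy I φ) :
    HomKilledBy I (f ≫ φ) := by
  intro a ha
  rw [← Linear.comp_smul, h a ha, comp_zero]

lemma homKilledBy_of_epi_comp (I : Ideal A) {X Y Z : C} (f : X ⟶ Y) [Epi f] (φ : Y ⟶ Z)
    (h : HomKilledBy I (f ≫ φ)) : HomKilledBy I φ := by
  intro a ha
  rw [← cancel_epi f, comp_zero, Linear.comp_smul]
  exact h a ha

lemma homKilledBy_mono (I I' : Ideal A) (hI : I' ≤ I) {X Y : C} (φ : X ⟶ Y)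
    (h : HomKilledBy I φ) : HomKilledBy I' φ := fun a ha => h a (hI ha)

lemma isQuot_of_epi_fac (I : Ideal A) {P Q R : C} (e : P ⟶ Q) [Epi e] (p : Q ⟶ R) (t : P ⟶ R)
    (h : e ≫ p = t) (ht : IsQuot I t) : IsQuot I p := by
  refine ⟨ht.1, fun W φ hφ => ?_⟩
  have hk : HomKilledBy I (e ≫ φ) := homKilledBy_comp _ _ _ hφ
  obtain ⟨ψ, hψ, huniq⟩ := ht.2 W _ hk
  have hψ2 : t ≫ ψ = e ≫ φ := hψ
  refine ⟨ψ, ?_, fun ψ' hψ' => huniq ψ' ?_⟩
  · show p ≫ ψ = φ
    rw [← cancel_epi e, ← Category.assoc, h, hψ2]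
  · have hψ'' : p ≫ ψ' = φ := hψ'
    show t ≫ ψ' = e ≫ φ
    rw [← hψ'', ← Category.assoc, h]

theorem forward (J : Ideal A) (X : PS C) (hX : IsStrict X) (h : IsARAdic J X) :
    ∃ (r : ℕ) (Y : PS C) (q : (shift C r).obj X ⟶ Y),
      (∀ n : ℕ, IsQuot (J ^ (n + 1)) (q.app (op n))) ∧ IsAdic J Y := by
  obtain ⟨-, Y, u, hY, ⟨a, ha⟩, ⟨b, hb⟩⟩ := h
  have hepi : ∀ n, Epi (u.app (op n)) := by
    intro n
    haveI : Epi (shiftMap X b n) := hX n (n + b) (Nat.le_add_right n b)
    have h0 : shiftMap X b n ≫ (cokernel.π u).app (op n) = 0 :=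
      comp_cokernel_shift u hb n b le_rfl
    have h1 : (cokernel.π u).app (op n) = 0 := by
      rw [← cancel_epi (shiftMap X b n), h0, comp_zero]
    have h2 : imageSubobject (𝟙 (X.obj (op n))) ≤ imageSubobject (u.app (op n)) :=
      image_le_of_comp_cokernel u n _ (by rw [h1, comp_zero])
    obtain ⟨P, a', b', hb', hab'⟩ := AbSubobjH4.exists_epi_lift (u.app (op n)) (𝟙 _) h2
    rw [Category.comp_id] at hab'
    haveI : Epi (a' ≫ u.app (op n)) := by rw [hab']; exact hb'
    exact epi_of_epi a' (u.app (op n))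
  have hker : ∀ n, kernel.ι (u.app (op (n + a))) ≫ tr Y (Nat.le_add_right n a) = 0 := by
    intro n
    obtain ⟨t', ht'⟩ := Groth.Agent.Lib.ARShift.exists_lift_kernel_app u (op (n + a))
      (kernel.ι (u.app (op (n + a)))) (kernel.condition _)
    rw [← ht', Category.assoc, ← nat_tr (kernel.ι u) (Nat.le_add_right n a),
      show tr (kernel u) (Nat.le_add_right n a) = 0 from ha n, zero_comp, comp_zero]
  have hex : ∀ n, ∃ p : X.obj (op (n + a)) ⟶ Y.obj (op n),
      u.app (op (n + a)) ≫ p = tr Y (Nat.le_add_right n a) := by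
    intro n
    haveI := hepi (n + a)
    exact ⟨Abelian.epiDesc (u.app (op (n + a))) _ (hker n), Abelian.comp_epiDesc _ _ _⟩
  choose p hp using hex
  have hnat : ∀ n, ((shift C a).obj X).map (homOfLE (Nat.le_add_right n 1)).op ≫ p n =
      p (n + 1) ≫ Y.map (homOfLE (Nat.le_add_right n 1)).op := by
    intro n
    haveI := hepi (n + 1 + a)
    change tr X (Nat.add_le_add_right (Nat.le_add_right n 1) a) ≫ p n =
      p (n + 1) ≫ tr Y (Nat.le_add_right n 1)
    rw [← cancel_epi (u.app (op (n + 1 + a))), ← Category.assoc,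
      ← nat_tr u (Nat.add_le_add_right (Nat.le_add_right n 1) a),
      Category.assoc, hp n, reassoc_of% (hp (n + 1)), tr_comp, tr_comp]
  obtain ⟨q, hqn⟩ : ∃ q : (shift C a).obj X ⟶ Y, ∀ n, q.app (op n) = p n :=
    ⟨NatTrans.ofOpSequence (fun n => p n) hnat, fun n => rfl⟩
  refine ⟨a, Y, q, fun n => ?_, hY⟩
  haveI := hepi (n + a)
  exact isQuot_of_epi_fac (J ^ (n + 1)) (u.app (op (n + a))) (q.app (op n))
    (tr Y (Nat.le_add_right n a)) (by rw [hqn]; exact hp n) (hY.2 n (n + a) _)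

theorem backward (J : Ideal A) (X : PS C) (hX : IsStrict X) (kX : TermKilled J X) (r : ℕ)
    (Y : PS C) (q : (shift C r).obj X ⟶ Y)
    (hq : ∀ n : ℕ, IsQuot (J ^ (n + 1)) (q.app (op n))) (hY : IsAdic J Y) : IsARAdic J X := by
  refine ⟨kX, Y, ?_⟩
  have hqepi : ∀ n, Epi (q.app (op n)) := fun n =>
    Groth.Agent.Lib.ARShift.epi_of_isQuot _ _ (hq n)
  have hex : ∀ n, ∃ ψ : Y.obj (op n) ⟶ X.obj (op n), q.app (op n) ≫ ψ = shiftMap X r n :=
    fun n => ((hq n).2 _ (shiftMap X r n)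
      (Groth.Agent.Lib.ARShift.homKilledBy_of_killedBy _ _ (kX n))).exists
  choose ū hū using hex
  have hnat : ∀ n, Y.map (homOfLE (Nat.le_add_right n 1)).op ≫ ū n =
      ū (n + 1) ≫ X.map (homOfLE (Nat.le_add_right n 1)).op := by
    intro n
    haveI := hqepi (n + 1)
    rw [← cancel_epi (q.app (op (n + 1))), reassoc_of% (hū (n + 1)), ← Category.assoc,
      ← q.naturality, Category.assoc, hū n]
    exact (sigma X r).naturality (homOfLE (Nat.le_add_right n 1)).op
  obtain ⟨U, hUn⟩ : ∃ U : Y ⟶ X, ∀ n, U.app (op n) = ū n :=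
    ⟨NatTrans.ofOpSequence ū hnat, fun n => rfl⟩
  refine ⟨U, hY, ⟨r, fun n => ?_⟩, ⟨0, fun n => ?_⟩⟩
  · haveI : Mono ((kernel.ι U).app (op n)) := inferInstance
    show tr (kernel U) (Nat.le_add_right n r) = 0
    rw [← cancel_mono ((kernel.ι U).app (op n)), zero_comp,
      nat_tr (kernel.ι U) (Nat.le_add_right n r)]
    haveI := hqepi (n + r)
    obtain ⟨T', π, hπ, x, hx⟩ := surjective_up_to_refinements_of_epi (q.app (op (n + r)))
      ((kernel.ι U).app (op (n + r)))
    have hx0 : x ≫ shiftMap X r (n + r) = 0 := by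
      rw [← hū (n + r), ← hUn, ← Category.assoc, ← hx, Category.assoc, ← NatTrans.comp_app,
        kernel.condition]
      simp
    have hnat2 : q.app (op (n + r)) ≫ tr Y (Nat.le_add_right n r) =
        shiftMap X r (n + r) ≫ q.app (op n) :=
      (q.naturality (homOfLE (Nat.le_add_right n r)).op).symm
    rw [← cancel_epi π, comp_zero, ← Category.assoc, hx, Category.assoc, hnat2, ← Category.assoc,
      hx0, zero_comp]
  · haveI : ∀ k, Epi (U.app k) := by
      intro k
      obtain ⟨m⟩ := k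
      haveI : Epi (shiftMap X r m) := hX m (m + r) (Nat.le_add_right m r)
      haveI : Epi (q.app (op m) ≫ ū m) := by rw [hū m]; infer_instance
      rw [hUn]
      exact epi_of_epi (q.app (op m)) (ū m)
    haveI : Epi U := NatTrans.epi_of_epi_app U
    have hz : IsZero (cokernel U) := isZero_cokernel_of_epi U
    have hzn : IsZero ((cokernel U).obj (op n)) := (Functor.isZero_iff _).1 hz (op n)
    exact hzn.eq_of_tgt _ _

theorem main3157 (J : Ideal A) (X : PS C) (hX : IsStrict X) (kX : TermKilled J X) :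
    IsARAdic J X ↔ ∃ (r : ℕ) (Y : PS C) (q : (shift C r).obj X ⟶ Y),
      (∀ n : ℕ, IsQuot (J ^ (n + 1)) (q.app (op n))) ∧ IsAdic J Y :=
  ⟨forward J X hX, fun ⟨r, Y, q, hq, hY⟩ => backward J X hX kX r Y q hq hY⟩

end Groth.Agent.Lib.ARQuotH4
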