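import Mathlib
import Groth.Prelude.Def_ARSys
import Groth.Agent.Lib.ARML_helper4
import Groth.Agent.Lib.ARSES_helper4
import Groth.Agent.Lib.ARShift_helper9
import Groth.Agent.Lib.ARQuot_helper4
set_option autoImplicit false
set_option linter.style.haveILetI false
set_option linter.unusedSectionVars false

universe w v u

open CategoryTheory CategoryTheory.Limits Opposite ARSys

namespace Groth.Agent.Lib.ARFkerH4

open ARMLH4 ARSESH4 Groth.Agent.Lib.ARQuotH4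

variable {C : Type u} [Category.{v} C] [Abelian C] {A : Type w} [CommRing A] [Linear A C]

/-! ### quotients modulo an ideal -/

lemma homKilledBy_of_span (G : Set A) {X Y : C} (φ : X ⟶ Y) (h : ∀ g ∈ G, g • φ = 0) :
    HomKilledBy (Ideal.span G) φ := by
  intro a ha
  induction ha using Submodule.span_induction with
  | mem x hx => exact h x hx
  | zero => exact zero_smul _ _
  | add x y _ _ hx hy => rw [add_smul, hx, hy, add_zero]
  | smul c x _ hx => rw [smul_eq_mul, mul_smul, hx, smul_zero]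

lemma exists_isQuot_of_span (G : Set A) (X : C) [HasCoproduct (fun _ : G => X)] :
    ∃ (Q : C) (p : X ⟶ Q), IsQuot (Ideal.span G) p := by
  obtain ⟨d, hd⟩ : ∃ d : (∐ fun _ : G => X) ⟶ X,
      ∀ g : G, Sigma.ι (fun _ : G => X) g ≫ d = (g : A) • 𝟙 X :=
    ⟨Sigma.desc (fun g => (g : A) • 𝟙 X), fun g => Sigma.ι_desc _ _⟩
  have hp : HomKilledBy (Ideal.span G) (cokernel.π d) := by
    apply homKilledBy_of_span
    intro g hg
    have h1 : g • cokernel.π d = (g • 𝟙 X) ≫ cokernel.π d := by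
      rw [Linear.smul_comp, Category.id_comp]
    rw [h1, ← hd ⟨g, hg⟩, Category.assoc, cokernel.condition, comp_zero]
  refine ⟨cokernel d, cokernel.π d, ?_, ?_⟩
  · intro a ha
    rw [← cancel_epi (cokernel.π d), comp_zero, Linear.comp_smul, Category.comp_id]
    exact hp a ha
  · intro Y φ hφ
    have h0 : d ≫ φ = 0 := by
      apply Sigma.hom_ext
      intro g
      rw [← Category.assoc, hd, comp_zero, Linear.smul_comp, Category.id_comp]
      exact hφ g (Ideal.subset_span g.2)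
    refine ⟨cokernel.desc d φ h0, cokernel.π_desc _ _ _, fun ψ hψ => ?_⟩
    have hψ' : cokernel.π d ≫ ψ = φ := hψ
    rw [← cancel_epi (cokernel.π d), hψ', cokernel.π_desc]

lemma exists_isQuot (J : Ideal A) (hJ : J.FG ∨ HasCoproducts.{w} C) (k : ℕ) (X : C) :
    ∃ (Q : C) (p : X ⟶ Q), IsQuot (J ^ k) p := by
  rcases hJ with hJ | hJ
  · obtain ⟨s, hs⟩ := Ideal.FG.pow (n := k) hJ
    have e : Ideal.span (↑s : Set A) = J ^ k := hs
    have := exists_isQuot_of_span (C := C) (↑s : Set A) X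
    rwa [e] at this
  · haveI := hJ
    have := exists_isQuot_of_span (C := C) ((J ^ k : Ideal A) : Set A) X
    rwa [Ideal.span_eq] at this

lemma isQuot_of_factor (I : Ideal A) {Pm Pn Qm Qn : C} (pm : Pm ⟶ Qm) (pn : Pn ⟶ Qn)
    (tX : Pm ⟶ Pn) (tY : Qm ⟶ Qn) (comm : pm ≫ tY = tX ≫ pn) (hpm : Epi pm) (htX : Epi tX)
    (hpn : IsQuot I pn)
    (hfac : ∀ (W : C) (φ : Pm ⟶ W), HomKilledBy I φ → ∃ φ₀ : Pn ⟶ W, tX ≫ φ₀ = φ) :
    IsQuot I tY := by
  haveI := hpm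
  haveI := htX
  haveI : Epi pn := Groth.Agent.Lib.ARShift.epi_of_isQuot _ _ hpn
  haveI : Epi (pm ≫ tY) := by rw [comm]; infer_instance
  haveI : Epi tY := epi_of_epi pm tY
  refine ⟨hpn.1, fun W ψ hψ => ?_⟩
  obtain ⟨φ₀, hφ₀⟩ := hfac W (pm ≫ ψ) (homKilledBy_comp _ _ _ hψ)
  have hk₀ : HomKilledBy I φ₀ := by
    apply homKilledBy_of_epi_comp _ tX
    rw [hφ₀]
    exact homKilledBy_comp _ _ _ hψ
  obtain ⟨ψ₀, hψ₀, -⟩ := hpn.2 W φ₀ hk₀
  have hψ₀' : pn ≫ ψ₀ = φ₀ := hψ₀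
  have h1 : tY ≫ ψ₀ = ψ := by
    rw [← cancel_epi pm, ← Category.assoc, comm, Category.assoc, hψ₀', hφ₀]
  refine ⟨ψ₀, h1, fun ψ' hψ' => ?_⟩
  have hψ'' : tY ≫ ψ' = ψ := hψ'
  rw [← cancel_epi tY, hψ'', h1]

lemma exists_quot_system (J : Ideal A) (X : PS C) (r : ℕ) (Q : ℕ → C)
    (p : ∀ n, X.obj (op (n + r)) ⟶ Q n) (hp : ∀ n, IsQuot (J ^ (n + 1)) (p n))
    (f : ∀ n, Q (n + 1) ⟶ Q n)
    (hf : ∀ n, p (n + 1) ≫ f n =
      tr X (Nat.add_le_add_right (Nat.le_add_right n 1) r) ≫ p n) :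
    ∃ (Y : PS C) (q : (shift C r).obj X ⟶ Y), ∀ n, IsQuot (J ^ (n + 1)) (q.app (op n)) := by
  have nat : ∀ n, ((shift C r).obj X).map (homOfLE (Nat.le_add_right n 1)).op ≫ p n =
      p (n + 1) ≫ (Functor.ofOpSequence f).map (homOfLE (Nat.le_add_right n 1)).op := by
    intro n
    rw [Functor.ofOpSequence_map_homOfLE_succ]
    exact (hf n).symm
  exact ⟨Functor.ofOpSequence f, NatTrans.ofOpSequence (fun n => p n) nat, fun n => hp n⟩

/-! ### the two directions -/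

theorem fwd3158 (J : Ideal A) (X : PS C) (hX : IsStrict X) (h : IsARAdic J X) :
    ∃ r : ℕ, 0 < r ∧ ∀ n : ℕ, SubLEIdeal (J ^ (n - r)) (Fker X n) := by
  obtain ⟨a, Y, q, hq, hY⟩ := forward J X hX h
  refine ⟨a + 1, Nat.succ_pos a, fun n W φ hφ => ?_⟩
  rcases Nat.eq_zero_or_pos (n - (a + 1)) with h0 | hpos
  · rw [h0, pow_zero] at hφ
    have h1 := hφ 1 (by rw [Ideal.one_eq_top]; exact Submodule.mem_top)
    rw [one_smul] at h1
    rw [h1, comp_zero]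
  · obtain ⟨k, rfl⟩ : ∃ k, n = k + 1 := ⟨n - 1, by omega⟩
    obtain ⟨j, hj⟩ : ∃ j, k + 1 - (a + 1) = j + 1 := ⟨k + 1 - (a + 1) - 1, by omega⟩
    rw [hj] at hφ
    have hja : j + a ≤ k := by omega
    have hjk : j ≤ k + 1 := by omega
    have h1 : k + 1 ≤ k + 1 + a := Nat.le_add_right _ _
    haveI : Epi (tr X h1) := hX _ _ h1
    obtain ⟨qk, hqk⟩ : ∃ qk : X.obj (op (k + 1 + a)) ⟶ Y.obj (op (k + 1)),
        qk = q.app (op (k + 1)) := ⟨_, rfl⟩
    obtain ⟨qj, hqj⟩ : ∃ qj : X.obj (op (j + a)) ⟶ Y.obj (op j), qj = q.app (op j) := ⟨_, rfl⟩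
    have hqk' : IsQuot (J ^ (k + 1 + 1)) qk := by rw [hqk]; exact hq (k + 1)
    haveI : Epi qk := Groth.Agent.Lib.ARShift.epi_of_isQuot _ _ hqk'
    have hk' : HomKilledBy (J ^ (k + 1 + 1)) (tr X h1 ≫ φ) :=
      homKilledBy_comp _ _ _ (homKilledBy_mono _ _ (Ideal.pow_le_pow_right (by omega)) φ hφ)
    obtain ⟨φ₁, hφ₁, -⟩ := hqk'.2 W (tr X h1 ≫ φ) hk'
    have hφ₁' : qk ≫ φ₁ = tr X h1 ≫ φ := hφ₁
    have hk₁ : HomKilledBy (J ^ (j + 1)) φ₁ := by
      apply homKilledBy_of_epi_comp _ qk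
      rw [hφ₁']
      exact homKilledBy_comp _ _ _ hφ
    obtain ⟨φ₂, hφ₂, -⟩ := (hY.2 j (k + 1) hjk).2 W φ₁ hk₁
    have hφ₂' : tr Y hjk ≫ φ₂ = φ₁ := hφ₂
    have hnat : qk ≫ tr Y hjk = tr X (Nat.add_le_add_right hjk a) ≫ qj := by
      rw [hqk, hqj]
      exact (q.naturality (homOfLE hjk).op).symm
    have e : tr X (Nat.add_le_add_right hjk a) =
        tr X h1 ≫ tr X (Nat.le_succ k) ≫ tr X hja := by
      rw [tr_comp, tr_comp]
    have hfac : φ = tr X (Nat.le_succ k) ≫ (tr X hja ≫ qj ≫ φ₂) := by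
      rw [← cancel_epi (tr X h1), ← hφ₁', ← hφ₂', reassoc_of% hnat, e]
      simp only [Category.assoc]
    show (kernelSubobject (tr X (Nat.le_succ k))).arrow ≫ φ = 0
    rw [hfac, ← Category.assoc, kernelSubobject_arrow_comp, zero_comp]

lemma factor_tr (J : Ideal A) (X : PS C) (hX : IsStrict X) (r : ℕ)
    (hF : ∀ n : ℕ, SubLEIdeal (J ^ (n - r)) (Fker X n)) (n : ℕ) :
    ∀ (k : ℕ) (h : n + r ≤ k) (W : C) (φ : X.obj (op k) ⟶ W), HomKilledBy (J ^ (n + 1)) φ →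
      ∃ φ₀ : X.obj (op (n + r)) ⟶ W, tr X h ≫ φ₀ = φ := by
  intro k h
  induction k, h using Nat.le_induction with
  | base =>
    intro W φ _
    exact ⟨φ, by rw [Groth.Agent.Lib.TrCalc.tr_refl, Category.id_comp]⟩
  | succ k h ih =>
    intro W φ hφ
    haveI : Epi (tr X (Nat.le_succ k)) := hX _ _ _
    have hφ' : HomKilledBy (J ^ (k + 1 - r)) φ :=
      homKilledBy_mono _ _ (Ideal.pow_le_pow_right (by omega)) φ hφ
    have h0 : (kernelSubobject (tr X (Nat.le_succ k))).arrow ≫ φ = 0 := hF (k + 1) W φ hφ'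
    have h1 : kernel.ι (tr X (Nat.le_succ k)) ≫ φ = 0 := by
      rw [← kernelSubobject_arrow', Category.assoc, h0, comp_zero]
    obtain ⟨φ₀, hφ₀⟩ := ih W (Abelian.epiDesc (tr X (Nat.le_succ k)) φ h1)
      (homKilledBy_of_epi_comp _ (tr X (Nat.le_succ k)) _
        (by rw [Abelian.comp_epiDesc]; exact hφ))
    refine ⟨φ₀, ?_⟩
    rw [← tr_comp X h (Nat.le_succ k), Category.assoc, hφ₀, Abelian.comp_epiDesc]

theorem bwd3158 (J : Ideal A) (hJ : J.FG ∨ HasCoproducts.{w} C) (X : PS C) (hX : IsStrict X)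
    (kX : TermKilled J X) (r : ℕ) (hF : ∀ n : ℕ, SubLEIdeal (J ^ (n - r)) (Fker X n)) :
    IsARAdic J X := by
  have hex : ∀ n, ∃ (Q : C) (p : X.obj (op (n + r)) ⟶ Q), IsQuot (J ^ (n + 1)) p :=
    fun n => exists_isQuot J hJ (n + 1) _
  choose Q p hp using hex
  have hfex : ∀ n, ∃ f : Q (n + 1) ⟶ Q n, p (n + 1) ≫ f =
      tr X (Nat.add_le_add_right (Nat.le_add_right n 1) r) ≫ p n := by
    intro n
    have hk : HomKilledBy (J ^ (n + 1 + 1))
        (tr X (Nat.add_le_add_right (Nat.le_add_right n 1) r) ≫ p n) :=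
      homKilledBy_mono _ _ (Ideal.pow_le_pow_right (Nat.le_succ _)) _
        (Groth.Agent.Lib.ARShift.homKilledBy_of_killedBy _ _ (hp n).1)
    exact ((hp (n + 1)).2 _ _ hk).exists
  choose f hf using hfex
  obtain ⟨Y, q, hq⟩ := exists_quot_system J X r Q p hp f hf
  have hqepi : ∀ n, Epi (q.app (op n)) := fun n =>
    Groth.Agent.Lib.ARShift.epi_of_isQuot _ _ (hq n)
  have hY : IsAdic J Y := by
    refine ⟨fun n => (hq n).1, fun n m h => ?_⟩
    exact isQuot_of_factor (J ^ (n + 1)) (q.app (op m)) (q.app (op n))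
      (tr X (Nat.add_le_add_right h r)) (tr Y h) (q.naturality (homOfLE h).op).symm (hqepi m)
      (hX _ _ _) (hq n)
      (fun W φ hφ => factor_tr J X hX r hF n (m + r) (Nat.add_le_add_right h r) W φ hφ)
  exact backward J X hX kX r Y q hq hY

theorem main3158 (J : Ideal A) (hJ : J.FG ∨ HasCoproducts.{w} C) (X : PS C) (hX : IsStrict X)
    (kX : TermKilled J X) :
    IsARAdic J X ↔ ∃ r : ℕ, 0 < r ∧ ∀ n : ℕ, SubLEIdeal (J ^ (n - r)) (Fker X n) :=
  ⟨fwd3158 J X hX, fun ⟨r, _, hF⟩ => bwd3158 J hJ X hX kX r hF⟩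

end Groth.Agent.Lib.ARFkerH4
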