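import Mathlib
import Groth.Prelude.Def_ARSys
import Groth.Agent.Lib.ARML_helper4
set_option autoImplicit false
set_option linter.style.haveILetI false

universe w v u

open CategoryTheory CategoryTheory.Limits Opposite ARSys

namespace ARFsubH4

open ARMLH4

variable {C : Type u} [Category.{v} C] [Abelian C]

lemma tr_refl (X : PS C) (n : ℕ) : tr X (le_refl n) = 𝟙 _ := by
  show X.map _ = _
  rw [← X.map_id]
  exact congrArg X.map (Subsingleton.elim _ _)

lemma le_kernel_iff {W X Y : C} (u : W ⟶ X) (g : X ⟶ Y) :
    imageSubobject u ≤ kernelSubobject g ↔ u ≫ g = 0 := by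
  constructor
  · intro h
    have hu : (factorThruImageSubobject u ≫ Subobject.ofLE _ _ h) ≫ (kernelSubobject g).arrow
        = u := by
      rw [Category.assoc, Subobject.ofLE_arrow, imageSubobject_arrow_comp]
    rw [← hu, Category.assoc, kernelSubobject_arrow_comp, comp_zero]
  · intro h
    exact imageSubobject_le u (factorThruKernelSubobject g u h)
      (factorThruKernelSubobject_comp_arrow g u h)

lemma le_bot_iff' {W X : C} (u : W ⟶ X) : imageSubobject u ≤ ⊥ ↔ u = 0 := by
  constructor
  · intro h
    have hu : (factorThruImageSubobject u ≫ Subobject.ofLE _ _ h) ≫ (⊥ : Subobject X).arrow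
        = u := by
      rw [Category.assoc, Subobject.ofLE_arrow, imageSubobject_arrow_comp]
    rw [← hu, Subobject.bot_arrow, comp_zero]
  · intro h
    rw [h, imageSubobject_zero]

lemma le_Fsub_iff (X : PS C) (q n : ℕ) {W : C} (u : W ⟶ X.obj (op n)) :
    imageSubobject u ≤ Fsub X q n ↔ ∀ k (h : k ≤ n), k < q → u ≫ tr X h = 0 := by
  cases q with
  | zero =>
    have h0 : Fsub X 0 n = ⊤ := by
      unfold Fsub
      rfl
    rw [h0]
    exact ⟨fun _ k _ hk => absurd hk (Nat.not_lt_zero k), fun _ => le_top⟩
  | succ j =>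
    by_cases hj : j ≤ n
    · have h0 : Fsub X (j + 1) n = kernelSubobject (tr X hj) := by
        unfold Fsub
        exact dif_pos hj
      rw [h0, le_kernel_iff]
      constructor
      · intro hu k hk hkj
        have hkj' : k ≤ j := Nat.lt_succ_iff.1 hkj
        rw [← tr_comp X hkj' hj, ← Category.assoc, hu, zero_comp]
      · intro hu
        exact hu j hj (Nat.lt_succ_self j)
    · have h0 : Fsub X (j + 1) n = ⊥ := by
        unfold Fsub
        exact dif_neg hj
      rw [h0, le_bot_iff']
      constructor
      · intro hu k hk _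
        rw [hu, zero_comp]
      · intro hu
        have := hu n le_rfl (by omega)
        rwa [tr_refl, Category.comp_id] at this

lemma Fsub_arrow_tr (X : PS C) (q n k : ℕ) (h : k ≤ n) (hk : k < q) :
    (Fsub X q n).arrow ≫ tr X h = 0 := by
  have := (le_Fsub_iff X q n (Fsub X q n).arrow).1 (le_of_eq (AbSubobjH4.image_arrow _))
  exact this k h hk

variable {A : Type w} [CommRing A] [Linear A C]

theorem main3185 (J : Ideal A) (X : PS C) :
    IsAdapted J X ↔ ∀ (n p q : ℕ), ∀ a ∈ J ^ p,
      imageSubobject ((Fsub X q n).arrow ≫ (a • 𝟙 (X.obj (op n)))) ≤ Fsub X (p + q) n := by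
  constructor
  · intro h n p q a ha
    rw [le_Fsub_iff]
    intro k hk hkpq
    have hcomm : ((Fsub X q n).arrow ≫ (a • 𝟙 (X.obj (op n)))) ≫ tr X hk =
        ((Fsub X q n).arrow ≫ tr X hk) ≫ (a • 𝟙 (X.obj (op k))) := by
      simp only [Category.assoc, Linear.smul_comp, Linear.comp_smul, Category.id_comp,
        Category.comp_id]
    rw [hcomm]
    by_cases hkq : k < q
    · rw [Fsub_arrow_tr X q n k hk hkq, zero_comp]
    · have hle : imageSubobject ((Fsub X q n).arrow ≫ tr X hk) ≤ Fsub X q k := by
        rw [le_Fsub_iff]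
        intro j hj hjq
        rw [Category.assoc, tr_comp X hj hk]
        exact Fsub_arrow_tr X q n j (hj.trans hk) hjq
      have hfac : (factorThruImageSubobject ((Fsub X q n).arrow ≫ tr X hk) ≫
          Subobject.ofLE _ _ hle) ≫ (Fsub X q k).arrow = (Fsub X q n).arrow ≫ tr X hk := by
        rw [Category.assoc, Subobject.ofLE_arrow, imageSubobject_arrow_comp]
      have had := h k (k + 1 - q) (by omega) a (Ideal.pow_le_pow_right (by omega) ha)
      have e : k + 1 - (k + 1 - q) = q := by omega
      rw [e] at had
      rw [← hfac, Category.assoc, had, comp_zero]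
  · intro h n p hp a ha
    have H := h n p (n + 1 - p) a ha
    rw [le_Fsub_iff] at H
    have := H n le_rfl (by omega)
    rwa [tr_refl, Category.comp_id] at this

end ARFsubH4
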