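import Mathlib
import Groth.Prelude.Def_ARSys
import Groth.Agent.Lib.ARML_helper4
import Groth.Agent.Lib.ARSES_helper4
import Groth.Agent.Lib.ARShift_helper9
import Groth.Agent.Lib.ARNoeth_helper4
import Groth.Agent.Lib.AbSubobj_helper4

/-!
# AR-null systems form a Serre class; AR-isomorphisms (helper4)
-/

set_option autoImplicit false
set_option linter.style.haveILetI false
set_option linter.unusedSectionVars false

universe w v u

open CategoryTheory CategoryTheory.Limits Opposite ARSys ZeroObject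

namespace Groth.Agent.Lib.ARSerreH4

open Groth.Agent.Lib.TrCalc (can can_app)

variable {C : Type u} [Category.{v} C] [Abelian C]

/-- the class of systems null up to translation -/
def arNull : ObjectProperty (PS C) := fun X => IsARNull X

lemma arNull_of_mono {X Y : PS C} (f : X ⟶ Y) [Mono f] (hY : IsARNull Y) : IsARNull X := by
  obtain ⟨r, hr⟩ := hY
  refine ⟨r, fun n => ?_⟩
  haveI : Mono (f.app (op n)) := inferInstance
  show tr X (Nat.le_add_right n r) = 0
  rw [← cancel_mono (f.app (op n)), zero_comp, ARMLH4.nat_tr f (Nat.le_add_right n r)]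
  have h0 : tr Y (Nat.le_add_right n r) = 0 := hr n
  rw [h0, comp_zero]

lemma arNull_ext {S : ShortComplex (PS C)} (hS : S.ShortExact) (h₁ : IsARNull S.X₁)
    (h₃ : IsARNull S.X₃) : IsARNull S.X₂ := by
  obtain ⟨r₁, h1⟩ := h₁
  obtain ⟨r₃, h3⟩ := h₃
  refine ⟨r₁ + r₃, fun n => ?_⟩
  show tr S.X₂ (Nat.le_add_right n (r₁ + r₃)) = 0
  have hA : n ≤ n + r₁ := Nat.le_add_right n r₁
  have hB : n + r₁ ≤ n + (r₁ + r₃) := by omega
  rw [← ARMLH4.tr_comp S.X₂ hA hB]
  have hk : tr S.X₂ hB ≫ S.g.app (op (n + r₁)) = 0 := by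
    rw [ARMLH4.nat_tr S.g hB, ARMLH4.isARNull_gen h3 hB (by omega), comp_zero]
  obtain ⟨l, hl⟩ := ARSESH4.exists_lift S hS (n + r₁) _ hk
  rw [← hl, Category.assoc, ← ARMLH4.nat_tr S.f hA, ARMLH4.isARNull_gen h1 hA le_rfl, zero_comp,
    comp_zero]

lemma arNull_zero : IsARNull (0 : PS C) := by
  refine ⟨0, fun n => ?_⟩
  have hz : IsZero ((0 : PS C).obj (op (n + 0))) :=
    (Functor.isZero_iff _).1 (isZero_zero (PS C)) _
  exact hz.eq_of_src _ _

instance : (arNull (C := C)).IsSerreClass where
  exists_zero := ⟨0, isZero_zero _, arNull_zero⟩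
  prop_of_mono f _ hY := arNull_of_mono f hY
  prop_of_epi f _ hX := Groth.Agent.Lib.ARShift.isARNull_of_epi f hX
  prop_X₂_of_shortExact hS h₁ h₃ := arNull_ext hS h₁ h₃

/-- the class of AR-isomorphisms as `isoModSerre` -/
abbrev W : MorphismProperty (PS C) := (arNull (C := C)).isoModSerre

lemma isARIso_iff {X Y : PS C} (u : X ⟶ Y) : IsARIso u ↔ W u :=
  ⟨fun h => ⟨h.1, h.2⟩, fun h => ⟨h.1, h.2⟩⟩

lemma isARIso_comp {X Y Z : PS C} {f : X ⟶ Y} {g : Y ⟶ Z} (hf : IsARIso f) (hg : IsARIso g) :
    IsARIso (f ≫ g) :=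
  (isARIso_iff _).2 (MorphismProperty.comp_mem _ f g ((isARIso_iff _).1 hf) ((isARIso_iff _).1 hg))

lemma isARIso_of_postcomp {X Y Z : PS C} {f : X ⟶ Y} {g : Y ⟶ Z} (hg : IsARIso g)
    (hfg : IsARIso (f ≫ g)) : IsARIso f :=
  (isARIso_iff _).2 (MorphismProperty.of_postcomp W f g ((isARIso_iff _).1 hg)
    ((isARIso_iff _).1 hfg))

lemma isARIso_of_precomp {X Y Z : PS C} {f : X ⟶ Y} {g : Y ⟶ Z} (hf : IsARIso f)
    (hfg : IsARIso (f ≫ g)) : IsARIso g :=
  (isARIso_iff _).2 (MorphismProperty.of_precomp W f g ((isARIso_iff _).1 hf)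
    ((isARIso_iff _).1 hfg))

lemma isARIso_of_isPullback {X Y Y' S : PS C} {f : X ⟶ S} {g : Y ⟶ S} {f' : Y' ⟶ Y}
    {g' : Y' ⟶ X} (sq : IsPullback f' g' g f) (hg : IsARIso g) : IsARIso g' :=
  (isARIso_iff _).2 (MorphismProperty.IsStableUnderBaseChange.of_isPullback sq
    ((isARIso_iff _).1 hg))

lemma isARIso_id (X : PS C) : IsARIso (𝟙 X) :=
  (isARIso_iff _).2 (MorphismProperty.id_mem _ _)

lemma isARIso_of_mono {X Y : PS C} (m : X ⟶ Y) [Mono m] (h : IsARNull (cokernel m)) :
    IsARIso m :=
  (isARIso_iff _).2 ((arNull (C := C)).isoModSerre_of_mono m h)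

lemma isARIso_of_epi {X Y : PS C} (m : X ⟶ Y) [Epi m] (h : IsARNull (kernel m)) :
    IsARIso m :=
  (isARIso_iff _).2 ((arNull (C := C)).isoModSerre_of_epi m h)

/-- the canonical map `Y[r] ⟶ Y` is an AR-isomorphism -/
lemma isARIso_can (r : ℕ) (Y : PS C) : IsARIso (can r Y) := by
  constructor
  · refine ⟨r, fun n => ?_⟩
    haveI : Mono ((kernel.ι (can r Y)).app (op n)) := inferInstance
    show tr (kernel (can r Y)) (Nat.le_add_right n r) = 0
    rw [← cancel_mono ((kernel.ι (can r Y)).app (op n)), zero_comp,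
      ARMLH4.nat_tr (kernel.ι (can r Y)) (Nat.le_add_right n r)]
    have h1 : tr ((shift C r).obj Y) (Nat.le_add_right n r) = (can r Y).app (op (n + r)) := by
      show Y.map _ = Y.map _
      exact congrArg Y.map (Subsingleton.elim _ _)
    have h2 : (kernel.ι (can r Y)).app (op (n + r)) ≫ (can r Y).app (op (n + r)) = 0 := by
      rw [← NatTrans.comp_app, kernel.condition]
      rfl
    rw [h1]
    exact h2
  · refine ⟨r, fun n => ?_⟩
    haveI : Epi ((cokernel.π (can r Y)).app (op (n + r))) := inferInstance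
    show tr (cokernel (can r Y)) (Nat.le_add_right n r) = 0
    rw [← cancel_epi ((cokernel.π (can r Y)).app (op (n + r))), comp_zero,
      ← ARMLH4.nat_tr (cokernel.π (can r Y)) (Nat.le_add_right n r)]
    have h2 : (can r Y).app (op n) ≫ (cokernel.π (can r Y)).app (op n) = 0 := by
      rw [← NatTrans.comp_app, cokernel.condition]
      rfl
    exact h2

/-- quotients of uniformly ML systems are uniformly ML -/
lemma mlar_of_epi {X Z : PS C} (g : X ⟶ Z) [Epi g] (hX : IsMLAR X) : IsMLAR Z := by
  obtain ⟨r, hr⟩ := hX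
  refine ⟨r, fun s hs n => ?_⟩
  have key : ∀ t : ℕ, imageSubobject (shiftMap Z t n) =
      imageSubobject ((imageSubobject (shiftMap X t n)).arrow ≫ g.app (op n)) := by
    intro t
    haveI : Epi (g.app (op (n + t))) := inferInstance
    have nat : tr X (Nat.le_add_right n t) ≫ g.app (op n) =
        g.app (op (n + t)) ≫ tr Z (Nat.le_add_right n t) := ARMLH4.nat_tr g _
    calc imageSubobject (shiftMap Z t n)
        = imageSubobject (g.app (op (n + t)) ≫ tr Z (Nat.le_add_right n t)) :=
          (AbSubobjH4.img_epi_comp (g.app (op (n + t))) (tr Z (Nat.le_add_right n t))).symm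
      _ = imageSubobject (tr X (Nat.le_add_right n t) ≫ g.app (op n)) :=
          congrArg (fun t => imageSubobject t) nat.symm
      _ = imageSubobject ((imageSubobject (shiftMap X t n)).arrow ≫ g.app (op n)) := by
          have e : tr X (Nat.le_add_right n t) ≫ g.app (op n) =
              factorThruImageSubobject (shiftMap X t n) ≫
                (imageSubobject (shiftMap X t n)).arrow ≫ g.app (op n) := by
            rw [← Category.assoc, imageSubobject_arrow_comp]
            rfl
          exact (congrArg (fun t => imageSubobject t) e).trans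
            (AbSubobjH4.img_epi_comp (factorThruImageSubobject (shiftMap X t n))
              ((imageSubobject (shiftMap X t n)).arrow ≫ g.app (op n)))
  rw [key s, key r, hr s hs n]

section Linear

variable {A : Type w} [CommRing A] [Linear A C]

lemma termKilled_of_mono (J : Ideal A) {Z X : PS C} (j : Z ⟶ X) [Mono j] (hX : TermKilled J X) :
    TermKilled J Z := by
  intro n a ha
  haveI : Mono (j.app (op n)) := inferInstance
  rw [← cancel_mono (j.app (op n)), zero_comp, Linear.smul_comp, Category.id_comp]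
  have h1 : a • j.app (op n) = j.app (op n) ≫ (a • 𝟙 _) := by
    rw [Linear.comp_smul, Category.comp_id]
  rw [h1, hX n a ha, comp_zero]

lemma termKilled_of_epi (J : Ideal A) {X Q : PS C} (p : X ⟶ Q) [Epi p] (hX : TermKilled J X) :
    TermKilled J Q := by
  intro n a ha
  haveI : Epi (p.app (op n)) := inferInstance
  rw [← cancel_epi (p.app (op n)), comp_zero, Linear.comp_smul, Category.comp_id]
  have h1 : a • p.app (op n) = (a • 𝟙 _) ≫ p.app (op n) := by
    rw [Linear.smul_comp, Category.id_comp]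
  rw [h1, hX n a ha, zero_comp]

/-- Noetherian components pass along an AR-isomorphism from an adic system -/
theorem noeth_of_isARIso [IsNoetherianRing A] (J : Ideal A) {Y X : PS C} (u : Y ⟶ X)
    (hY : IsAdic J Y) (hu : IsARIso u) (hX : ∀ n, IsNoetherianObject (X.obj (op n))) :
    ∀ n, IsNoetherianObject (Y.obj (op n)) := by
  obtain ⟨⟨r, hr⟩, -⟩ := hu
  have h0 : IsNoetherianObject (Y.obj (op 0)) := by
    have hker : kernel.ι (Abelian.factorThruImage (u.app (op r))) ≫ tr Y (Nat.zero_le r) = 0 := by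
      have h1 : kernel.ι (Abelian.factorThruImage (u.app (op r))) ≫ u.app (op r) = 0 := by
        have h1' : kernel.ι (Abelian.factorThruImage (u.app (op r))) ≫
            Abelian.factorThruImage (u.app (op r)) ≫ Abelian.image.ι (u.app (op r)) = 0 := by
          rw [← Category.assoc, kernel.condition, zero_comp]
        rwa [Abelian.image.fac] at h1'
      obtain ⟨t', ht'⟩ := Groth.Agent.Lib.ARShift.exists_lift_kernel_app u (op r) _ h1
      rw [← ht', Category.assoc, ← ARMLH4.nat_tr (kernel.ι u) (Nat.zero_le r),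
        ARMLH4.isARNull_gen hr (Nat.zero_le r) (by omega), zero_comp, comp_zero]
    haveI : Epi (tr Y (Nat.zero_le r)) := ARNoethH4.epi_of_isQuot _ (hY.2 0 r (Nat.zero_le r))
    have hfac : Abelian.factorThruImage (u.app (op r)) ≫
        Abelian.epiDesc (Abelian.factorThruImage (u.app (op r))) (tr Y (Nat.zero_le r)) hker =
        tr Y (Nat.zero_le r) := Abelian.comp_epiDesc _ _ _
    haveI : Epi (Abelian.epiDesc (Abelian.factorThruImage (u.app (op r)))
        (tr Y (Nat.zero_le r)) hker) := epi_of_epi_fac hfac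
    haveI : IsNoetherianObject (X.obj (op r)) := hX r
    haveI : IsNoetherianObject (Abelian.image (u.app (op r))) :=
      isNoetherianObject_of_mono (Abelian.image.ι (u.app (op r)))
    exact AbSubobjH4.isNoetherianObject_of_epi
      (Abelian.epiDesc (Abelian.factorThruImage (u.app (op r))) (tr Y (Nat.zero_le r)) hker)
  exact fun n => ARNoethH4.main ARNoethH4.serreLike_noeth J Y hY h0 n

/-- a subsystem of an AR-adic system with AR-null quotient is AR-adic -/
theorem isARAdic_of_mono (J : Ideal A) {I X : PS C} (m : I ⟶ X) [Mono m]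
    (hm : IsARNull (cokernel m)) (kI : TermKilled J I) (hX : IsARAdic J X) : IsARAdic J I := by
  obtain ⟨-, Y, u, hY, hu⟩ := hX
  refine ⟨kI, ?_⟩
  have hmW : IsARIso m := isARIso_of_mono m hm
  have hfst : IsARIso (pullback.fst m u) :=
    (isARIso_iff _).2 (MorphismProperty.pullback_fst (P := W) m u ((isARIso_iff _).1 hu))
  have hsnd : IsARIso (pullback.snd m u) :=
    (isARIso_iff _).2 (MorphismProperty.pullback_snd (P := W) m u ((isARIso_iff _).1 hmW))
  haveI : Mono (pullback.snd m u) := inferInstance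
  obtain ⟨r, hr⟩ := hsnd.2
  have h0 : can r Y ≫ cokernel.π (pullback.snd m u) = 0 := by
    ext k
    obtain ⟨n⟩ := k
    rw [NatTrans.comp_app, can_app]
    exact ARMLH4.comp_cokernel_shift (pullback.snd m u) hr n r le_rfl
  have hl : Abelian.monoLift (pullback.snd m u) (can r Y) h0 ≫ pullback.snd m u = can r Y :=
    Abelian.monoLift_comp _ _ _
  have hlW : IsARIso (Abelian.monoLift (pullback.snd m u) (can r Y) h0) :=
    isARIso_of_postcomp hsnd (by rw [hl]; exact isARIso_can r Y)
  obtain ⟨u', hu'⟩ := Groth.Agent.Lib.ARShift.main J kI hY r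
    (Abelian.monoLift (pullback.snd m u) (can r Y) h0 ≫ pullback.fst m u)
    (isARIso_comp hlW hfst)
  exact ⟨Y, u', hY, hu'⟩

end Linear

end Groth.Agent.Lib.ARSerreH4
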