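import Mathlib
import Groth.Prelude.Def_ARSys
import Groth.Agent.Lib.ARSerre_helper4
import Groth.Agent.Lib.ARFker_helper4
import Groth.Agent.Lib.ARFsub_helper4
import Groth.Agent.Lib.ARQuot_helper4

/-!
# Extensions of AR-adic systems (helper4)
-/

set_option autoImplicit false
set_option linter.style.haveILetI false
set_option linter.unusedSectionVars false

universe w v u

open CategoryTheory CategoryTheory.Limits Opposite ARSys

namespace Groth.Agent.Lib.ARExtH4

open Groth.Agent.Lib.TrCalc (can can_app)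
open Groth.Agent.Lib.ARSerreH4

variable {C : Type u} [Category.{v} C] [Abelian C]

lemma strict_of_epi {X I : PS C} (e : X ⟶ I) [Epi e] (hX : IsStrict X) : IsStrict I := by
  intro n m h
  haveI : Epi (e.app (op n)) := inferInstance
  haveI : Epi (tr X h) := hX n m h
  have nat := ARMLH4.nat_tr e h
  haveI : Epi (e.app (op m) ≫ tr I h) := by
    rw [← nat]
    exact epi_comp _ _
  exact epi_of_epi (e.app (op m)) (tr I h)

section SES

variable (S : ShortComplex (PS C)) (hS : S.ShortExact)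

include hS in
lemma strict_of_ses (h₁ : IsStrict S.X₁) (h₃ : IsStrict S.X₃) : IsStrict S.X₂ := by
  intro n m h
  rw [epi_iff_surjective_up_to_refinements]
  intro T y
  haveI := ARSESH4.epi_g_app S hS m
  haveI : Epi (tr S.X₃ h) := h₃ n m h
  haveI : Epi (tr S.X₁ h) := h₁ n m h
  obtain ⟨T₁, π₁, hπ₁, y', hy'⟩ :=
    surjective_up_to_refinements_of_epi (S.g.app (op m) ≫ tr S.X₃ h) (y ≫ S.g.app (op n))
  have natg := ARMLH4.nat_tr S.g h
  have natf := ARMLH4.nat_tr S.f h
  have hd : (π₁ ≫ y - y' ≫ tr S.X₂ h) ≫ S.g.app (op n) = 0 := by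
    rw [Preadditive.sub_comp, Category.assoc, Category.assoc, hy', natg, sub_self]
  obtain ⟨x, hx⟩ := ARSESH4.exists_lift S hS n _ hd
  obtain ⟨T₂, π₂, hπ₂, x', hx'⟩ := surjective_up_to_refinements_of_epi (tr S.X₁ h) x
  refine ⟨T₂, π₂ ≫ π₁, epi_comp _ _, π₂ ≫ y' + x' ≫ S.f.app (op m), ?_⟩
  have e1 : (x' ≫ S.f.app (op m)) ≫ tr S.X₂ h = π₂ ≫ (π₁ ≫ y - y' ≫ tr S.X₂ h) := by
    rw [Category.assoc, ← natf, ← Category.assoc, ← hx', Category.assoc, hx]
  rw [Preadditive.add_comp, e1, Preadditive.comp_sub]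
  simp only [Category.assoc]
  abel

end SES

section Linear

variable {A : Type w} [CommRing A] [Linear A C]

/-- an epimorphism onto an adic system with AR-null kernel, from a termwise killed system -/
theorem isARAdic_of_epi_null (J : Ideal A) {E Z : PS C} (β : E ⟶ Z) [Epi β]
    (hk : IsARNull (kernel β)) (kE : TermKilled J E) (hZ : IsAdic J Z) : IsARAdic J E := by
  have hβW : IsARIso β := isARIso_of_epi β hk
  obtain ⟨r, hr⟩ := hk
  have hepi : ∀ n, Epi (β.app (op n)) := fun n => inferInstance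
  have hdesc : ∀ n, ∃ l : Z.obj (op (n + r)) ⟶ E.obj (op n),
      β.app (op (n + r)) ≫ l = tr E (Nat.le_add_right n r) := by
    intro n
    haveI := hepi (n + r)
    have h0 : kernel.ι (β.app (op (n + r))) ≫ tr E (Nat.le_add_right n r) = 0 := by
      obtain ⟨t', ht'⟩ := Groth.Agent.Lib.ARShift.exists_lift_kernel_app β (op (n + r))
        (kernel.ι (β.app (op (n + r)))) (kernel.condition _)
      rw [← ht', Category.assoc, ← ARMLH4.nat_tr (kernel.ι β) (Nat.le_add_right n r),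
        show tr (kernel β) (Nat.le_add_right n r) = 0 from hr n, zero_comp, comp_zero]
    exact ⟨Abelian.epiDesc (β.app (op (n + r))) _ h0, Abelian.comp_epiDesc _ _ _⟩
  choose σ hσ using hdesc
  obtain ⟨v, hv⟩ : ∃ v : (shift C r).obj Z ⟶ E, ∀ n, v.app (op n) = σ n :=
    ⟨{ app := fun k => σ k.unop
       naturality := by
        intro k k' f
        obtain ⟨m⟩ := k
        obtain ⟨n⟩ := k'
        have hnm : n ≤ m := leOfHom f.unop
        haveI := hepi (m + r)
        show tr Z (Nat.add_le_add_right hnm r) ≫ σ n = σ m ≫ tr E hnm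
        have e1 : β.app (op (m + r)) ≫ tr Z (Nat.add_le_add_right hnm r) ≫ σ n =
            tr E (hnm.trans (Nat.le_add_right m r)) := by
          rw [← Category.assoc, ← ARMLH4.nat_tr β (Nat.add_le_add_right hnm r), Category.assoc,
            hσ n, ARMLH4.tr_comp]
        have e2 : β.app (op (m + r)) ≫ σ m ≫ tr E hnm =
            tr E (hnm.trans (Nat.le_add_right m r)) := by
          rw [← Category.assoc, hσ m, ARMLH4.tr_comp]
        rw [← cancel_epi (β.app (op (m + r))), e1, e2] }, fun n => rfl⟩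
  have hvβ : v ≫ β = can r Z := by
    ext k
    obtain ⟨n⟩ := k
    haveI := hepi (n + r)
    rw [NatTrans.comp_app, hv n, can_app]
    show (σ n ≫ β.app (op n) : Z.obj (op (n + r)) ⟶ Z.obj (op n)) = tr Z (Nat.le_add_right n r)
    rw [← cancel_epi (β.app (op (n + r))), ← Category.assoc, hσ n]
    exact ARMLH4.nat_tr β (Nat.le_add_right n r)
  have hvW : IsARIso v := isARIso_of_postcomp hβW (by rw [hvβ]; exact isARIso_can r Z)
  obtain ⟨u, hu⟩ := Groth.Agent.Lib.ARShift.main J kE hZ r v hvW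
  exact ⟨kE, Z, u, hZ, hu⟩

section SES

variable (S : ShortComplex (PS C)) (hS : S.ShortExact)

include hS in
/-- the core case: strict AR-adic kernel, adic cokernel -/
theorem core [IsNoetherianRing A] (J : Ideal A) (k₂ : TermKilled J S.X₂) (h₁s : IsStrict S.X₁)
    (h₁ : IsARAdic J S.X₁) (h₃ : IsAdic J S.X₃) : IsARAdic J S.X₂ := by
  have hJ : J.FG ∨ HasCoproducts.{w} C :=
    Or.inl ((isNoetherianRing_iff_ideal_fg A).1 inferInstance J)
  have h₃s : IsStrict S.X₃ := fun n m h => ARNoethH4.epi_of_isQuot _ (h₃.2 n m h)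
  have h₂s : IsStrict S.X₂ := strict_of_ses S hS h₁s h₃s
  obtain ⟨r, -, hr⟩ := Groth.Agent.Lib.ARFkerH4.fwd3158 J S.X₁ h₁s h₁
  refine Groth.Agent.Lib.ARFkerH4.bwd3158 J hJ S.X₂ h₂s k₂ r (fun n => ?_)
  intro W ψ hψ
  cases n with
  | zero =>
    have h1 : (1 : A) • ψ = 0 := hψ 1 (by
      rw [Nat.zero_sub, pow_zero, Ideal.one_eq_top]
      exact Submodule.mem_top)
    rw [one_smul] at h1
    rw [h1, comp_zero]
  | succ m =>
    have hm : m ≤ m + 1 := Nat.le_succ m
    show (kernelSubobject (tr S.X₂ hm)).arrow ≫ ψ = 0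
    obtain ⟨ψ', hfst, hsnd⟩ : ∃ ψ' : S.X₂.obj (op (m + 1)) ⟶ W ⊞ S.X₂.obj (op m),
        ψ' ≫ biprod.fst = ψ ∧ ψ' ≫ biprod.snd = tr S.X₂ hm :=
      ⟨biprod.lift ψ (tr S.X₂ hm), biprod.lift_fst _ _, biprod.lift_snd _ _⟩
    have hψ'k : HomKilledBy (J ^ (m + 1)) ψ' := by
      intro a ha
      apply biprod.hom_ext
      · rw [Linear.smul_comp, hfst, zero_comp]
        exact hψ a (Ideal.pow_le_pow_right (Nat.sub_le _ _) ha)
      · rw [Linear.smul_comp, hsnd, zero_comp]
        exact Groth.Agent.Lib.ARShift.homKilledBy_of_killedBy _ _ (k₂ m) a ha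
    have natf := ARMLH4.nat_tr S.f hm
    have natg := ARMLH4.nat_tr S.g hm
    have h3 : S.f.app (op (m + 1)) ≫ (ψ' ≫ cokernel.π (S.f.app (op (m + 1)) ≫ ψ')) = 0 := by
      rw [← Category.assoc, cokernel.condition]
    obtain ⟨ζ, hζ⟩ := ARSESH4.exists_desc S hS (m + 1) _ h3
    haveI := ARSESH4.epi_g_app S hS (m + 1)
    have hζk : HomKilledBy (J ^ (m + 1)) ζ := by
      apply Groth.Agent.Lib.ARQuotH4.homKilledBy_of_epi_comp _ (S.g.app (op (m + 1)))
      rw [hζ]
      intro a ha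
      rw [← Linear.smul_comp, hψ'k a ha, zero_comp]
    obtain ⟨ζ', hζ'0, -⟩ := (h₃.2 m (m + 1) hm).2 _ ζ hζk
    have hζ' : tr S.X₃ hm ≫ ζ' = ζ := hζ'0
    have hK : ((kernelSubobject (tr S.X₂ hm)).arrow ≫ ψ') ≫
        cokernel.π (S.f.app (op (m + 1)) ≫ ψ') = 0 := by
      calc ((kernelSubobject (tr S.X₂ hm)).arrow ≫ ψ') ≫ cokernel.π (S.f.app (op (m + 1)) ≫ ψ')
          = (kernelSubobject (tr S.X₂ hm)).arrow ≫ S.g.app (op (m + 1)) ≫ ζ := by
            rw [Category.assoc, hζ]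
        _ = ((kernelSubobject (tr S.X₂ hm)).arrow ≫ tr S.X₂ hm) ≫ S.g.app (op m) ≫ ζ' := by
            rw [Category.assoc, reassoc_of% natg, hζ']
        _ = 0 := by rw [kernelSubobject_arrow_comp, zero_comp]
    have hle : imageSubobject ((kernelSubobject (tr S.X₂ hm)).arrow ≫ ψ') ≤
        imageSubobject (S.f.app (op (m + 1)) ≫ ψ') :=
      ARSESH4.le_image_of_comp_cokernel _ _ hK
    obtain ⟨T, x, π, hπ, hx⟩ := AbSubobjH4.exists_epi_lift (S.f.app (op (m + 1)) ≫ ψ')
      ((kernelSubobject (tr S.X₂ hm)).arrow ≫ ψ') hle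
    haveI := hπ
    have hxs : x ≫ tr S.X₁ hm = 0 := by
      haveI := ARSESH4.mono_f_app S hS m
      rw [← cancel_mono (S.f.app (op m)), zero_comp, Category.assoc, natf]
      have h8 := congrArg (fun t => t ≫ biprod.snd) hx
      simp only [Category.assoc, hsnd, kernelSubobject_arrow_comp, comp_zero] at h8
      exact h8
    have hxF : imageSubobject x ≤ Fker S.X₁ (m + 1) :=
      (ARFsubH4.le_kernel_iff x (tr S.X₁ hm)).2 hxs
    have hφk : HomKilledBy (J ^ (m + 1 - r)) (S.f.app (op (m + 1)) ≫ ψ) :=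
      Groth.Agent.Lib.ARQuotH4.homKilledBy_comp _ _ _ hψ
    have h9 : (Fker S.X₁ (m + 1)).arrow ≫ S.f.app (op (m + 1)) ≫ ψ = 0 := hr (m + 1) W _ hφk
    have hx0 : x ≫ S.f.app (op (m + 1)) ≫ ψ = 0 := by
      have e : x = (factorThruImageSubobject x ≫ Subobject.ofLE _ _ hxF) ≫
          (Fker S.X₁ (m + 1)).arrow := by
        rw [Category.assoc, Subobject.ofLE_arrow, imageSubobject_arrow_comp]
      rw [e, Category.assoc, h9, comp_zero]
    have h10 := congrArg (fun t => t ≫ biprod.fst) hx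
    simp only [Category.assoc, hfst] at h10
    rw [← cancel_epi π, comp_zero, ← h10, hx0]

include hS in
/-- replace the third term by an adic system via pullback -/
lemma exists_pullback_ses (J : Ideal A) (k₂ : TermKilled J S.X₂) (h₃ : IsARAdic J S.X₃) :
    ∃ (P Y₃ : PS C) (i : S.X₁ ⟶ P) (p : P ⟶ Y₃) (w : i ≫ p = 0) (q : P ⟶ S.X₂),
      (ShortComplex.mk i p w).ShortExact ∧ TermKilled J P ∧ IsAdic J Y₃ ∧ IsARIso q := by
  obtain ⟨-, Y₃, u₃, hY₃, hu₃⟩ := h₃
  haveI := hS.mono_f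
  haveI := hS.epi_g
  have hi0 : S.f ≫ S.g = (0 : S.X₁ ⟶ Y₃) ≫ u₃ := by rw [S.zero, zero_comp]
  have hfst : pullback.lift S.f 0 hi0 ≫ pullback.fst S.g u₃ = S.f := pullback.lift_fst _ _ _
  have hsnd : pullback.lift S.f 0 hi0 ≫ pullback.snd S.g u₃ = 0 := pullback.lift_snd _ _ _
  haveI : Mono (pullback.lift S.f 0 hi0) := mono_of_mono_fac hfst
  haveI : Epi (pullback.snd S.g u₃) := inferInstance
  refine ⟨pullback S.g u₃, Y₃, pullback.lift S.f 0 hi0, pullback.snd S.g u₃, hsnd,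
    pullback.fst S.g u₃, ?_, ?_, hY₃, ?_⟩
  · refine ShortComplex.ShortExact.mk' ?_ (show Mono (pullback.lift S.f 0 hi0) from inferInstance)
      (show Epi (pullback.snd S.g u₃) from inferInstance)
    apply ShortComplex.exact_of_f_is_kernel
    refine KernelFork.IsLimit.ofι' _ _ (fun {T} k hk => ?_)
    have hk' : k ≫ pullback.snd S.g u₃ = 0 := hk
    have h1 : (k ≫ pullback.fst S.g u₃) ≫ S.g = 0 := by
      rw [Category.assoc, pullback.condition, ← Category.assoc, hk', zero_comp]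
    refine ⟨hS.exact.lift _ h1, ?_⟩
    show hS.exact.lift _ h1 ≫ pullback.lift S.f 0 hi0 = k
    apply pullback.hom_ext
    · rw [Category.assoc, hfst, hS.exact.lift_f]
    · rw [Category.assoc, hsnd, comp_zero, hk']
  · intro n a ha
    have sqn := (IsPullback.of_hasPullback S.g u₃).map ((evaluation ℕᵒᵖ C).obj (op n))
    apply sqn.hom_ext
    · show (a • 𝟙 _) ≫ (pullback.fst S.g u₃).app (op n) = 0 ≫ (pullback.fst S.g u₃).app (op n)
      rw [zero_comp, Linear.smul_comp, Category.id_comp]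
      exact Groth.Agent.Lib.ARShift.homKilledBy_of_killedBy _ _ (k₂ n) a ha
    · show (a • 𝟙 _) ≫ (pullback.snd S.g u₃).app (op n) = 0 ≫ (pullback.snd S.g u₃).app (op n)
      rw [zero_comp, Linear.smul_comp, Category.id_comp]
      exact Groth.Agent.Lib.ARShift.homKilledBy_of_killedBy _ _ (hY₃.1 n) a ha
  · exact (isARIso_iff _).2
      (MorphismProperty.pullback_fst (P := W) S.g u₃ ((isARIso_iff _).1 hu₃))

include hS in
theorem strict_case [IsNoetherianRing A] (J : Ideal A) (k₂ : TermKilled J S.X₂)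
    (h₁s : IsStrict S.X₁) (h₁ : IsARAdic J S.X₁) (h₃ : IsARAdic J S.X₃) : IsARAdic J S.X₂ := by
  obtain ⟨P, Y₃, i, p, w, q, hex, kP, hY₃, hq⟩ := exists_pullback_ses S hS J k₂ h₃
  obtain ⟨-, Y', v, hY', hv⟩ := core (ShortComplex.mk i p w) hex J kP h₁s h₁ hY₃
  exact ⟨k₂, Y', v ≫ q, hY', isARIso_comp hv hq⟩

include hS in
theorem adic_case [IsNoetherianRing A] (J : Ideal A) (k₂ : TermKilled J S.X₂)
    (h₁ : IsARAdic J S.X₁) (h₃ : IsAdic J S.X₃) : IsARAdic J S.X₂ := by
  haveI := hS.mono_f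
  haveI := hS.epi_g
  obtain ⟨k₁, Y₁, u₁, hY₁, hu₁⟩ := h₁
  have hIs : IsStrict (Abelian.image u₁) := strict_of_epi (Abelian.factorThruImage u₁)
    (fun n m h => ARNoethH4.epi_of_isQuot _ (hY₁.2 n m h))
  have hck : IsARNull (cokernel (Abelian.image.ι u₁)) :=
    Groth.Agent.Lib.ARShift.isARNull_cokernel_of_comp (Abelian.factorThruImage u₁)
      (Abelian.image.ι u₁) (by rw [Abelian.image.fac]; exact hu₁.2)
  have hI : IsARAdic J (Abelian.image u₁) :=
    isARAdic_of_mono J (Abelian.image.ι u₁) hck (termKilled_of_mono J (Abelian.image.ι u₁) k₁)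
      ⟨k₁, Y₁, u₁, hY₁, hu₁⟩
  obtain ⟨i', hi'⟩ : ∃ i' : Abelian.image u₁ ⟶ S.X₂, i' = Abelian.image.ι u₁ ≫ S.f := ⟨_, rfl⟩
  haveI : Mono i' := by
    rw [hi']
    exact mono_comp _ _
  have hT : (ShortComplex.mk i' (cokernel.π i') (cokernel.condition i')).ShortExact :=
    ShortComplex.ShortExact.mk' (ShortComplex.exact_cokernel i') (show Mono i' from inferInstance)
      (show Epi (cokernel.π i') from inferInstance)
  have hβ0 : i' ≫ S.g = 0 := by rw [hi', Category.assoc, S.zero, comp_zero]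
  obtain ⟨β, hβ⟩ : ∃ β : cokernel i' ⟶ S.X₃, cokernel.π i' ≫ β = S.g :=
    ⟨cokernel.desc i' S.g hβ0, cokernel.π_desc _ _ _⟩
  haveI : Epi β := epi_of_epi_fac hβ
  have hα0 : Abelian.image.ι u₁ ≫ (S.f ≫ cokernel.π i') = 0 := by
    rw [← Category.assoc, ← hi', cokernel.condition]
  obtain ⟨α, hα⟩ : ∃ α : cokernel (Abelian.image.ι u₁) ⟶ cokernel i',
      cokernel.π (Abelian.image.ι u₁) ≫ α = S.f ≫ cokernel.π i' :=
    ⟨cokernel.desc _ _ hα0, cokernel.π_desc _ _ _⟩
  have hαβ : α ≫ β = 0 := by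
    rw [← cancel_epi (cokernel.π (Abelian.image.ι u₁)), ← Category.assoc, hα, Category.assoc, hβ,
      S.zero, comp_zero]
  have hepi : Epi (kernel.lift β α hαβ) := by
    rw [epi_iff_surjective_up_to_refinements]
    intro T t
    obtain ⟨T₁, π₁, hπ₁, y, hy⟩ :=
      surjective_up_to_refinements_of_epi (cokernel.π i') (t ≫ kernel.ι β)
    have hy0 : y ≫ S.g = 0 := by
      rw [← hβ, ← Category.assoc, ← hy, Category.assoc, Category.assoc, kernel.condition,
        comp_zero, comp_zero]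
    refine ⟨T₁, π₁, hπ₁, hS.exact.lift y hy0 ≫ cokernel.π (Abelian.image.ι u₁), ?_⟩
    rw [← cancel_mono (kernel.ι β)]
    simp only [Category.assoc, kernel.lift_ι]
    rw [hα, ← Category.assoc (hS.exact.lift y hy0), hS.exact.lift_f, hy]
  haveI := hepi
  have hkβ : IsARNull (kernel β) :=
    Groth.Agent.Lib.ARShift.isARNull_of_epi (kernel.lift β α hαβ) hck
  have hE : IsARAdic J (cokernel i') :=
    isARAdic_of_epi_null J β hkβ (termKilled_of_epi J (cokernel.π i') k₂) h₃
  exact strict_case (ShortComplex.mk i' (cokernel.π i') (cokernel.condition i')) hT J k₂ hIs hI hE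

include hS in
theorem main3165 [IsNoetherianRing A] (J : Ideal A) (k₂ : TermKilled J S.X₂)
    (h₁ : IsARAdic J S.X₁) (h₃ : IsARAdic J S.X₃) : IsARAdic J S.X₂ := by
  obtain ⟨P, Y₃, i, p, w, q, hex, kP, hY₃, hq⟩ := exists_pullback_ses S hS J k₂ h₃
  obtain ⟨-, Y', v, hY', hv⟩ := adic_case (ShortComplex.mk i p w) hex J kP h₁ hY₃
  exact ⟨k₂, Y', v ≫ q, hY', isARIso_comp hv hq⟩

include hS in
theorem main3166 [IsNoetherianRing A] (J : Ideal A) (k₂ : TermKilled J S.X₂)
    (h₁ : IsARAdicNoeth J S.X₁) (h₃ : IsARAdicNoeth J S.X₃) : IsARAdicNoeth J S.X₂ := by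
  refine ⟨main3165 S hS J k₂ h₁.1 h₃.1, fun n => ?_⟩
  have hev := hS.map_of_exact ((evaluation ℕᵒᵖ C).obj (op n))
  haveI : IsNoetherianObject (S.map ((evaluation ℕᵒᵖ C).obj (op n))).X₁ := h₁.2 n
  haveI : IsNoetherianObject (S.map ((evaluation ℕᵒᵖ C).obj (op n))).X₃ := h₃.2 n
  exact AbSubobjH4.isNoetherianObject_of_shortExact _ hev

include hS in
theorem main8642 [IsNoetherianRing A] (J : Ideal A) (k₂ : TermKilled J S.X₂)
    (h₁ : IsARAdicArt J S.X₁) (h₃ : IsARAdicArt J S.X₃) : IsARAdicArt J S.X₂ := by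
  refine ⟨main3165 S hS J k₂ h₁.1 h₃.1, fun n => ?_⟩
  have hev := hS.map_of_exact ((evaluation ℕᵒᵖ C).obj (op n))
  haveI : IsArtinianObject (S.map ((evaluation ℕᵒᵖ C).obj (op n))).X₁ := h₁.2 n
  haveI : IsArtinianObject (S.map ((evaluation ℕᵒᵖ C).obj (op n))).X₃ := h₃.2 n
  exact AbSubobjH4.isArtinianObject_of_shortExact _ hev

end SES

theorem main8633 [IsNoetherianRing A] (J : Ideal A) {T X Y Z : PS C} (a : T ⟶ X) (b : X ⟶ Y)
    (c : Y ⟶ Z) [Mono a] [Epi c] (wab : a ≫ b = 0) (wbc : b ≫ c = 0)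
    (hab : (ShortComplex.mk a b wab).Exact) (hbc : (ShortComplex.mk b c wbc).Exact)
    (hT : IsARNull T) (hX : IsAdic J X) (hY : TermKilled J Y) (hZ : IsAdic J Z) :
    IsARAdic J Y := by
  have w' : Abelian.image.ι b ≫ c = 0 := by
    rw [← cancel_epi (Abelian.factorThruImage b), ← Category.assoc, Abelian.image.fac, wbc,
      comp_zero]
  let φ : ShortComplex.mk b c wbc ⟶ ShortComplex.mk (Abelian.image.ι b) c w' :=
    { τ₁ := Abelian.factorThruImage b
      τ₂ := 𝟙 _
      τ₃ := 𝟙 _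
      comm₁₂ := by
        dsimp
        rw [Abelian.image.fac, Category.comp_id]
      comm₂₃ := by
        dsimp
        rw [Category.id_comp, Category.comp_id] }
  haveI : Epi φ.τ₁ := show Epi (Abelian.factorThruImage b) from inferInstance
  haveI : IsIso φ.τ₂ := show IsIso (𝟙 Y) from inferInstance
  haveI : Mono φ.τ₃ := show Mono (𝟙 Z) from inferInstance
  have hex : (ShortComplex.mk (Abelian.image.ι b) c w').Exact :=
    (ShortComplex.exact_iff_of_epi_of_isIso_of_mono φ).1 hbc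
  have hS : (ShortComplex.mk (Abelian.image.ι b) c w').ShortExact :=
    ShortComplex.ShortExact.mk' hex (show Mono (Abelian.image.ι b) from inferInstance)
      (show Epi c from inferInstance)
  have hk0 : kernel.ι (Abelian.factorThruImage b) ≫ b = 0 := by
    have h1 : kernel.ι (Abelian.factorThruImage b) ≫ Abelian.factorThruImage b ≫
        Abelian.image.ι b = 0 := by
      rw [← Category.assoc, kernel.condition, zero_comp]
    rwa [Abelian.image.fac] at h1
  haveI : Mono (ShortComplex.mk a b wab).f := show Mono a from inferInstance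
  have hl : hab.lift (kernel.ι (Abelian.factorThruImage b)) hk0 ≫ a =
      kernel.ι (Abelian.factorThruImage b) := hab.lift_f _ _
  haveI : Mono (hab.lift (kernel.ι (Abelian.factorThruImage b)) hk0) := mono_of_mono_fac hl
  have hkn : IsARNull (kernel (Abelian.factorThruImage b)) :=
    arNull_of_mono (hab.lift (kernel.ι (Abelian.factorThruImage b)) hk0) hT
  have hI : IsARAdic J (Abelian.image b) :=
    ⟨termKilled_of_mono J (Abelian.image.ι b) hY, X, Abelian.factorThruImage b, hX,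
      isARIso_of_epi _ hkn⟩
  exact main3165 _ hS J hY hI ⟨hZ.1, Z, 𝟙 Z, hZ, isARIso_id Z⟩

end Linear

end Groth.Agent.Lib.ARExtH4
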