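import Mathlib
import Groth.Prelude.Def_ARSys
import Groth.Agent.Lib.ARML_helper4
import Groth.Agent.Lib.ARSES_helper4
import Groth.Agent.Lib.ARShift_helper9
set_option autoImplicit false
set_option linter.style.haveILetI false
set_option linter.unusedSectionVars false

universe w v u

open CategoryTheory CategoryTheory.Limits Opposite ARSys

namespace Groth.Agent.Lib.ARAdicSESH4

open ARMLH4 ARSESH4

variable {C : Type u} [Category.{v} C] [Abelian C]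

lemma image_le_of_fac {P P' T Q : C} (α : P ⟶ Q) (β : P' ⟶ Q) (π : T ⟶ P) [Epi π] (z : T ⟶ P')
    (h : z ≫ β = π ≫ α) : imageSubobject α ≤ imageSubobject β := by
  calc imageSubobject α = imageSubobject (π ≫ α) := (AbSubobjH4.img_epi_comp π α).symm
    _ = imageSubobject (z ≫ β) := by rw [h]
    _ ≤ imageSubobject β := imageSubobject_comp_le _ _

lemma epi_kernel_lift {Y Y₃ X : PS C} (c : Y ⟶ Y₃) [Epi c]
    (w : Y₃ ⟶ X) (φ : Y ⟶ X) (hφ : c ≫ w = φ) :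
    Epi (kernel.lift w (kernel.ι φ ≫ c) (by rw [Category.assoc, hφ, kernel.condition])) := by
  subst hφ
  rw [epi_iff_surjective_up_to_refinements]
  intro T a
  obtain ⟨T', π, hπ, b, hb⟩ := surjective_up_to_refinements_of_epi c (a ≫ kernel.ι w)
  have hb0 : b ≫ (c ≫ w) = 0 := by
    rw [← Category.assoc, ← hb, Category.assoc, Category.assoc, kernel.condition, comp_zero,
      comp_zero]
  refine ⟨T', π, hπ, kernel.lift _ b hb0, ?_⟩
  rw [← cancel_mono (kernel.ι w)]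
  simp only [Category.assoc, kernel.lift_ι, kernel.lift_ι_assoc]
  exact hb

lemma exists_epi_kernel_lift {Y Y₃ X : PS C} (c : Y ⟶ Y₃)
    [Epi c] (w : Y₃ ⟶ X) (φ : Y ⟶ X) (hφ : c ≫ w = φ) :
    ∃ l : kernel φ ⟶ kernel w, l ≫ kernel.ι w = kernel.ι φ ≫ c ∧ Epi l :=
  ⟨_, kernel.lift_ι _ _ _, epi_kernel_lift c w φ hφ⟩

lemma isARNull_kernel_of_cokernel {K' Y X : PS C} (φ : Y ⟶ X) (j : K' ⟶ kernel φ)
    (hcok : IsARNull (cokernel j)) (i : K' ⟶ Y) (hi : i = j ≫ kernel.ι φ) (w : cokernel i ⟶ X)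
    (hw : cokernel.π i ≫ w = φ) : IsARNull (kernel w) := by
  obtain ⟨lK, hlK, hlKepi⟩ := exists_epi_kernel_lift (cokernel.π i) w φ hw
  haveI := hlKepi
  have hj0 : j ≫ lK = 0 := by
    rw [← cancel_mono (kernel.ι w), Category.assoc, hlK, ← Category.assoc, ← hi,
      cokernel.condition, zero_comp]
  have hfac : cokernel.π j ≫ cokernel.desc j lK hj0 = lK := cokernel.π_desc _ _ _
  haveI : Epi (cokernel.desc j lK hj0) := epi_of_epi_fac hfac
  exact Groth.Agent.Lib.ARShift.isARNull_of_epi (cokernel.desc j lK hj0) hcok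

lemma isARNull_cokernel_of_epi {Y X₂ X₃ Y₃ : PS C} (u : Y ⟶ X₂) (g : X₂ ⟶ X₃) [Epi g]
    (φ : Y ⟶ X₃) (hφ : u ≫ g = φ) (c : Y ⟶ Y₃) (w : Y₃ ⟶ X₃) (hw : c ≫ w = φ)
    (hu : IsARNull (cokernel u)) : IsARNull (cokernel w) := by
  have h0 : u ≫ g ≫ cokernel.π w = 0 := by
    rw [← Category.assoc, hφ, ← hw, Category.assoc, cokernel.condition, comp_zero]
  have hfac : cokernel.π u ≫ cokernel.desc u (g ≫ cokernel.π w) h0 = g ≫ cokernel.π w :=
    cokernel.π_desc _ _ _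
  haveI : Epi (g ≫ cokernel.π w) := epi_comp _ _
  haveI : Epi (cokernel.desc u (g ≫ cokernel.π w) h0) := epi_of_epi_fac hfac
  exact Groth.Agent.Lib.ARShift.isARNull_of_epi (cokernel.desc u (g ≫ cokernel.π w) h0) hu

section SES

variable (S : ShortComplex (PS C)) (hS : S.ShortExact)

include hS in
/-- the kernel of `Y ⟶ X₂ ⟶ X₃` is uniformly ML when `Y ⟶ X₂` is an AR-isomorphism and `X₁` is
uniformly ML -/
lemma mlar_kernel {Y : PS C} (u : Y ⟶ S.X₂) (φ : Y ⟶ S.X₃) (hφ : u ≫ S.g = φ) (hu : IsARIso u)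
    (h₁ : IsMLAR S.X₁) : IsMLAR (kernel φ) := by
  obtain ⟨r, hr⟩ := h₁
  obtain ⟨⟨a, ha⟩, ⟨b, hb⟩⟩ := hu
  refine ⟨r + a, fun s hs n => le_antisymm (image_shiftMap_anti _ n hs) ?_⟩
  have h_n_na : n ≤ n + a := Nat.le_add_right _ _
  have h_na_N : n + a ≤ n + (r + a) := by omega
  have h_n_N : n ≤ n + (r + a) := Nat.le_add_right _ _
  have h_n_M' : n ≤ n + s := Nat.le_add_right _ _
  have h_na_M' : n + a ≤ n + s := by omega
  have h_M'_M : n + s ≤ n + s + b := Nat.le_add_right _ _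
  have h_na_M : n + a ≤ n + s + b := by omega
  have hφn : ∀ m, u.app (op m) ≫ S.g.app (op m) = φ.app (op m) := by
    intro m
    rw [← hφ]
    rfl
  have hιφ : ∀ m, (kernel.ι φ).app (op m) ≫ φ.app (op m) = 0 := by
    intro m
    rw [← NatTrans.comp_app, kernel.condition]
    rfl
  -- step 1
  have h0 : ((kernel.ι φ).app (op (n + (r + a))) ≫ u.app (op (n + (r + a)))) ≫
      S.g.app (op (n + (r + a))) = 0 := by
    rw [Category.assoc, hφn, hιφ]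
  obtain ⟨a₁, ha₁⟩ := exists_lift S hS (n + (r + a)) _ h0
  -- step 2
  have hle1 : imageSubobject (a₁ ≫ tr S.X₁ h_na_N) ≤ imageSubobject (tr S.X₁ h_na_M) :=
    (imageSubobject_comp_le _ _).trans (le_of_eq ((mlar_image hr h_na_N (by omega)).trans
      (mlar_image hr h_na_M (by omega)).symm))
  obtain ⟨T₁, b₁, π₁, hπ₁, e1⟩ :=
    AbSubobjH4.exists_epi_lift (tr S.X₁ h_na_M) (a₁ ≫ tr S.X₁ h_na_N) hle1
  -- step 3
  have hz0 : (b₁ ≫ S.f.app (op (n + s + b)) ≫ tr S.X₂ h_M'_M) ≫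
      (cokernel.π u).app (op (n + s)) = 0 := by
    have h0' : tr S.X₂ h_M'_M ≫ (cokernel.π u).app (op (n + s)) = 0 :=
      comp_cokernel_shift u hb (n + s) b le_rfl
    simp only [Category.assoc]
    rw [h0', comp_zero, comp_zero]
  obtain ⟨T₂, y, π₂, hπ₂, e2⟩ := AbSubobjH4.exists_epi_lift (u.app (op (n + s))) _
    (image_le_of_comp_cokernel u (n + s) _ hz0)
  -- step 4
  have hy0 : y ≫ φ.app (op (n + s)) = 0 := by
    rw [← hφn, ← Category.assoc, e2]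
    simp only [Category.assoc]
    rw [nat_tr S.g h_M'_M, reassoc_of% (fg_app S (n + s + b))]
    simp
  obtain ⟨y', hy'⟩ := Groth.Agent.Lib.ARShift.exists_lift_kernel_app φ (op (n + s)) y hy0
  -- step 5
  have eA : (y ≫ tr Y h_na_M') ≫ u.app (op (n + a)) =
      π₂ ≫ π₁ ≫ a₁ ≫ tr S.X₁ h_na_N ≫ S.f.app (op (n + a)) := by
    rw [Category.assoc, nat_tr u h_na_M', reassoc_of% e2, tr_comp S.X₂ h_na_M' h_M'_M,
      ← nat_tr S.f (h_na_M'.trans h_M'_M), reassoc_of% e1]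
  have eB : (π₂ ≫ π₁ ≫ (kernel.ι φ).app (op (n + (r + a))) ≫ tr Y h_na_N) ≫
      u.app (op (n + a)) = π₂ ≫ π₁ ≫ a₁ ≫ tr S.X₁ h_na_N ≫ S.f.app (op (n + a)) := by
    simp only [Category.assoc]
    rw [nat_tr u h_na_N, ← reassoc_of% ha₁, ← nat_tr S.f h_na_N]
  have hd : (y ≫ tr Y h_na_M' - π₂ ≫ π₁ ≫ (kernel.ι φ).app (op (n + (r + a))) ≫ tr Y h_na_N) ≫
      u.app (op (n + a)) = 0 := by
    rw [Preadditive.sub_comp, eA, eB, sub_self]
  obtain ⟨t', ht'⟩ := Groth.Agent.Lib.ARShift.exists_lift_kernel_app u (op (n + a)) _ hd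
  have hd0 : (y ≫ tr Y h_na_M' -
      π₂ ≫ π₁ ≫ (kernel.ι φ).app (op (n + (r + a))) ≫ tr Y h_na_N) ≫ tr Y h_n_na = 0 := by
    rw [← ht', Category.assoc, ← nat_tr (kernel.ι u) h_n_na,
      show tr (kernel u) h_n_na = 0 from ha n, zero_comp, comp_zero]
  rw [Preadditive.sub_comp, sub_eq_zero] at hd0
  simp only [Category.assoc] at hd0
  rw [tr_comp Y h_n_na h_na_M', tr_comp Y h_n_na h_na_N] at hd0
  haveI : Mono ((kernel.ι φ).app (op n)) := inferInstance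
  have e6 : y' ≫ tr (kernel φ) h_n_M' = (π₂ ≫ π₁) ≫ tr (kernel φ) h_n_N := by
    rw [← cancel_mono ((kernel.ι φ).app (op n))]
    simp only [Category.assoc]
    rw [nat_tr (kernel.ι φ) h_n_M', nat_tr (kernel.ι φ) h_n_N, reassoc_of% hy']
    exact hd0
  haveI := hπ₁
  haveI := hπ₂
  show imageSubobject (tr (kernel φ) h_n_N) ≤ imageSubobject (tr (kernel φ) h_n_M')
  exact image_le_of_fac _ _ (π₂ ≫ π₁) y' e6

variable {A : Type w} [CommRing A] [Linear A C]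

include hS in
theorem main3155 (J : Ideal A) (k₃ : TermKilled J S.X₃) (h₁ : IsMLAR S.X₁)
    (h₂ : IsARAdic J S.X₂) : IsARAdic J S.X₃ := by
  obtain ⟨-, Y, u, hY, hu⟩ := h₂
  refine ⟨k₃, ?_⟩
  obtain ⟨φ, hφ⟩ : ∃ φ : Y ⟶ S.X₃, u ≫ S.g = φ := ⟨_, rfl⟩
  obtain ⟨R, hR⟩ := mlar_kernel S hS u φ hφ hu h₁
  obtain ⟨hstrict, -, -, hcok⟩ := univImages hR
  obtain ⟨j, hj⟩ : ∃ j : Abelian.image (sigma (kernel φ) R) ⟶ kernel φ,
      j = Abelian.image.ι (sigma (kernel φ) R) := ⟨_, rfl⟩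
  haveI : Mono j := by rw [hj]; infer_instance
  obtain ⟨i, hi⟩ : ∃ i : Abelian.image (sigma (kernel φ) R) ⟶ Y, i = j ≫ kernel.ι φ := ⟨_, rfl⟩
  haveI : Mono i := by rw [hi]; infer_instance
  have hT : (ShortComplex.mk i (cokernel.π i) (cokernel.condition i)).ShortExact :=
    ShortComplex.ShortExact.mk' (ShortComplex.exact_cokernel i) inferInstance inferInstance
  have hY₃ : IsAdic J (cokernel i) := main3152 _ hT J hstrict hY
  have hiφ : i ≫ φ = 0 := by rw [hi, Category.assoc, kernel.condition, comp_zero]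
  obtain ⟨w, hw⟩ : ∃ w : cokernel i ⟶ S.X₃, cokernel.π i ≫ w = φ :=
    ⟨cokernel.desc i φ hiφ, cokernel.π_desc _ _ _⟩
  refine ⟨cokernel i, w, hY₃, ?_, ?_⟩
  · -- kernel
    have hcok' : IsARNull (cokernel j) := by rw [hj]; exact hcok
    exact isARNull_kernel_of_cokernel φ j hcok' i hi w hw
  · -- cokernel
    haveI := hS.epi_g
    exact isARNull_cokernel_of_epi u S.g φ hφ (cokernel.π i) w hw hu.2

include hS in
theorem main3156 (J : Ideal A) (k₂ : TermKilled J S.X₂) (h₂ : IsMLAR S.X₂)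
    (h₃ : IsARAdic J S.X₃) : IsMLAR S.X₁ := by
  obtain ⟨r, hr⟩ := h₂
  obtain ⟨-, Y, v, hY, ⟨a, ha⟩, ⟨b, hb⟩⟩ := h₃
  refine ⟨r + a, fun s hs n => le_antisymm (image_shiftMap_anti _ n hs) ?_⟩
  have h_n_na : n ≤ n + a := Nat.le_add_right _ _
  have h_na_N : n + a ≤ n + (r + a) := by omega
  have h_n_N : n ≤ n + (r + a) := Nat.le_add_right _ _
  have h_n_M' : n ≤ n + s := Nat.le_add_right _ _
  have h_na_M' : n + a ≤ n + s := by omega
  have h_M'_M : n + s ≤ n + s + b := Nat.le_add_right _ _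
  have h_na_M : n + a ≤ n + s + b := by omega
  -- step 1
  have hle1 : imageSubobject (S.f.app (op (n + (r + a))) ≫ tr S.X₂ h_na_N) ≤
      imageSubobject (tr S.X₂ h_na_M) :=
    (imageSubobject_comp_le _ _).trans (le_of_eq ((mlar_image hr h_na_N (by omega)).trans
      (mlar_image hr h_na_M (by omega)).symm))
  obtain ⟨T₁, y, π₁, hπ₁, e1⟩ := AbSubobjH4.exists_epi_lift (tr S.X₂ h_na_M)
    (S.f.app (op (n + (r + a))) ≫ tr S.X₂ h_na_N) hle1
  -- step 2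
  have hz0 : (y ≫ S.g.app (op (n + s + b)) ≫ tr S.X₃ h_M'_M) ≫
      (cokernel.π v).app (op (n + s)) = 0 := by
    have h0' : tr S.X₃ h_M'_M ≫ (cokernel.π v).app (op (n + s)) = 0 :=
      comp_cokernel_shift v hb (n + s) b le_rfl
    simp only [Category.assoc]
    rw [h0', comp_zero, comp_zero]
  obtain ⟨T₂, w, π₂, hπ₂, e2⟩ := AbSubobjH4.exists_epi_lift (v.app (op (n + s))) _
    (image_le_of_comp_cokernel v (n + s) _ hz0)
  -- step 3
  have h3 : (w ≫ tr Y h_na_M') ≫ v.app (op (n + a)) = 0 := by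
    rw [Category.assoc, nat_tr v h_na_M', reassoc_of% e2, tr_comp S.X₃ h_na_M' h_M'_M,
      ← nat_tr S.g (h_na_M'.trans h_M'_M), reassoc_of% e1, nat_tr S.g h_na_N,
      reassoc_of% (fg_app S (n + (r + a)))]
    simp
  obtain ⟨t', ht'⟩ := Groth.Agent.Lib.ARShift.exists_lift_kernel_app v (op (n + a)) _ h3
  have hw0 : w ≫ tr Y h_n_M' = 0 := by
    calc w ≫ tr Y h_n_M' = (w ≫ tr Y h_na_M') ≫ tr Y h_n_na := by
          rw [Category.assoc, tr_comp Y h_n_na h_na_M']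
      _ = t' ≫ tr (kernel v) h_n_na ≫ (kernel.ι v).app (op n) := by
          rw [← ht', Category.assoc, nat_tr (kernel.ι v) h_n_na]
      _ = 0 := by rw [show tr (kernel v) h_n_na = 0 from ha n, zero_comp, comp_zero]
  -- step 4
  obtain ⟨β, hβ⟩ : ∃ β : S.X₁.obj (op (n + s)) ⟶ S.X₂.obj (op n),
      β = tr S.X₁ h_n_M' ≫ S.f.app (op n) := ⟨_, rfl⟩
  have hΘ : S.f.app (op (n + s)) ≫ (tr S.X₂ h_n_M' ≫ cokernel.π β) = 0 := by
    rw [← Category.assoc, ← nat_tr S.f h_n_M', ← hβ, cokernel.condition]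
  obtain ⟨θ, hθ⟩ := exists_desc S hS (n + s) _ hΘ
  have hW : KilledBy (J ^ (n + 1)) (cokernel β) := by
    intro c hc
    rw [← cancel_epi (cokernel.π β), comp_zero, Linear.comp_smul, Category.comp_id]
    have h1 : c • cokernel.π β = (c • 𝟙 (S.X₂.obj (op n))) ≫ cokernel.π β := by
      rw [Linear.smul_comp, Category.id_comp]
    rw [h1, k₂ n c hc, zero_comp]
  have hk : HomKilledBy (J ^ (n + 1)) (v.app (op (n + s)) ≫ θ) :=
    Groth.Agent.Lib.ARShift.homKilledBy_of_killedBy (J ^ (n + 1)) _ hW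
  obtain ⟨θ', hθ', -⟩ := ((hY.2 n (n + s) h_n_M').2 _ (v.app (op (n + s)) ≫ θ) hk)
  have hkey : (π₂ ≫ y ≫ tr S.X₂ (h_n_M'.trans h_M'_M)) ≫ cokernel.π β = 0 := by
    calc (π₂ ≫ y ≫ tr S.X₂ (h_n_M'.trans h_M'_M)) ≫ cokernel.π β
        = π₂ ≫ y ≫ tr S.X₂ h_M'_M ≫ (tr S.X₂ h_n_M' ≫ cokernel.π β) := by
          rw [← tr_comp S.X₂ h_n_M' h_M'_M]
          simp only [Category.assoc]
      _ = π₂ ≫ y ≫ tr S.X₂ h_M'_M ≫ S.g.app (op (n + s)) ≫ θ := by rw [hθ]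
      _ = π₂ ≫ y ≫ S.g.app (op (n + s + b)) ≫ tr S.X₃ h_M'_M ≫ θ := by
          rw [reassoc_of% (nat_tr S.g h_M'_M)]
      _ = w ≫ v.app (op (n + s)) ≫ θ := by rw [reassoc_of% e2]
      _ = w ≫ tr Y h_n_M' ≫ θ' := by rw [hθ']
      _ = 0 := by rw [← Category.assoc, hw0, zero_comp]
  -- step 5
  obtain ⟨T₃, x'', π₃, hπ₃, e5⟩ := AbSubobjH4.exists_epi_lift β _
    (le_image_of_comp_cokernel _ β hkey)
  have hy : y ≫ tr S.X₂ (h_n_M'.trans h_M'_M) = π₁ ≫ tr S.X₁ h_n_N ≫ S.f.app (op n) := by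
    calc y ≫ tr S.X₂ (h_n_M'.trans h_M'_M) = y ≫ tr S.X₂ h_na_M ≫ tr S.X₂ h_n_na := by
          rw [tr_comp S.X₂ h_n_na h_na_M]
      _ = π₁ ≫ S.f.app _ ≫ tr S.X₂ h_na_N ≫ tr S.X₂ h_n_na := by rw [reassoc_of% e1]
      _ = π₁ ≫ S.f.app _ ≫ tr S.X₂ h_n_N := by rw [tr_comp S.X₂ h_n_na h_na_N]
      _ = π₁ ≫ tr S.X₁ h_n_N ≫ S.f.app (op n) := by rw [nat_tr S.f h_n_N]
  haveI := mono_f_app S hS n
  have e6 : x'' ≫ tr S.X₁ h_n_M' = (π₃ ≫ π₂ ≫ π₁) ≫ tr S.X₁ h_n_N := by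
    rw [← cancel_mono (S.f.app (op n))]
    rw [hβ, hy] at e5
    simp only [Category.assoc] at e5 ⊢
    exact e5
  haveI := hπ₁
  haveI := hπ₂
  haveI := hπ₃
  show imageSubobject (tr S.X₁ h_n_N) ≤ imageSubobject (tr S.X₁ h_n_M')
  exact image_le_of_fac _ _ (π₃ ≫ π₂ ≫ π₁) x'' e6

end SES

end Groth.Agent.Lib.ARAdicSESH4
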