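import Mathlib
import Groth.Prelude.Def_ARSys
import Groth.Agent.Lib.AbSubobj_helper4
import Groth.Agent.Lib.ARNoeth_helper4

set_option autoImplicit false
set_option linter.style.haveILetI false
set_option linter.unusedSectionVars false

universe w v u

open CategoryTheory CategoryTheory.Limits Opposite

namespace Groth.Agent.Lib.ARHilbH4

/-! ### Dickson-type stabilization -/

theorem dickson {P : Type*} [PartialOrder P] [WellFoundedGT P] {r : ℕ}
    (g : ℕ → (Fin r → ℕ) → P) (h1 : ∀ α, Monotone (fun i => g i α)) (h2 : ∀ i, Monotone (g i)) :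
    ∃ i₀, ∀ i, i₀ ≤ i → ∀ α, g i α = g i₀ α := by
  by_contra hcon
  push_neg at hcon
  choose nxt hn1 al hn2 using hcon
  have hlt : ∀ i₀, g i₀ (al i₀) < g (nxt i₀) (al i₀) := fun i₀ =>
    lt_of_le_of_ne (h1 _ (hn1 i₀)) (Ne.symm (hn2 i₀))
  let s : ℕ → ℕ := fun k => nxt^[k] 0
  have hs : ∀ k, s (k + 1) = nxt (s k) := fun k => Function.iterate_succ_apply' nxt k 0
  have hsm : Monotone s := monotone_nat_of_le_succ (fun k => by rw [hs]; exact hn1 _)
  obtain ⟨e, he⟩ := (wellQuasiOrdered_le (α := Fin r → ℕ)).exists_monotone_subseq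
    (fun k => al (s k))
  let c : ℕ → P := fun m => g (s (e m)) (al (s (e m)))
  have hc : ∀ m, c m < c (m + 1) := by
    intro m
    have hem : e m + 1 ≤ e (m + 1) := Nat.succ_le_of_lt (e.strictMono (Nat.lt_succ_self m))
    calc c m < g (nxt (s (e m))) (al (s (e m))) := hlt _
      _ = g (s (e m + 1)) (al (s (e m))) := by rw [hs]
      _ ≤ g (s (e (m + 1))) (al (s (e m))) := h1 _ (hsm hem)
      _ ≤ g (s (e (m + 1))) (al (s (e (m + 1)))) := h2 _ (he m (m + 1) (Nat.le_succ m))
  have hcm : StrictMono c := strictMono_nat_of_lt_succ hc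
  obtain ⟨n, hn⟩ := WellFoundedGT.monotone_chain_condition ⟨c, hcm.monotone⟩
  exact absurd (hn (n + 1) (Nat.le_succ n)) (ne_of_lt (hc n))

/-! ### subobject lemmas -/

section Sub

variable {𝒜 : Type u} [Category.{v} 𝒜] [Abelian 𝒜]

lemma gal {X Y : 𝒜} (f : X ⟶ Y) (S : Subobject X) (T : Subobject Y) :
    imageSubobject (S.arrow ≫ f) ≤ T ↔ S ≤ (Subobject.pullback f).obj T := by
  constructor
  · intro h
    have hfac : (factorThruImageSubobject (S.arrow ≫ f) ≫ Subobject.ofLE _ _ h) ≫ T.arrow =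
        S.arrow ≫ f := by
      rw [Category.assoc, Subobject.ofLE_arrow, imageSubobject_arrow_comp]
    exact Subobject.le_of_comm ((Subobject.isPullback f T).lift _ S.arrow hfac)
      ((Subobject.isPullback f T).lift_snd _ _ _)
  · intro h
    refine imageSubobject_le _ (Subobject.ofLE _ _ h ≫ Subobject.pullbackπ f T) ?_
    rw [Category.assoc, (Subobject.isPullback f T).w, ← Category.assoc, Subobject.ofLE_arrow]

lemma inf_image_le {X Y : 𝒜} (f : X ⟶ Y) (W : Subobject Y) :
    imageSubobject f ⊓ W ≤ imageSubobject (((Subobject.pullback f).obj W).arrow ≫ f) := by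
  let V : Subobject Y := imageSubobject f ⊓ W
  let e := factorThruImageSubobject f
  let k := Subobject.ofLE V (imageSubobject f) inf_le_left
  haveI : Epi (pullback.snd e k) := inferInstance
  have h1 : pullback.fst e k ≫ f = pullback.snd e k ≫ V.arrow := by
    calc pullback.fst e k ≫ f = (pullback.fst e k ≫ e) ≫ (imageSubobject f).arrow := by
          rw [Category.assoc, imageSubobject_arrow_comp]
      _ = (pullback.snd e k ≫ k) ≫ (imageSubobject f).arrow := by rw [pullback.condition]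
      _ = pullback.snd e k ≫ V.arrow := by rw [Category.assoc, Subobject.ofLE_arrow]
  have h2 : (pullback.snd e k ≫ Subobject.ofLE V W inf_le_right) ≫ W.arrow =
      pullback.fst e k ≫ f := by
    rw [h1, Category.assoc, Subobject.ofLE_arrow]
  let t := (Subobject.isPullback f W).lift _ _ h2
  have ht : t ≫ ((Subobject.pullback f).obj W).arrow = pullback.fst e k :=
    (Subobject.isPullback f W).lift_snd _ _ _
  have h3 : pullback.snd e k ≫ V.arrow = t ≫ ((Subobject.pullback f).obj W).arrow ≫ f := by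
    rw [← Category.assoc, ht, h1]
  calc V = imageSubobject V.arrow := (AbSubobjH4.image_arrow V).symm
    _ = imageSubobject (pullback.snd e k ≫ V.arrow) := (AbSubobjH4.img_epi_comp _ _).symm
    _ = imageSubobject (t ≫ ((Subobject.pullback f).obj W).arrow ≫ f) := by rw [h3]
    _ ≤ _ := imageSubobject_comp_le _ _

lemma image_image {X Y Z : 𝒜} (g : X ⟶ Y) (f : Y ⟶ Z) :
    imageSubobject ((imageSubobject g).arrow ≫ f) = imageSubobject (g ≫ f) := by
  calc imageSubobject ((imageSubobject g).arrow ≫ f)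
      = imageSubobject (factorThruImageSubobject g ≫ (imageSubobject g).arrow ≫ f) :=
        (AbSubobjH4.img_epi_comp _ _).symm
    _ = imageSubobject (g ≫ f) := by rw [← Category.assoc, imageSubobject_arrow_comp]

lemma modstep {X : 𝒜} (P Q B U : Subobject X) (hQP : Q ≤ P) (hU : U ⊓ (P ⊔ B) ≤ Q ⊔ B)
    (hB : P ⊓ B ≤ Q) : P ⊓ (U ⊔ B) ≤ Q := by
  have h1 : P ⊓ (U ⊔ B) ≤ (B ⊔ U) ⊓ (P ⊔ B) :=
    le_inf (inf_le_right.trans (le_of_eq (sup_comm _ _))) (inf_le_left.trans le_sup_left)
  have h2 : (B ⊔ U) ⊓ (P ⊔ B) = B ⊔ U ⊓ (P ⊔ B) := sup_inf_assoc_of_le U le_sup_right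
  have h3 : P ⊓ (U ⊔ B) ≤ Q ⊔ B := h1.trans (h2.le.trans (sup_le le_sup_right hU))
  have h4 : P ⊓ (U ⊔ B) ≤ (Q ⊔ B) ⊓ P := le_inf h3 inf_le_left
  have h5 : (Q ⊔ B) ⊓ P = Q ⊔ B ⊓ P := sup_inf_assoc_of_le B hQP
  exact h4.trans (h5.le.trans (sup_le le_rfl ((le_of_eq (inf_comm _ _)).trans hB)))

end Sub

/-! ### the main argument -/

section Main

open ARSys
open scoped Pointwise

variable {C : Type u} [Category.{v} C] [Abelian C] {A : Type w} [CommRing A] [Linear A C]

lemma tr_comp (X : PS C) {n m k : ℕ} (h1 : n ≤ m) (h2 : m ≤ k) :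
    tr X h2 ≫ tr X h1 = tr X (h1.trans h2) := by
  unfold tr
  rw [← X.map_comp]
  rfl

/-- degree of an exponent vector -/
def deg {r : ℕ} (x : Fin r → ℕ) : ℕ := ∑ i, x i

lemma deg_add_single {r : ℕ} (x : Fin r → ℕ) (j : Fin r) :
    deg (x + Pi.single j 1) = 1 + deg x := by
  unfold deg
  simp only [Pi.add_apply, Finset.sum_add_distrib, Finset.sum_pi_single', Finset.mem_univ,
    if_true]
  exact add_comm _ _

abbrev E (r : ℕ) := Lex (Fin r → ℕ)

def Sq (r q : ℕ) : Finset (E r) := (Finset.Nat.antidiagonalTuple r q : Finset (Fin r → ℕ))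

lemma mem_Sq {r q : ℕ} (y : E r) : y ∈ Sq r q ↔ deg (ofLex y) = q :=
  Finset.Nat.mem_antidiagonalTuple

variable (J : Ideal A) (X : PS C)

structure Data (r : ℕ) where
  a : Fin r → A
  ha : ∀ j, a j ∈ J
  hspan : Ideal.span (Set.range a) = J
  nu : (q : ℕ) → A → (X.obj (op 0) ⟶ X.obj (op q))
  hnu : ∀ (q : ℕ) (b : A), b ∈ J ^ q → tr X (Nat.zero_le q) ≫ nu q b = b • 𝟙 _
  lam : (q : ℕ) → A → (X.obj (op q) ⟶ X.obj (op (1 + q)))
  hlam : ∀ (q : ℕ) (c : A), c ∈ J → tr X (Nat.le_add_left q 1) ≫ lam q c = c • 𝟙 _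
  epi : ∀ (n m : ℕ) (h : n ≤ m), Epi (tr X h)
  adic : IsAdic J X

lemma exists_data [IsNoetherianRing A] (hX : IsAdic J X) : ∃ r : ℕ, Nonempty (Data J X r) := by
  obtain ⟨r, a, ha⟩ := Submodule.fg_iff_exists_fin_generating_family.1
    ((isNoetherianRing_iff_ideal_fg A).1 inferInstance J)
  have hepi : ∀ (n m : ℕ) (h : n ≤ m), Epi (tr X h) := fun n m h =>
    ARNoethH4.epi_of_isQuot _ (hX.2 n m h)
  have hnu : ∀ (q : ℕ) (b : A), ∃ β : X.obj (op 0) ⟶ X.obj (op q),
      b ∈ J ^ q → tr X (Nat.zero_le q) ≫ β = b • 𝟙 _ := by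
    intro q b
    by_cases hb : b ∈ J ^ q
    · have hk : HomKilledBy (J ^ (0 + 1)) (b • 𝟙 (X.obj (op q))) := by
        intro c hc
        rw [← mul_smul]
        apply hX.1 q
        rw [zero_add, pow_one] at hc
        rw [pow_succ']
        exact Ideal.mul_mem_mul hc hb
      obtain ⟨β, hβ, -⟩ := (hX.2 0 q (Nat.zero_le q)).2 _ _ hk
      exact ⟨β, fun _ => hβ⟩
    · exact ⟨0, fun h => absurd h hb⟩
  have hlam : ∀ (q : ℕ) (c : A), ∃ l : X.obj (op q) ⟶ X.obj (op (1 + q)),
      c ∈ J → tr X (Nat.le_add_left q 1) ≫ l = c • 𝟙 _ := by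
    intro q c
    by_cases hc : c ∈ J
    · have hk : HomKilledBy (J ^ (q + 1)) (c • 𝟙 (X.obj (op (1 + q)))) := by
        intro d hd
        rw [← mul_smul]
        apply hX.1 (1 + q)
        have : 1 + q + 1 = (q + 1) + 1 := by omega
        rw [this, pow_succ]
        exact Ideal.mul_mem_mul hd hc
      obtain ⟨l, hl, -⟩ := (hX.2 q (1 + q) (Nat.le_add_left q 1)).2 _ _ hk
      exact ⟨l, fun _ => hl⟩
    · exact ⟨0, fun h => absurd h hc⟩
  choose nu hnu' using hnu
  choose lam hlam' using hlam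
  have haJ : ∀ j, a j ∈ J := fun j => by
    rw [← ha]
    exact Submodule.subset_span ⟨j, rfl⟩
  exact ⟨r, ⟨Data.mk a haJ ha nu hnu' lam hlam' hepi hX⟩⟩

namespace Data

variable {J X} {r : ℕ} (D : Data J X r)

/-- monomial in the generators -/
def mon (x : Fin r → ℕ) : A := ∏ i, D.a i ^ x i

lemma mon_mem (x : Fin r → ℕ) : D.mon x ∈ J ^ deg x := by
  unfold mon deg
  rw [← Finset.prod_pow_eq_pow_sum]
  exact Ideal.prod_mem_prod (fun i _ => Ideal.pow_mem_pow (D.ha i) _)

lemma mon_add_single (x : Fin r → ℕ) (j : Fin r) :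
    D.mon (x + Pi.single j 1) = D.mon x * D.a j := by
  unfold mon
  simp only [Pi.add_apply, pow_add, Finset.prod_mul_distrib]
  congr 1
  rw [Finset.prod_eq_single j]
  · simp
  · intro i _ hij
    simp [Pi.single_eq_of_ne hij]
  · intro h
    exact absurd (Finset.mem_univ j) h

noncomputable def nu' (q : ℕ) (x : Fin r → ℕ) : X.obj (op 0) ⟶ X.obj (op q) := D.nu q (D.mon x)

lemma nu'_spec (q : ℕ) (x : Fin r → ℕ) (h : deg x = q) :
    tr X (Nat.zero_le q) ≫ D.nu' q x = D.mon x • 𝟙 _ :=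
  D.hnu q _ (h ▸ D.mon_mem x)

lemma nu_lam (q : ℕ) (x : Fin r → ℕ) (h : deg x = q) (j : Fin r) :
    D.nu' q x ≫ D.lam q (D.a j) = D.nu' (1 + q) (x + Pi.single j 1) := by
  haveI := D.epi 0 (1 + q) (Nat.zero_le _)
  rw [← cancel_epi (tr X (Nat.zero_le (1 + q)))]
  rw [D.nu'_spec (1 + q) _ (by rw [deg_add_single, h])]
  have e1 : tr X (Nat.zero_le (1 + q)) = tr X (Nat.le_add_left q 1) ≫ tr X (Nat.zero_le q) :=
    (tr_comp X _ _).symm
  rw [e1, Category.assoc, ← Category.assoc (tr X (Nat.zero_le q)), D.nu'_spec q x h,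
    Linear.smul_comp, Category.id_comp, Linear.comp_smul, D.hlam q _ (D.ha j), smul_smul,
    D.mon_add_single]

noncomputable def im (q : ℕ) (y : E r) : Subobject (X.obj (op q)) :=
  imageSubobject (D.nu' q (ofLex y))

open Classical in
noncomputable def Bq (q : ℕ) (x : E r) : Subobject (X.obj (op q)) :=
  ((Sq r q).filter (fun y => y < x)).sup (D.im q)

noncomputable def Iq (q : ℕ) : Subobject (X.obj (op q)) := (Sq r q).sup (D.im q)

lemma mons_span (q : ℕ) :
    J ^ q ≤ Ideal.span ((fun x => D.mon x) '' {x : Fin r → ℕ | deg x = q}) := by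
  induction q with
  | zero =>
    rw [pow_zero, Ideal.one_eq_top]
    refine le_of_eq (Eq.symm ((Ideal.eq_top_iff_one _).2 (Ideal.subset_span ⟨0, ?_, ?_⟩)))
    · simp [deg]
    · simp [mon]
  | succ q ih =>
    rw [pow_succ]
    calc J ^ q * J ≤ Ideal.span ((fun x => D.mon x) '' {x : Fin r → ℕ | deg x = q}) *
          Ideal.span (Set.range D.a) := Ideal.mul_mono ih (le_of_eq D.hspan.symm)
      _ = Ideal.span (((fun x => D.mon x) '' {x : Fin r → ℕ | deg x = q}) * Set.range D.a) :=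
          Ideal.span_mul_span' _ _
      _ ≤ _ := by
        apply Ideal.span_mono
        rintro _ ⟨_, ⟨x, hx, rfl⟩, _, ⟨j, rfl⟩, rfl⟩
        refine ⟨x + Pi.single j 1, ?_, D.mon_add_single x j⟩
        simp only [Set.mem_setOf_eq] at hx ⊢
        rw [deg_add_single, hx, add_comm]

lemma killed_cok (q : ℕ) : HomKilledBy (J ^ q) (cokernel.π (D.Iq q).arrow) := by
  intro b hb
  have hb' := D.mons_span q hb
  refine Submodule.span_induction (p := fun b _ => b • cokernel.π (D.Iq q).arrow = 0)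
    ?_ ?_ ?_ ?_ hb'
  · rintro _ ⟨x, hx, rfl⟩
    have hle : imageSubobject (D.nu' q x) ≤ D.Iq q :=
      Finset.le_sup (f := D.im q) (b := toLex x) ((mem_Sq _).2 hx)
    have h0 : D.nu' q x ≫ cokernel.π (D.Iq q).arrow = 0 := by
      calc D.nu' q x ≫ cokernel.π (D.Iq q).arrow
          = (factorThruImageSubobject (D.nu' q x) ≫ Subobject.ofLE _ _ hle ≫ (D.Iq q).arrow) ≫
              cokernel.π (D.Iq q).arrow := by
            rw [Subobject.ofLE_arrow, imageSubobject_arrow_comp]
        _ = 0 := by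
            rw [Category.assoc, Category.assoc, cokernel.condition, comp_zero, comp_zero]
    calc D.mon x • cokernel.π (D.Iq q).arrow
        = (D.mon x • 𝟙 _) ≫ cokernel.π (D.Iq q).arrow := by
          rw [Linear.smul_comp, Category.id_comp]
      _ = tr X (Nat.zero_le q) ≫ D.nu' q x ≫ cokernel.π (D.Iq q).arrow := by
          rw [← D.nu'_spec q x hx, Category.assoc]
      _ = 0 := by rw [h0, comp_zero]
  · exact zero_smul _ _
  · intro x y _ _ hx hy
    rw [add_smul, hx, hy, add_zero]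
  · intro c x _ hx
    rw [smul_eq_mul, mul_smul, hx, smul_zero]

lemma fsub_le_Iq (q : ℕ) : Fsub X q q ≤ D.Iq q := by
  have key : ∀ S : Subobject (X.obj (op q)),
      S.arrow ≫ cokernel.π (D.Iq q).arrow = 0 → S ≤ D.Iq q := by
    intro S hS
    exact Subobject.le_of_comm (Abelian.monoLift (D.Iq q).arrow S.arrow hS)
      (Abelian.monoLift_comp _ _ _)
  apply key
  cases q with
  | zero =>
    have h := D.killed_cok 0 1 (by rw [pow_zero, Ideal.one_eq_top]; exact Submodule.mem_top)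
    rw [one_smul] at h
    rw [h, comp_zero]
  | succ k =>
    obtain ⟨ψ, hψ, -⟩ := (D.adic.2 k (k + 1) (Nat.le_succ k)).2 _ _ (D.killed_cok (k + 1))
    have hF : Fsub X (k + 1) (k + 1) = kernelSubobject (tr X (Nat.le_succ k)) := by
      show (if h : k ≤ k + 1 then kernelSubobject (tr X h) else ⊥) = _
      rw [dif_pos (Nat.le_succ k)]
    rw [hF, ← hψ, ← Category.assoc, kernelSubobject_arrow_comp, zero_comp]

lemma lamM (M : (q : ℕ) → Subobject (X.obj (op q))) (hM : IsGrSub J X M) (q : ℕ) (j : Fin r) :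
    imageSubobject ((M q).arrow ≫ D.lam q (D.a j)) ≤ M (1 + q) := by
  have h := hM.2 1 q (D.a j) (by rw [pow_one]; exact D.ha j)
  haveI := D.epi q (1 + q) (Nat.le_add_left q 1)
  have e : ((Subobject.pullback (tr X (Nat.le_add_left q 1))).obj (M q)).arrow ≫
      (D.a j • 𝟙 (X.obj (op (1 + q)))) =
      (((Subobject.pullback (tr X (Nat.le_add_left q 1))).obj (M q)).arrow ≫
        tr X (Nat.le_add_left q 1)) ≫ D.lam q (D.a j) := by
    rw [Category.assoc, D.hlam q _ (D.ha j)]
  simp only [e] at h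
  rw [← image_image _ (D.lam q (D.a j)), AbSubobjH4.image_pullback_arrow] at h
  exact h

lemma lamB (q : ℕ) (x : Fin r → ℕ) (hx : deg x = q) (j : Fin r) :
    imageSubobject ((D.Bq q (toLex x)).arrow ≫ D.lam q (D.a j)) ≤
      D.Bq (1 + q) (toLex (x + Pi.single j 1)) := by
  classical
  rw [gal]
  unfold Bq
  apply Finset.sup_le
  intro y hy
  rw [Finset.mem_filter] at hy
  obtain ⟨hyS, hyx⟩ := hy
  rw [← gal]
  have hyd : deg (ofLex y) = q := (mem_Sq y).1 hyS
  change imageSubobject ((imageSubobject (D.nu' q (ofLex y))).arrow ≫ _) ≤ _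
  rw [image_image, D.nu_lam q (ofLex y) hyd j]
  have hmem : (toLex (ofLex y + Pi.single j 1) : E r) ∈
      (Sq r (1 + q)).filter (fun z => z < toLex (x + Pi.single j 1)) := by
    rw [Finset.mem_filter]
    refine ⟨(mem_Sq _).2 ?_, ?_⟩
    · show deg (ofLex y + Pi.single j 1) = 1 + q
      rw [deg_add_single, hyd]
    · have : y + toLex (Pi.single j 1) < toLex x + toLex (Pi.single j 1) :=
        add_lt_add_left hyx _
      exact this
  have h := Finset.le_sup (f := D.im (1 + q)) hmem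
  exact h

noncomputable def Lq (M : (q : ℕ) → Subobject (X.obj (op q))) (q : ℕ) (x : Fin r → ℕ) :
    Subobject (X.obj (op 0)) :=
  (Subobject.pullback (D.nu' q x)).obj (M q ⊔ D.Bq q (toLex x))

lemma Lq_step (M : (q : ℕ) → Subobject (X.obj (op q))) (hM : IsGrSub J X M) (q : ℕ)
    (x : Fin r → ℕ) (hx : deg x = q) (j : Fin r) :
    D.Lq M q x ≤ D.Lq M (1 + q) (x + Pi.single j 1) := by
  unfold Lq
  rw [← D.nu_lam q x hx j, Subobject.pullback_comp]
  apply (Subobject.pullback (D.nu' q x)).monotone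
  apply sup_le
  · rw [← gal]
    exact (D.lamM M hM q j).trans le_sup_left
  · rw [← gal]
    exact (D.lamB q x hx j).trans le_sup_right

noncomputable def fL (M : (q : ℕ) → Subobject (X.obj (op q))) (x : Fin r → ℕ) :
    Subobject (X.obj (op 0)) := D.Lq M (deg x) x

lemma fL_step (M : (q : ℕ) → Subobject (X.obj (op q))) (hM : IsGrSub J X M)
    (x : Fin r → ℕ) (j : Fin r) : D.fL M x ≤ D.fL M (x + Pi.single j 1) := by
  unfold fL
  rw [deg_add_single]
  exact D.Lq_step M hM (deg x) x rfl j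

lemma fL_single (M : (q : ℕ) → Subobject (X.obj (op q))) (hM : IsGrSub J X M)
    (x : Fin r → ℕ) (j : Fin r) (n : ℕ) : D.fL M x ≤ D.fL M (x + Pi.single j n) := by
  induction n with
  | zero => simp
  | succ n ih =>
    have : x + Pi.single j (n + 1) = (x + Pi.single j n) + Pi.single j 1 := by
      rw [add_assoc, ← Pi.single_add]
    rw [this]
    exact ih.trans (D.fL_step M hM _ j)

lemma fL_sum (M : (q : ℕ) → Subobject (X.obj (op q))) (hM : IsGrSub J X M)
    (x δ : Fin r → ℕ) (s : Finset (Fin r)) :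
    D.fL M x ≤ D.fL M (x + ∑ k ∈ s, Pi.single k (δ k)) := by
  classical
  induction s using Finset.induction_on with
  | empty => simp
  | insert k s hk ih =>
    have : x + ∑ i ∈ insert k s, Pi.single i (δ i) =
        (x + ∑ i ∈ s, Pi.single i (δ i)) + Pi.single k (δ k) := by
      rw [Finset.sum_insert hk, add_comm (Pi.single k (δ k) : Fin r → ℕ), ← add_assoc]
    rw [this]
    exact ih.trans (D.fL_single M hM _ k _)

lemma fL_mono (M : (q : ℕ) → Subobject (X.obj (op q))) (hM : IsGrSub J X M) :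
    Monotone (D.fL M) := by
  intro x y hxy
  have h1 : y = x + ∑ k, Pi.single k ((y - x) k) := by
    rw [Finset.univ_sum_single]
    exact (add_tsub_cancel_of_le hxy).symm
  rw [h1]
  exact D.fL_sum M hM x (y - x) Finset.univ

lemma fL_mono_M (M M' : (q : ℕ) → Subobject (X.obj (op q))) (h : ∀ q, M q ≤ M' q)
    (x : Fin r → ℕ) : D.fL M x ≤ D.fL M' x :=
  (Subobject.pullback _).monotone (sup_le_sup_right (h _) _)

lemma le_of_fL_eq (M M' : (q : ℕ) → Subobject (X.obj (op q))) (q : ℕ) (hle : M q ≤ M' q)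
    (hF : M' q ≤ Fsub X q q)
    (hL : ∀ x : Fin r → ℕ, deg x = q → D.fL M' x = D.fL M x) : M' q ≤ M q := by
  classical
  have claim : ∀ T : Finset (E r), (∀ y ∈ T, deg (ofLex y) = q) →
      (∀ y ∈ T, ∀ z : E r, deg (ofLex z) = q → z < y → z ∈ T) →
      M' q ⊓ T.sup (D.im q) ≤ M q := by
    intro T
    induction T using Finset.induction_on_max with
    | empty =>
      intro _ _
      simp
    | insert a s hlt ih =>
      intro hdeg hlow
      have hs_low : ∀ y ∈ s, ∀ z : E r, deg (ofLex z) = q → z < y → z ∈ s := by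
        intro y hy z hz hzy
        rcases Finset.mem_insert.1 (hlow y (Finset.mem_insert_of_mem hy) z hz hzy) with h | h
        · exact absurd (h ▸ hzy) (lt_asymm (hlt y hy))
        · exact h
      have ih' := ih (fun y hy => hdeg y (Finset.mem_insert_of_mem hy)) hs_low
      have hda : deg (ofLex a) = q := hdeg a (Finset.mem_insert_self a s)
      have hsB : s.sup (D.im q) = D.Bq q a := by
        unfold Bq
        congr 1
        ext z
        rw [Finset.mem_filter, mem_Sq]
        constructor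
        · intro hz
          exact ⟨hdeg z (Finset.mem_insert_of_mem hz), hlt z hz⟩
        · rintro ⟨hz1, hz2⟩
          rcases Finset.mem_insert.1 (hlow a (Finset.mem_insert_self a s) z hz1 hz2) with h | h
          · subst h
            exact absurd hz2 (lt_irrefl _)
          · exact h
      rw [Finset.sup_insert]
      apply modstep (M' q) (M q) (s.sup (D.im q)) (D.im q a) hle ?_ ih'
      rw [hsB]
      have h1 := hL (ofLex a) hda
      unfold fL Lq at h1
      rw [hda] at h1
      calc D.im q a ⊓ (M' q ⊔ D.Bq q a)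
          ≤ imageSubobject (((Subobject.pullback (D.nu' q (ofLex a))).obj
              (M' q ⊔ D.Bq q a)).arrow ≫ D.nu' q (ofLex a)) := inf_image_le _ _
        _ = imageSubobject (((Subobject.pullback (D.nu' q (ofLex a))).obj
              (M q ⊔ D.Bq q a)).arrow ≫ D.nu' q (ofLex a)) :=
            congrArg (fun S : Subobject (X.obj (op 0)) =>
              imageSubobject (S.arrow ≫ D.nu' q (ofLex a))) h1
        _ ≤ M q ⊔ D.Bq q a := (gal _ _ _).2 le_rfl
  have h2 := claim (Sq r q) (fun y hy => (mem_Sq y).1 hy) (fun y _ z hz _ => (mem_Sq z).2 hz)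
  have h3 : M' q ≤ (Sq r q).sup (D.im q) := hF.trans (D.fsub_le_Iq q)
  exact (le_inf le_rfl h3).trans h2

end Data

theorem main8632 [IsNoetherianRing A] (J : Ideal A) (X : PS C) (hX : IsAdicNoeth J X)
    (M : ℕ → (q : ℕ) → Subobject (X.obj (op q))) (hM : ∀ i : ℕ, IsGrSub J X (M i))
    (hmono : Monotone M) : ∃ i₀ : ℕ, ∀ i : ℕ, i₀ ≤ i → M i = M i₀ := by
  obtain ⟨r, ⟨D⟩⟩ := exists_data J X hX.1
  haveI : IsNoetherianObject (X.obj (op 0)) := hX.2 0
  obtain ⟨i₀, hi₀⟩ := dickson (fun i x => D.fL (M i) x)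
    (fun x i i' hii' => D.fL_mono_M _ _ (fun q => hmono hii' q) x)
    (fun i => D.fL_mono (M i) (hM i))
  refine ⟨i₀, fun i hi => ?_⟩
  funext q
  refine le_antisymm ?_ (hmono hi q)
  exact D.le_of_fL_eq (M i₀) (M i) q (hmono hi q) ((hM i).1 q) (fun x _ => hi₀ i hi x)

end Main

end Groth.Agent.Lib.ARHilbH4
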