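import Mathlib
import Groth.Prelude.Def_ARSys
import Groth.Agent.Lib.AbSubobj_helper4
import Groth.Agent.Lib.ARNoeth_helper4
import Groth.Agent.Lib.ARHilb_helper4

set_option autoImplicit false
set_option linter.style.haveILetI false
set_option linter.unusedSectionVars false

universe w v u

open CategoryTheory CategoryTheory.Limits Opposite

namespace Groth.Agent.Lib.ARChainH4

open Groth.Agent.Lib.ARHilbH4 (gal image_image tr_comp)

/-! ### subobject lemmas -/

section Sub

variable {𝒜 : Type u} [Category.{v} 𝒜] [Abelian 𝒜]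

lemma image_congr {X Y : 𝒜} {f g : X ⟶ Y} (h : f = g) : imageSubobject f = imageSubobject g := by
  subst h
  rfl

lemma image_arrow_comp_eq_zero {X Y Z : 𝒜} (f : X ⟶ Y) (g : Y ⟶ Z) (h : f ≫ g = 0) :
    (imageSubobject f).arrow ≫ g = 0 := by
  rw [← cancel_epi (factorThruImageSubobject f), ← Category.assoc, imageSubobject_arrow_comp, h,
    comp_zero]

lemma comp_eq_zero_of_image {X Y Z : 𝒜} (f : X ⟶ Y) (g : Y ⟶ Z)
    (h : (imageSubobject f).arrow ≫ g = 0) : f ≫ g = 0 := by
  rw [← imageSubobject_arrow_comp f, Category.assoc, h, comp_zero]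

lemma pullback_image_le {B B' : 𝒜} (t : B ⟶ B') (S : Subobject B) :
    (Subobject.pullback t).obj (imageSubobject (S.arrow ≫ t)) ≤ S ⊔ kernelSubobject t := by
  have hS : S ≤ (Subobject.pullback t).obj (imageSubobject (S.arrow ≫ t)) := (gal t S _).1 le_rfl
  have hK : kernelSubobject t ≤ (Subobject.pullback t).obj (imageSubobject (S.arrow ≫ t)) := by
    rw [← gal]
    exact imageSubobject_le _ 0 (by rw [zero_comp, kernelSubobject_arrow_comp])
  refine AbSubobjH4.le_of_pullback_le_of_image_le (kernelSubobject t).arrow t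
    (fun k hk => ⟨factorThruKernelSubobject t k hk, factorThruKernelSubobject_comp_arrow t k hk⟩)
    (S ⊔ kernelSubobject t) _ (sup_le hS hK) ?_ ?_
  · have : (⊤ : Subobject ((kernelSubobject t : Subobject B) : 𝒜)) ≤
        (Subobject.pullback (kernelSubobject t).arrow).obj (S ⊔ kernelSubobject t) := by
      rw [← gal]
      exact (imageSubobject_comp_le _ _).trans
        ((AbSubobjH4.image_arrow (kernelSubobject t)).le.trans le_sup_right)
    exact le_top.trans this
  · exact ((gal t _ _).2 le_rfl).trans (AbSubobjH4.image_comp_mono le_sup_left t)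

end Sub

section Main

open ARSys

variable {C : Type u} [Category.{v} C] [Abelian C] {A : Type w} [CommRing A] [Linear A C]

lemma kernel_comp_eq_zero {I : Ideal A} {Y Q Y' : C} (p : Y ⟶ Q) (hp : IsQuot I p) (φ : Y ⟶ Y')
    (h : ∀ b ∈ I, (b • 𝟙 Y) ≫ φ = 0) : (kernelSubobject p).arrow ≫ φ = 0 := by
  have hk : HomKilledBy I (cokernel.π (kernelSubobject φ).arrow) := by
    intro b hb
    have h1 : b • cokernel.π (kernelSubobject φ).arrow =
        (b • 𝟙 Y) ≫ cokernel.π (kernelSubobject φ).arrow := by
      rw [Linear.smul_comp, Category.id_comp]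
    rw [h1, ← factorThruKernelSubobject_comp_arrow φ (b • 𝟙 Y) (h b hb), Category.assoc,
      cokernel.condition, comp_zero]
  obtain ⟨ψ, hψ, -⟩ := hp.2 _ _ hk
  have h2 : (kernelSubobject p).arrow ≫ cokernel.π (kernelSubobject φ).arrow = 0 := by
    rw [← hψ, ← Category.assoc, kernelSubobject_arrow_comp, zero_comp]
  have hle : kernelSubobject p ≤ kernelSubobject φ :=
    Subobject.le_of_comm (Abelian.monoLift (kernelSubobject φ).arrow _ h2)
      (Abelian.monoLift_comp _ _ _)
  rw [← Subobject.ofLE_arrow hle, Category.assoc, kernelSubobject_arrow_comp, comp_zero]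

variable (J : Ideal A) (X : PS C)

lemma adapted (hX : IsAdic J X) {n m : ℕ} (h : n ≤ m) (p : ℕ) (hm : m ≤ p + n) (a : A)
    (ha : a ∈ J ^ p) : (kernelSubobject (tr X h)).arrow ≫ (a • 𝟙 (X.obj (op m))) = 0 := by
  apply kernel_comp_eq_zero (tr X h) (hX.2 n m h)
  intro b hb
  rw [Linear.smul_comp, Category.id_comp, smul_smul]
  apply hX.1 m
  exact Ideal.pow_le_pow_right (show m + 1 ≤ (n + 1) + p by omega)
    (by rw [pow_add]; exact Ideal.mul_mem_mul hb ha)

lemma fsub_succ (m : ℕ) : Fsub X (m + 1) (m + 1) = kernelSubobject (tr X (Nat.le_succ m)) := by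
  show (if h : m ≤ m + 1 then kernelSubobject (tr X h) else ⊥) = _
  rw [dif_pos (Nat.le_succ m)]

lemma le_fsub_of (n : ℕ) (S : Subobject (X.obj (op n)))
    (h : ∀ (k : ℕ) (hk : k + 1 = n), S.arrow ≫ tr X (show k ≤ n by omega) = 0) :
    S ≤ Fsub X n n := by
  cases n with
  | zero =>
    show S ≤ ⊤
    exact le_top
  | succ m =>
    rw [fsub_succ]
    have h0 := h m rfl
    exact Subobject.le_of_comm (factorThruKernelSubobject _ S.arrow h0)
      (factorThruKernelSubobject_comp_arrow _ _ _)

lemma fsub_arrow_tr (n : ℕ) (S : Subobject (X.obj (op n))) (hS : S ≤ Fsub X n n) (k : ℕ)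
    (hk : k < n) : S.arrow ≫ tr X hk.le = 0 := by
  cases n with
  | zero => exact absurd hk (Nat.not_lt_zero k)
  | succ m =>
    rw [fsub_succ] at hS
    have hkm : k ≤ m := Nat.lt_succ_iff.1 hk
    have e : tr X hk.le = tr X (Nat.le_succ m) ≫ tr X hkm := (tr_comp X hkm (Nat.le_succ m)).symm
    rw [e, ← Category.assoc, ← Subobject.ofLE_arrow hS, Category.assoc (Subobject.ofLE _ _ hS),
      kernelSubobject_arrow_comp, comp_zero, zero_comp]

/-- the components of a subobject of a projective system -/
noncomputable def comp (S : Subobject X) (q : ℕ) : Subobject (X.obj (op q)) :=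
  imageSubobject (S.arrow.app (op q))

variable {X}

lemma comp_mono {S S' : Subobject X} (h : S ≤ S') (q : ℕ) : comp X S q ≤ comp X S' q := by
  unfold comp
  have : S.arrow.app (op q) = (Subobject.ofLE S S' h).app (op q) ≫ S'.arrow.app (op q) := by
    rw [← NatTrans.comp_app, Subobject.ofLE_arrow]
  rw [image_congr this]
  exact imageSubobject_comp_le _ _

lemma comp_smul (S : Subobject X) (n : ℕ) (a : A) :
    imageSubobject ((comp X S n).arrow ≫ (a • 𝟙 _)) ≤ comp X S n := by
  unfold comp
  rw [image_image]
  have : S.arrow.app (op n) ≫ (a • 𝟙 (X.obj (op n))) = (a • 𝟙 _) ≫ S.arrow.app (op n) := by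
    rw [Linear.comp_smul, Linear.smul_comp, Category.comp_id, Category.id_comp]
  rw [image_congr this]
  exact imageSubobject_comp_le _ _

lemma comp_tr (S : Subobject X) (hS : IsStrict (Subobject.underlying.obj S : PS C)) {n m : ℕ}
    (h : n ≤ m) : imageSubobject ((comp X S m).arrow ≫ tr X h) = comp X S n := by
  unfold comp
  rw [image_image]
  have : S.arrow.app (op m) ≫ tr X h =
      tr (Subobject.underlying.obj S : PS C) h ≫ S.arrow.app (op n) :=
    (S.arrow.naturality _).symm
  rw [image_congr this]
  haveI := hS n m h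
  exact AbSubobjH4.img_epi_comp _ _

lemma eq_of_comp_eq {S S' : Subobject X} (h : S ≤ S') (hc : ∀ q, comp X S q = comp X S' q) :
    S = S' := by
  have hg : Subobject.ofLE S S' h ≫ S'.arrow = S.arrow := Subobject.ofLE_arrow h
  haveI : ∀ j : ℕᵒᵖ, IsIso ((Subobject.ofLE S S' h).app j) := by
    intro j
    obtain ⟨q⟩ := j
    haveI hm' : Mono (S'.arrow.app (op q)) :=
      (NatTrans.mono_iff_mono_app _).1 inferInstance (op q)
    haveI hm : Mono (S.arrow.app (op q)) :=
      (NatTrans.mono_iff_mono_app _).1 inferInstance (op q)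
    have hgq : (Subobject.ofLE S S' h).app (op q) ≫ S'.arrow.app (op q) = S.arrow.app (op q) := by
      rw [← NatTrans.comp_app, hg]
    haveI : Mono ((Subobject.ofLE S S' h).app (op q)) := mono_of_mono_fac hgq
    haveI : Mono (factorThruImageSubobject (S'.arrow.app (op q))) :=
      mono_of_mono_fac (imageSubobject_arrow_comp (S'.arrow.app (op q)))
    haveI : IsIso (factorThruImageSubobject (S'.arrow.app (op q))) := isIso_of_mono_of_epi _
    have h1 : imageSubobject (((Subobject.ofLE S S' h).app (op q) ≫
        factorThruImageSubobject (S'.arrow.app (op q))) ≫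
          (imageSubobject (S'.arrow.app (op q))).arrow) = imageSubobject (S'.arrow.app (op q)) := by
      have : ((Subobject.ofLE S S' h).app (op q) ≫
          factorThruImageSubobject (S'.arrow.app (op q))) ≫
            (imageSubobject (S'.arrow.app (op q))).arrow = S.arrow.app (op q) := by
        rw [Category.assoc, imageSubobject_arrow_comp, hgq]
      rw [image_congr this]
      exact hc q
    haveI : Epi ((Subobject.ofLE S S' h).app (op q) ≫
        factorThruImageSubobject (S'.arrow.app (op q))) :=
      AbSubobjH4.epi_of_image_eq _ _ h1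
    haveI : Epi ((Subobject.ofLE S S' h).app (op q)) := by
      have : (Subobject.ofLE S S' h).app (op q) = ((Subobject.ofLE S S' h).app (op q) ≫
          factorThruImageSubobject (S'.arrow.app (op q))) ≫
            inv (factorThruImageSubobject (S'.arrow.app (op q))) := by
        rw [Category.assoc, IsIso.hom_inv_id, Category.comp_id]
      rw [this]
      infer_instance
    exact isIso_of_mono_of_epi _
  haveI : IsIso (Subobject.ofLE S S' h) := NatIso.isIso_of_isIso_app _
  exact Subobject.eq_of_comm (asIso (Subobject.ofLE S S' h)) hg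

variable (X)

lemma isGrSub (hX : IsAdic J X) (S : Subobject X)
    (hS : IsStrict (Subobject.underlying.obj S : PS C)) :
    IsGrSub J X (fun q => comp X S q ⊓ Fsub X q q) := by
  refine ⟨fun q => inf_le_right, ?_⟩
  intro p q a ha
  apply le_inf
  · have hW : (Subobject.pullback (tr X (Nat.le_add_left q p))).obj (comp X S q ⊓ Fsub X q q) ≤
        comp X S (p + q) ⊔ kernelSubobject (tr X (Nat.le_add_left q p)) := by
      refine ((Subobject.pullback _).monotone inf_le_left).trans ?_
      rw [← comp_tr S hS (Nat.le_add_left q p)]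
      exact pullback_image_le _ _
    refine (AbSubobjH4.image_comp_mono hW _).trans ?_
    rw [gal]
    apply sup_le
    · rw [← gal]
      exact comp_smul S (p + q) a
    · rw [← gal]
      refine imageSubobject_le _ 0 ?_
      rw [zero_comp, adapted J X hX (Nat.le_add_left q p) p (le_refl _) a ha]
  · apply le_fsub_of
    intro k hk
    apply image_arrow_comp_eq_zero
    have hcomm : (a • 𝟙 (X.obj (op (p + q)))) ≫ tr X (show k ≤ p + q by omega) =
        tr X (show k ≤ p + q by omega) ≫ (a • 𝟙 (X.obj (op k))) := by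
      rw [Linear.smul_comp, Linear.comp_smul, Category.id_comp, Category.comp_id]
    rw [Category.assoc, hcomm]
    cases q with
    | zero =>
      have hp : p = k + 1 := by omega
      have : a • 𝟙 (X.obj (op k)) = 0 := hX.1 k a (hp ▸ ha)
      rw [this, comp_zero, comp_zero]
    | succ q' =>
      have h1 : imageSubobject (((Subobject.pullback (tr X (Nat.le_add_left (q' + 1) p))).obj
          (comp X S (q' + 1) ⊓ Fsub X (q' + 1) (q' + 1))).arrow ≫
            tr X (Nat.le_add_left (q' + 1) p)) ≤ Fsub X (q' + 1) (q' + 1) :=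
        (gal _ _ _).2 ((Subobject.pullback _).monotone inf_le_right)
      have h2 := fsub_arrow_tr X (q' + 1) _ h1 q' (Nat.lt_succ_self q')
      have h3 : ((Subobject.pullback (tr X (Nat.le_add_left (q' + 1) p))).obj
          (comp X S (q' + 1) ⊓ Fsub X (q' + 1) (q' + 1))).arrow ≫
            tr X (show q' ≤ p + (q' + 1) by omega) = 0 := by
        have e : tr X (show q' ≤ p + (q' + 1) by omega) =
            tr X (Nat.le_add_left (q' + 1) p) ≫ tr X (Nat.le_succ q') := (tr_comp X _ _).symm
        rw [e, ← Category.assoc]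
        exact comp_eq_zero_of_image _ _ h2
      have hq'k : q' ≤ k := by omega
      have h4 : (((Subobject.pullback (tr X (Nat.le_add_left (q' + 1) p))).obj
          (comp X S (q' + 1) ⊓ Fsub X (q' + 1) (q' + 1))).arrow ≫
            tr X (show k ≤ p + (q' + 1) by omega)) ≫ tr X hq'k = 0 := by
        rw [Category.assoc, tr_comp]
        exact h3
      rw [← Category.assoc, ← factorThruKernelSubobject_comp_arrow (tr X hq'k) _ h4,
        Category.assoc, adapted J X hX hq'k p (by omega) a ha, comp_zero]

lemma comp_eq_of_gr_eq (hX : IsAdic J X) {S S' : Subobject X} (h : S ≤ S')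
    (hS : IsStrict (Subobject.underlying.obj S : PS C))
    (hS' : IsStrict (Subobject.underlying.obj S' : PS C))
    (hgr : ∀ q, comp X S q ⊓ Fsub X q q = comp X S' q ⊓ Fsub X q q) :
    ∀ q, comp X S q = comp X S' q := by
  intro q
  induction q with
  | zero =>
    have := hgr 0
    have hF : Fsub X 0 0 = ⊤ := rfl
    rw [hF, inf_top_eq, inf_top_eq] at this
    exact this
  | succ q ih =>
    refine le_antisymm (comp_mono h _) ?_
    refine AbSubobjH4.le_of_pullback_le_of_image_le
      (kernelSubobject (tr X (Nat.le_succ q))).arrow (tr X (Nat.le_succ q))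
      (fun k hk => ⟨factorThruKernelSubobject _ k hk, factorThruKernelSubobject_comp_arrow _ k hk⟩)
      (comp X S (q + 1)) (comp X S' (q + 1)) (comp_mono h _) ?_ ?_
    · rw [← gal]
      have h1 : imageSubobject (((Subobject.pullback
          (kernelSubobject (tr X (Nat.le_succ q))).arrow).obj (comp X S' (q + 1))).arrow ≫
            (kernelSubobject (tr X (Nat.le_succ q))).arrow) ≤
          comp X S' (q + 1) ⊓ kernelSubobject (tr X (Nat.le_succ q)) :=
        le_inf ((gal _ _ _).2 le_rfl)
          ((imageSubobject_comp_le _ _).trans (AbSubobjH4.image_arrow _).le)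
      refine h1.trans ?_
      have := hgr (q + 1)
      rw [fsub_succ] at this
      rw [← this]
      exact inf_le_left
    · rw [comp_tr S' hS', comp_tr S hS, ih]

theorem main3164 [IsNoetherianRing A] (hX : IsAdicNoeth J X) (Z : ℕ →o Subobject X)
    (hZ : ∀ k : ℕ, IsStrict ((Subobject.underlying.obj (Z k) : PS C))) :
    ∃ k₀ : ℕ, ∀ k : ℕ, k₀ ≤ k → Z k = Z k₀ := by
  obtain ⟨k₀, hk₀⟩ := ARHilbH4.main8632 J X hX (fun k q => comp X (Z k) q ⊓ Fsub X q q)
    (fun k => isGrSub J X hX.1 (Z k) (hZ k))
    (fun k k' hkk' q => inf_le_inf_right _ (comp_mono (Z.monotone hkk') q))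
  refine ⟨k₀, fun k hk => ?_⟩
  have hle := Z.monotone hk
  have hc := comp_eq_of_gr_eq J X hX.1 hle (hZ k₀) (hZ k)
    (fun q => (congrFun (hk₀ k hk) q).symm)
  exact (eq_of_comp_eq hle hc).symm

end Main

end Groth.Agent.Lib.ARChainH4
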