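import Mathlib
import Groth.Prelude.Def_ARSys
import Groth.Agent.Lib.AbSubobj_helper4
import Groth.Agent.Lib.ARNoeth_helper4
import Groth.Agent.Lib.ARFsub_helper4
import Groth.Agent.Lib.ARFker_helper4
import Groth.Agent.Lib.ARQuot_helper4
import Groth.Agent.Lib.ARHilb_helper4
import Groth.Agent.Lib.ARChain_helper4

set_option autoImplicit false
set_option linter.style.haveILetI false
set_option linter.unusedSectionVars false

universe w v u

open CategoryTheory CategoryTheory.Limits Opposite

namespace Groth.Agent.Lib.ARGrsFTH4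

open ARSys
open Groth.Agent.Lib.ARHilbH4 (gal image_image tr_comp)
open Groth.Agent.Lib.ARChainH4 (kernel_comp_eq_zero fsub_succ)

section Sub

variable {𝒜 : Type u} [Category.{v} 𝒜] [Abelian 𝒜]

lemma le_of_arrow_comp_cokernel {X : 𝒜} (S U : Subobject X)
    (h : S.arrow ≫ cokernel.π U.arrow = 0) : S ≤ U :=
  Subobject.le_of_comm (Abelian.monoLift U.arrow S.arrow h) (Abelian.monoLift_comp _ _ _)

lemma le_kernel_of_comp {X Y : 𝒜} (S : Subobject X) (g : X ⟶ Y) (h : S.arrow ≫ g = 0) :
    S ≤ kernelSubobject g :=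
  Subobject.le_of_comm (factorThruKernelSubobject g S.arrow h)
    (factorThruKernelSubobject_comp_arrow g _ h)

lemma comp_of_le_kernel {X Y : 𝒜} (S : Subobject X) (g : X ⟶ Y) (h : S ≤ kernelSubobject g) :
    S.arrow ≫ g = 0 := by
  rw [← Subobject.ofLE_arrow h, Category.assoc, kernelSubobject_arrow_comp, comp_zero]

lemma pullback_arrow_comp {B B' Y : 𝒜} (t : B ⟶ B') (N : Subobject B') (g : B' ⟶ Y)
    (h : N.arrow ≫ g = 0) : ((Subobject.pullback t).obj N).arrow ≫ t ≫ g = 0 := by
  rw [← Category.assoc, ← (Subobject.isPullback t N).w, Category.assoc, h, comp_zero]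

end Sub

section Main

variable {C : Type u} [Category.{v} C] [Abelian C] {A : Type w} [CommRing A] [Linear A C]

lemma homKilledBy_of_isQuot {I : Ideal A} {Y Q : C} (p : Y ⟶ Q) (hp : IsQuot I p) :
    HomKilledBy I p := by
  intro a ha
  rw [← Category.comp_id p, ← Linear.comp_smul, hp.1 a ha, comp_zero]

lemma kernel_le_kernel {I I' : Ideal A} (hI : I ≤ I') {Y Q Q' : C} (p : Y ⟶ Q) (hp : IsQuot I p)
    (p' : Y ⟶ Q') (hp' : IsQuot I' p') : kernelSubobject p ≤ kernelSubobject p' := by
  obtain ⟨ψ, hψ, -⟩ := hp.2 _ p'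
    (Groth.Agent.Lib.ARQuotH4.homKilledBy_mono I' I hI p' (homKilledBy_of_isQuot p' hp'))
  apply le_kernel_of_comp
  rw [← hψ, ← Category.assoc, kernelSubobject_arrow_comp, zero_comp]

lemma subLE_of_le_kernel {I : Ideal A} {Y Q : C} (p : Y ⟶ Q) (hp : IsQuot I p) (S : Subobject Y)
    (h : S ≤ kernelSubobject p) : SubLEIdeal I S := by
  intro Y' φ hφ
  obtain ⟨ψ, hψ, -⟩ := hp.2 _ φ hφ
  rw [← hψ, ← Category.assoc, comp_of_le_kernel S p h, zero_comp]

lemma core_b (J : Ideal A) {N Xq QN Qq QP : C} (t : N ⟶ Xq) [Epi t] (a : A) (k p k' : ℕ)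
    (hk : k' ≤ k + p) (ha : a ∈ J ^ p)
    (pN : N ⟶ QN) (hpN : IsQuot (J ^ k) pN) (pq' : Xq ⟶ Qq) (hpq' : IsQuot (J ^ k) pq')
    (P : N ⟶ QP) (hP : IsQuot (J ^ k') P)
    (hadapt : (kernelSubobject t).arrow ≫ (a • 𝟙 N) = 0) :
    ((Subobject.pullback t).obj (kernelSubobject pq')).arrow ≫ (a • 𝟙 N) ≫ P = 0 := by
  have c2 : kernelSubobject pN ⊔ kernelSubobject t ≤ kernelSubobject ((a • 𝟙 N) ≫ P) := by
    apply sup_le
    · apply le_kernel_of_comp
      apply kernel_comp_eq_zero pN hpN
      intro b hb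
      have : (b • 𝟙 N) ≫ (a • 𝟙 N) ≫ P = (b * a) • P := by
        rw [Linear.smul_comp, Category.id_comp, Linear.smul_comp, Category.id_comp, smul_smul]
      rw [this]
      apply homKilledBy_of_isQuot P hP
      exact Ideal.pow_le_pow_right hk (by rw [pow_add]; exact Ideal.mul_mem_mul hb ha)
    · apply le_kernel_of_comp
      rw [← Category.assoc, hadapt, zero_comp]
  have c1 : (Subobject.pullback t).obj (kernelSubobject pq') ≤
      kernelSubobject pN ⊔ kernelSubobject t := by
    apply le_of_arrow_comp_cokernel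
    have hc1 : (kernelSubobject t).arrow ≫
        cokernel.π (kernelSubobject pN ⊔ kernelSubobject t).arrow = 0 := by
      rw [← Subobject.ofLE_arrow
        (le_sup_right : kernelSubobject t ≤ kernelSubobject pN ⊔ kernelSubobject t),
        Category.assoc, cokernel.condition, comp_zero]
    have hc2 : (kernelSubobject pN).arrow ≫
        cokernel.π (kernelSubobject pN ⊔ kernelSubobject t).arrow = 0 := by
      rw [← Subobject.ofLE_arrow
        (le_sup_left : kernelSubobject pN ≤ kernelSubobject pN ⊔ kernelSubobject t),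
        Category.assoc, cokernel.condition, comp_zero]
    have hc1' : kernel.ι t ≫ cokernel.π (kernelSubobject pN ⊔ kernelSubobject t).arrow = 0 := by
      rw [← kernelSubobject_arrow', Category.assoc, hc1, comp_zero]
    have hfac1 := Abelian.comp_epiDesc t _ hc1'
    haveI : Epi pN := ARNoethH4.epi_of_isQuot pN hpN
    have hc2' : kernel.ι pN ≫ cokernel.π (kernelSubobject pN ⊔ kernelSubobject t).arrow = 0 := by
      rw [← kernelSubobject_arrow', Category.assoc, hc2, comp_zero]
    have hfac2 := Abelian.comp_epiDesc pN _ hc2'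
    have hck : HomKilledBy (J ^ k)
        (cokernel.π (kernelSubobject pN ⊔ kernelSubobject t).arrow) := by
      intro b hb
      rw [← hfac2, ← Linear.smul_comp, homKilledBy_of_isQuot pN hpN b hb, zero_comp]
    have hc'k : HomKilledBy (J ^ k) (Abelian.epiDesc t _ hc1') := by
      apply Groth.Agent.Lib.ARQuotH4.homKilledBy_of_epi_comp _ t
      rw [hfac1]
      exact hck
    obtain ⟨θ, hθ, -⟩ := hpq'.2 _ _ hc'k
    rw [← hfac1, ← hθ]
    exact pullback_arrow_comp t _ _
      (by rw [← Category.assoc, kernelSubobject_arrow_comp, zero_comp])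
  rw [← Subobject.ofLE_arrow (c1.trans c2), Category.assoc, kernelSubobject_arrow_comp, comp_zero]

/-- the graded submodule `F^q(X_q) ∩ J^{q-i} X_q` -/
noncomputable def Mgr (X : PS C) {Q : ℕ → ℕ → C} (pq : ∀ k q : ℕ, X.obj (op q) ⟶ Q k q)
    (i q : ℕ) : Subobject (X.obj (op q)) :=
  Fsub X q q ⊓ kernelSubobject (pq (q - i) q)

lemma isGrSub_Mgr (J : Ideal A) (X : PS C) (hX : IsStrict X) (hA : IsAdapted J X)
    {Q : ℕ → ℕ → C} (pq : ∀ k q : ℕ, X.obj (op q) ⟶ Q k q)
    (hpq : ∀ k q : ℕ, IsQuot (J ^ k) (pq k q)) (i : ℕ) : IsGrSub J X (Mgr X pq i) := by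
  refine ⟨fun q => inf_le_left, ?_⟩
  intro p q a ha
  haveI : Epi (tr X (Nat.le_add_left q p)) := hX _ _ _
  apply le_inf
  · have H := (ARFsubH4.main3185 J X).1 hA (p + q) p q a ha
    refine le_trans (AbSubobjH4.image_comp_mono ?_ _) H
    rw [← AbSubobjH4.image_arrow
      ((Subobject.pullback (tr X (Nat.le_add_left q p))).obj (Mgr X pq i q)),
      ARFsubH4.le_Fsub_iff]
    intro k hk hkq
    have e : tr X hk = tr X (Nat.le_add_left q p) ≫ tr X hkq.le := (tr_comp X _ _).symm
    rw [e]
    apply pullback_arrow_comp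
    have : (Mgr X pq i q).arrow =
        Subobject.ofLE (Mgr X pq i q) (Fsub X q q) inf_le_left ≫ (Fsub X q q).arrow :=
      (Subobject.ofLE_arrow _).symm
    rw [this, Category.assoc, ARFsubH4.Fsub_arrow_tr X q q k hkq.le hkq, comp_zero]
  · rw [ARFsubH4.le_kernel_iff, Category.assoc]
    have hW : (Subobject.pullback (tr X (Nat.le_add_left q p))).obj (Mgr X pq i q) ≤
        (Subobject.pullback (tr X (Nat.le_add_left q p))).obj
          (kernelSubobject (pq (q - i) q)) :=
      (Subobject.pullback _).monotone inf_le_right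
    have hadapt : (kernelSubobject (tr X (Nat.le_add_left q p))).arrow ≫
        (a • 𝟙 (X.obj (op (p + q)))) = 0 := by
      have h := hA (p + q) p (by omega) a ha
      have e : p + q + 1 - p = q + 1 := by omega
      rw [e] at h
      have hF : Fsub X (q + 1) (p + q) = kernelSubobject (tr X (Nat.le_add_left q p)) := by
        unfold Fsub
        exact dif_pos (Nat.le_add_left q p)
      rw [hF] at h
      exact h
    rw [← Subobject.ofLE_arrow hW, Category.assoc]
    rw [core_b J (tr X (Nat.le_add_left q p)) a (q - i) p (p + q - i) (by omega) ha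
      (pq (q - i) (p + q)) (hpq _ _) (pq (q - i) q) (hpq _ _) (pq (p + q - i) (p + q))
      (hpq _ _) hadapt, comp_zero]

theorem main3184 (J : Ideal A) (hJ : J.FG ∨ HasCoproducts.{w} C) (X : PS C) (hX : IsStrict X)
    (hA : IsAdapted J X) (hft : GrsFiniteType J X) : IsARAdic J X := by
  have kX : TermKilled J X := by
    intro n a ha
    have h := hA n (n + 1) le_rfl a ha
    rw [Nat.sub_self] at h
    have h0 : Fsub X 0 n = ⊤ := by
      unfold Fsub
      rfl
    rw [h0] at h
    rwa [← cancel_epi (⊤ : Subobject (X.obj (op n))).arrow, comp_zero]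
  choose Q pq hpq using fun (k q : ℕ) =>
    Groth.Agent.Lib.ARFkerH4.exists_isQuot J hJ k (X.obj (op q))
  have hI0 : ∀ q, (⊤ : Subobject (X.obj (op q))) ≤ kernelSubobject (pq 0 q) := by
    intro q
    apply le_kernel_of_comp
    have h1 := homKilledBy_of_isQuot _ (hpq 0 q) 1
      (by rw [pow_zero, Ideal.one_eq_top]; exact Submodule.mem_top)
    rw [one_smul] at h1
    rw [h1, comp_zero]
  have hmono : Monotone (Mgr X pq) := by
    intro i i' hii' q
    exact inf_le_inf_left _ (kernel_le_kernel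
      (Ideal.pow_le_pow_right (Nat.sub_le_sub_left hii' q)) _ (hpq _ _) _ (hpq _ _))
  have hLUB : ∀ q, IsLUB (Set.range fun i => Mgr X pq i q) (Fsub X q q) := by
    intro q
    refine ⟨?_, fun b hb => ?_⟩
    · rintro _ ⟨i, rfl⟩
      exact inf_le_left
    · refine le_trans ?_ (hb ⟨q, rfl⟩)
      refine le_inf le_rfl ?_
      have hk0 : ∀ k : ℕ, k = 0 → (⊤ : Subobject (X.obj (op q))) ≤ kernelSubobject (pq k q) := by
        intro k hk
        subst hk
        exact hI0 q
      exact le_top.trans (hk0 (q - q) (Nat.sub_self q))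
  obtain ⟨i, hi⟩ := hft (Mgr X pq) (isGrSub_Mgr J X hX hA pq hpq) hmono hLUB
  refine (Groth.Agent.Lib.ARFkerH4.main3158 J hJ X hX kX).2 ⟨i + 1, Nat.succ_pos i, fun n => ?_⟩
  have hle : Fker X n ≤ kernelSubobject (pq (n - i) n) := by
    have h1 : Fsub X n n ≤ kernelSubobject (pq (n - i) n) := by
      have := hi n
      unfold Mgr at this
      exact inf_eq_left.1 this
    have h2 : Fker X n = Fsub X n n := by
      cases n with
      | zero => rfl
      | succ m =>
        rw [fsub_succ]
        rfl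
    rw [h2]
    exact h1
  intro Y φ hφ
  have hφ' : HomKilledBy (J ^ (n - i)) φ :=
    Groth.Agent.Lib.ARQuotH4.homKilledBy_mono _ _ (Ideal.pow_le_pow_right (by omega)) φ hφ
  exact subLE_of_le_kernel _ (hpq (n - i) n) _ hle Y φ hφ'

end Main

end Groth.Agent.Lib.ARGrsFTH4
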