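import Mathlib
import Groth.Prelude.Def_ARSys
import Groth.Agent.Lib.ARSES_helper4
set_option autoImplicit false
set_option linter.style.haveILetI false

universe v u

open CategoryTheory CategoryTheory.Limits Opposite ARSys

namespace ARLimH4

open ARMLH4 ARSESH4

variable {C : Type u} [Category.{v} C] [Abelian C]

/-- `K → X → I` for the image factorisation -/
noncomputable abbrev ses1 {X Y : PS C} (u : X ⟶ Y) : ShortComplex (PS C) :=
  ShortComplex.mk (kernel.ι u) (Abelian.factorThruImage u) (by
    rw [← cancel_mono (Abelian.image.ι u), Category.assoc, Abelian.image.fac, kernel.condition,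
      zero_comp])

lemma ses1_shortExact {X Y : PS C} (u : X ⟶ Y) : (ses1 u).ShortExact := by
  haveI : Mono (ses1 u).f := show Mono (kernel.ι u) from inferInstance
  have hex : (ses1 u).Exact := by
    apply ShortComplex.exact_of_f_is_kernel
    refine KernelFork.IsLimit.ofι' _ _ (fun {A} k hk => ⟨kernel.lift u k ?_, kernel.lift_ι _ _ _⟩)
    have hk' : k ≫ Abelian.factorThruImage u = 0 := hk
    rw [← Abelian.image.fac u, ← Category.assoc, hk', zero_comp]
  exact ShortComplex.ShortExact.mk' hex (show Mono (kernel.ι u) from inferInstance)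
    (show Epi (Abelian.factorThruImage u) from inferInstance)

/-- `I → Y → Q` -/
noncomputable abbrev ses2 {X Y : PS C} (u : X ⟶ Y) : ShortComplex (PS C) :=
  ShortComplex.mk (Abelian.image.ι u) (cokernel.π u) (kernel.condition _)

lemma ses2_shortExact {X Y : PS C} (u : X ⟶ Y) : (ses2 u).ShortExact :=
  ShortComplex.ShortExact.mk' (ShortComplex.exact_kernel _)
    (show Mono (kernel.ι (cokernel.π u)) from inferInstance)
    (show Epi (cokernel.π u) from inferInstance)

lemma map_eq_tr (X : PS C) {n m : ℕ} (f : (op m : ℕᵒᵖ) ⟶ op n) (h : n ≤ m) :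
    X.map f = tr X h := congrArg X.map (Subsingleton.elim _ _)

theorem main13621 [HasLimitsOfShape ℕᵒᵖ C] {X Y : PS C} (u : X ⟶ Y) (hu : IsARIso u) :
    IsIso (limMap u) := by
  obtain ⟨⟨rK, hK⟩, ⟨rQ, hQ⟩⟩ := hu
  have h1 := ses1_shortExact u
  have h2 := ses2_shortExact u
  have hfac : ∀ n : ℕ, (Abelian.factorThruImage u).app (op n) ≫ (Abelian.image.ι u).app (op n) =
      u.app (op n) := fun n => by rw [← NatTrans.comp_app, Abelian.image.fac]
  have hπX : ∀ {n m : ℕ} (h : n ≤ m), limit.π X (op m) ≫ tr X h = limit.π X (op n) :=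
    fun h => limit.w X (homOfLE h).op
  have hπY : ∀ {n m : ℕ} (h : n ≤ m), limit.π Y (op m) ≫ tr Y h = limit.π Y (op n) :=
    fun h => limit.w Y (homOfLE h).op
  have liftK : ∀ (k : ℕ) {T : C} (z : T ⟶ X.obj (op k)),
      z ≫ (Abelian.factorThruImage u).app (op k) = 0 →
      ∃ w : T ⟶ (kernel u).obj (op k), w ≫ (kernel.ι u).app (op k) = z :=
    fun k T z hz => exists_lift (ses1 u) h1 k z hz
  have descI : ∀ (k : ℕ) {T : C} (z : X.obj (op k) ⟶ T), (kernel.ι u).app (op k) ≫ z = 0 →
      ∃ w : (Abelian.image u).obj (op k) ⟶ T, (Abelian.factorThruImage u).app (op k) ≫ w = z :=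
    fun k T z hz => exists_desc (ses1 u) h1 k z hz
  have liftI : ∀ (k : ℕ) {T : C} (z : T ⟶ Y.obj (op k)), z ≫ (cokernel.π u).app (op k) = 0 →
      ∃ w : T ⟶ (Abelian.image u).obj (op k), w ≫ (Abelian.image.ι u).app (op k) = z :=
    fun k T z hz => exists_lift (ses2 u) h2 k z hz
  -- mono
  haveI hmono : Mono (limMap u) := by
    apply Preadditive.mono_of_cancel_zero
    intro T z hz
    apply limit.hom_ext
    rintro ⟨n⟩
    rw [zero_comp]
    have hzn : ∀ k : ℕ, (z ≫ limit.π X (op k)) ≫ (Abelian.factorThruImage u).app (op k) = 0 := by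
      intro k
      haveI : Mono ((Abelian.image.ι u).app (op k)) := mono_f_app (ses2 u) h2 k
      rw [← cancel_mono ((Abelian.image.ι u).app (op k)), zero_comp, Category.assoc,
        Category.assoc, hfac, ← limMap_π, ← Category.assoc, hz, zero_comp]
    obtain ⟨w, hw'⟩ := liftK (n + rK) _ (hzn (n + rK))
    have natK := nat_tr (kernel.ι u) (Nat.le_add_right n rK)
    have hKz : tr (kernel u) (Nat.le_add_right n rK) = 0 := hK n
    calc z ≫ limit.π X (op n)
        = (z ≫ limit.π X (op (n + rK))) ≫ tr X (Nat.le_add_right n rK) := by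
          rw [Category.assoc, hπX]
      _ = w ≫ (kernel.ι u).app (op (n + rK)) ≫ tr X (Nat.le_add_right n rK) := by
          rw [← hw', Category.assoc]
      _ = 0 := by rw [← natK, hKz, zero_comp, comp_zero]
  -- split epi
  have hyQ : ∀ n : ℕ, limit.π Y (op n) ≫ (cokernel.π u).app (op n) = 0 := by
    intro n
    have natQ := nat_tr (cokernel.π u) (Nat.le_add_right n rQ)
    have hQz : tr (cokernel u) (Nat.le_add_right n rQ) = 0 := hQ n
    rw [← hπY (Nat.le_add_right n rQ), Category.assoc, natQ, hQz, comp_zero, comp_zero]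
  choose i hi' using fun n : ℕ => liftI n _ (hyQ n)
  have hicone : ∀ {n m : ℕ} (h : n ≤ m), i m ≫ tr (Abelian.image u) h = i n := by
    intro n m h
    haveI : Mono ((Abelian.image.ι u).app (op n)) := mono_f_app (ses2 u) h2 n
    rw [← cancel_mono ((Abelian.image.ι u).app (op n)), Category.assoc,
      nat_tr (Abelian.image.ι u) h, ← Category.assoc, hi', hi', hπY]
  have hKX : ∀ n : ℕ, (kernel.ι u).app (op (n + rK)) ≫ tr X (Nat.le_add_right n rK) = 0 := by
    intro n
    have natK := nat_tr (kernel.ι u) (Nat.le_add_right n rK)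
    have hKz : tr (kernel u) (Nat.le_add_right n rK) = 0 := hK n
    rw [← natK, hKz, zero_comp]
  choose w₂ hw₂' using fun n : ℕ => descI (n + rK) _ (hKX n)
  have hepi : ∀ k : ℕ, Epi ((Abelian.factorThruImage u).app (op k)) :=
    fun k => epi_g_app (ses1 u) h1 k
  have hw₂tr : ∀ {n m : ℕ} (h : n ≤ m), w₂ m ≫ tr X h =
      tr (Abelian.image u) (Nat.add_le_add_right h rK) ≫ w₂ n := by
    intro n m h
    haveI := hepi (m + rK)
    rw [← cancel_epi ((Abelian.factorThruImage u).app (op (m + rK))), ← Category.assoc, hw₂',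
      ← Category.assoc, ← nat_tr (Abelian.factorThruImage u) (Nat.add_le_add_right h rK),
      Category.assoc, hw₂', tr_comp, tr_comp]
  have hw₂e : ∀ n : ℕ, w₂ n ≫ (Abelian.factorThruImage u).app (op n) =
      tr (Abelian.image u) (Nat.le_add_right n rK) := by
    intro n
    haveI := hepi (n + rK)
    rw [← cancel_epi ((Abelian.factorThruImage u).app (op (n + rK))), ← Category.assoc, hw₂',
      nat_tr (Abelian.factorThruImage u) (Nat.le_add_right n rK)]
  let cone : Cone X :=
    { pt := limit Y
      π :=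
        { app := fun k => i (k.unop + rK) ≫ w₂ k.unop
          naturality := by
            rintro ⟨m⟩ ⟨n⟩ f
            have h : n ≤ m := leOfHom f.unop
            show 𝟙 _ ≫ (i (n + rK) ≫ w₂ n) = (i (m + rK) ≫ w₂ m) ≫ X.map f
            rw [Category.id_comp, map_eq_tr X f h, Category.assoc, hw₂tr h, ← Category.assoc,
              hicone] } }
  have hv : limit.lift X cone ≫ limMap u = 𝟙 _ := by
    apply limit.hom_ext
    rintro ⟨n⟩
    rw [Category.assoc, limMap_π, ← Category.assoc, limit.lift_π, Category.id_comp]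
    show (i (n + rK) ≫ w₂ n) ≫ u.app (op n) = limit.π Y (op n)
    rw [← hfac, Category.assoc, ← Category.assoc (w₂ n), hw₂e, ← Category.assoc, hicone, hi']
  haveI : IsSplitEpi (limMap u) := IsSplitEpi.mk' ⟨limit.lift X cone, hv⟩
  exact isIso_of_mono_of_epi _

end ARLimH4
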