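import Mathlib
import Groth.Prelude.Def_ARSys
import Groth.Agent.Lib.ARSerre_helper4
import Groth.Agent.Lib.ARGrsFT_helper4
import Groth.Agent.Lib.ARChain_helper4
import Groth.Agent.Lib.ARHilb_helper4
import Groth.Agent.Lib.ARFsub_helper4
import Groth.Agent.Lib.ARAdicSES_helper4
import Groth.Agent.Lib.ARLim_helper4

/-!
# Kernels and cokernels of AR-adic Noetherian systems (helper4)
-/

set_option autoImplicit false
set_option linter.style.haveILetI false
set_option linter.unusedSectionVars false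

universe w v u

open CategoryTheory CategoryTheory.Limits Opposite ARSys

namespace Groth.Agent.Lib.ARKerH4

open Groth.Agent.Lib.ARHilbH4 (gal image_image)
open Groth.Agent.Lib.ARChainH4 (image_congr pullback_image_le)
open Groth.Agent.Lib.ARSerreH4

section Sub

variable {𝒜 : Type u} [Category.{v} 𝒜] [Abelian 𝒜]

lemma le_of_image_le {B B' : 𝒜} (g : B ⟶ B') [Mono g] {S S' : Subobject B}
    (h : imageSubobject (S.arrow ≫ g) ≤ imageSubobject (S'.arrow ≫ g)) : S ≤ S' := by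
  have h1 : S ≤ (Subobject.pullback g).obj (imageSubobject (S'.arrow ≫ g)) := (gal g S _).1 h
  have h2 := pullback_image_le g S'
  have h3 : kernelSubobject g ≤ S' := by
    have h0 : (kernelSubobject g).arrow = 0 := by
      rw [← cancel_mono g, kernelSubobject_arrow_comp, zero_comp]
    have h4 : imageSubobject (kernelSubobject g).arrow ≤ ⊥ := (ARFsubH4.le_bot_iff' _).2 h0
    rw [AbSubobjH4.image_arrow] at h4
    exact h4.trans bot_le
  exact h1.trans (h2.trans (sup_le le_rfl h3))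

lemma push_step {Zp Zq Xp Xq : 𝒜} (tZ : Zp ⟶ Zq) [Epi tZ] (tX : Xp ⟶ Xq) (jp : Zp ⟶ Xp)
    (jq : Zq ⟶ Xq) (nat : jp ≫ tX = tZ ≫ jq) (aZ : Zp ⟶ Zp) (aX : Xp ⟶ Xp)
    (hcomm : aZ ≫ jp = jp ≫ aX) (hker : (kernelSubobject tX).arrow ≫ aX = 0)
    (Mq : Subobject Zq) (Mp : Subobject Zp)
    (h : imageSubobject (((Subobject.pullback tZ).obj Mq).arrow ≫ aZ) ≤ Mp) :
    imageSubobject (((Subobject.pullback tX).obj (imageSubobject (Mq.arrow ≫ jq))).arrow ≫ aX) ≤
      imageSubobject (Mp.arrow ≫ jp) := by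
  obtain ⟨P, hP⟩ : ∃ P : Subobject Zp, P = (Subobject.pullback tZ).obj Mq := ⟨_, rfl⟩
  rw [← hP] at h
  obtain ⟨S, hS⟩ : ∃ S : Subobject Xp, S = imageSubobject (P.arrow ≫ jp) := ⟨_, rfl⟩
  have hA : imageSubobject (Mq.arrow ≫ jq) = imageSubobject (S.arrow ≫ tX) := by
    have e1 : (P.arrow ≫ jp) ≫ tX = (P.arrow ≫ tZ) ≫ jq := by
      rw [Category.assoc, nat, Category.assoc]
    have e0 : imageSubobject (P.arrow ≫ tZ) = Mq := by
      rw [hP]
      exact AbSubobjH4.image_pullback_arrow tZ Mq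
    calc imageSubobject (Mq.arrow ≫ jq)
        = imageSubobject ((imageSubobject (P.arrow ≫ tZ)).arrow ≫ jq) := by rw [e0]
      _ = imageSubobject ((P.arrow ≫ tZ) ≫ jq) := image_image _ _
      _ = imageSubobject ((P.arrow ≫ jp) ≫ tX) := image_congr e1.symm
      _ = imageSubobject ((imageSubobject (P.arrow ≫ jp)).arrow ≫ tX) := (image_image _ _).symm
      _ = imageSubobject (S.arrow ≫ tX) := by rw [hS]
  have hB : (Subobject.pullback tX).obj (imageSubobject (Mq.arrow ≫ jq)) ≤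
      S ⊔ kernelSubobject tX := by
    rw [hA]
    exact pullback_image_le tX S
  calc imageSubobject (((Subobject.pullback tX).obj (imageSubobject (Mq.arrow ≫ jq))).arrow ≫ aX)
      ≤ imageSubobject ((S ⊔ kernelSubobject tX).arrow ≫ aX) := AbSubobjH4.image_comp_mono hB aX
    _ = imageSubobject (S.arrow ≫ aX) := AbSubobjH4.image_sup_arrow_comp S _ aX hker
    _ = imageSubobject ((imageSubobject (P.arrow ≫ jp)).arrow ≫ aX) := by rw [hS]
    _ = imageSubobject ((P.arrow ≫ jp) ≫ aX) := image_image _ _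
    _ = imageSubobject ((P.arrow ≫ aZ) ≫ jp) :=
        image_congr (by rw [Category.assoc, ← hcomm, Category.assoc])
    _ = imageSubobject ((imageSubobject (P.arrow ≫ aZ)).arrow ≫ jp) := (image_image _ _).symm
    _ ≤ imageSubobject (Mp.arrow ≫ jp) := AbSubobjH4.image_comp_mono h jp

end Sub

variable {C : Type u} [Category.{v} C] [Abelian C] {A : Type w} [CommRing A] [Linear A C]

lemma fsub_succ_eq (X : PS C) (k n : ℕ) (hk : k ≤ n) :
    Fsub X (k + 1) n = kernelSubobject (tr X hk) := by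
  show (if h : k ≤ n then kernelSubobject (tr X h) else ⊥) = _
  exact dif_pos hk

lemma adic_isAdapted (J : Ideal A) (X : PS C) (hX : IsAdic J X) : IsAdapted J X := by
  intro n p hp a ha
  obtain ⟨q, hq⟩ : ∃ q, n + 1 - p = q := ⟨_, rfl⟩
  rw [hq]
  cases q with
  | zero =>
    have hpn : p = n + 1 := by omega
    subst hpn
    rw [hX.1 n a ha, comp_zero]
  | succ k =>
    have hk : k ≤ n := by omega
    rw [fsub_succ_eq X k n hk]
    exact Groth.Agent.Lib.ARChainH4.adapted J X hX hk p (by omega) a ha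

lemma sub_isAdapted (J : Ideal A) {Z X : PS C} (j : Z ⟶ X) [Mono j] (hX : IsAdapted J X) :
    IsAdapted J Z := by
  intro n p hp a ha
  haveI : Mono (j.app (op n)) := inferInstance
  rw [← cancel_mono (j.app (op n)), zero_comp, Category.assoc]
  have hcomm : (a • 𝟙 (Z.obj (op n))) ≫ j.app (op n) =
      j.app (op n) ≫ (a • 𝟙 (X.obj (op n))) := by
    rw [Linear.smul_comp, Linear.comp_smul, Category.id_comp, Category.comp_id]
  rw [hcomm]
  have hle : imageSubobject ((Fsub Z (n + 1 - p) n).arrow ≫ j.app (op n)) ≤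
      Fsub X (n + 1 - p) n := by
    rw [ARFsubH4.le_Fsub_iff]
    intro k h hk
    rw [Category.assoc, ← ARMLH4.nat_tr j h, ← Category.assoc,
      ARFsubH4.Fsub_arrow_tr Z _ n k h hk, zero_comp]
  have hfac : (Fsub Z (n + 1 - p) n).arrow ≫ j.app (op n) =
      (factorThruImageSubobject ((Fsub Z (n + 1 - p) n).arrow ≫ j.app (op n)) ≫
        Subobject.ofLE _ _ hle) ≫ (Fsub X (n + 1 - p) n).arrow := by
    rw [Category.assoc, Subobject.ofLE_arrow, imageSubobject_arrow_comp]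
  rw [← Category.assoc, hfac, Category.assoc, hX n p hp a ha, comp_zero]

/-- push a family of subobjects forward along `j` -/
noncomputable def push {Z X : PS C} (j : Z ⟶ X) (M : (q : ℕ) → Subobject (Z.obj (op q)))
    (q : ℕ) : Subobject (X.obj (op q)) :=
  imageSubobject ((M q).arrow ≫ j.app (op q))

lemma push_isGrSub (J : Ideal A) {Z X : PS C} (j : Z ⟶ X) (hZ : IsStrict Z) (hX : IsAdic J X)
    (M : (q : ℕ) → Subobject (Z.obj (op q))) (hM : IsGrSub J Z M) : IsGrSub J X (push j M) := by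
  refine ⟨fun q => ?_, fun p q a ha => ?_⟩
  · show imageSubobject ((M q).arrow ≫ j.app (op q)) ≤ Fsub X q q
    rw [ARFsubH4.le_Fsub_iff]
    intro k h hk
    have h0 : (M q).arrow ≫ tr Z h = 0 := by
      rw [← Subobject.ofLE_arrow (hM.1 q), Category.assoc, ARFsubH4.Fsub_arrow_tr Z q q k h hk,
        comp_zero]
    rw [Category.assoc, ← ARMLH4.nat_tr j h, ← Category.assoc, h0, zero_comp]
  · haveI : Epi (tr Z (Nat.le_add_left q p)) := hZ _ _ _
    have hcomm : (a • 𝟙 (Z.obj (op (p + q)))) ≫ j.app (op (p + q)) =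
        j.app (op (p + q)) ≫ (a • 𝟙 (X.obj (op (p + q)))) := by
      rw [Linear.smul_comp, Linear.comp_smul, Category.id_comp, Category.comp_id]
    exact push_step (tr Z (Nat.le_add_left q p)) (tr X (Nat.le_add_left q p))
      (j.app (op (p + q))) (j.app (op q)) (ARMLH4.nat_tr j (Nat.le_add_left q p)).symm
      (a • 𝟙 _) (a • 𝟙 _) hcomm
      (Groth.Agent.Lib.ARChainH4.adapted J X hX (Nat.le_add_left q p) p le_rfl a ha)
      (M q) (M (p + q)) (hM.2 p q a ha)

lemma sub_grsFiniteType [IsNoetherianRing A] (J : Ideal A) {Z X : PS C} (j : Z ⟶ X) [Mono j]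
    (hZ : IsStrict Z) (hX : IsAdicNoeth J X) : GrsFiniteType J Z := by
  intro M hM hmono hlub
  obtain ⟨i₀, hi₀⟩ := Groth.Agent.Lib.ARHilbH4.main8632 J X hX (fun i => push j (M i))
    (fun i => push_isGrSub J j hZ hX.1 (M i) (hM i))
    (fun i i' hii' q => AbSubobjH4.image_comp_mono (hmono hii' q) _)
  refine ⟨i₀, fun q => le_antisymm ((hM i₀).1 q) ?_⟩
  apply (hlub q).2
  rintro _ ⟨i, rfl⟩
  show M i q ≤ M i₀ q
  rcases le_total i i₀ with h | h
  · exact hmono h q
  · haveI : Mono (j.app (op q)) := inferInstance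
    apply le_of_image_le (j.app (op q))
    exact le_of_eq (congrFun (hi₀ i h) q)

/-- a strict subsystem of an adic system with Noetherian components is AR-adic -/
theorem strict_sub_isARAdic [IsNoetherianRing A] (J : Ideal A) {Z X : PS C} (j : Z ⟶ X) [Mono j]
    (hZ : IsStrict Z) (hX : IsAdicNoeth J X) : IsARAdic J Z :=
  Groth.Agent.Lib.ARGrsFTH4.main3184 J
    (Or.inl ((isNoetherianRing_iff_ideal_fg A).1 inferInstance J)) Z hZ
    (sub_isAdapted J j (adic_isAdapted J X hX.1)) (sub_grsFiniteType J j hZ hX)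

theorem kernel_isARAdic [IsNoetherianRing A] (J : Ideal A) {Y X₃ : PS C} (φ : Y ⟶ X₃)
    (hY : IsAdicNoeth J Y) (h₃ : IsARAdic J X₃) (hc : IsARNull (cokernel φ)) :
    IsARAdic J (kernel φ) := by
  have kK : TermKilled J (kernel φ) := termKilled_of_mono J (kernel.ι φ) hY.1.1
  refine ⟨kK, ?_⟩
  have kI : TermKilled J (Abelian.image φ) := termKilled_of_mono J (Abelian.image.ι φ) h₃.1
  have hcI : IsARNull (cokernel (Abelian.image.ι φ)) :=
    Groth.Agent.Lib.ARShift.isARNull_cokernel_of_comp (Abelian.factorThruImage φ)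
      (Abelian.image.ι φ) (by rw [Abelian.image.fac]; exact hc)
  have hI : IsARAdic J (Abelian.image φ) := isARAdic_of_mono J (Abelian.image.ι φ) hcI kI h₃
  have hYstrict : IsStrict Y := fun n m h => ARNoethH4.epi_of_isQuot _ (hY.1.2 n m h)
  have hYml : IsMLAR Y := (ARMLH4.main3151 Y).2 ⟨Y, 𝟙 Y, hYstrict, isARIso_id Y⟩
  have hKml : IsMLAR (kernel φ) :=
    Groth.Agent.Lib.ARAdicSESH4.main3156 (ARLimH4.ses1 φ) (ARLimH4.ses1_shortExact φ) J hY.1.1
      hYml hI
  obtain ⟨r, hr⟩ := hKml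
  obtain ⟨hstrict, -, hk, hck⟩ := ARMLH4.univImages hr
  haveI : Mono (Abelian.image.ι (ARMLH4.sigma (kernel φ) r) ≫ kernel.ι φ) := mono_comp _ _
  obtain ⟨-, Y', v, hY', hv⟩ := strict_sub_isARAdic J
    (Abelian.image.ι (ARMLH4.sigma (kernel φ) r) ≫ kernel.ι φ) hstrict hY
  exact ⟨Y', v ≫ Abelian.image.ι (ARMLH4.sigma (kernel φ) r), hY', isARIso_comp hv ⟨hk, hck⟩⟩

theorem main3162 [IsNoetherianRing A] (J : Ideal A) (S : ShortComplex (PS C))
    (hS : S.ShortExact) (h₂ : IsARAdicNoeth J S.X₂) (h₃ : IsARAdicNoeth J S.X₃) :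
    IsARAdicNoeth J S.X₁ := by
  haveI := hS.mono_f
  haveI := hS.epi_g
  have k₁ : TermKilled J S.X₁ := termKilled_of_mono J S.f h₂.1.1
  have hN : ∀ n, IsNoetherianObject (S.X₁.obj (op n)) := fun n => by
    haveI : Mono (S.f.app (op n)) := inferInstance
    haveI := h₂.2 n
    exact isNoetherianObject_of_mono (S.f.app (op n))
  refine ⟨⟨k₁, ?_⟩, hN⟩
  obtain ⟨-, Y₂, u₂, hY₂, hu₂⟩ := h₂.1
  have hY₂N : IsAdicNoeth J Y₂ := ⟨hY₂, noeth_of_isARIso J u₂ hY₂ hu₂ h₂.2⟩
  obtain ⟨φ, hφ⟩ : ∃ φ : Y₂ ⟶ S.X₃, u₂ ≫ S.g = φ := ⟨_, rfl⟩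
  have hcφ : IsARNull (cokernel φ) :=
    Groth.Agent.Lib.ARAdicSESH4.isARNull_cokernel_of_epi u₂ S.g φ hφ (𝟙 Y₂) φ
      (Category.id_comp φ) hu₂.2
  obtain ⟨-, Y, v, hY, hv⟩ := kernel_isARAdic J φ hY₂N h₃.1 hcφ
  have h0 : (kernel.ι φ ≫ u₂) ≫ S.g = 0 := by rw [Category.assoc, hφ, kernel.condition]
  obtain ⟨c, hc⟩ : ∃ c : kernel φ ⟶ S.X₁, c ≫ S.f = kernel.ι φ ≫ u₂ :=
    ⟨hS.exact.lift (kernel.ι φ ≫ u₂) h0, hS.exact.lift_f _ _⟩
  have sq : IsPullback (kernel.ι φ) c u₂ S.f := by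
    refine ⟨⟨hc.symm⟩, ⟨PullbackCone.IsLimit.mk _ (fun s => kernel.lift φ s.fst ?_)
      (fun s => kernel.lift_ι _ _ _) (fun s => ?_) (fun s m hm₁ hm₂ => ?_)⟩⟩
    · rw [← hφ, ← Category.assoc, s.condition, Category.assoc, S.zero, comp_zero]
    · rw [← cancel_mono S.f, Category.assoc, hc, kernel.lift_ι_assoc, s.condition]
    · rw [← cancel_mono (kernel.ι φ), kernel.lift_ι]
      exact hm₁
  have hcW : IsARIso c := isARIso_of_isPullback sq hu₂
  exact ⟨Y, v ≫ c, hY, isARIso_comp hv hcW⟩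

theorem main3163 [IsNoetherianRing A] (J : Ideal A) {X Y : PS C} (u : X ⟶ Y)
    (hX : IsARAdicNoeth J X) (hY : IsARAdicNoeth J Y) :
    IsARAdicNoeth J (kernel u) ∧ IsARAdicNoeth J (cokernel u) := by
  have kQ : TermKilled J (cokernel u) := termKilled_of_epi J (cokernel.π u) hY.1.1
  have hXml : IsMLAR X := by
    obtain ⟨-, Y', w', hY', hw'⟩ := hX.1
    exact (ARMLH4.main3151 X).2
      ⟨Y', w', fun n m h => ARNoethH4.epi_of_isQuot _ (hY'.2 n m h), hw'⟩
  have hIml : IsMLAR (Abelian.image u) := mlar_of_epi (Abelian.factorThruImage u) hXml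
  have hQ : IsARAdic J (cokernel u) :=
    Groth.Agent.Lib.ARAdicSESH4.main3155 (ARLimH4.ses2 u) (ARLimH4.ses2_shortExact u) J kQ hIml
      hY.1
  have hQN : ∀ n, IsNoetherianObject ((cokernel u).obj (op n)) := fun n => by
    haveI := hY.2 n
    haveI : Epi ((cokernel.π u).app (op n)) := inferInstance
    exact AbSubobjH4.isNoetherianObject_of_epi ((cokernel.π u).app (op n))
  have hQ' : IsARAdicNoeth J (cokernel u) := ⟨hQ, hQN⟩
  have hI' : IsARAdicNoeth J (Abelian.image u) :=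
    main3162 J (ARLimH4.ses2 u) (ARLimH4.ses2_shortExact u) hY hQ'
  have hK' : IsARAdicNoeth J (kernel u) :=
    main3162 J (ARLimH4.ses1 u) (ARLimH4.ses1_shortExact u) hX hI'
  exact ⟨hK', hQ'⟩

end Groth.Agent.Lib.ARKerH4
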