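import Mathlib
import Groth.Prelude.Def_ARSys
import Groth.Agent.Lib.ARSerre_helper4
import Groth.Agent.Lib.ARKer_helper4
import Groth.Agent.Lib.ARExt_helper4
import Groth.Agent.Lib.ARAdicExt_helper4

/-!
# Lifting properties of adic systems against AR-isomorphisms (helper4)
-/

set_option autoImplicit false
set_option linter.style.haveILetI false
set_option linter.unusedSectionVars false

universe w v u

open CategoryTheory CategoryTheory.Limits Opposite ARSys ZeroObject

namespace Groth.Agent.Lib.ARAbH4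

open Groth.Agent.Lib.TrCalc (can can_app)
open Groth.Agent.Lib.ARSerreH4 Groth.Agent.Lib.ARExtH4

variable {C : Type u} [Category.{v} C] [Abelian C]

/-- a map from a strict system to an AR-null system vanishes -/
lemma eq_zero_of_strict_of_arNull {T N : PS C} (hT : IsStrict T) (hN : IsARNull N) (g : T ⟶ N) :
    g = 0 := by
  obtain ⟨r, hr⟩ := hN
  ext k
  obtain ⟨n⟩ := k
  haveI : Epi (tr T (Nat.le_add_right n r)) := hT _ _ _
  rw [← cancel_epi (tr T (Nat.le_add_right n r)), ARMLH4.nat_tr g (Nat.le_add_right n r),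
    show tr N (Nat.le_add_right n r) = 0 from hr n, comp_zero, NatTrans.app_zero, comp_zero]

lemma arNull_kernel_factorThruImage {X Y : PS C} (v : X ⟶ Y) (h : IsARNull (kernel v)) :
    IsARNull (kernel (Abelian.factorThruImage v)) := by
  have h1 : kernel.ι (Abelian.factorThruImage v) ≫ v = 0 := by
    have h2 : kernel.ι (Abelian.factorThruImage v) ≫ Abelian.factorThruImage v ≫
        Abelian.image.ι v = 0 := by
      rw [← Category.assoc, kernel.condition, zero_comp]
    rwa [Abelian.image.fac] at h2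
  have h3 : kernel.lift v (kernel.ι (Abelian.factorThruImage v)) h1 ≫ kernel.ι v =
      kernel.ι (Abelian.factorThruImage v) := kernel.lift_ι _ _ _
  haveI : Mono (kernel.lift v (kernel.ι (Abelian.factorThruImage v)) h1) := mono_of_mono_fac h3
  exact arNull_of_mono (kernel.lift v (kernel.ι (Abelian.factorThruImage v)) h1) h

lemma arNull_kernel_factorThruImageSubobject {X Y : PS C} (v : X ⟶ Y) (h : IsARNull (kernel v)) :
    IsARNull (kernel (factorThruImageSubobject v)) := by
  have h1 : kernel.ι (factorThruImageSubobject v) ≫ v = 0 := by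
    have h2 : kernel.ι (factorThruImageSubobject v) ≫ factorThruImageSubobject v ≫
        (imageSubobject v).arrow = 0 := by
      rw [← Category.assoc, kernel.condition, zero_comp]
    rwa [imageSubobject_arrow_comp] at h2
  have h3 : kernel.lift v (kernel.ι (factorThruImageSubobject v)) h1 ≫ kernel.ι v =
      kernel.ι (factorThruImageSubobject v) := kernel.lift_ι _ _ _
  haveI : Mono (kernel.lift v (kernel.ι (factorThruImageSubobject v)) h1) := mono_of_mono_fac h3
  exact arNull_of_mono (kernel.lift v (kernel.ι (factorThruImageSubobject v)) h1) h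

lemma eq_of_comp_eq_of_null {K' K T : PS C} (v : K' ⟶ K) (hk : IsARNull (kernel v))
    (hT : IsStrict T) (l₁ l₂ : T ⟶ K') (h : l₁ ≫ v = l₂ ≫ v) : l₁ = l₂ := by
  have h0 : (l₁ - l₂) ≫ v = 0 := by rw [Preadditive.sub_comp, h, sub_self]
  have h1 : kernel.lift v (l₁ - l₂) h0 = 0 := eq_zero_of_strict_of_arNull hT hk _
  have h2 : l₁ - l₂ = 0 := by rw [← kernel.lift_ι v (l₁ - l₂) h0, h1, zero_comp]
  exact sub_eq_zero.1 h2

lemma epi_of_arNull_cokernel_of_strict {K' K : PS C} (v : K' ⟶ K) (hc : IsARNull (cokernel v))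
    (hK : IsStrict K) : Epi v := by
  have hQ : IsStrict (cokernel v) := strict_of_epi (cokernel.π v) hK
  obtain ⟨r, hr⟩ := hc
  apply Preadditive.epi_of_cokernel_zero
  ext k
  obtain ⟨n⟩ := k
  haveI : Epi (tr (cokernel v) (Nat.le_add_right n r)) := hQ _ _ _
  have h1 : (𝟙 ((cokernel v).obj (op n))) = 0 := by
    rw [← cancel_epi (tr (cokernel v) (Nat.le_add_right n r)),
      show tr (cokernel v) (Nat.le_add_right n r) = 0 from hr n, zero_comp, zero_comp]
  rw [NatTrans.app_zero, ← Category.comp_id ((cokernel.π v).app (op n)), h1, comp_zero]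

/-- an epimorphism with AR-null kernel admits a section after translation -/
theorem exists_shift_lift {E Z : PS C} (β : E ⟶ Z) [Epi β] (hk : IsARNull (kernel β)) :
    ∃ (r : ℕ) (v : (shift C r).obj Z ⟶ E), v ≫ β = can r Z := by
  obtain ⟨r, hr⟩ := hk
  have hepi : ∀ n, Epi (β.app (op n)) := fun n => inferInstance
  have hdesc : ∀ n, ∃ l : Z.obj (op (n + r)) ⟶ E.obj (op n),
      β.app (op (n + r)) ≫ l = tr E (Nat.le_add_right n r) := by
    intro n
    haveI := hepi (n + r)
    have h0 : kernel.ι (β.app (op (n + r))) ≫ tr E (Nat.le_add_right n r) = 0 := by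
      obtain ⟨t', ht'⟩ := Groth.Agent.Lib.ARShift.exists_lift_kernel_app β (op (n + r))
        (kernel.ι (β.app (op (n + r)))) (kernel.condition _)
      rw [← ht', Category.assoc, ← ARMLH4.nat_tr (kernel.ι β) (Nat.le_add_right n r),
        show tr (kernel β) (Nat.le_add_right n r) = 0 from hr n, zero_comp, comp_zero]
    exact ⟨Abelian.epiDesc (β.app (op (n + r))) _ h0, Abelian.comp_epiDesc _ _ _⟩
  choose σ hσ using hdesc
  obtain ⟨v, hv⟩ : ∃ v : (shift C r).obj Z ⟶ E, ∀ n, v.app (op n) = σ n :=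
    ⟨{ app := fun k => σ k.unop
       naturality := by
        intro k k' f
        obtain ⟨m⟩ := k
        obtain ⟨n⟩ := k'
        have hnm : n ≤ m := leOfHom f.unop
        haveI := hepi (m + r)
        show tr Z (Nat.add_le_add_right hnm r) ≫ σ n = σ m ≫ tr E hnm
        have e1 : β.app (op (m + r)) ≫ tr Z (Nat.add_le_add_right hnm r) ≫ σ n =
            tr E (hnm.trans (Nat.le_add_right m r)) := by
          rw [← Category.assoc, ← ARMLH4.nat_tr β (Nat.add_le_add_right hnm r), Category.assoc,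
            hσ n, ARMLH4.tr_comp]
        have e2 : β.app (op (m + r)) ≫ σ m ≫ tr E hnm =
            tr E (hnm.trans (Nat.le_add_right m r)) := by
          rw [← Category.assoc, hσ m, ARMLH4.tr_comp]
        rw [← cancel_epi (β.app (op (m + r))), e1, e2] }, fun n => rfl⟩
  refine ⟨r, v, ?_⟩
  ext k
  obtain ⟨n⟩ := k
  haveI := hepi (n + r)
  rw [NatTrans.comp_app, hv n, can_app]
  show (σ n ≫ β.app (op n) : Z.obj (op (n + r)) ⟶ Z.obj (op n)) = tr Z (Nat.le_add_right n r)
  rw [← cancel_epi (β.app (op (n + r))), ← Category.assoc, hσ n]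
  exact ARMLH4.nat_tr β (Nat.le_add_right n r)

section Linear

variable {A : Type w} [CommRing A] [Linear A C]

lemma termKilled_pullback (J : Ideal A) {X Y Z : PS C} (f : X ⟶ Z) (g : Y ⟶ Z)
    (kX : TermKilled J X) (kY : TermKilled J Y) : TermKilled J (pullback f g) := by
  intro n a ha
  have sqn := (IsPullback.of_hasPullback f g).map ((evaluation ℕᵒᵖ C).obj (op n))
  apply sqn.hom_ext
  · show (a • 𝟙 _) ≫ (pullback.fst f g).app (op n) = 0 ≫ (pullback.fst f g).app (op n)
    rw [zero_comp, Linear.smul_comp, Category.id_comp]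
    exact Groth.Agent.Lib.ARShift.homKilledBy_of_killedBy _ _ (kX n) a ha
  · show (a • 𝟙 _) ≫ (pullback.snd f g).app (op n) = 0 ≫ (pullback.snd f g).app (op n)
    rw [zero_comp, Linear.smul_comp, Category.id_comp]
    exact Groth.Agent.Lib.ARShift.homKilledBy_of_killedBy _ _ (kY n) a ha

/-- an epimorphism with AR-null kernel onto an adic system splits -/
theorem exists_section (J : Ideal A) {E Z : PS C} (β : E ⟶ Z) [Epi β]
    (hk : IsARNull (kernel β)) (kE : TermKilled J E) (hZ : IsAdic J Z) :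
    ∃ s : Z ⟶ E, s ≫ β = 𝟙 Z := by
  obtain ⟨r, v, hvβ⟩ := exists_shift_lift β hk
  haveI := Groth.Agent.Lib.ARShift.epi_can J hZ r
  refine ⟨Groth.Agent.Lib.ARShift.uMap J kE hZ r v, ?_⟩
  rw [← cancel_epi (can r Z), ← Category.assoc, Groth.Agent.Lib.ARShift.can_uMap, hvβ,
    Category.comp_id]

theorem lift_of_epi_null (J : Ideal A) {X I T : PS C} (e : X ⟶ I) [Epi e]
    (hk : IsARNull (kernel e)) (kX : TermKilled J X) (hT : IsAdic J T) (t : T ⟶ I) :
    ∃ l : T ⟶ X, l ≫ e = t := by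
  haveI : Epi (pullback.fst t e) := inferInstance
  have hkβ : IsARNull (kernel (pullback.fst t e)) :=
    MorphismProperty.pullback_fst (P := (arNull (C := C)).monoModSerre) t e hk
  have kE : TermKilled J (pullback t e) := termKilled_pullback J t e hT.1 kX
  obtain ⟨s, hs⟩ := exists_section J (pullback.fst t e) hkβ kE hT
  refine ⟨s ≫ pullback.snd t e, ?_⟩
  rw [Category.assoc, ← pullback.condition, ← Category.assoc, hs, Category.id_comp]

theorem lift_of_isARIso (J : Ideal A) {K' K T : PS C} (v : K' ⟶ K) (hv : IsARIso v)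
    (kK' : TermKilled J K') (hT : IsAdic J T) (t : T ⟶ K) : ∃ l : T ⟶ K', l ≫ v = t := by
  have hTs : IsStrict T := fun n m h => ARNoethH4.epi_of_isQuot _ (hT.2 n m h)
  have h0 : t ≫ cokernel.π v = 0 := eq_zero_of_strict_of_arNull hTs hv.2 _
  have hfac : kernel.lift (cokernel.π v) t h0 ≫ Abelian.image.ι v = t := kernel.lift_ι _ _ _
  obtain ⟨l, hl⟩ := lift_of_epi_null J (Abelian.factorThruImage v)
    (arNull_kernel_factorThruImage v hv.1) kK' hT (kernel.lift (cokernel.π v) t h0)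
  refine ⟨l, ?_⟩
  calc l ≫ v = l ≫ Abelian.factorThruImage v ≫ Abelian.image.ι v := by rw [Abelian.image.fac]
    _ = t := by rw [← Category.assoc, hl, hfac]

theorem exists_adic_kernel [IsNoetherianRing A] (J : Ideal A) {X Y : PS C} (u : X ⟶ Y)
    (hX : IsAdicNoeth J X) (hY : IsAdicNoeth J Y) :
    ∃ (K' : PS C) (v : K' ⟶ kernel u), IsAdicNoeth J K' ∧ IsARIso v := by
  have hXa : IsARAdicNoeth J X := ⟨⟨hX.1.1, X, 𝟙 X, hX.1, isARIso_id X⟩, hX.2⟩
  have hYa : IsARAdicNoeth J Y := ⟨⟨hY.1.1, Y, 𝟙 Y, hY.1, isARIso_id Y⟩, hY.2⟩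
  obtain ⟨⟨⟨-, K', v, hK', hv⟩, hKN⟩, -⟩ := Groth.Agent.Lib.ARKerH4.main3163 J u hXa hYa
  exact ⟨K', v, ⟨hK', noeth_of_isARIso J v hK' hv hKN⟩, hv⟩

theorem cokernel_isAdicNoeth (J : Ideal A) {X Y : PS C} (u : X ⟶ Y)
    (hX : IsAdicNoeth J X) (hY : IsAdicNoeth J Y) : IsAdicNoeth J (cokernel u) := by
  have hXs : IsStrict X := fun n m h => ARNoethH4.epi_of_isQuot _ (hX.1.2 n m h)
  have hIs : IsStrict (Abelian.image u) := strict_of_epi (Abelian.factorThruImage u) hXs
  refine ⟨ARSESH4.main3152 (ARLimH4.ses2 u) (ARLimH4.ses2_shortExact u) J hIs hY.1, fun n => ?_⟩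
  haveI := hY.2 n
  haveI : Epi ((cokernel.π u).app (op n)) := inferInstance
  exact AbSubobjH4.isNoetherianObject_of_epi ((cokernel.π u).app (op n))

theorem biprod_isAdicNoeth (J : Ideal A) {X Y : PS C} (hX : IsAdicNoeth J X)
    (hY : IsAdicNoeth J Y) : IsAdicNoeth J (X ⊞ Y) := by
  have hS : (ShortComplex.mk (biprod.inl : X ⟶ X ⊞ Y) (biprod.snd : X ⊞ Y ⟶ Y)
      (by simp)).ShortExact := (ShortComplex.Splitting.ofHasBinaryBiproduct X Y).shortExact
  have hk : TermKilled J (X ⊞ Y) := by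
    intro n a ha
    have htot : (biprod.fst : X ⊞ Y ⟶ X).app (op n) ≫ (biprod.inl : X ⟶ X ⊞ Y).app (op n) +
        (biprod.snd : X ⊞ Y ⟶ Y).app (op n) ≫ (biprod.inr : Y ⟶ X ⊞ Y).app (op n) = 𝟙 _ := by
      rw [← NatTrans.comp_app, ← NatTrans.comp_app, ← NatTrans.app_add, biprod.total]
      rfl
    have h1 : (a • 𝟙 ((X ⊞ Y).obj (op n))) ≫ (biprod.fst : X ⊞ Y ⟶ X).app (op n) = 0 := by
      rw [Linear.smul_comp, Category.id_comp]
      exact Groth.Agent.Lib.ARShift.homKilledBy_of_killedBy _ _ (hX.1.1 n) a ha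
    have h2 : (a • 𝟙 ((X ⊞ Y).obj (op n))) ≫ (biprod.snd : X ⊞ Y ⟶ Y).app (op n) = 0 := by
      rw [Linear.smul_comp, Category.id_comp]
      exact Groth.Agent.Lib.ARShift.homKilledBy_of_killedBy _ _ (hY.1.1 n) a ha
    calc a • 𝟙 ((X ⊞ Y).obj (op n)) = (a • 𝟙 ((X ⊞ Y).obj (op n))) ≫ 𝟙 _ :=
          (Category.comp_id _).symm
      _ = (a • 𝟙 ((X ⊞ Y).obj (op n))) ≫
          ((biprod.fst : X ⊞ Y ⟶ X).app (op n) ≫ (biprod.inl : X ⟶ X ⊞ Y).app (op n) +
          (biprod.snd : X ⊞ Y ⟶ Y).app (op n) ≫ (biprod.inr : Y ⟶ X ⊞ Y).app (op n)) := by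
          rw [htot]
      _ = 0 := by
          rw [Preadditive.comp_add, ← Category.assoc, h1, zero_comp, ← Category.assoc, h2,
            zero_comp, add_zero]
  refine ⟨ARAdicExtH4.main3154 J _ hS hk hX.1 hY.1, fun n => ?_⟩
  have hev := hS.map_of_exact ((evaluation ℕᵒᵖ C).obj (op n))
  haveI : IsNoetherianObject ((ShortComplex.mk (biprod.inl : X ⟶ X ⊞ Y)
      (biprod.snd : X ⊞ Y ⟶ Y) (by simp)).map ((evaluation ℕᵒᵖ C).obj (op n))).X₁ := hX.2 n
  haveI : IsNoetherianObject ((ShortComplex.mk (biprod.inl : X ⟶ X ⊞ Y)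
      (biprod.snd : X ⊞ Y ⟶ Y) (by simp)).map ((evaluation ℕᵒᵖ C).obj (op n))).X₃ := hY.2 n
  exact AbSubobjH4.isNoetherianObject_of_shortExact _ hev

theorem zero_isAdicNoeth (J : Ideal A) : IsAdicNoeth J (0 : PS C) := by
  have hz : ∀ n, IsZero ((0 : PS C).obj (op n)) := fun n =>
    (Functor.isZero_iff _).1 (isZero_zero (PS C)) _
  exact ⟨⟨fun n a ha => (hz n).eq_of_src _ _, fun n m h => ⟨fun a ha => (hz n).eq_of_src _ _,
    fun W φ hφ => ⟨0, (hz m).eq_of_src _ _, fun ψ _ => (hz n).eq_of_src _ _⟩⟩⟩,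
    fun n => isNoetherianObject_of_isZero (hz n)⟩

end Linear

end Groth.Agent.Lib.ARAbH4
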