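import Mathlib
import Groth.Prelude.Def_ARSys
import Groth.Agent.Lib.ARAb_helper4
import Groth.Agent.Lib.ARChain_helper4

/-!
# The category of adic Noetherian systems is abelian with Noetherian objects (helper4)
-/

set_option autoImplicit false
set_option linter.style.haveILetI false
set_option linter.unusedSectionVars false

universe w v u

open CategoryTheory CategoryTheory.Limits Opposite ARSys ZeroObject

namespace Groth.Agent.Lib.ARAbCatH4

open Groth.Agent.Lib.ARSerreH4 Groth.Agent.Lib.ARExtH4 Groth.Agent.Lib.ARAbH4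

variable {C : Type u} [Category.{v} C] [Abelian C] {A : Type w} [CommRing A] [IsNoetherianRing A]
  [Linear A C] (J : Ideal A)

/-- the category of adic systems with Noetherian components -/
abbrev D : Type (max u v) :=
  ObjectProperty.FullSubcategory (fun X : ARSys.PS C => ARSys.IsAdicNoeth J X)

variable {J}

lemma hom_comp_eq_zero {X Y Z : D (C := C) J} {f : X ⟶ Y} {g : Y ⟶ Z} (h : f ≫ g = 0) :
    f.hom ≫ g.hom = 0 := congrArg (fun t => t.hom) h

lemma arNull_kernel_of_mono {X Y : D (C := C) J} (f : X ⟶ Y) [Mono f] :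
    IsARNull (kernel f.hom) := by
  obtain ⟨K', v, hK', hv⟩ := exists_adic_kernel J f.hom X.property Y.property
  have hk0 : (ObjectProperty.homMk (v ≫ kernel.ι f.hom) : (⟨K', hK'⟩ : D (C := C) J) ⟶ X) = 0 := by
    rw [← cancel_mono f, zero_comp]
    apply ObjectProperty.hom_ext
    show (v ≫ kernel.ι f.hom) ≫ f.hom = 0
    rw [Category.assoc, kernel.condition, comp_zero]
  have hv0 : v = 0 := by
    have h1 : v ≫ kernel.ι f.hom = 0 := congrArg (fun t => t.hom) hk0
    rw [← cancel_mono (kernel.ι f.hom), zero_comp]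
    exact h1
  subst hv0
  exact arNull_of_mono (cokernel.π (0 : K' ⟶ kernel f.hom)) hv.2

lemma epi_hom_of_epi {X Y : D (C := C) J} (f : X ⟶ Y) [Epi f] : Epi f.hom := by
  apply Preadditive.epi_of_cokernel_zero
  have h : (ObjectProperty.homMk (cokernel.π f.hom) :
      Y ⟶ (⟨cokernel f.hom, cokernel_isAdicNoeth J f.hom X.property Y.property⟩ : D (C := C) J)) =
      0 := by
    rw [← cancel_epi f, comp_zero]
    apply ObjectProperty.hom_ext
    show f.hom ≫ cokernel.π f.hom = 0
    exact cokernel.condition _
  exact congrArg (fun t => t.hom) h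

variable (J)

lemma hasZeroObject : HasZeroObject (D (C := C) J) := by
  refine ⟨⟨⟨(0 : PS C), zero_isAdicNoeth J⟩, ?_⟩⟩
  rw [IsZero.iff_id_eq_zero]
  apply ObjectProperty.hom_ext
  exact (isZero_zero (PS C)).eq_of_src _ _

lemma hasBinaryProducts : HasBinaryProducts (D (C := C) J) := by
  haveI : ∀ {X Y : D (C := C) J}, HasLimit (pair X Y) := by
    intro X Y
    exact HasLimit.mk
      ⟨BinaryFan.mk (P := (⟨X.obj ⊞ Y.obj, biprod_isAdicNoeth J X.property Y.property⟩ :
          D (C := C) J)) (ObjectProperty.homMk biprod.fst) (ObjectProperty.homMk biprod.snd),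
        BinaryFan.IsLimit.mk _ (fun f g => ObjectProperty.homMk (biprod.lift f.hom g.hom))
          (fun f g => by
            apply ObjectProperty.hom_ext
            exact biprod.lift_fst _ _)
          (fun f g => by
            apply ObjectProperty.hom_ext
            exact biprod.lift_snd _ _)
          (fun f g m h₁ h₂ => by
            apply ObjectProperty.hom_ext
            apply biprod.hom_ext
            · exact (congrArg (fun t => t.hom) h₁).trans (biprod.lift_fst _ _).symm
            · exact (congrArg (fun t => t.hom) h₂).trans (biprod.lift_snd _ _).symm)⟩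
  exact hasBinaryProducts_of_hasLimit_pair _

lemma hasFiniteProducts : HasFiniteProducts (D (C := C) J) := by
  haveI := hasZeroObject (C := C) J
  haveI := hasBinaryProducts (C := C) J
  exact hasFiniteProducts_of_has_binary_and_terminal

lemma hasCokernels : HasCokernels (D (C := C) J) := by
  refine ⟨fun {X Y} f => ?_⟩
  have w : f ≫ (ObjectProperty.homMk (cokernel.π f.hom) :
      Y ⟶ (⟨cokernel f.hom, cokernel_isAdicNoeth J f.hom X.property Y.property⟩ : D (C := C) J)) =
      0 := by
    apply ObjectProperty.hom_ext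
    show f.hom ≫ cokernel.π f.hom = 0
    exact cokernel.condition _
  exact HasColimit.mk ⟨CokernelCofork.ofπ _ w, CokernelCofork.IsColimit.ofπ _ w
    (fun t ht => ObjectProperty.homMk (cokernel.desc f.hom t.hom (hom_comp_eq_zero ht)))
    (fun t ht => by
      apply ObjectProperty.hom_ext
      exact cokernel.π_desc _ _ _)
    (fun t ht m hm => by
      apply ObjectProperty.hom_ext
      show m.hom = cokernel.desc f.hom t.hom (hom_comp_eq_zero ht)
      rw [← cancel_epi (cokernel.π f.hom), cokernel.π_desc]
      exact congrArg (fun t => t.hom) hm)⟩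

/-- the universal property of the adic replacement of the kernel -/
lemma kernel_univ {X Y : D (C := C) J} (f : X ⟶ Y) (K' : PS C) (v : K' ⟶ kernel f.hom)
    (hK' : IsAdicNoeth J K') (hv : IsARIso v) (T : D (C := C) J) (t : T ⟶ X) (ht : t ≫ f = 0) :
    ∃! l : T ⟶ (⟨K', hK'⟩ : D (C := C) J),
      l ≫ (ObjectProperty.homMk (v ≫ kernel.ι f.hom) : (⟨K', hK'⟩ : D (C := C) J) ⟶ X) = t := by
  have ht' : t.hom ≫ f.hom = 0 := hom_comp_eq_zero ht
  obtain ⟨l, hl⟩ := lift_of_isARIso J v hv hK'.1.1 T.property.1 (kernel.lift f.hom t.hom ht')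
  have hTs : IsStrict T.obj := fun n m h => ARNoethH4.epi_of_isQuot _ (T.property.1.2 n m h)
  refine ⟨ObjectProperty.homMk l, ?_, ?_⟩
  · apply ObjectProperty.hom_ext
    show l ≫ v ≫ kernel.ι f.hom = t.hom
    rw [← Category.assoc, hl, kernel.lift_ι]
  · intro m hm
    apply ObjectProperty.hom_ext
    show m.hom = l
    apply eq_of_comp_eq_of_null v hv.1 hTs
    rw [← cancel_mono (kernel.ι f.hom), Category.assoc]
    have e1 : (l ≫ v) ≫ kernel.ι f.hom = t.hom := by rw [hl, kernel.lift_ι]
    rw [e1]
    exact congrArg (fun t => t.hom) hm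

lemma hasKernels : HasKernels (D (C := C) J) := by
  refine ⟨fun {X Y} f => ?_⟩
  obtain ⟨K', v, hK', hv⟩ := exists_adic_kernel J f.hom X.property Y.property
  have w : (ObjectProperty.homMk (v ≫ kernel.ι f.hom) : (⟨K', hK'⟩ : D (C := C) J) ⟶ X) ≫ f =
      0 := by
    apply ObjectProperty.hom_ext
    show (v ≫ kernel.ι f.hom) ≫ f.hom = 0
    rw [Category.assoc, kernel.condition, comp_zero]
  have huniv := kernel_univ J f K' v hK' hv
  exact HasLimit.mk ⟨KernelFork.ofι _ w, KernelFork.IsLimit.ofι _ w
    (fun t ht => (huniv _ t ht).choose)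
    (fun t ht => (huniv _ t ht).choose_spec.1)
    (fun t ht m hm => (huniv _ t ht).choose_spec.2 m hm)⟩

lemma normalMono {X Y : D (C := C) J} (f : X ⟶ Y) [Mono f] : Nonempty (NormalMono f) := by
  have w : f ≫ (ObjectProperty.homMk (cokernel.π f.hom) :
      Y ⟶ (⟨cokernel f.hom, cokernel_isAdicNoeth J f.hom X.property Y.property⟩ : D (C := C) J)) =
      0 := by
    apply ObjectProperty.hom_ext
    show f.hom ≫ cokernel.π f.hom = 0
    exact cokernel.condition _
  have hk : IsARNull (kernel f.hom) := arNull_kernel_of_mono f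
  have huniv : ∀ (T : D (C := C) J) (t : T ⟶ Y),
      t ≫ (ObjectProperty.homMk (cokernel.π f.hom) :
        Y ⟶ (⟨cokernel f.hom, cokernel_isAdicNoeth J f.hom X.property Y.property⟩ :
          D (C := C) J)) = 0 → ∃ l : T ⟶ X, l ≫ f = t := by
    intro T t ht
    have ht' : t.hom ≫ cokernel.π f.hom = 0 := hom_comp_eq_zero ht
    obtain ⟨l, hl⟩ := lift_of_epi_null J (Abelian.factorThruImage f.hom)
      (arNull_kernel_factorThruImage f.hom hk) X.property.1.1 T.property.1
      (kernel.lift (cokernel.π f.hom) t.hom ht')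
    refine ⟨ObjectProperty.homMk l, ?_⟩
    apply ObjectProperty.hom_ext
    show l ≫ f.hom = t.hom
    calc l ≫ f.hom = l ≫ Abelian.factorThruImage f.hom ≫ Abelian.image.ι f.hom := by
          rw [Abelian.image.fac]
      _ = t.hom := by
          rw [← Category.assoc, hl]
          exact kernel.lift_ι _ _ _
  exact ⟨{ Z := _
           g := _
           w := w
           isLimit := KernelFork.IsLimit.ofι f w
            (fun t ht => (huniv _ t ht).choose)
            (fun t ht => (huniv _ t ht).choose_spec)
            (fun t ht m hm => by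
              rw [← cancel_mono f, hm, (huniv _ t ht).choose_spec]) }⟩

lemma normalEpi {X Y : D (C := C) J} (f : X ⟶ Y) [Epi f] : Nonempty (NormalEpi f) := by
  haveI hepi : Epi f.hom := epi_hom_of_epi f
  obtain ⟨K', v, hK', hv⟩ := exists_adic_kernel J f.hom X.property Y.property
  have hXs : IsStrict X.obj := fun n m h => ARNoethH4.epi_of_isQuot _ (X.property.1.2 n m h)
  have hS : (ShortComplex.mk (kernel.ι f.hom) f.hom (kernel.condition f.hom)).ShortExact :=
    ShortComplex.ShortExact.mk' (ShortComplex.exact_kernel f.hom)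
      (show Mono (kernel.ι f.hom) from inferInstance) (show Epi f.hom from hepi)
  have hKs : IsStrict (kernel f.hom) :=
    ARSESH4.main3153 _ hS J X.property.1.1 hXs Y.property.1
  haveI : Epi v := epi_of_arNull_cokernel_of_strict v hv.2 hKs
  have w : (ObjectProperty.homMk (v ≫ kernel.ι f.hom) : (⟨K', hK'⟩ : D (C := C) J) ⟶ X) ≫ f =
      0 := by
    apply ObjectProperty.hom_ext
    show (v ≫ kernel.ι f.hom) ≫ f.hom = 0
    rw [Category.assoc, kernel.condition, comp_zero]
  have huniv : ∀ (T : D (C := C) J) (t : X ⟶ T),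
      (ObjectProperty.homMk (v ≫ kernel.ι f.hom) : (⟨K', hK'⟩ : D (C := C) J) ⟶ X) ≫ t = 0 →
      ∃ l : Y ⟶ T, f ≫ l = t := by
    intro T t ht
    have ht' : (v ≫ kernel.ι f.hom) ≫ t.hom = 0 := hom_comp_eq_zero ht
    have h0 : kernel.ι f.hom ≫ t.hom = 0 := by
      rw [← cancel_epi v, comp_zero, ← Category.assoc]
      exact ht'
    refine ⟨ObjectProperty.homMk (Abelian.epiDesc f.hom t.hom h0), ?_⟩
    apply ObjectProperty.hom_ext
    exact Abelian.comp_epiDesc _ _ _
  exact ⟨{ W := _
           g := _
           w := w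
           isColimit := CokernelCofork.IsColimit.ofπ f w
            (fun t ht => (huniv _ t ht).choose)
            (fun t ht => (huniv _ t ht).choose_spec)
            (fun t ht m hm => by
              rw [← cancel_epi f, hm, (huniv _ t ht).choose_spec]) }⟩

theorem nonempty_abelian : Nonempty (Abelian (D (C := C) J)) := by
  haveI := hasFiniteProducts (C := C) J
  haveI := hasKernels (C := C) J
  haveI := hasCokernels (C := C) J
  exact ⟨{ toPreadditive := inferInstance
           normalMonoOfMono := fun f _ => normalMono J f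
           normalEpiOfEpi := fun f _ => normalEpi J f }⟩

theorem isNoetherianObject (Y : D (C := C) J) : IsNoetherianObject Y := by
  rw [isNoetherianObject_iff_monotone_chain_condition]
  intro f
  have hΦmono : ∀ S₁ S₂ : Subobject Y, S₁ ≤ S₂ →
      imageSubobject S₁.arrow.hom ≤ imageSubobject S₂.arrow.hom := by
    intro S₁ S₂ h
    have e : S₁.arrow.hom = (Subobject.ofLE S₁ S₂ h).hom ≫ S₂.arrow.hom :=
      (congrArg (fun t => t.hom) (Subobject.ofLE_arrow h)).symm
    rw [Groth.Agent.Lib.ARChainH4.image_congr e]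
    exact imageSubobject_comp_le _ _
  have hΦrefl : ∀ S₁ S₂ : Subobject Y,
      imageSubobject S₁.arrow.hom ≤ imageSubobject S₂.arrow.hom → S₁ ≤ S₂ := by
    intro S₁ S₂ h
    have hk : IsARNull (kernel S₂.arrow.hom) := arNull_kernel_of_mono S₂.arrow
    obtain ⟨l, hl⟩ := lift_of_epi_null J (factorThruImageSubobject S₂.arrow.hom)
      (arNull_kernel_factorThruImageSubobject S₂.arrow.hom hk)
      (Subobject.underlying.obj S₂).property.1.1 (Subobject.underlying.obj S₁).property.1
      (factorThruImageSubobject S₁.arrow.hom ≫ Subobject.ofLE _ _ h)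
    refine Subobject.le_of_comm (ObjectProperty.homMk l) ?_
    apply ObjectProperty.hom_ext
    show l ≫ S₂.arrow.hom = S₁.arrow.hom
    calc l ≫ S₂.arrow.hom
        = l ≫ factorThruImageSubobject S₂.arrow.hom ≫ (imageSubobject S₂.arrow.hom).arrow := by
          rw [imageSubobject_arrow_comp]
      _ = (factorThruImageSubobject S₁.arrow.hom ≫ Subobject.ofLE _ _ h) ≫
          (imageSubobject S₂.arrow.hom).arrow := by rw [← Category.assoc, hl]
      _ = S₁.arrow.hom := by
          rw [Category.assoc, Subobject.ofLE_arrow, imageSubobject_arrow_comp]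
  have hstrict : ∀ S : Subobject Y,
      IsStrict (Subobject.underlying.obj (imageSubobject S.arrow.hom) : PS C) := by
    intro S
    have hXs : IsStrict (Subobject.underlying.obj S).obj := fun n m h =>
      ARNoethH4.epi_of_isQuot _ ((Subobject.underlying.obj S).property.1.2 n m h)
    exact strict_of_epi (factorThruImageSubobject S.arrow.hom) hXs
  obtain ⟨k₀, hk₀⟩ := Groth.Agent.Lib.ARChainH4.main3164 J Y.obj Y.property
    ⟨fun k => imageSubobject (f k).arrow.hom, fun a b h => hΦmono _ _ (f.monotone h)⟩
    (fun k => hstrict (f k))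
  exact ⟨k₀, fun m hm => le_antisymm (f.monotone hm) (hΦrefl _ _ (le_of_eq (hk₀ m hm)))⟩

theorem main3190 :
    Nonempty (Abelian (ObjectProperty.FullSubcategory
      (fun X : ARSys.PS C => ARSys.IsAdicNoeth J X))) ∧
    ∀ Y : ObjectProperty.FullSubcategory (fun X : ARSys.PS C => ARSys.IsAdicNoeth J X),
      IsNoetherianObject Y :=
  ⟨nonempty_abelian J, isNoetherianObject J⟩

end Groth.Agent.Lib.ARAbCatH4
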