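import Mathlib

/-!
# Artin–Rees for cycles of a complex of flat modules (helper5)
APPEND-ONLY once landed.

Ring-level input for S14102: for a Noetherian ring `A`, an ideal `J`, and maps
`d : P' → P`, `d' : P → P''` with `J • ker d' ≤ range d`, there is `k` such that every element
of `J^e ⊗ P` (`e ≥ m + k + 1`) killed by `1 ⊗ d'` becomes a boundary in `J^m ⊗ P`.
-/

set_option autoImplicit false
set_option linter.style.haveILetI false

universe u

open TensorProduct

namespace Groth.Agent.Lib.ARDer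

variable {A : Type u} [CommRing A]

section Mu

variable (I : Ideal A) (M : Type u) [AddCommGroup M] [Module A M]

/-- The canonical map `I ⊗ M → M`. -/
noncomputable def mu : ↥I ⊗[A] M →ₗ[A] M :=
  TensorProduct.lift ((LinearMap.lsmul A M).comp I.subtype)

variable {I M}

@[simp] theorem mu_tmul (x : I) (p : M) : mu I M (x ⊗ₜ[A] p) = (x : A) • p := by
  simp [mu]

theorem mu_eq : mu I M = (TensorProduct.lid A M).toLinearMap ∘ₗ LinearMap.rTensor M I.subtype := by
  apply TensorProduct.ext'
  intro x p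
  simp

theorem mu_injective [Module.Flat A M] : Function.Injective (mu I M) := by
  rw [mu_eq]
  exact (TensorProduct.lid A M).injective.comp
    ((Module.Flat.iff_rTensor_injective'.mp inferInstance) I)

theorem range_mu : LinearMap.range (mu I M) = I • (⊤ : Submodule A M) := by
  apply le_antisymm
  · rintro _ ⟨z, rfl⟩
    induction z using TensorProduct.induction_on with
    | zero => simp
    | tmul x p =>
      rw [mu_tmul]
      exact Submodule.smul_mem_smul x.2 Submodule.mem_top
    | add a b ha hb =>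
      rw [map_add]
      exact Submodule.add_mem _ ha hb
  · rw [Submodule.smul_le]
    intro x hx p _
    exact ⟨(⟨x, hx⟩ : I) ⊗ₜ[A] p, by simp⟩

theorem mu_natural {N : Type u} [AddCommGroup N] [Module A N] (f : M →ₗ[A] N) (z : ↥I ⊗[A] M) :
    f (mu I M z) = mu I N (LinearMap.lTensor ↥I f z) := by
  induction z using TensorProduct.induction_on with
  | zero => simp
  | tmul x p => simp
  | add a b ha hb => simp only [map_add, ha, hb]

theorem mu_incl {I' : Ideal A} (h : I' ≤ I) (z : ↥I' ⊗[A] M) :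
    mu I M (LinearMap.rTensor M (Submodule.inclusion h) z) = mu I' M z := by
  induction z using TensorProduct.induction_on with
  | zero => simp
  | tmul x p => simp
  | add a b ha hb => simp only [map_add, ha, hb]

end Mu

section AR

variable [IsNoetherianRing A] (J : Ideal A)
  {P' P P'' : Type u} [AddCommGroup P'] [Module A P'] [AddCommGroup P] [Module A P]
  [AddCommGroup P''] [Module A P''] [Module.Finite A P]
  (d : P' →ₗ[A] P) (d' : P →ₗ[A] P'')

/-- Artin–Rees on cycles, submodule form. -/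
theorem ar_step (hJ : J • LinearMap.ker d' ≤ LinearMap.range d) :
    ∃ k : ℕ, ∀ m e : ℕ, m + k + 1 ≤ e → ∀ p : P, p ∈ (J ^ e • ⊤ : Submodule A P) → d' p = 0 →
      ∃ w ∈ (J ^ m • ⊤ : Submodule A P'), d w = p := by
  obtain ⟨k, hk⟩ := J.exists_pow_inf_eq_pow_smul (LinearMap.ker d')
  refine ⟨k, fun m e he p hp hdp => ?_⟩
  have hp' : p ∈ (J ^ (m + k + 1) • ⊤ : Submodule A P) :=
    Submodule.smul_mono_left (Ideal.pow_le_pow_right he) hp
  have h1 : p ∈ (J ^ (m + k + 1) • ⊤ ⊓ LinearMap.ker d' : Submodule A P) := ⟨hp', hdp⟩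
  rw [hk (m + k + 1) (by omega)] at h1
  have e1 : m + k + 1 - k = m + 1 := by omega
  rw [e1] at h1
  have h2 : p ∈ (J ^ (m + 1) • LinearMap.ker d' : Submodule A P) :=
    Submodule.smul_mono le_rfl inf_le_right h1
  rw [pow_succ, Submodule.mul_smul] at h2
  have h3 : p ∈ (J ^ m • LinearMap.range d : Submodule A P) :=
    Submodule.smul_mono le_rfl hJ h2
  rw [LinearMap.range_eq_map, ← Submodule.map_smul''] at h3
  obtain ⟨w, hw, rfl⟩ := h3
  exact ⟨w, hw, rfl⟩

/-- Artin–Rees on cycles, tensor form. -/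
theorem tensor_step [Module.Flat A P] (hJ : J • LinearMap.ker d' ≤ LinearMap.range d) :
    ∃ k : ℕ, ∀ (m e : ℕ) (he : m + k + 1 ≤ e) (z : ↥(J ^ e) ⊗[A] P),
      LinearMap.lTensor ↥(J ^ e) d' z = 0 →
      ∃ w : ↥(J ^ m) ⊗[A] P', LinearMap.lTensor ↥(J ^ m) d w =
        LinearMap.rTensor P (Submodule.inclusion
          (Ideal.pow_le_pow_right (show m ≤ e by omega))) z := by
  obtain ⟨k, hk⟩ := ar_step J d d' hJ
  refine ⟨k, fun m e he z hz => ?_⟩
  have h1 : mu (J ^ e) P z ∈ (J ^ e • ⊤ : Submodule A P) := by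
    rw [← range_mu]
    exact ⟨z, rfl⟩
  have h2 : d' (mu (J ^ e) P z) = 0 := by
    rw [mu_natural, hz, map_zero]
  obtain ⟨w, hw, hdw⟩ := hk m e he _ h1 h2
  rw [← range_mu] at hw
  obtain ⟨w', rfl⟩ := hw
  refine ⟨w', ?_⟩
  apply mu_injective (I := J ^ m) (M := P)
  rw [← mu_natural, hdw, mu_incl]

end AR

end Groth.Agent.Lib.ARDer
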