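import Mathlib.Algebra.Homology.DerivedCategory.FullyFaithful
import Mathlib.Algebra.Homology.DerivedCategory.TStructure
import Mathlib.CategoryTheory.Triangulated.TStructure.TruncLEGT

/-!
# Truncations in the derived category and dévissage (helper2)

* homology of the truncations `τ≤a X`, `τ>a X` for the canonical t-structure on `D(A)`;
* a morphism between objects concentrated in one degree vanishes iff it does on homology;
* dévissage: a triangulated, isomorphism-closed class of objects of `D(A)` containing `Y[0]`
  for all `Y` in a class `P` contains all bounded objects with cohomology in `P`;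
* the locus where a natural transformation of triangulated functors is an isomorphism is a
  triangulated subcategory.
-/

set_option autoImplicit false
open CategoryTheory Limits
universe w v u

namespace Groth.Agent.Lib.DerivedTrunc_helper2

open DerivedCategory Pretriangulated ZeroObject

section

variable {A : Type u} [Category.{v} A] [Abelian A] [HasDerivedCategory.{w} A]

variable (A) in
/-- The canonical t-structure. -/
noncomputable abbrev tt : CategoryTheory.Triangulated.TStructure (DerivedCategory A) :=
  DerivedCategory.TStructure.t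

/-- A morphism between objects concentrated in degree `a` vanishes if it does on `Hᵃ`. -/
lemma eq_zero_of_homology_map_eq_zero {X Y : DerivedCategory A} (a : ℤ) [X.IsGE a] [X.IsLE a]
    [Y.IsGE a] [Y.IsLE a] (f : X ⟶ Y) (hf : (homologyFunctor A a).map f = 0) : f = 0 := by
  obtain ⟨X', ⟨e⟩⟩ := exists_iso_singleFunctor_obj_of_isGE_of_isLE X a
  obtain ⟨Y', ⟨e'⟩⟩ := exists_iso_singleFunctor_obj_of_isGE_of_isLE Y a
  obtain ⟨φ, hφ⟩ := (singleFunctor A a).map_surjective (e.inv ≫ f ≫ e'.hom)
  have h1 : (singleFunctor A a ⋙ homologyFunctor A a).map φ = 0 := by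
    rw [Functor.comp_map, hφ, Functor.map_comp, Functor.map_comp, hf, zero_comp, comp_zero]
  have h2 : φ = 0 := by
    have := NatIso.naturality_1 (singleFunctorCompHomologyFunctorIso A a) φ
    rw [h1, zero_comp, comp_zero] at this
    exact this.symm
  rw [h2, Functor.map_zero] at hφ
  rw [← cancel_epi e.inv, ← cancel_mono e'.hom, Category.assoc, ← hφ, comp_zero, zero_comp]

variable (X : DerivedCategory A) (a : ℤ)

lemma isZero_homology_truncLE (i : ℤ) (hi : a < i) :
    IsZero ((homologyFunctor A i).obj (((tt A).truncLE a).obj X)) :=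
  isZero_of_isLE _ a i hi

lemma isZero_homology_truncGT (i : ℤ) (hi : i ≤ a) :
    IsZero ((homologyFunctor A i).obj (((tt A).truncGT a).obj X)) :=
  isZero_of_isGE _ (a + 1) i (by lia)

lemma mono_homology_map_truncLEι (i : ℤ) (hi : i ≤ a + 1) :
    Mono ((homologyFunctor A i).map (((tt A).truncLEι a).app X)) :=
  ((homologyFunctor A 0).homologySequence_mono_shift_map_mor₁_iff _
    ((tt A).triangleLEGT_distinguished a X) (i - 1) i (by lia)).2
    ((isZero_homology_truncGT X a (i - 1) (by lia)).eq_of_src _ _)

lemma epi_homology_map_truncLEι (i : ℤ) (hi : i ≤ a) :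
    Epi ((homologyFunctor A i).map (((tt A).truncLEι a).app X)) :=
  ((homologyFunctor A 0).homologySequence_epi_shift_map_mor₁_iff _
    ((tt A).triangleLEGT_distinguished a X) i).2
    ((isZero_homology_truncGT X a i hi).eq_of_tgt _ _)

lemma isIso_homology_map_truncLEι (i : ℤ) (hi : i ≤ a) :
    IsIso ((homologyFunctor A i).map (((tt A).truncLEι a).app X)) := by
  have := mono_homology_map_truncLEι X a i (by lia)
  have := epi_homology_map_truncLEι X a i hi
  exact isIso_of_mono_of_epi _

lemma epi_homology_map_truncGTπ (i : ℤ) (hi : a ≤ i) :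
    Epi ((homologyFunctor A i).map (((tt A).truncGTπ a).app X)) :=
  ((homologyFunctor A 0).homologySequence_epi_shift_map_mor₂_iff _
    ((tt A).triangleLEGT_distinguished a X) i (i + 1) rfl).2
    ((isZero_homology_truncLE X a (i + 1) (by lia)).eq_of_tgt _ _)

lemma mono_homology_map_truncGTπ (i : ℤ) (hi : a < i) :
    Mono ((homologyFunctor A i).map (((tt A).truncGTπ a).app X)) :=
  ((homologyFunctor A 0).homologySequence_mono_shift_map_mor₂_iff _
    ((tt A).triangleLEGT_distinguished a X) i).2
    ((isZero_homology_truncLE X a i hi).eq_of_src _ _)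

lemma isIso_homology_map_truncGTπ (i : ℤ) (hi : a < i) :
    IsIso ((homologyFunctor A i).map (((tt A).truncGTπ a).app X)) := by
  have := mono_homology_map_truncGTπ X a i hi
  have := epi_homology_map_truncGTπ X a i (by lia)
  exact isIso_of_mono_of_epi _

/-- If the third vertex of a distinguished triangle is `≥ i + 2`, the first map is an
isomorphism on `Hⁱ`. -/
lemma isIso_homology_map_mor₁_of_isGE (T : Triangle (DerivedCategory A))
    (hT : T ∈ distTriang (DerivedCategory A)) (i : ℤ) (h₃ : T.obj₃.IsGE (i + 2)) :
    IsIso ((homologyFunctor A i).map T.mor₁) := by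
  have h1 : Mono ((homologyFunctor A i).map T.mor₁) :=
    ((homologyFunctor A 0).homologySequence_mono_shift_map_mor₁_iff _ hT (i - 1) i (by lia)).2
      ((isZero_of_isGE T.obj₃ (i + 2) (i - 1) (by lia)).eq_of_src _ _)
  have h2 : Epi ((homologyFunctor A i).map T.mor₁) :=
    ((homologyFunctor A 0).homologySequence_epi_shift_map_mor₁_iff _ hT i).2
      ((isZero_of_isGE T.obj₃ (i + 2) i (by lia)).eq_of_tgt _ _)
  exact isIso_of_mono_of_epi _

/-- If the first vertex of a distinguished triangle is `≤ i - 2`, the second map is an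
isomorphism on `Hⁱ`. -/
lemma isIso_homology_map_mor₂_of_isLE (T : Triangle (DerivedCategory A))
    (hT : T ∈ distTriang (DerivedCategory A)) (i : ℤ) (h₁ : T.obj₁.IsLE (i - 2)) :
    IsIso ((homologyFunctor A i).map T.mor₂) := by
  have h1 : Mono ((homologyFunctor A i).map T.mor₂) :=
    ((homologyFunctor A 0).homologySequence_mono_shift_map_mor₂_iff _ hT i).2
      ((isZero_of_isLE T.obj₁ (i - 2) i (by lia)).eq_of_src _ _)
  have h2 : Epi ((homologyFunctor A i).map T.mor₂) :=
    ((homologyFunctor A 0).homologySequence_epi_shift_map_mor₂_iff _ hT i (i + 1) rfl).2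
      ((isZero_of_isLE T.obj₁ (i - 2) (i + 1) (by lia)).eq_of_tgt _ _)
  exact isIso_of_mono_of_epi _

omit [Abelian A] [HasDerivedCategory A] in
/-- All zero objects satisfy `P` as soon as one does. -/
lemma prop_of_isZero (P : ObjectProperty A) [P.IsClosedUnderIsomorphisms] {Z₀ : A}
    (hZ₀ : IsZero Z₀) (hP : P Z₀) {Z : A} (hZ : IsZero Z) : P Z :=
  P.prop_of_iso (hZ₀.iso hZ) hP

/-- Dévissage, case of objects concentrated in one degree. -/
lemma devissage_zero (P : ObjectProperty A) [P.IsClosedUnderIsomorphisms]
    (𝒮 : ObjectProperty (DerivedCategory A)) [𝒮.IsTriangulated] [𝒮.IsClosedUnderIsomorphisms]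
    (h𝒮 : ∀ Y : A, P Y → 𝒮 ((singleFunctor A 0).obj Y))
    (a : ℤ) (X : DerivedCategory A) [X.IsGE a] [X.IsLE a]
    (hP : P ((homologyFunctor A a).obj X)) : 𝒮 X := by
  obtain ⟨Y, ⟨e⟩⟩ := exists_iso_singleFunctor_obj_of_isGE_of_isLE X a
  have hY : P Y := P.prop_of_iso ((homologyFunctor A a).mapIso e ≪≫
    (singleFunctorCompHomologyFunctorIso A a).app Y) hP
  have h1 : 𝒮 ((shiftFunctor (DerivedCategory A) (-a)).obj ((singleFunctor A 0).obj Y)) :=
    𝒮.le_shift (-a) _ (h𝒮 Y hY)
  have h2 : 𝒮 ((singleFunctor A a).obj Y) :=
    𝒮.prop_of_iso (((singleFunctors A).shiftIso (-a) a 0 (by omega)).app Y) h1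
  exact 𝒮.prop_of_iso e.symm h2

/-- Dévissage: a triangulated isomorphism-closed class of objects of `D(A)` containing `Y[0]`
for `Y ∈ P` contains every object with bounded cohomology in `P`. -/
theorem devissage (P : ObjectProperty A) [P.IsClosedUnderIsomorphisms]
    (𝒮 : ObjectProperty (DerivedCategory A)) [𝒮.IsTriangulated] [𝒮.IsClosedUnderIsomorphisms]
    (h𝒮 : ∀ Y : A, P Y → 𝒮 ((singleFunctor A 0).obj Y)) (n : ℕ) :
    ∀ (a : ℤ) (X : DerivedCategory A)
      (_ : ∀ i : ℤ, i < a ∨ a + n < i → IsZero ((homologyFunctor A i).obj X))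
      (_ : ∀ i : ℤ, P ((homologyFunctor A i).obj X)), 𝒮 X := by
  induction n with
  | zero =>
    intro a X hX hP
    have : X.IsGE a := (isGE_iff X a).2 (fun i hi => hX i (Or.inl hi))
    have : X.IsLE a := (isLE_iff X a).2 (fun i hi => hX i (Or.inr (by simpa using hi)))
    exact devissage_zero P 𝒮 h𝒮 a X (hP a)
  | succ n ih =>
    intro a X hX hP
    have hP0 : ∀ {Z : A}, IsZero Z → P Z := fun hZ =>
      prop_of_isZero P (hX (a - 1) (Or.inl (by lia))) (hP (a - 1)) hZ
    have h1 : 𝒮 (((tt A).truncLE a).obj X) := by
      have : (((tt A).truncLE a).obj X).IsGE a := (isGE_iff _ a).2 (fun i hi => by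
        have := mono_homology_map_truncLEι X a i (by lia)
        exact IsZero.of_mono ((homologyFunctor A i).map (((tt A).truncLEι a).app X))
          (hX i (Or.inl hi)))
      have : (((tt A).truncLE a).obj X).IsLE a := by infer_instance
      apply devissage_zero P 𝒮 h𝒮 a
      have := isIso_homology_map_truncLEι X a a le_rfl
      exact P.prop_of_iso (asIso ((homologyFunctor A a).map (((tt A).truncLEι a).app X))).symm
        (hP a)
    have h3 : 𝒮 (((tt A).truncGT a).obj X) := by
      apply ih (a + 1)
      · rintro i (hi | hi)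
        · exact isZero_homology_truncGT X a i (by lia)
        · have := epi_homology_map_truncGTπ X a i (by lia)
          exact IsZero.of_epi ((homologyFunctor A i).map (((tt A).truncGTπ a).app X))
            (hX i (Or.inr (by push_cast; lia)))
      · intro i
        by_cases hi : i ≤ a
        · exact hP0 (isZero_homology_truncGT X a i hi)
        · have := isIso_homology_map_truncGTπ X a i (by lia)
          exact P.prop_of_iso (asIso ((homologyFunctor A i).map (((tt A).truncGTπ a).app X)))
            (hP i)
    exact 𝒮.ext_of_isTriangulatedClosed₂ _ ((tt A).triangleLEGT_distinguished a X) h1 h3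

end

section IsoLocus

variable {C D : Type*} [Category C] [Category D] [HasZeroObject C] [HasZeroObject D]
  [Preadditive C] [Preadditive D] [HasShift C ℤ] [HasShift D ℤ]
  [∀ n : ℤ, (shiftFunctor C n).Additive] [∀ n : ℤ, (shiftFunctor D n).Additive]
  [Pretriangulated C] [Pretriangulated D]
  {F G : C ⥤ D} [F.CommShift ℤ] [G.CommShift ℤ] [F.IsTriangulated] [G.IsTriangulated]
  (η : F ⟶ G) [NatTrans.CommShift η ℤ]

/-- The objects on which a natural transformation is an isomorphism. -/
def isoLocus : ObjectProperty C := fun X => IsIso (η.app X)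

instance : (isoLocus η).IsClosedUnderIsomorphisms where
  of_iso {X Y} e (hX : IsIso (η.app X)) := by
    show IsIso (η.app Y)
    have : η.app Y = F.map e.inv ≫ η.app X ≫ G.map e.hom := by
      rw [← Category.assoc, η.naturality, Category.assoc, ← G.map_comp, e.inv_hom_id,
        CategoryTheory.Functor.map_id, Category.comp_id]
    rw [this]
    infer_instance

set_option backward.isDefEq.respectTransparency.types false in
set_option backward.defeqAttrib.useBackward true in
/-- The morphism of triangles `F(T) ⟶ G(T)` induced by `η`. -/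
@[simps]
def mapTriangleHom (T : Triangle C) : F.mapTriangle.obj T ⟶ G.mapTriangle.obj T where
  hom₁ := η.app _
  hom₂ := η.app _
  hom₃ := η.app _
  comm₁ := by simp
  comm₂ := by simp
  comm₃ := by
    dsimp
    simp only [Category.assoc, NatTrans.shift_app_comm η (1 : ℤ) T.obj₁,
      NatTrans.naturality_assoc]

theorem isoLocus_isTriangulated : (isoLocus η).IsTriangulated where
  exists_zero := ⟨0, isZero_zero C,
    IsZero.isIso (F.map_isZero (isZero_zero C)) (G.map_isZero (isZero_zero C)) _⟩
  isStableUnderShiftBy n :=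
    { le_shift := fun X (hX : IsIso (η.app X)) => by
        show IsIso (η.app (X⟦n⟧))
        have h := NatTrans.shift_app_comm η n X
        have : η.app (X⟦n⟧) = (F.commShiftIso n).hom.app X ≫ (η.app X)⟦n⟧' ≫
            (G.commShiftIso n).inv.app X := by
          rw [← Category.assoc, h, Category.assoc, Iso.hom_inv_id_app]
          exact (Category.comp_id _).symm
        rw [this]
        infer_instance }
  ext₂' T hT (h₁ : IsIso (η.app T.obj₁)) (h₃ : IsIso (η.app T.obj₃)) := by
    apply ObjectProperty.le_isoClosure
    exact isIso₂_of_isIso₁₃ (mapTriangleHom η T) (F.map_distinguished _ hT)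
      (G.map_distinguished _ hT) h₁ h₃

end IsoLocus

end Groth.Agent.Lib.DerivedTrunc_helper2
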