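import Mathlib
import Groth.Agent.Lib.DerivedTrunc_helper2

/-!
# Composites of maps inducing zero on cohomology (helper6)

In the derived category of an abelian category, a composite of `n + 1` morphisms between objects
of amplitude `[a, a + n]`, each inducing zero on all cohomology objects, vanishes.
-/

set_option autoImplicit false
open CategoryTheory Limits
universe w v u

namespace Groth.Agent.Lib.CompZero_helper6

open DerivedCategory Pretriangulated ZeroObject Groth.Agent.Lib.DerivedTrunc_helper2

variable {C : Type u} [Category.{v} C] [Abelian C] [HasDerivedCategory.{w} C]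

/-- composite of a sequence of morphisms -/
noncomputable def compSeq (X : ℕ → DerivedCategory C) (f : ∀ i, X i ⟶ X (i + 1)) :
    ∀ k, X 0 ⟶ X k
  | 0 => 𝟙 _
  | k + 1 => compSeq X f k ≫ f k

lemma isGE_truncLE (X : DerivedCategory C) (a b : ℤ) [X.IsGE b] :
    (((tt C).truncLE a).obj X).IsGE b := by
  rw [isGE_iff]
  intro i hi
  by_cases h : i ≤ a
  · haveI := isIso_homology_map_truncLEι X a i h
    exact IsZero.of_iso (isZero_of_isGE X b i hi)
      (asIso ((homologyFunctor C i).map (((tt C).truncLEι a).app X)))
  · exact isZero_homology_truncLE X a i (by omega)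

lemma isLE_truncGT (X : DerivedCategory C) (a b : ℤ) [X.IsLE b] :
    (((tt C).truncGT a).obj X).IsLE b := by
  rw [isLE_iff]
  intro i hi
  by_cases h : a < i
  · haveI := isIso_homology_map_truncGTπ X a i h
    exact IsZero.of_iso (isZero_of_isLE X b i hi)
      (asIso ((homologyFunctor C i).map (((tt C).truncGTπ a).app X))).symm
  · exact isZero_homology_truncGT X a i (by omega)

lemma homology_map_truncGT_eq_zero {X Y : DerivedCategory C} (f : X ⟶ Y) (a : ℤ)
    (hf : ∀ q, (homologyFunctor C q).map f = 0) (q : ℤ) :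
    (homologyFunctor C q).map (((tt C).truncGT a).map f) = 0 := by
  by_cases h : a < q
  · haveI := epi_homology_map_truncGTπ X a q (by omega)
    have hnat := ((tt C).truncGTπ a).naturality f
    simp only [Functor.id_map] at hnat
    rw [← cancel_epi ((homologyFunctor C q).map (((tt C).truncGTπ a).app X)), comp_zero,
      ← Functor.map_comp, ← hnat, Functor.map_comp, hf q, zero_comp]
  · exact (isZero_homology_truncGT X a q (by omega)).eq_of_src _ _

lemma homology_map_truncLE_eq_zero {X Y : DerivedCategory C} (f : X ⟶ Y) (a : ℤ)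
    (hf : ∀ q, (homologyFunctor C q).map f = 0) (q : ℤ) :
    (homologyFunctor C q).map (((tt C).truncLE a).map f) = 0 := by
  by_cases h : q ≤ a
  · haveI := mono_homology_map_truncLEι Y a q (by omega)
    have hnat := ((tt C).truncLEι a).naturality f
    simp only [Functor.id_map] at hnat
    rw [← cancel_mono ((homologyFunctor C q).map (((tt C).truncLEι a).app Y)), zero_comp,
      ← Functor.map_comp, hnat, Functor.map_comp, hf q, comp_zero]
  · exact (isZero_homology_truncLE X a q (by omega)).eq_of_src _ _

lemma compSeq_truncGTπ (X : ℕ → DerivedCategory C) (f : ∀ i, X i ⟶ X (i + 1)) (a : ℤ) (k : ℕ) :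
    compSeq X f k ≫ ((tt C).truncGTπ a).app (X k) =
      ((tt C).truncGTπ a).app (X 0) ≫
        compSeq (fun i => ((tt C).truncGT a).obj (X i))
          (fun i => ((tt C).truncGT a).map (f i)) k := by
  induction k with
  | zero => simp [compSeq]
  | succ k ih =>
    simp only [compSeq, Category.assoc]
    have hnat := ((tt C).truncGTπ a).naturality (f k)
    simp only [Functor.id_map] at hnat
    rw [hnat, reassoc_of% ih]

theorem compSeq_eq_zero (n : ℕ) : ∀ (a : ℤ) (X : ℕ → DerivedCategory C)
    (f : ∀ i, X i ⟶ X (i + 1)),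
    (∀ i, i ≤ n + 1 → (X i).IsGE a) → (∀ i, i ≤ n + 1 → (X i).IsLE (a + n)) →
    (∀ i, i ≤ n → ∀ q, (homologyFunctor C q).map (f i) = 0) → compSeq X f (n + 1) = 0 := by
  induction n with
  | zero =>
    intro a X f hGE hLE hz
    haveI := hGE 0 (by omega)
    haveI := hGE 1 (by omega)
    haveI : (X 0).IsLE a := by simpa using hLE 0 (by omega)
    haveI : (X 1).IsLE a := by simpa using hLE 1 (by omega)
    show compSeq X f 0 ≫ f 0 = 0
    rw [eq_zero_of_homology_map_eq_zero a (f 0) (hz 0 le_rfl a), comp_zero]
  | succ n ih =>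
    intro a X f hGE hLE hz
    have h1 := ih (a + 1) (fun i => ((tt C).truncGT a).obj (X i))
      (fun i => ((tt C).truncGT a).map (f i))
      (fun i _ => (inferInstance : (((tt C).truncGT a).obj (X i)).IsGE (a + 1)))
      (fun i hi => by
        haveI : (X i).IsLE (a + 1 + n) := by
          have := hLE i (by omega)
          have e : a + ((n + 1 : ℕ) : ℤ) = a + 1 + n := by push_cast; ring
          rwa [e] at this
        exact isLE_truncGT (X i) a (a + 1 + n))
      (fun i hi q => homology_map_truncGT_eq_zero (f i) a (hz i (by omega)) q)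
    haveI := hGE (n + 1 + 1) (by omega)
    haveI := hGE (n + 1) (by omega)
    have h2 : ((tt C).truncLEι a).app (X (n + 1)) ≫ f (n + 1) = 0 := by
      have hnat := ((tt C).truncLEι a).naturality (f (n + 1))
      simp only [Functor.id_map] at hnat
      rw [← hnat]
      haveI := isGE_truncLE (X (n + 1)) a a
      haveI := isGE_truncLE (X (n + 1 + 1)) a a
      rw [eq_zero_of_homology_map_eq_zero a (((tt C).truncLE a).map (f (n + 1)))
        (homology_map_truncLE_eq_zero (f (n + 1)) a (hz (n + 1) le_rfl) a), zero_comp]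
    obtain ⟨g, hg⟩ := Triangle.yoneda_exact₂ _
      ((tt C).triangleLEGT_distinguished a (X (n + 1))) (f (n + 1)) h2
    show compSeq X f (n + 1) ≫ f (n + 1) = 0
    rw [hg]
    have h3 := compSeq_truncGTπ X f a (n + 1)
    change compSeq X f (n + 1) ≫ ((tt C).truncGTπ a).app (X (n + 1)) ≫ g = 0
    rw [reassoc_of% h3, h1, zero_comp, comp_zero]

/-- The functor version. -/
theorem map_eq_zero (a : ℤ) (n : ℕ) (K : ℕ ⥤ DerivedCategory C)
    (hGE : ∀ i : ℕ, i ≤ n + 1 → (K.obj i).IsGE a)
    (hLE : ∀ i : ℕ, i ≤ n + 1 → (K.obj i).IsLE (a + n))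
    (hzero : ∀ i : ℕ, i ≤ n → ∀ q : ℤ,
      (DerivedCategory.homologyFunctor C q).map (K.map (homOfLE (Nat.le_succ i))) = 0) :
    K.map (homOfLE (Nat.zero_le (n + 1))) = 0 := by
  have key : ∀ k, K.map (homOfLE (Nat.zero_le k)) =
      compSeq (fun i => K.obj i) (fun i => K.map (homOfLE (Nat.le_succ i))) k := by
    intro k
    induction k with
    | zero =>
      show _ = 𝟙 _
      rw [← K.map_id]
      exact congrArg K.map (Subsingleton.elim _ _)
    | succ k ih =>
      show _ = compSeq _ _ k ≫ K.map _
      rw [← ih, ← K.map_comp]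
      exact congrArg K.map (Subsingleton.elim _ _)
  rw [key]
  exact compSeq_eq_zero n a _ _ hGE hLE hzero

end Groth.Agent.Lib.CompZero_helper6
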