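import Mathlib
import Groth.Agent.Lib.ARDer1_helper5
import Groth.Agent.Lib.CompZero_helper6

/-!
# Artin–Rees in the derived category (helper5)
APPEND-ONLY once landed.

For a bounded complex `K` of finite projective modules over a Noetherian ring `A` whose cohomology
is killed by an ideal `J`, the maps `J^(n+m) ⊗ K → J^m ⊗ K` vanish in `D(A)` for `n ≫ 0`.
-/

set_option autoImplicit false
set_option linter.style.haveILetI false

universe w u

open TensorProduct CategoryTheory MonoidalCategory Limits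

namespace Groth.Agent.Lib.ARDer

variable {A : Type u} [CommRing A]

section SC

/-- If `x` kills the homology of a short complex of modules, `x • ker g ⊆ range f`. -/
theorem sc_smul_mem_range (S : ShortComplex (ModuleCat.{u} A)) (x : A)
    (hx : ∀ c : ↑S.homology, x • c = 0) (z : ↑S.X₂) (hz : S.g.hom z = 0) :
    x • z ∈ LinearMap.range S.f.hom := by
  let y' : LinearMap.ker S.g.hom := ⟨z, hz⟩
  have h1 := hx (S.moduleCatHomologyIso.inv ((LinearMap.range S.moduleCatToCycles).mkQ y'))
  have h2 := congrArg S.moduleCatHomologyIso.hom h1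
  rw [map_smul, map_zero, ModuleCat.hom_inv_apply] at h2
  have h3 : (LinearMap.range S.moduleCatToCycles).mkQ (x • y') = 0 := by
    rw [map_smul]
    exact h2
  rw [Submodule.mkQ_apply, Submodule.Quotient.mk_eq_zero] at h3
  obtain ⟨w, hw⟩ := h3
  exact ⟨w, congrArg Subtype.val hw⟩

/-- A morphism of short complexes of modules induces zero on homology as soon as it maps cycles
to boundaries. -/
theorem sc_homologyMap_eq_zero {S₁ S₂ : ShortComplex (ModuleCat.{u} A)} (ψ : S₁ ⟶ S₂)
    (h : ∀ z : ↑S₁.X₂, S₁.g.hom z = 0 → ∃ w : ↑S₂.X₁, S₂.f.hom w = ψ.τ₂.hom z) :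
    ShortComplex.homologyMap ψ = 0 := by
  rw [← cancel_epi S₁.homologyπ, comp_zero, ShortComplex.homologyπ_naturality]
  apply ModuleCat.hom_ext
  apply LinearMap.ext
  intro y
  have hy : S₁.g.hom (S₁.iCycles.hom y) = 0 := by
    have := S₁.iCycles_g
    exact congrArg (fun t => t.hom y) this
  obtain ⟨w, hw⟩ := h _ hy
  have h3 : (ShortComplex.cyclesMap ψ).hom y = S₂.toCycles.hom w := by
    apply (ModuleCat.mono_iff_injective S₂.iCycles).mp inferInstance
    have e1 : S₂.iCycles.hom ((ShortComplex.cyclesMap ψ).hom y) = ψ.τ₂.hom (S₁.iCycles.hom y) :=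
      congrArg (fun t => t.hom y) (ShortComplex.cyclesMap_i ψ)
    have e2 : S₂.iCycles.hom (S₂.toCycles.hom w) = S₂.f.hom w :=
      congrArg (fun t => t.hom w) S₂.toCycles_i
    exact e1.trans (hw.symm.trans e2.symm)
  show S₂.homologyπ.hom ((ShortComplex.cyclesMap ψ).hom y) = 0
  rw [h3]
  exact congrArg (fun t => t.hom w) S₂.toCycles_comp_homologyπ

end SC

section Cx

variable (K : CochainComplex (ModuleCat.{u} A) ℤ)

/-- `I ⊗ K`. -/
noncomputable abbrev tens (I : Ideal A) : CochainComplex (ModuleCat.{u} A) ℤ :=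
  (((curriedTensor (ModuleCat.{u} A)).obj (ModuleCat.of A ↥I)).mapHomologicalComplex
    (ComplexShape.up ℤ)).obj K

/-- `I' ⊗ K → I ⊗ K` for `I' ≤ I`. -/
noncomputable abbrev tensMap {I' I : Ideal A} (h : I' ≤ I) : tens K I' ⟶ tens K I :=
  (NatTrans.mapHomologicalComplex ((curriedTensor (ModuleCat.{u} A)).map
    (ModuleCat.ofHom (Submodule.inclusion h))) (ComplexShape.up ℤ)).app K

theorem tens_d_hom (I : Ideal A) (i j : ℤ) :
    ((tens K I).d i j).hom = LinearMap.lTensor ↥I (K.d i j).hom := rfl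

theorem tensMap_f_hom {I' I : Ideal A} (h : I' ≤ I) (q : ℤ) :
    ((tensMap K h).f q).hom = LinearMap.rTensor (K.X q) (Submodule.inclusion h) := rfl

theorem tensMap_id (I : Ideal A) : tensMap K (le_refl I) = 𝟙 _ := by
  ext q : 1
  apply ModuleCat.hom_ext
  rw [tensMap_f_hom]
  apply TensorProduct.ext'
  intro x p
  rfl

theorem tensMap_comp {I'' I' I : Ideal A} (h : I'' ≤ I') (h' : I' ≤ I) :
    tensMap K h ≫ tensMap K h' = tensMap K (h.trans h') := by
  ext q : 1
  apply ModuleCat.hom_ext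
  rw [HomologicalComplex.comp_f, ModuleCat.hom_comp, tensMap_f_hom, tensMap_f_hom, tensMap_f_hom]
  apply TensorProduct.ext'
  intro x p
  rfl

theorem tensMap_congr {I₁' I₁ I₂' I₂ : Ideal A} (h₁ : I₁' ≤ I₁) (h₂ : I₂' ≤ I₂)
    (e' : I₁' = I₂') (e : I₁ = I₂) [HasDerivedCategory.{w} (ModuleCat.{u} A)]
    (hz : DerivedCategory.Q.map (tensMap K h₁) = 0) :
    DerivedCategory.Q.map (tensMap K h₂) = 0 := by
  subst e' e
  exact hz

theorem isZero_tens_X (I : Ideal A) (q : ℤ) (hq : IsZero (K.X q)) : IsZero ((tens K I).X q) :=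
  Functor.map_isZero ((curriedTensor (ModuleCat.{u} A)).obj (ModuleCat.of A ↥I)) hq

/-- The cohomology-zero criterion for `tensMap`. -/
theorem homologyMap_tensMap_eq_zero {I' I : Ideal A} (h : I' ≤ I) (q : ℤ)
    (hc : ∀ z : ↥I' ⊗[A] K.X q,
      LinearMap.lTensor ↥I' (K.d q ((ComplexShape.up ℤ).next q)).hom z = 0 →
      ∃ w : ↥I ⊗[A] K.X ((ComplexShape.up ℤ).prev q),
        LinearMap.lTensor ↥I (K.d ((ComplexShape.up ℤ).prev q) q).hom w =
          LinearMap.rTensor (K.X q) (Submodule.inclusion h) z) :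
    HomologicalComplex.homologyMap (tensMap K h) q = 0 :=
  sc_homologyMap_eq_zero
    ((HomologicalComplex.shortComplexFunctor (ModuleCat.{u} A) (ComplexShape.up ℤ) q).map
      (tensMap K h)) hc

theorem smul_ker_le_range (J : Ideal A)
    (hJ : ∀ q : ℤ, ∀ x ∈ J, ∀ c : ↑(K.homology q), x • c = 0) (q : ℤ) :
    J • LinearMap.ker (K.d q ((ComplexShape.up ℤ).next q)).hom ≤
      LinearMap.range (K.d ((ComplexShape.up ℤ).prev q) q).hom := by
  rw [Submodule.smul_le]
  intro x hx z hz
  exact sc_smul_mem_range (K.sc q) x (hJ q x hx) z hz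

end Cx

section Main

theorem homologyFunctor_map_Q_map_eq_zero [HasDerivedCategory.{w} (ModuleCat.{u} A)]
    {L L' : CochainComplex (ModuleCat.{u} A) ℤ} (φ : L ⟶ L') (q : ℤ)
    (h : HomologicalComplex.homologyMap φ q = 0) :
    (DerivedCategory.homologyFunctor (ModuleCat.{u} A) q).map (DerivedCategory.Q.map φ) = 0 := by
  have h2 := (DerivedCategory.homologyFunctorFactors (ModuleCat.{u} A) q).hom.naturality φ
  have h3 : (HomologicalComplex.homologyFunctor (ModuleCat.{u} A) (ComplexShape.up ℤ) q).map φ =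
      0 := h
  rw [h3, Limits.comp_zero] at h2
  have h4 := congrArg
    (fun t => t ≫ (DerivedCategory.homologyFunctorFactors (ModuleCat.{u} A) q).inv.app L') h2
  simp only [Category.assoc, Iso.hom_inv_id_app, Category.comp_id, Limits.zero_comp,
    Functor.comp_map] at h4
  exact h4

variable [IsNoetherianRing A] (K : CochainComplex (ModuleCat.{u} A) ℤ) (a b : ℤ)
  (hK : ∀ q : ℤ, q < a ∨ b < q → IsZero (K.X q))
  [∀ q, Module.Finite A (K.X q)] [∀ q, Module.Projective A (K.X q)]
  (J : Ideal A) (hJ : ∀ q : ℤ, ∀ x ∈ J, ∀ c : ↑(K.homology q), x • c = 0)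

include hK hJ in
theorem exists_uniform_k :
    ∃ k : ℕ, ∀ (q : ℤ) (m e : ℕ) (he : m + k + 1 ≤ e) (z : ↥(J ^ e) ⊗[A] K.X q),
      LinearMap.lTensor ↥(J ^ e) (K.d q ((ComplexShape.up ℤ).next q)).hom z = 0 →
      ∃ w : ↥(J ^ m) ⊗[A] K.X ((ComplexShape.up ℤ).prev q),
        LinearMap.lTensor ↥(J ^ m) (K.d ((ComplexShape.up ℤ).prev q) q).hom w =
          LinearMap.rTensor (K.X q) (Submodule.inclusion
            (Ideal.pow_le_pow_right (show m ≤ e by omega))) z := by
  have h1 : ∀ q : ℤ, ∃ k : ℕ, ∀ (m e : ℕ) (he : m + k + 1 ≤ e) (z : ↥(J ^ e) ⊗[A] K.X q),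
      LinearMap.lTensor ↥(J ^ e) (K.d q ((ComplexShape.up ℤ).next q)).hom z = 0 →
      ∃ w : ↥(J ^ m) ⊗[A] K.X ((ComplexShape.up ℤ).prev q),
        LinearMap.lTensor ↥(J ^ m) (K.d ((ComplexShape.up ℤ).prev q) q).hom w =
          LinearMap.rTensor (K.X q) (Submodule.inclusion
            (Ideal.pow_le_pow_right (show m ≤ e by omega))) z :=
    fun q => tensor_step J (K.d ((ComplexShape.up ℤ).prev q) q).hom
      (K.d q ((ComplexShape.up ℤ).next q)).hom (smul_ker_le_range K J hJ q)
  choose kf hkf using h1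
  refine ⟨(Finset.Icc a b).sup kf, fun q m e he z hz => ?_⟩
  by_cases hq : q < a ∨ b < q
  · haveI : Subsingleton (↥(J ^ e) ⊗[A] K.X q) :=
      ModuleCat.subsingleton_of_isZero (isZero_tens_X K (J ^ e) q (hK q hq))
    refine ⟨0, ?_⟩
    rw [Subsingleton.elim z 0, map_zero, map_zero]
  · have hq' : q ∈ Finset.Icc a b := by
      rw [Finset.mem_Icc]
      omega
    have hle := Finset.le_sup (f := kf) hq'
    exact hkf q m e (by omega) z hz

include hK hJ in
theorem main [HasDerivedCategory.{w} (ModuleCat.{u} A)] :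
    ∃ n : ℕ, ∀ m : ℕ, 0 < m →
      DerivedCategory.Q.map (tensMap K
        (Ideal.pow_le_pow_right (Nat.le_add_left m n) : J ^ (n + m) ≤ J ^ m)) = 0 := by
  obtain ⟨k, hk⟩ := exists_uniform_k K a b hK J hJ
  refine ⟨((b - a).toNat + 1) * (k + 1), fun m _ => ?_⟩
  generalize hn' : (b - a).toNat = n'
  let e : ℕ → ℕ := fun i => (n' + 1 - i) * (k + 1) + m
  have he : ∀ i j : ℕ, i ≤ j → e j ≤ e i := fun i j hij =>
    Nat.add_le_add_right (Nat.mul_le_mul_right _ (Nat.sub_le_sub_left hij _)) _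
  let F : ℕ ⥤ DerivedCategory (ModuleCat.{u} A) :=
    { obj := fun i => DerivedCategory.Q.obj (tens K (J ^ e i))
      map := fun {i j} f => DerivedCategory.Q.map
        (tensMap K (Ideal.pow_le_pow_right (he i j (leOfHom f))))
      map_id := fun i => by
        rw [tensMap_id]
        exact DerivedCategory.Q.map_id _
      map_comp := fun {i j l} f g => by
        rw [← Functor.map_comp, tensMap_comp] }
  have hz := Groth.Agent.Lib.CompZero_helper6.map_eq_zero a n' F
    (fun i _ => by
      show (DerivedCategory.Q.obj (tens K (J ^ e i))).IsGE a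
      haveI : (tens K (J ^ e i)).IsStrictlyGE a := by
        rw [CochainComplex.isStrictlyGE_iff]
        intro q hq
        exact isZero_tens_X K _ q (hK q (Or.inl hq))
      infer_instance)
    (fun i _ => by
      show (DerivedCategory.Q.obj (tens K (J ^ e i))).IsLE (a + n')
      haveI : (tens K (J ^ e i)).IsStrictlyLE (a + n') := by
        rw [CochainComplex.isStrictlyLE_iff]
        intro q hq
        refine isZero_tens_X K _ q (hK q (Or.inr ?_))
        have := Int.self_le_toNat (b - a)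
        omega
      infer_instance)
    (fun i hi q => by
      show (DerivedCategory.homologyFunctor (ModuleCat.{u} A) q).map
        (DerivedCategory.Q.map (tensMap K (Ideal.pow_le_pow_right (he i (i + 1) (Nat.le_succ i))))) = 0
      apply homologyFunctor_map_Q_map_eq_zero
      apply homologyMap_tensMap_eq_zero
      intro z hz
      have he' : e (i + 1) + k + 1 ≤ e i := by
        show (n' + 1 - (i + 1)) * (k + 1) + m + k + 1 ≤ (n' + 1 - i) * (k + 1) + m
        have e1 : n' + 1 - i = (n' + 1 - (i + 1)) + 1 := by omega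
        rw [e1, Nat.succ_mul]
        omega
      exact hk q (e (i + 1)) (e i) he' z hz)
  have hz' : DerivedCategory.Q.map (tensMap K
      (Ideal.pow_le_pow_right (he 0 (n' + 1) (Nat.zero_le _)))) = 0 := hz
  refine tensMap_congr K _ _ ?_ ?_ hz'
  · show J ^ ((n' + 1 - 0) * (k + 1) + m) = J ^ ((n' + 1) * (k + 1) + m)
    rw [Nat.sub_zero]
  · show J ^ ((n' + 1 - (n' + 1)) * (k + 1) + m) = J ^ m
    rw [Nat.sub_self, Nat.zero_mul, Nat.zero_add]

end Main

end Groth.Agent.Lib.ARDer
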