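import Mathlib

set_option autoImplicit false
universe u
open TensorProduct

namespace Groth.Agent.Lib.ARFlatH7

variable {A B : Type u} [CommRing A] [CommRing B] [Algebra A B]

theorem map_le_annihilator (𝔞 : Ideal A) (N : Type u) [AddCommGroup N] [Module A N] :
    𝔞.map (algebraMap A B) ≤
      Module.annihilator B (B ⊗[A] (N ⧸ (𝔞 • (⊤ : Submodule A N)))) := by
  rw [Ideal.map_le_iff_le_comap]
  intro a ha
  rw [Ideal.mem_comap, Module.mem_annihilator]
  intro y
  induction y using TensorProduct.induction_on with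
  | zero => rw [smul_zero]
  | tmul b' q =>
    obtain ⟨q, rfl⟩ := Submodule.mkQ_surjective _ q
    have h0 : a • (𝔞 • (⊤ : Submodule A N)).mkQ q = 0 := by
      rw [← map_smul, Submodule.mkQ_apply, Submodule.Quotient.mk_eq_zero]
      exact Submodule.smul_mem_smul ha trivial
    rw [TensorProduct.smul_tmul', smul_eq_mul, ← Algebra.smul_def, TensorProduct.smul_tmul, h0,
      TensorProduct.tmul_zero]
  | add y₁ y₂ h₁ h₂ => rw [smul_add, h₁, h₂, add_zero]

theorem lTensor_mkQ_eq_zero (𝔞 : Ideal A) (N : Type u) [AddCommGroup N] [Module A N]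
    (x : B ⊗[A] N)
    (hx : x ∈ (𝔞.map (algebraMap A B)) • (⊤ : Submodule B (B ⊗[A] N))) :
    ((𝔞 • (⊤ : Submodule A N)).mkQ.lTensor B) x = 0 := by
  have key : ((𝔞 • (⊤ : Submodule A N)).mkQ.baseChange B) x = 0 := by
    refine Submodule.smul_induction_on hx (fun b hb x' _ => ?_) (fun x₁ x₂ h₁ h₂ => ?_)
    · rw [map_smul]
      exact Module.mem_annihilator.mp (map_le_annihilator 𝔞 N hb) _
    · rw [map_add, h₁, h₂, add_zero]
  exact key

theorem tmul_mem (𝔞 : Ideal A) (M : Type u) [AddCommGroup M] [Module A M] (m : M)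
    (hm : m ∈ 𝔞 • (⊤ : Submodule A M)) (b : B) :
    b ⊗ₜ[A] m ∈ (𝔞.map (algebraMap A B)) • (⊤ : Submodule B (B ⊗[A] M)) := by
  refine Submodule.smul_induction_on hm (fun a ha m' _ => ?_) (fun m₁ m₂ h₁ h₂ => ?_)
  · have : b ⊗ₜ[A] (a • m') = algebraMap A B a • (b ⊗ₜ[A] m') := by
      rw [TensorProduct.smul_tmul', smul_eq_mul, ← Algebra.smul_def, TensorProduct.smul_tmul]
    rw [this]
    exact Submodule.smul_mem_smul (Ideal.mem_map_of_mem _ ha) trivial
  · rw [TensorProduct.tmul_add]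
    exact add_mem h₁ h₂

theorem main [Module.Flat A B] (I : Ideal A) {M N : Type u} [AddCommGroup M] [Module A M]
    [AddCommGroup N] [Module A N] (f : M →ₗ[A] N) (c : ℕ)
    (hf : ∀ n : ℕ, c ≤ n → LinearMap.range f ⊓ (I ^ n • (⊤ : Submodule A N)) ≤
      Submodule.map f (I ^ (n - c) • (⊤ : Submodule A M))) :
    ∀ n : ℕ, c ≤ n →
      LinearMap.range (f.baseChange B) ⊓
          ((I.map (algebraMap A B)) ^ n • (⊤ : Submodule B (B ⊗[A] N))) ≤
        Submodule.map (f.baseChange B)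
          ((I.map (algebraMap A B)) ^ (n - c) • (⊤ : Submodule B (B ⊗[A] M))) := by
  intro n hn x hx
  obtain ⟨⟨y, rfl⟩, hx2⟩ := hx
  rw [← Ideal.map_pow] at hx2
  rw [← Ideal.map_pow]
  let h : M →ₗ[A] (N ⧸ (I ^ n • (⊤ : Submodule A N))) :=
    (I ^ n • (⊤ : Submodule A N)).mkQ.comp f
  have hy : (h.lTensor B) y = 0 := by
    have := lTensor_mkQ_eq_zero (B := B) (I ^ n) N _ hx2
    rw [LinearMap.lTensor_comp_apply]
    exact this
  have hex := Module.Flat.lTensor_exact B (LinearMap.exact_subtype_ker_map h)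
  obtain ⟨z, rfl⟩ := (hex y).mp hy
  clear hy hx2
  induction z using TensorProduct.induction_on with
  | zero => simp
  | tmul b m =>
    have hm : h m.1 = 0 := m.2
    have hm2 : f m.1 ∈ I ^ n • (⊤ : Submodule A N) := by
      have : (I ^ n • (⊤ : Submodule A N)).mkQ (f m.1) = 0 := hm
      rwa [Submodule.mkQ_apply, Submodule.Quotient.mk_eq_zero] at this
    obtain ⟨m', hm', hfm'⟩ := hf n hn ⟨⟨m.1, rfl⟩, hm2⟩
    refine ⟨b ⊗ₜ[A] m', tmul_mem (I ^ (n - c)) M m' hm' b, ?_⟩
    rw [LinearMap.lTensor_tmul, LinearMap.baseChange_tmul, LinearMap.baseChange_tmul,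
      Submodule.subtype_apply, hfm']
  | add z₁ z₂ h₁ h₂ =>
    rw [map_add, map_add]
    exact add_mem h₁ h₂

end Groth.Agent.Lib.ARFlatH7
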