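import Mathlib
import Groth.Prelude

set_option autoImplicit false
set_option linter.style.haveILetI false
set_option linter.unusedVariables false

universe u

open CategoryTheory CategoryTheory.Limits AlgebraicGeometry TopologicalSpace Opposite Topology

namespace Groth.Agent.Lib.AffStratH4

/-- On a separated scheme the inclusion of an affine open is an affine morphism. -/
theorem isAffineHom_ι_of_sep (X : Scheme.{u}) [X.IsSeparated] (U : X.Opens)
    (hU : IsAffineOpen U) : IsAffineHom U.ι := by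
  haveI : IsAffine U.toScheme := hU
  haveI : IsAffineHom (U.ι ≫ terminal.from X) := isAffineHom_of_isAffine _
  exact IsAffineHom.of_comp U.ι (terminal.from X)

/-- A locally closed piece `V ∩ (W)ᶜ` with `V` an affine open with affine inclusion, as the image of
an affine immersion from an affine scheme. -/
theorem exists_affine_immersion (X : Scheme.{u}) (V W : X.Opens) (hV : IsAffineOpen V)
    (hVι : IsAffineHom V.ι) :
    ∃ (Z : Scheme.{u}) (ι : Z ⟶ X),
      IsImmersion ι ∧ IsAffine Z ∧ IsAffineHom ι ∧ Set.range ι = (V : Set X) ∩ ((W : Set X))ᶜ := by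
  obtain ⟨I, hI⟩ : ∃ I : X.IdealSheafData, Set.range I.subschemeι = ((W : Set X))ᶜ :=
    ⟨Scheme.IdealSheafData.vanishingIdeal ⟨((W : Set X))ᶜ, W.isOpen.isClosed_compl⟩, by
      rw [Scheme.IdealSheafData.range_subschemeι,
        Scheme.IdealSheafData.coe_support_vanishingIdeal]; rfl⟩
  refine ⟨(I.subschemeι ⁻¹ᵁ V).toScheme, (I.subschemeι ⁻¹ᵁ V).ι ≫ I.subschemeι,
    inferInstance, ?_, ?_, ?_⟩
  · haveI : IsAffine V.toScheme := hV
    exact isAffine_of_isAffineHom (I.subschemeι ∣_ V)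
  · rw [← morphismRestrict_ι]
    haveI := hVι
    infer_instance
  · ext x
    constructor
    · rintro ⟨z, rfl⟩
      refine ⟨z.2, ?_⟩
      have : I.subschemeι z.1 ∈ Set.range I.subschemeι := ⟨z.1, rfl⟩
      rw [hI] at this
      exact this
    · rintro ⟨hxV, hxW⟩
      have : x ∈ Set.range I.subschemeι := by rw [hI]; exact hxW
      obtain ⟨y, rfl⟩ := this
      exact ⟨⟨y, hxV⟩, rfl⟩

theorem main1438 (X : Scheme.{u}) [X.IsSeparated] (n : ℕ) (U : Fin (n + 1) → X.Opens)
    (hU : ∀ i, IsAffineOpen (U i)) (hcov : ⨆ i, U i = ⊤) :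
    MoreMor.HasAffineStratification X n := by
  classical
  have hne : ∀ x : X, (Finset.univ.filter (fun i => x ∈ U i)).Nonempty := by
    intro x
    have : x ∈ (⨆ i, U i : X.Opens) := by rw [hcov]; trivial
    obtain ⟨i, hi⟩ := Opens.mem_iSup.mp this
    exact ⟨i, Finset.mem_filter.mpr ⟨Finset.mem_univ _, hi⟩⟩
  obtain ⟨s, hs_mem, hs_le⟩ : ∃ s : X → Fin (n + 1),
      (∀ x, x ∈ U (s x)) ∧ (∀ x i, x ∈ U i → i ≤ s x) :=
    ⟨fun x => (Finset.univ.filter (fun i => x ∈ U i)).max' (hne x),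
      fun x => (Finset.mem_filter.mp (Finset.max'_mem _ (hne x))).2,
      fun x i hi => Finset.le_max' _ i (Finset.mem_filter.mpr ⟨Finset.mem_univ _, hi⟩)⟩
  obtain ⟨W, hW⟩ : ∃ W : Fin (n + 1) → X.Opens, ∀ i x, x ∈ W i ↔ i < s x := by
    refine ⟨fun i => ⨆ j : {j // i < j}, U j.1, fun i x => ⟨fun h => ?_, fun h => ?_⟩⟩
    · obtain ⟨⟨j, hj⟩, hx⟩ := Opens.mem_iSup.mp h
      exact lt_of_lt_of_le hj (hs_le x j hx)
    · exact Opens.mem_iSup.mpr ⟨⟨s x, h⟩, hs_mem x⟩
  refine ⟨s, fun i => ?_, fun i => ?_⟩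
  · have : {x : X | s x ≤ i} = ((W i : Set X))ᶜ := by
      ext x
      simp only [Set.mem_setOf_eq, Set.mem_compl_iff, SetLike.mem_coe, hW, not_lt]
    rw [this]
    exact (W i).isOpen.isClosed_compl
  · obtain ⟨Z, ι, h1, h2, h3, h4⟩ := exists_affine_immersion X (U i) (W i) (hU i)
      (isAffineHom_ι_of_sep X (U i) (hU i))
    refine ⟨Z, ι, h1, h2, h3, ?_⟩
    rw [h4]
    ext x
    simp only [Set.mem_inter_iff, SetLike.mem_coe, Set.mem_compl_iff, hW, not_lt,
      Set.mem_setOf_eq]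
    constructor
    · rintro ⟨h1, h2⟩
      exact le_antisymm h2 (hs_le x i h1)
    · rintro rfl
      exact ⟨hs_mem x, le_refl _⟩

end Groth.Agent.Lib.AffStratH4
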