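import Mathlib
import Groth.Prelude
import Groth.Agent.Lib.AffStrat_helper4

set_option autoImplicit false
set_option linter.style.haveILetI false
set_option linter.unusedVariables false

universe u v

open CategoryTheory CategoryTheory.Limits AlgebraicGeometry TopologicalSpace Opposite Topology

namespace Groth.Agent.Lib.AffStratH4

/-- `S` is the image of an affine immersion from an affine scheme. -/
def Good (X : Scheme.{u}) (S : Set X) : Prop :=
  ∃ (Z : Scheme.{u}) (ι : Z ⟶ X), IsImmersion ι ∧ IsAffine Z ∧ IsAffineHom ι ∧ Set.range ι = S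

/-- A stratification indexed by a finite partial order (closed sublevel sets, good level sets) yields
an affine stratification indexed by `Fin (n+1)` through a linear extension. -/
theorem hasAffineStratification_of_partialOrder (X : Scheme.{u}) [Nonempty X] {I : Type v}
    [Fintype I] [PartialOrder I] (t : X → I) (hcl : ∀ i, IsClosed {x : X | t x ≤ i})
    (hgood : ∀ i, Good X {x : X | t x = i}) : ∃ n, MoreMor.HasAffineStratification X n := by
  classical
  haveI : Nonempty I := ⟨t (Classical.arbitrary X)⟩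
  haveI : Fintype (LinearExtension I) := inferInstanceAs (Fintype I)
  haveI : Nonempty (LinearExtension I) := inferInstanceAs (Nonempty I)
  have hcard : Fintype.card (LinearExtension I) = (Fintype.card (LinearExtension I) - 1) + 1 := by
    have : 0 < Fintype.card (LinearExtension I) := Fintype.card_pos
    omega
  obtain ⟨e⟩ : Nonempty (Fin ((Fintype.card (LinearExtension I) - 1) + 1) ≃o LinearExtension I) :=
    ⟨Fintype.orderIsoFinOfCardEq _ hcard⟩
  refine ⟨Fintype.card (LinearExtension I) - 1, fun x => e.symm (toLinearExtension (t x)),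
    fun j => ?_, fun j => ?_⟩
  · have : {x : X | e.symm (toLinearExtension (t x)) ≤ j} =
        ⋃ i ∈ {i : I | e.symm (toLinearExtension i) ≤ j}, {x : X | t x ≤ i} := by
      ext x
      simp only [Set.mem_setOf_eq, Set.mem_iUnion, exists_prop]
      constructor
      · intro h
        exact ⟨t x, h, le_refl _⟩
      · rintro ⟨i, hi, hxi⟩
        exact le_trans (e.symm.monotone (toLinearExtension.monotone hxi)) hi
    rw [this]
    exact (Set.toFinite _).isClosed_biUnion (fun i _ => hcl i)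
  · obtain ⟨i, hi⟩ : ∃ i : I, toLinearExtension i = e j := ⟨e j, rfl⟩
    have : {x : X | e.symm (toLinearExtension (t x)) = j} = {x : X | t x = i} := by
      ext x
      simp only [Set.mem_setOf_eq]
      constructor
      · intro h
        have h2 : toLinearExtension (t x) = toLinearExtension i := by
          rw [hi, ← h, e.apply_symm_apply]
        exact h2
      · intro h
        rw [h, hi, e.symm_apply_apply]
    rw [this]
    exact hgood i

/-- A locally closed piece `V ∩ Wᶜ` (with `V` affine open) which is, for every member of an affine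
open cover, either contained in it or disjoint from it, is good. -/
theorem good_of_cover (X : Scheme.{u}) {κ : Type v} (U : κ → X.Opens)
    (hU : ∀ k, IsAffineOpen (U k)) (hcov : ∀ x : X, ∃ k, x ∈ U k) (V W : X.Opens)
    (hV : IsAffineOpen V)
    (h : ∀ l, ((V : Set X) ∩ ((W : Set X))ᶜ ⊆ (U l : Set X)) ∨
      Disjoint ((V : Set X) ∩ ((W : Set X))ᶜ) (U l : Set X)) :
    Good X ((V : Set X) ∩ ((W : Set X))ᶜ) := by
  obtain ⟨I, hI⟩ : ∃ I : X.IdealSheafData, Set.range I.subschemeι = ((W : Set X))ᶜ :=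
    ⟨Scheme.IdealSheafData.vanishingIdeal ⟨((W : Set X))ᶜ, W.isOpen.isClosed_compl⟩, by
      rw [Scheme.IdealSheafData.range_subschemeι,
        Scheme.IdealSheafData.coe_support_vanishingIdeal]; rfl⟩
  have hr : Set.range ((I.subschemeι ⁻¹ᵁ V).ι ≫ I.subschemeι) =
      (V : Set X) ∩ ((W : Set X))ᶜ := by
    ext x
    constructor
    · rintro ⟨z, rfl⟩
      refine ⟨z.2, ?_⟩
      have : I.subschemeι z.1 ∈ Set.range I.subschemeι := ⟨z.1, rfl⟩
      rw [hI] at this
      exact this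
    · rintro ⟨hxV, hxW⟩
      have : x ∈ Set.range I.subschemeι := by rw [hI]; exact hxW
      obtain ⟨y, rfl⟩ := this
      exact ⟨⟨y, hxV⟩, rfl⟩
  have hZ : IsAffine (I.subschemeι ⁻¹ᵁ V).toScheme := by
    haveI : IsAffine V.toScheme := hV
    exact isAffine_of_isAffineHom (I.subschemeι ∣_ V)
  refine ⟨(I.subschemeι ⁻¹ᵁ V).toScheme, (I.subschemeι ⁻¹ᵁ V).ι ≫ I.subschemeι,
    inferInstance, hZ, ?_, hr⟩
  refine isAffineHom_of_forall_exists_isAffineOpen _ (fun x => ?_)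
  obtain ⟨l, hl⟩ := hcov x
  refine ⟨U l, hl, hU l, ?_⟩
  rcases h l with h1 | h2
  · have : ((I.subschemeι ⁻¹ᵁ V).ι ≫ I.subschemeι) ⁻¹ᵁ (U l) = ⊤ :=
      eq_top_iff.mpr fun z _ =>
        show ((I.subschemeι ⁻¹ᵁ V).ι ≫ I.subschemeι) z ∈ (U l : Set X) from
          h1 (by rw [← hr]; exact ⟨z, rfl⟩)
    rw [this]
    haveI := hZ
    exact isAffineOpen_top _
  · have : ((I.subschemeι ⁻¹ᵁ V).ι ≫ I.subschemeι) ⁻¹ᵁ (U l) = ⊥ :=
      eq_bot_iff.mpr fun z hz =>
        (Set.disjoint_left.mp h2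
          (show ((I.subschemeι ⁻¹ᵁ V).ι ≫ I.subschemeι) z ∈ (V : Set X) ∩ ((W : Set X))ᶜ by
            rw [← hr]; exact ⟨z, rfl⟩) hz).elim
    rw [this]
    exact isAffineOpen_bot _

/-- A compact open subset of an affine open is a finite union of basic opens. -/
theorem exists_finset_basicOpen (X : Scheme.{u}) (U V : X.Opens) (hU : IsAffineOpen U)
    (hVU : V ≤ U) (hV : IsCompact (V : Set X)) :
    ∃ t : Finset Γ(X, U), ∀ x : X, x ∈ V ↔ ∃ g ∈ t, x ∈ X.basicOpen g := by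
  classical
  choose f hf using fun x : V => hU.exists_basicOpen_le x (hVU x.2)
  obtain ⟨t, ht⟩ := hV.elim_finite_subcover (fun x : V => (X.basicOpen (f x) : Set X))
    (fun x => (X.basicOpen (f x)).isOpen)
    (fun x hx => Set.mem_iUnion.mpr ⟨⟨x, hx⟩, (hf ⟨x, hx⟩).2⟩)
  refine ⟨t.image f, fun x => ⟨fun hx => ?_, ?_⟩⟩
  · obtain ⟨i, hi, hxi⟩ := Set.mem_iUnion₂.mp (ht hx)
    exact ⟨f i, Finset.mem_image_of_mem f hi, hxi⟩
  · rintro ⟨g, hg, hxg⟩
    obtain ⟨i, hi, rfl⟩ := Finset.mem_image.mp hg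
    exact (hf i).1 hxg

theorem mem_basicOpen_prod (X : Scheme.{u}) (U : X.Opens) {α : Type v} (s : Finset α)
    (f : α → Γ(X, U)) (x : X) :
    x ∈ X.basicOpen (∏ p ∈ s, f p) ↔ x ∈ U ∧ ∀ p ∈ s, x ∈ X.basicOpen (f p) := by
  classical
  induction s using Finset.induction_on with
  | empty =>
    rw [Finset.prod_empty, X.basicOpen_of_isUnit isUnit_one]
    simp
  | insert a s ha ih =>
    rw [Finset.prod_insert ha, X.basicOpen_mul, Opens.mem_inf, ih]
    constructor
    · rintro ⟨h1, h2, h3⟩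
      refine ⟨h2, fun p hp => ?_⟩
      rcases Finset.mem_insert.mp hp with rfl | hp
      · exact h1
      · exact h3 p hp
    · rintro ⟨h1, h2⟩
      exact ⟨h2 a (Finset.mem_insert_self a s), h1,
        fun p hp => h2 p (Finset.mem_insert_of_mem hp)⟩

section Main

variable (X : Scheme.{u}) {κ : Type} [Fintype κ] [LinearOrder κ] (U : κ → X.Opens)
  (G : ∀ k, Finset Γ(X, U k)) (kx : X → κ)

open scoped Classical in
/-- The signature of a point: the largest chart containing it and the set of chosen functions on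
that chart not vanishing at it. -/
noncomputable def sig (x : X) : Σₗ k : κ, Finset ↥(G k) :=
  toLex ⟨kx x, Finset.univ.filter (fun p : ↥(G (kx x)) => x ∈ X.basicOpen p.1)⟩

/-- The open set whose complement is the sublevel set of `⟨k, J⟩`. -/
def Wopen (k : κ) (J : Finset ↥(G k)) : X.Opens :=
  (⨆ l : {l : κ // k < l}, U l.1) ⊔ (⨆ p : {p : ↥(G k) // p ∉ J}, X.basicOpen p.1.1)

theorem mem_Wopen (k : κ) (J : Finset ↥(G k)) (x : X) :
    x ∈ Wopen X U G k J ↔
      (∃ l, k < l ∧ x ∈ U l) ∨ (∃ p : ↥(G k), p ∉ J ∧ x ∈ X.basicOpen p.1) := by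
  unfold Wopen
  rw [Opens.mem_sup, Opens.mem_iSup, Opens.mem_iSup]
  constructor
  · rintro (⟨⟨l, hl⟩, hx⟩ | ⟨⟨p, hp⟩, hx⟩)
    · exact Or.inl ⟨l, hl, hx⟩
    · exact Or.inr ⟨p, hp, hx⟩
  · rintro (⟨l, hl, hx⟩ | ⟨p, hp, hx⟩)
    · exact Or.inl ⟨⟨l, hl⟩, hx⟩
    · exact Or.inr ⟨⟨p, hp⟩, hx⟩

theorem sig_eq_iff (k : κ) (J : Finset ↥(G k)) (x : X) :
    sig X U G kx x = toLex ⟨k, J⟩ ↔
      kx x = k ∧ ∀ p : ↥(G k), p ∈ J ↔ x ∈ X.basicOpen p.1 := by
  classical
  constructor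
  · intro h
    have h' : (⟨kx x, Finset.univ.filter (fun p : ↥(G (kx x)) => x ∈ X.basicOpen p.1)⟩ :
        Σ k : κ, Finset ↥(G k)) = ⟨k, J⟩ := h
    obtain ⟨h1, h2⟩ := Sigma.mk.inj_iff.mp h'
    subst h1
    have h3 := eq_of_heq h2
    subst h3
    refine ⟨rfl, fun p => ?_⟩
    rw [Finset.mem_filter]
    simp
  · rintro ⟨rfl, h2⟩
    have : J = Finset.univ.filter (fun p : ↥(G (kx x)) => x ∈ X.basicOpen p.1) := by
      ext p
      rw [Finset.mem_filter, h2 p]
      simp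
    subst this
    rfl

theorem sublevel_eq (hk_mem : ∀ x, x ∈ U (kx x)) (hk_le : ∀ x l, x ∈ U l → l ≤ kx x)
    (k : κ) (J : Finset ↥(G k)) :
    {x : X | sig X U G kx x ≤ toLex ⟨k, J⟩} = ((Wopen X U G k J : X.Opens) : Set X)ᶜ := by
  classical
  ext x
  simp only [Set.mem_setOf_eq, Set.mem_compl_iff, SetLike.mem_coe, mem_Wopen]
  constructor
  · intro h
    unfold sig at h
    rcases h with ⟨_, _, hlt⟩ | ⟨_, _, hle⟩
    · rintro (⟨l, hl, hx⟩ | ⟨p, hp, hx⟩)
      · exact absurd (hk_le x l hx) (not_le.mpr (lt_trans hlt hl))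
      · exact absurd (hk_le x k (X.basicOpen_le p.1 hx)) (not_le.mpr hlt)
    · rintro (⟨l, hl, hx⟩ | ⟨p, hp, hx⟩)
      · exact absurd (hk_le x l hx) (not_le.mpr hl)
      · exact hp (Finset.le_iff_subset.mp hle (Finset.mem_filter.mpr ⟨Finset.mem_univ _, hx⟩))
  · intro h
    have h1 : kx x ≤ k := by
      by_contra hc
      exact h (Or.inl ⟨kx x, not_le.mp hc, hk_mem x⟩)
    rcases lt_or_eq_of_le h1 with hlt | heq
    · exact Sigma.Lex.left _ _ hlt
    · subst heq
      refine Sigma.Lex.right _ _ (Finset.le_iff_subset.mpr fun p hp => ?_)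
      by_contra hpJ
      exact h (Or.inr ⟨p, hpJ, (Finset.mem_filter.mp hp).2⟩)

theorem level_eq (hk_mem : ∀ x, x ∈ U (kx x)) (hk_le : ∀ x l, x ∈ U l → l ≤ kx x)
    (k : κ) (J : Finset ↥(G k)) :
    {x : X | sig X U G kx x = toLex ⟨k, J⟩} =
      ((X.basicOpen (∏ p ∈ J, p.1) : X.Opens) : Set X) ∩
        ((Wopen X U G k J : X.Opens) : Set X)ᶜ := by
  classical
  ext x
  simp only [Set.mem_setOf_eq, Set.mem_inter_iff, Set.mem_compl_iff, SetLike.mem_coe, mem_Wopen,
    mem_basicOpen_prod, sig_eq_iff]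
  constructor
  · rintro ⟨rfl, h2⟩
    refine ⟨⟨hk_mem x, fun p hp => (h2 p).mp hp⟩, ?_⟩
    rintro (⟨l, hl, hx⟩ | ⟨p, hp, hx⟩)
    · exact absurd (hk_le x l hx) (not_le.mpr hl)
    · exact hp ((h2 p).mpr hx)
  · rintro ⟨⟨hxU, hJ⟩, hW⟩
    refine ⟨le_antisymm ?_ (hk_le x k hxU), fun p => ⟨hJ p, fun hx => ?_⟩⟩
    · by_contra hc
      exact hW (Or.inl ⟨kx x, not_le.mp hc, hk_mem x⟩)
    · by_contra hp
      exact hW (Or.inr ⟨p, hp, hx⟩)

theorem sub_or_disjoint
    (hG : ∀ k l x, x ∈ U k → x ∈ U l → ∃ g ∈ G k, x ∈ X.basicOpen g ∧ X.basicOpen g ≤ U l)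
    (k : κ) (J : Finset ↥(G k)) (l : κ) :
    (((X.basicOpen (∏ p ∈ J, p.1) : X.Opens) : Set X) ∩
        ((Wopen X U G k J : X.Opens) : Set X)ᶜ ⊆ (U l : Set X)) ∨
      Disjoint (((X.basicOpen (∏ p ∈ J, p.1) : X.Opens) : Set X) ∩
        ((Wopen X U G k J : X.Opens) : Set X)ᶜ) (U l : Set X) := by
  classical
  by_cases hex : ∃ p ∈ J, X.basicOpen p.1 ≤ U l
  · left
    obtain ⟨p, hpJ, hpl⟩ := hex
    rintro x ⟨hxV, -⟩
    exact hpl (((mem_basicOpen_prod X (U k) J (fun p => p.1) x).mp hxV).2 p hpJ)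
  · right
    rw [Set.disjoint_left]
    rintro x ⟨hxV, hxW⟩ hxl
    have hxk : x ∈ U k := ((mem_basicOpen_prod X (U k) J (fun p => p.1) x).mp hxV).1
    obtain ⟨g, hg, hxg, hgl⟩ := hG k l x hxk hxl
    by_cases hpJ : (⟨g, hg⟩ : ↥(G k)) ∈ J
    · exact hex ⟨⟨g, hg⟩, hpJ, hgl⟩
    · exact hxW ((mem_Wopen X U G k J x).mpr (Or.inr ⟨⟨g, hg⟩, hpJ, hxg⟩))

end Main

theorem exists_strat_of_cover (X : Scheme.{u}) [Nonempty X] [QuasiSeparatedSpace X] {κ : Type}
    [Fintype κ] [LinearOrder κ] (U : κ → X.Opens) (hU : ∀ k, IsAffineOpen (U k))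
    (hcov : ∀ x : X, ∃ k, x ∈ U k) : ∃ n, MoreMor.HasAffineStratification X n := by
  classical
  have hne : ∀ x : X, (Finset.univ.filter (fun i => x ∈ U i)).Nonempty := fun x => by
    obtain ⟨i, hi⟩ := hcov x
    exact ⟨i, Finset.mem_filter.mpr ⟨Finset.mem_univ _, hi⟩⟩
  obtain ⟨kx, hk_mem, hk_le⟩ : ∃ kx : X → κ,
      (∀ x, x ∈ U (kx x)) ∧ (∀ x l, x ∈ U l → l ≤ kx x) :=
    ⟨fun x => (Finset.univ.filter (fun i => x ∈ U i)).max' (hne x),
      fun x => (Finset.mem_filter.mp (Finset.max'_mem _ (hne x))).2,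
      fun x i hi => Finset.le_max' _ i (Finset.mem_filter.mpr ⟨Finset.mem_univ _, hi⟩)⟩
  have hT : ∀ k l, ∃ t : Finset Γ(X, U k),
      ∀ x : X, x ∈ U k ⊓ U l ↔ ∃ g ∈ t, x ∈ X.basicOpen g := fun k l =>
    exists_finset_basicOpen X (U k) (U k ⊓ U l) (hU k) inf_le_left
      (by
        rw [Opens.coe_inf]
        exact QuasiSeparatedSpace.inter_isCompact (U k : Set X) (U l : Set X) (U k).isOpen
          (hU k).isCompact (U l).isOpen (hU l).isCompact)
  choose T hT using hT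
  obtain ⟨G, hG⟩ : ∃ G : ∀ k, Finset Γ(X, U k), ∀ k l x, x ∈ U k → x ∈ U l →
      ∃ g ∈ G k, x ∈ X.basicOpen g ∧ X.basicOpen g ≤ U l := by
    refine ⟨fun k => Finset.univ.biUnion (fun l => T k l), fun k l x hxk hxl => ?_⟩
    obtain ⟨g, hg, hxg⟩ := (hT k l x).mp (Opens.mem_inf.mpr ⟨hxk, hxl⟩)
    refine ⟨g, Finset.mem_biUnion.mpr ⟨l, Finset.mem_univ _, hg⟩, hxg, fun y hy => ?_⟩
    exact (Opens.mem_inf.mp ((hT k l y).mpr ⟨g, hg, hy⟩)).2
  refine hasAffineStratification_of_partialOrder X (sig X U G kx) (fun i => ?_) (fun i => ?_)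
  · obtain ⟨⟨k, J⟩, rfl⟩ : ∃ a : Σ k : κ, Finset ↥(G k), toLex a = i := ⟨ofLex i, rfl⟩
    rw [sublevel_eq X U G kx hk_mem hk_le k J]
    exact (Wopen X U G k J).isOpen.isClosed_compl
  · obtain ⟨⟨k, J⟩, rfl⟩ : ∃ a : Σ k : κ, Finset ↥(G k), toLex a = i := ⟨ofLex i, rfl⟩
    rw [level_eq X U G kx hk_mem hk_le k J]
    exact good_of_cover X U hU hcov _ _ ((hU k).basicOpen _) (sub_or_disjoint X U G hG k J)

theorem exists_fin_affine_cover (X : Scheme.{u}) [CompactSpace X] :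
    ∃ (m : ℕ) (U : Fin m → X.Opens), (∀ k, IsAffineOpen (U k)) ∧ ∀ x : X, ∃ k, x ∈ U k := by
  classical
  have hA : ∀ x : X, ∃ V : X.Opens, IsAffineOpen V ∧ x ∈ V := fun x => by
    obtain ⟨_, ⟨V, hV, rfl⟩, hx, -⟩ :=
      X.isBasis_affineOpens.exists_subset_of_mem_open (Set.mem_univ x) isOpen_univ
    exact ⟨V, hV, hx⟩
  choose V hV hxV using hA
  obtain ⟨t, ht⟩ := isCompact_univ.elim_finite_subcover (fun x : X => (V x : Set X))
    (fun x => (V x).isOpen) (fun x _ => Set.mem_iUnion.mpr ⟨x, hxV x⟩)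
  refine ⟨t.card, fun k => V (t.equivFin.symm k).1, fun k => hV _, fun x => ?_⟩
  obtain ⟨i, hi, hxi⟩ := Set.mem_iUnion₂.mp (ht (Set.mem_univ x))
  refine ⟨t.equivFin ⟨i, hi⟩, ?_⟩
  show x ∈ V (t.equivFin.symm (t.equivFin ⟨i, hi⟩)).1
  rw [Equiv.symm_apply_apply]
  exact hxi

theorem exists_strat_of_qcqs (X : Scheme.{u}) [CompactSpace X] [QuasiSeparatedSpace X] :
    ∃ n, MoreMor.HasAffineStratification X n := by
  by_cases hne : Nonempty X
  · obtain ⟨m, U, hU, hcov⟩ := exists_fin_affine_cover X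
    exact exists_strat_of_cover X U hU hcov
  · haveI : IsEmpty X := not_nonempty_iff.mp hne
    refine ⟨0, fun _ => 0, fun i => ?_,
      fun i => ⟨X, 𝟙 X, inferInstance, isAffine_of_isEmpty, inferInstance, ?_⟩⟩
    · rw [Set.eq_empty_of_isEmpty {x : X | (0 : Fin (0 + 1)) ≤ i}]
      exact isClosed_empty
    · rw [Set.eq_empty_of_isEmpty (Set.range (𝟙 X : X ⟶ X)),
        Set.eq_empty_of_isEmpty {x : X | (0 : Fin (0 + 1)) = i}]

theorem qcqs_of_strat (X : Scheme.{u}) (n : ℕ) (h : MoreMor.HasAffineStratification X n) :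
    CompactSpace X ∧ QuasiSeparatedSpace X := by
  obtain ⟨s, hcl, hlev⟩ := h
  choose Z ι hι using hlev
  have hcov : ∀ x : X, ∃ z : Z (s x), ι (s x) z = x := by
    intro x
    have : x ∈ Set.range (ι (s x)) := by
      rw [(hι (s x)).2.2.2]
      rfl
    exact this
  constructor
  · refine ⟨?_⟩
    have : (Set.univ : Set X) = ⋃ i, Set.range (ι i) := by
      ext x
      simp only [Set.mem_univ, Set.mem_iUnion, true_iff]
      exact ⟨s x, hcov x⟩
    rw [this]
    refine isCompact_iUnion (fun i => ?_)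
    haveI := (hι i).2.1
    exact isCompact_range (ι i).continuous
  · rw [quasiSeparatedSpace_iff_forall_affineOpens]
    intro A B
    have : ((A : X.Opens) : Set X) ∩ ((B : X.Opens) : Set X) =
        ⋃ i, (ι i) '' ((((ι i) ⁻¹ᵁ A.1 : (Z i).Opens) : Set (Z i)) ∩
          (((ι i) ⁻¹ᵁ B.1 : (Z i).Opens) : Set (Z i))) := by
      ext x
      simp only [Set.mem_inter_iff, Set.mem_iUnion, Set.mem_image, SetLike.mem_coe]
      constructor
      · rintro ⟨hA, hB⟩
        obtain ⟨z, hz⟩ := hcov x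
        refine ⟨s x, z, ⟨?_, ?_⟩, hz⟩
        · show ι (s x) z ∈ A.1
          rw [hz]
          exact hA
        · show ι (s x) z ∈ B.1
          rw [hz]
          exact hB
      · rintro ⟨i, z, ⟨hA, hB⟩, rfl⟩
        exact ⟨hA, hB⟩
    rw [this]
    refine isCompact_iUnion (fun i => ?_)
    refine IsCompact.image ?_ (ι i).continuous
    haveI := (hι i).2.1
    haveI := (hι i).2.2.1
    exact QuasiSeparatedSpace.inter_isCompact _ _ ((ι i) ⁻¹ᵁ A.1).isOpen
      (A.2.preimage (ι i)).isCompact ((ι i) ⁻¹ᵁ B.1).isOpen (B.2.preimage (ι i)).isCompact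

theorem main1435 (X : Scheme.{u}) :
    (∃ n : ℕ, MoreMor.HasAffineStratification X n) ↔
      CompactSpace ↑X ∧ QuasiSeparatedSpace ↑X := by
  constructor
  · rintro ⟨n, h⟩
    exact qcqs_of_strat X n h
  · rintro ⟨h1, h2⟩
    haveI := h1
    haveI := h2
    exact exists_strat_of_qcqs X

end Groth.Agent.Lib.AffStratH4
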