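import Mathlib
import Groth.Prelude
import Groth.Agent.Lib.StalkLoc_helper8

/-!
# Support of a quasi-coherent module via sections over affine opens (helper8)
APPEND-ONLY once landed.
-/

set_option autoImplicit false

namespace AnnSh2H8

open AlgebraicGeometry CategoryTheory CategoryTheory.Limits TopologicalSpace Opposite

universe u

variable {X : Scheme.{u}} (F : X.Modules) [F.IsQuasicoherent]

theorem subsingleton_stalk_iff {U : X.Opens} (hU : IsAffineOpen U) {x : X} (hxU : x ∈ U) :
    Subsingleton (F.presheaf.stalk x) ↔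
      hU.primeIdealOf ⟨x, hxU⟩ ∉ Module.support Γ(X, U) Γ(F, U) := by
  letI := StalkLocH8.modSec F hxU
  haveI := StalkLocH8.isLocalizedModule_germLin F hU hxU
  rw [Module.notMem_support_iff]
  let E := IsLocalizedModule.linearEquiv (hU.primeIdealOf ⟨x, hxU⟩).asIdeal.primeCompl
    (LocalizedModule.mkLinearMap (hU.primeIdealOf ⟨x, hxU⟩).asIdeal.primeCompl Γ(F, U))
    (StalkLocH8.germLin F hxU)
  exact E.symm.toEquiv.subsingleton_congr

theorem mem_support_iff {U : X.Opens} (hU : IsAffineOpen U) {x : X} (hxU : x ∈ U) :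
    hU.primeIdealOf ⟨x, hxU⟩ ∈ Module.support Γ(X, U) Γ(F, U) ↔ x ∈ CohB1.support F := by
  have h := subsingleton_stalk_iff F hU hxU
  change _ ↔ ¬ Subsingleton (F.presheaf.stalk x)
  rw [h, not_not]

/-- The support of a quasi-coherent module is stable under specialization. -/
theorem stableUnderSpecialization_support : StableUnderSpecialization (CohB1.support F) := by
  intro x y hxy hx
  have hytop : y ∈ (⊤ : X.Opens) := trivial
  obtain ⟨U, hU', hyU, -⟩ := (Opens.isBasis_iff_nbhd.mp X.isBasis_affineOpens) hytop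
  have hU : IsAffineOpen U := hU'
  have hxU : x ∈ U := hxy.mem_open U.2 hyU
  rw [← mem_support_iff F hU hxU] at hx
  rw [← mem_support_iff F hU hyU]
  refine Module.stableUnderSpecialization_support ?_ hx
  -- specialization in Spec
  have h1 : hU.fromSpec (hU.primeIdealOf ⟨x, hxU⟩) = x := hU.fromSpec_primeIdealOf ⟨x, hxU⟩
  have h2 : hU.fromSpec (hU.primeIdealOf ⟨y, hyU⟩) = y := hU.fromSpec_primeIdealOf ⟨y, hyU⟩
  have hemb : Topology.IsInducing hU.fromSpec := hU.fromSpec.isOpenEmbedding.isInducing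
  have h3 : hU.fromSpec (hU.primeIdealOf ⟨x, hxU⟩) ⤳ hU.fromSpec (hU.primeIdealOf ⟨y, hyU⟩) := by
    rw [h1, h2]; exact hxy
  exact hemb.specializes_iff.mp h3

end AnnSh2H8
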