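import Mathlib
import Groth.Prelude
import Groth.Agent.Lib.RelFPAff_helper9
import Groth.Agent.Lib.QCohFT_helper9
import Groth.Agent.Lib.StalkLoc_helper8

/-!
# The annihilator ideal sheaf of a quasi-coherent module of finite type (helper8)
APPEND-ONLY once landed.
-/

set_option autoImplicit false

namespace AnnShH8

open AlgebraicGeometry CategoryTheory CategoryTheory.Limits TopologicalSpace Opposite RelFPKit

universe u

section Alg

variable {A A' : Type u} [CommRing A] [CommRing A'] {ρ : A →+* A'} {a : A}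
  {M M' : Type u} [AddCommGroup M] [Module A M] [AddCommGroup M'] [Module A' M'] {l : M →+ M'}

/-- The annihilator of a finite module commutes with localization away from an element. -/
theorem map_annihilator (h : LocData ρ a l) [Module.Finite A M] :
    (Module.annihilator A M).map ρ = Module.annihilator A' M' := by
  letI := ρ.toAlgebra
  haveI := h.isLoc
  have hu : IsUnit (ρ a) := IsLocalization.Away.algebraMap_isUnit (S := A') a
  apply le_antisymm
  · rw [Ideal.map_le_iff_le_comap]
    intro x hx
    rw [Ideal.mem_comap, Module.mem_annihilator]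
    intro m'
    obtain ⟨n, m, hm⟩ := h.surj m'
    have h1 : ρ a ^ n • (ρ x • m') = 0 := by
      rw [smul_comm, hm, ← h.smul, Module.mem_annihilator.mp hx m, map_zero]
    exact ((hu.pow n).smul_left_cancel).mp (h1.trans (smul_zero _).symm)
  · intro y hy
    obtain ⟨k, x, hx⟩ := IsLocalization.Away.surj a y
    -- hx : y * algebraMap a ^ k = algebraMap x
    have hx' : y * ρ a ^ k = ρ x := hx
    obtain ⟨s, hs⟩ := (Module.Finite.fg_top : (⊤ : Submodule A M).FG)
    have key : ∀ m ∈ (s : Set M), ∃ n : ℕ, a ^ n • x • m = 0 := by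
      intro m _
      apply h.ker
      rw [h.smul, ← hx', mul_comm, mul_smul, Module.mem_annihilator.mp hy, smul_zero]
    choose! n hn using key
    let N := s.sup n
    have hN : a ^ N * x ∈ Module.annihilator A M := by
      rw [Module.mem_annihilator]
      intro m
      have hm : m ∈ Submodule.span A (s : Set M) := hs ▸ Submodule.mem_top
      refine Submodule.span_induction (p := fun m _ => (a ^ N * x) • m = 0) ?_ ?_ ?_ ?_ hm
      · intro m hm
        have hle : n m ≤ N := Finset.le_sup hm
        obtain ⟨d, hd⟩ := Nat.exists_eq_add_of_le hle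
        rw [mul_smul, hd, pow_add, mul_comm (a ^ n m), mul_smul, hn m hm, smul_zero]
      · exact smul_zero _
      · intro m₁ m₂ _ _ h1 h2
        rw [smul_add, h1, h2, add_zero]
      · intro c m _ h1
        rw [smul_comm, h1, smul_zero]
    have h2 : ρ (a ^ N * x) ∈ (Module.annihilator A M).map ρ := Ideal.mem_map_of_mem ρ hN
    have h3 : ρ (a ^ N * x) = y * ρ a ^ (N + k) := by
      rw [map_mul, map_pow, ← hx', pow_add]; ring
    rw [h3] at h2
    obtain ⟨v, hv⟩ := hu.pow (N + k)
    have h4 : y = y * ρ a ^ (N + k) * ((v⁻¹ : A'ˣ) : A') := by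
      rw [← hv, mul_assoc, Units.mul_inv, mul_one]
    rw [h4]
    exact Ideal.mul_mem_right _ _ h2

end Alg


section Sheaf

variable {X : Scheme.{u}} (F : X.Modules) [F.IsQuasicoherent]
  [SheafOfModules.IsFiniteType (R := X.ringCatSheaf) F]

/-- The annihilator ideal sheaf of a quasi-coherent module of finite type. -/
noncomputable def annIdeal : X.IdealSheafData where
  ideal U := Module.annihilator Γ(X, U.1) Γ(F, U.1)
  map_ideal_basicOpen U f := by
    haveI := QCohFT.finite_of_isFiniteType F U.2
    show (Module.annihilator Γ(X, U.1) Γ(F, U.1)).map _ =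
      Module.annihilator Γ(X, X.basicOpen f) Γ(F, X.basicOpen f)
    exact map_annihilator
      (RelFPAff.locData (F := F) U.2 f (homOfLE (X.basicOpen_le f)) rfl)

theorem annIdeal_ideal (U : X.affineOpens) :
    (annIdeal F).ideal U = Module.annihilator Γ(X, U.1) Γ(F, U.1) := rfl

theorem subsingleton_stalk_iff {U : X.Opens} (hU : IsAffineOpen U) {x : X} (hxU : x ∈ U) :
    Subsingleton (F.presheaf.stalk x) ↔
      hU.primeIdealOf ⟨x, hxU⟩ ∉ Module.support Γ(X, U) Γ(F, U) := by
  letI := StalkLocH8.modSec F hxU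
  haveI := StalkLocH8.isLocalizedModule_germLin F hU hxU
  rw [Module.notMem_support_iff]
  let E := IsLocalizedModule.linearEquiv (hU.primeIdealOf ⟨x, hxU⟩).asIdeal.primeCompl
    (LocalizedModule.mkLinearMap (hU.primeIdealOf ⟨x, hxU⟩).asIdeal.primeCompl Γ(F, U))
    (StalkLocH8.germLin F hxU)
  exact E.symm.toEquiv.subsingleton_congr

theorem mem_basicOpen_iff {U : X.Opens} (hU : IsAffineOpen U) {x : X} (hxU : x ∈ U)
    (a : Γ(X, U)) : x ∈ X.basicOpen a ↔ a ∉ (hU.primeIdealOf ⟨x, hxU⟩).asIdeal := by
  have h1 : hU.fromSpec (hU.primeIdealOf ⟨x, hxU⟩) = x := hU.fromSpec_primeIdealOf ⟨x, hxU⟩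
  set p := hU.primeIdealOf ⟨x, hxU⟩ with hp
  have h2 : (hU.fromSpec p ∈ X.basicOpen a) ↔ p ∈ hU.fromSpec ⁻¹ᵁ X.basicOpen a := Iff.rfl
  have h3 : x ∈ X.basicOpen a ↔ hU.fromSpec p ∈ X.basicOpen a := by rw [h1]
  rw [h3, h2, hU.fromSpec_preimage_basicOpen]
  rfl

/-- The support of the annihilator ideal sheaf is the support of the module. -/
theorem support_annIdeal : ((annIdeal F).support : Set X) = CohB1.support F := by
  ext x
  have hxtop : x ∈ (⊤ : X.Opens) := trivial
  obtain ⟨U, hU, hxU, -⟩ := (Opens.isBasis_iff_nbhd.mp X.isBasis_affineOpens) hxtop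
  haveI := QCohFT.finite_of_isFiniteType F hU
  have h1 : x ∈ ((annIdeal F).support : Set X) ↔ x ∈ (annIdeal F).support := Iff.rfl
  rw [h1, Scheme.IdealSheafData.mem_support_iff_of_mem (I := annIdeal F) (U := ⟨U, hU⟩) hxU,
    Scheme.mem_zeroLocus_iff]
  change _ ↔ ¬ Subsingleton (F.presheaf.stalk x)
  rw [subsingleton_stalk_iff F hU hxU, not_not, Module.mem_support_iff_of_finite]
  constructor
  · intro h a ha
    by_contra hna
    exact h a ha ((mem_basicOpen_iff hU hxU a).2 hna)
  · intro h a ha hxa
    exact (mem_basicOpen_iff hU hxU a).1 hxa (h ha)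

end Sheaf

end AnnShH8
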