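import Mathlib
set_option autoImplicit false
open TensorProduct
universe u
namespace PBH8

section
variable {R A B M : Type u} [CommRing R] [CommRing A] [CommRing B] [Algebra R A] [Algebra A B]
  [Algebra R B] [IsScalarTower R A B] [AddCommGroup M] [Module A M] [Module R M]
  [IsScalarTower R A M]

/-- key: `(B ⊗_A M) ⊗_R f` injective iff `B ⊗_A (M ⊗_R f)` injective -/
lemma lTensor_tensor_injective_iff {N N' : Type u} [AddCommMonoid N] [AddCommMonoid N']
    [Module R N] [Module R N'] (f : N →ₗ[R] N') :
    Function.Injective (f.lTensor (B ⊗[A] M)) ↔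
      Function.Injective ((AlgebraTensorModule.lTensor A M f).lTensor B) := by
  let e := AlgebraTensorModule.assoc R A B B M N
  let e' := AlgebraTensorModule.assoc R A B B M N'
  have hcomm : ∀ x, e' (f.lTensor (B ⊗[A] M) x) =
      (AlgebraTensorModule.lTensor A M f).lTensor B (e x) := by
    intro x
    induction x using TensorProduct.induction_on with
    | zero => simp
    | tmul y n =>
      induction y using TensorProduct.induction_on with
      | zero => simp
      | tmul b m => simp [e, e']
      | add y₁ y₂ h₁ h₂ =>
        rw [TensorProduct.add_tmul, map_add, map_add, map_add, map_add, h₁, h₂]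
    | add x₁ x₂ h₁ h₂ => rw [map_add, map_add, map_add, map_add, h₁, h₂]
  constructor
  · intro h a b hab
    obtain ⟨a', rfl⟩ := e.surjective a
    obtain ⟨b', rfl⟩ := e.surjective b
    rw [← hcomm, ← hcomm] at hab
    rw [h (e'.injective hab)]
  · intro h a b hab
    have := congrArg e' hab
    rw [hcomm, hcomm] at this
    exact e.injective (h this)

theorem flat_tensor_of_flat [Module.Flat R M] [Module.Flat A B] : Module.Flat R (B ⊗[A] M) := by
  rw [Module.Flat.iff_lTensor_preserves_injective_linearMapₛ.{u}]
  intro N N' _ _ _ _ f hf
  rw [lTensor_tensor_injective_iff]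
  apply Module.Flat.lTensor_preserves_injective_linearMap
  exact Module.Flat.lTensor_preserves_injective_linearMap (M := M) f hf

theorem flat_of_flat_tensor [Module.FaithfullyFlat A B] (h : Module.Flat R (B ⊗[A] M)) :
    Module.Flat R M := by
  rw [Module.Flat.iff_lTensor_preserves_injective_linearMapₛ.{u}]
  intro N N' _ _ _ _ f hf
  have h1 := Module.Flat.lTensor_preserves_injective_linearMap (M := B ⊗[A] M) f hf
  rw [lTensor_tensor_injective_iff] at h1
  have h2 := (Module.FaithfullyFlat.lTensor_injective_iff_injective A B
    (AlgebraTensorModule.lTensor A M f)).mp h1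
  exact h2

end
end PBH8
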