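import Groth.Agent.Lib.PB10_helper8
import Groth.Agent.Lib.QCohFT_helper9
import Groth.Agent.Lib.QCohFP2_helper9
import Groth.Agent.Lib.FlatBC_helper8
import Mathlib
set_option autoImplicit false
open CategoryTheory AlgebraicGeometry Opposite TopologicalSpace TensorProduct
open AlgebraicGeometry.Scheme.Modules
universe u
namespace FpqcH8

/-! ### Module-level descent -/
section Alg
variable {R T M : Type u} [CommRing R] [CommRing T] [Algebra R T] [AddCommGroup M] [Module R M]

theorem finitePresentation_of_faithfullyFlat [Module.FaithfullyFlat R T]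
    [Module.FinitePresentation T (T ⊗[R] M)] : Module.FinitePresentation R M := by
  haveI : Module.Finite R M := Module.Finite.of_finite_tensorProduct_of_faithfullyFlat T
  obtain ⟨n, f, hf⟩ := Module.Finite.exists_fin' R M
  refine Module.finitePresentation_of_surjective f hf ?_
  have hex : Function.Exact ((LinearMap.ker f).subtype.baseChange T) (f.baseChange T) :=
    lTensor_exact T f.exact_subtype_ker_map hf
  have hfg : (LinearMap.ker (f.baseChange T)).FG :=
    Module.FinitePresentation.fg_ker _ (LinearMap.lTensor_surjective T hf)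
  rw [LinearMap.exact_iff] at hex
  rw [hex] at hfg
  have hinj : Function.Injective ((LinearMap.ker f).subtype.baseChange T) :=
    Module.Flat.lTensor_preserves_injective_linearMap _ (Submodule.injective_subtype _)
  haveI : Module.Finite T (T ⊗[R] (LinearMap.ker f)) := by
    haveI : Module.Finite T (LinearMap.range ((LinearMap.ker f).subtype.baseChange T)) :=
      Module.Finite.iff_fg.mpr hfg
    exact Module.Finite.equiv (LinearEquiv.ofInjective _ hinj).symm
  haveI : Module.Finite R (LinearMap.ker f) :=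
    Module.Finite.of_finite_tensorProduct_of_faithfullyFlat T
  exact Module.Finite.iff_fg.mp inferInstance

theorem flat_of_faithfullyFlat [Module.FaithfullyFlat R T] [Module.Flat T (T ⊗[R] M)] :
    Module.Flat R M := by
  haveI : Module.Flat R (T ⊗[R] M) := Module.Flat.trans R T (T ⊗[R] M)
  exact PBH8.flat_of_flat_tensor (R := R) (A := R) (B := T) (M := M) inferInstance

end Alg

/-! ### Sections of isomorphic modules -/
section Iso
variable {X : Scheme.{u}} {A B : X.Modules}

noncomputable def secLinEquiv (e : A ≅ B) (U : X.Opens) : Γ(A, U) ≃ₗ[Γ(X, U)] Γ(B, U) where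
  toFun := e.hom.app U
  invFun := e.inv.app U
  map_add' := map_add _
  map_smul' := fun r x => Hom.app_smul e.hom r x
  left_inv := fun x => by
    have : (e.hom ≫ e.inv).app U = 𝟙 _ := by rw [e.hom_inv_id]; rfl
    rw [Hom.comp_app] at this
    exact congrArg (fun φ => φ x) this
  right_inv := fun x => by
    have : (e.inv ≫ e.hom).app U = 𝟙 _ := by rw [e.inv_hom_id]; rfl
    rw [Hom.comp_app] at this
    exact congrArg (fun φ => φ x) this

end Iso

/-! ### Pullback preserves finiteness for quasi-coherent modules -/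
section PB
variable {X Y : Scheme.{u}} (f : X ⟶ Y) (F : Y.Modules) [F.IsQuasicoherent]

theorem finite_sections_pullback {U : X.Opens} {V : Y.Opens} (hU : IsAffineOpen U)
    (hV : IsAffineOpen V) (h : U ≤ f ⁻¹ᵁ V) [Module.Finite Γ(Y, V) Γ(F, V)] :
    Module.Finite Γ(X, U) Γ((Scheme.Modules.pullback f).obj F, U) := by
  letI := (f.appLE V U h).hom.toAlgebra
  letI : Module Γ(Y, V) Γ((Scheme.Modules.pullback f).obj F, U) :=
    Module.compHom _ (f.appLE V U h).hom
  haveI : IsScalarTower Γ(Y, V) Γ(X, U) Γ((Scheme.Modules.pullback f).obj F, U) :=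
    IsScalarTower.of_algebraMap_smul fun _ _ => rfl
  have bc := PBH8.isBaseChange_cUV f F h hU hV
  exact Module.Finite.equiv bc.equiv

theorem fp_sections_pullback {U : X.Opens} {V : Y.Opens} (hU : IsAffineOpen U)
    (hV : IsAffineOpen V) (h : U ≤ f ⁻¹ᵁ V) [Module.FinitePresentation Γ(Y, V) Γ(F, V)] :
    Module.FinitePresentation Γ(X, U) Γ((Scheme.Modules.pullback f).obj F, U) := by
  letI := (f.appLE V U h).hom.toAlgebra
  letI : Module Γ(Y, V) Γ((Scheme.Modules.pullback f).obj F, U) :=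
    Module.compHom _ (f.appLE V U h).hom
  haveI : IsScalarTower Γ(Y, V) Γ(X, U) Γ((Scheme.Modules.pullback f).obj F, U) :=
    IsScalarTower.of_algebraMap_smul fun _ _ => rfl
  have bc := PBH8.isBaseChange_cUV f F h hU hV
  exact FinitePresentation.of_isBaseChange _ bc

theorem isFiniteType_pullback [SheafOfModules.IsFiniteType (R := Y.ringCatSheaf) F] :
    SheafOfModules.IsFiniteType (R := X.ringCatSheaf) ((Scheme.Modules.pullback f).obj F) := by
  let ι := {U : X.Opens // IsAffineOpen U ∧ ∃ V : Y.Opens, IsAffineOpen V ∧ U ≤ f ⁻¹ᵁ V}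
  have hcover : ⨆ i : ι, (i.1 : X.Opens) = ⊤ := by
    rw [eq_top_iff]
    intro x _
    obtain ⟨V, U, hV, hU, hxU, hUV⟩ := PBH8.exists_affine_pair' f x
    exact Opens.mem_iSup.mpr ⟨⟨U, hU, V, hV, hUV⟩, hxU⟩
  refine QCohCrit.isFiniteType_of_sections_cover _ (fun i : ι => (i.1 : X.Opens))
    (fun i => i.2.1) hcover ?_
  rintro ⟨U, hU, V, hV, hUV⟩
  haveI := QCohFT.finite_of_isFiniteType F hV
  exact finite_sections_pullback f F hU hV hUV

theorem isFP_pullback [SheafOfModules.IsFinitePresentation (R := Y.ringCatSheaf) F] :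
    SheafOfModules.IsFinitePresentation (R := X.ringCatSheaf)
      ((Scheme.Modules.pullback f).obj F) := by
  let ι := {U : X.Opens // IsAffineOpen U ∧ ∃ V : Y.Opens, IsAffineOpen V ∧ U ≤ f ⁻¹ᵁ V}
  have hcover : ⨆ i : ι, (i.1 : X.Opens) = ⊤ := by
    rw [eq_top_iff]
    intro x _
    obtain ⟨V, U, hV, hU, hxU, hUV⟩ := PBH8.exists_affine_pair' f x
    exact Opens.mem_iSup.mpr ⟨⟨U, hU, V, hV, hUV⟩, hxU⟩
  refine QCohFP2.isFinitePresentation_of_sections_cover _ (fun i : ι => (i.1 : X.Opens))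
    (fun i => i.2.1) hcover ?_
  rintro ⟨U, hU, V, hV, hUV⟩
  haveI := QCohFP2.finitePresentation_of_isFinitePresentation F hV
  exact fp_sections_pullback f F hU hV hUV

end PB

/-! ### fpqc covers by affines -/
section Cover
variable {X X' : Scheme.{u}} (f : X' ⟶ X) [Flat f] [Surjective f] [QuasiCompact f]

theorem exists_affine_ff {V : X.Opens} (hV : IsAffineOpen V) :
    ∃ (W : Scheme.{u}) (_ : IsAffine W) (k : W ⟶ X') (hle : (⊤ : W.Opens) ≤ (k ≫ f) ⁻¹ᵁ V),
      ((k ≫ f).appLE V ⊤ hle).hom.FaithfullyFlat := by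
  haveI : CompactSpace ((f ⁻¹ᵁ V).toScheme) :=
    isCompact_iff_compactSpace.mp (f.isCompact_preimage hV.isCompact)
  obtain ⟨W, p, hsurj, hflat, hW⟩ :=
    (f ⁻¹ᵁ V).toScheme.exists_hom_isAffine_of_isZariskiLocalAtSource @Flat
  haveI := hflat
  refine ⟨W, hW, p ≫ (f ⁻¹ᵁ V).ι, ?_, ?_⟩
  · intro w _
    show (p ≫ (f ⁻¹ᵁ V).ι ≫ f) w ∈ V
    have : (p w).1 ∈ f ⁻¹ᵁ V := (p w).2
    rw [Scheme.Hom.comp_apply, Scheme.Hom.comp_apply]
    exact this
  · have hle : (⊤ : W.Opens) ≤ ((p ≫ (f ⁻¹ᵁ V).ι) ≫ f) ⁻¹ᵁ V := by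
      intro w _
      show ((p ≫ (f ⁻¹ᵁ V).ι) ≫ f) w ∈ V
      have : (p w).1 ∈ f ⁻¹ᵁ V := (p w).2
      rw [Scheme.Hom.comp_apply, Scheme.Hom.comp_apply]
      exact this
    rw [RingHom.FaithfullyFlat.iff_flat_and_comap_surjective]
    refine ⟨HasRingHomProperty.appLE (P := @Flat) ((p ≫ (f ⁻¹ᵁ V).ι) ≫ f) inferInstance
      ⟨V, hV⟩ ⟨⊤, isAffineOpen_top W⟩ hle, ?_⟩
    intro q
    -- the point of V corresponding to q
    obtain ⟨x, hx⟩ : ∃ x : V, hV.primeIdealOf x = q := by
      refine ⟨hV.isoSpec.inv q, ?_⟩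
      show hV.isoSpec.hom (hV.isoSpec.inv q) = q
      rw [← Scheme.Hom.comp_apply, Iso.inv_hom_id]
      rfl
    obtain ⟨x', hx'⟩ := Surjective.surj (f := f) x.1
    have hx'V : x' ∈ f ⁻¹ᵁ V := by
      show f x' ∈ V
      rw [hx']; exact x.2
    obtain ⟨w, hw⟩ := hsurj.surj ⟨x', hx'V⟩
    have hfw : ((p ≫ (f ⁻¹ᵁ V).ι) ≫ f) w = x.1 := by
      rw [Scheme.Hom.comp_apply, Scheme.Hom.comp_apply, hw]
      exact hx'
    refine ⟨(isAffineOpen_top W).primeIdealOf ⟨w, trivial⟩, ?_⟩
    have := IsAffineOpen.comap_primeIdealOf_appLE (f := (p ≫ (f ⁻¹ᵁ V).ι) ≫ f) V hV ⊤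
      (isAffineOpen_top W) hle (x := w) trivial
    rw [this, ← hx]
    congr 1
    exact Subtype.ext hfw

end Cover

end FpqcH8
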