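import Mathlib
import Groth.Prelude
import Groth.Agent.Lib.Fpqc1_helper8
import Groth.Agent.Lib.QCohCrit2_helper9

/-!
# Modules killed by the ideal of a closed immersion are pushforwards (helper8)
APPEND-ONLY once landed.
-/

set_option autoImplicit false

namespace ClPushH8

open AlgebraicGeometry CategoryTheory CategoryTheory.Limits TopologicalSpace Opposite TensorProduct

universe u

section Alg

variable {A B : Type u} [CommRing A] [CommRing B] [Algebra A B]
  {M N : Type u} [AddCommGroup M] [Module A M] [AddCommGroup N] [Module A N] [Module B N]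
  [IsScalarTower A B N]

/-- A base change along a surjection whose kernel kills the module is bijective. -/
theorem bijective_of_isBaseChange_of_killed (hsurj : Function.Surjective (algebraMap A B))
    (hk : ∀ a ∈ RingHom.ker (algebraMap A B), ∀ m : M, a • m = 0)
    (f : M →ₗ[A] N) (hf : IsBaseChange B f) : Function.Bijective f := by
  constructor
  · -- a retraction of `m ↦ 1 ⊗ m`
    have hK : RingHom.ker (algebraMap A B) ≤ LinearMap.ker (LinearMap.lsmul A M) := by
      intro a ha
      rw [LinearMap.mem_ker]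
      ext m
      exact hk a ha m
    let φ : (A ⧸ RingHom.ker (algebraMap A B)) →ₗ[A] Module.End A M :=
      Submodule.liftQ _ (LinearMap.lsmul A M) hK
    let e : (A ⧸ RingHom.ker (algebraMap A B)) ≃ₐ[A] B :=
      Ideal.quotientKerAlgEquivOfSurjective (f := Algebra.ofId A B) hsurj
    let ψ : B ⊗[A] M →ₗ[A] M := TensorProduct.lift (φ ∘ₗ e.symm.toLinearMap)
    have hψ : ∀ m : M, ψ ((1 : B) ⊗ₜ m) = m := by
      intro m
      show φ (e.symm 1) m = m
      rw [map_one]
      have h1 : (1 : A ⧸ RingHom.ker (algebraMap A B)) = Submodule.Quotient.mk (1 : A) := rfl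
      rw [h1]
      show (Submodule.liftQ _ (LinearMap.lsmul A M) hK) (Submodule.Quotient.mk (1 : A)) m = m
      rw [Submodule.liftQ_apply]
      simp
    intro m₁ m₂ h12
    have h1 : hf.equiv ((1 : B) ⊗ₜ m₁) = hf.equiv ((1 : B) ⊗ₜ m₂) := by
      rw [IsBaseChange.equiv_tmul, IsBaseChange.equiv_tmul, one_smul, one_smul, h12]
    have h2 := hf.equiv.injective h1
    rw [← hψ m₁, ← hψ m₂, h2]
  · intro n
    induction n using hf.inductionOn with
    | zero => exact ⟨0, map_zero _⟩
    | tmul m => exact ⟨m, rfl⟩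
    | smul b n ih =>
      obtain ⟨m, rfl⟩ := ih
      obtain ⟨a, rfl⟩ := hsurj b
      exact ⟨a • m, by rw [map_smul, algebraMap_smul]⟩
    | add n₁ n₂ h₁ h₂ =>
      obtain ⟨m₁, rfl⟩ := h₁
      obtain ⟨m₂, rfl⟩ := h₂
      exact ⟨m₁ + m₂, map_add _ _ _⟩

end Alg

section Geo

open PBH8

variable {Z X : Scheme.{u}} (i : Z ⟶ X) [IsClosedImmersion i] (F : X.Modules) [F.IsQuasicoherent]

theorem cUV_self (V : X.Opens) (x : Γ(F, V)) :
    cUV i F (le_refl (i ⁻¹ᵁ V)) x =
      ((Scheme.Modules.pullbackPushforwardAdjunction i).unit.app F).app V x := by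
  unfold cUV
  have h : (homOfLE (le_refl (i ⁻¹ᵁ V))) = 𝟙 _ := rfl
  rw [h, op_id, CategoryTheory.Functor.map_id]
  rfl

theorem unit_app_bijective (hk : ClSub.KilledByIdeal i.ker F) {V : X.Opens} (hV : IsAffineOpen V) :
    Function.Bijective (((Scheme.Modules.pullbackPushforwardAdjunction i).unit.app F).app V) := by
  have hU : IsAffineOpen (i ⁻¹ᵁ V) := hV.preimage i
  letI := (i.appLE V (i ⁻¹ᵁ V) (le_refl _)).hom.toAlgebra
  letI : Module Γ(X, V) Γ((Scheme.Modules.pullback i).obj F, i ⁻¹ᵁ V) :=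
    Module.compHom _ (i.appLE V (i ⁻¹ᵁ V) (le_refl _)).hom
  haveI : IsScalarTower Γ(X, V) Γ(Z, i ⁻¹ᵁ V) Γ((Scheme.Modules.pullback i).obj F, i ⁻¹ᵁ V) :=
    IsScalarTower.of_algebraMap_smul fun _ _ => rfl
  have bc := isBaseChange_cUV i F (le_refl (i ⁻¹ᵁ V)) hU hV
  have happ : i.appLE V (i ⁻¹ᵁ V) (le_refl _) = i.app V := i.appLE_eq_app
  have hsurj : Function.Surjective (algebraMap Γ(X, V) Γ(Z, i ⁻¹ᵁ V)) := by
    show Function.Surjective (i.appLE V (i ⁻¹ᵁ V) (le_refl _)).hom
    rw [happ]
    exact i.app_surjective V hV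
  have hker : ∀ a ∈ RingHom.ker (algebraMap Γ(X, V) Γ(Z, i ⁻¹ᵁ V)), ∀ m : Γ(F, V), a • m = 0 := by
    intro a ha m
    refine hk ⟨V, hV⟩ a ?_ m
    rw [Scheme.Hom.ker_apply, RingHom.mem_ker]
    have ha' : (i.appLE V (i ⁻¹ᵁ V) (le_refl _)).hom a = 0 := ha
    rw [happ] at ha'
    exact ha'
  have hb := bijective_of_isBaseChange_of_killed hsurj hker (cUVLin i F (le_refl (i ⁻¹ᵁ V))) bc
  have heq : ⇑(cUVLin i F (le_refl (i ⁻¹ᵁ V))) =
      ⇑(((Scheme.Modules.pullbackPushforwardAdjunction i).unit.app F).app V) := by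
    funext x
    exact cUV_self i F V x
  rw [← heq]
  exact hb

end Geo

section Geo2

variable {Z X : Scheme.{u}} (i : Z ⟶ X) [IsClosedImmersion i] (F : X.Modules) [F.IsQuasicoherent]

theorem isIso_unit (hk : ClSub.KilledByIdeal i.ker F) :
    IsIso ((Scheme.Modules.pullbackPushforwardAdjunction i).unit.app F) := by
  haveI : ((Scheme.Modules.pushforward i).obj ((Scheme.Modules.pullback i).obj F)).IsQuasicoherent :=
    QCohCrit.isQuasicoherent_pushforward i _
  exact QCohCrit.isIso_of_bijective_on_cover (A := F)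
    (B := (Scheme.Modules.pushforward i).obj ((Scheme.Modules.pullback i).obj F))
    ((Scheme.Modules.pullbackPushforwardAdjunction i).unit.app F)
    (fun U : X.affineOpens => (U : X.Opens)) (fun U => U.2) (iSup_affineOpens_eq_top X)
    (fun U => unit_app_bijective i F hk U.2)

/-- A quasi-coherent module killed by the ideal of a closed immersion is a pushforward. -/
theorem exists_pushforward_iso (hk : ClSub.KilledByIdeal i.ker F) :
    ∃ G : Z.Modules, G.IsQuasicoherent ∧
      (SheafOfModules.IsFiniteType (R := X.ringCatSheaf) F →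
        SheafOfModules.IsFiniteType (R := Z.ringCatSheaf) G) ∧
      Nonempty ((Scheme.Modules.pushforward i).obj G ≅ F) := by
  haveI := isIso_unit i F hk
  refine ⟨(Scheme.Modules.pullback i).obj F, inferInstance, fun hft => ?_,
    ⟨(asIso ((Scheme.Modules.pullbackPushforwardAdjunction i).unit.app F)).symm⟩⟩
  haveI := hft
  exact FpqcH8.isFiniteType_pullback i F

end Geo2

end ClPushH8
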