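import Mathlib
import Groth.Prelude.Def_ClSub2

/-!
# Closed subsets proper over a base (`ClSub.IsProperOver`)

* `ProperOver.isProper_of_jointly_surjective`: properness descends along a jointly surjective pair
  of universally closed morphisms.
* `ProperOver.isProperOver_iff_of_closedImmersion`: `IsProperOver f Z` can be tested on any closed
  subscheme structure on `Z`.
* images, preimages, base change, unions, closed subsets.
-/

universe u

open CategoryTheory CategoryTheory.Limits AlgebraicGeometry Opposite TopologicalSpace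

namespace ProperOver

section General

variable {A B W S : Scheme.{u}}

theorem range_comp' {X Y Z : Scheme.{u}} (f : X ⟶ Y) (g : Y ⟶ Z) :
    Set.range (f ≫ g) = g '' Set.range f := by
  ext z
  constructor
  · rintro ⟨x, rfl⟩
    exact ⟨f x, ⟨x, rfl⟩, (Scheme.Hom.comp_apply f g x).symm⟩
  · rintro ⟨_, ⟨x, rfl⟩, rfl⟩
    exact ⟨x, Scheme.Hom.comp_apply f g x⟩

theorem isClosed_range_comp_diagonal (a : A ⟶ W) (h : W ⟶ S) [UniversallyClosed a]
    [IsSeparated (a ≫ h)] : IsClosed (Set.range (a ≫ pullback.diagonal h)) := by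
  have hm : UniversallyClosed (pullback.map (a ≫ h) (a ≫ h) h h a a (𝟙 S)
      ((Category.comp_id _).trans rfl) ((Category.comp_id _).trans rfl)) :=
    MorphismProperty.pullbackMap (P := @UniversallyClosed) ‹UniversallyClosed a›
      ‹UniversallyClosed a› rfl rfl
  have hcomm : a ≫ pullback.diagonal h = pullback.diagonal (a ≫ h) ≫
      pullback.map (a ≫ h) (a ≫ h) h h a a (𝟙 S)
        ((Category.comp_id _).trans rfl) ((Category.comp_id _).trans rfl) := by
    apply pullback.hom_ext
    · rw [Category.assoc, Category.assoc, pullback.diagonal_fst, Category.comp_id]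
      unfold pullback.map
      rw [pullback.lift_fst, ← Category.assoc, pullback.diagonal_fst, Category.id_comp]
    · rw [Category.assoc, Category.assoc, pullback.diagonal_snd, Category.comp_id]
      unfold pullback.map
      rw [pullback.lift_snd, ← Category.assoc, pullback.diagonal_snd, Category.id_comp]
  rw [hcomm, range_comp']
  exact Scheme.Hom.isClosedMap _ _ (pullback.diagonal (a ≫ h)).isClosedEmbedding.isClosed_range

theorem isSeparated_of_jointly_surjective (a : A ⟶ W) (b : B ⟶ W) (h : W ⟶ S)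
    [UniversallyClosed a] [UniversallyClosed b] (hab : Set.range a ∪ Set.range b = Set.univ)
    [IsSeparated (a ≫ h)] [IsSeparated (b ≫ h)] : IsSeparated h := by
  constructor
  apply IsClosedImmersion.of_isPreimmersion
  have : Set.range (pullback.diagonal h) =
      Set.range (a ≫ pullback.diagonal h) ∪ Set.range (b ≫ pullback.diagonal h) := by
    rw [range_comp', range_comp', ← Set.image_union, hab, Set.image_univ]
  rw [this]
  exact (isClosed_range_comp_diagonal a h).union (isClosed_range_comp_diagonal b h)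

theorem universallyClosed_of_jointly_surjective (a : A ⟶ W) (b : B ⟶ W) (h : W ⟶ S)
    (hab : Set.range a ∪ Set.range b = Set.univ)
    [UniversallyClosed (a ≫ h)] [UniversallyClosed (b ≫ h)] : UniversallyClosed h := by
  constructor
  intro X' Y' i₁ i₂ f' H
  have ha : IsClosedMap (pullback.fst i₁ a ≫ f') :=
    UniversallyClosed.universally_isClosedMap _ _ _
      ((IsPullback.of_hasPullback i₁ a).paste_horiz H)
  have hb : IsClosedMap (pullback.fst i₁ b ≫ f') :=
    UniversallyClosed.universally_isClosedMap _ _ _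
      ((IsPullback.of_hasPullback i₁ b).paste_horiz H)
  show IsClosedMap f'
  intro C hC
  have hcover : Set.range (pullback.fst i₁ a) ∪ Set.range (pullback.fst i₁ b) = Set.univ := by
    rw [Scheme.Pullback.range_fst, Scheme.Pullback.range_fst, ← Set.preimage_union, hab,
      Set.preimage_univ]
  have : f' '' C = (pullback.fst i₁ a ≫ f') '' ((pullback.fst i₁ a) ⁻¹' C) ∪
      (pullback.fst i₁ b ≫ f') '' ((pullback.fst i₁ b) ⁻¹' C) := by
    ext y
    constructor
    · rintro ⟨x, hx, rfl⟩
      have hx' : x ∈ Set.range (pullback.fst i₁ a) ∪ Set.range (pullback.fst i₁ b) :=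
        hcover ▸ Set.mem_univ x
      rcases hx' with ⟨z, rfl⟩ | ⟨z, rfl⟩
      · exact Or.inl ⟨z, hx, Scheme.Hom.comp_apply _ _ _⟩
      · exact Or.inr ⟨z, hx, Scheme.Hom.comp_apply _ _ _⟩
    · rintro (⟨z, hz, rfl⟩ | ⟨z, hz, rfl⟩)
      · exact ⟨_, hz, (Scheme.Hom.comp_apply _ _ _).symm⟩
      · exact ⟨_, hz, (Scheme.Hom.comp_apply _ _ _).symm⟩
  rw [this]
  exact (ha _ (hC.preimage (pullback.fst i₁ a).continuous)).union
    (hb _ (hC.preimage (pullback.fst i₁ b).continuous))

/-- Properness descends along a jointly surjective pair of universally closed morphisms. -/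
theorem isProper_of_jointly_surjective (a : A ⟶ W) (b : B ⟶ W) (h : W ⟶ S)
    [UniversallyClosed a] [UniversallyClosed b] (hab : Set.range a ∪ Set.range b = Set.univ)
    [IsProper (a ≫ h)] [IsProper (b ≫ h)] [LocallyOfFiniteType h] : IsProper h := by
  rw [isProper_iff]
  exact ⟨isSeparated_of_jointly_surjective a b h hab,
    universallyClosed_of_jointly_surjective a b h hab, inferInstance⟩

/-- Properness descends along a surjective universally closed morphism. -/
theorem isProper_of_comp_surjective (g : A ⟶ W) (h : W ⟶ S) [Surjective g] [UniversallyClosed g]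
    [IsProper (g ≫ h)] [LocallyOfFiniteType h] : IsProper h :=
  isProper_of_jointly_surjective g g h (by rw [Set.union_self]; exact Set.range_eq_univ.mpr g.surjective)

end General

section Red

variable {X S : Scheme.{u}}

/-- The reduced induced closed subscheme structure on a closed subset. -/
noncomputable abbrev red (Z : Set X) (hZ : IsClosed Z) : Scheme.{u} :=
  (Scheme.IdealSheafData.vanishingIdeal ⟨Z, hZ⟩).subscheme

/-- Its inclusion. -/
noncomputable abbrev redι (Z : Set X) (hZ : IsClosed Z) : red Z hZ ⟶ X :=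
  (Scheme.IdealSheafData.vanishingIdeal ⟨Z, hZ⟩).subschemeι

theorem range_redι (Z : Set X) (hZ : IsClosed Z) : Set.range (redι Z hZ) = Z := by
  rw [Scheme.IdealSheafData.range_subschemeι]
  exact Scheme.IdealSheafData.coe_support_vanishingIdeal _

theorem ker_le_ker_redι {T : Scheme.{u}} (i : T ⟶ X) [QuasiCompact i] {Z : Set X}
    (hZ : IsClosed Z) (hr : Z ⊆ closure (Set.range i)) : i.ker ≤ (redι Z hZ).ker := by
  rw [Scheme.IdealSheafData.ker_subschemeι,
    ← Scheme.IdealSheafData.le_support_iff_le_vanishingIdeal]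
  intro x hx
  have hx' : x ∈ Z := hx
  have : x ∈ ((i.ker.support : Closeds X) : Set X) := by
    rw [Scheme.Hom.support_ker]
    exact hr hx'
  exact this

theorem exists_lift_red {T : Scheme.{u}} (i : T ⟶ X) [IsClosedImmersion i] {Z : Set X}
    (hZ : IsClosed Z) (hr : Z ⊆ Set.range i) :
    ∃ g : red Z hZ ⟶ T, IsClosedImmersion g ∧ g ≫ i = redι Z hZ := by
  have hle : i.ker ≤ (redι Z hZ).ker := ker_le_ker_redι i hZ (hr.trans subset_closure)
  refine ⟨IsClosedImmersion.lift i (redι Z hZ) hle, ?_, IsClosedImmersion.lift_fac _ _ _⟩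
  haveI : IsClosedImmersion (IsClosedImmersion.lift i (redι Z hZ) hle ≫ i) := by
    rw [IsClosedImmersion.lift_fac]
    infer_instance
  exact IsClosedImmersion.of_comp_isClosedImmersion _ i

theorem surjective_of_range_eq {T T' : Scheme.{u}} (i : T ⟶ X) (i' : T' ⟶ X) (g : T' ⟶ T)
    (hg : g ≫ i = i') (hi : Function.Injective i) (hr : Set.range i ⊆ Set.range i') :
    Surjective g := by
  constructor
  intro t
  obtain ⟨z, hz⟩ := hr ⟨t, rfl⟩
  refine ⟨z, hi ?_⟩
  rw [← Scheme.Hom.comp_apply, hg]
  exact hz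

/-- `IsProperOver f Z` can be tested on any closed subscheme structure on `Z`. -/
theorem isProperOver_iff_of_closedImmersion (f : X ⟶ S) [LocallyOfFiniteType f] {T : Scheme.{u}}
    (i : T ⟶ X) [IsClosedImmersion i] {Z : Set X} (hr : Set.range i = Z) :
    ClSub.IsProperOver f Z ↔ IsProper (i ≫ f) := by
  have hZ : IsClosed Z := hr ▸ i.isClosedEmbedding.isClosed_range
  obtain ⟨g, hg1, hg3⟩ := exists_lift_red i hZ hr.ge
  haveI : Surjective g := surjective_of_range_eq i (redι Z hZ) g hg3
    i.isClosedEmbedding.injective (by rw [range_redι, hr])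
  constructor
  · rintro ⟨h, hp⟩
    haveI : IsProper (g ≫ i ≫ f) := by
      rw [← Category.assoc, hg3]
      exact hp
    exact isProper_of_comp_surjective g (i ≫ f)
  · intro hp
    refine ⟨hZ, ?_⟩
    show IsProper (redι Z hZ ≫ f)
    rw [← hg3, Category.assoc]
    infer_instance

theorem isProperOver_self_iff (f : X ⟶ S) (Z : Set X) (hZ : IsClosed Z) :
    ClSub.IsProperOver f Z ↔ IsProper (redι Z hZ ≫ f) :=
  ⟨fun ⟨_, hp⟩ => hp, fun hp => ⟨hZ, hp⟩⟩

/-- A closed subset of a closed subset proper over `S` is proper over `S`. -/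
theorem isProperOver_of_subset (f : X ⟶ S) {Z A : Set X} (hZ : ClSub.IsProperOver f Z)
    (hA : IsClosed A) (hAZ : A ⊆ Z) : ClSub.IsProperOver f A := by
  obtain ⟨hcl, hp⟩ := hZ
  obtain ⟨g, hg1, hg3⟩ := exists_lift_red (redι Z hcl) hA (by rw [range_redι]; exact hAZ)
  refine ⟨hA, ?_⟩
  show IsProper (redι A hA ≫ f)
  rw [← hg3, Category.assoc]
  infer_instance

/-- The union of two closed subsets proper over `S` is proper over `S`. -/
theorem isProperOver_union (f : X ⟶ S) [LocallyOfFiniteType f] {A B : Set X}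
    (hA : ClSub.IsProperOver f A) (hB : ClSub.IsProperOver f B) :
    ClSub.IsProperOver f (A ∪ B) := by
  obtain ⟨hAc, hAp⟩ := hA
  obtain ⟨hBc, hBp⟩ := hB
  have hcl : IsClosed (A ∪ B) := hAc.union hBc
  refine ⟨hcl, ?_⟩
  obtain ⟨a, ha1, ha3⟩ := exists_lift_red (redι (A ∪ B) hcl) hAc
    (by rw [range_redι]; exact Set.subset_union_left)
  obtain ⟨b, hb1, hb3⟩ := exists_lift_red (redι (A ∪ B) hcl) hBc
    (by rw [range_redι]; exact Set.subset_union_right)
  have hab : Set.range a ∪ Set.range b = Set.univ := by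
    refine Set.eq_univ_of_forall (fun w => ?_)
    have hw : redι (A ∪ B) hcl w ∈ A ∪ B := by
      have hw0 : redι (A ∪ B) hcl w ∈ Set.range (redι (A ∪ B) hcl) := ⟨w, rfl⟩
      rwa [range_redι] at hw0
    have hinj : Function.Injective (redι (A ∪ B) hcl) :=
      (redι (A ∪ B) hcl).isClosedEmbedding.injective
    rcases hw with hw | hw
    · have hw' : redι (A ∪ B) hcl w ∈ Set.range (redι A hAc) := by
        rw [range_redι]; exact hw
      obtain ⟨z, hz⟩ := hw'
      refine Or.inl ⟨z, hinj ?_⟩
      rw [← Scheme.Hom.comp_apply, ha3]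
      exact hz
    · have hw' : redι (A ∪ B) hcl w ∈ Set.range (redι B hBc) := by
        rw [range_redι]; exact hw
      obtain ⟨z, hz⟩ := hw'
      refine Or.inr ⟨z, hinj ?_⟩
      rw [← Scheme.Hom.comp_apply, hb3]
      exact hz
  haveI : IsProper (a ≫ redι (A ∪ B) hcl ≫ f) := by
    rw [← Category.assoc, ha3]
    exact hAp
  haveI : IsProper (b ≫ redι (A ∪ B) hcl ≫ f) := by
    rw [← Category.assoc, hb3]
    exact hBp
  exact isProper_of_jointly_surjective a b (redι (A ∪ B) hcl ≫ f) hab

theorem isProperOver_empty (f : X ⟶ S) : ClSub.IsProperOver f (∅ : Set X) := by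
  refine ⟨isClosed_empty, ?_⟩
  haveI : IsEmpty (red (∅ : Set X) isClosed_empty) := by
    have h : Set.range (redι (∅ : Set X) isClosed_empty) = ∅ := range_redι _ _
    exact Set.range_eq_empty_iff.mp h
  show IsProper (redι (∅ : Set X) isClosed_empty ≫ f)
  infer_instance

/-- Finite unions. -/
theorem isProperOver_iUnion (f : X ⟶ S) [LocallyOfFiniteType f] (ι : Type) [Finite ι]
    (Z : ι → Set X) (hZ : ∀ i, ClSub.IsProperOver f (Z i)) :
    ClSub.IsProperOver f (Set.iUnion Z) := by
  induction ι using Finite.induction_empty_option with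
  | of_equiv e ih =>
    rename_i α β
    have := ih (fun a => Z (e a)) (fun a => hZ (e a))
    have heq : (⋃ a, Z (e a)) = ⋃ b, Z b := by
      ext x
      simp only [Set.mem_iUnion]
      exact ⟨fun ⟨a, ha⟩ => ⟨e a, ha⟩, fun ⟨b, hb⟩ => ⟨e.symm b, by simpa using hb⟩⟩
    rw [← heq]
    exact this
  | h_empty =>
    rw [Set.iUnion_of_empty]
    exact isProperOver_empty f
  | h_option ih =>
    rw [Set.iUnion_option]
    exact isProperOver_union f (hZ none) (ih (fun a => Z (some a)) (fun a => hZ (some a)))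

end Red

section Functorial

variable {X Y S : Scheme.{u}}

/-- Images of closed subsets proper over `S`. -/
theorem isProperOver_image (p : X ⟶ S) (q : Y ⟶ S) [LocallyOfFiniteType q] (f : X ⟶ Y)
    (w : f ≫ q = p) (Z : Set X) (hZ : ClSub.IsProperOver p Z)
    (huc : ∀ h : IsClosed Z, UniversallyClosed (redι Z h ≫ f)) :
    ClSub.IsProperOver q (f '' Z) := by
  obtain ⟨hcl, hp⟩ := hZ
  haveI := huc hcl
  have hrange : Set.range (redι Z hcl ≫ f) = f '' Z := by rw [range_comp', range_redι]
  have hclosed : IsClosed (f '' Z) :=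
    hrange ▸ (Scheme.Hom.isClosedMap (redι Z hcl ≫ f)).isClosed_range
  have hrι : Set.range (redι Z hcl ≫ f).imageι = f '' Z := by
    rw [Scheme.IdealSheafData.range_subschemeι, Scheme.Hom.support_ker, hrange,
      hclosed.closure_eq]
  rw [isProperOver_iff_of_closedImmersion q (redι Z hcl ≫ f).imageι hrι]
  haveI : Surjective (redι Z hcl ≫ f).toImage :=
    surjective_of_isDominant_of_isClosed_range _
      (Scheme.Hom.isClosedMap (redι Z hcl ≫ f).toImage).isClosed_range
  haveI : IsProper ((redι Z hcl ≫ f).toImage ≫ (redι Z hcl ≫ f).imageι ≫ q) := by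
    rw [← Category.assoc, Scheme.Hom.toImage_imageι, Category.assoc, w]
    exact hp
  exact isProper_of_comp_surjective (redι Z hcl ≫ f).toImage ((redι Z hcl ≫ f).imageι ≫ q)

theorem isProperOver_image_of_isSeparated (p : X ⟶ S) (q : Y ⟶ S) [LocallyOfFiniteType q]
    [IsSeparated q] (f : X ⟶ Y) (w : f ≫ q = p) (Z : Set X) (hZ : ClSub.IsProperOver p Z) :
    ClSub.IsProperOver q (f '' Z) := by
  refine isProperOver_image p q f w Z hZ (fun h => ?_)
  obtain ⟨hcl, hp⟩ := hZ
  haveI : IsProper ((redι Z h ≫ f) ≫ q) := by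
    rw [Category.assoc, w]
    exact hp
  haveI : IsProper (redι Z h ≫ f) := IsProper.of_comp (redι Z h ≫ f) q
  infer_instance

theorem isProperOver_image_of_universallyClosed (p : X ⟶ S) (q : Y ⟶ S) [LocallyOfFiniteType q]
    (f : X ⟶ Y) [UniversallyClosed f] (w : f ≫ q = p) (Z : Set X)
    (hZ : ClSub.IsProperOver p Z) : ClSub.IsProperOver q (f '' Z) :=
  isProperOver_image p q f w Z hZ (fun _ => inferInstance)

theorem isProperOver_preimage_of_isProper (p : X ⟶ S) (q : Y ⟶ S) [LocallyOfFiniteType p]
    (f : X ⟶ Y) [IsProper f] (w : f ≫ q = p) (Z : Set Y) (hZ : ClSub.IsProperOver q Z) :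
    ClSub.IsProperOver p (f ⁻¹' Z) := by
  obtain ⟨hcl, hp⟩ := hZ
  have hr : Set.range (pullback.fst f (redι Z hcl)) = f ⁻¹' Z := by
    rw [Scheme.Pullback.range_fst, range_redι]
  rw [isProperOver_iff_of_closedImmersion p (pullback.fst f (redι Z hcl)) hr]
  have : pullback.fst f (redι Z hcl) ≫ p =
      pullback.snd f (redι Z hcl) ≫ (redι Z hcl ≫ q) := by
    rw [← w, ← Category.assoc, pullback.condition, Category.assoc]
  rw [this]
  haveI : IsProper (redι Z hcl ≫ q) := hp
  infer_instance

theorem isProperOver_preimage_of_isPullback {X S X' S' : Scheme.{u}} (f : X ⟶ S)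
    [LocallyOfFiniteType f] (g : S' ⟶ S) (g' : X' ⟶ X) (f' : X' ⟶ S')
    (sq : IsPullback g' f' f g) (Z : Set X) (hZ : ClSub.IsProperOver f Z) :
    ClSub.IsProperOver f' (g' ⁻¹' Z) := by
  obtain ⟨hcl, hp⟩ := hZ
  haveI : LocallyOfFiniteType f' :=
    MorphismProperty.of_isPullback (P := @LocallyOfFiniteType) sq inferInstance
  have hr : Set.range (pullback.fst g' (redι Z hcl)) = g' ⁻¹' Z := by
    rw [Scheme.Pullback.range_fst, range_redι]
  rw [isProperOver_iff_of_closedImmersion f' (pullback.fst g' (redι Z hcl)) hr]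
  have big : IsPullback (pullback.snd g' (redι Z hcl)) (pullback.fst g' (redι Z hcl) ≫ f')
      (redι Z hcl ≫ f) g :=
    (IsPullback.of_hasPullback g' (redι Z hcl)).flip.paste_vert sq
  exact MorphismProperty.of_isPullback (P := @IsProper) big hp

end Functorial

end ProperOver
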