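import Mathlib
import Groth.Prelude
import Groth.Agent.Lib.ClPush1_helper8
import Groth.Agent.Lib.AnnSh_helper8
import Groth.Agent.Lib.ProperOver_helper9
import Groth.Agent.Lib.Tens14_helper8
import Groth.Agent.Lib.SupportCoh_helper9

/-!
# Modules with support proper over the base (helper8)
APPEND-ONLY once landed.
-/

set_option autoImplicit false

namespace ClPushH8

open AlgebraicGeometry CategoryTheory CategoryTheory.Limits TopologicalSpace Opposite
open QcqsLoc QCohExtn

universe u

section Supp

variable {Z X : Scheme.{u}} (i : Z ⟶ X)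

/-- The support of a pushforward is contained in the closure of the image. -/
theorem support_subset_range (hcl : IsClosed (Set.range i)) (G : Z.Modules) (F : X.Modules)
    (e : (Scheme.Modules.pushforward i).obj G ≅ F) : CohB1.support F ⊆ Set.range i := by
  intro x hx
  by_contra hxr
  apply hx
  let V : X.Opens := ⟨(Set.range i)ᶜ, hcl.isOpen_compl⟩
  have hxV : x ∈ V := hxr
  have hsub : ∀ O : X.Opens, O ≤ V → Subsingleton Γ(F, O) := by
    intro O hO
    haveI h1 : Subsingleton Γ((Scheme.Modules.pushforward i).obj G, O) := by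
      show Subsingleton Γ(G, i ⁻¹ᵁ O)
      exact QCohCrit.subsingleton_sections G (i ⁻¹ᵁ O) (fun z hz => absurd ⟨z, rfl⟩ (hO hz))
    refine ⟨fun s t => ?_⟩
    rw [← TensH8.ap_hom_inv e O s, ← TensH8.ap_hom_inv e O t]
    congr 1
    exact Subsingleton.elim _ _
  refine ⟨fun s t => ?_⟩
  obtain ⟨W, hxW, s', rfl⟩ := TopCat.Presheaf.exists_germ_eq F.presheaf s
  obtain ⟨W', hxW', t', rfl⟩ := TopCat.Presheaf.exists_germ_eq F.presheaf t
  have hO1 : W ⊓ W' ⊓ V ≤ W := inf_le_left.trans inf_le_left
  have hO2 : W ⊓ W' ⊓ V ≤ W' := inf_le_left.trans inf_le_right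
  have hxO : x ∈ W ⊓ W' ⊓ V := ⟨⟨hxW, hxW'⟩, hxV⟩
  haveI := hsub (W ⊓ W' ⊓ V) inf_le_right
  rw [← TopCat.Presheaf.germ_res_apply F.presheaf (homOfLE hO1) x hxO s',
    ← TopCat.Presheaf.germ_res_apply F.presheaf (homOfLE hO2) x hxO t']
  congr 1
  exact Subsingleton.elim _ _

end Supp

section Main

variable {X S : Scheme.{u}} (f : X ⟶ S) [LocallyOfFiniteType f] (F : X.Modules)
  [F.IsQuasicoherent] (hft : SheafOfModules.IsFiniteType (R := X.ringCatSheaf) F)

include hft in
theorem isProperOver_support_iff :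
    ClSub.IsProperOver f (CohB1.support F) ↔
      ∃ (Z : Scheme.{u}) (i : Z ⟶ X), IsClosedImmersion i ∧ IsProper (i ≫ f) ∧
        ∃ G : Z.Modules, G.IsQuasicoherent ∧ SheafOfModules.IsFiniteType (R := Z.ringCatSheaf) G ∧
          Nonempty ((Scheme.Modules.pushforward i).obj G ≅ F) := by
  haveI := hft
  constructor
  · intro hF
    have hrange : Set.range (AnnShH8.annIdeal F).subschemeι = CohB1.support F := by
      rw [Scheme.IdealSheafData.range_subschemeι]
      exact AnnShH8.support_annIdeal F
    have hprop : IsProper ((AnnShH8.annIdeal F).subschemeι ≫ f) :=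
      (ProperOver.isProperOver_iff_of_closedImmersion f _ hrange).mp hF
    have hk : ClSub.KilledByIdeal (AnnShH8.annIdeal F).subschemeι.ker F := by
      intro U a ha m
      rw [Scheme.IdealSheafData.ker_subschemeι, AnnShH8.annIdeal_ideal] at ha
      exact Module.mem_annihilator.mp ha m
    obtain ⟨G, hGq, hGft, hiso⟩ :=
      exists_pushforward_iso (AnnShH8.annIdeal F).subschemeι F hk
    exact ⟨_, (AnnShH8.annIdeal F).subschemeι, inferInstance, hprop, G, hGq, hGft hft, hiso⟩
  · rintro ⟨Z, i, hi, hp, G, -, -, ⟨e⟩⟩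
    have hcl : IsClosed (CohB1.support F) := SupportCoh.isClosed_support F
    have hsub := support_subset_range i i.isClosedEmbedding.isClosed_range G F e
    have h1 : ClSub.IsProperOver f (Set.range i) :=
      (ProperOver.isProperOver_iff_of_closedImmersion f i rfl).mpr hp
    exact ProperOver.isProperOver_of_subset f h1 hcl hsub

end Main

end ClPushH8
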