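import Mathlib

/-!
# Vanishing of `Ext` for finite coproducts and a two-term resolution lemma (helper3)
-/

set_option autoImplicit false
universe w v u
open CategoryTheory CategoryTheory.Limits CategoryTheory.Abelian

namespace Groth.Agent.Lib.ExtVanish_helper3

variable {C : Type u} [Category.{v} C] [Abelian C] [HasExt.{w} C]

theorem subsingleton_ext_of_iso_right {X A B : C} (e : A ≅ B) (p : ℕ)
    (h : Subsingleton (Ext X B p)) : Subsingleton (Ext X A p) := by
  have key : ∀ z : Ext X A p, z = 0 := fun z => by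
    have h1 : z.comp (Ext.mk₀ e.hom) (add_zero p) = 0 := Subsingleton.elim _ _
    have h2 : (z.comp (Ext.mk₀ e.hom) (add_zero p)).comp (Ext.mk₀ e.inv) (add_zero p) = z := by
      rw [Ext.comp_assoc_of_third_deg_zero, Ext.mk₀_comp_mk₀, e.hom_inv_id, Ext.comp_mk₀_id]
    rw [← h2, h1, Ext.zero_comp]
  exact ⟨fun x y => by rw [key x, key y]⟩

theorem subsingleton_ext_of_iso_left {Y A B : C} (e : A ≅ B) (p : ℕ)
    (h : Subsingleton (Ext B Y p)) : Subsingleton (Ext A Y p) := by
  have key : ∀ z : Ext A Y p, z = 0 := fun z => by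
    have h1 : (Ext.mk₀ e.inv).comp z (zero_add p) = 0 := Subsingleton.elim _ _
    have h2 : (Ext.mk₀ e.hom).comp ((Ext.mk₀ e.inv).comp z (zero_add p)) (zero_add p) = z := by
      rw [← Ext.comp_assoc_of_second_deg_zero, Ext.mk₀_comp_mk₀, e.hom_inv_id, Ext.mk₀_id_comp]
    rw [← h2, h1, Ext.comp_zero]
  exact ⟨fun x y => by rw [key x, key y]⟩

theorem subsingleton_ext_coprod_right {ι : Type} [Fintype ι] (F : ι → C) [HasCoproduct F]
    (X : C) (p : ℕ) (h : ∀ t, Subsingleton (Ext X (F t) p)) :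
    Subsingleton (Ext X (∐ F) p) := by
  classical
  haveI : HasFiniteBiproducts C := HasFiniteBiproducts.of_hasFiniteProducts
  refine subsingleton_ext_of_iso_right (biproduct.isoCoproduct F).symm p ?_
  exact (Ext.addEquivBiproduct X (biproduct.isBilimit F) p).toEquiv.subsingleton

theorem subsingleton_ext_coprod_left {ι : Type} [Fintype ι] (F : ι → C) [HasCoproduct F]
    (Y : C) (p : ℕ) (h : ∀ t, Subsingleton (Ext (F t) Y p)) :
    Subsingleton (Ext (∐ F) Y p) := by
  classical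
  haveI : HasFiniteBiproducts C := HasFiniteBiproducts.of_hasFiniteProducts
  refine subsingleton_ext_of_iso_left (biproduct.isoCoproduct F).symm p ?_
  exact (Ext.biproductAddEquiv (biproduct.isBilimit F) Y p).toEquiv.subsingleton

theorem twoTerm {n d : ℕ} (E : Fin n → C)
    (hexc : ∀ i j : Fin n, j < i → ∀ p : ℕ, Subsingleton (Ext (E i) (E j) p))
    (hstr : ∀ (i j : Fin n) (p : ℕ), 1 ≤ p → Subsingleton (Ext (E i) (E j) p))
    (S : ShortComplex C) (hS : S.ShortExact)
    (m₁ : ℕ) (c₁ : Fin m₁ → Fin n) [HasCoproduct fun t => E (c₁ t)]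
    (e₁ : S.X₁ ≅ ∐ fun t => E (c₁ t))
    (m₂ : ℕ) (c₂ : Fin m₂ → Fin n) (hc₂ : ∀ t, d ≤ (c₂ t : ℕ)) [HasCoproduct fun t => E (c₂ t)]
    (e₂ : S.X₂ ≅ ∐ fun t => E (c₂ t)) :
    (∀ (i : Fin n) (p : ℕ), 1 ≤ p → Subsingleton (Ext (E i) S.X₃ p)) ∧
      (∀ i : Fin n, (i : ℕ) < d → ∀ p : ℕ, p ≠ 1 → Subsingleton (Ext S.X₃ (E i) p)) := by
  have hX1r : ∀ (i : Fin n) (p : ℕ), 1 ≤ p → Subsingleton (Ext (E i) S.X₁ p) := fun i p hp =>
    subsingleton_ext_of_iso_right e₁ p
      (subsingleton_ext_coprod_right _ _ p fun t => hstr i (c₁ t) p hp)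
  have hX2r : ∀ (i : Fin n) (p : ℕ), 1 ≤ p → Subsingleton (Ext (E i) S.X₂ p) := fun i p hp =>
    subsingleton_ext_of_iso_right e₂ p
      (subsingleton_ext_coprod_right _ _ p fun t => hstr i (c₂ t) p hp)
  have hX1l : ∀ (i : Fin n) (p : ℕ), 1 ≤ p → Subsingleton (Ext S.X₁ (E i) p) := fun i p hp =>
    subsingleton_ext_of_iso_left e₁ p
      (subsingleton_ext_coprod_left _ _ p fun t => hstr (c₁ t) i p hp)
  have hX2l : ∀ (i : Fin n) (p : ℕ), 1 ≤ p → Subsingleton (Ext S.X₂ (E i) p) := fun i p hp =>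
    subsingleton_ext_of_iso_left e₂ p
      (subsingleton_ext_coprod_left _ _ p fun t => hstr (c₂ t) i p hp)
  constructor
  · intro i p hp
    have key : ∀ x : Ext (E i) S.X₃ p, x = 0 := fun x => by
      haveI := hX1r i (p + 1) (by omega)
      haveI := hX2r i p hp
      obtain ⟨x₂, hx₂⟩ := Ext.covariant_sequence_exact₃ (E i) hS x rfl (Subsingleton.elim _ _)
      rw [← hx₂, Subsingleton.elim x₂ 0, Ext.zero_comp]
    exact ⟨fun x y => by rw [key x, key y]⟩
  · intro i hi p hp
    rcases Nat.lt_or_ge p 1 with h0 | h1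
    · obtain rfl : p = 0 := by omega
      haveI := hS.epi_g
      have hinj := Ext.precomp_mk₀_injective_of_epi (E i) S.g
      haveI : Subsingleton (Ext S.X₂ (E i) 0) :=
        subsingleton_ext_of_iso_left e₂ 0
          (subsingleton_ext_coprod_left _ _ 0 fun t => hexc (c₂ t) i
            (Fin.lt_def.2 (lt_of_lt_of_le hi (hc₂ t))) 0)
      exact hinj.subsingleton
    · have hp2 : 2 ≤ p := by omega
      have key : ∀ x : Ext S.X₃ (E i) p, x = 0 := fun x => by
        haveI := hX2l i p (by omega)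
        haveI := hX1l i (p - 1) (by omega)
        obtain ⟨x₁, hx₁⟩ := Ext.contravariant_sequence_exact₃ hS (E i) x
          (Subsingleton.elim _ _) (n₀ := p - 1) (by omega)
        rw [← hx₁, Subsingleton.elim x₁ 0, Ext.comp_zero]
      exact ⟨fun x y => by rw [key x, key y]⟩

end Groth.Agent.Lib.ExtVanish_helper3
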