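import Mathlib
import Groth.Agent.Lib.AffVanish_helper9

/-!
# Mayer–Vietoris induction for the cohomology of quasi-coherent modules

* `AffVanish.ext_sup_eq_zero`: Mayer–Vietoris vanishing.
* `AffVanish.ext_supL_eq_zero`: vanishing over a union of `k` affine opens with affine
  intersections, in degrees `≥ k`.
* `AffVanish.HH_subsingleton_of_cover`: the same for the whole scheme.
-/

universe u

open CategoryTheory CategoryTheory.Limits AlgebraicGeometry Opposite TopologicalSpace
open Groth.Agent.Lib.FreeSheaf Groth.Agent.Lib.FlasqueAcyclic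

namespace AffVanish

section Top

variable {Y : TopCat.{u}}

/-- The free abelian sheaf on an open. -/
noncomputable abbrev fs (W : Opens Y) : TopCat.Sheaf AddCommGrpCat.{u} Y :=
  freeSheaf (Opens.grothendieckTopology Y) W

/-- Vanishing of `Ext` passes to retracts in the first variable. -/
theorem ext_eq_zero_of_retract {K G F : TopCat.Sheaf AddCommGrpCat.{u} Y} (α : K ⟶ G)
    (β : G ⟶ K) (hαβ : α ≫ β = 𝟙 K) {n : ℕ} (h : ∀ y : Abelian.Ext G F n, y = 0)
    (x : Abelian.Ext K F n) : x = 0 := by
  have h1 : (Abelian.Ext.mk₀ α).comp ((Abelian.Ext.mk₀ β).comp x (zero_add n)) (zero_add n) = x := by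
    rw [Abelian.Ext.mk₀_comp_mk₀_assoc, hαβ, Abelian.Ext.mk₀_id_comp]
  have h2 := h ((Abelian.Ext.mk₀ β).comp x (zero_add n))
  rw [← h1, h2]
  exact Abelian.Ext.comp_zero _ _ _ _ _

/-- Mayer–Vietoris vanishing. -/
theorem ext_sup_eq_zero (F : TopCat.Sheaf AddCommGrpCat.{u} Y) (U V : Opens Y) (n₀ n₁ : ℕ)
    (h : 1 + n₀ = n₁) (h₁ : ∀ x : Abelian.Ext (fs (U ⊓ V)) F n₀, x = 0)
    (h₂ : ∀ x : Abelian.Ext (fs U) F n₁, x = 0) (h₃ : ∀ x : Abelian.Ext (fs V) F n₁, x = 0)
    (x : Abelian.Ext (fs (U ⊔ V)) F n₁) : x = 0 := by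
  let S := Opens.mayerVietorisSquare U V
  have hS := S.shortComplex_shortExact
  have hx : (Abelian.Ext.mk₀ S.shortComplex.g).comp x (zero_add n₁) = 0 := by
    apply Abelian.Ext.biprodAddEquiv.injective
    exact Prod.ext ((h₂ _).trans (h₂ _).symm) ((h₃ _).trans (h₃ _).symm)
  obtain ⟨x₁, hx₁⟩ := Abelian.Ext.contravariant_sequence_exact₃ hS F x hx h
  rw [← hx₁, h₁ x₁]
  exact Abelian.Ext.comp_zero _ _ _ _ _

/-- The constant sheaf `ℤ` is a retract of the free sheaf on `⊤`. -/
theorem const_retract :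
    ∃ (α : (constantSheaf (Opens.grothendieckTopology Y) AddCommGrpCat.{u}).obj
        (AddCommGrpCat.of (ULift ℤ)) ⟶ fs (⊤ : Opens Y))
      (β : fs (⊤ : Opens Y) ⟶ (constantSheaf (Opens.grothendieckTopology Y) AddCommGrpCat.{u}).obj
        (AddCommGrpCat.of (ULift ℤ))), α ≫ β = 𝟙 _ := by
  let K : TopCat.Sheaf AddCommGrpCat.{u} Y :=
    (constantSheaf (Opens.grothendieckTopology Y) AddCommGrpCat.{u}).obj
      (AddCommGrpCat.of (ULift ℤ))
  let α : K ⟶ fs (⊤ : Opens Y) := (constEquiv (fs (⊤ : Opens Y))).symm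
    (freeSheafHomEquiv _ ⊤ (fs (⊤ : Opens Y)) (𝟙 _))
  let β : fs (⊤ : Opens Y) ⟶ K := (freeSheafHomEquiv _ ⊤ K).symm (constEquiv K (𝟙 K))
  refine ⟨α, β, ?_⟩
  apply (constEquiv K).injective
  rw [constEquiv_comp, Equiv.apply_symm_apply, ← freeSheafHomEquiv_comp, Category.id_comp,
    Equiv.apply_symm_apply]
  rfl

end Top

section Scheme

variable {X : Scheme.{u}}

/-- The union of a list of opens. -/
def supL (l : List X.Opens) : X.Opens := l.foldr (· ⊔ ·) ⊥

theorem supL_cons (A : X.Opens) (l : List X.Opens) : supL (A :: l) = A ⊔ supL l := rfl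

theorem inf_supL (A : X.Opens) (l : List X.Opens) : A ⊓ supL l = supL (l.map (A ⊓ ·)) := by
  induction l with
  | nil => exact inf_bot_eq _
  | cons B l ih => rw [supL_cons, List.map_cons, supL_cons, inf_sup_left, ih]

theorem le_supL {A : X.Opens} {l : List X.Opens} (h : A ∈ l) : A ≤ supL l := by
  induction l with
  | nil => exact absurd h List.not_mem_nil
  | cons B l ih =>
    rcases List.mem_cons.mp h with rfl | h
    · exact le_sup_left
    · exact (ih h).trans le_sup_right

/-- Vanishing over a union of `k` affine opens with affine intersections, in degrees `≥ k`. -/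
theorem ext_supL_eq_zero
    (hd : ∀ V W : X.Opens, IsAffineOpen V → IsAffineOpen W → IsAffineOpen (V ⊓ W))
    (F : TopCat.Sheaf AddCommGrpCat.{u} X.carrier) (hF : MV F) :
    ∀ (k : ℕ) (l : List X.Opens), l.length = k → (∀ A ∈ l, IsAffineOpen A) →
      ∀ n, k ≤ n → 1 ≤ n → ∀ x : Abelian.Ext (fs (Y := X.carrier) (supL l)) F n, x = 0 := by
  intro k
  induction k with
  | zero =>
    intro l hl _ n _ hn x
    have hl0 : l = [] := List.length_eq_zero_iff.mp hl
    subst hl0
    obtain ⟨m, rfl⟩ := Nat.exists_eq_succ_of_ne_zero (Nat.pos_iff_ne_zero.mp hn)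
    exact ext_freeSheaf_eq_zero_of_MV F hF ⊥ (isAffineOpen_bot X) m x
  | succ k ih =>
    intro l hl haff n hkn hn x
    match l, hl, haff, x with
    | A :: l', hl', haff, x =>
      have hl'' : l'.length = k := by simpa using hl'
      have hA : IsAffineOpen A := haff A (List.mem_cons_self ..)
      have haff' : ∀ B ∈ l', IsAffineOpen B := fun B hB => haff B (List.mem_cons_of_mem _ hB)
      obtain ⟨m, rfl⟩ := Nat.exists_eq_succ_of_ne_zero (Nat.pos_iff_ne_zero.mp hn)
      by_cases hk0 : k = 0
      · subst hk0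
        have hl0 : l' = [] := List.length_eq_zero_iff.mp hl''
        subst hl0
        have e : supL [A] = A := sup_bot_eq A
        revert x
        rw [e]
        intro x
        exact ext_freeSheaf_eq_zero_of_MV F hF A hA m x
      · have hm : 1 ≤ m := by omega
        refine ext_sup_eq_zero F A (supL l') m (m + 1) (by omega) ?_ ?_ ?_ x
        · intro y
          revert y
          rw [inf_supL]
          intro y
          exact ih (l'.map (A ⊓ ·)) (by simpa using hl'') (fun B hB => by
            obtain ⟨B', hB', rfl⟩ := List.mem_map.mp hB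
            exact hd A B' hA (haff' B' hB')) m (by omega) hm y
        · intro y
          exact ext_freeSheaf_eq_zero_of_MV F hF A hA m y
        · intro y
          exact ih l' hl'' haff' (m + 1) (by omega) (by omega) y

/-- `H^n(X, M) = 0` for `n ≥ t` when `X` is covered by `t` affine opens with affine
intersections. -/
theorem HH_subsingleton_of_cover (X : Scheme.{u}) (t : ℕ) (U : Fin t → X.Opens)
    (hU : ∀ i, IsAffineOpen (U i)) (hcov : ⨆ i, U i = ⊤)
    (hd : ∀ V W : X.Opens, IsAffineOpen V → IsAffineOpen W → IsAffineOpen (V ⊓ W))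
    (M : X.Modules) [M.IsQuasicoherent] (n : ℕ) (hn : t ≤ n) :
    Subsingleton (Coh.HH X M n) := by
  have hzero : ∀ x : Coh.HH X M n, x = 0 := by
    intro x
    by_cases hn0 : n = 0
    · subst hn0
      have ht : t = 0 := Nat.le_zero.mp hn
      subst ht
      have htop : (⊤ : X.Opens) = ⊥ := by
        rw [← hcov]
        exact iSup_of_empty _
      obtain ⟨f, rfl⟩ := (Abelian.Ext.mk₀_bijective _ _).2 x
      have hf : f = 0 := by
        apply (constEquiv (Coh.toAb M)).injective
        exact eq_of_bot (Coh.toAb M) htop _ _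
      rw [hf, Abelian.Ext.mk₀_zero]
    · have hn1 : 1 ≤ n := Nat.pos_of_ne_zero hn0
      let l : List X.Opens := (List.finRange t).map U
      have hl : l.length = t := by simp [l]
      have haff : ∀ A ∈ l, IsAffineOpen A := by
        intro A hA
        obtain ⟨i, -, rfl⟩ := List.mem_map.mp hA
        exact hU i
      have hsup : supL l = ⊤ := by
        have h1 : (⨆ i, U i) ≤ supL l :=
          iSup_le (fun i => le_supL (List.mem_map.mpr ⟨i, List.mem_finRange i, rfl⟩))
        rw [hcov] at h1
        exact top_le_iff.mp h1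
      have hv := ext_supL_eq_zero hd (Coh.toAb M) (MV_toAb M) t l hl haff n hn hn1
      rw [hsup] at hv
      obtain ⟨α, β, hαβ⟩ := const_retract (Y := X.carrier)
      exact ext_eq_zero_of_retract α β hαβ hv x
  exact ⟨fun a b => (hzero a).trans (hzero b).symm⟩

end Scheme

end AffVanish
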