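import Mathlib
import Groth.Agent.Lib.AffVanish2_helper9

/-!
# A uniform bound for the cohomology of quasi-coherent modules on a qcqs scheme
-/

universe u

open CategoryTheory CategoryTheory.Limits AlgebraicGeometry Opposite TopologicalSpace
open Groth.Agent.Lib.FreeSheaf Groth.Agent.Lib.FlasqueAcyclic

namespace AffVanish

variable {X : Scheme.{u}}

/-- Affine opens inside an affine open have affine intersections. -/
theorem isAffineOpen_inf_of_le {A V W : X.Opens} (hA : IsAffineOpen A) (hVA : V ≤ A)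
    (hWA : W ≤ A) (hV : IsAffineOpen V) (hW : IsAffineOpen W) : IsAffineOpen (V ⊓ W) := by
  have h : IsAffineHom (pullback.diagonal (𝟙 X)) := inferInstance
  exact isAffineHom_diagonal_iff.mp h A hA V (by simpa using hVA) W (by simpa using hWA) hV hW

theorem supL_le {l : List X.Opens} {W : X.Opens} (h : ∀ B ∈ l, B ≤ W) : supL l ≤ W := by
  induction l with
  | nil => exact bot_le
  | cons B l ih =>
    rw [supL_cons]
    exact sup_le (h B (List.mem_cons_self ..)) (ih (fun C hC => h C (List.mem_cons_of_mem _ hC)))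

/-- A variant of `ext_supL_eq_zero` for a class `P` of affine opens closed under intersections. -/
theorem ext_supL_eq_zero_of_pred (P : X.Opens → Prop) (hPa : ∀ V, P V → IsAffineOpen V)
    (hd : ∀ V W : X.Opens, P V → P W → P (V ⊓ W))
    (F : TopCat.Sheaf AddCommGrpCat.{u} X.carrier) (hF : MV F) :
    ∀ (k : ℕ) (l : List X.Opens), l.length = k → (∀ A ∈ l, P A) →
      ∀ n, k ≤ n → 1 ≤ n → ∀ x : Abelian.Ext (fs (Y := X.carrier) (supL l)) F n, x = 0 := by
  intro k
  induction k with
  | zero =>
    intro l hl _ n _ hn x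
    have hl0 : l = [] := List.length_eq_zero_iff.mp hl
    subst hl0
    obtain ⟨m, rfl⟩ := Nat.exists_eq_succ_of_ne_zero (Nat.pos_iff_ne_zero.mp hn)
    exact ext_freeSheaf_eq_zero_of_MV F hF ⊥ (isAffineOpen_bot X) m x
  | succ k ih =>
    intro l hl haff n hkn hn x
    match l, hl, haff, x with
    | A :: l', hl', haff, x =>
      have hl'' : l'.length = k := by simpa using hl'
      have hA : P A := haff A (List.mem_cons_self ..)
      have haff' : ∀ B ∈ l', P B := fun B hB => haff B (List.mem_cons_of_mem _ hB)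
      obtain ⟨m, rfl⟩ := Nat.exists_eq_succ_of_ne_zero (Nat.pos_iff_ne_zero.mp hn)
      by_cases hk0 : k = 0
      · subst hk0
        have hl0 : l' = [] := List.length_eq_zero_iff.mp hl''
        subst hl0
        have e : supL [A] = A := sup_bot_eq A
        revert x
        rw [e]
        intro x
        exact ext_freeSheaf_eq_zero_of_MV F hF A (hPa A hA) m x
      · have hm : 1 ≤ m := by omega
        refine ext_sup_eq_zero F A (supL l') m (m + 1) (by omega) ?_ ?_ ?_ x
        · intro y
          revert y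
          rw [inf_supL]
          intro y
          exact ih (l'.map (A ⊓ ·)) (by simpa using hl'') (fun B hB => by
            obtain ⟨B', hB', rfl⟩ := List.mem_map.mp hB
            exact hd A B' hA (haff' B' hB')) m (by omega) hm y
        · intro y
          exact ext_freeSheaf_eq_zero_of_MV F hF A (hPa A hA) m y
        · intro y
          exact ih l' hl'' haff' (m + 1) (by omega) (by omega) y

/-- `Bd W d`: the `Ext` groups out of the free sheaf on `W` into sheaves of class `MV` vanish in
positive degrees `≥ d`. -/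
def Bd (W : X.Opens) (d : ℕ) : Prop :=
  ∀ (F : TopCat.Sheaf AddCommGrpCat.{u} X.carrier), MV F → ∀ n, d ≤ n → 1 ≤ n →
    ∀ x : Abelian.Ext (fs (Y := X.carrier) W) F n, x = 0

theorem Bd_of_isAffineOpen {U : X.Opens} (hU : IsAffineOpen U) : Bd U 0 := by
  intro F hF n _ h1 x
  obtain ⟨m, rfl⟩ := Nat.exists_eq_succ_of_ne_zero (Nat.pos_iff_ne_zero.mp h1)
  exact ext_freeSheaf_eq_zero_of_MV F hF U hU m x

theorem Bd_sup {U V : X.Opens} {a b c : ℕ} (hU : Bd U a) (hV : Bd V b) (hUV : Bd (U ⊓ V) c) :
    Bd (U ⊔ V) (max (max a b) (max c 1 + 1)) := by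
  intro F hF n hn h1 x
  obtain ⟨m, rfl⟩ := Nat.exists_eq_succ_of_ne_zero (Nat.pos_iff_ne_zero.mp h1)
  have h2 : a ≤ m + 1 := (le_max_left a b).trans ((le_max_left _ _).trans hn)
  have h3 : b ≤ m + 1 := (le_max_right a b).trans ((le_max_left _ _).trans hn)
  have h4 : max c 1 + 1 ≤ m + 1 := (le_max_right _ _).trans hn
  have h5 : c ≤ m := (le_max_left c 1).trans (Nat.le_of_succ_le_succ h4)
  have h6 : 1 ≤ m := (le_max_right c 1).trans (Nat.le_of_succ_le_succ h4)
  refine ext_sup_eq_zero F U V m (m + 1) (by omega) ?_ ?_ ?_ x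
  · intro y
    exact hUV F hF m h5 h6 y
  · intro y
    exact hU F hF (m + 1) h2 h1 y
  · intro y
    exact hV F hF (m + 1) h3 h1 y

/-- A quasi-compact open inside an affine open has bounded cohomological dimension. -/
theorem Bd_of_le_affine {A U : X.Opens} (hA : IsAffineOpen A) (hUA : U ≤ A)
    (hU : IsCompact (U : Set X)) : ∃ d, Bd U d := by
  obtain ⟨s, hs, e⟩ := isCompact_iff_finite_and_eq_biUnion_affineOpens.mp hU
  let l : List X.Opens := hs.toFinset.toList.map (fun i : X.affineOpens => (i : X.Opens))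
  have hmem : ∀ B ∈ l, ∃ i ∈ s, (i : X.Opens) = B := by
    intro B hB
    obtain ⟨i, hi, rfl⟩ := List.mem_map.mp hB
    exact ⟨i, by simpa using hi, rfl⟩
  have hle : ∀ i ∈ s, (i : X.Opens) ≤ U := by
    intro i hi
    rw [e]
    exact le_iSup₂ (f := fun (i : X.affineOpens) (_ : i ∈ s) => (i : X.Opens)) i hi
  have hl : supL l = U := by
    apply le_antisymm
    · apply supL_le
      intro B hB
      obtain ⟨i, hi, rfl⟩ := hmem B hB
      exact hle i hi
    · rw [e]
      refine iSup₂_le (fun i hi => ?_)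
      exact le_supL (List.mem_map.mpr ⟨i, by simpa using hi, rfl⟩)
  have hP : ∀ B ∈ l, IsAffineOpen B ∧ B ≤ A := by
    intro B hB
    obtain ⟨i, hi, rfl⟩ := hmem B hB
    exact ⟨i.2, (hle i hi).trans hUA⟩
  refine ⟨l.length, fun F hF n hn h1 x => ?_⟩
  have := ext_supL_eq_zero_of_pred (fun V => IsAffineOpen V ∧ V ≤ A) (fun V h => h.1)
    (fun V W hV hW => ⟨isAffineOpen_inf_of_le hA hV.2 hW.2 hV.1 hW.1, inf_le_left.trans hV.2⟩)
    F hF l.length l rfl hP n hn h1
  rw [hl] at this
  exact this x

/-- Every quasi-compact open of a quasi-separated scheme has bounded cohomological dimension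
(for sheaves of class `MV`). -/
theorem exists_Bd [QuasiSeparatedSpace X] (S : X.Opens) (hS : IsCompact (S : Set X)) :
    ∃ d, Bd S d := by
  refine compact_open_induction_on (P := fun S => ∃ d, Bd S d) S hS ?_ ?_
  · exact ⟨0, Bd_of_isAffineOpen (isAffineOpen_bot X)⟩
  · rintro S hS U ⟨a, ha⟩
    have hU : Bd (U : X.Opens) 0 := Bd_of_isAffineOpen U.2
    have hSU : IsCompact ((S ⊓ (U : X.Opens) : X.Opens) : Set X) :=
      QuasiSeparatedSpace.inter_isCompact (S : Set X) ((U : X.Opens) : Set X) S.2 hS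
        (U : X.Opens).2 U.2.isCompact
    obtain ⟨c, hc⟩ := Bd_of_le_affine U.2 inf_le_right hSU
    exact ⟨_, Bd_sup ha hU hc⟩

/-- On a quasi-compact quasi-separated scheme the cohomology of quasi-coherent modules vanishes
above a uniform bound. -/
theorem exists_bound_HH (X : Scheme.{u}) [CompactSpace X] [QuasiSeparatedSpace X] :
    ∃ d : ℕ, ∀ (M : X.Modules), M.IsQuasicoherent → ∀ p : ℕ, d ≤ p →
      Subsingleton (Coh.HH X M p) := by
  obtain ⟨d, hd⟩ := exists_Bd (⊤ : X.Opens) isCompact_univ
  refine ⟨max d 1, fun M hM p hp => ?_⟩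
  haveI := hM
  have hv := hd (Coh.toAb M) (MV_toAb M) p ((le_max_left d 1).trans hp)
    ((le_max_right d 1).trans hp)
  obtain ⟨α, β, hαβ⟩ := const_retract (Y := X.carrier)
  have hzero : ∀ x : Coh.HH X M p, x = 0 := fun x => ext_eq_zero_of_retract α β hαβ hv x
  exact ⟨fun a b => (hzero a).trans (hzero b).symm⟩

end AffVanish
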