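import Mathlib
import Groth.Prelude.Def_CohTop
import Groth.Agent.Lib.AffVanish4_helper9

/-!
# Vanishing of higher direct images of abelian sheaves

* `RpushVanish.exists_local_primitive`: in an exact short complex of abelian sheaves, cocycles are
  locally coboundaries.
* `RpushVanish.exact_of_local`: the converse exactness criterion.
* `RpushVanish.isZero_rightDerived_succ`: a criterion for `R^{q+1} f_* F = 0` in terms of an
  injective resolution.
* `RpushVanish.isZero_Rpush_succ_of_basis`: `R^{q+1} f_* F = 0` if `H^{q+1}(f⁻¹ W, F) = 0` for `W`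
  in a basis.
* applications: flasque sheaves, closed embeddings, affine morphisms of schemes.
-/

universe u

open CategoryTheory CategoryTheory.Limits Opposite TopologicalSpace
open Groth.Agent.Lib.FreeSheaf

namespace RpushVanish

open AffVanish (Sec rs apS)

section Top

variable {Y : TopCat.{u}}

/-- The free abelian sheaf on an open. -/
noncomputable abbrev fr (U : Opens Y) : CohTop.Ab Y := freeSheaf (Opens.grothendieckTopology Y) U

theorem homEquiv_zero (U : Opens Y) (G : CohTop.Ab Y) :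
    freeSheafHomEquiv (Opens.grothendieckTopology Y) U G 0 = 0 := by
  have h := freeSheafHomEquiv_comp (Opens.grothendieckTopology Y) U (𝟙 (fr U)) (0 : fr U ⟶ G)
  rw [Limits.comp_zero] at h
  rw [h]
  rfl

theorem apS_comp {F G H : CohTop.Ab Y} (φ : F ⟶ G) (ψ : G ⟶ H) (U : Opens Y) (s : Sec F U) :
    apS (φ ≫ ψ) U s = apS ψ U (apS φ U s) := rfl

/-- The morphism from the free sheaf on `U` attached to a section over `U`. -/
noncomputable def ofSec {G : CohTop.Ab Y} {U : Opens Y} (s : Sec G U) : fr U ⟶ G :=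
  (freeSheafHomEquiv (Opens.grothendieckTopology Y) U G).symm s

theorem homEquiv_ofSec {G : CohTop.Ab Y} {U : Opens Y} (s : Sec G U) :
    freeSheafHomEquiv (Opens.grothendieckTopology Y) U G (ofSec s) = s :=
  Equiv.apply_symm_apply _ s

theorem ofSec_comp {G H : CohTop.Ab Y} {U : Opens Y} (φ : G ⟶ H) (s : Sec G U) :
    ofSec s ≫ φ = ofSec (apS φ U s) := by
  apply (freeSheafHomEquiv (Opens.grothendieckTopology Y) U H).injective
  rw [freeSheafHomEquiv_comp, homEquiv_ofSec, homEquiv_ofSec]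

theorem ofSec_zero {G : CohTop.Ab Y} {U : Opens Y} : ofSec (0 : Sec G U) = 0 := by
  apply (freeSheafHomEquiv (Opens.grothendieckTopology Y) U G).injective
  rw [homEquiv_zero, homEquiv_ofSec]

/-- The tautological section of the free sheaf. -/
noncomputable def gen (U : Opens Y) : Sec (fr U) U :=
  freeSheafHomEquiv (Opens.grothendieckTopology Y) U (fr U) (𝟙 _)

theorem apS_ofSec_gen {G : CohTop.Ab Y} {U : Opens Y} (s : Sec G U) :
    apS (ofSec s) U (gen U) = s := by
  have h2 := freeSheafHomEquiv_comp (Opens.grothendieckTopology Y) U (𝟙 (fr U)) (ofSec s)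
  rw [Category.id_comp, homEquiv_ofSec] at h2
  exact h2.symm

/-- In an exact short complex of abelian sheaves, cocycles are locally coboundaries. -/
theorem exists_local_primitive (S : ShortComplex (CohTop.Ab Y)) (hS : S.Exact)
    {U : Opens Y} (s : Sec S.X₂ U) (hs : apS S.g U s = 0) (x : Y) (hx : x ∈ U) :
    ∃ (W : Opens Y) (hW : W ≤ U), x ∈ W ∧ ∃ t : Sec S.X₁ W, apS S.f W t = rs S.X₂ hW s := by
  have ha : ofSec s ≫ S.g = 0 := by rw [ofSec_comp, hs, ofSec_zero]
  obtain ⟨A', π, hπ, x₁, fac⟩ := hS.exact_up_to_refinements (ofSec s) ha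
  haveI : Epi (C := TopCat.Sheaf AddCommGrpCat.{u} Y) π := hπ
  obtain ⟨W, hW, hxW, b, hb⟩ := AffVanish.exists_local_lift (F := A') (G := fr U) π (gen U) x hx
  refine ⟨W, hW, hxW, apS x₁ W b, ?_⟩
  have h1 : apS S.f W (apS x₁ W b) = apS (ofSec s) W (apS π W b) := by
    have := congrArg (fun ψ => apS ψ W b) fac
    exact this.symm
  rw [h1, hb, AffVanish.ap_rs, apS_ofSec_gen]

theorem injective_of_mono {F G : CohTop.Ab Y} (φ : F ⟶ G) [Mono φ] (U : Opens Y) :
    Function.Injective (apS φ U) := by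
  have h1 : Mono φ.hom := (Sheaf.Hom.mono_iff_presheaf_mono _ _ φ).mp inferInstance
  have h2 : Mono (φ.hom.app (op U)) := (NatTrans.mono_iff_mono_app φ.hom).mp h1 (op U)
  exact (AddCommGrpCat.mono_iff_injective _).mp h2

/-- Exactness criterion: cocycles are locally coboundaries. -/
theorem exact_of_local (S : ShortComplex (CohTop.Ab Y))
    (h : ∀ (U : Opens Y) (s : Sec S.X₂ U), apS S.g U s = 0 → ∀ x ∈ U,
      ∃ (W : Opens Y) (hW : W ≤ U), x ∈ W ∧ ∃ t : Sec S.X₁ W, apS S.f W t = rs S.X₂ hW s) :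
    S.Exact := by
  rw [S.exact_iff_epi_toCycles]
  refine (TopCat.Sheaf.isLocallySurjective_iff_epi (F := S.X₁) (G := S.cycles) S.toCycles).mp ?_
  rw [TopCat.Presheaf.isLocallySurjective_iff]
  intro U c x hx
  have hgc : apS S.g U (apS S.iCycles U c) = 0 := by
    have := congrArg (fun ψ => apS ψ U c) S.iCycles_g
    exact this
  obtain ⟨W, hW, hxW, t, ht⟩ := h U (apS S.iCycles U c) hgc x hx
  refine ⟨W, hW, ⟨t, ?_⟩, hxW⟩
  apply injective_of_mono S.iCycles W
  have h1 : apS S.iCycles W (apS S.toCycles W t) = apS S.f W t := by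
    have := congrArg (fun ψ => apS ψ W t) S.toCycles_i
    exact this
  rw [h1, ht]
  exact (AffVanish.ap_rs S.iCycles hW c).symm

end Top

section Push

variable {X Y : TopCat.{u}}

theorem leMap (f : X ⟶ Y) {W V : Opens Y} (h : W ≤ V) :
    (Opens.map f).obj W ≤ (Opens.map f).obj V := fun _ hx => h hx

/-- A criterion for the vanishing of `R^{q+1} f_* F` in terms of an injective resolution. -/
theorem isZero_rightDerived_succ (f : X ⟶ Y) (F : CohTop.Ab X) (q : ℕ) (R : InjectiveResolution F)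
    (h : ∀ (V : Opens Y) (s : Sec (R.cocomplex.X (q + 1)) ((Opens.map f).obj V)),
      apS (R.cocomplex.d (q + 1) (q + 2)) ((Opens.map f).obj V) s = 0 → ∀ y ∈ V,
      ∃ (W : Opens Y) (hW : W ≤ V), y ∈ W ∧ ∃ t : Sec (R.cocomplex.X q) ((Opens.map f).obj W),
        apS (R.cocomplex.d q (q + 1)) ((Opens.map f).obj W) t =
          rs (R.cocomplex.X (q + 1)) (leMap f hW) s) :
    IsZero ((CohTop.Rpush f (q + 1)).obj F) := by
  refine IsZero.of_iso ?_ (R.isoRightDerivedObj (CohTop.push f) (q + 1))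
  let K := ((CohTop.push f).mapHomologicalComplex (ComplexShape.up ℕ)).obj R.cocomplex
  change IsZero (K.homology (q + 1))
  rw [← HomologicalComplex.exactAt_iff_isZero_homology]
  rw [HomologicalComplex.exactAt_iff' K q (q + 1) (q + 2) (by simp)
    (by simp only [CochainComplex.next]; rfl)]
  apply exact_of_local
  intro V s hs y hy
  exact h V s hs y hy

/-- If `Ext^{q+1}(ℤ_U, F) = 0` then cocycles over `U` in an injective resolution are
coboundaries. -/
theorem exists_primitive_of_ext_eq_zero (F : CohTop.Ab X) (R : InjectiveResolution F)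
    (U : Opens X) (q : ℕ) (hext : ∀ ξ : Abelian.Ext (fr U) F (q + 1), ξ = 0)
    (s : Sec (R.cocomplex.X (q + 1)) U) (hs : apS (R.cocomplex.d (q + 1) (q + 2)) U s = 0) :
    ∃ t : Sec (R.cocomplex.X q) U, apS (R.cocomplex.d q (q + 1)) U t = s := by
  have ha : ofSec s ≫ R.cocomplex.d (q + 1) (q + 2) = 0 := by rw [ofSec_comp, hs, ofSec_zero]
  have h0 := hext (R.extMk (ofSec s) (q + 2) rfl ha)
  obtain ⟨g, hg⟩ := (R.extMk_eq_zero_iff (ofSec s) (q + 2) rfl ha q rfl).mp h0
  refine ⟨freeSheafHomEquiv (Opens.grothendieckTopology X) U _ g, ?_⟩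
  have h2 := freeSheafHomEquiv_comp (Opens.grothendieckTopology X) U g (R.cocomplex.d q (q + 1))
  rw [hg, homEquiv_ofSec] at h2
  exact h2.symm

/-- `R^{q+1} f_* F = 0` if `H^{q+1}(f⁻¹ W, F) = 0` for all `W` in a basis. -/
theorem isZero_Rpush_succ_of_basis (f : X ⟶ Y) (F : CohTop.Ab X) (q : ℕ) (B : Opens Y → Prop)
    (hB : ∀ (V : Opens Y) (y : Y), y ∈ V → ∃ W : Opens Y, B W ∧ y ∈ W ∧ W ≤ V)
    (hext : ∀ W : Opens Y, B W →
      ∀ ξ : Abelian.Ext (fr ((Opens.map f).obj W)) F (q + 1), ξ = 0) :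
    IsZero ((CohTop.Rpush f (q + 1)).obj F) := by
  refine isZero_rightDerived_succ f F q (injectiveResolution F) ?_
  intro V s hs y hy
  obtain ⟨W, hBW, hyW, hWV⟩ := hB V y hy
  refine ⟨W, hWV, hyW, ?_⟩
  apply exists_primitive_of_ext_eq_zero F _ _ q (hext W hBW)
  rw [AffVanish.ap_rs, hs, map_zero]

/-- Higher direct images of flasque sheaves vanish. -/
theorem isZero_Rpush_succ_of_isFlasque (f : X ⟶ Y) (F : CohTop.Ab X) [TopCat.Sheaf.IsFlasque F]
    (q : ℕ) : IsZero ((CohTop.Rpush f (q + 1)).obj F) :=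
  isZero_Rpush_succ_of_basis f F q (fun _ => True) (fun V y hy => ⟨V, trivial, hy, le_rfl⟩)
    (fun W _ ξ => Groth.Agent.Lib.FlasqueAcyclic.ext_freeSheaf_eq_zero_of_isFlasque F _ q ξ)

/-- Higher direct images along a closed embedding vanish. -/
theorem isZero_Rpush_succ_of_isClosedEmbedding (f : X ⟶ Y) (hf : Topology.IsClosedEmbedding f)
    (F : CohTop.Ab X) (q : ℕ) : IsZero ((CohTop.Rpush f (q + 1)).obj F) := by
  let R := injectiveResolution F
  refine isZero_rightDerived_succ f F q R ?_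
  intro V s hs y hy
  by_cases hyr : y ∈ Set.range f
  · obtain ⟨x, rfl⟩ := hyr
    obtain ⟨W', hW', hxW', t', ht'⟩ := exists_local_primitive
      (ShortComplex.mk _ _ (R.cocomplex.d_comp_d q (q + 1) (q + 2))) (R.exact_succ q) s hs x hy
    obtain ⟨W'', hW''o, hW''e⟩ := hf.isInducing.isOpen_iff.mp W'.2
    let W : Opens Y := ⟨W'', hW''o⟩ ⊓ V
    have hmem : ∀ z : X, z ∈ W' ↔ f z ∈ W'' := fun z => by
      rw [← Set.mem_preimage, hW''e]
      rfl
    have hWW' : (Opens.map f).obj W = W' := by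
      ext z
      constructor
      · rintro ⟨h1, _⟩
        exact (hmem z).mpr h1
      · intro hz
        exact ⟨(hmem z).mp hz, hW' hz⟩
    refine ⟨W, inf_le_right, ⟨(hmem x).mp hxW', hy⟩, ?_⟩
    refine ⟨rs _ (le_of_eq hWW') t', ?_⟩
    rw [AffVanish.ap_rs]
    have ht'' := congrArg (rs (R.cocomplex.X (q + 1)) (le_of_eq hWW')) ht'
    rw [AffVanish.rs_rs] at ht''
    exact ht''
  · let W : Opens Y := ⟨(Set.range f)ᶜ, hf.isClosed_range.isOpen_compl⟩ ⊓ V
    have hbot : (Opens.map f).obj W = ⊥ := by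
      ext z
      constructor
      · rintro ⟨h1, _⟩
        exact absurd ⟨z, rfl⟩ h1
      · intro hz
        exact absurd hz (Set.notMem_empty z)
    refine ⟨W, inf_le_right, ⟨hyr, hy⟩, 0, ?_⟩
    exact AffVanish.eq_of_bot _ hbot _ _

end Push

section Scheme

open AlgebraicGeometry

/-- Higher direct images of quasi-coherent modules along affine morphisms vanish. -/
theorem isZero_RpushAb_of_isAffineHom {X S : Scheme.{u}} (f : X ⟶ S) [IsAffineHom f]
    (M : X.Modules) [M.IsQuasicoherent] (q : ℕ) :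
    IsZero ((Coh.RpushAb f (q + 1)).obj (Coh.toAb M)) :=
  isZero_Rpush_succ_of_basis f.base (Coh.toAb M) q (fun W => IsAffineOpen (X := S) W)
    (fun V y hy => by
      obtain ⟨W, hW, hyW, hWV⟩ := Opens.isBasis_iff_nbhd.mp S.isBasis_affineOpens hy
      exact ⟨W, hW, hyW, hWV⟩)
    (fun W hW ξ => AffVanish.ext_freeSheaf_eq_zero_of_MV (Coh.toAb M) (AffVanish.MV_toAb M)
      (f ⁻¹ᵁ W) (hW.preimage f) q ξ)

end Scheme

end RpushVanish
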