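import Mathlib
import Groth.Prelude.Def_CohTop
import Groth.Agent.Lib.RpushVanish_helper9

/-!
# The degenerate Leray comparison `H^p(X, F) ≃ H^p(Y, f_* F)`

If the higher direct images `R^{q+1} f_* F` vanish then the pushforward of an injective
resolution of `F` is an injective resolution of `f_* F`, and computing `Ext` groups from the
constant sheaf with these resolutions gives `H^p(X, F) ≃+ H^p(Y, f_* F)`.
-/

universe w w' u

open CategoryTheory CategoryTheory.Limits Opposite TopologicalSpace
open Groth.Agent.Lib.FreeSheaf Groth.Agent.Lib.FlasqueAcyclic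

namespace Leray

section Alg

theorem nonempty_addEquiv_of_surj {Z A B : Type*} [AddCommGroup Z] [AddCommGroup A]
    [AddCommGroup B] (φ : Z →+ A) (ψ : Z →+ B) (hφ : Function.Surjective φ)
    (hψ : Function.Surjective ψ) (hk : ∀ z, φ z = 0 ↔ ψ z = 0) : Nonempty (A ≃+ B) := by
  have hker : φ.ker = ψ.ker := by
    ext z
    simp only [AddMonoidHom.mem_ker]
    exact hk z
  exact ⟨(QuotientAddGroup.quotientKerEquivOfSurjective φ hφ).symm.trans
    ((QuotientAddGroup.quotientAddEquivOfEq hker).trans
      (QuotientAddGroup.quotientKerEquivOfSurjective ψ hψ))⟩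

end Alg

section Ext

variable {C : Type*} [Category C] [Abelian C] [HasExt.{w} C]

/-- Cocycles `K ⟶ R^n`. -/
def cocyc (K : C) {G : C} (R : InjectiveResolution G) (n : ℕ) :
    AddSubgroup (K ⟶ R.cocomplex.X n) where
  carrier := {a | a ≫ R.cocomplex.d n (n + 1) = 0}
  zero_mem' := zero_comp
  add_mem' := by
    intro a b ha hb
    show (a + b) ≫ _ = 0
    rw [Preadditive.add_comp, ha, hb, add_zero]
  neg_mem' := by
    intro a ha
    show (-a) ≫ _ = 0
    rw [Preadditive.neg_comp, ha, neg_zero]

omit [HasExt.{w} C] in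
theorem mem_cocyc {K : C} {G : C} (R : InjectiveResolution G) (n : ℕ)
    (a : K ⟶ R.cocomplex.X n) : a ∈ cocyc K R n ↔ a ≫ R.cocomplex.d n (n + 1) = 0 := Iff.rfl

/-- The class of a cocycle. -/
noncomputable def extHom (K : C) {G : C} (R : InjectiveResolution G) (n : ℕ) :
    cocyc K R n →+ Abelian.Ext.{w} K G n :=
  AddMonoidHom.mk' (fun a => R.extMk a.1 (n + 1) rfl a.2)
    (fun a b => (R.add_extMk a.1 b.1 (n + 1) rfl a.2 b.2).symm)

theorem extHom_surjective (K : C) {G : C} (R : InjectiveResolution G) (n : ℕ) :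
    Function.Surjective (extHom K R n) := by
  intro α
  obtain ⟨f, hf, h⟩ := R.extMk_surjective α (n + 1) rfl
  exact ⟨⟨f, hf⟩, h⟩

theorem extHom_eq_zero_iff (K : C) {G : C} (R : InjectiveResolution G) (p : ℕ)
    (a : cocyc K R (p + 1)) :
    extHom K R (p + 1) a = 0 ↔ ∃ g : K ⟶ R.cocomplex.X p, g ≫ R.cocomplex.d p (p + 1) = a.1 :=
  R.extMk_eq_zero_iff a.1 (p + 2) rfl a.2 p rfl

variable {C' : Type*} [Category C'] [Abelian C'] [HasExt.{w'} C']

/-- Comparison of `Ext` groups computed by two injective resolutions whose `Hom` complexes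
are identified. -/
theorem nonempty_ext_addEquiv {K G : C} (R : InjectiveResolution G) {K' G' : C'}
    (R' : InjectiveResolution G')
    (θ : ∀ n, (K ⟶ R.cocomplex.X n) ≃+ (K' ⟶ R'.cocomplex.X n))
    (hθ : ∀ n (a : K ⟶ R.cocomplex.X n),
      θ (n + 1) (a ≫ R.cocomplex.d n (n + 1)) = θ n a ≫ R'.cocomplex.d n (n + 1))
    (p : ℕ) : Nonempty (Abelian.Ext.{w} K G (p + 1) ≃+ Abelian.Ext.{w'} K' G' (p + 1)) := by
  have hmem : ∀ a : K ⟶ R.cocomplex.X (p + 1),
      a ∈ cocyc K R (p + 1) ↔ θ (p + 1) a ∈ cocyc K' R' (p + 1) := by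
    intro a
    rw [mem_cocyc, mem_cocyc, ← hθ]
    constructor
    · intro h
      rw [h, map_zero]
    · intro h
      exact (θ (p + 1 + 1)).injective (h.trans (map_zero _).symm)
  let τ : cocyc K R (p + 1) →+ cocyc K' R' (p + 1) :=
    AddMonoidHom.mk' (fun a => ⟨θ (p + 1) a.1, (hmem a.1).mp a.2⟩)
      (fun a b => Subtype.ext (map_add (θ (p + 1)) a.1 b.1))
  have hτ : Function.Surjective τ := by
    rintro ⟨b, hb⟩
    refine ⟨⟨(θ (p + 1)).symm b, (hmem _).mpr ?_⟩, Subtype.ext (AddEquiv.apply_symm_apply _ b)⟩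
    rw [AddEquiv.apply_symm_apply]
    exact hb
  refine nonempty_addEquiv_of_surj (extHom K R (p + 1)) ((extHom K' R' (p + 1)).comp τ)
    (extHom_surjective K R (p + 1)) ((extHom_surjective K' R' (p + 1)).comp hτ) ?_
  intro a
  rw [extHom_eq_zero_iff]
  show _ ↔ extHom K' R' (p + 1) (τ a) = 0
  rw [extHom_eq_zero_iff]
  constructor
  · rintro ⟨g, hg⟩
    refine ⟨θ p g, ?_⟩
    rw [← hθ, hg]
    rfl
  · rintro ⟨g', hg'⟩
    refine ⟨(θ p).symm g', (θ (p + 1)).injective ?_⟩
    rw [hθ, AddEquiv.apply_symm_apply]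
    exact hg'

end Ext

section Top

variable {X Y : TopCat.{u}}

/-- The constant sheaf `ℤ`. -/
noncomputable abbrev KK (X : TopCat.{u}) : CohTop.Ab X :=
  (constantSheaf (Opens.grothendieckTopology X) AddCommGrpCat.{u}).obj
    (AddCommGrpCat.of (ULift ℤ))

/-- Maps from the constant sheaf `ℤ` are global sections, additively. -/
noncomputable def constAddEquiv (G : CohTop.Ab X) :
    (KK X ⟶ G) ≃+ G.obj.obj (op (⊤ : Opens X)) :=
  ((constantSheafAdj (Opens.grothendieckTopology X) AddCommGrpCat.{u} isTerminalTop).homAddEquiv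
    (AddCommGrpCat.of (ULift ℤ)) G).trans
    (AddCommGrpCat.uliftZMultiplesAddEquiv (G.obj.obj (op (⊤ : Opens X))))

theorem constAddEquiv_apply (G : CohTop.Ab X) (a : KK X ⟶ G) :
    constAddEquiv G a = constEquiv G a := rfl

theorem constAddEquiv_comp {G G' : CohTop.Ab X} (a : KK X ⟶ G) (φ : G ⟶ G') :
    constAddEquiv G' (a ≫ φ) = φ.hom.app (op ⊤) (constAddEquiv G a) :=
  constEquiv_comp a φ

instance (f : X ⟶ Y) : PreservesFiniteLimits (CohTop.push f) := by
  haveI : PreservesLimitsOfSize.{0, 0} (CohTop.push f) :=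
    (TopCat.Sheaf.pullbackPushforwardAdjunction AddCommGrpCat.{u} f).rightAdjoint_preservesLimits
  exact PreservesLimitsOfSize.preservesFiniteLimits _

attribute [local instance] reflectsLimits_of_reflectsIsomorphisms in
theorem preservesFiniteLimits_pull (f : X ⟶ Y) :
    PreservesFiniteLimits (TopCat.Sheaf.pullback AddCommGrpCat.{u} f) := by
  unfold TopCat.Sheaf.pullback
  apply Functor.sheafPullbackConstruction.preservesFiniteLimits

theorem preservesMonomorphisms_pull (f : X ⟶ Y) :
    (TopCat.Sheaf.pullback AddCommGrpCat.{u} f).PreservesMonomorphisms := by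
  haveI := preservesFiniteLimits_pull f
  infer_instance

theorem injective_push (f : X ⟶ Y) (I : CohTop.Ab X) (hI : Injective I) :
    Injective ((CohTop.push f).obj I) :=
  @Injective.injective_of_adjoint _ _ _ _ _ _ (preservesMonomorphisms_pull f)
    (TopCat.Sheaf.pullbackPushforwardAdjunction AddCommGrpCat.{u} f) I hI

/-- If the higher direct images of `F` vanish, the pushforward of an injective resolution of `F`
is an injective resolution of `f_* F`. -/
noncomputable def pushRes (f : X ⟶ Y) (F : CohTop.Ab X) (R : InjectiveResolution F)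
    (h : ∀ q : ℕ, IsZero ((CohTop.Rpush f (q + 1)).obj F)) :
    InjectiveResolution ((CohTop.push f).obj F) where
  cocomplex := ((CohTop.push f).mapHomologicalComplex _).obj R.cocomplex
  injective n := injective_push f (R.cocomplex.X n) (R.injective n)
  ι := (HomologicalComplex.singleMapHomologicalComplex (CohTop.push f) (ComplexShape.up ℕ) 0).inv.app
      F ≫ ((CohTop.push f).mapHomologicalComplex _).map R.ι
  quasiIso := ⟨fun n => by
    cases n with
    | zero =>
      rw [CochainComplex.quasiIsoAt₀_iff, ShortComplex.quasiIso_iff_of_zeros]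
      · have hiso : IsIso (R.toRightDerivedZero' (CohTop.push f)) := inferInstance
        dsimp only [InjectiveResolution.toRightDerivedZero'] at hiso
        rw [CochainComplex.isIso_liftCycles_iff] at hiso
        refine (ShortComplex.exact_and_mono_f_iff_of_iso ?_).1 hiso
        refine ShortComplex.isoMk (Iso.refl _) (Iso.refl _) (Iso.refl _) ?_ ?_
        · exact (Category.id_comp _).trans ((Category.id_comp _).trans (Category.comp_id _).symm)
        · exact (Category.id_comp _).trans (Category.comp_id _).symm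
      · rfl
      · rfl
      · exact HomologicalComplex.shape
          (((CohTop.push f).mapHomologicalComplex (ComplexShape.up ℕ)).obj R.cocomplex) 0 0
          (by simp)
    | succ k =>
      rw [quasiIsoAt_iff_exactAt]
      · rw [HomologicalComplex.exactAt_iff_isZero_homology]
        exact IsZero.of_iso (h k) (R.isoRightDerivedObj (CohTop.push f) (k + 1)).symm
      · apply CochainComplex.exactAt_succ_single_obj⟩

/-- The identification of the `Hom` complexes. -/
noncomputable def theta (f : X ⟶ Y) (G : CohTop.Ab X) :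
    (KK X ⟶ G) ≃+ (KK Y ⟶ (CohTop.push f).obj G) :=
  (constAddEquiv G).trans (constAddEquiv ((CohTop.push f).obj G)).symm

theorem theta_comp (f : X ⟶ Y) {G G' : CohTop.Ab X} (a : KK X ⟶ G) (φ : G ⟶ G') :
    theta f G' (a ≫ φ) = theta f G a ≫ (CohTop.push f).map φ := by
  apply (constAddEquiv ((CohTop.push f).obj G')).injective
  rw [constAddEquiv_comp]
  have h1 : constAddEquiv ((CohTop.push f).obj G') (theta f G' (a ≫ φ)) =
      constAddEquiv G' (a ≫ φ) :=
    AddEquiv.apply_symm_apply (constAddEquiv ((CohTop.push f).obj G')) _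
  have h2 : constAddEquiv ((CohTop.push f).obj G) (theta f G a) = constAddEquiv G a :=
    AddEquiv.apply_symm_apply (constAddEquiv ((CohTop.push f).obj G)) _
  rw [h1, h2, constAddEquiv_comp]
  rfl

/-- **Degenerate Leray**: if `R^{q+1} f_* F = 0` for all `q` then `H^p(X, F) ≃ H^p(Y, f_* F)`. -/
theorem nonempty_H_addEquiv_push (f : X ⟶ Y) (F : CohTop.Ab X)
    (h : ∀ q : ℕ, IsZero ((CohTop.Rpush f (q + 1)).obj F)) (p : ℕ) :
    Nonempty (CohTop.H F p ≃+ CohTop.H ((CohTop.push f).obj F) p) := by
  cases p with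
  | zero =>
    exact ⟨(Sheaf.H.equiv₀ F isTerminalTop).trans
      (Sheaf.H.equiv₀ ((CohTop.push f).obj F) isTerminalTop).symm⟩
  | succ p =>
    exact nonempty_ext_addEquiv (injectiveResolution F)
      (pushRes f F (injectiveResolution F) h)
      (fun n => theta f ((injectiveResolution F).cocomplex.X n))
      (fun n a => theta_comp f a _) p

end Top

end Leray
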