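import Mathlib
import Groth.Agent.Lib.SerreCrit1_helper9
import Groth.Agent.Lib.GlobGen_helper9
import Groth.Agent.Lib.QCAlgMod_helper9

/-!
# Serre's affineness criterion, part 2

Under `SurjHyp X` and quasi-compactness, `X` is affine.
-/

universe u

open CategoryTheory CategoryTheory.Limits AlgebraicGeometry Opposite TopologicalSpace
open Groth.Agent.Lib.QCohLoc_helper4 QcqsLoc QCohExtn
open scoped ZeroObject

namespace SerreCrit

variable {X : Scheme.{u}}

/-- Step 2: a finite cover by affine opens of the form `X_f`. -/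
theorem exists_list_cover [CompactSpace X] (hyp : SurjHyp X) :
    ∃ l : List Γ(X, ⊤), (∀ f ∈ l, IsAffineOpen (X.basicOpen f)) ∧
      ∀ y : X, ∃ f ∈ l, y ∈ X.basicOpen f := by
  let 𝒮 : Set Γ(X, ⊤) := {f | IsAffineOpen (X.basicOpen f)}
  have hpt : ∀ y : X, ∃ f ∈ 𝒮, y ∈ X.basicOpen f := by
    by_contra hne
    push Not at hne
    let T : Set X := (⋃ f ∈ 𝒮, (X.basicOpen f : Set X))ᶜ
    have hTcl : IsClosed T :=
      (isOpen_biUnion (fun f _ => (X.basicOpen f).2)).isClosed_compl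
    have hTne : T.Nonempty := by
      obtain ⟨y, hy⟩ := hne
      refine ⟨y, ?_⟩
      intro hyU
      obtain ⟨f, hf, hyf⟩ := Set.mem_iUnion₂.mp hyU
      exact hy f hf hyf
    obtain ⟨x, hxT, hxcl⟩ := hTcl.exists_closed_singleton hTne
    obtain ⟨U, hU, hxU, -⟩ := Opens.isBasis_iff_nbhd.mp X.isBasis_affineOpens
      (show x ∈ (⊤ : X.Opens) from trivial)
    obtain ⟨f, hxf, hfU⟩ := exists_basicOpen hyp x hxcl U hxU
    have haff : IsAffineOpen (X.basicOpen f) := by
      have h1 : IsAffineOpen (X.basicOpen (X.presheaf.map (homOfLE (le_top : U ≤ ⊤)).op f)) :=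
        hU.basicOpen _
      rw [Scheme.basicOpen_res, inf_eq_right.mpr hfU] at h1
      exact h1
    exact hxT (Set.mem_iUnion₂.mpr ⟨f, haff, hxf⟩)
  obtain ⟨t, ht⟩ := isCompact_univ.elim_finite_subcover
    (fun f : 𝒮 => (X.basicOpen f.1 : Set X)) (fun f => (X.basicOpen f.1).2) (by
      intro y _
      obtain ⟨f, hf, hyf⟩ := hpt y
      exact Set.mem_iUnion.mpr ⟨⟨f, hf⟩, hyf⟩)
  refine ⟨t.toList.map Subtype.val, ?_, ?_⟩
  · intro f hf
    obtain ⟨g, -, rfl⟩ := List.mem_map.mp hf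
    exact g.2
  · intro y
    obtain ⟨g, hg, hyg⟩ := Set.mem_iUnion₂.mp (ht (Set.mem_univ y))
    exact ⟨g.1, List.mem_map.mpr ⟨g, Finset.mem_toList.mpr hg, rfl⟩, hyg⟩

/-- Multiplication by a global function, as an endomorphism of `O_X`. -/
noncomputable def mulBy (f : Γ(X, ⊤)) : OO X ⟶ OO X :=
  (SheafOfModules.unitHomEquiv (OO X)).symm (GlobGen.globalSection (OO X) (ofFn f))

set_option backward.isDefEq.respectTransparency false in
theorem mulBy_app (f : Γ(X, ⊤)) (W : X.Opens) (a : Γ(OO X, W)) :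
    toFn (ap (mulBy f) W a) = toFn a * rX (le_top : W ≤ ⊤) f := rfl

/-- The map `O_X^n ⟶ O_X` given by a list of global functions. -/
noncomputable def phi : (l : List Γ(X, ⊤)) → (Orec X l.length ⟶ OO X)
  | [] => 0
  | f :: l => biprod.desc (mulBy f) (phi l)

theorem ap_comp {M N P : X.Modules} (a : M ⟶ N) (b : N ⟶ P) (W : X.Opens) (s : Γ(M, W)) :
    ap (a ≫ b) W s = ap b W (ap a W s) := rfl

theorem phi_mem_span (l : List Γ(X, ⊤)) (s : Γ(Orec X l.length, ⊤)) :
    toFn (ap (phi l) ⊤ s) ∈ Ideal.span {f | f ∈ l} := by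
  induction l with
  | nil =>
    have h0 : ap (phi ([] : List Γ(X, ⊤))) ⊤ s = 0 := rfl
    rw [h0]
    exact Submodule.zero_mem _
  | cons f l ih =>
    have e : phi (f :: l) = (biprod.fst : OO X ⊞ Orec X l.length ⟶ OO X) ≫ mulBy f +
        (biprod.snd : OO X ⊞ Orec X l.length ⟶ Orec X l.length) ≫ phi l := biprod.desc_eq
    have h1 : ap (phi (f :: l)) ⊤ s =
        ap (mulBy f) ⊤ (ap (biprod.fst : OO X ⊞ Orec X l.length ⟶ OO X) ⊤ s) +
          ap (phi l) ⊤ (ap (biprod.snd : OO X ⊞ Orec X l.length ⟶ Orec X l.length) ⊤ s) := by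
      rw [e]
      rfl
    rw [h1, add_eq, mulBy_app]
    apply Ideal.add_mem
    · apply Ideal.mul_mem_left
      apply Ideal.subset_span
      have hr : rX (le_top : (⊤ : X.Opens) ≤ ⊤) f = f := by
        have := SubExt.rF_self (OO X) (le_top : (⊤ : X.Opens) ≤ ⊤) (ofFn f)
        exact this
      rw [hr]
      exact List.mem_cons_self ..
    · exact Ideal.span_mono (fun g hg => List.mem_cons_of_mem _ hg) (ih _)

theorem exists_incl (l : List Γ(X, ⊤)) (f : Γ(X, ⊤)) (hf : f ∈ l) :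
    ∃ ι : OO X ⟶ Orec X l.length, ι ≫ phi l = mulBy f := by
  induction l with
  | nil => exact absurd hf List.not_mem_nil
  | cons g l ih =>
    rcases List.mem_cons.mp hf with rfl | hf
    · exact ⟨(biprod.inl : OO X ⟶ OO X ⊞ Orec X l.length), biprod.inl_desc _ _⟩
    · obtain ⟨ι, hι⟩ := ih hf
      refine ⟨ι ≫ (biprod.inr : Orec X l.length ⟶ OO X ⊞ Orec X l.length), ?_⟩
      have h2 : (biprod.inr : Orec X l.length ⟶ OO X ⊞ Orec X l.length) ≫ phi (g :: l) = phi l :=
        biprod.inr_desc _ _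
      exact (Category.assoc _ _ _).trans ((congrArg (fun t => ι ≫ t) h2).trans hι)

theorem epi_phi (l : List Γ(X, ⊤)) (hcov : ∀ y : X, ∃ f ∈ l, y ∈ X.basicOpen f) :
    Epi (phi l) := by
  apply GlobGen.epi_of_surjective_on_basis (phi l) {W | ∃ f ∈ l, W ≤ X.basicOpen f}
  · rw [Opens.isBasis_iff_nbhd]
    intro V y hy
    obtain ⟨f, hf, hyf⟩ := hcov y
    exact ⟨V ⊓ X.basicOpen f, ⟨f, hf, inf_le_right⟩, ⟨hy, hyf⟩, inf_le_left⟩
  · rintro W ⟨f, hf, hWf⟩ t
    obtain ⟨ι, hι⟩ := exists_incl l f hf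
    have hu : IsUnit (rX (le_top : W ≤ ⊤) f) := by
      have h1 := RingedSpace.isUnit_res_basicOpen X.toRingedSpace f
      have h2 := h1.map (X.presheaf.map (homOfLE hWf).op).hom
      have h3 : (X.presheaf.map (homOfLE hWf).op).hom
          ((X.presheaf.map (homOfLE (X.basicOpen_le f)).op).hom f) = rX (le_top : W ≤ ⊤) f :=
        rX_rX hWf (X.basicOpen_le f) f
      rw [← h3]
      exact h2
    obtain ⟨u, hu'⟩ := hu
    refine ⟨ap ι W (ofFn (toFn t * (↑u⁻¹ : Γ(X, W)))), ?_⟩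
    have h4 : ap (phi l) W (ap ι W (ofFn (toFn t * (↑u⁻¹ : Γ(X, W))))) =
        ap (mulBy f) W (ofFn (toFn t * (↑u⁻¹ : Γ(X, W)))) := by
      rw [← hι]
      rfl
    show ap (phi l) W (ap ι W (ofFn (toFn t * (↑u⁻¹ : Γ(X, W))))) = t
    rw [h4]
    show toFn (ap (mulBy f) W (ofFn (toFn t * (↑u⁻¹ : Γ(X, W))))) = toFn t
    rw [mulBy_app, ← hu', mul_assoc, Units.inv_mul, mul_one]

theorem isZero_quasicoherent {Z : X.Modules} (hZ : IsZero Z) : Z.IsQuasicoherent := by
  haveI : (kernel (𝟙 (OO X))).IsQuasicoherent := SubExt.isQuasicoherent_kernel (𝟙 (OO X))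
  have hk : IsZero (kernel (𝟙 (OO X))) := isZero_kernel_of_mono _
  exact (SheafOfModules.isQuasicoherent X.ringCatSheaf).prop_of_iso (hk.iso hZ)
    ‹(kernel (𝟙 (OO X))).IsQuasicoherent›

theorem isQuasicoherent_Orec (n : ℕ) : (Orec X n).IsQuasicoherent := by
  induction n with
  | zero => exact isZero_quasicoherent (isZero_zero _)
  | succ n ih =>
    haveI := ih
    show (OO X ⊞ Orec X n).IsQuasicoherent
    exact QCAlgMod.isQuasicoherent_biprod _ _

/-- **Serre's criterion**, abstract form. -/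
theorem isAffine_of_surjHyp [CompactSpace X] (hyp : SurjHyp X) : IsAffine X := by
  obtain ⟨l, hl, hcov⟩ := exists_list_cover hyp
  haveI hepi : Epi (phi l) := epi_phi l hcov
  haveI hq : (Orec X l.length).IsQuasicoherent := isQuasicoherent_Orec _
  haveI hK : (kernel (phi l)).IsQuasicoherent := SubExt.isQuasicoherent_kernel (phi l)
  let S : ShortComplex X.Modules :=
    ShortComplex.mk (kernel.ι (phi l)) (phi l) (kernel.condition (phi l))
  have hS : S.ShortExact := ShortComplex.ShortExact.mk' (ShortComplex.exact_kernel (phi l))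
    (inferInstanceAs (Mono (kernel.ι (phi l)))) hepi
  obtain ⟨b, hb⟩ := hyp l.length S hS hK hq ⟨𝟙 _, inferInstance⟩ (ofFn (1 : Γ(X, ⊤)))
  have h1 : (1 : Γ(X, ⊤)) ∈ Ideal.span {f | f ∈ l} := by
    have := phi_mem_span l b
    rwa [show ap (phi l) ⊤ b = ofFn 1 from hb] at this
  exact isAffine_of_isAffineOpen_basicOpen {f | f ∈ l} ((Ideal.eq_top_iff_one _).mpr h1)
    (fun f hf => hl f hf)

end SerreCrit
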