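import Mathlib
import Groth.Prelude.Def_FlatMod2
import Groth.Agent.Lib.SerreCrit2_helper9
import Groth.Agent.Lib.Leray_helper9
import Groth.Agent.Lib.EpiLoc_helper9

/-!
# Serre's affineness criterion, part 3

Deriving the abstract surjectivity hypothesis `SurjHyp X` from
* surjectivity on global sections for quotients of submodules of free modules (EGA II 5.2.1 (c'));
* vanishing of `H¹` of quasi-coherent ideals (Serre's criterion proper).
-/

universe u

open CategoryTheory CategoryTheory.Limits AlgebraicGeometry Opposite TopologicalSpace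
open Groth.Agent.Lib.QCohLoc_helper4 QcqsLoc QCohExtn
open scoped ZeroObject

namespace SerreCrit

variable {X : Scheme.{u}}

/-- The forgetful functor to abelian sheaves. -/
noncomputable abbrev TT (X : Scheme.{u}) :
    X.Modules ⥤ Sheaf (Opens.grothendieckTopology X) AddCommGrpCat.{u} :=
  SheafOfModules.toSheaf.{u} X.ringCatSheaf

noncomputable instance : (TT X).Additive :=
  inferInstanceAs ((SheafOfModules.toSheaf.{u} X.ringCatSheaf).Additive)

noncomputable instance : PreservesFiniteLimits (TT X) :=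
  inferInstanceAs (PreservesFiniteLimits (SheafOfModules.toSheaf.{u} X.ringCatSheaf))

theorem shortExact_toSheaf (S : ShortComplex X.Modules) (hS : S.ShortExact) :
    (S.map (TT X)).ShortExact := by
  haveI := hS.mono_f
  haveI := hS.epi_g
  have hm : Mono ((TT X).map S.f) := inferInstance
  have he : Epi ((TT X).map S.g) := EpiLoc.epi_toSheaf S.g
  have hex : (S.map (TT X)).Exact :=
    hS.exact.map_of_mono_of_preservesKernel (TT X) hS.mono_f inferInstance
  exact ShortComplex.ShortExact.mk' hex hm he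

set_option backward.isDefEq.respectTransparency false in
/-- If `H¹` of the kernel vanishes, global sections lift along an epimorphism. -/
theorem surj_of_H1 (S : ShortComplex X.Modules) (hS : S.ShortExact)
    (h1 : ∀ x : Coh.HH X S.X₁ 1, x = 0) (c : Γ(S.X₃, ⊤)) :
    ∃ b : Γ(S.X₂, ⊤), ap S.g ⊤ b = c := by
  have hT := shortExact_toSheaf S hS
  obtain ⟨a, ha⟩ : ∃ a, Leray.constAddEquiv ((TT X).obj S.X₃) a = c :=
    (Leray.constAddEquiv ((TT X).obj S.X₃)).surjective c
  obtain ⟨x₂, hx₂⟩ := Abelian.Ext.covariant_sequence_exact₃ _ hT (Abelian.Ext.mk₀ a)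
    (zero_add 1) (h1 _)
  obtain ⟨b', rfl⟩ := (Abelian.Ext.mk₀_bijective _ _).2 x₂
  rw [Abelian.Ext.mk₀_comp_mk₀] at hx₂
  have h2 : b' ≫ (TT X).map S.g = a := (Abelian.Ext.mk₀_bijective _ _).1 hx₂
  refine ⟨Leray.constAddEquiv ((TT X).obj S.X₂) b', ?_⟩
  have h3 := Leray.constAddEquiv_comp b' ((TT X).map S.g)
  rw [h2, ha] at h3
  exact h3.symm

theorem desc_lift_id {C : Type*} [Category C] [Preadditive C] [HasBinaryBiproducts C]
    {P Q R : C} (f : P ⟶ R) (g : Q ⟶ R) (a : R ⟶ P) (c : R ⟶ Q) (h1 : f ≫ a = 𝟙 P)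
    (h2 : f ≫ c = 0) (h3 : g ≫ a = 0) (h4 : g ≫ c = 𝟙 Q) :
    biprod.desc f g ≫ biprod.lift a c = 𝟙 (P ⊞ Q) := by
  apply biprod.hom_ext' <;> apply biprod.hom_ext <;> simp [h1, h2, h3, h4]

/-- `Orec X n` is a retract of the free module of rank `n`. -/
theorem exists_retract_freeMod (n : ℕ) :
    ∃ (m : Orec X n ⟶ FlatMod.freeMod X n) (r : FlatMod.freeMod X n ⟶ Orec X n),
      m ≫ r = 𝟙 _ := by
  induction n with
  | zero => exact ⟨0, 0, (isZero_zero X.Modules).eq_of_src _ _⟩
  | succ n ih =>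
    obtain ⟨m, r, hmr⟩ := ih
    obtain ⟨shift, hshift⟩ : ∃ s : FlatMod.freeMod X n ⟶ FlatMod.freeMod X (n + 1),
        ∀ j : Fin n, Sigma.ι (fun _ : Fin n => OO X) j ≫ s =
          Sigma.ι (fun _ : Fin (n + 1) => OO X) j.succ :=
      ⟨Sigma.desc (fun j => Sigma.ι (fun _ : Fin (n + 1) => OO X) j.succ),
        fun j => Sigma.ι_desc _ _⟩
    obtain ⟨a, ha0, has⟩ : ∃ a : FlatMod.freeMod X (n + 1) ⟶ OO X,
        Sigma.ι (fun _ : Fin (n + 1) => OO X) 0 ≫ a = 𝟙 _ ∧
        ∀ j : Fin n, Sigma.ι (fun _ : Fin (n + 1) => OO X) j.succ ≫ a = 0 :=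
      ⟨Sigma.desc (fun j => Fin.cases (motive := fun _ => (OO X ⟶ OO X)) (𝟙 _) (fun _ => 0) j),
        by rw [Sigma.ι_desc]; rfl, fun j => by rw [Sigma.ι_desc]; rfl⟩
    obtain ⟨b, hb0, hbs⟩ : ∃ b : FlatMod.freeMod X (n + 1) ⟶ FlatMod.freeMod X n,
        Sigma.ι (fun _ : Fin (n + 1) => OO X) 0 ≫ b = 0 ∧
        ∀ j : Fin n, Sigma.ι (fun _ : Fin (n + 1) => OO X) j.succ ≫ b =
          Sigma.ι (fun _ : Fin n => OO X) j :=
      ⟨Sigma.desc (fun j => Fin.cases (motive := fun _ => (OO X ⟶ FlatMod.freeMod X n)) 0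
          (fun k => Sigma.ι (fun _ : Fin n => OO X) k) j),
        by rw [Sigma.ι_desc]; rfl, fun j => by rw [Sigma.ι_desc]; rfl⟩
    have hsa : shift ≫ a = 0 := by
      apply Sigma.hom_ext
      intro j
      rw [← Category.assoc, hshift, has, comp_zero]
    have hsb : shift ≫ b = 𝟙 _ := by
      apply Sigma.hom_ext
      intro j
      rw [← Category.assoc, hshift, hbs, Category.comp_id]
    refine ⟨(biprod.desc (Sigma.ι (fun _ : Fin (n + 1) => OO X) 0) (m ≫ shift) :
        OO X ⊞ Orec X n ⟶ FlatMod.freeMod X (n + 1)),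
      (biprod.lift a (b ≫ r) : FlatMod.freeMod X (n + 1) ⟶ OO X ⊞ Orec X n), ?_⟩
    refine desc_lift_id _ _ _ _ ha0 ?_ ?_ ?_
    · rw [← Category.assoc, hb0, zero_comp]
    · rw [Category.assoc, hsa, comp_zero]
    · rw [Category.assoc, ← Category.assoc shift, hsb, Category.id_comp, hmr]

theorem exists_mono_freeMod (n : ℕ) : ∃ m : Orec X n ⟶ FlatMod.freeMod X n, Mono m := by
  obtain ⟨m, r, h⟩ := exists_retract_freeMod (X := X) n
  exact ⟨m, (SplitMono.mk r h).mono⟩

/-- EGA II 5.2.1 (c') implies the abstract surjectivity hypothesis. -/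
theorem surjHyp_of_freeMod
    (h : ∀ (n : ℕ) (F F'' : X.Modules) (i : F ⟶ FlatMod.freeMod X n) (p : F ⟶ F''),
      Mono i → Epi p → Coh.IsQCoh F → Coh.IsQCoh F'' →
        Function.Surjective (p.val.app (Opposite.op ⊤)).hom) : SurjHyp X := by
  intro n S hS h1 h2 ⟨i, hi⟩ c
  obtain ⟨m, hm⟩ := exists_mono_freeMod (X := X) n
  haveI := hi
  haveI := hm
  haveI := h1
  haveI := h2
  have h3 : S.X₃.IsQuasicoherent := SubExt.isQuasicoherent_X₃ S hS
  haveI := hS.epi_g
  exact h n S.X₂ S.X₃ (i ≫ m) S.g (mono_comp _ _) inferInstance h2 h3 c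

/-- `H¹` vanishes on quasi-coherent submodules of `O_X^n` if it does on quasi-coherent ideals. -/
theorem H1_zero_of_mono_Orec
    (h : ∀ (I : X.Modules) (i : I ⟶ OO X), Mono i → I.IsQuasicoherent →
      ∀ x : Coh.HH X I 1, x = 0) (n : ℕ) :
    ∀ (K : X.Modules) (i : K ⟶ Orec X n), Mono i → K.IsQuasicoherent →
      ∀ x : Coh.HH X K 1, x = 0 := by
  induction n with
  | zero =>
    intro K i hi hK x
    haveI := hi
    have hK0 : IsZero K :=
      IsZero.of_mono_eq_zero i ((isZero_zero X.Modules).eq_of_tgt _ _)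
    have hT : IsZero ((TT X).obj K) := (TT X).map_isZero hK0
    have hx := Abelian.Ext.comp_mk₀_id x
    rw [hT.eq_of_src (𝟙 _) 0, Abelian.Ext.mk₀_zero, Abelian.Ext.comp_zero] at hx
    exact hx.symm
  | succ n ih =>
    intro K i hi hK x
    haveI := hK
    haveI hO : (Orec X n).IsQuasicoherent := isQuasicoherent_Orec n
    obtain ⟨i', hi'⟩ : ∃ i' : K ⟶ OO X ⊞ Orec X n, Mono i' := ⟨i, hi⟩
    haveI := hi'
    obtain ⟨q, hq⟩ : ∃ q : K ⟶ OO X, q = i' ≫ biprod.fst := ⟨_, rfl⟩
    haveI hker : (kernel q).IsQuasicoherent := SubExt.isQuasicoherent_kernel q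
    have hcoim : (cokernel (kernel.ι q)).IsQuasicoherent := SubExt.isQuasicoherent_coimage q
    let S : ShortComplex X.Modules :=
      ShortComplex.mk (kernel.ι q) (cokernel.π (kernel.ι q)) (cokernel.condition _)
    have hS : S.ShortExact := ShortComplex.ShortExact.mk' (ShortComplex.exact_cokernel (kernel.ι q))
      (inferInstanceAs (Mono (kernel.ι q))) (inferInstanceAs (Epi (cokernel.π (kernel.ι q))))
    have hT := shortExact_toSheaf S hS
    have h3 : ∀ y : Coh.HH X (cokernel (kernel.ι q)) 1, y = 0 :=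
      h (cokernel (kernel.ι q)) (Abelian.factorThruCoimage q)
        (inferInstanceAs (Mono (Abelian.factorThruCoimage q))) hcoim
    have hmono : Mono (kernel.ι q ≫ i' ≫ (biprod.snd : OO X ⊞ Orec X n ⟶ Orec X n)) := by
      apply Preadditive.mono_of_cancel_zero
      intro T t ht
      have e1 : (t ≫ kernel.ι q) ≫ i' = 0 := by
        apply biprod.hom_ext
        · rw [zero_comp, Category.assoc, Category.assoc, ← hq, kernel.condition, comp_zero]
        · rw [zero_comp, Category.assoc, Category.assoc]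
          exact ht
      have e2 : t ≫ kernel.ι q = 0 := by
        rw [← cancel_mono i', e1, zero_comp]
      rw [← cancel_mono (kernel.ι q), e2, zero_comp]
    have h1 : ∀ y : Coh.HH X (kernel q) 1, y = 0 := ih (kernel q) _ hmono hker
    obtain ⟨x₁, hx₁⟩ := Abelian.Ext.covariant_sequence_exact₂ _ hT x (h3 _)
    have hx0 : x₁ = 0 := h1 x₁
    rw [hx0, Abelian.Ext.zero_comp] at hx₁
    exact hx₁.symm

/-- Vanishing of `H¹` of quasi-coherent ideals implies the abstract surjectivity hypothesis. -/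
theorem surjHyp_of_H1
    (h : ∀ (I : X.Modules) (i : I ⟶ OO X), Mono i → I.IsQuasicoherent →
      ∀ x : Coh.HH X I 1, x = 0) : SurjHyp X := by
  intro n S hS h1 h2 ⟨i, hi⟩ c
  haveI := hS.mono_f
  haveI := hi
  exact surj_of_H1 S hS (H1_zero_of_mono_Orec h n S.X₁ (S.f ≫ i) (mono_comp _ _) h1) c

end SerreCrit
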