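import Mathlib
import Groth.Agent.Lib.SerreCrit3_helper9
import Groth.Agent.Lib.RpushVanish_helper9
import Groth.Agent.Lib.Leray_helper9
import Groth.Agent.Lib.ExtVanish_helper3

/-!
# Serre's criterion, relative form

* `SerreRel.lift_of_ext_one`, `SerreRel.ext_one_eq_zero_of_R1`: the low-degree part of the Leray
  spectral sequence: if `R¹f_* F = 0` and `Ext¹(ℤ_V, f_* F) = 0` then `Ext¹(ℤ_{f⁻¹V}, F) = 0`.
* `SerreRel.H1_res_eq_zero`: `Ext¹_X(ℤ_U, F) = 0` implies `H¹(U, F|_U) = 0`.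
* `SerreRel.isAffineOpen_preimage_of_R1`: if `R¹ f_*` kills the quasi-coherent ideals of `O_X`,
  preimages of affine opens (with quasi-compact inclusion) are affine.
-/

universe w u

open CategoryTheory CategoryTheory.Limits AlgebraicGeometry Opposite TopologicalSpace
open Groth.Agent.Lib.FreeSheaf Groth.Agent.Lib.FlasqueAcyclic
open Groth.Agent.Lib.QCohLoc_helper4 QcqsLoc QCohExtn

namespace SerreRel

open AffVanish (Sec rs apS)
open RpushVanish (fr ofSec)

section Abstract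

variable {𝒜 ℬ : Type*} [Category 𝒜] [Abelian 𝒜] [Category ℬ] [Abelian ℬ] [HasExt.{w} ℬ]

/-- Lifting cocycles along a left exact functor when `Ext¹` vanishes. -/
theorem lift_of_ext_one (P : 𝒜 ⥤ ℬ) [P.Additive] [PreservesFiniteLimits P]
    {F I0 I1 I2 : 𝒜} (ε : F ⟶ I0) [Mono ε] (d0 : I0 ⟶ I1) (d1 : I1 ⟶ I2) (hεd : ε ≫ d0 = 0)
    (hS : (ShortComplex.mk ε d0 hεd).Exact) (hdd : P.map d0 ≫ P.map d1 = 0)
    (hE : (ShortComplex.mk (P.map d0) (P.map d1) hdd).Exact)
    (W : ℬ) (hW : ∀ ξ : Abelian.Ext.{w} W (P.obj F) 1, ξ = 0)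
    (a : W ⟶ P.obj I1) (ha : a ≫ P.map d1 = 0) : ∃ t : W ⟶ P.obj I0, t ≫ P.map d0 = a := by
  have hPεd : P.map ε ≫ P.map d0 = 0 := by rw [← P.map_comp, hεd, P.map_zero]
  have hE0 : (ShortComplex.mk (P.map ε) (P.map d0) hPεd).Exact :=
    hS.map_of_mono_of_preservesKernel P inferInstance inferInstance
  haveI hm : Mono (cokernel.desc (P.map ε) (P.map d0) hPεd) :=
    (ShortComplex.exact_iff_mono_cokernel_desc _).mp hE0
  have hmd : cokernel.desc (P.map ε) (P.map d0) hPεd ≫ P.map d1 = 0 := by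
    rw [← cancel_epi (cokernel.π (P.map ε)), cokernel.π_desc_assoc, hdd, comp_zero]
  let φ : ShortComplex.mk (P.map d0) (P.map d1) hdd ⟶
      ShortComplex.mk (cokernel.desc (P.map ε) (P.map d0) hPεd) (P.map d1) hmd :=
    { τ₁ := cokernel.π (P.map ε)
      τ₂ := 𝟙 _
      τ₃ := 𝟙 _
      comm₁₂ := by simp
      comm₂₃ := by simp }
  haveI : Epi φ.τ₁ := inferInstanceAs (Epi (cokernel.π (P.map ε)))
  haveI : IsIso φ.τ₂ := inferInstanceAs (IsIso (𝟙 _))
  haveI : Mono φ.τ₃ := inferInstanceAs (Mono (𝟙 _))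
  have hE2 : (ShortComplex.mk (cokernel.desc (P.map ε) (P.map d0) hPεd) (P.map d1) hmd).Exact :=
    (ShortComplex.exact_iff_of_epi_of_isIso_of_mono φ).mp hE
  obtain ⟨s, hs⟩ := hE2.lift' a ha
  let T : ShortComplex ℬ :=
    ShortComplex.mk (P.map ε) (cokernel.π (P.map ε)) (cokernel.condition _)
  have hT : T.ShortExact := ShortComplex.ShortExact.mk' (ShortComplex.exact_cokernel (P.map ε))
    (inferInstanceAs (Mono (P.map ε))) (inferInstanceAs (Epi (cokernel.π (P.map ε))))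
  obtain ⟨x₂, hx₂⟩ := Abelian.Ext.covariant_sequence_exact₃ W hT (Abelian.Ext.mk₀ s)
    (zero_add 1) (hW _)
  obtain ⟨t, rfl⟩ := (Abelian.Ext.mk₀_bijective _ _).2 x₂
  rw [Abelian.Ext.mk₀_comp_mk₀] at hx₂
  have ht : t ≫ cokernel.π (P.map ε) = s := (Abelian.Ext.mk₀_bijective _ _).1 hx₂
  refine ⟨t, ?_⟩
  have hs' : s ≫ cokernel.desc (P.map ε) (P.map d0) hPεd = a := hs
  rw [← hs', ← ht, Category.assoc, cokernel.π_desc]

end Abstract

section Top

variable {X Y : TopCat.{u}}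

/-- Maps from `ℤ_{f⁻¹V}` to `G` are maps from `ℤ_V` to `f_* G`. -/
noncomputable def thetaFr (f : X ⟶ Y) (V : Opens Y) (G : CohTop.Ab X) :
    (fr ((Opens.map f).obj V) ⟶ G) ≃ (fr V ⟶ (CohTop.push f).obj G) :=
  (freeSheafHomEquiv (Opens.grothendieckTopology X) ((Opens.map f).obj V) G).trans
    (freeSheafHomEquiv (Opens.grothendieckTopology Y) V ((CohTop.push f).obj G)).symm

theorem thetaFr_comp (f : X ⟶ Y) (V : Opens Y) {G G' : CohTop.Ab X}
    (a : fr ((Opens.map f).obj V) ⟶ G) (φ : G ⟶ G') :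
    thetaFr f V G' (a ≫ φ) = thetaFr f V G a ≫ (CohTop.push f).map φ := by
  apply (freeSheafHomEquiv (Opens.grothendieckTopology Y) V ((CohTop.push f).obj G')).injective
  rw [freeSheafHomEquiv_comp]
  have e1 : freeSheafHomEquiv (Opens.grothendieckTopology Y) V ((CohTop.push f).obj G')
      (thetaFr f V G' (a ≫ φ)) =
      freeSheafHomEquiv (Opens.grothendieckTopology X) ((Opens.map f).obj V) G' (a ≫ φ) :=
    Equiv.apply_symm_apply _ _
  have e2 : freeSheafHomEquiv (Opens.grothendieckTopology Y) V ((CohTop.push f).obj G)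
      (thetaFr f V G a) =
      freeSheafHomEquiv (Opens.grothendieckTopology X) ((Opens.map f).obj V) G a :=
    Equiv.apply_symm_apply _ _
  rw [e1, e2, freeSheafHomEquiv_comp]
  rfl

theorem thetaFr_zero (f : X ⟶ Y) (V : Opens Y) (G : CohTop.Ab X) :
    thetaFr f V G 0 = 0 := by
  apply (freeSheafHomEquiv (Opens.grothendieckTopology Y) V ((CohTop.push f).obj G)).injective
  have e1 : freeSheafHomEquiv (Opens.grothendieckTopology Y) V ((CohTop.push f).obj G)
      (thetaFr f V G 0) =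
      freeSheafHomEquiv (Opens.grothendieckTopology X) ((Opens.map f).obj V) G 0 :=
    Equiv.apply_symm_apply _ _
  rw [e1, RpushVanish.homEquiv_zero, RpushVanish.homEquiv_zero]
  rfl

/-- Low-degree Leray: if `R¹f_* F = 0` and `Ext¹(ℤ_V, f_* F) = 0` then `Ext¹(ℤ_{f⁻¹V}, F) = 0`. -/
theorem ext_one_eq_zero_of_R1 (f : X ⟶ Y) (F : CohTop.Ab X) (V : Opens Y)
    (h1 : IsZero ((CohTop.Rpush f 1).obj F))
    (h2 : ∀ ξ : Abelian.Ext (fr V) ((CohTop.push f).obj F) 1, ξ = 0)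
    (ξ : Abelian.Ext (fr ((Opens.map f).obj V)) F 1) : ξ = 0 := by
  let R := injectiveResolution F
  let K := ((CohTop.push f).mapHomologicalComplex (ComplexShape.up ℕ)).obj R.cocomplex
  have hK0 : IsZero (K.homology 1) :=
    IsZero.of_iso h1 (R.isoRightDerivedObj (CohTop.push f) 1).symm
  have hK : (K.sc' 0 1 2).Exact := by
    rw [← HomologicalComplex.exactAt_iff' K 0 1 2 (by simp)
      (by simp only [CochainComplex.next]; rfl), HomologicalComplex.exactAt_iff_isZero_homology]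
    exact hK0
  obtain ⟨⟨a, ha⟩, rfl⟩ := Leray.extHom_surjective (fr ((Opens.map f).obj V)) R 1 ξ
  refine (Leray.extHom_eq_zero_iff _ R 0 ⟨a, ha⟩).mpr ?_
  have ha' : a ≫ R.cocomplex.d 1 2 = 0 := ha
  have hS : (ShortComplex.mk (R.ι.f 0 : F ⟶ R.cocomplex.X 0) (R.cocomplex.d 0 1)
      R.ι_f_zero_comp_complex_d).Exact :=
    ShortComplex.exact_of_f_is_kernel _ R.isLimitKernelFork
  haveI : Mono (R.ι.f 0 : F ⟶ R.cocomplex.X 0) := inferInstanceAs (Mono (R.ι.f 0))
  have hdd : (CohTop.push f).map (R.cocomplex.d 0 1) ≫ (CohTop.push f).map (R.cocomplex.d 1 2) = 0 := by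
    rw [← Functor.map_comp, R.cocomplex.d_comp_d, Functor.map_zero]
  have hE : (ShortComplex.mk ((CohTop.push f).map (R.cocomplex.d 0 1))
      ((CohTop.push f).map (R.cocomplex.d 1 2)) hdd).Exact := hK
  have hta : thetaFr f V _ a ≫ (CohTop.push f).map (R.cocomplex.d 1 2) = 0 := by
    rw [← thetaFr_comp, ha', thetaFr_zero]
  obtain ⟨t, ht⟩ := lift_of_ext_one (CohTop.push f) (R.ι.f 0 : F ⟶ R.cocomplex.X 0)
    (R.cocomplex.d 0 1) (R.cocomplex.d 1 2) R.ι_f_zero_comp_complex_d hS hdd hE (fr V) h2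
    (thetaFr f V _ a) hta
  refine ⟨(thetaFr f V _).symm t, ?_⟩
  apply (thetaFr f V _).injective
  rw [thetaFr_comp, Equiv.apply_symm_apply]
  exact ht

/-- If `Ext¹(ℤ_W, S.X₁) = 0`, sections over `W` lift along `S.g`. -/
theorem sec_surj_of_ext_one (S : ShortComplex (CohTop.Ab Y)) (hS : S.ShortExact) (W : Opens Y)
    (hF : ∀ ξ : Abelian.Ext (fr W) S.X₁ 1, ξ = 0) (b : Sec S.X₃ W) :
    ∃ a : Sec S.X₂ W, apS S.g W a = b := by
  obtain ⟨y₂, hy₂⟩ := Abelian.Ext.covariant_sequence_exact₃ (fr W) hS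
    (Abelian.Ext.mk₀ (ofSec b)) (zero_add 1) (hF _)
  obtain ⟨a', rfl⟩ := (Abelian.Ext.mk₀_bijective _ _).2 y₂
  rw [Abelian.Ext.mk₀_comp_mk₀] at hy₂
  have ha' : a' ≫ S.g = ofSec b := (Abelian.Ext.mk₀_bijective _ _).1 hy₂
  refine ⟨freeSheafHomEquiv (Opens.grothendieckTopology Y) W S.X₂ a', ?_⟩
  have h := freeSheafHomEquiv_comp (Opens.grothendieckTopology Y) W a' S.g
  rw [ha', RpushVanish.homEquiv_ofSec] at h
  exact h.symm

/-- In a short exact sequence with flasque middle term, `H¹` of the kernel vanishes as soon as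
global sections lift. -/
theorem H1_eq_zero_of_flasque_of_surj {Z : TopCat.{u}} (S : ShortComplex (CohTop.Ab Z))
    (hS : S.ShortExact) (hfl : TopCat.Sheaf.IsFlasque S.X₂)
    (hsurj : ∀ b : Sec S.X₃ ⊤, ∃ a : Sec S.X₂ ⊤, apS S.g ⊤ a = b)
    (x : CohTop.H S.X₁ 1) : x = 0 := by
  haveI := hfl
  have hx : x.comp (Abelian.Ext.mk₀ S.f) (add_zero 1) = 0 :=
    H_eq_zero_of_isFlasque S.X₂ 0 _
  obtain ⟨x₃, hx₃⟩ := Abelian.Ext.covariant_sequence_exact₁ _ hS x hx (zero_add 1)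
  obtain ⟨b', rfl⟩ := (Abelian.Ext.mk₀_bijective _ _).2 x₃
  obtain ⟨a, hab⟩ := hsurj (Leray.constAddEquiv S.X₃ b')
  have h4 : (Leray.constAddEquiv S.X₂).symm a ≫ S.g = b' := by
    apply (Leray.constAddEquiv S.X₃).injective
    rw [Leray.constAddEquiv_comp, AddEquiv.apply_symm_apply]
    exact hab
  rw [← hx₃, ← h4, ← Abelian.Ext.mk₀_comp_mk₀, Abelian.Ext.comp_assoc_of_second_deg_zero,
    hS.comp_extClass, Abelian.Ext.comp_zero]

end Top

section Res

variable {X : Scheme.{u}}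

/-- Restriction of abelian sheaves to an open subscheme. -/
noncomputable abbrev resAb (U : X.Opens) :
    Sheaf (Opens.grothendieckTopology X) AddCommGrpCat.{u} ⥤
      Sheaf (Opens.grothendieckTopology (U : Scheme.{u})) AddCommGrpCat.{u} :=
  U.ι.opensFunctor.sheafPushforwardContinuous AddCommGrpCat.{u}
    (Opens.grothendieckTopology (U : Scheme.{u})) (Opens.grothendieckTopology X)

theorem toAb_restrict (U : X.Opens) (M : X.Modules) :
    Coh.toAb (M.restrict U.ι) = (resAb U).obj (Coh.toAb M) := rfl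

noncomputable instance (U : X.Opens) : (resAb U).IsLeftAdjoint :=
  (U.ι.opensFunctor.sheafAdjunctionCocontinuous AddCommGrpCat.{u}
    (Opens.grothendieckTopology (U : Scheme.{u})) (Opens.grothendieckTopology X)).isLeftAdjoint

instance (U : X.Opens) : (resAb U).Additive where

set_option backward.isDefEq.respectTransparency false in
/-- If `Ext¹_X(ℤ_U, F) = 0` then `H¹(U, F|_U) = 0`. -/
theorem H1_res_eq_zero (U : X.Opens)
    (F : Sheaf (Opens.grothendieckTopology X) AddCommGrpCat.{u})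
    (hF : ∀ ξ : Abelian.Ext (fr (Y := X.carrier) (U.ι ''ᵁ ⊤)) F 1, ξ = 0)
    (x : Sheaf.H ((resAb U).obj F) 1) : x = 0 := by
  let A := Injective.under F
  let ε : F ⟶ A := Injective.ι F
  let S : ShortComplex (Sheaf (Opens.grothendieckTopology X) AddCommGrpCat.{u}) :=
    ShortComplex.mk ε (cokernel.π ε) (cokernel.condition ε)
  have hS : S.ShortExact := ShortComplex.ShortExact.mk' (ShortComplex.exact_cokernel ε)
    (inferInstanceAs (Mono (Injective.ι F))) (inferInstanceAs (Epi (cokernel.π ε)))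
  have hS' : (S.map (resAb U)).ShortExact := hS.map_of_exact (resAb U)
  haveI hfl : TopCat.Sheaf.IsFlasque (X := X.carrier) A :=
    isFlasque_of_injective (X := X.carrier) A
  haveI hfl' : TopCat.Sheaf.IsFlasque (X := (U : Scheme.{u}).carrier) ((resAb U).obj A) :=
    ⟨fun {W W'} i => hfl.epi (U.ι.opensFunctor.op.map i)⟩
  exact H1_eq_zero_of_flasque_of_surj (Z := (U : Scheme.{u}).carrier) (S.map (resAb U)) hS' hfl'
    (fun b => sec_surj_of_ext_one (Y := X.carrier) S hS (U.ι ''ᵁ ⊤) hF b) x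

end Res

section Scheme

variable {X Y : Scheme.{u}}

theorem quasiCompact_ι_of_isCompact [QuasiSeparatedSpace X] (U : X.Opens)
    (hU : IsCompact (U : Set X)) : QuasiCompact U.ι := by
  rw [quasiCompact_iff_forall_isAffineOpen]
  intro W hW
  have h1 : IsCompact ((U : Set X) ∩ W) :=
    QuasiSeparatedSpace.inter_isCompact (U : Set X) W U.2 hU W.2 hW.isCompact
  have h2 : ((U.ι ⁻¹ᵁ W : U.toScheme.Opens) : Set U.toScheme) =
      U.ι ⁻¹' ((U : Set X) ∩ W) :=
    Set.ext fun y => ⟨fun h => ⟨y.2, h⟩, fun h => h.2⟩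
  rw [h2]
  exact U.ι.isOpenEmbedding.isEmbedding.isInducing.isCompact_preimage' h1
    (by rw [Scheme.Opens.range_ι]; exact Set.inter_subset_left)

/-- If `R¹ f_*` kills all quasi-coherent ideals of `O_X`, then the preimage of an affine open
is affine (provided its inclusion is quasi-compact). -/
theorem isAffineOpen_of_R1 (f : X ⟶ Y) [QuasiCompact f] [QuasiSeparated f]
    (h : ∀ (I : X.Modules) (i : I ⟶ SerreCrit.OO X), Mono i → I.IsQuasicoherent →
      IsZero ((Coh.RpushAb f 1).obj (Coh.toAb I)))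
    (V : Y.Opens) (hV : IsAffineOpen V) (U : X.Opens) (hU : U = f ⁻¹ᵁ V) [QuasiCompact U.ι]
    [CompactSpace (U : Scheme.{u})] : IsAffineOpen U := by
  show IsAffine (U : Scheme.{u})
  apply SerreCrit.isAffine_of_surjHyp
  apply SerreCrit.surjHyp_of_H1
  intro J i hi hJ
  haveI := hi
  haveI := hJ
  let φ : J ⟶ (SerreCrit.OO X).restrict U.ι := i ≫ (Scheme.Modules.restrictUnitIso U.ι).inv
  haveI : Mono φ := mono_comp _ _
  haveI hIq : (SubExt.ext U (SerreCrit.OO X) J φ).IsQuasicoherent :=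
    SubExt.isQuasicoherent_ext U (SerreCrit.OO X) J φ
  haveI hIm : Mono (SubExt.extι U (SerreCrit.OO X) J φ) := SubExt.mono_extι U (SerreCrit.OO X) J φ
  have hR := h (SubExt.ext U (SerreCrit.OO X) J φ) (SubExt.extι U (SerreCrit.OO X) J φ) hIm hIq
  haveI hpq : ((Scheme.Modules.pushforward f).obj (SubExt.ext U (SerreCrit.OO X) J φ)).IsQuasicoherent :=
    QcqsLoc.isQuasicoherent_pushforward_qcqs f _
  have h2 : ∀ ξ : Abelian.Ext (fr (Y := Y.carrier) V)
      ((CohTop.push f.base).obj (Coh.toAb (SubExt.ext U (SerreCrit.OO X) J φ))) 1, ξ = 0 :=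
    fun ξ => AffVanish.ext_freeSheaf_eq_zero_of_MV
      (Coh.toAb ((Scheme.Modules.pushforward f).obj (SubExt.ext U (SerreCrit.OO X) J φ)))
      (AffVanish.MV_toAb _) V hV 0 ξ
  have h3 := ext_one_eq_zero_of_R1 f.base (Coh.toAb (SubExt.ext U (SerreCrit.OO X) J φ)) V hR h2
  have e : U.ι ''ᵁ ⊤ = (Opens.map f.base).obj V := (Scheme.Opens.ι_image_top U).trans hU
  have h4 : ∀ ξ : Abelian.Ext (fr (Y := X.carrier) (U.ι ''ᵁ ⊤))
      (Coh.toAb (SubExt.ext U (SerreCrit.OO X) J φ)) 1, ξ = 0 := by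
    rw [e]
    exact h3
  have h5 := H1_res_eq_zero U (Coh.toAb (SubExt.ext U (SerreCrit.OO X) J φ)) h4
  have eI : (SubExt.ext U (SerreCrit.OO X) J φ).restrict U.ι ≅ J :=
    asIso (SubExt.extRes U (SerreCrit.OO X) J φ)
  intro x
  haveI := Groth.Agent.Lib.ExtVanish_helper3.subsingleton_ext_of_iso_right
    (X := (constantSheaf (Opens.grothendieckTopology (U : Scheme.{u})) AddCommGrpCat.{u}).obj
      (AddCommGrpCat.of (ULift ℤ)))
    ((SerreCrit.TT (U : Scheme.{u})).mapIso eI.symm) 1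
    ⟨fun a b => (h5 a).trans (h5 b).symm⟩
  exact Subsingleton.elim _ _

end Scheme

end SerreRel
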