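import Mathlib
import Groth.Prelude
import Groth.Agent.Lib.SerreRel_helper9
import Groth.Agent.Lib.ClPush1_helper8
import Groth.Agent.Lib.GlobGen_helper9

/-!
# Nilpotent thickenings of affine schemes are affine (helper8)
APPEND-ONLY once landed.
-/

set_option autoImplicit false

namespace NilAffH8

open AlgebraicGeometry CategoryTheory CategoryTheory.Limits TopologicalSpace Opposite TensorProduct
open QcqsLoc QCohExtn

universe u

section Alg

variable {A B : Type u} [CommRing A] [CommRing B] [Algebra A B]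
  {M N : Type u} [AddCommGroup M] [Module A M] [AddCommGroup N] [Module A N] [Module B N]
  [IsScalarTower A B N]

/-- A base change along a surjection is surjective. -/
theorem surjective_of_isBaseChange (hsurj : Function.Surjective (algebraMap A B))
    (f : M →ₗ[A] N) (hf : IsBaseChange B f) : Function.Surjective f := by
  intro n
  induction n using hf.inductionOn with
  | zero => exact ⟨0, map_zero _⟩
  | tmul m => exact ⟨m, rfl⟩
  | smul b n ih =>
    obtain ⟨m, rfl⟩ := ih
    obtain ⟨a, rfl⟩ := hsurj b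
    exact ⟨a • m, by rw [map_smul, algebraMap_smul]⟩
  | add n₁ n₂ h₁ h₂ =>
    obtain ⟨m₁, rfl⟩ := h₁
    obtain ⟨m₂, rfl⟩ := h₂
    exact ⟨m₁ + m₂, map_add _ _ _⟩

/-- The kernel of a base change along a surjection with kernel `I` is `I M`. -/
theorem mem_smul_top_of_isBaseChange (hsurj : Function.Surjective (algebraMap A B))
    (f : M →ₗ[A] N) (hf : IsBaseChange B f) (m : M) (hm : f m = 0) :
    m ∈ (RingHom.ker (algebraMap A B) • (⊤ : Submodule A M)) := by
  have hk : ∀ a ∈ RingHom.ker (algebraMap A B),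
      ∀ x : M ⧸ (RingHom.ker (algebraMap A B) • (⊤ : Submodule A M)), a • x = 0 := by
    intro a ha x
    obtain ⟨y, rfl⟩ := Submodule.mkQ_surjective _ x
    rw [← map_smul, Submodule.mkQ_apply, Submodule.Quotient.mk_eq_zero]
    exact Submodule.smul_mem_smul ha trivial
  have hbij := ClPushH8.bijective_of_isBaseChange_of_killed
    (M := M ⧸ (RingHom.ker (algebraMap A B) • (⊤ : Submodule A M)))
    (N := B ⊗[A] (M ⧸ (RingHom.ker (algebraMap A B) • (⊤ : Submodule A M)))) hsurj hk
    (TensorProduct.mk A B _ 1) (TensorProduct.isBaseChange A _ B)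
  have h1 : (1 : B) ⊗ₜ[A] m = 0 := by
    apply hf.equiv.injective
    rw [IsBaseChange.equiv_tmul, one_smul, hm, map_zero]
  have h2 : (1 : B) ⊗ₜ[A]
      (Submodule.mkQ (RingHom.ker (algebraMap A B) • (⊤ : Submodule A M)) m) = 0 := by
    have := congrArg (LinearMap.lTensor B
      (Submodule.mkQ (RingHom.ker (algebraMap A B) • (⊤ : Submodule A M)))) h1
    simpa using this
  have h3 : Submodule.mkQ (RingHom.ker (algebraMap A B) • (⊤ : Submodule A M)) m = 0 :=
    hbij.1 (by rw [map_zero]; exact h2)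
  exact (Submodule.Quotient.mk_eq_zero _).mp h3

end Alg

variable {Z X : Scheme.{u}}

/-- Higher cohomology of the pushforward of a quasi-coherent module from an affine closed
subscheme vanishes. -/
theorem HH_pushforward_eq_zero (i : Z ⟶ X) [IsClosedImmersion i] [IsAffine Z] (G : Z.Modules)
    [G.IsQuasicoherent] (n : ℕ)
    (x : Coh.HH X ((Scheme.Modules.pushforward i).obj G) (n + 1)) : x = 0 := by
  have h := RpushVanish.isZero_Rpush_succ_of_isClosedEmbedding i.base i.isClosedEmbedding
    (Coh.toAb G)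
  obtain ⟨e⟩ := Leray.nonempty_H_addEquiv_push i.base (Coh.toAb G) h (n + 1)
  haveI := AffVanish.HH_subsingleton_of_isAffine Z G n
  have h0 : e.symm x = 0 := Subsingleton.elim _ _
  have := congrArg e h0
  rwa [AddEquiv.apply_symm_apply, map_zero] at this

section Unit

open PBH8

variable (i : Z ⟶ X) [IsClosedImmersion i] (F : X.Modules) [F.IsQuasicoherent]

theorem unit_app_surjective {V : X.Opens} (hV : IsAffineOpen V) :
    Function.Surjective (((Scheme.Modules.pullbackPushforwardAdjunction i).unit.app F).app V) := by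
  have hU : IsAffineOpen (i ⁻¹ᵁ V) := hV.preimage i
  letI := (i.appLE V (i ⁻¹ᵁ V) (le_refl _)).hom.toAlgebra
  letI : Module Γ(X, V) Γ((Scheme.Modules.pullback i).obj F, i ⁻¹ᵁ V) :=
    Module.compHom _ (i.appLE V (i ⁻¹ᵁ V) (le_refl _)).hom
  haveI : IsScalarTower Γ(X, V) Γ(Z, i ⁻¹ᵁ V) Γ((Scheme.Modules.pullback i).obj F, i ⁻¹ᵁ V) :=
    IsScalarTower.of_algebraMap_smul fun _ _ => rfl
  have bc := isBaseChange_cUV i F (le_refl (i ⁻¹ᵁ V)) hU hV
  have happ : i.appLE V (i ⁻¹ᵁ V) (le_refl _) = i.app V := i.appLE_eq_app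
  have hsurj : Function.Surjective (algebraMap Γ(X, V) Γ(Z, i ⁻¹ᵁ V)) := by
    show Function.Surjective (i.appLE V (i ⁻¹ᵁ V) (le_refl _)).hom
    rw [happ]
    exact i.app_surjective V hV
  have hb := surjective_of_isBaseChange hsurj (cUVLin i F (le_refl (i ⁻¹ᵁ V))) bc
  have heq : ⇑(cUVLin i F (le_refl (i ⁻¹ᵁ V))) =
      ⇑(((Scheme.Modules.pullbackPushforwardAdjunction i).unit.app F).app V) := by
    funext x
    exact ClPushH8.cUV_self i F V x
  rw [← heq]
  exact hb

theorem unit_app_ker {V : X.Opens} (hV : IsAffineOpen V) (m : Γ(F, V))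
    (hm : ((Scheme.Modules.pullbackPushforwardAdjunction i).unit.app F).app V m = 0) :
    m ∈ (i.ker.ideal ⟨V, hV⟩ • (⊤ : Submodule Γ(X, V) Γ(F, V))) := by
  have hU : IsAffineOpen (i ⁻¹ᵁ V) := hV.preimage i
  letI := (i.appLE V (i ⁻¹ᵁ V) (le_refl _)).hom.toAlgebra
  letI : Module Γ(X, V) Γ((Scheme.Modules.pullback i).obj F, i ⁻¹ᵁ V) :=
    Module.compHom _ (i.appLE V (i ⁻¹ᵁ V) (le_refl _)).hom
  haveI : IsScalarTower Γ(X, V) Γ(Z, i ⁻¹ᵁ V) Γ((Scheme.Modules.pullback i).obj F, i ⁻¹ᵁ V) :=
    IsScalarTower.of_algebraMap_smul fun _ _ => rfl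
  have bc := isBaseChange_cUV i F (le_refl (i ⁻¹ᵁ V)) hU hV
  have happ : i.appLE V (i ⁻¹ᵁ V) (le_refl _) = i.app V := i.appLE_eq_app
  have hsurj : Function.Surjective (algebraMap Γ(X, V) Γ(Z, i ⁻¹ᵁ V)) := by
    show Function.Surjective (i.appLE V (i ⁻¹ᵁ V) (le_refl _)).hom
    rw [happ]
    exact i.app_surjective V hV
  have hm' : cUVLin i F (le_refl (i ⁻¹ᵁ V)) m = 0 := by
    have := ClPushH8.cUV_self i F V m
    rw [hm] at this
    exact this
  have h := mem_smul_top_of_isBaseChange hsurj (cUVLin i F (le_refl (i ⁻¹ᵁ V))) bc m hm'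
  have hker : RingHom.ker (algebraMap Γ(X, V) Γ(Z, i ⁻¹ᵁ V)) = i.ker.ideal ⟨V, hV⟩ := by
    rw [Scheme.Hom.ker_apply]
    ext a
    rw [RingHom.mem_ker, RingHom.mem_ker]
    show (i.appLE V (i ⁻¹ᵁ V) (le_refl _)).hom a = 0 ↔ _
    rw [happ]
  rw [hker] at h
  exact h

end Unit

section Dev

variable (i : Z ⟶ X) [IsClosedImmersion i] [IsAffine Z]

theorem HH1_zero_of_killed (K : X.Modules) [K.IsQuasicoherent]
    (hk : ClSub.KilledByIdeal i.ker K) (x : Coh.HH X K 1) : x = 0 := by
  obtain ⟨G, hG, -, ⟨e⟩⟩ := ClPushH8.exists_pushforward_iso i K hk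
  haveI := hG
  have hs : Subsingleton (Coh.HH X ((Scheme.Modules.pushforward i).obj G) 1) :=
    ⟨fun a b => (HH_pushforward_eq_zero i G 0 a).trans (HH_pushforward_eq_zero i G 0 b).symm⟩
  haveI := Groth.Agent.Lib.ExtVanish_helper3.subsingleton_ext_of_iso_right
    (X := (constantSheaf (Opens.grothendieckTopology X) AddCommGrpCat.{u}).obj
      (AddCommGrpCat.of (ULift ℤ)))
    ((SerreCrit.TT X).mapIso e.symm) 1 hs
  exact Subsingleton.elim _ _

theorem killed_kernel_unit (n : ℕ) (K : X.Modules) [K.IsQuasicoherent]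
    (hk : ClSub.KilledByIdeal (i.ker ^ (n + 2)) K) :
    ClSub.KilledByIdeal (i.ker ^ (n + 1))
      (kernel ((Scheme.Modules.pullbackPushforwardAdjunction i).unit.app K)) := by
  intro U a ha m'
  have hcond : ap ((Scheme.Modules.pullbackPushforwardAdjunction i).unit.app K) U.1
      (ap (kernel.ι ((Scheme.Modules.pullbackPushforwardAdjunction i).unit.app K)) U.1 m') = 0 := by
    have := congrArg (fun φ => ap φ U.1 m')
      (kernel.condition ((Scheme.Modules.pullbackPushforwardAdjunction i).unit.app K))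
    exact this
  have hmem := unit_app_ker i K U.2 _ hcond
  have hzero : a • ap (kernel.ι ((Scheme.Modules.pullbackPushforwardAdjunction i).unit.app K))
      U.1 m' = 0 := by
    refine Submodule.smul_induction_on hmem ?_ ?_
    · intro r hr m _
      rw [← mul_smul]
      refine hk U (a * r) ?_ m
      show a * r ∈ (i.ker.ideal U) ^ (n + 2)
      rw [pow_succ]
      exact Ideal.mul_mem_mul ha hr
    · intro x y hx hy
      rw [smul_add, hx, hy, add_zero]
  apply QCohExact.app_injective_of_mono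
    (kernel.ι ((Scheme.Modules.pullbackPushforwardAdjunction i).unit.app K)) U.1
  show ap (kernel.ι ((Scheme.Modules.pullbackPushforwardAdjunction i).unit.app K)) U.1 (a • m') =
    ap (kernel.ι ((Scheme.Modules.pullbackPushforwardAdjunction i).unit.app K)) U.1 0
  have e1 : ap (kernel.ι ((Scheme.Modules.pullbackPushforwardAdjunction i).unit.app K)) U.1
      (a • m') = a • ap (kernel.ι ((Scheme.Modules.pullbackPushforwardAdjunction i).unit.app K))
        U.1 m' := ap_smul _ a m'
  rw [map_zero]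
  exact e1.trans hzero

theorem HH1_zero_of_killed_pow (n : ℕ) : ∀ (K : X.Modules) [K.IsQuasicoherent],
    ClSub.KilledByIdeal (i.ker ^ (n + 1)) K → ∀ x : Coh.HH X K 1, x = 0 := by
  induction n with
  | zero =>
    intro K _ hk x
    refine HH1_zero_of_killed i K ?_ x
    intro U a ha m
    exact hk U a (by simpa using ha) m
  | succ n ih =>
    intro K _ hk x
    haveI hq : ((Scheme.Modules.pushforward i).obj
        ((Scheme.Modules.pullback i).obj K)).IsQuasicoherent :=
      QCohCrit.isQuasicoherent_pushforward i _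
    obtain ⟨η, hη⟩ : ∃ η : K ⟶ (Scheme.Modules.pushforward i).obj
        ((Scheme.Modules.pullback i).obj K),
        η = (Scheme.Modules.pullbackPushforwardAdjunction i).unit.app K := ⟨_, rfl⟩
    haveI hepi : Epi η := by
      rw [hη]
      exact GlobGen.epi_of_surjective_on_basis _ X.affineOpens X.isBasis_affineOpens
        (fun V hV => unit_app_surjective i K hV)
    haveI hker : (kernel η).IsQuasicoherent := SubExt.isQuasicoherent_kernel η
    let S : ShortComplex X.Modules := ShortComplex.mk (kernel.ι η) η (kernel.condition η)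
    have hS : S.ShortExact := ShortComplex.ShortExact.mk' (ShortComplex.exact_kernel η)
      (inferInstanceAs (Mono (kernel.ι η))) hepi
    have hT := SerreCrit.shortExact_toSheaf S hS
    have h1 : ∀ y : Coh.HH X (kernel η) 1, y = 0 := by
      subst hη
      exact ih _ (killed_kernel_unit i n K hk)
    have h3 : ∀ y : Coh.HH X ((Scheme.Modules.pushforward i).obj
        ((Scheme.Modules.pullback i).obj K)) 1, y = 0 := HH_pushforward_eq_zero i _ 0
    obtain ⟨x₁, hx₁⟩ := Abelian.Ext.covariant_sequence_exact₂ _ hT x (h3 _)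
    have hx0 : x₁ = 0 := h1 x₁
    rw [hx0, Abelian.Ext.zero_comp] at hx₁
    exact hx₁.symm

end Dev

end NilAffH8
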