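import Mathlib
import Groth.Prelude
import Groth.Agent.Lib.NilAff1_helper8

/-!
# Nilpotent thickenings of affine schemes are affine, II (helper8)
APPEND-ONLY once landed.
-/

set_option autoImplicit false

namespace NilAffH8

open AlgebraicGeometry CategoryTheory CategoryTheory.Limits TopologicalSpace Opposite

universe u

variable {Z X : Scheme.{u}}

/-- A closed immersion with nilpotent ideal is surjective. -/
theorem range_eq_univ_of_nilpotent (i : Z ⟶ X) [IsClosedImmersion i]
    (hnil : ∃ n : ℕ, ∀ V : X.affineOpens, i.ker.ideal V ^ n = ⊥) :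
    Set.range i = Set.univ := by
  obtain ⟨n, hn⟩ := hnil
  have h' : i.ker ^ (n + 1) = ⊥ := by
    apply Scheme.IdealSheafData.ext
    funext V
    show i.ker.ideal V ^ (n + 1) = ⊥
    rw [pow_succ, hn V, Ideal.bot_mul]
  have h1 : (i.ker ^ (n + 1)).support = i.ker.support := Scheme.IdealSheafData.support_pow_succ _ n
  rw [h', Scheme.IdealSheafData.support_bot] at h1
  have h2 := Scheme.Hom.support_ker i
  rw [← h1] at h2
  rw [i.isClosedEmbedding.isClosed_range.closure_eq] at h2
  exact h2.symm

/-- A scheme which is a nilpotent thickening of an affine scheme is affine. -/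
theorem isAffine_of_nilpotent (i : Z ⟶ X) [IsClosedImmersion i] [IsAffine Z]
    (hnil : ∃ n : ℕ, ∀ V : X.affineOpens, i.ker.ideal V ^ n = ⊥) : IsAffine X := by
  have hrange := range_eq_univ_of_nilpotent i hnil
  haveI : CompactSpace X := ⟨by rw [← hrange]; exact isCompact_range i.continuous⟩
  obtain ⟨n, hn⟩ := hnil
  apply SerreCrit.isAffine_of_surjHyp
  apply SerreCrit.surjHyp_of_H1
  intro I j hj hI x
  haveI := hI
  refine HH1_zero_of_killed_pow i n I ?_ x
  intro U a ha m
  have ha' : a ∈ i.ker.ideal U ^ (n + 1) := ha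
  rw [pow_succ, hn U, Ideal.bot_mul] at ha'
  have ha0 : a = 0 := ha'
  rw [ha0, zero_smul]

/-- An open of a nilpotent thickening whose trace on the closed subscheme is affine is affine. -/
theorem isAffineOpen_of_nilpotent (i : Z ⟶ X) [IsClosedImmersion i]
    (hnil : ∃ n : ℕ, ∀ V : X.affineOpens, i.ker.ideal V ^ n = ⊥) (W : X.Opens)
    (hW : IsAffineOpen (i ⁻¹ᵁ W)) : IsAffineOpen W := by
  haveI : IsAffine ((i ⁻¹ᵁ W : Z.Opens) : Scheme.{u}) := hW
  haveI : IsClosedImmersion (i ∣_ W) := IsZariskiLocalAtTarget.restrict (P := @IsClosedImmersion) inferInstance W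
  show IsAffine (W : Scheme.{u})
  refine isAffine_of_nilpotent (i ∣_ W) ?_
  obtain ⟨n, hn⟩ := hnil
  refine ⟨n, fun V => ?_⟩
  rw [Scheme.ker_morphismRestrict_ideal]
  exact hn ⟨W.ι ''ᵁ V, V.2.image_of_isOpenImmersion _⟩

end NilAffH8
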