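import Mathlib
import Groth.Prelude
import Groth.Agent.Lib.NilAff2_helper8

/-!
# Nilpotent thickenings of affine schemes are affine, III: the Noetherian case (helper8)
APPEND-ONLY once landed.
-/

set_option autoImplicit false

namespace NilAffH8

open AlgebraicGeometry CategoryTheory CategoryTheory.Limits TopologicalSpace Opposite

universe u

/-- The nilradical of a Noetherian scheme is nilpotent. -/
theorem exists_nilradical_pow_eq_bot (S : Scheme.{u}) [IsLocallyNoetherian S] [CompactSpace S] :
    ∃ n : ℕ, S.nilradical ^ n = ⊥ := by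
  classical
  obtain ⟨s, hs, e⟩ := isCompact_iff_finite_and_eq_biUnion_affineOpens.mp
    (show IsCompact (X := S) ((⊤ : S.Opens) : Set S) from isCompact_univ)
  have h1 : ∀ V : S.affineOpens, ∃ n : ℕ, (nilradical Γ(S, V.1)) ^ n = ⊥ := fun V => by
    haveI := IsLocallyNoetherian.component_noetherian V
    exact IsNoetherianRing.isNilpotent_nilradical _
  choose N hN using h1
  refine ⟨hs.toFinset.sup N, le_bot_iff.mp ?_⟩
  apply Scheme.IdealSheafData.le_of_iSup_eq_top (fun V : s => V.1)
  · rw [e, iSup_subtype]
  · intro V
    show (S.nilradical.ideal V.1) ^ (hs.toFinset.sup N) ≤ ⊥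
    have h2 : S.nilradical.ideal V.1 = nilradical Γ(S, V.1.1) := rfl
    rw [h2]
    calc nilradical Γ(S, V.1.1) ^ (hs.toFinset.sup N)
        ≤ nilradical Γ(S, V.1.1) ^ N V.1 :=
          Ideal.pow_le_pow_right (Finset.le_sup (f := N) (hs.mem_toFinset.mpr V.2))
      _ = ⊥ := hN V.1

variable {Z X : Scheme.{u}}

/-- The ideal of a surjective closed immersion is contained in the nilradical. -/
theorem ker_le_nilradical (i : Z ⟶ X) [IsClosedImmersion i] [Surjective i] :
    i.ker ≤ X.nilradical := by
  have h1 : i.ker.support = ⊤ := by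
    apply SetLike.coe_injective
    rw [Scheme.Hom.support_ker, i.isClosedEmbedding.isClosed_range.closure_eq]
    exact i.surjective.range_eq
  calc i.ker ≤ i.ker.radical := Scheme.IdealSheafData.le_radical _
    _ = X.nilradical := by
      rw [← Scheme.IdealSheafData.vanishingIdeal_support, h1,
        Scheme.IdealSheafData.vanishingIdeal_top]

/-- A Noetherian scheme with an affine closed subscheme on the same underlying space is
affine. -/
theorem isAffine_of_surjective_closedImmersion (i : Z ⟶ X) [IsClosedImmersion i] [Surjective i]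
    [IsAffine Z] [IsLocallyNoetherian X] [CompactSpace X] : IsAffine X := by
  obtain ⟨n, hn⟩ := exists_nilradical_pow_eq_bot X
  refine isAffine_of_nilpotent i ⟨n, fun V => ?_⟩
  have h1 : i.ker ^ n ≤ X.nilradical ^ n := pow_le_pow_left' (ker_le_nilradical i) n
  rw [hn] at h1
  exact le_bot_iff.mp (h1 V)

end NilAffH8
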