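import Mathlib
import Groth.Prelude
import Groth.Agent.Lib.NilAff3_helper8
import Groth.Agent.Lib.ClPush2_helper8
import Groth.Agent.Lib.RelFPAff4_helper9

/-!
# Dévissage of coherent modules along a decomposition of the support (helper8)
APPEND-ONLY once landed.
-/

set_option autoImplicit false

namespace CohDevH8

open AlgebraicGeometry CategoryTheory CategoryTheory.Limits TopologicalSpace Opposite
open QcqsLoc QCohExtn

universe u

/-- On a Noetherian scheme, a power of the radical of an ideal sheaf is contained in it. -/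
theorem exists_radical_pow_le (S : Scheme.{u}) [IsLocallyNoetherian S] [CompactSpace S]
    (A : S.IdealSheafData) : ∃ n : ℕ, A.radical ^ n ≤ A := by
  classical
  obtain ⟨s, hs, e⟩ := isCompact_iff_finite_and_eq_biUnion_affineOpens.mp
    (show IsCompact (X := S) ((⊤ : S.Opens) : Set S) from isCompact_univ)
  have h1 : ∀ V : S.affineOpens, ∃ n : ℕ, (A.ideal V).radical ^ n ≤ A.ideal V := fun V => by
    haveI := IsLocallyNoetherian.component_noetherian V
    exact Ideal.exists_radical_pow_le_of_fg _ (IsNoetherian.noetherian _)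
  choose N hN using h1
  refine ⟨hs.toFinset.sup N, ?_⟩
  apply Scheme.IdealSheafData.le_of_iSup_eq_top (fun V : s => V.1)
  · rw [e, iSup_subtype]
  · intro V
    show (A.radical.ideal V.1) ^ (hs.toFinset.sup N) ≤ A.ideal V.1
    rw [Scheme.IdealSheafData.radical_ideal]
    calc (A.ideal V.1).radical ^ (hs.toFinset.sup N)
        ≤ (A.ideal V.1).radical ^ N V.1 :=
          Ideal.pow_le_pow_right (Finset.le_sup (f := N) (hs.mem_toFinset.mpr V.2))
      _ ≤ A.ideal V.1 := hN V.1

variable {X : Scheme.{u}}

/-- If the support of a coherent module on a Noetherian scheme is `Z ∪ Z'`, then the product of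
suitable powers of the vanishing ideals of `Z` and `Z'` annihilates the module. -/
theorem exists_pow_mul_pow_le [IsLocallyNoetherian X] [CompactSpace X] (M : X.Modules)
    [M.IsQuasicoherent] [SheafOfModules.IsFiniteType (R := X.ringCatSheaf) M]
    (Z Z' : Closeds X) (h : CohB1.support M = (Z : Set X) ∪ (Z' : Set X)) :
    ∃ n : ℕ, (Scheme.IdealSheafData.vanishingIdeal Z) ^ (n + 1) *
      (Scheme.IdealSheafData.vanishingIdeal Z') ^ (n + 1) ≤ AnnShH8.annIdeal M := by
  obtain ⟨n, hn⟩ := exists_radical_pow_le X (AnnShH8.annIdeal M)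
  refine ⟨n, ?_⟩
  have hsupp : (AnnShH8.annIdeal M).support = Z ⊔ Z' := by
    apply SetLike.coe_injective
    rw [AnnShH8.support_annIdeal, h]
    rfl
  have hrad : (AnnShH8.annIdeal M).radical =
      Scheme.IdealSheafData.vanishingIdeal Z ⊓ Scheme.IdealSheafData.vanishingIdeal Z' := by
    rw [← Scheme.IdealSheafData.vanishingIdeal_support, hsupp,
      Scheme.IdealSheafData.vanishingIdeal_sup]
  intro U
  show (Scheme.IdealSheafData.vanishingIdeal Z).ideal U ^ (n + 1) *
      (Scheme.IdealSheafData.vanishingIdeal Z').ideal U ^ (n + 1) ≤ (AnnShH8.annIdeal M).ideal U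
  have h1 : (Scheme.IdealSheafData.vanishingIdeal Z).ideal U *
      (Scheme.IdealSheafData.vanishingIdeal Z').ideal U ≤
      (AnnShH8.annIdeal M).radical.ideal U := by
    rw [hrad]
    exact Ideal.mul_le_inf
  calc (Scheme.IdealSheafData.vanishingIdeal Z).ideal U ^ (n + 1) *
      (Scheme.IdealSheafData.vanishingIdeal Z').ideal U ^ (n + 1)
      = ((Scheme.IdealSheafData.vanishingIdeal Z).ideal U *
        (Scheme.IdealSheafData.vanishingIdeal Z').ideal U) ^ (n + 1) := (mul_pow _ _ _).symm
    _ ≤ (AnnShH8.annIdeal M).radical.ideal U ^ (n + 1) := Ideal.pow_right_mono h1 _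
    _ ≤ (AnnShH8.annIdeal M).radical.ideal U ^ n := Ideal.pow_le_pow_right (Nat.le_succ n)
    _ ≤ (AnnShH8.annIdeal M).ideal U := hn U

section Dev

variable [IsLocallyNoetherian X] (M : X.Modules) [M.IsQuasicoherent]
  [SheafOfModules.IsFiniteType (R := X.ringCatSheaf) M] (J J' : X.IdealSheafData)

/-- The kernel of `M → i_* i^* M` (with `i` the closed immersion of `V(J)`) is killed by `J'` as
soon as `J J'` kills `M`. -/
theorem killed_kernel (hJ : J * J' ≤ AnnShH8.annIdeal M) (U : X.affineOpens)
    (b : Γ(X, U.1)) (hb : b ∈ J'.ideal U)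
    (m' : Γ(kernel ((Scheme.Modules.pullbackPushforwardAdjunction J.subschemeι).unit.app M), U.1)) :
    b • m' = 0 := by
  have hcond : ap ((Scheme.Modules.pullbackPushforwardAdjunction J.subschemeι).unit.app M) U.1
      (ap (kernel.ι ((Scheme.Modules.pullbackPushforwardAdjunction J.subschemeι).unit.app M))
        U.1 m') = 0 := by
    have := congrArg (fun φ => ap φ U.1 m')
      (kernel.condition ((Scheme.Modules.pullbackPushforwardAdjunction J.subschemeι).unit.app M))
    exact this
  have hmem := NilAffH8.unit_app_ker J.subschemeι M U.2 _ hcond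
  rw [Scheme.IdealSheafData.ker_subschemeι] at hmem
  have hzero : b • ap (kernel.ι
      ((Scheme.Modules.pullbackPushforwardAdjunction J.subschemeι).unit.app M)) U.1 m' = 0 := by
    refine Submodule.smul_induction_on hmem ?_ ?_
    · intro r hr m _
      rw [← mul_smul]
      have hmem2 : r * b ∈ (AnnShH8.annIdeal M).ideal U := hJ U (Ideal.mul_mem_mul hr hb)
      rw [AnnShH8.annIdeal_ideal, Module.mem_annihilator] at hmem2
      rw [mul_comm]
      exact hmem2 m
    · intro x y hx hy
      rw [smul_add, hx, hy, add_zero]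
  apply QCohExact.app_injective_of_mono
    (kernel.ι ((Scheme.Modules.pullbackPushforwardAdjunction J.subschemeι).unit.app M)) U.1
  show ap (kernel.ι ((Scheme.Modules.pullbackPushforwardAdjunction J.subschemeι).unit.app M)) U.1
      (b • m') =
    ap (kernel.ι ((Scheme.Modules.pullbackPushforwardAdjunction J.subschemeι).unit.app M)) U.1 0
  have e1 : ap (kernel.ι ((Scheme.Modules.pullbackPushforwardAdjunction J.subschemeι).unit.app M))
      U.1 (b • m') = b • ap (kernel.ι
        ((Scheme.Modules.pullbackPushforwardAdjunction J.subschemeι).unit.app M))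
        U.1 m' := ap_smul _ b m'
  rw [map_zero]
  exact e1.trans hzero

/-- Dévissage: if `J J'` kills the coherent module `M`, then `M` is an extension of a coherent
module supported on `V(J)` by a coherent module supported on `V(J')`. -/
theorem exists_shortExact_of_mul_le (hJ : J * J' ≤ AnnShH8.annIdeal M) :
    ∃ S : ShortComplex X.Modules, S.ShortExact ∧ Nonempty (S.X₂ ≅ M) ∧ Coh.IsCoh S.X₁ ∧
      Coh.IsCoh S.X₃ ∧ CohB1.support S.X₁ ⊆ (J'.support : Set X) ∧
      CohB1.support S.X₃ ⊆ (J.support : Set X) := by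
  haveI hq2 : ((Scheme.Modules.pullback J.subschemeι).obj M).IsQuasicoherent := inferInstance
  haveI hf2 : SheafOfModules.IsFiniteType (R := J.subscheme.ringCatSheaf)
      ((Scheme.Modules.pullback J.subschemeι).obj M) := FpqcH8.isFiniteType_pullback J.subschemeι M
  haveI hq : ((Scheme.Modules.pushforward J.subschemeι).obj
      ((Scheme.Modules.pullback J.subschemeι).obj M)).IsQuasicoherent :=
    QCohCrit.isQuasicoherent_pushforward J.subschemeι _
  haveI hf : SheafOfModules.IsFiniteType (R := X.ringCatSheaf)
      ((Scheme.Modules.pushforward J.subschemeι).obj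
        ((Scheme.Modules.pullback J.subschemeι).obj M)) :=
    QCohCrit.isFiniteType_pushforward J.subschemeι _
  obtain ⟨η, hη⟩ : ∃ η : M ⟶ (Scheme.Modules.pushforward J.subschemeι).obj
      ((Scheme.Modules.pullback J.subschemeι).obj M),
      η = (Scheme.Modules.pullbackPushforwardAdjunction J.subschemeι).unit.app M := ⟨_, rfl⟩
  haveI hepi : Epi η := by
    rw [hη]
    exact GlobGen.epi_of_surjective_on_basis _ X.affineOpens X.isBasis_affineOpens
      (fun V hV => NilAffH8.unit_app_surjective J.subschemeι M hV)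
  haveI hker : (kernel η).IsQuasicoherent := SubExt.isQuasicoherent_kernel η
  haveI hkf : SheafOfModules.IsFiniteType (R := X.ringCatSheaf) (kernel η : X.Modules) := by
    refine QCohCrit.isFiniteType_of_sections_cover (kernel η) (fun V : X.affineOpens => (V : X.Opens))
      (fun V => V.2) (iSup_affineOpens_eq_top X) (fun V => ?_)
    haveI := IsLocallyNoetherian.component_noetherian V
    haveI : Module.Finite Γ(X, V.1) Γ(M, V.1) := QCohFT.finite_of_isFiniteType M V.2
    exact Module.Finite.of_injective (RelFPAff.appₗ (kernel.ι η) V.1)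
      (QCohExact.app_injective_of_mono (kernel.ι η) V.1)
  let S : ShortComplex X.Modules := ShortComplex.mk (kernel.ι η) η (kernel.condition η)
  have hS : S.ShortExact := ShortComplex.ShortExact.mk' (ShortComplex.exact_kernel η)
    (inferInstanceAs (Mono (kernel.ι η))) hepi
  refine ⟨S, hS, ⟨Iso.refl _⟩, ⟨hker, hkf⟩, ⟨hq, hf⟩, ?_, ?_⟩
  · show CohB1.support (kernel η) ⊆ _
    rw [← AnnShH8.support_annIdeal (kernel η)]
    have hle : J' ≤ AnnShH8.annIdeal (kernel η) := by
      intro U b hb
      rw [AnnShH8.annIdeal_ideal, Module.mem_annihilator]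
      intro m'
      subst hη
      exact killed_kernel M J J' hJ U b hb m'
    exact Scheme.IdealSheafData.support_antitone hle
  · show CohB1.support ((Scheme.Modules.pushforward J.subschemeι).obj
      ((Scheme.Modules.pullback J.subschemeι).obj M)) ⊆ _
    rw [← Scheme.IdealSheafData.range_subschemeι]
    exact ClPushH8.support_subset_range J.subschemeι
      J.subschemeι.isClosedEmbedding.isClosed_range _ _ (Iso.refl _)

end Dev

/-- On a Noetherian scheme, if the support of a coherent module `M` is `Z ∪ Z'` with `Z`, `Z'`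
closed, then `M` is an extension of a coherent module supported in `Z` by a coherent module
supported in `Z'`. -/
theorem exists_shortExact_of_support_eq_union [IsLocallyNoetherian X] [CompactSpace X]
    (M : X.Modules) (hM : Coh.IsCoh M)
    (Z Z' : Set X) (hZ : IsClosed Z) (hZ' : IsClosed Z') (h : CohB1.support M = Z ∪ Z') :
    ∃ S : ShortComplex X.Modules, S.ShortExact ∧ Nonempty (S.X₂ ≅ M) ∧ Coh.IsCoh S.X₁ ∧
      Coh.IsCoh S.X₃ ∧ CohB1.support S.X₁ ⊆ Z' ∧ CohB1.support S.X₃ ⊆ Z := by
  haveI : M.IsQuasicoherent := hM.1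
  haveI : SheafOfModules.IsFiniteType (R := X.ringCatSheaf) M := hM.2
  obtain ⟨n, hn⟩ := exists_pow_mul_pow_le M ⟨Z, hZ⟩ ⟨Z', hZ'⟩ h
  obtain ⟨S, hS, e, h1, h3, hs1, hs3⟩ := exists_shortExact_of_mul_le M _ _ hn
  refine ⟨S, hS, e, h1, h3, ?_, ?_⟩
  · rw [Scheme.IdealSheafData.support_pow_succ,
      Scheme.IdealSheafData.coe_support_vanishingIdeal] at hs1
    exact hs1
  · rw [Scheme.IdealSheafData.support_pow_succ,
      Scheme.IdealSheafData.coe_support_vanishingIdeal] at hs3
    exact hs3

end CohDevH8
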