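import Mathlib
set_option autoImplicit false
open TensorProduct
universe u
namespace PBH8

section
variable {A B : Type u} [CommRing A] [CommRing B] [Algebra A B]
  {M N P Q : Type u} [AddCommGroup M] [Module A M] [AddCommGroup N] [Module A N]
  [AddCommGroup P] [Module A P] [Module B P] [IsScalarTower A B P]
  [AddCommGroup Q] [Module A Q] [Module B Q] [IsScalarTower A B Q]

/-- base change along a surjection is surjective. -/
theorem IsBaseChange.surjective_of_surjective (hsurj : Function.Surjective (algebraMap A B))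
    {cM : M →ₗ[A] P} (hM : IsBaseChange B cM) : Function.Surjective cM := by
  intro p
  refine hM.inductionOn p _ ⟨0, map_zero _⟩ (fun m => ⟨m, rfl⟩) ?_ ?_
  · rintro b _ ⟨m, rfl⟩
    obtain ⟨a, rfl⟩ := hsurj b
    exact ⟨a • m, by rw [map_smul, algebraMap_smul]⟩
  · rintro _ _ ⟨m₁, rfl⟩ ⟨m₂, rfl⟩
    exact ⟨m₁ + m₂, map_add _ _ _⟩

/-- kernel of a base change along a surjection. -/
theorem IsBaseChange.ker_le_smul_top (hsurj : Function.Surjective (algebraMap A B))
    {cN : N →ₗ[A] Q} (hN : IsBaseChange B cN) (y : N) (hy : cN y = 0) :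
    y ∈ (RingHom.ker (algebraMap A B)) • (⊤ : Submodule A N) := by
  set I := RingHom.ker (algebraMap A B) with hI
  have h1 : (1 : B) ⊗ₜ[A] y = 0 := by
    have := hN.equiv_symm_apply y
    rw [hy, map_zero] at this
    exact this.symm
  let e : (A ⧸ I) ≃ₐ[A] B := Ideal.quotientKerAlgEquivOfSurjective (f := Algebra.ofId A B) hsurj
  let g : B ⊗[A] N →ₗ[A] N ⧸ (I • (⊤ : Submodule A N)) :=
    (TensorProduct.quotTensorEquivQuotSMul N I).toLinearMap ∘ₗ
      (LinearMap.rTensor N e.symm.toLinearMap)
  have h2 : g ((1 : B) ⊗ₜ[A] y) = Submodule.Quotient.mk y := by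
    simp only [g, LinearMap.coe_comp, Function.comp_apply, LinearMap.rTensor_tmul,
      AlgEquiv.toLinearMap_apply, map_one, LinearEquiv.coe_coe]
    exact TensorProduct.quotTensorEquivQuotSMul_mk_one_tmul I y
  rw [h1, map_zero] at h2
  exact (Submodule.Quotient.mk_eq_zero _).mp h2.symm

/-- Nakayama: surjectivity can be checked after base change along a surjection with kernel in the
Jacobson radical. -/
theorem surjective_of_baseChange_surjective (hsurj : Function.Surjective (algebraMap A B))
    (hker : RingHom.ker (algebraMap A B) ≤ Ideal.jacobson ⊥) [Module.Finite A N]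
    {cM : M →ₗ[A] P} {cN : N →ₗ[A] Q} (hM : IsBaseChange B cM) (hN : IsBaseChange B cN)
    (u : M →ₗ[A] N) (v : P → Q) (comm : ∀ m, v (cM m) = cN (u m))
    (hv : Function.Surjective v) : Function.Surjective u := by
  rw [← LinearMap.range_eq_top, eq_top_iff]
  refine Submodule.le_of_le_smul_of_le_jacobson_bot Module.Finite.fg_top hker ?_
  intro n _
  obtain ⟨p, hp⟩ := hv (cN n)
  obtain ⟨m, rfl⟩ := IsBaseChange.surjective_of_surjective hsurj hM p
  rw [comm] at hp
  have h0 : cN (n - u m) = 0 := by rw [map_sub, hp, sub_self]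
  have h1 := IsBaseChange.ker_le_smul_top hsurj hN _ h0
  have : n = u m + (n - u m) := by abel
  rw [this]
  exact Submodule.add_mem_sup ⟨m, rfl⟩ h1

end
end PBH8
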