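import Mathlib
import Groth.Prelude
import Groth.Agent.Lib.PB8_helper8
import Groth.Agent.Lib.NakBC_helper8
import Groth.Agent.Lib.SubExt_helper9
import Groth.Agent.Lib.QCohFT_helper9
import Groth.Agent.Lib.QCohExact_helper9

/-!
# Morphisms vanishing on all infinitesimal neighbourhoods (helper8)
APPEND-ONLY once landed.
-/

set_option autoImplicit false

namespace FComplH8

open AlgebraicGeometry CategoryTheory CategoryTheory.Limits TopologicalSpace Opposite
open QcqsLoc QCohExtn PBH8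

universe u

section Alg

/-- Krull + Nakayama: a submodule contained in all `I^n N` is killed by some `s ≡ 1 mod I`. -/
theorem exists_kill {A : Type*} [CommRing A] [IsNoetherianRing A] {N : Type*} [AddCommGroup N]
    [Module A N] [Module.Finite A N] (I : Ideal A) (N' : Submodule A N)
    (h : ∀ n : ℕ, N' ≤ I ^ (n + 1) • (⊤ : Submodule A N)) :
    ∃ s : A, s - 1 ∈ I ∧ ∀ x ∈ N', s • x = 0 := by
  set N'' : Submodule A N := ⨅ i : ℕ, I ^ i • (⊤ : Submodule A N) with hN''
  have h1 : N' ≤ N'' := by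
    refine le_iInf (fun i => ?_)
    cases i with
    | zero => simp
    | succ n => exact h n
  have h2 : N'' ≤ I • N'' := by
    intro x hx
    obtain ⟨r, hr⟩ := (I.mem_iInf_smul_pow_eq_bot_iff x).mp hx
    rw [← hr]
    exact Submodule.smul_mem_smul r.2 hx
  obtain ⟨s, hs1, hs2⟩ := Submodule.exists_sub_one_mem_and_smul_eq_zero_of_fg_of_le_smul I N''
    (IsNoetherian.noetherian N'') h2
  exact ⟨s, hs1, fun x hx => hs2 x (h1 hx)⟩

end Alg

variable {X : Scheme.{u}}

/-- Vanishing of a section map can be checked locally. -/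
theorem ap_eq_zero_of_locally {F G : X.Modules} (u : F ⟶ G) (O : X.Opens) (y : Γ(F, O))
    (h : ∀ x ∈ O, ∃ (W : X.Opens) (hW : W ≤ O), x ∈ W ∧ ap u W (rF F hW y) = 0) :
    ap u O y = 0 := by
  choose W hW hxW hz using h
  refine TopCat.Sheaf.eq_of_locally_eq' ⟨G.presheaf, G.isSheaf⟩ (fun x : O => W x.1 x.2) O
    (fun x => homOfLE (hW x.1 x.2)) ?_ _ _ ?_
  · intro x hx
    exact Opens.mem_iSup.mpr ⟨⟨x, hx⟩, hxW x hx⟩
  · intro x
    change rF G (hW x.1 x.2) (ap u O y) = rF G (hW x.1 x.2) 0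
    rw [← ap_rF, map_zero]
    exact hz x.1 x.2


/-- If `s` kills the image of `u` over the affine open `V`, then `u` vanishes over `D(s)`. -/
theorem ap_eq_zero_of_le_basicOpen {F G : X.Modules} [F.IsQuasicoherent] (u : F ⟶ G)
    {V : X.Opens} (hV : IsAffineOpen V) (s : Γ(X, V))
    (hs : ∀ m : Γ(F, V), s • ap u V m = 0) (O : X.Opens) (hO : O ≤ X.basicOpen s)
    (y : Γ(F, O)) : ap u O y = 0 := by
  refine ap_eq_zero_of_locally u O y (fun x hx => ?_)
  have hOV : O ≤ V := hO.trans (X.basicOpen_le s)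
  obtain ⟨g, hg, hxg⟩ := hV.exists_basicOpen_le (V := O) ⟨x, hx⟩ (hOV hx)
  refine ⟨X.basicOpen g, hg, hxg, ?_⟩
  set y' := rF F hg y with hy'
  obtain ⟨n, t, ht⟩ := Groth.Agent.Lib.QCohLoc_helper4.exists_res_eq_pow_smul F hV g y'
  have hgs : X.basicOpen g ≤ X.basicOpen s := hg.trans hO
  have hgV : X.basicOpen g ≤ V := X.basicOpen_le g
  -- `s` is a unit on `D(g)`
  have hus : IsUnit (rX hgV s) := by
    have h1 : IsUnit (rX (X.basicOpen_le s) s) := X.toRingedSpace.isUnit_res_basicOpen s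
    have h2 : rX hgV s = rX hgs (rX (X.basicOpen_le s) s) := (rX_rX _ _ _).symm
    rw [h2]
    exact h1.map _
  have hug : IsUnit (rX hgV g) := X.toRingedSpace.isUnit_res_basicOpen g
  have h3 : rF G hgV (ap u V t) = 0 := by
    have h4 : rX hgV s • rF G hgV (ap u V t) = 0 := by
      rw [← rF_smul, hs t, map_zero]
    exact (hus.smul_left_cancel).mp (h4.trans (smul_zero _).symm)
  have h5 : rX hgV g ^ n • ap u (X.basicOpen g) y' = 0 := by
    rw [← ap_smul]
    have h6 : rX hgV g ^ n • y' = rF F hgV t := ht.symm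
    rw [h6, ap_rF, h3]
  exact ((hug.pow n).smul_left_cancel).mp (h5.trans (smul_zero _).symm)


/-- If the pullback of `u` to the closed subscheme `V(I)` vanishes, the image of `u` over an
affine open lies in `I · G`. -/
theorem ap_mem_smul_of_pullback_eq_zero {F G : X.Modules} [G.IsQuasicoherent] (u : F ⟶ G)
    (I : X.IdealSheafData) (h : (Scheme.Modules.pullback I.subschemeι).map u = 0)
    {V : X.Opens} (hV : IsAffineOpen V) (m : Γ(F, V)) :
    ap u V m ∈ (I.ideal ⟨V, hV⟩) • (⊤ : Submodule Γ(X, V) Γ(G, V)) := by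
  have hU : IsAffineOpen (I.subschemeι ⁻¹ᵁ V) := hV.preimage I.subschemeι
  have h' : I.subschemeι ⁻¹ᵁ V ≤ I.subschemeι ⁻¹ᵁ V := le_rfl
  letI := (I.subschemeι.appLE V (I.subschemeι ⁻¹ᵁ V) h').hom.toAlgebra
  letI mA : Module Γ(X, V) Γ((Scheme.Modules.pullback I.subschemeι).obj G, I.subschemeι ⁻¹ᵁ V) :=
    Module.compHom _ (I.subschemeι.appLE V (I.subschemeι ⁻¹ᵁ V) h').hom
  haveI : IsScalarTower Γ(X, V) Γ(I.subscheme, I.subschemeι ⁻¹ᵁ V)
      Γ((Scheme.Modules.pullback I.subschemeι).obj G, I.subschemeι ⁻¹ᵁ V) :=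
    IsScalarTower.of_algebraMap_smul fun _ _ => rfl
  have hbc := isBaseChange_cUV I.subschemeι G h' hU hV
  have happ : I.subschemeι.appLE V (I.subschemeι ⁻¹ᵁ V) h' = I.subschemeι.app V :=
    (Scheme.Hom.app_eq_appLE _).symm
  have hsurj : Function.Surjective
      (algebraMap Γ(X, V) Γ(I.subscheme, I.subschemeι ⁻¹ᵁ V)) := by
    show Function.Surjective (I.subschemeι.appLE V (I.subschemeι ⁻¹ᵁ V) h').hom
    rw [happ]
    exact I.subschemeι_app_surjective ⟨V, hV⟩
  have hker : RingHom.ker (algebraMap Γ(X, V) Γ(I.subscheme, I.subschemeι ⁻¹ᵁ V)) =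
      I.ideal ⟨V, hV⟩ := by
    show RingHom.ker (I.subschemeι.appLE V (I.subschemeι ⁻¹ᵁ V) h').hom = _
    rw [happ]
    exact I.ker_subschemeι_app ⟨V, hV⟩
  have hz : cUVLin I.subschemeι G h' (ap u V m) = 0 := by
    show cUV I.subschemeι G h' (u.app V m) = 0
    rw [← cUV_naturality, h]
    rfl
  have := IsBaseChange.ker_le_smul_top hsurj hbc (ap u V m) hz
  rw [hker] at this
  exact this


/-- **Core**: a morphism into a coherent module vanishing on all infinitesimal neighbourhoods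
of `V(J)` vanishes on an open neighbourhood of `V(J)`. -/
theorem exists_open_vanish [IsLocallyNoetherian X] {F G : X.Modules} [F.IsQuasicoherent]
    [G.IsQuasicoherent]
    (hfin : ∀ V : X.Opens, IsAffineOpen V → Module.Finite Γ(X, V) Γ(G, V))
    (u : F ⟶ G) (J : X.IdealSheafData)
    (h : ∀ n : ℕ, (Scheme.Modules.pullback (J ^ (n + 1)).subschemeι).map u = 0) :
    ∃ U : X.Opens, (J.support : Set X) ⊆ U ∧
      ∀ (O : X.Opens), O ≤ U → ∀ y : Γ(F, O), ap u O y = 0 := by
  have key : ∀ V : X.affineOpens, ∃ s : Γ(X, V.1), s - 1 ∈ J.ideal V ∧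
      ∀ m : Γ(F, V.1), s • ap u V.1 m = 0 := by
    intro V
    haveI := IsLocallyNoetherian.component_noetherian V
    haveI := hfin V.1 V.2
    let N' : Submodule Γ(X, V.1) Γ(G, V.1) := Submodule.span _ (Set.range (ap u V.1))
    have hN' : ∀ n : ℕ, N' ≤ (J.ideal V) ^ (n + 1) • (⊤ : Submodule Γ(X, V.1) Γ(G, V.1)) := by
      intro n
      refine Submodule.span_le.mpr ?_
      rintro _ ⟨m, rfl⟩
      have := ap_mem_smul_of_pullback_eq_zero u (J ^ (n + 1)) (h n) V.2 m
      exact this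
    obtain ⟨s, hs1, hs2⟩ := exists_kill (J.ideal V) N' hN'
    exact ⟨s, hs1, fun m => hs2 _ (Submodule.subset_span ⟨m, rfl⟩)⟩
  choose s hs1 hs2 using key
  refine ⟨⨆ V : X.affineOpens, X.basicOpen (s V), ?_, ?_⟩
  · intro x hx
    have hxtop : x ∈ (⊤ : X.Opens) := trivial
    obtain ⟨V, hV, hxV, -⟩ := (Opens.isBasis_iff_nbhd.mp X.isBasis_affineOpens) hxtop
    refine Opens.mem_iSup.mpr ⟨⟨V, hV⟩, ?_⟩
    have h1 := (Scheme.IdealSheafData.mem_support_iff_of_mem (I := J) (U := ⟨V, hV⟩) hxV).1 hx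
    rw [Scheme.mem_zeroLocus_iff] at h1
    have h2 := h1 _ (hs1 ⟨V, hV⟩)
    rw [Scheme.mem_basicOpen X _ x hxV] at h2 ⊢
    have h3 : X.presheaf.germ V x hxV (s ⟨V, hV⟩ - 1) ∈ nonunits (X.presheaf.stalk x) := h2
    have h4 : (1 : X.presheaf.stalk x) - X.presheaf.germ V x hxV (s ⟨V, hV⟩) ∈
        nonunits (X.presheaf.stalk x) := by
      have : (1 : X.presheaf.stalk x) - X.presheaf.germ V x hxV (s ⟨V, hV⟩) =
          -(X.presheaf.germ V x hxV (s ⟨V, hV⟩ - 1)) := by
        rw [map_sub, map_one]; ring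
      rw [this]
      intro hu
      exact h3 (by simpa using hu.neg)
    have h5 := IsLocalRing.isUnit_one_sub_self_of_mem_nonunits _ h4
    simpa using h5
  · intro O hO y
    refine ap_eq_zero_of_locally u O y (fun x hx => ?_)
    obtain ⟨V, hxV⟩ := Opens.mem_iSup.mp (hO hx)
    refine ⟨O ⊓ X.basicOpen (s V), inf_le_left, ⟨hx, hxV⟩, ?_⟩
    exact ap_eq_zero_of_le_basicOpen u V.2 (s V) (hs2 V) _ inf_le_right _


/-- A morphism injective on all sections is a monomorphism. -/
theorem mono_of_app_injective {M N : X.Modules} (f : M ⟶ N)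
    (h : ∀ W : X.Opens, Function.Injective (ap f W)) : Mono f := by
  haveI : Mono ((Scheme.Modules.toPresheaf X).map f) := by
    haveI : ∀ W, Mono (((Scheme.Modules.toPresheaf X).map f).app W) := fun W =>
      (AddCommGrpCat.mono_iff_injective _).2 (h W.unop)
    exact NatTrans.mono_of_mono_app _
  exact (Scheme.Modules.toPresheaf X).mono_of_mono_map this

/-- The cokernel of a morphism of quasi-coherent modules is quasi-coherent. -/
theorem isQuasicoherent_cokernel {F G : X.Modules} [F.IsQuasicoherent] [G.IsQuasicoherent]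
    (u : F ⟶ G) : (cokernel u).IsQuasicoherent := by
  haveI h1 : (Abelian.coimage u).IsQuasicoherent := SubExt.isQuasicoherent_coimage u
  haveI h2 : (Abelian.image u).IsQuasicoherent :=
    (SheafOfModules.isQuasicoherent X.ringCatSheaf).prop_of_iso (Abelian.coimageIsoImage u) h1
  let E : ShortComplex X.Modules :=
    ShortComplex.mk (kernel.ι (cokernel.π u)) (cokernel.π u) (kernel.condition _)
  have hE : E.ShortExact := ShortComplex.ShortExact.mk' (ShortComplex.exact_kernel (cokernel.π u))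
    (inferInstanceAs (Mono (kernel.ι (cokernel.π u)))) (inferInstanceAs (Epi (cokernel.π u)))
  haveI : E.X₁.IsQuasicoherent := h2
  haveI : E.X₂.IsQuasicoherent := ‹G.IsQuasicoherent›
  exact SubExt.isQuasicoherent_X₃ E hE

theorem restrict_map_eq_zero {F G : X.Modules} (u : F ⟶ G) (U : X.Opens)
    (hz : ∀ (O : X.Opens), O ≤ U → ∀ y : Γ(F, O), ap u O y = 0) :
    (Scheme.Modules.restrictFunctor U.ι).map u = 0 := by
  apply Scheme.Modules.hom_ext
  intro W
  ext y
  exact hz (U.ι ''ᵁ W) (by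
    intro x hx
    obtain ⟨z, -, rfl⟩ := hx
    exact z.2) y


theorem zero_near_support [IsLocallyNoetherian X] (F G : X.Modules) (hF : Coh.IsCoh F)
    (hG : Coh.IsCoh G) (u : F ⟶ G) (J : X.IdealSheafData)
    (h : ∀ n : ℕ, (Scheme.Modules.pullback (J ^ (n + 1)).subschemeι).map u = 0) :
    ∃ U : X.Opens, (J.support : Set X) ⊆ U ∧
      (Scheme.Modules.restrictFunctor U.ι).map u = 0 := by
  obtain ⟨hFq, hFf⟩ := hF
  obtain ⟨hGq, hGf⟩ := hG
  haveI : F.IsQuasicoherent := hFq
  haveI : G.IsQuasicoherent := hGq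
  haveI : SheafOfModules.IsFiniteType (R := X.ringCatSheaf) G := hGf
  obtain ⟨U, hU, hz⟩ := exists_open_vanish
    (fun V hV => QCohFT.finite_of_isFiniteType G hV) u J h
  exact ⟨U, hU, restrict_map_eq_zero u U hz⟩

theorem mono_near_support [IsLocallyNoetherian X] (F G : X.Modules) (hF : Coh.IsCoh F)
    (hG : Coh.IsCoh G) (u : F ⟶ G) (J : X.IdealSheafData)
    (h : ∀ n : ℕ, (Scheme.Modules.pullback (J ^ (n + 1)).subschemeι).map (kernel.ι u) = 0) :
    ∃ U : X.Opens, (J.support : Set X) ⊆ U ∧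
      Mono ((Scheme.Modules.restrictFunctor U.ι).map u) := by
  obtain ⟨hFq, hFf⟩ := hF
  obtain ⟨hGq, hGf⟩ := hG
  haveI : F.IsQuasicoherent := hFq
  haveI : G.IsQuasicoherent := hGq
  haveI : SheafOfModules.IsFiniteType (R := X.ringCatSheaf) F := hFf
  haveI : (kernel u).IsQuasicoherent := SubExt.isQuasicoherent_kernel u
  obtain ⟨U, hU, hz⟩ := exists_open_vanish
    (fun V hV => QCohFT.finite_of_isFiniteType F hV) (kernel.ι u) J h
  refine ⟨U, hU, mono_of_app_injective _ (fun W => ?_)⟩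
  rw [injective_iff_map_eq_zero]
  intro y hy
  let E : ShortComplex X.Modules := ShortComplex.mk (kernel.ι u) u (kernel.condition u)
  have hE : E.Exact := ShortComplex.exact_kernel u
  haveI : Mono E.f := inferInstanceAs (Mono (kernel.ι u))
  obtain ⟨k, hk⟩ := QCohExact.app_exact E hE (U.ι ''ᵁ W) y hy
  have hle : U.ι ''ᵁ W ≤ U := by
    intro x hx
    obtain ⟨z, -, rfl⟩ := hx
    exact z.2
  have := hz (U.ι ''ᵁ W) hle k
  exact hk.symm.trans this

theorem epi_near_support [IsLocallyNoetherian X] (F G : X.Modules) (hF : Coh.IsCoh F)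
    (hG : Coh.IsCoh G) (u : F ⟶ G) (J : X.IdealSheafData)
    (h : ∀ n : ℕ, (Scheme.Modules.pullback (J ^ (n + 1)).subschemeι).map (cokernel.π u) = 0) :
    ∃ U : X.Opens, (J.support : Set X) ⊆ U ∧
      Epi ((Scheme.Modules.restrictFunctor U.ι).map u) := by
  obtain ⟨hFq, hFf⟩ := hF
  obtain ⟨hGq, hGf⟩ := hG
  haveI : F.IsQuasicoherent := hFq
  haveI : G.IsQuasicoherent := hGq
  haveI : SheafOfModules.IsFiniteType (R := X.ringCatSheaf) G := hGf
  haveI : (cokernel u).IsQuasicoherent := isQuasicoherent_cokernel u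
  have hfin : ∀ V : X.Opens, IsAffineOpen V → Module.Finite Γ(X, V) Γ(cokernel u, V) := by
    intro V hV
    haveI := QCohFT.finite_of_isFiniteType G hV
    have hs : Function.Surjective ((cokernel.π u).app V) :=
      QCohExact.app_surjective_of_epi (cokernel.π u) hV
    let φ : Γ(G, V) →ₗ[Γ(X, V)] Γ(cokernel u, V) :=
      { toFun := ap (cokernel.π u) V
        map_add' := map_add _
        map_smul' := fun r m => ap_smul (cokernel.π u) r m }
    exact Module.Finite.of_surjective φ hs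
  obtain ⟨U, hU, hz⟩ := exists_open_vanish hfin (cokernel.π u) J h
  refine ⟨U, hU, ?_⟩
  have h0 := restrict_map_eq_zero (cokernel.π u) U hz
  have h1 := PreservesCokernel.π_iso_hom (Scheme.Modules.restrictFunctor U.ι) u
  rw [h0, zero_comp] at h1
  exact Abelian.epi_of_cokernel_π_eq_zero _ h1.symm

end FComplH8
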