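import Mathlib
import Groth.Prelude
import Groth.Agent.Lib.FCompl1_helper8
import Groth.Agent.Lib.QCohCrit_helper9

/-!
# Kernels and cokernels of coherent modules (helper8)
APPEND-ONLY once landed.
-/

set_option autoImplicit false

namespace CohKerH8

open AlgebraicGeometry CategoryTheory CategoryTheory.Limits TopologicalSpace Opposite
open QcqsLoc QCohExtn

universe u

variable {X : Scheme.{u}}

/-- all affine opens cover. -/
theorem iSup_affineOpens : ⨆ V : X.affineOpens, (V : X.Opens) = ⊤ := by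
  rw [eq_top_iff]
  intro x _
  have hxtop : x ∈ (⊤ : X.Opens) := trivial
  obtain ⟨V, hV, hxV, -⟩ := (Opens.isBasis_iff_nbhd.mp X.isBasis_affineOpens) hxtop
  exact Opens.mem_iSup.mpr ⟨⟨V, hV⟩, hxV⟩

theorem isCoh_cokernel {F G : X.Modules} (hF : Coh.IsCoh F) (hG : Coh.IsCoh G) (φ : F ⟶ G) :
    Coh.IsCoh (cokernel φ) := by
  obtain ⟨hFq, hFf⟩ := hF
  obtain ⟨hGq, hGf⟩ := hG
  haveI : F.IsQuasicoherent := hFq
  haveI : G.IsQuasicoherent := hGq
  haveI : SheafOfModules.IsFiniteType (R := X.ringCatSheaf) G := hGf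
  haveI hq : (cokernel φ).IsQuasicoherent := FComplH8.isQuasicoherent_cokernel φ
  refine ⟨hq, ?_⟩
  refine QCohCrit.isFiniteType_of_sections_cover (cokernel φ)
    (fun V : X.affineOpens => (V : X.Opens)) (fun V => V.2) iSup_affineOpens (fun V => ?_)
  haveI := QCohFT.finite_of_isFiniteType G V.2
  have hs : Function.Surjective ((cokernel.π φ).app V.1) :=
    QCohExact.app_surjective_of_epi (cokernel.π φ) V.2
  let ψ : Γ(G, V.1) →ₗ[Γ(X, V.1)] Γ(cokernel φ, V.1) :=
    { toFun := ap (cokernel.π φ) V.1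
      map_add' := map_add _
      map_smul' := fun r m => ap_smul (cokernel.π φ) r m }
  exact Module.Finite.of_surjective ψ hs

theorem isCoh_kernel [IsLocallyNoetherian X] {F G : X.Modules} (hF : Coh.IsCoh F)
    (hG : Coh.IsCoh G) (φ : F ⟶ G) : Coh.IsCoh (kernel φ) := by
  obtain ⟨hFq, hFf⟩ := hF
  obtain ⟨hGq, hGf⟩ := hG
  haveI : F.IsQuasicoherent := hFq
  haveI : G.IsQuasicoherent := hGq
  haveI : SheafOfModules.IsFiniteType (R := X.ringCatSheaf) F := hFf
  haveI hq : (kernel φ).IsQuasicoherent := SubExt.isQuasicoherent_kernel φ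
  refine ⟨hq, ?_⟩
  refine QCohCrit.isFiniteType_of_sections_cover (kernel φ)
    (fun V : X.affineOpens => (V : X.Opens)) (fun V => V.2) iSup_affineOpens (fun V => ?_)
  haveI := QCohFT.finite_of_isFiniteType F V.2
  haveI := IsLocallyNoetherian.component_noetherian V
  haveI : IsNoetherian Γ(X, V.1) Γ(F, V.1) := isNoetherian_of_isNoetherianRing_of_finite _ _
  have hi : Function.Injective ((kernel.ι φ).app V.1) :=
    QCohExact.app_injective_of_mono (kernel.ι φ) V.1
  let ψ : Γ(kernel φ, V.1) →ₗ[Γ(X, V.1)] Γ(F, V.1) :=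
    { toFun := ap (kernel.ι φ) V.1
      map_add' := map_add _
      map_smul' := fun r m => ap_smul (kernel.ι φ) r m }
  exact Module.Finite.of_injective ψ hi

end CohKerH8
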