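import Mathlib
import Groth.Prelude
import Groth.Agent.Lib.SubExt4_helper9
import Groth.Agent.Lib.Fpqc1_helper8
import Groth.Agent.Lib.Tens14_helper8

/-!
# Coherent modules on open subschemes of Noetherian affine schemes (helper8)
APPEND-ONLY once landed.
-/

set_option autoImplicit false

namespace CohOpenH8

open AlgebraicGeometry CategoryTheory CategoryTheory.Limits TopologicalSpace Opposite
open QcqsLoc QCohExtn

universe u

section Iso

variable {X : Scheme.{u}}

/-- Finite type is invariant under isomorphisms of quasi-coherent modules. -/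
theorem isFiniteType_of_iso {M N : X.Modules} (α : M ≅ N) [M.IsQuasicoherent] [N.IsQuasicoherent]
    (hN : SheafOfModules.IsFiniteType (R := X.ringCatSheaf) N) :
    SheafOfModules.IsFiniteType (R := X.ringCatSheaf) M := by
  refine QCohCrit.isFiniteType_of_sections_cover M (fun U : X.affineOpens => (U : X.Opens))
    (fun U => U.2) (iSup_affineOpens_eq_top X) (fun U => ?_)
  haveI := QCohFT.finite_of_isFiniteType N U.2
  let f : Γ(N, (U : X.Opens)) →ₗ[Γ(X, (U : X.Opens))] Γ(M, (U : X.Opens)) :=
    { toFun := ap α.inv U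
      map_add' := (ap α.inv U).map_add
      map_smul' := fun r x => ap_smul α.inv r x }
  exact Module.Finite.of_surjective f (fun y => ⟨ap α.hom U y, TensH8.ap_inv_hom α U y⟩)

theorem isQuasicoherent_of_iso {M N : X.Modules} (α : M ≅ N) [N.IsQuasicoherent] :
    M.IsQuasicoherent :=
  (SheafOfModules.isQuasicoherent X.ringCatSheaf).prop_of_iso α.symm inferInstance

end Iso

section Main

variable (R : CommRingCat.{u})

/-- The sheaf associated to a finite module is of finite type. -/
theorem isFiniteType_tilde (M : ModuleCat.{u} R) [Module.Finite R M] :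
    SheafOfModules.IsFiniteType (R := (Spec R).ringCatSheaf) (tilde M) := by
  refine QCohCrit.isFiniteType_of_sections_cover (tilde M) (fun _ : PUnit.{u + 1} => ⊤)
    (fun _ => isAffineOpen_top _) (by simp) (fun _ => ?_)
  let e : M ≃ₗ[R] Γ(tilde M, ⊤) := (asIso (tilde.toOpen M ⊤)).toLinearEquiv
  haveI : Module.Finite R Γ(tilde M, ⊤) := Module.Finite.equiv e
  exact Module.Finite.of_restrictScalars_finite R Γ(Spec R, ⊤) Γ(tilde M, ⊤)

theorem isCoh_restrict_tilde (M : ModuleCat.{u} R) [Module.Finite R M] (V : (Spec R).Opens) :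
    ((tilde M).restrict V.ι).IsQuasicoherent ∧
      SheafOfModules.IsFiniteType (R := (V : Scheme.{u}).ringCatSheaf) ((tilde M).restrict V.ι) := by
  refine ⟨inferInstance, ?_⟩
  haveI := isFiniteType_tilde R M
  have h := FpqcH8.isFiniteType_pullback V.ι (tilde M)
  exact isFiniteType_of_iso ((Scheme.Modules.restrictFunctorIsoPullback V.ι).app (tilde M)) h

variable [IsNoetherianRing R]

theorem exists_finite_of_isCoh (V : (Spec R).Opens) (F : (V : Scheme.{u}).Modules)
    [F.IsQuasicoherent]
    (hF : SheafOfModules.IsFiniteType (R := (V : Scheme.{u}).ringCatSheaf) F) :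
    ∃ M : ModuleCat.{u} R, Module.Finite R M ∧ Nonempty (F ≅ (tilde M).restrict V.ι) := by
  have hX : ∀ x : Spec R, ∃ U : (Spec R).Opens, x ∈ U ∧ NoetherianSpace (U : Set (Spec R)) :=
    fun x => ⟨⊤, trivial, inferInstance⟩
  obtain ⟨G', hG'q, hG'ft, ⟨e⟩⟩ := SubExt.extend_ft_module_locNoeth hX V F hF
  haveI := hG'q
  haveI hiso : IsIso G'.fromTildeΓ := Scheme.Modules.isIso_fromTildeΓ_of_isQuasicoherent G'
  refine ⟨(modulesSpecToSheaf.obj G').presheaf.obj (op ⊤), ?_, ⟨e.symm ≪≫
    (Scheme.Modules.restrictFunctor V.ι).mapIso (@asIso _ _ _ _ _ hiso).symm⟩⟩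
  haveI := QCohFT.finite_of_isFiniteType G' (isAffineOpen_top (Spec R))
  haveI : Module.Finite R Γ(Spec R, ⊤) :=
    Module.Finite.of_surjective (Algebra.linearMap R Γ(Spec R, ⊤))
      (ConcreteCategory.bijective_of_isIso (Scheme.ΓSpecIso R).inv).2
  exact Module.Finite.trans (R := R) Γ(Spec R, ⊤) Γ(G', ⊤)

end Main

end CohOpenH8
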