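import Mathlib
import Groth.Prelude
import Groth.Agent.Lib.CohOpen1_helper8

/-!
# Coherent modules agreeing on an open (helper8)
APPEND-ONLY once landed.
-/

set_option autoImplicit false

namespace CohOpenH8

open AlgebraicGeometry CategoryTheory CategoryTheory.Limits TopologicalSpace Opposite
open QcqsLoc QCohExtn

universe u

variable {X : Scheme.{u}}

instance restrictFunctor_additive {U : Scheme.{u}} (j : U ⟶ X) [IsOpenImmersion j] :
    (Scheme.Modules.restrictFunctor j).Additive :=
  (Scheme.Modules.restrictAdjunction j).left_adjoint_additive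

theorem isQuasicoherent_biprod (F₁ F₂ : X.Modules) [F₁.IsQuasicoherent] [F₂.IsQuasicoherent] :
    (F₁ ⊞ F₂).IsQuasicoherent := by
  let S : ShortComplex X.Modules := ShortComplex.mk (biprod.inl : F₁ ⟶ F₁ ⊞ F₂) biprod.snd (by simp)
  have hS : S.ShortExact := (ShortComplex.Splitting.ofHasBinaryBiproduct F₁ F₂).shortExact
  haveI : S.X₁.IsQuasicoherent := ‹F₁.IsQuasicoherent›
  haveI : S.X₃.IsQuasicoherent := ‹F₂.IsQuasicoherent›
  exact QCohExtn.isQuasicoherent_of_shortExact S hS

theorem isFiniteType_restrict {U : Scheme.{u}} (j : U ⟶ X) [IsOpenImmersion j] (F : X.Modules)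
    [F.IsQuasicoherent] (hF : SheafOfModules.IsFiniteType (R := X.ringCatSheaf) F) :
    SheafOfModules.IsFiniteType (R := U.ringCatSheaf) (F.restrict j) := by
  haveI := hF
  have h := FpqcH8.isFiniteType_pullback j F
  exact isFiniteType_of_iso ((Scheme.Modules.restrictFunctorIsoPullback j).app F) h

theorem exists_common_coh [IsNoetherian X] (U : X.Opens) (F₁ F₂ : X.Modules)
    [F₁.IsQuasicoherent] [F₂.IsQuasicoherent]
    (h₁ : SheafOfModules.IsFiniteType (R := X.ringCatSheaf) F₁)
    (e : F₁.restrict U.ι ≅ F₂.restrict U.ι) :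
    ∃ (G : X.Modules) (p₁ : G ⟶ F₁) (p₂ : G ⟶ F₂), G.IsQuasicoherent ∧
      SheafOfModules.IsFiniteType (R := X.ringCatSheaf) G ∧
      IsIso ((Scheme.Modules.restrictFunctor U.ι).map p₁) ∧
      IsIso ((Scheme.Modules.restrictFunctor U.ι).map p₂) := by
  have hX : ∀ x : X, ∃ V : X.Opens, x ∈ V ∧ NoetherianSpace (V : Set X) :=
    fun x => ⟨⊤, trivial, inferInstance⟩
  haveI := isQuasicoherent_biprod F₁ F₂
  let Rf := Scheme.Modules.restrictFunctor U.ι
  let i : F₁.restrict U.ι ⟶ (F₁ ⊞ F₂).restrict U.ι :=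
    Rf.map biprod.inl + e.hom ≫ Rf.map biprod.inr
  have hi1 : i ≫ Rf.map biprod.fst = 𝟙 _ := by
    simp only [i, Preadditive.add_comp, Category.assoc, ← Functor.map_comp, biprod.inl_fst,
      biprod.inr_fst, Functor.map_zero, comp_zero, add_zero]
    exact Rf.map_id _
  have hi2 : i ≫ Rf.map biprod.snd = e.hom := by
    simp only [i, Preadditive.add_comp, Category.assoc, ← Functor.map_comp, biprod.inl_snd,
      biprod.inr_snd, Functor.map_zero, zero_add]
    rw [Rf.map_id]
    exact Category.comp_id _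
  haveI : Mono i := mono_of_mono_fac hi1
  obtain ⟨G', i', ε, -, hq, hft, hcomm⟩ := SubExt.extend_ft_locNoeth hX U (F₁ ⊞ F₂)
    (F₁.restrict U.ι) i (isFiniteType_restrict U.ι F₁ h₁)
  refine ⟨G', i' ≫ biprod.fst, i' ≫ biprod.snd, hq, hft, ?_, ?_⟩
  · have : Rf.map (i' ≫ biprod.fst) = ε.hom := by
      rw [Functor.map_comp, ← hcomm, Category.assoc, hi1, Category.comp_id]
    show IsIso (Rf.map (i' ≫ biprod.fst))
    rw [this]; infer_instance
  · have : Rf.map (i' ≫ biprod.snd) = ε.hom ≫ e.hom := by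
      rw [Functor.map_comp, ← hcomm, Category.assoc, hi2]
    show IsIso (Rf.map (i' ≫ biprod.snd))
    rw [this]; infer_instance

end CohOpenH8
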