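import Groth.Agent.Lib.PB6_helper8
import Groth.Agent.Lib.QCohCrit2_helper9
set_option autoImplicit false
open CategoryTheory AlgebraicGeometry Opposite TopologicalSpace
open AlgebraicGeometry.Scheme.Modules
universe u
namespace PBH8

section
variable {X Y : Scheme.{u}} (f : X ⟶ Y) (F : Y.Modules)

lemma cUV_res {U U' : X.Opens} {V : Y.Opens} (h : U ≤ f ⁻¹ᵁ V) (hU' : U' ≤ U) (x : Γ(F, V)) :
    ((Scheme.Modules.pullback f).obj F).presheaf.map (homOfLE hU').op (cUV f F h x) =
      cUV f F (hU'.trans h) x := by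
  unfold cUV
  have := congrArg (fun ψ => ψ (((pullbackPushforwardAdjunction f).unit.app F).app V x))
    (((Scheme.Modules.pullback f).obj F).presheaf.map_comp (homOfLE h).op (homOfLE hU').op)
  exact this.symm

variable [F.IsQuasicoherent]

theorem locOnU_pullback {U : X.Opens} {V : Y.Opens} (hU : IsAffineOpen U) (hV : IsAffineOpen V)
    (h : U ≤ f ⁻¹ᵁ V) : QCohCrit.LocOnU ((Scheme.Modules.pullback f).obj F) U := by
  intro a
  have hDU : X.basicOpen a ≤ U := X.basicOpen_le a
  have hD : IsAffineOpen (X.basicOpen a) := hU.basicOpen a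
  have hDV : X.basicOpen a ≤ f ⁻¹ᵁ V := hDU.trans h
  -- algebra structures
  letI algAB : Algebra Γ(Y, V) Γ(X, U) := (f.appLE V U h).hom.toAlgebra
  letI algBB' : Algebra Γ(X, U) Γ(X, X.basicOpen a) := (X.presheaf.map (homOfLE hDU).op).hom.toAlgebra
  letI algAB' : Algebra Γ(Y, V) Γ(X, X.basicOpen a) := (f.appLE V (X.basicOpen a) hDV).hom.toAlgebra
  haveI : IsScalarTower Γ(Y, V) Γ(X, U) Γ(X, X.basicOpen a) := by
    refine IsScalarTower.of_algebraMap_eq' ?_
    change (f.appLE V (X.basicOpen a) hDV).hom =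
      (X.presheaf.map (homOfLE hDU).op).hom.comp (f.appLE V U h).hom
    rw [← CommRingCat.hom_comp, Scheme.Hom.appLE_map]
  haveI : IsLocalization.Away a Γ(X, X.basicOpen a) := hU.isLocalization_basicOpen a
  -- module structures
  letI mAP : Module Γ(Y, V) Γ((Scheme.Modules.pullback f).obj F, U) :=
    Module.compHom _ (f.appLE V U h).hom
  haveI : IsScalarTower Γ(Y, V) Γ(X, U) Γ((Scheme.Modules.pullback f).obj F, U) :=
    IsScalarTower.of_algebraMap_smul fun _ _ => rfl
  letI mAP' : Module Γ(Y, V) Γ((Scheme.Modules.pullback f).obj F, X.basicOpen a) :=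
    Module.compHom _ (f.appLE V (X.basicOpen a) hDV).hom
  haveI : IsScalarTower Γ(Y, V) Γ(X, X.basicOpen a)
      Γ((Scheme.Modules.pullback f).obj F, X.basicOpen a) :=
    IsScalarTower.of_algebraMap_smul fun _ _ => rfl
  letI mBP' : Module Γ(X, U) Γ((Scheme.Modules.pullback f).obj F, X.basicOpen a) :=
    Module.compHom _ (X.presheaf.map (homOfLE hDU).op).hom
  haveI : IsScalarTower Γ(X, U) Γ(X, X.basicOpen a)
      Γ((Scheme.Modules.pullback f).obj F, X.basicOpen a) :=
    IsScalarTower.of_algebraMap_smul fun _ _ => rfl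
  have hc := isBaseChange_cUV f F h hU hV
  have hc' := isBaseChange_cUV f F hDV hD hV
  haveI : IsScalarTower Γ(Y, V) Γ(X, U) Γ((Scheme.Modules.pullback f).obj F, X.basicOpen a) := by
    refine IsScalarTower.of_algebraMap_smul fun r x => ?_
    change (X.presheaf.map (homOfLE hDU).op).hom ((f.appLE V U h).hom r) • x =
      (f.appLE V (X.basicOpen a) hDV).hom r • x
    congr 1
    have := Scheme.Hom.appLE_map f h (homOfLE hDU).op
    exact congrArg (fun ψ => ψ.hom r) this
  let l : Γ((Scheme.Modules.pullback f).obj F, U) →ₗ[Γ(X, U)]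
      Γ((Scheme.Modules.pullback f).obj F, X.basicOpen a) :=
    { toFun := ((Scheme.Modules.pullback f).obj F).presheaf.map (homOfLE hDU).op
      map_add' := fun x y => map_add _ x y
      map_smul' := fun b x =>
        Scheme.Modules.map_smul ((Scheme.Modules.pullback f).obj F) (homOfLE hDU) b x }
  have hl : IsBaseChange Γ(X, X.basicOpen a) l := by
    refine IsBaseChange.of_comp hc ?_
    convert hc' using 1
    ext x
    exact cUV_res f F h hDU x
  have hloc : IsLocalizedModule (Submonoid.powers a) l :=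
    (isLocalizedModule_iff_isBaseChange (Submonoid.powers a) Γ(X, X.basicOpen a) l).mpr hl
  refine ⟨hU.isLocalization_basicOpen a,
    fun x m => Scheme.Modules.map_smul ((Scheme.Modules.pullback f).obj F) _ x m, ?_, ?_⟩
  · intro m'
    obtain ⟨⟨m, ⟨_, n, rfl⟩⟩, hm⟩ := IsLocalizedModule.surj (Submonoid.powers a) l m'
    refine ⟨n, m, ?_⟩
    refine Eq.trans ?_ hm
    change _ = (X.presheaf.map (homOfLE hDU).op).hom (a ^ n) • m'
    rw [map_pow]
  · intro m hm
    have h0 : l m = l 0 := by rw [map_zero]; exact hm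
    obtain ⟨⟨_, n, rfl⟩, hc⟩ := (IsLocalizedModule.eq_iff_exists (Submonoid.powers a) l).mp h0
    refine ⟨n, ?_⟩
    have h2 : (a ^ n) • m = (a ^ n) • (0 : Γ((Scheme.Modules.pullback f).obj F, U)) := hc
    rw [smul_zero] at h2
    exact h2

end
end PBH8

namespace PBH8
section
variable {X Y : Scheme.{u}} (f : X ⟶ Y) (F : Y.Modules)

theorem exists_affine_pair' (x : X) : ∃ (V : Y.Opens) (U : X.Opens), IsAffineOpen V ∧
    IsAffineOpen U ∧ x ∈ U ∧ U ≤ f ⁻¹ᵁ V := by
  obtain ⟨_, ⟨V, hV : IsAffineOpen V, rfl⟩, hyV, -⟩ :=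
    (Y.isBasis_affineOpens).exists_subset_of_mem_open (Set.mem_univ (f.base x)) isOpen_univ
  obtain ⟨_, ⟨U, hU : IsAffineOpen U, rfl⟩, hyU, hUV⟩ :=
    (X.isBasis_affineOpens).exists_subset_of_mem_open (show x ∈ f ⁻¹ᵁ V from hyV)
      (f ⁻¹ᵁ V).isOpen
  exact ⟨V, U, hV, hU, hyU, hUV⟩

/-- **The pullback of a quasi-coherent module is quasi-coherent.** -/
instance isQuasicoherent_pullback [F.IsQuasicoherent] :
    ((Scheme.Modules.pullback f).obj F).IsQuasicoherent := by
  let ι := {U : X.Opens // IsAffineOpen U ∧ ∃ V : Y.Opens, IsAffineOpen V ∧ U ≤ f ⁻¹ᵁ V}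
  have hcover : ⨆ i : ι, (i.1 : X.Opens) = ⊤ := by
    rw [eq_top_iff]
    intro x _
    obtain ⟨V, U, hV, hU, hxU, hUV⟩ := exists_affine_pair' f x
    exact Opens.mem_iSup.mpr ⟨⟨U, hU, V, hV, hUV⟩, hxU⟩
  refine QCohCrit.isQuasicoherent_of_locOnU_cover _ (fun i : ι => (i.1 : X.Opens))
    (fun i => i.2.1) hcover ?_
  rintro ⟨U, hU, V, hV, hUV⟩
  exact locOnU_pullback f F hU hV hUV

end
end PBH8
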