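import Mathlib
import Groth.Prelude
import Groth.Agent.Lib.ClPush1_helper8
import Groth.Agent.Lib.PB7_helper8

/-!
# Quasi-coherent modules with isomorphic sections over an affine open are isomorphic there (helper8)
APPEND-ONLY once landed.
-/

set_option autoImplicit false

namespace LocIsoH8

open AlgebraicGeometry CategoryTheory CategoryTheory.Limits TopologicalSpace Opposite PBH8

universe u

variable {X : Scheme.{u}}

section Sections

variable (M : X.Modules) [M.IsQuasicoherent] {U : X.Opens} (hU : IsAffineOpen U)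

include hU in
theorem top_le_preimage : (⊤ : (Spec Γ(X, U)).Opens) ≤ hU.fromSpec ⁻¹ᵁ U := by
  rw [hU.fromSpec_preimage_self]

theorem appLE_eq : hU.fromSpec.appLE U ⊤ (top_le_preimage hU) = (Scheme.ΓSpecIso Γ(X, U)).inv := by
  rw [Scheme.Hom.appLE, hU.fromSpec_app_self, Category.assoc, ← Functor.map_comp]
  have : (eqToHom hU.fromSpec_preimage_self).op ≫ (homOfLE (top_le_preimage hU)).op = 𝟙 _ := rfl
  rw [this, CategoryTheory.Functor.map_id, Category.comp_id]

theorem appLE_bijective :
    Function.Bijective (hU.fromSpec.appLE U ⊤ (top_le_preimage hU)).hom := by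
  rw [appLE_eq]
  exact ConcreteCategory.bijective_of_isIso (Scheme.ΓSpecIso Γ(X, U)).inv

theorem cUV_bijective :
    Function.Bijective (cUV hU.fromSpec M (top_le_preimage hU)) := by
  letI := (hU.fromSpec.appLE U ⊤ (top_le_preimage hU)).hom.toAlgebra
  letI : Module Γ(X, U) Γ((Scheme.Modules.pullback hU.fromSpec).obj M, ⊤) :=
    Module.compHom _ (hU.fromSpec.appLE U ⊤ (top_le_preimage hU)).hom
  haveI : IsScalarTower Γ(X, U) Γ(Spec Γ(X, U), ⊤)
      Γ((Scheme.Modules.pullback hU.fromSpec).obj M, ⊤) :=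
    IsScalarTower.of_algebraMap_smul fun _ _ => rfl
  have bc := isBaseChange_cUV hU.fromSpec M (top_le_preimage hU) (isAffineOpen_top _) hU
  have hbij : Function.Bijective (algebraMap Γ(X, U) Γ(Spec Γ(X, U), ⊤)) := appLE_bijective hU
  have h := ClPushH8.bijective_of_isBaseChange_of_killed hbij.2 (fun a ha m => by
    have h0 : a = 0 := hbij.1 (by rw [RingHom.mem_ker.mp ha, map_zero])
    rw [h0, zero_smul]) (cUVLin hU.fromSpec M (top_le_preimage hU)) bc
  exact h

theorem smul_cUV (a : Γ(X, U)) (m : Γ(M, U)) :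
    a • cUV hU.fromSpec M (top_le_preimage hU) m = cUV hU.fromSpec M (top_le_preimage hU) (a • m) := by
  rw [cUV_smul, Scheme.Modules.smul_Spec_def, appLE_eq]
  have h1 : ((⊤ : (Spec Γ(X, U)).Opens).leTop).op = 𝟙 _ := rfl
  rw [h1, CategoryTheory.Functor.map_id]
  rfl

end Sections

section Iso

variable (M N : X.Modules) [M.IsQuasicoherent] [N.IsQuasicoherent] {U : X.Opens}
  (hU : IsAffineOpen U)

/-- Transport an equivalence of sections over an affine open to the global sections of the
pullbacks to the spectrum. -/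
theorem exists_linearEquiv (e : Γ(M, U) ≃ₗ[Γ(X, U)] Γ(N, U)) :
    Nonempty (Γ((Scheme.Modules.pullback hU.fromSpec).obj M, ⊤) ≃ₗ[Γ(X, U)]
      Γ((Scheme.Modules.pullback hU.fromSpec).obj N, ⊤)) := by
  let cM := Equiv.ofBijective _ (cUV_bijective M hU)
  let cN := Equiv.ofBijective _ (cUV_bijective N hU)
  have hcM : ∀ m, cM m = cUV hU.fromSpec M (top_le_preimage hU) m := fun _ => rfl
  have hcN : ∀ m, cN m = cUV hU.fromSpec N (top_le_preimage hU) m := fun _ => rfl
  refine ⟨{ toFun := fun x => cN (e (cM.symm x))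
            invFun := fun y => cM (e.symm (cN.symm y))
            left_inv := fun x => by simp
            right_inv := fun y => by simp
            map_add' := fun x y => ?_
            map_smul' := fun a x => ?_ }⟩
  · obtain ⟨m, rfl⟩ := cM.surjective x
    obtain ⟨m', rfl⟩ := cM.surjective y
    have h1 : cM m + cM m' = cM (m + m') := by
      rw [hcM, hcM, hcM, cUV_add]
    rw [h1, Equiv.symm_apply_apply, Equiv.symm_apply_apply, Equiv.symm_apply_apply, map_add,
      hcN, hcN, hcN, cUV_add]
  · obtain ⟨m, rfl⟩ := cM.surjective x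
    have h1 : a • cM m = cM (a • m) := by
      rw [hcM, hcM]
      exact smul_cUV M hU a m
    rw [h1, Equiv.symm_apply_apply, Equiv.symm_apply_apply, map_smul, RingHom.id_apply, hcN, hcN]
    exact (smul_cUV N hU a (e m)).symm

theorem nonempty_pullback_iso (e : Γ(M, U) ≃ₗ[Γ(X, U)] Γ(N, U)) :
    Nonempty ((Scheme.Modules.pullback hU.fromSpec).obj M ≅
      (Scheme.Modules.pullback hU.fromSpec).obj N) := by
  obtain ⟨E⟩ := exists_linearEquiv M N hU e
  haveI : ((Scheme.Modules.pullback hU.fromSpec).obj M).IsQuasicoherent := inferInstance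
  haveI : ((Scheme.Modules.pullback hU.fromSpec).obj N).IsQuasicoherent := inferInstance
  let i0 : (modulesSpecToSheaf.obj ((Scheme.Modules.pullback hU.fromSpec).obj M)).presheaf.obj
      (op ⊤) ≅ (modulesSpecToSheaf.obj ((Scheme.Modules.pullback hU.fromSpec).obj N)).presheaf.obj
      (op ⊤) := E.toModuleIso
  exact ⟨(epsIso ((Scheme.Modules.pullback hU.fromSpec).obj M)).symm ≪≫
    (tilde.functor _).mapIso i0 ≪≫ epsIso ((Scheme.Modules.pullback hU.fromSpec).obj N)⟩

include hU in
/-- Two quasi-coherent modules whose modules of sections over an affine open `U` are isomorphic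
have isomorphic restrictions to `U`. -/
theorem nonempty_restrict_iso (e : Γ(M, U) ≃ₗ[Γ(X, U)] Γ(N, U)) :
    Nonempty (M.restrict U.ι ≅ N.restrict U.ι) := by
  obtain ⟨φ⟩ := nonempty_pullback_iso M N hU e
  have key : ∀ K : X.Modules, K.restrict U.ι ≅
      (Scheme.Modules.pullback hU.isoSpec.hom).obj
        ((Scheme.Modules.pullback hU.fromSpec).obj K) := fun K =>
    (Scheme.Modules.restrictFunctorIsoPullback U.ι).app K ≪≫
      (Scheme.Modules.pullbackCongr hU.isoSpec_hom_fromSpec.symm).app K ≪≫
      ((Scheme.Modules.pullbackComp hU.isoSpec.hom hU.fromSpec).app K).symm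
  exact ⟨key M ≪≫ (Scheme.Modules.pullback hU.isoSpec.hom).mapIso φ ≪≫ (key N).symm⟩

end Iso

end LocIsoH8
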