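import Mathlib
import Groth.Prelude
import Groth.Agent.Lib.CohDev1_helper8
import Groth.Agent.Lib.LocIso1_helper8
import Groth.Agent.Lib.CohOpen2_helper8
import Groth.Agent.Lib.CohKer_helper8
import Groth.Agent.Lib.SupportCoh_helper9
import Groth.Agent.Lib.AnnSh2_helper8

/-!
# Dévissage of coherent modules, II: comparison of coherent modules at a generic point (helper8)
APPEND-ONLY once landed.
-/

set_option autoImplicit false

namespace CohDevH8

open AlgebraicGeometry CategoryTheory CategoryTheory.Limits TopologicalSpace Opposite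
open QcqsLoc QCohExtn

universe u

variable {X : Scheme.{u}}

section Basic

theorem isCoh_biprod {F G : X.Modules} (hF : Coh.IsCoh F) (hG : Coh.IsCoh G) :
    Coh.IsCoh (F ⊞ G) := by
  obtain ⟨hFq, hFf⟩ := hF
  obtain ⟨hGq, hGf⟩ := hG
  haveI : F.IsQuasicoherent := hFq
  haveI : G.IsQuasicoherent := hGq
  haveI : SheafOfModules.IsFiniteType (R := X.ringCatSheaf) F := hFf
  haveI : SheafOfModules.IsFiniteType (R := X.ringCatSheaf) G := hGf
  haveI hq : (F ⊞ G).IsQuasicoherent := CohOpenH8.isQuasicoherent_biprod F G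
  refine ⟨hq, ?_⟩
  refine QCohCrit.isFiniteType_of_sections_cover (F ⊞ G)
    (fun V : X.affineOpens => (V : X.Opens)) (fun V => V.2) CohKerH8.iSup_affineOpens (fun V => ?_)
  haveI := QCohFT.finite_of_isFiniteType F V.2
  haveI := QCohFT.finite_of_isFiniteType G V.2
  let ψ : (Γ(F, V.1) × Γ(G, V.1)) →ₗ[Γ(X, V.1)] Γ(F ⊞ G, V.1) :=
    (RelFPAff.appₗ (biprod.inl : F ⟶ F ⊞ G) V.1).coprod (RelFPAff.appₗ (biprod.inr : G ⟶ F ⊞ G) V.1)
  refine Module.Finite.of_surjective ψ (fun x => ?_)
  refine ⟨(ap (biprod.fst : F ⊞ G ⟶ F) V.1 x, ap (biprod.snd : F ⊞ G ⟶ G) V.1 x), ?_⟩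
  show ap (biprod.inl : F ⟶ F ⊞ G) V.1 (ap (biprod.fst : F ⊞ G ⟶ F) V.1 x) +
    ap (biprod.inr : G ⟶ F ⊞ G) V.1 (ap (biprod.snd : F ⊞ G ⟶ G) V.1 x) = x
  have h := congrArg (fun φ => ap φ V.1 x) (biprod.total (X := F) (Y := G))
  exact h

theorem support_biprod_subset {F G : X.Modules} [F.IsQuasicoherent] [G.IsQuasicoherent] :
    CohB1.support (F ⊞ G) ⊆ CohB1.support F ∪ CohB1.support G := by
  let S : ShortComplex X.Modules := ShortComplex.mk (biprod.inl : F ⟶ F ⊞ G) biprod.snd (by simp)
  have hS : S.ShortExact := (ShortComplex.Splitting.ofHasBinaryBiproduct F G).shortExact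
  haveI : S.X₂.IsQuasicoherent := CohOpenH8.isQuasicoherent_biprod F G
  haveI : S.X₃.IsQuasicoherent := ‹G.IsQuasicoherent›
  exact (SupportCoh.support_shortExact S hS).le

theorem support_subset_of_mono {A F : X.Modules} (i : A ⟶ F) [Mono i] :
    CohB1.support A ⊆ CohB1.support F := by
  intro x hx hF
  apply hx
  rw [SupportCoh.subsingleton_stalk_iff]
  intro U hxU s
  obtain ⟨W, hxW, j, hW⟩ := SupportCoh.exists_res_eq_zero F hxU (i.app U s)
    (@Subsingleton.elim _ hF _ _)
  have h1 : i.app W (A.presheaf.map j.op s) = 0 := by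
    rw [QCohCrit.app_naturality]
    exact hW
  have h2 : A.presheaf.map j.op s = 0 :=
    QCohExact.app_injective_of_mono i W (h1.trans (map_zero _).symm)
  exact SupportCoh.germ_eq_zero_of_res A hxW j s h2

theorem support_subset_of_epi {F B : X.Modules} [F.IsQuasicoherent] [B.IsQuasicoherent]
    (p : F ⟶ B) [Epi p] : CohB1.support B ⊆ CohB1.support F := by
  intro x hx hF
  apply hx
  rw [SupportCoh.subsingleton_stalk_iff]
  intro U hxU z
  obtain ⟨V, hV, hxV, hVU⟩ := Opens.isBasis_iff_nbhd.mp X.isBasis_affineOpens hxU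
  obtain ⟨s, hs⟩ := QCohExact.app_surjective_of_epi p hV (B.presheaf.map (homOfLE hVU).op z)
  obtain ⟨W, hxW, j, hW⟩ := SupportCoh.exists_res_eq_zero F hxV s (@Subsingleton.elim _ hF _ _)
  have h1 : B.presheaf.map j.op (B.presheaf.map (homOfLE hVU).op z) = 0 := by
    rw [← hs, ← QCohCrit.app_naturality, hW, map_zero]
  have h3 := SupportCoh.germ_eq_zero_of_res B hxW j _ h1
  rw [TopCat.Presheaf.germ_res_apply] at h3
  exact h3

/-- A quasi-coherent module with no sections over an affine neighbourhood of `y` has vanishing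
stalk at `y`. -/
theorem notMem_support_of_subsingleton (F : X.Modules) [F.IsQuasicoherent] {U : X.Opens}
    (hU : IsAffineOpen U) {y : X} (hyU : y ∈ U) (h : Subsingleton Γ(F, U)) :
    y ∉ CohB1.support F := by
  rw [← AnnSh2H8.mem_support_iff F hU hyU, Module.support_eq_empty_iff.mpr h]
  exact Set.notMem_empty _

end Basic

section Transfer

variable [IsNoetherian X] (K : X.Modules → Prop)
  (hex : ∀ S : ShortComplex X.Modules, S.ShortExact → Coh.IsCoh S.X₁ → Coh.IsCoh S.X₂ →
    Coh.IsCoh S.X₃ → (K S.X₁ → K S.X₂ → K S.X₃) ∧ (K S.X₁ → K S.X₃ → K S.X₂) ∧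
      (K S.X₂ → K S.X₃ → K S.X₁))

include hex in
/-- If a morphism of coherent modules is bijective on sections over an affine neighbourhood of
`y`, and all coherent modules supported in `Z` away from `y` belong to an exact class `K`, then
the source is in `K` iff the target is. -/
theorem transfer {H T : X.Modules} (hH : Coh.IsCoh H) (hT : Coh.IsCoh T) (p : H ⟶ T)
    (Z : Set X) (hHZ : CohB1.support H ⊆ Z) (hTZ : CohB1.support T ⊆ Z) (y : X)
    (IH : ∀ M : X.Modules, Coh.IsCoh M → CohB1.support M ⊆ Z → y ∉ CohB1.support M → K M)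
    {U : X.Opens} (hU : IsAffineOpen U) (hyU : y ∈ U) (hbij : Function.Bijective (ap p U)) :
    K H ↔ K T := by
  haveI : H.IsQuasicoherent := hH.1
  haveI : T.IsQuasicoherent := hT.1
  -- the cokernel
  have hC : Coh.IsCoh (cokernel p) := CohKerH8.isCoh_cokernel hH hT p
  haveI : (cokernel p).IsQuasicoherent := hC.1
  have hCZ : CohB1.support (cokernel p) ⊆ Z :=
    (support_subset_of_epi (cokernel.π p)).trans hTZ
  have hCy : y ∉ CohB1.support (cokernel p) := by
    refine notMem_support_of_subsingleton _ hU hyU ⟨fun a b => ?_⟩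
    have key : ∀ c : Γ(cokernel p, U), c = 0 := by
      intro c
      obtain ⟨t, rfl⟩ := QCohExact.app_surjective_of_epi (cokernel.π p) hU c
      obtain ⟨h, rfl⟩ := hbij.2 t
      have := congrArg (fun φ => ap φ U h) (cokernel.condition p)
      exact this
    rw [key a, key b]
  have hKC : K (cokernel p) := IH _ hC hCZ hCy
  -- the image
  have hI : Coh.IsCoh (kernel (cokernel.π p)) := CohKerH8.isCoh_kernel hT hC _
  haveI : (kernel (cokernel.π p)).IsQuasicoherent := hI.1
  obtain ⟨q, hq⟩ : ∃ q : H ⟶ kernel (cokernel.π p), q ≫ kernel.ι (cokernel.π p) = p :=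
    ⟨kernel.lift (cokernel.π p) p (cokernel.condition p), kernel.lift_ι _ _ _⟩
  haveI hqe : Epi q := by
    have h1 : q = Abelian.factorThruImage p := by
      rw [← cancel_mono (kernel.ι (cokernel.π p)), hq]
      exact (Abelian.image.fac p).symm
    rw [h1]
    infer_instance
  -- the kernel
  have hKq : Coh.IsCoh (kernel q) := CohKerH8.isCoh_kernel hH hI q
  haveI : (kernel q).IsQuasicoherent := hKq.1
  have hKqZ : CohB1.support (kernel q) ⊆ Z := (support_subset_of_mono (kernel.ι q)).trans hHZ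
  have hKqy : y ∉ CohB1.support (kernel q) := by
    refine notMem_support_of_subsingleton _ hU hyU ⟨fun a b => ?_⟩
    have key : ∀ c : Γ(kernel q, U), c = 0 := by
      intro c
      apply QCohExact.app_injective_of_mono (kernel.ι q) U
      apply hbij.1
      have h1 : ap p U (ap (kernel.ι q) U c) =
          ap (kernel.ι (cokernel.π p)) U (ap q U (ap (kernel.ι q) U c)) := by
        have := congrArg (fun φ => ap φ U (ap (kernel.ι q) U c)) hq
        exact this.symm
      have h2 : ap q U (ap (kernel.ι q) U c) = 0 := by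
        have := congrArg (fun φ => ap φ U c) (kernel.condition q)
        exact this
      show ap p U (ap (kernel.ι q) U c) = ap p U (ap (kernel.ι q) U 0)
      rw [h1, h2, map_zero, map_zero, map_zero]
    rw [key a, key b]
  have hKK : K (kernel q) := IH _ hKq hKqZ hKqy
  -- the two short exact sequences
  let Sb : ShortComplex X.Modules :=
    ShortComplex.mk (kernel.ι (cokernel.π p)) (cokernel.π p) (kernel.condition _)
  have hSb : Sb.ShortExact := ShortComplex.ShortExact.mk' (ShortComplex.exact_kernel _)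
    (inferInstanceAs (Mono (kernel.ι (cokernel.π p)))) (inferInstanceAs (Epi (cokernel.π p)))
  let Sa : ShortComplex X.Modules := ShortComplex.mk (kernel.ι q) q (kernel.condition q)
  have hSa : Sa.ShortExact := ShortComplex.ShortExact.mk' (ShortComplex.exact_kernel q)
    (inferInstanceAs (Mono (kernel.ι q))) hqe
  obtain ⟨a1, a2, -⟩ := hex Sa hSa hKq hH hI
  obtain ⟨-, b2, b3⟩ := hex Sb hSb hI hT hC
  constructor
  · intro hKH
    exact b2 (a1 hKK hKH) hKC
  · intro hKT
    exact a2 hKK (b3 hKT hKC)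

end Transfer

section Generic

theorem app_bijective_of_isIso_restrict {H T : X.Modules} (p : H ⟶ T) (U : X.Opens)
    [IsIso ((Scheme.Modules.restrictFunctor U.ι).map p)] : Function.Bijective (ap p U) := by
  have hW : U.ι ''ᵁ ⊤ = U := by
    rw [Scheme.Hom.image_top_eq_opensRange, Scheme.Opens.opensRange_ι]
  have hle : U.ι ''ᵁ ⊤ ≤ U := hW.le
  have h1 : Function.Bijective (ap p (U.ι ''ᵁ ⊤)) :=
    ConcreteCategory.bijective_of_isIso
      (((Scheme.Modules.restrictFunctor U.ι).map p).app ⊤)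
  have hH := SubExt.rF_bijective_of_eq H hle hW
  have hT := SubExt.rF_bijective_of_eq T hle hW
  constructor
  · intro a b hab
    apply hH.1
    apply h1.1
    rw [ap_rF, ap_rF, hab]
  · intro t
    obtain ⟨w, hw⟩ := h1.2 (rF T hle t)
    obtain ⟨m, rfl⟩ := hH.2 w
    refine ⟨m, hT.1 ?_⟩
    rw [← ap_rF, hw]

variable [IsNoetherian X] (K : X.Modules → Prop)
  (hex : ∀ S : ShortComplex X.Modules, S.ShortExact → Coh.IsCoh S.X₁ → Coh.IsCoh S.X₂ →
    Coh.IsCoh S.X₃ → (K S.X₁ → K S.X₂ → K S.X₃) ∧ (K S.X₁ → K S.X₃ → K S.X₂) ∧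
      (K S.X₂ → K S.X₃ → K S.X₁))

include hex in
/-- Two coherent modules supported in `Z` whose modules of sections over an affine neighbourhood
of `y` are isomorphic belong to an exact class `K` simultaneously, provided all coherent modules
supported in `Z` away from `y` belong to `K`. -/
theorem generic_step {F G : X.Modules} (hF : Coh.IsCoh F) (hG : Coh.IsCoh G)
    (Z : Set X) (hFZ : CohB1.support F ⊆ Z) (hGZ : CohB1.support G ⊆ Z) (y : X)
    (IH : ∀ M : X.Modules, Coh.IsCoh M → CohB1.support M ⊆ Z → y ∉ CohB1.support M → K M)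
    {U : X.Opens} (hU : IsAffineOpen U) (hyU : y ∈ U) (e : Γ(F, U) ≃ₗ[Γ(X, U)] Γ(G, U)) :
    K F ↔ K G := by
  haveI : F.IsQuasicoherent := hF.1
  haveI : G.IsQuasicoherent := hG.1
  obtain ⟨φ⟩ := LocIsoH8.nonempty_restrict_iso F G hU e
  have hX : ∀ x : X, ∃ V : X.Opens, x ∈ V ∧ NoetherianSpace (V : Set X) :=
    fun x => ⟨⊤, trivial, inferInstance⟩
  haveI := CohOpenH8.isQuasicoherent_biprod F G
  let Rf := Scheme.Modules.restrictFunctor U.ι
  let i : F.restrict U.ι ⟶ (F ⊞ G).restrict U.ι :=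
    Rf.map biprod.inl + φ.hom ≫ Rf.map biprod.inr
  have hi1 : i ≫ Rf.map biprod.fst = 𝟙 _ := by
    simp only [i, Preadditive.add_comp, Category.assoc, ← Functor.map_comp, biprod.inl_fst,
      biprod.inr_fst, Functor.map_zero, comp_zero, add_zero]
    exact Rf.map_id _
  have hi2 : i ≫ Rf.map biprod.snd = φ.hom := by
    simp only [i, Preadditive.add_comp, Category.assoc, ← Functor.map_comp, biprod.inl_snd,
      biprod.inr_snd, Functor.map_zero, zero_add]
    rw [Rf.map_id]
    exact Category.comp_id _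
  haveI : Mono i := mono_of_mono_fac hi1
  obtain ⟨H, i', ε, hmono, hq, hft, hcomm⟩ := SubExt.extend_ft_locNoeth hX U (F ⊞ G)
    (F.restrict U.ι) i (CohOpenH8.isFiniteType_restrict U.ι F hF.2)
  haveI := hmono
  have hH : Coh.IsCoh H := ⟨hq, hft⟩
  have hHZ : CohB1.support H ⊆ Z :=
    ((support_subset_of_mono i').trans support_biprod_subset).trans (Set.union_subset hFZ hGZ)
  haveI h1 : IsIso (Rf.map (i' ≫ biprod.fst)) := by
    have : Rf.map (i' ≫ biprod.fst) = ε.hom := by
      rw [Functor.map_comp, ← hcomm, Category.assoc, hi1, Category.comp_id]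
    rw [this]; infer_instance
  haveI h2 : IsIso (Rf.map (i' ≫ biprod.snd)) := by
    have : Rf.map (i' ≫ biprod.snd) = ε.hom ≫ φ.hom := by
      rw [Functor.map_comp, ← hcomm, Category.assoc, hi2]
    rw [this]; infer_instance
  have b1 : Function.Bijective (ap (i' ≫ biprod.fst) U) :=
    @app_bijective_of_isIso_restrict _ _ _ (i' ≫ biprod.fst) U h1
  have b2 : Function.Bijective (ap (i' ≫ biprod.snd) U) :=
    @app_bijective_of_isIso_restrict _ _ _ (i' ≫ biprod.snd) U h2
  have t1 := transfer K hex hH hF (i' ≫ biprod.fst) Z hHZ hFZ y IH hU hyU b1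
  have t2 := transfer K hex hH hG (i' ≫ biprod.snd) Z hHZ hGZ y IH hU hyU b2
  exact t1.symm.trans t2

end Generic

end CohDevH8
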