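import Mathlib
import Groth.Prelude
import Groth.Agent.Lib.CohDev2_helper8

/-!
# Dévissage of coherent modules, III: Noetherian induction on the support (helper8)
APPEND-ONLY once landed.
-/

set_option autoImplicit false

namespace CohDevH8

open AlgebraicGeometry CategoryTheory CategoryTheory.Limits TopologicalSpace Opposite
open QcqsLoc QCohExtn

universe u

variable {X : Scheme.{u}}

section Killed

theorem killedByIdeal_iff_le_annIdeal (I : X.IdealSheafData) (F : X.Modules) [F.IsQuasicoherent]
    [SheafOfModules.IsFiniteType (R := X.ringCatSheaf) F] :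
    ClSub.KilledByIdeal I F ↔ I ≤ AnnShH8.annIdeal F := by
  constructor
  · intro h U a ha
    rw [AnnShH8.annIdeal_ideal, Module.mem_annihilator]
    exact fun m => h U a ha m
  · intro h U a ha m
    have h1 := h U ha
    rw [AnnShH8.annIdeal_ideal, Module.mem_annihilator] at h1
    exact h1 m

theorem killedByIdeal_mono {I J : X.IdealSheafData} (h : I ≤ J) {F : X.Modules}
    (hF : ClSub.KilledByIdeal J F) : ClSub.KilledByIdeal I F :=
  fun U a ha m => hF U a (h U ha) m

theorem support_subset_of_killed (I : X.IdealSheafData) (F : X.Modules) [F.IsQuasicoherent]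
    [SheafOfModules.IsFiniteType (R := X.ringCatSheaf) F] (h : ClSub.KilledByIdeal I F) :
    CohB1.support F ⊆ (I.support : Set X) := by
  rw [← AnnShH8.support_annIdeal F]
  exact Scheme.IdealSheafData.support_antitone ((killedByIdeal_iff_le_annIdeal I F).mp h)

theorem killedByIdeal_pushforward (J : X.IdealSheafData) (G : J.subscheme.Modules) :
    ClSub.KilledByIdeal J ((Scheme.Modules.pushforward J.subschemeι).obj G) := by
  intro U a ha s
  have h0 : (J.subschemeι.app U.1).hom a = 0 := by
    have := J.ker_subschemeι_app U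
    rw [← this] at ha
    exact ha
  have h1 : a • s = (((J.subschemeι.app U.1).hom a) • (show Γ(G, J.subschemeι ⁻¹ᵁ U.1) from s) :
      Γ(G, J.subschemeι ⁻¹ᵁ U.1)) := rfl
  rw [h1, h0, zero_smul]
  rfl

end Killed

section Dev

variable [IsLocallyNoetherian X] (M : X.Modules) [M.IsQuasicoherent]
  [SheafOfModules.IsFiniteType (R := X.ringCatSheaf) M] (J J' : X.IdealSheafData)

/-- Refined dévissage: if `J J'` kills the coherent module `M`, then `M` is an extension of a
coherent module killed by `J` by a coherent module killed by `J'`. -/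
theorem exists_shortExact_of_mul_le' (hJ : J * J' ≤ AnnShH8.annIdeal M) :
    ∃ S : ShortComplex X.Modules, S.ShortExact ∧ Nonempty (S.X₂ ≅ M) ∧ Coh.IsCoh S.X₁ ∧
      Coh.IsCoh S.X₃ ∧ ClSub.KilledByIdeal J' S.X₁ ∧ ClSub.KilledByIdeal J S.X₃ := by
  haveI hq2 : ((Scheme.Modules.pullback J.subschemeι).obj M).IsQuasicoherent := inferInstance
  haveI hf2 : SheafOfModules.IsFiniteType (R := J.subscheme.ringCatSheaf)
      ((Scheme.Modules.pullback J.subschemeι).obj M) := FpqcH8.isFiniteType_pullback J.subschemeι M
  haveI hq : ((Scheme.Modules.pushforward J.subschemeι).obj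
      ((Scheme.Modules.pullback J.subschemeι).obj M)).IsQuasicoherent :=
    QCohCrit.isQuasicoherent_pushforward J.subschemeι _
  haveI hf : SheafOfModules.IsFiniteType (R := X.ringCatSheaf)
      ((Scheme.Modules.pushforward J.subschemeι).obj
        ((Scheme.Modules.pullback J.subschemeι).obj M)) :=
    QCohCrit.isFiniteType_pushforward J.subschemeι _
  obtain ⟨η, hη⟩ : ∃ η : M ⟶ (Scheme.Modules.pushforward J.subschemeι).obj
      ((Scheme.Modules.pullback J.subschemeι).obj M),
      η = (Scheme.Modules.pullbackPushforwardAdjunction J.subschemeι).unit.app M := ⟨_, rfl⟩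
  haveI hepi : Epi η := by
    rw [hη]
    exact GlobGen.epi_of_surjective_on_basis _ X.affineOpens X.isBasis_affineOpens
      (fun V hV => NilAffH8.unit_app_surjective J.subschemeι M hV)
  have hkc : Coh.IsCoh (kernel η) := CohKerH8.isCoh_kernel ⟨inferInstance, inferInstance⟩
    ⟨hq, hf⟩ η
  let S : ShortComplex X.Modules := ShortComplex.mk (kernel.ι η) η (kernel.condition η)
  have hS : S.ShortExact := ShortComplex.ShortExact.mk' (ShortComplex.exact_kernel η)
    (inferInstanceAs (Mono (kernel.ι η))) hepi
  refine ⟨S, hS, ⟨Iso.refl _⟩, hkc, ⟨hq, hf⟩, ?_, ?_⟩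
  · intro U b hb m'
    subst hη
    exact killed_kernel M J J' hJ U b hb m'
  · exact killedByIdeal_pushforward J _

end Dev

section Pow

variable [IsLocallyNoetherian X] (K : X.Modules → Prop)
  (hiso : ∀ M N : X.Modules, Nonempty (M ≅ N) → K M → K N)
  (hext : ∀ S : ShortComplex X.Modules, S.ShortExact → Coh.IsCoh S.X₁ → Coh.IsCoh S.X₂ →
    Coh.IsCoh S.X₃ → K S.X₁ → K S.X₃ → K S.X₂)

include hiso hext in
/-- If a class closed under extensions contains all coherent modules killed by `I`, it contains
all coherent modules killed by a power of `I`. -/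
theorem killed_pow_induction (I : X.IdealSheafData)
    (hbase : ∀ F : X.Modules, Coh.IsCoh F → ClSub.KilledByIdeal I F → K F) (n : ℕ) :
    ∀ F : X.Modules, Coh.IsCoh F → ClSub.KilledByIdeal (I ^ n) F → K F := by
  induction n with
  | zero =>
    intro F hF hk
    refine hbase F hF (killedByIdeal_mono ?_ hk)
    rw [pow_zero]
    exact le_top
  | succ n ih =>
    intro F hF hk
    haveI : F.IsQuasicoherent := hF.1
    haveI : SheafOfModules.IsFiniteType (R := X.ringCatSheaf) F := hF.2
    have h1 : I * I ^ n ≤ AnnShH8.annIdeal F := by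
      rw [← pow_succ']
      exact (killedByIdeal_iff_le_annIdeal _ F).mp hk
    obtain ⟨S, hS, ⟨e⟩, h1c, h3c, hk1, hk3⟩ := exists_shortExact_of_mul_le' F I (I ^ n) h1
    haveI h2q : S.X₂.IsQuasicoherent := CohOpenH8.isQuasicoherent_of_iso e
    have h2c : Coh.IsCoh S.X₂ := ⟨h2q, CohOpenH8.isFiniteType_of_iso e hF.2⟩
    exact hiso _ _ ⟨e⟩ (hext S hS h1c h2c h3c (ih _ h1c hk1) (hbase _ h3c hk3))

end Pow

section Induction

theorem isZero_of_support_eq_empty (F : X.Modules) (h : CohB1.support F = ∅) : IsZero F := by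
  rw [IsZero.iff_id_eq_zero]
  apply Scheme.Modules.hom_ext
  intro U
  haveI : Subsingleton Γ(F, U) := QCohCrit.subsingleton_sections F U (fun x _ => by
    by_contra hx
    have h1 : x ∈ CohB1.support F := hx
    rw [h] at h1
    exact h1)
  ext x
  exact Subsingleton.elim _ _

theorem closeds_lt_of_subset_of_ne {A : Set X} (hA : IsClosed A) (T : Closeds X)
    (h : A ⊆ (T : Set X)) (hne : A ≠ (T : Set X)) : (⟨A, hA⟩ : Closeds X) < T :=
  lt_of_le_of_ne (SetLike.coe_subset_coe.mp h)
    (fun h' => hne (congrArg (fun C : Closeds X => (C : Set X)) h'))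

variable [IsNoetherian X] (K : X.Modules → Prop)
  (hiso : ∀ M N : X.Modules, Nonempty (M ≅ N) → K M → K N)
  (h0 : ∀ M : X.Modules, IsZero M → K M)
  (hext : ∀ S : ShortComplex X.Modules, S.ShortExact → Coh.IsCoh S.X₁ → Coh.IsCoh S.X₂ →
    Coh.IsCoh S.X₃ → K S.X₁ → K S.X₃ → K S.X₂)

include hiso h0 hext in
/-- Noetherian induction on the support: to show that a class of modules, closed under
extensions of coherent modules and containing the zero modules, contains all coherent modules
supported in `X'`, it suffices to treat the coherent modules killed by the ideal of an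
irreducible closed subset `Z ⊆ X'`, assuming the result for all coherent modules with support
strictly smaller than `Z`. -/
theorem induction_on_support (X' : Set X)
    (hstep : ∀ (Z : Set X) (hZ : IsClosed Z), IsIrreducible Z → Z ⊆ X' →
      (∀ M : X.Modules, Coh.IsCoh M → CohB1.support M ⊆ Z → CohB1.support M ≠ Z → K M) →
      ∀ F : X.Modules, Coh.IsCoh F →
        ClSub.KilledByIdeal (Scheme.IdealSheafData.vanishingIdeal ⟨Z, hZ⟩) F → K F)
    (F : X.Modules) (hF : Coh.IsCoh F) (hsupp : CohB1.support F ⊆ X') : K F := by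
  have key : ∀ T : Closeds X, (T : Set X) ⊆ X' → ∀ F : X.Modules, Coh.IsCoh F →
      CohB1.support F ⊆ (T : Set X) → K F := by
    intro T
    induction T using WellFoundedLT.induction with
    | ind T IH =>
    intro hTX F hF hFT
    haveI : F.IsQuasicoherent := hF.1
    haveI : SheafOfModules.IsFiniteType (R := X.ringCatSheaf) F := hF.2
    have hcl : IsClosed (CohB1.support F) := SupportCoh.isClosed_support F
    by_cases hne : CohB1.support F = (T : Set X)
    swap
    · exact IH _ (closeds_lt_of_subset_of_ne hcl T hFT hne) (hFT.trans hTX) F hF le_rfl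
    by_cases hemp : (T : Set X) = ∅
    · exact h0 F (isZero_of_support_eq_empty F (hne.trans hemp))
    have hnonempty : (T : Set X).Nonempty := Set.nonempty_iff_ne_empty.mpr hemp
    have IH' : ∀ M : X.Modules, Coh.IsCoh M → CohB1.support M ⊆ (T : Set X) →
        CohB1.support M ≠ (T : Set X) → K M := by
      intro M hM hMT hMne
      haveI : M.IsQuasicoherent := hM.1
      haveI : SheafOfModules.IsFiniteType (R := X.ringCatSheaf) M := hM.2
      have hclM := SupportCoh.isClosed_support M
      exact IH _ (closeds_lt_of_subset_of_ne hclM T hMT hMne) (hMT.trans hTX) M hM le_rfl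
    by_cases hirr : IsPreirreducible (T : Set X)
    · have hT : IsIrreducible (T : Set X) := ⟨hnonempty, hirr⟩
      obtain ⟨n, hn⟩ := exists_radical_pow_le X (AnnShH8.annIdeal F)
      have hrad : (AnnShH8.annIdeal F).radical =
          Scheme.IdealSheafData.vanishingIdeal ⟨(T : Set X), T.isClosed⟩ := by
        rw [← Scheme.IdealSheafData.vanishingIdeal_support]
        congr 1
        apply SetLike.coe_injective
        rw [AnnShH8.support_annIdeal, hne]
        rfl
      rw [hrad] at hn
      have hk : ClSub.KilledByIdeal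
          (Scheme.IdealSheafData.vanishingIdeal ⟨(T : Set X), T.isClosed⟩ ^ n) F :=
        (killedByIdeal_iff_le_annIdeal _ F).mpr hn
      exact killed_pow_induction K hiso hext _
        (hstep (T : Set X) T.isClosed hT hTX IH') n F hF hk
    · rw [isPreirreducible_iff_isClosed_union_isClosed] at hirr
      push Not at hirr
      obtain ⟨z₁, z₂, hz₁, hz₂, hsub, hn₁, hn₂⟩ := hirr
      have hunion : CohB1.support F = ((T : Set X) ∩ z₁) ∪ ((T : Set X) ∩ z₂) := by
        rw [hne, ← Set.inter_union_distrib_left]
        exact (Set.inter_eq_left.mpr hsub).symm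
      obtain ⟨S, hS, ⟨e⟩, h1, h3, hs1, hs3⟩ := exists_shortExact_of_support_eq_union F hF _ _
        (T.isClosed.inter hz₁) (T.isClosed.inter hz₂) hunion
      have hlt₁ := closeds_lt_of_subset_of_ne (T.isClosed.inter hz₁) T Set.inter_subset_left
        (fun h => hn₁ (Set.inter_eq_left.mp h))
      have hlt₂ := closeds_lt_of_subset_of_ne (T.isClosed.inter hz₂) T Set.inter_subset_left
        (fun h => hn₂ (Set.inter_eq_left.mp h))
      have k1 : K S.X₁ := IH _ hlt₂ (Set.inter_subset_left.trans hTX) S.X₁ h1 hs1
      have k3 : K S.X₃ := IH _ hlt₁ (Set.inter_subset_left.trans hTX) S.X₃ h3 hs3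
      haveI h2q : S.X₂.IsQuasicoherent := CohOpenH8.isQuasicoherent_of_iso e
      have h2c : Coh.IsCoh S.X₂ := ⟨h2q, CohOpenH8.isFiniteType_of_iso e hF.2⟩
      exact hiso _ _ ⟨e⟩ (hext S hS h1 h2c h3 k1 k3)
  haveI : F.IsQuasicoherent := hF.1
  haveI : SheafOfModules.IsFiniteType (R := X.ringCatSheaf) F := hF.2
  exact key ⟨CohB1.support F, SupportCoh.isClosed_support F⟩ hsupp F hF le_rfl

end Induction

end CohDevH8
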