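import Mathlib
import Groth.Prelude
import Groth.Agent.Lib.CohDev3_helper8
import Groth.Agent.Lib.FLF1_helper8

/-!
# Dévissage of coherent modules, IV: from stalks to sections (helper8)
APPEND-ONLY once landed.
-/

set_option autoImplicit false

namespace CohDevH8

open AlgebraicGeometry CategoryTheory CategoryTheory.Limits TopologicalSpace Opposite
open QcqsLoc QCohExtn

universe u

section Alg

/-- An equivalence between the standard localizations of two modules away from `a` gives an
equivalence between any two models of these localizations. -/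
theorem sections_equiv_of_away_equiv {A A' M M' N N' : Type u} [CommRing A] [CommRing A']
    [AddCommGroup M] [Module A M] [AddCommGroup M'] [Module A' M']
    [AddCommGroup N] [Module A N] [AddCommGroup N'] [Module A' N']
    {ρ : A →+* A'} {a : A} {lM : M →+ M'} {lN : N →+ N'}
    (hM : RelFPKit.LocData ρ a lM) (hN : RelFPKit.LocData ρ a lN)
    (l' : LocalizedModule.Away a M ≃ₗ[Localization (Submonoid.powers a)]
      LocalizedModule.Away a N) : Nonempty (M' ≃ₗ[A'] N') := by
  letI algA' : Algebra A A' := ρ.toAlgebra
  haveI : IsLocalization.Away a A' := hM.isLoc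
  let σ : Localization (Submonoid.powers a) ≃ₐ[A] A' :=
    IsLocalization.algEquiv (Submonoid.powers a) (Localization (Submonoid.powers a)) A'
  -- `M'`
  letI modAM' : Module A M' := Module.compHom M' ρ
  haveI : IsScalarTower A A' M' := IsScalarTower.of_algebraMap_smul (fun _ _ => rfl)
  let φM : M →ₗ[A] M' := { toFun := lM, map_add' := lM.map_add, map_smul' := hM.smul }
  haveI : IsLocalizedModule (Submonoid.powers a) φM := QCohFT.isLocalizedModule_of_locData hM
  letI modLM : Module (Localization (Submonoid.powers a)) M' :=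
    Module.compHom M' (σ : Localization (Submonoid.powers a) →+* A')
  haveI : IsScalarTower A (Localization (Submonoid.powers a)) M' := by
    refine IsScalarTower.of_algebraMap_smul (fun r m => ?_)
    change σ (algebraMap A _ r) • m = ρ r • m
    rw [σ.commutes]
    rfl
  let eM : LocalizedModule.Away a M ≃ₗ[Localization (Submonoid.powers a)] M' :=
    (IsLocalizedModule.iso (Submonoid.powers a) φM).extendScalarsOfIsLocalization
      (Submonoid.powers a) (Localization (Submonoid.powers a))
  -- `N'`
  letI modAN' : Module A N' := Module.compHom N' ρ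
  haveI : IsScalarTower A A' N' := IsScalarTower.of_algebraMap_smul (fun _ _ => rfl)
  let φN : N →ₗ[A] N' := { toFun := lN, map_add' := lN.map_add, map_smul' := hN.smul }
  haveI : IsLocalizedModule (Submonoid.powers a) φN := QCohFT.isLocalizedModule_of_locData hN
  letI modLN : Module (Localization (Submonoid.powers a)) N' :=
    Module.compHom N' (σ : Localization (Submonoid.powers a) →+* A')
  haveI : IsScalarTower A (Localization (Submonoid.powers a)) N' := by
    refine IsScalarTower.of_algebraMap_smul (fun r m => ?_)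
    change σ (algebraMap A _ r) • m = ρ r • m
    rw [σ.commutes]
    rfl
  let eN : LocalizedModule.Away a N ≃ₗ[Localization (Submonoid.powers a)] N' :=
    (IsLocalizedModule.iso (Submonoid.powers a) φN).extendScalarsOfIsLocalization
      (Submonoid.powers a) (Localization (Submonoid.powers a))
  let E : M' ≃ₗ[Localization (Submonoid.powers a)] N' := eM.symm.trans (l'.trans eN)
  refine ⟨{ E.toAddEquiv with map_smul' := fun c x => ?_ }⟩
  have h1 : ∀ (c : A') (z : M'), c • z = (σ.symm c) • z := by
    intro c z
    show c • z = σ (σ.symm c) • z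
    rw [σ.apply_symm_apply]
  have h2 : ∀ (c : A') (z : N'), c • z = (σ.symm c) • z := by
    intro c z
    show c • z = σ (σ.symm c) • z
    rw [σ.apply_symm_apply]
  show E (c • x) = c • E x
  rw [h1, h2, map_smul]

end Alg

section Stalk

variable {X : Scheme.{u}}

/-- Coherent modules with isomorphic stalks at `y` have isomorphic modules of sections over some
affine open neighbourhood of `y`. -/
theorem exists_sections_equiv_of_stalk_equiv [IsLocallyNoetherian X] {F G : X.Modules}
    (hF : Coh.IsCoh F) (hG : Coh.IsCoh G) (y : X)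
    (l : F.presheaf.stalk y ≃ₗ[X.presheaf.stalk y] G.presheaf.stalk y) :
    ∃ U : X.Opens, IsAffineOpen U ∧ y ∈ U ∧ Nonempty (Γ(F, U) ≃ₗ[Γ(X, U)] Γ(G, U)) := by
  haveI := hF.1
  haveI := hF.2
  haveI := hG.1
  haveI := hG.2
  obtain ⟨W, hW, hyW, -⟩ := Opens.isBasis_iff_nbhd.mp X.isBasis_affineOpens (Opens.mem_top y)
  haveI : IsNoetherianRing Γ(X, W) := IsLocallyNoetherian.component_noetherian ⟨W, hW⟩
  haveI : Module.Finite Γ(X, W) Γ(F, W) := QCohFT.finite_of_isFiniteType F hW
  haveI : Module.Finite Γ(X, W) Γ(G, W) := QCohFT.finite_of_isFiniteType G hW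
  haveI : Module.FinitePresentation Γ(X, W) Γ(F, W) := Module.finitePresentation_of_finite _ _
  haveI : Module.FinitePresentation Γ(X, W) Γ(G, W) := Module.finitePresentation_of_finite _ _
  letI := StalkLocH8.modSec F hyW
  letI := StalkLocH8.modSec G hyW
  haveI := StalkLocH8.isLocalizedModule_germLin F hW hyW
  haveI := StalkLocH8.isLocalizedModule_germLin G hW hyW
  let lA : F.presheaf.stalk y ≃ₗ[Γ(X, W)] G.presheaf.stalk y :=
    { l.toAddEquiv with
      map_smul' := fun a x => l.map_smul ((X.presheaf.germ W y hyW).hom a) x }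
  obtain ⟨r, hr, l', -⟩ := Module.FinitePresentation.exists_lift_equiv_of_isLocalizedModule
    (hW.primeIdealOf ⟨y, hyW⟩).asIdeal.primeCompl (StalkLocH8.germLin F hyW)
    (StalkLocH8.germLin G hyW) lA
  have hldF := RelFPAff.locData (F := F) hW r (homOfLE (X.basicOpen_le r)) rfl
  have hldG := RelFPAff.locData (F := G) hW r (homOfLE (X.basicOpen_le r)) rfl
  refine ⟨X.basicOpen r, hW.basicOpen r, ?_, sections_equiv_of_away_equiv hldF hldG l'⟩
  exact (AnnShH8.mem_basicOpen_iff hW hyW r).mpr hr

variable [IsNoetherian X] (K : X.Modules → Prop)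
  (hex : ∀ S : ShortComplex X.Modules, S.ShortExact → Coh.IsCoh S.X₁ → Coh.IsCoh S.X₂ →
    Coh.IsCoh S.X₃ → (K S.X₁ → K S.X₂ → K S.X₃) ∧ (K S.X₁ → K S.X₃ → K S.X₂) ∧
      (K S.X₂ → K S.X₃ → K S.X₁))

include hex in
/-- Two coherent modules supported in `Z` with isomorphic stalks at `y` belong to an exact class
`K` simultaneously, provided all coherent modules supported in `Z` away from `y` belong to `K`. -/
theorem generic_step' {F G : X.Modules} (hF : Coh.IsCoh F) (hG : Coh.IsCoh G)
    (Z : Set X) (hFZ : CohB1.support F ⊆ Z) (hGZ : CohB1.support G ⊆ Z) (y : X)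
    (IH : ∀ M : X.Modules, Coh.IsCoh M → CohB1.support M ⊆ Z → y ∉ CohB1.support M → K M)
    (l : F.presheaf.stalk y ≃ₗ[X.presheaf.stalk y] G.presheaf.stalk y) :
    K F ↔ K G := by
  obtain ⟨U, hU, hyU, ⟨e⟩⟩ := exists_sections_equiv_of_stalk_equiv hF hG y l
  exact generic_step K hex hF hG Z hFZ hGZ y IH hU hyU e

end Stalk

end CohDevH8
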