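import Mathlib
import Groth.Prelude
import Groth.Agent.Lib.CohDev4_helper8

/-!
# Dévissage of coherent modules, V: stalks at generic points and powers (helper8)
APPEND-ONLY once landed.
-/

set_option autoImplicit false

namespace CohDevH8

open AlgebraicGeometry CategoryTheory CategoryTheory.Limits TopologicalSpace Opposite
open QcqsLoc QCohExtn IsLocalRing

universe u

section Alg

/-- A finite module over a local ring killed by the maximal ideal is a finite power of the
residue field. -/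
theorem exists_linearEquiv_fin_residueField (R : Type u) [CommRing R] [IsLocalRing R]
    (V : Type u) [AddCommGroup V] [Module R V] [Module.Finite R V]
    (h : ∀ a ∈ maximalIdeal R, ∀ v : V, a • v = 0) :
    ∃ d : ℕ, Nonempty (V ≃ₗ[R] (Fin d → ResidueField R)) := by
  have htors : Module.IsTorsionBySet R V (maximalIdeal R : Set R) := by
    intro v a
    exact h a.1 a.2 v
  letI : Module (R ⧸ maximalIdeal R) V := htors.module
  haveI : IsScalarTower R (R ⧸ maximalIdeal R) V := htors.isScalarTower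
  letI : Field (R ⧸ maximalIdeal R) := Ideal.Quotient.field _
  haveI : Module.Finite (R ⧸ maximalIdeal R) V := Module.Finite.of_restrictScalars_finite R _ V
  let b := Module.finBasis (R ⧸ maximalIdeal R) V
  refine ⟨Module.finrank (R ⧸ maximalIdeal R) V, ⟨?_⟩⟩
  exact (b.equivFun).restrictScalars R

/-- A module of length one over a local ring is the residue field. -/
theorem nonempty_linearEquiv_residueField_of_length (R : Type u) [CommRing R] [IsLocalRing R]
    (V : Type u) [AddCommGroup V] [Module R V] (h : Module.length R V = 1) :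
    Nonempty (V ≃ₗ[R] ResidueField R) := by
  rw [Module.length_eq_one_iff] at h
  obtain ⟨I, hI, ⟨e⟩⟩ := isSimpleModule_iff_quot_maximal.mp h
  have hI' : I = maximalIdeal R := IsLocalRing.eq_maximalIdeal hI
  subst hI'
  exact ⟨e⟩

end Alg

variable {X : Scheme.{u}}

section StalkMap

theorem stalkMapₗ_comp {M N P : X.Modules} (φ : M ⟶ N) (ψ : N ⟶ P) (y : X) :
    Algz.stalkMapₗ (φ ≫ ψ) y = (Algz.stalkMapₗ ψ y).comp (Algz.stalkMapₗ φ y) := by
  ext m
  show Algz.stalkMapAb (φ ≫ ψ) y m = Algz.stalkMapAb ψ y (Algz.stalkMapAb φ y m)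
  unfold Algz.stalkMapAb
  have h : Scheme.Modules.Hom.mapPresheaf (φ ≫ ψ) =
      Scheme.Modules.Hom.mapPresheaf φ ≫ Scheme.Modules.Hom.mapPresheaf ψ := rfl
  rw [h, Functor.map_comp]
  rfl

theorem stalkMapₗ_id (M : X.Modules) (y : X) :
    Algz.stalkMapₗ (𝟙 M) y = LinearMap.id := by
  ext m
  show Algz.stalkMapAb (𝟙 M) y m = m
  unfold Algz.stalkMapAb
  have h : Scheme.Modules.Hom.mapPresheaf (𝟙 M) = 𝟙 _ := rfl
  rw [h, CategoryTheory.Functor.map_id]
  rfl

theorem stalkMapₗ_add {M N : X.Modules} (φ ψ : M ⟶ N) (y : X) :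
    Algz.stalkMapₗ (φ + ψ) y = Algz.stalkMapₗ φ y + Algz.stalkMapₗ ψ y := by
  ext m
  show Algz.stalkMapAb (φ + ψ) y m = Algz.stalkMapAb φ y m + Algz.stalkMapAb ψ y m
  unfold Algz.stalkMapAb
  have h : Scheme.Modules.Hom.mapPresheaf (φ + ψ) =
      Scheme.Modules.Hom.mapPresheaf φ + Scheme.Modules.Hom.mapPresheaf ψ := rfl
  rw [h, Functor.map_add]
  rfl

theorem stalkMapₗ_zero {M N : X.Modules} (y : X) :
    Algz.stalkMapₗ (0 : M ⟶ N) y = 0 := by
  ext m
  show Algz.stalkMapAb (0 : M ⟶ N) y m = 0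
  unfold Algz.stalkMapAb
  have h : Scheme.Modules.Hom.mapPresheaf (0 : M ⟶ N) = 0 := rfl
  rw [h, Functor.map_zero]
  rfl

/-- The stalk of a biproduct is the product of the stalks. -/
noncomputable def stalkBiprodEquiv (F G : X.Modules) (y : X) :
    (F ⊞ G).presheaf.stalk y ≃ₗ[X.presheaf.stalk y]
      (F.presheaf.stalk y × G.presheaf.stalk y) where
  toFun x := (Algz.stalkMapₗ (biprod.fst : F ⊞ G ⟶ F) y x,
    Algz.stalkMapₗ (biprod.snd : F ⊞ G ⟶ G) y x)
  map_add' a b := by simp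
  map_smul' r a := by simp
  invFun p := Algz.stalkMapₗ (biprod.inl : F ⟶ F ⊞ G) y p.1 +
    Algz.stalkMapₗ (biprod.inr : G ⟶ F ⊞ G) y p.2
  left_inv x := by
    have h1 : (Algz.stalkMapₗ (biprod.inl : F ⟶ F ⊞ G) y).comp
        (Algz.stalkMapₗ (biprod.fst : F ⊞ G ⟶ F) y) +
        (Algz.stalkMapₗ (biprod.inr : G ⟶ F ⊞ G) y).comp
        (Algz.stalkMapₗ (biprod.snd : F ⊞ G ⟶ G) y) = LinearMap.id := by
      rw [← stalkMapₗ_comp, ← stalkMapₗ_comp, ← stalkMapₗ_add, biprod.total, stalkMapₗ_id]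
    exact LinearMap.congr_fun h1 x
  right_inv p := by
    have h1 : (Algz.stalkMapₗ (biprod.fst : F ⊞ G ⟶ F) y).comp
        (Algz.stalkMapₗ (biprod.inl : F ⟶ F ⊞ G) y) = LinearMap.id := by
      rw [← stalkMapₗ_comp, biprod.inl_fst, stalkMapₗ_id]
    have h2 : (Algz.stalkMapₗ (biprod.fst : F ⊞ G ⟶ F) y).comp
        (Algz.stalkMapₗ (biprod.inr : G ⟶ F ⊞ G) y) = 0 := by
      rw [← stalkMapₗ_comp, biprod.inr_fst, stalkMapₗ_zero]
    have h3 : (Algz.stalkMapₗ (biprod.snd : F ⊞ G ⟶ G) y).comp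
        (Algz.stalkMapₗ (biprod.inl : F ⟶ F ⊞ G) y) = 0 := by
      rw [← stalkMapₗ_comp, biprod.inl_snd, stalkMapₗ_zero]
    have h4 : (Algz.stalkMapₗ (biprod.snd : F ⊞ G ⟶ G) y).comp
        (Algz.stalkMapₗ (biprod.inr : G ⟶ F ⊞ G) y) = LinearMap.id := by
      rw [← stalkMapₗ_comp, biprod.inr_snd, stalkMapₗ_id]
    have e1 := LinearMap.congr_fun h1 p.1
    have e2 := LinearMap.congr_fun h2 p.2
    have e3 := LinearMap.congr_fun h3 p.1
    have e4 := LinearMap.congr_fun h4 p.2
    simp only [LinearMap.comp_apply, LinearMap.id_apply, LinearMap.zero_apply] at e1 e2 e3 e4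
    ext
    · simp only [map_add, e1, e2, add_zero]
    · simp only [map_add, e3, e4, zero_add]

end StalkMap

section Pow

/-- `pow1 F n` is the direct sum of `n + 1` copies of `F`. -/
noncomputable def pow1 (F : X.Modules) : ℕ → X.Modules
  | 0 => F
  | (n + 1) => F ⊞ pow1 F n

theorem pow1_zero (F : X.Modules) : pow1 F 0 = F := rfl

theorem pow1_succ (F : X.Modules) (n : ℕ) : pow1 F (n + 1) = (F ⊞ pow1 F n) := rfl

theorem isCoh_pow1 {F : X.Modules} (hF : Coh.IsCoh F) : ∀ n, Coh.IsCoh (pow1 F n)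
  | 0 => hF
  | (n + 1) => isCoh_biprod hF (isCoh_pow1 hF n)

theorem support_pow1_subset {F : X.Modules} (hF : Coh.IsCoh F) :
    ∀ n, CohB1.support (pow1 F n) ⊆ CohB1.support F
  | 0 => le_rfl
  | (n + 1) => by
    haveI : F.IsQuasicoherent := hF.1
    haveI : (pow1 F n).IsQuasicoherent := (isCoh_pow1 hF n).1
    exact (support_biprod_subset (F := F) (G := pow1 F n)).trans
      (Set.union_subset le_rfl (support_pow1_subset hF n))

theorem K_pow1 (K : X.Modules → Prop)
    (hext : ∀ S : ShortComplex X.Modules, S.ShortExact → Coh.IsCoh S.X₁ → Coh.IsCoh S.X₂ →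
      Coh.IsCoh S.X₃ → K S.X₁ → K S.X₃ → K S.X₂)
    {F : X.Modules} (hF : Coh.IsCoh F) (hK : K F) : ∀ n, K (pow1 F n)
  | 0 => hK
  | (n + 1) => by
    let S : ShortComplex X.Modules :=
      ShortComplex.mk (biprod.inl : F ⟶ F ⊞ pow1 F n) biprod.snd (by simp)
    have hS : S.ShortExact := (ShortComplex.Splitting.ofHasBinaryBiproduct F (pow1 F n)).shortExact
    exact hext S hS hF (isCoh_biprod hF (isCoh_pow1 hF n)) (isCoh_pow1 hF n) hK
      (K_pow1 K hext hF hK n)

theorem stalkPow1Equiv (F : X.Modules) (y : X) : ∀ n : ℕ,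
    Nonempty ((pow1 F n).presheaf.stalk y ≃ₗ[X.presheaf.stalk y]
      (Fin (n + 1) → F.presheaf.stalk y))
  | 0 => ⟨(LinearEquiv.funUnique (Fin 1) (X.presheaf.stalk y) (F.presheaf.stalk y)).symm⟩
  | (n + 1) => by
    obtain ⟨e⟩ := stalkPow1Equiv F y n
    exact ⟨(stalkBiprodEquiv F (pow1 F n) y).trans
      (((LinearEquiv.refl _ _).prodCongr e).trans
        (Fin.consLinearEquiv (X.presheaf.stalk y) (fun _ : Fin (n + 2) => F.presheaf.stalk y)))⟩

end Pow

section Generic

theorem finite_stalk (F : X.Modules) [F.IsQuasicoherent]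
    [SheafOfModules.IsFiniteType (R := X.ringCatSheaf) F] (y : X) :
    Module.Finite (X.presheaf.stalk y) (F.presheaf.stalk y) := by
  obtain ⟨U, hU, hyU, -⟩ := Opens.isBasis_iff_nbhd.mp X.isBasis_affineOpens (Opens.mem_top y)
  haveI := QCohFT.finite_of_isFiniteType F hU
  letI := StalkLocH8.modSec F hyU
  haveI := StalkLocH8.isLocalizedModule_germLin F hU hyU
  letI := TopCat.Presheaf.algebra_section_stalk X.presheaf (⟨y, hyU⟩ : U)
  haveI : IsLocalization.AtPrime (X.presheaf.stalk y) (hU.primeIdealOf ⟨y, hyU⟩).asIdeal :=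
    hU.isLocalization_stalk ⟨y, hyU⟩
  haveI : IsScalarTower Γ(X, U) (X.presheaf.stalk y) (F.presheaf.stalk y) :=
    IsScalarTower.of_algebraMap_smul (fun _ _ => rfl)
  exact Module.Finite.of_isLocalizedModule (hU.primeIdealOf ⟨y, hyU⟩).asIdeal.primeCompl
    (Rₚ := X.presheaf.stalk y) (StalkLocH8.germLin F hyU)

/-- If `F` is killed by the ideal of the closure `Z` of `y`, its stalk at `y` is killed by the
maximal ideal. -/
theorem stalk_killed_of_killed (F : X.Modules) [F.IsQuasicoherent] (Z : Set X) (hZ : IsClosed Z)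
    (y : X) (hy : closure {y} = Z)
    (hk : ClSub.KilledByIdeal (Scheme.IdealSheafData.vanishingIdeal ⟨Z, hZ⟩) F) :
    ∀ a ∈ maximalIdeal (X.presheaf.stalk y), ∀ m : F.presheaf.stalk y, a • m = 0 := by
  intro a ha m
  obtain ⟨U, hU, hyU, -⟩ := Opens.isBasis_iff_nbhd.mp X.isBasis_affineOpens (Opens.mem_top y)
  letI := StalkLocH8.modSec F hyU
  haveI := StalkLocH8.isLocalizedModule_germLin F hU hyU
  letI := TopCat.Presheaf.algebra_section_stalk X.presheaf (⟨y, hyU⟩ : U)
  haveI : IsLocalization.AtPrime (X.presheaf.stalk y) (hU.primeIdealOf ⟨y, hyU⟩).asIdeal :=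
    hU.isLocalization_stalk ⟨y, hyU⟩
  obtain ⟨⟨a', s⟩, has⟩ := IsLocalization.surj (hU.primeIdealOf ⟨y, hyU⟩).asIdeal.primeCompl a
  obtain ⟨⟨t, s'⟩, hts⟩ := IsLocalizedModule.surj (hU.primeIdealOf ⟨y, hyU⟩).asIdeal.primeCompl
    (StalkLocH8.germLin F hyU) m
  have hgerm : (X.presheaf.germ U y hyU).hom a' ∈ maximalIdeal (X.presheaf.stalk y) := by
    have h1 : (X.presheaf.germ U y hyU).hom a' = a * (X.presheaf.germ U y hyU).hom s := has.symm
    rw [h1]
    exact Ideal.mul_mem_right _ _ ha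
  have ha' : a' ∈ (hU.primeIdealOf ⟨y, hyU⟩).asIdeal := by
    rw [hU.primeIdealOf_eq_map_closedPoint]
    exact hgerm
  have hI : a' ∈ (Scheme.IdealSheafData.vanishingIdeal ⟨Z, hZ⟩).ideal ⟨U, hU⟩ := by
    rw [Scheme.IdealSheafData.vanishingIdeal_ideal, PrimeSpectrum.mem_vanishingIdeal]
    intro q hq
    have h1 : y ⤳ hU.fromSpec q := by
      rw [specializes_iff_mem_closure, hy]
      exact hq
    have h2 : hU.fromSpec (hU.primeIdealOf ⟨y, hyU⟩) = y := hU.fromSpec_primeIdealOf ⟨y, hyU⟩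
    rw [← h2] at h1
    have h3 : hU.primeIdealOf ⟨y, hyU⟩ ⤳ q :=
      hU.fromSpec.isOpenEmbedding.isInducing.specializes_iff.mp h1
    exact (PrimeSpectrum.le_iff_specializes _ _).mpr h3 ha'
  have h0 : a' • t = 0 := hk ⟨U, hU⟩ a' hI t
  have hu : IsUnit ((X.presheaf.germ U y hyU).hom s.1) :=
    IsLocalization.map_units (X.presheaf.stalk y) s
  have hu' : IsUnit ((X.presheaf.germ U y hyU).hom s'.1) :=
    IsLocalization.map_units (X.presheaf.stalk y) s'
  have hts' : (X.presheaf.germ U y hyU).hom s'.1 • m = F.presheaf.germ U y hyU t := hts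
  have key : ((X.presheaf.germ U y hyU).hom s.1 * (X.presheaf.germ U y hyU).hom s'.1) •
      (a • m) = 0 := by
    have e1 : ((X.presheaf.germ U y hyU).hom s.1 * (X.presheaf.germ U y hyU).hom s'.1) •
        (a • m) = (a * (X.presheaf.germ U y hyU).hom s.1) •
          ((X.presheaf.germ U y hyU).hom s'.1 • m) := by
      rw [smul_smul, smul_smul]
      congr 1
      ring
    have has' : a * (X.presheaf.germ U y hyU).hom s.1 = (X.presheaf.germ U y hyU).hom a' := has
    rw [e1, hts', has', ← Groth.Agent.Lib.QCohLoc_helper4.germ_smul F U y hyU a' t, h0, map_zero]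
  obtain ⟨v, hv⟩ := hu.mul hu'
  rw [← hv] at key
  have := congrArg (fun z => (↑v⁻¹ : X.presheaf.stalk y) • z) key
  simpa [smul_smul] using this

/-- The stalk at the generic point `y` of `Z` of a coherent module killed by the ideal of `Z`
is a finite power of the residue field. -/
theorem exists_stalk_equiv {F : X.Modules} (hF : Coh.IsCoh F) (Z : Set X) (hZ : IsClosed Z)
    (y : X) (hy : closure {y} = Z)
    (hk : ClSub.KilledByIdeal (Scheme.IdealSheafData.vanishingIdeal ⟨Z, hZ⟩) F) :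
    ∃ d : ℕ, Nonempty (F.presheaf.stalk y ≃ₗ[X.presheaf.stalk y]
      (Fin d → ResidueField (X.presheaf.stalk y))) := by
  haveI := hF.1
  haveI := hF.2
  haveI := finite_stalk F y
  exact exists_linearEquiv_fin_residueField _ _ (stalk_killed_of_killed F Z hZ y hy hk)

/-- Swapping the two factors of a double power. -/
noncomputable def piSwap (R M : Type*) [CommRing R] [AddCommGroup M] [Module R M] (a b : ℕ) :
    (Fin a → Fin b → M) ≃ₗ[R] (Fin b → Fin a → M) :=
  (LinearEquiv.curry R M (Fin a) (Fin b)).symm.trans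
    ((LinearEquiv.funCongrLeft R M (Equiv.prodComm (Fin b) (Fin a))).trans
      (LinearEquiv.curry R M (Fin b) (Fin a)))

end Generic

section Steps

variable [IsNoetherian X] (K : X.Modules → Prop)
  (hex : ∀ S : ShortComplex X.Modules, S.ShortExact → Coh.IsCoh S.X₁ → Coh.IsCoh S.X₂ →
    Coh.IsCoh S.X₃ → (K S.X₁ → K S.X₂ → K S.X₃) ∧ (K S.X₁ → K S.X₃ → K S.X₂) ∧
      (K S.X₂ → K S.X₃ → K S.X₁))

include hex in
/-- The irreducible step of the dévissage when `K` contains a coherent module supported in `Z`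
whose stalk at the generic point is the residue field. -/
theorem step_of_rank_one (Z : Set X) (hZ : IsClosed Z) (y : X) (hy : closure {y} = Z)
    (IH : ∀ M : X.Modules, Coh.IsCoh M → CohB1.support M ⊆ Z → CohB1.support M ≠ Z → K M)
    {G : X.Modules} (hG : Coh.IsCoh G) (hKG : K G) (hGZ : CohB1.support G ⊆ Z)
    (l : G.presheaf.stalk y ≃ₗ[X.presheaf.stalk y] ResidueField (X.presheaf.stalk y))
    (F : X.Modules) (hF : Coh.IsCoh F)
    (hk : ClSub.KilledByIdeal (Scheme.IdealSheafData.vanishingIdeal ⟨Z, hZ⟩) F) : K F := by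
  haveI := hF.1
  haveI := hF.2
  have hyZ : y ∈ Z := hy ▸ subset_closure (Set.mem_singleton y)
  have IH' : ∀ M : X.Modules, Coh.IsCoh M → CohB1.support M ⊆ Z → y ∉ CohB1.support M → K M :=
    fun M hM h1 h2 => IH M hM h1 (fun h => h2 (h ▸ hyZ))
  have hFZ : CohB1.support F ⊆ Z := by
    have h1 := support_subset_of_killed _ F hk
    rwa [Scheme.IdealSheafData.coe_support_vanishingIdeal] at h1
  have hext : ∀ S : ShortComplex X.Modules, S.ShortExact → Coh.IsCoh S.X₁ → Coh.IsCoh S.X₂ →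
      Coh.IsCoh S.X₃ → K S.X₁ → K S.X₃ → K S.X₂ :=
    fun S hS h1 h2 h3 k1 k3 => (hex S hS h1 h2 h3).2.1 k1 k3
  obtain ⟨d, ⟨eF⟩⟩ := exists_stalk_equiv hF Z hZ y hy hk
  cases d with
  | zero =>
    apply IH' F hF hFZ
    intro hyF
    apply hyF
    exact eF.toEquiv.subsingleton
  | succ n =>
    obtain ⟨eP⟩ := stalkPow1Equiv G y n
    exact (generic_step' K hex (isCoh_pow1 hG n) hF Z ((support_pow1_subset hG n).trans hGZ) hFZ y
      IH' (eP.trans ((LinearEquiv.piCongrRight (fun _ => l)).trans eF.symm))).mp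
      (K_pow1 K hext hG hKG n)

include hex in
/-- The irreducible step of the dévissage when `K` is stable under retracts and contains a
coherent module killed by the ideal of `Z` with nonzero stalk at the generic point. -/
theorem step_of_retract
    (hsum : ∀ (M N : X.Modules) (i : N ⟶ M) (r : M ⟶ N), i ≫ r = 𝟙 N → Coh.IsCoh M →
      Coh.IsCoh N → K M → K N)
    (Z : Set X) (hZ : IsClosed Z) (y : X) (hy : closure {y} = Z)
    (IH : ∀ M : X.Modules, Coh.IsCoh M → CohB1.support M ⊆ Z → CohB1.support M ≠ Z → K M)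
    {G : X.Modules} (hG : Coh.IsCoh G) (hKG : K G)
    (hkG : ClSub.KilledByIdeal (Scheme.IdealSheafData.vanishingIdeal ⟨Z, hZ⟩) G)
    (hyG : y ∈ CohB1.support G)
    (F : X.Modules) (hF : Coh.IsCoh F)
    (hk : ClSub.KilledByIdeal (Scheme.IdealSheafData.vanishingIdeal ⟨Z, hZ⟩) F) : K F := by
  haveI := hF.1
  haveI := hF.2
  haveI := hG.1
  haveI := hG.2
  have hyZ : y ∈ Z := hy ▸ subset_closure (Set.mem_singleton y)
  have IH' : ∀ M : X.Modules, Coh.IsCoh M → CohB1.support M ⊆ Z → y ∉ CohB1.support M → K M :=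
    fun M hM h1 h2 => IH M hM h1 (fun h => h2 (h ▸ hyZ))
  have hFZ : CohB1.support F ⊆ Z := by
    have h1 := support_subset_of_killed _ F hk
    rwa [Scheme.IdealSheafData.coe_support_vanishingIdeal] at h1
  have hGZ : CohB1.support G ⊆ Z := by
    have h1 := support_subset_of_killed _ G hkG
    rwa [Scheme.IdealSheafData.coe_support_vanishingIdeal] at h1
  have hext : ∀ S : ShortComplex X.Modules, S.ShortExact → Coh.IsCoh S.X₁ → Coh.IsCoh S.X₂ →
      Coh.IsCoh S.X₃ → K S.X₁ → K S.X₃ → K S.X₂ :=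
    fun S hS h1 h2 h3 k1 k3 => (hex S hS h1 h2 h3).2.1 k1 k3
  obtain ⟨d, ⟨eF⟩⟩ := exists_stalk_equiv hF Z hZ y hy hk
  obtain ⟨e, ⟨eG⟩⟩ := exists_stalk_equiv hG Z hZ y hy hkG
  cases d with
  | zero =>
    apply IH' F hF hFZ
    intro hyF
    apply hyF
    exact eF.toEquiv.subsingleton
  | succ d' =>
    cases e with
    | zero =>
      exfalso
      apply hyG
      exact eG.toEquiv.subsingleton
    | succ e' =>
      obtain ⟨ePF⟩ := stalkPow1Equiv F y e'
      obtain ⟨ePG⟩ := stalkPow1Equiv G y d'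
      have hKP : K (pow1 F e') :=
        (generic_step' K hex (isCoh_pow1 hF e') (isCoh_pow1 hG d') Z
          ((support_pow1_subset hF e').trans hFZ) ((support_pow1_subset hG d').trans hGZ) y IH'
          (ePF.trans ((LinearEquiv.piCongrRight (fun _ => eF)).trans
            ((piSwap _ _ (e' + 1) (d' + 1)).trans
              ((LinearEquiv.piCongrRight (fun _ => eG.symm)).trans ePG.symm))))).mpr
          (K_pow1 K hext hG hKG d')
      cases e' with
      | zero => exact hKP
      | succ e'' =>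
        exact hsum (F ⊞ pow1 F e'') F biprod.inl biprod.fst biprod.inl_fst
          (isCoh_biprod hF (isCoh_pow1 hF e'')) hF hKP

end Steps

end CohDevH8
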