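import Mathlib
import Groth.Prelude
import Groth.Agent.Lib.CohDev5_helper8
import Groth.Agent.Lib.EquidimIrr2_helper8
import Groth.Agent.Lib.QSecC_helper8

/-!
# Dévissage of coherent modules, VI: integral closed subschemes (helper8)
APPEND-ONLY once landed.
-/

set_option autoImplicit false

namespace CohDevH8

open AlgebraicGeometry CategoryTheory CategoryTheory.Limits TopologicalSpace Opposite
open QcqsLoc QCohExtn IsLocalRing

universe u

variable {X : Scheme.{u}}

theorem isReduced_subscheme_vanishingIdeal (C : Closeds X) :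
    IsReduced (Scheme.IdealSheafData.vanishingIdeal C).subscheme := by
  rw [IsReduced.iff_of_openCover (X := (Scheme.IdealSheafData.vanishingIdeal C).subscheme)
    (Scheme.IdealSheafData.vanishingIdeal C).subschemeCover.openCover]
  intro V'
  let V : X.affineOpens := V'
  change IsReduced (Spec (.of (Γ(X, V) ⧸ (Scheme.IdealSheafData.vanishingIdeal C).ideal V)))
  rw [affine_isReduced_iff]
  apply (Ideal.isRadical_iff_quotient_reduced _).1
  rw [Scheme.IdealSheafData.vanishingIdeal_ideal]
  exact PrimeSpectrum.isRadical_vanishingIdeal _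

/-- The reduced closed subscheme on the closure of a point is integral, and its generic point
maps to that point. -/
theorem exists_isIntegral_subscheme (Z : Set X) (hZ : IsClosed Z) (y : X)
    (hy : closure {y} = Z) :
    ∃ (_ : IsIntegral (Scheme.IdealSheafData.vanishingIdeal ⟨Z, hZ⟩).subscheme),
      (Scheme.IdealSheafData.vanishingIdeal ⟨Z, hZ⟩).subschemeι
        (genericPoint (Scheme.IdealSheafData.vanishingIdeal ⟨Z, hZ⟩).subscheme) = y := by
  obtain ⟨z', hz', hgen⟩ := EquidimIrrH8.exists_generic_subscheme ⟨Z, hZ⟩ y hy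
  haveI hirr : IrreducibleSpace ↥(Scheme.IdealSheafData.vanishingIdeal ⟨Z, hZ⟩).subscheme :=
    QSecH8.irreducibleSpace_of_forall_specializes z' hgen
  haveI hred := isReduced_subscheme_vanishingIdeal (⟨Z, hZ⟩ : Closeds X)
  haveI hint : IsIntegral (Scheme.IdealSheafData.vanishingIdeal ⟨Z, hZ⟩).subscheme :=
    isIntegral_of_irreducibleSpace_of_isReduced _
  have hgp : genericPoint ↥(Scheme.IdealSheafData.vanishingIdeal ⟨Z, hZ⟩).subscheme = z' := by
    have h1 : IsGenericPoint z'
        (Set.univ : Set ↥(Scheme.IdealSheafData.vanishingIdeal ⟨Z, hZ⟩).subscheme) := by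
      apply Set.eq_univ_of_univ_subset
      intro a _
      exact (hgen a).mem_closure
    exact ((genericPoint_spec _).eq h1)
  refine ⟨hint, ?_⟩
  rw [hgp]
  exact hz'

/-- The reduced closed subscheme on the closure of a point is integral, and its generic point
maps to that point. -/
theorem exists_integral_subscheme (Z : Set X) (hZ : IsClosed Z) (y : X) (hy : closure {y} = Z) :
    ∃ (T : Scheme.{u}) (i : T ⟶ X) (_ : IsClosedImmersion i) (_ : IsIntegral T),
      Set.range i = Z ∧ i (genericPoint T) = y := by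
  obtain ⟨hint, hg⟩ := exists_isIntegral_subscheme Z hZ y hy
  exact ⟨_, (Scheme.IdealSheafData.vanishingIdeal ⟨Z, hZ⟩).subschemeι, inferInstance, hint,
    EquidimSubH8.range_vanishingIdeal_subschemeι ⟨Z, hZ⟩, hg⟩

/-- A class of modules closed under kernels of epimorphisms of coherent modules and containing a
coherent module contains the zero modules. -/
theorem K_zero_of_K [IsLocallyNoetherian X] (K : X.Modules → Prop)
    (hiso : ∀ M N : X.Modules, Nonempty (M ≅ N) → K M → K N)
    (hker : ∀ S : ShortComplex X.Modules, S.ShortExact → Coh.IsCoh S.X₁ → Coh.IsCoh S.X₂ →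
      Coh.IsCoh S.X₃ → K S.X₂ → K S.X₃ → K S.X₁)
    {G : X.Modules} (hG : Coh.IsCoh G) (hKG : K G) (M : X.Modules) (hM : IsZero M) : K M := by
  let S : ShortComplex X.Modules := ShortComplex.mk (kernel.ι (𝟙 G)) (𝟙 G) (kernel.condition _)
  have hS : S.ShortExact := ShortComplex.ShortExact.mk' (ShortComplex.exact_kernel _)
    (inferInstanceAs (Mono (kernel.ι (𝟙 G)))) (inferInstanceAs (Epi (𝟙 G)))
  have h1 : Coh.IsCoh (kernel (𝟙 G)) := CohKerH8.isCoh_kernel hG hG (𝟙 G)
  have hK1 : K (kernel (𝟙 G)) := hker S hS h1 hG hG hKG hKG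
  have hz : IsZero (kernel (𝟙 G)) := isZero_kernel_of_mono (𝟙 G)
  exact hiso _ _ ⟨hz.iso hM⟩ hK1

end CohDevH8
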