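import Mathlib
import Groth.Prelude
import Groth.Agent.Lib.CohDev6_helper8

/-!
# Dévissage of coherent modules, VII: the quotient `F/JF` and Serre classes (helper8)
APPEND-ONLY once landed.
-/

set_option autoImplicit false

namespace CohDevH8

open AlgebraicGeometry CategoryTheory CategoryTheory.Limits TopologicalSpace Opposite
open QcqsLoc QCohExtn IsLocalRing

universe u

variable {X : Scheme.{u}}

section QuotJ

/-- `F / J F`, realised as `i_* i^* F` for `i` the closed immersion of `V(J)`. -/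
noncomputable def quotJ (J : X.IdealSheafData) (F : X.Modules) : X.Modules :=
  (Scheme.Modules.pushforward J.subschemeι).obj ((Scheme.Modules.pullback J.subschemeι).obj F)

/-- The projection `F → F / J F`. -/
noncomputable def quotJπ (J : X.IdealSheafData) (F : X.Modules) : F ⟶ quotJ J F :=
  (Scheme.Modules.pullbackPushforwardAdjunction J.subschemeι).unit.app F

variable (J : X.IdealSheafData) (F : X.Modules)

theorem isCoh_quotJ [IsLocallyNoetherian X] (hF : Coh.IsCoh F) : Coh.IsCoh (quotJ J F) := by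
  haveI := hF.1
  haveI := hF.2
  haveI hq2 : ((Scheme.Modules.pullback J.subschemeι).obj F).IsQuasicoherent := inferInstance
  haveI hf2 : SheafOfModules.IsFiniteType (R := J.subscheme.ringCatSheaf)
      ((Scheme.Modules.pullback J.subschemeι).obj F) := FpqcH8.isFiniteType_pullback J.subschemeι F
  exact ⟨QCohCrit.isQuasicoherent_pushforward J.subschemeι _,
    QCohCrit.isFiniteType_pushforward J.subschemeι _⟩

theorem epi_quotJπ [F.IsQuasicoherent] : Epi (quotJπ J F) :=
  GlobGen.epi_of_surjective_on_basis _ X.affineOpens X.isBasis_affineOpens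
    (fun V hV => NilAffH8.unit_app_surjective J.subschemeι F hV)

theorem killed_quotJ : ClSub.KilledByIdeal J (quotJ J F) :=
  killedByIdeal_pushforward J _

/-- Points of `Supp F ∩ V(J)` are in the support of `F / J F`. -/
theorem mem_support_quotJ [IsLocallyNoetherian X] (hF : Coh.IsCoh F) {y : X}
    (hyF : y ∈ CohB1.support F) (hyJ : y ∈ J.support) : y ∈ CohB1.support (quotJ J F) := by
  haveI := hF.1
  haveI := hF.2
  have hQ := isCoh_quotJ J F hF
  haveI := hQ.1
  have hytop : y ∈ (⊤ : X.Opens) := trivial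
  obtain ⟨U, hU', hyU, -⟩ := (Opens.isBasis_iff_nbhd.mp X.isBasis_affineOpens) hytop
  have hU : IsAffineOpen U := hU'
  haveI : Module.Finite Γ(X, U) Γ(F, U) := QCohFT.finite_of_isFiniteType F hU
  rw [← AnnSh2H8.mem_support_iff F hU hyU] at hyF
  rw [← AnnSh2H8.mem_support_iff (quotJ J F) hU hyU]
  set p := hU.primeIdealOf ⟨y, hyU⟩ with hp
  have hJp : p ∈ PrimeSpectrum.zeroLocus (J.ideal ⟨U, hU⟩ : Set Γ(X, U)) := by
    rw [PrimeSpectrum.mem_zeroLocus]
    intro a ha
    rw [Scheme.IdealSheafData.mem_support_iff_of_mem (I := J) (U := ⟨U, hU⟩) hyU,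
      Scheme.mem_zeroLocus_iff] at hyJ
    have h1 := hyJ a ha
    rw [AnnShH8.mem_basicOpen_iff hU hyU a, not_not] at h1
    exact h1
  have hquot : p ∈ Module.support Γ(X, U)
      (Γ(F, U) ⧸ (J.ideal ⟨U, hU⟩ • (⊤ : Submodule Γ(X, U) Γ(F, U)))) := by
    rw [Module.support_quotient]
    exact ⟨hyF, hJp⟩
  set f : Γ(F, U) →ₗ[Γ(X, U)] Γ(quotJ J F, U) := RelFPAff.appₗ (quotJπ J F) U with hf
  have hfs : Function.Surjective f := NilAffH8.unit_app_surjective J.subschemeι F hU
  have hker : LinearMap.ker f ≤ J.ideal ⟨U, hU⟩ • (⊤ : Submodule Γ(X, U) Γ(F, U)) := by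
    intro m hm
    have h1 := NilAffH8.unit_app_ker J.subschemeι F hU m hm
    rwa [Scheme.IdealSheafData.ker_subschemeι] at h1
  let g : Γ(quotJ J F, U) →ₗ[Γ(X, U)]
      (Γ(F, U) ⧸ (J.ideal ⟨U, hU⟩ • (⊤ : Submodule Γ(X, U) Γ(F, U)))) :=
    (Submodule.factor hker).comp (f.quotKerEquivOfSurjective hfs).symm.toLinearMap
  have hg : Function.Surjective g :=
    (Submodule.factor_surjective hker).comp (f.quotKerEquivOfSurjective hfs).symm.surjective
  exact Module.support_subset_of_surjective g hg hquot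

end QuotJ

section Serre

variable [IsNoetherian X] (P : X.Modules → Prop)
  (hP : ∀ S : ShortComplex X.Modules, S.ShortExact → Coh.IsCoh S.X₁ → Coh.IsCoh S.X₂ →
    Coh.IsCoh S.X₃ → (P S.X₂ ↔ P S.X₁ ∧ P S.X₃))

include hP in
/-- A Serre class is closed under quotients of coherent modules. -/
theorem serre_of_epi {M N : X.Modules} (hM : Coh.IsCoh M) (hN : Coh.IsCoh N) (r : M ⟶ N) [Epi r]
    (h : P M) : P N := by
  let S : ShortComplex X.Modules := ShortComplex.mk (kernel.ι r) r (kernel.condition _)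
  have hS : S.ShortExact := ShortComplex.ShortExact.mk' (ShortComplex.exact_kernel _)
    (inferInstanceAs (Mono (kernel.ι r))) (inferInstanceAs (Epi r))
  have h1 : Coh.IsCoh (kernel r) := CohKerH8.isCoh_kernel hM hN r
  exact ((hP S hS h1 hM hN).mp h).2

include hP in
/-- A Serre class is closed under coherent subobjects (kernels of epimorphisms). -/
theorem serre_of_kernel {M N : X.Modules} (hM : Coh.IsCoh M) (hN : Coh.IsCoh N) (r : M ⟶ N)
    [Epi r] (h : P M) : P (kernel r) := by
  let S : ShortComplex X.Modules := ShortComplex.mk (kernel.ι r) r (kernel.condition _)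
  have hS : S.ShortExact := ShortComplex.ShortExact.mk' (ShortComplex.exact_kernel _)
    (inferInstanceAs (Mono (kernel.ι r))) (inferInstanceAs (Epi r))
  have h1 : Coh.IsCoh (kernel r) := CohKerH8.isCoh_kernel hM hN r
  exact ((hP S hS h1 hM hN).mp h).1

include hP in
/-- **Serre classes are determined by supports.** On a Noetherian scheme, a class of modules
which is a Serre class on coherent modules and contains the coherent module `F` contains every
coherent module whose support is contained in that of `F`. -/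
theorem serre_class {F : X.Modules} (hF : Coh.IsCoh F) (hPF : P F) {E : X.Modules}
    (hE : Coh.IsCoh E) (hsupp : CohB1.support E ⊆ CohB1.support F) : P E := by
  haveI := hF.1
  haveI := hF.2
  let K : X.Modules → Prop := fun M => Coh.IsCoh M → P M
  have hiso : ∀ M N : X.Modules, Nonempty (M ≅ N) → K M → K N := by
    rintro M N ⟨e⟩ hK hN
    haveI := hN.1
    haveI hMq : M.IsQuasicoherent := CohOpenH8.isQuasicoherent_of_iso e
    have hM : Coh.IsCoh M := ⟨hMq, CohOpenH8.isFiniteType_of_iso e hN.2⟩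
    exact serre_of_epi P hP hM hN e.hom (hK hM)
  have hex : ∀ S : ShortComplex X.Modules, S.ShortExact → Coh.IsCoh S.X₁ → Coh.IsCoh S.X₂ →
      Coh.IsCoh S.X₃ → (K S.X₁ → K S.X₂ → K S.X₃) ∧ (K S.X₁ → K S.X₃ → K S.X₂) ∧
        (K S.X₂ → K S.X₃ → K S.X₁) := by
    intro S hS h1 h2 h3
    have h := hP S hS h1 h2 h3
    exact ⟨fun _ k2 _ => (h.mp (k2 h2)).2, fun k1 k3 _ => h.mpr ⟨k1 h1, k3 h3⟩,
      fun k2 _ _ => (h.mp (k2 h2)).1⟩
  have hext : ∀ S : ShortComplex X.Modules, S.ShortExact → Coh.IsCoh S.X₁ → Coh.IsCoh S.X₂ →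
      Coh.IsCoh S.X₃ → K S.X₁ → K S.X₃ → K S.X₂ :=
    fun S hS h1 h2 h3 k1 k3 => (hex S hS h1 h2 h3).2.1 k1 k3
  have hker : ∀ S : ShortComplex X.Modules, S.ShortExact → Coh.IsCoh S.X₁ → Coh.IsCoh S.X₂ →
      Coh.IsCoh S.X₃ → K S.X₂ → K S.X₃ → K S.X₁ :=
    fun S hS h1 h2 h3 k2 k3 => (hex S hS h1 h2 h3).2.2 k2 k3
  have hKF : K F := fun _ => hPF
  have h0 : ∀ M : X.Modules, IsZero M → K M := K_zero_of_K K hiso hker hF hKF
  have hsum : ∀ (M N : X.Modules) (i : N ⟶ M) (r : M ⟶ N), i ≫ r = 𝟙 N → Coh.IsCoh M →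
      Coh.IsCoh N → K M → K N := by
    intro M N i r hir hM hN hKM _
    haveI : IsSplitEpi r := ⟨⟨⟨i, hir⟩⟩⟩
    exact serre_of_epi P hP hM hN r (hKM hM)
  have hstep : ∀ (Z : Set X) (hZ : IsClosed Z), IsIrreducible Z → Z ⊆ CohB1.support F →
      (∀ M : X.Modules, Coh.IsCoh M → CohB1.support M ⊆ Z → CohB1.support M ≠ Z → K M) →
      ∀ F' : X.Modules, Coh.IsCoh F' →
        ClSub.KilledByIdeal (Scheme.IdealSheafData.vanishingIdeal ⟨Z, hZ⟩) F' → K F' := by
    intro Z hZ hZirr hZF IH F' hF' hk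
    have hy : closure {hZirr.genericPoint} = Z := hZirr.closure_genericPoint hZ
    have hyZ : hZirr.genericPoint ∈ Z :=
      hy.subset (subset_closure (Set.mem_singleton hZirr.genericPoint))
    have hG := isCoh_quotJ (Scheme.IdealSheafData.vanishingIdeal ⟨Z, hZ⟩) F hF
    haveI := epi_quotJπ (Scheme.IdealSheafData.vanishingIdeal ⟨Z, hZ⟩) F
    have hKG : K (quotJ (Scheme.IdealSheafData.vanishingIdeal ⟨Z, hZ⟩) F) :=
      fun _ => serre_of_epi P hP hF hG (quotJπ _ F) hPF
    have hyJ : hZirr.genericPoint ∈ (Scheme.IdealSheafData.vanishingIdeal ⟨Z, hZ⟩).support := by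
      have h1 : hZirr.genericPoint ∈
          ((Scheme.IdealSheafData.vanishingIdeal ⟨Z, hZ⟩).support : Set X) := by
        rw [Scheme.IdealSheafData.coe_support_vanishingIdeal]
        exact hyZ
      exact h1
    exact step_of_retract K hex hsum Z hZ _ hy IH hG hKG (killed_quotJ _ F)
      (mem_support_quotJ _ F hF (hZF hyZ) hyJ) F' hF' hk
  exact induction_on_support K hiso h0 hext (CohB1.support F) hstep E hE hsupp hE

end Serre

end CohDevH8
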