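import Mathlib
import Groth.Prelude
import Groth.Agent.Lib.CohDev7_helper8
import Groth.Agent.Lib.SerreCrit1_helper9

/-!
# Dévissage of coherent modules, VIII: coherent modules with prescribed support, Serre classes
(helper8)
APPEND-ONLY once landed.
-/

set_option autoImplicit false

namespace CohDevH8

open AlgebraicGeometry CategoryTheory CategoryTheory.Limits TopologicalSpace Opposite
open QcqsLoc QCohExtn IsLocalRing

universe u

variable {X : Scheme.{u}}

section OO

/-- Sections of the structure module are functions. -/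
noncomputable def sectionsOOEquiv (U : X.Opens) :
    Γ(X, U) ≃ₗ[Γ(X, U)] Γ(Coh.structureModule X, U) where
  toFun a := SerreCrit.ofFn a
  invFun s := SerreCrit.toFn s
  map_add' _ _ := rfl
  map_smul' _ _ := rfl
  left_inv _ := rfl
  right_inv _ := rfl

theorem isCoh_structureModule (X : Scheme.{u}) : Coh.IsCoh (Coh.structureModule X) := by
  haveI : (Coh.structureModule X).IsQuasicoherent := SerreCrit.isQuasicoherent_OO
  refine ⟨inferInstance, ?_⟩
  refine QCohCrit.isFiniteType_of_sections_cover (Coh.structureModule X)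
    (fun U : X.affineOpens => (U : X.Opens)) (fun U => U.2) (iSup_affineOpens_eq_top X)
    (fun U => ?_)
  exact Module.Finite.equiv (sectionsOOEquiv U.1)

theorem support_structureModule (X : Scheme.{u}) :
    CohB1.support (Coh.structureModule X) = Set.univ := by
  haveI : (Coh.structureModule X).IsQuasicoherent := SerreCrit.isQuasicoherent_OO
  rw [Set.eq_univ_iff_forall]
  intro y
  have hytop : y ∈ (⊤ : X.Opens) := trivial
  obtain ⟨U, hU', hyU, -⟩ := (Opens.isBasis_iff_nbhd.mp X.isBasis_affineOpens) hytop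
  have hU : IsAffineOpen U := hU'
  rw [← AnnSh2H8.mem_support_iff (Coh.structureModule X) hU hyU,
    ← (sectionsOOEquiv U).support_eq, Module.support_of_algebra, PrimeSpectrum.mem_zeroLocus]
  intro a ha
  have h1 : a = 0 := ha
  rw [h1]
  exact Ideal.zero_mem _

/-- On a locally Noetherian scheme, every closed subset is the support of a coherent module. -/
theorem exists_isCoh_support_eq [IsLocallyNoetherian X] (Z : Closeds X) :
    ∃ F : X.Modules, Coh.IsCoh F ∧ CohB1.support F = (Z : Set X) := by
  have hO := isCoh_structureModule X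
  have hQ := isCoh_quotJ (Scheme.IdealSheafData.vanishingIdeal Z) _ hO
  haveI := hQ.1
  haveI := hQ.2
  refine ⟨quotJ (Scheme.IdealSheafData.vanishingIdeal Z) (Coh.structureModule X), hQ, ?_⟩
  apply Set.Subset.antisymm
  · have h1 := support_subset_of_killed _ _
      (killed_quotJ (Scheme.IdealSheafData.vanishingIdeal Z) (Coh.structureModule X))
    rwa [Scheme.IdealSheafData.coe_support_vanishingIdeal] at h1
  · intro y hy
    refine mem_support_quotJ _ _ hO ?_ ?_
    · rw [support_structureModule]
      trivial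
    · have h1 : y ∈ ((Scheme.IdealSheafData.vanishingIdeal Z).support : Set X) := by
        rw [Scheme.IdealSheafData.coe_support_vanishingIdeal]
        exact hy
      exact h1

end OO

section Serre

variable [IsLocallyNoetherian X] (P : X.Modules → Prop)
  (hP : ∀ S : ShortComplex X.Modules, S.ShortExact → Coh.IsCoh S.X₁ → Coh.IsCoh S.X₂ →
    Coh.IsCoh S.X₃ → (P S.X₂ ↔ P S.X₁ ∧ P S.X₃))

theorem isCoh_of_iso {M N : X.Modules} (e : M ≅ N) (hN : Coh.IsCoh N) : Coh.IsCoh M := by
  haveI := hN.1
  haveI hMq : M.IsQuasicoherent := CohOpenH8.isQuasicoherent_of_iso e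
  exact ⟨hMq, CohOpenH8.isFiniteType_of_iso e hN.2⟩

end Serre

section Serre2

variable [IsNoetherian X] (P : X.Modules → Prop)
  (hP : ∀ S : ShortComplex X.Modules, S.ShortExact → Coh.IsCoh S.X₁ → Coh.IsCoh S.X₂ →
    Coh.IsCoh S.X₃ → (P S.X₂ ↔ P S.X₁ ∧ P S.X₃))

include hP in
/-- A Serre class is closed under isomorphisms of coherent modules. -/
theorem serre_of_iso {M N : X.Modules} (e : M ≅ N) (hN : Coh.IsCoh N) (h : P M) : P N :=
  serre_of_epi P hP (isCoh_of_iso e hN) hN e.hom h

/-- "Support contained in `Z`" is a Serre class on quasi-coherent modules. -/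
theorem serre_support (Z : Set X) (S : ShortComplex X.Modules) (hS : S.ShortExact)
    (_ : Coh.IsCoh S.X₁) (h2 : Coh.IsCoh S.X₂) (h3 : Coh.IsCoh S.X₃) :
    (CohB1.support S.X₂ ⊆ Z ↔ CohB1.support S.X₁ ⊆ Z ∧ CohB1.support S.X₃ ⊆ Z) := by
  haveI := h2.1
  haveI := h3.1
  rw [SupportCoh.support_shortExact S hS, Set.union_subset_iff]

include hP in
/-- If a coherent module `M` is supported in `z₁ ∪ z₂` (closed subsets) and a Serre class contains
all coherent modules supported in `supp M ∩ z₁` and all those supported in `supp M ∩ z₂`, then it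
contains `M`. -/
theorem serre_of_union {M : X.Modules} (hM : Coh.IsCoh M) (z₁ z₂ : Set X) (hz₁ : IsClosed z₁)
    (hz₂ : IsClosed z₂) (hsub : CohB1.support M ⊆ z₁ ∪ z₂)
    (q1 : ∀ N : X.Modules, Coh.IsCoh N → CohB1.support N ⊆ CohB1.support M ∩ z₁ → P N)
    (q2 : ∀ N : X.Modules, Coh.IsCoh N → CohB1.support N ⊆ CohB1.support M ∩ z₂ → P N) : P M := by
  haveI := hM.1
  haveI := hM.2
  have hcl : IsClosed (CohB1.support M) := SupportCoh.isClosed_support M
  have hunion : CohB1.support M = (CohB1.support M ∩ z₁) ∪ (CohB1.support M ∩ z₂) := by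
    rw [← Set.inter_union_distrib_left]
    exact (Set.inter_eq_left.mpr hsub).symm
  obtain ⟨S, hS, ⟨e⟩, c1, c3, s1, s3⟩ := exists_shortExact_of_support_eq_union M hM _ _
    (hcl.inter hz₁) (hcl.inter hz₂) hunion
  have c2 := isCoh_of_iso e hM
  have h2 : P S.X₂ := (hP S hS c1 c2 c3).mpr ⟨q2 _ c1 s1, q1 _ c3 s3⟩
  exact serre_of_iso P hP e hM h2

end Serre2

end CohDevH8
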