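import Mathlib
import Groth.Prelude
import Groth.Agent.Lib.CohDev8_helper8
import Groth.Agent.Lib.EpiLoc_helper9
import Groth.Agent.Lib.PB9_helper8

/-!
# Dévissage of coherent modules, IX: the structure sheaf of an integral closed subscheme has
rank one at the generic point (helper8)
APPEND-ONLY once landed.
-/

set_option autoImplicit false

namespace CohDevH8

open AlgebraicGeometry CategoryTheory CategoryTheory.Limits TopologicalSpace Opposite
open QcqsLoc QCohExtn IsLocalRing

universe u

section Alg

/-- A nontrivial cyclic module over a local ring killed by the maximal ideal is the residue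
field. -/
theorem nonempty_linearEquiv_residueField_of_cyclic (R : Type u) [CommRing R] [IsLocalRing R]
    (V : Type u) [AddCommGroup V] [Module R V] [Nontrivial V] (g : V)
    (hg : ∀ z : V, ∃ r : R, z = r • g)
    (h : ∀ a ∈ maximalIdeal R, ∀ v : V, a • v = 0) :
    Nonempty (V ≃ₗ[R] ResidueField R) := by
  let f : R →ₗ[R] V := LinearMap.toSpanSingleton R V g
  have hf : Function.Surjective f := by
    intro z
    obtain ⟨r, hr⟩ := hg z
    exact ⟨r, hr.symm⟩
  have hker : LinearMap.ker f = maximalIdeal R := by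
    apply le_antisymm
    · apply IsLocalRing.le_maximalIdeal
      intro htop
      have h1 : (1 : R) ∈ LinearMap.ker f := by
        rw [htop]
        trivial
      have h2 : g = 0 := by
        have h3 : f 1 = 0 := h1
        simpa [f] using h3
      obtain ⟨v, hv⟩ := exists_ne (0 : V)
      obtain ⟨r, hr⟩ := hg v
      rw [h2, smul_zero] at hr
      exact hv hr
    · intro a ha
      exact h a ha g
  exact ⟨(f.quotKerEquivOfSurjective hf).symm.trans (Submodule.quotEquivOfEq _ _ hker)⟩

end Alg

variable {X : Scheme.{u}}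

section Cyclic

/-- The stalk of the structure module is cyclic, generated by the germ of `1`. -/
theorem stalk_structureModule_cyclic (y : X) :
    ∃ g : (Coh.structureModule X).presheaf.stalk y,
      ∀ z : (Coh.structureModule X).presheaf.stalk y, ∃ r : X.presheaf.stalk y, z = r • g := by
  refine ⟨(Coh.structureModule X).presheaf.germ ⊤ y trivial (SerreCrit.ofFn 1), ?_⟩
  intro z
  obtain ⟨U, hyU, s, rfl⟩ := (Coh.structureModule X).presheaf.exists_germ_eq (x := y) z
  refine ⟨X.presheaf.germ U y hyU (SerreCrit.toFn s), ?_⟩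
  have h1 : (Coh.structureModule X).presheaf.map (homOfLE (le_top : U ≤ ⊤)).op
      (SerreCrit.ofFn (1 : Γ(X, ⊤))) = SerreCrit.ofFn (1 : Γ(X, U)) := by
    have := SerreCrit.rF_eq (X := X) (le_top : U ≤ ⊤) (SerreCrit.ofFn (1 : Γ(X, ⊤)))
    rw [show SerreCrit.toFn (SerreCrit.ofFn (1 : Γ(X, ⊤))) = 1 from rfl, map_one] at this
    exact this
  have h2 := (Coh.structureModule X).presheaf.germ_res_apply (homOfLE (le_top : U ≤ ⊤)) y hyU
    (SerreCrit.ofFn (1 : Γ(X, ⊤)))
  rw [← h2, h1, ← Groth.Agent.Lib.QCohLoc_helper4.germ_smul]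
  congr 1
  have h3 := SerreCrit.smul_eq (X := X) (SerreCrit.toFn s) (SerreCrit.ofFn (1 : Γ(X, U)))
  rw [show SerreCrit.toFn (SerreCrit.ofFn (1 : Γ(X, U))) = 1 from rfl, mul_one] at h3
  exact h3.symm

/-- The structure sheaf of the reduced closed subscheme `Z = closure {y}`, as an `O_X`-module,
has stalk the residue field at `y`. -/
theorem nonempty_stalk_quotJ_equiv [IsLocallyNoetherian X] (Z : Set X) (hZ : IsClosed Z) (y : X)
    (hy : closure {y} = Z) :
    Nonempty ((quotJ (Scheme.IdealSheafData.vanishingIdeal ⟨Z, hZ⟩)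
      (Coh.structureModule X)).presheaf.stalk y ≃ₗ[X.presheaf.stalk y]
        ResidueField (X.presheaf.stalk y)) := by
  have hO := isCoh_structureModule X
  haveI := hO.1
  have hQ := isCoh_quotJ (Scheme.IdealSheafData.vanishingIdeal ⟨Z, hZ⟩) _ hO
  haveI := hQ.1
  haveI := epi_quotJπ (Scheme.IdealSheafData.vanishingIdeal ⟨Z, hZ⟩) (Coh.structureModule X)
  obtain ⟨g, hg⟩ := stalk_structureModule_cyclic (X := X) y
  have surj := EpiLoc.stalk_surjective_of_epi
    (quotJπ (Scheme.IdealSheafData.vanishingIdeal ⟨Z, hZ⟩) (Coh.structureModule X)) y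
  have hyZ : y ∈ Z := hy.subset (subset_closure (Set.mem_singleton y))
  have hyJ : y ∈ (Scheme.IdealSheafData.vanishingIdeal ⟨Z, hZ⟩).support := by
    have h1 : y ∈ ((Scheme.IdealSheafData.vanishingIdeal ⟨Z, hZ⟩).support : Set X) := by
      rw [Scheme.IdealSheafData.coe_support_vanishingIdeal]
      exact hyZ
    exact h1
  have hys : y ∈ CohB1.support (quotJ (Scheme.IdealSheafData.vanishingIdeal ⟨Z, hZ⟩)
      (Coh.structureModule X)) := by
    refine mem_support_quotJ _ _ hO ?_ hyJ
    rw [support_structureModule]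
    trivial
  haveI : Nontrivial ((quotJ (Scheme.IdealSheafData.vanishingIdeal ⟨Z, hZ⟩)
      (Coh.structureModule X)).presheaf.stalk y) := not_subsingleton_iff_nontrivial.mp hys
  refine nonempty_linearEquiv_residueField_of_cyclic _ _
    (Algz.stalkMapₗ (quotJπ (Scheme.IdealSheafData.vanishingIdeal ⟨Z, hZ⟩)
      (Coh.structureModule X)) y g) ?_
    (stalk_killed_of_killed _ Z hZ y hy (killed_quotJ _ _))
  intro z
  obtain ⟨w, hw⟩ := surj z
  obtain ⟨r, hr⟩ := hg w
  refine ⟨r, ?_⟩
  rw [← map_smul, ← hr]
  exact hw.symm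

/-- `O_X / J` is the direct image of the structure sheaf of `V(J)`. -/
noncomputable def quotJStructureIso (J : X.IdealSheafData) :
    quotJ J (Coh.structureModule X) ≅
      (Scheme.Modules.pushforward J.subschemeι).obj (Coh.structureModule J.subscheme) :=
  (Scheme.Modules.pushforward J.subschemeι).mapIso (PBH8.pullbackUnitIso J.subschemeι)

theorem support_eq_of_iso {M N : X.Modules} (e : M ≅ N) : CohB1.support M = CohB1.support N :=
  Set.Subset.antisymm (support_subset_of_mono e.hom) (support_subset_of_mono e.inv)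

end Cyclic

end CohDevH8
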