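import Mathlib
import Groth.Prelude
import Groth.Agent.Lib.CohDev9_helper8

/-!
# Dévissage of coherent modules, X: the submodule `J·F` and the Artin–Rees trick (helper8)
APPEND-ONLY once landed.
-/

set_option autoImplicit false

namespace CohDevH8

open AlgebraicGeometry CategoryTheory CategoryTheory.Limits TopologicalSpace Opposite
open QcqsLoc QCohExtn IsLocalRing

universe u

section Alg

/-- Artin–Rees: if `I ^ m` kills the submodule `N` of the finite module `M` over a Noetherian ring,
then `I ^ n M ∩ N = 0` for all large `n`. -/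
theorem exists_pow_smul_top_inf_eq_bot {R M : Type*} [CommRing R] [IsNoetherianRing R]
    [AddCommGroup M] [Module R M] [Module.Finite R M] (I : Ideal R) (N : Submodule R M) (m : ℕ)
    (hm : ∀ a ∈ I ^ m, ∀ x ∈ N, a • x = 0) :
    ∃ k : ℕ, ∀ n ≥ k + m, (I ^ n • (⊤ : Submodule R M)) ⊓ N = ⊥ := by
  obtain ⟨k, hk⟩ := Ideal.exists_pow_inf_eq_pow_smul I N
  refine ⟨k, fun n hn => ?_⟩
  rw [hk n (by omega), eq_bot_iff]
  calc I ^ (n - k) • (I ^ k • ⊤ ⊓ N) ≤ I ^ m • N :=
        Submodule.smul_mono (Ideal.pow_le_pow_right (by omega)) inf_le_right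
    _ ≤ ⊥ := by
        rw [Submodule.smul_le]
        intro a ha x hx
        rw [hm a ha x hx]
        exact zero_mem _

end Alg

variable {X : Scheme.{u}}

section IdealMul

variable (J : X.IdealSheafData) (F : X.Modules)

theorem idealMul_obj_eq : (Dual3.idealMul J).obj F = kernel (quotJπ J F) := rfl

theorem isCoh_idealMul [IsLocallyNoetherian X] (hF : Coh.IsCoh F) :
    Coh.IsCoh ((Dual3.idealMul J).obj F) :=
  CohKerH8.isCoh_kernel hF (isCoh_quotJ J F hF) (quotJπ J F)

/-- Sections of `J·F` over an affine open lie in `J(U)·F(U)`. -/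
theorem idealMulι_app_mem [F.IsQuasicoherent] {U : X.Opens} (hU : IsAffineOpen U)
    (s : Γ((Dual3.idealMul J).obj F, U)) :
    ap (Dual3.idealMulι J F) U s ∈
      (J.ideal ⟨U, hU⟩ • (⊤ : Submodule Γ(X, U) Γ(F, U))) := by
  have hcond : ap (quotJπ J F) U (ap (kernel.ι (quotJπ J F)) U s) = 0 := by
    have := congrArg (fun φ => ap φ U s) (kernel.condition (quotJπ J F))
    exact this
  have hmem := NilAffH8.unit_app_ker J.subschemeι F hU _ hcond
  rw [Scheme.IdealSheafData.ker_subschemeι] at hmem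
  exact hmem

/-- Elements of `J(U)·F(U)` are sections of `J·F`. -/
theorem exists_idealMulι_app_eq {U : X.Opens} (hU : IsAffineOpen U) (m : Γ(F, U))
    (hm : m ∈ (J.ideal ⟨U, hU⟩ • (⊤ : Submodule Γ(X, U) Γ(F, U)))) :
    ∃ s : Γ((Dual3.idealMul J).obj F, U), ap (Dual3.idealMulι J F) U s = m := by
  have h0 : ap (quotJπ J F) U m = 0 := by
    refine Submodule.smul_induction_on hm ?_ ?_
    · intro r hr x _
      have h1 : ap (quotJπ J F) U (r • x) = r • ap (quotJπ J F) U x := ap_smul _ r x
      rw [h1]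
      exact killed_quotJ J F ⟨U, hU⟩ r hr _
    · intro x y hx hy
      rw [map_add, hx, hy, add_zero]
  let S : ShortComplex X.Modules :=
    ShortComplex.mk (kernel.ι (quotJπ J F)) (quotJπ J F) (kernel.condition _)
  haveI : Mono S.f := inferInstanceAs (Mono (kernel.ι (quotJπ J F)))
  exact QCohExact.app_exact S (ShortComplex.exact_kernel _) U m h0

/-- Over an affine open on which `J` is the unit ideal, `J·F → F` is bijective on sections. -/
theorem idealMulι_app_bijective {U : X.Opens} (hU : IsAffineOpen U) (hJ : J.ideal ⟨U, hU⟩ = ⊤) :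
    Function.Bijective (ap (Dual3.idealMulι J F) U) := by
  refine ⟨QCohExact.app_injective_of_mono (Dual3.idealMulι J F) U, fun m => ?_⟩
  refine exists_idealMulι_app_eq J F hU m ?_
  rw [hJ, Submodule.top_smul]
  trivial

end IdealMul

section AR

variable [IsNoetherian X]

/-- A coherent module supported in `V(J)` is killed by a power of `J`. -/
theorem exists_pow_le_annIdeal (N : X.Modules) [N.IsQuasicoherent]
    [SheafOfModules.IsFiniteType (R := X.ringCatSheaf) N] (J : X.IdealSheafData)
    (hsupp : CohB1.support N ⊆ (J.support : Set X)) :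
    ∃ m : ℕ, J ^ m ≤ AnnShH8.annIdeal N := by
  obtain ⟨n, hn⟩ := exists_radical_pow_le X (AnnShH8.annIdeal N)
  refine ⟨n, ?_⟩
  have hle : (AnnShH8.annIdeal N).support ≤ J.support := by
    intro x hx
    apply hsupp
    rw [← AnnShH8.support_annIdeal N]
    exact hx
  have hrad : J ≤ (AnnShH8.annIdeal N).radical := by
    rw [← Scheme.IdealSheafData.vanishingIdeal_support]
    exact Scheme.IdealSheafData.le_support_iff_le_vanishingIdeal.mp hle
  intro U
  show J.ideal U ^ n ≤ (AnnShH8.annIdeal N).ideal U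
  calc J.ideal U ^ n ≤ (AnnShH8.annIdeal N).radical.ideal U ^ n :=
        Ideal.pow_right_mono (hrad U) n
    _ ≤ (AnnShH8.annIdeal N).ideal U := hn U

/-- **Artin–Rees trick.** If the kernel of a morphism `p : H → F` of coherent modules on a
Noetherian scheme is supported in `V(J)`, then `J ^ n · H → H → F` is a monomorphism for all
large `n`. -/
theorem exists_mono_idealMul_pow {H F : X.Modules} (hH : Coh.IsCoh H) (hF : Coh.IsCoh F)
    (p : H ⟶ F) (J : X.IdealSheafData)
    (hsupp : CohB1.support (kernel p) ⊆ (J.support : Set X)) :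
    ∃ n0 : ℕ, ∀ n ≥ n0, Mono (Dual3.idealMulι (J ^ n) H ≫ p) := by
  classical
  haveI := hH.1
  haveI := hH.2
  haveI := hF.1
  have hN : Coh.IsCoh (kernel p) := CohKerH8.isCoh_kernel hH hF p
  haveI := hN.1
  haveI := hN.2
  obtain ⟨m, hm⟩ := exists_pow_le_annIdeal (kernel p) J hsupp
  obtain ⟨s, hs, e⟩ := isCompact_iff_finite_and_eq_biUnion_affineOpens.mp
    (show IsCompact (X := X) ((⊤ : X.Opens) : Set X) from isCompact_univ)
  have h1 : ∀ V : X.affineOpens, ∃ k : ℕ, ∀ n ≥ k + m,
      (J.ideal V ^ n • (⊤ : Submodule Γ(X, V.1) Γ(H, V.1))) ⊓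
        LinearMap.ker (RelFPAff.appₗ p V.1) = ⊥ := by
    intro V
    haveI := IsLocallyNoetherian.component_noetherian V
    haveI : Module.Finite Γ(X, V.1) Γ(H, V.1) := QCohFT.finite_of_isFiniteType H V.2
    refine exists_pow_smul_top_inf_eq_bot (J.ideal V) _ m ?_
    intro a ha x hx
    let S : ShortComplex X.Modules := ShortComplex.mk (kernel.ι p) p (kernel.condition _)
    haveI : Mono S.f := inferInstanceAs (Mono (kernel.ι p))
    obtain ⟨t, ht⟩ := QCohExact.app_exact S (ShortComplex.exact_kernel _) V.1 x hx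
    have h2 : a ∈ (AnnShH8.annIdeal (kernel p)).ideal V := hm V ha
    rw [AnnShH8.annIdeal_ideal, Module.mem_annihilator] at h2
    have h3 : ap (kernel.ι p) V.1 (a • t) = a • ap (kernel.ι p) V.1 t := ap_smul _ a t
    have ht' : ap (kernel.ι p) V.1 t = x := ht
    rw [← ht', ← h3, h2 t, map_zero]
  choose k hk using h1
  refine ⟨hs.toFinset.sup k + m, fun n hn => ?_⟩
  have hJH := isCoh_idealMul (J ^ n) H hH
  have hK : Coh.IsCoh (kernel (Dual3.idealMulι (J ^ n) H ≫ p)) :=
    CohKerH8.isCoh_kernel hJH hF _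
  haveI := hK.1
  have hzero : IsZero (kernel (Dual3.idealMulι (J ^ n) H ≫ p)) := by
    apply isZero_of_support_eq_empty
    rw [Set.eq_empty_iff_forall_notMem]
    intro x
    have hx : x ∈ (⊤ : X.Opens) := trivial
    rw [e] at hx
    obtain ⟨V, hVs, hxV⟩ : ∃ V : X.affineOpens, V ∈ s ∧ x ∈ V.1 := by
      simp only [Opens.mem_iSup] at hx
      obtain ⟨V, hVs, hxV⟩ := hx
      exact ⟨V, hVs, hxV⟩
    refine notMem_support_of_subsingleton _ V.2 hxV ⟨fun a b => ?_⟩
    have key : ∀ t : Γ(kernel (Dual3.idealMulι (J ^ n) H ≫ p), V.1), t = 0 := by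
      intro t
      apply QCohExact.app_injective_of_mono (kernel.ι (Dual3.idealMulι (J ^ n) H ≫ p)) V.1
      apply QCohExact.app_injective_of_mono (Dual3.idealMulι (J ^ n) H) V.1
      have hcond : ap p V.1 (ap (Dual3.idealMulι (J ^ n) H) V.1
          (ap (kernel.ι (Dual3.idealMulι (J ^ n) H ≫ p)) V.1 t)) = 0 := by
        have := congrArg (fun φ => ap φ V.1 t)
          (kernel.condition (Dual3.idealMulι (J ^ n) H ≫ p))
        exact this
      have hmem := idealMulι_app_mem (J ^ n) H V.2
        (ap (kernel.ι (Dual3.idealMulι (J ^ n) H ≫ p)) V.1 t)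
      have hkn : n ≥ k V + m :=
        le_trans (Nat.add_le_add_right (Finset.le_sup (f := k) (hs.mem_toFinset.mpr hVs)) m) hn
      have hbot := hk V n hkn
      have hin : ap (Dual3.idealMulι (J ^ n) H) V.1
          (ap (kernel.ι (Dual3.idealMulι (J ^ n) H ≫ p)) V.1 t) ∈
          (J.ideal V ^ n • (⊤ : Submodule Γ(X, V.1) Γ(H, V.1))) ⊓
            LinearMap.ker (RelFPAff.appₗ p V.1) := ⟨hmem, hcond⟩
      rw [hbot] at hin
      rw [map_zero, map_zero]
      exact hin
    rw [key a, key b]
  exact Preadditive.mono_of_kernel_zero (hzero.eq_of_src _ _)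

end AR

section Weak

variable [IsNoetherian X] (K : X.Modules → Prop)
  (hker : ∀ S : ShortComplex X.Modules, S.ShortExact → Coh.IsCoh S.X₁ → Coh.IsCoh S.X₂ →
    Coh.IsCoh S.X₃ → K S.X₂ → K S.X₃ → K S.X₁)
  (hext : ∀ S : ShortComplex X.Modules, S.ShortExact → Coh.IsCoh S.X₁ → Coh.IsCoh S.X₂ →
    Coh.IsCoh S.X₃ → K S.X₁ → K S.X₃ → K S.X₂)

/-- The kernel of a morphism which is injective on sections over an affine open `U` has no
support in `U`. -/
theorem support_kernel_subset_compl {H T : X.Modules} (hH : Coh.IsCoh H) (hT : Coh.IsCoh T)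
    (p : H ⟶ T) {U : X.Opens} (hU : IsAffineOpen U) (hinj : Function.Injective (ap p U)) :
    CohB1.support (kernel p) ⊆ (U : Set X)ᶜ := by
  have hKp : Coh.IsCoh (kernel p) := CohKerH8.isCoh_kernel hH hT p
  haveI := hKp.1
  intro x hx hxU
  refine notMem_support_of_subsingleton (kernel p) hU hxU ⟨fun a b => ?_⟩ hx
  have key : ∀ c : Γ(kernel p, U), c = 0 := by
    intro c
    apply QCohExact.app_injective_of_mono (kernel.ι p) U
    apply hinj
    have h2 : ap p U (ap (kernel.ι p) U c) = 0 := by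
      have := congrArg (fun φ => ap φ U c) (kernel.condition p)
      exact this
    show ap p U (ap (kernel.ι p) U c) = ap p U (ap (kernel.ι p) U 0)
    rw [h2, map_zero, map_zero]
  rw [key a, key b]

/-- The cokernel of a morphism which is surjective on sections over an affine open `U` has no
support in `U`. -/
theorem support_cokernel_subset_compl {H T : X.Modules} (hH : Coh.IsCoh H) (hT : Coh.IsCoh T)
    (p : H ⟶ T) {U : X.Opens} (hU : IsAffineOpen U) (hsurj : Function.Surjective (ap p U)) :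
    CohB1.support (cokernel p) ⊆ (U : Set X)ᶜ := by
  haveI := hT.1
  have hC : Coh.IsCoh (cokernel p) := CohKerH8.isCoh_cokernel hH hT p
  haveI := hC.1
  intro x hx hxU
  refine notMem_support_of_subsingleton (cokernel p) hU hxU ⟨fun a b => ?_⟩ hx
  have key : ∀ c : Γ(cokernel p, U), c = 0 := by
    intro c
    obtain ⟨t, rfl⟩ := QCohExact.app_surjective_of_epi (cokernel.π p) hU c
    obtain ⟨h, rfl⟩ := hsurj t
    have := congrArg (fun φ => ap φ U h) (cokernel.condition p)
    exact this
  rw [key a, key b]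

include hker hext in
/-- Weak transfer: for a class closed under kernels of epimorphisms and extensions, if
`p : H → T` is bijective on sections over an affine neighbourhood of `y`, then `K T → K H`. -/
theorem transfer_weak {H T : X.Modules} (hH : Coh.IsCoh H) (hT : Coh.IsCoh T) (p : H ⟶ T)
    (Z : Set X) (hHZ : CohB1.support H ⊆ Z) (hTZ : CohB1.support T ⊆ Z) (y : X)
    (IH : ∀ M : X.Modules, Coh.IsCoh M → CohB1.support M ⊆ Z → y ∉ CohB1.support M → K M)
    {U : X.Opens} (hU : IsAffineOpen U) (hyU : y ∈ U) (hbij : Function.Bijective (ap p U)) :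
    K T → K H := by
  haveI : H.IsQuasicoherent := hH.1
  haveI : T.IsQuasicoherent := hT.1
  have hC : Coh.IsCoh (cokernel p) := CohKerH8.isCoh_cokernel hH hT p
  haveI : (cokernel p).IsQuasicoherent := hC.1
  have hCZ : CohB1.support (cokernel p) ⊆ Z :=
    (support_subset_of_epi (cokernel.π p)).trans hTZ
  have hCy : y ∉ CohB1.support (cokernel p) :=
    fun h => support_cokernel_subset_compl hH hT p hU hbij.2 h hyU
  have hKC : K (cokernel p) := IH _ hC hCZ hCy
  have hI : Coh.IsCoh (kernel (cokernel.π p)) := CohKerH8.isCoh_kernel hT hC _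
  haveI : (kernel (cokernel.π p)).IsQuasicoherent := hI.1
  obtain ⟨q, hq⟩ : ∃ q : H ⟶ kernel (cokernel.π p), q ≫ kernel.ι (cokernel.π p) = p :=
    ⟨kernel.lift (cokernel.π p) p (cokernel.condition p), kernel.lift_ι _ _ _⟩
  haveI hqe : Epi q := by
    have h1 : q = Abelian.factorThruImage p := by
      rw [← cancel_mono (kernel.ι (cokernel.π p)), hq]
      exact (Abelian.image.fac p).symm
    rw [h1]
    infer_instance
  have hKq : Coh.IsCoh (kernel q) := CohKerH8.isCoh_kernel hH hI q
  haveI : (kernel q).IsQuasicoherent := hKq.1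
  have hKqZ : CohB1.support (kernel q) ⊆ Z := (support_subset_of_mono (kernel.ι q)).trans hHZ
  have hqinj : Function.Injective (ap q U) := by
    intro a b hab
    apply hbij.1
    have h1 : ∀ c, ap p U c = ap (kernel.ι (cokernel.π p)) U (ap q U c) := by
      intro c
      have := congrArg (fun φ => ap φ U c) hq
      exact this.symm
    rw [h1, h1, hab]
  have hKqy : y ∉ CohB1.support (kernel q) :=
    fun h => support_kernel_subset_compl hH hI q hU hqinj h hyU
  have hKK : K (kernel q) := IH _ hKq hKqZ hKqy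
  let Sb : ShortComplex X.Modules :=
    ShortComplex.mk (kernel.ι (cokernel.π p)) (cokernel.π p) (kernel.condition _)
  have hSb : Sb.ShortExact := ShortComplex.ShortExact.mk' (ShortComplex.exact_kernel _)
    (inferInstanceAs (Mono (kernel.ι (cokernel.π p)))) (inferInstanceAs (Epi (cokernel.π p)))
  let Sa : ShortComplex X.Modules := ShortComplex.mk (kernel.ι q) q (kernel.condition q)
  have hSa : Sa.ShortExact := ShortComplex.ShortExact.mk' (ShortComplex.exact_kernel q)
    (inferInstanceAs (Mono (kernel.ι q))) hqe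
  intro hKT
  exact hext Sa hSa hKq hH hI hKK (hker Sb hSb hI hT hC hKT hKC)

include hext in
/-- For a class closed under extensions, if `q : H → T` is a monomorphism which is surjective on
sections over an affine neighbourhood of `y`, then `K H → K T`. -/
theorem K_of_mono_of_surjective {H T : X.Modules} (hH : Coh.IsCoh H) (hT : Coh.IsCoh T)
    (q : H ⟶ T) [Mono q] (Z : Set X) (hTZ : CohB1.support T ⊆ Z) (y : X)
    (IH : ∀ M : X.Modules, Coh.IsCoh M → CohB1.support M ⊆ Z → y ∉ CohB1.support M → K M)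
    {U : X.Opens} (hU : IsAffineOpen U) (hyU : y ∈ U) (hsurj : Function.Surjective (ap q U)) :
    K H → K T := by
  haveI : T.IsQuasicoherent := hT.1
  have hC : Coh.IsCoh (cokernel q) := CohKerH8.isCoh_cokernel hH hT q
  haveI : (cokernel q).IsQuasicoherent := hC.1
  have hCZ : CohB1.support (cokernel q) ⊆ Z :=
    (support_subset_of_epi (cokernel.π q)).trans hTZ
  have hCy : y ∉ CohB1.support (cokernel q) :=
    fun h => support_cokernel_subset_compl hH hT q hU hsurj h hyU
  have hKC : K (cokernel q) := IH _ hC hCZ hCy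
  let S : ShortComplex X.Modules := ShortComplex.mk q (cokernel.π q) (cokernel.condition q)
  have hS : S.ShortExact := ShortComplex.ShortExact.mk' (ShortComplex.exact_cokernel q)
    (inferInstanceAs (Mono q)) (inferInstanceAs (Epi (cokernel.π q)))
  intro hKH
  exact hext S hS hH hT hC hKH hKC

/-- The vanishing ideal of the complement of an affine open `U` is the unit ideal on `U`. -/
theorem vanishingIdeal_compl_ideal {U : X.Opens} (hU : IsAffineOpen U) (n : ℕ) :
    ((Scheme.IdealSheafData.vanishingIdeal ⟨(U : Set X)ᶜ, U.isOpen.isClosed_compl⟩) ^ n).ideal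
      ⟨U, hU⟩ = ⊤ := by
  have h1 : (Scheme.IdealSheafData.vanishingIdeal ⟨(U : Set X)ᶜ, U.isOpen.isClosed_compl⟩).ideal
      ⟨U, hU⟩ = ⊤ := by
    rw [Scheme.IdealSheafData.vanishingIdeal_ideal]
    have h2 : ((IsAffineOpen.fromSpec (U := U) hU) ⁻¹'
        ((⟨(U : Set X)ᶜ, U.isOpen.isClosed_compl⟩ : Closeds X) : Set X)) = ∅ := by
      rw [Set.eq_empty_iff_forall_notMem]
      intro q hq
      apply hq
      have : hU.fromSpec q ∈ Set.range hU.fromSpec := ⟨q, rfl⟩
      rw [hU.range_fromSpec] at this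
      exact this
    exact (congrArg PrimeSpectrum.vanishingIdeal h2).trans PrimeSpectrum.vanishingIdeal_empty
  show (Scheme.IdealSheafData.vanishingIdeal ⟨(U : Set X)ᶜ, U.isOpen.isClosed_compl⟩).ideal
      ⟨U, hU⟩ ^ n = ⊤
  rw [h1]
  exact Ideal.top_pow _ n

include hker hext in
/-- Weak generic step: for a class closed under kernels of epimorphisms and extensions, if two
coherent modules supported in `Z` have isomorphic sections over an affine neighbourhood of `y`
then `K G → K F`, provided all coherent modules supported in `Z` away from `y` belong to `K`. -/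
theorem generic_step_weak {F G : X.Modules} (hF : Coh.IsCoh F) (hG : Coh.IsCoh G)
    (Z : Set X) (hFZ : CohB1.support F ⊆ Z) (hGZ : CohB1.support G ⊆ Z) (y : X)
    (IH : ∀ M : X.Modules, Coh.IsCoh M → CohB1.support M ⊆ Z → y ∉ CohB1.support M → K M)
    {U : X.Opens} (hU : IsAffineOpen U) (hyU : y ∈ U) (e : Γ(F, U) ≃ₗ[Γ(X, U)] Γ(G, U)) :
    K G → K F := by
  haveI : F.IsQuasicoherent := hF.1
  haveI : G.IsQuasicoherent := hG.1
  obtain ⟨φ⟩ := LocIsoH8.nonempty_restrict_iso F G hU e
  have hX : ∀ x : X, ∃ V : X.Opens, x ∈ V ∧ NoetherianSpace (V : Set X) :=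
    fun x => ⟨⊤, trivial, inferInstance⟩
  haveI := CohOpenH8.isQuasicoherent_biprod F G
  let Rf := Scheme.Modules.restrictFunctor U.ι
  let i : F.restrict U.ι ⟶ (F ⊞ G).restrict U.ι :=
    Rf.map biprod.inl + φ.hom ≫ Rf.map biprod.inr
  have hi1 : i ≫ Rf.map biprod.fst = 𝟙 _ := by
    simp only [i, Preadditive.add_comp, Category.assoc, ← Functor.map_comp, biprod.inl_fst,
      biprod.inr_fst, Functor.map_zero, comp_zero, add_zero]
    exact Rf.map_id _
  have hi2 : i ≫ Rf.map biprod.snd = φ.hom := by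
    simp only [i, Preadditive.add_comp, Category.assoc, ← Functor.map_comp, biprod.inl_snd,
      biprod.inr_snd, Functor.map_zero, zero_add]
    rw [Rf.map_id]
    exact Category.comp_id _
  haveI : Mono i := mono_of_mono_fac hi1
  obtain ⟨H, i', ε, hmono, hq, hft, hcomm⟩ := SubExt.extend_ft_locNoeth hX U (F ⊞ G)
    (F.restrict U.ι) i (CohOpenH8.isFiniteType_restrict U.ι F hF.2)
  haveI := hmono
  have hH : Coh.IsCoh H := ⟨hq, hft⟩
  have hHZ : CohB1.support H ⊆ Z :=
    ((support_subset_of_mono i').trans support_biprod_subset).trans (Set.union_subset hFZ hGZ)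
  haveI h1 : IsIso (Rf.map (i' ≫ biprod.fst)) := by
    have : Rf.map (i' ≫ biprod.fst) = ε.hom := by
      rw [Functor.map_comp, ← hcomm, Category.assoc, hi1, Category.comp_id]
    rw [this]; infer_instance
  haveI h2 : IsIso (Rf.map (i' ≫ biprod.snd)) := by
    have : Rf.map (i' ≫ biprod.snd) = ε.hom ≫ φ.hom := by
      rw [Functor.map_comp, ← hcomm, Category.assoc, hi2]
    rw [this]; infer_instance
  have b1 : Function.Bijective (ap (i' ≫ biprod.fst) U) :=
    @app_bijective_of_isIso_restrict _ _ _ (i' ≫ biprod.fst) U h1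
  have b2 : Function.Bijective (ap (i' ≫ biprod.snd) U) :=
    @app_bijective_of_isIso_restrict _ _ _ (i' ≫ biprod.snd) U h2
  -- the Artin–Rees trick
  obtain ⟨J, hJ⟩ : ∃ J : X.IdealSheafData,
      J = Scheme.IdealSheafData.vanishingIdeal ⟨(U : Set X)ᶜ, U.isOpen.isClosed_compl⟩ := ⟨_, rfl⟩
  have hJs : (J.support : Set X) = (U : Set X)ᶜ := by
    rw [hJ, Scheme.IdealSheafData.coe_support_vanishingIdeal]
    rfl
  obtain ⟨n, hn⟩ := exists_mono_idealMul_pow hH hF (i' ≫ biprod.fst) J
    (hJs ▸ support_kernel_subset_compl hH hF _ hU b1.1)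
  haveI hm := hn n le_rfl
  have hH' := isCoh_idealMul (J ^ n) H hH
  have b0 : Function.Bijective (ap (Dual3.idealMulι (J ^ n) H) U) :=
    idealMulι_app_bijective (J ^ n) H hU (hJ ▸ vanishingIdeal_compl_ideal hU n)
  have hH'Z : CohB1.support ((Dual3.idealMul (J ^ n)).obj H) ⊆ Z :=
    (support_subset_of_mono (Dual3.idealMulι (J ^ n) H)).trans hHZ
  have c1 : Function.Bijective (ap (Dual3.idealMulι (J ^ n) H ≫ (i' ≫ biprod.fst)) U) :=
    b1.comp b0
  have c2 : Function.Bijective (ap (Dual3.idealMulι (J ^ n) H ≫ (i' ≫ biprod.snd)) U) :=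
    b2.comp b0
  intro hKG
  have hKH' : K ((Dual3.idealMul (J ^ n)).obj H) :=
    transfer_weak K hker hext hH' hG _ Z hH'Z hGZ y IH hU hyU c2 hKG
  exact K_of_mono_of_surjective K hext hH' hF (Dual3.idealMulι (J ^ n) H ≫ (i' ≫ biprod.fst))
    Z hFZ y IH hU hyU c1.2 hKH'

include hker hext in
/-- Weak generic step, stalk version. -/
theorem generic_step_weak' {F G : X.Modules} (hF : Coh.IsCoh F) (hG : Coh.IsCoh G)
    (Z : Set X) (hFZ : CohB1.support F ⊆ Z) (hGZ : CohB1.support G ⊆ Z) (y : X)
    (IH : ∀ M : X.Modules, Coh.IsCoh M → CohB1.support M ⊆ Z → y ∉ CohB1.support M → K M)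
    (l : F.presheaf.stalk y ≃ₗ[X.presheaf.stalk y] G.presheaf.stalk y) :
    K G → K F := by
  obtain ⟨U, hU, hyU, ⟨e⟩⟩ := exists_sections_equiv_of_stalk_equiv hF hG y l
  exact generic_step_weak K hker hext hF hG Z hFZ hGZ y IH hU hyU e

end Weak

end CohDevH8
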