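import Mathlib
import Groth.Prelude
import Groth.Agent.Lib.CohDev10_helper8

/-!
# Dévissage of coherent modules, XI: supports of direct images, powers as coproducts (helper8)
APPEND-ONLY once landed.
-/

set_option autoImplicit false

namespace CohDevH8

open AlgebraicGeometry CategoryTheory CategoryTheory.Limits TopologicalSpace Opposite
open QcqsLoc QCohExtn IsLocalRing

universe u

section PushSupp

variable {T X : Scheme.{u}} (i : T ⟶ X)

/-- If `i` is a topological embedding and the stalk of `H` at `t` is nonzero, then `i t` lies in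
the support of `i_* H`. -/
theorem mem_support_pushforward (hi : Topology.IsEmbedding i) (H : T.Modules) (t : T)
    (ht : Nontrivial (H.presheaf.stalk t)) :
    i t ∈ CohB1.support ((Scheme.Modules.pushforward i).obj H) := by
  intro hsub
  obtain ⟨z, hz⟩ := exists_ne (0 : H.presheaf.stalk t)
  obtain ⟨V, htV, s, rfl⟩ := TopCat.Presheaf.exists_germ_eq H.presheaf z
  obtain ⟨W', hW'o, hW'⟩ := hi.isInducing.isOpen_iff.mp V.isOpen
  let W : X.Opens := ⟨W', hW'o⟩
  have hle : i ⁻¹ᵁ W ≤ V := fun x hx => by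
    have : x ∈ (i : T → X) ⁻¹' W' := hx
    rw [hW'] at this
    exact this
  have htW : t ∈ i ⁻¹ᵁ W := by
    have : t ∈ (i : T → X) ⁻¹' W' := by
      rw [hW']
      exact htV
    exact this
  have hitW : i t ∈ W := htW
  let s₁ : Γ(H, i ⁻¹ᵁ W) := H.presheaf.map (homOfLE hle).op s
  have hs₁ : H.presheaf.germ (i ⁻¹ᵁ W) t htW s₁ = H.presheaf.germ V t htV s :=
    TopCat.Presheaf.germ_res_apply H.presheaf (homOfLE hle) t htW s
  have h0 : ((Scheme.Modules.pushforward i).obj H).presheaf.germ W (i t) hitW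
      (show Γ((Scheme.Modules.pushforward i).obj H, W) from s₁) = 0 :=
    @Subsingleton.elim _ hsub _ _
  obtain ⟨W₂, hW₂, j, hres⟩ := SupportCoh.exists_res_eq_zero
    ((Scheme.Modules.pushforward i).obj H) hitW
    (show Γ((Scheme.Modules.pushforward i).obj H, W) from s₁) h0
  have hres' : H.presheaf.map (homOfLE (show i ⁻¹ᵁ W₂ ≤ i ⁻¹ᵁ W from
      fun x hx => j.le hx)).op s₁ = 0 := hres
  have htW₂ : t ∈ i ⁻¹ᵁ W₂ := hW₂
  apply hz
  rw [← hs₁, ← TopCat.Presheaf.germ_res_apply H.presheaf (homOfLE (show i ⁻¹ᵁ W₂ ≤ i ⁻¹ᵁ W from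
      fun x hx => j.le hx)) t htW₂ s₁, hres', map_zero]

end PushSupp

section Pow

variable {X : Scheme.{u}}

/-- The iterated biproduct `pow1 F n = F^{n+1}` is the coproduct of `n + 1` copies of `F`. -/
theorem nonempty_pow1_iso_sigma (F : X.Modules) :
    ∀ n : ℕ, Nonempty (pow1 F n ≅ ∐ fun _ : Fin (n + 1) => F)
  | 0 => ⟨(coproductUniqueIso (fun _ : Fin 1 => F)).symm⟩
  | n + 1 => by
    obtain ⟨e⟩ := nonempty_pow1_iso_sigma F n
    let c₁ : Cofan (fun _ : Fin (n + 1) => F) := Cofan.mk _ (Sigma.ι (fun _ : Fin (n + 1) => F))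
    have t₁ : IsColimit c₁ := coproductIsCoproduct _
    let c₂ : BinaryCofan F c₁.pt := BinaryCofan.mk coprod.inl coprod.inr
    have t₂ : IsColimit c₂ := coprodIsCoprod _ _
    have t := extendCofanIsColimit (fun _ : Fin (n + 1 + 1) => F) t₁ t₂
    have e₂ : (F ⨿ (∐ fun _ : Fin (n + 1) => F)) ≅ ∐ fun _ : Fin (n + 1 + 1) => F :=
      t.coconePointUniqueUpToIso (coproductIsCoproduct _)
    exact ⟨(biprod.mapIso (Iso.refl F) e) ≪≫ (biprod.isoCoprod _ _) ≪≫ e₂⟩

end Pow

section WeakStep

variable {X : Scheme.{u}}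

theorem isCoh_pushforward_of_isFinite {T : Scheme.{u}} (i : T ⟶ X) [IsFinite i] {H : T.Modules}
    (hH : Coh.IsCoh H) : Coh.IsCoh ((Scheme.Modules.pushforward i).obj H) := by
  haveI := hH.1
  haveI := hH.2
  exact ⟨QCohCrit.isQuasicoherent_pushforward i H, QCohCrit.isFiniteType_pushforward i H⟩

variable [IsNoetherian X] (K : X.Modules → Prop)
  (hker : ∀ S : ShortComplex X.Modules, S.ShortExact → Coh.IsCoh S.X₁ → Coh.IsCoh S.X₂ →
    Coh.IsCoh S.X₃ → K S.X₂ → K S.X₃ → K S.X₁)
  (hext : ∀ S : ShortComplex X.Modules, S.ShortExact → Coh.IsCoh S.X₁ → Coh.IsCoh S.X₂ →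
    Coh.IsCoh S.X₃ → K S.X₁ → K S.X₃ → K S.X₂)
  (hpow : ∀ (F : X.Modules) (n : ℕ), Coh.IsCoh F → K (pow1 F n) → K F)

include hker hext hpow in
/-- The irreducible step of the dévissage for a class closed under kernels of epimorphisms,
extensions and "roots" of powers, which contains a coherent module killed by the ideal of `Z`
with nonzero stalk at the generic point. -/
theorem step_of_generator_weak (Z : Set X) (hZ : IsClosed Z) (y : X) (hy : closure {y} = Z)
    (IH : ∀ M : X.Modules, Coh.IsCoh M → CohB1.support M ⊆ Z → CohB1.support M ≠ Z → K M)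
    {G : X.Modules} (hG : Coh.IsCoh G) (hKG : K G)
    (hkG : ClSub.KilledByIdeal (Scheme.IdealSheafData.vanishingIdeal ⟨Z, hZ⟩) G)
    (hyG : y ∈ CohB1.support G)
    (F : X.Modules) (hF : Coh.IsCoh F)
    (hk : ClSub.KilledByIdeal (Scheme.IdealSheafData.vanishingIdeal ⟨Z, hZ⟩) F) : K F := by
  haveI := hF.1
  haveI := hF.2
  haveI := hG.1
  haveI := hG.2
  have hyZ : y ∈ Z := hy.subset (subset_closure (Set.mem_singleton y))
  have IH' : ∀ M : X.Modules, Coh.IsCoh M → CohB1.support M ⊆ Z → y ∉ CohB1.support M → K M :=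
    fun M hM h1 h2 => IH M hM h1 (fun h => h2 (h ▸ hyZ))
  have hFZ : CohB1.support F ⊆ Z := by
    have h1 := support_subset_of_killed _ F hk
    rwa [Scheme.IdealSheafData.coe_support_vanishingIdeal] at h1
  have hGZ : CohB1.support G ⊆ Z := by
    have h1 := support_subset_of_killed _ G hkG
    rwa [Scheme.IdealSheafData.coe_support_vanishingIdeal] at h1
  obtain ⟨d, ⟨eF⟩⟩ := exists_stalk_equiv hF Z hZ y hy hk
  obtain ⟨e, ⟨eG⟩⟩ := exists_stalk_equiv hG Z hZ y hy hkG
  cases d with
  | zero =>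
    apply IH' F hF hFZ
    intro hyF
    apply hyF
    exact eF.toEquiv.subsingleton
  | succ d' =>
    cases e with
    | zero =>
      exfalso
      apply hyG
      exact eG.toEquiv.subsingleton
    | succ e' =>
      obtain ⟨ePF⟩ := stalkPow1Equiv F y e'
      obtain ⟨ePG⟩ := stalkPow1Equiv G y d'
      have hKP : K (pow1 F e') :=
        generic_step_weak' K hker hext (isCoh_pow1 hF e') (isCoh_pow1 hG d') Z
          ((support_pow1_subset hF e').trans hFZ) ((support_pow1_subset hG d').trans hGZ) y IH'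
          (ePF.trans ((LinearEquiv.piCongrRight (fun _ => eF)).trans
            ((piSwap _ _ (e' + 1) (d' + 1)).trans
              ((LinearEquiv.piCongrRight (fun _ => eG.symm)).trans ePG.symm))))
          (K_pow1 K hext hG hKG d')
      exact hpow F e' hF hKP

end WeakStep

end CohDevH8
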