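import Mathlib
import Groth.Agent.Lib.QCohExact_helper9
import Groth.Agent.Lib.EpiLoc_helper9

/-!
# Stalk criteria for morphisms of `O_X`-modules (helper8)
-/

universe u

open CategoryTheory CategoryTheory.Limits AlgebraicGeometry Opposite TopologicalSpace

namespace DescH8

variable {X : Scheme.{u}} {F G : X.Modules} (u : F ⟶ G)

/-- The stalk map of a morphism of `O_X`-modules. -/
noncomputable abbrev stk (x : X) : F.presheaf.stalk x ⟶ G.presheaf.stalk x :=
  (TopCat.Presheaf.stalkFunctor Ab x).map u.mapPresheaf

theorem stk_germ {U : X.Opens} {x : X} (hx : x ∈ U) (s : Γ(F, U)) :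
    stk u x (F.presheaf.germ U x hx s) = G.presheaf.germ U x hx (u.app U s) :=
  TopCat.Presheaf.stalkFunctor_map_germ_apply U x hx u.mapPresheaf s

set_option backward.isDefEq.respectTransparency false in
theorem isIso_of_stk_bijective (h : ∀ x, Function.Bijective (stk u x)) : IsIso u := by
  let F' : TopCat.Sheaf Ab X := ⟨F.presheaf, F.isSheaf⟩
  let G' : TopCat.Sheaf Ab X := ⟨G.presheaf, G.isSheaf⟩
  let ψ : F' ⟶ G' := ⟨u.mapPresheaf⟩
  haveI : ∀ x : X, IsIso ((TopCat.Presheaf.stalkFunctor Ab x).map ψ.1) := fun x =>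
    (ConcreteCategory.isIso_iff_bijective _).2 (h x)
  haveI : IsIso ψ := TopCat.Presheaf.isIso_of_stalkFunctor_map_iso ψ
  have h1 : IsIso ((sheafToPresheaf _ _).map ψ) := inferInstance
  rw [← isIso_iff_of_reflects_iso _ (Scheme.Modules.toPresheaf X)]
  exact h1

theorem stk_bijective_of_isIso [IsIso u] (x : X) : Function.Bijective (stk u x) := by
  haveI : IsIso u.mapPresheaf := by
    change IsIso ((Scheme.Modules.toPresheaf X).map u)
    infer_instance
  exact (ConcreteCategory.isIso_iff_bijective _).1
    (CategoryTheory.Functor.map_isIso (TopCat.Presheaf.stalkFunctor Ab.{u} x) u.mapPresheaf)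

theorem app_injective_of_stk_injective (h : ∀ x, Function.Injective (stk u x)) (U : X.Opens) :
    Function.Injective (u.app U) := by
  let F' : TopCat.Sheaf Ab X := ⟨F.presheaf, F.isSheaf⟩
  exact TopCat.Presheaf.app_injective_of_stalkFunctor_map_injective (F := F') u.mapPresheaf U
    (fun x _ => h x)

theorem mono_of_app_injective (h : ∀ U : X.Opens, Function.Injective (u.app U)) : Mono u := by
  refine Preadditive.mono_of_cancel_zero _ (fun {Z} g hg => ?_)
  ext U s
  apply h U
  have := congr($(hg).app U s)
  simpa using this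

theorem mono_of_stk_injective (h : ∀ x, Function.Injective (stk u x)) : Mono u :=
  mono_of_app_injective u (app_injective_of_stk_injective u h)

theorem stk_injective_of_mono [Mono u] (x : X) : Function.Injective (stk u x) :=
  TopCat.Presheaf.stalkFunctor_map_injective_of_app_injective
    (fun U => QCohExact.app_injective_of_mono u U) x

theorem epi_of_stk_surjective (h : ∀ x, Function.Surjective (stk u x)) : Epi u := by
  have h1 : TopCat.Presheaf.IsLocallySurjective u.mapPresheaf :=
    (TopCat.Presheaf.locally_surjective_iff_surjective_on_stalks _).2 h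
  have h2 : Epi ((SheafOfModules.toSheaf.{u} X.ringCatSheaf).map u) :=
    (TopCat.Sheaf.isLocallySurjective_iff_epi
      ((SheafOfModules.toSheaf.{u} X.ringCatSheaf).map u)).1 h1
  exact (SheafOfModules.toSheaf.{u} X.ringCatSheaf).epi_of_epi_map h2

theorem eq_zero_of_stk_eq_zero (h : ∀ x (t : F.presheaf.stalk x), stk u x t = 0) : u = 0 := by
  ext U s
  let G' : TopCat.Sheaf Ab X := ⟨G.presheaf, G.isSheaf⟩
  refine TopCat.Presheaf.section_ext G' U _ _ (fun x hx => ?_)
  have h1 := stk_germ u hx s
  rw [h] at h1
  change G.presheaf.germ U x hx (u.app U s) = G.presheaf.germ U x hx 0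
  rw [← h1, map_zero]

theorem stk_eq_zero_of_eq_zero (h : u = 0) (x : X) (t : F.presheaf.stalk x) : stk u x t = 0 := by
  subst h
  obtain ⟨U, hx, s, rfl⟩ := TopCat.Presheaf.exists_germ_eq (F := F.presheaf) t
  rw [stk_germ]
  simp

end DescH8
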