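import Mathlib
import Groth.Prelude
import Groth.Agent.Lib.CohDev11_helper8
import Groth.Agent.Lib.FCompl1_helper8
import Groth.Agent.Lib.Desc1_helper8

/-!
# Dévissage of coherent modules, XII: lifting through `J^n H` (Deligne's formula) (helper8)
APPEND-ONLY once landed.
-/

set_option autoImplicit false

namespace CohDevH8

open AlgebraicGeometry CategoryTheory CategoryTheory.Limits TopologicalSpace Opposite
open QcqsLoc QCohExtn IsLocalRing

universe u

variable {X : Scheme.{u}}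

section Lift

/-- A morphism of modules vanishing on sections over all affine opens is zero. -/
theorem eq_zero_of_affine {A B : X.Modules} (φ : A ⟶ B)
    (h : ∀ (V : X.Opens), IsAffineOpen V → ∀ s : Γ(A, V), ap φ V s = 0) : φ = 0 := by
  apply Scheme.Modules.hom_ext
  intro O
  ext y
  show ap φ O y = 0
  refine FComplH8.ap_eq_zero_of_locally φ O y (fun x hx => ?_)
  obtain ⟨V, hV, hxV, hVO⟩ := Opens.isBasis_iff_nbhd.mp X.isBasis_affineOpens hx
  exact ⟨V, hVO, hxV, h V hV _⟩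

/-- Lifting through a monomorphism can be checked on sections over affine opens. -/
theorem exists_lift_of_affine {H' A G'' : X.Modules} (j : H' ⟶ A) [Mono j] (g : G'' ⟶ A)
    (hC : ∀ (V : X.Opens), IsAffineOpen V → ∀ s : Γ(G'', V), ∃ h : Γ(H', V),
      ap j V h = ap g V s) :
    ∃ ψ : G'' ⟶ H', ψ ≫ j = g := by
  have h0 : g ≫ cokernel.π j = 0 := by
    apply eq_zero_of_affine
    intro V hV s
    obtain ⟨h, hh⟩ := hC V hV s
    show ap (cokernel.π j) V (ap g V s) = 0
    rw [← hh]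
    have := congrArg (fun φ => ap φ V h) (cokernel.condition j)
    exact this
  exact ⟨Abelian.monoLift j g h0, Abelian.monoLift_comp j g h0⟩

variable [IsNoetherian X]

/-- If the cokernel of `p : H → A` is supported in `V(J)`, then for some `m` all sections of
`J^m A` over affine opens lift to `H`. -/
theorem exists_preimage_of_pow_smul {H A : X.Modules} (hH : Coh.IsCoh H) (hA : Coh.IsCoh A)
    (p : H ⟶ A) (J : X.IdealSheafData)
    (hsupp : CohB1.support (cokernel p) ⊆ (J.support : Set X)) :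
    ∃ m : ℕ, ∀ (V : X.Opens) (hV : IsAffineOpen V) (t : Γ(A, V)),
      t ∈ (J.ideal ⟨V, hV⟩ ^ m • (⊤ : Submodule Γ(X, V) Γ(A, V))) → ∃ h : Γ(H, V), ap p V h = t := by
  haveI := hH.1
  haveI := hA.1
  have hC : Coh.IsCoh (cokernel p) := CohKerH8.isCoh_cokernel hH hA p
  haveI := hC.1
  haveI := hC.2
  have hI : Coh.IsCoh (kernel (cokernel.π p)) := CohKerH8.isCoh_kernel hA hC _
  haveI : (kernel (cokernel.π p)).IsQuasicoherent := hI.1
  obtain ⟨q, hq⟩ : ∃ q : H ⟶ kernel (cokernel.π p), q ≫ kernel.ι (cokernel.π p) = p :=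
    ⟨kernel.lift (cokernel.π p) p (cokernel.condition p), kernel.lift_ι _ _ _⟩
  haveI hqe : Epi q := by
    have h1 : q = Abelian.factorThruImage p := by
      rw [← cancel_mono (kernel.ι (cokernel.π p)), hq]
      exact (Abelian.image.fac p).symm
    rw [h1]
    infer_instance
  obtain ⟨m, hm⟩ := exists_pow_le_annIdeal (cokernel p) J hsupp
  refine ⟨m, fun V hV t ht => ?_⟩
  let S : ShortComplex X.Modules :=
    ShortComplex.mk (kernel.ι (cokernel.π p)) (cokernel.π p) (kernel.condition _)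
  haveI : Mono S.f := inferInstanceAs (Mono (kernel.ι (cokernel.π p)))
  refine Submodule.smul_induction_on ht ?_ ?_
  · intro a ha x _
    have h2 : a ∈ (AnnShH8.annIdeal (cokernel p)).ideal ⟨V, hV⟩ := hm ⟨V, hV⟩ ha
    rw [AnnShH8.annIdeal_ideal, Module.mem_annihilator] at h2
    have h3 : ap (cokernel.π p) V (a • x) = 0 := by
      have e1 : ap (cokernel.π p) V (a • x) = a • ap (cokernel.π p) V x := ap_smul _ a x
      rw [e1]
      exact h2 _
    obtain ⟨w, hw⟩ := QCohExact.app_exact S (ShortComplex.exact_kernel _) V (a • x) h3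
    obtain ⟨h, hh⟩ := QCohExact.app_surjective_of_epi q hV w
    refine ⟨h, ?_⟩
    have e2 : ap p V h = ap (kernel.ι (cokernel.π p)) V (ap q V h) := by
      have := congrArg (fun φ => ap φ V h) hq
      exact this.symm
    rw [e2]
    have hh' : ap q V h = w := hh
    rw [hh']
    exact hw
  · rintro x y ⟨h₁, rfl⟩ ⟨h₂, rfl⟩
    exact ⟨h₁ + h₂, map_add _ _ _⟩

/-- Deligne's formula, lifting form: if `p : H → A` has cokernel supported in `V(J)`, then for
some `m`, every morphism `g : G'' → A` with image in `J^(n+m) A` lifts through `J^n H → A`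
as soon as the latter is a monomorphism. -/
theorem exists_lift_idealMul_pow {H A : X.Modules} (hH : Coh.IsCoh H) (hA : Coh.IsCoh A)
    (p : H ⟶ A) (J : X.IdealSheafData)
    (hsupp : CohB1.support (cokernel p) ⊆ (J.support : Set X)) :
    ∃ m : ℕ, ∀ (n : ℕ) (G'' : X.Modules) (g : G'' ⟶ A),
      (∀ (V : X.Opens) (hV : IsAffineOpen V) (s : Γ(G'', V)),
        ap g V s ∈ (J.ideal ⟨V, hV⟩ ^ (n + m) • (⊤ : Submodule Γ(X, V) Γ(A, V)))) →
      Mono (Dual3.idealMulι (J ^ n) H ≫ p) →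
      ∃ ψ : G'' ⟶ (Dual3.idealMul (J ^ n)).obj H, ψ ≫ Dual3.idealMulι (J ^ n) H ≫ p = g := by
  haveI := hH.1
  obtain ⟨m, hm⟩ := exists_preimage_of_pow_smul hH hA p J hsupp
  refine ⟨m, fun n G'' g hg hmono => ?_⟩
  haveI := hmono
  refine exists_lift_of_affine (Dual3.idealMulι (J ^ n) H ≫ p) g (fun V hV s => ?_)
  have ht := hg V hV s
  rw [pow_add, Submodule.mul_smul] at ht
  refine Submodule.smul_induction_on ht ?_ ?_
  · intro a ha u hu
    obtain ⟨h, hh⟩ := hm V hV u hu
    have hmem : a • h ∈ ((J ^ n).ideal ⟨V, hV⟩ • (⊤ : Submodule Γ(X, V) Γ(H, V))) :=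
      Submodule.smul_mem_smul ha trivial
    obtain ⟨h', hh'⟩ := exists_idealMulι_app_eq (J ^ n) H hV (a • h) hmem
    refine ⟨h', ?_⟩
    show ap p V (ap (Dual3.idealMulι (J ^ n) H) V h') = a • u
    rw [hh', ← hh]
    exact ap_smul _ a h
  · rintro x y ⟨h₁, hh₁⟩ ⟨h₂, hh₂⟩
    exact ⟨h₁ + h₂, by rw [map_add, hh₁, hh₂]⟩

end Lift

section PowMap

/-- The morphism `A^{n+1} → B^{n+1}` induced by `φ : A → B`. -/
noncomputable def powMap {A B : X.Modules} (φ : A ⟶ B) : ∀ n : ℕ, pow1 A n ⟶ pow1 B n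
  | 0 => φ
  | n + 1 => biprod.map φ (powMap φ n)

theorem mono_powMap {A B : X.Modules} (φ : A ⟶ B) [Mono φ] : ∀ n : ℕ, Mono (powMap φ n)
  | 0 => ‹Mono φ›
  | n + 1 => by
    haveI := mono_powMap φ n
    exact biprod.map_mono φ (powMap φ n)

theorem ap_mem_smul_top {A B : X.Modules} (ψ : A ⟶ B) {V : X.Opens} (I : Ideal Γ(X, V))
    {x : Γ(A, V)} (hx : x ∈ I • (⊤ : Submodule Γ(X, V) Γ(A, V))) :
    ap ψ V x ∈ I • (⊤ : Submodule Γ(X, V) Γ(B, V)) := by
  refine Submodule.smul_induction_on hx ?_ ?_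
  · intro a ha u _
    have e1 : ap ψ V (a • u) = a • ap ψ V u := ap_smul _ a u
    rw [e1]
    exact Submodule.smul_mem_smul ha trivial
  · intro u v hu hv
    rw [map_add]
    exact Submodule.add_mem _ hu hv

theorem ap_biprod_map {A A' B B' : X.Modules} (φ : A ⟶ B) (ψ : A' ⟶ B') (V : X.Opens)
    (s : Γ(A ⊞ A', V)) :
    ap (biprod.map φ ψ) V s = ap biprod.inl V (ap φ V (ap biprod.fst V s)) +
      ap biprod.inr V (ap ψ V (ap biprod.snd V s)) := by
  have h : biprod.map φ ψ = biprod.fst ≫ φ ≫ biprod.inl + biprod.snd ≫ ψ ≫ biprod.inr := by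
    apply biprod.hom_ext <;> apply biprod.hom_ext' <;> simp
  rw [h]
  rfl

theorem powMap_app_mem {A B : X.Modules} (φ : A ⟶ B) {V : X.Opens} (I : Ideal Γ(X, V))
    (h : ∀ s : Γ(A, V), ap φ V s ∈ I • (⊤ : Submodule Γ(X, V) Γ(B, V))) :
    ∀ (n : ℕ) (s : Γ(pow1 A n, V)),
      ap (powMap φ n) V s ∈ I • (⊤ : Submodule Γ(X, V) Γ(pow1 B n, V))
  | 0, s => h s
  | n + 1, s => by
    show ap (biprod.map φ (powMap φ n)) V s ∈ _
    rw [ap_biprod_map]
    exact Submodule.add_mem _ (ap_mem_smul_top biprod.inl I (h _))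
      (ap_mem_smul_top biprod.inr I (powMap_app_mem φ I h n _))

end PowMap

section Roof

variable [IsNoetherian X]

/-- Two coherent modules with isomorphic sections over an affine open `U` are dominated by a
coherent module mapping to both bijectively on sections over `U`. -/
theorem exists_roof {F G : X.Modules} (hF : Coh.IsCoh F) (hG : Coh.IsCoh G) {U : X.Opens}
    (hU : IsAffineOpen U) (e : Γ(F, U) ≃ₗ[Γ(X, U)] Γ(G, U)) :
    ∃ (H : X.Modules) (p₁ : H ⟶ F) (p₂ : H ⟶ G), Coh.IsCoh H ∧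
      CohB1.support H ⊆ CohB1.support F ∪ CohB1.support G ∧
      Function.Bijective (ap p₁ U) ∧ Function.Bijective (ap p₂ U) := by
  haveI : F.IsQuasicoherent := hF.1
  haveI : G.IsQuasicoherent := hG.1
  obtain ⟨φ⟩ := LocIsoH8.nonempty_restrict_iso F G hU e
  have hX : ∀ x : X, ∃ V : X.Opens, x ∈ V ∧ NoetherianSpace (V : Set X) :=
    fun x => ⟨⊤, trivial, inferInstance⟩
  haveI := CohOpenH8.isQuasicoherent_biprod F G
  let Rf := Scheme.Modules.restrictFunctor U.ι
  let i : F.restrict U.ι ⟶ (F ⊞ G).restrict U.ι :=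
    Rf.map biprod.inl + φ.hom ≫ Rf.map biprod.inr
  have hi1 : i ≫ Rf.map biprod.fst = 𝟙 _ := by
    simp only [i, Preadditive.add_comp, Category.assoc, ← Functor.map_comp, biprod.inl_fst,
      biprod.inr_fst, Functor.map_zero, comp_zero, add_zero]
    exact Rf.map_id _
  have hi2 : i ≫ Rf.map biprod.snd = φ.hom := by
    simp only [i, Preadditive.add_comp, Category.assoc, ← Functor.map_comp, biprod.inl_snd,
      biprod.inr_snd, Functor.map_zero, zero_add]
    rw [Rf.map_id]
    exact Category.comp_id _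
  haveI : Mono i := mono_of_mono_fac hi1
  obtain ⟨H, i', ε, hmono, hq, hft, hcomm⟩ := SubExt.extend_ft_locNoeth hX U (F ⊞ G)
    (F.restrict U.ι) i (CohOpenH8.isFiniteType_restrict U.ι F hF.2)
  haveI := hmono
  have hH : Coh.IsCoh H := ⟨hq, hft⟩
  have hHZ : CohB1.support H ⊆ CohB1.support F ∪ CohB1.support G :=
    (support_subset_of_mono i').trans support_biprod_subset
  haveI h1 : IsIso (Rf.map (i' ≫ biprod.fst)) := by
    have : Rf.map (i' ≫ biprod.fst) = ε.hom := by
      rw [Functor.map_comp, ← hcomm, Category.assoc, hi1, Category.comp_id]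
    rw [this]; infer_instance
  haveI h2 : IsIso (Rf.map (i' ≫ biprod.snd)) := by
    have : Rf.map (i' ≫ biprod.snd) = ε.hom ≫ φ.hom := by
      rw [Functor.map_comp, ← hcomm, Category.assoc, hi2]
    rw [this]; infer_instance
  have b1 : Function.Bijective (ap (i' ≫ biprod.fst) U) :=
    @app_bijective_of_isIso_restrict _ _ _ (i' ≫ biprod.fst) U h1
  have b2 : Function.Bijective (ap (i' ≫ biprod.snd) U) :=
    @app_bijective_of_isIso_restrict _ _ _ (i' ≫ biprod.snd) U h2
  exact ⟨H, i' ≫ biprod.fst, i' ≫ biprod.snd, hH, hHZ, b1, b2⟩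

end Roof

section AlgLen

/-- An injective linear map between two modules isomorphic to the same Artinian module is
surjective. -/
theorem surjective_of_injective_of_equiv {R : Type*} [CommRing R] {A B M : Type*}
    [AddCommGroup A] [Module R A] [AddCommGroup B] [Module R B] [AddCommGroup M] [Module R M]
    [IsArtinian R M] (eA : A ≃ₗ[R] M) (eB : B ≃ₗ[R] M) (f : A →ₗ[R] B)
    (hf : Function.Injective f) : Function.Surjective f := by
  let g : M →ₗ[R] M := eB.toLinearMap.comp (f.comp eA.symm.toLinearMap)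
  have hg : Function.Injective g := eB.injective.comp (hf.comp eA.symm.injective)
  have hs := IsArtinian.surjective_of_injective_endomorphism g hg
  intro b
  obtain ⟨m, hm⟩ := hs (eB b)
  refine ⟨eA.symm m, ?_⟩
  apply eB.injective
  exact hm

instance isArtinian_residueField (R : Type*) [CommRing R] [IsLocalRing R] :
    IsArtinian R (ResidueField R) :=
  isArtinian_of_surjective_algebraMap (R := ResidueField R) (M := ResidueField R)
    IsLocalRing.residue_surjective

end AlgLen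

section Key

variable [IsNoetherian X] (P : X.Modules → Prop)
  (hext : ∀ S : ShortComplex X.Modules, S.ShortExact → Coh.IsCoh S.X₁ → Coh.IsCoh S.X₂ →
    Coh.IsCoh S.X₃ → P S.X₁ → P S.X₃ → P S.X₂)

include hext in
/-- **Key step of the dévissage for extension-closed classes.** Let `Z` be irreducible closed
with generic point `y`, `G` a coherent module supported in `Z` whose stalk at `y` is
`κ(y)^(e+1)`, such that for every ideal `J` with `y ∉ V(J)` some coherent submodule `G' ⊆ J·G`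
with `G'_y ≅ G_y` has `P`. If `P` is closed under extensions and holds for coherent modules
with support strictly smaller than `Z`, then `P (F^(e+1))` for every coherent `F` killed by the
ideal of `Z`. -/
theorem step_of_subgenerators (Z : Set X) (hZ : IsClosed Z) (y : X) (hy : closure {y} = Z)
    (IH : ∀ M : X.Modules, Coh.IsCoh M → CohB1.support M ⊆ Z → CohB1.support M ≠ Z → P M)
    {G : X.Modules} (hG : Coh.IsCoh G) (hGZ : CohB1.support G ⊆ Z) (e : ℕ)
    (eG : G.presheaf.stalk y ≃ₗ[X.presheaf.stalk y]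
      (Fin (e + 1) → ResidueField (X.presheaf.stalk y)))
    (hsub : ∀ J : X.IdealSheafData, y ∉ (J.support : Set X) →
      ∃ (G' : X.Modules) (ι' : G' ⟶ (Dual3.idealMul J).obj G), Mono ι' ∧ Coh.IsCoh G' ∧
        Nonempty (G'.presheaf.stalk y ≃ₗ[X.presheaf.stalk y] G.presheaf.stalk y) ∧ P G')
    (F : X.Modules) (hF : Coh.IsCoh F)
    (hk : ClSub.KilledByIdeal (Scheme.IdealSheafData.vanishingIdeal ⟨Z, hZ⟩) F) :
    P (pow1 F e) := by
  haveI := hF.1
  haveI := hF.2
  haveI := hG.1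
  haveI := hG.2
  have hyZ : y ∈ Z := hy.subset (subset_closure (Set.mem_singleton y))
  have IH' : ∀ M : X.Modules, Coh.IsCoh M → CohB1.support M ⊆ Z → y ∉ CohB1.support M → P M :=
    fun M hM h1 h2 => IH M hM h1 (fun h => h2 (h ▸ hyZ))
  have hFZ : CohB1.support F ⊆ Z := by
    have h1 := support_subset_of_killed _ F hk
    rwa [Scheme.IdealSheafData.coe_support_vanishingIdeal] at h1
  have hB : Coh.IsCoh (pow1 F e) := isCoh_pow1 hF e
  have hBZ : CohB1.support (pow1 F e) ⊆ Z := (support_pow1_subset hF e).trans hFZ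
  obtain ⟨d, ⟨eF⟩⟩ := exists_stalk_equiv hF Z hZ y hy hk
  cases d with
  | zero =>
    apply IH' _ hB hBZ
    intro hyB
    have hyF : y ∈ CohB1.support F := support_pow1_subset hF e hyB
    apply hyF
    exact eF.toEquiv.subsingleton
  | succ d' =>
    have hA : Coh.IsCoh (pow1 G d') := isCoh_pow1 hG d'
    have hAZ : CohB1.support (pow1 G d') ⊆ Z := (support_pow1_subset hG d').trans hGZ
    obtain ⟨ePF⟩ := stalkPow1Equiv F y e
    obtain ⟨ePG⟩ := stalkPow1Equiv G y d'
    -- both stalks are `κ^((d'+1)(e+1))`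
    let eA : (pow1 G d').presheaf.stalk y ≃ₗ[X.presheaf.stalk y]
        (Fin (d' + 1) → Fin (e + 1) → ResidueField (X.presheaf.stalk y)) :=
      ePG.trans (LinearEquiv.piCongrRight (fun _ => eG))
    let eB : (pow1 F e).presheaf.stalk y ≃ₗ[X.presheaf.stalk y]
        (Fin (d' + 1) → Fin (e + 1) → ResidueField (X.presheaf.stalk y)) :=
      (ePF.trans (LinearEquiv.piCongrRight (fun _ => eF))).trans (piSwap _ _ (e + 1) (d' + 1))
    obtain ⟨U, hU, hyU, ⟨eU⟩⟩ := exists_sections_equiv_of_stalk_equiv hA hB y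
      (eA.trans eB.symm)
    obtain ⟨H, p₁, p₂, hH, hHs, b1, b2⟩ := exists_roof hA hB hU eU
    obtain ⟨J₀, hJ₀⟩ : ∃ J : X.IdealSheafData,
      J = Scheme.IdealSheafData.vanishingIdeal ⟨(U : Set X)ᶜ, U.isOpen.isClosed_compl⟩ := ⟨_, rfl⟩
    have hJs : (J₀.support : Set X) = (U : Set X)ᶜ := by
      rw [hJ₀, Scheme.IdealSheafData.coe_support_vanishingIdeal]
      rfl
    obtain ⟨n₁, hn₁⟩ := exists_mono_idealMul_pow hH hA p₁ J₀
      (hJs ▸ support_kernel_subset_compl hH hA _ hU b1.1)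
    obtain ⟨n₂, hn₂⟩ := exists_mono_idealMul_pow hH hB p₂ J₀
      (hJs ▸ support_kernel_subset_compl hH hB _ hU b2.1)
    obtain ⟨m, hm⟩ := exists_lift_idealMul_pow hH hA p₁ J₀
      (hJs ▸ support_cokernel_subset_compl hH hA _ hU b1.2)
    obtain ⟨n, hn⟩ : ∃ n : ℕ, n = max n₁ n₂ + 1 := ⟨_, rfl⟩
    haveI hmono₁ : Mono (Dual3.idealMulι (J₀ ^ n) H ≫ p₁) := hn₁ n (by omega)
    haveI hmono₂ : Mono (Dual3.idealMulι (J₀ ^ n) H ≫ p₂) := hn₂ n (by omega)
    have hynot : y ∉ ((J₀ ^ (n + m)).support : Set X) := by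
      rw [Scheme.IdealSheafData.support_pow _ _ (by omega), hJs]
      exact fun h => h hyU
    obtain ⟨G', ι', hι', hG', ⟨eG'⟩, hPG'⟩ := hsub (J₀ ^ (n + m)) hynot
    haveI := hι'
    haveI : Mono (ι' ≫ Dual3.idealMulι (J₀ ^ (n + m)) G) := mono_comp _ _
    haveI hgm : Mono (powMap (ι' ≫ Dual3.idealMulι (J₀ ^ (n + m)) G) d') := mono_powMap _ d'
    obtain ⟨ψ, hψ⟩ := hm n (pow1 G' d') (powMap (ι' ≫ Dual3.idealMulι (J₀ ^ (n + m)) G) d')
      (fun V hV s => powMap_app_mem (ι' ≫ Dual3.idealMulι (J₀ ^ (n + m)) G)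
        (J₀.ideal ⟨V, hV⟩ ^ (n + m))
        (fun s' => by
          have h1 := idealMulι_app_mem (J₀ ^ (n + m)) G hV (ap ι' V s')
          exact h1) d' s) hmono₁
    haveI : Mono ψ := mono_of_mono_fac hψ
    haveI hΦ : Mono (ψ ≫ Dual3.idealMulι (J₀ ^ n) H ≫ p₂) := mono_comp _ _
    have hA' : Coh.IsCoh (pow1 G' d') := isCoh_pow1 hG' d'
    have hPA' : P (pow1 G' d') := K_pow1 P hext hG' hPG' d'
    -- the stalk of `Φ` is bijective
    obtain ⟨ePG'⟩ := stalkPow1Equiv G' y d'
    let eA' : (pow1 G' d').presheaf.stalk y ≃ₗ[X.presheaf.stalk y]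
        (Fin (d' + 1) → Fin (e + 1) → ResidueField (X.presheaf.stalk y)) :=
      ePG'.trans (LinearEquiv.piCongrRight (fun _ => eG'.trans eG))
    have hsurj : Function.Surjective
        (Algz.stalkMapₗ (ψ ≫ Dual3.idealMulι (J₀ ^ n) H ≫ p₂) y) :=
      surjective_of_injective_of_equiv eA' eB _
        (DescH8.stk_injective_of_mono (ψ ≫ Dual3.idealMulι (J₀ ^ n) H ≫ p₂) y)
    -- the cokernel
    have hC : Coh.IsCoh (cokernel (ψ ≫ Dual3.idealMulι (J₀ ^ n) H ≫ p₂)) :=
      CohKerH8.isCoh_cokernel hA' hB _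
    haveI := hB.1
    haveI := hC.1
    have hCZ : CohB1.support (cokernel (ψ ≫ Dual3.idealMulι (J₀ ^ n) H ≫ p₂)) ⊆ Z :=
      (support_subset_of_epi (cokernel.π _)).trans hBZ
    have hCy : y ∉ CohB1.support (cokernel (ψ ≫ Dual3.idealMulι (J₀ ^ n) H ≫ p₂)) := by
      intro hyC
      apply hyC
      refine ⟨fun a b => ?_⟩
      have key : ∀ c : (cokernel (ψ ≫ Dual3.idealMulι (J₀ ^ n) H ≫ p₂)).presheaf.stalk y,
          c = 0 := by
        intro c
        obtain ⟨b', rfl⟩ := EpiLoc.stalk_surjective_of_epi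
          (cokernel.π (ψ ≫ Dual3.idealMulι (J₀ ^ n) H ≫ p₂)) y c
        obtain ⟨a', rfl⟩ := hsurj b'
        have h1 := stalkMapₗ_comp (ψ ≫ Dual3.idealMulι (J₀ ^ n) H ≫ p₂)
          (cokernel.π (ψ ≫ Dual3.idealMulι (J₀ ^ n) H ≫ p₂)) y
        rw [cokernel.condition, stalkMapₗ_zero] at h1
        have h2 := LinearMap.congr_fun h1 a'
        exact h2.symm
      rw [key a, key b]
    have hPC : P (cokernel (ψ ≫ Dual3.idealMulι (J₀ ^ n) H ≫ p₂)) := IH' _ hC hCZ hCy
    let S : ShortComplex X.Modules :=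
      ShortComplex.mk (ψ ≫ Dual3.idealMulι (J₀ ^ n) H ≫ p₂) (cokernel.π _) (cokernel.condition _)
    have hS : S.ShortExact := ShortComplex.ShortExact.mk' (ShortComplex.exact_cokernel _)
      hΦ (inferInstanceAs (Epi (cokernel.π (ψ ≫ Dual3.idealMulι (J₀ ^ n) H ≫ p₂))))
    exact hext S hS hA' hB hC hPA' hPC

end Key

end CohDevH8
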