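import Mathlib
import Groth.Prelude
import Groth.Agent.Lib.CohDev12_helper8
import Groth.Agent.Lib.AffStrat2_helper4

/-!
# Artin–Rees for coherent sheaves (helper4)

`ARSheafH4.main`: for `X` Noetherian, `F` coherent, `G ⊆ F` quasi-coherent, `I` an ideal sheaf,
`I^(n-c) (I^c F ∩ G) = I^n F ∩ G` for all `n ≥ c`, for some `c`.
APPEND-ONLY once landed.
-/

set_option autoImplicit false

namespace Groth.Agent.Lib.ARSheafH4

open AlgebraicGeometry CategoryTheory CategoryTheory.Limits TopologicalSpace Opposite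
open QcqsLoc QCohExtn CohDevH8

universe u

section Alg

/-- Artin–Rees with a uniform constant: the identity holds for every `c ≥ k`. -/
theorem ar_uniform {R M : Type*} [CommRing R] [IsNoetherianRing R]
    [AddCommGroup M] [Module R M] [Module.Finite R M] (I : Ideal R) (N : Submodule R M) :
    ∃ k : ℕ, ∀ c ≥ k, ∀ n ≥ c,
      I ^ n • (⊤ : Submodule R M) ⊓ N = I ^ (n - c) • (I ^ c • (⊤ : Submodule R M) ⊓ N) := by
  obtain ⟨k, hk⟩ := Ideal.exists_pow_inf_eq_pow_smul I N
  refine ⟨k, fun c hc n hn => ?_⟩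
  rw [hk n (le_trans hc hn), hk c hc, ← Submodule.mul_smul, ← pow_add]
  congr 2
  omega

end Alg

section Cat

variable {C : Type*} [Category C] [Abelian C]

/-- `ker q ∩ G = ker (G → F → Q)` as subobjects of `F`. -/
theorem inf_mk_kernel {F G Q : C} (ι : G ⟶ F) [Mono ι] (q : F ⟶ Q) :
    Subobject.mk (kernel.ι q) ⊓ Subobject.mk ι = Subobject.mk (kernel.ι (ι ≫ q) ≫ ι) := by
  apply le_antisymm
  · have h1 : (Subobject.mk (kernel.ι q) ⊓ Subobject.mk ι).arrow ≫ q = 0 := by
      rw [← Subobject.ofLEMk_comp (f := kernel.ι q) inf_le_left, Category.assoc,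
        kernel.condition, comp_zero]
    have h2 := Subobject.ofLEMk_comp (X := Subobject.mk (kernel.ι q) ⊓ Subobject.mk ι) (f := ι)
      inf_le_right
    refine Subobject.le_mk_of_comm
      (kernel.lift (ι ≫ q) (Subobject.ofLEMk _ ι inf_le_right) ?_) ?_
    · rw [← Category.assoc, h2, h1]
    · rw [← Category.assoc, kernel.lift_ι, h2]
  · refine le_inf ?_ ?_
    · refine Subobject.mk_le_mk_of_comm (kernel.lift q (kernel.ι (ι ≫ q) ≫ ι) ?_) ?_
      · rw [Category.assoc, kernel.condition]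
      · rw [kernel.lift_ι]
    · exact Subobject.mk_le_mk_of_comm (kernel.ι (ι ≫ q)) rfl

end Cat

variable {X : Scheme.{u}}

/-- A morphism out of a quasi-coherent module vanishes if it kills the sections over the members
of an affine open cover. -/
theorem eq_zero_of_affine_cover {A B : X.Modules} [A.IsQuasicoherent] (φ : A ⟶ B)
    {κ : Type*} (U : κ → X.Opens) (hU : ∀ i, IsAffineOpen (U i)) (hcov : ∀ x : X, ∃ i, x ∈ U i)
    (h : ∀ i (s : Γ(A, U i)), ap φ (U i) s = 0) : φ = 0 := by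
  apply Scheme.Modules.hom_ext
  intro O
  ext y
  show ap φ O y = 0
  refine FComplH8.ap_eq_zero_of_locally φ O y (fun x hx => ?_)
  obtain ⟨i, hxi⟩ := hcov x
  obtain ⟨f, hfO, hxf⟩ := (hU i).exists_basicOpen_le ⟨x, hx⟩ hxi
  refine ⟨X.basicOpen f, hfO, hxf, ?_⟩
  obtain ⟨n, t, ht⟩ := Groth.Agent.Lib.QCohLoc_helper4.exists_res_eq_pow_smul A (hU i) f
    (rF A hfO y)
  have hle : X.basicOpen f ≤ U i := X.basicOpen_le f
  have ht' : rF A hle t = rX hle f ^ n • rF A hfO y := ht
  have h1 : ap φ (X.basicOpen f) (rF A hle t) = 0 := by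
    rw [ap_rF, h i t, map_zero]
  rw [ht', ap_smul] at h1
  have hu : IsUnit (rX hle f ^ n) := (X.toRingedSpace.isUnit_res_basicOpen f).pow n
  exact (hu.smul_eq_zero).mp h1

end Groth.Agent.Lib.ARSheafH4
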