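import Mathlib
import Groth.Prelude
import Groth.Agent.Lib.ARSheaf1_helper4
import Groth.Agent.Lib.SubExt_helper9
import Groth.Agent.Lib.QCohFT_helper9

/-!
# Artin–Rees for coherent sheaves, II (helper4)
APPEND-ONLY once landed.
-/

set_option autoImplicit false

namespace Groth.Agent.Lib.ARSheafH4

open AlgebraicGeometry CategoryTheory CategoryTheory.Limits TopologicalSpace Opposite
open QcqsLoc QCohExtn CohDevH8

universe u

variable {X : Scheme.{u}}

theorem ap_comp {A B C : X.Modules} (φ : A ⟶ B) (ψ : B ⟶ C) (V : X.Opens) (s : Γ(A, V)) :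
    ap (φ ≫ ψ) V s = ap ψ V (ap φ V s) := rfl

theorem ap_zero_hom {A B : X.Modules} (V : X.Opens) (s : Γ(A, V)) :
    ap (0 : A ⟶ B) V s = 0 := rfl

/-- The linear map on sections. -/
noncomputable def secLin {M N : X.Modules} (φ : M ⟶ N) (U : X.Opens) :
    Γ(M, U) →ₗ[Γ(X, U)] Γ(N, U) where
  toFun m := ap φ U m
  map_add' a b := map_add _ a b
  map_smul' r m := ap_smul φ r m

section Sheaf

variable {F G : X.Modules} [F.IsQuasicoherent] [G.IsQuasicoherent] (ι : G ⟶ F)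

theorem isQuasicoherent_quotJ (F : X.Modules) [F.IsQuasicoherent] (J : X.IdealSheafData) :
    (quotJ J F).IsQuasicoherent := by
  haveI : ((Scheme.Modules.pullback J.subschemeι).obj F).IsQuasicoherent := inferInstance
  exact QCohCrit.isQuasicoherent_pushforward J.subschemeι _

/-- `K_J = ker (G → F → F/JF)`, the submodule `JF ∩ G` of `G`. -/
noncomputable abbrev KK (J : X.IdealSheafData) : X.Modules := kernel (ι ≫ quotJπ J F)

instance isQuasicoherent_KK (J : X.IdealSheafData) : (KK ι J).IsQuasicoherent := by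
  haveI := isQuasicoherent_quotJ F J
  exact SubExt.isQuasicoherent_kernel (ι ≫ quotJπ J F)

theorem idealMulι_quotJπ (F : X.Modules) (J : X.IdealSheafData) :
    Dual3.idealMulι J F ≫ quotJπ J F = 0 := kernel.condition _

/-- `F → F/JF` kills `J(V)·F(V)`. -/
theorem quotJπ_kills (J : X.IdealSheafData) {V : X.Opens} (hV : IsAffineOpen V) (m : Γ(F, V))
    (hm : m ∈ (J.ideal ⟨V, hV⟩ • (⊤ : Submodule Γ(X, V) Γ(F, V)))) :
    ap (quotJπ J F) V m = 0 := by
  obtain ⟨s, hs⟩ := exists_idealMulι_app_eq J F hV m hm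
  rw [← hs, ← ap_comp, idealMulι_quotJπ]
  rfl

/-- The kernel of `F → F/JF` on sections over an affine open is `J(V)·F(V)`. -/
theorem mem_of_quotJπ_eq_zero (J : X.IdealSheafData) {V : X.Opens} (hV : IsAffineOpen V)
    (m : Γ(F, V)) (hm : ap (quotJπ J F) V m = 0) :
    m ∈ (J.ideal ⟨V, hV⟩ • (⊤ : Submodule Γ(X, V) Γ(F, V))) := by
  have hmem := NilAffH8.unit_app_ker J.subschemeι F hV m hm
  rw [Scheme.IdealSheafData.ker_subschemeι] at hmem
  exact hmem

/-- Sections of `K_J` map into `J(V)·F(V)`. -/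
theorem KK_app_mem (J : X.IdealSheafData) {V : X.Opens} (hV : IsAffineOpen V)
    (z : Γ(KK ι J, V)) :
    ap ι V (ap (kernel.ι (ι ≫ quotJπ J F)) V z) ∈
      (J.ideal ⟨V, hV⟩ • (⊤ : Submodule Γ(X, V) Γ(F, V))) := by
  apply mem_of_quotJπ_eq_zero J hV
  rw [← ap_comp, ← ap_comp, kernel.condition]
  rfl

/-- Sections of `G` mapping into `J(V)·F(V)` come from `K_J`. -/
theorem exists_KK_app_eq (J : X.IdealSheafData) {V : X.Opens} (hV : IsAffineOpen V)
    (y : Γ(G, V)) (hy : ap ι V y ∈ (J.ideal ⟨V, hV⟩ • (⊤ : Submodule Γ(X, V) Γ(F, V)))) :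
    ∃ z : Γ(KK ι J, V), ap (kernel.ι (ι ≫ quotJπ J F)) V z = y := by
  have h0 : ap (ι ≫ quotJπ J F) V y = 0 := by
    rw [ap_comp]
    exact quotJπ_kills J hV _ hy
  let S : ShortComplex X.Modules :=
    ShortComplex.mk (kernel.ι (ι ≫ quotJπ J F)) (ι ≫ quotJπ J F) (kernel.condition _)
  haveI : Mono S.f := inferInstanceAs (Mono (kernel.ι (ι ≫ quotJπ J F)))
  exact QCohExact.app_exact S (ShortComplex.exact_kernel _) V y h0

/-- `I^(n-c) (I^c F ∩ G) ⊆ I^n F`. -/
theorem le_side (I : X.IdealSheafData) (c n : ℕ) (hcn : c ≤ n) :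
    (Dual3.idealMulι (I ^ (n - c)) (KK ι (I ^ c)) ≫ kernel.ι (ι ≫ quotJπ (I ^ c) F) ≫ ι) ≫
      quotJπ (I ^ n) F = 0 := by
  apply eq_zero_of_affine
  intro V hV s
  rw [ap_comp]
  apply quotJπ_kills (I ^ n) hV
  rw [ap_comp]
  have h1 := idealMulι_app_mem (I ^ (n - c)) (KK ι (I ^ c)) hV s
  have key : ∀ m ∈ ((I ^ (n - c)).ideal ⟨V, hV⟩ •
      (⊤ : Submodule Γ(X, V) Γ(KK ι (I ^ c), V))),
      ap (kernel.ι (ι ≫ quotJπ (I ^ c) F) ≫ ι) V m ∈
        ((I ^ n).ideal ⟨V, hV⟩ • (⊤ : Submodule Γ(X, V) Γ(F, V))) := by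
    intro m hm
    refine Submodule.smul_induction_on hm ?_ ?_
    · intro r hr z _
      rw [ap_smul, ap_comp]
      have hz := KK_app_mem ι (I ^ c) hV z
      have hI : (I ^ n).ideal ⟨V, hV⟩ = (I ^ (n - c)).ideal ⟨V, hV⟩ * (I ^ c).ideal ⟨V, hV⟩ := by
        show I.ideal ⟨V, hV⟩ ^ n = I.ideal ⟨V, hV⟩ ^ (n - c) * I.ideal ⟨V, hV⟩ ^ c
        rw [← pow_add, Nat.sub_add_cancel hcn]
      rw [hI, Submodule.mul_smul]
      exact Submodule.smul_mem_smul hr hz
    · intro a b ha hb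
      rw [map_add]
      exact Submodule.add_mem _ ha hb
  exact key _ h1

end Sheaf

end Groth.Agent.Lib.ARSheafH4
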