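import Mathlib
import Groth.Prelude
import Groth.Agent.Lib.ARSheaf2_helper4

/-!
# Artin–Rees for coherent sheaves, III (helper4)
APPEND-ONLY once landed.
-/

set_option autoImplicit false

namespace Groth.Agent.Lib.ARSheafH4

open AlgebraicGeometry CategoryTheory CategoryTheory.Limits TopologicalSpace Opposite
open QcqsLoc QCohExtn CohDevH8

universe u

variable {X : Scheme.{u}}

section Sheaf

variable {F G : X.Modules} [F.IsQuasicoherent] [G.IsQuasicoherent] (ι : G ⟶ F) [Mono ι]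

/-- The inclusion `I^(n-c) (I^c F ∩ G) → G`. -/
noncomputable abbrev jj (I : X.IdealSheafData) (c n : ℕ) :
    (Dual3.idealMul (I ^ (n - c))).obj (KK ι (I ^ c)) ⟶ G :=
  Dual3.idealMulι (I ^ (n - c)) (KK ι (I ^ c)) ≫ kernel.ι (ι ≫ quotJπ (I ^ c) F)

instance mono_jj (I : X.IdealSheafData) (c n : ℕ) : Mono (jj ι I c n) := mono_comp _ _

/-- Every element of `I^(n-c)(V) (I^c(V) F(V) ∩ G(V))` is a section of `I^(n-c) (I^c F ∩ G)`. -/
theorem exists_jj_app_eq (I : X.IdealSheafData) (c n : ℕ) {V : X.Opens} (hV : IsAffineOpen V)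
    (m : Γ(F, V))
    (hm : m ∈ (I.ideal ⟨V, hV⟩ ^ (n - c) •
      ((I.ideal ⟨V, hV⟩ ^ c • (⊤ : Submodule Γ(X, V) Γ(F, V))) ⊓
        LinearMap.range (secLin ι V)))) :
    ∃ w : Γ((Dual3.idealMul (I ^ (n - c))).obj (KK ι (I ^ c)), V),
      ap ι V (ap (jj ι I c n) V w) = m := by
  refine Submodule.smul_induction_on hm ?_ ?_
  · intro r hr m' hm'
    obtain ⟨hm1, ⟨y', hy'⟩⟩ := hm'
    have hy'' : ap ι V y' = m' := hy'
    obtain ⟨z, hz⟩ := exists_KK_app_eq ι (I ^ c) hV y' (by rw [hy'']; exact hm1)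
    have hrz : r • z ∈ ((I ^ (n - c)).ideal ⟨V, hV⟩ •
        (⊤ : Submodule Γ(X, V) Γ(KK ι (I ^ c), V))) :=
      Submodule.smul_mem_smul hr Submodule.mem_top
    obtain ⟨w, hw⟩ := exists_idealMulι_app_eq (I ^ (n - c)) (KK ι (I ^ c)) hV (r • z) hrz
    refine ⟨w, ?_⟩
    rw [ap_comp, hw, ap_smul, ap_smul, hz, hy'']
  · intro a b ⟨wa, hwa⟩ ⟨wb, hwb⟩
    exact ⟨wa + wb, by rw [map_add, map_add, hwa, hwb]⟩

/-- `I^n F ∩ G ⊆ I^(n-c) (I^c F ∩ G)`, given Artin–Rees on the members of an affine cover. -/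
theorem ge_side (I : X.IdealSheafData) (c n : ℕ)
    {κ : Type*} (U : κ → X.Opens) (hU : ∀ i, IsAffineOpen (U i)) (hcov : ∀ x : X, ∃ i, x ∈ U i)
    (hAR : ∀ i, (I.ideal ⟨U i, hU i⟩ ^ n • (⊤ : Submodule Γ(X, U i) Γ(F, U i))) ⊓
        LinearMap.range (secLin ι (U i)) =
      I.ideal ⟨U i, hU i⟩ ^ (n - c) •
        ((I.ideal ⟨U i, hU i⟩ ^ c • (⊤ : Submodule Γ(X, U i) Γ(F, U i))) ⊓
          LinearMap.range (secLin ι (U i)))) :
    kernel.ι (ι ≫ quotJπ (I ^ n) F) ≫ cokernel.π (jj ι I c n) = 0 := by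
  refine eq_zero_of_affine_cover _ U hU hcov (fun i s => ?_)
  rw [ap_comp]
  have h1 := KK_app_mem ι (I ^ n) (hU i) s
  have h2 : ap ι (U i) (ap (kernel.ι (ι ≫ quotJπ (I ^ n) F)) (U i) s) ∈
      (I.ideal ⟨U i, hU i⟩ ^ n • (⊤ : Submodule Γ(X, U i) Γ(F, U i))) ⊓
        LinearMap.range (secLin ι (U i)) := ⟨h1, ⟨_, rfl⟩⟩
  rw [hAR i] at h2
  obtain ⟨w, hw⟩ := exists_jj_app_eq ι I c n (hU i) _ h2
  have hinj := QCohExact.app_injective_of_mono ι (U i)
  have hw' : ap (jj ι I c n) (U i) w = ap (kernel.ι (ι ≫ quotJπ (I ^ n) F)) (U i) s :=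
    hinj hw
  rw [← hw', ← ap_comp, cokernel.condition]
  rfl

end Sheaf

section Main

variable [IsNoetherian X]

theorem mk_idealMul_congr (J : X.IdealSheafData) {P K F : X.Modules} (p : P ⟶ F) (k : K ⟶ F)
    [Mono p] [Mono k] (e : P ≅ K) (he : e.hom ≫ k = p) :
    Subobject.mk (Dual3.idealMulι J P ≫ p) = Subobject.mk (Dual3.idealMulι J K ≫ k) := by
  refine Subobject.mk_eq_mk_of_comm _ _ ((Dual3.idealMul J).mapIso e) ?_
  rw [Functor.mapIso_hom, Dual3.idealMul_map_ι_assoc, he]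

theorem main (F G : X.Modules) (hF : Coh.IsCoh F) (hG : Coh.IsQCoh G) (ι : G ⟶ F) [Mono ι]
    (I : X.IdealSheafData) :
    ∃ c : ℕ, ∀ n : ℕ, c ≤ n →
      Subobject.mk (Dual3.idealMulι (I ^ (n - c))
          (Subobject.underlying.obj (Subobject.mk (Dual3.idealMulι (I ^ c) F) ⊓ Subobject.mk ι)) ≫
        (Subobject.mk (Dual3.idealMulι (I ^ c) F) ⊓ Subobject.mk ι).arrow) =
      Subobject.mk (Dual3.idealMulι (I ^ n) F) ⊓ Subobject.mk ι := by
  classical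
  haveI : F.IsQuasicoherent := hF.1
  haveI : SheafOfModules.IsFiniteType (R := X.ringCatSheaf) F := hF.2
  haveI : G.IsQuasicoherent := hG
  obtain ⟨m, U, hU, hcov⟩ := Groth.Agent.Lib.AffStratH4.exists_fin_affine_cover X
  have hARi : ∀ i : Fin m, ∃ k : ℕ, ∀ c ≥ k, ∀ n ≥ c,
      (I.ideal ⟨U i, hU i⟩ ^ n • (⊤ : Submodule Γ(X, U i) Γ(F, U i))) ⊓
        LinearMap.range (secLin ι (U i)) =
      I.ideal ⟨U i, hU i⟩ ^ (n - c) •
        ((I.ideal ⟨U i, hU i⟩ ^ c • (⊤ : Submodule Γ(X, U i) Γ(F, U i))) ⊓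
          LinearMap.range (secLin ι (U i))) := by
    intro i
    haveI : IsNoetherianRing Γ(X, U i) :=
      IsLocallyNoetherian.component_noetherian ⟨U i, hU i⟩
    haveI : Module.Finite Γ(X, U i) Γ(F, U i) := QCohFT.finite_of_isFiniteType F (hU i)
    exact ar_uniform (I.ideal ⟨U i, hU i⟩) (LinearMap.range (secLin ι (U i)))
  choose k hk using hARi
  refine ⟨Finset.univ.sup k, fun n hn => ?_⟩
  set c := Finset.univ.sup k with hc
  have hkc : ∀ i, k i ≤ c := fun i => Finset.le_sup (Finset.mem_univ i)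
  -- the two intersections as kernels
  have hinf_c : Subobject.mk (Dual3.idealMulι (I ^ c) F) ⊓ Subobject.mk ι =
      Subobject.mk (kernel.ι (ι ≫ quotJπ (I ^ c) F) ≫ ι) := inf_mk_kernel ι (quotJπ (I ^ c) F)
  have hinf_n : Subobject.mk (Dual3.idealMulι (I ^ n) F) ⊓ Subobject.mk ι =
      Subobject.mk (kernel.ι (ι ≫ quotJπ (I ^ n) F) ≫ ι) := inf_mk_kernel ι (quotJπ (I ^ n) F)
  rw [hinf_n]
  have hL := mk_idealMul_congr (I ^ (n - c))
    (Subobject.mk (Dual3.idealMulι (I ^ c) F) ⊓ Subobject.mk ι).arrow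
    (kernel.ι (ι ≫ quotJπ (I ^ c) F) ≫ ι)
    (Subobject.isoOfEqMk _ _ hinf_c) (Subobject.ofLEMk_comp _)
  rw [hL]
  apply le_antisymm
  · refine Subobject.mk_le_mk_of_comm
      (kernel.lift (ι ≫ quotJπ (I ^ n) F) (jj ι I c n) ?_) ?_
    · have := le_side ι I c n hn
      simpa [Category.assoc] using this
    · rw [← Category.assoc, kernel.lift_ι, Category.assoc]
  · have h0 := ge_side ι I c n U hU hcov (fun i => hk i c (hkc i) n hn)
    refine Subobject.mk_le_mk_of_comm (Abelian.monoLift (jj ι I c n) _ h0) ?_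
    have h2 := congrArg (fun φ => φ ≫ ι) (Abelian.monoLift_comp (jj ι I c n) _ h0)
    simpa only [jj, Category.assoc] using h2

end Main

end Groth.Agent.Lib.ARSheafH4
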