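import Mathlib
import Groth.Prelude.Def_GrLC
import Groth.Agent.Lib.Ver3_helper1

/-! Graded local cohomology from a resolution by acyclic graded modules (helper1).
APPEND-ONLY once landed. -/

set_option autoImplicit false

namespace Groth.Agent.Lib.ARTH1

open DirectSum GrLC Groth.Agent.Lib.GrLES1H1 Groth.Agent.Lib.GrLES2H1 Groth.Agent.Lib.GrHDecH1
  Groth.Agent.Lib.Ver3H1

universe u

variable {ι : Type} [AddCommGroup ι] [DecidableEq ι]
variable {R : Type u} [CommRing R] {𝒜 : ι → AddSubgroup R} [GradedRing 𝒜]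
variable (A : ℕ → GMod.{u} 𝒜) (D : ∀ i : ℕ, (A i).carrier →ₗ[R] (A (i + 1)).carrier)

/-- the cocycles of the complex -/
def Zs (i : ℕ) : Submodule R (A i).carrier := LinearMap.ker (D i)

variable (D_gr : ∀ i, IsGrHom (A i).gr (A (i + 1)).gr (D i))

include D_gr in
theorem Zs_homog (i : ℕ) : (Zs A D i).IsHomogeneous (A i).gr :=
  GrStarH1.ker_isHomogeneous (A i).gr (A (i + 1)).gr (D_gr i)

/-- the cocycles as a graded module -/
noncomputable def ZG (i : ℕ) : GMod.{u} 𝒜 :=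
  GrStar4H1.subGMod 𝒜 (A i).gr (Zs A D i) (Zs_homog A D D_gr i)

/-- inclusion of the cocycles -/
noncomputable def zinc (i : ℕ) : (ZG A D D_gr i).carrier →ₗ[R] (A i).carrier :=
  (Zs A D i).subtype

theorem zinc_injective (i : ℕ) : Function.Injective (zinc A D D_gr i) := Subtype.val_injective

theorem D_zinc (i : ℕ) (z : (ZG A D D_gr i).carrier) : D i (zinc A D D_gr i z) = 0 := z.2

theorem mem_ZG_gr (i : ℕ) {j : ι} {z : (ZG A D D_gr i).carrier} :
    z ∈ (ZG A D D_gr i).gr j ↔ zinc A D D_gr i z ∈ (A i).gr j := Iff.rfl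

theorem zinc_gr (i : ℕ) : IsGrHom (ZG A D D_gr i).gr (A i).gr (zinc A D D_gr i) :=
  fun _ _ h => h

/-- build a cocycle -/
def mkZs (i : ℕ) (x : (A i).carrier) (hx : D i x = 0) : (ZG A D D_gr i).carrier := ⟨x, hx⟩

theorem zinc_mkZs (i : ℕ) (x : (A i).carrier) (hx : D i x = 0) :
    zinc A D D_gr i (mkZs A D D_gr i x hx) = x := rfl

variable (D_exact : ∀ i, LinearMap.ker (D (i + 1)) = LinearMap.range (D i))

include D_exact in
theorem D_mem_Zs (i : ℕ) (x : (A i).carrier) : D i x ∈ Zs A D (i + 1) := by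
  show D i x ∈ LinearMap.ker (D (i + 1))
  rw [D_exact]
  exact LinearMap.mem_range_self _ x

/-- the corestricted differential -/
noncomputable def sesP (i : ℕ) : (A i).carrier →ₗ[R] (ZG A D D_gr (i + 1)).carrier :=
  show (A i).carrier →ₗ[R] ↥(Zs A D (i + 1)) from
    (D i).codRestrict (Zs A D (i + 1)) (D_mem_Zs A D D_exact i)

theorem zinc_sesP (i : ℕ) (x : (A i).carrier) :
    zinc A D D_gr (i + 1) (sesP A D D_gr D_exact i x) = D i x := rfl

/-- the short exact sequences of the complex -/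
noncomputable def ses (i : ℕ) :
    SES R (ZG A D D_gr i).gr (A i).gr (ZG A D D_gr (i + 1)).gr where
  u := zinc A D D_gr i
  p := sesP A D D_gr D_exact i
  hu := fun j x hx => hx
  hp := fun j x hx => D_gr i j x hx
  inj := zinc_injective A D D_gr i
  surj := by
    intro z
    have hz : zinc A D D_gr (i + 1) z ∈ LinearMap.range (D i) := by
      rw [← D_exact]
      exact z.2
    obtain ⟨x, hx⟩ := hz
    exact ⟨x, zinc_injective A D D_gr (i + 1) (by rw [zinc_sesP, hx])⟩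
  exact := by
    ext x
    constructor
    · intro hx
      have h1 : D i x = 0 := by
        rw [← zinc_sesP A D D_gr D_exact, LinearMap.mem_ker.1 hx, map_zero]
      exact ⟨mkZs A D D_gr i x h1, rfl⟩
    · rintro ⟨z, rfl⟩
      rw [LinearMap.mem_ker]
      apply zinc_injective A D D_gr (i + 1)
      rw [zinc_sesP, D_zinc, map_zero]

theorem zinc_ses_p (i : ℕ) (x : (A i).carrier) :
    zinc A D D_gr (i + 1) ((ses A D D_gr D_exact i).p x) = D i x := rfl

variable (a : HomogeneousIdeal 𝒜)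

/-- the coboundary condition -/
def Bdry : (n : ℕ) → (ZG A D D_gr n).carrier → Prop
  | 0, z => z = 0
  | n + 1, z => ∃ y : (A n).carrier, y ∈ gam a.toIdeal (A n).carrier ∧
      D n y = zinc A D D_gr (n + 1) z

/-- the conclusion of the acyclic resolution theorem -/
structure IsART (n : ℕ) {H : Type u} [AddCommGroup H] [Module R H] (ℋ : ι → AddSubgroup H)
    (c : ↥(gam a.toIdeal (ZG A D D_gr n).carrier) →ₗ[R] H) : Prop where
  surj : Function.Surjective c
  ker : ∀ z, c z = 0 ↔ Bdry A D D_gr a n z.1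
  mem : ∀ (j : ι) (z : ↥(gam a.toIdeal (ZG A D D_gr n).carrier)),
    z.1 ∈ (ZG A D D_gr n).gr j → c z ∈ ℋ j
  lift : ∀ (j : ι) (h : H), h ∈ ℋ j →
    ∃ z : ↥(gam a.toIdeal (ZG A D D_gr n).carrier), z.1 ∈ (ZG A D D_gr n).gr j ∧ c z = h

variable (hacyc : ∀ (i : ℕ) (G : StarInjRes 𝒜 (A i).gr) (p : ℕ), 1 ≤ p → Subsingleton (G.H a p))

include hacyc in
theorem les_data (i : ℕ) (F : StarInjRes 𝒜 (ZG A D D_gr i).gr) :
    ∃ (G : StarInjRes 𝒜 (A i).gr) (F' : StarInjRes 𝒜 (ZG A D D_gr (i + 1)).gr)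
      (ψ : CMap G F'),
      (∀ x, ψ.f 0 (G.ε x) = F'.ε ((ses A D D_gr D_exact i).p x)) ∧
      ∀ p : ℕ, ∃ δ : F'.H a p →ₗ[R] F.H a (p + 1),
        IsGrHom (F'.Hgr a p) (F.Hgr a (p + 1)) δ ∧
        LinearMap.ker δ = LinearMap.range (ψ.H a p) ∧ Function.Surjective δ ∧
        (1 ≤ p → Function.Injective δ) := by
  obtain ⟨G⟩ := GrStar2H1.main13215 𝒜 (A i).gr
  obtain ⟨F'⟩ := GrStar2H1.main13215 𝒜 (ZG A D D_gr (i + 1)).gr
  obtain ⟨φc, hφc⟩ := exists_lift F G (ses A D D_gr D_exact i).u (ses A D D_gr D_exact i).hu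
  obtain ⟨ψc, hψc⟩ := exists_lift G F' (ses A D D_gr D_exact i).p (ses A D D_gr D_exact i).hp
  obtain ⟨-, hles⟩ := les (ses A D D_gr D_exact i) F G F' φc hφc ψc hψc a
  refine ⟨G, F', ψc, hψc, fun p => ?_⟩
  obtain ⟨-, δ, hδgr, hδker, hδrange⟩ := hles p
  refine ⟨δ, hδgr, hδker, ?_, ?_⟩
  · haveI := hacyc i G (p + 1) (Nat.le_add_left 1 p)
    rw [← LinearMap.range_eq_top, ← hδrange]
    exact eq_top_iff.2 fun y _ => LinearMap.mem_ker.2 (Subsingleton.elim _ _)
  · intro hp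
    haveI := hacyc i G p hp
    rw [← LinearMap.ker_eq_bot, hδker, eq_bot_iff]
    rintro _ ⟨h, rfl⟩
    rw [Subsingleton.elim h 0, map_zero]
    exact Submodule.zero_mem _

/-- the inductive statement -/
def QP (p : ℕ) : Prop :=
  ∀ (i n : ℕ), n = p + 1 + i → ∀ F : StarInjRes 𝒜 (ZG A D D_gr i).gr,
    ∃ c : ↥(gam a.toIdeal (ZG A D D_gr n).carrier) →ₗ[R] F.H a (p + 1),
      IsART A D D_gr a n (F.Hgr a (p + 1)) c

include hacyc D_exact in
theorem QP_zero : QP A D D_gr a 0 := by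
  intro i n hn F
  have hn' : n = i + 1 := by omega
  subst hn'
  obtain ⟨G, F', ψc, hψc, hδ⟩ := les_data A D D_gr D_exact a hacyc i F
  obtain ⟨δ, hδgr, hδker, hδsurj, -⟩ := hδ 0
  refine ⟨δ ∘ₗ Theta0 F' a, ⟨hδsurj.comp (Theta0_surjective F' a), fun z => ?_, fun j z hz => ?_,
    fun j h hh => ?_⟩⟩
  · show δ (Theta0 F' a z) = 0 ↔ _
    constructor
    · intro hz
      have h1 : Theta0 F' a z ∈ LinearMap.ker δ := hz
      rw [hδker] at h1
      obtain ⟨h, hh⟩ := h1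
      obtain ⟨y, rfl⟩ := Theta0_surjective G a h
      rw [Theta0_nat G a F' ψc (ses A D D_gr D_exact i).p hψc y] at hh
      have h2 := Theta0_injective F' a hh
      refine ⟨y.1, y.2, ?_⟩
      have h3 := congrArg (fun w : ↥(gam a.toIdeal (ZG A D D_gr (i + 1)).carrier) =>
        zinc A D D_gr (i + 1) w.1) h2
      exact h3
    · rintro ⟨y, hy, hDy⟩
      have h2 : (⟨(ses A D D_gr D_exact i).p y, map_mem_gam (ses A D D_gr D_exact i).p hy⟩ :
          ↥(gam a.toIdeal (ZG A D D_gr (i + 1)).carrier)) = z :=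
        Subtype.ext (zinc_injective A D D_gr (i + 1) hDy)
      have h1 : Theta0 F' a z ∈ LinearMap.range (ψc.H a 0) :=
        ⟨Theta0 G a ⟨y, hy⟩, by
          rw [Theta0_nat G a F' ψc (ses A D D_gr D_exact i).p hψc ⟨y, hy⟩, h2]⟩
      rw [← hδker] at h1
      exact h1
  · exact hδgr j _ (Theta0_mem_gr F' a z hz)
  · letI := HDecomp 𝒜 (ZG A D D_gr (i + 1)).gr a F' 0
    letI := HDecomp 𝒜 (ZG A D D_gr i).gr a F (0 + 1)
    obtain ⟨h', hh', rfl⟩ := piece_surj (F'.Hgr a 0) (F.Hgr a (0 + 1)) δ hδgr hδsurj hh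
    obtain ⟨z, hz, rfl⟩ := Theta0_gr_surj F' a hh'
    exact ⟨z, hz, rfl⟩

include hacyc D_exact in
theorem QP_succ (p : ℕ) (ih : QP A D D_gr a p) : QP A D D_gr a (p + 1) := by
  intro i n hn F
  obtain ⟨G, F', ψc, hψc, hδ⟩ := les_data A D D_gr D_exact a hacyc i F
  obtain ⟨δ, hδgr, hδker, hδsurj, hδinj⟩ := hδ (p + 1)
  have hδinj' := hδinj (Nat.le_add_left 1 p)
  obtain ⟨c', hc'⟩ := ih (i + 1) n (by omega) F'
  refine ⟨δ ∘ₗ c', ⟨hδsurj.comp hc'.surj, fun z => ?_, fun j z hz => ?_, fun j h hh => ?_⟩⟩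
  · show δ (c' z) = 0 ↔ _
    rw [← hc'.ker z]
    constructor
    · intro h
      exact hδinj' (by rw [h, map_zero])
    · intro h
      rw [h, map_zero]
  · exact hδgr j _ (hc'.mem j z hz)
  · letI := HDecomp 𝒜 (ZG A D D_gr (i + 1)).gr a F' (p + 1)
    letI := HDecomp 𝒜 (ZG A D D_gr i).gr a F (p + 1 + 1)
    obtain ⟨h', hh', rfl⟩ :=
      piece_surj (F'.Hgr a (p + 1)) (F.Hgr a (p + 1 + 1)) δ hδgr hδsurj hh
    obtain ⟨z, hz, rfl⟩ := hc'.lift j h' hh'
    exact ⟨z, hz, rfl⟩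

include hacyc D_exact in
theorem QP_all (p : ℕ) : QP A D D_gr a p := by
  induction p with
  | zero => exact QP_zero A D D_gr D_exact a hacyc
  | succ p ih => exact QP_succ A D D_gr D_exact a hacyc p ih

theorem Q0 (F : StarInjRes 𝒜 (ZG A D D_gr 0).gr) :
    IsART A D D_gr a 0 (F.Hgr a 0) (Theta0 F a) := by
  refine ⟨Theta0_surjective F a, fun z => ?_, fun j z hz => Theta0_mem_gr F a z hz,
    fun j h hh => Theta0_gr_surj F a hh⟩
  constructor
  · intro hz
    have h1 : z = 0 := Theta0_injective F a (by rw [map_zero]; exact hz)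
    show z.1 = 0
    rw [h1]
    rfl
  · intro hz
    have hz' : z.1 = 0 := hz
    have h1 : z = 0 := Subtype.ext hz'
    rw [h1, map_zero]

include hacyc D_exact in
/-- The acyclic resolution theorem: the graded local cohomology of the module of `0`-cocycles of an
exact complex of acyclic graded modules is the cohomology of the torsion subcomplex. -/
theorem main (F : StarInjRes 𝒜 (ZG A D D_gr 0).gr) (p : ℕ) :
    ∃ c : ↥(gam a.toIdeal (ZG A D D_gr p).carrier) →ₗ[R] F.H a p,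
      IsART A D D_gr a p (F.Hgr a p) c := by
  cases p with
  | zero => exact ⟨Theta0 F a, Q0 A D D_gr a F⟩
  | succ p => exact QP_all A D D_gr D_exact a hacyc p 0 (p + 1) (by omega) F

end Groth.Agent.Lib.ARTH1
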