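import Mathlib
import Groth.Prelude.Def_EtBase

/-!
# The small étale site of a scheme: covering sieves by points, fibre products, vanishing loci
(helper7)
-/

set_option autoImplicit false
set_option backward.isDefEq.respectTransparency false
universe u
open CategoryTheory CategoryTheory.Limits AlgebraicGeometry Opposite

namespace Groth.Agent.Lib.EtSchSite_helper7

variable {X : Scheme.{u}}

theorem sieve_mem_of_forall_exists {W : X.Etale} (R : Sieve W)
    (h : ∀ w : W.left, ∃ (V : X.Etale) (f : V ⟶ W), R f ∧ w ∈ Set.range f.left) :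
    R ∈ X.smallEtaleTopology W := by
  have h1 : Sieve.ofArrows (fun i : (Σ V : X.Etale, {f : V ⟶ W // R f}) => i.1)
      (fun i => i.2.1) ∈ X.smallEtaleTopology W := by
    rw [Scheme.ofArrows_mem_smallEtaleTopology_iff]
    ext w
    simp only [Set.mem_iUnion, Set.mem_univ, iff_true]
    obtain ⟨V, f, hf, hw⟩ := h w
    exact ⟨⟨V, f, hf⟩, hw⟩
  refine GrothendieckTopology.superset_covering _ ?_ h1
  rw [Sieve.ofArrows, Sieve.generate_le_iff]
  rintro Y g ⟨i⟩
  exact i.2.2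

theorem exists_prod {U V V₁ : X.Etale} (φ : V ⟶ U) (φ₁ : V₁ ⟶ U) (v : V.left) (v₁ : V₁.left)
    (h : φ.left v = φ₁.left v₁) :
    ∃ (P : X.Etale) (a : P ⟶ V) (b : P ⟶ V₁) (z : P.left),
      a ≫ φ = b ≫ φ₁ ∧ a.left z = v ∧ b.left z = v₁ := by
  obtain ⟨z, hz1, hz2⟩ :=
    Scheme.Pullback.exists_preimage_pullback (f := φ.left) (g := φ₁.left) v v₁ h
  haveI : Etale (pullback.fst φ.left φ₁.left ≫ V.hom) := inferInstance
  let P : X.Etale := Scheme.Etale.mk (pullback.fst φ.left φ₁.left ≫ V.hom)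
  let a : P ⟶ V := MorphismProperty.Over.homMk (pullback.fst φ.left φ₁.left) rfl trivial
  have hb : pullback.snd φ.left φ₁.left ≫ V₁.hom = pullback.fst φ.left φ₁.left ≫ V.hom := by
    rw [← MorphismProperty.Over.w φ₁, ← MorphismProperty.Over.w φ, ← Category.assoc,
      ← Category.assoc, pullback.condition]
  let b : P ⟶ V₁ := MorphismProperty.Over.homMk (pullback.snd φ.left φ₁.left) hb trivial
  refine ⟨P, a, b, z, ?_, hz1, hz2⟩
  apply MorphismProperty.Over.Hom.ext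
  exact pullback.condition

theorem map_comp_apply (F : EtCoh.Ab X) {A B C : X.Etale} (f : A ⟶ B) (g : B ⟶ C)
    (τ : EtCoh.sect F C) :
    F.obj.map (f ≫ g).op τ = F.obj.map f.op (F.obj.map g.op τ) := by
  rw [op_comp, Functor.map_comp]
  rfl

theorem exists_opens_vanishing (F : EtCoh.Ab X) (U : X.Etale) (σ : EtCoh.sect F U) :
    ∃ W : U.left.Opens, ∀ (V : X.Etale) (φ : V ⟶ U),
      F.obj.map φ.op σ = 0 ↔ Set.range φ.left.base ⊆ (W : Set U.left) := by
  let Wset : Set U.left := {x | ∃ (V : X.Etale) (φ : V ⟶ U),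
    F.obj.map φ.op σ = 0 ∧ x ∈ Set.range φ.left}
  have hopen : IsOpen Wset := by
    rw [isOpen_iff_forall_mem_open]
    rintro x ⟨V, φ, hφ, hx⟩
    exact ⟨Set.range φ.left, fun y hy => ⟨V, φ, hφ, hy⟩,
      φ.left.isOpenMap.isOpen_range, hx⟩
  refine ⟨⟨Wset, hopen⟩, fun V φ => ⟨?_, ?_⟩⟩
  · rintro h _ ⟨v, rfl⟩
    exact ⟨V, φ, h, v, rfl⟩
  · intro h
    refine Sheaf.isSeparated F V (Presheaf.equalizerSieve (F := F.obj) (X := op V)
      (F.obj.map φ.op σ) 0) ?_ _ 0 (fun Y f hf => hf)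
    apply sieve_mem_of_forall_exists
    intro v
    obtain ⟨V₁, φ₁, hφ₁, v₁, hv₁⟩ := h ⟨v, rfl⟩
    obtain ⟨P, a, b, z, hab, hz1, hz2⟩ := exists_prod φ φ₁ v v₁ hv₁.symm
    refine ⟨P, a, ?_, ⟨z, hz1⟩⟩
    show F.obj.map a.op (F.obj.map φ.op σ) = F.obj.map a.op 0
    rw [map_zero, ← map_comp_apply, hab, map_comp_apply, hφ₁, map_zero]

end Groth.Agent.Lib.EtSchSite_helper7
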