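import Mathlib
import Groth.Prelude.Def_EtBase

/-!
# An abstract criterion for a ring of germs at a separably closed point to be strictly henselian
(helper7)
-/

set_option autoImplicit false
universe u v w
open CategoryTheory CategoryTheory.Limits AlgebraicGeometry Polynomial

namespace Groth.Agent.Lib.StrictHens_helper7

/-- Evaluation of global functions at a field-valued point. -/
noncomputable def ev {K : Type u} [Field K] {U : Scheme.{u}}
    (ξ : Spec (CommRingCat.of K) ⟶ U) : Γ(U, ⊤) →+* K :=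
  (ξ.appTop ≫ (Scheme.ΓSpecIso (CommRingCat.of K)).hom).hom

theorem ev_comp {K : Type u} [Field K] {U V : Scheme.{u}} (ξ : Spec (CommRingCat.of K) ⟶ V)
    (g : V ⟶ U) (f : Γ(U, ⊤)) : ev (ξ ≫ g) f = ev ξ (g.appTop.hom f) := rfl

theorem inv_ev {K : Type u} [Field K] {U : Scheme.{u}} (ξ : Spec (CommRingCat.of K) ⟶ U)
    (f : Γ(U, ⊤)) :
    (Scheme.ΓSpecIso (CommRingCat.of K)).inv.hom (ev ξ f) = ξ.appTop.hom f := by
  show ((ξ.appTop ≫ (Scheme.ΓSpecIso _).hom) ≫ (Scheme.ΓSpecIso _).inv).hom f = _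
  rw [Category.assoc, Iso.hom_inv_id, Category.comp_id]

theorem ev_specMap {K : Type u} [Field K] {B : CommRingCat.{u}} (β : B ⟶ CommRingCat.of K)
    (b : B) : ev (Spec.map β) ((Scheme.ΓSpecIso B).inv.hom b) = β.hom b := by
  show (((Scheme.ΓSpecIso B).inv ≫ (Spec.map β).appTop) ≫
    (Scheme.ΓSpecIso (CommRingCat.of K)).hom).hom b = _
  rw [Category.assoc, Scheme.ΓSpecIso_naturality, Iso.inv_hom_id_assoc]

theorem isUnit_appTop_of_range_subset {V U : Scheme.{u}} (j : V ⟶ U) (f : Γ(U, ⊤))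
    (h : Set.range j ⊆ (U.basicOpen f : Set U)) : IsUnit (j.appTop.hom f) := by
  refine RingedSpace.isUnit_of_isUnit_germ V.toRingedSpace ⊤ _ (fun x _ => ?_)
  have hx : x ∈ V.basicOpen (j.appTop.hom f) := by
    rw [← Scheme.preimage_basicOpen_top]; exact h ⟨x, rfl⟩
  exact (Scheme.mem_basicOpen_top _ _ x).1 hx

/-- A simple root in `K` of a monic polynomial with coefficients global functions on `U` is the
value of a root of the polynomial on an étale neighbourhood. -/
theorem exists_etale_root {K : Type u} [Field K] {U : Scheme.{u}}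
    (ξ : Spec (CommRingCat.of K) ⟶ U) (F : Γ(U, ⊤)[X]) (hF : F.Monic) (α : K)
    (hα : (F.map (ev ξ)).eval α = 0) (hα' : (F.map (ev ξ)).derivative.eval α ≠ 0) :
    ∃ (V : Scheme.{u}) (g : V ⟶ U) (_ : Etale g) (ξ' : Spec (CommRingCat.of K) ⟶ V)
      (t : Γ(V, ⊤)), ξ' ≫ g = ξ ∧ (F.map g.appTop.hom).eval t = 0 ∧ ev ξ' t = α := by
  let A : CommRingCat.{u} := Γ(U, ⊤)
  let P : StandardEtalePair A := ⟨F, hF, derivative F, ⟨1, 0, 1, by simp⟩⟩
  let B : CommRingCat.{u} := CommRingCat.of P.Ring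
  let ι : A ⟶ B := CommRingCat.ofHom (algebraMap A P.Ring)
  letI algK : Algebra A K := (ev ξ).toAlgebra
  have halg : algebraMap A K = ev ξ := RingHom.algebraMap_toAlgebra _
  have hmap : P.HasMap α := by
    constructor
    · show aeval α F = 0
      rw [aeval_def, eval₂_eq_eval_map, halg]; exact hα
    · show IsUnit (aeval α (derivative F))
      rw [aeval_def, eval₂_eq_eval_map, halg, ← derivative_map]
      exact IsUnit.mk0 _ hα'
  let βa : P.Ring →ₐ[A] K := P.lift α hmap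
  let β : B ⟶ CommRingCat.of K := CommRingCat.ofHom βa.toRingHom
  have hβX : β.hom P.X = α := P.lift_X α hmap
  have hιβ : ι ≫ β = ξ.appTop ≫ (Scheme.ΓSpecIso (CommRingCat.of K)).hom := by
    ext a
    show βa (algebraMap A P.Ring a) = ev ξ a
    rw [βa.commutes, halg]
  have hE : Etale (Spec.map ι) := by
    rw [HasRingHomProperty.Spec_iff (P := @Etale)]
    exact RingHom.etale_algebraMap.2 inferInstance
  have hsq : ξ ≫ U.toSpecΓ = Spec.map β ≫ Spec.map ι := by
    rw [Scheme.toSpecΓ_naturality, ← SpecMap_ΓSpecIso_hom, ← Spec.map_comp, ← Spec.map_comp, hιβ]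
  obtain ⟨g, hg⟩ : ∃ g : pullback U.toSpecΓ (Spec.map ι) ⟶ U, g = pullback.fst _ _ := ⟨_, rfl⟩
  obtain ⟨s, hs⟩ : ∃ s : pullback U.toSpecΓ (Spec.map ι) ⟶ Spec B, s = pullback.snd _ _ :=
    ⟨_, rfl⟩
  have hcond : g ≫ U.toSpecΓ = s ≫ Spec.map ι := by rw [hg, hs]; exact pullback.condition
  haveI : Etale g := by rw [hg]; exact MorphismProperty.pullback_fst (P := @Etale) _ _ hE
  obtain ⟨ξ', hξ'⟩ : ∃ ξ' : Spec (CommRingCat.of K) ⟶ pullback U.toSpecΓ (Spec.map ι),
      ξ' = pullback.lift ξ (Spec.map β) hsq := ⟨_, rfl⟩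
  have hξ'g : ξ' ≫ g = ξ := by rw [hξ', hg]; exact pullback.lift_fst _ _ _
  have hξ's : ξ' ≫ s = Spec.map β := by rw [hξ', hs]; exact pullback.lift_snd _ _ _
  have hψ : ι ≫ (Scheme.ΓSpecIso B).inv ≫ s.appTop = g.appTop := by
    rw [Scheme.ΓSpecIso_inv_naturality_assoc, ← Scheme.Hom.comp_appTop, ← hcond,
      Scheme.Hom.comp_appTop, Scheme.toSpecΓ_appTop, Iso.inv_hom_id_assoc]
  refine ⟨_, g, inferInstance, ξ', ((Scheme.ΓSpecIso B).inv ≫ s.appTop).hom P.X, hξ'g, ?_, ?_⟩
  · have h1 : g.appTop.hom = ((Scheme.ΓSpecIso B).inv ≫ s.appTop).hom.comp ι.hom := by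
      rw [← CommRingCat.hom_comp, hψ]
    have h2 : F.eval₂ ι.hom P.X = 0 := P.hasMap_X.1
    rw [h1, Polynomial.eval_map, ← Polynomial.hom_eval₂, h2, map_zero]
  · show ev ξ' (s.appTop.hom ((Scheme.ΓSpecIso B).inv.hom P.X)) = α
    rw [← ev_comp, hξ's, ev_specMap, hβX]

/-- The abstract criterion. -/
theorem isStrictlyHenselian_of_germs {R : Type v} [CommRing R] {K : Type u} [Field K]
    [IsSepClosed K] (ε : R →+* K) {ι : Type w} (U : ι → Scheme.{u})
    (ξ : ∀ i, Spec (CommRingCat.of K) ⟶ U i) (φ : ∀ i, Γ(U i, ⊤) →+* R)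
    (hε : ∀ i f, ε (φ i f) = ev (ξ i) f)
    (h1 : ∀ s : Finset R, ∃ i, (↑s : Set R) ⊆ Set.range (φ i))
    (h2 : ∀ (i : ι) (V : Scheme.{u}) (g : V ⟶ U i) (_ : Etale g) (ξ' : Spec (CommRingCat.of K) ⟶ V),
      ξ' ≫ g = ξ i → ∃ (j : ι) (c : U j ⟶ V), ξ j ≫ c = ξ' ∧
        ∀ f, φ j ((c ≫ g).appTop.hom f) = φ i f) :
    IsLocalRing R ∧ EtCoh.IsStrictlyHenselianLocalRing R := by
  -- units
  have hunit : ∀ r : R, ε r ≠ 0 → IsUnit r := by
    intro r hr
    obtain ⟨i, hi⟩ := h1 {r}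
    obtain ⟨f, rfl⟩ := hi (Finset.mem_coe.2 (Finset.mem_singleton_self r))
    rw [hε] at hr
    have hrange : Set.range (ξ i) ⊆ ((U i).basicOpen f : Set (U i)) := by
      rintro _ ⟨x, rfl⟩
      have hu : IsUnit ((ξ i).appTop.hom f) := by
        have h0 : IsUnit (ev (ξ i) f) := IsUnit.mk0 _ hr
        have := h0.map (Scheme.ΓSpecIso (CommRingCat.of K)).inv.hom
        rwa [inv_ev] at this
      have htop : (ξ i) ⁻¹ᵁ ((U i).basicOpen f) = ⊤ := by
        rw [Scheme.preimage_basicOpen_top]; exact Scheme.basicOpen_of_isUnit _ hu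
      have hx : x ∈ (ξ i) ⁻¹ᵁ ((U i).basicOpen f) := by rw [htop]; trivial
      exact hx
    have hrange' : Set.range (ξ i) ⊆ Set.range ((U i).basicOpen f).ι := by
      rwa [Scheme.Opens.range_ι]
    have hξ' : IsOpenImmersion.lift ((U i).basicOpen f).ι (ξ i) hrange' ≫
        ((U i).basicOpen f).ι = ξ i := IsOpenImmersion.lift_fac _ _ _
    obtain ⟨j, c, -, hc⟩ := h2 i _ ((U i).basicOpen f).ι inferInstance _ hξ'
    rw [← hc f, Scheme.Hom.comp_appTop]
    have hu : IsUnit (((U i).basicOpen f).ι.appTop.hom f) :=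
      isUnit_appTop_of_range_subset _ f (by rw [Scheme.Opens.range_ι])
    exact (hu.map c.appTop.hom).map (φ j)
  have hiff : ∀ r : R, IsUnit r ↔ ε r ≠ 0 := fun r => ⟨fun h => (h.map ε).ne_zero, hunit r⟩
  haveI : Nontrivial R := ⟨⟨0, 1, fun h => by
    have := congrArg ε h
    rw [map_zero, map_one] at this
    exact zero_ne_one this⟩⟩
  have hloc : IsLocalRing R := IsLocalRing.of_nonunits_add (by
    intro a b ha hb
    rw [mem_nonunits_iff, hiff, not_not] at ha hb ⊢
    rw [map_add, ha, hb, add_zero])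
  have hmax : ∀ r : R, r ∈ IsLocalRing.maximalIdeal R ↔ ε r = 0 := by
    intro r
    rw [IsLocalRing.mem_maximalIdeal, mem_nonunits_iff, hiff, not_not]
  -- the core lemma
  have core : ∀ f : R[X], f.Monic → ∀ α : K, (f.map ε).eval α = 0 →
      (f.map ε).derivative.eval α ≠ 0 → ∃ a : R, f.eval a = 0 ∧ ε a = α := by
    intro f hf α hα hα'
    obtain ⟨i, hi⟩ := h1 f.coeffs
    have hlift : f ∈ Polynomial.lifts (φ i) := by
      rw [Polynomial.lifts_iff_coeff_lifts]
      intro n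
      by_cases hn : f.coeff n = 0
      · exact ⟨0, by rw [map_zero, hn]⟩
      · exact hi (Finset.mem_coe.2 (Polynomial.coeff_mem_coeffs hn))
    obtain ⟨F, hFmap, -, hFm⟩ := Polynomial.lifts_and_natDegree_eq_and_monic hlift hf
    have hεφ : ε.comp (φ i) = ev (ξ i) := RingHom.ext (hε i)
    have hFε : F.map (ev (ξ i)) = f.map ε := by
      rw [← hFmap, Polynomial.map_map, hεφ]
    obtain ⟨V, g, hg, ξ', t, hξ', ht0, htα⟩ :=
      exists_etale_root (ξ i) F hFm α (by rw [hFε]; exact hα) (by rw [hFε]; exact hα')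
    obtain ⟨j, c, hc1, hc2⟩ := h2 i V g hg ξ' hξ'
    refine ⟨φ j (c.appTop.hom t), ?_, ?_⟩
    · have hφ : φ i = ((φ j).comp c.appTop.hom).comp g.appTop.hom := by
        ext f'
        exact (hc2 f').symm
      rw [← hFmap, hφ, ← Polynomial.map_map, Polynomial.eval_map]
      have : ((φ j).comp c.appTop.hom) t = φ j (c.appTop.hom t) := rfl
      rw [← this, Polynomial.eval₂_at_apply, ht0, map_zero]
    · rw [hε, ← ev_comp, hc1, htα]
  have hhens : HenselianLocalRing R :=
    { toIsLocalRing := hloc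
      is_henselian := by
        intro f hf a₀ h0 h0'
        have e1 : (f.map ε).eval (ε a₀) = 0 := by
          rw [Polynomial.eval_map, Polynomial.eval₂_at_apply]
          exact (hmax _).1 h0
        have e2 : (f.map ε).derivative.eval (ε a₀) ≠ 0 := by
          rw [Polynomial.derivative_map, Polynomial.eval_map, Polynomial.eval₂_at_apply]
          exact (h0'.map ε).ne_zero
        obtain ⟨a, ha, haα⟩ := core f hf (ε a₀) e1 e2
        refine ⟨a, ha, ?_⟩
        rw [hmax, map_sub, haα, sub_self] }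
  refine ⟨hloc, hhens, ?_⟩
  haveI : IsLocalHom ε := ⟨fun r hr => hunit r hr.ne_zero⟩
  have hεbar : ∀ r, IsLocalRing.ResidueField.lift ε (IsLocalRing.residue R r) = ε r :=
    IsLocalRing.ResidueField.lift_residue_apply ε
  apply IsSepClosed.of_exists_root
  intro p hpm hpi hps
  have hlift : p ∈ Polynomial.lifts (IsLocalRing.residue R) := by
    rw [Polynomial.lifts_iff_coeff_lifts]
    intro n
    exact IsLocalRing.residue_surjective _
  obtain ⟨f, hfp, -, hfm⟩ := Polynomial.lifts_and_natDegree_eq_and_monic hlift hpm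
  have hmap : f.map ε = p.map (IsLocalRing.ResidueField.lift ε) := by
    have hcomp : (IsLocalRing.ResidueField.lift ε).comp (IsLocalRing.residue R) = ε :=
      RingHom.ext hεbar
    rw [← hfp, Polynomial.map_map, hcomp]
  have hsep : (f.map ε).Separable := by rw [hmap]; exact hps.map
  have hdeg : (f.map ε).degree ≠ 0 := by
    rw [hmap, Polynomial.degree_map]
    exact (Polynomial.degree_pos_of_irreducible hpi).ne'
  obtain ⟨α, hα⟩ := IsSepClosed.exists_root (f.map ε) hdeg hsep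
  have hα0 : (f.map ε).eval α = 0 := hα
  have hα' : (f.map ε).derivative.eval α ≠ 0 := by
    obtain ⟨a, b, hab⟩ := hsep
    intro h0
    have := congrArg (Polynomial.eval α) hab
    rw [Polynomial.eval_add, Polynomial.eval_mul, Polynomial.eval_mul, hα0, h0, mul_zero,
      mul_zero, add_zero, Polynomial.eval_one] at this
    exact zero_ne_one this
  obtain ⟨a, ha, -⟩ := core f hfm α hα0 hα'
  refine ⟨IsLocalRing.residue R a, ?_⟩
  rw [← hfp, Polynomial.eval_map, Polynomial.eval₂_at_apply, ha, map_zero]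

end Groth.Agent.Lib.StrictHens_helper7
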