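import Mathlib
import Groth.Prelude.Def_EtGm
import Groth.Agent.Lib.StrictHens_helper7
import Groth.Agent.Lib.EtSchSite_helper7

/-!
# The Kummer sequence: the `n`-th power map on `G_m` is an epimorphism when `n` is invertible
(helper7)
-/

set_option autoImplicit false
set_option backward.isDefEq.respectTransparency false
universe u v w
open CategoryTheory CategoryTheory.Limits AlgebraicGeometry Opposite Polynomial

namespace Groth.Agent.Lib.Kummer_helper7

open Groth.Agent.Lib.StrictHens_helper7 Groth.Agent.Lib.EtSchSite_helper7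

theorem nsmul_hom_app_apply {C : Type w} [Category.{v} C] {J : GrothendieckTopology C}
    {P Q : Sheaf J AddCommGrpCat.{u}} (f : P ⟶ Q) (n : ℕ) (U : Cᵒᵖ) (τ : P.obj.obj U) :
    (n • f).hom.app U τ = n • (f.hom.app U τ) := by
  induction n with
  | zero => rw [zero_nsmul, zero_nsmul]; rfl
  | succ k ih => rw [succ_nsmul, succ_nsmul, ← ih]; rfl

/-- A geometric point through a given point of a scheme. -/
theorem exists_geometric_point {X : Scheme.{u}} (x : X) :
    ∃ (K : Type u) (_ : Field K) (_ : IsAlgClosed K) (ξ : Spec (CommRingCat.of K) ⟶ X),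
      ξ default = x := by
  refine ⟨AlgebraicClosure (X.residueField x), inferInstance, inferInstance,
    Spec.map (CommRingCat.ofHom (algebraMap (X.residueField x)
      (AlgebraicClosure (X.residueField x)))) ≫ X.fromSpecResidueField x, ?_⟩
  rw [Scheme.Hom.comp_apply]
  exact Scheme.fromSpecResidueField_apply _ _

/-- Étale-local extraction of `n`-th roots of units, `n` invertible. -/
theorem exists_etale_root_of_unit {S : Scheme.{u}} (n : ℕ) (hn : IsUnit (n : Γ(S, ⊤)))
    {U : Scheme.{u}} (q : U ⟶ S) (a : Γ(U, ⊤)) (ha : IsUnit a) (x : U) :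
    ∃ (V : Scheme.{u}) (g : V ⟶ U) (_ : Etale g) (t : Γ(V, ⊤)),
      x ∈ Set.range g ∧ IsUnit t ∧ t ^ n = g.appTop.hom a := by
  obtain ⟨K, _, _, ξ, hξ⟩ := exists_geometric_point x
  have hnK : IsUnit ((n : ℕ) : K) := by
    have h := hn.map ((ev ξ).comp q.appTop.hom)
    rwa [map_natCast] at h
  have hn0 : n ≠ 0 := by
    rintro rfl
    rw [Nat.cast_zero] at hnK
    exact not_isUnit_zero hnK
  have haK : ev ξ a ≠ 0 := (ha.map (ev ξ)).ne_zero
  obtain ⟨α, hα⟩ := IsAlgClosed.exists_pow_nat_eq (ev ξ a) (Nat.pos_of_ne_zero hn0)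
  have hα0 : α ≠ 0 := by
    rintro rfl
    rw [zero_pow hn0] at hα
    exact haK hα.symm
  have hF : (X ^ n - C a : Γ(U, ⊤)[X]).Monic := monic_X_pow_sub_C a hn0
  have hmap : (X ^ n - C a : Γ(U, ⊤)[X]).map (ev ξ) = X ^ n - C (ev ξ a) := by
    simp
  obtain ⟨V, g, hg, ξ', t, hξ', ht0, -⟩ := exists_etale_root ξ (X ^ n - C a) hF α
    (by rw [hmap]; simp [hα])
    (by
      rw [hmap]
      simp only [derivative_sub, derivative_X_pow, derivative_C, sub_zero, eval_mul, eval_C,
        eval_pow, eval_X, eval_natCast]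
      exact mul_ne_zero hnK.ne_zero (pow_ne_zero _ hα0))
  have ht : t ^ n = g.appTop.hom a := by
    have h : (X ^ n - C a : Γ(U, ⊤)[X]).map g.appTop.hom = X ^ n - C (g.appTop.hom a) := by
      simp
    rw [h] at ht0
    simp only [eval_sub, eval_pow, eval_X, eval_C] at ht0
    exact sub_eq_zero.1 ht0
  refine ⟨V, g, hg, t, ?_, ?_, ht⟩
  · refine ⟨ξ' default, ?_⟩
    rw [← Scheme.Hom.comp_apply, hξ', hξ]
  · have h : IsUnit (t ^ n) := by rw [ht]; exact ha.map _
    exact (isUnit_pow_iff hn0).1 h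

theorem epi_powMap (S : Scheme.{u}) (n : ℕ) (hn : IsUnit (n : Γ(S, ⊤))) :
    Epi (EtCoh.powMap S n) := by
  haveI : Sheaf.IsLocallySurjective (EtCoh.powMap S n) := by
    refine ⟨fun {U} s => ?_⟩
    apply sieve_mem_of_forall_exists
    intro x
    obtain ⟨w, hw⟩ : ∃ w : (Γ(U.left, ⊤))ˣ, w = Additive.toMul (ULift.down s) := ⟨_, rfl⟩
    obtain ⟨V, g, hg, t, hx, htu, ht⟩ :=
      exists_etale_root_of_unit n hn U.hom (w : Γ(U.left, ⊤)) w.isUnit x
    haveI := hg
    haveI : Etale (g ≫ U.hom) := inferInstance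
    let V' : S.Etale := Scheme.Etale.mk (g ≫ U.hom)
    let f : V' ⟶ U := MorphismProperty.Over.homMk g rfl trivial
    refine ⟨V', f, ?_, hx⟩
    let τ : (EtCoh.Gm S).obj.obj (op V') := ULift.up (Additive.ofMul htu.unit)
    refine ⟨τ, ?_⟩
    show (n • 𝟙 (EtCoh.Gm S)).hom.app (op V') τ = _
    rw [nsmul_hom_app_apply]
    apply ULift.ext
    apply Additive.toMul.injective
    apply Units.ext
    show t ^ n = g.appTop.hom (Additive.toMul (ULift.down s) : (Γ(U.left, ⊤))ˣ).val
    subst hw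
    exact ht
  infer_instance

end Groth.Agent.Lib.Kummer_helper7
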