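import Mathlib
import Groth.Prelude.Def_EtGm
import Groth.Prelude.Def_W4c5etcohweilstudentAS
import Groth.Agent.Lib.StrictHens_helper7
import Groth.Agent.Lib.EtSchSite_helper7
import Groth.Agent.Lib.Kummer_helper7

/-! # The Artin–Schreier endomorphism of `G_a` is an epimorphism in characteristic `p` (lead) -/

set_option autoImplicit false
set_option linter.unusedSimpArgs false
set_option linter.unusedVariables false
set_option linter.unusedSectionVars false
set_option linter.style.longLine false
set_option linter.unnecessarySimpa false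
set_option maxHeartbeats 1600000
set_option backward.isDefEq.respectTransparency false
set_option backward.isDefEq.respectTransparency.types false
set_option backward.defeqAttrib.useBackward true

universe u

open CategoryTheory CategoryTheory.Limits AlgebraicGeometry Opposite Polynomial

namespace Groth.Agent.Lib.ASEpi

open Groth.Agent.Lib.StrictHens_helper7 Groth.Agent.Lib.EtSchSite_helper7
  Groth.Agent.Lib.Kummer_helper7

/-- Étale-local solutions of the Artin–Schreier equation. -/
theorem exists_etale_as_root (p : ℕ) (hp : p.Prime) {U : Scheme.{u}} (hpU : (p : Γ(U, ⊤)) = 0)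
    (a : Γ(U, ⊤)) (x : U) :
    ∃ (V : Scheme.{u}) (g : V ⟶ U) (_ : Etale g) (t : Γ(V, ⊤)),
      x ∈ Set.range g ∧ t ^ p - t = g.appTop.hom a := by
  obtain ⟨K, _, _, ξ, hξ⟩ := exists_geometric_point x
  haveI : Nontrivial Γ(U, ⊤) := RingHom.domain_nontrivial (ev ξ)
  have hpK : ((p : ℕ) : K) = 0 := by
    have h := congrArg (ev ξ) hpU
    rwa [map_natCast, map_zero] at h
  have h1p : 1 < p := hp.one_lt
  have hdegA : (X + C a : Γ(U, ⊤)[X]).degree < (X ^ p : Γ(U, ⊤)[X]).degree := by
    rw [degree_X_pow, degree_X_add_C]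
    exact_mod_cast h1p
  have hF : (X ^ p - (X + C a) : Γ(U, ⊤)[X]).Monic :=
    (monic_X_pow p).sub_of_left hdegA
  have hmap : (X ^ p - (X + C a) : Γ(U, ⊤)[X]).map (ev ξ) = X ^ p - (X + C (ev ξ a)) := by
    simp
  have hdegK : (X + C (ev ξ a) : K[X]).degree < (X ^ p : K[X]).degree := by
    rw [degree_X_pow, degree_X_add_C]
    exact_mod_cast h1p
  have hdeg : (X ^ p - (X + C (ev ξ a)) : K[X]).degree ≠ 0 := by
    rw [degree_sub_eq_left_of_degree_lt hdegK, degree_X_pow]
    exact_mod_cast hp.ne_zero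
  obtain ⟨α, hα⟩ := IsAlgClosed.exists_root (X ^ p - (X + C (ev ξ a)) : K[X]) hdeg
  obtain ⟨V, g, hg, ξ', t, hξ', ht0, -⟩ := exists_etale_root ξ (X ^ p - (X + C a)) hF α
    (by rw [hmap]; exact hα)
    (by
      rw [hmap]
      simp only [derivative_sub, derivative_X_pow, derivative_add, derivative_X, derivative_C,
        add_zero, eval_sub, eval_mul, eval_C, eval_pow, eval_X, eval_one, eval_natCast, hpK,
        zero_mul, zero_sub, map_natCast]
      exact neg_ne_zero.2 one_ne_zero)
  have ht : t ^ p - t = g.appTop.hom a := by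
    have h : (X ^ p - (X + C a) : Γ(U, ⊤)[X]).map g.appTop.hom =
        X ^ p - (X + C (g.appTop.hom a)) := by
      simp
    rw [h] at ht0
    simp only [eval_sub, eval_pow, eval_X, eval_C, eval_add] at ht0
    rw [← sub_sub, sub_eq_zero] at ht0
    exact ht0
  refine ⟨V, g, hg, t, ?_, ht⟩
  refine ⟨ξ' default, ?_⟩
  rw [← Scheme.Hom.comp_apply, hξ', hξ]

theorem epi_artinSchreier (p : ℕ) (hp : p.Prime) {X : Scheme.{u}} (h0 : (p : Γ(X, ⊤)) = 0) :
    Epi (W4c5etcohweilstudent.artinSchreierEndo X p hp h0) := by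
  haveI : Sheaf.IsLocallySurjective (W4c5etcohweilstudent.artinSchreierEndo X p hp h0) := by
    refine ⟨fun {U} s => ?_⟩
    apply sieve_mem_of_forall_exists
    intro x
    obtain ⟨a, ha⟩ : ∃ a : Γ(U.left, ⊤), a = ULift.down s := ⟨_, rfl⟩
    obtain ⟨V, g, hg, t, hx, ht⟩ := exists_etale_as_root p hp
      (W4c5etcohweilstudent.natCast_eq_zero_etale p h0 U) a x
    haveI := hg
    haveI : Etale (g ≫ U.hom) := inferInstance
    let V' : X.Etale := Scheme.Etale.mk (g ≫ U.hom)
    let f : V' ⟶ U := MorphismProperty.Over.homMk g rfl trivial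
    refine ⟨V', f, ?_, hx⟩
    let τ : (EtCoh.Ga X).obj.obj (op V') := ULift.up t
    refine ⟨τ, ?_⟩
    apply ULift.ext
    show t ^ p - t = g.appTop.hom (ULift.down s)
    rw [← ha]
    exact ht
  infer_instance

end Groth.Agent.Lib.ASEpi
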