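import Mathlib

/-!
# A concrete description of Mathlib's Čech complex in a category with finite products

For a presheaf of abelian groups `Q` on a category `D` with finite products and a family of objects
`Y : ι → D`, we identify the terms of `(cechComplexFunctor Y).obj Q` with the groups of concrete
cochains `∀ σ : Fin (n+1) → ι, Q(∏ₖ Y (σ k))` and its differential with the usual alternating sum.
-/

set_option autoImplicit false
universe w v u
open CategoryTheory Limits Opposite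

namespace Groth.Agent.Lib.CechSite

section Pi

/-- the categorical product of abelian groups is the group of dependent functions -/
noncomputable def piIso {J : Type w} (Z : J → AddCommGrpCat.{w}) :
    ∏ᶜ Z ≅ AddCommGrpCat.of (∀ j, Z j) :=
  limit.isoLimitCone (AddCommGrpCat.HasLimit.productLimitCone Z)

lemma piIso_hom_apply {J : Type w} (Z : J → AddCommGrpCat.{w}) (x : (∏ᶜ Z : AddCommGrpCat.{w}))
    (j : J) : (piIso Z).hom x j = (Pi.π Z j).hom x := by
  have h := limit.isoLimitCone_hom_π (AddCommGrpCat.HasLimit.productLimitCone Z) ⟨j⟩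
  have h2 := congrArg (fun f => f.hom x) h
  exact h2

lemma piIso_inv_π {J : Type w} (Z : J → AddCommGrpCat.{w}) (y : ∀ j, Z j) (j : J) :
    (Pi.π Z j).hom ((piIso Z).inv y) = y j := by
  have h := limit.isoLimitCone_inv_π (AddCommGrpCat.HasLimit.productLimitCone Z) ⟨j⟩
  have h2 := congrArg (fun f => f.hom y) h
  exact h2

lemma pi_ext {J : Type w} (Z : J → AddCommGrpCat.{w}) (x y : (∏ᶜ Z : AddCommGrpCat.{w}))
    (h : ∀ j, (Pi.π Z j).hom x = (Pi.π Z j).hom y) : x = y := by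
  have h1 : (piIso Z).hom x = (piIso Z).hom y := by
    funext j
    rw [piIso_hom_apply, piIso_hom_apply, h]
  have h2 := congrArg (fun z => (piIso Z).inv z) h1
  simpa using h2

lemma hom_sum_apply {A B : AddCommGrpCat.{w}} {κ : Type} (s : Finset κ) (f : κ → (A ⟶ B)) (x : A) :
    (∑ k ∈ s, f k).hom x = ∑ k ∈ s, (f k).hom x := by
  classical
  induction s using Finset.induction_on with
  | empty => simp
  | insert a s ha ih =>
    rw [Finset.sum_insert ha, Finset.sum_insert ha, AddCommGrpCat.hom_add, AddMonoidHom.add_apply, ih]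

end Pi

variable {D : Type u} [Category.{v} D] [HasFiniteProducts D]

section Coch

variable (Q : Dᵒᵖ ⥤ AddCommGrpCat.{w}) {ι : Type w} (Y : ι → D)

/-- the product of a tuple of members of the family -/
noncomputable abbrev T {n : ℕ} (σ : Fin n → ι) : D := ∏ᶜ (Y ∘ σ)

/-- the face maps -/
noncomputable def face {n : ℕ} (σ : Fin (n + 2) → ι) (k : Fin (n + 2)) :
    T Y σ ⟶ T Y (σ ∘ k.succAbove) :=
  Pi.lift (fun j => Pi.π (Y ∘ σ) (k.succAbove j))

@[reassoc]
lemma face_π {n : ℕ} (σ : Fin (n + 2) → ι) (k : Fin (n + 2)) (j : Fin (n + 1)) :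
    face Y σ k ≫ Pi.π (Y ∘ σ ∘ k.succAbove) j = Pi.π (Y ∘ σ) (k.succAbove j) := by
  simp [face]

/-- concrete Čech cochains -/
abbrev Coch (n : ℕ) : Type w := ∀ σ : Fin (n + 1) → ι, Q.obj (op (T Y σ))

/-- the concrete Čech differential -/
noncomputable def Dd (n : ℕ) : Coch Q Y n →+ Coch Q Y (n + 1) where
  toFun β σ := ∑ k : Fin (n + 2), (-1 : ℤ) ^ (k : ℕ) •
    (Q.map (face Y σ k).op).hom (β (σ ∘ k.succAbove))
  map_zero' := by
    funext σ
    simp
  map_add' β γ := by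
    funext σ
    simp [smul_add, Finset.sum_add_distrib]

lemma Dd_apply (n : ℕ) (β : Coch Q Y n) (σ : Fin (n + 2) → ι) :
    Dd Q Y n β σ = ∑ k : Fin (n + 2), (-1 : ℤ) ^ (k : ℕ) •
      (Q.map (face Y σ k).op).hom (β (σ ∘ k.succAbove)) := rfl

/-- the comparison between the terms of Mathlib's Čech complex and concrete cochains -/
noncomputable def cmp (n : ℕ) : ((cechComplexFunctor Y).obj Q).X n ≃+ Coch Q Y n where
  toFun x σ := (Pi.π (fun i : Fin (n + 1) → ι => Q.obj (op (∏ᶜ (Y ∘ i)))) σ).hom x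
  invFun β := (piIso (fun i : Fin (n + 1) → ι => Q.obj (op (∏ᶜ (Y ∘ i))))).inv β
  left_inv x := by
    apply pi_ext
    intro σ
    rw [piIso_inv_π]
  right_inv β := by
    funext σ
    dsimp only
    rw [piIso_inv_π]
  map_add' x y := by
    funext σ
    exact (Pi.π (fun i : Fin (n + 1) → ι => Q.obj (op (∏ᶜ (Y ∘ i)))) σ).hom.map_add x y

lemma cmp_apply (n : ℕ) (x : ((cechComplexFunctor Y).obj Q).X n) (σ : Fin (n + 1) → ι) :
    cmp Q Y n x σ = (Pi.π (fun i : Fin (n + 1) → ι => Q.obj (op (∏ᶜ (Y ∘ i)))) σ).hom x := rfl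

/-- the terms of the Čech complex, as products -/
noncomputable abbrev CX (n : ℕ) : AddCommGrpCat.{w} :=
  ∏ᶜ fun i : Fin (n + 1) → ι => Q.obj (op (∏ᶜ (Y ∘ i)))

/-- the cofaces -/
noncomputable def δc (n : ℕ) (k : Fin (n + 2)) : CX Q Y n ⟶ CX Q Y (n + 1) :=
  ((FormalCoproduct.cosimplicialObjectFunctor (FormalCoproduct.mk ι Y).cech).obj Q).map
      (SimplexCategory.δ k)

lemma δ_π (n : ℕ) (k : Fin (n + 2)) (σ : Fin (n + 2) → ι) :
    δc Q Y n k ≫ Pi.π (fun i : Fin (n + 2) → ι => Q.obj (op (∏ᶜ (Y ∘ i)))) σ =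
    Pi.π (fun i : Fin (n + 1) → ι => Q.obj (op (∏ᶜ (Y ∘ i)))) (σ ∘ k.succAbove) ≫
      Q.map (face Y σ k).op := by
  dsimp [δc, FormalCoproduct.cosimplicialObjectFunctor]
  simp only [FormalCoproduct.evalOp_obj_map]
  erw [Pi.lift_π]
  rfl

/-- the differential, with explicit types -/
noncomputable def dc (n : ℕ) : CX Q Y n ⟶ CX Q Y (n + 1) := ((cechComplexFunctor Y).obj Q).d n (n + 1)

lemma d_eq (n : ℕ) : dc Q Y n = ∑ k : Fin (n + 2), (-1 : ℤ) ^ (k : ℕ) • δc Q Y n k := by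
  dsimp [dc, cechComplexFunctor, FormalCoproduct.cochainComplexFunctor,
    AlgebraicTopology.alternatingCofaceMapComplex, AlgebraicTopology.AlternatingCofaceMapComplex.obj]
  rw [CochainComplex.of_d]
  rfl

lemma cmp_d (n : ℕ) (x : ((cechComplexFunctor Y).obj Q).X n) :
    cmp Q Y (n + 1) ((((cechComplexFunctor Y).obj Q).d n (n + 1)).hom x) = Dd Q Y n (cmp Q Y n x) := by
  funext σ
  rw [cmp_apply, Dd_apply]
  have h : dc Q Y n ≫ Pi.π (fun i : Fin (n + 2) → ι => Q.obj (op (∏ᶜ (Y ∘ i)))) σ =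
      ∑ k : Fin (n + 2), (-1 : ℤ) ^ (k : ℕ) •
        (Pi.π (fun i : Fin (n + 1) → ι => Q.obj (op (∏ᶜ (Y ∘ i)))) (σ ∘ k.succAbove) ≫
        Q.map (face Y σ k).op) := by
    rw [d_eq, Preadditive.sum_comp]
    refine Finset.sum_congr rfl fun k _ => ?_
    rw [Preadditive.zsmul_comp, δ_π]
  have h2 := congrArg (fun f => f.hom x) h
  change (dc Q Y n ≫ Pi.π (fun i : Fin (n + 2) → ι => Q.obj (op (∏ᶜ (Y ∘ i)))) σ).hom x = _ at h2
  rw [hom_sum_apply] at h2
  have h3 : (Pi.π (fun i : Fin (n + 2) → ι => Q.obj (op (∏ᶜ (Y ∘ i)))) σ).hom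
      ((((cechComplexFunctor Y).obj Q).d n (n + 1)).hom x) = _ := h2
  rw [h3]
  refine Finset.sum_congr rfl fun k _ => ?_
  rw [AddCommGrpCat.hom_zsmul, AddMonoidHom.smul_apply]
  rfl

lemma Dd_Dd (n : ℕ) (β : Coch Q Y n) : Dd Q Y (n + 1) (Dd Q Y n β) = 0 := by
  obtain ⟨x, rfl⟩ := (cmp Q Y n).surjective β
  rw [← cmp_d, ← cmp_d]
  have h := ((cechComplexFunctor Y).obj Q).d_comp_d n (n + 1) (n + 2)
  have h2 := congrArg (fun f => f.hom x) h
  have h3 : (((cechComplexFunctor Y).obj Q).d (n + 1) (n + 2)).hom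
      ((((cechComplexFunctor Y).obj Q).d n (n + 1)).hom x) = 0 := h2
  rw [h3, map_zero]

/-- vanishing of Čech cohomology in positive degree, concretely -/
theorem isZero_homology_succ_iff (p : ℕ) :
    IsZero (((cechComplexFunctor Y).obj Q).homology (p + 1)) ↔
      ∀ α : Coch Q Y (p + 1), Dd Q Y (p + 1) α = 0 → ∃ β : Coch Q Y p, Dd Q Y p β = α := by
  have e1 : IsZero (((cechComplexFunctor Y).obj Q).homology (p + 1)) ↔
      ((cechComplexFunctor Y).obj Q).ExactAt (p + 1) :=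
    (HomologicalComplex.exactAt_iff_isZero_homology _ _).symm
  rw [e1, HomologicalComplex.exactAt_iff' _ p (p + 1) (p + 2) (by simp) (by simp),
    ShortComplex.ab_exact_iff]
  constructor
  · intro h α hα
    obtain ⟨x, rfl⟩ := (cmp Q Y (p + 1)).surjective α
    rw [← cmp_d] at hα
    have hx : (((cechComplexFunctor Y).obj Q).d (p + 1) (p + 2)).hom x = 0 := by
      apply (cmp Q Y (p + 2)).injective
      rw [hα, map_zero]
    obtain ⟨y, hy⟩ := h x hx
    refine ⟨cmp Q Y p y, ?_⟩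
    rw [← cmp_d]
    exact congrArg _ hy
  · intro h x hx
    have hα : Dd Q Y (p + 1) (cmp Q Y (p + 1) x) = 0 := by
      rw [← cmp_d]
      have : (((cechComplexFunctor Y).obj Q).d (p + 1) (p + 2)).hom x = 0 := hx
      rw [this, map_zero]
    obtain ⟨β, hβ⟩ := h _ hα
    obtain ⟨y, rfl⟩ := (cmp Q Y p).surjective β
    refine ⟨y, ?_⟩
    apply (cmp Q Y (p + 1)).injective
    rw [← hβ, ← cmp_d]
    rfl

end Coch

section MapC

variable {P Q : Dᵒᵖ ⥤ AddCommGrpCat.{w}} (φ : P ⟶ Q) {ι : Type w} (Y : ι → D)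

/-- the map on cochains induced by a morphism of presheaves -/
noncomputable def mapC (n : ℕ) : Coch P Y n →+ Coch Q Y n where
  toFun β σ := (φ.app (op (T Y σ))).hom (β σ)
  map_zero' := by
    funext σ
    simp
  map_add' β γ := by
    funext σ
    simp

lemma mapC_apply (n : ℕ) (β : Coch P Y n) (σ : Fin (n + 1) → ι) :
    mapC φ Y n β σ = (φ.app (op (T Y σ))).hom (β σ) := rfl

lemma map_app {A B : D} (g : A ⟶ B) (x : P.obj (op B)) :
    (φ.app (op A)).hom ((P.map g.op).hom x) = (Q.map g.op).hom ((φ.app (op B)).hom x) := by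
  have hn := φ.naturality g.op
  show (P.map g.op ≫ φ.app (op A)).hom x = (φ.app (op B) ≫ Q.map g.op).hom x
  rw [hn]

lemma mapC_Dd (n : ℕ) (β : Coch P Y n) :
    Dd Q Y n (mapC φ Y n β) = mapC φ Y (n + 1) (Dd P Y n β) := by
  funext σ
  rw [Dd_apply, mapC_apply, Dd_apply, map_sum]
  refine Finset.sum_congr rfl fun k _ => ?_
  rw [map_zsmul, mapC_apply, map_app]

end MapC

end Groth.Agent.Lib.CechSite
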