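import Mathlib
import Groth.Agent.Lib.CechSite_helper2

/-!
# Čech cochains of sheaves on a site: gluing, and `Ȟ¹ = 0` on refinements gives surjectivity
-/

set_option autoImplicit false
universe w v u
open CategoryTheory Limits Opposite

namespace Groth.Agent.Lib.CechSite

section Products

variable {C : Type u} [Category.{v} C] {U : C} [HasFiniteProducts (Over U)] {ι : Type w}
  (Y : ι → Over U)

/-- projections of the iterated fibre products -/
noncomputable abbrev pr {n : ℕ} (σ : Fin n → ι) (j : Fin n) : (T Y σ).left ⟶ (Y (σ j)).left :=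
  (Pi.π (Y ∘ σ) j).left

lemma pr_hom {n : ℕ} (σ : Fin n → ι) (j : Fin n) : pr Y σ j ≫ (Y (σ j)).hom = (T Y σ).hom :=
  Over.w _

@[reassoc]
lemma face_pr {n : ℕ} (σ : Fin (n + 2) → ι) (k : Fin (n + 2)) (j : Fin (n + 1)) :
    (face Y σ k).left ≫ pr Y (σ ∘ k.succAbove) j = pr Y σ (k.succAbove j) := by
  rw [← Over.comp_left, face_π]

lemma pr_eqToHom {n : ℕ} (σ : Fin n → ι) {j j' : Fin n} (h : j = j') :
    pr Y σ j ≫ eqToHom (by rw [h]) = pr Y σ j' := by
  subst h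
  simp

/-- lifting a compatible family to the product -/
noncomputable def lft {n : ℕ} (σ : Fin n → ι) {V : C} (f : V ⟶ U) (g : ∀ j, V ⟶ (Y (σ j)).left)
    (hg : ∀ j, g j ≫ (Y (σ j)).hom = f) : V ⟶ (T Y σ).left :=
  (Pi.lift (fun j => (Over.homMk (g j) (hg j) : Over.mk f ⟶ Y (σ j))) : Over.mk f ⟶ T Y σ).left

@[reassoc]
lemma lft_pr {n : ℕ} (σ : Fin n → ι) {V : C} (f : V ⟶ U) (g : ∀ j, V ⟶ (Y (σ j)).left)
    (hg : ∀ j, g j ≫ (Y (σ j)).hom = f) (j : Fin n) : lft Y σ f g hg ≫ pr Y σ j = g j := by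
  unfold lft
  rw [← Over.comp_left, Pi.lift_π]
  rfl

lemma lft_hom {n : ℕ} (σ : Fin n → ι) {V : C} (f : V ⟶ U) (g : ∀ j, V ⟶ (Y (σ j)).left)
    (hg : ∀ j, g j ≫ (Y (σ j)).hom = f) : lft Y σ f g hg ≫ (T Y σ).hom = f :=
  Over.w (Pi.lift (fun j => (Over.homMk (g j) (hg j) : Over.mk f ⟶ Y (σ j))) :
    Over.mk f ⟶ T Y σ)

lemma left_ext' {n : ℕ} (σ : Fin (n + 1) → ι) {V : C} (g g' : V ⟶ (T Y σ).left)
    (h : ∀ k, g ≫ pr Y σ k = g' ≫ pr Y σ k) : g = g' := by
  have h0 : g ≫ (T Y σ).hom = g' ≫ (T Y σ).hom := by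
    have e : (T Y σ).hom = pr Y σ 0 ≫ (Y (σ 0)).hom := (pr_hom Y σ 0).symm
    rw [e, reassoc_of% (h 0)]
  let G : Over.mk (g ≫ (T Y σ).hom) ⟶ T Y σ := Over.homMk g rfl
  let G' : Over.mk (g ≫ (T Y σ).hom) ⟶ T Y σ := Over.homMk g' h0.symm
  have hG : G = G' := by
    apply Pi.hom_ext
    intro k
    apply Over.OverMorphism.ext
    exact h k
  exact congrArg (fun t => t.left) hG

/-- the inverse of the projection from a unary product -/
noncomputable def inv1 (c : Fin 1 → ι) : (Y (c 0)).left ⟶ (T Y c).left :=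
  lft Y c (Y (c 0)).hom (fun j => eqToHom (by rw [Subsingleton.elim j 0])) (fun j => by
    obtain rfl : j = 0 := Subsingleton.elim _ _
    simp)

lemma inv1_pr (c : Fin 1 → ι) : inv1 Y c ≫ pr Y c 0 = 𝟙 _ := by
  unfold inv1
  rw [lft_pr]
  simp

lemma pr_inv1 (c : Fin 1 → ι) : pr Y c 0 ≫ inv1 Y c = 𝟙 _ := by
  apply left_ext' Y c
  intro k
  obtain rfl : k = 0 := Subsingleton.elim (α := Fin 1) _ _
  rw [Category.assoc, inv1_pr, Category.comp_id, Category.id_comp]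

variable (P : Cᵒᵖ ⥤ AddCommGrpCat.{w})

/-- the restriction of a presheaf on `C` to `Over U` -/
abbrev Qr : (Over U)ᵒᵖ ⥤ AddCommGrpCat.{w} := (Over.forget U).op ⋙ P

/-- restriction maps of a presheaf as additive maps -/
def rs {A B : C} (g : A ⟶ B) : P.obj (op B) →+ P.obj (op A) := (P.map g.op).hom

omit [HasFiniteProducts (Over U)] in
lemma rs_rs {A B D : C} (g : A ⟶ B) (h : B ⟶ D) (x : P.obj (op D)) :
    rs P g (rs P h x) = rs P (g ≫ h) x := by
  show (P.map h.op ≫ P.map g.op).hom x = _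
  rw [← P.map_comp]
  rfl

omit [HasFiniteProducts (Over U)] in
lemma rs_id {A : C} (x : P.obj (op A)) : rs P (𝟙 A) x = x := by
  show (P.map (𝟙 (op A))).hom x = x
  rw [P.map_id]
  rfl

omit [HasFiniteProducts (Over U)] in
lemma rs_app {P' : Cᵒᵖ ⥤ AddCommGrpCat.{w}} (φ : P ⟶ P') {A B : C} (g : A ⟶ B)
    (x : P.obj (op B)) : (φ.app (op A)).hom (rs P g x) = rs P' g ((φ.app (op B)).hom x) := by
  have hn := φ.naturality g.op
  show (P.map g.op ≫ φ.app (op A)).hom x = (φ.app (op B) ≫ P'.map g.op).hom x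
  rw [hn]

lemma Dd_apply' (n : ℕ) (β : Coch (Qr P) Y n) (σ : Fin (n + 2) → ι) :
    Dd (Qr P) Y n β σ = (∑ k : Fin (n + 2), (-1 : ℤ) ^ (k : ℕ) •
      rs P (face Y σ k).left (β (σ ∘ k.succAbove)) : P.obj (op (T Y σ).left)) := rfl

/-- transport of a `0`-cochain along an equality of indices -/
lemma coch0_congr (β : Coch (Qr P) Y 0) (i : ι) (c : Fin 1 → ι) (hc : c = fun _ => i) {Z : C}
    (q : Z ⟶ (T Y c).left) (q' : Z ⟶ (T Y (fun _ => i)).left)
    (hq : q ≫ pr Y c 0 ≫ eqToHom (by rw [hc]) = q' ≫ pr Y (fun _ => i) 0) :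
    rs P q (β c) = rs P q' (β (fun _ => i)) := by
  subst hc
  have : q = q' := by
    apply left_ext' Y (fun _ => i)
    intro k
    obtain rfl : k = 0 := Subsingleton.elim (α := Fin 1) _ _
    simpa using hq
  rw [this]

/-- the `0`-cochain attached to a family of sections -/
noncomputable def fam0 (b : ∀ i, P.obj (op (Y i).left)) : Coch (Qr P) Y 0 :=
  fun c => rs P (pr Y c 0) (b (c 0))

/-- the family of sections attached to a `0`-cochain -/
noncomputable def ofCoch0 (β : Coch (Qr P) Y 0) : ∀ i, P.obj (op (Y i).left) :=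
  fun i => rs P (inv1 Y (fun _ => i)) (β (fun _ => i))

lemma Dd0_apply (β : Coch (Qr P) Y 0) (σ : Fin 2 → ι) :
    Dd (Qr P) Y 0 β σ = rs P (pr Y σ 1) (ofCoch0 Y P β (σ 1)) - rs P (pr Y σ 0) (ofCoch0 Y P β (σ 0)) := by
  rw [Dd_apply', Fin.sum_univ_two]
  simp only [Fin.val_zero, Fin.val_one, pow_zero, pow_one, one_smul, neg_smul]
  rw [sub_eq_add_neg]
  congr 1
  · unfold ofCoch0
    rw [rs_rs]
    apply coch0_congr Y P β (σ 1) (σ ∘ Fin.succAbove 0) (funext fun k => by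
      obtain rfl : k = 0 := Subsingleton.elim _ _
      rfl)
    rw [face_pr_assoc, Category.assoc, inv1_pr, Category.comp_id]
    exact pr_eqToHom Y σ rfl
  · congr 1
    unfold ofCoch0
    rw [rs_rs]
    apply coch0_congr Y P β (σ 0) (σ ∘ Fin.succAbove 1) (funext fun k => by
      obtain rfl : k = 0 := Subsingleton.elim _ _
      rfl)
    rw [face_pr_assoc, Category.assoc, inv1_pr, Category.comp_id]
    exact pr_eqToHom Y σ rfl

/-- lifting a pair of maps to the binary fibre product -/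
noncomputable def lft2 (i j : ι) {V : C} (gi : V ⟶ (Y i).left) (gj : V ⟶ (Y j).left)
    (h : gi ≫ (Y i).hom = gj ≫ (Y j).hom) : V ⟶ (T Y ![i, j]).left :=
  lft Y ![i, j] (gi ≫ (Y i).hom)
    (fun k => match k with
      | 0 => gi
      | 1 => gj)
    (fun k => match k with
      | 0 => rfl
      | 1 => h.symm)

lemma lft2_pr0 (i j : ι) {V : C} (gi : V ⟶ (Y i).left) (gj : V ⟶ (Y j).left)
    (h : gi ≫ (Y i).hom = gj ≫ (Y j).hom) : lft2 Y i j gi gj h ≫ pr Y ![i, j] 0 = gi :=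
  lft_pr Y ![i, j] _ _ _ 0

lemma lft2_pr1 (i j : ι) {V : C} (gi : V ⟶ (Y i).left) (gj : V ⟶ (Y j).left)
    (h : gi ≫ (Y i).hom = gj ≫ (Y j).hom) : lft2 Y i j gi gj h ≫ pr Y ![i, j] 1 = gj :=
  lft_pr Y ![i, j] _ _ _ 1

lemma compat_of_pair (x : ∀ i, P.obj (op (Y i).left))
    (h : ∀ σ : Fin 2 → ι, rs P (pr Y σ 0) (x (σ 0)) = rs P (pr Y σ 1) (x (σ 1))) :
    ∀ (i j : ι) (Z : C) (gi : Z ⟶ (Y i).left) (gj : Z ⟶ (Y j).left),
      gi ≫ (Y i).hom = gj ≫ (Y j).hom → rs P gi (x i) = rs P gj (x j) := by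
  intro i j Z gi gj hg
  have h1 := congrArg (rs P (lft2 Y i j gi gj hg)) (h ![i, j])
  rw [rs_rs, rs_rs, lft2_pr0, lft2_pr1] at h1
  exact h1

end Products

section Sheaf

variable {C : Type u} [Category.{v} C] {J : GrothendieckTopology C} {U : C}
  [HasFiniteProducts (Over U)] {ι : Type (max v u)} (Y : ι → Over U)

lemma isSheaf_forget (G : Sheaf J AddCommGrpCat.{max v u}) :
    Presieve.IsSheaf J (G.obj ⋙ forget AddCommGrpCat.{max v u}) :=
  (isSheaf_iff_isSheaf_of_type J _).1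
    ((Presheaf.isSheaf_iff_isSheaf_forget J G.obj (forget AddCommGrpCat.{max v u})).1 G.property)

/-- gluing sections of a sheaf along a covering family -/
theorem existsUnique_glue (G : Sheaf J AddCommGrpCat.{max v u})
    (hY : Sieve.ofArrows (fun i => (Y i).left) (fun i => (Y i).hom) ∈ J U)
    (x : ∀ i, G.obj.obj (op (Y i).left))
    (hx : ∀ (i j : ι) (Z : C) (gi : Z ⟶ (Y i).left) (gj : Z ⟶ (Y j).left),
      gi ≫ (Y i).hom = gj ≫ (Y j).hom → rs G.obj gi (x i) = rs G.obj gj (x j)) :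
    ∃! t : G.obj.obj (op U), ∀ i, rs G.obj (Y i).hom t = x i := by
  have h1 := isSheaf_forget G
  have h2 : Presieve.IsSheafFor (G.obj ⋙ forget AddCommGrpCat.{max v u})
      (Presieve.ofArrows (fun i => (Y i).left) (fun i => (Y i).hom)) :=
    (Presieve.isSheafFor_iff_generate _).2 (h1 _ hY)
  exact (Presieve.isSheafFor_arrows_iff _ _).1 h2 x hx

/-- sections of a sheaf are determined on a covering family -/
theorem ext_of_cover (G : Sheaf J AddCommGrpCat.{max v u})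
    (hY : Sieve.ofArrows (fun i => (Y i).left) (fun i => (Y i).hom) ∈ J U)
    (t t' : G.obj.obj (op U)) (h : ∀ i, rs G.obj (Y i).hom t = rs G.obj (Y i).hom t') : t = t' := by
  obtain ⟨t₀, -, hu⟩ := existsUnique_glue Y G hY (fun i => rs G.obj (Y i).hom t) (by
    intro i j Z gi gj hg
    rw [rs_rs, rs_rs, hg])
  rw [hu t (fun _ => rfl), hu t' (fun i => (h i).symm)]

variable [HasSheafify J AddCommGrpCat.{max v u}]
  [J.HasSheafCompose (forget AddCommGrpCat.{max v u})] [Balanced (Sheaf J AddCommGrpCat.{max v u})]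

/-- left exactness of sections -/
lemma sections_exact (S : ShortComplex (Sheaf J AddCommGrpCat.{max v u})) (hS : S.Exact) (hf : Mono S.f)
    (V : C) (b : S.X₂.obj.obj (op V)) (hb : (S.g.hom.app (op V)).hom b = 0) :
    ∃ a : S.X₁.obj.obj (op V), (S.f.hom.app (op V)).hom a = b := by
  have h1 : (S.map (sheafToPresheaf J AddCommGrpCat.{max v u})).Exact ∧
      Mono (S.map (sheafToPresheaf J AddCommGrpCat.{max v u})).f :=
    ((Functor.preservesFiniteLimits_tfae (sheafToPresheaf J AddCommGrpCat.{max v u})).out 1 3 rfl rfl).mpr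
      inferInstance S ⟨hS, hf⟩
  have h2 : ((S.map (sheafToPresheaf J AddCommGrpCat.{max v u})).map
      ((evaluation Cᵒᵖ AddCommGrpCat.{max v u}).obj (op V))).Exact :=
    ((Functor.exact_tfae ((evaluation Cᵒᵖ AddCommGrpCat.{max v u}).obj (op V))).out 1 3 rfl rfl).mpr
      ⟨inferInstance, inferInstance⟩ _ h1.1
  exact (ShortComplex.ab_exact_iff _).mp h2 b hb

lemma app_injective {F G : Sheaf J AddCommGrpCat.{max v u}} (φ : F ⟶ G) [Mono φ] (V : C) :
    Function.Injective (φ.hom.app (op V)).hom := by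
  have h1 : Mono φ.hom := (Sheaf.Hom.mono_iff_presheaf_mono _ _ φ).mp inferInstance
  have h2 : Mono (φ.hom.app (op V)) := (NatTrans.mono_iff_mono_app φ.hom).mp h1 (op V)
  exact (AddCommGrpCat.mono_iff_injective _).mp h2

lemma app_comp_zero (S : ShortComplex (Sheaf J AddCommGrpCat.{max v u})) (V : C)
    (a : S.X₁.obj.obj (op V)) : (S.g.hom.app (op V)).hom ((S.f.hom.app (op V)).hom a) = 0 := by
  have h := congrArg (fun ψ : S.X₁ ⟶ S.X₃ => (ψ.hom.app (op V)).hom a) S.zero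
  exact h


/-- an epimorphism of sheaves is locally surjective -/
lemma imageSieve_mem_of_epi {F G : Sheaf J AddCommGrpCat.{max v u}} (φ : F ⟶ G) [Epi φ] (V : C)
    (z : G.obj.obj (op V)) : Presheaf.imageSieve φ.hom z ∈ J V := by
  haveI : Sheaf.IsLocallySurjective φ := (Sheaf.isLocallySurjective_iff_epi' (φ := φ)).2 inferInstance
  exact Presheaf.imageSieve_mem J φ.hom z

omit [HasFiniteProducts (Over U)] in
/-- vanishing of Čech `H¹` on refinements gives surjectivity on sections -/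
theorem surjective_of_cechH1 [HasFiniteProducts (Over U)]
    (S : ShortComplex (Sheaf J AddCommGrpCat.{max v u})) (hS : S.ShortExact)
    (h : ∀ T ∈ J U, ∃ (ι : Type (max v u)) (Y : ι → Over U), (∀ i, T.arrows (Y i).hom) ∧
      Sieve.ofArrows (fun i => (Y i).left) (fun i => (Y i).hom) ∈ J U ∧
      IsZero (((cechComplexFunctor Y).obj ((Over.forget U).op ⋙ S.X₁.obj)).homology 1)) :
    Function.Surjective (S.g.hom.app (op U)).hom := by
  intro z
  haveI := hS.epi_g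
  haveI := hS.mono_f
  obtain ⟨ι, Y, hYT, hY, hH⟩ := h _ (imageSieve_mem_of_epi S.g U z)
  rw [isZero_homology_succ_iff] at hH
  choose t ht using hYT
  have ht' : ∀ i, (S.g.hom.app (op (Y i).left)).hom (t i) = rs S.X₃.obj (Y i).hom z := ht
  -- the differences
  have hc : ∀ σ : Fin 2 → ι, ∃ a : S.X₁.obj.obj (op (T Y σ).left),
      (S.f.hom.app _).hom a = rs S.X₂.obj (pr Y σ 1) (t (σ 1)) - rs S.X₂.obj (pr Y σ 0) (t (σ 0)) := by
    intro σ
    apply sections_exact S hS.exact inferInstance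
    rw [map_sub, rs_app, rs_app, ht', ht', rs_rs, rs_rs, pr_hom, pr_hom, sub_self]
  choose a ha using hc
  have hDa : Dd (Qr S.X₁.obj) Y 1 a = 0 := by
    funext τ
    apply app_injective S.f (T Y τ).left
    show (S.f.hom.app (op (T Y τ).left)).hom (Dd (Qr S.X₁.obj) Y 1 a τ) =
      (S.f.hom.app (op (T Y τ).left)).hom 0
    rw [Dd_apply', map_sum, Fin.sum_univ_three, map_zero]
    simp only [map_zsmul, rs_app, ha, map_sub, rs_rs, face_pr]
    obtain ⟨r, hr⟩ : ∃ r : Fin 3 → S.X₂.obj.obj (op (T Y τ).left),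
        r = fun m => rs S.X₂.obj (pr Y τ m) (t (τ m)) := ⟨_, rfl⟩
    have e : ∀ (k : Fin 3) (j : Fin 2),
        rs S.X₂.obj (pr Y τ (k.succAbove j)) (t ((τ ∘ k.succAbove) j)) = r (k.succAbove j) := by
      intro k j
      rw [hr]
      rfl
    rw [e, e, e, e, e, e]
    rw [show Fin.succAbove (0 : Fin 3) (1 : Fin 2) = 2 from rfl,
      show Fin.succAbove (0 : Fin 3) (0 : Fin 2) = 1 from rfl,
      show Fin.succAbove (1 : Fin 3) (1 : Fin 2) = 2 from rfl,
      show Fin.succAbove (1 : Fin 3) (0 : Fin 2) = 0 from rfl,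
      show Fin.succAbove (2 : Fin 3) (1 : Fin 2) = 1 from rfl,
      show Fin.succAbove (2 : Fin 3) (0 : Fin 2) = 0 from rfl]
    simp only [Fin.val_zero, Fin.val_one, Fin.val_two, pow_zero, pow_one, one_smul, neg_smul]
    rw [show ((-1 : ℤ) ^ 2) = 1 by norm_num, one_smul]
    abel
  obtain ⟨β, hβ⟩ := hH a hDa
  obtain ⟨b, hb⟩ : ∃ b : ∀ i, S.X₁.obj.obj (op (Y i).left), b = ofCoch0 Y S.X₁.obj β := ⟨_, rfl⟩
  have hab : ∀ σ : Fin 2 → ι, a σ =
      rs S.X₁.obj (pr Y σ 1) (b (σ 1)) - rs S.X₁.obj (pr Y σ 0) (b (σ 0)) := by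
    intro σ
    rw [← hβ, Dd0_apply, hb]
  obtain ⟨t'', ht''⟩ : ∃ t'' : ∀ i, S.X₂.obj.obj (op (Y i).left),
      ∀ i, t'' i = t i - (S.f.hom.app (op (Y i).left)).hom (b i) := ⟨_, fun _ => rfl⟩
  have hpair : ∀ σ : Fin 2 → ι, rs S.X₂.obj (pr Y σ 0) (t'' (σ 0)) =
      rs S.X₂.obj (pr Y σ 1) (t'' (σ 1)) := by
    intro σ
    have h1 := ha σ
    rw [hab, map_sub, rs_app, rs_app] at h1
    rw [ht'', ht'', map_sub, map_sub]
    rw [sub_eq_sub_iff_add_eq_add] at h1 ⊢
    rw [add_comm]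
    exact h1
  obtain ⟨T₀, hT₀, -⟩ := existsUnique_glue Y S.X₂ hY t'' (compat_of_pair Y S.X₂.obj t'' hpair)
  refine ⟨T₀, ?_⟩
  apply ext_of_cover Y S.X₃ hY
  intro i
  rw [← rs_app, hT₀ i, ht'', map_sub, ht', app_comp_zero, sub_zero]

end Sheaf

end Groth.Agent.Lib.CechSite
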