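import Mathlib
import Groth.Agent.Lib.CechSite_helper2

/-!
# Čech cohomology of an injective presheaf vanishes in positive degrees

The Čech complex of a presheaf `I` for a family `Y i ⟶ U` is `Hom(P_•, I)` for the complex of
free presheaves `P_n = ℤ[∐_σ h_{Y_σ}]`, which is objectwise contractible in positive degrees.
-/

set_option autoImplicit false
universe w v u
open CategoryTheory Limits Opposite

namespace Groth.Agent.Lib.CechSite

variable {C : Type u} [Category.{v} C] [LocallySmall.{w} C] {U : C} [HasFiniteProducts (Over U)]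
  {ι : Type w} (Y : ι → Over U)

/-- pairs (index, morphism to the corresponding member of the family) -/
def A (V : C) : Type w := Σ i : ι, Shrink.{w} (V ⟶ (Y i).left)

namespace A

variable {Y} {V V' V'' : C}

noncomputable def hom (a : A Y V) : V ⟶ (Y a.1).left := (equivShrink _).symm a.2

noncomputable def mk (i : ι) (g : V ⟶ (Y i).left) : A Y V := ⟨i, equivShrink _ g⟩

lemma hom_mk (i : ι) (g : V ⟶ (Y i).left) : (mk i g : A Y V).hom = g :=
  Equiv.symm_apply_apply _ _

lemma mk_hom (a : A Y V) : mk a.1 a.hom = a := by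
  obtain ⟨i, g⟩ := a
  simp [mk, hom]

/-- the structure map to `U` -/
noncomputable def m (a : A Y V) : V ⟶ U := a.hom ≫ (Y a.1).hom

lemma m_mk (i : ι) (g : V ⟶ (Y i).left) : (mk i g : A Y V).m = g ≫ (Y i).hom := by
  unfold m
  rw [hom_mk]
  rfl

noncomputable def pre (h : V' ⟶ V) (a : A Y V) : A Y V' := mk a.1 (h ≫ a.hom)

lemma hom_pre (h : V' ⟶ V) (a : A Y V) : (pre h a).hom = h ≫ a.hom := hom_mk _ _

lemma m_pre (h : V' ⟶ V) (a : A Y V) : (pre h a).m = h ≫ a.m := by
  unfold pre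
  rw [m_mk]
  unfold m
  rw [Category.assoc]

lemma pre_id (a : A Y V) : pre (𝟙 V) a = a := by
  unfold pre
  rw [Category.id_comp, mk_hom]

lemma pre_comp (h' : V'' ⟶ V') (h : V' ⟶ V) (a : A Y V) :
    pre (h' ≫ h) a = pre h' (pre h a) := by
  show mk a.1 _ = mk a.1 _
  refine congrArg (mk a.1) ?_
  rw [Category.assoc]
  exact congrArg (h' ≫ ·) (hom_pre h a).symm

end A

/-- tuples of morphisms to members of the family, with a common structure map to `U` -/
abbrev K (n : ℕ) (V : C) : Type w := {s : Fin (n + 1) → A Y V // ∀ k l, (s k).m = (s l).m}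

namespace K

variable {Y} {V V' V'' : C} {n : ℕ}

noncomputable def pre (h : V' ⟶ V) (s : K Y n V) : K Y n V' :=
  ⟨fun k => A.pre h (s.1 k), fun k l => by rw [A.m_pre, A.m_pre, s.2 k l]⟩

lemma pre_id (s : K Y n V) : pre (𝟙 V) s = s := Subtype.ext (funext fun _ => A.pre_id _)

lemma pre_comp (h' : V'' ⟶ V') (h : V' ⟶ V) (s : K Y n V) :
    pre (h' ≫ h) s = pre h' (pre h s) :=
  Subtype.ext (funext fun _ => A.pre_comp _ _ _)

def face (k : Fin (n + 2)) (s : K Y (n + 1) V) : K Y n V :=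
  ⟨s.1 ∘ k.succAbove, fun _ _ => s.2 _ _⟩

lemma face_pre (k : Fin (n + 2)) (h : V' ⟶ V) (s : K Y (n + 1) V) :
    face k (pre h s) = pre h (face k s) := rfl

/-- the common structure map -/
noncomputable def str (s : K Y n V) : V ⟶ U := (s.1 0).m

lemma str_eq (s : K Y n V) (k : Fin (n + 1)) : (s.1 k).m = s.str := s.2 _ _

lemma str_face (k : Fin (n + 2)) (s : K Y (n + 1) V) : (face k s).str = s.str := s.2 _ _

lemma str_pre (h : V' ⟶ V) (s : K Y n V) : (pre h s).str = h ≫ s.str := A.m_pre _ _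

def cons (a : A Y V) (s : K Y n V) (ha : a.m = s.str) : K Y (n + 1) V :=
  ⟨(Fin.cons a s.1 : Fin (n + 2) → A Y V), by
    have h : ∀ k, ((Fin.cons a s.1 : Fin (n + 2) → A Y V) k).m = s.str := by
      intro k
      refine Fin.cases ?_ (fun j => ?_) k
      · show ((Fin.cons a s.1 : Fin (n + 2) → A Y V) 0).m = _
        rw [Fin.cons_zero]
        exact ha
      · show ((Fin.cons a s.1 : Fin (n + 2) → A Y V) j.succ).m = (s.1 0).m
        rw [Fin.cons_succ]
        exact s.2 j 0
    intro k l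
    rw [h k, h l]⟩

lemma face_zero_cons (a : A Y V) (s : K Y n V) (ha : a.m = s.str) :
    face 0 (cons a s ha) = s := by
  apply Subtype.ext
  funext j
  simp [face, cons]

lemma face_succ_cons (k : Fin (n + 2)) (a : A Y V) (s : K Y (n + 1) V) (ha : a.m = s.str) :
    face k.succ (cons a s ha) = cons a (face k s) (ha.trans (str_face k s).symm) := by
  apply Subtype.ext
  funext j
  refine Fin.cases ?_ (fun j' => ?_) j
  · show (Fin.cons a s.1 : Fin (n + 3) → A Y V) (k.succ.succAbove 0) =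
      (Fin.cons a (s.1 ∘ k.succAbove) : Fin (n + 2) → A Y V) 0
    rw [Fin.succ_succAbove_zero, Fin.cons_zero, Fin.cons_zero]
  · show (Fin.cons a s.1 : Fin (n + 3) → A Y V) (k.succ.succAbove j'.succ) =
      (Fin.cons a (s.1 ∘ k.succAbove) : Fin (n + 2) → A Y V) j'.succ
    rw [Fin.succ_succAbove_succ, Fin.cons_succ, Fin.cons_succ]
    rfl

lemma cons_congr {a a' : A Y V} (h : a = a') (s : K Y n V) (ha : a.m = s.str) :
    cons a s ha = cons a' s (h ▸ ha) := by
  subst h
  rfl

end K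

section Contraction

variable {V : C} {n : ℕ}

/-- a chosen base point over a given structure map -/
noncomputable def base (V : C) (f : V ⟶ U) (h : Nonempty {a : A Y V // a.m = f}) :
    {a : A Y V // a.m = f} := Classical.choice h

lemma base_congr {V : C} {f f' : V ⟶ U} (hf : f = f') (h : Nonempty {a : A Y V // a.m = f})
    (h' : Nonempty {a : A Y V // a.m = f'}) : (base Y V f h).1 = (base Y V f' h').1 := by
  subst hf
  rfl

variable {Y}

/-- the base point attached to a tuple -/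
noncomputable def bp (s : K Y n V) : A Y V := (base Y V s.str ⟨⟨s.1 0, rfl⟩⟩).1

lemma bp_m (s : K Y n V) : (bp s).m = s.str := (base Y V s.str ⟨⟨s.1 0, rfl⟩⟩).2

lemma bp_congr {n' : ℕ} (s : K Y n V) (s' : K Y n' V) (h : s.str = s'.str) : bp s = bp s' :=
  base_congr Y h _ _

/-- the cone of a tuple over its base point -/
noncomputable def cone (s : K Y n V) : K Y (n + 1) V := K.cons (bp s) s (bp_m s)

lemma face_zero_cone (s : K Y n V) : K.face 0 (cone s) = s := K.face_zero_cons _ _ _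

lemma face_succ_cone (k : Fin (n + 2)) (s : K Y (n + 1) V) :
    K.face k.succ (cone s) = cone (K.face k s) := by
  unfold cone
  rw [K.face_succ_cons]
  exact K.cons_congr (bp_congr s (K.face k s) (K.str_face k s).symm) _ _

variable (Y)

/-- the boundary on free abelian groups -/
noncomputable def bd (n : ℕ) (V : C) :
    FreeAbelianGroup (K Y (n + 1) V) →+ FreeAbelianGroup (K Y n V) :=
  FreeAbelianGroup.lift (fun s => ∑ k : Fin (n + 2), (-1 : ℤ) ^ (k : ℕ) •
    FreeAbelianGroup.of (K.face k s))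

lemma bd_of (n : ℕ) (V : C) (s : K Y (n + 1) V) :
    bd Y n V (FreeAbelianGroup.of s) = ∑ k : Fin (n + 2), (-1 : ℤ) ^ (k : ℕ) •
      FreeAbelianGroup.of (K.face k s) := FreeAbelianGroup.lift_apply_of _ _

/-- the contracting homotopy -/
noncomputable def hh (n : ℕ) (V : C) :
    FreeAbelianGroup (K Y n V) →+ FreeAbelianGroup (K Y (n + 1) V) :=
  FreeAbelianGroup.lift (fun s => FreeAbelianGroup.of (cone s))

lemma hh_of (n : ℕ) (V : C) (s : K Y n V) :
    hh Y n V (FreeAbelianGroup.of s) = FreeAbelianGroup.of (cone s) :=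
  FreeAbelianGroup.lift_apply_of _ _

lemma homotopy (n : ℕ) (V : C) (x : FreeAbelianGroup (K Y (n + 1) V)) :
    bd Y (n + 1) V (hh Y (n + 1) V x) + hh Y n V (bd Y n V x) = x := by
  have h : ((bd Y (n + 1) V).comp (hh Y (n + 1) V) + (hh Y n V).comp (bd Y n V)) =
      AddMonoidHom.id _ := by
    apply FreeAbelianGroup.lift_ext
    intro s
    rw [AddMonoidHom.add_apply, AddMonoidHom.comp_apply, AddMonoidHom.comp_apply, hh_of, bd_of,
      bd_of, map_sum, Fin.sum_univ_succ]
    simp only [Fin.val_zero, pow_zero, one_smul, face_zero_cone, Fin.val_succ, face_succ_cone,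
      map_zsmul, hh_of, pow_succ, mul_neg, mul_one, neg_smul, Finset.sum_neg_distrib,
      AddMonoidHom.id_apply]
    abel
  exact DFunLike.congr_fun h x

end Contraction

/-- the free presheaf on the tuples -/
noncomputable def P (n : ℕ) : Cᵒᵖ ⥤ AddCommGrpCat.{w} where
  obj V := AddCommGrpCat.of (FreeAbelianGroup (K Y n V.unop))
  map h := AddCommGrpCat.ofHom (FreeAbelianGroup.map (K.pre h.unop))
  map_id V := by
    apply AddCommGrpCat.hom_ext
    apply FreeAbelianGroup.lift_ext
    intro s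
    show FreeAbelianGroup.map (K.pre (𝟙 V.unop)) (FreeAbelianGroup.of s) = FreeAbelianGroup.of s
    rw [FreeAbelianGroup.map_of_apply, K.pre_id]
  map_comp h h' := by
    apply AddCommGrpCat.hom_ext
    apply FreeAbelianGroup.lift_ext
    intro s
    show FreeAbelianGroup.map (K.pre (h'.unop ≫ h.unop)) (FreeAbelianGroup.of s) =
      FreeAbelianGroup.map (K.pre h'.unop) (FreeAbelianGroup.map (K.pre h.unop)
        (FreeAbelianGroup.of s))
    rw [FreeAbelianGroup.map_of_apply, FreeAbelianGroup.map_of_apply,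
      FreeAbelianGroup.map_of_apply, K.pre_comp]

lemma P_map_of (n : ℕ) {V V' : C} (h : V' ⟶ V) (s : K Y n V) :
    ((P Y n).map h.op).hom (FreeAbelianGroup.of s) = FreeAbelianGroup.of (K.pre h s) :=
  FreeAbelianGroup.map_of_apply _

/-- the boundary as a morphism of presheaves -/
noncomputable def d (n : ℕ) : P Y (n + 1) ⟶ P Y n where
  app V := AddCommGrpCat.ofHom (bd Y n V.unop)
  naturality V V' h := by
    apply AddCommGrpCat.hom_ext
    apply FreeAbelianGroup.lift_ext
    intro s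
    show bd Y n V'.unop (FreeAbelianGroup.map (K.pre h.unop) (FreeAbelianGroup.of s)) =
      FreeAbelianGroup.map (K.pre h.unop) (bd Y n V.unop (FreeAbelianGroup.of s))
    rw [FreeAbelianGroup.map_of_apply, bd_of, bd_of, map_sum]
    refine Finset.sum_congr rfl fun k _ => ?_
    rw [map_zsmul, FreeAbelianGroup.map_of_apply, K.face_pre]

lemma d_app_apply (n : ℕ) (V : C) (x : FreeAbelianGroup (K Y (n + 1) V)) :
    ((d Y n).app (op V)).hom x = bd Y n V x := rfl

section Yoneda

variable {Y} {V V' : C} {n : ℕ}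

/-- the morphism to the product attached to a tuple -/
noncomputable def toT (s : K Y n V) : V ⟶ (T Y (fun k => (s.1 k).1)).left :=
  (Pi.lift (fun k => (Over.homMk (s.1 k).hom (s.str_eq k) : Over.mk s.str ⟶ Y (s.1 k).1)) :
    Over.mk s.str ⟶ T Y (fun k => (s.1 k).1)).left

lemma toT_π (s : K Y n V) (k : Fin (n + 1)) :
    toT s ≫ (Pi.π (Y ∘ fun k => (s.1 k).1) k).left = (s.1 k).hom := by
  unfold toT
  rw [← Over.comp_left, Pi.lift_π]
  rfl

lemma left_ext (σ : Fin (n + 1) → ι) (g g' : V ⟶ (T Y σ).left)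
    (h : ∀ k, g ≫ (Pi.π (Y ∘ σ) k).left = g' ≫ (Pi.π (Y ∘ σ) k).left) : g = g' := by
  have h0 : g ≫ (T Y σ).hom = g' ≫ (T Y σ).hom := by
    have e : (T Y σ).hom = (Pi.π (Y ∘ σ) 0).left ≫ (Y (σ 0)).hom := (Over.w (Pi.π (Y ∘ σ) 0)).symm
    rw [e, reassoc_of% (h 0)]
  let G : Over.mk (g ≫ (T Y σ).hom) ⟶ T Y σ := Over.homMk g rfl
  let G' : Over.mk (g ≫ (T Y σ).hom) ⟶ T Y σ := Over.homMk g' h0.symm
  have hG : G = G' := by
    apply Pi.hom_ext
    intro k
    apply Over.OverMorphism.ext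
    exact h k
  exact congrArg (fun t => t.left) hG

lemma toT_pre (h : V' ⟶ V) (s : K Y n V) : toT (K.pre h s) = h ≫ toT s := by
  apply left_ext
  intro k
  refine (toT_π (K.pre h s) k).trans ?_
  refine Eq.trans ?_ (Category.assoc _ _ _).symm
  refine Eq.trans ?_ (congrArg (h ≫ ·) (toT_π s k).symm)
  exact A.hom_pre h (s.1 k)

variable (Y)

/-- the universal tuple -/
noncomputable def univ (σ : Fin (n + 1) → ι) : K Y n (T Y σ).left :=
  ⟨fun k => A.mk (σ k) (Pi.π (Y ∘ σ) k).left, fun k l => by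
    rw [A.m_mk, A.m_mk]
    exact (Over.w (Pi.π (Y ∘ σ) k)).trans (Over.w (Pi.π (Y ∘ σ) l)).symm⟩

lemma toT_univ (σ : Fin (n + 1) → ι) : toT (univ Y σ) = 𝟙 (T Y σ).left := by
  apply left_ext σ
  intro k
  rw [Category.id_comp]
  refine (toT_π (univ Y σ) k).trans ?_
  exact A.hom_mk _ _

lemma pre_toT_univ (s : K Y n V) : K.pre (toT s) (univ Y (fun k => (s.1 k).1)) = s := by
  apply Subtype.ext
  funext k
  show A.mk (s.1 k).1 (toT s ≫ (A.mk (s.1 k).1 (Pi.π (Y ∘ fun k => (s.1 k).1) k).left).hom) = s.1 k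
  rw [A.hom_mk, toT_π, A.mk_hom]

lemma pre_face_univ (σ : Fin (n + 2) → ι) (k : Fin (n + 2)) :
    K.pre (face Y σ k).left (univ Y (σ ∘ k.succAbove)) = K.face k (univ Y σ) := by
  apply Subtype.ext
  funext j
  show A.mk (σ (k.succAbove j)) ((face Y σ k).left ≫
    (A.mk (σ (k.succAbove j)) (Pi.π (Y ∘ σ ∘ k.succAbove) j).left).hom) =
    A.mk (σ (k.succAbove j)) (Pi.π (Y ∘ σ) (k.succAbove j)).left
  refine congrArg (A.mk (σ (k.succAbove j))) ?_
  rw [A.hom_mk, ← Over.comp_left, face_π]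

variable (I : Cᵒᵖ ⥤ AddCommGrpCat.{w})

/-- the restriction of `I` to `Over U` -/
abbrev QrI : (Over U)ᵒᵖ ⥤ AddCommGrpCat.{w} := (Over.forget U).op ⋙ I

variable {I}

/-- the morphism of presheaves attached to a cochain -/
noncomputable def φ (β : Coch (QrI I) Y n) : P Y n ⟶ I where
  app V := AddCommGrpCat.ofHom (FreeAbelianGroup.lift
    (fun s : K Y n V.unop => (I.map (toT s).op).hom (β (fun k => (s.1 k).1))))
  naturality V V' h := by
    apply AddCommGrpCat.hom_ext
    apply FreeAbelianGroup.lift_ext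
    intro s
    show FreeAbelianGroup.lift
        (fun s : K Y n V'.unop => (I.map (toT s).op).hom (β (fun k => (s.1 k).1)))
        (FreeAbelianGroup.map (K.pre h.unop) (FreeAbelianGroup.of s)) =
      (I.map h).hom (FreeAbelianGroup.lift
        (fun s : K Y n V.unop => (I.map (toT s).op).hom (β (fun k => (s.1 k).1)))
        (FreeAbelianGroup.of s))
    rw [FreeAbelianGroup.map_of_apply,
      FreeAbelianGroup.lift_apply_of, FreeAbelianGroup.lift_apply_of, toT_pre]
    show (I.map (h.unop ≫ toT s).op).hom _ = (I.map h).hom ((I.map (toT s).op).hom _)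
    rw [op_comp, I.map_comp]
    rfl

lemma φ_app_of (β : Coch (QrI I) Y n) (s : K Y n V) :
    ((φ Y β).app (op V)).hom (FreeAbelianGroup.of s) =
      (I.map (toT s).op).hom (β (fun k => (s.1 k).1)) :=
  FreeAbelianGroup.lift_apply_of _ _

lemma φ_zero : φ Y (0 : Coch (QrI I) Y n) = 0 := by
  apply NatTrans.ext
  funext V
  apply AddCommGrpCat.hom_ext
  apply FreeAbelianGroup.lift_ext
  intro s
  show FreeAbelianGroup.lift
      (fun s : K Y n V.unop => (I.map (toT s).op).hom ((0 : Coch (QrI I) Y n) (fun k => (s.1 k).1)))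
      (FreeAbelianGroup.of s) = 0
  rw [FreeAbelianGroup.lift_apply_of]
  exact map_zero _

/-- the cochain attached to a morphism of presheaves -/
noncomputable def coch (ψ : P Y n ⟶ I) : Coch (QrI I) Y n :=
  fun σ => (ψ.app (op (T Y σ).left)).hom (FreeAbelianGroup.of (univ Y σ))

omit [HasFiniteProducts (Over U)] in
lemma nat_apply {P' : Cᵒᵖ ⥤ AddCommGrpCat.{w}} (ψ : P' ⟶ I) {A' B' : C} (g : A' ⟶ B')
    (x : P'.obj (op B')) :
    (ψ.app (op A')).hom ((P'.map g.op).hom x) = (I.map g.op).hom ((ψ.app (op B')).hom x) := by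
  have hn := ψ.naturality g.op
  show (P'.map g.op ≫ ψ.app (op A')).hom x = (ψ.app (op B') ≫ I.map g.op).hom x
  rw [hn]

lemma coch_φ (β : Coch (QrI I) Y n) : coch Y (φ Y β) = β := by
  funext σ
  show ((φ Y β).app (op (T Y σ).left)).hom (FreeAbelianGroup.of (univ Y σ)) = β σ
  rw [φ_app_of, toT_univ]
  show (I.map (𝟙 (op (T Y σ).left))).hom (β σ) = β σ
  rw [I.map_id]
  rfl

lemma φ_coch (ψ : P Y n ⟶ I) : φ Y (coch Y ψ) = ψ := by
  apply NatTrans.ext
  funext V
  apply AddCommGrpCat.hom_ext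
  apply FreeAbelianGroup.lift_ext
  intro s
  show FreeAbelianGroup.lift
      (fun s : K Y n V.unop => (I.map (toT s).op).hom (coch Y ψ (fun k => (s.1 k).1)))
      (FreeAbelianGroup.of s) = (ψ.app V).hom (FreeAbelianGroup.of s)
  rw [FreeAbelianGroup.lift_apply_of]
  show (I.map (toT s).op).hom ((ψ.app (op (T Y _).left)).hom (FreeAbelianGroup.of (univ Y _))) = _
  rw [← nat_apply ψ (toT s), P_map_of, pre_toT_univ]

lemma coch_d (ψ : P Y n ⟶ I) : coch Y (d Y n ≫ ψ) = Dd (QrI I) Y n (coch Y ψ) := by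
  funext σ
  rw [Dd_apply]
  obtain ⟨g, hg⟩ : ∃ g : FreeAbelianGroup (K Y n (T Y σ).left) →+ I.obj (op (T Y σ).left),
      g = (ψ.app (op (T Y σ).left)).hom := ⟨_, rfl⟩
  have e : coch Y (d Y n ≫ ψ) σ = g (bd Y n (T Y σ).left (FreeAbelianGroup.of (univ Y σ))) := by
    rw [hg]
    rfl
  rw [e, bd_of, map_sum]
  refine Finset.sum_congr rfl fun k _ => ?_
  rw [map_zsmul]
  congr 1
  rw [hg]
  show (ψ.app (op (T Y σ).left)).hom (FreeAbelianGroup.of (K.face k (univ Y σ))) =
    (I.map (face Y σ k).left.op).hom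
    ((ψ.app (op (T Y (σ ∘ k.succAbove)).left)).hom (FreeAbelianGroup.of (univ Y (σ ∘ k.succAbove))))
  rw [← nat_apply ψ (face Y σ k).left, P_map_of, pre_face_univ]

end Yoneda

/-- Čech cocycles of an injective presheaf in positive degree are coboundaries -/
theorem exists_primitive (I : Cᵒᵖ ⥤ AddCommGrpCat.{w}) [Injective I] (p : ℕ)
    (α : Coch (QrI I) Y (p + 1)) (hα : Dd (QrI I) Y (p + 1) α = 0) :
    ∃ β : Coch (QrI I) Y p, Dd (QrI I) Y p β = α := by
  have h1 : d Y (p + 1) ≫ φ Y α = 0 := by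
    rw [← φ_coch Y (d Y (p + 1) ≫ φ Y α), coch_d, coch_φ, hα, φ_zero]
  have h2 : kernel.ι (d Y p) ≫ φ Y α = 0 := by
    ext V x
    obtain ⟨y, hy⟩ : ∃ y : FreeAbelianGroup (K Y (p + 1) V.unop),
        y = ((kernel.ι (d Y p)).app V).hom x := ⟨_, rfl⟩
    have hy0 : bd Y p V.unop y = 0 := by
      rw [hy]
      have := congrArg (fun t : kernel (d Y p) ⟶ P Y p => (t.app V).hom x) (kernel.condition (d Y p))
      exact this
    have hh' := homotopy Y p V.unop y
    rw [hy0, map_zero, add_zero] at hh'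
    show ((φ Y α).app V).hom (((kernel.ι (d Y p)).app V).hom x) = 0
    rw [← hy, ← hh']
    have := congrArg (fun t : P Y (p + 2) ⟶ I => (t.app V).hom (hh Y (p + 1) V.unop y)) h1
    exact this
  have hS : (ShortComplex.mk (kernel.ι (d Y p)) (d Y p) (kernel.condition _)).Exact :=
    ShortComplex.exact_of_f_is_kernel _ (kernelIsKernel _)
  have hψ : d Y p ≫ hS.descToInjective (φ Y α) h2 = φ Y α := hS.comp_descToInjective _ _
  refine ⟨coch Y (hS.descToInjective (φ Y α) h2), ?_⟩
  rw [← coch_d, hψ, coch_φ]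

/-- Čech cohomology of an injective presheaf vanishes in positive degrees -/
theorem isZero_cech_of_injective (I : Cᵒᵖ ⥤ AddCommGrpCat.{w}) [Injective I] (p : ℕ) :
    IsZero (((cechComplexFunctor Y).obj ((Over.forget U).op ⋙ I)).homology (p + 1)) := by
  rw [isZero_homology_succ_iff]
  exact exists_primitive Y I p

end Groth.Agent.Lib.CechSite
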