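import Mathlib
import Groth.Agent.Lib.CechSiteSheaf_helper2

/-!
# Čech cohomology and short exact sequences of sheaves (general universes)

The long exact sequence argument: if `0 → F' → F → F'' → 0` is a short exact sequence of sheaves
which is surjective on sections over the iterated fibre products, then vanishing of Čech
cohomology of `F'` and `F` implies vanishing for `F''`.
-/

set_option autoImplicit false
universe w v u
open CategoryTheory Limits Opposite

namespace Groth.Agent.Lib.CechSiteSES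

open Groth.Agent.Lib.CechSite

variable {C : Type u} [Category.{v} C] {J : GrothendieckTopology C} {U : C}
  [HasFiniteProducts (Over U)] {ι : Type (max v u)} (Y : ι → Over U)

/-- restriction of a morphism of presheaves to `Over U` -/
abbrev qr {P Q : Cᵒᵖ ⥤ AddCommGrpCat.{max v u}} (φ : P ⟶ Q) : Qr (U := U) P ⟶ Qr Q :=
  Functor.whiskerLeft (Over.forget U).op φ

lemma mapC_qr_apply {P Q : Cᵒᵖ ⥤ AddCommGrpCat.{max v u}} (φ : P ⟶ Q) (n : ℕ)
    (β : Coch (Qr P) Y n) (σ : Fin (n + 1) → ι) :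
    mapC (qr φ) Y n β σ = (φ.app (op (T Y σ).left)).hom (β σ) := rfl

variable [HasSheafify J AddCommGrpCat.{max v u}]
  [J.HasSheafCompose (forget AddCommGrpCat.{max v u})] [Balanced (Sheaf J AddCommGrpCat.{max v u})]

/-- the long exact sequence argument: vanishing for the quotient -/
theorem isZero_cechH_X₃ (S : ShortComplex (Sheaf J AddCommGrpCat.{max v u})) (hS : S.ShortExact)
    (p : ℕ)
    (hsurj : ∀ σ : Fin (p + 2) → ι, Function.Surjective (S.g.hom.app (op (T Y σ).left)).hom)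
    (h2 : IsZero (((cechComplexFunctor Y).obj (Qr S.X₂.obj)).homology (p + 1)))
    (h1 : IsZero (((cechComplexFunctor Y).obj (Qr S.X₁.obj)).homology (p + 2))) :
    IsZero (((cechComplexFunctor Y).obj (Qr S.X₃.obj)).homology (p + 1)) := by
  haveI := hS.mono_f
  rw [isZero_homology_succ_iff] at h1 h2 ⊢
  intro γ hγ
  choose γ₀ hγ₀ using fun σ => hsurj σ (γ σ)
  obtain ⟨γ', hγ''⟩ : ∃ γ' : Coch (Qr S.X₂.obj) Y (p + 1), γ' = γ₀ := ⟨γ₀, rfl⟩
  have hγ' : ∀ σ, (S.g.hom.app (op (T Y σ).left)).hom (γ' σ) = γ σ := by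
    intro σ
    rw [hγ'']
    exact hγ₀ σ
  have hγ'm : mapC (qr S.g.hom) Y (p + 1) γ' = γ := funext hγ'
  have hex : ∀ τ : Fin (p + 3) → ι, ∃ a : S.X₁.obj.obj (op (T Y τ).left),
      (S.f.hom.app _).hom a = Dd (Qr S.X₂.obj) Y (p + 1) γ' τ := by
    intro τ
    apply sections_exact S hS.exact inferInstance
    have := congrFun (mapC_Dd (qr S.g.hom) Y (p + 1) γ') τ
    rw [hγ'm, hγ] at this
    exact this.symm
  choose φ hφ using hex
  have hφm : mapC (qr S.f.hom) Y (p + 2) φ = Dd (Qr S.X₂.obj) Y (p + 1) γ' := funext hφ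
  have hDφ : Dd (Qr S.X₁.obj) Y (p + 2) φ = 0 := by
    funext τ
    apply app_injective S.f (T Y τ).left
    have := congrFun (mapC_Dd (qr S.f.hom) Y (p + 2) φ) τ
    rw [hφm, Dd_Dd] at this
    rw [mapC_qr_apply] at this
    refine this.symm.trans ?_
    exact (map_zero _).symm
  obtain ⟨ψ, hψ⟩ := h1 φ hDφ
  have hD0 : Dd (Qr S.X₂.obj) Y (p + 1) (γ' - mapC (qr S.f.hom) Y (p + 1) ψ) = 0 := by
    rw [map_sub, mapC_Dd, hψ, hφm, sub_self]
  obtain ⟨δ, hδ⟩ := h2 _ hD0
  refine ⟨mapC (qr S.g.hom) Y p δ, ?_⟩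
  rw [mapC_Dd, hδ, map_sub, hγ'm]
  have : mapC (qr S.g.hom) Y (p + 1) (mapC (qr S.f.hom) Y (p + 1) ψ) = 0 := by
    funext σ
    rw [mapC_qr_apply, mapC_qr_apply]
    exact app_comp_zero S _ _
  rw [this, sub_zero]

end Groth.Agent.Lib.CechSiteSES
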