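import Mathlib
import Groth.Agent.Lib.EtSchSite_helper7

/-!
# Étale sheaves on the small étale site = Zariski sheaves + affine surjective singletons (helper7)
-/

set_option autoImplicit false
set_option backward.isDefEq.respectTransparency false
universe w u
open CategoryTheory CategoryTheory.Limits AlgebraicGeometry Opposite

namespace Groth.Agent.Lib.EtZarAff_helper7

open Groth.Agent.Lib.EtSchSite_helper7

variable {X : Scheme.{u}}

/-- The Zariski topology on the small étale site. -/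
abbrev Jzar (X : Scheme.{u}) : GrothendieckTopology X.Etale :=
  X.smallGrothendieckTopology (P := @IsOpenImmersion)

theorem isOpenImmersion_le_etale :
    (@IsOpenImmersion : MorphismProperty Scheme.{u}) ≤ @Etale := fun _ _ f hf => by
  haveI : IsOpenImmersion f := hf
  infer_instance

theorem mem_Jzar_iff {W : X.Etale} (R : Sieve W) :
    R ∈ Jzar X W ↔ ∀ x : W.left, ∃ (Y : X.Etale) (f : Y ⟶ W) (y : Y.left),
        R f ∧ IsOpenImmersion f.left ∧ f.left y = x := by
  unfold Jzar
  rw [Scheme.smallGrothendieckTopology_eq_toGrothendieck_smallPretopology X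
    isOpenImmersion_le_etale]
  exact Scheme.mem_toGrothendieck_smallPretopology W R

theorem mem_Jet_iff {W : X.Etale} (R : Sieve W) :
    R ∈ X.smallEtaleTopology W ↔ ∀ x : W.left, ∃ (Y : X.Etale) (f : Y ⟶ W) (y : Y.left),
        R f ∧ Etale f.left ∧ f.left y = x := by
  rw [Scheme.smallEtaleTopology,
    Scheme.smallGrothendieckTopology_eq_toGrothendieck_smallPretopology X le_rfl]
  exact Scheme.mem_toGrothendieck_smallPretopology W R

theorem Jzar_le : Jzar X ≤ X.smallEtaleTopology := by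
  intro W R hR
  rw [mem_Jet_iff]
  rw [mem_Jzar_iff] at hR
  intro x
  obtain ⟨Y, f, y, hf, _, hy⟩ := hR x
  exact ⟨Y, f, y, hf, inferInstance, hy⟩

/-- an open of an étale `X`-scheme as an étale `X`-scheme -/
noncomputable abbrev opn (Z : X.Etale) (O : Z.left.Opens) : X.Etale :=
  haveI : Etale Z.hom := Z.prop
  Scheme.Etale.mk (O.ι ≫ Z.hom)

/-- the inclusion -/
noncomputable abbrev opnι (Z : X.Etale) (O : Z.left.Opens) : opn Z O ⟶ Z :=
  MorphismProperty.Over.homMk O.ι rfl trivial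

theorem exists_affine_nhd (Z : X.Etale) (z : Z.left) :
    ∃ O : Z.left.Opens, IsAffineOpen O ∧ z ∈ O := by
  obtain ⟨O, hO, hz, -⟩ := exists_isAffineOpen_mem_and_subset (x := z) (U := ⊤) trivial
  exact ⟨O, hO, hz⟩

/-- chosen affine open neighbourhood -/
noncomputable def affO (Z : X.Etale) (z : Z.left) : Z.left.Opens :=
  (exists_affine_nhd Z z).choose

theorem affO_isAffineOpen (Z : X.Etale) (z : Z.left) : IsAffineOpen (affO Z z) :=
  (exists_affine_nhd Z z).choose_spec.1

theorem mem_affO (Z : X.Etale) (z : Z.left) : z ∈ affO Z z :=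
  (exists_affine_nhd Z z).choose_spec.2

instance (Z : X.Etale) (z : Z.left) : IsAffine (opn Z (affO Z z)).left :=
  affO_isAffineOpen Z z

theorem mem_range_ι {Z : X.Etale} {O : Z.left.Opens} {z : Z.left} (hz : z ∈ O) :
    ∃ y : (opn Z O).left, (opnι Z O).left y = z := by
  have : z ∈ Set.range O.ι := by rw [Scheme.Opens.range_ι]; exact hz
  exact this

theorem affCover_mem (Z : X.Etale) :
    Sieve.ofArrows (fun z : Z.left => opn Z (affO Z z)) (fun z => opnι Z (affO Z z)) ∈
      Jzar X Z := by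
  rw [mem_Jzar_iff]
  intro z
  obtain ⟨y, hy⟩ := mem_range_ι (mem_affO Z z)
  exact ⟨_, opnι Z (affO Z z), y, Sieve.ofArrows_mk _ _ z,
    inferInstanceAs (IsOpenImmersion (affO Z z).ι), hy⟩

section Fun

variable (F : X.Etaleᵒᵖ ⥤ Type w)

theorem map_map {A B C : X.Etale} (f : A ⟶ B) (g : B ⟶ C) (t : F.obj (op C)) :
    F.map f.op (F.map g.op t) = F.map (f ≫ g).op t := by
  rw [← ConcreteCategory.comp_apply, ← Functor.map_comp, ← op_comp]

variable {F}

theorem isSeparatedFor_of_ext {Z : X.Etale} {R : Presieve Z}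
    (H : ∀ t₁ t₂ : F.obj (op Z),
      (∀ ⦃Y⦄ ⦃f : Y ⟶ Z⦄, R f → F.map f.op t₁ = F.map f.op t₂) → t₁ = t₂) :
    Presieve.IsSeparatedFor F R := by
  intro x t₁ t₂ h₁ h₂
  exact H t₁ t₂ (fun Y f hf => (h₁ f hf).trans (h₂ f hf).symm)

theorem x_congr {Z : X.Etale} {R : Sieve Z} (x : Presieve.FamilyOfElements F R.arrows)
    {W : X.Etale} {f f' : W ⟶ Z} (e : f = f') (hf : R f) (hf' : R f') :
    x f hf = x f' hf' := by
  subst e; rfl

end Fun

/-- the key construction: an étale covering sieve of an affine object contains, Zariski locally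
on an affine surjective `V ⟶ Z`, the map `V ⟶ Z`. -/
theorem exists_affine_surj {Z : X.Etale} [IsAffine Z.left] {R : Sieve Z}
    (hR : R ∈ X.smallEtaleTopology Z) :
    ∃ (V : X.Etale) (_ : IsAffine V.left) (d : V ⟶ Z) (_ : Surjective d.left) (ι : Type u)
      (Vj : ι → X.Etale) (ij : ∀ j, Vj j ⟶ V),
      Sieve.ofArrows Vj ij ∈ Jzar X V ∧ ∀ j, R (ij j ≫ d) := by
  rw [mem_Jet_iff] at hR
  choose Y f y hf hE hy using hR
  choose O hO hyO using fun z => exists_affine_nhd (Y z) (y z)
  let g : ∀ z : Z.left, (O z).toScheme ⟶ Z.left := fun z => (O z).ι ≫ (f z).left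
  have hopen : ∀ z, IsOpen (Set.range (g z)) := fun z => (g z).isOpenMap.isOpen_range
  have hmem : ∀ z, z ∈ Set.range (g z) := by
    intro z
    obtain ⟨a, ha⟩ := mem_range_ι (hyO z)
    refine ⟨a, ?_⟩
    have ha' : (O z).ι a = y z := ha
    calc g z a = (f z).left ((O z).ι a) := Scheme.Hom.comp_apply _ _ _
      _ = z := by rw [ha', hy]
  obtain ⟨t, ht⟩ := isCompact_univ.elim_finite_subcover (fun z => Set.range (g z)) hopen
    (fun z _ => Set.mem_iUnion.2 ⟨z, hmem z⟩)
  let A : t → Scheme.{u} := fun j => (O j.1).toScheme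
  haveI : ∀ j, IsAffine (A j) := fun j => hO j.1
  let VS : Scheme.{u} := ∐ A
  let hV : VS ⟶ X := Sigma.desc (fun j : t => (O j.1).ι ≫ (Y j.1).hom)
  haveI : Etale hV := IsZariskiLocalAtSource.sigmaDesc (P := @Etale) (fun j => inferInstance)
  let V : X.Etale := Scheme.Etale.mk hV
  let dS : VS ⟶ Z.left := Sigma.desc (fun j : t => g j.1)
  have hd : dS ≫ Z.hom = hV := by
    apply Sigma.hom_ext
    intro j
    have e1 : Sigma.ι A j ≫ dS = g j.1 := Sigma.ι_desc _ _
    have e2 : Sigma.ι A j ≫ hV = (O j.1).ι ≫ (Y j.1).hom := Sigma.ι_desc _ _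
    rw [← Category.assoc, e1, e2, Category.assoc, MorphismProperty.Over.w (f j.1)]
  let d : V ⟶ Z := MorphismProperty.Over.homMk dS hd trivial
  let Vj : t → X.Etale := fun j => opn (Y j.1) (O j.1)
  have hij : ∀ j : t, Sigma.ι A j ≫ hV = (O j.1).ι ≫ (Y j.1).hom := fun j => Sigma.ι_desc _ _
  let ij : ∀ j, Vj j ⟶ V := fun j => MorphismProperty.Over.homMk (Sigma.ι A j) (hij j) trivial
  have hR' : ∀ j : t, R (ij j ≫ d) := fun j => by
    have e : ij j ≫ d = opnι (Y j.1) (O j.1) ≫ f j.1 := by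
      apply MorphismProperty.Over.Hom.ext
      show Sigma.ι A j ≫ dS = (O j.1).ι ≫ (f j.1).left
      exact Sigma.ι_desc _ _
    rw [e]
    exact R.downward_closed (hf j.1) _
  have hsurj : Surjective d.left := ⟨fun z => by
    obtain ⟨j, hj, a, ha⟩ : ∃ j ∈ t, ∃ a, g j a = z := by
      have := ht (Set.mem_univ z)
      simpa only [Set.mem_iUnion, Set.mem_range, exists_prop] using this
    refine ⟨Sigma.ι A ⟨j, hj⟩ a, ?_⟩
    have e : Sigma.ι A ⟨j, hj⟩ ≫ dS = g j := Sigma.ι_desc _ _
    calc dS (Sigma.ι A ⟨j, hj⟩ a) = (Sigma.ι A ⟨j, hj⟩ ≫ dS) a :=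
          (Scheme.Hom.comp_apply _ _ _).symm
      _ = g j a := by rw [e]
      _ = z := ha⟩
  have hcov : Sieve.ofArrows Vj ij ∈ Jzar X V := by
    rw [mem_Jzar_iff]
    intro x
    obtain ⟨j, a, ha⟩ := (sigmaOpenCover A).exists_eq x
    exact ⟨Vj j, ij j, a, Sieve.ofArrows_mk _ _ j,
      inferInstanceAs (IsOpenImmersion (Sigma.ι A j)), ha⟩
  exact ⟨V, inferInstanceAs (IsAffine (∐ A)), d, hsurj, t, Vj, ij, hcov, hR'⟩

section Main

variable {F : X.Etaleᵒᵖ ⥤ Type w}

theorem sepAff (hzar : Presieve.IsSheaf (Jzar X) F)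
    (ha : ∀ (U V : X.Etale) [IsAffine U.left] [IsAffine V.left] (f : V ⟶ U)
      [Surjective f.left], Presieve.IsSheafFor F (Presieve.singleton f))
    {Z : X.Etale} [IsAffine Z.left] {R : Sieve Z} (hR : R ∈ X.smallEtaleTopology Z) :
    Presieve.IsSeparatedFor F R.arrows := by
  obtain ⟨V, hV, d, hd, ι, Vj, ij, hcov, hRj⟩ := exists_affine_surj hR
  apply isSeparatedFor_of_ext
  intro t₁ t₂ h
  have h1 : F.map d.op t₁ = F.map d.op t₂ := by
    apply (hzar _ hcov).isSeparatedFor.ext
    intro W k hk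
    obtain ⟨j, a, rfl⟩ := (Sieve.mem_ofArrows_iff _ _ _).1 hk
    rw [map_map, map_map]
    have e : (a ≫ ij j) ≫ d = a ≫ (ij j ≫ d) := Category.assoc _ _ _
    rw [e]
    exact h (R.downward_closed (hRj j) a)
  apply (ha Z V d).isSeparatedFor.ext
  intro W k hk
  cases hk
  exact h1

theorem sep (hzar : Presieve.IsSheaf (Jzar X) F)
    (ha : ∀ (U V : X.Etale) [IsAffine U.left] [IsAffine V.left] (f : V ⟶ U)
      [Surjective f.left], Presieve.IsSheafFor F (Presieve.singleton f))
    {Z : X.Etale} {R : Sieve Z} (hR : R ∈ X.smallEtaleTopology Z) :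
    Presieve.IsSeparatedFor F R.arrows := by
  apply isSeparatedFor_of_ext
  intro t₁ t₂ h
  apply (hzar _ (affCover_mem Z)).isSeparatedFor.ext
  intro W k hk
  obtain ⟨z, a, rfl⟩ := (Sieve.mem_ofArrows_iff _ _ _).1 hk
  rw [← map_map, ← map_map]
  refine congrArg _ ?_
  apply (sepAff hzar ha
    (X.smallEtaleTopology.pullback_stable (opnι Z (affO Z z)) hR)).ext
  intro W' k' hk'
  rw [map_map, map_map]
  exact h hk'

theorem shAff (hzar : Presieve.IsSheaf (Jzar X) F)
    (ha : ∀ (U V : X.Etale) [IsAffine U.left] [IsAffine V.left] (f : V ⟶ U)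
      [Surjective f.left], Presieve.IsSheafFor F (Presieve.singleton f))
    {Z : X.Etale} [IsAffine Z.left] {R : Sieve Z} (hR : R ∈ X.smallEtaleTopology Z) :
    Presieve.IsSheafFor F R.arrows := by
  obtain ⟨V, hV, d, hd, ι, Vj, ij, hcov, hRj⟩ := exists_affine_surj hR
  have hS'mem : Sieve.generate (Presieve.singleton d) ∈ X.smallEtaleTopology Z := by
    apply sieve_mem_of_forall_exists
    intro z
    obtain ⟨v, hv⟩ := hd.surj z
    exact ⟨V, d, ⟨V, 𝟙 V, d, Presieve.singleton.mk, Category.id_comp d⟩, ⟨v, hv⟩⟩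
  refine Presieve.isSheafFor_trans F (Sieve.generate (Presieve.singleton d)) R
    ((Presieve.isSheafFor_iff_generate _).1 (ha Z V d)) ?_ ?_
  · intro W f _
    exact sep hzar ha (X.smallEtaleTopology.pullback_stable f hS'mem)
  · intro W f hf
    obtain ⟨W', k, g, hg, rfl⟩ := hf
    cases hg
    rw [Sieve.pullback_comp]
    apply hzar
    apply (Jzar X).pullback_stable
    refine (Jzar X).superset_covering ?_ hcov
    rw [Sieve.ofArrows, Sieve.generate_le_iff]
    rintro _ _ ⟨j⟩
    exact hRj j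

theorem sh (hzar : Presieve.IsSheaf (Jzar X) F)
    (ha : ∀ (U V : X.Etale) [IsAffine U.left] [IsAffine V.left] (f : V ⟶ U)
      [Surjective f.left], Presieve.IsSheafFor F (Presieve.singleton f))
    {Z : X.Etale} {R : Sieve Z} (hR : R ∈ X.smallEtaleTopology Z) :
    Presieve.IsSheafFor F R.arrows := by
  rw [← Presieve.isSeparatedFor_and_exists_isAmalgamation_iff_isSheafFor]
  refine ⟨sep hzar ha hR, fun x hx => ?_⟩
  have hxs := (Presieve.compatible_iff_sieveCompatible x).1 hx
  have hloc : ∀ z : Z.left, ∃ t : F.obj (op (opn Z (affO Z z))),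
      (x.pullback (opnι Z (affO Z z))).IsAmalgamation t := fun z =>
    (shAff hzar ha (X.smallEtaleTopology.pullback_stable (opnι Z (affO Z z)) hR)
      (x.pullback _) (hx.pullback _)).exists
  choose tb htb using hloc
  have hcompat : Presieve.Arrows.Compatible F (fun z => opnι Z (affO Z z)) tb := by
    intro z z' W a a' haa'
    have haa'' : a ≫ opnι Z (affO Z z) = a' ≫ opnι Z (affO Z z') := haa'
    apply (sep hzar ha
      (X.smallEtaleTopology.pullback_stable (a ≫ opnι Z (affO Z z)) hR)).ext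
    intro W' k hk
    rw [map_map, map_map]
    have h1 : R ((k ≫ a) ≫ opnι Z (affO Z z)) := by rw [Category.assoc]; exact hk
    have h2 : R ((k ≫ a') ≫ opnι Z (affO Z z')) := by
      rw [Category.assoc, ← haa'']; exact hk
    rw [htb z (k ≫ a) h1, htb z' (k ≫ a') h2]
    exact x_congr x (by rw [Category.assoc, Category.assoc, haa'']) _ _
  obtain ⟨t, ht, -⟩ := (Presieve.isSheafFor_arrows_iff _ _).1
    ((Presieve.isSheafFor_iff_generate _).2 (hzar _ (affCover_mem Z))) tb hcompat
  refine ⟨t, ?_⟩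
  intro W f hf
  apply (hzar _ ((Jzar X).pullback_stable f (affCover_mem Z))).isSeparatedFor.ext
  intro W' k hk
  obtain ⟨z, a, hka⟩ := (Sieve.mem_ofArrows_iff _ _ _).1 hk
  have ht' : F.map (opnι Z (affO Z z)).op t = tb z := ht z
  have h1 : R (a ≫ opnι Z (affO Z z)) := by rw [← hka]; exact R.downward_closed hf k
  rw [map_map, hka, ← map_map, ht', htb z a h1, ← hxs f k hf]
  exact x_congr x hka.symm _ _

theorem main (F : X.Etaleᵒᵖ ⥤ Type w) :
    Presieve.IsSheaf X.smallEtaleTopology F ↔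
      Presieve.IsSheaf (X.smallGrothendieckTopology (P := @IsOpenImmersion)) F ∧
        ∀ (U V : X.Etale) [IsAffine U.left] [IsAffine V.left] (f : V ⟶ U) [Surjective f.left],
          Presieve.IsSheafFor F (Presieve.singleton f) := by
  constructor
  · intro hF
    refine ⟨Presieve.isSheaf_of_le F Jzar_le hF, ?_⟩
    intro U V _ _ f hf
    rw [Presieve.isSheafFor_iff_generate]
    apply hF
    apply sieve_mem_of_forall_exists
    intro u
    obtain ⟨v, hv⟩ := hf.surj u
    exact ⟨V, f, ⟨V, 𝟙 V, f, Presieve.singleton.mk, Category.id_comp f⟩, ⟨v, hv⟩⟩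
  · rintro ⟨hzar, ha⟩
    intro Z R hR
    exact sh hzar ha hR

end Main

end Groth.Agent.Lib.EtZarAff_helper7
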