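import Mathlib
import Groth.Prelude.Def_EtBase
import Groth.Agent.Lib.EtZarAff_helper7
import Groth.Agent.Lib.CechSiteSheaf_helper2

/-!
# Small étale site: sheaves on finite disjoint unions, affine surjective refinements (helper8)
APPEND-ONLY once landed.
-/

set_option autoImplicit false
set_option backward.isDefEq.respectTransparency false
universe u
open CategoryTheory CategoryTheory.Limits AlgebraicGeometry Opposite

namespace Groth.Agent.Lib.EtCartanH8

open Groth.Agent.Lib.EtSchSite_helper7 Groth.Agent.Lib.EtZarAff_helper7 Groth.Agent.Lib.CechSite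

variable {X : Scheme.{u}}

theorem mono_of_left_mono {A B : X.Etale} (f : A ⟶ B) [Mono f.left] : Mono f :=
  ⟨fun g h e => by
    apply MorphismProperty.Over.Hom.ext
    have e' : g.left ≫ f.left = h.left ≫ f.left := congrArg (fun φ => φ.left) e
    exact (cancel_mono f.left).1 e'⟩

theorem subsingleton_of_isEmpty (G : EtCoh.Ab X) (Z : X.Etale) [IsEmpty Z.left] :
    Subsingleton (G.obj.obj (op Z)) := by
  have hcov : (⊥ : Sieve Z) ∈ X.smallEtaleTopology Z :=
    sieve_mem_of_forall_exists _ (fun w => isEmptyElim w)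
  have h1 := isSheaf_forget (J := X.smallEtaleTopology) G
  refine ⟨fun a b => ?_⟩
  exact (h1 _ hcov).isSeparatedFor.ext (fun Y f hf => hf.elim)

section Sigma

variable {ι : Type u} (A : ι → Scheme.{u}) (hA : ∀ j, A j ⟶ X) [∀ j, Etale (hA j)]

instance : Etale (Sigma.desc hA) :=
  IsZariskiLocalAtSource.sigmaDesc (P := @Etale) (fun _ => inferInstance)

/-- the disjoint union as an object of the small étale site -/
noncomputable abbrev sigObj : X.Etale := Scheme.Etale.mk (Sigma.desc hA)

/-- the summands -/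
noncomputable abbrev sigPart (j : ι) : X.Etale := Scheme.Etale.mk (hA j)

/-- the inclusions of the summands -/
noncomputable abbrev sigι (j : ι) : sigPart A hA j ⟶ sigObj A hA :=
  MorphismProperty.Over.homMk (Sigma.ι A j) (Sigma.ι_desc _ _) trivial

theorem sig_cover : Sieve.ofArrows (sigPart A hA) (sigι A hA) ∈ X.smallEtaleTopology (sigObj A hA) := by
  apply sieve_mem_of_forall_exists
  intro w
  obtain ⟨j, a, ha⟩ := (sigmaOpenCover A).exists_eq w
  exact ⟨sigPart A hA j, sigι A hA j, Sieve.ofArrows_mk _ _ j, ⟨a, ha⟩⟩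

theorem glue_sigma (G : EtCoh.Ab X) (x : ∀ j, G.obj.obj (op (sigPart A hA j))) :
    ∃! s : G.obj.obj (op (sigObj A hA)), ∀ j, G.obj.map (sigι A hA j).op s = x j := by
  classical
  have h1 := isSheaf_forget (J := X.smallEtaleTopology) G
  have h2 : Presieve.IsSheafFor (G.obj ⋙ forget AddCommGrpCat.{u + 1})
      (Presieve.ofArrows (sigPart A hA) (sigι A hA)) :=
    (Presieve.isSheafFor_iff_generate _).2 (h1 _ (sig_cover A hA))
  refine (Presieve.isSheafFor_arrows_iff _ _).1 h2 x ?_
  intro i j Z gi gj hg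
  by_cases hij : i = j
  · subst hij
    haveI : Mono (sigι A hA i) := by
      haveI : Mono (sigι A hA i).left := inferInstanceAs (Mono (Sigma.ι A i))
      exact mono_of_left_mono _
    rw [(cancel_mono (sigι A hA i)).1 hg]
  · haveI : IsEmpty Z.left := by
      have hsq : CommSq gi.left gj.left (Sigma.ι A i) (Sigma.ι A j) :=
        ⟨congrArg (fun φ => φ.left) hg⟩
      exact isEmpty_of_commSq_sigmaι_of_ne hsq hij
    haveI := subsingleton_of_isEmpty G Z
    exact Subsingleton.elim _ _

end Sigma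

/-- an étale covering sieve of an affine object contains the summands of an affine surjective
`V ⟶ Z`, where `V` is a finite disjoint union on which sheaves glue -/
theorem exists_affine_surj' {Z : X.Etale} [IsAffine Z.left] {R : Sieve Z}
    (hR : R ∈ X.smallEtaleTopology Z) :
    ∃ (V : X.Etale) (_ : IsAffine V.left) (d : V ⟶ Z) (_ : Surjective d.left) (ι : Type u)
      (Vj : ι → X.Etale) (ij : ∀ j, Vj j ⟶ V),
      (∀ j, R (ij j ≫ d)) ∧
      ∀ (G : EtCoh.Ab X) (x : ∀ j, G.obj.obj (op (Vj j))),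
        ∃! s : G.obj.obj (op V), ∀ j, G.obj.map (ij j).op s = x j := by
  rw [mem_Jet_iff] at hR
  choose Y f y hf hE hy using hR
  choose O hO hyO using fun z => exists_affine_nhd (Y z) (y z)
  let g : ∀ z : Z.left, (O z).toScheme ⟶ Z.left := fun z => (O z).ι ≫ (f z).left
  have hopen : ∀ z, IsOpen (Set.range (g z)) := fun z => (g z).isOpenMap.isOpen_range
  have hmem : ∀ z, z ∈ Set.range (g z) := by
    intro z
    obtain ⟨a, ha⟩ := mem_range_ι (hyO z)
    refine ⟨a, ?_⟩
    have ha' : (O z).ι a = y z := ha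
    calc g z a = (f z).left ((O z).ι a) := Scheme.Hom.comp_apply _ _ _
      _ = z := by rw [ha', hy]
  obtain ⟨t, ht⟩ := isCompact_univ.elim_finite_subcover (fun z => Set.range (g z)) hopen
    (fun z _ => Set.mem_iUnion.2 ⟨z, hmem z⟩)
  let A : t → Scheme.{u} := fun j => (O j.1).toScheme
  haveI : ∀ j, IsAffine (A j) := fun j => hO j.1
  let hA : ∀ j : t, A j ⟶ X := fun j => (O j.1).ι ≫ (Y j.1).hom
  haveI : ∀ j, Etale (hA j) := fun j => inferInstance
  let dS : (∐ A) ⟶ Z.left := Sigma.desc (fun j : t => g j.1)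
  have hd : dS ≫ Z.hom = Sigma.desc hA := by
    apply Sigma.hom_ext
    intro j
    have e1 : Sigma.ι A j ≫ dS = g j.1 := Sigma.ι_desc _ _
    have e2 : Sigma.ι A j ≫ Sigma.desc hA = (O j.1).ι ≫ (Y j.1).hom := Sigma.ι_desc _ _
    rw [← Category.assoc, e1, e2, Category.assoc, MorphismProperty.Over.w (f j.1)]
  let d : sigObj A hA ⟶ Z := MorphismProperty.Over.homMk dS hd trivial
  have hR' : ∀ j : t, R (sigι A hA j ≫ d) := fun j => by
    have e : sigι A hA j ≫ d = opnι (Y j.1) (O j.1) ≫ f j.1 := by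
      apply MorphismProperty.Over.Hom.ext
      show Sigma.ι A j ≫ dS = (O j.1).ι ≫ (f j.1).left
      exact Sigma.ι_desc _ _
    rw [e]
    exact R.downward_closed (hf j.1) _
  have hsurj : Surjective d.left := ⟨fun z => by
    obtain ⟨j, hj, a, ha⟩ : ∃ j ∈ t, ∃ a, g j a = z := by
      have := ht (Set.mem_univ z)
      simpa only [Set.mem_iUnion, Set.mem_range, exists_prop] using this
    refine ⟨Sigma.ι A ⟨j, hj⟩ a, ?_⟩
    have e : Sigma.ι A ⟨j, hj⟩ ≫ dS = g j := Sigma.ι_desc _ _
    calc dS (Sigma.ι A ⟨j, hj⟩ a) = (Sigma.ι A ⟨j, hj⟩ ≫ dS) a :=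
          (Scheme.Hom.comp_apply _ _ _).symm
      _ = g j a := by rw [e]
      _ = z := ha⟩
  exact ⟨sigObj A hA, inferInstanceAs (IsAffine (∐ A)), d, hsurj, t, sigPart A hA, sigι A hA,
    hR', fun G x => glue_sigma A hA G x⟩

end Groth.Agent.Lib.EtCartanH8
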