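import Mathlib
import Groth.Agent.Lib.CechSiteSheaf_helper2

/-!
# Lifting a section along an epimorphism of sheaves from vanishing of Čech `H¹` of one covering
family (helper8; the core of helper2's `surjective_of_cechH1`, for a given family)
APPEND-ONLY once landed.
-/

set_option autoImplicit false
universe w v u
open CategoryTheory Limits Opposite

namespace Groth.Agent.Lib.EtCartanH8

open Groth.Agent.Lib.CechSite

variable {C : Type u} [Category.{v} C] {J : GrothendieckTopology C} {U : C}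
  [HasFiniteProducts (Over U)] {ι : Type (max v u)} (Y : ι → Over U)
  [HasSheafify J AddCommGrpCat.{max v u}]
  [J.HasSheafCompose (forget AddCommGrpCat.{max v u})] [Balanced (Sheaf J AddCommGrpCat.{max v u})]

theorem lift_of_cechH1
    (S : ShortComplex (Sheaf J AddCommGrpCat.{max v u})) (hS : S.ShortExact)
    (hY : Sieve.ofArrows (fun i => (Y i).left) (fun i => (Y i).hom) ∈ J U)
    (hH : IsZero (((cechComplexFunctor Y).obj ((Over.forget U).op ⋙ S.X₁.obj)).homology 1))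
    (z : S.X₃.obj.obj (op U)) (t : ∀ i, S.X₂.obj.obj (op (Y i).left))
    (ht' : ∀ i, (S.g.hom.app (op (Y i).left)).hom (t i) = rs S.X₃.obj (Y i).hom z) :
    ∃ T₀ : S.X₂.obj.obj (op U), (S.g.hom.app (op U)).hom T₀ = z := by
  haveI := hS.epi_g
  haveI := hS.mono_f
  rw [isZero_homology_succ_iff] at hH
  -- the differences
  have hc : ∀ σ : Fin 2 → ι, ∃ a : S.X₁.obj.obj (op (T Y σ).left),
      (S.f.hom.app _).hom a = rs S.X₂.obj (pr Y σ 1) (t (σ 1)) - rs S.X₂.obj (pr Y σ 0) (t (σ 0)) := by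
    intro σ
    apply sections_exact S hS.exact inferInstance
    rw [map_sub, rs_app, rs_app, ht', ht', rs_rs, rs_rs, pr_hom, pr_hom, sub_self]
  choose a ha using hc
  have hDa : Dd (Qr S.X₁.obj) Y 1 a = 0 := by
    funext τ
    apply app_injective S.f (T Y τ).left
    show (S.f.hom.app (op (T Y τ).left)).hom (Dd (Qr S.X₁.obj) Y 1 a τ) =
      (S.f.hom.app (op (T Y τ).left)).hom 0
    rw [Dd_apply', map_sum, Fin.sum_univ_three, map_zero]
    simp only [map_zsmul, rs_app, ha, map_sub, rs_rs, face_pr]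
    obtain ⟨r, hr⟩ : ∃ r : Fin 3 → S.X₂.obj.obj (op (T Y τ).left),
        r = fun m => rs S.X₂.obj (pr Y τ m) (t (τ m)) := ⟨_, rfl⟩
    have e : ∀ (k : Fin 3) (j : Fin 2),
        rs S.X₂.obj (pr Y τ (k.succAbove j)) (t ((τ ∘ k.succAbove) j)) = r (k.succAbove j) := by
      intro k j
      rw [hr]
      rfl
    rw [e, e, e, e, e, e]
    rw [show Fin.succAbove (0 : Fin 3) (1 : Fin 2) = 2 from rfl,
      show Fin.succAbove (0 : Fin 3) (0 : Fin 2) = 1 from rfl,
      show Fin.succAbove (1 : Fin 3) (1 : Fin 2) = 2 from rfl,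
      show Fin.succAbove (1 : Fin 3) (0 : Fin 2) = 0 from rfl,
      show Fin.succAbove (2 : Fin 3) (1 : Fin 2) = 1 from rfl,
      show Fin.succAbove (2 : Fin 3) (0 : Fin 2) = 0 from rfl]
    simp only [Fin.val_zero, Fin.val_one, Fin.val_two, pow_zero, pow_one, one_smul, neg_smul]
    rw [show ((-1 : ℤ) ^ 2) = 1 by norm_num, one_smul]
    abel
  obtain ⟨β, hβ⟩ := hH a hDa
  obtain ⟨b, hb⟩ : ∃ b : ∀ i, S.X₁.obj.obj (op (Y i).left), b = ofCoch0 Y S.X₁.obj β := ⟨_, rfl⟩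
  have hab : ∀ σ : Fin 2 → ι, a σ =
      rs S.X₁.obj (pr Y σ 1) (b (σ 1)) - rs S.X₁.obj (pr Y σ 0) (b (σ 0)) := by
    intro σ
    rw [← hβ, Dd0_apply, hb]
  obtain ⟨t'', ht''⟩ : ∃ t'' : ∀ i, S.X₂.obj.obj (op (Y i).left),
      ∀ i, t'' i = t i - (S.f.hom.app (op (Y i).left)).hom (b i) := ⟨_, fun _ => rfl⟩
  have hpair : ∀ σ : Fin 2 → ι, rs S.X₂.obj (pr Y σ 0) (t'' (σ 0)) =
      rs S.X₂.obj (pr Y σ 1) (t'' (σ 1)) := by
    intro σ
    have h1 := ha σ
    rw [hab, map_sub, rs_app, rs_app] at h1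
    rw [ht'', ht'', map_sub, map_sub]
    rw [sub_eq_sub_iff_add_eq_add] at h1 ⊢
    rw [add_comm]
    exact h1
  obtain ⟨T₀, hT₀, -⟩ := existsUnique_glue Y S.X₂ hY t'' (compat_of_pair Y S.X₂.obj t'' hpair)
  refine ⟨T₀, ?_⟩
  apply ext_of_cover Y S.X₃ hY
  intro i
  rw [← rs_app, hT₀ i, ht'', map_sub, ht', app_comp_zero, sub_zero]

end Groth.Agent.Lib.EtCartanH8
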