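import Mathlib
import Groth.Agent.Lib.CechSite_helper2

/-!
# Čech complexes and product preserving functors

For a functor `Φ : D ⥤ D'` preserving finite products and a presheaf `Q` on `D'`, the Čech complex of
`Φ.op ⋙ Q` with respect to a family `Y` is isomorphic to the Čech complex of `Q` with respect to
the image family; in particular acyclicity transfers.
-/

set_option autoImplicit false
universe w v v' u u'
open CategoryTheory Limits Opposite

namespace Groth.Agent.Lib.CechSite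

section Transfer

variable {D : Type u} [Category.{v} D] [HasFiniteProducts D] {D' : Type u'} [Category.{v'} D']
  [HasFiniteProducts D'] (Φ : D ⥤ D') [PreservesFiniteProducts Φ]
  (Q : D'ᵒᵖ ⥤ AddCommGrpCat.{w}) {ι : Type w} (Y : ι → D)

/-- the image family -/
abbrev imF : ι → D' := fun i => Φ.obj (Y i)

/-- the comparison isomorphism for the products of tuples -/
noncomputable def cI {n : ℕ} (σ : Fin n → ι) : Φ.obj (T Y σ) ≅ T (imF Φ Y) σ :=
  PreservesProduct.iso Φ (Y ∘ σ)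

lemma cI_hom_π {n : ℕ} (σ : Fin n → ι) (j : Fin n) :
    (cI Φ Y σ).hom ≫ Pi.π (imF Φ Y ∘ σ) j = Φ.map (Pi.π (Y ∘ σ) j) :=
  piComparison_comp_π Φ (Y ∘ σ) j

lemma cI_face {n : ℕ} (σ : Fin (n + 2) → ι) (k : Fin (n + 2)) :
    Φ.map (face Y σ k) ≫ (cI Φ Y (σ ∘ k.succAbove)).hom =
      (cI Φ Y σ).hom ≫ face (imF Φ Y) σ k := by
  apply Pi.hom_ext
  intro j
  have h1 : (Φ.map (face Y σ k) ≫ (cI Φ Y (σ ∘ k.succAbove)).hom) ≫
      Pi.π (imF Φ Y ∘ σ ∘ k.succAbove) j = Φ.map (Pi.π (Y ∘ σ) (k.succAbove j)) := by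
    rw [Category.assoc, cI_hom_π, ← Φ.map_comp, face_π]
  have h2 : ((cI Φ Y σ).hom ≫ face (imF Φ Y) σ k) ≫
      Pi.π (imF Φ Y ∘ σ ∘ k.succAbove) j = Φ.map (Pi.π (Y ∘ σ) (k.succAbove j)) := by
    rw [Category.assoc, face_π, cI_hom_π]
  exact h1.trans h2.symm

lemma map_hom_inv {A B : D'} (e : A ≅ B) (x : Q.obj (op A)) :
    (Q.map e.hom.op).hom ((Q.map e.inv.op).hom x) = x := by
  show (Q.map e.inv.op ≫ Q.map e.hom.op).hom x = x
  rw [← Q.map_comp, ← op_comp, e.hom_inv_id, op_id, Q.map_id]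
  rfl

lemma map_inv_hom {A B : D'} (e : A ≅ B) (x : Q.obj (op B)) :
    (Q.map e.inv.op).hom ((Q.map e.hom.op).hom x) = x := by
  show (Q.map e.hom.op ≫ Q.map e.inv.op).hom x = x
  rw [← Q.map_comp, ← op_comp, e.inv_hom_id, op_id, Q.map_id]
  rfl

/-- transfer of cochains -/
noncomputable def tr (n : ℕ) : Coch Q (imF Φ Y) n →+ Coch (Φ.op ⋙ Q) Y n where
  toFun β σ := (Q.map (cI Φ Y σ).hom.op).hom (β σ)
  map_zero' := by
    funext σ
    exact map_zero (Q.map (cI Φ Y σ).hom.op).hom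
  map_add' β β' := by
    funext σ
    exact map_add (Q.map (cI Φ Y σ).hom.op).hom _ _

lemma tr_apply (n : ℕ) (β : Coch Q (imF Φ Y) n) (σ : Fin (n + 1) → ι) :
    tr Φ Q Y n β σ = (Q.map (cI Φ Y σ).hom.op).hom (β σ) := rfl

lemma tr_injective (n : ℕ) : Function.Injective (tr Φ Q Y n) := by
  intro β β' h
  funext σ
  have h1 := congrArg (Q.map (cI Φ Y σ).inv.op).hom (congrFun h σ)
  rw [tr_apply, tr_apply, map_inv_hom, map_inv_hom] at h1
  exact h1

lemma tr_surjective (n : ℕ) : Function.Surjective (tr Φ Q Y n) := by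
  intro α
  refine ⟨fun σ => (Q.map (cI Φ Y σ).inv.op).hom (α σ), ?_⟩
  funext σ
  rw [tr_apply]
  exact map_hom_inv Q (cI Φ Y σ) (α σ)

lemma tr_Dd (n : ℕ) (β : Coch Q (imF Φ Y) n) :
    Dd (Φ.op ⋙ Q) Y n (tr Φ Q Y n β) = tr Φ Q Y (n + 1) (Dd Q (imF Φ Y) n β) := by
  funext σ
  rw [Dd_apply, tr_apply, Dd_apply, map_sum]
  refine Finset.sum_congr rfl fun k _ => ?_
  rw [map_zsmul]
  congr 1
  show (Q.map (cI Φ Y (σ ∘ k.succAbove)).hom.op ≫ Q.map (Φ.map (face Y σ k)).op).hom _ =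
    (Q.map (face (imF Φ Y) σ k).op ≫ Q.map (cI Φ Y σ).hom.op).hom _
  rw [← Q.map_comp, ← Q.map_comp, ← op_comp, ← op_comp, cI_face]

/-- acyclicity of the Čech complex of `Q` for the image family implies acyclicity of the Čech
complex of `Φ.op ⋙ Q` -/
theorem isZero_homology_of_image (p : ℕ)
    (h : IsZero (((cechComplexFunctor (imF Φ Y)).obj Q).homology (p + 1))) :
    IsZero (((cechComplexFunctor Y).obj (Φ.op ⋙ Q)).homology (p + 1)) := by
  rw [isZero_homology_succ_iff] at h ⊢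
  intro α hα
  obtain ⟨α', rfl⟩ := tr_surjective Φ Q Y (p + 1) α
  have h0 : Dd Q (imF Φ Y) (p + 1) α' = 0 := by
    apply tr_injective Φ Q Y (p + 2)
    rw [← tr_Dd, hα, map_zero]
  obtain ⟨β, hβ⟩ := h α' h0
  exact ⟨tr Φ Q Y p β, by rw [tr_Dd, hβ]⟩

/-- the converse transfer -/
theorem isZero_homology_image (p : ℕ)
    (h : IsZero (((cechComplexFunctor Y).obj (Φ.op ⋙ Q)).homology (p + 1))) :
    IsZero (((cechComplexFunctor (imF Φ Y)).obj Q).homology (p + 1)) := by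
  rw [isZero_homology_succ_iff] at h ⊢
  intro α hα
  obtain ⟨β, hβ⟩ := h (tr Φ Q Y (p + 1) α) (by rw [tr_Dd, hα, map_zero])
  obtain ⟨β', rfl⟩ := tr_surjective Φ Q Y p β
  refine ⟨β', tr_injective Φ Q Y (p + 1) ?_⟩
  rw [← tr_Dd, hβ]

end Transfer

end Groth.Agent.Lib.CechSite
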