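import Mathlib
import Groth.Prelude.Def_EtCech
import Groth.Agent.Lib.CechTransfer_helper2
import Groth.Agent.Lib.CechSiteInj_helper2
import Groth.Agent.Lib.CechSiteSES_helper2

/-!
# Čech cohomology on small étale sites: direct images, injectives, short exact sequences
-/

set_option autoImplicit false
universe u
open CategoryTheory Limits AlgebraicGeometry Opposite

namespace Groth.Agent.Lib.EtCechPush

open Groth.Agent.Lib.CechSite

/-- slices of the small étale site have finite products -/
theorem hasFiniteProducts_over (X : Scheme.{u}) (W : X.Etale) : HasFiniteProducts (Over W) := by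
  have : HasBinaryProducts (Over W) := Over.ConstructProducts.over_binaryProduct_of_pullback
  have : HasTerminal (Over W) := Over.over_hasTerminal W
  exact hasFiniteProducts_of_has_binary_and_terminal

section Push

variable {X Y : Scheme.{u}} (f : X ⟶ Y)

/-- Čech acyclicity of a presheaf for the base changed family gives Čech acyclicity of the direct
image presheaf -/
theorem isZero_cechH_bc (P : X.Etaleᵒᵖ ⥤ AddCommGrpCat.{u + 1}) (V : Y.Etale)
    [HasFiniteProducts (Over V)] [HasFiniteProducts (Over ((EtCoh.bc f).obj V))]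
    {κ : Type (u + 1)} (Vf : κ → Over V) (p : ℕ)
    (h : IsZero (EtCech.cechH (fun j => (Over.post (EtCoh.bc f)).obj (Vf j)) P (p + 1))) :
    IsZero (EtCech.cechH Vf ((EtCoh.bc f).op ⋙ P) (p + 1)) :=
  isZero_homology_of_image (Over.post (X := V) (EtCoh.bc f))
    ((Over.forget ((EtCoh.bc f).obj V)).op ⋙ P) Vf p h

lemma injective_obj_et (I : EtCoh.Ab X) [Injective I] : Injective I.obj :=
  (Injective.injective_of_adjoint
    (sheafificationAdjunction X.smallEtaleTopology AddCommGrpCat.{u + 1}) I :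
    Injective ((sheafToPresheaf X.smallEtaleTopology AddCommGrpCat.{u + 1}).obj I))

set_option backward.isDefEq.respectTransparency.types false in
/-- base change of a jointly surjective family is jointly surjective -/
lemma bc_family_surjective (V : Y.Etale) {κ : Type (u + 1)} (Vf : κ → Over V)
    (hV : ∀ x : ↥(V.left), ∃ (i : κ) (y : ↥((Vf i).left.left)), (Vf i).hom.left.base y = x) :
    ∀ x : ↥(((EtCoh.bc f).obj V).left),
      ∃ (i : κ) (y : ↥(((Over.post (EtCoh.bc f)).obj (Vf i)).left.left)),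
        ((Over.post (EtCoh.bc f)).obj (Vf i)).hom.left.base y = x := by
  intro x'
  obtain ⟨i, v, hv⟩ := hV ((pullback.fst V.hom f : ((EtCoh.bc f).obj V).left ⟶ V.left) x')
  have sq := EtCoh.isPullback_bc_map f (Vf i).hom
  obtain ⟨z, hz1, -⟩ := Scheme.Pullback.exists_preimage_pullback
    (f := (pullback.fst V.hom f : ((EtCoh.bc f).obj V).left ⟶ V.left))
    (g := (Vf i).hom.left) x' v hv.symm
  refine ⟨i, sq.isoPullback.inv z, ?_⟩
  rw [← hz1]
  show (sq.isoPullback.inv ≫ ((EtCoh.bc f).map (Vf i).hom).left) z = _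
  rw [IsPullback.isoPullback_inv_fst]
  rfl

end Push

section SES

variable {X : Scheme.{u}}

set_option backward.isDefEq.respectTransparency.types false in
/-- every covering sieve of the small étale site contains a jointly surjective family -/
lemma exists_family_of_mem (W : X.Etale) (T : Sieve W) (hT : T ∈ X.smallEtaleTopology W) :
    ∃ (ι : Type (u + 1)) (Yf : ι → Over W), (∀ i, T.arrows (Yf i).hom) ∧
      (∀ x : ↥(W.left), ∃ (i : ι) (y : ↥((Yf i).left.left)), (Yf i).hom.left.base y = x) := by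
  have eX : X.smallEtaleTopology =
      (X.smallPretopology (P := EtCoh.etaleMP) (Q := EtCoh.etaleMP)).toGrothendieck :=
    Scheme.smallGrothendieckTopology_eq_toGrothendieck_smallPretopology X le_rfl
  rw [eX] at hT
  replace hT := (Scheme.mem_toGrothendieck_smallPretopology W T).1 hT
  refine ⟨Σ V : X.Etale, {g : V ⟶ W // T.arrows g}, fun i => Over.mk i.2.1, fun i => i.2.2, ?_⟩
  intro x
  obtain ⟨V, g, v, hg, -, hv⟩ := hT x
  exact ⟨⟨V, g, hg⟩, v, hv⟩

set_option backward.isDefEq.respectTransparency.types false in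
/-- a jointly surjective family generates a covering sieve -/
lemma ofArrows_mem_of_surjective (W : X.Etale) {ι : Type (u + 1)} (Yf : ι → Over W)
    (h : ∀ x : ↥(W.left), ∃ (i : ι) (y : ↥((Yf i).left.left)), (Yf i).hom.left.base y = x) :
    Sieve.ofArrows (fun i => (Yf i).left) (fun i => (Yf i).hom) ∈ X.smallEtaleTopology W := by
  have eX : X.smallEtaleTopology =
      (X.smallPretopology (P := EtCoh.etaleMP) (Q := EtCoh.etaleMP)).toGrothendieck :=
    Scheme.smallGrothendieckTopology_eq_toGrothendieck_smallPretopology X le_rfl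
  rw [eX]
  refine (Scheme.mem_toGrothendieck_smallPretopology W _).2 ?_
  intro x
  obtain ⟨i, y, hy⟩ := h x
  exact ⟨(Yf i).left, (Yf i).hom, y, Sieve.ofArrows_mk _ _ i, inferInstance, hy⟩

/-- the quotient of Čech-flasque sheaves is Čech-flasque -/
theorem isZero_cechH_X₃_et [∀ U : X.Etale, HasFiniteProducts (Over U)]
    (S : ShortComplex (EtCoh.Ab X)) (hS : S.ShortExact)
    (h1 : (∀ (U : X.Etale) (ι : Type (u + 1)) (Uf : ι → Over U),
      (∀ x : ↥(U.left), ∃ (i : ι) (y : ↥((Uf i).left.left)), (Uf i).hom.left.base y = x) →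
      ∀ p : ℕ, 0 < p → IsZero (EtCech.cechH Uf S.X₁.obj p)))
    (h2 : (∀ (U : X.Etale) (ι : Type (u + 1)) (Uf : ι → Over U),
      (∀ x : ↥(U.left), ∃ (i : ι) (y : ↥((Uf i).left.left)), (Uf i).hom.left.base y = x) →
      ∀ p : ℕ, 0 < p → IsZero (EtCech.cechH Uf S.X₂.obj p)))
    (U : X.Etale) (ι : Type (u + 1)) (Uf : ι → Over U)
    (hU : ∀ x : ↥(U.left), ∃ (i : ι) (y : ↥((Uf i).left.left)), (Uf i).hom.left.base y = x)
    (p : ℕ) (hp : 0 < p) :
    IsZero (EtCech.cechH Uf S.X₃.obj p) := by
  obtain ⟨q, rfl⟩ : ∃ q, p = q + 1 := ⟨p - 1, by omega⟩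
  refine Groth.Agent.Lib.CechSiteSES.isZero_cechH_X₃ Uf S hS q ?_
    (h2 U ι Uf hU (q + 1) (Nat.succ_pos _)) (h1 U ι Uf hU (q + 2) (Nat.succ_pos _))
  intro σ
  apply surjective_of_cechH1 S hS
  intro T hT
  obtain ⟨ι', Yf, hYT, hYs⟩ := exists_family_of_mem _ T hT
  exact ⟨ι', Yf, hYT, ofArrows_mem_of_surjective _ Yf hYs, h1 _ ι' Yf hYs 1 Nat.one_pos⟩

end SES

end Groth.Agent.Lib.EtCechPush
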