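import Mathlib
import Groth.Prelude.Def_SpSeq

/-!
# A spectral sequence (starting at page 1) degenerating at page 2, built from split monos (helper7)

Given, for each `q : ℕ`, an object `H q`, objects `A p q` and split monomorphisms
`H q ⟶ A 0 q`, `A p q ⟶ A (p+1) q`, we build a cohomological spectral sequence starting at page one
with `E₁^{p,q} ≅ A p q` (first quadrant), whose `d₁` is exact except at `p = 0`, where its kernel is
`H q`, and which therefore degenerates at `E₂` and abuts to `H`.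
-/

set_option autoImplicit false
universe v u
open CategoryTheory CategoryTheory.Limits ZeroObject

namespace Groth.Agent.Lib.DegenSS_helper7

variable {C : Type u} [Category.{v} C] [Abelian C]

lemma idem_one_sub {X : C} (e : X ⟶ X) (he : e ≫ e = e) :
    (𝟙 X - e) ≫ (𝟙 X - e) = 𝟙 X - e := by
  simp [Preadditive.sub_comp, Preadditive.comp_sub, he]

lemma exact_of_homotopy (S : ShortComplex C) (r : S.X₂ ⟶ S.X₁) (s : S.X₃ ⟶ S.X₂)
    (hrs : r ≫ S.f + S.g ≫ s = 𝟙 S.X₂) : S.Exact := by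
  rw [S.exact_iff_kernel_ι_comp_cokernel_π_zero]
  have h1 : kernel.ι S.g ≫ cokernel.π S.f =
      kernel.ι S.g ≫ (r ≫ S.f + S.g ≫ s) ≫ cokernel.π S.f := by
    rw [hrs, Category.id_comp]
  rw [h1]
  simp [Preadditive.add_comp, Preadditive.comp_add]

/-- The data of a tower of split monomorphisms `H ⟶ A 0 ⟶ A 1 ⟶ ⋯`. -/
structure SplitData (C : Type u) [Category.{v} C] [Abelian C] where
  H : C
  A : ℕ → C
  ι0 : H ⟶ A 0
  ρ0 : A 0 ⟶ H
  h0 : ι0 ≫ ρ0 = 𝟙 H
  ι : ∀ p, A p ⟶ A (p + 1)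
  ρ : ∀ p, A (p + 1) ⟶ A p
  h : ∀ p, ι p ≫ ρ p = 𝟙 (A p)

namespace SplitData

variable (D : SplitData C)

/-- the idempotents -/
noncomputable def Q : ∀ p, D.A p ⟶ D.A p
  | 0 => 𝟙 _ - D.ρ0 ≫ D.ι0
  | (p + 1) => 𝟙 _ - D.ρ p ≫ Q p ≫ D.ι p

lemma Q_idem (p : ℕ) : D.Q p ≫ D.Q p = D.Q p := by
  induction p with
  | zero =>
    show (𝟙 _ - D.ρ0 ≫ D.ι0) ≫ (𝟙 _ - D.ρ0 ≫ D.ι0) = 𝟙 _ - D.ρ0 ≫ D.ι0
    exact idem_one_sub _ (by rw [Category.assoc, reassoc_of% D.h0])
  | succ p ih =>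
    show (𝟙 _ - D.ρ p ≫ D.Q p ≫ D.ι p) ≫ (𝟙 _ - D.ρ p ≫ D.Q p ≫ D.ι p) =
      𝟙 _ - D.ρ p ≫ D.Q p ≫ D.ι p
    refine idem_one_sub _ ?_
    simp only [Category.assoc]
    rw [reassoc_of% (D.h p), reassoc_of% ih]

/-- the differential -/
noncomputable def dd (p : ℕ) : D.A p ⟶ D.A (p + 1) := D.Q p ≫ D.ι p

lemma dd_comp (p : ℕ) : D.dd p ≫ D.dd (p + 1) = 0 := by
  have hQ := D.Q_idem p
  show (D.Q p ≫ D.ι p) ≫ (𝟙 _ - D.ρ p ≫ D.Q p ≫ D.ι p) ≫ D.ι (p + 1) = 0
  simp only [Preadditive.sub_comp, Preadditive.comp_sub, Category.id_comp, Category.assoc]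
  rw [reassoc_of% (D.h p), reassoc_of% hQ, sub_self]

/-- the row complex indexed by `ℕ` -/
noncomputable abbrev K : CochainComplex C ℕ := CochainComplex.of D.A D.dd D.dd_comp

lemma K_d (p : ℕ) : D.K.d p (p + 1) = D.dd p := CochainComplex.of_d _ _ p

lemma K_exactAt_succ (p : ℕ) : D.K.ExactAt (p + 1) := by
  rw [D.K.exactAt_iff' p (p + 1) (p + 1 + 1) (by simp) (by simp)]
  have key : (D.ρ p ≫ D.Q p) ≫ D.dd p + D.dd (p + 1) ≫ D.ρ (p + 1) = 𝟙 (D.A (p + 1)) := by
    show (D.ρ p ≫ D.Q p) ≫ D.Q p ≫ D.ι p +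
      ((𝟙 _ - D.ρ p ≫ D.Q p ≫ D.ι p) ≫ D.ι (p + 1)) ≫ D.ρ (p + 1) = 𝟙 _
    simp only [Category.assoc]
    rw [D.h (p + 1), reassoc_of% (D.Q_idem p), Category.comp_id]
    abel
  have e1 : (D.K.sc' p (p + 1) (p + 1 + 1)).f = D.dd p := D.K_d p
  have e2 : (D.K.sc' p (p + 1) (p + 1 + 1)).g = D.dd (p + 1) := D.K_d (p + 1)
  refine exact_of_homotopy _ (D.ρ p ≫ D.Q p) (D.ρ (p + 1)) ?_
  rw [e1, e2]
  exact key

/-- the homology of the row complex in degree `0` -/
noncomputable def K_homologyZeroIso : D.K.homology 0 ≅ D.H := by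
  haveI : Mono D.ι0 := mono_of_mono_fac D.h0
  have w : D.ι0 ≫ D.K.d 0 1 = 0 := by
    rw [D.K_d 0]
    show D.ι0 ≫ (𝟙 _ - D.ρ0 ≫ D.ι0) ≫ D.ι 0 = 0
    simp only [Preadditive.sub_comp, Preadditive.comp_sub, Category.id_comp, Category.assoc]
    rw [reassoc_of% D.h0, sub_self]
  have hker : IsLimit (KernelFork.ofι D.ι0 w) :=
    KernelFork.IsLimit.ofι' D.ι0 w (fun {W} k hk => ⟨k ≫ D.ρ0, by
      rw [D.K_d 0] at hk
      have hk' : k ≫ (𝟙 _ - D.ρ0 ≫ D.ι0) ≫ D.ι 0 = 0 := hk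
      have h2 := congrArg (· ≫ D.ρ 0) hk'
      simp only [Category.assoc, D.h 0, Category.comp_id, zero_comp] at h2
      rw [Preadditive.comp_sub, Category.comp_id, sub_eq_zero] at h2
      rw [Category.assoc]
      exact h2.symm⟩)
  exact D.K.isoHomologyπ₀.symm ≪≫
    IsLimit.conePointUniqueUpToIso (D.K.cyclesIsKernel 0 1 (by simp)) hker

/-- the row complex indexed by `ℤ` -/
noncomputable def R : CochainComplex C ℤ := D.K.extend ComplexShape.embeddingUpNat

lemma R_homology_zero : Nonempty (D.R.homology 0 ≅ D.H) :=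
  ⟨D.K.extendHomologyIso ComplexShape.embeddingUpNat (j := 0) (j' := 0) (by simp) ≪≫
    D.K_homologyZeroIso⟩

lemma R_exactAt (p : ℤ) (hp : p ≠ 0) : D.R.ExactAt p := by
  by_cases h0 : 0 ≤ p
  · obtain ⟨m, rfl⟩ := Int.eq_ofNat_of_zero_le h0
    cases m with
    | zero => exact absurd rfl hp
    | succ m =>
      have h1 : ComplexShape.embeddingUpNat.f (m + 1) = ((m + 1 : ℕ) : ℤ) := rfl
      exact (D.K.extend_exactAt_iff ComplexShape.embeddingUpNat h1).2 (D.K_exactAt_succ m)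
  · exact D.K.extend_exactAt _ _ (fun j hj => by
      have h1 : ComplexShape.embeddingUpNat.f j = (j : ℤ) := rfl
      rw [h1] at hj
      omega)

lemma R_isZero_X (p : ℤ) (hp : p < 0) : IsZero (D.R.X p) :=
  D.K.isZero_extend_X _ _ (fun j hj => by
    have h1 : ComplexShape.embeddingUpNat.f j = (j : ℤ) := rfl
    rw [h1] at hj
    omega)

/-- the terms of the row complex -/
noncomputable def R_XIso (m : ℕ) : D.R.X (m : ℤ) ≅ D.A m :=
  D.K.extendXIso ComplexShape.embeddingUpNat (i := m) (i' := (m : ℤ)) rfl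

end SplitData

/-! ### Assembling rows into a complex on `ℤ × ℤ` -/

section Assemble

variable (Row : ℤ → CochainComplex C ℤ)

lemma row_d_comp_aux {a b : ℤ} (hab : a = b) (x y z : ℤ) :
    ((Row a).d x y ≫ eqToHom (by rw [hab])) ≫ (Row b).d y z = 0 := by
  subst hab
  simp

/-- the complex on `ℤ × ℤ` with differential of bidegree `(1, 0)` whose rows are given -/
noncomputable def assemble : HomologicalComplex C (ComplexShape.up' ((1 : ℤ), (1 : ℤ) - 1)) where
  X pq := (Row pq.2).X pq.1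
  d pq pq' := if h : pq.2 = pq'.2 then (Row pq.2).d pq.1 pq'.1 ≫ eqToHom (by rw [h]) else 0
  shape pq pq' hrel := by
    split_ifs with h
    · have h1 : ¬ (ComplexShape.up ℤ).Rel pq.1 pq'.1 := by
        intro h1
        apply hrel
        show pq + ((1 : ℤ), (1 : ℤ) - 1) = pq'
        have h1' : pq.1 + 1 = pq'.1 := h1
        ext
        · simpa using h1'
        · simpa using h
      rw [(Row pq.2).shape _ _ h1, zero_comp]
    · rfl
  d_comp_d' i j k _ _ := by
    split_ifs with h1 h2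
    · rw [← Category.assoc, row_d_comp_aux Row h1, zero_comp]
    · exact comp_zero
    · exact zero_comp
    · exact zero_comp

/-- the homology of the assembled complex -/
noncomputable def assembleHomologyIso (p q : ℤ) :
    (assemble Row).homology (p, q) ≅ (Row q).homology p := by
  have hi : (ComplexShape.up' ((1 : ℤ), (1 : ℤ) - 1)).prev (p, q) = (p - 1, q) :=
    ComplexShape.prev_eq' _ (by
      show ((p - 1, q) : ℤ × ℤ) + ((1 : ℤ), (1 : ℤ) - 1) = (p, q)
      ext <;> simp)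
  have hk : (ComplexShape.up' ((1 : ℤ), (1 : ℤ) - 1)).next (p, q) = (p + 1, q) :=
    ComplexShape.next_eq' _ (by
      show ((p, q) : ℤ × ℤ) + ((1 : ℤ), (1 : ℤ) - 1) = (p + 1, q)
      ext <;> simp)
  have e1 : (assemble Row).d (p - 1, q) (p, q) = (Row q).d (p - 1) p := by
    simp [assemble]
  have e2 : (assemble Row).d (p, q) (p + 1, q) = (Row q).d p (p + 1) := by
    simp [assemble]
  let φ : (assemble Row).sc' (p - 1, q) (p, q) (p + 1, q) ≅ (Row q).sc' (p - 1) p (p + 1) :=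
    ShortComplex.isoMk (Iso.refl _) (Iso.refl _) (Iso.refl _)
      (by
        show 𝟙 ((Row q).X (p - 1)) ≫ (Row q).d (p - 1) p =
          (assemble Row).d (p - 1, q) (p, q) ≫ 𝟙 ((Row q).X p)
        rw [e1]; exact (Category.id_comp _).trans (Category.comp_id _).symm)
      (by
        show 𝟙 ((Row q).X p) ≫ (Row q).d p (p + 1) =
          (assemble Row).d (p, q) (p + 1, q) ≫ 𝟙 ((Row q).X (p + 1))
        rw [e2]; exact (Category.id_comp _).trans (Category.comp_id _).symm)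
  exact ShortComplex.homologyMapIso ((assemble Row).isoSc' _ _ _ hi hk) ≪≫
    ShortComplex.homologyMapIso φ ≪≫
    (ShortComplex.homologyMapIso ((Row q).isoSc' (p - 1) p (p + 1) (by simp) (by simp))).symm

end Assemble

/-- the zero complex -/
noncomputable def zeroCx : CochainComplex C ℤ where
  X _ := 0
  d _ _ := 0
  shape _ _ _ := rfl
  d_comp_d' _ _ _ _ _ := zero_comp

lemma zeroCx_exactAt (p : ℤ) : (zeroCx (C := C)).ExactAt p :=
  (HomologicalComplex.exactAt_iff _ _).2 (ShortComplex.exact_of_isZero_X₂ _ (isZero_zero C))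

/-- the homology of a complex with zero differentials -/
noncomputable def homologyIsoOfZero {ι : Type*} {c : ComplexShape ι} (K : HomologicalComplex C c)
    (hd : ∀ i j, K.d i j = 0) (j : ι) : K.homology j ≅ K.X j :=
  haveI : IsIso (K.homologyπ j) := K.isIso_homologyπ _ j rfl (hd _ _)
  haveI : IsIso (K.iCycles j) := K.isIso_iCycles j _ rfl (hd _ _)
  (asIso (K.homologyπ j)).symm ≪≫ asIso (K.iCycles j)

section Main

variable (D : ℕ → SplitData C) (H'' : ℤ → C)

/-- the rows -/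
noncomputable def Row : ℤ → CochainComplex C ℤ
  | Int.ofNat n => (D n).R
  | Int.negSucc _ => zeroCx

lemma Row_natCast (n : ℕ) : Row D (n : ℤ) = (D n).R := rfl

lemma Row_negSucc (n : ℕ) : Row D (Int.negSucc n) = zeroCx := rfl

lemma isZero_Row_X (p q : ℤ) (h : p < 0 ∨ q < 0) : IsZero ((Row D q).X p) := by
  by_cases hq : q < 0
  · obtain ⟨m, rfl⟩ := Int.eq_negSucc_of_lt_zero hq
    rw [Row_negSucc]
    exact isZero_zero C
  · obtain ⟨n, rfl⟩ := Int.eq_ofNat_of_zero_le (not_lt.1 hq)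
    rw [Row_natCast]
    exact (D n).R_isZero_X p (by omega)

/-- the second page -/
noncomputable def E2 (pq : ℤ × ℤ) : C := if pq.1 = 0 then H'' pq.2 else 0

/-- the first page -/
noncomputable def P1 : HomologicalComplex C (ComplexShape.up' ((1 : ℤ), (1 : ℤ) - 1)) :=
  assemble (Row D)

lemma nonempty_P1_homology_iso (hH : ∀ n : ℕ, Nonempty ((D n).H ≅ H'' n))
    (hH0 : ∀ n : ℤ, n < 0 → IsZero (H'' n)) (pq : ℤ × ℤ) :
    Nonempty ((P1 D).homology pq ≅ E2 H'' pq) := by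
  obtain ⟨p, q⟩ := pq
  suffices hh : Nonempty ((Row D q).homology p ≅ E2 H'' (p, q)) from
    ⟨assembleHomologyIso (Row D) p q ≪≫ hh.some⟩
  by_cases hp : p = 0
  · subst hp
    have e0 : H'' q = E2 H'' (0, q) := (if_pos rfl).symm
    by_cases hq : q < 0
    · obtain ⟨m, rfl⟩ := Int.eq_negSucc_of_lt_zero hq
      rw [Row_negSucc]
      exact ⟨IsZero.iso ((zeroCx_exactAt 0).isZero_homology) (hH0 _ hq) ≪≫ eqToIso e0⟩
    · obtain ⟨n, rfl⟩ := Int.eq_ofNat_of_zero_le (not_lt.1 hq)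
      obtain ⟨e⟩ := hH n
      rw [Row_natCast]
      exact ⟨(D n).R_homology_zero.some ≪≫ e ≪≫ eqToIso e0⟩
  · have hz : IsZero (E2 H'' (p, q)) := by
      show IsZero (if p = 0 then H'' q else 0)
      rw [if_neg hp]
      exact isZero_zero C
    by_cases hq : q < 0
    · obtain ⟨m, rfl⟩ := Int.eq_negSucc_of_lt_zero hq
      rw [Row_negSucc]
      exact ⟨IsZero.iso (zeroCx_exactAt p).isZero_homology hz⟩
    · obtain ⟨n, rfl⟩ := Int.eq_ofNat_of_zero_le (not_lt.1 hq)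
      rw [Row_natCast]
      exact ⟨IsZero.iso ((D n).R_exactAt p hp).isZero_homology hz⟩

/-- the pages `≥ 2` -/
noncomputable def P2 (r : ℤ) : HomologicalComplex C (ComplexShape.up' ((r, 1 - r) : ℤ × ℤ)) where
  X pq := E2 H'' pq
  d _ _ := 0
  shape _ _ _ := rfl
  d_comp_d' _ _ _ _ _ := zero_comp

/-- all pages -/
noncomputable def pageFn (r : ℤ) : HomologicalComplex C (ComplexShape.up' ((r, 1 - r) : ℤ × ℤ)) :=
  if h : r = 1 then (by subst h; exact P1 D) else P2 H'' r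

lemma pageFn_one : pageFn D H'' 1 = P1 D := by
  unfold pageFn
  rw [dif_pos rfl]

lemma pageFn_ne {r : ℤ} (h : r ≠ 1) : pageFn D H'' r = P2 H'' r := dif_neg h

variable (hH : ∀ n : ℕ, Nonempty ((D n).H ≅ H'' n)) (hH0 : ∀ n : ℤ, n < 0 → IsZero (H'' n))

/-- the spectral sequence -/
noncomputable def E : CohomologicalSpectralSequence C 1 where
  page r _ := pageFn D H'' r
  iso r r' pq hrr' hr := by
    by_cases h : r = 1
    · subst h
      subst hrr'
      exact eqToIso (by rw [pageFn_one]) ≪≫ (nonempty_P1_homology_iso D H'' hH hH0 pq).some ≪≫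
        eqToIso (by rw [pageFn_ne D H'' (by norm_num : (1 : ℤ) + 1 ≠ 1)]; rfl)
    · have h' : r' ≠ 1 := by omega
      exact eqToIso (by rw [pageFn_ne D H'' h]) ≪≫
        homologyIsoOfZero (P2 H'' r) (fun _ _ => rfl) pq ≪≫
        eqToIso (by rw [pageFn_ne D H'' h']; rfl)

lemma E_page (r : ℤ) (hr : 1 ≤ r) : (E D H'' hH hH0).page r hr = pageFn D H'' r := rfl

end Main

section Final

lemma grIso_top_bot {X : C} (S T : Subobject X) (hS : S = ⊥) (hT : T = ⊤) (hle : S ≤ T) :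
    Nonempty (cokernel (S.ofLE T hle) ≅ X) := by
  subst hS hT
  have hz : IsZero ((⊥ : Subobject X) : C) := (isZero_zero C).of_iso Subobject.botCoeIsoZero
  have hf : (⊥ : Subobject X).ofLE ⊤ hle = 0 := hz.eq_of_src _ _
  exact ⟨cokernelIsoOfEq hf ≪≫ cokernelZeroIsoTarget ≪≫ asIso (⊤ : Subobject X).arrow⟩

lemma gr_isZero_of_eq {X : C} (S T : Subobject X) (hST : S = T) (hle : S ≤ T) :
    IsZero (cokernel (S.ofLE T hle)) := by
  subst hST
  haveI : IsIso (S.ofLE S hle) := by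
    rw [Subobject.ofLE_refl]
    infer_instance
  exact isZero_cokernel_of_epi _

variable (D : ℕ → SplitData C) (H'' : ℤ → C)
  (hH : ∀ n : ℕ, Nonempty ((D n).H ≅ H'' n)) (hH0 : ∀ n : ℤ, n < 0 → IsZero (H'' n))

/-- the filtration on the abutment -/
noncomputable def fil (n : ℤ) (p : ℤ) : Subobject (H'' n) := if p ≤ 0 then ⊤ else ⊥

lemma fil_anti (n : ℤ) : Antitone (fil H'' n) := by
  intro p p' hpp'
  unfold fil
  split_ifs <;> first | exact le_rfl | exact bot_le | (exfalso; omega)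

lemma nonempty_beta (pq : ℤ × ℤ) :
    Nonempty (E2 H'' pq ≅
      SpSeq.grPiece (fil H'' (pq.1 + pq.2)) (fil_anti H'' (pq.1 + pq.2)) pq.1) := by
  obtain ⟨p, q⟩ := pq
  by_cases hp : p = 0
  · subst hp
    have e0 : E2 H'' (0, q) = H'' q := if_pos rfl
    have e1 : H'' q = H'' (0 + q) := by rw [zero_add]
    obtain ⟨e⟩ := grIso_top_bot (fil H'' (0 + q) (0 + 1)) (fil H'' (0 + q) 0)
      (if_neg (by norm_num)) (if_pos le_rfl) (fil_anti H'' _ (Int.le_add_one le_rfl))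
    exact ⟨eqToIso e0 ≪≫ eqToIso e1 ≪≫ e.symm⟩
  · have hz : IsZero (E2 H'' (p, q)) := by
      show IsZero (if p = 0 then H'' q else 0)
      rw [if_neg hp]
      exact isZero_zero C
    refine ⟨hz.iso (gr_isZero_of_eq _ _ ?_ _)⟩
    show fil H'' (p + q) (p + 1) = fil H'' (p + q) p
    unfold fil
    split_ifs <;> first | rfl | (exfalso; omega)

/-- the abutment -/
noncomputable def abut : SpSeq.Abutment (E D H'' hH hH0) H'' where
  fil n := fil H'' n
  anti n := fil_anti H'' n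
  rk _ := 2
  stat pq := ⟨by norm_num, fun r' h₀ h2 => by
    have hne : r' ≠ 1 := by omega
    have e : (E D H'' hH hH0).page r' h₀ = P2 H'' r' := pageFn_ne D H'' hne
    constructor
    · rw [e]; rfl
    · rw [e]; rfl⟩
  β pq := eqToIso (by
    show (pageFn D H'' 2).X pq = _
    rw [pageFn_ne D H'' (by norm_num)]
    rfl) ≪≫ (nonempty_beta H'' pq).some

lemma abut_isFinite (n : ℤ) : (abut D H'' hH hH0).IsFinite n :=
  ⟨⟨0, show fil H'' n 0 = ⊤ from if_pos le_rfl⟩,
    ⟨1, show fil H'' n 1 = ⊥ from if_neg (by norm_num)⟩⟩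

lemma E_bounded : SpSeq.IsBounded (E D H'' hH hH0) := by
  intro n
  refine (Set.finite_Icc (0 : ℤ) n).subset ?_
  intro p hp
  by_contra hcon
  apply hp
  have e : (E D H'' hH hH0).page 1 le_rfl = P1 D := pageFn_one D H''
  rw [e]
  show IsZero ((Row D (n - p)).X p)
  apply isZero_Row_X
  simp only [Set.mem_Icc, not_and_or, not_le] at hcon
  omega

lemma nonempty_page_one_iso (E1 : ℤ → ℤ → C) (hE : ∀ p q : ℕ, Nonempty ((D q).A p ≅ E1 p q))
    (hE0 : ∀ p q : ℤ, (p < 0 ∨ q < 0) → IsZero (E1 p q)) (p q : ℤ) :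
    Nonempty (((E D H'' hH hH0).page 1 le_rfl).X (p, q) ≅ E1 p q) := by
  have e : (E D H'' hH hH0).page 1 le_rfl = P1 D := pageFn_one D H''
  rw [e]
  show Nonempty ((Row D q).X p ≅ E1 p q)
  by_cases h : p < 0 ∨ q < 0
  · exact ⟨(isZero_Row_X D p q h).iso (hE0 p q h)⟩
  · have hp : 0 ≤ p := by omega
    have hq : 0 ≤ q := by omega
    obtain ⟨m, rfl⟩ := Int.eq_ofNat_of_zero_le hp
    obtain ⟨n, rfl⟩ := Int.eq_ofNat_of_zero_le hq
    obtain ⟨e'⟩ := hE m n
    rw [Row_natCast]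
    exact ⟨(D n).R_XIso m ≪≫ e'⟩

include hH hH0 in
/-- **Main construction**: a spectral sequence starting at page one, with prescribed first page,
degenerating at page two, abutting to `H''`. -/
theorem exists_ss (E1 : ℤ → ℤ → C) (hE : ∀ p q : ℕ, Nonempty ((D q).A p ≅ E1 p q))
    (hE0 : ∀ p q : ℤ, (p < 0 ∨ q < 0) → IsZero (E1 p q)) :
    ∃ (E : CohomologicalSpectralSequence C 1) (a : SpSeq.Abutment E H''),
      (∀ n, a.IsFinite n) ∧ SpSeq.IsBounded E ∧
      ∀ p q : ℤ, Nonempty ((E.page 1 le_rfl).X (p, q) ≅ E1 p q) :=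
  ⟨E D H'' hH hH0, abut D H'' hH hH0, abut_isFinite D H'' hH hH0, E_bounded D H'' hH hH0,
    nonempty_page_one_iso D H'' hH hH0 E1 hE hE0⟩

end Final

end Groth.Agent.Lib.DegenSS_helper7
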