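import Mathlib

/-!
# Left Kan extension along a flat functor preserves finite limits, in general universes (helper9)

Mathlib's `lan_preservesFiniteLimits_of_flat` is stated for small categories only.  Here the
source and target categories are arbitrary and the value category is only assumed to have exact
colimits of the relevant (filtered) shapes.
-/

open CategoryTheory CategoryTheory.Limits CategoryTheory.Functor

namespace LanFlat

universe v₁ v₂ v₃ u₁ u₂ u₃

variable {C : Type u₁} [Category.{v₁} C] {D : Type u₂} [Category.{v₂} D]
  (E : Type u₃) [Category.{v₃} E]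

set_option backward.defeqAttrib.useBackward true in
set_option backward.isDefEq.respectTransparency false in
/-- The evaluation of `F.lan` at `X` is the colimit over the costructured arrows over `X`. -/
noncomputable def lanEvaluationIsoColim (F : C ⥤ D) (X : D)
    [∀ X : D, HasColimitsOfShape (CostructuredArrow F X) E] :
    F.lan ⋙ (evaluation D E).obj X ≅
      (Functor.whiskeringLeft _ _ E).obj (CostructuredArrow.proj F X) ⋙ colim :=
  NatIso.ofComponents (fun G =>
    IsColimit.coconePointUniqueUpToIso
    (Functor.isPointwiseLeftKanExtensionLeftKanExtensionUnit F G X)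
    (colimit.isColimit _)) (fun {G₁ G₂} φ => by
      apply (Functor.isPointwiseLeftKanExtensionLeftKanExtensionUnit F G₁ X).hom_ext
      intro T
      have h₁ := fun (G : C ⥤ E) => IsColimit.comp_coconePointUniqueUpToIso_hom
        (Functor.isPointwiseLeftKanExtensionLeftKanExtensionUnit F G X) (colimit.isColimit _) T
      have h₂ := congr_app (F.lanUnit.naturality φ) T.left
      dsimp at h₁ h₂ ⊢
      simp only [Category.assoc] at h₁ ⊢
      simp only [Functor.lan, Functor.lanUnit] at h₂ ⊢
      rw [reassoc_of% h₁, NatTrans.naturality_assoc, ← reassoc_of% h₂, h₁,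
        ι_colimMap, Functor.whiskerLeft_app]
      rfl)

/-- If `F : C ⥤ D` is representably flat and `E` has exact colimits of the shapes of the
costructured arrow categories of `F.op`, then `F.op.lan` preserves finite limits. -/
theorem lan_preservesFiniteLimits_of_flat (F : C ⥤ D) [RepresentablyFlat F] [HasFiniteLimits E]
    [∀ X : Dᵒᵖ, HasColimitsOfShape (CostructuredArrow F.op X) E]
    [∀ X : Dᵒᵖ, HasExactColimitsOfShape (CostructuredArrow F.op X) E] :
    PreservesFiniteLimits (F.op.lan : (Cᵒᵖ ⥤ E) ⥤ Dᵒᵖ ⥤ E) := by
  constructor
  intro J _ _
  apply preservesLimitsOfShape_of_evaluation (F.op.lan : (Cᵒᵖ ⥤ E) ⥤ Dᵒᵖ ⥤ E) J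
  intro K
  exact preservesLimitsOfShape_of_natIso (lanEvaluationIsoColim E F.op K).symm

/-- the costructured arrow categories of the opposite of a flat functor are filtered -/
theorem isFiltered_costructuredArrow_op (F : C ⥤ D) [RepresentablyFlat F] (K : Dᵒᵖ) :
    IsFiltered (CostructuredArrow F.op K) :=
  IsFiltered.of_equivalence (structuredArrowOpEquivalence F (Opposite.unop K))

end LanFlat
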