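import Mathlib
import Groth.Prelude.Def_EtMod2
import Groth.Agent.Lib.LanFlat_helper9

/-!
# Exactness of the inverse image of étale sheaves of modules (helper9)

`EtModW.pull Λ f` preserves finite limits (and is a left adjoint, hence exact and additive);
`EtModW.push Λ f` preserves injectives.
-/

open CategoryTheory CategoryTheory.Limits AlgebraicGeometry Opposite

namespace EtPullExact

universe u

variable (Λ : Type (u + 1)) [CommRing Λ] {X Y : Scheme.{u}} (f : X ⟶ Y)

instance isFiltered_costr (K : X.Etaleᵒᵖ) : IsFiltered (CostructuredArrow (EtCoh.bc f).op K) :=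
  LanFlat.isFiltered_costructuredArrow_op (EtCoh.bc f) K

instance hasExact_costr (K : X.Etaleᵒᵖ) :
    HasExactColimitsOfShape (CostructuredArrow (EtCoh.bc f).op K) (ModuleCat.{u + 1} Λ) := by
  haveI : HasFilteredColimitsOfSize.{u, u + 1} (ModuleCat.{u + 1} Λ) :=
    hasFilteredColimitsOfSize_shrink.{u, u + 1, u + 1, u + 1}
  haveI : AB5OfSize.{u, u + 1} (ModuleCat.{u + 1} Λ) :=
    AB5OfSize_shrink.{u, u + 1, u + 1, u + 1} (ModuleCat.{u + 1} Λ)
  infer_instance

instance lan_pfl : PreservesFiniteLimits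
    ((EtCoh.bc f).op.lan : (Y.Etaleᵒᵖ ⥤ ModuleCat.{u + 1} Λ) ⥤ X.Etaleᵒᵖ ⥤ ModuleCat.{u + 1} Λ) :=
  LanFlat.lan_preservesFiniteLimits_of_flat _ (EtCoh.bc f)

instance pull_pfl : PreservesFiniteLimits (EtModW.pull Λ f) :=
  Functor.sheafPullbackConstruction.preservesFiniteLimits _ _ _ _

/-- the adjunction `f^* ⊣ f_*` for sheaves of modules -/
noncomputable abbrev pullPushAdj : EtModW.pull Λ f ⊣ EtModW.push Λ f :=
  (EtCoh.bc f).sheafAdjunctionContinuous (ModuleCat.{u + 1} Λ) Y.smallEtaleTopology
    X.smallEtaleTopology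

instance pull_isLeftAdjoint : (EtModW.pull Λ f).IsLeftAdjoint := (pullPushAdj Λ f).isLeftAdjoint

instance pull_pfc : PreservesFiniteColimits (EtModW.pull Λ f) := by
  haveI : PreservesColimitsOfSize.{0, 0} (EtModW.pull Λ f) :=
    (pullPushAdj Λ f).leftAdjoint_preservesColimits
  exact PreservesColimitsOfSize.preservesFiniteColimits _

instance pull_additive : (EtModW.pull Λ f).Additive := (pullPushAdj Λ f).left_adjoint_additive

instance push_preservesInjectiveObjects : (EtModW.push Λ f).PreservesInjectiveObjects :=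
  Functor.preservesInjectiveObjects_of_adjunction_of_preservesMonomorphisms (pullPushAdj Λ f)

section Ab

instance hasExact_costr_ab (K : X.Etaleᵒᵖ) :
    HasExactColimitsOfShape (CostructuredArrow (EtCoh.bc f).op K) AddCommGrpCat.{u + 1} := by
  haveI : HasFilteredColimitsOfSize.{u, u + 1} AddCommGrpCat.{u + 1} :=
    hasFilteredColimitsOfSize_shrink.{u, u + 1, u + 1, u + 1}
  haveI : AB5OfSize.{u, u + 1} AddCommGrpCat.{u + 1} :=
    AB5OfSize_shrink.{u, u + 1, u + 1, u + 1} AddCommGrpCat.{u + 1}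
  infer_instance

instance lan_pfl_ab : PreservesFiniteLimits
    ((EtCoh.bc f).op.lan : (Y.Etaleᵒᵖ ⥤ AddCommGrpCat.{u + 1}) ⥤ X.Etaleᵒᵖ ⥤ AddCommGrpCat.{u + 1}) :=
  LanFlat.lan_preservesFiniteLimits_of_flat _ (EtCoh.bc f)

instance pull_pfl_ab : PreservesFiniteLimits (EtCoh.pull f) :=
  Functor.sheafPullbackConstruction.preservesFiniteLimits _ _ _ _

instance pull_isLeftAdjoint_ab : (EtCoh.pull f).IsLeftAdjoint := (EtCoh.pullPushAdj f).isLeftAdjoint

instance pull_pfc_ab : PreservesFiniteColimits (EtCoh.pull f) := by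
  haveI : PreservesColimitsOfSize.{0, 0} (EtCoh.pull f) :=
    (EtCoh.pullPushAdj f).leftAdjoint_preservesColimits
  exact PreservesColimitsOfSize.preservesFiniteColimits _

instance pull_additive_ab : (EtCoh.pull f).Additive := (EtCoh.pullPushAdj f).left_adjoint_additive

instance push_preservesInjectiveObjects_ab : (EtCoh.push f).PreservesInjectiveObjects :=
  Functor.preservesInjectiveObjects_of_adjunction_of_preservesMonomorphisms (EtCoh.pullPushAdj f)

end Ab

instance push_pfl : PreservesFiniteLimits (EtModW.push Λ f) := by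
  haveI : PreservesLimitsOfSize.{0, 0} (EtModW.push Λ f) :=
    (pullPushAdj Λ f).rightAdjoint_preservesLimits
  exact PreservesLimitsOfSize.preservesFiniteLimits _

instance push_pfl_ab : PreservesFiniteLimits (EtCoh.push f) := by
  haveI : PreservesLimitsOfSize.{0, 0} (EtCoh.push f) :=
    (EtCoh.pullPushAdj f).rightAdjoint_preservesLimits
  exact PreservesLimitsOfSize.preservesFiniteLimits _

end EtPullExact
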