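import Mathlib

/-!
# Functoriality of `Ext.mapExactFunctor` for a retraction of exact functors (helper7)

If `P : 𝒜 ⥤ ℬ`, `S : ℬ ⥤ 𝒜` are exact and `τ : 𝟭 ⟶ P ⋙ S`, then `τ` is "natural on Ext classes";
if `P ⋙ S ≅ 𝟭`, the map induced by `P` on `Ext` groups is a split monomorphism.
-/

set_option autoImplicit false
universe w w' v v' u u'
open CategoryTheory CategoryTheory.Limits Abelian

namespace Groth.Agent.Lib.ExtRetract_helper7

variable {𝒜 : Type u} [Category.{v} 𝒜] [Abelian 𝒜] [HasExt.{w} 𝒜]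
  {ℬ : Type u'} [Category.{v'} ℬ] [Abelian ℬ] [HasExt.{w'} ℬ]
  (P : 𝒜 ⥤ ℬ) [P.Additive] [PreservesFiniteLimits P] [PreservesFiniteColimits P]
  (S : ℬ ⥤ 𝒜) [S.Additive] [PreservesFiniteLimits S] [PreservesFiniteColimits S]

theorem key [EnoughInjectives 𝒜] (τ : 𝟭 𝒜 ⟶ P ⋙ S) (n : ℕ) :
    ∀ {X Y : 𝒜} (e : Ext.{w} X Y n),
    e.comp (Ext.mk₀ (τ.app Y)) (add_zero n) =
      (Ext.mk₀ (τ.app X)).comp ((e.mapExactFunctor P).mapExactFunctor S) (zero_add n) := by
  induction n with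
  | zero =>
    intro X Y e
    obtain ⟨f, rfl⟩ := (Ext.mk₀_bijective X Y).2 e
    rw [Ext.mapExactFunctor_mk₀, Ext.mapExactFunctor_mk₀, Ext.mk₀_comp_mk₀, Ext.mk₀_comp_mk₀]
    exact congrArg Ext.mk₀ (τ.naturality f)
  | succ n ih =>
    intro X Y e
    let S0 : ShortComplex 𝒜 := ShortComplex.mk _ _ (cokernel.condition (Injective.ι Y))
    have hS0 : S0.ShortExact :=
      { exact := ShortComplex.exact_of_g_is_cokernel _ (cokernelIsCokernel S0.f) }
    obtain ⟨e', rfl⟩ : ∃ e' : Ext X S0.X₃ n, e'.comp hS0.extClass rfl = e :=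
      Ext.covariant_sequence_exact₁ X hS0 e (Ext.eq_zero_of_injective _) rfl
    have hS1 := hS0.map_of_exact P
    have hS2 := hS1.map_of_exact S
    let φ : S0 ⟶ (S0.map P).map S :=
      { τ₁ := τ.app S0.X₁, τ₂ := τ.app S0.X₂, τ₃ := τ.app S0.X₃
        comm₁₂ := (τ.naturality S0.f).symm
        comm₂₃ := (τ.naturality S0.g).symm }
    have hnat : hS0.extClass.comp (Ext.mk₀ (τ.app Y)) (add_zero 1) =
        (Ext.mk₀ (τ.app S0.X₃)).comp hS2.extClass (zero_add 1) :=
      ShortComplex.ShortExact.extClass_naturality hS0 hS2 φ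
    have hc : (hS0.extClass.mapExactFunctor P).mapExactFunctor S = hS2.extClass :=
      (congrArg (fun x => x.mapExactFunctor S) (Ext.mapExactFunctor_extClass P hS0)).trans
        (Ext.mapExactFunctor_extClass S hS1)
    have hlast : ((e'.comp hS0.extClass rfl).mapExactFunctor P).mapExactFunctor S =
        ((e'.mapExactFunctor P).mapExactFunctor S).comp hS2.extClass rfl := by
      rw [Ext.mapExactFunctor_comp, Ext.mapExactFunctor_comp, hc]
      rfl
    calc (e'.comp hS0.extClass rfl).comp (Ext.mk₀ (τ.app Y)) (add_zero (n + 1))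
        = e'.comp (hS0.extClass.comp (Ext.mk₀ (τ.app Y)) (add_zero 1)) rfl :=
          Ext.comp_assoc_of_third_deg_zero _ _ _ _
      _ = e'.comp ((Ext.mk₀ (τ.app S0.X₃)).comp hS2.extClass (zero_add 1)) rfl :=
          congrArg (fun x => e'.comp x rfl) hnat
      _ = (e'.comp (Ext.mk₀ (τ.app S0.X₃)) (add_zero n)).comp hS2.extClass rfl :=
          (Ext.comp_assoc_of_second_deg_zero _ _ _ _).symm
      _ = ((Ext.mk₀ (τ.app X)).comp ((e'.mapExactFunctor P).mapExactFunctor S)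
            (zero_add n)).comp hS2.extClass rfl :=
          congrArg (fun x => x.comp hS2.extClass rfl) (ih e')
      _ = (Ext.mk₀ (τ.app X)).comp
            (((e'.mapExactFunctor P).mapExactFunctor S).comp hS2.extClass rfl)
            (zero_add (n + 1)) :=
          Ext.comp_assoc _ _ _ (zero_add n) rfl (by omega)
      _ = _ := congrArg (fun x => (Ext.mk₀ (τ.app X)).comp x (zero_add (n + 1))) hlast.symm

/-- If `P ⋙ S ≅ 𝟭`, then `P` induces a split monomorphism on `Ext` groups (up to the given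
identifications of the images of the two arguments). -/
theorem exists_retract [EnoughInjectives 𝒜] (θ : P ⋙ S ≅ 𝟭 𝒜) {Z G : 𝒜} {Z' G' : ℬ}
    (c : P.obj Z ≅ Z') (g : P.obj G ≅ G') (n : ℕ) :
    ∃ (i : Ext.{w} Z G n →+ Ext.{w'} Z' G' n) (r : Ext.{w'} Z' G' n →+ Ext.{w} Z G n),
      ∀ e, r (i e) = e := by
  refine ⟨((Ext.mk₀ c.inv).precomp G' (zero_add n)).comp
      (((Ext.mk₀ g.hom).postcomp (P.obj Z) (add_zero n)).comp (P.mapExtAddHom Z G n)),
    ((Ext.mk₀ (θ.inv.app Z ≫ S.map c.hom)).precomp G (zero_add n)).comp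
      (((Ext.mk₀ (S.map g.inv ≫ θ.hom.app G)).postcomp (S.obj Z') (add_zero n)).comp
        (S.mapExtAddHom Z' G' n)), ?_⟩
  intro e
  have hk := key P S θ.inv n e
  show (Ext.mk₀ (θ.inv.app Z ≫ S.map c.hom)).comp
    ((((Ext.mk₀ c.inv).comp ((e.mapExactFunctor P).comp (Ext.mk₀ g.hom) (add_zero n))
      (zero_add n)).mapExactFunctor S).comp (Ext.mk₀ (S.map g.inv ≫ θ.hom.app G)) (add_zero n))
    (zero_add n) = e
  rw [Ext.mapExactFunctor_comp, Ext.mapExactFunctor_comp, Ext.mapExactFunctor_mk₀,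
    Ext.mapExactFunctor_mk₀]
  simp only [Ext.comp_assoc_of_third_deg_zero, Ext.mk₀_comp_mk₀, Ext.mk₀_comp_mk₀_assoc]
  have e1 : (θ.inv.app Z ≫ S.map c.hom) ≫ S.map c.inv = θ.inv.app Z := by
    rw [Category.assoc, ← S.map_comp, c.hom_inv_id, S.map_id]
    exact Category.comp_id _
  have e2 : S.map g.hom ≫ S.map g.inv ≫ θ.hom.app G = θ.hom.app G := by
    rw [← Category.assoc, ← S.map_comp, g.hom_inv_id, S.map_id]
    exact Category.id_comp _
  rw [e1, e2]
  have h3 := Ext.comp_assoc (Ext.mk₀ (θ.inv.app Z)) ((e.mapExactFunctor P).mapExactFunctor S)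
    (Ext.mk₀ (θ.hom.app G)) (zero_add n) (add_zero n) (by omega : 0 + n + 0 = n)
  rw [← h3, ← hk, Ext.comp_assoc_of_third_deg_zero, Ext.mk₀_comp_mk₀, θ.inv_hom_id_app]
  exact Ext.comp_mk₀_id e

end Groth.Agent.Lib.ExtRetract_helper7
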