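import Mathlib
import Groth.Prelude.Def_EtCore
import Groth.Prelude.Def_SpSeq
import Groth.Agent.Lib.DegenSS_helper7
import Groth.Agent.Lib.ExtRetract_helper7
import Groth.Agent.Lib.EtPullExact_helper9

/-!
# The descent spectral sequence of a morphism with a section (étale case) (helper7)
-/

set_option autoImplicit false
set_option backward.isDefEq.respectTransparency false
universe u
open CategoryTheory CategoryTheory.Limits AlgebraicGeometry Opposite

namespace Groth.Agent.Lib.EtDescentSec_helper7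

open EtPullExact

/-! ### `pull (𝟙 X) ≅ 𝟭` -/

section Id

variable (X : Scheme.{u})

/-- base change along the identity is the identity -/
noncomputable def bcId : EtCoh.bc (𝟙 X) ≅ 𝟭 X.Etale :=
  NatIso.ofComponents
    (fun V => MorphismProperty.Over.isoMk (asIso (pullback.fst V.hom (𝟙 X)))
      (by
        show pullback.fst V.hom (𝟙 X) ≫ V.hom = pullback.snd V.hom (𝟙 X)
        rw [pullback.condition, Category.comp_id]))
    (fun {V W} g => by
      apply MorphismProperty.Over.Hom.ext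
      show ((EtCoh.bc (𝟙 X)).map g).left ≫ pullback.fst W.hom (𝟙 X) =
        pullback.fst V.hom (𝟙 X) ≫ g.left
      exact (EtCoh.isPullback_bc_map (𝟙 X) g).w)

noncomputable def pushId : EtCoh.push (𝟙 X) ≅ 𝟭 (EtCoh.Ab X) :=
  Functor.sheafPushforwardContinuousId' (bcId X) AddCommGrpCat.{u + 1} X.smallEtaleTopology

noncomputable def pullId : EtCoh.pull (𝟙 X) ≅ 𝟭 (EtCoh.Ab X) :=
  (EtCoh.pullPushAdj (𝟙 X)).leftAdjointUniq (Adjunction.id.ofNatIsoRight (pushId X).symm)

end Id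

/-- the retraction isomorphism -/
noncomputable def thetaOf {X' X'' : Scheme.{u}} (π : X' ⟶ X'') (σ : X'' ⟶ X')
    (h : σ ≫ π = 𝟙 X'') : EtCoh.pull π ⋙ EtCoh.pull σ ≅ 𝟭 (EtCoh.Ab X'') :=
  (EtCore.pullComp σ π).symm ≪≫ EtCore.pullCongr h ≪≫ pullId X''

theorem exists_retract_et {X' X'' : Scheme.{u}} (π : X' ⟶ X'') (σ : X'' ⟶ X')
    (h : σ ≫ π = 𝟙 X'') (G : EtCoh.Ab X'') (G' : EtCoh.Ab X')
    (g : (EtCoh.pull π).obj G ≅ G') (q : ℕ) :
    ∃ (i : AddCommGrpCat.of (EtCoh.H X'' G q) ⟶ AddCommGrpCat.of (EtCoh.H X' G' q))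
      (r : AddCommGrpCat.of (EtCoh.H X' G' q) ⟶ AddCommGrpCat.of (EtCoh.H X'' G q)),
      i ≫ r = 𝟙 _ := by
  have hh : ∃ (i : EtCoh.H X'' G q →+ EtCoh.H X' G' q) (r : EtCoh.H X' G' q →+ EtCoh.H X'' G q),
      ∀ e, r (i e) = e :=
    ExtRetract_helper7.exists_retract (EtCoh.pull π) (EtCoh.pull σ) (thetaOf π σ h)
      (EtCore.pullConst π ℤ) g q
  obtain ⟨i, r, hir⟩ := hh
  refine ⟨AddCommGrpCat.ofHom i, AddCommGrpCat.ofHom r, ?_⟩
  ext e
  exact hir e

/-! ### The Čech nerve of a morphism with a section -/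

section Nerve

variable {X Y : Scheme.{u}} (f : X ⟶ Y) (s : Y ⟶ X) (hs : s ≫ f = 𝟙 Y)

/-- the `(n+1)`-fold fibre product -/
noncomputable abbrev Xn (n : ℕ) : Scheme.{u} :=
  widePullback Y (fun _ : Fin (n + 1) => X) (fun _ => f)

/-- its projection to the base -/
noncomputable abbrev bn (n : ℕ) : Xn f n ⟶ Y := WidePullback.base (fun _ : Fin (n + 1) => f)

/-- forget the last coordinate -/
noncomputable def πn (n : ℕ) : Xn f (n + 1) ⟶ Xn f n :=
  WidePullback.lift (bn f (n + 1))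
    (fun i => WidePullback.π (fun _ : Fin (n + 1 + 1) => f) i.castSucc)
    (fun _ => WidePullback.π_arrow _ _)

/-- add the section as last coordinate -/
noncomputable def σn (n : ℕ) : Xn f n ⟶ Xn f (n + 1) :=
  WidePullback.lift (bn f n)
    (fun i => Fin.lastCases (bn f n ≫ s) (fun j => WidePullback.π (fun _ : Fin (n + 1) => f) j) i)
    (fun i => by
      induction i using Fin.lastCases with
      | last => simp [hs]
      | cast j => simp)

lemma σ_π (n : ℕ) : σn f s hs n ≫ πn f n = 𝟙 _ := by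
  apply WidePullback.hom_ext
  · intro j
    simp [σn, πn]
  · simp [σn, πn]

lemma π_b (n : ℕ) : πn f n ≫ bn f n = bn f (n + 1) := by
  simp [πn]

/-- the section at level zero -/
noncomputable def σ0 : Y ⟶ Xn f 0 :=
  WidePullback.lift (𝟙 Y) (fun _ => s) (fun _ => hs)

lemma σ0_b : σ0 f s hs ≫ bn f 0 = 𝟙 Y := by
  simp [σ0]

variable (F : EtCoh.Ab Y)

/-- the terms of the first page -/
noncomputable def T (p q : ℕ) : AddCommGrpCat.{u + 1} :=
  AddCommGrpCat.of (EtCoh.H (Xn f p) ((EtCoh.pull (bn f p)).obj F) q)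

include s hs in
lemma retr0 (q : ℕ) :
    ∃ (i : AddCommGrpCat.of (EtCoh.H Y F q) ⟶ T f F 0 q)
      (r : T f F 0 q ⟶ AddCommGrpCat.of (EtCoh.H Y F q)), i ≫ r = 𝟙 _ :=
  exists_retract_et (bn f 0) (σ0 f s hs) (σ0_b f s hs) F _ (Iso.refl _) q

include s hs in
lemma retr (p q : ℕ) :
    ∃ (i : T f F p q ⟶ T f F (p + 1) q) (r : T f F (p + 1) q ⟶ T f F p q), i ≫ r = 𝟙 _ :=
  exists_retract_et (πn f p) (σn f s hs p) (σ_π f s hs p) _ _
    (((EtCore.pullComp (πn f p) (bn f p)).symm ≪≫ EtCore.pullCongr (π_b f p)).app F) q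

/-- the split data in cohomological degree `q` -/
noncomputable def splitData (q : ℕ) : DegenSS_helper7.SplitData AddCommGrpCat.{u + 1} where
  H := AddCommGrpCat.of (EtCoh.H Y F q)
  A p := T f F p q
  ι0 := (retr0 f s hs F q).choose
  ρ0 := (retr0 f s hs F q).choose_spec.choose
  h0 := (retr0 f s hs F q).choose_spec.choose_spec
  ι p := (retr f s hs F p q).choose
  ρ p := (retr f s hs F p q).choose_spec.choose
  h p := (retr f s hs F p q).choose_spec.choose_spec

include hs in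
theorem main :
    ∃ (E : CohomologicalSpectralSequence AddCommGrpCat.{u + 1} 1)
      (a : SpSeq.Abutment E (fun n : ℤ =>
        if 0 ≤ n then AddCommGrpCat.of (EtCoh.H Y F n.toNat) else AddCommGrpCat.of PUnit.{u + 2})),
      (∀ n, a.IsFinite n) ∧ SpSeq.IsBounded E ∧
      ∀ p q : ℤ, Nonempty ((E.page 1 le_rfl).X (p, q) ≅
        (if 0 ≤ p ∧ 0 ≤ q then T f F p.toNat q.toNat else AddCommGrpCat.of PUnit.{u + 2})) := by
  refine DegenSS_helper7.exists_ss (splitData f s hs F)
    (fun n : ℤ =>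
      if 0 ≤ n then AddCommGrpCat.of (EtCoh.H Y F n.toNat) else AddCommGrpCat.of PUnit.{u + 2})
    ?_ ?_
    (fun p q : ℤ =>
      if 0 ≤ p ∧ 0 ≤ q then T f F p.toNat q.toNat else AddCommGrpCat.of PUnit.{u + 2}) ?_ ?_
  · intro n
    rw [if_pos (Int.natCast_nonneg n)]
    simp only [Int.toNat_natCast]
    exact ⟨Iso.refl _⟩
  · intro n hn
    rw [if_neg (by omega)]
    exact AddCommGrpCat.isZero_of_subsingleton _
  · intro p q
    rw [if_pos ⟨Int.natCast_nonneg p, Int.natCast_nonneg q⟩]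
    simp only [Int.toNat_natCast]
    exact ⟨Iso.refl _⟩
  · intro p q h
    rw [if_neg (by omega)]
    exact AddCommGrpCat.isZero_of_subsingleton _

end Nerve

end Groth.Agent.Lib.EtDescentSec_helper7
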