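import Mathlib

/-!
# Sections of étale algebras over henselian local rings through residual points (helper7)
-/

set_option autoImplicit false
universe u
open Polynomial

namespace Groth.Agent.Lib.HensSection_helper7

theorem residue_aeval {R : Type*} [CommRing R] [IsLocalRing R] (a : R) (p : R[X]) :
    IsLocalRing.residue R (aeval a p) = aeval (IsLocalRing.residue R a) p :=
  (Polynomial.aeval_algHom_apply (Algebra.ofId R (IsLocalRing.ResidueField R)) a p).symm

/-- Over a henselian local ring, an étale algebra with a point in the residue field has a section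
through this point. -/
theorem exists_section_of_etale {R : Type u} [CommRing R] [HenselianLocalRing R] {B : Type u}
    [CommRing B] [Algebra R B] [Algebra.Etale R B]
    (ψ : B →ₐ[R] IsLocalRing.ResidueField R) :
    ∃ σ : B →ₐ[R] R, ∀ b, IsLocalRing.residue R (σ b) = ψ b := by
  let Q : Ideal B := RingHom.ker ψ.toRingHom
  haveI : Q.IsPrime := RingHom.ker_isPrime _
  haveI : Algebra.FinitePresentation R B := Algebra.Etale.finitePresentation
  haveI hQ : Algebra.IsEtaleAt R Q := by
    have h := (Algebra.etaleLocus_eq_univ_iff (R := R) (A := B)).2 inferInstance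
    have hm : (⟨Q, inferInstance⟩ : PrimeSpectrum B) ∈ Algebra.etaleLocus R B := by
      rw [h]; trivial
    exact hm
  obtain ⟨f, hfQ, hstd⟩ := Algebra.IsEtaleAt.exists_isStandardEtale (R := R) Q
  obtain ⟨P⟩ := hstd.nonempty_standardEtalePresentation
  have hψf : ψ f ≠ 0 := fun h => hfQ h
  have hunits : ∀ y : Submonoid.powers f, IsUnit (ψ y) := by
    rintro ⟨_, n, rfl⟩
    rw [map_pow]
    exact (IsUnit.mk0 _ hψf).pow n
  let ψ' : Localization.Away f →ₐ[R] IsLocalRing.ResidueField R :=
    IsLocalization.liftAlgHom (M := Submonoid.powers f) hunits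
  have hψ' : ∀ b, ψ' (algebraMap B (Localization.Away f) b) = ψ b :=
    fun b => IsLocalization.lift_eq _ b
  obtain ⟨α, hα⟩ : ∃ α, α = ψ' P.x := ⟨_, rfl⟩
  have hmapα : P.P.HasMap α := hα ▸ P.hasMap.map ψ'
  have hder : IsUnit (aeval α (derivative P.f)) := hmapα.isUnit_derivative_f
  have H : ∀ f : R[X], f.Monic → ∀ a₀ : IsLocalRing.ResidueField R, aeval a₀ f = 0 →
      aeval a₀ (derivative f) ≠ 0 → ∃ a : R, f.IsRoot a ∧ IsLocalRing.residue R a = a₀ :=
    ((HenselianLocalRing.TFAE R).out 0 1).1 ‹_›
  obtain ⟨a, ha, haα⟩ := H P.f P.monic_f α hmapα.1 hder.ne_zero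
  have hmapa : P.P.HasMap a := by
    refine ⟨?_, ?_⟩
    · rw [Polynomial.coe_aeval_eq_eval]; exact ha
    · rw [← IsLocalRing.residue_ne_zero_iff_isUnit, residue_aeval, haα]
      exact hmapα.2.ne_zero
  let τ : P.P.Ring →ₐ[R] R := P.P.lift a hmapa
  let τ' : Localization.Away f →ₐ[R] R := τ.comp P.equivRing.toAlgHom
  have hτ' : (Algebra.ofId R (IsLocalRing.ResidueField R)).comp τ' = ψ' := by
    apply P.hom_ext
    show IsLocalRing.residue R (τ (P.equivRing P.x)) = ψ' P.x
    rw [P.equivRing_x, StandardEtalePair.lift_X, haα, hα]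
  refine ⟨τ'.comp (IsScalarTower.toAlgHom R B (Localization.Away f)), fun b => ?_⟩
  have := congrArg (fun m => m (algebraMap B (Localization.Away f) b)) hτ'
  exact this.trans (hψ' b)

end Groth.Agent.Lib.HensSection_helper7
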