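import Mathlib
import Groth.Prelude.Def_EtBase
import Groth.Agent.Lib.HensSection_helper7
import Groth.Agent.Lib.EtSchSite_helper7

/-!
# Étale sheaves on the spectrum of a strictly henselian local ring (helper7)
-/

set_option autoImplicit false
set_option backward.isDefEq.respectTransparency false
universe u
open CategoryTheory CategoryTheory.Limits AlgebraicGeometry Opposite

namespace Groth.Agent.Lib.HensStalk_helper7

instance pfcAb' : PreservesFilteredColimitsOfSize.{u, u} (forget AddCommGrpCat.{u+1}) :=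
  preservesFilteredColimitsOfSize_shrink.{u, u+1, u, u+1} _

variable (R : Type u) [CommRing R] [HenselianLocalRing R]

/-- The closed point of the spectrum of a local ring, as a point with values in the residue
field. -/
noncomputable abbrev clPt :
    Spec (CommRingCat.of (IsLocalRing.ResidueField R)) ⟶ Spec (CommRingCat.of R) :=
  Spec.map (CommRingCat.ofHom (IsLocalRing.residue R))

/-- An étale neighbourhood of the closed point of a henselian local scheme, with trivial residue
field extension, has a section through the given point. -/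
theorem exists_section {U : Scheme.{u}} (g : U ⟶ Spec (CommRingCat.of R)) [Etale g]
    (x : Spec (CommRingCat.of (IsLocalRing.ResidueField R)) ⟶ U) (hx : x ≫ g = clPt R) :
    ∃ s : Spec (CommRingCat.of R) ⟶ U, s ≫ g = 𝟙 _ ∧ clPt R ≫ s = x := by
  obtain ⟨B, j, hj, hxj, -⟩ :=
    Scheme.exists_affine_mem_range_and_range_subset (x := x default) (U := ⊤) trivial
  have hrange : Set.range x ⊆ Set.range j := by
    rintro _ ⟨a, rfl⟩
    rwa [Subsingleton.elim a default]
  obtain ⟨y', hy'⟩ : ∃ y' : Spec (CommRingCat.of (IsLocalRing.ResidueField R)) ⟶ Spec B,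
      y' ≫ j = x := ⟨IsOpenImmersion.lift j x hrange, IsOpenImmersion.lift_fac _ _ _⟩
  obtain ⟨φ, hφ⟩ : ∃ φ : CommRingCat.of R ⟶ B, Spec.map φ = j ≫ g :=
    ⟨Spec.preimage (j ≫ g), Spec.map_preimage _⟩
  obtain ⟨ψ₀, hψ₀⟩ : ∃ ψ₀ : B ⟶ CommRingCat.of (IsLocalRing.ResidueField R),
      Spec.map ψ₀ = y' := ⟨Spec.preimage y', Spec.map_preimage _⟩
  have hcomp : φ ≫ ψ₀ = CommRingCat.ofHom (IsLocalRing.residue R) := by
    apply Spec.map_injective
    rw [Spec.map_comp, hψ₀, hφ, ← Category.assoc, hy', hx]
  have hEt : φ.hom.Etale := by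
    haveI : Etale (j ≫ g) := inferInstance
    have h : Etale (Spec.map φ) := hφ ▸ this
    exact (HasRingHomProperty.Spec_iff (P := @Etale)).1 h
  letI : Algebra R B := φ.hom.toAlgebra
  haveI : Algebra.Etale R B :=
    RingHom.etale_algebraMap.1 (by rw [RingHom.algebraMap_toAlgebra]; exact hEt)
  let ψ : B →ₐ[R] IsLocalRing.ResidueField R :=
    { ψ₀.hom with
      commutes' := fun r => by
        show ψ₀.hom (φ.hom r) = _
        exact congrArg (fun m => m.hom r) hcomp }
  obtain ⟨σ, hσ⟩ := HensSection_helper7.exists_section_of_etale ψ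
  let σ₀ : B ⟶ CommRingCat.of R := CommRingCat.ofHom σ.toRingHom
  have h1 : φ ≫ σ₀ = 𝟙 _ := by
    ext r
    exact σ.commutes r
  have h2 : σ₀ ≫ CommRingCat.ofHom (IsLocalRing.residue R) = ψ₀ := by
    ext b
    exact hσ b
  refine ⟨Spec.map σ₀ ≫ j, ?_, ?_⟩
  · rw [Category.assoc, ← hφ, ← Spec.map_comp, h1, Spec.map_id]
  · rw [← Category.assoc, ← Spec.map_comp, h2, hψ₀, hy']

variable [IsSepClosed (IsLocalRing.ResidueField R)]

/-- The closed geometric point as a lift to the terminal object. -/
noncomputable abbrev clLift :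
    (Scheme.pointSmallEtale (clPt R)).fiber.obj (EtCoh.top (Spec (CommRingCat.of R))) :=
  Over.homMk (clPt R) (Category.comp_id _)

theorem exists_hom_of_lift (U : (Spec (CommRingCat.of R)).Etale)
    (x : (Scheme.pointSmallEtale (clPt R)).fiber.obj U) :
    ∃ s : EtCoh.top (Spec (CommRingCat.of R)) ⟶ U,
      (Scheme.pointSmallEtale (clPt R)).fiber.map s (clLift R) = x := by
  obtain ⟨s, hs1, hs2⟩ := exists_section R U.hom x.left (Over.w x)
  refine ⟨MorphismProperty.Over.homMk s hs1 trivial, ?_⟩
  apply Over.OverMorphism.ext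
  exact hs2

theorem end_top {X : Scheme.{u}} (e : EtCoh.top X ⟶ EtCoh.top X) : e = 𝟙 _ := by
  apply MorphismProperty.Over.Hom.ext
  have h := MorphismProperty.Over.w e
  have h' : e.left ≫ 𝟙 X = 𝟙 X := h
  exact (Category.comp_id e.left).symm.trans h'

theorem bijective_toStalk (F : EtCoh.Ab (Spec (CommRingCat.of R))) :
    Function.Bijective ((Scheme.pointSmallEtale (clPt R)).toPresheafFiber
      (EtCoh.top (Spec (CommRingCat.of R))) (clLift R) F.obj) := by
  constructor
  · intro z₁ z₂ h
    obtain ⟨Y, f, y, hy, heq⟩ :=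
      ((Scheme.pointSmallEtale (clPt R)).toPresheafFiber_eq_iff' (P := F.obj) _ (clLift R)
        z₁ z₂).1 h
    obtain ⟨s, hs⟩ := exists_hom_of_lift R Y y
    have e := end_top (s ≫ f)
    have h1 : ∀ z : EtCoh.sect F (EtCoh.top (Spec (CommRingCat.of R))),
        F.obj.map s.op (F.obj.map f.op z) = z := by
      intro z
      rw [← EtSchSite_helper7.map_comp_apply, e, op_id, CategoryTheory.Functor.map_id]
      rfl
    rw [← h1 z₁, heq, h1 z₂]
  · intro t
    obtain ⟨U, x, z, rfl⟩ :=
      (Scheme.pointSmallEtale (clPt R)).toPresheafFiber_jointly_surjective (P := F.obj) t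
    obtain ⟨s, hs⟩ := exists_hom_of_lift R U x
    refine ⟨F.obj.map s.op z, ?_⟩
    rw [← hs]
    exact (Scheme.pointSmallEtale (clPt R)).toPresheafFiber_w_apply s (clLift R) F.obj z

end Groth.Agent.Lib.HensStalk_helper7
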