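import Mathlib
import Groth.Prelude.Def_EtBase
import Groth.Agent.Lib.HensStalk_helper7

/-!
# Stalks of the direct image along a closed immersion outside the closed subscheme (helper7)
-/

set_option autoImplicit false
set_option backward.isDefEq.respectTransparency false
universe u
open CategoryTheory CategoryTheory.Limits AlgebraicGeometry Opposite

namespace Groth.Agent.Lib.EtPushClosed_helper7

open Groth.Agent.Lib.EtSchSite_helper7 Groth.Agent.Lib.HensStalk_helper7

/-- Sections of an abelian sheaf over an étale scheme with empty underlying space vanish. -/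
theorem eq_zero_of_isEmpty {Z : Scheme.{u}} (G : EtCoh.Ab Z) (V : Z.Etale) [IsEmpty V.left]
    (z : EtCoh.sect G V) : z = 0 := by
  refine Sheaf.isSeparated G V ⊥ ?_ z 0 (fun Y f hf => hf.elim)
  apply sieve_mem_of_forall_exists
  intro w
  exact isEmptyElim w

theorem isZero_stalk_push {Z X : Scheme.{u}} (i : Z ⟶ X) [IsClosedImmersion i] [EtCoh.BCCont i]
    (G : EtCoh.Ab Z) {Ω : Type u} [Field Ω] [IsSepClosed Ω] (ξ : Spec (CommRingCat.of Ω) ⟶ X)
    (hξ : Disjoint (Set.range ξ.base) (Set.range i.base)) :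
    IsZero ((EtCoh.stalk ξ).obj ((EtCoh.push i).obj G)) := by
  have key : ∀ t : ToType ((Scheme.pointSmallEtale ξ).presheafFiber.obj
      ((EtCoh.push i).obj G).obj), t = 0 := by
    intro t
    obtain ⟨U, x, z, rfl⟩ := (Scheme.pointSmallEtale ξ).toPresheafFiber_jointly_surjective t
    let W : U.left.Opens := ⟨(U.hom ⁻¹' (Set.range i))ᶜ,
      (i.isClosedEmbedding.isClosed_range.preimage U.hom.continuous).isOpen_compl⟩
    haveI : Etale (W.ι ≫ U.hom) := inferInstance
    let U' : X.Etale := Scheme.Etale.mk (W.ι ≫ U.hom)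
    let f : U' ⟶ U := MorphismProperty.Over.homMk W.ι rfl trivial
    have hxξ : x.left ≫ U.hom = ξ := Over.w x
    have hrange : Set.range x.left ⊆ Set.range W.ι := by
      rw [Scheme.Opens.range_ι]
      rintro _ ⟨a, rfl⟩
      intro (ha : U.hom (x.left a) ∈ Set.range i)
      have h1 : U.hom (x.left a) = ξ a :=
        congrArg (fun (m : Spec (CommRingCat.of Ω) ⟶ X) => m a) hxξ
      rw [h1] at ha
      exact Set.disjoint_left.1 hξ ⟨a, rfl⟩ ha
    have hw : IsOpenImmersion.lift W.ι x.left hrange ≫ (W.ι ≫ U.hom) = ξ := by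
      rw [← Category.assoc, IsOpenImmersion.lift_fac, hxξ]
    let x' : (Scheme.pointSmallEtale ξ).fiber.obj U' :=
      Over.homMk (IsOpenImmersion.lift W.ι x.left hrange) hw
    have hx' : (Scheme.pointSmallEtale ξ).fiber.map f x' = x := by
      apply Over.OverMorphism.ext
      exact IsOpenImmersion.lift_fac _ _ _
    haveI : IsEmpty ((EtCoh.bc i).obj U').left := by
      show IsEmpty ↥(pullback (W.ι ≫ U.hom) i)
      rw [Scheme.isEmpty_pullback_iff, Set.disjoint_left]
      rintro _ ⟨w, rfl⟩ hw'
      have h2 : (W.ι ≫ U.hom) w = U.hom (W.ι w) := Scheme.Hom.comp_apply _ _ _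
      rw [h2] at hw'
      exact w.2 hw'
    have hz : ((EtCoh.push i).obj G).obj.map f.op z = 0 :=
      eq_zero_of_isEmpty G ((EtCoh.bc i).obj U') _
    rw [← hx', ← (Scheme.pointSmallEtale ξ).toPresheafFiber_w_apply f x'
      ((EtCoh.push i).obj G).obj z, hz, map_zero]
  haveI : Subsingleton ((EtCoh.stalk ξ).obj ((EtCoh.push i).obj G)) :=
    ⟨fun a b => (key a).trans (key b).symm⟩
  exact AddCommGrpCat.isZero_of_subsingleton _

end Groth.Agent.Lib.EtPushClosed_helper7
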