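import Mathlib
import Groth.Prelude.Def_SGA4b
import Groth.Agent.Lib.Kummer_helper7

/-!
# Geometric points of the small étale site of a scheme detect locally injective / surjective
morphisms (helper7)
-/

set_option autoImplicit false
set_option backward.isDefEq.respectTransparency false
universe u
open CategoryTheory CategoryTheory.Limits AlgebraicGeometry Opposite

namespace Groth.Agent.Lib.EtSchStalk_helper7

open Groth.Agent.Lib.EtSchSite_helper7 Groth.Agent.Lib.Kummer_helper7

variable {X : Scheme.{u}}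

theorem exists_geometric_lift (U : X.Etale) (x : U.left) :
    ∃ (K : Type u) (_ : Field K) (_ : IsAlgClosed K) (ξ : Spec (CommRingCat.of K) ⟶ X)
      (l : (Scheme.pointSmallEtale ξ).fiber.obj U), l.left (default : ↥(Spec (CommRingCat.of K))) = x := by
  obtain ⟨K, hK, hK', ζ, hζ⟩ := exists_geometric_point x
  exact ⟨K, hK, hK', ζ ≫ U.hom, Over.homMk ζ rfl, hζ⟩

theorem mem_range_of_map_eq {K : Type u} [Field K] [IsSepClosed K]
    {ξ : Spec (CommRingCat.of K) ⟶ X} {V U : X.Etale} (g : V ⟶ U)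
    (y : (Scheme.pointSmallEtale ξ).fiber.obj V) (l : (Scheme.pointSmallEtale ξ).fiber.obj U)
    (h : (Scheme.pointSmallEtale ξ).fiber.map g y = l) : l.left (default : ↥(Spec (CommRingCat.of K))) ∈ Set.range g.left := by
  subst h
  exact ⟨y.left (default : ↥(Spec (CommRingCat.of K))), rfl⟩

section Concrete

variable {A : Type*} [Category A] [HasColimitsOfSize.{u, u} A]
  {FC : A → A → Type*} {CC : A → Type*} [∀ (X Y : A), FunLike (FC X Y) (CC X) (CC Y)]
  [ConcreteCategory A FC] [PreservesFilteredColimitsOfSize.{u, u} (forget A)]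

theorem isLocallyInjective_of_stalks {P Q : X.Etaleᵒᵖ ⥤ A} (f : P ⟶ Q)
    (h : ∀ (K : Type u) [Field K] [IsAlgClosed K] (ξ : Spec (CommRingCat.of K) ⟶ X),
      Function.Injective ((Scheme.pointSmallEtale ξ).presheafFiber.map f)) :
    Presheaf.IsLocallyInjective X.smallEtaleTopology f := by
  refine ⟨fun {U} x y hxy => ?_⟩
  apply sieve_mem_of_forall_exists
  intro pt
  obtain ⟨K, _, _, ξ, l, hl⟩ := exists_geometric_lift U.unop pt
  have h1 : (Scheme.pointSmallEtale ξ).toPresheafFiber U.unop l P x =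
      (Scheme.pointSmallEtale ξ).toPresheafFiber U.unop l P y := by
    apply h K ξ
    rw [GrothendieckTopology.Point.toPresheafFiber_naturality_apply,
      GrothendieckTopology.Point.toPresheafFiber_naturality_apply]
    exact congrArg _ hxy
  obtain ⟨Y, g, y', hy', heq⟩ :=
    ((Scheme.pointSmallEtale ξ).toPresheafFiber_eq_iff' U.unop l x y).1 h1
  refine ⟨Y, g, heq, ?_⟩
  rw [← hl]
  exact mem_range_of_map_eq g y' l hy'

theorem isLocallySurjective_of_stalks {P Q : X.Etaleᵒᵖ ⥤ A} (f : P ⟶ Q)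
    (h : ∀ (K : Type u) [Field K] [IsAlgClosed K] (ξ : Spec (CommRingCat.of K) ⟶ X),
      Function.Surjective ((Scheme.pointSmallEtale ξ).presheafFiber.map f)) :
    Presheaf.IsLocallySurjective X.smallEtaleTopology f := by
  refine ⟨fun {U} s => ?_⟩
  apply sieve_mem_of_forall_exists
  intro pt
  obtain ⟨K, _, _, ξ, l, hl⟩ := exists_geometric_lift U pt
  obtain ⟨σ, hσ⟩ := h K ξ ((Scheme.pointSmallEtale ξ).toPresheafFiber U l Q s)
  obtain ⟨V, v, z, rfl⟩ := (Scheme.pointSmallEtale ξ).toPresheafFiber_jointly_surjective σ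
  rw [GrothendieckTopology.Point.toPresheafFiber_naturality_apply] at hσ
  obtain ⟨W, a, b, -⟩ := IsCofilteredOrEmpty.cone_objs
    (C := (Scheme.pointSmallEtale ξ).fiber.Elements)
    (⟨V, v⟩ : (Scheme.pointSmallEtale ξ).fiber.Elements)
    (⟨U, l⟩ : (Scheme.pointSmallEtale ξ).fiber.Elements)
  have ha : (Scheme.pointSmallEtale ξ).fiber.map a.1 W.2 = v := a.2
  have hb : (Scheme.pointSmallEtale ξ).fiber.map b.1 W.2 = l := b.2
  have h2 : (Scheme.pointSmallEtale ξ).toPresheafFiber W.1 W.2 Q (Q.map a.1.op (f.app _ z)) =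
      (Scheme.pointSmallEtale ξ).toPresheafFiber W.1 W.2 Q (Q.map b.1.op s) := by
    rw [GrothendieckTopology.Point.toPresheafFiber_w_apply,
      GrothendieckTopology.Point.toPresheafFiber_w_apply, ha, hb, hσ]
  obtain ⟨Y, g, y, hy, heq⟩ :=
    ((Scheme.pointSmallEtale ξ).toPresheafFiber_eq_iff' W.1 W.2 _ _).1 h2
  refine ⟨Y, g ≫ b.1, ⟨P.map (g ≫ a.1).op z, ?_⟩, ?_⟩
  · rw [NatTrans.naturality_apply, op_comp, Functor.map_comp, op_comp, Functor.map_comp,
      ConcreteCategory.comp_apply, ConcreteCategory.comp_apply]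
    exact heq
  · rw [← hl]
    refine mem_range_of_map_eq (g ≫ b.1) y l ?_
    rw [Functor.map_comp]
    show (Scheme.pointSmallEtale ξ).fiber.map b.1 ((Scheme.pointSmallEtale ξ).fiber.map g y) = l
    rw [show (Scheme.pointSmallEtale ξ).fiber.map g y = W.2 from hy]
    exact hb

end Concrete

theorem mono_epi_iff {F G : EtDesc.Sh X} (v : F ⟶ G) :
    (Mono v ↔ ∀ (Ω : Type u) [Field Ω] [IsSepClosed Ω] (ξ : Spec (CommRingCat.of Ω) ⟶ X),
      Function.Injective (((Scheme.pointSmallEtale ξ).sheafFiber (A := Type (u + 1))).map v)) ∧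
    (Epi v ↔ ∀ (Ω : Type u) [Field Ω] [IsSepClosed Ω] (ξ : Spec (CommRingCat.of Ω) ⟶ X),
      Function.Surjective (((Scheme.pointSmallEtale ξ).sheafFiber (A := Type (u + 1))).map v)) := by
  refine ⟨⟨?_, ?_⟩, ⟨?_, ?_⟩⟩
  · intro hm Ω _ _ ξ
    haveI : Mono ((sheafToPresheaf _ _).map v) := inferInstance
    haveI : Sheaf.IsLocallyInjective v := by
      rw [Sheaf.isLocallyInjective_iff_injective]
      intro U
      exact (mono_iff_injective _).1 ((NatTrans.mono_iff_mono_app _).1 this U)
    exact (Scheme.pointSmallEtale ξ).toPresheafFiber_map_injective v.hom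
  · intro h
    haveI : Sheaf.IsLocallyInjective v :=
      isLocallyInjective_of_stalks v.hom (fun K _ _ ξ => h K ξ)
    exact Sheaf.mono_of_isLocallyInjective v
  · intro he Ω _ _ ξ
    haveI : Sheaf.IsLocallySurjective v := (Sheaf.isLocallySurjective_iff_epi v).2 he
    exact (Scheme.pointSmallEtale ξ).toPresheafFiber_map_surjective v.hom
  · intro h
    haveI : Sheaf.IsLocallySurjective v :=
      isLocallySurjective_of_stalks v.hom (fun K _ _ ξ => h K ξ)
    infer_instance

end Groth.Agent.Lib.EtSchStalk_helper7
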