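import Mathlib
import Groth.Prelude.Def_EtBase
import Groth.Agent.Lib.EtSchStalk_helper7

/-!
# Exactness of abelian étale sheaves on a scheme is detected on geometric stalks (helper7)
-/

set_option autoImplicit false
set_option backward.isDefEq.respectTransparency false
universe u
open CategoryTheory CategoryTheory.Limits AlgebraicGeometry Opposite

namespace Groth.Agent.Lib.EtSchExact_helper7

open Groth.Agent.Lib.EtSchStalk_helper7

instance ab5Type' : AB5OfSize.{u, u} (Type (u+1)) := AB5OfSize_of_univLE.{u, u, u+1, u+1} _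
instance ab5Ab' : AB5OfSize.{u, u} (AddCommGrpCat.{u+1}) := AB5OfSize_of_univLE.{u, u, u+1, u+1} _
instance pfcAb'' : PreservesFilteredColimitsOfSize.{u, u} (forget AddCommGrpCat.{u+1}) :=
  preservesFilteredColimitsOfSize_shrink.{u, u+1, u, u+1} _

variable {X : Scheme.{u}}

theorem isZero_of_stalks (H : EtCoh.Ab X)
    (h : ∀ (K : Type u) [Field K] [IsAlgClosed K] (ξ : Spec (CommRingCat.of K) ⟶ X),
      IsZero ((EtCoh.stalk ξ).obj H)) : IsZero H := by
  haveI : Sheaf.IsLocallyInjective (0 : H ⟶ H) := by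
    apply isLocallyInjective_of_stalks
    intro K _ _ ξ
    haveI : Subsingleton (ToType ((Scheme.pointSmallEtale ξ).presheafFiber.obj H.obj)) :=
      AddCommGrpCat.subsingleton_of_isZero (h K ξ)
    exact Function.injective_of_subsingleton _
  haveI : Mono (0 : H ⟶ H) := Sheaf.mono_of_isLocallyInjective _
  exact IsZero.of_mono_zero H H

theorem exact_iff (C : ShortComplex (EtCoh.Ab X)) :
    C.Exact ↔ ∀ (Ω : Type u) [Field Ω] [IsSepClosed Ω] (ξ : Spec (CommRingCat.of Ω) ⟶ X),
      (C.map (EtCoh.stalk ξ)).Exact := by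
  constructor
  · intro hC Ω _ _ ξ
    exact hC.map _
  · intro h
    rw [ShortComplex.exact_iff_isZero_homology]
    apply isZero_of_stalks
    intro K _ _ ξ
    exact IsZero.of_iso ((ShortComplex.exact_iff_isZero_homology _).1 (h K ξ))
      (C.mapHomologyIso _).symm

theorem mono_iff {F G : EtCoh.Ab X} (a : F ⟶ G) :
    Mono a ↔ ∀ (Ω : Type u) [Field Ω] [IsSepClosed Ω] (ξ : Spec (CommRingCat.of Ω) ⟶ X),
      Function.Injective ((EtCoh.stalk ξ).map a) := by
  constructor
  · intro hm Ω _ _ ξ
    haveI : Mono ((EtCoh.stalk ξ).map a) := inferInstance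
    exact (AddCommGrpCat.mono_iff_injective _).1 this
  · intro h
    haveI : Sheaf.IsLocallyInjective a :=
      isLocallyInjective_of_stalks a.hom (fun K _ _ ξ => h K ξ)
    exact Sheaf.mono_of_isLocallyInjective a

theorem epi_iff {F G : EtCoh.Ab X} (a : F ⟶ G) :
    Epi a ↔ ∀ (Ω : Type u) [Field Ω] [IsSepClosed Ω] (ξ : Spec (CommRingCat.of Ω) ⟶ X),
      Function.Surjective ((EtCoh.stalk ξ).map a) := by
  constructor
  · intro hm Ω _ _ ξ
    haveI : Epi ((EtCoh.stalk ξ).map a) := inferInstance
    exact (AddCommGrpCat.epi_iff_surjective _).1 this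
  · intro h
    haveI : Sheaf.IsLocallySurjective a :=
      isLocallySurjective_of_stalks a.hom (fun K _ _ ξ => h K ξ)
    infer_instance

end Groth.Agent.Lib.EtSchExact_helper7
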