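import Mathlib
import Groth.Prelude.Def_EtBase
import Groth.Prelude.Def_EtMod2

/-!
# Stalks of inverse images of étale sheaves (helper9)

For `f : X ⟶ Y` and a geometric point `ξ` of `X`, the point `pointSmallEtale (ξ ≫ f)` of the
small étale site of `Y` is isomorphic to the inverse image along the base change functor of the
point `pointSmallEtale ξ`; hence `(f⁻¹ G)_ξ ≅ G_{f ξ}` (Mathlib's `sheafFiberComapIso`).
-/

open CategoryTheory CategoryTheory.Limits AlgebraicGeometry Opposite

namespace EtStalkPull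

universe w v u₁ u

section Elements

variable {C : Type u₁} [Category.{v} C] {F₁ F₂ : C ⥤ Type w}

instance faithful_map (α : F₁ ⟶ F₂) : (CategoryOfElements.map α).Faithful where
  map_injective {t₁ t₂} k₁ k₂ h := by
    ext
    exact congrArg (fun k => k.1) h

lemma isEquivalence_map (α : F₁ ≅ F₂) : (CategoryOfElements.map α.hom).IsEquivalence := by
  have hinj : ∀ X, Function.Injective (α.hom.app X) := fun X a b h => by
    have := congrArg (α.inv.app X) h
    simpa using this
  haveI : (CategoryOfElements.map α.hom).Full := ⟨fun {t₁ t₂} k => by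
    refine ⟨⟨k.1, hinj _ ?_⟩, ?_⟩
    · have h1 := k.2
      have h2 := NatTrans.naturality_apply α.hom k.1 t₁.2
      exact h2.trans h1
    · ext
      rfl⟩
  haveI : (CategoryOfElements.map α.hom).EssSurj := ⟨fun t => by
    refine ⟨⟨t.1, α.inv.app _ t.2⟩, ⟨eqToIso ?_⟩⟩
    cases t with
    | mk X y =>
      dsimp [CategoryOfElements.map]
      congr 1
      simp⟩
  exact { }

lemma initiallySmall_of_iso (α : F₁ ≅ F₂) [InitiallySmall.{w} F₁.Elements] :
    InitiallySmall.{w} F₂.Elements := by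
  haveI := isEquivalence_map α
  exact initiallySmall_of_initial_of_initiallySmall (CategoryOfElements.map α.hom)

end Elements

section Et

variable {X Y : Scheme.{u}} (f : X ⟶ Y) {Ω : Type u} [Field Ω] [IsSepClosed Ω]
  (ξ : Spec (CommRingCat.of Ω) ⟶ X)

/-- `Hom_X(ξ, V ×_Y X) ≃ Hom_Y(f ξ, V)`, naturally in `V` -/
noncomputable def coyonedaIso :
    Over.pullback f ⋙ coyoneda.obj (op (Over.mk ξ)) ≅ coyoneda.obj (op (Over.mk (ξ ≫ f))) :=
  NatIso.ofComponents
    (fun V => Equiv.toIso ((Over.mapPullbackAdj f).homEquiv (Over.mk ξ) V).symm) (by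
      intro V W g
      ext k
      exact (Over.mapPullbackAdj f).homEquiv_naturality_right_symm k g)

/-- the fibre functor of the geometric point `ξ ≫ f` of `Y` -/
noncomputable def fiberIso :
    EtCoh.bc f ⋙ (Scheme.pointSmallEtale ξ).fiber ≅ (Scheme.pointSmallEtale (ξ ≫ f)).fiber :=
  (Functor.associator _ _ _).symm ≪≫
    Functor.isoWhiskerRight
      (MorphismProperty.Over.pullbackCompForgetIso (P := EtCoh.etaleMP) (Q := ⊤) f :
        EtCoh.bc f ⋙ Scheme.Etale.forget X ≅ Scheme.Etale.forget Y ⋙ Over.pullback f) _ ≪≫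
    Functor.associator _ _ _ ≪≫ Functor.isoWhiskerLeft (Scheme.Etale.forget Y) (coyonedaIso f ξ)

instance : InitiallySmall.{u} (EtCoh.bc f ⋙ (Scheme.pointSmallEtale ξ).fiber).Elements :=
  initiallySmall_of_iso (fiberIso f ξ).symm

/-- the point `ξ ≫ f` is the inverse image of the point `ξ` -/
noncomputable def pointIso :
    (Scheme.pointSmallEtale ξ).comap (EtCoh.bc f) (EtCoh.coverPreserving_bc f) ≅
      Scheme.pointSmallEtale (ξ ≫ f) where
  hom := ⟨(fiberIso f ξ).inv⟩
  inv := ⟨(fiberIso f ξ).hom⟩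
  hom_inv_id := by ext : 1; exact (fiberIso f ξ).hom_inv_id
  inv_hom_id := by ext : 1; exact (fiberIso f ξ).inv_hom_id

end Et

section PointIso

variable {C : Type u₁} [Category.{v} C] {J : GrothendieckTopology C}
  {A : Type*} [Category A] [HasColimitsOfSize.{w, w} A]

/-- isomorphic points have isomorphic fibre functors -/
noncomputable def sheafFiberIsoOfIso {Φ₁ Φ₂ : GrothendieckTopology.Point.{w} J} (e : Φ₁ ≅ Φ₂) :
    Φ₂.sheafFiber (A := A) ≅ Φ₁.sheafFiber where
  hom := GrothendieckTopology.Point.Hom.sheafFiber e.hom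
  inv := GrothendieckTopology.Point.Hom.sheafFiber e.inv
  hom_inv_id := by
    rw [← GrothendieckTopology.Point.Hom.sheafFiber_comp, e.inv_hom_id,
      GrothendieckTopology.Point.Hom.sheafFiber_id]
  inv_hom_id := by
    rw [← GrothendieckTopology.Point.Hom.sheafFiber_comp, e.hom_inv_id,
      GrothendieckTopology.Point.Hom.sheafFiber_id]

end PointIso

section Stalk

variable {X Y : Scheme.{u}} (f : X ⟶ Y) {Ω : Type u} [Field Ω] [IsSepClosed Ω]
  (ξ : Spec (CommRingCat.of Ω) ⟶ X)

/-- `(f⁻¹ G)_ξ ≅ G_{f ξ}` for abelian étale sheaves, as an isomorphism of functors -/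
noncomputable def stalkPullIso : EtCoh.pull f ⋙ EtCoh.stalk ξ ≅ EtCoh.stalk (ξ ≫ f) :=
  ((Scheme.pointSmallEtale ξ).sheafFiberComapIso (EtCoh.bc f) (EtCoh.coverPreserving_bc f)
      AddCommGrpCat.{u + 1}).symm ≪≫
    (sheafFiberIsoOfIso (pointIso f ξ)).symm

variable (Λ : Type (u + 1)) [CommRing Λ]

instance hasProducts_mod : HasProducts.{u} (ModuleCat.{u + 1} Λ) := by
  haveI : HasLimitsOfSize.{u, u} (ModuleCat.{u + 1} Λ) :=
    hasLimitsOfSizeShrink.{u, u, u + 1, u + 1} _
  infer_instance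

/-- `(f^* G)_ξ ≅ G_{f ξ}` for étale sheaves of modules, as an isomorphism of functors -/
noncomputable def stalkPullIsoMod :
    EtModW.pull Λ f ⋙ EtModW.stalk Λ ξ ≅ EtModW.stalk Λ (ξ ≫ f) :=
  ((Scheme.pointSmallEtale ξ).sheafFiberComapIso (EtCoh.bc f) (EtCoh.coverPreserving_bc f)
      (ModuleCat.{u + 1} Λ)).symm ≪≫
    (sheafFiberIsoOfIso (pointIso f ξ)).symm

end Stalk

end EtStalkPull
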