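import Mathlib

/-!
# Lifting étale morphisms along a closed immersion, Zariski locally (helper4)

If `X ⟶ Y` is a closed immersion and `U ⟶ X` is étale, then `U` is covered by opens of the form
`V ×_Y X` with `V ⟶ Y` étale.  The ring-level input is the lifting of standard étale algebras along
a surjection.
-/

open AlgebraicGeometry CategoryTheory CategoryTheory.Limits TensorProduct

universe u

set_option linter.style.haveILetI false

namespace Groth.Agent.Lib.EtaleLiftH4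

section Ring

open Polynomial in
/-- A standard étale algebra over a quotient `Ā` of `A` is the base change of a standard étale
algebra over `A`. -/
theorem exists_standardEtale_lift {A Ab : Type u} [CommRing A] [CommRing Ab] [Algebra A Ab]
    (hs : Function.Surjective (algebraMap A Ab)) (D : Type u) [CommRing D] [Algebra Ab D]
    [Algebra.IsStandardEtale Ab D] :
    ∃ (P : StandardEtalePair A), Nonempty (Ab ⊗[A] P.Ring ≃ₐ[Ab] D) := by
  obtain ⟨Q⟩ := Algebra.IsStandardEtale.nonempty_standardEtalePresentation (R := Ab) (S := D)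
  obtain ⟨F, hF, -, hFm⟩ := Polynomial.lifts_and_natDegree_eq_and_monic
    (Polynomial.mem_lifts_of_surjective hs Q.f) Q.monic_f
  obtain ⟨G₀, hG₀⟩ := Polynomial.map_surjective (algebraMap A Ab) hs Q.g
  let P : StandardEtalePair A := ⟨F, hFm, derivative F * G₀, G₀, 0, 1, by ring⟩
  let Pp : StandardEtalePresentation A P.Ring :=
    ⟨P, P.X, P.hasMap_X, by simpa [StandardEtalePair.lift_X_left] using Function.bijective_id⟩
  let P₁ : StandardEtalePair Ab := P.map (algebraMap A Ab)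
  have hf₁ : P₁.f = Q.f := hF
  have hg₁ : P₁.g = derivative Q.f * Q.g := by
    change (derivative F * G₀).map (algebraMap A Ab) = _
    rw [Polynomial.map_mul, ← Polynomial.derivative_map, hF, hG₀]
  have h1 : P₁.HasMap Q.P.X := by
    refine ⟨?_, ?_⟩
    · rw [hf₁]
      exact Q.P.hasMap_X.1
    · rw [hg₁, map_mul]
      exact Q.P.hasMap_X.isUnit_derivative_f.mul Q.P.hasMap_X.2
  have h2 : Q.P.HasMap P₁.X := by
    refine ⟨?_, ?_⟩
    · rw [← hf₁]
      exact P₁.hasMap_X.1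
    · have := P₁.hasMap_X.2
      rw [hg₁, map_mul] at this
      exact isUnit_of_mul_isUnit_right this
  let fwd : P₁.Ring →ₐ[Ab] Q.P.Ring := P₁.lift Q.P.X h1
  let bwd : Q.P.Ring →ₐ[Ab] P₁.Ring := Q.P.lift P₁.X h2
  let e₁ : P₁.Ring ≃ₐ[Ab] Q.P.Ring :=
    AlgEquiv.ofAlgHom fwd bwd (Q.P.hom_ext (by simp [fwd, bwd])) (P₁.hom_ext (by simp [fwd, bwd]))
  exact ⟨P, ⟨(Pp.baseChange (T := Ab)).equivRing.trans (e₁.trans Q.equivRing.symm)⟩⟩

end Ring

section Scheme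

variable {X Y : Scheme.{u}}

set_option maxHeartbeats 800000 in
theorem exists_local_lift (f : X ⟶ Y) [IsClosedImmersion f] (U : X.Etale) (u : U.left) :
    ∃ (V : Y.Etale) (h : pullback V.hom f ⟶ U.left),
      h ≫ U.hom = pullback.snd V.hom f ∧ IsOpenImmersion h ∧ u ∈ Set.range h := by
  let p : U.left ⟶ X := U.hom
  haveI : Etale p := U.prop
  obtain ⟨_, ⟨Y₀, hY₀, rfl⟩, hyY₀, -⟩ :=
    Y.isBasis_affineOpens.exists_subset_of_mem_open
      (Set.mem_univ (f.base (p.base u))) isOpen_univ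
  have hX₀ : IsAffineOpen (f ⁻¹ᵁ Y₀) := hY₀.preimage f
  obtain ⟨_, ⟨U₀, hU₀, rfl⟩, huU₀, e⟩ :=
    U.left.isBasis_affineOpens.exists_subset_of_mem_open
      (show u ∈ (p ⁻¹ᵁ (f ⁻¹ᵁ Y₀) : Set U.left) from hyY₀) (p ⁻¹ᵁ (f ⁻¹ᵁ Y₀)).2
  replace huU₀ : u ∈ U₀ := huU₀
  replace e : U₀ ≤ p ⁻¹ᵁ (f ⁻¹ᵁ Y₀) := e
  let φ : Γ(Y, Y₀) ⟶ Γ(X, f ⁻¹ᵁ Y₀) := f.app Y₀
  let ψ : Γ(X, f ⁻¹ᵁ Y₀) ⟶ Γ(U.left, U₀) := p.appLE (f ⁻¹ᵁ Y₀) U₀ e
  letI : Algebra Γ(Y, Y₀) Γ(X, f ⁻¹ᵁ Y₀) := φ.hom.toAlgebra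
  letI : Algebra Γ(X, f ⁻¹ᵁ Y₀) Γ(U.left, U₀) := ψ.hom.toAlgebra
  have hφs : Function.Surjective (algebraMap Γ(Y, Y₀) Γ(X, f ⁻¹ᵁ Y₀)) :=
    f.app_surjective Y₀ hY₀
  have hψ : ψ.hom.Etale := p.etale_appLE hX₀ hU₀ e
  haveI : Algebra.Etale Γ(X, f ⁻¹ᵁ Y₀) Γ(U.left, U₀) := RingHom.etale_algebraMap.mp hψ
  haveI : Algebra.FormallyEtale Γ(U.left, U₀)
      (Localization.AtPrime (hU₀.primeIdealOf ⟨u, huU₀⟩).asIdeal) :=
    Algebra.FormallyEtale.of_isLocalization (hU₀.primeIdealOf ⟨u, huU₀⟩).asIdeal.primeCompl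
  haveI : Algebra.IsEtaleAt Γ(X, f ⁻¹ᵁ Y₀) (hU₀.primeIdealOf ⟨u, huU₀⟩).asIdeal :=
    Algebra.FormallyEtale.comp Γ(X, f ⁻¹ᵁ Y₀) Γ(U.left, U₀) _
  obtain ⟨g, hgq, hg⟩ := Algebra.IsEtaleAt.exists_isStandardEtale (R := Γ(X, f ⁻¹ᵁ Y₀))
    (hU₀.primeIdealOf ⟨u, huU₀⟩).asIdeal
  haveI := hg
  obtain ⟨P, ⟨eD⟩⟩ := exists_standardEtale_lift hφs (Localization.Away g)
  let αC : Γ(Y, Y₀) ⟶ CommRingCat.of P.Ring := CommRingCat.ofHom (algebraMap Γ(Y, Y₀) P.Ring)
  let inrD : CommRingCat.of P.Ring ⟶ CommRingCat.of (Localization.Away g) :=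
    CommRingCat.ofHom (eD.toRingEquiv.toRingHom.comp
      (Algebra.TensorProduct.includeRight : P.Ring →ₐ[Γ(Y, Y₀)] _).toRingHom)
  let βD : Γ(X, f ⁻¹ᵁ Y₀) ⟶ CommRingCat.of (Localization.Away g) :=
    CommRingCat.ofHom (algebraMap Γ(X, f ⁻¹ᵁ Y₀) (Localization.Away g))
  let γD : Γ(U.left, U₀) ⟶ CommRingCat.of (Localization.Away g) :=
    CommRingCat.ofHom (algebraMap Γ(U.left, U₀) (Localization.Away g))
  have hpo : IsPushout φ αC βD inrD := by
    refine (CommRingCat.isPushout_tensorProduct Γ(Y, Y₀) Γ(X, f ⁻¹ᵁ Y₀) P.Ring).of_iso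
      (Iso.refl _) (Iso.refl _) (Iso.refl _) (eD.toRingEquiv.toCommRingCatIso) ?_ ?_ ?_ ?_
    · rfl
    · rfl
    · ext a
      exact eD.commutes a
    · ext c
      rfl
  have hpb1 : IsPullback (Spec.map βD) (Spec.map inrD) (Spec.map φ) (Spec.map αC) :=
    isPullback_SpecMap_of_isPushout _ _ _ _ hpo
  have hw : Spec.map φ ≫ hY₀.fromSpec = hX₀.fromSpec ≫ f := by
    have := IsAffineOpen.SpecMap_appLE_fromSpec f hY₀ hX₀ le_rfl
    rwa [← Scheme.Hom.app_eq_appLE] at this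
  have hpb2 : IsPullback (Spec.map φ) hX₀.fromSpec hY₀.fromSpec f :=
    IsOpenImmersion.isPullback _ _ _ _ hw.symm
      (by rw [hY₀.opensRange_fromSpec, hX₀.opensRange_fromSpec])
  have hpb : IsPullback (Spec.map inrD) (Spec.map βD ≫ hX₀.fromSpec)
      (Spec.map αC ≫ hY₀.fromSpec) f := hpb1.flip.paste_vert hpb2
  haveI : Algebra.Etale Γ(Y, Y₀) P.Ring := inferInstance
  haveI : Etale (Spec.map αC) := by
    rw [HasRingHomProperty.Spec_iff (P := @Etale)]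
    exact RingHom.etale_algebraMap.mpr inferInstance
  haveI : Etale (Spec.map αC ≫ hY₀.fromSpec) := inferInstance
  have hUw : Spec.map ψ ≫ hX₀.fromSpec = hU₀.fromSpec ≫ p :=
    IsAffineOpen.SpecMap_appLE_fromSpec p hX₀ hU₀ e
  have hβ : βD = ψ ≫ γD := by
    ext a
    exact IsScalarTower.algebraMap_apply Γ(X, f ⁻¹ᵁ Y₀) Γ(U.left, U₀) (Localization.Away g) a
  haveI : IsOpenImmersion (Spec.map γD) := inferInstance
  refine ⟨Scheme.Etale.mk (Spec.map αC ≫ hY₀.fromSpec),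
    hpb.isoPullback.inv ≫ Spec.map γD ≫ hU₀.fromSpec, ?_, ?_, ?_⟩
  · change (hpb.isoPullback.inv ≫ Spec.map γD ≫ hU₀.fromSpec) ≫ p = _
    rw [Category.assoc, Category.assoc, ← hUw, ← Category.assoc (Spec.map γD), ← Spec.map_comp,
      ← hβ]
    exact hpb.isoPullback_inv_snd
  · infer_instance
  · have hq : hU₀.primeIdealOf ⟨u, huU₀⟩ ∈ Set.range (Spec.map γD) := by
      have hr := PrimeSpectrum.localization_away_comap_range (Localization.Away g) g
      change _ ∈ Set.range (PrimeSpectrum.comap (algebraMap Γ(U.left, U₀) (Localization.Away g)))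
      rw [hr]
      exact hgq
    obtain ⟨w, hw'⟩ := hq
    refine ⟨hpb.isoPullback.hom w, ?_⟩
    change (hpb.isoPullback.hom ≫ hpb.isoPullback.inv ≫ Spec.map γD ≫ hU₀.fromSpec).base w = u
    rw [Iso.hom_inv_id_assoc]
    change hU₀.fromSpec.base ((Spec.map γD).base w) = u
    rw [hw']
    exact hU₀.fromSpec_primeIdealOf ⟨u, huU₀⟩

theorem main0633 (f : X ⟶ Y) [IsClosedImmersion f] (U : X.Etale) :
    ∃ (κ : Type u) (V : κ → Y.Etale) (h : ∀ j, pullback (V j).hom f ⟶ U.left),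
      (∀ j, h j ≫ U.hom = pullback.snd (V j).hom f) ∧ (∀ j, IsOpenImmersion (h j)) ∧
      ∀ x : U.left, ∃ (j : κ) (y : ↥(pullback (V j).hom f)), (h j).base y = x := by
  choose V h h1 h2 h3 using exists_local_lift f U
  refine ⟨U.left, V, h, h1, h2, fun x => ?_⟩
  obtain ⟨y, hy⟩ := h3 x
  exact ⟨x, y, hy⟩

theorem main0632 (f : X ⟶ Y) [IsClosedImmersion f] {ι : Type u} (U : ι → X.Etale)
    (hU : ∀ x : X, ∃ (i : ι) (y : (U i).left), (U i).hom.base y = x) :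
    ∃ (κ : Type u) (V : κ → Y.Etale),
      (∀ x : Y, ∃ (i : κ) (y : (V i).left), (V i).hom.base y = x) ∧
      ∀ j, IsEmpty ↥(pullback (V j).hom f) ∨
        ∃ (i : ι) (h : pullback (V j).hom f ⟶ (U i).left),
          h ≫ (U i).hom = pullback.snd (V j).hom f := by
  choose V h h1 h2 h3 using fun (p : Σ i, (U i).left) => exists_local_lift f (U p.1) p.2
  let W : Y.Opens := ⟨(Set.range f)ᶜ, f.isClosedEmbedding.isClosed_range.isOpen_compl⟩
  refine ⟨Option (Σ i, (U i).left), fun j => j.elim (Scheme.Etale.mk W.ι) V, ?_, ?_⟩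
  · intro y
    by_cases hy : y ∈ Set.range f
    · obtain ⟨x, rfl⟩ := hy
      obtain ⟨i, u', rfl⟩ := hU x
      obtain ⟨z, hz⟩ := h3 ⟨i, u'⟩
      refine ⟨some ⟨i, u'⟩, (pullback.fst (V ⟨i, u'⟩).hom f).base z, ?_⟩
      change (V ⟨i, u'⟩).hom.base ((pullback.fst (V ⟨i, u'⟩).hom f).base z) = _
      rw [← Scheme.Hom.comp_apply, pullback.condition, ← h1 ⟨i, u'⟩, Scheme.Hom.comp_apply,
        Scheme.Hom.comp_apply]
      exact congrArg _ (congrArg _ hz)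
    · exact ⟨none, ⟨y, hy⟩, rfl⟩
  · rintro (_ | ⟨i, u'⟩)
    · left
      constructor
      intro z
      have hc := congrArg (fun k => k.base z) (pullback.condition (f := W.ι) (g := f))
      have h1' : (W.ι.base ((pullback.fst W.ι f).base z)) ∈ (W : Set Y) :=
        ((pullback.fst W.ι f).base z).2
      apply h1'
      exact ⟨(pullback.snd W.ι f).base z, hc.symm⟩
    · right
      exact ⟨i, h ⟨i, u'⟩, h1 ⟨i, u'⟩⟩

end Scheme

end Groth.Agent.Lib.EtaleLiftH4
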