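import Mathlib

/-!
# Compatibility of `sheafFiberComapIso` with the counit of the pullback/pushforward adjunction
(helper7)

For a continuous, flat, cover preserving functor `F : C ⥤ D` of sites and a point `Φ` of `D`, the
composite `(F_* G)_{Φ.comap F} ≅ (F^* F_* G)_Φ ⟶ G_Φ` (the second map induced by the counit) sends
the germ of `s ∈ (F_* G)(U) = G(F U)` at `u` to the germ of `s` at `u`.
-/

set_option autoImplicit false
set_option backward.isDefEq.respectTransparency false
universe w v
open CategoryTheory CategoryTheory.Limits Opposite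

namespace Groth.Agent.Lib.PointComapCounit_helper7

open GrothendieckTopology

variable {C D : Type*} [Category C] [Category D] {K : GrothendieckTopology D}
  (Φ : Point.{w} K) (F : C ⥤ D) [RepresentablyFlat F] {J : GrothendieckTopology C}
  (hF : CoverPreserving J K F) [InitiallySmall (F ⋙ Φ.fiber).Elements]
  (A : Type*) [Category.{v} A] [HasProducts.{w} A] [Functor.IsContinuous F J K]
  [(F.sheafPushforwardContinuous A J K).IsRightAdjoint] [HasColimitsOfSize.{w, w} A]

/-- The comparison map `(F_* G)_{Φ.comap F} ⟶ G_Φ`. -/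
noncomputable def comparison (G : Sheaf K A) :
    (Φ.comap F hF).sheafFiber.obj ((F.sheafPushforwardContinuous A J K).obj G) ⟶
      Φ.sheafFiber.obj G :=
  (Φ.sheafFiberComapIso F hF A).hom.app ((F.sheafPushforwardContinuous A J K).obj G) ≫
    Φ.sheafFiber.map ((F.sheafAdjunctionContinuous A J K).counit.app G)

theorem homEquiv_comparison (G : Sheaf K A) :
    ((Φ.comap F hF).skyscraperSheafAdjunction (A := A)).homEquiv _ _ (comparison Φ F hF A G) =
      (F.sheafPushforwardContinuous A J K).map ((Φ.skyscraperSheafAdjunction (A := A)).unit.app G) := by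
  set adjF := F.sheafAdjunctionContinuous A J K with hadjF
  set adjΦ := Φ.skyscraperSheafAdjunction (A := A) with hadjΦ
  set adjΨ := (Φ.comap F hF).skyscraperSheafAdjunction (A := A) with hadjΨ
  have h1 := unit_conjugateEquiv_symm (adjF.comp adjΦ) adjΨ
    (Φ.skyscraperSheafFunctorCompSheafPushforwardContinuous F hF A).hom
    ((F.sheafPushforwardContinuous A J K).obj G)
  have h2 : (conjugateEquiv (adjF.comp adjΦ) adjΨ).symm
      (Φ.skyscraperSheafFunctorCompSheafPushforwardContinuous F hF A).hom =
      (Φ.sheafFiberComapIso F hF A).hom := rfl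
  rw [h2] at h1
  have h1' : (adjF.comp adjΦ).unit.app ((F.sheafPushforwardContinuous A J K).obj G) =
      adjΨ.unit.app ((F.sheafPushforwardContinuous A J K).obj G) ≫
      (Φ.comap F hF).skyscraperSheafFunctor.map
        ((Φ.sheafFiberComapIso F hF A).hom.app ((F.sheafPushforwardContinuous A J K).obj G)) :=
    (Category.comp_id ((adjF.comp adjΦ).unit.app
      ((F.sheafPushforwardContinuous A J K).obj G))).symm.trans h1
  rw [Adjunction.homEquiv_unit, comparison, Functor.map_comp, ← Category.assoc, ← h1',
    Adjunction.comp_unit_app]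
  have h4 : (Φ.comap F hF).skyscraperSheafFunctor.map
      (Φ.sheafFiber.map (adjF.counit.app G)) =
      (F.sheafPushforwardContinuous A J K).map (Φ.skyscraperSheafFunctor.map
        (Φ.sheafFiber.map (adjF.counit.app G))) := rfl
  rw [h4, Category.assoc, ← Functor.map_comp]
  have h5 : adjΦ.unit.app ((F.sheafPullback A J K).obj ((F.sheafPushforwardContinuous A J K).obj G)) ≫
      Φ.skyscraperSheafFunctor.map (Φ.sheafFiber.map (adjF.counit.app G)) =
      adjF.counit.app G ≫ adjΦ.unit.app G := (adjΦ.unit.naturality (adjF.counit.app G)).symm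
  rw [h5, Functor.map_comp, ← Category.assoc]
  have h6 := adjF.right_triangle_components G
  rw [h6, Category.id_comp]

theorem toPresheafFiber_comparison (G : Sheaf K A) (U : C) (u : Φ.fiber.obj (F.obj U)) :
    (Φ.comap F hF).toPresheafFiber U u ((F.sheafPushforwardContinuous A J K).obj G).obj ≫
      comparison Φ F hF A G = Φ.toPresheafFiber (F.obj U) u G.obj := by
  have h0 : comparison Φ F hF A G =
      (((Φ.comap F hF).skyscraperSheafAdjunction (A := A)).homEquiv _ _).symm
        ((F.sheafPushforwardContinuous A J K).map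
          ((Φ.skyscraperSheafAdjunction (A := A)).unit.app G)) := by
    exact (Equiv.eq_symm_apply _).2 (homEquiv_comparison Φ F hF A G)
  rw [h0]
  have h1 := (Φ.comap F hF).skyscraperSheafAdjunction_homEquiv_symm_apply (A := A)
    (F := (F.sheafPushforwardContinuous A J K).obj G) (M := Φ.sheafFiber.obj G)
    ((F.sheafPushforwardContinuous A J K).map
      ((Φ.skyscraperSheafAdjunction (A := A)).unit.app G))
  refine (congrArg (fun m => (Φ.comap F hF).toPresheafFiber U u
    ((F.sheafPushforwardContinuous A J K).obj G).obj ≫ m) h1).trans ?_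
  refine ((Φ.comap F hF).toPresheafFiber_skyscraperPresheafHomEquiv_symm _ _ _).trans ?_
  have h2 : (Φ.skyscraperSheafAdjunction (A := A)).unit.app G =
      (Φ.skyscraperSheafAdjunction (A := A)).homEquiv _ _ (𝟙 _) :=
    ((Φ.skyscraperSheafAdjunction (A := A)).homEquiv_id G).symm
  have h3 := Φ.skyscraperSheafAdjunction_homEquiv_apply_hom (A := A) (F := G)
    (M := Φ.presheafFiber.obj G.obj) (𝟙 _)
  have h4 : ((F.sheafPushforwardContinuous A J K).map
      ((Φ.skyscraperSheafAdjunction (A := A)).unit.app G)).hom.app (op U) =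
      ((Φ.skyscraperSheafAdjunction (A := A)).unit.app G).hom.app (op (F.obj U)) := rfl
  rw [h4, h2]
  refine (congrArg (fun m : G.obj ⟶ Φ.skyscraperPresheaf (Φ.presheafFiber.obj G.obj) =>
    m.app (op (F.obj U)) ≫ Pi.π _ u) h3).trans ?_
  exact (Φ.skyscraperPresheafHomEquiv_app_π _ _ _).trans (Category.comp_id _)

end Groth.Agent.Lib.PointComapCounit_helper7
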