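import Mathlib
import Groth.Prelude.Def_EtBase
import Groth.Agent.Lib.EtClosedStalk_helper7

/-!
# Direct image of abelian étale sheaves along a closed immersion (helper7)

Stalks, full faithfulness and the essential image.
-/

set_option autoImplicit false
set_option backward.isDefEq.respectTransparency false
universe u
open CategoryTheory CategoryTheory.Limits AlgebraicGeometry Opposite

namespace Groth.Agent.Lib.EtClosedPush_helper7

open Groth.Agent.Lib.EtSchSite_helper7 Groth.Agent.Lib.PointComapCounit_helper7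
  Groth.Agent.Lib.EtClosedStalk_helper7 Groth.Agent.Lib.EtSchExact_helper7
  Groth.Agent.Lib.EtPushClosed_helper7

variable {Z X : Scheme.{u}} (i : Z ⟶ X) [IsClosedImmersion i]

theorem isIso_comparison (G : EtCoh.Ab Z) {Ω : Type u} [Field Ω] [IsSepClosed Ω]
    (ζ : Spec (CommRingCat.of Ω) ⟶ Z) :
    IsIso (comparison (Scheme.pointSmallEtale ζ) (EtCoh.bc i) (EtCoh.coverPreserving_bc i)
      AddCommGrpCat.{u + 1} G) :=
  (ConcreteCategory.isIso_iff_bijective _).2 (bijective_comparison i ζ G)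

theorem stalk_push_iso (G : EtCoh.Ab Z) {Ω : Type u} [Field Ω] [IsSepClosed Ω]
    (ζ : Spec (CommRingCat.of Ω) ⟶ Z) :
    Nonempty ((EtCoh.stalk (ζ ≫ i)).obj ((EtCoh.push i).obj G) ≅ (EtCoh.stalk ζ).obj G) := by
  haveI := isIso_comparison i G ζ
  exact ⟨(EtStalkPull.sheafFiberIsoOfIso (EtStalkPull.pointIso i ζ)).app ((EtCoh.push i).obj G) ≪≫
    asIso (comparison (Scheme.pointSmallEtale ζ) (EtCoh.bc i) (EtCoh.coverPreserving_bc i)
      AddCommGrpCat.{u + 1} G)⟩

theorem isIso_counit (G : EtCoh.Ab Z) : IsIso ((EtCoh.pullPushAdj i).counit.app G) := by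
  have hbij : ∀ (Ω : Type u) [Field Ω] [IsSepClosed Ω] (ζ : Spec (CommRingCat.of Ω) ⟶ Z),
      IsIso ((EtCoh.stalk ζ).map ((EtCoh.pullPushAdj i).counit.app G)) := by
    intro Ω _ _ ζ
    have h1 : IsIso (((Scheme.pointSmallEtale ζ).sheafFiberComapIso (EtCoh.bc i)
        (EtCoh.coverPreserving_bc i) AddCommGrpCat.{u + 1}).hom.app ((EtCoh.push i).obj G) ≫
        (EtCoh.stalk ζ).map ((EtCoh.pullPushAdj i).counit.app G)) := isIso_comparison i G ζ
    exact IsIso.of_isIso_comp_left (((Scheme.pointSmallEtale ζ).sheafFiberComapIso (EtCoh.bc i)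
        (EtCoh.coverPreserving_bc i) AddCommGrpCat.{u + 1}).hom.app ((EtCoh.push i).obj G)) _
  haveI : Mono ((EtCoh.pullPushAdj i).counit.app G) := (mono_iff _).2 (fun Ω _ _ ζ => by
    haveI := hbij Ω ζ
    exact (ConcreteCategory.bijective_of_isIso _).1)
  haveI : Epi ((EtCoh.pullPushAdj i).counit.app G) := (epi_iff _).2 (fun Ω _ _ ζ => by
    haveI := hbij Ω ζ
    exact (ConcreteCategory.bijective_of_isIso _).2)
  exact isIso_of_mono_of_epi _

theorem full_faithful : (EtCoh.push i).Full ∧ (EtCoh.push i).Faithful := by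
  haveI : ∀ G, IsIso ((EtCoh.pullPushAdj i).counit.app G) := isIso_counit i
  haveI : IsIso (EtCoh.pullPushAdj i).counit := NatIso.isIso_of_isIso_app _
  have ff := (EtCoh.pullPushAdj i).fullyFaithfulROfIsIsoCounit
  exact ⟨ff.full, ff.faithful⟩

theorem exists_lift_of_mem_range {Ω : Type u} [Field Ω] (ξ : Spec (CommRingCat.of Ω) ⟶ X)
    (h : ξ (default : ↥(Spec (CommRingCat.of Ω))) ∈ Set.range i) :
    ∃ ζ : Spec (CommRingCat.of Ω) ⟶ Z, ζ ≫ i = ξ := by
  haveI : IsClosedImmersion (pullback.fst ξ i) := inferInstance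
  obtain ⟨z₀, hz₀⟩ := h
  obtain ⟨p, hp1, hp2⟩ := Scheme.Pullback.exists_preimage_pullback (f := ξ) (g := i)
    (default : ↥(Spec (CommRingCat.of Ω))) z₀ hz₀.symm
  haveI : Surjective (pullback.fst ξ i) := ⟨fun a => ⟨p, Subsingleton.elim _ _⟩⟩
  haveI : IsIso (pullback.fst ξ i) := isIso_of_isClosedImmersion_of_surjective _
  exact ⟨inv (pullback.fst ξ i) ≫ pullback.snd ξ i, by
    rw [Category.assoc, ← pullback.condition, IsIso.inv_hom_id_assoc]⟩

theorem isZero_stalk_of_vanish (F : EtCoh.Ab X)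
    (hF : ∀ U : X.Etale, Disjoint (Set.range U.hom.base) (Set.range i.base) →
      IsZero (F.obj.obj (op U)))
    {Ω : Type u} [Field Ω] [IsSepClosed Ω] (ξ : Spec (CommRingCat.of Ω) ⟶ X)
    (hξ : Disjoint (Set.range ξ.base) (Set.range i.base)) :
    IsZero ((EtCoh.stalk ξ).obj F) := by
  have key : ∀ t : ToType ((Scheme.pointSmallEtale ξ).presheafFiber.obj F.obj), t = 0 := by
    intro t
    obtain ⟨U, x, z, rfl⟩ := (Scheme.pointSmallEtale ξ).toPresheafFiber_jointly_surjective t
    let W : U.left.Opens := ⟨(U.hom ⁻¹' (Set.range i))ᶜ,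
      (i.isClosedEmbedding.isClosed_range.preimage U.hom.continuous).isOpen_compl⟩
    haveI : Etale (W.ι ≫ U.hom) := inferInstance
    let U' : X.Etale := Scheme.Etale.mk (W.ι ≫ U.hom)
    let f : U' ⟶ U := MorphismProperty.Over.homMk W.ι rfl trivial
    have hxξ : x.left ≫ U.hom = ξ := Over.w x
    have hrange : Set.range x.left ⊆ Set.range W.ι := by
      rw [Scheme.Opens.range_ι]
      rintro _ ⟨a, rfl⟩
      intro (ha : U.hom (x.left a) ∈ Set.range i)
      have h1 : U.hom (x.left a) = ξ a :=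
        congrArg (fun (m : Spec (CommRingCat.of Ω) ⟶ X) => m a) hxξ
      rw [h1] at ha
      exact Set.disjoint_left.1 hξ ⟨a, rfl⟩ ha
    have hw : IsOpenImmersion.lift W.ι x.left hrange ≫ (W.ι ≫ U.hom) = ξ := by
      rw [← Category.assoc, IsOpenImmersion.lift_fac, hxξ]
    let x' : (Scheme.pointSmallEtale ξ).fiber.obj U' :=
      Over.homMk (IsOpenImmersion.lift W.ι x.left hrange) hw
    have hx' : (Scheme.pointSmallEtale ξ).fiber.map f x' = x := by
      apply Over.OverMorphism.ext
      exact IsOpenImmersion.lift_fac _ _ _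
    have hdis : Disjoint (Set.range U'.hom.base) (Set.range i.base) := by
      rw [Set.disjoint_left]
      rintro _ ⟨w, rfl⟩ hw'
      have h2 : (W.ι ≫ U.hom) w = U.hom (W.ι w) := Scheme.Hom.comp_apply _ _ _
      have hw'' : (W.ι ≫ U.hom) w ∈ Set.range i := hw'
      rw [h2] at hw''
      exact w.2 hw''
    haveI := AddCommGrpCat.subsingleton_of_isZero (hF U' hdis)
    have hz : F.obj.map f.op z = 0 := Subsingleton.elim _ _
    rw [← hx', ← (Scheme.pointSmallEtale ξ).toPresheafFiber_w_apply f x' F.obj z, hz, map_zero]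
  haveI : Subsingleton ((EtCoh.stalk ξ).obj F) :=
    ⟨fun a b => (key a).trans (key b).symm⟩
  exact AddCommGrpCat.isZero_of_subsingleton _

theorem isIso_unit_of_vanish (F : EtCoh.Ab X)
    (hF : ∀ U : X.Etale, Disjoint (Set.range U.hom.base) (Set.range i.base) →
      IsZero (F.obj.obj (op U))) :
    IsIso ((EtCoh.pullPushAdj i).unit.app F) := by
  have hstalk : ∀ (Ω : Type u) [Field Ω] [IsSepClosed Ω] (ξ : Spec (CommRingCat.of Ω) ⟶ X),
      Function.Bijective ((EtCoh.stalk ξ).map ((EtCoh.pullPushAdj i).unit.app F)) := by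
    intro Ω _ _ ξ
    by_cases hmem : ξ (default : ↥(Spec (CommRingCat.of Ω))) ∈ Set.range i
    · obtain ⟨ζ, rfl⟩ := exists_lift_of_mem_range i ξ hmem
      haveI : IsIso ((EtCoh.pull i).map ((EtCoh.pullPushAdj i).unit.app F)) := by
        have h4 := (EtCoh.pullPushAdj i).left_triangle_components F
        haveI := isIso_counit i ((EtCoh.pull i).obj F)
        haveI : IsIso ((EtCoh.pull i).map ((EtCoh.pullPushAdj i).unit.app F) ≫
            (EtCoh.pullPushAdj i).counit.app ((EtCoh.pull i).obj F)) := by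
          rw [h4]; exact IsIso.id _
        exact IsIso.of_isIso_comp_right _
          ((EtCoh.pullPushAdj i).counit.app ((EtCoh.pull i).obj F))
      haveI : IsIso ((EtCoh.pull i ⋙ EtCoh.stalk ζ).map ((EtCoh.pullPushAdj i).unit.app F)) := by
        show IsIso ((EtCoh.stalk ζ).map ((EtCoh.pull i).map ((EtCoh.pullPushAdj i).unit.app F)))
        infer_instance
      haveI : IsIso ((EtCoh.stalk (ζ ≫ i)).map ((EtCoh.pullPushAdj i).unit.app F)) :=
        (NatIso.isIso_map_iff (EtStalkPull.stalkPullIso i ζ) _).1 inferInstance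
      exact ConcreteCategory.bijective_of_isIso _
    · have hdis : Disjoint (Set.range ξ.base) (Set.range i.base) := by
        rw [Set.disjoint_left]
        rintro _ ⟨a, rfl⟩ h
        rw [Subsingleton.elim a default] at h
        exact hmem h
      have h1 := isZero_stalk_of_vanish i F hF ξ hdis
      have h2 := isZero_stalk_push i ((EtCoh.pull i).obj F) ξ hdis
      haveI s1 : Subsingleton ↑((EtCoh.stalk ξ).obj ((𝟭 (EtCoh.Ab X)).obj F)) :=
        AddCommGrpCat.subsingleton_of_isZero h1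
      haveI s2 : Subsingleton ↑((EtCoh.stalk ξ).obj ((EtCoh.pull i ⋙ EtCoh.push i).obj F)) :=
        AddCommGrpCat.subsingleton_of_isZero h2
      exact ⟨fun a b _ => Subsingleton.elim a b, fun b => ⟨0, Subsingleton.elim _ _⟩⟩
  haveI : Mono ((EtCoh.pullPushAdj i).unit.app F) :=
    (mono_iff _).2 (fun Ω _ _ ξ => (hstalk Ω ξ).1)
  haveI : Epi ((EtCoh.pullPushAdj i).unit.app F) :=
    (epi_iff _).2 (fun Ω _ _ ξ => (hstalk Ω ξ).2)
  exact isIso_of_mono_of_epi _

theorem essImage_iff (F : EtCoh.Ab X) :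
    (EtCoh.push i).essImage F ↔
      ∀ U : X.Etale, Disjoint (Set.range U.hom.base) (Set.range i.base) →
        IsZero (F.obj.obj (op U)) := by
  constructor
  · rintro ⟨G, ⟨e⟩⟩ U hU
    haveI : IsEmpty ((EtCoh.bc i).obj U).left := by
      show IsEmpty ↥(pullback U.hom i)
      rw [Scheme.isEmpty_pullback_iff]
      exact hU
    have h0 : IsZero (((EtCoh.push i).obj G).obj.obj (op U)) := by
      haveI : Subsingleton (((EtCoh.push i).obj G).obj.obj (op U)) :=
        ⟨fun a b => (eq_zero_of_isEmpty G ((EtCoh.bc i).obj U) a).trans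
          (eq_zero_of_isEmpty G _ b).symm⟩
      exact AddCommGrpCat.isZero_of_subsingleton _
    exact h0.of_iso
      (((sheafSections X.smallEtaleTopology AddCommGrpCat.{u + 1}).obj (op U)).mapIso e.symm)
  · intro hF
    haveI := isIso_unit_of_vanish i F hF
    exact ⟨(EtCoh.pull i).obj F, ⟨(asIso ((EtCoh.pullPushAdj i).unit.app F)).symm⟩⟩

end Groth.Agent.Lib.EtClosedPush_helper7
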