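import Mathlib
import Groth.Prelude.Def_SGA4b
import Groth.Agent.Lib.EtStalkPull_helper9
import Groth.Agent.Lib.EtSchStalk_helper7

/-!
# Inverse image along a surjective morphism is faithful and conservative on étale sheaves of sets
(helper7)
-/

set_option autoImplicit false
set_option backward.isDefEq.respectTransparency false
universe u
open CategoryTheory CategoryTheory.Limits AlgebraicGeometry Opposite

namespace Groth.Agent.Lib.EtSchPullConserv_helper7

open Groth.Agent.Lib.EtSchSite_helper7 Groth.Agent.Lib.Kummer_helper7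
  Groth.Agent.Lib.EtSchStalk_helper7

section Family

variable {X : Scheme.{u}} {ι : Type*} {Ω : ι → Type u} [∀ i, Field (Ω i)]
  [∀ i, IsSepClosed (Ω i)] (s : ∀ i, Spec (CommRingCat.of (Ω i)) ⟶ X)
  (hs : ∀ x : X, ∃ i, s i default = x)

include hs in
theorem exists_lift_of_family (U : X.Etale) (pt : U.left) :
    ∃ (i : ι) (l : (Scheme.pointSmallEtale (s i)).fiber.obj U),
      l.left (default : ↥(Spec (CommRingCat.of (Ω i)))) = pt := by
  obtain ⟨i, hi⟩ := hs (U.hom pt)
  obtain ⟨l, hl1, hl2⟩ := Scheme.exists_fac_of_etale_of_isSepClosed U.hom (s i) pt hi.symm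
  exact ⟨i, Over.homMk l hl1, hl2⟩

include hs in
/-- Two morphisms of sheaves agreeing on the stalks at a covering family of geometric points are
equal. -/
theorem hom_ext_of_family {F G : Sheaf X.smallEtaleTopology (Type (u + 1))} (φ ψ : F ⟶ G)
    (h : ∀ i, (Scheme.pointSmallEtale (s i)).presheafFiber.map φ.hom =
      (Scheme.pointSmallEtale (s i)).presheafFiber.map ψ.hom) : φ = ψ := by
  apply Sheaf.hom_ext
  ext U x
  refine Sheaf.isSeparated G U.unop (Presheaf.equalizerSieve (F := G.obj) (X := U)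
    (φ.hom.app U x) (ψ.hom.app U x)) ?_ _ _ (fun Y f hf => hf)
  apply sieve_mem_of_forall_exists
  intro pt
  obtain ⟨i, l, hl⟩ := exists_lift_of_family s hs U.unop pt
  have h1 : (Scheme.pointSmallEtale (s i)).toPresheafFiber U.unop l G.obj (φ.hom.app U x) =
      (Scheme.pointSmallEtale (s i)).toPresheafFiber U.unop l G.obj (ψ.hom.app U x) := by
    rw [← GrothendieckTopology.Point.toPresheafFiber_naturality_apply,
      ← GrothendieckTopology.Point.toPresheafFiber_naturality_apply, h i]
  obtain ⟨Y, g, y', hy', heq⟩ :=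
    ((Scheme.pointSmallEtale (s i)).toPresheafFiber_eq_iff' U.unop l _ _).1 h1
  refine ⟨Y, g, heq, ?_⟩
  rw [← hl]
  exact mem_range_of_map_eq g y' l hy'


variable {A : Type*} [Category A] [HasColimitsOfSize.{u, u} A]
  {FC : A → A → Type*} {CC : A → Type*} [∀ (X Y : A), FunLike (FC X Y) (CC X) (CC Y)]
  [ConcreteCategory A FC] [PreservesFilteredColimitsOfSize.{u, u} (forget A)]

include hs in
theorem isLocallyInjective_of_family {P Q : X.Etaleᵒᵖ ⥤ A} (f : P ⟶ Q)
    (h : ∀ i, Function.Injective ((Scheme.pointSmallEtale (s i)).presheafFiber.map f)) :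
    Presheaf.IsLocallyInjective X.smallEtaleTopology f := by
  refine ⟨fun {U} x y hxy => ?_⟩
  apply sieve_mem_of_forall_exists
  intro pt
  obtain ⟨i, l, hl⟩ := exists_lift_of_family s hs U.unop pt
  have h1 : (Scheme.pointSmallEtale (s i)).toPresheafFiber U.unop l P x =
      (Scheme.pointSmallEtale (s i)).toPresheafFiber U.unop l P y := by
    apply h i
    rw [GrothendieckTopology.Point.toPresheafFiber_naturality_apply,
      GrothendieckTopology.Point.toPresheafFiber_naturality_apply]
    exact congrArg _ hxy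
  obtain ⟨Y, g, y', hy', heq⟩ :=
    ((Scheme.pointSmallEtale (s i)).toPresheafFiber_eq_iff' U.unop l x y).1 h1
  refine ⟨Y, g, heq, ?_⟩
  rw [← hl]
  exact mem_range_of_map_eq g y' l hy'

include hs in
theorem isLocallySurjective_of_family {P Q : X.Etaleᵒᵖ ⥤ A} (f : P ⟶ Q)
    (h : ∀ i, Function.Surjective ((Scheme.pointSmallEtale (s i)).presheafFiber.map f)) :
    Presheaf.IsLocallySurjective X.smallEtaleTopology f := by
  refine ⟨fun {U} t => ?_⟩
  apply sieve_mem_of_forall_exists
  intro pt
  obtain ⟨i, l, hl⟩ := exists_lift_of_family s hs U pt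
  obtain ⟨σ, hσ⟩ := h i ((Scheme.pointSmallEtale (s i)).toPresheafFiber U l Q t)
  obtain ⟨V, v, z, rfl⟩ := (Scheme.pointSmallEtale (s i)).toPresheafFiber_jointly_surjective σ
  rw [GrothendieckTopology.Point.toPresheafFiber_naturality_apply] at hσ
  obtain ⟨W, a, b, -⟩ := IsCofilteredOrEmpty.cone_objs
    (C := (Scheme.pointSmallEtale (s i)).fiber.Elements)
    (⟨V, v⟩ : (Scheme.pointSmallEtale (s i)).fiber.Elements)
    (⟨U, l⟩ : (Scheme.pointSmallEtale (s i)).fiber.Elements)
  have ha : (Scheme.pointSmallEtale (s i)).fiber.map a.1 W.2 = v := a.2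
  have hb : (Scheme.pointSmallEtale (s i)).fiber.map b.1 W.2 = l := b.2
  have h2 : (Scheme.pointSmallEtale (s i)).toPresheafFiber W.1 W.2 Q (Q.map a.1.op (f.app _ z)) =
      (Scheme.pointSmallEtale (s i)).toPresheafFiber W.1 W.2 Q (Q.map b.1.op t) := by
    rw [GrothendieckTopology.Point.toPresheafFiber_w_apply,
      GrothendieckTopology.Point.toPresheafFiber_w_apply, ha, hb, hσ]
  obtain ⟨Y, g, y, hy, heq⟩ :=
    ((Scheme.pointSmallEtale (s i)).toPresheafFiber_eq_iff' W.1 W.2 _ _).1 h2
  refine ⟨Y, g ≫ b.1, ⟨P.map (g ≫ a.1).op z, ?_⟩, ?_⟩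
  · rw [NatTrans.naturality_apply, op_comp, Functor.map_comp, op_comp, Functor.map_comp,
      ConcreteCategory.comp_apply, ConcreteCategory.comp_apply]
    exact heq
  · rw [← hl]
    refine mem_range_of_map_eq (g ≫ b.1) y l ?_
    rw [Functor.map_comp]
    show (Scheme.pointSmallEtale (s i)).fiber.map b.1
      ((Scheme.pointSmallEtale (s i)).fiber.map g y) = l
    rw [show (Scheme.pointSmallEtale (s i)).fiber.map g y = W.2 from hy]
    exact hb

end Family

/-- A chosen geometric point through a point of a scheme. -/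
noncomputable def geomPt {X : Scheme.{u}} (x : X) :
    Spec (CommRingCat.of (AlgebraicClosure (X.residueField x))) ⟶ X :=
  Spec.map (CommRingCat.ofHom (algebraMap (X.residueField x)
    (AlgebraicClosure (X.residueField x)))) ≫ X.fromSpecResidueField x

theorem geomPt_default {X : Scheme.{u}} (x : X) : geomPt x default = x := by
  rw [geomPt, Scheme.Hom.comp_apply]
  exact Scheme.fromSpecResidueField_apply _ _

section Pull

variable {X' X : Scheme.{u}} (f : X' ⟶ X)

/-- `(f⁻¹ G)_ξ ≅ G_{f ξ}` for étale sheaves of sets. -/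
noncomputable def stalkPullIsoSh {Ω : Type u} [Field Ω] [IsSepClosed Ω]
    (ξ : Spec (CommRingCat.of Ω) ⟶ X') :
    EtDesc.pullSh f ⋙ (Scheme.pointSmallEtale ξ).sheafFiber (A := Type (u + 1)) ≅
      (Scheme.pointSmallEtale (ξ ≫ f)).sheafFiber (A := Type (u + 1)) :=
  ((Scheme.pointSmallEtale ξ).sheafFiberComapIso (EtCoh.bc f) (EtCoh.coverPreserving_bc f)
      (Type (u + 1))).symm ≪≫
    (EtStalkPull.sheafFiberIsoOfIso (EtStalkPull.pointIso f ξ)).symm

theorem faithful_reflects [Surjective f] :
    (EtDesc.pullSh f).Faithful ∧ (EtDesc.pullSh f).ReflectsIsomorphisms := by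
  -- a covering family of geometric points of `X` coming from `X'`
  obtain ⟨ξ, hξdef⟩ : ∃ ξ : ∀ x' : X',
      Spec (CommRingCat.of (AlgebraicClosure (X'.residueField x'))) ⟶ X', ξ = fun x' => geomPt x' :=
    ⟨_, rfl⟩
  have hξ : ∀ x', ξ x' default = x' := by
    intro x'; rw [hξdef]; exact geomPt_default x'
  have hs : ∀ x : X, ∃ x' : X', (ξ x' ≫ f) default = x := by
    intro x
    obtain ⟨x', rfl⟩ := f.surjective x
    exact ⟨x', by rw [Scheme.Hom.comp_apply, hξ]⟩
  constructor
  · refine ⟨fun {F G} φ ψ h => ?_⟩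
    apply hom_ext_of_family (fun x' => ξ x' ≫ f) hs
    intro x'
    have e := stalkPullIsoSh f (ξ x')
    have h1 : (EtDesc.pullSh f ⋙ (Scheme.pointSmallEtale (ξ x')).sheafFiber
        (A := Type (u + 1))).map φ = (EtDesc.pullSh f ⋙ (Scheme.pointSmallEtale (ξ x')).sheafFiber
        (A := Type (u + 1))).map ψ := by
      show ((Scheme.pointSmallEtale (ξ x')).sheafFiber (A := Type (u + 1))).map
        ((EtDesc.pullSh f).map φ) = _
      rw [h]
      rfl
    have h2 : ((Scheme.pointSmallEtale (ξ x' ≫ f)).sheafFiber (A := Type (u + 1))).map φ =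
        ((Scheme.pointSmallEtale (ξ x' ≫ f)).sheafFiber (A := Type (u + 1))).map ψ := by
      rw [← cancel_epi (e.hom.app F), ← e.hom.naturality, ← e.hom.naturality, h1]
    exact h2
  · refine ⟨fun {F G} φ hφ => ?_⟩
    have hbij : ∀ x', Function.Bijective
        ((Scheme.pointSmallEtale (ξ x' ≫ f)).presheafFiber.map φ.hom) := by
      intro x'
      have e := stalkPullIsoSh f (ξ x')
      haveI : IsIso ((EtDesc.pullSh f ⋙ (Scheme.pointSmallEtale (ξ x')).sheafFiber
          (A := Type (u + 1))).map φ) := by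
        show IsIso (((Scheme.pointSmallEtale (ξ x')).sheafFiber (A := Type (u + 1))).map
          ((EtDesc.pullSh f).map φ))
        infer_instance
      haveI : IsIso (((Scheme.pointSmallEtale (ξ x' ≫ f)).sheafFiber (A := Type (u + 1))).map φ) :=
        (NatIso.isIso_map_iff e φ).1 inferInstance
      exact (isIso_iff_bijective _).1 this
    haveI : Sheaf.IsLocallyInjective φ :=
      isLocallyInjective_of_family (fun x' => ξ x' ≫ f) hs φ.hom (fun x' => (hbij x').1)
    haveI : Sheaf.IsLocallySurjective φ :=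
      isLocallySurjective_of_family (fun x' => ξ x' ≫ f) hs φ.hom (fun x' => (hbij x').2)
    exact (Sheaf.isLocallyBijective_iff_isIso φ).1 ⟨inferInstance, inferInstance⟩

end Pull

end Groth.Agent.Lib.EtSchPullConserv_helper7
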