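import Mathlib
import Groth.Prelude.Def_SGA4b
import Groth.Agent.Lib.EtClosedStalk_helper7
import Groth.Agent.Lib.EtSchPullConserv_helper7

/-!
# Direct image of étale sheaves along an immersion: stalks and the counit (helper7)
-/

set_option autoImplicit false
set_option backward.isDefEq.respectTransparency false
universe u
open CategoryTheory CategoryTheory.Limits AlgebraicGeometry Opposite

namespace Groth.Agent.Lib.EtImmStalk_helper7

open Groth.Agent.Lib.EtSchSite_helper7 Groth.Agent.Lib.PointComapCounit_helper7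
  Groth.Agent.Lib.EtClosedStalk_helper7 Groth.Agent.Lib.EtSchPullConserv_helper7

variable {Z X : Scheme.{u}} (i : Z ⟶ X) [IsImmersion i] {Ω : Type u} [Field Ω]
  [IsSepClosed Ω] (ζ : Spec (CommRingCat.of Ω) ⟶ Z)

theorem exists_dom_imm (V : Z.Etale) (v : (Scheme.pointSmallEtale ζ).fiber.obj V) :
    ∃ (U : X.Etale) (u : (Scheme.pointSmallEtale ζ).fiber.obj ((EtCoh.bc i).obj U))
      (s : (EtCoh.bc i).obj U ⟶ V), (Scheme.pointSmallEtale ζ).fiber.map s u = v := by
  obtain ⟨vl, hvl⟩ : ∃ vl : Spec (CommRingCat.of Ω) ⟶ V.left, vl = v.left := ⟨v.left, rfl⟩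
  have hvζ : vl ≫ V.hom = ζ := by rw [hvl]; exact Over.w v
  obtain ⟨U₀, h, h1, h2, h3⟩ := EtaleLiftH4.exists_local_lift i.liftCoborder V
    (vl (default : ↥(Spec (CommRingCat.of Ω))))
  have hrange : Set.range vl ⊆ Set.range h := by
    rintro _ ⟨a, rfl⟩
    rwa [Subsingleton.elim a default]
  obtain ⟨l₀, hl₀⟩ : ∃ l₀ : Spec (CommRingCat.of Ω) ⟶ pullback U₀.hom i.liftCoborder,
      l₀ ≫ h = vl := ⟨IsOpenImmersion.lift h vl hrange, IsOpenImmersion.lift_fac _ _ _⟩
  haveI : Etale (U₀.hom ≫ i.coborderRange.ι) := inferInstance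
  let U : X.Etale := Scheme.Etale.mk (U₀.hom ≫ i.coborderRange.ι)
  have hk : pullback.fst (U₀.hom ≫ i.coborderRange.ι) i ≫ U₀.hom =
      pullback.snd (U₀.hom ≫ i.coborderRange.ι) i ≫ i.liftCoborder := by
    rw [← cancel_mono i.coborderRange.ι, Category.assoc, Category.assoc,
      Scheme.Hom.liftCoborder_ι]
    exact pullback.condition
  obtain ⟨k, hk1, hk2⟩ : ∃ k : pullback (U₀.hom ≫ i.coborderRange.ι) i ⟶
      pullback U₀.hom i.liftCoborder,
      k ≫ pullback.fst _ _ = pullback.fst _ _ ∧ k ≫ pullback.snd _ _ = pullback.snd _ _ :=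
    ⟨pullback.lift _ _ hk, pullback.lift_fst _ _ _, pullback.lift_snd _ _ _⟩
  have hl₀snd : l₀ ≫ pullback.snd U₀.hom i.liftCoborder = ζ := by
    rw [← h1, ← Category.assoc, hl₀, hvζ]
  have hl : (l₀ ≫ pullback.fst U₀.hom i.liftCoborder) ≫ (U₀.hom ≫ i.coborderRange.ι) = ζ ≫ i := by
    rw [Category.assoc, ← Category.assoc (pullback.fst U₀.hom i.liftCoborder),
      pullback.condition, Category.assoc, Scheme.Hom.liftCoborder_ι, ← Category.assoc, hl₀snd]
  obtain ⟨l, hl1, hl2⟩ : ∃ l : Spec (CommRingCat.of Ω) ⟶ pullback (U₀.hom ≫ i.coborderRange.ι) i,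
      l ≫ pullback.fst _ _ = l₀ ≫ pullback.fst U₀.hom i.liftCoborder ∧
        l ≫ pullback.snd _ _ = ζ :=
    ⟨pullback.lift _ _ hl, pullback.lift_fst _ _ _, pullback.lift_snd _ _ _⟩
  have hlk : l ≫ k = l₀ := by
    apply pullback.hom_ext
    · rw [Category.assoc, hk1, hl1]
    · rw [Category.assoc, hk2, hl2, hl₀snd]
  have hcomm : (k ≫ h) ≫ V.hom = ((EtCoh.bc i).obj U).hom := by
    rw [Category.assoc, h1, hk2]
    rfl
  have hl3 : l ≫ ((EtCoh.bc i).obj U).hom = ζ := hl2
  refine ⟨U, Over.homMk l hl3, MorphismProperty.Over.homMk (k ≫ h) hcomm trivial, ?_⟩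
  apply Over.OverMorphism.ext
  show l ≫ (k ≫ h) = v.left
  rw [← Category.assoc, hlk, hl₀, hvl]

theorem exists_refine_imm (U : X.Etale)
    (u : (Scheme.pointSmallEtale ζ).fiber.obj ((EtCoh.bc i).obj U))
    (W : Z.Etale) (r : W ⟶ (EtCoh.bc i).obj U) (w : (Scheme.pointSmallEtale ζ).fiber.obj W)
    (hw : (Scheme.pointSmallEtale ζ).fiber.map r w = u) :
    ∃ (U' : X.Etale) (t : U' ⟶ U)
      (u' : (Scheme.pointSmallEtale ζ).fiber.obj ((EtCoh.bc i).obj U')),
      (Scheme.pointSmallEtale ζ).fiber.map ((EtCoh.bc i).map t) u' = u ∧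
      Set.range ((EtCoh.bc i).map t).left ⊆ Set.range r.left := by
  obtain ⟨pr, hpr⟩ : ∃ pr : ((EtCoh.bc i).obj U).left ⟶ U.left, pr = pullback.fst U.hom i :=
    ⟨_, rfl⟩
  haveI : IsImmersion pr := by
    rw [hpr]; infer_instance
  have hOopen : IsOpen (Set.range r.left) := r.left.isOpenMap.isOpen_range
  obtain ⟨O₀, hO₀, hO₀'⟩ := pr.isEmbedding.isInducing.isOpen_iff.1 hOopen
  let O' : U.left.Opens := ⟨O₀, hO₀⟩
  haveI : Etale (O'.ι ≫ U.hom) := inferInstance
  let U' : X.Etale := Scheme.Etale.mk (O'.ι ≫ U.hom)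
  let t : U' ⟶ U := MorphismProperty.Over.homMk O'.ι rfl trivial
  have sq := EtCoh.isPullback_bc_map i t
  obtain ⟨ul, hul⟩ : ∃ ul : Spec (CommRingCat.of Ω) ⟶ ((EtCoh.bc i).obj U).left, ul = u.left :=
    ⟨u.left, rfl⟩
  obtain ⟨wl, hwl⟩ : ∃ wl : Spec (CommRingCat.of Ω) ⟶ W.left, wl = w.left := ⟨w.left, rfl⟩
  have hwu : wl ≫ r.left = ul := by
    rw [hwl, hul, ← hw]
    rfl
  have hu_mem : ul (default : ↥(Spec (CommRingCat.of Ω))) ∈ Set.range r.left := by
    rw [← hwu]
    exact ⟨wl default, (Scheme.Hom.comp_apply _ _ _).symm⟩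
  have hrange : Set.range (ul ≫ pr) ⊆ Set.range O'.ι := by
    rintro _ ⟨a, rfl⟩
    rw [Subsingleton.elim a default, Scheme.Opens.range_ι]
    have h1 : (ul ≫ pr) default = pr (ul default) := Scheme.Hom.comp_apply _ _ _
    rw [h1]
    show ul default ∈ pr ⁻¹' O₀
    rw [hO₀']
    exact hu_mem
  obtain ⟨m, hm⟩ : ∃ m : Spec (CommRingCat.of Ω) ⟶ U'.left, m ≫ O'.ι = u.left ≫ pr :=
    ⟨IsOpenImmersion.lift O'.ι (ul ≫ pr) hrange, by rw [IsOpenImmersion.lift_fac, hul]⟩
  have hm' : u.left ≫ pullback.fst U.hom i = m ≫ t.left := by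
    rw [← hpr]; exact hm.symm
  obtain ⟨l, hl1⟩ : ∃ l : Spec (CommRingCat.of Ω) ⟶ ((EtCoh.bc i).obj U').left,
      l ≫ ((EtCoh.bc i).map t).left = u.left := ⟨sq.lift u.left m hm', sq.lift_fst _ _ _⟩
  have hl2 : l ≫ ((EtCoh.bc i).obj U').hom = ζ := by
    rw [← MorphismProperty.Over.w ((EtCoh.bc i).map t), ← Category.assoc, hl1]
    exact Over.w u
  refine ⟨U', t, Over.homMk l hl2, ?_, ?_⟩
  · apply Over.OverMorphism.ext
    exact hl1
  · rintro _ ⟨y, rfl⟩
    have h1 : pr (((EtCoh.bc i).map t).left y) = O'.ι ((pullback.fst U'.hom i) y) := by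
      subst hpr
      exact (Scheme.Hom.comp_apply _ _ _).symm.trans
        ((congrArg (fun (m : ((EtCoh.bc i).obj U').left ⟶ U.left) => m y) sq.w).trans
          (Scheme.Hom.comp_apply _ _ _))
    have h2 : O'.ι ((pullback.fst U'.hom i) y) ∈ Set.range O'.ι := ⟨_, rfl⟩
    rw [Scheme.Opens.range_ι, ← h1] at h2
    have h3 : ((EtCoh.bc i).map t).left y ∈ pr ⁻¹' O₀ := h2
    rw [hO₀'] at h3
    exact h3

section Gen

variable {A : Type*} [Category A] [HasColimitsOfSize.{u, u} A] [HasProducts.{u} A]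
  {FC : A → A → Type*} {CC : A → Type*} [∀ (X Y : A), FunLike (FC X Y) (CC X) (CC Y)]
  [ConcreteCategory A FC] [PreservesFilteredColimitsOfSize.{u, u} (forget A)]
  [Z.smallEtaleTopology.HasSheafCompose (forget A)]
  [((EtCoh.bc i).sheafPushforwardContinuous A X.smallEtaleTopology
    Z.smallEtaleTopology).IsRightAdjoint]

/-- The comparison `(i_* G)_{i ζ} ⟶ G_ζ` is bijective for an immersion `i`. -/
theorem bijective_comparison_imm (G : Sheaf Z.smallEtaleTopology A) :
    Function.Bijective (comparison (Scheme.pointSmallEtale ζ) (EtCoh.bc i)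
      (EtCoh.coverPreserving_bc i) A G) := by
  have hcmp : ∀ (U : X.Etale) (u : (Scheme.pointSmallEtale ζ).fiber.obj ((EtCoh.bc i).obj U))
      (z : ToType (G.obj.obj (op ((EtCoh.bc i).obj U)))),
      comparison (Scheme.pointSmallEtale ζ) (EtCoh.bc i) (EtCoh.coverPreserving_bc i) A G
        (((Scheme.pointSmallEtale ζ).comap (EtCoh.bc i)
          (EtCoh.coverPreserving_bc i)).toPresheafFiber U u
          (((EtCoh.bc i).sheafPushforwardContinuous A X.smallEtaleTopology
            Z.smallEtaleTopology).obj G).obj z) =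
      (Scheme.pointSmallEtale ζ).toPresheafFiber ((EtCoh.bc i).obj U) u G.obj z :=
    fun U u z => (ConcreteCategory.comp_apply _ _ _).symm.trans
      (congrArg (fun m => (ConcreteCategory.hom m) z)
        (toPresheafFiber_comparison (Scheme.pointSmallEtale ζ) (EtCoh.bc i)
          (EtCoh.coverPreserving_bc i) A G U u))
  have key : ∀ (U : X.Etale) (u : (Scheme.pointSmallEtale ζ).fiber.obj ((EtCoh.bc i).obj U))
      (z₁ z₂ : ToType (G.obj.obj (op ((EtCoh.bc i).obj U)))),
      comparison (Scheme.pointSmallEtale ζ) (EtCoh.bc i) (EtCoh.coverPreserving_bc i) A G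
        (((Scheme.pointSmallEtale ζ).comap (EtCoh.bc i)
          (EtCoh.coverPreserving_bc i)).toPresheafFiber U u
          (((EtCoh.bc i).sheafPushforwardContinuous A X.smallEtaleTopology
            Z.smallEtaleTopology).obj G).obj z₁) =
      comparison (Scheme.pointSmallEtale ζ) (EtCoh.bc i) (EtCoh.coverPreserving_bc i) A G
        (((Scheme.pointSmallEtale ζ).comap (EtCoh.bc i)
          (EtCoh.coverPreserving_bc i)).toPresheafFiber U u
          (((EtCoh.bc i).sheafPushforwardContinuous A X.smallEtaleTopology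
            Z.smallEtaleTopology).obj G).obj z₂) →
      ((Scheme.pointSmallEtale ζ).comap (EtCoh.bc i)
          (EtCoh.coverPreserving_bc i)).toPresheafFiber U u
          (((EtCoh.bc i).sheafPushforwardContinuous A X.smallEtaleTopology
            Z.smallEtaleTopology).obj G).obj z₁ =
      ((Scheme.pointSmallEtale ζ).comap (EtCoh.bc i)
          (EtCoh.coverPreserving_bc i)).toPresheafFiber U u
          (((EtCoh.bc i).sheafPushforwardContinuous A X.smallEtaleTopology
            Z.smallEtaleTopology).obj G).obj z₂ := by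
    intro U u z₁ z₂ hab
    have h1 : (Scheme.pointSmallEtale ζ).toPresheafFiber ((EtCoh.bc i).obj U) u G.obj z₁ =
        (Scheme.pointSmallEtale ζ).toPresheafFiber ((EtCoh.bc i).obj U) u G.obj z₂ :=
      (hcmp U u z₁).symm.trans (hab.trans (hcmp U u z₂))
    obtain ⟨W, r, w, hw, heq⟩ :=
      ((Scheme.pointSmallEtale ζ).toPresheafFiber_eq_iff' _ u z₁ z₂).1 h1
    obtain ⟨U', t, u', hu', hrange⟩ := exists_refine_imm i ζ U u W r w hw
    have hsep : G.obj.map ((EtCoh.bc i).map t).op z₁ = G.obj.map ((EtCoh.bc i).map t).op z₂ := by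
      refine Sheaf.isSeparated G ((EtCoh.bc i).obj U')
        (Presheaf.equalizerSieve (F := G.obj) (X := op ((EtCoh.bc i).obj U'))
          (G.obj.map ((EtCoh.bc i).map t).op z₁) (G.obj.map ((EtCoh.bc i).map t).op z₂)) ?_ _ _
        (fun Y f hf => hf)
      apply sieve_mem_of_forall_exists
      intro y
      obtain ⟨w₀, hw₀⟩ := hrange ⟨y, rfl⟩
      obtain ⟨P', a, b, z, hab', -, hz⟩ := exists_prod r ((EtCoh.bc i).map t) w₀ y hw₀
      refine ⟨P', b, ?_, ⟨z, hz⟩⟩
      have hmap : ∀ q : ToType (G.obj.obj (op ((EtCoh.bc i).obj U))),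
          G.obj.map b.op (G.obj.map ((EtCoh.bc i).map t).op q) =
            G.obj.map a.op (G.obj.map r.op q) := fun q =>
        (map_map_apply G.obj ((EtCoh.bc i).map t) b q).trans
          ((congrArg (fun m => G.obj.map m.op q) hab'.symm).trans
            (map_map_apply G.obj r a q).symm)
      exact (hmap z₁).trans ((congrArg (fun q => G.obj.map a.op q) heq).trans (hmap z₂).symm)
    have e1 := ((Scheme.pointSmallEtale ζ).comap (EtCoh.bc i)
      (EtCoh.coverPreserving_bc i)).toPresheafFiber_w_apply t u'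
      (((EtCoh.bc i).sheafPushforwardContinuous A X.smallEtaleTopology
        Z.smallEtaleTopology).obj G).obj z₁
    have e2 := ((Scheme.pointSmallEtale ζ).comap (EtCoh.bc i)
      (EtCoh.coverPreserving_bc i)).toPresheafFiber_w_apply t u'
      (((EtCoh.bc i).sheafPushforwardContinuous A X.smallEtaleTopology
        Z.smallEtaleTopology).obj G).obj z₂
    have hu'' : ((Scheme.pointSmallEtale ζ).comap (EtCoh.bc i)
      (EtCoh.coverPreserving_bc i)).fiber.map t u' = u := hu'
    rw [hu''] at e1 e2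
    exact e1.symm.trans ((congrArg _ hsep).trans e2)
  constructor
  · intro a b hab
    obtain ⟨U, u, z₁, z₂, rfl, rfl⟩ := ((Scheme.pointSmallEtale ζ).comap (EtCoh.bc i)
      (EtCoh.coverPreserving_bc i)).toPresheafFiber_jointly_surjective₂ a b
    exact key U u z₁ z₂ hab
  · intro t
    obtain ⟨V, v, z, rfl⟩ := (Scheme.pointSmallEtale ζ).toPresheafFiber_jointly_surjective t
    obtain ⟨U, u, s, hs⟩ := exists_dom_imm i ζ V v
    refine ⟨((Scheme.pointSmallEtale ζ).comap (EtCoh.bc i)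
      (EtCoh.coverPreserving_bc i)).toPresheafFiber U u
      (((EtCoh.bc i).sheafPushforwardContinuous A X.smallEtaleTopology
        Z.smallEtaleTopology).obj G).obj (G.obj.map s.op z), ?_⟩
    refine (hcmp U u (G.obj.map s.op z)).trans ?_
    rw [← hs]
    exact (Scheme.pointSmallEtale ζ).toPresheafFiber_w_apply s u G.obj z

end Gen

/-- Stalks of the direct image of an abelian sheaf along an immersion. -/
theorem stalk_push_iso_imm (G : EtCoh.Ab Z) :
    Nonempty ((EtCoh.stalk (ζ ≫ i)).obj ((EtCoh.push i).obj G) ≅ (EtCoh.stalk ζ).obj G) := by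
  haveI : IsIso (comparison (Scheme.pointSmallEtale ζ) (EtCoh.bc i) (EtCoh.coverPreserving_bc i)
      AddCommGrpCat.{u + 1} G) :=
    (ConcreteCategory.isIso_iff_bijective _).2 (bijective_comparison_imm i ζ G)
  exact ⟨(EtStalkPull.sheafFiberIsoOfIso (EtStalkPull.pointIso i ζ)).app ((EtCoh.push i).obj G) ≪≫
    asIso (comparison (Scheme.pointSmallEtale ζ) (EtCoh.bc i) (EtCoh.coverPreserving_bc i)
      AddCommGrpCat.{u + 1} G)⟩

/-- The counit `i^* i_* G ⟶ G` is an isomorphism for sheaves of sets and an immersion `i`. -/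
theorem isIso_counit_sh (G : EtDesc.Sh Z) : IsIso ((EtDesc.adjSh i).counit.app G) := by
  haveI : ((EtCoh.bc i).sheafPushforwardContinuous (Type (u + 1)) X.smallEtaleTopology
      Z.smallEtaleTopology).IsRightAdjoint := (EtDesc.adjSh i).isRightAdjoint
  obtain ⟨ξ, hξdef⟩ : ∃ ξ : ∀ z : Z,
      Spec (CommRingCat.of (AlgebraicClosure (Z.residueField z))) ⟶ Z, ξ = fun z => geomPt z :=
    ⟨_, rfl⟩
  have hs : ∀ z : Z, ∃ z' : Z, ξ z' default = z := by
    intro z
    exact ⟨z, by rw [hξdef]; exact geomPt_default z⟩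
  have hbij : ∀ z : Z, Function.Bijective
      ((Scheme.pointSmallEtale (ξ z)).presheafFiber.map ((EtDesc.adjSh i).counit.app G).hom) := by
    intro z
    haveI h0 : IsIso (comparison (Scheme.pointSmallEtale (ξ z)) (EtCoh.bc i)
        (EtCoh.coverPreserving_bc i) (Type (u + 1)) G) :=
      (isIso_iff_bijective _).2 (bijective_comparison_imm i (ξ z) G)
    have h1 : IsIso (((Scheme.pointSmallEtale (ξ z)).sheafFiberComapIso (EtCoh.bc i)
        (EtCoh.coverPreserving_bc i) (Type (u + 1))).hom.app ((EtDesc.pushSh i).obj G) ≫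
        ((Scheme.pointSmallEtale (ξ z)).sheafFiber (A := Type (u + 1))).map
          ((EtDesc.adjSh i).counit.app G)) := h0
    haveI : IsIso (((Scheme.pointSmallEtale (ξ z)).sheafFiber (A := Type (u + 1))).map
          ((EtDesc.adjSh i).counit.app G)) :=
      IsIso.of_isIso_comp_left (((Scheme.pointSmallEtale (ξ z)).sheafFiberComapIso (EtCoh.bc i)
        (EtCoh.coverPreserving_bc i) (Type (u + 1))).hom.app ((EtDesc.pushSh i).obj G)) _
    exact (isIso_iff_bijective _).1 this
  haveI : Sheaf.IsLocallyInjective ((EtDesc.adjSh i).counit.app G) :=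
    isLocallyInjective_of_family ξ hs ((EtDesc.adjSh i).counit.app G).hom (fun z => (hbij z).1)
  haveI : Sheaf.IsLocallySurjective ((EtDesc.adjSh i).counit.app G) :=
    isLocallySurjective_of_family ξ hs ((EtDesc.adjSh i).counit.app G).hom (fun z => (hbij z).2)
  exact (Sheaf.isLocallyBijective_iff_isIso _).1 ⟨inferInstance, inferInstance⟩

end Groth.Agent.Lib.EtImmStalk_helper7
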