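import Mathlib
import Groth.Prelude.Def_EtShriek2
import Groth.Agent.Lib.EtImmStalk_helper7
import Groth.Agent.Lib.EtClosedPush_helper7

/-!
# Extension by zero along an open immersion (helper7)
-/

set_option autoImplicit false
set_option backward.isDefEq.respectTransparency false
universe u
open CategoryTheory CategoryTheory.Limits AlgebraicGeometry Opposite

namespace Groth.Agent.Lib.EtOpenShriek_helper7

open Groth.Agent.Lib.EtSchSite_helper7 Groth.Agent.Lib.PointComapCounit_helper7
  Groth.Agent.Lib.EtImmStalk_helper7 Groth.Agent.Lib.EtSchExact_helper7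

section Imm

variable {Z X : Scheme.{u}} (i : Z ⟶ X) [IsImmersion i]

/-- The counit `i⁻¹ i_* G ⟶ G` is an isomorphism for abelian sheaves and an immersion `i`. -/
theorem isIso_counit_ab (G : EtCoh.Ab Z) : IsIso ((EtCoh.pullPushAdj i).counit.app G) := by
  have hbij : ∀ (Ω : Type u) [Field Ω] [IsSepClosed Ω] (ζ : Spec (CommRingCat.of Ω) ⟶ Z),
      IsIso ((EtCoh.stalk ζ).map ((EtCoh.pullPushAdj i).counit.app G)) := by
    intro Ω _ _ ζ
    have h1 : IsIso (((Scheme.pointSmallEtale ζ).sheafFiberComapIso (EtCoh.bc i)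
        (EtCoh.coverPreserving_bc i) AddCommGrpCat.{u + 1}).hom.app ((EtCoh.push i).obj G) ≫
        (EtCoh.stalk ζ).map ((EtCoh.pullPushAdj i).counit.app G)) :=
      (ConcreteCategory.isIso_iff_bijective _).2 (bijective_comparison_imm i ζ G)
    exact IsIso.of_isIso_comp_left (((Scheme.pointSmallEtale ζ).sheafFiberComapIso (EtCoh.bc i)
        (EtCoh.coverPreserving_bc i) AddCommGrpCat.{u + 1}).hom.app ((EtCoh.push i).obj G)) _
  haveI : Mono ((EtCoh.pullPushAdj i).counit.app G) := (mono_iff _).2 (fun Ω _ _ ζ => by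
    haveI := hbij Ω ζ
    exact (ConcreteCategory.bijective_of_isIso _).1)
  haveI : Epi ((EtCoh.pullPushAdj i).counit.app G) := (epi_iff _).2 (fun Ω _ _ ζ => by
    haveI := hbij Ω ζ
    exact (ConcreteCategory.bijective_of_isIso _).2)
  exact isIso_of_mono_of_epi _

theorem isIso_counit_ab' : IsIso (EtCoh.pullPushAdj i).counit := by
  haveI : ∀ G, IsIso ((EtCoh.pullPushAdj i).counit.app G) := isIso_counit_ab i
  exact NatIso.isIso_of_isIso_app _

end Imm

section Open

variable {U X : Scheme.{u}} (j : U ⟶ X) [hj : Etale j] [EtShriek.JCont j]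

/-- Restriction along an étale `j` is left adjoint to the direct image. -/
noncomputable def compBcAdj : EtShriek.compEtale j ⊣ EtCoh.bc j :=
  MorphismProperty.Over.mapPullbackAdj EtCoh.etaleMP.{u} ⊤ j hj trivial

noncomputable def restrPushAdj : EtShriek.restrAlong j ⊣ EtCoh.push j :=
  Adjunction.sheafPushforwardContinuous (compBcAdj j)
    (E := AddCommGrpCat.{u + 1}) U.smallEtaleTopology X.smallEtaleTopology

/-- Restriction along an étale `j` is the inverse image. -/
noncomputable def restrIsoPull : EtShriek.restrAlong j ≅ EtCoh.pull j :=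
  (restrPushAdj j).leftAdjointUniq (EtCoh.pullPushAdj j)

variable [IsOpenImmersion j]

theorem isIso_unit_extZero : IsIso (EtShriek.extZeroAdj j).unit := by
  haveI := isIso_counit_ab' j
  have ff := (EtCoh.pullPushAdj j).fullyFaithfulROfIsIsoCounit
  haveI := ff.full
  haveI := ff.faithful
  let t : Adjunction.Triple (EtShriek.extZero j) (EtShriek.restrAlong j) (EtCoh.push j) :=
    ⟨EtShriek.extZeroAdj j, restrPushAdj j⟩
  have h : IsIso t.adj₂.counit := by
    show IsIso (restrPushAdj j).counit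
    infer_instance
  exact t.isIso_unit_iff_isIso_counit.2 h

end Open

section Open2

open Groth.Agent.Lib.EtPushClosed_helper7 Groth.Agent.Lib.EtClosedPush_helper7

variable {U X : Scheme.{u}} (j : U ⟶ X) [hj : Etale j] [EtShriek.JCont j]

/-- Stalks of the restriction along an étale morphism. -/
noncomputable def restrStalkIso {Ω : Type u} [Field Ω] [IsSepClosed Ω]
    (v : Spec (CommRingCat.of Ω) ⟶ U) :
    EtShriek.restrAlong j ⋙ EtCoh.stalk v ≅ EtCoh.stalk (v ≫ j) :=
  Functor.isoWhiskerRight (restrIsoPull j) (EtCoh.stalk v) ≪≫ EtStalkPull.stalkPullIso j v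

/-- The stalk of `j_! H` at a geometric point outside the image of `j` vanishes. -/
theorem isZero_stalk_extZero (H : EtCoh.Ab U) {Ω : Type u} [Field Ω] [IsSepClosed Ω]
    (ξ : Spec (CommRingCat.of Ω) ⟶ X) (hξ : Set.range ξ.base ⊆ (Set.range j.base)ᶜ) :
    IsZero ((EtCoh.stalk ξ).obj ((EtShriek.extZero j).obj H)) := by
  rw [IsZero.iff_id_eq_zero]
  apply (((Scheme.pointSmallEtale ξ).skyscraperSheafAdjunction
    (A := AddCommGrpCat.{u + 1})).homEquiv _ _).injective
  apply ((EtShriek.extZeroAdj j).homEquiv _ _).injective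
  apply Sheaf.hom_ext
  apply NatTrans.ext
  funext V
  apply Pi.hom_ext
  intro x
  exfalso
  obtain ⟨xl, hxl⟩ : ∃ xl : Spec (CommRingCat.of Ω) ⟶ V.unop.left,
      (xl ≫ V.unop.hom) ≫ j = ξ := ⟨x.left, (Category.assoc _ _ _).trans (Over.w x)⟩
  have h1 : ξ (default : ↥(Spec (CommRingCat.of Ω))) ∈ Set.range j.base := by
    refine ⟨(xl ≫ V.unop.hom) (default : ↥(Spec (CommRingCat.of Ω))), ?_⟩
    have := congrArg (fun (m : Spec (CommRingCat.of Ω) ⟶ X) =>
      m (default : ↥(Spec (CommRingCat.of Ω)))) hxl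
    exact (Scheme.Hom.comp_apply _ _ _).symm.trans this
  exact hξ ⟨default, rfl⟩ h1

variable [IsOpenImmersion j]

theorem isIso_restr_counit (G : EtCoh.Ab X) :
    IsIso ((EtShriek.restrAlong j).map ((EtShriek.extZeroAdj j).counit.app G)) := by
  haveI := isIso_unit_extZero j
  have h4 := (EtShriek.extZeroAdj j).right_triangle_components G
  haveI : IsIso ((EtShriek.extZeroAdj j).unit.app ((EtShriek.restrAlong j).obj G) ≫
      (EtShriek.restrAlong j).map ((EtShriek.extZeroAdj j).counit.app G)) := by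
    rw [h4]; exact IsIso.id _
  exact IsIso.of_isIso_comp_left
    ((EtShriek.extZeroAdj j).unit.app ((EtShriek.restrAlong j).obj G)) _

theorem isIso_stalk_counit (G : EtCoh.Ab X) {Ω : Type u} [Field Ω] [IsSepClosed Ω]
    (v : Spec (CommRingCat.of Ω) ⟶ U) :
    IsIso ((EtCoh.stalk (v ≫ j)).map ((EtShriek.extZeroAdj j).counit.app G)) := by
  haveI := isIso_restr_counit j G
  haveI : IsIso ((EtShriek.restrAlong j ⋙ EtCoh.stalk v).map
      ((EtShriek.extZeroAdj j).counit.app G)) := by
    show IsIso ((EtCoh.stalk v).map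
      ((EtShriek.restrAlong j).map ((EtShriek.extZeroAdj j).counit.app G)))
    infer_instance
  exact (NatIso.isIso_map_iff (restrStalkIso j v) _).1 inferInstance

omit [EtShriek.JCont j] hj in
theorem exists_lift_open {Ω : Type u} [Field Ω] (ξ : Spec (CommRingCat.of Ω) ⟶ X)
    (h : ξ (default : ↥(Spec (CommRingCat.of Ω))) ∈ Set.range j) :
    ∃ v : Spec (CommRingCat.of Ω) ⟶ U, v ≫ j = ξ := by
  have hr : Set.range ξ ⊆ Set.range j := by
    rintro _ ⟨a, rfl⟩
    rw [Subsingleton.elim a default]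
    exact h
  exact ⟨IsOpenImmersion.lift j ξ hr, IsOpenImmersion.lift_fac _ _ _⟩

theorem isIso_counit_of_vanish (G : EtCoh.Ab X)
    (hzero : ∀ (Ω : Type u) [Field Ω] [IsSepClosed Ω] (ξ : Spec (CommRingCat.of Ω) ⟶ X),
      Set.range ξ.base ⊆ (Set.range j.base)ᶜ → IsZero ((EtCoh.stalk ξ).obj G)) :
    IsIso ((EtShriek.extZeroAdj j).counit.app G) := by
  have hstalk : ∀ (Ω : Type u) [Field Ω] [IsSepClosed Ω] (ξ : Spec (CommRingCat.of Ω) ⟶ X),
      Function.Bijective ((EtCoh.stalk ξ).map ((EtShriek.extZeroAdj j).counit.app G)) := by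
    intro Ω _ _ ξ
    by_cases hmem : ξ (default : ↥(Spec (CommRingCat.of Ω))) ∈ Set.range j
    · obtain ⟨v, rfl⟩ := exists_lift_open j ξ hmem
      haveI := isIso_stalk_counit j G v
      exact ConcreteCategory.bijective_of_isIso _
    · have hsub : Set.range ξ.base ⊆ (Set.range j.base)ᶜ := by
        rintro _ ⟨a, rfl⟩ h
        rw [Subsingleton.elim a default] at h
        exact hmem h
      have h1 := isZero_stalk_extZero j ((EtShriek.restrAlong j).obj G) ξ hsub
      have h2 := hzero Ω ξ hsub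
      haveI s1 : Subsingleton ↑((EtCoh.stalk ξ).obj
          ((EtShriek.restrAlong j ⋙ EtShriek.extZero j).obj G)) :=
        AddCommGrpCat.subsingleton_of_isZero h1
      haveI s2 : Subsingleton ↑((EtCoh.stalk ξ).obj ((𝟭 (EtCoh.Ab X)).obj G)) :=
        AddCommGrpCat.subsingleton_of_isZero h2
      exact ⟨fun a b _ => Subsingleton.elim a b, fun b => ⟨0, Subsingleton.elim _ _⟩⟩
  haveI : Mono ((EtShriek.extZeroAdj j).counit.app G) :=
    (mono_iff _).2 (fun Ω _ _ ξ => (hstalk Ω ξ).1)
  haveI : Epi ((EtShriek.extZeroAdj j).counit.app G) :=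
    (epi_iff _).2 (fun Ω _ _ ξ => (hstalk Ω ξ).2)
  exact isIso_of_mono_of_epi _

end Open2

section Recollement

open Groth.Agent.Lib.EtPushClosed_helper7 Groth.Agent.Lib.EtClosedPush_helper7

variable {Z U X : Scheme.{u}} (i : Z ⟶ X) [IsClosedImmersion i]

theorem isIso_stalk_unit (F : EtCoh.Ab X) {Ω : Type u} [Field Ω] [IsSepClosed Ω]
    (ζ : Spec (CommRingCat.of Ω) ⟶ Z) :
    IsIso ((EtCoh.stalk (ζ ≫ i)).map ((EtCoh.pullPushAdj i).unit.app F)) := by
  haveI : IsIso ((EtCoh.pull i).map ((EtCoh.pullPushAdj i).unit.app F)) := by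
    have h4 := (EtCoh.pullPushAdj i).left_triangle_components F
    haveI := isIso_counit i ((EtCoh.pull i).obj F)
    haveI : IsIso ((EtCoh.pull i).map ((EtCoh.pullPushAdj i).unit.app F) ≫
        (EtCoh.pullPushAdj i).counit.app ((EtCoh.pull i).obj F)) := by
      rw [h4]; exact IsIso.id _
    exact IsIso.of_isIso_comp_right _
      ((EtCoh.pullPushAdj i).counit.app ((EtCoh.pull i).obj F))
  haveI : IsIso ((EtCoh.pull i ⋙ EtCoh.stalk ζ).map ((EtCoh.pullPushAdj i).unit.app F)) := by
    show IsIso ((EtCoh.stalk ζ).map ((EtCoh.pull i).map ((EtCoh.pullPushAdj i).unit.app F)))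
    infer_instance
  exact (NatIso.isIso_map_iff (EtStalkPull.stalkPullIso i ζ) _).1 inferInstance

variable (j : U ⟶ X) [hj : Etale j] [EtShriek.JCont j]

theorem counit_unit_zero (hji : Disjoint (Set.range j.base) (Set.range i.base)) (F : EtCoh.Ab X) :
    (EtShriek.extZeroAdj j).counit.app F ≫ (EtCoh.pullPushAdj i).unit.app F = 0 := by
  apply ((EtShriek.extZeroAdj j).homEquiv _ _).injective
  apply Sheaf.hom_ext
  apply NatTrans.ext
  funext V
  haveI : IsEmpty ((EtCoh.bc i).obj ((EtShriek.compEtale j).obj V.unop)).left := by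
    show IsEmpty ↥(pullback (V.unop.hom ≫ j) i)
    rw [Scheme.isEmpty_pullback_iff, Set.disjoint_left]
    rintro _ ⟨v, rfl⟩ hv
    have h2 : (V.unop.hom ≫ j) v = j (V.unop.hom v) := Scheme.Hom.comp_apply _ _ _
    have hv' : (V.unop.hom ≫ j) v ∈ Set.range i := hv
    rw [h2] at hv'
    exact Set.disjoint_left.1 hji ⟨_, rfl⟩ hv'
  apply AddCommGrpCat.hom_ext
  apply AddMonoidHom.ext
  intro a
  exact (eq_zero_of_isEmpty ((EtCoh.pull i).obj F)
      ((EtCoh.bc i).obj ((EtShriek.compEtale j).obj V.unop)) _).trans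
    (eq_zero_of_isEmpty ((EtCoh.pull i).obj F)
      ((EtCoh.bc i).obj ((EtShriek.compEtale j).obj V.unop)) _).symm

variable [IsOpenImmersion j]

theorem shortExact_recollement (hji : Set.range j.base = (Set.range i.base)ᶜ) (F : EtCoh.Ab X) :
    ∃ w : (EtShriek.extZeroAdj j).counit.app F ≫ (EtCoh.pullPushAdj i).unit.app F = 0,
      (ShortComplex.mk _ _ w).ShortExact := by
  have hdisj : Disjoint (Set.range j.base) (Set.range i.base) := by
    rw [hji]; exact disjoint_compl_left
  refine ⟨counit_unit_zero i j hdisj F, ?_⟩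
  -- stalkwise description
  have hin : ∀ (Ω : Type u) [Field Ω] [IsSepClosed Ω] (ξ : Spec (CommRingCat.of Ω) ⟶ X),
      ξ (default : ↥(Spec (CommRingCat.of Ω))) ∈ Set.range i →
      IsZero ((EtCoh.stalk ξ).obj ((EtShriek.restrAlong j ⋙ EtShriek.extZero j).obj F)) ∧
      IsIso ((EtCoh.stalk ξ).map ((EtCoh.pullPushAdj i).unit.app F)) := by
    intro Ω _ _ ξ hmem
    have hsub : Set.range ξ.base ⊆ (Set.range j.base)ᶜ := by
      rintro _ ⟨a, rfl⟩ h
      rw [Subsingleton.elim a default] at h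
      rw [hji] at h
      exact h hmem
    refine ⟨isZero_stalk_extZero j ((EtShriek.restrAlong j).obj F) ξ hsub, ?_⟩
    obtain ⟨ζ, rfl⟩ := exists_lift_of_mem_range i ξ hmem
    exact isIso_stalk_unit i F ζ
  have hout : ∀ (Ω : Type u) [Field Ω] [IsSepClosed Ω] (ξ : Spec (CommRingCat.of Ω) ⟶ X),
      ξ (default : ↥(Spec (CommRingCat.of Ω))) ∉ Set.range i →
      IsZero ((EtCoh.stalk ξ).obj ((EtCoh.pull i ⋙ EtCoh.push i).obj F)) ∧
      IsIso ((EtCoh.stalk ξ).map ((EtShriek.extZeroAdj j).counit.app F)) := by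
    intro Ω _ _ ξ hmem
    have hdis : Disjoint (Set.range ξ.base) (Set.range i.base) := by
      rw [Set.disjoint_left]
      rintro _ ⟨a, rfl⟩ h
      rw [Subsingleton.elim a default] at h
      exact hmem h
    refine ⟨isZero_stalk_push i ((EtCoh.pull i).obj F) ξ hdis, ?_⟩
    have hmem' : ξ (default : ↥(Spec (CommRingCat.of Ω))) ∈ Set.range j := by
      show ξ (default : ↥(Spec (CommRingCat.of Ω))) ∈ Set.range j.base
      rw [hji]; exact hmem
    obtain ⟨v, rfl⟩ := exists_lift_open j ξ hmem'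
    exact isIso_stalk_counit j F v
  refine ShortComplex.ShortExact.mk' ?_ ?_ ?_
  · refine (exact_iff _).2 (fun Ω _ _ ξ => ?_)
    by_cases hmem : ξ (default : ↥(Spec (CommRingCat.of Ω))) ∈ Set.range i
    · obtain ⟨h0, hiso⟩ := hin Ω ξ hmem
      refine (ShortComplex.exact_iff_mono _ (h0.eq_of_src _ _)).2 ?_
      show Mono ((EtCoh.stalk ξ).map ((EtCoh.pullPushAdj i).unit.app F))
      infer_instance
    · obtain ⟨h0, hiso⟩ := hout Ω ξ hmem
      refine (ShortComplex.exact_iff_epi _ (h0.eq_of_tgt _ _)).2 ?_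
      show Epi ((EtCoh.stalk ξ).map ((EtShriek.extZeroAdj j).counit.app F))
      infer_instance
  · refine (mono_iff _).2 (fun Ω _ _ ξ => ?_)
    by_cases hmem : ξ (default : ↥(Spec (CommRingCat.of Ω))) ∈ Set.range i
    · obtain ⟨h0, hiso⟩ := hin Ω ξ hmem
      haveI : Subsingleton ↑((EtCoh.stalk ξ).obj
          ((EtShriek.restrAlong j ⋙ EtShriek.extZero j).obj F)) :=
        AddCommGrpCat.subsingleton_of_isZero h0
      exact Function.injective_of_subsingleton _
    · obtain ⟨h0, hiso⟩ := hout Ω ξ hmem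
      exact (ConcreteCategory.bijective_of_isIso _).1
  · refine (epi_iff _).2 (fun Ω _ _ ξ => ?_)
    by_cases hmem : ξ (default : ↥(Spec (CommRingCat.of Ω))) ∈ Set.range i
    · obtain ⟨h0, hiso⟩ := hin Ω ξ hmem
      exact (ConcreteCategory.bijective_of_isIso _).2
    · obtain ⟨h0, hiso⟩ := hout Ω ξ hmem
      haveI : Subsingleton ↑((EtCoh.stalk ξ).obj ((EtCoh.pull i ⋙ EtCoh.push i).obj F)) :=
        AddCommGrpCat.subsingleton_of_isZero h0
      exact fun b => ⟨0, Subsingleton.elim _ _⟩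

end Recollement

end Groth.Agent.Lib.EtOpenShriek_helper7
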