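import Mathlib
import Groth.Prelude.Def_EtShriek2
import Groth.Agent.Lib.EtOpenShriek_helper7

/-!
# Stalks of the extension by zero along an étale morphism (helper7)

`(j_! F)_ξ ≅ ∐_{v ↦ ξ} F_v`, naturally in `F`; exactness of `j_!`.
-/

set_option autoImplicit false
set_option backward.isDefEq.respectTransparency false
universe u
open CategoryTheory CategoryTheory.Limits AlgebraicGeometry Opposite

namespace Groth.Agent.Lib.EtShriekStalk_helper7

open Groth.Agent.Lib.EtSchExact_helper7

section Fib

variable {Ω : Type u} [Field Ω] [IsSepClosed Ω] {S : Scheme.{u}}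
  {s : Spec (CommRingCat.of Ω) ⟶ S} {V V' : S.Etale}

/-- The underlying morphism of an element of the fibre of a geometric point. -/
noncomputable def fibLeft (y : (Scheme.pointSmallEtale s).fiber.obj V) : Spec (CommRingCat.of Ω) ⟶ V.left :=
  y.left

theorem fibLeft_w (y : (Scheme.pointSmallEtale s).fiber.obj V) : fibLeft y ≫ V.hom = s :=
  Over.w y

/-- Constructor for elements of the fibre of a geometric point. -/
noncomputable def fibMk (l : Spec (CommRingCat.of Ω) ⟶ V.left) (hl : l ≫ V.hom = s) :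
    (Scheme.pointSmallEtale s).fiber.obj V :=
  Over.homMk l hl

theorem fib_ext (y y' : (Scheme.pointSmallEtale s).fiber.obj V) (h : fibLeft y = fibLeft y') :
    y = y' :=
  Over.OverMorphism.ext h

theorem fibMk_fibLeft (y : (Scheme.pointSmallEtale s).fiber.obj V) :
    fibMk (fibLeft y) (fibLeft_w y) = y :=
  fib_ext _ _ rfl

theorem fibLeft_fibMk (l : Spec (CommRingCat.of Ω) ⟶ V.left) (hl : l ≫ V.hom = s) :
    fibLeft (fibMk l hl) = l := rfl

theorem fibLeft_map (f : V ⟶ V') (y : (Scheme.pointSmallEtale s).fiber.obj V) :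
    fibLeft ((Scheme.pointSmallEtale s).fiber.map f y) = fibLeft y ≫ f.left := rfl

end Fib

theorem mono_sigma_map {J : Type u} (A B : J → AddCommGrpCat.{u + 1}) (f : ∀ j, A j ⟶ B j)
    [∀ j, Mono (f j)] : Mono (Limits.Sigma.map f) := by
  haveI : AB4OfSize.{u} AddCommGrpCat.{u + 1} := AB4.of_AB5 _
  haveI : HasExactColimitsOfShape (Discrete J) AddCommGrpCat.{u + 1} := AB4OfSize.ofShape J
  haveI : ∀ d : Discrete J, Mono ((Discrete.natTrans (fun d : Discrete J => f d.as) :
      Discrete.functor A ⟶ Discrete.functor B).app d) := fun d => by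
    dsimp; infer_instance
  haveI : Mono (Discrete.natTrans (fun d : Discrete J => f d.as) :
      Discrete.functor A ⟶ Discrete.functor B) := NatTrans.mono_of_mono_app _
  show Mono (colim.map (Discrete.natTrans (fun d : Discrete J => f d.as) :
      Discrete.functor A ⟶ Discrete.functor B))
  infer_instance

variable {U X : Scheme.{u}} (j : U ⟶ X) [hj : Etale j] [EtShriek.JCont j]
variable {Ω : Type u} [Field Ω] [IsSepClosed Ω] (ξ : Spec (CommRingCat.of Ω) ⟶ X)

/-- Geometric points of `U` above `ξ`. -/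
abbrev Lift : Type u := {v : Spec (CommRingCat.of Ω) ⟶ U // v ≫ j = ξ}

/-- An element of the fibre at `v` gives one at `ξ`. -/
noncomputable def incl (v : Lift j ξ) (V : U.Etale)
    (y : (Scheme.pointSmallEtale v.1).fiber.obj V) :
    (Scheme.pointSmallEtale ξ).fiber.obj ((EtShriek.compEtale j).obj V) :=
  fibMk (S := X) (s := ξ) (V := (EtShriek.compEtale j).obj V)
    (fibLeft (S := U) (s := v.1) (V := V) y) (by
    show fibLeft (S := U) (s := v.1) (V := V) y ≫ V.hom ≫ j = ξ
    rw [← Category.assoc, fibLeft_w, v.2])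

/-- The lift of `ξ` determined by an element of its fibre over `V → U → X`. -/
noncomputable def liftOf (V : U.Etale)
    (x : (Scheme.pointSmallEtale ξ).fiber.obj ((EtShriek.compEtale j).obj V)) : Lift j ξ :=
  ⟨fibLeft (S := X) (s := ξ) (V := (EtShriek.compEtale j).obj V) x ≫ V.hom, by
    rw [Category.assoc]
    exact fibLeft_w (S := X) (s := ξ) (V := (EtShriek.compEtale j).obj V) x⟩

/-- The corresponding element of the fibre. -/
noncomputable def fibOf (V : U.Etale)
    (x : (Scheme.pointSmallEtale ξ).fiber.obj ((EtShriek.compEtale j).obj V)) :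
    (Scheme.pointSmallEtale (liftOf j ξ V x).1).fiber.obj V :=
  fibMk (S := U) (s := (liftOf j ξ V x).1) (V := V)
    (fibLeft (S := X) (s := ξ) (V := (EtShriek.compEtale j).obj V) x) rfl

theorem incl_fibOf (V : U.Etale)
    (x : (Scheme.pointSmallEtale ξ).fiber.obj ((EtShriek.compEtale j).obj V)) :
    incl j ξ (liftOf j ξ V x) V (fibOf j ξ V x) = x :=
  fib_ext _ _ rfl

theorem dep_eq {T : Sort*} (V : U.Etale)
    (c : (v : Lift j ξ) → (Scheme.pointSmallEtale v.1).fiber.obj V → T) (v : Lift j ξ)
    (y : (Scheme.pointSmallEtale v.1).fiber.obj V) :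
    c (liftOf j ξ V (incl j ξ v V y)) (fibOf j ξ V (incl j ξ v V y)) = c v y := by
  obtain ⟨v1, hv⟩ := v
  obtain ⟨l, hl, rfl⟩ : ∃ (l : Spec (CommRingCat.of Ω) ⟶ V.left) (hl : l ≫ V.hom = v1),
      y = fibMk l hl := ⟨fibLeft y, fibLeft_w y, (fibMk_fibLeft y).symm⟩
  subst hl
  rfl

theorem incl_map (v : Lift j ξ) {V V' : U.Etale} (f : V ⟶ V')
    (y : (Scheme.pointSmallEtale v.1).fiber.obj V) :
    (Scheme.pointSmallEtale ξ).fiber.map ((EtShriek.compEtale j).map f) (incl j ξ v V y) =
      incl j ξ v V' ((Scheme.pointSmallEtale v.1).fiber.map f y) :=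
  fib_ext _ _ rfl

variable (F : EtCoh.Ab U)

/-- The map from sections of `F` to the stalk of `j_! F`. -/
noncomputable def b (V : U.Etale)
    (x : (Scheme.pointSmallEtale ξ).fiber.obj ((EtShriek.compEtale j).obj V)) :
    F.obj.obj (op V) ⟶ (EtCoh.stalk ξ).obj ((EtShriek.extZero j).obj F) :=
  ((EtShriek.extZeroAdj j).unit.app F).hom.app (op V) ≫
    (Scheme.pointSmallEtale ξ).toPresheafFiber ((EtShriek.compEtale j).obj V) x
      ((EtShriek.extZero j).obj F).obj

theorem b_w {V V' : U.Etale} (f : V ⟶ V')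
    (x : (Scheme.pointSmallEtale ξ).fiber.obj ((EtShriek.compEtale j).obj V)) :
    F.obj.map f.op ≫ b j ξ F V x =
      b j ξ F V' ((Scheme.pointSmallEtale ξ).fiber.map ((EtShriek.compEtale j).map f) x) := by
  have h1 := ((EtShriek.extZeroAdj j).unit.app F).hom.naturality f.op
  have h2 := (Scheme.pointSmallEtale ξ).toPresheafFiber_w ((EtShriek.compEtale j).map f) x
    ((EtShriek.extZero j).obj F).obj
  exact (Category.assoc _ _ _).symm.trans
    ((congrArg (fun m => m ≫ (Scheme.pointSmallEtale ξ).toPresheafFiber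
      ((EtShriek.compEtale j).obj V) x ((EtShriek.extZero j).obj F).obj) h1).trans
    ((Category.assoc _ _ _).trans
      (congrArg (fun m => ((EtShriek.extZeroAdj j).unit.app F).hom.app (op V') ≫ m) h2)))

theorem b_nat {F G : EtCoh.Ab U} (α : F ⟶ G) (V : U.Etale)
    (x : (Scheme.pointSmallEtale ξ).fiber.obj ((EtShriek.compEtale j).obj V)) :
    b j ξ F V x ≫ (EtCoh.stalk ξ).map ((EtShriek.extZero j).map α) =
      α.hom.app (op V) ≫ b j ξ G V x := by
  have h1 := (Scheme.pointSmallEtale ξ).toPresheafFiber_naturality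
    ((EtShriek.extZero j).map α).hom ((EtShriek.compEtale j).obj V) x
  have h2 := congrArg (fun m => m.hom.app (op V)) ((EtShriek.extZeroAdj j).unit.naturality α)
  exact (Category.assoc _ _ _).trans
    ((congrArg (fun m => ((EtShriek.extZeroAdj j).unit.app F).hom.app (op V) ≫ m) h1).trans
    ((Category.assoc _ _ _).symm.trans
      ((congrArg (fun m => m ≫ (Scheme.pointSmallEtale ξ).toPresheafFiber
        ((EtShriek.compEtale j).obj V) x ((EtShriek.extZero j).obj G).obj) h2.symm).trans
      (Category.assoc _ _ _))))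

/-- The map `F_v ⟶ (j_! F)_ξ`. -/
noncomputable def a (v : Lift j ξ) :
    (EtCoh.stalk v.1).obj F ⟶ (EtCoh.stalk ξ).obj ((EtShriek.extZero j).obj F) :=
  (Scheme.pointSmallEtale v.1).presheafFiberDesc (P := F.obj)
    (fun V y => b j ξ F V (incl j ξ v V y))
    (fun V V' f y => (b_w j ξ F f (incl j ξ v V y)).trans
      (congrArg (b j ξ F V') (incl_map j ξ v f y)))

theorem toPF_a (v : Lift j ξ) (V : U.Etale) (y : (Scheme.pointSmallEtale v.1).fiber.obj V) :
    (Scheme.pointSmallEtale v.1).toPresheafFiber V y F.obj ≫ a j ξ F v =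
      b j ξ F V (incl j ξ v V y) :=
  (Scheme.pointSmallEtale v.1).toPresheafFiber_presheafFiberDesc _ _ V y

/-- The adjunction bijection. -/
noncomputable def e1 (M : AddCommGrpCat.{u + 1}) :
    ((EtCoh.stalk ξ).obj ((EtShriek.extZero j).obj F) ⟶ M) ≃
      (F ⟶ (EtShriek.restrAlong j).obj ((Scheme.pointSmallEtale ξ).skyscraperSheaf M)) :=
  (((Scheme.pointSmallEtale ξ).skyscraperSheafAdjunction
    (A := AddCommGrpCat.{u + 1})).homEquiv _ M).trans ((EtShriek.extZeroAdj j).homEquiv F _)

theorem e1_π (M : AddCommGrpCat.{u + 1})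
    (h : (EtCoh.stalk ξ).obj ((EtShriek.extZero j).obj F) ⟶ M) (V : U.Etale)
    (x : (Scheme.pointSmallEtale ξ).fiber.obj ((EtShriek.compEtale j).obj V)) :
    (e1 j ξ F M h).hom.app (op V) ≫
      Pi.π (fun _ : (Scheme.pointSmallEtale ξ).fiber.obj ((EtShriek.compEtale j).obj V) => M) x =
      b j ξ F V x ≫ h := by
  have h0 : e1 j ξ F M h = (EtShriek.extZeroAdj j).unit.app F ≫
      (EtShriek.restrAlong j).map (((Scheme.pointSmallEtale ξ).skyscraperSheafAdjunction
        (A := AddCommGrpCat.{u + 1})).homEquiv _ M h) :=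
    show (EtShriek.extZeroAdj j).homEquiv F _ (((Scheme.pointSmallEtale ξ).skyscraperSheafAdjunction
        (A := AddCommGrpCat.{u + 1})).homEquiv _ M h) = _ from Adjunction.homEquiv_unit _ _ _ _
  have h1 := (Scheme.pointSmallEtale ξ).skyscraperPresheafHomEquiv_app_π
    (P := ((EtShriek.extZero j).obj F).obj) h ((EtShriek.compEtale j).obj V) x
  have h2 : (((Scheme.pointSmallEtale ξ).skyscraperSheafAdjunction
      (A := AddCommGrpCat.{u + 1})).homEquiv ((EtShriek.extZero j).obj F) M h).hom =
      (Scheme.pointSmallEtale ξ).skyscraperPresheafHomEquiv h :=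
    (Scheme.pointSmallEtale ξ).skyscraperSheafAdjunction_homEquiv_apply_hom h
  have h3 : (((Scheme.pointSmallEtale ξ).skyscraperSheafAdjunction
      (A := AddCommGrpCat.{u + 1})).homEquiv ((EtShriek.extZero j).obj F) M h).hom.app
        (op ((EtShriek.compEtale j).obj V)) ≫
      Pi.π (fun _ : (Scheme.pointSmallEtale ξ).fiber.obj ((EtShriek.compEtale j).obj V) => M) x =
      (Scheme.pointSmallEtale ξ).toPresheafFiber ((EtShriek.compEtale j).obj V) x
        ((EtShriek.extZero j).obj F).obj ≫ h :=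
    (congrArg (fun (m : ((EtShriek.extZero j).obj F).obj ⟶
        (Scheme.pointSmallEtale ξ).skyscraperPresheaf M) =>
      m.app (op ((EtShriek.compEtale j).obj V)) ≫
        Pi.π (fun _ : (Scheme.pointSmallEtale ξ).fiber.obj
          ((EtShriek.compEtale j).obj V) => M) x) h2).trans h1
  rw [h0]
  exact (Category.assoc _ _ _).trans
    ((congrArg (fun m => ((EtShriek.extZeroAdj j).unit.app F).hom.app (op V) ≫ m) h3).trans
      (Category.assoc _ _ _).symm)

/-- The comparison map `∐_v F_v ⟶ (j_! F)_ξ`. -/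
noncomputable def sigmaToStalk :
    (∐ fun v : Lift j ξ => (EtCoh.stalk v.1).obj F) ⟶
      (EtCoh.stalk ξ).obj ((EtShriek.extZero j).obj F) :=
  Sigma.desc (a j ξ F)

theorem isIso_sigmaToStalk : IsIso (sigmaToStalk j ξ F) := by
  rw [isIso_iff_coyoneda_map_bijective]
  intro M
  constructor
  · intro h h' hh
    have hh' : sigmaToStalk j ξ F ≫ h = sigmaToStalk j ξ F ≫ h' := hh
    apply (e1 j ξ F M).injective
    apply Sheaf.hom_ext
    apply NatTrans.ext
    funext V
    apply Pi.hom_ext
    intro x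
    refine (e1_π j ξ F M h V.unop x).trans (Eq.trans ?_ (e1_π j ξ F M h' V.unop x).symm)
    have hv : a j ξ F (liftOf j ξ V.unop x) ≫ h = a j ξ F (liftOf j ξ V.unop x) ≫ h' := by
      have := congrArg (fun m => Sigma.ι (fun v : Lift j ξ => (EtCoh.stalk v.1).obj F)
        (liftOf j ξ V.unop x) ≫ m) hh'
      simpa [sigmaToStalk] using this
    have hb : b j ξ F V.unop x = (Scheme.pointSmallEtale (liftOf j ξ V.unop x).1).toPresheafFiber
        V.unop (fibOf j ξ V.unop x) F.obj ≫ a j ξ F (liftOf j ξ V.unop x) := by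
      rw [toPF_a, incl_fibOf]
    rw [hb, Category.assoc, Category.assoc, hv]
  · intro t
    let c : ∀ (V : U.Etale) (v : Lift j ξ), (Scheme.pointSmallEtale v.1).fiber.obj V →
        (F.obj.obj (op V) ⟶ M) := fun V v y =>
      (Scheme.pointSmallEtale v.1).toPresheafFiber V y F.obj ≫
        Sigma.ι (fun v : Lift j ξ => (EtCoh.stalk v.1).obj F) v ≫ t
    have hc : ∀ {V V' : U.Etale} (f : V ⟶ V') (v : Lift j ξ)
        (y : (Scheme.pointSmallEtale v.1).fiber.obj V),
        F.obj.map f.op ≫ c V v y = c V' v ((Scheme.pointSmallEtale v.1).fiber.map f y) := by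
      intro V V' f v y
      exact (Scheme.pointSmallEtale v.1).toPresheafFiber_w_assoc f y F.obj _
    let k : F ⟶ (EtShriek.restrAlong j).obj ((Scheme.pointSmallEtale ξ).skyscraperSheaf M) :=
      ⟨{ app := fun V => Pi.lift (fun x => c V.unop (liftOf j ξ V.unop x) (fibOf j ξ V.unop x))
         naturality := by
          intro V V' g
          apply Pi.hom_ext
          intro x'
          have e := Pi.map'_comp_π
            (f := fun _ : (Scheme.pointSmallEtale ξ).fiber.obj
              ((EtShriek.compEtale j).obj V.unop) => M)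
            (g := fun _ : (Scheme.pointSmallEtale ξ).fiber.obj
              ((EtShriek.compEtale j).obj V'.unop) => M)
            ((Scheme.pointSmallEtale ξ).fiber.map ((EtShriek.compEtale j).map g.unop))
            (fun _ => 𝟙 M) x'
          have e2 : (Scheme.pointSmallEtale ξ).fiber.map ((EtShriek.compEtale j).map g.unop) x' =
              incl j ξ (liftOf j ξ V'.unop x') V.unop
                ((Scheme.pointSmallEtale (liftOf j ξ V'.unop x').1).fiber.map g.unop
                  (fibOf j ξ V'.unop x')) := fib_ext _ _ rfl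
          have lhs : (F.obj.map g ≫ Pi.lift (fun x => c V'.unop (liftOf j ξ V'.unop x)
              (fibOf j ξ V'.unop x))) ≫ Pi.π (fun _ : (Scheme.pointSmallEtale ξ).fiber.obj
              ((EtShriek.compEtale j).obj V'.unop) => M) x' =
              F.obj.map g ≫ c V'.unop (liftOf j ξ V'.unop x') (fibOf j ξ V'.unop x') := by
            rw [Category.assoc, Pi.lift_π]
          have rhs : (Pi.lift (fun x => c V.unop (liftOf j ξ V.unop x) (fibOf j ξ V.unop x)) ≫
              Pi.map' ((Scheme.pointSmallEtale ξ).fiber.map ((EtShriek.compEtale j).map g.unop))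
                (fun _ => 𝟙 M)) ≫ Pi.π (fun _ : (Scheme.pointSmallEtale ξ).fiber.obj
              ((EtShriek.compEtale j).obj V'.unop) => M) x' =
              c V.unop (liftOf j ξ V.unop ((Scheme.pointSmallEtale ξ).fiber.map
                ((EtShriek.compEtale j).map g.unop) x'))
                (fibOf j ξ V.unop ((Scheme.pointSmallEtale ξ).fiber.map
                ((EtShriek.compEtale j).map g.unop) x')) := by
            rw [Category.assoc, e, Category.comp_id, Pi.lift_π]
          refine lhs.trans (Eq.trans ?_ rhs.symm)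
          rw [e2]
          exact (hc g.unop _ _).trans (dep_eq j ξ V.unop (c V.unop) _ _).symm }⟩
    refine ⟨(e1 j ξ F M).symm k, ?_⟩
    show sigmaToStalk j ξ F ≫ (e1 j ξ F M).symm k = t
    apply Sigma.hom_ext
    intro v
    apply (Scheme.pointSmallEtale v.1).presheafFiber_hom_ext
    intro V y
    have h3 : Sigma.ι (fun v : Lift j ξ => (EtCoh.stalk v.1).obj F) v ≫ sigmaToStalk j ξ F ≫
        (e1 j ξ F M).symm k = a j ξ F v ≫ (e1 j ξ F M).symm k := by
      simp [sigmaToStalk]
    have h4 : (Scheme.pointSmallEtale v.1).toPresheafFiber V y F.obj ≫ a j ξ F v ≫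
        (e1 j ξ F M).symm k = c V v y := by
      have h5 := e1_π j ξ F M ((e1 j ξ F M).symm k) V (incl j ξ v V y)
      rw [Equiv.apply_symm_apply] at h5
      have h6 : k.hom.app (op V) ≫ Pi.π (fun _ : (Scheme.pointSmallEtale ξ).fiber.obj
          ((EtShriek.compEtale j).obj V) => M) (incl j ξ v V y) =
          c V (liftOf j ξ V (incl j ξ v V y)) (fibOf j ξ V (incl j ξ v V y)) := Pi.lift_π _ _
      rw [← Category.assoc, toPF_a, ← h5, h6]
      exact dep_eq j ξ V (c V) v y
    exact (congrArg (fun m => (Scheme.pointSmallEtale v.1).toPresheafFiber V y F.obj ≫ m) h3).trans h4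

theorem sigmaToStalk_naturality {F G : EtCoh.Ab U} (α : F ⟶ G) :
    Limits.Sigma.map (fun v : Lift j ξ => (EtCoh.stalk v.1).map α) ≫ sigmaToStalk j ξ G =
      sigmaToStalk j ξ F ≫ (EtCoh.stalk ξ).map ((EtShriek.extZero j).map α) := by
  apply Sigma.hom_ext
  intro v
  have h3 : Sigma.ι (fun v : Lift j ξ => (EtCoh.stalk v.1).obj F) v ≫
      Limits.Sigma.map (fun v : Lift j ξ => (EtCoh.stalk v.1).map α) ≫ sigmaToStalk j ξ G =
      (EtCoh.stalk v.1).map α ≫ a j ξ G v := by
    simp [sigmaToStalk]
  have h4 : Sigma.ι (fun v : Lift j ξ => (EtCoh.stalk v.1).obj F) v ≫ sigmaToStalk j ξ F ≫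
      (EtCoh.stalk ξ).map ((EtShriek.extZero j).map α) =
      a j ξ F v ≫ (EtCoh.stalk ξ).map ((EtShriek.extZero j).map α) := by
    simp [sigmaToStalk]
  rw [h3, h4]
  apply (Scheme.pointSmallEtale v.1).presheafFiber_hom_ext
  intro V y
  have h5 := (Scheme.pointSmallEtale v.1).toPresheafFiber_naturality α.hom V y
  have lhs : (Scheme.pointSmallEtale v.1).toPresheafFiber V y F.obj ≫
      (EtCoh.stalk v.1).map α ≫ a j ξ G v =
      α.hom.app (op V) ≫ b j ξ G V (incl j ξ v V y) :=
    (Category.assoc _ _ _).symm.trans ((congrArg (fun m => m ≫ a j ξ G v) h5).trans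
      ((Category.assoc _ _ _).trans
        (congrArg (fun m => α.hom.app (op V) ≫ m) (toPF_a j ξ G v V y))))
  have rhs : (Scheme.pointSmallEtale v.1).toPresheafFiber V y F.obj ≫ a j ξ F v ≫
      (EtCoh.stalk ξ).map ((EtShriek.extZero j).map α) =
      α.hom.app (op V) ≫ b j ξ G V (incl j ξ v V y) :=
    (Category.assoc _ _ _).symm.trans
      ((congrArg (fun m => m ≫ (EtCoh.stalk ξ).map ((EtShriek.extZero j).map α))
        (toPF_a j ξ F v V y)).trans (b_nat j ξ α V _))
  exact lhs.trans rhs.symm

theorem mono_extZero_map {F G : EtCoh.Ab U} (α : F ⟶ G) [Mono α] :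
    Mono ((EtShriek.extZero j).map α) := by
  refine (mono_iff _).2 (fun Ω _ _ ξ => ?_)
  haveI := isIso_sigmaToStalk j ξ F
  haveI := isIso_sigmaToStalk j ξ G
  have hnat := sigmaToStalk_naturality j ξ α
  haveI : ∀ v : Lift j ξ, Mono ((EtCoh.stalk v.1).map α) := fun v => inferInstance
  haveI : Mono (Limits.Sigma.map (fun v : Lift j ξ => (EtCoh.stalk v.1).map α)) :=
    mono_sigma_map _ _ _
  have h2 : (EtCoh.stalk ξ).map ((EtShriek.extZero j).map α) =
      inv (sigmaToStalk j ξ F) ≫
        Limits.Sigma.map (fun v : Lift j ξ => (EtCoh.stalk v.1).map α) ≫ sigmaToStalk j ξ G := by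
    rw [hnat, IsIso.inv_hom_id_assoc]
  have : Mono ((EtCoh.stalk ξ).map ((EtShriek.extZero j).map α)) := by
    rw [h2]; infer_instance
  exact (AddCommGrpCat.mono_iff_injective _).1 this

theorem preservesFiniteLimits_extZero : PreservesFiniteLimits (EtShriek.extZero j) := by
  haveI : (EtShriek.extZero j).IsLeftAdjoint := (EtShriek.extZeroAdj j).isLeftAdjoint
  haveI : PreservesBinaryBiproducts (EtShriek.extZero j) :=
    preservesBinaryBiproducts_of_preservesBinaryCoproducts _
  haveI : (EtShriek.extZero j).Additive := Functor.additive_of_preservesBinaryBiproducts _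
  rw [Functor.preservesFiniteLimits_iff_forall_exact_map_and_mono]
  intro S hS
  haveI := hS.mono_f
  refine ⟨?_, mono_extZero_map j S.f⟩
  have h2 := (Functor.preservesFiniteColimits_iff_forall_exact_map_and_epi
    (EtShriek.extZero j)).1 inferInstance
  exact (h2 S hS).1

end Groth.Agent.Lib.EtShriekStalk_helper7
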