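import Mathlib
import Groth.Prelude.Def_EtShriek2
import Groth.Agent.Lib.EtShriekStalk_helper7
import Groth.Agent.Lib.EtPullExact_helper9

/-!
# `compEtale j` is continuous for every étale `j` (helper7)

`EtShriek.JCont j` holds for every étale morphism `j`; consequences: restriction to an étale
scheme and direct images preserve injective abelian sheaves.
-/

set_option autoImplicit false
set_option backward.isDefEq.respectTransparency false
universe u
open CategoryTheory CategoryTheory.Limits AlgebraicGeometry Opposite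

namespace Groth.Agent.Lib.EtJCont_helper7

variable {U X : Scheme.{u}}

theorem compatiblePreserving_compEtale (j : U ⟶ X) [hj : Etale j] :
    CompatiblePreserving X.smallEtaleTopology (EtShriek.compEtale j) where
  compatible {F Z T x hx Y₁ Y₂ W f₁ f₂ g₁ g₂ hg₁ hg₂ h} := by
    have hl : f₁.left ≫ g₁.left = f₂.left ≫ g₂.left :=
      congrArg (fun (m : W ⟶ (EtShriek.compEtale j).obj Z) => m.left) h
    have e1 : g₁.left ≫ Z.hom = Y₁.hom := MorphismProperty.Over.w g₁
    have e2 : g₂.left ≫ Z.hom = Y₂.hom := MorphismProperty.Over.w g₂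
    have e12 : f₂.left ≫ Y₂.hom = f₁.left ≫ Y₁.hom := by
      rw [← e1, ← e2, ← Category.assoc, ← Category.assoc, hl]
    have e : f₁.left ≫ Y₁.hom ≫ j = W.hom := MorphismProperty.Over.w f₁
    have hW : EtCoh.etaleMP ((f₁.left ≫ Y₁.hom) ≫ j) := by
      rw [Category.assoc, e]; exact W.prop
    let W' : U.Etale := MorphismProperty.Over.mk ⊤ (f₁.left ≫ Y₁.hom)
      (EtCoh.etaleMP.of_postcomp (W' := EtCoh.etaleMP) (f₁.left ≫ Y₁.hom) j hj hW)
    let g₁' : W' ⟶ Y₁ := MorphismProperty.Over.homMk f₁.left rfl trivial
    let g₂' : W' ⟶ Y₂ := MorphismProperty.Over.homMk f₂.left e12 trivial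
    let ε : (EtShriek.compEtale j).obj W' ≅ W := MorphismProperty.Over.isoMk (Iso.refl _)
      ((Category.id_comp W.hom).trans (e.symm.trans (Category.assoc _ _ _).symm))
    have hc : g₁' ≫ g₁ = g₂' ≫ g₂ := MorphismProperty.Over.Hom.ext hl
    have key := congrArg (F.obj.map ε.inv.op) (hx g₁' g₂' hg₁ hg₂ hc)
    have h1 : f₁ = ε.inv ≫ (EtShriek.compEtale j).map g₁' := by
      apply MorphismProperty.Over.Hom.ext
      show f₁.left = 𝟙 _ ≫ f₁.left
      rw [Category.id_comp]
    have h2 : f₂ = ε.inv ≫ (EtShriek.compEtale j).map g₂' := by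
      apply MorphismProperty.Over.Hom.ext
      show f₂.left = 𝟙 _ ≫ f₂.left
      rw [Category.id_comp]
    rw [h1, h2, op_comp, op_comp, Functor.map_comp, Functor.map_comp]
    exact key

instance jCont (j : U ⟶ X) [Etale j] : EtShriek.JCont j :=
  Functor.isContinuous_of_coverPreserving (compatiblePreserving_compEtale j)
    (EtShriek.coverPreserving_compEtale j)

open Groth.Agent.Lib.EtShriekStalk_helper7 Groth.Agent.Lib.EtOpenShriek_helper7 in
/-- Restriction to an étale scheme preserves injective abelian sheaves. -/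
theorem injective_pull_of_etale (j : U ⟶ X) [Etale j] (I : EtCoh.Ab X) [Injective I] :
    Injective ((EtCoh.pull j).obj I) := by
  haveI := preservesFiniteLimits_extZero j
  haveI : (EtShriek.extZero j).PreservesMonomorphisms := inferInstance
  haveI : Injective ((EtShriek.restrAlong j).obj I) :=
    Injective.injective_of_adjoint (EtShriek.extZeroAdj j) I
  exact Injective.of_iso ((restrIsoPull j).app I) inferInstance

open EtPullExact in
/-- Direct images preserve injective abelian sheaves. -/
theorem injective_push {Y : Scheme.{u}} (f : X ⟶ Y) (I : EtCoh.Ab X) [Injective I] :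
    Injective ((EtCoh.push f).obj I) := by
  haveI : PreservesFiniteLimits (EtCoh.pull f) := pull_pfl_ab f
  haveI : (EtCoh.pull f).PreservesMonomorphisms := inferInstance
  exact Injective.injective_of_adjoint (EtCoh.pullPushAdj f) I

theorem subsingleton_H_of_injective (I : EtCoh.Ab X) [Injective I] (q : ℕ) (hq : 1 ≤ q) :
    Subsingleton (EtCoh.H X I q) := by
  obtain ⟨n, rfl⟩ : ∃ n, q = n + 1 := ⟨q - 1, by omega⟩
  exact Abelian.Ext.subsingleton_of_injective _ I n

end Groth.Agent.Lib.EtJCont_helper7
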