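import Mathlib
import Groth.Prelude.Def_EtShriek2
import Groth.Prelude.Def_EtCore
import Groth.Agent.Lib.EtJCont_helper7
import Groth.Agent.Lib.EtSchSite_helper7

/-!
# Acyclic étale sheaves are flasque for open immersions (helper7)

* `fr U`: free abelian sheaf on a representable, `frEquiv : (fr U ⟶ G) ≃ G(U)`.
* injective sheaves are flasque for monomorphisms of the site.
* `surjective_sections_of_H1`: `I(W) → Q(W)` is onto if `H¹(W, F|_W) = 0`.
* gluing `U ⊔_V U` and the final statement.
-/

set_option autoImplicit false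
set_option backward.isDefEq.respectTransparency false
universe u
open CategoryTheory CategoryTheory.Limits AlgebraicGeometry Opposite

namespace Groth.Agent.Lib.EtFlasque_helper7

open Groth.Agent.Lib.EtSchSite_helper7 Groth.Agent.Lib.EtOpenShriek_helper7

variable {X : Scheme.{u}}

section Basic

theorem app_comp_apply {F G H : EtCoh.Ab X} (α : F ⟶ G) (β : G ⟶ H) (A : X.Etale)
    (s : F.obj.obj (op A)) :
    (α ≫ β).hom.app (op A) s = β.hom.app (op A) (α.hom.app (op A) s) := rfl

theorem app_map_apply {F G : EtCoh.Ab X} (α : F ⟶ G) {A B : X.Etale} (f : A ⟶ B)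
    (s : F.obj.obj (op B)) :
    α.hom.app (op A) (F.obj.map f.op s) = G.obj.map f.op (α.hom.app (op B) s) := by
  have := congrArg (fun ψ => ψ s) (congrArg AddCommGrpCat.Hom.hom (α.hom.naturality f.op))
  simp only [AddCommGrpCat.hom_comp, AddMonoidHom.coe_comp, Function.comp_apply] at this
  exact this

theorem map_id_apply (F : EtCoh.Ab X) (A : X.Etale) (s : F.obj.obj (op A)) :
    F.obj.map (𝟙 A).op s = s := by
  rw [op_id, F.obj.map_id]; rfl

theorem mono_of_left_mono {A B : X.Etale} (f : A ⟶ B) [Mono f.left] : Mono f :=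
  ⟨fun a b hab => MorphismProperty.Over.Hom.ext
    ((cancel_mono f.left).1 (congrArg (fun (m : _ ⟶ B) => m.left) hab))⟩

end Basic

section Free

/-- free abelian presheaf on a representable -/
noncomputable def frPre (U : X.Etale) : X.Etaleᵒᵖ ⥤ AddCommGrpCat.{u + 1} :=
  uliftYoneda.{u + 1}.obj U ⋙ AddCommGrpCat.free.{u + 1}

/-- free abelian sheaf on a representable -/
noncomputable def fr (U : X.Etale) : EtCoh.Ab X :=
  (presheafToSheaf X.smallEtaleTopology AddCommGrpCat.{u + 1}).obj (frPre U)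

/-- morphisms out of `fr U` are sections over `U` -/
noncomputable def frEquiv (U : X.Etale) (G : EtCoh.Ab X) : (fr U ⟶ G) ≃ G.obj.obj (op U) :=
  ((sheafificationAdjunction X.smallEtaleTopology AddCommGrpCat.{u + 1}).homEquiv (frPre U) G).trans
    (((Adjunction.whiskerRight X.Etaleᵒᵖ AddCommGrpCat.adj.{u + 1}).homEquiv
      (uliftYoneda.{u + 1}.obj U) G.obj).trans uliftYonedaEquiv.{u + 1})

theorem frEquiv_comp (U : X.Etale) {G G' : EtCoh.Ab X} (φ : fr U ⟶ G) (α : G ⟶ G') :
    frEquiv U G' (φ ≫ α) = α.hom.app (op U) (frEquiv U G φ) := by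
  simp only [frEquiv, Equiv.trans_apply, Adjunction.homEquiv_naturality_right,
    uliftYonedaEquiv_comp]
  rfl

/-- functoriality of `fr` -/
noncomputable def frMap {U V : X.Etale} (g : V ⟶ U) : fr V ⟶ fr U :=
  (presheafToSheaf X.smallEtaleTopology AddCommGrpCat.{u + 1}).map
    (Functor.whiskerRight (uliftYoneda.{u + 1}.map g) AddCommGrpCat.free.{u + 1})

theorem frEquiv_map {U V : X.Etale} (g : V ⟶ U) (G : EtCoh.Ab X) (χ : fr U ⟶ G) :
    frEquiv V G (frMap g ≫ χ) = G.obj.map g.op (frEquiv U G χ) := by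
  have h0 : (sheafificationAdjunction X.smallEtaleTopology AddCommGrpCat.{u + 1}).homEquiv
      (frPre V) G (frMap g ≫ χ) =
      Functor.whiskerRight (uliftYoneda.{u + 1}.map g) AddCommGrpCat.free.{u + 1} ≫
        (sheafificationAdjunction X.smallEtaleTopology AddCommGrpCat.{u + 1}).homEquiv
          (frPre U) G χ :=
    Adjunction.homEquiv_naturality_left _ _ _
  have h1 : (Adjunction.whiskerRight X.Etaleᵒᵖ AddCommGrpCat.adj.{u + 1}).homEquiv
      (uliftYoneda.{u + 1}.obj V) G.obj
      (Functor.whiskerRight (uliftYoneda.{u + 1}.map g) AddCommGrpCat.free.{u + 1} ≫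
        (sheafificationAdjunction X.smallEtaleTopology AddCommGrpCat.{u + 1}).homEquiv
          (frPre U) G χ) =
      uliftYoneda.{u + 1}.map g ≫
        (Adjunction.whiskerRight X.Etaleᵒᵖ AddCommGrpCat.adj.{u + 1}).homEquiv
          (uliftYoneda.{u + 1}.obj U) G.obj
          ((sheafificationAdjunction X.smallEtaleTopology AddCommGrpCat.{u + 1}).homEquiv
            (frPre U) G χ) :=
    Adjunction.homEquiv_naturality_left _ _ _
  refine (congrArg (fun m => uliftYonedaEquiv.{u + 1}
    ((Adjunction.whiskerRight X.Etaleᵒᵖ AddCommGrpCat.adj.{u + 1}).homEquiv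
      (uliftYoneda.{u + 1}.obj V) G.obj m)) h0).trans ?_
  refine (congrArg uliftYonedaEquiv.{u + 1} h1).trans ?_
  exact (uliftYonedaEquiv_naturality (X := op U) (Y := op V) _ g.op).symm

theorem mono_frMap {U V : X.Etale} (g : V ⟶ U) [Mono g] : Mono (frMap g) := by
  haveI : ∀ c, Mono ((Functor.whiskerRight (uliftYoneda.{u + 1}.map g)
      AddCommGrpCat.free.{u + 1}).app c) := by
    intro c
    haveI : Mono ((uliftYoneda.{u + 1}.map g).app c) := by
      rw [mono_iff_injective]
      rintro ⟨a⟩ ⟨b⟩ hab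
      have : a ≫ g = b ≫ g := congrArg ULift.down hab
      exact congrArg ULift.up ((cancel_mono g).1 this)
    exact AddCommGrpCat.free.{u + 1}.map_mono _
  haveI : Mono (Functor.whiskerRight (uliftYoneda.{u + 1}.map g) AddCommGrpCat.free.{u + 1}) :=
    NatTrans.mono_of_mono_app _
  exact (presheafToSheaf X.smallEtaleTopology AddCommGrpCat.{u + 1}).map_mono _

theorem zero_app_apply {F G : EtCoh.Ab X} (A : X.Etale) (s : F.obj.obj (op A)) :
    (0 : F ⟶ G).hom.app (op A) s = 0 := rfl

theorem frEquiv_zero (U : X.Etale) (G : EtCoh.Ab X) : frEquiv U G 0 = 0 := by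
  have h : (0 : fr U ⟶ G) = (0 : fr U ⟶ G) ≫ (0 : G ⟶ G) := by rw [comp_zero]
  rw [h, frEquiv_comp]
  exact zero_app_apply U _

/-- injective sheaves are flasque for monomorphisms of the site -/
theorem injective_flasque (I : EtCoh.Ab X) [Injective I] {U V : X.Etale} (g : V ⟶ U) [Mono g] :
    Function.Surjective (I.obj.map g.op) := by
  intro s
  haveI := mono_frMap g
  have hχ : frMap g ≫ Injective.factorThru ((frEquiv V I).symm s) (frMap g) =
      (frEquiv V I).symm s := Injective.comp_factorThru _ _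
  refine ⟨frEquiv U I (Injective.factorThru ((frEquiv V I).symm s) (frMap g)), ?_⟩
  rw [← frEquiv_map, hχ]
  exact Equiv.apply_symm_apply _ _

theorem sections_injective_of_mono {F G : EtCoh.Ab X} (ι : F ⟶ G) [Mono ι] (A : X.Etale) :
    Function.Injective (ι.hom.app (op A)) := by
  intro a a' h
  have h1 : (frEquiv A F).symm a ≫ ι = (frEquiv A F).symm a' ≫ ι := by
    apply (frEquiv A G).injective
    rw [frEquiv_comp, frEquiv_comp, Equiv.apply_symm_apply, Equiv.apply_symm_apply, h]
  exact (frEquiv A F).symm.injective ((cancel_mono ι).1 h1)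

theorem sections_exact (S : ShortComplex (EtCoh.Ab X)) (hS : S.ShortExact) (A : X.Etale)
    (r : S.X₂.obj.obj (op A)) (hr : S.g.hom.app (op A) r = 0) :
    ∃ a : S.X₁.obj.obj (op A), S.f.hom.app (op A) a = r := by
  have hφ : (frEquiv A S.X₂).symm r ≫ S.g = 0 := by
    apply (frEquiv A S.X₃).injective
    rw [frEquiv_comp, Equiv.apply_symm_apply, hr, frEquiv_zero]
  haveI := hS.mono_f
  obtain ⟨ψ, hψ⟩ := KernelFork.IsLimit.lift' hS.fIsKernel _ hφ
  refine ⟨frEquiv A S.X₁ ψ, ?_⟩
  have hψ' : ψ ≫ S.f = (frEquiv A S.X₂).symm r := hψ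
  rw [← frEquiv_comp, hψ']
  exact Equiv.apply_symm_apply _ _

end Free

section Surj

/-- morphisms out of the constant sheaf `ℤ` are global sections -/
noncomputable def Γhom {Y : Scheme.{u}} (G : EtCoh.Ab Y) :
    (EtCoh.const Y ℤ ⟶ G) ≃ G.obj.obj (op (EtCoh.top Y)) :=
  ((EtCore.constAdj Y).homEquiv (AddCommGrpCat.of (ULift.{u + 1} ℤ)) G).trans
    (AddCommGrpCat.uliftZMultiplesAddEquiv ((EtCore.gsec Y).obj G)).toEquiv

theorem Γhom_comp {Y : Scheme.{u}} {G G' : EtCoh.Ab Y} (φ : EtCoh.const Y ℤ ⟶ G) (α : G ⟶ G') :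
    Γhom G' (φ ≫ α) = α.hom.app (op (EtCoh.top Y)) (Γhom G φ) := by
  simp only [Γhom, Equiv.trans_apply, Adjunction.homEquiv_naturality_right]
  rfl

open EtPullExact in
theorem surjective_sections_of_H1 (S : ShortComplex (EtCoh.Ab X)) (hS : S.ShortExact)
    (W : X.Etale)
    (h1 : Subsingleton (EtCoh.H W.left ((EtCoh.pull W.hom).obj S.X₁) 1)) :
    Function.Surjective (S.g.hom.app (op W)) := by
  haveI : Etale W.hom := W.prop
  let T := EtCoh.top W.left
  let W' : X.Etale := (EtShriek.compEtale W.hom).obj T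
  let eW : W' ≅ W := MorphismProperty.Over.isoMk (Iso.refl _) (Category.id_comp _)
  let ρ := restrIsoPull W.hom
  haveI := pull_pfl_ab W.hom
  have hS' : (S.map (EtCoh.pull W.hom)).ShortExact := hS.map_of_exact _
  intro q
  let q₁ : ((EtShriek.restrAlong W.hom).obj S.X₃).obj.obj (op T) := S.X₃.obj.map eW.hom.op q
  let q₂ : ((EtCoh.pull W.hom).obj S.X₃).obj.obj (op T) := (ρ.hom.app S.X₃).hom.app (op T) q₁
  let φ : EtCoh.const W.left ℤ ⟶ (EtCoh.pull W.hom).obj S.X₃ := (Γhom _).symm q₂
  have hzero : (Abelian.Ext.mk₀ φ).comp hS'.extClass (zero_add 1) = 0 :=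
    @Subsingleton.elim _ h1 _ _
  obtain ⟨x₂, hx₂⟩ := Abelian.Ext.covariant_sequence_exact₃ _ hS' (Abelian.Ext.mk₀ φ)
    (zero_add 1) hzero
  obtain ⟨ψ, rfl⟩ := (Abelian.Ext.mk₀_bijective _ _).2 x₂
  rw [Abelian.Ext.mk₀_comp_mk₀] at hx₂
  have hψ : ψ ≫ (EtCoh.pull W.hom).map S.g = φ := (Abelian.Ext.mk₀_bijective _ _).1 hx₂
  let r₂ : ((EtCoh.pull W.hom).obj S.X₂).obj.obj (op T) := Γhom _ ψ
  have e1 : ((EtCoh.pull W.hom).map S.g).hom.app (op T) r₂ = q₂ := by
    have h3 := Γhom_comp ψ ((EtCoh.pull W.hom).map S.g)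
    exact (h3.symm.trans (congrArg (Γhom _) hψ)).trans (Equiv.apply_symm_apply _ _)
  let r₁ : S.X₂.obj.obj (op W') := (ρ.inv.app S.X₂).hom.app (op T) r₂
  have e2 : S.g.hom.app (op W') r₁ = q₁ := by
    have hn := ρ.inv.naturality S.g
    have hn' := congrArg (fun (m : (EtCoh.pull W.hom).obj S.X₂ ⟶
      (EtShriek.restrAlong W.hom).obj S.X₃) => m.hom.app (op T) r₂) hn
    have e3 : (ρ.inv.app S.X₃).hom.app (op T) q₂ = q₁ := by
      have := congrArg (fun (m : (EtShriek.restrAlong W.hom).obj S.X₃ ⟶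
        (EtShriek.restrAlong W.hom).obj S.X₃) => m.hom.app (op T) q₁) (ρ.hom_inv_id_app S.X₃)
      exact this
    have hn'' : S.g.hom.app (op W') r₁ =
        (ρ.inv.app S.X₃).hom.app (op T) (((EtCoh.pull W.hom).map S.g).hom.app (op T) r₂) :=
      hn'.symm
    rw [hn'', e1, e3]
  refine ⟨S.X₂.obj.map eW.inv.op r₁, ?_⟩
  rw [app_map_apply, e2]
  show S.X₃.obj.map eW.inv.op (S.X₃.obj.map eW.hom.op q) = q
  rw [← map_comp_apply, eW.inv_hom_id, map_id_apply]

end Surj

section Glue

variable {U V : X.Etale} (g : V ⟶ U) [IsOpenImmersion g.left]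

/-- structure morphism of `U ⊔_V U` -/
noncomputable def glHom : pushout g.left g.left ⟶ X :=
  pushout.desc (U.hom : U.left ⟶ X) (U.hom : U.left ⟶ X) rfl

instance etale_glHom : Etale (glHom g) := by
  apply IsZariskiLocalAtSource.of_openCover (P := @Etale)
    (Scheme.IsLocallyDirected.openCover (span g.left g.left))
  intro i
  have hU : Etale (U.hom : U.left ⟶ X) := U.prop
  rcases i with _ | _ | _
  · have : colimit.ι (span g.left g.left) none ≫ glHom g = g.left ≫ (U.hom : U.left ⟶ X) := by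
      simp [glHom, pushout.desc]
    show Etale (colimit.ι (span g.left g.left) none ≫ glHom g)
    rw [this]
    infer_instance
  · have : colimit.ι (span g.left g.left) (some WalkingPair.left) ≫ glHom g =
        (U.hom : U.left ⟶ X) := pushout.inl_desc _ _ _
    show Etale (colimit.ι (span g.left g.left) (some WalkingPair.left) ≫ glHom g)
    rw [this]
    exact hU
  · have : colimit.ι (span g.left g.left) (some WalkingPair.right) ≫ glHom g =
        (U.hom : U.left ⟶ X) := pushout.inr_desc _ _ _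
    show Etale (colimit.ι (span g.left g.left) (some WalkingPair.right) ≫ glHom g)
    rw [this]
    exact hU

theorem gl_cover (x : ↥(pushout g.left g.left)) :
    x ∈ Set.range (pushout.inl g.left g.left) ∨ x ∈ Set.range (pushout.inr g.left g.left) := by
  obtain ⟨i, xi, rfl⟩ := Scheme.IsLocallyDirected.ι_jointly_surjective (span g.left g.left) x
  rcases i with _ | _ | _
  · left
    refine ⟨g.left xi, ?_⟩
    have h := colimit.w (span g.left g.left) (WalkingSpan.Hom.fst)
    have h' : g.left ≫ pushout.inl g.left g.left = colimit.ι (span g.left g.left) none := h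
    rw [← h']
    rfl
  · left; exact ⟨xi, rfl⟩
  · right; exact ⟨xi, rfl⟩

theorem gl_overlap (x y : ↥U.left)
    (h : pushout.inl g.left g.left x = pushout.inr g.left g.left y) :
    ∃ z : ↥V.left, g.left z = x ∧ g.left z = y := by
  obtain ⟨k, fi, fj, z, hz1, hz2⟩ :=
    (Scheme.IsLocallyDirected.ι_eq_ι_iff (span g.left g.left) (i := WalkingSpan.left)
      (j := WalkingSpan.right)).1 h
  rcases k with _ | _ | _
  · rcases fi with _ | _
    rcases fj with _ | _
    exact ⟨z, hz1, hz2⟩
  · rcases fj with _ | _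
  · rcases fi with _ | _

/-- `U ⊔_V U` as an object of the small étale site -/
noncomputable def glObj : X.Etale := Scheme.Etale.mk (glHom g)

noncomputable def glInl : U ⟶ glObj g :=
  MorphismProperty.Over.homMk (pushout.inl g.left g.left) (pushout.inl_desc _ _ _) trivial

noncomputable def glInr : U ⟶ glObj g :=
  MorphismProperty.Over.homMk (pushout.inr g.left g.left) (pushout.inr_desc _ _ _) trivial

theorem gl_condition : g ≫ glInl g = g ≫ glInr g :=
  MorphismProperty.Over.Hom.ext pushout.condition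

instance : Mono (glInl g) :=
  haveI : Mono (glInl g).left := inferInstanceAs (Mono (pushout.inl g.left g.left))
  mono_of_left_mono _

instance : Mono (glInr g) :=
  haveI : Mono (glInr g).left := inferInstanceAs (Mono (pushout.inr g.left g.left))
  mono_of_left_mono _

theorem factor_of_cross {Z : X.Etale} (gi gj : Z ⟶ U) (hij : gi ≫ glInl g = gj ≫ glInr g) :
    ∃ h : Z ⟶ V, gi = h ≫ g ∧ gj = h ≫ g := by
  have hl : gi.left ≫ pushout.inl g.left g.left = gj.left ≫ pushout.inr g.left g.left :=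
    congrArg (fun (m : Z ⟶ glObj g) => m.left) hij
  have hpt : ∀ z : ↥Z.left, ∃ v : ↥V.left, g.left v = gi.left z ∧ g.left v = gj.left z := by
    intro z
    apply gl_overlap g
    have := congrArg (fun (m : Z.left ⟶ pushout g.left g.left) => m z) hl
    exact this
  have hr1 : Set.range gi.left ⊆ Set.range g.left := by
    rintro _ ⟨z, rfl⟩
    obtain ⟨v, hv, -⟩ := hpt z
    exact ⟨v, hv⟩
  have hr2 : Set.range gj.left ⊆ Set.range g.left := by
    rintro _ ⟨z, rfl⟩
    obtain ⟨v, -, hv⟩ := hpt z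
    exact ⟨v, hv⟩
  have f1 : IsOpenImmersion.lift g.left gi.left hr1 ≫ g.left = gi.left :=
    IsOpenImmersion.lift_fac _ _ _
  have f2 : IsOpenImmersion.lift g.left gj.left hr2 ≫ g.left = gj.left :=
    IsOpenImmersion.lift_fac _ _ _
  have heq : IsOpenImmersion.lift g.left gi.left hr1 = IsOpenImmersion.lift g.left gj.left hr2 := by
    rw [← cancel_mono (g.left ≫ pushout.inl g.left g.left)]
    have c1 : IsOpenImmersion.lift g.left gi.left hr1 ≫ g.left ≫ pushout.inl g.left g.left =
        gi.left ≫ pushout.inl g.left g.left := by rw [← Category.assoc, f1]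
    have c2 : IsOpenImmersion.lift g.left gj.left hr2 ≫ g.left ≫ pushout.inl g.left g.left =
        gj.left ≫ pushout.inr g.left g.left := by rw [pushout.condition, ← Category.assoc, f2]
    exact c1.trans (hl.trans c2.symm)
  have hV : g.left ≫ U.hom = V.hom := MorphismProperty.Over.w g
  have hZ : gi.left ≫ U.hom = Z.hom := MorphismProperty.Over.w gi
  have hw : IsOpenImmersion.lift g.left gi.left hr1 ≫ V.hom = Z.hom := by
    rw [← hV, ← Category.assoc, f1, hZ]
  refine ⟨MorphismProperty.Over.homMk (IsOpenImmersion.lift g.left gi.left hr1) hw trivial, ?_, ?_⟩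
  · exact MorphismProperty.Over.Hom.ext f1.symm
  · apply MorphismProperty.Over.Hom.ext
    show gj.left = IsOpenImmersion.lift g.left gi.left hr1 ≫ g.left
    rw [heq, f2]

theorem glue_sections (Q : EtCoh.Ab X) (t₁ t₂ : Q.obj.obj (op U))
    (h : Q.obj.map g.op t₁ = Q.obj.map g.op t₂) :
    ∃ q : Q.obj.obj (op (glObj g)),
      Q.obj.map (glInl g).op q = t₁ ∧ Q.obj.map (glInr g).op q = t₂ := by
  have hQ : Presieve.IsSheaf X.smallEtaleTopology (Q.obj ⋙ forget AddCommGrpCat.{u + 1}) :=
    (isSheaf_iff_isSheaf_of_type _ _).1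
      ((Presheaf.isSheaf_iff_isSheaf_forget _ Q.obj (forget AddCommGrpCat.{u + 1})).1 Q.2)
  let π : ∀ _ : Bool, U ⟶ glObj g := fun b => cond b (glInl g) (glInr g)
  have hcov : Sieve.ofArrows (fun _ : Bool => U) π ∈ X.smallEtaleTopology (glObj g) := by
    apply sieve_mem_of_forall_exists
    intro w
    rcases gl_cover g w with ⟨x, hx⟩ | ⟨x, hx⟩
    · exact ⟨U, glInl g, Sieve.ofArrows_mk _ π true, ⟨x, hx⟩⟩
    · exact ⟨U, glInr g, Sieve.ofArrows_mk _ π false, ⟨x, hx⟩⟩
  have hsh : Presieve.IsSheafFor (Q.obj ⋙ forget AddCommGrpCat.{u + 1})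
      (Presieve.ofArrows (fun _ : Bool => U) π) :=
    (Presieve.isSheafFor_iff_generate _).2 (hQ _ hcov)
  rw [Presieve.isSheafFor_arrows_iff] at hsh
  have hcross : ∀ (Z : X.Etale) (gi gj : Z ⟶ U), gi ≫ glInl g = gj ≫ glInr g →
      Q.obj.map gi.op t₁ = Q.obj.map gj.op t₂ := by
    intro Z gi gj hij
    obtain ⟨k, rfl, rfl⟩ := factor_of_cross g gi gj hij
    rw [map_comp_apply, map_comp_apply, h]
  obtain ⟨q, hq, -⟩ := hsh (fun b => cond b t₁ t₂) (by
    rintro (_ | _) (_ | _) Z gi gj hij
    · have : gi = gj := (cancel_mono (glInr g)).1 hij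
      rw [this]
    · exact (hcross Z gj gi hij.symm).symm
    · exact hcross Z gi gj hij
    · have : gi = gj := (cancel_mono (glInl g)).1 hij
      rw [this])
  exact ⟨q, hq true, hq false⟩

end Glue

/-- An abelian étale sheaf all of whose restrictions to étale schemes have vanishing `H¹` is
flasque for open immersions. -/
theorem surjective_of_H1 (F : EtCoh.Ab X)
    (hF : ∀ W : X.Etale, Subsingleton (EtCoh.H W.left ((EtCoh.pull W.hom).obj F) 1))
    {U V : X.Etale} (g : V ⟶ U) [IsOpenImmersion g.left] :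
    Function.Surjective (F.obj.map g.op) := by
  haveI : Mono g.left := inferInstance
  haveI : Mono g := mono_of_left_mono g
  let S : ShortComplex (EtCoh.Ab X) :=
    ShortComplex.mk (Injective.ι F) (cokernel.π (Injective.ι F)) (cokernel.condition _)
  have hS : S.ShortExact := { exact := ShortComplex.exact_cokernel (Injective.ι F) }
  haveI : Mono S.f := hS.mono_f
  haveI : Injective S.X₂ := inferInstanceAs (Injective (Injective.under F))
  intro s
  obtain ⟨t, ht⟩ := injective_flasque S.X₂ g (S.f.hom.app (op V) s)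
  have hzero : ∀ (A : X.Etale) (a : S.X₁.obj.obj (op A)),
      S.g.hom.app (op A) (S.f.hom.app (op A) a) = 0 := by
    intro A a
    rw [← app_comp_apply, S.zero]
    rfl
  have ht0 : S.X₃.obj.map g.op (S.g.hom.app (op U) t) = S.X₃.obj.map g.op 0 := by
    rw [← app_map_apply, ht, hzero, map_zero]
  obtain ⟨q, hq1, hq2⟩ := glue_sections g S.X₃ _ _ ht0
  obtain ⟨r, hr⟩ := surjective_sections_of_H1 S hS (glObj g) (hF (glObj g)) q
  have h1 : S.g.hom.app (op U) (S.X₂.obj.map (glInl g).op r - t) = 0 := by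
    rw [map_sub, app_map_apply, hr, hq1, sub_self]
  have h2 : S.g.hom.app (op U) (S.X₂.obj.map (glInr g).op r) = 0 := by
    rw [app_map_apply, hr, hq2]
  obtain ⟨a, ha⟩ := sections_exact S hS U _ h1
  obtain ⟨b, hb⟩ := sections_exact S hS U _ h2
  refine ⟨b - a, ?_⟩
  apply sections_injective_of_mono S.f V
  have hr12 : S.X₂.obj.map g.op (S.X₂.obj.map (glInl g).op r) =
      S.X₂.obj.map g.op (S.X₂.obj.map (glInr g).op r) := by
    rw [← map_comp_apply, ← map_comp_apply, gl_condition]
  show S.f.hom.app (op V) (S.X₁.obj.map g.op (b - a)) = S.f.hom.app (op V) s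
  rw [app_map_apply, map_sub, hb, ha, map_sub, map_sub, ht, hr12]
  abel

end Groth.Agent.Lib.EtFlasque_helper7
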