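import Mathlib
import Groth.Prelude.Def_EtShriek2
import Groth.Prelude.Def_EtCore
import Groth.Agent.Lib.EtFlasque_helper7

/-!
# Cohomology of an étale `X`-scheme computed on `X` (helper7)

`Ext^n_X(ℤ[W], F) ≅ H^n(W, F|_W)` for `W` in the small étale site of `X`, where `ℤ[W] = fr W` is
the free abelian sheaf on the representable sheaf of `W`.
-/

set_option autoImplicit false
set_option backward.isDefEq.respectTransparency false
universe w w' v u v' u'
open CategoryTheory CategoryTheory.Limits AlgebraicGeometry Opposite Abelian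

namespace Groth.Agent.Lib.EtExtFr_helper7

section Abstract

variable {C : Type u} [Category.{v} C] [Abelian C] {D : Type u'} [Category.{v'} D] [Abelian D]
  [HasExt.{w} C] [HasExt.{w'} D] [EnoughInjectives C]
  (G : C ⥤ D) [G.Additive] [PreservesFiniteLimits G] [PreservesFiniteColimits G]
  {A : C} {A' : D} (σ : A' ⟶ G.obj A)

/-- `Ext^n(A, F) → Ext^n(A', G F)`, `e ↦ σ ∘ G(e)` -/
noncomputable def Ψ (F : C) (n : ℕ) : Ext.{w} A F n →+ Ext.{w'} A' (G.obj F) n :=
  ((Ext.mk₀ σ).precomp (G.obj F) (zero_add n)).comp (G.mapExtAddHom A F n)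

theorem Ψ_apply (F : C) (n : ℕ) (e : Ext.{w} A F n) :
    Ψ G σ F n e = (Ext.mk₀ σ).comp (e.mapExactFunctor G) (zero_add n) := rfl

theorem Ψ_mk₀ (F : C) (φ : A ⟶ F) : Ψ G σ F 0 (Ext.mk₀ φ) = Ext.mk₀ (σ ≫ G.map φ) := by
  rw [Ψ_apply, Ext.mapExactFunctor_mk₀, Ext.mk₀_comp_mk₀]

theorem Ψ_comp_mk₀ {F F' : C} (α : F ⟶ F') (n : ℕ) (e : Ext.{w} A F n) :
    Ψ G σ F' n (e.comp (Ext.mk₀ α) (add_zero n)) =
      (Ψ G σ F n e).comp (Ext.mk₀ (G.map α)) (add_zero n) := by
  rw [Ψ_apply, Ψ_apply, Ext.mapExactFunctor_comp, Ext.mapExactFunctor_mk₀,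
    Ext.comp_assoc_of_third_deg_zero]

theorem Ψ_comp_extClass (S : ShortComplex C) (hS : S.ShortExact) (n : ℕ)
    (e : Ext.{w} A S.X₃ n) :
    Ψ G σ S.X₁ (n + 1) (e.comp hS.extClass rfl) =
      (Ψ G σ S.X₃ n e).comp (hS.map_of_exact G).extClass rfl := by
  rw [Ψ_apply, Ψ_apply, Ext.mapExactFunctor_comp, Ext.mapExactFunctor_extClass]
  exact (Ext.comp_assoc (Ext.mk₀ σ) (e.mapExactFunctor G) (hS.map_of_exact G).extClass
    (zero_add n) rfl (by omega)).symm

theorem Ψ_bijective (hG : ∀ I : C, Injective I → Injective (G.obj I))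
    (h0 : ∀ F : C, Function.Bijective (fun φ : A ⟶ F => σ ≫ G.map φ)) (n : ℕ) :
    ∀ F : C, Function.Bijective (Ψ G σ F n) := by
  induction n with
  | zero =>
    intro F
    constructor
    · intro x y hxy
      obtain ⟨g, rfl⟩ := (Ext.mk₀_bijective _ _).2 x
      obtain ⟨g', rfl⟩ := (Ext.mk₀_bijective _ _).2 y
      rw [Ψ_mk₀, Ψ_mk₀] at hxy
      rw [(h0 F).1 ((Ext.mk₀_bijective _ _).1 hxy)]
    · intro y
      obtain ⟨g, rfl⟩ := (Ext.mk₀_bijective _ _).2 y
      obtain ⟨φ, hφ⟩ := (h0 F).2 g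
      exact ⟨Ext.mk₀ φ, by rw [Ψ_mk₀]; exact congrArg Ext.mk₀ hφ⟩
  | succ n hn =>
    intro F
    let I : InjectivePresentation F := Classical.arbitrary _
    let S := ShortComplex.mk _ _ (cokernel.condition I.f)
    have hS : S.ShortExact := { exact := ShortComplex.exact_cokernel I.f }
    haveI : Injective S.X₂ := I.injective
    have hGS : (S.map G).ShortExact := hS.map_of_exact G
    haveI : Injective (S.map G).X₂ := hG S.X₂ I.injective
    constructor
    · intro x x' hxx'
      rw [← sub_eq_zero]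
      have hx0 : Ψ G σ S.X₁ (n + 1) (x - x') = 0 := by
        rw [map_sub]; exact sub_eq_zero.2 hxx'
      generalize x - x' = x at hx0
      obtain ⟨y, hy⟩ : ∃ y : Ext.{w} A S.X₃ n, y.comp hS.extClass rfl = x :=
        Ext.covariant_sequence_exact₁ A hS x (Ext.eq_zero_of_injective _) rfl
      have hx0' : (Ψ G σ S.X₃ n y).comp hGS.extClass rfl = 0 :=
        (Ψ_comp_extClass G σ S hS n y).symm.trans
          ((congrArg (Ψ G σ S.X₁ (n + 1)) hy).trans hx0)
      obtain ⟨z, hz⟩ := Ext.covariant_sequence_exact₃ A' hGS _ rfl hx0'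
      obtain ⟨z', hz'⟩ := (hn S.X₂).2 z
      have h3 : Ψ G σ S.X₃ n (z'.comp (Ext.mk₀ S.g) (add_zero n)) = Ψ G σ S.X₃ n y :=
        (Ψ_comp_mk₀ G σ S.g n z').trans
          ((congrArg (fun t => t.comp (Ext.mk₀ (G.map S.g)) (add_zero n)) hz').trans hz)
      have hy2 : z'.comp (Ext.mk₀ S.g) (add_zero n) = y := (hn S.X₃).1 h3
      refine hy.symm.trans ?_
      refine (congrArg (fun t => t.comp hS.extClass rfl) hy2).symm.trans ?_
      refine (Ext.comp_assoc_of_second_deg_zero z' (Ext.mk₀ S.g) hS.extClass rfl).trans ?_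
      exact (congrArg (fun t => z'.comp t rfl) hS.comp_extClass).trans (Ext.comp_zero _ _ _ _ _)
    · intro y
      obtain ⟨y₃, hy₃⟩ : ∃ y₃ : Ext.{w'} A' (G.obj S.X₃) n, y₃.comp hGS.extClass rfl = y :=
        Ext.covariant_sequence_exact₁ A' hGS y (Ext.eq_zero_of_injective _) rfl
      obtain ⟨e, he⟩ := (hn S.X₃).2 y₃
      refine ⟨e.comp hS.extClass rfl, ?_⟩
      refine (Ψ_comp_extClass G σ S hS n e).trans ?_
      exact (congrArg (fun t => t.comp hGS.extClass rfl) he).trans hy₃

end Abstract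

section Etale

open Groth.Agent.Lib.EtFlasque_helper7 Groth.Agent.Lib.EtOpenShriek_helper7
  Groth.Agent.Lib.EtSchSite_helper7

variable {X : Scheme.{u}}

instance etale_hom (W : X.Etale) : Etale W.hom := W.prop

variable (W : X.Etale)

/-- `W` viewed through `compEtale W.hom` applied to the terminal object of `W.left`. -/
noncomputable def Wtop : X.Etale := (EtShriek.compEtale W.hom).obj (EtCoh.top W.left)

noncomputable def eW : Wtop W ≅ W :=
  MorphismProperty.Over.isoMk (Iso.refl _) (Category.id_comp _)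

/-- sections of `G` over `W` as global sections of the restriction to `W` -/
noncomputable def secIso (G : EtCoh.Ab X) (s : G.obj.obj (op W)) :
    ((EtCoh.pull W.hom).obj G).obj.obj (op (EtCoh.top W.left)) :=
  ((restrIsoPull W.hom).hom.app G).hom.app (op (EtCoh.top W.left)) (G.obj.map (eW W).hom.op s)

/-- inverse of `secIso` -/
noncomputable def secInv (G : EtCoh.Ab X)
    (r : ((EtCoh.pull W.hom).obj G).obj.obj (op (EtCoh.top W.left))) : G.obj.obj (op W) :=
  G.obj.map (eW W).inv.op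
    ((((restrIsoPull W.hom).inv.app G).hom.app (op (EtCoh.top W.left)) r :
      ((EtShriek.restrAlong W.hom).obj G).obj.obj (op (EtCoh.top W.left))))

theorem secInv_secIso (G : EtCoh.Ab X) (s : G.obj.obj (op W)) : secInv W G (secIso W G s) = s := by
  have e3 : (((restrIsoPull W.hom).inv.app G).hom.app (op (EtCoh.top W.left))
      ((((restrIsoPull W.hom).hom.app G).hom.app (op (EtCoh.top W.left))
        (G.obj.map (eW W).hom.op s)))) = G.obj.map (eW W).hom.op s := by
    have := congrArg (fun (m : (EtShriek.restrAlong W.hom).obj G ⟶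
      (EtShriek.restrAlong W.hom).obj G) => m.hom.app (op (EtCoh.top W.left))
        (G.obj.map (eW W).hom.op s)) ((restrIsoPull W.hom).hom_inv_id_app G)
    exact this
  show G.obj.map (eW W).inv.op _ = s
  rw [secIso, e3, ← map_comp_apply, (eW W).inv_hom_id, map_id_apply]

theorem secIso_secInv (G : EtCoh.Ab X)
    (r : ((EtCoh.pull W.hom).obj G).obj.obj (op (EtCoh.top W.left))) :
    secIso W G (secInv W G r) = r := by
  have e1 : G.obj.map (eW W).hom.op (secInv W G r) =
      (((restrIsoPull W.hom).inv.app G).hom.app (op (EtCoh.top W.left)) r) := by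
    show G.obj.map (eW W).hom.op (G.obj.map (eW W).inv.op _) = _
    rw [← map_comp_apply, (eW W).hom_inv_id, map_id_apply]
  rw [secIso, e1]
  have := congrArg (fun (m : (EtCoh.pull W.hom).obj G ⟶ (EtCoh.pull W.hom).obj G) =>
    m.hom.app (op (EtCoh.top W.left)) r) ((restrIsoPull W.hom).inv_hom_id_app G)
  exact this

theorem secIso_natural {G G' : EtCoh.Ab X} (α : G ⟶ G') (s : G.obj.obj (op W)) :
    secIso W G' (α.hom.app (op W) s) =
      ((EtCoh.pull W.hom).map α).hom.app (op (EtCoh.top W.left)) (secIso W G s) := by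
  have hn := (restrIsoPull W.hom).hom.naturality α
  have hn' := congrArg (fun (m : (EtShriek.restrAlong W.hom).obj G ⟶
    (EtCoh.pull W.hom).obj G') => m.hom.app (op (EtCoh.top W.left))
      (G.obj.map (eW W).hom.op s)) hn
  rw [secIso, secIso, ← app_map_apply]
  exact hn'

/-- the universal section, as a morphism `ℤ_W → (ℤ[W])|_W` -/
noncomputable def σW : EtCoh.const W.left ℤ ⟶ (EtCoh.pull W.hom).obj (fr W) :=
  (Γhom _).symm (secIso W (fr W) (frEquiv W (fr W) (𝟙 _)))

theorem Γhom_σW_comp {G : EtCoh.Ab X} (φ : fr W ⟶ G) :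
    Γhom _ (σW W ≫ (EtCoh.pull W.hom).map φ) = secIso W G (frEquiv W G φ) := by
  rw [Γhom_comp, σW, Equiv.apply_symm_apply, ← secIso_natural, ← frEquiv_comp, Category.id_comp]

theorem σW_comp_bijective (G : EtCoh.Ab X) :
    Function.Bijective (fun φ : fr W ⟶ G => σW W ≫ (EtCoh.pull W.hom).map φ) := by
  constructor
  · intro φ φ' h
    have h1 := congrArg (Γhom _) h
    simp only [Γhom_σW_comp] at h1
    have h2 := congrArg (secInv W G) h1
    rw [secInv_secIso, secInv_secIso] at h2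
    exact (frEquiv W G).injective h2
  · intro ψ
    refine ⟨(frEquiv W G).symm (secInv W G (Γhom _ ψ)), ?_⟩
    apply (Γhom _).injective
    show Γhom _ (σW W ≫ (EtCoh.pull W.hom).map _) = _
    rw [Γhom_σW_comp, Equiv.apply_symm_apply, secIso_secInv]
    rfl

open EtPullExact in
/-- `Ext^n_X(ℤ[W], F) → H^n(W, F|_W)` -/
noncomputable def ΨW (F : EtCoh.Ab X) (n : ℕ) :
    Ext (fr W) F n →+ EtCoh.H W.left ((EtCoh.pull W.hom).obj F) n :=
  haveI := pull_pfl_ab W.hom
  Ψ (EtCoh.pull W.hom) (σW W) F n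

open EtPullExact in
theorem ΨW_bijective (F : EtCoh.Ab X) (n : ℕ) : Function.Bijective (ΨW W F n) := by
  haveI := pull_pfl_ab W.hom
  exact Ψ_bijective (EtCoh.pull W.hom) (σW W)
    (fun I hI => by
      haveI := hI
      exact Groth.Agent.Lib.EtJCont_helper7.injective_pull_of_etale W.hom I)
    (fun G => σW_comp_bijective W G) n F

theorem subsingleton_ext_iff (F : EtCoh.Ab X) (n : ℕ) :
    Subsingleton (Ext (fr W) F n) ↔
      Subsingleton (EtCoh.H W.left ((EtCoh.pull W.hom).obj F) n) :=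
  ⟨fun _ => (ΨW_bijective W F n).2.subsingleton, fun _ => (ΨW_bijective W F n).1.subsingleton⟩

end Etale

end Groth.Agent.Lib.EtExtFr_helper7
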