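import Mathlib
import Groth.Agent.Lib.CechSite_helper2

/-!
# Čech complex of a single cover `V` in a category with finite products (helper8)

* `Pw V n`, `fc`: powers of `V` and face maps; `C1`, `d1`: the Čech complex of a presheaf `Q`.
* `cn`: contraction maps on `Pw V (n+1) ⨯ V`; `C2`, `d2`, `h2` and the homotopy identity `h2_d2`.
* `exact_of_single`: reduction of helper2's concrete Čech condition (family indexed by `PUnit`)
  to exactness of `d1`.
APPEND-ONLY once landed.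
-/

set_option autoImplicit false
universe w v u
open CategoryTheory Limits Opposite

namespace Groth.Agent.Lib.GaCechH8

variable {D : Type u} [Category.{v} D] [HasFiniteProducts D] (V : D)

/-- powers of `V` -/
noncomputable abbrev Pw (n : ℕ) : D := ∏ᶜ (fun _ : Fin n => V)

/-- the face maps -/
noncomputable def fc (n : ℕ) (k : Fin (n + 2)) : Pw V (n + 2) ⟶ Pw V (n + 1) :=
  Pi.lift (fun j => Pi.π (fun _ : Fin (n + 2) => V) (k.succAbove j))

@[reassoc]
lemma fc_π (n : ℕ) (k : Fin (n + 2)) (j : Fin (n + 1)) :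
    fc V n k ≫ Pi.π (fun _ : Fin (n + 1) => V) j =
      Pi.π (fun _ : Fin (n + 2) => V) (k.succAbove j) := by
  simp [fc]

/-- the contraction maps -/
noncomputable def cn (n : ℕ) : Pw V (n + 1) ⨯ V ⟶ Pw V (n + 2) ⨯ V :=
  prod.lift (Pi.lift (Fin.cons (α := fun _ => (Pw V (n + 1) ⨯ V ⟶ V)) prod.snd
    (fun j => prod.fst ≫ Pi.π (fun _ : Fin (n + 1) => V) j))) prod.snd

@[reassoc]
lemma cn_snd (n : ℕ) : cn V n ≫ prod.snd = prod.snd := prod.lift_snd _ _

@[reassoc]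
lemma cn_fst_π_zero (n : ℕ) :
    cn V n ≫ prod.fst ≫ Pi.π (fun _ : Fin (n + 2) => V) 0 = prod.snd := by
  rw [cn, prod.lift_fst_assoc, Pi.lift_π]
  rfl

@[reassoc]
lemma cn_fst_π_succ (n : ℕ) (j : Fin (n + 1)) :
    cn V n ≫ prod.fst ≫ Pi.π (fun _ : Fin (n + 2) => V) j.succ =
      prod.fst ≫ Pi.π (fun _ : Fin (n + 1) => V) j := by
  rw [cn, prod.lift_fst_assoc, Pi.lift_π]
  rfl

lemma cn_fc_zero (n : ℕ) : cn V n ≫ prod.map (fc V n 0) (𝟙 V) = 𝟙 _ := by
  apply Limits.prod.hom_ext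
  · apply Pi.hom_ext
    intro j
    rw [Category.assoc, Category.assoc, prod.map_fst_assoc, fc_π, Fin.succAbove_zero,
      cn_fst_π_succ, Category.id_comp]
  · rw [Category.assoc, prod.map_snd, Category.comp_id, cn_snd, Category.id_comp]

lemma cn_fc_succ (n : ℕ) (k : Fin (n + 2)) :
    cn V (n + 1) ≫ prod.map (fc V (n + 1) k.succ) (𝟙 V) =
      prod.map (fc V n k) (𝟙 V) ≫ cn V n := by
  apply Limits.prod.hom_ext
  · apply Pi.hom_ext
    intro j
    rw [Category.assoc, Category.assoc, prod.map_fst_assoc, fc_π, Category.assoc, Category.assoc]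
    refine Fin.cases ?_ (fun i => ?_) j
    · rw [Fin.succ_succAbove_zero, cn_fst_π_zero, cn_fst_π_zero, prod.map_snd, Category.comp_id]
    · rw [Fin.succ_succAbove_succ, cn_fst_π_succ, cn_fst_π_succ, prod.map_fst_assoc, fc_π]
  · rw [Category.assoc, prod.map_snd, Category.comp_id, cn_snd, Category.assoc, cn_snd,
      prod.map_snd, Category.comp_id]

section Presheaf

variable (Q : Dᵒᵖ ⥤ AddCommGrpCat.{w})

lemma map_map_apply {A B C' : D} (f : A ⟶ B) (g : B ⟶ C') (x : Q.obj (op C')) :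
    (Q.map f.op).hom ((Q.map g.op).hom x) = (Q.map (f ≫ g).op).hom x := by
  rw [op_comp, Q.map_comp]
  rfl

lemma map_id_apply' {A : D} (f : A ⟶ A) (hf : f = 𝟙 A) (x : Q.obj (op A)) :
    (Q.map f.op).hom x = x := by
  subst hf
  rw [op_id, Q.map_id]
  rfl

/-- cochains of the single cover -/
abbrev C1 (n : ℕ) : Type w := Q.obj (op (Pw V (n + 1)))

/-- the Čech differential of the single cover -/
noncomputable def d1 (n : ℕ) : C1 V Q n →+ C1 V Q (n + 1) :=
  ∑ k : Fin (n + 2), (-1 : ℤ) ^ (k : ℕ) • (Q.map (fc V n k).op).hom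

lemma d1_apply (n : ℕ) (x : C1 V Q n) :
    d1 V Q n x = ∑ k : Fin (n + 2), (-1 : ℤ) ^ (k : ℕ) • (Q.map (fc V n k).op).hom x := by
  simp [d1]

/-- cochains of the base changed cover -/
abbrev C2 (n : ℕ) : Type w := Q.obj (op (Pw V (n + 1) ⨯ V))

/-- the differential of the base changed cover -/
noncomputable def d2 (n : ℕ) : C2 V Q n →+ C2 V Q (n + 1) :=
  ∑ k : Fin (n + 2), (-1 : ℤ) ^ (k : ℕ) • (Q.map (prod.map (fc V n k) (𝟙 V)).op).hom

lemma d2_apply (n : ℕ) (x : C2 V Q n) :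
    d2 V Q n x =
      ∑ k : Fin (n + 2), (-1 : ℤ) ^ (k : ℕ) • (Q.map (prod.map (fc V n k) (𝟙 V)).op).hom x := by
  simp [d2]

/-- the contracting homotopy -/
noncomputable def h2 (n : ℕ) : C2 V Q (n + 1) →+ C2 V Q n := (Q.map (cn V n).op).hom

lemma h2_d2 (n : ℕ) (x : C2 V Q (n + 1)) :
    h2 V Q (n + 1) (d2 V Q (n + 1) x) + d2 V Q n (h2 V Q n x) = x := by
  rw [d2_apply, d2_apply, map_sum, Fin.sum_univ_succ]
  have h0 : h2 V Q (n + 1) ((-1 : ℤ) ^ ((0 : Fin (n + 3)) : ℕ) •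
      (Q.map (prod.map (fc V (n + 1) 0) (𝟙 V)).op).hom x) = x := by
    rw [Fin.val_zero, pow_zero, one_smul]
    show (Q.map (cn V (n + 1)).op).hom _ = x
    rw [map_map_apply]
    exact map_id_apply' Q _ (cn_fc_zero V (n + 1)) x
  have hs : ∀ j : Fin (n + 2), h2 V Q (n + 1) ((-1 : ℤ) ^ ((j.succ : Fin (n + 3)) : ℕ) •
      (Q.map (prod.map (fc V (n + 1) j.succ) (𝟙 V)).op).hom x) =
      -((-1 : ℤ) ^ (j : ℕ) • (Q.map (prod.map (fc V n j) (𝟙 V)).op).hom (h2 V Q n x)) := by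
    intro j
    rw [map_zsmul, Fin.val_succ, pow_succ, mul_neg_one, neg_smul]
    congr 2
    show (Q.map (cn V (n + 1)).op).hom _ = (Q.map _).hom ((Q.map (cn V n).op).hom x)
    rw [map_map_apply, map_map_apply, cn_fc_succ]
  rw [h0, Finset.sum_congr rfl (fun j _ => hs j), Finset.sum_neg_distrib]
  abel

lemma exact2 (n : ℕ) (x : C2 V Q (n + 1)) (hx : d2 V Q (n + 1) x = 0) :
    ∃ y : C2 V Q n, d2 V Q n y = x := by
  refine ⟨h2 V Q n x, ?_⟩
  have := h2_d2 V Q n x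
  rw [hx, map_zero, zero_add] at this
  exact this

section Single

open Groth.Agent.Lib.CechSite

/-- the single-member family -/
abbrev Y1 : PUnit.{w + 1} → D := fun _ => V

lemma coch_const (n : ℕ) (α : Coch Q (Y1.{w} V) n) (σ τ : Fin (n + 1) → PUnit.{w + 1}) :
    (α σ : C1 V Q n) = α τ := by
  obtain rfl : σ = τ := Subsingleton.elim _ _
  rfl

lemma Dd_single (n : ℕ) (α : Coch Q (Y1.{w} V) n) (σ : Fin (n + 2) → PUnit.{w + 1})
    (τ : Fin (n + 1) → PUnit.{w + 1}) :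
    (Dd Q (Y1.{w} V) n α σ : C1 V Q (n + 1)) = d1 V Q n (α τ) := by
  rw [Dd_apply, d1_apply]
  refine Finset.sum_congr rfl (fun k _ => ?_)
  rw [coch_const V Q n α (σ ∘ k.succAbove) τ]
  rfl

theorem exact_of_single (p : ℕ)
    (h : ∀ x : C1 V Q (p + 1), d1 V Q (p + 1) x = 0 → ∃ y : C1 V Q p, d1 V Q p y = x) :
    ∀ α : Coch Q (Y1.{w} V) (p + 1), Dd Q (Y1.{w} V) (p + 1) α = 0 →
      ∃ β : Coch Q (Y1.{w} V) p, Dd Q (Y1.{w} V) p β = α := by
  intro α hα
  have hx : d1 V Q (p + 1) (α (fun _ => PUnit.unit)) = 0 := by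
    rw [← Dd_single V Q (p + 1) α (fun _ => PUnit.unit) (fun _ => PUnit.unit), hα]
    rfl
  obtain ⟨y, hy⟩ := h _ hx
  refine ⟨fun _ => y, ?_⟩
  funext σ
  rw [Dd_single V Q p (fun _ => y) σ (fun _ => PUnit.unit), hy]

lemma d1_d1 (n : ℕ) (y : C1 V Q n) : d1 V Q (n + 1) (d1 V Q n y) = 0 := by
  have h := congrFun (Dd_Dd Q (Y1.{w} V) n (fun _ => y)) (fun _ => PUnit.unit)
  rw [Dd_single V Q (n + 1) _ (fun _ => PUnit.unit) (fun _ => PUnit.unit),
    Dd_single V Q n _ (fun _ => PUnit.unit) (fun _ => PUnit.unit)] at h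
  exact h

end Single

end Presheaf

end Groth.Agent.Lib.GaCechH8
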