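import Mathlib

/-!
# Faithfully flat descent of exactness, in a form convenient for Čech complexes (helper8)
APPEND-ONLY once landed.
-/

set_option autoImplicit false
universe u
open TensorProduct

namespace Groth.Agent.Lib.GaCechH8

variable {A B : Type u} [CommRing A] [CommRing B] [Algebra A B] [Module.FaithfullyFlat A B]
  {M₀ M₁ M₂ : Type u} [AddCommGroup M₀] [AddCommGroup M₁] [AddCommGroup M₂]
  [Module A M₀] [Module A M₁] [Module A M₂]
  {N₀ N₁ N₂ : Type u} [AddCommGroup N₀] [AddCommGroup N₁] [AddCommGroup N₂]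

theorem descent_exact (d₀ : M₀ →ₗ[A] M₁) (d₁ : M₁ →ₗ[A] M₂) (hd : d₁.comp d₀ = 0)
    (e₀ : N₀ →+ N₁) (e₁ : N₁ →+ N₂)
    (θ₀ : M₀ ⊗[A] B ≃+ N₀) (θ₁ : M₁ ⊗[A] B ≃+ N₁) (θ₂ : M₂ ⊗[A] B ≃+ N₂)
    (h₀ : ∀ (m : M₀) (b : B), θ₁ (d₀ m ⊗ₜ b) = e₀ (θ₀ (m ⊗ₜ b)))
    (h₁ : ∀ (m : M₁) (b : B), θ₂ (d₁ m ⊗ₜ b) = e₁ (θ₁ (m ⊗ₜ b)))
    (hex : ∀ x : N₁, e₁ x = 0 → ∃ y : N₀, e₀ y = x) :
    ∀ x : M₁, d₁ x = 0 → ∃ y : M₀, d₀ y = x := by
  have H₀ : ∀ z : M₀ ⊗[A] B, θ₁ (d₀.rTensor B z) = e₀ (θ₀ z) := by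
    intro z
    induction z using TensorProduct.induction_on with
    | zero => simp
    | tmul m b => rw [LinearMap.rTensor_tmul]; exact h₀ m b
    | add z w hz hw => rw [map_add, map_add, map_add, map_add, hz, hw]
  have H₁ : ∀ z : M₁ ⊗[A] B, θ₂ (d₁.rTensor B z) = e₁ (θ₁ z) := by
    intro z
    induction z using TensorProduct.induction_on with
    | zero => simp
    | tmul m b => rw [LinearMap.rTensor_tmul]; exact h₁ m b
    | add z w hz hw => rw [map_add, map_add, map_add, map_add, hz, hw]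
  have hE : Function.Exact (d₀.rTensor B) (d₁.rTensor B) := by
    intro z
    constructor
    · intro hz
      have h2 : e₁ (θ₁ z) = 0 := by rw [← H₁, hz, map_zero]
      obtain ⟨y, hy⟩ := hex _ h2
      refine ⟨θ₀.symm y, ?_⟩
      apply θ₁.injective
      rw [H₀, AddEquiv.apply_symm_apply, hy]
    · rintro ⟨w, rfl⟩
      have : (d₁.rTensor B) ((d₀.rTensor B) w) = ((d₁.comp d₀).rTensor B) w := by
        rw [LinearMap.rTensor_comp]; rfl
      rw [this, hd, LinearMap.rTensor_zero, LinearMap.zero_apply]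
  have hE' := Module.FaithfullyFlat.rTensor_reflects_exact A B d₀ d₁ hE
  intro x hx
  exact (hE' x).1 hx

end Groth.Agent.Lib.GaCechH8
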