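import Mathlib
import Groth.Prelude.Def_EtBase
import Groth.Prelude.Def_EtGm
import Groth.Agent.Lib.EtCechPush_helper2
import Groth.Agent.Lib.GaCech1_helper8
import Groth.Agent.Lib.GaCech2_helper8

/-!
# Čech acyclicity of `G_a` for a surjective étale morphism of affine schemes (helper8)
APPEND-ONLY once landed.
-/

set_option autoImplicit false
universe u
open CategoryTheory CategoryTheory.Limits AlgebraicGeometry Opposite TensorProduct

namespace Groth.Agent.Lib.GaCechH8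

variable {X : Scheme.{u}} (U : X.Etale)

lemma isPullback_prod [HasFiniteProducts (Over U)] (W V : Over U) :
    IsPullback (prod.fst (X := W) (Y := V)).left.left (prod.snd (X := W) (Y := V)).left.left
      W.hom.left V.hom.left :=
  (Over.isPullback_of_binaryFan_isLimit (BinaryFan.mk prod.fst prod.snd) (prodIsProd W V)).map
    (Scheme.Etale.forget X ⋙ Over.forget X)

lemma isAffine_prod [HasFiniteProducts (Over U)] [IsAffine U.left] (W V : Over U)
    [IsAffine W.left.left] [IsAffine V.left.left] : IsAffine (W ⨯ V).left.left :=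
  IsAffine.of_isPullback (isPullback_prod U W V)

lemma isAffine_of_iso {W W' : Over U} (e : W ≅ W') [IsAffine W.left.left] :
    IsAffine W'.left.left := by
  haveI : IsIso e.inv.left.left := inferInstanceAs
    (IsIso ((Scheme.Etale.forget X ⋙ Over.forget X).map ((Over.forget U).map e.inv)))
  exact IsAffine.of_isIso e.inv.left.left

lemma isAffine_Pw [HasFiniteProducts (Over U)] [IsAffine U.left] (V : Over U)
    [IsAffine V.left.left] : ∀ n : ℕ, IsAffine (Pw V (n + 1)).left.left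
  | 0 => isAffine_of_iso U (productUniqueIso (fun _ : Fin 1 => V)).symm
  | n + 1 => by
    haveI := isAffine_Pw V n
    haveI : IsAffine (V ⨯ Pw V (n + 1)).left.left := isAffine_prod U V (Pw V (n + 1))
    let e : (V ⨯ Pw V (n + 1)) ≅ Pw V (n + 2) :=
      IsLimit.conePointUniqueUpToIso
        (extendFanIsLimit (fun _ : Fin (n + 2) => V) (limit.isLimit _) (prodIsProd V (Pw V (n + 1))))
        (limit.isLimit _)
    exact isAffine_of_iso U e

section Algebra

/-- tensor products as pushouts, in additive-equivalence form -/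
theorem exists_theta {A R B P : Type u} [CommRing A] [CommRing R] [CommRing B] [CommRing P]
    [Algebra A R] [Algebra A B] (l : R →+* P) (r : B →+* P)
    (h : IsPushout (CommRingCat.ofHom (algebraMap A R)) (CommRingCat.ofHom (algebraMap A B))
      (CommRingCat.ofHom l) (CommRingCat.ofHom r)) :
    ∃ θ : R ⊗[A] B ≃+ P, ∀ (x : R) (y : B), θ (x ⊗ₜ y) = l x * r y := by
  let e := (CommRingCat.isPushout_tensorProduct A R B).isoIsPushout _ _ h
  have h1 : ∀ x : R, e.hom.hom (x ⊗ₜ 1) = l x := fun x =>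
    congrArg (fun φ : CommRingCat.of R ⟶ CommRingCat.of P => φ.hom x)
      ((CommRingCat.isPushout_tensorProduct A R B).inl_isoIsPushout_hom _ _ h)
  have h2 : ∀ y : B, e.hom.hom (1 ⊗ₜ y) = r y := fun y =>
    congrArg (fun φ : CommRingCat.of B ⟶ CommRingCat.of P => φ.hom y)
      ((CommRingCat.isPushout_tensorProduct A R B).inr_isoIsPushout_hom _ _ h)
  refine ⟨e.commRingCatIsoToRingEquiv.toAddEquiv, fun x y => ?_⟩
  show e.hom.hom (x ⊗ₜ y) = l x * r y
  have : (x ⊗ₜ[A] y : R ⊗[A] B) = (x ⊗ₜ 1) * (1 ⊗ₜ y) := by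
    rw [Algebra.TensorProduct.tmul_mul_tmul, mul_one, one_mul]
  rw [this, map_mul, h1, h2]

end Algebra

section Concrete

/-- restriction of `G_a` to `Over U` -/
noncomputable abbrev QGa : (Over U)ᵒᵖ ⥤ AddCommGrpCat.{u + 1} :=
  (Over.forget U).op ⋙ (EtCoh.Ga X).obj

/-- the structure-map algebra -/
@[instance_reducible]
noncomputable def algOver (W : Over U) : Algebra Γ(U.left, ⊤) Γ(W.left.left, ⊤) :=
  (W.hom.left.appTop.hom).toAlgebra

attribute [local instance] algOver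

lemma pb_comm {W W' : Over U} (g : W' ⟶ W) (a : Γ(U.left, ⊤)) :
    g.left.left.appTop.hom (W.hom.left.appTop.hom a) = W'.hom.left.appTop.hom a := by
  have h1 : g.left ≫ W.hom = W'.hom := Over.w g
  have h2 : g.left.left ≫ W.hom.left = W'.hom.left := congrArg (fun φ => φ.left) h1
  have h3 := congrArg (fun φ => φ.appTop.hom a) h2
  simpa using h3

/-- pullback of functions as an algebra homomorphism -/
noncomputable def pbA {W W' : Over U} (g : W' ⟶ W) :
    Γ(W.left.left, ⊤) →ₐ[Γ(U.left, ⊤)] Γ(W'.left.left, ⊤) :=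
  { g.left.left.appTop.hom with commutes' := pb_comm U g }

lemma pbA_apply {W W' : Over U} (g : W' ⟶ W) (x : Γ(W.left.left, ⊤)) :
    pbA U g x = g.left.left.appTop.hom x := rfl

variable [HasFiniteProducts (Over U)] [IsAffine U.left]

theorem exists_thetaW (W V : Over U) [IsAffine W.left.left] [IsAffine V.left.left] :
    ∃ θ : Γ(W.left.left, ⊤) ⊗[Γ(U.left, ⊤)] Γ(V.left.left, ⊤) ≃+ Γ((W ⨯ V).left.left, ⊤),
      ∀ x y, θ (x ⊗ₜ y) = (prod.fst (X := W) (Y := V)).left.left.appTop.hom x *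
        (prod.snd (X := W) (Y := V)).left.left.appTop.hom y := by
  have h := isPushout_appTop_of_isPullback (isPullback_prod U W V)
  exact exists_theta _ _ h

variable (V : Over U) [IsAffine V.left.left]

/-- ring-level Čech differential -/
noncomputable def dR (n : ℕ) :
    Γ((Pw V (n + 1)).left.left, ⊤) →ₗ[Γ(U.left, ⊤)] Γ((Pw V (n + 2)).left.left, ⊤) :=
  ∑ k : Fin (n + 2), (-1 : ℤ) ^ (k : ℕ) • (pbA U (fc V n k)).toLinearMap

lemma dR_apply (n : ℕ) (x : Γ((Pw V (n + 1)).left.left, ⊤)) :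
    dR U V n x = ∑ k : Fin (n + 2), (-1 : ℤ) ^ (k : ℕ) • (fc V n k).left.left.appTop.hom x := by
  simp [dR, pbA_apply]

/-- ring-level differential of the base changed cover -/
noncomputable def eR (n : ℕ) :
    Γ((Pw V (n + 1) ⨯ V).left.left, ⊤) →+ Γ((Pw V (n + 2) ⨯ V).left.left, ⊤) :=
  ∑ k : Fin (n + 2), (-1 : ℤ) ^ (k : ℕ) •
    ((prod.map (fc V n k) (𝟙 V)).left.left.appTop.hom : _ →+* _).toAddMonoidHom

lemma eR_apply (n : ℕ) (x : Γ((Pw V (n + 1) ⨯ V).left.left, ⊤)) :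
    eR U V n x = ∑ k : Fin (n + 2), (-1 : ℤ) ^ (k : ℕ) •
      (prod.map (fc V n k) (𝟙 V)).left.left.appTop.hom x := by
  simp [eR]

lemma down_sum {G : Type u} [AddCommGroup G] {κ : Type} (s : Finset κ)
    (f : κ → ULift.{u + 1} G) : (∑ k ∈ s, f k).down = ∑ k ∈ s, (f k).down :=
  map_sum (AddEquiv.ulift : ULift.{u + 1} G ≃+ G) f s

lemma down_d1 (n : ℕ) (s : C1 V (QGa U) n) :
    (d1 V (QGa U) n s).down = dR U V n s.down := by
  rw [d1_apply, dR_apply]
  exact down_sum _ _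

lemma down_d2 (n : ℕ) (s : C2 V (QGa U) n) :
    (d2 V (QGa U) n s).down = eR U V n s.down := by
  rw [d2_apply, eR_apply]
  exact down_sum _ _

lemma appTop_comp_apply {W₁ W₂ W₃ : Over U} (a : W₁ ⟶ W₂) (b : W₂ ⟶ W₃)
    (x : Γ(W₃.left.left, ⊤)) :
    a.left.left.appTop.hom (b.left.left.appTop.hom x) = (a ≫ b).left.left.appTop.hom x := by
  have : (a ≫ b).left.left = a.left.left ≫ b.left.left := rfl
  rw [this, Scheme.Hom.comp_appTop]
  rfl

lemma theta_compat (n : ℕ) [IsAffine (Pw V (n + 1)).left.left] [IsAffine (Pw V (n + 2)).left.left]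
    (θ₀ : Γ((Pw V (n + 1)).left.left, ⊤) ⊗[Γ(U.left, ⊤)] Γ(V.left.left, ⊤) ≃+
      Γ((Pw V (n + 1) ⨯ V).left.left, ⊤))
    (hθ₀ : ∀ x y, θ₀ (x ⊗ₜ y) = (prod.fst (X := Pw V (n + 1)) (Y := V)).left.left.appTop.hom x *
        (prod.snd (X := Pw V (n + 1)) (Y := V)).left.left.appTop.hom y)
    (θ₁ : Γ((Pw V (n + 2)).left.left, ⊤) ⊗[Γ(U.left, ⊤)] Γ(V.left.left, ⊤) ≃+
      Γ((Pw V (n + 2) ⨯ V).left.left, ⊤))
    (hθ₁ : ∀ x y, θ₁ (x ⊗ₜ y) = (prod.fst (X := Pw V (n + 2)) (Y := V)).left.left.appTop.hom x *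
        (prod.snd (X := Pw V (n + 2)) (Y := V)).left.left.appTop.hom y)
    (m : Γ((Pw V (n + 1)).left.left, ⊤)) (b : Γ(V.left.left, ⊤)) :
    θ₁ (dR U V n m ⊗ₜ b) = eR U V n (θ₀ (m ⊗ₜ b)) := by
  rw [dR_apply, eR_apply, TensorProduct.sum_tmul, map_sum]
  refine Finset.sum_congr rfl (fun k _ => ?_)
  rw [← TensorProduct.smul_tmul', map_zsmul, hθ₁, hθ₀, map_mul, appTop_comp_apply,
    appTop_comp_apply, appTop_comp_apply]
  congr 3
  · rw [prod.map_fst]
  · rw [prod.map_snd, Category.comp_id]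

theorem ga_exact (hV : Surjective V.hom.left) (p : ℕ) (x : C1 V (QGa U) (p + 1))
    (hx : d1 V (QGa U) (p + 1) x = 0) : ∃ y : C1 V (QGa U) p, d1 V (QGa U) p y = x := by
  haveI := isAffine_Pw U V
  haveI hff : Module.FaithfullyFlat Γ(U.left, ⊤) Γ(V.left.left, ⊤) :=
    (Flat.flat_and_surjective_iff_faithfullyFlat_of_isAffine (f := V.hom.left)).1 ⟨inferInstance, hV⟩
  obtain ⟨θ₀, hθ₀⟩ := exists_thetaW U (Pw V (p + 1)) V
  obtain ⟨θ₁, hθ₁⟩ := exists_thetaW U (Pw V (p + 2)) V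
  obtain ⟨θ₂, hθ₂⟩ := exists_thetaW U (Pw V (p + 3)) V
  have hd : (dR U V (p + 1)).comp (dR U V p) = 0 := by
    ext y
    have h := congrArg ULift.down (d1_d1 V (QGa U) p (ULift.up y))
    rw [down_d1, down_d1] at h
    exact h
  have hex : ∀ z : Γ((Pw V (p + 2) ⨯ V).left.left, ⊤), eR U V (p + 1) z = 0 →
      ∃ y, eR U V p y = z := by
    intro z hz
    obtain ⟨y, hy⟩ := exact2 V (QGa U) p (ULift.up z) (by
      apply ULift.ext
      rw [down_d2]
      exact hz)
    refine ⟨y.down, ?_⟩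
    rw [← down_d2, hy]
  have key := descent_exact (dR U V p) (dR U V (p + 1)) hd (eR U V p) (eR U V (p + 1)) θ₀ θ₁ θ₂
    (theta_compat U V p θ₀ hθ₀ θ₁ hθ₁) (theta_compat U V (p + 1) θ₁ hθ₁ θ₂ hθ₂) hex
  obtain ⟨y, hy⟩ := key x.down (by rw [← down_d1, hx]; rfl)
  refine ⟨ULift.up y, ?_⟩
  apply ULift.ext
  rw [down_d1]
  exact hy

/-- Čech acyclicity of `G_a` for a surjective étale morphism of affine schemes -/
theorem isZero_cechH_Ga (hV : Surjective V.hom.left) (p : ℕ) :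
    IsZero (((cechComplexFunctor (Y1.{u + 1} V)).obj (QGa U)).homology (p + 1)) := by
  rw [Groth.Agent.Lib.CechSite.isZero_homology_succ_iff]
  exact exact_of_single V (QGa U) p (ga_exact U V hV p)

end Concrete

end Groth.Agent.Lib.GaCechH8
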