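import Mathlib
import Groth.Prelude.Def_EtBase
import Groth.Agent.Lib.EtCartan1_helper8
import Groth.Agent.Lib.EtCartan2_helper8
import Groth.Agent.Lib.EtCechPush_helper2
import Groth.Agent.Lib.CechSiteSES_helper2
import Groth.Agent.Lib.CechSiteInj_helper2
import Groth.Agent.Lib.GaCech1_helper8
import Groth.Agent.Lib.GaCech3_helper8
import Groth.Agent.Lib.EtExtFr_helper7
import Groth.Agent.Lib.EtDescentSec_helper7

/-!
# Cartan's criterion on the small étale site, for affine objects and single affine covers (helper8)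
APPEND-ONLY once landed.
-/

set_option autoImplicit false
set_option backward.isDefEq.respectTransparency false
universe u
open CategoryTheory CategoryTheory.Limits AlgebraicGeometry Opposite Abelian

namespace Groth.Agent.Lib.EtCartanH8

open Groth.Agent.Lib.CechSite Groth.Agent.Lib.GaCechH8 Groth.Agent.Lib.EtCechPush
  Groth.Agent.Lib.EtFlasque_helper7 Groth.Agent.Lib.EtExtFr_helper7

variable {X : Scheme.{u}}

attribute [local instance] hasFiniteProducts_over

/-- Čech acyclicity for single surjective covers of affine objects by affine objects -/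
def AffCech (F : EtCoh.Ab X) : Prop :=
  ∀ (U : X.Etale), IsAffine U.left → ∀ (V : Over U), IsAffine V.left.left →
    Surjective V.hom.left → ∀ p : ℕ,
      IsZero (((cechComplexFunctor (Y1.{u + 1} V)).obj
        ((Over.forget U).op ⋙ F.obj)).homology (p + 1))

variable (S : ShortComplex (EtCoh.Ab X)) (hS : S.ShortExact)
include hS

theorem sections_surjective (h1 : AffCech S.X₁) (U : X.Etale) [IsAffine U.left] :
    Function.Surjective (S.g.hom.app (op U)).hom := by
  intro z
  haveI := hS.epi_g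
  obtain ⟨V, hV, d, hd, ι, Vj, ij, hRj, hglue⟩ :=
    exists_affine_surj' (imageSieve_mem_of_epi S.g U z)
  choose t ht using hRj
  obtain ⟨tV, htV, -⟩ := hglue S.X₂ t
  have hgt : (S.g.hom.app (op V)).hom tV = rs S.X₃.obj d z := by
    apply (hglue S.X₃ (fun j => (S.g.hom.app (op (Vj j))).hom (t j))).unique
    · intro j
      have h := rs_app S.X₂.obj S.g.hom (ij j) tV
      have h2 : rs S.X₂.obj (ij j) tV = t j := htV j
      rw [h2] at h
      exact h.symm
    · intro j
      have h := rs_rs S.X₃.obj (ij j) d z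
      exact h.trans (ht j).symm
  -- the Čech argument for the single cover `V ⟶ U`
  let V' : Over U := Over.mk d
  have hY : Sieve.ofArrows (fun i => ((Y1.{u + 1} V') i).left) (fun i => ((Y1.{u + 1} V') i).hom) ∈
      X.smallEtaleTopology U := by
    apply ofArrows_mem_of_surjective
    intro x
    obtain ⟨v, hv⟩ := hd.surj x
    exact ⟨PUnit.unit, v, hv⟩
  exact lift_of_cechH1 (Y1.{u + 1} V') S hS hY (h1 U inferInstance V' hV hd 0) z (fun _ => tV)
    (fun _ => hgt)

theorem affCech_X₃ [Injective S.X₂] (h1 : AffCech S.X₁) : AffCech S.X₃ := by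
  intro U hU V hV hs p
  haveI := hU
  haveI := hV
  haveI : Injective S.X₂.obj := injective_obj_et S.X₂
  refine Groth.Agent.Lib.CechSiteSES.isZero_cechH_X₃ (Y1.{u + 1} V) S hS p ?_
    (isZero_cech_of_injective (Y1.{u + 1} V) S.X₂.obj p) (h1 U hU V hV hs (p + 1))
  intro σ
  haveI : IsAffine (T (Y1.{u + 1} V) σ).left.left := isAffine_Pw U V (p + 1)
  exact sections_surjective S hS h1 (T (Y1.{u + 1} V) σ).left

omit hS in
/-- Cartan's criterion: Čech acyclic sheaves are acyclic on affine objects -/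
theorem ext_vanish (q : ℕ) : ∀ (G : EtCoh.Ab X), AffCech G → ∀ (U : X.Etale), IsAffine U.left →
    ∀ x : Ext (fr U) G (q + 1), x = 0 := by
  induction q with
  | zero =>
    intro G hG U hU x
    haveI := hU
    let Sx : ShortComplex (EtCoh.Ab X) :=
      ShortComplex.mk (Injective.ι G) (cokernel.π (Injective.ι G)) (cokernel.condition _)
    have hSx : Sx.ShortExact := { exact := ShortComplex.exact_cokernel (Injective.ι G) }
    haveI : Injective Sx.X₂ := inferInstanceAs (Injective (Injective.under G))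
    obtain ⟨x₃, hx₃⟩ : ∃ x₃ : Ext (fr U) Sx.X₃ 0, x₃.comp hSx.extClass (zero_add 1) = x :=
      Ext.covariant_sequence_exact₁ _ hSx x (Ext.eq_zero_of_injective _) (zero_add 1)
    obtain ⟨ψ, rfl⟩ := (Ext.mk₀_bijective _ _).2 x₃
    obtain ⟨b, hb⟩ := sections_surjective Sx hSx hG U (frEquiv U Sx.X₃ ψ)
    have hψ : (frEquiv U Sx.X₂).symm b ≫ Sx.g = ψ := by
      apply (frEquiv U Sx.X₃).injective
      rw [frEquiv_comp, Equiv.apply_symm_apply]
      exact hb
    rw [← hx₃, ← hψ, ← Ext.mk₀_comp_mk₀]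
    refine (Ext.comp_assoc_of_second_deg_zero (Ext.mk₀ ((frEquiv U Sx.X₂).symm b)) (Ext.mk₀ Sx.g)
      hSx.extClass (zero_add 1)).trans ?_
    exact (congrArg (fun t => (Ext.mk₀ ((frEquiv U Sx.X₂).symm b)).comp t (zero_add 1))
      hSx.comp_extClass).trans (Ext.comp_zero _ _ _ _ _)
  | succ q ih =>
    intro G hG U hU x
    let Sx : ShortComplex (EtCoh.Ab X) :=
      ShortComplex.mk (Injective.ι G) (cokernel.π (Injective.ι G)) (cokernel.condition _)
    have hSx : Sx.ShortExact := { exact := ShortComplex.exact_cokernel (Injective.ι G) }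
    haveI : Injective Sx.X₂ := inferInstanceAs (Injective (Injective.under G))
    have hQ : AffCech Sx.X₃ := affCech_X₃ Sx hSx hG
    obtain ⟨x₃, hx₃⟩ : ∃ x₃ : Ext (fr U) Sx.X₃ (q + 1), x₃.comp hSx.extClass rfl = x :=
      Ext.covariant_sequence_exact₁ _ hSx x (Ext.eq_zero_of_injective _) rfl
    rw [← hx₃, ih Sx.X₃ hQ U hU x₃, Ext.zero_comp]

omit hS in
theorem subsingleton_H_of_affCech [IsAffine X] (G : EtCoh.Ab X) (hG : AffCech G) (p : ℕ)
    (hp : 1 ≤ p) : Subsingleton (EtCoh.H X G p) := by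
  obtain ⟨n, rfl⟩ : ∃ n, p = n + 1 := ⟨p - 1, by omega⟩
  have hA : IsAffine (EtCoh.top X).left := ‹IsAffine X›
  have h1 : Subsingleton (Ext (fr (EtCoh.top X)) G (n + 1)) :=
    ⟨fun a b => (ext_vanish n G hG _ hA a).trans (ext_vanish n G hG _ hA b).symm⟩
  have h2 : Subsingleton (EtCoh.H X ((EtCoh.pull (𝟙 X)).obj G) (n + 1)) :=
    (subsingleton_ext_iff (EtCoh.top X) G (n + 1)).1 h1
  let e : (EtCoh.pull (𝟙 X)).obj G ≅ G :=
    (Groth.Agent.Lib.EtDescentSec_helper7.pullId X).app G
  let e' := ((EtCoh.HF X (n + 1)).mapIso e).addCommGroupIsoToAddEquiv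
  haveI : Subsingleton ↑((EtCoh.HF X (n + 1)).obj ((EtCoh.pull (𝟙 X)).obj G)) := h2
  exact e'.symm.toEquiv.subsingleton

omit hS in
theorem affCech_Ga (X : Scheme.{u}) : AffCech (EtCoh.Ga X) := by
  intro U hU V hV hs p
  haveI := hU
  haveI := hV
  exact isZero_cechH_Ga U V hs p

omit hS in
/-- `H^p_ét(S, G_a) = 0` for `S` affine and `p ≥ 1` -/
theorem subsingleton_H_Ga (X : Scheme.{u}) [IsAffine X] (p : ℕ) (hp : 1 ≤ p) :
    Subsingleton (EtCoh.H X (EtCoh.Ga X) p) :=
  subsingleton_H_of_affCech (EtCoh.Ga X) (affCech_Ga X) p hp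

end Groth.Agent.Lib.EtCartanH8
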