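import Mathlib
import Groth.Prelude.Def_Red2

namespace Groth.Agent.Lib.RedDictH8

open CategoryTheory Limits MonoidalCategory CartesianMonoidalCategory MonObj GrpObj
  AlgebraicGeometry TensorProduct

universe u

section Affine

variable {R A : Type u} [CommRing R] [CommRing A] [Bialgebra R A]

/-- evaluation of the function `r ∈ A` on a point `a : W ⟶ Spec A` -/
noncomputable def ev {B : CommRingCat.{u}} {W : Scheme.{u}} (a : W ⟶ Spec B) (r : B) : Γ(W, ⊤) :=
  a.appTop ((Scheme.ΓSpecIso B).inv r)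

lemma ev_comp_specMap {B B' : CommRingCat.{u}} {W : Scheme.{u}} (a : W ⟶ Spec B') (φ : B ⟶ B')
    (r : B) : ev (a ≫ Spec.map φ) r = ev a (φ r) := by
  unfold ev
  rw [Scheme.Hom.comp_appTop, CommRingCat.comp_apply]
  congr 1
  have := Scheme.ΓSpecIso_inv_naturality φ
  exact (congrArg (fun ψ => ψ r) this).symm

lemma ev_comp {B : CommRingCat.{u}} {W W' : Scheme.{u}} (g : W' ⟶ W) (a : W ⟶ Spec B) (r : B) :
    ev (g ≫ a) r = g.appTop (ev a r) := by
  unfold ev
  rw [Scheme.Hom.comp_appTop, CommRingCat.comp_apply]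

lemma ev_add {B : CommRingCat.{u}} {W : Scheme.{u}} (a : W ⟶ Spec B) (r s : B) :
    ev a (r + s) = ev a r + ev a s := by
  unfold ev
  rw [map_add, map_add]

lemma ev_mul {B : CommRingCat.{u}} {W : Scheme.{u}} (a : W ⟶ Spec B) (r s : B) :
    ev a (r * s) = ev a r * ev a s := by
  unfold ev
  rw [map_mul, map_mul]

lemma ev_one {B : CommRingCat.{u}} {W : Scheme.{u}} (a : W ⟶ Spec B) :
    ev a 1 = 1 := by
  unfold ev
  rw [map_one, map_one]

variable (R A) in
lemma ev_lift_tmul {W : Scheme.{u}} (a b : W ⟶ Spec (.of A))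
    (h : a ≫ Spec.map (CommRingCat.ofHom (algebraMap R A)) =
      b ≫ Spec.map (CommRingCat.ofHom (algebraMap R A))) (p q : A) :
    ev (pullback.lift a b h ≫ (pullbackSpecIso R A A).hom) (p ⊗ₜ[R] q) = ev a p * ev b q := by
  have hpq : (p ⊗ₜ[R] q : A ⊗[R] A) =
      (Algebra.TensorProduct.includeLeftRingHom (R := R) (A := A) (B := A) p) *
        ((Algebra.TensorProduct.includeRight (R := R) (A := A) (B := A)) q) := by
    simp
  have h1 : ev (pullback.lift a b h ≫ (pullbackSpecIso R A A).hom)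
      (Algebra.TensorProduct.includeLeftRingHom (R := R) (A := A) (B := A) p) = ev a p := by
    have := ev_comp_specMap (pullback.lift a b h ≫ (pullbackSpecIso R A A).hom)
      (CommRingCat.ofHom (Algebra.TensorProduct.includeLeftRingHom (R := R) (A := A) (B := A))) p
    rw [Category.assoc, pullbackSpecIso_hom_fst, pullback.lift_fst] at this
    exact this.symm
  have h2 : ev (pullback.lift a b h ≫ (pullbackSpecIso R A A).hom)
      ((Algebra.TensorProduct.includeRight (R := R) (A := A) (B := A)) q) = ev b q := by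
    have := ev_comp_specMap (pullback.lift a b h ≫ (pullbackSpecIso R A A).hom)
      (CommRingCat.ofHom (RingHomClass.toRingHom
        (Algebra.TensorProduct.includeRight (R := R) (A := A) (B := A)))) q
    rw [Category.assoc, pullbackSpecIso_hom_snd, pullback.lift_snd] at this
    exact this.symm
  rw [hpq]
  exact (ev_mul _ _ _).trans (by rw [h1, h2])

variable (R A) in
lemma ev_lift_mul_left {W : Scheme.{u}} (a b : W ⟶ Spec (.of A))
    (h : a ≫ Spec.map (CommRingCat.ofHom (algebraMap R A)) =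
      b ≫ Spec.map (CommRingCat.ofHom (algebraMap R A))) (r : A) :
    ev ((pullback.lift a b h ≫ (pullbackSpecIso R A A).hom) ≫
        Spec.map (CommRingCat.ofHom (RingHomClass.toRingHom (Bialgebra.comulAlgHom R A)))) r =
      ev (pullback.lift a b h ≫ (pullbackSpecIso R A A).hom) (Coalgebra.comul (R := R) r) :=
  ev_comp_specMap (pullback.lift a b h ≫ (pullbackSpecIso R A A).hom)
    (CommRingCat.ofHom (RingHomClass.toRingHom (Bialgebra.comulAlgHom R A))) r

end Affine

section Points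

lemma exists_point {B : CommRingCat.{u}} (W : Scheme.{u}) (φ : B ⟶ Γ(W, ⊤)) :
    ∃ a : W ⟶ Spec B, ∀ s, ev a s = φ s := by
  refine ⟨W.toSpecΓ ≫ Spec.map φ, fun s => ?_⟩
  rw [ev_comp_specMap]
  unfold ev
  rw [Scheme.toSpecΓ_appTop]
  simp

lemma point_ext {B : CommRingCat.{u}} {W : Scheme.{u}} (a b : W ⟶ Spec B)
    (h : ∀ s, ev a s = ev b s) : a = b := by
  apply ext_of_isAffine
  ext s
  have := h ((Scheme.ΓSpecIso B).hom s)
  simpa [ev] using this

lemma ringHom_comm_algebraMap {A B : Type u} [CommRing A] [CommRing B] [Algebra (ULift.{u} ℤ) A]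
    (θ : A →+* B) (r : ULift.{u} ℤ) :
    θ (algebraMap (ULift.{u} ℤ) A r) = algebraMap ℤ B r.down := by
  obtain ⟨n⟩ := r
  have : (ULift.up n : ULift.{u} ℤ) = ((n : ℤ) : ULift.{u} ℤ) := rfl
  rw [this, map_intCast, map_intCast]
  simp

lemma ringHom_ext_monoidAlgebra {B : Type u} [CommRing B]
    (θ₁ θ₂ : MonoidAlgebra (ULift.{u} ℤ) (Multiplicative ℤ) →+* B)
    (h : θ₁ (MonoidAlgebra.single (Multiplicative.ofAdd (1 : ℤ)) 1) =
      θ₂ (MonoidAlgebra.single (Multiplicative.ofAdd (1 : ℤ)) 1)) : θ₁ = θ₂ := by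
  have hof : (θ₁ : _ →* B).comp (MonoidAlgebra.of (ULift.{u} ℤ) (Multiplicative ℤ)) =
      (θ₂ : _ →* B).comp (MonoidAlgebra.of (ULift.{u} ℤ) (Multiplicative ℤ)) := by
    apply MonoidHom.ext_mint
    simpa [MonoidAlgebra.of_apply] using h
  refine RingHom.ext fun x => ?_
  induction x using MonoidAlgebra.induction_on with
  | of m => exact congrArg (fun F => F m) hof
  | add x y hx hy => rw [map_add, map_add, hx, hy]
  | smul r x hx =>
    rw [Algebra.smul_def, map_mul, map_mul, hx, ringHom_comm_algebraMap, ringHom_comm_algebraMap]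

end Points

section BaseChange

variable {R A : CommRingCat.{u}} [HopfAlgebra R A]
variable {S : Scheme.{u}} (f : S ⟶ Spec R)

lemma lift_cond {X : Over S} (x y : X ⟶ Red.bc f ((Spec A).asOver (Spec R))) :
    (x.left ≫ pullback.fst _ _) ≫ ((Spec A).asOver (Spec R)).hom =
      (y.left ≫ pullback.fst _ _) ≫ ((Spec A).asOver (Spec R)).hom := by
  have hx := Over.w x
  have hy := Over.w y
  rw [Category.assoc, Category.assoc, pullback.condition, ← Category.assoc, ← Category.assoc]
  congr 1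
  exact hx.trans hy.symm

lemma mul_left_fst {X : Over S} (x y : X ⟶ Red.bc f ((Spec A).asOver (Spec R))) :
    (x * y).left ≫ pullback.fst _ _ =
      pullback.lift (x.left ≫ pullback.fst _ _) (y.left ≫ pullback.fst _ _) (lift_cond f x y) ≫
        μ[(Spec A).asOver (Spec R)].left := by
  rw [Hom.mul_def, Functor.obj.μ_def]
  simp only [Over.comp_left, Category.assoc]
  have h1 : ((Over.pullback f).map μ[(Spec A).asOver (Spec R)]).left ≫
      pullback.fst ((Spec A).asOver (Spec R)).hom f =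
      pullback.fst _ f ≫ μ[(Spec A).asOver (Spec R)].left :=
    pullback.lift_fst _ _ _
  rw [h1]
  simp only [← Category.assoc]
  congr 1
  apply pullback.hom_ext
  · simp only [Category.assoc, pullback.lift_fst]
    have := Over.μ_pullback_left_fst_fst (f := f) ((Spec A).asOver (Spec R))
      ((Spec A).asOver (Spec R))
    rw [this]
    have h2 : (CartesianMonoidalCategory.lift x y).left ≫ pullback.fst _ _ = x.left := by
      have := congrArg Over.Hom.left (CartesianMonoidalCategory.lift_fst x y)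
      exact this
    rw [reassoc_of% h2]
  · simp only [Category.assoc, pullback.lift_snd]
    have := Over.μ_pullback_left_fst_snd (f := f) ((Spec A).asOver (Spec R))
      ((Spec A).asOver (Spec R))
    rw [this]
    have h2 : (CartesianMonoidalCategory.lift x y).left ≫ pullback.snd _ _ = y.left := by
      have := congrArg Over.Hom.left (CartesianMonoidalCategory.lift_snd x y)
      exact this
    rw [reassoc_of% h2]

lemma ev_mul_of_primitive {X : Over S} (x y : X ⟶ Red.bc f ((Spec A).asOver (Spec R))) (r : A)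
    (hr : Coalgebra.comul (R := R) r = r ⊗ₜ[R] 1 + 1 ⊗ₜ[R] r) :
    ev ((x * y).left ≫ pullback.fst _ _) r =
      ev (x.left ≫ pullback.fst _ _) r + ev (y.left ≫ pullback.fst _ _) r := by
  have h0 := lift_cond f x y
  have h1 := congrArg (fun m => ev (B := A) m r) (mul_left_fst f x y)
  have h2 := ev_lift_mul_left (R := R) (A := A) (x.left ≫ pullback.fst _ _)
    (y.left ≫ pullback.fst _ _) h0 r
  have h3 : pullback.lift (x.left ≫ pullback.fst _ _) (y.left ≫ pullback.fst _ _) h0 ≫
      μ[(Spec A).asOver (Spec R)].left =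
      (pullback.lift (x.left ≫ pullback.fst _ _) (y.left ≫ pullback.fst _ _) h0 ≫
        (pullbackSpecIso R A A).hom) ≫
        Spec.map (CommRingCat.ofHom (RingHomClass.toRingHom (Bialgebra.comulAlgHom R A))) := by
    rw [mul_spec_asOver_spec_left, Category.assoc]
    rfl
  refine h1.trans ((congrArg (fun m => ev (B := A) m r) h3).trans (h2.trans ?_))
  rw [hr, ev_add, ev_lift_tmul, ev_lift_tmul, ev_one, ev_one, _root_.mul_one, _root_.one_mul]

lemma ev_mul_of_grouplike {X : Over S} (x y : X ⟶ Red.bc f ((Spec A).asOver (Spec R))) (r : A)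
    (hr : Coalgebra.comul (R := R) r = r ⊗ₜ[R] r) :
    ev ((x * y).left ≫ pullback.fst _ _) r =
      ev (x.left ≫ pullback.fst _ _) r * ev (y.left ≫ pullback.fst _ _) r := by
  have h0 := lift_cond f x y
  have h1 := congrArg (fun m => ev (B := A) m r) (mul_left_fst f x y)
  have h2 := ev_lift_mul_left (R := R) (A := A) (x.left ≫ pullback.fst _ _)
    (y.left ≫ pullback.fst _ _) h0 r
  have h3 : pullback.lift (x.left ≫ pullback.fst _ _) (y.left ≫ pullback.fst _ _) h0 ≫
      μ[(Spec A).asOver (Spec R)].left =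
      (pullback.lift (x.left ≫ pullback.fst _ _) (y.left ≫ pullback.fst _ _) h0 ≫
        (pullbackSpecIso R A A).hom) ≫
        Spec.map (CommRingCat.ofHom (RingHomClass.toRingHom (Bialgebra.comulAlgHom R A))) := by
    rw [mul_spec_asOver_spec_left, Category.assoc]
    rfl
  refine h1.trans ((congrArg (fun m => ev (B := A) m r) h3).trans (h2.trans ?_))
  rw [hr, ev_lift_tmul]

lemma over_point_ext {X : Over S} (x y : X ⟶ Red.bc f ((Spec A).asOver (Spec R)))
    (h : x.left ≫ pullback.fst _ _ = y.left ≫ pullback.fst _ _) : x = y := by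
  apply Over.OverMorphism.ext
  apply pullback.hom_ext h
  exact (Over.w x).trans (Over.w y).symm

lemma exists_over_point {X : Over S} (a : X.left ⟶ Spec A)
    (ha : a ≫ ((Spec A).asOver (Spec R)).hom = X.hom ≫ f) :
    ∃ x : X ⟶ Red.bc f ((Spec A).asOver (Spec R)), x.left ≫ pullback.fst _ _ = a :=
  ⟨Over.homMk (pullback.lift a X.hom ha) (pullback.lift_snd _ _ _), pullback.lift_fst _ _ _⟩

end BaseChange

section GaGm

variable {S : Scheme.{u}}

theorem gaFn_mul {X : Over S} (x y : X ⟶ Red.Ga S) :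
    Red.gaFn (x * y) = Red.gaFn x + Red.gaFn y := by
  unfold Red.gaFn
  exact ev_mul_of_primitive _ x y _ (SymmetricAlgebra.comul_ι _ _ _)

theorem gmFn_mul {X : Over S} (x y : X ⟶ Red.Gm S) :
    Red.gmFn (x * y) = Red.gmFn x * Red.gmFn y := by
  unfold Red.gmFn
  refine ev_mul_of_grouplike _ x y _ ?_
  rw [MonoidAlgebra.comul_single]
  simp

theorem gaFn_injective {X : Over S} : Function.Injective (Red.gaFn (X := X)) := by
  intro x y h
  apply over_point_ext
  apply point_ext
  intro s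
  refine SymmetricAlgebra.induction _ _ (motive := fun s => ev (x.left ≫ pullback.fst _ _) s =
    ev (y.left ≫ pullback.fst _ _) s) ?_ ?_ ?_ ?_ s
  · intro r
    exact (ringHom_comm_algebraMap
      ((Scheme.ΓSpecIso _).inv ≫ (x.left ≫ pullback.fst _ _).appTop).hom r).trans
      (ringHom_comm_algebraMap
        ((Scheme.ΓSpecIso _).inv ≫ (y.left ≫ pullback.fst _ _).appTop).hom r).symm
  · intro m
    have hm : SymmetricAlgebra.ι (ULift.{u} ℤ) (ULift.{u} ℤ) m =
        algebraMap (ULift.{u} ℤ) _ m *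
          SymmetricAlgebra.ι (ULift.{u} ℤ) (ULift.{u} ℤ) (ULift.up 1) := by
      rw [← Algebra.smul_def, ← map_smul]
      congr 1
      ext
      simp
    rw [hm, ev_mul, ev_mul]
    congr 1
    exact (ringHom_comm_algebraMap
      ((Scheme.ΓSpecIso _).inv ≫ (x.left ≫ pullback.fst _ _).appTop).hom m).trans
      (ringHom_comm_algebraMap
        ((Scheme.ΓSpecIso _).inv ≫ (y.left ≫ pullback.fst _ _).appTop).hom m).symm
  · intro a b ha hb
    rw [ev_mul, ev_mul, ha, hb]
  · intro a b ha hb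
    rw [ev_add, ev_add, ha, hb]

theorem gaFn_surjective {X : Over S} : Function.Surjective (Red.gaFn (X := X)) := by
  intro r
  letI : Algebra (ULift.{u} ℤ) Γ(X.left, ⊤) := ULift.algebra' ℤ _
  let φ : SymmetricAlgebra (ULift.{u} ℤ) (ULift.{u} ℤ) →ₐ[ULift.{u} ℤ] Γ(X.left, ⊤) :=
    SymmetricAlgebra.lift (LinearMap.toSpanSingleton (ULift.{u} ℤ) _ r)
  obtain ⟨a, ha⟩ := exists_point X.left (CommRingCat.ofHom φ.toRingHom)
  obtain ⟨x, hx⟩ := exists_over_point (IsTerminal.from specULiftZIsTerminal S) a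
    (specULiftZIsTerminal.hom_ext _ _)
  refine ⟨x, ?_⟩
  have h1 : Red.gaFn x = ev (x.left ≫ pullback.fst _ _)
      (SymmetricAlgebra.ι (ULift.{u} ℤ) (ULift.{u} ℤ) (ULift.up 1)) := rfl
  rw [h1]
  refine (congrArg (fun m => ev m (SymmetricAlgebra.ι (ULift.{u} ℤ) (ULift.{u} ℤ) (ULift.up 1)))
    hx).trans ((ha _).trans ?_)
  simp [φ, SymmetricAlgebra.lift_ι_apply]

theorem isUnit_gmFn {X : Over S} (z : X ⟶ Red.Gm S) : IsUnit (Red.gmFn z) := by
  have h1 : Red.gmFn z = ev (z.left ≫ pullback.fst _ _)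
      (MonoidAlgebra.single (Multiplicative.ofAdd (1 : ℤ)) (1 : ULift.{u} ℤ)) := rfl
  rw [h1]
  refine IsUnit.of_mul_eq_one (ev (z.left ≫ pullback.fst _ _)
      (MonoidAlgebra.single (Multiplicative.ofAdd (-1 : ℤ)) (1 : ULift.{u} ℤ))) ?_
  rw [← ev_mul, MonoidAlgebra.single_mul_single]
  have : (MonoidAlgebra.single (Multiplicative.ofAdd (1 : ℤ) * Multiplicative.ofAdd (-1 : ℤ))
      ((1 : ULift.{u} ℤ) * 1) : MonoidAlgebra (ULift.{u} ℤ) (Multiplicative ℤ)) = 1 := by
    rw [← ofAdd_add]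
    simp [MonoidAlgebra.one_def]
  rw [this]
  exact ev_one _

theorem gmFn_injective {X : Over S} : Function.Injective (Red.gmFn (X := X)) := by
  intro x y h
  apply over_point_ext
  apply point_ext
  intro s
  have := ringHom_ext_monoidAlgebra
    ((Scheme.ΓSpecIso _).inv ≫ (x.left ≫ pullback.fst _ _).appTop).hom
    ((Scheme.ΓSpecIso _).inv ≫ (y.left ≫ pullback.fst _ _).appTop).hom h
  exact congrArg (fun θ => θ s) this

theorem gmFn_surjective {X : Over S} (r : Γ(X.left, ⊤)) (hr : IsUnit r) :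
    ∃ z : X ⟶ Red.Gm S, Red.gmFn z = r := by
  obtain ⟨v, rfl⟩ := hr
  letI : Algebra (ULift.{u} ℤ) Γ(X.left, ⊤) := ULift.algebra' ℤ _
  let φ : MonoidAlgebra (ULift.{u} ℤ) (Multiplicative ℤ) →ₐ[ULift.{u} ℤ] Γ(X.left, ⊤) :=
    MonoidAlgebra.lift _ _ _ ((Units.coeHom _).comp (zpowersHom _ v))
  obtain ⟨a, ha⟩ := exists_point X.left (CommRingCat.ofHom φ.toRingHom)
  obtain ⟨x, hx⟩ := exists_over_point (R := .of (ULift.{u} ℤ))
    (A := .of (MonoidAlgebra (ULift.{u} ℤ) (Multiplicative ℤ)))
    (IsTerminal.from specULiftZIsTerminal S) a (specULiftZIsTerminal.hom_ext _ _)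
  refine ⟨x, ?_⟩
  have h1 : Red.gmFn x = ev (x.left ≫ pullback.fst _ _)
      (MonoidAlgebra.single (Multiplicative.ofAdd (1 : ℤ)) (1 : ULift.{u} ℤ)) := rfl
  rw [h1]
  refine (congrArg (fun m => ev m (MonoidAlgebra.single (Multiplicative.ofAdd (1 : ℤ))
    (1 : ULift.{u} ℤ))) hx).trans ((ha _).trans ?_)
  simp [φ, MonoidAlgebra.lift_single]

end GaGm

end Groth.Agent.Lib.RedDictH8
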