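import Groth.Agent.Lib.TorsorSeq_lead
import Groth.Agent.Lib.RedDict_helper8

/-! # Functions on the base of an fpqc torsor are the invariant functions (lead) -/

set_option linter.unusedSimpArgs false
set_option linter.unusedVariables false
set_option linter.unusedSectionVars false
set_option linter.style.longLine false
set_option maxHeartbeats 800000

universe u

open CategoryTheory CategoryTheory.Limits MonoidalCategory CartesianMonoidalCategory MonObj GrpObj
  AlgebraicGeometry Opposite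

namespace Groth.Agent.Lib.TorsorInv

open SchFpqcCovH7 Groth.Agent.Lib.TorsorSeq Groth.Agent.Lib.RedDictH8

variable {S : Scheme.{u}}

theorem gaFn_comp {T T' : Over S} (g : T' ⟶ T) (x : T ⟶ Red.Ga S) :
    Red.gaFn (g ≫ x) = g.left.appTop.hom (Red.gaFn x) := by
  have h1 : ∀ {W : Over S} (y : W ⟶ Red.Ga S), Red.gaFn y = ev (y.left ≫ pullback.fst _ _)
      (SymmetricAlgebra.ι (ULift.{u} ℤ) (ULift.{u} ℤ) (ULift.up 1)) := fun y => rfl
  rw [h1, h1, Over.comp_left, Category.assoc, ev_comp]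

theorem invariants {G X : Over S} [GrpObj G] (a : AlgGrp.Action G X)
    (ha : NonAbH1.IsTorsorFor Scheme.fpqcPrecoverage a) :
    Function.Injective X.hom.appTop.hom ∧
      ∀ s : Γ(X.left, ⊤), s ∈ Set.range X.hom.appTop.hom ↔
        a.act.left.appTop.hom s = (snd G X).left.appTop.hom s := by
  obtain ⟨hps, hloc⟩ := ha
  haveI : IsIso (lift a.act (snd G X)) := hps
  have hcov : IsCov X.hom := isCov_of_locallyTrivial _ hloc
  haveI : Epi (toUnit X) := epi_of_isCov (toUnit X) hcov
  have key : ∀ ρ : 𝟙_ (Over S) ⟶ Red.Ga S,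
      Red.gaFn (toUnit X ≫ ρ) = X.hom.appTop.hom (Red.gaFn ρ) := fun ρ => gaFn_comp (toUnit X) ρ
  constructor
  · intro r r' h
    obtain ⟨ρ, hρ⟩ := gaFn_surjective (S := S) (X := 𝟙_ (Over S)) r
    obtain ⟨ρ', hρ'⟩ := gaFn_surjective (S := S) (X := 𝟙_ (Over S)) r'
    have h' : Red.gaFn (toUnit X ≫ ρ) = Red.gaFn (toUnit X ≫ ρ') := by
      rw [key, key, hρ, hρ']
      exact h
    have h2 := gaFn_injective h'
    rw [cancel_epi] at h2
    rw [← hρ, ← hρ', h2]
  · intro s
    obtain ⟨σ, rfl⟩ := gaFn_surjective (S := S) (X := X) s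
    constructor
    · rintro ⟨r, hr⟩
      obtain ⟨ρ, hρ⟩ := gaFn_surjective (S := S) (X := 𝟙_ (Over S)) r
      have h1 : toUnit X ≫ ρ = σ := by
        apply gaFn_injective
        rw [key, hρ]
        exact hr
      have e : a.act ≫ σ = snd G X ≫ σ := by
        rw [← h1, ← Category.assoc, ← Category.assoc]
        exact congrArg (fun k => k ≫ ρ) (toUnit_unique _ _)
      exact (gaFn_comp a.act σ).symm.trans ((congrArg Red.gaFn e).trans (gaFn_comp (snd G X) σ))
    · intro h
      have h' : a.act ≫ σ = snd G X ≫ σ :=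
        gaFn_injective ((gaFn_comp a.act σ).trans (h.trans (gaFn_comp (snd G X) σ).symm))
      obtain ⟨ρ, hρ⟩ := desc_of_isCov (toUnit X) hcov σ (by
        intro T x₁ x₂ _
        have h1 := dif_spec a.act x₁ x₂
        calc x₁ ≫ σ = (lift (dif a.act x₁ x₂) x₂ ≫ a.act) ≫ σ := by rw [h1]
          _ = lift (dif a.act x₁ x₂) x₂ ≫ snd G X ≫ σ := by rw [Category.assoc, h']
          _ = x₂ ≫ σ := by rw [lift_snd_assoc])
      exact ⟨Red.gaFn ρ, (key ρ).symm.trans (congrArg Red.gaFn hρ)⟩

end Groth.Agent.Lib.TorsorInv
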