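import Groth.Agent.Lib.DSDict_lead
import Groth.Agent.Lib.TorsorInv_lead
import Groth.Prelude.Def_TwC

/-! # The Artin–Schreier sequence of group schemes (lead) -/

set_option linter.unusedSimpArgs false
set_option linter.unusedVariables false
set_option linter.unusedSectionVars false
set_option linter.style.longLine false
set_option maxHeartbeats 800000

universe u

open CategoryTheory CategoryTheory.Limits MonoidalCategory CartesianMonoidalCategory MonObj GrpObj
  AlgebraicGeometry Opposite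

namespace Groth.Agent.Lib.ArtinSchreier

open Groth.Agent.Lib.RedDictH8 Groth.Agent.Lib.DSDict Groth.Agent.Lib.TorsorInv

section ring

open Polynomial in
theorem prod_X_sub_C_zmod (p : ℕ) [Fact p.Prime] :
    ∏ m : ZMod p, (X - C m) = (X ^ p - X : (ZMod p)[X]) := by
  have hp1 : 1 < p := (Fact.out : p.Prime).one_lt
  have hroots : (X ^ p - X : (ZMod p)[X]).roots = Finset.univ.val := by
    have h := FiniteField.roots_X_pow_card_sub_X (ZMod p)
    rwa [ZMod.card] at h
  have hmon : (X ^ p - X : (ZMod p)[X]).Monic :=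
    Polynomial.monic_X_pow_sub (by rw [degree_X]; exact_mod_cast hp1)
  have hdeg : (X ^ p - X : (ZMod p)[X]).natDegree = p :=
    FiniteField.X_pow_card_sub_X_natDegree_eq (ZMod p) hp1
  have hcard : Multiset.card (X ^ p - X : (ZMod p)[X]).roots = (X ^ p - X : (ZMod p)[X]).natDegree := by
    rw [hroots, hdeg]
    exact (Finset.card_univ).trans (ZMod.card p)
  have h := Polynomial.prod_multiset_X_sub_C_of_monic_of_roots_card_eq hmon hcard
  rw [hroots] at h
  exact h

variable {p : ℕ} [Fact p.Prime] {R : Type*} [CommRing R] (φ : ZMod p →+* R)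

theorem prod_sub_eq (a : R) : ∏ m : ZMod p, (a - φ m) = a ^ p - a := by
  have h := congrArg (Polynomial.eval₂ φ a) (prod_X_sub_C_zmod p)
  rw [Polynomial.eval₂_finsetProd] at h
  simpa only [Polynomial.eval₂_sub, Polynomial.eval₂_X, Polynomial.eval₂_C,
    Polynomial.eval₂_pow] using h

include φ in
theorem natCast_p_eq_zero : (p : R) = 0 := by
  have h := map_natCast φ p
  rw [ZMod.natCast_self, map_zero] at h
  exact h.symm

theorem map_pow_card (m : ZMod p) : (φ m) ^ p = φ m := by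
  rw [← map_pow, ZMod.pow_card]

theorem isUnit_map_sub {m m' : ZMod p} (h : m ≠ m') : IsUnit (φ m - φ m') := by
  rw [← map_sub]
  exact (isUnit_iff_ne_zero.2 (sub_ne_zero.2 h)).map φ

include φ in
theorem sub_pow_add (x y : R) : (x + y) - (x + y) ^ p = (x - x ^ p) + (y - y ^ p) := by
  obtain ⟨r, hr⟩ := exists_add_pow_prime_eq (Fact.out : p.Prime) x y
  rw [hr, natCast_p_eq_zero φ]
  ring

theorem exists_all_other_units {A : Type*} [CommRing A] [IsLocalRing A] {I : Type*} [Fintype I]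
    [DecidableEq I] (c : I → A) (hprod : ∏ m, c m = 0)
    (hdiff : ∀ m m', m ≠ m' → IsUnit (c m - c m')) :
    ∃ m, IsUnit (∏ m' ∈ Finset.univ.erase m, c m') := by
  have h1 : ∃ m, ¬ IsUnit (c m) := by
    by_contra hcon
    push Not at hcon
    have h2 : IsUnit (∏ m, c m) := IsUnit.prod_univ_iff.2 hcon
    rw [hprod] at h2
    exact not_isUnit_zero h2
  obtain ⟨m, hm⟩ := h1
  refine ⟨m, IsUnit.prod_iff.2 (fun m' hm' => ?_)⟩
  have hne : m' ≠ m := Finset.ne_of_mem_erase hm'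
  have hu := hdiff m' m hne
  rw [sub_eq_add_neg] at hu
  rcases IsLocalRing.isUnit_or_isUnit_of_isUnit_add hu with h | h
  · exact h
  · exact absurd ((IsUnit.neg_iff _).1 h) hm

end ring

section scheme

theorem isUnit_of_basicOpen_eq_top {Y : Scheme.{u}} (r : Γ(Y, ⊤)) (h : Y.basicOpen r = ⊤) :
    IsUnit r := by
  refine Y.toLocallyRingedSpace.toRingedSpace.isUnit_of_isUnit_germ ⊤ r (fun x hx => ?_)
  have hx' : x ∈ Y.basicOpen r := by
    rw [h]
    trivial
  exact (Y.mem_basicOpen_top r x).1 hx'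

theorem isUnit_ι_appTop_basicOpen {X : Scheme.{u}} (f : Γ(X, ⊤)) :
    IsUnit ((X.basicOpen f).ι.appTop.hom f) := by
  apply isUnit_of_basicOpen_eq_top
  have h := Scheme.preimage_basicOpen_top (X.basicOpen f).ι f
  exact h.symm.trans (X.basicOpen f).ι_preimage_self

theorem isEmpty_of_isUnit_zero {B : Scheme.{u}} (h : IsUnit (0 : Γ(B, ⊤))) : IsEmpty B := by
  have h1 : B.basicOpen (0 : Γ(B, ⊤)) = ⊤ := Scheme.basicOpen_of_isUnit B h
  rw [Scheme.basicOpen_zero] at h1
  refine ⟨fun x => ?_⟩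
  have h2 : x ∈ (⊤ : B.Opens) := trivial
  rw [← h1] at h2
  simpa using h2

theorem hom_ext_of_cover {X Y : Scheme.{u}} {I : Type*} (U : I → X.Opens)
    (hU : TopologicalSpace.IsOpenCover U) (f₁ f₂ : X ⟶ Y)
    (h : ∀ m, (U m).ι ≫ f₁ = (U m).ι ≫ f₂) : f₁ = f₂ :=
  Scheme.Cover.hom_ext (X.openCoverOfIsOpenCover U hU) f₁ f₂ h

theorem exists_glue {X Y : Scheme.{u}} {I : Type*} (U : I → X.Opens)
    (hU : TopologicalSpace.IsOpenCover U)
    (hdisj : ∀ m m', m ≠ m' → U m ⊓ U m' = ⊥) (f : ∀ m, (U m : Scheme.{u}) ⟶ Y) :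
    ∃ F : X ⟶ Y, ∀ m, (U m).ι ≫ F = f m := by
  classical
  let 𝒰 := X.openCoverOfIsOpenCover U hU
  have hcompat : ∀ x y : I, pullback.fst (𝒰.f x) (𝒰.f y) ≫ f x =
      pullback.snd (𝒰.f x) (𝒰.f y) ≫ f y := by
    intro x y
    by_cases hxy : x = y
    · subst hxy
      have h1 : pullback.fst (𝒰.f x) (𝒰.f x) = pullback.snd (𝒰.f x) (𝒰.f x) :=
        (cancel_mono (U x).ι).1 pullback.condition
      rw [h1]
    · haveI : IsEmpty ↑(pullback (𝒰.f x) (𝒰.f y)) := by
        refine Scheme.isEmpty_of_commSq (f := (U x).ι) (g := (U y).ι) ⟨pullback.condition⟩ ?_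
        rw [Scheme.Opens.range_ι, Scheme.Opens.range_ι, Set.disjoint_iff_inter_eq_empty,
          ← TopologicalSpace.Opens.coe_inf, hdisj x y hxy]
        rfl
      exact isInitialOfIsEmpty.hom_ext _ _
  exact ⟨𝒰.glueMorphisms f hcompat, fun m => 𝒰.ι_glueMorphisms f hcompat m⟩

variable {p : ℕ} [Fact p.Prime]

theorem exists_decomp {X : Scheme.{u}} (φ : ZMod p →+* Γ(X, ⊤)) (a : Γ(X, ⊤))
    (haa : a ^ p - a = 0) :
    ∃ U : ZMod p → X.Opens, TopologicalSpace.IsOpenCover U ∧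
      (∀ m m', m ≠ m' → U m ⊓ U m' = ⊥) ∧
      ∀ m, (U m).ι.appTop.hom a = (U m).ι.appTop.hom (φ m) := by
  obtain ⟨b, hb⟩ : ∃ b : ZMod p → Γ(X, ⊤), ∀ m, b m = a - φ m := ⟨fun m => a - φ m, fun _ => rfl⟩
  have hprod : ∏ m, b m = 0 :=
    (Finset.prod_congr rfl (fun m _ => hb m)).trans ((prod_sub_eq φ a).trans haa)
  obtain ⟨g, hg⟩ : ∃ g : ZMod p → Γ(X, ⊤), ∀ m, g m = ∏ m' ∈ Finset.univ.erase m, b m' :=
    ⟨fun m => ∏ m' ∈ Finset.univ.erase m, b m', fun _ => rfl⟩
  have hbg : ∀ m, b m * g m = 0 := by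
    intro m
    rw [hg]
    exact (Finset.mul_prod_erase Finset.univ b (Finset.mem_univ m)).trans hprod
  have hgg : ∀ m m', m ≠ m' → g m * g m' = 0 := by
    intro m m' hne
    have hdvd : b m' ∣ g m := by
      rw [hg]
      exact Finset.dvd_prod_of_mem b (Finset.mem_erase.2 ⟨hne.symm, Finset.mem_univ _⟩)
    obtain ⟨c, hc⟩ := hdvd
    rw [hc, mul_right_comm, hbg, zero_mul]
  refine ⟨fun m => X.basicOpen (g m), ?_, ?_, ?_⟩
  · apply TopologicalSpace.IsOpenCover.mk
    apply eq_top_iff.2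
    intro x _
    rw [TopologicalSpace.Opens.mem_iSup]
    let gm : Γ(X, ⊤) →+* (X.presheaf.stalk x) := (X.presheaf.germ ⊤ x trivial).hom
    have key := exists_all_other_units (fun m => gm (b m))
      ((map_prod gm b Finset.univ).symm.trans (by rw [hprod, map_zero])) (by
        intro m m' hne
        have h1 : gm (b m) - gm (b m') = gm (φ m' - φ m) := by
          rw [← map_sub, hb, hb]
          congr 1
          ring
        show IsUnit (gm (b m) - gm (b m'))
        rw [h1]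
        exact (isUnit_map_sub φ hne.symm).map gm)
    obtain ⟨m, hm⟩ := key
    refine ⟨m, ?_⟩
    show x ∈ X.basicOpen (g m)
    rw [Scheme.mem_basicOpen_top]
    have h2 : gm (g m) = ∏ m' ∈ Finset.univ.erase m, gm (b m') := by
      rw [hg]
      exact map_prod gm _ _
    have h3 : IsUnit (gm (g m)) := by
      rw [h2]
      exact hm
    exact h3
  · intro m m' hne
    show X.basicOpen (g m) ⊓ X.basicOpen (g m') = ⊥
    rw [← Scheme.basicOpen_mul, hgg m m' hne, Scheme.basicOpen_zero]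
  · intro m
    show (X.basicOpen (g m)).ι.appTop.hom a = (X.basicOpen (g m)).ι.appTop.hom (φ m)
    have hu : IsUnit ((X.basicOpen (g m)).ι.appTop.hom (g m)) := isUnit_ι_appTop_basicOpen (g m)
    have h0 : (X.basicOpen (g m)).ι.appTop.hom (b m) * (X.basicOpen (g m)).ι.appTop.hom (g m) = 0 := by
      rw [← map_mul, hbg, map_zero]
    have h1 : (X.basicOpen (g m)).ι.appTop.hom (b m) = 0 := (hu.mul_left_eq_zero).1 h0
    rw [hb, map_sub] at h1
    exact sub_eq_zero.1 h1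

end scheme

section const

variable {S : Scheme.{u}}

theorem const_hom_ext {M : Type*} [Small.{u} M] {X : Over S} (f g : TwC.const S M ⟶ X)
    (h : ∀ m, TwC.pt S M m ≫ f = TwC.pt S M m ≫ g) : f = g := by
  apply Over.OverMorphism.ext
  refine Sigma.hom_ext _ _ (fun m => ?_)
  exact congrArg (fun k => k.left) (h m)

theorem comp_eq_pt {M : Type*} [Small.{u} M] {T : Over S} (w : T ⟶ TwC.const S M)
    {B : Scheme.{u}} (j : B ⟶ T.left) (q : B ⟶ S) (m : M)
    (h : j ≫ w.left = q ≫ Sigma.ι (fun _ : M => S) m) :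
    (Over.homMk j rfl : Over.mk (j ≫ T.hom) ⟶ T) ≫ w =
      toUnit (Over.mk (j ≫ T.hom)) ≫ TwC.pt S M m := by
  have hq : q = j ≫ T.hom := by
    have h1 : w.left ≫ Sigma.desc (fun _ : M => 𝟙 S) = T.hom := Over.w w
    have h2 := congrArg (fun k => k ≫ Sigma.desc (fun _ : M => 𝟙 S)) h
    simp only [Category.assoc, Sigma.ι_desc, Category.comp_id] at h2
    rw [h1] at h2
    exact h2.symm
  apply Over.OverMorphism.ext
  show j ≫ w.left = (j ≫ T.hom) ≫ Sigma.ι (fun _ : M => S) m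
  rw [h, hq]

end const

section AS

variable {S : Scheme.{u}} {p : ℕ} [Fact p.Prime]

theorem gaFn_one {T : Over S} : Red.gaFn (1 : T ⟶ Red.Ga S) = 0 := by
  have h := gaFn_mul (1 : T ⟶ Red.Ga S) 1
  rw [_root_.mul_one (M := T ⟶ Red.Ga S) 1] at h
  simpa using h

theorem gaFn_inv {T : Over S} (x : T ⟶ Red.Ga S) : Red.gaFn x⁻¹ = - Red.gaFn x := by
  have h := gaFn_mul x x⁻¹
  rw [mul_inv_cancel, gaFn_one] at h
  exact eq_neg_of_add_eq_zero_right h.symm

/-- The ring homomorphism `𝔽_p → Γ(S)` over a base of characteristic `p`. -/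
noncomputable def phi0 (hp : (p : Γ(S, ⊤)) = 0) : ZMod p →+* Γ((𝟙_ (Over S)).left, ⊤) :=
  ZMod.castHom (ringChar.dvd (show ((p : ℕ) : Γ((𝟙_ (Over S)).left, ⊤)) = 0 from hp)) _

/-- The ring homomorphism `𝔽_p → Γ(T)` for an `S`-scheme `T`. -/
noncomputable def phiT (hp : (p : Γ(S, ⊤)) = 0) (T : Over S) : ZMod p →+* Γ(T.left, ⊤) :=
  ((toUnit T).left.appTop.hom).comp (phi0 hp)

variable (hp : (p : Γ(S, ⊤)) = 0) (F : Red.Ga S ⟶ Red.Ga S)
  (hF : ∀ (T : Over S) (x : T ⟶ Red.Ga S), Red.gaFn (x ≫ F) = Red.gaFn x ^ p)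

include hF in
theorem gaFn_comp_P {T : Over S} (x : T ⟶ Red.Ga S) :
    Red.gaFn (x ≫ (𝟙 (Red.Ga S) * F⁻¹)) = Red.gaFn x - Red.gaFn x ^ p := by
  rw [MonObj.comp_mul, GrpObj.comp_inv, Category.comp_id, gaFn_mul, gaFn_inv, hF, sub_eq_add_neg]

include hp hF in
theorem isMonHom_P : IsMonHom (𝟙 (Red.Ga S) * F⁻¹) := by
  apply isMonHom_of_pointwise
  intro T x y
  apply gaFn_injective
  rw [gaFn_comp_P F hF, gaFn_mul, gaFn_mul, gaFn_comp_P F hF, gaFn_comp_P F hF]
  exact sub_pow_add (phiT hp T) _ _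

variable {G' : Over S} [GrpObj G'] (e : G' ≅ TwC.const S (Multiplicative (ZMod p)))
  (he : TwC.IsConstGrp (Multiplicative (ZMod p)) G' e)
  (i : G' ⟶ Red.Ga S) [hmon : IsMonHom i]
  (hi : Red.gaFn (TwC.pt S (Multiplicative (ZMod p)) (Multiplicative.ofAdd 1) ≫ e.inv ≫ i) = 1)

/-- The `S`-point of `G_a` which is the image of the point of index `m`. -/
noncomputable def sec (m : Multiplicative (ZMod p)) : 𝟙_ (Over S) ⟶ Red.Ga S :=
  TwC.pt S (Multiplicative (ZMod p)) m ≫ e.inv ≫ i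

include he hmon in
theorem gaFn_sec_add (m n : ZMod p) :
    Red.gaFn (sec e i (Multiplicative.ofAdd (m + n))) =
      Red.gaFn (sec e i (Multiplicative.ofAdd m)) + Red.gaFn (sec e i (Multiplicative.ofAdd n)) := by
  have h := congrArg (fun k => k ≫ i) (he (Multiplicative.ofAdd m) (Multiplicative.ofAdd n))
  rw [MonObj.mul_comp _ _ i] at h
  simp only [Category.assoc] at h
  rw [← gaFn_mul]
  exact congrArg Red.gaFn h.symm

include he hi hmon in
theorem gaFn_sec (m : Multiplicative (ZMod p)) :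
    Red.gaFn (sec e i m) = phi0 hp (Multiplicative.toAdd m) := by
  let θ : ZMod p →+ Γ((𝟙_ (Over S)).left, ⊤) :=
    AddMonoidHom.mk' (fun k => Red.gaFn (sec e i (Multiplicative.ofAdd k))) (gaFn_sec_add e he i)
  have h1 : θ 1 = 1 := hi
  have key : ∀ k : ZMod p, θ k = phi0 hp k := by
    intro k
    calc θ k = θ ((k.val : ℕ) : ZMod p) := by rw [ZMod.natCast_zmod_val]
      _ = ((k.val : ℕ) : Γ((𝟙_ (Over S)).left, ⊤)) := map_natCast' θ h1 k.val
      _ = phi0 hp ((k.val : ℕ) : ZMod p) := (map_natCast (phi0 hp) k.val).symm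
      _ = phi0 hp k := by rw [ZMod.natCast_zmod_val]
  exact key (Multiplicative.toAdd m)

theorem G'_hom_ext {X : Over S} (f g : G' ⟶ X)
    (h : ∀ m, TwC.pt S (Multiplicative (ZMod p)) m ≫ e.inv ≫ f =
      TwC.pt S (Multiplicative (ZMod p)) m ≫ e.inv ≫ g) : f = g := by
  have h1 : e.inv ≫ f = e.inv ≫ g := const_hom_ext _ _ h
  exact (cancel_epi e.inv).1 h1

include hp hF he hi hmon in
theorem comp_eq_one : i ≫ (𝟙 (Red.Ga S) * F⁻¹) = 1 := by
  apply G'_hom_ext e
  intro m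
  have h1 : TwC.pt S (Multiplicative (ZMod p)) m ≫ e.inv ≫ i ≫ (𝟙 (Red.Ga S) * F⁻¹) =
      sec e i m ≫ (𝟙 (Red.Ga S) * F⁻¹) := by
    unfold sec
    simp only [Category.assoc]
  rw [h1, MonObj.comp_one, MonObj.comp_one]
  apply gaFn_injective
  rw [gaFn_comp_P F hF, gaFn_sec hp e he i hi, gaFn_one, map_pow_card, sub_self]

include hp he hi hmon in
theorem hinj' (T : Over S) (w w' : T ⟶ TwC.const S (Multiplicative (ZMod p)))
    (h : w ≫ e.inv ≫ i = w' ≫ e.inv ≫ i) : w = w' := by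
  apply Over.OverMorphism.ext
  let 𝒰 := (sigmaOpenCover (fun _ : Multiplicative (ZMod p) => S)).pullback₁ w.left
  refine Scheme.Cover.hom_ext 𝒰 _ _ (fun (m : Multiplicative (ZMod p)) => ?_)
  let 𝒱 := (sigmaOpenCover (fun _ : Multiplicative (ZMod p) => S)).pullback₁ (𝒰.f m ≫ w'.left)
  refine Scheme.Cover.hom_ext 𝒱 _ _ (fun (m' : Multiplicative (ZMod p)) => ?_)
  have hc1 : 𝒰.f m ≫ w.left =
      pullback.snd w.left (Sigma.ι (fun _ : Multiplicative (ZMod p) => S) m) ≫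
        Sigma.ι (fun _ : Multiplicative (ZMod p) => S) m := pullback.condition
  have hc2 : 𝒱.f m' ≫ (𝒰.f m ≫ w'.left) =
      pullback.snd (𝒰.f m ≫ w'.left) (Sigma.ι (fun _ : Multiplicative (ZMod p) => S) m') ≫
        Sigma.ι (fun _ : Multiplicative (ZMod p) => S) m' := pullback.condition
  have h1 : (𝒱.f m' ≫ 𝒰.f m) ≫ w.left =
      (𝒱.f m' ≫ pullback.snd w.left (Sigma.ι (fun _ : Multiplicative (ZMod p) => S) m)) ≫
        Sigma.ι (fun _ : Multiplicative (ZMod p) => S) m := by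
    rw [Category.assoc, Category.assoc, hc1]
    rfl
  have h2 : (𝒱.f m' ≫ 𝒰.f m) ≫ w'.left =
      pullback.snd (𝒰.f m ≫ w'.left) (Sigma.ι (fun _ : Multiplicative (ZMod p) => S) m') ≫
        Sigma.ι (fun _ : Multiplicative (ZMod p) => S) m' := by
    rw [Category.assoc, hc2]
  let TB : Over S := Over.mk ((𝒱.f m' ≫ 𝒰.f m) ≫ T.hom)
  let jB : TB ⟶ T := Over.homMk (𝒱.f m' ≫ 𝒰.f m) rfl
  have e1 : jB ≫ w = toUnit TB ≫ TwC.pt S (Multiplicative (ZMod p)) m :=
    comp_eq_pt w _ _ m h1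
  have e2 : jB ≫ w' = toUnit TB ≫ TwC.pt S (Multiplicative (ZMod p)) m' :=
    comp_eq_pt w' _ _ m' h2
  by_cases hmm : m = m'
  · have e2' : jB ≫ w' = toUnit TB ≫ TwC.pt S (Multiplicative (ZMod p)) m := by
      rw [e2, hmm]
    have h3 : (𝒱.f m' ≫ 𝒰.f m) ≫ w.left = (𝒱.f m' ≫ 𝒰.f m) ≫ w'.left :=
      congrArg (fun k => k.left) (e1.trans e2'.symm)
    rw [Category.assoc, Category.assoc] at h3
    exact h3
  · have h4 : toUnit TB ≫ sec e i m = toUnit TB ≫ sec e i m' :=
      calc toUnit TB ≫ sec e i m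
          = (toUnit TB ≫ TwC.pt S (Multiplicative (ZMod p)) m) ≫ e.inv ≫ i :=
            (Category.assoc _ _ _).symm
        _ = (jB ≫ w) ≫ e.inv ≫ i := by rw [e1]
        _ = jB ≫ (w ≫ e.inv ≫ i) := Category.assoc _ _ _
        _ = jB ≫ (w' ≫ e.inv ≫ i) := by rw [h]
        _ = (jB ≫ w') ≫ e.inv ≫ i := (Category.assoc _ _ _).symm
        _ = (toUnit TB ≫ TwC.pt S (Multiplicative (ZMod p)) m') ≫ e.inv ≫ i := by rw [e2]
        _ = toUnit TB ≫ sec e i m' := Category.assoc _ _ _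
    have h5 := congrArg Red.gaFn h4
    rw [gaFn_comp, gaFn_comp, gaFn_sec hp e he i hi, gaFn_sec hp e he i hi] at h5
    have hu := isUnit_map_sub (phiT hp TB)
      (fun hh => hmm (Multiplicative.toAdd.injective hh))
    have h6 : phiT hp TB (Multiplicative.toAdd m) - phiT hp TB (Multiplicative.toAdd m') = 0 :=
      sub_eq_zero.2 h5
    rw [h6] at hu
    haveI : IsEmpty ↑(𝒱.X m') := isEmpty_of_isUnit_zero hu
    exact isInitialOfIsEmpty.hom_ext _ _

include hp hF he hi hmon in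
theorem hex' (T : Over S) (ζ : T ⟶ Red.Ga S) (hζ : ζ ≫ (𝟙 (Red.Ga S) * F⁻¹) = 1) :
    ∃ w : T ⟶ TwC.const S (Multiplicative (ZMod p)), w ≫ e.inv ≫ i = ζ := by
  have haa : Red.gaFn ζ ^ p - Red.gaFn ζ = 0 := by
    have h1 := congrArg Red.gaFn hζ
    rw [gaFn_comp_P F hF, gaFn_one] at h1
    rw [← neg_sub, h1, neg_zero]
  obtain ⟨U, hU, hdisj, hUa⟩ := exists_decomp (phiT hp T) (Red.gaFn ζ) haa
  obtain ⟨z₀, hz₀⟩ := exists_glue U hU hdisj
    (fun m => (U m).ι ≫ T.hom ≫
      Sigma.ι (fun _ : Multiplicative (ZMod p) => S) (Multiplicative.ofAdd m))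
  have hover : z₀ ≫ (TwC.const S (Multiplicative (ZMod p))).hom = T.hom := by
    refine hom_ext_of_cover U hU _ _ (fun m => ?_)
    rw [← Category.assoc, hz₀ m]
    show ((U m).ι ≫ T.hom ≫ Sigma.ι (fun _ : Multiplicative (ZMod p) => S) _) ≫
      Sigma.desc (fun _ : Multiplicative (ZMod p) => 𝟙 S) = _
    simp only [Category.assoc, Sigma.ι_desc, Category.comp_id]
  refine ⟨Over.homMk z₀ hover, ?_⟩
  apply Over.OverMorphism.ext
  refine hom_ext_of_cover U hU _ _ (fun m => ?_)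
  let TU : Over S := Over.mk ((U m).ι ≫ T.hom)
  let jU : TU ⟶ T := Over.homMk (U m).ι rfl
  have e1 : jU ≫ (Over.homMk z₀ hover : T ⟶ TwC.const S (Multiplicative (ZMod p))) =
      toUnit TU ≫ TwC.pt S (Multiplicative (ZMod p)) (Multiplicative.ofAdd m) :=
    comp_eq_pt (Over.homMk z₀ hover) (U m).ι ((U m).ι ≫ T.hom) (Multiplicative.ofAdd m)
      ((hz₀ m).trans (Category.assoc _ _ _).symm)
  have e3 : jU ≫ (Over.homMk z₀ hover : T ⟶ TwC.const S (Multiplicative (ZMod p))) ≫ e.inv ≫ i =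
      jU ≫ ζ := by
    rw [← Category.assoc, e1, Category.assoc]
    apply gaFn_injective
    show Red.gaFn (toUnit TU ≫ sec e i (Multiplicative.ofAdd m)) = Red.gaFn (jU ≫ ζ)
    rw [gaFn_comp, gaFn_comp, gaFn_sec hp e he i hi]
    refine Eq.trans ?_ (hUa m).symm
    have h6 : (toUnit TU).left.appTop = (toUnit T).left.appTop ≫ (U m).ι.appTop := by
      show ((U m).ι ≫ T.hom).appTop = _
      exact Scheme.Hom.comp_appTop _ _
    rw [h6]
    rfl
  exact congrArg (fun k => k.left) e3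

end AS

section cover

variable {S : Scheme.{u}}

/-- Extracting a root of a monic polynomial of positive degree on an fppf cover. -/
theorem exists_monic_root_cover (T' : Over S) (f : Polynomial Γ(T'.left, ⊤)) (hmon : f.Monic)
    (hdeg : 0 < f.natDegree) :
    ∃ (T'' : Over S) (r : T'' ⟶ T'), Flat r.left ∧ LocallyOfFinitePresentation r.left ∧
      Surjective r.left ∧
      ∃ c : Γ(T''.left, ⊤), Polynomial.eval₂ r.left.appTop.hom c f = 0 := by
  let R : CommRingCat.{u} := Γ(T'.left, ⊤)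
  let φ : R ⟶ CommRingCat.of (AdjoinRoot f) :=
    CommRingCat.ofHom (algebraMap R (AdjoinRoot f))
  have hff : Module.FaithfullyFlat R (AdjoinRoot f) := by
    haveI : Nonempty (Fin (AdjoinRoot.powerBasis' hmon).dim) := by
      rw [AdjoinRoot.powerBasis'_dim]
      exact ⟨⟨0, hdeg⟩⟩
    exact Module.FaithfullyFlat.of_linearEquiv R
      (Fin (AdjoinRoot.powerBasis' hmon).dim →₀ R)
      (AdjoinRoot.powerBasis' hmon).basis.repr
  have hfs : Flat (Spec.map φ) ∧ Surjective (Spec.map φ) := by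
    rw [flat_and_surjective_SpecMap_iff]
    show (algebraMap R (AdjoinRoot f)).FaithfullyFlat
    rw [RingHom.faithfullyFlat_algebraMap_iff]
    exact hff
  have hfp : LocallyOfFinitePresentation (Spec.map φ) := by
    rw [LocallyOfFinitePresentation.SpecMap_iff]
    show (algebraMap R (AdjoinRoot f)).FinitePresentation
    rw [RingHom.finitePresentation_algebraMap]
    infer_instance
  let r₀ : pullback T'.left.toSpecΓ (Spec.map φ) ⟶ T'.left := pullback.fst _ _
  have hr1 : Flat r₀ := MorphismProperty.pullback_fst (P := @Flat) _ _ hfs.1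
  have hr2 : LocallyOfFinitePresentation r₀ :=
    MorphismProperty.pullback_fst (P := @LocallyOfFinitePresentation) _ _ hfp
  have hr3 : Surjective r₀ := MorphismProperty.pullback_fst (P := @Surjective) _ _ hfs.2
  have e : r₀.appTop = φ ≫ (Scheme.ΓSpecIso (CommRingCat.of (AdjoinRoot f))).inv ≫
      (pullback.snd T'.left.toSpecΓ (Spec.map φ)).appTop := by
    have h1 : T'.left.toSpecΓ.appTop ≫ r₀.appTop =
        (Spec.map φ).appTop ≫ (pullback.snd T'.left.toSpecΓ (Spec.map φ)).appTop := by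
      rw [← Scheme.Hom.comp_appTop, ← Scheme.Hom.comp_appTop]
      exact congrArg Scheme.Hom.appTop pullback.condition
    rw [Scheme.toSpecΓ_appTop] at h1
    rw [← Category.assoc, Scheme.ΓSpecIso_inv_naturality, Category.assoc, ← h1,
      Iso.inv_hom_id_assoc]
  let ψ : AdjoinRoot f →+* Γ(pullback T'.left.toSpecΓ (Spec.map φ), ⊤) :=
    ((pullback.snd T'.left.toSpecΓ (Spec.map φ)).appTop.hom).comp
      (Scheme.ΓSpecIso (CommRingCat.of (AdjoinRoot f))).inv.hom
  have hψ : r₀.appTop.hom = ψ.comp (algebraMap R (AdjoinRoot f)) := by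
    rw [e]
    rfl
  refine ⟨Over.mk (r₀ ≫ T'.hom), Over.homMk r₀ rfl, hr1, hr2, hr3, ψ (AdjoinRoot.root f), ?_⟩
  show Polynomial.eval₂ r₀.appTop.hom (ψ (AdjoinRoot.root f)) f = 0
  rw [hψ, ← Polynomial.hom_eval₂]
  have h0 : Polynomial.eval₂ (algebraMap R (AdjoinRoot f)) (AdjoinRoot.root f) f = 0 :=
    AdjoinRoot.eval₂_root f
  rw [h0, map_zero]

/-- An Artin–Schreier root on an fppf cover. -/
theorem exists_AS_cover (p : ℕ) (hp1 : 1 < p) (T' : Over S) (v : Γ(T'.left, ⊤)) :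
    ∃ (T'' : Over S) (r : T'' ⟶ T'), Flat r.left ∧ LocallyOfFinitePresentation r.left ∧
      Surjective r.left ∧
      ∃ c : Γ(T''.left, ⊤), c - c ^ p = r.left.appTop.hom v := by
  rcases subsingleton_or_nontrivial Γ(T'.left, ⊤) with hsub | hnt
  · refine ⟨T', 𝟙 T', ?_, ?_, ?_, 0, ?_⟩
    · show Flat (𝟙 T'.left)
      infer_instance
    · show LocallyOfFinitePresentation (𝟙 T'.left)
      infer_instance
    · show Surjective (𝟙 T'.left)
      infer_instance
    · have h1 : (0 : Γ(T'.left, ⊤)) - 0 ^ p = v := Subsingleton.elim _ _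
      rw [h1]
      rfl
  · have hlt : (Polynomial.X - Polynomial.C v : Polynomial Γ(T'.left, ⊤)).degree < (p : WithBot ℕ) :=
      lt_of_le_of_lt (Polynomial.degree_X_sub_C_le v) (by exact_mod_cast hp1)
    have hmon : (Polynomial.X ^ p - (Polynomial.X - Polynomial.C v) :
        Polynomial Γ(T'.left, ⊤)).Monic := Polynomial.monic_X_pow_sub hlt
    have hdeg : (Polynomial.X ^ p - (Polynomial.X - Polynomial.C v) :
        Polynomial Γ(T'.left, ⊤)).natDegree = p := by
      have h1 : (Polynomial.X - Polynomial.C v : Polynomial Γ(T'.left, ⊤)).natDegree <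
          ((Polynomial.X : Polynomial Γ(T'.left, ⊤)) ^ p).natDegree := by
        rw [Polynomial.natDegree_X_pow]
        exact lt_of_le_of_lt (Polynomial.natDegree_X_sub_C_le v) hp1
      rw [Polynomial.natDegree_sub_eq_left_of_natDegree_lt h1, Polynomial.natDegree_X_pow]
    obtain ⟨T'', r, hr1, hr2, hr3, c, hc⟩ := exists_monic_root_cover T' _ hmon
      (by rw [hdeg]; exact lt_trans Nat.zero_lt_one hp1)
    refine ⟨T'', r, hr1, hr2, hr3, c, ?_⟩
    simp only [Polynomial.eval₂_sub, Polynomial.eval₂_X, Polynomial.eval₂_C,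
      Polynomial.eval₂_pow] at hc
    linear_combination (-1 : Γ(T''.left, ⊤)) * hc

end cover

section main

variable {S : Scheme.{u}} (p : ℕ) [Fact p.Prime]
  (hp : (p : Γ(S, ⊤)) = 0) (F : Red.Ga S ⟶ Red.Ga S)
  (hF : ∀ (T : Over S) (x : T ⟶ Red.Ga S), Red.gaFn (x ≫ F) = Red.gaFn x ^ p)

include hF in
theorem P_locallyTrivial :
    NonAbH1.IsLocallyTrivialFor Scheme.fpqcPrecoverage
      (Over.mk (𝟙 (Red.Ga S) * F⁻¹).left : Over (Red.Ga S).left) := by
  obtain ⟨T'', r, hr1, hr2, hr3, c, hc⟩ :=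
    exists_AS_cover p (Fact.out : p.Prime).one_lt (Red.Ga S) (Red.gaFn (𝟙 (Red.Ga S)))
  obtain ⟨b, hb⟩ := gaFn_surjective (S := S) (X := T'') c
  have hbP : b ≫ (𝟙 (Red.Ga S) * F⁻¹) = r := by
    apply gaFn_injective
    rw [gaFn_comp_P F hF, hb]
    have e2 : Red.gaFn r = r.left.appTop.hom (Red.gaFn (𝟙 (Red.Ga S))) := by
      have h := gaFn_comp r (𝟙 (Red.Ga S))
      rwa [Category.comp_id] at h
    rw [e2]
    exact hc
  refine ⟨Presieve.singleton r.left,
    Scheme.fppfPrecoverage_le_fpqcPrecoverage _ (Scheme.Hom.singleton_mem_fppfPrecoverage r.left), ?_⟩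
  rintro S' f ⟨⟩
  exact ⟨b.left, congrArg (fun m => m.left) hbP⟩

variable {G' : Over S} [GrpObj G'] (e : G' ≅ TwC.const S (Multiplicative (ZMod p)))
  (he : TwC.IsConstGrp (Multiplicative (ZMod p)) G' e)
  (i : G' ⟶ Red.Ga S) [IsMonHom i]
  (hi : Red.gaFn (TwC.pt S (Multiplicative (ZMod p)) (Multiplicative.ofAdd 1) ≫ e.inv ≫ i) = 1)

include hp hF he hi in
theorem artinSchreier_isExactSeq :
    NonAbH1.IsExactSeq Scheme.fpqcPrecoverage i (𝟙 (Red.Ga S) * F⁻¹) := by
  haveI : IsMonHom (𝟙 (Red.Ga S) * F⁻¹) := isMonHom_P hp F hF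
  have hcomp := comp_eq_one hp F hF e he i hi
  refine ⟨inferInstance, inferInstance, hcomp, ?_, P_locallyTrivial p F hF⟩
  refine isPullback_of_kernel_on_points _ _ hcomp (fun T ζ hζ => ?_) (fun T z z' h => ?_)
  · obtain ⟨w, hw⟩ := hex' hp F hF e he i hi T ζ hζ
    exact ⟨w ≫ e.inv, by rw [Category.assoc]; exact hw⟩
  · have h1 := hinj' hp e he i hi T (z ≫ e.hom) (z' ≫ e.hom) (by
      simp only [Category.assoc, Iso.hom_inv_id_assoc]
      exact h)
    exact (cancel_mono e.hom).1 h1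

end main

end Groth.Agent.Lib.ArtinSchreier
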