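import Mathlib
import Groth.Prelude.Def_EtBase
import Groth.Agent.Lib.EtSchSite_helper7

/-! # Finite locally constant étale sheaves on a connected scheme (lead) -/

set_option autoImplicit false
set_option linter.unusedSimpArgs false
set_option linter.unusedVariables false
set_option linter.unusedSectionVars false
set_option linter.style.longLine false
set_option linter.unnecessarySimpa false
set_option maxHeartbeats 1600000
set_option backward.isDefEq.respectTransparency false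
set_option backward.isDefEq.respectTransparency.types false
set_option backward.defeqAttrib.useBackward true

universe u

open CategoryTheory CategoryTheory.Limits AlgebraicGeometry Opposite

namespace Groth.Agent.Lib.EtLocConst

open Groth.Agent.Lib.EtSchSite_helper7

variable {X : Scheme.{u}}

theorem exists_mem_of_mem {V : X.Etale} {R : Sieve V} (hR : R ∈ X.smallEtaleTopology V)
    (x : V.left) : ∃ (Y : X.Etale) (g : Y ⟶ V), R g ∧ x ∈ Set.range g.left := by
  have eX : X.smallEtaleTopology =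
      (X.smallPretopology (P := EtCoh.etaleMP) (Q := EtCoh.etaleMP)).toGrothendieck :=
    Scheme.smallGrothendieckTopology_eq_toGrothendieck_smallPretopology X le_rfl
  rw [eX] at hR
  obtain ⟨Y, g, v, hg, -, hv⟩ := (Scheme.mem_toGrothendieck_smallPretopology V R).1 hR x
  exact ⟨Y, g, hg, ⟨v, hv⟩⟩

section const

variable (U : X.Etale) (N : AddCommGrpCat.{u + 1})

/-- constant presheaf on `Over U` -/
abbrev cP : (Over U)ᵒᵖ ⥤ AddCommGrpCat.{u + 1} := (Functor.const (Over U)ᵒᵖ).obj N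

/-- constant sheaf on `Over U` -/
noncomputable abbrev cs : Sheaf (X.smallEtaleTopology.over U) AddCommGrpCat.{u + 1} :=
  (constantSheaf (X.smallEtaleTopology.over U) AddCommGrpCat.{u + 1}).obj N

/-- the sheafification map of the constant presheaf -/
noncomputable def eta : cP U N ⟶ (cs U N).obj :=
  toSheafify (X.smallEtaleTopology.over U) (cP U N)

instance : Presheaf.IsLocallySurjective (X.smallEtaleTopology.over U) (eta U N) := by
  unfold eta; infer_instance

instance : Presheaf.IsLocallyInjective (X.smallEtaleTopology.over U) (eta U N) := by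
  unfold eta; infer_instance

theorem eta_res {A B : Over U} (k : B ⟶ A) (n : N) :
    ((cs U N).obj.map k.op).hom (((eta U N).app (op A)).hom n) =
      ((eta U N).app (op B)).hom n := by
  have := congrArg (fun m => m.hom n) ((eta U N).naturality k.op)
  exact this.symm

theorem eta_locSurj {Y : X.Etale} (h : Y ⟶ U) (t : (cs U N).obj.obj (op (Over.mk h)))
    (y : Y.left) :
    ∃ (Z : X.Etale) (g : Z ⟶ Y) (n : N), y ∈ Set.range g.left ∧
      ((eta U N).app (op (Over.mk (g ≫ h)))).hom n =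
        ((cs U N).obj.map (Over.homMk g rfl : Over.mk (g ≫ h) ⟶ Over.mk h).op).hom t := by
  have hS : Presheaf.imageSieve (eta U N) t ∈ (X.smallEtaleTopology.over U) (Over.mk h) :=
    Presheaf.imageSieve_mem (X.smallEtaleTopology.over U) (eta U N) (U := op (Over.mk h)) t
  rw [GrothendieckTopology.mem_over_iff] at hS
  obtain ⟨Z, g, hg, hy⟩ := exists_mem_of_mem hS y
  have hg' := (Sieve.overEquiv_iff _ g).1 hg
  obtain ⟨n, hn⟩ := hg'
  exact ⟨Z, g, n, hy, hn⟩

theorem eta_inj {Y : X.Etale} (h : Y ⟶ U) (y : Y.left) (n n' : N)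
    (key : ((eta U N).app (op (Over.mk h))).hom n = ((eta U N).app (op (Over.mk h))).hom n') :
    n = n' := by
  have hS : Presheaf.equalizerSieve (F := cP U N) (X := op (Over.mk h)) n n' ∈
      (X.smallEtaleTopology.over U) (Over.mk h) :=
    Presheaf.equalizerSieve_mem (X.smallEtaleTopology.over U) (eta U N) (X := op (Over.mk h))
      n n' key
  rw [GrothendieckTopology.mem_over_iff] at hS
  obtain ⟨Z, g, hg, -⟩ := exists_mem_of_mem hS y
  have hg' := (Sieve.overEquiv_iff _ g).1 hg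
  exact hg'

end const

/-- a trivialisation of `F` on an étale `X`-scheme -/
structure Triv {X : Scheme.{u}} (F : EtCoh.Ab X) where
  U : X.Etale
  N : AddCommGrpCat.{u + 1}
  α : EtCoh.restr F U ≅ cs U N

variable {F : EtCoh.Ab X}

namespace Triv

variable (D : Triv F)

/-- the "constant sections" map -/
noncomputable def θ {Y : X.Etale} (h : Y ⟶ D.U) : D.N →+ F.obj.obj (op Y) :=
  (show ((cs D.U D.N).obj.obj (op (Over.mk h)) : Type _) →+ (F.obj.obj (op Y) : Type _) from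
    (D.α.inv.hom.app (op (Over.mk h))).hom).comp ((eta D.U D.N).app (op (Over.mk h))).hom

theorem θ_apply {Y : X.Etale} (h : Y ⟶ D.U) (n : D.N) :
    D.θ h n = (D.α.inv.hom.app (op (Over.mk h))).hom
      (((eta D.U D.N).app (op (Over.mk h))).hom n) := rfl

theorem θ_res {Y Y' : X.Etale} (h : Y ⟶ D.U) (g : Y' ⟶ Y) (n : D.N) :
    (F.obj.map g.op).hom (D.θ h n) = D.θ (g ≫ h) n := by
  let k : Over.mk (g ≫ h) ⟶ Over.mk h := Over.homMk g rfl
  have h1 := congrArg (fun m => m.hom (((eta D.U D.N).app (op (Over.mk h))).hom n))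
    (D.α.inv.hom.naturality k.op)
  have h2 := eta_res D.U D.N k n
  rw [θ_apply, θ_apply]
  exact h1.symm.trans
    (congrArg (fun z => (D.α.inv.hom.app (op (Over.mk (g ≫ h)))).hom z) h2)

theorem exists_local {Y : X.Etale} (h : Y ⟶ D.U) (s : F.obj.obj (op Y)) (y : Y.left) :
    ∃ (Z : X.Etale) (g : Z ⟶ Y) (n : D.N), y ∈ Set.range g.left ∧
      D.θ (g ≫ h) n = (F.obj.map g.op).hom s := by
  obtain ⟨Z, g, n, hy, hn⟩ :=
    eta_locSurj D.U D.N h ((D.α.hom.hom.app (op (Over.mk h))).hom s) y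
  refine ⟨Z, g, n, hy, ?_⟩
  let k : Over.mk (g ≫ h) ⟶ Over.mk h := Over.homMk g rfl
  have h1 := congrArg (fun m => m.hom s) (D.α.hom.hom.naturality k.op)
  have h2 := congrArg (fun m => (m.hom.app (op (Over.mk (g ≫ h)))).hom
    ((F.obj.map g.op).hom s)) D.α.hom_inv_id
  rw [θ_apply]
  exact (congrArg (fun z => (D.α.inv.hom.app (op (Over.mk (g ≫ h)))).hom z)
    (hn.trans h1.symm)).trans h2

theorem θ_injective {Y : X.Etale} (h : Y ⟶ D.U) (y : Y.left) :
    Function.Injective (D.θ h) := by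
  intro n n' hnn
  have h2 : ∀ z, (D.α.hom.hom.app (op (Over.mk h))).hom
      ((D.α.inv.hom.app (op (Over.mk h))).hom z) = z := by
    intro z
    exact congrArg (fun m => (m.hom.app (op (Over.mk h))).hom z) D.α.inv_hom_id
  have key : ((eta D.U D.N).app (op (Over.mk h))).hom n =
      ((eta D.U D.N).app (op (Over.mk h))).hom n' := by
    rw [θ_apply, θ_apply] at hnn
    have := congrArg (fun z => (D.α.hom.hom.app (op (Over.mk h))).hom z) hnn
    exact (h2 _).symm.trans (this.trans (h2 _))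
  exact eta_inj D.U D.N h y n n' key

end Triv

section glue

variable (D D' : Triv F) {W : X.Etale} (a : W ⟶ D.U) (a' : W ⟶ D'.U) (w : W.left)

/-- the germs of `n` and `n'` at `w` agree -/
def R (n : D.N) (n' : D'.N) : Prop :=
  ∃ (Z : X.Etale) (q : Z ⟶ W), w ∈ Set.range q.left ∧ D.θ (q ≫ a) n = D'.θ (q ≫ a') n'

theorem rat_res {Z Z' : X.Etale} (q : Z ⟶ W) (p : Z' ⟶ Z) {n : D.N} {n' : D'.N}
    (hR : D.θ (q ≫ a) n = D'.θ (q ≫ a') n') :
    D.θ ((p ≫ q) ≫ a) n = D'.θ ((p ≫ q) ≫ a') n' := by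
  have := congrArg (fun z => (F.obj.map p.op).hom z) hR
  rw [Category.assoc, Category.assoc, ← D.θ_res (q ≫ a) p n, ← D'.θ_res (q ≫ a') p n']
  exact this

theorem R_total (n : D.N) : ∃ n', R D D' a a' w n n' := by
  obtain ⟨Z, g, n', hw, hn'⟩ := D'.exists_local a' (D.θ a n) w
  refine ⟨n', Z, g, hw, ?_⟩
  rw [hn', D.θ_res]

theorem R_total' (n' : D'.N) : ∃ n, R D D' a a' w n n' := by
  obtain ⟨Z, g, n, hw, hn⟩ := D.exists_local a (D'.θ a' n') w
  refine ⟨n, Z, g, hw, ?_⟩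
  rw [hn, D'.θ_res]

theorem common {n₁ n₂ : D.N} {n'₁ n'₂ : D'.N} (h₁ : R D D' a a' w n₁ n'₁)
    (h₂ : R D D' a a' w n₂ n'₂) :
    ∃ (P : X.Etale) (q : P ⟶ W), w ∈ Set.range q.left ∧
      D.θ (q ≫ a) n₁ = D'.θ (q ≫ a') n'₁ ∧ D.θ (q ≫ a) n₂ = D'.θ (q ≫ a') n'₂ := by
  obtain ⟨Z₁, q₁, ⟨z₁, hz₁⟩, hR₁⟩ := h₁
  obtain ⟨Z₂, q₂, ⟨z₂, hz₂⟩, hR₂⟩ := h₂
  obtain ⟨P, p₁, p₂, z, hp, hz1, hz2⟩ := exists_prod q₁ q₂ z₁ z₂ (hz₁.trans hz₂.symm)
  refine ⟨P, p₁ ≫ q₁, ⟨z, ?_⟩, rat_res D D' a a' q₁ p₁ hR₁, ?_⟩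
  · show q₁.left (p₁.left z) = w
    rw [hz1, hz₁]
  · rw [hp]
    exact rat_res D D' a a' q₂ p₂ hR₂

theorem R_fun {n : D.N} {n'₁ n'₂ : D'.N} (h₁ : R D D' a a' w n n'₁)
    (h₂ : R D D' a a' w n n'₂) : n'₁ = n'₂ := by
  obtain ⟨P, q, ⟨z, -⟩, r₁, r₂⟩ := common D D' a a' w h₁ h₂
  exact D'.θ_injective (q ≫ a') z (r₁.symm.trans r₂)

theorem R_fun' {n₁ n₂ : D.N} {n' : D'.N} (h₁ : R D D' a a' w n₁ n')
    (h₂ : R D D' a a' w n₂ n') : n₁ = n₂ := by
  obtain ⟨P, q, ⟨z, -⟩, r₁, r₂⟩ := common D D' a a' w h₁ h₂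
  exact D.θ_injective (q ≫ a) z (r₁.trans r₂.symm)

theorem R_add {n₁ n₂ : D.N} {n'₁ n'₂ : D'.N} (h₁ : R D D' a a' w n₁ n'₁)
    (h₂ : R D D' a a' w n₂ n'₂) : R D D' a a' w (n₁ + n₂) (n'₁ + n'₂) := by
  obtain ⟨P, q, hw, r₁, r₂⟩ := common D D' a a' w h₁ h₂
  exact ⟨P, q, hw, by rw [map_add, map_add, r₁, r₂]⟩

include a a' w in
theorem nonempty_addEquiv : Nonempty (D.N ≃+ D'.N) := by
  classical
  choose f hf using R_total D D' a a' w
  have hadd : ∀ x y, f (x + y) = f x + f y := fun x y =>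
    R_fun D D' a a' w (hf (x + y)) (R_add D D' a a' w (hf x) (hf y))
  have hinj : Function.Injective f := fun x y hxy =>
    R_fun' D D' a a' w (hf x) (by rw [hxy]; exact hf y)
  have hsurj : Function.Surjective f := fun n' => by
    obtain ⟨n, hn⟩ := R_total' D D' a a' w n'
    exact ⟨n, R_fun D D' a a' w (hf n) hn⟩
  exact ⟨AddEquiv.ofBijective (AddMonoidHom.mk' f hadd) ⟨hinj, hsurj⟩⟩

end glue

theorem nonempty_addEquiv_of_points (D D' : Triv F) (u : D.U.left) (u' : D'.U.left)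
    (hx : D.U.hom.base u = D'.U.hom.base u') : Nonempty (D.N ≃+ D'.N) := by
  let T : X.Etale := Scheme.Etale.mk (𝟙 X)
  let φ : D.U ⟶ T := MorphismProperty.Over.homMk D.U.hom (Category.comp_id _) trivial
  let φ' : D'.U ⟶ T := MorphismProperty.Over.homMk D'.U.hom (Category.comp_id _) trivial
  obtain ⟨W, a, a', w, -, -, -⟩ := exists_prod φ φ' u u' hx
  exact nonempty_addEquiv D D' a a' w

/-- union of the images of the members with index in `I` -/
def WW {ι : Type u} (U : ι → X.Etale) (I : Set ι) : Set X :=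
  ⋃ i ∈ I, Set.range (fun y : (U i).left => (U i).hom.base y)

theorem mem_WW {ι : Type u} (U : ι → X.Etale) (I : Set ι) (x : X) :
    x ∈ WW U I ↔ ∃ i, i ∈ I ∧ ∃ y : (U i).left, (U i).hom.base y = x := by
  unfold WW
  simp only [Set.mem_iUnion, Set.mem_range, exists_prop]

theorem isOpen_WW {ι : Type u} (U : ι → X.Etale) (I : Set ι) : IsOpen (WW U I) := by
  unfold WW
  exact isOpen_biUnion (fun i _ => (U i).hom.isOpenMap.isOpen_range)

theorem main {X : Scheme.{u}} [ConnectedSpace X] (F : EtCoh.Ab X)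
    (h : EtCoh.IsFiniteLocallyConstant F) :
    ∃ (M : Type) (_ : AddCommGroup M) (_ : Finite M) (ι : Type u) (U : ι → X.Etale),
      EtCoh.Covers U ∧
      ∀ i, Nonempty (EtCoh.restr F (U i) ≅
        (constantSheaf (X.smallEtaleTopology.over (U i)) AddCommGrpCat.{u + 1}).obj
          (AddCommGrpCat.of (ULift.{u + 1} M))) := by
  classical
  obtain ⟨ι, U, hcov, hM⟩ := h
  choose M instG hFin hα using hM
  letI iG : ∀ i, AddCommGroup (M i) := instG
  let D : ∀ i, Triv F := fun i =>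
    ⟨U i, AddCommGrpCat.of (ULift.{u + 1} (M i)), (hα i).some⟩
  obtain ⟨x₀⟩ := (inferInstance : Nonempty X)
  obtain ⟨i₀, y₀, hy₀⟩ := hcov x₀
  let I₁ : Set ι := {i | Nonempty ((D i).N ≃+ (D i₀).N)}
  have key : ∀ i j (y : (U i).left) (y' : (U j).left),
      (U i).hom.base y = (U j).hom.base y' → Nonempty ((D i).N ≃+ (D j).N) :=
    fun i j y y' hyy => nonempty_addEquiv_of_points (D i) (D j) y y' hyy
  have hcompl : (WW U I₁)ᶜ = WW U I₁ᶜ := by
    ext x
    rw [Set.mem_compl_iff, mem_WW, mem_WW]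
    constructor
    · intro hx
      obtain ⟨i, y, hy⟩ := hcov x
      exact ⟨i, fun hi => hx ⟨i, hi, y, hy⟩, y, hy⟩
    · rintro ⟨j, hj, y', hy'⟩ ⟨i, hi, y, hy⟩
      obtain ⟨e⟩ := key j i y' y (hy'.trans hy.symm)
      obtain ⟨e'⟩ : Nonempty ((D i).N ≃+ (D i₀).N) := hi
      exact hj ⟨e.trans e'⟩
  have hclopen : IsClopen (WW U I₁) :=
    ⟨by rw [← isOpen_compl_iff, hcompl]; exact isOpen_WW U _, isOpen_WW U _⟩
  have huniv : WW U I₁ = Set.univ :=
    hclopen.eq_univ ⟨x₀, (mem_WW U I₁ x₀).2 ⟨i₀, ⟨AddEquiv.refl _⟩, y₀, hy₀⟩⟩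
  refine ⟨M i₀, iG i₀, hFin i₀, {i : ι // i ∈ I₁}, fun i => U i.1, ?_, ?_⟩
  · intro x
    have hx : x ∈ WW U I₁ := by rw [huniv]; trivial
    obtain ⟨i, hi, y, hy⟩ := (mem_WW U I₁ x).1 hx
    exact ⟨⟨i, hi⟩, y, hy⟩
  · rintro ⟨i, hi⟩
    obtain ⟨e⟩ : Nonempty ((D i).N ≃+ (D i₀).N) := hi
    exact ⟨(D i).α ≪≫ (constantSheaf (X.smallEtaleTopology.over (U i))
      AddCommGrpCat.{u + 1}).mapIso e.toAddCommGrpIso⟩

end Groth.Agent.Lib.EtLocConst
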