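import Mathlib
import Groth.Prelude.Def_EtBase
import Groth.Prelude.Def_EtRestW
import Groth.Agent.Lib.EtSchSite_helper7
import Groth.Agent.Lib.EtLocConst_lead

/-! # Maps of locally constant étale sheaves are locally constant maps (lead) -/

set_option autoImplicit false
set_option linter.unusedSimpArgs false
set_option linter.unusedVariables false
set_option linter.unusedSectionVars false
set_option linter.style.longLine false
set_option linter.unnecessarySimpa false
set_option maxHeartbeats 1600000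
set_option backward.isDefEq.respectTransparency false
set_option backward.isDefEq.respectTransparency.types false
set_option backward.defeqAttrib.useBackward true

universe u

open CategoryTheory CategoryTheory.Limits AlgebraicGeometry Opposite

namespace Groth.Agent.Lib.EtLocConst

open Groth.Agent.Lib.EtSchSite_helper7

variable {X : Scheme.{u}}

theorem map_comp_hom (F : EtCoh.Ab X) {A B C : X.Etale} (f : A ⟶ B) (g : B ⟶ C)
    (τ : F.obj.obj (op C)) :
    (F.obj.map (f ≫ g).op).hom τ = (F.obj.map f.op).hom ((F.obj.map g.op).hom τ) :=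
  congrArg (fun m => m.hom τ) (F.obj.map_comp g.op f.op)

theorem exists_common {W : X.Etale} (w : W.left) {T : Type*} (s : Finset T) (Zt : T → X.Etale)
    (g : ∀ t, Zt t ⟶ W) (hg : ∀ t, w ∈ Set.range (g t).left) :
    ∃ (P : X.Etale) (q : P ⟶ W), w ∈ Set.range q.left ∧
      ∀ t ∈ s, ∃ r : P ⟶ Zt t, r ≫ g t = q := by
  classical
  induction s using Finset.induction_on with
  | empty => exact ⟨W, 𝟙 W, ⟨w, rfl⟩, fun t ht => absurd ht (Finset.notMem_empty t)⟩
  | insert t s hts ih =>
    obtain ⟨P, q, ⟨z, hz⟩, hr⟩ := ih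
    obtain ⟨zt, hzt⟩ := hg t
    obtain ⟨P', p₁, p₂, z', hp, hz1, hz2⟩ := exists_prod q (g t) z zt (hz.trans hzt.symm)
    refine ⟨P', p₁ ≫ q, ⟨z', ?_⟩, ?_⟩
    · show q.left (p₁.left z') = w
      rw [hz1, hz]
    · intro t' ht'
      rcases Finset.mem_insert.1 ht' with rfl | ht'
      · exact ⟨p₂, hp.symm⟩
      · obtain ⟨r, hr'⟩ := hr t' ht'
        exact ⟨p₁ ≫ r, by rw [Category.assoc, hr']⟩

variable {F G : EtCoh.Ab X}

namespace Triv

variable (D : Triv F) {Z : X.Etale} (c : Z ⟶ D.U)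

/-- the presheaf map `const N ⟶ F|_Z` given by the trivialisation pulled back along `c` -/
noncomputable def ψ : cP Z D.N ⟶ (EtCoh.restr F Z).obj where
  app A := AddCommGrpCat.ofHom (D.θ (A.unop.hom ≫ c))
  naturality A B k := by
    apply AddCommGrpCat.hom_ext
    apply AddMonoidHom.ext
    intro n
    show D.θ (B.unop.hom ≫ c) n = (F.obj.map k.unop.left.op).hom (D.θ (A.unop.hom ≫ c) n)
    rw [D.θ_res, ← Category.assoc, Over.w k.unop]

theorem ψ_app (A : Over Z) (n : D.N) :
    ((D.ψ c).app (op A)).hom n = D.θ (A.hom ≫ c) n := rfl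

instance ψ_locInj : Presheaf.IsLocallyInjective (X.smallEtaleTopology.over Z) (D.ψ c) where
  equalizerSieve_mem {A} n n' hnn := by
    rw [GrothendieckTopology.mem_over_iff]
    apply sieve_mem_of_forall_exists
    intro y
    have hn : n = n' := D.θ_injective (A.unop.hom ≫ c) y hnn
    subst hn
    refine ⟨A.unop.left, 𝟙 _, ?_, ⟨y, rfl⟩⟩
    rw [Sieve.overEquiv_iff]
    rfl

instance ψ_locSurj : Presheaf.IsLocallySurjective (X.smallEtaleTopology.over Z) (D.ψ c) where
  imageSieve_mem {A} s := by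
    rw [GrothendieckTopology.mem_over_iff]
    apply sieve_mem_of_forall_exists
    intro y
    obtain ⟨Z', g, n, hy, hn⟩ := D.exists_local (A.hom ≫ c) s y
    refine ⟨Z', g, ?_, hy⟩
    rw [Sieve.overEquiv_iff]
    refine ⟨n, ?_⟩
    show D.θ ((g ≫ A.hom) ≫ c) n = (F.obj.map g.op).hom s
    rw [Category.assoc]
    exact hn

/-- the induced map of sheaves -/
noncomputable def ψS : cs Z D.N ⟶ EtCoh.restr F Z :=
  ⟨sheafifyLift (X.smallEtaleTopology.over Z) (D.ψ c) (EtCoh.restr F Z).property⟩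

theorem ψS_fac : eta Z D.N ≫ (D.ψS c).hom = D.ψ c :=
  toSheafify_sheafifyLift _ _ _

instance isIso_ψS : IsIso (D.ψS c) := by
  refine (Sheaf.isLocallyBijective_iff_isIso (D.ψS c)).1 ⟨?_, ?_⟩
  · exact Presheaf.isLocallyInjective_of_isLocallyInjective_of_isLocallySurjective_fac
      (X.smallEtaleTopology.over Z) (D.ψ c) (D.ψS_fac c)
  · exact Presheaf.isLocallySurjective_of_isLocallySurjective_fac
      (X.smallEtaleTopology.over Z) (D.ψS_fac c)

/-- restriction of a trivialisation along `c : Z ⟶ D.U` -/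
noncomputable def restrict : Triv F := ⟨Z, D.N, (asIso (D.ψS c)).symm⟩

theorem restrict_fac (A : Over Z) (n : D.N) :
    ((D.restrict c).α.inv.hom.app (op A)).hom (((eta Z D.N).app (op A)).hom n) =
      D.θ (A.hom ≫ c) n := by
  have := congrArg (fun τ => (τ.app (op A)).hom n) (D.ψS_fac c)
  exact this

end Triv

theorem const_map_eq (φ : F ⟶ G) (P : X.Etale) (M N : AddCommGrpCat.{u + 1})
    (α : EtCoh.restr F P ≅ cs P M) (β : EtCoh.restr G P ≅ cs P N) (h : M ⟶ N)
    (hpt : ∀ (A : Over P) (m : M),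
      (φ.hom.app (op A.left)).hom ((α.inv.hom.app (op A)).hom (((eta P M).app (op A)).hom m)) =
        (β.inv.hom.app (op A)).hom (((eta P N).app (op A)).hom (h.hom m))) :
    (X.smallEtaleTopology.overPullback AddCommGrpCat.{u + 1} P).map φ ≫ β.hom =
      α.hom ≫ (constantSheaf (X.smallEtaleTopology.over P) AddCommGrpCat.{u + 1}).map h := by
  have key : α.inv ≫ (X.smallEtaleTopology.overPullback AddCommGrpCat.{u + 1} P).map φ =
      (constantSheaf (X.smallEtaleTopology.over P) AddCommGrpCat.{u + 1}).map h ≫ β.inv := by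
    apply Sheaf.hom_ext
    refine sheafify_hom_ext (X.smallEtaleTopology.over P) (P := cP P M) _ _
      (EtCoh.restr G P).property ?_
    refine NatTrans.ext (funext fun A => AddCommGrpCat.hom_ext (AddMonoidHom.ext fun m => ?_))
    have nat := congrArg (fun τ => (τ.app A).hom m)
      (toSheafify_naturality (X.smallEtaleTopology.over P) ((Functor.const (Over P)ᵒᵖ).map h))
    have h1 := hpt A.unop m
    exact h1.trans (congrArg (fun z => (β.inv.hom.app A).hom z) nat)
  rw [← Iso.inv_comp_eq, ← Category.assoc, key, Category.assoc, Iso.inv_hom_id, Category.comp_id]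

theorem local_const (φ : F ⟶ G) (D : Triv F) (E : Triv G) [Finite D.N]
    (u : D.U.left) (v : E.U.left) (huv : D.U.hom.base u = E.U.hom.base v) :
    ∃ (P : X.Etale) (c : P ⟶ D.U) (d : P ⟶ E.U) (z : P.left) (h : D.N →+ E.N),
      c.left.base z = u ∧ ∀ m, (φ.hom.app (op P)).hom (D.θ c m) = E.θ d (h m) := by
  classical
  let T : X.Etale := Scheme.Etale.mk (𝟙 X)
  let φ₁ : D.U ⟶ T := MorphismProperty.Over.homMk D.U.hom (Category.comp_id _) trivial
  let φ₂ : E.U ⟶ T := MorphismProperty.Over.homMk E.U.hom (Category.comp_id _) trivial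
  obtain ⟨W, a, b, w, -, ha, -⟩ := exists_prod φ₁ φ₂ u v huv
  have hloc : ∀ m : D.N, ∃ (Z : X.Etale) (g : Z ⟶ W) (n : E.N), w ∈ Set.range g.left ∧
      E.θ (g ≫ b) n = (G.obj.map g.op).hom ((φ.hom.app (op W)).hom (D.θ a m)) :=
    fun m => E.exists_local b ((φ.hom.app (op W)).hom (D.θ a m)) w
  choose Zt g n hw hn using hloc
  haveI := Fintype.ofFinite D.N
  obtain ⟨P, q, ⟨z, hz⟩, hr⟩ := exists_common w (Finset.univ : Finset D.N) Zt g hw
  have nat : ∀ {Y Y' : X.Etale} (k : Y' ⟶ Y) (s : F.obj.obj (op Y)),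
      (φ.hom.app (op Y')).hom ((F.obj.map k.op).hom s) =
        (G.obj.map k.op).hom ((φ.hom.app (op Y)).hom s) := by
    intro Y Y' k s
    exact congrArg (fun τ => τ.hom s) (φ.hom.naturality k.op)
  have key : ∀ m, (φ.hom.app (op P)).hom (D.θ (q ≫ a) m) = E.θ (q ≫ b) (n m) := by
    intro m
    obtain ⟨r, hr'⟩ := hr m (Finset.mem_univ m)
    rw [← D.θ_res a q m, nat, ← hr', map_comp_hom, ← hn m, E.θ_res, Category.assoc]
  have hadd : ∀ m m', n (m + m') = n m + n m' := by
    intro m m'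
    apply E.θ_injective (q ≫ b) z
    calc E.θ (q ≫ b) (n (m + m'))
        = (φ.hom.app (op P)).hom (D.θ (q ≫ a) (m + m')) := (key _).symm
      _ = (φ.hom.app (op P)).hom (D.θ (q ≫ a) m) + (φ.hom.app (op P)).hom (D.θ (q ≫ a) m') := by
          rw [map_add, map_add]
      _ = E.θ (q ≫ b) (n m) + E.θ (q ≫ b) (n m') := by rw [key, key]
      _ = E.θ (q ≫ b) (n m + n m') := (map_add _ _ _).symm
  refine ⟨P, q ≫ a, q ≫ b, z, AddMonoidHom.mk' n hadd, ?_, key⟩
  show a.left (q.left z) = u
  rw [hz, ha]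

theorem pt_res (φ : F ⟶ G) (D : Triv F) (E : Triv G) {P : X.Etale} (c : P ⟶ D.U) (d : P ⟶ E.U)
    (h : D.N →+ E.N) (hpt : ∀ m, (φ.hom.app (op P)).hom (D.θ c m) = E.θ d (h m))
    {Y : X.Etale} (g : Y ⟶ P) (m : D.N) :
    (φ.hom.app (op Y)).hom (D.θ (g ≫ c) m) = E.θ (g ≫ d) (h m) := by
  have nat : (φ.hom.app (op Y)).hom ((F.obj.map g.op).hom (D.θ c m)) =
      (G.obj.map g.op).hom ((φ.hom.app (op P)).hom (D.θ c m)) :=
    congrArg (fun τ => τ.hom (D.θ c m)) (φ.hom.naturality g.op)
  rw [← D.θ_res c g, ← E.θ_res d g, ← hpt m, nat]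

theorem main47 {X : Scheme.{u}} (F G : EtCoh.Ab X) (φ : F ⟶ G)
    (hF : EtCoh.IsFiniteLocallyConstant F) (hG : EtRest.IsLocallyConstant G) :
    ∃ (ι : Type u) (U : ι → X.Etale), EtCoh.Covers U ∧ ∀ i, ∃ (M N : Type (u + 1))
      (_ : AddCommGroup M) (_ : AddCommGroup N) (h : M →+ N)
      (α : EtCoh.restr F (U i) ≅ (constantSheaf (X.smallEtaleTopology.over (U i))
        AddCommGrpCat.{u + 1}).obj (AddCommGrpCat.of M))
      (β : EtCoh.restr G (U i) ≅ (constantSheaf (X.smallEtaleTopology.over (U i))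
        AddCommGrpCat.{u + 1}).obj (AddCommGrpCat.of N)),
      (X.smallEtaleTopology.overPullback AddCommGrpCat.{u + 1} (U i)).map φ ≫ β.hom =
        α.hom ≫ (constantSheaf (X.smallEtaleTopology.over (U i)) AddCommGrpCat.{u + 1}).map
          (AddCommGrpCat.ofHom h) := by
  classical
  obtain ⟨ι, U, hcov, hM⟩ := hF
  obtain ⟨κ, V, hcovV, hN⟩ := hG
  have hloc : ∀ x : X, ∃ (P : X.Etale) (z : P.left), P.hom.base z = x ∧ ∃ (M N : Type (u + 1))
      (_ : AddCommGroup M) (_ : AddCommGroup N) (h : M →+ N)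
      (α : EtCoh.restr F P ≅ (constantSheaf (X.smallEtaleTopology.over P)
        AddCommGrpCat.{u + 1}).obj (AddCommGrpCat.of M))
      (β : EtCoh.restr G P ≅ (constantSheaf (X.smallEtaleTopology.over P)
        AddCommGrpCat.{u + 1}).obj (AddCommGrpCat.of N)),
      (X.smallEtaleTopology.overPullback AddCommGrpCat.{u + 1} P).map φ ≫ β.hom =
        α.hom ≫ (constantSheaf (X.smallEtaleTopology.over P) AddCommGrpCat.{u + 1}).map
          (AddCommGrpCat.ofHom h) := by
    intro x
    obtain ⟨i, y, hy⟩ := hcov x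
    obtain ⟨j, y', hy'⟩ := hcovV x
    obtain ⟨M, iM, fM, ⟨α⟩⟩ := hM i
    obtain ⟨N, iN, ⟨β⟩⟩ := hN j
    let D : Triv F := ⟨U i, AddCommGrpCat.of (ULift.{u + 1} M), α⟩
    let E : Triv G := ⟨V j, AddCommGrpCat.of N, β⟩
    haveI : Finite D.N := (inferInstance : Finite (ULift.{u + 1} M))
    obtain ⟨P, c, d, z, h, hz, hpt⟩ := local_const φ D E y y' (hy.trans hy'.symm)
    refine ⟨P, z, ?_, D.N, E.N, inferInstance, inferInstance, h, (D.restrict c).α,
      (E.restrict d).α, ?_⟩
    · calc P.hom.base z = (c.left ≫ D.U.hom).base z :=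
          congrArg (fun f => f.base z) (MorphismProperty.Over.w c).symm
        _ = x := by
          show (U i).hom.base (c.left.base z) = x
          rw [hz]
          exact hy
    · refine const_map_eq φ P D.N E.N (D.restrict c).α (E.restrict d).α (AddCommGrpCat.ofHom h) ?_
      intro A m
      have e1 := D.restrict_fac c A m
      have e2 := E.restrict_fac d A (h m)
      have e3 := pt_res φ D E c d h hpt A.hom m
      exact (congrArg (fun z => (φ.hom.app (op A.left)).hom z) e1).trans (e3.trans e2.symm)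
  choose P z hz hrest using hloc
  exact ⟨X, P, fun x => ⟨x, z x, hz x⟩, hrest⟩

end Groth.Agent.Lib.EtLocConst
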