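import Mathlib
import Groth.Prelude.Def_EtBase
import Groth.Agent.Lib.EtSchSite_helper7
import Groth.Agent.Lib.EtLocConst_lead
import Groth.Agent.Lib.EtLocConstMap_lead

/-! # Finite locally constant étale sheaves form a weak Serre subcategory (lead) -/

set_option autoImplicit false
set_option linter.unusedSimpArgs false
set_option linter.unusedVariables false
set_option linter.unusedSectionVars false
set_option linter.style.longLine false
set_option linter.unnecessarySimpa false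
set_option maxHeartbeats 1600000
set_option backward.isDefEq.respectTransparency false
set_option backward.isDefEq.respectTransparency.types false
set_option backward.defeqAttrib.useBackward true

universe u

open CategoryTheory CategoryTheory.Limits AlgebraicGeometry Opposite

namespace Groth.Agent.Lib.EtLocConst

open Groth.Agent.Lib.EtSchSite_helper7

variable {X : Scheme.{u}}

/-- local-constancy data for a sheaf `K` on an étale `X`-scheme `P` with value group `B` -/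
structure LCData (K : EtCoh.Ab X) (P : X.Etale) (B : Type (u + 1)) [AddCommGroup B] where
  τ : ∀ {Y : X.Etale} (h : Y ⟶ P), B →+ K.obj.obj (op Y)
  res : ∀ {Y Y' : X.Etale} (h : Y ⟶ P) (g : Y' ⟶ Y) (b : B),
    (K.obj.map g.op).hom (τ h b) = τ (g ≫ h) b
  inj : ∀ {Y : X.Etale} (h : Y ⟶ P) (y : Y.left), Function.Injective (τ h)
  surj : ∀ {Y : X.Etale} (h : Y ⟶ P) (s : K.obj.obj (op Y)) (y : Y.left),
    ∃ (Z : X.Etale) (g : Z ⟶ Y) (b : B), y ∈ Set.range g.left ∧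
      τ (g ≫ h) b = (K.obj.map g.op).hom s

namespace LCData

variable {K : EtCoh.Ab X} {P : X.Etale} {B : Type (u + 1)} [AddCommGroup B] (L : LCData K P B)

/-- the presheaf map `const B ⟶ K|_P` -/
noncomputable def ψ : cP P (AddCommGrpCat.of B) ⟶ (EtCoh.restr K P).obj where
  app A := AddCommGrpCat.ofHom (L.τ A.unop.hom)
  naturality A A' k := by
    apply AddCommGrpCat.hom_ext
    apply AddMonoidHom.ext
    intro n
    show L.τ A'.unop.hom n = (K.obj.map k.unop.left.op).hom (L.τ A.unop.hom n)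
    rw [L.res, Over.w k.unop]

instance ψ_locInj : Presheaf.IsLocallyInjective (X.smallEtaleTopology.over P) L.ψ where
  equalizerSieve_mem {A} n n' hnn := by
    rw [GrothendieckTopology.mem_over_iff]
    apply sieve_mem_of_forall_exists
    intro y
    have hn : n = n' := L.inj A.unop.hom y hnn
    subst hn
    refine ⟨A.unop.left, 𝟙 _, ?_, ⟨y, rfl⟩⟩
    rw [Sieve.overEquiv_iff]
    rfl

instance ψ_locSurj : Presheaf.IsLocallySurjective (X.smallEtaleTopology.over P) L.ψ where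
  imageSieve_mem {A} s := by
    rw [GrothendieckTopology.mem_over_iff]
    apply sieve_mem_of_forall_exists
    intro y
    obtain ⟨Z', g, n, hy, hn⟩ := L.surj A.hom s y
    refine ⟨Z', g, ?_, hy⟩
    rw [Sieve.overEquiv_iff]
    refine ⟨n, ?_⟩
    show L.τ (g ≫ A.hom) n = (K.obj.map g.op).hom s
    exact hn

/-- the induced map of sheaves -/
noncomputable def ψS : cs P (AddCommGrpCat.of B) ⟶ EtCoh.restr K P :=
  ⟨sheafifyLift (X.smallEtaleTopology.over P) L.ψ (EtCoh.restr K P).property⟩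

theorem ψS_fac : eta P (AddCommGrpCat.of B) ≫ L.ψS.hom = L.ψ :=
  toSheafify_sheafifyLift _ _ _

instance isIso_ψS : IsIso L.ψS := by
  refine (Sheaf.isLocallyBijective_iff_isIso L.ψS).1 ⟨?_, ?_⟩
  · exact Presheaf.isLocallyInjective_of_isLocallyInjective_of_isLocallySurjective_fac
      (X.smallEtaleTopology.over P) L.ψ L.ψS_fac
  · exact Presheaf.isLocallySurjective_of_isLocallySurjective_fac
      (X.smallEtaleTopology.over P) L.ψS_fac

include L in
theorem nonempty_iso : Nonempty (EtCoh.restr K P ≅ cs P (AddCommGrpCat.of B)) :=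
  ⟨(asIso L.ψS).symm⟩

end LCData

theorem exists_small_model (B : Type (u + 1)) [AddCommGroup B] [Finite B] :
    ∃ (M : Type) (_ : AddCommGroup M) (_ : Finite M), Nonempty (ULift.{u + 1} M ≃+ B) := by
  classical
  let e' : {k : ℕ // k < Nat.card B} ≃ B := Fin.equivSubtype.symm.trans (Finite.equivFin B).symm
  letI iM : AddCommGroup {k : ℕ // k < Nat.card B} := e'.addCommGroup
  refine ⟨{k : ℕ // k < Nat.card B}, iM, Finite.of_equiv B e'.symm, ⟨?_⟩⟩
  exact { toEquiv := Equiv.ulift.trans e', map_add' := fun x y => e'.apply_symm_apply _ }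

theorem flc_of_local (K : EtCoh.Ab X)
    (h : ∀ x : X, ∃ (P : X.Etale) (z : P.left), P.hom.base z = x ∧
      ∃ (B : Type (u + 1)) (_ : AddCommGroup B) (_ : Finite B), Nonempty (LCData K P B)) :
    EtCoh.IsFiniteLocallyConstant K := by
  classical
  choose P z hz B iB fB hL using h
  refine ⟨X, P, fun x => ⟨x, z x, hz x⟩, fun x => ?_⟩
  letI := iB x
  haveI := fB x
  obtain ⟨M, iM, fM, ⟨e⟩⟩ := exists_small_model (B x)
  obtain ⟨α⟩ := (hL x).some.nonempty_iso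
  exact ⟨M, iM, fM, ⟨α ≪≫ (constantSheaf (X.smallEtaleTopology.over (P x))
    AddCommGrpCat.{u + 1}).mapIso e.symm.toAddCommGrpIso⟩⟩

section sections

variable {F G : EtCoh.Ab X}

/-- the sections functor -/
noncomputable abbrev secF (Y : X.Etale) : EtCoh.Ab X ⥤ AddCommGrpCat.{u + 1} :=
  sheafToPresheaf X.smallEtaleTopology AddCommGrpCat.{u + 1} ⋙ (evaluation _ _).obj (op Y)

theorem nat_apply (φ : F ⟶ G) {Y Y' : X.Etale} (k : Y' ⟶ Y) (s : F.obj.obj (op Y)) :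
    (φ.hom.app (op Y')).hom ((F.obj.map k.op).hom s) =
      (G.obj.map k.op).hom ((φ.hom.app (op Y)).hom s) :=
  congrArg (fun τ => τ.hom s) (φ.hom.naturality k.op)

theorem comp_zero_sec {A B C : EtCoh.Ab X} (f : A ⟶ B) (g : B ⟶ C) (w : f ≫ g = 0)
    (Y : X.Etale) (t : A.obj.obj (op Y)) :
    (g.hom.app (op Y)).hom ((f.hom.app (op Y)).hom t) = 0 := by
  have h1 : (secF Y).map f ≫ (secF Y).map g = 0 := by
    rw [← Functor.map_comp, w, Functor.map_zero]
  exact congrArg (fun m => m.hom t) h1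

theorem sec_exact (S : ShortComplex (EtCoh.Ab X)) (hS : S.Exact) [Mono S.f] (Y : X.Etale)
    (s : S.X₂.obj.obj (op Y)) (hs : (S.g.hom.app (op Y)).hom s = 0) :
    ∃ t : S.X₁.obj.obj (op Y), (S.f.hom.app (op Y)).hom t = s := by
  have h1 : (S.map (secF Y)).Exact :=
    hS.map_of_mono_of_preservesKernel (secF Y) inferInstance inferInstance
  exact (ShortComplex.ab_exact_iff _).1 h1 s hs

theorem sec_injective (i : F ⟶ G) [Mono i] (Y : X.Etale) :
    Function.Injective (i.hom.app (op Y)).hom := by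
  have h1 : Mono ((secF Y).map i) := inferInstance
  exact (AddCommGrpCat.mono_iff_injective _).1 h1

theorem epi_locSurj (p : F ⟶ G) [Epi p] {Y : X.Etale} (s : G.obj.obj (op Y)) (y : Y.left) :
    ∃ (Z : X.Etale) (g : Z ⟶ Y) (t : F.obj.obj (op Z)), y ∈ Set.range g.left ∧
      (p.hom.app (op Z)).hom t = (G.obj.map g.op).hom s := by
  haveI : Sheaf.IsLocallySurjective p :=
    (Sheaf.isLocallySurjective_iff_epi' AddCommGrpCat.{u + 1} p).2 inferInstance
  have hS : Presheaf.imageSieve p.hom s ∈ X.smallEtaleTopology Y :=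
    Presheaf.imageSieve_mem X.smallEtaleTopology p.hom (U := op Y) s
  obtain ⟨Z, g, ⟨t, ht⟩, hy⟩ := exists_mem_of_mem hS y
  exact ⟨Z, g, t, hy, ht⟩

theorem exact_locSurj (S : ShortComplex (EtCoh.Ab X)) (hS : S.Exact) {Y : X.Etale}
    (s : S.X₂.obj.obj (op Y)) (hs : (S.g.hom.app (op Y)).hom s = 0) (y : Y.left) :
    ∃ (Z : X.Etale) (g : Z ⟶ Y) (t : S.X₁.obj.obj (op Z)), y ∈ Set.range g.left ∧
      (S.f.hom.app (op Z)).hom t = (S.X₂.obj.map g.op).hom s := by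
  haveI : Epi (kernel.lift S.g S.f S.zero) := (S.exact_iff_epi_kernel_lift).1 hS
  let S' : ShortComplex (EtCoh.Ab X) :=
    ShortComplex.mk (kernel.ι S.g) S.g (kernel.condition S.g)
  have hS' : S'.Exact := ShortComplex.exact_of_f_is_kernel S' (kernelIsKernel S.g)
  haveI : Mono S'.f := (inferInstance : Mono (kernel.ι S.g))
  obtain ⟨s', hs'⟩ := sec_exact S' hS' Y s hs
  have hs'' : ((kernel.ι S.g).hom.app (op Y)).hom s' = s := hs'
  obtain ⟨Z, g, t, hy, ht⟩ := epi_locSurj (kernel.lift S.g S.f S.zero) s' y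
  refine ⟨Z, g, t, hy, ?_⟩
  have e1 : (S.f.hom.app (op Z)).hom t = ((kernel.ι S.g).hom.app (op Z)).hom
      (((kernel.lift S.g S.f S.zero).hom.app (op Z)).hom t) :=
    (congrArg (fun m => (m.hom.app (op Z)).hom t) (kernel.lift_ι S.g S.f S.zero)).symm
  rw [e1, ht, nat_apply (kernel.ι S.g) g s', hs'']

end sections

section kercoker

variable {F G : EtCoh.Ab X}

theorem lcdata_kernel (φ : F ⟶ G) (D : Triv F) (E : Triv G) {P : X.Etale} (c : P ⟶ D.U)
    (d : P ⟶ E.U) (h : D.N →+ E.N)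
    (hpt : ∀ m, (φ.hom.app (op P)).hom (D.θ c m) = E.θ d (h m)) :
    Nonempty (LCData (kernel φ) P h.ker) := by
  classical
  let S : ShortComplex (EtCoh.Ab X) := ShortComplex.mk (kernel.ι φ) φ (kernel.condition φ)
  have hS : S.Exact := ShortComplex.exact_of_f_is_kernel S (kernelIsKernel φ)
  haveI : Mono S.f := (inferInstance : Mono (kernel.ι φ))
  have hinj : ∀ Y : X.Etale, Function.Injective ((kernel.ι φ).hom.app (op Y)).hom :=
    fun Y => sec_injective (kernel.ι φ) Y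
  have hzero : ∀ (Y : X.Etale) (t : (kernel φ).obj.obj (op Y)),
      (φ.hom.app (op Y)).hom (((kernel.ι φ).hom.app (op Y)).hom t) = 0 :=
    fun Y t => comp_zero_sec (kernel.ι φ) φ (kernel.condition φ) Y t
  have hlift : ∀ (Y : X.Etale) (g : Y ⟶ P) (b : h.ker), ∃ t : (kernel φ).obj.obj (op Y),
      ((kernel.ι φ).hom.app (op Y)).hom t = D.θ (g ≫ c) b.1 := by
    intro Y g b
    refine sec_exact S hS Y (D.θ (g ≫ c) b.1) ?_
    show (φ.hom.app (op Y)).hom (D.θ (g ≫ c) b.1) = 0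
    rw [pt_res φ D E c d h hpt g b.1, (AddMonoidHom.mem_ker).1 b.2, map_zero]
  choose τ hτ using hlift
  have hadd : ∀ (Y : X.Etale) (g : Y ⟶ P) (b b' : h.ker),
      τ Y g (b + b') = τ Y g b + τ Y g b' := by
    intro Y g b b'
    apply hinj Y
    rw [map_add, hτ, hτ, hτ]
    show D.θ (g ≫ c) (b.1 + b'.1) = _
    rw [map_add]
  refine ⟨{ τ := fun {Y} g => AddMonoidHom.mk' (τ Y g) (hadd Y g),
            res := ?_, inj := ?_, surj := ?_ }⟩
  · intro Y Y' g k b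
    show ((kernel φ).obj.map k.op).hom (τ Y g b) = τ Y' (k ≫ g) b
    apply hinj Y'
    rw [nat_apply (kernel.ι φ) k, hτ, hτ, D.θ_res, Category.assoc]
  · intro Y g y b b' hbb
    have hbb' : τ Y g b = τ Y g b' := hbb
    apply Subtype.ext
    apply D.θ_injective (g ≫ c) y
    rw [← hτ Y g b, ← hτ Y g b', hbb']
  · intro Y g s y
    obtain ⟨Z, k, n, ⟨z, hz⟩, hn⟩ :=
      D.exists_local (g ≫ c) (((kernel.ι φ).hom.app (op Y)).hom s) y
    have hnker : n ∈ h.ker := by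
      rw [AddMonoidHom.mem_ker]
      apply E.θ_injective (k ≫ g ≫ d) z
      rw [map_zero]
      have e1 := pt_res φ D E c d h hpt (k ≫ g) n
      simp only [Category.assoc] at e1
      rw [← e1, hn, ← nat_apply (kernel.ι φ) k s]
      exact hzero Z _
    refine ⟨Z, k, ⟨n, hnker⟩, ⟨z, hz⟩, ?_⟩
    show τ Z (k ≫ g) ⟨n, hnker⟩ = ((kernel φ).obj.map k.op).hom s
    apply hinj Z
    rw [hτ, nat_apply (kernel.ι φ) k s, ← hn, Category.assoc]

theorem lcdata_cokernel (φ : F ⟶ G) (D : Triv F) (E : Triv G) {P : X.Etale} (c : P ⟶ D.U)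
    (d : P ⟶ E.U) (h : D.N →+ E.N)
    (hpt : ∀ m, (φ.hom.app (op P)).hom (D.θ c m) = E.θ d (h m)) :
    Nonempty (LCData (cokernel φ) P (E.N ⧸ h.range)) := by
  classical
  let S : ShortComplex (EtCoh.Ab X) :=
    ShortComplex.mk φ (cokernel.π φ) (cokernel.condition φ)
  have hS : S.Exact := ShortComplex.exact_of_g_is_cokernel S (cokernelIsCokernel φ)
  have hzero : ∀ (Y : X.Etale) (t : F.obj.obj (op Y)),
      ((cokernel.π φ).hom.app (op Y)).hom ((φ.hom.app (op Y)).hom t) = 0 :=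
    fun Y t => comp_zero_sec φ (cokernel.π φ) (cokernel.condition φ) Y t
  let τ0 : ∀ (Y : X.Etale) (g : Y ⟶ P), E.N →+ (cokernel φ).obj.obj (op Y) := fun Y g =>
    ((cokernel.π φ).hom.app (op Y)).hom.comp (E.θ (g ≫ d))
  have hτ0 : ∀ (Y : X.Etale) (g : Y ⟶ P) (n : E.N),
      τ0 Y g n = ((cokernel.π φ).hom.app (op Y)).hom (E.θ (g ≫ d) n) := fun _ _ _ => rfl
  have hker : ∀ (Y : X.Etale) (g : Y ⟶ P), h.range ≤ (τ0 Y g).ker := by
    rintro Y g _ ⟨m, rfl⟩
    rw [AddMonoidHom.mem_ker, hτ0, ← pt_res φ D E c d h hpt g m]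
    exact hzero Y _
  refine ⟨{ τ := fun {Y} g => QuotientAddGroup.lift h.range (τ0 Y g) (hker Y g),
            res := ?_, inj := ?_, surj := ?_ }⟩
  · intro Y Y' g k b
    refine QuotientAddGroup.induction_on b (fun n => ?_)
    show ((cokernel φ).obj.map k.op).hom
        (((cokernel.π φ).hom.app (op Y)).hom (E.θ (g ≫ d) n)) =
      ((cokernel.π φ).hom.app (op Y')).hom (E.θ ((k ≫ g) ≫ d) n)
    rw [← nat_apply (cokernel.π φ) k, E.θ_res, Category.assoc]
  · intro Y g y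
    rw [injective_iff_map_eq_zero]
    intro b
    refine QuotientAddGroup.induction_on b (fun n hn => ?_)
    have hn' : ((cokernel.π φ).hom.app (op Y)).hom (E.θ (g ≫ d) n) = 0 := hn
    obtain ⟨Z, k, t, ⟨z, hz⟩, ht⟩ := exact_locSurj S hS (E.θ (g ≫ d) n) hn' y
    have ht' : (φ.hom.app (op Z)).hom t = (G.obj.map k.op).hom (E.θ (g ≫ d) n) := ht
    obtain ⟨Z', k', m, ⟨z', hz'⟩, hm⟩ := D.exists_local ((k ≫ g) ≫ c) t z
    rw [QuotientAddGroup.eq_zero_iff]
    refine ⟨m, ?_⟩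
    apply E.θ_injective (k' ≫ (k ≫ g) ≫ d) z'
    have e1 := pt_res φ D E c d h hpt (k' ≫ k ≫ g) m
    simp only [Category.assoc] at e1 hm ⊢
    rw [← e1, hm, nat_apply φ k' t, ht', E.θ_res, E.θ_res]
  · intro Y g s y
    obtain ⟨Z, k, t, ⟨z, hz⟩, ht⟩ := epi_locSurj (cokernel.π φ) s y
    obtain ⟨Z', k', n, ⟨z', hz'⟩, hn⟩ := E.exists_local ((k ≫ g) ≫ d) t z
    refine ⟨Z', k' ≫ k, (QuotientAddGroup.mk n : E.N ⧸ h.range), ⟨z', ?_⟩, ?_⟩
    · show k.left (k'.left z') = y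
      rw [hz', hz]
    · show ((cokernel.π φ).hom.app (op Z')).hom (E.θ (((k' ≫ k) ≫ g) ≫ d) n) =
        ((cokernel φ).obj.map (k' ≫ k).op).hom s
      rw [map_comp_hom, ← ht, ← nat_apply (cokernel.π φ) k' t, ← hn]
      simp only [Category.assoc]

end kercoker

section ext

theorem ext_sigma_zero {A C M : Type*} [AddCommGroup A] [AddCommGroup C] [AddCommGroup M]
    (j : A →+ M) (σ : C → M) (α : C → C → A)
    (hcoc : ∀ c c', σ (c + c') = j (α c c') + σ c + σ c') : σ 0 = - j (α 0 0) := by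
  have h := hcoc 0 0
  rw [add_zero] at h
  have h' : j (α 0 0) + σ 0 = 0 := by
    have : (j (α 0 0) + σ 0) + σ 0 = 0 + σ 0 := by rw [zero_add]; exact h.symm
    exact add_right_cancel this
  exact eq_neg_of_add_eq_zero_right h'

theorem ext_subgroup {A C M : Type*} [AddCommGroup A] [AddCommGroup C] [AddCommGroup M]
    (j : A →+ M) (σ : C → M) (α : C → C → A)
    (hcoc : ∀ c c', σ (c + c') = j (α c c') + σ c + σ c') :
    ∃ B : AddSubgroup M, ∀ x, x ∈ B ↔ ∃ n c, x = j n + σ c := by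
  have h0 := ext_sigma_zero j σ α hcoc
  refine ⟨{ carrier := {x | ∃ n c, x = j n + σ c}, zero_mem' := ?_, add_mem' := ?_,
            neg_mem' := ?_ }, fun x => Iff.rfl⟩
  · rintro _ _ ⟨n, c, rfl⟩ ⟨n', c', rfl⟩
    refine ⟨n + n' - α c c', c + c', ?_⟩
    rw [hcoc, map_sub, map_add]
    abel
  · exact ⟨α 0 0, 0, by rw [h0, add_neg_cancel]⟩
  · rintro _ ⟨n, c, rfl⟩
    refine ⟨-n + α 0 0 + α c (-c), -c, ?_⟩
    have h1 := hcoc c (-c)
    rw [add_neg_cancel, h0] at h1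
    have h2 : σ (-c) = -j (α 0 0) - j (α c (-c)) - σ c := by rw [h1]; abel
    rw [h2, map_add, map_add, map_neg]
    abel

variable (S : ShortComplex (EtCoh.Ab X)) (D' : Triv S.X₁) (D'' : Triv S.X₃)

/-- `i ∘ θ'` -/
noncomputable def jθ {P : X.Etale} (a : P ⟶ D'.U) : D'.N →+ S.X₂.obj.obj (op P) :=
  (S.f.hom.app (op P)).hom.comp (D'.θ a)

theorem jθ_apply {P : X.Etale} (a : P ⟶ D'.U) (n : D'.N) :
    jθ S D' a n = (S.f.hom.app (op P)).hom (D'.θ a n) := rfl

theorem lcdata_ext_aux (hS : S.ShortExact) [Finite D'.N] [Finite D''.N]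
    {P : X.Etale} (a : P ⟶ D'.U) (b : P ⟶ D''.U)
    (σ : D''.N → S.X₂.obj.obj (op P)) (α : D''.N → D''.N → D'.N)
    (hσ : ∀ c, (S.g.hom.app (op P)).hom (σ c) = D''.θ b c)
    (hcoc : ∀ c c', σ (c + c') = jθ S D' a (α c c') + σ c + σ c') :
    ∃ (B : AddSubgroup (S.X₂.obj.obj (op P))), Finite B ∧ Nonempty (LCData S.X₂ P B) := by
  classical
  haveI := hS.mono_f
  haveI := hS.epi_g
  obtain ⟨B, hB⟩ := ext_subgroup (jθ S D' a) σ α hcoc
  have h0 := ext_sigma_zero (jθ S D' a) σ α hcoc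
  have hpj : ∀ n, (S.g.hom.app (op P)).hom (jθ S D' a n) = 0 :=
    fun n => comp_zero_sec S.f S.g S.zero P (D'.θ a n)
  have hjres : ∀ {Y : X.Etale} (g : Y ⟶ P) (n : D'.N),
      (S.X₂.obj.map g.op).hom (jθ S D' a n) =
        (S.f.hom.app (op Y)).hom (D'.θ (g ≫ a) n) := by
    intro Y g n
    rw [← D'.θ_res a g n]
    exact (nat_apply S.f g (D'.θ a n)).symm
  have hσres : ∀ {Y : X.Etale} (g : Y ⟶ P) (c : D''.N),
      (S.g.hom.app (op Y)).hom ((S.X₂.obj.map g.op).hom (σ c)) = D''.θ (g ≫ b) c := by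
    intro Y g c
    rw [nat_apply S.g g (σ c), hσ c, D''.θ_res]
  refine ⟨B, ?_, ⟨{ τ := fun {Y} g => (S.X₂.obj.map g.op).hom.comp B.subtype,
                    res := ?_, inj := ?_, surj := ?_ }⟩⟩
  · exact Finite.of_surjective
      (fun pr : D'.N × D''.N =>
        (⟨jθ S D' a pr.1 + σ pr.2, (hB _).2 ⟨pr.1, pr.2, rfl⟩⟩ : B))
      (by
        rintro ⟨x, hx⟩
        obtain ⟨n, c, rfl⟩ := (hB x).1 hx
        exact ⟨(n, c), rfl⟩)
  · intro Y Y' g k x
    exact (map_comp_hom S.X₂ k g x.1).symm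
  · intro Y g y
    rw [injective_iff_map_eq_zero]
    rintro ⟨x, hx⟩ hx0
    obtain ⟨n, c, rfl⟩ := (hB x).1 hx
    have hx0' : (S.X₂.obj.map g.op).hom (jθ S D' a n + σ c) = 0 := hx0
    have hc : c = 0 := by
      apply D''.θ_injective (g ≫ b) y
      rw [map_zero, ← hσres g c]
      have e : (S.g.hom.app (op Y)).hom ((S.X₂.obj.map g.op).hom (jθ S D' a n)) +
          (S.g.hom.app (op Y)).hom ((S.X₂.obj.map g.op).hom (σ c)) = 0 := by
        rw [← map_add, ← map_add, hx0', map_zero]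
      rw [nat_apply S.g g (jθ S D' a n), hpj n, map_zero, zero_add] at e
      exact e
    subst hc
    have hn : n - α 0 0 = 0 := by
      apply D'.θ_injective (g ≫ a) y
      rw [map_zero]
      apply sec_injective S.f Y
      rw [map_zero, ← hjres g, map_sub]
      rw [h0, ← sub_eq_add_neg] at hx0'
      exact hx0'
    apply Subtype.ext
    show jθ S D' a n + σ 0 = 0
    rw [h0, ← sub_eq_add_neg, ← map_sub, hn, map_zero]
  · intro Y g s y
    obtain ⟨Z, k, c, ⟨z, hz⟩, hc⟩ :=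
      D''.exists_local (g ≫ b) ((S.g.hom.app (op Y)).hom s) y
    have hs' : (S.g.hom.app (op Z)).hom
        ((S.X₂.obj.map k.op).hom s - (S.X₂.obj.map (k ≫ g).op).hom (σ c)) = 0 := by
      rw [map_sub, nat_apply S.g k s, ← hc, hσres (k ≫ g) c, Category.assoc, sub_self]
    obtain ⟨κ, hκ⟩ := sec_exact S hS.exact Z _ hs'
    obtain ⟨Z', k', n, ⟨z', hz'⟩, hn⟩ := D'.exists_local ((k ≫ g) ≫ a) κ z
    refine ⟨Z', k' ≫ k, ⟨jθ S D' a n + σ c, (hB _).2 ⟨n, c, rfl⟩⟩, ⟨z', ?_⟩, ?_⟩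
    · show k.left (k'.left z') = y
      rw [hz', hz]
    · show (S.X₂.obj.map ((k' ≫ k) ≫ g).op).hom (jθ S D' a n + σ c) =
        (S.X₂.obj.map (k' ≫ k).op).hom s
      have e1 : (S.X₂.obj.map k'.op).hom ((S.f.hom.app (op Z)).hom κ) =
          (S.X₂.obj.map ((k' ≫ k) ≫ g).op).hom (jθ S D' a n) := by
        rw [← nat_apply S.f k' κ, ← hn, hjres]
        simp only [Category.assoc]
      rw [map_add, ← e1, hκ, map_sub, ← map_comp_hom, ← map_comp_hom, Category.assoc]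
      abel

theorem ext_local (hS : S.ShortExact) [Finite D'.N] [Finite D''.N] {W : X.Etale}
    (a : W ⟶ D'.U) (b : W ⟶ D''.U) (w : W.left) :
    ∃ (P : X.Etale) (q : P ⟶ W) (z : P.left), q.left z = w ∧
      ∃ (B : Type (u + 1)) (_ : AddCommGroup B) (_ : Finite B),
        Nonempty (LCData S.X₂ P B) := by
  classical
  haveI := hS.mono_f
  haveI := hS.epi_g
  haveI := Fintype.ofFinite D''.N
  have h1 : ∀ c : D''.N, ∃ (Z : X.Etale) (g : Z ⟶ W) (t : S.X₂.obj.obj (op Z)),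
      w ∈ Set.range g.left ∧
      (S.g.hom.app (op Z)).hom t = (S.X₃.obj.map g.op).hom (D''.θ b c) :=
    fun c => epi_locSurj S.g (D''.θ b c) w
  choose Z₁ g₁ t₁ hw₁ ht₁ using h1
  obtain ⟨P₁, q₁, ⟨z₁, hz₁⟩, hr₁⟩ :=
    exists_common w (Finset.univ : Finset D''.N) Z₁ g₁ hw₁
  have hr₁' : ∀ c, ∃ r : P₁ ⟶ Z₁ c, r ≫ g₁ c = q₁ := fun c => hr₁ c (Finset.mem_univ c)
  choose r₁ hr₁'' using hr₁'
  let σ₁ : D''.N → S.X₂.obj.obj (op P₁) := fun c => (S.X₂.obj.map (r₁ c).op).hom (t₁ c)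
  have hσ₁ : ∀ c, (S.g.hom.app (op P₁)).hom (σ₁ c) = D''.θ (q₁ ≫ b) c := by
    intro c
    show (S.g.hom.app (op P₁)).hom ((S.X₂.obj.map (r₁ c).op).hom (t₁ c)) = _
    rw [nat_apply S.g (r₁ c) (t₁ c), ht₁ c, D''.θ_res, D''.θ_res, ← Category.assoc, hr₁'' c]
  have h2 : ∀ cc : D''.N × D''.N, ∃ (Z : X.Etale) (g : Z ⟶ P₁) (n : D'.N),
      z₁ ∈ Set.range g.left ∧
      (S.f.hom.app (op Z)).hom (D'.θ (g ≫ q₁ ≫ a) n) =
        (S.X₂.obj.map g.op).hom (σ₁ (cc.1 + cc.2) - σ₁ cc.1 - σ₁ cc.2) := by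
    rintro ⟨c, c'⟩
    have hδ : (S.g.hom.app (op P₁)).hom (σ₁ (c + c') - σ₁ c - σ₁ c') = 0 := by
      rw [map_sub, map_sub, hσ₁, hσ₁, hσ₁, map_add]
      abel
    obtain ⟨κ, hκ⟩ := sec_exact S hS.exact P₁ _ hδ
    obtain ⟨Z, g, n, hz, hn⟩ := D'.exists_local (q₁ ≫ a) κ z₁
    refine ⟨Z, g, n, hz, ?_⟩
    rw [hn, nat_apply S.f g κ, hκ]
  choose Z₂ g₂ n₂ hw₂ hn₂ using h2
  obtain ⟨P, q₂, ⟨z, hz⟩, hr₂⟩ :=
    exists_common z₁ (Finset.univ : Finset (D''.N × D''.N)) Z₂ g₂ hw₂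
  have hr₂' : ∀ cc, ∃ r : P ⟶ Z₂ cc, r ≫ g₂ cc = q₂ := fun cc => hr₂ cc (Finset.mem_univ cc)
  choose r₂ hr₂'' using hr₂'
  let σ : D''.N → S.X₂.obj.obj (op P) := fun c => (S.X₂.obj.map q₂.op).hom (σ₁ c)
  let α : D''.N → D''.N → D'.N := fun c c' => n₂ (c, c')
  have hσ : ∀ c, (S.g.hom.app (op P)).hom (σ c) = D''.θ (q₂ ≫ q₁ ≫ b) c := by
    intro c
    show (S.g.hom.app (op P)).hom ((S.X₂.obj.map q₂.op).hom (σ₁ c)) = _
    rw [nat_apply S.g q₂ (σ₁ c), hσ₁ c, D''.θ_res]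
  have hcoc : ∀ c c', σ (c + c') = jθ S D' (q₂ ≫ q₁ ≫ a) (α c c') + σ c + σ c' := by
    intro c c'
    have e := hn₂ (c, c')
    have e' := congrArg (fun t => (S.X₂.obj.map (r₂ (c, c')).op).hom t) e
    have e1 : (S.X₂.obj.map (r₂ (c, c')).op).hom ((S.f.hom.app (op (Z₂ (c, c')))).hom
        (D'.θ (g₂ (c, c') ≫ q₁ ≫ a) (n₂ (c, c')))) = jθ S D' (q₂ ≫ q₁ ≫ a) (α c c') := by
      show _ = (S.f.hom.app (op P)).hom (D'.θ (q₂ ≫ q₁ ≫ a) (n₂ (c, c')))
      rw [← nat_apply S.f (r₂ (c, c')), D'.θ_res, ← Category.assoc, hr₂'' (c, c')]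
    have e2 : (S.X₂.obj.map (r₂ (c, c')).op).hom ((S.X₂.obj.map (g₂ (c, c')).op).hom
        (σ₁ (c + c') - σ₁ c - σ₁ c')) = σ (c + c') - σ c - σ c' := by
      show _ = (S.X₂.obj.map q₂.op).hom (σ₁ (c + c')) - (S.X₂.obj.map q₂.op).hom (σ₁ c) -
        (S.X₂.obj.map q₂.op).hom (σ₁ c')
      rw [← map_comp_hom, hr₂'' (c, c'), map_sub, map_sub]
    have e3 : jθ S D' (q₂ ≫ q₁ ≫ a) (α c c') = σ (c + c') - σ c - σ c' :=
      e1.symm.trans (e'.trans e2)
    rw [e3]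
    abel
  obtain ⟨B, hfin, ⟨L⟩⟩ :=
    lcdata_ext_aux S D' D'' hS (q₂ ≫ q₁ ≫ a) (q₂ ≫ q₁ ≫ b) σ α hσ hcoc
  refine ⟨P, q₂ ≫ q₁, z, ?_, B, inferInstance, hfin, ⟨L⟩⟩
  show q₁.left (q₂.left z) = w
  rw [hz, hz₁]

end ext

theorem main45 (X : Scheme.{u}) :
    (∀ (F G : EtCoh.Ab X) (φ : F ⟶ G), EtCoh.IsFiniteLocallyConstant F →
      EtCoh.IsFiniteLocallyConstant G →
      EtCoh.IsFiniteLocallyConstant (kernel φ) ∧ EtCoh.IsFiniteLocallyConstant (cokernel φ)) ∧
    ObjectProperty.IsClosedUnderExtensions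
      (fun F : EtCoh.Ab X => EtCoh.IsFiniteLocallyConstant F) := by
  classical
  refine ⟨fun F G φ hF hG => ?_, ⟨fun {S} hS h₁ h₃ => ?_⟩⟩
  · obtain ⟨ι, U, hcov, hM⟩ := hF
    obtain ⟨κ, V, hcovV, hN⟩ := hG
    have hloc : ∀ x : X, ∃ (P : X.Etale) (z : P.left), P.hom.base z = x ∧
        ∃ (D : Triv F) (E : Triv G) (_ : Finite D.N) (_ : Finite E.N) (c : P ⟶ D.U)
          (d : P ⟶ E.U) (h : D.N →+ E.N),
          ∀ m, (φ.hom.app (op P)).hom (D.θ c m) = E.θ d (h m) := by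
      intro x
      obtain ⟨i, y, hy⟩ := hcov x
      obtain ⟨j, y', hy'⟩ := hcovV x
      obtain ⟨M, iM, fM, ⟨α⟩⟩ := hM i
      obtain ⟨N, iN, fN, ⟨β⟩⟩ := hN j
      let D : Triv F := ⟨U i, AddCommGrpCat.of (ULift.{u + 1} M), α⟩
      let E : Triv G := ⟨V j, AddCommGrpCat.of (ULift.{u + 1} N), β⟩
      haveI : Finite D.N := (inferInstance : Finite (ULift.{u + 1} M))
      haveI : Finite E.N := (inferInstance : Finite (ULift.{u + 1} N))
      obtain ⟨P, c, d, z, h, hz, hpt⟩ := local_const φ D E y y' (hy.trans hy'.symm)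
      refine ⟨P, z, ?_, D, E, inferInstance, inferInstance, c, d, h, hpt⟩
      calc P.hom.base z = (c.left ≫ D.U.hom).base z :=
          congrArg (fun f => f.base z) (MorphismProperty.Over.w c).symm
        _ = x := by
          show (U i).hom.base (c.left.base z) = x
          rw [hz]
          exact hy
    constructor
    · apply flc_of_local
      intro x
      obtain ⟨P, z, hz, D, E, fD, fE, c, d, h, hpt⟩ := hloc x
      obtain ⟨L⟩ := lcdata_kernel φ D E c d h hpt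
      exact ⟨P, z, hz, h.ker, inferInstance, inferInstance, ⟨L⟩⟩
    · apply flc_of_local
      intro x
      obtain ⟨P, z, hz, D, E, fD, fE, c, d, h, hpt⟩ := hloc x
      obtain ⟨L⟩ := lcdata_cokernel φ D E c d h hpt
      exact ⟨P, z, hz, E.N ⧸ h.range, inferInstance, inferInstance, ⟨L⟩⟩
  · have h₁' : EtCoh.IsFiniteLocallyConstant S.X₁ := h₁
    have h₃' : EtCoh.IsFiniteLocallyConstant S.X₃ := h₃
    show EtCoh.IsFiniteLocallyConstant S.X₂
    obtain ⟨ι, U, hcov, hM⟩ := h₁'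
    obtain ⟨κ, V, hcovV, hN⟩ := h₃'
    apply flc_of_local
    intro x
    obtain ⟨i, y, hy⟩ := hcov x
    obtain ⟨j, y', hy'⟩ := hcovV x
    obtain ⟨M, iM, fM, ⟨α⟩⟩ := hM i
    obtain ⟨N, iN, fN, ⟨β⟩⟩ := hN j
    let D' : Triv S.X₁ := ⟨U i, AddCommGrpCat.of (ULift.{u + 1} M), α⟩
    let D'' : Triv S.X₃ := ⟨V j, AddCommGrpCat.of (ULift.{u + 1} N), β⟩
    haveI : Finite D'.N := (inferInstance : Finite (ULift.{u + 1} M))
    haveI : Finite D''.N := (inferInstance : Finite (ULift.{u + 1} N))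
    let T : X.Etale := Scheme.Etale.mk (𝟙 X)
    let φ₁ : D'.U ⟶ T := MorphismProperty.Over.homMk D'.U.hom (Category.comp_id _) trivial
    let φ₂ : D''.U ⟶ T := MorphismProperty.Over.homMk D''.U.hom (Category.comp_id _) trivial
    obtain ⟨W, a, b, w, -, ha, -⟩ := exists_prod φ₁ φ₂ y y' (hy.trans hy'.symm)
    obtain ⟨P, q, z, hz, B, iB, fB, hL⟩ := ext_local S D' D'' hS a b w
    refine ⟨P, z, ?_, B, iB, fB, hL⟩
    calc P.hom.base z = ((q ≫ a).left ≫ D'.U.hom).base z :=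
          congrArg (fun f => f.base z) (MorphismProperty.Over.w (q ≫ a)).symm
      _ = x := by
          show (U i).hom.base (a.left (q.left z)) = x
          rw [hz, ha]
          exact hy

end Groth.Agent.Lib.EtLocConst
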