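import Mathlib
import Groth.Prelude.Def_EtBase
import Groth.Prelude.Def_EtGm
import Groth.Agent.Lib.EtSchSite_helper7
import Groth.Agent.Lib.Kummer_helper7
import Groth.Agent.Lib.ArtinSchreier_lead
import Groth.Agent.Lib.EtLocConstSerre_lead

/-! # `μ_n` is constant when a primitive root of unity exists (lead) -/

set_option autoImplicit false
set_option linter.unusedSimpArgs false
set_option linter.unusedVariables false
set_option linter.unusedSectionVars false
set_option linter.style.longLine false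
set_option linter.unnecessarySimpa false
set_option maxHeartbeats 1600000
set_option backward.isDefEq.respectTransparency false
set_option backward.isDefEq.respectTransparency.types false
set_option backward.defeqAttrib.useBackward true

universe u

open CategoryTheory CategoryTheory.Limits AlgebraicGeometry Opposite

namespace Groth.Agent.Lib.MuConst

open Groth.Agent.Lib.EtSchSite_helper7 Groth.Agent.Lib.EtLocConst Groth.Agent.Lib.Kummer_helper7

variable {S : Scheme.{u}}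

/-- global constancy data for a sheaf `K` with value group `B` -/
structure GCData (K : EtCoh.Ab S) (B : Type (u + 1)) [AddCommGroup B] where
  τ : ∀ (Y : S.Etale), B →+ K.obj.obj (op Y)
  res : ∀ {Y Y' : S.Etale} (g : Y' ⟶ Y) (b : B), (K.obj.map g.op).hom (τ Y b) = τ Y' b
  inj : ∀ (Y : S.Etale) (y : Y.left), Function.Injective (τ Y)
  surj : ∀ (Y : S.Etale) (s : K.obj.obj (op Y)) (y : Y.left),
    ∃ (Z : S.Etale) (g : Z ⟶ Y) (b : B), y ∈ Set.range g.left ∧
      τ Z b = (K.obj.map g.op).hom s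

namespace GCData

variable {K : EtCoh.Ab S} {B : Type (u + 1)} [AddCommGroup B] (L : GCData K B)

/-- the presheaf map `const B ⟶ K` -/
noncomputable def ψ : (Functor.const (S.Etale)ᵒᵖ).obj (AddCommGrpCat.of B) ⟶ K.obj where
  app A := AddCommGrpCat.ofHom (L.τ A.unop)
  naturality A A' k := by
    apply AddCommGrpCat.hom_ext
    apply AddMonoidHom.ext
    intro b
    show L.τ A'.unop b = (K.obj.map k.unop.op).hom (L.τ A.unop b)
    exact (L.res k.unop b).symm

instance ψ_locInj : Presheaf.IsLocallyInjective S.smallEtaleTopology L.ψ where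
  equalizerSieve_mem {A} b b' hbb := by
    apply sieve_mem_of_forall_exists
    intro y
    have hb : b = b' := L.inj A.unop y hbb
    subst hb
    exact ⟨A.unop, 𝟙 _, rfl, ⟨y, rfl⟩⟩

instance ψ_locSurj : Presheaf.IsLocallySurjective S.smallEtaleTopology L.ψ where
  imageSieve_mem {A} s := by
    apply sieve_mem_of_forall_exists
    intro y
    obtain ⟨Z, g, b, hy, hb⟩ := L.surj A s y
    exact ⟨Z, g, ⟨b, hb⟩, hy⟩

/-- the induced map of sheaves -/
noncomputable def ψS : (constantSheaf S.smallEtaleTopology AddCommGrpCat.{u + 1}).obj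
    (AddCommGrpCat.of B) ⟶ K :=
  ⟨sheafifyLift S.smallEtaleTopology L.ψ K.property⟩

theorem ψS_fac : toSheafify S.smallEtaleTopology
    ((Functor.const (S.Etale)ᵒᵖ).obj (AddCommGrpCat.of B)) ≫ L.ψS.hom = L.ψ :=
  toSheafify_sheafifyLift _ _ _

instance isIso_ψS : IsIso L.ψS := by
  refine (Sheaf.isLocallyBijective_iff_isIso L.ψS).1 ⟨?_, ?_⟩
  · exact Presheaf.isLocallyInjective_of_isLocallyInjective_of_isLocallySurjective_fac
      S.smallEtaleTopology L.ψ L.ψS_fac
  · exact Presheaf.isLocallySurjective_of_isLocallySurjective_fac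
      S.smallEtaleTopology L.ψS_fac

include L in
theorem nonempty_iso : Nonempty (K ≅ (constantSheaf S.smallEtaleTopology
    AddCommGrpCat.{u + 1}).obj (AddCommGrpCat.of B)) :=
  ⟨(asIso L.ψS).symm⟩

end GCData

section algebra

theorem aeval_map_int {R R' : Type*} [CommRing R] [CommRing R'] (φ : R →+* R') (ζ : R)
    (p : Polynomial ℤ) : Polynomial.aeval (φ ζ) p = φ (Polynomial.aeval ζ p) := by
  rw [Polynomial.aeval_def, Polynomial.aeval_def, Polynomial.hom_eval₂]
  congr 1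
  exact RingHom.ext_int _ _

theorem isPrimitiveRoot_of_aeval {R K : Type*} [CommRing R] [Field K] (φ : R →+* K) (ζ : R)
    (n : ℕ) (hunit : IsUnit (n : R))
    (hζ : Polynomial.aeval ζ (Polynomial.cyclotomic n ℤ) = 0) : IsPrimitiveRoot (φ ζ) n := by
  haveI : NeZero ((n : ℕ) : K) := ⟨by
    have h := hunit.map φ
    rw [map_natCast] at h
    exact h.ne_zero⟩
  have h := aeval_map_int φ ζ (Polynomial.cyclotomic n ℤ)
  rw [hζ, map_zero, Polynomial.aeval_def, Polynomial.eval₂_eq_eval_map, algebraMap_int_eq,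
    Polynomial.map_cyclotomic_int] at h
  exact Polynomial.isRoot_cyclotomic_iff.1 h

theorem map_units_pow {R R' : Type*} [CommRing R] [CommRing R'] (f : R →+* R') (ζu : Rˣ) (n : ℕ)
    (h : ζu ^ n = 1) : (f ζu.val) ^ n = 1 := by
  rw [← map_pow, ← Units.val_pow_eq_pow_val, h, Units.val_one, map_one]

theorem pow_eq_one_of_aeval {R : Type*} [CommRing R] (ζ : R) (n : ℕ)
    (hζ : Polynomial.aeval ζ (Polynomial.cyclotomic n ℤ) = 0) : ζ ^ n = 1 := by
  obtain ⟨q, hq⟩ := Polynomial.cyclotomic.dvd_X_pow_sub_one n ℤ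
  have h := congrArg (Polynomial.aeval ζ) hq
  rw [map_mul, hζ, zero_mul] at h
  simpa [sub_eq_zero] using h

end algebra

section scheme

theorem exists_open_eq_pow {U : Scheme.{u}} (z x : Γ(U, ⊤)) (n : ℕ) [NeZero n] (hz : z ^ n = 1)
    (hx : x ^ n = 1) (y : U) (hprim : IsPrimitiveRoot ((U.Γevaluation y).hom z) n)
    (hn : ((n : ℕ) : U.residueField y) ≠ 0) :
    ∃ (W : U.Opens) (i : ℕ), y ∈ W ∧ W.ι.appTop.hom x = W.ι.appTop.hom z ^ i := by
  obtain ⟨i, hi, hzi⟩ := hprim.eq_pow_of_pow_eq_one (ξ := (U.Γevaluation y).hom x)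
    (by rw [← map_pow, hx, map_one])
  obtain ⟨y', hy'⟩ : ∃ y' : Γ(U, ⊤), y' = x * z ^ (n - i) := ⟨_, rfl⟩
  have hy'n : y' ^ n = 1 := by
    rw [hy', mul_pow, hx, one_mul, ← pow_mul, mul_comm, pow_mul, hz, one_pow]
  have hxy' : x = y' * z ^ i := by
    rw [hy', mul_assoc, ← pow_add, Nat.sub_add_cancel hi.le, hz, mul_one]
  have hevy' : (U.Γevaluation y).hom y' = 1 := by
    rw [hy', map_mul, map_pow, ← hzi, ← pow_add, Nat.add_sub_cancel' hi.le, hprim.pow_eq_one]
  obtain ⟨g, hgdef⟩ : ∃ g : Γ(U, ⊤), g = ∑ j ∈ Finset.range n, y' ^ j := ⟨_, rfl⟩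
  have hg : g * (y' - 1) = 0 := by rw [hgdef, geom_sum_mul, hy'n, sub_self]
  have hevg : (U.Γevaluation y).hom g ≠ 0 := by
    rw [hgdef, map_sum]
    simp only [map_pow, hevy', one_pow, Finset.sum_const, Finset.card_range, nsmul_eq_mul,
      mul_one]
    exact hn
  have hyW : y ∈ U.basicOpen g := (U.evaluation_ne_zero_iff_mem_basicOpen (U := ⊤) y trivial g).1 hevg
  refine ⟨U.basicOpen g, i, hyW, ?_⟩
  have hu := Groth.Agent.Lib.ArtinSchreier.isUnit_ι_appTop_basicOpen g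
  have h0 : (U.basicOpen g).ι.appTop.hom g * ((U.basicOpen g).ι.appTop.hom y' - 1) = 0 := by
    rw [← map_one (U.basicOpen g).ι.appTop.hom, ← map_sub, ← map_mul, hg, map_zero]
  have h1 : (U.basicOpen g).ι.appTop.hom y' = 1 := sub_eq_zero.1 ((hu.mul_right_eq_zero).1 h0)
  calc (U.basicOpen g).ι.appTop.hom x = (U.basicOpen g).ι.appTop.hom (y' * z ^ i) :=
        congrArg _ hxy'
    _ = (U.basicOpen g).ι.appTop.hom z ^ i := by rw [map_mul, h1, one_mul, map_pow]

end scheme

section gm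

/-- the underlying function of a section of `G_m` -/
def gmVal {Y : S.Etale} (s : (EtCoh.Gm S).obj.obj (op Y)) : Γ(Y.left, ⊤) :=
  ((Additive.toMul (ULift.down s) : (Γ(Y.left, ⊤))ˣ) : Γ(Y.left, ⊤))

theorem gmVal_injective {Y : S.Etale} :
    Function.Injective (gmVal (S := S) (Y := Y)) := by
  intro s s' h
  apply ULift.ext
  apply Additive.toMul.injective
  apply Units.ext
  exact h

theorem gmVal_zero {Y : S.Etale} : gmVal (0 : (EtCoh.Gm S).obj.obj (op Y)) = 1 := rfl

theorem gmVal_add {Y : S.Etale} (s s' : (EtCoh.Gm S).obj.obj (op Y)) :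
    gmVal (s + s') = gmVal s * gmVal s' := rfl

theorem gmVal_nsmul {Y : S.Etale} (k : ℕ) (s : (EtCoh.Gm S).obj.obj (op Y)) :
    gmVal (k • s) = gmVal s ^ k := by
  induction k with
  | zero => rw [zero_nsmul, pow_zero]; rfl
  | succ k ih => rw [succ_nsmul, gmVal_add, ih, pow_succ]

theorem gmVal_map {Y Y' : S.Etale} (g : Y' ⟶ Y) (s : (EtCoh.Gm S).obj.obj (op Y)) :
    gmVal (((EtCoh.Gm S).obj.map g.op).hom s) = g.left.appTop.hom (gmVal s) := rfl

end gm

section mu

variable (S) (n : ℕ) [NeZero n] (ζu : (Γ(S, ⊤))ˣ) (hζn : ζu ^ n = 1)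

/-- the section of `G_m` over `Y` given by `ζ` -/
noncomputable def zetaSec (Y : S.Etale) : (EtCoh.Gm S).obj.obj (op Y) :=
  ULift.up (Additive.ofMul (Units.map (Y.hom.appTop.hom).toMonoidHom ζu))

theorem gmVal_zetaSec (Y : S.Etale) : gmVal (zetaSec S ζu Y) = Y.hom.appTop.hom ζu.val := rfl

theorem zetaSec_res {Y Y' : S.Etale} (g : Y' ⟶ Y) :
    ((EtCoh.Gm S).obj.map g.op).hom (zetaSec S ζu Y) = zetaSec S ζu Y' := by
  apply gmVal_injective
  rw [gmVal_map, gmVal_zetaSec, gmVal_zetaSec]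
  have hw : g.left ≫ Y.hom = Y'.hom := MorphismProperty.Over.w g
  rw [← hw, Scheme.Hom.comp_appTop]
  rfl

include hζn in
theorem nsmul_zetaSec (Y : S.Etale) : n • zetaSec S ζu Y = 0 := by
  apply gmVal_injective
  rw [gmVal_nsmul, gmVal_zetaSec, gmVal_zero]
  exact map_units_pow (Y.hom.appTop.hom) ζu n hζn

/-- the homomorphism `ℤ/n → G_m(Y)`, `k ↦ ζ^k` -/
noncomputable def zHom (Y : S.Etale) : ZMod n →+ (EtCoh.Gm S).obj.obj (op Y) :=
  ZMod.lift n ⟨zmultiplesHom _ (zetaSec S ζu Y), by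
    rw [zmultiplesHom_apply, natCast_zsmul]
    exact nsmul_zetaSec S n ζu hζn Y⟩

theorem zHom_natCast (Y : S.Etale) (m : ℕ) :
    zHom S n ζu hζn Y (m : ZMod n) = m • zetaSec S ζu Y := by
  unfold zHom
  rw [← Int.cast_natCast (R := ZMod n) m, ZMod.lift_coe]
  simp only [zmultiplesHom_apply, natCast_zsmul]

theorem zHom_res {Y Y' : S.Etale} (g : Y' ⟶ Y) (k : ZMod n) :
    ((EtCoh.Gm S).obj.map g.op).hom (zHom S n ζu hζn Y k) = zHom S n ζu hζn Y' k := by
  obtain ⟨m, rfl⟩ : ∃ m : ℕ, (m : ZMod n) = k := ⟨k.val, ZMod.natCast_zmod_val k⟩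
  rw [zHom_natCast, zHom_natCast, map_nsmul, zetaSec_res]

theorem zHom_eq_zero {Y : S.Etale} {K : Type*} [Field K] (ev : Γ(Y.left, ⊤) →+* K)
    (hprim : IsPrimitiveRoot (ev (Y.hom.appTop.hom ζu.val)) n) {k : ZMod n}
    (h : zHom S n ζu hζn Y k = 0) : k = 0 := by
  obtain ⟨m, hm, rfl⟩ : ∃ m : ℕ, m < n ∧ (m : ZMod n) = k :=
    ⟨k.val, ZMod.val_lt k, ZMod.natCast_zmod_val k⟩
  rw [zHom_natCast] at h
  have h1 := congrArg gmVal h
  rw [gmVal_nsmul, gmVal_zetaSec, gmVal_zero] at h1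
  have h2 := congrArg ev h1
  rw [map_pow, map_one] at h2
  have h3 := (hprim.pow_eq_one_iff_dvd m).1 h2
  have hm0 : m = 0 := Nat.eq_zero_of_dvd_of_lt h3 hm
  rw [hm0, Nat.cast_zero]

include hζn in
theorem gcdata_mu
    (hprim : ∀ (Y : S.Etale) (y : Y.left),
      IsPrimitiveRoot ((Y.left.Γevaluation y).hom (Y.hom.appTop.hom ζu.val)) n)
    (hne : ∀ (Y : S.Etale) (y : Y.left), ((n : ℕ) : Y.left.residueField y) ≠ 0) :
    Nonempty (GCData (kernel (EtCoh.powMap S n)) (ULift.{u + 1} (ZMod n))) := by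
  classical
  obtain ⟨φ, hφ⟩ : ∃ φ : EtCoh.Gm S ⟶ EtCoh.Gm S, φ = EtCoh.powMap S n := ⟨_, rfl⟩
  rw [← hφ]
  let SS : ShortComplex (EtCoh.Ab S) := ShortComplex.mk (kernel.ι φ) φ (kernel.condition φ)
  have hSS : SS.Exact := ShortComplex.exact_of_f_is_kernel SS (kernelIsKernel φ)
  haveI : Mono SS.f := (inferInstance : Mono (kernel.ι φ))
  have hinj : ∀ Y : S.Etale, Function.Injective ((kernel.ι φ).hom.app (op Y)).hom :=
    fun Y => sec_injective (kernel.ι φ) Y
  have hpow : ∀ (Y : S.Etale) (t : (EtCoh.Gm S).obj.obj (op Y)),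
      (φ.hom.app (op Y)).hom t = n • t := by
    intro Y t
    rw [hφ]
    exact nsmul_hom_app_apply (𝟙 (EtCoh.Gm S)) n (op Y) t
  have hzero : ∀ (Y : S.Etale) (t : (kernel φ).obj.obj (op Y)),
      n • ((kernel.ι φ).hom.app (op Y)).hom t = 0 := by
    intro Y t
    rw [← hpow]
    exact comp_zero_sec (kernel.ι φ) φ (kernel.condition φ) Y t
  have hlift : ∀ (Y : S.Etale) (b : ULift.{u + 1} (ZMod n)),
      ∃ t : (kernel φ).obj.obj (op Y),
        ((kernel.ι φ).hom.app (op Y)).hom t = zHom S n ζu hζn Y b.down := by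
    intro Y b
    refine sec_exact SS hSS Y (zHom S n ζu hζn Y b.down) ?_
    show (φ.hom.app (op Y)).hom (zHom S n ζu hζn Y b.down) = 0
    rw [hpow, ← map_nsmul, nsmul_eq_mul, ZMod.natCast_self, zero_mul, map_zero]
  choose τ hτ using hlift
  have hadd : ∀ (Y : S.Etale) (b b' : ULift.{u + 1} (ZMod n)),
      τ Y (b + b') = τ Y b + τ Y b' := by
    intro Y b b'
    apply hinj Y
    rw [map_add, hτ, hτ, hτ]
    show zHom S n ζu hζn Y (b.down + b'.down) = _
    rw [map_add]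
  refine ⟨{ τ := fun Y => AddMonoidHom.mk' (τ Y) (hadd Y), res := ?_, inj := ?_, surj := ?_ }⟩
  · intro Y Y' g b
    show ((kernel φ).obj.map g.op).hom (τ Y b) = τ Y' b
    apply hinj Y'
    rw [nat_apply (kernel.ι φ) g, hτ, hτ]
    exact zHom_res S n ζu hζn g b.down
  · intro Y y
    rw [injective_iff_map_eq_zero]
    intro b hb
    have hb' : τ Y b = 0 := hb
    have h1 : zHom S n ζu hζn Y b.down = 0 := by rw [← hτ Y b, hb', map_zero]
    have h2 : b.down = 0 := zHom_eq_zero S n ζu hζn (Y.left.Γevaluation y).hom (hprim Y y) h1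
    exact ULift.ext _ _ h2
  · intro Y s y
    have hxn : gmVal (((kernel.ι φ).hom.app (op Y)).hom s) ^ n = 1 := by
      rw [← gmVal_nsmul, hzero Y s, gmVal_zero]
    have hzn : (Y.hom.appTop.hom ζu.val) ^ n = 1 := map_units_pow (Y.hom.appTop.hom) ζu n hζn
    obtain ⟨W, i, hyW, hWi⟩ := exists_open_eq_pow (Y.hom.appTop.hom ζu.val)
      (gmVal (((kernel.ι φ).hom.app (op Y)).hom s)) n hzn hxn y (hprim Y y) (hne Y y)
    haveI : Etale (W.ι ≫ Y.hom) := inferInstance
    let Z : S.Etale := Scheme.Etale.mk (W.ι ≫ Y.hom)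
    let g : Z ⟶ Y := MorphismProperty.Over.homMk W.ι rfl trivial
    refine ⟨Z, g, ULift.up ((i : ℕ) : ZMod n), ?_, ?_⟩
    · show y ∈ Set.range W.ι
      rw [Scheme.Opens.range_ι]
      exact hyW
    · show τ Z (ULift.up ((i : ℕ) : ZMod n)) = ((kernel φ).obj.map g.op).hom s
      apply hinj Z
      rw [hτ, nat_apply (kernel.ι φ) g s]
      show zHom S n ζu hζn Z ((i : ℕ) : ZMod n) = _
      rw [zHom_natCast]
      apply gmVal_injective
      rw [gmVal_nsmul, gmVal_zetaSec, gmVal_map]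
      show ((W.ι ≫ Y.hom).appTop.hom ζu.val) ^ i =
        W.ι.appTop.hom (gmVal (((kernel.ι φ).hom.app (op Y)).hom s))
      rw [Scheme.Hom.comp_appTop]
      exact hWi.symm

end mu

theorem main07 (S : Scheme.{u}) (n : ℕ) (hn : 1 ≤ n) (hunit : IsUnit (n : Γ(S, ⊤)))
    (ζ : Γ(S, ⊤)) (hζ : Polynomial.aeval ζ (Polynomial.cyclotomic n ℤ) = 0) :
    Nonempty (EtCoh.mu S n ≅ EtCoh.const S (ZMod n)) := by
  haveI : NeZero n := ⟨by omega⟩
  have hζ1 : ζ ^ n = 1 := pow_eq_one_of_aeval ζ n hζ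
  obtain ⟨ζu, hζu⟩ : ∃ ζu : (Γ(S, ⊤))ˣ, ζu.val = ζ :=
    ⟨Units.ofPowEqOne ζ n hζ1 (NeZero.ne n), rfl⟩
  have hζun : ζu ^ n = 1 := by
    apply Units.ext
    rw [Units.val_pow_eq_pow_val, hζu, hζ1, Units.val_one]
  have hprim : ∀ (Y : S.Etale) (y : Y.left),
      IsPrimitiveRoot ((Y.left.Γevaluation y).hom (Y.hom.appTop.hom ζu.val)) n := by
    intro Y y
    rw [hζu]
    exact isPrimitiveRoot_of_aeval ((Y.left.Γevaluation y).hom.comp Y.hom.appTop.hom) ζ n hunit hζ
  have hne : ∀ (Y : S.Etale) (y : Y.left), ((n : ℕ) : Y.left.residueField y) ≠ 0 := by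
    intro Y y
    have h := hunit.map ((Y.left.Γevaluation y).hom.comp Y.hom.appTop.hom)
    rw [map_natCast] at h
    exact h.ne_zero
  obtain ⟨L⟩ := gcdata_mu S n ζu hζun hprim hne
  exact L.nonempty_iso

theorem exists_cyclotomic_root (A : Type u) [CommRing A]
    (hA : EtCoh.IsStrictlyHenselianLocalRing A) (n : ℕ) (hn : 1 ≤ n) (hu : IsUnit (n : A)) :
    ∃ a : A, Polynomial.aeval a (Polynomial.cyclotomic n ℤ) = 0 := by
  obtain ⟨hH, hsc⟩ := hA
  haveI := hH
  haveI := hsc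
  haveI : NeZero n := ⟨by omega⟩
  have hnκ : ((n : ℕ) : IsLocalRing.ResidueField A) ≠ 0 := by
    have h := hu.map (IsLocalRing.residue A)
    rw [map_natCast] at h
    exact h.ne_zero
  have hsep : (Polynomial.cyclotomic n (IsLocalRing.ResidueField A)).Separable := by
    have h1 : (Polynomial.X ^ n - Polynomial.C (1 : IsLocalRing.ResidueField A)).Separable :=
      Polynomial.separable_X_pow_sub_C (1 : IsLocalRing.ResidueField A) hnκ one_ne_zero
    rw [map_one] at h1
    exact h1.of_dvd (Polynomial.cyclotomic.dvd_X_pow_sub_one n _)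
  have hdeg : (Polynomial.cyclotomic n (IsLocalRing.ResidueField A)).degree ≠ 0 := by
    rw [Polynomial.degree_cyclotomic]
    exact_mod_cast (Nat.totient_pos.2 (Nat.pos_of_ne_zero (NeZero.ne n))).ne'
  obtain ⟨z₀, hz₀⟩ := IsSepClosed.exists_root
    (Polynomial.cyclotomic n (IsLocalRing.ResidueField A)) hdeg hsep
  obtain ⟨a₀, rfl⟩ := IsLocalRing.residue_surjective z₀
  have hmap : (Polynomial.cyclotomic n A).map (IsLocalRing.residue A) =
      Polynomial.cyclotomic n (IsLocalRing.ResidueField A) :=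
    Polynomial.map_cyclotomic n (IsLocalRing.residue A)
  have h1 : (Polynomial.cyclotomic n A).eval a₀ ∈ IsLocalRing.maximalIdeal A := by
    rw [← IsLocalRing.residue_eq_zero_iff, ← Polynomial.eval_map_apply, hmap]
    exact hz₀
  have h2 : IsUnit ((Polynomial.cyclotomic n A).derivative.eval a₀) := by
    rw [← IsLocalRing.residue_ne_zero_iff_isUnit, ← Polynomial.eval_map_apply,
      ← Polynomial.derivative_map, hmap]
    have h3 := hsep.eval₂_derivative_ne_zero (RingHom.id _) (x := IsLocalRing.residue A a₀)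
      (by rw [Polynomial.eval₂_id]; exact hz₀)
    rwa [Polynomial.eval₂_id] at h3
  obtain ⟨a, ha, -⟩ := HenselianLocalRing.is_henselian (Polynomial.cyclotomic n A)
    (Polynomial.cyclotomic.monic n A) a₀ h1 h2
  refine ⟨a, ?_⟩
  rw [Polynomial.aeval_def, Polynomial.eval₂_eq_eval_map, algebraMap_int_eq,
    Polynomial.map_cyclotomic_int]
  exact ha

theorem main25 (A : Type u) [CommRing A]
    (hA : EtCoh.IsStrictlyHenselianLocalRing A) (n : ℕ) (hn : 1 ≤ n) (hu : IsUnit (n : A))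
    (X : Scheme.{u}) (f : X ⟶ Spec (CommRingCat.of A)) :
    Nonempty (EtCoh.mu X n ≅ EtCoh.const X (ZMod n)) := by
  obtain ⟨a, ha⟩ := exists_cyclotomic_root A hA n hn hu
  let φ : A →+* Γ(X, ⊤) := (f.appTop.hom).comp (Scheme.ΓSpecIso (CommRingCat.of A)).inv.hom
  refine main07 X n hn ?_ (φ a) ?_
  · have h := hu.map φ
    rwa [map_natCast] at h
  · rw [aeval_map_int φ a, ha, map_zero]

end Groth.Agent.Lib.MuConst
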