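import Mathlib
import Groth.Prelude.Def_EtBase
import Groth.Prelude.Def_EtGm
import Groth.Prelude.Def_W4c5etcohweilstudentAS
import Groth.Agent.Lib.ASEpi_lead
import Groth.Agent.Lib.MuConst_lead
import Groth.Agent.Lib.EtCartan3_helper8
import Groth.Agent.Lib.CechSiteSheaf_helper2

/-!
# The Artin–Schreier sequence on the small étale site and `H^q(S, ℤ/p) = 0`, `q ≥ 2`, for `S`
affine of characteristic `p` (helper8)
APPEND-ONLY once landed.
-/

set_option autoImplicit false
set_option backward.isDefEq.respectTransparency false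
universe u
open CategoryTheory CategoryTheory.Limits AlgebraicGeometry Opposite Abelian

namespace Groth.Agent.Lib.ASCohH8

open Groth.Agent.Lib.CechSite Groth.Agent.Lib.EtZarAff_helper7

variable (S : Scheme.{u}) (p : ℕ) [hp : Fact p.Prime] [CharP Γ(S, ⊤) p]

omit hp in
lemma h0 : (p : Γ(S, ⊤)) = 0 := CharP.cast_eq_zero _ p

/-- the Artin–Schreier endomorphism -/
noncomputable abbrev AS : EtCoh.Ga S ⟶ EtCoh.Ga S :=
  W4c5etcohweilstudent.artinSchreierEndo S p hp.out (h0 S p)

/-- the Artin–Schreier short complex `0 → ker → G_a → G_a → 0` -/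
noncomputable abbrev Sx : ShortComplex (EtCoh.Ab S) :=
  ShortComplex.mk (kernel.ι (AS S p)) (AS S p) (kernel.condition _)

lemma shortExact_Sx : (Sx S p).ShortExact :=
  { exact := ShortComplex.exact_kernel (AS S p)
    mono_f := inferInstanceAs (Mono (kernel.ι (AS S p)))
    epi_g := Groth.Agent.Lib.ASEpi.epi_artinSchreier p hp.out (h0 S p) }

theorem subsingleton_H_kernel [IsAffine S] (q : ℕ) (hq : 2 ≤ q) :
    Subsingleton (EtCoh.H S (kernel (AS S p)) q) := by
  obtain ⟨n, rfl⟩ : ∃ n, q = n + 2 := ⟨q - 2, by omega⟩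
  haveI h1 : Subsingleton (EtCoh.H S (EtCoh.Ga S) (n + 1)) :=
    Groth.Agent.Lib.EtCartanH8.subsingleton_H_Ga S (n + 1) (by omega)
  haveI h2 : Subsingleton (EtCoh.H S (EtCoh.Ga S) (n + 2)) :=
    Groth.Agent.Lib.EtCartanH8.subsingleton_H_Ga S (n + 2) (by omega)
  refine ⟨fun a b => ?_⟩
  have key : ∀ x : EtCoh.H S (kernel (AS S p)) (n + 2), x = 0 := by
    intro x
    obtain ⟨x₃, hx₃⟩ := Ext.covariant_sequence_exact₁ _ (shortExact_Sx S p) x
      (Subsingleton.elim (α := EtCoh.H S (EtCoh.Ga S) (n + 2)) _ _) (rfl : n + 1 + 1 = n + 2)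
    rw [← hx₃, Subsingleton.elim (α := EtCoh.H S (EtCoh.Ga S) (n + 1)) x₃ 0, Ext.zero_comp]
  rw [key a, key b]

section Const

/-- the kernel sheaf -/
noncomputable abbrev K : EtCoh.Ab S := kernel (AS S p)

/-- `𝔽_p → Γ(Y)` for `Y` étale over `S` -/
noncomputable def phi (Y : S.Etale) : ZMod p →+* Γ(Y.left, ⊤) :=
  (Y.hom.appTop.hom).comp (ZMod.castHom (dvd_refl p) Γ(S, ⊤))

lemma phi_res {Y Y' : S.Etale} (g : Y' ⟶ Y) (m : ZMod p) :
    g.left.appTop.hom (phi S p Y m) = phi S p Y' m := by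
  have h1 : g.left ≫ Y.hom = Y'.hom := MorphismProperty.Over.w g
  have h3 : Y'.hom.appTop = Y.hom.appTop ≫ g.left.appTop := by
    rw [← Scheme.Hom.comp_appTop, h1]
  show g.left.appTop.hom (Y.hom.appTop.hom _) = Y'.hom.appTop.hom _
  rw [h3]
  rfl

/-- the inclusion of the kernel on sections -/
noncomputable abbrev ιY (Y : S.Etale) : (K S p).obj.obj (op Y) →+ (EtCoh.Ga S).obj.obj (op Y) :=
  ((kernel.ι (AS S p)).hom.app (op Y)).hom

lemma ιY_injective (Y : S.Etale) : Function.Injective (ιY S p Y) :=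
  app_injective (kernel.ι (AS S p)) Y

/-- the underlying function of a section of `G_a` -/
def gaVal {S : Scheme.{u}} {Y : S.Etale} (a : (EtCoh.Ga S).obj.obj (op Y)) : Γ(Y.left, ⊤) :=
  ULift.down a

lemma AS_app_apply (Y : S.Etale) (a : (EtCoh.Ga S).obj.obj (op Y)) :
    ((AS S p).hom.app (op Y)).hom a = ULift.up (gaVal a ^ p - gaVal a) := rfl

lemma ιY_pow (Y : S.Etale) (s : (K S p).obj.obj (op Y)) :
    gaVal (ιY S p Y s) ^ p - gaVal (ιY S p Y s) = 0 := by
  have h := app_comp_zero (Sx S p) Y s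
  have h2 := congrArg ULift.down h
  exact h2

lemma exists_ιY_eq (Y : S.Etale) (a : Γ(Y.left, ⊤)) (ha : a ^ p - a = 0) :
    ∃ s : (K S p).obj.obj (op Y), ιY S p Y s = ULift.up a := by
  apply sections_exact (Sx S p) (shortExact_Sx S p).exact (shortExact_Sx S p).mono_f Y (ULift.up a)
  show ULift.up (a ^ p - a) = ULift.up 0
  rw [ha]

lemma phi_pow (Y : S.Etale) (m : ZMod p) : phi S p Y m ^ p - phi S p Y m = 0 := by
  rw [← map_pow, ZMod.pow_card, sub_self]

/-- the constant sections, as a function -/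
noncomputable def tauFun (Y : S.Etale) (b : ULift.{u + 1} (ZMod p)) : (K S p).obj.obj (op Y) :=
  (exists_ιY_eq S p Y (phi S p Y b.down) (phi_pow S p Y b.down)).choose

lemma ιY_tauFun (Y : S.Etale) (b : ULift.{u + 1} (ZMod p)) :
    ιY S p Y (tauFun S p Y b) = ULift.up (phi S p Y b.down) :=
  (exists_ιY_eq S p Y (phi S p Y b.down) (phi_pow S p Y b.down)).choose_spec

/-- the constant sections -/
noncomputable def tau (Y : S.Etale) : ULift.{u + 1} (ZMod p) →+ (K S p).obj.obj (op Y) where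
  toFun b := tauFun S p Y b
  map_zero' := by
    apply ιY_injective S p Y
    rw [ιY_tauFun, map_zero]
    show ULift.up (phi S p Y 0) = 0
    rw [map_zero]
    rfl
  map_add' b b' := by
    apply ιY_injective S p Y
    rw [map_add, ιY_tauFun, ιY_tauFun, ιY_tauFun]
    show ULift.up (phi S p Y (b.down + b'.down)) = _
    rw [map_add]
    rfl

lemma ιY_tau (Y : S.Etale) (b : ULift.{u + 1} (ZMod p)) :
    ιY S p Y (tau S p Y b) = ULift.up (phi S p Y b.down) :=
  ιY_tauFun S p Y b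

lemma tau_res {Y Y' : S.Etale} (g : Y' ⟶ Y) (b : ULift.{u + 1} (ZMod p)) :
    ((K S p).obj.map g.op).hom (tau S p Y b) = tau S p Y' b := by
  apply ιY_injective S p Y'
  have h := rs_app (K S p).obj (kernel.ι (AS S p)).hom g (tau S p Y b)
  refine h.trans ?_
  rw [ιY_tau, ιY_tau]
  show ULift.up (g.left.appTop.hom (phi S p Y b.down)) = _
  rw [phi_res]

lemma tau_injective (Y : S.Etale) (y : Y.left) : Function.Injective (tau S p Y) := by
  intro b b' h
  have h1 := congrArg (ιY S p Y) h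
  rw [ιY_tau, ιY_tau] at h1
  have h2 : phi S p Y b.down = phi S p Y b'.down := congrArg ULift.down h1
  have hne : Nonempty ↥(⊤ : Y.left.Opens) := ⟨⟨y, trivial⟩⟩
  haveI : Nontrivial Γ(Y.left, ⊤) := @Scheme.component_nontrivial Y.left ⊤ hne
  exact ULift.ext _ _ ((phi S p Y).injective h2)

lemma tau_surj (Y : S.Etale) (s : (K S p).obj.obj (op Y)) (y : Y.left) :
    ∃ (Z : S.Etale) (g : Z ⟶ Y) (b : ULift.{u + 1} (ZMod p)), y ∈ Set.range g.left ∧
      tau S p Z b = ((K S p).obj.map g.op).hom s := by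
  obtain ⟨U, hcov, -, hU⟩ := Groth.Agent.Lib.ArtinSchreier.exists_decomp (phi S p Y)
    (gaVal (ιY S p Y s)) (ιY_pow S p Y s)
  obtain ⟨m, hm⟩ := hcov.exists_mem y
  refine ⟨opn Y (U m), opnι Y (U m), ULift.up m, mem_range_ι hm, ?_⟩
  apply ιY_injective S p (opn Y (U m))
  rw [ιY_tau]
  have h := rs_app (K S p).obj (kernel.ι (AS S p)).hom (opnι Y (U m)) s
  refine Eq.trans ?_ h.symm
  show ULift.up (phi S p (opn Y (U m)) m) = ULift.up ((U m).ι.appTop.hom (gaVal (ιY S p Y s)))
  rw [hU m, ← phi_res S p (opnι Y (U m)) m]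
  rfl

/-- the kernel of Artin–Schreier is the constant sheaf `ℤ/p` -/
theorem nonempty_kernel_iso : Nonempty (K S p ≅ EtCoh.const S (ZMod p)) :=
  Groth.Agent.Lib.MuConst.GCData.nonempty_iso
    { τ := tau S p
      res := fun g b => tau_res S p g b
      inj := fun Y y => tau_injective S p Y y
      surj := fun Y s y => tau_surj S p Y s y }

end Const

/-- `H^q(S_ét, ℤ/p) = 0` for `q ≥ 2`, `S` affine of characteristic `p` -/
theorem subsingleton_H_const [IsAffine S] (q : ℕ) (hq : 2 ≤ q) :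
    Subsingleton (EtCoh.H S (EtCoh.const S (ZMod p)) q) := by
  obtain ⟨e⟩ := nonempty_kernel_iso S p
  haveI h2 : Subsingleton ↑((EtCoh.HF S q).obj (K S p)) := subsingleton_H_kernel S p q hq
  let e' := ((EtCoh.HF S q).mapIso e).addCommGroupIsoToAddEquiv
  exact e'.symm.toEquiv.subsingleton

end Groth.Agent.Lib.ASCohH8
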