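import Groth.Agent.Lib.ASCover_helper1

/-!
# Artin–Schreier covers: `H¹(ℤ/p, t^a k[[t]])` (helper1)

The dimension of `H¹` of the cyclic group of order `p` acting on `k[[t]]` through
`h ↦ u^a · h(t u)`, `u^n (1 + t^n) = 1`.
-/

set_option autoImplicit false
set_option maxHeartbeats 1000000
set_option linter.style.haveILetI false

universe u

namespace Groth.Agent.Lib.ASCoverH1

open PowerSeries CategoryTheory

/-! ### `H¹` of a finite cyclic group -/

section Plumbing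

theorem cyclic_H1 {k G : Type u} [Field k] [CommGroup G] [Fintype G] (A : Rep.{u} k G) (g : G)
    (hg : ∀ x, x ∈ Subgroup.zpowers g) {ι : Type} [Fintype ι] (c : ι → A.V)
    (hcN : ∀ i, A.ρ.norm (c i) = 0)
    (hLI : ∀ coef : ι → k, (∃ h : A.V, A.ρ g h - h = ∑ i, coef i • c i) → ∀ i, coef i = 0)
    (hspan : ∀ z : A.V, A.ρ.norm z = 0 →
      ∃ (coef : ι → k) (h : A.V), z = (A.ρ g h - h) + ∑ i, coef i • c i) :
    Module.Finite k (groupCohomology A 1) ∧
      Module.finrank k (groupCohomology A 1) = Fintype.card ι := by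
  classical
  have hodd : Odd 1 := by decide
  set π := (Rep.FiniteCyclicGroup.groupCohomologyπOdd A g hg 1 hodd).hom with hπdef
  have hπ0 : ∀ x, π x = 0 ↔ x.1 ∈ LinearMap.range (Rep.applyAsHom A g - 𝟙 A).hom.toLinearMap :=
    fun x => Rep.FiniteCyclicGroup.groupCohomologyπOdd_eq_zero_iff A g hg 1 hodd x
  have hsurj : Function.Surjective π :=
    (ModuleCat.epi_iff_surjective _).mp inferInstance
  have hrange : ∀ v : A.V, v ∈ LinearMap.range (Rep.applyAsHom A g - 𝟙 A).hom.toLinearMap ↔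
      ∃ h : A.V, A.ρ g h - h = v := by
    intro v
    rw [LinearMap.mem_range]
    rfl
  have hker : ∀ v : A.V, A.ρ.norm v = 0 → v ∈ LinearMap.ker A.norm.hom.toLinearMap := by
    intro v hv
    rw [LinearMap.mem_ker]
    exact hv
  let c' : ι → LinearMap.ker A.norm.hom.toLinearMap := fun i => ⟨c i, hker _ (hcN i)⟩
  let b : ι → groupCohomology A 1 := fun i => π (c' i)
  have hLI' : LinearIndependent k b := by
    rw [Fintype.linearIndependent_iff]
    intro coef hsum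
    have h1 : π (∑ i, coef i • c' i) = 0 := by
      rw [map_sum]
      simp only [map_smul]
      exact hsum
    rw [hπ0, hrange] at h1
    obtain ⟨h, hh⟩ := h1
    apply hLI coef ⟨h, ?_⟩
    rw [hh]
    simp [c']
  have hspan' : ⊤ ≤ Submodule.span k (Set.range b) := by
    intro y _
    obtain ⟨x, rfl⟩ := hsurj y
    have hx : A.ρ.norm x.1 = 0 := by
      have := x.2
      rw [LinearMap.mem_ker] at this
      exact this
    obtain ⟨coef, h, hz⟩ := hspan x.1 hx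
    have h0 : π (x - ∑ i, coef i • c' i) = 0 := by
      rw [hπ0, hrange]
      refine ⟨h, ?_⟩
      have : (x - ∑ i, coef i • c' i).1 = x.1 - ∑ i, coef i • c i := by
        simp [c']
      rw [this, hz]; abel
    have h1 : π x = ∑ i, coef i • b i := by
      have : x = (x - ∑ i, coef i • c' i) + ∑ i, coef i • c' i := by abel
      rw [this, map_add, h0, zero_add, map_sum]
      simp only [map_smul, b]
    rw [h1]
    exact Submodule.sum_mem _ fun i _ => Submodule.smul_mem _ _ (Submodule.subset_span ⟨i, rfl⟩)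
  let B := Module.Basis.mk hLI' hspan'
  exact ⟨Module.Finite.of_basis B, by rw [Module.finrank_eq_card_basis B]⟩

theorem cyclic_H1' {k G : Type u} [Field k] [Group G] [Finite G] {V : Type u} [AddCommGroup V]
    [Module k V]
    (ρ : Representation k G V) (g : G) (hg : ∀ x, x ∈ Subgroup.zpowers g) (p : ℕ)
    (hp : Nat.card G = p)
    {ι : Type} [Fintype ι] (c : ι → V)
    (hcN : ∀ i, ∑ j ∈ Finset.range p, ((ρ g) ^ j) (c i) = 0)
    (hLI : ∀ coef : ι → k, (∃ h : V, ρ g h - h = ∑ i, coef i • c i) → ∀ i, coef i = 0)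
    (hspan : ∀ z : V, ∑ j ∈ Finset.range p, ((ρ g) ^ j) z = 0 →
      ∃ (coef : ι → k) (h : V), z = (ρ g h - h) + ∑ i, coef i • c i) :
    Module.Finite k (groupCohomology.H1 (Rep.of ρ)) ∧
      Module.finrank k (groupCohomology.H1 (Rep.of ρ)) = Fintype.card ι := by
  classical
  haveI : IsCyclic G := ⟨⟨g, hg⟩⟩
  letI : CommGroup G := IsCyclic.commGroup
  letI : Fintype G := Fintype.ofFinite G
  have hord : orderOf g = p := by rw [orderOf_eq_card_of_forall_mem_zpowers hg, hp]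
  have hnorm : ∀ z : V, ρ.norm z = ∑ j ∈ Finset.range p, ((ρ g) ^ j) z := by
    intro z
    rw [Representation.norm, LinearMap.sum_apply]
    have himg : Finset.image (fun j => g ^ j) (Finset.range p) = Finset.univ := by
      rw [Finset.eq_univ_iff_forall]
      intro x
      obtain ⟨i, rfl⟩ := (Submonoid.mem_powers_iff _ _).mp (mem_powers_iff_mem_zpowers.mpr (hg x))
      rw [Finset.mem_image]
      refine ⟨i % p, Finset.mem_range.mpr (Nat.mod_lt _ ?_), ?_⟩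
      · rw [← hord]; exact orderOf_pos g
      · show g ^ (i % p) = g ^ i
        rw [← hord, pow_mod_orderOf]
    rw [← himg, Finset.sum_image]
    · refine Finset.sum_congr rfl fun j _ => ?_
      rw [map_pow]
    · intro i hi j hj hij
      rw [← hord] at hi hj
      exact pow_injOn_Iio_orderOf (Finset.mem_range.mp hi) (Finset.mem_range.mp hj) hij
  exact cyclic_H1 (Rep.of ρ) g hg c (fun i => by
      rw [show (Rep.of ρ).ρ = ρ from rfl, hnorm]; exact hcN i) hLI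
    (fun z hz => hspan z (by rw [← hnorm]; exact hz))

end Plumbing

/-! ### counting -/

section Count

lemma ediv_sub_one (p : ℤ) (hp : 0 < p) (x : ℤ) :
    (x - 1) / p = x / p - (if p ∣ x then 1 else 0) := by
  split_ifs with h
  · obtain ⟨q, rfl⟩ := h
    rw [Int.mul_ediv_cancel_left _ hp.ne']
    have := (Int.ediv_emod_unique hp (a := p * q - 1) (r := p - 1) (q := q - 1)).mpr
      ⟨by ring, by omega, by omega⟩
    exact this.1
  · have hr : 0 < x % p :=
      lt_of_le_of_ne (Int.emod_nonneg x hp.ne')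
        (fun h0 => h (Int.dvd_of_emod_eq_zero h0.symm))
    have hlt := Int.emod_lt_of_pos x hp
    have hdiv := Int.emod_add_mul_ediv x p
    have := (Int.ediv_emod_unique hp (a := x - 1) (r := x % p - 1) (q := x / p)).mpr
      ⟨by linarith, by omega, by omega⟩
    rw [this.1, sub_zero]

/-- the index set of the basis. -/
def Fset (p : ℕ) (n : ℕ) (a : ℤ) : Finset ℕ :=
  (Finset.Icc 1 n).filter (fun m : ℕ => ¬ (p : ℤ) ∣ a - (m : ℤ))

lemma card_Fset (p : ℕ) (hp : 0 < p) (a : ℤ) (n : ℕ) :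
    ((Fset p n a).card : ℤ) = n - (a - 1) / (p : ℤ) + (a - 1 - n) / (p : ℤ) := by
  induction n with
  | zero => simp [Fset]
  | succ n ih =>
    have hIcc : Finset.Icc 1 (n + 1) = insert (n + 1) (Finset.Icc 1 n) := by
      ext m; simp only [Finset.mem_Icc, Finset.mem_insert]; omega
    have hnot : n + 1 ∉ Fset p n a := by
      simp only [Fset, Finset.mem_filter, Finset.mem_Icc]; omega
    have key := ediv_sub_one (p : ℤ) (by exact_mod_cast hp) (a - 1 - n)
    have e1 : a - 1 - ((n + 1 : ℕ) : ℤ) = (a - 1 - n) - 1 := by push_cast; ring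
    have e2 : a - ((n + 1 : ℕ) : ℤ) = a - 1 - n := by push_cast; ring
    by_cases hd : (p : ℤ) ∣ a - 1 - n
    · have hFs : Fset p (n + 1) a = Fset p n a := by
        rw [Fset, hIcc, Finset.filter_insert, if_neg (by rw [e2]; exact not_not.mpr hd)]
        rfl
      rw [hFs, e1, key, if_pos hd, ih]; push_cast; ring
    · have hFs : Fset p (n + 1) a = insert (n + 1) (Fset p n a) := by
        rw [Fset, hIcc, Finset.filter_insert, if_pos (by rw [e2]; exact hd)]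
        rfl
      rw [hFs, Finset.card_insert_of_notMem hnot, e1, key, if_neg hd]; push_cast; rw [ih]; ring

end Count

/-! ### twisted operators -/

section Tw

variable {k : Type u} [Field k] {u : k⟦X⟧} (hu : IsUnit u)

/-- `u^e` for an integer `e`. -/
noncomputable def Wz (e : ℤ) : k⟦X⟧ := ((hu.unit ^ e : (k⟦X⟧)ˣ) : k⟦X⟧)

lemma Wz_add (e f : ℤ) : Wz hu (e + f) = Wz hu e * Wz hu f := by
  rw [Wz, Wz, Wz, zpow_add, Units.val_mul]

lemma Wz_zero : Wz hu 0 = 1 := by rw [Wz, zpow_zero, Units.val_one]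

lemma Wz_natCast (m : ℕ) : Wz hu (m : ℤ) = u ^ m := by
  rw [Wz, zpow_natCast, Units.val_pow_eq_pow_val, IsUnit.unit_spec]

lemma Wz_one : Wz hu 1 = u := by rw [Wz, zpow_one, IsUnit.unit_spec]

lemma Wz_neg_mul (e : ℤ) : Wz hu (-e) * Wz hu e = 1 := by
  rw [← Wz_add, neg_add_cancel, Wz_zero]

/-- the twisted operator `h ↦ u^e · h(X u)`. -/
noncomputable def Tw (e : ℤ) : k⟦X⟧ →ₗ[k] k⟦X⟧ :=
  (LinearMap.mulLeft k (Wz hu e)).comp (sig u).toLinearMap

lemma Tw_apply (e : ℤ) (h : k⟦X⟧) : Tw hu e h = Wz hu e * sig u h := rfl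

lemma Tw_mul (e f : ℤ) (x y : k⟦X⟧) : Tw hu e x * Tw hu f y = Tw hu (e + f) (x * y) := by
  rw [Tw_apply, Tw_apply, Tw_apply, Wz_add, map_mul]; ring

lemma Tw_pow_mul (e f : ℤ) (j : ℕ) (x y : k⟦X⟧) :
    ((Tw hu e) ^ j) x * ((Tw hu f) ^ j) y = ((Tw hu (e + f)) ^ j) (x * y) := by
  induction j generalizing x y with
  | zero => simp
  | succ j ih =>
    rw [pow_succ, pow_succ, pow_succ]
    simp only [Module.End.mul_apply]
    rw [ih, Tw_mul]

lemma Tw_zero_apply (h : k⟦X⟧) : Tw hu 0 h = sig u h := by rw [Tw_apply, Wz_zero, one_mul]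

lemma Tw_C (e : ℤ) (c0 : k) : Tw hu e (C c0) = C c0 * Wz hu e := by
  rw [Tw_apply, sig_C, mul_comm]

lemma hasSubst_XU (u : k⟦X⟧) (j : ℕ) : HasSubst (X * Useq u j : k⟦X⟧) :=
  HasSubst.of_constantCoeff_zero' (by simp)

lemma Tw_zero_pow (j : ℕ) (h : k⟦X⟧) : ((Tw hu 0) ^ j) h = subst (X * Useq u j) h := by
  induction j with
  | zero =>
    rw [pow_zero, Module.End.one_apply]
    show h = subst (X * 1) h
    rw [mul_one, X_subst]
  | succ j ih =>
    rw [pow_succ', Module.End.mul_apply, ih, Tw_zero_apply, sig_apply,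
      subst_comp_subst_apply (hasSubst_XU u j) (hasSubst_Xu u), ← sig_apply, map_mul, sig_X]
    show subst (X * u * sig u (Useq u j)) h = subst (X * (u * sig u (Useq u j))) h
    rw [mul_assoc]

lemma Tw_one_pow_one (j : ℕ) : ((Tw hu 1) ^ j) 1 = Useq u j := by
  induction j with
  | zero => rw [pow_zero, Module.End.one_apply]; rfl
  | succ j ih =>
    rw [pow_succ', Module.End.mul_apply, ih, Tw_apply, Wz_one]; rfl

lemma Tw_zero_pow_one (j : ℕ) : ((Tw hu 0) ^ j) 1 = 1 := by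
  induction j with
  | zero => rw [pow_zero, Module.End.one_apply]
  | succ j ih => rw [pow_succ', Module.End.mul_apply, ih, Tw_zero_apply, map_one]

lemma Tw_pow_fix {e : ℤ} {x : k⟦X⟧} (hx : Tw hu e x = x) (j : ℕ) : ((Tw hu e) ^ j) x = x := by
  induction j with
  | zero => rw [pow_zero, Module.End.one_apply]
  | succ j ih => rw [pow_succ, Module.End.mul_apply, hx, ih]

lemma Tw_fix_X_pow (m : ℕ) : Tw hu (-(m : ℤ)) (X ^ m) = X ^ m := by
  rw [Tw_apply, map_pow, sig_X, mul_pow, ← Wz_natCast hu m, mul_left_comm, Wz_neg_mul, mul_one]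

lemma Tw_pow_X_pow_mul (e : ℤ) (m j : ℕ) (h : k⟦X⟧) :
    ((Tw hu e) ^ j) (X ^ m * h) = X ^ m * ((Tw hu (e + m)) ^ j) h := by
  have := Tw_pow_mul hu (-(m : ℤ)) (e + m) j (X ^ m) h
  rw [Tw_pow_fix hu (Tw_fix_X_pow hu m)] at this
  have he : -(m : ℤ) + (e + m) = e := by ring
  rw [he] at this
  exact this.symm

lemma Tw_X_pow_mul (e : ℤ) (m : ℕ) (h : k⟦X⟧) :
    Tw hu e (X ^ m * h) = X ^ m * Tw hu (e + m) h := by
  have := Tw_pow_X_pow_mul hu e m 1 h
  rwa [pow_one, pow_one] at this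

variable (p : ℕ) [Fact p.Prime] [CharP k p] (n : ℕ)

lemma Wz_dvd (hpn : ¬ p ∣ n) (hu1 : constantCoeff u = 1) (hun : u ^ n * (1 + X ^ n) = 1)
    (e : ℤ) : (X : k⟦X⟧) ^ n ∣ Wz hu e - 1 := by
  have hU := X_pow_dvd_u_sub_one p n u hpn hu1 hun
  have huS : hu.unit ∈ congSub (k := k) n := by
    rw [mem_congSub, IsUnit.unit_spec]; exact hU
  exact mem_congSub.mp ((congSub n).zpow_mem huS e)

lemma Wz_coeff (hn : 0 < n) (hpn : ¬ p ∣ n) (hu1 : constantCoeff u = 1)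
    (hun : u ^ n * (1 + X ^ n) = 1) (e : ℤ) : coeff n (Wz hu e) = e * coeff n u := by
  have hU := X_pow_dvd_u_sub_one p n u hpn hu1 hun
  have huS : hu.unit ∈ congSub (k := k) n := by
    rw [mem_congSub, IsUnit.unit_spec]; exact hU
  have := coeff_zpow n hn hu.unit huS e
  rw [IsUnit.unit_spec] at this
  exact this

lemma Tw_sub_dvd (hpn : ¬ p ∣ n) (hu1 : constantCoeff u = 1) (hun : u ^ n * (1 + X ^ n) = 1)
    (e : ℤ) (f : k⟦X⟧) : (X : k⟦X⟧) ^ n ∣ Tw hu e f - f := by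
  have hU := X_pow_dvd_u_sub_one p n u hpn hu1 hun
  have h1 := Wz_dvd hu p n hpn hu1 hun e
  have h2 := X_pow_dvd_sig_sub n u hU n (by omega) f
  have : Tw hu e f - f = (Wz hu e - 1) * sig u f + (sig u f - f) := by rw [Tw_apply]; ring
  rw [this]
  exact dvd_add (Dvd.dvd.mul_right h1 _) h2

lemma Tw_pow_p_one (hpn : ¬ p ∣ n) (hu1 : constantCoeff u = 1)
    (hun : u ^ n * (1 + X ^ n) = 1) (e : ℤ) : ((Tw hu e) ^ p) 1 = 1 := by
  have h1 : ((Tw hu 1) ^ p) 1 = 1 := by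
    rw [Tw_one_pow_one, Useq_p_eq_one p n u hpn hu1 hun]
  have hadd : ∀ e f : ℤ, ((Tw hu (e + f)) ^ p) 1 = ((Tw hu e) ^ p) 1 * ((Tw hu f) ^ p) 1 := by
    intro e f; rw [Tw_pow_mul, mul_one]
  induction e using Int.induction_on with
  | zero => exact Tw_zero_pow_one hu p
  | succ i ih => rw [hadd, ih, h1, mul_one]
  | pred i ih =>
    have := hadd (-(i : ℤ) - 1) 1
    rw [sub_add_cancel, ih, h1, mul_one] at this
    exact this.symm

lemma Tw_pow_p (hpn : ¬ p ∣ n) (hu1 : constantCoeff u = 1)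
    (hun : u ^ n * (1 + X ^ n) = 1) (e : ℤ) (h : k⟦X⟧) : ((Tw hu e) ^ p) h = h := by
  have := Tw_pow_mul hu e 0 p 1 h
  rw [add_zero, one_mul, Tw_pow_p_one hu p n hpn hu1 hun, one_mul, Tw_zero_pow,
    Useq_p_eq_one p n u hpn hu1 hun, mul_one, X_subst] at this
  exact this.symm

/-- the norm operator. -/
noncomputable def Nw (e : ℤ) : k⟦X⟧ →ₗ[k] k⟦X⟧ := ∑ j ∈ Finset.range p, (Tw hu e) ^ j

lemma Nw_apply (e : ℤ) (h : k⟦X⟧) :
    Nw hu p e h = ∑ j ∈ Finset.range p, ((Tw hu e) ^ j) h := by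
  rw [Nw, LinearMap.sum_apply]

lemma Nw_comp_sub (hpn : ¬ p ∣ n) (hu1 : constantCoeff u = 1)
    (hun : u ^ n * (1 + X ^ n) = 1) (e : ℤ) (h : k⟦X⟧) : Nw hu p e (Tw hu e h - h) = 0 := by
  rw [Nw_apply]
  have h1 : ∀ j, ((Tw hu e) ^ j) (Tw hu e h - h) = ((Tw hu e) ^ (j + 1)) h - ((Tw hu e) ^ j) h := by
    intro j; rw [map_sub, pow_succ, Module.End.mul_apply]
  simp only [h1]
  rw [Finset.sum_range_sub (fun j => ((Tw hu e) ^ j) h), Tw_pow_p hu p n hpn hu1 hun, pow_zero,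
    Module.End.one_apply, sub_self]

lemma Tw_Nw (hpn : ¬ p ∣ n) (hu1 : constantCoeff u = 1)
    (hun : u ^ n * (1 + X ^ n) = 1) (e : ℤ) (h : k⟦X⟧) :
    Tw hu e (Nw hu p e h) = Nw hu p e h := by
  rw [Nw_apply, map_sum]
  have h1 : ∀ j, Tw hu e (((Tw hu e) ^ j) h) = ((Tw hu e) ^ (j + 1)) h := by
    intro j; rw [pow_succ', Module.End.mul_apply]
  simp only [h1]
  have h2 := Finset.sum_range_succ (fun j => ((Tw hu e) ^ j) h) p
  have h3 := Finset.sum_range_succ' (fun j => ((Tw hu e) ^ j) h) p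
  rw [h3] at h2
  rw [pow_zero, Module.End.one_apply, Tw_pow_p hu p n hpn hu1 hun] at h2
  exact add_right_cancel h2

lemma Nw_X_pow_mul (e : ℤ) (m : ℕ) (h : k⟦X⟧) :
    Nw hu p e (X ^ m * h) = X ^ m * Nw hu p (e + m) h := by
  rw [Nw_apply, Nw_apply, Finset.mul_sum]
  exact Finset.sum_congr rfl fun j _ => Tw_pow_X_pow_mul hu e m j h

lemma Nw_c (hpn : ¬ p ∣ n) (hu1 : constantCoeff u = 1) (hun : u ^ n * (1 + X ^ n) = 1)
    (a : ℤ) (m : ℕ) (c : k⟦X⟧) (hc : X ^ m * c = Wz hu (a - m) - 1) : Nw hu p a c = 0 := by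
  have h1 : Nw hu p (a - m) (X ^ m * c) = 0 := by
    rw [hc]
    have := Nw_comp_sub hu p n hpn hu1 hun (a - m) 1
    rwa [Tw_apply, map_one, mul_one] at this
  rw [Nw_X_pow_mul, sub_add_cancel] at h1
  exact (mul_eq_zero.mp h1).resolve_left (pow_ne_zero _ X_ne_zero)

/-! ### additive Hilbert 90 -/

theorem h90 (hpn : ¬ p ∣ n) (hu1 : constantCoeff u = 1) (hun : u ^ n * (1 + X ^ n) = 1)
    (a b : ℤ) (z θ : k⟦X⟧) (M : ℕ) (hz : Nw hu p a z = 0) (hθ : Nw hu p b θ = X ^ M) :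
    ∃ w, Tw hu (a + b) w - w = X ^ M * z := by
  obtain ⟨S, hS⟩ : ∃ S : ℕ → k⟦X⟧, ∀ j, S j = ∑ i ∈ Finset.range j, ((Tw hu a) ^ i) z :=
    ⟨_, fun _ => rfl⟩
  obtain ⟨F, hF⟩ : ∃ F : ℕ → k⟦X⟧, ∀ j, F j = S j * ((Tw hu b) ^ j) θ := ⟨_, fun _ => rfl⟩
  obtain ⟨Y, hY⟩ : ∃ Y : k⟦X⟧, Y = ∑ j ∈ Finset.range p, F j := ⟨_, rfl⟩
  have hS0 : S 0 = 0 := by rw [hS, Finset.range_zero, Finset.sum_empty]
  have hSp : S p = 0 := by rw [hS, ← Nw_apply]; exact hz
  have hSsucc : ∀ j, Tw hu a (S j) = S (j + 1) - z := by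
    intro j
    rw [hS j, hS (j + 1), map_sum, Finset.sum_range_succ', pow_zero, Module.End.one_apply,
      add_sub_cancel_right]
    refine Finset.sum_congr rfl fun i _ => ?_
    rw [pow_succ', Module.End.mul_apply]
  have hBsucc : ∀ j, Tw hu b (((Tw hu b) ^ j) θ) = ((Tw hu b) ^ (j + 1)) θ := by
    intro j; rw [pow_succ', Module.End.mul_apply]
  have hTF : ∀ j, Tw hu (a + b) (F j) = (S (j + 1) - z) * ((Tw hu b) ^ (j + 1)) θ := by
    intro j
    rw [hF j, ← Tw_mul, hSsucc, hBsucc]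
  have hBp : ((Tw hu b) ^ p) θ = θ := Tw_pow_p hu p n hpn hu1 hun b θ
  have hsumB : ∑ j ∈ Finset.range p, ((Tw hu b) ^ (j + 1)) θ = X ^ M := by
    have h1 := Finset.sum_range_succ (fun j => ((Tw hu b) ^ j) θ) p
    have h2 := Finset.sum_range_succ' (fun j => ((Tw hu b) ^ j) θ) p
    rw [h2] at h1
    rw [pow_zero, Module.End.one_apply, hBp, ← Nw_apply, hθ] at h1
    exact add_right_cancel h1
  have hsumF : ∑ j ∈ Finset.range p, F (j + 1) = Y := by
    have h1 := Finset.sum_range_succ F p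
    have h2 := Finset.sum_range_succ' F p
    rw [h2] at h1
    have hF0 : F 0 = 0 := by rw [hF, hS0, zero_mul]
    have hFp : F p = 0 := by rw [hF, hSp, zero_mul]
    rw [hF0, hFp, add_zero, add_zero] at h1
    rw [hY]; exact h1
  have hTY : Tw hu (a + b) Y = Y - X ^ M * z := by
    rw [hY, map_sum]
    simp only [hTF, sub_mul, Finset.sum_sub_distrib, ← Finset.mul_sum]
    rw [hsumB]
    have h4 : ∑ j ∈ Finset.range p, S (j + 1) * ((Tw hu b) ^ (j + 1)) θ =
        ∑ j ∈ Finset.range p, F (j + 1) :=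
      Finset.sum_congr rfl fun j _ => (hF (j + 1)).symm
    rw [h4, hsumF, hY]; ring
  refine ⟨-Y, ?_⟩
  rw [map_neg, hTY]; ring

/-! ### an element of nonzero trace -/

theorem exists_trace_ne_zero (hpn : ¬ p ∣ n) (hu1 : constantCoeff u = 1)
    (hun : u ^ n * (1 + X ^ n) = 1) : ∃ x : k⟦X⟧, Nw hu p 0 x ≠ 0 := by
  by_contra hcon
  push Not at hcon
  let σj : Fin p → (k⟦X⟧ →* k⟦X⟧) := fun j =>
    ((substAlgHom (hasSubst_XU u j.1) : k⟦X⟧ →ₐ[k] k⟦X⟧) : k⟦X⟧ →+* k⟦X⟧)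
  have hσj : ∀ (j : Fin p) (x : k⟦X⟧), σj j x = ((Tw hu 0) ^ (j : ℕ)) x := by
    intro j x
    rw [Tw_zero_pow]
    exact congrFun (coe_substAlgHom (hasSubst_XU u j.1)) x
  have hinj : Function.Injective σj := by
    intro i j hij
    have h1 : σj i X = σj j X := by rw [hij]
    rw [hσj, hσj, Tw_zero_pow, Tw_zero_pow, subst_X (hasSubst_XU u _),
      subst_X (hasSubst_XU u _)] at h1
    have h2 : Useq u i = Useq u j := mul_left_cancel₀ X_ne_zero h1
    have hi := Useq_pow n u hun i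
    have hj := Useq_pow n u hun j
    rw [h2] at hi
    have hUne : Useq u j ^ n ≠ 0 := by
      intro h0; rw [h0, zero_mul] at hj; exact zero_ne_one hj
    have h3 : (1 + ((i : ℕ) : k⟦X⟧) * X ^ n) = 1 + ((j : ℕ) : k⟦X⟧) * X ^ n :=
      mul_left_cancel₀ hUne (hi.trans hj.symm)
    have h4 : (((i : ℕ) : k⟦X⟧)) = (((j : ℕ) : k⟦X⟧)) :=
      mul_right_cancel₀ (pow_ne_zero n X_ne_zero) (add_left_cancel h3)
    have h5 : (((i : ℕ) : k)) = (((j : ℕ) : k)) := by
      have := congrArg constantCoeff h4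
      simpa using this
    have h6 := (CharP.natCast_eq_natCast k p).mp h5
    apply Fin.ext
    exact Nat.ModEq.eq_of_lt_of_lt h6 i.2 j.2
  have hLI := (linearIndependent_monoidHom k⟦X⟧ k⟦X⟧).comp σj hinj
  rw [Fintype.linearIndependent_iff] at hLI
  have hp0 : 0 < p := (Fact.out : p.Prime).pos
  have := hLI (fun _ => 1) (by
    funext x
    have hx := hcon x
    rw [Nw_apply, Finset.sum_range] at hx
    simp only [Finset.sum_apply, Pi.smul_apply, smul_eq_mul, one_mul, Function.comp_apply,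
      Pi.zero_apply, hσj]
    exact hx) ⟨0, hp0⟩
  exact one_ne_zero this

theorem exists_theta (hpn : ¬ p ∣ n) (hu1 : constantCoeff u = 1)
    (hun : u ^ n * (1 + X ^ n) = 1) :
    ∃ (M : ℕ) (θ : k⟦X⟧), Nw hu p (-(M : ℤ)) θ = X ^ M := by
  obtain ⟨x, hx⟩ := exists_trace_ne_zero hu p n hpn hu1 hun
  obtain ⟨y, hy⟩ : ∃ y, y = Nw hu p 0 x := ⟨_, rfl⟩
  rw [← hy] at hx
  have hyfix : Tw hu 0 y = y := by rw [hy]; exact Tw_Nw hu p n hpn hu1 hun 0 x
  obtain ⟨v, hv⟩ : ∃ v : ℕ, v = y.order.toNat := ⟨_, rfl⟩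
  obtain ⟨y₁, hy₁def⟩ : ∃ y₁, y₁ = divXPowOrder y := ⟨_, rfl⟩
  have hdec : X ^ v * y₁ = y := by rw [hv, hy₁def]; exact X_pow_order_mul_divXPowOrder
  have hy₁ : IsUnit y₁ := by rw [hy₁def]; exact isUnit_divided_by_X_pow_order hx
  have hfix1 : Tw hu (v : ℤ) y₁ = y₁ := by
    have h1 := Tw_X_pow_mul hu 0 v y₁
    rw [hdec, hyfix, zero_add] at h1
    apply mul_left_cancel₀ (pow_ne_zero v (X_ne_zero (R := k)))
    rw [← h1, hdec]
  obtain ⟨q, hq⟩ := hy₁.exists_right_inv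
  have hfixq : Tw hu (-(v : ℤ)) q = q := by
    have h2 := Tw_mul hu (-(v : ℤ)) v q y₁
    rw [hfix1, neg_add_cancel, mul_comm q y₁, hq, Tw_zero_apply, map_one] at h2
    calc Tw hu (-(v : ℤ)) q = Tw hu (-(v : ℤ)) q * (y₁ * q) := by rw [hq, mul_one]
      _ = (Tw hu (-(v : ℤ)) q * y₁) * q := by ring
      _ = q := by rw [h2, one_mul]
  refine ⟨v, x * q, ?_⟩
  rw [Nw_apply]
  have h3 : ∀ j, ((Tw hu (-(v : ℤ))) ^ j) (x * q) = ((Tw hu 0) ^ j) x * q := by
    intro j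
    have := Tw_pow_mul hu 0 (-(v : ℤ)) j x q
    rw [zero_add, Tw_pow_fix hu hfixq] at this
    exact this.symm
  simp only [h3]
  rw [← Finset.sum_mul, ← Nw_apply, ← hy, ← hdec, mul_assoc, hq, mul_one]

/-! ### units fixed by the twisted action -/

lemma exists_fixed_unit (hn : 0 < n) (hpn : ¬ p ∣ n) (hu1 : constantCoeff u = 1)
    (hun : u ^ n * (1 + X ^ n) = 1) (e : ℤ) (hdvd : (p : ℤ) ∣ e) :
    ∃ Q : k⟦X⟧, Wz hu e * sig u Q = Q ∧ constantCoeff Q = 1 := by
  obtain ⟨j, hj⟩ := hdvd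
  have hPunit : IsUnit (Pnorm p u) := by
    rw [isUnit_iff_constantCoeff, Pnorm_const p u hu1]; exact isUnit_one
  have hPinv := Pnorm_invariant p n u hpn hu1 hun
  have hPcong : hPunit.unit ∈ congSub (k := k) n := by
    rw [mem_congSub, IsUnit.unit_spec]; exact Pnorm_dvd p n u hpn hu1 hun
  obtain ⟨f, hf⟩ : ∃ f : k⟦X⟧ →* k⟦X⟧, ∀ x, f x = sig u x :=
    ⟨((sig u : k⟦X⟧ →+* k⟦X⟧) : k⟦X⟧ →* k⟦X⟧), fun _ => rfl⟩
  have hunit : hu.unit ^ (p : ℤ) * Units.map f hPunit.unit = hPunit.unit := by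
    apply Units.ext
    rw [Units.val_mul, Units.coe_map, zpow_natCast, Units.val_pow_eq_pow_val, IsUnit.unit_spec,
      IsUnit.unit_spec, hf]
    exact hPinv
  have hunitj : hu.unit ^ e * Units.map f (hPunit.unit ^ j) = hPunit.unit ^ j := by
    rw [hj, zpow_mul, map_zpow, ← mul_zpow, hunit]
  have hSQ := congrArg Units.val hunitj
  rw [Units.val_mul, Units.coe_map, hf] at hSQ
  have hQ : (X : k⟦X⟧) ^ n ∣ ((hPunit.unit ^ j : (k⟦X⟧)ˣ) : k⟦X⟧) - 1 :=
    mem_congSub.mp ((congSub n).zpow_mem hPcong j)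
  refine ⟨((hPunit.unit ^ j : (k⟦X⟧)ˣ) : k⟦X⟧), hSQ, ?_⟩
  have hX : (X : k⟦X⟧) ∣ ((hPunit.unit ^ j : (k⟦X⟧)ˣ) : k⟦X⟧) - 1 :=
    (dvd_pow_self X hn.ne').trans hQ
  have h0 := X_dvd_iff.mp hX
  rw [map_sub, map_one, sub_eq_zero] at h0
  exact h0

/-! ### the reduction lemma -/

theorem reduce (hn : 0 < n) (hpn : ¬ p ∣ n) (hu1 : constantCoeff u = 1)
    (hun : u ^ n * (1 + X ^ n) = 1) (a : ℤ) (c : ℕ → k⟦X⟧)
    (hc : ∀ m : ℕ, 1 ≤ m → m ≤ n → X ^ m * c m = Wz hu (a - m) - 1) :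
    ∀ (M : ℕ) (w y : k⟦X⟧), Tw hu (a - M) w - w = X ^ M * y →
      ∃ (w₀ : k⟦X⟧) (lam : ℕ → k),
        y = (Tw hu a w₀ - w₀) + ∑ m ∈ Finset.Icc 1 n, lam m • c m := by
  intro M
  induction M with
  | zero =>
    intro w y h
    refine ⟨w, fun _ => 0, ?_⟩
    simp only [Nat.cast_zero, sub_zero, pow_zero, one_mul] at h
    simp [h]
  | succ M ih =>
    intro w y h
    obtain ⟨e, he⟩ : ∃ e : ℤ, e = a - ((M + 1 : ℕ) : ℤ) := ⟨_, rfl⟩
    rw [← he] at h
    have he1 : e + 1 = a - (M : ℤ) := by rw [he]; push_cast; ring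
    have step0 : ∀ w' y' : k⟦X⟧, constantCoeff w' = 0 →
        Tw hu e w' - w' = X ^ (M + 1) * y' →
        ∃ (w₀ : k⟦X⟧) (lam : ℕ → k),
          y' = (Tw hu a w₀ - w₀) + ∑ m ∈ Finset.Icc 1 n, lam m • c m := by
      intro w' y' hw' h'
      obtain ⟨w₁, rfl⟩ := X_dvd_iff.mpr hw'
      apply ih w₁ y'
      have h1 := Tw_X_pow_mul hu e 1 w₁
      rw [pow_one, Nat.cast_one, he1] at h1
      rw [h1, pow_succ'] at h'
      apply mul_left_cancel₀ (X_ne_zero (R := k))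
      rw [mul_sub, ← mul_assoc]; exact h'
    obtain ⟨c0, hc0⟩ : ∃ c0 : k, c0 = constantCoeff w := ⟨_, rfl⟩
    by_cases hMn : M + 1 ≤ n
    · have hcM := hc (M + 1) (by omega) hMn
      rw [← he] at hcM
      obtain ⟨w₀, lam, hy⟩ := step0 (w - C c0) (y - C c0 * c (M + 1))
        (by rw [map_sub, constantCoeff_C, hc0, sub_self]) (by
          rw [map_sub, Tw_C]
          linear_combination h + C c0 * hcM)
      refine ⟨w₀, fun m => lam m + (if m = M + 1 then c0 else 0), ?_⟩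
      have hsum : ∑ m ∈ Finset.Icc 1 n, (lam m + (if m = M + 1 then c0 else 0)) • c m =
          ∑ m ∈ Finset.Icc 1 n, lam m • c m + c0 • c (M + 1) := by
        simp only [add_smul, Finset.sum_add_distrib, ite_smul, zero_smul]
        rw [Finset.sum_ite_eq' (Finset.Icc 1 n) (M + 1) (fun m => c0 • c m),
          if_pos (Finset.mem_Icc.mpr ⟨by omega, hMn⟩)]
      rw [hsum, smul_eq_C_mul]
      linear_combination hy
    · have hU := X_pow_dvd_u_sub_one p n u hpn hu1 hun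
      have key : c0 = 0 ∨ (p : ℤ) ∣ e := by
        obtain ⟨w₁, hw₁⟩ : ∃ w₁, w = X * w₁ + C c0 := ⟨_, by rw [hc0]; exact eq_X_mul_shift_add_const w⟩
        obtain ⟨γ, hγ⟩ := Tw_sub_dvd hu p n hpn hu1 hun (e + 1) w₁
        have h1 := Tw_X_pow_mul hu e 1 w₁
        rw [pow_one, Nat.cast_one] at h1
        have hexp : Tw hu e w - w = X ^ (n + 1) * γ + C c0 * (Wz hu e - 1) := by
          rw [hw₁, map_add, h1, Tw_C]
          linear_combination X * hγ
        have h2 := congrArg (coeff n) h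
        rw [hexp, map_add, coeff_X_pow_mul', if_neg (by omega), coeff_X_pow_mul',
          if_neg (by omega), zero_add, coeff_C_mul, map_sub, coeff_one, if_neg hn.ne', sub_zero,
          Wz_coeff hu p n hn hpn hu1 hun] at h2
        have hcu : coeff n u ≠ 0 := by
          intro h0
          have := natCast_mul_coeff_u n u hn hU hun
          rw [h0, mul_zero] at this
          exact absurd this (by simp)
        rcases mul_eq_zero.mp h2 with h0 | h0
        · left; exact h0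
        · right
          rcases mul_eq_zero.mp h0 with h0 | h0
          · exact (CharP.intCast_eq_zero_iff k p e).mp h0
          · exact absurd h0 hcu
      rcases key with h0 | hdvd
      · exact step0 w y (by rw [← hc0]; exact h0) h
      · obtain ⟨Q, hQfix, hQ1⟩ := exists_fixed_unit hu p n hn hpn hu1 hun e hdvd
        apply step0 (w - C c0 * Q) y
          (by rw [map_sub, map_mul, constantCoeff_C, hQ1, mul_one, hc0, sub_self])
        rw [map_sub, ← smul_eq_C_mul, map_smul, Tw_apply hu e Q, hQfix]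
        linear_combination h

theorem spanning (hn : 0 < n) (hpn : ¬ p ∣ n) (hu1 : constantCoeff u = 1)
    (hun : u ^ n * (1 + X ^ n) = 1) (a : ℤ) (c : ℕ → k⟦X⟧)
    (hc : ∀ m : ℕ, 1 ≤ m → m ≤ n → X ^ m * c m = Wz hu (a - m) - 1)
    (z : k⟦X⟧) (hz : Nw hu p a z = 0) :
    ∃ (w₀ : k⟦X⟧) (lam : ℕ → k),
      z = (Tw hu a w₀ - w₀) + ∑ m ∈ Finset.Icc 1 n, lam m • c m := by
  obtain ⟨M, θ, hθ⟩ := exists_theta hu p n hpn hu1 hun
  obtain ⟨w, hw⟩ := h90 hu p n hpn hu1 hun a (-(M : ℤ)) z θ M hz hθ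
  have hsub : a - (M : ℤ) = a + -(M : ℤ) := sub_eq_add_neg _ _
  exact reduce hu p n hn hpn hu1 hun a c hc M w z (by rw [hsub]; exact hw)

end Tw

/-! ### S13861 -/

theorem main13861 {k : Type u} [Field k] [IsAlgClosed k] (p : ℕ)
    [Fact p.Prime] [CharP k p] (n : ℕ) (hn : 0 < n) (hpn : ¬ p ∣ n)
    (u : PowerSeries k) (hu1 : PowerSeries.constantCoeff u = 1)
    (hun : u ^ n * (1 + PowerSeries.X ^ n) = 1) (hu : IsUnit u) (a : ℤ)
    {G : Type u} [Group G] [Finite G] (g : G) (hG : Nat.card G = p)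
    (hg : ∀ x : G, x ∈ Subgroup.zpowers g)
    (ρ : Representation k G (PowerSeries k))
    (hρ : ∀ h : PowerSeries k, ρ g h =
      ((hu.unit ^ a : (PowerSeries k)ˣ) : PowerSeries k) * PowerSeries.subst (PowerSeries.X * u) h) :
    Module.Finite k (groupCohomology.H1 (Rep.of ρ)) ∧
      (Module.finrank k (groupCohomology.H1 (Rep.of ρ)) : ℤ) =
        n - (a - 1) / (p : ℤ) + (a - 1 - n) / (p : ℤ) := by
  classical
  have hρT : ρ g = Tw hu a := by
    apply LinearMap.ext; intro h; rw [hρ, Tw_apply, sig_apply]; rfl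
  have hex : ∀ m : ℕ, ∃ c : k⟦X⟧, 1 ≤ m → m ≤ n → X ^ m * c = Wz hu (a - m) - 1 := by
    intro m
    by_cases hm : m ≤ n
    · obtain ⟨c, hc⟩ := (pow_dvd_pow (X : k⟦X⟧) hm).trans (Wz_dvd hu p n hpn hu1 hun (a - m))
      exact ⟨c, fun _ _ => hc.symm⟩
    · exact ⟨0, fun _ h => absurd h hm⟩
  choose c hc using hex
  have hFmem : ∀ m ∈ Fset p n a, (1 ≤ m ∧ m ≤ n) ∧ ¬ (p : ℤ) ∣ a - (m : ℤ) := by
    intro m hm
    rw [Fset, Finset.mem_filter, Finset.mem_Icc] at hm; exact hm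
  have key := cyclic_H1' ρ g hg p hG (ι := {m // m ∈ Fset p n a}) (fun i => c i.1) ?_ ?_ ?_
  · obtain ⟨h1, h2⟩ := key
    refine ⟨h1, ?_⟩
    rw [h2, Fintype.card_coe]
    exact card_Fset p (Fact.out : p.Prime).pos a n
  · intro i
    rw [hρT, ← Nw_apply]
    exact Nw_c hu p n hpn hu1 hun a i.1 (c i.1)
      (hc i.1 (hFmem i.1 i.2).1.1 (hFmem i.1 i.2).1.2)
  · rintro coef ⟨h, hh⟩ i
    obtain ⟨coef', hcoef'⟩ : ∃ coef' : ℕ → k, ∀ m, coef' m =
        if hm : m ∈ Fset p n a then coef ⟨m, hm⟩ else 0 := ⟨_, fun _ => rfl⟩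
    have hsum : ∑ i : {m // m ∈ Fset p n a}, coef i • c i.1 =
        ∑ m ∈ Fset p n a, coef' m • c m := by
      rw [← Finset.sum_coe_sort (Fset p n a) (fun m => coef' m • c m)]
      refine Finset.sum_congr rfl fun j _ => ?_
      rw [hcoef', dif_pos j.2]
    have := main13864 p n u hn hpn hu1 hun hu a c (fun m h1 h2 => hc m h1 h2) coef' h (by
      rw [← hρ h, hh, hsum]; rfl) i.1 i.2
    rw [hcoef', dif_pos i.2] at this
    exact this
  · intro z hz
    rw [hρT, ← Nw_apply] at hz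
    obtain ⟨w₀, lam, hzz⟩ := spanning hu p n hn hpn hu1 hun a c hc z hz
    have hsplit := Finset.sum_filter_add_sum_filter_not (Finset.Icc 1 n)
      (fun m : ℕ => (p : ℤ) ∣ a - (m : ℤ)) (fun m => lam m • c m)
    have hR : ∑ m ∈ (Finset.Icc 1 n).filter (fun m : ℕ => (p : ℤ) ∣ a - (m : ℤ)), lam m • c m ∈
        LinearMap.range (Tw hu a - LinearMap.id) := by
      apply Submodule.sum_mem
      intro m hm
      apply Submodule.smul_mem
      rw [Finset.mem_filter, Finset.mem_Icc] at hm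
      obtain ⟨h, hh⟩ := main13863 p n u hn hpn hu1 hun hu a m hm.1.1 hm.1.2 hm.2 (c m)
        (hc m hm.1.1 hm.1.2)
      exact ⟨h, by rw [LinearMap.sub_apply, LinearMap.id_apply, Tw_apply, sig_apply]; exact hh⟩
    obtain ⟨H, hH⟩ := hR
    rw [LinearMap.sub_apply, LinearMap.id_apply] at hH
    have e : z = (Tw hu a (w₀ + H) - (w₀ + H)) + ∑ m ∈ Fset p n a, lam m • c m := by
      rw [hzz, ← hsplit, ← hH, map_add]
      show _ = _ + ∑ m ∈ (Finset.Icc 1 n).filter (fun m : ℕ => ¬ (p : ℤ) ∣ a - (m : ℤ)), lam m • c m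
      abel
    refine ⟨fun i => lam i.1, w₀ + H, ?_⟩
    rw [hρT, e, Finset.sum_coe_sort (Fset p n a) (fun m => lam m • c m)]

end Groth.Agent.Lib.ASCoverH1
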