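import Groth.Agent.Lib.ASCover2_helper1

/-!
# Artin–Schreier covers: the image of `H¹(G, O) → H¹(G, Ω)` (helper1)
-/

set_option autoImplicit false
set_option maxHeartbeats 1000000
set_option linter.style.haveILetI false

universe u

namespace Groth.Agent.Lib.ASCoverH1

open PowerSeries CategoryTheory

/-! ### linear algebra: a basis of the range -/

theorem range_basis {k Z H : Type*} [Field k] [AddCommGroup Z] [Module k Z] [AddCommGroup H]
    [Module k H] (Ψ : Z →ₗ[k] H) {κ : Type} [Fintype κ] (x : κ → Z)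
    (hLI : ∀ coef : κ → k, Ψ (∑ i, coef i • x i) = 0 → ∀ i, coef i = 0)
    (hspan : ∀ z, ∃ coef : κ → k, Ψ z = Ψ (∑ i, coef i • x i)) :
    Module.Finite k (LinearMap.range Ψ) ∧
      Module.finrank k (LinearMap.range Ψ) = Fintype.card κ := by
  classical
  let b : κ → LinearMap.range Ψ := fun i => ⟨Ψ (x i), LinearMap.mem_range_self Ψ (x i)⟩
  have hval : ∀ coef : κ → k,
      ((∑ i, coef i • b i : LinearMap.range Ψ) : H) = Ψ (∑ i, coef i • x i) := by
    intro coef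
    rw [map_sum, Submodule.coe_sum]
    refine Finset.sum_congr rfl fun i _ => ?_
    rw [map_smul]; rfl
  have hLI' : LinearIndependent k b := by
    rw [Fintype.linearIndependent_iff]
    intro coef hsum
    apply hLI coef
    rw [← hval, hsum]; rfl
  have hspan' : ⊤ ≤ Submodule.span k (Set.range b) := by
    rintro ⟨y, z, rfl⟩ _
    obtain ⟨coef, hc⟩ := hspan z
    have hmem : ∑ i, coef i • b i ∈ Submodule.span k (Set.range b) :=
      Submodule.sum_mem _ fun i _ => Submodule.smul_mem _ _ (Submodule.subset_span ⟨i, rfl⟩)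
    have heq : (⟨Ψ z, LinearMap.mem_range_self Ψ z⟩ : LinearMap.range Ψ) = ∑ i, coef i • b i := by
      apply Subtype.ext
      rw [hval]; exact hc
    exact heq ▸ hmem
  let B := Module.Basis.mk hLI' hspan'
  exact ⟨Module.Finite.of_basis B, by rw [Module.finrank_eq_card_basis B]⟩

/-! ### cocycles of a finite cyclic group -/

section Plumbing2

open groupCohomology

variable {k G : Type u} [Field k] [Group G]

lemma cocycle_pow (A : Rep.{u} k G) (x : cocycles₁ A) (g : G) (j : ℕ) :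
    x (g ^ j) = ∑ i ∈ Finset.range j, ((A.ρ g) ^ i) (x g) := by
  induction j with
  | zero =>
    rw [pow_zero, Finset.range_zero, Finset.sum_empty]; exact cocycles₁_map_one x
  | succ j ih =>
    rw [pow_succ', (mem_cocycles₁_iff x).1 x.2 g (g ^ j), ih, map_sum, Finset.sum_range_succ',
      pow_zero, Module.End.one_apply]
    congr 1
    refine Finset.sum_congr rfl fun i _ => ?_
    rw [pow_succ', Module.End.mul_apply]

lemma cocycle_cobdry [Finite G] (A : Rep.{u} k G) (x : cocycles₁ A) (g : G)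
    (hg : ∀ y, y ∈ Subgroup.zpowers g) (h : A.V) (hx : x g = A.ρ g h - h) :
    ⇑x ∈ coboundaries₁ A := by
  have h1 : ∀ j : ℕ, x (g ^ j) = A.ρ (g ^ j) h - h := by
    intro j
    induction j with
    | zero =>
      rw [pow_zero, show A.ρ 1 = 1 from map_one A.ρ, Module.End.one_apply, sub_self]
      exact cocycles₁_map_one x
    | succ j ih =>
      rw [pow_succ', (mem_cocycles₁_iff x).1 x.2 g (g ^ j), ih, hx, map_mul,
        Module.End.mul_apply, map_sub]
      abel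
  refine ⟨h, ?_⟩
  funext y
  obtain ⟨i, rfl⟩ := (Submonoid.mem_powers_iff _ _).mp (mem_powers_iff_mem_zpowers.mpr (hg y))
  rw [h1]
  rfl

lemma exists_cocycle [Finite G] (A : Rep.{u} k G) (g : G) (hg : ∀ y, y ∈ Subgroup.zpowers g)
    (p : ℕ) (hord : orderOf g = p) (z : A.V)
    (hz : ∑ i ∈ Finset.range p, ((A.ρ g) ^ i) z = 0) : ∃ x : cocycles₁ A, x g = z := by
  obtain ⟨S, hS⟩ : ∃ S : ℕ → A.V, ∀ j, S j = ∑ i ∈ Finset.range j, ((A.ρ g) ^ i) z :=
    ⟨_, fun _ => rfl⟩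
  have hadd : ∀ a b, S (a + b) = S a + ((A.ρ g) ^ a) (S b) := by
    intro a b
    rw [hS, hS, hS, Finset.sum_range_add, map_sum]
    congr 1
    refine Finset.sum_congr rfl fun i _ => ?_
    rw [pow_add, Module.End.mul_apply]
  have hSp : S p = 0 := by rw [hS]; exact hz
  have hper : ∀ q j, S (j + p * q) = S j := by
    intro q
    induction q with
    | zero => intro j; rw [mul_zero, add_zero]
    | succ q ih =>
      intro j
      rw [mul_add_one, ← add_assoc, hadd, hSp, map_zero, add_zero, ih]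
  have hmod : ∀ j, S j = S (j % p) := by
    intro j
    conv_lhs => rw [← Nat.mod_add_div j p]
    exact hper _ _
  have hex : ∀ y : G, ∃ i : ℕ, g ^ i = y := fun y =>
    (Submonoid.mem_powers_iff _ _).mp (mem_powers_iff_mem_zpowers.mpr (hg y))
  choose idx hidx using hex
  have hf : ∀ j : ℕ, S (idx (g ^ j)) = S j := by
    intro j
    have h1 : g ^ idx (g ^ j) = g ^ j := hidx _
    rw [pow_eq_pow_iff_modEq, hord] at h1
    rw [hmod (idx _), hmod j]
    exact congrArg S h1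
  refine ⟨⟨fun y => S (idx y), (mem_cocycles₁_iff _).2 ?_⟩, ?_⟩
  · intro a b
    obtain ⟨i, rfl⟩ := (Submonoid.mem_powers_iff _ _).mp (mem_powers_iff_mem_zpowers.mpr (hg a))
    obtain ⟨j, rfl⟩ := (Submonoid.mem_powers_iff _ _).mp (mem_powers_iff_mem_zpowers.mpr (hg b))
    show S (idx (g ^ i * g ^ j)) = A.ρ (g ^ i) (S (idx (g ^ j))) + S (idx (g ^ i))
    rw [← pow_add, hf, hf, hf, hadd, map_pow, add_comm]
  · show S (idx g) = z
    have h1 := hf 1
    rw [pow_one] at h1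
    rw [h1, hS, Finset.sum_range_one, pow_zero, Module.End.one_apply]

theorem cyclic_range [Finite G] {A B : Rep.{u} k G} (φ : A ⟶ B)
    (g : G) (hg : ∀ x, x ∈ Subgroup.zpowers g) (p : ℕ) (hp : Nat.card G = p)
    {κ : Type} [Fintype κ] (e : κ → A.V)
    (hN : ∀ j, ∑ i ∈ Finset.range p, ((A.ρ g) ^ i) (e j) = 0)
    (hLI : ∀ coef : κ → k, (∃ h : B.V, B.ρ g h - h = ∑ j, coef j • φ.hom (e j)) →
      ∀ j, coef j = 0)
    (hspan : ∀ z : A.V, ∑ i ∈ Finset.range p, ((A.ρ g) ^ i) z = 0 →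
      ∃ (coef : κ → k) (h : B.V), φ.hom z = (B.ρ g h - h) + ∑ j, coef j • φ.hom (e j)) :
    Module.Finite k (LinearMap.range ((groupCohomology.functor k G 1).map φ).hom) ∧
      Module.finrank k (LinearMap.range ((groupCohomology.functor k G 1).map φ).hom) =
        Fintype.card κ := by
  classical
  have hord : orderOf g = p := by rw [orderOf_eq_card_of_forall_mem_zpowers hg, hp]
  have hgp : g ^ p = 1 := by rw [← hord]; exact pow_orderOf_eq_one g
  set F := ((groupCohomology.functor k G 1).map φ).hom with hFdef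
  set πA := (H1π A).hom with hπA
  set πB := (H1π B).hom with hπB
  set Mc := (mapCocycles₁ (MonoidHom.id G) φ).hom with hMc
  have hF : ∀ x : cocycles₁ A, F (πA x) = πB (Mc x) := by
    intro x
    exact congrArg (fun f => f.hom x) (H1π_comp_map (MonoidHom.id G) φ)
  have hsurjA : Function.Surjective πA :=
    (ModuleCat.epi_iff_surjective (H1π A)).mp inferInstance
  have hπB0 : ∀ y : cocycles₁ B, πB y = 0 ↔ ⇑y ∈ coboundaries₁ B := fun y => H1π_eq_zero_iff y
  have hπBeq : ∀ y y' : cocycles₁ B, πB y = πB y' ↔ ⇑y - ⇑y' ∈ coboundaries₁ B :=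
    fun y y' => H1π_eq_iff y y'
  choose xc hxc using fun j => exists_cocycle A g hg p hord (e j) (hN j)
  let ev : cocycles₁ A →ₗ[k] A.V :=
    (LinearMap.proj (R := k) (ι := G) (φ := fun _ => A.V) g).comp (cocycles₁ A).subtype
  have hev : ∀ x : cocycles₁ A, ev x = x g := fun _ => rfl
  have hkey : ∀ coef : κ → k,
      φ.hom ((∑ i, coef i • xc i : cocycles₁ A) g) = ∑ i, coef i • φ.hom (e i) := by
    intro coef
    rw [← hev (∑ i, coef i • xc i), map_sum, map_sum]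
    refine Finset.sum_congr rfl fun i _ => ?_
    rw [map_smul, map_smul, hev, hxc]
  have hsumπ : ∀ coef : κ → k,
      ∑ i, coef i • πA (xc i) = πA (∑ i, coef i • xc i) := by
    intro coef
    rw [map_sum]
    exact Finset.sum_congr rfl fun i _ => (map_smul πA (coef i) (xc i)).symm
  apply range_basis F (fun j => πA (xc j))
  · intro coef h0
    beta_reduce at h0
    apply hLI coef
    have h0' : πB (Mc (∑ i, coef i • xc i)) = 0 := by
      rw [← hF, ← hsumπ coef]; exact h0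
    rw [hπB0] at h0'
    obtain ⟨h, hh⟩ := h0'
    refine ⟨h, ?_⟩
    have h2 := congrFun hh g
    exact h2.trans (hkey coef)
  · intro z
    beta_reduce
    obtain ⟨x, rfl⟩ := hsurjA z
    have hNx : ∑ i ∈ Finset.range p, ((A.ρ g) ^ i) (x g) = 0 := by
      rw [← cocycle_pow A x g p, hgp]; exact cocycles₁_map_one x
    obtain ⟨coef, h', hz⟩ := hspan (x g) hNx
    refine ⟨coef, ?_⟩
    have hw : (Mc x - Mc (∑ i, coef i • xc i)) g = B.ρ g h' - h' := by
      show φ.hom (x g) - φ.hom ((∑ i, coef i • xc i : cocycles₁ A) g) = _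
      rw [hkey coef, hz]; abel
    have h3 : F (πA x) = F (πA (∑ i, coef i • xc i)) := by
      rw [hF, hF]
      exact (hπBeq _ _).mpr (cocycle_cobdry B _ g hg h' hw)
    exact h3.trans (congrArg F (hsumπ coef).symm)

end Plumbing2

/-! ### counting -/

section Count2

lemma div_facts (P N : ℤ) (hP : 0 < P) (hN : ¬ P ∣ N) :
    N / P = (N - 1) / P ∧ (-N) / P = -((N - 1) / P) - 1 ∧
      ((N + 1) * (P - 1)) / P = N - (N - 1) / P := by
  obtain ⟨q, hq⟩ : ∃ q, q = (N - 1) / P := ⟨_, rfl⟩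
  obtain ⟨r, hr⟩ : ∃ r, r = (N - 1) % P := ⟨_, rfl⟩
  have h0 : 0 ≤ r := hr ▸ Int.emod_nonneg _ hP.ne'
  have h1 : r < P := hr ▸ Int.emod_lt_of_pos _ hP
  have h2 : r + P * q = N - 1 := by rw [hr, hq]; exact Int.emod_add_mul_ediv (N - 1) P
  have h3 : r ≠ P - 1 := by
    intro h
    apply hN
    rw [h] at h2
    exact ⟨q + 1, by linear_combination (-1 : ℤ) * h2⟩
  have h4 : r ≤ P - 2 := by omega
  rw [← hq]
  refine ⟨?_, ?_, ?_⟩
  · exact ((Int.ediv_emod_unique hP (a := N) (r := r + 1) (q := q)).mpr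
      ⟨by linear_combination h2, by omega, by omega⟩).1
  · exact ((Int.ediv_emod_unique hP (a := -N) (r := P - r - 1) (q := -q - 1)).mpr
      ⟨by linear_combination (-1 : ℤ) * h2, by omega, by omega⟩).1
  · exact ((Int.ediv_emod_unique hP (a := (N + 1) * (P - 1)) (r := P - r - 2) (q := N - q)).mpr
      ⟨by linear_combination (-1 : ℤ) * h2, by omega, by omega⟩).1

lemma card_J (p : ℕ) (hp : 0 < p) (n : ℕ) (hpn : ¬ p ∣ n) :
    (((Fset p n ((n + 1 : ℕ) : ℤ) ∩ Fset p n 1).card : ℕ) : ℤ) =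
      ((n + 1) * (p - 1) : ℤ) / p - 1 - (n - 1 : ℤ) / p := by
  have hunion : Fset p n ((n + 1 : ℕ) : ℤ) ∪ Fset p n 1 = Finset.Icc 1 n := by
    ext m
    simp only [Fset, Finset.mem_union, Finset.mem_filter, Finset.mem_Icc]
    constructor
    · rintro (h | h) <;> exact h.1
    · intro hm
      by_cases h1 : (p : ℤ) ∣ ((n + 1 : ℕ) : ℤ) - (m : ℤ)
      · right
        refine ⟨hm, fun h2 => hpn ?_⟩
        have h3 := dvd_sub h1 h2
        have e : (((n + 1 : ℕ) : ℤ) - (m : ℤ)) - (1 - (m : ℤ)) = (n : ℤ) := by push_cast; ring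
        rw [e] at h3
        exact Int.natCast_dvd_natCast.mp h3
      · left; exact ⟨hm, h1⟩
  have hcard := Finset.card_union_add_card_inter (Fset p n ((n + 1 : ℕ) : ℤ)) (Fset p n 1)
  rw [hunion, Nat.card_Icc] at hcard
  have hA := card_Fset p hp ((n + 1 : ℕ) : ℤ) n
  have hB := card_Fset p hp 1 n
  have h3 : (((Fset p n ((n + 1 : ℕ) : ℤ) ∩ Fset p n 1).card : ℕ) : ℤ) =
      ((Fset p n ((n + 1 : ℕ) : ℤ)).card : ℤ) + ((Fset p n 1).card : ℤ) - n := by omega
  rw [h3, hA, hB]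
  have e1 : (((n + 1 : ℕ) : ℤ) - 1) = n := by push_cast; ring
  have e2 : ((n : ℤ) - n) = 0 := sub_self _
  have e3 : ((1 : ℤ) - 1) = 0 := sub_self _
  have e4 : ((0 : ℤ) - n) = -n := zero_sub _
  rw [e1, e2, e3, e4, Int.zero_ediv]
  have hpn' : ¬ (p : ℤ) ∣ (n : ℤ) := fun h => hpn (Int.natCast_dvd_natCast.mp h)
  obtain ⟨d1, d2, d3⟩ := div_facts (p : ℤ) (n : ℤ) (by exact_mod_cast hp) hpn'
  rw [d1, d2, d3]; ring

end Count2

/-! ### derivatives -/

section Deriv

variable {k : Type u} [Field k] {u : k⟦X⟧} (hu : IsUnit u)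

lemma XD_Wz (n : ℕ) (h1 : X * derivative k u = (u ^ n - 1) * u) (e : ℤ) :
    X * derivative k (Wz hu e) = (e : k⟦X⟧) * (u ^ n - 1) * Wz hu e := by
  have hadd : ∀ e f : ℤ,
      X * derivative k (Wz hu e) = (e : k⟦X⟧) * (u ^ n - 1) * Wz hu e →
      X * derivative k (Wz hu f) = (f : k⟦X⟧) * (u ^ n - 1) * Wz hu f →
      X * derivative k (Wz hu (e + f)) = ((e + f : ℤ) : k⟦X⟧) * (u ^ n - 1) * Wz hu (e + f) := by
    intro e f he hf
    rw [Wz_add, Derivation.leibniz, smul_eq_mul, smul_eq_mul]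
    push_cast
    linear_combination Wz hu e * hf + Wz hu f * he
  have hone : X * derivative k (Wz hu 1) = ((1 : ℤ) : k⟦X⟧) * (u ^ n - 1) * Wz hu 1 := by
    rw [Wz_one]; push_cast; rw [one_mul]; exact h1
  have hneg : X * derivative k (Wz hu (-1)) = ((-1 : ℤ) : k⟦X⟧) * (u ^ n - 1) * Wz hu (-1) := by
    have h := congrArg (derivative k) (Wz_neg_mul hu 1)
    rw [Derivation.leibniz, smul_eq_mul, smul_eq_mul, derivative_one] at h
    have h2 := Wz_neg_mul hu 1
    push_cast at hone ⊢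
    linear_combination (-(X * derivative k (Wz hu (-1))) - 1 * (u ^ n - 1) * Wz hu (-1)) * h2 +
      Wz hu (-1) * X * h - (Wz hu (-1)) ^ 2 * hone
  induction e using Int.induction_on with
  | zero => rw [Wz_zero, derivative_one, Int.cast_zero, zero_mul, zero_mul, mul_zero]
  | succ i ih => exact hadd _ _ ih hone
  | pred i ih =>
    have h := hadd _ _ ih hneg
    rwa [← sub_eq_add_neg] at h

lemma XD_c (n : ℕ) (h1 : X * derivative k u = (u ^ n - 1) * u) (m : ℕ) (hm : 1 ≤ m)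
    (c : k⟦X⟧) (hc : X ^ m * c = Wz hu (0 - (m : ℤ)) - 1) :
    X ^ (m + 1) * derivative k c = -(m : k⟦X⟧) * (Wz hu ((n : ℤ) - m) - 1) := by
  rw [zero_sub] at hc
  have h := congrArg (derivative k) hc
  rw [Derivation.leibniz, smul_eq_mul, smul_eq_mul, derivative_pow, derivative_X, mul_one, map_sub,
    derivative_one, sub_zero] at h
  have hP := XD_Wz hu n h1 (-(m : ℤ))
  push_cast at hP
  have hX : (X : k⟦X⟧) * X ^ (m - 1) = X ^ m := mul_pow_sub_one (by omega) X
  have hW : Wz hu ((n : ℤ) - m) = u ^ n * Wz hu (-(m : ℤ)) := by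
    rw [sub_eq_add_neg, Wz_add, Wz_natCast]
  rw [hW]
  linear_combination X * h + hP - (m : k⟦X⟧) * c * hX - (m : k⟦X⟧) * hc

lemma D_c_eq (n : ℕ) (h1 : X * derivative k u = (u ^ n - 1) * u) (m : ℕ) (hm : 1 ≤ m)
    (c c' : k⟦X⟧) (hc : X ^ m * c = Wz hu (0 - (m : ℤ)) - 1)
    (hc' : X ^ (m + 1) * c' = Wz hu (((n + 1 : ℕ) : ℤ) - ((m + 1 : ℕ) : ℤ)) - 1) :
    derivative k c = (-(m : k)) • c' := by
  have h := XD_c hu n h1 m hm c hc
  have he : (((n + 1 : ℕ) : ℤ) - ((m + 1 : ℕ) : ℤ)) = (n : ℤ) - m := by push_cast; ring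
  rw [he] at hc'
  apply mul_left_cancel₀ (pow_ne_zero (m + 1) (X_ne_zero (R := k)))
  rw [h, smul_eq_C_mul, ← hc']
  simp only [map_neg, map_natCast]
  ring

lemma D_c_eq' (n : ℕ) (h1 : X * derivative k u = (u ^ n - 1) * u) (m' : ℕ) (hm' : 2 ≤ m')
    (c c' : k⟦X⟧) (hc : X ^ (m' - 1) * c = Wz hu (0 - ((m' - 1 : ℕ) : ℤ)) - 1)
    (hc' : X ^ m' * c' = Wz hu (((n + 1 : ℕ) : ℤ) - (m' : ℤ)) - 1) :
    derivative k c = (-((m' - 1 : ℕ) : k)) • c' := by
  obtain ⟨m, rfl⟩ : ∃ m, m' = m + 1 := ⟨m' - 1, by omega⟩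
  simp only [Nat.add_sub_cancel] at hc ⊢
  exact D_c_eq hu n h1 m (by omega) c c' hc hc'

variable (p : ℕ) [Fact p.Prime] [CharP k p] (n : ℕ)

lemma exists_c (hpn : ¬ p ∣ n) (hu1 : constantCoeff u = 1) (hun : u ^ n * (1 + X ^ n) = 1)
    (a : ℤ) :
    ∃ c : ℕ → k⟦X⟧, ∀ m : ℕ, 1 ≤ m → m ≤ n → X ^ m * c m = Wz hu (a - m) - 1 := by
  have hex : ∀ m : ℕ, ∃ c : k⟦X⟧, 1 ≤ m → m ≤ n → X ^ m * c = Wz hu (a - m) - 1 := by
    intro m
    by_cases hm : m ≤ n
    · obtain ⟨c, hc⟩ := (pow_dvd_pow (X : k⟦X⟧) hm).trans (Wz_dvd hu p n hpn hu1 hun (a - m))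
      exact ⟨c, fun _ _ => hc.symm⟩
    · exact ⟨0, fun _ h => absurd h hm⟩
  choose c hc using hex
  exact ⟨c, hc⟩

end Deriv

/-! ### S13862 -/

theorem main13862 {k : Type u} [Field k] [IsAlgClosed k] (p : ℕ)
    [Fact p.Prime] [CharP k p] (n : ℕ) (hn : 0 < n) (hpn : ¬ p ∣ n)
    (u : PowerSeries k) (hu1 : PowerSeries.constantCoeff u = 1)
    (hun : u ^ n * (1 + PowerSeries.X ^ n) = 1)
    {G : Type u} [Group G] [Finite G] (g : G) (hG : Nat.card G = p)
    (hg : ∀ x : G, x ∈ Subgroup.zpowers g)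
    (ρ₀ ρ₁ : Representation k G (PowerSeries k))
    (hρ₀ : ∀ h : PowerSeries k, ρ₀ g h = PowerSeries.subst (PowerSeries.X * u) h)
    (hρ₁ : ∀ h : PowerSeries k, ρ₁ g h = u ^ (n + 1) * PowerSeries.subst (PowerSeries.X * u) h)
    (φ : Rep.of ρ₀ ⟶ Rep.of ρ₁) (hφ : ∀ h : PowerSeries k, φ.hom h = PowerSeries.derivative k h) :
    Module.Finite k (LinearMap.range ((groupCohomology.functor k G 1).map φ).hom) ∧
      (Module.finrank k (LinearMap.range ((groupCohomology.functor k G 1).map φ).hom) : ℤ) =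
        ((n + 1) * (p - 1) : ℤ) / p - 1 - (n - 1 : ℤ) / p := by
  classical
  have hp0 : 0 < p := (Fact.out : p.Prime).pos
  have hu : IsUnit u := by rw [isUnit_iff_constantCoeff, hu1]; exact isUnit_one
  have hρ₀T : ρ₀ g = Tw hu 0 := by
    apply LinearMap.ext; intro h; rw [hρ₀, Tw_zero_apply, sig_apply]
  have hρ₁T : ρ₁ g = Tw hu ((n + 1 : ℕ) : ℤ) := by
    apply LinearMap.ext; intro h; rw [hρ₁, Tw_apply, Wz_natCast, sig_apply]
  have hD : ∀ h : k⟦X⟧,
      derivative k (Tw hu 0 h) = Tw hu ((n + 1 : ℕ) : ℤ) (derivative k h) := by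
    intro h
    have h2 := Rep.hom_comm_apply φ g h
    change φ.hom (ρ₀ g h) = ρ₁ g (φ.hom h) at h2
    rw [hφ, hφ, hρ₀T, hρ₁T] at h2
    exact h2
  have h1 : X * derivative k u = (u ^ n - 1) * u := by
    have h2 := hD X
    rw [Tw_zero_apply, sig_X, Derivation.leibniz, derivative_X, Tw_apply, Wz_natCast,
      map_one (sig u)] at h2
    simp only [mul_one, smul_eq_mul] at h2
    linear_combination h2
  obtain ⟨c0, hc0⟩ := exists_c hu p n hpn hu1 hun 0
  obtain ⟨c1, hc1⟩ := exists_c hu p n hpn hu1 hun ((n + 1 : ℕ) : ℤ)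
  obtain ⟨J', hJ'⟩ : ∃ J' : Finset ℕ, J' = Fset p n ((n + 1 : ℕ) : ℤ) ∩ Fset p n 1 := ⟨_, rfl⟩
  have hJmem : ∀ m, m ∈ J' ↔ (1 ≤ m ∧ m ≤ n) ∧ ¬ (p : ℤ) ∣ ((n + 1 : ℕ) : ℤ) - (m : ℤ) ∧
      ¬ (p : ℤ) ∣ 1 - (m : ℤ) := by
    intro m
    rw [hJ']
    simp only [Fset, Finset.mem_inter, Finset.mem_filter, Finset.mem_Icc]
    tauto
  have hJsub : J' ⊆ Fset p n ((n + 1 : ℕ) : ℤ) := by
    rw [hJ']; exact Finset.inter_subset_left
  have hJ2 : ∀ m ∈ J', 2 ≤ m := by
    intro m hm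
    have h := (hJmem m).mp hm
    by_contra hlt
    have h1 : m = 1 := by omega
    apply h.2.2
    rw [h1]; simp
  have hDn : derivative k (c0 n) = 0 := by
    have h := XD_c hu n h1 n hn (c0 n) (hc0 n hn le_rfl)
    rw [sub_self, Wz_zero, sub_self, mul_zero] at h
    exact (mul_eq_zero.mp h).resolve_left (pow_ne_zero _ X_ne_zero)
  have key := cyclic_range φ g hg p hG (κ := {m // m ∈ J'}) (fun j => c0 (j.1 - 1)) ?_ ?_ ?_
  · obtain ⟨hfin, hrank⟩ := key
    refine ⟨hfin, ?_⟩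
    rw [hrank, Fintype.card_coe, hJ']
    exact card_J p hp0 n hpn
  · intro j
    have hj2 := hJ2 j.1 j.2
    have hjn := ((hJmem j.1).mp j.2).1.2
    show ∑ i ∈ Finset.range p, ((ρ₀ g) ^ i) (c0 (j.1 - 1)) = 0
    rw [hρ₀T, ← Nw_apply]
    exact Nw_c hu p n hpn hu1 hun 0 (j.1 - 1) (c0 (j.1 - 1))
      (hc0 (j.1 - 1) (by omega) (by omega))
  · rintro coef ⟨h, hh⟩ j
    change ρ₁ g h - h = _ at hh
    have hDe : ∀ j : {m // m ∈ J'},
        φ.hom (c0 (j.1 - 1)) = (-((j.1 - 1 : ℕ) : k)) • c1 j.1 := by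
      intro j
      have hj2 := hJ2 j.1 j.2
      have hjn := ((hJmem j.1).mp j.2).1.2
      rw [hφ]
      exact D_c_eq' hu n h1 j.1 hj2 (c0 (j.1 - 1)) (c1 j.1)
        (hc0 (j.1 - 1) (by omega) (by omega)) (hc1 j.1 (by omega) hjn)
    obtain ⟨coef', hcoef'⟩ : ∃ coef' : ℕ → k, ∀ m, coef' m =
        if hm : m ∈ J' then coef ⟨m, hm⟩ * (-((m - 1 : ℕ) : k)) else 0 := ⟨_, fun _ => rfl⟩
    have e1 : ∑ m ∈ J', coef' m • c1 m = ∑ m ∈ Fset p n ((n + 1 : ℕ) : ℤ), coef' m • c1 m :=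
      Finset.sum_subset hJsub (fun m _ hm => by rw [hcoef', dif_neg hm, zero_smul])
    have hsum : ∑ j : {m // m ∈ J'}, coef j • φ.hom (c0 (j.1 - 1)) =
        ∑ m ∈ Fset p n ((n + 1 : ℕ) : ℤ), coef' m • c1 m := by
      rw [← e1, ← Finset.sum_coe_sort J' (fun m => coef' m • c1 m)]
      refine Finset.sum_congr rfl fun j _ => ?_
      rw [hDe, hcoef', dif_pos j.2, smul_smul]
    have hmain := main13864 p n u hn hpn hu1 hun hu ((n + 1 : ℕ) : ℤ) c1
      (fun m h1 h2 => hc1 m h1 h2) coef' h (by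
        rw [show ((hu.unit ^ (((n + 1 : ℕ) : ℤ)) : (k⟦X⟧)ˣ) : k⟦X⟧) = u ^ (n + 1) from
          Wz_natCast hu (n + 1), ← hρ₁ h, hh, hsum]
        rfl)
    have hj0 := hmain j.1 (hJsub j.2)
    rw [hcoef', dif_pos j.2] at hj0
    rcases mul_eq_zero.mp hj0 with h0 | h0
    · exact h0
    · exfalso
      have h3 : p ∣ j.1 - 1 := (CharP.cast_eq_zero_iff k p (j.1 - 1)).mp (neg_eq_zero.mp h0)
      apply ((hJmem j.1).mp j.2).2.2
      have h4 : (p : ℤ) ∣ ((j.1 - 1 : ℕ) : ℤ) := Int.natCast_dvd_natCast.mpr h3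
      have h5 : (1 : ℤ) - (j.1 : ℤ) = -((j.1 - 1 : ℕ) : ℤ) := by
        have := ((hJmem j.1).mp j.2).1.1
        omega
      rw [h5]; exact dvd_neg.mpr h4
  · intro z hz
    change ∑ i ∈ Finset.range p, ((ρ₀ g) ^ i) z = 0 at hz
    rw [hρ₀T, ← Nw_apply] at hz
    obtain ⟨w₀, lam, hzz⟩ := spanning hu p n hn hpn hu1 hun 0 c0 hc0 z hz
    set W : Submodule k k⟦X⟧ :=
      Submodule.span k (Set.range fun j : {m // m ∈ J'} => derivative k (c0 (j.1 - 1))) ⊔
        LinearMap.range (Tw hu ((n + 1 : ℕ) : ℤ) - LinearMap.id) with hW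
    have hW1 : ∀ m ∈ Finset.Icc 1 n, derivative k (c0 m) ∈ W := by
      intro m hm
      rw [Finset.mem_Icc] at hm
      by_cases hmn : m = n
      · rw [hmn, hDn]; exact W.zero_mem
      · have hm1 : m + 1 ≤ n := by omega
        have hDc := D_c_eq hu n h1 m hm.1 (c0 m) (c1 (m + 1)) (hc0 m hm.1 hm.2)
          (hc1 (m + 1) (by omega) hm1)
        by_cases hJm : m + 1 ∈ J'
        · apply Submodule.mem_sup_left
          apply Submodule.subset_span
          exact ⟨⟨m + 1, hJm⟩, by simp⟩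
        · rw [hDc]
          have hor : (p : ℤ) ∣ ((n + 1 : ℕ) : ℤ) - ((m + 1 : ℕ) : ℤ) ∨
              (p : ℤ) ∣ 1 - ((m + 1 : ℕ) : ℤ) := by
            by_contra hcon
            apply hJm
            rw [hJmem]
            exact ⟨⟨by omega, hm1⟩, (not_or.mp hcon).1, (not_or.mp hcon).2⟩
          rcases hor with hd | hd
          · obtain ⟨h, hh⟩ := main13863 p n u hn hpn hu1 hun hu ((n + 1 : ℕ) : ℤ) (m + 1)
              (by omega) hm1 hd (c1 (m + 1)) (hc1 (m + 1) (by omega) hm1)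
            apply Submodule.mem_sup_right
            apply Submodule.smul_mem
            exact ⟨h, by
              rw [LinearMap.sub_apply, LinearMap.id_apply, Tw_apply, sig_apply]; exact hh⟩
          · have hm0 : (m : k) = 0 := by
              have e : (1 : ℤ) - ((m + 1 : ℕ) : ℤ) = -(m : ℤ) := by push_cast; ring
              rw [e] at hd
              have h6 := (CharP.intCast_eq_zero_iff k p (m : ℤ)).mpr (dvd_neg.mp hd)
              rwa [Int.cast_natCast] at h6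
            rw [hm0, neg_zero, zero_smul]; exact W.zero_mem
    have hDz : derivative k z ∈ W := by
      rw [hzz, map_add, map_sub, hD, map_sum]
      apply W.add_mem
      · apply Submodule.mem_sup_right
        exact ⟨derivative k w₀, by rw [LinearMap.sub_apply, LinearMap.id_apply]⟩
      · apply Submodule.sum_mem
        intro m hm
        rw [Derivation.map_smul]
        exact W.smul_mem _ (hW1 m hm)
    obtain ⟨y, hy, y', hy', hyy⟩ := Submodule.mem_sup.mp hDz
    obtain ⟨coef, hcoef⟩ := (Submodule.mem_span_range_iff_exists_fun k).mp hy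
    obtain ⟨h', hh'⟩ := hy'
    refine ⟨coef, h', ?_⟩
    change φ.hom z = (ρ₁ g h' - h') + ∑ j : {m // m ∈ J'}, coef j • φ.hom (c0 (j.1 - 1))
    have e1 : y = ∑ j : {m // m ∈ J'}, coef j • φ.hom (c0 (j.1 - 1)) := by
      rw [← hcoef]
      exact Finset.sum_congr rfl fun j _ => by rw [hφ]
    have e2 : y' = ρ₁ g h' - h' := by
      rw [hρ₁T, ← hh', LinearMap.sub_apply, LinearMap.id_apply]
    rw [hφ z, ← hyy, e1, e2, add_comm]

end Groth.Agent.Lib.ASCoverH1
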