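import Mathlib

/-!
# Artin–Schreier covers: the automorphism `t ↦ t·u`, `u^n (1+t^n) = 1`, of `k[[t]]` (helper1)
-/

set_option autoImplicit false
set_option maxHeartbeats 1000000

universe u

namespace Groth.Agent.Lib.ASCoverH1

open PowerSeries

variable {k : Type u} [Field k]

/-! ### roots of power series congruent to one -/

lemma geom_isUnit (n : ℕ) (hn : (n : k) ≠ 0) (x : k⟦X⟧) (hx : constantCoeff x = 1) :
    IsUnit (∑ i ∈ Finset.range n, x ^ i) := by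
  rw [isUnit_iff_constantCoeff, map_sum]
  simp only [map_pow, hx, one_pow, Finset.sum_const, Finset.card_range, nsmul_eq_mul, mul_one]
  exact isUnit_iff_ne_zero.mpr hn

lemma dvd_sub_one_of_pow (n : ℕ) (hn : (n : k) ≠ 0) (N : ℕ) (x : k⟦X⟧)
    (hx : constantCoeff x = 1) (h : (X : k⟦X⟧) ^ N ∣ x ^ n - 1) : (X : k⟦X⟧) ^ N ∣ x - 1 := by
  rw [← geom_sum_mul] at h
  exact ((geom_isUnit n hn x hx).dvd_mul_left).mp h

lemma eq_one_of_pow_eq_one (n : ℕ) (hn : (n : k) ≠ 0) (x : k⟦X⟧)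
    (hx : constantCoeff x = 1) (h : x ^ n = 1) : x = 1 := by
  have h1 : (∑ i ∈ Finset.range n, x ^ i) * (x - 1) = 0 := by rw [geom_sum_mul, h, sub_self]
  have h2 := ((geom_isUnit n hn x hx).mul_right_eq_zero).mp h1
  exact sub_eq_zero.mp h2

lemma dvd_of_pow_mul (n : ℕ) (x c : k⟦X⟧) (h : x ^ n * (1 + c * X ^ n) = 1) :
    (X : k⟦X⟧) ^ n ∣ x ^ n - 1 := by
  have : x ^ n - 1 = X ^ n * (-(x ^ n * c)) := by linear_combination h
  rw [this]; exact dvd_mul_right _ _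

/-! ### units congruent to one -/

/-- units congruent to `1` modulo `X^N`. -/
def congSub (N : ℕ) : Subgroup (k⟦X⟧)ˣ where
  carrier := {w | (X : k⟦X⟧) ^ N ∣ (w : k⟦X⟧) - 1}
  mul_mem' := by
    intro a b ha hb
    have : ((a * b : (k⟦X⟧)ˣ) : k⟦X⟧) - 1 =
        (a : k⟦X⟧) * ((b : k⟦X⟧) - 1) + ((a : k⟦X⟧) - 1) := by
      rw [Units.val_mul]; ring
    show (X : k⟦X⟧) ^ N ∣ ((a * b : (k⟦X⟧)ˣ) : k⟦X⟧) - 1
    rw [this]
    exact dvd_add (Dvd.dvd.mul_left hb _) ha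
  one_mem' := by
    show (X : k⟦X⟧) ^ N ∣ ((1 : (k⟦X⟧)ˣ) : k⟦X⟧) - 1
    rw [Units.val_one, sub_self]; exact dvd_zero _
  inv_mem' := by
    intro a ha
    have : ((a⁻¹ : (k⟦X⟧)ˣ) : k⟦X⟧) - 1 =
        -((a⁻¹ : (k⟦X⟧)ˣ) : k⟦X⟧) * ((a : k⟦X⟧) - 1) := by
      rw [mul_sub, mul_one, neg_mul, Units.inv_mul]; ring
    show (X : k⟦X⟧) ^ N ∣ ((a⁻¹ : (k⟦X⟧)ˣ) : k⟦X⟧) - 1
    rw [this]
    exact Dvd.dvd.mul_left ha _

lemma mem_congSub {N : ℕ} {w : (k⟦X⟧)ˣ} :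
    w ∈ congSub (k := k) N ↔ (X : k⟦X⟧) ^ N ∣ (w : k⟦X⟧) - 1 := Iff.rfl

/-- the `n`-th coefficient is additive on series congruent to one modulo `X^n`. -/
lemma coeff_mul_of_dvd (n : ℕ) (hn : 0 < n) {w w' : k⟦X⟧} (hw : (X : k⟦X⟧) ^ n ∣ w - 1)
    (hw' : (X : k⟦X⟧) ^ n ∣ w' - 1) : coeff n (w * w') = coeff n w + coeff n w' := by
  obtain ⟨α, hα⟩ := hw
  obtain ⟨β, hβ⟩ := hw'
  have e : w * w' = w + w' - 1 + X ^ (2 * n) * (α * β) := by
    linear_combination (w' - 1) * hα + (X ^ n * α) * hβ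
  rw [e, map_add, map_sub, map_add, coeff_one, if_neg hn.ne', coeff_X_pow_mul', if_neg (by omega)]
  ring

lemma coeff_pow_of_dvd (n : ℕ) (hn : 0 < n) {w : k⟦X⟧} (hw : (X : k⟦X⟧) ^ n ∣ w - 1) (m : ℕ) :
    (X : k⟦X⟧) ^ n ∣ w ^ m - 1 ∧ coeff n (w ^ m) = m * coeff n w := by
  induction m with
  | zero => simp [coeff_one, hn.ne']
  | succ m ih =>
    obtain ⟨h1, h2⟩ := ih
    refine ⟨?_, ?_⟩
    · have : w ^ (m + 1) - 1 = w ^ m * (w - 1) + (w ^ m - 1) := by ring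
      rw [this]; exact dvd_add (Dvd.dvd.mul_left hw _) h1
    · rw [pow_succ, coeff_mul_of_dvd n hn h1 hw, h2]; push_cast; ring

lemma coeff_zpow (n : ℕ) (hn : 0 < n) (w : (k⟦X⟧)ˣ) (hw : w ∈ congSub (k := k) n) (v : ℤ) :
    coeff n ((w ^ v : (k⟦X⟧)ˣ) : k⟦X⟧) = v * coeff n (w : k⟦X⟧) := by
  have hinv : coeff n ((w⁻¹ : (k⟦X⟧)ˣ) : k⟦X⟧) = - coeff n (w : k⟦X⟧) := by
    have h := coeff_mul_of_dvd n hn (mem_congSub.mp hw) (mem_congSub.mp ((congSub n).inv_mem hw))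
    rw [Units.mul_inv, coeff_one, if_neg hn.ne'] at h
    linear_combination -h
  induction v using Int.induction_on with
  | zero => simp [coeff_one, hn.ne']
  | succ i ih =>
    rw [zpow_add_one, Units.val_mul,
      coeff_mul_of_dvd n hn (mem_congSub.mp ((congSub n).zpow_mem hw _)) (mem_congSub.mp hw), ih]
    push_cast; ring
  | pred i ih =>
    rw [zpow_sub_one, Units.val_mul,
      coeff_mul_of_dvd n hn (mem_congSub.mp ((congSub n).zpow_mem hw _))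
        (mem_congSub.mp ((congSub n).inv_mem hw)), ih, hinv]
    push_cast; ring

/-! ### the substitution `h ↦ h(X u)` -/

lemma hasSubst_Xu (u : k⟦X⟧) : HasSubst (X * u : k⟦X⟧) :=
  HasSubst.of_constantCoeff_zero' (by simp)

/-- the substitution `h ↦ h(X u)` as an algebra endomorphism of `k⟦X⟧`. -/
noncomputable def sig (u : k⟦X⟧) : k⟦X⟧ →ₐ[k] k⟦X⟧ := substAlgHom (hasSubst_Xu u)

lemma sig_apply (u f : k⟦X⟧) : sig u f = subst (X * u) f :=
  congrFun (coe_substAlgHom (hasSubst_Xu u)) f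

lemma sig_X (u : k⟦X⟧) : sig u X = X * u := by
  rw [sig_apply, subst_X (hasSubst_Xu u)]

lemma sig_C (u : k⟦X⟧) (c : k) : sig u (C c) = C c := by
  have h := (sig u).commutes c
  simpa [PowerSeries.algebraMap_apply] using h

lemma constantCoeff_sig (u f : k⟦X⟧) : constantCoeff (sig u f) = constantCoeff f := by
  conv_lhs => rw [eq_X_mul_shift_add_const f]
  rw [map_add, map_mul, sig_X, sig_C]
  simp

lemma X_pow_dvd_sig_sub (n : ℕ) (u : k⟦X⟧) (hU : (X : k⟦X⟧) ^ n ∣ u - 1) :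
    ∀ N ≤ n + 1, ∀ f : k⟦X⟧, (X : k⟦X⟧) ^ N ∣ sig u f - f := by
  intro N
  induction N with
  | zero => intro _ f; rw [pow_zero]; exact one_dvd _
  | succ N ih =>
    intro hN f
    obtain ⟨f₁, c, rfl⟩ : ∃ f₁ c, f = X * f₁ + C c := ⟨_, _, eq_X_mul_shift_add_const f⟩
    obtain ⟨γ, hγ⟩ := ih (by omega) f₁
    obtain ⟨β, hβ⟩ := hU
    have e1 : sig u f₁ = f₁ + X ^ N * γ := by rw [← hγ]; ring
    have key : sig u (X * f₁ + C c) - (X * f₁ + C c) =
        X ^ (N + 1) * (u * γ) + X ^ (n + 1) * (β * f₁) := by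
      rw [map_add, map_mul, sig_X, sig_C, e1]
      linear_combination (X * f₁) * hβ
    rw [key]
    exact dvd_add (dvd_mul_right _ _) (Dvd.dvd.mul_right (pow_dvd_pow X hN) _)

/-! ### the series `u` -/

section Main

variable (p : ℕ) [Fact p.Prime] [CharP k p] (n : ℕ) (u : k⟦X⟧)

lemma natCast_ne_zero' (hpn : ¬ p ∣ n) : (n : k) ≠ 0 := by
  rw [Ne, CharP.cast_eq_zero_iff k p n]; exact hpn

lemma X_pow_dvd_u_sub_one (hpn : ¬ p ∣ n) (hu1 : constantCoeff u = 1)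
    (hun : u ^ n * (1 + X ^ n) = 1) : (X : k⟦X⟧) ^ n ∣ u - 1 := by
  apply dvd_sub_one_of_pow n (natCast_ne_zero' p n hpn) n u hu1
  apply dvd_of_pow_mul n u 1
  rw [one_mul]; exact hun

lemma natCast_mul_coeff_u (hn : 0 < n) (hU : (X : k⟦X⟧) ^ n ∣ u - 1)
    (hun : u ^ n * (1 + X ^ n) = 1) : (n : k) * coeff n u = -1 := by
  have h1 := coeff_pow_of_dvd n hn hU n
  have hE : (X : k⟦X⟧) ^ n ∣ (1 + X ^ n) - 1 := by rw [add_sub_cancel_left]
  have h2 := coeff_mul_of_dvd n hn h1.1 hE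
  rw [hun, coeff_one, if_neg hn.ne', h1.2, map_add, coeff_one, if_neg hn.ne', coeff_X_pow_self,
    zero_add] at h2
  linear_combination -h2

/-- a nonzero solution of `u^v · g(Xu) = g` forces `p ∣ v`. -/
theorem dvd_of_twisted_fixed (hn : 0 < n) (hpn : ¬ p ∣ n) (hu1 : constantCoeff u = 1)
    (hun : u ^ n * (1 + X ^ n) = 1) (hu : IsUnit u) (v : ℤ) (g : k⟦X⟧)
    (hg : ((hu.unit ^ v : (k⟦X⟧)ˣ) : k⟦X⟧) * sig u g = g) (hg0 : constantCoeff g ≠ 0) :
    (p : ℤ) ∣ v := by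
  have hU := X_pow_dvd_u_sub_one p n u hpn hu1 hun
  have huS : hu.unit ∈ congSub (k := k) n := by
    rw [mem_congSub, IsUnit.unit_spec]; exact hU
  have h4 := coeff_zpow n hn hu.unit huS v
  have hwS : (X : k⟦X⟧) ^ n ∣ ((hu.unit ^ v : (k⟦X⟧)ˣ) : k⟦X⟧) - 1 :=
    mem_congSub.mp ((congSub n).zpow_mem huS v)
  obtain ⟨w, hw⟩ : ∃ w : k⟦X⟧, w = ((hu.unit ^ v : (k⟦X⟧)ˣ) : k⟦X⟧) := ⟨_, rfl⟩
  rw [← hw] at hg h4 hwS
  obtain ⟨α, hα⟩ := hwS
  obtain ⟨δ, hδ⟩ := X_pow_dvd_sig_sub n u hU (n + 1) le_rfl g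
  have h1 : X ^ n * (α * sig u g) = X ^ (n + 1) * (-δ) := by
    linear_combination (-(sig u g)) * hα + hg - hδ
  have h2 := congrArg (coeff n) h1
  rw [coeff_X_pow_mul', if_pos le_rfl, Nat.sub_self, coeff_X_pow_mul', if_neg (by omega),
    coeff_zero_eq_constantCoeff_apply, map_mul, constantCoeff_sig] at h2
  have hα0 : constantCoeff α = 0 := (mul_eq_zero.mp h2).resolve_right hg0
  have h3 : coeff n w = constantCoeff α := by
    have : w = 1 + X ^ n * α := by rw [← hα]; ring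
    rw [this, map_add, coeff_one, if_neg hn.ne', zero_add, coeff_X_pow_mul', if_pos le_rfl,
      Nat.sub_self, coeff_zero_eq_constantCoeff_apply]
  rw [h3, hα0, IsUnit.unit_spec] at h4
  have h5 := natCast_mul_coeff_u n u hn hU hun
  have hv : (v : k) = 0 := by
    have h6 : (v : k) * ((n : k) * coeff n u) = 0 := by
      rw [mul_left_comm, ← h4, mul_zero]
    rw [h5] at h6
    simpa using h6
  exact (CharP.intCast_eq_zero_iff k p v).mp hv

/-! ### linear independence of the classes (S13864) -/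

theorem main13864 (hn : 0 < n) (hpn : ¬ p ∣ n)
    (hu1 : PowerSeries.constantCoeff u = 1)
    (hun : u ^ n * (1 + PowerSeries.X ^ n) = 1) (hu : IsUnit u) (a : ℤ)
    (c : ℕ → PowerSeries k)
    (hc : ∀ m : ℕ, 1 ≤ m → m ≤ n →
      PowerSeries.X ^ m * c m = ((hu.unit ^ (a - m) : (PowerSeries k)ˣ) : PowerSeries k) - 1)
    (coef : ℕ → k) (h : PowerSeries k)
    (hh : ((hu.unit ^ a : (PowerSeries k)ˣ) : PowerSeries k) *
        PowerSeries.subst (PowerSeries.X * u) h - h =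
      ∑ m ∈ (Finset.Icc 1 n).filter (fun m : ℕ => ¬ (p : ℤ) ∣ a - (m : ℤ)), coef m • c m) :
    ∀ m ∈ (Finset.Icc 1 n).filter (fun m : ℕ => ¬ (p : ℤ) ∣ a - (m : ℤ)), coef m = 0 := by
  classical
  by_contra hcon
  push Not at hcon
  obtain ⟨F, hF⟩ : ∃ F : Finset ℕ,
      F = (Finset.Icc 1 n).filter (fun m : ℕ => ¬ (p : ℤ) ∣ a - (m : ℤ)) := ⟨_, rfl⟩
  rw [← hF] at hh hcon
  have hFmem : ∀ m ∈ F, (1 ≤ m ∧ m ≤ n) ∧ ¬ (p : ℤ) ∣ a - (m : ℤ) := by
    intro m hm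
    rw [hF, Finset.mem_filter, Finset.mem_Icc] at hm; exact hm
  have hne : (F.filter (fun m => coef m ≠ 0)).Nonempty := by
    obtain ⟨m, hm, hm0⟩ := hcon; exact ⟨m, Finset.mem_filter.mpr ⟨hm, hm0⟩⟩
  obtain ⟨M, hM⟩ : ∃ M, M = (F.filter (fun m => coef m ≠ 0)).max' hne := ⟨_, rfl⟩
  have hMmem := Finset.max'_mem _ hne
  rw [← hM, Finset.mem_filter] at hMmem
  obtain ⟨hMF, hM0⟩ := hMmem
  have hMle : ∀ m ∈ F, coef m ≠ 0 → m ≤ M := fun m hm h0 => by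
    rw [hM]; exact Finset.le_max' _ m (Finset.mem_filter.mpr ⟨hm, h0⟩)
  obtain ⟨⟨hM1, hMn⟩, hMp⟩ := hFmem M hMF
  obtain ⟨W, hW⟩ : ∃ W : ℤ → k⟦X⟧, ∀ e, W e = ((hu.unit ^ e : (k⟦X⟧)ˣ) : k⟦X⟧) :=
    ⟨_, fun _ => rfl⟩
  have hWadd : ∀ e e', W (e + e') = W e * W e' := fun e e' => by
    rw [hW, hW, hW, zpow_add, Units.val_mul]
  have hWnat : ∀ m : ℕ, W m = u ^ m := fun m => by
    rw [hW, zpow_natCast, Units.val_pow_eq_pow_val, IsUnit.unit_spec]
  have hh' : W a * sig u h - h = ∑ m ∈ F, coef m • c m := by rw [sig_apply, hW]; exact hh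
  have hc' : ∀ m : ℕ, 1 ≤ m → m ≤ n → X ^ m * c m = W (a - m) - 1 := fun m h1 h2 => by
    rw [hW]; exact hc m h1 h2
  obtain ⟨G, hG⟩ : ∃ G : k⟦X⟧, G = ∑ m ∈ F, coef m • (X : k⟦X⟧) ^ (M - m) := ⟨_, rfl⟩
  obtain ⟨g, hg⟩ : ∃ g : k⟦X⟧, g = G - X ^ M * h := ⟨_, rfl⟩
  have hterm : ∀ m ∈ F, X ^ M * (coef m • c m) = coef m • (X ^ (M - m) * (W (a - m) - 1)) := by
    intro m hm
    by_cases h0 : coef m = 0
    · rw [h0, zero_smul, zero_smul, mul_zero]
    · have hmM := hMle m hm h0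
      have hm' := (hFmem m hm).1
      rw [mul_smul_comm, ← hc' m hm'.1 hm'.2, ← mul_assoc, ← pow_add, Nat.sub_add_cancel hmM]
  have hSG : W (a - M) * sig u G = ∑ m ∈ F, coef m • (X ^ (M - m) * W (a - m)) := by
    rw [hG, map_sum, Finset.mul_sum]
    refine Finset.sum_congr rfl fun m hm => ?_
    by_cases h0 : coef m = 0
    · rw [h0, zero_smul, zero_smul, map_zero, mul_zero]
    · have hmM := hMle m hm h0
      rw [map_smul, map_pow, sig_X, mul_smul_comm, mul_pow, ← hWnat]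
      have e : a - (m : ℤ) = (a - M) + ((M - m : ℕ) : ℤ) := by rw [Nat.cast_sub hmM]; ring
      rw [e, hWadd]; ring
  have hfix : W (a - M) * sig u g = g := by
    have e1 : W (a - M) * sig u g = W (a - M) * sig u G - X ^ M * (W a * sig u h) := by
      rw [hg, map_sub, map_mul, map_pow, sig_X, mul_pow, mul_sub]
      have e0 : W a = W (a - M) * u ^ M := by
        rw [← hWnat, ← hWadd]; congr 1; ring
      rw [e0]; ring
    have e2 : X ^ M * (W a * sig u h - h) =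
        ∑ m ∈ F, coef m • (X ^ (M - m) * (W (a - m) - 1)) := by
      rw [hh', Finset.mul_sum]
      exact Finset.sum_congr rfl hterm
    have e3 : ∑ m ∈ F, coef m • (X ^ (M - m) * (W (a - m) - 1)) =
        ∑ m ∈ F, coef m • (X ^ (M - m) * W (a - m)) - G := by
      rw [hG, ← Finset.sum_sub_distrib]
      refine Finset.sum_congr rfl fun m _ => ?_
      rw [mul_sub, mul_one, smul_sub]
    rw [e3] at e2
    rw [e1, hSG, hg]
    linear_combination -e2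
  have hg0 : constantCoeff g = coef M := by
    rw [hg, map_sub, map_mul, map_pow, constantCoeff_X, zero_pow (by omega), zero_mul, sub_zero,
      hG, map_sum]
    rw [Finset.sum_eq_single M]
    · rw [Nat.sub_self, pow_zero, smul_eq_C_mul, mul_one, constantCoeff_C]
    · intro m hm hmM
      by_cases h0 : coef m = 0
      · rw [h0, zero_smul, map_zero]
      · have := hMle m hm h0
        have hpos : M - m ≠ 0 := by omega
        rw [smul_eq_C_mul, map_mul, constantCoeff_C, map_pow, constantCoeff_X, zero_pow hpos,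
          mul_zero]
    · intro hM'; exact absurd hMF hM'
  have hfix' : ((hu.unit ^ (a - M) : (k⟦X⟧)ˣ) : k⟦X⟧) * sig u g = g := by
    rw [← hW]; exact hfix
  exact hMp (dvd_of_twisted_fixed p n u hn hpn hu1 hun hu (a - M) g hfix'
    (by rw [hg0]; exact hM0))

/-! ### the norm of `X` and the vanishing classes (S13863) -/

/-- `U_l = σ^l(X)/X`. -/
noncomputable def Useq (u : k⟦X⟧) : ℕ → k⟦X⟧
  | 0 => 1
  | l + 1 => u * sig u (Useq u l)

lemma Useq_const (hu1 : constantCoeff u = 1) : ∀ l, constantCoeff (Useq u l) = 1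
  | 0 => by simp [Useq]
  | l + 1 => by rw [Useq, map_mul, hu1, constantCoeff_sig, Useq_const hu1 l, mul_one]

lemma Useq_pow (hun : u ^ n * (1 + X ^ n) = 1) :
    ∀ l : ℕ, Useq u l ^ n * (1 + (l : k⟦X⟧) * X ^ n) = 1
  | 0 => by simp [Useq]
  | l + 1 => by
    have ih := Useq_pow hun l
    have h1 := congrArg (sig u) ih
    rw [map_mul, map_pow, map_add, map_one, map_mul, map_natCast, map_pow, sig_X, mul_pow] at h1
    rw [Useq, mul_pow]
    push_cast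
    linear_combination (u ^ n * (1 + X ^ n)) * h1 + hun -
      (u ^ n * sig u (Useq u l) ^ n * (l : k⟦X⟧) * X ^ n) * hun

lemma Useq_p_eq_one (hpn : ¬ p ∣ n) (hu1 : constantCoeff u = 1)
    (hun : u ^ n * (1 + X ^ n) = 1) : Useq u p = 1 := by
  apply eq_one_of_pow_eq_one n (natCast_ne_zero' p n hpn) _ (Useq_const u hu1 p)
  have h := Useq_pow n u hun p
  have hp0 : ((p : ℕ) : k⟦X⟧) = 0 := by
    rw [← map_natCast (C (R := k)) p, CharP.cast_eq_zero k p, map_zero]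
  rw [hp0, zero_mul, add_zero, mul_one] at h
  exact h

lemma Useq_dvd (hpn : ¬ p ∣ n) (hu1 : constantCoeff u = 1)
    (hun : u ^ n * (1 + X ^ n) = 1) (l : ℕ) : (X : k⟦X⟧) ^ n ∣ Useq u l - 1 :=
  dvd_sub_one_of_pow n (natCast_ne_zero' p n hpn) n _ (Useq_const u hu1 l)
    (dvd_of_pow_mul n _ _ (Useq_pow n u hun l))

/-- the norm of `X` divided by `X^p`. -/
noncomputable def Pnorm (u : k⟦X⟧) : k⟦X⟧ := ∏ l ∈ Finset.range p, Useq u l

lemma Pnorm_const (hu1 : constantCoeff u = 1) : constantCoeff (Pnorm p u) = 1 := by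
  rw [Pnorm, map_prod]
  exact Finset.prod_eq_one fun l _ => Useq_const u hu1 l

lemma Pnorm_dvd (hpn : ¬ p ∣ n) (hu1 : constantCoeff u = 1)
    (hun : u ^ n * (1 + X ^ n) = 1) : (X : k⟦X⟧) ^ n ∣ Pnorm p u - 1 := by
  rw [Pnorm]
  refine Finset.prod_induction _ (fun y => (X : k⟦X⟧) ^ n ∣ y - 1) ?_ ?_ ?_
  · intro a b ha hb
    have : a * b - 1 = a * (b - 1) + (a - 1) := by ring
    rw [this]; exact dvd_add (Dvd.dvd.mul_left hb _) ha
  · rw [sub_self]; exact dvd_zero _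
  · intro l _; exact Useq_dvd p n u hpn hu1 hun l

lemma Pnorm_invariant (hpn : ¬ p ∣ n) (hu1 : constantCoeff u = 1)
    (hun : u ^ n * (1 + X ^ n) = 1) : u ^ p * sig u (Pnorm p u) = Pnorm p u := by
  rw [Pnorm, map_prod]
  have h1 : u ^ p * ∏ l ∈ Finset.range p, sig u (Useq u l) =
      ∏ l ∈ Finset.range p, Useq u (l + 1) := by
    have h2 : ∏ l ∈ Finset.range p, Useq u (l + 1) =
        ∏ l ∈ Finset.range p, (u * sig u (Useq u l)) := Finset.prod_congr rfl fun l _ => rfl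
    rw [h2, Finset.prod_mul_distrib, Finset.prod_const, Finset.card_range]
  rw [h1]
  have h3 := Finset.prod_range_succ' (fun l => Useq u l) p
  have h4 := Finset.prod_range_succ (fun l => Useq u l) p
  rw [h3] at h4
  have h5 : Useq u 0 = 1 := rfl
  rw [h5, mul_one, Useq_p_eq_one p n u hpn hu1 hun, mul_one] at h4
  exact h4

theorem main13863 (hn : 0 < n) (hpn : ¬ p ∣ n)
    (hu1 : PowerSeries.constantCoeff u = 1)
    (hun : u ^ n * (1 + PowerSeries.X ^ n) = 1) (hu : IsUnit u) (a : ℤ) (m : ℕ)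
    (hm1 : 1 ≤ m) (hmn : m ≤ n) (hdvd : (p : ℤ) ∣ a - m) (c : PowerSeries k)
    (hc : PowerSeries.X ^ m * c =
      ((hu.unit ^ (a - m) : (PowerSeries k)ˣ) : PowerSeries k) - 1) :
    ∃ h : PowerSeries k,
      ((hu.unit ^ a : (PowerSeries k)ˣ) : PowerSeries k) *
        PowerSeries.subst (PowerSeries.X * u) h - h = c := by
  obtain ⟨j, hj⟩ := hdvd
  have hPunit : IsUnit (Pnorm p u) := by
    rw [isUnit_iff_constantCoeff, Pnorm_const p u hu1]; exact isUnit_one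
  have hPinv := Pnorm_invariant p n u hpn hu1 hun
  have hPcong : hPunit.unit ∈ congSub (k := k) n := by
    rw [mem_congSub, IsUnit.unit_spec]; exact Pnorm_dvd p n u hpn hu1 hun
  obtain ⟨f, hf⟩ : ∃ f : k⟦X⟧ →* k⟦X⟧, ∀ x, f x = sig u x :=
    ⟨((sig u : k⟦X⟧ →+* k⟦X⟧) : k⟦X⟧ →* k⟦X⟧), fun _ => rfl⟩
  have hunit : hu.unit ^ (p : ℤ) * Units.map f hPunit.unit = hPunit.unit := by
    apply Units.ext
    rw [Units.val_mul, Units.coe_map, zpow_natCast, Units.val_pow_eq_pow_val, IsUnit.unit_spec,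
      IsUnit.unit_spec, hf]
    exact hPinv
  have hunitj : hu.unit ^ (a - m) * Units.map f (hPunit.unit ^ j) = hPunit.unit ^ j := by
    rw [hj, zpow_mul, map_zpow, ← mul_zpow, hunit]
  have hSQ := congrArg Units.val hunitj
  rw [Units.val_mul, Units.coe_map, hf] at hSQ
  have hQ : (X : k⟦X⟧) ^ n ∣ ((hPunit.unit ^ j : (k⟦X⟧)ˣ) : k⟦X⟧) - 1 :=
    mem_congSub.mp ((congSub n).zpow_mem hPcong j)
  obtain ⟨Q, hQdef⟩ : ∃ Q : k⟦X⟧, Q = ((hPunit.unit ^ j : (k⟦X⟧)ˣ) : k⟦X⟧) := ⟨_, rfl⟩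
  rw [← hQdef] at hSQ hQ
  have hQm : (X : k⟦X⟧) ^ m ∣ 1 - Q := by
    have h0 := (pow_dvd_pow (X : k⟦X⟧) hmn).trans hQ
    rwa [← dvd_neg, neg_sub] at h0
  obtain ⟨h, hh⟩ := hQm
  refine ⟨h, ?_⟩
  have hX : (X : k⟦X⟧) ^ m ≠ 0 := pow_ne_zero _ X_ne_zero
  apply mul_left_cancel₀ hX
  rw [hc, ← sig_apply]
  have h2 : X ^ m * u ^ m * sig u h = 1 - sig u Q := by
    have h0 := congrArg (sig u) hh
    rw [map_sub, map_one, map_mul, map_pow, sig_X, mul_pow] at h0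
    exact h0.symm
  have h3 : ((hu.unit ^ a : (k⟦X⟧)ˣ) : k⟦X⟧) =
      ((hu.unit ^ (a - m) : (k⟦X⟧)ˣ) : k⟦X⟧) * u ^ m := by
    have e : a = (a - m) + (m : ℤ) := by ring
    conv_lhs => rw [e, zpow_add, Units.val_mul, zpow_natCast, Units.val_pow_eq_pow_val,
      IsUnit.unit_spec]
  rw [h3]
  linear_combination ((hu.unit ^ (a - m) : (k⟦X⟧)ˣ) : k⟦X⟧) * h2 - hSQ + hh

end Main

end Groth.Agent.Lib.ASCoverH1
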