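import Mathlib
import Groth.Prelude.Def_EtRam

set_option autoImplicit false
universe u

namespace DvrExtH8

open IsLocalRing

/-- In a noetherian local ring with principal maximal ideal `(π)`, every nonzero element is a
unit times a power of `π`. -/
theorem exists_unit_mul_pow {T : Type u} [CommRing T] [IsLocalRing T] [IsNoetherianRing T]
    (π : T) (hπ : maximalIdeal T = Ideal.span {π}) (t : T) (ht : t ≠ 0) :
    ∃ (n : ℕ) (u : T), IsUnit u ∧ t = u * π ^ n := by
  classical
  have hK : (⨅ i : ℕ, maximalIdeal T ^ i) = ⊥ := Ideal.iInf_pow_eq_bot_of_isLocalRing _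
    (maximalIdeal.isMaximal T).ne_top
  have hex : ∃ n : ℕ, t ∉ maximalIdeal T ^ n := by
    by_contra hall
    push Not at hall
    have : t ∈ (⨅ i : ℕ, maximalIdeal T ^ i) := by
      rw [Ideal.mem_iInf]
      exact hall
    rw [hK, Ideal.mem_bot] at this
    exact ht this
  have hn := Nat.find_spec hex
  have hpos : Nat.find hex ≠ 0 := by
    intro h0
    rw [h0, pow_zero, Ideal.one_eq_top] at hn
    exact hn Submodule.mem_top
  obtain ⟨n, hn1⟩ := Nat.exists_eq_succ_of_ne_zero hpos
  have hmem : t ∈ maximalIdeal T ^ n := by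
    by_contra hnot
    have := Nat.find_min' hex hnot
    omega
  rw [hπ, Ideal.span_singleton_pow, Ideal.mem_span_singleton] at hmem
  obtain ⟨u, hu⟩ := hmem
  refine ⟨n, u, ?_, by rw [hu, mul_comm]⟩
  by_contra hnu
  have hum : u ∈ maximalIdeal T := (mem_maximalIdeal u).mpr hnu
  rw [hπ, Ideal.mem_span_singleton] at hum
  obtain ⟨w, hw⟩ := hum
  apply hn
  rw [hn1, hπ, Ideal.span_singleton_pow, Ideal.mem_span_singleton]
  exact ⟨w, by rw [hu, hw, pow_succ]; ring⟩

/-- Core lemma: a valuation ring dominating the DVR `B`, which is generated (as a field of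
fractions) by the image of a formally unramified essentially finite type `B`-algebra mapping into
it, is weakly unramified over `B` with separable residue field extension. -/
theorem unramified_core {B : Type u} [CommRing B] [IsDomain B] [IsDiscreteValuationRing B]
    {F : Type u} [Field F] (gB : B →+* F) (hgB : Function.Injective gB)
    (V : ValuationSubring F) (hd : EtRam.Dominates B gB V)
    (T₀ : Type u) [CommRing T₀] [Algebra B T₀] [Algebra.EssFiniteType B T₀]
    [Algebra.FormallyUnramified B T₀]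
    (φ : T₀ →+* F) (hφB : ∀ b, φ (algebraMap B T₀ b) = gB b) (hφV : ∀ t, φ t ∈ V)
    (hfrac : ∀ x : F, ∃ a b : T₀, φ b ≠ 0 ∧ x * φ b = φ a) :
    letI : Algebra B V := (RingHom.codRestrict gB V hd.1).toAlgebra
    ∀ [IsLocalHom (algebraMap B V)],
      EtRam.IsWeaklyUnramified B V ∧
        Algebra.IsSeparable (ResidueField B) (ResidueField V) := by
  letI : Algebra B V := (RingHom.codRestrict gB V hd.1).toAlgebra
  intro _
  let φ'A : T₀ →ₐ[B] V :=
    { φ.codRestrict V hφV with
      commutes' := fun b => Subtype.ext (hφB b) }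
  have hφ'A : ∀ t, ((φ'A t : V) : F) = φ t := fun t => rfl
  let 𝔑 : Ideal T₀ := (maximalIdeal V).comap φ'A.toRingHom
  haveI : 𝔑.IsPrime := Ideal.comap_isPrime _ _
  have hunits : ∀ y : 𝔑.primeCompl, IsUnit (φ'A y) := by
    intro y
    by_contra hnu
    exact y.2 ((mem_maximalIdeal _).mpr hnu)
  let T := Localization.AtPrime 𝔑
  let ψ : T →ₐ[B] V := IsLocalization.liftAlgHom (M := 𝔑.primeCompl) (f := φ'A) hunits
  have hψ : ∀ t : T₀, ψ (algebraMap T₀ T t) = φ'A t := fun t => IsLocalization.lift_eq _ t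
  haveI : IsLocalHom (algebraMap B T) := by
    constructor
    intro b hb
    have h1 : IsUnit (ψ (algebraMap B T b)) := hb.map ψ
    rw [AlgHom.commutes] at h1
    exact isUnit_of_map_unit (algebraMap B V) b h1
  haveI : IsNoetherianRing T := Algebra.EssFiniteType.isNoetherianRing B T
  -- uniformizer
  obtain ⟨ϖ, hϖ⟩ := IsDiscreteValuationRing.exists_irreducible B
  have hmB : maximalIdeal B = Ideal.span {ϖ} := hϖ.maximalIdeal_eq
  have hmT : maximalIdeal T = Ideal.span {algebraMap B T ϖ} := by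
    rw [← Algebra.FormallyUnramified.map_maximalIdeal (R := B) (S := T), hmB, Ideal.map_span,
      Set.image_singleton]
  have hϖV : V.valuation (gB ϖ) < 1 := hd.2 ϖ (by rw [hmB]; exact Ideal.mem_span_singleton_self ϖ)
  have hϖ0 : gB ϖ ≠ 0 := by
    intro h0
    exact hϖ.ne_zero (hgB (by rw [h0, map_zero]))
  have hψϖ : ((ψ (algebraMap B T ϖ) : V) : F) = gB ϖ := by
    rw [AlgHom.commutes]; rfl
  -- ψ is surjective
  have hsurj : Function.Surjective ψ := by
    intro x
    by_cases hx0 : (x : F) = 0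
    · exact ⟨0, by rw [map_zero]; exact Subtype.ext hx0.symm⟩
    obtain ⟨a, b, hb0, hab⟩ := hfrac (x : F)
    have ha0 : φ a ≠ 0 := by
      rw [← hab]
      exact mul_ne_zero hx0 hb0
    have haT : algebraMap T₀ T a ≠ 0 := by
      intro h0
      apply ha0
      rw [← hφ'A, ← hψ, h0, map_zero]
      rfl
    have hbT : algebraMap T₀ T b ≠ 0 := by
      intro h0
      apply hb0
      rw [← hφ'A, ← hψ, h0, map_zero]
      rfl
    obtain ⟨i, u', hu', hai⟩ := exists_unit_mul_pow _ hmT _ haT
    obtain ⟨j, u, hu, hbj⟩ := exists_unit_mul_pow _ hmT _ hbT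
    have hA : φ a = ((ψ u' : V) : F) * gB ϖ ^ i := by
      rw [← hφ'A, ← hψ, hai, map_mul, map_pow, ← hψϖ]
      rfl
    have hB : φ b = ((ψ u : V) : F) * gB ϖ ^ j := by
      rw [← hφ'A, ← hψ, hbj, map_mul, map_pow, ← hψϖ]
      rfl
    have hvu' : V.valuation ((ψ u' : V) : F) = 1 := (V.valuation_eq_one_iff _).mp (hu'.map ψ)
    have hvu : V.valuation ((ψ u : V) : F) = 1 := (V.valuation_eq_one_iff _).mp (hu.map ψ)
    have hxv : V.valuation (x : F) ≤ 1 := (V.valuation_le_one_iff _).mpr x.2
    have hij : j ≤ i := by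
      by_contra hlt
      push Not at hlt
      obtain ⟨d, hd1⟩ := Nat.exists_eq_add_of_lt hlt
      have h1 : (x : F) * ((ψ u : V) : F) * gB ϖ ^ (d + 1) = ((ψ u' : V) : F) := by
        have h2 : (x : F) * (((ψ u : V) : F) * gB ϖ ^ j) = ((ψ u' : V) : F) * gB ϖ ^ i := by
          rw [← hA, ← hB, hab]
        have h3 : gB ϖ ^ i ≠ 0 := pow_ne_zero _ hϖ0
        apply mul_right_cancel₀ h3
        rw [← h2, hd1]
        ring
      have h4 := congrArg V.valuation h1
      rw [map_mul, map_mul, hvu, mul_one, hvu', map_pow] at h4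
      have h5 : V.valuation (gB ϖ) ^ (d + 1) < 1 := pow_lt_one' hϖV (Nat.succ_ne_zero d)
      have h6 : V.valuation (x : F) * V.valuation (gB ϖ) ^ (d + 1) < 1 := by
        calc V.valuation (x : F) * V.valuation (gB ϖ) ^ (d + 1)
            ≤ 1 * V.valuation (gB ϖ) ^ (d + 1) := mul_le_mul_left hxv _
          _ = V.valuation (gB ϖ) ^ (d + 1) := one_mul _
          _ < 1 := h5
      rw [h4] at h6
      exact lt_irrefl _ h6
    obtain ⟨d, rfl⟩ := Nat.exists_eq_add_of_le hij
    obtain ⟨uinv, huinv⟩ := hu.exists_right_inv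
    refine ⟨u' * uinv * algebraMap B T ϖ ^ d, ?_⟩
    apply Subtype.ext
    have hBne : φ b ≠ 0 := hb0
    apply mul_right_cancel₀ hBne
    rw [hab, hA]
    have h7 : ((ψ (u' * uinv * algebraMap B T ϖ ^ d) : V) : F) =
        ((ψ u' : V) : F) * ((ψ uinv : V) : F) * gB ϖ ^ d := by
      rw [map_mul, map_mul, map_pow, ← hψϖ]
      rfl
    have h8 : ((ψ u : V) : F) * ((ψ uinv : V) : F) = 1 := by
      have := congrArg (fun z => ((ψ z : V) : F)) huinv
      simp only [map_mul, map_one] at this
      exact this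
    rw [h7, hB]
    calc ((ψ u' : V) : F) * ((ψ uinv : V) : F) * gB ϖ ^ d * (((ψ u : V) : F) * gB ϖ ^ j)
        = ((ψ u' : V) : F) * (((ψ u : V) : F) * ((ψ uinv : V) : F)) * gB ϖ ^ (j + d) := by ring
      _ = ((ψ u' : V) : F) * gB ϖ ^ (j + d) := by rw [h8, mul_one]
  haveI : Algebra.FormallyUnramified B V := Algebra.FormallyUnramified.of_surjective ψ hsurj
  haveI : Algebra.EssFiniteType B V := Algebra.EssFiniteType.of_surjective ψ hsurj
  exact ⟨Algebra.FormallyUnramified.map_maximalIdeal, inferInstance⟩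

end DvrExtH8
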