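import Mathlib
import Groth.Agent.Lib.DvrExt6_helper8

set_option autoImplicit false
universe u

namespace TameExtH8

open IsLocalRing

/-- Core surjectivity: a noetherian local ring with principal maximal ideal `(t)` mapping to a
valuation subring `V` of a field `F`, with `t` going to a non-unit, such that every element of `F`
is a fraction of images, maps onto `V`. -/
theorem core_surjective {T : Type u} [CommRing T] [IsLocalRing T] [IsNoetherianRing T]
    (t : T) (ht : maximalIdeal T = Ideal.span {t})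
    {F : Type u} [Field F] (V : ValuationSubring F) (ψ : T →+* V)
    (hlt : V.valuation ((ψ t : V) : F) < 1)
    (hfrac : ∀ x : F, ∃ a b : T, ((ψ b : V) : F) ≠ 0 ∧ x * ((ψ b : V) : F) = ((ψ a : V) : F)) :
    Function.Surjective ψ := by
  intro x
  by_cases hx0 : (x : F) = 0
  · exact ⟨0, by rw [map_zero]; exact Subtype.ext hx0.symm⟩
  obtain ⟨a, b, hb0, hab⟩ := hfrac (x : F)
  have ha0 : ((ψ a : V) : F) ≠ 0 := by
    rw [← hab]
    exact mul_ne_zero hx0 hb0
  have haT : a ≠ 0 := by
    intro h0
    apply ha0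
    rw [h0, map_zero]
    rfl
  have hbT : b ≠ 0 := by
    intro h0
    apply hb0
    rw [h0, map_zero]
    rfl
  obtain ⟨i, u', hu', hai⟩ := DvrExtH8.exists_unit_mul_pow _ ht _ haT
  obtain ⟨j, u, hu, hbj⟩ := DvrExtH8.exists_unit_mul_pow _ ht _ hbT
  set τ : F := ((ψ t : V) : F) with hτ
  have hA : ((ψ a : V) : F) = ((ψ u' : V) : F) * τ ^ i := by
    rw [hai, map_mul, map_pow]
    rfl
  have hB : ((ψ b : V) : F) = ((ψ u : V) : F) * τ ^ j := by
    rw [hbj, map_mul, map_pow]
    rfl
  have hvu' : V.valuation ((ψ u' : V) : F) = 1 := (V.valuation_eq_one_iff _).mp (hu'.map ψ)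
  have hvu : V.valuation ((ψ u : V) : F) = 1 := (V.valuation_eq_one_iff _).mp (hu.map ψ)
  have hxv : V.valuation (x : F) ≤ 1 := (V.valuation_le_one_iff _).mpr x.2
  have hij : j ≤ i := by
    by_contra hlt'
    push Not at hlt'
    obtain ⟨d, hd1⟩ := Nat.exists_eq_add_of_lt hlt'
    have h3 : τ ^ i ≠ 0 := by
      intro h0
      apply ha0
      rw [hA, h0, mul_zero]
    have h1 : (x : F) * ((ψ u : V) : F) * τ ^ (d + 1) = ((ψ u' : V) : F) := by
      have h2 : (x : F) * (((ψ u : V) : F) * τ ^ j) = ((ψ u' : V) : F) * τ ^ i := by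
        rw [← hA, ← hB, hab]
      apply mul_right_cancel₀ h3
      rw [← h2, hd1]
      ring
    have h4 := congrArg V.valuation h1
    rw [map_mul, map_mul, hvu, mul_one, hvu', map_pow] at h4
    have h5 : V.valuation τ ^ (d + 1) < 1 := pow_lt_one' hlt (Nat.succ_ne_zero d)
    have h6 : V.valuation (x : F) * V.valuation τ ^ (d + 1) < 1 := by
      calc V.valuation (x : F) * V.valuation τ ^ (d + 1)
          ≤ 1 * V.valuation τ ^ (d + 1) := mul_le_mul_left hxv _
        _ = V.valuation τ ^ (d + 1) := one_mul _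
        _ < 1 := h5
    rw [h4] at h6
    exact lt_irrefl _ h6
  obtain ⟨d, rfl⟩ := Nat.exists_eq_add_of_le hij
  obtain ⟨uinv, huinv⟩ := hu.exists_right_inv
  refine ⟨u' * uinv * t ^ d, ?_⟩
  apply Subtype.ext
  apply mul_right_cancel₀ hb0
  rw [hab, hA]
  have h7 : ((ψ (u' * uinv * t ^ d) : V) : F) =
      ((ψ u' : V) : F) * ((ψ uinv : V) : F) * τ ^ d := by
    rw [map_mul, map_mul, map_pow]
    rfl
  have h8 : ((ψ u : V) : F) * ((ψ uinv : V) : F) = 1 := by
    have := congrArg (fun z => ((ψ z : V) : F)) huinv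
    simp only [map_mul, map_one] at this
    exact this
  rw [h7, hB]
  calc ((ψ u' : V) : F) * ((ψ uinv : V) : F) * τ ^ d * (((ψ u : V) : F) * τ ^ j)
      = ((ψ u' : V) : F) * (((ψ u : V) : F) * ((ψ uinv : V) : F)) * τ ^ (j + d) := by ring
    _ = ((ψ u' : V) : F) * τ ^ (j + d) := by rw [h8, mul_one]

/-- If a set of algebra generators is killed by the universal derivation, the algebra is
formally unramified. -/
theorem formallyUnramified_of_adjoin {R S : Type u} [CommRing R] [CommRing S] [Algebra R S]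
    (G : Set S) (hG : Algebra.adjoin R G = ⊤)
    (h : ∀ g ∈ G, KaehlerDifferential.D R S g = 0) : Algebra.FormallyUnramified R S := by
  have hD : KaehlerDifferential.D R S = 0 :=
    Derivation.ext_of_adjoin_eq_top G hG (fun g hg => by rw [h g hg]; rfl)
  have hspan := KaehlerDifferential.span_range_derivation R S
  have hbot : (⊤ : Submodule S (Ω[S⁄R])) = ⊥ := by
    rw [← hspan, Submodule.span_eq_bot]
    rintro _ ⟨s, rfl⟩
    rw [hD]
    rfl
  constructor
  exact (Submodule.subsingleton_iff S).mp (subsingleton_of_bot_eq_top hbot.symm)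

end TameExtH8
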