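import Mathlib
import Groth.Agent.Lib.TameExt1_helper8

set_option autoImplicit false
universe u

namespace InsepStepH8

open IsLocalRing Polynomial TameExtH8

/-- Adjoining a root of a monic polynomial with irreducible reduction to a local ring with
principal maximal ideal `(t)` gives a local ring with maximal ideal `(t)`. -/
theorem isLocalRing_adjoinRoot_of_irreducible {R : Type u} [CommRing R] [IsLocalRing R] (t : R)
    (ht : maximalIdeal R = Ideal.span {t}) (g : R[X]) (hg : g.Monic)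
    (hirr : Irreducible (g.map (residue R))) :
    ∃ _ : IsLocalRing (AdjoinRoot g),
      maximalIdeal (AdjoinRoot g) = Ideal.span {AdjoinRoot.of g t} := by
  classical
  set I : Ideal (AdjoinRoot g) := (maximalIdeal R).map (AdjoinRoot.of g) with hI
  -- `I` is maximal
  have hImax : I.IsMaximal := by
    have hmax : (Ideal.span ({g.map (residue R)} : Set (ResidueField R)[X])).IsMaximal :=
      PrincipalIdealRing.isMaximal_of_irreducible hirr
    have hf : IsField ((ResidueField R)[X] ⧸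
        Ideal.span ({g.map (residue R)} : Set (ResidueField R)[X])) :=
      (Ideal.Quotient.maximal_ideal_iff_isField_quotient _).mp hmax
    have hf' : IsField (AdjoinRoot g ⧸ I) :=
      (AdjoinRoot.quotAdjoinRootEquivQuotPolynomialQuot (maximalIdeal R) g).toMulEquiv.isField hf
    exact (Ideal.Quotient.maximal_ideal_iff_isField_quotient _).mpr hf'
  -- every maximal ideal contains `I`
  haveI : Algebra.IsIntegral R (AdjoinRoot g) := by
    haveI : Module.Finite R (AdjoinRoot g) := hg.finite_adjoinRoot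
    infer_instance
  have hle : ∀ 𝔪 : Ideal (AdjoinRoot g), 𝔪.IsMaximal → I ≤ 𝔪 := by
    intro 𝔪 h𝔪
    have h1 : (𝔪.comap (algebraMap R (AdjoinRoot g))).IsMaximal :=
      Ideal.isMaximal_comap_of_isIntegral_of_isMaximal 𝔪
    have h2 : 𝔪.comap (algebraMap R (AdjoinRoot g)) = maximalIdeal R :=
      IsLocalRing.eq_maximalIdeal h1
    rw [hI, ← h2]
    exact Ideal.map_comap_le
  haveI hloc : IsLocalRing (AdjoinRoot g) :=
    IsLocalRing.of_unique_max_ideal ⟨I, hImax, fun 𝔪 h𝔪 =>
      (hImax.eq_of_le h𝔪.ne_top (hle 𝔪 h𝔪)).symm⟩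
  refine ⟨hloc, ?_⟩
  have h3 : maximalIdeal (AdjoinRoot g) = I := (IsLocalRing.eq_maximalIdeal hImax).symm
  rw [h3, hI, ht, Ideal.map_span, Set.image_singleton]

/-- Stage 2: an extension of a local ring with principal maximal ideal `(t)` by a `p`-th root of
an element whose residue is not a `p`-th power is "weakly unramified" inside a valuation
subring. -/
theorem stage2 {R : Type u} [CommRing R] [IsLocalRing R] [IsNoetherianRing R] (t : R)
    (ht : maximalIdeal R = Ideal.span {t}) (p : ℕ) (hp : p.Prime)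
    {Ω : Type u} [Field Ω] (W : ValuationSubring Ω) (φ : R →+* Ω) (hφW : ∀ r, φ r ∈ W)
    (hφt : W.valuation (φ t) < 1) (γ : R) (hγ : ∀ y : ResidueField R, y ^ p ≠ residue R γ)
    (ζ : Ω) (hζ : ζ ^ p = φ γ)
    (hgen : Subfield.closure (Set.range φ ∪ {ζ}) = ⊤) :
    ∀ x ∈ W, W.valuation x < 1 → ∃ y ∈ W, x = φ t * y := by
  classical
  set g : R[X] := X ^ p - C γ with hgdef
  have hgm : g.Monic := monic_X_pow_sub_C γ hp.ne_zero
  have hgirr : Irreducible (g.map (residue R)) := by
    rw [hgdef, Polynomial.map_sub, Polynomial.map_pow, map_X, map_C]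
    exact X_pow_sub_C_irreducible_of_prime hp hγ
  obtain ⟨hloc, hmax⟩ := isLocalRing_adjoinRoot_of_irreducible t ht g hgm hgirr
  haveI := hloc
  haveI : IsNoetherianRing (AdjoinRoot g) := Algebra.FiniteType.isNoetherianRing R (AdjoinRoot g)
  -- `ζ ∈ W`
  have hζW : ζ ∈ W := by
    rw [← ValuationSubring.valuation_le_one_iff]
    have h1 : W.valuation ζ ^ p ≤ 1 := by
      rw [← map_pow, hζ, ValuationSubring.valuation_le_one_iff]
      exact hφW γ
    exact (pow_le_one_iff hp.ne_zero).mp h1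
  -- the map
  have heval : eval₂ φ ζ g = 0 := by
    rw [hgdef, eval₂_sub, eval₂_pow, eval₂_X, eval₂_C, hζ, sub_self]
  let ψ₀ : AdjoinRoot g →+* Ω := AdjoinRoot.lift φ ζ heval
  have hψ₀of : ∀ r, ψ₀ (AdjoinRoot.of g r) = φ r := fun r => AdjoinRoot.lift_of heval
  have hψ₀root : ψ₀ (AdjoinRoot.root g) = ζ := AdjoinRoot.lift_root heval
  have hψ₀W : ∀ s, ψ₀ s ∈ W := by
    intro s
    induction s using AdjoinRoot.induction_on with
    | ih h =>
      have : ψ₀ (AdjoinRoot.mk g h) = eval₂ φ ζ h := AdjoinRoot.lift_mk heval h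
      rw [this, eval₂_eq_sum_range]
      refine W.toSubring.sum_mem fun i _ => ?_
      exact W.mul_mem _ _ (hφW _) (W.toSubring.pow_mem hζW i)
  let ψ : AdjoinRoot g →+* W := RingHom.codRestrict ψ₀ W hψ₀W
  have hψ : ∀ s, ((ψ s : W) : Ω) = ψ₀ s := fun s => rfl
  have hlt : W.valuation ((ψ (AdjoinRoot.of g t) : W) : Ω) < 1 := by
    rw [hψ, hψ₀of]; exact hφt
  have hfrac : ∀ x : Ω, ∃ a b : AdjoinRoot g, ((ψ b : W) : Ω) ≠ 0 ∧
      x * ((ψ b : W) : Ω) = ((ψ a : W) : Ω) := by
    intro x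
    have hx : x ∈ Subfield.closure (Set.range φ ∪ {ζ}) := by rw [hgen]; trivial
    rw [Subfield.mem_closure_iff] at hx
    obtain ⟨y, hy, z, hz, rfl⟩ := hx
    have hsub : Subring.closure (Set.range φ ∪ {ζ}) ≤ ψ₀.range := by
      rw [Subring.closure_le]
      rintro w (⟨r, rfl⟩ | hw)
      · exact ⟨AdjoinRoot.of g r, hψ₀of r⟩
      · rw [Set.mem_singleton_iff] at hw
        rw [hw]
        exact ⟨AdjoinRoot.root g, hψ₀root⟩
    obtain ⟨a, rfl⟩ := hsub hy
    obtain ⟨b, rfl⟩ := hsub hz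
    by_cases hb : ψ₀ b = 0
    · refine ⟨0, 1, ?_, ?_⟩
      · rw [hψ, map_one]; exact one_ne_zero
      · rw [hψ, hψ, map_one, map_zero, hb, div_zero, zero_mul]
    · refine ⟨a, b, hb, ?_⟩
      rw [hψ, hψ, div_mul_cancel₀ _ hb]
  have hsurj : Function.Surjective ψ :=
    core_surjective (AdjoinRoot.of g t) hmax W ψ hlt hfrac
  intro x hxW hxv
  obtain ⟨s, hs⟩ := hsurj ⟨x, hxW⟩
  have hsm : s ∈ maximalIdeal (AdjoinRoot g) := by
    rw [mem_maximalIdeal]
    intro hu
    have h1 : IsUnit (⟨x, hxW⟩ : W) := hs ▸ hu.map ψ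
    have h2 : (⟨x, hxW⟩ : W) ∈ maximalIdeal W := by
      rw [ValuationSubring.valuation_lt_one_iff]; exact hxv
    exact ((mem_maximalIdeal _).mp h2) h1
  rw [hmax] at hsm
  obtain ⟨s', rfl⟩ := Ideal.mem_span_singleton'.mp hsm
  refine ⟨ψ₀ s', hψ₀W s', ?_⟩
  have h1 := congrArg (fun w : W => (w : Ω)) hs
  simp only at h1
  rw [← h1, hψ, map_mul, hψ₀of, mul_comm]

end InsepStepH8
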