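import Mathlib
import Groth.Agent.Lib.InsepStep1_helper8

/-!
# Monogenic extensions of a local ring with principal maximal ideal, irreducible reduction (helper8)

`R` noetherian local with maximal ideal `(t)`, `f` monic with irreducible reduction, `ζ` a root of
`f` in a field `Ω` generated by the image of `R` and `ζ`, `W` a valuation subring of `Ω` containing
the image of `R` in which `t` is a non-unit.  Then `W = R[ζ]` and `𝔪_W = t W`.
-/

set_option autoImplicit false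
universe u

namespace Groth.Agent.Lib.MonoLocH8

open IsLocalRing Polynomial TameExtH8 InsepStepH8

/-- A root of a monic polynomial with coefficients in a valuation subring lies in it. -/
theorem mem_of_eval₂_eq_zero {R : Type u} [CommRing R] {Ω : Type u} [Field Ω]
    (W : ValuationSubring Ω) (φ : R →+* Ω) (hφW : ∀ r, φ r ∈ W) (f : R[X]) (hf : f.Monic)
    (ζ : Ω) (hζ : eval₂ φ ζ f = 0) : ζ ∈ W := by
  let φ' : R →+* W := RingHom.codRestrict φ W hφW
  have hint : IsIntegral W ζ := by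
    refine ⟨f.map φ', hf.map _, ?_⟩
    rw [eval₂_map]
    have : (algebraMap W Ω).comp φ' = φ := by ext r; rfl
    rw [this]; exact hζ
  obtain ⟨z, hz⟩ := IsIntegrallyClosed.algebraMap_eq_of_integral hint
  rw [← hz]
  exact z.2

theorem eval₂_mem {R : Type u} [CommRing R] {Ω : Type u} [Field Ω]
    (W : ValuationSubring Ω) (φ : R →+* Ω) (hφW : ∀ r, φ r ∈ W) (ζ : Ω) (hζW : ζ ∈ W) (q : R[X]) :
    eval₂ φ ζ q ∈ W := by
  rw [eval₂_eq_sum_range]
  refine W.toSubring.sum_mem fun i _ => ?_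
  exact W.mul_mem _ _ (hφW _) (W.toSubring.pow_mem hζW i)

/-- every element of the field generated by `φ(R)` and `ζ` is a quotient of polynomial values. -/
theorem exists_frac_of_closure {R : Type u} [CommRing R] {Ω : Type u} [Field Ω]
    (φ : R →+* Ω) (ζ : Ω) (hgen : Subfield.closure (Set.range φ ∪ {ζ}) = ⊤) (x : Ω) :
    ∃ a b : R[X], eval₂ φ ζ b ≠ 0 ∧ x * eval₂ φ ζ b = eval₂ φ ζ a := by
  have hx : x ∈ Subfield.closure (Set.range φ ∪ {ζ}) := by rw [hgen]; trivial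
  rw [Subfield.mem_closure_iff] at hx
  obtain ⟨y, hy, z, hz, rfl⟩ := hx
  have hsub : Subring.closure (Set.range φ ∪ {ζ}) ≤ (eval₂RingHom φ ζ).range := by
    rw [Subring.closure_le]
    rintro w (⟨r, rfl⟩ | hw)
    · exact ⟨C r, by simp⟩
    · rw [Set.mem_singleton_iff] at hw
      rw [hw]
      exact ⟨X, by simp⟩
  obtain ⟨a, rfl⟩ := hsub hy
  obtain ⟨b, rfl⟩ := hsub hz
  by_cases hb : eval₂RingHom φ ζ b = 0
  · refine ⟨0, 1, ?_, ?_⟩
    · rw [eval₂_one]; exact one_ne_zero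
    · rw [eval₂_one, eval₂_zero, hb, div_zero, zero_mul]
  · refine ⟨a, b, hb, ?_⟩
    exact div_mul_cancel₀ _ hb

theorem surjective_of_irreducible {R : Type u} [CommRing R] [IsLocalRing R] [IsNoetherianRing R]
    (t : R) (ht : maximalIdeal R = Ideal.span {t})
    {Ω : Type u} [Field Ω] (W : ValuationSubring Ω) (φ : R →+* Ω) (hφW : ∀ r, φ r ∈ W)
    (hφt : W.valuation (φ t) < 1) (f : R[X]) (hf : f.Monic)
    (hirr : Irreducible (f.map (residue R)))
    (ζ : Ω) (hζ : eval₂ φ ζ f = 0)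
    (hgen : Subfield.closure (Set.range φ ∪ {ζ}) = ⊤) :
    (∀ x ∈ W, ∃ q : R[X], x = eval₂ φ ζ q) ∧
      (∀ x ∈ W, W.valuation x < 1 → ∃ y ∈ W, x = φ t * y) := by
  classical
  obtain ⟨hloc, hmax⟩ := isLocalRing_adjoinRoot_of_irreducible t ht f hf hirr
  haveI := hloc
  haveI : IsNoetherianRing (AdjoinRoot f) := Algebra.FiniteType.isNoetherianRing R (AdjoinRoot f)
  have hζW : ζ ∈ W := mem_of_eval₂_eq_zero W φ hφW f hf ζ hζ
  let ψ₀ : AdjoinRoot f →+* Ω := AdjoinRoot.lift φ ζ hζ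
  have hψ₀of : ∀ r, ψ₀ (AdjoinRoot.of f r) = φ r := fun r => AdjoinRoot.lift_of hζ
  have hψ₀mk : ∀ q : R[X], ψ₀ (AdjoinRoot.mk f q) = eval₂ φ ζ q := fun q => AdjoinRoot.lift_mk hζ q
  have hψ₀W : ∀ s, ψ₀ s ∈ W := by
    intro s
    induction s using AdjoinRoot.induction_on with
    | ih h => rw [hψ₀mk]; exact eval₂_mem W φ hφW ζ hζW h
  let ψ : AdjoinRoot f →+* W := RingHom.codRestrict ψ₀ W hψ₀W
  have hψ : ∀ s, ((ψ s : W) : Ω) = ψ₀ s := fun s => rfl
  have hlt : W.valuation ((ψ (AdjoinRoot.of f t) : W) : Ω) < 1 := by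
    rw [hψ, hψ₀of]; exact hφt
  have hfrac : ∀ x : Ω, ∃ a b : AdjoinRoot f, ((ψ b : W) : Ω) ≠ 0 ∧
      x * ((ψ b : W) : Ω) = ((ψ a : W) : Ω) := by
    intro x
    obtain ⟨a, b, hb, hab⟩ := exists_frac_of_closure φ ζ hgen x
    exact ⟨AdjoinRoot.mk f a, AdjoinRoot.mk f b, by rw [hψ, hψ₀mk]; exact hb,
      by rw [hψ, hψ, hψ₀mk, hψ₀mk]; exact hab⟩
  have hsurj : Function.Surjective ψ :=
    core_surjective (AdjoinRoot.of f t) hmax W ψ hlt hfrac
  refine ⟨?_, ?_⟩
  · intro x hxW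
    obtain ⟨s, hs⟩ := hsurj ⟨x, hxW⟩
    induction s using AdjoinRoot.induction_on with
    | ih q =>
      refine ⟨q, ?_⟩
      have h1 := congrArg (fun w : W => (w : Ω)) hs
      simp only at h1
      rw [← h1, hψ, hψ₀mk]
  · intro x hxW hxv
    obtain ⟨s, hs⟩ := hsurj ⟨x, hxW⟩
    have hsm : s ∈ maximalIdeal (AdjoinRoot f) := by
      rw [mem_maximalIdeal]
      intro hu
      have h1 : IsUnit (⟨x, hxW⟩ : W) := hs ▸ hu.map ψ
      have h2 : (⟨x, hxW⟩ : W) ∈ maximalIdeal W := by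
        rw [ValuationSubring.valuation_lt_one_iff]; exact hxv
      exact ((mem_maximalIdeal _).mp h2) h1
    rw [hmax] at hsm
    obtain ⟨s', rfl⟩ := Ideal.mem_span_singleton'.mp hsm
    refine ⟨ψ₀ s', hψ₀W s', ?_⟩
    have h1 := congrArg (fun w : W => (w : Ω)) hs
    simp only at h1
    rw [← h1, hψ, map_mul, hψ₀of, mul_comm]

end Groth.Agent.Lib.MonoLocH8
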