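import Mathlib
import Groth.Agent.Lib.MonoLoc1_helper8

/-!
# Monogenic extensions of a local ring with principal maximal ideal: the general local structure
(helper8)

`R` noetherian local with maximal ideal `(t)`, `f` monic, `ζ` a root of `f` in a field `Ω`
generated by the image of `R` and `ζ`, `W` a valuation subring of `Ω` containing the image of `R`
in which `t` is a non-unit.  If `f ≡ g h mod t` with `g` monic of irreducible reduction, `g(ζ)` a
non-unit and `h(ζ)` a unit of `W`, then `𝔪_W = t W` and `W = R[ζ] + 𝔪_W`.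
-/

set_option autoImplicit false
universe u

namespace Groth.Agent.Lib.MonoLocH8

open IsLocalRing Polynomial TameExtH8 InsepStepH8

section bz

variable {R : Type u} [CommRing R] [IsLocalRing R] (t : R) (ht : maximalIdeal R = Ideal.span {t})

include ht in
/-- A polynomial with zero reduction is a multiple of `C t`. -/
theorem exists_eq_C_mul_of_map_eq_zero (r : R[X]) (hr : r.map (residue R) = 0) :
    ∃ c : R[X], r = C t * c := by
  have h1 : r ∈ RingHom.ker (mapRingHom (residue R)) := hr
  rw [Polynomial.ker_mapRingHom, ker_residue, ht, Ideal.map_span, Set.image_singleton] at h1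
  obtain ⟨c, hc⟩ := Ideal.mem_span_singleton'.mp h1
  exact ⟨c, by rw [← hc, mul_comm]⟩

include ht in
/-- Bézout alternative: a polynomial either lies in `(g, t)` or is invertible modulo the maximal
ideal of a local ring receiving `R[X]` in which `g` and `t` become non-units. -/
theorem bezout_alt {W' : Type u} [CommRing W'] [IsLocalRing W'] (E : R[X] →+* W')
    (hEt : E (C t) ∈ maximalIdeal W') (g : R[X]) (hg : g.Monic)
    (hgirr : Irreducible (g.map (residue R))) (hEg : E g ∈ maximalIdeal W') (q : R[X]) :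
    q ∈ Ideal.span {g, C t} ∨ ∃ a : R[X], E a * E q - 1 ∈ maximalIdeal W' := by
  obtain ⟨r, d, hq, hrdeg⟩ : ∃ r d : R[X], r + g * d = q ∧ degree r < degree g :=
    ⟨q %ₘ g, q /ₘ g, modByMonic_add_div q g, degree_modByMonic_lt q hg⟩
  by_cases hr : r.map (residue R) = 0
  · left
    obtain ⟨c, hc⟩ := exists_eq_C_mul_of_map_eq_zero t ht _ hr
    rw [Ideal.mem_span_pair]
    refine ⟨d, c, ?_⟩
    rw [← hq, hc]; ring
  · right
    have hdeg : degree (r.map (residue R)) < degree (g.map (residue R)) := by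
      rw [hg.degree_map]
      exact lt_of_le_of_lt degree_map_le hrdeg
    have hndvd : ¬ g.map (residue R) ∣ r.map (residue R) := by
      intro hd
      exact absurd (degree_le_of_dvd hd hr) (not_le.mpr hdeg)
    obtain ⟨a, b, hab⟩ := (hgirr.coprime_iff_not_dvd).mpr hndvd
    obtain ⟨a', rfl⟩ := map_surjective (residue R) residue_surjective a
    obtain ⟨b', rfl⟩ := map_surjective (residue R) residue_surjective b
    have h0 : (a' * g + b' * r - 1).map (residue R) = 0 := by
      rw [Polynomial.map_sub, Polynomial.map_add, Polynomial.map_mul, Polynomial.map_mul,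
        Polynomial.map_one, hab, sub_self]
    obtain ⟨c, hc⟩ := exists_eq_C_mul_of_map_eq_zero t ht _ h0
    refine ⟨b', ?_⟩
    have h2 : E (a' * g + b' * r - 1) = E (C t * c) := by rw [hc]
    simp only [map_add, map_sub, map_mul, map_one] at h2
    have h1 : E b' * E q - 1 = E (C t) * E c - E a' * E g + E b' * E g * E d := by
      rw [← hq]
      simp only [map_add, map_mul]
      linear_combination h2
    rw [h1]
    refine Ideal.add_mem _ (Ideal.sub_mem _ (Ideal.mul_mem_right _ _ hEt)
      (Ideal.mul_mem_left _ _ hEg)) ?_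
    exact Ideal.mul_mem_right _ _ (Ideal.mul_mem_left _ _ hEg)

end bz


theorem local_structure {R : Type u} [CommRing R] [IsLocalRing R] [IsNoetherianRing R]
    (t : R) (ht : maximalIdeal R = Ideal.span {t})
    {Ω : Type u} [Field Ω] (W : ValuationSubring Ω) (φ : R →+* Ω) (hφW : ∀ r, φ r ∈ W)
    (hφt : W.valuation (φ t) < 1) (f : R[X]) (hf : f.Monic)
    (ζ : Ω) (hζ : eval₂ φ ζ f = 0)
    (hgen : Subfield.closure (Set.range φ ∪ {ζ}) = ⊤)
    (g h : R[X]) (hg : g.Monic) (hgirr : Irreducible (g.map (residue R)))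
    (hfgh : f.map (residue R) = g.map (residue R) * h.map (residue R))
    (hgζ : W.valuation (eval₂ φ ζ g) < 1) (hhζ : ¬ W.valuation (eval₂ φ ζ h) < 1) :
    (∀ x ∈ W, ∃ q : R[X], W.valuation (x - eval₂ φ ζ q) < 1) ∧
      (∀ x ∈ W, W.valuation x < 1 → ∃ y ∈ W, x = φ t * y) := by
  classical
  haveI : IsNoetherianRing (AdjoinRoot f) := Algebra.FiniteType.isNoetherianRing R (AdjoinRoot f)
  have hζW : ζ ∈ W := mem_of_eval₂_eq_zero W φ hφW f hf ζ hζ
  let ψ₀ : AdjoinRoot f →+* Ω := AdjoinRoot.lift φ ζ hζ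
  have hψ₀of : ∀ r, ψ₀ (AdjoinRoot.of f r) = φ r := fun r => AdjoinRoot.lift_of hζ
  have hψ₀mk : ∀ q : R[X], ψ₀ (AdjoinRoot.mk f q) = eval₂ φ ζ q := fun q => AdjoinRoot.lift_mk hζ q
  have hψ₀W : ∀ s, ψ₀ s ∈ W := by
    intro s
    induction s using AdjoinRoot.induction_on with
    | ih h => rw [hψ₀mk]; exact eval₂_mem W φ hφW ζ hζW h
  let ψ : AdjoinRoot f →+* W := RingHom.codRestrict ψ₀ W hψ₀W
  have hψ : ∀ s, ((ψ s : W) : Ω) = ψ₀ s := fun s => rfl
  let E : R[X] →+* W := ψ.comp (AdjoinRoot.mk f)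
  have hE : ∀ q, ((E q : W) : Ω) = eval₂ φ ζ q := fun q => hψ₀mk q
  have hEψ : ∀ q, E q = ψ (AdjoinRoot.mk f q) := fun q => rfl
  have hEt : E (C t) ∈ maximalIdeal W := by
    rw [ValuationSubring.valuation_lt_one_iff, hE, eval₂_C]; exact hφt
  have hEg : E g ∈ maximalIdeal W := by
    rw [ValuationSubring.valuation_lt_one_iff, hE]; exact hgζ
  have hEh : E h ∉ maximalIdeal W := by
    rw [ValuationSubring.valuation_lt_one_iff, hE]; exact hhζ
  have hspan : ∀ q : R[X], q ∈ Ideal.span {g, C t} → E q ∈ maximalIdeal W := by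
    intro q hq
    rw [Ideal.mem_span_pair] at hq
    obtain ⟨c, d, rfl⟩ := hq
    rw [map_add, map_mul, map_mul]
    exact Ideal.add_mem _ (Ideal.mul_mem_left _ _ hEg) (Ideal.mul_mem_left _ _ hEt)
  -- the prime
  obtain ⟨n, hn⟩ : ∃ n : Ideal (AdjoinRoot f), n = (maximalIdeal W).comap ψ := ⟨_, rfl⟩
  haveI hnp : n.IsPrime := by rw [hn]; exact Ideal.comap_isPrime ψ _
  have hmemn : ∀ s, s ∈ n ↔ ψ s ∈ maximalIdeal W := fun s => by rw [hn, Ideal.mem_comap]
  haveI : IsNoetherianRing (Localization.AtPrime n) :=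
    IsLocalization.isNoetherianRing n.primeCompl _ inferInstance
  have hunit : ∀ y : n.primeCompl, IsUnit (ψ y) := by
    intro y
    have h1 : ¬ ψ y ∈ maximalIdeal W := fun h1 => y.2 ((hmemn _).mpr h1)
    rw [mem_maximalIdeal, mem_nonunits_iff, not_not] at h1
    exact h1
  let ψ' : Localization.AtPrime n →+* W := IsLocalization.lift hunit
  have hψ' : ∀ s, ψ' (algebraMap (AdjoinRoot f) (Localization.AtPrime n) s) = ψ s :=
    IsLocalization.lift_eq hunit
  -- `g` is a multiple of `t` in the localization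
  have hgS : algebraMap (AdjoinRoot f) (Localization.AtPrime n) (AdjoinRoot.mk f g) ∈
      Ideal.span {algebraMap (AdjoinRoot f) (Localization.AtPrime n) (AdjoinRoot.of f t)} := by
    have h0 : (f - g * h).map (residue R) = 0 := by
      rw [Polynomial.map_sub, Polynomial.map_mul, hfgh, sub_self]
    obtain ⟨c, hc⟩ := exists_eq_C_mul_of_map_eq_zero t ht _ h0
    have h1 : AdjoinRoot.mk f g * AdjoinRoot.mk f h = - (AdjoinRoot.of f t * AdjoinRoot.mk f c) := by
      have h2 := congrArg (AdjoinRoot.mk f) hc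
      rw [map_sub, AdjoinRoot.mk_self, map_mul, map_mul, AdjoinRoot.mk_C] at h2
      linear_combination -h2
    have hhn : AdjoinRoot.mk f h ∈ n.primeCompl := fun hmem => hEh ((hmemn _).mp hmem)
    have hu : IsUnit (algebraMap (AdjoinRoot f) (Localization.AtPrime n) (AdjoinRoot.mk f h)) :=
      IsLocalization.map_units (Localization.AtPrime n) (⟨_, hhn⟩ : n.primeCompl)
    obtain ⟨u, hu⟩ := hu
    rw [Ideal.mem_span_singleton']
    refine ⟨- (algebraMap _ _ (AdjoinRoot.mk f c)) * (u⁻¹ : (Localization.AtPrime n)ˣ), ?_⟩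
    have h3 := congrArg (algebraMap (AdjoinRoot f) (Localization.AtPrime n)) h1
    rw [map_mul, map_neg, map_mul, ← hu] at h3
    have h4 : algebraMap (AdjoinRoot f) (Localization.AtPrime n) (AdjoinRoot.mk f g) =
        algebraMap (AdjoinRoot f) (Localization.AtPrime n) (AdjoinRoot.mk f g) * (u : Localization.AtPrime n) *
          ((u⁻¹ : (Localization.AtPrime n)ˣ) : Localization.AtPrime n) := by
      rw [mul_assoc, Units.mul_inv, mul_one]
    rw [h4, h3]; ring
  have hmaxS : maximalIdeal (Localization.AtPrime n) =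
      Ideal.span {algebraMap (AdjoinRoot f) (Localization.AtPrime n) (AdjoinRoot.of f t)} := by
    rw [← Localization.AtPrime.map_eq_maximalIdeal]
    apply le_antisymm
    · rw [Ideal.map_le_iff_le_comap]
      intro s hs
      induction s using AdjoinRoot.induction_on with
      | ih q =>
        have hq : E q ∈ maximalIdeal W := (hmemn _).mp hs
        rcases bezout_alt t ht E hEt g hg hgirr hEg q with h1 | ⟨a, ha⟩
        · rw [Ideal.mem_span_pair] at h1
          obtain ⟨c, d, hcd⟩ := h1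
          rw [Ideal.mem_comap, ← hcd, map_add, map_mul, map_mul, map_add, map_mul, map_mul,
            AdjoinRoot.mk_C]
          exact Ideal.add_mem _ (Ideal.mul_mem_left _ _ hgS)
            (Ideal.mul_mem_left _ _ (Ideal.subset_span rfl))
        · exfalso
          have h1 : (1 : W) ∈ maximalIdeal W := by
            have h2 : (1 : W) = E a * E q - (E a * E q - 1) := by ring
            rw [h2]
            exact Ideal.sub_mem _ (Ideal.mul_mem_left _ _ hq) ha
          exact (Ideal.ne_top_iff_one _).mp (maximalIdeal.isMaximal W).ne_top h1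
    · rw [Ideal.span_le, Set.singleton_subset_iff]
      apply Ideal.mem_map_of_mem
      rw [hmemn, ← AdjoinRoot.mk_C]
      exact hEt
  have hlt : W.valuation ((ψ' (algebraMap (AdjoinRoot f) (Localization.AtPrime n)
      (AdjoinRoot.of f t)) : W) : Ω) < 1 := by
    rw [hψ', hψ, hψ₀of]; exact hφt
  have hfrac : ∀ x : Ω, ∃ a b : Localization.AtPrime n, ((ψ' b : W) : Ω) ≠ 0 ∧
      x * ((ψ' b : W) : Ω) = ((ψ' a : W) : Ω) := by
    intro x
    obtain ⟨a, b, hb, hab⟩ := exists_frac_of_closure φ ζ hgen x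
    refine ⟨algebraMap _ _ (AdjoinRoot.mk f a), algebraMap _ _ (AdjoinRoot.mk f b), ?_, ?_⟩
    · rw [hψ', hψ, hψ₀mk]; exact hb
    · rw [hψ', hψ', hψ, hψ, hψ₀mk, hψ₀mk]; exact hab
  have hsurj : Function.Surjective ψ' :=
    core_surjective _ hmaxS W ψ' hlt hfrac
  refine ⟨?_, ?_⟩
  · intro x hxW
    obtain ⟨s, hs⟩ := hsurj ⟨x, hxW⟩
    obtain ⟨⟨a, b⟩, hab⟩ := IsLocalization.mk'_surjective n.primeCompl s
    simp only at hab
    have h1 : s * algebraMap (AdjoinRoot f) (Localization.AtPrime n) (b : AdjoinRoot f) =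
        algebraMap (AdjoinRoot f) (Localization.AtPrime n) a := by
      rw [← hab]; exact IsLocalization.mk'_spec _ a b
    have h2 : (⟨x, hxW⟩ : W) * ψ (b : AdjoinRoot f) = ψ a := by
      have := congrArg ψ' h1
      rw [map_mul, hψ', hψ', hs] at this
      exact this
    obtain ⟨qa, hqa⟩ := AdjoinRoot.mk_surjective a
    obtain ⟨qb, hqb⟩ := AdjoinRoot.mk_surjective (b : AdjoinRoot f)
    have hbn : ¬ E qb ∈ maximalIdeal W := by
      intro hmem
      apply b.2
      rw [SetLike.mem_coe, hmemn, ← hqb]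
      exact hmem
    rcases bezout_alt t ht E hEt g hg hgirr hEg qb with h3 | ⟨a', ha'⟩
    · exact absurd (hspan _ h3) hbn
    · refine ⟨a' * qa, ?_⟩
      have h4 : (⟨x, hxW⟩ : W) - E (a' * qa) = - ((⟨x, hxW⟩ : W) * (E a' * E qb - 1)) := by
        rw [map_mul, hEψ qa, hqa, ← h2, hEψ qb, hqb]; ring
      have h5 : (⟨x, hxW⟩ : W) - E (a' * qa) ∈ maximalIdeal W := by
        rw [h4]
        exact (Ideal.neg_mem_iff _).mpr (Ideal.mul_mem_left _ _ ha')
      rw [ValuationSubring.valuation_lt_one_iff] at h5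
      have h6 : (((⟨x, hxW⟩ : W) - E (a' * qa) : W) : Ω) = x - eval₂ φ ζ (a' * qa) := by
        rw [← hE]; rfl
      rw [h6] at h5
      exact h5
  · intro x hxW hxv
    obtain ⟨s, hs⟩ := hsurj ⟨x, hxW⟩
    have hsm : s ∈ maximalIdeal (Localization.AtPrime n) := by
      rw [mem_maximalIdeal]
      intro hu
      have h1 : IsUnit (⟨x, hxW⟩ : W) := hs ▸ hu.map ψ'
      have h2 : (⟨x, hxW⟩ : W) ∈ maximalIdeal W := by
        rw [ValuationSubring.valuation_lt_one_iff]; exact hxv
      exact ((mem_maximalIdeal _).mp h2) h1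
    rw [hmaxS] at hsm
    obtain ⟨s', rfl⟩ := Ideal.mem_span_singleton'.mp hsm
    refine ⟨(ψ' s' : W), (ψ' s').2, ?_⟩
    have h1 := congrArg (fun w : W => (w : Ω)) hs
    simp only at h1
    rw [← h1, map_mul, hψ', MulMemClass.coe_mul, hψ, hψ₀of, mul_comm]


/-- The squarefree case: if the reduction of `f` is squarefree, then every valuation subring `W`
as above is weakly unramified over `R` with residue field generated by `ζ`. -/
theorem local_structure_of_squarefree {R : Type u} [CommRing R] [IsLocalRing R]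
    [IsNoetherianRing R] (t : R) (ht : maximalIdeal R = Ideal.span {t})
    {Ω : Type u} [Field Ω] (W : ValuationSubring Ω) (φ : R →+* Ω) (hφW : ∀ r, φ r ∈ W)
    (hφt : W.valuation (φ t) < 1) (f : R[X]) (hf : f.Monic)
    (hsq : Squarefree (f.map (residue R)))
    (ζ : Ω) (hζ : eval₂ φ ζ f = 0)
    (hgen : Subfield.closure (Set.range φ ∪ {ζ}) = ⊤) :
    (∀ x ∈ W, ∃ q : R[X], W.valuation (x - eval₂ φ ζ q) < 1) ∧
      (∀ x ∈ W, W.valuation x < 1 → ∃ y ∈ W, x = φ t * y) := by
  classical
  have hζW : ζ ∈ W := mem_of_eval₂_eq_zero W φ hφW f hf ζ hζ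
  let E : R[X] →+* W := RingHom.codRestrict (eval₂RingHom φ ζ) W
    (fun q => eval₂_mem W φ hφW ζ hζW q)
  have hE : ∀ q, ((E q : W) : Ω) = eval₂ φ ζ q := fun q => rfl
  obtain ⟨n', hn'⟩ : ∃ n' : Ideal R[X], n' = (maximalIdeal W).comap E := ⟨_, rfl⟩
  haveI hn'p : n'.IsPrime := by rw [hn']; exact Ideal.comap_isPrime E _
  have hmem : ∀ q, q ∈ n' ↔ W.valuation (eval₂ φ ζ q) < 1 := by
    intro q
    rw [hn', Ideal.mem_comap, ValuationSubring.valuation_lt_one_iff, hE]
  have hker : RingHom.ker (mapRingHom (residue R)) ≤ n' := by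
    intro q hq
    obtain ⟨c, rfl⟩ := exists_eq_C_mul_of_map_eq_zero t ht q hq
    rw [hmem, eval₂_mul, eval₂_C]
    have h1 : W.valuation (eval₂ φ ζ c) ≤ 1 :=
      (ValuationSubring.valuation_le_one_iff W _).mpr (eval₂_mem W φ hφW ζ hζW c)
    rw [map_mul]
    exact mul_lt_one_of_lt_of_le hφt h1
  have hsurj : Function.Surjective (mapRingHom (residue R)) :=
    map_surjective (residue R) residue_surjective
  haveI hnbar : (n'.map (mapRingHom (residue R))).IsPrime :=
    Ideal.map_isPrime_of_surjective hsurj hker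
  have hfn' : f ∈ n' := by
    rw [hmem, hζ, map_zero]; exact zero_lt_one
  have hfbar : f.map (residue R) ∈ n'.map (mapRingHom (residue R)) :=
    Ideal.mem_map_of_mem (mapRingHom (residue R)) hfn'
  have hfbar0 : f.map (residue R) ≠ 0 := (hf.map _).ne_zero
  -- a generator
  obtain ⟨g₀, hg₀⟩ : ∃ g₀, n'.map (mapRingHom (residue R)) = Ideal.span {g₀} :=
    ⟨_, (Submodule.IsPrincipal.span_singleton_generator _).symm⟩
  have hg₀0 : g₀ ≠ 0 := by
    rintro rfl
    rw [hg₀, Ideal.mem_span_singleton, zero_dvd_iff] at hfbar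
    exact hfbar0 hfbar
  have hg₀prime : Prime g₀ := by
    rw [← Ideal.span_singleton_prime hg₀0, ← hg₀]; exact hnbar
  have hassoc : Associated (normalize g₀) g₀ := normalize_associated g₀
  have hgbar_irr : Irreducible (normalize g₀) := hassoc.symm.irreducible hg₀prime.irreducible
  have hgbar_monic : (normalize g₀).Monic := monic_normalize hg₀0
  have hspan : n'.map (mapRingHom (residue R)) = Ideal.span {normalize g₀} := by
    rw [hg₀]; exact (Ideal.span_singleton_eq_span_singleton.mpr hassoc).symm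
  -- monic lift
  obtain ⟨g, hgmap, -, hgmonic⟩ := lifts_and_degree_eq_and_monic
    ((mem_lifts _).mpr (map_surjective (residue R) residue_surjective (normalize g₀))) hgbar_monic
  have hgn' : g ∈ n' := by
    have h1 : normalize g₀ ∈ n'.map (mapRingHom (residue R)) := by
      rw [hspan]; exact Ideal.subset_span rfl
    rw [Ideal.mem_map_iff_of_surjective _ hsurj] at h1
    obtain ⟨g₁, hg₁, hg₁map⟩ := h1
    have h2 : g - g₁ ∈ RingHom.ker (mapRingHom (residue R)) := by
      rw [coe_mapRingHom] at hg₁map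
      rw [RingHom.mem_ker, map_sub, coe_mapRingHom, hgmap, hg₁map, sub_self]
    have h3 := Ideal.add_mem _ (hker h2) hg₁
    rwa [sub_add_cancel] at h3
  -- the cofactor
  have hdvd : normalize g₀ ∣ f.map (residue R) := by
    rw [← Ideal.mem_span_singleton, ← hspan]; exact hfbar
  obtain ⟨hbar, hhbar⟩ := hdvd
  obtain ⟨h, rfl⟩ := map_surjective (residue R) residue_surjective hbar
  have hhn' : h ∉ n' := by
    intro hmem'
    have h1 : h.map (residue R) ∈ n'.map (mapRingHom (residue R)) :=
      Ideal.mem_map_of_mem (mapRingHom (residue R)) hmem'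
    rw [hspan, Ideal.mem_span_singleton] at h1
    have h2 : normalize g₀ * normalize g₀ ∣ f.map (residue R) := by
      rw [hhbar]; exact mul_dvd_mul_left _ h1
    exact hgbar_irr.not_isUnit (hsq _ h2)
  refine local_structure t ht W φ hφW hφt f hf ζ hζ hgen g h hgmonic ?_ ?_ ?_ ?_
  · rw [hgmap]; exact hgbar_irr
  · rw [hgmap]; exact hhbar
  · exact (hmem g).mp hgn'
  · exact fun hlt => hhn' ((hmem h).mpr hlt)

end Groth.Agent.Lib.MonoLocH8
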