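import Mathlib
import Groth.Prelude.Def_EtRam

set_option autoImplicit false
universe u

namespace DvrExtH8

open IsLocalRing

section dvr

variable {A K : Type u} [CommRing A] [IsDomain A] [IsDiscreteValuationRing A] [Field K]
  [Algebra A K] [IsFractionRing A K] {L : Type u} [Field L] [Algebra K L]

/-- The composite `A → K → L` is injective. -/
theorem comp_injective :
    Function.Injective ((algebraMap K L).comp (algebraMap A K)) :=
  (algebraMap K L).injective.comp (IsFractionRing.injective A K)

/-- A valuation subring dominating a DVR is not the whole field. -/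
theorem ne_top_of_dominates (V : ValuationSubring L)
    (h : EtRam.Dominates A ((algebraMap K L).comp (algebraMap A K)) V) : V ≠ ⊤ := by
  intro hV
  obtain ⟨a, ha, ha0⟩ := Submodule.exists_mem_ne_zero_of_ne_bot (IsDiscreteValuationRing.not_a_field A)
  have h1 := h.2 a ha
  have h2 : ((algebraMap K L).comp (algebraMap A K)) a ∈ V.nonunits := (V.mem_nonunits_iff).mpr h1
  rw [V.mem_nonunits_iff_or] at h2
  rcases h2 with h2 | h2
  · exact ha0 (comp_injective (A := A) (K := K) (L := L) (by rw [h2, map_zero]))
  · exact h2 (hV ▸ ValuationSubring.mem_top _)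


/-- A valuation subring of a finite separable extension of `Frac A` dominating the DVR `A`
is itself a DVR. -/
theorem isDVR_of_dominates [FiniteDimensional K L] [Algebra.IsSeparable K L]
    (V : ValuationSubring L)
    (h : EtRam.Dominates A ((algebraMap K L).comp (algebraMap A K)) V) :
    IsDiscreteValuationRing V := by
  letI : Algebra A L := ((algebraMap K L).comp (algebraMap A K)).toAlgebra
  haveI : IsScalarTower A K L := IsScalarTower.of_algebraMap_eq (fun _ => rfl)
  letI : Algebra A V := (RingHom.codRestrict ((algebraMap K L).comp (algebraMap A K)) V h.1).toAlgebra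
  haveI : IsScalarTower A V L := IsScalarTower.of_algebraMap_eq (fun _ => rfl)
  have hBV : (integralClosure A L).toSubring ≤ V.toSubring := by
    intro x hx
    have hx' : IsIntegral A x := hx
    have hx'' : IsIntegral V x := hx'.tower_top
    obtain ⟨y, hy⟩ := IsIntegrallyClosed.algebraMap_eq_of_integral hx''
    rw [← hy]
    exact y.2
  obtain ⟨B, hB⟩ : ∃ B : Subring L, B = (integralClosure A L).toSubring := ⟨_, rfl⟩
  haveI : IsDedekindDomain B := by
    rw [hB]
    exact integralClosure.isDedekindDomain A K L
  haveI : IsFractionRing B L := by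
    rw [hB]
    exact integralClosure.isFractionRing_of_finite_extension K L
  rw [← hB] at hBV
  let ι : B →+* V := (B.subtype).codRestrict V (fun x => hBV x.2)
  let P : Ideal B := (maximalIdeal V).comap ι
  haveI : P.IsPrime := Ideal.comap_isPrime _ _
  have hP : P ≠ ⊥ := by
    obtain ⟨a, ha, ha0⟩ := Submodule.exists_mem_ne_zero_of_ne_bot
      (IsDiscreteValuationRing.not_a_field A)
    have hmem : algebraMap A L a ∈ B := by
      rw [hB]
      exact (integralClosure A L).algebraMap_mem a
    intro hbot
    have h1 : (⟨algebraMap A L a, hmem⟩ : B) ∈ P := by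
      show ι ⟨algebraMap A L a, hmem⟩ ∈ maximalIdeal V
      rw [ValuationSubring.valuation_lt_one_iff]
      exact h.2 a ha
    rw [hbot, Ideal.mem_bot] at h1
    have h2 : algebraMap A L a = 0 := congrArg Subtype.val h1
    exact ha0 (comp_injective (A := A) (K := K) (L := L) (by rw [map_zero]; exact h2))
  let R := LocalSubring.ofPrime B P
  haveI : IsDiscreteValuationRing R.toSubring :=
    IsLocalization.AtPrime.isDiscreteValuationRing_of_dedekind_domain B hP R.toSubring
  have hRV : R.toSubring ≤ V.toSubring := by
    rintro x ⟨y, rfl⟩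
    obtain ⟨b, s, rfl⟩ := IsLocalization.exists_mk'_eq P.primeCompl y
    have hs : ι s.1 ∉ maximalIdeal V := s.2
    have hsu : IsUnit (ι s.1) := by
      by_contra hns
      exact hs ((mem_maximalIdeal _).mpr hns)
    obtain ⟨t, ht⟩ := hsu.exists_right_inv
    have ht' : (s.1 : L) * (t : L) = 1 := congrArg Subtype.val ht
    have hspec : (IsLocalization.lift (M := P.primeCompl) (S := Localization.AtPrime P)
        (g := B.subtype) (by simp [Ideal.primeCompl, not_imp_not])) (IsLocalization.mk' _ b s)
          = (b : L) * (t : L) := by
      rw [IsLocalization.lift_mk'_spec]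
      simp only [Subring.subtype_apply]
      rw [mul_comm (b : L), ← mul_assoc, ht', one_mul]
    show _ ∈ V
    refine hspec ▸ V.mul_mem _ _ (hBV b.2) t.2
  -- `R` as a valuation subring
  haveI : IsFractionRing R.toSubring L :=
    IsFractionRing.isFractionRing_of_isDomain_of_isLocalization P.primeCompl R.toSubring L
  let R' : ValuationSubring L := ValuationSubring.ofSubring R.toSubring (fun x => by
    rcases ValuationRing.isInteger_or_isInteger R.toSubring x with ⟨y, hy⟩ | ⟨y, hy⟩
    · exact Or.inl (hy ▸ y.2)
    · exact Or.inr (hy ▸ y.2))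
  haveI : IsDiscreteValuationRing R' := ‹IsDiscreteValuationRing R.toSubring›
  haveI : Ring.KrullDimLE 1 R' := inferInstance
  have hle : R' ≤ V := hRV
  have heq : R' = V := ValuationSubring.eq_of_le_of_ne_top _ hle (ne_top_of_dominates V h)
  rw [← heq]
  infer_instance

end dvr

end DvrExtH8
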