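import Mathlib
import Groth.Prelude.Def_EtRam

set_option autoImplicit false
universe u

namespace DvrExtH8

open IsLocalRing

section dom

variable {A : Type u} [CommRing A] [IsLocalRing A] {L M : Type u} [Field L] [Field M]

/-- Domination gives a local homomorphism. -/
theorem isLocalHom_of_dominates (g : A →+* L) (V : ValuationSubring L)
    (h : EtRam.Dominates A g V) : IsLocalHom (RingHom.codRestrict g V h.1) := by
  constructor
  intro a ha
  by_contra hna
  have h1 : a ∈ maximalIdeal A := (mem_maximalIdeal a).mpr hna
  have h2 := h.2 a h1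
  have h3 : V.valuation ((RingHom.codRestrict g V h.1 a : V) : L) = 1 :=
    (V.valuation_eq_one_iff _).mp ha
  have h4 : ((RingHom.codRestrict g V h.1 a : V) : L) = g a := rfl
  rw [h4] at h3
  rw [h3] at h2
  exact lt_irrefl _ h2

/-- Every valuation subring of `L` extends to a valuation subring of an extension field `M`,
with a local inclusion. -/
theorem exists_extension (f : L →+* M) (V : ValuationSubring L) :
    ∃ (W : ValuationSubring M) (hW : ∀ x : V, (f.comp V.subtype) x ∈ W),
      IsLocalHom (RingHom.codRestrict (f.comp V.subtype) W hW) := by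
  obtain ⟨W, hW, hloc⟩ := IsLocalRing.exists_factor_valuationRing (f.comp V.subtype)
  exact ⟨W, hW, hloc⟩

/-- Domination is transitive. -/
theorem dominates_comp (g : A →+* L) (V : ValuationSubring L) (h : EtRam.Dominates A g V)
    (f : L →+* M) (W : ValuationSubring M) (hW : ∀ x : V, (f.comp V.subtype) x ∈ W)
    (hloc : IsLocalHom (RingHom.codRestrict (f.comp V.subtype) W hW))
    (g' : A →+* M) (hg : ∀ a, g' a = f (g a)) : EtRam.Dominates A g' W := by
  refine ⟨fun a => ?_, fun a ha => ?_⟩
  · rw [hg]
    exact hW ⟨g a, h.1 a⟩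
  · have h1 : (⟨g a, h.1 a⟩ : V) ∈ maximalIdeal V := by
      rw [ValuationSubring.valuation_lt_one_iff]
      exact h.2 a ha
    have h2 : RingHom.codRestrict (f.comp V.subtype) W hW ⟨g a, h.1 a⟩ ∈ maximalIdeal W := by
      rw [mem_maximalIdeal] at h1 ⊢
      intro hu
      exact h1 (hloc.map_nonunit _ hu)
    rw [ValuationSubring.valuation_lt_one_iff] at h2
    rw [hg]
    exact h2

end dom

end DvrExtH8
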