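import Mathlib
import Groth.Prelude.Def_EtRam

set_option autoImplicit false
universe u

namespace DvrExtH8

open IsLocalRing

section comap

variable {L M : Type u} [Field L] [Field M]

theorem comap_valuation_lt_one_iff (f : L →+* M) (W : ValuationSubring M) (x : L) :
    (W.comap f).valuation x < 1 ↔ W.valuation (f x) < 1 := by
  rw [← ValuationSubring.mem_nonunits_iff, ← ValuationSubring.mem_nonunits_iff,
    ValuationSubring.mem_nonunits_iff_or, ValuationSubring.mem_nonunits_iff_or,
    ValuationSubring.mem_comap, map_inv₀, map_eq_zero]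

/-- `W` dominates `W ∩ L`. -/
theorem dominates_comap (f : L →+* M) (W : ValuationSubring M) :
    EtRam.Dominates (W.comap f) (f.comp (W.comap f).subtype) W := by
  refine ⟨fun x => x.2, fun x hx => ?_⟩
  rw [ValuationSubring.valuation_lt_one_iff, comap_valuation_lt_one_iff] at hx
  exact hx

variable {A : Type u} [CommRing A] [IsLocalRing A]

/-- If `W` dominates `A` then so does `W ∩ L`. -/
theorem dominates_of_comap (g : A →+* L) (f : L →+* M) (W : ValuationSubring M)
    (g' : A →+* M) (hg : ∀ a, g' a = f (g a)) (h : EtRam.Dominates A g' W) :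
    EtRam.Dominates A g (W.comap f) := by
  refine ⟨fun a => ?_, fun a ha => ?_⟩
  · rw [ValuationSubring.mem_comap, ← hg]
    exact h.1 a
  · rw [comap_valuation_lt_one_iff, ← hg]
    exact h.2 a ha

end comap

section wu

variable {A V W : Type u} [CommRing A] [IsLocalRing A] [CommRing V] [IsLocalRing V]
  [CommRing W] [IsLocalRing W] [Algebra A V] [Algebra V W] [Algebra A W] [IsScalarTower A V W]

theorem isWeaklyUnramified_trans (h1 : EtRam.IsWeaklyUnramified A V)
    (h2 : EtRam.IsWeaklyUnramified V W) : EtRam.IsWeaklyUnramified A W := by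
  unfold EtRam.IsWeaklyUnramified at *
  rw [IsScalarTower.algebraMap_eq A V W, ← Ideal.map_map, h1, h2]

end wu

end DvrExtH8
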