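import Mathlib
import Groth.Agent.Lib.DvrExt1_helper8

set_option autoImplicit false
universe u

namespace DvrExtH8

open IsLocalRing

section dvr

variable {A K : Type u} [CommRing A] [IsDomain A] [IsDiscreteValuationRing A] [Field K]
  [Algebra A K] [IsFractionRing A K] {L : Type u} [Field L] [Algebra K L]
  [Algebra A L] [IsScalarTower A K L]

/-- Every element of a valuation subring dominating the DVR `A` (in a finite separable extension)
is a quotient of two integral elements with unit denominator. -/
theorem exists_integral_frac [FiniteDimensional K L] [Algebra.IsSeparable K L]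
    (V : ValuationSubring L)
    (h : EtRam.Dominates A (algebraMap A L) V) (x : L) (hx : x ∈ V) :
    ∃ c s : L, IsIntegral A c ∧ IsIntegral A s ∧ V.valuation s = 1 ∧ x * s = c := by
  have halg : algebraMap A L = (algebraMap K L).comp (algebraMap A K) :=
    IsScalarTower.algebraMap_eq A K L
  have h' : EtRam.Dominates A ((algebraMap K L).comp (algebraMap A K)) V := halg ▸ h
  letI : Algebra A V := (RingHom.codRestrict (algebraMap A L) V h.1).toAlgebra
  haveI : IsScalarTower A V L := IsScalarTower.of_algebraMap_eq (fun _ => rfl)
  have hBV : (integralClosure A L).toSubring ≤ V.toSubring := by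
    intro x hx
    have hx' : IsIntegral A x := hx
    have hx'' : IsIntegral V x := hx'.tower_top
    obtain ⟨y, hy⟩ := IsIntegrallyClosed.algebraMap_eq_of_integral hx''
    rw [← hy]
    exact y.2
  obtain ⟨B, hB⟩ : ∃ B : Subring L, B = (integralClosure A L).toSubring := ⟨_, rfl⟩
  haveI : IsDedekindDomain B := by
    rw [hB]
    exact integralClosure.isDedekindDomain A K L
  haveI : IsFractionRing B L := by
    rw [hB]
    exact integralClosure.isFractionRing_of_finite_extension K L
  have hBint : ∀ x ∈ B, IsIntegral A x := by
    intro x hx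
    rw [hB] at hx
    exact hx
  rw [← hB] at hBV
  let ι : B →+* V := (B.subtype).codRestrict V (fun x => hBV x.2)
  let P : Ideal B := (maximalIdeal V).comap ι
  haveI : P.IsPrime := Ideal.comap_isPrime _ _
  have hP : P ≠ ⊥ := by
    obtain ⟨a, ha, ha0⟩ := Submodule.exists_mem_ne_zero_of_ne_bot
      (IsDiscreteValuationRing.not_a_field A)
    have hmem : algebraMap A L a ∈ B := by
      rw [hB]
      exact (integralClosure A L).algebraMap_mem a
    intro hbot
    have h1 : (⟨algebraMap A L a, hmem⟩ : B) ∈ P := by
      show ι ⟨algebraMap A L a, hmem⟩ ∈ maximalIdeal V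
      rw [ValuationSubring.valuation_lt_one_iff]
      exact h.2 a ha
    rw [hbot, Ideal.mem_bot] at h1
    have h2 : algebraMap A L a = 0 := congrArg Subtype.val h1
    rw [halg] at h2
    exact ha0 (comp_injective (A := A) (K := K) (L := L) (by rw [map_zero]; exact h2))
  let R := LocalSubring.ofPrime B P
  haveI : IsDiscreteValuationRing R.toSubring :=
    IsLocalization.AtPrime.isDiscreteValuationRing_of_dedekind_domain B hP R.toSubring
  have hRV : R.toSubring ≤ V.toSubring := by
    rintro x ⟨y, rfl⟩
    obtain ⟨b, s, rfl⟩ := IsLocalization.exists_mk'_eq P.primeCompl y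
    have hs : ι s.1 ∉ maximalIdeal V := s.2
    have hsu : IsUnit (ι s.1) := by
      by_contra hns
      exact hs ((mem_maximalIdeal _).mpr hns)
    obtain ⟨t, ht⟩ := hsu.exists_right_inv
    have ht' : (s.1 : L) * (t : L) = 1 := congrArg Subtype.val ht
    have hspec : (IsLocalization.lift (M := P.primeCompl) (S := Localization.AtPrime P)
        (g := B.subtype) (by simp [Ideal.primeCompl, not_imp_not])) (IsLocalization.mk' _ b s)
          = (b : L) * (t : L) := by
      rw [IsLocalization.lift_mk'_spec]
      simp only [Subring.subtype_apply]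
      rw [mul_comm (b : L), ← mul_assoc, ht', one_mul]
    show _ ∈ V
    refine hspec ▸ V.mul_mem _ _ (hBV b.2) t.2
  -- `R` as a valuation subring
  haveI : IsFractionRing R.toSubring L :=
    IsFractionRing.isFractionRing_of_isDomain_of_isLocalization P.primeCompl R.toSubring L
  let R' : ValuationSubring L := ValuationSubring.ofSubring R.toSubring (fun x => by
    rcases ValuationRing.isInteger_or_isInteger R.toSubring x with ⟨y, hy⟩ | ⟨y, hy⟩
    · exact Or.inl (hy ▸ y.2)
    · exact Or.inr (hy ▸ y.2))
  haveI : IsDiscreteValuationRing R' := ‹IsDiscreteValuationRing R.toSubring›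
  haveI : Ring.KrullDimLE 1 R' := inferInstance
  have hle : R' ≤ V := hRV
  have heq : R' = V := ValuationSubring.eq_of_le_of_ne_top _ hle (ne_top_of_dominates V h')
  have hxR : x ∈ R.toSubring := by
    have : x ∈ R' := heq ▸ hx
    exact this
  obtain ⟨y, rfl⟩ := hxR
  obtain ⟨b, s, rfl⟩ := IsLocalization.exists_mk'_eq P.primeCompl y
  have hs : ι s.1 ∉ maximalIdeal V := s.2
  refine ⟨(b : L), (s.1 : L), hBint _ b.2, hBint _ s.1.2, ?_, ?_⟩
  · have hsu : IsUnit (ι s.1) := by
      by_contra hns
      exact hs ((mem_maximalIdeal _).mpr hns)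
    exact (V.valuation_eq_one_iff _).mp hsu
  · have h5 := IsLocalization.lift_mk'_spec (M := P.primeCompl) (S := Localization.AtPrime P)
      (g := B.subtype) (hg := by simp [Ideal.primeCompl, not_imp_not]) b
      ((IsLocalization.lift (M := P.primeCompl) (S := Localization.AtPrime P)
        (g := B.subtype) (by simp [Ideal.primeCompl, not_imp_not])) (IsLocalization.mk' _ b s)) s
    have h6 := h5.mp rfl
    simp only [Subring.subtype_apply] at h6
    rw [mul_comm]
    exact h6.symm

/-- A valuation subring dominating the DVR `A` in a finite separable extension is essentially of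
finite type over `A`. -/
theorem essFiniteType_of_dominates [FiniteDimensional K L] [Algebra.IsSeparable K L]
    (V : ValuationSubring L)
    (h : EtRam.Dominates A (algebraMap A L) V) :
    letI : Algebra A V := (RingHom.codRestrict (algebraMap A L) V h.1).toAlgebra
    Algebra.EssFiniteType A V := by
  classical
  letI : Algebra A V := (RingHom.codRestrict (algebraMap A L) V h.1).toAlgebra
  haveI : IsScalarTower A V L := IsScalarTower.of_algebraMap_eq (fun _ => rfl)
  have hCV : ∀ c : L, IsIntegral A c → c ∈ V := by
    intro c hc
    have hx'' : IsIntegral V c := hc.tower_top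
    obtain ⟨y, hy⟩ := IsIntegrallyClosed.algebraMap_eq_of_integral hx''
    rw [← hy]
    exact y.2
  haveI hfin : Module.Finite A (integralClosure A L) :=
    IsIntegralClosure.finite A K L (integralClosure A L)
  obtain ⟨σ, hσ⟩ := hfin.fg_top
  -- the generators as elements of `V`
  let j : integralClosure A L → V := fun c => ⟨c.1, hCV c.1 c.2⟩
  rw [Algebra.essFiniteType_iff]
  refine ⟨σ.image j, ?_⟩
  have hmem : ∀ c : L, ∀ hc : IsIntegral A c,
      (⟨c, hCV c hc⟩ : V) ∈ Algebra.adjoin A ((σ.image j : Finset V) : Set V) := by
    intro c hc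
    have h1 : (⟨c, hc⟩ : integralClosure A L) ∈ Submodule.span A (σ : Set (integralClosure A L)) := by
      rw [hσ]; exact Submodule.mem_top
    let jl : integralClosure A L →ₗ[A] V :=
      { toFun := j
        map_add' := fun x y => rfl
        map_smul' := fun a x => by
          apply Subtype.ext
          show ((a • x : integralClosure A L) : L) = ((a • j x : V) : L)
          rw [Algebra.smul_def, Algebra.smul_def]
          rfl }
    have h2 : jl ⟨c, hc⟩ ∈ Submodule.span A (jl '' (σ : Set (integralClosure A L))) := by
      rw [← Submodule.map_span]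
      exact Submodule.mem_map_of_mem h1
    have h3 : Submodule.span A (jl '' (σ : Set (integralClosure A L))) ≤
        Subalgebra.toSubmodule (Algebra.adjoin A ((σ.image j : Finset V) : Set V)) := by
      rw [Submodule.span_le]
      rintro _ ⟨y, hy, rfl⟩
      apply Algebra.subset_adjoin
      rw [Finset.coe_image]
      exact ⟨y, hy, rfl⟩
    exact h3 h2
  intro x
  obtain ⟨c, s, hc, hs, hvs, hxs⟩ := exists_integral_frac (K := K) V h x.1 x.2
  refine ⟨⟨s, hCV s hs⟩, hmem s hs, ?_, ?_⟩
  · exact (V.valuation_eq_one_iff _).mpr hvs
  · have : x * ⟨s, hCV s hs⟩ = (⟨c, hCV c hc⟩ : V) := Subtype.ext hxs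
    rw [this]
    exact hmem c hc

end dvr

end DvrExtH8
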