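import Mathlib
import Groth.Prelude.Def_EtRam
import Groth.Agent.Lib.DvrExt1_helper8
import Groth.Agent.Lib.DvrExt3_helper8
import Groth.Agent.Lib.DvrExt4_helper8
import Groth.Agent.Lib.DvrExt5_helper8
import Groth.Agent.Lib.TameExt1_helper8

set_option autoImplicit false
universe u

namespace TotRamH8

open IsLocalRing TensorProduct DvrExtH8 TameExtH8

set_option maxHeartbeats 1600000 in
theorem totRam_core (A B K L K₁ : Type u) [CommRing A] [IsDomain A] [IsDiscreteValuationRing A]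
    [CommRing B] [IsDomain B] [IsDiscreteValuationRing B] [Algebra A B]
    [IsLocalHom (algebraMap A B)]
    [Field K] [Field L] [Algebra A K] [IsFractionRing A K] [Algebra B L] [IsFractionRing B L]
    [Algebra K L] [Algebra A L] [IsScalarTower A K L] [IsScalarTower A B L]
    (hw : EtRam.IsWeaklyUnramified A B) [Field K₁] [Algebra K K₁] [FiniteDimensional K K₁]
    [Algebra.IsSeparable K K₁]
    (V₁ : ValuationSubring K₁)
    (hdV₁ : EtRam.Dominates A ((algebraMap K K₁).comp (algebraMap A K)) V₁)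
    (hres : Function.Surjective (fun a : A => residue V₁
      (RingHom.codRestrict ((algebraMap K K₁).comp (algebraMap A K)) V₁ hdV₁.1 a)))
    (M : Type u) [Field M] [Algebra K M] [Algebra L M] [Algebra K₁ M] [IsScalarTower K L M]
    [IsScalarTower K K₁ M]
    (hgen : Algebra.adjoin L (Set.range (algebraMap K₁ M)) = ⊤)
    (W : ValuationSubring M)
    (hdW : EtRam.Dominates B ((algebraMap L M).comp (algebraMap B L)) W)
    (hV₁ : V₁ = W.comap (algebraMap K₁ M)) :
    letI : Algebra A V₁ :=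
      (RingHom.codRestrict ((algebraMap K K₁).comp (algebraMap A K)) V₁ hdV₁.1).toAlgebra
    ∃ (Φ : B ⊗[A] V₁ →+* M),
      (∀ (b : B) (v : V₁), Φ (b ⊗ₜ v) =
        algebraMap L M (algebraMap B L b) * algebraMap K₁ M (v : K₁)) ∧
      (∀ x : M, x ∈ W → W.valuation x < 1 → ∃ v : V₁, v ∈ maximalIdeal V₁ ∧
        ∃ y ∈ W, x = algebraMap K₁ M (v : K₁) * y) ∧
      (∀ t, Φ t = 0 ↔ ∃ s, s ∉ Ideal.map
        (Algebra.TensorProduct.includeRight : V₁ →ₐ[A] B ⊗[A] V₁).toRingHom (maximalIdeal V₁) ∧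
          s * t = 0) := by
  classical
  letI : Algebra A K₁ := ((algebraMap K K₁).comp (algebraMap A K)).toAlgebra
  haveI : IsScalarTower A K K₁ := IsScalarTower.of_algebraMap_eq (fun _ => rfl)
  letI : Algebra A V₁ := (RingHom.codRestrict (algebraMap A K₁) V₁ hdV₁.1).toAlgebra
  haveI : IsLocalHom (algebraMap A V₁) := isLocalHom_of_dominates (algebraMap A K₁) V₁ hdV₁
  haveI : Algebra.EssFiniteType A V₁ := essFiniteType_of_dominates (K := K) V₁ hdV₁
  haveI : IsDiscreteValuationRing V₁ := isDVR_of_dominates (A := A) (K := K) (L := K₁) V₁ hdV₁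
  obtain ⟨gB, hgB⟩ : ∃ gB : B →+* M, gB = (algebraMap L M).comp (algebraMap B L) := ⟨_, rfl⟩
  rw [← hgB] at hdW
  have hcompat : ∀ a : A, algebraMap K₁ M (algebraMap A K₁ a) = gB (algebraMap A B a) := by
    intro a
    rw [hgB]
    show algebraMap K₁ M (algebraMap K K₁ (algebraMap A K a)) =
      algebraMap L M (algebraMap B L (algebraMap A B a))
    rw [← IsScalarTower.algebraMap_apply K K₁ M, ← IsScalarTower.algebraMap_apply A B L,
      IsScalarTower.algebraMap_apply A K L, ← IsScalarTower.algebraMap_apply K L M]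
  have hV₁mem' : ∀ x ∈ V₁, algebraMap K₁ M x ∈ W := by
    intro x hx
    rw [hV₁] at hx
    exact hx
  have hV₁mem : ∀ v : V₁, algebraMap K₁ M (v : K₁) ∈ W := fun v => hV₁mem' _ v.2
  have hV₁val : ∀ v : V₁, v ∈ maximalIdeal V₁ → W.valuation (algebraMap K₁ M (v : K₁)) < 1 := by
    intro v hv
    rw [ValuationSubring.valuation_lt_one_iff] at hv
    have h1 : (W.comap (algebraMap K₁ M)).valuation (v : K₁) < 1 := by
      rw [← hV₁]
      exact hv
    exact (comap_valuation_lt_one_iff _ W _).mp h1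
  -- the map `Φ`
  letI : Algebra B M := gB.toAlgebra
  letI : Algebra A M := (gB.comp (algebraMap A B)).toAlgebra
  haveI : IsScalarTower A B M := IsScalarTower.of_algebraMap_eq (fun _ => rfl)
  let fV' : V₁ →ₐ[A] M :=
    { (algebraMap K₁ M).comp V₁.subtype with
      commutes' := fun a => hcompat a }
  let Φ : B ⊗[A] V₁ →ₐ[B] M :=
    Algebra.TensorProduct.lift (Algebra.ofId B M) fV' (fun _ _ => Commute.all _ _)
  have hΦ : ∀ (b : B) (v : V₁), Φ (b ⊗ₜ v) = gB b * algebraMap K₁ M (v : K₁) := by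
    intro b v
    rw [Algebra.TensorProduct.lift_tmul]
    rfl
  have hΦW : ∀ t, Φ t ∈ W := by
    intro t
    induction t using TensorProduct.induction_on with
    | zero => rw [map_zero]; exact W.zero_mem
    | add x y hx hy => rw [map_add]; exact W.add_mem _ _ hx hy
    | tmul b v => rw [hΦ]; exact W.mul_mem _ _ (hdW.1 b) (hV₁mem v)
  have hgBinj : Function.Injective gB := by
    rw [hgB]
    exact (algebraMap L M).injective.comp (IsFractionRing.injective B L)
  -- fractions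
  have hfrac : ∀ x : M, ∃ a b : B ⊗[A] V₁, Φ b ≠ 0 ∧ x * Φ b = Φ a := by
    intro x
    have hx : x ∈ Algebra.adjoin L (Set.range (algebraMap K₁ M)) := by
      rw [hgen]
      exact Algebra.mem_top
    induction hx using Algebra.adjoin_induction with
    | mem x hx =>
      obtain ⟨k, rfl⟩ := hx
      rcases V₁.mem_or_inv_mem k with hk | hk
      · refine ⟨1 ⊗ₜ ⟨k, hk⟩, 1, by rw [map_one]; exact one_ne_zero, ?_⟩
        rw [map_one, mul_one, hΦ, map_one, one_mul]
      · by_cases hk0 : k = 0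
        · exact ⟨0, 1, by rw [map_one]; exact one_ne_zero, by rw [hk0, map_zero, zero_mul, map_zero]⟩
        · refine ⟨1, 1 ⊗ₜ ⟨k⁻¹, hk⟩, ?_, ?_⟩
          · rw [hΦ, map_one, one_mul]
            simp only [ne_eq, map_eq_zero, inv_eq_zero]
            exact hk0
          · rw [hΦ, map_one, one_mul, map_one, ← map_mul]
            simp only
            rw [mul_inv_cancel₀ hk0, map_one]
    | algebraMap l =>
      obtain ⟨β, β', hβ', hl⟩ := IsFractionRing.div_surjective (A := B) l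
      have hβ'0 : β' ≠ 0 := nonZeroDivisors.ne_zero hβ'
      have hgβ' : gB β' ≠ 0 := fun h0 => hβ'0 (hgBinj (by rw [h0, map_zero]))
      refine ⟨β ⊗ₜ 1, β' ⊗ₜ 1, ?_, ?_⟩
      · rw [hΦ]
        simp only [OneMemClass.coe_one, map_one, mul_one]
        exact hgβ'
      · rw [hΦ, hΦ]
        simp only [OneMemClass.coe_one, map_one, mul_one]
        rw [hgB, RingHom.comp_apply, RingHom.comp_apply, ← map_mul, ← hl,
          div_mul_cancel₀ _ (fun h0 => hβ'0 (IsFractionRing.injective B L (by rw [h0, map_zero])))]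
    | add x y _ _ hx hy =>
      obtain ⟨a₁, b₁, hb₁, e₁⟩ := hx
      obtain ⟨a₂, b₂, hb₂, e₂⟩ := hy
      refine ⟨a₁ * b₂ + a₂ * b₁, b₁ * b₂, ?_, ?_⟩
      · rw [map_mul]; exact mul_ne_zero hb₁ hb₂
      · rw [map_add, map_mul, map_mul, map_mul, ← e₁, ← e₂]
        ring
    | mul x y _ _ hx hy =>
      obtain ⟨a₁, b₁, hb₁, e₁⟩ := hx
      obtain ⟨a₂, b₂, hb₂, e₂⟩ := hy
      refine ⟨a₁ * a₂, b₁ * b₂, ?_, ?_⟩
      · rw [map_mul]; exact mul_ne_zero hb₁ hb₂
      · rw [map_mul, map_mul, ← e₁, ← e₂]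
        ring
  -- uniformizers
  obtain ⟨π₁, hπ₁⟩ := IsDiscreteValuationRing.exists_irreducible V₁
  obtain ⟨πA, hπA⟩ := IsDiscreteValuationRing.exists_irreducible A
  have hπ₁m : π₁ ∈ maximalIdeal V₁ := (mem_maximalIdeal _).mpr hπ₁.not_isUnit
  -- decomposition
  have hdecomp : ∀ t : B ⊗[A] V₁, ∃ (b : B) (t' : B ⊗[A] V₁),
      t = b ⊗ₜ 1 + (1 ⊗ₜ π₁) * t' := by
    intro t
    induction t using TensorProduct.induction_on with
    | zero => exact ⟨0, 0, by simp⟩
    | add x y hx hy =>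
      obtain ⟨b₁, t₁, rfl⟩ := hx
      obtain ⟨b₂, t₂, rfl⟩ := hy
      refine ⟨b₁ + b₂, t₁ + t₂, ?_⟩
      rw [TensorProduct.add_tmul, mul_add]
      abel
    | tmul b v =>
      obtain ⟨a, ha⟩ := hres (residue V₁ v)
      have ha' : residue V₁ (algebraMap A V₁ a) = residue V₁ v := ha
      have hmem : v - algebraMap A V₁ a ∈ maximalIdeal V₁ := by
        rw [← residue_eq_zero_iff, map_sub, ha', sub_self]
      rw [hπ₁.maximalIdeal_eq] at hmem
      obtain ⟨v', hv'⟩ := Ideal.mem_span_singleton'.mp hmem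
      refine ⟨algebraMap A B a * b, b ⊗ₜ v', ?_⟩
      have hv : v = algebraMap A V₁ a + v' * π₁ := by rw [hv']; ring
      rw [Algebra.TensorProduct.tmul_mul_tmul, one_mul, mul_comm π₁ v']
      conv_lhs => rw [hv, TensorProduct.tmul_add]
      congr 1
      rw [Algebra.algebraMap_eq_smul_one, ← TensorProduct.smul_tmul, Algebra.smul_def]
  -- the prime `𝔑`
  let φW : B ⊗[A] V₁ →+* W := RingHom.codRestrict Φ.toRingHom W hΦW
  have hφW : ∀ t, ((φW t : W) : M) = Φ t := fun t => rfl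
  let 𝔑 : Ideal (B ⊗[A] V₁) := (maximalIdeal W).comap φW
  haveI : 𝔑.IsPrime := Ideal.comap_isPrime _ _
  have hmem𝔑 : ∀ t, t ∈ 𝔑 ↔ φW t ∈ maximalIdeal W := fun t => Iff.rfl
  have hπ𝔑 : (1 : B) ⊗ₜ[A] π₁ ∈ 𝔑 := by
    rw [hmem𝔑, ValuationSubring.valuation_lt_one_iff, hφW, hΦ, map_one, one_mul]
    exact hV₁val π₁ hπ₁m
  have h𝔑 : ∀ t ∈ 𝔑, t ∈ Ideal.span {(1 : B) ⊗ₜ[A] π₁} := by
    intro t ht
    obtain ⟨b, t', rfl⟩ := hdecomp t
    have h1 : (1 ⊗ₜ π₁) * t' ∈ 𝔑 := Ideal.mul_mem_right _ _ hπ𝔑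
    have h2 : b ⊗ₜ[A] (1 : V₁) ∈ 𝔑 := by
      have := Ideal.sub_mem _ ht h1
      rwa [add_sub_cancel_right] at this
    have hbnu : ¬ IsUnit b := by
      intro hu
      have h3 : IsUnit (φW (b ⊗ₜ[A] (1 : V₁))) := by
        have : φW (b ⊗ₜ[A] (1 : V₁)) = RingHom.codRestrict gB W hdW.1 b := by
          apply Subtype.ext
          rw [hφW, hΦ]
          simp
        rw [this]
        exact hu.map _
      exact ((mem_maximalIdeal _).mp ((hmem𝔑 _).mp h2)) h3
    have hbm : b ∈ maximalIdeal B := (mem_maximalIdeal _).mpr hbnu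
    unfold EtRam.IsWeaklyUnramified at hw
    rw [← hw, hπA.maximalIdeal_eq, Ideal.map_span, Set.image_singleton] at hbm
    obtain ⟨β, rfl⟩ := Ideal.mem_span_singleton'.mp hbm
    have hπAV : algebraMap A V₁ πA ∈ maximalIdeal V₁ := by
      rw [mem_maximalIdeal]
      intro hu
      exact hπA.not_isUnit (isUnit_of_map_unit (algebraMap A V₁) πA hu)
    rw [hπ₁.maximalIdeal_eq] at hπAV
    obtain ⟨v'', hv''⟩ := Ideal.mem_span_singleton'.mp hπAV
    apply Ideal.add_mem _ _ (Ideal.mul_mem_right _ _ (Ideal.mem_span_singleton_self _))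
    apply Ideal.mem_span_singleton'.mpr
    refine ⟨β ⊗ₜ v'', ?_⟩
    rw [Algebra.TensorProduct.tmul_mul_tmul, mul_one, hv'', Algebra.algebraMap_eq_smul_one,
      ← TensorProduct.smul_tmul, Algebra.smul_def, mul_comm]
  -- the localization
  have hunits : ∀ s : 𝔑.primeCompl, IsUnit (φW s) := by
    intro s
    by_contra hnu
    exact s.2 ((hmem𝔑 _).mpr ((mem_maximalIdeal _).mpr hnu))
  let T := Localization.AtPrime 𝔑
  let ψ : T →+* W := IsLocalization.lift (M := 𝔑.primeCompl) (g := φW) hunits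
  have hψ : ∀ t, ψ (algebraMap (B ⊗[A] V₁) T t) = φW t := fun t => IsLocalization.lift_eq _ t
  have hmT : maximalIdeal T = Ideal.span {algebraMap (B ⊗[A] V₁) T (1 ⊗ₜ π₁)} := by
    apply le_antisymm
    · rw [← Localization.AtPrime.map_eq_maximalIdeal, Ideal.map_le_iff_le_comap]
      intro a ha
      obtain ⟨d, hd⟩ := Ideal.mem_span_singleton'.mp (h𝔑 a ha)
      show algebraMap (B ⊗[A] V₁) T a ∈ Ideal.span {algebraMap (B ⊗[A] V₁) T (1 ⊗ₜ π₁)}
      rw [← hd, map_mul]
      exact Ideal.mul_mem_left _ _ (Ideal.mem_span_singleton_self _)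
    · rw [Ideal.span_le, Set.singleton_subset_iff]
      exact (IsLocalization.AtPrime.to_map_mem_maximal_iff T 𝔑 _).mpr hπ𝔑
  haveI : Algebra.EssFiniteType B T := Algebra.EssFiniteType.comp B (B ⊗[A] V₁) T
  haveI : IsNoetherianRing T := Algebra.EssFiniteType.isNoetherianRing B T
  have hfracT : ∀ x : M, ∃ a b : T, ((ψ b : W) : M) ≠ 0 ∧
      x * ((ψ b : W) : M) = ((ψ a : W) : M) := by
    intro x
    obtain ⟨a, b, hb0, hab⟩ := hfrac x
    refine ⟨algebraMap _ T a, algebraMap _ T b, ?_, ?_⟩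
    · rw [hψ, hφW]
      exact hb0
    · rw [hψ, hψ, hφW, hφW]
      exact hab
  have hϖval : W.valuation (algebraMap K₁ M (π₁ : K₁)) < 1 := hV₁val π₁ hπ₁m
  have hψπ : ((ψ (algebraMap (B ⊗[A] V₁) T (1 ⊗ₜ π₁)) : W) : M) = algebraMap K₁ M (π₁ : K₁) := by
    rw [hψ, hφW, hΦ, map_one, one_mul]
  have hsurj : Function.Surjective ψ :=
    core_surjective (algebraMap (B ⊗[A] V₁) T (1 ⊗ₜ π₁)) hmT W ψ (by rw [hψπ]; exact hϖval) hfracT
  have hπ₁0 : algebraMap K₁ M (π₁ : K₁) ≠ 0 := by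
    rw [Ne, map_eq_zero]
    intro h0
    exact hπ₁.ne_zero (Subtype.ext h0)
  have hinj : Function.Injective ψ := by
    rw [injective_iff_map_eq_zero]
    intro y hy
    by_contra hy0
    obtain ⟨n, u, hu, rfl⟩ := DvrExtH8.exists_unit_mul_pow _ hmT y hy0
    have h1 := congrArg (fun z : W => (z : M)) hy
    simp only [map_mul, map_pow] at h1
    have h2 : ((ψ u : W) : M) ≠ 0 := by
      intro h0
      have : ψ u = 0 := Subtype.ext h0
      exact (hu.map ψ).ne_zero this
    have h3 : ((ψ u * ψ (algebraMap (B ⊗[A] V₁) T (1 ⊗ₜ π₁)) ^ n : W) : M) =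
        ((ψ u : W) : M) * (algebraMap K₁ M (π₁ : K₁)) ^ n := by
      rw [← hψπ]
      rfl
    rw [h3] at h1
    exact mul_ne_zero h2 (pow_ne_zero n hπ₁0) h1
  refine ⟨Φ.toRingHom, ?_, ?_, ?_⟩
  · intro b v
    show Φ (b ⊗ₜ v) = _
    rw [hΦ, hgB]
    rfl
  · intro x hxW hxv
    have hxm : (⟨x, hxW⟩ : W) ∈ maximalIdeal W := by
      rw [ValuationSubring.valuation_lt_one_iff]
      exact hxv
    obtain ⟨y, hy⟩ := hsurj ⟨x, hxW⟩
    have hym : y ∈ maximalIdeal T := by
      rw [mem_maximalIdeal]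
      intro hyu
      exact ((mem_maximalIdeal _).mp hxm) (hy ▸ hyu.map ψ)
    rw [hmT] at hym
    obtain ⟨d, rfl⟩ := Ideal.mem_span_singleton'.mp hym
    refine ⟨π₁, hπ₁m, ((ψ d : W) : M), (ψ d).2, ?_⟩
    have := congrArg (fun z : W => (z : M)) hy
    simp only [map_mul] at this
    rw [← this, ← hψπ, mul_comm]
    rfl
  · intro t
    have hmapeq : Ideal.map (Algebra.TensorProduct.includeRight : V₁ →ₐ[A] B ⊗[A] V₁).toRingHom
        (maximalIdeal V₁) = 𝔑 := by
      rw [hπ₁.maximalIdeal_eq, Ideal.map_span, Set.image_singleton]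
      apply le_antisymm
      · rw [Ideal.span_le, Set.singleton_subset_iff]
        exact hπ𝔑
      · exact fun t ht => h𝔑 t ht
    rw [hmapeq]
    constructor
    · intro ht
      have h1 : ψ (algebraMap (B ⊗[A] V₁) T t) = 0 := by
        rw [hψ]
        exact Subtype.ext ht
      have h2 : algebraMap (B ⊗[A] V₁) T t = 0 := hinj (by rw [h1, map_zero])
      rw [IsLocalization.map_eq_zero_iff 𝔑.primeCompl] at h2
      obtain ⟨c, hc⟩ := h2
      exact ⟨c, c.2, hc⟩
    · rintro ⟨s, hs, hst⟩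
      have h1 : Φ s * Φ t = 0 := by rw [← map_mul, hst, map_zero]
      have h2 : Φ s ≠ 0 := by
        intro h0
        have : φW s = 0 := Subtype.ext h0
        exact (hunits ⟨s, hs⟩).ne_zero this
      exact (mul_eq_zero.mp h1).resolve_left h2

end TotRamH8
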