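import Mathlib
import Groth.Prelude.Def_EtRam
import Groth.Agent.Lib.TotRam1_helper8

set_option autoImplicit false
universe u

namespace TotRamH8

open IsLocalRing TensorProduct DvrExtH8

/-- there is a valuation subring dominating a local ring mapping to a field -/
theorem exists_dominating {B : Type u} [CommRing B] [IsLocalRing B] {M : Type u} [Field M]
    (g : B →+* M) : ∃ W : ValuationSubring M, EtRam.Dominates B g W := by
  obtain ⟨W, hW, hloc⟩ := IsLocalRing.exists_factor_valuationRing g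
  refine ⟨W, hW, fun b hb => ?_⟩
  have h1 : (⟨g b, hW b⟩ : W) ∈ maximalIdeal W := by
    rw [mem_maximalIdeal]
    intro hu
    have hu' : IsUnit (RingHom.codRestrict g W.toSubring hW b) := hu
    exact ((mem_maximalIdeal _).mp hb) (hloc.map_nonunit b hu')
  rw [ValuationSubring.valuation_lt_one_iff] at h1
  exact h1

set_option maxHeartbeats 1600000 in
theorem weakSolution_of_totRam (A B K L : Type u) [CommRing A] [IsDomain A]
    [IsDiscreteValuationRing A]
    [CommRing B] [IsDomain B] [IsDiscreteValuationRing B] [Algebra A B]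
    [IsLocalHom (algebraMap A B)]
    [Field K] [Field L] [Algebra A K] [IsFractionRing A K] [Algebra B L] [IsFractionRing B L]
    [Algebra K L] [Algebra A L] [IsScalarTower A K L] [IsScalarTower A B L]
    (hw : EtRam.IsWeaklyUnramified A B) (K₁ : Type u) [Field K₁] [Algebra K K₁]
    [FiniteDimensional K K₁] [Algebra.IsSeparable K K₁]
    (ht : EtRam.IsTotallyRamified A ((algebraMap K K₁).comp (algebraMap A K))) :
    EtRam.IsWeakSolution B K L K₁ := by
  intro M _ _ _ _ _ _ hgen W hdW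
  -- domination of `A`
  have hcompat : ∀ a : A, ((algebraMap L M).comp (algebraMap B L)).comp (algebraMap A B) a =
      algebraMap K₁ M (((algebraMap K K₁).comp (algebraMap A K)) a) := by
    intro a
    show algebraMap L M (algebraMap B L (algebraMap A B a)) =
      algebraMap K₁ M (algebraMap K K₁ (algebraMap A K a))
    rw [← IsScalarTower.algebraMap_apply K K₁ M, ← IsScalarTower.algebraMap_apply A B L,
      IsScalarTower.algebraMap_apply A K L, ← IsScalarTower.algebraMap_apply K L M]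
  have hdA : EtRam.Dominates A
      (((algebraMap L M).comp (algebraMap B L)).comp (algebraMap A B)) W := by
    refine ⟨fun a => hdW.1 _, fun a ha => hdW.2 _ ?_⟩
    rw [mem_maximalIdeal] at ha ⊢
    intro hu
    exact ha (isUnit_of_map_unit (algebraMap A B) a hu)
  have hdV₁ : EtRam.Dominates A ((algebraMap K K₁).comp (algebraMap A K))
      (W.comap (algebraMap K₁ M)) :=
    dominates_of_comap _ (algebraMap K₁ M) W _ hcompat hdA
  obtain ⟨Φ, hΦ, h1, h2⟩ := totRam_core A B K L K₁ hw (W.comap (algebraMap K₁ M)) hdV₁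
    (ht.2.2 _ hdV₁) M hgen W hdW rfl
  letI : Algebra (W.comap (algebraMap K₁ M)) W := (EtRam.inclOfComap W (algebraMap K₁ M)).toAlgebra
  show Ideal.map (algebraMap (W.comap (algebraMap K₁ M)) W) (maximalIdeal _) = maximalIdeal W
  apply le_antisymm
  · rw [Ideal.map_le_iff_le_comap]
    intro v hv
    show algebraMap (W.comap (algebraMap K₁ M)) W v ∈ maximalIdeal W
    rw [mem_maximalIdeal] at hv ⊢
    intro hu
    exact hv (isUnit_of_map_unit (EtRam.inclOfComap W (algebraMap K₁ M)) v hu)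
  · intro x hx
    have hxv : W.valuation (x : M) < 1 := (ValuationSubring.valuation_lt_one_iff W x).mp hx
    obtain ⟨v, hv, y, hy, hxy⟩ := h1 (x : M) x.2 hxv
    have : x = algebraMap (W.comap (algebraMap K₁ M)) W v * ⟨y, hy⟩ := Subtype.ext hxy
    rw [this]
    exact Ideal.mul_mem_right _ _ (Ideal.mem_map_of_mem _ hv)

/-- the canonical map `B ⊗[A] V₁ → L ⊗[K] K₁` -/
theorem theta_exists (A B K L K₁ : Type u) [CommRing A] [CommRing B] [Algebra A B]
    [Field K] [Field L] [Algebra A K] [Algebra B L]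
    [Algebra K L] [Algebra A L] [IsScalarTower A K L] [IsScalarTower A B L]
    [Field K₁] [Algebra K K₁] (V₁ : ValuationSubring K₁) [Algebra A V₁]
    (hcomp : ∀ a : A, ((algebraMap A V₁ a : V₁) : K₁) = algebraMap K K₁ (algebraMap A K a)) :
    ∃ θ : B ⊗[A] V₁ →+* L ⊗[K] K₁, ∀ (b : B) (v : V₁),
      θ (b ⊗ₜ v) = (algebraMap B L b) ⊗ₜ[K] (v : K₁) := by
  let f : B →ₐ[A] L ⊗[K] K₁ :=
    { toRingHom := (Algebra.TensorProduct.includeLeft : L →ₐ[K] L ⊗[K] K₁).toRingHom.comp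
        (algebraMap B L)
      commutes' := fun a => by
        rw [Algebra.TensorProduct.algebraMap_apply]
        show (algebraMap B L (algebraMap A B a)) ⊗ₜ[K] (1 : K₁) = (algebraMap A L a) ⊗ₜ[K] (1 : K₁)
        rw [← IsScalarTower.algebraMap_apply A B L] }
  let g : V₁ →ₐ[A] L ⊗[K] K₁ :=
    { toRingHom := (Algebra.TensorProduct.includeRight : K₁ →ₐ[K] L ⊗[K] K₁).toRingHom.comp
        V₁.subtype
      commutes' := fun a => by
        rw [Algebra.TensorProduct.algebraMap_apply]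
        show (1 : L) ⊗ₜ[K] ((algebraMap A V₁ a : V₁) : K₁) = (algebraMap A L a) ⊗ₜ[K] (1 : K₁)
        rw [hcomp, IsScalarTower.algebraMap_apply A K L, Algebra.algebraMap_eq_smul_one,
          Algebra.algebraMap_eq_smul_one (A := L), TensorProduct.smul_tmul] }
  refine ⟨(Algebra.TensorProduct.lift f g (fun _ _ => Commute.all _ _)).toRingHom, fun b v => ?_⟩
  show Algebra.TensorProduct.lift f g _ (b ⊗ₜ v) = _
  rw [Algebra.TensorProduct.lift_tmul]
  show (algebraMap B L b) ⊗ₜ[K] (1 : K₁) * (1 : L) ⊗ₜ[K] (v : K₁) = _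
  rw [Algebra.TensorProduct.tmul_mul_tmul, mul_one, one_mul]

/-- clearing denominators in `L ⊗[K] K₁` -/
theorem exists_clear (A B K L K₁ : Type u) [CommRing A] [CommRing B] [IsDomain B] [Algebra A B]
    [Field K] [Field L] [Algebra B L] [IsFractionRing B L]
    [Algebra K L]
    [Field K₁] [Algebra K K₁] (V₁ : ValuationSubring K₁) [Algebra A V₁]
    (θ : B ⊗[A] V₁ →+* L ⊗[K] K₁)
    (hθ : ∀ (b : B) (v : V₁), θ (b ⊗ₜ v) = (algebraMap B L b) ⊗ₜ[K] (v : K₁)) :
    ∀ s : L ⊗[K] K₁, ∃ d t : B ⊗[A] V₁, IsUnit (θ d) ∧ θ d * s = θ t := by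
  intro s
  induction s using TensorProduct.induction_on with
  | zero => exact ⟨1, 0, by rw [map_one]; exact isUnit_one, by rw [map_zero, mul_zero]⟩
  | tmul l k =>
    obtain ⟨b, b', hb', rfl⟩ : ∃ b b' : B, b' ≠ 0 ∧ l = algebraMap B L b / algebraMap B L b' := by
      obtain ⟨b, b', hb', h⟩ := IsFractionRing.div_surjective (A := B) l
      exact ⟨b, b', nonZeroDivisors.ne_zero hb', h.symm⟩
    have hb'0 : algebraMap B L b' ≠ 0 := by
      rw [Ne, map_eq_zero_iff _ (IsFractionRing.injective B L)]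
      exact hb'
    have hL : IsUnit ((algebraMap B L b') ⊗ₜ[K] (1 : K₁)) :=
      (IsUnit.mk0 _ hb'0).map (Algebra.TensorProduct.includeLeft : L →ₐ[K] L ⊗[K] K₁)
    by_cases hk : k ∈ V₁
    · refine ⟨b' ⊗ₜ 1, b ⊗ₜ ⟨k, hk⟩, ?_, ?_⟩
      · rw [hθ]
        exact hL
      · rw [hθ, hθ, Algebra.TensorProduct.tmul_mul_tmul]
        congr 1
        · field_simp
        · show (1 : K₁) * k = k
          rw [one_mul]
    · have hk' : k⁻¹ ∈ V₁ := (V₁.mem_or_inv_mem k).resolve_left hk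
      have hk0 : k ≠ 0 := fun h => hk (h ▸ zero_mem _)
      have hR : IsUnit ((1 : L) ⊗ₜ[K] (k⁻¹ : K₁)) :=
        (IsUnit.mk0 _ (inv_ne_zero hk0)).map
          (Algebra.TensorProduct.includeRight : K₁ →ₐ[K] L ⊗[K] K₁)
      refine ⟨b' ⊗ₜ ⟨k⁻¹, hk'⟩, b ⊗ₜ 1, ?_, ?_⟩
      · rw [hθ]
        have : (algebraMap B L b') ⊗ₜ[K] (k⁻¹ : K₁) =
            (algebraMap B L b') ⊗ₜ[K] (1 : K₁) * (1 : L) ⊗ₜ[K] (k⁻¹ : K₁) := by
          rw [Algebra.TensorProduct.tmul_mul_tmul, mul_one, one_mul]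
        show IsUnit ((algebraMap B L b') ⊗ₜ[K] (k⁻¹ : K₁))
        rw [this]
        exact hL.mul hR
      · rw [hθ, hθ, Algebra.TensorProduct.tmul_mul_tmul]
        congr 1
        · field_simp
        · show k⁻¹ * k = 1
          exact inv_mul_cancel₀ hk0
  | add x y hx hy =>
    obtain ⟨d, t, hd, hdt⟩ := hx
    obtain ⟨d', t', hd', hdt'⟩ := hy
    refine ⟨d * d', d' * t + d * t', ?_, ?_⟩
    · rw [map_mul]
      exact hd.mul hd'
    · rw [map_mul, map_add, map_mul, map_mul, ← hdt, ← hdt']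
      ring

set_option maxHeartbeats 1600000 in
/-- the kernel of `B ⊗[A] V₁ → L ⊗[K] K₁ → M` does not depend on the quotient field `M` -/
theorem ker_char (A B K L : Type u) [CommRing A] [IsDomain A]
    [IsDiscreteValuationRing A]
    [CommRing B] [IsDomain B] [IsDiscreteValuationRing B] [Algebra A B]
    [IsLocalHom (algebraMap A B)]
    [Field K] [Field L] [Algebra A K] [IsFractionRing A K] [Algebra B L] [IsFractionRing B L]
    [Algebra K L] [Algebra A L] [IsScalarTower A K L] [IsScalarTower A B L]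
    (hw : EtRam.IsWeaklyUnramified A B) (K₁ : Type u) [Field K₁] [Algebra K K₁]
    [FiniteDimensional K K₁] [Algebra.IsSeparable K K₁]
    (ht : EtRam.IsTotallyRamified A ((algebraMap K K₁).comp (algebraMap A K)))
    (V₁ : ValuationSubring K₁)
    (hdV₁ : EtRam.Dominates A ((algebraMap K K₁).comp (algebraMap A K)) V₁)
    (M : Type u) [Field M] [Algebra K M] [Algebra L M] [Algebra K₁ M] [IsScalarTower K L M]
    [IsScalarTower K K₁ M]
    (p : L ⊗[K] K₁ →+* M)
    (hp : ∀ (l : L) (k : K₁), p (l ⊗ₜ k) = algebraMap L M l * algebraMap K₁ M k)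
    (hsurj : Function.Surjective p) :
    letI : Algebra A V₁ :=
      (RingHom.codRestrict ((algebraMap K K₁).comp (algebraMap A K)) V₁ hdV₁.1).toAlgebra
    ∀ (θ : B ⊗[A] V₁ →+* L ⊗[K] K₁),
      (∀ (b : B) (v : V₁), θ (b ⊗ₜ v) = (algebraMap B L b) ⊗ₜ[K] (v : K₁)) →
      ∀ t, p (θ t) = 0 ↔ ∃ s, s ∉ Ideal.map
        (Algebra.TensorProduct.includeRight : V₁ →ₐ[A] B ⊗[A] V₁).toRingHom (maximalIdeal V₁) ∧
          s * t = 0 := by
  intro θ hθ
  -- generation
  have hgen' : ∀ s, p s ∈ Algebra.adjoin L (Set.range (algebraMap K₁ M)) := by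
    intro s
    induction s using TensorProduct.induction_on with
    | zero => rw [map_zero]; exact zero_mem _
    | tmul l k =>
      rw [hp]
      exact Subalgebra.mul_mem _ (Subalgebra.algebraMap_mem _ l)
        (Algebra.subset_adjoin ⟨k, rfl⟩)
    | add x y hx hy => rw [map_add]; exact add_mem hx hy
  have hgen : Algebra.adjoin L (Set.range (algebraMap K₁ M)) = ⊤ := by
    rw [eq_top_iff]
    intro m _
    obtain ⟨s, rfl⟩ := hsurj m
    exact hgen' s
  obtain ⟨W, hdW⟩ := exists_dominating ((algebraMap L M).comp (algebraMap B L))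
  have hcompat : ∀ a : A, ((algebraMap L M).comp (algebraMap B L)).comp (algebraMap A B) a =
      algebraMap K₁ M (((algebraMap K K₁).comp (algebraMap A K)) a) := by
    intro a
    show algebraMap L M (algebraMap B L (algebraMap A B a)) =
      algebraMap K₁ M (algebraMap K K₁ (algebraMap A K a))
    rw [← IsScalarTower.algebraMap_apply K K₁ M, ← IsScalarTower.algebraMap_apply A B L,
      IsScalarTower.algebraMap_apply A K L, ← IsScalarTower.algebraMap_apply K L M]
  have hdA : EtRam.Dominates A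
      (((algebraMap L M).comp (algebraMap B L)).comp (algebraMap A B)) W := by
    refine ⟨fun a => hdW.1 _, fun a ha => hdW.2 _ ?_⟩
    rw [mem_maximalIdeal] at ha ⊢
    intro hu
    exact ha (isUnit_of_map_unit (algebraMap A B) a hu)
  have hdV' : EtRam.Dominates A ((algebraMap K K₁).comp (algebraMap A K))
      (W.comap (algebraMap K₁ M)) :=
    dominates_of_comap _ (algebraMap K₁ M) W _ hcompat hdA
  have hV₁ : V₁ = W.comap (algebraMap K₁ M) := ht.2.1 _ _ hdV₁ hdV'
  obtain ⟨Φ, hΦ, -, h2⟩ := totRam_core A B K L K₁ hw V₁ hdV₁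
    (ht.2.2 _ hdV₁) M hgen W hdW hV₁
  have hΦθ : ∀ t, Φ t = p (θ t) := by
    intro t
    induction t using TensorProduct.induction_on with
    | zero => rw [map_zero, map_zero, map_zero]
    | tmul b v => rw [hΦ, hθ, hp]
    | add x y hx hy => rw [map_add, map_add, map_add, hx, hy]
  intro t
  rw [← hΦθ]
  exact h2 t

set_option maxHeartbeats 1600000 in
theorem isField_of_totRam (A B K L : Type u) [CommRing A] [IsDomain A]
    [IsDiscreteValuationRing A]
    [CommRing B] [IsDomain B] [IsDiscreteValuationRing B] [Algebra A B]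
    [IsLocalHom (algebraMap A B)]
    [Field K] [Field L] [Algebra A K] [IsFractionRing A K] [Algebra B L] [IsFractionRing B L]
    [Algebra K L] [Algebra A L] [IsScalarTower A K L] [IsScalarTower A B L]
    (hw : EtRam.IsWeaklyUnramified A B) (K₁ : Type u) [Field K₁] [Algebra K K₁]
    [FiniteDimensional K K₁] [Algebra.IsSeparable K K₁]
    (ht : EtRam.IsTotallyRamified A ((algebraMap K K₁).comp (algebraMap A K))) :
    IsField (L ⊗[K] K₁) := by
  obtain ⟨V₁, hdV₁⟩ := ht.1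
  letI : Algebra A V₁ :=
    (RingHom.codRestrict ((algebraMap K K₁).comp (algebraMap A K)) V₁ hdV₁.1).toAlgebra
  obtain ⟨θ, hθ⟩ := theta_exists A B K L K₁ V₁ (fun a => rfl)
  have hclear := exists_clear A B K L K₁ V₁ θ hθ
  have key : ∀ (𝔮 : Ideal (L ⊗[K] K₁)), 𝔮.IsMaximal → ∀ t, θ t ∈ 𝔮 ↔ ∃ s, s ∉ Ideal.map
      (Algebra.TensorProduct.includeRight : V₁ →ₐ[A] B ⊗[A] V₁).toRingHom (maximalIdeal V₁) ∧
        s * t = 0 := by
    intro 𝔮 h𝔮 t
    letI : Field (L ⊗[K] K₁ ⧸ 𝔮) := Ideal.Quotient.field 𝔮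
    letI : Algebra K₁ (L ⊗[K] K₁ ⧸ 𝔮) := ((Ideal.Quotient.mk 𝔮).comp
      (Algebra.TensorProduct.includeRight : K₁ →ₐ[K] L ⊗[K] K₁).toRingHom).toAlgebra
    haveI : IsScalarTower K K₁ (L ⊗[K] K₁ ⧸ 𝔮) := IsScalarTower.of_algebraMap_eq (fun k => by
      show Ideal.Quotient.mk 𝔮 (algebraMap K (L ⊗[K] K₁) k) =
        Ideal.Quotient.mk 𝔮 ((1 : L) ⊗ₜ[K] (algebraMap K K₁ k))
      congr 1
      rw [Algebra.TensorProduct.algebraMap_apply, Algebra.algebraMap_eq_smul_one,
        Algebra.algebraMap_eq_smul_one (A := K₁), TensorProduct.smul_tmul])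
    have h := ker_char A B K L hw K₁ ht V₁ hdV₁ (L ⊗[K] K₁ ⧸ 𝔮) (Ideal.Quotient.mk 𝔮)
      (fun l k => by
        show Ideal.Quotient.mk 𝔮 (l ⊗ₜ[K] k) = Ideal.Quotient.mk 𝔮 (l ⊗ₜ[K] (1 : K₁)) *
          Ideal.Quotient.mk 𝔮 ((1 : L) ⊗ₜ[K] k)
        rw [← map_mul, Algebra.TensorProduct.tmul_mul_tmul, mul_one, one_mul])
      Ideal.Quotient.mk_surjective θ hθ t
    rw [← Ideal.Quotient.eq_zero_iff_mem]
    exact h
  -- any two maximal ideals are comparable
  have hle : ∀ (𝔮 𝔮' : Ideal (L ⊗[K] K₁)), 𝔮.IsMaximal → 𝔮'.IsMaximal → 𝔮 ≤ 𝔮' := by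
    intro 𝔮 𝔮' h𝔮 h𝔮' s hs
    obtain ⟨d, t, hd, hdt⟩ := hclear s
    have h1 : θ t ∈ 𝔮 := hdt ▸ Ideal.mul_mem_left _ _ hs
    have h2 : θ t ∈ 𝔮' := (key 𝔮' h𝔮' t).mpr ((key 𝔮 h𝔮 t).mp h1)
    rw [← hdt] at h2
    exact (h𝔮'.isPrime.mem_or_mem h2).resolve_left
      (fun h => h𝔮'.ne_top (Ideal.eq_top_of_isUnit_mem _ h hd))
  haveI : Nontrivial (L ⊗[K] K₁) :=
    (Algebra.TensorProduct.includeLeft_injective (R := K) (S := K) (A := L) (B := K₁)
      (algebraMap K K₁).injective).nontrivial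
  obtain ⟨𝔮₀, h𝔮₀⟩ := Ideal.exists_maximal (L ⊗[K] K₁)
  haveI : IsLocalRing (L ⊗[K] K₁) := IsLocalRing.of_unique_max_ideal
    ⟨𝔮₀, h𝔮₀, fun 𝔮 h𝔮 => le_antisymm (hle 𝔮 𝔮₀ h𝔮 h𝔮₀) (hle 𝔮₀ 𝔮 h𝔮₀ h𝔮)⟩
  haveI : Algebra.FormallyUnramified K K₁ := Algebra.FormallyUnramified.of_isSeparable K K₁
  haveI : IsReduced (L ⊗[K] K₁) := Algebra.FormallyUnramified.isReduced_of_field L (L ⊗[K] K₁)
  haveI : IsArtinianRing (L ⊗[K] K₁) := IsArtinianRing.of_finite L (L ⊗[K] K₁)
  exact IsArtinianRing.isField_of_isReduced_of_isLocalRing _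

end TotRamH8
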