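import Mathlib
import Groth.Prelude.Def_EtRam
import Groth.Agent.Lib.TotRam2_helper8

/-!
# A criterion for total ramification (helper8)

`A` a DVR with fraction field `K` and uniformizer `π`, `L/K` finite of degree `≤ e`, `t ∈ L` such
that for every valuation subring `V` of `L` dominating `A` one has `v(t ^ e) = v(π)`.  Then `L/K`
is totally ramified with respect to `A` and of degree exactly `e`.
-/

set_option autoImplicit false
universe u

namespace Groth.Agent.Lib.TotRamCritH8

open IsLocalRing

theorem algebraMap_injective' (A K L : Type u) [CommRing A] [IsDomain A] [Field K] [Field L]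
    [Algebra A K] [IsFractionRing A K] [Algebra K L] [Algebra A L] [IsScalarTower A K L] :
    Function.Injective (algebraMap A L) := by
  rw [IsScalarTower.algebraMap_eq A K L]
  exact (algebraMap K L).injective.comp (IsFractionRing.injective A K)

section val

variable {A : Type u} [CommRing A] [IsDomain A] [IsDiscreteValuationRing A]
  {K L : Type u} [Field K] [Field L] [Algebra A K] [IsFractionRing A K] [Algebra K L] [Algebra A L]
  [IsScalarTower A K L] (π : A) (hπ : maximalIdeal A = Ideal.span {π})
  (V : ValuationSubring L) (hV : EtRam.Dominates A (algebraMap A L) V)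


variable (hinj : Function.Injective (algebraMap A L))

include hπ in
theorem pi_ne_zero : π ≠ 0 := by
  rintro rfl
  apply IsDiscreteValuationRing.not_a_field A
  rw [hπ, Ideal.span_singleton_eq_bot]

include hπ hV in
theorem val_pi_lt_one : V.valuation (algebraMap A L π) < 1 :=
  hV.2 π (by rw [hπ]; exact Ideal.mem_span_singleton_self π)

include hπ hinj in
theorem val_pi_ne_zero : V.valuation (algebraMap A L π) ≠ 0 := by
  rw [Valuation.ne_zero_iff]
  intro h
  exact pi_ne_zero π hπ (hinj (by rw [h, map_zero]))

include hV in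
theorem val_unit (u : Aˣ) : V.valuation (algebraMap A L (u : A)) = 1 := by
  have h1 : V.valuation (algebraMap A L (u : A)) ≤ 1 :=
    (V.valuation_le_one_iff _).mpr (hV.1 _)
  have h2 : V.valuation (algebraMap A L ((u⁻¹ : Aˣ) : A)) ≤ 1 :=
    (V.valuation_le_one_iff _).mpr (hV.1 _)
  have h3 : V.valuation (algebraMap A L (u : A)) * V.valuation (algebraMap A L ((u⁻¹ : Aˣ) : A)) = 1 := by
    rw [← map_mul, ← map_mul, Units.mul_inv, map_one, map_one]
  apply le_antisymm h1
  by_contra hlt
  push Not at hlt
  have : V.valuation (algebraMap A L (u : A)) * V.valuation (algebraMap A L ((u⁻¹ : Aˣ) : A)) < 1 :=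
    mul_lt_one_of_lt_of_le hlt h2
  rw [h3] at this
  exact lt_irrefl _ this

include hπ hV in
/-- the valuation of a nonzero element of `A` is a power of that of `π` -/
theorem val_eq_pow (a : A) (ha : a ≠ 0) :
    ∃ k : ℕ, V.valuation (algebraMap A L a) = V.valuation (algebraMap A L π) ^ k := by
  have hirr : Irreducible π := by
    rw [IsDiscreteValuationRing.irreducible_iff_uniformizer]; exact hπ
  obtain ⟨k, u, hu⟩ := IsDiscreteValuationRing.eq_unit_mul_pow_irreducible ha hirr
  refine ⟨k, ?_⟩
  rw [hu, map_mul, map_mul, map_pow, map_pow, val_unit V hV u, one_mul]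

include hπ hV in
/-- the valuation of a nonzero element of `K` is a quotient of powers of that of `π` -/
theorem val_frac (c : K) (hc : c ≠ 0) :
    ∃ k₁ k₂ : ℕ, V.valuation (algebraMap K L c) * V.valuation (algebraMap A L π) ^ k₂ =
      V.valuation (algebraMap A L π) ^ k₁ := by
  obtain ⟨a, b, hb, rfl⟩ := IsFractionRing.div_surjective (A := A) c
  have hb0 : b ≠ 0 := nonZeroDivisors.ne_zero hb
  have ha0 : a ≠ 0 := by
    rintro rfl
    rw [map_zero, zero_div] at hc
    exact hc rfl
  obtain ⟨k₁, hk₁⟩ := val_eq_pow π hπ V hV a ha0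
  obtain ⟨k₂, hk₂⟩ := val_eq_pow π hπ V hV b hb0
  refine ⟨k₁, k₂, ?_⟩
  rw [← hk₁, ← hk₂, ← map_mul, map_div₀, ← IsScalarTower.algebraMap_apply,
    ← IsScalarTower.algebraMap_apply, div_mul_cancel₀]
  intro h
  exact hb0 (algebraMap_injective' A K L (by rw [h, map_zero]))

end val

end Groth.Agent.Lib.TotRamCritH8
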