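import Mathlib
import Groth.Prelude.Def_EtRam
import Groth.Agent.Lib.TotRamCrit1_helper8

/-!
# A criterion for total ramification, part 2 (helper8)
-/

set_option autoImplicit false
universe u

namespace Groth.Agent.Lib.TotRamCritH8

open IsLocalRing

section val

variable {A : Type u} [CommRing A] [IsDomain A] [IsDiscreteValuationRing A]
  {K L : Type u} [Field K] [Field L] [Algebra A K] [IsFractionRing A K] [Algebra K L] [Algebra A L]
  [IsScalarTower A K L] (π : A) (hπ : maximalIdeal A = Ideal.span {π})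
  (V : ValuationSubring L) (hV : EtRam.Dominates A (algebraMap A L) V)
  (e : ℕ) (t : L) (hte : V.valuation (t ^ e) = V.valuation (algebraMap A L π))

include hπ hte in
theorem val_t_ne_zero (hinj : Function.Injective (algebraMap A L)) (he : 0 < e) :
    V.valuation t ≠ 0 := by
  intro h
  have h1 := val_pi_ne_zero π hπ V hinj
  rw [← hte, map_pow, h, zero_pow he.ne'] at h1
  exact h1 rfl

include hπ hV hte in
theorem val_t_lt_one (he : 0 < e) : V.valuation t < 1 := by
  have h1 := val_pi_lt_one π hπ V hV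
  rw [← hte, map_pow] at h1
  by_contra h2
  push Not at h2
  exact absurd (one_le_pow₀ h2 : 1 ≤ V.valuation t ^ e) (not_le.mpr h1)

include hπ hV hte in
theorem val_ne (i j : ℕ) (hij : i < j) (hje : j < e) (ci cj : K) (hci : ci ≠ 0) (hcj : cj ≠ 0) :
    V.valuation (algebraMap K L ci * t ^ i) ≠ V.valuation (algebraMap K L cj * t ^ j) := by
  intro heq
  have he : 0 < e := by omega
  have hτ0 := val_t_ne_zero π hπ V e t hte (algebraMap_injective' A K L) he
  have hϖ0 := val_pi_ne_zero π hπ V (algebraMap_injective' A K L)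
  have hϖ1 := val_pi_lt_one π hπ V hV
  have hcj' : V.valuation (algebraMap K L cj) ≠ 0 := by
    rw [Valuation.ne_zero_iff]
    exact fun h => hcj ((algebraMap K L).injective (by rw [h, map_zero]))
  -- the quotient
  have hc : ci / cj ≠ 0 := div_ne_zero hci hcj
  have h1 : V.valuation (algebraMap K L (ci / cj)) = V.valuation t ^ (j - i) := by
    rw [map_mul, map_mul, map_pow, map_pow] at heq
    have hj : j = i + (j - i) := by omega
    rw [hj, pow_add] at heq
    have h2 : V.valuation (algebraMap K L ci) =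
        V.valuation (algebraMap K L cj) * V.valuation t ^ (j - i) := by
      have h3 : V.valuation (algebraMap K L ci) * V.valuation t ^ i =
          (V.valuation (algebraMap K L cj) * V.valuation t ^ (j - i)) * V.valuation t ^ i := by
        rw [heq, mul_assoc, mul_comm (V.valuation t ^ i)]
      exact mul_right_cancel₀ (pow_ne_zero i hτ0) h3
    rw [map_div₀, map_div₀, h2, mul_div_assoc, mul_comm, div_mul_cancel₀ _ hcj']
  obtain ⟨k₁, k₂, hk⟩ := val_frac π hπ V hV (ci / cj) hc
  rw [h1] at hk
  have h2 : V.valuation (algebraMap A L π) ^ ((j - i) + k₂ * e) =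
      V.valuation (algebraMap A L π) ^ (k₁ * e) := by
    have h3 := congrArg (fun x => x ^ e) hk
    beta_reduce at h3
    rw [mul_pow, ← pow_mul, ← pow_mul, ← pow_mul, mul_comm (j - i) e, pow_mul, ← map_pow, hte] at h3
    rw [pow_add]
    exact h3
  have h4 := pow_right_injective₀ (zero_lt_iff.mpr hϖ0) hϖ1.ne h2
  have h5 : e ∣ (j - i) + k₂ * e := ⟨k₁, by rw [h4]; ring⟩
  have h6 : e ∣ j - i := (Nat.dvd_add_left (Dvd.intro_left k₂ rfl)).mp h5
  have h7 := Nat.le_of_dvd (by omega) h6
  omega

include hπ hV hte in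
theorem val_ne' (i j : ℕ) (hij : i ≠ j) (hie : i < e) (hje : j < e) (ci cj : K) (hci : ci ≠ 0)
    (hcj : cj ≠ 0) :
    V.valuation (algebraMap K L ci * t ^ i) ≠ V.valuation (algebraMap K L cj * t ^ j) := by
  rcases lt_or_gt_of_ne hij with h | h
  · exact val_ne π hπ V hV e t hte i j h hje ci cj hci hcj
  · exact (val_ne π hπ V hV e t hte j i h hie cj ci hcj hci).symm

include hπ hV hte in
/-- The valuation of a `K`-combination of `1, t, …, t^(e-1)` dominates that of each term. -/
theorem val_term_le_val_sum (c : Fin e → K) (i : Fin e) :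
    V.valuation (algebraMap K L (c i) * t ^ (i : ℕ)) ≤
      V.valuation (∑ j : Fin e, algebraMap K L (c j) * t ^ (j : ℕ)) := by
  classical
  have he : 0 < e := i.pos
  have hτ0 := val_t_ne_zero π hπ V e t hte (algebraMap_injective' A K L) he
  have ht0 : t ≠ 0 := (Valuation.ne_zero_iff _).mp hτ0
  by_cases hall : ∀ j, c j = 0
  · rw [hall i, map_zero, zero_mul, map_zero]; exact zero_le
  push Not at hall
  obtain ⟨j₁, hj₁⟩ := hall
  obtain ⟨i₀, -, hi₀⟩ := Finset.exists_max_image Finset.univ
    (fun j : Fin e => V.valuation (algebraMap K L (c j) * t ^ (j : ℕ))) ⟨i, Finset.mem_univ i⟩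
  have hterm_ne : ∀ j, c j ≠ 0 → V.valuation (algebraMap K L (c j) * t ^ (j : ℕ)) ≠ 0 := by
    intro j hj
    rw [Valuation.ne_zero_iff]
    refine mul_ne_zero ?_ (pow_ne_zero _ ht0)
    exact fun h => hj ((algebraMap K L).injective (by rw [h, map_zero]))
  have hi₀pos : V.valuation (algebraMap K L (c i₀) * t ^ (i₀ : ℕ)) ≠ 0 := by
    intro h0
    have h1 := hi₀ j₁ (Finset.mem_univ _)
    beta_reduce at h1
    rw [h0] at h1
    exact hterm_ne j₁ hj₁ (le_antisymm h1 zero_le)
  have hci₀ : c i₀ ≠ 0 := by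
    intro h0
    apply hi₀pos
    rw [h0, map_zero, zero_mul, map_zero]
  have hlt : ∀ j ∈ Finset.univ.erase i₀, V.valuation (algebraMap K L (c j) * t ^ (j : ℕ)) <
      V.valuation (algebraMap K L (c i₀) * t ^ (i₀ : ℕ)) := by
    intro j hj
    have hji : j ≠ i₀ := Finset.ne_of_mem_erase hj
    refine lt_of_le_of_ne (hi₀ j (Finset.mem_univ _)) ?_
    by_cases hcj : c j = 0
    · rw [hcj, map_zero, zero_mul, map_zero]; exact fun h => hi₀pos h.symm
    · exact val_ne' π hπ V hV e t hte j i₀ (fun h => hji (Fin.ext h)) j.2 i₀.2 _ _ hcj hci₀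
  have hsum : V.valuation (∑ j ∈ Finset.univ.erase i₀, algebraMap K L (c j) * t ^ (j : ℕ)) <
      V.valuation (algebraMap K L (c i₀) * t ^ (i₀ : ℕ)) :=
    Valuation.map_sum_lt _ hi₀pos hlt
  have htot : V.valuation (∑ j : Fin e, algebraMap K L (c j) * t ^ (j : ℕ)) =
      V.valuation (algebraMap K L (c i₀) * t ^ (i₀ : ℕ)) := by
    rw [← Finset.add_sum_erase Finset.univ _ (Finset.mem_univ i₀)]
    exact Valuation.map_add_eq_of_lt_left _ hsum
  rw [htot]
  exact hi₀ i (Finset.mem_univ _)

include hπ hV hte in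
theorem linearIndependent_pow : LinearIndependent K (fun i : Fin e => t ^ (i : ℕ)) := by
  rw [Fintype.linearIndependent_iff]
  intro c hc i
  have he : 0 < e := i.pos
  have hτ0 := val_t_ne_zero π hπ V e t hte (algebraMap_injective' A K L) he
  have ht0 : t ≠ 0 := (Valuation.ne_zero_iff _).mp hτ0
  have h1 := val_term_le_val_sum π hπ V hV e t hte c i
  have h2 : (∑ j : Fin e, algebraMap K L (c j) * t ^ (j : ℕ)) = 0 := by
    rw [← hc]
    exact Finset.sum_congr rfl (fun j _ => (Algebra.smul_def _ _).symm)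
  rw [h2, map_zero] at h1
  have h3 : algebraMap K L (c i) * t ^ (i : ℕ) = 0 := by
    by_contra h
    exact absurd (le_antisymm h1 zero_le) ((Valuation.ne_zero_iff _).mpr h)
  rcases mul_eq_zero.mp h3 with h | h
  · exact (algebraMap K L).injective (by rw [h, map_zero])
  · exact absurd h (pow_ne_zero _ ht0)

end val

end Groth.Agent.Lib.TotRamCritH8
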