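import Mathlib
import Groth.Prelude.Def_EtRam
import Groth.Agent.Lib.TotRamCrit2_helper8

/-!
# A criterion for total ramification, part 3 (helper8)
-/

set_option autoImplicit false
universe u

namespace Groth.Agent.Lib.TotRamCritH8

open IsLocalRing

section val

variable {A : Type u} [CommRing A] [IsDomain A] [IsDiscreteValuationRing A]
  {K L : Type u} [Field K] [Field L] [Algebra A K] [IsFractionRing A K] [Algebra K L] [Algebra A L]
  [IsScalarTower A K L] (π : A) (hπ : maximalIdeal A = Ideal.span {π})
  (V : ValuationSubring L) (hV : EtRam.Dominates A (algebraMap A L) V)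
  (e : ℕ) (t : L) (hte : V.valuation (t ^ e) = V.valuation (algebraMap A L π))

include hπ hV hte in
theorem sum_mem_iff (c : Fin e → K) :
    (∑ j : Fin e, algebraMap K L (c j) * t ^ (j : ℕ)) ∈ V ↔
      ∀ j, c j ∈ (algebraMap A K).range := by
  constructor
  · intro hx j
    have he : 0 < e := j.pos
    have hτ0 := val_t_ne_zero π hπ V e t hte (algebraMap_injective' A K L) he
    have hτ1 := val_t_lt_one π hπ V hV e t hte he
    have h1 := val_term_le_val_sum π hπ V hV e t hte c j
    have h2 : V.valuation (algebraMap K L (c j) * t ^ (j : ℕ)) ≤ 1 :=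
      h1.trans ((V.valuation_le_one_iff _).mpr hx)
    by_contra hcj
    rcases ValuationRing.isInteger_or_isInteger A (c j) with ⟨z, hz⟩ | ⟨z, hz⟩
    · exact hcj ⟨z, hz⟩
    · have hc0 : c j ≠ 0 := by
        intro h0
        exact hcj ⟨0, by rw [h0, map_zero]⟩
      have hzm : z ∈ maximalIdeal A := by
        rw [mem_maximalIdeal]
        intro hzu
        obtain ⟨w, hw⟩ := hzu.exists_right_inv
        apply hcj
        refine ⟨w, ?_⟩
        have h3 : algebraMap A K z * algebraMap A K w = 1 := by
          rw [← map_mul, hw, map_one]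
        rw [hz] at h3
        exact (eq_of_inv_mul_eq_one h3).symm
      rw [hπ, Ideal.mem_span_singleton'] at hzm
      obtain ⟨z', rfl⟩ := hzm
      have hvz : V.valuation (algebraMap A L (z' * π)) ≤ V.valuation (algebraMap A L π) := by
        rw [map_mul, map_mul]
        have : V.valuation (algebraMap A L z') ≤ 1 := (V.valuation_le_one_iff _).mpr (hV.1 _)
        exact mul_le_of_le_one_left zero_le this
      have hcv : V.valuation (algebraMap K L (c j)) ≠ 0 := by
        rw [Valuation.ne_zero_iff]
        exact fun h => hc0 ((algebraMap K L).injective (by rw [h, map_zero]))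
      have hinv : V.valuation (algebraMap A L (z' * π)) = (V.valuation (algebraMap K L (c j)))⁻¹ := by
        rw [IsScalarTower.algebraMap_apply A K L, hz, map_inv₀, map_inv₀]
      rw [hinv, ← hte, map_pow] at hvz
      -- 1 ≤ v(c) τ^e
      have h3 : 1 ≤ V.valuation (algebraMap K L (c j)) * V.valuation t ^ e := by
        have := mul_le_mul_right hvz (V.valuation (algebraMap K L (c j)))
        rwa [mul_inv_cancel₀ hcv] at this
      rw [map_mul, map_pow] at h2
      have h4 : V.valuation (algebraMap K L (c j)) * V.valuation t ^ (j : ℕ) ≤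
          V.valuation (algebraMap K L (c j)) * V.valuation t ^ e := h2.trans h3
      have h5 : V.valuation t ^ (j : ℕ) ≤ V.valuation t ^ e :=
        le_of_mul_le_mul_left h4 (zero_lt_iff.mpr hcv)
      rw [pow_le_pow_iff_right_of_lt_one₀ (zero_lt_iff.mpr hτ0) hτ1] at h5
      exact absurd j.2 (not_lt.mpr h5)
  · intro hc
    refine V.toSubring.sum_mem fun j _ => ?_
    have he : 0 < e := j.pos
    have hτ1 := val_t_lt_one π hπ V hV e t hte he
    have htV : t ∈ V := (V.valuation_le_one_iff _).mp hτ1.le
    obtain ⟨a, ha⟩ := hc j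
    refine V.mul_mem _ _ ?_ (V.toSubring.pow_mem htV _)
    rw [← ha, ← IsScalarTower.algebraMap_apply]
    exact hV.1 a

end val


section main

variable {A : Type u} [CommRing A] [IsDomain A] [IsDiscreteValuationRing A]
  {K L : Type u} [Field K] [Field L] [Algebra A K] [IsFractionRing A K] [Algebra K L] [Algebra A L]
  [IsScalarTower A K L]

/-- **Total ramification criterion.** -/
theorem isTotallyRamified_of_pow_eq (π : A) (hπ : maximalIdeal A = Ideal.span {π}) (e : ℕ)
    (he : 0 < e) [FiniteDimensional K L] (hfin : Module.finrank K L ≤ e) (t : L)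
    (ht : ∀ V : ValuationSubring L, EtRam.Dominates A (algebraMap A L) V →
      V.valuation (t ^ e) = V.valuation (algebraMap A L π)) :
    EtRam.IsTotallyRamified A (algebraMap A L) ∧ Module.finrank K L = e := by
  classical
  obtain ⟨V₀, hV₀⟩ := TotRamH8.exists_dominating (algebraMap A L)
  have hli := linearIndependent_pow (K := K) π hπ V₀ hV₀ e t (ht V₀ hV₀)
  have hcard : Fintype.card (Fin e) = Module.finrank K L := by
    apply le_antisymm hli.fintype_card_le_finrank
    rw [Fintype.card_fin]; exact hfin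
  have hspan := hli.span_eq_top_of_card_eq_finrank' hcard
  have hrep : ∀ x : L, ∃ c : Fin e → K, (∑ j : Fin e, algebraMap K L (c j) * t ^ (j : ℕ)) = x := by
    intro x
    have hx : x ∈ Submodule.span K (Set.range (fun i : Fin e => t ^ (i : ℕ))) := by
      rw [hspan]; trivial
    rw [Submodule.mem_span_range_iff_exists_fun] at hx
    obtain ⟨c, hc⟩ := hx
    refine ⟨c, ?_⟩
    rw [← hc]
    exact Finset.sum_congr rfl (fun j _ => (Algebra.smul_def _ _).symm)
  refine ⟨⟨⟨V₀, hV₀⟩, ?_, ?_⟩, by rw [← hcard, Fintype.card_fin]⟩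
  · intro V V' hV hV'
    ext x
    obtain ⟨c, rfl⟩ := hrep x
    rw [sum_mem_iff π hπ V hV e t (ht V hV) c, sum_mem_iff π hπ V' hV' e t (ht V' hV') c]
  · intro V hV v
    obtain ⟨b, rfl⟩ := residue_surjective v
    obtain ⟨c, hc⟩ := hrep (b : L)
    have hmem : (∑ j : Fin e, algebraMap K L (c j) * t ^ (j : ℕ)) ∈ V := by rw [hc]; exact b.2
    rw [sum_mem_iff π hπ V hV e t (ht V hV) c] at hmem
    choose a ha using hmem
    have hτ1 := val_t_lt_one π hπ V hV e t (ht V hV) he
    refine ⟨a ⟨0, he⟩, ?_⟩
    show residue V (RingHom.codRestrict (algebraMap A L) V hV.1 (a ⟨0, he⟩)) = residue V b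
    rw [eq_comm, ← sub_eq_zero, ← map_sub, residue_eq_zero_iff,
      ValuationSubring.valuation_lt_one_iff]
    have h1 : ((b - RingHom.codRestrict (algebraMap A L) V hV.1 (a ⟨0, he⟩) : V) : L) =
        ∑ j ∈ Finset.univ.erase (⟨0, he⟩ : Fin e), algebraMap K L (c j) * t ^ (j : ℕ) := by
      have h2 : ((b - RingHom.codRestrict (algebraMap A L) V hV.1 (a ⟨0, he⟩) : V) : L) =
          (b : L) - algebraMap A L (a ⟨0, he⟩) := rfl
      rw [h2, ← hc, ← Finset.add_sum_erase Finset.univ _ (Finset.mem_univ (⟨0, he⟩ : Fin e)),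
        ← ha ⟨0, he⟩, ← IsScalarTower.algebraMap_apply]
      simp
    rw [h1]
    apply Valuation.map_sum_lt _ one_ne_zero
    intro j hj
    have hj0 : (j : ℕ) ≠ 0 := by
      intro h0
      exact Finset.ne_of_mem_erase hj (Fin.ext h0)
    rw [map_mul, map_pow]
    have h3 : V.valuation (algebraMap K L (c j)) ≤ 1 := by
      rw [V.valuation_le_one_iff, ← ha j, ← IsScalarTower.algebraMap_apply]
      exact hV.1 _
    have h4 : V.valuation t ^ (j : ℕ) < 1 := pow_lt_one₀ zero_le hτ1 hj0
    exact mul_lt_one_of_nonneg_of_lt_one_right h3 zero_le h4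

end main

end Groth.Agent.Lib.TotRamCritH8
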