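import Mathlib
import Groth.Prelude.Def_EtRam
import Groth.Agent.Lib.MonoLoc2_helper8
import Groth.Agent.Lib.TotRamCrit3_helper8

/-!
# Monogenic extensions of DVRs: shared lemmas (helper8)
-/

set_option autoImplicit false
universe u

namespace Groth.Agent.Lib.ASDvrH8

open IsLocalRing Polynomial

section shared

variable {A : Type u} [CommRing A] [IsDomain A] [IsDiscreteValuationRing A]
  {K L : Type u} [Field K] [Field L] [Algebra A K] [IsFractionRing A K] [Algebra K L] [Algebra A L]
  [IsScalarTower A K L]

omit [IsDiscreteValuationRing A] in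
/-- If `L = K(z)` and `z` lies in the subfield generated by `A` and `y`, then that subfield is
everything. -/
theorem closure_eq_top (z : L) (hgen : IntermediateField.adjoin K {z} = ⊤) (y : L)
    (hzy : z ∈ Subfield.closure (Set.range (algebraMap A L) ∪ {y})) :
    Subfield.closure (Set.range (algebraMap A L) ∪ {y}) = ⊤ := by
  rw [eq_top_iff]
  have h1 : (IntermediateField.adjoin K {z}).toSubfield =
      Subfield.closure (Set.range (algebraMap K L) ∪ {z}) := IntermediateField.adjoin_toSubfield ..
  have h2 : (⊤ : Subfield L) = Subfield.closure (Set.range (algebraMap K L) ∪ {z}) := by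
    rw [← h1, hgen]; rfl
  rw [h2, Subfield.closure_le]
  rintro x (⟨c, rfl⟩ | hx)
  · obtain ⟨a, b, hb, rfl⟩ := IsFractionRing.div_surjective (A := A) c
    rw [map_div₀, ← IsScalarTower.algebraMap_apply, ← IsScalarTower.algebraMap_apply]
    exact div_mem (Subfield.subset_closure (Or.inl ⟨a, rfl⟩))
      (Subfield.subset_closure (Or.inl ⟨b, rfl⟩))
  · rw [Set.mem_singleton_iff] at hx
    rw [hx]; exact hzy

omit [IsDomain A] [IsDiscreteValuationRing A] in
theorem isWeaklyUnramified_of_forall [IsLocalRing A] (π : A)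
    (hπ : maximalIdeal A = Ideal.span {π})
    (V : ValuationSubring L) [Algebra A V] [IsLocalHom (algebraMap A V)]
    (hcompat : ∀ a, ((algebraMap A V a : V) : L) = algebraMap A L a)
    (h : ∀ x ∈ V, V.valuation x < 1 → ∃ y ∈ V, x = algebraMap A L π * y) :
    EtRam.IsWeaklyUnramified A V := by
  unfold EtRam.IsWeaklyUnramified
  apply le_antisymm
  · rw [Ideal.map_le_iff_le_comap]
    intro a ha
    rw [Ideal.mem_comap, mem_maximalIdeal]
    intro hu
    exact (mem_maximalIdeal a).mp ha (isUnit_of_map_unit (algebraMap A V) a hu)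
  · intro x hx
    rw [ValuationSubring.valuation_lt_one_iff] at hx
    obtain ⟨y, hy, hxy⟩ := h x x.2 hx
    have h1 : x = algebraMap A V π * ⟨y, hy⟩ :=
      Subtype.ext (by rw [MulMemClass.coe_mul, hcompat]; exact hxy)
    rw [h1]
    exact Ideal.mul_mem_right _ _ (Ideal.mem_map_of_mem _
      (by rw [hπ]; exact Ideal.mem_span_singleton_self π))

omit [IsDomain A] [IsDiscreteValuationRing A] in
theorem residue_mem_adjoin [IsLocalRing A]
    (V : ValuationSubring L) [Algebra A V] [IsLocalHom (algebraMap A V)]
    (hcompat : ∀ a, ((algebraMap A V a : V) : L) = algebraMap A L a) (z : L) (hzV : z ∈ V)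
    (h : ∀ x ∈ V, ∃ q : A[X], V.valuation (x - eval₂ (algebraMap A L) z q) < 1)
    (x : ResidueField V) :
    x ∈ Algebra.adjoin (ResidueField A) {residue V ⟨z, hzV⟩} := by
  obtain ⟨v, rfl⟩ := residue_surjective x
  obtain ⟨q, hq⟩ := h v v.2
  have h1 : ((eval₂ (algebraMap A V) ⟨z, hzV⟩ q : V) : L) = eval₂ (algebraMap A L) z q := by
    have := Polynomial.hom_eval₂ q (algebraMap A V) V.subtype ⟨z, hzV⟩
    refine this.trans ?_
    congr 1
    ext a
    exact hcompat a
  have h2 : residue V v = residue V (eval₂ (algebraMap A V) ⟨z, hzV⟩ q) := by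
    rw [← sub_eq_zero, ← map_sub, residue_eq_zero_iff, ValuationSubring.valuation_lt_one_iff]
    have : ((v - eval₂ (algebraMap A V) ⟨z, hzV⟩ q : V) : L) =
        (v : L) - eval₂ (algebraMap A L) z q := by
      rw [← h1]; rfl
    rw [this]; exact hq
  rw [h2, Polynomial.hom_eval₂]
  have h3 : (residue V).comp (algebraMap A V) =
      (algebraMap (ResidueField A) (ResidueField V)).comp (residue A) := by
    ext a; rfl
  rw [h3, ← Polynomial.eval₂_map, ← aeval_def]
  exact aeval_mem_adjoin_singleton _ _

end shared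

end Groth.Agent.Lib.ASDvrH8
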