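import Mathlib

/-!
# Artin–Schreier extensions: field-theoretic facts (helper8)

For a field `K` of characteristic `p` and `L = K(z)` with `z ^ p - z = ξ ∈ K`:
`L/K` is Galois and of degree `1` or `p`.
-/

set_option autoImplicit false
universe u

namespace Groth.Agent.Lib.ASExtH8

open Polynomial IntermediateField

section basic

variable (p : ℕ) [hp : Fact p.Prime] {K : Type u} [Field K] [CharP K p]

/-- The Artin–Schreier polynomial `X ^ p - X - ξ`. -/
noncomputable def asPoly (ξ : K) : K[X] := X ^ p - X - C ξ

theorem asPoly_monic (ξ : K) : (asPoly p ξ).Monic := by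
  unfold asPoly
  have h1 : 1 < p := hp.out.one_lt
  rw [sub_sub]
  apply monic_X_pow_sub
  refine lt_of_le_of_lt (degree_add_le _ _) (max_lt ?_ ?_)
  · rw [degree_X]; exact_mod_cast h1
  · exact lt_of_le_of_lt degree_C_le (by exact_mod_cast hp.out.pos)

theorem asPoly_natDegree (ξ : K) : (asPoly p ξ).natDegree = p := by
  unfold asPoly
  have h1 : 1 < p := hp.out.one_lt
  rw [sub_sub]
  have hd : degree (X + C ξ : K[X]) < degree ((X : K[X]) ^ p) := by
    rw [degree_X_pow]
    refine lt_of_le_of_lt (degree_add_le _ _) (max_lt ?_ ?_)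
    · rw [degree_X]; exact_mod_cast h1
    · exact lt_of_le_of_lt degree_C_le (by exact_mod_cast hp.out.pos)
  rw [natDegree_sub_eq_left_of_natDegree_lt (natDegree_lt_natDegree (X_add_C_ne_zero ξ) hd), natDegree_X_pow]

theorem asPoly_ne_zero (ξ : K) : asPoly p ξ ≠ 0 := (asPoly_monic p ξ).ne_zero

theorem asPoly_derivative (ξ : K) : derivative (asPoly p ξ) = -1 := by
  unfold asPoly
  rw [derivative_sub, derivative_sub, derivative_X_pow, derivative_X, derivative_C]
  have : (C (p : K) : K[X]) = 0 := by rw [CharP.cast_eq_zero, C_0]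
  rw [this]
  simp

theorem asPoly_separable (ξ : K) : (asPoly p ξ).Separable := by
  rw [separable_def, asPoly_derivative]
  exact (isCoprime_one_right).neg_right

end basic

section ext

variable (p : ℕ) [hp : Fact p.Prime] {K L : Type u} [Field K] [Field L] [Algebra K L] [CharP K p]

omit hp in
theorem charP_top (K : Type u) {L : Type u} [Field K] [Field L] [Algebra K L] [CharP K p] : CharP L p :=
  charP_of_injective_algebraMap (algebraMap K L).injective p

variable [CharP L p]

/-- The prime field inside `L`. -/
noncomputable def iota : ZMod p →+* L := ZMod.castHom (dvd_refl p) L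

theorem iota_injective : Function.Injective (iota p (L := L)) := (iota p).injective

theorem iota_pow (i : ZMod p) : (iota p i : L) ^ p = iota p i := by
  rw [← map_pow, ZMod.pow_card]

variable {p}

theorem as_eq_add (ξ : K) (z : L) (hz : z ^ p - z = algebraMap K L ξ) (i : ZMod p) :
    (z + iota p i) ^ p - (z + iota p i) = algebraMap K L ξ := by
  rw [add_pow_char, iota_pow, ← hz]; ring

theorem aeval_asPoly (ξ : K) (y : L) : aeval y (asPoly p ξ) = y ^ p - y - algebraMap K L ξ := by
  simp [asPoly]

theorem aeval_asPoly_add (ξ : K) (z : L) (hz : z ^ p - z = algebraMap K L ξ) (i : ZMod p) :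
    aeval (z + iota p i) (asPoly p ξ) = 0 := by
  rw [aeval_asPoly, as_eq_add ξ z hz i, sub_self]

end ext

end Groth.Agent.Lib.ASExtH8
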