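import Mathlib
import Groth.Agent.Lib.ASExt1_helper8

/-!
# Artin–Schreier extensions are Galois of degree `1` or `p` (helper8)
-/

set_option autoImplicit false
universe u

namespace Groth.Agent.Lib.ASExtH8

open Polynomial IntermediateField

variable {p : ℕ} [hp : Fact p.Prime] {K L : Type u} [Field K] [Field L] [Algebra K L] [CharP K p]
  [CharP L p]

theorem splits_asPoly (ξ : K) (z : L) (hz : z ^ p - z = algebraMap K L ξ) :
    ((asPoly p ξ).map (algebraMap K L)).Splits := by
  classical
  rw [splits_iff_card_roots]
  have hmon : ((asPoly p ξ).map (algebraMap K L)).Monic := (asPoly_monic p ξ).map _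
  have hdeg : ((asPoly p ξ).map (algebraMap K L)).natDegree = p := by
    rw [natDegree_map, asPoly_natDegree]
  rw [hdeg]
  apply le_antisymm
  · exact (card_roots' ((asPoly p ξ).map (algebraMap K L))).trans hdeg.le
  · let s : Finset L := Finset.univ.image (fun i : ZMod p => z + iota p i)
    have hs : s.card = p := by
      rw [Finset.card_image_of_injective _ (fun i j h => iota_injective p (add_left_cancel h)),
        Finset.card_univ, ZMod.card]
    have hle : s.val ≤ ((asPoly p ξ).map (algebraMap K L)).roots := by
      rw [Multiset.le_iff_subset s.nodup]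
      intro y hy
      rw [Finset.mem_val, Finset.mem_image] at hy
      obtain ⟨i, -, rfl⟩ := hy
      rw [mem_roots hmon.ne_zero, IsRoot, eval_map_algebraMap]
      exact aeval_asPoly_add ξ z hz i
    calc p = s.card := hs.symm
      _ = Multiset.card s.val := rfl
      _ ≤ _ := Multiset.card_le_card hle

theorem isSplittingField_asPoly (ξ : K) (z : L) (hz : z ^ p - z = algebraMap K L ξ)
    (hgen : IntermediateField.adjoin K {z} = ⊤) : (asPoly p ξ).IsSplittingField K L := by
  refine ⟨splits_asPoly ξ z hz, ?_⟩
  have hzroot : z ∈ (asPoly p ξ).rootSet L := by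
    rw [mem_rootSet]
    refine ⟨asPoly_ne_zero p ξ, ?_⟩
    have := aeval_asPoly_add ξ z hz 0
    simpa using this
  have hzalg : IsAlgebraic K z := ⟨asPoly p ξ, asPoly_ne_zero p ξ, (mem_rootSet.mp hzroot).2⟩
  have h1 : Algebra.adjoin K {z} = ⊤ := by
    have h2 := IntermediateField.adjoin_simple_toSubalgebra_of_isAlgebraic hzalg
    rw [hgen] at h2
    rw [← h2]; rfl
  rw [eq_top_iff, ← h1]
  exact Algebra.adjoin_mono (Set.singleton_subset_iff.mpr hzroot)

theorem isGalois_of_as (ξ : K) (z : L) (hz : z ^ p - z = algebraMap K L ξ)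
    (hgen : IntermediateField.adjoin K {z} = ⊤) : IsGalois K L := by
  haveI := isSplittingField_asPoly ξ z hz hgen
  exact IsGalois.of_separable_splitting_field (asPoly_separable p ξ)

theorem finiteDimensional_of_as (ξ : K) (z : L) (hz : z ^ p - z = algebraMap K L ξ)
    (hgen : IntermediateField.adjoin K {z} = ⊤) : FiniteDimensional K L := by
  haveI := isSplittingField_asPoly ξ z hz hgen
  exact IsSplittingField.finiteDimensional L (asPoly p ξ)

theorem isIntegral_of_as (ξ : K) (z : L) (hz : z ^ p - z = algebraMap K L ξ) : IsIntegral K z :=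
  ⟨asPoly p ξ, asPoly_monic p ξ, by
    have := aeval_asPoly_add ξ z hz 0
    rw [← aeval_def]; simpa using this⟩

theorem finrank_le_of_as (ξ : K) (z : L) (hz : z ^ p - z = algebraMap K L ξ)
    (hgen : IntermediateField.adjoin K {z} = ⊤) : Module.finrank K L ≤ p := by
  have hint := isIntegral_of_as ξ z hz
  have h1 : Module.finrank K K⟮z⟯ = (minpoly K z).natDegree := IntermediateField.adjoin.finrank hint
  have h2 : Module.finrank K K⟮z⟯ = Module.finrank K L := by
    rw [hgen]; exact IntermediateField.finrank_top'
  rw [← h2, h1, ← asPoly_natDegree p ξ]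
  apply natDegree_le_of_dvd _ (asPoly_ne_zero p ξ)
  apply minpoly.dvd
  have := aeval_asPoly_add ξ z hz 0
  simpa using this

/-- An automorphism moves `z` by an element of the prime field. -/
theorem exists_iota_of_algEquiv (ξ : K) (z : L) (hz : z ^ p - z = algebraMap K L ξ)
    (σ : L ≃ₐ[K] L) : ∃ i : ZMod p, σ z = z + iota p i := by
  classical
  have hσ : aeval (σ z) (asPoly p ξ) = 0 := by
    have h0 : aeval z (asPoly p ξ) = 0 := by
      have := aeval_asPoly_add ξ z hz 0
      simpa using this
    have : aeval (σ z) (asPoly p ξ) = σ (aeval z (asPoly p ξ)) := by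
      rw [← AlgEquiv.coe_toAlgHom, ← aeval_algHom_apply]
    rw [this, h0, map_zero]
  -- `σ z` is a root of the AS polynomial, all of whose roots are `z + i`
  by_contra hcon
  push Not at hcon
  have hmon : ((asPoly p ξ).map (algebraMap K L)).Monic := (asPoly_monic p ξ).map _
  have hdeg : ((asPoly p ξ).map (algebraMap K L)).natDegree = p := by
    rw [natDegree_map, asPoly_natDegree]
  let s : Finset L := insert (σ z) (Finset.univ.image (fun i : ZMod p => z + iota p i))
  have hs : s.card = p + 1 := by
    rw [Finset.card_insert_of_notMem, Finset.card_image_of_injective _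
      (fun i j h => iota_injective p (add_left_cancel h)), Finset.card_univ, ZMod.card]
    intro hmem
    rw [Finset.mem_image] at hmem
    obtain ⟨i, -, hi⟩ := hmem
    exact hcon i hi.symm
  have hle : s.val ≤ ((asPoly p ξ).map (algebraMap K L)).roots := by
    rw [Multiset.le_iff_subset s.nodup]
    intro y hy
    rw [Finset.mem_val, Finset.mem_insert, Finset.mem_image] at hy
    rw [mem_roots hmon.ne_zero, IsRoot, eval_map_algebraMap]
    rcases hy with rfl | ⟨i, -, rfl⟩
    · exact hσ
    · exact aeval_asPoly_add ξ z hz i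
  have h1 : p + 1 ≤ p := by
    calc p + 1 = Multiset.card s.val := hs.symm
      _ ≤ Multiset.card ((asPoly p ξ).map (algebraMap K L)).roots := Multiset.card_le_card hle
      _ ≤ _ := card_roots' _
      _ = p := hdeg
  omega

theorem algEquiv_ext_of_as (z : L) (hzalg : IsAlgebraic K z)
    (hgen : IntermediateField.adjoin K {z} = ⊤) (σ τ : L ≃ₐ[K] L) (h : σ z = τ z) : σ = τ := by
  have h1 : Algebra.adjoin K {z} = ⊤ := by
    have h2 := IntermediateField.adjoin_simple_toSubalgebra_of_isAlgebraic hzalg
    rw [hgen] at h2
    rw [← h2]; rfl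
  have h3 : (σ : L →ₐ[K] L) = (τ : L →ₐ[K] L) := by
    apply AlgHom.ext_of_adjoin_eq_top h1
    intro x hx
    rw [Set.mem_singleton_iff] at hx
    rw [hx]; exact h
  ext x
  exact DFunLike.congr_fun h3 x

theorem finrank_of_as (ξ : K) (z : L) (hz : z ^ p - z = algebraMap K L ξ)
    (hgen : IntermediateField.adjoin K {z} = ⊤) :
    Module.finrank K L = 1 ∨ Module.finrank K L = p := by
  classical
  haveI := isGalois_of_as ξ z hz hgen
  haveI := finiteDimensional_of_as ξ z hz hgen
  have hzalg : IsAlgebraic K z := (isIntegral_of_as ξ z hz).isAlgebraic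
  -- the character
  choose χ hχ using exists_iota_of_algEquiv ξ z hz
  let f : (L ≃ₐ[K] L) →* Multiplicative (ZMod p) :=
    { toFun := fun σ => Multiplicative.ofAdd (χ σ)
      map_one' := by
        have h1 := hχ 1
        rw [AlgEquiv.one_apply] at h1
        have h2 : iota p (χ 1) = (0 : L) := by
          have : z + 0 = z + iota p (χ 1) := by rw [add_zero]; exact h1
          exact (add_left_cancel this).symm
        have h3 : χ 1 = 0 := iota_injective p (by rw [h2, map_zero])
        rw [h3]; rfl
      map_mul' := by
        intro σ τ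
        have h1 := hχ (σ * τ)
        rw [AlgEquiv.mul_apply, hχ τ, map_add, hχ σ] at h1
        have hfix : σ (iota p (χ τ)) = iota p (χ τ) := by
          have : (iota p (χ τ) : L) = algebraMap K L ((ZMod.castHom (dvd_refl p) K) (χ τ)) := by
            have := RingHom.congr_fun (RingHom.ext_zmod
              ((algebraMap K L).comp (ZMod.castHom (dvd_refl p) K)) (iota p (L := L))) (χ τ)
            exact this.symm
          rw [this, AlgEquiv.commutes]
        rw [hfix, add_assoc] at h1
        have h2 : iota p (χ σ) + iota p (χ τ) = (iota p (χ (σ * τ)) : L) := add_left_cancel h1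
        rw [← map_add] at h2
        have h3 := iota_injective p h2
        show Multiplicative.ofAdd (χ (σ * τ)) = Multiplicative.ofAdd (χ σ) * Multiplicative.ofAdd (χ τ)
        rw [← ofAdd_add, h3] }
  have hf : Function.Injective f := by
    intro σ τ h
    have h1 : χ σ = χ τ := Multiplicative.ofAdd.injective h
    apply algEquiv_ext_of_as z hzalg hgen
    rw [hχ σ, hχ τ, h1]
  have hdvd : Nat.card (L ≃ₐ[K] L) ∣ Nat.card (Multiplicative (ZMod p)) :=
    Subgroup.card_dvd_of_injective f hf
  rw [IsGalois.card_aut_eq_finrank] at hdvd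
  have hc : Nat.card (Multiplicative (ZMod p)) = p := by
    rw [Nat.card_eq_fintype_card, Fintype.card_multiplicative]
    exact ZMod.card p
  rw [hc] at hdvd
  exact (Nat.dvd_prime hp.out).mp hdvd

end Groth.Agent.Lib.ASExtH8
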