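import Mathlib
import Groth.Prelude.Def_EtRam
import Groth.Agent.Lib.ASDvr1_helper8
import Groth.Agent.Lib.ASExt2_helper8

/-!
# Artin–Schreier extensions of a DVR: the integral case (A) (helper8)
-/

set_option autoImplicit false
universe u

namespace Groth.Agent.Lib.ASDvrH8

open IsLocalRing Polynomial Groth.Agent.Lib.ASExtH8 Groth.Agent.Lib.MonoLocH8

section caseA

variable (p : ℕ) [hp : Fact p.Prime] {A : Type u} [CommRing A] [IsDomain A]
  [IsDiscreteValuationRing A]
  {K L : Type u} [Field K] [Field L] [Algebra A K] [IsFractionRing A K] [Algebra K L] [Algebra A L]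
  [IsScalarTower A K L] [CharP K p]

include K in
theorem charP_base : CharP A p :=
  (algebraMap A K).charP (IsFractionRing.injective A K) p

include K in
theorem charP_residue : CharP (ResidueField A) p := by
  haveI := charP_base p (A := A) (K := K)
  rw [CharP.charP_iff_prime_eq_zero hp.out]
  have h1 : ((p : A) : A) = 0 := CharP.cast_eq_zero A p
  have h2 := congrArg (residue A) h1
  rwa [map_natCast, map_zero] at h2

/-- the Artin–Schreier polynomial over `A` -/
noncomputable def asPolyA (a₀ : A) : A[X] := X ^ p - X - C a₀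

omit [IsDomain A] [IsDiscreteValuationRing A] in
theorem asPolyA_monic (a₀ : A) [Nontrivial A] : (asPolyA p a₀).Monic := by
  unfold asPolyA
  have h1 : 1 < p := hp.out.one_lt
  rw [sub_sub]
  apply monic_X_pow_sub
  refine lt_of_le_of_lt (degree_add_le _ _) (max_lt ?_ ?_)
  · rw [degree_X]; exact_mod_cast h1
  · exact lt_of_le_of_lt degree_C_le (by exact_mod_cast hp.out.pos)

omit [IsDomain A] [IsDiscreteValuationRing A] hp in
theorem asPolyA_map {B : Type u} [CommRing B] (f : A →+* B) (a₀ : A) :
    (asPolyA p a₀).map f = X ^ p - X - C (f a₀) := by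
  simp [asPolyA]

variable {p}

/-- Case (A): if `ξ ∈ A` then `L/K` is unramified with respect to `A`. -/
theorem caseA (π : A) (hπ : maximalIdeal A = Ideal.span {π}) (a₀ : A) (z : L)
    (hz : z ^ p - z = algebraMap K L (algebraMap A K a₀))
    (hgen : IntermediateField.adjoin K {z} = ⊤) :
    EtRam.IsUnramifiedExt A (algebraMap A L) := by
  haveI := charP_residue p (A := A) (K := K)
  intro V hV
  letI : Algebra A V := (RingHom.codRestrict (algebraMap A L) V hV.1).toAlgebra
  intro hloc
  have hcompat : ∀ a, ((algebraMap A V a : V) : L) = algebraMap A L a := fun a => rfl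
  have hsq : Squarefree ((asPolyA p a₀).map (residue A)) := by
    rw [asPolyA_map]
    exact (asPoly_separable p (residue A a₀)).squarefree
  have hζ : eval₂ (algebraMap A L) z (asPolyA p a₀) = 0 := by
    unfold asPolyA
    rw [eval₂_sub, eval₂_sub, eval₂_pow, eval₂_X, eval₂_C, hz, ← IsScalarTower.algebraMap_apply,
      sub_self]
  have hcl : Subfield.closure (Set.range (algebraMap A L) ∪ {z}) = ⊤ :=
    closure_eq_top (K := K) z hgen z (Subfield.subset_closure (Or.inr rfl))
  have hφt : V.valuation (algebraMap A L π) < 1 :=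
    hV.2 π (by rw [hπ]; exact Ideal.mem_span_singleton_self π)
  obtain ⟨h1, h2⟩ := local_structure_of_squarefree π hπ V (algebraMap A L) hV.1 hφt
    (asPolyA p a₀) (asPolyA_monic p a₀) hsq z hζ hcl
  have hzV : z ∈ V := mem_of_eval₂_eq_zero V (algebraMap A L) hV.1 _ (asPolyA_monic p a₀) z hζ
  refine ⟨isWeaklyUnramified_of_forall π hπ V hcompat h2, ?_⟩
  -- separability of the residue field extension
  have hadj := residue_mem_adjoin V hcompat z hzV h1
  haveI : CharP (ResidueField V) p :=
    charP_of_injective_algebraMap (algebraMap (ResidueField A) (ResidueField V)).injective p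
  have hroot : aeval (residue V ⟨z, hzV⟩) (asPoly p (residue A a₀)) = 0 := by
    rw [aeval_asPoly]
    have h3 : (⟨z, hzV⟩ : V) ^ p - ⟨z, hzV⟩ = algebraMap A V a₀ := by
      apply Subtype.ext
      show z ^ p - z = algebraMap A L a₀
      rw [hz, ← IsScalarTower.algebraMap_apply]
    have h4 := congrArg (residue V) h3
    rw [map_sub, map_pow] at h4
    rw [h4]
    show residue V (algebraMap A V a₀) - residue V (algebraMap A V a₀) = 0
    exact sub_self _
  have hsep : IsSeparable (ResidueField A) (residue V ⟨z, hzV⟩) := by
    unfold IsSeparable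
    exact (asPoly_separable p (residue A a₀)).of_dvd (minpoly.dvd _ _ hroot)
  rw [← separableClosure.eq_top_iff, eq_top_iff]
  intro x _
  have hx := hadj x
  have hle : Algebra.adjoin (ResidueField A) {residue V ⟨z, hzV⟩} ≤
      (separableClosure (ResidueField A) (ResidueField V)).toSubalgebra := by
    apply Algebra.adjoin_le
    intro y hy
    rw [Set.mem_singleton_iff] at hy
    rw [hy]
    exact mem_separableClosure_iff.mpr hsep
  exact hle hx

end caseA

end Groth.Agent.Lib.ASDvrH8
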