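import Mathlib
import Groth.Prelude.Def_EtRam
import Groth.Agent.Lib.ASDvr2_helper8

/-!
# Artin–Schreier extensions of a DVR: the totally ramified case (B) (helper8)
-/

set_option autoImplicit false
universe u

namespace Groth.Agent.Lib.ASDvrH8

open IsLocalRing Polynomial Groth.Agent.Lib.ASExtH8 Groth.Agent.Lib.TotRamCritH8

section caseB

variable {p : ℕ} [hp : Fact p.Prime] {A : Type u} [CommRing A] [IsDomain A]
  [IsDiscreteValuationRing A]
  {K L : Type u} [Field K] [Field L] [Algebra A K] [IsFractionRing A K] [Algebra K L] [Algebra A L]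
  [IsScalarTower A K L] [CharP K p]

/-- Case (B): `ξ = π⁻ⁿ a` with `p ∤ n`, `a` a unit: totally ramified of degree `p`. -/
theorem caseB (π : A) (hπ : maximalIdeal A = Ideal.span {π}) (ξ : K) (z : L)
    (hz : z ^ p - z = algebraMap K L ξ) (hgen : IntermediateField.adjoin K {z} = ⊤)
    (n : ℕ) (a : Aˣ) (hn : 0 < n) (hpn : ¬ p ∣ n)
    (hξ : ξ * algebraMap A K π ^ n = algebraMap A K a) :
    EtRam.IsTotallyRamified A (algebraMap A L) ∧ Module.finrank K L = p := by
  haveI : CharP L p := charP_top p K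
  haveI := finiteDimensional_of_as ξ z hz hgen
  have hfin := finrank_le_of_as ξ z hz hgen
  have hcop : Nat.Coprime n p := ((Nat.Prime.coprime_iff_not_dvd hp.out).mpr hpn).symm
  obtain ⟨u, -, hu⟩ := Nat.exists_mul_mod_eq_one_of_coprime hcop hp.out.one_lt
  obtain ⟨w, hw⟩ : ∃ w, n * u = p * w + 1 := ⟨n * u / p, by
    have := Nat.div_add_mod (n * u) p; omega⟩
  refine isTotallyRamified_of_pow_eq π hπ p hp.out.pos hfin
    ((z ^ u)⁻¹ * (algebraMap A L π ^ w)⁻¹) (fun V hV => ?_)
  have hϖ0 := val_pi_ne_zero π hπ V (algebraMap_injective' A K L)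
  have hϖ1 := val_pi_lt_one π hπ V hV
  have hξL : algebraMap K L ξ * algebraMap A L π ^ n = algebraMap A L a := by
    have := congrArg (algebraMap K L) hξ
    rwa [map_mul, map_pow, ← IsScalarTower.algebraMap_apply, ← IsScalarTower.algebraMap_apply]
      at this
  have hvξ : V.valuation (algebraMap K L ξ) * V.valuation (algebraMap A L π) ^ n = 1 := by
    rw [← map_pow, ← map_mul, hξL, val_unit V hV a]
  have hz1 : 1 < V.valuation z := by
    by_contra hle
    push Not at hle
    have hzV : z ∈ V := (V.valuation_le_one_iff _).mp hle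
    have h1 : z ^ p - z ∈ V := V.toSubring.sub_mem (V.toSubring.pow_mem hzV p) hzV
    rw [hz] at h1
    have h2 : V.valuation (algebraMap K L ξ) ≤ 1 := (V.valuation_le_one_iff _).mpr h1
    have h3 : V.valuation (algebraMap A L π) ^ n < 1 := pow_lt_one₀ zero_le hϖ1 hn.ne'
    have h4 : V.valuation (algebraMap K L ξ) * V.valuation (algebraMap A L π) ^ n < 1 :=
      mul_lt_one_of_nonneg_of_lt_one_right h2 zero_le h3
    rw [hvξ] at h4
    exact lt_irrefl _ h4
  have hzp : V.valuation z ^ p = V.valuation (algebraMap K L ξ) := by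
    have h1 : V.valuation z < V.valuation (z ^ p) := by
      rw [map_pow]
      have hp1 : p = (p - 1) + 1 := by have := hp.out.one_lt; omega
      rw [hp1, pow_succ]
      have h2 : 1 < V.valuation z ^ (p - 1) :=
        one_lt_pow₀ hz1 (by have := hp.out.one_lt; omega)
      have h3 : (0 : V.ValueGroup) < V.valuation z := lt_trans zero_lt_one hz1
      calc V.valuation z = 1 * V.valuation z := (one_mul _).symm
        _ < V.valuation z ^ (p - 1) * V.valuation z := by
          exact mul_lt_mul_of_pos_right h2 h3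
    have h2 := Valuation.map_sub_eq_of_lt_left V.valuation h1
    rw [hz, map_pow] at h2
    exact h2.symm
  -- the computation
  have hvξ0 : V.valuation (algebraMap K L ξ) ≠ 0 := by
    intro h0
    rw [h0, zero_mul] at hvξ
    exact zero_ne_one hvξ
  obtain ⟨X, hX⟩ : ∃ X, X = V.valuation (algebraMap K L ξ) ^ u *
      V.valuation (algebraMap A L π) ^ (w * p) := ⟨_, rfl⟩
  have hX0 : X ≠ 0 := by
    rw [hX]; exact mul_ne_zero (pow_ne_zero _ hvξ0) (pow_ne_zero _ hϖ0)
  have e1 : V.valuation (((z ^ u)⁻¹ * (algebraMap A L π ^ w)⁻¹) ^ p) * X = 1 := by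
    rw [map_pow, map_mul, map_inv₀, map_inv₀, map_pow, map_pow, mul_pow, inv_pow, inv_pow,
      ← pow_mul, mul_comm u p, pow_mul, hzp, ← pow_mul, hX, ← mul_inv,
      inv_mul_cancel₀]
    exact mul_ne_zero (pow_ne_zero _ hvξ0) (pow_ne_zero _ hϖ0)
  have e2 : V.valuation (algebraMap A L π) * X = 1 := by
    rw [hX, mul_comm, mul_assoc, ← pow_succ, mul_comm w p, ← hw, pow_mul, ← mul_pow,
      hvξ, one_pow]
  exact mul_right_cancel₀ hX0 (e1.trans e2.symm)

end caseB

end Groth.Agent.Lib.ASDvrH8
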