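import Mathlib
import Groth.Prelude.Def_EtRam
import Groth.Agent.Lib.ASDvr3_helper8

/-!
# Artin–Schreier extensions of a DVR: the inseparable residue case (C) (helper8)
-/

set_option autoImplicit false
universe u

namespace Groth.Agent.Lib.ASDvrH8

open IsLocalRing Polynomial Groth.Agent.Lib.ASExtH8 Groth.Agent.Lib.MonoLocH8

section caseC

variable {p : ℕ} [hp : Fact p.Prime] {A : Type u} [CommRing A] [IsDomain A]
  [IsDiscreteValuationRing A]
  {K L : Type u} [Field K] [Field L] [Algebra A K] [IsFractionRing A K] [Algebra K L] [Algebra A L]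
  [IsScalarTower A K L] [CharP K p]

/-- the polynomial `X ^ p - c X - a` -/
noncomputable def insPoly (p : ℕ) (c a : A) : A[X] := X ^ p - C c * X - C a

omit [IsDomain A] [IsDiscreteValuationRing A] in
theorem insPoly_monic [Nontrivial A] (c a : A) : (insPoly p c a).Monic := by
  unfold insPoly
  have h1 : 1 < p := hp.out.one_lt
  rw [sub_sub]
  apply monic_X_pow_sub
  refine lt_of_le_of_lt (degree_add_le _ _) (max_lt ?_ ?_)
  · exact lt_of_le_of_lt (degree_C_mul_X_le _) (by exact_mod_cast h1)
  · exact lt_of_le_of_lt degree_C_le (by exact_mod_cast hp.out.pos)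

omit [IsDomain A] [IsDiscreteValuationRing A] hp in
theorem insPoly_map {B : Type u} [CommRing B] (f : A →+* B) (c a : A) :
    (insPoly p c a).map f = X ^ p - C (f c) * X - C (f a) := by
  simp [insPoly]

/-- Case (C), local analysis at one dominating valuation subring. -/
theorem caseC_local (π : A) (hπ : maximalIdeal A = Ideal.span {π}) (c a : A)
    (hc : c ∈ maximalIdeal A) (ha : ∀ r : A, residue A a ≠ residue A r ^ p) (y : L)
    (hy : y ^ p = algebraMap A L c * y + algebraMap A L a)
    (hcl : Subfield.closure (Set.range (algebraMap A L) ∪ {y}) = ⊤)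
    (V : ValuationSubring L) (hV : EtRam.Dominates A (algebraMap A L) V) :
    y ∈ V ∧ (∀ x ∈ V, ∃ q : A[X], x = eval₂ (algebraMap A L) y q) ∧
      (∀ x ∈ V, V.valuation x < 1 → ∃ y' ∈ V, x = algebraMap A L π * y') := by
  have hφt : V.valuation (algebraMap A L π) < 1 :=
    hV.2 π (by rw [hπ]; exact Ideal.mem_span_singleton_self π)
  have hirr : Irreducible ((insPoly p c a).map (residue A)) := by
    rw [insPoly_map, (residue_eq_zero_iff c).mpr hc, C_0, zero_mul, sub_zero]
    apply X_pow_sub_C_irreducible_of_prime hp.out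
    intro b hb
    obtain ⟨r, rfl⟩ := residue_surjective b
    exact ha r hb.symm
  have hζ : eval₂ (algebraMap A L) y (insPoly p c a) = 0 := by
    unfold insPoly
    rw [eval₂_sub, eval₂_sub, eval₂_pow, eval₂_X, eval₂_mul, eval₂_C, eval₂_X, eval₂_C, hy]
    ring
  obtain ⟨h1, h2⟩ := surjective_of_irreducible π hπ V (algebraMap A L) hV.1 hφt
    (insPoly p c a) (insPoly_monic c a) hirr y hζ hcl
  exact ⟨mem_of_eval₂_eq_zero V (algebraMap A L) hV.1 _ (insPoly_monic c a) y hζ, h1, h2⟩

omit [IsDomain A] [IsDiscreteValuationRing A] in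
/-- Case (C): the residue field extension is purely inseparable of degree `p`. -/
theorem caseC_residue [IsLocalRing A] [CharP (ResidueField A) p] (c a : A)
    (hc : c ∈ maximalIdeal A) (ha : ∀ r : A, residue A a ≠ residue A r ^ p) (y : L)
    (hy : y ^ p = algebraMap A L c * y + algebraMap A L a)
    (V : ValuationSubring L) [Algebra A V] [IsLocalHom (algebraMap A V)]
    (hcompat : ∀ a, ((algebraMap A V a : V) : L) = algebraMap A L a) (hyV : y ∈ V)
    (h1 : ∀ x ∈ V, ∃ q : A[X], x = eval₂ (algebraMap A L) y q) :
    IsPurelyInseparable (ResidueField A) (ResidueField V) ∧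
      Module.finrank (ResidueField A) (ResidueField V) = p := by
  have hadj : ∀ x : ResidueField V,
      x ∈ Algebra.adjoin (ResidueField A) {residue V ⟨y, hyV⟩} :=
    residue_mem_adjoin V hcompat y hyV (fun x hx => by
      obtain ⟨q, hq⟩ := h1 x hx
      exact ⟨q, by rw [hq, sub_self, map_zero]; exact zero_lt_one⟩)
  have hyp : (residue V ⟨y, hyV⟩) ^ p =
      algebraMap (ResidueField A) (ResidueField V) (residue A a) := by
    have h2 : (⟨y, hyV⟩ : V) ^ p = algebraMap A V c * ⟨y, hyV⟩ + algebraMap A V a := by
      apply Subtype.ext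
      show y ^ p = ((algebraMap A V c : V) : L) * y + ((algebraMap A V a : V) : L)
      rw [hcompat, hcompat]; exact hy
    have h3 := congrArg (residue V) h2
    rw [map_pow, map_add, map_mul] at h3
    rw [h3]
    have h4 : residue V (algebraMap A V c) =
        algebraMap (ResidueField A) (ResidueField V) (residue A c) := rfl
    rw [h4, (residue_eq_zero_iff c).mpr hc, map_zero, zero_mul, zero_add]
    rfl
  haveI : ExpChar (ResidueField A) p := ExpChar.prime hp.out
  haveI : CharP (ResidueField V) p :=
    charP_of_injective_algebraMap (algebraMap (ResidueField A) (ResidueField V)).injective p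
  constructor
  · rw [isPurelyInseparable_iff_pow_mem (ResidueField A) p]
    intro x
    refine ⟨1, ?_⟩
    rw [pow_one]
    have hx := hadj x
    induction hx using Algebra.adjoin_induction with
    | mem x hx =>
      rw [Set.mem_singleton_iff] at hx
      rw [hx, hyp]
      exact ⟨_, rfl⟩
    | algebraMap r => exact ⟨r ^ p, by rw [map_pow]⟩
    | add x y _ _ ihx ihy =>
      rw [add_pow_char]
      exact Subring.add_mem _ ihx ihy
    | mul x y _ _ ihx ihy =>
      rw [mul_pow]
      exact Subring.mul_mem _ ihx ihy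
  · have hirr : Irreducible (X ^ p - C (residue A a) : (ResidueField A)[X]) := by
      apply X_pow_sub_C_irreducible_of_prime hp.out
      intro b hb
      obtain ⟨r, rfl⟩ := residue_surjective b
      exact ha r hb.symm
    have hroot : aeval (residue V ⟨y, hyV⟩) (X ^ p - C (residue A a) : (ResidueField A)[X]) = 0 := by
      rw [map_sub, map_pow, aeval_X, aeval_C, hyp, sub_self]
    have hmin : (X ^ p - C (residue A a) : (ResidueField A)[X]) =
        minpoly (ResidueField A) (residue V ⟨y, hyV⟩) :=
      minpoly.eq_of_irreducible_of_monic hirr hroot (monic_X_pow_sub_C _ hp.out.ne_zero)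
    have hint : IsIntegral (ResidueField A) (residue V ⟨y, hyV⟩) :=
      ⟨_, monic_X_pow_sub_C _ hp.out.ne_zero, hroot⟩
    have hfin := IntermediateField.adjoin.finrank hint
    rw [← hmin, natDegree_X_pow_sub_C] at hfin
    have htop : IntermediateField.adjoin (ResidueField A) {residue V ⟨y, hyV⟩} = ⊤ := by
      rw [eq_top_iff]
      intro x _
      exact IntermediateField.algebra_adjoin_le_adjoin _ _ (hadj x)
    rw [htop, IntermediateField.finrank_top'] at hfin
    exact hfin

/-- Case (C): `ξ = π⁻ⁿ a` with `p ∣ n` and the residue of `a` not a `p`-th power. -/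
theorem caseC (π : A) (hπ : maximalIdeal A = Ideal.span {π}) (ξ : K) (z : L)
    (hz : z ^ p - z = algebraMap K L ξ) (hgen : IntermediateField.adjoin K {z} = ⊤)
    (n : ℕ) (a : A) (hn : 0 < n) (hpn : p ∣ n)
    (ha : ∀ r : A, residue A a ≠ residue A r ^ p)
    (hξ : ξ * algebraMap A K π ^ n = algebraMap A K a) :
    (∃ V : ValuationSubring L, EtRam.Dominates A (algebraMap A L) V) ∧
    (∀ V V' : ValuationSubring L, EtRam.Dominates A (algebraMap A L) V →
      EtRam.Dominates A (algebraMap A L) V' → V = V') ∧
    ∀ (V : ValuationSubring L) (h : EtRam.Dominates A (algebraMap A L) V),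
      letI : Algebra A V := (RingHom.codRestrict (algebraMap A L) V h.1).toAlgebra
      ∀ [IsLocalHom (algebraMap A V)],
        EtRam.IsWeaklyUnramified A V ∧
          IsPurelyInseparable (ResidueField A) (ResidueField V) ∧
          Module.finrank (ResidueField A) (ResidueField V) = p := by
  haveI := charP_residue p (A := A) (K := K)
  obtain ⟨m, rfl⟩ := hpn
  have hm : 0 < m := Nat.pos_of_mul_pos_left hn
  have hp1 : 1 < p := hp.out.one_lt
  have hπm : π ∈ maximalIdeal A := by rw [hπ]; exact Ideal.mem_span_singleton_self π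
  have hc : π ^ (m * (p - 1)) ∈ maximalIdeal A :=
    Ideal.pow_mem_of_mem _ hπm _ (Nat.mul_pos hm (by omega))
  have hP0 : algebraMap A L π ≠ 0 := by
    intro h0
    exact TotRamCritH8.pi_ne_zero π hπ
      (TotRamCritH8.algebraMap_injective' A K L (by rw [h0, map_zero]))
  have hξL : algebraMap K L ξ * algebraMap A L π ^ (p * m) = algebraMap A L a := by
    have := congrArg (algebraMap K L) hξ
    rwa [map_mul, map_pow, ← IsScalarTower.algebraMap_apply, ← IsScalarTower.algebraMap_apply]
      at this
  have hzp : z ^ p = z + algebraMap K L ξ := by linear_combination hz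
  have hexp : algebraMap A L π ^ (m * (p - 1)) * algebraMap A L π ^ m =
      algebraMap A L π ^ (p * m) := by
    rw [← pow_add]
    congr 1
    obtain ⟨k, rfl⟩ : ∃ k, p = k + 1 := ⟨p - 1, by omega⟩
    simp only [Nat.add_sub_cancel]
    ring
  obtain ⟨y, hydef⟩ : ∃ y : L, y = algebraMap A L π ^ m * z := ⟨_, rfl⟩
  have hy : y ^ p =
      algebraMap A L (π ^ (m * (p - 1))) * y + algebraMap A L a := by
    rw [hydef, mul_pow, ← pow_mul, hzp, map_pow, ← mul_assoc, hexp, ← hξL, mul_comm m p]
    ring
  have hcl : Subfield.closure (Set.range (algebraMap A L) ∪ {y}) = ⊤ := by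
    apply closure_eq_top (K := K) z hgen
    have h1 : z = y / algebraMap A L π ^ m := by
      rw [hydef, mul_comm, mul_div_assoc, div_self (pow_ne_zero m hP0), mul_one]
    rw [h1]
    have hy1 : y ∈ Subfield.closure (Set.range (algebraMap A L) ∪ {y}) :=
      Subfield.subset_closure (Or.inr rfl)
    have hP1 : algebraMap A L π ∈ Subfield.closure (Set.range (algebraMap A L) ∪ {y}) :=
      Subfield.subset_closure (Or.inl ⟨π, rfl⟩)
    exact Subfield.div_mem _ hy1 (Subfield.pow_mem _ hP1 m)
  refine ⟨TotRamH8.exists_dominating (algebraMap A L), ?_, ?_⟩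
  · have key : ∀ V V' : ValuationSubring L, EtRam.Dominates A (algebraMap A L) V →
        EtRam.Dominates A (algebraMap A L) V' → V ≤ V' := by
      intro V V' hV hV' x hx
      obtain ⟨-, h1, -⟩ := caseC_local π hπ _ a hc ha _ hy hcl V hV
      obtain ⟨hyV', -, -⟩ := caseC_local π hπ _ a hc ha _ hy hcl V' hV'
      obtain ⟨q, rfl⟩ := h1 x hx
      exact eval₂_mem V' (algebraMap A L) hV'.1 _ hyV' q
    exact fun V V' hV hV' => le_antisymm (key V V' hV hV') (key V' V hV' hV)
  · intro V hV
    letI : Algebra A V := (RingHom.codRestrict (algebraMap A L) V hV.1).toAlgebra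
    intro hloc
    have hcompat : ∀ a, ((algebraMap A V a : V) : L) = algebraMap A L a := fun a => rfl
    obtain ⟨hyV, h1, h2⟩ := caseC_local π hπ _ a hc ha _ hy hcl V hV
    exact ⟨isWeaklyUnramified_of_forall π hπ V hcompat h2,
      caseC_residue _ a hc ha _ hy V hcompat hyV h1⟩

end caseC

end Groth.Agent.Lib.ASDvrH8
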