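import Mathlib
import Groth.Prelude.Def_EtRam
import Groth.Agent.Lib.ASDvr4_helper8

/-!
# Artin–Schreier extensions of a DVR: the four cases in general (helper8)
-/

set_option autoImplicit false
universe u

namespace Groth.Agent.Lib.ASDvrH8

open IsLocalRing Polynomial Groth.Agent.Lib.ASExtH8

/-- Case (4): one dominating valuation ring, weakly unramified, purely inseparable residue field
extension of degree `p`. -/
def Case4 (p : ℕ) (A : Type u) [CommRing A] [IsLocalRing A] {L : Type u} [Field L]
    (g : A →+* L) : Prop :=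
  (∃ V : ValuationSubring L, EtRam.Dominates A g V) ∧
  (∀ V V' : ValuationSubring L, EtRam.Dominates A g V → EtRam.Dominates A g V' → V = V') ∧
  ∀ (V : ValuationSubring L) (h : EtRam.Dominates A g V),
    letI : Algebra A V := (RingHom.codRestrict g V h.1).toAlgebra
    ∀ [IsLocalHom (algebraMap A V)],
      EtRam.IsWeaklyUnramified A V ∧
        IsPurelyInseparable (IsLocalRing.ResidueField A) (IsLocalRing.ResidueField V) ∧
        Module.finrank (IsLocalRing.ResidueField A) (IsLocalRing.ResidueField V) = p

section general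

variable {p : ℕ} [hp : Fact p.Prime] {A : Type u} [CommRing A] [IsDomain A]
  [IsDiscreteValuationRing A]
  {K L : Type u} [Field K] [Field L] [Algebra A K] [IsFractionRing A K] [Algebra K L] [Algebra A L]
  [IsScalarTower A K L] [CharP K p]

theorem adjoin_sub_eq_top (z : L) (hgen : IntermediateField.adjoin K {z} = ⊤) (c : K) :
    IntermediateField.adjoin K {z - algebraMap K L c} = ⊤ := by
  rw [eq_top_iff, ← hgen, IntermediateField.adjoin_simple_le_iff]
  have h1 : (z - algebraMap K L c) + algebraMap K L c ∈
      IntermediateField.adjoin K {z - algebraMap K L c} :=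
    add_mem (IntermediateField.mem_adjoin_simple_self K _)
      (IntermediateField.algebraMap_mem _ c)
  rwa [sub_add_cancel] at h1

theorem cases_general (π : A) (hπ : maximalIdeal A = Ideal.span {π}) :
    ∀ (n : ℕ) (ξ : K) (z : L), z ^ p - z = algebraMap K L ξ →
      IntermediateField.adjoin K {z} = ⊤ →
      (∃ a : A, ξ * algebraMap A K π ^ n = algebraMap A K a) →
      Module.finrank K L = 1 ∨
        (EtRam.IsUnramifiedExt A (algebraMap A L) ∧ Module.finrank K L = p) ∨
        (EtRam.IsTotallyRamified A (algebraMap A L) ∧ Module.finrank K L = p) ∨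
        Case4 p A (algebraMap A L) := by
  haveI : CharP L p := charP_top p K
  have hπ0 : π ≠ 0 := TotRamCritH8.pi_ne_zero π hπ
  have hP0 : algebraMap A K π ≠ 0 := by
    intro h0
    exact hπ0 (IsFractionRing.injective A K (by rw [h0, map_zero]))
  intro n
  induction n using Nat.strong_induction_on with
  | _ n ih =>
    intro ξ z hz hgen ⟨a, ha⟩
    rcases Nat.eq_zero_or_pos n with rfl | hn
    · -- integral case
      rw [pow_zero, mul_one] at ha
      subst ha
      rcases finrank_of_as _ z hz hgen with h1 | h1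
      · exact Or.inl h1
      · exact Or.inr (Or.inl ⟨caseA π hπ a z hz hgen, h1⟩)
    by_cases hau : IsUnit a
    swap
    · -- `a` is divisible by `π`: lower the pole order
      have ham : a ∈ maximalIdeal A := (mem_maximalIdeal a).mpr hau
      rw [hπ, Ideal.mem_span_singleton'] at ham
      obtain ⟨a', rfl⟩ := ham
      refine ih (n - 1) (by omega) ξ z hz hgen ⟨a', ?_⟩
      have hn1 : n = (n - 1) + 1 := by omega
      rw [hn1, pow_succ, ← mul_assoc, map_mul] at ha
      exact mul_right_cancel₀ hP0 ha
    obtain ⟨ua, rfl⟩ := hau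
    by_cases hpn : p ∣ n
    swap
    · exact Or.inr (Or.inr (Or.inl (caseB π hπ ξ z hz hgen n ua hn hpn ha)))
    by_cases hpow : ∃ r : A, residue A (ua : A) = residue A r ^ p
    swap
    · push Not at hpow
      exact Or.inr (Or.inr (Or.inr (caseC π hπ ξ z hz hgen n (ua : A) hn hpn hpow ha)))
    -- the leading coefficient is a `p`-th power: lower the pole order
    obtain ⟨r, hr⟩ := hpow
    obtain ⟨m, rfl⟩ := hpn
    have hp1 : 1 < p := hp.out.one_lt
    have hm : 0 < m := Nat.pos_of_mul_pos_left hn
    have hrm : (ua : A) - r ^ p ∈ maximalIdeal A := by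
      rw [← residue_eq_zero_iff, map_sub, map_pow, hr, sub_self]
    rw [hπ, Ideal.mem_span_singleton'] at hrm
    obtain ⟨b, hb⟩ := hrm
    obtain ⟨c, hc⟩ : ∃ c : K, c = algebraMap A K r / algebraMap A K π ^ m := ⟨_, rfl⟩
    have hz' : (z - algebraMap K L c) ^ p - (z - algebraMap K L c) =
        algebraMap K L (ξ - (c ^ p - c)) := by
      rw [sub_pow_char, map_sub, map_sub, map_pow, ← hz]; ring
    have hmn : m ≤ p * m - 1 := by
      have : 2 * m ≤ p * m := Nat.mul_le_mul_right m hp1
      omega
    refine ih (p * m - 1) (by omega) (ξ - (c ^ p - c)) (z - algebraMap K L c) hz'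
      (adjoin_sub_eq_top z hgen c) ⟨b + r * π ^ (p * m - 1 - m), ?_⟩
    have hn1 : p * m = (p * m - 1) + 1 := by omega
    have hcp : c ^ p * algebraMap A K π ^ (p * m) = algebraMap A K (r ^ p) := by
      rw [hc, div_pow, ← pow_mul, mul_comm m p, map_pow,
        div_mul_cancel₀ _ (pow_ne_zero _ hP0)]
    have h1 : (ξ - c ^ p) * algebraMap A K π ^ (p * m) = algebraMap A K (b * π) := by
      rw [sub_mul, ha, hcp, ← map_sub, hb]
    have h2 : (ξ - c ^ p) * algebraMap A K π ^ (p * m - 1) = algebraMap A K b := by
      have h5 : algebraMap A K π ^ (p * m) = algebraMap A K π ^ (p * m - 1) * algebraMap A K π := by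
        rw [← pow_succ, ← hn1]
      rw [h5, ← mul_assoc, map_mul] at h1
      exact mul_right_cancel₀ hP0 h1
    have h3 : c * algebraMap A K π ^ (p * m - 1) = algebraMap A K (r * π ^ (p * m - 1 - m)) := by
      have h4 : p * m - 1 = m + (p * m - 1 - m) := by omega
      rw [hc, map_mul, map_pow]
      conv_lhs => rw [h4, pow_add]
      field_simp
    rw [map_add, ← h2, ← h3]; ring

omit hp [CharP K p] in
theorem exists_pole_order (π : A) (hπ : maximalIdeal A = Ideal.span {π}) (ξ : K) :
    ∃ (n : ℕ) (a : A), ξ * algebraMap A K π ^ n = algebraMap A K a := by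
  obtain ⟨x, y, hy, rfl⟩ := IsFractionRing.div_surjective (A := A) ξ
  have hy0 : y ≠ 0 := nonZeroDivisors.ne_zero hy
  have hirr : Irreducible π := by
    rw [IsDiscreteValuationRing.irreducible_iff_uniformizer]; exact hπ
  obtain ⟨k, u, hu⟩ := IsDiscreteValuationRing.eq_unit_mul_pow_irreducible hy0 hirr
  refine ⟨k, x * ((u⁻¹ : Aˣ) : A), ?_⟩
  have hy0' : algebraMap A K y ≠ 0 := by
    intro h0
    exact hy0 (IsFractionRing.injective A K (by rw [h0, map_zero]))
  rw [div_mul_eq_mul_div, div_eq_iff hy0', ← map_pow, ← map_mul, ← map_mul]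
  congr 1
  rw [hu]
  have : ((u⁻¹ : Aˣ) : A) * (u : A) = 1 := Units.inv_mul u
  linear_combination (-(x * π ^ k)) * this

end general

end Groth.Agent.Lib.ASDvrH8
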