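import Mathlib
import Groth.Prelude.Def_EssEt

/-!
# Essentially étale local algebras: rigidity, common refinements, henselian lifting
-/

namespace Groth.Agent.Lib.EssEt

open IsLocalRing TensorProduct Polynomial EGA4loc

universe u

/-- two algebra maps from an unramified (ess. finite type) algebra to a local ring that agree
modulo the maximal ideal are equal -/
theorem algHom_eq_of_residue_eq {A C B : Type u} [CommRing A] [CommRing C] [Algebra A C]
    [Algebra.FormallyUnramified A C] [Algebra.EssFiniteType A C]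
    [CommRing B] [IsLocalRing B] [Algebra A B] (f f' : C →ₐ[A] B)
    (h : ∀ c : C, f c - f' c ∈ maximalIdeal B) : f = f' := by
  have hI : IsIdempotentElem (KaehlerDifferential.ideal A C) := by
    apply (Ideal.cotangent_subsingleton_iff _).mp
    exact inferInstanceAs <| Subsingleton (KaehlerDifferential A C)
  obtain ⟨e, he, hIe⟩ :=
    (Ideal.isIdempotentElem_iff_of_fg _ (KaehlerDifferential.ideal_fg A C)).mp hI
  let g : C ⊗[A] C →ₐ[A] B := Algebra.TensorProduct.productMap f f'
  have hg : ∀ c : C, g ((1 : C) ⊗ₜ[A] c - c ⊗ₜ[A] (1 : C)) = f' c - f c := by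
    intro c
    simp only [g, map_sub, Algebra.TensorProduct.productMap_apply_tmul, map_one, one_mul, mul_one]
  have hgI : ∀ x ∈ KaehlerDifferential.ideal A C, g x ∈ maximalIdeal B := by
    intro x hx
    rw [← KaehlerDifferential.span_range_eq_ideal] at hx
    induction hx using Submodule.span_induction with
    | mem x hx =>
      obtain ⟨c, rfl⟩ := hx
      rw [hg, ← neg_sub]
      exact neg_mem (h c)
    | zero => rw [map_zero]; exact zero_mem _
    | add x y _ _ hx hy => rw [map_add]; exact add_mem hx hy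
    | smul a x _ hx => rw [smul_eq_mul, map_mul]; exact Ideal.mul_mem_left _ _ hx
  have heI : e ∈ KaehlerDifferential.ideal A C := by
    rw [hIe]; exact Ideal.mem_span_singleton_self e
  have hge : g e = 0 := by
    have h1 : IsIdempotentElem (g e) := he.map g
    have h2 : g e ∈ maximalIdeal B := hgI e heI
    have h3 : IsUnit (1 - g e) := isUnit_one_sub_self_of_mem_nonunits _ h2
    have h4 : g e * (1 - g e) = 0 := by rw [mul_sub, mul_one, h1.eq, sub_self]
    exact (h3.mul_left_eq_zero).mp h4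
  have hgI0 : ∀ x ∈ KaehlerDifferential.ideal A C, g x = 0 := by
    intro x hx
    rw [hIe] at hx
    obtain ⟨y, rfl⟩ := Ideal.mem_span_singleton'.mp hx
    rw [map_mul, hge, mul_zero]
  ext c
  have := hgI0 _ (KaehlerDifferential.one_smul_sub_smul_one_mem_ideal A c)
  rw [hg] at this
  exact (sub_eq_zero.mp this).symm

theorem inst_of_essEtale {A A₁ : Type u} [CommRing A] [IsLocalRing A] [CommRing A₁] [Algebra A A₁]
    (h₁ : IsEssentiallyEtale A A₁) :
    Algebra.FormallyUnramified A A₁ ∧ Algebra.EssFiniteType A A₁ := by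
  obtain ⟨C, _, _, q, _, hC, _, ⟨e₁⟩⟩ := h₁
  haveI := hC
  haveI : Algebra.FormallyUnramified C (Localization.AtPrime q) :=
    Algebra.FormallyUnramified.of_isLocalization q.primeCompl
  haveI : Algebra.FormallyUnramified A (Localization.AtPrime q) :=
    Algebra.FormallyUnramified.comp A C _
  haveI : Algebra.EssFiniteType C (Localization.AtPrime q) :=
    Algebra.EssFiniteType.of_isLocalization _ q.primeCompl
  haveI : Algebra.EssFiniteType A (Localization.AtPrime q) :=
    Algebra.EssFiniteType.comp A C _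
  exact ⟨Algebra.FormallyUnramified.of_equiv e₁.symm,
    (Algebra.EssFiniteType.iff_of_algEquiv e₁.symm).mp inferInstance⟩

/-- S2782 -/
theorem algHom_eq_of_essEtale {A A₁ A₂ : Type u} [CommRing A] [IsLocalRing A] [CommRing A₁]
    [Algebra A A₁] [CommRing A₂] [IsLocalRing A₂] [Algebra A A₂]
    (h₁ : IsEssentiallyEtale A A₁) (ψ ψ' : A₁ →ₐ[A] A₂)
    (h : ∀ x : A₁, residue A₂ (ψ x) = residue A₂ (ψ' x)) : ψ = ψ' := by
  obtain ⟨_, _⟩ := inst_of_essEtale h₁
  refine algHom_eq_of_residue_eq ψ ψ' (fun x => ?_)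
  rw [← residue_eq_zero_iff, map_sub, h x, sub_self]

theorem algHom_mem_maximalIdeal {A A₁ A₂ : Type u} [CommRing A] [IsLocalRing A] [CommRing A₁]
    [IsLocalRing A₁] [Algebra A A₁] [IsLocalHom (algebraMap A A₁)] [CommRing A₂] [IsLocalRing A₂]
    [Algebra A A₂] [IsLocalHom (algebraMap A A₂)]
    (h₁ : IsEssentiallyEtale A A₁) (ψ : A₁ →ₐ[A] A₂) {x : A₁} (hx : x ∈ maximalIdeal A₁) :
    ψ x ∈ maximalIdeal A₂ := by
  obtain ⟨_, _⟩ := inst_of_essEtale h₁
  rw [← Algebra.FormallyUnramified.map_maximalIdeal (R := A) (S := A₁)] at hx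
  have hle : Ideal.map (algebraMap A A₁) (maximalIdeal A) ≤
      (maximalIdeal A₂).comap ψ.toRingHom := by
    rw [Ideal.map_le_iff_le_comap, Ideal.comap_comap]
    have : ψ.toRingHom.comp (algebraMap A A₁) = algebraMap A A₂ := ψ.comp_algebraMap
    rw [this]
    exact ((local_hom_TFAE (algebraMap A A₂)).out 0 3).mp ‹IsLocalHom (algebraMap A A₂)›
  exact hle hx

theorem exists_algebraMap_sub_mem {A A₁ : Type u} [CommRing A] [IsLocalRing A] [CommRing A₁]
    [IsLocalRing A₁] [Algebra A A₁] [IsLocalHom (algebraMap A A₁)]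
    (h₁ : IsStrictlyEssentiallyEtale A A₁) (x : A₁) :
    ∃ a : A, x - algebraMap A A₁ a ∈ maximalIdeal A₁ := by
  obtain ⟨abar, habar⟩ := h₁.2.2 (residue A₁ x)
  obtain ⟨a, rfl⟩ := residue_surjective abar
  refine ⟨a, ?_⟩
  rw [ResidueField.map_residue] at habar
  rw [← residue_eq_zero_iff, map_sub, habar, sub_self]

/-- S2779 -/
theorem subsingleton_algHom {A A₁ A₂ : Type u} [CommRing A] [IsLocalRing A] [CommRing A₁]
    [IsLocalRing A₁] [Algebra A A₁] [IsLocalHom (algebraMap A A₁)] [CommRing A₂] [IsLocalRing A₂]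
    [Algebra A A₂] [IsLocalHom (algebraMap A A₂)]
    (h₁ : IsStrictlyEssentiallyEtale A A₁) : Subsingleton (A₁ →ₐ[A] A₂) := by
  refine ⟨fun ψ ψ' => algHom_eq_of_essEtale h₁.1 ψ ψ' (fun x => ?_)⟩
  obtain ⟨a, ha⟩ := exists_algebraMap_sub_mem h₁ x
  have h1 := algHom_mem_maximalIdeal h₁.1 ψ ha
  have h2 := algHom_mem_maximalIdeal h₁.1 ψ' ha
  rw [map_sub, AlgHom.commutes] at h1 h2
  rw [← sub_eq_zero, ← map_sub, residue_eq_zero_iff]
  have : ψ x - ψ' x = (ψ x - algebraMap A A₂ a) - (ψ' x - algebraMap A A₂ a) := by ring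
  rw [this]; exact sub_mem h1 h2

theorem isLocalHom_of_comap {A D : Type u} [CommRing A] [IsLocalRing A] [CommRing D] [Algebra A D]
    (q : Ideal D) [q.IsPrime] (hq : q.comap (algebraMap A D) = maximalIdeal A) :
    IsLocalHom (algebraMap A (Localization.AtPrime q)) := by
  refine ⟨fun a ha => ?_⟩
  by_contra hna
  have h1 : a ∈ maximalIdeal A := (mem_maximalIdeal a).mpr hna
  rw [← hq, Ideal.mem_comap] at h1
  rw [IsScalarTower.algebraMap_apply A D (Localization.AtPrime q),
    IsLocalization.AtPrime.isUnit_to_map_iff (Localization.AtPrime q) q] at ha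
  exact ha h1

theorem isUnit_algEquiv_iff {A X Y : Type u} [CommRing A] [CommRing X] [CommRing Y] [Algebra A X]
    [Algebra A Y] (e : X ≃ₐ[A] Y) (x : X) : IsUnit (e x) ↔ IsUnit x := by
  constructor
  · intro h
    have := h.map e.symm
    simpa using this
  · intro h; exact h.map e

/-- the `k`-point of a strictly essentially étale algebra -/
theorem exists_point {A A₁ : Type u} [CommRing A] [IsLocalRing A] [CommRing A₁] [IsLocalRing A₁]
    [Algebra A A₁] [IsLocalHom (algebraMap A A₁)] (h₁ : IsStrictlyEssentiallyEtale A A₁) :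
    ∃ (C : Type u) (_ : CommRing C) (_ : Algebra A C) (q : Ideal C) (_ : q.IsPrime)
      (_ : Algebra.Etale A C) (_ : A₁ ≃ₐ[A] Localization.AtPrime q)
      (ρ : C →ₐ[A] ResidueField A),
      q.comap (algebraMap A C) = maximalIdeal A ∧ ∀ c, ρ c = 0 ↔ c ∈ q := by
  obtain ⟨⟨C, _, _, q, _, hC, hq, ⟨e₁⟩⟩, hbij⟩ := h₁
  let E : ResidueField A ≃+* ResidueField A₁ := RingEquiv.ofBijective _ hbij
  let r₁ : C →+* ResidueField A :=
    (E.symm : ResidueField A₁ →+* ResidueField A).comp ((residue A₁).comp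
      ((e₁.symm : Localization.AtPrime q →+* A₁).comp (algebraMap C (Localization.AtPrime q))))
  have hr₁ : ∀ c, r₁ c = E.symm (residue A₁ (e₁.symm (algebraMap C (Localization.AtPrime q) c))) :=
    fun c => rfl
  let ρ : C →ₐ[A] ResidueField A :=
    { r₁ with
      commutes' := fun a => by
        show r₁ (algebraMap A C a) = algebraMap A (ResidueField A) a
        rw [hr₁, ← IsScalarTower.algebraMap_apply, AlgEquiv.commutes, ResidueField.algebraMap_eq,
          RingEquiv.symm_apply_eq]
        rfl }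
  refine ⟨C, inferInstance, inferInstance, q, inferInstance, hC, e₁, ρ, hq, fun c => ?_⟩
  show r₁ c = 0 ↔ c ∈ q
  rw [hr₁, map_eq_zero_iff _ E.symm.injective, residue_eq_zero_iff, mem_maximalIdeal,
    mem_nonunits_iff, isUnit_algEquiv_iff e₁.symm,
    IsLocalization.AtPrime.isUnit_to_map_iff (Localization.AtPrime q) q, Ideal.mem_primeCompl_iff,
    not_not]

/-- S2780 -/
theorem exists_common {A A₁ A₂ : Type u} [CommRing A] [IsLocalRing A]
    [CommRing A₁] [IsLocalRing A₁] [Algebra A A₁] [IsLocalHom (algebraMap A A₁)]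
    [CommRing A₂] [IsLocalRing A₂] [Algebra A A₂] [IsLocalHom (algebraMap A A₂)]
    (h₁ : IsStrictlyEssentiallyEtale A A₁) (h₂ : IsStrictlyEssentiallyEtale A A₂) :
    ∃ (A₃ : Type u) (_ : CommRing A₃) (_ : IsLocalRing A₃) (_ : Algebra A A₃)
      (_ : IsLocalHom (algebraMap A A₃)),
      IsStrictlyEssentiallyEtale A A₃ ∧ Nonempty (A₁ →ₐ[A] A₃) ∧ Nonempty (A₂ →ₐ[A] A₃) := by
  obtain ⟨C₁, _, _, q₁, _, hC₁, e₁, ρ₁, _, hρ₁⟩ := exists_point h₁
  obtain ⟨C₂, _, _, q₂, _, hC₂, e₂, ρ₂, _, hρ₂⟩ := exists_point h₂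
  haveI := hC₁
  haveI := hC₂
  haveI : Algebra.Etale A (C₁ ⊗[A] C₂) := Algebra.Etale.comp A C₁ (C₁ ⊗[A] C₂)
  let ρ : C₁ ⊗[A] C₂ →ₐ[A] ResidueField A := Algebra.TensorProduct.productMap ρ₁ ρ₂
  let q₃ : Ideal (C₁ ⊗[A] C₂) := RingHom.ker ρ
  haveI : q₃.IsPrime := RingHom.ker_isPrime ρ
  have hmem : ∀ d, d ∈ q₃ ↔ ρ d = 0 := fun d => RingHom.mem_ker
  have hq₃ : q₃.comap (algebraMap A (C₁ ⊗[A] C₂)) = maximalIdeal A := by
    ext a
    rw [Ideal.mem_comap, hmem, AlgHom.commutes, ResidueField.algebraMap_eq, residue_eq_zero_iff]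
  haveI : IsLocalHom (algebraMap A (Localization.AtPrime q₃)) := isLocalHom_of_comap q₃ hq₃
  have hunit : ∀ y : q₃.primeCompl, IsUnit (ρ y) := by
    rintro ⟨y, hy⟩
    rw [isUnit_iff_ne_zero]
    exact fun h0 => hy ((hmem y).mpr h0)
  let ρ' : Localization.AtPrime q₃ →ₐ[A] ResidueField A :=
    IsLocalization.liftAlgHom (M := q₃.primeCompl) (f := ρ) hunit
  have hρ' : ∀ y, ρ' y = 0 → y ∈ maximalIdeal (Localization.AtPrime q₃) := by
    intro y hy
    have hne : RingHom.ker ρ'.toRingHom ≠ ⊤ := RingHom.ker_ne_top _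
    exact le_maximalIdeal hne (RingHom.mem_ker.mpr hy)
  have hbij : Function.Bijective
      (ResidueField.map (algebraMap A (Localization.AtPrime q₃))) := by
    refine ⟨RingHom.injective _, fun ybar => ?_⟩
    obtain ⟨y, rfl⟩ := residue_surjective ybar
    obtain ⟨a, ha⟩ := residue_surjective (ρ' y)
    refine ⟨residue A a, ?_⟩
    rw [ResidueField.map_residue, ← sub_eq_zero, ← map_sub, residue_eq_zero_iff]
    apply hρ'
    rw [map_sub, AlgHom.commutes, ResidueField.algebraMap_eq, ha, sub_self]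
  have hu1 : ∀ y : q₁.primeCompl, IsUnit (((IsScalarTower.toAlgHom A (C₁ ⊗[A] C₂)
      (Localization.AtPrime q₃)).comp Algebra.TensorProduct.includeLeft) y) := by
    rintro ⟨y, hy⟩
    show IsUnit (algebraMap (C₁ ⊗[A] C₂) (Localization.AtPrime q₃) (y ⊗ₜ[A] (1 : C₂)))
    rw [IsLocalization.AtPrime.isUnit_to_map_iff (Localization.AtPrime q₃) q₃,
      Ideal.mem_primeCompl_iff, hmem]
    show ¬ (ρ (y ⊗ₜ[A] (1 : C₂)) = 0)
    rw [Algebra.TensorProduct.productMap_apply_tmul, map_one, mul_one, hρ₁]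
    exact hy
  have hu2 : ∀ y : q₂.primeCompl, IsUnit (((IsScalarTower.toAlgHom A (C₁ ⊗[A] C₂)
      (Localization.AtPrime q₃)).comp Algebra.TensorProduct.includeRight) y) := by
    rintro ⟨y, hy⟩
    show IsUnit (algebraMap (C₁ ⊗[A] C₂) (Localization.AtPrime q₃) ((1 : C₁) ⊗ₜ[A] y))
    rw [IsLocalization.AtPrime.isUnit_to_map_iff (Localization.AtPrime q₃) q₃,
      Ideal.mem_primeCompl_iff, hmem]
    show ¬ (ρ ((1 : C₁) ⊗ₜ[A] y) = 0)
    rw [Algebra.TensorProduct.productMap_apply_tmul, map_one, one_mul, hρ₂]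
    exact hy
  refine ⟨Localization.AtPrime q₃, inferInstance, inferInstance, inferInstance, inferInstance,
    ⟨⟨C₁ ⊗[A] C₂, inferInstance, inferInstance, q₃, inferInstance, inferInstance, hq₃,
      ⟨AlgEquiv.refl⟩⟩, hbij⟩, ⟨?_⟩, ⟨?_⟩⟩
  · exact (IsLocalization.liftAlgHom (M := q₁.primeCompl) hu1).comp e₁.toAlgHom
  · exact (IsLocalization.liftAlgHom (M := q₂.primeCompl) hu2).comp e₂.toAlgHom

/-- henselian lifting of a residue point of an étale algebra -/
theorem exists_lift_of_henselian {A C B : Type u} [CommRing A] [CommRing C] [Algebra A C]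
    [Algebra.Etale A C] (q : Ideal C) [q.IsPrime] [CommRing B] [HenselianLocalRing B]
    [Algebra A B] (ρ : C →ₐ[A] ResidueField B) (hρ : ∀ c, ρ c = 0 ↔ c ∈ q) :
    ∃ φ : Localization.AtPrime q →ₐ[A] B,
      ∀ c : C, residue B (φ (algebraMap C (Localization.AtPrime q) c)) = ρ c := by
  haveI : Algebra.FormallyEtale C (Localization.AtPrime q) :=
    Algebra.FormallyEtale.of_isLocalization q.primeCompl
  haveI : Algebra.IsEtaleAt A q := Algebra.FormallyEtale.comp A C (Localization.AtPrime q)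
  obtain ⟨f, hfq, hstd⟩ := Algebra.IsEtaleAt.exists_isStandardEtale (R := A) q
  obtain ⟨P⟩ := hstd.nonempty_standardEtalePresentation
  have hρf : IsUnit (ρ f) := by
    rw [isUnit_iff_ne_zero]; exact fun h0 => hfq ((hρ f).mp h0)
  have hunitf : ∀ y : Submonoid.powers f, IsUnit (ρ y) := by
    rintro ⟨_, n, rfl⟩
    rw [map_pow]; exact hρf.pow n
  let ρf : Localization.Away f →ₐ[A] ResidueField B :=
    IsLocalization.liftAlgHom (M := Submonoid.powers f) (f := ρ) hunitf
  have hρf_alg : ∀ c : C, ρf (algebraMap C (Localization.Away f) c) = ρ c := fun c =>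
    IsLocalization.lift_eq _ c
  let resB : B →ₐ[A] ResidueField B := IsScalarTower.toAlgHom A B (ResidueField B)
  have hresB : ∀ b, resB b = residue B b := fun b => rfl
  have hxb : P.P.HasMap (ρf P.x) := P.hasMap.map ρf
  obtain ⟨x₀, hx₀⟩ := residue_surjective (ρf P.x)
  have hFm : (P.f.map (algebraMap A B)).Monic := P.monic_f.map _
  have h1 : (P.f.map (algebraMap A B)).eval x₀ ∈ maximalIdeal B := by
    rw [← residue_eq_zero_iff, eval_map_algebraMap, ← hresB, ← aeval_algHom_apply, hresB, hx₀]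
    exact hxb.1
  have h2 : IsUnit ((P.f.map (algebraMap A B)).derivative.eval x₀) := by
    have hu := StandardEtalePair.HasMap.isUnit_derivative_f _ hxb
    rw [← isUnit_map_iff (residue B), derivative_map, eval_map_algebraMap, ← hresB,
      ← aeval_algHom_apply, hresB, hx₀]
    exact hu
  obtain ⟨x, hxroot, hxx₀⟩ := HenselianLocalRing.is_henselian _ hFm x₀ h1 h2
  have hres : residue B x = ρf P.x := by
    rw [← hx₀, ← sub_eq_zero, ← map_sub, residue_eq_zero_iff]; exact hxx₀
  have hmap : P.P.HasMap x := by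
    refine ⟨?_, ?_⟩
    · have := hxroot
      rw [IsRoot.def, eval_map_algebraMap] at this
      exact this
    · rw [← isUnit_map_iff (residue B), ← hresB, ← aeval_algHom_apply, hresB, hres]
      exact hxb.2
  let φf : Localization.Away f →ₐ[A] B := (P.P.lift x hmap).comp P.equivRing.toAlgHom
  have hφfx : φf P.x = x := by
    show P.P.lift x hmap (P.equivRing P.x) = x
    rw [P.equivRing_x, StandardEtalePair.lift_X]
  have hcomp : resB.comp φf = ρf := by
    apply P.hom_ext
    show resB (φf P.x) = ρf P.x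
    rw [hφfx, hresB, hres]
  have hφf_res : ∀ c : C, residue B (φf (algebraMap C (Localization.Away f) c)) = ρ c := by
    intro c
    have := DFunLike.congr_fun hcomp (algebraMap C (Localization.Away f) c)
    rw [hρf_alg] at this
    exact this
  have hunit : ∀ y : q.primeCompl,
      IsUnit ((φf.comp (IsScalarTower.toAlgHom A C (Localization.Away f))) y) := by
    rintro ⟨y, hy⟩
    show IsUnit (φf (algebraMap C (Localization.Away f) y))
    rw [← isUnit_map_iff (residue B), hφf_res, isUnit_iff_ne_zero]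
    exact fun h0 => hy ((hρ y).mp h0)
  refine ⟨IsLocalization.liftAlgHom (M := q.primeCompl) hunit, fun c => ?_⟩
  rw [IsLocalization.coe_liftAlgHom, IsLocalization.lift_eq]
  exact hφf_res c

/-- S2781 (separable closedness of the residue field is not needed) -/
theorem existsUnique_lift {A A' : Type u} [CommRing A] [IsLocalRing A]
    [CommRing A'] [IsLocalRing A'] [Algebra A A'] [IsLocalHom (algebraMap A A')]
    (hA' : IsEssentiallyEtale A A')
    (B : Type u) [CommRing B] [HenselianLocalRing B]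
    (ψ : A →+* B) [IsLocalHom ψ]
    (α : ResidueField A' →+* ResidueField B)
    (hα : α.comp (ResidueField.map (algebraMap A A')) = ResidueField.map ψ) :
    ∃! ψ' : A' →+* B, IsLocalHom ψ' ∧ ψ'.comp (algebraMap A A') = ψ ∧
      ∀ x : A', residue B (ψ' x) = α (residue A' x) := by
  letI : Algebra A B := ψ.toAlgebra
  have halg : ∀ a, algebraMap A B a = ψ a := fun a => rfl
  have hαa : ∀ a : A, α (residue A' (algebraMap A A' a)) = residue B (ψ a) := by
    intro a
    have := DFunLike.congr_fun hα (residue A a)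
    exact this
  obtain ⟨C, _, _, q, _, hC, hq, ⟨e⟩⟩ := id hA'
  haveI := hC
  let r₁ : C →+* ResidueField B :=
    α.comp ((residue A').comp
      ((e.symm : Localization.AtPrime q →+* A').comp (algebraMap C (Localization.AtPrime q))))
  have hr₁ : ∀ c, r₁ c = α (residue A' (e.symm (algebraMap C (Localization.AtPrime q) c))) :=
    fun c => rfl
  let ρ : C →ₐ[A] ResidueField B :=
    { r₁ with
      commutes' := fun a => by
        show r₁ (algebraMap A C a) = algebraMap A (ResidueField B) a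
        rw [hr₁, ← IsScalarTower.algebraMap_apply, AlgEquiv.commutes, hαa,
          IsScalarTower.algebraMap_apply A B (ResidueField B), ResidueField.algebraMap_eq, halg] }
  have hρ : ∀ c, ρ c = 0 ↔ c ∈ q := by
    intro c
    show r₁ c = 0 ↔ c ∈ q
    rw [hr₁, map_eq_zero_iff _ α.injective, residue_eq_zero_iff, mem_maximalIdeal,
      mem_nonunits_iff, isUnit_algEquiv_iff e.symm,
      IsLocalization.AtPrime.isUnit_to_map_iff (Localization.AtPrime q) q,
      Ideal.mem_primeCompl_iff, not_not]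
  obtain ⟨φ, hφ⟩ := exists_lift_of_henselian q ρ hρ
  -- the residue condition for `φ ∘ e`
  have hres : ∀ x : A', residue B (φ (e x)) = α (residue A' x) := by
    have heq : ((residue B).comp φ.toRingHom) =
        (α.comp ((residue A').comp (e.symm : Localization.AtPrime q →+* A'))) := by
      apply IsLocalization.ringHom_ext q.primeCompl
      ext c
      exact hφ c
    intro x
    have := DFunLike.congr_fun heq (e x)
    simpa using this
  have hloc : ∀ ψ' : A' →+* B, (∀ x : A', residue B (ψ' x) = α (residue A' x)) →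
      IsLocalHom ψ' := by
    intro ψ' h
    refine ((local_hom_TFAE ψ').out 3 0).mp (fun x hx => ?_)
    rw [Ideal.mem_comap, ← residue_eq_zero_iff, h x, (residue_eq_zero_iff x).mpr hx, map_zero]
  refine ⟨(φ.toRingHom).comp (e : A' →+* Localization.AtPrime q), ⟨hloc _ hres, ?_, hres⟩, ?_⟩
  · ext a
    show φ (e (algebraMap A A' a)) = ψ a
    rw [AlgEquiv.commutes, AlgHom.commutes, halg]
  · rintro ψ₂ ⟨_, hψ₂, hres₂⟩
    let ψa : A' →ₐ[A] B := { ψ₂ with commutes' := fun a => DFunLike.congr_fun hψ₂ a }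
    let ψb : A' →ₐ[A] B := φ.comp e.toAlgHom
    have : ψa = ψb := algHom_eq_of_essEtale hA' ψa ψb (fun x => by
      show residue B (ψ₂ x) = residue B (φ (e x))
      rw [hres₂, hres])
    ext x
    exact DFunLike.congr_fun this x

/-- S2778 -/
theorem existsUnique_lift_strict {A A' : Type u} [CommRing A] [IsLocalRing A]
    [CommRing A'] [IsLocalRing A'] [Algebra A A'] [IsLocalHom (algebraMap A A')]
    (hA' : IsStrictlyEssentiallyEtale A A')
    (B : Type u) [CommRing B] [HenselianLocalRing B] (ψ : A →+* B) [IsLocalHom ψ] :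
    ∃! ψ' : A' →+* B, IsLocalHom ψ' ∧ ψ'.comp (algebraMap A A') = ψ := by
  let E : ResidueField A ≃+* ResidueField A' := RingEquiv.ofBijective _ hA'.2
  let α : ResidueField A' →+* ResidueField B :=
    (ResidueField.map ψ).comp (E.symm : ResidueField A' →+* ResidueField A)
  have hα : α.comp (ResidueField.map (algebraMap A A')) = ResidueField.map ψ := by
    ext abar
    show ResidueField.map ψ (E.symm (E abar)) = _
    rw [RingEquiv.symm_apply_apply]
  obtain ⟨ψ', ⟨h1, h2, h3⟩, huniq⟩ := existsUnique_lift hA'.1 B ψ α hα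
  refine ⟨ψ', ⟨h1, h2⟩, ?_⟩
  rintro ψ₂ ⟨hl, hc⟩
  refine huniq ψ₂ ⟨hl, hc, fun x => ?_⟩
  obtain ⟨a, ha⟩ := exists_algebraMap_sub_mem hA' x
  have h4 : ψ₂ (x - algebraMap A A' a) ∈ maximalIdeal B := by
    have := ((local_hom_TFAE ψ₂).out 0 3).mp hl
    exact this ha
  have h5 : residue A' x = residue A' (algebraMap A A' a) := by
    rw [← sub_eq_zero, ← map_sub, residue_eq_zero_iff]; exact ha
  have h6 : residue B (ψ₂ x) = residue B (ψ₂ (algebraMap A A' a)) := by
    rw [← sub_eq_zero, ← map_sub, ← map_sub, residue_eq_zero_iff]; exact h4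
  have h7 : ψ₂ (algebraMap A A' a) = ψ a := DFunLike.congr_fun hc a
  rw [h6, h7, h5]
  show _ = ResidueField.map ψ (E.symm (residue A' (algebraMap A A' a)))
  have h8 : residue A' (algebraMap A A' a) = E (residue A a) := rfl
  rw [h8, RingEquiv.symm_apply_apply, ResidueField.map_residue]

end Groth.Agent.Lib.EssEt
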