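import Mathlib
import Groth.Agent.Lib.EssEt_lead

/-!
# Finite algebras over henselian local rings (helper3)

A finite algebra over a henselian local ring is a finite product of local rings, via Mathlib's
étale-local splitting of finite algebras and henselian lifting of residue points of étale algebras.
-/

set_option autoImplicit false
set_option maxSynthPendingDepth 3
universe u

namespace Groth.Agent.Lib.HenselFiniteH3

open IsLocalRing TensorProduct

/-- Over a henselian local ring `R`, an étale `R`-algebra `R'` with a prime `P` over the maximal ideal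
with trivial residue field extension admits a retraction `R' → R` pulling the maximal ideal back
to `P`. -/
theorem exists_retraction (R : Type u) [CommRing R] [HenselianLocalRing R]
    (R' : Type u) [CommRing R'] [Algebra R R'] [Algebra.Etale R R'] (P : Ideal R') [P.IsPrime]
    [P.LiesOver (maximalIdeal R)]
    (hbij : Function.Bijective (Ideal.ResidueField.mapₐ (maximalIdeal R) P (Algebra.ofId R R')
      (P.over_def (maximalIdeal R)))) :
    ∃ ψ : R' →ₐ[R] R, ∀ c : R', ψ c ∈ maximalIdeal R ↔ c ∈ P := by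
  let e₁ : (maximalIdeal R).ResidueField ≃ₐ[R] P.ResidueField := AlgEquiv.ofBijective _ hbij
  let e₂ : (R ⧸ maximalIdeal R) ≃ₐ[R] (maximalIdeal R).ResidueField :=
    AlgEquiv.ofBijective (IsScalarTower.toAlgHom R (R ⧸ maximalIdeal R) _)
      (Ideal.bijective_algebraMap_quotient_residueField (maximalIdeal R))
  let ρ : R' →ₐ[R] ResidueField R :=
    (e₂.symm.toAlgHom.comp e₁.symm.toAlgHom).comp (IsScalarTower.toAlgHom R R' P.ResidueField)
  have hρ : ∀ c, ρ c = 0 ↔ c ∈ P := by
    intro c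
    show e₂.symm (e₁.symm (algebraMap R' P.ResidueField c)) = 0 ↔ c ∈ P
    rw [map_eq_zero_iff _ e₂.symm.injective, map_eq_zero_iff _ e₁.symm.injective,
      Ideal.algebraMap_residueField_eq_zero]
  obtain ⟨φ, hφ⟩ := Groth.Agent.Lib.EssEt.exists_lift_of_henselian (A := R) (C := R') (B := R) P ρ hρ
  refine ⟨φ.comp (IsScalarTower.toAlgHom R R' (Localization.AtPrime P)), fun c => ?_⟩
  rw [← hρ, ← hφ c, residue_eq_zero_iff]
  rfl

/-- A finite algebra over a henselian local ring has complete orthogonal idempotents such that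
each corner contains at most one maximal ideal. -/
theorem exists_idempotents (R : Type u) [CommRing R] [HenselianLocalRing R] (S : Type u)
    [CommRing S] [Algebra R S] [Module.Finite R S] :
    ∃ (n : ℕ) (ε : Fin n → S), CompleteOrthogonalIdempotents ε ∧
      ∀ i, ∀ Q₁ Q₂ : Ideal S, Q₁.IsMaximal → Q₂.IsMaximal → ε i ∉ Q₁ → ε i ∉ Q₂ → Q₁ = Q₂ := by
  obtain ⟨R', _, _, _, P, _, _, n, e, he, P', _, _, hbij, heP', H⟩ :=
    Algebra.exists_etale_completeOrthogonalIdempotents_forall_liesOver_eq (R := R) (S := S)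
      (maximalIdeal R)
  obtain ⟨ψ, hψ⟩ := exists_retraction R R' P hbij
  let Ψ : R' ⊗[R] S →ₐ[R] S := Algebra.TensorProduct.lift ((Algebra.ofId R S).comp ψ)
    (AlgHom.id R S) (fun _ _ => Commute.all _ _)
  have hΨ : ∀ r s, Ψ (r ⊗ₜ s) = algebraMap R S (ψ r) * s := fun r s => by
    simp [Ψ, Algebra.ofId_apply]
  have hΨsurj : Function.Surjective Ψ := fun s => ⟨1 ⊗ₜ s, by simp [hΨ]⟩
  have key : ∀ Q : Ideal S, Q.IsMaximal → (Q.comap Ψ.toRingHom).LiesOver P := by
    intro Q hQ
    have hQm : Q.comap (algebraMap R S) = maximalIdeal R :=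
      IsLocalRing.eq_maximalIdeal (Ideal.isMaximal_comap_of_isIntegral_of_isMaximal Q)
    refine ⟨?_⟩
    ext r'
    rw [Ideal.under_def, Ideal.mem_comap, Ideal.mem_comap, Algebra.TensorProduct.algebraMap_apply,
      Algebra.algebraMap_self_apply]
    show r' ∈ P ↔ Ψ (r' ⊗ₜ[R] (1 : S)) ∈ Q
    rw [hΨ, mul_one, ← Ideal.mem_comap, hQm, hψ]
  refine ⟨n + 1, fun i => Ψ (e i), he.map Ψ.toRingHom, ?_⟩
  intro i Q₁ Q₂ h₁ h₂ hi₁ hi₂
  haveI := key Q₁ h₁
  haveI := key Q₂ h₂
  haveI : (Q₁.comap Ψ.toRingHom).IsPrime := Ideal.comap_isPrime _ _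
  haveI : (Q₂.comap Ψ.toRingHom).IsPrime := Ideal.comap_isPrime _ _
  have H₁ := H (Q₁.comap Ψ.toRingHom) inferInstance inferInstance
  have H₂ := H (Q₂.comap Ψ.toRingHom) inferInstance inferInstance
  induction i using Fin.lastCases with
  | last => exact absurd H₁.1 hi₁
  | cast j =>
    have e₁ := H₁.2 j hi₁
    have e₂ := H₂.2 j hi₂
    exact Ideal.comap_injective_of_surjective Ψ.toRingHom hΨsurj (e₁.trans e₂.symm)

/-- A commutative ring with complete orthogonal idempotents whose corners each contain at most one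
maximal ideal is a finite product of local rings. -/
theorem pi_local_of_idempotents (S : Type u) [CommRing S] {n : ℕ} (ε : Fin n → S)
    (hε : CompleteOrthogonalIdempotents ε)
    (h : ∀ i, ∀ Q₁ Q₂ : Ideal S, Q₁.IsMaximal → Q₂.IsMaximal → ε i ∉ Q₁ → ε i ∉ Q₂ → Q₁ = Q₂) :
    ∃ (ι : Type u) (_ : Fintype ι) (A : ι → Type u) (_ : ∀ i, CommRing (A i)),
      (∀ i, IsLocalRing (A i)) ∧ Nonempty (S ≃+* (∀ i, A i)) := by
  classical
  obtain ⟨J, hJ⟩ : ∃ J : Fin n → Ideal S, J = fun i => Ideal.span {1 - ε i} := ⟨_, rfl⟩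
  have hJmem : ∀ i x, x ∈ J i → x * ε i = 0 := by
    intro i x hx
    rw [hJ] at hx
    obtain ⟨y, rfl⟩ := Ideal.mem_span_singleton'.mp hx
    rw [mul_assoc, sub_mul, one_mul, (hε.idem i).eq, sub_self, mul_zero]
  have hJ1 : ∀ i, 1 - ε i ∈ J i := fun i => by
    rw [hJ]; exact Ideal.mem_span_singleton_self _
  have hJtop : ∀ i, J i = ⊤ → ε i = 0 := by
    intro i hi
    have := hJmem i 1 (hi ▸ Submodule.mem_top)
    rwa [one_mul] at this
  refine ⟨ULift.{u} {i : Fin n // J i ≠ ⊤}, inferInstance, fun i => S ⧸ J i.down.1,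
    fun i => inferInstance, ?_, ?_⟩
  · rintro ⟨⟨i, hi⟩⟩
    show IsLocalRing (S ⧸ J i)
    haveI : Nontrivial (S ⧸ J i) := Ideal.Quotient.nontrivial_iff.mpr hi
    obtain ⟨M, hM⟩ := Ideal.exists_maximal (S ⧸ J i)
    apply IsLocalRing.of_unique_max_ideal
    have hnot : ∀ M' : Ideal (S ⧸ J i), M'.IsMaximal → ε i ∉ M'.comap (Ideal.Quotient.mk (J i)) := by
      intro M' hM' hmem
      rw [Ideal.mem_comap] at hmem
      have h1 : Ideal.Quotient.mk (J i) (1 - ε i) = 0 := Ideal.Quotient.eq_zero_iff_mem.mpr (hJ1 i)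
      rw [map_sub, map_one, sub_eq_zero] at h1
      rw [← h1] at hmem
      exact hM'.ne_top ((Ideal.eq_top_iff_one _).mpr hmem)
    refine ⟨M, hM, fun M' hM' => ?_⟩
    have := h i (M'.comap (Ideal.Quotient.mk (J i))) (M.comap (Ideal.Quotient.mk (J i)))
      (Ideal.comap_isMaximal_of_surjective _ Ideal.Quotient.mk_surjective)
      (Ideal.comap_isMaximal_of_surjective _ Ideal.Quotient.mk_surjective) (hnot M' hM') (hnot M hM)
    exact Ideal.comap_injective_of_surjective _ Ideal.Quotient.mk_surjective this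
  · have hcop : Pairwise (Function.onFun IsCoprime fun i : ULift.{u} {i : Fin n // J i ≠ ⊤} => J i.down.1) := by
      rintro ⟨⟨i, hi⟩⟩ ⟨⟨j, hj⟩⟩ hij
      have hij' : i ≠ j := fun h => hij (by subst h; rfl)
      show IsCoprime (J i) (J j)
      rw [Ideal.isCoprime_iff_exists]
      refine ⟨1 - ε i, hJ1 i, ε i, ?_, by ring⟩
      have : ε i = ε i * (1 - ε j) := by rw [mul_sub, mul_one, hε.ortho hij', sub_zero]
      rw [this]
      exact Ideal.mul_mem_left _ _ (hJ1 j)
    have hinf : ⨅ i : ULift.{u} {i : Fin n // J i ≠ ⊤}, J i.down.1 = ⊥ := by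
      rw [eq_bot_iff]
      intro x hx
      rw [Ideal.mem_iInf] at hx
      rw [Ideal.mem_bot, ← mul_one x, ← hε.complete, Finset.mul_sum]
      refine Finset.sum_eq_zero fun i _ => ?_
      by_cases hi : J i = ⊤
      · rw [hJtop i hi, mul_zero]
      · exact hJmem i x (hx ⟨⟨i, hi⟩⟩)
    exact ⟨(RingEquiv.quotientBot S).symm.trans ((Ideal.quotEquivOfEq hinf.symm).trans
      (Ideal.quotientInfRingEquivPiQuotient _ hcop))⟩

/-- A finite algebra over a henselian local ring is a finite product of local rings. -/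
theorem exists_pi_local (R : Type u) [CommRing R] [HenselianLocalRing R] (S : Type u)
    [CommRing S] [Algebra R S] [Module.Finite R S] :
    ∃ (ι : Type u) (_ : Fintype ι) (A : ι → Type u) (_ : ∀ i, CommRing (A i)),
      (∀ i, IsLocalRing (A i)) ∧ Nonempty (S ≃+* (∀ i, A i)) := by
  obtain ⟨n, ε, hε, h⟩ := exists_idempotents R S
  exact pi_local_of_idempotents S ε hε h

end Groth.Agent.Lib.HenselFiniteH3
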