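import Mathlib

/-!
# Root lifting from a decomposition of `R[X]/(f)` into local rings
-/

namespace Groth.Agent.Lib.HenselProd
open Polynomial IsLocalRing

universe u

variable {R : Type u} [CommRing R] [IsLocalRing R]

/-- polynomials with zero reduction map into `m • ⊤` -/
theorem mk_mem_smul_top {S : Type*} [CommRing S] [Algebra R S] (θ : R[X] →ₐ[R] S) (D : R[X])
    (hD : D.map (residue R) = 0) : θ D ∈ maximalIdeal R • (⊤ : Submodule R S) := by
  have hcoef : ∀ n, D.coeff n ∈ maximalIdeal R := by
    intro n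
    rw [← residue_eq_zero_iff, ← Polynomial.coeff_map, hD, Polynomial.coeff_zero]
  rw [← Polynomial.sum_C_mul_X_pow_eq D, Polynomial.sum_def, map_sum]
  apply Submodule.sum_mem
  intro n _
  rw [← Polynomial.smul_eq_C_mul, map_smul]
  exact Submodule.smul_mem_smul (hcoef n) Submodule.mem_top

theorem exists_root_of_pi_local (f : R[X]) (hf : f.Monic) (a₀ : ResidueField R)
    (h₁ : (f.map (residue R)).eval a₀ = 0)
    (h₂ : (derivative (f.map (residue R))).eval a₀ ≠ 0)
    {ι : Type*} [Fintype ι] (A : ι → Type*) [∀ i, CommRing (A i)] [∀ i, IsLocalRing (A i)]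
    (E : AdjoinRoot f ≃+* (∀ i, A i)) :
    ∃ a : R, f.IsRoot a ∧ residue R a = a₀ := by
  classical
  haveI : Module.Finite R (AdjoinRoot f) := hf.finite_adjoinRoot
  have hroot : f.eval₂ (residue R) a₀ = 0 := by rw [← Polynomial.eval_map]; exact h₁
  have hev_aeval : ∀ T : R[X], AdjoinRoot.lift (residue R) a₀ hroot (aeval (AdjoinRoot.root f) T) =
      (T.map (residue R)).eval a₀ := by
    intro T
    rw [AdjoinRoot.aeval_eq, AdjoinRoot.lift_mk, Polynomial.eval_map]
  have hev_alg : ∀ r : R, AdjoinRoot.lift (residue R) a₀ hroot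
      (algebraMap R (AdjoinRoot f) r) = residue R r := by
    intro r
    rw [AdjoinRoot.algebraMap_eq, AdjoinRoot.lift_of]
  have hev_smul : ∀ (r : R) (s : AdjoinRoot f), AdjoinRoot.lift (residue R) a₀ hroot (r • s) =
      residue R r * AdjoinRoot.lift (residue R) a₀ hroot s := by
    intro r s
    rw [Algebra.smul_def, map_mul, hev_alg]
  have hev_x : AdjoinRoot.lift (residue R) a₀ hroot (AdjoinRoot.root f) = a₀ :=
    AdjoinRoot.lift_root hroot
  have haevf : aeval (AdjoinRoot.root f) f = 0 := by
    rw [AdjoinRoot.aeval_eq, AdjoinRoot.mk_self]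
  have hsurj : ∀ s : AdjoinRoot f, ∃ T : R[X], aeval (AdjoinRoot.root f) T = s := by
    intro s
    obtain ⟨T, rfl⟩ := AdjoinRoot.mk_surjective s
    exact ⟨T, AdjoinRoot.aeval_eq T⟩
  have hev_m : ∀ μ ∈ maximalIdeal R • (⊤ : Submodule R (AdjoinRoot f)),
      AdjoinRoot.lift (residue R) a₀ hroot μ = 0 := by
    intro μ hμ
    refine Submodule.smul_induction_on hμ ?_ ?_
    · intro r hr s _
      rw [hev_smul, (residue_eq_zero_iff r).mpr hr, zero_mul]
    · intro y z hy hz
      rw [map_add, hy, hz, add_zero]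
  -- factorization of the reduction
  obtain ⟨h₀, hfac⟩ : ∃ h₀, f.map (residue R) = (X - C a₀) * h₀ :=
    ⟨_, (mul_divByMonic_eq_iff_isRoot.mpr h₁).symm⟩
  have hh₀a : h₀.eval a₀ ≠ 0 := by
    intro h0
    apply h₂
    rw [hfac, derivative_mul, derivative_sub, derivative_X, derivative_C, sub_zero, one_mul,
      eval_add, eval_mul, eval_sub, eval_X, eval_C, sub_self, zero_mul, add_zero]
    exact h0
  obtain ⟨ã, hã⟩ := residue_surjective a₀
  obtain ⟨ht, hht⟩ := Polynomial.map_surjective (residue R) residue_surjective h₀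
  have hdecomp : ∀ T : R[X], ∃ (p₀ : R) (Q D : R[X]), D.map (residue R) = 0 ∧
      T = C p₀ + (X - C ã) * Q + D := by
    intro T
    obtain ⟨p₀, hp₀⟩ := residue_surjective ((T.map (residue R)).eval a₀)
    obtain ⟨Q, hQ⟩ := Polynomial.map_surjective (residue R) residue_surjective
      ((T.map (residue R)) /ₘ (X - C a₀))
    refine ⟨p₀, Q, T - C p₀ - (X - C ã) * Q, ?_, by ring⟩
    rw [Polynomial.map_sub, Polynomial.map_sub, Polynomial.map_mul, Polynomial.map_sub,
      Polynomial.map_X, Polynomial.map_C, Polynomial.map_C, hã, hQ, hp₀,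
      ← modByMonic_X_sub_C_eq_C_eval]
    have := modByMonic_add_div (T.map (residue R)) (X - C a₀)
    rw [sub_sub, sub_eq_zero]
    exact this.symm
  have hev_ht : AdjoinRoot.lift (residue R) a₀ hroot (aeval (AdjoinRoot.root f) ht) ≠ 0 := by
    rw [hev_aeval, hht]; exact hh₀a
  -- the product decomposition
  have hone : (∑ i, Pi.single i (1 : A i)) = (1 : ∀ i, A i) :=
    Finset.univ_sum_single (1 : ∀ i, A i)
  have hsum : ∑ i, AdjoinRoot.lift (residue R) a₀ hroot (E.symm (Pi.single i 1)) = 1 := by
    rw [← map_sum, ← map_sum, hone, map_one, map_one]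
  have hidem : ∀ i, AdjoinRoot.lift (residue R) a₀ hroot (E.symm (Pi.single i 1)) = 0 ∨
      AdjoinRoot.lift (residue R) a₀ hroot (E.symm (Pi.single i 1)) = 1 := by
    intro i
    have hsq : AdjoinRoot.lift (residue R) a₀ hroot (E.symm (Pi.single i 1)) *
        AdjoinRoot.lift (residue R) a₀ hroot (E.symm (Pi.single i 1)) =
        AdjoinRoot.lift (residue R) a₀ hroot (E.symm (Pi.single i 1)) := by
      rw [← map_mul, ← map_mul, ← Pi.single_mul, one_mul]
    rcases eq_or_ne (AdjoinRoot.lift (residue R) a₀ hroot (E.symm (Pi.single i 1))) 0 with h0 | h0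
    · exact Or.inl h0
    · right; exact mul_left_cancel₀ h0 (by rw [hsq, mul_one])
  obtain ⟨i₀, hi₀⟩ : ∃ i₀, AdjoinRoot.lift (residue R) a₀ hroot (E.symm (Pi.single i₀ 1)) = 1 := by
    by_contra hcon
    have hz : ∀ i, AdjoinRoot.lift (residue R) a₀ hroot (E.symm (Pi.single i 1)) = 0 :=
      fun i => (hidem i).resolve_right (fun h => hcon ⟨i, h⟩)
    rw [Finset.sum_eq_zero (fun i _ => hz i)] at hsum
    exact zero_ne_one hsum
  obtain ⟨e, he⟩ : ∃ e : AdjoinRoot f, e = E.symm (Pi.single i₀ 1) := ⟨_, rfl⟩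
  have hEe : E e = Pi.single i₀ 1 := by rw [he, E.apply_symm_apply]
  have hev_e : AdjoinRoot.lift (residue R) a₀ hroot e = 1 := by rw [he]; exact hi₀
  -- (b) units
  have hunit : ∀ s : AdjoinRoot f, AdjoinRoot.lift (residue R) a₀ hroot s ≠ 0 →
      ∃ s', e * s * s' = e := by
    intro s hs
    have hu : IsUnit ((E s) i₀) := by
      obtain ⟨r, hr⟩ := residue_surjective (AdjoinRoot.lift (residue R) a₀ hroot s)⁻¹
      rcases IsLocalRing.isUnit_or_isUnit_one_sub_self
        ((E s) i₀ * (E (algebraMap R (AdjoinRoot f) r)) i₀) with hU | hU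
      · exact isUnit_of_mul_isUnit_left hU
      · exfalso
        obtain ⟨t, ht'⟩ := hU.exists_left_inv
        have key : E.symm (Pi.single i₀ t) * (e - (algebraMap R (AdjoinRoot f) r * s) * e) = e := by
          apply E.injective
          rw [map_mul, map_sub, map_mul, map_mul, E.apply_symm_apply, hEe]
          funext j
          by_cases hj : j = i₀
          · rw [hj]
            simp only [Pi.mul_apply, Pi.sub_apply, Pi.single_eq_same, mul_one]
            rw [mul_comm ((E (algebraMap R (AdjoinRoot f) r)) i₀)]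
            exact ht'
          · simp only [Pi.mul_apply, Pi.sub_apply, Pi.single_eq_of_ne hj, zero_mul]
        have h5 := congrArg (AdjoinRoot.lift (residue R) a₀ hroot) key
        rw [map_mul, map_sub, map_mul, map_mul, hev_e, hev_alg, hr, inv_mul_cancel₀ hs, mul_one,
          sub_self, mul_zero] at h5
        exact zero_ne_one h5
    obtain ⟨u', hu'⟩ := hu.exists_right_inv
    refine ⟨E.symm (Pi.single i₀ u'), ?_⟩
    apply E.injective
    rw [map_mul, map_mul, E.apply_symm_apply, hEe]
    funext j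
    by_cases hj : j = i₀
    · rw [hj]
      simp only [Pi.mul_apply, Pi.single_eq_same, one_mul]
      exact hu'
    · simp only [Pi.mul_apply, Pi.single_eq_of_ne hj, zero_mul]
  -- (c) injectivity
  have hinj : ∀ r : R, r • e = 0 → r = 0 := by
    intro r hr
    have hrep : ∀ k, r * (AdjoinRoot.powerBasis' hf).basis.repr e k = 0 := by
      intro k
      have h6 := congrArg (fun y => (AdjoinRoot.powerBasis' hf).basis.repr y k) hr
      simpa [map_smul] using h6
    by_cases hall : ∀ k, (AdjoinRoot.powerBasis' hf).basis.repr e k ∈ maximalIdeal R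
    · exfalso
      have he_m : e ∈ maximalIdeal R • (⊤ : Submodule R (AdjoinRoot f)) := by
        rw [← (AdjoinRoot.powerBasis' hf).basis.sum_repr e]
        apply Submodule.sum_mem
        intro k _
        exact Submodule.smul_mem_smul (hall k) Submodule.mem_top
      have h7 := hev_m e he_m
      rw [hev_e] at h7
      exact one_ne_zero h7
    · obtain ⟨k, hk⟩ := not_forall.mp hall
      have hku : IsUnit ((AdjoinRoot.powerBasis' hf).basis.repr e k) :=
        IsLocalRing.notMem_maximalIdeal.mp hk
      exact (hku.mul_left_eq_zero).mp (hrep k)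
  -- Nakayama
  have hPfg : (LinearMap.range (LinearMap.mulLeft R e)).FG := by
    rw [LinearMap.range_eq_map]
    exact Module.Finite.fg_top.map _
  have hPmem : ∀ s, e * s ∈ LinearMap.range (LinearMap.mulLeft R e) := fun s => ⟨s, rfl⟩
  have hC : ∀ y ∈ maximalIdeal R • LinearMap.range (LinearMap.mulLeft R e),
      ∀ s : AdjoinRoot f, y * s ∈ maximalIdeal R • LinearMap.range (LinearMap.mulLeft R e) := by
    intro y hy s
    refine Submodule.smul_induction_on hy ?_ ?_
    · intro r hr p hp
      obtain ⟨t, rfl⟩ := hp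
      rw [smul_mul_assoc]
      refine Submodule.smul_mem_smul hr ?_
      exact ⟨t * s, by simp [mul_assoc]⟩
    · intro y z hy hz
      rw [add_mul]; exact Submodule.add_mem _ hy hz
  have h1' : ∀ μ ∈ maximalIdeal R • (⊤ : Submodule R (AdjoinRoot f)),
      e * μ ∈ maximalIdeal R • LinearMap.range (LinearMap.mulLeft R e) := by
    intro μ hμ
    refine Submodule.smul_induction_on hμ ?_ ?_
    · intro r hr t _
      rw [mul_smul_comm]
      exact Submodule.smul_mem_smul hr (hPmem t)
    · intro y z hy hz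
      rw [mul_add]; exact Submodule.add_mem _ hy hz
  have hkey : e * (AdjoinRoot.root f - algebraMap R (AdjoinRoot f) ã) ∈
      maximalIdeal R • LinearMap.range (LinearMap.mulLeft R e) := by
    obtain ⟨s', hs'⟩ := hunit (aeval (AdjoinRoot.root f) ht) hev_ht
    have hDf : (f - (X - C ã) * ht).map (residue R) = 0 := by
      rw [Polynomial.map_sub, Polynomial.map_mul, Polynomial.map_sub, Polynomial.map_X,
        Polynomial.map_C, hã, hht, hfac, sub_self]
    have hμ := mk_mem_smul_top (aeval (AdjoinRoot.root f)) _ hDf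
    have hval : aeval (AdjoinRoot.root f) (f - (X - C ã) * ht) =
        -((AdjoinRoot.root f - algebraMap R (AdjoinRoot f) ã) * aeval (AdjoinRoot.root f) ht) := by
      rw [map_sub, map_mul, map_sub, aeval_X, aeval_C, haevf, zero_sub]
    have h3 := hC _ (h1' _ hμ) (-s')
    have h8 : e * (AdjoinRoot.root f - algebraMap R (AdjoinRoot f) ã) =
        e * aeval (AdjoinRoot.root f) (f - (X - C ã) * ht) * (-s') := by
      rw [hval]
      calc e * (AdjoinRoot.root f - algebraMap R (AdjoinRoot f) ã)
          = (e * aeval (AdjoinRoot.root f) ht * s') *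
              (AdjoinRoot.root f - algebraMap R (AdjoinRoot f) ã) := by rw [hs']
        _ = _ := by ring
    rw [h8]; exact h3
  have hNak : LinearMap.range (LinearMap.mulLeft R e) ≤ Submodule.span R {e} := by
    apply Submodule.le_of_le_smul_of_le_jacobson_bot (I := maximalIdeal R) hPfg
      (maximalIdeal_le_jacobson ⊥)
    rintro _ ⟨s, rfl⟩
    obtain ⟨T, rfl⟩ := hsurj s
    obtain ⟨p₀, Q, D, hD, rfl⟩ := hdecomp T
    have h9 : (LinearMap.mulLeft R e) (aeval (AdjoinRoot.root f) (C p₀ + (X - C ã) * Q + D)) =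
        p₀ • e + (e * (AdjoinRoot.root f - algebraMap R (AdjoinRoot f) ã)) *
          aeval (AdjoinRoot.root f) Q + e * aeval (AdjoinRoot.root f) D := by
      rw [LinearMap.mulLeft_apply, map_add, map_add, map_mul, map_sub, aeval_X, aeval_C, aeval_C,
        Algebra.smul_def]
      ring
    rw [h9]
    refine Submodule.add_mem _ (Submodule.add_mem _ ?_ ?_) ?_
    · exact Submodule.mem_sup_left (Submodule.smul_mem _ _ (Submodule.mem_span_singleton_self e))
    · exact Submodule.mem_sup_right (hC _ hkey _)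
    · exact Submodule.mem_sup_right (h1' _ (mk_mem_smul_top (aeval (AdjoinRoot.root f)) D hD))
  obtain ⟨a, ha⟩ := Submodule.mem_span_singleton.mp (hNak (hPmem (AdjoinRoot.root f)))
  refine ⟨a, ?_, ?_⟩
  · apply hinj
    obtain ⟨Qf, hQf⟩ := Polynomial.X_sub_C_dvd_sub_C_eval (a := a) (p := f)
    have h0 : e * (AdjoinRoot.root f - algebraMap R (AdjoinRoot f) a) = 0 := by
      rw [mul_sub, ← ha, Algebra.smul_def, mul_comm, sub_self]
    have h10 := congrArg (fun T => e * aeval (AdjoinRoot.root f) T) hQf
    simp only [map_sub, map_mul, aeval_X, aeval_C, haevf] at h10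
    rw [← mul_assoc, h0, zero_mul, zero_sub, mul_neg, neg_eq_zero] at h10
    rw [Algebra.smul_def, mul_comm]; exact h10
  · have h11 := congrArg (AdjoinRoot.lift (residue R) a₀ hroot) ha
    rw [hev_smul, map_mul, hev_e, hev_x, mul_one, one_mul] at h11
    exact h11

end Groth.Agent.Lib.HenselProd
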