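import Mathlib
import Groth.Prelude.Def_Hensel
import Groth.Agent.S0505

/-!
# Local rings integral over henselian local rings are henselian (helper3)
-/

set_option autoImplicit false
set_option maxSynthPendingDepth 3
universe u

namespace Groth.Agent.Lib.HensIntegralH3

open Polynomial IsLocalRing

/-- A local ring which is integral over a henselian local ring is henselian. -/
theorem henselianLocalRing_of_isIntegral (S : Type u) [CommRing S] [HenselianLocalRing S]
    (T : Type u) [CommRing T] [IsLocalRing T] [Algebra S T] [Algebra.IsIntegral S T] :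
    HenselianLocalRing T := by
  refine ⟨fun f hf a₀ h₁ h₂ => ?_⟩
  classical
  let s : Set T := (f.coeffs : Set T) ∪ {a₀}
  have hsfin : s.Finite := (Finset.finite_toSet _).union (Set.finite_singleton _)
  let T₁ : Subalgebra S T := Algebra.adjoin S s
  haveI : Module.Finite S T₁ := Module.Finite.iff_fg.mpr
    (fg_adjoin_of_finite hsfin (fun x _ => Algebra.IsIntegral.isIntegral x))
  haveI : Algebra.IsIntegral T₁ T := Algebra.IsIntegral.tower_top (R := S)
  haveI : FaithfulSMul T₁ T :=
    (faithfulSMul_iff_algebraMap_injective T₁ T).mpr Subtype.val_injective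
  haveI : IsLocalHom (algebraMap T₁ T) := inferInstance
  haveI : IsLocalRing T₁ := RingHom.domain_isLocalRing (algebraMap T₁ T)
  haveI : HenselianLocalRing T₁ := Groth.Agent.S0505.result S T₁
  have hlift : f ∈ Polynomial.lifts (algebraMap T₁ T) := by
    rw [Polynomial.lifts_iff_coeffs_subset_range]
    intro c hc
    exact ⟨⟨c, Algebra.subset_adjoin (Or.inl hc)⟩, rfl⟩
  obtain ⟨f₁, hf₁, -, hf₁m⟩ := Polynomial.lifts_and_natDegree_eq_and_monic hlift hf
  let a₁ : T₁ := ⟨a₀, Algebra.subset_adjoin (Or.inr rfl)⟩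
  have hev : algebraMap T₁ T (f₁.eval a₁) = f.eval a₀ := by
    rw [← hf₁, Polynomial.eval_map]
    exact (Polynomial.eval₂_at_apply (algebraMap T₁ T) a₁).symm
  have hev' : algebraMap T₁ T (f₁.derivative.eval a₁) = f.derivative.eval a₀ := by
    rw [← hf₁, Polynomial.derivative_map, Polynomial.eval_map]
    exact (Polynomial.eval₂_at_apply (algebraMap T₁ T) a₁).symm
  have h₁' : f₁.eval a₁ ∈ maximalIdeal T₁ := by
    rw [mem_maximalIdeal, mem_nonunits_iff]
    intro hu
    have := hu.map (algebraMap T₁ T)
    rw [hev] at this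
    exact h₁ this
  have h₂' : IsUnit (f₁.derivative.eval a₁) := by
    apply isUnit_of_map_unit (algebraMap T₁ T)
    rw [hev']
    exact h₂
  obtain ⟨a, ha, haa⟩ := HenselianLocalRing.is_henselian f₁ hf₁m a₁ h₁' h₂'
  refine ⟨algebraMap T₁ T a, ?_, ?_⟩
  · rw [Polynomial.IsRoot.def, ← hf₁, Polynomial.eval_map, Polynomial.eval₂_at_apply, ha.eq_zero,
      map_zero]
  · have h3 : algebraMap T₁ T (a - a₁) ∈ maximalIdeal T := by
      rw [mem_maximalIdeal, mem_nonunits_iff]
      intro hu
      exact haa (isUnit_of_map_unit (algebraMap T₁ T) _ hu)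
    rwa [map_sub] at h3

end Groth.Agent.Lib.HensIntegralH3
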