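import Mathlib
import Groth.Prelude.Def_Hensel

/-!
# Henselization of a "joint" local ring (helper3)

General lemmas: uniqueness of henselization in unbundled form, and the fact that if a local ring
`L` receives maps from a henselization `Ph` of `P` and from `Q` which are jointly epimorphic, then
a henselization `Qh` of `Q` receiving a compatible local map from `L` is a henselization of `L`.
-/

set_option autoImplicit false
universe u

namespace Groth.Agent.Lib.HensJointH3

open Hensel

/-- Unbundled uniqueness: if `E` is a henselization of `L` and `(F, c)` is a henselian local ring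
with a local map `c : L → F` satisfying the universal property, then `E ≃ F` over `L`. -/
theorem exists_equiv_of_universal (L E F : Type u) [CommRing L] [IsLocalRing L]
    [CommRing E] [IsLocalRing E] [Algebra L E] [IsLocalHom (algebraMap L E)] [IsHenselization L E]
    [CommRing F] [HenselianLocalRing F] (c : L →+* F) [IsLocalHom c]
    (huniv : ∀ (T : Type u) [CommRing T] [HenselianLocalRing T] (f : L →+* T),
      IsLocalHom f → ∃! g : F →+* T, g.comp c = f) :
    ∃ e : E ≃+* F, ∀ x, e (algebraMap L E x) = c x := by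
  haveI : HenselianLocalRing E := IsHenselization.henselian L
  obtain ⟨g, hg, -⟩ := IsHenselization.universal (R := L) (S := E) F c inferInstance
  obtain ⟨g', hg', -⟩ := huniv E (algebraMap L E) inferInstance
  have h1 : g'.comp g = RingHom.id E := by
    obtain ⟨k, -, hk⟩ := IsHenselization.universal (R := L) (S := E) E (algebraMap L E) inferInstance
    rw [hk (g'.comp g) (by beta_reduce; rw [RingHom.comp_assoc, hg, hg']), hk (RingHom.id E) (by beta_reduce; simp)]
  have h2 : g.comp g' = RingHom.id F := by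
    obtain ⟨k, -, hk⟩ := huniv F c inferInstance
    rw [hk (g.comp g') (by beta_reduce; rw [RingHom.comp_assoc, hg', hg]), hk (RingHom.id F) (by beta_reduce; simp)]
  refine ⟨RingEquiv.ofRingHom g g' h2 h1, fun x => ?_⟩
  exact RingHom.congr_fun hg x

/-- The joint lemma (unbundled conclusion). -/
theorem universal_of_joint
    (P Ph Q Qh L : Type u) [CommRing P] [IsLocalRing P] [CommRing Ph] [IsLocalRing Ph]
    [Algebra P Ph] [IsLocalHom (algebraMap P Ph)] [IsHenselization P Ph]
    [CommRing Q] [IsLocalRing Q] [CommRing Qh] [IsLocalRing Qh]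
    [Algebra Q Qh] [IsLocalHom (algebraMap Q Qh)] [IsHenselization Q Qh]
    [CommRing L] [IsLocalRing L] (c : L →+* Qh) [IsLocalHom c]
    (φ : P →+* Q) [IsLocalHom φ]
    (a : Ph →+* L) (b : Q →+* L)
    (hab : a.comp (algebraMap P Ph) = b.comp φ)
    (hepi : ∀ (T : Type u) [CommRing T] (f g : L →+* T),
      f.comp a = g.comp a → f.comp b = g.comp b → f = g)
    (hcb : c.comp b = algebraMap Q Qh)
    (T : Type u) [CommRing T] [HenselianLocalRing T] (f : L →+* T) (hf : IsLocalHom f) :
    ∃! g : Qh →+* T, g.comp c = f := by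
  have hb : IsLocalHom b := by
    haveI : IsLocalHom (c.comp b) := by rw [hcb]; infer_instance
    exact isLocalHom_of_comp b c
  haveI : IsLocalHom (f.comp b) := RingHom.isLocalHom_comp f b
  obtain ⟨g, hg, hguniq⟩ := IsHenselization.universal (R := Q) (S := Qh) T (f.comp b) inferInstance
  have hgb : (g.comp c).comp b = f.comp b := by rw [RingHom.comp_assoc, hcb, hg]
  refine ⟨g, ?_, ?_⟩
  · refine hepi T _ _ ?_ hgb
    have hloc : IsLocalHom ((f.comp b).comp φ) := RingHom.isLocalHom_comp (f.comp b) φ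
    obtain ⟨k, -, hk⟩ := IsHenselization.universal (R := P) (S := Ph) T ((f.comp b).comp φ) hloc
    rw [hk ((g.comp c).comp a) ?_, hk (f.comp a) ?_]
    · beta_reduce; rw [RingHom.comp_assoc, hab, ← RingHom.comp_assoc]
    · beta_reduce; rw [RingHom.comp_assoc, hab, ← RingHom.comp_assoc, hgb]
  · intro g' hg'
    refine hguniq g' ?_
    beta_reduce
    rw [← hcb, ← RingHom.comp_assoc, hg']


open TensorProduct

section Tensor

variable (R S : Type u) [CommRing R] [CommRing S] [Algebra R S]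
  (p : Ideal R) [p.IsPrime] (q : Ideal S) [q.IsPrime] [q.LiesOver p]
  (Rh : Type u) [CommRing Rh] [IsLocalRing Rh] [Algebra (Localization.AtPrime p) Rh]
  [Algebra R Rh] [IsScalarTower R (Localization.AtPrime p) Rh]
  (Sh : Type u) [CommRing Sh] [IsLocalRing Sh] [Algebra (Localization.AtPrime q) Sh]
  [Algebra S Sh] [IsScalarTower S (Localization.AtPrime q) Sh]
  (Φ : Rh ⊗[R] S →+* Sh)
  (Q' : Ideal (Rh ⊗[R] S)) [Q'.IsPrime]

/-- The map `a : Rh → (Rh ⊗ S)_{Q'}`. -/
noncomputable def aHom : Rh →+* Localization.AtPrime Q' :=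
  (algebraMap (Rh ⊗[R] S) (Localization.AtPrime Q')).comp
    (Algebra.TensorProduct.includeLeftRingHom)

omit [Q'.IsPrime] in
theorem mem_iff (hQ' : Q' = Ideal.comap Φ (IsLocalRing.maximalIdeal Sh)) (d : Rh ⊗[R] S) :
    d ∈ Q' ↔ ¬ IsUnit (Φ d) := by
  rw [hQ', Ideal.mem_comap, IsLocalRing.mem_maximalIdeal, mem_nonunits_iff]

theorem isUnit_of_not_mem (hΦ2 : ∀ s : S, Φ (1 ⊗ₜ s) = algebraMap S Sh s)
    (hQ' : Q' = Ideal.comap Φ (IsLocalRing.maximalIdeal Sh)) (y : q.primeCompl) :
    IsUnit (((algebraMap (Rh ⊗[R] S) (Localization.AtPrime Q')).comp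
      (Algebra.TensorProduct.includeRight (R := R) (A := Rh) (B := S)).toRingHom) y) := by
  have h1 : ((1 : Rh) ⊗ₜ[R] (y : S)) ∈ Q'.primeCompl := by
    show _ ∉ Q'
    rw [mem_iff R S Rh Sh Φ Q' hQ', hΦ2, not_not,
      IsScalarTower.algebraMap_apply S (Localization.AtPrime q) Sh]
    exact (IsLocalization.map_units (Localization.AtPrime q) y).map _
  exact IsLocalization.map_units (Localization.AtPrime Q') ⟨_, h1⟩

/-- The map `b : S_q → (Rh ⊗ S)_{Q'}`. -/
noncomputable def bHom (hΦ2 : ∀ s : S, Φ (1 ⊗ₜ s) = algebraMap S Sh s)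
    (hQ' : Q' = Ideal.comap Φ (IsLocalRing.maximalIdeal Sh)) :
    Localization.AtPrime q →+* Localization.AtPrime Q' :=
  IsLocalization.lift (M := q.primeCompl) (isUnit_of_not_mem R S q Rh Sh Φ Q' hΦ2 hQ')

theorem bHom_algebraMap (hΦ2 : ∀ s : S, Φ (1 ⊗ₜ s) = algebraMap S Sh s)
    (hQ' : Q' = Ideal.comap Φ (IsLocalRing.maximalIdeal Sh)) (s : S) :
    bHom R S q Rh Sh Φ Q' hΦ2 hQ' (algebraMap S (Localization.AtPrime q) s) =
      algebraMap (Rh ⊗[R] S) (Localization.AtPrime Q') (1 ⊗ₜ s) := by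
  rw [bHom, IsLocalization.lift_eq]; rfl

theorem isUnit_Φ (hQ' : Q' = Ideal.comap Φ (IsLocalRing.maximalIdeal Sh)) (y : Q'.primeCompl) :
    IsUnit (Φ y) := by
  have := y.2
  change (y : Rh ⊗[R] S) ∉ Q' at this
  rwa [mem_iff R S Rh Sh Φ Q' hQ', not_not] at this

/-- The map `c : (Rh ⊗ S)_{Q'} → Sh`. -/
noncomputable def cHom (hQ' : Q' = Ideal.comap Φ (IsLocalRing.maximalIdeal Sh)) :
    Localization.AtPrime Q' →+* Sh :=
  IsLocalization.lift (M := Q'.primeCompl) (isUnit_Φ R S Rh Sh Φ Q' hQ')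

theorem cHom_algebraMap (hQ' : Q' = Ideal.comap Φ (IsLocalRing.maximalIdeal Sh)) (d : Rh ⊗[R] S) :
    cHom R S Rh Sh Φ Q' hQ' (algebraMap _ _ d) = Φ d := by
  rw [cHom, IsLocalization.lift_eq]

theorem isLocalHom_cHom (hQ' : Q' = Ideal.comap Φ (IsLocalRing.maximalIdeal Sh)) :
    IsLocalHom (cHom R S Rh Sh Φ Q' hQ') := by
  constructor
  intro x hx
  obtain ⟨d, s, rfl⟩ := IsLocalization.exists_mk'_eq Q'.primeCompl x
  have h1 : IsUnit (cHom R S Rh Sh Φ Q' hQ' (algebraMap _ _ d)) := by
    have : algebraMap _ (Localization.AtPrime Q') d =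
        IsLocalization.mk' (Localization.AtPrime Q') d s * algebraMap _ _ (s : Rh ⊗[R] S) := by
      rw [IsLocalization.mk'_spec]
    rw [this, map_mul]
    refine hx.mul ?_
    rw [cHom_algebraMap]
    exact isUnit_Φ R S Rh Sh Φ Q' hQ' s
  rw [cHom_algebraMap] at h1
  have h2 : d ∈ Q'.primeCompl := by
    show d ∉ Q'
    rw [mem_iff R S Rh Sh Φ Q' hQ', not_not]
    exact h1
  have h3 : IsUnit (algebraMap _ (Localization.AtPrime Q') d) :=
    IsLocalization.map_units (Localization.AtPrime Q') ⟨d, h2⟩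
  rw [← IsLocalization.mk'_spec (Localization.AtPrime Q') d s] at h3
  exact isUnit_of_mul_isUnit_left h3


include p in
theorem hab_tensor (hΦ2 : ∀ s : S, Φ (1 ⊗ₜ s) = algebraMap S Sh s)
    (hQ' : Q' = Ideal.comap Φ (IsLocalRing.maximalIdeal Sh)) :
    (aHom R S Rh Q').comp (algebraMap (Localization.AtPrime p) Rh) =
      (bHom R S q Rh Sh Φ Q' hΦ2 hQ').comp
        (Localization.localRingHom p q (algebraMap R S) (Ideal.LiesOver.over)) := by
  refine IsLocalization.ringHom_ext p.primeCompl ?_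
  ext r
  simp only [RingHom.comp_apply]
  rw [Localization.localRingHom_to_map, bHom_algebraMap,
    ← IsScalarTower.algebraMap_apply R (Localization.AtPrime p) Rh, aHom]
  simp only [RingHom.comp_apply]
  congr 1
  rw [Algebra.TensorProduct.includeLeftRingHom_apply, Algebra.algebraMap_eq_smul_one,
    Algebra.algebraMap_eq_smul_one, TensorProduct.smul_tmul]

theorem hepi_tensor (hΦ2 : ∀ s : S, Φ (1 ⊗ₜ s) = algebraMap S Sh s)
    (hQ' : Q' = Ideal.comap Φ (IsLocalRing.maximalIdeal Sh))
    (T : Type u) [CommRing T] (f g : Localization.AtPrime Q' →+* T)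
    (h1 : f.comp (aHom R S Rh Q') = g.comp (aHom R S Rh Q'))
    (h2 : f.comp (bHom R S q Rh Sh Φ Q' hΦ2 hQ') = g.comp (bHom R S q Rh Sh Φ Q' hΦ2 hQ')) :
    f = g := by
  refine IsLocalization.ringHom_ext Q'.primeCompl ?_
  have key : ∀ d : Rh ⊗[R] S, f (algebraMap _ _ d) = g (algebraMap _ _ d) := by
    intro d
    induction d using TensorProduct.induction_on with
    | zero => simp
    | add x y hx hy => rw [map_add, map_add, map_add, hx, hy]
    | tmul x y =>
      have e1 : x ⊗ₜ[R] y = (x ⊗ₜ[R] (1 : S)) * ((1 : Rh) ⊗ₜ[R] y) := by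
        rw [Algebra.TensorProduct.tmul_mul_tmul, mul_one, one_mul]
      have e2 := RingHom.congr_fun h1 x
      have e3 := RingHom.congr_fun h2 (algebraMap S _ y)
      simp only [RingHom.comp_apply, bHom_algebraMap] at e2 e3
      rw [e1, map_mul, map_mul, map_mul, e3]
      congr 1
  exact RingHom.ext key

theorem hcb_tensor (hΦ2 : ∀ s : S, Φ (1 ⊗ₜ s) = algebraMap S Sh s)
    (hQ' : Q' = Ideal.comap Φ (IsLocalRing.maximalIdeal Sh)) :
    (cHom R S Rh Sh Φ Q' hQ').comp (bHom R S q Rh Sh Φ Q' hΦ2 hQ') =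
      algebraMap (Localization.AtPrime q) Sh := by
  refine IsLocalization.ringHom_ext q.primeCompl ?_
  ext s
  simp only [RingHom.comp_apply]
  rw [bHom_algebraMap, cHom_algebraMap, hΦ2, ← IsScalarTower.algebraMap_apply]

include p in
theorem exists_equiv_tensor
    [IsLocalHom (algebraMap (Localization.AtPrime p) Rh)]
    [IsHenselization (Localization.AtPrime p) Rh]
    [IsLocalHom (algebraMap (Localization.AtPrime q) Sh)]
    [IsHenselization (Localization.AtPrime q) Sh]
    (hΦ2 : ∀ s : S, Φ (1 ⊗ₜ s) = algebraMap S Sh s)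
    (hQ' : Q' = Ideal.comap Φ (IsLocalRing.maximalIdeal Sh))
    (E : Type u) [CommRing E] [IsLocalRing E] [Algebra (Localization.AtPrime Q') E]
    [IsLocalHom (algebraMap (Localization.AtPrime Q') E)]
    [IsHenselization (Localization.AtPrime Q') E] :
    ∃ e : E ≃+* Sh, ∀ d : Rh ⊗[R] S,
      e (algebraMap _ E (algebraMap _ (Localization.AtPrime Q') d)) = Φ d := by
  haveI : HenselianLocalRing Sh := IsHenselization.henselian (Localization.AtPrime q)
  haveI := isLocalHom_cHom R S Rh Sh Φ Q' hQ'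
  obtain ⟨e, he⟩ := exists_equiv_of_universal (Localization.AtPrime Q') E Sh
    (cHom R S Rh Sh Φ Q' hQ')
    (fun T _ _ f hf => universal_of_joint (Localization.AtPrime p) Rh (Localization.AtPrime q) Sh
      (Localization.AtPrime Q') (cHom R S Rh Sh Φ Q' hQ')
      (Localization.localRingHom p q (algebraMap R S) (Ideal.LiesOver.over))
      (aHom R S Rh Q') (bHom R S q Rh Sh Φ Q' hΦ2 hQ')
      (hab_tensor R S p q Rh Sh Φ Q' hΦ2 hQ')
      (fun T' _ f' g' => hepi_tensor R S q Rh Sh Φ Q' hΦ2 hQ' T' f' g')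
      (hcb_tensor R S q Rh Sh Φ Q' hΦ2 hQ') T f hf)
  refine ⟨e, fun d => ?_⟩
  rw [he, cHom_algebraMap]

end Tensor

end Groth.Agent.Lib.HensJointH3
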