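import Mathlib
import Groth.Agent.Lib.EssEt_lead

/-!
# Henselization of a local ring, part 1: pointed étale algebras and the index type (helper3)

A *pointed étale algebra* over a local ring `R` is an étale `R`-algebra `C` with an `R`-algebra map
`ρ : C → κ(R)`; its kernel is a prime over the maximal ideal with trivial residue field extension,
and the localisation of `C` at it is a strictly essentially étale local `R`-algebra.
We index (isomorphism classes of) these by presentations `MvPolynomial (Fin n) R ⧸ J`.
-/

set_option autoImplicit false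
set_option maxSynthPendingDepth 3
universe u

namespace Groth.Agent.Lib.HenselizationH3

open IsLocalRing EGA4loc TensorProduct

section Pointed

variable {R : Type u} [CommRing R] [IsLocalRing R]
variable {C : Type u} [CommRing C] [Algebra R C] (ρ : C →ₐ[R] ResidueField R)

theorem ker_comap : (RingHom.ker ρ).comap (algebraMap R C) = maximalIdeal R := by
  ext a
  rw [Ideal.mem_comap, RingHom.mem_ker, AlgHom.commutes, ResidueField.algebraMap_eq,
    residue_eq_zero_iff]

theorem exists_sub_mem_ker (c : C) : ∃ r : R, c - algebraMap R C r ∈ RingHom.ker ρ := by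
  obtain ⟨r, hr⟩ := residue_surjective (ρ c)
  refine ⟨r, ?_⟩
  rw [RingHom.mem_ker, map_sub, AlgHom.commutes, ResidueField.algebraMap_eq, hr, sub_self]

instance ker_isPrime : (RingHom.ker ρ).IsPrime := RingHom.ker_isPrime ρ

instance isLocalHom_algebraMap_loc :
    IsLocalHom (algebraMap R (Localization.AtPrime (RingHom.ker ρ))) :=
  Groth.Agent.Lib.EssEt.isLocalHom_of_comap _ (ker_comap ρ)

/-- The point extended to the local ring. -/
noncomputable def locPt : Localization.AtPrime (RingHom.ker ρ) →ₐ[R] ResidueField R :=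
  IsLocalization.liftAlgHom (M := (RingHom.ker ρ).primeCompl) (f := ρ) (by
    rintro ⟨y, hy⟩
    rw [isUnit_iff_ne_zero]
    exact fun h0 => hy (RingHom.mem_ker.mpr h0))

theorem locPt_algebraMap (c : C) :
    locPt ρ (algebraMap C (Localization.AtPrime (RingHom.ker ρ)) c) = ρ c := by
  unfold locPt
  rw [IsLocalization.coe_liftAlgHom, IsLocalization.lift_eq]
  rfl

theorem locPt_eq_zero_iff (y : Localization.AtPrime (RingHom.ker ρ)) :
    locPt ρ y = 0 ↔ y ∈ maximalIdeal (Localization.AtPrime (RingHom.ker ρ)) := by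
  constructor
  · intro hy
    have hne : RingHom.ker (locPt ρ).toRingHom ≠ ⊤ := RingHom.ker_ne_top _
    exact le_maximalIdeal hne (RingHom.mem_ker.mpr hy)
  · intro hy
    obtain ⟨c, ⟨s, hs⟩, rfl⟩ := IsLocalization.exists_mk'_eq (RingHom.ker ρ).primeCompl y
    rw [IsLocalization.AtPrime.mk'_mem_maximal_iff (Localization.AtPrime (RingHom.ker ρ))
      (RingHom.ker ρ)] at hy
    have h1 : locPt ρ (IsLocalization.mk' (Localization.AtPrime (RingHom.ker ρ)) c
        (⟨s, hs⟩ : (RingHom.ker ρ).primeCompl)) *
        locPt ρ (algebraMap C _ s) = locPt ρ (algebraMap C _ c) := by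
      rw [← map_mul, IsLocalization.mk'_spec]
    rw [locPt_algebraMap, locPt_algebraMap, RingHom.mem_ker.mp hy] at h1
    have h2 : ρ s ≠ 0 := fun h0 => hs (RingHom.mem_ker.mpr h0)
    exact (mul_eq_zero.mp h1).resolve_right h2

theorem exists_sub_mem_maximalIdeal (y : Localization.AtPrime (RingHom.ker ρ)) :
    ∃ r : R, y - algebraMap R _ r ∈ maximalIdeal (Localization.AtPrime (RingHom.ker ρ)) := by
  obtain ⟨r, hr⟩ := residue_surjective (locPt ρ y)
  refine ⟨r, ?_⟩
  rw [← locPt_eq_zero_iff, map_sub, AlgHom.commutes, ResidueField.algebraMap_eq, hr, sub_self]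

theorem residueField_map_bijective :
    Function.Bijective (ResidueField.map (algebraMap R (Localization.AtPrime (RingHom.ker ρ)))) := by
  refine ⟨RingHom.injective _, fun ybar => ?_⟩
  obtain ⟨y, rfl⟩ := residue_surjective ybar
  obtain ⟨r, hr⟩ := exists_sub_mem_maximalIdeal ρ y
  refine ⟨residue R r, ?_⟩
  rw [ResidueField.map_residue, eq_comm, ← sub_eq_zero, ← map_sub, residue_eq_zero_iff]
  exact hr

theorem isStrictlyEssentiallyEtale_loc [Algebra.Etale R C] :
    IsStrictlyEssentiallyEtale R (Localization.AtPrime (RingHom.ker ρ)) :=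
  ⟨⟨C, inferInstance, inferInstance, RingHom.ker ρ, inferInstance, inferInstance, ker_comap ρ,
    ⟨AlgEquiv.refl⟩⟩, residueField_map_bijective ρ⟩

end Pointed

section Index

variable (R : Type u) [CommRing R] [IsLocalRing R]

/-- Presentations of pointed étale `R`-algebras: a small index type. -/
structure Idx : Type u where
  /-- number of generators -/
  n : ℕ
  /-- ideal of relations -/
  J : Ideal (MvPolynomial (Fin n) R)
  etale : Algebra.Etale R (MvPolynomial (Fin n) R ⧸ J)
  /-- the residue point -/
  pt : (MvPolynomial (Fin n) R ⧸ J) →ₐ[R] ResidueField R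

variable {R}

/-- The étale algebra of an index. -/
abbrev Idx.C (i : Idx R) : Type u := MvPolynomial (Fin i.n) R ⧸ i.J

instance Idx.etaleC (i : Idx R) : Algebra.Etale R i.C := i.etale

/-- The strictly essentially étale local algebra of an index. -/
abbrev Idx.A (i : Idx R) : Type u := Localization.AtPrime (RingHom.ker i.pt)

theorem Idx.strict (i : Idx R) : IsStrictlyEssentiallyEtale R i.A :=
  isStrictlyEssentiallyEtale_loc i.pt

/-- Every pointed étale algebra is realised by an index. -/
theorem exists_idx (C : Type u) [CommRing C] [Algebra R C] [Algebra.Etale R C]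
    (ρ : C →ₐ[R] ResidueField R) :
    ∃ k : Idx R, Nonempty (Localization.AtPrime (RingHom.ker ρ) ≃ₐ[R] k.A) := by
  obtain ⟨n, f, hf, -⟩ := (Algebra.FinitePresentation.out : ∃ (n : ℕ)
    (f : MvPolynomial (Fin n) R →ₐ[R] C), Function.Surjective f ∧ (RingHom.ker f.toRingHom).FG)
  let e : (MvPolynomial (Fin n) R ⧸ RingHom.ker f.toRingHom) ≃ₐ[R] C :=
    Ideal.quotientKerAlgEquivOfSurjective hf
  let k : Idx R := ⟨n, RingHom.ker f.toRingHom, Algebra.Etale.of_equiv e.symm, ρ.comp e.toAlgHom⟩
  refine ⟨k, ⟨?_⟩⟩
  refine (IsLocalization.algEquivOfAlgEquiv (M := (RingHom.ker k.pt).primeCompl)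
    (T := (RingHom.ker ρ).primeCompl) k.A (Localization.AtPrime (RingHom.ker ρ)) e ?_).symm
  ext c
  constructor
  · rintro ⟨x, hx, rfl⟩
    intro hc
    apply hx
    show k.pt x = 0
    exact hc
  · intro hc
    refine ⟨e.symm c, ?_, e.apply_symm_apply c⟩
    intro hx
    apply hc
    have : ρ (e (e.symm c)) = 0 := hx
    rwa [e.apply_symm_apply] at this

end Index

end Groth.Agent.Lib.HenselizationH3
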