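import Mathlib
import Groth.Agent.Lib.Henselization1_helper3

/-!
# Henselization of a local ring, part 2: the directed system and its colimit (helper3)
-/

set_option autoImplicit false
set_option maxSynthPendingDepth 3
universe u

namespace Groth.Agent.Lib.HenselizationH3

open IsLocalRing EGA4loc TensorProduct

variable {R : Type u} [CommRing R] [IsLocalRing R]

/-- Every strictly essentially étale local algebra is realised by an index. -/
theorem exists_idx_of_strict (B : Type u) [CommRing B] [IsLocalRing B] [Algebra R B]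
    [IsLocalHom (algebraMap R B)] (h : IsStrictlyEssentiallyEtale R B) :
    ∃ k : Idx R, Nonempty (B ≃ₐ[R] k.A) := by
  obtain ⟨C, _, _, q, _, hC, e₁, ρ, hq, hρ⟩ := Groth.Agent.Lib.EssEt.exists_point h
  have hqk : q = RingHom.ker ρ := by
    ext c
    rw [RingHom.mem_ker, hρ]
  subst hqk
  obtain ⟨k, ⟨e₂⟩⟩ := exists_idx C ρ
  exact ⟨k, ⟨e₁.trans e₂⟩⟩

instance : Preorder (Idx R) where
  le i j := Nonempty (i.A →ₐ[R] j.A)
  le_refl i := ⟨AlgHom.id R _⟩
  le_trans i j k := fun ⟨f⟩ ⟨g⟩ => ⟨g.comp f⟩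

theorem le_def (i j : Idx R) : i ≤ j ↔ Nonempty (i.A →ₐ[R] j.A) := Iff.rfl

instance : IsDirectedOrder (Idx R) where
  directed i j := by
    obtain ⟨A₃, _, _, _, _, h₃, ⟨f₁⟩, ⟨f₂⟩⟩ := Groth.Agent.Lib.EssEt.exists_common i.strict j.strict
    obtain ⟨k, ⟨e⟩⟩ := exists_idx_of_strict A₃ h₃
    exact ⟨k, ⟨e.toAlgHom.comp f₁⟩, ⟨e.toAlgHom.comp f₂⟩⟩

instance : Nonempty (Idx R) := by
  obtain ⟨k, -⟩ := exists_idx R (Algebra.ofId R (ResidueField R))
  exact ⟨k⟩

instance subsingleton_hom (i j : Idx R) : Subsingleton (i.A →ₐ[R] j.A) :=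
  Groth.Agent.Lib.EssEt.subsingleton_algHom i.strict

/-- The transition maps. -/
noncomputable def tr {i j : Idx R} (h : i ≤ j) : i.A →ₐ[R] j.A := Classical.choice h

theorem tr_eq {i j : Idx R} (h : i ≤ j) (g : i.A →ₐ[R] j.A) : tr h = g := Subsingleton.elim _ _

/-- The transition maps as ring homs. -/
noncomputable def trR (i j : Idx R) (h : i ≤ j) : i.A →+* j.A := (tr h).toRingHom

theorem trR_apply {i j : Idx R} (h : i ≤ j) (x : i.A) : trR i j h x = tr h x := rfl

instance : DirectedSystem (fun i : Idx R => i.A) (fun i j h => (trR i j h : _ → _)) where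
  map_self i x := by
    rw [trR_apply, tr_eq le_rfl (AlgHom.id R _)]
    rfl
  map_map k j i hij hjk x := by
    rw [trR_apply, trR_apply, trR_apply, tr_eq (hij.trans hjk) ((tr hjk).comp (tr hij))]
    rfl

variable (R) in
/-- The henselization of `R`, as the colimit of the strictly essentially étale local algebras. -/
abbrev Hens : Type u :=
  Ring.DirectLimit (fun i : Idx R => i.A) (fun i j h => (trR i j h : _ → _))

/-- The canonical maps to the colimit. -/
noncomputable def ofH (i : Idx R) : i.A →+* Hens R :=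
  Ring.DirectLimit.of (fun i : Idx R => i.A) (fun i j h => (trR i j h : _ → _)) i

theorem ofH_tr {i j : Idx R} (h : i ≤ j) (x : i.A) : ofH j (tr h x) = ofH i x :=
  Ring.DirectLimit.of_f (f := fun i j h => (trR i j h : _ → _)) h x

theorem exists_ofH (z : Hens R) : ∃ (i : Idx R) (x : i.A), ofH i x = z :=
  Ring.DirectLimit.exists_of (f := fun i j h => (trR i j h : _ → _)) z

theorem ofH_eq_zero {i : Idx R} {x : i.A} (h : ofH i x = 0) :
    ∃ (j : Idx R) (hij : i ≤ j), tr hij x = 0 := by
  have := @Ring.DirectLimit.of.zero_exact (Idx R) _ (fun i : Idx R => i.A) _ trR _ _ i x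
  exact this h

noncomputable instance : Algebra R (Hens R) :=
  ((ofH (Classical.arbitrary (Idx R))).comp (algebraMap R _)).toAlgebra

theorem ofH_algebraMap (i : Idx R) (r : R) : ofH i (algebraMap R i.A r) = algebraMap R (Hens R) r := by
  obtain ⟨k, hik, h0k⟩ := exists_ge_ge i (Classical.arbitrary (Idx R))
  show _ = ofH (Classical.arbitrary (Idx R)) (algebraMap R _ r)
  rw [← ofH_tr hik, ← ofH_tr h0k, AlgHom.commutes, AlgHom.commutes]

/-- The canonical maps as algebra maps. -/
noncomputable def ofHₐ (i : Idx R) : i.A →ₐ[R] Hens R :=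
  { ofH i with commutes' := ofH_algebraMap i }

@[simp] theorem ofHₐ_apply (i : Idx R) (x : i.A) : ofHₐ i x = ofH i x := rfl

end Groth.Agent.Lib.HenselizationH3
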