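import Mathlib
import Groth.Agent.Lib.Henselization3_helper3

/-!
# Henselization of a local ring, part 4: maps of pointed étale algebras (helper3)
-/

set_option autoImplicit false
set_option maxSynthPendingDepth 3
universe u

namespace Groth.Agent.Lib.HenselizationH3

open IsLocalRing EGA4loc TensorProduct

variable {R : Type u} [CommRing R] [IsLocalRing R]

section LocMap

variable {C C' : Type u} [CommRing C] [Algebra R C] [CommRing C'] [Algebra R C']
  (ρ : C →ₐ[R] ResidueField R) (ρ' : C' →ₐ[R] ResidueField R) (φ : C →ₐ[R] C')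

/-- The map induced on local rings by a map of pointed algebras. -/
noncomputable def locMap (h : ρ'.comp φ = ρ) : Localization.AtPrime (RingHom.ker ρ) →ₐ[R]
    Localization.AtPrime (RingHom.ker ρ') :=
  IsLocalization.liftAlgHom (M := (RingHom.ker ρ).primeCompl)
    (f := (IsScalarTower.toAlgHom R C' (Localization.AtPrime (RingHom.ker ρ'))).comp φ) (by
      rintro ⟨y, hy⟩
      show IsUnit (algebraMap C' (Localization.AtPrime (RingHom.ker ρ')) (φ y))
      apply IsLocalization.map_units (M := (RingHom.ker ρ').primeCompl) _ ⟨φ y, ?_⟩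
      intro h0
      apply hy
      have h1 : ρ' (φ y) = 0 := h0
      show ρ y = 0
      rw [← h]
      exact h1)

theorem locMap_algebraMap (h : ρ'.comp φ = ρ) (c : C) :
    locMap ρ ρ' φ h (algebraMap C _ c) = algebraMap C' _ (φ c) := by
  unfold locMap
  rw [IsLocalization.coe_liftAlgHom, IsLocalization.lift_eq]
  rfl

end LocMap

/-- Strong realisation: every pointed étale algebra is isomorphic, as a pointed algebra, to the
algebra of an index. -/
theorem exists_idx_equiv (C : Type u) [CommRing C] [Algebra R C] [Algebra.Etale R C]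
    (ρ : C →ₐ[R] ResidueField R) :
    ∃ (k : Idx R) (e : C ≃ₐ[R] k.C), k.pt.comp e.toAlgHom = ρ := by
  obtain ⟨n, f, hf, -⟩ := (Algebra.FinitePresentation.out : ∃ (n : ℕ)
    (f : MvPolynomial (Fin n) R →ₐ[R] C), Function.Surjective f ∧ (RingHom.ker f.toRingHom).FG)
  let e : (MvPolynomial (Fin n) R ⧸ RingHom.ker f.toRingHom) ≃ₐ[R] C :=
    Ideal.quotientKerAlgEquivOfSurjective hf
  let k : Idx R := ⟨n, RingHom.ker f.toRingHom, Algebra.Etale.of_equiv e.symm, ρ.comp e.toAlgHom⟩
  refine ⟨k, e.symm, ?_⟩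
  ext c
  show ρ (e (e.symm c)) = ρ c
  rw [e.apply_symm_apply]

/-- A map from the algebra of an index to a pointed étale algebra is realised by a transition map. -/
theorem exists_idx_map (i : Idx R) (C' : Type u) [CommRing C'] [Algebra R C'] [Algebra.Etale R C']
    (ρ' : C' →ₐ[R] ResidueField R) (φ : i.C →ₐ[R] C') (h : ρ'.comp φ = i.pt) :
    ∃ (j : Idx R) (hij : i ≤ j) (e : C' →ₐ[R] j.C), j.pt.comp e = ρ' ∧
      ∀ c : i.C, tr hij (algebraMap i.C i.A c) = algebraMap j.C j.A (e (φ c)) := by
  obtain ⟨j, e, he⟩ := exists_idx_equiv C' ρ'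
  have h2 : j.pt.comp (e.toAlgHom.comp φ) = i.pt := by
    rw [← AlgHom.comp_assoc, he, h]
  let ψ : i.A →ₐ[R] j.A := locMap i.pt j.pt (e.toAlgHom.comp φ) h2
  have hij : i ≤ j := ⟨ψ⟩
  refine ⟨j, hij, e.toAlgHom, he, fun c => ?_⟩
  rw [tr_eq hij ψ]
  exact locMap_algebraMap i.pt j.pt (e.toAlgHom.comp φ) h2 c

end Groth.Agent.Lib.HenselizationH3
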