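import Mathlib
import Groth.Agent.Lib.Henselization4_helper3

/-!
# Henselization of a local ring, part 5: representing elements by the étale algebras (helper3)
-/

set_option autoImplicit false
set_option maxSynthPendingDepth 3
universe u

namespace Groth.Agent.Lib.HenselizationH3

open IsLocalRing EGA4loc TensorProduct Polynomial

variable {R : Type u} [CommRing R] [IsLocalRing R]

/-- The canonical map from the étale algebra of an index to the colimit. -/
noncomputable def ofC (j : Idx R) : j.C →ₐ[R] Hens R :=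
  (ofHₐ j).comp (IsScalarTower.toAlgHom R j.C j.A)

theorem ofC_apply (j : Idx R) (c : j.C) : ofC j c = ofH j (algebraMap j.C j.A c) := rfl

theorem ofC_mem_maximalIdeal_iff (j : Idx R) (c : j.C) :
    ofC j c ∈ maximalIdeal (Hens R) ↔ j.pt c = 0 := by
  rw [ofC_apply, ofH_mem_maximalIdeal_iff,
    IsLocalization.AtPrime.to_map_mem_maximal_iff j.A (RingHom.ker j.pt), RingHom.mem_ker]

theorem ofC_tr {i j : Idx R} (hij : i ≤ j) (e : i.C →ₐ[R] j.C)
    (he : ∀ c : i.C, tr hij (algebraMap i.C i.A c) = algebraMap j.C j.A (e c)) (c : i.C) :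
    ofC j (e c) = ofC i c := by
  rw [ofC_apply, ← he, ofH_tr, ofC_apply]

/-- An étale algebra over the algebra of an index, with a compatible point, maps to the algebra of a
larger index. -/
theorem exists_idx_of_etale_over (i : Idx R) (D : Type u) [CommRing D] [Algebra R D]
    [Algebra i.C D] [IsScalarTower R i.C D] [Algebra.Etale i.C D] (σ : D →ₐ[R] ResidueField R)
    (hσ : ∀ c : i.C, σ (algebraMap i.C D c) = i.pt c) :
    ∃ (j : Idx R) (e : D →ₐ[R] j.C), j.pt.comp e = σ ∧
      ∀ c : i.C, ofC j (e (algebraMap i.C D c)) = ofC i c := by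
  haveI : Algebra.Etale R D := Algebra.Etale.comp R i.C D
  obtain ⟨j, hij, e, he1, he2⟩ := exists_idx_map i D σ (IsScalarTower.toAlgHom R i.C D)
    (by ext c; exact hσ c)
  refine ⟨j, e, he1, fun c => ?_⟩
  rw [ofC_apply, ofC_apply, ← ofH_tr hij (algebraMap i.C i.A c), he2 c]
  rfl

/-- Finite families in the colimit come from a common étale algebra. -/
theorem exists_ofC_fin {l : ℕ} (x : Fin l → Hens R) :
    ∃ (j : Idx R) (c : Fin l → j.C), ∀ k, ofC j (c k) = x k := by
  classical
  obtain ⟨i, a, ha⟩ := exists_ofH_fin x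
  choose c s hcs using fun k => IsLocalization.exists_mk'_eq (RingHom.ker i.pt).primeCompl (a k)
  obtain ⟨t, ht⟩ : ∃ t : i.C, t = ∏ k, (s k : i.C) := ⟨_, rfl⟩
  have hts : ∀ k, (s k : i.C) ∣ t := fun k => by
    rw [ht]; exact Finset.dvd_prod_of_mem _ (Finset.mem_univ k)
  have hpt : i.pt t ≠ 0 := by
    rw [ht, map_prod]
    exact Finset.prod_ne_zero_iff.mpr (fun k _ h0 => (s k).2 (RingHom.mem_ker.mpr h0))
  let σ : Localization.Away t →ₐ[R] ResidueField R :=
    IsLocalization.liftAlgHom (M := Submonoid.powers t) (f := i.pt) (by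
      rintro ⟨_, n, rfl⟩
      rw [map_pow]
      exact (isUnit_iff_ne_zero.mpr hpt).pow n)
  have hσ : ∀ c : i.C, σ (algebraMap i.C (Localization.Away t) c) = i.pt c := fun c => by
    show IsLocalization.liftAlgHom _ _ = _
    rw [IsLocalization.coe_liftAlgHom, IsLocalization.lift_eq]
    rfl
  obtain ⟨j, e, he1, he2⟩ := exists_idx_of_etale_over i (Localization.Away t) σ hσ
  have hunit : ∀ k, IsUnit (algebraMap i.C (Localization.Away t) (s k)) := fun k =>
    isUnit_of_dvd_unit (map_dvd _ (hts k)) (IsLocalization.Away.algebraMap_isUnit t)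
  refine ⟨j, fun k => e (algebraMap i.C (Localization.Away t) (c k) * ↑(hunit k).unit⁻¹),
    fun k => ?_⟩
  have hu : IsUnit (ofC i (s k)) := by
    rw [ofC_apply, isUnit_ofH_iff]
    exact IsLocalization.map_units (M := (RingHom.ker i.pt).primeCompl) _ (s k)
  apply hu.mul_left_injective
  show _ * ofC i (s k) = x k * ofC i (s k)
  have hL : ofC j (e (algebraMap i.C (Localization.Away t) (c k) * ↑(hunit k).unit⁻¹)) *
      ofC i (s k) = ofC i (c k) := by
    rw [← he2 (s k), ← map_mul, ← map_mul, mul_assoc, IsUnit.val_inv_mul, mul_one, he2]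
  have hR : x k * ofC i (s k) = ofC i (c k) := by
    rw [← ha k, ofC_apply, ofC_apply, ← map_mul, ← hcs k, IsLocalization.mk'_spec]
  rw [hL, hR]

end Groth.Agent.Lib.HenselizationH3
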