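import Mathlib
import Groth.Agent.Lib.Henselization5_helper3

/-!
# Henselization of a local ring, part 6: the colimit is henselian (helper3)
-/

set_option autoImplicit false
set_option maxSynthPendingDepth 3
universe u

namespace Groth.Agent.Lib.HenselizationH3

open IsLocalRing EGA4loc TensorProduct Polynomial

variable {R : Type u} [CommRing R] [IsLocalRing R]

/-- One henselian step: a simple residue root of a monic polynomial over the étale algebra of an index
lifts to a root in the colimit. -/
theorem exists_root_step (j : Idx R) (p : Polynomial j.C) (hp : p.Monic) (c : j.C)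
    (h0 : j.pt (p.eval c) = 0) (h1 : j.pt (p.derivative.eval c) ≠ 0) :
    ∃ b : Hens R, (p.map (ofC j).toRingHom).IsRoot b ∧ b - ofC j c ∈ maximalIdeal (Hens R) := by
  let P : StandardEtalePair j.C := ⟨p, hp, derivative p, ⟨1, 0, 1, by simp⟩⟩
  letI : Algebra R P.Ring := Algebra.compHom P.Ring (algebraMap R j.C)
  haveI : IsScalarTower R j.C P.Ring := IsScalarTower.of_algebraMap_eq (fun _ => rfl)
  letI : Algebra j.C (ResidueField R) := j.pt.toRingHom.toAlgebra
  have halg : ∀ c' : j.C, algebraMap j.C (ResidueField R) c' = j.pt c' := fun _ => rfl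
  have hmap : P.HasMap (j.pt c) := by
    refine ⟨?_, ?_⟩
    · show aeval (j.pt c) p = 0
      rw [← halg, aeval_algebraMap_apply, halg, coe_aeval_eq_eval, h0]
    · show IsUnit (aeval (j.pt c) (derivative p))
      rw [← halg, aeval_algebraMap_apply, halg, coe_aeval_eq_eval, isUnit_iff_ne_zero]
      exact h1
  let σ₀ : P.Ring →ₐ[j.C] ResidueField R := P.lift (j.pt c) hmap
  let σ : P.Ring →ₐ[R] ResidueField R :=
    { toRingHom := σ₀.toRingHom
      commutes' := fun r => by
        show σ₀ (algebraMap j.C P.Ring (algebraMap R j.C r)) = _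
        rw [σ₀.commutes, halg, j.pt.commutes] }
  have hσ₀ : ∀ y, σ y = σ₀ y := fun _ => rfl
  have hσ : ∀ c' : j.C, σ (algebraMap j.C P.Ring c') = j.pt c' := fun c' => by
    rw [hσ₀, σ₀.commutes, halg]
  obtain ⟨j', e, he1, he2⟩ := exists_idx_of_etale_over j P.Ring σ hσ
  refine ⟨ofC j' (e P.X), ?_, ?_⟩
  · have hcomp : (ofC j).toRingHom =
        (((ofC j').comp e).toRingHom).comp (algebraMap j.C P.Ring) :=
      RingHom.ext fun c' => (he2 c').symm
    rw [IsRoot.def, eval_map, hcomp]
    have h3 := Polynomial.hom_eval₂ p (algebraMap j.C P.Ring) (((ofC j').comp e).toRingHom) P.X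
    have h4 : eval₂ (algebraMap j.C P.Ring) P.X p = 0 := by
      have := (StandardEtalePair.hasMap_X (P := P)).1
      rwa [aeval_def] at this
    rw [h4, map_zero] at h3
    exact h3.symm
  · have h5 : ofC j c = ofC j' (e (algebraMap j.C P.Ring c)) := (he2 c).symm
    rw [h5, ← map_sub, ← map_sub, ofC_mem_maximalIdeal_iff]
    have h6 : j'.pt (e (P.X - algebraMap j.C P.Ring c)) = σ (P.X - algebraMap j.C P.Ring c) := by
      rw [← he1]; rfl
    rw [h6, map_sub, hσ, hσ₀]
    show P.lift (j.pt c) hmap P.X - j.pt c = 0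
    rw [StandardEtalePair.lift_X, sub_self]

instance : HenselianLocalRing (Hens R) where
  is_henselian f hf a₀ h₁ h₂ := by
    obtain ⟨d, hd⟩ : ∃ d, d = f.natDegree := ⟨_, rfl⟩
    obtain ⟨j, c, hc⟩ := exists_ofC_fin (Fin.snoc (fun k : Fin d => f.coeff k) a₀ :
      Fin (d + 1) → Hens R)
    have hck : ∀ k : Fin d, ofC j (c k.castSucc) = f.coeff k := fun k => by
      rw [hc, Fin.snoc_castSucc]
    have hca : ofC j (c (Fin.last d)) = a₀ := by rw [hc, Fin.snoc_last]
    obtain ⟨p, hpdef⟩ : ∃ p : Polynomial j.C,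
      p = X ^ d + ∑ k : Fin d, C (c k.castSucc) * X ^ (k : ℕ) := ⟨_, rfl⟩
    have hpm : p.Monic := by
      rw [hpdef]
      exact monic_X_pow_add (degree_sum_fin_lt _)
    have hpf : p.map (ofC j).toRingHom = f := by
      conv_rhs => rw [hf.as_sum, ← hd, Finset.sum_range]
      rw [hpdef, Polynomial.map_add, Polynomial.map_pow, map_X, Polynomial.map_sum]
      congr 1
      refine Finset.sum_congr rfl fun k _ => ?_
      rw [Polynomial.map_mul, Polynomial.map_pow, map_X, map_C]
      congr 2
      exact hck k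
    have heval : ∀ q : Polynomial j.C, (q.map (ofC j).toRingHom).eval a₀ =
        ofC j (q.eval (c (Fin.last d))) := by
      intro q
      rw [← hca, eval_map]
      exact (Polynomial.hom_eval₂ q (RingHom.id _) (ofC j).toRingHom _).symm
    have h0 : j.pt (p.eval (c (Fin.last d))) = 0 := by
      rw [← ofC_mem_maximalIdeal_iff, ← heval, hpf]
      exact h₁
    have h1 : j.pt (p.derivative.eval (c (Fin.last d))) ≠ 0 := by
      intro h
      rw [← ofC_mem_maximalIdeal_iff, ← heval, ← derivative_map, hpf] at h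
      exact h h₂
    obtain ⟨b, hb1, hb2⟩ := exists_root_step j p hpm (c (Fin.last d)) h0 h1
    rw [hpf] at hb1
    rw [hca] at hb2
    exact ⟨b, hb1, hb2⟩

end Groth.Agent.Lib.HenselizationH3
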