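import Mathlib
import Groth.Prelude.Def_Hensel
import Groth.Agent.Lib.Henselization6_helper3

/-!
# Henselization of a local ring, part 7: the universal property and uniqueness (helper3)
-/

set_option autoImplicit false
set_option maxSynthPendingDepth 3
universe u

namespace Groth.Agent.Lib.HenselizationH3

open IsLocalRing EGA4loc TensorProduct Polynomial

variable {R : Type u} [CommRing R] [IsLocalRing R]

/-- A ring map out of a strictly essentially étale local algebra lying over a local map is local. -/
theorem isLocalHom_of_comp_eq (i : Idx R) {T : Type u} [CommRing T] [IsLocalRing T] (f : R →+* T)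
    [IsLocalHom f] (ψ : i.A →+* T) (hψ : ψ.comp (algebraMap R i.A) = f) : IsLocalHom ψ := by
  refine ((local_hom_TFAE ψ).out 2 0).mp ?_
  rw [← map_maximalIdeal_idx, Ideal.map_map, hψ]
  exact ((local_hom_TFAE f).out 0 2).mp (inferInstance : IsLocalHom f)

theorem existsUnique_lift_idx (i : Idx R) (T : Type u) [CommRing T] [HenselianLocalRing T]
    (f : R →+* T) [IsLocalHom f] :
    ∃! ψ : i.A →+* T, ψ.comp (algebraMap R i.A) = f := by
  obtain ⟨ψ, ⟨-, h2⟩, huniq⟩ := Groth.Agent.Lib.EssEt.existsUnique_lift_strict i.strict T f
  exact ⟨ψ, h2, fun ψ' h' => huniq ψ' ⟨isLocalHom_of_comp_eq i f ψ' h', h'⟩⟩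

theorem hens_universal (T : Type u) [CommRing T] [HenselianLocalRing T] (f : R →+* T)
    (hf : IsLocalHom f) : ∃! g : Hens R →+* T, g.comp (algebraMap R (Hens R)) = f := by
  haveI := hf
  choose g hg hguniq using fun i : Idx R => existsUnique_lift_idx i T f
  have hcompat : ∀ (i j : Idx R) (hij : i ≤ j) (x : i.A), g j (trR i j hij x) = g i x := by
    intro i j hij x
    have h1 : (g j).comp (tr hij).toRingHom = g i := by
      apply hguniq i
      ext r
      show g j (tr hij (algebraMap R i.A r)) = f r
      rw [AlgHom.commutes]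
      exact DFunLike.congr_fun (hg j) r
    exact DFunLike.congr_fun h1 x
  let G : Hens R →+* T := Ring.DirectLimit.lift (fun i : Idx R => i.A)
    (fun i j h => (trR i j h : _ → _)) T g hcompat
  have hG : ∀ i (x : i.A), G (ofH i x) = g i x := fun i x => Ring.DirectLimit.lift_of _ _ _ _ _
  refine ⟨G, ?_, ?_⟩
  · ext r
    obtain ⟨i⟩ := (inferInstance : Nonempty (Idx R))
    show G (algebraMap R (Hens R) r) = f r
    rw [← ofH_algebraMap i, hG]
    exact DFunLike.congr_fun (hg i) r
  · intro G' hG'
    apply Ring.DirectLimit.hom_ext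
    intro i
    have h1 : G'.comp (ofH i) = g i := by
      apply hguniq i
      ext r
      show G' (ofH i (algebraMap R i.A r)) = f r
      rw [ofH_algebraMap]
      exact DFunLike.congr_fun hG' r
    have h2 : G.comp (ofH i) = g i := by
      ext x
      exact hG i x
    exact h1.trans h2.symm

theorem isHenselization_hens : Hensel.IsHenselization R (Hens R) where
  henselian := inferInstance
  universal T _ _ f hf := hens_universal T f hf

/-- Any henselization is isomorphic over `R` to the colimit model. -/
theorem exists_ringEquiv_hens (S : Type u) [CommRing S] [IsLocalRing S] [Algebra R S]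
    [IsLocalHom (algebraMap R S)] [hS : Hensel.IsHenselization R S] :
    ∃ e : S ≃+* Hens R, ∀ r, e (algebraMap R S r) = algebraMap R (Hens R) r := by
  haveI : HenselianLocalRing S := hS.henselian
  obtain ⟨u, hu, -⟩ := hS.universal (Hens R) (algebraMap R (Hens R)) inferInstance
  obtain ⟨v, hv, -⟩ := hens_universal S (algebraMap R S) inferInstance
  obtain ⟨w, -, hwuniq⟩ := hS.universal S (algebraMap R S) inferInstance
  obtain ⟨w', -, hw'uniq⟩ := hens_universal (Hens R) (algebraMap R (Hens R)) inferInstance
  have h1 : v.comp u = RingHom.id S := by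
    have e1 : (v.comp u).comp (algebraMap R S) = algebraMap R S := by
      rw [RingHom.comp_assoc, hu, hv]
    rw [hwuniq (v.comp u) e1, hwuniq (RingHom.id S) (RingHom.id_comp _)]
  have h2 : u.comp v = RingHom.id (Hens R) := by
    have e2 : (u.comp v).comp (algebraMap R (Hens R)) = algebraMap R (Hens R) := by
      rw [RingHom.comp_assoc, hv, hu]
    rw [hw'uniq (u.comp v) e2, hw'uniq (RingHom.id _) (RingHom.id_comp _)]
  exact ⟨RingEquiv.ofRingHom u v h2 h1, fun r => DFunLike.congr_fun hu r⟩

end Groth.Agent.Lib.HenselizationH3
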