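import Mathlib
import Groth.Prelude.Def_Hensel
import Groth.Agent.Lib.Henselization7_helper3

/-!
# Henselization of a local ring, part 8: basic properties of any henselization (helper3)
-/

set_option autoImplicit false
set_option maxSynthPendingDepth 3
universe u

namespace Groth.Agent.Lib.HenselizationH3

open IsLocalRing EGA4loc TensorProduct Polynomial

variable {R : Type u} [CommRing R] [IsLocalRing R]
variable (S : Type u) [CommRing S] [IsLocalRing S] [Algebra R S]
  [IsLocalHom (algebraMap R S)] [Hensel.IsHenselization R S]

theorem mem_maximalIdeal_iff_of_ringEquiv {A B : Type u} [CommRing A] [IsLocalRing A] [CommRing B]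
    [IsLocalRing B] (e : A ≃+* B) (x : A) : e x ∈ maximalIdeal B ↔ x ∈ maximalIdeal A := by
  rw [mem_maximalIdeal, mem_maximalIdeal, mem_nonunits_iff, mem_nonunits_iff]
  constructor
  · intro h hx; exact h (hx.map e)
  · intro h hx
    apply h
    have := hx.map e.symm
    rwa [RingEquiv.symm_apply_apply] at this

include S in
variable (R) in
theorem exists_sub_mem_of_isHenselization (s : S) :
    ∃ r : R, s - algebraMap R S r ∈ maximalIdeal S := by
  obtain ⟨e, he⟩ := exists_ringEquiv_hens (R := R) S
  obtain ⟨r, hr⟩ := exists_sub_mem_maximalIdeal_hens (e s)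
  refine ⟨r, ?_⟩
  rw [← mem_maximalIdeal_iff_of_ringEquiv e, map_sub, he]
  exact hr

theorem map_maximalIdeal_of_isHenselization :
    (maximalIdeal R).map (algebraMap R S) = maximalIdeal S := by
  obtain ⟨e, he⟩ := exists_ringEquiv_hens (R := R) S
  apply le_antisymm
  · exact ((local_hom_TFAE (algebraMap R S)).out 0 2).mp
      (inferInstance : IsLocalHom (algebraMap R S))
  · intro s hs
    rw [← mem_maximalIdeal_iff_of_ringEquiv e, ← map_maximalIdeal_hens] at hs
    have h1 : e.symm (e s) ∈ ((maximalIdeal R).map (algebraMap R (Hens R))).map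
        (e.symm : Hens R →+* S) := Ideal.mem_map_of_mem _ hs
    rw [Ideal.map_map, RingEquiv.symm_apply_apply] at h1
    have h2 : (e.symm : Hens R →+* S).comp (algebraMap R (Hens R)) = algebraMap R S := by
      ext r
      show e.symm (algebraMap R (Hens R) r) = algebraMap R S r
      rw [← he, RingEquiv.symm_apply_apply]
    rwa [h2] at h1

theorem residueField_map_bijective_of_isHenselization :
    Function.Bijective (ResidueField.map (algebraMap R S)) := by
  refine ⟨RingHom.injective _, fun sbar => ?_⟩
  obtain ⟨s, rfl⟩ := residue_surjective sbar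
  obtain ⟨r, hr⟩ := exists_sub_mem_of_isHenselization R S s
  refine ⟨residue R r, ?_⟩
  rw [ResidueField.map_residue, eq_comm, ← sub_eq_zero, ← map_sub, residue_eq_zero_iff]
  exact hr

theorem faithfullyFlat_of_isHenselization : Module.FaithfullyFlat R S := by
  obtain ⟨e, he⟩ := exists_ringEquiv_hens (R := R) S
  let el : S ≃ₗ[R] Hens R :=
    { e with
      map_smul' := fun r s => by
        show e (r • s) = r • e s
        rw [Algebra.smul_def, Algebra.smul_def, map_mul, he] }
  haveI : Module.Flat R S := Module.Flat.of_linearEquiv el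
  exact Module.FaithfullyFlat.of_flat_of_isLocalHom

/-- `R/𝔪ⁿ → S/𝔪ⁿS` is bijective for a faithfully flat local algebra with `𝔪S = 𝔪_S` and trivial
residue field extension. -/
theorem quotientMap_pow_bijective_of (A B : Type u) [CommRing A] [IsLocalRing A] [CommRing B]
    [IsLocalRing B] [Algebra A B] [Module.FaithfullyFlat A B]
    (hm : (maximalIdeal A).map (algebraMap A B) = maximalIdeal B)
    (hres : ∀ b : B, ∃ a : A, b - algebraMap A B a ∈ maximalIdeal B) (n : ℕ) :
    Function.Bijective (Ideal.quotientMap
      (Ideal.map (algebraMap A B) (maximalIdeal A ^ n)) (algebraMap A B) Ideal.le_comap_map) := by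
  constructor
  · apply Ideal.quotientMap_injective'
    rw [Ideal.comap_map_eq_self_of_faithfullyFlat]
  · -- surjectivity
    have hbase : (⊤ : Submodule A B) ≤
        LinearMap.range (Algebra.linearMap A B) ⊔ (maximalIdeal A • ⊤ : Submodule A B) := by
      intro b _
      obtain ⟨a, ha⟩ := hres b
      rw [← hm] at ha
      have h2 : b - algebraMap A B a ∈ (maximalIdeal A • ⊤ : Submodule A B) := by
        rw [Ideal.smul_top_eq_map]
        exact ha
      have h3 : b = algebraMap A B a + (b - algebraMap A B a) := by ring
      rw [h3]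
      exact Submodule.add_mem_sup ⟨a, rfl⟩ h2
    have hind : ∀ k : ℕ, (⊤ : Submodule A B) ≤
        LinearMap.range (Algebra.linearMap A B) ⊔ ((maximalIdeal A) ^ k • ⊤ : Submodule A B) := by
      intro k
      induction k with
      | zero =>
        rw [pow_zero, Ideal.one_eq_top, Submodule.top_smul]
        exact le_sup_right
      | succ k ih =>
        have h4 : ((maximalIdeal A) ^ k • ⊤ : Submodule A B) ≤
            LinearMap.range (Algebra.linearMap A B) ⊔
              ((maximalIdeal A) ^ (k + 1) • ⊤ : Submodule A B) := by
          calc ((maximalIdeal A) ^ k • ⊤ : Submodule A B)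
              ≤ (maximalIdeal A) ^ k • (LinearMap.range (Algebra.linearMap A B) ⊔
                  (maximalIdeal A • ⊤ : Submodule A B)) := Submodule.smul_mono le_rfl hbase
            _ = (maximalIdeal A) ^ k • LinearMap.range (Algebra.linearMap A B) ⊔
                  (maximalIdeal A) ^ k • (maximalIdeal A • ⊤ : Submodule A B) :=
                Submodule.smul_sup _ _ _
            _ ≤ _ := by
                refine sup_le_sup Submodule.smul_le_right ?_
                rw [← Submodule.mul_smul, ← pow_succ]
        exact le_trans ih (sup_le le_sup_left h4)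
    intro x
    obtain ⟨b, rfl⟩ := Ideal.Quotient.mk_surjective x
    have hb := hind n (Submodule.mem_top : b ∈ ⊤)
    obtain ⟨y, ⟨a, rfl⟩, z, hz, hyz⟩ := Submodule.mem_sup.mp hb
    refine ⟨Ideal.Quotient.mk _ a, ?_⟩
    rw [Ideal.quotientMap_mk, Ideal.Quotient.eq, ← hyz]
    rw [Ideal.smul_top_eq_map] at hz
    have : algebraMap A B a - (Algebra.linearMap A B a + z) = -z := by
      rw [Algebra.linearMap_apply]; ring
    rw [this]
    exact neg_mem hz

end Groth.Agent.Lib.HenselizationH3
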