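import Mathlib
import Groth.Prelude.Def_Hensel
import Groth.Agent.Lib.Henselization8_helper3
import Groth.Agent.Lib.EtaleReduced_helper7

/-!
# Henselization of a local ring, part 9: reducedness and dimension (helper3)
-/

set_option autoImplicit false
set_option maxSynthPendingDepth 3
universe u

namespace Groth.Agent.Lib.HenselizationH3

open IsLocalRing EGA4loc TensorProduct Polynomial

variable {R : Type u} [CommRing R] [IsLocalRing R]

instance isReduced_idxC [IsReduced R] (i : Idx R) : IsReduced i.C :=
  Groth.Agent.Lib.EtaleReduced_helper7.isReduced_of_etale R i.C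

instance isReduced_idxA [IsReduced R] (i : Idx R) : IsReduced i.A :=
  isReduced_localizationPreserves (RingHom.ker i.pt).primeCompl i.A inferInstance

instance isReduced_hens [IsReduced R] : IsReduced (Hens R) := by
  refine ⟨fun z hz => ?_⟩
  obtain ⟨n, hn⟩ := hz
  obtain ⟨i, a, rfl⟩ := exists_ofH z
  rw [← map_pow] at hn
  obtain ⟨j, hij, h2⟩ := ofH_eq_zero hn
  rw [map_pow] at h2
  have h3 : tr hij a = 0 := IsNilpotent.eq_zero ⟨n, h2⟩
  rw [← ofH_tr hij, h3, map_zero]

theorem isReduced_iff_of_isHenselization (S : Type u) [CommRing S] [IsLocalRing S] [Algebra R S]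
    [IsLocalHom (algebraMap R S)] [Hensel.IsHenselization R S] : IsReduced R ↔ IsReduced S := by
  obtain ⟨e, he⟩ := exists_ringEquiv_hens (R := R) S
  constructor
  · intro h
    exact isReduced_of_injective e.toRingHom e.injective
  · intro h
    haveI := faithfullyFlat_of_isHenselization (R := R) S
    exact isReduced_of_injective (algebraMap R S)
      (FaithfulSMul.algebraMap_injective R S)

end Groth.Agent.Lib.HenselizationH3
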