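import Mathlib
import Groth.Prelude.Def_Hensel
import Groth.Agent.Lib.Henselization9_helper3

/-!
# Henselization of a local ring, part 10: Krull dimension (helper3)
-/

set_option autoImplicit false
set_option maxSynthPendingDepth 3
universe u

namespace Groth.Agent.Lib.HenselizationH3

open IsLocalRing EGA4loc TensorProduct Polynomial

/-- Faithfully flat algebras do not lower the Krull dimension. -/
theorem ringKrullDim_le_of_faithfullyFlat (A B : Type*) [CommRing A] [CommRing B] [Algebra A B]
    [Module.FaithfullyFlat A B] : ringKrullDim A ≤ ringKrullDim B := by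
  unfold ringKrullDim Order.krullDim
  refine iSup_le fun l => ?_
  obtain ⟨P, hP, hPl⟩ := Ideal.exists_isPrime_liesOver_of_faithfullyFlat (B := B) l.last.asIdeal
  obtain ⟨L, hlen, -, -⟩ := Ideal.exists_ltSeries_of_hasGoingDown l P
  rw [← hlen]
  exact Order.LTSeries.length_le_krullDim L

variable {R : Type u} [CommRing R] [IsLocalRing R]

theorem exists_ofC (z : Hens R) : ∃ (j : Idx R) (c : j.C), ofC j c = z := by
  obtain ⟨j, c, hc⟩ := exists_ofC_fin (fun _ : Fin 1 => z)
  exact ⟨j, c 0, hc 0⟩

/-- Primes of the henselization over the same prime of `R` are incomparable. -/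
theorem hens_prime_eq_of_le (Q Q' : Ideal (Hens R)) [Q.IsPrime] [Q'.IsPrime] (hle : Q ≤ Q')
    (hc : Q.comap (algebraMap R (Hens R)) = Q'.comap (algebraMap R (Hens R))) : Q = Q' := by
  refine le_antisymm hle fun z hz => ?_
  obtain ⟨j, c, rfl⟩ := exists_ofC z
  have h1 : Q.comap (ofC j).toRingHom ≤ Q'.comap (ofC j).toRingHom := Ideal.comap_mono hle
  have h2 : (Q.comap (ofC j).toRingHom).under R = (Q'.comap (ofC j).toRingHom).under R := by
    rw [Ideal.under_def, Ideal.under_def, Ideal.comap_comap, Ideal.comap_comap]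
    have : (ofC j).toRingHom.comp (algebraMap R j.C) = algebraMap R (Hens R) :=
      (ofC j).comp_algebraMap
    rw [this, hc]
  have h3 := Algebra.QuasiFinite.eq_of_le_of_under_eq (R := R) _ _ h1 h2
  have h4 : c ∈ Q'.comap (ofC j).toRingHom := hz
  rw [← h3] at h4
  exact h4

theorem ringKrullDim_hens : ringKrullDim (Hens R) = ringKrullDim R := by
  apply le_antisymm
  · refine Order.krullDim_le_of_strictMono (PrimeSpectrum.comap (algebraMap R (Hens R))) ?_
    intro a b hab
    have hle : a.asIdeal ≤ b.asIdeal := hab.le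
    refine lt_of_le_of_ne (Ideal.comap_mono hle) fun heq => ?_
    have h1 : a.asIdeal.comap (algebraMap R (Hens R)) = b.asIdeal.comap (algebraMap R (Hens R)) :=
      congrArg PrimeSpectrum.asIdeal heq
    have h2 := hens_prime_eq_of_le a.asIdeal b.asIdeal hle h1
    exact hab.ne (PrimeSpectrum.ext h2)
  · exact ringKrullDim_le_of_faithfullyFlat R (Hens R)

theorem ringKrullDim_of_isHenselization (S : Type u) [CommRing S] [IsLocalRing S] [Algebra R S]
    [IsLocalHom (algebraMap R S)] [Hensel.IsHenselization R S] :
    ringKrullDim S = ringKrullDim R := by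
  obtain ⟨e, -⟩ := exists_ringEquiv_hens (R := R) S
  rw [ringKrullDim_eq_of_ringEquiv e, ringKrullDim_hens]

end Groth.Agent.Lib.HenselizationH3
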