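import Mathlib
import Groth.Agent.Lib.EssEt_lead

/-!
# Strict henselization of a local ring, part 1 (lead): étale algebras pointed in a field `K`

`K` is a field extension of the residue field of the local ring `R`. A `K`-pointed étale algebra is an
étale `R`-algebra `C` with an `R`-algebra map `ρ : C → K`; the localisation of `C` at `ker ρ` is an
essentially étale local `R`-algebra with a point in `K`. (For `K = κ(R)` this is helper3's index
category for the henselization; for `K` a separable closure it gives the strict henselization.)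
-/

set_option autoImplicit false
set_option maxSynthPendingDepth 3
universe u

namespace Groth.Agent.Lib.StrictHens

open IsLocalRing EGA4loc TensorProduct

section Pointed

variable {R : Type u} [CommRing R] [IsLocalRing R]
variable {K : Type u} [Field K] [Algebra R K] [Algebra (ResidueField R) K]
  [IsScalarTower R (ResidueField R) K]

variable (K) in
theorem algebraMap_eq_zero_iff (r : R) : algebraMap R K r = 0 ↔ r ∈ maximalIdeal R := by
  rw [IsScalarTower.algebraMap_apply R (ResidueField R) K,
    map_eq_zero_iff _ (algebraMap (ResidueField R) K).injective, ResidueField.algebraMap_eq,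
    residue_eq_zero_iff]

variable {C : Type u} [CommRing C] [Algebra R C] (ρ : C →ₐ[R] K)

theorem ker_comap : (RingHom.ker ρ).comap (algebraMap R C) = maximalIdeal R := by
  ext a
  rw [Ideal.mem_comap, RingHom.mem_ker, AlgHom.commutes, algebraMap_eq_zero_iff]

instance ker_isPrime : (RingHom.ker ρ).IsPrime := RingHom.ker_isPrime ρ

instance isLocalHom_algebraMap_loc :
    IsLocalHom (algebraMap R (Localization.AtPrime (RingHom.ker ρ))) :=
  Groth.Agent.Lib.EssEt.isLocalHom_of_comap _ (ker_comap ρ)

/-- The point extended to the local ring. -/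
noncomputable def locPt : Localization.AtPrime (RingHom.ker ρ) →ₐ[R] K :=
  IsLocalization.liftAlgHom (M := (RingHom.ker ρ).primeCompl) (f := ρ) (by
    rintro ⟨y, hy⟩
    rw [isUnit_iff_ne_zero]
    exact fun h0 => hy (RingHom.mem_ker.mpr h0))

theorem locPt_algebraMap (c : C) :
    locPt ρ (algebraMap C (Localization.AtPrime (RingHom.ker ρ)) c) = ρ c := by
  unfold locPt
  rw [IsLocalization.coe_liftAlgHom, IsLocalization.lift_eq]
  rfl

theorem locPt_eq_zero_iff (y : Localization.AtPrime (RingHom.ker ρ)) :
    locPt ρ y = 0 ↔ y ∈ maximalIdeal (Localization.AtPrime (RingHom.ker ρ)) := by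
  constructor
  · intro hy
    have hne : RingHom.ker (locPt ρ).toRingHom ≠ ⊤ := RingHom.ker_ne_top _
    exact le_maximalIdeal hne (RingHom.mem_ker.mpr hy)
  · intro hy
    obtain ⟨c, ⟨s, hs⟩, rfl⟩ := IsLocalization.exists_mk'_eq (RingHom.ker ρ).primeCompl y
    rw [IsLocalization.AtPrime.mk'_mem_maximal_iff (Localization.AtPrime (RingHom.ker ρ))
      (RingHom.ker ρ)] at hy
    have h1 : locPt ρ (IsLocalization.mk' (Localization.AtPrime (RingHom.ker ρ)) c
        (⟨s, hs⟩ : (RingHom.ker ρ).primeCompl)) *
        locPt ρ (algebraMap C _ s) = locPt ρ (algebraMap C _ c) := by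
      rw [← map_mul, IsLocalization.mk'_spec]
    rw [locPt_algebraMap, locPt_algebraMap, RingHom.mem_ker.mp hy] at h1
    have h2 : ρ s ≠ 0 := fun h0 => hs (RingHom.mem_ker.mpr h0)
    exact (mul_eq_zero.mp h1).resolve_right h2

theorem locPt_ne_zero_iff (y : Localization.AtPrime (RingHom.ker ρ)) :
    locPt ρ y ≠ 0 ↔ IsUnit y := by
  rw [Ne, locPt_eq_zero_iff, mem_maximalIdeal, mem_nonunits_iff, not_not]

theorem isEssentiallyEtale_loc [Algebra.Etale R C] :
    IsEssentiallyEtale R (Localization.AtPrime (RingHom.ker ρ)) :=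
  ⟨C, inferInstance, inferInstance, RingHom.ker ρ, inferInstance, inferInstance, ker_comap ρ,
    ⟨AlgEquiv.refl⟩⟩

section LocMap

variable {C' : Type u} [CommRing C'] [Algebra R C'] (ρ' : C' →ₐ[R] K) (φ : C →ₐ[R] C')

/-- The map induced on local rings by a map of pointed algebras. -/
noncomputable def locMap (h : ρ'.comp φ = ρ) : Localization.AtPrime (RingHom.ker ρ) →ₐ[R]
    Localization.AtPrime (RingHom.ker ρ') :=
  IsLocalization.liftAlgHom (M := (RingHom.ker ρ).primeCompl)
    (f := (IsScalarTower.toAlgHom R C' (Localization.AtPrime (RingHom.ker ρ'))).comp φ) (by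
      rintro ⟨y, hy⟩
      show IsUnit (algebraMap C' (Localization.AtPrime (RingHom.ker ρ')) (φ y))
      apply IsLocalization.map_units (M := (RingHom.ker ρ').primeCompl) _ ⟨φ y, ?_⟩
      intro h0
      apply hy
      have h1 : ρ' (φ y) = 0 := h0
      show ρ y = 0
      rw [← h]
      exact h1)

theorem locMap_algebraMap (h : ρ'.comp φ = ρ) (c : C) :
    locMap ρ ρ' φ h (algebraMap C _ c) = algebraMap C' _ (φ c) := by
  unfold locMap
  rw [IsLocalization.coe_liftAlgHom, IsLocalization.lift_eq]
  rfl

theorem locPt_locMap (h : ρ'.comp φ = ρ) (y : Localization.AtPrime (RingHom.ker ρ)) :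
    locPt ρ' (locMap ρ ρ' φ h y) = locPt ρ y := by
  have h1 : ((locPt ρ').comp (locMap ρ ρ' φ h)).toRingHom = (locPt ρ).toRingHom := by
    apply IsLocalization.ringHom_ext (RingHom.ker ρ).primeCompl
    refine RingHom.ext fun c => ?_
    show locPt ρ' (locMap ρ ρ' φ h (algebraMap C _ c)) = locPt ρ (algebraMap C _ c)
    rw [locMap_algebraMap, locPt_algebraMap, locPt_algebraMap, ← h]
    rfl
  exact DFunLike.congr_fun h1 y

end LocMap

end Pointed

section Index

variable (R : Type u) [CommRing R] [IsLocalRing R]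
variable (K : Type u) [Field K] [Algebra R K] [Algebra (ResidueField R) K]
  [IsScalarTower R (ResidueField R) K]

/-- Presentations of `K`-pointed étale `R`-algebras: a small index type. -/
structure Idx : Type u where
  /-- number of generators -/
  n : ℕ
  /-- ideal of relations -/
  J : Ideal (MvPolynomial (Fin n) R)
  etale : Algebra.Etale R (MvPolynomial (Fin n) R ⧸ J)
  /-- the point -/
  pt : (MvPolynomial (Fin n) R ⧸ J) →ₐ[R] K

variable {R K}

/-- The étale algebra of an index. -/
abbrev Idx.C (i : Idx R K) : Type u := MvPolynomial (Fin i.n) R ⧸ i.J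

instance Idx.etaleC (i : Idx R K) : Algebra.Etale R i.C := i.etale

/-- The essentially étale local algebra of an index. -/
abbrev Idx.A (i : Idx R K) : Type u := Localization.AtPrime (RingHom.ker i.pt)

/-- The point of the local algebra of an index. -/
noncomputable abbrev Idx.ptA (i : Idx R K) : i.A →ₐ[R] K := locPt i.pt

theorem Idx.essEtale (i : Idx R K) : IsEssentiallyEtale R i.A :=
  isEssentiallyEtale_loc i.pt

instance Idx.unramified (i : Idx R K) : Algebra.FormallyUnramified R i.A :=
  (Groth.Agent.Lib.EssEt.inst_of_essEtale i.essEtale).1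

instance Idx.essFiniteType (i : Idx R K) : Algebra.EssFiniteType R i.A :=
  (Groth.Agent.Lib.EssEt.inst_of_essEtale i.essEtale).2

/-- Strong realisation: every pointed étale algebra is isomorphic, as a pointed algebra, to the
algebra of an index. -/
theorem exists_idx_equiv (C : Type u) [CommRing C] [Algebra R C] [Algebra.Etale R C]
    (ρ : C →ₐ[R] K) :
    ∃ (k : Idx R K) (e : C ≃ₐ[R] k.C), k.pt.comp e.toAlgHom = ρ := by
  obtain ⟨n, f, hf, -⟩ := (Algebra.FinitePresentation.out : ∃ (n : ℕ)
    (f : MvPolynomial (Fin n) R →ₐ[R] C), Function.Surjective f ∧ (RingHom.ker f.toRingHom).FG)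
  let e : (MvPolynomial (Fin n) R ⧸ RingHom.ker f.toRingHom) ≃ₐ[R] C :=
    Ideal.quotientKerAlgEquivOfSurjective hf
  let k : Idx R K := ⟨n, RingHom.ker f.toRingHom, Algebra.Etale.of_equiv e.symm, ρ.comp e.toAlgHom⟩
  refine ⟨k, e.symm, ?_⟩
  ext c
  show ρ (e (e.symm c)) = ρ c
  rw [e.apply_symm_apply]

/-- Rigidity: two `R`-algebra maps between the local algebras of indices compatible with the points
are equal. -/
theorem hom_eq_of_pointed {i j : Idx R K} (ψ ψ' : i.A →ₐ[R] j.A)
    (h : j.ptA.comp ψ = i.ptA) (h' : j.ptA.comp ψ' = i.ptA) : ψ = ψ' := by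
  refine Groth.Agent.Lib.EssEt.algHom_eq_of_residue_eq ψ ψ' (fun x => ?_)
  rw [← locPt_eq_zero_iff, map_sub]
  have h1 : j.ptA (ψ x) = i.ptA x := DFunLike.congr_fun h x
  have h2 : j.ptA (ψ' x) = i.ptA x := DFunLike.congr_fun h' x
  show j.ptA (ψ x) - j.ptA (ψ' x) = 0
  rw [h1, h2, sub_self]

end Index

end Groth.Agent.Lib.StrictHens
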