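import Mathlib
import Groth.Agent.Lib.StrictHens1_lead

/-!
# Strict henselization, part 2 (lead): the directed system of `K`-pointed local algebras, its colimit
-/

set_option autoImplicit false
set_option maxSynthPendingDepth 3
universe u

namespace Groth.Agent.Lib.StrictHens

open IsLocalRing EGA4loc TensorProduct

variable {R : Type u} [CommRing R] [IsLocalRing R]
variable {K : Type u} [Field K] [Algebra R K] [Algebra (ResidueField R) K]
  [IsScalarTower R (ResidueField R) K]

instance : Preorder (Idx R K) where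
  le i j := ∃ ψ : i.A →ₐ[R] j.A, j.ptA.comp ψ = i.ptA
  le_refl i := ⟨AlgHom.id R _, AlgHom.comp_id _⟩
  le_trans i j k := fun ⟨f, hf⟩ ⟨g, hg⟩ => ⟨g.comp f, by rw [← AlgHom.comp_assoc, hg, hf]⟩

theorem le_def (i j : Idx R K) : i ≤ j ↔ ∃ ψ : i.A →ₐ[R] j.A, j.ptA.comp ψ = i.ptA := Iff.rfl

/-- A map of pointed étale algebras gives an inequality of indices. -/
theorem le_of_map {i j : Idx R K} (φ : i.C →ₐ[R] j.C) (h : j.pt.comp φ = i.pt) : i ≤ j :=
  ⟨locMap i.pt j.pt φ h, AlgHom.ext fun y => locPt_locMap i.pt j.pt φ h y⟩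

instance : IsDirectedOrder (Idx R K) where
  directed i j := by
    haveI : Algebra.Etale R (i.C ⊗[R] j.C) := Algebra.Etale.comp R i.C _
    obtain ⟨k, e, he⟩ := exists_idx_equiv (i.C ⊗[R] j.C)
      (Algebra.TensorProduct.productMap i.pt j.pt)
    refine ⟨k, le_of_map (e.toAlgHom.comp Algebra.TensorProduct.includeLeft) ?_,
      le_of_map (e.toAlgHom.comp Algebra.TensorProduct.includeRight) ?_⟩
    · rw [← AlgHom.comp_assoc, he, Algebra.TensorProduct.productMap_left]
    · rw [← AlgHom.comp_assoc, he, Algebra.TensorProduct.productMap_right]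

instance : Nonempty (Idx R K) := by
  obtain ⟨k, -⟩ := exists_idx_equiv (K := K) R (Algebra.ofId R K)
  exact ⟨k⟩

/-- The transition maps. -/
noncomputable def tr {i j : Idx R K} (h : i ≤ j) : i.A →ₐ[R] j.A := Classical.choose h

theorem tr_spec {i j : Idx R K} (h : i ≤ j) : j.ptA.comp (tr h) = i.ptA := Classical.choose_spec h

theorem ptA_tr {i j : Idx R K} (h : i ≤ j) (x : i.A) : j.ptA (tr h x) = i.ptA x :=
  DFunLike.congr_fun (tr_spec h) x

theorem tr_eq {i j : Idx R K} (h : i ≤ j) (g : i.A →ₐ[R] j.A) (hg : j.ptA.comp g = i.ptA) :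
    tr h = g := hom_eq_of_pointed _ _ (tr_spec h) hg

/-- The transition maps as ring homs. -/
noncomputable def trR (i j : Idx R K) (h : i ≤ j) : i.A →+* j.A := (tr h).toRingHom

theorem trR_apply {i j : Idx R K} (h : i ≤ j) (x : i.A) : trR i j h x = tr h x := rfl

instance : DirectedSystem (fun i : Idx R K => i.A) (fun i j h => (trR i j h : _ → _)) where
  map_self i x := by
    rw [trR_apply, tr_eq le_rfl (AlgHom.id R _) (AlgHom.comp_id _)]
    rfl
  map_map k j i hij hjk x := by
    rw [trR_apply, trR_apply, trR_apply, tr_eq (hij.trans hjk) ((tr hjk).comp (tr hij))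
      (by rw [← AlgHom.comp_assoc, tr_spec, tr_spec])]
    rfl

variable (R K) in
/-- The colimit of the `K`-pointed essentially étale local `R`-algebras. For `K` a separable closure
of the residue field, this is the strict henselization. -/
abbrev SH : Type u :=
  Ring.DirectLimit (fun i : Idx R K => i.A) (fun i j h => (trR i j h : _ → _))

/-- The canonical maps to the colimit. -/
noncomputable def ofH (i : Idx R K) : i.A →+* SH R K :=
  Ring.DirectLimit.of (fun i : Idx R K => i.A) (fun i j h => (trR i j h : _ → _)) i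

theorem ofH_tr {i j : Idx R K} (h : i ≤ j) (x : i.A) : ofH j (tr h x) = ofH i x :=
  Ring.DirectLimit.of_f (f := fun i j h => (trR i j h : _ → _)) h x

theorem exists_ofH (z : SH R K) : ∃ (i : Idx R K) (x : i.A), ofH i x = z :=
  Ring.DirectLimit.exists_of (f := fun i j h => (trR i j h : _ → _)) z

theorem ofH_eq_zero {i : Idx R K} {x : i.A} (h : ofH i x = 0) :
    ∃ (j : Idx R K) (hij : i ≤ j), tr hij x = 0 := by
  have := @Ring.DirectLimit.of.zero_exact (Idx R K) _ (fun i : Idx R K => i.A) _ trR _ _ i x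
  exact this h

noncomputable instance : Algebra R (SH R K) :=
  ((ofH (Classical.arbitrary (Idx R K))).comp (algebraMap R _)).toAlgebra

theorem ofH_algebraMap (i : Idx R K) (r : R) :
    ofH i (algebraMap R i.A r) = algebraMap R (SH R K) r := by
  obtain ⟨k, hik, h0k⟩ := exists_ge_ge i (Classical.arbitrary (Idx R K))
  show _ = ofH (Classical.arbitrary (Idx R K)) (algebraMap R _ r)
  rw [← ofH_tr hik, ← ofH_tr h0k, AlgHom.commutes, AlgHom.commutes]

/-- The canonical maps as algebra maps. -/
noncomputable def ofHₐ (i : Idx R K) : i.A →ₐ[R] SH R K :=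
  { ofH i with commutes' := ofH_algebraMap i }

@[simp] theorem ofHₐ_apply (i : Idx R K) (x : i.A) : ofHₐ i x = ofH i x := rfl

/-- The point of the colimit. -/
noncomputable def ptH : SH R K →+* K :=
  Ring.DirectLimit.lift (fun i : Idx R K => i.A) (fun i j h => (trR i j h : _ → _)) K
    (fun i => i.ptA.toRingHom) (fun i j hij x => ptA_tr hij x)

theorem ptH_ofH (i : Idx R K) (x : i.A) : ptH (ofH i x) = i.ptA x :=
  Ring.DirectLimit.lift_of _ _ _ _ _

theorem ptH_algebraMap (r : R) : ptH (algebraMap R (SH R K) r) = algebraMap R K r := by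
  obtain ⟨i⟩ := (inferInstance : Nonempty (Idx R K))
  rw [← ofH_algebraMap i, ptH_ofH, AlgHom.commutes]

end Groth.Agent.Lib.StrictHens
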