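import Mathlib
import Groth.Agent.Lib.StrictHens2_lead

/-!
# Strict henselization, part 3 (lead): the colimit is local, unramified and faithfully flat over `R`
-/

set_option autoImplicit false
set_option maxSynthPendingDepth 3
universe u

namespace Groth.Agent.Lib.StrictHens

open IsLocalRing EGA4loc TensorProduct

variable {R : Type u} [CommRing R] [IsLocalRing R]
variable {K : Type u} [Field K] [Algebra R K] [Algebra (ResidueField R) K]
  [IsScalarTower R (ResidueField R) K]

theorem tr_isUnit_iff {i j : Idx R K} (h : i ≤ j) (x : i.A) : IsUnit (tr h x) ↔ IsUnit x := by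
  rw [← locPt_ne_zero_iff j.pt, ← locPt_ne_zero_iff i.pt]
  have := ptA_tr h x
  show j.ptA (tr h x) ≠ 0 ↔ i.ptA x ≠ 0
  rw [this]

instance isLocalHom_tr {i j : Idx R K} (h : i ≤ j) : IsLocalHom (tr h).toRingHom :=
  ⟨fun x hx => (tr_isUnit_iff h x).mp hx⟩

theorem exists_ofH_fin {l : ℕ} (x : Fin l → SH R K) :
    ∃ (i : Idx R K) (a : Fin l → i.A), ∀ k, ofH i (a k) = x k := by
  classical
  choose ix ax hax using fun k => exists_ofH (x k)
  obtain ⟨M, hM⟩ := Finset.exists_le (Finset.univ.image ix)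
  have hle : ∀ k, ix k ≤ M := fun k => hM _ (Finset.mem_image_of_mem ix (Finset.mem_univ k))
  exact ⟨M, fun k => tr (hle k) (ax k), fun k => by rw [ofH_tr, hax]⟩

theorem isUnit_ofH_iff {i : Idx R K} (a : i.A) : IsUnit (ofH i a) ↔ IsUnit a := by
  constructor
  · intro h
    obtain ⟨y, hy⟩ := h.exists_right_inv
    obtain ⟨j, b, rfl⟩ := exists_ofH y
    obtain ⟨k, hik, hjk⟩ := exists_ge_ge i j
    have h1 : ofH k (tr hik a * tr hjk b - 1) = 0 := by
      rw [map_sub, map_mul, ofH_tr, ofH_tr, hy, map_one, sub_self]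
    obtain ⟨l, hkl, h2⟩ := ofH_eq_zero h1
    rw [map_sub, map_mul, map_one, sub_eq_zero] at h2
    have h3 : IsUnit (tr hkl (tr hik a)) := IsUnit.of_mul_eq_one _ h2
    rw [tr_isUnit_iff, tr_isUnit_iff] at h3
    exact h3
  · intro h
    exact h.map (ofH i)

instance : Nontrivial (SH R K) := by
  refine ⟨⟨0, 1, fun h => ?_⟩⟩
  obtain ⟨i⟩ := (inferInstance : Nonempty (Idx R K))
  have h1 : ofH i (1 : i.A) = 0 := by rw [map_one]; exact h.symm
  obtain ⟨j, hij, h2⟩ := ofH_eq_zero h1
  rw [map_one] at h2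
  exact one_ne_zero h2

instance : IsLocalRing (SH R K) := by
  refine IsLocalRing.of_isUnit_or_isUnit_one_sub_self fun z => ?_
  obtain ⟨i, a, rfl⟩ := exists_ofH z
  rcases IsLocalRing.isUnit_or_isUnit_one_sub_self a with h | h
  · exact Or.inl (h.map (ofH i))
  · right
    have := h.map (ofH i)
    rwa [map_sub, map_one] at this

theorem ofH_mem_maximalIdeal_iff {i : Idx R K} (a : i.A) :
    ofH i a ∈ maximalIdeal (SH R K) ↔ a ∈ maximalIdeal i.A := by
  rw [mem_maximalIdeal, mem_maximalIdeal, mem_nonunits_iff, mem_nonunits_iff, isUnit_ofH_iff]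

instance isLocalHom_ofH (i : Idx R K) : IsLocalHom (ofH i) :=
  ⟨fun a h => (isUnit_ofH_iff a).mp h⟩

instance : IsLocalHom (algebraMap R (SH R K)) := by
  refine ⟨fun r h => ?_⟩
  obtain ⟨i⟩ := (inferInstance : Nonempty (Idx R K))
  rw [← ofH_algebraMap i, isUnit_ofH_iff] at h
  exact isUnit_of_map_unit (algebraMap R i.A) r h

theorem ptH_eq_zero_iff (z : SH R K) : ptH z = 0 ↔ z ∈ maximalIdeal (SH R K) := by
  obtain ⟨i, a, rfl⟩ := exists_ofH z
  rw [ptH_ofH, ofH_mem_maximalIdeal_iff]
  exact locPt_eq_zero_iff i.pt a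

instance isLocalHom_ptH : IsLocalHom (ptH : SH R K →+* K) := by
  refine ⟨fun z hz => ?_⟩
  by_contra hnz
  have : z ∈ maximalIdeal (SH R K) := (mem_maximalIdeal z).mpr hnz
  rw [← ptH_eq_zero_iff] at this
  rw [this] at hz
  exact not_isUnit_zero hz

theorem map_maximalIdeal_idx (i : Idx R K) :
    (maximalIdeal R).map (algebraMap R i.A) = maximalIdeal i.A :=
  Algebra.FormallyUnramified.map_maximalIdeal

theorem map_maximalIdeal_sh :
    (maximalIdeal R).map (algebraMap R (SH R K)) = maximalIdeal (SH R K) := by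
  apply le_antisymm
  · exact ((local_hom_TFAE (algebraMap R (SH R K))).out 0 2).mp
      (inferInstance : IsLocalHom (algebraMap R (SH R K)))
  · intro z hz
    obtain ⟨i, a, rfl⟩ := exists_ofH z
    rw [ofH_mem_maximalIdeal_iff, ← map_maximalIdeal_idx] at hz
    have h1 : ofH i a ∈ ((maximalIdeal R).map (algebraMap R i.A)).map (ofH i) :=
      Ideal.mem_map_of_mem _ hz
    rw [Ideal.map_map] at h1
    have h2 : (ofH i).comp (algebraMap R i.A) = algebraMap R (SH R K) := by
      ext r; exact ofH_algebraMap i r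
    rwa [h2] at h1

instance flat_idx (i : Idx R K) : Module.Flat R i.A :=
  Module.Flat.trans R i.C i.A

instance : Module.Flat R (SH R K) := by
  apply Module.Flat.of_forall_isTrivialRelation
  intro l f x hfx
  obtain ⟨i, a, ha⟩ := exists_ofH_fin x
  have h1 : ofH i (∑ k, f k • a k) = 0 := by
    rw [map_sum, ← hfx]
    refine Finset.sum_congr rfl fun k _ => ?_
    rw [Algebra.smul_def, map_mul, ofH_algebraMap, ha, Algebra.smul_def]
  obtain ⟨j, hij, h2⟩ := ofH_eq_zero h1
  have h3 : ∑ k, f k • tr hij (a k) = 0 := by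
    rw [← h2, map_sum]
    refine Finset.sum_congr rfl fun k _ => ?_
    rw [map_smul]
  obtain ⟨m, c, y, hy1, hy2⟩ := Module.Flat.isTrivialRelation_of_sum_smul_eq_zero h3
  refine ⟨m, c, fun t => ofH j (y t), fun k => ?_, hy2⟩
  have hy1k : tr hij (a k) = ∑ t, c k t • y t := hy1 k
  rw [← ha k, ← ofH_tr hij, hy1k, map_sum]
  refine Finset.sum_congr rfl fun t _ => ?_
  rw [Algebra.smul_def, map_mul, ofH_algebraMap, Algebra.smul_def]

instance : Module.FaithfullyFlat R (SH R K) :=
  Module.FaithfullyFlat.of_flat_of_isLocalHom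

end Groth.Agent.Lib.StrictHens
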