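import Mathlib
import Groth.Agent.Lib.StrictHens3_lead

/-!
# Strict henselization, part 4 (lead): the colimit is a henselian local ring
-/

set_option autoImplicit false
set_option maxSynthPendingDepth 3
universe u

namespace Groth.Agent.Lib.StrictHens

open IsLocalRing EGA4loc TensorProduct Polynomial

variable {R : Type u} [CommRing R] [IsLocalRing R]
variable {K : Type u} [Field K] [Algebra R K] [Algebra (ResidueField R) K]
  [IsScalarTower R (ResidueField R) K]

/-- A map from the algebra of an index to a pointed étale algebra is realised by a transition map. -/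
theorem exists_idx_map (i : Idx R K) (C' : Type u) [CommRing C'] [Algebra R C'] [Algebra.Etale R C']
    (ρ' : C' →ₐ[R] K) (φ : i.C →ₐ[R] C') (h : ρ'.comp φ = i.pt) :
    ∃ (j : Idx R K) (hij : i ≤ j) (e : C' →ₐ[R] j.C), j.pt.comp e = ρ' ∧
      ∀ c : i.C, tr hij (algebraMap i.C i.A c) = algebraMap j.C j.A (e (φ c)) := by
  obtain ⟨j, e, he⟩ := exists_idx_equiv C' ρ'
  have h2 : j.pt.comp (e.toAlgHom.comp φ) = i.pt := by
    rw [← AlgHom.comp_assoc, he, h]
  have hij : i ≤ j := le_of_map (e.toAlgHom.comp φ) h2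
  refine ⟨j, hij, e.toAlgHom, he, fun c => ?_⟩
  rw [tr_eq hij (locMap i.pt j.pt (e.toAlgHom.comp φ) h2)
    (AlgHom.ext fun y => locPt_locMap i.pt j.pt _ h2 y)]
  exact locMap_algebraMap i.pt j.pt (e.toAlgHom.comp φ) h2 c

/-- The canonical map from the étale algebra of an index to the colimit. -/
noncomputable def ofC (j : Idx R K) : j.C →ₐ[R] SH R K :=
  (ofHₐ j).comp (IsScalarTower.toAlgHom R j.C j.A)

theorem ofC_apply (j : Idx R K) (c : j.C) : ofC j c = ofH j (algebraMap j.C j.A c) := rfl

theorem ptH_ofC (j : Idx R K) (c : j.C) : ptH (ofC j c) = j.pt c := by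
  rw [ofC_apply, ptH_ofH]
  exact locPt_algebraMap j.pt c

theorem ofC_mem_maximalIdeal_iff (j : Idx R K) (c : j.C) :
    ofC j c ∈ maximalIdeal (SH R K) ↔ j.pt c = 0 := by
  rw [← ptH_eq_zero_iff, ptH_ofC]

theorem ofC_tr {i j : Idx R K} (hij : i ≤ j) (e : i.C →ₐ[R] j.C)
    (he : ∀ c : i.C, tr hij (algebraMap i.C i.A c) = algebraMap j.C j.A (e c)) (c : i.C) :
    ofC j (e c) = ofC i c := by
  rw [ofC_apply, ← he, ofH_tr, ofC_apply]

/-- An étale algebra over the algebra of an index, with a compatible point, maps to the algebra of a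
larger index. -/
theorem exists_idx_of_etale_over (i : Idx R K) (D : Type u) [CommRing D] [Algebra R D]
    [Algebra i.C D] [IsScalarTower R i.C D] [Algebra.Etale i.C D] (σ : D →ₐ[R] K)
    (hσ : ∀ c : i.C, σ (algebraMap i.C D c) = i.pt c) :
    ∃ (j : Idx R K) (e : D →ₐ[R] j.C), j.pt.comp e = σ ∧
      ∀ c : i.C, ofC j (e (algebraMap i.C D c)) = ofC i c := by
  haveI : Algebra.Etale R D := Algebra.Etale.comp R i.C D
  obtain ⟨j, hij, e, he1, he2⟩ := exists_idx_map i D σ (IsScalarTower.toAlgHom R i.C D)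
    (by ext c; exact hσ c)
  refine ⟨j, e, he1, fun c => ?_⟩
  rw [ofC_apply, ofC_apply, ← ofH_tr hij (algebraMap i.C i.A c), he2 c]
  rfl

/-- Finite families in the colimit come from a common étale algebra. -/
theorem exists_ofC_fin {l : ℕ} (x : Fin l → SH R K) :
    ∃ (j : Idx R K) (c : Fin l → j.C), ∀ k, ofC j (c k) = x k := by
  classical
  obtain ⟨i, a, ha⟩ := exists_ofH_fin x
  choose c s hcs using fun k => IsLocalization.exists_mk'_eq (RingHom.ker i.pt).primeCompl (a k)
  obtain ⟨t, ht⟩ : ∃ t : i.C, t = ∏ k, (s k : i.C) := ⟨_, rfl⟩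
  have hts : ∀ k, (s k : i.C) ∣ t := fun k => by
    rw [ht]; exact Finset.dvd_prod_of_mem _ (Finset.mem_univ k)
  have hpt : i.pt t ≠ 0 := by
    rw [ht, map_prod]
    exact Finset.prod_ne_zero_iff.mpr (fun k _ h0 => (s k).2 (RingHom.mem_ker.mpr h0))
  let σ : Localization.Away t →ₐ[R] K :=
    IsLocalization.liftAlgHom (M := Submonoid.powers t) (f := i.pt) (by
      rintro ⟨_, n, rfl⟩
      rw [map_pow]
      exact (isUnit_iff_ne_zero.mpr hpt).pow n)
  have hσ : ∀ c : i.C, σ (algebraMap i.C (Localization.Away t) c) = i.pt c := fun c => by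
    show IsLocalization.liftAlgHom _ _ = _
    rw [IsLocalization.coe_liftAlgHom, IsLocalization.lift_eq]
    rfl
  obtain ⟨j, e, he1, he2⟩ := exists_idx_of_etale_over i (Localization.Away t) σ hσ
  have hunit : ∀ k, IsUnit (algebraMap i.C (Localization.Away t) (s k)) := fun k =>
    isUnit_of_dvd_unit (map_dvd _ (hts k)) (IsLocalization.Away.algebraMap_isUnit t)
  refine ⟨j, fun k => e (algebraMap i.C (Localization.Away t) (c k) * ↑(hunit k).unit⁻¹),
    fun k => ?_⟩
  have hu : IsUnit (ofC i (s k)) := by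
    rw [ofC_apply, isUnit_ofH_iff]
    exact IsLocalization.map_units (M := (RingHom.ker i.pt).primeCompl) _ (s k)
  apply hu.mul_left_injective
  show _ * ofC i (s k) = x k * ofC i (s k)
  have hL : ofC j (e (algebraMap i.C (Localization.Away t) (c k) * ↑(hunit k).unit⁻¹)) *
      ofC i (s k) = ofC i (c k) := by
    rw [← he2 (s k), ← map_mul, ← map_mul, mul_assoc, IsUnit.val_inv_mul, mul_one, he2]
  have hR : x k * ofC i (s k) = ofC i (c k) := by
    rw [← ha k, ofC_apply, ofC_apply, ← map_mul, ← hcs k, IsLocalization.mk'_spec]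
  rw [hL, hR]

/-- One henselian step: a simple root in `K` of a monic polynomial over the étale algebra of an index
lifts to a root in the colimit with that image in `K`. -/
theorem exists_root_step (j : Idx R K) (p : Polynomial j.C) (hp : p.Monic) (α : K)
    (h0 : (p.map j.pt.toRingHom).eval α = 0) (h1 : (p.map j.pt.toRingHom).derivative.eval α ≠ 0) :
    ∃ b : SH R K, (p.map (ofC j).toRingHom).IsRoot b ∧ ptH b = α := by
  let P : StandardEtalePair j.C := ⟨p, hp, derivative p, ⟨1, 0, 1, by simp⟩⟩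
  letI : Algebra R P.Ring := Algebra.compHom P.Ring (algebraMap R j.C)
  haveI : IsScalarTower R j.C P.Ring := IsScalarTower.of_algebraMap_eq (fun _ => rfl)
  letI : Algebra j.C K := j.pt.toRingHom.toAlgebra
  have halg : ∀ c' : j.C, algebraMap j.C K c' = j.pt c' := fun _ => rfl
  have haev : ∀ q : Polynomial j.C, aeval α q = (q.map j.pt.toRingHom).eval α := fun q => by
    rw [aeval_def, eval_map]; rfl
  have hmap : P.HasMap α := by
    refine ⟨?_, ?_⟩
    · show aeval α p = 0
      rw [haev, h0]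
    · show IsUnit (aeval α (derivative p))
      rw [haev, ← derivative_map, isUnit_iff_ne_zero]
      exact h1
  let σ₀ : P.Ring →ₐ[j.C] K := P.lift α hmap
  let σ : P.Ring →ₐ[R] K :=
    { toRingHom := σ₀.toRingHom
      commutes' := fun r => by
        show σ₀ (algebraMap j.C P.Ring (algebraMap R j.C r)) = _
        rw [σ₀.commutes, halg, j.pt.commutes] }
  have hσ₀ : ∀ y, σ y = σ₀ y := fun _ => rfl
  have hσ : ∀ c' : j.C, σ (algebraMap j.C P.Ring c') = j.pt c' := fun c' => by
    rw [hσ₀, σ₀.commutes, halg]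
  obtain ⟨j', e, he1, he2⟩ := exists_idx_of_etale_over j P.Ring σ hσ
  refine ⟨ofC j' (e P.X), ?_, ?_⟩
  · have hcomp : (ofC j).toRingHom =
        (((ofC j').comp e).toRingHom).comp (algebraMap j.C P.Ring) :=
      RingHom.ext fun c' => (he2 c').symm
    rw [IsRoot.def, eval_map, hcomp]
    have h3 := Polynomial.hom_eval₂ p (algebraMap j.C P.Ring) (((ofC j').comp e).toRingHom) P.X
    have h4 : eval₂ (algebraMap j.C P.Ring) P.X p = 0 := by
      have := (StandardEtalePair.hasMap_X (P := P)).1
      rwa [aeval_def] at this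
    rw [h4, map_zero] at h3
    exact h3.symm
  · rw [ptH_ofC]
    have h6 : j'.pt (e P.X) = σ P.X := by
      rw [← he1]; rfl
    rw [h6, hσ₀]
    exact StandardEtalePair.lift_X _ _ hmap

instance : HenselianLocalRing (SH R K) where
  is_henselian f hf a₀ h₁ h₂ := by
    obtain ⟨d, hd⟩ : ∃ d, d = f.natDegree := ⟨_, rfl⟩
    obtain ⟨j, c, hc⟩ := exists_ofC_fin (Fin.snoc (fun k : Fin d => f.coeff k) a₀ :
      Fin (d + 1) → SH R K)
    have hck : ∀ k : Fin d, ofC j (c k.castSucc) = f.coeff k := fun k => by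
      rw [hc, Fin.snoc_castSucc]
    have hca : ofC j (c (Fin.last d)) = a₀ := by rw [hc, Fin.snoc_last]
    obtain ⟨p, hpdef⟩ : ∃ p : Polynomial j.C,
      p = X ^ d + ∑ k : Fin d, C (c k.castSucc) * X ^ (k : ℕ) := ⟨_, rfl⟩
    have hpm : p.Monic := by
      rw [hpdef]
      exact monic_X_pow_add (degree_sum_fin_lt _)
    have hpf : p.map (ofC j).toRingHom = f := by
      conv_rhs => rw [hf.as_sum, ← hd, Finset.sum_range]
      rw [hpdef, Polynomial.map_add, Polynomial.map_pow, map_X, Polynomial.map_sum]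
      congr 1
      refine Finset.sum_congr rfl fun k _ => ?_
      rw [Polynomial.map_mul, Polynomial.map_pow, map_X, map_C]
      congr 2
      exact hck k
    have hpt : j.pt.toRingHom = (ptH : SH R K →+* K).comp (ofC j).toRingHom :=
      RingHom.ext fun c' => (ptH_ofC j c').symm
    have hevalK : ∀ q : Polynomial j.C, (q.map j.pt.toRingHom).eval (ptH a₀) =
        ptH ((q.map (ofC j).toRingHom).eval a₀) := by
      intro q
      rw [hpt, ← Polynomial.map_map, eval_map, eval₂_at_apply, eval_map]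
    have h0 : (p.map j.pt.toRingHom).eval (ptH a₀) = 0 := by
      rw [hevalK, hpf, ptH_eq_zero_iff]
      exact h₁
    have h1 : (p.map j.pt.toRingHom).derivative.eval (ptH a₀) ≠ 0 := by
      intro h
      rw [derivative_map, hevalK, ← derivative_map, hpf, ptH_eq_zero_iff] at h
      exact h h₂
    obtain ⟨b, hb1, hb2⟩ := exists_root_step j p hpm (ptH a₀) h0 h1
    rw [hpf] at hb1
    refine ⟨b, hb1, ?_⟩
    rw [← ptH_eq_zero_iff, map_sub, hb2, sub_self]

end Groth.Agent.Lib.StrictHens
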