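import Mathlib
import Groth.Prelude.Def_Hensel
import Groth.Agent.Lib.StrictHens4_lead

/-!
# Strict henselization, part 5 (lead): residue field, universal property, existence and uniqueness
-/

set_option autoImplicit false
set_option maxSynthPendingDepth 3
universe u

namespace Groth.Agent.Lib.StrictHens

open IsLocalRing EGA4loc TensorProduct Polynomial

variable {R : Type u} [CommRing R] [IsLocalRing R]
variable {K : Type u} [Field K] [Algebra R K] [Algebra (ResidueField R) K]
  [IsScalarTower R (ResidueField R) K]

/-- If `K` is separable over the residue field, the point `SH R K → K` is surjective. -/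
theorem ptH_surjective [Algebra.IsSeparable (ResidueField R) K] :
    Function.Surjective (ptH : SH R K →+* K) := by
  intro α
  have hsep : (minpoly (ResidueField R) α).Separable :=
    Algebra.IsSeparable.isSeparable (ResidueField R) α
  have hint : IsIntegral (ResidueField R) α := Algebra.IsSeparable.isIntegral (ResidueField R) α
  have hmonic := minpoly.monic hint
  obtain ⟨F, hFmap, -, hFmonic⟩ := Polynomial.lifts_and_natDegree_eq_and_monic
    (f := algebraMap R (ResidueField R))
    ((Polynomial.mem_lifts _).mpr (Polynomial.map_surjective _
      (by rw [ResidueField.algebraMap_eq]; exact residue_surjective) _)) hmonic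
  let P : StandardEtalePair R := ⟨F, hFmonic, derivative F, ⟨1, 0, 1, by simp⟩⟩
  have hae : ∀ q : R[X], aeval α q = aeval α (q.map (algebraMap R (ResidueField R))) :=
    fun q => (aeval_map_algebraMap (ResidueField R) α q).symm
  have hmap : P.HasMap α := by
    refine ⟨?_, ?_⟩
    · show aeval α F = 0
      rw [hae, hFmap, minpoly.aeval]
    · show IsUnit (aeval α (derivative F))
      rw [hae, ← derivative_map, hFmap, isUnit_iff_ne_zero]
      exact hsep.aeval_derivative_ne_zero (minpoly.aeval _ _)
  obtain ⟨k, e, he⟩ := exists_idx_equiv P.Ring (P.lift α hmap)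
  refine ⟨ofC k (e P.X), ?_⟩
  rw [ptH_ofC]
  have h6 : k.pt (e P.X) = P.lift α hmap P.X := by
    rw [← he]; rfl
  rw [h6]
  exact StandardEtalePair.lift_X _ _ hmap

section Residue

variable [Algebra.IsSeparable (ResidueField R) K]

/-- The residue field of the colimit is `K`. -/
noncomputable def resEquiv : ResidueField (SH R K) ≃+* K :=
  RingEquiv.ofBijective (ResidueField.lift (ptH : SH R K →+* K))
    ⟨(ResidueField.lift (ptH : SH R K →+* K)).injective, fun α => by
      obtain ⟨z, rfl⟩ := ptH_surjective (R := R) α
      exact ⟨residue _ z, ResidueField.lift_residue_apply _ z⟩⟩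

theorem resEquiv_residue (z : SH R K) : resEquiv (residue (SH R K) z) = ptH z := by
  show ResidueField.lift (ptH : SH R K →+* K) (residue (SH R K) z) = ptH z
  exact ResidueField.lift_residue_apply _ z

/-- The residue field of the colimit is `K`, as an algebra over the residue field of `R`. -/
noncomputable def resAlgEquiv : ResidueField (SH R K) ≃ₐ[ResidueField R] K :=
  { (resEquiv : ResidueField (SH R K) ≃+* K) with
    commutes' := fun x => by
      obtain ⟨r, rfl⟩ := residue_surjective x
      show resEquiv (ResidueField.map (algebraMap R (SH R K)) (residue R r)) =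
        algebraMap (ResidueField R) K (residue R r)
      rw [ResidueField.map_residue, resEquiv_residue, ptH_algebraMap,
        IsScalarTower.algebraMap_apply R (ResidueField R) K, ResidueField.algebraMap_eq] }

end Residue

theorem isSepClosed_of_ringEquiv {L M : Type u} [Field L] [Field M] (e : L ≃+* M)
    [IsSepClosed M] : IsSepClosed L := by
  refine IsSepClosed.of_exists_root L fun p hpm hpi hps => ?_
  have hdeg : (p.map (e : L →+* M)).degree ≠ 0 := by
    rw [degree_map]
    exact (degree_pos_of_irreducible hpi).ne'
  obtain ⟨x, hx⟩ := IsSepClosed.exists_root (p.map (e : L →+* M)) hdeg hps.map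
  refine ⟨e.symm x, ?_⟩
  have h1 : (e : L →+* M) (p.eval (e.symm x)) = 0 := by
    rw [← eval₂_at_apply, ← eval_map]
    show eval (e (e.symm x)) _ = 0
    rw [e.apply_symm_apply]
    exact hx
  exact (map_eq_zero_iff _ e.injective).mp h1

theorem isSepClosure_residue [IsSepClosure (ResidueField R) K] :
    IsSepClosure (ResidueField R) (ResidueField (SH R K)) := by
  haveI : IsSepClosed K := IsSepClosure.sep_closed (ResidueField R)
  refine ⟨isSepClosed_of_ringEquiv (resEquiv : ResidueField (SH R K) ≃+* K), ?_⟩
  exact AlgEquiv.Algebra.isSeparable (resAlgEquiv (R := R) (K := K)).symm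

/-- Universal property of the colimit with respect to henselian local rings with a prescribed map of
residue fields. -/
theorem sh_universal (T : Type u) [CommRing T] [HenselianLocalRing T] (f : R →+* T) [IsLocalHom f]
    (τ : ResidueField (SH R K) →+* ResidueField T)
    (hτ : τ.comp (ResidueField.map (algebraMap R (SH R K))) = ResidueField.map f) :
    ∃! g : SH R K →+* T, g.comp (algebraMap R (SH R K)) = f ∧
      ∀ x : SH R K, residue T (g x) = τ (residue (SH R K) x) := by
  have hα : ∀ i : Idx R K, (τ.comp (ResidueField.map (ofH i))).comp
      (ResidueField.map (algebraMap R i.A)) = ResidueField.map f := by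
    intro i
    rw [← hτ]
    refine RingHom.ext fun x => ?_
    obtain ⟨r, rfl⟩ := residue_surjective x
    show τ (ResidueField.map (ofH i) (ResidueField.map (algebraMap R i.A) (residue R r))) =
      τ (ResidueField.map (algebraMap R (SH R K)) (residue R r))
    rw [ResidueField.map_residue, ResidueField.map_residue, ResidueField.map_residue,
      ofH_algebraMap]
  choose g hg hguniq using fun i : Idx R K =>
    Groth.Agent.Lib.EssEt.existsUnique_lift i.essEtale T f
      (τ.comp (ResidueField.map (ofH i))) (hα i)
  have hgres : ∀ i (x : i.A), residue T (g i x) = τ (residue (SH R K) (ofH i x)) := by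
    intro i x
    have := (hg i).2.2 x
    rw [this]
    show τ (ResidueField.map (ofH i) (residue i.A x)) = _
    rw [ResidueField.map_residue]
  have hcompat : ∀ (i j : Idx R K) (hij : i ≤ j) (x : i.A), g j (trR i j hij x) = g i x := by
    intro i j hij x
    have h1 : (g j).comp (tr hij).toRingHom = g i := by
      apply hguniq i
      refine ⟨?_, ?_, ?_⟩
      · haveI := (hg j).1
        exact RingHom.isLocalHom_comp (g j) (tr hij).toRingHom
      · ext r
        show g j (tr hij (algebraMap R i.A r)) = f r
        rw [AlgHom.commutes]
        exact DFunLike.congr_fun (hg j).2.1 r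
      · intro x
        show residue T (g j (tr hij x)) = τ (ResidueField.map (ofH i) (residue i.A x))
        rw [hgres, ofH_tr, ResidueField.map_residue]
    exact DFunLike.congr_fun h1 x
  let G : SH R K →+* T := Ring.DirectLimit.lift (fun i : Idx R K => i.A)
    (fun i j h => (trR i j h : _ → _)) T g hcompat
  have hG : ∀ i (x : i.A), G (ofH i x) = g i x := fun i x => Ring.DirectLimit.lift_of _ _ _ _ _
  refine ⟨G, ⟨?_, ?_⟩, ?_⟩
  · ext r
    obtain ⟨i⟩ := (inferInstance : Nonempty (Idx R K))
    show G (algebraMap R (SH R K) r) = f r
    rw [← ofH_algebraMap i, hG]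
    exact DFunLike.congr_fun (hg i).2.1 r
  · intro z
    obtain ⟨i, x, rfl⟩ := exists_ofH z
    rw [hG, hgres]
  · rintro G' ⟨hG'1, hG'2⟩
    have hG'loc : IsLocalHom G' := by
      refine ⟨fun z hz => ?_⟩
      by_contra hnz
      have h1 : residue (SH R K) z = 0 := (residue_eq_zero_iff z).mpr ((mem_maximalIdeal z).mpr hnz)
      have h2 : residue T (G' z) = 0 := by rw [hG'2, h1, map_zero]
      rw [residue_eq_zero_iff] at h2
      exact h2 hz
    apply Ring.DirectLimit.hom_ext
    intro i
    have h1 : G'.comp (ofH i) = g i := by
      apply hguniq i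
      refine ⟨RingHom.isLocalHom_comp G' (ofH i), ?_, ?_⟩
      · ext r
        show G' (ofH i (algebraMap R i.A r)) = f r
        rw [ofH_algebraMap]
        exact DFunLike.congr_fun hG'1 r
      · intro x
        show residue T (G' (ofH i x)) = τ (ResidueField.map (ofH i) (residue i.A x))
        rw [hG'2, ResidueField.map_residue]
    have h2 : G.comp (ofH i) = g i := by
      ext x
      exact hG i x
    exact h1.trans h2.symm

variable (R) in
/-- The strict henselization of `R`: the colimit with `K` the separable closure of the residue field. -/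
abbrev SHens : Type u := SH R (SeparableClosure (ResidueField R))

theorem isStrictHenselization_shens : Hensel.IsStrictHenselization R (SHens R) where
  henselian := inferInstance
  isSepClosure := isSepClosure_residue
  universal T _ _ f _ τ hτ := sh_universal T f τ hτ

/-- Any strict henselization is isomorphic over `R` to the colimit model. -/
theorem exists_ringEquiv_shens (S : Type u) [CommRing S] [IsLocalRing S] [Algebra R S]
    [IsLocalHom (algebraMap R S)] [hS : Hensel.IsStrictHenselization R S] :
    ∃ e : S ≃+* SHens R, ∀ r, e (algebraMap R S r) = algebraMap R (SHens R) r := by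
  haveI : HenselianLocalRing S := hS.henselian
  haveI : IsSepClosure (ResidueField R) (ResidueField S) := hS.isSepClosure
  haveI : IsSepClosure (ResidueField R) (ResidueField (SHens R)) := isSepClosure_residue
  let ε : ResidueField S ≃ₐ[ResidueField R] ResidueField (SHens R) :=
    IsSepClosure.equiv (ResidueField R) (ResidueField S) (ResidueField (SHens R))
  have hε : (ε : ResidueField S →+* ResidueField (SHens R)).comp
      (ResidueField.map (algebraMap R S)) = ResidueField.map (algebraMap R (SHens R)) :=
    RingHom.ext fun x => ε.commutes x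
  have hε' : (ε.symm : ResidueField (SHens R) →+* ResidueField S).comp
      (ResidueField.map (algebraMap R (SHens R))) = ResidueField.map (algebraMap R S) :=
    RingHom.ext fun x => ε.symm.commutes x
  obtain ⟨u, ⟨hu1, hu2⟩, -⟩ := hS.universal (SHens R) (algebraMap R (SHens R)) _ hε
  obtain ⟨v, ⟨hv1, hv2⟩, -⟩ := sh_universal S (algebraMap R S) _ hε'
  obtain ⟨w, -, hwuniq⟩ := hS.universal S (algebraMap R S) (RingHom.id _) (RingHom.id_comp _)
  obtain ⟨w', -, hw'uniq⟩ := sh_universal (R := R) (SHens R) (algebraMap R (SHens R))
    (RingHom.id _) (RingHom.id_comp _)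
  have h1 : v.comp u = RingHom.id S := by
    have e1 : (v.comp u).comp (algebraMap R S) = algebraMap R S := by
      rw [RingHom.comp_assoc, hu1, hv1]
    have e2 : ∀ x : S, residue S ((v.comp u) x) = RingHom.id _ (residue S x) := fun x => by
      show residue S (v (u x)) = residue S x
      rw [hv2, hu2]
      exact ε.symm_apply_apply _
    rw [hwuniq (v.comp u) ⟨e1, e2⟩, hwuniq (RingHom.id S) ⟨RingHom.id_comp _, fun x => rfl⟩]
  have h2 : u.comp v = RingHom.id (SHens R) := by
    have e1 : (u.comp v).comp (algebraMap R (SHens R)) = algebraMap R (SHens R) := by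
      rw [RingHom.comp_assoc, hv1, hu1]
    have e2 : ∀ x : SHens R, residue (SHens R) ((u.comp v) x) =
        RingHom.id _ (residue (SHens R) x) := fun x => by
      show residue (SHens R) (u (v x)) = residue (SHens R) x
      rw [hu2, hv2]
      exact ε.apply_symm_apply _
    rw [hw'uniq (u.comp v) ⟨e1, e2⟩, hw'uniq (RingHom.id _) ⟨RingHom.id_comp _, fun x => rfl⟩]
  exact ⟨RingEquiv.ofRingHom u v h2 h1, fun r => DFunLike.congr_fun hu1 r⟩

end Groth.Agent.Lib.StrictHens
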