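import Mathlib
import Groth.Prelude.Def_Hensel
import Groth.Agent.Lib.StrictHens5_lead
import Groth.Agent.Lib.Henselization10_helper3

/-!
# Strict henselization, part 6 (lead): basic properties of any strict henselization
(maximal ideal, faithful flatness, reducedness, Krull dimension)
-/

set_option autoImplicit false
set_option maxSynthPendingDepth 3
universe u

namespace Groth.Agent.Lib.StrictHens

open IsLocalRing EGA4loc TensorProduct Polynomial

variable {R : Type u} [CommRing R] [IsLocalRing R]

section Model

variable {K : Type u} [Field K] [Algebra R K] [Algebra (ResidueField R) K]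
  [IsScalarTower R (ResidueField R) K]

instance isReduced_idxC [IsReduced R] (i : Idx R K) : IsReduced i.C :=
  Groth.Agent.Lib.EtaleReduced_helper7.isReduced_of_etale R i.C

instance isReduced_idxA [IsReduced R] (i : Idx R K) : IsReduced i.A :=
  isReduced_localizationPreserves (RingHom.ker i.pt).primeCompl i.A inferInstance

instance isReduced_sh [IsReduced R] : IsReduced (SH R K) := by
  refine ⟨fun z hz => ?_⟩
  obtain ⟨n, hn⟩ := hz
  obtain ⟨i, a, rfl⟩ := exists_ofH z
  rw [← map_pow] at hn
  obtain ⟨j, hij, h2⟩ := ofH_eq_zero hn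
  rw [map_pow] at h2
  have h3 : tr hij a = 0 := IsNilpotent.eq_zero ⟨n, h2⟩
  rw [← ofH_tr hij, h3, map_zero]

theorem exists_ofC (z : SH R K) : ∃ (j : Idx R K) (c : j.C), ofC j c = z := by
  obtain ⟨j, c, hc⟩ := exists_ofC_fin (fun _ : Fin 1 => z)
  exact ⟨j, c 0, hc 0⟩

/-- Primes of the colimit over the same prime of `R` are incomparable. -/
theorem sh_prime_eq_of_le (Q Q' : Ideal (SH R K)) [Q.IsPrime] [Q'.IsPrime] (hle : Q ≤ Q')
    (hc : Q.comap (algebraMap R (SH R K)) = Q'.comap (algebraMap R (SH R K))) : Q = Q' := by
  refine le_antisymm hle fun z hz => ?_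
  obtain ⟨j, c, rfl⟩ := exists_ofC z
  have h1 : Q.comap (ofC j).toRingHom ≤ Q'.comap (ofC j).toRingHom := Ideal.comap_mono hle
  have h2 : (Q.comap (ofC j).toRingHom).under R = (Q'.comap (ofC j).toRingHom).under R := by
    rw [Ideal.under_def, Ideal.under_def, Ideal.comap_comap, Ideal.comap_comap]
    have : (ofC j).toRingHom.comp (algebraMap R j.C) = algebraMap R (SH R K) :=
      (ofC j).comp_algebraMap
    rw [this, hc]
  have h3 := Algebra.QuasiFinite.eq_of_le_of_under_eq (R := R) _ _ h1 h2
  have h4 : c ∈ Q'.comap (ofC j).toRingHom := hz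
  rw [← h3] at h4
  exact h4

theorem ringKrullDim_sh : ringKrullDim (SH R K) = ringKrullDim R := by
  apply le_antisymm
  · refine Order.krullDim_le_of_strictMono (PrimeSpectrum.comap (algebraMap R (SH R K))) ?_
    intro a b hab
    have hle : a.asIdeal ≤ b.asIdeal := hab.le
    refine lt_of_le_of_ne (Ideal.comap_mono hle) fun heq => ?_
    have h1 : a.asIdeal.comap (algebraMap R (SH R K)) = b.asIdeal.comap (algebraMap R (SH R K)) :=
      congrArg PrimeSpectrum.asIdeal heq
    have h2 := sh_prime_eq_of_le a.asIdeal b.asIdeal hle h1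
    exact hab.ne (PrimeSpectrum.ext h2)
  · exact Groth.Agent.Lib.HenselizationH3.ringKrullDim_le_of_faithfullyFlat R (SH R K)

end Model

variable (S : Type u) [CommRing S] [IsLocalRing S] [Algebra R S]
  [IsLocalHom (algebraMap R S)] [Hensel.IsStrictHenselization R S]

theorem map_maximalIdeal_of_isStrictHenselization :
    (maximalIdeal R).map (algebraMap R S) = maximalIdeal S := by
  obtain ⟨e, he⟩ := exists_ringEquiv_shens (R := R) S
  apply le_antisymm
  · exact ((local_hom_TFAE (algebraMap R S)).out 0 2).mp
      (inferInstance : IsLocalHom (algebraMap R S))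
  · intro s hs
    rw [← Groth.Agent.Lib.HenselizationH3.mem_maximalIdeal_iff_of_ringEquiv e,
      ← map_maximalIdeal_sh] at hs
    have h1 : e.symm (e s) ∈ ((maximalIdeal R).map (algebraMap R (SHens R))).map
        (e.symm : SHens R →+* S) := Ideal.mem_map_of_mem _ hs
    rw [Ideal.map_map, RingEquiv.symm_apply_apply] at h1
    have h2 : (e.symm : SHens R →+* S).comp (algebraMap R (SHens R)) = algebraMap R S := by
      ext r
      show e.symm (algebraMap R (SHens R) r) = algebraMap R S r
      rw [← he, RingEquiv.symm_apply_apply]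
    rwa [h2] at h1

theorem faithfullyFlat_of_isStrictHenselization : Module.FaithfullyFlat R S := by
  obtain ⟨e, he⟩ := exists_ringEquiv_shens (R := R) S
  let el : S ≃ₗ[R] SHens R :=
    { e with
      map_smul' := fun r s => by
        show e (r • s) = r • e s
        rw [Algebra.smul_def, Algebra.smul_def, map_mul, he] }
  haveI : Module.Flat R S := Module.Flat.of_linearEquiv el
  exact Module.FaithfullyFlat.of_flat_of_isLocalHom

theorem isReduced_iff_of_isStrictHenselization : IsReduced R ↔ IsReduced S := by
  obtain ⟨e, he⟩ := exists_ringEquiv_shens (R := R) S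
  constructor
  · intro h
    exact isReduced_of_injective e.toRingHom e.injective
  · intro h
    haveI := faithfullyFlat_of_isStrictHenselization (R := R) S
    exact isReduced_of_injective (algebraMap R S)
      (FaithfulSMul.algebraMap_injective R S)

theorem ringKrullDim_of_isStrictHenselization : ringKrullDim S = ringKrullDim R := by
  obtain ⟨e, -⟩ := exists_ringEquiv_shens (R := R) S
  rw [ringKrullDim_eq_of_ringEquiv e, ringKrullDim_sh]

end Groth.Agent.Lib.StrictHens
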