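import Mathlib
import Groth.Prelude.Def_Hensel
import Groth.Agent.Lib.HensJoint_helper3
import Groth.Agent.Lib.StrictHens6_lead

/-!
# Strict henselization of a "joint" local ring (helper3)

Strict analogues of the lemmas of `HensJoint_helper3`.
-/

set_option autoImplicit false
set_option maxSynthPendingDepth 3
universe u

namespace Groth.Agent.Lib.HensJointH3

open Hensel IsLocalRing

/-- Unbundled uniqueness of strict henselization. -/
theorem exists_equiv_of_strict_universal (L E F : Type u) [CommRing L] [IsLocalRing L]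
    [CommRing E] [IsLocalRing E] [Algebra L E] [IsLocalHom (algebraMap L E)]
    [IsStrictHenselization L E]
    [CommRing F] [HenselianLocalRing F] (c : L →+* F) [IsLocalHom c]
    (hsep : letI := (ResidueField.map c).toAlgebra
      IsSepClosure (ResidueField L) (ResidueField F))
    (huniv : ∀ (T : Type u) [CommRing T] [HenselianLocalRing T] (f : L →+* T) [IsLocalHom f]
      (τ : ResidueField F →+* ResidueField T),
      τ.comp (ResidueField.map c) = ResidueField.map f →
      ∃! g : F →+* T, g.comp c = f ∧ ∀ x : F, residue T (g x) = τ (residue F x)) :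
    ∃ e : E ≃+* F, ∀ x, e (algebraMap L E x) = c x := by
  haveI : HenselianLocalRing E := IsStrictHenselization.henselian L
  haveI : IsSepClosure (ResidueField L) (ResidueField E) := IsStrictHenselization.isSepClosure
  letI : Algebra (ResidueField L) (ResidueField F) := (ResidueField.map c).toAlgebra
  haveI : IsSepClosure (ResidueField L) (ResidueField F) := hsep
  let ε : ResidueField E ≃ₐ[ResidueField L] ResidueField F :=
    IsSepClosure.equiv (ResidueField L) (ResidueField E) (ResidueField F)
  have hε : (ε : ResidueField E →+* ResidueField F).comp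
      (ResidueField.map (algebraMap L E)) = ResidueField.map c :=
    RingHom.ext fun x => ε.commutes x
  have hε' : (ε.symm : ResidueField F →+* ResidueField E).comp
      (ResidueField.map c) = ResidueField.map (algebraMap L E) :=
    RingHom.ext fun x => ε.symm.commutes x
  obtain ⟨u, ⟨hu1, hu2⟩, -⟩ := IsStrictHenselization.universal (R := L) (S := E) F c _ hε
  obtain ⟨v, ⟨hv1, hv2⟩, -⟩ := huniv E (algebraMap L E) _ hε'
  obtain ⟨w, -, hwuniq⟩ := IsStrictHenselization.universal (R := L) (S := E) E (algebraMap L E)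
    (RingHom.id _) (RingHom.id_comp _)
  obtain ⟨w', -, hw'uniq⟩ := huniv F c (RingHom.id _) (RingHom.id_comp _)
  have h1 : v.comp u = RingHom.id E := by
    have e1 : (v.comp u).comp (algebraMap L E) = algebraMap L E := by
      rw [RingHom.comp_assoc, hu1, hv1]
    have e2 : ∀ x : E, residue E ((v.comp u) x) = RingHom.id _ (residue E x) := fun x => by
      show residue E (v (u x)) = residue E x
      rw [hv2, hu2]
      exact ε.symm_apply_apply _
    rw [hwuniq (v.comp u) ⟨e1, e2⟩, hwuniq (RingHom.id E) ⟨RingHom.id_comp _, fun x => rfl⟩]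
  have h2 : u.comp v = RingHom.id F := by
    have e1 : (u.comp v).comp c = c := by
      rw [RingHom.comp_assoc, hv1, hu1]
    have e2 : ∀ x : F, residue F ((u.comp v) x) = RingHom.id _ (residue F x) := fun x => by
      show residue F (u (v x)) = residue F x
      rw [hu2, hv2]
      exact ε.apply_symm_apply _
    rw [hw'uniq (u.comp v) ⟨e1, e2⟩, hw'uniq (RingHom.id _) ⟨RingHom.id_comp _, fun x => rfl⟩]
  exact ⟨RingEquiv.ofRingHom u v h2 h1, fun r => DFunLike.congr_fun hu1 r⟩

section Joint

variable (P Ph Q Qh L : Type u) [CommRing P] [IsLocalRing P] [CommRing Ph] [IsLocalRing Ph]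
    [Algebra P Ph] [IsLocalHom (algebraMap P Ph)] [IsStrictHenselization P Ph]
    [CommRing Q] [IsLocalRing Q] [CommRing Qh] [IsLocalRing Qh]
    [Algebra Q Qh] [IsLocalHom (algebraMap Q Qh)] [IsStrictHenselization Q Qh]
    [CommRing L] [IsLocalRing L] (c : L →+* Qh) [IsLocalHom c]
    (φ : P →+* Q) [IsLocalHom φ]
    (a : Ph →+* L) [IsLocalHom a] (b : Q →+* L)
    (hab : a.comp (algebraMap P Ph) = b.comp φ)
    (hepi : ∀ (T : Type u) [CommRing T] (f g : L →+* T),
      f.comp a = g.comp a → f.comp b = g.comp b → f = g)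
    (hcb : c.comp b = algebraMap Q Qh)

include hcb in
omit [IsStrictHenselization Q Qh] in
theorem isLocalHom_b : IsLocalHom b := by
  haveI : IsLocalHom (c.comp b) := by rw [hcb]; infer_instance
  exact isLocalHom_of_comp b c

include hcb in
/-- The residue field of `Qh` is a separable closure of that of `L`. -/
theorem isSepClosure_of_joint :
    letI := (ResidueField.map c).toAlgebra
    IsSepClosure (ResidueField L) (ResidueField Qh) := by
  haveI hb : IsLocalHom b := isLocalHom_b Q Qh L c b hcb
  letI : Algebra (ResidueField L) (ResidueField Qh) := (ResidueField.map c).toAlgebra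
  letI : Algebra (ResidueField Q) (ResidueField L) := (ResidueField.map b).toAlgebra
  haveI h0 : IsSepClosure (ResidueField Q) (ResidueField Qh) := IsStrictHenselization.isSepClosure
  haveI : IsScalarTower (ResidueField Q) (ResidueField L) (ResidueField Qh) := by
    refine IsScalarTower.of_algebraMap_eq fun x => ?_
    obtain ⟨y, rfl⟩ := residue_surjective x
    show ResidueField.map (algebraMap Q Qh) (residue Q y) =
      ResidueField.map c (ResidueField.map b (residue Q y))
    rw [ResidueField.map_residue, ResidueField.map_residue, ResidueField.map_residue, ← hcb]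
    rfl
  haveI : Algebra.IsSeparable (ResidueField Q) (ResidueField Qh) := h0.separable
  exact ⟨h0.sep_closed, Algebra.isSeparable_tower_top_of_isSeparable (ResidueField Q) _ _⟩

include hab hepi hcb in
/-- The strict joint lemma. -/
theorem strict_universal_of_joint
    (T : Type u) [CommRing T] [HenselianLocalRing T] (f : L →+* T) [hf : IsLocalHom f]
    (τ : ResidueField Qh →+* ResidueField T)
    (hτ : τ.comp (ResidueField.map c) = ResidueField.map f) :
    ∃! g : Qh →+* T, g.comp c = f ∧ ∀ x : Qh, residue T (g x) = τ (residue Qh x) := by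
  haveI hb : IsLocalHom b := isLocalHom_b Q Qh L c b hcb
  haveI : IsLocalHom (f.comp b) := RingHom.isLocalHom_comp f b
  have hτ' : ∀ l : L, τ (residue Qh (c l)) = residue T (f l) := by
    intro l
    have := RingHom.congr_fun hτ (residue L l)
    rwa [RingHom.comp_apply, ResidueField.map_residue, ResidueField.map_residue] at this
  have h1 : τ.comp (ResidueField.map (algebraMap Q Qh)) = ResidueField.map (f.comp b) := by
    ext x
    obtain ⟨y, rfl⟩ := residue_surjective x
    rw [RingHom.comp_apply, ResidueField.map_residue, ResidueField.map_residue, ← hcb,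
      RingHom.comp_apply, hτ']
    rfl
  obtain ⟨g, ⟨hg1, hg2⟩, hguniq⟩ :=
    IsStrictHenselization.universal (R := Q) (S := Qh) T (f.comp b) τ h1
  have hgb : (g.comp c).comp b = f.comp b := by rw [RingHom.comp_assoc, hcb, hg1]
  refine ⟨g, ⟨?_, hg2⟩, ?_⟩
  · refine hepi T _ _ ?_ hgb
    haveI hloc : IsLocalHom ((f.comp b).comp φ) := RingHom.isLocalHom_comp (f.comp b) φ
    haveI : IsLocalHom (f.comp a) := RingHom.isLocalHom_comp f a
    have h2 : (ResidueField.map (f.comp a)).comp (ResidueField.map (algebraMap P Ph)) =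
        ResidueField.map ((f.comp b).comp φ) := by
      ext x
      obtain ⟨y, rfl⟩ := residue_surjective x
      rw [RingHom.comp_apply, ResidueField.map_residue, ResidueField.map_residue,
        ResidueField.map_residue]
      congr 1
      have := RingHom.congr_fun hab y
      simp only [RingHom.comp_apply] at this ⊢
      rw [this]
    obtain ⟨k, -, hk⟩ := IsStrictHenselization.universal (R := P) (S := Ph) T
      ((f.comp b).comp φ) (ResidueField.map (f.comp a)) h2
    rw [hk ((g.comp c).comp a) ⟨?_, ?_⟩, hk (f.comp a) ⟨?_, ?_⟩]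
    · rw [RingHom.comp_assoc, hab, ← RingHom.comp_assoc]
    · intro x
      rw [ResidueField.map_residue]
    · rw [RingHom.comp_assoc, hab, ← RingHom.comp_assoc, hgb]
    · intro x
      rw [ResidueField.map_residue]
      show residue T (g (c (a x))) = residue T (f (a x))
      rw [hg2, hτ']
  · rintro g' ⟨hg'1, hg'2⟩
    refine hguniq g' ⟨?_, hg'2⟩
    rw [← hcb, ← RingHom.comp_assoc, hg'1]

end Joint


open TensorProduct

section Tensor

variable (R S : Type u) [CommRing R] [CommRing S] [Algebra R S]
  (p : Ideal R) [p.IsPrime] (q : Ideal S) [q.IsPrime] [q.LiesOver p]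
  (Rh : Type u) [CommRing Rh] [IsLocalRing Rh] [Algebra (Localization.AtPrime p) Rh]
  [Algebra R Rh] [IsScalarTower R (Localization.AtPrime p) Rh]
  [IsLocalHom (algebraMap (Localization.AtPrime p) Rh)]
  [IsStrictHenselization (Localization.AtPrime p) Rh]
  (Sh : Type u) [CommRing Sh] [IsLocalRing Sh] [Algebra (Localization.AtPrime q) Sh]
  [Algebra S Sh] [IsScalarTower S (Localization.AtPrime q) Sh]
  [IsLocalHom (algebraMap (Localization.AtPrime q) Sh)]
  [Algebra R Sh] [IsScalarTower R S Sh] [Algebra Rh Sh] [IsScalarTower R Rh Sh]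

include R S p q in
theorem isLocalHom_algebraMap_of_tower_strict : IsLocalHom (algebraMap Rh Sh) := by
  have hcomp : (algebraMap Rh Sh).comp (algebraMap (Localization.AtPrime p) Rh) =
      (algebraMap (Localization.AtPrime q) Sh).comp
        (Localization.localRingHom p q (algebraMap R S) (Ideal.LiesOver.over)) := by
    refine IsLocalization.ringHom_ext p.primeCompl ?_
    ext r
    simp only [RingHom.comp_apply]
    rw [Localization.localRingHom_to_map, ← IsScalarTower.algebraMap_apply R _ Rh,
      ← IsScalarTower.algebraMap_apply R Rh Sh, ← IsScalarTower.algebraMap_apply S _ Sh,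
      ← IsScalarTower.algebraMap_apply R S Sh]
  refine ((local_hom_TFAE (algebraMap Rh Sh)).out 0 3).mpr ?_
  rw [← Groth.Agent.Lib.StrictHens.map_maximalIdeal_of_isStrictHenselization
    (R := Localization.AtPrime p) Rh, Ideal.map_le_iff_le_comap]
  intro x hx
  rw [Ideal.mem_comap, Ideal.mem_comap, ← RingHom.comp_apply, hcomp, RingHom.comp_apply]
  have h1 : ∀ {A B : Type u} [CommRing A] [IsLocalRing A] [CommRing B]
      [IsLocalRing B] (f : A →+* B) [IsLocalHom f] {x : A} (_ : x ∈ maximalIdeal A),
      f x ∈ maximalIdeal B := by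
    intro A B _ _ _ _ f _ x hx
    rw [mem_maximalIdeal, mem_nonunits_iff] at *
    exact fun h => hx (isUnit_of_map_unit f x h)
  exact h1 _ (h1 _ hx)

variable (Φ : Rh ⊗[R] S →+* Sh) (Q' : Ideal (Rh ⊗[R] S)) [Q'.IsPrime]

include p q in
theorem isLocalHom_aHom (hΦ1 : ∀ x : Rh, Φ (x ⊗ₜ 1) = algebraMap Rh Sh x)
    (hQ' : Q' = Ideal.comap Φ (IsLocalRing.maximalIdeal Sh)) :
    IsLocalHom (aHom R S Rh Q') := by
  haveI := isLocalHom_algebraMap_of_tower_strict R S p q Rh Sh
  have h : (cHom R S Rh Sh Φ Q' hQ').comp (aHom R S Rh Q') = algebraMap Rh Sh := by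
    ext x
    rw [RingHom.comp_apply, aHom, RingHom.comp_apply, cHom_algebraMap,
      Algebra.TensorProduct.includeLeftRingHom_apply, hΦ1]
  haveI : IsLocalHom ((cHom R S Rh Sh Φ Q' hQ').comp (aHom R S Rh Q')) := by
    rw [h]; infer_instance
  exact isLocalHom_of_comp _ (cHom R S Rh Sh Φ Q' hQ')

include p in
theorem exists_equiv_tensor_strict
    [IsStrictHenselization (Localization.AtPrime q) Sh]
    (hΦ1 : ∀ x : Rh, Φ (x ⊗ₜ 1) = algebraMap Rh Sh x)
    (hΦ2 : ∀ s : S, Φ (1 ⊗ₜ s) = algebraMap S Sh s)
    (hQ' : Q' = Ideal.comap Φ (IsLocalRing.maximalIdeal Sh))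
    (E : Type u) [CommRing E] [IsLocalRing E] [Algebra (Localization.AtPrime Q') E]
    [IsLocalHom (algebraMap (Localization.AtPrime Q') E)]
    [IsStrictHenselization (Localization.AtPrime Q') E] :
    ∃ e : E ≃+* Sh, ∀ d : Rh ⊗[R] S,
      e (algebraMap _ E (algebraMap _ (Localization.AtPrime Q') d)) = Φ d := by
  haveI : HenselianLocalRing Sh := IsStrictHenselization.henselian (Localization.AtPrime q)
  haveI := isLocalHom_cHom R S Rh Sh Φ Q' hQ'
  haveI := isLocalHom_aHom R S p q Rh Sh Φ Q' hΦ1 hQ'
  obtain ⟨e, he⟩ := exists_equiv_of_strict_universal (Localization.AtPrime Q') E Sh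
    (cHom R S Rh Sh Φ Q' hQ')
    (isSepClosure_of_joint (Localization.AtPrime q) Sh
      (Localization.AtPrime Q') (cHom R S Rh Sh Φ Q' hQ') (bHom R S q Rh Sh Φ Q' hΦ2 hQ')
      (hcb_tensor R S q Rh Sh Φ Q' hΦ2 hQ'))
    (fun T _ _ f hf τ hτ => strict_universal_of_joint (Localization.AtPrime p) Rh
      (Localization.AtPrime q) Sh
      (Localization.AtPrime Q') (cHom R S Rh Sh Φ Q' hQ')
      (Localization.localRingHom p q (algebraMap R S) (Ideal.LiesOver.over))
      (aHom R S Rh Q') (bHom R S q Rh Sh Φ Q' hΦ2 hQ')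
      (hab_tensor R S p q Rh Sh Φ Q' hΦ2 hQ')
      (fun T' _ f' g' => hepi_tensor R S q Rh Sh Φ Q' hΦ2 hQ' T' f' g')
      (hcb_tensor R S q Rh Sh Φ Q' hΦ2 hQ') T f τ hτ)
  refine ⟨e, fun d => ?_⟩
  rw [he, cHom_algebraMap]

end Tensor

end Groth.Agent.Lib.HensJointH3
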