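import Mathlib
import Groth.Prelude.Def_Hensel
import Groth.Agent.Lib.HensJointStrict_helper3

/-!
# Strict henselization of a "joint" local ring, two strictly henselian legs (helper3)
-/

set_option autoImplicit false
set_option maxSynthPendingDepth 3
universe u

namespace Groth.Agent.Lib.HensJointH3

open Hensel IsLocalRing

/-- Two maps out of `L` which agree on `b` and on residue fields agree on the leg `a`. -/
theorem leg_eq (P Ph Q L T : Type u) [CommRing P] [IsLocalRing P] [CommRing Ph] [IsLocalRing Ph]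
    [Algebra P Ph] [IsLocalHom (algebraMap P Ph)] [IsStrictHenselization P Ph]
    [CommRing Q] [IsLocalRing Q] [CommRing L] [IsLocalRing L]
    (φ : P →+* Q) [IsLocalHom φ] (a : Ph →+* L) [IsLocalHom a] (b : Q →+* L) [IsLocalHom b]
    (hab : a.comp (algebraMap P Ph) = b.comp φ)
    [CommRing T] [HenselianLocalRing T] (k₁ k₂ : L →+* T) [IsLocalHom k₂]
    (h1 : k₁.comp b = k₂.comp b)
    (hres : ∀ x : Ph, residue T (k₁ (a x)) = residue T (k₂ (a x))) :
    k₁.comp a = k₂.comp a := by
  haveI : IsLocalHom (k₂.comp b) := RingHom.isLocalHom_comp k₂ b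
  haveI hloc : IsLocalHom ((k₂.comp b).comp φ) := RingHom.isLocalHom_comp (k₂.comp b) φ
  haveI : IsLocalHom (k₂.comp a) := RingHom.isLocalHom_comp k₂ a
  have h2 : (ResidueField.map (k₂.comp a)).comp (ResidueField.map (algebraMap P Ph)) =
      ResidueField.map ((k₂.comp b).comp φ) := by
    ext x
    obtain ⟨y, rfl⟩ := residue_surjective x
    rw [RingHom.comp_apply, ResidueField.map_residue, ResidueField.map_residue,
      ResidueField.map_residue]
    congr 1
    have := RingHom.congr_fun hab y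
    simp only [RingHom.comp_apply] at this ⊢
    rw [this]
  obtain ⟨k, -, hk⟩ := IsStrictHenselization.universal (R := P) (S := Ph) T
    ((k₂.comp b).comp φ) (ResidueField.map (k₂.comp a)) h2
  rw [hk (k₁.comp a) ⟨?_, ?_⟩, hk (k₂.comp a) ⟨?_, ?_⟩]
  · rw [RingHom.comp_assoc, hab, ← RingHom.comp_assoc]
  · intro x
    rw [ResidueField.map_residue]
  · rw [RingHom.comp_assoc, hab, ← RingHom.comp_assoc, h1]
  · intro x
    rw [ResidueField.map_residue]
    exact hres x

/-- The strict joint lemma with two strictly henselian legs. -/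
theorem strict_universal_of_joint₂
    (P₁ P₁h P₂ P₂h Q Qh L : Type u) [CommRing P₁] [IsLocalRing P₁] [CommRing P₁h] [IsLocalRing P₁h]
    [Algebra P₁ P₁h] [IsLocalHom (algebraMap P₁ P₁h)] [IsStrictHenselization P₁ P₁h]
    [CommRing P₂] [IsLocalRing P₂] [CommRing P₂h] [IsLocalRing P₂h]
    [Algebra P₂ P₂h] [IsLocalHom (algebraMap P₂ P₂h)] [IsStrictHenselization P₂ P₂h]
    [CommRing Q] [IsLocalRing Q] [CommRing Qh] [IsLocalRing Qh]
    [Algebra Q Qh] [IsLocalHom (algebraMap Q Qh)] [IsStrictHenselization Q Qh]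
    [CommRing L] [IsLocalRing L] (c : L →+* Qh) [IsLocalHom c]
    (φ₁ : P₁ →+* Q) [IsLocalHom φ₁] (φ₂ : P₂ →+* Q) [IsLocalHom φ₂]
    (a₁ : P₁h →+* L) [IsLocalHom a₁] (a₂ : P₂h →+* L) [IsLocalHom a₂] (b : Q →+* L)
    (hab₁ : a₁.comp (algebraMap P₁ P₁h) = b.comp φ₁)
    (hab₂ : a₂.comp (algebraMap P₂ P₂h) = b.comp φ₂)
    (hepi : ∀ (T : Type u) [CommRing T] (f g : L →+* T),
      f.comp a₁ = g.comp a₁ → f.comp a₂ = g.comp a₂ → f = g)
    (hcb : c.comp b = algebraMap Q Qh)
    (T : Type u) [CommRing T] [HenselianLocalRing T] (f : L →+* T) [hf : IsLocalHom f]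
    (τ : ResidueField Qh →+* ResidueField T)
    (hτ : τ.comp (ResidueField.map c) = ResidueField.map f) :
    ∃! g : Qh →+* T, g.comp c = f ∧ ∀ x : Qh, residue T (g x) = τ (residue Qh x) := by
  haveI hb : IsLocalHom b := isLocalHom_b Q Qh L c b hcb
  haveI : IsLocalHom (f.comp b) := RingHom.isLocalHom_comp f b
  have hτ' : ∀ l : L, τ (residue Qh (c l)) = residue T (f l) := by
    intro l
    have := RingHom.congr_fun hτ (residue L l)
    rwa [RingHom.comp_apply, ResidueField.map_residue, ResidueField.map_residue] at this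
  have h1 : τ.comp (ResidueField.map (algebraMap Q Qh)) = ResidueField.map (f.comp b) := by
    ext x
    obtain ⟨y, rfl⟩ := residue_surjective x
    rw [RingHom.comp_apply, ResidueField.map_residue, ResidueField.map_residue, ← hcb,
      RingHom.comp_apply, hτ']
    rfl
  obtain ⟨g, ⟨hg1, hg2⟩, hguniq⟩ :=
    IsStrictHenselization.universal (R := Q) (S := Qh) T (f.comp b) τ h1
  have hgb : (g.comp c).comp b = f.comp b := by rw [RingHom.comp_assoc, hcb, hg1]
  refine ⟨g, ⟨?_, hg2⟩, ?_⟩
  · refine hepi T _ _ ?_ ?_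
    · refine leg_eq P₁ P₁h Q L T φ₁ a₁ b hab₁ (g.comp c) f hgb (fun x => ?_)
      show residue T (g (c (a₁ x))) = residue T (f (a₁ x))
      rw [hg2, hτ']
    · refine leg_eq P₂ P₂h Q L T φ₂ a₂ b hab₂ (g.comp c) f hgb (fun x => ?_)
      show residue T (g (c (a₂ x))) = residue T (f (a₂ x))
      rw [hg2, hτ']
  · rintro g' ⟨hg'1, hg'2⟩
    refine hguniq g' ⟨?_, hg'2⟩
    rw [← hcb, ← RingHom.comp_assoc, hg'1]

end Groth.Agent.Lib.HensJointH3
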