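import Mathlib
import Groth.Agent.Lib.HenselFinite_helper3

/-!
# Quasi-finite algebras over henselian local rings (helper3)

Splitting off the finite part of a finite type algebra over a henselian local ring at a prime
over the closed point where the algebra is quasi-finite.
-/

set_option autoImplicit false
set_option maxSynthPendingDepth 3
universe u

namespace Groth.Agent.Lib.HenselFiniteH3

open IsLocalRing TensorProduct

/-- Over a henselian local ring, a finite type algebra which is quasi-finite at a prime `q` over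
the closed point has an idempotent `ε ∉ q` whose corner `S/(1-ε)` is a finite module. -/
theorem exists_idem_finite (R : Type u) [CommRing R] [HenselianLocalRing R] (S : Type u)
    [CommRing S] [Algebra R S] [Algebra.FiniteType R S] (q : Ideal S) [q.IsPrime]
    [q.LiesOver (maximalIdeal R)] [Algebra.QuasiFiniteAt R q] :
    ∃ ε : S, IsIdempotentElem ε ∧ ε ∉ q ∧ Module.Finite R (S ⧸ Ideal.span ({1 - ε} : Set S)) := by
  obtain ⟨R', _, _, _, P, _, _, e, he, P', _, _, hP'q, heP', hbij, hfin, -⟩ :=
    Algebra.exists_etale_isIdempotentElem_forall_liesOver_eq (R := R) (S := S) (maximalIdeal R) q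
  obtain ⟨ψ, hψ⟩ := exists_retraction R R' P hbij
  let Ψ : R' ⊗[R] S →ₐ[R] S := Algebra.TensorProduct.lift ((Algebra.ofId R S).comp ψ)
    (AlgHom.id R S) (fun _ _ => Commute.all _ _)
  have hΨ : ∀ r s, Ψ (r ⊗ₜ s) = algebraMap R S (ψ r) * s := fun r s => by
    simp [Ψ, Algebra.ofId_apply]
  have hqm : q.comap (algebraMap R S) = maximalIdeal R := (q.over_def (maximalIdeal R)).symm
  haveI : (q.comap Ψ.toRingHom).IsPrime := Ideal.comap_isPrime _ _
  haveI : (q.comap Ψ.toRingHom).LiesOver P := by
    refine ⟨?_⟩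
    ext r'
    rw [Ideal.under_def, Ideal.mem_comap, Ideal.mem_comap, Algebra.TensorProduct.algebraMap_apply,
      Algebra.algebraMap_self_apply]
    show r' ∈ P ↔ Ψ (r' ⊗ₜ[R] (1 : S)) ∈ q
    rw [hΨ, mul_one, ← Ideal.mem_comap, hqm, hψ]
  have hcomap : (q.comap Ψ.toRingHom).comap Algebra.TensorProduct.includeRight.toRingHom = q := by
    ext s
    rw [Ideal.mem_comap, Ideal.mem_comap]
    show Ψ ((1 : R') ⊗ₜ[R] s) ∈ q ↔ s ∈ q
    rw [hΨ, map_one, map_one, one_mul]
  have hP'eq : P' = q.comap Ψ.toRingHom :=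
    Ideal.eq_of_comap_eq_comap_of_bijective_residueFieldMap hbij P' (q.comap Ψ.toRingHom)
      (hP'q.trans hcomap.symm)
  refine ⟨Ψ e, he.map Ψ, ?_, ?_⟩
  · intro h
    apply heP'
    rw [hP'eq]
    exact h
  · -- finiteness
    have hψsurj : Function.Surjective ψ.toRingHom := fun r => ⟨algebraMap R R' r, ψ.commutes r⟩
    haveI : RingHomSurjective ψ.toRingHom := ⟨hψsurj⟩
    let g : R' ⊗[R] S →+* S ⧸ Ideal.span ({1 - Ψ e} : Set S) :=
      (Ideal.Quotient.mk _).comp Ψ.toRingHom
    have hge : g e = 1 := by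
      show Ideal.Quotient.mk _ (Ψ e) = 1
      have h1 : Ideal.Quotient.mk (Ideal.span ({1 - Ψ e} : Set S)) (1 - Ψ e) = 0 :=
        Ideal.Quotient.eq_zero_iff_mem.mpr (Ideal.mem_span_singleton_self _)
      rw [map_sub, map_one, sub_eq_zero] at h1
      exact h1.symm
    have hu : IsUnit (g e) := by rw [hge]; exact isUnit_one
    let Θ : Localization.Away e →+* S ⧸ Ideal.span ({1 - Ψ e} : Set S) :=
      IsLocalization.Away.lift e hu
    have hΘ : ∀ t, Θ (algebraMap _ _ t) = g t := fun t => IsLocalization.Away.lift_eq e hu t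
    let Θl : Localization.Away e →ₛₗ[ψ.toRingHom] S ⧸ Ideal.span ({1 - Ψ e} : Set S) :=
      { toFun := Θ
        map_add' := map_add Θ
        map_smul' := fun r' t => by
          show Θ (r' • t) = ψ r' • Θ t
          rw [Algebra.smul_def, map_mul, Algebra.smul_def,
            IsScalarTower.algebraMap_apply R' (R' ⊗[R] S) (Localization.Away e), hΘ]
          congr 1
          show Ideal.Quotient.mk _ (Ψ (algebraMap R' (R' ⊗[R] S) r')) = _
          rw [Algebra.TensorProduct.algebraMap_apply, Algebra.algebraMap_self_apply, hΨ, mul_one]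
          rfl }
    have hΘsurj : Function.Surjective Θl := by
      intro x
      obtain ⟨s, rfl⟩ := Ideal.Quotient.mk_surjective x
      refine ⟨algebraMap _ _ ((1 : R') ⊗ₜ[R] s), ?_⟩
      show Θ _ = _
      rw [hΘ]
      show Ideal.Quotient.mk _ (Ψ ((1 : R') ⊗ₜ[R] s)) = _
      rw [hΨ, map_one, map_one, one_mul]
    exact Module.Finite.of_surjective Θl hΘsurj

section FinCorner

variable (R : Type u) [CommRing R] {S : Type u} [CommRing S] [Algebra R S]

/-- The principal ideal generated by `ε` is finitely generated as an `R`-module. -/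
def FinCorner (ε : S) : Prop := ((Ideal.span ({ε} : Set S)).restrictScalars R).FG

theorem finCorner_zero : FinCorner R (0 : S) := by
  unfold FinCorner
  have : (Ideal.span ({0} : Set S)).restrictScalars R = ⊥ := by
    rw [Ideal.span_singleton_eq_bot.mpr rfl]
    exact Submodule.restrictScalars_bot R S S
  rw [this]
  exact Submodule.fg_bot

variable {R}

theorem finCorner_of_finite {ε : S} (hε : IsIdempotentElem ε)
    (h : Module.Finite R (S ⧸ Ideal.span ({1 - ε} : Set S))) : FinCorner R ε := by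
  unfold FinCorner
  have hker : Ideal.span ({1 - ε} : Set S) ≤ LinearMap.ker (LinearMap.mulLeft S ε) := by
    rw [Ideal.span_le]
    rintro _ rfl
    show ε * (1 - ε) = 0
    rw [mul_sub, mul_one, hε.eq, sub_self]
  let f : (S ⧸ Ideal.span ({1 - ε} : Set S)) →ₗ[R] S :=
    (Submodule.liftQ (Ideal.span ({1 - ε} : Set S)) (LinearMap.mulLeft S ε) hker).restrictScalars R
  have hf : ∀ x : S, f (Ideal.Quotient.mk _ x) = ε * x := fun x => rfl
  have hrange : LinearMap.range f = (Ideal.span ({ε} : Set S)).restrictScalars R := by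
    ext y
    rw [LinearMap.mem_range, Submodule.restrictScalars_mem, Ideal.mem_span_singleton']
    constructor
    · rintro ⟨x, rfl⟩
      obtain ⟨x, rfl⟩ := Ideal.Quotient.mk_surjective x
      exact ⟨x, by rw [hf, mul_comm]⟩
    · rintro ⟨a, rfl⟩
      exact ⟨Ideal.Quotient.mk _ a, by rw [hf, mul_comm]⟩
  rw [← hrange, ← Module.Finite.iff_fg]
  exact Module.Finite.range f

theorem finite_of_finCorner {ε : S} (h : FinCorner R ε) :
    Module.Finite R (S ⧸ Ideal.span ({1 - ε} : Set S)) := by
  unfold FinCorner at h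
  haveI : Module.Finite R ((Ideal.span ({ε} : Set S)).restrictScalars R) :=
    Module.Finite.iff_fg.mpr h
  let g : ((Ideal.span ({ε} : Set S)).restrictScalars R) →ₗ[R] S ⧸ Ideal.span ({1 - ε} : Set S) :=
    (Ideal.Quotient.mkₐ R (Ideal.span ({1 - ε} : Set S))).toLinearMap.comp (Submodule.subtype _)
  refine Module.Finite.of_surjective g ?_
  intro x
  obtain ⟨x, rfl⟩ := Ideal.Quotient.mk_surjective x
  refine ⟨⟨ε * x, ?_⟩, ?_⟩
  · rw [Submodule.restrictScalars_mem]
    exact Ideal.mul_mem_right _ _ (Ideal.mem_span_singleton_self _)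
  · show Ideal.Quotient.mk _ (ε * x) = Ideal.Quotient.mk _ x
    rw [Ideal.Quotient.eq, Ideal.mem_span_singleton']
    exact ⟨-x, by ring⟩

theorem finCorner_join {a b : S} (ha : IsIdempotentElem a) (hb : IsIdempotentElem b)
    (h1 : FinCorner R a) (h2 : FinCorner R b) : FinCorner R (a + b - a * b) := by
  unfold FinCorner at *
  have : Ideal.span ({a + b - a * b} : Set S) = Ideal.span {a} ⊔ Ideal.span {b} := by
    apply le_antisymm
    · rw [Ideal.span_le, Set.singleton_subset_iff]
      have : a + b - a * b = a + b * (1 - a) := by ring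
      rw [this]
      exact Ideal.add_mem _ (Ideal.mem_sup_left (Ideal.mem_span_singleton_self a))
        (Ideal.mem_sup_right (Ideal.mul_mem_right _ _ (Ideal.mem_span_singleton_self b)))
    · rw [sup_le_iff, Ideal.span_le, Ideal.span_le, Set.singleton_subset_iff,
        Set.singleton_subset_iff]
      constructor
      · rw [SetLike.mem_coe, Ideal.mem_span_singleton']
        refine ⟨a, ?_⟩
        have := ha.eq
        linear_combination (1 - b) * this
      · rw [SetLike.mem_coe, Ideal.mem_span_singleton']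
        refine ⟨b, ?_⟩
        have := hb.eq
        linear_combination (1 - a) * this
  rw [this]
  have h3 : (Ideal.span ({a} : Set S) ⊔ Ideal.span {b}).restrictScalars R =
      (Ideal.span ({a} : Set S)).restrictScalars R ⊔ (Ideal.span ({b} : Set S)).restrictScalars R := by
    ext x
    simp only [Submodule.restrictScalars_mem, Submodule.mem_sup]
  rw [h3]
  exact h1.sup h2

theorem exists_join (F : Finset S) (hF : ∀ x ∈ F, IsIdempotentElem x ∧ FinCorner R x) :
    ∃ e : S, IsIdempotentElem e ∧ FinCorner R e ∧ ∀ x ∈ F, x * e = x := by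
  classical
  induction F using Finset.induction_on with
  | empty => exact ⟨0, IsIdempotentElem.zero, finCorner_zero R, by simp⟩
  | insert a F ha ih =>
    obtain ⟨e, he, hfe, hxe⟩ := ih (fun x hx => hF x (Finset.mem_insert_of_mem hx))
    obtain ⟨hai, haf⟩ := hF a (Finset.mem_insert_self a F)
    refine ⟨a + e - a * e, ?_, finCorner_join hai he haf hfe, ?_⟩
    · have := (hai.one_sub.mul he.one_sub).one_sub
      have h3 : a + e - a * e = 1 - (1 - a) * (1 - e) := by ring
      rw [h3]
      exact this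
    · intro x hx
      rcases Finset.mem_insert.mp hx with rfl | hx
      · have h1 := hai.eq
        linear_combination (1 - e) * h1
      · have h1 := hxe x hx
        linear_combination (1 - a) * h1

end FinCorner

/-- A finite type algebra `S` over a henselian local ring `R` has an idempotent `e` with `S/(1-e)`
finite over `R` and `e ∉ q` for every prime `q` over the closed point at which `S` is
quasi-finite. -/
theorem finiteType_split (R : Type u) [CommRing R] [HenselianLocalRing R] (S : Type u)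
    [CommRing S] [Algebra R S] [Algebra.FiniteType R S] :
    ∃ e : S, IsIdempotentElem e ∧ Module.Finite R (S ⧸ Ideal.span ({1 - e} : Set S)) ∧
      ∀ (q : Ideal S) [q.IsPrime], q.LiesOver (maximalIdeal R) → Algebra.QuasiFiniteAt R q →
        e ∉ q := by
  classical
  obtain ⟨U, hU⟩ : ∃ U : Set (Ideal S), U = {q | ∃ (h : q.IsPrime),
      q.LiesOver (maximalIdeal R) ∧ @Algebra.QuasiFiniteAt R S _ _ _ q h} := ⟨_, rfl⟩
  have hex : ∀ q : U, ∃ ε : S, IsIdempotentElem ε ∧ ε ∉ q.1 ∧
      Module.Finite R (S ⧸ Ideal.span ({1 - ε} : Set S)) := by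
    rintro ⟨q, hq⟩
    rw [hU] at hq
    obtain ⟨h1, h2, h3⟩ := hq
    exact exists_idem_finite R S q
  choose ε hε1 hε2 hε3 using hex
  obtain ⟨mS, hmS⟩ : ∃ mS : Ideal S, mS = (maximalIdeal R).map (algebraMap R S) := ⟨_, rfl⟩
  letI := Ideal.Quotient.field (maximalIdeal R)
  haveI : Algebra.FiniteType (R ⧸ maximalIdeal R)
      (S ⧸ (maximalIdeal R).map (algebraMap R S)) :=
    Algebra.FiniteType.of_restrictScalars_finiteType R _ _
  haveI : IsNoetherianRing (S ⧸ (maximalIdeal R).map (algebraMap R S)) :=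
    Algebra.FiniteType.isNoetherianRing (R ⧸ maximalIdeal R) _
  haveI : IsNoetherianRing (S ⧸ mS) := by rw [hmS]; infer_instance
  obtain ⟨T, hT⟩ : ∃ T : Set (S ⧸ mS), T = Set.range (fun q : U => Ideal.Quotient.mk mS (ε q)) :=
    ⟨_, rfl⟩
  have hfg : (Ideal.span T).FG := IsNoetherian.noetherian _
  obtain ⟨s', hs'T, hs'span⟩ := (Submodule.fg_span_iff_fg_span_finset_subset T).mp hfg
  have hch : ∀ x : {x // x ∈ s'}, ∃ q : U, Ideal.Quotient.mk mS (ε q) = x.1 := by
    rintro ⟨x, hx⟩
    have := hs'T (Finset.mem_coe.mpr hx)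
    rw [hT] at this
    exact this
  choose qx hqx using hch
  obtain ⟨e, he, hfe, hxe⟩ := exists_join (R := R) (s'.attach.image (fun x => ε (qx x)))
    (fun y hy => by
      obtain ⟨x, -, rfl⟩ := Finset.mem_image.mp hy
      exact ⟨hε1 _, finCorner_of_finite (hε1 _) (hε3 _)⟩)
  refine ⟨e, he, finite_of_finCorner hfe, ?_⟩
  intro q hqp hq1 hq2 heq
  have hqU : q ∈ U := by rw [hU]; exact ⟨hqp, hq1, hq2⟩
  have hle : Ideal.span (s' : Set (S ⧸ mS)) ≤ Ideal.span {Ideal.Quotient.mk mS e} := by
    rw [Ideal.span_le]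
    intro x hx
    rw [SetLike.mem_coe, Ideal.mem_span_singleton']
    refine ⟨x, ?_⟩
    have hx' : x ∈ s' := Finset.mem_coe.mp hx
    have h1 : Ideal.Quotient.mk mS (ε (qx ⟨x, hx'⟩)) = x := hqx ⟨x, hx'⟩
    have h2 := hxe (ε (qx ⟨x, hx'⟩)) (Finset.mem_image.mpr ⟨⟨x, hx'⟩, Finset.mem_attach _ _, rfl⟩)
    rw [← h1, ← map_mul, h2]
  have hmem : Ideal.Quotient.mk mS (ε ⟨q, hqU⟩) ∈ Ideal.span {Ideal.Quotient.mk mS e} := by
    apply hle
    have : Ideal.Quotient.mk mS (ε ⟨q, hqU⟩) ∈ Ideal.span T := by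
      apply Ideal.subset_span
      rw [hT]
      exact ⟨⟨q, hqU⟩, rfl⟩
    have h3 : Ideal.span T = Ideal.span (s' : Set (S ⧸ mS)) := hs'span
    rw [← h3]
    exact this
  obtain ⟨c, hc⟩ := Ideal.mem_span_singleton'.mp hmem
  obtain ⟨c, rfl⟩ := Ideal.Quotient.mk_surjective c
  rw [← map_mul, Ideal.Quotient.eq] at hc
  have hmSq : mS ≤ q := by
    rw [hmS, Ideal.map_le_iff_le_comap, ← Ideal.under_def, ← hq1.over]
  have : ε ⟨q, hqU⟩ ∈ q := by
    have h1 := hmSq hc
    have h2 : c * e ∈ q := Ideal.mul_mem_left _ _ heq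
    have := Ideal.sub_mem _ h2 h1
    rwa [sub_sub_cancel] at this
  exact hε2 ⟨q, hqU⟩ this

end Groth.Agent.Lib.HenselFiniteH3
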