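import Mathlib
import Groth.Agent.Lib.HenselQF_helper3

/-!
# Quasi-finite algebras over henselian local rings, II (helper3)

If `S` is of finite type over a henselian local ring `R` and quasi-finite at a prime `q` over the
closed point, then `S_q` is a finite `R`-module (it is a direct factor of `S`).
-/

set_option autoImplicit false
set_option maxSynthPendingDepth 3
universe u

namespace Groth.Agent.Lib.HenselFiniteH3

open IsLocalRing TensorProduct

/-- Version of `exists_idem_finite` which also records that `q` is the only prime over the closed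
point in `D(ε)`. -/
theorem exists_idem_finite_unique (R : Type u) [CommRing R] [HenselianLocalRing R] (S : Type u)
    [CommRing S] [Algebra R S] [Algebra.FiniteType R S] (q : Ideal S) [q.IsPrime]
    [q.LiesOver (maximalIdeal R)] [Algebra.QuasiFiniteAt R q] :
    ∃ ε : S, IsIdempotentElem ε ∧ ε ∉ q ∧ Module.Finite R (S ⧸ Ideal.span ({1 - ε} : Set S)) ∧
      ∀ Q : Ideal S, Q.IsPrime → Q.LiesOver (maximalIdeal R) → ε ∉ Q → Q = q := by
  obtain ⟨R', _, _, _, P, _, _, e, he, P', _, _, hP'q, heP', hbij, hfin, huniq⟩ :=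
    Algebra.exists_etale_isIdempotentElem_forall_liesOver_eq (R := R) (S := S) (maximalIdeal R) q
  obtain ⟨ψ, hψ⟩ := exists_retraction R R' P hbij
  let Ψ : R' ⊗[R] S →ₐ[R] S := Algebra.TensorProduct.lift ((Algebra.ofId R S).comp ψ)
    (AlgHom.id R S) (fun _ _ => Commute.all _ _)
  have hΨ : ∀ r s, Ψ (r ⊗ₜ s) = algebraMap R S (ψ r) * s := fun r s => by
    simp [Ψ, Algebra.ofId_apply]
  have hover : ∀ Q : Ideal S, Q.IsPrime → Q.LiesOver (maximalIdeal R) →
      (Q.comap Ψ.toRingHom).LiesOver P := by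
    intro Q _ _
    have hqm : Q.comap (algebraMap R S) = maximalIdeal R := (Q.over_def (maximalIdeal R)).symm
    refine ⟨?_⟩
    ext r'
    rw [Ideal.under_def, Ideal.mem_comap, Ideal.mem_comap, Algebra.TensorProduct.algebraMap_apply,
      Algebra.algebraMap_self_apply]
    show r' ∈ P ↔ Ψ (r' ⊗ₜ[R] (1 : S)) ∈ Q
    rw [hΨ, mul_one, ← Ideal.mem_comap, hqm, hψ]
  have hcomap : ∀ Q : Ideal S,
      (Q.comap Ψ.toRingHom).comap Algebra.TensorProduct.includeRight.toRingHom = Q := by
    intro Q
    ext s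
    rw [Ideal.mem_comap, Ideal.mem_comap]
    show Ψ ((1 : R') ⊗ₜ[R] s) ∈ Q ↔ s ∈ Q
    rw [hΨ, map_one, map_one, one_mul]
  haveI : (q.comap Ψ.toRingHom).IsPrime := Ideal.comap_isPrime _ _
  haveI : (q.comap Ψ.toRingHom).LiesOver P := hover q inferInstance inferInstance
  have hP'eq : P' = q.comap Ψ.toRingHom :=
    Ideal.eq_of_comap_eq_comap_of_bijective_residueFieldMap hbij P' (q.comap Ψ.toRingHom)
      (hP'q.trans (hcomap q).symm)
  refine ⟨Ψ e, he.map Ψ, ?_, ?_, ?_⟩
  · intro h
    apply heP'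
    rw [hP'eq]
    exact h
  · -- finiteness
    have hψsurj : Function.Surjective ψ.toRingHom := fun r => ⟨algebraMap R R' r, ψ.commutes r⟩
    haveI : RingHomSurjective ψ.toRingHom := ⟨hψsurj⟩
    let g : R' ⊗[R] S →+* S ⧸ Ideal.span ({1 - Ψ e} : Set S) :=
      (Ideal.Quotient.mk _).comp Ψ.toRingHom
    have hge : g e = 1 := by
      show Ideal.Quotient.mk _ (Ψ e) = 1
      have h1 : Ideal.Quotient.mk (Ideal.span ({1 - Ψ e} : Set S)) (1 - Ψ e) = 0 :=
        Ideal.Quotient.eq_zero_iff_mem.mpr (Ideal.mem_span_singleton_self _)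
      rw [map_sub, map_one, sub_eq_zero] at h1
      exact h1.symm
    have hu : IsUnit (g e) := by rw [hge]; exact isUnit_one
    let Θ : Localization.Away e →+* S ⧸ Ideal.span ({1 - Ψ e} : Set S) :=
      IsLocalization.Away.lift e hu
    have hΘ : ∀ t, Θ (algebraMap _ _ t) = g t := fun t => IsLocalization.Away.lift_eq e hu t
    let Θl : Localization.Away e →ₛₗ[ψ.toRingHom] S ⧸ Ideal.span ({1 - Ψ e} : Set S) :=
      { toFun := Θ
        map_add' := map_add Θ
        map_smul' := fun r' t => by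
          show Θ (r' • t) = ψ r' • Θ t
          rw [Algebra.smul_def, map_mul, Algebra.smul_def,
            IsScalarTower.algebraMap_apply R' (R' ⊗[R] S) (Localization.Away e), hΘ]
          congr 1
          show Ideal.Quotient.mk _ (Ψ (algebraMap R' (R' ⊗[R] S) r')) = _
          rw [Algebra.TensorProduct.algebraMap_apply, Algebra.algebraMap_self_apply, hΨ, mul_one]
          rfl }
    have hΘsurj : Function.Surjective Θl := by
      intro x
      obtain ⟨s, rfl⟩ := Ideal.Quotient.mk_surjective x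
      refine ⟨algebraMap _ _ ((1 : R') ⊗ₜ[R] s), ?_⟩
      show Θ _ = _
      rw [hΘ]
      show Ideal.Quotient.mk _ (Ψ ((1 : R') ⊗ₜ[R] s)) = _
      rw [hΨ, map_one, map_one, one_mul]
    exact Module.Finite.of_surjective Θl hΘsurj
  · intro Q hQ hQm hεQ
    haveI : (Q.comap Ψ.toRingHom).IsPrime := Ideal.comap_isPrime _ _
    have h1 : Q.comap Ψ.toRingHom = P' :=
      huniq (Q.comap Ψ.toRingHom) inferInstance (hover Q hQ hQm) (fun h => hεQ h)
    rw [← hcomap Q, h1, hP'eq, hcomap q]

section Quot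

variable (R : Type u) [CommRing R] [IsLocalRing R] (S : Type u)
    [CommRing S] [Algebra R S] (q : Ideal S) [q.IsPrime] (ε : S) (hε : ε ∉ q)
    (hid : IsIdempotentElem ε)
    (hfin : Module.Finite R (S ⧸ Ideal.span ({1 - ε} : Set S)))
    (huniq : ∀ Q : Ideal S, Q.IsPrime → Q.LiesOver (maximalIdeal R) → ε ∉ Q → Q = q)

include hε hid in
omit [IsLocalRing R] [Algebra R S] in
theorem span_le : Ideal.span ({1 - ε} : Set S) ≤ q := by
  rw [Ideal.span_le, Set.singleton_subset_iff]
  have : ε * (1 - ε) ∈ q := by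
    rw [mul_sub, mul_one, hid.eq, sub_self]; exact q.zero_mem
  exact (Ideal.IsPrime.mem_or_mem inferInstance this).resolve_left hε

include hfin huniq in
theorem comap_eq_of_isMaximal (N : Ideal (S ⧸ Ideal.span ({1 - ε} : Set S))) (hN : N.IsMaximal) :
    N.comap (Ideal.Quotient.mk _) = q := by
  have hmem : ∀ Q : Ideal S, Q.IsPrime → Ideal.span ({1 - ε} : Set S) ≤ Q → ε ∉ Q := by
    intro Q hQ hle h
    have h1 : 1 - ε ∈ Q := hle (Ideal.mem_span_singleton_self _)
    have : (1 : S) ∈ Q := by
      have := Q.add_mem h1 h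
      rwa [sub_add_cancel] at this
    exact hQ.ne_top ((Ideal.eq_top_iff_one _).mpr this)
  haveI : (N.comap (Ideal.Quotient.mk (Ideal.span ({1 - ε} : Set S)))).IsPrime :=
    Ideal.comap_isPrime _ _
  refine huniq _ inferInstance ⟨?_⟩ (hmem _ inferInstance ?_)
  · -- lies over the maximal ideal
    haveI : Algebra.IsIntegral R (S ⧸ Ideal.span ({1 - ε} : Set S)) :=
      Algebra.IsIntegral.of_finite _ _
    have h1 : (N.comap (algebraMap R (S ⧸ Ideal.span ({1 - ε} : Set S)))).IsMaximal :=
      Ideal.isMaximal_comap_of_isIntegral_of_isMaximal N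
    rw [Ideal.under_def, Ideal.comap_comap, ← IsLocalRing.eq_maximalIdeal h1]
    rfl
  · intro x hx
    rw [Ideal.mem_comap, Ideal.Quotient.eq_zero_iff_mem.mpr hx]
    exact N.zero_mem

include hε hid hfin huniq in
/-- The quotient `S/(1-ε)` is a local ring. -/
theorem isLocalRing_quotient : IsLocalRing (S ⧸ Ideal.span ({1 - ε} : Set S)) := by
  have hle := span_le S q ε hε hid
  haveI : Nontrivial (S ⧸ Ideal.span ({1 - ε} : Set S)) :=
    Ideal.Quotient.nontrivial_iff.mpr (fun h => by
      rw [h] at hle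
      exact Ideal.IsPrime.ne_top inferInstance (top_le_iff.mp hle))
  refine IsLocalRing.of_unique_max_ideal ?_
  obtain ⟨N, hN⟩ := Ideal.exists_maximal (S ⧸ Ideal.span ({1 - ε} : Set S))
  refine ⟨N, hN, fun N' hN' => ?_⟩
  have h1 := comap_eq_of_isMaximal R S q ε hfin huniq N hN
  have h2 := comap_eq_of_isMaximal R S q ε hfin huniq N' hN'
  exact Ideal.comap_injective_of_surjective _ Ideal.Quotient.mk_surjective (h2.trans h1.symm)

include hε hid hfin huniq in
theorem isLocalization_quotient :
    IsLocalization.AtPrime (S ⧸ Ideal.span ({1 - ε} : Set S)) q := by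
  haveI := isLocalRing_quotient R S q ε hε hid hfin huniq
  have hmax := comap_eq_of_isMaximal R S q ε hfin huniq
    (maximalIdeal (S ⧸ Ideal.span ({1 - ε} : Set S))) (IsLocalRing.maximalIdeal.isMaximal _)
  refine ⟨?_, ?_, ?_⟩
  · rintro ⟨y, hy⟩
    by_contra h
    apply hy
    show y ∈ q
    rw [← hmax, Ideal.mem_comap, IsLocalRing.mem_maximalIdeal, mem_nonunits_iff]
    exact h
  · intro b
    obtain ⟨d, rfl⟩ := Ideal.Quotient.mk_surjective b
    exact ⟨(d, 1), by simp⟩
  · intro x y hxy
    refine ⟨⟨ε, hε⟩, ?_⟩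
    have h1 : x - y ∈ Ideal.span ({1 - ε} : Set S) := by
      rw [← Ideal.Quotient.eq_zero_iff_mem, map_sub, sub_eq_zero]
      exact hxy
    obtain ⟨z, hz⟩ := Ideal.mem_span_singleton'.mp h1
    show ε * x = ε * y
    rw [← sub_eq_zero, ← mul_sub, ← hz, ← mul_assoc, mul_comm ε z, mul_assoc, mul_sub, mul_one,
      hid.eq, sub_self, mul_zero]

end Quot

/-- If `S` is of finite type over a henselian local ring `R` and quasi-finite at a prime `q` over
the closed point, then `S_q` is a finite `R`-module. -/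
theorem finite_localization (R : Type u) [CommRing R] [HenselianLocalRing R] (S : Type u)
    [CommRing S] [Algebra R S] [Algebra.FiniteType R S] (q : Ideal S) [q.IsPrime]
    [q.LiesOver (maximalIdeal R)] [Algebra.QuasiFiniteAt R q] :
    Module.Finite R (Localization.AtPrime q) := by
  obtain ⟨ε, hid, hε, hfin, huniq⟩ := exists_idem_finite_unique R S q
  haveI := isLocalization_quotient R S q ε hε hid hfin huniq
  let e : (S ⧸ Ideal.span ({1 - ε} : Set S)) ≃ₐ[S] Localization.AtPrime q :=
    IsLocalization.algEquiv q.primeCompl _ _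
  exact Module.Finite.equiv (e.restrictScalars R).toLinearEquiv

end Groth.Agent.Lib.HenselFiniteH3
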