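import Mathlib
import Groth.Prelude.Def_Hensel
import Groth.Agent.Lib.HensJoint_helper3
import Groth.Agent.Lib.HenselQF2_helper3
import Groth.Agent.Lib.Henselization8_helper3
import Groth.Agent.S0505

/-!
# Finiteness of the map of henselizations for a quasi-finite map (helper3)
-/

set_option autoImplicit false
set_option maxSynthPendingDepth 3
universe u

namespace Groth.Agent.Lib.HensJointH3

open Hensel IsLocalRing TensorProduct

instance isLocalHom_algebraMap_self (L : Type u) [CommRing L] : IsLocalHom (algebraMap L L) :=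
  ⟨fun _ h => h⟩

/-- A henselian local ring is a henselization of itself. -/
theorem isHenselization_self (L : Type u) [CommRing L] [HenselianLocalRing L] :
    IsHenselization L L where
  henselian := inferInstance
  universal := by
    intro T _ _ f _
    refine ⟨f, ?_, ?_⟩
    · ext x; rfl
    · intro g hg
      rw [← hg]
      ext x; rfl

theorem map_mem_maximalIdeal {A B : Type*} [CommRing A] [IsLocalRing A] [CommRing B]
    [IsLocalRing B] (f : A →+* B) [IsLocalHom f] {x : A} (hx : x ∈ maximalIdeal A) :
    f x ∈ maximalIdeal B := by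
  rw [mem_maximalIdeal, mem_nonunits_iff] at *
  exact fun h => hx (isUnit_of_map_unit f x h)

theorem comap_maximalIdeal_of_isLocalHom {A B : Type*} [CommRing A] [IsLocalRing A] [CommRing B]
    [IsLocalRing B] (f : A →+* B) [hf : IsLocalHom f] :
    (maximalIdeal B).comap f = maximalIdeal A :=
  ((local_hom_TFAE f).out 0 4).mp hf

section Tensor

variable (R S : Type u) [CommRing R] [CommRing S] [Algebra R S]
  (p : Ideal R) [p.IsPrime] (q : Ideal S) [q.IsPrime] [q.LiesOver p]
  (Rh : Type u) [CommRing Rh] [IsLocalRing Rh] [Algebra (Localization.AtPrime p) Rh]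
  [Algebra R Rh] [IsScalarTower R (Localization.AtPrime p) Rh]
  [IsLocalHom (algebraMap (Localization.AtPrime p) Rh)]
  [IsHenselization (Localization.AtPrime p) Rh]
  (Sh : Type u) [CommRing Sh] [IsLocalRing Sh] [Algebra (Localization.AtPrime q) Sh]
  [Algebra S Sh] [IsScalarTower S (Localization.AtPrime q) Sh]
  [IsLocalHom (algebraMap (Localization.AtPrime q) Sh)]
  [Algebra R Sh] [IsScalarTower R S Sh] [Algebra Rh Sh] [IsScalarTower R Rh Sh]

include R S p q in
theorem isLocalHom_algebraMap_of_tower : IsLocalHom (algebraMap Rh Sh) := by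
  have hcomp : (algebraMap Rh Sh).comp (algebraMap (Localization.AtPrime p) Rh) =
      (algebraMap (Localization.AtPrime q) Sh).comp
        (Localization.localRingHom p q (algebraMap R S) (Ideal.LiesOver.over)) := by
    refine IsLocalization.ringHom_ext p.primeCompl ?_
    ext r
    simp only [RingHom.comp_apply]
    rw [Localization.localRingHom_to_map, ← IsScalarTower.algebraMap_apply R _ Rh,
      ← IsScalarTower.algebraMap_apply R Rh Sh, ← IsScalarTower.algebraMap_apply S _ Sh,
      ← IsScalarTower.algebraMap_apply R S Sh]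
  refine ((local_hom_TFAE (algebraMap Rh Sh)).out 0 3).mpr ?_
  rw [← Groth.Agent.Lib.HenselizationH3.map_maximalIdeal_of_isHenselization
    (R := Localization.AtPrime p) Rh, Ideal.map_le_iff_le_comap]
  intro x hx
  rw [Ideal.mem_comap, Ideal.mem_comap, ← RingHom.comp_apply, hcomp, RingHom.comp_apply]
  exact map_mem_maximalIdeal _ (map_mem_maximalIdeal _ hx)


include p q in
theorem finite_tensor [IsHenselization (Localization.AtPrime q) Sh]
    [Algebra.FiniteType R S] [Algebra.QuasiFiniteAt R q] : Module.Finite Rh Sh := by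
  haveI hloc : IsLocalHom (algebraMap Rh Sh) := isLocalHom_algebraMap_of_tower R S p q Rh Sh
  haveI : HenselianLocalRing Rh := IsHenselization.henselian (Localization.AtPrime p)
  obtain ⟨Φ, hΦ⟩ : ∃ Φ : Rh ⊗[R] S →ₐ[Rh] Sh, Φ = Algebra.TensorProduct.lift (Algebra.ofId Rh Sh)
    (IsScalarTower.toAlgHom R S Sh) (fun _ _ => Commute.all _ _) := ⟨_, rfl⟩
  have hΦ2 : ∀ s : S, Φ.toRingHom (1 ⊗ₜ s) = algebraMap S Sh s := by
    intro s
    rw [hΦ]
    simp
  obtain ⟨Q', hQ'⟩ : ∃ Q' : Ideal (Rh ⊗[R] S),
    Q' = Ideal.comap Φ.toRingHom (maximalIdeal Sh) := ⟨_, rfl⟩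
  haveI : Q'.IsPrime := hQ' ▸ Ideal.comap_isPrime _ _
  haveI : Q'.LiesOver (maximalIdeal Rh) := by
    refine ⟨?_⟩
    rw [hQ', Ideal.under_def, Ideal.comap_comap]
    have : Φ.toRingHom.comp (algebraMap Rh (Rh ⊗[R] S)) = algebraMap Rh Sh := Φ.comp_algebraMap
    rw [this]
    exact (comap_maximalIdeal_of_isLocalHom (algebraMap Rh Sh)).symm
  have hq : q = Q'.comap Algebra.TensorProduct.includeRight.toRingHom := by
    ext s
    rw [Ideal.mem_comap, hQ', Ideal.mem_comap]
    show s ∈ q ↔ Φ.toRingHom (1 ⊗ₜ s) ∈ _
    rw [hΦ2, IsScalarTower.algebraMap_apply S (Localization.AtPrime q) Sh]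
    rw [← Ideal.mem_comap,
      comap_maximalIdeal_of_isLocalHom (algebraMap (Localization.AtPrime q) Sh), ← Ideal.mem_comap,
      ← Ideal.under_def, Localization.AtPrime.under_maximalIdeal]
  haveI : Algebra.QuasiFiniteAt Rh Q' := Algebra.QuasiFiniteAt.baseChange q Q' hq
  haveI hfin : Module.Finite Rh (Localization.AtPrime Q') :=
    Groth.Agent.Lib.HenselFiniteH3.finite_localization Rh _ Q'
  haveI : HenselianLocalRing (Localization.AtPrime Q') := Groth.Agent.S0505.result Rh _
  haveI := isHenselization_self (Localization.AtPrime Q')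
  obtain ⟨e, he⟩ := exists_equiv_tensor R S p q Rh Sh Φ.toRingHom Q' hΦ2 hQ'
    (Localization.AtPrime Q')
  let el : Localization.AtPrime Q' →ₗ[Rh] Sh :=
    { toFun := e
      map_add' := map_add e
      map_smul' := fun x l => by
        show e (x • l) = x • e l
        rw [Algebra.smul_def, Algebra.smul_def, map_mul,
          IsScalarTower.algebraMap_apply Rh (Rh ⊗[R] S) (Localization.AtPrime Q')]
        congr 1
        have := he (algebraMap Rh (Rh ⊗[R] S) x)
        rw [Algebra.algebraMap_self_apply] at this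
        rw [this]
        exact Φ.commutes x }
  exact Module.Finite.of_surjective el e.surjective

end Tensor

end Groth.Agent.Lib.HensJointH3
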