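import Mathlib
import Groth.Prelude.Def_Hensel
import Groth.Agent.Lib.HensJointStrict_helper3
import Groth.Agent.Lib.HensJointFin_helper3

/-!
# Finiteness of the map of strict henselizations for a quasi-finite map (helper3)
-/

set_option autoImplicit false
set_option maxSynthPendingDepth 3
universe u

namespace Groth.Agent.Lib.HensJointH3

open Hensel IsLocalRing TensorProduct

/-- A strictly henselian local ring is a strict henselization of itself. -/
theorem isStrictHenselization_self (L : Type u) [CommRing L] [HenselianLocalRing L]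
    [IsSepClosed (ResidueField L)] : IsStrictHenselization L L where
  henselian := inferInstance
  isSepClosure := by
    have hid : ∀ x : ResidueField L, @algebraMap (ResidueField L) (ResidueField L) _ _
        IsLocalRing.ResidueField.instAlgebra x = x := by
      intro x
      obtain ⟨y, rfl⟩ := residue_surjective x
      show ResidueField.map (algebraMap L L) (residue L y) = residue L y
      rw [ResidueField.map_residue]
      rfl
    refine @IsSepClosure.mk _ _ _ _ IsLocalRing.ResidueField.instAlgebra inferInstance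
      (@Algebra.IsSeparable.mk _ _ _ _ IsLocalRing.ResidueField.instAlgebra fun x => ?_)
    have := @isSeparable_algebraMap (ResidueField L) _ (ResidueField L) _
      IsLocalRing.ResidueField.instAlgebra x
    rwa [hid x] at this
  universal := by
    intro T _ _ f _ τ hτ
    have h1 : ∀ x : L, residue T (f x) = τ (residue L x) := by
      intro x
      have := RingHom.congr_fun hτ (residue L x)
      rw [RingHom.comp_apply, ResidueField.map_residue, ResidueField.map_residue] at this
      exact this.symm
    refine ⟨f, ⟨?_, h1⟩, ?_⟩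
    · ext x; rfl
    · rintro g ⟨hg, -⟩
      rw [← hg]
      ext x; rfl

section Tensor

variable (R S : Type u) [CommRing R] [CommRing S] [Algebra R S]
  (p : Ideal R) [p.IsPrime] (q : Ideal S) [q.IsPrime] [q.LiesOver p]
  (Rh : Type u) [CommRing Rh] [IsLocalRing Rh] [Algebra (Localization.AtPrime p) Rh]
  [Algebra R Rh] [IsScalarTower R (Localization.AtPrime p) Rh]
  [IsLocalHom (algebraMap (Localization.AtPrime p) Rh)]
  [IsStrictHenselization (Localization.AtPrime p) Rh]
  (Sh : Type u) [CommRing Sh] [IsLocalRing Sh] [Algebra (Localization.AtPrime q) Sh]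
  [Algebra S Sh] [IsScalarTower S (Localization.AtPrime q) Sh]
  [IsLocalHom (algebraMap (Localization.AtPrime q) Sh)]
  [Algebra R Sh] [IsScalarTower R S Sh] [Algebra Rh Sh] [IsScalarTower R Rh Sh]

include p q in
theorem finite_tensor_strict [IsStrictHenselization (Localization.AtPrime q) Sh]
    [Algebra.FiniteType R S] [Algebra.QuasiFiniteAt R q] : Module.Finite Rh Sh := by
  haveI hloc : IsLocalHom (algebraMap Rh Sh) :=
    isLocalHom_algebraMap_of_tower_strict R S p q Rh Sh
  haveI : HenselianLocalRing Rh := IsStrictHenselization.henselian (Localization.AtPrime p)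
  obtain ⟨Φ, hΦ⟩ : ∃ Φ : Rh ⊗[R] S →ₐ[Rh] Sh, Φ = Algebra.TensorProduct.lift (Algebra.ofId Rh Sh)
    (IsScalarTower.toAlgHom R S Sh) (fun _ _ => Commute.all _ _) := ⟨_, rfl⟩
  have hΦ1 : ∀ x : Rh, Φ.toRingHom (x ⊗ₜ 1) = algebraMap Rh Sh x := by
    intro s
    rw [hΦ]
    simp [Algebra.ofId_apply]
  have hΦ2 : ∀ s : S, Φ.toRingHom (1 ⊗ₜ s) = algebraMap S Sh s := by
    intro s
    rw [hΦ]
    simp
  obtain ⟨Q', hQ'⟩ : ∃ Q' : Ideal (Rh ⊗[R] S),
    Q' = Ideal.comap Φ.toRingHom (maximalIdeal Sh) := ⟨_, rfl⟩
  haveI : Q'.IsPrime := hQ' ▸ Ideal.comap_isPrime _ _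
  haveI : Q'.LiesOver (maximalIdeal Rh) := by
    refine ⟨?_⟩
    rw [hQ', Ideal.under_def, Ideal.comap_comap]
    have : Φ.toRingHom.comp (algebraMap Rh (Rh ⊗[R] S)) = algebraMap Rh Sh := Φ.comp_algebraMap
    rw [this]
    exact (comap_maximalIdeal_of_isLocalHom (algebraMap Rh Sh)).symm
  have hq : q = Q'.comap Algebra.TensorProduct.includeRight.toRingHom := by
    ext s
    rw [Ideal.mem_comap, hQ', Ideal.mem_comap]
    show s ∈ q ↔ Φ.toRingHom (1 ⊗ₜ s) ∈ _
    rw [hΦ2, IsScalarTower.algebraMap_apply S (Localization.AtPrime q) Sh]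
    rw [← Ideal.mem_comap,
      comap_maximalIdeal_of_isLocalHom (algebraMap (Localization.AtPrime q) Sh), ← Ideal.mem_comap,
      ← Ideal.under_def, Localization.AtPrime.under_maximalIdeal]
  haveI : Algebra.QuasiFiniteAt Rh Q' := Algebra.QuasiFiniteAt.baseChange q Q' hq
  haveI hfin : Module.Finite Rh (Localization.AtPrime Q') :=
    Groth.Agent.Lib.HenselFiniteH3.finite_localization Rh _ Q'
  haveI : HenselianLocalRing (Localization.AtPrime Q') := Groth.Agent.S0505.result Rh _
  haveI hlocL : IsLocalHom (algebraMap Rh (Localization.AtPrime Q')) := by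
    have h1 : algebraMap Rh (Localization.AtPrime Q') = aHom R S Rh Q' := by
      ext x
      rw [IsScalarTower.algebraMap_apply Rh (Rh ⊗[R] S) (Localization.AtPrime Q')]
      rfl
    rw [h1]
    exact isLocalHom_aHom R S p q Rh Sh Φ.toRingHom Q' hΦ1 hQ'
  haveI : IsSepClosed (ResidueField Rh) :=
    (IsStrictHenselization.isSepClosure (R := Localization.AtPrime p) (S := Rh)).sep_closed
  haveI : IsSepClosed (ResidueField (Localization.AtPrime Q')) :=
    Algebra.IsAlgebraic.isSepClosed (F := ResidueField Rh)
  haveI := isStrictHenselization_self (Localization.AtPrime Q')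
  obtain ⟨e, he⟩ := exists_equiv_tensor_strict R S p q Rh Sh Φ.toRingHom Q' hΦ1 hΦ2 hQ'
    (Localization.AtPrime Q')
  let el : Localization.AtPrime Q' →ₗ[Rh] Sh :=
    { toFun := e
      map_add' := map_add e
      map_smul' := fun x l => by
        show e (x • l) = x • e l
        rw [Algebra.smul_def, Algebra.smul_def, map_mul,
          IsScalarTower.algebraMap_apply Rh (Rh ⊗[R] S) (Localization.AtPrime Q')]
        congr 1
        have := he (algebraMap Rh (Rh ⊗[R] S) x)
        rw [Algebra.algebraMap_self_apply] at this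
        rw [this]
        exact Φ.commutes x }
  exact Module.Finite.of_surjective el e.surjective

end Tensor

end Groth.Agent.Lib.HensJointH3
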