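import Mathlib

/-!
# Tensor products with an integral local algebra with purely inseparable residue field (helper3)

If `R₀ → S` is an integral local homomorphism of local rings whose residue field extension is
purely inseparable and `R₀ → R'` is a local homomorphism of local rings, then `R' ⊗[R₀] S` has at
most one maximal ideal.
-/

set_option autoImplicit false
set_option maxSynthPendingDepth 3
universe u

namespace Groth.Agent.Lib.TensorInsepH3

open IsLocalRing TensorProduct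

theorem comap_maximalIdeal_of_isLocalHom {A B : Type*} [CommRing A] [IsLocalRing A] [CommRing B]
    [IsLocalRing B] (f : A →+* B) [hf : IsLocalHom f] :
    (maximalIdeal B).comap f = maximalIdeal A :=
  ((local_hom_TFAE f).out 0 4).mp hf

variable (R₀ R' S : Type u) [CommRing R₀] [IsLocalRing R₀] [CommRing R'] [IsLocalRing R']
  [CommRing S] [IsLocalRing S] [Algebra R₀ R'] [Algebra R₀ S]
  [IsLocalHom (algebraMap R₀ R')] [IsLocalHom (algebraMap R₀ S)]

theorem subsingleton_primeSpectrum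
    [IsPurelyInseparable (ResidueField R₀) (ResidueField S)] :
    Subsingleton (PrimeSpectrum (ResidueField R' ⊗[ResidueField R₀] ResidueField S)) := by
  have h := PrimeSpectrum.isHomeomorph_comap_of_isPurelyInseparable (ResidueField R₀)
    (ResidueField S) (ResidueField R')
  exact h.injective.subsingleton

section

variable [Algebra.IsIntegral R₀ S]

theorem comap_algebraMap_eq (N : Ideal (R' ⊗[R₀] S)) [N.IsMaximal] :
    N.comap (algebraMap R' (R' ⊗[R₀] S)) = maximalIdeal R' :=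
  IsLocalRing.eq_maximalIdeal (Ideal.isMaximal_comap_of_isIntegral_of_isMaximal N)

theorem comap_includeRight_eq (N : Ideal (R' ⊗[R₀] S)) [N.IsMaximal] :
    N.comap (Algebra.TensorProduct.includeRight : S →ₐ[R₀] R' ⊗[R₀] S).toRingHom =
      maximalIdeal S := by
  haveI : (N.comap (Algebra.TensorProduct.includeRight : S →ₐ[R₀] R' ⊗[R₀] S).toRingHom).IsPrime :=
    Ideal.comap_isPrime _ N
  have h1 : (N.comap (Algebra.TensorProduct.includeRight :
      S →ₐ[R₀] R' ⊗[R₀] S).toRingHom).comap (algebraMap R₀ S) = maximalIdeal R₀ := by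
    rw [← comap_maximalIdeal_of_isLocalHom (algebraMap R₀ R'),
      ← comap_algebraMap_eq R₀ R' S N]
    ext a
    simp only [Ideal.mem_comap]
    have : (Algebra.TensorProduct.includeRight : S →ₐ[R₀] R' ⊗[R₀] S).toRingHom
        (algebraMap R₀ S a) = algebraMap R' (R' ⊗[R₀] S) (algebraMap R₀ R' a) := by
      show (1 : R') ⊗ₜ[R₀] (algebraMap R₀ S a) = (algebraMap R₀ R' a) ⊗ₜ[R₀] (1 : S)
      rw [Algebra.algebraMap_eq_smul_one, Algebra.algebraMap_eq_smul_one, TensorProduct.smul_tmul]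
    rw [this]
  have h2 := Ideal.isMaximal_of_isIntegral_of_isMaximal_comap (R := R₀)
    (N.comap (Algebra.TensorProduct.includeRight : S →ₐ[R₀] R' ⊗[R₀] S).toRingHom) (by
      rw [h1]
      exact maximalIdeal.isMaximal R₀)
  exact IsLocalRing.eq_maximalIdeal h2

end

/-- The ideal generated by the two maximal ideals. -/
def J : Ideal (R' ⊗[R₀] S) :=
  (maximalIdeal R').map (algebraMap R' (R' ⊗[R₀] S)) ⊔
    (maximalIdeal S).map (Algebra.TensorProduct.includeRight : S →ₐ[R₀] R' ⊗[R₀] S).toRingHom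

theorem J_le [Algebra.IsIntegral R₀ S] (N : Ideal (R' ⊗[R₀] S)) [N.IsMaximal] : J R₀ R' S ≤ N := by
  rw [J, sup_le_iff, Ideal.map_le_iff_le_comap, Ideal.map_le_iff_le_comap,
    comap_algebraMap_eq, comap_includeRight_eq]
  exact ⟨le_rfl, le_rfl⟩

/-- `K' → T/J`. -/
noncomputable def uHom : ResidueField R' →+* (R' ⊗[R₀] S) ⧸ J R₀ R' S :=
  Ideal.Quotient.lift (maximalIdeal R')
    ((Ideal.Quotient.mk (J R₀ R' S)).comp (algebraMap R' (R' ⊗[R₀] S))) (fun a ha => by
      rw [RingHom.comp_apply, Ideal.Quotient.eq_zero_iff_mem]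
      exact Ideal.mem_sup_left (Ideal.mem_map_of_mem _ ha))

/-- `K → T/J`. -/
noncomputable def vHom : ResidueField S →+* (R' ⊗[R₀] S) ⧸ J R₀ R' S :=
  Ideal.Quotient.lift (maximalIdeal S)
    ((Ideal.Quotient.mk (J R₀ R' S)).comp
      (Algebra.TensorProduct.includeRight : S →ₐ[R₀] R' ⊗[R₀] S).toRingHom) (fun a ha => by
      rw [RingHom.comp_apply, Ideal.Quotient.eq_zero_iff_mem]
      exact Ideal.mem_sup_right (Ideal.mem_map_of_mem _ ha))

theorem uHom_residue (r : R') :
    uHom R₀ R' S (residue R' r) = Ideal.Quotient.mk (J R₀ R' S) (r ⊗ₜ 1) := rfl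

theorem vHom_residue (s : S) :
    vHom R₀ R' S (residue S s) = Ideal.Quotient.mk (J R₀ R' S) (1 ⊗ₜ s) := rfl

theorem uv_compat (x : ResidueField R₀) :
    vHom R₀ R' S (algebraMap (ResidueField R₀) (ResidueField S) x) =
      uHom R₀ R' S (algebraMap (ResidueField R₀) (ResidueField R') x) := by
  obtain ⟨r, rfl⟩ := residue_surjective x
  show vHom R₀ R' S (ResidueField.map (algebraMap R₀ S) (residue R₀ r)) =
    uHom R₀ R' S (ResidueField.map (algebraMap R₀ R') (residue R₀ r))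
  rw [ResidueField.map_residue, ResidueField.map_residue, uHom_residue, vHom_residue,
    Algebra.algebraMap_eq_smul_one, Algebra.algebraMap_eq_smul_one, TensorProduct.smul_tmul]

/-- The surjection `K' ⊗[k] K → T/J`. -/
theorem exists_surjection :
    ∃ π : ResidueField R' ⊗[ResidueField R₀] ResidueField S →+* (R' ⊗[R₀] S) ⧸ J R₀ R' S,
      Function.Surjective π := by
  letI : Algebra (ResidueField R₀) ((R' ⊗[R₀] S) ⧸ J R₀ R' S) :=
    ((uHom R₀ R' S).comp (algebraMap (ResidueField R₀) (ResidueField R'))).toAlgebra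
  let uA : ResidueField R' →ₐ[ResidueField R₀] (R' ⊗[R₀] S) ⧸ J R₀ R' S :=
    ⟨uHom R₀ R' S, fun _ => rfl⟩
  let vA : ResidueField S →ₐ[ResidueField R₀] (R' ⊗[R₀] S) ⧸ J R₀ R' S :=
    ⟨vHom R₀ R' S, fun x => uv_compat R₀ R' S x⟩
  let π := Algebra.TensorProduct.lift uA vA (fun _ _ => Commute.all _ _)
  refine ⟨π.toRingHom, ?_⟩
  intro w
  obtain ⟨t, rfl⟩ := Ideal.Quotient.mk_surjective w
  induction t using TensorProduct.induction_on with
  | zero => exact ⟨0, by simp⟩
  | add x y hx hy =>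
    obtain ⟨a, ha⟩ := hx
    obtain ⟨b, hb⟩ := hy
    exact ⟨a + b, by rw [map_add, ha, hb, map_add]⟩
  | tmul r s =>
    refine ⟨residue R' r ⊗ₜ residue S s, ?_⟩
    show π (residue R' r ⊗ₜ residue S s) = _
    rw [Algebra.TensorProduct.lift_tmul]
    show uHom R₀ R' S (residue R' r) * vHom R₀ R' S (residue S s) = _
    rw [uHom_residue, vHom_residue, ← map_mul, Algebra.TensorProduct.tmul_mul_tmul, mul_one,
      one_mul]

theorem eq_of_J_le [IsPurelyInseparable (ResidueField R₀) (ResidueField S)]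
    (P₁ P₂ : Ideal (R' ⊗[R₀] S)) [P₁.IsPrime] [P₂.IsPrime] (h₁ : J R₀ R' S ≤ P₁)
    (h₂ : J R₀ R' S ≤ P₂) : P₁ = P₂ := by
  obtain ⟨π, hπ⟩ := exists_surjection R₀ R' S
  haveI := subsingleton_primeSpectrum R₀ R' S
  have hmk : Function.Surjective (Ideal.Quotient.mk (J R₀ R' S)) := Ideal.Quotient.mk_surjective
  have key : ∀ P : Ideal (R' ⊗[R₀] S), P.IsPrime → J R₀ R' S ≤ P →
      (P.map (Ideal.Quotient.mk (J R₀ R' S))).IsPrime ∧
        (P.map (Ideal.Quotient.mk (J R₀ R' S))).comap (Ideal.Quotient.mk (J R₀ R' S)) = P := by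
    intro P hP hle
    have hker : RingHom.ker (Ideal.Quotient.mk (J R₀ R' S)) ≤ P := by rwa [Ideal.mk_ker]
    refine ⟨Ideal.map_isPrime_of_surjective hmk hker, ?_⟩
    rw [Ideal.comap_map_of_surjective _ hmk, ← RingHom.ker_eq_comap_bot, sup_eq_left.mpr hker]
  obtain ⟨hp₁, hc₁⟩ := key P₁ inferInstance h₁
  obtain ⟨hp₂, hc₂⟩ := key P₂ inferInstance h₂
  have h3 : (⟨(P₁.map (Ideal.Quotient.mk (J R₀ R' S))).comap π, Ideal.comap_isPrime _ _⟩ :
      PrimeSpectrum _) = ⟨(P₂.map (Ideal.Quotient.mk (J R₀ R' S))).comap π,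
        Ideal.comap_isPrime _ _⟩ := Subsingleton.elim _ _
  have h4 := Ideal.comap_injective_of_surjective π hπ (congrArg PrimeSpectrum.asIdeal h3)
  rw [← hc₁, ← hc₂, h4]

/-- `R' ⊗[R₀] S` is a local ring. -/
theorem isLocalRing_tensor [Algebra.IsIntegral R₀ S]
    [IsPurelyInseparable (ResidueField R₀) (ResidueField S)] [Nontrivial (R' ⊗[R₀] S)] :
    IsLocalRing (R' ⊗[R₀] S) := by
  obtain ⟨N₀, hN₀⟩ := Ideal.exists_maximal (R' ⊗[R₀] S)
  refine IsLocalRing.of_unique_max_ideal ⟨N₀, hN₀, fun N hN => ?_⟩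
  haveI := hN₀
  haveI := hN
  exact eq_of_J_le R₀ R' S N N₀ (J_le R₀ R' S N) (J_le R₀ R' S N₀)

end Groth.Agent.Lib.TensorInsepH3
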