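import Mathlib
import Groth.Prelude.Def_Hensel
import Groth.Agent.Lib.HensJoint2_helper3
import Groth.Agent.Lib.HensJointStrictFin_helper3
import Groth.Agent.Lib.TensorInsep_helper3
import Groth.Agent.Lib.HensIntegral_helper3

/-!
# `B^sh ⊗_{A^sh} C^sh ≅ D^sh` when `B^sh` is integral over `A^sh` (helper3)
-/

set_option autoImplicit false
set_option maxSynthPendingDepth 3
universe u

namespace Groth.Agent.Lib.ShTensorH3

open Hensel IsLocalRing TensorProduct Groth.Agent.Lib.HensJointH3

/-- Integrality passes to residue fields. -/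
theorem isIntegral_residueField (R S : Type u) [CommRing R] [IsLocalRing R] [CommRing S]
    [IsLocalRing S] [Algebra R S] [IsLocalHom (algebraMap R S)] [Algebra.IsIntegral R S] :
    Algebra.IsIntegral (ResidueField R) (ResidueField S) := by
  refine ⟨fun x => ?_⟩
  obtain ⟨s, rfl⟩ := residue_surjective x
  exact (Algebra.IsIntegral.isIntegral (R := R) s).map_of_comp_eq (residue R) (residue S) (by
    ext r
    show ResidueField.map (algebraMap R S) (residue R r) = residue S (algebraMap R S r)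
    rw [ResidueField.map_residue])

/-- A local ring which is integral over a strictly henselian local ring is strictly henselian. -/
theorem strictlyHenselian_of_isIntegral (R T : Type u) [CommRing R] [HenselianLocalRing R]
    [IsSepClosed (ResidueField R)] [CommRing T] [IsLocalRing T] [Algebra R T]
    [Algebra.IsIntegral R T] :
    HenselianLocalRing T ∧ IsSepClosed (ResidueField T) := by
  have hloc : IsLocalHom (algebraMap R T) := by
    refine ((local_hom_TFAE (algebraMap R T)).out 0 4).mpr ?_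
    exact IsLocalRing.eq_maximalIdeal
      (Ideal.isMaximal_comap_of_isIntegral_of_isMaximal (maximalIdeal T))
  haveI := hloc
  haveI := isIntegral_residueField R T
  exact ⟨Groth.Agent.Lib.HensIntegralH3.henselianLocalRing_of_isIntegral R T,
    Algebra.IsAlgebraic.isSepClosed (F := ResidueField R)⟩


section Main

variable (A B C : Type u) [CommRing A] [CommRing B]
    [CommRing C] [Algebra A B] [Algebra A C]
    (pA : Ideal A) [pA.IsPrime] (pB : Ideal B) [pB.IsPrime] [pB.LiesOver pA]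
    (pC : Ideal C) [pC.IsPrime] [pC.LiesOver pA]
    (pD : Ideal (B ⊗[A] C)) [pD.IsPrime] [pD.LiesOver pB]
    (hDC : pD.comap (Algebra.TensorProduct.includeRight : C →ₐ[A] B ⊗[A] C).toRingHom = pC)
    (Ash : Type u) [CommRing Ash] [IsLocalRing Ash] [Algebra (Localization.AtPrime pA) Ash]
    [IsLocalHom (algebraMap (Localization.AtPrime pA) Ash)]
    [Hensel.IsStrictHenselization (Localization.AtPrime pA) Ash] [Algebra A Ash]
    [IsScalarTower A (Localization.AtPrime pA) Ash]
    (Bsh : Type u) [CommRing Bsh] [IsLocalRing Bsh] [Algebra (Localization.AtPrime pB) Bsh]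
    [IsLocalHom (algebraMap (Localization.AtPrime pB) Bsh)]
    [Hensel.IsStrictHenselization (Localization.AtPrime pB) Bsh] [Algebra B Bsh]
    [IsScalarTower B (Localization.AtPrime pB) Bsh] [Algebra A Bsh] [IsScalarTower A B Bsh]
    [Algebra Ash Bsh] [IsScalarTower A Ash Bsh] [IsLocalHom (algebraMap Ash Bsh)]
    (Csh : Type u) [CommRing Csh] [IsLocalRing Csh] [Algebra (Localization.AtPrime pC) Csh]
    [IsLocalHom (algebraMap (Localization.AtPrime pC) Csh)]
    [Hensel.IsStrictHenselization (Localization.AtPrime pC) Csh] [Algebra C Csh]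
    [IsScalarTower C (Localization.AtPrime pC) Csh] [Algebra A Csh] [IsScalarTower A C Csh]
    [Algebra Ash Csh] [IsScalarTower A Ash Csh] [IsLocalHom (algebraMap Ash Csh)]
    (Dsh : Type u) [CommRing Dsh] [IsLocalRing Dsh] [Algebra (Localization.AtPrime pD) Dsh]
    [IsLocalHom (algebraMap (Localization.AtPrime pD) Dsh)]
    [Hensel.IsStrictHenselization (Localization.AtPrime pD) Dsh] [Algebra (B ⊗[A] C) Dsh]
    [IsScalarTower (B ⊗[A] C) (Localization.AtPrime pD) Dsh]
    [Algebra Bsh Dsh] [IsLocalHom (algebraMap Bsh Dsh)] [Algebra B Dsh] [IsScalarTower B Bsh Dsh]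
    [IsScalarTower B (B ⊗[A] C) Dsh]
    [Algebra Csh Dsh] [IsLocalHom (algebraMap Csh Dsh)]
    (hC : ∀ c : C, algebraMap Csh Dsh (algebraMap C Csh c) = algebraMap (B ⊗[A] C) Dsh (1 ⊗ₜ[A] c))
    [Algebra Ash Dsh] [IsScalarTower Ash Bsh Dsh] [IsScalarTower Ash Csh Dsh]

/-- The comparison map in the swapped orientation. -/
noncomputable def thetaSwap : Csh ⊗[Ash] Bsh →ₐ[Ash] Dsh :=
  Algebra.TensorProduct.lift (IsScalarTower.toAlgHom Ash Csh Dsh)
    (IsScalarTower.toAlgHom Ash Bsh Dsh) (fun _ _ => Commute.all _ _)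

omit [IsLocalRing Ash] [IsLocalRing Bsh] [IsLocalHom (algebraMap Ash Bsh)] [IsLocalRing Csh]
  [IsLocalHom (algebraMap Ash Csh)] [IsLocalRing Dsh] [IsLocalHom (algebraMap Bsh Dsh)]
  [IsLocalHom (algebraMap Csh Dsh)] in
theorem thetaSwap_tmul (c : Csh) (b : Bsh) :
    thetaSwap Ash Bsh Csh Dsh (c ⊗ₜ b) = algebraMap Csh Dsh c * algebraMap Bsh Dsh b := by
  simp [thetaSwap]

/-- The map `δ : B ⊗[A] C → Csh ⊗[Ash] Bsh`. -/
theorem exists_delta :
    ∃ δ : B ⊗[A] C →+* Csh ⊗[Ash] Bsh, ∀ (y : B) (z : C),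
      δ (y ⊗ₜ z) = (algebraMap C Csh z) ⊗ₜ (algebraMap B Bsh y) := by
  let δ₁ : B →ₐ[A] Csh ⊗[Ash] Bsh :=
    ⟨(Algebra.TensorProduct.includeRight : Bsh →ₐ[Ash] Csh ⊗[Ash] Bsh).toRingHom.comp
      (algebraMap B Bsh), fun a => by
      show (1 : Csh) ⊗ₜ[Ash] (algebraMap B Bsh (algebraMap A B a)) =
        algebraMap A (Csh ⊗[Ash] Bsh) a
      rw [← IsScalarTower.algebraMap_apply A B Bsh, IsScalarTower.algebraMap_apply A Ash Bsh,
        Algebra.TensorProduct.algebraMap_apply, IsScalarTower.algebraMap_apply A Ash Csh,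
        Algebra.algebraMap_eq_smul_one, Algebra.algebraMap_eq_smul_one (A := Csh),
        TensorProduct.smul_tmul]⟩
  let δ₂ : C →ₐ[A] Csh ⊗[Ash] Bsh :=
    ⟨(algebraMap Csh (Csh ⊗[Ash] Bsh)).comp (algebraMap C Csh), fun a => by
      show (algebraMap C Csh (algebraMap A C a)) ⊗ₜ[Ash] (1 : Bsh) =
        algebraMap A (Csh ⊗[Ash] Bsh) a
      rw [← IsScalarTower.algebraMap_apply A C Csh, Algebra.TensorProduct.algebraMap_apply]⟩
  refine ⟨(Algebra.TensorProduct.lift δ₁ δ₂ (fun _ _ => Commute.all _ _)).toRingHom, ?_⟩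
  intro y z
  show Algebra.TensorProduct.lift δ₁ δ₂ _ (y ⊗ₜ z) = _
  rw [Algebra.TensorProduct.lift_tmul]
  show ((1 : Csh) ⊗ₜ[Ash] (algebraMap B Bsh y)) * ((algebraMap C Csh z) ⊗ₜ[Ash] (1 : Bsh)) = _
  rw [Algebra.TensorProduct.tmul_mul_tmul, one_mul, mul_one]


include hC in
omit [IsLocalRing Ash] [IsLocalRing Bsh] [IsLocalHom (algebraMap Ash Bsh)] [IsLocalRing Csh]
  [IsLocalHom (algebraMap Ash Csh)] [IsLocalRing Dsh] [IsLocalHom (algebraMap Bsh Dsh)]
  [IsLocalHom (algebraMap Csh Dsh)] in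
theorem thetaSwap_delta (δ : B ⊗[A] C →+* Csh ⊗[Ash] Bsh)
    (hδ : ∀ (y : B) (z : C), δ (y ⊗ₜ z) = (algebraMap C Csh z) ⊗ₜ (algebraMap B Bsh y))
    (d : B ⊗[A] C) : thetaSwap Ash Bsh Csh Dsh (δ d) = algebraMap (B ⊗[A] C) Dsh d := by
  induction d using TensorProduct.induction_on with
  | zero => simp
  | add x y hx hy => rw [map_add, map_add, map_add, hx, hy]
  | tmul y z =>
    rw [hδ, thetaSwap_tmul, hC, ← IsScalarTower.algebraMap_apply B Bsh Dsh,
      IsScalarTower.algebraMap_apply B (B ⊗[A] C) Dsh, ← map_mul,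
      Algebra.TensorProduct.algebraMap_apply, Algebra.algebraMap_self_apply,
      Algebra.TensorProduct.tmul_mul_tmul, one_mul, mul_one]


include pA pB hDC hC in
theorem bijective_thetaSwap [Algebra.IsIntegral Ash Bsh] :
    Function.Bijective (thetaSwap Ash Bsh Csh Dsh) := by
  haveI : IsSepClosed (ResidueField Ash) :=
    (IsStrictHenselization.isSepClosure (R := Localization.AtPrime pA) (S := Ash)).sep_closed
  haveI : IsSepClosed (ResidueField Csh) :=
    (IsStrictHenselization.isSepClosure (R := Localization.AtPrime pC) (S := Csh)).sep_closed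
  haveI := isIntegral_residueField Ash Bsh
  haveI : IsPurelyInseparable (ResidueField Ash) (ResidueField Bsh) := inferInstance
  haveI : HenselianLocalRing Csh := IsStrictHenselization.henselian (Localization.AtPrime pC)
  haveI : HenselianLocalRing Dsh := IsStrictHenselization.henselian (Localization.AtPrime pD)
  obtain ⟨Θ, hΘ⟩ : ∃ Θ : Csh ⊗[Ash] Bsh →+* Dsh,
    Θ = (thetaSwap Ash Bsh Csh Dsh).toRingHom := ⟨_, rfl⟩
  have hΘt : ∀ c b, Θ (c ⊗ₜ b) = algebraMap Csh Dsh c * algebraMap Bsh Dsh b := by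
    intro c b
    rw [hΘ]
    exact thetaSwap_tmul Ash Bsh Csh Dsh c b
  haveI : Nontrivial (Csh ⊗[Ash] Bsh) := Θ.domain_nontrivial
  haveI hlocM : IsLocalRing (Csh ⊗[Ash] Bsh) :=
    Groth.Agent.Lib.TensorInsepH3.isLocalRing_tensor Ash Csh Bsh
  obtain ⟨hhensM, hsepM⟩ := strictlyHenselian_of_isIntegral Csh (Csh ⊗[Ash] Bsh)
  haveI := hhensM
  haveI := hsepM
  -- `Θ` is local
  haveI hΘloc : IsLocalHom Θ := by
    refine ((local_hom_TFAE Θ).out 0 4).mpr ?_
    haveI : ((maximalIdeal Dsh).comap Θ).IsPrime := Ideal.comap_isPrime _ _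
    have h1 : ((maximalIdeal Dsh).comap Θ).comap (algebraMap Csh (Csh ⊗[Ash] Bsh)) =
        maximalIdeal Csh := by
      rw [Ideal.comap_comap]
      have : Θ.comp (algebraMap Csh (Csh ⊗[Ash] Bsh)) = algebraMap Csh Dsh := by
        ext c
        rw [RingHom.comp_apply, Algebra.TensorProduct.algebraMap_apply,
          Algebra.algebraMap_self_apply, hΘt, map_one, mul_one]
      rw [this]
      exact comap_maximalIdeal_of_isLocalHom _
    exact IsLocalRing.eq_maximalIdeal
      (Ideal.isMaximal_of_isIntegral_of_isMaximal_comap (R := Csh) _ (by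
        rw [h1]
        exact maximalIdeal.isMaximal Csh))
  -- the map from `D_pD`
  obtain ⟨δ, hδ⟩ := exists_delta A B C Ash Bsh Csh
  have hΘδ : ∀ d, Θ (δ d) = algebraMap (B ⊗[A] C) Dsh d := by
    intro d
    rw [hΘ]
    exact thetaSwap_delta A B C Ash Bsh Csh Dsh hC δ hδ d
  have hunit : ∀ y : pD.primeCompl, IsUnit (δ y) := by
    intro y
    have h1 : IsUnit (Θ (δ y)) := by
      rw [hΘδ, IsScalarTower.algebraMap_apply (B ⊗[A] C) (Localization.AtPrime pD) Dsh]
      exact (IsLocalization.map_units (Localization.AtPrime pD) y).map _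
    exact isUnit_of_map_unit Θ _ h1
  obtain ⟨b, hb⟩ : ∃ b : Localization.AtPrime pD →+* Csh ⊗[Ash] Bsh,
      ∀ d, b (algebraMap _ _ d) = δ d :=
    ⟨IsLocalization.lift (M := pD.primeCompl) hunit, fun d => IsLocalization.lift_eq _ _⟩
  have hcb : Θ.comp b = algebraMap (Localization.AtPrime pD) Dsh := by
    refine IsLocalization.ringHom_ext pD.primeCompl (RingHom.ext fun d => ?_)
    rw [RingHom.comp_apply, RingHom.comp_apply, RingHom.comp_apply, hb, hΘδ,
      ← IsScalarTower.algebraMap_apply]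
  -- legs
  obtain ⟨a₁, ha₁⟩ : ∃ a₁ : Bsh →+* Csh ⊗[Ash] Bsh, ∀ x, a₁ x = 1 ⊗ₜ x :=
    ⟨(Algebra.TensorProduct.includeRight : Bsh →ₐ[Ash] Csh ⊗[Ash] Bsh).toRingHom, fun _ => rfl⟩
  obtain ⟨a₂, ha₂⟩ : ∃ a₂ : Csh →+* Csh ⊗[Ash] Bsh, ∀ x, a₂ x = x ⊗ₜ 1 :=
    ⟨Algebra.TensorProduct.includeLeftRingHom, fun _ => rfl⟩
  haveI : IsLocalHom a₁ := by
    haveI : IsLocalHom (Θ.comp a₁) := by
      have : Θ.comp a₁ = algebraMap Bsh Dsh := by
        ext x
        rw [RingHom.comp_apply, ha₁, hΘt, map_one, one_mul]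
      rw [this]
      infer_instance
    exact isLocalHom_of_comp a₁ Θ
  haveI : IsLocalHom a₂ := by
    haveI : IsLocalHom (Θ.comp a₂) := by
      have : Θ.comp a₂ = algebraMap Csh Dsh := by
        ext x
        rw [RingHom.comp_apply, ha₂, hΘt, map_one, mul_one]
      rw [this]
      infer_instance
    exact isLocalHom_of_comp a₂ Θ
  have hab₁ : a₁.comp (algebraMap (Localization.AtPrime pB) Bsh) =
      b.comp (Localization.localRingHom pB pD (algebraMap B (B ⊗[A] C)) Ideal.LiesOver.over) := by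
    refine IsLocalization.ringHom_ext pB.primeCompl ?_
    ext y
    simp only [RingHom.comp_apply]
    rw [Localization.localRingHom_to_map, hb, ← IsScalarTower.algebraMap_apply B _ Bsh, ha₁,
      Algebra.TensorProduct.algebraMap_apply, Algebra.algebraMap_self_apply, hδ, map_one]
  have hab₂ : a₂.comp (algebraMap (Localization.AtPrime pC) Csh) =
      b.comp (Localization.localRingHom pC pD
        (Algebra.TensorProduct.includeRight : C →ₐ[A] B ⊗[A] C).toRingHom hDC.symm) := by
    refine IsLocalization.ringHom_ext pC.primeCompl ?_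
    ext z
    simp only [RingHom.comp_apply]
    rw [Localization.localRingHom_to_map, hb, ← IsScalarTower.algebraMap_apply C _ Csh, ha₂]
    show _ = δ ((1 : B) ⊗ₜ[A] z)
    rw [hδ, map_one]
  have hepi : ∀ (T : Type u) [CommRing T] (f g : Csh ⊗[Ash] Bsh →+* T),
      f.comp a₁ = g.comp a₁ → f.comp a₂ = g.comp a₂ → f = g := by
    intro T _ f g h1 h2
    have key : ∀ t, f t = g t := by
      intro t
      induction t using TensorProduct.induction_on with
      | zero => simp
      | add x y hx hy => rw [map_add, map_add, hx, hy]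
      | tmul c b' =>
        have e1 : c ⊗ₜ[Ash] b' = a₂ c * a₁ b' := by
          rw [ha₁, ha₂, Algebra.TensorProduct.tmul_mul_tmul, mul_one, one_mul]
        have e2 := RingHom.congr_fun h1 b'
        have e3 := RingHom.congr_fun h2 c
        simp only [RingHom.comp_apply] at e2 e3
        rw [e1, map_mul, map_mul, e2, e3]
    exact RingHom.ext key
  haveI := isStrictHenselization_self (Csh ⊗[Ash] Bsh)
  obtain ⟨e, he⟩ := exists_equiv_of_strict_universal (Csh ⊗[Ash] Bsh) (Csh ⊗[Ash] Bsh) Dsh Θ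
    (isSepClosure_of_joint (Localization.AtPrime pD) Dsh (Csh ⊗[Ash] Bsh) Θ b hcb)
    (fun T _ _ f hf τ hτ => strict_universal_of_joint₂ (Localization.AtPrime pB) Bsh
      (Localization.AtPrime pC) Csh (Localization.AtPrime pD) Dsh (Csh ⊗[Ash] Bsh) Θ
      (Localization.localRingHom pB pD (algebraMap B (B ⊗[A] C)) Ideal.LiesOver.over)
      (Localization.localRingHom pC pD
        (Algebra.TensorProduct.includeRight : C →ₐ[A] B ⊗[A] C).toRingHom hDC.symm)
      a₁ a₂ b hab₁ hab₂ hepi hcb T f τ hτ)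
  have hfun : ⇑(thetaSwap Ash Bsh Csh Dsh) = ⇑e := by
    funext x
    have := he x
    rw [Algebra.algebraMap_self_apply, hΘ] at this
    exact this.symm
  rw [hfun]
  exact e.bijective


include pA pB hDC hC in
theorem bijective_theta [Algebra.IsIntegral Ash Bsh] :
    Function.Bijective (Algebra.TensorProduct.lift (IsScalarTower.toAlgHom Ash Bsh Dsh)
      (IsScalarTower.toAlgHom Ash Csh Dsh) (fun _ _ => Commute.all _ _)) := by
  have h : ∀ t : Bsh ⊗[Ash] Csh,
      Algebra.TensorProduct.lift (IsScalarTower.toAlgHom Ash Bsh Dsh)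
        (IsScalarTower.toAlgHom Ash Csh Dsh) (fun _ _ => Commute.all _ _) t =
      thetaSwap Ash Bsh Csh Dsh (Algebra.TensorProduct.comm Ash Bsh Csh t) := by
    intro t
    induction t using TensorProduct.induction_on with
    | zero => simp
    | add x y hx hy => rw [map_add, map_add, map_add, hx, hy]
    | tmul b c =>
      rw [Algebra.TensorProduct.comm_tmul, thetaSwap_tmul, Algebra.TensorProduct.lift_tmul,
        mul_comm]
      rfl
  have hfun : ⇑(Algebra.TensorProduct.lift (IsScalarTower.toAlgHom Ash Bsh Dsh)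
      (IsScalarTower.toAlgHom Ash Csh Dsh) (fun _ _ => Commute.all _ _)) =
      ⇑(thetaSwap Ash Bsh Csh Dsh) ∘ ⇑(Algebra.TensorProduct.comm Ash Bsh Csh) := funext h
  rw [hfun]
  exact (bijective_thetaSwap A B C pA pB pC pD hDC Ash Bsh Csh Dsh hC).comp
    (Algebra.TensorProduct.comm Ash Bsh Csh).bijective

end Main

end Groth.Agent.Lib.ShTensorH3
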