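import Mathlib
import Groth.Prelude.Def_Hensel
import Groth.Agent.Lib.ShTensor_helper3
import Groth.Agent.Lib.HenselFinite_helper3

/-!
# Integrality of `R^sh → S^sh` (helper3)

Reduction: `S^sh` is integral over `R^sh` as soon as the local rings of `R^sh ⊗_R S` at primes over
the closed point are integral over `R^sh`; and the case where `S` is integral over `R`.
-/

set_option autoImplicit false
set_option maxSynthPendingDepth 3
universe u

namespace Groth.Agent.Lib.ShIntegralH3

open Hensel IsLocalRing TensorProduct Groth.Agent.Lib.HensJointH3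

section Surj

/-- For an integral algebra over a henselian local ring, localizing at a prime over the closed
point is a quotient. -/
theorem surjective_algebraMap_localization (R : Type u) [CommRing R] [HenselianLocalRing R]
    (E : Type u) [CommRing E] [Algebra R E]
    [Algebra.IsIntegral R E] (Q : Ideal E) [Q.IsPrime] [Q.LiesOver (maximalIdeal R)] :
    Function.Surjective (algebraMap E (Localization.AtPrime Q)) := by
  intro x
  obtain ⟨d, ⟨s, hs⟩, rfl⟩ := IsLocalization.exists_mk'_eq Q.primeCompl x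
  have hsint : IsIntegral R s := Algebra.IsIntegral.isIntegral s
  haveI : Module.Finite R (Algebra.adjoin R {s}) := Algebra.finite_adjoin_simple_of_isIntegral hsint
  obtain ⟨n, ε, hε, huniq⟩ :=
    Groth.Agent.Lib.HenselFiniteH3.exists_idempotents R (Algebra.adjoin R {s})
  obtain ⟨s₀, hs₀⟩ : ∃ s₀ : Algebra.adjoin R {s}, (s₀ : E) = s :=
    ⟨⟨s, Algebra.subset_adjoin (Set.mem_singleton s)⟩, rfl⟩
  obtain ⟨n₀, hn₀⟩ : ∃ n₀ : Ideal (Algebra.adjoin R {s}),
    n₀ = Q.comap (Algebra.adjoin R {s}).val.toRingHom := ⟨_, rfl⟩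
  haveI hn₀p : n₀.IsPrime := hn₀ ▸ Ideal.comap_isPrime _ _
  have hn₀max : n₀.IsMaximal := by
    refine Ideal.isMaximal_of_isIntegral_of_isMaximal_comap (R := R) n₀ ?_
    have : n₀.comap (algebraMap R (Algebra.adjoin R {s})) = maximalIdeal R := by
      rw [hn₀, Ideal.comap_comap]
      have h1 : (Algebra.adjoin R {s}).val.toRingHom.comp (algebraMap R (Algebra.adjoin R {s})) =
          algebraMap R E := by
        ext r; rfl
      rw [h1]
      exact (Q.over_def (maximalIdeal R)).symm
    rw [this]
    exact maximalIdeal.isMaximal R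
  have hmem : ∀ y : Algebra.adjoin R {s}, y ∈ n₀ ↔ (y : E) ∈ Q := by
    intro y; rw [hn₀]; rfl
  -- pick the idempotent
  obtain ⟨i, hi⟩ : ∃ i, ε i ∉ n₀ := by
    by_contra hcon
    push_neg at hcon
    have : (1 : Algebra.adjoin R {s}) ∈ n₀ := by
      rw [← hε.complete]
      exact n₀.sum_mem (fun i _ => hcon i)
    exact hn₀p.ne_top ((Ideal.eq_top_iff_one _).mpr this)
  have hidem : IsIdempotentElem (ε i) := hε.idem i
  have h1ε : 1 - ε i ∈ n₀ := by
    have : ε i * (1 - ε i) ∈ n₀ := by
      rw [mul_sub, mul_one, hidem.eq, sub_self]; exact n₀.zero_mem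
    exact (hn₀p.mem_or_mem this).resolve_left hi
  have hs₀n : s₀ ∉ n₀ := by rw [hmem, hs₀]; exact hs
  -- the unit
  have hu : IsUnit (s₀ * ε i + (1 - ε i)) := by
    by_contra hnu
    obtain ⟨N, hN, huN⟩ := exists_max_ideal_of_mem_nonunits (mem_nonunits_iff.mpr hnu)
    by_cases hεN : ε i ∈ N
    · have : (1 : Algebra.adjoin R {s}) ∈ N := by
        have h2 : s₀ * ε i ∈ N := N.mul_mem_left _ hεN
        have h3 := N.sub_mem huN h2
        rw [add_sub_cancel_left] at h3
        have := N.add_mem h3 hεN
        rwa [sub_add_cancel] at this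
      exact hN.ne_top ((Ideal.eq_top_iff_one _).mpr this)
    · have hNeq : N = n₀ := huniq i N n₀ hN hn₀max hεN hi
      rw [hNeq] at huN
      have h3 := n₀.sub_mem huN h1ε
      rw [add_sub_cancel_right] at h3
      exact (hn₀p.mem_or_mem h3).elim hs₀n hi
  obtain ⟨v, hv⟩ := hu.exists_left_inv
  -- images in the localization
  have himε : algebraMap E (Localization.AtPrime Q) ((ε i : Algebra.adjoin R {s}) : E) = 1 := by
    have hunit : IsUnit (algebraMap E (Localization.AtPrime Q) ((ε i : Algebra.adjoin R {s}) : E)) :=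
      IsLocalization.map_units (Localization.AtPrime Q)
        (⟨_, fun h => hi ((hmem _).mpr h)⟩ : Q.primeCompl)
    have h0 : algebraMap E (Localization.AtPrime Q) ((ε i : Algebra.adjoin R {s}) : E) *
        (1 - algebraMap E (Localization.AtPrime Q) ((ε i : Algebra.adjoin R {s}) : E)) = 0 := by
      rw [← map_one (algebraMap E (Localization.AtPrime Q)), ← map_sub, ← map_mul]
      have : ((ε i : Algebra.adjoin R {s}) : E) * (1 - ((ε i : Algebra.adjoin R {s}) : E)) = 0 := by
        have := congrArg (Subtype.val) hidem.eq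
        simp only [MulMemClass.coe_mul] at this
        rw [mul_sub, mul_one, this, sub_self]
      rw [this, map_zero]
    have := hunit.mul_right_eq_zero.mp h0
    rw [sub_eq_zero] at this
    exact this.symm
  refine ⟨d * (v : E), ?_⟩
  rw [IsLocalization.eq_mk'_iff_mul_eq, ← map_mul]
  have h4 : ((v * (s₀ * ε i + (1 - ε i)) : Algebra.adjoin R {s}) : E) = 1 := by rw [hv]; rfl
  have h5 : algebraMap E (Localization.AtPrime Q) ((v : E) * s) = 1 := by
    have h6 := congrArg (algebraMap E (Localization.AtPrime Q)) h4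
    simp only [MulMemClass.coe_mul, AddMemClass.coe_add, AddSubgroupClass.coe_sub,
      OneMemClass.coe_one, map_mul, map_add, map_sub, map_one, himε, hs₀] at h6
    rw [map_mul]
    simpa using h6
  show algebraMap E (Localization.AtPrime Q) (d * (v : E) * s) = _
  rw [mul_assoc, map_mul, h5, mul_one]

theorem isIntegral_localization (R : Type u) [CommRing R] [HenselianLocalRing R]
    (E : Type u) [CommRing E] [Algebra R E]
    [Algebra.IsIntegral R E] (Q : Ideal E) [Q.IsPrime] [Q.LiesOver (maximalIdeal R)] :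
    Algebra.IsIntegral R (Localization.AtPrime Q) :=
  Algebra.IsIntegral.of_surjective (IsScalarTower.toAlgHom R E (Localization.AtPrime Q))
    (surjective_algebraMap_localization R E Q)

end Surj


section Tensor

variable (R S : Type u) [CommRing R] [CommRing S] [Algebra R S]
  (p : Ideal R) [p.IsPrime] (q : Ideal S) [q.IsPrime] [q.LiesOver p]
  (Rh : Type u) [CommRing Rh] [IsLocalRing Rh] [Algebra (Localization.AtPrime p) Rh]
  [Algebra R Rh] [IsScalarTower R (Localization.AtPrime p) Rh]
  [IsLocalHom (algebraMap (Localization.AtPrime p) Rh)]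
  [IsStrictHenselization (Localization.AtPrime p) Rh]
  (Sh : Type u) [CommRing Sh] [IsLocalRing Sh] [Algebra (Localization.AtPrime q) Sh]
  [Algebra S Sh] [IsScalarTower S (Localization.AtPrime q) Sh]
  [IsLocalHom (algebraMap (Localization.AtPrime q) Sh)]
  [Algebra R Sh] [IsScalarTower R S Sh] [Algebra Rh Sh] [IsScalarTower R Rh Sh]

include p q in
/-- `S^sh` is integral over `R^sh` as soon as the local rings of `R^sh ⊗_R S` at primes over the
closed point (and over `q`) are integral over `R^sh`. -/
theorem isIntegral_tensor_strict [IsStrictHenselization (Localization.AtPrime q) Sh]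
    (hint : ∀ (Q' : Ideal (Rh ⊗[R] S)) [Q'.IsPrime], Q'.LiesOver (maximalIdeal Rh) →
      q = Q'.comap Algebra.TensorProduct.includeRight.toRingHom →
      Algebra.IsIntegral Rh (Localization.AtPrime Q')) : Algebra.IsIntegral Rh Sh := by
  haveI hloc : IsLocalHom (algebraMap Rh Sh) :=
    isLocalHom_algebraMap_of_tower_strict R S p q Rh Sh
  haveI : HenselianLocalRing Rh := IsStrictHenselization.henselian (Localization.AtPrime p)
  obtain ⟨Φ, hΦ⟩ : ∃ Φ : Rh ⊗[R] S →ₐ[Rh] Sh, Φ = Algebra.TensorProduct.lift (Algebra.ofId Rh Sh)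
    (IsScalarTower.toAlgHom R S Sh) (fun _ _ => Commute.all _ _) := ⟨_, rfl⟩
  have hΦ1 : ∀ x : Rh, Φ.toRingHom (x ⊗ₜ 1) = algebraMap Rh Sh x := by
    intro s
    rw [hΦ]
    simp [Algebra.ofId_apply]
  have hΦ2 : ∀ s : S, Φ.toRingHom (1 ⊗ₜ s) = algebraMap S Sh s := by
    intro s
    rw [hΦ]
    simp
  obtain ⟨Q', hQ'⟩ : ∃ Q' : Ideal (Rh ⊗[R] S),
    Q' = Ideal.comap Φ.toRingHom (maximalIdeal Sh) := ⟨_, rfl⟩
  haveI : Q'.IsPrime := hQ' ▸ Ideal.comap_isPrime _ _
  haveI hover : Q'.LiesOver (maximalIdeal Rh) := by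
    refine ⟨?_⟩
    rw [hQ', Ideal.under_def, Ideal.comap_comap]
    have : Φ.toRingHom.comp (algebraMap Rh (Rh ⊗[R] S)) = algebraMap Rh Sh := Φ.comp_algebraMap
    rw [this]
    exact (comap_maximalIdeal_of_isLocalHom (algebraMap Rh Sh)).symm
  have hq : q = Q'.comap Algebra.TensorProduct.includeRight.toRingHom := by
    ext s
    rw [Ideal.mem_comap, hQ', Ideal.mem_comap]
    show s ∈ q ↔ Φ.toRingHom (1 ⊗ₜ s) ∈ _
    rw [hΦ2, IsScalarTower.algebraMap_apply S (Localization.AtPrime q) Sh]
    rw [← Ideal.mem_comap,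
      comap_maximalIdeal_of_isLocalHom (algebraMap (Localization.AtPrime q) Sh), ← Ideal.mem_comap,
      ← Ideal.under_def, Localization.AtPrime.under_maximalIdeal]
  haveI hintL : Algebra.IsIntegral Rh (Localization.AtPrime Q') := hint Q' hover hq
  haveI : IsSepClosed (ResidueField Rh) :=
    (IsStrictHenselization.isSepClosure (R := Localization.AtPrime p) (S := Rh)).sep_closed
  obtain ⟨h1, h2⟩ := Groth.Agent.Lib.ShTensorH3.strictlyHenselian_of_isIntegral Rh
    (Localization.AtPrime Q')
  haveI := h1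
  haveI := h2
  haveI := isStrictHenselization_self (Localization.AtPrime Q')
  obtain ⟨e, he⟩ := exists_equiv_tensor_strict R S p q Rh Sh Φ.toRingHom Q' hΦ1 hΦ2 hQ'
    (Localization.AtPrime Q')
  refine ⟨fun x => ?_⟩
  obtain ⟨l, rfl⟩ := e.surjective x
  refine (Algebra.IsIntegral.isIntegral (R := Rh) l).map_of_comp_eq (RingHom.id Rh)
    (e : Localization.AtPrime Q' →+* Sh) ?_
  ext x
  show algebraMap Rh Sh x = e (algebraMap Rh (Localization.AtPrime Q') x)
  rw [IsScalarTower.algebraMap_apply Rh (Rh ⊗[R] S) (Localization.AtPrime Q')]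
  have := he (algebraMap Rh (Rh ⊗[R] S) x)
  rw [Algebra.algebraMap_self_apply] at this
  rw [this]
  exact (Φ.commutes x).symm

include p q in
/-- If `S` is integral over `R` then `S^sh` is integral over `R^sh`. -/
theorem isIntegral_of_isIntegral [IsStrictHenselization (Localization.AtPrime q) Sh]
    [Algebra.IsIntegral R S] : Algebra.IsIntegral Rh Sh := by
  haveI : HenselianLocalRing Rh := IsStrictHenselization.henselian (Localization.AtPrime p)
  refine isIntegral_tensor_strict R S p q Rh Sh (fun Q' _ hover _ => ?_)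
  haveI := hover
  exact isIntegral_localization Rh (Rh ⊗[R] S) Q'

end Tensor

end Groth.Agent.Lib.ShIntegralH3
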