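import Mathlib
import Groth.Prelude.Def_Hensel
import Groth.Agent.Lib.ShIntegral_helper3

/-!
# Integrality of `R^sh → S^sh` for ind-quasi-finite `R → S` (helper3)
-/

set_option autoImplicit false
set_option maxSynthPendingDepth 3
universe u

namespace Groth.Agent.Lib.ShIntegralH3

open Hensel IsLocalRing TensorProduct Groth.Agent.Lib.HensJointH3

/-- An element of a local algebra `L` over a henselian local ring which is a fraction of elements
coming from a quasi-finite algebra of finite type is integral. -/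
theorem isIntegral_of_quasiFinite (Rh : Type u) [CommRing Rh] [HenselianLocalRing Rh]
    (L : Type u) [CommRing L] [IsLocalRing L] [Algebra Rh L] [IsLocalHom (algebraMap Rh L)]
    (E₀ : Type u) [CommRing E₀] [Algebra Rh E₀] [Algebra.FiniteType Rh E₀]
    [Algebra.QuasiFinite Rh E₀]
    (j₀ : E₀ →ₐ[Rh] L) (d₀ s₀ : E₀) (hs : IsUnit (j₀ s₀)) (x : L) (hx : x * j₀ s₀ = j₀ d₀) :
    IsIntegral Rh x := by
  obtain ⟨Q₀, hQ₀⟩ : ∃ Q₀ : Ideal E₀, Q₀ = (maximalIdeal L).comap j₀.toRingHom := ⟨_, rfl⟩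
  haveI : Q₀.IsPrime := hQ₀ ▸ Ideal.comap_isPrime _ _
  haveI : Q₀.LiesOver (maximalIdeal Rh) := by
    refine ⟨?_⟩
    rw [hQ₀, Ideal.under_def, Ideal.comap_comap]
    have : j₀.toRingHom.comp (algebraMap Rh E₀) = algebraMap Rh L := j₀.comp_algebraMap
    rw [this]
    exact (comap_maximalIdeal_of_isLocalHom (algebraMap Rh L)).symm
  haveI : Module.Finite Rh (Localization.AtPrime Q₀) :=
    Groth.Agent.Lib.HenselFiniteH3.finite_localization Rh E₀ Q₀
  have hmem : ∀ y : E₀, y ∈ Q₀ ↔ ¬ IsUnit (j₀ y) := by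
    intro y
    rw [hQ₀, Ideal.mem_comap, mem_maximalIdeal, mem_nonunits_iff]
    rfl
  have hunits : ∀ y : Q₀.primeCompl, IsUnit (j₀ y) := by
    intro y
    have := y.2
    change (y : E₀) ∉ Q₀ at this
    rwa [hmem, not_not] at this
  obtain ⟨ĵ, hĵ⟩ : ∃ ĵ : Localization.AtPrime Q₀ →ₐ[Rh] L, ∀ y, ĵ (algebraMap E₀ _ y) = j₀ y :=
    ⟨IsLocalization.liftAlgHom (M := Q₀.primeCompl) (f := j₀) hunits, fun y => by
      rw [IsLocalization.liftAlgHom_apply, IsLocalization.lift_eq]; rfl⟩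
  have hs₀ : s₀ ∈ Q₀.primeCompl := by
    show s₀ ∉ Q₀
    rw [hmem, not_not]
    exact hs
  have hxeq : x = ĵ (IsLocalization.mk' (Localization.AtPrime Q₀) d₀ ⟨s₀, hs₀⟩) := by
    have h1 : ĵ (IsLocalization.mk' (Localization.AtPrime Q₀) d₀ ⟨s₀, hs₀⟩) * j₀ s₀ = j₀ d₀ := by
      rw [← hĵ s₀, ← map_mul]
      have := IsLocalization.mk'_spec (Localization.AtPrime Q₀) d₀ ⟨s₀, hs₀⟩
      rw [this, hĵ]
    exact hs.mul_left_injective (hx.trans h1.symm)
  rw [hxeq]
  exact (Algebra.IsIntegral.isIntegral (R := Rh) _).map ĵ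


theorem exists_finset_range (R S Rh : Type u) [CommRing R] [CommRing S] [Algebra R S] [CommRing Rh]
    [Algebra R Rh] (t : Rh ⊗[R] S) :
    ∃ F : Finset S, ∀ B₀ : Subalgebra R S, (↑F : Set S) ⊆ ↑B₀ →
      t ∈ (Algebra.TensorProduct.map (AlgHom.id Rh Rh) B₀.val).range := by
  classical
  induction t using TensorProduct.induction_on with
  | zero => exact ⟨∅, fun B₀ _ => zero_mem _⟩
  | tmul r s =>
    refine ⟨{s}, fun B₀ h => ⟨r ⊗ₜ ⟨s, h (by simp)⟩, ?_⟩⟩
    show Algebra.TensorProduct.map (AlgHom.id Rh Rh) B₀.val (r ⊗ₜ ⟨s, h (by simp)⟩) = _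
    rw [Algebra.TensorProduct.map_tmul]
    rfl
  | add x y hx hy =>
    obtain ⟨F₁, h₁⟩ := hx
    obtain ⟨F₂, h₂⟩ := hy
    refine ⟨F₁ ∪ F₂, fun B₀ h => add_mem (h₁ B₀ ?_) (h₂ B₀ ?_)⟩
    · exact fun z hz => h (by simp only [Finset.coe_union, Set.mem_union]; exact Or.inl hz)
    · exact fun z hz => h (by simp only [Finset.coe_union, Set.mem_union]; exact Or.inr hz)

theorem isLocalHom_algebraMap_localization (Rh E : Type u) [CommRing Rh] [IsLocalRing Rh]
    [CommRing E] [Algebra Rh E] (Q' : Ideal E) [Q'.IsPrime] [hover : Q'.LiesOver (maximalIdeal Rh)] :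
    IsLocalHom (algebraMap Rh (Localization.AtPrime Q')) := by
  refine ((local_hom_TFAE (algebraMap Rh (Localization.AtPrime Q'))).out 0 4).mpr ?_
  rw [IsScalarTower.algebraMap_eq Rh E (Localization.AtPrime Q'), ← Ideal.comap_comap,
    ← Ideal.under_def (A := E), Localization.AtPrime.under_maximalIdeal]
  exact (Q'.over_def (maximalIdeal Rh)).symm

section Tensor

variable (R S : Type u) [CommRing R] [CommRing S] [Algebra R S]
  (p : Ideal R) [p.IsPrime] (q : Ideal S) [q.IsPrime] [q.LiesOver p]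
  (Rh : Type u) [CommRing Rh] [IsLocalRing Rh] [Algebra (Localization.AtPrime p) Rh]
  [Algebra R Rh] [IsScalarTower R (Localization.AtPrime p) Rh]
  [IsLocalHom (algebraMap (Localization.AtPrime p) Rh)]
  [IsStrictHenselization (Localization.AtPrime p) Rh]
  (Sh : Type u) [CommRing Sh] [IsLocalRing Sh] [Algebra (Localization.AtPrime q) Sh]
  [Algebra S Sh] [IsScalarTower S (Localization.AtPrime q) Sh]
  [IsLocalHom (algebraMap (Localization.AtPrime q) Sh)]
  [Algebra R Sh] [IsScalarTower R S Sh] [Algebra Rh Sh] [IsScalarTower R Rh Sh]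

include p q in
/-- If `S` is a directed union of quasi-finite `R`-subalgebras of finite type, then `S^sh` is
integral over `R^sh`. -/
theorem isIntegral_of_indQuasiFinite [IsStrictHenselization (Localization.AtPrime q) Sh]
    (hB : ∀ s : Finset S, ∃ B₀ : Subalgebra R S, (↑s : Set S) ⊆ ↑B₀ ∧
      Algebra.FiniteType R ↥B₀ ∧ Algebra.QuasiFinite R ↥B₀) : Algebra.IsIntegral Rh Sh := by
  haveI : HenselianLocalRing Rh := IsStrictHenselization.henselian (Localization.AtPrime p)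
  refine isIntegral_tensor_strict R S p q Rh Sh (fun Q' _ hover _ => ⟨fun x => ?_⟩)
  haveI := hover
  haveI := isLocalHom_algebraMap_localization Rh (Rh ⊗[R] S) Q'
  obtain ⟨d, s, rfl⟩ := IsLocalization.exists_mk'_eq Q'.primeCompl x
  obtain ⟨F₁, hF₁⟩ := exists_finset_range R S Rh d
  obtain ⟨F₂, hF₂⟩ := exists_finset_range R S Rh (s : Rh ⊗[R] S)
  classical
  obtain ⟨B₀, hsub, hft, hqf⟩ := hB (F₁ ∪ F₂)
  obtain ⟨d₀, hd₀⟩ := hF₁ B₀ (fun z hz => hsub (by
    simp only [Finset.coe_union, Set.mem_union]; exact Or.inl hz))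
  obtain ⟨s₀, hs₀⟩ := hF₂ B₀ (fun z hz => hsub (by
    simp only [Finset.coe_union, Set.mem_union]; exact Or.inr hz))
  haveI := hft
  haveI := hqf
  refine isIntegral_of_quasiFinite Rh (Localization.AtPrime Q') (Rh ⊗[R] B₀)
    ((IsScalarTower.toAlgHom Rh (Rh ⊗[R] S) (Localization.AtPrime Q')).comp
      (Algebra.TensorProduct.map (AlgHom.id Rh Rh) B₀.val)) d₀ s₀ ?_ _ ?_
  · show IsUnit (algebraMap (Rh ⊗[R] S) (Localization.AtPrime Q')
      (Algebra.TensorProduct.map (AlgHom.id Rh Rh) B₀.val s₀))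
    have : Algebra.TensorProduct.map (AlgHom.id Rh Rh) B₀.val s₀ = (s : Rh ⊗[R] S) := hs₀
    rw [this]
    exact IsLocalization.map_units _ s
  · show _ * algebraMap (Rh ⊗[R] S) (Localization.AtPrime Q')
      (Algebra.TensorProduct.map (AlgHom.id Rh Rh) B₀.val s₀) =
      algebraMap (Rh ⊗[R] S) (Localization.AtPrime Q')
      (Algebra.TensorProduct.map (AlgHom.id Rh Rh) B₀.val d₀)
    have h1 : Algebra.TensorProduct.map (AlgHom.id Rh Rh) B₀.val s₀ = (s : Rh ⊗[R] S) := hs₀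
    have h2 : Algebra.TensorProduct.map (AlgHom.id Rh Rh) B₀.val d₀ = d := hd₀
    rw [h1, h2, IsLocalization.mk'_spec]

end Tensor

end Groth.Agent.Lib.ShIntegralH3
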