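import Mathlib
import Groth.Agent.Lib.ShIndQF_helper3
import Groth.Agent.S3866

/-!
# Finite algebras over complete Noetherian local rings (helper3)
-/

set_option autoImplicit false
set_option maxSynthPendingDepth 3
universe u

namespace Groth.Agent.Lib.CompleteFiniteH3

open IsLocalRing

/-- A complete local ring is henselian. -/
theorem henselianLocalRing_of_isAdicComplete (R : Type u) [CommRing R] [IsLocalRing R]
    [IsAdicComplete (maximalIdeal R) R] : HenselianLocalRing R where
  is_henselian := by
    intro f hf a₀ h₁ h₂
    exact HenselianRing.is_henselian (I := maximalIdeal R) f hf a₀ h₁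
      (h₂.map (Ideal.Quotient.mk (maximalIdeal R)))

/-- Transfer of adic completeness between ideals defining the same topology. -/
theorem isAdicComplete_of_pow_le {A : Type u} [CommRing A] (I J : Ideal A) (n : ℕ)
    (h1 : I ≤ J) (h2 : J ^ n ≤ I) [IsAdicComplete I A] : IsAdicComplete J A := by
  have h2' : J ^ (n + 1) ≤ I := (Ideal.pow_le_pow_right (Nat.le_succ n)).trans h2
  have hIJ : ∀ k, (I ^ k • ⊤ : Submodule A A) ≤ J ^ k • ⊤ := fun k =>
    Submodule.smul_mono_left (Ideal.pow_right_mono h1 k)
  have hJI : ∀ k, (J ^ ((n + 1) * k) • ⊤ : Submodule A A) ≤ I ^ k • ⊤ := fun k => by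
    rw [pow_mul]
    exact Submodule.smul_mono_left (Ideal.pow_right_mono h2' k)
  have hanti : ∀ {k l : ℕ}, k ≤ l → (J ^ l • ⊤ : Submodule A A) ≤ J ^ k • ⊤ := fun h =>
    Submodule.smul_mono_left (Ideal.pow_le_pow_right h)
  have hkle : ∀ k, k ≤ (n + 1) * k := fun k => Nat.le_mul_of_pos_left k (Nat.succ_pos n)
  refine { haus' := ?_, prec' := ?_ }
  · intro x hx
    refine IsHausdorff.haus (inferInstance : IsHausdorff I A) x (fun k => ?_)
    exact SModEq.mono (hJI k) (hx _)
  · intro f hf
    obtain ⟨L, hL⟩ := IsPrecomplete.prec (inferInstance : IsPrecomplete I A)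
      (f := fun k => f ((n + 1) * k)) (by
        intro k l hkl
        exact SModEq.mono (hJI k) (hf (Nat.mul_le_mul_left _ hkl)))
    refine ⟨L, fun k => ?_⟩
    exact (hf (hkle k)).trans (SModEq.mono (hIJ k) (hL k))


section Main

theorem liesOver_of_isMaximal (R : Type u) [CommRing R] [IsLocalRing R]
    (S : Type u) [CommRing S] [Algebra R S] [Module.Finite R S] (m : Ideal S) [m.IsMaximal] :
    m.LiesOver (maximalIdeal R) := by
  haveI : Algebra.IsIntegral R S := Algebra.IsIntegral.of_finite R S
  refine ⟨?_⟩
  rw [Ideal.under_def]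
  exact (IsLocalRing.eq_maximalIdeal (Ideal.isMaximal_comap_of_isIntegral_of_isMaximal m)).symm

theorem finite_maximalSpectrum (R : Type u) [CommRing R] [IsLocalRing R]
    (S : Type u) [CommRing S] [Algebra R S] [Module.Finite R S] : Finite (MaximalSpectrum S) := by
  haveI : Finite ((maximalIdeal R).primesOver S) :=
    (Algebra.QuasiFinite.finite_primesOver (R := R) (S := S) (maximalIdeal R)).to_subtype
  let φ : MaximalSpectrum S → (maximalIdeal R).primesOver S := fun m =>
    ⟨m.asIdeal, ⟨m.isMaximal.isPrime, liesOver_of_isMaximal R S m.asIdeal⟩⟩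
  refine Finite.of_injective φ ?_
  intro m₁ m₂ h
  have : (φ m₁ : Ideal S) = (φ m₂ : Ideal S) := congrArg Subtype.val h
  exact MaximalSpectrum.ext this

theorem surjective_toLocalization (R : Type u) [CommRing R] [HenselianLocalRing R]
    (S : Type u) [CommRing S] [Algebra R S] [Module.Finite R S] (m : MaximalSpectrum S) :
    Function.Surjective (algebraMap S (Localization.AtPrime m.asIdeal)) := by
  haveI : Algebra.IsIntegral R S := Algebra.IsIntegral.of_finite R S
  haveI := liesOver_of_isMaximal R S m.asIdeal
  exact Groth.Agent.Lib.ShIntegralH3.surjective_algebraMap_localization R S m.asIdeal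

theorem finite_localization (R : Type u) [CommRing R] [HenselianLocalRing R]
    (S : Type u) [CommRing S] [Algebra R S] [Module.Finite R S] (m : MaximalSpectrum S) :
    Module.Finite R (Localization.AtPrime m.asIdeal) :=
  Module.Finite.of_surjective
    (IsScalarTower.toAlgHom R S (Localization.AtPrime m.asIdeal)).toLinearMap
    (surjective_toLocalization R S m)

theorem isAdicComplete_localization (R : Type u) [CommRing R] [IsLocalRing R]
    [IsNoetherianRing R] [IsAdicComplete (maximalIdeal R) R]
    (S : Type u) [CommRing S] [Algebra R S] [Module.Finite R S]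
    (m : MaximalSpectrum S) :
    IsNoetherianRing (Localization.AtPrime m.asIdeal) ∧
    IsAdicComplete (maximalIdeal (Localization.AtPrime m.asIdeal))
      (Localization.AtPrime m.asIdeal) := by
  haveI := henselianLocalRing_of_isAdicComplete R
  haveI := finite_localization R S m
  haveI := liesOver_of_isMaximal R S m.asIdeal
  haveI hloc := Groth.Agent.Lib.ShIntegralH3.isLocalHom_algebraMap_localization R S m.asIdeal
  haveI hN : IsNoetherianRing (Localization.AtPrime m.asIdeal) :=
    IsNoetherianRing.of_finite R _
  refine ⟨hN, ?_⟩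
  haveI hc : IsAdicComplete (maximalIdeal R) (Localization.AtPrime m.asIdeal) :=
    Groth.Agent.S3866.result R (maximalIdeal R) _
  haveI hc' : IsAdicComplete ((maximalIdeal R).map (algebraMap R (Localization.AtPrime m.asIdeal)))
      (Localization.AtPrime m.asIdeal) := (IsAdicComplete.map_algebraMap_iff (I := maximalIdeal R)
        (S := Localization.AtPrime m.asIdeal) (M := Localization.AtPrime m.asIdeal)).mpr hc
  have hle : (maximalIdeal R).map (algebraMap R (Localization.AtPrime m.asIdeal)) ≤
      maximalIdeal (Localization.AtPrime m.asIdeal) :=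
    ((local_hom_TFAE (algebraMap R (Localization.AtPrime m.asIdeal))).out 0 2).mp hloc
  haveI : Algebra.IsIntegral R (Localization.AtPrime m.asIdeal) := Algebra.IsIntegral.of_finite R _
  have hrad : maximalIdeal (Localization.AtPrime m.asIdeal) ≤
      ((maximalIdeal R).map (algebraMap R (Localization.AtPrime m.asIdeal))).radical := by
    rw [Ideal.radical_eq_sInf]
    refine le_sInf ?_
    rintro P ⟨hIP, hP⟩
    haveI := hP
    have h1 : maximalIdeal R ≤ P.comap (algebraMap R (Localization.AtPrime m.asIdeal)) :=
      Ideal.map_le_iff_le_comap.mp hIP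
    have h2 : P.comap (algebraMap R (Localization.AtPrime m.asIdeal)) = maximalIdeal R :=
      ((maximalIdeal.isMaximal R).eq_of_le (Ideal.comap_ne_top _ hP.ne_top) h1).symm
    have h3 : P.IsMaximal := Ideal.isMaximal_of_isIntegral_of_isMaximal_comap (R := R) P (by
      rw [h2]; exact maximalIdeal.isMaximal R)
    exact (IsLocalRing.eq_maximalIdeal h3).ge
  obtain ⟨n, hn⟩ := Ideal.exists_radical_pow_le_of_fg
    ((maximalIdeal R).map (algebraMap R (Localization.AtPrime m.asIdeal)))
    (IsNoetherian.noetherian _)
  exact isAdicComplete_of_pow_le _ _ n hle ((Ideal.pow_right_mono hrad n).trans hn)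

theorem surjective_toPi (R : Type u) [CommRing R] [HenselianLocalRing R]
    (S : Type u) [CommRing S] [Algebra R S] [Module.Finite R S] :
    Function.Surjective
      (algebraMap S ((m : MaximalSpectrum S) → Localization.AtPrime m.asIdeal)) := by
  classical
  haveI := finite_maximalSpectrum R S
  haveI := Fintype.ofFinite (MaximalSpectrum S)
  obtain ⟨n, ε, hε, huniq⟩ := Groth.Agent.Lib.HenselFiniteH3.exists_idempotents R S
  have hidx : ∀ m : MaximalSpectrum S, ∃ i, ε i ∉ m.asIdeal := by
    intro m
    by_contra hcon
    push_neg at hcon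
    have : (1 : S) ∈ m.asIdeal := by
      rw [← hε.complete]
      exact m.asIdeal.sum_mem (fun i _ => hcon i)
    exact m.isMaximal.ne_top ((Ideal.eq_top_iff_one _).mpr this)
  choose idx hidx using hidx
  have himg1 : ∀ (m : MaximalSpectrum S) (e : S), IsIdempotentElem e → e ∉ m.asIdeal →
      algebraMap S (Localization.AtPrime m.asIdeal) e = 1 := by
    intro m e he hem
    have hunit : IsUnit (algebraMap S (Localization.AtPrime m.asIdeal) e) :=
      IsLocalization.map_units (Localization.AtPrime m.asIdeal)
        (⟨e, hem⟩ : m.asIdeal.primeCompl)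
    have h2 : algebraMap S (Localization.AtPrime m.asIdeal) e *
        algebraMap S (Localization.AtPrime m.asIdeal) e =
        algebraMap S (Localization.AtPrime m.asIdeal) e * 1 := by
      rw [← map_mul, he.eq, mul_one]
    exact hunit.mul_left_cancel h2
  have himg0 : ∀ (m : MaximalSpectrum S) (e : S), IsIdempotentElem e → e ∈ m.asIdeal →
      algebraMap S (Localization.AtPrime m.asIdeal) e = 0 := by
    intro m e he hem
    have hmem : algebraMap S (Localization.AtPrime m.asIdeal) e ∈
        maximalIdeal (Localization.AtPrime m.asIdeal) :=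
      (IsLocalization.AtPrime.to_map_mem_maximal_iff _ m.asIdeal e).mpr hem
    have hunit : IsUnit (1 - algebraMap S (Localization.AtPrime m.asIdeal) e) :=
      IsLocalRing.isUnit_one_sub_self_of_mem_nonunits _ hmem
    have h2 : (1 - algebraMap S (Localization.AtPrime m.asIdeal) e) *
        algebraMap S (Localization.AtPrime m.asIdeal) e = 0 := by
      rw [sub_mul, one_mul, ← map_mul, he.eq, sub_self]
    exact (hunit.mul_right_eq_zero).mp h2
  intro x
  choose y hy using fun m => surjective_toLocalization R S m (x m)
  refine ⟨∑ m, ε (idx m) * y m, ?_⟩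
  funext m'
  rw [Pi.algebraMap_apply, map_sum, Finset.sum_eq_single m']
  · rw [map_mul, himg1 m' _ (hε.idem _) (hidx m'), one_mul, hy]
  · intro m _ hne
    rw [map_mul, himg0 m' (ε (idx m)) (hε.idem _) ?_, zero_mul]
    by_contra h
    exact hne (MaximalSpectrum.ext
      (huniq (idx m) m.asIdeal m'.asIdeal m.isMaximal m'.isMaximal (hidx m) h))
  · intro h
    exact absurd (Finset.mem_univ m') h

end Main

end Groth.Agent.Lib.CompleteFiniteH3
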