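import Mathlib
import Groth.Prelude.Def_Found

/-!
# Fields are N-2 (helper9)
-/

set_option autoImplicit false
universe u

namespace Groth.Agent.Lib.Japanese

open CAlg

/-- A field (given as a domain which is a field) is N-2. -/
theorem isN2_of_isField (k : Type u) [CommRing k] [IsDomain k] (hk : IsField k) : IsN2 k := by
  intro L _ _ _ _ hfin
  letI := hk.toField
  have e : k ≃ₐ[k] FractionRing k := IsLocalization.atUnits k (nonZeroDivisors k) (fun x hx => by
    have : x ≠ 0 := nonZeroDivisors.ne_zero hx
    exact IsUnit.mk0 x this)
  haveI : Module.Finite k (FractionRing k) := Module.Finite.equiv e.toLinearEquiv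
  haveI : Module.Finite k L := Module.Finite.trans (FractionRing k) L
  haveI : IsNoetherian k L := inferInstance
  exact Module.Finite.of_injective (integralClosure k L).val.toLinearMap Subtype.val_injective

end Groth.Agent.Lib.Japanese
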