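import Mathlib

/-!
# Every field extension of a perfect field is geometrically reduced (separable)
-/

set_option autoImplicit false
set_option maxSynthPendingDepth 3

namespace Groth.Agent.Lib.PerfectGRH3

open TensorProduct

universe u v

/-- Over a perfect field every field extension is geometrically reduced. -/
theorem isGeometricallyReduced_of_perfectField (k : Type u) (K : Type v) [Field k] [Field K]
    [Algebra k K] [PerfectField k] : Algebra.IsGeometricallyReduced k K := by
  rw [Algebra.isGeometricallyReduced_field_iff]
  have h1 : IsReduced (K ⊗[k] AlgebraicClosure k) := by
    apply IsReduced.tensorProduct_of_flat_of_forall_fg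
    intro B hB
    have hfield : IsField B := Subalgebra.isField_of_algebraic B
    letI := hfield.toField
    haveI : Algebra.IsAlgebraic k B := Algebra.IsAlgebraic.of_injective B.val Subtype.val_injective
    haveI : Algebra.IsSeparable k B := inferInstance
    haveI : Algebra.FormallyUnramified k B := Algebra.FormallyUnramified.of_isSeparable k B
    haveI : Algebra.FiniteType k B := (Subalgebra.fg_iff_finiteType B).1 hB
    exact Algebra.FormallyUnramified.isReduced_of_field K (K ⊗[k] B)
  exact isReduced_of_injective
    (Algebra.TensorProduct.comm k (AlgebraicClosure k) K).toAlgHom
    (Algebra.TensorProduct.comm k (AlgebraicClosure k) K).injective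

end Groth.Agent.Lib.PerfectGRH3
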