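import Groth.Agent.Lib.SepSmooth_helper3
import Groth.Agent.Lib.PerfectGR_helper3
import Groth.Agent.S0579

/-!
# Existence of coefficient fields in equal characteristic
-/

set_option autoImplicit false
set_option maxSynthPendingDepth 3

namespace Groth.Agent.Lib.CoeffFieldPH3

universe u

open IsLocalRing

/-- ring homs out of `ULift (ZMod p)` are unique -/
theorem ringHom_ulift_zmod_ext {p : ℕ} {S : Type*} [NonAssocSemiring S]
    (f g : ULift.{u} (ZMod p) →+* S) : f = g := by
  have h := RingHom.ext_zmod
    (f.comp (ULift.ringEquiv.symm : ZMod p ≃+* ULift.{u} (ZMod p)).toRingHom)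
    (g.comp (ULift.ringEquiv.symm : ZMod p ≃+* ULift.{u} (ZMod p)).toRingHom)
  ext ⟨a⟩
  exact RingHom.congr_fun h a

/-- A complete local ring of characteristic `p` has a coefficient field. -/
theorem exists_section_of_charP (p : ℕ) [hp : Fact p.Prime] (R : Type u) [CommRing R]
    [IsLocalRing R] [IsAdicComplete (maximalIdeal R) R] (hp0 : (p : R) = 0) :
    ∃ s : ResidueField R →+* R, (residue R).comp s = RingHom.id _ := by
  classical
  haveI : CharP R p := (CharP.charP_iff_prime_eq_zero hp.out).2 hp0
  haveI : CharP (ResidueField R) p := by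
    refine (CharP.charP_iff_prime_eq_zero hp.out).2 ?_
    rw [← map_natCast (residue R), hp0, map_zero]
  letI : Algebra (ULift.{u} (ZMod p)) R :=
    ((ZMod.castHom (dvd_refl p) R).comp
      (ULift.ringEquiv : ULift.{u} (ZMod p) ≃+* ZMod p).toRingHom).toAlgebra
  letI : Algebra (ULift.{u} (ZMod p)) (ResidueField R) :=
    ((ZMod.castHom (dvd_refl p) (ResidueField R)).comp
      (ULift.ringEquiv : ULift.{u} (ZMod p) ≃+* ZMod p).toRingHom).toAlgebra
  haveI : PerfectField (ULift.{u} (ZMod p)) := PerfectField.ofFinite
  haveI : Algebra.IsGeometricallyReduced (ULift.{u} (ZMod p)) (ResidueField R) :=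
    PerfectGRH3.isGeometricallyReduced_of_perfectField _ _
  haveI : Algebra.FormallySmooth (ULift.{u} (ZMod p)) (ResidueField R) :=
    SepSmoothH3.formallySmooth_of_isGeometricallyReduced _ _
  let g : ResidueField R →ₐ[ULift.{u} (ZMod p)] R ⧸ maximalIdeal R :=
    { (RingHom.id (R ⧸ maximalIdeal R) : ResidueField R →+* R ⧸ maximalIdeal R) with
      commutes' := fun a => by
        exact RingHom.congr_fun (ringHom_ulift_zmod_ext
          ((RingHom.id (R ⧸ maximalIdeal R) : ResidueField R →+* R ⧸ maximalIdeal R).comp
            (algebraMap (ULift.{u} (ZMod p)) (ResidueField R)))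
          (algebraMap (ULift.{u} (ZMod p)) (R ⧸ maximalIdeal R))) a }
  obtain ⟨v, hv⟩ := Algebra.FormallySmooth.exists_mkₐ_comp_eq_of_isAdicComplete g
  refine ⟨v.toRingHom, RingHom.ext fun x => ?_⟩
  exact AlgHom.congr_fun hv x

/-- A complete local ring containing a field has a coefficient field. -/
theorem exists_section_of_field (R : Type u) [CommRing R] [IsLocalRing R]
    [IsAdicComplete (maximalIdeal R) R] (k₀ : Type*) [Field k₀] (φ : k₀ →+* R) :
    ∃ s : ResidueField R →+* R, (residue R).comp s = RingHom.id _ := by
  obtain ⟨q, hq⟩ := CharP.exists k₀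
  rcases CharP.char_is_prime_or_zero k₀ q with hqp | rfl
  · haveI : Fact q.Prime := ⟨hqp⟩
    apply exists_section_of_charP q R
    rw [← map_natCast φ, CharP.cast_eq_zero, map_zero]
  · haveI : CharZero k₀ := CharP.charP_to_charZero k₀
    haveI : CharZero (ResidueField R) :=
      charZero_of_injective_ringHom ((residue R).comp φ).injective
    exact Groth.Agent.S0579.result R

/-- Same, from the vanishing of the residue characteristic in `R`. -/
theorem exists_section_of_natCast_eq_zero (R : Type u) [CommRing R] [IsLocalRing R]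
    [IsAdicComplete (maximalIdeal R) R] (p : ℕ) [CharP (ResidueField R) p] (hp0 : (p : R) = 0) :
    ∃ s : ResidueField R →+* R, (residue R).comp s = RingHom.id _ := by
  rcases CharP.char_is_prime_or_zero (ResidueField R) p with hpp | rfl
  · haveI : Fact p.Prime := ⟨hpp⟩
    exact exists_section_of_charP p R hp0
  · haveI : CharZero (ResidueField R) := CharP.charP_to_charZero _
    exact Groth.Agent.S0579.result R

end Groth.Agent.Lib.CoeffFieldPH3
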