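import Mathlib
import Groth.Agent.Lib.RegPS_helper3

/-!
# Finiteness / freeness of completed modules of differentials (helper3)

* `isAdicComplete_pi`: `Fin r → A` is `I`-adically complete if `A` is.
* `surjective_of_span_sup`: if `x i` generate `M` modulo `𝔫 M` and `B` is `𝔫`-precomplete then
  `B^n → M̂`, `e_i ↦ of (x i)` is surjective.
* `finite_adicCompletion`: `M/𝔫M` finite ⇒ `M̂` finite over (the `𝔫`-precomplete ring) `B`.
* `finite_kaehler_quotient`: `Ω_{B/A}/𝔫Ω_{B/A}` finite if `Ω_{(B/𝔫)/A}` and `𝔫/𝔫²` are.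
* `completedKaehlerEquiv`: `Ω̂_{k[[T_1..T_r]]/k} ≃ A^r`.
-/

set_option autoImplicit false

namespace Groth.Agent.Lib.ComplKaehlerH3

open TensorProduct KaehlerDifferential

section Pi
variable {A : Type*} [CommRing A]

lemma map_mem_smul_top {X : Type*} {Y : Type*} [AddCommGroup X] [Module A X]
    [AddCommGroup Y] [Module A Y]
    (J : Ideal A) (g : X →ₗ[A] Y) {x : X} (hx : x ∈ J • (⊤ : Submodule A X)) :
    g x ∈ J • (⊤ : Submodule A Y) := by
  have h : (J • (⊤ : Submodule A X)).map g ≤ J • (⊤ : Submodule A Y) := by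
    rw [Submodule.map_smul'']
    exact Submodule.smul_mono le_rfl le_top
  exact h (Submodule.mem_map_of_mem hx)

lemma mem_smul_top_pi_iff {r : ℕ} (J : Ideal A) (x : Fin r → A) :
    x ∈ J • (⊤ : Submodule A (Fin r → A)) ↔ ∀ j, x j ∈ J • (⊤ : Submodule A A) := by
  classical
  constructor
  · intro hx j
    exact map_mem_smul_top J (LinearMap.proj j : (Fin r → A) →ₗ[A] A) hx
  · intro hx
    have hsum : x = ∑ j, LinearMap.toSpanSingleton A (Fin r → A) (Pi.single j 1) (x j) := by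
      funext k
      simp [Finset.sum_apply, Pi.single_apply]
    rw [hsum]
    exact Submodule.sum_mem _ fun j _ => map_mem_smul_top J _ (hx j)

lemma isAdicComplete_pi {r : ℕ} (I : Ideal A) [IsAdicComplete I A] :
    IsAdicComplete I (Fin r → A) := by
  haveI : IsHausdorff I (Fin r → A) := by
    refine ⟨fun x hx => ?_⟩
    funext j
    show x j = 0
    refine IsHausdorff.haus' (I := I) (x j) fun n => ?_
    have h1 := hx n
    rw [SModEq.zero] at h1 ⊢
    exact (mem_smul_top_pi_iff _ x).1 h1 j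
  haveI : IsPrecomplete I (Fin r → A) := by
    refine ⟨fun f hf => ?_⟩
    have hj : ∀ j : Fin r, ∃ l : A, ∀ n, f n j ≡ l [SMOD (I ^ n • ⊤ : Submodule A A)] := by
      intro j
      refine IsPrecomplete.prec' (I := I) (fun n => f n j) ?_
      intro m n hmn
      have h1 := hf hmn
      rw [SModEq.sub_mem] at h1 ⊢
      have h2 := (mem_smul_top_pi_iff _ _).1 h1 j
      simpa only [Pi.sub_apply] using h2
    choose l hl using hj
    refine ⟨l, fun n => ?_⟩
    rw [SModEq.sub_mem]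
    refine (mem_smul_top_pi_iff _ _).2 fun j => ?_
    have h1 := hl j n
    rw [SModEq.sub_mem] at h1
    simpa only [Pi.sub_apply] using h1
  exact {}

lemma isPrecomplete_pi {r : ℕ} (I : Ideal A) [IsPrecomplete I A] :
    IsPrecomplete I (Fin r → A) := by
  refine ⟨fun f hf => ?_⟩
  have hj : ∀ j : Fin r, ∃ l : A, ∀ n, f n j ≡ l [SMOD (I ^ n • ⊤ : Submodule A A)] := by
    intro j
    refine IsPrecomplete.prec' (I := I) (fun n => f n j) ?_
    intro m n hmn
    have h1 := hf hmn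
    rw [SModEq.sub_mem] at h1 ⊢
    have h2 := (mem_smul_top_pi_iff _ _).1 h1 j
    simpa only [Pi.sub_apply] using h2
  choose l hl using hj
  refine ⟨l, fun n => ?_⟩
  rw [SModEq.sub_mem]
  refine (mem_smul_top_pi_iff _ _).2 fun j => ?_
  have h1 := hl j n
  rw [SModEq.sub_mem] at h1
  simpa only [Pi.sub_apply] using h1

end Pi

section General

variable {B : Type*} [CommRing B] (𝔫 : Ideal B) {M : Type*} [AddCommGroup M] [Module B M]

/-- If `x i` generate `M` modulo `𝔫 M`, then `B^n → M̂, e_i ↦ of (x i)` is surjective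
(for `B` precomplete). -/
theorem surjective_of_span_sup [IsPrecomplete 𝔫 B] {n : ℕ} (x : Fin n → M)
    (h : Submodule.span B (Set.range x) ⊔ 𝔫 • (⊤ : Submodule B M) = ⊤) :
    Function.Surjective ((AdicCompletion.of 𝔫 M) ∘ₗ (Fintype.linearCombination B x)) := by
  haveI := isPrecomplete_pi (r := n) 𝔫
  have h1 : Function.Surjective
      ((Submodule.mkQ (𝔫 • (⊤ : Submodule B M))) ∘ₗ (Fintype.linearCombination B x)) := by
    rw [← LinearMap.range_eq_top, LinearMap.range_comp, Fintype.range_linearCombination,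
      ← top_le_iff]
    rintro y -
    obtain ⟨y, rfl⟩ := Submodule.mkQ_surjective _ y
    have hy : y ∈ Submodule.span B (Set.range x) ⊔ 𝔫 • (⊤ : Submodule B M) := by
      rw [h]; trivial
    obtain ⟨a, ha, b, hb, rfl⟩ := Submodule.mem_sup.1 hy
    refine ⟨a, ha, ?_⟩
    rw [map_add, left_eq_add]
    exact (Submodule.Quotient.mk_eq_zero _).2 hb
  have h2 := AdicCompletion.map_surjective_of_mkQ_comp_surjective (I := 𝔫) h1
  intro y
  obtain ⟨z, rfl⟩ := h2 y
  obtain ⟨v, rfl⟩ := AdicCompletion.of_surjective 𝔫 (Fin n → B) z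
  exact ⟨v, by rw [LinearMap.comp_apply, AdicCompletion.map_of]⟩

/-- `M/𝔫M` finite ⇒ `M̂` finite over the `𝔫`-precomplete ring `B`. -/
theorem finite_adicCompletion [IsPrecomplete 𝔫 B]
    [Module.Finite B (M ⧸ (𝔫 • (⊤ : Submodule B M)))] :
    Module.Finite B (AdicCompletion 𝔫 M) := by
  obtain ⟨n, s, hs⟩ := Module.Finite.exists_fin (R := B) (M := M ⧸ (𝔫 • (⊤ : Submodule B M)))
  choose x hx using fun i => Submodule.mkQ_surjective (𝔫 • (⊤ : Submodule B M)) (s i)
  have h : Submodule.span B (Set.range x) ⊔ 𝔫 • (⊤ : Submodule B M) = ⊤ := by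
    rw [← top_le_iff]
    rintro y -
    have hy : Submodule.mkQ (𝔫 • (⊤ : Submodule B M)) y ∈ Submodule.span B (Set.range s) := by
      rw [hs]; trivial
    have hrange : Set.range s = (Submodule.mkQ (𝔫 • (⊤ : Submodule B M))) '' (Set.range x) := by
      ext z
      constructor
      · rintro ⟨i, rfl⟩
        exact ⟨x i, ⟨i, rfl⟩, hx i⟩
      · rintro ⟨_, ⟨i, rfl⟩, rfl⟩
        exact ⟨i, (hx i).symm⟩
    rw [hrange, ← Submodule.map_span] at hy
    obtain ⟨a, ha, hay⟩ := hy
    have hb : y - a ∈ 𝔫 • (⊤ : Submodule B M) := by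
      rw [← Submodule.Quotient.mk_eq_zero, Submodule.Quotient.mk_sub, sub_eq_zero]
      exact hay.symm
    rw [show y = a + (y - a) by abel]
    exact Submodule.add_mem_sup ha hb
  exact Module.Finite.of_surjective _ (surjective_of_span_sup 𝔫 x h)

lemma finite_of_exact {R : Type*} [CommRing R] {M N P : Type*} [AddCommGroup M] [AddCommGroup N]
    [AddCommGroup P] [Module R M] [Module R N] [Module R P] (f : M →ₗ[R] N) (g : N →ₗ[R] P)
    (h : Function.Exact f g) (hg : Function.Surjective g) [Module.Finite R M]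
    [Module.Finite R P] : Module.Finite R N := by
  haveI : Module.Finite R (LinearMap.ker g) := by
    rw [h.linearMap_ker_eq]; exact Module.Finite.range f
  haveI : Module.Finite R (N ⧸ LinearMap.ker g) :=
    Module.Finite.equiv (g.quotKerEquivOfSurjective hg).symm
  exact Module.Finite.of_submodule_quotient (LinearMap.ker g)

end General

section Kaehler

variable {A B : Type*} [CommRing A] [CommRing B] [Algebra A B] (𝔫 : Ideal B)

lemma finite_cotangent_of_eq (J : Ideal B) (hJ : J = 𝔫) [Module.Finite (B ⧸ 𝔫) 𝔫.Cotangent] :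
    Module.Finite B J.Cotangent := by
  subst hJ
  exact Module.Finite.trans (B ⧸ J) J.Cotangent

/-- `Ω_{B/A}/𝔫Ω_{B/A}` is finite if `Ω_{(B/𝔫)/A}` and `𝔫/𝔫²` are. -/
theorem finite_kaehler_quotient [Module.Finite (B ⧸ 𝔫) (Ω[B ⧸ 𝔫⁄A])]
    [Module.Finite (B ⧸ 𝔫) 𝔫.Cotangent] :
    Module.Finite B (Ω[B⁄A] ⧸ (𝔫 • (⊤ : Submodule B Ω[B⁄A]))) := by
  have hsurj : Function.Surjective (algebraMap B (B ⧸ 𝔫)) := Ideal.Quotient.mk_surjective
  haveI : Module.Finite B (RingHom.ker (algebraMap B (B ⧸ 𝔫))).Cotangent :=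
    finite_cotangent_of_eq 𝔫 _ (Ideal.mk_ker)
  haveI : Module.Finite B (Ω[B ⧸ 𝔫⁄A]) := Module.Finite.trans (B ⧸ 𝔫) _
  have hex := KaehlerDifferential.exact_kerCotangentToTensor_mapBaseChange A B (B ⧸ 𝔫) hsurj
  haveI : Module.Finite B ((B ⧸ 𝔫) ⊗[B] Ω[B⁄A]) :=
    finite_of_exact (kerCotangentToTensor A B (B ⧸ 𝔫))
      ((mapBaseChange A B (B ⧸ 𝔫)).restrictScalars B) hex
      (mapBaseChange_surjective A B (B ⧸ 𝔫) hsurj)
  exact Module.Finite.equiv (TensorProduct.quotTensorEquivQuotSMul (Ω[B⁄A]) 𝔫)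

/-- S4558-type statement. -/
theorem finite_completedKaehler [IsPrecomplete 𝔫 B] [Module.Finite (B ⧸ 𝔫) (Ω[B ⧸ 𝔫⁄A])]
    [Module.Finite (B ⧸ 𝔫) 𝔫.Cotangent] :
    Module.Finite B (AdicCompletion 𝔫 (Ω[B⁄A])) := by
  haveI := finite_kaehler_quotient (A := A) 𝔫
  exact finite_adicCompletion 𝔫

end Kaehler

end Groth.Agent.Lib.ComplKaehlerH3
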