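import Mathlib
import Groth.Agent.Lib.ComplKaehler_helper3

/-!
# Completed differentials of a power series ring over a field (helper3)

`completedKaehlerEquiv k r : (Fin r → A) ≃ₗ[A] AdicCompletion 𝔪 Ω[A⁄k]` for `A = k[[T_1..T_r]]`.
-/

set_option autoImplicit false

namespace Groth.Agent.Lib.ComplKaehlerH3

open TensorProduct KaehlerDifferential IsLocalRing

section PowSer

variable (k : Type*) [Field k] (r : ℕ)

local notation "PS" => MvPowerSeries (Fin r) k

lemma maximalIdeal_eq_span_X :
    maximalIdeal PS = Ideal.span (Set.range (MvPowerSeries.X : Fin r → PS)) := by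
  rw [Groth.Agent.Lib.RegPSH3.maximalIdeal_eq, IsLocalRing.maximalIdeal_eq_bot, Ideal.map_bot,
    bot_sup_eq]

/-- The differentials `dT_i`. -/
noncomputable def dX : Fin r → Ω[PS⁄k] := fun i => D k PS (MvPowerSeries.X i)

lemma span_dX_sup : Submodule.span PS (Set.range (dX k r)) ⊔
    (maximalIdeal PS) • (⊤ : Submodule PS (Ω[PS⁄k])) = ⊤ := by
  refine eq_top_iff.2 ((KaehlerDifferential.span_range_derivation k PS).symm.le.trans
    (Submodule.span_le.2 ?_))
  rintro _ ⟨f, rfl⟩
  -- f = C (f 0) + (f - C (f 0)), the latter in the maximal ideal = span X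
  have hf : f - MvPowerSeries.C (MvPowerSeries.constantCoeff f) ∈ maximalIdeal PS := by
    rw [Groth.Agent.Lib.PSCompleteH1.mem_maximalIdeal_iff, map_sub,
      MvPowerSeries.constantCoeff_C, sub_self]
    exact (maximalIdeal k).zero_mem
  have hD : D k PS f = D k PS (f - MvPowerSeries.C (MvPowerSeries.constantCoeff f)) := by
    rw [map_sub, MvPowerSeries.c_eq_algebraMap, Derivation.map_algebraMap, sub_zero]
  rw [SetLike.mem_coe, hD]
  generalize f - MvPowerSeries.C (MvPowerSeries.constantCoeff f) = g at hf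
  rw [maximalIdeal_eq_span_X] at hf
  induction hf using Submodule.span_induction with
  | mem g hg =>
    obtain ⟨i, rfl⟩ := hg
    exact Submodule.mem_sup_left (Submodule.subset_span ⟨i, rfl⟩)
  | zero => rw [map_zero]; exact Submodule.zero_mem _
  | add g h _ _ hg hh => rw [map_add]; exact Submodule.add_mem _ hg hh
  | smul a g hg hgD =>
    rw [smul_eq_mul, Derivation.leibniz]
    refine Submodule.add_mem _ (Submodule.smul_mem _ _ hgD) ?_
    refine Submodule.mem_sup_right (Submodule.smul_mem_smul ?_ Submodule.mem_top)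
    rw [maximalIdeal_eq_span_X]
    exact hg

/-- The map `Ω_{A/k} → A^r` given by the partial derivatives. -/
noncomputable def partials : Ω[PS⁄k] →ₗ[PS] (Fin r → PS) :=
  LinearMap.pi fun i => (MvPowerSeries.pderiv k i).liftKaehlerDifferential

lemma partials_dX (j : Fin r) : partials k r (dX k r j) = Pi.single j 1 := by
  classical
  funext i
  rw [partials, LinearMap.pi_apply, dX, Derivation.liftKaehlerDifferential_comp_D,
    MvPowerSeries.pderiv_X]
  by_cases h : i = j
  · subst h; simp
  · rw [Pi.single_eq_of_ne h, Pi.single_eq_of_ne (Ne.symm h)]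

/-- `φ : A^r → Ω̂`, `e_i ↦ dT_i`. -/
noncomputable def toCompl : (Fin r → PS) →ₗ[PS] AdicCompletion (maximalIdeal PS) (Ω[PS⁄k]) :=
  (AdicCompletion.of (maximalIdeal PS) (Ω[PS⁄k])) ∘ₗ (Fintype.linearCombination PS (dX k r))

instance : IsAdicComplete (maximalIdeal PS) PS := by
  have h := Groth.Agent.Lib.PSCompleteH1.isAdicComplete_maximalIdeal (σ := Fin r) (R := k)
  exact h

lemma toCompl_surjective : Function.Surjective (toCompl k r) :=
  surjective_of_span_sup (maximalIdeal PS) (dX k r) (span_dX_sup k r)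

/-- `ψ : Ω̂ → A^r`. -/
noncomputable def ofCompl : AdicCompletion (maximalIdeal PS) (Ω[PS⁄k]) →ₗ[PS] (Fin r → PS) :=
  haveI := isAdicComplete_pi (r := r) (maximalIdeal PS)
  ((AdicCompletion.ofLinearEquiv (maximalIdeal PS) (Fin r → PS)).symm : _ →ₗ[PS] _) ∘ₗ
    (AdicCompletion.map (maximalIdeal PS) (partials k r)).restrictScalars PS

lemma ofCompl_toCompl (v : Fin r → PS) : ofCompl k r (toCompl k r v) = v := by
  classical
  haveI := isAdicComplete_pi (r := r) (maximalIdeal PS)
  rw [ofCompl, toCompl, LinearMap.comp_apply, LinearMap.comp_apply, LinearMap.restrictScalars_apply,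
    AdicCompletion.map_of, LinearEquiv.coe_coe, AdicCompletion.ofLinearEquiv_symm_of, Fintype.linearCombination_apply,
    map_sum]
  funext i
  rw [Finset.sum_apply, Finset.sum_eq_single i]
  · rw [map_smul, partials_dX, Pi.smul_apply, Pi.single_eq_same, smul_eq_mul, mul_one]
  · intro j _ hj
    rw [map_smul, partials_dX, Pi.smul_apply, Pi.single_eq_of_ne (Ne.symm hj), smul_zero]
  · intro h; exact absurd (Finset.mem_univ i) h

/-- `A^r ≃ Ω̂_{A/k}` for `A = k[[T_1..T_r]]`. -/
noncomputable def completedKaehlerEquiv :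
    (Fin r → PS) ≃ₗ[PS] AdicCompletion (maximalIdeal PS) (Ω[PS⁄k]) :=
  LinearEquiv.ofBijective (toCompl k r)
    ⟨Function.LeftInverse.injective (ofCompl_toCompl k r), toCompl_surjective k r⟩

end PowSer

end Groth.Agent.Lib.ComplKaehlerH3
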