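import Mathlib
import Groth.Agent.Lib.RegPS_helper3
import Groth.Agent.Lib.ComplKaehlerPS_helper3

/-!
# Complete Noetherian local domains are finite over power series rings (EGA 0_IV 19.8.8 (ii) form)
-/

set_option autoImplicit false
set_option maxSynthPendingDepth 3

namespace Groth.Agent.Lib.FinitePSH3

universe u

open IsLocalRing MvPowerSeries

section Dim

theorem ringKrullDim_le_of_isIntegral (R A : Type*) [CommRing R] [CommRing A] [Algebra R A]
    [Algebra.IsIntegral R A] : ringKrullDim A ≤ ringKrullDim R := by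
  refine Order.krullDim_le_of_strictMono
    (fun P : PrimeSpectrum A => PrimeSpectrum.comap (algebraMap R A) P) ?_
  intro P Q h
  have h' : P.asIdeal < Q.asIdeal := h
  exact Ideal.IsIntegral.comap_lt_comap h'

end Dim

section FiniteQuot

variable {k₀ A : Type*} [Field k₀] [CommRing A] [IsLocalRing A] [IsNoetherianRing A] [Algebra k₀ A]

theorem finite_quotient_step [Module.Finite k₀ (A ⧸ maximalIdeal A)] (I J : Ideal A) (hJI : J ≤ I)
    (hmI : maximalIdeal A * I ≤ J) [Module.Finite k₀ (A ⧸ I)] : Module.Finite k₀ (A ⧸ J) := by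
  classical
  obtain ⟨r, x, hx⟩ := Submodule.fg_iff_exists_fin_generating_family.1
    (IsNoetherian.noetherian I : I.FG)
  have hxI : ∀ i, x i ∈ I := fun i => hx ▸ Submodule.subset_span ⟨i, rfl⟩
  let φ : Fin r → (A ⧸ maximalIdeal A) →ₗ[A] A ⧸ J := fun i =>
    Submodule.liftQ (maximalIdeal A)
      ((Submodule.mkQ J) ∘ₗ (LinearMap.toSpanSingleton A A (x i))) (by
        intro a ha
        rw [LinearMap.mem_ker, LinearMap.comp_apply, LinearMap.toSpanSingleton_apply,
          Submodule.mkQ_apply, Submodule.Quotient.mk_eq_zero, smul_eq_mul]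
        exact hmI (Ideal.mul_mem_mul ha (hxI i)))
  have hφ : ∀ i (a : A), φ i (Submodule.mkQ (maximalIdeal A) a) = Submodule.mkQ J (a * x i) := by
    intro i a
    rfl
  let f : (Fin r → A ⧸ maximalIdeal A) →ₗ[A] A ⧸ J := ∑ i, (φ i) ∘ₗ (LinearMap.proj i)
  have hf : ∀ v, f v = ∑ i, φ i (v i) := by
    intro v
    simp only [f, LinearMap.sum_apply, LinearMap.comp_apply, LinearMap.proj_apply]
  let g : A ⧸ J →ₗ[A] A ⧸ I := Submodule.factor hJI
  have hg : Function.Surjective g := Submodule.factor_surjective hJI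
  have hexact : Function.Exact f g := by
    intro y
    constructor
    · intro hy
      obtain ⟨a, rfl⟩ := Submodule.mkQ_surjective J y
      have ha : a ∈ I := by
        have h1 : g (Submodule.mkQ J a) = Submodule.mkQ I a := Submodule.factor_mk hJI a
        rw [h1, Submodule.mkQ_apply, Submodule.Quotient.mk_eq_zero] at hy
        exact hy
      rw [← hx] at ha
      obtain ⟨c, rfl⟩ := (Submodule.mem_span_range_iff_exists_fun A).1 ha
      refine ⟨fun i => Submodule.mkQ (maximalIdeal A) (c i), ?_⟩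
      rw [hf, map_sum]
      refine Finset.sum_congr rfl fun i _ => ?_
      rw [hφ]
      rfl
    · rintro ⟨v, rfl⟩
      rw [hf, map_sum]
      refine Finset.sum_eq_zero fun i _ => ?_
      obtain ⟨a, ha⟩ := Submodule.mkQ_surjective (maximalIdeal A) (v i)
      rw [← ha, hφ]
      have h1 : g (Submodule.mkQ J (a * x i)) = Submodule.mkQ I (a * x i) :=
        Submodule.factor_mk hJI _
      rw [h1, Submodule.mkQ_apply, Submodule.Quotient.mk_eq_zero]
      exact I.mul_mem_left a (hxI i)
  haveI : Module.Finite k₀ (Fin r → A ⧸ maximalIdeal A) := Module.Finite.pi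
  exact Groth.Agent.Lib.ComplKaehlerH3.finite_of_exact (f.restrictScalars k₀)
    (g.restrictScalars k₀) hexact hg

theorem finite_quotient_pow [Module.Finite k₀ (A ⧸ maximalIdeal A)] (N : ℕ) :
    Module.Finite k₀ (A ⧸ maximalIdeal A ^ N) := by
  induction N with
  | zero =>
    haveI : Subsingleton (A ⧸ maximalIdeal A ^ 0) :=
      Ideal.Quotient.subsingleton_iff.2 (by rw [pow_zero, Ideal.one_eq_top])
    exact Module.Finite.of_surjective (0 : k₀ →ₗ[k₀] A ⧸ maximalIdeal A ^ 0)
      (fun y => ⟨0, Subsingleton.elim _ _⟩)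
  | succ N ih =>
    haveI := ih
    exact finite_quotient_step (maximalIdeal A ^ N) (maximalIdeal A ^ (N + 1))
      (Ideal.pow_le_pow_right N.le_succ) (by rw [pow_succ'])

theorem exists_span_mod {k₀ A : Type*} [Field k₀] [CommRing A] [Algebra k₀ A] (I : Ideal A)
    [Module.Finite k₀ (A ⧸ I)] :
    ∃ (t : ℕ) (c : Fin t → A), ∀ a : A, ∃ l : Fin t → k₀, a - ∑ i, l i • c i ∈ I := by
  obtain ⟨t, s, hs⟩ := Module.Finite.exists_fin (R := k₀) (M := A ⧸ I)
  choose c hc using fun i => Ideal.Quotient.mk_surjective (s i)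
  refine ⟨t, c, fun a => ?_⟩
  have ha : Ideal.Quotient.mk I a ∈ Submodule.span k₀ (Set.range s) := by
    rw [hs]
    trivial
  obtain ⟨l, hl⟩ := (Submodule.mem_span_range_iff_exists_fun k₀).1 ha
  refine ⟨l, ?_⟩
  have : Ideal.Quotient.mk I (a - ∑ i, l i • c i) = 0 := by
    rw [map_sub, map_sum, ← hl, sub_eq_zero]
    refine Finset.sum_congr rfl fun i _ => ?_
    rw [← hc i]
    exact (map_smul (Ideal.Quotient.mkₐ k₀ I) (l i) (c i)).symm
  exact Ideal.Quotient.eq_zero_iff_mem.1 this

end FiniteQuot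

section Main

theorem exists_powerSeries_finite {k₀ A : Type u} [Field k₀] [CommRing A] [IsDomain A]
    [IsLocalRing A] [IsNoetherianRing A] [IsAdicComplete (maximalIdeal A) A] [Algebra k₀ A]
    [Module.Finite k₀ (ResidueField A)] :
    ∃ (n : ℕ) (w : MvPowerSeries (Fin n) k₀ →ₐ[k₀] A), Function.Injective w ∧
      IsLocalHom w.toRingHom ∧ w.toRingHom.Finite ∧ ringKrullDim A = n := by
  classical
  haveI hfin𝔪 : Module.Finite k₀ (A ⧸ maximalIdeal A) := ‹Module.Finite k₀ (ResidueField A)›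
  obtain ⟨s, hsmin, hscard⟩ :=
    Ideal.exists_finset_card_eq_height_of_isNoetherianRing (maximalIdeal A)
  obtain ⟨n, hn⟩ : ∃ n : ℕ, n = s.card := ⟨_, rfl⟩
  have hdim : ringKrullDim A = n := by
    rw [← IsLocalRing.maximalIdeal_height_eq_ringKrullDim, ← hscard, hn]
    rfl
  let e : s ≃ Fin n := hn ▸ s.equivFin
  let x : Fin n → A := fun i => ((e.symm i : s) : A)
  have hrange : Set.range x = (s : Set A) := by
    ext r
    constructor
    · rintro ⟨i, rfl⟩
      exact (e.symm i).2
    · intro hr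
      exact ⟨e ⟨r, hr⟩, by simp [x]⟩
  obtain ⟨I, hI⟩ : ∃ I : Ideal A, I = Ideal.span (Set.range x) := ⟨_, rfl⟩
  have hIs : I = Ideal.span (s : Set A) := by rw [hI, hrange]
  have hmin : maximalIdeal A ∈ I.minimalPrimes := hIs ▸ hsmin
  have hI𝔪 : I ≤ maximalIdeal A := hmin.1.2
  have hxm : ∀ i, x i ∈ maximalIdeal A := fun i => hI𝔪 (hI ▸ Ideal.subset_span ⟨i, rfl⟩)
  have hrad : maximalIdeal A ≤ I.radical := by
    rw [← Ideal.sInf_minimalPrimes]
    refine le_sInf fun P hP => ?_
    exact hmin.2 ⟨hP.1.1, hP.1.2⟩ (IsLocalRing.le_maximalIdeal hP.1.1.ne_top)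
  obtain ⟨N, hN⟩ := Ideal.exists_pow_le_of_le_radical_of_fg hrad
    (IsNoetherian.noetherian (maximalIdeal A))
  haveI : Module.Finite k₀ (A ⧸ maximalIdeal A ^ N) := finite_quotient_pow N
  haveI hfinI : Module.Finite k₀ (A ⧸ I) :=
    Module.Finite.of_surjective ((Submodule.factor hN).restrictScalars k₀)
      (Submodule.factor_surjective hN)
  haveI : IsAdicComplete (maximalIdeal k₀) k₀ := by
    rw [IsLocalRing.maximalIdeal_eq_bot]
    infer_instance
  obtain ⟨w, hw⟩ := Groth.Agent.Lib.RegPSH3.exists_algHom_X (Λ := k₀) n x hxm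
  have hmap : (maximalIdeal (MvPowerSeries (Fin n) k₀)).map w.toRingHom = I := by
    rw [Groth.Agent.Lib.ComplKaehlerH3.maximalIdeal_eq_span_X, Ideal.map_span, hI]
    congr 1
    ext a
    constructor
    · rintro ⟨_, ⟨i, rfl⟩, rfl⟩
      exact ⟨i, (hw i).symm⟩
    · rintro ⟨i, rfl⟩
      exact ⟨_, ⟨i, rfl⟩, hw i⟩
  have hlocal : IsLocalHom w.toRingHom := by
    refine ⟨fun b hb => ?_⟩
    by_contra hnu
    have hb𝔪 : b ∈ maximalIdeal (MvPowerSeries (Fin n) k₀) := (IsLocalRing.mem_maximalIdeal b).2 hnu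
    have h1 : w.toRingHom b ∈ maximalIdeal A := hI𝔪 (hmap ▸ Ideal.mem_map_of_mem _ hb𝔪)
    exact (IsLocalRing.mem_maximalIdeal _).1 h1 hb
  have hfinite : w.toRingHom.Finite := by
    letI : Algebra (MvPowerSeries (Fin n) k₀) A := w.toRingHom.toAlgebra
    haveI : IsScalarTower k₀ (MvPowerSeries (Fin n) k₀) A :=
      IsScalarTower.of_algebraMap_eq fun c => (w.commutes c).symm
    show Module.Finite (MvPowerSeries (Fin n) k₀) A
    have htop : ∀ (m : ℕ) (a : A),
        a ∈ (maximalIdeal (MvPowerSeries (Fin n) k₀) ^ m •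
          (⊤ : Submodule (MvPowerSeries (Fin n) k₀) A)) ↔ a ∈ I ^ m := by
      intro m a
      rw [Ideal.smul_top_eq_map, Submodule.restrictScalars_mem, Ideal.map_pow]
      rw [show Ideal.map (algebraMap (MvPowerSeries (Fin n) k₀) A)
        (maximalIdeal (MvPowerSeries (Fin n) k₀)) = I from hmap]
    haveI : IsHausdorff (maximalIdeal (MvPowerSeries (Fin n) k₀)) A := by
      refine ⟨fun a ha => ?_⟩
      refine IsHausdorff.haus (inferInstance : IsHausdorff (maximalIdeal A) A) a fun m => ?_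
      rw [SModEq.zero, smul_eq_mul, Ideal.mul_top]
      exact Ideal.pow_right_mono hI𝔪 m ((htop m a).1 (SModEq.zero.1 (ha m)))
    obtain ⟨t, c, hc⟩ := exists_span_mod (k₀ := k₀) I
    haveI := Groth.Agent.Lib.ComplKaehlerH3.isPrecomplete_pi (A := MvPowerSeries (Fin n) k₀)
      (r := t) (maximalIdeal (MvPowerSeries (Fin n) k₀))
    have h1 : Function.Surjective
        ((Submodule.mkQ (maximalIdeal (MvPowerSeries (Fin n) k₀) •
            (⊤ : Submodule (MvPowerSeries (Fin n) k₀) A))) ∘ₗ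
          (Fintype.linearCombination (MvPowerSeries (Fin n) k₀) c)) := by
      intro y
      obtain ⟨a, rfl⟩ := Submodule.mkQ_surjective _ y
      obtain ⟨l, hl⟩ := hc a
      refine ⟨fun i => MvPowerSeries.C (l i), ?_⟩
      rw [LinearMap.comp_apply, Submodule.mkQ_apply, Submodule.mkQ_apply, Submodule.Quotient.eq,
        Fintype.linearCombination_apply]
      have e1 : ∀ i, (MvPowerSeries.C (l i) : MvPowerSeries (Fin n) k₀) • c i = l i • c i := by
        intro i
        rw [Algebra.smul_def, Algebra.smul_def]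
        show w (MvPowerSeries.C (l i)) * c i = _
        rw [MvPowerSeries.c_eq_algebraMap, w.commutes]
      simp only [e1]
      have h2 := (htop 1 (a - ∑ i, l i • c i)).2 (by rw [pow_one]; exact hl)
      rw [pow_one] at h2
      rw [← neg_sub]
      exact Submodule.neg_mem _ h2
    exact Module.Finite.of_surjective _
      (surjective_of_mkQ_comp_surjective (I := maximalIdeal (MvPowerSeries (Fin n) k₀)) h1)
  have hinj : Function.Injective w := by
    rw [injective_iff_map_eq_zero]
    intro g hg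
    by_contra hne
    haveI : IsDomain (MvPowerSeries (Fin n) k₀) := NoZeroDivisors.to_isDomain _
    have h1 : ringKrullDim (MvPowerSeries (Fin n) k₀ ⧸ RingHom.ker w.toRingHom) + 1 ≤
        ringKrullDim (MvPowerSeries (Fin n) k₀) :=
      ringKrullDim_succ_le_of_surjective (Ideal.Quotient.mk (RingHom.ker w.toRingHom))
        Ideal.Quotient.mk_surjective (mem_nonZeroDivisors_of_ne_zero hne)
        (Ideal.Quotient.eq_zero_iff_mem.2 (RingHom.mem_ker.2 hg))
    letI : Algebra (MvPowerSeries (Fin n) k₀ ⧸ RingHom.ker w.toRingHom) A :=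
      (RingHom.kerLift w.toRingHom).toAlgebra
    letI : Algebra (MvPowerSeries (Fin n) k₀) A := w.toRingHom.toAlgebra
    haveI : IsScalarTower (MvPowerSeries (Fin n) k₀)
        (MvPowerSeries (Fin n) k₀ ⧸ RingHom.ker w.toRingHom) A :=
      IsScalarTower.of_algebraMap_eq fun b => rfl
    haveI : Module.Finite (MvPowerSeries (Fin n) k₀) A := hfinite
    haveI : Module.Finite (MvPowerSeries (Fin n) k₀ ⧸ RingHom.ker w.toRingHom) A :=
      Module.Finite.of_restrictScalars_finite (MvPowerSeries (Fin n) k₀) _ A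
    have h2 : ringKrullDim A ≤ ringKrullDim (MvPowerSeries (Fin n) k₀ ⧸ RingHom.ker w.toRingHom) :=
      ringKrullDim_le_of_isIntegral _ A
    have h3 := Groth.Agent.Lib.RegPSH3.ringKrullDim_mvPowerSeries_field_le k₀ n
    have h4 : (n : WithBot ℕ∞) + 1 ≤ n := by
      calc (n : WithBot ℕ∞) + 1 = ringKrullDim A + 1 := by rw [hdim]
        _ ≤ ringKrullDim (MvPowerSeries (Fin n) k₀ ⧸ RingHom.ker w.toRingHom) + 1 :=
          add_le_add_left h2 1
        _ ≤ ringKrullDim (MvPowerSeries (Fin n) k₀) := h1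
        _ ≤ n := h3
    have h5 : ((n + 1 : ℕ) : WithBot ℕ∞) ≤ (n : ℕ) := by
      rw [Nat.cast_add, Nat.cast_one]
      exact h4
    have h6 : n + 1 ≤ n := by exact_mod_cast h5
    omega
  exact ⟨n, w, hinj, hlocal, hfinite, hdim⟩

end Main

end Groth.Agent.Lib.FinitePSH3
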