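import Mathlib
import Groth.Agent.Lib.FinitePS_helper3

/-!
# Complete Noetherian local domains are finite over power series rings over a complete local
coefficient ring (general form, used for Cohen rings) (helper3)
-/

set_option autoImplicit false
set_option maxSynthPendingDepth 3

namespace Groth.Agent.Lib.FinitePSH3

universe u

open IsLocalRing MvPowerSeries

section FiniteQuot'

variable {k₀ A : Type*} [CommRing k₀] [CommRing A] [IsLocalRing A] [IsNoetherianRing A]
  [Algebra k₀ A]

theorem finite_quotient_step' [Module.Finite k₀ (A ⧸ maximalIdeal A)] (I J : Ideal A)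
    (hJI : J ≤ I) (hmI : maximalIdeal A * I ≤ J) [Module.Finite k₀ (A ⧸ I)] :
    Module.Finite k₀ (A ⧸ J) := by
  classical
  obtain ⟨r, x, hx⟩ := Submodule.fg_iff_exists_fin_generating_family.1
    (IsNoetherian.noetherian I : I.FG)
  have hxI : ∀ i, x i ∈ I := fun i => hx ▸ Submodule.subset_span ⟨i, rfl⟩
  let φ : Fin r → (A ⧸ maximalIdeal A) →ₗ[A] A ⧸ J := fun i =>
    Submodule.liftQ (maximalIdeal A)
      ((Submodule.mkQ J) ∘ₗ (LinearMap.toSpanSingleton A A (x i))) (by
        intro a ha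
        rw [LinearMap.mem_ker, LinearMap.comp_apply, LinearMap.toSpanSingleton_apply,
          Submodule.mkQ_apply, Submodule.Quotient.mk_eq_zero, smul_eq_mul]
        exact hmI (Ideal.mul_mem_mul ha (hxI i)))
  have hφ : ∀ i (a : A), φ i (Submodule.mkQ (maximalIdeal A) a) = Submodule.mkQ J (a * x i) := by
    intro i a
    rfl
  let f : (Fin r → A ⧸ maximalIdeal A) →ₗ[A] A ⧸ J := ∑ i, (φ i) ∘ₗ (LinearMap.proj i)
  have hf : ∀ v, f v = ∑ i, φ i (v i) := by
    intro v
    simp only [f, LinearMap.sum_apply, LinearMap.comp_apply, LinearMap.proj_apply]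
  let g : A ⧸ J →ₗ[A] A ⧸ I := Submodule.factor hJI
  have hg : Function.Surjective g := Submodule.factor_surjective hJI
  have hexact : Function.Exact f g := by
    intro y
    constructor
    · intro hy
      obtain ⟨a, rfl⟩ := Submodule.mkQ_surjective J y
      have ha : a ∈ I := by
        have h1 : g (Submodule.mkQ J a) = Submodule.mkQ I a := Submodule.factor_mk hJI a
        rw [h1, Submodule.mkQ_apply, Submodule.Quotient.mk_eq_zero] at hy
        exact hy
      rw [← hx] at ha
      obtain ⟨c, rfl⟩ := (Submodule.mem_span_range_iff_exists_fun A).1 ha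
      refine ⟨fun i => Submodule.mkQ (maximalIdeal A) (c i), ?_⟩
      rw [hf, map_sum]
      refine Finset.sum_congr rfl fun i _ => ?_
      rw [hφ]
      rfl
    · rintro ⟨v, rfl⟩
      rw [hf, map_sum]
      refine Finset.sum_eq_zero fun i _ => ?_
      obtain ⟨a, ha⟩ := Submodule.mkQ_surjective (maximalIdeal A) (v i)
      rw [← ha, hφ]
      have h1 : g (Submodule.mkQ J (a * x i)) = Submodule.mkQ I (a * x i) :=
        Submodule.factor_mk hJI _
      rw [h1, Submodule.mkQ_apply, Submodule.Quotient.mk_eq_zero]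
      exact I.mul_mem_left a (hxI i)
  haveI : Module.Finite k₀ (Fin r → A ⧸ maximalIdeal A) := Module.Finite.pi
  exact Groth.Agent.Lib.ComplKaehlerH3.finite_of_exact (f.restrictScalars k₀)
    (g.restrictScalars k₀) hexact hg

theorem finite_quotient_pow' [Module.Finite k₀ (A ⧸ maximalIdeal A)] (N : ℕ) :
    Module.Finite k₀ (A ⧸ maximalIdeal A ^ N) := by
  induction N with
  | zero =>
    haveI : Subsingleton (A ⧸ maximalIdeal A ^ 0) :=
      Ideal.Quotient.subsingleton_iff.2 (by rw [pow_zero, Ideal.one_eq_top])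
    exact Module.Finite.of_surjective (0 : k₀ →ₗ[k₀] A ⧸ maximalIdeal A ^ 0)
      (fun y => ⟨0, Subsingleton.elim _ _⟩)
  | succ N ih =>
    haveI := ih
    exact finite_quotient_step' (maximalIdeal A ^ N) (maximalIdeal A ^ (N + 1))
      (Ideal.pow_le_pow_right N.le_succ) (by rw [pow_succ'])

theorem exists_span_mod' {k₀ A : Type*} [CommRing k₀] [CommRing A] [Algebra k₀ A] (I : Ideal A)
    [Module.Finite k₀ (A ⧸ I)] :
    ∃ (t : ℕ) (c : Fin t → A), ∀ a : A, ∃ l : Fin t → k₀, a - ∑ i, l i • c i ∈ I := by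
  obtain ⟨t, s, hs⟩ := Module.Finite.exists_fin (R := k₀) (M := A ⧸ I)
  choose c hc using fun i => Ideal.Quotient.mk_surjective (s i)
  refine ⟨t, c, fun a => ?_⟩
  have ha : Ideal.Quotient.mk I a ∈ Submodule.span k₀ (Set.range s) := by
    rw [hs]
    trivial
  obtain ⟨l, hl⟩ := (Submodule.mem_span_range_iff_exists_fun k₀).1 ha
  refine ⟨l, ?_⟩
  have : Ideal.Quotient.mk I (a - ∑ i, l i • c i) = 0 := by
    rw [map_sub, map_sum, ← hl, sub_eq_zero]
    refine Finset.sum_congr rfl fun i _ => ?_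
    rw [← hc i]
    exact (map_smul (Ideal.Quotient.mkₐ k₀ I) (l i) (c i)).symm
  exact Ideal.Quotient.eq_zero_iff_mem.1 this

end FiniteQuot'

section Main'

/-- General form: `Λ` a complete Noetherian local domain (the coefficient ring), `A` a complete
Noetherian local domain with the same residue field, `x_1, …, x_n ∈ 𝔪_A` such that
`𝔪_Λ A + (x)` is `𝔪_A`-primary and `dim A ≥ e + n` where `𝔪_Λ` has `e` generators. Then
`Λ[[X_1, …, X_n]] → A`, `X_i ↦ x_i`, is injective and finite. -/
theorem exists_powerSeries_finite' {Λ A : Type u} [CommRing Λ] [IsDomain Λ] [IsLocalRing Λ]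
    [IsNoetherianRing Λ] [IsAdicComplete (maximalIdeal Λ) Λ] [CommRing A] [IsDomain A]
    [IsLocalRing A] [IsNoetherianRing A] [IsAdicComplete (maximalIdeal A) A] [Algebra Λ A]
    (hloc : ∀ a ∈ maximalIdeal Λ, algebraMap Λ A a ∈ maximalIdeal A)
    (hres : Function.Surjective ((residue A).comp (algebraMap Λ A)))
    (n : ℕ) (x : Fin n → A) (hxm : ∀ i, x i ∈ maximalIdeal A)
    (hx : maximalIdeal A ≤
      ((maximalIdeal Λ).map (algebraMap Λ A) ⊔ Ideal.span (Set.range x)).radical)
    (hdim : (((maximalIdeal Λ).spanFinrank + n : ℕ) : WithBot ℕ∞) ≤ ringKrullDim A) :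
    ∃ w : MvPowerSeries (Fin n) Λ →ₐ[Λ] A, (∀ i, w (X i) = x i) ∧ Function.Injective w ∧
      w.toRingHom.Finite := by
  classical
  haveI hfin𝔪 : Module.Finite Λ (A ⧸ maximalIdeal A) := by
    refine Module.Finite.of_surjective (Algebra.linearMap Λ (A ⧸ maximalIdeal A)) ?_
    intro y
    obtain ⟨c, hc⟩ := hres y
    refine ⟨c, ?_⟩
    rw [Algebra.linearMap_apply, IsScalarTower.algebraMap_apply Λ A (A ⧸ maximalIdeal A)]
    exact hc
  obtain ⟨I, hI⟩ : ∃ I : Ideal A, I = (maximalIdeal Λ).map (algebraMap Λ A) ⊔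
    Ideal.span (Set.range x) := ⟨_, rfl⟩
  have hI𝔪 : I ≤ maximalIdeal A := by
    rw [hI]
    refine sup_le ?_ ?_
    · rw [Ideal.map_le_iff_le_comap]
      exact fun a ha => hloc a ha
    · rw [Ideal.span_le]
      rintro _ ⟨i, rfl⟩
      exact hxm i
  obtain ⟨N, hN⟩ := Ideal.exists_pow_le_of_le_radical_of_fg (hI ▸ hx)
    (IsNoetherian.noetherian (maximalIdeal A))
  haveI : Module.Finite Λ (A ⧸ maximalIdeal A ^ N) := finite_quotient_pow' N
  haveI hfinI : Module.Finite Λ (A ⧸ I) :=
    Module.Finite.of_surjective ((Submodule.factor hN).restrictScalars Λ)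
      (Submodule.factor_surjective hN)
  obtain ⟨w, hw⟩ := Groth.Agent.Lib.RegPSH3.exists_algHom_X (Λ := Λ) n x hxm
  have hmap : (maximalIdeal (MvPowerSeries (Fin n) Λ)).map w.toRingHom = I := by
    rw [Groth.Agent.Lib.RegPSH3.maximalIdeal_eq, Ideal.map_sup, Ideal.map_map, Ideal.map_span, hI]
    congr 1
    · congr 1
      ext c
      show w (C c) = algebraMap Λ A c
      rw [MvPowerSeries.c_eq_algebraMap, w.commutes]
    · congr 1
      ext a
      constructor
      · rintro ⟨_, ⟨i, rfl⟩, rfl⟩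
        exact ⟨i, (hw i).symm⟩
      · rintro ⟨i, rfl⟩
        exact ⟨_, ⟨i, rfl⟩, hw i⟩
  have hfinite : w.toRingHom.Finite := by
    letI : Algebra (MvPowerSeries (Fin n) Λ) A := w.toRingHom.toAlgebra
    haveI : IsScalarTower Λ (MvPowerSeries (Fin n) Λ) A :=
      IsScalarTower.of_algebraMap_eq fun c => (w.commutes c).symm
    show Module.Finite (MvPowerSeries (Fin n) Λ) A
    have htop : ∀ (m : ℕ) (a : A),
        a ∈ (maximalIdeal (MvPowerSeries (Fin n) Λ) ^ m •
          (⊤ : Submodule (MvPowerSeries (Fin n) Λ) A)) ↔ a ∈ I ^ m := by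
      intro m a
      rw [Ideal.smul_top_eq_map, Submodule.restrictScalars_mem, Ideal.map_pow]
      rw [show Ideal.map (algebraMap (MvPowerSeries (Fin n) Λ) A)
        (maximalIdeal (MvPowerSeries (Fin n) Λ)) = I from hmap]
    haveI : IsHausdorff (maximalIdeal (MvPowerSeries (Fin n) Λ)) A := by
      refine ⟨fun a ha => ?_⟩
      refine IsHausdorff.haus (inferInstance : IsHausdorff (maximalIdeal A) A) a fun m => ?_
      rw [SModEq.zero, smul_eq_mul, Ideal.mul_top]
      exact Ideal.pow_right_mono hI𝔪 m ((htop m a).1 (SModEq.zero.1 (ha m)))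
    obtain ⟨t, c, hc⟩ := exists_span_mod' (k₀ := Λ) I
    haveI : IsAdicComplete (maximalIdeal (MvPowerSeries (Fin n) Λ)) (MvPowerSeries (Fin n) Λ) :=
      Groth.Agent.Lib.PSCompleteH1.isAdicComplete_maximalIdeal
    haveI := Groth.Agent.Lib.ComplKaehlerH3.isPrecomplete_pi (A := MvPowerSeries (Fin n) Λ)
      (r := t) (maximalIdeal (MvPowerSeries (Fin n) Λ))
    have h1 : Function.Surjective
        ((Submodule.mkQ (maximalIdeal (MvPowerSeries (Fin n) Λ) •
            (⊤ : Submodule (MvPowerSeries (Fin n) Λ) A))) ∘ₗ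
          (Fintype.linearCombination (MvPowerSeries (Fin n) Λ) c)) := by
      intro y
      obtain ⟨a, rfl⟩ := Submodule.mkQ_surjective _ y
      obtain ⟨l, hl⟩ := hc a
      refine ⟨fun i => MvPowerSeries.C (l i), ?_⟩
      rw [LinearMap.comp_apply, Submodule.mkQ_apply, Submodule.mkQ_apply, Submodule.Quotient.eq,
        Fintype.linearCombination_apply]
      have e1 : ∀ i, (MvPowerSeries.C (l i) : MvPowerSeries (Fin n) Λ) • c i = l i • c i := by
        intro i
        rw [Algebra.smul_def, Algebra.smul_def]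
        show w (MvPowerSeries.C (l i)) * c i = _
        rw [MvPowerSeries.c_eq_algebraMap, w.commutes]
      simp only [e1]
      have h2 := (htop 1 (a - ∑ i, l i • c i)).2 (by rw [pow_one]; exact hl)
      rw [pow_one] at h2
      rw [← neg_sub]
      exact Submodule.neg_mem _ h2
    exact Module.Finite.of_surjective _
      (surjective_of_mkQ_comp_surjective (I := maximalIdeal (MvPowerSeries (Fin n) Λ)) h1)
  have hinj : Function.Injective w := by
    rw [injective_iff_map_eq_zero]
    intro g hg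
    by_contra hne
    haveI : IsDomain (MvPowerSeries (Fin n) Λ) := NoZeroDivisors.to_isDomain _
    have h1 : ringKrullDim (MvPowerSeries (Fin n) Λ ⧸ RingHom.ker w.toRingHom) + 1 ≤
        ringKrullDim (MvPowerSeries (Fin n) Λ) :=
      ringKrullDim_succ_le_of_surjective (Ideal.Quotient.mk (RingHom.ker w.toRingHom))
        Ideal.Quotient.mk_surjective (mem_nonZeroDivisors_of_ne_zero hne)
        (Ideal.Quotient.eq_zero_iff_mem.2 (RingHom.mem_ker.2 hg))
    letI : Algebra (MvPowerSeries (Fin n) Λ ⧸ RingHom.ker w.toRingHom) A :=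
      (RingHom.kerLift w.toRingHom).toAlgebra
    letI : Algebra (MvPowerSeries (Fin n) Λ) A := w.toRingHom.toAlgebra
    haveI : IsScalarTower (MvPowerSeries (Fin n) Λ)
        (MvPowerSeries (Fin n) Λ ⧸ RingHom.ker w.toRingHom) A :=
      IsScalarTower.of_algebraMap_eq fun b => rfl
    haveI : Module.Finite (MvPowerSeries (Fin n) Λ) A := hfinite
    haveI : Module.Finite (MvPowerSeries (Fin n) Λ ⧸ RingHom.ker w.toRingHom) A :=
      Module.Finite.of_restrictScalars_finite (MvPowerSeries (Fin n) Λ) _ A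
    have h2 : ringKrullDim A ≤ ringKrullDim (MvPowerSeries (Fin n) Λ ⧸ RingHom.ker w.toRingHom) :=
      ringKrullDim_le_of_isIntegral _ A
    have h3 : ringKrullDim (MvPowerSeries (Fin n) Λ) ≤
        (((maximalIdeal Λ).spanFinrank + n : ℕ) : WithBot ℕ∞) := by
      refine le_trans (ringKrullDim_le_spanFinrank_maximalIdeal _) ?_
      exact_mod_cast Groth.Agent.Lib.RegPSH3.spanFinrank_maximalIdeal_le (R := Λ) n
    obtain ⟨d, hd⟩ : ∃ d : ℕ, d = (maximalIdeal Λ).spanFinrank + n := ⟨_, rfl⟩
    rw [← hd] at h3 hdim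
    have h4 : (d : WithBot ℕ∞) + 1 ≤ d := by
      calc (d : WithBot ℕ∞) + 1 ≤ ringKrullDim A + 1 := add_le_add_left hdim 1
        _ ≤ ringKrullDim (MvPowerSeries (Fin n) Λ ⧸ RingHom.ker w.toRingHom) + 1 :=
          add_le_add_left h2 1
        _ ≤ ringKrullDim (MvPowerSeries (Fin n) Λ) := h1
        _ ≤ d := h3
    have h5 : ((d + 1 : ℕ) : WithBot ℕ∞) ≤ (d : ℕ) := by
      rw [Nat.cast_add, Nat.cast_one]
      exact h4
    have h6 : d + 1 ≤ d := by exact_mod_cast h5
    omega
  exact ⟨w, hw, hinj, hfinite⟩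

end Main'

end Groth.Agent.Lib.FinitePSH3
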