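import Mathlib
import Groth.Agent.Lib.CompletionRegular_helper5
import Groth.Agent.Lib.CoeffFieldP_helper3
import Groth.Agent.Lib.FinitePS2_helper3

/-!
# The monomial property of systems of parameters in characteristic `p` (helper3)

`(a_1 ⋯ a_n)^k ∉ (a_1^{k+1}, …, a_n^{k+1})` for a system of parameters of a Noetherian local ring
of characteristic `p`.  Proof: complete, divide by a prime of maximal dimension, use a coefficient
field and the finite injective map `K[[X]] → A`, `X_i ↦ a_i`; a `K[[X]]`-linear functional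
`ψ : A → K[[X]]` with `ψ 1 ≠ 0` and the Frobenius give `ψ(1)·X^{kq} ∈ (X_i^{(k+1)q})` for all
`q = p^e`, hence `ψ(1) ∈ ⋂ (X_i^q) = 0`.
-/

set_option autoImplicit false
set_option maxSynthPendingDepth 3

namespace Groth.Agent.Lib.MonomialCharPH3

universe u

open IsLocalRing

section Prime

/-- a prime quotient of the same dimension -/
theorem exists_prime_dim_eq (S : Type*) [CommRing S] (n : ℕ) (h : ringKrullDim S = n) :
    ∃ P : Ideal S, P.IsPrime ∧ ringKrullDim (S ⧸ P) = n := by
  obtain ⟨l, hl⟩ := Order.le_krullDim_iff.1 (le_of_eq h.symm)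
  refine ⟨l.head.asIdeal, l.head.isPrime, le_antisymm ?_ ?_⟩
  · rw [← h]
    exact ringKrullDim_quotient_le _
  · rw [ringKrullDim_quotient]
    refine Order.le_krullDim_iff.2 ⟨⟨l.length, fun i => ⟨l i, ?_⟩, fun i => ?_⟩, hl⟩
    · rw [PrimeSpectrum.mem_zeroLocus]
      exact (PrimeSpectrum.asIdeal_le_asIdeal _ _).2 (LTSeries.head_le l i)
    · exact l.step i

end Prime

section Quot

variable (S : Type*) [CommRing S] [IsLocalRing S] (P : Ideal S) [IsLocalRing (S ⧸ P)]

theorem map_mk_maximalIdeal :
    (maximalIdeal S).map (Ideal.Quotient.mk P) = maximalIdeal (S ⧸ P) := by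
  apply le_antisymm
  · rw [Ideal.map_le_iff_le_comap]
    intro a ha
    rw [Ideal.mem_comap, mem_maximalIdeal, mem_nonunits_iff]
    intro hu
    have hP : P ≠ ⊤ := by
      intro h
      have : Subsingleton (S ⧸ P) := by
        rw [h]
        exact Ideal.Quotient.subsingleton_iff.2 rfl
      exact not_subsingleton (S ⧸ P) this
    have hPm : P ≤ maximalIdeal S := le_maximalIdeal hP
    obtain ⟨b, hb⟩ := hu.exists_right_inv
    obtain ⟨b', rfl⟩ := Ideal.Quotient.mk_surjective b
    rw [← map_mul, ← map_one (Ideal.Quotient.mk P), Ideal.Quotient.eq] at hb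
    have h1 : (1 : S) ∈ maximalIdeal S := by
      have h2 : a * b' ∈ maximalIdeal S := Ideal.mul_mem_right _ _ ha
      have h3 := Ideal.sub_mem _ h2 (hPm hb)
      simpa using h3
    exact (Ideal.ne_top_iff_one _).1 (maximalIdeal.isMaximal S).ne_top h1
  · intro x hx
    obtain ⟨y, rfl⟩ := Ideal.Quotient.mk_surjective x
    apply Ideal.mem_map_of_mem
    rw [mem_maximalIdeal, mem_nonunits_iff]
    intro hu
    exact (mem_maximalIdeal _).1 hx (hu.map _)

theorem isAdicComplete_quotient [IsNoetherianRing S] [IsAdicComplete (maximalIdeal S) S] :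
    IsAdicComplete (maximalIdeal (S ⧸ P)) (S ⧸ P) := by
  haveI : IsPrecomplete (maximalIdeal S) S := inferInstance
  have h1 : IsPrecomplete (maximalIdeal S) (S ⧸ P) := by
    rw [← AdicCompletion.of_surjective_iff]
    intro y
    obtain ⟨x, rfl⟩ := AdicCompletion.map_surjective (maximalIdeal S)
      (f := Submodule.mkQ P) (Submodule.mkQ_surjective P) y
    obtain ⟨s, rfl⟩ := AdicCompletion.of_surjective (maximalIdeal S) S x
    exact ⟨Submodule.mkQ P s, (AdicCompletion.map_of _ _ _).symm⟩
  have h2 : IsPrecomplete ((maximalIdeal S).map (algebraMap S (S ⧸ P))) (S ⧸ P) :=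
    IsPrecomplete.map_algebraMap_iff.2 h1
  have h3 : (maximalIdeal S).map (algebraMap S (S ⧸ P)) = maximalIdeal (S ⧸ P) :=
    map_mk_maximalIdeal S P
  rw [h3] at h2
  exact { toIsHausdorff := inferInstance, toIsPrecomplete := h2 }

end Quot

section Functional

/-- a functional on a finite module over a domain which does not kill a given non-torsion
element -/
theorem exists_linearMap_ne_zero {P M : Type*} [CommRing P] [IsDomain P] [AddCommGroup M]
    [Module P M] [Module.Finite P M] (m : M) (hm : ∀ s : P, s ≠ 0 → s • m ≠ 0) :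
    ∃ ψ : M →ₗ[P] P, ψ m ≠ 0 := by
  classical
  let K := FractionRing P
  let V := LocalizedModule (nonZeroDivisors P) M
  let ι : M →ₗ[P] V := LocalizedModule.mkLinearMap (nonZeroDivisors P) M
  have hιm : ι m ≠ 0 := by
    intro h0
    obtain ⟨s, hs⟩ := (IsLocalizedModule.eq_zero_iff (nonZeroDivisors P) ι).1 h0
    exact hm (s : P) (nonZeroDivisors.coe_ne_zero s) hs
  obtain ⟨lam, hlam⟩ := Module.Projective.exists_dual_ne_zero K hιm
  let g : M →ₗ[P] K := (lam.restrictScalars P).comp ι
  have hgm : g m ≠ 0 := hlam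
  obtain ⟨r, s, hs⟩ := Module.Finite.exists_fin (R := P) (M := M)
  obtain ⟨b, hb⟩ := IsLocalization.exist_integer_multiples_of_finite (nonZeroDivisors P)
    (fun i => g (s i))
  let g' : M →ₗ[P] K := (b : P) • g
  have hrange : ∀ x : M, g' x ∈ LinearMap.range (Algebra.linearMap P K) := by
    intro x
    have hx : x ∈ Submodule.span P (Set.range s) := by rw [hs]; trivial
    refine Submodule.span_induction (p := fun x _ => g' x ∈ LinearMap.range (Algebra.linearMap P K))
      ?_ ?_ ?_ ?_ hx
    · rintro _ ⟨i, rfl⟩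
      obtain ⟨c, hc⟩ := hb i
      exact ⟨c, hc⟩
    · rw [map_zero]
      exact Submodule.zero_mem _
    · intro x y _ _ hx hy
      rw [map_add]
      exact Submodule.add_mem _ hx hy
    · intro c x _ hx
      rw [map_smul]
      exact Submodule.smul_mem _ c hx
  have hinj : Function.Injective (Algebra.linearMap P K) := IsFractionRing.injective P K
  let e := LinearEquiv.ofInjective (Algebra.linearMap P K) hinj
  refine ⟨e.symm.toLinearMap.comp (g'.codRestrict _ hrange), ?_⟩
  intro h0
  rw [LinearMap.comp_apply, LinearEquiv.coe_coe, LinearEquiv.map_eq_zero_iff] at h0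
  have h1 : g' m = 0 := congrArg Subtype.val h0
  have h2 : (b : P) • g m = 0 := h1
  rw [Algebra.smul_def, mul_eq_zero] at h2
  rcases h2 with h2 | h2
  · exact nonZeroDivisors.coe_ne_zero b ((IsFractionRing.injective P K) (by rw [h2, map_zero]))
  · exact hgm h2

end Functional

section PowerSeries

open MvPowerSeries

variable {k : Type*} [CommRing k] {n : ℕ}

/-- elements of `(X_i^L)_i` have no monomials with all exponents `< L` -/
theorem coeff_eq_zero_of_mem_span_X_pow (L : ℕ) (f : MvPowerSeries (Fin n) k)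
    (hf : f ∈ Ideal.span (Set.range fun i : Fin n => (X i : MvPowerSeries (Fin n) k) ^ L))
    (d : Fin n →₀ ℕ) (hd : ∀ i, d i < L) : coeff d f = 0 := by
  classical
  let J : Ideal (MvPowerSeries (Fin n) k) :=
    { carrier := {f | ∀ d : Fin n →₀ ℕ, (∀ i, d i < L) → coeff d f = 0}
      add_mem' := fun {f g} hf hg d hd => by rw [map_add, hf d hd, hg d hd, add_zero]
      zero_mem' := fun d _ => map_zero _
      smul_mem' := fun c f hf d hd => by
        rw [smul_eq_mul, coeff_mul]
        refine Finset.sum_eq_zero fun p hp => ?_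
        have hle : p.2 ≤ d := by
          rw [← (Finset.HasAntidiagonal.mem_antidiagonal.1 hp)]
          exact le_add_self
        rw [hf p.2 (fun i => lt_of_le_of_lt (hle i) (hd i)), mul_zero] }
  have hle : Ideal.span (Set.range fun i : Fin n => (X i : MvPowerSeries (Fin n) k) ^ L) ≤ J := by
    rw [Ideal.span_le]
    rintro _ ⟨i, rfl⟩
    intro d hd
    rw [coeff_X_pow, if_neg]
    intro h
    have := hd i
    rw [h, Finsupp.single_eq_same] at this
    exact lt_irrefl _ this
  exact hle hf d hd

theorem prod_X_pow (M : ℕ) :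
    (∏ i : Fin n, (X i : MvPowerSeries (Fin n) k)) ^ M =
      monomial (M • ∑ i : Fin n, Finsupp.single i 1) (1 : k) := by
  have h1 : ∀ i : Fin n, (X i : MvPowerSeries (Fin n) k) = monomial (Finsupp.single i 1) 1 :=
    fun i => rfl
  rw [Finset.prod_congr rfl (fun i _ => h1 i), prod_monomial, monomial_pow, Finset.prod_const_one,
    one_pow]

/-- if `c·(X_1⋯X_n)^M ∈ (X_i^{M+N})` then `c` has no monomials with all exponents `< N` -/
theorem coeff_eq_zero_of_mul_prod_mem (M N : ℕ) (c : MvPowerSeries (Fin n) k)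
    (hc : c * (∏ i : Fin n, (X i : MvPowerSeries (Fin n) k)) ^ M ∈
      Ideal.span (Set.range fun i : Fin n => (X i : MvPowerSeries (Fin n) k) ^ (M + N)))
    (d : Fin n →₀ ℕ) (hd : ∀ i, d i < N) : coeff d c = 0 := by
  classical
  have h1 := coeff_eq_zero_of_mem_span_X_pow (M + N) _ hc
    (d + M • ∑ i : Fin n, Finsupp.single i 1) (fun j => by
      have : (∑ i : Fin n, Finsupp.single i 1 : Fin n →₀ ℕ) j = 1 := by
        rw [Finsupp.finset_sum_apply]
        simp [Finsupp.single_apply]
      rw [Finsupp.add_apply, Finsupp.smul_apply, this, smul_eq_mul, mul_one]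
      have := hd j
      omega)
  rw [prod_X_pow, coeff_add_mul_monomial, mul_one] at h1
  exact h1

/-- a power series in `(X_i^{p^e})`-colon for all `e` is zero -/
theorem eq_zero_of_forall_mul_prod_mem (p : ℕ) (hp : 1 < p) (K : ℕ)
    (c : MvPowerSeries (Fin n) k)
    (hc : ∀ e : ℕ, c * (∏ i : Fin n, (X i : MvPowerSeries (Fin n) k)) ^ (K * p ^ e) ∈
      Ideal.span (Set.range fun i : Fin n =>
        (X i : MvPowerSeries (Fin n) k) ^ (K * p ^ e + p ^ e))) : c = 0 := by
  classical
  ext d
  rw [map_zero]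
  let e := Finset.univ.sup (fun i : Fin n => d i)
  refine coeff_eq_zero_of_mul_prod_mem (K * p ^ e) (p ^ e) c (hc e) d (fun i => ?_)
  have h1 : d i ≤ e := Finset.le_sup (f := fun i : Fin n => d i) (Finset.mem_univ i)
  exact lt_of_le_of_lt h1 (Nat.lt_pow_self hp)

end PowerSeries

section Frobenius

theorem pow_mem_span_pow (p : ℕ) [Fact p.Prime] {R : Type*} [CommRing R] [CharP R p]
    {ι : Type*} (f : ι → R) (x : R) (hx : x ∈ Ideal.span (Set.range f)) (e : ℕ) :
    x ^ p ^ e ∈ Ideal.span (Set.range fun i => f i ^ p ^ e) := by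
  have h1 := Ideal.mem_map_of_mem (iterateFrobenius R p e) hx
  rw [Ideal.map_span, ← Set.range_comp] at h1
  rw [iterateFrobenius_def] at h1
  convert h1 using 3
  funext i
  rw [Function.comp_apply, iterateFrobenius_def]

end Frobenius

end Groth.Agent.Lib.MonomialCharPH3

namespace Groth.Agent.Lib.MonomialCharPH3

universe u

open IsLocalRing

section Main

/-- The complete-domain case. -/
theorem not_mem_of_complete_domain (p : ℕ) [Fact p.Prime] (A : Type u) [CommRing A] [IsDomain A]
    [IsLocalRing A] [IsNoetherianRing A] [IsAdicComplete (maximalIdeal A) A]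
    (hp0 : (p : A) = 0) (n : ℕ) (hdim : ringKrullDim A = n) (a : Fin n → A)
    (ham : ∀ i, a i ∈ maximalIdeal A)
    (hrad : maximalIdeal A ≤ (Ideal.span (Set.range a)).radical) (K : ℕ)
    (h : ∀ e : ℕ, (∏ i, a i) ^ (K * p ^ e) ∈
      Ideal.span (Set.range fun i => a i ^ (K * p ^ e + p ^ e))) : False := by
  classical
  obtain ⟨s, hs⟩ := Groth.Agent.Lib.CoeffFieldPH3.exists_section_of_charP p A hp0
  letI algk : Algebra (ResidueField A) A := s.toAlgebra
  have halg : ∀ c : ResidueField A, algebraMap (ResidueField A) A c = s c := fun c => rfl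
  haveI : IsAdicComplete (maximalIdeal (ResidueField A)) (ResidueField A) := by
    rw [IsLocalRing.maximalIdeal_eq_bot]
    infer_instance
  obtain ⟨w, hwX, hwinj, hwfin⟩ :=
    Groth.Agent.Lib.FinitePSH3.exists_powerSeries_finite' (Λ := ResidueField A) (A := A)
      (fun c hc => by
        rw [IsLocalRing.maximalIdeal_eq_bot, Ideal.mem_bot] at hc
        rw [hc, map_zero]
        exact Ideal.zero_mem _)
      (fun y => ⟨y, by
        rw [RingHom.comp_apply, halg]
        exact RingHom.congr_fun hs y⟩)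
      n a ham
      (hrad.trans (Ideal.radical_mono le_sup_right))
      (by
        rw [IsLocalRing.maximalIdeal_eq_bot, Submodule.spanFinrank_bot, zero_add, hdim])
  letI algP : Algebra (MvPowerSeries (Fin n) (ResidueField A)) A := w.toRingHom.toAlgebra
  have halgP : ∀ g : MvPowerSeries (Fin n) (ResidueField A),
      algebraMap (MvPowerSeries (Fin n) (ResidueField A)) A g = w g := fun g => rfl
  haveI : Module.Finite (MvPowerSeries (Fin n) (ResidueField A)) A := hwfin
  haveI : IsDomain (MvPowerSeries (Fin n) (ResidueField A)) := NoZeroDivisors.to_isDomain _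
  obtain ⟨ψ, hψ⟩ := exists_linearMap_ne_zero
    (P := MvPowerSeries (Fin n) (ResidueField A)) (M := A) (1 : A) (fun g hg h0 => by
      rw [Algebra.smul_def, mul_one, halgP] at h0
      exact hg (hwinj (by rw [h0, map_zero])))
  apply hψ
  apply eq_zero_of_forall_mul_prod_mem p (Fact.out : p.Prime).one_lt K
  intro e
  obtain ⟨r, hr⟩ := Ideal.mem_span_range_iff_exists_fun.1 (h e)
  have h1 : ψ ((∏ i, a i) ^ (K * p ^ e)) =
      ψ 1 * (∏ i : Fin n, (MvPowerSeries.X i : MvPowerSeries (Fin n) (ResidueField A))) ^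
        (K * p ^ e) := by
    have h2 : (∏ i, a i) ^ (K * p ^ e) =
        ((∏ i : Fin n, (MvPowerSeries.X i : MvPowerSeries (Fin n) (ResidueField A))) ^
          (K * p ^ e)) • (1 : A) := by
      rw [Algebra.smul_def, mul_one, halgP, map_pow, map_prod]
      congr 1
      exact Finset.prod_congr rfl fun i _ => (hwX i).symm
    rw [h2, map_smul, smul_eq_mul, mul_comm]
  rw [← h1, ← hr, map_sum]
  refine Ideal.sum_mem _ fun i _ => ?_
  have h3 : r i * a i ^ (K * p ^ e + p ^ e) =
      ((MvPowerSeries.X i : MvPowerSeries (Fin n) (ResidueField A)) ^ (K * p ^ e + p ^ e)) •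
        r i := by
    rw [Algebra.smul_def, halgP, map_pow, hwX, mul_comm]
  rw [h3, map_smul, smul_eq_mul]
  exact Ideal.mul_mem_right _ _ (Ideal.subset_span ⟨i, rfl⟩)

/-- The monomial property for systems of parameters in characteristic `p`. -/
theorem monomial_not_mem (p : ℕ) [Fact p.Prime] (R : Type u) [CommRing R] [IsNoetherianRing R]
    [IsLocalRing R] [CharP R p] (n : ℕ) (hdim : ringKrullDim R = n) (a : Fin n → R)
    (hsop : (Ideal.span (Set.range a)).radical = maximalIdeal R) (k : ℕ) :
    (∏ i, a i) ^ k ∉ Ideal.span (Set.range fun i => a i ^ (k + 1)) := by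
  classical
  intro hmem
  -- the completion
  have hne : maximalIdeal R ≠ ⊤ := (maximalIdeal.isMaximal R).ne_top
  haveI : IsNoetherianRing (AdicCompletion (maximalIdeal R) R) :=
    Groth.Agent.RegularLib.isNoetherianRing_adicCompletion R _
  have hdim' : ringKrullDim (AdicCompletion (maximalIdeal R) R) = n :=
    (Groth.Agent.RegularLib.ringKrullDim_adicCompletion R _ hne).trans hdim
  obtain ⟨P₀, hP₀, hdimA⟩ := exists_prime_dim_eq _ n hdim'
  haveI := hP₀
  haveI : IsLocalRing (AdicCompletion (maximalIdeal R) R ⧸ P₀) :=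
    IsLocalRing.of_surjective' (Ideal.Quotient.mk P₀) Ideal.Quotient.mk_surjective
  haveI : IsAdicComplete (maximalIdeal (AdicCompletion (maximalIdeal R) R ⧸ P₀))
      (AdicCompletion (maximalIdeal R) R ⧸ P₀) := isAdicComplete_quotient _ P₀
  let π : R →+* AdicCompletion (maximalIdeal R) R ⧸ P₀ :=
    (Ideal.Quotient.mk P₀).comp (algebraMap R (AdicCompletion (maximalIdeal R) R))
  have hπ𝔪 : (maximalIdeal R).map π = maximalIdeal (AdicCompletion (maximalIdeal R) R ⧸ P₀) := by
    rw [← Ideal.map_map, ← AdicCompletion.maximalIdeal_eq_map, map_mk_maximalIdeal]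
  have hp0 : ((p : ℕ) : AdicCompletion (maximalIdeal R) R ⧸ P₀) = 0 := by
    rw [← map_natCast π, CharP.cast_eq_zero, map_zero]
  have ham : ∀ i, a i ∈ maximalIdeal R := fun i => by
    rw [← hsop]
    exact Ideal.le_radical (Ideal.subset_span ⟨i, rfl⟩)
  have hspan : (Ideal.span (Set.range a)).map π = Ideal.span (Set.range fun i => π (a i)) := by
    rw [Ideal.map_span, ← Set.range_comp]
    rfl
  obtain ⟨N, hN⟩ := Ideal.exists_pow_le_of_le_radical_of_fg (le_of_eq hsop.symm)
    (IsNoetherian.noetherian (maximalIdeal R))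
  have hrad : maximalIdeal (AdicCompletion (maximalIdeal R) R ⧸ P₀) ≤
      (Ideal.span (Set.range fun i => π (a i))).radical := by
    intro x hx
    refine ⟨N, ?_⟩
    rw [← hspan]
    have h1 : x ^ N ∈ (maximalIdeal (AdicCompletion (maximalIdeal R) R ⧸ P₀)) ^ N :=
      Ideal.pow_mem_pow hx N
    rw [← hπ𝔪, ← Ideal.map_pow] at h1
    exact Ideal.map_mono hN h1
  refine not_mem_of_complete_domain p (AdicCompletion (maximalIdeal R) R ⧸ P₀) hp0 n hdimA
    (fun i => π (a i)) (fun i => ?_) hrad k (fun e => ?_)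
  · rw [← hπ𝔪]
    exact Ideal.mem_map_of_mem _ (ham i)
  · have h1 := pow_mem_span_pow p (fun i => a i ^ (k + 1)) _ hmem e
    have h2 := Ideal.mem_map_of_mem π h1
    rw [Ideal.map_span, ← Set.range_comp] at h2
    have h3 : π (((∏ i, a i) ^ k) ^ p ^ e) = (∏ i, π (a i)) ^ (k * p ^ e) := by
      rw [← pow_mul, map_pow, map_prod]
    rw [h3] at h2
    have h4 : (fun i => π (a i) ^ (k * p ^ e + p ^ e)) =
        (⇑π ∘ fun i => (a i ^ (k + 1)) ^ p ^ e) := by
      funext i
      rw [Function.comp_apply, map_pow, map_pow, ← pow_mul, add_mul, one_mul]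
    rw [h4]
    exact h2

end Main

end Groth.Agent.Lib.MonomialCharPH3
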