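import Mathlib
import Groth.Prelude.Def_Found

/-!
# N-1 / N-2 (Japanese) rings: localization and covers (helper9)
-/

set_option autoImplicit false
universe u v w

namespace Groth.Agent.Lib.Japanese

open CAlg

section general

variable {R : Type*} [CommRing R]

/-- If the integral closure of `R` in `L` is a finite `R`-module, then the integral closure
of a localization `S = M⁻¹R` in `L` is a finite `S`-module. -/
theorem finite_integralClosure_of_isLocalization (M : Submonoid R) (S : Type*) [CommRing S]
    [Algebra R S] [IsLocalization M S] (L : Type*) [CommRing L] [Algebra R L] [Algebra S L]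
    [IsScalarTower R S L] (h : Module.Finite R (integralClosure R L)) :
    Module.Finite S (integralClosure S L) := by
  have hfg : (integralClosure R L).toSubmodule.FG :=
    (Module.Finite.iff_fg (N := (integralClosure R L).toSubmodule)).mp h
  obtain ⟨s, hs⟩ := hfg
  have key : (integralClosure S L).toSubmodule = Submodule.span S (s : Set L) := by
    apply le_antisymm
    · intro x hx
      have hx' : IsIntegral S x := hx
      obtain ⟨m, hm⟩ := IsIntegral.exists_multiple_integral_of_isLocalization M x hx'
      have hmem : (m : R) • x ∈ Submodule.span R (s : Set L) := by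
        rw [hs]; exact hm
      have h1 : (m : R) • x ∈ (Submodule.span S (s : Set L)).restrictScalars R :=
        Submodule.span_le_restrictScalars R S _ hmem
      have hu : IsUnit (algebraMap R S m) := IsLocalization.map_units S m
      obtain ⟨u, hu⟩ := hu
      have h2 : (↑u⁻¹ : S) • ((m : R) • x) ∈ Submodule.span S (s : Set L) :=
        Submodule.smul_mem _ _ h1
      have h3 : (↑u⁻¹ : S) • ((m : R) • x) = x := by
        rw [← algebraMap_smul S (m : R) x, ← hu, smul_smul, Units.inv_mul, one_smul]
      rwa [h3] at h2
    · rw [Submodule.span_le]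
      intro x hx
      have hxR : x ∈ (integralClosure R L).toSubmodule := by
        rw [← hs]; exact Submodule.subset_span hx
      have hxR' : IsIntegral R x := hxR
      exact hxR'.tower_top
  exact (Module.Finite.iff_fg (N := (integralClosure S L).toSubmodule)).mpr ⟨s, key.symm⟩

/-- If `f i` span the unit ideal and the integral closure of each `R_{f i}` in `L` is finite,
then the integral closure of `R` in `L` is finite. -/
theorem finite_integralClosure_of_span_eq_top {ι : Type*} [Finite ι] (f : ι → R)
    (hf : Ideal.span (Set.range f) = ⊤) (Rf : ι → Type*) [∀ i, CommRing (Rf i)]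
    [∀ i, Algebra R (Rf i)] [∀ i, IsLocalization.Away (f i) (Rf i)]
    (L : Type*) [CommRing L] [Algebra R L] [∀ i, Algebra (Rf i) L]
    [∀ i, IsScalarTower R (Rf i) L]
    (h : ∀ i, Module.Finite (Rf i) (integralClosure (Rf i) L)) :
    Module.Finite R (integralClosure R L) := by
  classical
  have hgen : ∀ i, ∃ t : Finset L, (∀ y ∈ t, IsIntegral R y) ∧
      (integralClosure (Rf i) L).toSubmodule ≤ Submodule.span (Rf i) (t : Set L) := by
    intro i
    obtain ⟨t, ht⟩ :=
      (Module.Finite.iff_fg (N := (integralClosure (Rf i) L).toSubmodule)).mp (h i)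
    have hn : ∀ y : L, ∃ m : Submonoid.powers (f i), y ∈ t → IsIntegral R (m • y) := by
      intro y
      by_cases hy : y ∈ t
      · have h1 : y ∈ (integralClosure (Rf i) L).toSubmodule := by
          rw [← ht]; exact Submodule.subset_span hy
        have h2 : IsIntegral (Rf i) y := h1
        obtain ⟨m, hm⟩ := IsIntegral.exists_multiple_integral_of_isLocalization
          (Submonoid.powers (f i)) y h2
        exact ⟨m, fun _ => hm⟩
      · exact ⟨1, fun h => absurd h hy⟩
    choose m hm using hn
    refine ⟨t.image (fun y => m y • y), ?_, ?_⟩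
    · intro y hy
      obtain ⟨z, hz, rfl⟩ := Finset.mem_image.mp hy
      exact hm z hz
    · rw [← ht, Submodule.span_le]
      intro y hy
      have hu : IsUnit (algebraMap R (Rf i) (m y)) := IsLocalization.map_units (Rf i) (m y)
      obtain ⟨u, hu⟩ := hu
      have h3 : (↑u⁻¹ : Rf i) • (m y • y) = y := by
        rw [Submonoid.smul_def, ← algebraMap_smul (Rf i) ((m y : Submonoid.powers (f i)) : R) y,
          ← hu, smul_smul, Units.inv_mul, one_smul]
      have h4 : (↑u⁻¹ : Rf i) • (m y • y) ∈
          Submodule.span (Rf i) ((t.image (fun y => m y • y) : Finset L) : Set L) := by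
        apply Submodule.smul_mem
        apply Submodule.subset_span
        exact Finset.mem_coe.mpr (Finset.mem_image.mpr ⟨y, hy, rfl⟩)
      rw [h3] at h4
      exact h4
  choose t ht1 ht2 using hgen
  cases nonempty_fintype ι
  let T : Finset L := Finset.univ.biUnion t
  have hTC : Submodule.span R (T : Set L) ≤ (integralClosure R L).toSubmodule := by
    rw [Submodule.span_le]
    intro y hy
    obtain ⟨i, -, hi⟩ := Finset.mem_biUnion.mp (Finset.mem_coe.mp hy)
    exact ht1 i y hi
  have hCT : (integralClosure R L).toSubmodule ≤ Submodule.span R (T : Set L) := by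
    intro x hx
    have hxR : IsIntegral R x := hx
    apply Submodule.mem_of_span_eq_top_of_smul_pow_mem _ (Set.range f) hf
    rintro ⟨_, i, rfl⟩
    have hxi : x ∈ Submodule.span (Rf i) (t i : Set L) := ht2 i (hxR.tower_top)
    have key : ∀ z ∈ Submodule.span (Rf i) (t i : Set L),
        ∃ n : ℕ, (f i ^ n) • z ∈ Submodule.span R (T : Set L) := by
      intro z hz
      induction hz using Submodule.span_induction with
      | mem z hz =>
        refine ⟨0, ?_⟩
        rw [pow_zero, one_smul]
        exact Submodule.subset_span
          (Finset.mem_coe.mpr (Finset.mem_biUnion.mpr ⟨i, Finset.mem_univ _, hz⟩))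
      | zero => exact ⟨0, by simp⟩
      | add a b _ _ ha hb =>
        obtain ⟨n1, h1⟩ := ha
        obtain ⟨n2, h2⟩ := hb
        refine ⟨n1 + n2, ?_⟩
        rw [smul_add]
        apply Submodule.add_mem
        · rw [pow_add, mul_comm, mul_smul]; exact Submodule.smul_mem _ _ h1
        · rw [pow_add, mul_smul]; exact Submodule.smul_mem _ _ h2
      | smul c a _ ha =>
        obtain ⟨n, hn⟩ := ha
        obtain ⟨⟨r, ⟨_, k, rfl⟩⟩, hr⟩ := IsLocalization.surj (Submonoid.powers (f i)) c
        refine ⟨n + k, ?_⟩
        have h5 : (f i ^ (n + k)) • (c • a) = r • ((f i ^ n) • a) := by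
          rw [← algebraMap_smul (Rf i) (f i ^ (n + k)) (c • a), ← algebraMap_smul (Rf i) r,
            ← algebraMap_smul (Rf i) (f i ^ n) a, smul_smul, smul_smul, ← hr, pow_add, map_mul]
          congr 1
          simp only
          ring
        rw [h5]
        exact Submodule.smul_mem _ _ hn
    exact key x hxi
  exact (Module.Finite.iff_fg (N := (integralClosure R L).toSubmodule)).mpr
    ⟨T, le_antisymm hTC hCT⟩

end general

section models

variable (R : Type u) [CommRing R] [IsDomain R]

/-- N-1 does not depend on the model of the fraction field. -/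
theorem isN1_iff (K : Type v) [Field K] [Algebra R K] [IsFractionRing R K] :
    IsN1 R ↔ Module.Finite R (integralClosure R K) := by
  unfold IsN1
  let e : FractionRing R ≃ₐ[R] K := FractionRing.algEquiv R K
  exact ⟨fun h => Module.Finite.equiv e.mapIntegralClosure.toLinearEquiv,
    fun h => Module.Finite.equiv e.mapIntegralClosure.symm.toLinearEquiv⟩

/-- Model independent version of N-2. -/
def IsN2' : Prop :=
  ∀ (K : Type u) (L : Type u) [Field K] [Field L] [Algebra R K] [IsFractionRing R K] [Algebra R L]
    [Algebra K L] [IsScalarTower R K L], FiniteDimensional K L →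
    Module.Finite R (integralClosure R L)

theorem isN2_iff_isN2' : IsN2 R ↔ IsN2' R := by
  constructor
  · intro h K L _ _ _ _ _ _ _ hfin
    let e : FractionRing R ≃ₐ[R] K := FractionRing.algEquiv R K
    letI : Algebra (FractionRing R) L :=
      ((algebraMap K L).comp (e : FractionRing R →+* K)).toAlgebra
    haveI : IsScalarTower R (FractionRing R) L := IsScalarTower.of_algebraMap_eq (fun x => by
      simp [RingHom.algebraMap_toAlgebra, IsScalarTower.algebraMap_apply R K L])
    have : FiniteDimensional (FractionRing R) L :=
      Module.Finite.of_equiv_equiv (A₁ := K) (B₁ := L) e.symm.toRingEquiv (RingEquiv.refl L)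
        (by ext x; simp [RingHom.algebraMap_toAlgebra])
    exact h L this
  · intro h L _ _ _ _ hfin
    exact h (FractionRing R) L hfin

end models

section loc

variable {R : Type u} [CommRing R] [IsDomain R]

theorem le_nonZeroDivisors_of_isLocalization (M : Submonoid R) (S : Type*) [CommRing S]
    [Nontrivial S] [Algebra R S] [IsLocalization M S] : M ≤ nonZeroDivisors R := by
  intro m hm
  rw [mem_nonZeroDivisors_iff_ne_zero]
  rintro rfl
  have := IsLocalization.map_units S (⟨0, hm⟩ : M)
  simp at this

/-- A fraction field of a localization `S` of `R` (a domain) is a fraction field of `R`. -/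
theorem isFractionRing_of_isLocalization_of_isFractionRing (M : Submonoid R) (S : Type*)
    [CommRing S] [IsDomain S] [Algebra R S] [IsLocalization M S] (K : Type*) [Field K]
    [Algebra R K] [Algebra S K] [IsScalarTower R S K] [IsFractionRing S K] :
    IsFractionRing R K := by
  have hM := le_nonZeroDivisors_of_isLocalization M S
  have hinj : Function.Injective (algebraMap R K) := by
    rw [IsScalarTower.algebraMap_eq R S K]
    exact (IsFractionRing.injective S K).comp (IsLocalization.injective S hM)
  haveI : FaithfulSMul R K := (faithfulSMul_iff_algebraMap_injective R K).mpr hinj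
  apply IsFractionRing.of_field
  intro z
  obtain ⟨x, y, hy, rfl⟩ := IsFractionRing.div_surjective (A := S) z
  obtain ⟨⟨a, m⟩, ha⟩ := IsLocalization.surj M x
  obtain ⟨⟨b, n⟩, hb⟩ := IsLocalization.surj M y
  have hm0 : algebraMap R K m ≠ 0 := by
    rw [Ne, map_eq_zero_iff _ hinj]
    exact nonZeroDivisors.ne_zero (hM m.2)
  have hn0 : algebraMap R K n ≠ 0 := by
    rw [Ne, map_eq_zero_iff _ hinj]
    exact nonZeroDivisors.ne_zero (hM n.2)
  have hy0 : algebraMap S K y ≠ 0 := by
    rw [Ne, map_eq_zero_iff _ (IsFractionRing.injective S K)]
    exact nonZeroDivisors.ne_zero hy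
  have ha' : algebraMap S K x * algebraMap R K m = algebraMap R K a := by
    have := congrArg (algebraMap S K) ha
    simpa [IsScalarTower.algebraMap_apply R S K] using this
  have hb' : algebraMap S K y * algebraMap R K n = algebraMap R K b := by
    have := congrArg (algebraMap S K) hb
    simpa [IsScalarTower.algebraMap_apply R S K] using this
  refine ⟨a * n, b * m, ?_⟩
  have hb0 : algebraMap R K b ≠ 0 := by
    rw [← hb']; exact mul_ne_zero hy0 hn0
  rw [map_mul, map_mul, ← ha', ← hb']
  field_simp

end loc

section main

variable (R : Type u) [CommRing R] [IsDomain R]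

/-- A localization (which is a domain) of an N-1 domain is N-1. -/
theorem isN1_of_isLocalization (M : Submonoid R) (S : Type u) [CommRing S] [IsDomain S]
    [Algebra R S] [IsLocalization M S] (h : IsN1 R) : IsN1 S := by
  have hM := le_nonZeroDivisors_of_isLocalization M S
  letI : Algebra S (FractionRing R) :=
    (IsLocalization.lift (M := M) (g := algebraMap R (FractionRing R))
      (fun m => IsLocalization.map_units (FractionRing R) ⟨m.1, hM m.2⟩)).toAlgebra
  haveI : IsScalarTower R S (FractionRing R) := IsScalarTower.of_algebraMap_eq (fun x => by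
    simp [RingHom.algebraMap_toAlgebra])
  haveI : IsFractionRing S (FractionRing R) :=
    IsFractionRing.isFractionRing_of_isDomain_of_isLocalization M S (FractionRing R)
  rw [isN1_iff S (FractionRing R)]
  exact finite_integralClosure_of_isLocalization M S (FractionRing R)
    ((isN1_iff R (FractionRing R)).mp h)

/-- A localization (which is a domain) of an N-2 domain is N-2. -/
theorem isN2_of_isLocalization (M : Submonoid R) (S : Type u) [CommRing S] [IsDomain S]
    [Algebra R S] [IsLocalization M S] (h : IsN2 R) : IsN2 S := by
  rw [isN2_iff_isN2'] at h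
  intro L _ _ _ _ hfin
  letI : Algebra R L := ((algebraMap S L).comp (algebraMap R S)).toAlgebra
  haveI : IsScalarTower R S L := IsScalarTower.of_algebraMap_eq (fun x => rfl)
  haveI : IsScalarTower R (FractionRing S) L := IsScalarTower.of_algebraMap_eq (fun x => by
    rw [IsScalarTower.algebraMap_apply R S L, IsScalarTower.algebraMap_apply S (FractionRing S) L,
      ← IsScalarTower.algebraMap_apply R S (FractionRing S)])
  haveI : IsFractionRing R (FractionRing S) :=
    isFractionRing_of_isLocalization_of_isFractionRing M S (FractionRing S)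
  exact finite_integralClosure_of_isLocalization M S L (h (FractionRing S) L hfin)

/-- N-1 can be checked on a finite principal cover by domains. -/
theorem isN1_of_span_eq_top {ι : Type*} [Finite ι] (f : ι → R)
    (hf : Ideal.span (Set.range f) = ⊤)
    (Rf : ι → Type u) [∀ i, CommRing (Rf i)] [∀ i, IsDomain (Rf i)] [∀ i, Algebra R (Rf i)]
    [∀ i, IsLocalization.Away (f i) (Rf i)] (h : ∀ i, IsN1 (Rf i)) : IsN1 R := by
  have hM : ∀ i, Submonoid.powers (f i) ≤ nonZeroDivisors R :=
    fun i => le_nonZeroDivisors_of_isLocalization _ (Rf i)
  letI : ∀ i, Algebra (Rf i) (FractionRing R) := fun i =>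
    (IsLocalization.lift (M := Submonoid.powers (f i)) (g := algebraMap R (FractionRing R))
      (fun m => IsLocalization.map_units (FractionRing R) ⟨m.1, hM i m.2⟩)).toAlgebra
  haveI : ∀ i, IsScalarTower R (Rf i) (FractionRing R) := fun i =>
    IsScalarTower.of_algebraMap_eq (fun x => by simp [RingHom.algebraMap_toAlgebra])
  haveI : ∀ i, IsFractionRing (Rf i) (FractionRing R) := fun i =>
    IsFractionRing.isFractionRing_of_isDomain_of_isLocalization (Submonoid.powers (f i)) (Rf i)
      (FractionRing R)
  rw [isN1_iff R (FractionRing R)]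
  exact finite_integralClosure_of_span_eq_top f hf Rf (FractionRing R)
    (fun i => (isN1_iff (Rf i) (FractionRing R)).mp (h i))

/-- N-2 can be checked on a finite principal cover by domains. -/
theorem isN2_of_span_eq_top {ι : Type*} [Finite ι] (f : ι → R)
    (hf : Ideal.span (Set.range f) = ⊤)
    (Rf : ι → Type u) [∀ i, CommRing (Rf i)] [∀ i, IsDomain (Rf i)] [∀ i, Algebra R (Rf i)]
    [∀ i, IsLocalization.Away (f i) (Rf i)] (h : ∀ i, IsN2 (Rf i)) : IsN2 R := by
  have hM : ∀ i, Submonoid.powers (f i) ≤ nonZeroDivisors R :=
    fun i => le_nonZeroDivisors_of_isLocalization _ (Rf i)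
  intro L _ _ _ _ hfin
  letI : ∀ i, Algebra (Rf i) (FractionRing R) := fun i =>
    (IsLocalization.lift (M := Submonoid.powers (f i)) (g := algebraMap R (FractionRing R))
      (fun m => IsLocalization.map_units (FractionRing R) ⟨m.1, hM i m.2⟩)).toAlgebra
  haveI : ∀ i, IsScalarTower R (Rf i) (FractionRing R) := fun i =>
    IsScalarTower.of_algebraMap_eq (fun x => by simp [RingHom.algebraMap_toAlgebra])
  haveI : ∀ i, IsFractionRing (Rf i) (FractionRing R) := fun i =>
    IsFractionRing.isFractionRing_of_isDomain_of_isLocalization (Submonoid.powers (f i)) (Rf i)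
      (FractionRing R)
  letI : ∀ i, Algebra (Rf i) L := fun i =>
    ((algebraMap (FractionRing R) L).comp (algebraMap (Rf i) (FractionRing R))).toAlgebra
  haveI : ∀ i, IsScalarTower (Rf i) (FractionRing R) L := fun i =>
    IsScalarTower.of_algebraMap_eq (fun x => rfl)
  haveI : ∀ i, IsScalarTower R (Rf i) L := fun i =>
    IsScalarTower.of_algebraMap_eq (fun x => by
      rw [IsScalarTower.algebraMap_apply R (FractionRing R) L,
        IsScalarTower.algebraMap_apply (Rf i) (FractionRing R) L,
        ← IsScalarTower.algebraMap_apply R (Rf i) (FractionRing R)])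
  exact finite_integralClosure_of_span_eq_top f hf Rf L
    (fun i => (isN2_iff_isN2' (Rf i)).mp (h i) (FractionRing R) L hfin)

end main

end Groth.Agent.Lib.Japanese
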