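import Mathlib
import Groth.Prelude.Def_Found
import Groth.Agent.Lib.Japanese_helper9

/-!
# N-2 ascends along quasi-finite finite type extensions of domains (helper3)

Uses Mathlib's Zariski main theorem and helper9's localization/cover lemmas for N-2.
APPEND-ONLY once landed.
-/

set_option autoImplicit false
set_option maxSynthPendingDepth 3
universe u

namespace Groth.Agent.Lib.N2QuasiFiniteH3

open Groth.Agent.Lib.Japanese

/-- A finite injective extension of domains `R ⊆ B` with `R` N-2 has `B` N-2. -/
theorem isN2_of_finite_injective (R B : Type u) [CommRing R] [IsDomain R] [CommRing B] [IsDomain B]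
    [Algebra R B] [Module.Finite R B] (hinj : Function.Injective (algebraMap R B))
    (hR : CAlg.IsN2 R) : CAlg.IsN2 B := by
  intro L _ _ _ _ hfin
  haveI := hfin
  letI : Algebra R L := ((algebraMap B L).comp (algebraMap R B)).toAlgebra
  haveI : IsScalarTower R B L := IsScalarTower.of_algebraMap_eq (fun _ => rfl)
  have hinjBL : Function.Injective (algebraMap B L) := by
    rw [IsScalarTower.algebraMap_eq B (FractionRing B) L]
    exact (algebraMap (FractionRing B) L).injective.comp (IsFractionRing.injective B _)
  haveI : FaithfulSMul R L := (faithfulSMul_iff_algebraMap_injective R L).mpr (hinjBL.comp hinj)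
  letI : Algebra (FractionRing R) L := FractionRing.liftAlgebra R L
  haveI : IsScalarTower R (FractionRing R) L := FractionRing.isScalarTower_liftAlgebra R L
  haveI : IsScalarTower R (FractionRing B) L := IsScalarTower.of_algebraMap_eq (fun x => by
    rw [IsScalarTower.algebraMap_apply R B L, IsScalarTower.algebraMap_apply B (FractionRing B) L,
      ← IsScalarTower.algebraMap_apply R B (FractionRing B)])
  haveI : Algebra.EssFiniteType B (FractionRing B) :=
    Algebra.EssFiniteType.of_isLocalization (FractionRing B) (nonZeroDivisors B)
  haveI : Algebra.EssFiniteType R (FractionRing B) := Algebra.EssFiniteType.comp R B _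
  haveI : Algebra.EssFiniteType R L := Algebra.EssFiniteType.comp R (FractionRing B) L
  haveI : Algebra.EssFiniteType (FractionRing R) L := Algebra.EssFiniteType.of_comp R _ L
  haveI : Algebra.IsIntegral R B := Algebra.IsIntegral.of_finite R B
  haveI : Algebra.IsAlgebraic B L :=
    (IsFractionRing.comap_isAlgebraic_iff (A := B) (K := FractionRing B) (C := L)).mpr inferInstance
  haveI : Algebra.IsAlgebraic R L := Algebra.IsAlgebraic.trans R B L
  haveI : Algebra.IsAlgebraic (FractionRing R) L :=
    (IsFractionRing.comap_isAlgebraic_iff (A := R) (K := FractionRing R) (C := L)).mp inferInstance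
  have hfinR : FiniteDimensional (FractionRing R) L := Algebra.finite_of_essFiniteType_of_isAlgebraic
  have h1 : Module.Finite R (integralClosure R L) := hR L hfinR
  haveI := h1
  let g : integralClosure R L →ₗ[R] integralClosure B L :=
    { toFun := fun x => ⟨x.1, (x.2 : IsIntegral R x.1).tower_top⟩
      map_add' := fun x y => rfl
      map_smul' := fun c x => rfl }
  have hg : Function.Surjective g := by
    rintro ⟨y, hy⟩
    have hy' : IsIntegral B y := hy
    exact ⟨⟨y, isIntegral_trans (A := B) y hy'⟩, rfl⟩
  haveI : Module.Finite R (integralClosure B L) := Module.Finite.of_surjective g hg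
  exact Module.Finite.of_restrictScalars_finite R B _

/-- N-2 is invariant under ring isomorphisms. -/
theorem isN2_of_ringEquiv {A A' : Type u} [CommRing A] [IsDomain A] [CommRing A'] [IsDomain A']
    (e : A ≃+* A') (h : CAlg.IsN2 A) : CAlg.IsN2 A' := by
  classical
  rw [isN2_iff_isN2'] at h
  intro L _ _ _ _ hfin
  letI : Algebra A A' := e.toRingHom.toAlgebra
  letI : Algebra A L := ((algebraMap A' L).comp e.toRingHom).toAlgebra
  haveI : IsScalarTower A A' L := IsScalarTower.of_algebraMap_eq (fun _ => rfl)
  have halg : ∀ x : A, algebraMap A (FractionRing A') x = algebraMap A' (FractionRing A') (e x) :=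
    fun x => IsScalarTower.algebraMap_apply A A' (FractionRing A') x
  haveI : IsScalarTower A (FractionRing A') L := IsScalarTower.of_algebraMap_eq (fun x => by
    rw [halg]
    exact IsScalarTower.algebraMap_apply A' (FractionRing A') L (e x))
  have hinjA : Function.Injective (algebraMap A (FractionRing A')) := by
    intro x y hxy
    rw [halg, halg] at hxy
    exact e.injective (IsFractionRing.injective A' (FractionRing A') hxy)
  haveI : FaithfulSMul A (FractionRing A') :=
    (faithfulSMul_iff_algebraMap_injective A (FractionRing A')).mpr hinjA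
  haveI : IsFractionRing A (FractionRing A') := by
    apply IsFractionRing.of_field
    intro z
    obtain ⟨x, y, hy, rfl⟩ := IsFractionRing.div_surjective (A := A') z
    refine ⟨e.symm x, e.symm y, ?_⟩
    rw [halg, halg, e.apply_symm_apply, e.apply_symm_apply]
  have h1 : Module.Finite A (integralClosure A L) := h (FractionRing A') L hfin
  obtain ⟨T, hT⟩ := (Module.Finite.iff_fg (N := (integralClosure A L).toSubmodule)).mp h1
  haveI : Algebra.IsIntegral A A' := Algebra.isIntegral_of_surjective e.surjective
  refine (Module.Finite.iff_fg (N := (integralClosure A' L).toSubmodule)).mpr ⟨T, ?_⟩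
  apply le_antisymm
  · rw [Submodule.span_le]
    intro x hx
    have hx1 : x ∈ (integralClosure A L).toSubmodule := hT ▸ Submodule.subset_span hx
    have hx2 : IsIntegral A x := hx1
    exact (hx2.tower_top : IsIntegral A' x)
  · intro x hx
    have hx1 : IsIntegral A' x := hx
    have hx2 : IsIntegral A x := isIntegral_trans (A := A') x hx1
    have hx3 : x ∈ Submodule.span A (T : Set L) := by
      rw [hT]
      exact hx2
    exact Submodule.span_subset_span A A' _ hx3

section ZMT

variable {R S : Type u} [CommRing R] [IsDomain R] [CommRing S] [IsDomain S] [Algebra R S]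

/-- The local consequence of Zariski's main theorem. -/
theorem exists_away_isN2 (hinj : Function.Injective (algebraMap R S)) [Algebra.FiniteType R S]
    [Algebra.QuasiFinite R S] (hR : CAlg.IsN2 R) (q : Ideal S) [q.IsPrime] :
    ∃ r : S, r ∉ q ∧ ∃ (_ : IsDomain (Localization.Away r)), CAlg.IsN2 (Localization.Away r) := by
  obtain ⟨S', hfg, r, hrq, hbij⟩ :=
    Algebra.QuasiFiniteAt.exists_fg_and_exists_notMem_and_awayMap_bijective (R := R) q
  haveI : Module.Finite R S' := ⟨(Submodule.fg_top _).mpr hfg⟩
  have hinj' : Function.Injective (algebraMap R S') := by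
    intro x y hxy
    apply hinj
    have := congrArg (Subtype.val) hxy
    exact this
  have hS' : CAlg.IsN2 S' := isN2_of_finite_injective R S' hinj' hR
  have hr0 : (r : S) ≠ 0 := fun h => hrq (h ▸ q.zero_mem)
  have hr0' : r ≠ 0 := fun h => hr0 (by rw [h]; rfl)
  haveI hd1 : IsDomain (Localization.Away r) :=
    IsLocalization.isDomain_of_le_nonZeroDivisors _
      (powers_le_nonZeroDivisors_of_noZeroDivisors hr0')
  haveI hd2 : IsDomain (Localization.Away (r : S)) :=
    IsLocalization.isDomain_of_le_nonZeroDivisors _
      (powers_le_nonZeroDivisors_of_noZeroDivisors hr0)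
  have h1 : CAlg.IsN2 (Localization.Away r) :=
    isN2_of_isLocalization S' (Submonoid.powers r) (Localization.Away r) hS'
  let e : Localization.Away r ≃+* Localization.Away (r : S) :=
    RingEquiv.ofBijective (Localization.awayMap S'.val.toRingHom r) hbij
  exact ⟨r, hrq, hd2, isN2_of_ringEquiv e h1⟩

theorem main (hinj : Function.Injective (algebraMap R S)) [Algebra.FiniteType R S]
    [Algebra.QuasiFinite R S] (hR : CAlg.IsN2 R) : CAlg.IsN2 S := by
  classical
  have key : ∀ q : PrimeSpectrum S, ∃ r : S, r ∉ q.asIdeal ∧
      ∃ (_ : IsDomain (Localization.Away r)), CAlg.IsN2 (Localization.Away r) :=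
    fun q => exists_away_isN2 hinj hR q.asIdeal
  choose r hr hdom hN2 using key
  have hspan : Ideal.span (Set.range r) = ⊤ := by
    by_contra hne
    obtain ⟨m, hm, hle⟩ := Ideal.exists_le_maximal _ hne
    exact hr ⟨m, hm.isPrime⟩ (hle (Ideal.subset_span ⟨_, rfl⟩))
  obtain ⟨t, ht, htop⟩ := (Ideal.span_eq_top_iff_finite _).mp hspan
  have hq : ∀ i : t, ∃ q : PrimeSpectrum S, r q = i.1 := fun i => ht i.2
  choose qi hqi using hq
  let f : t → S := fun i => i.1
  have hf : Ideal.span (Set.range f) = ⊤ := by
    have : Set.range f = (t : Set S) := by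
      ext x
      constructor
      · rintro ⟨i, rfl⟩
        exact i.2
      · intro hx
        exact ⟨⟨x, hx⟩, rfl⟩
    rw [this]
    exact htop
  haveI hdom' : ∀ i : t, IsDomain (Localization.Away (f i)) := fun i => by
    have := hdom (qi i)
    rw [hqi i] at this
    exact this
  have hN2' : ∀ i : t, CAlg.IsN2 (Localization.Away (f i)) := fun i => by
    have h1 := hN2 (qi i)
    have key2 : ∀ (x y : S) (hxy : x = y) (d1 : IsDomain (Localization.Away x))
        (d2 : IsDomain (Localization.Away y)),
        @CAlg.IsN2 (Localization.Away x) _ d1 → @CAlg.IsN2 (Localization.Away y) _ d2 := by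
      intro x y hxy d1 d2 h
      subst hxy
      exact h
    exact key2 _ _ (hqi i) _ _ h1
  exact isN2_of_span_eq_top S f hf (fun i => Localization.Away (f i)) hN2'

end ZMT

end Groth.Agent.Lib.N2QuasiFiniteH3
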