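import Mathlib

/-!
# Power series over a Noetherian normal domain are normal (helper3)
APPEND-ONLY once landed.
-/

set_option autoImplicit false
universe u

namespace Groth.Agent.Lib.PSNormalH3

open PowerSeries
open scoped nonZeroDivisors

section Coeff

variable {R S : Type*} [CommRing R] [IsDomain R] [CommRing S] [IsDomain S] [Algebra R S]
  [FaithfulSMul R S]

/-- the algebra `R⟦X⟧ → S⟦X⟧` -/
noncomputable abbrev psAlg : Algebra R⟦X⟧ S⟦X⟧ := (PowerSeries.map (algebraMap R S)).toAlgebra

attribute [local instance] psAlg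

theorem isAlmostIntegral_constantCoeff {q : S⟦X⟧} (hq : IsAlmostIntegral R⟦X⟧ q) :
    IsAlmostIntegral R (constantCoeff q) := by
  obtain ⟨c, hc, hc'⟩ := hq
  have hc0 : c ≠ 0 := nonZeroDivisors.ne_zero hc
  refine ⟨coeff c.order.toNat c, mem_nonZeroDivisors_of_ne_zero (coeff_order hc0), fun n => ?_⟩
  obtain ⟨a, ha⟩ := hc' n
  refine ⟨coeff c.order.toNat a, ?_⟩
  have h1 := congrArg (coeff c.order.toNat) ha
  rw [Algebra.smul_def] at h1
  change coeff _ (map (algebraMap R S) a) = coeff _ (map (algebraMap R S) c * q ^ n) at h1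
  rw [coeff_map, coeff_mul, Finset.sum_eq_single (c.order.toNat, 0)] at h1
  · rw [h1, coeff_map, coeff_zero_eq_constantCoeff_apply, map_pow, Algebra.smul_def]
  · rintro ⟨i, j⟩ hij hne
    have hij' : i + j = c.order.toNat := Finset.HasAntidiagonal.mem_antidiagonal.mp hij
    have hlt : i < c.order.toNat := by
      by_contra hlt
      push Not at hlt
      have hj : j = 0 := by omega
      have hi : i = c.order.toNat := by omega
      exact hne (by rw [hi, hj])
    rw [coeff_map, coeff_of_lt_order_toNat _ hlt, map_zero, zero_mul]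
  · intro h
    exact absurd (Finset.HasAntidiagonal.mem_antidiagonal.mpr (add_zero _)) h

theorem isAlmostIntegral_C {s : S} (hs : IsAlmostIntegral R s) :
    IsAlmostIntegral R⟦X⟧ (C s : S⟦X⟧) := by
  obtain ⟨r, hr, hr'⟩ := hs
  have hr0 : r ≠ 0 := nonZeroDivisors.ne_zero hr
  refine ⟨C r, mem_nonZeroDivisors_of_ne_zero
    (fun h => hr0 (PowerSeries.C_injective (by rw [h, map_zero]))), fun n => ?_⟩
  obtain ⟨a, ha⟩ := hr' n
  refine ⟨C a, ?_⟩
  rw [Algebra.smul_def]
  change map (algebraMap R S) (C a) = map (algebraMap R S) (C r) * (C s) ^ n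
  rw [map_C, map_C, ha, Algebra.smul_def, ← map_pow, ← map_mul]

theorem isAlmostIntegral_of_X_mul {p : S⟦X⟧} (h : IsAlmostIntegral R⟦X⟧ (X * p)) :
    IsAlmostIntegral R⟦X⟧ p := by
  obtain ⟨c, hc, hc'⟩ := h
  refine ⟨c, hc, fun n => ?_⟩
  obtain ⟨a, ha⟩ := hc' n
  rw [Algebra.smul_def] at ha
  change map (algebraMap R S) a = map (algebraMap R S) c * (X * p) ^ n at ha
  have h1 : map (algebraMap R S) a = X ^ n * (map (algebraMap R S) c * p ^ n) := by
    rw [ha, mul_pow]
    ring
  have h2 : (X : R⟦X⟧) ^ n ∣ a := by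
    rw [X_pow_dvd_iff]
    intro m hm
    have h3 := congrArg (coeff m) h1
    rw [coeff_map, coeff_X_pow_mul', if_neg (by omega)] at h3
    exact (FaithfulSMul.algebraMap_injective R S) (by rw [h3, map_zero])
  obtain ⟨b, rfl⟩ := h2
  refine ⟨b, ?_⟩
  rw [map_mul, map_pow, map_X] at h1
  rw [Algebra.smul_def]
  exact mul_left_cancel₀ (pow_ne_zero n X_ne_zero) h1

theorem isAlmostIntegral_coeff {p : S⟦X⟧} (hp : IsAlmostIntegral R⟦X⟧ p) (i : ℕ) :
    IsAlmostIntegral R (coeff i p) := by
  induction i generalizing p with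
  | zero =>
    rw [coeff_zero_eq_constantCoeff_apply]
    exact isAlmostIntegral_constantCoeff hp
  | succ i ih =>
    have h0 := isAlmostIntegral_constantCoeff hp
    have h1 : IsAlmostIntegral R⟦X⟧ (X * mk fun j => coeff (j + 1) p) := by
      have h2 : X * (mk fun j => coeff (j + 1) p) = p - C (constantCoeff p) :=
        eq_sub_of_add_eq (eq_X_mul_shift_add_const p).symm
      rw [h2]
      exact (completeIntegralClosure R⟦X⟧ S⟦X⟧).sub_mem hp (isAlmostIntegral_C h0)
    have h3 := ih (isAlmostIntegral_of_X_mul h1)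
    rwa [coeff_mk] at h3

end Coeff

section Main

attribute [local instance] psAlg

set_option maxHeartbeats 1000000 in
theorem isIntegrallyClosed_powerSeries (R : Type u) [CommRing R] [IsDomain R] [IsNoetherianRing R]
    [IsIntegrallyClosed R] : IsIntegrallyClosed R⟦X⟧ := by
  classical
  rw [isIntegrallyClosed_iff (FractionRing R⟦X⟧)]
  intro f hf
  have hfa : IsAlmostIntegral R⟦X⟧ f := hf.isAlmostIntegral
  have hinj0 : Function.Injective ((algebraMap (FractionRing R)⟦X⟧
      (FractionRing (FractionRing R)⟦X⟧)).comp (map (algebraMap R (FractionRing R)))) := by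
    rw [RingHom.coe_comp]
    exact (IsFractionRing.injective (FractionRing R)⟦X⟧
      (FractionRing (FractionRing R)⟦X⟧)).comp
      (map_injective (algebraMap R (FractionRing R)) (IsFractionRing.injective R (FractionRing R)))
  let ψ : FractionRing R⟦X⟧ →+* FractionRing (FractionRing R)⟦X⟧ := IsFractionRing.lift hinj0
  have hψ : ∀ a : R⟦X⟧, ψ (algebraMap _ _ a) =
      algebraMap _ _ (map (algebraMap R (FractionRing R)) a) :=
    fun a => IsFractionRing.lift_algebraMap hinj0 a
  have hint : IsIntegral (FractionRing R)⟦X⟧ (ψ f) :=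
    hf.map_of_comp_eq (map (algebraMap R (FractionRing R))) ψ
      (RingHom.ext fun a => (hψ a).symm)
  obtain ⟨g, hg⟩ := IsIntegrallyClosed.isIntegral_iff.mp hint
  have hga : IsAlmostIntegral R⟦X⟧ g := by
    obtain ⟨c, hc, hc'⟩ := hfa
    refine ⟨c, hc, fun n => ?_⟩
    obtain ⟨a, ha⟩ := hc' n
    refine ⟨a, ?_⟩
    apply IsFractionRing.injective (FractionRing R)⟦X⟧ (FractionRing (FractionRing R)⟦X⟧)
    change algebraMap _ _ (map (algebraMap R (FractionRing R)) a) = algebraMap _ _ (c • g ^ n)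
    rw [← hψ, ha, Algebra.smul_def, Algebra.smul_def, map_mul, map_mul, map_pow, map_pow, hψ, hg]
    rfl
  have hcoef : ∀ i, ∃ r : R, algebraMap R (FractionRing R) r = coeff i g := fun i =>
    IsIntegrallyClosed.isIntegral_iff.mp (isAlmostIntegral_coeff hga i).isIntegral
  choose r hr using hcoef
  refine ⟨mk r, ?_⟩
  apply ψ.injective
  rw [hψ, ← hg]
  congr 1
  ext i
  rw [coeff_map, coeff_mk, hr]

end Main

end Groth.Agent.Lib.PSNormalH3
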