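import Mathlib
import Groth.Prelude.Def_Found

/-!
# N-2 via purely inseparable extensions (helper9)
-/

set_option autoImplicit false
universe u

namespace Groth.Agent.Lib.Japanese

open CAlg Polynomial IntermediateField

theorem fixedField_top_isPurelyInseparable (K N : Type*) [Field K] [Field N] [Algebra K N]
    [FiniteDimensional K N] [Normal K N] :
    IsPurelyInseparable K (IntermediateField.fixedField (⊤ : Subgroup Gal(N/K))) := by
  classical
  rw [isPurelyInseparable_iff_natSepDegree_eq_one]
  intro x
  have hmin : minpoly K x = minpoly K (x : N) :=
    (minpoly.algebraMap_eq (algebraMap (IntermediateField.fixedField (⊤ : Subgroup Gal(N/K))) N).injective x).symm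
  have hsplit : ((minpoly K (x : N)).map (algebraMap K N)).Splits := Normal.splits inferInstance (x : N)
  rw [hmin, natSepDegree_eq_of_splits _ hsplit]
  have : ((minpoly K (x : N)).aroots N).toFinset = {(x : N)} := by
    ext y
    simp only [Multiset.mem_toFinset, Finset.mem_singleton, mem_aroots]
    constructor
    · rintro ⟨_, hy⟩
      obtain ⟨σ, hσ⟩ := minpoly.exists_algEquiv_of_root' (Algebra.IsAlgebraic.isAlgebraic (x : N)) hy
      rw [← hσ]
      exact (IntermediateField.mem_fixedField_iff ⊤ (x : N)).mp x.2 σ (Subgroup.mem_top σ)
    · rintro rfl
      exact ⟨minpoly.ne_zero (Algebra.IsIntegral.isIntegral _), minpoly.aeval K _⟩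
  rw [this, Finset.card_singleton]

theorem fixedField_top_isSeparable (K N : Type*) [Field K] [Field N] [Algebra K N]
    [FiniteDimensional K N] :
    Algebra.IsSeparable (IntermediateField.fixedField (⊤ : Subgroup Gal(N/K))) N := by
  have : IsGalois (IntermediateField.fixedField (⊤ : Subgroup Gal(N/K))) N :=
    IsGalois.of_fixed_field N (⊤ : Subgroup Gal(N/K))
  infer_instance

/-- general transitivity: if `A'` = integral closure of `A` in `F` is a finite `A`-module and the
integral closure of `A'` in `N` is finite over `A'`, then integral closure of `A` in `N` is finite. -/
theorem finite_integralClosure_trans (A F N : Type*) [CommRing A] [CommRing F] [CommRing N]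
    [Algebra A F] [Algebra F N] [Algebra A N] [IsScalarTower A F N]
    (h1 : Module.Finite A (integralClosure A F))
    (h2 : Module.Finite (integralClosure A F) (integralClosure (integralClosure A F) N)) :
    Module.Finite A (integralClosure A N) := by
  haveI := h1
  haveI := h2
  haveI : Module.Finite A (integralClosure (integralClosure A F) N) :=
    Module.Finite.trans (integralClosure A F) _
  let g : integralClosure (integralClosure A F) N →ₗ[A] integralClosure A N :=
    { toFun := fun x => ⟨x.1, isIntegral_trans (A := integralClosure A F) x.1 x.2⟩
      map_add' := fun x y => rfl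
      map_smul' := fun c x => rfl }
  have hg : Function.Surjective g := by
    rintro ⟨y, hy⟩
    have hy' : IsIntegral A y := hy
    exact ⟨⟨y, hy'.tower_top⟩, rfl⟩
  exact Module.Finite.of_surjective g hg

/-- If the integral closure of `A` in every finite purely inseparable extension of its fraction
field is finite, then `A` is N-2. -/
theorem isN2_of_forall_purelyInseparable (A : Type u) [CommRing A] [IsDomain A]
    [IsNoetherianRing A]
    (h : ∀ (K' : Type u) [Field K'] [Algebra A K'] [Algebra (FractionRing A) K']
      [IsScalarTower A (FractionRing A) K'], FiniteDimensional (FractionRing A) K' →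
      IsPurelyInseparable (FractionRing A) K' → Module.Finite A (integralClosure A K')) :
    CAlg.IsN2 A := by
  intro L _ _ _ _ hfin
  let K := FractionRing A
  let Ω := AlgebraicClosure L
  let N : IntermediateField K Ω := IntermediateField.normalClosure K L Ω
  haveI : FiniteDimensional K N := inferInstance
  haveI : Normal K N := inferInstance
  let F : IntermediateField K N := IntermediateField.fixedField (⊤ : Subgroup Gal(N/K))
  haveI hFpi : IsPurelyInseparable K F := fixedField_top_isPurelyInseparable K N
  haveI hFsep : Algebra.IsSeparable F N := fixedField_top_isSeparable K N
  haveI : FiniteDimensional K F := inferInstance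
  have h1 : Module.Finite A (integralClosure A F) := h F inferInstance hFpi
  haveI := h1
  haveI : IsNoetherianRing (integralClosure A F) :=
    isNoetherian_of_tower A (isNoetherian_of_isNoetherianRing_of_finite A (integralClosure A F))
  haveI : IsFractionRing (integralClosure A F) F :=
    integralClosure.isFractionRing_of_finite_extension K F
  haveI : IsIntegrallyClosed (integralClosure A F) :=
    integralClosure.isIntegrallyClosedOfFiniteExtension K
  haveI : FiniteDimensional F N := inferInstance
  have h2 : Module.Finite (integralClosure A F) (integralClosure (integralClosure A F) N) :=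
    IsIntegralClosure.finite (integralClosure A F) F N _
  haveI : IsScalarTower A F N := IsScalarTower.of_algebraMap_eq (fun x => rfl)
  have h3 : Module.Finite A (integralClosure A N) := finite_integralClosure_trans A F N h1 h2
  haveI := h3
  haveI : IsNoetherian A (integralClosure A N) := isNoetherian_of_isNoetherianRing_of_finite A _
  let j : L →ₐ[A] N := (IsScalarTower.toAlgHom K L N).restrictScalars A
  exact Module.Finite.of_injective (j.mapIntegralClosure).toLinearMap (by
    intro x y hxy
    apply Subtype.ext
    have := congrArg Subtype.val hxy
    exact j.toRingHom.injective this)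

end Groth.Agent.Lib.Japanese
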