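import Mathlib
import Groth.Prelude.Def_Found
import Groth.Agent.Lib.Japanese6_helper9
import Groth.Agent.Lib.CompleteNoeth_lead
import Groth.Agent.Lib.N2QuasiFinite_helper3

/-!
# Tate's theorem on N-2 rings (Stacks 0332) (helper3)

`R` a Noetherian normal domain, `x ∈ R` with `R/xR` an N-2 domain and `R` complete for `xR`;
then `R` is N-2.
APPEND-ONLY once landed.
-/

set_option autoImplicit false
universe u

namespace Groth.Agent.Lib.TateN2H3

section Core

variable (R : Type u) [CommRing R] [IsDomain R] [IsNoetherianRing R] [IsIntegrallyClosed R]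
  (K : Type u) [Field K] [Algebra R K] [IsFractionRing R K]
  (L : Type u) [Field L] [Algebra K L] [Algebra R L] [IsScalarTower R K L]
  (x : R)
  (q : ℕ) (hq : 0 < q) (φ : L →+* K) (hφ : ∀ a, algebraMap K L (φ a) = a ^ q)

include hφ in
/-- The `q`-th power map `S → R`. -/
theorem exists_nu : ∃ ν : integralClosure R L →+* R,
    ∀ s, algebraMap R L (ν s) = (s : L) ^ q := by
  have h1 : ∀ s : integralClosure R L, ∃ r : R, algebraMap R K r = φ (s : L) := by
    intro s
    have hs : IsIntegral R (s : L) := s.2
    have h2 : IsIntegral R (algebraMap K L (φ (s : L))) := by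
      rw [hφ]
      exact hs.pow q
    have h3 : IsIntegral R (φ (s : L)) :=
      (isIntegral_algebraMap_iff (algebraMap K L).injective).mp h2
    exact IsIntegrallyClosed.isIntegral_iff.mp h3
  choose ν hν using h1
  have hinj : Function.Injective (algebraMap R K) := IsFractionRing.injective R K
  refine ⟨{ toFun := ν, map_one' := ?_, map_mul' := ?_, map_zero' := ?_, map_add' := ?_ }, ?_⟩
  · apply hinj
    rw [hν, map_one]
    simp
  · intro a b
    apply hinj
    rw [hν, map_mul, hν, hν]
    simp
  · apply hinj
    rw [hν, map_zero]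
    simp
  · intro a b
    apply hinj
    rw [hν, map_add, hν, hν]
    simp
  · intro s
    show algebraMap R L (ν s) = _
    rw [IsScalarTower.algebraMap_apply R K L, hν, hφ]

variable {R L} in
omit [IsNoetherianRing R] [IsIntegrallyClosed R] in
theorem injective_algebraMap_RL [FaithfulSMul R L] : Function.Injective (algebraMap R L) :=
  FaithfulSMul.algebraMap_injective R L

section Nu

variable (hx0 : x ≠ 0) [hprime : (Ideal.span ({x} : Set R)).IsPrime]
  (ν : integralClosure R L →+* R) (hν : ∀ s, algebraMap R L (ν s) = (s : L) ^ q)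
  (y : L) (hy : y ^ q = algebraMap R L x)
  (hinj : Function.Injective (algebraMap R L))

omit [IsNoetherianRing R] [IsIntegrallyClosed R] in
include hν hinj in
theorem nu_algebraMap (r : R) : ν (algebraMap R (integralClosure R L) r) = r ^ q := by
  apply hinj
  rw [hν, map_pow]
  rfl

omit [IsNoetherianRing R] [IsIntegrallyClosed R] in
include hν hq hinj in
theorem nu_eq_zero_iff (s : integralClosure R L) : ν s = 0 ↔ s = 0 := by
  constructor
  · intro h
    have h1 : (s : L) ^ q = 0 := by rw [← hν, h, map_zero]
    exact Subtype.ext (pow_eq_zero_iff hq.ne'|>.mp h1)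
  · rintro rfl
    exact map_zero ν

omit [IsIntegrallyClosed R] in
include hν hq hinj in
theorem isHausdorff_integralClosure :
    IsHausdorff (Ideal.span ({x} : Set R)) (integralClosure R L) := by
  constructor
  intro s hs
  have h1 : ∀ n, ν s ∈ (Ideal.span ({x} : Set R)) ^ n := by
    intro n
    have h2 := hs n
    rw [SModEq.zero, Ideal.span_singleton_pow, Submodule.ideal_span_singleton_smul,
      Submodule.mem_smul_pointwise_iff_exists] at h2
    obtain ⟨t, -, rfl⟩ := h2
    rw [Ideal.span_singleton_pow, Algebra.smul_def, map_mul, nu_algebraMap R L q ν hν hinj,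
      Ideal.mem_span_singleton']
    refine ⟨(x ^ n) ^ (q - 1) * ν t, ?_⟩
    have : (x ^ n) ^ q = (x ^ n) ^ (q - 1) * x ^ n := (pow_sub_one_mul hq.ne' _).symm
    rw [this]
    ring
  have h3 : ν s ∈ (⨅ i, (Ideal.span ({x} : Set R)) ^ i : Ideal R) := by
    rw [Ideal.mem_iInf]
    exact h1
  rw [Ideal.iInf_pow_eq_bot_of_isDomain _ hprime.ne_top, Ideal.mem_bot] at h3
  exact (nu_eq_zero_iff R L q hq ν hν hinj s).mp h3

omit [IsNoetherianRing R] [IsIntegrallyClosed R] in
include hν hq hy hx0 hinj in
/-- membership in the ideal `yS`. -/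
theorem mem_span_y_iff (hyint : IsIntegral R y) (s : integralClosure R L) :
    s ∈ Ideal.span ({(⟨y, hyint⟩ : integralClosure R L)} : Set (integralClosure R L)) ↔
      ν s ∈ Ideal.span ({x} : Set R) := by
  have hνy : ν ⟨y, hyint⟩ = x := by
    apply hinj
    rw [hν]
    exact hy
  have hxL : algebraMap R L x ≠ 0 := fun h => hx0 (hinj (by rw [h, map_zero]))
  have hy0 : y ≠ 0 := by
    rintro rfl
    rw [zero_pow hq.ne'] at hy
    exact hxL hy.symm
  constructor
  · intro hs
    obtain ⟨a, rfl⟩ := Ideal.mem_span_singleton'.mp hs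
    rw [map_mul, hνy]
    exact Ideal.mul_mem_left _ _ (Ideal.mem_span_singleton_self x)
  · intro hs
    obtain ⟨a, ha⟩ := Ideal.mem_span_singleton'.mp hs
    have ht : ((s : L) / y) ^ q = algebraMap R L a := by
      rw [div_pow, ← hν, hy, ← ha, map_mul, mul_div_assoc, div_self hxL, mul_one]
    have htint : IsIntegral R ((s : L) / y) := by
      apply IsIntegral.of_pow hq
      rw [ht]
      exact isIntegral_algebraMap
    rw [Ideal.mem_span_singleton']
    refine ⟨⟨(s : L) / y, htint⟩, Subtype.ext ?_⟩
    show (s : L) / y * y = s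
    exact div_mul_cancel₀ _ hy0

end Nu

section Quot

variable (hKL : FiniteDimensional K L) (hx0 : x ≠ 0)
  [hprime : (Ideal.span ({x} : Set R)).IsPrime]
  (h2 : CAlg.IsN2 (R ⧸ Ideal.span ({x} : Set R)))
  (ν : integralClosure R L →+* R) (hν : ∀ s, algebraMap R L (ν s) = (s : L) ^ q)
  (y : L) (hy : y ^ q = algebraMap R L x) (hyint : IsIntegral R y)

set_option quotPrecheck false in
local notation "Rbar" => (R ⧸ Ideal.span (singleton x : Set R))
local notation "SS" => (integralClosure R L)
set_option quotPrecheck false in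
local notation "qq" =>
  (Ideal.span (singleton (Subtype.mk y hyint : integralClosure R L) : Set (integralClosure R L)))

omit [IsIntegrallyClosed R] in
include hq hx0 h2 hν hy hKL in
set_option maxHeartbeats 2000000 in
set_option synthInstance.maxHeartbeats 100000 in
theorem finite_quotient_span_y : Module.Finite R (SS ⧸ qq) := by
  classical
  have hinj : Function.Injective (algebraMap R L) := by
    rw [IsScalarTower.algebraMap_eq R K L]
    exact (algebraMap K L).injective.comp (IsFractionRing.injective R K)
  have hmem := mem_span_y_iff R L x q hq hx0 ν hν y hy hinj hyint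
  have hcomap : qq = Ideal.comap ν (Ideal.span ({x} : Set R)) := by
    ext s
    rw [Ideal.mem_comap]
    exact hmem s
  haveI hqprime : (qq).IsPrime := by
    rw [hcomap]
    exact Ideal.comap_isPrime ν _
  haveI : IsDomain (SS ⧸ qq) := Ideal.Quotient.isDomain _
  have hmk0 : ∀ r : R, algebraMap R (SS ⧸ qq) r = 0 ↔ r ∈ Ideal.span ({x} : Set R) := by
    intro r
    rw [IsScalarTower.algebraMap_apply R SS (SS ⧸ qq), Ideal.Quotient.algebraMap_eq,
      Ideal.Quotient.eq_zero_iff_mem, hmem, nu_algebraMap R L q ν hν hinj]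
    exact ⟨fun h => hprime.mem_of_pow_mem q h, fun h => Ideal.pow_mem_of_mem _ h q hq⟩
  letI : Algebra Rbar (SS ⧸ qq) :=
    (Ideal.Quotient.lift _ (algebraMap R (SS ⧸ qq)) fun a ha => (hmk0 a).mpr ha).toAlgebra
  haveI : IsScalarTower R Rbar (SS ⧸ qq) := IsScalarTower.of_algebraMap_eq fun r => rfl
  have hinjD : Function.Injective (algebraMap Rbar (SS ⧸ qq)) := by
    rw [injective_iff_map_eq_zero]
    intro a ha
    obtain ⟨r, rfl⟩ := Ideal.Quotient.mk_surjective a
    have h1 : algebraMap R (SS ⧸ qq) r = 0 := ha
    exact Ideal.Quotient.eq_zero_iff_mem.mpr ((hmk0 r).mp h1)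
  -- the rank bound
  have hrank : Module.rank Rbar (SS ⧸ qq) ≤ (Module.finrank K L : ℕ) := by
    apply rank_le
    intro t ht
    choose σ hσ using
      (Ideal.Quotient.mk_surjective : Function.Surjective (Ideal.Quotient.mk (qq)))
    have hli : LinearIndependent R (fun i : t => ((σ i.1 : SS) : L)) := by
      rw [Fintype.linearIndependent_iff]
      intro g hg
      have key : ∀ m : ℕ, ∀ i, x ^ m ∣ g i := by
        intro m
        induction m with
        | zero => intro i; rw [pow_zero]; exact one_dvd _
        | succ m ih =>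
          choose b hb using ih
          have hxm : algebraMap R L (x ^ m) ≠ 0 := fun h =>
            pow_ne_zero m hx0 (hinj (by rw [h, map_zero]))
          have h1 : ∑ i, b i • ((σ i.1 : SS) : L) = 0 := by
            have h2' : algebraMap R L (x ^ m) * ∑ i, b i • ((σ i.1 : SS) : L) = 0 := by
              rw [Finset.mul_sum, ← hg]
              refine Finset.sum_congr rfl fun i _ => ?_
              rw [hb i, Algebra.smul_def, Algebra.smul_def, map_mul, mul_assoc]
            exact (mul_eq_zero.mp h2').resolve_left hxm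
          have h3 : ∑ i, b i • (σ i.1 : SS) = 0 := by
            apply Subtype.ext
            have h3' : ((∑ i, b i • (σ i.1 : SS) : SS) : L) = ∑ i, b i • ((σ i.1 : SS) : L) := by
              simp
            exact h3'.trans h1
          have h4 : ∑ i : t, (Ideal.Quotient.mk (Ideal.span ({x} : Set R)) (b i)) •
              ((i : SS ⧸ qq)) = 0 := by
            have h5 := congrArg (Ideal.Quotient.mkₐ R (qq)) h3
            rw [map_sum, map_zero] at h5
            rw [← h5]
            refine Finset.sum_congr rfl fun i _ => ?_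
            rw [map_smul, Ideal.Quotient.mkₐ_eq_mk, hσ i.1]
            exact algebraMap_smul Rbar (b i) (i : SS ⧸ qq)
          have h6 := Fintype.linearIndependent_iff.mp ht _ h4
          intro i
          have h7 : b i ∈ Ideal.span ({x} : Set R) := Ideal.Quotient.eq_zero_iff_mem.mp (h6 i)
          obtain ⟨c, hc⟩ := Ideal.mem_span_singleton'.mp h7
          exact ⟨c, by rw [hb i, ← hc, pow_succ]; ring⟩
      intro i
      have h8 : g i ∈ (⨅ m, (Ideal.span ({x} : Set R)) ^ m : Ideal R) := by
        rw [Ideal.mem_iInf]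
        intro m
        rw [Ideal.span_singleton_pow, Ideal.mem_span_singleton]
        exact key m i
      rwa [Ideal.iInf_pow_eq_bot_of_isDomain _ hprime.ne_top, Ideal.mem_bot] at h8
    have hliK : LinearIndependent K (fun i : t => ((σ i.1 : SS) : L)) :=
      (LinearIndependent.iff_fractionRing R K).mp hli
    have h9 := hliK.fintype_card_le_finrank
    simpa using h9
  -- fraction fields
  haveI : FaithfulSMul Rbar (SS ⧸ qq) := (faithfulSMul_iff_algebraMap_injective _ _).mpr hinjD
  haveI : Algebra.IsIntegral R (SS ⧸ qq) :=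
    Algebra.IsIntegral.of_surjective (Ideal.Quotient.mkₐ R (qq)) (Ideal.Quotient.mkₐ_surjective R _)
  haveI : Algebra.IsIntegral Rbar (SS ⧸ qq) :=
    ⟨fun d => (Algebra.IsIntegral.isIntegral (R := R) d).tower_top⟩
  haveI : FaithfulSMul Rbar (FractionRing (SS ⧸ qq)) := by
    rw [faithfulSMul_iff_algebraMap_injective,
      IsScalarTower.algebraMap_eq Rbar (SS ⧸ qq) (FractionRing (SS ⧸ qq))]
    exact (IsFractionRing.injective (SS ⧸ qq) (FractionRing (SS ⧸ qq))).comp hinjD
  letI : Algebra (FractionRing Rbar) (FractionRing (SS ⧸ qq)) :=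
    FractionRing.liftAlgebra Rbar (FractionRing (SS ⧸ qq))
  have hrk : Module.rank (FractionRing Rbar) (FractionRing (SS ⧸ qq)) =
      Module.rank Rbar (SS ⧸ qq) := Algebra.IsAlgebraic.rank_fractionRing Rbar (SS ⧸ qq)
  haveI : Module.Free (FractionRing Rbar) (FractionRing (SS ⧸ qq)) :=
    Module.Free.of_divisionRing _ _
  haveI : FiniteDimensional (FractionRing Rbar) (FractionRing (SS ⧸ qq)) := by
    rw [FiniteDimensional, ← Module.rank_lt_aleph0_iff, hrk]
    exact lt_of_le_of_lt hrank (Cardinal.nat_lt_aleph0 _)
  have hfin : Module.Finite Rbar (integralClosure Rbar (FractionRing (SS ⧸ qq))) :=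
    h2 (FractionRing (SS ⧸ qq)) inferInstance
  haveI : IsNoetherian Rbar (integralClosure Rbar (FractionRing (SS ⧸ qq))) :=
    isNoetherian_of_isNoetherianRing_of_finite _ _
  let j : (SS ⧸ qq) →ₗ[Rbar] integralClosure Rbar (FractionRing (SS ⧸ qq)) :=
    LinearMap.codRestrict (Subalgebra.toSubmodule (integralClosure Rbar (FractionRing (SS ⧸ qq))))
      (IsScalarTower.toAlgHom Rbar (SS ⧸ qq) (FractionRing (SS ⧸ qq))).toLinearMap
      (fun d => (Algebra.IsIntegral.isIntegral (R := Rbar) d).map
        (IsScalarTower.toAlgHom Rbar (SS ⧸ qq) (FractionRing (SS ⧸ qq))))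
  have hj : Function.Injective j := by
    intro a b hab
    have h1 : algebraMap (SS ⧸ qq) (FractionRing (SS ⧸ qq)) a =
        algebraMap (SS ⧸ qq) (FractionRing (SS ⧸ qq)) b := congrArg Subtype.val hab
    exact IsFractionRing.injective _ _ h1
  haveI : Module.Finite Rbar (SS ⧸ qq) := Module.Finite.of_injective j hj
  exact Module.Finite.trans Rbar (SS ⧸ qq)

end Quot

section Final

variable (hKL : FiniteDimensional K L) (hx0 : x ≠ 0)
  [hprime : (Ideal.span ({x} : Set R)).IsPrime] [IsAdicComplete (Ideal.span ({x} : Set R)) R]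
  (h2 : CAlg.IsN2 (R ⧸ Ideal.span ({x} : Set R)))
  (y : L) (hy : y ^ q = algebraMap R L x)

include hq hφ hKL hx0 h2 hy in
set_option maxHeartbeats 2000000 in
/-- Core of Tate's theorem: `L/K` finite with a `q`-th power map `φ : L → K` and `y ∈ L` a
`q`-th root of `x`. -/
theorem finite_integralClosure_core : Module.Finite R (integralClosure R L) := by
  classical
  obtain ⟨ν, hν⟩ := exists_nu R K L q φ hφ
  have hinj : Function.Injective (algebraMap R L) := by
    rw [IsScalarTower.algebraMap_eq R K L]
    exact (algebraMap K L).injective.comp (IsFractionRing.injective R K)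
  have hyint : IsIntegral R y := by
    apply IsIntegral.of_pow hq
    rw [hy]
    exact isIntegral_algebraMap
  haveI := isHausdorff_integralClosure R L x q hq ν hν hinj
  have hD := finite_quotient_span_y R K L x q hq hKL hx0 h2 ν hν y hy hyint
  apply CompleteNoethLead.finite_of_hausdorff (Ideal.span ({x} : Set R)) (integralClosure R L)
  obtain ⟨n, d, hd⟩ := Module.Finite.exists_fin (R := R)
    (M := integralClosure R L ⧸ Ideal.span
      ({(⟨y, hyint⟩ : integralClosure R L)} : Set (integralClosure R L)))
  choose σ hσ using fun j => Ideal.Quotient.mk_surjective (d j)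
  have hyq : (⟨y, hyint⟩ : integralClosure R L) ^ q = algebraMap R (integralClosure R L) x :=
    Subtype.ext (by simpa using hy)
  have c1 : ∀ s : integralClosure R L, ∃ (c : Fin n → R) (t : integralClosure R L),
      s = ∑ j, c j • σ j + (⟨y, hyint⟩ : integralClosure R L) * t := by
    intro s
    have hs : Ideal.Quotient.mk (Ideal.span
        ({(⟨y, hyint⟩ : integralClosure R L)} : Set (integralClosure R L))) s ∈
        Submodule.span R (Set.range d) := by
      rw [hd]
      trivial
    obtain ⟨c, hc⟩ := (Submodule.mem_span_range_iff_exists_fun R).mp hs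
    have h1 : s - ∑ j, c j • σ j ∈ Ideal.span
        ({(⟨y, hyint⟩ : integralClosure R L)} : Set (integralClosure R L)) := by
      rw [← Ideal.Quotient.eq_zero_iff_mem, map_sub, ← hc, sub_eq_zero, map_sum]
      refine Finset.sum_congr rfl fun j _ => ?_
      rw [← hσ j]
      exact (map_smul (Ideal.Quotient.mkₐ R _) (c j) (σ j)).symm
    obtain ⟨t, ht⟩ := Ideal.mem_span_singleton'.mp h1
    exact ⟨c, t, by rw [mul_comm, ht]; abel⟩
  let N : Submodule R (integralClosure R L) := Submodule.span R
    (Set.range fun p : Fin q × Fin n => (⟨y, hyint⟩ : integralClosure R L) ^ (p.1 : ℕ) * σ p.2)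
  have c2 : ∀ m, m ≤ q → ∀ s : integralClosure R L, ∃ t : integralClosure R L,
      s - (⟨y, hyint⟩ : integralClosure R L) ^ m * t ∈ N := by
    intro m
    induction m with
    | zero =>
      intro _ s
      exact ⟨s, by simp⟩
    | succ m ih =>
      intro hm s
      obtain ⟨t, ht⟩ := ih (by omega) s
      obtain ⟨c, t', ht'⟩ := c1 t
      refine ⟨t', ?_⟩
      have e1 : (⟨y, hyint⟩ : integralClosure R L) ^ m * ∑ j, c j • σ j =
          ∑ j, c j • ((⟨y, hyint⟩ : integralClosure R L) ^ m * σ j) := by
        rw [Finset.mul_sum]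
        exact Finset.sum_congr rfl fun j _ => mul_smul_comm _ _ _
      have e2 : s - (⟨y, hyint⟩ : integralClosure R L) ^ (m + 1) * t' =
          (s - (⟨y, hyint⟩ : integralClosure R L) ^ m * t) +
            ∑ j, c j • ((⟨y, hyint⟩ : integralClosure R L) ^ m * σ j) := by
        rw [ht', mul_add, e1, pow_succ]
        ring
      rw [e2]
      exact N.add_mem ht (N.sum_mem fun j _ => N.smul_mem _
        (Submodule.subset_span ⟨(⟨m, by omega⟩, j), rfl⟩))
  haveI hN : Module.Finite R N := Module.Finite.span_of_finite R (Set.finite_range _)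
  refine Module.Finite.of_surjective
    ((Submodule.mkQ (Ideal.span ({x} : Set R) • ⊤ : Submodule R (integralClosure R L))).comp
      N.subtype) ?_
  intro z
  obtain ⟨s, rfl⟩ := Submodule.mkQ_surjective _ z
  obtain ⟨t, ht⟩ := c2 q le_rfl s
  refine ⟨⟨s - (⟨y, hyint⟩ : integralClosure R L) ^ q * t, ht⟩, ?_⟩
  show Submodule.mkQ _ (s - (⟨y, hyint⟩ : integralClosure R L) ^ q * t) = Submodule.mkQ _ s
  rw [map_sub, sub_eq_self, Submodule.mkQ_apply, Submodule.Quotient.mk_eq_zero, hyq,
    ← Algebra.smul_def]
  exact Submodule.smul_mem_smul (Ideal.mem_span_singleton_self x) Submodule.mem_top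

end Final

end Core

section Main

open Polynomial in
set_option maxHeartbeats 2000000 in
/-- **Tate's theorem** (Stacks 0332). -/
theorem main (R : Type u) [CommRing R] [IsDomain R] [IsNoetherianRing R] [IsIntegrallyClosed R]
    (x : R) [hprime : (Ideal.span ({x} : Set R)).IsPrime]
    (h2 : CAlg.IsN2 (R ⧸ Ideal.span ({x} : Set R)))
    [IsAdicComplete (Ideal.span ({x} : Set R)) R] : CAlg.IsN2 R := by
  classical
  by_cases hx0 : x = 0
  · subst hx0
    have e : (R ⧸ Ideal.span ({0} : Set R)) ≃+* R :=
      (Ideal.quotEquivOfEq (by simp)).trans (RingEquiv.quotientBot R)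
    exact N2QuasiFiniteH3.isN2_of_ringEquiv e h2
  apply Japanese.isN2_of_forall_purelyInseparable
  intro K' _ _ _ _ hfin hpi
  obtain ⟨ℓ, hℓ⟩ := ExpChar.exists (FractionRing R)
  haveI := hfin
  haveI := hpi
  haveI : ExpChar K' ℓ := expChar_of_injective_algebraMap (algebraMap (FractionRing R) K').injective ℓ
  set n := IsPurelyInseparable.exponent (FractionRing R) K' with hn
  have hq : 0 < ℓ ^ n := expChar_pow_pos (FractionRing R) ℓ _
  have hpow : ∀ a : K', a ^ ℓ ^ n ∈ (algebraMap (FractionRing R) K').range :=
    IsPurelyInseparable.exponent_def' (FractionRing R) ℓ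
  -- the bigger field
  obtain ⟨g, hg⟩ : ∃ g : K'[X], g = X ^ (ℓ ^ n) - C (algebraMap R K' x) := ⟨_, rfl⟩
  have hroot : ∀ (M : Type u) [Field M] [Algebra K' M] (z : M), aeval z g = 0 →
      z ^ (ℓ ^ n) = algebraMap K' M (algebraMap R K' x) := by
    intro M _ _ z hz
    rw [hg] at hz
    simpa [sub_eq_zero] using hz
  have hgdeg : (g.map
      (algebraMap K' g.SplittingField)).degree ≠ 0 := by
    rw [degree_map, hg, degree_X_pow_sub_C hq]
    exact_mod_cast hq.ne'
  haveI htower : IsScalarTower R (FractionRing R)
      g.SplittingField :=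
    IsScalarTower.of_algebraMap_eq (fun r => by
      rw [IsScalarTower.algebraMap_apply R K'
          g.SplittingField,
        IsScalarTower.algebraMap_apply R (FractionRing R) K',
        ← IsScalarTower.algebraMap_apply (FractionRing R) K'
          g.SplittingField])
  let T : Subalgebra K' g.SplittingField :=
    { carrier := {a | a ^ (ℓ ^ n) ∈ (algebraMap (FractionRing R)
        g.SplittingField).range}
      mul_mem' := by
        rintro a b ⟨c, hc⟩ ⟨d, hd⟩
        exact ⟨c * d, by rw [map_mul, hc, hd, mul_pow]⟩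
      add_mem' := by
        rintro a b ⟨c, hc⟩ ⟨d, hd⟩
        exact ⟨c + d, by rw [map_add, hc, hd, add_pow_expChar_pow]⟩
      algebraMap_mem' := by
        intro c
        obtain ⟨e, he⟩ := hpow c
        exact ⟨e, by
          rw [IsScalarTower.algebraMap_apply (FractionRing R) K'
            g.SplittingField, he, map_pow]⟩ }
  have hT : T = ⊤ := by
    apply top_le_iff.mp
    rw [← SplittingField.adjoin_rootSet g]
    apply Algebra.adjoin_le
    intro z hz
    have hz' := (mem_rootSet.mp hz).2
    have hz2 : z ^ (ℓ ^ n) = algebraMap K'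
        g.SplittingField (algebraMap R K' x) := hroot _ z hz'
    refine ⟨algebraMap R (FractionRing R) x, ?_⟩
    rw [hz2, ← IsScalarTower.algebraMap_apply, ← IsScalarTower.algebraMap_apply]
  have hall : ∀ a : g.SplittingField,
      ∃ c : FractionRing R, algebraMap (FractionRing R)
        g.SplittingField c = a ^ (ℓ ^ n) := by
    intro a
    have : a ∈ T := hT ▸ Algebra.mem_top
    exact this
  choose φ₀ hφ₀ using hall
  have hinj'' : Function.Injective (algebraMap (FractionRing R)
      g.SplittingField) := RingHom.injective _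
  let φ : g.SplittingField →+* FractionRing R :=
    { toFun := φ₀
      map_one' := hinj'' (by rw [hφ₀, one_pow, map_one])
      map_mul' := fun a b => hinj'' (by rw [hφ₀, map_mul, hφ₀, hφ₀, mul_pow])
      map_zero' := hinj'' (by rw [hφ₀, zero_pow hq.ne', map_zero])
      map_add' := fun a b => hinj'' (by rw [hφ₀, map_add, hφ₀, hφ₀, add_pow_expChar_pow]) }
  have hφ : ∀ a, algebraMap (FractionRing R)
      g.SplittingField (φ a) = a ^ (ℓ ^ n) := hφ₀
  obtain ⟨y, hy⟩ := (SplittingField.splits
    g).exists_eval_eq_zero hgdeg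
  have hy' : y ^ (ℓ ^ n) = algebraMap R
      g.SplittingField x := by
    have h1 : y ^ (ℓ ^ n) = algebraMap K'
        g.SplittingField (algebraMap R K' x) := by
      rw [eval_map_algebraMap] at hy
      exact hroot _ y hy
    rw [h1, ← IsScalarTower.algebraMap_apply]
  haveI hKL : FiniteDimensional (FractionRing R)
      g.SplittingField :=
    Module.Finite.trans K' _
  have hcore := finite_integralClosure_core R (FractionRing R)
    g.SplittingField x (ℓ ^ n) hq φ hφ hKL hx0 h2 y hy'
  have hinjf : Function.Injective (IsScalarTower.toAlgHom R K'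
      g.SplittingField).mapIntegralClosure :=
    fun a b hab => Subtype.ext ((algebraMap K'
      g.SplittingField).injective
        (congrArg Subtype.val hab))
  haveI : IsNoetherian R (integralClosure R
      g.SplittingField) :=
    isNoetherian_of_isNoetherianRing_of_finite R _
  exact Module.Finite.of_injective (IsScalarTower.toAlgHom R K'
      g.SplittingField).mapIntegralClosure.toLinearMap
    hinjf

end Main

end Groth.Agent.Lib.TateN2H3
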