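import Mathlib
import Groth.Prelude.Def_Found
import Groth.Agent.Lib.TateN2_helper3
import Groth.Agent.Lib.PSNormal_helper3
import Groth.Agent.Lib.PSComplete_helper1

/-!
# Power series rings over Noetherian normal N-2 domains are N-2 (helper3)
APPEND-ONLY once landed.
-/

set_option autoImplicit false
universe u

namespace Groth.Agent.Lib.PSN2H3

open PowerSeries

section One

variable (A : Type u) [CommRing A]

theorem span_X_eq_ker : Ideal.span ({X} : Set A⟦X⟧) = RingHom.ker (constantCoeff (R := A)) := by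
  ext f
  rw [Ideal.mem_span_singleton, X_dvd_iff, RingHom.mem_ker]

/-- `A⟦X⟧ / (X) ≃ A`. -/
noncomputable def quotXEquiv : (A⟦X⟧ ⧸ Ideal.span ({X} : Set A⟦X⟧)) ≃+* A :=
  (Ideal.quotEquivOfEq (span_X_eq_ker A)).trans
    (RingHom.quotientKerEquivOfSurjective (f := constantCoeff (R := A)) constantCoeff_surj)

theorem isAdicComplete_span_X : IsAdicComplete (Ideal.span ({X} : Set A⟦X⟧)) A⟦X⟧ := by
  have h := Groth.Agent.Lib.PSCompleteH1.isAdicComplete_comap (σ := Unit) (⊥ : Ideal A)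
  have heq : (⊥ : Ideal A).comap (MvPowerSeries.constantCoeff : MvPowerSeries Unit A →+* A) =
      Ideal.span ({X} : Set A⟦X⟧) := by
    ext f
    rw [Ideal.mem_comap, Ideal.mem_bot, Ideal.mem_span_singleton, X_dvd_iff]
    rfl
  rw [heq] at h
  exact h

variable [IsDomain A] [IsNoetherianRing A] [IsIntegrallyClosed A]

/-- `A` Noetherian normal N-2 ⇒ `A⟦X⟧` is N-2. -/
theorem isN2_powerSeries_of_normal (hA : CAlg.IsN2 A) : CAlg.IsN2 A⟦X⟧ := by
  haveI := PSNormalH3.isIntegrallyClosed_powerSeries A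
  haveI : (Ideal.span ({X} : Set A⟦X⟧)).IsPrime := span_X_isPrime
  haveI := isAdicComplete_span_X A
  have h2 : CAlg.IsN2 (A⟦X⟧ ⧸ Ideal.span ({X} : Set A⟦X⟧)) :=
    N2QuasiFiniteH3.isN2_of_ringEquiv (quotXEquiv A).symm hA
  exact TateN2H3.main A⟦X⟧ X h2

end One

section Mv

variable (A : Type u) [CommRing A] [IsDomain A] [IsNoetherianRing A] [IsIntegrallyClosed A]

theorem mv_aux (hA : CAlg.IsN2 A) (r : ℕ) :
    ∃ (_ : IsDomain (MvPowerSeries (Fin r) A)), IsIntegrallyClosed (MvPowerSeries (Fin r) A) ∧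
      CAlg.IsN2 (MvPowerSeries (Fin r) A) := by
  induction r with
  | zero =>
    let e : A ≃+* MvPowerSeries (Fin 0) A :=
      (MvPowerSeries.isEmptyEquiv (Fin 0) A).toRingEquiv.symm
    haveI hd : IsDomain (MvPowerSeries (Fin 0) A) := e.symm.toMulEquiv.isDomain A
    exact ⟨hd, IsIntegrallyClosed.of_equiv e, N2QuasiFiniteH3.isN2_of_ringEquiv e hA⟩
  | succ r ih =>
    obtain ⟨hd, hic, hn2⟩ := ih
    haveI := hd
    haveI := hic
    let e : PowerSeries (MvPowerSeries (Fin r) A) ≃+* MvPowerSeries (Fin (r + 1)) A :=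
      (MvPowerSeries.finSuccEquiv A r).toRingEquiv.symm
    haveI hd' : IsDomain (MvPowerSeries (Fin (r + 1)) A) :=
      e.symm.toMulEquiv.isDomain (PowerSeries (MvPowerSeries (Fin r) A))
    haveI := PSNormalH3.isIntegrallyClosed_powerSeries (MvPowerSeries (Fin r) A)
    exact ⟨hd', IsIntegrallyClosed.of_equiv e,
      N2QuasiFiniteH3.isN2_of_ringEquiv e
        (isN2_powerSeries_of_normal (MvPowerSeries (Fin r) A) hn2)⟩

/-- `A` Noetherian normal N-2 ⇒ `A⟦X₁, …, X_r⟧` is N-2. -/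
theorem isN2_mvPowerSeries_of_normal (hA : CAlg.IsN2 A) (r : ℕ)
    [IsDomain (MvPowerSeries (Fin r) A)] : CAlg.IsN2 (MvPowerSeries (Fin r) A) := by
  obtain ⟨_, -, h⟩ := mv_aux A hA r
  exact h

end Mv

end Groth.Agent.Lib.PSN2H3
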