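import Groth.Agent.Lib.CohenLift2_helper3

/-!
# Uniqueness of Cohen rings (EGA 0_IV 19.8.6 (ii))
-/

set_option autoImplicit false
set_option maxSynthPendingDepth 3

namespace Groth.Agent.Lib.CohenLiftH3

universe u

open IsLocalRing EGA41

section Basic

variable {W : Type u} [CommRing W] [IsLocalRing W]

theorem cohen_basic (hW : IsCohenRingEGA W) (p : ℕ) [CharP (ResidueField W) p] :
    IsNoetherianRing W ∧ IsAdicComplete (maximalIdeal W) W ∧
      maximalIdeal W = Ideal.span {(p : W)} ∧ (p ≠ 0 → ∀ n : ℕ, (p : W) ^ n ≠ 0) := by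
  rcases hW with ⟨hfield, hchar⟩ | ⟨hdom, hdvr, hcomp, q, hq, hmax⟩
  · have hbot : maximalIdeal W = ⊥ := isField_iff_maximalIdeal_eq.1 hfield
    letI := hfield.toField
    haveI := hchar
    haveI : CharZero (ResidueField W) :=
      charZero_of_injective_ringHom (residue W).injective
    have hp0 : p = 0 := CharP.eq (ResidueField W) inferInstance (CharP.ofCharZero _)
    refine ⟨inferInstance, ?_, ?_, fun h => absurd hp0 h⟩
    · have : IsAdicComplete (⊥ : Ideal W) W := inferInstance
      exact hbot.symm ▸ this
    · rw [hbot, hp0, Nat.cast_zero]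
      exact (Ideal.span_singleton_eq_bot.2 rfl).symm
  · haveI := hdom
    haveI := hdvr
    obtain ⟨hpq, hcz⟩ := cohen_facts q hq hmax p
    subst hpq
    haveI := hcz
    refine ⟨inferInstance, hcomp, hmax, fun h n => ?_⟩
    exact pow_ne_zero n (Nat.cast_ne_zero.2 h)

theorem exists_unit_mul_pow (p : ℕ) (hm : maximalIdeal W = Ideal.span {(p : W)})
    [IsHausdorff (maximalIdeal W) W] (x : W) (hx : x ≠ 0) :
    ∃ (n : ℕ) (y : W), IsUnit y ∧ x = (p : W) ^ n * y := by
  by_contra hcon
  push Not at hcon
  have hall : ∀ n : ℕ, x ∈ (maximalIdeal W) ^ n := by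
    intro n
    induction n with
    | zero => simp
    | succ n ih =>
      rw [hm, Ideal.span_singleton_pow, Ideal.mem_span_singleton'] at ih
      obtain ⟨y, hy⟩ := ih
      have hyn : ¬ IsUnit y := fun hu => hcon n y hu (by rw [← hy, mul_comm])
      have hym : y ∈ maximalIdeal W := (mem_maximalIdeal y).2 hyn
      rw [hm, Ideal.mem_span_singleton'] at hym
      obtain ⟨z, hz⟩ := hym
      rw [hm, Ideal.span_singleton_pow, Ideal.mem_span_singleton']
      refine ⟨z, ?_⟩
      rw [← hy, ← hz, pow_succ]
      ring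
  apply hx
  refine IsHausdorff.haus' (I := maximalIdeal W) x (fun n => ?_)
  rw [SModEq.zero, smul_eq_mul, Ideal.mul_top]
  exact hall n

end Basic

section Iso

variable {W W' : Type u} [CommRing W] [IsLocalRing W] [CommRing W'] [IsLocalRing W']

theorem bijective_of_residue_surjective (p : ℕ)
    (hm : maximalIdeal W = Ideal.span {(p : W)}) (hm' : maximalIdeal W' = Ideal.span {(p : W')})
    [IsAdicComplete (maximalIdeal W) W] [IsHausdorff (maximalIdeal W') W']
    (hp' : p ≠ 0 → ∀ n : ℕ, (p : W') ^ n ≠ 0)
    (v : W →+* W') [IsLocalHom v]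
    (hsurj : ∀ y' : W', ∃ x : W, residue W' (v x) = residue W' y') :
    Function.Bijective v := by
  have hmap : (maximalIdeal W).map v = maximalIdeal W' := by
    rw [hm, hm', Ideal.map_span, Set.image_singleton, map_natCast]
  constructor
  · rw [injective_iff_map_eq_zero]
    intro x hx0
    by_contra hx
    obtain ⟨n, y, hy, rfl⟩ := exists_unit_mul_pow p hm x hx
    rw [map_mul, map_pow, map_natCast] at hx0
    have hvy : IsUnit (v y) := hy.map v
    have h0 : (p : W') ^ n = 0 := by
      have := congrArg (fun t => t * ((hvy.unit⁻¹ : W'ˣ) : W')) hx0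
      simpa [mul_assoc] using this
    by_cases hn : n = 0
    · subst hn
      rw [pow_zero] at h0
      exact one_ne_zero h0
    · by_cases hp0 : p = 0
      · subst hp0
        apply hx
        rw [Nat.cast_zero, zero_pow hn, zero_mul]
      · exact hp' hp0 n h0
  · haveI : IsHausdorff ((maximalIdeal W).map v) W' := hmap.symm ▸ inferInstance
    apply surjective_of_mk_map_comp_surjective (I := maximalIdeal W) v
    intro y
    obtain ⟨y', rfl⟩ := Ideal.Quotient.mk_surjective y
    obtain ⟨x, hx⟩ := hsurj y'
    refine ⟨x, ?_⟩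
    show Ideal.Quotient.mk _ (v x) = Ideal.Quotient.mk _ y'
    rw [Ideal.Quotient.eq, hmap]
    have : residue W' (v x - y') = 0 := by rw [map_sub, hx, sub_self]
    exact (residue_eq_zero_iff _).1 this

/-- **EGA 0_IV 19.8.6 (ii)**: an isomorphism of residue fields of Cohen rings lifts. -/
theorem exists_equiv_of_residue_equiv (hW : IsCohenRingEGA W) (hW' : IsCohenRingEGA W')
    (u : ResidueField W ≃+* ResidueField W') :
    ∃ v : W ≃+* W', ∀ x : W, residue W' (v x) = u (residue W x) := by
  obtain ⟨p, hp⟩ := CharP.exists (ResidueField W)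
  haveI := hp
  haveI : CharP (ResidueField W') p :=
    charP_of_injective_ringHom (f := (u : ResidueField W →+* ResidueField W')) u.injective p
  obtain ⟨hN, hC, hm, -⟩ := cohen_basic hW p
  obtain ⟨hN', hC', hm', hp'⟩ := cohen_basic hW' p
  let ũ : W →+* W' ⧸ maximalIdeal W' := (u : ResidueField W →+* ResidueField W').comp (residue W)
  haveI : IsLocalHom ũ := ⟨fun a ha => by
    have h1 : IsUnit (u (residue W a)) := ha
    have h2 : IsUnit (residue W a) := by
      have := h1.map (u.symm : ResidueField W' →+* ResidueField W)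
      simpa using this
    exact isUnit_of_map_unit (residue W) a h2⟩
  haveI : IsLocalRing (W' ⧸ maximalIdeal W') := inferInstanceAs (IsLocalRing (ResidueField W'))
  obtain ⟨v, hvloc, hv⟩ := exists_lift_to_complete hW (maximalIdeal W')
    (maximalIdeal.isMaximal W').ne_top ũ
  have hres : ∀ x, residue W' (v x) = u (residue W x) := fun x => RingHom.congr_fun hv x
  have hbij : Function.Bijective v := by
    refine bijective_of_residue_surjective p hm hm' hp' v (fun y' => ?_)
    obtain ⟨x, hx⟩ := residue_surjective (u.symm (residue W' y'))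
    refine ⟨x, ?_⟩
    rw [hres, hx, RingEquiv.apply_symm_apply]
  exact ⟨RingEquiv.ofBijective v hbij, hres⟩

end Iso

end Groth.Agent.Lib.CohenLiftH3
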