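import Mathlib
import Groth.Prelude.Def_EGA41

/-!
# Lifting derivations for adically formally smooth algebras (EGA 0_IV 20.4.9)
-/

namespace Groth.Agent.Lib.AdicSmoothH1

open TensorProduct

universe u

variable {A B : Type u} [CommRing A] [CommRing B] [Algebra A B]

/-- `B ⧸ 𝔄` is discrete: a power of `𝔞` maps into the open ideal `𝔄`. -/
theorem exists_pow_algebraMap_mem (𝔞 : Ideal A) (𝔟 𝔄 : Ideal B)
    (hAB : ∃ k : ℕ, (𝔞 ^ k).map (algebraMap A B) ≤ 𝔟) (h𝔄 : ∃ n : ℕ, 𝔟 ^ n ≤ 𝔄) :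
    ∃ m : ℕ, ∀ a ∈ 𝔞 ^ m, algebraMap A B a ∈ 𝔄 := by
  obtain ⟨k, hk⟩ := hAB
  obtain ⟨n, hn⟩ := h𝔄
  refine ⟨k * n, fun a ha => hn ?_⟩
  rw [pow_mul] at ha
  have h1 : (𝔞 ^ k) ^ n ≤ (𝔟 ^ n).comap (algebraMap A B) :=
    calc (𝔞 ^ k) ^ n ≤ (𝔟.comap (algebraMap A B)) ^ n :=
          Ideal.pow_right_mono (Ideal.map_le_iff_le_comap.mp hk) n
      _ ≤ (𝔟 ^ n).comap (algebraMap A B) := Ideal.le_comap_pow _ n
  exact h1 ha

/-- Lifting derivations along surjections of `B ⧸ 𝔄`-modules, for `B` adically formally smooth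
and `𝔄` open. -/
theorem exists_derivation_lift (𝔞 : Ideal A) (𝔟 : Ideal B)
    (hAB : ∃ k : ℕ, (𝔞 ^ k).map (algebraMap A B) ≤ 𝔟)
    (h : EGA41.IsFormallySmoothAdic A 𝔞 B 𝔟) (𝔄 : Ideal B) (h𝔄 : ∃ n : ℕ, 𝔟 ^ n ≤ 𝔄)
    {P Q : Type u} [AddCommGroup P] [Module (B ⧸ 𝔄) P] [Module B P] [IsScalarTower B (B ⧸ 𝔄) P]
    [Module A P] [IsScalarTower A B P] [IsScalarTower A (B ⧸ 𝔄) P]
    [AddCommGroup Q] [Module (B ⧸ 𝔄) Q] [Module B Q] [IsScalarTower B (B ⧸ 𝔄) Q]
    [Module A Q] [IsScalarTower A B Q] [IsScalarTower A (B ⧸ 𝔄) Q]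
    (f : P →ₗ[B ⧸ 𝔄] Q) (hf : Function.Surjective f) (D : Derivation A B Q) :
    ∃ D' : Derivation A B P, ∀ b, f (D' b) = D b := by
  classical
  let iP : Module (B ⧸ 𝔄)ᵐᵒᵖ P :=
    Module.compHom P ((RingHom.id (B ⧸ 𝔄)).fromOpposite fun _ _ => Commute.all _ _)
  have cP : IsCentralScalar (B ⧸ 𝔄) P := ⟨fun r m => rfl⟩
  let iQ : Module (B ⧸ 𝔄)ᵐᵒᵖ Q :=
    Module.compHom Q ((RingHom.id (B ⧸ 𝔄)).fromOpposite fun _ _ => Commute.all _ _)
  have cQ : IsCentralScalar (B ⧸ 𝔄) Q := ⟨fun r m => rfl⟩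
  have hsmQ : ∀ (b : B) (q : Q), Ideal.Quotient.mk 𝔄 b • q = b • q :=
    fun b q => algebraMap_smul (B ⧸ 𝔄) b q
  have hsmP : ∀ (b : B) (q : P), Ideal.Quotient.mk 𝔄 b • q = b • q :=
    fun b q => algebraMap_smul (B ⧸ 𝔄) b q
  -- the algebra map attached to `D`
  let u : B →ₐ[A] TrivSqZeroExt (B ⧸ 𝔄) Q :=
    { toFun := fun b => TrivSqZeroExt.inl (Ideal.Quotient.mk 𝔄 b) + TrivSqZeroExt.inr (D b)
      map_one' := by ext <;> simp
      map_mul' := fun a b => by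
        ext
        · simp
        · simp [hsmQ, add_comm]
      map_zero' := by ext <;> simp
      map_add' := fun a b => by ext <;> simp [add_add_add_comm]
      commutes' := fun a => by
        ext
        · simp [TrivSqZeroExt.algebraMap_eq_inl']
        · simp [TrivSqZeroExt.algebraMap_eq_inl'] }
  have hu_apply : ∀ b, u b = TrivSqZeroExt.inl (Ideal.Quotient.mk 𝔄 b) + TrivSqZeroExt.inr (D b) :=
    fun b => rfl
  let gA : TrivSqZeroExt (B ⧸ 𝔄) P →ₐ[A] TrivSqZeroExt (B ⧸ 𝔄) Q :=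
    (TrivSqZeroExt.map f).restrictScalars A
  have hgA_fst : ∀ x, (gA x).fst = x.fst := fun x => TrivSqZeroExt.fst_map f x
  have hgA_snd : ∀ x, (gA x).snd = f x.snd := fun x => TrivSqZeroExt.snd_map f x
  have hg : Function.Surjective gA := by
    intro y
    obtain ⟨p, hp⟩ := hf y.snd
    refine ⟨TrivSqZeroExt.inl y.fst + TrivSqZeroExt.inr p, ?_⟩
    ext
    · rw [hgA_fst]; simp
    · rw [hgA_snd]; simp [hp]
  have hJ2 : (RingHom.ker gA) ^ 2 = ⊥ := by
    rw [eq_bot_iff, pow_two, Ideal.mul_le]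
    intro x hx y hy
    have hx0 : x.fst = 0 := by
      have := congrArg TrivSqZeroExt.fst (RingHom.mem_ker.mp hx)
      rw [hgA_fst] at this
      simpa using this
    have hy0 : y.fst = 0 := by
      have := congrArg TrivSqZeroExt.fst (RingHom.mem_ker.mp hy)
      rw [hgA_fst] at this
      simpa using this
    rw [Ideal.mem_bot]
    ext
    · simp [hx0]
    · simp [hx0, hy0]
  let e := Ideal.quotientKerAlgEquivOfSurjective hg
  obtain ⟨m, hm⟩ := exists_pow_algebraMap_mem 𝔞 𝔟 𝔄 hAB h𝔄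
  obtain ⟨n, hn⟩ := h𝔄
  have hdisc : ∃ k : ℕ, (𝔞 ^ k).map (algebraMap A (TrivSqZeroExt (B ⧸ 𝔄) P)) = ⊥ := by
    refine ⟨m, ?_⟩
    rw [Ideal.map_eq_bot_iff_le_ker]
    intro a ha
    rw [RingHom.mem_ker, TrivSqZeroExt.algebraMap_eq_inl',
      IsScalarTower.algebraMap_apply A B (B ⧸ 𝔄), Ideal.Quotient.algebraMap_eq,
      Ideal.Quotient.eq_zero_iff_mem.mpr (hm a ha), TrivSqZeroExt.inl_zero]
  have hker_u : 𝔄 * 𝔄 ≤ RingHom.ker u := by
    rw [Ideal.mul_le]
    intro a ha a' ha'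
    rw [RingHom.mem_ker, map_mul, hu_apply, hu_apply, Ideal.Quotient.eq_zero_iff_mem.mpr ha,
      Ideal.Quotient.eq_zero_iff_mem.mpr ha', TrivSqZeroExt.inl_zero, zero_add, zero_add,
      TrivSqZeroExt.inr_mul_inr]
  have hcontu : ∃ k : ℕ, ∀ x ∈ 𝔟 ^ k, (e.symm.toAlgHom.comp u) x = 0 := by
    refine ⟨n * 2, fun x hx => ?_⟩
    have hx' : x ∈ 𝔄 * 𝔄 := by
      rw [pow_mul, pow_two] at hx
      exact Ideal.mul_mono hn hn hx
    have : u x = 0 := RingHom.mem_ker.mp (hker_u hx')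
    simp [this]
  obtain ⟨v, hv⟩ := h (TrivSqZeroExt (B ⧸ 𝔄) P) (RingHom.ker gA) ⟨2, hJ2⟩ hdisc
    (e.symm.toAlgHom.comp u) hcontu
  have hgv : ∀ b, gA (v b) = u b := by
    intro b
    have h1 := AlgHom.congr_fun hv b
    have h2 : e (Ideal.Quotient.mk _ (v b)) = gA (v b) :=
      Ideal.quotientKerAlgEquivOfSurjective_mk hg (v b)
    rw [← h2]
    have h3 : (Ideal.Quotient.mk (RingHom.ker gA)) (v b) = e.symm (u b) := h1
    rw [h3, AlgEquiv.apply_symm_apply]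
  have hfst : ∀ b, (v b).fst = Ideal.Quotient.mk 𝔄 b := by
    intro b
    have := congrArg TrivSqZeroExt.fst (hgv b)
    rw [hgA_fst, hu_apply] at this
    simpa using this
  have hsnd : ∀ b, f (v b).snd = D b := by
    intro b
    have := congrArg TrivSqZeroExt.snd (hgv b)
    rw [hgA_snd, hu_apply] at this
    simpa using this
  refine ⟨{ toLinearMap :=
              { toFun := fun b => (v b).snd
                map_add' := fun a b => by simp
                map_smul' := fun a b => by simp }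
            map_one_eq_zero' := by simp
            leibniz' := fun a b => by
              show (v (a * b)).snd = a • (v b).snd + b • (v a).snd
              rw [map_mul, TrivSqZeroExt.snd_mul, hfst a, hfst b, op_smul_eq_smul, hsmP, hsmP] },
    fun b => hsnd b⟩

/-- A projective module over a local ring with nilpotent maximal ideal is free
(no finiteness assumption). -/
theorem free_of_projective_of_isNilpotent_maximalIdeal {R : Type*} [CommRing R] [IsLocalRing R]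
    (hnil : IsNilpotent (IsLocalRing.maximalIdeal R)) (P : Type*) [AddCommGroup P] [Module R P]
    [Module.Projective R P] : Module.Free R P := by
  classical
  let b := Module.Free.chooseBasis (IsLocalRing.ResidueField R) (IsLocalRing.ResidueField R ⊗[R] P)
  have hsurj := TensorProduct.mk_surjective R P (IsLocalRing.ResidueField R)
    IsLocalRing.residue_surjective
  choose x hx using fun i => hsurj (b i)
  have hli : LinearIndependent R x := by
    apply Module.IsLocalRing.linearIndependent_of_flat x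
    have : (TensorProduct.mk R (IsLocalRing.ResidueField R) P 1 ∘ x) = b := funext hx
    rw [this]
    exact b.linearIndependent
  have hsup : (⊤ : Submodule R P) ≤
      Submodule.span R (Set.range x) ⊔ (IsLocalRing.maximalIdeal R) • ⊤ := by
    intro p _
    let c := b.repr ((1 : IsLocalRing.ResidueField R) ⊗ₜ[R] p)
    let σ : IsLocalRing.ResidueField R → R := Function.surjInv IsLocalRing.residue_surjective
    have hσ : ∀ y, IsLocalRing.residue R (σ y) = y := Function.surjInv_eq _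
    let p' : P := ∑ i ∈ c.support, σ (c i) • x i
    have hp'N : p' ∈ Submodule.span R (Set.range x) :=
      Submodule.sum_mem _ fun i _ => Submodule.smul_mem _ _ (Submodule.subset_span ⟨i, rfl⟩)
    have h1 : (1 : IsLocalRing.ResidueField R) ⊗ₜ[R] p' =
        (1 : IsLocalRing.ResidueField R) ⊗ₜ[R] p := by
      have h2 : (1 : IsLocalRing.ResidueField R) ⊗ₜ[R] p' = ∑ i ∈ c.support, c i • b i := by
        simp only [p', TensorProduct.tmul_sum, TensorProduct.tmul_smul]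
        refine Finset.sum_congr rfl fun i _ => ?_
        rw [← hx i, TensorProduct.mk_apply,
          ← algebraMap_smul (IsLocalRing.ResidueField R) (σ (c i)),
          IsLocalRing.ResidueField.algebraMap_eq, hσ]
      rw [h2]
      have := b.linearCombination_repr ((1 : IsLocalRing.ResidueField R) ⊗ₜ[R] p)
      rw [Finsupp.linearCombination_apply, Finsupp.sum] at this
      exact this
    have h3 : p - p' ∈ (IsLocalRing.maximalIdeal R) • (⊤ : Submodule R P) := by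
      rw [← LinearMap.ker_tensorProductMk, LinearMap.mem_ker]
      show ((1 : IsLocalRing.ResidueField R) ⊗ₜ[R] (p - p')) = 0
      rw [TensorProduct.tmul_sub]
      exact sub_eq_zero.mpr h1.symm
    have : p = p' + (p - p') := by abel
    rw [this]
    exact Submodule.add_mem_sup hp'N h3
  have hspan : ⊤ ≤ Submodule.span R (Set.range x) := by
    obtain ⟨n, hn⟩ := hnil
    have hall : ∀ j : ℕ, (⊤ : Submodule R P) ≤
        Submodule.span R (Set.range x) ⊔ (IsLocalRing.maximalIdeal R) ^ j • ⊤ := by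
      intro j
      induction j with
      | zero => simp
      | succ j ih =>
        refine ih.trans (sup_le le_sup_left ?_)
        calc (IsLocalRing.maximalIdeal R) ^ j • (⊤ : Submodule R P)
            ≤ (IsLocalRing.maximalIdeal R) ^ j •
                (Submodule.span R (Set.range x) ⊔ (IsLocalRing.maximalIdeal R) • ⊤) :=
              smul_mono_right _ hsup
          _ = (IsLocalRing.maximalIdeal R) ^ j • Submodule.span R (Set.range x) ⊔
                (IsLocalRing.maximalIdeal R) ^ j • ((IsLocalRing.maximalIdeal R) • ⊤) :=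
              Submodule.smul_sup _ _ _
          _ ≤ Submodule.span R (Set.range x) ⊔ (IsLocalRing.maximalIdeal R) ^ (j + 1) • ⊤ := by
              refine sup_le_sup Submodule.smul_le_right ?_
              rw [← Submodule.mul_smul, ← pow_succ]
    have := hall n
    rw [hn] at this
    simpa using this
  exact Module.Free.of_basis (Module.Basis.mk hli hspan)

/-- The maximal ideal of a quotient of a local ring is nilpotent when the ideal is open. -/
theorem isNilpotent_maximalIdeal_quotient {R : Type*} [CommRing R] [IsLocalRing R] (I : Ideal R)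
    [IsLocalRing (R ⧸ I)] (hpow : ∃ k : ℕ, IsLocalRing.maximalIdeal R ^ k ≤ I) :
    IsNilpotent (IsLocalRing.maximalIdeal (R ⧸ I)) := by
  obtain ⟨k, hk⟩ := hpow
  refine ⟨k, ?_⟩
  have hle : IsLocalRing.maximalIdeal (R ⧸ I) ≤
      (IsLocalRing.maximalIdeal R).map (Ideal.Quotient.mk I) := by
    intro y hy
    obtain ⟨r, rfl⟩ := Ideal.Quotient.mk_surjective y
    refine Ideal.mem_map_of_mem _ ?_
    rw [IsLocalRing.mem_maximalIdeal, mem_nonunits_iff] at hy ⊢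
    exact fun hr => hy (hr.map (Ideal.Quotient.mk I))
  rw [Ideal.zero_eq_bot, eq_bot_iff]
  calc IsLocalRing.maximalIdeal (R ⧸ I) ^ k
      ≤ ((IsLocalRing.maximalIdeal R).map (Ideal.Quotient.mk I)) ^ k := Ideal.pow_right_mono hle k
    _ = (IsLocalRing.maximalIdeal R ^ k).map (Ideal.Quotient.mk I) := (Ideal.map_pow _ _ _).symm
    _ ≤ I.map (Ideal.Quotient.mk I) := Ideal.map_mono hk
    _ = ⊥ := Ideal.map_quotient_self I

end Groth.Agent.Lib.AdicSmoothH1

namespace Groth.Agent.Lib.AdicSmoothH1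

universe u

variable {A B : Type u} [CommRing A] [CommRing B] [Algebra A B]

/-- Lifting against an intersection of two ideals (fibre product of quotients). -/
theorem exists_lift_inf (𝔞 : Ideal A) (𝔟 : Ideal B) (hB : EGA41.IsFormallySmoothAdic A 𝔞 B 𝔟)
    {C : Type u} [CommRing C] [Algebra A C] (I₀ I₁ I₂ : Ideal C) (h01 : I₀ ≤ I₁) (h02 : I₀ ≤ I₂)
    (hdisc : ∃ k : ℕ, ∀ a ∈ 𝔞 ^ k, algebraMap A C a ∈ I₀)
    (hnil : ∃ s : ℕ, (I₁ ⊓ I₂) ^ s ≤ I₀)
    (α : B →ₐ[A] C ⧸ I₁) (β : B →ₐ[A] C ⧸ I₂)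
    (hcompat : ∀ b c₁ c₂, α b = Ideal.Quotient.mk I₁ c₁ → β b = Ideal.Quotient.mk I₂ c₂ →
      c₁ - c₂ ∈ I₁ ⊔ I₂)
    (hcont : ∃ k : ℕ, ∀ x ∈ 𝔟 ^ k, α x = 0 ∧ β x = 0) :
    ∃ w : B →ₐ[A] C ⧸ I₀, (Ideal.Quotient.factorₐ A h01).comp w = α ∧
      (Ideal.Quotient.factorₐ A h02).comp w = β ∧ ∃ k : ℕ, ∀ x ∈ 𝔟 ^ k, w x = 0 := by
  classical
  obtain ⟨s, hs⟩ := hnil
  obtain ⟨k₀, hk₀⟩ := hcont
  have h0I : I₀ ≤ I₁ ⊓ I₂ := le_inf h01 h02
  let ι : C ⧸ (I₁ ⊓ I₂) →ₐ[A] (C ⧸ I₁) × (C ⧸ I₂) :=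
    AlgHom.prod (Ideal.Quotient.factorₐ A (inf_le_left : I₁ ⊓ I₂ ≤ I₁))
      (Ideal.Quotient.factorₐ A (inf_le_right : I₁ ⊓ I₂ ≤ I₂))
  have hι_mk : ∀ c : C, ι (Ideal.Quotient.mk (I₁ ⊓ I₂) c) =
      (Ideal.Quotient.mk I₁ c, Ideal.Quotient.mk I₂ c) := fun c => rfl
  have hι : Function.Injective ι := by
    rw [injective_iff_map_eq_zero]
    intro y hy
    obtain ⟨c, rfl⟩ := Ideal.Quotient.mk_surjective y
    rw [hι_mk] at hy
    have h1 : Ideal.Quotient.mk I₁ c = 0 := congrArg Prod.fst hy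
    have h2 : Ideal.Quotient.mk I₂ c = 0 := congrArg Prod.snd hy
    rw [Ideal.Quotient.eq_zero_iff_mem] at h1 h2 ⊢
    exact ⟨h1, h2⟩
  let ψ : B →ₐ[A] (C ⧸ I₁) × (C ⧸ I₂) := AlgHom.prod α β
  have hψ : ∀ b, ψ b = (α b, β b) := fun b => rfl
  have hmem : ∀ b, ψ b ∈ ι.range := by
    intro b
    obtain ⟨c₁, hc₁⟩ := Ideal.Quotient.mk_surjective (α b)
    obtain ⟨c₂, hc₂⟩ := Ideal.Quotient.mk_surjective (β b)
    have := hcompat b c₁ c₂ hc₁.symm hc₂.symm
    obtain ⟨i₁, hi₁, i₂, hi₂, hsum⟩ := Submodule.mem_sup.mp this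
    refine ⟨Ideal.Quotient.mk (I₁ ⊓ I₂) (c₁ - i₁), ?_⟩
    show ι (Ideal.Quotient.mk (I₁ ⊓ I₂) (c₁ - i₁)) = ψ b
    rw [hι_mk, hψ]
    apply Prod.ext
    · show Ideal.Quotient.mk I₁ (c₁ - i₁) = α b
      rw [← hc₁, Ideal.Quotient.mk_eq_mk_iff_sub_mem]
      have : c₁ - i₁ - c₁ = -i₁ := by ring
      rw [this]; exact neg_mem hi₁
    · show Ideal.Quotient.mk I₂ (c₁ - i₁) = β b
      rw [← hc₂, Ideal.Quotient.mk_eq_mk_iff_sub_mem]
      have : c₁ - i₁ - c₂ = i₂ := by rw [sub_right_comm, ← hsum]; ring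
      rw [this]; exact hi₂
  let γ : B →ₐ[A] C ⧸ (I₁ ⊓ I₂) :=
    (AlgEquiv.ofInjective ι hι).symm.toAlgHom.comp (ψ.codRestrict ι.range hmem)
  have hγ : ∀ b, ι (γ b) = ψ b := by
    intro b
    have h1 := (AlgEquiv.ofInjective ι hι).apply_symm_apply (ψ.codRestrict ι.range hmem b)
    have h2 := congrArg Subtype.val h1
    rw [AlgEquiv.ofInjective_apply] at h2
    exact h2
  have hJ'pow : ((I₁ ⊓ I₂).map (Ideal.Quotient.mkₐ A I₀)) ^ s = ⊥ := by
    rw [← Ideal.map_pow, Ideal.map_eq_bot_iff_le_ker]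
    intro x hx
    rw [RingHom.mem_ker]
    exact Ideal.Quotient.eq_zero_iff_mem.mpr (hs hx)
  have hdisc' : ∃ k : ℕ, (𝔞 ^ k).map (algebraMap A (C ⧸ I₀)) = ⊥ := by
    obtain ⟨k, hk⟩ := hdisc
    refine ⟨k, ?_⟩
    rw [Ideal.map_eq_bot_iff_le_ker]
    intro a ha
    rw [RingHom.mem_ker, IsScalarTower.algebraMap_apply A C (C ⧸ I₀),
      Ideal.Quotient.algebraMap_eq, Ideal.Quotient.eq_zero_iff_mem]
    exact hk a ha
  have hγ0 : ∀ x ∈ 𝔟 ^ k₀, γ x = 0 := by
    intro x hx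
    apply hι
    rw [hγ, map_zero, hψ]
    exact Prod.ext (hk₀ x hx).1 (hk₀ x hx).2
  let e := DoubleQuot.quotQuotEquivQuotOfLEₐ A h0I
  obtain ⟨w, hw⟩ := hB (C ⧸ I₀) ((I₁ ⊓ I₂).map (Ideal.Quotient.mkₐ A I₀)) ⟨s, hJ'pow⟩ hdisc'
    (e.symm.toAlgHom.comp γ) ⟨k₀, fun x hx => by simp [hγ0 x hx]⟩
  have hw' : ∀ b, Ideal.Quotient.mk ((I₁ ⊓ I₂).map (Ideal.Quotient.mkₐ A I₀)) (w b) =
      e.symm (γ b) := fun b => AlgHom.congr_fun hw b
  have hwγ : ∀ b, Ideal.Quotient.factorₐ A h0I (w b) = γ b := by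
    intro b
    obtain ⟨c, hc⟩ := Ideal.Quotient.mk_surjective (w b)
    have h2 : e (Ideal.Quotient.mk _ (w b)) = γ b := by
      rw [hw' b, AlgEquiv.apply_symm_apply]
    rw [← h2, ← hc]
    rfl
  refine ⟨w, ?_, ?_, ?_⟩
  · ext b
    have h1 := congrArg Prod.fst (hγ b)
    rw [← hwγ b, hψ] at h1
    obtain ⟨c, hc⟩ := Ideal.Quotient.mk_surjective (w b)
    rw [← hc] at h1
    rw [AlgHom.comp_apply, ← hc]
    exact h1
  · ext b
    have h1 := congrArg Prod.snd (hγ b)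
    rw [← hwγ b, hψ] at h1
    obtain ⟨c, hc⟩ := Ideal.Quotient.mk_surjective (w b)
    rw [← hc] at h1
    rw [AlgHom.comp_apply, ← hc]
    exact h1
  · refine ⟨k₀ * s, fun x hx => ?_⟩
    rw [pow_mul] at hx
    have h1 : (𝔟 ^ k₀).map w ≤ (I₁ ⊓ I₂).map (Ideal.Quotient.mkₐ A I₀) := by
      rw [Ideal.map_le_iff_le_comap]
      intro y hy
      rw [Ideal.mem_comap, ← Ideal.Quotient.eq_zero_iff_mem, hw' y, hγ0 y hy, map_zero]
    have h2 : ((𝔟 ^ k₀) ^ s).map w ≤ ((I₁ ⊓ I₂).map (Ideal.Quotient.mkₐ A I₀)) ^ s := by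
      rw [Ideal.map_pow]
      exact Ideal.pow_right_mono h1 s
    have h3 := h2 (Ideal.mem_map_of_mem w hx)
    rw [hJ'pow] at h3
    exact h3

/-- In a Hausdorff ring, elements agreeing modulo all powers of the ideal are equal. -/
theorem eq_of_forall_mk_pow_eq {C : Type*} [CommRing C] (𝔠 : Ideal C) [IsHausdorff 𝔠 C] (x y : C)
    (h : ∀ n : ℕ, Ideal.Quotient.mk (𝔠 ^ n) x = Ideal.Quotient.mk (𝔠 ^ n) y) : x = y := by
  rw [IsHausdorff.eq_iff_smodEq (I := 𝔠)]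
  intro n
  rw [SModEq.sub_mem, smul_eq_mul, Ideal.mul_top]
  exact (Ideal.Quotient.mk_eq_mk_iff_sub_mem x y).mp (h n)

end Groth.Agent.Lib.AdicSmoothH1
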