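import Mathlib
import Groth.Prelude.Def_EGA41
import Groth.Prelude.Def_CAlgX
import Groth.Agent.Lib.CohenStruct_helper3
import Groth.Agent.Lib.CohenLift3_helper3
import Groth.Agent.Lib.CompleteFinite_helper3
import Groth.Agent.S4542
import Groth.Agent.S3866

/-!
# Adic formal smoothness implies flatness, Artinian base and complete target (EGA 0_IV 19.7.1)

A local homomorphism `A → B` with `𝔪_A` nilpotent, `B` complete Noetherian local and formally smooth
over `A` for the `𝔪_B`-adic topology is flat: `B` is a retract of the flat `A`-algebra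
`A ⊗_Λ W[[z]]`, `Λ` a Cohen ring of the residue field of `A`.
APPEND-ONLY once landed.
-/

set_option autoImplicit false
set_option maxSynthPendingDepth 3

namespace Groth.Agent.Lib.FSFlatH3

universe u

open IsLocalRing TensorProduct EGA41 MvPowerSeries Groth.Agent.Lib.CohenLiftH3
  Groth.Agent.Lib.CohenStructH3

/-- basic facts on Cohen rings in the wide sense -/
theorem cohenEGA_facts {W : Type u} [CommRing W] [IsLocalRing W] (hW : IsCohenRingEGA W) :
    IsDomain W ∧ IsPrincipalIdealRing W ∧ IsNoetherianRing W ∧
      IsAdicComplete (maximalIdeal W) W ∧ CharZero W := by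
  obtain ⟨p, hp⟩ := CharP.exists (ResidueField W)
  haveI := hp
  obtain ⟨hN, hC, -, -⟩ := cohen_basic hW p
  rcases hW with ⟨hfield, hchar⟩ | ⟨hdom, hdvr, hcomp, q, hq, hmax⟩
  · letI := hfield.toField
    exact ⟨inferInstance, inferInstance, hN, hC, hchar⟩
  · exact ⟨hdom, inferInstance, hN, hC, (cohen_facts q hq hmax p).2⟩

/-- a complete local ring receives a local homomorphism from a Cohen ring (wide sense) inducing
a surjection on residue fields -/
theorem exists_cohen_to (R : Type u) [CommRing R] [IsLocalRing R]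
    [IsAdicComplete (maximalIdeal R) R] :
    ∃ (W : Type u) (_ : CommRing W) (_ : IsLocalRing W) (v : W →+* R),
      IsCohenRingEGA W ∧ Function.Surjective ((residue R).comp v) ∧
        ∀ a ∈ maximalIdeal W, v a ∈ maximalIdeal R := by
  classical
  obtain ⟨p, hp⟩ := CharP.exists (ResidueField R)
  rcases CharP.char_is_prime_or_zero (ResidueField R) p with hpp | rfl
  · haveI : Fact p.Prime := ⟨hpp⟩
    obtain ⟨W, _, _, hW, ⟨e⟩⟩ := Groth.Agent.Lib.CohenRingH3.exists_cohenRing p (ResidueField R)
    obtain ⟨hdom, hdvr, hcomp, -⟩ := id hW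
    haveI : IsAdicComplete (maximalIdeal W) W := hcomp
    let u : W →+* R ⧸ maximalIdeal R := (e : ResidueField W →+* ResidueField R).comp (residue W)
    haveI : IsLocalHom u := ⟨fun a ha => by
      by_contra hna
      have h1 : residue W a = 0 := (residue_eq_zero_iff a).2 ((mem_maximalIdeal a).2 hna)
      have h2 : u a = 0 := by
        show e (residue W a) = 0
        rw [h1, map_zero]
      rw [h2] at ha
      haveI : Nontrivial (R ⧸ maximalIdeal R) :=
        Ideal.Quotient.nontrivial_iff.2 (maximalIdeal.isMaximal R).ne_top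
      exact not_isUnit_zero ha⟩
    obtain ⟨v, hv⟩ := exists_lift_residue (Or.inr hW) u
    have hvu : ∀ a, residue R (v a) = e (residue W a) := fun a => RingHom.congr_fun hv a
    refine ⟨W, inferInstance, inferInstance, v, Or.inr hW, ?_, ?_⟩
    · intro y
      obtain ⟨z, hz⟩ := e.surjective y
      obtain ⟨a, rfl⟩ := residue_surjective z
      exact ⟨a, (hvu a).trans hz⟩
    · intro a ha
      rw [← residue_eq_zero_iff, hvu, (residue_eq_zero_iff a).2 ha, map_zero]
  · haveI : CharZero (ResidueField R) := CharP.charP_to_charZero _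
    obtain ⟨s, hs⟩ := Groth.Agent.S0579.result R
    refine ⟨ResidueField R, inferInstance, inferInstance, s,
      Or.inl ⟨Field.toIsField _, inferInstance⟩, fun y => ⟨y, RingHom.congr_fun hs y⟩, ?_⟩
    intro a ha
    rw [IsLocalRing.maximalIdeal_eq_bot, Ideal.mem_bot] at ha
    rw [ha, map_zero]
    exact Ideal.zero_mem _

theorem sup_pow_le {R : Type*} [CommRing R] (I N : Ideal R) (t : ℕ) :
    (I ⊔ N) ^ t ≤ I ⊔ N ^ t := by
  induction t with
  | zero => rw [pow_zero, pow_zero]; exact le_sup_right
  | succ t ih =>
    rw [pow_succ, pow_succ]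
    refine (Ideal.mul_mono_left ih).trans ?_
    rw [Ideal.sup_mul, Ideal.mul_sup, Ideal.mul_sup]
    refine sup_le (sup_le (Ideal.mul_le_left.trans le_sup_left)
      (Ideal.mul_le_left.trans le_sup_left)) (sup_le (Ideal.mul_le_right.trans le_sup_left)
      le_sup_right)

end Groth.Agent.Lib.FSFlatH3
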