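import Mathlib
import Groth.Prelude.Def_Found
import Groth.Agent.S0581
import Groth.Agent.Lib.PSN2_helper3
import Groth.Agent.Lib.MonomialCharP_helper3
import Groth.Agent.Lib.N2QuasiFinite_helper3
import Groth.Agent.Lib.Japanese5_helper9

/-!
# Complete Noetherian local rings are Nagata (helper3)
APPEND-ONLY once landed.

Proof: a prime quotient is a complete local domain, hence (Cohen structure theorem, S0581) finite
over a power series ring `Λ⟦X₁..X_n⟧` with `Λ` a field or a Cohen ring; the latter is N-2 by
Tate's theorem (`PSN2H3.mv_aux`), and N-2 ascends along finite injective extensions.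
-/

set_option autoImplicit false
universe u

namespace Groth.Agent.Lib.CompleteNagataH3

open IsLocalRing

/-- A Noetherian normal domain of characteristic zero is N-2. -/
theorem isN2_of_charZero (A : Type u) [CommRing A] [IsDomain A] [IsNoetherianRing A]
    [IsIntegrallyClosed A] [CharZero A] : CAlg.IsN2 A := by
  intro L _ _ _ _ hfin
  haveI := hfin
  haveI : CharZero (FractionRing A) :=
    charZero_of_injective_algebraMap (IsFractionRing.injective A (FractionRing A))
  haveI : Algebra.IsSeparable (FractionRing A) L := inferInstance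
  exact IsIntegralClosure.finite A (FractionRing A) L (integralClosure A L)

/-- A Cohen ring has characteristic zero. -/
theorem charZero_of_isCohenRing (Λ : Type u) [CommRing Λ] [IsDomain Λ]
    [IsDiscreteValuationRing Λ] (p : ℕ) (hp : p.Prime)
    (hm : maximalIdeal Λ = Ideal.span {(p : Λ)}) : CharZero Λ := by
  have hp0 : (p : Λ) ≠ 0 := by
    intro h0
    have : maximalIdeal Λ = ⊥ := by rw [hm, h0]; simp
    exact IsDiscreteValuationRing.not_a_field Λ this
  obtain ⟨q, hq⟩ := CharP.exists Λ
  rcases CharP.char_is_prime_or_zero Λ q with hq' | hq'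
  · exfalso
    by_cases hpq : p = q
    · subst hpq
      exact hp0 (CharP.cast_eq_zero Λ p)
    · have hcop : Nat.Coprime p q := (Nat.coprime_primes hp hq').2 hpq
      have h1 : (p : Λ) ∈ maximalIdeal Λ := by
        rw [hm]; exact Ideal.subset_span rfl
      have h2 : (q : Λ) ∈ maximalIdeal Λ := by
        rw [CharP.cast_eq_zero Λ q]; exact zero_mem _
      have h3 : ((Nat.gcdA p q : ℤ) : Λ) * (p : Λ) + ((Nat.gcdB p q : ℤ) : Λ) * (q : Λ) = 1 := by
        have := Nat.gcd_eq_gcd_ab p q
        rw [hcop] at this
        have h4 : ((1 : ℕ) : ℤ) = (p : ℤ) * Nat.gcdA p q + (q : ℤ) * Nat.gcdB p q := this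
        have h5 := congrArg (Int.cast (R := Λ)) h4
        push_cast at h5
        rw [h5]
        ring
      have h6 : (1 : Λ) ∈ maximalIdeal Λ := by
        rw [← h3]
        exact add_mem (Ideal.mul_mem_left _ _ h1) (Ideal.mul_mem_left _ _ h2)
      exact (Ideal.ne_top_iff_one _).1 (maximalIdeal.isMaximal Λ).ne_top h6
  · subst hq'
    exact CharP.charP_to_charZero Λ

/-- A complete Noetherian local domain is N-2. -/
theorem isN2_of_complete_local_domain (R : Type u) [CommRing R] [IsDomain R] [IsLocalRing R]
    [IsNoetherianRing R] [IsAdicComplete (maximalIdeal R) R] : CAlg.IsN2 R := by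
  obtain ⟨Λ, _, n, f, hΛ, hinj, hfin, -⟩ := Groth.Agent.S0581.result R
  have key : ∃ (_ : IsDomain Λ) (_ : IsNoetherianRing Λ) (_ : IsIntegrallyClosed Λ),
      CAlg.IsN2 Λ := by
    rcases hΛ with hfield | ⟨hd, hdvr, -, p, hp, hm⟩
    · letI := hfield.toField
      exact ⟨inferInstance, inferInstance, inferInstance,
        Groth.Agent.Lib.Japanese.isN2_of_isField Λ hfield⟩
    · haveI := hd
      haveI := hdvr
      haveI := charZero_of_isCohenRing Λ p hp hm
      exact ⟨hd, inferInstance, inferInstance, isN2_of_charZero Λ⟩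
  obtain ⟨hd, hnoeth, hic, hn2Λ⟩ := key
  haveI := hd
  haveI := hnoeth
  haveI := hic
  obtain ⟨hdP, -, hn2⟩ := PSN2H3.mv_aux Λ hn2Λ n
  haveI := hdP
  letI : Algebra (MvPowerSeries (Fin n) Λ) R := f.toAlgebra
  haveI : Module.Finite (MvPowerSeries (Fin n) Λ) R := hfin
  exact N2QuasiFiniteH3.isN2_of_finite_injective (MvPowerSeries (Fin n) Λ) R hinj hn2

/-- A complete Noetherian local ring is Nagata. -/
theorem isNagata_of_complete_local (R : Type u) [CommRing R] [IsLocalRing R]
    [IsNoetherianRing R] [IsAdicComplete (maximalIdeal R) R] : CAlg.IsNagata R := by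
  refine ⟨inferInstance, fun p hp => ?_⟩
  haveI : Nontrivial (R ⧸ p) := Ideal.Quotient.nontrivial_iff.2 hp.ne_top
  haveI : IsLocalRing (R ⧸ p) :=
    IsLocalRing.of_surjective' (Ideal.Quotient.mk p) Ideal.Quotient.mk_surjective
  haveI := MonomialCharPH3.isAdicComplete_quotient R p
  exact isN2_of_complete_local_domain (R ⧸ p)

end Groth.Agent.Lib.CompleteNagataH3
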