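import Mathlib

open TensorProduct MvPolynomial

namespace Groth.Agent.Lib.EtLiftGlobal

universe u

open Algebra

set_option maxHeartbeats 1000000 in
theorem exists_etale_lift (R : Type u) [CommRing R] (I : Ideal R) (Sb : Type u)
    [CommRing Sb] [Algebra (R ⧸ I) Sb] [Algebra.Etale (R ⧸ I) Sb] :
    ∃ (S : Type u) (_ : CommRing S) (_ : Algebra R S), Algebra.Etale R S ∧
      Nonempty (((R ⧸ I) ⊗[R] S) ≃ₐ[R ⧸ I] Sb) := by
  classical
  obtain ⟨ι, σ, _, _, P, hdim⟩ :=
    (Algebra.Etale.iff_isStandardSmoothOfRelativeDimension_zero.mp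
      (inferInstance : Algebra.Etale (R ⧸ I) Sb)).out
  haveI : Fintype σ := Fintype.ofFinite σ
  have hsurj : Function.Surjective (MvPolynomial.map (σ := ι) (algebraMap R (R ⧸ I))) :=
    MvPolynomial.map_surjective _ Ideal.Quotient.mk_surjective
  choose V hV using fun s : σ => hsurj (P.relation s)
  let P₀ : PreSubmersivePresentation R (MvPolynomial ι R ⧸ Ideal.span (Set.range V)) ι σ :=
    PreSubmersivePresentation.naive (v := V) P.map P.map_inj
  let Δ : MvPolynomial ι R ⧸ Ideal.span (Set.range V) := P₀.jacobian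
  let Q : SubmersivePresentation (MvPolynomial ι R ⧸ Ideal.span (Set.range V))
      (Localization.Away Δ) Unit Unit :=
    SubmersivePresentation.localizationAway (Localization.Away Δ) Δ
  let QP : PreSubmersivePresentation R (Localization.Away Δ) (Unit ⊕ ι) (Unit ⊕ σ) :=
    Q.toPreSubmersivePresentation.comp P₀
  have hjac : IsUnit QP.jacobian := by
    show IsUnit (Q.toPreSubmersivePresentation.comp P₀).jacobian
    rw [PreSubmersivePresentation.comp_jacobian_eq_jacobian_smul_jacobian, Algebra.smul_def,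
      IsUnit.mul_iff]
    refine ⟨?_, Q.jacobian_isUnit⟩
    exact IsLocalization.map_units _ (⟨Δ, 1, by simp⟩ : Submonoid.powers Δ)
  let SP : SubmersivePresentation R (Localization.Away Δ) (Unit ⊕ ι) (Unit ⊕ σ) := ⟨QP, hjac⟩
  have hSPdim : SP.dimension = 0 := by
    show (Q.toPreSubmersivePresentation.comp P₀).dimension = 0
    rw [PreSubmersivePresentation.dimension_comp_eq_dimension_add_dimension]
    have h1 : Q.dimension = 0 := by simp [Presentation.dimension]
    have h2 : P₀.dimension = 0 := hdim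
    rw [h1, h2]
  haveI : Algebra.IsStandardSmoothOfRelativeDimension 0 R (Localization.Away Δ) :=
    SP.isStandardSmoothOfRelativeDimension hSPdim
  refine ⟨Localization.Away Δ, inferInstance, inferInstance, inferInstance, ⟨?_⟩⟩
  letI : Algebra R Sb := ((algebraMap (R ⧸ I) Sb).comp (algebraMap R (R ⧸ I))).toAlgebra
  haveI : IsScalarTower R (R ⧸ I) Sb := IsScalarTower.of_algebraMap_eq' rfl
  have hrel : ∀ s, MvPolynomial.aeval (R := R) P.val (V s) = 0 := by
    intro s
    rw [← MvPolynomial.aeval_map_algebraMap (R ⧸ I) P.val (V s), hV]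
    exact P.aeval_val_relation s
  let f₀ : (MvPolynomial ι R ⧸ Ideal.span (Set.range V)) →ₐ[R] Sb :=
    Ideal.Quotient.liftₐ _ (MvPolynomial.aeval P.val) (by
      intro a ha
      have : Ideal.span (Set.range V) ≤
          RingHom.ker (MvPolynomial.aeval (R := R) P.val).toRingHom := by
        rw [Ideal.span_le]; rintro _ ⟨s, rfl⟩; exact hrel s
      exact this ha)
  have hf₀mk : ∀ p : MvPolynomial ι R,
      f₀ (Ideal.Quotient.mk _ p) = MvPolynomial.aeval P.val p := fun p => rfl
  have hΔ : f₀ Δ = P.jacobian := by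
    show f₀ P₀.jacobian = P.jacobian
    rw [PreSubmersivePresentation.jacobian_eq_jacobiMatrix_det,
      PreSubmersivePresentation.jacobian_eq_jacobiMatrix_det]
    have h1 : ∀ p : MvPolynomial ι R, f₀ (algebraMap P₀.Ring _ p) =
        MvPolynomial.aeval P.val p := fun p => rfl
    rw [h1, Generators.algebraMap_apply, AlgHom.map_det, AlgHom.map_det]
    congr 1
    ext i j
    simp only [AlgHom.mapMatrix_apply, Matrix.map_apply,
      PreSubmersivePresentation.jacobiMatrix_apply]
    show MvPolynomial.aeval P.val (MvPolynomial.pderiv (P.map i) (V j)) =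
      MvPolynomial.aeval P.val (MvPolynomial.pderiv (P.map i) (P.relation j))
    rw [← hV j, MvPolynomial.pderiv_map, MvPolynomial.aeval_map_algebraMap]
  have hunit : ∀ y : Submonoid.powers Δ, IsUnit (f₀ y) := by
    rintro ⟨_, n, rfl⟩
    rw [map_pow, hΔ]; exact P.jacobian_isUnit.pow n
  let f : Localization.Away Δ →ₐ[R] Sb :=
    IsLocalization.liftAlgHom (M := Submonoid.powers Δ) (f := f₀) hunit
  have hf : ∀ x, f (algebraMap _ _ x) = f₀ x := fun x => IsLocalization.lift_eq _ x
  let g : (R ⧸ I) ⊗[R] Localization.Away Δ →ₐ[R ⧸ I] Sb :=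
    Algebra.TensorProduct.lift (Algebra.ofId (R ⧸ I) Sb) f (fun _ _ => Commute.all _ _)
  have hg : ∀ a x, g (a ⊗ₜ x) = algebraMap (R ⧸ I) Sb a * f x := by
    intro a x; simp [g, Algebra.ofId_apply]
  let t : ι → (R ⧸ I) ⊗[R] Localization.Away Δ := fun i =>
    1 ⊗ₜ (algebraMap _ (Localization.Away Δ) (Ideal.Quotient.mk (Ideal.span (Set.range V)) (X i)))
  have ht : ∀ p : MvPolynomial ι R,
      MvPolynomial.aeval (R := R ⧸ I) t (MvPolynomial.map (algebraMap R (R ⧸ I)) p) =
        1 ⊗ₜ (algebraMap _ (Localization.Away Δ)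
          (Ideal.Quotient.mk (Ideal.span (Set.range V)) p)) := by
    intro p
    rw [MvPolynomial.aeval_map_algebraMap]
    have : (MvPolynomial.aeval (R := R) t) =
        ((Algebra.TensorProduct.includeRight : Localization.Away Δ →ₐ[R] _).comp
          ((IsScalarTower.toAlgHom R (MvPolynomial ι R ⧸ Ideal.span (Set.range V))
            (Localization.Away Δ)).comp (Ideal.Quotient.mkₐ R _))) := by
      apply MvPolynomial.algHom_ext; intro i; simp [t]
    rw [this]; rfl
  have hker : ∀ a ∈ P.ker, MvPolynomial.aeval (R := R ⧸ I) t a = 0 := by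
    intro a ha
    have : P.ker ≤ RingHom.ker (MvPolynomial.aeval (R := R ⧸ I) t).toRingHom := by
      rw [← P.span_range_relation_eq_ker, Ideal.span_le]
      rintro _ ⟨s, rfl⟩
      show MvPolynomial.aeval t (P.relation s) = 0
      rw [← hV s, ht]
      have : Ideal.Quotient.mk (Ideal.span (Set.range V)) (V s) = 0 :=
        Ideal.Quotient.eq_zero_iff_mem.mpr (Ideal.subset_span ⟨s, rfl⟩)
      rw [this, map_zero, tmul_zero]
    exact this ha
  let h₁ : P.Quotient →ₐ[R ⧸ I] (R ⧸ I) ⊗[R] Localization.Away Δ :=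
    Ideal.Quotient.liftₐ P.ker (MvPolynomial.aeval t) hker
  let h : Sb →ₐ[R ⧸ I] (R ⧸ I) ⊗[R] Localization.Away Δ :=
    h₁.comp (P.quotientEquiv.restrictScalars (R ⧸ I)).symm.toAlgHom
  have hh : ∀ q : MvPolynomial ι (R ⧸ I), h (MvPolynomial.aeval P.val q) =
      MvPolynomial.aeval t q := by
    intro q
    have : (P.quotientEquiv.restrictScalars (R ⧸ I)).symm (MvPolynomial.aeval P.val q) =
        Ideal.Quotient.mk P.ker q := by
      rw [AlgEquiv.symm_apply_eq]
      show MvPolynomial.aeval P.val q = P.quotientEquiv (Ideal.Quotient.mk _ q)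
      rw [Presentation.quotientEquiv_mk, Generators.algebraMap_apply]
    show h₁ ((P.quotientEquiv.restrictScalars (R ⧸ I)).symm (MvPolynomial.aeval P.val q)) = _
    rw [this]
    rfl
  have hA : ∀ x : MvPolynomial ι R ⧸ Ideal.span (Set.range V),
      h (f₀ x) = 1 ⊗ₜ (algebraMap _ (Localization.Away Δ) x) := by
    intro x
    obtain ⟨p, rfl⟩ := Ideal.Quotient.mk_surjective x
    rw [hf₀mk, ← MvPolynomial.aeval_map_algebraMap (R ⧸ I) P.val p, hh, ht]
  have hB : ∀ b : Localization.Away Δ, h (f b) = 1 ⊗ₜ b := by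
    have : (h.toRingHom.comp f.toRingHom) =
        (Algebra.TensorProduct.includeRight : Localization.Away Δ →ₐ[R] _).toRingHom := by
      apply IsLocalization.ringHom_ext (Submonoid.powers Δ)
      refine RingHom.ext fun x => ?_
      show h (f (algebraMap _ _ x)) = 1 ⊗ₜ (algebraMap _ _ x)
      rw [hf, hA]
    intro b
    exact RingHom.congr_fun this b
  have hhg : ∀ z, h (g z) = z := by
    intro z
    induction z using TensorProduct.induction_on with
    | zero => simp
    | add x y hx hy => rw [map_add, map_add, hx, hy]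
    | tmul a b =>
      rw [hg, map_mul, AlgHom.commutes, hB, Algebra.TensorProduct.algebraMap_apply,
        Algebra.TensorProduct.tmul_mul_tmul, mul_one, one_mul]
      rfl
  have hgsurj : Function.Surjective g := by
    intro y
    obtain ⟨q, rfl⟩ := P.algebraMap_surjective y
    obtain ⟨p, rfl⟩ := hsurj q
    refine ⟨1 ⊗ₜ (algebraMap _ (Localization.Away Δ)
      (Ideal.Quotient.mk (Ideal.span (Set.range V)) p)), ?_⟩
    rw [hg, map_one, one_mul, hf, hf₀mk, Generators.algebraMap_apply,
      MvPolynomial.aeval_map_algebraMap]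
  exact AlgEquiv.ofBijective g ⟨Function.LeftInverse.injective hhg, hgsurj⟩

end Groth.Agent.Lib.EtLiftGlobal
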