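import Mathlib
import Groth.Agent.Lib.EtLiftGlobal_lead
import Groth.Agent.Lib.HenselQF_helper3

open TensorProduct IsLocalRing

namespace Groth.Agent.Lib.FinEtLift

universe u

theorem tmul_eq_zero_of_mem_map {R S : Type*} [CommRing R] [CommRing S] [Algebra R S] (I : Ideal R)
    (x : S) (hx : x ∈ I.map (algebraMap R S)) : (1 : R ⧸ I) ⊗ₜ[R] x = 0 := by
  have hle : I.map (algebraMap R S) ≤
      RingHom.ker (Algebra.TensorProduct.includeRight : S →ₐ[R] (R ⧸ I) ⊗[R] S).toRingHom := by
    rw [Ideal.map_le_iff_le_comap]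
    intro a ha
    rw [Ideal.mem_comap, RingHom.mem_ker]
    show (1 : R ⧸ I) ⊗ₜ[R] (algebraMap R S a) = 0
    rw [Algebra.algebraMap_eq_smul_one, ← TensorProduct.smul_tmul, Algebra.smul_def, mul_one]
    have : algebraMap R (R ⧸ I) a = 0 := Ideal.Quotient.eq_zero_iff_mem.mpr ha
    rw [this, TensorProduct.zero_tmul]
  exact hle hx

theorem exists_finite_etale_lift (R : Type u) [CommRing R] [HenselianLocalRing R] (A : Type u)
    [CommRing A] [Algebra (R ⧸ maximalIdeal R) A] [Algebra.Etale (R ⧸ maximalIdeal R) A] :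
    ∃ (S : Type u) (_ : CommRing S) (_ : Algebra R S), Module.Finite R S ∧ Algebra.Etale R S ∧
      Nonempty (((R ⧸ maximalIdeal R) ⊗[R] S) ≃ₐ[R ⧸ maximalIdeal R] A) := by
  obtain ⟨S, _, _, hSet, ⟨e₀⟩⟩ :=
    Groth.Agent.Lib.EtLiftGlobal.exists_etale_lift R (maximalIdeal R) A
  obtain ⟨e, he, hfin, hq⟩ := Groth.Agent.Lib.HenselFiniteH3.finiteType_split R S
  haveI : IsLocalization.Away e (S ⧸ Ideal.span ({1 - e} : Set S)) :=
    IsLocalization.away_of_isIdempotentElem he (by
      rw [Ideal.Quotient.algebraMap_eq, Ideal.mk_ker]) Ideal.Quotient.mk_surjective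
  haveI : Algebra.Etale S (S ⧸ Ideal.span ({1 - e} : Set S)) :=
    Algebra.Etale.of_isLocalizationAway e
  haveI : Algebra.Etale R (S ⧸ Ideal.span ({1 - e} : Set S)) := Algebra.Etale.comp R S _
  have h1e : 1 - e ∈ (maximalIdeal R).map (algebraMap R S) := by
    by_cases hK : (maximalIdeal R).map (algebraMap R S) ⊔ Ideal.span {e} = ⊤
    · have h1 : (1 : S) ∈ (maximalIdeal R).map (algebraMap R S) ⊔ Ideal.span {e} := by
        rw [hK]; trivial
      obtain ⟨x, hx, y, hy, hxy⟩ := Submodule.mem_sup.mp h1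
      obtain ⟨s, rfl⟩ := Ideal.mem_span_singleton'.mp hy
      have hee : e * e = e := he
      have : 1 - e = (1 - e) * x := by
        have : (1 - e) * (x + s * e) = (1 - e) * x := by
          have : (1 - e) * (s * e) = 0 := by linear_combination (-s) * hee
          rw [mul_add, this, add_zero]
        rw [← this, hxy, mul_one]
      rw [this]
      exact Ideal.mul_mem_left _ _ hx
    · exfalso
      obtain ⟨q, hqmax, hKq⟩ := Ideal.exists_le_maximal _ hK
      haveI : q.IsPrime := hqmax.isPrime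
      have hmq : (maximalIdeal R).map (algebraMap R S) ≤ q := le_trans le_sup_left hKq
      have heq : e ∈ q := hKq (Ideal.mem_sup_right (Ideal.subset_span rfl))
      have hlies : q.LiesOver (maximalIdeal R) := by
        constructor
        have h1 : maximalIdeal R ≤ q.under R := Ideal.map_le_iff_le_comap.mp hmq
        have h2 : q.under R ≠ ⊤ := (Ideal.IsPrime.under R q).ne_top
        exact (IsLocalRing.maximalIdeal.isMaximal R).eq_of_le h2 h1
      exact hq q hlies inferInstance heq
  let π : S →ₐ[R] S ⧸ Ideal.span ({1 - e} : Set S) := Ideal.Quotient.mkₐ R _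
  have hπsurj : Function.Surjective π := Ideal.Quotient.mkₐ_surjective R _
  let ΦR : ((R ⧸ maximalIdeal R) ⊗[R] S) →ₐ[R]
      ((R ⧸ maximalIdeal R) ⊗[R] (S ⧸ Ideal.span ({1 - e} : Set S))) :=
    Algebra.TensorProduct.map (AlgHom.id R (R ⧸ maximalIdeal R)) π
  have hΦRinj : Function.Injective ΦR := by
    rw [← AlgHom.coe_toRingHom, RingHom.injective_iff_ker_eq_bot]
    have hker := Algebra.TensorProduct.lTensor_ker (A := R ⧸ maximalIdeal R) π hπsurj
    have hkerπ : RingHom.ker π = Ideal.span ({1 - e} : Set S) := Ideal.Quotient.mkₐ_ker R _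
    rw [hkerπ, Ideal.map_span, Set.image_singleton] at hker
    have h0 : (Algebra.TensorProduct.includeRight :
        S →ₐ[R] (R ⧸ maximalIdeal R) ⊗[R] S) (1 - e) = 0 :=
      tmul_eq_zero_of_mem_map (maximalIdeal R) (1 - e) h1e
    rw [h0] at hker
    rw [eq_bot_iff]
    intro z hz
    have : z ∈ RingHom.ker (Algebra.TensorProduct.map (AlgHom.id R (R ⧸ maximalIdeal R)) π) := hz
    rw [hker] at this
    simpa using this
  let Φ : ((R ⧸ maximalIdeal R) ⊗[R] S) →ₐ[R ⧸ maximalIdeal R]
      ((R ⧸ maximalIdeal R) ⊗[R] (S ⧸ Ideal.span ({1 - e} : Set S))) :=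
    Algebra.TensorProduct.map (AlgHom.id (R ⧸ maximalIdeal R) (R ⧸ maximalIdeal R)) π
  have hΦ : ∀ z, Φ z = ΦR z := by
    intro z
    induction z using TensorProduct.induction_on with
    | zero => simp
    | add x y hx hy => rw [map_add, map_add, hx, hy]
    | tmul a b => simp [Φ, ΦR]
  have hΦinj : Function.Injective Φ := by
    intro x y hxy
    apply hΦRinj
    rw [← hΦ, ← hΦ, hxy]
  have hΦsurj : Function.Surjective Φ :=
    Algebra.TensorProduct.map_surjective _ _ Function.surjective_id hπsurj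
  refine ⟨S ⧸ Ideal.span ({1 - e} : Set S), inferInstance, inferInstance, hfin, inferInstance,
    ⟨(AlgEquiv.ofBijective Φ ⟨hΦinj, hΦsurj⟩).symm.trans e₀⟩⟩

end Groth.Agent.Lib.FinEtLift
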