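import Mathlib
import Groth.Agent.Lib.EssEt_lead
import Groth.Agent.Lib.FinEtLift_lead
import Groth.Agent.S0499
import Groth.Agent.S0505

/-!
# Lifting maps from étale algebras to finite algebras over a henselian local ring
-/

namespace Groth.Agent.Lib.HensFinLift

open IsLocalRing TensorProduct

universe u

/-- two algebra maps from an unramified (ess. finite type) algebra that agree modulo the Jacobson
radical are equal -/
theorem algHom_eq_of_sub_mem_jacobson {A C B : Type u} [CommRing A] [CommRing C] [Algebra A C]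
    [Algebra.FormallyUnramified A C] [Algebra.EssFiniteType A C]
    [CommRing B] [Algebra A B] (f f' : C →ₐ[A] B)
    (h : ∀ c : C, f c - f' c ∈ Ideal.jacobson (⊥ : Ideal B)) : f = f' := by
  have hI : IsIdempotentElem (KaehlerDifferential.ideal A C) := by
    apply (Ideal.cotangent_subsingleton_iff _).mp
    exact inferInstanceAs <| Subsingleton (KaehlerDifferential A C)
  obtain ⟨e, he, hIe⟩ :=
    (Ideal.isIdempotentElem_iff_of_fg _ (KaehlerDifferential.ideal_fg A C)).mp hI
  let g : C ⊗[A] C →ₐ[A] B := Algebra.TensorProduct.productMap f f'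
  have hg : ∀ c : C, g ((1 : C) ⊗ₜ[A] c - c ⊗ₜ[A] (1 : C)) = f' c - f c := by
    intro c
    simp only [g, map_sub, Algebra.TensorProduct.productMap_apply_tmul, map_one, one_mul, mul_one]
  have hgI : ∀ x ∈ KaehlerDifferential.ideal A C, g x ∈ Ideal.jacobson (⊥ : Ideal B) := by
    intro x hx
    rw [← KaehlerDifferential.span_range_eq_ideal] at hx
    induction hx using Submodule.span_induction with
    | mem x hx =>
      obtain ⟨c, rfl⟩ := hx
      rw [hg, ← neg_sub]
      exact neg_mem (h c)
    | zero => rw [map_zero]; exact zero_mem _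
    | add x y _ _ hx hy => rw [map_add]; exact add_mem hx hy
    | smul a x _ hx => rw [smul_eq_mul, map_mul]; exact Ideal.mul_mem_left _ _ hx
  have heI : e ∈ KaehlerDifferential.ideal A C := by
    rw [hIe]; exact Ideal.mem_span_singleton_self e
  have hge : g e = 0 := by
    have h1 : IsIdempotentElem (g e) := he.map g
    have h2 : g e ∈ Ideal.jacobson (⊥ : Ideal B) := hgI e heI
    have h3 : IsUnit (1 - g e) := by
      have := Ideal.mem_jacobson_bot.mp h2 (-1)
      rw [mul_neg_one, neg_add_eq_sub] at this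
      exact this
    have h4 : g e * (1 - g e) = 0 := by rw [mul_sub, mul_one, h1.eq, sub_self]
    exact (h3.mul_left_eq_zero).mp h4
  have hgI0 : ∀ x ∈ KaehlerDifferential.ideal A C, g x = 0 := by
    intro x hx
    rw [hIe] at hx
    obtain ⟨y, rfl⟩ := Ideal.mem_span_singleton'.mp hx
    rw [map_mul, hge, mul_zero]
  ext c
  have := hgI0 _ (KaehlerDifferential.one_smul_sub_smul_one_mem_ideal A c)
  rw [hg] at this
  exact (sub_eq_zero.mp this).symm

theorem comap_maximalIdeal_of_isIntegral {A C : Type u} [CommRing A] [IsLocalRing A] [CommRing C]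
    [Algebra A C] [Algebra.IsIntegral A C] (M : Ideal C) [M.IsMaximal] :
    M.comap (algebraMap A C) = maximalIdeal A :=
  IsLocalRing.eq_maximalIdeal (Ideal.isMaximal_comap_of_isIntegral_of_isMaximal M)

theorem map_maximalIdeal_le_jacobson {A C : Type u} [CommRing A] [IsLocalRing A] [CommRing C]
    [Algebra A C] [Algebra.IsIntegral A C] :
    Ideal.map (algebraMap A C) (maximalIdeal A) ≤ Ideal.jacobson (⊥ : Ideal C) := by
  unfold Ideal.jacobson
  refine le_sInf ?_
  rintro M ⟨-, hM⟩
  rw [Ideal.map_le_iff_le_comap]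
  haveI := hM
  exact (comap_maximalIdeal_of_isIntegral M).ge

/-- injectivity of reduction modulo the maximal ideal for maps into integral algebras -/
theorem comp_mk_injective {A : Type u} [CommRing A] [IsLocalRing A] (C : Type u) [CommRing C]
    [Algebra A C] [Algebra.IsIntegral A C] (E : Type u) [CommRing E] [Algebra A E]
    [Algebra.FormallyUnramified A E] [Algebra.EssFiniteType A E] (φ φ' : E →ₐ[A] C)
    (h : (Ideal.Quotient.mkₐ A (Ideal.map (algebraMap A C) (maximalIdeal A))).comp φ =
      (Ideal.Quotient.mkₐ A (Ideal.map (algebraMap A C) (maximalIdeal A))).comp φ') : φ = φ' := by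
  refine algHom_eq_of_sub_mem_jacobson φ φ' (fun c => map_maximalIdeal_le_jacobson (A := A) ?_)
  have := DFunLike.congr_fun h c
  exact Ideal.Quotient.eq.mp this

/-- surjectivity of reduction modulo the maximal ideal for maps from étale algebras into finite
algebras over a henselian local ring -/
theorem exists_lift_finite {A : Type u} [CommRing A] [HenselianLocalRing A] (C : Type u)
    [CommRing C] [Algebra A C] [Module.Finite A C] (E : Type u) [CommRing E] [Algebra A E]
    [Algebra.Etale A E]
    (σ : E →ₐ[A] C ⧸ Ideal.map (algebraMap A C) (maximalIdeal A)) :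
    ∃ φ : E →ₐ[A] C,
      (Ideal.Quotient.mkₐ A (Ideal.map (algebraMap A C) (maximalIdeal A))).comp φ = σ := by
  classical
  obtain ⟨ι, _, B, _, hloc, ⟨e⟩⟩ := Groth.Agent.S0499.result A C
  letI : ∀ i, Algebra A (B i) := fun i =>
    (((Pi.evalRingHom B i).comp e.toRingHom).comp (algebraMap A C)).toAlgebra
  haveI : ∀ i, IsLocalRing (B i) := hloc
  let π : ∀ i, C →ₐ[A] B i := fun i =>
    { toRingHom := (Pi.evalRingHom B i).comp e.toRingHom
      commutes' := fun r => rfl }
  have hπ : ∀ i c, π i c = e c i := fun i c => rfl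
  have hπsurj : ∀ i, Function.Surjective (π i) := by
    intro i b
    refine ⟨e.symm (Pi.single i b), ?_⟩
    rw [hπ, e.apply_symm_apply, Pi.single_eq_same]
  haveI : ∀ i, Module.Finite A (B i) := fun i =>
    Module.Finite.of_surjective (π i).toLinearMap (hπsurj i)
  haveI : ∀ i, HenselianLocalRing (B i) := fun i => Groth.Agent.S0505.result A (B i)
  have hmax : ∀ i, ∀ r ∈ maximalIdeal A, algebraMap A (B i) r ∈ maximalIdeal (B i) := by
    intro i r hr
    have := comap_maximalIdeal_of_isIntegral (A := A) (maximalIdeal (B i))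
    rw [← this] at hr
    exact hr
  have hkill : ∀ i, ∀ a ∈ Ideal.map (algebraMap A C) (maximalIdeal A),
      ((IsScalarTower.toAlgHom A (B i) (ResidueField (B i))).comp (π i)) a = 0 := by
    intro i a ha
    have hle : Ideal.map (algebraMap A C) (maximalIdeal A) ≤
        RingHom.ker ((IsScalarTower.toAlgHom A (B i) (ResidueField (B i))).comp (π i)).toRingHom := by
      rw [Ideal.map_le_iff_le_comap]
      intro r hr
      rw [Ideal.mem_comap, RingHom.mem_ker]
      show residue (B i) (π i (algebraMap A C r)) = 0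
      rw [(π i).commutes, residue_eq_zero_iff]
      exact hmax i r hr
    exact hle ha
  let τ : ∀ i, (C ⧸ Ideal.map (algebraMap A C) (maximalIdeal A)) →ₐ[A] ResidueField (B i) :=
    fun i => Ideal.Quotient.liftₐ _ _ (hkill i)
  have hτ : ∀ i c, τ i (Ideal.Quotient.mk _ c) = residue (B i) (π i c) := fun i c => rfl
  have hex : ∀ i, ∃ φi : E →ₐ[A] B i, ∀ c, residue (B i) (φi c) = τ i (σ c) := by
    intro i
    let ρ : E →ₐ[A] ResidueField (B i) := (τ i).comp σ
    let q : Ideal E := RingHom.ker ρ.toRingHom
    haveI : q.IsPrime := RingHom.ker_isPrime _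
    obtain ⟨φ', hφ'⟩ := Groth.Agent.Lib.EssEt.exists_lift_of_henselian (A := A) (C := E)
      (B := B i) q ρ (fun c => (RingHom.mem_ker (f := ρ.toRingHom)).symm)
    exact ⟨φ'.comp (IsScalarTower.toAlgHom A E (Localization.AtPrime q)), fun c => hφ' c⟩
  choose φs hφs using hex
  let φ : E →ₐ[A] C :=
    { toRingHom := e.symm.toRingHom.comp (Pi.ringHom (fun i => (φs i).toRingHom))
      commutes' := fun r => by
        show e.symm (fun i => φs i (algebraMap A E r)) = algebraMap A C r
        rw [RingEquiv.symm_apply_eq]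
        funext i
        rw [(φs i).commutes]
        rfl }
  have hφπ : ∀ i c, π i (φ c) = φs i c := by
    intro i c
    show e (e.symm (fun i => φs i c)) i = φs i c
    rw [e.apply_symm_apply]
  -- elements that vanish in all residue fields lie in the Jacobson radical
  have hjac : ∀ x : C, (∀ i, residue (B i) (π i x) = 0) → x ∈ Ideal.jacobson (⊥ : Ideal C) := by
    intro x hx
    rw [Ideal.mem_jacobson_bot]
    intro t
    have h1 : IsUnit (e (x * t + 1)) := by
      rw [Pi.isUnit_iff]
      intro i
      have h2 : e (x * t + 1) i = π i x * π i t + 1 := by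
        rw [map_add, map_mul, map_one]; rfl
      rw [h2]
      have h3 : π i x ∈ maximalIdeal (B i) := (residue_eq_zero_iff _).mp (hx i)
      have h4 : π i x * π i t ∈ maximalIdeal (B i) := Ideal.mul_mem_right _ _ h3
      by_contra hnu
      have h5 : π i x * π i t + 1 ∈ maximalIdeal (B i) := (IsLocalRing.mem_maximalIdeal _).mpr hnu
      have h6 : (1 : B i) ∈ maximalIdeal (B i) := by
        have := Ideal.sub_mem _ h5 h4
        rwa [add_sub_cancel_left] at this
      exact (Ideal.ne_top_iff_one _).mp (maximalIdeal.isMaximal (B i)).ne_top h6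
    have h7 := h1.map e.symm
    rwa [RingEquiv.symm_apply_apply] at h7
  refine ⟨φ, ?_⟩
  refine algHom_eq_of_sub_mem_jacobson _ _ (fun c => ?_)
  obtain ⟨s, hs⟩ := Ideal.Quotient.mk_surjective (σ c)
  have hx : φ c - s ∈ Ideal.jacobson (⊥ : Ideal C) := by
    apply hjac
    intro i
    rw [map_sub, map_sub, hφπ, hφs, ← hs, hτ, sub_self]
  show Ideal.Quotient.mk _ (φ c) - σ c ∈ _
  rw [← hs, ← map_sub, Ideal.mem_jacobson_bot]
  intro z
  obtain ⟨t, rfl⟩ := Ideal.Quotient.mk_surjective z
  have := Ideal.mem_jacobson_bot.mp hx t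
  rw [← map_mul, ← map_one (Ideal.Quotient.mk (Ideal.map (algebraMap A C) (maximalIdeal A))),
    ← map_add]
  exact this.map _

/-- S0519 core: reduction to the residue field is bijective on maps from an étale algebra to a
finite algebra over a henselian local ring -/
theorem tensor_residue_bijective (R : Type u) [CommRing R] [HenselianLocalRing R] (S₁ S₂ : Type u)
    [CommRing S₁] [CommRing S₂] [Algebra R S₁] [Algebra R S₂] [Algebra.Etale R S₁]
    [Module.Finite R S₂] :
    Function.Bijective (fun φ : S₁ →ₐ[R] S₂ =>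
      Algebra.TensorProduct.map (AlgHom.id (ResidueField R) (ResidueField R)) φ) := by
  have hT : ∀ (φ : S₁ →ₐ[R] S₂) (c : S₁),
      Algebra.TensorProduct.map (AlgHom.id (ResidueField R) (ResidueField R)) φ (1 ⊗ₜ c) =
        1 ⊗ₜ φ c := by
    intro φ c
    rw [Algebra.TensorProduct.map_tmul]
    rfl
  have hker : ∀ x : S₂, (1 : ResidueField R) ⊗ₜ[R] x = 0 ↔
      x ∈ Ideal.map (algebraMap R S₂) (maximalIdeal R) := by
    intro x
    constructor
    · intro hx
      have h1 : x ∈ LinearMap.ker (TensorProduct.mk R (R ⧸ maximalIdeal R) S₂ 1) := hx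
      rw [LinearMap.ker_tensorProductMk, Ideal.smul_top_eq_map] at h1
      exact h1
    · intro hx
      exact Groth.Agent.Lib.FinEtLift.tmul_eq_zero_of_mem_map (maximalIdeal R) x hx
  refine ⟨fun φ φ' h => ?_, fun ψ => ?_⟩
  · have h' : Algebra.TensorProduct.map (AlgHom.id (ResidueField R) (ResidueField R)) φ =
        Algebra.TensorProduct.map (AlgHom.id (ResidueField R) (ResidueField R)) φ' := h
    apply comp_mk_injective S₂ S₁ φ φ'
    apply AlgHom.ext
    intro c
    show Ideal.Quotient.mk _ (φ c) = Ideal.Quotient.mk _ (φ' c)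
    rw [Ideal.Quotient.eq, ← hker, TensorProduct.tmul_sub, sub_eq_zero, ← hT, ← hT, h']
  · have hk : ∀ a ∈ maximalIdeal R,
        (Algebra.ofId R (S₂ ⧸ Ideal.map (algebraMap R S₂) (maximalIdeal R))) a = 0 := by
      intro a ha
      show algebraMap R (S₂ ⧸ Ideal.map (algebraMap R S₂) (maximalIdeal R)) a = 0
      rw [IsScalarTower.algebraMap_apply R S₂ (S₂ ⧸ Ideal.map (algebraMap R S₂) (maximalIdeal R)),
        Ideal.Quotient.algebraMap_eq, Ideal.Quotient.eq_zero_iff_mem]
      exact Ideal.mem_map_of_mem _ ha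
    let κhom : ResidueField R →ₐ[R] S₂ ⧸ Ideal.map (algebraMap R S₂) (maximalIdeal R) :=
      Ideal.Quotient.liftₐ (maximalIdeal R) (Algebra.ofId R _) hk
    let θ : ResidueField R ⊗[R] S₂ →ₐ[R] S₂ ⧸ Ideal.map (algebraMap R S₂) (maximalIdeal R) :=
      Algebra.TensorProduct.productMap κhom (Ideal.Quotient.mkₐ R _)
    have hθ : ∀ s : S₂, θ (1 ⊗ₜ s) = Ideal.Quotient.mk _ s := by
      intro s
      show Algebra.TensorProduct.productMap κhom (Ideal.Quotient.mkₐ R _) (1 ⊗ₜ s) = _
      rw [Algebra.TensorProduct.productMap_apply_tmul, map_one, one_mul]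
      rfl
    have hθinj : Function.Injective θ := by
      rw [injective_iff_map_eq_zero]
      intro z hz
      obtain ⟨s, rfl⟩ := TensorProduct.mk_surjective R S₂ (ResidueField R)
        (IsLocalRing.residue_surjective : Function.Surjective (algebraMap R (ResidueField R))) z
      have h0 : θ (1 ⊗ₜ s) = 0 := hz
      rw [hθ, Ideal.Quotient.eq_zero_iff_mem] at h0
      exact (hker s).mpr h0
    let σ : S₁ →ₐ[R] S₂ ⧸ Ideal.map (algebraMap R S₂) (maximalIdeal R) :=
      (θ.comp (ψ.restrictScalars R)).comp Algebra.TensorProduct.includeRight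
    obtain ⟨φ, hφ⟩ := exists_lift_finite S₂ S₁ σ
    refine ⟨φ, ?_⟩
    show Algebra.TensorProduct.map (AlgHom.id (ResidueField R) (ResidueField R)) φ = ψ
    apply AlgHom.ext
    intro z
    induction z using TensorProduct.induction_on with
    | zero => rw [map_zero, map_zero]
    | add x y hx hy => rw [map_add, map_add, hx, hy]
    | tmul k c =>
      have hkc : k ⊗ₜ[R] c = k • ((1 : ResidueField R) ⊗ₜ[R] c) := by
        rw [TensorProduct.smul_tmul', smul_eq_mul, mul_one]
      rw [hkc, map_smul, map_smul]
      congr 1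
      apply hθinj
      rw [hT, hθ]
      exact DFunLike.congr_fun hφ c

end Groth.Agent.Lib.HensFinLift
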