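import Mathlib
import Groth.Agent.Lib.HensFinLift_lead

/-!
# Integral domains over henselian local rings are henselian local
-/

namespace Groth.Agent.Lib.HensIntDom

open IsLocalRing Polynomial

universe u

theorem isLocalRing_of_finite_domain (A B : Type u) [CommRing A] [HenselianLocalRing A]
    [CommRing B] [IsDomain B] [Algebra A B] [Module.Finite A B] : IsLocalRing B := by
  classical
  obtain ⟨ι, _, C, _, hloc, ⟨e⟩⟩ := Groth.Agent.S0499.result A B
  haveI : ∀ i, IsLocalRing (C i) := hloc
  have hsingle : ∀ i : ι, e.symm (Pi.single i (1 : C i)) ≠ 0 := by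
    intro i h
    have h1 : (Pi.single i (1 : C i) : ∀ k, C k) = 0 :=
      (map_eq_zero_iff e.symm e.symm.injective).mp h
    have h2 := congrFun h1 i
    rw [Pi.single_eq_same] at h2
    exact one_ne_zero h2
  have hsub : ∀ i j : ι, i = j := by
    intro i j
    by_contra hij
    have h0 : e.symm (Pi.single i (1 : C i)) * e.symm (Pi.single j (1 : C j)) = 0 := by
      rw [← map_mul]
      have : (Pi.single i (1 : C i) : ∀ k, C k) * Pi.single j (1 : C j) = 0 := by
        funext k
        by_cases hk : k = i
        · subst hk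
          rw [Pi.mul_apply, Pi.single_eq_of_ne hij, mul_zero]; rfl
        · rw [Pi.mul_apply, Pi.single_eq_of_ne hk, zero_mul]; rfl
      rw [this, map_zero]
    rcases mul_eq_zero.mp h0 with h | h
    · exact hsingle i h
    · exact hsingle j h
  have hne : Nonempty ι := by
    by_contra hemp
    rw [not_nonempty_iff] at hemp
    have : (1 : B) = 0 := by
      apply e.injective
      funext k
      exact (hemp.false k).elim
    exact one_ne_zero this
  obtain ⟨i₀⟩ := hne
  let π : B →+* C i₀ := (Pi.evalRingHom C i₀).comp e.toRingHom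
  have hπinj : Function.Injective π := by
    rw [injective_iff_map_eq_zero]
    intro x hx
    apply e.injective
    rw [map_zero]
    funext k
    obtain rfl := hsub k i₀
    exact hx
  have hπsurj : Function.Surjective π := by
    intro c
    refine ⟨e.symm (Pi.single i₀ c), ?_⟩
    show e (e.symm (Pi.single i₀ c)) i₀ = c
    rw [e.apply_symm_apply, Pi.single_eq_same]
  exact (RingEquiv.ofBijective π ⟨hπinj, hπsurj⟩).symm.isLocalRing

theorem isLocalRing_of_integral_domain (A B : Type u) [CommRing A] [HenselianLocalRing A]
    [CommRing B] [IsDomain B] [Algebra A B] [Algebra.IsIntegral A B] : IsLocalRing B := by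
  apply IsLocalRing.of_isUnit_or_isUnit_one_sub_self
  intro a
  let B' : Subalgebra A B := Algebra.adjoin A {a}
  haveI : Module.Finite A B' :=
    Algebra.finite_adjoin_simple_of_isIntegral (Algebra.IsIntegral.isIntegral a)
  haveI : IsLocalRing B' := isLocalRing_of_finite_domain A B'
  let a' : B' := ⟨a, Algebra.subset_adjoin (Set.mem_singleton a)⟩
  rcases IsLocalRing.isUnit_or_isUnit_one_sub_self a' with h | h
  · left; exact h.map B'.val
  · right
    have := h.map B'.val
    rwa [map_sub, map_one] at this

theorem isLocalHom_of_integral (A B : Type u) [CommRing A] [IsLocalRing A] [CommRing B]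
    [IsLocalRing B] [Algebra A B] [Algebra.IsIntegral A B] : IsLocalHom (algebraMap A B) := by
  constructor
  intro a ha
  by_contra hna
  have h1 : a ∈ maximalIdeal A := (mem_maximalIdeal _).mpr hna
  rw [← Groth.Agent.Lib.HensFinLift.comap_maximalIdeal_of_isIntegral (A := A)
    (maximalIdeal B)] at h1
  exact (mem_maximalIdeal _).mp (Ideal.mem_comap.mp h1) ha

theorem henselian_of_integral_domain (A B : Type u) [CommRing A] [HenselianLocalRing A]
    [CommRing B] [IsDomain B] [Algebra A B] [Algebra.IsIntegral A B] : HenselianLocalRing B := by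
  haveI hloc : IsLocalRing B := isLocalRing_of_integral_domain A B
  refine { toIsLocalRing := hloc, is_henselian := ?_ }
  intro f hf a₀ h₁ h₂
  classical
  let s : Finset B := f.coeffs ∪ {a₀}
  let B' : Subalgebra A B := Algebra.adjoin A (s : Set B)
  haveI : Module.Finite A B' :=
    Algebra.finite_adjoin_of_finite_of_isIntegral s.finite_toSet
      (fun x _ => Algebra.IsIntegral.isIntegral x)
  haveI : IsLocalRing B' := isLocalRing_of_finite_domain A B'
  haveI : HenselianLocalRing B' := Groth.Agent.S0505.result A B'
  haveI : Algebra.IsIntegral B' B := Algebra.IsIntegral.tower_top A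
  haveI : IsLocalHom (algebraMap B' B) :=
    (algebraMap_isIntegral_iff.mpr inferInstance).isLocalHom Subtype.val_injective
  have hφ : ∀ x : B', algebraMap B' B x = x.1 := fun _ => rfl
  have hl : f ∈ Polynomial.lifts (algebraMap B' B) := by
    rw [Polynomial.lifts_iff_coeff_lifts]
    intro n
    by_cases h0 : f.coeff n = 0
    · exact ⟨0, by rw [map_zero, h0]⟩
    · refine ⟨⟨f.coeff n, Algebra.subset_adjoin ?_⟩, rfl⟩
      exact Finset.mem_coe.mpr (Finset.mem_union_left _ (Polynomial.coeff_mem_coeffs h0))
  obtain ⟨g, hg, -, hgm⟩ := Polynomial.lifts_and_degree_eq_and_monic hl hf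
  let a₀' : B' := ⟨a₀, Algebra.subset_adjoin
    (Finset.mem_coe.mpr (Finset.mem_union_right _ (Finset.mem_singleton_self a₀)))⟩
  have ha₀' : algebraMap B' B a₀' = a₀ := rfl
  have h₁' : g.eval a₀' ∈ maximalIdeal B' := by
    refine (mem_maximalIdeal _).mpr (fun hu => ?_)
    have hu' := hu.map (algebraMap B' B)
    rw [← Polynomial.eval_map_apply, hg, ha₀'] at hu'
    exact (mem_maximalIdeal _).mp h₁ hu'
  have h₂' : IsUnit (g.derivative.eval a₀') := by
    apply isUnit_of_map_unit (algebraMap B' B)
    rw [← Polynomial.eval_map_apply, ← Polynomial.derivative_map, hg, ha₀']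
    exact h₂
  obtain ⟨a', ha'root, ha'⟩ := HenselianLocalRing.is_henselian g hgm a₀' h₁' h₂'
  refine ⟨algebraMap B' B a', ?_, ?_⟩
  · rw [Polynomial.IsRoot.def, ← hg, Polynomial.eval_map_apply, ha'root, map_zero]
  · have : algebraMap B' B (a' - a₀') ∈ maximalIdeal B := by
      refine (mem_maximalIdeal _).mpr (fun hu => ?_)
      exact (mem_maximalIdeal _).mp ha' (isUnit_of_map_unit (algebraMap B' B) _ hu)
    rwa [map_sub, ha₀'] at this

theorem isAlgebraic_residueField (A B : Type u) [CommRing A] [IsLocalRing A] [CommRing B]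
    [IsLocalRing B] [Algebra A B] [Algebra.IsIntegral A B] [IsLocalHom (algebraMap A B)] :
    letI := (IsLocalRing.ResidueField.map (algebraMap A B)).toAlgebra
    Algebra.IsAlgebraic (ResidueField A) (ResidueField B) := by
  letI := (IsLocalRing.ResidueField.map (algebraMap A B)).toAlgebra
  haveI : IsScalarTower A (ResidueField A) (ResidueField B) :=
    IsScalarTower.of_algebraMap_eq (fun a => rfl)
  refine ⟨fun x => ?_⟩
  obtain ⟨b, rfl⟩ := residue_surjective x
  have h1 : IsIntegral A b := Algebra.IsIntegral.isIntegral b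
  have h2 : IsIntegral A (residue B b) := h1.map (IsScalarTower.toAlgHom A B (ResidueField B))
  exact (h2.tower_top (A := ResidueField A)).isAlgebraic

end Groth.Agent.Lib.HensIntDom
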