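import Mathlib
import Groth.Prelude.Def_Found
import Groth.Agent.Lib.CompleteFinite_helper3
import Groth.Agent.Lib.CompleteNagata_helper3
import Groth.Agent.Lib.HensIntDom_lead

/-!
# Integral closures of complete local domains in finite extensions (helper3)
APPEND-ONLY once landed.
-/

set_option autoImplicit false
set_option maxSynthPendingDepth 3
universe u

namespace Groth.Agent.Lib.CompleteICH3

open IsLocalRing

/-- A local ring finite over a complete Noetherian local ring is complete. -/
theorem isAdicComplete_of_finite_local (R : Type u) [CommRing R] [IsLocalRing R]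
    [IsNoetherianRing R] [IsAdicComplete (maximalIdeal R) R]
    (S : Type u) [CommRing S] [IsLocalRing S] [Algebra R S] [Module.Finite R S] :
    IsAdicComplete (maximalIdeal S) S := by
  haveI hN : IsNoetherianRing S := IsNoetherianRing.of_finite R S
  haveI : Algebra.IsIntegral R S := Algebra.IsIntegral.of_finite R S
  haveI hc : IsAdicComplete (maximalIdeal R) S := Groth.Agent.S3866.result R (maximalIdeal R) S
  haveI hc' : IsAdicComplete ((maximalIdeal R).map (algebraMap R S)) S :=
    (IsAdicComplete.map_algebraMap_iff (I := maximalIdeal R) (S := S) (M := S)).mpr hc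
  have hcomap : (maximalIdeal S).comap (algebraMap R S) = maximalIdeal R :=
    IsLocalRing.eq_maximalIdeal (Ideal.isMaximal_comap_of_isIntegral_of_isMaximal (maximalIdeal S))
  have hle : (maximalIdeal R).map (algebraMap R S) ≤ maximalIdeal S := by
    rw [Ideal.map_le_iff_le_comap, hcomap]
  have hrad : maximalIdeal S ≤ ((maximalIdeal R).map (algebraMap R S)).radical := by
    rw [Ideal.radical_eq_sInf]
    refine le_sInf ?_
    rintro P ⟨hIP, hP⟩
    haveI := hP
    have h1 : maximalIdeal R ≤ P.comap (algebraMap R S) := Ideal.map_le_iff_le_comap.mp hIP
    have h2 : P.comap (algebraMap R S) = maximalIdeal R :=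
      ((maximalIdeal.isMaximal R).eq_of_le (Ideal.comap_ne_top _ hP.ne_top) h1).symm
    have h3 : P.IsMaximal := Ideal.isMaximal_of_isIntegral_of_isMaximal_comap (R := R) P (by
      rw [h2]; exact maximalIdeal.isMaximal R)
    exact (IsLocalRing.eq_maximalIdeal h3).ge
  obtain ⟨n, hn⟩ := Ideal.exists_radical_pow_le_of_fg
    ((maximalIdeal R).map (algebraMap R S)) (IsNoetherian.noetherian _)
  exact Groth.Agent.Lib.CompleteFiniteH3.isAdicComplete_of_pow_le _ _ n hle
    ((Ideal.pow_right_mono hrad n).trans hn)

/-- The integral closure of a complete Noetherian local domain in a finite extension of its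
fraction field is a complete local ring (and finite). -/
theorem integralClosure_complete_local (A K' : Type u) [CommRing A]
    [IsDomain A] [IsLocalRing A] [IsNoetherianRing A] [IsAdicComplete (maximalIdeal A) A]
    [Field K'] [Algebra A K'] [Algebra (FractionRing A) K'] [IsScalarTower A (FractionRing A) K']
    [FiniteDimensional (FractionRing A) K'] :
    ∃ _ : IsLocalRing (integralClosure A K'),
      IsAdicComplete (maximalIdeal (integralClosure A K')) (integralClosure A K') := by
  haveI hfin : Module.Finite A (integralClosure A K') :=
    Groth.Agent.Lib.CompleteNagataH3.isN2_of_complete_local_domain A K' inferInstance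
  haveI := Groth.Agent.Lib.CompleteFiniteH3.henselianLocalRing_of_isAdicComplete A
  haveI hloc : IsLocalRing (integralClosure A K') :=
    Groth.Agent.Lib.HensIntDom.isLocalRing_of_finite_domain A (integralClosure A K')
  exact ⟨hloc, isAdicComplete_of_finite_local A (integralClosure A K')⟩

end Groth.Agent.Lib.CompleteICH3
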