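import Mathlib

namespace Groth.Agent.Lib.MonicSepVars

open Polynomial

universe u

variable {A : Type u} [CommRing A]

/-- the ideal -/
noncomputable abbrev idl (r : ℕ) (F : Fin r → Polynomial A) : Ideal (MvPolynomial (Fin r) A) :=
  Ideal.span (Set.range fun i =>
    Polynomial.aeval (MvPolynomial.X i : MvPolynomial (Fin r) A) (F i))

/-- the quotient -/
abbrev Q (r : ℕ) (F : Fin r → Polynomial A) : Type u := MvPolynomial (Fin r) A ⧸ idl r F

theorem gen_mem (r : ℕ) (F : Fin r → Polynomial A) (i : Fin r) :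
    Polynomial.aeval (MvPolynomial.X i : MvPolynomial (Fin r) A) (F i) ∈ idl r F :=
  Ideal.subset_span ⟨i, rfl⟩

theorem aeval_mk {P : Type*} [CommRing P] [Algebra A P] (I : Ideal P) (x : P)
    (p : Polynomial A) :
    Polynomial.aeval (Ideal.Quotient.mk I x) p = Ideal.Quotient.mk I (Polynomial.aeval x p) :=
  Polynomial.aeval_algHom_apply (Ideal.Quotient.mkₐ A I) x p

theorem kills {B : Type*} [CommRing B] [Algebra A B] (r : ℕ) (F : Fin r → Polynomial A)
    (f : MvPolynomial (Fin r) A →ₐ[A] B)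
    (h : ∀ i, Polynomial.aeval (f (MvPolynomial.X i)) (F i) = 0) : ∀ a ∈ idl r F, f a = 0 := by
  intro a ha
  have hle : idl r F ≤ RingHom.ker f.toRingHom := by
    rw [Ideal.span_le]
    rintro _ ⟨i, rfl⟩
    rw [SetLike.mem_coe, RingHom.mem_ker]
    change f (Polynomial.aeval (MvPolynomial.X i) (F i)) = 0
    rw [← Polynomial.aeval_algHom_apply]
    exact h i
  exact hle ha

section Step

variable (r : ℕ) (F : Fin (r + 1) → Polynomial A)

/-- the tail family -/
abbrev F' : Fin r → Polynomial A := fun i => F i.succ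

/-- the last polynomial over the previous quotient -/
noncomputable abbrev G : Polynomial (Q r (F' r F)) := (F 0).map (algebraMap A (Q r (F' r F)))

/-- images of variables -/
noncomputable def v : Fin (r + 1) → AdjoinRoot (G r F) :=
  Fin.cons (AdjoinRoot.root (G r F))
    (fun j => AdjoinRoot.of (G r F) (Ideal.Quotient.mk (idl r (F' r F)) (MvPolynomial.X j)))

theorem aeval_root : Polynomial.aeval (AdjoinRoot.root (G r F)) (F 0) = 0 := by
  have h := AdjoinRoot.eval₂_root (G r F)
  rw [Polynomial.eval₂_map] at h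
  rw [Polynomial.aeval_def]
  exact h

theorem aeval_v (i : Fin (r + 1)) : Polynomial.aeval (v r F i) (F i) = 0 := by
  refine Fin.cases ?_ (fun j => ?_) i
  · rw [v, Fin.cons_zero]
    exact aeval_root r F
  · rw [v, Fin.cons_succ]
    let hom : MvPolynomial (Fin r) A →ₐ[A] AdjoinRoot (G r F) :=
      (IsScalarTower.toAlgHom A (Q r (F' r F)) (AdjoinRoot (G r F))).comp
        (Ideal.Quotient.mkₐ A (idl r (F' r F)))
    have h1 : AdjoinRoot.of (G r F) (Ideal.Quotient.mk (idl r (F' r F)) (MvPolynomial.X j))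
        = hom (MvPolynomial.X j) := rfl
    rw [h1, Polynomial.aeval_algHom_apply]
    have h2 : hom (Polynomial.aeval (MvPolynomial.X j) (F j.succ))
        = AdjoinRoot.of (G r F) (Ideal.Quotient.mk (idl r (F' r F))
            (Polynomial.aeval (MvPolynomial.X j) (F' r F j))) := rfl
    rw [h2, Ideal.Quotient.eq_zero_iff_mem.mpr (gen_mem r (F' r F) j), map_zero]

/-- forward map -/
noncomputable def phi : Q (r + 1) F →ₐ[A] AdjoinRoot (G r F) :=
  Ideal.Quotient.liftₐ (idl (r + 1) F) (MvPolynomial.aeval (v r F))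
    (kills (r + 1) F _ (fun i => by rw [MvPolynomial.aeval_X]; exact aeval_v r F i))

theorem phi_mk_X (i : Fin (r + 1)) :
    phi r F (Ideal.Quotient.mk _ (MvPolynomial.X i)) = v r F i := by
  simp [phi]

/-- inclusion of the previous quotient -/
noncomputable def iota : Q r (F' r F) →ₐ[A] Q (r + 1) F :=
  Ideal.Quotient.liftₐ (idl r (F' r F))
    ((Ideal.Quotient.mkₐ A (idl (r + 1) F)).comp
      (MvPolynomial.aeval fun j : Fin r =>
        (MvPolynomial.X j.succ : MvPolynomial (Fin (r + 1)) A)))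
    (kills r (F' r F) _ (fun j => by
      rw [AlgHom.comp_apply, MvPolynomial.aeval_X, Ideal.Quotient.mkₐ_eq_mk, aeval_mk,
        Ideal.Quotient.eq_zero_iff_mem]
      exact gen_mem (r + 1) F j.succ))

theorem iota_mk_X (j : Fin r) :
    iota r F (Ideal.Quotient.mk _ (MvPolynomial.X j)) = Ideal.Quotient.mk _ (MvPolynomial.X j.succ) := by
  simp [iota]

theorem eval₂_iota :
    (G r F).eval₂ (iota r F) (Ideal.Quotient.mk (idl (r + 1) F) (MvPolynomial.X 0)) = 0 := by
  rw [Polynomial.eval₂_map, (iota r F).comp_algebraMap, ← Polynomial.aeval_def, aeval_mk,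
    Ideal.Quotient.eq_zero_iff_mem]
  exact gen_mem (r + 1) F 0

/-- backward map -/
noncomputable def psi : AdjoinRoot (G r F) →ₐ[A] Q (r + 1) F :=
  AdjoinRoot.liftAlgHom (G r F) (iota r F) (Ideal.Quotient.mk _ (MvPolynomial.X 0))
    (eval₂_iota r F)

theorem psi_phi : (psi r F).comp (phi r F) = AlgHom.id A (Q (r + 1) F) := by
  apply Ideal.Quotient.algHom_ext
  apply MvPolynomial.algHom_ext
  intro i
  simp only [AlgHom.comp_apply, Ideal.Quotient.mkₐ_eq_mk, AlgHom.id_apply, AlgHom.coe_id, id_eq]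
  rw [phi_mk_X]
  refine Fin.cases ?_ (fun j => ?_) i
  · rw [v, Fin.cons_zero, psi, AdjoinRoot.liftAlgHom_root]
  · rw [v, Fin.cons_succ, psi, AdjoinRoot.liftAlgHom_of, iota_mk_X]

theorem phi_iota (x : Q r (F' r F)) : phi r F (iota r F x) = AdjoinRoot.of (G r F) x := by
  have h : (phi r F).comp (iota r F)
      = IsScalarTower.toAlgHom A (Q r (F' r F)) (AdjoinRoot (G r F)) := by
    apply Ideal.Quotient.algHom_ext
    apply MvPolynomial.algHom_ext
    intro j
    simp only [AlgHom.comp_apply, Ideal.Quotient.mkₐ_eq_mk]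
    rw [iota_mk_X, phi_mk_X, v, Fin.cons_succ]
    rfl
  exact AlgHom.congr_fun h x

theorem phi_psi : (phi r F).comp (psi r F) = AlgHom.id A (AdjoinRoot (G r F)) := by
  have hring : (((phi r F).comp (psi r F) : AdjoinRoot (G r F) →ₐ[A] AdjoinRoot (G r F)) :
      AdjoinRoot (G r F) →+* AdjoinRoot (G r F)).comp (AdjoinRoot.mk (G r F))
        = AdjoinRoot.mk (G r F) := by
    apply Polynomial.ringHom_ext
    · intro a
      simp only [RingHom.comp_apply, RingHom.coe_coe, AlgHom.comp_apply, AdjoinRoot.mk_C]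
      rw [psi, AdjoinRoot.liftAlgHom_of, phi_iota]
    · simp only [RingHom.comp_apply, RingHom.coe_coe, AlgHom.comp_apply, AdjoinRoot.mk_X]
      rw [psi, AdjoinRoot.liftAlgHom_root, phi_mk_X, v, Fin.cons_zero]
  apply AlgHom.ext
  intro z
  obtain ⟨p, rfl⟩ := Ideal.Quotient.mk_surjective z
  exact RingHom.congr_fun hring p

/-- the step isomorphism -/
noncomputable def stepEquiv : Q (r + 1) F ≃ₐ[A] AdjoinRoot (G r F) :=
  AlgEquiv.ofAlgHom (phi r F) (psi r F) (phi_psi r F) (psi_phi r F)

end Step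

theorem main_aux [Nontrivial A] : ∀ (r : ℕ) (F : Fin r → Polynomial A), (∀ i, (F i).Monic) →
    Module.Free A (Q r F) ∧ Module.finrank A (Q r F) = ∏ i, (F i).natDegree := by
  intro r
  induction r with
  | zero =>
    intro F _
    have h0 : idl 0 F = ⊥ := by
      rw [idl, Set.range_eq_empty, Ideal.span_empty]
    let e0 : Q 0 F ≃ₐ[A] A :=
      (Ideal.quotientEquivAlgOfEq A h0).trans
        ((AlgEquiv.quotientBot A (MvPolynomial (Fin 0) A)).trans
          (MvPolynomial.isEmptyAlgEquiv A (Fin 0)))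
    refine ⟨Module.Free.of_equiv e0.symm.toLinearEquiv, ?_⟩
    rw [LinearEquiv.finrank_eq e0.toLinearEquiv, Module.finrank_self, Finset.univ_eq_empty,
      Finset.prod_empty]
  | succ r ih =>
    intro F hF
    obtain ⟨hfree, hrank⟩ := ih (F' r F) (fun i => hF i.succ)
    have hG : (G r F).Monic := (hF 0).map _
    haveI : Module.Free (Q r (F' r F)) (AdjoinRoot (G r F)) :=
      Module.Free.of_basis (AdjoinRoot.powerBasis' hG).basis
    haveI : Module.Free A (AdjoinRoot (G r F)) :=
      Module.Free.trans (R := A) (S := Q r (F' r F))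
    refine ⟨Module.Free.of_equiv (stepEquiv r F).symm.toLinearEquiv, ?_⟩
    rw [LinearEquiv.finrank_eq (stepEquiv r F).toLinearEquiv, Fin.prod_univ_succ]
    change _ = (F 0).natDegree * ∏ i : Fin r, (F' r F i).natDegree
    rw [← hrank]
    rcases subsingleton_or_nontrivial (Q r (F' r F)) with hs | hn
    · haveI : Subsingleton (AdjoinRoot (G r F)) := Module.subsingleton (Q r (F' r F)) _
      rw [Module.finrank_zero_of_subsingleton, Module.finrank_zero_of_subsingleton, mul_zero]
    · rw [← Module.finrank_mul_finrank (F := A) (K := Q r (F' r F)) (A := AdjoinRoot (G r F)),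
        (AdjoinRoot.powerBasis' hG).finrank, AdjoinRoot.powerBasis'_dim, (hF 0).natDegree_map,
        mul_comm]

theorem main {A : Type u} [CommRing A] [Nontrivial A]
    {r : ℕ} (F : Fin r → Polynomial A) (hF : ∀ i, (F i).Monic) :
    Module.Free A (MvPolynomial (Fin r) A ⧸ Ideal.span (Set.range fun i =>
        Polynomial.aeval (MvPolynomial.X i : MvPolynomial (Fin r) A) (F i))) ∧
      Module.finrank A (MvPolynomial (Fin r) A ⧸ Ideal.span (Set.range fun i =>
        Polynomial.aeval (MvPolynomial.X i : MvPolynomial (Fin r) A) (F i))) =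
        Finset.univ.prod fun i => (F i).natDegree :=
  main_aux r F hF

end Groth.Agent.Lib.MonicSepVars
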