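import Mathlib
import Groth.Agent.Lib.MonicSepVars_lead
import Groth.Agent.Lib.RegPS_helper3
import Groth.Agent.Lib.PSComplete_helper1
import Groth.Agent.Lib.CompleteIC_helper3
import Groth.Agent.Lib.IntegralHeight_helper5
import Groth.Agent.Lib.Regular_helper5

/-!
# The Artin–Schreier family `A = k[[x]][u] / (u_i ^ p - a_i ^ (p-1) u_i - x_i)`

`A` is finite free of rank `p ^ n` over `R = k[[x_1, …, x_n]]`, a regular local ring with maximal
ideal `(u_1, …, u_n)`, complete, and a domain.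
-/

set_option autoImplicit false
set_option backward.isDefEq.respectTransparency false
universe u

namespace Groth.Agent.Lib.ASFamilyH3

open MvPolynomial IsLocalRing

section

variable (p : ℕ) (k : Type u) [Field k] (n : ℕ)
  (a : Fin n → MvPowerSeries (Fin n) k)

local notation "𝓡" => MvPowerSeries (Fin n) k
local notation "𝓟" => MvPolynomial (Fin n) (MvPowerSeries (Fin n) k)

/-- the ideal of relations -/
noncomputable def I : Ideal 𝓟 := Ideal.span (Set.range fun i : Fin n =>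
        X i ^ p - C (a i ^ (p - 1)) * X i - C (MvPowerSeries.X i))

/-- the one-variable polynomials -/
noncomputable def F (i : Fin n) : Polynomial 𝓡 :=
  Polynomial.X ^ p -
    (Polynomial.C (a i ^ (p - 1)) * Polynomial.X + Polynomial.C (MvPowerSeries.X i))

variable {p} in
lemma F_monic (hp : 2 ≤ p) (i : Fin n) : (F p k n a i).Monic := by
  apply Polynomial.monic_X_pow_sub
  refine lt_of_le_of_lt Polynomial.degree_linear_le ?_
  exact_mod_cast hp

variable {p} in
lemma F_natDegree (hp : 2 ≤ p) (i : Fin n) : (F p k n a i).natDegree = p := by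
  rw [F, Polynomial.natDegree_sub_eq_left_of_natDegree_lt, Polynomial.natDegree_X_pow]
  rw [Polynomial.natDegree_X_pow]
  exact lt_of_le_of_lt Polynomial.natDegree_linear_le (by omega)

lemma aeval_F (i : Fin n) : Polynomial.aeval (X i : 𝓟) (F p k n a i) =
    X i ^ p - C (a i ^ (p - 1)) * X i - C (MvPowerSeries.X i) := by
  simp [F, sub_sub, MvPolynomial.algebraMap_eq]

lemma fun_eq : (fun i : Fin n => Polynomial.aeval (X i : 𝓟) (F p k n a i)) =
    fun i : Fin n => X i ^ p - C (a i ^ (p - 1)) * X i - C (MvPowerSeries.X i) :=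
  funext (aeval_F p k n a)

variable {p} in
theorem free_and_finrank (hp : 2 ≤ p) : Module.Free 𝓡 (𝓟 ⧸ I p k n a) ∧
    Module.finrank 𝓡 (𝓟 ⧸ I p k n a) = p ^ n := by
  have h := Groth.Agent.Lib.MonicSepVars.main (F p k n a) (F_monic k n a hp)
  rw [fun_eq] at h
  refine ⟨h.1, ?_⟩
  rw [I, h.2]
  simp [F_natDegree k n a hp]

local notation "𝓐" => (MvPolynomial (Fin n) (MvPowerSeries (Fin n) k) ⧸ I p k n a)

/-- the class of `u_i` -/
noncomputable def uu (i : Fin n) : 𝓐 := Ideal.Quotient.mk _ (X i)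

/-- the ideal `(u_1, …, u_n)` -/
noncomputable def m₀ :=
  Ideal.map (Ideal.Quotient.mk (I p k n a)) (Ideal.span (Set.range (X : Fin n → 𝓟)))

lemma m₀_eq : m₀ p k n a = Ideal.span (Set.range (uu p k n a)) := by
  rw [m₀, Ideal.map_span, ← Set.range_comp]
  rfl

lemma uu_mem (i : Fin n) : uu p k n a i ∈ m₀ p k n a := by
  rw [m₀_eq]
  exact Ideal.subset_span ⟨i, rfl⟩

lemma rel (i : Fin n) : uu p k n a i ^ p =
    algebraMap 𝓡 𝓐 (a i ^ (p - 1)) * uu p k n a i + algebraMap 𝓡 𝓐 (MvPowerSeries.X i) := by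
  have h : (Ideal.Quotient.mk (I p k n a))
      (X i ^ p - C (a i ^ (p - 1)) * X i - C (MvPowerSeries.X i)) = 0 :=
    Ideal.Quotient.eq_zero_iff_mem.mpr (Ideal.subset_span ⟨i, rfl⟩)
  rw [map_sub, map_sub, map_mul, map_pow, sub_sub, sub_eq_zero] at h
  exact h

lemma X_mem_max (i : Fin n) : (MvPowerSeries.X i : 𝓡) ∈ maximalIdeal 𝓡 := by
  rw [Groth.Agent.Lib.PSCompleteH1.mem_maximalIdeal_iff, MvPowerSeries.constantCoeff_X]
  exact Ideal.zero_mem _

variable {a} in
lemma a_mem_max (ham : ∀ i, MvPowerSeries.constantCoeff (a i) = 0) (i : Fin n) :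
    a i ∈ maximalIdeal 𝓡 := by
  rw [Groth.Agent.Lib.PSCompleteH1.mem_maximalIdeal_iff, ham i]
  exact Ideal.zero_mem _

variable {p a} in
lemma algebraMap_X_mem (hp : 2 ≤ p) (i : Fin n) :
    algebraMap 𝓡 𝓐 (MvPowerSeries.X i) ∈ m₀ p k n a := by
  have h := rel p k n a i
  have h2 : algebraMap 𝓡 𝓐 (MvPowerSeries.X i) =
      uu p k n a i ^ p - algebraMap 𝓡 𝓐 (a i ^ (p - 1)) * uu p k n a i := by
    rw [h]; ring
  rw [h2]
  refine Ideal.sub_mem _ (Ideal.pow_mem_of_mem _ (uu_mem p k n a i) p (by omega))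
    (Ideal.mul_mem_left _ _ (uu_mem p k n a i))

variable {p a} in
lemma algebraMap_max_le (hp : 2 ≤ p) :
    (maximalIdeal 𝓡).map (algebraMap 𝓡 𝓐) ≤ m₀ p k n a := by
  rw [Groth.Agent.Lib.RegPSH3.maximalIdeal_eq, IsLocalRing.maximalIdeal_eq_bot, Ideal.map_bot,
    bot_sup_eq, Ideal.map_span, Ideal.span_le]
  rintro _ ⟨_, ⟨i, rfl⟩, rfl⟩
  exact algebraMap_X_mem k n hp i

/-- the augmentation `A → k`. -/
noncomputable def eps : 𝓟 →+* k :=
  eval₂Hom (MvPowerSeries.constantCoeff (σ := Fin n) (R := k)) (fun _ => 0)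

variable {p} in
lemma eps_I (hp : 2 ≤ p) : I p k n a ≤ RingHom.ker (eps k n) := by
  rw [I, Ideal.span_le]
  rintro _ ⟨i, rfl⟩
  have hp0 : p ≠ 0 := by omega
  simp [RingHom.mem_ker, eps, hp0]

variable {p} in
/-- the augmentation on the quotient -/
noncomputable def epsbar (hp : 2 ≤ p) : 𝓐 →+* k :=
  Ideal.Quotient.lift (I p k n a) (eps k n) (fun f hf => eps_I k n a hp hf)

variable {p} in
lemma epsbar_m₀ (hp : 2 ≤ p) : m₀ p k n a ≤ RingHom.ker (epsbar k n a hp) := by
  rw [m₀_eq, Ideal.span_le]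
  rintro _ ⟨i, rfl⟩
  simp [RingHom.mem_ker, epsbar, uu, eps]

variable {p a} in
lemma exists_sub_mem (hp : 2 ≤ p) (z : 𝓐) :
    ∃ c : k, z - algebraMap 𝓡 𝓐 (MvPowerSeries.C c) ∈ m₀ p k n a := by
  obtain ⟨f, rfl⟩ := Ideal.Quotient.mk_surjective z
  set r : 𝓡 := coeff 0 f with hr
  refine ⟨MvPowerSeries.constantCoeff r, ?_⟩
  have h1 : f - C r ∈ Ideal.span (Set.range (X : Fin n → 𝓟)) := by
    rw [← Set.image_univ, mem_ideal_span_X_image]
    intro m hm
    have hm0 : m ≠ 0 := by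
      rintro rfl
      rw [mem_support_iff, coeff_sub, coeff_C, if_pos rfl, hr, sub_self] at hm
      exact hm rfl
    obtain ⟨i, hi⟩ := Finsupp.ne_iff.mp hm0
    exact ⟨i, Set.mem_univ _, hi⟩
  have h2 : (Ideal.Quotient.mk (I p k n a)) f - algebraMap 𝓡 𝓐 r ∈ m₀ p k n a := by
    have := Ideal.mem_map_of_mem (Ideal.Quotient.mk (I p k n a)) h1
    rwa [map_sub] at this
  have h3 : r - MvPowerSeries.C (MvPowerSeries.constantCoeff r) ∈ maximalIdeal 𝓡 := by
    rw [Groth.Agent.Lib.PSCompleteH1.mem_maximalIdeal_iff, map_sub, MvPowerSeries.constantCoeff_C,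
      sub_self]
    exact Ideal.zero_mem _
  have h4 : algebraMap 𝓡 𝓐 r - algebraMap 𝓡 𝓐 (MvPowerSeries.C (MvPowerSeries.constantCoeff r))
      ∈ m₀ p k n a := by
    rw [← map_sub]
    exact algebraMap_max_le k n hp (Ideal.mem_map_of_mem _ h3)
  have := Ideal.add_mem _ h2 h4
  rwa [sub_add_sub_cancel] at this

variable {p a} in
theorem m₀_isMaximal (hp : 2 ≤ p) : (m₀ p k n a).IsMaximal := by
  rw [Ideal.isMaximal_iff]
  constructor
  · intro h1
    have := epsbar_m₀ k n a hp h1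
    rw [RingHom.mem_ker, map_one] at this
    exact one_ne_zero this
  · intro J z hJ hz hzJ
    obtain ⟨c, hc⟩ := exists_sub_mem k n hp z
    have hc0 : c ≠ 0 := by
      rintro rfl
      rw [map_zero, map_zero, sub_zero] at hc
      exact hz hc
    have h1 : algebraMap 𝓡 𝓐 (MvPowerSeries.C c) ∈ J := by
      have := Ideal.sub_mem _ hzJ (hJ hc)
      rwa [sub_sub_cancel] at this
    have h2 : algebraMap 𝓡 𝓐 (MvPowerSeries.C c⁻¹) * algebraMap 𝓡 𝓐 (MvPowerSeries.C c) = 1 := by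
      rw [← map_mul, ← map_mul, inv_mul_cancel₀ hc0, map_one, map_one]
    rw [← h2]
    exact Ideal.mul_mem_left _ _ h1

variable {p a} in
lemma finite (hp : 2 ≤ p) : Module.Finite 𝓡 𝓐 := by
  have h := free_and_finrank k n a hp
  haveI := h.1
  apply Module.finite_of_finrank_pos
  rw [h.2]
  exact pow_pos (by omega) n

variable {p a} in
lemma le_of_isMaximal (hp : 2 ≤ p) (ham : ∀ i, MvPowerSeries.constantCoeff (a i) = 0)
    (M : @Ideal 𝓐 CommSemiring.toSemiring) (hM : M.IsMaximal) : m₀ p k n a ≤ M := by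
  haveI := finite k n hp (a := a)
  haveI : Algebra.IsIntegral 𝓡 𝓐 := Algebra.IsIntegral.of_finite _ _
  have hc : M.comap (algebraMap 𝓡 𝓐) = maximalIdeal 𝓡 :=
    IsLocalRing.eq_maximalIdeal
      (Ideal.isMaximal_comap_of_isIntegral_of_isMaximal (R := 𝓡) (S := 𝓐) M)
  have hmem : ∀ r ∈ maximalIdeal 𝓡, algebraMap 𝓡 𝓐 r ∈ M := by
    intro r hr
    rw [← hc] at hr
    exact hr
  rw [m₀_eq, Ideal.span_le]
  rintro _ ⟨i, rfl⟩
  have h1 : uu p k n a i ^ p ∈ M := by
    rw [rel]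
    refine Ideal.add_mem _ (Ideal.mul_mem_right _ _ ?_) (hmem _ (X_mem_max k n i))
    rw [map_pow]
    exact Ideal.pow_mem_of_mem _ (hmem _ (a_mem_max k n ham i)) _ (by omega)
  exact hM.isPrime.mem_of_pow_mem _ h1

variable {p a} in
theorem isLocalRing (hp : 2 ≤ p) (ham : ∀ i, MvPowerSeries.constantCoeff (a i) = 0) :
    IsLocalRing 𝓐 :=
  IsLocalRing.of_unique_max_ideal (R := 𝓐) ⟨m₀ p k n a, m₀_isMaximal k n hp, fun M hM =>
    ((m₀_isMaximal k n hp).eq_of_le hM.ne_top (le_of_isMaximal k n hp ham M hM)).symm⟩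

variable {p a} in
theorem isRegularLocalRing (hp : 2 ≤ p) (ham : ∀ i, MvPowerSeries.constantCoeff (a i) = 0) :
    IsRegularLocalRing 𝓐 := by
  haveI := isLocalRing k n hp ham
  haveI := finite k n hp (a := a)
  haveI : IsNoetherianRing 𝓐 := IsNoetherianRing.of_finite 𝓡 𝓐
  haveI : Algebra.IsIntegral 𝓡 𝓐 := Algebra.IsIntegral.of_finite _ _
  have hfree := (free_and_finrank k n a hp).1
  have hinj : Function.Injective (algebraMap 𝓡 𝓐) := FaithfulSMul.algebraMap_injective 𝓡 𝓐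
  have hdim : ringKrullDim 𝓐 = (n : WithBot ℕ∞) := by
    rw [Groth.Agent.IntegralHeight.ringKrullDim_eq_of_isIntegral_of_injective 𝓡 𝓐 hinj,
      Groth.Agent.Lib.RegPSH3.ringKrullDim_mvPowerSeries_regular k n,
      IsLocalRing.maximalIdeal_eq_bot, Submodule.spanFinrank_bot, zero_add]
  have hmax : maximalIdeal 𝓐 = m₀ p k n a :=
    (IsLocalRing.eq_maximalIdeal (m₀_isMaximal k n hp)).symm
  apply IsRegularLocalRing.of_spanFinrank_maximalIdeal_le
  rw [hdim, hmax, m₀_eq]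
  have h1 : (Submodule.span 𝓐 (Set.range (uu p k n a))).spanFinrank ≤ n := by
    refine le_trans (Submodule.spanFinrank_span_le_ncard_of_finite (Set.finite_range _)) ?_
    have := Set.ncard_image_le (f := uu p k n a) (Set.finite_univ (α := Fin n))
    rw [Set.image_univ, Set.ncard_univ, Nat.card_fin] at this
    exact this
  exact_mod_cast h1

variable {p a} in
theorem isAdicComplete (hp : 2 ≤ p) (ham : ∀ i, MvPowerSeries.constantCoeff (a i) = 0) :
    IsAdicComplete (R := 𝓐) (m₀ p k n a) 𝓐 := by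
  haveI := isLocalRing k n hp ham
  haveI := finite k n hp (a := a)
  haveI : IsAdicComplete (maximalIdeal k) k := by
    rw [IsLocalRing.maximalIdeal_eq_bot]
    infer_instance
  haveI : IsAdicComplete (maximalIdeal 𝓡) 𝓡 :=
    Groth.Agent.Lib.PSCompleteH1.isAdicComplete_maximalIdeal
  have hmax : maximalIdeal 𝓐 = m₀ p k n a :=
    (IsLocalRing.eq_maximalIdeal (m₀_isMaximal k n hp)).symm
  rw [← hmax]
  exact Groth.Agent.Lib.CompleteICH3.isAdicComplete_of_finite_local 𝓡 𝓐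

variable {p a} in
theorem isDomain (hp : 2 ≤ p) (ham : ∀ i, MvPowerSeries.constantCoeff (a i) = 0) :
    IsDomain 𝓐 := by
  haveI := isRegularLocalRing k n hp ham
  exact Groth.Agent.RegularLib.isDomain 𝓐

end

end Groth.Agent.Lib.ASFamilyH3
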