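import Mathlib
import Groth.Agent.Lib.Regular_helper5

/-!
# Normality lifts from `R/(x)` to `R` (helper4)

* `AI a b`: "`a / b` is almost integral", phrased inside the domain `R`.
* `isIntegrallyClosed_of_quotient`: `R` Noetherian domain, `x` a prime element in the Jacobson
  radical, `R/(x)` integrally closed ⇒ `R` integrally closed.
* `isDomain_of_quotient`: Noetherian local, `t` a nonzerodivisor in `m`, `A/(t)` a domain ⇒ `A` domain.
* `isIntegrallyClosed_of_isRegularLocalRing`: regular local rings are integrally closed.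
-/

set_option autoImplicit false
universe u

namespace Groth.Agent.Lib.NormalLiftH4

open IsLocalRing

section AI
variable {R : Type u} [CommRing R] [IsDomain R]

/-- `a / b` is almost integral over `R`, phrased inside `R`. -/
def AI (a b : R) : Prop := ∃ d : R, d ≠ 0 ∧ ∀ n : ℕ, b ^ n ∣ d * a ^ n

theorem AI.of_dvd {a b b' : R} (h : AI a b) (hb : b' ∣ b) : AI a b' := by
  obtain ⟨d, hd, h⟩ := h
  exact ⟨d, hd, fun n => (pow_dvd_pow_of_dvd hb n).trans (h n)⟩

theorem AI.sub_mul {a b : R} (h : AI a b) (c : R) : AI (a - b * c) b := by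
  obtain ⟨d, hd, h⟩ := h
  refine ⟨d, hd, fun n => ?_⟩
  rw [sub_eq_add_neg, add_pow, Finset.mul_sum]
  refine Finset.dvd_sum fun i hi => ?_
  have hi' : i ≤ n := Nat.lt_succ_iff.mp (Finset.mem_range.mp hi)
  obtain ⟨r, hr⟩ := h i
  have e1 : (-(b * c)) ^ (n - i) = b ^ (n - i) * (-c) ^ (n - i) := by
    rw [← mul_pow]; congr 1; ring
  have e2 : b ^ n = b ^ i * b ^ (n - i) := by
    rw [← pow_add]; congr 1; omega
  have : d * (a ^ i * (-(b * c)) ^ (n - i) * (n.choose i : R)) =
      b ^ n * (r * (-c) ^ (n - i) * (n.choose i : R)) := by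
    rw [e1, e2]
    linear_combination (b ^ (n - i) * (-c) ^ (n - i) * (n.choose i : R)) * hr
  rw [this]
  exact dvd_mul_right _ _

theorem AI.cancel_left {a b c : R} (hc : c ≠ 0) (h : AI (c * a) (c * b)) : AI a b := by
  obtain ⟨d, hd, h⟩ := h
  refine ⟨d, hd, fun n => ?_⟩
  obtain ⟨r, hr⟩ := h n
  refine ⟨r, ?_⟩
  have hcn : c ^ n ≠ 0 := pow_ne_zero n hc
  apply mul_left_cancel₀ hcn
  rw [mul_pow, mul_pow] at hr
  linear_combination hr

theorem AI.cancel_prime {x a b : R} (hx : Prime x) (hb : ¬ x ∣ b) (h : AI (x * a) b) :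
    AI a b := by
  obtain ⟨d, hd, h⟩ := h
  refine ⟨d, hd, fun n => ?_⟩
  obtain ⟨r, hr⟩ := h n
  rw [mul_pow] at hr
  have h1 : x ^ n ∣ r * b ^ n := ⟨d * a ^ n, by linear_combination (-1 : R) * hr⟩
  have hbn : ¬ x ∣ b ^ n := fun hdiv => hb (hx.dvd_of_dvd_pow hdiv)
  obtain ⟨r', hr'⟩ := hx.pow_dvd_of_dvd_mul_right n hbn h1
  refine ⟨r', ?_⟩
  apply mul_left_cancel₀ (pow_ne_zero n hx.ne_zero)
  rw [hr'] at hr
  linear_combination hr

theorem AI.cancel_prime_pow {x a b : R} (hx : Prime x) (hb : ¬ x ∣ b) :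
    ∀ n : ℕ, AI (x ^ n * a) b → AI a b := by
  intro n
  induction n with
  | zero => intro h; simpa using h
  | succ n ih =>
    intro h
    have e : x ^ (n + 1) * a = x * (x ^ n * a) := by ring
    rw [e] at h
    exact ih (h.cancel_prime hx hb)

theorem AI.exists_not_dvd [IsNoetherianRing R] {x a b : R} (hx : Prime x) (hb : ¬ x ∣ b)
    (h : AI a b) : ∃ d : R, ¬ x ∣ d ∧ ∀ n : ℕ, b ^ n ∣ d * a ^ n := by
  obtain ⟨d, hd, h⟩ := h
  obtain ⟨e, d', hxd', hdd'⟩ := WfDvdMonoid.max_power_factor' hd hx.not_isUnit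
  refine ⟨d', hxd', fun n => ?_⟩
  obtain ⟨r, hr⟩ := h n
  rw [hdd'] at hr
  have h1 : x ^ e ∣ r * b ^ n := ⟨d' * a ^ n, by linear_combination (-1 : R) * hr⟩
  have hbn : ¬ x ∣ b ^ n := fun hdiv => hb (hx.dvd_of_dvd_pow hdiv)
  obtain ⟨r', hr'⟩ := hx.pow_dvd_of_dvd_mul_right e hbn h1
  refine ⟨r', ?_⟩
  apply mul_left_cancel₀ (pow_ne_zero e hx.ne_zero)
  rw [hr'] at hr
  linear_combination hr

theorem AI.of_isIntegral {a b : R} (hb : b ≠ 0)
    (h : IsIntegral R (algebraMap R (FractionRing R) a / algebraMap R (FractionRing R) b)) :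
    AI a b := by
  obtain ⟨d, hd, hdn⟩ := h.isAlmostIntegral
  refine ⟨d, nonZeroDivisors.ne_zero hd, fun n => ?_⟩
  obtain ⟨r, hr⟩ := hdn n
  refine ⟨r, ?_⟩
  apply IsFractionRing.injective R (FractionRing R)
  have hbK : algebraMap R (FractionRing R) b ≠ 0 :=
    (map_ne_zero_iff _ (IsFractionRing.injective R (FractionRing R))).mpr hb
  rw [Algebra.smul_def, div_pow, ← mul_div_assoc, eq_div_iff (pow_ne_zero n hbK)] at hr
  rw [map_mul, map_mul, map_pow, map_pow]
  linear_combination (-1 : FractionRing R) * hr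

theorem AI.dvd_of_isIntegrallyClosed [IsNoetherianRing R] [IsIntegrallyClosed R] {a b : R}
    (hb : b ≠ 0) (h : AI a b) : b ∣ a := by
  obtain ⟨d, hd, h⟩ := h
  have hbK : algebraMap R (FractionRing R) b ≠ 0 :=
    (map_ne_zero_iff _ (IsFractionRing.injective R (FractionRing R))).mpr hb
  have hai : IsAlmostIntegral R
      (algebraMap R (FractionRing R) a / algebraMap R (FractionRing R) b) := by
    refine ⟨d, mem_nonZeroDivisors_of_ne_zero hd, fun n => ?_⟩
    obtain ⟨r, hr⟩ := h n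
    refine ⟨r, ?_⟩
    rw [Algebra.smul_def, div_pow, ← mul_div_assoc, eq_div_iff (pow_ne_zero n hbK),
      ← map_pow, ← map_pow, ← map_mul, ← map_mul]
    congr 1
    linear_combination (-1 : R) * hr
  have hint : IsIntegral R
      (algebraMap R (FractionRing R) a / algebraMap R (FractionRing R) b) :=
    isAlmostIntegral_iff_isIntegral.mp hai
  obtain ⟨c, hc⟩ := (isIntegrallyClosed_iff (FractionRing R)).mp inferInstance hint
  rw [eq_div_iff hbK] at hc
  refine ⟨c, ?_⟩
  apply IsFractionRing.injective R (FractionRing R)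
  rw [map_mul, ← hc, mul_comm]

variable [IsNoetherianRing R] {x : R}

theorem AI.exists_eq_add (hx : Prime x) [IsIntegrallyClosed (R ⧸ Ideal.span {x})] {a b : R}
    (hb : ¬ x ∣ b) (h : AI a b) : ∃ c a₁ : R, a = b * c + x * a₁ := by
  haveI : (Ideal.span {x}).IsPrime := (Ideal.span_singleton_prime hx.ne_zero).mpr hx
  obtain ⟨d, hd, h⟩ := h.exists_not_dvd hx hb
  have hπ : ∀ y : R, Ideal.Quotient.mk (Ideal.span {x}) y = 0 ↔ x ∣ y := fun y => by
    rw [Ideal.Quotient.eq_zero_iff_mem, Ideal.mem_span_singleton]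
  have hAI : AI (Ideal.Quotient.mk (Ideal.span {x}) a) (Ideal.Quotient.mk (Ideal.span {x}) b) := by
    refine ⟨Ideal.Quotient.mk (Ideal.span {x}) d, fun h0 => hd ((hπ d).mp h0), fun n => ?_⟩
    obtain ⟨r, hr⟩ := h n
    exact ⟨Ideal.Quotient.mk (Ideal.span {x}) r,
      by rw [← map_pow, ← map_pow, ← map_mul, ← map_mul, hr]⟩
  have hdvd : Ideal.Quotient.mk (Ideal.span {x}) b ∣ Ideal.Quotient.mk (Ideal.span {x}) a :=
    hAI.dvd_of_isIntegrallyClosed (fun h0 => hb ((hπ b).mp h0))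
  obtain ⟨c', hc'⟩ := hdvd
  obtain ⟨c, rfl⟩ := Ideal.Quotient.mk_surjective c'
  have h0 : Ideal.Quotient.mk (Ideal.span {x}) (a - b * c) = 0 := by
    rw [map_sub, map_mul, hc', sub_self]
  obtain ⟨a₁, ha₁⟩ := (hπ _).mp h0
  exact ⟨c, a₁, by linear_combination ha₁⟩

theorem AI.exists_eq_add_pow (hx : Prime x) [IsIntegrallyClosed (R ⧸ Ideal.span {x})] {b : R}
    (hb : ¬ x ∣ b) : ∀ (n : ℕ) (a : R), AI a b → ∃ c a₁ : R, a = b * c + x ^ n * a₁ := by
  intro n
  induction n with
  | zero => intro a _; exact ⟨0, a, by ring⟩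
  | succ n ih =>
    intro a h
    obtain ⟨c, a₁, hca⟩ := ih a h
    have h1 : AI (x ^ n * a₁) b := by
      have := h.sub_mul c
      rwa [hca, add_sub_cancel_left] at this
    have h2 : AI a₁ b := AI.cancel_prime_pow hx hb n h1
    obtain ⟨c₁, a₂, hc₁⟩ := h2.exists_eq_add hx hb
    exact ⟨c + x ^ n * c₁, a₂, by rw [hca, hc₁]; ring⟩

theorem dvd_of_forall_exists_eq_add_pow (hxj : x ∈ Ideal.jacobson (⊥ : Ideal R)) {a b : R}
    (h : ∀ n : ℕ, ∃ c a₁ : R, a = b * c + x ^ n * a₁) : b ∣ a := by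
  have hI : Ideal.span {x} ≤ Ideal.jacobson (⊥ : Ideal R) :=
    (Ideal.span_singleton_le_iff_mem _).mpr hxj
  have key := Ideal.iInf_pow_smul_eq_bot_of_le_jacobson (M := R ⧸ Ideal.span {b})
    (Ideal.span {x}) hI
  have hmem : (Ideal.Quotient.mk (Ideal.span {b}) a) ∈
      (⨅ i : ℕ, Ideal.span {x} ^ i • (⊤ : Submodule R (R ⧸ Ideal.span {b}))) := by
    rw [Submodule.mem_iInf]
    intro n
    obtain ⟨c, a₁, hca⟩ := h n
    have e : Ideal.Quotient.mk (Ideal.span {b}) a =
        (x ^ n) • (Ideal.Quotient.mk (Ideal.span {b}) a₁) := by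
      rw [Algebra.smul_def, Ideal.Quotient.algebraMap_eq, ← map_mul, Ideal.Quotient.eq,
        Ideal.mem_span_singleton]
      exact ⟨c, by rw [hca]; ring⟩
    rw [e]
    exact Submodule.smul_mem_smul (Ideal.pow_mem_pow (Ideal.mem_span_singleton_self x) n)
      Submodule.mem_top
  rw [key, Submodule.mem_bot, Ideal.Quotient.eq_zero_iff_mem, Ideal.mem_span_singleton] at hmem
  exact hmem

theorem dvd_of_AI_of_not_dvd (hx : Prime x) (hxj : x ∈ Ideal.jacobson (⊥ : Ideal R))
    [IsIntegrallyClosed (R ⧸ Ideal.span {x})] {a b : R} (hb : ¬ x ∣ b) (h : AI a b) : b ∣ a :=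
  dvd_of_forall_exists_eq_add_pow hxj (fun n => AI.exists_eq_add_pow hx hb n a h)

theorem dvd_of_AI_prime (hx : Prime x) {a : R} (h : AI a x) : x ∣ a := by
  obtain ⟨d, hd, h⟩ := h
  by_contra hxa
  obtain ⟨n, hn⟩ := FiniteMultiplicity.of_prime_left hx hd
  apply hn
  exact hx.pow_dvd_of_dvd_mul_right (n + 1) (fun hdiv => hxa (hx.dvd_of_dvd_pow hdiv)) (h (n + 1))

theorem dvd_of_AI_prime_pow (hx : Prime x) : ∀ (l : ℕ) (a : R), AI a (x ^ l) → x ^ l ∣ a := by
  intro l
  induction l with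
  | zero => intro a _; simp
  | succ l ih =>
    intro a h
    have h1 : AI a x := h.of_dvd (dvd_pow_self x (Nat.succ_ne_zero l))
    obtain ⟨a₁, rfl⟩ := dvd_of_AI_prime hx h1
    rw [pow_succ'] at h ⊢
    exact mul_dvd_mul_left x (ih a₁ (AI.cancel_left hx.ne_zero h))

theorem dvd_of_AI (hx : Prime x) (hxj : x ∈ Ideal.jacobson (⊥ : Ideal R))
    [IsIntegrallyClosed (R ⧸ Ideal.span {x})] {a b : R} (hb : b ≠ 0) (h : AI a b) : b ∣ a := by
  obtain ⟨l, b', hxb', rfl⟩ := WfDvdMonoid.max_power_factor' hb hx.not_isUnit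
  have h1 : AI a b' := h.of_dvd (dvd_mul_left b' (x ^ l))
  obtain ⟨a₂, rfl⟩ := dvd_of_AI_of_not_dvd hx hxj hxb' h1
  have hb'0 : b' ≠ 0 := by rintro rfl; exact hxb' (dvd_zero x)
  have h2 : AI a₂ (x ^ l) := AI.cancel_left hb'0 (by rwa [mul_comm (x ^ l) b'] at h)
  obtain ⟨a₃, rfl⟩ := dvd_of_AI_prime_pow hx l a₂ h2
  exact ⟨a₃, by ring⟩

end AI

/-- Normality lifts along a prime element in the Jacobson radical. -/
theorem isIntegrallyClosed_of_quotient (R : Type u) [CommRing R] [IsDomain R] [IsNoetherianRing R]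
    {x : R} (hx : Prime x) (hxj : x ∈ Ideal.jacobson (⊥ : Ideal R))
    [IsIntegrallyClosed (R ⧸ Ideal.span {x})] : IsIntegrallyClosed R := by
  rw [isIntegrallyClosed_iff (FractionRing R)]
  intro z hz
  obtain ⟨a, b, hb, rfl⟩ := IsFractionRing.div_surjective (A := R) z
  have hb0 : b ≠ 0 := nonZeroDivisors.ne_zero hb
  have hAI : AI a b := AI.of_isIntegral hb0 hz
  obtain ⟨c, rfl⟩ := dvd_of_AI hx hxj hb0 hAI
  have hbK : algebraMap R (FractionRing R) b ≠ 0 :=
    (map_ne_zero_iff _ (IsFractionRing.injective R (FractionRing R))).mpr hb0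
  refine ⟨c, ?_⟩
  rw [eq_div_iff hbK, ← map_mul, mul_comm]

/-- A Noetherian local ring `A` with a nonzerodivisor `t ∈ m` such that `A/(t)` is a domain is a
domain. -/
theorem isDomain_of_quotient (A : Type u) [CommRing A] [IsNoetherianRing A] [IsLocalRing A] (t : A)
    (ht : t ∈ maximalIdeal A) (hreg : t ∈ nonZeroDivisors A) [IsDomain (A ⧸ Ideal.span {t})] :
    IsDomain A := by
  have hprime : (Ideal.span {t}).IsPrime := (Ideal.Quotient.isDomain_iff_prime _).mp inferInstance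
  have hjac : maximalIdeal A ≤ Ideal.jacobson ⊥ :=
    (IsLocalRing.jacobson_eq_maximalIdeal ⊥ bot_ne_top).ge
  obtain ⟨p, hp, hple⟩ := Ideal.exists_minimalPrimes_le (bot_le : (⊥ : Ideal A) ≤ Ideal.span {t})
  have hpprime : p.IsPrime := hp.1.1
  have htp : t ∉ p := fun htp =>
    Set.disjoint_left.mp (Ideal.disjoint_nonZeroDivisors_of_mem_minimalPrimes hp) htp hreg
  have hpbot : p = ⊥ := by
    apply Submodule.eq_bot_of_le_smul_of_le_jacobson_bot (maximalIdeal A) p
      (IsNoetherian.noetherian _) _ hjac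
    intro y hy
    obtain ⟨a, rfl⟩ := Ideal.mem_span_singleton'.mp (hple hy)
    have ha : a ∈ p := (hpprime.mem_or_mem hy).resolve_right htp
    rw [mul_comm]
    exact Submodule.smul_mem_smul ht ha
  rw [hpbot] at hpprime
  exact IsDomain.of_bot_isPrime A

/-- Normality lifts from `A/(t)` to `A` (no catenary hypothesis needed). -/
theorem isDomain_and_isIntegrallyClosed_of_quotient (A : Type u) [CommRing A] [IsNoetherianRing A]
    [IsLocalRing A] (t : A) (ht : t ∈ maximalIdeal A) (hreg : t ∈ nonZeroDivisors A)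
    [IsDomain (A ⧸ Ideal.span {t})] [IsIntegrallyClosed (A ⧸ Ideal.span {t})] :
    IsDomain A ∧ IsIntegrallyClosed A := by
  have hd : IsDomain A := isDomain_of_quotient A t ht hreg
  refine ⟨hd, ?_⟩
  haveI := hd
  have ht0 : t ≠ 0 := nonZeroDivisors.ne_zero hreg
  have hprime : (Ideal.span {t}).IsPrime := (Ideal.Quotient.isDomain_iff_prime _).mp inferInstance
  have htp : Prime t := (Ideal.span_singleton_prime ht0).mp hprime
  exact isIntegrallyClosed_of_quotient A htp
    ((IsLocalRing.jacobson_eq_maximalIdeal ⊥ bot_ne_top).ge ht)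

theorem isIntegrallyClosed_aux : ∀ (n : ℕ) (R : Type u) [CommRing R] [IsRegularLocalRing R],
    (maximalIdeal R).spanFinrank = n → IsIntegrallyClosed R := by
  intro n
  induction n with
  | zero =>
    intro R _ _ h
    haveI : IsDomain R := Groth.Agent.RegularLib.isDomain R
    have hbot : maximalIdeal R = ⊥ :=
      (Submodule.spanFinrank_eq_zero_iff_eq_bot (IsNoetherian.noetherian _)).mp h
    have hf : IsField R := IsLocalRing.isField_iff_maximalIdeal_eq.mpr hbot
    rw [isIntegrallyClosed_iff (FractionRing R)]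
    intro z _
    obtain ⟨a, b, hb, rfl⟩ := IsFractionRing.div_surjective (A := R) z
    have hb0 : b ≠ 0 := nonZeroDivisors.ne_zero hb
    have hbK : algebraMap R (FractionRing R) b ≠ 0 :=
      (map_ne_zero_iff _ (IsFractionRing.injective R (FractionRing R))).mpr hb0
    obtain ⟨c, hc⟩ := hf.mul_inv_cancel hb0
    refine ⟨a * c, ?_⟩
    rw [eq_div_iff hbK, ← map_mul]
    congr 1
    linear_combination a * hc
  | succ n ih =>
    intro R _ _ h
    haveI : IsDomain R := Groth.Agent.RegularLib.isDomain R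
    have hjac : maximalIdeal R ≤ Ideal.jacobson ⊥ :=
      (IsLocalRing.jacobson_eq_maximalIdeal ⊥ bot_ne_top).ge
    obtain ⟨x, hxm, hx2⟩ : ∃ x ∈ maximalIdeal R, x ∉ maximalIdeal R ^ 2 := by
      by_contra hcon
      push Not at hcon
      have hle : maximalIdeal R ≤ maximalIdeal R ^ 2 := fun y hy => hcon y hy
      have hbot : maximalIdeal R = ⊥ := by
        apply Submodule.eq_bot_of_le_smul_of_le_jacobson_bot (maximalIdeal R) (maximalIdeal R)
          (IsNoetherian.noetherian _) _ hjac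
        simpa [pow_two] using hle
      rw [hbot, Submodule.spanFinrank_bot] at h
      omega
    obtain ⟨inst, hrank⟩ := Groth.Agent.RegularLib.quotient_of_not_mem_sq R x hxm hx2
    haveI : IsDomain (R ⧸ Ideal.span {x}) := Groth.Agent.RegularLib.isDomain _
    haveI : IsIntegrallyClosed (R ⧸ Ideal.span {x}) := ih (R ⧸ Ideal.span {x}) (by omega)
    have hprime : (Ideal.span {x}).IsPrime :=
      (Ideal.Quotient.isDomain_iff_prime _).mp inferInstance
    have hx0 : x ≠ 0 := by
      rintro rfl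
      exact hx2 (Ideal.zero_mem _)
    have hxp : Prime x := (Ideal.span_singleton_prime hx0).mp hprime
    exact isIntegrallyClosed_of_quotient R hxp (hjac hxm)

/-- A regular local ring is integrally closed. -/
theorem isIntegrallyClosed_of_isRegularLocalRing (R : Type u) [CommRing R]
    [IsRegularLocalRing R] : IsIntegrallyClosed R :=
  isIntegrallyClosed_aux _ R rfl

end Groth.Agent.Lib.NormalLiftH4
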