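import Mathlib
import Groth.Agent.Lib.ASFamily_helper3
import Groth.Agent.Lib.NormalLift_helper4

/-!
# The automorphism group of the Artin–Schreier family
-/

set_option autoImplicit false
set_option backward.isDefEq.respectTransparency false
universe u

namespace Groth.Agent.Lib.ASFamilyAutH3

open MvPolynomial IsLocalRing Groth.Agent.Lib.ASFamilyH3

/-! ### Generic lemmas -/

lemma add_pow_char_gen {S : Type*} [CommRing S] (p : ℕ) [Fact p.Prime] [CharP S p] (x y : S) :
    (x + y) ^ p = x ^ p + y ^ p := add_pow_char x y p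

lemma sub_pow_char_gen {S : Type*} [CommRing S] (p : ℕ) [Fact p.Prime] [CharP S p] (x y : S) :
    (x - y) ^ p = x ^ p - y ^ p := sub_pow_char x y

/-- In a domain, `X ^ p - β X` has at most `p` roots. -/
lemma root_lemma_gen {S : Type*} [CommRing S] [IsDomain S] (p : ℕ) [Fact p.Prime]
    (g : ZMod p → S) (hg : Function.Injective g) (β : S) (hβ : ∀ c, g c ^ p = β * g c)
    (d : S) (hd : d ^ p = β * d) : ∃ c : ZMod p, d = g c := by
  by_contra hne
  push_neg at hne
  have hp2 : 2 ≤ p := (Fact.out : p.Prime).two_le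
  let P : Polynomial S := Polynomial.X ^ p - Polynomial.C β * Polynomial.X
  have hdeg : P.natDegree = p := by
    show (Polynomial.X ^ p - Polynomial.C β * Polynomial.X).natDegree = p
    rw [Polynomial.natDegree_sub_eq_left_of_natDegree_lt, Polynomial.natDegree_X_pow]
    rw [Polynomial.natDegree_X_pow]
    exact lt_of_le_of_lt (Polynomial.natDegree_C_mul_le _ _)
      (by rw [Polynomial.natDegree_X]; omega)
  have hP0 : P ≠ 0 := by
    intro h0
    rw [h0, Polynomial.natDegree_zero] at hdeg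
    omega
  let f : Option (ZMod p) → S := fun o => o.elim d g
  have hf : Function.Injective f := by
    intro o o' h
    cases o with
    | none =>
      cases o' with
      | none => rfl
      | some c' => exact absurd h (hne c')
    | some c =>
      cases o' with
      | none => exact absurd h.symm (hne c)
      | some c' => rw [hg h]
  have heval : ∀ o, P.eval (f o) = 0 := by
    intro o
    show (Polynomial.X ^ p - Polynomial.C β * Polynomial.X).eval (f o) = 0
    rw [Polynomial.eval_sub, Polynomial.eval_pow, Polynomial.eval_X, Polynomial.eval_mul,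
      Polynomial.eval_C, Polynomial.eval_X]
    cases o with
    | none =>
      show d ^ p - β * d = 0
      rw [hd, sub_self]
    | some c =>
      show g c ^ p - β * g c = 0
      rw [hβ, sub_self]
  have hcard : P.natDegree < Fintype.card (Option (ZMod p)) := by
    rw [hdeg, Fintype.card_option, ZMod.card]
    omega
  exact hP0 (Polynomial.eq_zero_of_natDegree_lt_card_of_eval_eq_zero P hf heval hcard)

/-- Fixed elements of the full automorphism group, when its order is the rank. -/
theorem fixed_of_card {A B : Type*} [CommRing A] [CommRing B] [IsDomain A] [IsDomain B]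
    [Algebra A B] [IsIntegrallyClosed A] [IsIntegrallyClosed B] [Module.Finite A B]
    [FaithfulSMul A B] (hpos : 0 < Module.finrank A B)
    (h : Nat.card (B ≃ₐ[A] B) = Module.finrank A B) (b : B)
    (hb : ∀ σ : B ≃ₐ[A] B, σ b = b) : ∃ a, algebraMap A B a = b := by
  let K := FractionRing A
  let L := FractionRing B
  have : FaithfulSMul A L := by
    rw [faithfulSMul_iff_algebraMap_injective, IsScalarTower.algebraMap_eq A B L]
    exact (FaithfulSMul.algebraMap_injective B L).comp (FaithfulSMul.algebraMap_injective A B)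
  let _ : Algebra K L := FractionRing.liftAlgebra A L
  have : IsScalarTower A K L := FractionRing.isScalarTower_liftAlgebra A L
  have : Algebra.IsIntegral A B := Algebra.IsIntegral.of_finite A B
  have : IsIntegralClosure B A L := IsIntegralClosure.of_isIntegrallyClosed B A L
  have hfr : Module.finrank K L = Module.finrank A B := IsFractionRing.finrank_eq A K B L
  have : FiniteDimensional K L := FiniteDimensional.of_finrank_pos (by rw [hfr]; exact hpos)
  have hcard : Nat.card Gal(L/K) = Module.finrank K L := by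
    rw [Nat.card_congr (galRestrict A K L B).toEquiv, h, hfr]
  have : IsGalois K L := IsGalois.of_card_aut_eq_finrank K L hcard
  have hinv := Algebra.isInvariant_of_isGalois' A K L B
  exact hinv.isInvariant b (fun σ => hb σ)

section

variable (p : ℕ) [hpf : Fact p.Prime] (k : Type u) [Field k] [CharP k p] (n : ℕ)
  (a : Fin n → MvPowerSeries (Fin n) k)

local notation "𝓡" => MvPowerSeries (Fin n) k
local notation "𝓟" => MvPolynomial (Fin n) (MvPowerSeries (Fin n) k)
local notation "𝓐" => (MvPolynomial (Fin n) (MvPowerSeries (Fin n) k) ⧸ I p k n a)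

/-- `𝔽_p → R`. -/
noncomputable def gR : ZMod p →+* 𝓡 :=
  (MvPowerSeries.C : k →+* 𝓡).comp (ZMod.castHom (dvd_refl p) k)

lemma gR_pow (c : ZMod p) : gR p k n c ^ p = gR p k n c := by
  rw [← map_pow, ZMod.pow_card]

lemma gR_injective : Function.Injective (gR p k n) := RingHom.injective _

lemma two_le : 2 ≤ p := hpf.out.two_le

instance isDomainR : IsDomain 𝓡 := NoZeroDivisors.to_isDomain _

lemma charP_R : CharP 𝓡 p :=
  charP_of_injective_ringHom (f := (MvPowerSeries.C : k →+* 𝓡)) MvPowerSeries.C_injective p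

lemma algebraMap_injective : Function.Injective (algebraMap 𝓡 𝓐) := by
  have h := free_and_finrank k n a (two_le p)
  haveI := h.1
  haveI : Nontrivial 𝓐 := by
    apply Module.nontrivial_of_finrank_pos (R := 𝓡)
    rw [h.2]
    exact pow_pos (by have := two_le p; omega) n
  exact FaithfulSMul.algebraMap_injective 𝓡 𝓐

lemma charP_A : CharP 𝓐 p := by
  haveI := charP_R p k n
  exact charP_of_injective_ringHom (algebraMap_injective p k n a) p

/-- the translated generators -/
noncomputable def vv (c : Fin n → ZMod p) (i : Fin n) : 𝓐 :=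
  uu p k n a i + algebraMap 𝓡 𝓐 (gR p k n (c i) * a i)

lemma rel_shift (c : ZMod p) (i : Fin n) :
    (uu p k n a i + algebraMap 𝓡 𝓐 (gR p k n c * a i)) ^ p =
      algebraMap 𝓡 𝓐 (a i ^ (p - 1)) * (uu p k n a i + algebraMap 𝓡 𝓐 (gR p k n c * a i))
        + algebraMap 𝓡 𝓐 (MvPowerSeries.X i) := by
  haveI := charP_A p k n a
  have hp1 : p - 1 + 1 = p := Nat.sub_add_cancel (by have := two_le p; omega)
  have h1 : a i ^ p = a i ^ (p - 1) * a i := by rw [← pow_succ, hp1]
  have h2 : algebraMap 𝓡 𝓐 (gR p k n c * (a i ^ (p - 1) * a i))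
      = algebraMap 𝓡 𝓐 (a i ^ (p - 1)) * algebraMap 𝓡 𝓐 (gR p k n c * a i) := by
    rw [← map_mul]; congr 1; ring
  refine (add_pow_char_gen (S := 𝓐) p _ _).trans ?_
  rw [rel, ← map_pow, mul_pow, gR_pow, h1, h2]
  ring

lemma hker (c : Fin n → ZMod p) : ∀ f ∈ I p k n a, aeval (vv p k n a c) f = 0 := by
  intro f hf
  have hle : I p k n a ≤ RingHom.ker (aeval (vv p k n a c) : 𝓟 →ₐ[𝓡] 𝓐).toRingHom := by
    refine Ideal.span_le.mpr ?_
    rintro _ ⟨i, rfl⟩
    rw [SetLike.mem_coe, RingHom.mem_ker]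
    change aeval (vv p k n a c) (X i ^ p - C (a i ^ (p - 1)) * X i - C (MvPowerSeries.X i)) = 0
    rw [map_sub, map_sub, map_mul, map_pow, aeval_X, aeval_C, aeval_C, vv, rel_shift]
    ring
  exact hle hf

/-- the translation homomorphisms -/
noncomputable def sHom (c : Fin n → ZMod p) : 𝓐 →ₐ[𝓡] 𝓐 :=
  Ideal.Quotient.liftₐ (I p k n a) (aeval (vv p k n a c)) (hker p k n a c)

lemma sHom_uu (c : Fin n → ZMod p) (i : Fin n) :
    sHom p k n a c (uu p k n a i) = vv p k n a c i := by
  simp [sHom, uu]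

variable {p k n a} in
lemma algHom_ext' {f g : 𝓐 →ₐ[𝓡] 𝓐} (h : ∀ i, f (uu p k n a i) = g (uu p k n a i)) : f = g := by
  apply Ideal.Quotient.algHom_ext
  apply MvPolynomial.algHom_ext
  intro i
  exact h i

lemma sHom_comp (c c' : Fin n → ZMod p) :
    (sHom p k n a c).comp (sHom p k n a c') = sHom p k n a (c + c') := by
  apply algHom_ext'
  intro i
  rw [AlgHom.comp_apply, sHom_uu, sHom_uu, vv, map_add, AlgHom.commutes, sHom_uu, vv, vv,
    Pi.add_apply, map_add, add_mul, map_add, add_assoc]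

lemma sHom_zero : sHom p k n a 0 = AlgHom.id 𝓡 𝓐 := by
  apply algHom_ext'
  intro i
  rw [sHom_uu, vv, Pi.zero_apply, map_zero, zero_mul, map_zero, add_zero, AlgHom.id_apply]

/-- the translation automorphisms -/
noncomputable def Psi (c : Fin n → ZMod p) : 𝓐 ≃ₐ[𝓡] 𝓐 :=
  AlgEquiv.ofAlgHom (sHom p k n a c) (sHom p k n a (-c))
    (by rw [sHom_comp, add_neg_cancel, sHom_zero])
    (by rw [sHom_comp, neg_add_cancel, sHom_zero])

lemma Psi_apply (c : Fin n → ZMod p) (x : 𝓐) : Psi p k n a c x = sHom p k n a c x := rfl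

lemma Psi_uu (c : Fin n → ZMod p) (i : Fin n) :
    Psi p k n a c (uu p k n a i) = vv p k n a c i := sHom_uu p k n a c i

lemma Psi_mul (c c' : Fin n → ZMod p) :
    Psi p k n a c * Psi p k n a c' = Psi p k n a (c + c') := by
  apply AlgEquiv.ext
  intro x
  rw [AlgEquiv.mul_apply, Psi_apply, Psi_apply, Psi_apply, ← sHom_comp]
  rfl

lemma Psi_zero : Psi p k n a 0 = 1 := by
  apply AlgEquiv.ext
  intro x
  rw [Psi_apply, sHom_zero]
  rfl

lemma Psi_pow (c : Fin n → ZMod p) (m : ℕ) : Psi p k n a c ^ m = Psi p k n a (m • c) := by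
  induction m with
  | zero => rw [pow_zero, zero_smul, Psi_zero]
  | succ m ih => rw [pow_succ, ih, Psi_mul, succ_nsmul]

lemma Psi_pow_p (c : Fin n → ZMod p) : Psi p k n a c ^ p = 1 := by
  rw [Psi_pow]
  have : p • c = 0 := by
    funext i
    simp
  rw [this, Psi_zero]

variable {p k n a} in
lemma algEquiv_ext' {σ τ : 𝓐 ≃ₐ[𝓡] 𝓐} (h : ∀ i, σ (uu p k n a i) = τ (uu p k n a i)) : σ = τ := by
  apply AlgEquiv.ext
  intro x
  obtain ⟨f, rfl⟩ := Ideal.Quotient.mk_surjective x
  induction f using MvPolynomial.induction_on with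
  | C r =>
    have : (Ideal.Quotient.mk (I p k n a) (C r) : 𝓐) = algebraMap 𝓡 𝓐 r := rfl
    rw [this, AlgEquiv.commutes, AlgEquiv.commutes]
  | add f g hf hg => rw [map_add, map_add, map_add, hf, hg]
  | mul_X f i hf =>
    rw [map_mul, map_mul, map_mul, hf]
    congr 1
    exact h i

variable {a} in
lemma Psi_injective (ha0 : ∀ i, a i ≠ 0) : Function.Injective (Psi p k n a) := by
  intro c c' h
  funext i
  have h1 : Psi p k n a c (uu p k n a i) = Psi p k n a c' (uu p k n a i) := by rw [h]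
  rw [Psi_uu, Psi_uu, vv, vv] at h1
  have h2 := algebraMap_injective p k n a (add_left_cancel h1)
  exact gR_injective p k n (mul_right_cancel₀ (ha0 i) h2)

variable {a} in
lemma root_lemma (hdom : IsDomain 𝓐) (d : 𝓐) (α : 𝓡) (hα : α ≠ 0)
    (hd : d ^ p = algebraMap 𝓡 𝓐 (α ^ (p - 1)) * d) :
    ∃ c : ZMod p, d = algebraMap 𝓡 𝓐 (gR p k n c * α) := by
  have hp2 := two_le p
  have hp1 : p - 1 + 1 = p := Nat.sub_add_cancel (by omega)
  haveI := hdom
  refine root_lemma_gen (S := 𝓐) p (fun c => algebraMap 𝓡 𝓐 (gR p k n c * α)) ?_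
    (algebraMap 𝓡 𝓐 (α ^ (p - 1))) ?_ d hd
  · intro c c' h
    have h2 := algebraMap_injective p k n a h
    exact gR_injective p k n (mul_right_cancel₀ hα h2)
  · intro c
    show (algebraMap 𝓡 𝓐 (gR p k n c * α)) ^ p = _ * algebraMap 𝓡 𝓐 (gR p k n c * α)
    rw [← map_pow, ← map_mul, mul_pow, gR_pow]
    congr 1
    have : α ^ p = α ^ (p - 1) * α := by rw [← pow_succ, hp1]
    rw [this]; ring

variable {a} in
lemma Psi_surjective (ha0 : ∀ i, a i ≠ 0) (hdom : IsDomain 𝓐) :
    Function.Surjective (Psi p k n a) := by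
  intro σ
  haveI := charP_A p k n a
  have key : ∀ i, ∃ c : ZMod p, σ (uu p k n a i) - uu p k n a i
      = algebraMap 𝓡 𝓐 (gR p k n c * a i) := by
    intro i
    apply root_lemma p k n hdom _ _ (ha0 i)
    have h1 : σ (uu p k n a i) ^ p = algebraMap 𝓡 𝓐 (a i ^ (p - 1)) * σ (uu p k n a i)
        + algebraMap 𝓡 𝓐 (MvPowerSeries.X i) := by
      rw [← map_pow, rel, map_add, map_mul, AlgEquiv.commutes, AlgEquiv.commutes]
    refine (sub_pow_char_gen (S := 𝓐) p _ _).trans ?_
    rw [h1, rel]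
    ring
  choose c hc using key
  refine ⟨c, ?_⟩
  apply algEquiv_ext'
  intro i
  rw [Psi_uu, vv, ← hc i]
  ring

variable {a} in
theorem main (ha0 : ∀ i, a i ≠ 0) (ham : ∀ i, MvPowerSeries.constantCoeff (a i) = 0) :
    Nat.card (𝓐 ≃ₐ[𝓡] 𝓐) = p ^ n ∧
      (∀ σ τ : 𝓐 ≃ₐ[𝓡] 𝓐, σ * τ = τ * σ) ∧
      (∀ σ : 𝓐 ≃ₐ[𝓡] 𝓐, σ ^ p = 1) ∧
      (∀ b : 𝓐, (∀ σ : 𝓐 ≃ₐ[𝓡] 𝓐, σ b = b) ↔ b ∈ Set.range (algebraMap 𝓡 𝓐)) := by
  have hp2 := two_le p
  have hdom : IsDomain 𝓐 := ASFamilyH3.isDomain k n hp2 ham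
  have hsurj := Psi_surjective p k n ha0 hdom
  have hinj := Psi_injective p k n ha0
  have hcard : Nat.card (𝓐 ≃ₐ[𝓡] 𝓐) = p ^ n := by
    rw [← Nat.card_congr (Equiv.ofBijective _ ⟨hinj, hsurj⟩), Nat.card_eq_fintype_card,
      Fintype.card_fun, ZMod.card, Fintype.card_fin]
  refine ⟨hcard, ?_, ?_, ?_⟩
  · intro σ τ
    obtain ⟨c, rfl⟩ := hsurj σ
    obtain ⟨c', rfl⟩ := hsurj τ
    rw [Psi_mul, Psi_mul, add_comm]
  · intro σ
    obtain ⟨c, rfl⟩ := hsurj σ
    exact Psi_pow_p p k n a c
  · intro b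
    constructor
    · intro hb
      haveI := hdom
      haveI : IsRegularLocalRing 𝓡 := Groth.Agent.Lib.RegPSH3.isRegularLocalRing_mvPowerSeries k n
      haveI : IsRegularLocalRing 𝓐 := ASFamilyH3.isRegularLocalRing k n hp2 ham
      haveI : IsIntegrallyClosed 𝓡 :=
        Groth.Agent.Lib.NormalLiftH4.isIntegrallyClosed_of_isRegularLocalRing 𝓡
      haveI : IsIntegrallyClosed 𝓐 :=
        Groth.Agent.Lib.NormalLiftH4.isIntegrallyClosed_of_isRegularLocalRing 𝓐
      haveI : Module.Finite 𝓡 𝓐 := ASFamilyH3.finite k n hp2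
      haveI : FaithfulSMul 𝓡 𝓐 :=
        (faithfulSMul_iff_algebraMap_injective 𝓡 𝓐).mpr (algebraMap_injective p k n a)
      have hfr := (free_and_finrank k n a hp2).2
      have hpos : 0 < p ^ n := pow_pos (by omega) n
      exact fixed_of_card (A := 𝓡) (B := 𝓐) (by rw [hfr]; exact hpos) (by rw [hcard, hfr]) b hb
    · rintro ⟨r, rfl⟩ σ
      exact σ.commutes r

end

end Groth.Agent.Lib.ASFamilyAutH3
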