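import Mathlib

/-!
# Comparing lengths over `R` and over a local `R`-algebra with the same residue field;
length of `A / 𝔞A` for `A` finite free over `R`.
-/

set_option autoImplicit false
set_option backward.isDefEq.respectTransparency false

namespace Groth.Agent.Lib.LenCompareH3

open IsLocalRing

section Compare

variable {R A : Type*} [CommRing R] [CommRing A] [Algebra R A] [IsLocalRing A]
  {M : Type*} [AddCommGroup M] [Module A M] [Module R M] [IsScalarTower R A M]

/-- if `x ⋖ y` are submodules over a local ring, the maximal ideal maps `y` into `x`. -/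
lemma smul_mem_of_covBy {x y : Submodule A M} (h : x ⋖ y) {m : A} (hm : m ∈ maximalIdeal A)
    {t : M} (ht : t ∈ y) : m • t ∈ x := by
  by_contra hmt
  have hmty : m • t ∈ y := y.smul_mem m ht
  have h1 : x ⊔ Submodule.span A {m • t} = y := by
    rcases h.eq_or_eq (c := x ⊔ Submodule.span A {m • t}) le_sup_left
      (sup_le h.le ((Submodule.span_singleton_le_iff_mem _ _).mpr hmty)) with h2 | h2
    · exfalso
      apply hmt
      have : m • t ∈ x ⊔ Submodule.span A {m • t} :=
        Submodule.mem_sup_right (Submodule.mem_span_singleton_self _)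
      rwa [h2] at this
    · exact h2
  have h3 : t ∈ x ⊔ Submodule.span A {m • t} := h1 ▸ ht
  obtain ⟨x₀, hx₀, z, hz, hsum⟩ := Submodule.mem_sup.mp h3
  obtain ⟨b, rfl⟩ := Submodule.mem_span_singleton.mp hz
  have h4 : (1 - b * m) • t = x₀ := by
    rw [sub_smul, one_smul, mul_smul]
    exact sub_eq_of_eq_add hsum.symm
  have hu : IsUnit (1 - b * m) := by
    have hbm : b * m ∈ maximalIdeal A := Ideal.mul_mem_left _ _ hm
    by_contra hnu
    have h5 : 1 - b * m ∈ maximalIdeal A := (mem_maximalIdeal _).mpr hnu
    have h6 : (1 : A) ∈ maximalIdeal A := by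
      have := Ideal.add_mem _ h5 hbm
      rwa [sub_add_cancel] at this
    exact (Ideal.ne_top_iff_one _).mp (maximalIdeal.isMaximal A).ne_top h6
  obtain ⟨v, hv⟩ := hu
  have h7 : t = (↑v⁻¹ : A) • x₀ := by
    rw [← h4, ← hv, smul_smul, Units.inv_mul, one_smul]
  apply hmt
  rw [h7]
  exact x.smul_mem _ (x.smul_mem _ hx₀)

variable (R) in
/-- covers of `A`-submodules stay covers as `R`-submodules when `R → A/𝔪` is onto. -/
lemma restrictScalars_covBy (hres : ∀ a : A, ∃ r : R, a - algebraMap R A r ∈ maximalIdeal A)
    {x y : Submodule A M} (h : x ⋖ y) : x.restrictScalars R ⋖ y.restrictScalars R := by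
  refine ⟨?_, ?_⟩
  · rw [lt_iff_le_and_ne]
    exact ⟨fun z hz => h.le hz, fun he => h.lt.ne (Submodule.restrictScalars_injective R A M he)⟩
  · intro T hxT hTy
    -- `T` is an `A`-submodule
    let T' : Submodule A M :=
      { carrier := T
        add_mem' := T.add_mem
        zero_mem' := T.zero_mem
        smul_mem' := by
          intro a t ht
          obtain ⟨r, hr⟩ := hres a
          have hty : t ∈ y := hTy.le ht
          have h1 : (a - algebraMap R A r) • t ∈ x := smul_mem_of_covBy h hr hty
          have h2 : a • t = (a - algebraMap R A r) • t + r • t := by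
            rw [sub_smul, algebraMap_smul]
            abel
          show a • t ∈ T
          rw [h2]
          exact T.add_mem (hxT.le h1) (T.smul_mem r ht) }
    have hT' : T'.restrictScalars R = T := rfl
    have h1 : x < T' := by
      rw [lt_iff_le_and_ne]
      refine ⟨fun z hz => hxT.le hz, fun he => ?_⟩
      apply hxT.ne
      rw [he]
      rfl
    have h2 : T' < y := by
      rw [lt_iff_le_and_ne]
      refine ⟨fun z hz => hTy.le hz, fun he => ?_⟩
      apply hTy.ne
      rw [← he]
      rfl
    exact h.2 h1 h2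

variable (R M) in
/-- lengths over `R` and over a local `R`-algebra `A` with `R → A/𝔪_A` onto agree. -/
theorem length_eq_of_residue_surjective
    (hres : ∀ a : A, ∃ r : R, a - algebraMap R A r ∈ maximalIdeal A) :
    Module.length R M = Module.length A M := by
  apply le_antisymm
  · by_cases h : Module.length A M = ⊤
    · rw [h]; exact le_top
    · rw [← ne_eq, Module.length_ne_top_iff, isFiniteLength_iff_exists_compositionSeries] at h
      obtain ⟨s, hs1, hs2⟩ := h
      let s' : CompositionSeries (Submodule R M) :=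
        { length := s.length
          toFun := fun i => (s i).restrictScalars R
          step := fun i => restrictScalars_covBy R hres (s.step i) }
      have h1 : s'.head = ⊥ := by
        show (s.head).restrictScalars R = ⊥
        rw [hs1]; rfl
      have h2 : s'.last = ⊤ := by
        show (s.last).restrictScalars R = ⊤
        rw [hs2]; rfl
      have h3 := Module.length_compositionSeries s' h1 h2
      have h4 := Module.length_compositionSeries s hs1 hs2
      rw [← h3, ← h4]
  · apply WithBot.coe_le_coe.mp
    rw [Module.coe_length, Module.coe_length]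
    apply Order.krullDim_le_of_strictMono (f := Submodule.restrictScalars R)
    intro x y hxy
    rw [lt_iff_le_and_ne] at hxy ⊢
    exact ⟨fun z hz => hxy.1 hz, fun he => hxy.2 (Submodule.restrictScalars_injective R A M he)⟩

end Compare

section Free

open TensorProduct

variable (R : Type*) [CommRing R] [Nontrivial R] (A : Type*) [CommRing A] [Algebra R A]
  [Module.Free R A] [Module.Finite R A]

/-- `A / 𝔞A ≃ (R/𝔞)^m` for `A` finite free of rank `m`. -/
theorem length_quotient_map (𝔞 : Ideal R) :
    Module.length R (A ⧸ 𝔞.map (algebraMap R A)) =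
      (Module.finrank R A : ℕ∞) * Module.length R (R ⧸ 𝔞) := by
  have e0 : (A ⧸ (𝔞.map (algebraMap R A)).restrictScalars R) ≃ₗ[R] A ⧸ 𝔞.map (algebraMap R A) :=
    Submodule.Quotient.restrictScalarsEquiv R (𝔞.map (algebraMap R A))
  have e1 : (A ⧸ (𝔞 • ⊤ : Submodule R A)) ≃ₗ[R] (A ⧸ (𝔞.map (algebraMap R A)).restrictScalars R) :=
    Submodule.quotEquivOfEq _ _ (Ideal.smul_top_eq_map 𝔞)
  have e2 : ((R ⧸ 𝔞) ⊗[R] A) ≃ₗ[R] A ⧸ (𝔞 • ⊤ : Submodule R A) :=
    TensorProduct.quotTensorEquivQuotSMul A 𝔞
  let b := Module.finBasis R A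
  have e3 : ((R ⧸ 𝔞) ⊗[R] A) ≃ₗ[R] ((R ⧸ 𝔞) ⊗[R] (Fin (Module.finrank R A) → R)) :=
    TensorProduct.congr (LinearEquiv.refl R _) b.equivFun
  have e4 : ((R ⧸ 𝔞) ⊗[R] (Fin (Module.finrank R A) → R)) ≃ₗ[R]
      (Fin (Module.finrank R A) → R ⧸ 𝔞) :=
    TensorProduct.piScalarRight R R (R ⧸ 𝔞) (Fin (Module.finrank R A))
  rw [← e0.length_eq, ← e1.length_eq, ← e2.length_eq, e3.length_eq, e4.length_eq,
    Module.length_pi]
  simp

end Free

end Groth.Agent.Lib.LenCompareH3
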