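import Mathlib
import Groth.Agent.Lib.ASFamily_helper3
import Groth.Agent.Lib.LenCompare_helper3

/-!
# The fixed-point ideal of the Artin–Schreier family
-/

set_option autoImplicit false
set_option backward.isDefEq.respectTransparency false
universe u

namespace Groth.Agent.Lib.ASFamilyFixH3

open MvPolynomial IsLocalRing Groth.Agent.Lib.ASFamilyH3

section

variable {p : ℕ} (k : Type u) [Field k] (n : ℕ) {a : Fin n → MvPowerSeries (Fin n) k}

local notation "𝓡" => MvPowerSeries (Fin n) k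
local notation "𝓟" => MvPolynomial (Fin n) (MvPowerSeries (Fin n) k)
local notation "𝓐" => (MvPolynomial (Fin n) (MvPowerSeries (Fin n) k) ⧸ I p k n a)

variable (p a) in
/-- the ideal `(a_1, …, a_n) A` -/
noncomputable def bb := Ideal.map (algebraMap 𝓡 𝓐) (Ideal.span (Set.range a))

lemma algebraMap_a_mem (i : Fin n) : algebraMap 𝓡 𝓐 (a i) ∈ bb p k n a :=
  Ideal.mem_map_of_mem _ (Ideal.subset_span ⟨i, rfl⟩)

lemma sub_mem_bb (σ : 𝓐 ≃ₐ[𝓡] 𝓐)
    (hσ : ∀ i, σ (uu p k n a i) = uu p k n a i + algebraMap 𝓡 𝓐 (a i)) (t : 𝓐) :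
    σ t - t ∈ bb p k n a := by
  obtain ⟨f, rfl⟩ := Ideal.Quotient.mk_surjective t
  induction f using MvPolynomial.induction_on with
  | C r =>
    have : (Ideal.Quotient.mk (I p k n a)) (C r) = algebraMap 𝓡 𝓐 r := rfl
    rw [this, AlgEquiv.commutes, sub_self]
    exact Ideal.zero_mem _
  | add f g hf hg =>
    rw [map_add, map_add, add_sub_add_comm]
    exact Ideal.add_mem _ hf hg
  | mul_X f i hf =>
    rw [map_mul, map_mul]
    have hX : (Ideal.Quotient.mk (I p k n a)) (X i) = uu p k n a i := rfl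
    rw [hX, hσ]
    have : σ ((Ideal.Quotient.mk (I p k n a)) f) * (uu p k n a i + algebraMap 𝓡 𝓐 (a i))
        - (Ideal.Quotient.mk (I p k n a)) f * uu p k n a i
        = uu p k n a i *
            (σ ((Ideal.Quotient.mk (I p k n a)) f) - (Ideal.Quotient.mk (I p k n a)) f)
          + σ ((Ideal.Quotient.mk (I p k n a)) f) * algebraMap 𝓡 𝓐 (a i) := by ring
    rw [this]
    exact Ideal.add_mem _ (Ideal.mul_mem_left _ _ hf)
      (Ideal.mul_mem_left _ _ (algebraMap_a_mem k n i))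

lemma span_eq_bb (σ : 𝓐 ≃ₐ[𝓡] 𝓐)
    (hσ : ∀ i, σ (uu p k n a i) = uu p k n a i + algebraMap 𝓡 𝓐 (a i)) :
    Ideal.span (Set.range fun t : 𝓐 => σ t - t) = bb p k n a := by
  apply le_antisymm
  · rw [Ideal.span_le]
    rintro _ ⟨t, rfl⟩
    exact sub_mem_bb k n σ hσ t
  · rw [bb, Ideal.map_span, Ideal.span_le]
    rintro _ ⟨_, ⟨i, rfl⟩, rfl⟩
    apply Ideal.subset_span
    refine ⟨uu p k n a i, ?_⟩
    simp only
    rw [hσ, add_sub_cancel_left]

lemma bb_le (hp : 2 ≤ p) (ham : ∀ i, MvPowerSeries.constantCoeff (a i) = 0) :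
    bb p k n a ≤ (Ideal.span (Set.range (uu p k n a))) ^ p := by
  haveI := isLocalRing k n hp ham
  haveI := finite k n hp (a := a)
  haveI : IsNoetherianRing 𝓐 := IsNoetherianRing.of_finite 𝓡 𝓐
  have hmax : maximalIdeal 𝓐 = m₀ p k n a :=
    (IsLocalRing.eq_maximalIdeal (m₀_isMaximal k n hp)).symm
  rw [← m₀_eq]
  -- Nakayama
  have key : bb p k n a ≤ (m₀ p k n a) ^ p ⊔ (m₀ p k n a) • (bb p k n a) := by
    have hX : ∀ j : Fin n, algebraMap 𝓡 𝓐 (MvPowerSeries.X j) ∈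
        (m₀ p k n a) ^ p ⊔ (m₀ p k n a) • (bb p k n a) := by
      intro j
      have h := rel p k n a j
      have h2 : algebraMap 𝓡 𝓐 (MvPowerSeries.X j) =
          uu p k n a j ^ p - uu p k n a j * algebraMap 𝓡 𝓐 (a j ^ (p - 1)) := by
        rw [h]; ring
      rw [h2]
      refine Ideal.sub_mem _ (Ideal.mem_sup_left (Ideal.pow_mem_pow (uu_mem p k n a j) p))
        (Ideal.mem_sup_right ?_)
      rw [smul_eq_mul]
      refine Ideal.mul_mem_mul (uu_mem p k n a j) ?_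
      rw [map_pow]
      exact Ideal.pow_mem_of_mem _ (algebraMap_a_mem k n j) _ (by omega)
    have hmR : (maximalIdeal 𝓡).map (algebraMap 𝓡 𝓐) ≤
        (m₀ p k n a) ^ p ⊔ (m₀ p k n a) • (bb p k n a) := by
      rw [Groth.Agent.Lib.RegPSH3.maximalIdeal_eq, IsLocalRing.maximalIdeal_eq_bot, Ideal.map_bot,
        bot_sup_eq, Ideal.map_span, Ideal.span_le]
      rintro _ ⟨_, ⟨j, rfl⟩, rfl⟩
      exact hX j
    change Ideal.map (algebraMap 𝓡 𝓐) (Ideal.span (Set.range a)) ≤ _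
    rw [Ideal.map_le_iff_le_comap, Ideal.span_le]
    rintro _ ⟨i, rfl⟩
    exact hmR (Ideal.mem_map_of_mem _ (a_mem_max k n ham i))
  refine Submodule.le_of_le_smul_of_le_jacobson_bot (R := 𝓐) (M := 𝓐) (I := m₀ p k n a)
    (N := (m₀ p k n a) ^ p) (N' := bb p k n a) (IsNoetherian.noetherian _) ?_ key
  rw [← hmax]
  exact IsLocalRing.maximalIdeal_le_jacobson (R := 𝓐) ⊥

theorem main (hp : 2 ≤ p) (ham : ∀ i, MvPowerSeries.constantCoeff (a i) = 0)
    (σ : 𝓐 ≃ₐ[𝓡] 𝓐)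
    (hσ : ∀ i, σ (uu p k n a i) = uu p k n a i + algebraMap 𝓡 𝓐 (a i)) :
    Ideal.span (Set.range fun t : 𝓐 => σ t - t) ≤ Ideal.span (Set.range (uu p k n a)) ^ p ∧
      Module.length 𝓐 (𝓐 ⧸ Ideal.span (Set.range fun t : 𝓐 => σ t - t)) =
        (p ^ n : ℕ∞) * Module.length 𝓡 (𝓡 ⧸ Ideal.span (Set.range a)) := by
  rw [span_eq_bb k n σ hσ]
  refine ⟨bb_le k n hp ham, ?_⟩
  haveI := isLocalRing k n hp ham
  haveI := finite k n hp (a := a)
  haveI := (free_and_finrank k n a hp).1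
  have hmax : maximalIdeal 𝓐 = m₀ p k n a :=
    (IsLocalRing.eq_maximalIdeal (m₀_isMaximal k n hp)).symm
  have hres : ∀ z : 𝓐, ∃ r : 𝓡, z - algebraMap 𝓡 𝓐 r ∈ maximalIdeal 𝓐 := by
    intro z
    obtain ⟨c, hc⟩ := exists_sub_mem k n hp z
    exact ⟨MvPowerSeries.C c, hmax ▸ hc⟩
  have h1 : Module.length 𝓡 (𝓐 ⧸ bb p k n a) = Module.length 𝓐 (𝓐 ⧸ bb p k n a) :=
    Groth.Agent.Lib.LenCompareH3.length_eq_of_residue_surjective (A := 𝓐) 𝓡 (𝓐 ⧸ bb p k n a) hres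
  have h2 : Module.length 𝓡 (𝓐 ⧸ bb p k n a) =
      (Module.finrank 𝓡 𝓐 : ℕ∞) * Module.length 𝓡 (𝓡 ⧸ Ideal.span (Set.range a)) :=
    Groth.Agent.Lib.LenCompareH3.length_quotient_map 𝓡 𝓐 (Ideal.span (Set.range a))
  rw [← h1, h2, (free_and_finrank k n a hp).2]
  push_cast
  rfl

end

end Groth.Agent.Lib.ASFamilyFixH3
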