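import Mathlib

/-!
# Invariants of an Artin–Schreier type translation in `B[u]`

Let `A` be a domain of characteristic `p`, `σ` an automorphism fixing a subalgebra `B` pointwise
with `σ u = u + y`, `σ y = y`, `y ≠ 0`, and `u ^ p = β u + γ` with `β, γ ∈ B`.  Then a `σ`-fixed
element of `B[u]` lies in `B`.
-/

set_option autoImplicit false

namespace Groth.Agent.Lib.FixedAdjoinH3

open Polynomial

section

variable {R A : Type*} [CommRing R] [CommRing A] [Algebra R A]

theorem pow_apply_add (σ : A ≃ₐ[R] A) (u y : A) (hσu : σ u = u + y) (hσy : σ y = y) (m : ℕ) :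
    (σ ^ m) u = u + m • y := by
  induction m with
  | zero => simp
  | succ m ih =>
    rw [pow_succ', AlgEquiv.mul_apply, ih, map_add, map_nsmul, hσu, hσy, succ_nsmul]
    ring

theorem pow_apply_fixed (σ : A ≃ₐ[R] A) (w : A) (hσw : σ w = w) (m : ℕ) : (σ ^ m) w = w := by
  induction m with
  | zero => simp
  | succ m ih => rw [pow_succ', AlgEquiv.mul_apply, ih, hσw]

theorem mem_of_fixed_of_mem_adjoin [IsDomain A] (p : ℕ) [hp : Fact p.Prime] [CharP A p]
    (σ : A ≃ₐ[R] A) (B : Subalgebra R A) (hB : ∀ b ∈ B, σ b = b) (u y : A) (hy : y ≠ 0)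
    (hσu : σ u = u + y) (hσy : σ y = y) (β' γ' : A) (hβ' : β' ∈ B) (hγ' : γ' ∈ B)
    (hu' : u ^ p = β' * u + γ')
    (w : A) (hw : w ∈ Algebra.adjoin B {u}) (hσw : σ w = w) : w ∈ B := by
  have hp2 : 2 ≤ p := hp.out.two_le
  let β : B := ⟨β', hβ'⟩
  let γ : B := ⟨γ', hγ'⟩
  have hu : u ^ p = algebraMap B A β * u + algebraMap B A γ := hu'
  rw [Algebra.adjoin_singleton_eq_range_aeval] at hw
  obtain ⟨P, hP⟩ := hw
  replace hP : aeval u P = w := hP
  -- the monic relation
  let F : Polynomial B := X ^ p - (C β * X + C γ)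
  have hFm : F.Monic := by
    apply Polynomial.monic_X_pow_sub
    refine lt_of_le_of_lt Polynomial.degree_linear_le ?_
    exact_mod_cast hp2
  have hFdeg : F.natDegree = p := by
    show (X ^ p - (C β * X + C γ) : Polynomial B).natDegree = p
    rw [Polynomial.natDegree_sub_eq_left_of_natDegree_lt, Polynomial.natDegree_X_pow]
    rw [Polynomial.natDegree_X_pow]
    exact lt_of_le_of_lt Polynomial.natDegree_linear_le (by omega)
  have hF1 : F ≠ 1 := by
    intro h
    rw [h, natDegree_one] at hFdeg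
    omega
  have hFu : aeval u F = 0 := by
    show aeval u (X ^ p - (C β * X + C γ) : Polynomial B) = 0
    rw [map_sub, map_add, map_mul, map_pow, aeval_X, aeval_C, aeval_C, hu, sub_self]
  let P' := P %ₘ F
  have hP' : aeval u P' = w := by
    have h := Polynomial.modByMonic_add_div P F
    have h2 : aeval u P = aeval u P' := by
      conv_lhs => rw [← h]
      rw [map_add, map_mul, hFu, zero_mul, add_zero]
    rw [← h2, hP]
  have hdeg : P'.natDegree < p := by
    have := Polynomial.natDegree_modByMonic_lt P hFm hF1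
    rwa [hFdeg] at this
  -- the polynomial `Q`
  let Q : Polynomial A := P'.map (algebraMap B A) - C w
  have hQdeg : Q.natDegree < p := by
    refine lt_of_le_of_lt (Polynomial.natDegree_sub_le _ _) ?_
    rw [natDegree_C, max_eq_left (Nat.zero_le _)]
    exact lt_of_le_of_lt (Polynomial.natDegree_map_le) hdeg
  let f : Fin p → A := fun m => u + (m : ℕ) • y
  have hf : Function.Injective f := by
    intro m m' h
    have h1 : ((m : ℕ) : A) * y = ((m' : ℕ) : A) * y := by
      have := add_left_cancel h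
      rwa [nsmul_eq_mul, nsmul_eq_mul] at this
    have h2 : ((m : ℕ) : A) = ((m' : ℕ) : A) := mul_right_cancel₀ hy h1
    have h3 := (CharP.natCast_eq_natCast A p).mp h2
    exact Fin.ext (Nat.ModEq.eq_of_lt_of_lt h3 m.2 m'.2)
  have heval : ∀ m, Q.eval (f m) = 0 := by
    intro m
    show (P'.map (algebraMap B A) - C w).eval (f m) = 0
    rw [eval_sub, eval_C, Polynomial.eval_map_algebraMap, sub_eq_zero]
    let τ : A →ₐ[B] A :=
      { ((σ ^ (m : ℕ) : A ≃ₐ[R] A) : A →+* A) with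
        commutes' := fun b => by
          show (σ ^ (m : ℕ)) (b : A) = (b : A)
          exact pow_apply_fixed σ _ (hB b b.2) _ }
    have h1 : τ u = f m := pow_apply_add σ u y hσu hσy m
    have h2 : τ w = w := pow_apply_fixed σ w hσw m
    rw [← h1, Polynomial.aeval_algHom_apply, hP', h2]
  have hcard : Q.natDegree < Fintype.card (Fin p) := by rwa [Fintype.card_fin]
  have hQ0 : Q = 0 := Polynomial.eq_zero_of_natDegree_lt_card_of_eval_eq_zero Q hf heval hcard
  have h0 : (P'.map (algebraMap B A)).coeff 0 = (C w : Polynomial A).coeff 0 := by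
    rw [sub_eq_zero.mp hQ0]
  rw [Polynomial.coeff_map, coeff_C_zero] at h0
  rw [← h0]
  exact (P'.coeff 0).2

theorem exists_pow_mul_mem (W : Subalgebra R A) (y : A) (hy : y ∈ W) (S : Set A)
    (hS : Algebra.adjoin R S = ⊤) (hyS : ∀ s ∈ S, y * s ∈ W) (t : A) :
    ∃ N : ℕ, y ^ N * t ∈ W := by
  have ht : t ∈ Algebra.adjoin R S := by rw [hS]; exact Algebra.mem_top
  refine Algebra.adjoin_induction (p := fun t _ => ∃ N : ℕ, y ^ N * t ∈ W) ?_ ?_ ?_ ?_ ht
  · intro s hs
    exact ⟨1, by rw [pow_one]; exact hyS s hs⟩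
  · intro r
    exact ⟨0, by rw [pow_zero, one_mul]; exact W.algebraMap_mem r⟩
  · rintro t₁ t₂ _ _ ⟨N₁, h₁⟩ ⟨N₂, h₂⟩
    refine ⟨N₁ + N₂, ?_⟩
    have : y ^ (N₁ + N₂) * (t₁ + t₂) = y ^ N₂ * (y ^ N₁ * t₁) + y ^ N₁ * (y ^ N₂ * t₂) := by
      rw [pow_add]; ring
    rw [this]
    exact add_mem (mul_mem (pow_mem hy _) h₁) (mul_mem (pow_mem hy _) h₂)
  · rintro t₁ t₂ _ _ ⟨N₁, h₁⟩ ⟨N₂, h₂⟩
    refine ⟨N₁ + N₂, ?_⟩
    have : y ^ (N₁ + N₂) * (t₁ * t₂) = (y ^ N₁ * t₁) * (y ^ N₂ * t₂) := by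
      rw [pow_add]; ring
    rw [this]
    exact mul_mem h₁ h₂

/-- Combined form: if `A` is generated over `R` by `S`, `y s ∈ R[Z, u]` for all `s ∈ S`, `σ` fixes
`Z` pointwise and translates `u` by `y ∈ R`, then for every `σ`-fixed `t` some `y ^ N t` lies in
`R[Z]`. -/
theorem main [IsDomain A] (p : ℕ) [hp : Fact p.Prime] [CharP A p]
    (σ : A ≃ₐ[R] A) (Z : Set A) (hZ : ∀ z ∈ Z, σ z = z) (u : A) (y : R)
    (hy : algebraMap R A y ≠ 0) (hσu : σ u = u + algebraMap R A y) (β γ : R)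
    (hu : u ^ p = algebraMap R A β * u + algebraMap R A γ) (S : Set A)
    (hS : Algebra.adjoin R S = ⊤)
    (hyS : ∀ s ∈ S, algebraMap R A y * s ∈ Algebra.adjoin R (Z ∪ {u})) (t : A) (ht : σ t = t) :
    ∃ N : ℕ, algebraMap R A y ^ N * t ∈ Algebra.adjoin R Z := by
  let B : Subalgebra R A := Algebra.adjoin R Z
  have hB : ∀ b ∈ B, σ b = b := by
    intro b hb
    refine Algebra.adjoin_induction (p := fun b _ => σ b = b) ?_ ?_ ?_ ?_ hb
    · intro z hz
      exact hZ z hz
    · intro r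
      exact σ.commutes r
    · intro x y _ _ hx hy
      rw [map_add, hx, hy]
    · intro x y _ _ hx hy
      rw [map_mul, hx, hy]
  have hσy : σ (algebraMap R A y) = algebraMap R A y := σ.commutes _
  have hW : Algebra.adjoin R (Z ∪ {u}) = (Algebra.adjoin B {u}).restrictScalars R :=
    Algebra.adjoin_union_eq_adjoin_adjoin R Z {u}
  obtain ⟨N, hN⟩ := exists_pow_mul_mem (Algebra.adjoin R (Z ∪ {u})) (algebraMap R A y)
    (Subalgebra.algebraMap_mem _ _) S hS hyS t
  refine ⟨N, ?_⟩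
  have hσw : σ (algebraMap R A y ^ N * t) = algebraMap R A y ^ N * t := by
    rw [map_mul, map_pow, hσy, ht]
  rw [hW] at hN
  exact mem_of_fixed_of_mem_adjoin p σ B hB u (algebraMap R A y) hy hσu hσy _ _
    (B.algebraMap_mem β) (B.algebraMap_mem γ) hu _ hN hσw

end

end Groth.Agent.Lib.FixedAdjoinH3
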