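import Mathlib
import Groth.Agent.Lib.ASFamilyAut_helper3
import Groth.Agent.Lib.FixedAdjoin_helper3

/-!
# Minor elements in the Artin–Schreier family with multiplier `μ`
-/

set_option autoImplicit false
set_option backward.isDefEq.respectTransparency false
universe u

namespace Groth.Agent.Lib.ASFamilyMinorH3

open MvPolynomial IsLocalRing Groth.Agent.Lib.ASFamilyH3 Groth.Agent.Lib.ASFamilyAutH3

section

variable (p : ℕ) [hpf : Fact p.Prime] (k : Type u) [Field k] [CharP k p] (n : ℕ)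
  (a : Fin n → MvPowerSeries (Fin n) k) (μ : MvPowerSeries (Fin n) k)

local notation "𝓡" => MvPowerSeries (Fin n) k
local notation "𝓟" => MvPolynomial (Fin n) (MvPowerSeries (Fin n) k)
local notation "𝓐" => (MvPolynomial (Fin n) (MvPowerSeries (Fin n) k) ⧸ I p k n (fun i => μ * a i))
local notation "uu'" => uu p k n (fun i => μ * a i)

/-- the minor elements through `i₀` -/
noncomputable def zz (i₀ : Fin n) (j : {j : Fin n // j ≠ i₀}) : 𝓐 :=
  algebraMap 𝓡 𝓐 (a i₀) * uu' j.1 - algebraMap 𝓡 𝓐 (a j.1) * uu' i₀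

lemma ham' (ham : ∀ i, MvPowerSeries.constantCoeff (a i) = 0) :
    ∀ i, MvPowerSeries.constantCoeff ((fun i => μ * a i) i) = 0 := by
  intro i
  show MvPowerSeries.constantCoeff (μ * a i) = 0
  rw [map_mul, ham i, mul_zero]

lemma adjoin_uu : Algebra.adjoin 𝓡 (Set.range (uu')) = (⊤ : Subalgebra 𝓡 𝓐) := by
  have h1 : Set.range (uu') =
      (Ideal.Quotient.mkₐ 𝓡 (I p k n (fun i => μ * a i))) '' (Set.range (X : Fin n → 𝓟)) := by
    rw [← Set.range_comp]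
    rfl
  rw [h1, ← AlgHom.map_adjoin, MvPolynomial.adjoin_range_X, Algebra.map_top,
    AlgHom.range_eq_top]
  exact Ideal.Quotient.mkₐ_surjective _ _

variable {a μ} in
theorem minor_main (ham : ∀ i, MvPowerSeries.constantCoeff (a i) = 0) (i₀ : Fin n)
    (hπ : μ * a i₀ ≠ 0) (σ : 𝓐 ≃ₐ[𝓡] 𝓐)
    (hσ : ∀ i, σ (uu' i) = uu' i + algebraMap 𝓡 𝓐 (μ * a i)) (t : 𝓐) (ht : σ t = t) :
    ∃ N : ℕ, algebraMap 𝓡 𝓐 (μ * a i₀) ^ N * t ∈
      Algebra.adjoin 𝓡 (Set.range (zz p k n a μ i₀)) := by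
  have hp2 := two_le p
  haveI hdom : IsDomain 𝓐 := ASFamilyH3.isDomain k n hp2 (ham' k n a μ ham)
  haveI := charP_A p k n (fun i => μ * a i)
  have hZ : ∀ z ∈ Set.range (zz p k n a μ i₀), σ z = z := by
    rintro _ ⟨j, rfl⟩
    show σ (algebraMap 𝓡 𝓐 (a i₀) * uu' j.1 - algebraMap 𝓡 𝓐 (a j.1) * uu' i₀) =
      algebraMap 𝓡 𝓐 (a i₀) * uu' j.1 - algebraMap 𝓡 𝓐 (a j.1) * uu' i₀
    rw [map_sub, map_mul, map_mul, AlgEquiv.commutes, AlgEquiv.commutes, hσ, hσ, map_mul,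
      map_mul]
    ring
  have hy : algebraMap 𝓡 𝓐 (μ * a i₀) ≠ 0 := by
    intro h
    apply hπ
    apply algebraMap_injective p k n (fun i => μ * a i)
    rw [map_zero]
    exact h
  have hu : uu' i₀ ^ p = algebraMap 𝓡 𝓐 ((μ * a i₀) ^ (p - 1)) * uu' i₀ +
      algebraMap 𝓡 𝓐 (MvPowerSeries.X i₀) := rel p k n (fun i => μ * a i) i₀
  let W : Subalgebra 𝓡 𝓐 := Algebra.adjoin 𝓡 (Set.range (zz p k n a μ i₀) ∪ {uu' i₀})
  have huW : uu' i₀ ∈ W := Algebra.subset_adjoin (Set.mem_union_right _ (Set.mem_singleton _))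
  have hyS : ∀ s ∈ Set.range (uu'), algebraMap 𝓡 𝓐 (μ * a i₀) * s ∈ W := by
    rintro _ ⟨j, rfl⟩
    by_cases hj : j = i₀
    · rw [hj]
      exact mul_mem (W.algebraMap_mem _) huW
    · have hz : zz p k n a μ i₀ ⟨j, hj⟩ ∈ W :=
        Algebra.subset_adjoin (Set.mem_union_left _ ⟨⟨j, hj⟩, rfl⟩)
      have : algebraMap 𝓡 𝓐 (μ * a i₀) * uu' j =
          algebraMap 𝓡 𝓐 μ * zz p k n a μ i₀ ⟨j, hj⟩ +
          algebraMap 𝓡 𝓐 (μ * a j) * uu' i₀ := by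
        show algebraMap 𝓡 𝓐 (μ * a i₀) * uu' j = algebraMap 𝓡 𝓐 μ *
          (algebraMap 𝓡 𝓐 (a i₀) * uu' j - algebraMap 𝓡 𝓐 (a j) * uu' i₀) +
          algebraMap 𝓡 𝓐 (μ * a j) * uu' i₀
        rw [map_mul, map_mul]
        ring
      rw [this]
      exact add_mem (mul_mem (W.algebraMap_mem _) hz) (mul_mem (W.algebraMap_mem _) huW)
  exact Groth.Agent.Lib.FixedAdjoinH3.main (A := 𝓐) p σ (Set.range (zz p k n a μ i₀)) hZ
    (uu' i₀) (μ * a i₀) hy (hσ i₀) _ _ hu (Set.range (uu')) (adjoin_uu p k n a μ) hyS t ht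

end

end Groth.Agent.Lib.ASFamilyMinorH3
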