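import Mathlib

/-!
# Integrally closed localisations of invariant-like subrings

If `B ↪ A` with `A` a normal domain, `σ` an endomorphism of `A` fixing `B`, and every `σ`-fixed
element of `A` lands in `B` after multiplication by a power of `π ∈ B`, then `B[1/π]` is
integrally closed.
-/

set_option autoImplicit false

namespace Groth.Agent.Lib.AwayIntClosedH3

open scoped nonZeroDivisors

set_option backward.isDefEq.respectTransparency.types false in
theorem isIntegrallyClosed_away {B A : Type*} [CommRing B] [CommRing A] [IsDomain B] [IsDomain A]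
    [IsIntegrallyClosed A] (φ : B →+* A) (hφ : Function.Injective φ) (σ : A →+* A)
    (hσ : ∀ b, σ (φ b) = φ b) (π : B) (hπ : π ≠ 0)
    (h : ∀ t : A, σ t = t → ∃ (N : ℕ) (b : B), φ π ^ N * t = φ b) :
    IsIntegrallyClosed (Localization.Away π) := by
  let M : Submonoid B := Submonoid.powers π
  have hM : M ≤ B⁰ := powers_le_nonZeroDivisors_of_noZeroDivisors hπ
  let S := Localization.Away π
  let K := FractionRing B
  let L := FractionRing A
  let g : S →+* K := IsLocalization.map _ (T := B⁰) (RingHom.id B) hM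
  let := g.toAlgebra
  have : IsScalarTower B S K := IsScalarTower.of_algebraMap_eq'
    (by rw [RingHom.algebraMap_toAlgebra, IsLocalization.map_comp, RingHomCompTriple.comp_eq])
  have := IsFractionRing.isFractionRing_of_isDomain_of_isLocalization M S K
  let g' : B →+* L := (algebraMap A L).comp φ
  have hg' : Function.Injective g' := (IsFractionRing.injective A L).comp hφ
  let ι : K →+* L := IsFractionRing.lift hg'
  have hι : ∀ b, ι (algebraMap B K b) = algebraMap A L (φ b) :=
    fun b => IsFractionRing.lift_algebraMap hg' b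
  refine (isIntegrallyClosed_iff_isIntegralClosure (K := K)).mpr
    ⟨IsFractionRing.injective _ _, fun {x} ↦ ⟨?_, fun e ↦ e.choose_spec ▸ isIntegral_algebraMap⟩⟩
  intro hx
  obtain ⟨⟨y, y_mem⟩, hy⟩ := hx.exists_multiple_integral_of_isLocalization M _
  have hy' : IsIntegral B (algebraMap B K y * x) := by
    rwa [Submonoid.mk_smul, Algebra.smul_def] at hy
  have h1 : IsIntegral A (ι (algebraMap B K y * x)) := by
    obtain ⟨P, hPm, hP⟩ := hy'
    refine ⟨P.map φ, hPm.map φ, ?_⟩
    rw [Polynomial.eval₂_map]
    have : (algebraMap A L).comp φ = ι.comp (algebraMap B K) :=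
      RingHom.ext (fun b => (hι b).symm)
    rw [this, ← Polynomial.hom_eval₂, hP, map_zero]
  obtain ⟨t, ht⟩ := IsIntegrallyClosed.algebraMap_eq_of_integral h1
  obtain ⟨b1, b2, hb2, hb⟩ := IsFractionRing.div_surjective (A := B) (algebraMap B K y * x)
  have hb2' : b2 ≠ 0 := nonZeroDivisors.ne_zero hb2
  have h2 : t * φ b2 = φ b1 := by
    apply IsFractionRing.injective A L
    rw [map_mul, ht, ← hι, ← hι, ← map_mul, ← hb, div_mul_cancel₀]
    exact (map_ne_zero_iff _ (IsFractionRing.injective B K)).mpr hb2'
  have hσt : σ t = t := by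
    have h3 : σ t * φ b2 = t * φ b2 := by
      rw [h2, ← hσ b1, ← h2, map_mul, hσ]
    exact mul_right_cancel₀ ((map_ne_zero_iff φ hφ).mpr hb2') h3
  obtain ⟨N, b, hNb⟩ := h t hσt
  have h4 : algebraMap B K (π ^ N * y) * x = algebraMap B K b := by
    apply ι.injective
    rw [map_mul (algebraMap B K), mul_assoc, map_mul ι, hι, hι, ← ht, ← map_mul, map_pow, hNb]
  refine ⟨IsLocalization.mk' S b
    ⟨π ^ N * y, M.mul_mem (M.pow_mem (Submonoid.mem_powers π) N) y_mem⟩,
    (IsLocalization.lift_mk'_spec _ _ _ _).mpr ?_⟩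
  rw [RingHom.comp_id]
  exact h4.symm

end Groth.Agent.Lib.AwayIntClosedH3
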