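import Mathlib
import Groth.Agent.Lib.MonicSepVars_lead

/-!
# Monic equations in separate variables over a general finite index type

`A[X_i : i ∈ ι] / (F_i(X_i))` is free of rank `∏ deg F_i`, with basis the reduced monomials.
-/

set_option autoImplicit false
universe u v

namespace Groth.Agent.Lib.MonicSepBasisH3

open Polynomial

variable {A : Type u} [CommRing A] {ι : Type v} (F : ι → Polynomial A)

/-- the ideal -/
noncomputable abbrev idl : Ideal (MvPolynomial ι A) :=
  Ideal.span (Set.range fun i =>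
    Polynomial.aeval (MvPolynomial.X i : MvPolynomial ι A) (F i))

/-- the quotient -/
abbrev Q : Type (max u v) := MvPolynomial ι A ⧸ idl F

/-- the class of a variable -/
noncomputable def x (i : ι) : Q F := Ideal.Quotient.mk (idl F) (MvPolynomial.X i)

theorem aeval_x (i : ι) : Polynomial.aeval (x F i) (F i) = 0 := by
  have h : Polynomial.aeval (x F i) (F i) =
      Ideal.Quotient.mk (idl F) (Polynomial.aeval (MvPolynomial.X i) (F i)) :=
    Polynomial.aeval_algHom_apply (Ideal.Quotient.mkₐ A (idl F)) (MvPolynomial.X i) (F i)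
  rw [h]
  exact Ideal.Quotient.eq_zero_iff_mem.mpr (Ideal.subset_span ⟨i, rfl⟩)

/-- transport along a reindexing -/
theorem map_idl {κ : Type*} (e : ι ≃ κ) :
    idl (fun j => F (e.symm j)) =
      (idl F).map ((MvPolynomial.renameEquiv A e : MvPolynomial ι A ≃ₐ[A] MvPolynomial κ A) :
        MvPolynomial ι A →+* MvPolynomial κ A) := by
  rw [idl, idl, Ideal.map_span, ← Set.range_comp]
  congr 1
  ext y
  constructor
  · rintro ⟨j, rfl⟩
    refine ⟨e.symm j, ?_⟩
    show (MvPolynomial.rename e) (Polynomial.aeval (MvPolynomial.X (e.symm j)) (F (e.symm j))) = _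
    rw [← Polynomial.aeval_algHom_apply, MvPolynomial.rename_X, Equiv.apply_symm_apply]
  · rintro ⟨i, rfl⟩
    refine ⟨e i, ?_⟩
    show _ = (MvPolynomial.rename e) (Polynomial.aeval (MvPolynomial.X i) (F i))
    rw [← Polynomial.aeval_algHom_apply, MvPolynomial.rename_X]
    simp only [Equiv.symm_apply_apply]

/-- reindexing equivalence of the quotients -/
noncomputable def reindex {κ : Type*} (e : ι ≃ κ) : Q F ≃ₐ[A] Q (fun j => F (e.symm j)) :=
  Ideal.quotientEquivAlg (idl F) (idl (fun j => F (e.symm j))) (MvPolynomial.renameEquiv A e)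
    (map_idl F e)

theorem free_and_finrank [Nontrivial A] [Fintype ι] (hF : ∀ i, (F i).Monic) :
    Module.Free A (Q F) ∧ Module.finrank A (Q F) = ∏ i, (F i).natDegree := by
  classical
  let e : ι ≃ Fin (Fintype.card ι) := Fintype.equivFin ι
  have h := Groth.Agent.Lib.MonicSepVars.main (fun j => F (e.symm j)) (fun j => hF _)
  haveI : Module.Free A (Q fun j => F (e.symm j)) := h.1
  refine ⟨Module.Free.of_equiv (reindex F e).symm.toLinearEquiv, ?_⟩
  rw [LinearEquiv.finrank_eq (reindex F e).toLinearEquiv]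
  refine h.2.trans ?_
  exact Fintype.prod_equiv e.symm _ _ (fun j => rfl)

/-! ### the monomial basis -/

variable [Fintype ι] [DecidableEq ι]

/-- reduced monomials -/
noncomputable def mon (e : ∀ i, Fin (F i).natDegree) : Q F := ∏ i, x F i ^ (e i : ℕ)

theorem x_pow_eq_sum (hF : ∀ i, (F i).Monic) (h1 : ∀ i, F i ≠ 1) (i : ι) (m : ℕ) :
    x F i ^ m = ∑ e : Fin (F i).natDegree, ((X ^ m %ₘ F i : Polynomial A).coeff e) • x F i ^ (e : ℕ) := by
  have h := Polynomial.modByMonic_add_div (X ^ m : Polynomial A) (F i)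
  have h2 : Polynomial.aeval (x F i) (X ^ m : Polynomial A) =
      Polynomial.aeval (x F i) (X ^ m %ₘ F i) := by
    conv_lhs => rw [← h]
    rw [map_add, map_mul, aeval_x, zero_mul, add_zero]
  rw [map_pow, aeval_X] at h2
  rw [h2, Polynomial.aeval_eq_sum_range' (Polynomial.natDegree_modByMonic_lt _ (hF i) (h1 i)),
    Finset.sum_range]

theorem prod_x_pow_mem (hF : ∀ i, (F i).Monic) (h1 : ∀ i, F i ≠ 1) (m : ι → ℕ) :
    ∏ i, x F i ^ m i ∈ Submodule.span A (Set.range (mon F)) := by
  classical
  have h : ∏ i, x F i ^ m i = ∏ i, ∑ e : Fin (F i).natDegree,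
      ((X ^ m i %ₘ F i : Polynomial A).coeff e) • x F i ^ (e : ℕ) :=
    Finset.prod_congr rfl (fun i _ => x_pow_eq_sum F hF h1 i (m i))
  rw [h, Finset.prod_univ_sum]
  refine Submodule.sum_mem _ (fun e _ => ?_)
  have h3 : ∏ i, ((X ^ m i %ₘ F i : Polynomial A).coeff (e i)) • x F i ^ ((e i : Fin _) : ℕ) =
      (∏ i, (X ^ m i %ₘ F i : Polynomial A).coeff (e i)) • mon F e := by
    rw [mon, Finset.prod_smul]
  rw [h3]
  exact Submodule.smul_mem _ _ (Submodule.subset_span ⟨e, rfl⟩)

theorem span_mon (hF : ∀ i, (F i).Monic) : ⊤ ≤ Submodule.span A (Set.range (mon F)) := by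
  classical
  by_cases h1 : ∀ i, F i ≠ 1
  · intro y hy
    clear hy
    obtain ⟨f, rfl⟩ := Ideal.Quotient.mk_surjective y
    induction f using MvPolynomial.induction_on' with
    | monomial s c =>
      have : (Ideal.Quotient.mk (idl F)) (MvPolynomial.monomial s c) =
          c • ∏ i, x F i ^ s i := by
        rw [MvPolynomial.monomial_eq, Finsupp.prod_fintype _ _ (fun i => pow_zero _), map_mul,
          map_prod]
        simp only [map_pow]
        exact (Algebra.smul_def c (∏ i, x F i ^ s i)).symm
      rw [this]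
      exact Submodule.smul_mem _ _ (prod_x_pow_mem F hF h1 _)
    | add f g hf hg =>
      rw [map_add]
      exact Submodule.add_mem _ hf hg
  · push Not at h1
    obtain ⟨i, hi⟩ := h1
    have : Subsingleton (Q F) := by
      have h0 := aeval_x F i
      rw [hi, map_one] at h0
      exact subsingleton_of_zero_eq_one h0.symm
    intro y _
    rw [Subsingleton.elim y 0]
    exact zero_mem _

theorem card_eq [Nontrivial A] (hF : ∀ i, (F i).Monic) :
    Fintype.card (∀ i, Fin (F i).natDegree) = Module.finrank A (Q F) := by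
  classical
  rw [(free_and_finrank F hF).2, Fintype.card_pi]
  simp

/-- the basis of reduced monomials -/
noncomputable def basis [Nontrivial A] (hF : ∀ i, (F i).Monic) :
    Module.Basis (∀ i, Fin (F i).natDegree) A (Q F) :=
  basisOfTopLeSpanOfCardEqFinrank (mon F) (span_mon F hF) (card_eq F hF)

theorem basis_apply [Nontrivial A] (hF : ∀ i, (F i).Monic) (e : ∀ i, Fin (F i).natDegree) :
    basis F hF e = mon F e := by
  rw [basis, coe_basisOfTopLeSpanOfCardEqFinrank]

end Groth.Agent.Lib.MonicSepBasisH3
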