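import Mathlib

/-!
# Injectivity of algebra maps by a rank count

If `B → A` is a map of finite free algebras over a domain `R`, `u ∈ A` satisfies a monic equation
of degree `p` over `R`, `rank A = p · rank B` and `A[1/y] = φ(B)[u][1/y]`, then `φ` is injective.
-/

set_option autoImplicit false

namespace Groth.Agent.Lib.RankInjH3

open Polynomial

section linear

variable {R M N : Type*} [CommRing R] [IsDomain R] [AddCommGroup M] [Module R M]
  [AddCommGroup N] [Module R N]

theorem injective_of_smul_mem_range [Module.Finite R M] [Module.IsTorsionFree R M]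
    [Module.IsTorsionFree R N] (ψ : M →ₗ[R] N)
    (hrank : Module.finrank R M ≤ Module.finrank R N) (d : R) (hd : d ≠ 0)
    (h : ∀ t : N, d • t ∈ LinearMap.range ψ) : Function.Injective ψ := by
  have hinj : Function.Injective (LinearMap.lsmul R N d) := by
    intro a b hab
    exact smul_right_injective N hd hab
  have hle : LinearMap.range (LinearMap.lsmul R N d) ≤ LinearMap.range ψ := by
    rintro _ ⟨t, rfl⟩
    exact h t
  have h1 : Module.finrank R N ≤ Module.finrank R (LinearMap.range ψ) := by
    rw [← LinearMap.finrank_range_of_inj hinj]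
    exact Submodule.finrank_mono hle
  haveI : Module.Finite R (⊤ : Submodule R M) := Module.Finite.equiv Submodule.topEquiv.symm
  have h2 : Module.finrank R (⊤ : Submodule R M) ≤
      Module.finrank R ((⊤ : Submodule R M).map ψ) := by
    rw [finrank_top, Submodule.map_top]
    exact hrank.trans h1
  have h3 := Submodule.disjoint_ker_of_finrank_le ψ h2
  rw [top_disjoint] at h3
  exact LinearMap.ker_eq_bot.mp h3

end linear

section alg

variable {R A : Type*} [CommRing R] [CommRing A] [Algebra R A]

/-- elements of `B[u]` are `B`-combinations of `1, u, …, u ^ (p-1)` -/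
theorem exists_repr_of_mem_adjoin [Nontrivial A] (p : ℕ) (hp2 : 2 ≤ p) (B : Subalgebra R A) (u : A)
    (β' γ' : A) (hβ' : β' ∈ B) (hγ' : γ' ∈ B) (hu' : u ^ p = β' * u + γ')
    (w : A) (hw : w ∈ Algebra.adjoin B {u}) :
    ∃ c : Fin p → B, w = ∑ e : Fin p, (c e : A) * u ^ (e : ℕ) := by
  let β : B := ⟨β', hβ'⟩
  let γ : B := ⟨γ', hγ'⟩
  have hu : u ^ p = algebraMap B A β * u + algebraMap B A γ := hu'
  rw [Algebra.adjoin_singleton_eq_range_aeval] at hw
  obtain ⟨P, hP⟩ := hw
  replace hP : aeval u P = w := hP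
  let F : Polynomial B := X ^ p - (C β * X + C γ)
  have hFm : F.Monic := by
    apply Polynomial.monic_X_pow_sub
    refine lt_of_le_of_lt Polynomial.degree_linear_le ?_
    exact_mod_cast hp2
  have hFdeg : F.natDegree = p := by
    show (X ^ p - (C β * X + C γ) : Polynomial B).natDegree = p
    rw [Polynomial.natDegree_sub_eq_left_of_natDegree_lt, Polynomial.natDegree_X_pow]
    rw [Polynomial.natDegree_X_pow]
    exact lt_of_le_of_lt Polynomial.natDegree_linear_le (by omega)
  have hF1 : F ≠ 1 := by
    intro h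
    rw [h, natDegree_one] at hFdeg
    omega
  have hFu : aeval u F = 0 := by
    show aeval u (X ^ p - (C β * X + C γ) : Polynomial B) = 0
    rw [map_sub, map_add, map_mul, map_pow, aeval_X, aeval_C, aeval_C, hu, sub_self]
  let P' := P %ₘ F
  have hP' : aeval u P' = w := by
    have h := Polynomial.modByMonic_add_div P F
    have h2 : aeval u P = aeval u P' := by
      conv_lhs => rw [← h]
      rw [map_add, map_mul, hFu, zero_mul, add_zero]
    rw [← h2, hP]
  have hdeg : P'.natDegree < p := by
    have := Polynomial.natDegree_modByMonic_lt P hFm hF1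
    rwa [hFdeg] at this
  refine ⟨fun e => P'.coeff e, ?_⟩
  rw [← hP', Polynomial.aeval_eq_sum_range' hdeg, Finset.sum_range]
  refine Finset.sum_congr rfl (fun e _ => ?_)
  rw [Algebra.smul_def]
  rfl

theorem exists_uniform_pow [Module.Finite R A] (W : Subalgebra R A) (y : R)
    (h : ∀ t : A, ∃ N : ℕ, algebraMap R A y ^ N * t ∈ W) :
    ∃ N : ℕ, ∀ t : A, algebraMap R A y ^ N * t ∈ W := by
  classical
  obtain ⟨s, hs⟩ := (Module.Finite.fg_top : (⊤ : Submodule R A).FG)
  choose Nf hNf using h
  refine ⟨∑ x ∈ s, Nf x, fun t => ?_⟩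
  have ht : t ∈ Submodule.span R (s : Set A) := by rw [hs]; exact Submodule.mem_top
  refine Submodule.span_induction (p := fun t _ => algebraMap R A y ^ (∑ x ∈ s, Nf x) * t ∈ W)
    ?_ ?_ ?_ ?_ ht
  · intro x hx
    have hle : Nf x ≤ ∑ x ∈ s, Nf x := Finset.single_le_sum (fun _ _ => Nat.zero_le _) hx
    obtain ⟨m, hm⟩ := Nat.exists_eq_add_of_le hle
    rw [hm, pow_add, mul_comm (algebraMap R A y ^ Nf x), mul_assoc]
    exact mul_mem (pow_mem (W.algebraMap_mem y) m) (hNf x)
  · rw [mul_zero]; exact zero_mem _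
  · intro a b _ _ ha hb
    rw [mul_add]; exact add_mem ha hb
  · intro r a _ ha
    rw [mul_smul_comm]
    exact W.smul_mem ha r

variable {B : Type*} [CommRing B] [Algebra R B]

theorem injective_algHom [IsDomain R] [Nontrivial A] [Module.Free R B] [Module.Finite R B] [Module.Free R A]
    [Module.Finite R A] (φ : B →ₐ[R] A) (u : A) (p : ℕ) (hp2 : 2 ≤ p)
    (hrank : p * Module.finrank R B ≤ Module.finrank R A) (y : R) (hy : y ≠ 0) (β γ : R)
    (hu : u ^ p = algebraMap R A β * u + algebraMap R A γ)
    (hW : ∀ t : A, ∃ N : ℕ, algebraMap R A y ^ N * t ∈ Algebra.adjoin R (Set.range φ ∪ {u})) :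
    Function.Injective φ := by
  classical
  obtain ⟨N, hN⟩ := exists_uniform_pow _ y hW
  let ψ : (Fin p → B) →ₗ[R] A :=
    ∑ e : Fin p, (LinearMap.mulRight R (u ^ (e : ℕ))).comp
      (φ.toLinearMap.comp (LinearMap.proj e))
  have hψ : ∀ b : Fin p → B, ψ b = ∑ e : Fin p, φ (b e) * u ^ (e : ℕ) := by
    intro b
    simp [ψ]
  have hadj : Algebra.adjoin R (Set.range φ) = φ.range := by
    rw [← AlgHom.coe_range, Algebra.adjoin_eq]
  have hrange : ∀ t : A, (y ^ N) • t ∈ LinearMap.range ψ := by
    intro t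
    have h1 := hN t
    rw [Algebra.adjoin_union_eq_adjoin_adjoin, Subalgebra.mem_restrictScalars, hadj] at h1
    obtain ⟨c, hc⟩ := exists_repr_of_mem_adjoin p hp2 φ.range u _ _
      (φ.range.algebraMap_mem β) (φ.range.algebraMap_mem γ) hu _ h1
    have hc' : ∀ e, ∃ b : B, φ b = (c e : A) := fun e => (c e).2
    choose b hb using hc'
    refine ⟨b, ?_⟩
    rw [hψ, Algebra.smul_def, map_pow, hc]
    exact Finset.sum_congr rfl (fun e _ => by rw [hb])
  have hrk : Module.finrank R (Fin p → B) ≤ Module.finrank R A := by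
    rw [Module.finrank_pi_fintype, Finset.sum_const, Finset.card_univ, Fintype.card_fin,
      smul_eq_mul]
    exact hrank
  have hinj := injective_of_smul_mem_range ψ hrk (y ^ N) (pow_ne_zero _ hy) hrange
  intro b b' hbb
  have h0 : (0 : ℕ) < p := by omega
  have h2 : ψ (Pi.single ⟨0, h0⟩ b) = ψ (Pi.single ⟨0, h0⟩ b') := by
    rw [hψ, hψ]
    refine Finset.sum_congr rfl (fun e _ => ?_)
    by_cases he : e = ⟨0, h0⟩
    · subst he
      rw [Pi.single_eq_same, Pi.single_eq_same, hbb]
    · rw [Pi.single_eq_of_ne he, Pi.single_eq_of_ne he]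
  exact Pi.single_injective _ (hinj h2)

end alg

end Groth.Agent.Lib.RankInjH3
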