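import Mathlib
import Groth.Agent.Lib.ASFamilyMinor_helper3
import Groth.Agent.Lib.MonicSepBasis_helper3
import Groth.Agent.Lib.RankInj_helper3
import Groth.Agent.Lib.AwayIntClosed_helper3

/-!
# The complete intersection ring of the minor elements
-/

set_option autoImplicit false
set_option backward.isDefEq.respectTransparency false
universe u

namespace Groth.Agent.Lib.ASFamilyMinorCIH3

open MvPolynomial IsLocalRing Groth.Agent.Lib.ASFamilyH3 Groth.Agent.Lib.ASFamilyAutH3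
  Groth.Agent.Lib.ASFamilyMinorH3

section

variable (p : ℕ) [hpf : Fact p.Prime] (k : Type u) [Field k] [CharP k p] (n : ℕ)
  (a : Fin n → MvPowerSeries (Fin n) k) (μ : MvPowerSeries (Fin n) k) (i₀ : Fin n)

local notation "𝓡" => MvPowerSeries (Fin n) k
local notation "𝓟" => MvPolynomial (Fin n) (MvPowerSeries (Fin n) k)
local notation "𝓐" => (MvPolynomial (Fin n) (MvPowerSeries (Fin n) k) ⧸ I p k n (fun i => μ * a i))
local notation "uu'" => uu p k n (fun i => μ * a i)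
local notation "𝓙" => {j : Fin n // j ≠ i₀}

/-- the relations -/
noncomputable def rr (j : 𝓙) : MvPolynomial 𝓙 𝓡 :=
  X j ^ p - C ((μ * a i₀ * a j.1) ^ (p - 1)) * X j
    - C (a i₀ ^ p * MvPowerSeries.X j.1 - a j.1 ^ p * MvPowerSeries.X i₀)

/-- the one-variable polynomials -/
noncomputable def Fr (j : 𝓙) : Polynomial 𝓡 :=
  Polynomial.X ^ p - (Polynomial.C ((μ * a i₀ * a j.1) ^ (p - 1)) * Polynomial.X +
    Polynomial.C (a i₀ ^ p * MvPowerSeries.X j.1 - a j.1 ^ p * MvPowerSeries.X i₀))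

lemma Fr_monic (j : 𝓙) : (Fr p k n a μ i₀ j).Monic := by
  apply Polynomial.monic_X_pow_sub
  refine lt_of_le_of_lt Polynomial.degree_linear_le ?_
  exact_mod_cast two_le p

lemma Fr_natDegree (j : 𝓙) : (Fr p k n a μ i₀ j).natDegree = p := by
  rw [Fr, Polynomial.natDegree_sub_eq_left_of_natDegree_lt, Polynomial.natDegree_X_pow]
  rw [Polynomial.natDegree_X_pow]
  exact lt_of_le_of_lt Polynomial.natDegree_linear_le (by have := two_le p; omega)

lemma aeval_Fr (j : 𝓙) : Polynomial.aeval (X j : MvPolynomial 𝓙 𝓡) (Fr p k n a μ i₀ j) =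
    rr p k n a μ i₀ j := by
  simp [Fr, rr, sub_sub, MvPolynomial.algebraMap_eq]

lemma fun_eq : (fun j : 𝓙 => Polynomial.aeval (X j : MvPolynomial 𝓙 𝓡) (Fr p k n a μ i₀ j)) =
    rr p k n a μ i₀ := funext (aeval_Fr p k n a μ i₀)

local notation "𝓑" => (MvPolynomial {j : Fin n // j ≠ i₀} (MvPowerSeries (Fin n) k) ⧸
  Ideal.span (Set.range (rr p k n a μ i₀)))

theorem free_and_finrank_B : Module.Free 𝓡 𝓑 ∧ Module.finrank 𝓡 𝓑 = p ^ (n - 1) := by
  have h := Groth.Agent.Lib.MonicSepBasisH3.free_and_finrank (Fr p k n a μ i₀)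
    (Fr_monic p k n a μ i₀)
  have hI : Ideal.span (Set.range (rr p k n a μ i₀)) =
      Groth.Agent.Lib.MonicSepBasisH3.idl (Fr p k n a μ i₀) := by rw [← fun_eq]
  rw [hI]
  refine ⟨h.1, ?_⟩
  rw [h.2]
  simp only [Fr_natDegree, Finset.prod_const, Finset.card_univ]
  congr 1
  rw [Fintype.card_subtype_compl, Fintype.card_fin, Fintype.card_subtype_eq]

lemma zz_pow (j : 𝓙) : zz p k n a μ i₀ j ^ p =
    algebraMap 𝓡 𝓐 ((μ * a i₀ * a j.1) ^ (p - 1)) * zz p k n a μ i₀ j +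
      algebraMap 𝓡 𝓐 (a i₀ ^ p * MvPowerSeries.X j.1 - a j.1 ^ p * MvPowerSeries.X i₀) := by
  haveI := charP_A p k n (fun i => μ * a i)
  have hp1 : p - 1 + 1 = p := Nat.sub_add_cancel (by have := two_le p; omega)
  have e1 : zz p k n a μ i₀ j ^ p =
      (algebraMap 𝓡 𝓐 (a i₀) * uu' j.1) ^ p - (algebraMap 𝓡 𝓐 (a j.1) * uu' i₀) ^ p :=
    sub_pow_char_gen (S := 𝓐) p _ _
  rw [e1, mul_pow (algebraMap 𝓡 𝓐 (a i₀)) (uu' j.1), mul_pow (algebraMap 𝓡 𝓐 (a j.1)) (uu' i₀),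
    rel, rel]
  show _ = algebraMap 𝓡 𝓐 ((μ * a i₀ * a j.1) ^ (p - 1)) *
    (algebraMap 𝓡 𝓐 (a i₀) * uu' j.1 - algebraMap 𝓡 𝓐 (a j.1) * uu' i₀) + _
  have h1 : (a i₀) ^ p * (μ * a j.1) ^ (p - 1) = (μ * a i₀ * a j.1) ^ (p - 1) * a i₀ := by
    rw [← hp1, pow_succ, hp1, mul_pow, mul_pow, mul_pow]; ring
  have h2 : (a j.1) ^ p * (μ * a i₀) ^ (p - 1) = (μ * a i₀ * a j.1) ^ (p - 1) * a j.1 := by
    rw [← hp1, pow_succ, hp1, mul_pow, mul_pow, mul_pow]; ring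
  have h1' := congrArg (algebraMap 𝓡 𝓐) h1
  have h2' := congrArg (algebraMap 𝓡 𝓐) h2
  simp only [map_mul, map_pow, map_sub] at h1' h2' ⊢
  linear_combination (uu' j.1) * h1' - (uu' i₀) * h2'

/-- the evaluation map -/
noncomputable def phi : MvPolynomial 𝓙 𝓡 →ₐ[𝓡] 𝓐 := aeval (zz p k n a μ i₀)

lemma phi_rr (j : 𝓙) : phi p k n a μ i₀ (rr p k n a μ i₀ j) = 0 := by
  rw [phi, rr, map_sub, map_sub, map_mul, map_pow, aeval_X, aeval_C, aeval_C, zz_pow]
  ring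

lemma hker : ∀ f ∈ Ideal.span (Set.range (rr p k n a μ i₀)), phi p k n a μ i₀ f = 0 := by
  intro f hf
  have hle : Ideal.span (Set.range (rr p k n a μ i₀)) ≤
      RingHom.ker (phi p k n a μ i₀).toRingHom := by
    refine Ideal.span_le.mpr ?_
    rintro _ ⟨j, rfl⟩
    rw [SetLike.mem_coe, RingHom.mem_ker]
    exact phi_rr p k n a μ i₀ j
  exact hle hf

/-- the induced map from the complete intersection -/
noncomputable def phibar : 𝓑 →ₐ[𝓡] 𝓐 :=
  Ideal.Quotient.liftₐ _ (phi p k n a μ i₀) (hker p k n a μ i₀)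

lemma phibar_mk (f : MvPolynomial 𝓙 𝓡) :
    phibar p k n a μ i₀ (Ideal.Quotient.mk _ f) = phi p k n a μ i₀ f := rfl

variable {a μ} in
theorem phibar_injective (ham : ∀ i, MvPowerSeries.constantCoeff (a i) = 0)
    (hπ : μ * a i₀ ≠ 0) (hn : 1 ≤ n) : Function.Injective (phibar p k n a μ i₀) := by
  have hp2 := two_le p
  haveI hdom : IsDomain 𝓐 := ASFamilyH3.isDomain k n hp2 (ham' k n a μ ham)
  have hB := free_and_finrank_B p k n a μ i₀
  have hA := free_and_finrank k n (fun i => μ * a i) hp2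
  haveI := hB.1
  haveI := hA.1
  haveI : Module.Finite 𝓡 𝓐 := ASFamilyH3.finite k n hp2
  haveI : Module.Finite 𝓡 𝓑 := by
    apply Module.finite_of_finrank_pos
    rw [hB.2]
    exact pow_pos (by omega) _
  have hrank : p * Module.finrank 𝓡 𝓑 ≤ Module.finrank 𝓡 𝓐 := by
    rw [hB.2, hA.2, ← pow_succ', Nat.sub_add_cancel hn]
  have hu : uu' i₀ ^ p = algebraMap 𝓡 𝓐 ((μ * a i₀) ^ (p - 1)) * uu' i₀ +
      algebraMap 𝓡 𝓐 (MvPowerSeries.X i₀) := rel p k n (fun i => μ * a i) i₀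
  let W : Subalgebra 𝓡 𝓐 := Algebra.adjoin 𝓡 (Set.range (phibar p k n a μ i₀) ∪ {uu' i₀})
  have huW : uu' i₀ ∈ W := Algebra.subset_adjoin (Set.mem_union_right _ (Set.mem_singleton _))
  have hyS : ∀ s ∈ Set.range (uu'), algebraMap 𝓡 𝓐 (μ * a i₀) * s ∈ W := by
    rintro _ ⟨j, rfl⟩
    by_cases hj : j = i₀
    · rw [hj]
      exact mul_mem (W.algebraMap_mem _) huW
    · have hz : zz p k n a μ i₀ ⟨j, hj⟩ ∈ W := by
        refine Algebra.subset_adjoin (Set.mem_union_left _ ⟨Ideal.Quotient.mk _ (X ⟨j, hj⟩), ?_⟩)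
        rw [phibar_mk, phi, aeval_X]
      have : algebraMap 𝓡 𝓐 (μ * a i₀) * uu' j =
          algebraMap 𝓡 𝓐 μ * zz p k n a μ i₀ ⟨j, hj⟩ +
          algebraMap 𝓡 𝓐 (μ * a j) * uu' i₀ := by
        show algebraMap 𝓡 𝓐 (μ * a i₀) * uu' j = algebraMap 𝓡 𝓐 μ *
          (algebraMap 𝓡 𝓐 (a i₀) * uu' j - algebraMap 𝓡 𝓐 (a j) * uu' i₀) +
          algebraMap 𝓡 𝓐 (μ * a j) * uu' i₀
        rw [map_mul, map_mul]
        ring
      rw [this]
      exact add_mem (mul_mem (W.algebraMap_mem _) hz) (mul_mem (W.algebraMap_mem _) huW)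
  have hW : ∀ t : 𝓐, ∃ N : ℕ, algebraMap 𝓡 𝓐 (μ * a i₀) ^ N * t ∈ W :=
    Groth.Agent.Lib.FixedAdjoinH3.exists_pow_mul_mem W _ (W.algebraMap_mem _)
      (Set.range (uu')) (adjoin_uu p k n a μ) hyS
  exact Groth.Agent.Lib.RankInjH3.injective_algHom (A := 𝓐) (B := 𝓑) (phibar p k n a μ i₀)
    (uu' i₀) p hp2 hrank (μ * a i₀) hπ _ _ hu hW

variable {a μ} in
theorem ker_phi (ham : ∀ i, MvPowerSeries.constantCoeff (a i) = 0)
    (hπ : μ * a i₀ ≠ 0) (hn : 1 ≤ n) :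
    RingHom.ker (phi p k n a μ i₀) = Ideal.span (Set.range (rr p k n a μ i₀)) := by
  apply le_antisymm
  · intro f hf
    rw [RingHom.mem_ker] at hf
    have h1 : phibar p k n a μ i₀ (Ideal.Quotient.mk _ f) = 0 := hf
    have h2 := phibar_injective p k n i₀ ham hπ hn (h1.trans (map_zero _).symm)
    exact Ideal.Quotient.eq_zero_iff_mem.mp h2
  · intro f hf
    rw [RingHom.mem_ker]
    exact hker p k n a μ i₀ f hf

end

end Groth.Agent.Lib.ASFamilyMinorCIH3
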