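import Mathlib
import Groth.Agent.Lib.ASFamilyMinorCI_helper3

/-!
# The complete intersection ring of the minor elements: domain and normality away from `μ a_{i₀}`
-/

set_option autoImplicit false
set_option backward.isDefEq.respectTransparency false
universe u

namespace Groth.Agent.Lib.ASFamilyMinorCIH3

open MvPolynomial IsLocalRing Groth.Agent.Lib.ASFamilyH3 Groth.Agent.Lib.ASFamilyAutH3
  Groth.Agent.Lib.ASFamilyMinorH3

lemma exists_aeval_eq_of_mem_adjoin {R A σ : Type*} [CommRing R] [CommRing A] [Algebra R A]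
    (f : σ → A) (x : A) (hx : x ∈ Algebra.adjoin R (Set.range f)) :
    ∃ g : MvPolynomial σ R, aeval f g = x := by
  rw [Algebra.adjoin_range_eq_range_aeval] at hx
  exact hx

section

variable (p : ℕ) [hpf : Fact p.Prime] (k : Type u) [Field k] [CharP k p] (n : ℕ)
  (a : Fin n → MvPowerSeries (Fin n) k) (μ : MvPowerSeries (Fin n) k) (i₀ : Fin n)

local notation "𝓡" => MvPowerSeries (Fin n) k
local notation "𝓐" => (MvPolynomial (Fin n) (MvPowerSeries (Fin n) k) ⧸ I p k n (fun i => μ * a i))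
local notation "uu'" => uu p k n (fun i => μ * a i)
local notation "𝓙" => {j : Fin n // j ≠ i₀}
local notation "𝓑" => (MvPolynomial {j : Fin n // j ≠ i₀} (MvPowerSeries (Fin n) k) ⧸
  Ideal.span (Set.range (rr p k n a μ i₀)))

/-- the diagonal translation -/
noncomputable def sig : 𝓐 ≃ₐ[𝓡] 𝓐 := Psi p k n (fun i => μ * a i) (fun _ => 1)

lemma sig_uu (i : Fin n) : sig p k n a μ (uu' i) = uu' i + algebraMap 𝓡 𝓐 (μ * a i) := by
  rw [sig, Psi_uu, vv, map_one, one_mul]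

lemma sig_zz (j : 𝓙) : sig p k n a μ (zz p k n a μ i₀ j) = zz p k n a μ i₀ j := by
  show sig p k n a μ (algebraMap 𝓡 𝓐 (a i₀) * uu' j.1 - algebraMap 𝓡 𝓐 (a j.1) * uu' i₀) =
    algebraMap 𝓡 𝓐 (a i₀) * uu' j.1 - algebraMap 𝓡 𝓐 (a j.1) * uu' i₀
  rw [map_sub, map_mul, map_mul, AlgEquiv.commutes, AlgEquiv.commutes, sig_uu, sig_uu, map_mul,
    map_mul]
  ring

lemma sig_phi (f : MvPolynomial 𝓙 𝓡) :
    sig p k n a μ (phi p k n a μ i₀ f) = phi p k n a μ i₀ f := by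
  induction f using MvPolynomial.induction_on with
  | C r =>
    have : phi p k n a μ i₀ (C r) = algebraMap 𝓡 𝓐 r := by rw [phi, aeval_C]
    rw [this, AlgEquiv.commutes]
  | add f g hf hg => rw [map_add, map_add, hf, hg]
  | mul_X f j hf =>
    have : phi p k n a μ i₀ (f * X j) = phi p k n a μ i₀ f * zz p k n a μ i₀ j := by
      rw [map_mul, phi, aeval_X]
    rw [this, map_mul, hf, sig_zz]

variable {a μ} in
theorem main15808 (ham : ∀ i, MvPowerSeries.constantCoeff (a i) = 0)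
    (hπ : μ * a i₀ ≠ 0) (hn : 1 ≤ n) :
    Module.Free 𝓡 𝓑 ∧ Module.finrank 𝓡 𝓑 = p ^ (n - 1) ∧ IsDomain 𝓑 ∧
      IsIntegrallyClosed (Localization.Away (algebraMap 𝓡 𝓑 (μ * a i₀))) := by
  have hp2 := two_le p
  have hB := free_and_finrank_B p k n a μ i₀
  haveI hdomA : IsDomain 𝓐 := ASFamilyH3.isDomain k n hp2 (ham' k n a μ ham)
  have hinj := phibar_injective p k n i₀ ham hπ hn
  have hdomB : IsDomain 𝓑 := Function.Injective.isDomain (phibar p k n a μ i₀).toRingHom hinj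
  refine ⟨hB.1, hB.2, hdomB, ?_⟩
  haveI := hdomB
  haveI : IsRegularLocalRing 𝓐 := ASFamilyH3.isRegularLocalRing k n hp2 (ham' k n a μ ham)
  haveI : IsIntegrallyClosed 𝓐 :=
    Groth.Agent.Lib.NormalLiftH4.isIntegrallyClosed_of_isRegularLocalRing 𝓐
  have hAπ : algebraMap 𝓡 𝓐 (μ * a i₀) ≠ 0 := by
    intro h
    apply hπ
    apply algebraMap_injective p k n (fun i => μ * a i)
    rw [map_zero]
    exact h
  have hφπ : (phibar p k n a μ i₀) (algebraMap 𝓡 𝓑 (μ * a i₀)) = algebraMap 𝓡 𝓐 (μ * a i₀) :=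
    (phibar p k n a μ i₀).commutes _
  have hBπ : algebraMap 𝓡 𝓑 (μ * a i₀) ≠ 0 := by
    intro h
    apply hAπ
    rw [← hφπ, h, map_zero]
  refine Groth.Agent.Lib.AwayIntClosedH3.isIntegrallyClosed_away (B := 𝓑) (A := 𝓐)
    (phibar p k n a μ i₀).toRingHom hinj (sig p k n a μ : 𝓐 ≃ₐ[𝓡] 𝓐).toAlgHom.toRingHom ?_
    (algebraMap 𝓡 𝓑 (μ * a i₀)) hBπ ?_
  · intro b
    obtain ⟨f, rfl⟩ := Ideal.Quotient.mk_surjective b
    exact sig_phi p k n a μ i₀ f
  · intro t ht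
    obtain ⟨N, hN⟩ := minor_main p k n ham i₀ hπ (sig p k n a μ) (sig_uu p k n a μ) t ht
    obtain ⟨f, hf⟩ := exists_aeval_eq_of_mem_adjoin (A := 𝓐) (zz p k n a μ i₀) _ hN
    refine ⟨N, Ideal.Quotient.mk _ f, ?_⟩
    show (phibar p k n a μ i₀) (algebraMap 𝓡 𝓑 (μ * a i₀)) ^ N * t = phi p k n a μ i₀ f
    rw [hφπ]
    exact hf.symm

end

end Groth.Agent.Lib.ASFamilyMinorCIH3
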