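import Mathlib
import Groth.Agent.Lib.MonicSepBasis_helper3

/-!
# The top-coefficient form on `A[x_i]/(F_i(x_i))` is a perfect, translation-invariant form (helper3)
-/

set_option autoImplicit false
universe u v

namespace Groth.Agent.Lib.MonicSepDualH3

open Polynomial Groth.Agent.Lib.MonicSepBasisH3

/-! ### generic linear algebra -/

theorem det_eq_one_of_triangular {A J L : Type*} [CommRing A] [Fintype J] [DecidableEq J]
    [LinearOrder L] (f : J → L) (hf : Function.Injective f) (M : Matrix J J A)
    (h0 : ∀ e e', M e e' ≠ 0 → f e' ≤ f e) (h1 : ∀ e, M e e = 1) : M.det = 1 := by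
  letI : LinearOrder J := LinearOrder.lift' f hf
  rw [Matrix.det_of_lowerTriangular M ?_]
  · simp [h1]
  · intro i j hij
    by_contra hne
    have h2 := h0 i j hne
    have h3 : f i < f j := hij
    exact absurd h2 (not_le.2 h3)

theorem perfect_of_isUnit_det {A M J : Type*} [CommRing A] [AddCommGroup M] [Module A M]
    [Fintype J] [DecidableEq J] (b b' : Module.Basis J A M) (B : M →ₗ[A] M →ₗ[A] A)
    (hdet : IsUnit (Matrix.of fun e e' => B (b e) (b' e')).det) :
    (∀ y y' : M, (∀ x, B x y = B x y') → y = y') ∧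
      (∀ ψ : M →ₗ[A] A, ∃ y, ∀ x, ψ x = B x y) := by
  set N : Matrix J J A := Matrix.of fun e e' => B (b e) (b' e') with hN
  have key : ∀ (y : M) (e : J), B (b e) y = N.mulVec (⇑(b'.repr y)) e := by
    intro y e
    conv_lhs => rw [← b'.sum_repr y]
    rw [map_sum]
    simp only [map_smul, smul_eq_mul, Matrix.mulVec, dotProduct, hN, Matrix.of_apply]
    exact Finset.sum_congr rfl fun e' _ => mul_comm _ _
  constructor
  · intro y y' h
    have h3 : N.mulVec (⇑(b'.repr y)) = N.mulVec (⇑(b'.repr y')) := by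
      funext e
      rw [← key, ← key]
      exact h (b e)
    have h4 : (⇑(b'.repr y) : J → A) = ⇑(b'.repr y') := by
      have := congrArg (N⁻¹.mulVec) h3
      rwa [Matrix.mulVec_mulVec, Matrix.mulVec_mulVec, Matrix.nonsing_inv_mul _ hdet,
        Matrix.one_mulVec, Matrix.one_mulVec] at this
    exact b'.repr.injective (DFunLike.coe_injective h4)
  · intro ψ
    let v : J → A := fun e => ψ (b e)
    let c : J → A := N⁻¹.mulVec v
    refine ⟨∑ e', c e' • b' e', fun x => ?_⟩
    have hrepr : (⇑(b'.repr (∑ e', c e' • b' e')) : J → A) = c := b'.repr_sum_self c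
    have hb : ∀ e, ψ (b e) = B (b e) (∑ e', c e' • b' e') := by
      intro e
      rw [key, hrepr]
      show v e = N.mulVec (N⁻¹.mulVec v) e
      rw [Matrix.mulVec_mulVec, Matrix.mul_nonsing_inv _ hdet, Matrix.one_mulVec]
    have : ψ = B.flip (∑ e', c e' • b' e') := b.ext hb
    exact LinearMap.congr_fun this x

/-! ### one-variable coefficient lemmas -/

section OneVar

variable {A : Type u} [CommRing A] [Nontrivial A]

theorem mod_eq_self {F P : Polynomial A} (hF : F.Monic) (hP : P.natDegree < F.natDegree) :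
    P %ₘ F = P :=
  (Polynomial.modByMonic_eq_self_iff hF).2 (Polynomial.degree_lt_degree hP)

theorem coeff_Xpow_mod {F : Polynomial A} (hF : F.Monic) (m : ℕ) (hm : m < F.natDegree) :
    ((X ^ m : Polynomial A) %ₘ F).coeff (F.natDegree - 1) =
      if m = F.natDegree - 1 then 1 else 0 := by
  rw [mod_eq_self hF (by rw [natDegree_X_pow]; exact hm), coeff_X_pow]
  by_cases h : m = F.natDegree - 1
  · rw [if_pos h, if_pos h.symm]
  · rw [if_neg h, if_neg (fun h' => h h'.symm)]

theorem coeff_translate {F : Polynomial A} (hF : F.Monic) (a : A) (m : ℕ)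
    (hm : m < F.natDegree) :
    (((X + C a) ^ m : Polynomial A) %ₘ F).coeff (F.natDegree - 1) =
      ((X ^ m : Polynomial A) %ₘ F).coeff (F.natDegree - 1) := by
  rw [coeff_Xpow_mod hF m hm, mod_eq_self hF (by rw [natDegree_pow_X_add_C]; exact hm)]
  by_cases h : m = F.natDegree - 1
  · rw [if_pos h, ← h]
    have hmon : ((X + C a) ^ m : Polynomial A).Monic := (monic_X_add_C a).pow m
    have := hmon.coeff_natDegree
    rwa [natDegree_pow_X_add_C] at this
  · rw [if_neg h]
    apply coeff_eq_zero_of_natDegree_lt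
    rw [natDegree_pow_X_add_C]
    omega

end OneVar

/-! ### the top coefficient form -/

section

variable {A : Type u} [CommRing A] [Nontrivial A] {ι : Type v} [Fintype ι] [DecidableEq ι]
  (F : ι → Polynomial A) (hF : ∀ i, (F i).Monic) (hd : ∀ i, 0 < (F i).natDegree)

/-- index type of the monomial basis -/
abbrev Idx := ∀ i, Fin (F i).natDegree

/-- the top index -/
def top : Idx F := fun i => ⟨(F i).natDegree - 1, Nat.sub_lt (hd i) Nat.one_pos⟩

/-- the complementary index -/
def cpl (e : Idx F) : Idx F := fun i => ⟨(F i).natDegree - 1 - e i, by have := (e i).2; omega⟩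

theorem cpl_cpl (e : Idx F) : cpl F (cpl F e) = e := by
  funext i
  apply Fin.ext
  have := (e i).2
  simp only [cpl]
  omega

/-- complement as an equivalence -/
def cplEquiv : Idx F ≃ Idx F := ⟨cpl F, cpl F, cpl_cpl F, cpl_cpl F⟩

include hd in
theorem ne_one (i : ι) : F i ≠ 1 := by
  intro h
  have := hd i
  rw [h, natDegree_one] at this
  omega

include hF hd in
theorem aeval_eq_sum (i : ι) (P : Polynomial A) :
    aeval (x F i) P =
      ∑ e : Fin (F i).natDegree, ((P %ₘ F i).coeff e) • x F i ^ (e : ℕ) := by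
  have h := Polynomial.modByMonic_add_div P (F i)
  have h2 : Polynomial.aeval (x F i) P = Polynomial.aeval (x F i) (P %ₘ F i) := by
    conv_lhs => rw [← h]
    rw [map_add, map_mul, aeval_x, zero_mul, add_zero]
  rw [h2, Polynomial.aeval_eq_sum_range'
    (Polynomial.natDegree_modByMonic_lt _ (hF i) (ne_one F hd i)), Finset.sum_range]

include hF hd in
theorem prod_aeval_eq_sum (P : ι → Polynomial A) :
    ∏ i, aeval (x F i) (P i) =
      ∑ e : Idx F, (∏ i, (P i %ₘ F i).coeff (e i)) • mon F e := by
  have h : ∏ i, aeval (x F i) (P i) = ∏ i, ∑ e : Fin (F i).natDegree,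
      ((P i %ₘ F i).coeff e) • x F i ^ (e : ℕ) :=
    Finset.prod_congr rfl (fun i _ => aeval_eq_sum F hF hd i (P i))
  rw [h, Finset.prod_univ_sum]
  refine Finset.sum_congr rfl (fun e _ => ?_)
  rw [mon, Finset.prod_smul]

/-- the coefficient of the top monomial -/
noncomputable def lam : Q F →ₗ[A] A := (basis F hF).coord (top F hd)

theorem lam_mon (e : Idx F) : lam F hF hd (mon F e) = if e = top F hd then 1 else 0 := by
  rw [lam, ← basis_apply F hF e, Module.Basis.coord_apply, Module.Basis.repr_self,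
    Finsupp.single_apply]

theorem lam_prod (P : ι → Polynomial A) :
    lam F hF hd (∏ i, aeval (x F i) (P i)) =
      ∏ i, (P i %ₘ F i).coeff ((F i).natDegree - 1) := by
  rw [prod_aeval_eq_sum F hF hd, map_sum, Finset.sum_eq_single (top F hd)]
  · rw [map_smul, lam_mon, if_pos rfl, smul_eq_mul, mul_one]
    rfl
  · intro e _ he
    rw [map_smul, lam_mon, if_neg he, smul_zero]
  · intro h
    exact absurd (Finset.mem_univ _) h

theorem mon_mul_mon (e e' : Idx F) :
    mon F e * mon F e' = ∏ i, aeval (x F i) (X ^ ((e i : ℕ) + (e' i : ℕ)) : Polynomial A) := by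
  rw [mon, mon, ← Finset.prod_mul_distrib]
  refine Finset.prod_congr rfl (fun i _ => ?_)
  rw [map_pow, aeval_X, pow_add]

theorem gram_zero (e e' : Idx F) (i : ι) (hlt : e i < e' i) :
    lam F hF hd (mon F e * mon F (cpl F e')) = 0 := by
  rw [mon_mul_mon, lam_prod]
  refine Finset.prod_eq_zero (Finset.mem_univ i) ?_
  have h1 := (e i).2
  have h2 := (e' i).2
  have h3 : (e i : ℕ) < (e' i : ℕ) := hlt
  have hc : ((cpl F e' i : Fin _) : ℕ) = (F i).natDegree - 1 - (e' i : ℕ) := rfl
  rw [coeff_Xpow_mod (hF i) _ (by rw [hc]; omega), if_neg (by rw [hc]; omega)]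

theorem gram_one (e : Idx F) :
    lam F hF hd (mon F e * mon F (cpl F e)) = 1 := by
  rw [mon_mul_mon, lam_prod]
  refine Finset.prod_eq_one (fun i _ => ?_)
  have h1 := (e i).2
  have hc : ((cpl F e i : Fin _) : ℕ) = (F i).natDegree - 1 - (e i : ℕ) := rfl
  rw [coeff_Xpow_mod (hF i) _ (by rw [hc]; omega), if_pos (by rw [hc]; omega)]

/-- the form `(x, y) ↦ lam (x * y)` is perfect -/
theorem perfect [LinearOrder ι] :
    (∀ y y' : Q F, (∀ z, lam F hF hd (z * y) = lam F hF hd (z * y')) → y = y') ∧
      (∀ ψ : Q F →ₗ[A] A, ∃ y, ∀ z, ψ z = lam F hF hd (z * y)) := by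
  classical
  let B : Q F →ₗ[A] Q F →ₗ[A] A := (LinearMap.mul A (Q F)).compr₂ (lam F hF hd)
  have hB : ∀ z y, B z y = lam F hF hd (z * y) := fun z y => rfl
  let b := basis F hF
  let b' := (basis F hF).reindex (cplEquiv F)
  have hb' : ∀ e, b' e = mon F (cpl F e) := by
    intro e
    rw [Module.Basis.reindex_apply, basis_apply]
    rfl
  have hdet : (Matrix.of fun e e' => B (b e) (b' e')).det = 1 := by
    refine det_eq_one_of_triangular (toLex : Idx F → Lex (Idx F)) toLex.injective _ ?_ ?_
    · intro e e' hne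
      apply Pi.toLex_monotone
      intro i
      by_contra hlt
      push_neg at hlt
      apply hne
      rw [Matrix.of_apply, hB, basis_apply, hb', gram_zero F hF hd e e' i hlt]
    · intro e
      rw [Matrix.of_apply, hB, basis_apply, hb', gram_one]
  exact perfect_of_isUnit_det b b' B (by rw [hdet]; exact isUnit_one)

/-- `lam` is invariant under translations `x_i ↦ x_i + a_i` -/
theorem lam_translate (a : ι → A) (σ : Q F →ₗ[A] Q F)
    (hσ : ∀ e : Idx F, σ (mon F e) = ∏ i, (x F i + algebraMap A (Q F) (a i)) ^ (e i : ℕ))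
    (y : Q F) : lam F hF hd (σ y) = lam F hF hd y := by
  have h : (lam F hF hd) ∘ₗ σ = lam F hF hd := by
    refine (basis F hF).ext fun e => ?_
    rw [LinearMap.comp_apply, basis_apply, hσ]
    have e1 : ∏ i, (x F i + algebraMap A (Q F) (a i)) ^ (e i : ℕ) =
        ∏ i, aeval (x F i) ((X + C (a i)) ^ (e i : ℕ) : Polynomial A) := by
      refine Finset.prod_congr rfl (fun i _ => ?_)
      rw [map_pow, map_add, aeval_X, aeval_C]
    have e2 : mon F e = ∏ i, aeval (x F i) (X ^ (e i : ℕ) : Polynomial A) := by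
      rw [mon]
      refine Finset.prod_congr rfl (fun i _ => ?_)
      rw [map_pow, aeval_X]
    rw [e1, e2, lam_prod, lam_prod]
    refine Finset.prod_congr rfl (fun i _ => ?_)
    exact coeff_translate (hF i) (a i) _ (e i).2
  exact LinearMap.congr_fun h y

end

end Groth.Agent.Lib.MonicSepDualH3
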