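import Mathlib

/-!
# Skew group rings of Frobenius algebras with invariant form are symmetric (helper3)

If `lam : A → R` is a `G`-invariant `R`-linear form on a commutative `R`-algebra `A` whose
associated bilinear form `(x, y) ↦ lam (x * y)` is perfect, then `φ (∑ a_h h) = lam (a_1)` is a
symmetrising form on the skew group ring `A * G`.
-/

set_option autoImplicit false

namespace Groth.Agent.Lib.SkewSymmH3

open SkewMonoidAlgebra

section

variable {R A G : Type*} [CommRing R] [CommRing A] [Algebra R A] [Group G] [Finite G]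
  [MulSemiringAction G A] [SMulCommClass G R A]

/-- the coefficient at `1` followed by `lam` -/
noncomputable def phi (lam : A →ₗ[R] R) : SkewMonoidAlgebra A G →ₗ[R] R :=
  lam ∘ₗ (Finsupp.lapply (1 : G)) ∘ₗ
    (SkewMonoidAlgebra.coeffLinearEquiv : SkewMonoidAlgebra A G ≃ₗ[R] (G →₀ A)).toLinearMap

theorem phi_apply (lam : A →ₗ[R] R) (x : SkewMonoidAlgebra A G) :
    phi lam x = lam (x.coeff 1) := rfl

theorem phi_single [DecidableEq G] (lam : A →ₗ[R] R) (h : G) (a : A) :
    phi lam (single h a) = if h = 1 then lam a else 0 := by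
  rw [phi_apply, coeff_single_apply]
  split_ifs <;> simp

theorem phi_single_mul (lam : A →ₗ[R] R) (h : G) (a : A) (y : SkewMonoidAlgebra A G) :
    phi lam (single h a * y) = lam (a * h • y.coeff h⁻¹) := by
  rw [phi_apply, coeff_single_mul, mul_one]

theorem phi_comm_single (lam : A →ₗ[R] R) (hinv : ∀ (g : G) (x : A), lam (g • x) = lam x)
    (h h' : G) (a b : A) :
    phi lam (single h a * single h' b) = phi lam (single h' b * single h a) := by
  classical
  rw [single_mul_single, single_mul_single, phi_single, phi_single]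
  by_cases hh : h * h' = 1
  · have hh' : h' * h = 1 := by
      have : h' = h⁻¹ := (eq_inv_of_mul_eq_one_right hh)
      rw [this, inv_mul_cancel]
    rw [if_pos hh, if_pos hh']
    have e1 : h' = h⁻¹ := eq_inv_of_mul_eq_one_right hh
    rw [← hinv h (b * h' • a), smul_mul', e1, smul_inv_smul, mul_comm]
  · have hh' : ¬ h' * h = 1 := by
      intro h1
      apply hh
      have : h = h'⁻¹ := eq_inv_of_mul_eq_one_right h1
      rw [this, inv_mul_cancel]
    rw [if_neg hh, if_neg hh']

theorem phi_comm (lam : A →ₗ[R] R) (hinv : ∀ (g : G) (x : A), lam (g • x) = lam x)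
    (x y : SkewMonoidAlgebra A G) : phi lam (x * y) = phi lam (y * x) := by
  induction x using SkewMonoidAlgebra.induction_on with
  | zero => simp
  | single h a =>
    induction y using SkewMonoidAlgebra.induction_on with
    | zero => simp
    | single h' b => exact phi_comm_single lam hinv h h' a b
    | add f g hf hg => rw [mul_add, add_mul, map_add, map_add, hf, hg]
  | add f g hf hg => rw [mul_add, add_mul, map_add, map_add, hf, hg]

theorem main (lam : A →ₗ[R] R) (hinv : ∀ (g : G) (x : A), lam (g • x) = lam x)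
    (hinj : ∀ y y' : A, (∀ x, lam (x * y) = lam (x * y')) → y = y')
    (hsurj : ∀ ψ : A →ₗ[R] R, ∃ y : A, ∀ x, ψ x = lam (x * y)) :
    ∃ φ : SkewMonoidAlgebra A G →ₗ[R] R,
      (∀ x y : SkewMonoidAlgebra A G, φ (x * y) = φ (y * x)) ∧
      Function.Injective (fun y : SkewMonoidAlgebra A G =>
        fun x : SkewMonoidAlgebra A G => φ (x * y)) ∧
      ∀ ψ : SkewMonoidAlgebra A G →ₗ[R] R, ∃ y : SkewMonoidAlgebra A G, ∀ x, ψ x = φ (x * y) := by
  classical
  refine ⟨phi lam, phi_comm lam hinv, ?_, ?_⟩
  · intro y y' hyy'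
    apply SkewMonoidAlgebra.ext
    intro h
    have key : ∀ a : A, lam (a * h⁻¹ • y.coeff h) = lam (a * h⁻¹ • y'.coeff h) := by
      intro a
      have := congrFun hyy' (single h⁻¹ a)
      simp only [phi_single_mul, inv_inv] at this
      exact this
    have := hinj _ _ key
    exact smul_left_cancel _ this
  · intro ψ
    have hc : ∀ h : G, ∃ c : A, ∀ a, ψ (single h a) = lam (a * c) := by
      intro h
      obtain ⟨c, hc⟩ := hsurj (ψ ∘ₗ SkewMonoidAlgebra.lsingle R h)
      exact ⟨c, fun a => hc a⟩
    choose c hc using hc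
    let y : SkewMonoidAlgebra A G :=
      ⟨Finsupp.equivFunOnFinite.symm (fun g : G => g • c g⁻¹)⟩
    have hy : ∀ g, y.coeff g = g • c g⁻¹ := fun g => rfl
    refine ⟨y, fun x => ?_⟩
    induction x using SkewMonoidAlgebra.induction_on with
    | zero => simp
    | single h a =>
      rw [phi_single_mul, hy, inv_inv, smul_inv_smul]
      exact hc h a
    | add f g hf hg => rw [add_mul, map_add, map_add, hf, hg]

end

end Groth.Agent.Lib.SkewSymmH3
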