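import Mathlib
import Groth.Agent.Lib.ASFamily_helper3
import Groth.Agent.Lib.MonicSepDual_helper3
import Groth.Agent.Lib.SkewSymm_helper3

/-!
# The skew group ring of the Artin–Schreier family is symmetric (helper3)
-/

set_option autoImplicit false

universe u v

namespace Groth.Agent.Lib.ASFamilySkewH3

open MvPolynomial Groth.Agent.Lib.ASFamilyH3 Groth.Agent.Lib.MonicSepBasisH3

section

variable (p : ℕ) [hpf : Fact p.Prime] (k : Type u) [Field k] (n : ℕ)
  (a : Fin n → MvPowerSeries (Fin n) k)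

local notation "𝓡" => MvPowerSeries (Fin n) k
local notation "𝓟" => MvPolynomial (Fin n) (MvPowerSeries (Fin n) k)

theorem main (J : Ideal 𝓟) (hJ : J = idl (F p k n a))
    (G : Type v) [Group G] [Finite G] [MulSemiringAction G (𝓟 ⧸ J)] [SMulCommClass G 𝓡 (𝓟 ⧸ J)]
    (g : G) (hgen : ∀ h : G, h ∈ Subgroup.zpowers g)
    (hact : ∀ i, g • (Ideal.Quotient.mk J (X i)) =
      Ideal.Quotient.mk J (X i) + algebraMap 𝓡 (𝓟 ⧸ J) (a i)) :
    ∃ φ : SkewMonoidAlgebra (𝓟 ⧸ J) G →ₗ[𝓡] 𝓡,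
      (∀ x y : SkewMonoidAlgebra (𝓟 ⧸ J) G, φ (x * y) = φ (y * x)) ∧
      Function.Injective (fun y : SkewMonoidAlgebra (𝓟 ⧸ J) G =>
        fun x : SkewMonoidAlgebra (𝓟 ⧸ J) G => φ (x * y)) ∧
      ∀ ψ : SkewMonoidAlgebra (𝓟 ⧸ J) G →ₗ[𝓡] 𝓡,
        ∃ y : SkewMonoidAlgebra (𝓟 ⧸ J) G, ∀ x, ψ x = φ (x * y) := by
  subst hJ
  have hp2 : 2 ≤ p := hpf.out.two_le
  have hF : ∀ i, (F p k n a i).Monic := F_monic k n a hp2
  have hd : ∀ i, 0 < (F p k n a i).natDegree := fun i => by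
    rw [F_natDegree k n a hp2]; omega
  obtain ⟨hinj, hsurj⟩ := Groth.Agent.Lib.MonicSepDualH3.perfect (F p k n a) hF hd
  refine Groth.Agent.Lib.SkewSymmH3.main
    (Groth.Agent.Lib.MonicSepDualH3.lam (F p k n a) hF hd) ?_ hinj hsurj
  -- invariance
  let S : Subgroup G :=
    { carrier := {h | ∀ y : Q (F p k n a),
        Groth.Agent.Lib.MonicSepDualH3.lam (F p k n a) hF hd (h • y) =
          Groth.Agent.Lib.MonicSepDualH3.lam (F p k n a) hF hd y}
      one_mem' := fun y => by rw [one_smul]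
      mul_mem' := fun {h h'} hh hh' y => by rw [mul_smul, hh, hh']
      inv_mem' := fun {h} hh y => by
        have := hh (h⁻¹ • y)
        rw [smul_inv_smul] at this
        exact this.symm }
  have hgS : g ∈ S := by
    intro y
    refine Groth.Agent.Lib.MonicSepDualH3.lam_translate (F p k n a) hF hd a
      (DistribMulAction.toLinearMap 𝓡 (Q (F p k n a)) g) ?_ y
    intro e
    show MulSemiringAction.toRingHom G (Q (F p k n a)) g (mon (F p k n a) e) = _
    rw [mon, map_prod]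
    refine Finset.prod_congr rfl (fun i _ => ?_)
    rw [map_pow]
    congr 1
    exact hact i
  intro h y
  exact (Subgroup.zpowers_le.2 hgS) (hgen h) y

end

end Groth.Agent.Lib.ASFamilySkewH3
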