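import Mathlib

/-!
# Transfer of sheaf cohomology along a functor between sheaf categories: isomorphism version (helper8)
APPEND-ONLY once landed.
-/

set_option autoImplicit false
set_option backward.isDefEq.respectTransparency false
universe w₁ w₂ w w' v₁ v₂ u₁ u₂
open CategoryTheory CategoryTheory.Limits Opposite Abelian

namespace Groth.Agent.Lib.HTransfer2H8

section Alg

variable {A B C A' B' C' : Type*} [AddCommGroup A] [AddCommGroup B] [AddCommGroup C]
  [AddCommGroup A'] [AddCommGroup B'] [AddCommGroup C']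

/-- cokernels of isomorphic maps are isomorphic -/
theorem coker_equiv (f : A →+ B) (δ : B →+ C) (f' : A' →+ B') (δ' : B' →+ C')
    (hδ : Function.Surjective δ) (hδ' : Function.Surjective δ')
    (hex : ∀ b, δ b = 0 ↔ b ∈ f.range) (hex' : ∀ b, δ' b = 0 ↔ b ∈ f'.range)
    (a : A ≃+ A') (b : B ≃+ B') (hcomm : ∀ x, b (f x) = f' (a x)) : Nonempty (C ≃+ C') := by
  have he : (δ.ker).map (b : B →+ B') = δ'.ker := by
    ext y
    constructor
    · rintro ⟨x, hx, rfl⟩
      obtain ⟨z, rfl⟩ := (hex x).1 hx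
      exact (hex' _).2 ⟨a z, (hcomm z).symm⟩
    · intro hy
      obtain ⟨z', rfl⟩ := (hex' y).1 hy
      refine ⟨f (a.symm z'), (hex _).2 ⟨_, rfl⟩, ?_⟩
      show b (f (a.symm z')) = f' z'
      rw [hcomm, AddEquiv.apply_symm_apply]
  exact ⟨(QuotientAddGroup.quotientKerEquivOfSurjective δ hδ).symm.trans
    ((QuotientAddGroup.congr δ.ker δ'.ker b he).trans
      (QuotientAddGroup.quotientKerEquivOfSurjective δ' hδ'))⟩

end Alg

section Delta

variable {𝒜 : Type*} [Category 𝒜] [Abelian 𝒜] [HasExt.{w} 𝒜]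

/-- the connecting homomorphism is bijective when the middle term is acyclic -/
theorem delta_bijective {Sx : ShortComplex 𝒜} (hS : Sx.ShortExact) (T : 𝒜) (q : ℕ)
    (h1 : ∀ x : Ext T Sx.X₂ (q + 1), x = 0) (h2 : ∀ x : Ext T Sx.X₂ (q + 2), x = 0) :
    Function.Bijective (hS.extClass.postcomp T (rfl : q + 1 + 1 = q + 2)) := by
  constructor
  · rw [injective_iff_map_eq_zero]
    intro x₃ hx₃
    obtain ⟨x₂, hx₂⟩ := Ext.covariant_sequence_exact₃ T hS x₃ rfl hx₃
    rw [← hx₂, h1 x₂, Ext.zero_comp]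
  · intro x
    exact Ext.covariant_sequence_exact₁ T hS x (h2 _) rfl

end Delta

section Main

variable {C : Type u₁} [Category.{v₁} C] {J : GrothendieckTopology C}
  {D : Type u₂} [Category.{v₂} D] {K : GrothendieckTopology D}
  [HasSheafify J AddCommGrpCat.{w}] [HasSheafify K AddCommGrpCat.{w'}]
  [HasExt.{w₁} (Sheaf J AddCommGrpCat.{w})] [HasExt.{w₂} (Sheaf K AddCommGrpCat.{w'})]
  [EnoughInjectives (Sheaf J AddCommGrpCat.{w})]
  (Φ : Sheaf J AddCommGrpCat.{w} ⥤ Sheaf K AddCommGrpCat.{w'}) [Φ.Additive]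
  {TC : C} (hTC : IsTerminal TC) {TD : D} (hTD : IsTerminal TD)
  (γ : ∀ F : Sheaf J AddCommGrpCat.{w}, F.obj.obj (op TC) ≃+ (Φ.obj F).obj.obj (op TD))
  (hγnat : ∀ {F F' : Sheaf J AddCommGrpCat.{w}} (f : F ⟶ F') (x : F.obj.obj (op TC)),
    γ F' (f.hom.app (op TC) x) = (Φ.map f).hom.app (op TD) (γ F x))
  (P : Sheaf J AddCommGrpCat.{w} → Prop)
  (hP : ∀ (Sx : ShortComplex (Sheaf J AddCommGrpCat.{w})), Sx.ShortExact → Injective Sx.X₂ →
    P Sx.X₁ → P Sx.X₃ ∧ (Sx.map Φ).ShortExact)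
  (hacy : ∀ (I : Sheaf J AddCommGrpCat.{w}), Injective I → ∀ (q : ℕ)
    (x : Sheaf.H (Φ.obj I) (q + 1)), x = 0)

/-- the comparison in degree `0` -/
noncomputable def e0 (F : Sheaf J AddCommGrpCat.{w}) : Sheaf.H F 0 ≃+ Sheaf.H (Φ.obj F) 0 :=
  (Sheaf.H.equiv₀ F hTC).trans ((γ F).trans (Sheaf.H.equiv₀ (Φ.obj F) hTD).symm)

include hγnat in
lemma e0_nat {F F' : Sheaf J AddCommGrpCat.{w}} (f : F ⟶ F') (x : Sheaf.H F 0) :
    e0 Φ hTC hTD γ F' (Sheaf.H.map f 0 x) = Sheaf.H.map (Φ.map f) 0 (e0 Φ hTC hTD γ F x) := by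
  show (Sheaf.H.equiv₀ (Φ.obj F') hTD).symm (γ F' (Sheaf.H.equiv₀ F' hTC (Sheaf.H.map f 0 x))) =
    Sheaf.H.map (Φ.map f) 0 ((Sheaf.H.equiv₀ (Φ.obj F) hTD).symm (γ F (Sheaf.H.equiv₀ F hTC x)))
  rw [Sheaf.H.equiv₀_symm_naturality, ← hγnat, Sheaf.H.equiv₀_naturality]

include hTC hTD hγnat hP hacy in
theorem iso_succ (q : ℕ) : ∀ (G : Sheaf J AddCommGrpCat.{w}), P G →
    Nonempty (Sheaf.H G (q + 1) ≃+ Sheaf.H (Φ.obj G) (q + 1)) := by
  induction q with
  | zero =>
    intro G hG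
    let Sx : ShortComplex (Sheaf J AddCommGrpCat.{w}) :=
      ShortComplex.mk (Injective.ι G) (cokernel.π (Injective.ι G)) (cokernel.condition _)
    have hS : Sx.ShortExact := { exact := ShortComplex.exact_cokernel (Injective.ι G) }
    haveI hI : Injective Sx.X₂ := inferInstanceAs (Injective (Injective.under G))
    obtain ⟨-, hfS⟩ := hP Sx hS hI hG
    let T := (constantSheaf J AddCommGrpCat.{w}).obj (AddCommGrpCat.of (ULift ℤ))
    let T' := (constantSheaf K AddCommGrpCat.{w'}).obj (AddCommGrpCat.of (ULift ℤ))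
    refine coker_equiv (Sheaf.H.map Sx.g 0) (hS.extClass.postcomp T (zero_add 1))
      (Sheaf.H.map (Φ.map Sx.g) 0) (hfS.extClass.postcomp T' (zero_add 1)) ?_ ?_ ?_ ?_
      (e0 Φ hTC hTD γ Sx.X₂) (e0 Φ hTC hTD γ Sx.X₃) (fun x => e0_nat Φ hTC hTD γ hγnat Sx.g x)
    · intro x
      exact Ext.covariant_sequence_exact₁ T hS x (Ext.eq_zero_of_injective _) (zero_add 1)
    · intro x
      exact Ext.covariant_sequence_exact₁ T' hfS x (hacy Sx.X₂ hI 0 _) (zero_add 1)
    · intro b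
      constructor
      · intro hb
        obtain ⟨x₂, hx₂⟩ := Ext.covariant_sequence_exact₃ T hS b (zero_add 1) hb
        exact ⟨x₂, hx₂⟩
      · rintro ⟨x₂, rfl⟩
        show (x₂.comp (Ext.mk₀ Sx.g) (add_zero 0)).comp hS.extClass (zero_add 1) = 0
        refine (Ext.comp_assoc_of_second_deg_zero x₂ (Ext.mk₀ Sx.g) hS.extClass
          (zero_add 1)).trans ?_
        exact (congrArg (fun t => x₂.comp t (zero_add 1)) hS.comp_extClass).trans
          (Ext.comp_zero _ _ _ _ _)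
    · intro b
      constructor
      · intro hb
        obtain ⟨x₂, hx₂⟩ := Ext.covariant_sequence_exact₃ T' hfS b (zero_add 1) hb
        exact ⟨x₂, hx₂⟩
      · rintro ⟨x₂, rfl⟩
        show (x₂.comp (Ext.mk₀ (Φ.map Sx.g)) (add_zero 0)).comp hfS.extClass (zero_add 1) = 0
        refine (Ext.comp_assoc_of_second_deg_zero x₂ (Ext.mk₀ (Φ.map Sx.g)) hfS.extClass
          (zero_add 1)).trans ?_
        exact (congrArg (fun t => x₂.comp t (zero_add 1)) hfS.comp_extClass).trans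
          (Ext.comp_zero _ _ _ _ _)
  | succ q ih =>
    intro G hG
    let Sx : ShortComplex (Sheaf J AddCommGrpCat.{w}) :=
      ShortComplex.mk (Injective.ι G) (cokernel.π (Injective.ι G)) (cokernel.condition _)
    have hS : Sx.ShortExact := { exact := ShortComplex.exact_cokernel (Injective.ι G) }
    haveI hI : Injective Sx.X₂ := inferInstanceAs (Injective (Injective.under G))
    obtain ⟨hQ, hfS⟩ := hP Sx hS hI hG
    let T := (constantSheaf J AddCommGrpCat.{w}).obj (AddCommGrpCat.of (ULift ℤ))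
    let T' := (constantSheaf K AddCommGrpCat.{w'}).obj (AddCommGrpCat.of (ULift ℤ))
    obtain ⟨e⟩ := ih Sx.X₃ hQ
    have h1 := delta_bijective hS T q (fun x => Ext.eq_zero_of_injective x)
      (fun x => Ext.eq_zero_of_injective x)
    have h2 := delta_bijective hfS T' q (fun x => hacy Sx.X₂ hI q x)
      (fun x => hacy Sx.X₂ hI (q + 1) x)
    exact ⟨(AddEquiv.ofBijective _ h1).symm.trans (e.trans (AddEquiv.ofBijective _ h2))⟩

include hTC hTD hγnat hP hacy in
/-- `H^q(G) ≃ H^q(ΦG)` for all `q`, `G ∈ P` -/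
theorem iso (q : ℕ) (G : Sheaf J AddCommGrpCat.{w}) (hG : P G) :
    Nonempty (Sheaf.H G q ≃+ Sheaf.H (Φ.obj G) q) := by
  cases q with
  | zero => exact ⟨e0 Φ hTC hTD γ G⟩
  | succ q => exact iso_succ Φ hTC hTD γ hγnat P hP hacy q G hG

end Main

end Groth.Agent.Lib.HTransfer2H8
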