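import Mathlib

/-!
# Transfer of vanishing of sheaf cohomology along a functor between sheaf categories (helper8)

`Φ : Sheaf J Ab ⥤ Sheaf K Ab` additive, preserving injectives, compatible with global sections, and
sending short exact sequences `0 → G → I → Q → 0` (`G` in a class `P`, `I` injective) to short exact
sequences with `Q` again in `P`.  Then `H^q(ΦG) = 0 ⇒ H^q(G) = 0` for `q ≥ 1`, `G ∈ P`.
APPEND-ONLY once landed.
-/

set_option autoImplicit false
set_option backward.isDefEq.respectTransparency false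
universe w₁ w₂ w v₁ v₂ u₁ u₂
open CategoryTheory CategoryTheory.Limits Opposite Abelian

namespace Groth.Agent.Lib.HTransferH8

variable {C : Type u₁} [Category.{v₁} C] {J : GrothendieckTopology C}
  {D : Type u₂} [Category.{v₂} D] {K : GrothendieckTopology D}
  [HasSheafify J AddCommGrpCat.{w}] [HasSheafify K AddCommGrpCat.{w}]
  [HasExt.{w₁} (Sheaf J AddCommGrpCat.{w})] [HasExt.{w₂} (Sheaf K AddCommGrpCat.{w})]
  [EnoughInjectives (Sheaf J AddCommGrpCat.{w})]
  (Φ : Sheaf J AddCommGrpCat.{w} ⥤ Sheaf K AddCommGrpCat.{w}) [Φ.Additive]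
  [Φ.PreservesInjectiveObjects]
  {TC : C} (hTC : IsTerminal TC) {TD : D} (hTD : IsTerminal TD)
  (γ : ∀ F : Sheaf J AddCommGrpCat.{w}, F.obj.obj (op TC) → (Φ.obj F).obj.obj (op TD))
  (hγ : ∀ F, Function.Bijective (γ F))
  (hγnat : ∀ {F F' : Sheaf J AddCommGrpCat.{w}} (f : F ⟶ F') (x : F.obj.obj (op TC)),
    γ F' (f.hom.app (op TC) x) = (Φ.map f).hom.app (op TD) (γ F x))
  (P : Sheaf J AddCommGrpCat.{w} → Prop)
  (hP : ∀ (Sx : ShortComplex (Sheaf J AddCommGrpCat.{w})), Sx.ShortExact → Injective Sx.X₂ →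
    P Sx.X₁ → P Sx.X₃ ∧ (Sx.map Φ).ShortExact)

include hTC hTD hγ hγnat hP in
theorem transfer (q : ℕ) : ∀ (G : Sheaf J AddCommGrpCat.{w}), P G →
    (∀ x : Sheaf.H (Φ.obj G) (q + 1), x = 0) → ∀ x : Sheaf.H G (q + 1), x = 0 := by
  induction q with
  | zero =>
    intro G hG hv x
    let Sx : ShortComplex (Sheaf J AddCommGrpCat.{w}) :=
      ShortComplex.mk (Injective.ι G) (cokernel.π (Injective.ι G)) (cokernel.condition _)
    have hS : Sx.ShortExact := { exact := ShortComplex.exact_cokernel (Injective.ι G) }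
    haveI hI : Injective Sx.X₂ := inferInstanceAs (Injective (Injective.under G))
    obtain ⟨-, hfS⟩ := hP Sx hS hI hG
    obtain ⟨x₃, hx₃⟩ : ∃ x₃ : Sheaf.H Sx.X₃ 0, x₃.comp hS.extClass (zero_add 1) = x :=
      Ext.covariant_sequence_exact₁ _ hS x (Ext.eq_zero_of_injective _) (zero_add 1)
    -- the section of `Q` and its image in `ΦQ`
    let c : Sx.X₃.obj.obj (op TC) := Sheaf.H.equiv₀ Sx.X₃ hTC x₃
    let x₃' : Sheaf.H (Φ.obj Sx.X₃) 0 := (Sheaf.H.equiv₀ (Φ.obj Sx.X₃) hTD).symm (γ Sx.X₃ c)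
    have h0 : x₃'.comp hfS.extClass (zero_add 1) = 0 := hv _
    obtain ⟨x₂', hx₂'⟩ := Ext.covariant_sequence_exact₃ _ hfS x₃' (zero_add 1) h0
    obtain ⟨b, hb⟩ := (hγ Sx.X₂).2 (Sheaf.H.equiv₀ (Φ.obj Sx.X₂) hTD x₂')
    have hbc : Sx.g.hom.app (op TC) b = c := by
      apply (hγ Sx.X₃).1
      rw [hγnat, hb]
      have h1 := Sheaf.H.equiv₀_naturality (hT := hTD) (f := Φ.map Sx.g) x₂'
      rw [h1]
      have h2 : Sheaf.H.map (Φ.map Sx.g) 0 x₂' = x₃' := hx₂'
      rw [h2, AddEquiv.apply_symm_apply]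
    let x₂ : Sheaf.H Sx.X₂ 0 := (Sheaf.H.equiv₀ Sx.X₂ hTC).symm b
    have hx₂ : Sheaf.H.map Sx.g 0 x₂ = x₃ := by
      have h1 := Sheaf.H.equiv₀_symm_naturality (hT := hTC) (f := Sx.g) b
      refine h1.trans ?_
      rw [hbc, AddEquiv.symm_apply_apply]
    rw [← hx₃, ← hx₂, Sheaf.H.map_apply]
    refine (Ext.comp_assoc_of_second_deg_zero x₂ (Ext.mk₀ Sx.g) hS.extClass (zero_add 1)).trans ?_
    exact (congrArg (fun t => x₂.comp t (zero_add 1)) hS.comp_extClass).trans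
      (Ext.comp_zero _ _ _ _ _)
  | succ q ih =>
    intro G hG hv x
    let Sx : ShortComplex (Sheaf J AddCommGrpCat.{w}) :=
      ShortComplex.mk (Injective.ι G) (cokernel.π (Injective.ι G)) (cokernel.condition _)
    have hS : Sx.ShortExact := { exact := ShortComplex.exact_cokernel (Injective.ι G) }
    haveI hI : Injective Sx.X₂ := inferInstanceAs (Injective (Injective.under G))
    obtain ⟨hQ, hfS⟩ := hP Sx hS hI hG
    haveI : Injective (Sx.map Φ).X₂ := Φ.injective_obj Sx.X₂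
    obtain ⟨x₃, hx₃⟩ : ∃ x₃ : Sheaf.H Sx.X₃ (q + 1), x₃.comp hS.extClass rfl = x :=
      Ext.covariant_sequence_exact₁ _ hS x (Ext.eq_zero_of_injective _) rfl
    have hv₃ : ∀ y : Sheaf.H (Φ.obj Sx.X₃) (q + 1), y = 0 := by
      intro y
      have h0 : y.comp hfS.extClass rfl = 0 := hv _
      obtain ⟨y₂, hy₂⟩ := Ext.covariant_sequence_exact₃ _ hfS y rfl h0
      rw [← hy₂, Ext.eq_zero_of_injective y₂, Ext.zero_comp]
    rw [← hx₃, ih Sx.X₃ hQ hv₃ x₃, Ext.zero_comp]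

end Groth.Agent.Lib.HTransferH8
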