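import Mathlib
import Groth.Prelude.Def_CohTop

/-!
# A concrete description of Mathlib's Čech complex on a topological space

For a presheaf of abelian groups `P` on a topological space and a family of opens `U : ι → Opens X`,
we identify the terms of `(cechComplexFunctor U).obj P` with the groups of concrete cochains
`∀ σ : Fin (n+1) → ι, P(⋂ₖ U (σ k))` and its differential with the usual alternating sum.
-/

set_option autoImplicit false
universe u
open CategoryTheory Limits TopologicalSpace Opposite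

namespace Groth.Agent.Lib.Cech

variable {X : TopCat.{u}}

section Res

variable (P : (Opens X)ᵒᵖ ⥤ AddCommGrpCat.{u})

/-- restriction of sections of a presheaf -/
def res {V W : Opens X} (h : V ≤ W) : P.obj (op W) →+ P.obj (op V) := (P.map (homOfLE h).op).hom

lemma map_eq_res {V W : Opens X} (f : op W ⟶ op V) (x : P.obj (op W)) :
    (P.map f).hom x = res P (leOfHom f.unop) x := rfl

lemma res_res {A B C : Opens X} (h₁ : A ≤ B) (h₂ : B ≤ C) (x : P.obj (op C)) :
    res P h₁ (res P h₂ x) = res P (h₁.trans h₂) x := by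
  show (P.map (homOfLE h₂).op ≫ P.map (homOfLE h₁).op).hom x = _
  rw [← P.map_comp]
  rfl

lemma res_self {A : Opens X} (h : A ≤ A) (x : P.obj (op A)) : res P h x = x := by
  have e : (homOfLE h).op = 𝟙 (op A) := rfl
  show (P.map (homOfLE h).op).hom x = x
  rw [e, P.map_id]
  rfl

lemma res_app {Q : (Opens X)ᵒᵖ ⥤ AddCommGrpCat.{u}} (φ : P ⟶ Q) {V W : Opens X} (h : V ≤ W)
    (x : P.obj (op W)) : (φ.app (op V)).hom (res P h x) = res Q h ((φ.app (op W)).hom x) := by
  have hn := φ.naturality (homOfLE h).op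
  show (P.map (homOfLE h).op ≫ φ.app (op V)).hom x = (φ.app (op W) ≫ Q.map (homOfLE h).op).hom x
  rw [hn]

end Res

section Pi

/-- the categorical product of abelian groups is the group of dependent functions -/
noncomputable def piIso {J : Type u} (Z : J → AddCommGrpCat.{u}) :
    ∏ᶜ Z ≅ AddCommGrpCat.of (∀ j, Z j) :=
  limit.isoLimitCone (AddCommGrpCat.HasLimit.productLimitCone Z)

lemma piIso_hom_apply {J : Type u} (Z : J → AddCommGrpCat.{u}) (x : (∏ᶜ Z : AddCommGrpCat.{u}))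
    (j : J) : (piIso Z).hom x j = (Pi.π Z j).hom x := by
  have h := limit.isoLimitCone_hom_π (AddCommGrpCat.HasLimit.productLimitCone Z) ⟨j⟩
  have h2 := congrArg (fun f => f.hom x) h
  exact h2

lemma piIso_inv_π {J : Type u} (Z : J → AddCommGrpCat.{u}) (y : ∀ j, Z j) (j : J) :
    (Pi.π Z j).hom ((piIso Z).inv y) = y j := by
  have h := limit.isoLimitCone_inv_π (AddCommGrpCat.HasLimit.productLimitCone Z) ⟨j⟩
  have h2 := congrArg (fun f => f.hom y) h
  exact h2

lemma pi_ext {J : Type u} (Z : J → AddCommGrpCat.{u}) (x y : (∏ᶜ Z : AddCommGrpCat.{u}))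
    (h : ∀ j, (Pi.π Z j).hom x = (Pi.π Z j).hom y) : x = y := by
  have h1 : (piIso Z).hom x = (piIso Z).hom y := by
    funext j
    rw [piIso_hom_apply, piIso_hom_apply, h]
  have h2 := congrArg (fun z => (piIso Z).inv z) h1
  simpa using h2

end Pi


section Coch

variable (P : (Opens X)ᵒᵖ ⥤ AddCommGrpCat.{u}) {ι : Type u} (U : ι → Opens X)

/-- concrete Čech cochains -/
abbrev Coch (n : ℕ) : Type u := ∀ σ : Fin (n + 1) → ι, P.obj (op (⨅ k, U (σ k)))

lemma face_le {n : ℕ} (σ : Fin (n + 2) → ι) (k : Fin (n + 2)) :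
    (⨅ j, U (σ j)) ≤ ⨅ j, U ((σ ∘ k.succAbove) j) :=
  le_iInf fun j => iInf_le (fun j => U (σ j)) (k.succAbove j)

/-- the concrete Čech differential -/
def D (n : ℕ) : Coch P U n →+ Coch P U (n + 1) where
  toFun β σ := ∑ k : Fin (n + 2), (-1 : ℤ) ^ (k : ℕ) • res P (face_le U σ k) (β (σ ∘ k.succAbove))
  map_zero' := by
    funext σ
    simp
  map_add' β γ := by
    funext σ
    simp [smul_add, Finset.sum_add_distrib]

lemma D_apply (n : ℕ) (β : Coch P U n) (σ : Fin (n + 2) → ι) :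
    D P U n β σ = ∑ k : Fin (n + 2), (-1 : ℤ) ^ (k : ℕ) • res P (face_le U σ k) (β (σ ∘ k.succAbove)) :=
  rfl

lemma inter_le_prod {n : ℕ} (σ : Fin n → ι) : (⨅ k, U (σ k)) ≤ ∏ᶜ (U ∘ σ) :=
  leOfHom (Pi.lift fun k => homOfLE (iInf_le (fun k => U (σ k)) k))

lemma prod_le_inter {n : ℕ} (σ : Fin n → ι) : ∏ᶜ (U ∘ σ) ≤ ⨅ k, U (σ k) :=
  le_iInf fun k => leOfHom (Pi.π (U ∘ σ) k)

/-- the comparison between the terms of Mathlib's Čech complex and concrete cochains -/
noncomputable def cmp (n : ℕ) : ((cechComplexFunctor U).obj P).X n ≃+ Coch P U n where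
  toFun x σ := res P (inter_le_prod U σ)
    ((Pi.π (fun i : Fin (n + 1) → ι => P.obj (op (∏ᶜ (U ∘ i)))) σ).hom x)
  invFun β := (piIso (fun i : Fin (n + 1) → ι => P.obj (op (∏ᶜ (U ∘ i))))).inv
    (fun σ => res P (prod_le_inter U σ) (β σ))
  left_inv x := by
    apply pi_ext
    intro σ
    rw [piIso_inv_π, res_res, res_self]
  right_inv β := by
    funext σ
    dsimp only
    rw [piIso_inv_π, res_res, res_self]
  map_add' x y := by
    funext σ
    exact ((res P (inter_le_prod U σ)).comp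
      (Pi.π (fun i : Fin (n + 1) → ι => P.obj (op (∏ᶜ (U ∘ i)))) σ).hom).map_add x y

lemma cmp_apply (n : ℕ) (x : ((cechComplexFunctor U).obj P).X n) (σ : Fin (n + 1) → ι) :
    cmp P U n x σ = res P (inter_le_prod U σ)
      ((Pi.π (fun i : Fin (n + 1) → ι => P.obj (op (∏ᶜ (U ∘ i)))) σ).hom x) := rfl


/-- the terms of the Čech complex, as products -/
noncomputable abbrev CX (n : ℕ) : AddCommGrpCat.{u} :=
  ∏ᶜ fun i : Fin (n + 1) → ι => P.obj (op (∏ᶜ (U ∘ i)))

/-- the cofaces -/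
noncomputable def δc (n : ℕ) (k : Fin (n + 2)) : CX P U n ⟶ CX P U (n + 1) :=
  ((FormalCoproduct.cosimplicialObjectFunctor (FormalCoproduct.mk ι U).cech).obj P).map
      (SimplexCategory.δ k)

lemma δ_π (n : ℕ) (k : Fin (n + 2)) (σ : Fin (n + 2) → ι) :
    δc P U n k ≫ Pi.π (fun i : Fin (n + 2) → ι => P.obj (op (∏ᶜ (U ∘ i)))) σ =
    Pi.π (fun i : Fin (n + 1) → ι => P.obj (op (∏ᶜ (U ∘ i)))) (σ ∘ k.succAbove) ≫
      P.map (homOfLE ((prod_le_inter U σ).trans ((face_le U σ k).trans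
        (inter_le_prod U (σ ∘ k.succAbove))))).op := by
  dsimp [δc, FormalCoproduct.cosimplicialObjectFunctor]
  simp only [FormalCoproduct.evalOp_obj_map]
  erw [Pi.lift_π]
  rfl

lemma hom_sum_apply {A B : AddCommGrpCat.{u}} {κ : Type} (s : Finset κ) (f : κ → (A ⟶ B)) (x : A) :
    (∑ k ∈ s, f k).hom x = ∑ k ∈ s, (f k).hom x := by
  classical
  induction s using Finset.induction_on with
  | empty => simp
  | insert a s ha ih =>
    rw [Finset.sum_insert ha, Finset.sum_insert ha, AddCommGrpCat.hom_add, AddMonoidHom.add_apply, ih]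

/-- the differential, with explicit types -/
noncomputable def dc (n : ℕ) : CX P U n ⟶ CX P U (n + 1) := ((cechComplexFunctor U).obj P).d n (n + 1)

lemma d_eq (n : ℕ) : dc P U n = ∑ k : Fin (n + 2), (-1 : ℤ) ^ (k : ℕ) • δc P U n k := by
  dsimp [dc, cechComplexFunctor, FormalCoproduct.cochainComplexFunctor,
    AlgebraicTopology.alternatingCofaceMapComplex, AlgebraicTopology.AlternatingCofaceMapComplex.obj]
  rw [CochainComplex.of_d]
  rfl

lemma cmp_d (n : ℕ) (x : ((cechComplexFunctor U).obj P).X n) :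
    cmp P U (n + 1) ((((cechComplexFunctor U).obj P).d n (n + 1)).hom x) = D P U n (cmp P U n x) := by
  funext σ
  rw [cmp_apply, D_apply]
  have h : dc P U n ≫ Pi.π (fun i : Fin (n + 2) → ι => P.obj (op (∏ᶜ (U ∘ i)))) σ =
      ∑ k : Fin (n + 2), (-1 : ℤ) ^ (k : ℕ) •
        (Pi.π (fun i : Fin (n + 1) → ι => P.obj (op (∏ᶜ (U ∘ i)))) (σ ∘ k.succAbove) ≫
        P.map (homOfLE ((prod_le_inter U σ).trans ((face_le U σ k).trans
          (inter_le_prod U (σ ∘ k.succAbove))))).op) := by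
    rw [d_eq, Preadditive.sum_comp]
    refine Finset.sum_congr rfl fun k _ => ?_
    rw [Preadditive.zsmul_comp, δ_π]
  have h2 := congrArg (fun f => f.hom x) h
  change (dc P U n ≫ Pi.π (fun i : Fin (n + 2) → ι => P.obj (op (∏ᶜ (U ∘ i)))) σ).hom x = _ at h2
  rw [hom_sum_apply] at h2
  have h3 : (Pi.π (fun i : Fin (n + 2) → ι => P.obj (op (∏ᶜ (U ∘ i)))) σ).hom
      ((((cechComplexFunctor U).obj P).d n (n + 1)).hom x) = _ := h2
  rw [h3, map_sum]
  refine Finset.sum_congr rfl fun k _ => ?_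
  rw [AddCommGrpCat.hom_zsmul, AddMonoidHom.smul_apply, map_zsmul]
  congr 1
  rw [cmp_apply]
  show res P _ (res P _ _) = res P _ (res P _ _)
  rw [res_res, res_res]
  rfl


lemma D_D (n : ℕ) (β : Coch P U n) : D P U (n + 1) (D P U n β) = 0 := by
  obtain ⟨x, rfl⟩ := (cmp P U n).surjective β
  rw [← cmp_d, ← cmp_d]
  have h := ((cechComplexFunctor U).obj P).d_comp_d n (n + 1) (n + 2)
  have h2 := congrArg (fun f => f.hom x) h
  have h3 : (((cechComplexFunctor U).obj P).d (n + 1) (n + 2)).hom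
      ((((cechComplexFunctor U).obj P).d n (n + 1)).hom x) = 0 := h2
  rw [h3, map_zero]

/-- vanishing of Čech cohomology in positive degree, concretely -/
theorem isZero_cechH_succ_iff (p : ℕ) :
    IsZero (CohTop.cechH P U (p + 1)) ↔
      ∀ α : Coch P U (p + 1), D P U (p + 1) α = 0 → ∃ β : Coch P U p, D P U p β = α := by
  have e1 : IsZero (CohTop.cechH P U (p + 1)) ↔ ((cechComplexFunctor U).obj P).ExactAt (p + 1) :=
    (HomologicalComplex.exactAt_iff_isZero_homology _ _).symm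
  rw [e1, HomologicalComplex.exactAt_iff' _ p (p + 1) (p + 2) (by simp) (by simp),
    ShortComplex.ab_exact_iff]
  constructor
  · intro h α hα
    obtain ⟨x, rfl⟩ := (cmp P U (p + 1)).surjective α
    rw [← cmp_d] at hα
    have hx : (((cechComplexFunctor U).obj P).d (p + 1) (p + 2)).hom x = 0 := by
      apply (cmp P U (p + 2)).injective
      rw [hα, map_zero]
    obtain ⟨y, hy⟩ := h x hx
    refine ⟨cmp P U p y, ?_⟩
    rw [← cmp_d]
    exact congrArg _ hy
  · intro h x hx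
    have hα : D P U (p + 1) (cmp P U (p + 1) x) = 0 := by
      rw [← cmp_d]
      have : (((cechComplexFunctor U).obj P).d (p + 1) (p + 2)).hom x = 0 := hx
      rw [this, map_zero]
    obtain ⟨β, hβ⟩ := h _ hα
    obtain ⟨y, rfl⟩ := (cmp P U p).surjective β
    refine ⟨y, ?_⟩
    apply (cmp P U (p + 1)).injective
    rw [← hβ, ← cmp_d]
    rfl

end Coch

section Sheaf

variable (F : CohTop.Ab X)

/-- gluing of compatible sections -/
theorem glue {κ : Type*} (W : κ → Opens X) (V : Opens X) (hW : ∀ k, W k ≤ V) (hV : V ≤ iSup W)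
    (s : ∀ k, F.obj.obj (op (W k)))
    (hs : ∀ k l, res F.obj (inf_le_left : W k ⊓ W l ≤ W k) (s k) =
      res F.obj (inf_le_right : W k ⊓ W l ≤ W l) (s l)) :
    ∃ t : F.obj.obj (op V), ∀ k, res F.obj (hW k) t = s k := by
  obtain ⟨t, ht, -⟩ := TopCat.Sheaf.existsUnique_gluing' (F := F) W V (fun k => homOfLE (hW k)) hV s
    (fun k l => hs k l)
  exact ⟨t, ht⟩

/-- sections are determined locally -/
theorem ext_of_cover {κ : Type*} (W : κ → Opens X) (V : Opens X) (hW : ∀ k, W k ≤ V)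
    (hV : V ≤ iSup W) (s t : F.obj.obj (op V))
    (h : ∀ k, res F.obj (hW k) s = res F.obj (hW k) t) : s = t :=
  TopCat.Sheaf.eq_of_locally_eq' (F := F) W V (fun k => homOfLE (hW k)) hV s t h

variable {F}

lemma app_injective {G : CohTop.Ab X} (φ : F ⟶ G) [Mono φ] (V : Opens X) :
    Function.Injective (φ.hom.app (op V)).hom := by
  have h1 : Mono φ.hom := (Sheaf.Hom.mono_iff_presheaf_mono _ _ φ).mp inferInstance
  have h2 : Mono (φ.hom.app (op V)) := (NatTrans.mono_iff_mono_app φ.hom).mp h1 (op V)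
  exact (AddCommGrpCat.mono_iff_injective _).mp h2

lemma app_comp_zero (S : ShortComplex (CohTop.Ab X)) (V : Opens X) (a : S.X₁.obj.obj (op V)) :
    (S.g.hom.app (op V)).hom ((S.f.hom.app (op V)).hom a) = 0 := by
  have h := congrArg (fun ψ : S.X₁ ⟶ S.X₃ => (ψ.hom.app (op V)).hom a) S.zero
  exact h

lemma exists_of_app_eq_zero (S : ShortComplex (CohTop.Ab X)) (hS : S.ShortExact) (V : Opens X)
    (b : S.X₂.obj.obj (op V)) (hb : (S.g.hom.app (op V)).hom b = 0) :
    ∃ a : S.X₁.obj.obj (op V), (S.f.hom.app (op V)).hom a = b :=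
  TopCat.Sheaf.sections_exact_of_left_exact hS.1 hS.2 b hb

lemma exists_local_lift {G : CohTop.Ab X} (φ : F ⟶ G) [Epi φ] {V : Opens X}
    (s : G.obj.obj (op V)) (x : X) (hx : x ∈ V) :
    ∃ (W : Opens X) (hW : W ≤ V), x ∈ W ∧ ∃ t : F.obj.obj (op W),
      (φ.hom.app (op W)).hom t = res G.obj hW s := by
  have h0 : Epi (C := TopCat.Sheaf AddCommGrpCat.{u} X) φ := ‹Epi φ›
  have h1 := (TopCat.Sheaf.isLocallySurjective_iff_epi (F := F) (G := G) φ).mpr h0
  obtain ⟨W, hW, ⟨t, ht⟩, hxW⟩ := (TopCat.Presheaf.isLocallySurjective_iff φ.hom).mp h1 V s x hx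
  exact ⟨W, hW, hxW, t, ht⟩

end Sheaf

end Groth.Agent.Lib.Cech
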