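import Mathlib
import Groth.Prelude.Def_CohTop
import Groth.Agent.Lib.CechConcrete_helper2
import Groth.Agent.Lib.FlasqueAcyclic_helper2

/-!
# Grothendieck vanishing, part 1 (helper2)

* colimits of sections over a filter base of opens (`OFilt`, `colimF`, `ιF`), element-wise API;
* the "constant sheaf on an irreducible subset" `PcTSheaf T A` (sections over `U` are `A` when `U`
  meets `T`, and `0` otherwise); it is a flasque sheaf when `T` is preirreducible;
* sheaves supported on a closed subset (`SuppOn`).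
APPEND-ONLY once landed.
-/

set_option autoImplicit false
universe u
open CategoryTheory CategoryTheory.Limits TopologicalSpace Opposite

namespace Groth.Agent.Lib.GVanH2

open Groth.Agent.Lib.Cech

variable {X : TopCat.{u}}

/-- a filter base of opens: contains `⊤`, stable under `⊓` -/
structure OFilt (X : TopCat.{u}) where
  P : Opens X → Prop
  top : P ⊤
  inf : ∀ U V, P U → P V → P (U ⊓ V)

section Colim

variable (𝓕 : OFilt X)

/-- the property of belonging to the filter base -/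
abbrev NP : ObjectProperty (Opens X)ᵒᵖ := fun U => 𝓕.P U.unop

/-- the category of members (opposite order) -/
abbrev N := (NP 𝓕).FullSubcategory

/-- an object of `N 𝓕` -/
def mkN (U : Opens X) (h : 𝓕.P U) : N 𝓕 := ⟨op U, h⟩

/-- a morphism of `N 𝓕` -/
def homN {U V : Opens X} (hU : 𝓕.P U) (hV : 𝓕.P V) (h : V ≤ U) :
    mkN 𝓕 U hU ⟶ mkN 𝓕 V hV := ObjectProperty.homMk (homOfLE h).op

instance : IsFiltered (N 𝓕) where
  cocone_objs j j' := ⟨mkN 𝓕 (j.obj.unop ⊓ j'.obj.unop) (𝓕.inf _ _ j.property j'.property),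
    ObjectProperty.homMk (homOfLE inf_le_left).op, ObjectProperty.homMk (homOfLE inf_le_right).op,
    trivial⟩
  cocone_maps j j' f g := ⟨j', 𝟙 _, by
    apply ObjectProperty.hom_ext
    exact Subsingleton.elim _ _⟩
  nonempty := ⟨mkN 𝓕 ⊤ 𝓕.top⟩

variable (G : (Opens X)ᵒᵖ ⥤ AddCommGrpCat.{u})

/-- the colimit of `G` over the members of the filter base -/
noncomputable abbrev colimF : AddCommGrpCat.{u} := colimit ((NP 𝓕).ι ⋙ G)

/-- the structure map -/
noncomputable def ιF (U : Opens X) (h : 𝓕.P U) : G.obj (op U) →+ colimF 𝓕 G :=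
  (colimit.ι ((NP 𝓕).ι ⋙ G) (mkN 𝓕 U h)).hom

lemma ιF_res {U V : Opens X} (hU : 𝓕.P U) (hV : 𝓕.P V) (h : V ≤ U)
    (y : G.obj (op U)) : ιF 𝓕 G V hV (res G h y) = ιF 𝓕 G U hU y := by
  have h1 := colimit.w ((NP 𝓕).ι ⋙ G) (homN 𝓕 hU hV h)
  exact ConcreteCategory.congr_hom h1 y

lemma exists_rep (x : colimF 𝓕 G) :
    ∃ (U : Opens X) (h : 𝓕.P U) (y : G.obj (op U)), ιF 𝓕 G U h y = x := by
  obtain ⟨j, y, hy⟩ := Concrete.colimit_exists_rep ((NP 𝓕).ι ⋙ G) x
  exact ⟨j.obj.unop, j.property, y, hy⟩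

lemma ιF_eq_iff {U U' : Opens X} (hU : 𝓕.P U) (hU' : 𝓕.P U')
    (y : G.obj (op U)) (y' : G.obj (op U')) :
    ιF 𝓕 G U hU y = ιF 𝓕 G U' hU' y' ↔
      ∃ (W : Opens X) (_ : 𝓕.P W) (l : W ≤ U) (l' : W ≤ U'), res G l y = res G l' y' := by
  constructor
  · intro h
    obtain ⟨k, f, g, hfg⟩ := (Concrete.colimit_rep_eq_iff_exists ((NP 𝓕).ι ⋙ G)
      (i := mkN 𝓕 U hU) (j := mkN 𝓕 U' hU') y y').mp h
    exact ⟨k.obj.unop, k.property, leOfHom f.hom.unop, leOfHom g.hom.unop, hfg⟩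
  · rintro ⟨W, hW, l, l', h⟩
    rw [← ιF_res 𝓕 G hU hW l, ← ιF_res 𝓕 G hU' hW l', h]

lemma ιF_eq_zero_iff {U : Opens X} (hU : 𝓕.P U) (y : G.obj (op U)) :
    ιF 𝓕 G U hU y = 0 ↔ ∃ (W : Opens X) (_ : 𝓕.P W) (l : W ≤ U), res G l y = 0 := by
  have h0 : (0 : colimF 𝓕 G) = ιF 𝓕 G U hU 0 := (map_zero _).symm
  rw [h0, ιF_eq_iff]
  constructor
  · rintro ⟨W, hW, l, l', h⟩
    exact ⟨W, hW, l, h.trans (map_zero _)⟩
  · rintro ⟨W, hW, l, h⟩
    exact ⟨W, hW, l, l, h.trans (map_zero _).symm⟩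

end Colim

section PcT

variable (T : Set X) (A : Type u) [AddCommGroup A]

/-- The presheaf `U ↦ ((U ∩ T).Nonempty → A)`. -/
noncomputable def PcT : (Opens X)ᵒᵖ ⥤ AddCommGrpCat.{u} where
  obj U := AddCommGrpCat.of (PLift (((U.unop : Opens X) : Set X) ∩ T).Nonempty → A)
  map {U V} i := AddCommGrpCat.ofHom
    { toFun := fun s h => s ⟨h.down.mono (fun _ hx => ⟨i.unop.le hx.1, hx.2⟩)⟩
      map_zero' := rfl
      map_add' := fun _ _ => rfl }
  map_id := by intro U; rfl
  map_comp := by intros; rfl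

variable {T A} in
/-- view a section as a function -/
def toFunT {V : Opens X} (s : ToType ((PcT T A).obj (op V))) :
    ((V : Set X) ∩ T).Nonempty → A := fun h => s ⟨h⟩

variable {T A} in
lemma toFunT_injective {V : Opens X} :
    Function.Injective (toFunT (T := T) (A := A) (V := V)) :=
  fun s t h => by
    funext ⟨x⟩
    exact congrFun h x

variable {T A} in
lemma toFunT_map {U V : Opens X} (i : V ⟶ U) (s : ToType ((PcT T A).obj (op U)))
    (h : ((V : Set X) ∩ T).Nonempty) :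
    toFunT ((PcT T A).map i.op s) h = toFunT s (h.mono (fun _ hx => ⟨i.le hx.1, hx.2⟩)) := rfl

theorem PcT_isSheaf (hT : IsPreirreducible T) : TopCat.Presheaf.IsSheaf (PcT T A) := by
  rw [TopCat.Presheaf.isSheaf_iff_isSheafUniqueGluing]
  intro ι U sf hsf
  have key : ∀ i j (hi : ((U i : Set X) ∩ T).Nonempty) (hj : ((U j : Set X) ∩ T).Nonempty),
      toFunT (sf i) hi = toFunT (sf j) hj := by
    intro i j hi hj
    obtain ⟨z, hzT, hz1, hz2⟩ := hT (U i : Set X) (U j : Set X) (U i).2 (U j).2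
      (by rwa [Set.inter_comm]) (by rwa [Set.inter_comm])
    have h1 := congrArg (fun t : ToType ((PcT T A).obj (op (U i ⊓ U j))) =>
      toFunT t ⟨z, ⟨hz1, hz2⟩, hzT⟩) (hsf i j)
    exact h1
  have ex : (((iSup U : Opens X) : Set X) ∩ T).Nonempty →
      ∃ i, ((U i : Set X) ∩ T).Nonempty := by
    rintro ⟨x, hx, hxT⟩
    obtain ⟨i, hi⟩ := Opens.mem_iSup.1 hx
    exact ⟨i, x, hi, hxT⟩
  let s : ToType ((PcT T A).obj (op (iSup U))) :=
    fun h => toFunT (sf (ex h.down).choose) (ex h.down).choose_spec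
  refine ⟨s, ?_, ?_⟩
  · intro i
    apply toFunT_injective
    funext hi
    rw [toFunT_map]
    exact key _ _ _ _
  · intro s' hs'
    apply toFunT_injective
    funext h
    have h2 := congrArg (fun t : ToType ((PcT T A).obj (op (U (ex h).choose))) =>
      toFunT t (ex h).choose_spec) (hs' (ex h).choose)
    exact h2

/-- The constant sheaf with value `A` on the preirreducible subset `T`, pushed to `X`. -/
noncomputable def PcTSheaf (hT : IsPreirreducible T) : CohTop.Ab X :=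
  ⟨PcT T A, PcT_isSheaf T A hT⟩

instance (hT : IsPreirreducible T) : TopCat.Sheaf.IsFlasque (PcTSheaf T A hT) where
  epi {U V} i := by
    rw [AddCommGrpCat.epi_iff_surjective]
    intro g
    classical
    refine ⟨fun h => if h' : ((V.unop : Set X) ∩ T).Nonempty then
      toFunT (V := V.unop) g h' else 0, ?_⟩
    apply toFunT_injective (V := V.unop)
    funext h'
    show (if h'' : ((V.unop : Set X) ∩ T).Nonempty then toFunT (V := V.unop) g h'' else 0) = _
    rw [dif_pos h']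

end PcT

section Supp

/-- `M` is supported on the closed subset `Z`: sections over opens missing `Z` vanish. -/
def SuppOn (M : CohTop.Ab X) (Z : Closeds X) : Prop :=
  ∀ (U : Opens X), U ≤ Z.compl → ∀ s : M.obj.obj (op U), s = 0

/-- a section which is locally zero is zero -/
lemma eq_zero_of_locally (F : CohTop.Ab X) {U : Opens X} (s : F.obj.obj (op U))
    (h : ∀ x ∈ U, ∃ (V : Opens X) (hV : V ≤ U), x ∈ V ∧ res F.obj hV s = 0) : s = 0 := by
  apply TopCat.Presheaf.IsSheaf.section_ext (F := F.obj) F.property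
  intro x hx
  obtain ⟨V, hV, hxV, hs⟩ := h x hx
  refine ⟨V, hV, hxV, ?_⟩
  rw [map_zero]
  exact hs

lemma eq_zero_of_cover₂ (F : CohTop.Ab X) {A B V : Opens X} (hA : A ≤ V) (hB : B ≤ V)
    (hV : V ≤ A ⊔ B) (s : F.obj.obj (op V)) (h₁ : res F.obj hA s = 0)
    (h₂ : res F.obj hB s = 0) : s = 0 := by
  apply eq_zero_of_locally
  intro x hx
  rcases hV hx with h | h
  · exact ⟨A, hA, h, h₁⟩
  · exact ⟨B, hB, h, h₂⟩

lemma compl_le_compl {Z Z' : Closeds X} (h : Z ≤ Z') : Z'.compl ≤ Z.compl := by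
  intro x hx hxZ
  exact hx (h hxZ)

lemma SuppOn.mono {M : CohTop.Ab X} {Z Z' : Closeds X} (hM : SuppOn M Z) (h : Z ≤ Z') :
    SuppOn M Z' :=
  fun U hU s => hM U (hU.trans (compl_le_compl h)) s

lemma SuppOn.of_mono {K M : CohTop.Ab X} (κ : K ⟶ M) [Mono κ] {Z : Closeds X}
    (hM : SuppOn M Z) : SuppOn K Z := by
  intro U hU s
  apply app_injective κ U
  rw [map_zero]
  exact hM U hU _

lemma SuppOn.of_epi {M C : CohTop.Ab X} (π : M ⟶ C) [Epi π] {Z : Closeds X}
    (hM : SuppOn M Z) : SuppOn C Z := by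
  intro U hU c
  apply eq_zero_of_locally
  intro x hx
  obtain ⟨W, hW, hxW, t, ht⟩ := exists_local_lift π c x hx
  refine ⟨W, hW, hxW, ?_⟩
  rw [← ht, hM W (hW.trans hU) t, map_zero]

lemma suppOn_PcT (T : Set X) (A : Type u) [AddCommGroup A] (hT : IsPreirreducible T)
    (Z : Closeds X) (hTZ : T ⊆ (Z : Set X)) : SuppOn (PcTSheaf T A hT) Z := by
  intro U hU s
  apply toFunT_injective (T := T) (A := A) (V := U)
  funext h
  obtain ⟨x, hxU, hxT⟩ := h
  exact absurd (hTZ hxT) (hU hxU)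

end Supp

end Groth.Agent.Lib.GVanH2
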