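import Mathlib
import Groth.Prelude.Def_CohTop
import Groth.Agent.Lib.GV1_helper2

/-!
# Grothendieck vanishing, part 2 (helper2)

* the generic stalk of a sheaf along an irreducible subset `T`, the map `η : M ⟶ GenSheaf T M` to
  the flasque sheaf "constant on `T`", and the fact that its kernel and cokernel are generically
  zero (`GenZero`);
* `HV F p`: vanishing of `Ext^p(ℤ[⊤], F)`; long exact sequence consequences; comparison with
  `CohTop.H`;
* the two short exact sequences attached to a morphism.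
APPEND-ONLY once landed.
-/

set_option autoImplicit false
universe u
open CategoryTheory CategoryTheory.Limits TopologicalSpace Opposite

namespace Groth.Agent.Lib.GVanH2

open Groth.Agent.Lib.Cech Groth.Agent.Lib.FreeSheaf

variable {X : TopCat.{u}}

/-- the filter base of opens meeting an irreducible subset -/
def genFilt (T : Set X) (hT : IsIrreducible T) : OFilt X where
  P U := ((U : Set X) ∩ T).Nonempty
  top := by
    obtain ⟨x, hx⟩ := hT.nonempty
    exact ⟨x, trivial, hx⟩
  inf U V hU hV := by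
    obtain ⟨z, hzT, hz1, hz2⟩ := hT.isPreirreducible (U : Set X) (V : Set X) U.2 V.2
      (by rwa [Set.inter_comm]) (by rwa [Set.inter_comm])
    exact ⟨z, ⟨hz1, hz2⟩, hzT⟩

section Gen

variable (T : Set X) (hT : IsIrreducible T) (M : CohTop.Ab X)

/-- the generic stalk of `M` along `T` -/
noncomputable abbrev genStalk : AddCommGrpCat.{u} := colimF (genFilt T hT) M.obj

/-- the flasque sheaf: constant on `T` with value the generic stalk -/
noncomputable abbrev GenSheaf : CohTop.Ab X :=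
  PcTSheaf T (genStalk T hT M : AddCommGrpCat.{u}) hT.isPreirreducible

/-- the canonical map to the generic constant sheaf -/
noncomputable def η : M ⟶ GenSheaf T hT M := ⟨{
  app := fun U => AddCommGrpCat.ofHom
    { toFun := fun s h => ιF (genFilt T hT) M.obj U.unop h.down s
      map_zero' := by
        funext h
        exact map_zero _
      map_add' := fun s t => by
        funext h
        exact map_add _ s t }
  naturality := fun U V i => by
    ext s
    funext h
    exact ιF_res (genFilt T hT) M.obj _ h.down (leOfHom i.unop) s }⟩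

lemma η_apply (U : Opens X) (s : M.obj.obj (op U)) (h : ((U : Set X) ∩ T).Nonempty) :
    toFunT (((η T hT M).hom.app (op U)).hom s) h = ιF (genFilt T hT) M.obj U h s := rfl

/-- generically zero along `T` -/
def GenZero (T : Set X) (K : CohTop.Ab X) : Prop :=
  ∀ (U : Opens X) (s : K.obj.obj (op U)), ((U : Set X) ∩ T).Nonempty →
    ∃ (W : Opens X) (hW : W ≤ U), ((W : Set X) ∩ T).Nonempty ∧ res K.obj hW s = 0

variable {T hT M}

lemma genZero_of_mono {K : CohTop.Ab X} (κ : K ⟶ M) [Mono κ] (h : κ ≫ η T hT M = 0) :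
    GenZero T K := by
  intro U s hU
  have h1 : ((η T hT M).hom.app (op U)).hom ((κ.hom.app (op U)).hom s) = 0 := by
    have := congrArg (fun ψ : K ⟶ GenSheaf T hT M => (ψ.hom.app (op U)).hom s) h
    exact this
  have h2 : ιF (genFilt T hT) M.obj U hU ((κ.hom.app (op U)).hom s) = 0 := by
    have := congrArg (fun t => toFunT t hU) h1
    exact this
  obtain ⟨W, hW, l, hl⟩ := (ιF_eq_zero_iff _ _ hU _).mp h2
  refine ⟨W, l, hW, ?_⟩
  apply app_injective κ W
  rw [map_zero, res_app]
  exact hl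

lemma genZero_of_epi {C : CohTop.Ab X} (π : GenSheaf T hT M ⟶ C) [Epi π]
    (h : η T hT M ≫ π = 0) : GenZero T C := by
  intro U c hU
  obtain ⟨x, hxU, hxT⟩ := hU
  obtain ⟨V, hV, hxV, g, hg⟩ := exists_local_lift π c x hxU
  have hVT : ((V : Set X) ∩ T).Nonempty := ⟨x, hxV, hxT⟩
  obtain ⟨W', hW', m, hm⟩ := exists_rep (genFilt T hT) M.obj (toFunT g hVT)
  have hW : (((V ⊓ W' : Opens X) : Set X) ∩ T).Nonempty := (genFilt T hT).inf V W' hVT hW'
  refine ⟨V ⊓ W', inf_le_left.trans hV, hW, ?_⟩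
  have h1 : res (GenSheaf T hT M).obj (inf_le_left : V ⊓ W' ≤ V) g =
      ((η T hT M).hom.app (op (V ⊓ W'))).hom (res M.obj (inf_le_right : V ⊓ W' ≤ W') m) := by
    apply toFunT_injective (V := V ⊓ W')
    funext h'
    show toFunT g _ = ιF (genFilt T hT) M.obj (V ⊓ W') h' (res M.obj inf_le_right m)
    rw [ιF_res (genFilt T hT) M.obj hW' h' inf_le_right m, hm]
  have h2 : res C.obj (inf_le_left.trans hV : V ⊓ W' ≤ U) c =
      res C.obj (inf_le_left : V ⊓ W' ≤ V) (res C.obj hV c) := (res_res _ _ _ _).symm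
  rw [h2, ← hg, ← res_app, h1]
  have := congrArg (fun ψ : M ⟶ C =>
    (ψ.hom.app (op (V ⊓ W'))).hom (res M.obj inf_le_right m)) h
  exact this

end Gen

section HV

/-- vanishing of `H^p(X, F)`, in the form `Ext^p(ℤ[⊤], F) = 0` -/
def HV (F : CohTop.Ab X) (p : ℕ) : Prop :=
  ∀ x : Abelian.Ext (freeSheaf (Opens.grothendieckTopology X) (⊤ : Opens X)) F p, x = 0

lemma HV.of_iso {F F' : CohTop.Ab X} (e : F ≅ F') {p : ℕ} (h : HV F p) : HV F' p := by
  intro x
  have h1 : x = (x.comp (Abelian.Ext.mk₀ e.inv) (add_zero p)).comp (Abelian.Ext.mk₀ e.hom)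
      (add_zero p) := by
    rw [Abelian.Ext.comp_assoc_of_third_deg_zero, Abelian.Ext.mk₀_comp_mk₀, e.inv_hom_id,
      Abelian.Ext.comp_mk₀_id]
  rw [h1, h (x.comp (Abelian.Ext.mk₀ e.inv) (add_zero p)), Abelian.Ext.zero_comp]

lemma HV.of_sections_zero {F : CohTop.Ab X}
    (h : ∀ (U : Opens X) (s : F.obj.obj (op U)), s = 0) (p : ℕ) : HV F p := by
  intro x
  have h0 : 𝟙 F = 0 := by
    ext : 2
    funext U
    ext s
    exact (h U.unop _).trans (h U.unop _).symm
  have h1 : x = x.comp (Abelian.Ext.mk₀ (𝟙 F)) (add_zero p) := (Abelian.Ext.comp_mk₀_id x).symm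
  rw [h1, h0, Abelian.Ext.mk₀_zero, Abelian.Ext.comp_zero]

lemma HV.mid {S : ShortComplex (CohTop.Ab X)} (hS : S.ShortExact) {p : ℕ} (h₁ : HV S.X₁ p)
    (h₃ : HV S.X₃ p) : HV S.X₂ p := by
  intro x
  obtain ⟨x₁, hx₁⟩ := Abelian.Ext.covariant_sequence_exact₂ _ hS x (h₃ _)
  rw [← hx₁, h₁ x₁, Abelian.Ext.zero_comp]

lemma HV.left {S : ShortComplex (CohTop.Ab X)} (hS : S.ShortExact) {p : ℕ}
    (h₂ : HV S.X₂ (p + 1)) (h₃ : HV S.X₃ p) : HV S.X₁ (p + 1) := by
  intro x
  obtain ⟨x₃, hx₃⟩ := Abelian.Ext.covariant_sequence_exact₁ _ hS x (h₂ _) rfl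
  rw [← hx₃, h₃ x₃, Abelian.Ext.zero_comp]

lemma HV.of_isFlasque (F : CohTop.Ab X) [TopCat.Sheaf.IsFlasque F] (p : ℕ) : HV F (p + 1) :=
  fun x => Groth.Agent.Lib.FlasqueAcyclic.ext_freeSheaf_eq_zero_of_isFlasque F ⊤ p x

open Groth.Agent.Lib.FlasqueAcyclic in
/-- the constant sheaf `ℤ` -/
noncomputable abbrev Zc (X : TopCat.{u}) : CohTop.Ab X :=
  (constantSheaf (Opens.grothendieckTopology X) AddCommGrpCat.{u}).obj
    (AddCommGrpCat.of (ULift ℤ))

open Groth.Agent.Lib.FlasqueAcyclic in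
/-- `ℤ[⊤] ⟶ ℤ` -/
noncomputable def aa (X : TopCat.{u}) :
    freeSheaf (Opens.grothendieckTopology X) (⊤ : Opens X) ⟶ Zc X :=
  (freeSheafHomEquiv (Opens.grothendieckTopology X) (⊤ : Opens X) (Zc X)).symm
    (constEquiv (Zc X) (𝟙 (Zc X)))

open Groth.Agent.Lib.FlasqueAcyclic in
/-- `ℤ ⟶ ℤ[⊤]` -/
noncomputable def bb (X : TopCat.{u}) :
    Zc X ⟶ freeSheaf (Opens.grothendieckTopology X) (⊤ : Opens X) :=
  (constEquiv (freeSheaf (Opens.grothendieckTopology X) (⊤ : Opens X))).symm
    (freeSheafHomEquiv (Opens.grothendieckTopology X) (⊤ : Opens X) _ (𝟙 _))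

open Groth.Agent.Lib.FlasqueAcyclic in
lemma bb_aa (X : TopCat.{u}) : bb X ≫ aa X = 𝟙 (Zc X) := by
  apply (constEquiv (Zc X)).injective
  rw [constEquiv_comp]
  have h1 : constEquiv _ (bb X) =
      freeSheafHomEquiv (Opens.grothendieckTopology X) (⊤ : Opens X) _ (𝟙 _) :=
    Equiv.apply_symm_apply _ _
  rw [h1, ← freeSheafHomEquiv_comp, Category.id_comp]
  exact Equiv.apply_symm_apply _ _

theorem subsingleton_H_of_HV {F : CohTop.Ab X} {p : ℕ} (h : HV F p) :
    Subsingleton (CohTop.H F p) := by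
  have key : ∀ ξ : CohTop.H F p, ξ = 0 := by
    intro ξ
    have h1 : ξ = (Abelian.Ext.mk₀ (bb X)).comp ((Abelian.Ext.mk₀ (aa X)).comp ξ (zero_add p))
        (zero_add p) := by
      rw [Abelian.Ext.mk₀_comp_mk₀_assoc, bb_aa, Abelian.Ext.mk₀_id_comp]
    rw [h1, h ((Abelian.Ext.mk₀ (aa X)).comp ξ (zero_add p)), Abelian.Ext.comp_zero]
  exact ⟨fun ξ ξ' => (key ξ).trans (key ξ').symm⟩

end HV

section SES

variable {F G : CohTop.Ab X} (f : F ⟶ G)

/-- `0 → ker f → F → im f → 0` -/
noncomputable def kerSC : ShortComplex (CohTop.Ab X) :=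
  ShortComplex.mk (kernel.ι f) (Abelian.factorThruImage f) (by
    rw [← cancel_mono (Abelian.image.ι f), Category.assoc, Abelian.image.fac, kernel.condition,
      zero_comp])

lemma kerSC_shortExact : (kerSC f).ShortExact where
  exact := ShortComplex.exact_of_f_is_kernel _
    (isKernelOfComp (Abelian.image.ι f) f (kernelIsKernel f) (kerSC f).zero (Abelian.image.fac f))
  mono_f := by
    show Mono (kernel.ι f)
    infer_instance
  epi_g := by
    show Epi (Abelian.factorThruImage f)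
    infer_instance

/-- `0 → im f → G → coker f → 0` -/
noncomputable def cokerSC : ShortComplex (CohTop.Ab X) :=
  ShortComplex.mk (Abelian.image.ι f) (cokernel.π f) (kernel.condition _)

lemma cokerSC_shortExact : (cokerSC f).ShortExact where
  exact := ShortComplex.exact_of_f_is_kernel _ (kernelIsKernel (cokernel.π f))
  mono_f := by
    show Mono (Abelian.image.ι f)
    infer_instance
  epi_g := by
    show Epi (cokernel.π f)
    infer_instance

end SES

end Groth.Agent.Lib.GVanH2
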