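import Mathlib
import Groth.Prelude.Def_CohTop
import Groth.Agent.Lib.CechConcrete_helper2

/-!
# Vanishing of Čech `H^1` on refinements gives surjectivity on sections
-/

set_option autoImplicit false
universe u
open CategoryTheory Limits TopologicalSpace Opposite

namespace Groth.Agent.Lib.Cech

variable {X : TopCat.{u}}

lemma res_congr_idx (P : (Opens X)ᵒᵖ ⥤ AddCommGrpCat.{u}) {κ : Type*} {A : κ → Opens X}
    (g : ∀ k, P.obj (op (A k))) {k k' : κ} (e : k = k') {V : Opens X} (h : V ≤ A k)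
    (h' : V ≤ A k') : res P h (g k) = res P h' (g k') := by
  subst e
  rfl

theorem surjective_of_cechH1 (S : ShortComplex (CohTop.Ab X)) (hS : S.ShortExact) (U : Opens X)
    (h : ∀ (ι : Type u) (V : ι → Opens X), iSup V = U →
      ∃ (κ : Type u) (W : κ → Opens X) (r : κ → ι), iSup W = U ∧ (∀ k, W k ≤ V (r k)) ∧
        IsZero (CohTop.cechH S.X₁.obj W 1)) :
    Function.Surjective (S.g.hom.app (op U)).hom := by
  classical
  intro s
  haveI := hS.epi_g
  haveI := hS.mono_f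
  have hloc : ∀ x : U, ∃ (V : Opens X) (hV : V ≤ U), x.1 ∈ V ∧ ∃ t : S.X₂.obj.obj (op V),
      (S.g.hom.app (op V)).hom t = res S.X₃.obj hV s := fun x => exists_local_lift S.g s x.1 x.2
  choose V hVU hxV t ht using hloc
  have hsup : iSup V = U := le_antisymm (iSup_le hVU)
    (fun x hx => Opens.mem_iSup.2 ⟨⟨x, hx⟩, hxV ⟨x, hx⟩⟩)
  obtain ⟨κ, W, r, hW, hWV, hH⟩ := h U V hsup
  rw [isZero_cechH_succ_iff S.X₁.obj W 0] at hH
  have hWU : ∀ k, W k ≤ U := fun k => (hWV k).trans (hVU (r k))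
  obtain ⟨t', ht'def⟩ : ∃ t' : ∀ k, S.X₂.obj.obj (op (W k)),
      ∀ k, t' k = res S.X₂.obj (hWV k) (t (r k)) := ⟨_, fun _ => rfl⟩
  have ht' : ∀ k, (S.g.hom.app (op (W k))).hom (t' k) = res S.X₃.obj (hWU k) s := by
    intro k
    rw [ht'def, res_app, ht, res_res]
  have hle : ∀ (σ : Fin 2 → κ) (j : Fin 2), (⨅ j, W (σ j)) ≤ W (σ j) :=
    fun σ j => iInf_le (fun j => W (σ j)) j
  have hc : ∀ σ : Fin 2 → κ, ∃ a : S.X₁.obj.obj (op (⨅ j, W (σ j))),
      (S.f.hom.app _).hom a = res S.X₂.obj (hle σ 1) (t' (σ 1)) - res S.X₂.obj (hle σ 0) (t' (σ 0)) := by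
    intro σ
    apply exists_of_app_eq_zero S hS
    rw [map_sub, res_app, res_app, ht', ht', res_res, res_res, sub_self]
  choose a ha using hc
  have hDa : D S.X₁.obj W 1 a = 0 := by
    funext τ
    apply app_injective S.f
    rw [D_apply, map_sum, Fin.sum_univ_three]
    simp only [map_zsmul, res_app, ha, map_sub, res_res]
    have hτ : ∀ j : Fin 3, (⨅ j, W (τ j)) ≤ W (τ j) := fun j => iInf_le (fun j => W (τ j)) j
    rw [res_congr_idx S.X₂.obj t' (k' := τ 2) (show (τ ∘ Fin.succAbove 0) 1 = τ 2 from rfl) _ (hτ 2),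
      res_congr_idx S.X₂.obj t' (k' := τ 1) (show (τ ∘ Fin.succAbove 0) 0 = τ 1 from rfl) _ (hτ 1),
      res_congr_idx S.X₂.obj t' (k' := τ 2) (show (τ ∘ Fin.succAbove 1) 1 = τ 2 from rfl) _ (hτ 2),
      res_congr_idx S.X₂.obj t' (k' := τ 0) (show (τ ∘ Fin.succAbove 1) 0 = τ 0 from rfl) _ (hτ 0),
      res_congr_idx S.X₂.obj t' (k' := τ 1) (show (τ ∘ Fin.succAbove 2) 1 = τ 1 from rfl) _ (hτ 1),
      res_congr_idx S.X₂.obj t' (k' := τ 0) (show (τ ∘ Fin.succAbove 2) 0 = τ 0 from rfl) _ (hτ 0)]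
    simp only [Fin.val_zero, Fin.val_one, Fin.val_two, pow_zero, pow_one, one_smul, neg_smul,
      Pi.zero_apply, map_zero]
    rw [show ((-1 : ℤ) ^ 2) = 1 by norm_num, one_smul]
    abel
  obtain ⟨b, hb⟩ := hH a hDa
  have hk1 : ∀ k : κ, W k ≤ ⨅ j : Fin 1, W ((fun _ => k : Fin 1 → κ) j) :=
    fun k => le_iInf fun _ => le_rfl
  obtain ⟨bk, hbk⟩ : ∃ bk : ∀ k, S.X₁.obj.obj (op (W k)),
      ∀ k, bk k = res S.X₁.obj (hk1 k) (b (fun _ => k)) := ⟨_, fun _ => rfl⟩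
  have hab : ∀ (σ : Fin 2 → κ), a σ =
      res S.X₁.obj (hle σ 1) (bk (σ 1)) - res S.X₁.obj (hle σ 0) (bk (σ 0)) := by
    intro σ
    rw [← hb, D_apply, Fin.sum_univ_two]
    simp only [Fin.val_zero, Fin.val_one, pow_zero, pow_one, one_smul, neg_smul]
    rw [hbk, hbk, res_res, res_res, sub_eq_add_neg]
    congr 1
    · exact res_congr_idx S.X₁.obj (A := fun c : Fin 1 → κ => ⨅ j, W (c j)) b
        (funext fun j => by fin_cases j; rfl) _ _
    · congr 1
      exact res_congr_idx S.X₁.obj (A := fun c : Fin 1 → κ => ⨅ j, W (c j)) b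
        (funext fun j => by fin_cases j; rfl) _ _
  obtain ⟨t'', ht''⟩ : ∃ t'' : ∀ k, S.X₂.obj.obj (op (W k)),
      ∀ k, t'' k = t' k - (S.f.hom.app (op (W k))).hom (bk k) := ⟨_, fun _ => rfl⟩
  have hcompat : ∀ k l, res S.X₂.obj (inf_le_left : W k ⊓ W l ≤ W k) (t'' k) =
      res S.X₂.obj (inf_le_right : W k ⊓ W l ≤ W l) (t'' l) := by
    intro k l
    have hσ : W k ⊓ W l ≤ ⨅ j, W ((![k, l] : Fin 2 → κ) j) := le_iInf fun j => by
      fin_cases j
      · exact inf_le_left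
      · exact inf_le_right
    have h1 := congrArg (res S.X₂.obj hσ) (ha ![k, l])
    rw [hab] at h1
    simp only [map_sub, res_app, res_res] at h1
    have h2 : res S.X₂.obj (inf_le_right : W k ⊓ W l ≤ W l) ((S.f.hom.app (op (W l))).hom (bk l)) -
        res S.X₂.obj (inf_le_left : W k ⊓ W l ≤ W k) ((S.f.hom.app (op (W k))).hom (bk k)) =
        res S.X₂.obj (inf_le_right : W k ⊓ W l ≤ W l) (t' l) -
        res S.X₂.obj (inf_le_left : W k ⊓ W l ≤ W k) (t' k) := h1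
    rw [ht'', ht'', map_sub, map_sub]
    rw [sub_eq_sub_iff_add_eq_add] at h2 ⊢
    rw [add_comm]
    exact h2
  obtain ⟨T, hT⟩ := glue S.X₂ W U hWU hW.ge t'' hcompat
  refine ⟨T, ?_⟩
  apply ext_of_cover S.X₃ W U hWU hW.ge
  intro k
  rw [← res_app, hT k, ht'', map_sub, ht', app_comp_zero, sub_zero]

end Groth.Agent.Lib.Cech
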