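import Mathlib
import Groth.Prelude.Def_CohTop
import Groth.Agent.Lib.CechConcrete_helper2
import Groth.Agent.Lib.CechH1Surj_helper2

/-!
# Vanishing of Čech cohomology for sheaves with surjective restriction maps

We prove that if `F` is an abelian sheaf and `U` a family of opens such that `F(⋃ U) → F(U')` is
surjective for all unions `U'` of finite intersections of members of the family, then the Čech
cohomology of `F` with respect to the family vanishes in positive degrees.  The proof is a Zorn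
argument on the subfamilies over which a given cocycle is a coboundary.
-/

set_option autoImplicit false
universe u
open CategoryTheory Limits TopologicalSpace Opposite

namespace Groth.Agent.Lib.Cech

variable {X : TopCat.{u}}

lemma mem_iInf_fin {n : ℕ} (A : Fin n → Opens X) (x : X) : x ∈ (⨅ k, A k) ↔ ∀ k, x ∈ A k := by
  rw [← SetLike.mem_coe, Opens.coe_iInf]
  simp

section Restr

variable (P : (Opens X)ᵒᵖ ⥤ AddCommGrpCat.{u}) {ι : Type u} {U U' U'' : ι → Opens X}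

/-- restriction of cochains to a smaller family -/
def restr (h : ∀ i, U' i ≤ U i) (n : ℕ) : Coch P U n →+ Coch P U' n where
  toFun β σ := res P (iInf_mono fun k => h (σ k)) (β σ)
  map_zero' := by
    funext σ
    simp
  map_add' β γ := by
    funext σ
    simp

lemma restr_apply (h : ∀ i, U' i ≤ U i) (n : ℕ) (β : Coch P U n) (σ : Fin (n + 1) → ι) :
    restr P h n β σ = res P (iInf_mono fun k => h (σ k)) (β σ) := rfl

lemma restr_restr (h : ∀ i, U' i ≤ U i) (h' : ∀ i, U'' i ≤ U' i) (n : ℕ) (β : Coch P U n) :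
    restr P h' n (restr P h n β) = restr P (fun i => (h' i).trans (h i)) n β := by
  funext σ
  simp only [restr_apply, res_res]

lemma restr_self (h : ∀ i, U i ≤ U i) (n : ℕ) (β : Coch P U n) : restr P h n β = β := by
  funext σ
  rw [restr_apply, res_self]

lemma restr_D (h : ∀ i, U' i ≤ U i) (n : ℕ) (β : Coch P U n) :
    D P U' n (restr P h n β) = restr P h (n + 1) (D P U n β) := by
  funext σ
  rw [D_apply, restr_apply, D_apply, map_sum]
  refine Finset.sum_congr rfl fun k _ => ?_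
  rw [map_zsmul, restr_apply, res_res, res_res]

end Restr

section Htpy

variable (P : (Opens X)ᵒᵖ ⥤ AddCommGrpCat.{u}) {ι : Type u} (W : ι → Opens X) (i₀ : ι)
  (hW : ∀ i, W i ≤ W i₀)

include hW in
lemma cons_le {n : ℕ} (σ : Fin (n + 1) → ι) :
    (⨅ k, W (σ k)) ≤ ⨅ k, W ((Fin.cons i₀ σ : Fin (n + 2) → ι) k) :=
  le_iInf fun k => by
    refine Fin.cases ?_ (fun j => ?_) k
    · simp only [Fin.cons_zero]
      exact (iInf_le (fun k => W (σ k)) 0).trans (hW (σ 0))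
    · simp only [Fin.cons_succ]
      exact iInf_le (fun k => W (σ k)) j

/-- the contracting homotopy for a family having a largest member -/
def hh (n : ℕ) : Coch P W (n + 1) →+ Coch P W n where
  toFun γ σ := res P (cons_le W i₀ hW σ) (γ (Fin.cons i₀ σ))
  map_zero' := by
    funext σ
    simp
  map_add' β γ := by
    funext σ
    simp

lemma hh_apply (n : ℕ) (γ : Coch P W (n + 1)) (σ : Fin (n + 1) → ι) :
    hh P W i₀ hW n γ σ = res P (cons_le W i₀ hW σ) (γ (Fin.cons i₀ σ)) := rfl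

lemma cons_comp_succAbove_zero {n : ℕ} (σ : Fin (n + 1) → ι) :
    (Fin.cons i₀ σ : Fin (n + 2) → ι) ∘ Fin.succAbove 0 = σ := by
  funext j
  simp [Fin.succAbove_zero]

lemma cons_comp_succAbove_succ {n : ℕ} (σ : Fin (n + 2) → ι) (k : Fin (n + 2)) :
    (Fin.cons i₀ σ : Fin (n + 3) → ι) ∘ Fin.succAbove k.succ =
      Fin.cons i₀ (σ ∘ Fin.succAbove k) := by
  funext j
  refine Fin.cases ?_ (fun j' => ?_) j
  · simp
  · simp [Fin.succ_succAbove_succ]

lemma hh_D (n : ℕ) (γ : Coch P W (n + 1)) :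
    D P W n (hh P W i₀ hW n γ) + hh P W i₀ hW (n + 1) (D P W (n + 1) γ) = γ := by
  funext σ
  have t0 : res P (cons_le W i₀ hW σ) ((-1 : ℤ) ^ ((0 : Fin (n + 3)) : ℕ) •
      res P (face_le W (Fin.cons i₀ σ) 0) (γ ((Fin.cons i₀ σ : Fin (n + 3) → ι) ∘ Fin.succAbove 0))) =
      γ σ := by
    rw [Fin.val_zero, pow_zero, one_smul, res_res]
    rw [res_congr_idx P (A := fun c : Fin (n + 2) → ι => ⨅ k, W (c k)) γ
      (cons_comp_succAbove_zero i₀ σ) _ (le_refl _), res_self]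
  have tk : ∀ k : Fin (n + 2), res P (cons_le W i₀ hW σ) ((-1 : ℤ) ^ ((k.succ : Fin (n + 3)) : ℕ) •
      res P (face_le W (Fin.cons i₀ σ) k.succ)
        (γ ((Fin.cons i₀ σ : Fin (n + 3) → ι) ∘ Fin.succAbove k.succ))) =
      - ((-1 : ℤ) ^ (k : ℕ) • res P (face_le W σ k) (hh P W i₀ hW n γ (σ ∘ Fin.succAbove k))) := by
    intro k
    rw [Fin.val_succ, pow_succ, mul_neg_one, neg_smul, map_neg, map_zsmul, res_res, hh_apply, res_res]
    congr 2
    exact res_congr_idx P (A := fun c : Fin (n + 2) → ι => ⨅ k, W (c k)) γ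
      (cons_comp_succAbove_succ i₀ σ k) _ _
  have e2 : hh P W i₀ hW (n + 1) (D P W (n + 1) γ) σ =
      γ σ - D P W n (hh P W i₀ hW n γ) σ := by
    rw [hh_apply, D_apply, map_sum, Fin.sum_univ_succ, t0]
    simp only [tk]
    rw [Finset.sum_neg_distrib, D_apply]
    abel
  rw [Pi.add_apply, e2]
  abel

include hW in
/-- a `0`-cocycle for a family with a largest member is determined by its value there -/
lemma eq_res_of_D_zero (ζ : Coch P W 0) (hζ : D P W 0 ζ = 0) (σ : Fin 1 → ι)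
    (h : (⨅ k, W (σ k)) ≤ ⨅ k, W ((fun _ => i₀ : Fin 1 → ι) k)) :
    ζ σ = res P h (ζ (fun _ => i₀)) := by
  have h1 : hh P W i₀ hW 0 (D P W 0 ζ) σ = 0 := by
    rw [hζ, map_zero]
    rfl
  rw [hh_apply, D_apply, map_sum, Fin.sum_univ_two] at h1
  simp only [Fin.val_zero, Fin.val_one, pow_zero, pow_one, one_smul, neg_smul, map_neg, res_res]
    at h1
  rw [← sub_eq_add_neg, sub_eq_zero] at h1
  rw [res_congr_idx P (A := fun c : Fin 1 → ι => ⨅ k, W (c k)) ζ
      (cons_comp_succAbove_zero i₀ σ) _ (le_refl _), res_self] at h1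
  rw [h1]
  exact res_congr_idx P (A := fun c : Fin 1 → ι => ⨅ k, W (c k)) ζ
    (funext fun j => by fin_cases j; rfl) _ _

end Htpy

section Main

variable (F : CohTop.Ab X) {ι : Type u} (U : ι → Opens X)

/-- the family restricted to an open -/
def rF (V : Opens X) : ι → Opens X := fun i => V ⊓ U i

lemma rF_le (V : Opens X) (i : ι) : rF U V i ≤ U i := inf_le_right

lemma rF_mono {V V' : Opens X} (h : V' ≤ V) (i : ι) : rF U V' i ≤ rF U V i :=
  inf_le_inf_right _ h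

/-- union of a subfamily -/
def VS (S : Set ι) : Opens X := ⨆ i : S, U i.1

lemma VS_mono {S S' : Set ι} (h : S ⊆ S') : VS U S ≤ VS U S' :=
  iSup_le fun i => le_iSup (fun i : S' => U i.1) ⟨i.1, h i.2⟩

lemma le_VS {S : Set ι} {i : ι} (hi : i ∈ S) : U i ≤ VS U S :=
  le_iSup (fun i : S => U i.1) ⟨i, hi⟩

lemma VS_insert_le (S : Set ι) (i₀ : ι) : VS U (insert i₀ S) ≤ VS U S ⊔ U i₀ :=
  iSup_le fun i => by
    rcases i.2 with h | h
    · rw [h]
      exact le_sup_right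
    · exact (le_VS U h).trans le_sup_left

lemma mem_VS {S : Set ι} {x : X} : x ∈ VS U S ↔ ∃ i ∈ S, x ∈ U i := by
  unfold VS
  rw [Opens.mem_iSup]
  constructor
  · rintro ⟨i, hi⟩
    exact ⟨i.1, i.2, hi⟩
  · rintro ⟨i, hi, hx⟩
    exact ⟨⟨i, hi⟩, hx⟩

/-- the surjectivity hypothesis -/
def SurjHyp : Prop := ∀ (κ : Type u) (a : κ → Σ p : ℕ, Fin (p + 1) → ι) (A : Opens X)
    (hA : (⨆ k, ⨅ j, U ((a k).2 j)) ≤ A), A ≤ iSup U → Function.Surjective (res F.obj hA)

variable {F U}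

lemma surj_aux (hs : SurjHyp F U) (S : Set ι) {m : ℕ} (c : Fin (m + 1) → ι) (A B : Opens X)
    (hBA : B ≤ A) (hAW : A ≤ iSup U)
    (h1 : B ≤ ⨆ i : S, ⨅ j, U ((Fin.cons i.1 c : Fin (m + 2) → ι) j))
    (h2 : (⨆ i : S, ⨅ j, U ((Fin.cons i.1 c : Fin (m + 2) → ι) j)) ≤ B) :
    Function.Surjective (res F.obj hBA) := by
  intro x
  obtain ⟨y, hy⟩ := hs S (fun i => ⟨m + 1, Fin.cons i.1 c⟩) A (h2.trans hBA) hAW (res F.obj h2 x)
  refine ⟨y, ?_⟩
  have := congrArg (res F.obj h1) hy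
  rw [res_res, res_res, res_self] at this
  exact this

lemma adjust (hs : SurjHyp F U) (S : Set ι) (i₀ : ι) (p : ℕ) (α : Coch F.obj U (p + 1))
    (hα : D F.obj U (p + 1) α = 0)
    (β₁ : Coch F.obj (rF U (VS U S)) p)
    (hβ₁ : D F.obj (rF U (VS U S)) p β₁ = restr F.obj (rF_le U (VS U S)) (p + 1) α) :
    ∃ β₂ : Coch F.obj (rF U (U i₀)) p,
      D F.obj (rF U (U i₀)) p β₂ = restr F.obj (rF_le U (U i₀)) (p + 1) α ∧
      restr F.obj (rF_mono U (inf_le_right : VS U S ⊓ U i₀ ≤ U i₀)) p β₂ =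
        restr F.obj (rF_mono U (inf_le_left : VS U S ⊓ U i₀ ≤ VS U S)) p β₁ := by
  have hW₂ : ∀ i, rF U (U i₀) i ≤ rF U (U i₀) i₀ := fun i => le_inf inf_le_left inf_le_left
  have hW₁₂ : ∀ i, rF U (VS U S ⊓ U i₀) i ≤ rF U (VS U S ⊓ U i₀) i₀ :=
    fun i => le_inf inf_le_left (inf_le_left.trans inf_le_right)
  obtain ⟨α₂, hα₂⟩ : ∃ α₂, α₂ = restr F.obj (rF_le U (U i₀)) (p + 1) α := ⟨_, rfl⟩
  have hDα₂ : D F.obj _ (p + 1) α₂ = 0 := by rw [hα₂, restr_D, hα, map_zero]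
  obtain ⟨β', hβ'⟩ : ∃ β', β' = hh F.obj _ i₀ hW₂ p α₂ := ⟨_, rfl⟩
  have hDβ' : D F.obj _ p β' = α₂ := by
    have := hh_D F.obj _ i₀ hW₂ p α₂
    rw [hDα₂, map_zero, add_zero] at this
    rw [hβ']
    exact this
  obtain ⟨ζ, hζ⟩ : ∃ ζ, ζ = restr F.obj (rF_mono U (inf_le_left : VS U S ⊓ U i₀ ≤ VS U S)) p β₁ -
      restr F.obj (rF_mono U (inf_le_right : VS U S ⊓ U i₀ ≤ U i₀)) p β' := ⟨_, rfl⟩
  have hDζ : D F.obj _ p ζ = 0 := by
    rw [hζ, map_sub, restr_D, restr_D, hβ₁, hDβ', hα₂, restr_restr, restr_restr, sub_self]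
  have hUi₀ : U i₀ ≤ iSup U := le_iSup U i₀
  cases p with
  | zero =>
    have hB₀ : (⨅ k, rF U (VS U S ⊓ U i₀) ((fun _ => i₀ : Fin 1 → ι) k)) ≤ U i₀ :=
      (iInf_le _ 0).trans (inf_le_left.trans inf_le_right)
    obtain ⟨s', hs'⟩ := surj_aux hs S (fun _ => i₀ : Fin 1 → ι) (U i₀) _ hB₀ hUi₀
      (by
        intro x hx
        rw [mem_iInf_fin] at hx
        obtain ⟨i, hi, hxi⟩ := (mem_VS U).1 (hx 0).1.1
        rw [Opens.mem_iSup]
        refine ⟨⟨i, hi⟩, ?_⟩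
        rw [mem_iInf_fin]
        intro j
        refine Fin.cases ?_ (fun j' => ?_) j
        · simpa using hxi
        · simpa using (hx 0).1.2)
      (by
        intro x hx
        rw [Opens.mem_iSup] at hx
        obtain ⟨i, hi⟩ := hx
        rw [mem_iInf_fin] at hi ⊢
        intro k
        have h0 : x ∈ U i.1 := by simpa using hi 0
        have h1 : x ∈ U i₀ := by simpa using hi 1
        exact ⟨⟨(mem_VS U).2 ⟨i.1, i.2, h0⟩, h1⟩, h1⟩)
      (ζ (fun _ => i₀))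
    have hε : ∀ σ : Fin 1 → ι, (⨅ k, rF U (U i₀) (σ k)) ≤ U i₀ :=
      fun σ => (iInf_le _ 0).trans inf_le_left
    obtain ⟨ε, hεdef⟩ : ∃ ε : Coch F.obj (rF U (U i₀)) 0, ∀ σ, ε σ = res F.obj (hε σ) s' :=
      ⟨_, fun _ => rfl⟩
    have hDε : D F.obj _ 0 ε = 0 := by
      funext τ
      rw [D_apply, Fin.sum_univ_two]
      simp only [Fin.val_zero, Fin.val_one, pow_zero, pow_one, one_smul, neg_smul, hεdef, res_res]
      rw [add_neg_cancel]
      rfl
    refine ⟨β' + ε, ?_, ?_⟩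
    · rw [map_add, hDβ', hDε, add_zero]
      exact hα₂
    · have hεr : restr F.obj (rF_mono U (inf_le_right : VS U S ⊓ U i₀ ≤ U i₀)) 0 ε = ζ := by
        funext σ
        have h1 : (⨅ k, rF U (VS U S ⊓ U i₀) (σ k)) ≤
            ⨅ k, rF U (VS U S ⊓ U i₀) ((fun _ => i₀ : Fin 1 → ι) k) :=
          le_iInf fun k => (iInf_le _ 0).trans (hW₁₂ (σ 0))
        rw [eq_res_of_D_zero F.obj _ i₀ hW₁₂ ζ hDζ σ h1, restr_apply, hεdef, res_res, ← hs', res_res]
      rw [map_add, hεr, hζ]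
      abel
  | succ q =>
    obtain ⟨γ, hγdef⟩ : ∃ γ, γ = hh F.obj _ i₀ hW₁₂ q ζ := ⟨_, rfl⟩
    have hDγ : D F.obj _ q γ = ζ := by
      have := hh_D F.obj _ i₀ hW₁₂ q ζ
      rw [hDζ, map_zero, add_zero] at this
      rw [hγdef]
      exact this
    have hext : ∀ σ : Fin (q + 1) → ι, ∃ y : F.obj.obj (op (⨅ k, rF U (U i₀) (σ k))),
        res F.obj (iInf_mono fun k =>
          rF_mono U (inf_le_right : VS U S ⊓ U i₀ ≤ U i₀) (σ k)) y = γ σ := by
      intro σ
      apply surj_aux hs S (Fin.cons i₀ σ : Fin (q + 2) → ι)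
      · exact (iInf_le _ 0).trans (inf_le_left.trans hUi₀)
      · intro x hx
        rw [mem_iInf_fin] at hx
        obtain ⟨i, hi, hxi⟩ := (mem_VS U).1 (hx 0).1.1
        rw [Opens.mem_iSup]
        refine ⟨⟨i, hi⟩, ?_⟩
        rw [mem_iInf_fin]
        intro j
        refine Fin.cases ?_ (fun j' => ?_) j
        · simpa using hxi
        · refine Fin.cases ?_ (fun j'' => ?_) j'
          · simpa using (hx 0).1.2
          · simpa using (hx j'').2
      · intro x hx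
        rw [Opens.mem_iSup] at hx
        obtain ⟨i, hi⟩ := hx
        rw [mem_iInf_fin] at hi ⊢
        intro k
        have h0 : x ∈ U i.1 := by simpa using hi 0
        have h1 : x ∈ U i₀ := by simpa using hi 1
        have h2 : x ∈ U (σ k) := by simpa using hi k.succ.succ
        exact ⟨⟨(mem_VS U).2 ⟨i.1, i.2, h0⟩, h1⟩, h2⟩
    choose γ' hγ' using hext
    have hγ'r : restr F.obj (rF_mono U (inf_le_right : VS U S ⊓ U i₀ ≤ U i₀)) q γ' = γ := by
      funext σ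
      exact hγ' σ
    refine ⟨β' + D F.obj _ q γ', ?_, ?_⟩
    · rw [map_add, hDβ', D_D, add_zero]
      exact hα₂
    · rw [map_add, ← restr_D, hγ'r, hDγ, hζ]
      abel


lemma cover2 (V V' V'' : Opens X) (h3 : V'' ≤ V ⊔ V') {n : ℕ} (σ : Fin (n + 1) → ι) :
    (⨅ k, rF U V'' (σ k)) ≤ (⨅ k, rF U V (σ k)) ⊔ (⨅ k, rF U V' (σ k)) := by
  intro x hx
  rw [mem_iInf_fin] at hx
  have hx0 : x ∈ V'' := (hx 0).1
  rw [Opens.mem_sup, mem_iInf_fin, mem_iInf_fin]
  rcases Opens.mem_sup.1 (h3 hx0) with h | h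
  · exact Or.inl fun k => ⟨h, (hx k).2⟩
  · exact Or.inr fun k => ⟨h, (hx k).2⟩

lemma glue2 (V V' V'' : Opens X) (h1 : V ≤ V'') (h2 : V' ≤ V'') (h3 : V'' ≤ V ⊔ V') (p : ℕ)
    (β₁ : Coch F.obj (rF U V) p) (β₂ : Coch F.obj (rF U V') p)
    (h : restr F.obj (rF_mono U (inf_le_left : V ⊓ V' ≤ V)) p β₁ =
      restr F.obj (rF_mono U (inf_le_right : V ⊓ V' ≤ V')) p β₂) :
    ∃ β : Coch F.obj (rF U V'') p,
      restr F.obj (rF_mono U h1) p β = β₁ ∧ restr F.obj (rF_mono U h2) p β = β₂ := by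
  have hex : ∀ σ : Fin (p + 1) → ι, ∃ b : F.obj.obj (op (⨅ k, rF U V'' (σ k))),
      res F.obj (iInf_mono fun k => rF_mono U h1 (σ k)) b = β₁ σ ∧
      res F.obj (iInf_mono fun k => rF_mono U h2 (σ k)) b = β₂ σ := by
    intro σ
    let Wc : Bool → Opens X := fun b => cond b (⨅ k, rF U V (σ k)) (⨅ k, rF U V' (σ k))
    have hWc : ∀ b, Wc b ≤ ⨅ k, rF U V'' (σ k) := fun b => by
      cases b
      · exact iInf_mono fun k => rF_mono U h2 (σ k)
      · exact iInf_mono fun k => rF_mono U h1 (σ k)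
    have hcov : (⨅ k, rF U V'' (σ k)) ≤ iSup Wc :=
      (cover2 V V' V'' h3 σ).trans (sup_le (le_iSup Wc true) (le_iSup Wc false))
    let sf : ∀ b : Bool, F.obj.obj (op (Wc b)) := fun b =>
      match b with
      | true => β₁ σ
      | false => β₂ σ
    have hE1 : (⨅ k, rF U V (σ k)) ⊓ (⨅ k, rF U V' (σ k)) ≤ ⨅ k, rF U (V ⊓ V') (σ k) :=
      le_iInf fun k => le_inf (le_inf (inf_le_left.trans ((iInf_le _ k).trans inf_le_left))
        (inf_le_right.trans ((iInf_le _ k).trans inf_le_left)))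
        (inf_le_left.trans ((iInf_le _ k).trans inf_le_right))
    have hkey : res F.obj (inf_le_left : (⨅ k, rF U V (σ k)) ⊓ (⨅ k, rF U V' (σ k)) ≤ _) (β₁ σ) =
        res F.obj (inf_le_right : (⨅ k, rF U V (σ k)) ⊓ (⨅ k, rF U V' (σ k)) ≤ _) (β₂ σ) := by
      have := congrArg (res F.obj hE1) (congrFun h σ)
      rw [restr_apply, restr_apply, res_res, res_res] at this
      exact this
    have hcompat : ∀ b b', res F.obj (inf_le_left : Wc b ⊓ Wc b' ≤ Wc b) (sf b) =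
        res F.obj (inf_le_right : Wc b ⊓ Wc b' ≤ Wc b') (sf b') := by
      rintro (_ | _) (_ | _)
      · rfl
      · have h1 := congrArg (res F.obj (le_of_eq (inf_comm _ _) :
          (⨅ k, rF U V' (σ k)) ⊓ (⨅ k, rF U V (σ k)) ≤
            (⨅ k, rF U V (σ k)) ⊓ (⨅ k, rF U V' (σ k)))) hkey
        rw [res_res, res_res] at h1
        exact h1.symm
      · exact hkey
      · rfl
    obtain ⟨b, hb⟩ := glue F Wc _ hWc hcov sf hcompat
    exact ⟨b, hb true, hb false⟩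
  choose β hβ1 hβ2 using hex
  exact ⟨β, funext hβ1, funext hβ2⟩

lemma ext2 (V V' V'' : Opens X) (h1 : V ≤ V'') (h2 : V' ≤ V'') (h3 : V'' ≤ V ⊔ V') (p : ℕ)
    (β β' : Coch F.obj (rF U V'') p)
    (e1 : restr F.obj (rF_mono U h1) p β = restr F.obj (rF_mono U h1) p β')
    (e2 : restr F.obj (rF_mono U h2) p β = restr F.obj (rF_mono U h2) p β') : β = β' := by
  funext σ
  let Wc : Bool → Opens X := fun b => cond b (⨅ k, rF U V (σ k)) (⨅ k, rF U V' (σ k))
  have hWc : ∀ b, Wc b ≤ ⨅ k, rF U V'' (σ k) := fun b => by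
    cases b
    · exact iInf_mono fun k => rF_mono U h2 (σ k)
    · exact iInf_mono fun k => rF_mono U h1 (σ k)
  have hcov : (⨅ k, rF U V'' (σ k)) ≤ iSup Wc :=
    (cover2 V V' V'' h3 σ).trans (sup_le (le_iSup Wc true) (le_iSup Wc false))
  apply ext_of_cover F Wc _ hWc hcov
  rintro (_ | _)
  · exact congrFun e2 σ
  · exact congrFun e1 σ


variable (F U) in
/-- partial primitives of a cocycle -/
structure PExt (p : ℕ) (α : Coch F.obj U (p + 1)) where
  /-- the subfamily -/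
  S : Set ι
  /-- the primitive over the union of the subfamily -/
  β : Coch F.obj (rF U (VS U S)) p
  hβ : D F.obj (rF U (VS U S)) p β = restr F.obj (rF_le U (VS U S)) (p + 1) α

/-- the extension order on partial primitives -/
def PExt.le {p : ℕ} {α : Coch F.obj U (p + 1)} (a b : PExt F U p α) : Prop :=
  ∃ h : a.S ⊆ b.S, restr F.obj (rF_mono U (VS_mono U h)) p b.β = a.β

lemma PExt.le_trans {p : ℕ} {α : Coch F.obj U (p + 1)} {a b c : PExt F U p α}
    (h1 : PExt.le a b) (h2 : PExt.le b c) : PExt.le a c := by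
  obtain ⟨s1, e1⟩ := h1
  obtain ⟨s2, e2⟩ := h2
  refine ⟨s1.trans s2, ?_⟩
  rw [← e1, ← e2, restr_restr]

lemma chain_bound {p : ℕ} {α : Coch F.obj U (p + 1)} (c : Set (PExt F U p α))
    (hc : IsChain PExt.le c) : ∃ ub, ∀ a ∈ c, PExt.le a ub := by
  classical
  let Sstar : Set ι := {i | ∃ a ∈ c, i ∈ a.S}
  have hsub : ∀ a ∈ c, a.S ⊆ Sstar := fun a ha i hi => ⟨a, ha, hi⟩
  have hcov : ∀ {n : ℕ} (σ : Fin (n + 1) → ι), (⨅ k, rF U (VS U Sstar) (σ k)) ≤
      ⨆ a : c, ⨅ k, rF U (VS U a.1.S) (σ k) := by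
    intro n σ x hx
    rw [mem_iInf_fin] at hx
    obtain ⟨i, ⟨a, ha, hia⟩, hxi⟩ := (mem_VS U).1 (hx 0).1
    rw [Opens.mem_iSup]
    refine ⟨⟨a, ha⟩, ?_⟩
    rw [mem_iInf_fin]
    exact fun k => ⟨(mem_VS U).2 ⟨i, hia, hxi⟩, (hx k).2⟩
  have hle : ∀ {n : ℕ} (σ : Fin (n + 1) → ι) (a : c), (⨅ k, rF U (VS U a.1.S) (σ k)) ≤
      ⨅ k, rF U (VS U Sstar) (σ k) :=
    fun σ a => iInf_mono fun k => rF_mono U (VS_mono U (hsub a.1 a.2)) (σ k)
  have hex : ∀ σ : Fin (p + 1) → ι, ∃ b : F.obj.obj (op (⨅ k, rF U (VS U Sstar) (σ k))),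
      ∀ a : c, res F.obj (hle σ a) b = a.1.β σ := by
    intro σ
    apply glue F (fun a : c => ⨅ k, rF U (VS U a.1.S) (σ k)) _ (hle σ) (hcov σ)
      (fun a => a.1.β σ)
    intro a b
    by_cases hab : a.1 = b.1
    · have : a = b := Subtype.ext hab
      subst this
      rfl
    · rcases hc a.2 b.2 hab with h | h
      · obtain ⟨s1, e1⟩ := h
        rw [← e1, restr_apply, res_res]
      · obtain ⟨s1, e1⟩ := h
        rw [← e1, restr_apply, res_res]
  choose β hβ using hex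
  have hβr : ∀ a : c, restr F.obj (rF_mono U (VS_mono U (hsub a.1 a.2))) p β = a.1.β :=
    fun a => funext fun σ => hβ σ a
  have hDβ : D F.obj (rF U (VS U Sstar)) p β = restr F.obj (rF_le U (VS U Sstar)) (p + 1) α := by
    funext τ
    apply ext_of_cover F (fun a : c => ⨅ k, rF U (VS U a.1.S) (τ k)) _ (hle τ) (hcov τ)
    intro a
    have key : restr F.obj (rF_mono U (VS_mono U (hsub a.1 a.2))) (p + 1)
        (D F.obj (rF U (VS U Sstar)) p β) =
        restr F.obj (rF_mono U (VS_mono U (hsub a.1 a.2))) (p + 1)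
          (restr F.obj (rF_le U (VS U Sstar)) (p + 1) α) := by
      rw [← restr_D, hβr a, a.1.hβ, restr_restr]
    exact congrFun key τ
  exact ⟨⟨Sstar, β, hDβ⟩, fun a ha => ⟨hsub a ha, hβr ⟨a, ha⟩⟩⟩

/-- the main vanishing statement, in concrete terms -/
theorem exists_primitive (hs : SurjHyp F U) (p : ℕ) (α : Coch F.obj U (p + 1))
    (hα : D F.obj U (p + 1) α = 0) : ∃ β : Coch F.obj U p, D F.obj U p β = α := by
  obtain ⟨m, hm⟩ := exists_maximal_of_chains_bounded (chain_bound (F := F) (U := U) (p := p) (α := α))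
    (fun h1 h2 => PExt.le_trans h1 h2)
  have hS : ∀ i₀, i₀ ∈ m.S := by
    intro i₀
    obtain ⟨β₂, hβ₂, h12⟩ := adjust hs m.S i₀ p α hα m.β m.hβ
    obtain ⟨β, hβ1, hβ2⟩ := glue2 (F := F) (U := U) (VS U m.S) (U i₀) (VS U (insert i₀ m.S))
      (VS_mono U (Set.subset_insert _ _)) (le_VS U (Set.mem_insert _ _)) (VS_insert_le U m.S i₀)
      p m.β β₂ h12.symm
    have hDβ : D F.obj (rF U (VS U (insert i₀ m.S))) p β =
        restr F.obj (rF_le U (VS U (insert i₀ m.S))) (p + 1) α := by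
      apply ext2 (F := F) (U := U) (VS U m.S) (U i₀) (VS U (insert i₀ m.S))
        (VS_mono U (Set.subset_insert _ _)) (le_VS U (Set.mem_insert _ _)) (VS_insert_le U m.S i₀)
      · rw [← restr_D, hβ1, m.hβ, restr_restr]
      · rw [← restr_D, hβ2, hβ₂, restr_restr]
    have h1 : PExt.le m ⟨insert i₀ m.S, β, hDβ⟩ := ⟨Set.subset_insert _ _, hβ1⟩
    obtain ⟨h2, -⟩ := hm _ h1
    exact h2 (Set.mem_insert _ _)
  have hle : ∀ i, U i ≤ rF U (VS U m.S) i := fun i => le_inf (le_VS U (hS i)) le_rfl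
  refine ⟨restr F.obj hle p m.β, ?_⟩
  rw [restr_D, m.hβ, restr_restr, restr_self]

/-- vanishing of Čech cohomology under the surjectivity hypothesis -/
theorem isZero_cechH_of_surjHyp (hs : SurjHyp F U) (p : ℕ) :
    IsZero (CohTop.cechH F.obj U (p + 1)) := by
  rw [isZero_cechH_succ_iff]
  exact exists_primitive hs p

variable (F U) in
lemma surjHyp_of_isFlasque [TopCat.Sheaf.IsFlasque F] : SurjHyp F U := by
  intro κ a A hA _
  have h : Epi (F.obj.map (homOfLE hA).op) := TopCat.Presheaf.IsFlasque.epi _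
  exact (AddCommGrpCat.epi_iff_surjective _).mp h

end Main

end Groth.Agent.Lib.Cech
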