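import Mathlib
import Groth.Prelude.Def_CohTop
import Groth.Agent.Lib.CechConcrete_helper2
import Groth.Agent.Lib.CechH1Surj_helper2
import Groth.Agent.Lib.CechFlasque_helper2
import Groth.Agent.Lib.FlasqueAcyclic_helper2

/-!
# Cartan's criterion: Čech-acyclicity on a class of coverings implies acyclicity
-/

set_option autoImplicit false
universe u
open CategoryTheory Limits TopologicalSpace Opposite Abelian

namespace Groth.Agent.Lib.Cech

variable {X : TopCat.{u}}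

section MapC

variable {P Q : (Opens X)ᵒᵖ ⥤ AddCommGrpCat.{u}} (φ : P ⟶ Q) {ι : Type u} (U : ι → Opens X)

/-- the map on cochains induced by a morphism of presheaves -/
def mapC (n : ℕ) : Coch P U n →+ Coch Q U n where
  toFun β σ := (φ.app (op (⨅ k, U (σ k)))).hom (β σ)
  map_zero' := by
    funext σ
    simp
  map_add' β γ := by
    funext σ
    simp

lemma mapC_apply (n : ℕ) (β : Coch P U n) (σ : Fin (n + 1) → ι) :
    mapC φ U n β σ = (φ.app (op (⨅ k, U (σ k)))).hom (β σ) := rfl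

lemma mapC_D (n : ℕ) (β : Coch P U n) :
    D Q U n (mapC φ U n β) = mapC φ U (n + 1) (D P U n β) := by
  funext σ
  rw [D_apply, mapC_apply, D_apply, map_sum]
  refine Finset.sum_congr rfl fun k _ => ?_
  rw [map_zsmul, mapC_apply, res_app]

end MapC

/-- the long exact sequence argument: vanishing for the quotient -/
theorem isZero_cechH_X₃ (S : ShortComplex (CohTop.Ab X)) (hS : S.ShortExact) {ι : Type u}
    (U : ι → Opens X) (p : ℕ)
    (hsurj : ∀ σ : Fin (p + 2) → ι, Function.Surjective (S.g.hom.app (op (⨅ k, U (σ k)))).hom)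
    (h2 : IsZero (CohTop.cechH S.X₂.obj U (p + 1))) (h1 : IsZero (CohTop.cechH S.X₁.obj U (p + 2))) :
    IsZero (CohTop.cechH S.X₃.obj U (p + 1)) := by
  haveI := hS.mono_f
  rw [isZero_cechH_succ_iff] at h1 h2 ⊢
  intro γ hγ
  choose γ' hγ' using fun σ => hsurj σ (γ σ)
  have hγ'm : mapC S.g.hom U (p + 1) γ' = γ := funext hγ'
  have hex : ∀ τ : Fin (p + 3) → ι, ∃ a : S.X₁.obj.obj (op (⨅ k, U (τ k))),
      (S.f.hom.app _).hom a = D S.X₂.obj U (p + 1) γ' τ := by
    intro τ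
    apply exists_of_app_eq_zero S hS
    have := congrFun (mapC_D S.g.hom U (p + 1) γ') τ
    rw [hγ'm, hγ] at this
    exact this.symm
  choose φ hφ using hex
  have hφm : mapC S.f.hom U (p + 2) φ = D S.X₂.obj U (p + 1) γ' := funext hφ
  have hDφ : D S.X₁.obj U (p + 2) φ = 0 := by
    funext τ
    apply app_injective S.f
    have := congrFun (mapC_D S.f.hom U (p + 2) φ) τ
    rw [hφm, D_D] at this
    rw [mapC_apply] at this
    rw [← this]
    simp
  obtain ⟨ψ, hψ⟩ := h1 φ hDφ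
  have hD0 : D S.X₂.obj U (p + 1) (γ' - mapC S.f.hom U (p + 1) ψ) = 0 := by
    rw [map_sub, mapC_D, hψ, hφm, sub_self]
  obtain ⟨δ, hδ⟩ := h2 _ hD0
  refine ⟨mapC S.g.hom U p δ, ?_⟩
  rw [mapC_D, hδ, map_sub, hγ'm]
  have : mapC S.g.hom U (p + 1) (mapC S.f.hom U (p + 1) ψ) = 0 := by
    funext σ
    rw [mapC_apply, mapC_apply]
    exact app_comp_zero S _ _
  rw [this, sub_zero]


open Groth.Agent.Lib.FreeSheaf in
/-- Cartan's criterion, in a general form relative to a class `B` of opens and a class `Cov` of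
coverings -/
theorem ext_eq_zero_of_cech (B : Opens X → Prop) (Cov : ∀ (ι : Type u), (ι → Opens X) → Prop)
    (h1 : ∀ (ι : Type u) (V : ι → Opens X), Cov ι V →
      ∀ (n : ℕ) (σ : Fin (n + 1) → ι), B (⨅ k, V (σ k)))
    (h2 : ∀ U₀, B U₀ → ∀ (κ : Type u) (W : κ → Opens X), iSup W = U₀ →
      ∃ (ι : Type u) (V : ι → Opens X), Cov ι V ∧ iSup V = U₀ ∧ ∀ i, ∃ k, V i ≤ W k)
    (U₀ : Opens X) (hU₀ : B U₀) (F : CohTop.Ab X)
    (h3 : ∀ (ι : Type u) (V : ι → Opens X), Cov ι V →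
      ∀ p : ℕ, IsZero (CohTop.cechH F.obj V (p + 1)))
    (n : ℕ) (ξ : Ext (freeSheaf (Opens.grothendieckTopology X) U₀) F (n + 1)) : ξ = 0 := by
  have hsurjB : ∀ (S : ShortComplex (CohTop.Ab X)), S.ShortExact →
      (∀ (ι : Type u) (V : ι → Opens X), Cov ι V →
        ∀ p : ℕ, IsZero (CohTop.cechH S.X₁.obj V (p + 1))) →
      ∀ U₁, B U₁ → Function.Surjective (S.g.hom.app (op U₁)).hom := by
    intro S hS hP U₁ hU₁
    apply surjective_of_cechH1 S hS U₁
    intro κ W hW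
    obtain ⟨ι, V, hCov, hV, hr⟩ := h2 U₁ hU₁ κ W hW
    choose r hr using hr
    exact ⟨ι, V, r, hV, hr, hP ι V hCov 0⟩
  refine Groth.Agent.Lib.ExtAcyclic.ext_eq_zero_of_class
    (freeSheaf (Opens.grothendieckTopology X) U₀)
    (fun F => ∀ (ι : Type u) (V : ι → Opens X), Cov ι V →
      ∀ p : ℕ, IsZero (CohTop.cechH F.obj V (p + 1))) ?_ ?_ ?_ n F h3 ξ
  · intro I hI ι V _ p
    haveI := hI
    haveI := Groth.Agent.Lib.FlasqueAcyclic.isFlasque_of_injective I
    exact isZero_cechH_of_surjHyp (surjHyp_of_isFlasque I V) p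
  · intro S hS hP1 hP2 ι V hCov p
    exact isZero_cechH_X₃ S hS V p
      (fun σ => hsurjB S hS hP1 _ (h1 ι V hCov (p + 1) σ)) (hP2 ι V hCov p) (hP1 ι V hCov (p + 1))
  · intro S hS hP1 φ
    obtain ⟨t, ht⟩ := hsurjB S hS hP1 U₀ hU₀ (freeSheafHomEquiv _ U₀ S.X₃ φ)
    refine ⟨(freeSheafHomEquiv _ U₀ S.X₂).symm t, ?_⟩
    apply (freeSheafHomEquiv _ U₀ S.X₃).injective
    rw [freeSheafHomEquiv_comp, Equiv.apply_symm_apply]
    exact ht

end Groth.Agent.Lib.Cech
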