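import Mathlib
import Groth.Prelude.Def_CohTop
import Groth.Agent.Lib.CechConcrete_helper2
import Groth.Agent.Lib.CechH1Surj_helper2
import Groth.Agent.Lib.CechFlasque_helper2
import Groth.Agent.Lib.CechCartan_helper2
import Groth.Agent.Lib.FlasqueAcyclic_helper2

/-!
# Leray's theorem: Čech cohomology of an acyclic covering computes cohomology
-/

set_option autoImplicit false
universe u
open CategoryTheory Limits TopologicalSpace Opposite Abelian

namespace Groth.Agent.Lib.Cech

variable {X : TopCat.{u}}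

section Map

variable {P Q : (Opens X)ᵒᵖ ⥤ AddCommGrpCat.{u}} (φ : P ⟶ Q) {ι : Type u} (U : ι → Opens X)

lemma map_f_π (n : ℕ) (σ : Fin (n + 1) → ι) :
    ((cechComplexFunctor U).map φ).f n ≫ Pi.π (fun i : Fin (n + 1) → ι => Q.obj (op (∏ᶜ (U ∘ i)))) σ =
      Pi.π (fun i : Fin (n + 1) → ι => P.obj (op (∏ᶜ (U ∘ i)))) σ ≫ φ.app (op (∏ᶜ (U ∘ σ))) := by
  dsimp [cechComplexFunctor, FormalCoproduct.cochainComplexFunctor,
    AlgebraicTopology.alternatingCofaceMapComplex, FormalCoproduct.cosimplicialObjectFunctor]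
  simp only [FormalCoproduct.evalOp_map_app]
  erw [Pi.map_π]
  rfl

lemma cmp_map (n : ℕ) (x : ((cechComplexFunctor U).obj P).X n) :
    cmp Q U n ((((cechComplexFunctor U).map φ).f n).hom x) = mapC φ U n (cmp P U n x) := by
  funext σ
  rw [cmp_apply, mapC_apply, cmp_apply, res_app]
  congr 1
  have h := congrArg (fun f => f.hom x) (map_f_π φ U n σ)
  exact h

end Map


section SC

variable {ι : Type u} (U : ι → Opens X)

lemma map_zero_eq (P Q : (Opens X)ᵒᵖ ⥤ AddCommGrpCat.{u}) :
    (cechComplexFunctor U).map (0 : P ⟶ Q) = 0 := by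
  ext n x
  apply (cmp Q U n).injective
  rw [cmp_map]
  have h0 : ((0 : (cechComplexFunctor U).obj P ⟶ (cechComplexFunctor U).obj Q).f n).hom x = 0 := rfl
  rw [h0, map_zero]
  funext σ
  rw [mapC_apply]
  rfl

/-- the short complex of Čech complexes attached to a short complex of sheaves -/
noncomputable def cechSC (S : ShortComplex (CohTop.Ab X)) :
    ShortComplex (CochainComplex AddCommGrpCat.{u} ℕ) :=
  ShortComplex.mk ((cechComplexFunctor U).map S.f.hom) ((cechComplexFunctor U).map S.g.hom) (by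
    rw [← Functor.map_comp]
    have h : S.f.hom ≫ S.g.hom = 0 := by
      have := congrArg (fun ψ : S.X₁ ⟶ S.X₃ => ψ.hom) S.zero
      exact this
    rw [h, map_zero_eq])

lemma cechSC_shortExact (S : ShortComplex (CohTop.Ab X)) (hS : S.ShortExact)
    (hsurj : ∀ (n : ℕ) (σ : Fin (n + 1) → ι),
      Function.Surjective (S.g.hom.app (op (⨅ k, U (σ k)))).hom) :
    (cechSC U S).ShortExact := by
  haveI := hS.mono_f
  apply HomologicalComplex.shortExact_of_degreewise_shortExact
  intro n
  have hexact : ((cechSC U S).map (HomologicalComplex.eval _ _ n)).Exact := by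
    rw [ShortComplex.ab_exact_iff]
    intro x hx
    have hx' : (((cechComplexFunctor U).map S.g.hom).f n).hom x = 0 := hx
    have h1 : mapC S.g.hom U n (cmp S.X₂.obj U n x) = 0 := by
      rw [← cmp_map, hx', map_zero]
    have hex : ∀ σ : Fin (n + 1) → ι, ∃ a : S.X₁.obj.obj (op (⨅ k, U (σ k))),
        (S.f.hom.app _).hom a = cmp S.X₂.obj U n x σ := by
      intro σ
      apply exists_of_app_eq_zero S hS
      exact congrFun h1 σ
    choose a ha using hex
    refine ⟨(cmp S.X₁.obj U n).symm a, ?_⟩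
    apply (cmp S.X₂.obj U n).injective
    show cmp S.X₂.obj U n ((((cechComplexFunctor U).map S.f.hom).f n).hom _) = _
    rw [cmp_map, AddEquiv.apply_symm_apply]
    exact funext ha
  have hmono : Mono ((cechSC U S).map (HomologicalComplex.eval _ _ n)).f := by
    rw [AddCommGrpCat.mono_iff_injective]
    intro x y hxy
    have hxy' : (((cechComplexFunctor U).map S.f.hom).f n).hom x =
        (((cechComplexFunctor U).map S.f.hom).f n).hom y := hxy
    have h1 := congrArg (cmp S.X₂.obj U n) hxy'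
    rw [cmp_map, cmp_map] at h1
    apply (cmp S.X₁.obj U n).injective
    funext σ
    apply app_injective S.f
    exact congrFun h1 σ
  have hepi : Epi ((cechSC U S).map (HomologicalComplex.eval _ _ n)).g := by
    rw [AddCommGrpCat.epi_iff_surjective]
    intro z
    choose b hb using fun σ => hsurj n σ (cmp S.X₃.obj U n z σ)
    refine ⟨(cmp S.X₂.obj U n).symm b, ?_⟩
    apply (cmp S.X₃.obj U n).injective
    show cmp S.X₃.obj U n ((((cechComplexFunctor U).map S.g.hom).f n).hom _) = _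
    rw [cmp_map, AddEquiv.apply_symm_apply]
    exact funext hb
  exact ShortComplex.ShortExact.mk' hexact hmono hepi

end SC


section H0

variable {ι : Type u} (U : ι → Opens X)

lemma aug_le (σ : Fin 1 → ι) : (⨅ k, U (σ k)) ≤ iSup U :=
  (iInf_le (fun k => U (σ k)) 0).trans (le_iSup U (σ 0))

/-- the augmentation of the Čech complex -/
def aug (P : (Opens X)ᵒᵖ ⥤ AddCommGrpCat.{u}) : P.obj (op (iSup U)) →+ Coch P U 0 where
  toFun s σ := res P (aug_le U σ) s
  map_zero' := by
    funext σ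
    simp
  map_add' s t := by
    funext σ
    simp

lemma aug_apply (P : (Opens X)ᵒᵖ ⥤ AddCommGrpCat.{u}) (s : P.obj (op (iSup U))) (σ : Fin 1 → ι) :
    aug U P s σ = res P (aug_le U σ) s := rfl

lemma D_aug (P : (Opens X)ᵒᵖ ⥤ AddCommGrpCat.{u}) (s : P.obj (op (iSup U))) :
    D P U 0 (aug U P s) = 0 := by
  funext τ
  rw [D_apply, Fin.sum_univ_two]
  simp only [Fin.val_zero, Fin.val_one, pow_zero, pow_one, one_smul, neg_smul, aug_apply, res_res]
  rw [add_neg_cancel]
  rfl

lemma aug_mapC {P Q : (Opens X)ᵒᵖ ⥤ AddCommGrpCat.{u}} (φ : P ⟶ Q) (s : P.obj (op (iSup U))) :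
    mapC φ U 0 (aug U P s) = aug U Q ((φ.app (op (iSup U))).hom s) := by
  funext σ
  rw [mapC_apply, aug_apply, aug_apply, res_app]

lemma le_const (i : ι) : U i ≤ ⨅ k, U ((fun _ => i : Fin 1 → ι) k) := le_iInf fun _ => le_rfl

lemma aug_injective (F : CohTop.Ab X) : Function.Injective (aug U F.obj) := by
  intro s t hst
  apply ext_of_cover F U (iSup U) (le_iSup U) le_rfl
  intro i
  have h := congrArg (res F.obj (le_const U i)) (congrFun hst (fun _ => i))
  rw [aug_apply, aug_apply, res_res, res_res] at h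
  exact h

lemma exists_aug (F : CohTop.Ab X) (β : Coch F.obj U 0) (hβ : D F.obj U 0 β = 0) :
    ∃ s, aug U F.obj s = β := by
  obtain ⟨sf, hsf⟩ : ∃ sf : ∀ i, F.obj.obj (op (U i)),
      ∀ i, sf i = res F.obj (le_const U i) (β (fun _ => i)) := ⟨_, fun _ => rfl⟩
  have hcompat : ∀ i j, res F.obj (inf_le_left : U i ⊓ U j ≤ U i) (sf i) =
      res F.obj (inf_le_right : U i ⊓ U j ≤ U j) (sf j) := by
    intro i j
    have hτ : U i ⊓ U j ≤ ⨅ k, U ((![i, j] : Fin 2 → ι) k) := le_iInf fun k => by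
      fin_cases k
      · exact inf_le_left
      · exact inf_le_right
    have h1 := congrArg (res F.obj hτ) (congrFun hβ ![i, j])
    rw [D_apply, Fin.sum_univ_two] at h1
    simp only [Fin.val_zero, Fin.val_one, pow_zero, pow_one, one_smul, neg_smul, map_add, map_neg,
      res_res, Pi.zero_apply, map_zero] at h1
    rw [← sub_eq_add_neg, sub_eq_zero] at h1
    rw [hsf, hsf, res_res, res_res]
    refine Eq.trans ?_ (h1.symm.trans ?_)
    · exact res_congr_idx F.obj (A := fun c : Fin 1 → ι => ⨅ k, U (c k)) β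
        (funext fun k => by fin_cases k; rfl) _ _
    · exact res_congr_idx F.obj (A := fun c : Fin 1 → ι => ⨅ k, U (c k)) β
        (funext fun k => by fin_cases k; rfl) _ _
  obtain ⟨s, hs⟩ := glue F U (iSup U) (le_iSup U) le_rfl sf hcompat
  refine ⟨s, ?_⟩
  funext σ
  have h0 : (⨅ k, U (σ k)) ≤ U (σ 0) := iInf_le (fun k => U (σ k)) 0
  rw [aug_apply, ← res_res F.obj h0 (le_iSup U (σ 0)), hs, hsf, res_res]
  rw [res_congr_idx F.obj (A := fun c : Fin 1 → ι => ⨅ k, U (c k)) β
    (show (fun _ => σ 0 : Fin 1 → ι) = σ from funext fun k => by fin_cases k; rfl) _ (le_refl _),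
    res_self]

/-- the augmentation as a morphism to the degree `0` term of Mathlib's Čech complex -/
noncomputable def εhom (P : (Opens X)ᵒᵖ ⥤ AddCommGrpCat.{u}) :
    P.obj (op (iSup U)) ⟶ ((cechComplexFunctor U).obj P).X 0 :=
  AddCommGrpCat.ofHom ((cmp P U 0).symm.toAddMonoidHom.comp (aug U P))

lemma cmp_εhom (P : (Opens X)ᵒᵖ ⥤ AddCommGrpCat.{u}) (s : P.obj (op (iSup U))) :
    cmp P U 0 ((εhom U P).hom s) = aug U P s :=
  (cmp P U 0).apply_symm_apply _

lemma εhom_d (P : (Opens X)ᵒᵖ ⥤ AddCommGrpCat.{u}) :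
    εhom U P ≫ ((cechComplexFunctor U).obj P).d 0 1 = 0 := by
  ext s
  apply (cmp P U 1).injective
  show cmp P U 1 ((((cechComplexFunctor U).obj P).d 0 1).hom ((εhom U P).hom s)) = _
  rw [cmp_d, cmp_εhom, D_aug]
  exact (map_zero (cmp P U 1)).symm

lemma εhom_map {P Q : (Opens X)ᵒᵖ ⥤ AddCommGrpCat.{u}} (φ : P ⟶ Q) :
    εhom U P ≫ ((cechComplexFunctor U).map φ).f 0 = φ.app (op (iSup U)) ≫ εhom U Q := by
  ext s
  apply (cmp Q U 0).injective
  show cmp Q U 0 ((((cechComplexFunctor U).map φ).f 0).hom ((εhom U P).hom s)) =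
    cmp Q U 0 ((εhom U Q).hom ((φ.app (op (iSup U))).hom s))
  rw [cmp_map, cmp_εhom, cmp_εhom, aug_mapC]

/-- sections over the union map to Čech `H^0` -/
noncomputable def κ (P : (Opens X)ᵒᵖ ⥤ AddCommGrpCat.{u}) :
    P.obj (op (iSup U)) ⟶ CohTop.cechH P U 0 :=
  ((cechComplexFunctor U).obj P).liftCycles (εhom U P) 1 (by simp) (εhom_d U P) ≫
    ((cechComplexFunctor U).obj P).homologyπ 0

lemma κ_natural {P Q : (Opens X)ᵒᵖ ⥤ AddCommGrpCat.{u}} (φ : P ⟶ Q) :
    κ U P ≫ HomologicalComplex.homologyMap ((cechComplexFunctor U).map φ) 0 =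
      φ.app (op (iSup U)) ≫ κ U Q := by
  unfold κ
  rw [Category.assoc, HomologicalComplex.homologyπ_naturality, ← Category.assoc,
    HomologicalComplex.liftCycles_comp_cyclesMap, ← Category.assoc]
  congr 1
  rw [← cancel_mono (((cechComplexFunctor U).obj Q).iCycles 0)]
  simp only [HomologicalComplex.liftCycles_i, Category.assoc]
  exact εhom_map U φ

lemma κ_bijective (F : CohTop.Ab X) : Function.Bijective (κ U F.obj).hom := by
  have hπ : Function.Bijective (((cechComplexFunctor U).obj F.obj).homologyπ 0).hom :=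
    (ConcreteCategory.isIso_iff_bijective _).mp inferInstance
  have hi : Function.Injective (((cechComplexFunctor U).obj F.obj).iCycles 0).hom :=
    (AddCommGrpCat.mono_iff_injective _).mp inferInstance
  have hl : Function.Bijective (((cechComplexFunctor U).obj F.obj).liftCycles (εhom U F.obj) 1
      (by simp) (εhom_d U F.obj)).hom := by
    have hli : ∀ s, (((cechComplexFunctor U).obj F.obj).iCycles 0).hom
        ((((cechComplexFunctor U).obj F.obj).liftCycles (εhom U F.obj) 1
          (by simp) (εhom_d U F.obj)).hom s) = (εhom U F.obj).hom s := by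
      intro s
      have := congrArg (fun f => f.hom s) (((cechComplexFunctor U).obj F.obj).liftCycles_i
        (εhom U F.obj) 1 (by simp) (εhom_d U F.obj))
      exact this
    constructor
    · intro s t hst
      have h1 := congrArg (((cechComplexFunctor U).obj F.obj).iCycles 0).hom hst
      rw [hli, hli] at h1
      have h2 := congrArg (cmp F.obj U 0) h1
      rw [cmp_εhom, cmp_εhom] at h2
      exact aug_injective U F h2
    · intro z
      have hz : D F.obj U 0 (cmp F.obj U 0 ((((cechComplexFunctor U).obj F.obj).iCycles 0).hom z)) =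
          0 := by
        rw [← cmp_d]
        have := congrArg (fun f => f.hom z) (((cechComplexFunctor U).obj F.obj).iCycles_d 0 1)
        have h3 : (((cechComplexFunctor U).obj F.obj).d 0 1).hom
            ((((cechComplexFunctor U).obj F.obj).iCycles 0).hom z) = 0 := this
        rw [h3, map_zero]
      obtain ⟨s, hs⟩ := exists_aug U F _ hz
      refine ⟨s, hi ?_⟩
      rw [hli]
      apply (cmp F.obj U 0).injective
      rw [cmp_εhom, hs]
  exact hπ.comp hl

end H0


section ExtGen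

variable {C : Type*} [Category C] [Abelian C] [HasExt.{u} C] (G : C) {S : ShortComplex C}
  (hS : S.ShortExact)

include hS in
lemma ext_X₃_eq_zero (q : ℕ) (hI : ∀ ξ : Ext G S.X₂ (q + 1), ξ = 0)
    (hF : ∀ ξ : Ext G S.X₁ (q + 2), ξ = 0) (ξ : Ext G S.X₃ (q + 1)) : ξ = 0 := by
  obtain ⟨y, hy⟩ := Ext.covariant_sequence_exact₃ G hS ξ (rfl : q + 1 + 1 = q + 2) (hF _)
  rw [← hy, hI y, Ext.zero_comp]

/-- the connecting isomorphism when the middle term is acyclic -/
noncomputable def extShift (p : ℕ) (hI1 : ∀ ξ : Ext G S.X₂ (p + 1), ξ = 0)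
    (hI2 : ∀ ξ : Ext G S.X₂ (p + 2), ξ = 0) : Ext G S.X₃ (p + 1) ≃+ Ext G S.X₁ (p + 2) :=
  AddEquiv.ofBijective (hS.extClass.postcomp G (rfl : p + 1 + 1 = p + 2)) (by
    constructor
    · rw [injective_iff_map_eq_zero]
      intro x hx
      obtain ⟨y, hy⟩ := Ext.covariant_sequence_exact₃ G hS x (rfl : p + 1 + 1 = p + 2) hx
      rw [← hy, hI1 y, Ext.zero_comp]
    · intro ξ
      exact Ext.covariant_sequence_exact₁ G hS ξ (hI2 _) (rfl : p + 1 + 1 = p + 2))

end ExtGen

section ExtSide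

open Groth.Agent.Lib.FreeSheaf

/-- the free abelian sheaf on an open -/
noncomputable abbrev fr (W : Opens X) : CohTop.Ab X := freeSheaf (Opens.grothendieckTopology X) W

variable (W : Opens X)

lemma homEquiv_add (F : CohTop.Ab X) (f g : fr W ⟶ F) :
    freeSheafHomEquiv (Opens.grothendieckTopology X) W F (f + g) =
      freeSheafHomEquiv (Opens.grothendieckTopology X) W F f +
        freeSheafHomEquiv (Opens.grothendieckTopology X) W F g := by
  have h1 : f + g = biprod.lift f g ≫ (biprod.fst + biprod.snd) := by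
    rw [Preadditive.comp_add, biprod.lift_fst, biprod.lift_snd]
  rw [h1, freeSheafHomEquiv_comp]
  have h2 : ((biprod.fst + biprod.snd : F ⊞ F ⟶ F).hom.app (op W)) =
      (biprod.fst : F ⊞ F ⟶ F).hom.app (op W) + (biprod.snd : F ⊞ F ⟶ F).hom.app (op W) := rfl
  rw [h2]
  show ((biprod.fst : F ⊞ F ⟶ F).hom.app (op W)).hom _ + ((biprod.snd : F ⊞ F ⟶ F).hom.app (op W)).hom _ = _
  have e1 := freeSheafHomEquiv_comp (Opens.grothendieckTopology X) W (biprod.lift f g)
    (biprod.fst : F ⊞ F ⟶ F)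
  have e2 := freeSheafHomEquiv_comp (Opens.grothendieckTopology X) W (biprod.lift f g)
    (biprod.snd : F ⊞ F ⟶ F)
  rw [biprod.lift_fst] at e1
  rw [biprod.lift_snd] at e2
  rw [e1, e2]

/-- maps from the free sheaf are sections, additively -/
noncomputable def secAddEquiv (F : CohTop.Ab X) : (fr W ⟶ F) ≃+ F.obj.obj (op W) :=
  { freeSheafHomEquiv (Opens.grothendieckTopology X) W F with
    map_add' := homEquiv_add W F }

lemma secAddEquiv_comp {F F' : CohTop.Ab X} (f : fr W ⟶ F) (φ : F ⟶ F') :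
    secAddEquiv W F' (f ≫ φ) = (φ.hom.app (op W)).hom (secAddEquiv W F f) :=
  freeSheafHomEquiv_comp (Opens.grothendieckTopology X) W f φ

lemma secAddEquiv_symm_comp {F F' : CohTop.Ab X} (s : F.obj.obj (op W)) (φ : F ⟶ F') :
    (secAddEquiv W F).symm s ≫ φ = (secAddEquiv W F').symm ((φ.hom.app (op W)).hom s) := by
  apply (secAddEquiv W F').injective
  rw [secAddEquiv_comp, AddEquiv.apply_symm_apply, AddEquiv.apply_symm_apply]

/-- sections give classes in `Ext^0` -/
noncomputable def ext0 (F : CohTop.Ab X) : F.obj.obj (op W) →+ Ext (fr W) F 0 :=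
  AddMonoidHom.mk' (fun s => Ext.mk₀ ((secAddEquiv W F).symm s)) (by
    intro s t
    rw [map_add, Ext.mk₀_add])

lemma ext0_apply (F : CohTop.Ab X) (s : F.obj.obj (op W)) :
    ext0 W F s = Ext.mk₀ ((secAddEquiv W F).symm s) := rfl

lemma ext0_bijective (F : CohTop.Ab X) : Function.Bijective (ext0 W F) :=
  (Ext.mk₀_bijective (fr W) F).comp (secAddEquiv W F).symm.bijective

lemma ext0_comp {F F' : CohTop.Ab X} (s : F.obj.obj (op W)) (φ : F ⟶ F') :
    (ext0 W F s).comp (Ext.mk₀ φ) (add_zero 0) = ext0 W F' ((φ.hom.app (op W)).hom s) := by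
  rw [ext0_apply, ext0_apply, Ext.mk₀_comp_mk₀, secAddEquiv_symm_comp]

variable {S : ShortComplex (CohTop.Ab X)} (hS : S.ShortExact)

include hS in
lemma ext0_comp_extClass_eq_zero_iff (z : S.X₃.obj.obj (op W)) :
    (ext0 W S.X₃ z).comp hS.extClass (zero_add 1) = 0 ↔
      ∃ s : S.X₂.obj.obj (op W), (S.g.hom.app (op W)).hom s = z := by
  constructor
  · intro h
    obtain ⟨y, hy⟩ := Ext.covariant_sequence_exact₃ (fr W) hS (ext0 W S.X₃ z) (zero_add 1) h
    obtain ⟨s, rfl⟩ := (ext0_bijective W S.X₂).2 y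
    rw [ext0_comp] at hy
    exact ⟨s, (ext0_bijective W S.X₃).1 hy⟩
  · rintro ⟨s, rfl⟩
    rw [← ext0_comp, Ext.comp_assoc_of_second_deg_zero, hS.comp_extClass, Ext.comp_zero]

include hS in
lemma surjective_of_ext1 (h : ∀ ξ : Ext (fr W) S.X₁ 1, ξ = 0) :
    Function.Surjective (S.g.hom.app (op W)).hom := by
  intro z
  exact (ext0_comp_extClass_eq_zero_iff W hS z).1 (h _)

/-- the connecting map from sections of the quotient to `Ext^1` -/
noncomputable def extδ₀ : S.X₃.obj.obj (op W) →+ Ext (fr W) S.X₁ 1 :=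
  (hS.extClass.postcomp (fr W) (zero_add 1)).comp (ext0 W S.X₃)

lemma extδ₀_apply (z : S.X₃.obj.obj (op W)) :
    extδ₀ W hS z = (ext0 W S.X₃ z).comp hS.extClass (zero_add 1) := rfl

lemma extδ₀_surjective (hI : ∀ ξ : Ext (fr W) S.X₂ 1, ξ = 0) :
    Function.Surjective (extδ₀ W hS) := by
  intro ξ
  obtain ⟨x, hx⟩ := Ext.covariant_sequence_exact₁ (fr W) hS ξ (hI _) (zero_add 1)
  obtain ⟨z, rfl⟩ := (ext0_bijective W S.X₃).2 x
  exact ⟨z, hx⟩

end ExtSide


section Main

open Groth.Agent.Lib.FreeSheaf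

theorem nonempty_addEquiv_of_surj {Z A B : Type*} [AddCommGroup Z] [AddCommGroup A]
    [AddCommGroup B] (φ : Z →+ A) (ψ : Z →+ B) (hφ : Function.Surjective φ)
    (hψ : Function.Surjective ψ) (hk : ∀ z, φ z = 0 ↔ ψ z = 0) : Nonempty (A ≃+ B) := by
  have hker : φ.ker = ψ.ker := by
    ext z
    simp only [AddMonoidHom.mem_ker]
    exact hk z
  exact ⟨(QuotientAddGroup.quotientKerEquivOfSurjective φ hφ).symm.trans
    ((QuotientAddGroup.quotientAddEquivOfEq hker).trans
      (QuotientAddGroup.quotientKerEquivOfSurjective ψ hψ))⟩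

variable {ι : Type u} (U : ι → Opens X)

/-- Leray's theorem -/
theorem leray (p : ℕ) : ∀ (F : CohTop.Ab X)
    (_ : ∀ (n : ℕ) (σ : Fin (n + 1) → ι) (q : ℕ) (ξ : Ext (fr (⨅ k, U (σ k))) F (q + 1)), ξ = 0),
    Nonempty (CohTop.cechH F.obj U p ≃+ Ext (fr (iSup U)) F p) := by
  induction p with
  | zero =>
    intro F h
    exact ⟨(AddEquiv.ofBijective (κ U F.obj).hom (κ_bijective U F)).symm.trans
      (AddEquiv.ofBijective (ext0 (iSup U) F) (ext0_bijective _ F))⟩
  | succ p ih =>
    intro F h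
    let S : ShortComplex (CohTop.Ab X) := ShortComplex.mk (Injective.ι F)
      (cokernel.π (Injective.ι F)) (cokernel.condition _)
    have hS : S.ShortExact :=
      { exact := ShortComplex.exact_of_g_is_cokernel _ (cokernelIsCokernel _)
        mono_f := inferInstanceAs (Mono (Injective.ι F))
        epi_g := inferInstanceAs (Epi (cokernel.π (Injective.ι F))) }
    have hI : ∀ (V : Opens X) (n : ℕ) (ξ : Ext (fr V) S.X₂ (n + 1)), ξ = 0 :=
      fun V n ξ => Ext.eq_zero_of_injective (I := Injective.under F) ξ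
    have hsurj : ∀ (n : ℕ) (σ : Fin (n + 1) → ι),
        Function.Surjective (S.g.hom.app (op (⨅ k, U (σ k)))).hom :=
      fun n σ => surjective_of_ext1 _ hS (h n σ 0)
    have hQ : ∀ (n : ℕ) (σ : Fin (n + 1) → ι) (q : ℕ)
        (ξ : Ext (fr (⨅ k, U (σ k))) S.X₃ (q + 1)), ξ = 0 :=
      fun n σ q ξ => ext_X₃_eq_zero _ hS q (hI _ q) (h n σ (q + 1)) ξ
    have hSC := cechSC_shortExact U S hS hsurj
    haveI : Injective S.X₂ := inferInstanceAs (Injective (Injective.under F))
    haveI : TopCat.Sheaf.IsFlasque S.X₂ :=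
      Groth.Agent.Lib.FlasqueAcyclic.isFlasque_of_injective S.X₂
    have hCI : ∀ q, IsZero ((cechSC U S).X₂.homology (q + 1)) :=
      fun q => isZero_cechH_of_surjHyp (surjHyp_of_isFlasque S.X₂ U) q
    cases p with
    | zero =>
      let φ : S.X₃.obj.obj (op (iSup U)) →+ (cechSC U S).X₁.homology 1 :=
        (hSC.δ 0 1 rfl).hom.comp (κ U S.X₃.obj).hom
      have hφs : Function.Surjective φ := by
        have : Epi (hSC.δ 0 1 rfl) := hSC.epi_δ 0 1 rfl (hCI 0)
        exact ((AddCommGrpCat.epi_iff_surjective _).mp this).comp (κ_bijective U S.X₃).2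
      refine nonempty_addEquiv_of_surj φ (extδ₀ (iSup U) hS) hφs
        (extδ₀_surjective _ hS (hI _ 0)) ?_
      intro z
      rw [extδ₀_apply, ext0_comp_extClass_eq_zero_iff]
      have hn : ∀ s, (HomologicalComplex.homologyMap (cechSC U S).g 0).hom
          ((κ U S.X₂.obj).hom s) = (κ U S.X₃.obj).hom ((S.g.hom.app (op (iSup U))).hom s) :=
        fun s => congrArg (fun f => f.hom s) (κ_natural U S.g.hom)
      constructor
      · intro hz
        have hex := hSC.homology_exact₃ 0 1 rfl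
        rw [ShortComplex.ab_exact_iff] at hex
        obtain ⟨y, hy⟩ := hex ((κ U S.X₃.obj).hom z) hz
        obtain ⟨s, rfl⟩ := (κ_bijective U S.X₂).2 y
        refine ⟨s, (κ_bijective U S.X₃).1 ?_⟩
        exact (hn s).symm.trans hy
      · rintro ⟨s, rfl⟩
        show (hSC.δ 0 1 rfl).hom ((κ U S.X₃.obj).hom ((S.g.hom.app (op (iSup U))).hom s)) = 0
        rw [← hn s]
        have := congrArg (fun f => f.hom ((κ U S.X₂.obj).hom s)) (hSC.comp_δ 0 1 rfl)
        exact this
    | succ p =>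
      obtain ⟨e⟩ := ih S.X₃ hQ
      let e1 : (cechSC U S).X₃.homology (p + 1) ≅ (cechSC U S).X₁.homology (p + 2) :=
        hSC.δIso (p + 1) (p + 2) rfl (hCI p) (hCI (p + 1))
      exact ⟨e1.symm.addCommGroupIsoToAddEquiv.trans
        (e.trans (extShift (fr (iSup U)) hS p (hI _ p) (hI _ (p + 1))))⟩

end Main

end Groth.Agent.Lib.Cech
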