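import Mathlib
import Groth.Prelude.Def_Coh
import Groth.Prelude.Def_CohB1
import Groth.Prelude.Def_CohTop
import Groth.Agent.Lib.CechLeray_helper2
import Groth.Agent.Lib.AffVanish_helper9

/-!
# Čech cohomology of quasi-coherent modules for coverings with affine intersections
-/

set_option autoImplicit false
universe u
open CategoryTheory Limits TopologicalSpace Opposite Abelian AlgebraicGeometry

namespace Groth.Agent.Lib.Cech

open Groth.Agent.Lib.FreeSheaf Groth.Agent.Lib.FlasqueAcyclic

section Top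

variable {X : TopCat.{u}}

/-- The constant sheaf `ℤ`. -/
noncomputable abbrev KK (X : TopCat.{u}) : CohTop.Ab X :=
  (constantSheaf (Opens.grothendieckTopology X) AddCommGrpCat.{u}).obj
    (AddCommGrpCat.of (ULift ℤ))

/-- the comparison map from the constant sheaf to the free sheaf on the whole space -/
noncomputable def kkToFr : KK X ⟶ fr (⊤ : Opens X) :=
  (constEquiv (fr (⊤ : Opens X))).symm
    (freeSheafHomEquiv (Opens.grothendieckTopology X) ⊤ (fr (⊤ : Opens X)) (𝟙 _))

/-- the comparison map from the free sheaf on the whole space to the constant sheaf -/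
noncomputable def frToKK : fr (⊤ : Opens X) ⟶ KK X :=
  (freeSheafHomEquiv (Opens.grothendieckTopology X) ⊤ (KK X)).symm (constEquiv (KK X) (𝟙 _))

lemma kkToFr_frToKK : kkToFr (X := X) ≫ frToKK = 𝟙 _ := by
  apply (constEquiv (KK X)).injective
  rw [constEquiv_comp]
  unfold kkToFr
  rw [Equiv.apply_symm_apply, ← freeSheafHomEquiv_comp, Category.id_comp]
  unfold frToKK
  rw [Equiv.apply_symm_apply]

lemma frToKK_kkToFr : frToKK (X := X) ≫ kkToFr = 𝟙 _ := by
  apply (freeSheafHomEquiv (Opens.grothendieckTopology X) ⊤ (fr (⊤ : Opens X))).injective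
  rw [freeSheafHomEquiv_comp]
  unfold frToKK
  rw [Equiv.apply_symm_apply, ← constEquiv_comp, Category.id_comp]
  unfold kkToFr
  rw [Equiv.apply_symm_apply]

/-- `H^p(X, F)` computed with the free sheaf on the whole space -/
noncomputable def extTopEquiv (F : CohTop.Ab X) (p : ℕ) :
    Ext (fr (⊤ : Opens X)) F p ≃+ Ext (KK X) F p where
  toFun x := (Ext.mk₀ (kkToFr (X := X))).comp x (zero_add p)
  invFun y := (Ext.mk₀ (frToKK (X := X))).comp y (zero_add p)
  left_inv x := by
    dsimp only
    rw [Ext.mk₀_comp_mk₀_assoc, frToKK_kkToFr, Ext.mk₀_id_comp]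
  right_inv y := by
    dsimp only
    rw [Ext.mk₀_comp_mk₀_assoc, kkToFr_frToKK, Ext.mk₀_id_comp]
  map_add' x y := by
    rw [Ext.comp_add]

end Top

section Scheme

variable {X : Scheme.{u}}

lemma ext_fr_eq_zero_of_isAffineOpen (M : X.Modules) [M.IsQuasicoherent] (V : X.Opens)
    (hV : IsAffineOpen V) (n : ℕ) (ξ : Ext (fr (X := X.toTopCat) V) (Coh.toAb M) (n + 1)) : ξ = 0 :=
  AffVanish.ext_eq_zero_of_MV (fr (X := X.toTopCat) V) V hV
    (fun F => freeSheafHomEquiv _ V F) (fun f φ => freeSheafHomEquiv_comp _ V f φ)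
    (Coh.toAb M) (AffVanish.MV_toAb M) n ξ

lemma iInf_eq_biInf_image {ι : Type u} [DecidableEq ι] (U : ι → X.Opens) {n : ℕ}
    (σ : Fin (n + 1) → ι) : (⨅ k, U (σ k)) = ⨅ i ∈ Finset.univ.image σ, U i := by
  rw [Finset.iInf_finset_image]
  simp

/-- Čech cohomology computes `Ext` from the free sheaf for coverings with affine intersections -/
theorem nonempty_cech_addEquiv {ι : Type u} (U : ι → X.Opens)
    (hU : ∀ s : Finset ι, s.Nonempty → IsAffineOpen (⨅ i ∈ s, U i))
    (M : X.Modules) [M.IsQuasicoherent] (p : ℕ) :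
    Nonempty (CohTop.cechH (X := X.toTopCat) (Coh.toAb M).obj U p ≃+
      Ext (fr (X := X.toTopCat) (iSup U)) (Coh.toAb M) p) := by
  classical
  apply leray (X := X.toTopCat) U p (Coh.toAb M)
  intro n σ q ξ
  apply ext_fr_eq_zero_of_isAffineOpen M _ _ q ξ
  rw [iInf_eq_biInf_image]
  exact hU _ ⟨σ 0, Finset.mem_image_of_mem σ (Finset.mem_univ 0)⟩

end Scheme

end Groth.Agent.Lib.Cech
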