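import Mathlib

/-!
# Sections of a directed colimit of sheaves of sets over quasi-compact opens (helper5)
-/

set_option autoImplicit false

universe u

open CategoryTheory CategoryTheory.Limits TopologicalSpace Opposite

namespace Groth.Agent.ShColim5

variable {X : TopCat.{u}} {J : Type u} [Preorder J] [Nonempty J] [IsDirected J (· ≤ ·)]
  (F : J ⥤ Sheaf (Opens.grothendieckTopology X) (Type u)) (c : Cocone F) (hc : IsColimit c)

section step1

include hc

/-- the legs of a colimit cocone of sheaves are jointly locally injective. -/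
theorem locally_eq (i : J) (V : Opens X) (s t : (F.obj i).obj.obj (op V))
    (h : (c.ι.app i).hom.app (op V) s = (c.ι.app i).hom.app (op V) t) (x : X) (hx : x ∈ V) :
    ∃ (W : Opens X) (hW : W ≤ V) (j : J) (hij : i ≤ j), x ∈ W ∧
      (F.map (homOfLE hij)).hom.app (op W) ((F.obj i).obj.map (homOfLE hW).op s) =
        (F.map (homOfLE hij)).hom.app (op W) ((F.obj i).obj.map (homOfLE hW).op t) := by
  let D := F ⋙ sheafToPresheaf (Opens.grothendieckTopology X) (Type u)
  let E := colimit.cocone D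
  have hE : IsColimit E := colimit.isColimit D
  have hc' := Sheaf.isColimitSheafifyCocone E hE
  let e := hc.coconePointUniqueUpToIso hc'
  have he : c.ι.app i ≫ e.hom = (Sheaf.sheafifyCocone E).ι.app i :=
    hc.comp_coconePointUniqueUpToIso_hom hc' i
  -- equality after sheafification
  have h1 : (toSheafify (Opens.grothendieckTopology X) E.pt).app (op V)
      ((E.ι.app i).app (op V) s) =
      (toSheafify (Opens.grothendieckTopology X) E.pt).app (op V)
        ((E.ι.app i).app (op V) t) := by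
    have h2 := congrArg (fun φ => φ.hom.app (op V)) he
    have h3 := Sheaf.sheafifyCocone_ι_app_val E i
    have h4 : ∀ z, (toSheafify (Opens.grothendieckTopology X) E.pt).app (op V)
        ((E.ι.app i).app (op V) z) = e.hom.hom.app (op V) ((c.ι.app i).hom.app (op V) z) := by
      intro z
      have := congrArg (fun φ => φ z) h2
      rw [h3] at this
      exact this.symm
    rw [h4, h4, h]
  have h5 := Presheaf.equalizerSieve_mem (Opens.grothendieckTopology X)
    (toSheafify (Opens.grothendieckTopology X) E.pt) _ _ h1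
  obtain ⟨W, f, hf, hxW⟩ := h5 x hx
  -- equality in the presheaf colimit at `W`
  have h6 : (E.ι.app i).app (op W) ((F.obj i).obj.map f.op s) =
      (E.ι.app i).app (op W) ((F.obj i).obj.map f.op t) := by
    have n1 := NatTrans.naturality_apply (E.ι.app i) f.op s
    have n2 := NatTrans.naturality_apply (E.ι.app i) f.op t
    exact n1.trans (hf.trans n2.symm)
  have hEW := isColimitOfPreserves ((evaluation (Opens X)ᵒᵖ (Type u)).obj (op W)) hE
  obtain ⟨j, a, b, hab⟩ := (Types.FilteredColimit.isColimit_eq_iff _ hEW).mp h6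
  refine ⟨W, f.le, j, leOfHom a, hxW, ?_⟩
  have ha : a = homOfLE (leOfHom a) := Subsingleton.elim _ _
  have hb : b = homOfLE (leOfHom a) := Subsingleton.elim _ _
  rw [ha] at hab
  rw [hb] at hab
  exact hab

/-- the legs of a colimit cocone of sheaves are jointly locally surjective. -/
theorem locally_surj (V : Opens X) (g : c.pt.obj.obj (op V)) (x : X) (hx : x ∈ V) :
    ∃ (W : Opens X) (hW : W ≤ V) (i : J) (s : (F.obj i).obj.obj (op W)), x ∈ W ∧
      (c.ι.app i).hom.app (op W) s = c.pt.obj.map (homOfLE hW).op g := by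
  let D := F ⋙ sheafToPresheaf (Opens.grothendieckTopology X) (Type u)
  let E := colimit.cocone D
  have hE : IsColimit E := colimit.isColimit D
  have hc' := Sheaf.isColimitSheafifyCocone E hE
  let e := hc.coconePointUniqueUpToIso hc'
  have he : ∀ i, c.ι.app i ≫ e.hom = (Sheaf.sheafifyCocone E).ι.app i := fun i =>
    hc.comp_coconePointUniqueUpToIso_hom hc' i
  have h5 := Presheaf.imageSieve_mem (Opens.grothendieckTopology X)
    (toSheafify (Opens.grothendieckTopology X) E.pt) (U := op V) (e.hom.hom.app (op V) g)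
  obtain ⟨W, f, ⟨y, hy⟩, hxW⟩ := h5 x hx
  have hEW := isColimitOfPreserves ((evaluation (Opens X)ᵒᵖ (Type u)).obj (op W)) hE
  obtain ⟨i, s, hs⟩ := Types.jointly_surjective_of_isColimit hEW y
  refine ⟨W, f.le, i, s, hxW, ?_⟩
  -- apply the inverse of `e`
  have hinj : Function.Injective (e.hom.hom.app (op W)) := by
    intro a b hab
    have h1 : ∀ z, e.inv.hom.app (op W) (e.hom.hom.app (op W) z) = z := fun z =>
      congrArg (fun φ => φ z) (congrArg (fun φ => φ.hom.app (op W)) e.hom_inv_id)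
    rw [← h1 a, ← h1 b, hab]
  apply hinj
  have h2 := congrArg (fun φ => φ.hom.app (op W)) (he i)
  have h3 := Sheaf.sheafifyCocone_ι_app_val E i
  have h4 : e.hom.hom.app (op W) ((c.ι.app i).hom.app (op W) s) =
      (toSheafify (Opens.grothendieckTopology X) E.pt).app (op W) ((E.ι.app i).app (op W) s) := by
    have := congrArg (fun φ => φ s) h2
    rw [h3] at this
    exact this
  rw [h4]
  have hs' : (E.ι.app i).app (op W) s = y := hs
  rw [hs', hy]
  have n1 := NatTrans.naturality_apply e.hom.hom f.op g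
  exact n1.symm

end step1


section compat

variable {F c}

omit [Nonempty J] [IsDirected J (· ≤ ·)] in
theorem lam_tr {i j : J} (hij : i ≤ j) (V : Opens X) (s : (F.obj i).obj.obj (op V)) :
    (c.ι.app j).hom.app (op V) ((F.map (homOfLE hij)).hom.app (op V) s) =
      (c.ι.app i).hom.app (op V) s := by
  have h := congrArg (fun φ => φ.hom.app (op V)) (c.w (homOfLE hij))
  exact congrArg (fun φ => φ s) h

omit [Nonempty J] [IsDirected J (· ≤ ·)] in
theorem lam_res (i : J) {W V : Opens X} (hWV : W ≤ V) (s : (F.obj i).obj.obj (op V)) :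
    (c.ι.app i).hom.app (op W) ((F.obj i).obj.map (homOfLE hWV).op s) =
      c.pt.obj.map (homOfLE hWV).op ((c.ι.app i).hom.app (op V) s) :=
  NatTrans.naturality_apply (c.ι.app i).hom (homOfLE hWV).op s

omit [Nonempty J] [IsDirected J (· ≤ ·)] in
theorem tr_res {i j : J} (hij : i ≤ j) {W V : Opens X} (hWV : W ≤ V)
    (s : (F.obj i).obj.obj (op V)) :
    (F.map (homOfLE hij)).hom.app (op W) ((F.obj i).obj.map (homOfLE hWV).op s) =
      (F.obj j).obj.map (homOfLE hWV).op ((F.map (homOfLE hij)).hom.app (op V) s) :=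
  NatTrans.naturality_apply (F.map (homOfLE hij)).hom (homOfLE hWV).op s

omit [Nonempty J] [IsDirected J (· ≤ ·)] in
theorem tr_tr {i j k : J} (hij : i ≤ j) (hjk : j ≤ k) (V : Opens X)
    (s : (F.obj i).obj.obj (op V)) :
    (F.map (homOfLE hjk)).hom.app (op V) ((F.map (homOfLE hij)).hom.app (op V) s) =
      (F.map (homOfLE (hij.trans hjk))).hom.app (op V) s := by
  have h1 : F.map (homOfLE (hij.trans hjk)) = F.map (homOfLE hij) ≫ F.map (homOfLE hjk) := by
    rw [← F.map_comp]
    exact congrArg F.map (Subsingleton.elim _ _)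
  have h := congrArg (fun φ => φ.hom.app (op V)) h1
  exact (congrArg (fun φ => φ s) h).symm

theorem res_res (P : Sheaf (Opens.grothendieckTopology X) (Type u)) {W V U : Opens X}
    (hWV : W ≤ V) (hVU : V ≤ U) (s : P.obj.obj (op U)) :
    P.obj.map (homOfLE hWV).op (P.obj.map (homOfLE hVU).op s) =
      P.obj.map (homOfLE (hWV.trans hVU)).op s := by
  have h1 : P.obj.map (homOfLE (hWV.trans hVU)).op =
      P.obj.map (homOfLE hVU).op ≫ P.obj.map (homOfLE hWV).op := by
    rw [← P.obj.map_comp]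
    rfl
  exact (congrArg (fun φ => φ s) h1).symm

theorem sec_ext (P : Sheaf (Opens.grothendieckTopology X) (Type u)) (V : Opens X)
    (s t : P.obj.obj (op V))
    (h : ∀ x ∈ V, ∃ (W : Opens X) (hW : W ≤ V), x ∈ W ∧
      P.obj.map (homOfLE hW).op s = P.obj.map (homOfLE hW).op t) : s = t :=
  TopCat.Presheaf.IsSheaf.section_ext (F := P.obj) P.property (U := op V) h

end compat

section step2

include hc

/-- (A) if the transition maps are injective, so are the legs of the colimit cocone. -/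
theorem lam_injective
    (hinj : ∀ (i j : J) (h : i ⟶ j) (V : Opens X), Function.Injective ((F.map h).hom.app (op V)))
    (i : J) (V : Opens X) : Function.Injective ((c.ι.app i).hom.app (op V)) := by
  intro s t h
  apply sec_ext (F.obj i) V s t
  intro x hx
  obtain ⟨W, hW, j, hij, hxW, heq⟩ := locally_eq F c hc i V s t h x hx
  exact ⟨W, hW, hxW, hinj i j (homOfLE hij) W heq⟩

/-- (B) over a quasi-compact open, sections identified in the colimit are identified at a
finite stage. -/
theorem eq_of_compact (i : J) (V : Opens X) (hV : IsCompact (V : Set X))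
    (s t : (F.obj i).obj.obj (op V))
    (h : (c.ι.app i).hom.app (op V) s = (c.ι.app i).hom.app (op V) t) :
    ∃ (j : J) (hij : i ≤ j), (F.map (homOfLE hij)).hom.app (op V) s =
      (F.map (homOfLE hij)).hom.app (op V) t := by
  classical
  choose W hW j hij hxW heq using fun (x : V) => locally_eq F c hc i V s t h x.1 x.2
  obtain ⟨T, hT⟩ := hV.elim_finite_subcover (fun x : V => (W x : Set X)) (fun x => (W x).isOpen)
    (fun y hy => Set.mem_iUnion.mpr ⟨⟨y, hy⟩, hxW ⟨y, hy⟩⟩)
  obtain ⟨K, hK⟩ := Finset.exists_le (insert i (T.image j))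
  have hiK : i ≤ K := hK i (Finset.mem_insert_self _ _)
  have hjK : ∀ x ∈ T, j x ≤ K := fun x hx =>
    hK _ (Finset.mem_insert_of_mem (Finset.mem_image_of_mem j hx))
  refine ⟨K, hiK, ?_⟩
  apply sec_ext (F.obj K) V
  intro y hy
  obtain ⟨x, hxT, hyx⟩ := Set.mem_iUnion₂.mp (hT hy)
  refine ⟨W x, hW x, hyx, ?_⟩
  have e1 : ∀ z : (F.obj i).obj.obj (op V),
      (F.obj K).obj.map (homOfLE (hW x)).op ((F.map (homOfLE hiK)).hom.app (op V) z) =
      (F.map (homOfLE (hjK x hxT))).hom.app (op (W x))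
        ((F.map (homOfLE (hij x))).hom.app (op (W x))
          ((F.obj i).obj.map (homOfLE (hW x)).op z)) := fun z =>
    (tr_res hiK (hW x) z).symm.trans (tr_tr (hij x) (hjK x hxT) (W x) _).symm
  rw [e1 s, e1 t, heq x]

/-- (C) gluing finitely many local lifts. -/
theorem glue_fin {ι : Type*} [Finite ι] (U : Opens X) (g : c.pt.obj.obj (op U))
    (W : ι → Opens X) (hWU : ∀ j, W j ≤ U) (hcov : U ≤ ⨆ j, W j)
    (i : ι → J) (s : ∀ j, (F.obj (i j)).obj.obj (op (W j)))
    (hs : ∀ j, (c.ι.app (i j)).hom.app (op (W j)) (s j) =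
      c.pt.obj.map (homOfLE (hWU j)).op g)
    (hov : ∀ (j l : ι) (k : J) (a b : (F.obj k).obj.obj (op (W j ⊓ W l))),
      (c.ι.app k).hom.app (op (W j ⊓ W l)) a = (c.ι.app k).hom.app (op (W j ⊓ W l)) b →
      ∃ (k' : J) (hk : k ≤ k'), (F.map (homOfLE hk)).hom.app (op (W j ⊓ W l)) a =
        (F.map (homOfLE hk)).hom.app (op (W j ⊓ W l)) b) :
    ∃ (K : J) (s' : (F.obj K).obj.obj (op U)), (c.ι.app K).hom.app (op U) s' = g := by
  classical
  cases nonempty_fintype ι
  obtain ⟨k, hk⟩ := Finset.exists_le (Finset.univ.image i)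
  have hik : ∀ j, i j ≤ k := fun j => hk _ (Finset.mem_image_of_mem i (Finset.mem_univ j))
  let s1 : ∀ j, (F.obj k).obj.obj (op (W j)) := fun j =>
    (F.map (homOfLE (hik j))).hom.app (op (W j)) (s j)
  have hs1 : ∀ j, (c.ι.app k).hom.app (op (W j)) (s1 j) =
      c.pt.obj.map (homOfLE (hWU j)).op g := fun j =>
    (lam_tr (hik j) (W j) (s j)).trans (hs j)
  have hov1 : ∀ j l, ∃ (k' : J) (hk : k ≤ k'),
      (F.map (homOfLE hk)).hom.app (op (W j ⊓ W l))
        ((F.obj k).obj.map (homOfLE (inf_le_left : W j ⊓ W l ≤ W j)).op (s1 j)) =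
      (F.map (homOfLE hk)).hom.app (op (W j ⊓ W l))
        ((F.obj k).obj.map (homOfLE (inf_le_right : W j ⊓ W l ≤ W l)).op (s1 l)) := by
    intro j l
    have e : ∀ (j' : ι) (h : W j ⊓ W l ≤ W j'),
        (c.ι.app k).hom.app (op (W j ⊓ W l)) ((F.obj k).obj.map (homOfLE h).op (s1 j')) =
          c.pt.obj.map (homOfLE (h.trans (hWU j'))).op g := fun j' h =>
      (lam_res k h (s1 j')).trans ((congrArg _ (hs1 j')).trans (res_res c.pt h (hWU j') g))
    exact hov j l k _ _ ((e j inf_le_left).trans (e l inf_le_right).symm)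
  choose k' hkk' hk' using hov1
  obtain ⟨K, hK⟩ := Finset.exists_le
    (insert k ((Finset.univ : Finset (ι × ι)).image (fun p => k' p.1 p.2)))
  have hkK : k ≤ K := hK k (Finset.mem_insert_self _ _)
  have hk'K : ∀ j l, k' j l ≤ K := fun j l =>
    hK _ (Finset.mem_insert_of_mem
      (Finset.mem_image_of_mem (fun p : ι × ι => k' p.1 p.2) (Finset.mem_univ (j, l))))
  let s2 : ∀ j, (F.obj K).obj.obj (op (W j)) := fun j =>
    (F.map (homOfLE hkK)).hom.app (op (W j)) (s1 j)
  have hs2 : ∀ j, (c.ι.app K).hom.app (op (W j)) (s2 j) =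
      c.pt.obj.map (homOfLE (hWU j)).op g := fun j =>
    (lam_tr hkK (W j) (s1 j)).trans (hs1 j)
  have hcomp : TopCat.Presheaf.IsCompatible (F.obj K).obj W s2 := by
    intro j l
    have e1 : ∀ (j' : ι) (h : W j ⊓ W l ≤ W j') (z : (F.obj k).obj.obj (op (W j'))),
        (F.obj K).obj.map (homOfLE h).op ((F.map (homOfLE hkK)).hom.app (op (W j')) z) =
        (F.map (homOfLE (hk'K j l))).hom.app (op (W j ⊓ W l))
          ((F.map (homOfLE (hkk' j l))).hom.app (op (W j ⊓ W l))
            ((F.obj k).obj.map (homOfLE h).op z)) := fun j' h z =>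
      (tr_res hkK h z).symm.trans (tr_tr (hkk' j l) (hk'K j l) _ _).symm
    exact (e1 j inf_le_left (s1 j)).trans
      ((congrArg _ (hk' j l)).trans (e1 l inf_le_right (s1 l)).symm)
  obtain ⟨s', hs', -⟩ := TopCat.Sheaf.existsUnique_gluing'
    (F := (F.obj K : TopCat.Sheaf (Type u) X)) W U (fun j => homOfLE (hWU j)) hcov s2 hcomp
  refine ⟨K, s', ?_⟩
  apply sec_ext c.pt U
  intro x hx
  obtain ⟨j, hxj⟩ := Opens.mem_iSup.mp (hcov hx)
  refine ⟨W j, hWU j, hxj, ?_⟩
  have hs'j : (F.obj K).obj.map (homOfLE (hWU j)).op s' = s2 j := hs' j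
  exact (lam_res K (hWU j) s').symm.trans ((congrArg _ hs'j).trans (hs2 j))

end step2

/-- The comparison map `colim_i F_i(U) → F(U)` for a directed colimit of sheaves of sets. -/
theorem main (F : J ⥤ X.Sheaf (Type u)) (c : Cocone F) (hc : IsColimit c) (U : Opens X) :
    let ev := TopCat.Sheaf.forget (Type u) X ⋙ (evaluation (Opens X)ᵒᵖ (Type u)).obj (op U)
    let Ψ : colimit (F ⋙ ev) → ev.obj c.pt := colimit.desc (F ⋙ ev) (ev.mapCocone c)
    ((∀ (i j : J) (h : i ⟶ j) (V : Opens X), Function.Injective ((F.map h).1.app (op V))) →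
      Function.Injective Ψ) ∧
    (IsCompact (U : Set X) → Function.Injective Ψ) ∧
    (IsCompact (U : Set X) →
      (∀ (i j : J) (h : i ⟶ j) (V : Opens X), Function.Injective ((F.map h).1.app (op V))) →
      Function.Bijective Ψ) ∧
    ((∀ 𝒱 : Set (Opens X), (⨆ V ∈ 𝒱, V) = U →
        ∃ (m : ℕ) (W : Fin m → Opens X), (∀ j, ∃ V ∈ 𝒱, W j ≤ V) ∧ (⨆ j, W j) = U ∧
          ∀ j j', IsCompact ((W j ⊓ W j' : Opens X) : Set X)) →
      Function.Bijective Ψ) := by
  intro ev Ψ
  have hΨι : ∀ (i : J) (s : (F.obj i).obj.obj (op U)),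
      Ψ (colimit.ι (F ⋙ ev) i s) = (c.ι.app i).hom.app (op U) s := by
    intro i s
    exact congrArg (fun φ => φ s) (colimit.ι_desc (ev.mapCocone c) i)
  have hιtr : ∀ (i j : J) (hij : i ≤ j) (s : (F.obj i).obj.obj (op U)),
      colimit.ι (F ⋙ ev) j ((F.map (homOfLE hij)).hom.app (op U) s) =
        colimit.ι (F ⋙ ev) i s := by
    intro i j hij s
    exact congrArg (fun φ => φ s) (colimit.w (F ⋙ ev) (homOfLE hij))
  have hinj : (∀ (k : J) (a b : (F.obj k).obj.obj (op U)),
      (c.ι.app k).hom.app (op U) a = (c.ι.app k).hom.app (op U) b →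
      ∃ (k' : J) (hk : k ≤ k'), (F.map (homOfLE hk)).hom.app (op U) a =
        (F.map (homOfLE hk)).hom.app (op U) b) → Function.Injective Ψ := by
    intro P x y hxy
    obtain ⟨i, s, hx⟩ := Types.jointly_surjective' x
    obtain ⟨j, t, hy⟩ := Types.jointly_surjective' y
    obtain ⟨k, hik, hjk⟩ := exists_ge_ge i j
    have hx' : x = colimit.ι (F ⋙ ev) k ((F.map (homOfLE hik)).hom.app (op U) s) :=
      hx.symm.trans (hιtr i k hik s).symm
    have hy' : y = colimit.ι (F ⋙ ev) k ((F.map (homOfLE hjk)).hom.app (op U) t) :=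
      hy.symm.trans (hιtr j k hjk t).symm
    have a1 : Ψ x = (c.ι.app k).hom.app (op U) ((F.map (homOfLE hik)).hom.app (op U) s) :=
      (congrArg Ψ hx').trans (hΨι k _)
    have a2 : Ψ y = (c.ι.app k).hom.app (op U) ((F.map (homOfLE hjk)).hom.app (op U) t) :=
      (congrArg Ψ hy').trans (hΨι k _)
    obtain ⟨k', hk, h⟩ := P k _ _ (a1.symm.trans (hxy.trans a2))
    exact hx'.trans (((hιtr k k' hk _).symm.trans
      ((congrArg (fun z => colimit.ι (F ⋙ ev) k' z) h).trans (hιtr k k' hk _))).trans hy'.symm)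
  have hsurj : (∀ g : c.pt.obj.obj (op U), ∃ (K : J) (s' : (F.obj K).obj.obj (op U)),
      (c.ι.app K).hom.app (op U) s' = g) → Function.Surjective Ψ := by
    intro P g
    obtain ⟨K, s', h⟩ := P g
    exact ⟨colimit.ι (F ⋙ ev) K s', (hΨι K s').trans h⟩
  refine ⟨?_, ?_, ?_, ?_⟩
  · intro hT
    apply hinj
    intro k a b hab
    exact ⟨k, le_rfl, congrArg _ (lam_injective F c hc hT k U hab)⟩
  · intro hU
    apply hinj
    intro k a b hab
    exact eq_of_compact F c hc k U hU a b hab
  · intro hU hT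
    refine ⟨hinj (fun k a b hab => ⟨k, le_rfl, congrArg _ (lam_injective F c hc hT k U hab)⟩),
      hsurj ?_⟩
    intro g
    choose W hW i s hxW hs using fun (x : U) => locally_surj F c hc U g x.1 x.2
    obtain ⟨T, hT'⟩ := hU.elim_finite_subcover (fun x : U => (W x : Set X))
      (fun x => (W x).isOpen)
      (fun y hy => Set.mem_iUnion.mpr ⟨⟨y, hy⟩, hxW ⟨y, hy⟩⟩)
    refine glue_fin F c hc (ι := {x // x ∈ T}) U g (fun p => W p.1) (fun p => hW p.1) ?_
      (fun p => i p.1) (fun p => s p.1) (fun p => hs p.1) ?_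
    · intro y hy
      obtain ⟨x, hxT, hyx⟩ := Set.mem_iUnion₂.mp (hT' hy)
      exact Opens.mem_iSup.mpr ⟨⟨x, hxT⟩, hyx⟩
    · intro j l k a b hab
      exact ⟨k, le_rfl, congrArg _ (lam_injective F c hc hT k _ hab)⟩
  · intro hfin
    have hU : IsCompact (U : Set X) := by
      obtain ⟨m, W, -, hWU, hcpt⟩ := hfin {U} (by simp)
      have h1 : (U : Set X) = ⋃ j, ((W j ⊓ W j : Opens X) : Set X) := by
        rw [← hWU, Opens.coe_iSup]
        exact Set.iUnion_congr (fun j => by rw [inf_idem])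
      rw [h1]
      exact isCompact_iUnion (fun j => hcpt j j)
    refine ⟨hinj (fun k a b hab => eq_of_compact F c hc k U hU a b hab), hsurj ?_⟩
    intro g
    let 𝒱 : Set (Opens X) := {V | ∃ (hV : V ≤ U) (i : J) (s : (F.obj i).obj.obj (op V)),
      (c.ι.app i).hom.app (op V) s = c.pt.obj.map (homOfLE hV).op g}
    have h𝒱 : (⨆ V ∈ 𝒱, V) = U := by
      apply le_antisymm
      · refine iSup₂_le (fun V hV => ?_)
        obtain ⟨hVU, -⟩ := hV
        exact hVU
      · intro x hx
        obtain ⟨W, hW, i, s, hxW, hs⟩ := locally_surj F c hc U g x hx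
        exact Opens.mem_iSup.mpr ⟨W, Opens.mem_iSup.mpr ⟨⟨hW, i, s, hs⟩, hxW⟩⟩
    obtain ⟨m, W, hWV, hWU, hcpt⟩ := hfin 𝒱 h𝒱
    choose V hV𝒱 hWV' using hWV
    have hV𝒱' : ∀ j, ∃ (hV : V j ≤ U) (i : J) (s : (F.obj i).obj.obj (op (V j))),
        (c.ι.app i).hom.app (op (V j)) s = c.pt.obj.map (homOfLE hV).op g := hV𝒱
    choose hVU i s hs using hV𝒱'
    refine glue_fin F c hc (ι := Fin m) U g W (fun j => (hWV' j).trans (hVU j))
      (le_of_eq hWU.symm) i (fun j => (F.obj (i j)).obj.map (homOfLE (hWV' j)).op (s j)) ?_ ?_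
    · intro j
      exact (lam_res (i j) (hWV' j) (s j)).trans
        ((congrArg _ (hs j)).trans (res_res c.pt (hWV' j) (hVU j) g))
    · intro j l k a b hab
      exact eq_of_compact F c hc k _ (hcpt j l) a b hab

end Groth.Agent.ShColim5
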