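import Mathlib

set_option autoImplicit false
universe u

open CategoryTheory CategoryTheory.Limits Opposite

/-! The forgetful functor from sheaves of abelian groups to sheaves of sets preserves filtered
colimits. -/

namespace ShForgetH8

variable {C : Type u} [SmallCategory C] (J : GrothendieckTopology C)

theorem preservesColimit_sheafCompose_forget {K : Type u} [SmallCategory K] [IsFiltered K]
    (D' : K ⥤ Sheaf J Ab.{u}) :
    PreservesColimit D' (sheafCompose J (forget Ab.{u})) := by
  let ι := sheafToPresheaf J Ab.{u}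
  let E := colimit.cocone (D' ⋙ ι)
  have hE : IsColimit E := colimit.isColimit _
  have hc := Sheaf.isColimitSheafifyCocone E hE
  apply preservesColimit_of_preserves_colimit_cocone hc
  let W := (Functor.whiskeringRight Cᵒᵖ Ab.{u} (Type u)).obj (forget Ab.{u})
  let E' : Cocone ((D' ⋙ sheafCompose J (forget Ab.{u})) ⋙ sheafToPresheaf J (Type u)) :=
    W.mapCocone E
  have hE' : IsColimit E' := isColimitOfPreserves W hE
  have hc' := Sheaf.isColimitSheafifyCocone E' hE'
  refine IsColimit.ofIsoColimit hc' (Cocone.ext ?_ ?_)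
  · exact (sheafComposeNatIso J (forget Ab.{u}) (sheafificationAdjunction J Ab.{u})
      (sheafificationAdjunction J (Type u))).app E.pt
  · intro k
    apply Sheaf.hom_ext
    have h1 := Sheaf.sheafifyCocone_ι_app_val E' k
    have h2 := Sheaf.sheafifyCocone_ι_app_val E k
    have h3 := sheafComposeIso_hom_fac J (forget Ab.{u}) E.pt
    let a : (D' ⋙ ι).obj k ⋙ forget Ab.{u} ⟶ E.pt ⋙ forget Ab.{u} :=
      Functor.whiskerRight (E.ι.app k) (forget Ab.{u})
    let b : E.pt ⋙ forget Ab.{u} ⟶ sheafify J (E.pt ⋙ forget Ab.{u}) :=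
      toSheafify J (E.pt ⋙ forget Ab.{u})
    let e : sheafify J (E.pt ⋙ forget Ab.{u}) ⟶ sheafify J E.pt ⋙ forget Ab.{u} :=
      (sheafifyComposeIso J (forget Ab.{u}) E.pt).hom
    have h1' : ((Sheaf.sheafifyCocone E').ι.app k).hom = a ≫ b := h1
    have h3' : b ≫ e = Functor.whiskerRight (toSheafify J E.pt) (forget Ab.{u}) := h3
    have key : (a ≫ b) ≫ e =
        Functor.whiskerRight ((Sheaf.sheafifyCocone E).ι.app k).hom (forget Ab.{u}) := by
      rw [Category.assoc, h3', h2]
      exact (Functor.whiskerRight_comp _ _ _).symm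
    exact (congrArg (fun t => t ≫ e) h1').trans key

end ShForgetH8
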