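import Mathlib
import Groth.Prelude.Def_CohTop
import Groth.Agent.Lib.ShColim_helper5
import Groth.Agent.Lib.ShForget1_helper8

/-!
# Sections of directed colimits of abelian sheaves over compact opens (helper9)
-/

set_option autoImplicit false

universe u

open CategoryTheory CategoryTheory.Limits TopologicalSpace Opposite

namespace ColimCoh

variable {X : TopCat.{u}}

/-- the underlying sheaf of sets -/
noncomputable abbrev toSet (X : TopCat.{u}) :
    CohTop.Ab X ⥤ Sheaf (Opens.grothendieckTopology X) (Type u) :=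
  sheafCompose (Opens.grothendieckTopology X) (forget AddCommGrpCat.{u})

variable {ι : Type u} [Preorder ι] [IsDirected ι (· ≤ ·)] [Nonempty ι]
  (D : ι ⥤ CohTop.Ab X) (c : Cocone D) (hc : IsColimit c)

include hc in
theorem isColimit_toSet : Nonempty (IsColimit ((toSet X).mapCocone c)) := by
  haveI : IsFiltered ι := inferInstance
  haveI := ShForgetH8.preservesColimit_sheafCompose_forget (Opens.grothendieckTopology X) D
  exact ⟨isColimitOfPreserves (toSet X) hc⟩

include hc in
/-- Over a compact open, a section killed in the colimit is killed at a finite stage. -/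
theorem sec_eq_zero (i : ι) (V : Opens X) (hV : IsCompact (V : Set X))
    (s : (D.obj i).obj.obj (op V)) (h : (c.ι.app i).hom.app (op V) s = 0) :
    ∃ (j : ι) (hij : i ≤ j), (D.map (homOfLE hij)).hom.app (op V) s = 0 := by
  obtain ⟨hc'⟩ := isColimit_toSet D c hc
  obtain ⟨j, hij, hj⟩ := Groth.Agent.ShColim5.eq_of_compact (D ⋙ toSet X)
    ((toSet X).mapCocone c) hc' i V hV s (0 : (D.obj i).obj.obj (op V))
      (h.trans (map_zero ((c.ι.app i).hom.app (op V)).hom).symm)
  exact ⟨j, hij, hj.trans (map_zero ((D.map (homOfLE hij)).hom.app (op V)).hom)⟩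

/-- the hypothesis on an open `U₀`: compact opens inside `U₀` form a basis of `U₀`, stable under
pairwise intersection. -/
structure QCQS (U₀ : Opens X) : Prop where
  inter : ∀ V W : Opens X, V ≤ U₀ → W ≤ U₀ → IsCompact (V : Set X) → IsCompact (W : Set X) →
    IsCompact ((V ⊓ W : Opens X) : Set X)
  basis : ∀ W : Opens X, W ≤ U₀ → ∀ x ∈ W, ∃ V : Opens X, IsCompact (V : Set X) ∧ x ∈ V ∧ V ≤ W

include hc in
/-- Over a compact open inside a `QCQS` open, every section of the colimit comes from a finite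
stage. -/
theorem sec_exists_rep {U₀ : Opens X} (hU₀ : QCQS U₀) (V : Opens X) (hVU : V ≤ U₀)
    (hV : IsCompact (V : Set X)) (t : c.pt.obj.obj (op V)) :
    ∃ (i : ι) (s : (D.obj i).obj.obj (op V)), (c.ι.app i).hom.app (op V) s = t := by
  classical
  obtain ⟨hc'⟩ := isColimit_toSet D c hc
  have key : ∀ x : V, ∃ (W : Opens X) (hW : W ≤ V) (i : ι) (s : (D.obj i).obj.obj (op W)),
      IsCompact (W : Set X) ∧ x.1 ∈ W ∧
        (c.ι.app i).hom.app (op W) s = c.pt.obj.map (homOfLE hW).op t := by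
    intro x
    obtain ⟨W, hW, i, s, hxW, hs⟩ :=
      Groth.Agent.ShColim5.locally_surj (D ⋙ toSet X) ((toSet X).mapCocone c) hc' V t x.1 x.2
    obtain ⟨W', hW'c, hxW', hW'W⟩ := hU₀.basis W (hW.trans hVU) x.1 hxW
    refine ⟨W', hW'W.trans hW, i, (D.obj i).obj.map (homOfLE hW'W).op s, hW'c, hxW', ?_⟩
    have h2 := Groth.Agent.ShColim5.lam_res (F := D ⋙ toSet X) (c := (toSet X).mapCocone c) i
      hW'W s
    refine h2.trans ?_
    have hs' : ((toSet X).mapCocone c).pt.obj.map (homOfLE hW'W).op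
        ((((toSet X).mapCocone c).ι.app i).hom.app (op W) s) =
        ((toSet X).mapCocone c).pt.obj.map (homOfLE hW'W).op
          (((toSet X).mapCocone c).pt.obj.map (homOfLE hW).op t) := congrArg _ hs
    exact hs'.trans (Groth.Agent.ShColim5.res_res ((toSet X).mapCocone c).pt hW'W hW t)
  choose W hW i s hWc hxW hs using key
  obtain ⟨T, hT⟩ := hV.elim_finite_subcover (fun x : V => (W x : Set X))
    (fun x => (W x).isOpen) (fun y hy => Set.mem_iUnion.mpr ⟨⟨y, hy⟩, hxW ⟨y, hy⟩⟩)
  have hcov : V ≤ ⨆ j : T, W j.1 := by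
    intro y hy
    obtain ⟨x, hxT, hyx⟩ := Set.mem_iUnion₂.mp (hT hy)
    exact Opens.mem_iSup.mpr ⟨⟨x, hxT⟩, hyx⟩
  obtain ⟨K, s', hs'⟩ := Groth.Agent.ShColim5.glue_fin (F := D ⋙ toSet X)
    (c := (toSet X).mapCocone c) hc' (ι := T) V t (fun j => W j.1) (fun j => hW j.1) hcov
    (fun j => i j.1) (fun j => s j.1) (fun j => hs j.1)
    (fun j l k a b hab => Groth.Agent.ShColim5.eq_of_compact (D ⋙ toSet X)
      ((toSet X).mapCocone c) hc' k _
      (hU₀.inter _ _ ((hW j.1).trans hVU) ((hW l.1).trans hVU) (hWc j.1) (hWc l.1)) a b hab)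
  exact ⟨K, s', hs'⟩

end ColimCoh
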