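import Mathlib
import Groth.Prelude.Def_CohTop
import Groth.Agent.Lib.ColimCoh1_helper9
import Groth.Agent.Lib.CechFlasque_helper2
import Groth.Agent.Lib.CechCartan_helper2

/-!
# Directed colimits of flasque sheaves are acyclic on compact opens (helper9)
-/

set_option autoImplicit false

universe u

open CategoryTheory CategoryTheory.Limits TopologicalSpace Opposite
open Groth.Agent.Lib.Cech Groth.Agent.Lib.FreeSheaf

namespace ColimCoh

variable {X : TopCat.{u}}

section compact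

variable {U₀ : Opens X} (hU₀ : QCQS U₀)

include hU₀ in
lemma isCompact_iInf_fin {ι' : Type u} (U : ι' → Opens X)
    (hUc : ∀ i, IsCompact (U i : Set X)) (hUU : ∀ i, U i ≤ U₀) :
    ∀ (n : ℕ) (σ : Fin (n + 1) → ι'), IsCompact ((⨅ k, U (σ k) : Opens X) : Set X) := by
  intro n
  induction n with
  | zero =>
    intro σ
    have : (⨅ k, U (σ k) : Opens X) = U (σ 0) := by
      apply le_antisymm (iInf_le _ 0)
      refine le_iInf fun k => ?_
      have hk : k = 0 := Fin.ext (by omega)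
      rw [hk]
    rw [this]
    exact hUc _
  | succ n ih =>
    intro σ
    have : (⨅ k, U (σ k) : Opens X) = U (σ 0) ⊓ ⨅ k : Fin (n + 1), U (σ k.succ) := by
      apply le_antisymm
      · exact le_inf (iInf_le _ 0) (le_iInf fun k => iInf_le _ k.succ)
      · refine le_iInf fun k => ?_
        refine Fin.cases ?_ (fun k' => ?_) k
        · exact inf_le_left
        · exact inf_le_right.trans (iInf_le _ k')
    rw [this]
    exact hU₀.inter _ _ (hUU _) ((iInf_le _ 0).trans (hUU _)) (hUc _) (ih _)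

include hU₀ in
lemma isCompact_iSup_iInf {ι' : Type u} [Finite ι'] (U : ι' → Opens X)
    (hUc : ∀ i, IsCompact (U i : Set X)) (hUU : ∀ i, U i ≤ U₀)
    (κ : Type u) (a : κ → Σ p : ℕ, Fin (p + 1) → ι') :
    IsCompact ((⨆ k, ⨅ j, U ((a k).2 j) : Opens X) : Set X) := by
  let g : Set ι' → Opens X := fun T => ⨅ i ∈ T, U i
  let f : κ → Opens X := fun k => ⨅ j, U ((a k).2 j)
  have hfg : ∀ k, f k = g (Set.range (a k).2) := fun k => (iInf_range (g := U)).symm
  have hfin : (Set.range f).Finite := by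
    refine (Set.finite_range g).subset ?_
    rintro _ ⟨k, rfl⟩
    exact ⟨_, (hfg k).symm⟩
  have : ((⨆ k, f k : Opens X) : Set X) = ⋃ V ∈ Set.range f, (V : Set X) := by
    rw [Opens.coe_iSup, Set.biUnion_range]
  show IsCompact ((⨆ k, f k : Opens X) : Set X)
  rw [this]
  refine hfin.isCompact_biUnion ?_
  rintro _ ⟨k, rfl⟩
  exact isCompact_iInf_fin hU₀ U hUc hUU _ _

end compact

variable {ι : Type u} [Preorder ι] [IsDirected ι (· ≤ ·)] [Nonempty ι]
  (D : ι ⥤ CohTop.Ab X) (c : Cocone D) (hc : IsColimit c)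
  (hfl : ∀ i, TopCat.Sheaf.IsFlasque (D.obj i))
  {U₀ : Opens X} (hU₀ : QCQS U₀)

include hc hfl hU₀ in
/-- restriction maps of a directed colimit of flasque sheaves onto compact opens of `U₀` are
surjective -/
theorem res_surjective {V W : Opens X} (hVW : V ≤ W) (hV : IsCompact (V : Set X))
    (hVU : V ≤ U₀) : Function.Surjective (res c.pt.obj hVW) := by
  intro t
  obtain ⟨i, s, hs⟩ := sec_exists_rep D c hc hU₀ V hVU hV t
  haveI := hfl i
  have h : Epi ((D.obj i).obj.map (homOfLE hVW).op) := TopCat.Presheaf.IsFlasque.epi _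
  obtain ⟨s', hs'⟩ := (AddCommGrpCat.epi_iff_surjective _).mp h s
  refine ⟨(c.ι.app i).hom.app (op W) s', ?_⟩
  have := NatTrans.naturality_apply (c.ι.app i).hom (homOfLE hVW).op s'
  refine Eq.trans ?_ hs
  refine Eq.trans this.symm ?_
  exact congrArg _ hs'

include hc hfl hU₀ in
theorem cech_vanish {ι' : Type u} [Finite ι'] (U : ι' → Opens X)
    (hUc : ∀ i, IsCompact (U i : Set X)) (hUU : ∀ i, U i ≤ U₀) (p : ℕ) :
    IsZero (CohTop.cechH c.pt.obj U (p + 1)) := by
  apply isZero_cechH_of_surjHyp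
  intro κ a A hA _ t
  have hcomp := isCompact_iSup_iInf hU₀ U hUc hUU κ a
  have hle : (⨆ k, ⨅ j, U ((a k).2 j)) ≤ U₀ :=
    iSup_le fun k => (iInf_le _ 0).trans (hUU _)
  exact res_surjective D c hc hfl hU₀ hA hcomp hle t

include hc hfl hU₀ in
/-- a directed colimit of flasque sheaves is acyclic on compact opens of `U₀` -/
theorem ext_vanish (V : Opens X) (hV : IsCompact (V : Set X)) (hVU : V ≤ U₀) (n : ℕ)
    (ξ : Abelian.Ext (freeSheaf (Opens.grothendieckTopology X) V) c.pt (n + 1)) : ξ = 0 := by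
  classical
  refine ext_eq_zero_of_cech (fun V => IsCompact (V : Set X) ∧ V ≤ U₀)
    (fun ι' U => Finite ι' ∧ ∀ i, IsCompact (U i : Set X) ∧ U i ≤ U₀) ?_ ?_ V ⟨hV, hVU⟩ c.pt ?_ n ξ
  · rintro ι' U ⟨_, hU⟩ m σ
    exact ⟨isCompact_iInf_fin hU₀ U (fun i => (hU i).1) (fun i => (hU i).2) m σ,
      (iInf_le _ 0).trans (hU _).2⟩
  · rintro U₁ ⟨hU₁c, hU₁U⟩ κ W hW
    have key : ∀ x : U₁, ∃ (V' : Opens X) (k : κ), IsCompact (V' : Set X) ∧ x.1 ∈ V' ∧ V' ≤ W k := by
      intro x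
      have hx : x.1 ∈ iSup W := hW ▸ x.2
      obtain ⟨k, hk⟩ := Opens.mem_iSup.mp hx
      have hWk : W k ≤ U₀ := (le_iSup W k).trans (hW.le.trans hU₁U)
      obtain ⟨V', hV'c, hxV', hV'W⟩ := hU₀.basis (W k) hWk x.1 hk
      exact ⟨V', k, hV'c, hxV', hV'W⟩
    choose V' k hV'c hxV' hV'W using key
    obtain ⟨T, hT⟩ := hU₁c.elim_finite_subcover (fun x : U₁ => (V' x : Set X))
      (fun x => (V' x).isOpen) (fun y hy => Set.mem_iUnion.mpr ⟨⟨y, hy⟩, hxV' ⟨y, hy⟩⟩)
    refine ⟨T, fun j => V' j.1, ⟨inferInstance, fun j => ⟨hV'c j.1, ?_⟩⟩, ?_, fun j => ⟨k j.1, hV'W j.1⟩⟩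
    · exact (hV'W j.1).trans ((le_iSup W _).trans (hW.le.trans hU₁U))
    · apply le_antisymm
      · exact iSup_le fun j => (hV'W j.1).trans ((le_iSup W _).trans hW.le)
      · intro y hy
        obtain ⟨x, hxT, hyx⟩ := Set.mem_iUnion₂.mp (hT hy)
        exact Opens.mem_iSup.mpr ⟨⟨x, hxT⟩, hyx⟩
  · rintro ι' U ⟨_, hU⟩ p
    exact cech_vanish D c hc hfl hU₀ U (fun i => (hU i).1) (fun i => (hU i).2) p

end ColimCoh
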