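import Mathlib

/-!
# Directed colimits and `Ext` (helper9)

Abstract dimension-shifting step for proving that `Ext^q(Z, -)` commutes with directed colimits.
-/

set_option autoImplicit false

universe w v u

open CategoryTheory CategoryTheory.Limits CategoryTheory.Abelian

namespace ColimExt

variable {A : Type u} [Category.{v} A] [Abelian A] [HasExt.{w} A]

section defs

variable {ι : Type w} [Preorder ι] (Z : A) (q : ℕ) (D : ι ⥤ A) (c : Cocone D)

/-- every class over the cocone point comes from a finite stage -/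
def Surj : Prop :=
  ∀ y : Ext Z c.pt q, ∃ (i : ι) (x : Ext Z (D.obj i) q),
    x.comp (Ext.mk₀ (c.ι.app i)) (add_zero q) = y

/-- a class dying over the cocone point dies at a finite stage -/
def Inj : Prop :=
  ∀ (i : ι) (x : Ext Z (D.obj i) q), x.comp (Ext.mk₀ (c.ι.app i)) (add_zero q) = 0 →
    ∃ (j : ι) (h : i ≤ j), x.comp (Ext.mk₀ (D.map (homOfLE h))) (add_zero q) = 0

variable {Z q D c}

lemma sub_comp' {X Y W : A} {n m p : ℕ} (α₁ α₂ : Ext X Y n) (β : Ext Y W m) (h : n + m = p) :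
    (α₁ - α₂).comp β h = α₁.comp β h - α₂.comp β h := by
  rw [sub_eq_add_neg, Ext.add_comp, Ext.neg_comp, ← sub_eq_add_neg]

theorem isColimit_mapCocone [IsDirected ι (· ≤ ·)] [Nonempty ι]
    (hs : Surj Z q D c) (hi : Inj Z q D c) :
    Nonempty (IsColimit ((extFunctorObj Z q).mapCocone c)) := by
  haveI : IsFiltered ι := inferInstance
  haveI : PreservesColimitsOfShape ι (forget AddCommGrpCat.{w}) :=
    PreservesFilteredColimitsOfSize.preserves_filtered_colimits ι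
  haveI : ReflectsColimitsOfShape ι (forget AddCommGrpCat.{w}) :=
    reflectsColimitsOfShape_of_reflectsIsomorphisms
  refine ⟨isColimitOfReflects (forget AddCommGrpCat.{w}) ?_⟩
  apply Types.FilteredColimit.isColimitOf'
  · intro y
    obtain ⟨i, x, hx⟩ := hs y
    exact ⟨i, x, hx.symm⟩
  · intro i x y h
    let x' : Ext Z (D.obj i) q := x
    let y' : Ext Z (D.obj i) q := y
    have h' : x'.comp (Ext.mk₀ (c.ι.app i)) (add_zero q) =
        y'.comp (Ext.mk₀ (c.ι.app i)) (add_zero q) := h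
    have h0 : (x' - y').comp (Ext.mk₀ (c.ι.app i)) (add_zero q) = 0 := by
      rw [sub_comp', h', sub_self]
    obtain ⟨j, hij, hj⟩ := hi i (x' - y') h0
    refine ⟨j, homOfLE hij, ?_⟩
    rw [sub_comp', sub_eq_zero] at hj
    exact hj

end defs

section nat

variable (Z : A) {q : ℕ}

lemma comp_extClass_naturality {S₁ S₂ : ShortComplex A} (h₁ : S₁.ShortExact)
    (h₂ : S₂.ShortExact) (f : S₁ ⟶ S₂) (x : Ext Z S₁.X₃ q) :
    (x.comp h₁.extClass rfl).comp (Ext.mk₀ f.τ₁) (add_zero (q + 1)) =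
      (x.comp (Ext.mk₀ f.τ₃) (add_zero q)).comp h₂.extClass rfl := by
  rw [Ext.comp_assoc_of_third_deg_zero, ShortComplex.ShortExact.extClass_naturality h₁ h₂ f,
    Ext.comp_assoc_of_second_deg_zero]

end nat

end ColimExt

namespace ColimExt

variable {A : Type u} [Category.{v} A] [Abelian A] [HasExt.{w} A]

section step

variable {ι : Type w} [Preorder ι] [IsDirected ι (· ≤ ·)] [Nonempty ι]
  [HasColimitsOfShape ι A] [HasExactColimitsOfShape ι A]
  (Z : A) (q : ℕ) (S : ShortComplex (ι ⥤ A)) (hS : S.ShortExact)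
  {c₁ : Cocone S.X₁} (hc₁ : IsColimit c₁) {c₂ : Cocone S.X₂} (hc₂ : IsColimit c₂)
  {c₃ : Cocone S.X₃} (hc₃ : IsColimit c₃)

/-- the induced map on colimits -/
noncomputable def fInf : c₁.pt ⟶ c₂.pt := hc₁.desc ((Cocone.precompose S.f).obj c₂)

/-- the induced map on colimits -/
noncomputable def gInf : c₂.pt ⟶ c₃.pt := hc₂.desc ((Cocone.precompose S.g).obj c₃)

lemma hf (j : ι) : c₁.ι.app j ≫ fInf S hc₁ (c₂ := c₂) = S.f.app j ≫ c₂.ι.app j :=
  hc₁.fac _ j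

lemma hg (j : ι) : c₂.ι.app j ≫ gInf S hc₂ (c₃ := c₃) = S.g.app j ≫ c₃.ι.app j :=
  hc₂.fac _ j

/-- the colimit short complex -/
noncomputable def SInf : ShortComplex A :=
  colim.mapShortComplex S hc₁ c₂ c₃ (fInf S hc₁) (gInf S hc₂) (hf S hc₁) (hg S hc₂)

include hS hc₃ in
lemma SInf_shortExact : (SInf S hc₁ hc₂ (c₃ := c₃)).ShortExact := by
  haveI : Mono S.f := hS.mono_f
  haveI : Epi S.g := hS.epi_g
  haveI : Mono (SInf S hc₁ hc₂ (c₃ := c₃)).f :=
    colim.map_mono' S.f hc₁ hc₂ (fInf S hc₁) (hf S hc₁)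
  haveI : ∀ j, Epi (S.g.app j) := fun j => inferInstance
  haveI : Epi (SInf S hc₁ hc₂ (c₃ := c₃)).g :=
    colim.map_epi' S.g c₂ hc₃ (gInf S hc₂) (hg S hc₂)
  exact ShortComplex.ShortExact.mk'
    (colim.exact_mapShortComplex hS.exact hc₁ hc₂ hc₃ (fInf S hc₁) (gInf S hc₂)
      (hf S hc₁) (hg S hc₂)) inferInstance inferInstance

/-- the short complex at stage `i` -/
noncomputable abbrev Sat (i : ι) : ShortComplex A := S.map ((evaluation ι A).obj i)

include hS in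
lemma Sat_shortExact (i : ι) : (Sat S i).ShortExact :=
  hS.map_of_exact ((evaluation ι A).obj i)

/-- the map from stage `i` to the colimit -/
noncomputable def toInf (i : ι) : Sat S i ⟶ SInf S hc₁ hc₂ (c₃ := c₃) where
  τ₁ := c₁.ι.app i
  τ₂ := c₂.ι.app i
  τ₃ := c₃.ι.app i
  comm₁₂ := hf S hc₁ i
  comm₂₃ := hg S hc₂ i

/-- the transition map from stage `i` to stage `j` -/
noncomputable def trans {i j : ι} (h : i ≤ j) : Sat S i ⟶ Sat S j where
  τ₁ := S.X₁.map (homOfLE h)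
  τ₂ := S.X₂.map (homOfLE h)
  τ₃ := S.X₃.map (homOfLE h)
  comm₁₂ := S.f.naturality (homOfLE h)
  comm₂₃ := S.g.naturality (homOfLE h)

variable (h2 : ∀ (i : ι) (x : Ext Z (S.X₂.obj i) (q + 1)), x = 0)
  (h2' : ∀ x : Ext Z c₂.pt (q + 1), x = 0)

include hS hc₁ hc₂ hc₃ h2' in
theorem surj_succ (s3 : Surj Z q S.X₃ c₃) : Surj Z (q + 1) S.X₁ c₁ := by
  intro y
  have hInf := SInf_shortExact S hS hc₁ hc₂ hc₃
  let y' : Ext Z (SInf S hc₁ hc₂ (c₃ := c₃)).X₁ (q + 1) := y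
  obtain ⟨x₃, hx₃⟩ := Ext.covariant_sequence_exact₁ Z hInf y' (h2' _) rfl
  obtain ⟨i, x, hx⟩ := s3 x₃
  refine ⟨i, x.comp (Sat_shortExact S hS i).extClass rfl, ?_⟩
  have := comp_extClass_naturality Z (Sat_shortExact S hS i) hInf (toInf S hc₁ hc₂ i) x
  refine (this.trans ?_).trans hx₃
  congr 1

include hS in
lemma nat_trans {i j : ι} (h : i ≤ j) (x₃ : Ext Z (S.X₃.obj i) q) :
    (x₃.comp (Sat_shortExact S hS i).extClass rfl : Ext Z (S.X₁.obj i) (q + 1)).comp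
        (Ext.mk₀ (S.X₁.map (homOfLE h))) (add_zero (q + 1)) =
      ((x₃.comp (Ext.mk₀ (S.X₃.map (homOfLE h))) (add_zero q) : Ext Z (S.X₃.obj j) q).comp
        (Sat_shortExact S hS j).extClass rfl : Ext Z (S.X₁.obj j) (q + 1)) :=
  comp_extClass_naturality Z (Sat_shortExact S hS i) (Sat_shortExact S hS j) (trans S h) x₃

include hS hc₃ in
lemma nat_toInf (i : ι) (x₃ : Ext Z (S.X₃.obj i) q) :
    (x₃.comp (Sat_shortExact S hS i).extClass rfl : Ext Z (S.X₁.obj i) (q + 1)).comp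
        (Ext.mk₀ (c₁.ι.app i)) (add_zero (q + 1)) =
      ((x₃.comp (Ext.mk₀ (c₃.ι.app i)) (add_zero q) : Ext Z c₃.pt q).comp
        (SInf_shortExact S hS hc₁ hc₂ hc₃).extClass rfl : Ext Z c₁.pt (q + 1)) :=
  comp_extClass_naturality Z (Sat_shortExact S hS i) (SInf_shortExact S hS hc₁ hc₂ hc₃)
    (toInf S hc₁ hc₂ i) x₃

omit [IsDirected ι (· ≤ ·)] [Nonempty ι] [HasColimitsOfShape ι A]
  [HasExactColimitsOfShape ι A] in
lemma g_comp_extClass' {q : ℕ} {S' : ShortComplex A} (hS' : S'.ShortExact) (x₂ : Ext Z S'.X₂ q) :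
    (x₂.comp (Ext.mk₀ S'.g) (add_zero q)).comp hS'.extClass rfl = 0 := by
  rw [Ext.comp_assoc_of_second_deg_zero, hS'.comp_extClass, Ext.comp_zero]

include hS in
lemma g_comp_extClass (k : ι) (x₂ : Ext Z (S.X₂.obj k) q) :
    ((x₂.comp (Ext.mk₀ (S.g.app k)) (add_zero q) : Ext Z (S.X₃.obj k) q).comp
      (Sat_shortExact S hS k).extClass rfl : Ext Z (S.X₁.obj k) (q + 1)) = 0 := by
  exact g_comp_extClass' Z (Sat_shortExact S hS k) x₂

include hS hc₁ hc₂ hc₃ h2 in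
theorem inj_succ (s2 : Surj Z q S.X₂ c₂) (i3 : Inj Z q S.X₃ c₃) : Inj Z (q + 1) S.X₁ c₁ := by
  intro i x hx
  have hInf := SInf_shortExact S hS hc₁ hc₂ hc₃
  have hi := Sat_shortExact S hS i
  -- lift x to x₃
  obtain ⟨x₃, hx₃⟩ : ∃ x₃ : Ext Z (S.X₃.obj i) q,
      (x₃.comp hi.extClass rfl : Ext Z (S.X₁.obj i) (q + 1)) = x :=
    Ext.covariant_sequence_exact₁ Z hi (x : Ext Z (Sat S i).X₁ (q + 1)) (h2 i _) rfl
  -- image y₃ of x₃ in the colimit
  have hy₃ : ((x₃.comp (Ext.mk₀ (c₃.ι.app i)) (add_zero q) : Ext Z c₃.pt q).comp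
      hInf.extClass rfl : Ext Z c₁.pt (q + 1)) = 0 := by
    rw [← nat_toInf Z q S hS hc₁ hc₂ hc₃ i x₃, hx₃]
    exact hx
  obtain ⟨y₂, hy₂⟩ : ∃ y₂ : Ext Z c₂.pt q,
      y₂.comp (Ext.mk₀ (gInf S hc₂ (c₃ := c₃))) (add_zero q) =
        x₃.comp (Ext.mk₀ (c₃.ι.app i)) (add_zero q) :=
    Ext.covariant_sequence_exact₃ Z hInf
      (x₃.comp (Ext.mk₀ (c₃.ι.app i)) (add_zero q) : Ext Z c₃.pt q) rfl hy₃
  obtain ⟨j, x₂, hx₂⟩ := s2 y₂
  obtain ⟨k, hik, hjk⟩ := exists_ge_ge i j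
  -- difference at stage k
  have hd : (x₃.comp (Ext.mk₀ (S.X₃.map (homOfLE hik))) (add_zero q) -
      (x₂.comp (Ext.mk₀ (S.X₂.map (homOfLE hjk))) (add_zero q)).comp
        (Ext.mk₀ (S.g.app k)) (add_zero q)).comp (Ext.mk₀ (c₃.ι.app k)) (add_zero q) = 0 := by
    rw [sub_comp', sub_eq_zero]
    rw [Ext.comp_assoc_of_third_deg_zero, Ext.mk₀_comp_mk₀,
      Ext.comp_assoc_of_third_deg_zero, Ext.mk₀_comp_mk₀,
      Ext.comp_assoc_of_third_deg_zero, Ext.mk₀_comp_mk₀]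
    have e1 : S.X₃.map (homOfLE hik) ≫ c₃.ι.app k = c₃.ι.app i := c₃.w (homOfLE hik)
    have e2 : S.X₂.map (homOfLE hjk) ≫ S.g.app k ≫ c₃.ι.app k =
        c₂.ι.app j ≫ gInf S hc₂ (c₃ := c₃) := by
      rw [← hg S hc₂ (c₃ := c₃) k, ← Category.assoc]
      congr 1
      exact c₂.w (homOfLE hjk)
    rw [e1, e2, ← Ext.mk₀_comp_mk₀, ← Ext.comp_assoc_of_third_deg_zero, hx₂]
    exact hy₂.symm
  obtain ⟨m, hkm, hm⟩ := i3 k _ hd
  refine ⟨m, hik.trans hkm, ?_⟩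
  rw [← hx₃]
  refine (nat_trans Z q S hS (hik.trans hkm) x₃).trans ?_
  -- x₃ at stage m equals image of x₂ under g
  have hm' : x₃.comp (Ext.mk₀ (S.X₃.map (homOfLE (hik.trans hkm)))) (add_zero q) =
      (x₂.comp (Ext.mk₀ (S.X₂.map (homOfLE (hjk.trans hkm)))) (add_zero q)).comp
        (Ext.mk₀ (S.g.app m)) (add_zero q) := by
    rw [sub_comp', sub_eq_zero] at hm
    rw [Ext.comp_assoc_of_third_deg_zero, Ext.mk₀_comp_mk₀] at hm
    rw [Ext.comp_assoc_of_third_deg_zero, Ext.comp_assoc_of_third_deg_zero, Ext.mk₀_comp_mk₀,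
      Ext.mk₀_comp_mk₀] at hm
    have e1 : S.X₃.map (homOfLE hik) ≫ S.X₃.map (homOfLE hkm) =
        S.X₃.map (homOfLE (hik.trans hkm)) :=
      (S.X₃.map_comp (homOfLE hik) (homOfLE hkm)).symm
    have e2 : S.X₂.map (homOfLE hjk) ≫ S.g.app k ≫ S.X₃.map (homOfLE hkm) =
        S.X₂.map (homOfLE (hjk.trans hkm)) ≫ S.g.app m := by
      rw [← S.g.naturality (homOfLE hkm), ← Category.assoc]
      congr 1
      exact (S.X₂.map_comp (homOfLE hjk) (homOfLE hkm)).symm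
    rw [e1, e2] at hm
    rw [hm, Ext.comp_assoc_of_third_deg_zero, Ext.mk₀_comp_mk₀]
  rw [hm']
  exact g_comp_extClass Z q S hS m _

end step

end ColimExt
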