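import Mathlib

/-!
# The first step of the Godement resolution (helper9)

* every sheaf of abelian groups on a discrete space is flasque;
* for `f : X_disc ⟶ X` the identity map from the discrete space, the unit `F ⟶ f_* f⁻¹ F` is a
  monomorphism (the germ maps `F ⟶ f_* (skyscraper_x F_x)` factor through it).
-/

open CategoryTheory TopCat TopologicalSpace Opposite Limits

namespace Groth.Agent.Lib.GodementStep

universe u

section Discrete

variable {Y : TopCat.{u}} [DiscreteTopology Y] (G : TopCat.Sheaf AddCommGrpCat.{u} Y)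

lemma isFlasque_of_discrete : TopCat.Sheaf.IsFlasque G where
  epi {U V} i := by
    let V' : Opens Y := V.unop
    let W : Opens Y := ⟨(U.unop : Set Y) \ (V.unop : Set Y), isOpen_discrete _⟩
    have hdisj : V' ⊓ W = ⊥ := by
      ext y
      simp [V', W]
    have hsup : V' ⊔ W = U.unop := by
      ext y
      simp only [Opens.coe_sup, Opens.coe_mk, Set.mem_union, SetLike.mem_coe, Set.mem_diff, V', W]
      constructor
      · rintro (h | h)
        · exact i.unop.le h
        · exact h.1
      · intro h
        by_cases hv : y ∈ V.unop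
        · exact Or.inl hv
        · exact Or.inr ⟨h, hv⟩
    have hlim := G.isProductOfDisjoint V' W hdisj
    obtain ⟨s, hs1, hs2⟩ := BinaryFan.IsLimit.lift' hlim (𝟙 _) 0
    have h1 : G.obj.map i = G.obj.map (eqToHom hsup).op ≫
        G.obj.map (homOfLE le_sup_left : V' ⟶ V' ⊔ W).op := by
      rw [← G.obj.map_comp]
      congr 1
    rw [h1]
    haveI : IsSplitEpi (G.obj.map (homOfLE le_sup_left : V' ⟶ V' ⊔ W).op) := ⟨⟨s, hs1⟩⟩
    infer_instance

end Discrete

section Unit

variable (X : TopCat.{u})

/-- the underlying set of `X` with the discrete topology -/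
abbrev Xd : TopCat.{u} := (forget TopCat ⋙ TopCat.discrete).obj X

/-- the identity map `X_disc ⟶ X` -/
abbrev fd : Xd X ⟶ (𝟭 TopCat).obj X := TopCat.adj₁.counit.app X

instance : DiscreteTopology (Xd X) := ⟨rfl⟩

variable {X}

/-- a point of `X` as a point of the discrete space -/
def toXd (x : X) : Xd X := x

variable (F : TopCat.Sheaf AddCommGrpCat.{u} ((𝟭 TopCat).obj X))

open Classical in
/-- the skyscraper sheaf on the discrete space at `x` with value the stalk of `F` at `x` -/
noncomputable def Sx (x : X) : TopCat.Sheaf AddCommGrpCat.{u} (Xd X) :=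
  skyscraperSheaf (X := Xd X) (toXd x) (F.presheaf.stalk (X := (𝟭 TopCat).obj X) x)

open Classical in
/-- the germ map to the pushforward of the skyscraper sheaf on the discrete space -/
noncomputable def gx (x : X) :
    F ⟶ (TopCat.Sheaf.pushforward AddCommGrpCat.{u} (fd X)).obj (Sx F x) :=
  ⟨StalkSkyscraperPresheafAdjunctionAuxs.toSkyscraperPresheaf (X := (𝟭 TopCat).obj X) x
    (𝟙 (F.presheaf.stalk (X := (𝟭 TopCat).obj X) x))⟩

open Classical in
lemma gx_app (x : X) (U : Opens ((𝟭 TopCat).obj X)) (hx : x ∈ U) :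
    (gx F x).hom.app (op U) =
      F.presheaf.germ (X := (𝟭 TopCat).obj X) U x hx ≫ 𝟙 _ ≫ eqToHom (if_pos hx).symm := by
  show (StalkSkyscraperPresheafAdjunctionAuxs.toSkyscraperPresheaf (X := (𝟭 TopCat).obj X) x
    (𝟙 (F.presheaf.stalk (X := (𝟭 TopCat).obj X) x))).app (op U) = _
  rw [StalkSkyscraperPresheafAdjunctionAuxs.toSkyscraperPresheaf_app, dif_pos hx]
  rfl

open Classical in
lemma germ_eq_zero_of_gx (x : X) (U : Opens ((𝟭 TopCat).obj X)) (hx : x ∈ U)
    (s : F.obj.obj (op U)) (hs : (gx F x).hom.app (op U) s = 0) :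
    F.presheaf.germ (X := (𝟭 TopCat).obj X) U x hx s = 0 := by
  rw [gx_app F x U hx, Category.id_comp] at hs
  have hinj : Function.Injective
      (eqToHom (if_pos hx).symm : F.presheaf.stalk (X := (𝟭 TopCat).obj X) x ⟶
        (if x ∈ U then F.presheaf.stalk (X := (𝟭 TopCat).obj X) x else ⊤_ AddCommGrpCat.{u})) :=
    (AddCommGrpCat.mono_iff_injective _).1 inferInstance
  apply hinj
  rw [map_zero]
  exact hs

theorem mono_unit :
    Mono ((TopCat.Sheaf.pullbackPushforwardAdjunction AddCommGrpCat.{u} (fd X)).unit.app F) := by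
  let adj := TopCat.Sheaf.pullbackPushforwardAdjunction AddCommGrpCat.{u} (fd X)
  have key : ∀ (U : Opens ((𝟭 TopCat).obj X)) (s : F.obj.obj (op U)),
      (adj.unit.app F).hom.app (op U) s = 0 → s = 0 := by
    intro U s hs
    apply TopCat.Presheaf.section_ext F U s 0
    intro x hx
    rw [map_zero]
    apply germ_eq_zero_of_gx F x U hx s
    have hfac : adj.unit.app F ≫
        (TopCat.Sheaf.pushforward AddCommGrpCat.{u} (fd X)).map
          ((adj.homEquiv F (Sx F x)).symm (gx F x)) = gx F x :=
      (adj.homEquiv_unit _ _ _).symm.trans ((adj.homEquiv F (Sx F x)).apply_symm_apply (gx F x))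
    rw [← hfac]
    show ((TopCat.Sheaf.pushforward AddCommGrpCat.{u} (fd X)).map
          ((adj.homEquiv F (Sx F x)).symm (gx F x))).hom.app (op U)
        ((adj.unit.app F).hom.app (op U) s) = 0
    rw [hs, map_zero]
  haveI : ∀ U, Mono ((adj.unit.app F).hom.app U) := fun U => by
    rw [AddCommGrpCat.mono_iff_injective, injective_iff_map_eq_zero]
    intro s hs
    exact key U.unop s hs
  haveI : Mono (adj.unit.app F).hom := NatTrans.mono_of_mono_app _
  exact Sheaf.Hom.mono_of_presheaf_mono _ _ _

theorem isFlasque_push_pull :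
    TopCat.Sheaf.IsFlasque ((TopCat.Sheaf.pushforward AddCommGrpCat.{u} (fd X)).obj
      ((TopCat.Sheaf.pullback AddCommGrpCat.{u} (fd X)).obj F)) := by
  haveI := isFlasque_of_discrete ((TopCat.Sheaf.pullback AddCommGrpCat.{u} (fd X)).obj F)
  infer_instance

end Unit

end Groth.Agent.Lib.GodementStep
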