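import Mathlib
import Groth.Prelude.Def_CohTop
import Groth.Agent.Lib.ColimCoh2_helper9
import Groth.Agent.Lib.ColimExt1_helper9
import Groth.Agent.Lib.GodementStep_helper9
import Groth.Agent.Lib.FlasqueAcyclic_helper2

/-!
# Cohomology over compact opens commutes with directed colimits (helper9)
-/

set_option autoImplicit false

universe u

open CategoryTheory CategoryTheory.Limits TopologicalSpace Opposite
open Groth.Agent.Lib.FreeSheaf ColimExt

namespace ColimCoh

variable {X : TopCat.{u}}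

/-- the map from the discrete space -/
noncomputable abbrev fd (X : TopCat.{u}) : Groth.Agent.Lib.GodementStep.Xd X ⟶ X :=
  Groth.Agent.Lib.GodementStep.fd X

/-- the Godement functor `F ↦ f_* f⁻¹ F` for `f : X_disc ⟶ X`. -/
noncomputable abbrev God (X : TopCat.{u}) : CohTop.Ab X ⥤ CohTop.Ab X :=
  TopCat.Sheaf.pullback AddCommGrpCat.{u} (fd X) ⋙ TopCat.Sheaf.pushforward AddCommGrpCat.{u} (fd X)

/-- the unit `F ⟶ f_* f⁻¹ F` -/
noncomputable abbrev godUnit (X : TopCat.{u}) : 𝟭 (CohTop.Ab X) ⟶ God X :=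
  (TopCat.Sheaf.pullbackPushforwardAdjunction AddCommGrpCat.{u} (fd X)).unit

instance (F : CohTop.Ab X) : Mono ((godUnit X).app F) :=
  Groth.Agent.Lib.GodementStep.mono_unit F

lemma isFlasque_God (F : CohTop.Ab X) : TopCat.Sheaf.IsFlasque ((God X).obj F) :=
  Groth.Agent.Lib.GodementStep.isFlasque_push_pull F

variable {ι : Type u} [Preorder ι]

/-- the natural map `D ⟶ D ⋙ God` -/
noncomputable def godNat (D : ι ⥤ CohTop.Ab X) : D ⟶ D ⋙ God X where
  app i := (godUnit X).app (D.obj i)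
  naturality _ _ f := (godUnit X).naturality (D.map f)

instance (D : ι ⥤ CohTop.Ab X) : Mono (godNat D) := by
  haveI : ∀ i, Mono ((godNat D).app i) := fun i =>
    (inferInstance : Mono ((godUnit X).app (D.obj i)))
  exact NatTrans.mono_of_mono_app _

/-- the short complex of diagrams `D ⟶ D ⋙ God ⟶ coker` -/
noncomputable def godSC (D : ι ⥤ CohTop.Ab X) : ShortComplex (ι ⥤ CohTop.Ab X) :=
  ShortComplex.mk (godNat D) (cokernel.π (godNat D)) (cokernel.condition _)

lemma godSC_shortExact (D : ι ⥤ CohTop.Ab X) : (godSC D).ShortExact := by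
  haveI : Mono (godSC D).f := (inferInstance : Mono (godNat D))
  haveI : Epi (godSC D).g := (inferInstance : Epi (cokernel.π (godNat D)))
  exact ShortComplex.ShortExact.mk' (ShortComplex.exact_cokernel (godNat D)) inferInstance
    inferInstance

section base

variable (D : ι ⥤ CohTop.Ab X) (c : Cocone D)

lemma homEquiv_zero (V : Opens X) (F : CohTop.Ab X) :
    freeSheafHomEquiv (Opens.grothendieckTopology X) V F 0 = 0 := by
  have := freeSheafHomEquiv_comp (Opens.grothendieckTopology X) V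
    (𝟙 (freeSheaf (Opens.grothendieckTopology X) V)) (0 : _ ⟶ F)
  rw [Limits.comp_zero] at this
  rw [this]
  rfl

variable [IsDirected ι (· ≤ ·)] [Nonempty ι] (hc : IsColimit c)

include hc in
theorem surj_zero {U₀ : Opens X} (hU₀ : QCQS U₀) (V : Opens X) (hV : IsCompact (V : Set X))
    (hVU : V ≤ U₀) : Surj (freeSheaf (Opens.grothendieckTopology X) V) 0 D c := by
  intro y
  obtain ⟨φ, rfl⟩ := (Abelian.Ext.mk₀_bijective _ _).2 y
  obtain ⟨i, s, hs⟩ := sec_exists_rep D c hc hU₀ V hVU hV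
    (freeSheafHomEquiv (Opens.grothendieckTopology X) V c.pt φ)
  refine ⟨i, Abelian.Ext.mk₀ ((freeSheafHomEquiv _ V (D.obj i)).symm s), ?_⟩
  rw [Abelian.Ext.mk₀_comp_mk₀]
  congr 1
  apply (freeSheafHomEquiv (Opens.grothendieckTopology X) V c.pt).injective
  rw [freeSheafHomEquiv_comp, Equiv.apply_symm_apply]
  exact hs

include hc in
theorem inj_zero (V : Opens X) (hV : IsCompact (V : Set X)) :
    Inj (freeSheaf (Opens.grothendieckTopology X) V) 0 D c := by
  intro i x hx
  obtain ⟨ψ, rfl⟩ := (Abelian.Ext.mk₀_bijective _ _).2 x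
  rw [Abelian.Ext.mk₀_comp_mk₀, Abelian.Ext.mk₀_eq_zero_iff] at hx
  have h1 : (c.ι.app i).hom.app (op V)
      (freeSheafHomEquiv (Opens.grothendieckTopology X) V (D.obj i) ψ) = 0 := by
    rw [← freeSheafHomEquiv_comp, hx]
    exact homEquiv_zero V c.pt
  obtain ⟨j, hij, hj⟩ := sec_eq_zero D c hc i V hV _ h1
  refine ⟨j, hij, ?_⟩
  rw [Abelian.Ext.mk₀_comp_mk₀, Abelian.Ext.mk₀_eq_zero_iff]
  apply (freeSheafHomEquiv (Opens.grothendieckTopology X) V (D.obj j)).injective
  rw [freeSheafHomEquiv_comp, hj]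
  exact (homEquiv_zero V (D.obj j)).symm

end base

section main

variable [IsDirected ι (· ≤ ·)] [Nonempty ι] {U₀ : Opens X} (hU₀ : QCQS U₀)

include hU₀ in
theorem surj_inj (q : ℕ) : ∀ (D : ι ⥤ CohTop.Ab X) (c : Cocone D) (_ : IsColimit c)
    (V : Opens X) (_ : IsCompact (V : Set X)) (_ : V ≤ U₀),
    Surj (freeSheaf (Opens.grothendieckTopology X) V) q D c ∧
      Inj (freeSheaf (Opens.grothendieckTopology X) V) q D c := by
  induction q with
  | zero =>
    intro D c hc V hV hVU
    exact ⟨surj_zero D c hc hU₀ V hV hVU, inj_zero D c hc V hV⟩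
  | succ q ih =>
    intro D c hc V hV hVU
    let S := godSC D
    have hS : S.ShortExact := godSC_shortExact D
    let c₂ := colimit.cocone S.X₂
    have hc₂ : IsColimit c₂ := colimit.isColimit _
    let c₃ := colimit.cocone S.X₃
    have hc₃ : IsColimit c₃ := colimit.isColimit _
    have h2 : ∀ (i : ι) (x : Abelian.Ext (freeSheaf (Opens.grothendieckTopology X) V)
        (S.X₂.obj i) (q + 1)), x = 0 := by
      intro i x
      haveI : TopCat.Sheaf.IsFlasque (S.X₂.obj i) := isFlasque_God (D.obj i)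
      exact Groth.Agent.Lib.FlasqueAcyclic.ext_freeSheaf_eq_zero_of_isFlasque _ V q x
    have h2' : ∀ x : Abelian.Ext (freeSheaf (Opens.grothendieckTopology X) V) c₂.pt (q + 1),
        x = 0 := by
      intro x
      exact ext_vanish S.X₂ c₂ hc₂ (fun i => isFlasque_God (D.obj i)) hU₀ V hV hVU q x
    have ih₂ := ih S.X₂ c₂ hc₂ V hV hVU
    have ih₃ := ih S.X₃ c₃ hc₃ V hV hVU
    exact ⟨surj_succ _ q S hS (c₁ := c) hc hc₂ hc₃ h2' ih₃.1,
      inj_succ _ q S hS (c₁ := c) hc hc₂ hc₃ h2 ih₂.1 ih₃.2⟩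

include hU₀ in
theorem preservesColimit_ext (q : ℕ) (V : Opens X) (hV : IsCompact (V : Set X)) (hVU : V ≤ U₀)
    (D : ι ⥤ CohTop.Ab X) :
    PreservesColimit D
      (Abelian.extFunctorObj (freeSheaf (Opens.grothendieckTopology X) V) q) := by
  constructor
  intro c hc
  obtain ⟨h1, h2⟩ := surj_inj hU₀ q D c hc V hV hVU
  exact isColimit_mapCocone h1 h2

end main

end ColimCoh

namespace ColimCoh

variable {X : TopCat.{u}}

theorem qcqs_of_prespectral [PrespectralSpace X] [QuasiSeparatedSpace X] (U₀ : Opens X) :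
    QCQS U₀ where
  inter V W _ _ hV hW := by
    have := QuasiSeparatedSpace.inter_isCompact (V : Set X) (W : Set X) V.isOpen hV W.isOpen hW
    simpa using this
  basis W _ x hx := by
    obtain ⟨V, ⟨hVo, hVc⟩, hxV, hVW⟩ :=
      (PrespectralSpace.isTopologicalBasis (X := X)).exists_subset_of_mem_open hx W.isOpen
    exact ⟨⟨V, hVo⟩, hVc, hxV, hVW⟩

end ColimCoh
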