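import Mathlib

/-!
# `Ext^n(K, -)` is the `n`-th right derived functor of `Hom(K, -)`

For an abelian category `C` with enough injectives and `K : C`, we construct a natural isomorphism
`(preadditiveCoyoneda.obj (op K)).rightDerived n ≅ (Abelian.extFunctor n).obj (op K)`.
-/

open CategoryTheory CategoryTheory.Limits Opposite

namespace ExtDer

universe v u

section Ab

variable (L : CochainComplex AddCommGrpCat.{v} ℕ) (n : ℕ)

theorem iCycles_injective : Function.Injective (L.iCycles n).hom :=
  (AddCommGrpCat.mono_iff_injective _).1 inferInstance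

theorem d_iCycles (x : L.cycles n) : (L.d n (n + 1)).hom ((L.iCycles n).hom x) = 0 :=
  congrArg (fun φ => φ.hom x) (L.iCycles_d n (n + 1))

theorem exists_cycle (f : L.X n) (hf : (L.d n (n + 1)).hom f = 0) :
    ∃ x : L.cycles n, (L.iCycles n).hom x = f := by
  let A := AddCommGrpCat.of (L.d n (n + 1)).hom.ker
  let k : A ⟶ L.X n := AddCommGrpCat.ofHom (AddSubgroup.subtype _)
  have hk : k ≫ L.d n (n + 1) = 0 := by
    ext a
    exact a.2
  refine ⟨(L.liftCycles k (n + 1) (CochainComplex.next ℕ n) hk).hom ⟨f, hf⟩, ?_⟩
  exact congrArg (fun g => g.hom ⟨f, hf⟩) (L.liftCycles_i k (n + 1) (CochainComplex.next ℕ n) hk)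

theorem homologyπ_surjective : Function.Surjective (L.homologyπ n).hom :=
  (AddCommGrpCat.epi_iff_surjective _).1 inferInstance

theorem homologyπ_eq_zero_iff (p : ℕ) (hp : (ComplexShape.up ℕ).prev n = p) (x : L.cycles n) :
    (L.homologyπ n).hom x = 0 ↔ ∃ g : L.X p, (L.toCycles p n).hom g = x := by
  have hex : (ShortComplex.mk (L.toCycles p n) (L.homologyπ n)
      (L.toCycles_comp_homologyπ p n)).Exact :=
    ShortComplex.exact_of_g_is_cokernel _ (L.homologyIsCokernel p n hp)
  constructor
  · intro h
    exact (ShortComplex.ab_exact_iff _).1 hex x h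
  · rintro ⟨g, rfl⟩
    exact congrArg (fun φ => φ.hom g) (L.toCycles_comp_homologyπ p n)

end Ab

variable {C : Type u} [Category.{v} C] [Abelian C] [HasExt.{v} C]

theorem extMk_congr {K G : C} (R : InjectiveResolution G) {n : ℕ} {f g : K ⟶ R.cocomplex.X n}
    (h : f = g) (m : ℕ) (hm : n + 1 = m) (hf : f ≫ R.cocomplex.d n m = 0)
    (hg : g ≫ R.cocomplex.d n m = 0) : R.extMk f m hm hf = R.extMk g m hm hg := by
  subst h
  rfl

theorem extMk_zero_eq_zero_iff {K G : C} (R : InjectiveResolution G) (f : K ⟶ R.cocomplex.X 0)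
    (hf : f ≫ R.cocomplex.d 0 1 = 0) : R.extMk f 1 rfl hf = 0 ↔ f = 0 := by
  constructor
  · intro h
    rw [← R.extEquivCohomologyClass.apply_eq_iff_eq,
      InjectiveResolution.extEquivCohomologyClass_extMk,
      InjectiveResolution.extEquivCohomologyClass_zero,
      CochainComplex.HomComplex.CohomologyClass.mk_eq_zero_iff,
      CochainComplex.HomComplex.Cocycle.fromSingleMk_mem_coboundaries_iff _ _ _ _ _ (-1)
        (by lia)] at h
    obtain ⟨g, hg⟩ := h
    have hz : IsZero (R.cochainComplex.X (-1)) :=
      R.cochainComplex.isZero_of_isStrictlyGE 0 (-1) (by lia)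
    have hg0 : g = 0 := hz.eq_of_tgt _ _
    rw [hg0, zero_comp] at hg
    have h2 := congrArg (· ≫ (R.cochainComplexXIso 0 0 rfl).hom) hg
    simpa using h2.symm
  · rintro rfl
    exact R.extMk_zero 1 rfl

/-- `Hom(K, -)` as an additive functor to abelian groups. -/
abbrev hom (K : C) : C ⥤ AddCommGrpCat.{v} := preadditiveCoyoneda.obj (op K)

/-- The complex `Hom(K, R^•)`. -/
noncomputable abbrev homCx (K : C) {G : C} (R : InjectiveResolution G) :
    CochainComplex AddCommGrpCat.{v} ℕ :=
  ((hom K).mapHomologicalComplex (ComplexShape.up ℕ)).obj R.cocomplex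

variable (K : C) {G : C} (R : InjectiveResolution G) (n : ℕ)

/-- The underlying morphism of a cycle of `Hom(K, R^•)`. -/
noncomputable def cycHom (x : (homCx K R).cycles n) : K ⟶ R.cocomplex.X n :=
  ((homCx K R).iCycles n).hom x

theorem cycHom_d (x : (homCx K R).cycles n) : cycHom K R n x ≫ R.cocomplex.d n (n + 1) = 0 :=
  d_iCycles (homCx K R) n x

theorem cycHom_add (x y : (homCx K R).cycles n) :
    cycHom K R n (x + y) = cycHom K R n x + cycHom K R n y :=
  map_add ((homCx K R).iCycles n).hom x y

/-- The class of a cycle. -/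
noncomputable def cycToExtFun (x : (homCx K R).cycles n) : Abelian.Ext.{v} K G n :=
  R.extMk (cycHom K R n x) (n + 1) rfl (cycHom_d K R n x)

/-- The object `Ext^n(K, G)` of `AddCommGrpCat`, in functor form. -/
noncomputable abbrev extObj (K G : C) (n : ℕ) : AddCommGrpCat.{v} :=
  ((Abelian.extFunctor.{v} n).obj (op K)).obj G

/-- The class of a cycle, as a morphism of abelian groups. -/
noncomputable def cycToExt :
    (homCx K R).cycles n ⟶ extObj K G n :=
  AddCommGrpCat.ofHom (Y := AddCommGrpCat.of (Abelian.Ext.{v} K G n)) (AddMonoidHom.mk' (cycToExtFun K R n) (fun x y => by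
    unfold cycToExtFun
    rw [R.add_extMk]
    exact extMk_congr R (cycHom_add K R n x y) _ _ _ _))

theorem cycToExt_apply (x : (homCx K R).cycles n) :
    (cycToExt K R n).hom x = cycToExtFun K R n x := rfl

theorem cycHom_toCycles (p : ℕ) (g : K ⟶ R.cocomplex.X p) :
    cycHom K R n (((homCx K R).toCycles p n).hom g) = g ≫ R.cocomplex.d p n :=
  congrArg (fun φ => φ.hom g) ((homCx K R).toCycles_i p n)

theorem toCycles_cycToExt (p : ℕ) (hp : (ComplexShape.up ℕ).prev n = p) :
    (homCx K R).toCycles p n ≫ cycToExt K R n = 0 := by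
  ext g
  show cycToExtFun K R n (((homCx K R).toCycles p n).hom g) = 0
  have hi := cycHom_toCycles K R n p g
  unfold cycToExtFun
  cases n with
  | zero =>
    have hd : R.cocomplex.d p 0 = 0 := R.cocomplex.shape _ _ (by simp)
    rw [extMk_congr R (hi.trans (by rw [hd, comp_zero])) 1 rfl _ (by simp)]
    exact R.extMk_zero 1 rfl
  | succ q =>
    have hp' : q = p := (CochainComplex.prev_nat_succ q).symm.trans hp
    subst hp'
    rw [R.extMk_eq_zero_iff _ _ rfl _ q rfl]
    exact ⟨g, hi.symm⟩

/-- The comparison map `H^n(Hom(K, R^•)) ⟶ Ext^n(K, G)`. -/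
noncomputable def homToExt :
    (homCx K R).homology n ⟶ extObj K G n :=
  ((homCx K R).homologyIsCokernel _ n rfl).desc
    (CokernelCofork.ofπ (cycToExt K R n) (toCycles_cycToExt K R n _ rfl))

theorem π_homToExt : (homCx K R).homologyπ n ≫ homToExt K R n = cycToExt K R n :=
  ((homCx K R).homologyIsCokernel _ n rfl).fac
    (CokernelCofork.ofπ (cycToExt K R n) (toCycles_cycToExt K R n _ rfl))
    WalkingParallelPair.one

theorem homToExt_π_apply (x : (homCx K R).cycles n) :
    (homToExt K R n).hom (((homCx K R).homologyπ n).hom x) = cycToExtFun K R n x :=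
  congrArg (fun φ => φ.hom x) (π_homToExt K R n)

theorem homToExt_bijective : Function.Bijective (homToExt K R n).hom := by
  constructor
  · rw [injective_iff_map_eq_zero]
    intro h hh
    obtain ⟨x, rfl⟩ := homologyπ_surjective (homCx K R) n h
    have hx : cycToExtFun K R n x = 0 := (homToExt_π_apply K R n x).symm.trans hh
    unfold cycToExtFun at hx
    cases n with
    | zero =>
      rw [extMk_zero_eq_zero_iff] at hx
      rw [homologyπ_eq_zero_iff (homCx K R) 0 0 CochainComplex.prev_nat_zero]
      refine ⟨0, ?_⟩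
      rw [map_zero]
      apply iCycles_injective (homCx K R) 0
      rw [map_zero]
      exact hx.symm
    | succ q =>
      rw [R.extMk_eq_zero_iff _ _ rfl _ q rfl] at hx
      obtain ⟨g, hg⟩ := hx
      rw [homologyπ_eq_zero_iff (homCx K R) (q + 1) q (CochainComplex.prev_nat_succ q)]
      refine ⟨g, iCycles_injective (homCx K R) (q + 1) ?_⟩
      exact (cycHom_toCycles K R (q + 1) q g).trans hg
  · intro α
    obtain ⟨f, hf, rfl⟩ := R.extMk_surjective α (n + 1) rfl
    obtain ⟨x, hx⟩ := exists_cycle (homCx K R) n f hf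
    refine ⟨((homCx K R).homologyπ n).hom x, ?_⟩
    refine (homToExt_π_apply K R n x).trans ?_
    exact extMk_congr R hx _ _ _ _

/-- `H^n(Hom(K, R^•)) ≅ Ext^n(K, G)`. -/
noncomputable def homIso :
    (homCx K R).homology n ≅ extObj K G n :=
  haveI : IsIso (homToExt K R n) :=
    (ConcreteCategory.isIso_iff_bijective _).2 (homToExt_bijective K R n)
  asIso (homToExt K R n)

theorem homIso_hom : (homIso K R n).hom = homToExt K R n := rfl

variable {K R n} in
theorem homToExt_naturality {G' : C} {R' : InjectiveResolution G'} {g : G ⟶ G'}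
    (φ : InjectiveResolution.Hom R R' g) :
    HomologicalComplex.homologyMap
      (((hom K).mapHomologicalComplex (ComplexShape.up ℕ)).map φ.hom) n ≫ homToExt K R' n =
      homToExt K R n ≫ ((Abelian.extFunctor.{v} n).obj (op K)).map g := by
  rw [← cancel_epi ((homCx K R).homologyπ n), HomologicalComplex.homologyπ_naturality_assoc,
    π_homToExt, ← Category.assoc ((homCx K R).homologyπ n), π_homToExt]
  ext x
  show cycToExtFun K R' n ((HomologicalComplex.cyclesMap
      (((hom K).mapHomologicalComplex (ComplexShape.up ℕ)).map φ.hom) n).hom x) =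
    (cycToExtFun K R n x).comp (Abelian.Ext.mk₀ g) (add_zero n)
  unfold cycToExtFun
  rw [InjectiveResolution.extMk_comp_mk₀ _ _ rfl _ φ]
  apply extMk_congr
  exact congrArg (fun ψ => ψ.hom x) (HomologicalComplex.cyclesMap_i
    (((hom K).mapHomologicalComplex (ComplexShape.up ℕ)).map φ.hom) n)

section Derived

variable [HasInjectiveResolutions C]

/-- `R^n Hom(K, -)(G) ≅ H^n(Hom(K, I_G))` with a clean target. -/
noncomputable def isoH (G : C) : ((hom K).rightDerived n).obj G ≅
    (homCx K (injectiveResolution G)).homology n :=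
  (injectiveResolution G).isoRightDerivedObj (hom K) n

/-- The chosen morphism of resolutions over `g`. -/
noncomputable def resHom {G G' : C} (g : G ⟶ G') :
    InjectiveResolution.Hom (injectiveResolution G) (injectiveResolution G') g where
  hom := InjectiveResolution.desc g (injectiveResolution G') (injectiveResolution G)
  ι_f_zero_comp_hom_f_zero :=
    HomologicalComplex.congr_hom (InjectiveResolution.desc_commutes g (injectiveResolution G')
      (injectiveResolution G)) 0

theorem derived_map_eq {G G' : C} (g : G ⟶ G') :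
    ((hom K).rightDerived n).map g = (isoH K n G).hom ≫
      HomologicalComplex.homologyMap
        (((hom K).mapHomologicalComplex (ComplexShape.up ℕ)).map (resHom g).hom) n ≫
      (isoH K n G').inv :=
  Functor.rightDerived_map_eq (hom K) n g _
    (InjectiveResolution.desc_commutes g (injectiveResolution G') (injectiveResolution G))

/-- The comparison on objects. -/
noncomputable def objIso (G : C) :
    ((hom K).rightDerived n).obj G ≅ ((Abelian.extFunctor.{v} n).obj (op K)).obj G :=
  isoH K n G ≪≫ homIso K (injectiveResolution G) n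

theorem objIso_naturality {G G' : C} (g : G ⟶ G') :
    ((hom K).rightDerived n).map g ≫ (objIso K n G').hom =
      (objIso K n G).hom ≫ ((Abelian.extFunctor.{v} n).obj (op K)).map g := by
  rw [derived_map_eq K n g]
  dsimp only [objIso, Iso.trans_hom]
  simp only [Category.assoc, Iso.inv_hom_id_assoc]
  rw [homIso_hom, homIso_hom, homToExt_naturality (resHom g)]

/-- `R^n Hom(K, -) ≅ Ext^n(K, -)`. -/
noncomputable def natIso : (hom K).rightDerived n ≅ (Abelian.extFunctor.{v} n).obj (op K) :=
  NatIso.ofComponents (objIso K n) (fun g => objIso_naturality K n g)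

end Derived

/-- Right derived functors of isomorphic functors are isomorphic. -/
noncomputable def rightDerivedIso {C D : Type*} [Category C] [Category D] [Abelian C] [Abelian D]
    [HasInjectiveResolutions C] {F F' : C ⥤ D} [F.Additive] [F'.Additive] (e : F ≅ F') (n : ℕ) :
    F.rightDerived n ≅ F'.rightDerived n where
  hom := NatTrans.rightDerived e.hom n
  inv := NatTrans.rightDerived e.inv n
  hom_inv_id := by rw [← NatTrans.rightDerived_comp, e.hom_inv_id, NatTrans.rightDerived_id]
  inv_hom_id := by rw [← NatTrans.rightDerived_comp, e.inv_hom_id, NatTrans.rightDerived_id]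

end ExtDer
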