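import Mathlib

/-!
# A tower of injective resolutions of the canonical truncations `τ^{≥ q}` (helper2)

Let `R₀` be a cochain complex of injective objects, strictly `≥ 0`, in an abelian category with
enough injectives.  We construct a sequence `R 0 = R₀ ⟶ R 1 ⟶ R 2 ⟶ ⋯` of complexes of injectives,
`R q` strictly `≥ q`, such that `R q ⟶ R (q + 1)` induces isomorphisms on `H^m` for `m ≥ q + 1`.
The mapping cone of `R q ⟶ R (q + 1)` is then isomorphic in the homotopy category to the shift by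
`1 - q` of an injective resolution of `H^q(R₀)`.
-/

set_option autoImplicit false

open CategoryTheory Limits HomologicalComplex

namespace Groth.Agent.Lib.InjTower

universe v u

variable {𝒜 : Type u} [Category.{v} 𝒜] [Abelian 𝒜]

/-- a complex of injectives which is strictly `≥ q` -/
structure Stage (𝒜 : Type u) [Category.{v} 𝒜] [Abelian 𝒜] (q : ℕ) where
  /-- the complex -/
  R : CochainComplex 𝒜 ℤ
  inj : ∀ n, Injective (R.X n)
  ge : R.IsStrictlyGE (q : ℤ)

section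

variable [EnoughInjectives 𝒜]

lemma exists_next {q : ℕ} (st : Stage 𝒜 q) :
    ∃ (st' : Stage 𝒜 (q + 1)) (s : st.R ⟶ st'.R), ∀ m : ℤ, (q : ℤ) + 1 ≤ m → QuasiIsoAt s m := by
  obtain ⟨L, i, hi, hL, hL'⟩ :=
    CochainComplex.Plus.modelCategoryQuillen.exists_quasiIso_injective
      (st.R.truncGE ((q : ℤ) + 1)) ((q : ℤ) + 1)
  refine ⟨⟨L, hL, by rw [Nat.cast_succ]; exact hL'⟩, st.R.πTruncGE ((q : ℤ) + 1) ≫ i,
    fun m hm => ?_⟩
  haveI := st.R.quasiIsoAt_πTruncGE ((q : ℤ) + 1) m hm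
  haveI : QuasiIsoAt i m := inferInstance
  infer_instance

/-- the stages of the tower -/
noncomputable def stage (R₀ : Stage 𝒜 0) : ∀ q : ℕ, Stage 𝒜 q
  | 0 => R₀
  | q + 1 => (exists_next (stage R₀ q)).choose

/-- the complexes of the tower -/
noncomputable def R (R₀ : Stage 𝒜 0) (q : ℕ) : CochainComplex 𝒜 ℤ := (stage R₀ q).R

/-- the transition maps of the tower -/
noncomputable def s (R₀ : Stage 𝒜 0) (q : ℕ) : R R₀ q ⟶ R R₀ (q + 1) :=
  (exists_next (stage R₀ q)).choose_spec.choose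

lemma quasiIsoAt_s (R₀ : Stage 𝒜 0) (q : ℕ) (m : ℤ) (hm : (q : ℤ) + 1 ≤ m) :
    QuasiIsoAt (s R₀ q) m :=
  (exists_next (stage R₀ q)).choose_spec.choose_spec m hm

instance (R₀ : Stage 𝒜 0) (q : ℕ) (n : ℤ) : Injective ((R R₀ q).X n) := (stage R₀ q).inj n

instance (R₀ : Stage 𝒜 0) (q : ℕ) : (R R₀ q).IsStrictlyGE (q : ℤ) := (stage R₀ q).ge

lemma R_zero (R₀ : Stage 𝒜 0) : R R₀ 0 = R₀.R := rfl

/-- `H^m(R q) ≅ H^m(R₀)` for `m ≥ q` -/
lemma nonempty_homology_iso (R₀ : Stage 𝒜 0) (q : ℕ) (m : ℤ) (hm : (q : ℤ) ≤ m) :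
    Nonempty ((R R₀ q).homology m ≅ R₀.R.homology m) := by
  induction q with
  | zero => exact ⟨Iso.refl _⟩
  | succ q ih =>
    obtain ⟨e⟩ := ih (by push_cast at hm; omega)
    haveI := quasiIsoAt_s R₀ q m (by push_cast at hm; omega)
    haveI : IsIso (homologyMap (s R₀ q) m) := (quasiIsoAt_iff_isIso_homologyMap _ _).1 inferInstance
    exact ⟨(asIso (homologyMap (s R₀ q) m)).symm ≪≫ e⟩

end

section KInj

attribute [local instance] HasDerivedCategory.standard

open DerivedCategory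

/-- two `K`-injective complexes which are isomorphic in the derived category are isomorphic in the
homotopy category -/
lemma nonempty_iso_of_isKInjective (N N' : CochainComplex 𝒜 ℤ) [N.IsKInjective] [N'.IsKInjective]
    (e : Q.obj N ≅ Q.obj N') :
    Nonempty ((HomotopyCategory.quotient 𝒜 (ComplexShape.up ℤ)).obj N ≅
      (HomotopyCategory.quotient 𝒜 (ComplexShape.up ℤ)).obj N') := by
  obtain ⟨f, hf⟩ := (CochainComplex.IsKInjective.Qh_map_bijective
    ((HomotopyCategory.quotient 𝒜 (ComplexShape.up ℤ)).obj N) N').surjective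
    ((quotientCompQhIso 𝒜).hom.app N ≫ e.hom ≫ (quotientCompQhIso 𝒜).inv.app N')
  obtain ⟨g, hg⟩ := (CochainComplex.IsKInjective.Qh_map_bijective
    ((HomotopyCategory.quotient 𝒜 (ComplexShape.up ℤ)).obj N') N).surjective
    ((quotientCompQhIso 𝒜).hom.app N' ≫ e.inv ≫ (quotientCompQhIso 𝒜).inv.app N)
  refine ⟨⟨f, g, ?_, ?_⟩⟩
  · apply (CochainComplex.IsKInjective.Qh_map_bijective _ N).injective
    rw [Functor.map_comp, hf, hg]
    simp
  · apply (CochainComplex.IsKInjective.Qh_map_bijective _ N').injective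
    rw [Functor.map_comp, hf, hg]
    simp

end KInj

section Cone

open CochainComplex

lemma injective_mappingCone_X {K L : CochainComplex 𝒜 ℤ} (φ : K ⟶ L)
    (hK : ∀ n, Injective (K.X n)) (hL : ∀ n, Injective (L.X n)) (n : ℤ) :
    Injective ((mappingCone φ).X n) := by
  haveI := hK (n + 1)
  haveI := hL n
  exact Injective.of_iso (homotopyCofiber.XIsoBiprod φ n (n + 1) rfl).symm inferInstance

lemma isStrictlyGE_mappingCone {K L : CochainComplex 𝒜 ℤ} (φ : K ⟶ L) (a : ℤ)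
    [K.IsStrictlyGE (a + 1)] [L.IsStrictlyGE a] : (mappingCone φ).IsStrictlyGE a := by
  rw [CochainComplex.isStrictlyGE_iff]
  intro i hi
  rw [mappingCone.isZero_X_iff]
  exact ⟨K.isZero_of_isStrictlyGE (a + 1) (i + 1) (by omega), L.isZero_of_isStrictlyGE a i hi⟩

end Cone

section ConeSingle

attribute [local instance] HasDerivedCategory.standard

open DerivedCategory Pretriangulated

variable [EnoughInjectives 𝒜] (R₀ : Stage 𝒜 0) (q : ℕ)

lemma isZero_homology_Q (K : CochainComplex 𝒜 ℤ) (a : ℤ) [K.IsStrictlyGE a] (m : ℤ) (hm : m < a) :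
    IsZero ((DerivedCategory.homologyFunctor 𝒜 m).obj (Q.obj K)) :=
  (Q.obj K).isZero_of_isGE a m hm

lemma isIso_homology_Q_map {K L : CochainComplex 𝒜 ℤ} (φ : K ⟶ L) (m : ℤ) (h : QuasiIsoAt φ m) :
    IsIso ((DerivedCategory.homologyFunctor 𝒜 m).map (Q.map φ)) := by
  have : IsIso ((HomologicalComplex.homologyFunctor 𝒜 (ComplexShape.up ℤ) m).map φ) :=
    (quasiIsoAt_iff_isIso_homologyMap _ _).1 h
  exact (NatIso.isIso_map_iff (DerivedCategory.homologyFunctorFactors 𝒜 m) φ).2 this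

/-- the mapping cone of `R q ⟶ R (q + 1)` is the single object `H^q(R₀)` in degree `q - 1` in the
derived category -/
lemma nonempty_Q_cone_iso_single :
    Nonempty (Q.obj (CochainComplex.mappingCone (s R₀ q)) ≅
      (DerivedCategory.singleFunctor 𝒜 ((q : ℤ) - 1)).obj (R₀.R.homology q)) := by
  let T := Q.mapTriangle.obj (CochainComplex.mappingCone.triangle (s R₀ q))
  have hT : T ∈ distTriang _ := DerivedCategory.mappingCone_triangle_distinguished (s R₀ q)
  let H := DerivedCategory.homologyFunctor 𝒜 0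
  have h₁ : ∀ m : ℤ, m < q → IsZero ((H.shift m).obj T.obj₁) := fun m hm =>
    isZero_homology_Q (R R₀ q) q m hm
  have h₂ : ∀ m : ℤ, m ≤ q → IsZero ((H.shift m).obj T.obj₂) := fun m hm =>
    isZero_homology_Q (R R₀ (q + 1)) ((q + 1 : ℕ) : ℤ) m (by push_cast; omega)
  have hiso : ∀ m : ℤ, (q : ℤ) + 1 ≤ m → IsIso ((H.shift m).map T.mor₁) := fun m hm =>
    isIso_homology_Q_map (s R₀ q) m (quasiIsoAt_s R₀ q m hm)
  have hepi : ∀ m : ℤ, (q : ℤ) ≤ m → Epi ((H.shift m).map T.mor₁) := by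
    intro m hm
    by_cases h : m = q
    · subst h
      exact ⟨fun _ _ _ => (h₂ _ le_rfl).eq_of_src _ _⟩
    · haveI := hiso m (by omega)
      infer_instance
  have hmor₂ : ∀ m : ℤ, (q : ℤ) ≤ m → (H.shift m).map T.mor₂ = 0 := fun m hm =>
    (H.homologySequence_exact₂ T hT m).epi_f_iff.1 (hepi m hm)
  have hδ : ∀ m : ℤ, (q : ℤ) ≤ m → H.homologySequenceδ T m (m + 1) rfl = 0 := by
    intro m hm
    haveI := hiso (m + 1) (by omega)
    exact (H.homologySequence_exact₁ T hT m (m + 1) rfl).mono_g_iff.1 inferInstance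
  haveI : (Q.obj (CochainComplex.mappingCone (s R₀ q))).IsGE ((q : ℤ) - 1) := by
    rw [DerivedCategory.isGE_iff]
    intro i hi
    exact (H.homologySequence_exact₃ T hT i (i + 1) rfl).isZero_of_both_isZero
      (h₂ i (by omega)) (h₁ (i + 1) (by omega))
  haveI : (Q.obj (CochainComplex.mappingCone (s R₀ q))).IsLE ((q : ℤ) - 1) := by
    rw [DerivedCategory.isLE_iff]
    intro i hi
    exact (H.homologySequence_exact₃ T hT i (i + 1) rfl).isZero_X₂
      (hmor₂ i (by omega)) (hδ i (by omega))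
  obtain ⟨Y, ⟨e⟩⟩ := exists_iso_singleFunctor_obj_of_isGE_of_isLE
    (Q.obj (CochainComplex.mappingCone (s R₀ q))) ((q : ℤ) - 1)
  -- the connecting homomorphism is an isomorphism in degree `q - 1`
  have hq : (q : ℤ) - 1 + 1 = q := by omega
  have hmono : Mono (H.homologySequenceδ T ((q : ℤ) - 1) q hq) :=
    (H.homologySequence_exact₃ T hT ((q : ℤ) - 1) q hq).mono_g
      ((h₂ _ (by omega)).eq_of_src _ _)
  have hepi' : Epi (H.homologySequenceδ T ((q : ℤ) - 1) q hq) :=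
    (H.homologySequence_exact₁ T hT ((q : ℤ) - 1) q hq).epi_f
      ((h₂ _ le_rfl).eq_of_tgt _ _)
  haveI : IsIso (H.homologySequenceδ T ((q : ℤ) - 1) q hq) := isIso_of_mono_of_epi _
  obtain ⟨e₄⟩ := nonempty_homology_iso R₀ q q le_rfl
  let e₁ : (DerivedCategory.homologyFunctor 𝒜 ((q : ℤ) - 1)).obj
      ((DerivedCategory.singleFunctor 𝒜 ((q : ℤ) - 1)).obj Y) ≅ Y :=
    (DerivedCategory.homologyFunctorFactors 𝒜 ((q : ℤ) - 1)).app
      ((HomologicalComplex.single 𝒜 (ComplexShape.up ℤ) ((q : ℤ) - 1)).obj Y) ≪≫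
      HomologicalComplex.singleObjHomologySelfIso _ _ Y
  let e₂' := asIso (H.homologySequenceδ T ((q : ℤ) - 1) q hq)
  let e₂ : (DerivedCategory.homologyFunctor 𝒜 ((q : ℤ) - 1)).obj
      (Q.obj (CochainComplex.mappingCone (s R₀ q))) ≅
      (DerivedCategory.homologyFunctor 𝒜 q).obj (Q.obj (R R₀ q)) := e₂'
  let e₃ : (DerivedCategory.homologyFunctor 𝒜 q).obj (Q.obj (R R₀ q)) ≅ (R R₀ q).homology q :=
    (DerivedCategory.homologyFunctorFactors 𝒜 q).app (R R₀ q)
  exact ⟨e ≪≫ (DerivedCategory.singleFunctor 𝒜 ((q : ℤ) - 1)).mapIso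
    (e₁.symm ≪≫ (DerivedCategory.homologyFunctor 𝒜 ((q : ℤ) - 1)).mapIso e.symm ≪≫
      e₂ ≪≫ e₃ ≪≫ e₄)⟩

/-- the mapping cone of `R q ⟶ R (q + 1)` is isomorphic in the homotopy category to a shifted
injective resolution of `H^q(R₀)` -/
lemma nonempty_cone_iso (I : InjectiveResolution (R₀.R.homology q)) :
    Nonempty ((HomotopyCategory.quotient 𝒜 (ComplexShape.up ℤ)).obj (CochainComplex.mappingCone (s R₀ q)) ≅
      ((HomotopyCategory.quotient 𝒜 (ComplexShape.up ℤ)).obj I.cochainComplex)⟦(1 - (q : ℤ))⟧) := by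
  obtain ⟨e⟩ := nonempty_Q_cone_iso_single R₀ q
  haveI : (R R₀ q).IsStrictlyGE (((q : ℤ) - 1) + 1) := by
    rw [sub_add_cancel]
    infer_instance
  haveI : (R R₀ (q + 1)).IsStrictlyGE ((q : ℤ) - 1) :=
    (R R₀ (q + 1)).isStrictlyGE_of_ge _ ((q + 1 : ℕ) : ℤ) (by push_cast; omega)
  haveI : (CochainComplex.mappingCone (s R₀ q)).IsStrictlyGE ((q : ℤ) - 1) := isStrictlyGE_mappingCone _ _
  haveI : ∀ n, Injective ((CochainComplex.mappingCone (s R₀ q)).X n) :=
    injective_mappingCone_X _ (fun n => inferInstance) (fun n => inferInstance)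
  haveI : (CochainComplex.mappingCone (s R₀ q)).IsKInjective := CochainComplex.isKInjective_of_injective _ ((q : ℤ) - 1)
  haveI : I.cochainComplex.IsKInjective := CochainComplex.isKInjective_of_injective _ 0
  let e' : Q.obj (I.cochainComplex⟦(1 - (q : ℤ))⟧) ≅
      (DerivedCategory.singleFunctor 𝒜 ((q : ℤ) - 1)).obj (R₀.R.homology q) :=
    (Q.commShiftIso (1 - (q : ℤ))).app I.cochainComplex ≪≫
      (shiftFunctor _ (1 - (q : ℤ))).mapIso (asIso (Q.map I.ι')).symm ≪≫
      ((DerivedCategory.singleFunctors 𝒜).shiftIso (1 - (q : ℤ)) ((q : ℤ) - 1) 0 (by omega)).app _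
  obtain ⟨f⟩ := nonempty_iso_of_isKInjective (CochainComplex.mappingCone (s R₀ q))
    (I.cochainComplex⟦(1 - (q : ℤ))⟧) (e ≪≫ e'.symm)
  exact ⟨f ≪≫ ((HomotopyCategory.quotient 𝒜 (ComplexShape.up ℤ)).commShiftIso
    (1 - (q : ℤ))).app I.cochainComplex⟩

end ConeSingle

end Groth.Agent.Lib.InjTower
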