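import Mathlib

/-!
# Horseshoe lemma for bounded below cochain complexes (helper9)

* `HorseshoeCx.exists_mono_quasiIso_injective_ge`: a complex strictly `≥ n` admits a monomorphic
  quasi-isomorphism into a complex of injectives strictly `≥ n`.
* `HorseshoeCx.quasiIso_τ₂`: five lemma for the middle term of a morphism of short exact sequences
  of `ℤ`-indexed complexes.
* `HorseshoeCx.horseshoe`: simultaneous injective resolutions of a short exact sequence of complexes.
-/

open CategoryTheory CategoryTheory.Limits HomologicalComplex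

namespace HorseshoeCx

universe v u

variable {A : Type u} [Category.{v} A] [Abelian A]

/-! ### Generalities on injective objects -/

omit [Abelian A] in
lemma injective_of_retract {X Y : A} (s : X ⟶ Y) (r : Y ⟶ X) (h : s ≫ r = 𝟙 X) [Injective Y] :
    Injective X where
  factors {B B'} t m _ :=
    ⟨Injective.factorThru (t ≫ s) m ≫ r, by
      rw [← Category.assoc, Injective.comp_factorThru, Category.assoc, h, Category.comp_id]⟩

lemma injective_of_epiWithInjectiveKernel {X Y : A} {g : X ⟶ Y}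
    (hg : Abelian.epiWithInjectiveKernel g) [Injective Y] : Injective X := by
  rw [Abelian.epiWithInjectiveKernel_iff] at hg
  obtain ⟨I, _, f, w, ⟨σ⟩⟩ := hg
  constructor
  intro B B' t m _
  refine ⟨Injective.factorThru (t ≫ σ.r) m ≫ f + Injective.factorThru (t ≫ g) m ≫ σ.s, ?_⟩
  have hid : σ.r ≫ f + g ≫ σ.s = 𝟙 X := σ.id
  rw [Preadditive.comp_add, ← Category.assoc, Injective.comp_factorThru, ← Category.assoc m,
    Injective.comp_factorThru, Category.assoc, Category.assoc, ← Preadditive.comp_add, hid,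
    Category.comp_id]

/-! ### A monomorphism into a complex of injectives with the same lower bound -/

section MonoInj

variable [EnoughInjectives A] (K : CochainComplex A ℤ)

/-- An injective object containing `K.X q`. -/
noncomputable abbrev J (q : ℤ) : A := Injective.under (K.X q)

/-- An injective object containing the image of `K.d q (q+1)`. -/
noncomputable abbrev N (q : ℤ) : A := Injective.under (Limits.image (K.d q (q + 1)))

/-- An extension of the inclusion of the image of `d` in `J (q+1)`. -/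
noncomputable def ext (q : ℤ) : N K q ⟶ J K (q + 1) :=
  Injective.factorThru (Limits.image.ι (K.d q (q + 1)) ≫ Injective.ι (K.X (q + 1)))
    (Injective.ι (Limits.image (K.d q (q + 1))))

@[reassoc]
lemma ι_ext (q : ℤ) :
    Injective.ι (Limits.image (K.d q (q + 1))) ≫ ext K q =
      Limits.image.ι (K.d q (q + 1)) ≫ Injective.ι (K.X (q + 1)) :=
  Injective.comp_factorThru _ _

/-- The differential of `Lc`. -/
noncomputable def dL (q : ℤ) : J K q ⊞ N K q ⟶ J K (q + 1) ⊞ N K (q + 1) :=
  biprod.snd ≫ ext K q ≫ biprod.inl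

lemma dL_comp_dL (q : ℤ) : dL K q ≫ dL K (q + 1) = 0 := by
  simp [dL]

/-- A complex of injectives receiving a monomorphism from `K`, with the same lower bound. -/
noncomputable def Lc : CochainComplex A ℤ :=
  CochainComplex.of (fun q => J K q ⊞ N K q) (dL K) (dL_comp_dL K)

lemma Lc_d (q : ℤ) : (Lc K).d q (q + 1) = dL K q := by
  unfold Lc
  exact CochainComplex.of_d (fun q => J K q ⊞ N K q) (dL K) q

instance Lc_injective (q : ℤ) : Injective ((Lc K).X q) :=
  inferInstanceAs (Injective (J K q ⊞ N K q))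

/-- The degree `q` component of the monomorphism `K ⟶ Lc K`. -/
noncomputable def toLcF (q : ℤ) : K.X q ⟶ J K q ⊞ N K q :=
  biprod.lift (Injective.ι (K.X q))
    (factorThruImage (K.d q (q + 1)) ≫ Injective.ι (Limits.image (K.d q (q + 1))))

lemma toLcF_fst (q : ℤ) :
    toLcF K q ≫ (biprod.fst : J K q ⊞ N K q ⟶ J K q) = Injective.ι (K.X q) :=
  biprod.lift_fst _ _

lemma toLcF_snd (q : ℤ) :
    toLcF K q ≫ (biprod.snd : J K q ⊞ N K q ⟶ N K q) =
      factorThruImage (K.d q (q + 1)) ≫ Injective.ι (Limits.image (K.d q (q + 1))) :=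
  biprod.lift_snd _ _

omit [EnoughInjectives A] in
lemma d_factorThruImage (q : ℤ) :
    K.d q (q + 1) ≫ factorThruImage (K.d (q + 1) (q + 1 + 1)) = 0 := by
  rw [← cancel_mono (Limits.image.ι (K.d (q + 1) (q + 1 + 1))), Category.assoc,
    Limits.image.fac, zero_comp, K.d_comp_d]

lemma toLcF_comm (q : ℤ) : toLcF K q ≫ dL K q = K.d q (q + 1) ≫ toLcF K (q + 1) := by
  apply biprod.hom_ext
  · rw [Category.assoc, Category.assoc, toLcF_fst, dL, Category.assoc, Category.assoc,
      biprod.inl_fst, Category.comp_id, ← Category.assoc, toLcF_snd, Category.assoc, ι_ext,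
      ← Category.assoc, Limits.image.fac]
  · rw [Category.assoc, Category.assoc, toLcF_snd, dL, Category.assoc, Category.assoc,
      biprod.inl_snd, comp_zero, comp_zero, comp_zero, ← Category.assoc, d_factorThruImage,
      zero_comp]

/-- The monomorphism `K ⟶ Lc K`. -/
noncomputable def toLc : K ⟶ Lc K :=
  CochainComplex.ofHom (toLcF K) (fun q => by
    rw [Lc_d]
    exact toLcF_comm K q)

lemma toLc_f (q : ℤ) : (toLc K).f q = toLcF K q := rfl

instance mono_toLc_f (q : ℤ) : Mono ((toLc K).f q) := by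
  rw [toLc_f]
  haveI : Mono (toLcF K q ≫ (biprod.fst : J K q ⊞ N K q ⟶ J K q)) := by
    rw [toLcF_fst]; infer_instance
  exact mono_of_mono (toLcF K q) (biprod.fst : J K q ⊞ N K q ⟶ J K q)

instance mono_toLc : Mono (toLc K) := HomologicalComplex.mono_of_mono_f _ inferInstance

instance Lc_isStrictlyGE (n : ℤ) [K.IsStrictlyGE n] : (Lc K).IsStrictlyGE n := by
  rw [CochainComplex.isStrictlyGE_iff]
  intro i hi
  have h1 : IsZero (K.X i) := K.isZero_of_isStrictlyGE n i hi
  have h2 : IsZero (J K i) := Injective.isZero_under _ h1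
  have h3 : IsZero (Limits.image (K.d i (i + 1))) := IsZero.of_epi (factorThruImage (K.d i (i + 1))) h1
  have h4 : IsZero (N K i) := Injective.isZero_under _ h3
  change IsZero (J K i ⊞ N K i)
  rw [biprod_isZero_iff]
  exact ⟨h2, h4⟩

/-- A complex strictly `≥ n` admits a monomorphic quasi-isomorphism into a complex of injectives
strictly `≥ n`. -/
theorem exists_mono_quasiIso_injective_ge (n : ℤ) [K.IsStrictlyGE n] :
    ∃ (L : CochainComplex A ℤ) (i : K ⟶ L), Mono i ∧ QuasiIso i ∧ (∀ q, Injective (L.X q)) ∧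
      L.IsStrictlyGE n := by
  obtain ⟨K', hK', ι, π, hι, hι', hπ, _⟩ :=
    CochainComplex.Plus.modelCategoryQuillen.cm5a_cof (toLc K) n
  exact ⟨K', ι, hι, hι', fun q => injective_of_epiWithInjectiveKernel (hπ q), hK'⟩

end MonoInj

/-! ### Five lemma for the middle term -/

section Five

open ComposableArrows Abelian HomologySequence

variable {S₁ S₂ : ShortComplex (CochainComplex A ℤ)} (φ : S₁ ⟶ S₂)
  (hS₁ : S₁.ShortExact) (hS₂ : S₂.ShortExact)

include hS₁ hS₂ in
lemma quasiIso_τ₂ (h₁ : QuasiIso φ.τ₁) (h₃ : QuasiIso φ.τ₃) : QuasiIso φ.τ₂ := by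
  rw [quasiIso_iff]
  intro j
  rw [quasiIsoAt_iff_isIso_homologyMap]
  have hm : Mono (homologyMap φ.τ₂ j) := by
    have hij : (ComplexShape.up ℤ).Rel (j - 1) j := by simp
    apply mono_of_epi_of_mono_of_mono
      ((δ₀Functor ⋙ δ₀Functor).map (mapComposableArrows₅ φ hS₁ hS₂ (j - 1) j hij))
    · exact (composableArrows₅_exact hS₁ (j - 1) j hij).δ₀.δ₀
    · exact (composableArrows₅_exact hS₂ (j - 1) j hij).δ₀.δ₀
    · exact (inferInstance : Epi (homologyMap φ.τ₃ (j - 1)))
    · exact (inferInstance : Mono (homologyMap φ.τ₁ j))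
    · exact (inferInstance : Mono (homologyMap φ.τ₃ j))
  have he : Epi (homologyMap φ.τ₂ j) := by
    have hij : (ComplexShape.up ℤ).Rel j (j + 1) := by simp
    apply epi_of_epi_of_epi_of_mono
      ((δlastFunctor ⋙ δlastFunctor).map (mapComposableArrows₅ φ hS₁ hS₂ j (j + 1) hij))
    · exact (composableArrows₅_exact hS₁ j (j + 1) hij).δlast.δlast
    · exact (composableArrows₅_exact hS₂ j (j + 1) hij).δlast.δlast
    · exact (inferInstance : Epi (homologyMap φ.τ₁ j))
    · exact (inferInstance : Epi (homologyMap φ.τ₃ j))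
    · exact (inferInstance : Mono (homologyMap φ.τ₁ (j + 1)))
  exact isIso_of_mono_of_epi _

end Five

/-! ### Short exact sequences of complexes: bounds, injectivity, pushouts -/

section SES

variable {S : ShortComplex (CochainComplex A ℤ)} (hS : S.ShortExact)

include hS in
lemma isStrictlyGE_X₂ (n : ℤ) [S.X₁.IsStrictlyGE n] [S.X₃.IsStrictlyGE n] :
    S.X₂.IsStrictlyGE n := by
  rw [CochainComplex.isStrictlyGE_iff]
  intro i hi
  have h := hS.map_of_exact (HomologicalComplex.eval A (ComplexShape.up ℤ) i)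
  exact h.exact.isZero_X₂ ((S.X₁.isZero_of_isStrictlyGE n i hi).eq_of_src _ _)
    ((S.X₃.isZero_of_isStrictlyGE n i hi).eq_of_tgt _ _)

include hS in
lemma isStrictlyGE_X₃ (n : ℤ) [S.X₂.IsStrictlyGE n] : S.X₃.IsStrictlyGE n := by
  rw [CochainComplex.isStrictlyGE_iff]
  intro i hi
  have h := hS.map_of_exact (HomologicalComplex.eval A (ComplexShape.up ℤ) i)
  exact @IsZero.of_epi _ _ _ _ _ (S.g.f i) h.epi_g (S.X₂.isZero_of_isStrictlyGE n i hi)

include hS in
lemma injective_X₃ (q : ℤ) [Injective (S.X₁.X q)] [Injective (S.X₂.X q)] :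
    Injective (S.X₃.X q) := by
  have h := hS.map_of_exact (HomologicalComplex.eval A (ComplexShape.up ℤ) q)
  haveI := h.mono_f
  haveI := h.epi_g
  haveI : Injective (S.map (HomologicalComplex.eval A (ComplexShape.up ℤ) q)).X₁ :=
    (inferInstance : Injective (S.X₁.X q))
  let σ := ShortComplex.Splitting.ofExactOfRetraction _ h.exact
    (Injective.factorThru (𝟙 _) (S.map (HomologicalComplex.eval A (ComplexShape.up ℤ) q)).f)
    (by simp) inferInstance
  exact injective_of_retract (Y := S.X₂.X q) σ.s (S.g.f q) σ.s_g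

end SES

section Pushout

variable {𝒞 : Type*} [Category 𝒞] [Abelian 𝒞] {S : ShortComplex 𝒞} (hS : S.ShortExact)
  {Y : 𝒞} (a : S.X₁ ⟶ Y)

/-- The map from the pushout of `S.f` along `a` to `S.X₃`. -/
noncomputable def pushoutDesc : pushout S.f a ⟶ S.X₃ :=
  pushout.desc S.g 0 (by rw [S.zero, comp_zero])

@[reassoc (attr := simp)]
lemma inl_pushoutDesc : pushout.inl S.f a ≫ pushoutDesc a = S.g := pushout.inl_desc _ _ _

@[reassoc (attr := simp)]
lemma inr_pushoutDesc : pushout.inr S.f a ≫ pushoutDesc a = 0 := pushout.inr_desc _ _ _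

/-- The pushed-out short complex `Y ⟶ pushout ⟶ S.X₃`. -/
noncomputable abbrev pushoutSC : ShortComplex 𝒞 :=
  ShortComplex.mk (pushout.inr S.f a) (pushoutDesc a) (inr_pushoutDesc a)

include hS in
lemma pushoutSC_shortExact : (pushoutSC (S := S) a).ShortExact := by
  haveI := hS.mono_f
  haveI := hS.epi_g
  haveI : Epi (pushoutDesc (S := S) a) := epi_of_epi_fac (inl_pushoutDesc a)
  refine { exact := ?_, mono_f := (inferInstance : Mono (pushout.inr S.f a)), epi_g := ‹_› }
  refine ShortComplex.exact_of_g_is_cokernel _ ?_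
  refine CokernelCofork.IsColimit.ofπ _ _
    (fun {W} h hh => hS.exact.desc (pushout.inl S.f a ≫ h) (by
      rw [← Category.assoc, pushout.condition, Category.assoc, hh, comp_zero]))
    (fun {W} h hh => ?_) (fun {W} h hh m hm => ?_)
  · apply pushout.hom_ext
    · rw [inl_pushoutDesc_assoc, ShortComplex.Exact.g_desc]
    · rw [inr_pushoutDesc_assoc, zero_comp]; exact hh.symm
  · rw [← cancel_epi S.g, ShortComplex.Exact.g_desc, ← hm, inl_pushoutDesc_assoc]

/-- The morphism from `S` to the pushed-out short complex. -/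
noncomputable def toPushoutSC : S ⟶ pushoutSC (S := S) a :=
  ShortComplex.homMk a (pushout.inl S.f a) (𝟙 _) pushout.condition.symm (by simp)

end Pushout

/-! ### The horseshoe lemma -/

theorem horseshoe [EnoughInjectives A] (S : ShortComplex (CochainComplex A ℤ)) (hS : S.ShortExact)
    (n : ℤ) [S.X₁.IsStrictlyGE n] [S.X₂.IsStrictlyGE n] [S.X₃.IsStrictlyGE n] :
    ∃ (T : ShortComplex (CochainComplex A ℤ)) (φ : S ⟶ T), T.ShortExact ∧
      T.X₁.IsStrictlyGE n ∧ T.X₂.IsStrictlyGE n ∧ T.X₃.IsStrictlyGE n ∧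
      (∀ k : ℤ, Injective (T.X₁.X k) ∧ Injective (T.X₂.X k) ∧ Injective (T.X₃.X k)) ∧
      QuasiIso φ.τ₁ ∧ QuasiIso φ.τ₂ ∧ QuasiIso φ.τ₃ := by
  haveI := hS.mono_f
  haveI := hS.epi_g
  obtain ⟨I₁, a, _, ha, hI₁, hI₁n⟩ := exists_mono_quasiIso_injective_ge S.X₁ n
  have hS' := pushoutSC_shortExact hS a
  haveI : (pushoutSC (S := S) a).X₁.IsStrictlyGE n := hI₁n
  haveI : (pushoutSC (S := S) a).X₃.IsStrictlyGE n := (inferInstance : S.X₃.IsStrictlyGE n)
  haveI hPn : (pushout S.f a).IsStrictlyGE n := isStrictlyGE_X₂ hS' n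
  obtain ⟨I₂, b, hbm, hb, hI₂, hI₂n⟩ := exists_mono_quasiIso_injective_ge (pushout S.f a) n
  let u : I₁ ⟶ I₂ := pushout.inr S.f a ≫ b
  haveI : Mono u := mono_comp _ _
  let T : ShortComplex (CochainComplex A ℤ) :=
    ShortComplex.mk u (cokernel.π u) (cokernel.condition u)
  have hT : T.ShortExact :=
    { exact := ShortComplex.exact_of_g_is_cokernel _ (cokernelIsCokernel u)
      mono_f := (inferInstance : Mono u)
      epi_g := (inferInstance : Epi (cokernel.π u)) }
  haveI := hS'.epi_g
  let c : S.X₃ ⟶ cokernel u := hS'.exact.desc (b ≫ cokernel.π u) (by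
    change pushout.inr S.f a ≫ b ≫ cokernel.π u = 0
    rw [← Category.assoc]; exact cokernel.condition u)
  have hc : pushoutDesc a ≫ c = b ≫ cokernel.π u := hS'.exact.g_desc _ _
  let ψ : pushoutSC (S := S) a ⟶ T :=
    ShortComplex.homMk (𝟙 _) b c (Category.id_comp _) hc.symm
  have hcq : QuasiIso c :=
    HomologySequence.quasiIso_τ₃ ψ hS' hT (inferInstanceAs (QuasiIso (𝟙 I₁))) hb
  have hinl : QuasiIso (pushout.inl S.f a) :=
    quasiIso_τ₂ (toPushoutSC a) hS hS' ha (inferInstanceAs (QuasiIso (𝟙 S.X₃)))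
  haveI : T.X₂.IsStrictlyGE n := hI₂n
  have hI₃n : T.X₃.IsStrictlyGE n := isStrictlyGE_X₃ hT n
  refine ⟨T, toPushoutSC a ≫ ψ, hT, hI₁n, hI₂n, hI₃n, fun k => ⟨hI₁ k, hI₂ k, ?_⟩, ?_, ?_, ?_⟩
  · haveI : Injective (T.X₁.X k) := hI₁ k
    haveI : Injective (T.X₂.X k) := hI₂ k
    exact injective_X₃ hT k
  · change QuasiIso (a ≫ 𝟙 _)
    rw [Category.comp_id]; exact ha
  · change QuasiIso (pushout.inl S.f a ≫ b)
    infer_instance
  · change QuasiIso (𝟙 _ ≫ c)
    rw [Category.id_comp]; exact hcq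

end HorseshoeCx
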