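import Mathlib
import Groth.Agent.Lib.HorseshoeCx_helper9

/-!
# The long exact sequence of `F.rightDerivedFunctorPlus` for a short exact sequence of bounded below
complexes (helper9)

`Phi F n = quotient ⋙ Qh ⋙ RF ⋙ H^n`.  For a complex `K` of injectives (bounded below), the unit
`Q (F K) ⟶ RF (Q K)` is an isomorphism; a short exact sequence of bounded below complexes has a
simultaneous resolution by complexes of injectives (`HorseshoeCx.horseshoe`), and `F` of a short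
exact sequence of complexes of injectives is short exact, hence gives a distinguished triangle in
the derived category.
-/

open CategoryTheory CategoryTheory.Limits

namespace RDPlusLES

universe w w' v v' u u'

variable {C : Type u} [Category.{v} C] [Abelian C] [HasDerivedCategory.{w} C] [EnoughInjectives C]
  {D : Type u'} [Category.{v'} D] [Abelian D] [HasDerivedCategory.{w'} D]
  (F : C ⥤ D) [F.Additive]

/-- `K ↦ H^n(RF(K))` on bounded below complexes. -/
noncomputable abbrev Phi (n : ℤ) : CochainComplex.Plus C ⥤ D :=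
  HomotopyCategory.Plus.quotient C ⋙ DerivedCategory.Plus.Qh ⋙ F.rightDerivedFunctorPlus ⋙
    DerivedCategory.Plus.homologyFunctor D n

/-- `K ↦ H^n(Q(F K))`. -/
noncomputable abbrev HQF (n : ℤ) (K : CochainComplex C ℤ) : D :=
  (DerivedCategory.homologyFunctor D n).obj
    (DerivedCategory.Q.obj ((F.mapHomologicalComplex (ComplexShape.up ℤ)).obj K))

/-- `H^n(Q(F f))`. -/
noncomputable abbrev HQFmap (n : ℤ) {K L : CochainComplex C ℤ} (f : K ⟶ L) : HQF F n K ⟶ HQF F n L :=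
  (DerivedCategory.homologyFunctor D n).map
    (DerivedCategory.Q.map ((F.mapHomologicalComplex (ComplexShape.up ℤ)).map f))

/-- The comparison `H^n(Q(F K)) ⟶ H^n(RF(K))` induced by the unit of the right derived functor. -/
noncomputable def beta (n : ℤ) (K : CochainComplex.Plus C) : HQF F n K.obj ⟶ (Phi F n).obj K :=
  (DerivedCategory.Plus.homologyFunctor D n).map
    (F.rightDerivedFunctorPlusUnit.app ((HomotopyCategory.Plus.quotient C).obj K))

lemma beta_naturality (n : ℤ) {K L : CochainComplex.Plus C} (f : K ⟶ L) :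
    HQFmap F n f.hom ≫ beta F n L = beta F n K ≫ (Phi F n).map f := by
  have h := F.rightDerivedFunctorPlusUnit.naturality ((HomotopyCategory.Plus.quotient C).map f)
  have h2 := congrArg (fun t => (DerivedCategory.Plus.homologyFunctor D n).map t) h
  simp only [Functor.map_comp] at h2
  exact h2

/-- A bounded below complex of injectives, as an object of `CochainComplex.Plus (InjectiveObject C)`. -/
noncomputable def injObj (L : CochainComplex C ℤ) (hL : ∀ q, Injective (L.X q)) (n : ℤ)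
    (hn : L.IsStrictlyGE n) : CochainComplex.Plus (InjectiveObject C) :=
  ⟨HomologicalComplex.liftObjectProperty _ L hL, n, by
    rwa [← CochainComplex.isStrictlyGE_mapHomologicalComplex_obj_iff _ (InjectiveObject.ι _)]⟩

lemma isIso_unit (L : CochainComplex C ℤ) (hL : ∀ q, Injective (L.X q)) (n : ℤ)
    (hn : L.IsStrictlyGE n) :
    IsIso (F.rightDerivedFunctorPlusUnit.app
      ((HomotopyCategory.Plus.quotient C).obj (⟨L, n, hn⟩ : CochainComplex.Plus C))) := by
  have := (inferInstance : IsIso (F.rightDerivedFunctorPlusUnit.app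
      ((HomotopyCategory.Plus.quotient C).obj
        ((InjectiveObject.ι C).mapCochainComplexPlus.obj (injObj L hL n hn)))))
  exact this

lemma isIso_beta (m : ℤ) (K : CochainComplex.Plus C) (hK : ∀ q, Injective (K.obj.X q)) :
    IsIso (beta F m K) := by
  obtain ⟨L, n, hn⟩ := K
  haveI h1 := isIso_unit F L hK n hn
  unfold beta
  exact Functor.map_isIso (DerivedCategory.Plus.homologyFunctor D m) _

/-- `Phi` inverts quasi-isomorphisms. -/
lemma isIso_Phi_map (m : ℤ) {K L : CochainComplex.Plus C} (p : K ⟶ L) (hp : QuasiIso p.hom) :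
    IsIso ((Phi F m).map p) := by
  have h1 : HomotopyCategory.Plus.quasiIso C ((HomotopyCategory.Plus.quotient C).map p) := by
    rw [HomotopyCategory.Plus.quasiIso_iff]
    exact (HomotopyCategory.quotient_map_mem_quasiIso_iff p.hom).2
      ((HomologicalComplex.mem_quasiIso_iff p.hom).2 hp)
  haveI : IsIso (DerivedCategory.Plus.Qh.map ((HomotopyCategory.Plus.quotient C).map p)) :=
    Localization.inverts DerivedCategory.Plus.Qh (HomotopyCategory.Plus.quasiIso C) _ h1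
  change IsIso ((F.rightDerivedFunctorPlus ⋙ DerivedCategory.Plus.homologyFunctor D m).map
    (DerivedCategory.Plus.Qh.map ((HomotopyCategory.Plus.quotient C).map p)))
  infer_instance

/-- For a quasi-isomorphism `p : K ⟶ L` to a complex of injectives, the identification
`H^d(RF(K)) ≅ H^d(Q(F L))`. -/
noncomputable def theta (d : ℤ) {K L : CochainComplex.Plus C} (p : K ⟶ L) (hp : QuasiIso p.hom)
    (hL : ∀ q, Injective (L.obj.X q)) : (Phi F d).obj K ≅ HQF F d L.obj :=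
  haveI := isIso_beta F d L hL
  haveI := isIso_Phi_map F d p hp
  asIso ((Phi F d).map p) ≪≫ (asIso (beta F d L)).symm

lemma theta_hom_beta (d : ℤ) {K L : CochainComplex.Plus C} (p : K ⟶ L) (hp : QuasiIso p.hom)
    (hL : ∀ q, Injective (L.obj.X q)) :
    (theta F d p hp hL).hom ≫ beta F d L = (Phi F d).map p := by
  haveI := isIso_beta F d L hL
  haveI := isIso_Phi_map F d p hp
  change ((Phi F d).map p ≫ inv (beta F d L)) ≫ beta F d L = _
  rw [Category.assoc, IsIso.inv_hom_id, Category.comp_id]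

lemma theta_naturality (d : ℤ) {K L K' L' : CochainComplex.Plus C} (p : K ⟶ L) (hp : QuasiIso p.hom)
    (hL : ∀ q, Injective (L.obj.X q)) (p' : K' ⟶ L') (hp' : QuasiIso p'.hom)
    (hL' : ∀ q, Injective (L'.obj.X q)) (a : K ⟶ K') (b : L ⟶ L') (hc : a ≫ p' = p ≫ b) :
    (Phi F d).map a ≫ (theta F d p' hp' hL').hom = (theta F d p hp hL).hom ≫ HQFmap F d b.hom := by
  haveI := isIso_beta F d L' hL'
  rw [← cancel_mono (beta F d L'), Category.assoc, theta_hom_beta, Category.assoc,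
    beta_naturality, ← Category.assoc, theta_hom_beta, ← Functor.map_comp, ← Functor.map_comp, hc]

/-! ### Transport of exactness -/

lemma exact_transport {𝒜 : Type*} [Category 𝒜] [Abelian 𝒜] {X₁ X₂ X₃ Y₁ Y₂ Y₃ : 𝒜}
    (a : X₁ ⟶ X₂) (b : X₂ ⟶ X₃) (a' : Y₁ ⟶ Y₂) (b' : Y₂ ⟶ Y₃)
    (e₁ : X₁ ≅ Y₁) (e₂ : X₂ ≅ Y₂) (e₃ : X₃ ≅ Y₃)
    (c₁ : a ≫ e₂.hom = e₁.hom ≫ a') (c₂ : b ≫ e₃.hom = e₂.hom ≫ b')
    (w' : a' ≫ b' = 0) (h : (ShortComplex.mk a' b' w').Exact) :
    ∃ w : a ≫ b = 0, (ShortComplex.mk a b w).Exact := by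
  have w : a ≫ b = 0 := by
    rw [← cancel_mono e₃.hom, Category.assoc, c₂, ← Category.assoc, c₁, Category.assoc, w',
      comp_zero, zero_comp]
  refine ⟨w, ?_⟩
  exact ShortComplex.exact_of_iso
    (ShortComplex.isoMk (S₁ := ShortComplex.mk a b w) (S₂ := ShortComplex.mk a' b' w')
      e₁ e₂ e₃ c₁.symm c₂.symm).symm h

/-! ### Short exact sequences of complexes of injectives -/

section Inj

variable {S : ShortComplex (CochainComplex C ℤ)} (hS : S.ShortExact)

omit [HasDerivedCategory C] [EnoughInjectives C] [HasDerivedCategory D] in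
include hS in
lemma map_shortExact (h₁ : ∀ q, Injective (S.X₁.X q)) :
    (S.map (F.mapHomologicalComplex (ComplexShape.up ℤ))).ShortExact := by
  apply HomologicalComplex.shortExact_of_degreewise_shortExact
  intro q
  have h := hS.map_of_exact (HomologicalComplex.eval C (ComplexShape.up ℤ) q)
  haveI := h.mono_f
  haveI := h.epi_g
  haveI : Injective (S.map (HomologicalComplex.eval C (ComplexShape.up ℤ) q)).X₁ := h₁ q
  let σ := ShortComplex.Splitting.ofExactOfRetraction _ h.exact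
    (Injective.factorThru (𝟙 _) (S.map (HomologicalComplex.eval C (ComplexShape.up ℤ) q)).f)
    (by simp) inferInstance
  exact (σ.map F).shortExact

end Inj

/-! ### The long exact sequence -/

section LES

variable {K₁ K₂ K₃ : CochainComplex.Plus C} (f : K₁ ⟶ K₂) (g : K₂ ⟶ K₃)
  (w : f.hom ≫ g.hom = 0) (hS : (ShortComplex.mk f.hom g.hom w).ShortExact)

include hS in
theorem les (n₀ n₁ : ℤ) (h : n₀ + 1 = n₁) :
    ∃ (w₂ : (Phi F n₀).map f ≫ (Phi F n₀).map g = 0)
      (δ : (Phi F n₀).obj K₃ ⟶ (Phi F n₁).obj K₁)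
      (w₃ : (Phi F n₀).map g ≫ δ = 0) (w₁ : δ ≫ (Phi F n₁).map f = 0),
      (ShortComplex.mk _ _ w₂).Exact ∧ (ShortComplex.mk _ _ w₃).Exact ∧
        (ShortComplex.mk _ _ w₁).Exact := by
  -- a common lower bound
  obtain ⟨m₁, hm₁⟩ := K₁.property
  obtain ⟨m₂, hm₂⟩ := K₂.property
  obtain ⟨m₃, hm₃⟩ := K₃.property
  let m : ℤ := min m₁ (min m₂ m₃)
  haveI : (ShortComplex.mk f.hom g.hom w).X₁.IsStrictlyGE m :=
    K₁.obj.isStrictlyGE_of_ge m m₁ (min_le_left _ _)
  haveI : (ShortComplex.mk f.hom g.hom w).X₂.IsStrictlyGE m :=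
    K₂.obj.isStrictlyGE_of_ge m m₂ ((min_le_right _ _).trans (min_le_left _ _))
  haveI : (ShortComplex.mk f.hom g.hom w).X₃.IsStrictlyGE m :=
    K₃.obj.isStrictlyGE_of_ge m m₃ ((min_le_right _ _).trans (min_le_right _ _))
  obtain ⟨T, φ, hT, hT₁, hT₂, hT₃, hinj, hq₁, hq₂, hq₃⟩ :=
    HorseshoeCx.horseshoe (ShortComplex.mk f.hom g.hom w) hS m
  -- the objects and morphisms in `CochainComplex.Plus C`
  let L₁ : CochainComplex.Plus C := ⟨T.X₁, m, hT₁⟩
  let L₂ : CochainComplex.Plus C := ⟨T.X₂, m, hT₂⟩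
  let L₃ : CochainComplex.Plus C := ⟨T.X₃, m, hT₃⟩
  let tf : L₁ ⟶ L₂ := ObjectProperty.homMk T.f
  let tg : L₂ ⟶ L₃ := ObjectProperty.homMk T.g
  let p₁ : K₁ ⟶ L₁ := ObjectProperty.homMk φ.τ₁
  let p₂ : K₂ ⟶ L₂ := ObjectProperty.homMk φ.τ₂
  let p₃ : K₃ ⟶ L₃ := ObjectProperty.homMk φ.τ₃
  have c₁₂ : f ≫ p₂ = p₁ ≫ tf := ObjectProperty.hom_ext _ φ.comm₁₂.symm
  have c₂₃ : g ≫ p₃ = p₂ ≫ tg := ObjectProperty.hom_ext _ φ.comm₂₃.symm
  -- the distinguished triangle
  have hFT := map_shortExact F hT (fun q => (hinj q).1)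
  have hdist := DerivedCategory.triangleOfSES_distinguished hFT
  let Tr := DerivedCategory.triangleOfSES hFT
  -- the isomorphisms
  have i₁ : ∀ q, Injective (L₁.obj.X q) := fun q => (hinj q).1
  have i₂ : ∀ q, Injective (L₂.obj.X q) := fun q => (hinj q).2.1
  have i₃ : ∀ q, Injective (L₃.obj.X q) := fun q => (hinj q).2.2
  have n₁₂ : ∀ d : ℤ, (Phi F d).map f ≫ (theta F d p₂ hq₂ i₂).hom =
      (theta F d p₁ hq₁ i₁).hom ≫ HQFmap F d T.f :=
    fun d => theta_naturality F d p₁ hq₁ i₁ p₂ hq₂ i₂ f tf c₁₂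
  have n₂₃ : ∀ d : ℤ, (Phi F d).map g ≫ (theta F d p₃ hq₃ i₃).hom =
      (theta F d p₂ hq₂ i₂).hom ≫ HQFmap F d T.g :=
    fun d => theta_naturality F d p₂ hq₂ i₂ p₃ hq₃ i₃ g tg c₂₃
  let δt : HQF F n₀ T.X₃ ⟶ HQF F n₁ T.X₁ := DerivedCategory.HomologySequence.δ Tr n₀ n₁ h
  let δ : (Phi F n₀).obj K₃ ⟶ (Phi F n₁).obj K₁ :=
    (theta F n₀ p₃ hq₃ i₃).hom ≫ δt ≫ (theta F n₁ p₁ hq₁ i₁).inv
  have hδ : δ ≫ (theta F n₁ p₁ hq₁ i₁).hom = (theta F n₀ p₃ hq₃ i₃).hom ≫ δt := by
    simp only [δ, Category.assoc, Iso.inv_hom_id, Category.comp_id]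
  obtain ⟨w₂, h₂⟩ := exact_transport ((Phi F n₀).map f) ((Phi F n₀).map g)
    (HQFmap F n₀ T.f) (HQFmap F n₀ T.g) (theta F n₀ p₁ hq₁ i₁) (theta F n₀ p₂ hq₂ i₂)
    (theta F n₀ p₃ hq₃ i₃) (n₁₂ n₀) (n₂₃ n₀) _
    (DerivedCategory.HomologySequence.exact₂ Tr hdist n₀)
  obtain ⟨w₃, h₃⟩ := exact_transport ((Phi F n₀).map g) δ
    (HQFmap F n₀ T.g) δt (theta F n₀ p₂ hq₂ i₂) (theta F n₀ p₃ hq₃ i₃)
    (theta F n₁ p₁ hq₁ i₁) (n₂₃ n₀) hδ _
    (DerivedCategory.HomologySequence.exact₃ Tr hdist n₀ n₁ h)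
  obtain ⟨w₁, h₁⟩ := exact_transport δ ((Phi F n₁).map f)
    δt (HQFmap F n₁ T.f) (theta F n₀ p₃ hq₃ i₃) (theta F n₁ p₁ hq₁ i₁)
    (theta F n₁ p₂ hq₂ i₂) hδ (n₁₂ n₁) _
    (DerivedCategory.HomologySequence.exact₁ Tr hdist n₀ n₁ h)
  exact ⟨w₂, δ, w₃, w₁, h₂, h₃, h₁⟩

end LES

end RDPlusLES
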