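import Mathlib
import Groth.Agent.Lib.RDPlusLES_helper9

/-!
# The unit of `F.rightDerivedFunctorPlus` at a single object, and the classical derived functors
(helper9)

* `RDPlusSingle.isIso_unit_iff_quasiIso`: for a quasi-isomorphism `p : K ⟶ L` to a bounded below
  complex of injectives, the unit at `K` is an isomorphism iff `F p` is a quasi-isomorphism.
* `RDPlusSingle.extendMapIso`: `extend` commutes with `mapHomologicalComplex`.
* `RDPlusSingle.isIso_unit_single_iff`: the unit at `X[0]` is an isomorphism iff `F X ⟶ R⁰F X` is an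
  isomorphism and `RⁱF X = 0` for `i > 0`.
-/

open CategoryTheory CategoryTheory.Limits HomologicalComplex

namespace RDPlusSingle

universe w w' v v' u u'

section Unit

variable {C : Type u} [Category.{v} C] [Abelian C] [HasDerivedCategory.{w} C] [EnoughInjectives C]
  {D : Type u'} [Category.{v'} D] [Abelian D] [HasDerivedCategory.{w'} D]
  (F : C ⥤ D) [F.Additive]

/-- For a quasi-isomorphism `p : K ⟶ L` to a bounded below complex of injectives, the unit at `K` is
an isomorphism iff `F p` is a quasi-isomorphism. -/
theorem isIso_unit_iff_quasiIso {K L : CochainComplex.Plus C} (p : K ⟶ L) (hp : QuasiIso p.hom)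
    (hL : ∀ q, Injective (L.obj.X q)) :
    IsIso (F.rightDerivedFunctorPlusUnit.app ((HomotopyCategory.Plus.quotient C).obj K)) ↔
      QuasiIso ((F.mapHomologicalComplex (ComplexShape.up ℤ)).map p.hom) := by
  have hnat := F.rightDerivedFunctorPlusUnit.naturality ((HomotopyCategory.Plus.quotient C).map p)
  -- the unit at `L` is an isomorphism
  haveI hUL : IsIso (F.rightDerivedFunctorPlusUnit.app ((HomotopyCategory.Plus.quotient C).obj L)) := by
    obtain ⟨L', n, hn⟩ := L
    exact RDPlusLES.isIso_unit F L' hL n hn
  -- `RF (Q p)` is an isomorphism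
  have h1 : HomotopyCategory.Plus.quasiIso C ((HomotopyCategory.Plus.quotient C).map p) := by
    rw [HomotopyCategory.Plus.quasiIso_iff]
    exact (HomotopyCategory.quotient_map_mem_quasiIso_iff p.hom).2
      ((HomologicalComplex.mem_quasiIso_iff p.hom).2 hp)
  haveI : IsIso (DerivedCategory.Plus.Qh.map ((HomotopyCategory.Plus.quotient C).map p)) :=
    Localization.inverts DerivedCategory.Plus.Qh (HomotopyCategory.Plus.quasiIso C) _ h1
  haveI hR : IsIso ((DerivedCategory.Plus.Qh ⋙ F.rightDerivedFunctorPlus).map
      ((HomotopyCategory.Plus.quotient C).map p)) := by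
    change IsIso (F.rightDerivedFunctorPlus.map
      (DerivedCategory.Plus.Qh.map ((HomotopyCategory.Plus.quotient C).map p)))
    infer_instance
  -- reformulate the quasi-isomorphism condition
  have h2 : QuasiIso ((F.mapHomologicalComplex (ComplexShape.up ℤ)).map p.hom) ↔
      IsIso ((F.mapHomotopyCategoryPlus ⋙ DerivedCategory.Plus.Qh).map
        ((HomotopyCategory.Plus.quotient C).map p)) := by
    rw [← DerivedCategory.isIso_Q_map_iff_quasiIso]
    constructor
    · intro h
      haveI : IsIso (DerivedCategory.Plus.ι.map ((F.mapHomotopyCategoryPlus ⋙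
          DerivedCategory.Plus.Qh).map ((HomotopyCategory.Plus.quotient C).map p))) := h
      exact isIso_of_fully_faithful DerivedCategory.Plus.ι _
    · intro h
      exact (inferInstance : IsIso (DerivedCategory.Plus.ι.map ((F.mapHomotopyCategoryPlus ⋙
          DerivedCategory.Plus.Qh).map ((HomotopyCategory.Plus.quotient C).map p))))
  rw [h2]
  constructor
  · intro h
    -- a ≫ uL = uK ≫ r with uK, uL, r isos
    have : IsIso ((F.mapHomotopyCategoryPlus ⋙ DerivedCategory.Plus.Qh).map
        ((HomotopyCategory.Plus.quotient C).map p) ≫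
        F.rightDerivedFunctorPlusUnit.app ((HomotopyCategory.Plus.quotient C).obj L)) := by
      rw [hnat]; infer_instance
    exact IsIso.of_isIso_comp_right _
      (F.rightDerivedFunctorPlusUnit.app ((HomotopyCategory.Plus.quotient C).obj L))
  · intro h
    have : IsIso (F.rightDerivedFunctorPlusUnit.app ((HomotopyCategory.Plus.quotient C).obj K) ≫
        (DerivedCategory.Plus.Qh ⋙ F.rightDerivedFunctorPlus).map
          ((HomotopyCategory.Plus.quotient C).map p)) := by
      rw [← hnat]; infer_instance
    exact IsIso.of_isIso_comp_right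
      (F.rightDerivedFunctorPlusUnit.app ((HomotopyCategory.Plus.quotient C).obj K))
      ((DerivedCategory.Plus.Qh ⋙ F.rightDerivedFunctorPlus).map
          ((HomotopyCategory.Plus.quotient C).map p))

end Unit

/-! ### `extend` commutes with `mapHomologicalComplex` -/

section Extend

variable {ι ι' : Type*} {c : ComplexShape ι} {c' : ComplexShape ι'} (e : c.Embedding c')
  {C : Type*} [Category C] [HasZeroMorphisms C] [HasZeroObject C]
  {D : Type*} [Category D] [HasZeroMorphisms D] [HasZeroObject D]
  (F : C ⥤ D) [F.PreservesZeroMorphisms]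

/-- Auxiliary isomorphism for `extendMapIso`. -/
noncomputable def extendXIsoAux (K : HomologicalComplex C c) :
    ∀ o : Option ι, F.obj (extend.X K o) ≅ extend.X ((F.mapHomologicalComplex c).obj K) o
  | some _ => Iso.refl _
  | none => F.mapZeroObject

lemma extendXIsoAux_d (K : HomologicalComplex C c) :
    ∀ o o' : Option ι, (extendXIsoAux F K o).hom ≫ extend.d ((F.mapHomologicalComplex c).obj K) o o' =
      F.map (extend.d K o o') ≫ (extendXIsoAux F K o').hom
  | none, _ => by
      rw [extend.d_none_eq_zero _ _ _ rfl, extend.d_none_eq_zero _ _ _ rfl, F.map_zero, comp_zero,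
        zero_comp]
  | some i, some j => by
      change 𝟙 _ ≫ F.map (K.d i j) = F.map (K.d i j) ≫ 𝟙 _
      rw [Category.id_comp, Category.comp_id]
  | some i, none => by
      rw [extend.d_none_eq_zero' _ _ _ rfl, extend.d_none_eq_zero' _ _ _ rfl, F.map_zero, comp_zero,
        zero_comp]

lemma extendXIsoAux_mapX {K L : HomologicalComplex C c} (φ : K ⟶ L) :
    ∀ o : Option ι, F.map (extend.mapX φ o) ≫ (extendXIsoAux F L o).hom =
      (extendXIsoAux F K o).hom ≫ extend.mapX ((F.mapHomologicalComplex c).map φ) o
  | some i => by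
      change F.map (φ.f i) ≫ 𝟙 _ = 𝟙 _ ≫ F.map (φ.f i)
      rw [Category.id_comp, Category.comp_id]
  | none => by
      rw [extend.mapX_none _ rfl, extend.mapX_none _ rfl, F.map_zero, comp_zero, zero_comp]

/-- `extend` commutes with `mapHomologicalComplex`. -/
noncomputable def extendMapIso (K : HomologicalComplex C c) :
    (F.mapHomologicalComplex c').obj (K.extend e) ≅ ((F.mapHomologicalComplex c).obj K).extend e :=
  HomologicalComplex.Hom.isoOfComponents (fun n => extendXIsoAux F K (e.r n))
    (fun i j _ => extendXIsoAux_d F K (e.r i) (e.r j))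

lemma extendMapIso_naturality {K L : HomologicalComplex C c} (φ : K ⟶ L) :
    (F.mapHomologicalComplex c').map (extendMap φ e) ≫ (extendMapIso e F L).hom =
      (extendMapIso e F K).hom ≫ extendMap ((F.mapHomologicalComplex c).map φ) e := by
  ext n
  exact extendXIsoAux_mapX F φ (e.r n)

end Extend

/-! ### The unit at a single object -/

section Single

variable {C : Type u} [Category.{v} C] [Abelian C] {D : Type u'} [Category.{v'} D] [Abelian D]
  (F : C ⥤ D) [F.Additive]

/-- `F` applied to the extension to `ℤ` of the augmentation of an injective resolution is a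
quasi-isomorphism iff `F` applied to the augmentation is. -/
lemma quasiIso_map_ι'_iff {X : C} (I : InjectiveResolution X) :
    QuasiIso ((F.mapHomologicalComplex (ComplexShape.up ℤ)).map I.ι') ↔
      QuasiIso ((F.mapHomologicalComplex (ComplexShape.up ℕ)).map I.ι) := by
  change QuasiIso ((F.mapHomologicalComplex (ComplexShape.up ℤ)).map
    ((HomologicalComplex.extendSingleIso ComplexShape.embeddingUpNat X 0 0 (by simp)).inv ≫
      extendMap I.ι ComplexShape.embeddingUpNat)) ↔ _
  rw [Functor.map_comp, quasiIso_iff_comp_left]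
  have hn := extendMapIso_naturality ComplexShape.embeddingUpNat F I.ι
  rw [← quasiIso_iff_comp_right _ (extendMapIso ComplexShape.embeddingUpNat F I.cocomplex).hom, hn,
    quasiIso_iff_comp_left]
  exact quasiIso_extendMap_iff _ _

/-- The quasi-isomorphism condition for `F` applied to the augmentation of an injective resolution. -/
lemma quasiIso_map_ι_iff [HasInjectiveResolutions C] {X : C} (I : InjectiveResolution X) :
    QuasiIso ((F.mapHomologicalComplex (ComplexShape.up ℕ)).map I.ι) ↔
      (IsIso (F.toRightDerivedZero.app X) ∧ ∀ i : ℕ, 0 < i → IsZero ((F.rightDerived i).obj X)) := by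
  rw [quasiIso_iff]
  have hsucc : ∀ k : ℕ, QuasiIsoAt ((F.mapHomologicalComplex (ComplexShape.up ℕ)).map I.ι) (k + 1) ↔
      IsZero ((F.rightDerived (k + 1)).obj X) := by
    intro k
    rw [quasiIsoAt_iff_exactAt]
    · rw [exactAt_iff_isZero_homology]
      exact (Iso.isZero_iff (I.isoRightDerivedObj F (k + 1))).symm
    · rw [HomologicalComplex.exactAt_iff]
      apply ShortComplex.exact_of_isZero_X₂
      exact F.map_isZero (isZero_single_obj_X (ComplexShape.up ℕ) 0 X (k + 1) (by simp))
  have hzero : QuasiIsoAt ((F.mapHomologicalComplex (ComplexShape.up ℕ)).map I.ι) 0 ↔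
      IsIso (F.toRightDerivedZero.app X) := by
    rw [I.toRightDerivedZero_eq F]
    have e1 : IsIso (I.toRightDerivedZero' F ≫ (CochainComplex.isoHomologyπ₀ _).hom ≫
        (I.isoRightDerivedObj F 0).inv) ↔ IsIso (I.toRightDerivedZero' F) := by
      constructor
      · intro h
        exact IsIso.of_isIso_comp_right _
          ((CochainComplex.isoHomologyπ₀ _).hom ≫ (I.isoRightDerivedObj F 0).inv)
      · intro h
        infer_instance
    rw [e1]
    unfold InjectiveResolution.toRightDerivedZero'
    rw [CochainComplex.isIso_liftCycles_iff, CochainComplex.quasiIsoAt₀_iff,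
      ShortComplex.quasiIso_iff_of_zeros]
    · rfl
    · change F.map (((CochainComplex.single₀ C).obj X).d 0 0) = 0
      rw [HomologicalComplex.single_obj_d, F.map_zero]
    · change F.map (((CochainComplex.single₀ C).obj X).d 0 1) = 0
      rw [HomologicalComplex.single_obj_d, F.map_zero]
    · change F.map (I.cocomplex.d 0 0) = 0
      rw [I.cocomplex.shape 0 0 (by simp), F.map_zero]
  constructor
  · intro h
    exact ⟨hzero.1 (h 0), fun i hi => by
      obtain ⟨k, rfl⟩ : ∃ k, i = k + 1 := ⟨i - 1, by omega⟩
      exact (hsucc k).1 (h (k + 1))⟩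
  · rintro ⟨h0, h1⟩ n
    cases n with
    | zero => exact hzero.2 h0
    | succ k => exact (hsucc k).2 (h1 (k + 1) (by omega))

end Single

section Main

variable {C : Type u} [Category.{v} C] [Abelian C] [HasDerivedCategory.{w} C] [EnoughInjectives C]
  {D : Type u'} [Category.{v'} D] [Abelian D] [HasDerivedCategory.{w'} D]
  (F : C ⥤ D) [F.Additive]

/-- `X[0]` as a bounded below complex. -/
noncomputable def singleObj (X : C) : CochainComplex.Plus C :=
  ⟨(CochainComplex.singleFunctor C 0).obj X, 0, inferInstance⟩

omit [HasDerivedCategory C] [EnoughInjectives C] in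
lemma quotient_singleObj (X : C) :
    (HomotopyCategory.Plus.quotient C).obj (singleObj X) =
      (HomotopyCategory.Plus.singleFunctor C 0).obj X := rfl

/-- The unit at `X[0]` is an isomorphism iff `F X ⟶ R⁰F X` is an isomorphism and `RⁱF X = 0` for
`i > 0`. -/
theorem isIso_unit_single_iff (X : C) :
    IsIso (F.rightDerivedFunctorPlusUnit.app ((HomotopyCategory.Plus.singleFunctor C 0).obj X)) ↔
      (IsIso (F.toRightDerivedZero.app X) ∧ ∀ i : ℕ, 0 < i → IsZero ((F.rightDerived i).obj X)) := by
  let I := injectiveResolution X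
  let L : CochainComplex.Plus C := ⟨I.cochainComplex, 0, inferInstance⟩
  let p : singleObj X ⟶ L := ObjectProperty.homMk I.ι'
  have hp : QuasiIso p.hom := (inferInstance : QuasiIso I.ι')
  have hL : ∀ q, Injective (L.obj.X q) := fun q => (inferInstance : Injective (I.cochainComplex.X q))
  rw [← quotient_singleObj, isIso_unit_iff_quasiIso F p hp hL]
  change QuasiIso ((F.mapHomologicalComplex (ComplexShape.up ℤ)).map I.ι') ↔ _
  rw [quasiIso_map_ι'_iff, quasiIso_map_ι_iff]

end Main

end RDPlusSingle
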