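import Mathlib
import Groth.Agent.Lib.RDPlusSingle_helper9

/-!
# Leray's acyclicity lemma for `F.rightDerivedFunctorPlus` (helper9)

`F : C ⥤ D` left exact additive, `C` with enough injectives.

* `LerayDer.Acyclic F X`: `RⁱF X = 0` for `i > 0`.
* `LerayDer.claimA`: for a short exact sequence `0 → X₁ → X₂ → X₃ → 0` with `X₁`, `X₂` acyclic,
  `F X₂ → F X₃` is an epimorphism and `X₃` is acyclic.
* `LerayDer.exactAt_map`: `F` of a bounded below exact complex of acyclic objects is exact.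
* `LerayDer.leray`: the unit `Q(F K) ⟶ RF(K)` is an isomorphism for a bounded below complex of
  acyclic objects.
-/

open CategoryTheory CategoryTheory.Limits HomologicalComplex

namespace LerayDer

universe w w' v v' u u'

section NoDer

variable {C : Type u} [Category.{v} C] [Abelian C] {D : Type u'} [Category.{v'} D] [Abelian D]
  (F : C ⥤ D) [F.Additive]

/-- right `F`-acyclic objects -/
def Acyclic [HasInjectiveResolutions C] (X : C) : Prop :=
  ∀ i : ℕ, 0 < i → IsZero ((F.rightDerived i).obj X)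

lemma acyclic_of_injective [HasInjectiveResolutions C] (X : C) [Injective X] : Acyclic F X := by
  intro i hi
  obtain ⟨k, rfl⟩ : ∃ k, i = k + 1 := ⟨i - 1, by omega⟩
  exact F.isZero_rightDerived_obj_injective_succ k X

lemma acyclic_of_isZero [HasInjectiveResolutions C] (X : C) (hX : IsZero X) : Acyclic F X := by
  haveI : Injective X := Injective.of_iso hX.isoZero.symm inferInstance
  exact acyclic_of_injective F X

/-- A short exact sequence of complexes with exact cokernel: the first map is a quasi-isomorphism. -/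
lemma quasiIso_f_of_exact {S : ShortComplex (CochainComplex C ℤ)} (hS : S.ShortExact)
    (h : ∀ j, S.X₃.ExactAt j) : QuasiIso S.f := by
  rw [quasiIso_iff]
  intro j
  rw [quasiIsoAt_iff_isIso_homologyMap]
  have hz : ∀ j, IsZero (S.X₃.homology j) := fun j => (exactAt_iff_isZero_homology _ _).1 (h j)
  have hm : Mono (homologyMap S.f j) :=
    (ShortComplex.exact_iff_mono _ ((hz (j - 1)).eq_of_src _ _)).1
      (hS.homology_exact₁ (j - 1) j (by simp))
  have he : Epi (homologyMap S.f j) :=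
    (ShortComplex.exact_iff_epi _ ((hz j).eq_of_tgt _ _)).1 (hS.homology_exact₂ j)
  exact isIso_of_mono_of_epi _

variable [PreservesFiniteLimits F]

/-- For a left exact functor `F` and a resolution `p : X[0] ⟶ L` with `L` in degrees `≥ 0`,
`F p` is a quasi-isomorphism in degree `0`. -/
lemma quasiIsoAt_map_zero (X : C) (L : CochainComplex C ℤ) [L.IsStrictlyGE 0]
    (p : (HomologicalComplex.single C (ComplexShape.up ℤ) 0).obj X ⟶ L) (hp : QuasiIsoAt p 0) :
    QuasiIsoAt ((F.mapHomologicalComplex (ComplexShape.up ℤ)).map p) 0 := by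
  have hL : L.d (-1) 0 = 0 := (L.isZero_of_isStrictlyGE 0 (-1) (by omega)).eq_of_src _ _
  rw [quasiIsoAt_iff' _ (-1) 0 1 (by simp) (by simp)] at hp ⊢
  rw [ShortComplex.quasiIso_iff_of_zeros _ (by simp; rfl) (by simp; rfl) hL] at hp
  rw [ShortComplex.quasiIso_iff_of_zeros _ (by simp; rfl) (by simp; rfl)
    (by change F.map (L.d (-1) 0) = 0; rw [hL, F.map_zero])]
  obtain ⟨hex, hmono⟩ := hp
  refine ⟨?_, ?_⟩
  · exact hex.map_of_mono_of_preservesKernel F hmono inferInstance
  · haveI : Mono (p.f 0) := hmono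
    exact (inferInstance : Mono (F.map (p.f 0)))

/-! ### The cycle short exact sequences of an exact complex -/

variable (Q : CochainComplex C ℤ)

/-- the cycles in degree `i` -/
noncomputable abbrev Zc (i : ℤ) : C := kernel (Q.d i (i + 1))

/-- `Q^i ⟶ Z^{i+1}` -/
noncomputable def piZ (i : ℤ) : Q.X i ⟶ Zc Q (i + 1) :=
  kernel.lift (Q.d (i + 1) (i + 1 + 1)) (Q.d i (i + 1)) (Q.d_comp_d _ _ _)

@[reassoc (attr := simp)]
lemma piZ_ι (i : ℤ) : piZ Q i ≫ kernel.ι (Q.d (i + 1) (i + 1 + 1)) = Q.d i (i + 1) :=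
  kernel.lift_ι _ _ _

/-- `0 → Z^i → Q^i → Z^{i+1} → 0` -/
noncomputable def sesZ (i : ℤ) : ShortComplex C :=
  ShortComplex.mk (kernel.ι (Q.d i (i + 1))) (piZ Q i) (by
    rw [← cancel_mono (kernel.ι (Q.d (i + 1) (i + 1 + 1))), Category.assoc, piZ_ι,
      kernel.condition, zero_comp])

lemma sesZ_shortExact (i : ℤ) (h : Q.ExactAt (i + 1)) : (sesZ Q i).ShortExact := by
  rw [Q.exactAt_iff' i (i + 1) (i + 1 + 1) (by simp) (by simp)] at h
  have hepi : Epi (piZ Q i) := (ShortComplex.exact_iff_epi_kernel_lift _).1 h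
  have hex : (sesZ Q i).Exact := by
    apply ShortComplex.exact_of_f_is_kernel
    exact isKernelOfComp (kernel.ι (Q.d (i + 1) (i + 1 + 1))) (Q.d i (i + 1))
      (kernelIsKernel (Q.d i (i + 1))) (sesZ Q i).zero (piZ_ι Q i)
  exact ShortComplex.ShortExact.mk' hex (by dsimp [sesZ]; infer_instance) hepi

end NoDer

section Main

variable {C : Type u} [Category.{v} C] [Abelian C] [EnoughInjectives C]
  {D : Type u'} [Category.{v'} D] [Abelian D]
  (F : C ⥤ D) [F.Additive] [PreservesFiniteLimits F]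

lemma acyclic_iff_quasiIso [HasDerivedCategory.{w} C] [HasDerivedCategory.{w'} D]
    (X : C) (L : CochainComplex C ℤ) (n : ℤ) [L.IsStrictlyGE n]
    (hL : ∀ q, Injective (L.X q)) (p : (CochainComplex.singleFunctor C 0).obj X ⟶ L)
    (hp : QuasiIso p) :
    Acyclic F X ↔ QuasiIso ((F.mapHomologicalComplex (ComplexShape.up ℤ)).map p) := by
  let L' : CochainComplex.Plus C := ⟨L, n, inferInstance⟩
  let p' : RDPlusSingle.singleObj X ⟶ L' := ObjectProperty.homMk p
  have h1 : IsIso (F.rightDerivedFunctorPlusUnit.app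
      ((HomotopyCategory.Plus.singleFunctor C 0).obj X)) ↔
      QuasiIso ((F.mapHomologicalComplex (ComplexShape.up ℤ)).map p) :=
    RDPlusSingle.isIso_unit_iff_quasiIso F p' hp hL
  have h2 := RDPlusSingle.isIso_unit_single_iff F X
  exact ⟨fun h => h1.1 (h2.2 ⟨inferInstance, h⟩), fun h => (h2.1 (h1.2 h)).2⟩

/-- Claim A. -/
theorem claimA (S : ShortComplex C) (hS : S.ShortExact) (h₁ : Acyclic F S.X₁)
    (h₂ : Acyclic F S.X₂) : Epi (F.map S.g) ∧ Acyclic F S.X₃ := by
  letI : HasDerivedCategory C := HasDerivedCategory.standard C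
  letI : HasDerivedCategory D := HasDerivedCategory.standard D
  -- the short exact sequence of single complexes
  let S0 : ShortComplex (CochainComplex C ℤ) :=
    S.map (HomologicalComplex.single C (ComplexShape.up ℤ) 0)
  have hS0 : S0.ShortExact := hS.map_of_exact _
  haveI : S0.X₁.IsStrictlyGE 0 :=
    (inferInstance : ((CochainComplex.singleFunctor C 0).obj S.X₁).IsStrictlyGE 0)
  haveI : S0.X₂.IsStrictlyGE 0 :=
    (inferInstance : ((CochainComplex.singleFunctor C 0).obj S.X₂).IsStrictlyGE 0)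
  haveI : S0.X₃.IsStrictlyGE 0 :=
    (inferInstance : ((CochainComplex.singleFunctor C 0).obj S.X₃).IsStrictlyGE 0)
  obtain ⟨T, φ, hT, hT₁, hT₂, hT₃, hinj, hq₁, hq₂, hq₃⟩ := HorseshoeCx.horseshoe S0 hS0 0
  haveI := hq₁
  haveI := hq₂
  haveI := hq₃
  have hFT := RDPlusLES.map_shortExact F hT (fun q => (hinj q).1)
  let Fc := F.mapHomologicalComplex (ComplexShape.up ℤ)
  let ψ : S0.map Fc ⟶ T.map Fc := Fc.mapShortComplex.map φ
  haveI q₁ : QuasiIso ψ.τ₁ :=
    (acyclic_iff_quasiIso F S.X₁ T.X₁ 0 (fun q => (hinj q).1) φ.τ₁ hq₁).1 h₁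
  haveI q₂ : QuasiIso ψ.τ₂ :=
    (acyclic_iff_quasiIso F S.X₂ T.X₂ 0 (fun q => (hinj q).2.1) φ.τ₂ hq₂).1 h₂
  have q₃0 : QuasiIsoAt ψ.τ₃ 0 := quasiIsoAt_map_zero F S.X₃ T.X₃ φ.τ₃ ((quasiIso_iff φ.τ₃).1 hq₃ 0)
  -- `H^1(F T.X₁) = 0`
  have hz : IsZero ((T.map Fc).X₁.homology 1) := by
    rw [← exactAt_iff_isZero_homology]
    have hK : ((S0.map Fc).X₁).ExactAt 1 :=
      ExactAt.of_isZero (F.map_isZero (isZero_single_obj_X (ComplexShape.up ℤ) 0 S.X₁ 1 (by simp)))
    exact (quasiIsoAt_iff_exactAt ψ.τ₁ 1 hK).1 inferInstance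
  have hex := hFT.homology_exact₃ 0 1 (by simp)
  have hepi : Epi (homologyMap (T.map Fc).g 0) :=
    (ShortComplex.exact_iff_epi _ (hz.eq_of_tgt _ _)).1 hex
  have hnat : homologyMap (S0.map Fc).g 0 ≫ homologyMap ψ.τ₃ 0 =
      homologyMap ψ.τ₂ 0 ≫ homologyMap (T.map Fc).g 0 := by
    rw [← homologyMap_comp, ← homologyMap_comp, ψ.comm₂₃]
  haveI : IsIso (homologyMap ψ.τ₂ 0) := (quasiIsoAt_iff_isIso_homologyMap _ _).1 inferInstance
  haveI : IsIso (homologyMap ψ.τ₃ 0) := (quasiIsoAt_iff_isIso_homologyMap _ _).1 q₃0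
  have hepi0 : Epi (homologyMap (S0.map Fc).g 0) := by
    have h1 : Epi (homologyMap (S0.map Fc).g 0 ≫ homologyMap ψ.τ₃ 0) := by
      rw [hnat]; exact epi_comp _ _
    have h2 := epi_comp (homologyMap (S0.map Fc).g 0 ≫ homologyMap ψ.τ₃ 0)
      (inv (homologyMap ψ.τ₃ 0))
    simpa using h2
  -- transfer to `F.map S.g`
  have hFg : Epi (F.map S.g) := by
    let e := HomologicalComplex.singleMapHomologicalComplex F (ComplexShape.up ℤ) 0
    have n1 := e.hom.naturality S.g
    have n2 := congrArg (fun t => homologyMap t 0) n1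
    simp only [homologyMap_comp] at n2
    have n3 := singleObjHomologySelfIso_hom_naturality (ComplexShape.up ℤ) 0 (F.map S.g)
    haveI : IsIso (homologyMap (e.hom.app S.X₃) 0) :=
      (inferInstance : IsIso ((homologyFunctor D (ComplexShape.up ℤ) 0).map (e.hom.app S.X₃)))
    have h1 : Epi (homologyMap ((single C (ComplexShape.up ℤ) 0 ⋙ Fc).map S.g) 0 ≫
        homologyMap (e.hom.app S.X₃) 0) := by
      haveI : Epi (homologyMap ((single C (ComplexShape.up ℤ) 0 ⋙ Fc).map S.g) 0) := hepi0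
      exact epi_comp _ _
    rw [n2] at h1
    have h2 : Epi (homologyMap ((F ⋙ single D (ComplexShape.up ℤ) 0).map S.g) 0) := by
      haveI := h1
      exact epi_of_epi_fac (f := homologyMap (e.hom.app S.X₂) 0) rfl
    have h3 : Epi (homologyMap ((single D (ComplexShape.up ℤ) 0).map (F.map S.g)) 0 ≫
        (singleObjHomologySelfIso (ComplexShape.up ℤ) 0 (F.obj S.X₃)).hom) := by
      haveI : Epi (homologyMap ((single D (ComplexShape.up ℤ) 0).map (F.map S.g)) 0) := h2
      exact epi_comp _ _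
    rw [n3] at h3
    haveI := h3
    exact epi_of_epi_fac (f := (singleObjHomologySelfIso (ComplexShape.up ℤ) 0 (F.obj S.X₂)).hom) rfl
  -- `F S` is short exact
  have hFS : (S.map F).ShortExact := by
    haveI := hS.mono_f
    exact ShortComplex.ShortExact.mk'
      (hS.exact.map_of_mono_of_preservesKernel F hS.mono_f inferInstance)
      (inferInstance : Mono (F.map S.f)) hFg
  have hFS0 : (S0.map Fc).ShortExact := by
    have h' : ((S.map F).map (HomologicalComplex.single D (ComplexShape.up ℤ) 0)).ShortExact :=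
      hFS.map_of_exact _
    exact ShortComplex.shortExact_of_iso
      (S.mapNatIso (HomologicalComplex.singleMapHomologicalComplex F (ComplexShape.up ℤ) 0)).symm h'
  have q₃ : QuasiIso ψ.τ₃ := HomologySequence.quasiIso_τ₃ ψ hFS0 hFT q₁ q₂
  exact ⟨hFg, (acyclic_iff_quasiIso F S.X₃ T.X₃ 0 (fun q => (hinj q).2.2) φ.τ₃ hq₃).2 q₃⟩

variable (Q : CochainComplex C ℤ)

lemma acyclic_Zc (n₀ : ℤ) [Q.IsStrictlyGE n₀] (hQ : ∀ m, Q.ExactAt m)
    (hac : ∀ m, Acyclic F (Q.X m)) : ∀ i : ℤ, Acyclic F (Zc Q i) := by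
  have hz : ∀ i, i < n₀ → IsZero (Zc Q i) := fun i hi =>
    IsZero.of_mono (kernel.ι (Q.d i (i + 1))) (Q.isZero_of_isStrictlyGE n₀ i hi)
  have hstep : ∀ i, Acyclic F (Zc Q i) → Acyclic F (Zc Q (i + 1)) := fun i hi =>
    (claimA F (sesZ Q i) (sesZ_shortExact Q i (hQ _)) hi (hac i)).2
  intro i
  by_cases hi : i < n₀
  · exact acyclic_of_isZero F _ (hz i hi)
  · have hle : n₀ - 1 ≤ i := by omega
    exact Int.leInduction (m := n₀ - 1) (motive := fun n _ => Acyclic F (Zc Q n))
      (acyclic_of_isZero F _ (hz _ (by omega))) (fun n _ hn => hstep n hn) i hle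

/-- Claim B: `F` of a bounded below exact complex of acyclic objects is exact. -/
theorem exactAt_map (n₀ : ℤ) [Q.IsStrictlyGE n₀] (hQ : ∀ m, Q.ExactAt m)
    (hac : ∀ m, Acyclic F (Q.X m)) (j : ℤ) :
    ((F.mapHomologicalComplex (ComplexShape.up ℤ)).obj Q).ExactAt j := by
  obtain ⟨i, rfl⟩ : ∃ i, j = i + 1 := ⟨j - 1, by omega⟩
  rw [exactAt_iff' _ i (i + 1) (i + 1 + 1) (by simp) (by simp)]
  have hZ := acyclic_Zc F Q n₀ hQ hac
  have hepi : Epi (F.map (piZ Q i)) :=
    (claimA F (sesZ Q i) (sesZ_shortExact Q i (hQ _)) (hZ i) (hac i)).1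
  let S' : ShortComplex D := ShortComplex.mk (F.map (kernel.ι (Q.d (i + 1) (i + 1 + 1))))
    (F.map (Q.d (i + 1) (i + 1 + 1))) (by rw [← F.map_comp, kernel.condition, F.map_zero])
  have hS' : S'.Exact := by
    apply ShortComplex.exact_of_f_is_kernel
    exact KernelFork.mapIsLimit _ (kernelIsKernel (Q.d (i + 1) (i + 1 + 1))) F
  let φ : ((F.mapHomologicalComplex (ComplexShape.up ℤ)).obj Q).sc' i (i + 1) (i + 1 + 1) ⟶ S' :=
    { τ₁ := F.map (piZ Q i)
      τ₂ := 𝟙 _
      τ₃ := 𝟙 _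
      comm₁₂ := by
        change F.map (piZ Q i) ≫ F.map (kernel.ι (Q.d (i + 1) (i + 1 + 1))) =
          F.map (Q.d i (i + 1)) ≫ 𝟙 _
        rw [Category.comp_id, ← F.map_comp, piZ_ι]
      comm₂₃ := by
        change 𝟙 _ ≫ F.map (Q.d (i + 1) (i + 1 + 1)) = F.map (Q.d (i + 1) (i + 1 + 1)) ≫ 𝟙 _
        rw [Category.comp_id, Category.id_comp] }
  haveI : Epi φ.τ₁ := hepi
  haveI : IsIso φ.τ₂ := (inferInstance : IsIso (𝟙 _))
  haveI : Mono φ.τ₃ := (inferInstance : Mono (𝟙 _))
  exact (ShortComplex.exact_iff_of_epi_of_isIso_of_mono φ).2 hS'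

/-- Leray's acyclicity lemma. -/
theorem leray [HasDerivedCategory.{w} C] [HasDerivedCategory.{w'} D]
    (K : CochainComplex.Plus C) (hK : ∀ m, Acyclic F (K.obj.X m)) :
    IsIso (F.rightDerivedFunctorPlusUnit.app ((HomotopyCategory.Plus.quotient C).obj K)) := by
  obtain ⟨K, n, hn⟩ := K
  haveI := hn
  obtain ⟨L, p, hmono, hqis, hinj, hL⟩ := HorseshoeCx.exists_mono_quasiIso_injective_ge K n
  haveI := hL
  let K' : CochainComplex.Plus C := ⟨K, n, hn⟩
  let L' : CochainComplex.Plus C := ⟨L, n, hL⟩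
  let p' : K' ⟶ L' := ObjectProperty.homMk p
  rw [RDPlusSingle.isIso_unit_iff_quasiIso F p' hqis hinj]
  change QuasiIso ((F.mapHomologicalComplex (ComplexShape.up ℤ)).map p)
  -- the cokernel sequence
  let S : ShortComplex (CochainComplex C ℤ) :=
    ShortComplex.mk p (cokernel.π p) (cokernel.condition p)
  have hS : S.ShortExact :=
    ShortComplex.ShortExact.mk' (S.exact_of_g_is_cokernel (cokernelIsCokernel p)) hmono
      (inferInstance : Epi (cokernel.π p))
  haveI : S.X₂.IsStrictlyGE n := hL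
  haveI hQ3 : S.X₃.IsStrictlyGE n := HorseshoeCx.isStrictlyGE_X₃ hS n
  have hQex : ∀ j, S.X₃.ExactAt j := hS.acyclic_X₃ hqis
  have hdeg : ∀ q, (S.map (eval C (ComplexShape.up ℤ) q)).ShortExact := fun q => hS.map_of_exact _
  have hA : ∀ q, Epi (F.map (S.g.f q)) ∧ Acyclic F (S.X₃.X q) := fun q =>
    claimA F _ (hdeg q) (hK q) (haveI := hinj q; acyclic_of_injective F (L.X q))
  have hFS : (S.map (F.mapHomologicalComplex (ComplexShape.up ℤ))).ShortExact := by
    apply HomologicalComplex.shortExact_of_degreewise_shortExact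
    intro q
    have hq := hdeg q
    haveI := hq.mono_f
    exact ShortComplex.ShortExact.mk'
      (hq.exact.map_of_mono_of_preservesKernel F hq.mono_f inferInstance)
      (inferInstance : Mono (F.map (S.f.f q))) (hA q).1
  have hFQ : ∀ j, ((F.mapHomologicalComplex (ComplexShape.up ℤ)).obj S.X₃).ExactAt j :=
    exactAt_map F S.X₃ n hQex (fun q => (hA q).2)
  exact quasiIso_f_of_exact hFS hFQ

end Main

end LerayDer
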