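import Mathlib
import Groth.Prelude.Def_SpSeq

/-!
# Abutment of the `E₂` spectral sequence of a first quadrant spectral object (helper2)

Let `Y` be a spectral object indexed by `EInt` in an abelian category which satisfies
`Y.IsFirstQuadrant`.  We show that the spectral sequence `Y.E₂SpectralSequence` abuts (in the
sense of `SpSeq.Abutment`) to the objects `H^n(⊥ ≤ ⊤)` (or to any family of objects isomorphic to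
them), with finite filtrations, and that it is bounded.

* `SpObjAbut.EIso`: for a spectral object indexed by a preorder, `E^n(i₀ ≤ i₁ ≤ i₂ ≤ i₃)` is the
  quotient `F_{i₂} / F_{i₁}` where `F_j` is the image of `H^n(i₀ ≤ j) ⟶ H^n(i₀ ≤ i₃)`.
* `SpObjAbut.exists_abutment`: the abutment.
* `SpObjAbut.page2Iso`: `E₂^{p,q} ≅ H^{p+q}(q ≤ q+1)`.
-/

set_option autoImplicit false

open CategoryTheory Limits ComposableArrows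

namespace Groth.Agent.Lib.SpObjAbut

universe v u

variable {C : Type u} [Category.{v} C] [Abelian C]

instance subsingleton_hom {ι : Type*} [Preorder ι] {n : ℕ} (D D' : ComposableArrows ι n) :
    Subsingleton (D ⟶ D') :=
  ⟨fun a b => by ext; apply Subsingleton.elim⟩

lemma imageSubobject_eq_top_of_epi {X Y : C} (f : X ⟶ Y) [Epi f] : imageSubobject f = ⊤ := by
  haveI : Epi (imageSubobject f).arrow := epi_of_epi_fac (imageSubobject_arrow_comp f)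
  haveI : IsIso (imageSubobject f).arrow := isIso_of_mono_of_epi _
  exact Subobject.eq_top_of_isIso_arrow _

lemma imageSubobject_eq_bot_of_eq_zero {X Y : C} {f : X ⟶ Y} (h : f = 0) :
    imageSubobject f = ⊥ := by
  subst h
  exact imageSubobject_zero

section General

variable {ι : Type*} [Preorder ι] (X : Abelian.SpectralObject C ι)
  (n₀ n₁ n₂ : ℤ) (hn₁ : n₀ + 1 = n₁) (hn₂ : n₁ + 1 = n₂)
  {i₀ i₃ : ι} (h₀₃ : i₀ ≤ i₃) {B : C} (m : (X.H n₁).obj (mk₁ (homOfLE h₀₃)) ⟶ B)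

/-- the map `H^n(i₀ ≤ j) ⟶ H^n(i₀ ≤ i₃) ⟶ B` -/
noncomputable def toB (j : ι) (h₀ : i₀ ≤ j) (h₃ : j ≤ i₃) : (X.H n₁).obj (mk₁ (homOfLE h₀)) ⟶ B :=
  (X.H n₁).map (twoδ₂Toδ₁ (homOfLE h₀) (homOfLE h₃) (homOfLE h₀₃) rfl) ≫ m

lemma toB_fac (j j' : ι) (h₀ : i₀ ≤ j) (hjj' : j ≤ j') (h₃ : j' ≤ i₃) :
    (X.H n₁).map (twoδ₂Toδ₁ (homOfLE h₀) (homOfLE hjj') (homOfLE (h₀.trans hjj')) rfl) ≫
      toB X n₁ h₀₃ m j' (h₀.trans hjj') h₃ = toB X n₁ h₀₃ m j h₀ (hjj'.trans h₃) := by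
  dsimp only [toB]
  rw [← Category.assoc, ← Functor.map_comp]
  congr 2

/-- the image of `H^n(i₀ ≤ j)` in `B` -/
noncomputable def Fil (j : ι) (h₀ : i₀ ≤ j) (h₃ : j ≤ i₃) : Subobject B :=
  imageSubobject (toB X n₁ h₀₃ m j h₀ h₃)

/-- the epimorphism `H^n(i₀ ≤ j) ⟶ F_j` -/
noncomputable def toFil (j : ι) (h₀ : i₀ ≤ j) (h₃ : j ≤ i₃) :
    (X.H n₁).obj (mk₁ (homOfLE h₀)) ⟶ (Fil X n₁ h₀₃ m j h₀ h₃ : C) :=
  factorThruImageSubobject (toB X n₁ h₀₃ m j h₀ h₃)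

instance (j : ι) (h₀ : i₀ ≤ j) (h₃ : j ≤ i₃) : Epi (toFil X n₁ h₀₃ m j h₀ h₃) :=
  (inferInstance : Epi (factorThruImageSubobject (toB X n₁ h₀₃ m j h₀ h₃)))

@[reassoc]
lemma toFil_arrow (j : ι) (h₀ : i₀ ≤ j) (h₃ : j ≤ i₃) :
    toFil X n₁ h₀₃ m j h₀ h₃ ≫ (Fil X n₁ h₀₃ m j h₀ h₃).arrow = toB X n₁ h₀₃ m j h₀ h₃ :=
  imageSubobject_arrow_comp _

lemma Fil_mono (j j' : ι) (h₀ : i₀ ≤ j) (hjj' : j ≤ j') (h₃ : j' ≤ i₃) :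
    Fil X n₁ h₀₃ m j h₀ (hjj'.trans h₃) ≤ Fil X n₁ h₀₃ m j' (h₀.trans hjj') h₃ :=
  SpSeq.FilCx.imageSubobject_le_of_fac _ (toB_fac X n₁ h₀₃ m j j' h₀ hjj' h₃)

variable {i₁ i₂ : ι} (h₀₁ : i₀ ≤ i₁) (h₁₂ : i₁ ≤ i₂) (h₂₃ : i₂ ≤ i₃)

/-- the inclusion `F_{i₁} ⟶ F_{i₂}` -/
noncomputable def incl : (Fil X n₁ h₀₃ m i₁ h₀₁ (h₁₂.trans h₂₃) : C) ⟶
    (Fil X n₁ h₀₃ m i₂ (h₀₁.trans h₁₂) h₂₃ : C) :=
  (Fil X n₁ h₀₃ m i₁ h₀₁ (h₁₂.trans h₂₃)).ofLE (Fil X n₁ h₀₃ m i₂ (h₀₁.trans h₁₂) h₂₃)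
    (Fil_mono X n₁ h₀₃ m i₁ i₂ h₀₁ h₁₂ h₂₃)

instance : Mono (incl X n₁ h₀₃ m h₀₁ h₁₂ h₂₃) :=
  (inferInstance : Mono (Subobject.ofLE _ _ _))

@[reassoc]
lemma incl_arrow : incl X n₁ h₀₃ m h₀₁ h₁₂ h₂₃ ≫ (Fil X n₁ h₀₃ m i₂ (h₀₁.trans h₁₂) h₂₃).arrow =
    (Fil X n₁ h₀₃ m i₁ h₀₁ (h₁₂.trans h₂₃)).arrow :=
  Subobject.ofLE_arrow _

/-- the map `H^n(i₀ ≤ i₂) ⟶ F_{i₂} / F_{i₁}` -/
noncomputable def φ : (X.H n₁).obj (mk₁ (homOfLE (h₀₁.trans h₁₂))) ⟶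
    cokernel (incl X n₁ h₀₃ m h₀₁ h₁₂ h₂₃) :=
  toFil X n₁ h₀₃ m i₂ (h₀₁.trans h₁₂) h₂₃ ≫ cokernel.π _

instance : Epi (φ X n₁ h₀₃ m h₀₁ h₁₂ h₂₃) := by
  dsimp only [φ]
  exact epi_comp _ _

lemma fac₁ :
    (X.H n₁).map (twoδ₂Toδ₁ (homOfLE h₀₁) (homOfLE h₁₂) (homOfLE (h₀₁.trans h₁₂)) rfl) ≫
      toFil X n₁ h₀₃ m i₂ (h₀₁.trans h₁₂) h₂₃ =
    toFil X n₁ h₀₃ m i₁ h₀₁ (h₁₂.trans h₂₃) ≫ incl X n₁ h₀₃ m h₀₁ h₁₂ h₂₃ := by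
  rw [← cancel_mono (Fil X n₁ h₀₃ m i₂ (h₀₁.trans h₁₂) h₂₃).arrow, Category.assoc, Category.assoc,
    toFil_arrow, incl_arrow, toFil_arrow]
  exact toB_fac X n₁ h₀₃ m i₁ i₂ h₀₁ h₁₂ h₂₃

lemma δ_toFil : X.δ (homOfLE (h₀₁.trans h₁₂)) (homOfLE h₂₃) n₀ n₁ hn₁ ≫
    toFil X n₁ h₀₃ m i₂ (h₀₁.trans h₁₂) h₂₃ = 0 := by
  rw [← cancel_mono (Fil X n₁ h₀₃ m i₂ (h₀₁.trans h₁₂) h₂₃).arrow, Category.assoc, toFil_arrow,
    zero_comp]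
  dsimp only [toB]
  rw [← Category.assoc, X.zero₁ (homOfLE (h₀₁.trans h₁₂)) (homOfLE h₂₃) (homOfLE h₀₃) rfl n₀ n₁
    hn₁, zero_comp]

lemma ι_φ :
    biprod.desc
      ((X.H n₁).map (twoδ₂Toδ₁ (homOfLE h₀₁) (homOfLE h₁₂) (homOfLE (h₀₁.trans h₁₂)) rfl))
      (X.δ (homOfLE (h₀₁.trans h₁₂)) (homOfLE h₂₃) n₀ n₁ hn₁) ≫ φ X n₁ h₀₃ m h₀₁ h₁₂ h₂₃ = 0 := by
  dsimp only [φ]
  apply biprod.hom_ext'
  · rw [biprod.inl_desc_assoc, comp_zero, ← Category.assoc, fac₁ X n₁ h₀₃ m h₀₁ h₁₂ h₂₃,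
      Category.assoc, cokernel.condition, comp_zero]
  · rw [biprod.inr_desc_assoc, comp_zero, ← Category.assoc,
      δ_toFil X n₀ n₁ hn₁ h₀₃ m h₀₁ h₁₂ h₂₃, zero_comp]

/-- the short complex `H^n(i₀ ≤ i₁) ⊞ H^{n-1}(i₂ ≤ i₃) ⟶ H^n(i₀ ≤ i₂) ⟶ F_{i₂} / F_{i₁}` -/
noncomputable def sc : ShortComplex C :=
  ShortComplex.mk _ _ (ι_φ X n₀ n₁ hn₁ h₀₃ m h₀₁ h₁₂ h₂₃)

instance : Epi (sc X n₀ n₁ hn₁ h₀₃ m h₀₁ h₁₂ h₂₃).g := by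
  dsimp only [sc]
  infer_instance

variable [Mono m]

lemma sc_exact : (sc X n₀ n₁ hn₁ h₀₃ m h₀₁ h₁₂ h₂₃).Exact := by
  rw [ShortComplex.exact_iff_exact_up_to_refinements]
  intro T x hx
  dsimp only [sc] at x hx
  obtain ⟨T₁, π₁, _, y, hy⟩ := (ShortComplex.exact_cokernel
    (incl X n₁ h₀₃ m h₀₁ h₁₂ h₂₃)).exact_up_to_refinements
    (x ≫ toFil X n₁ h₀₃ m i₂ (h₀₁.trans h₁₂) h₂₃)
    (by rw [Category.assoc]; exact hx)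
  dsimp only at y hy
  obtain ⟨T₂, π₂, _, z, hz⟩ := surjective_up_to_refinements_of_epi
    (toFil X n₁ h₀₃ m i₁ h₀₁ (h₁₂.trans h₂₃)) y
  have hw : (π₂ ≫ π₁ ≫ x - z ≫ (X.H n₁).map (twoδ₂Toδ₁ (homOfLE h₀₁) (homOfLE h₁₂)
      (homOfLE (h₀₁.trans h₁₂)) rfl)) ≫
      (X.H n₁).map (twoδ₂Toδ₁ (homOfLE (h₀₁.trans h₁₂)) (homOfLE h₂₃) (homOfLE h₀₃) rfl) = 0 := by
    rw [← cancel_mono m, zero_comp, Category.assoc]
    change _ ≫ toB X n₁ h₀₃ m i₂ (h₀₁.trans h₁₂) h₂₃ = 0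
    rw [Preadditive.sub_comp, Category.assoc, Category.assoc, Category.assoc, toB_fac, sub_eq_zero,
      ← toFil_arrow X n₁ h₀₃ m i₂, ← toFil_arrow X n₁ h₀₃ m i₁, ← Category.assoc z, ← hz,
      Category.assoc π₂ y, ← incl_arrow X n₁ h₀₃ m h₀₁ h₁₂ h₂₃, ← Category.assoc y,
      ← hy]
    simp only [Category.assoc]
  obtain ⟨T₃, π₃, _, v, hv⟩ := (X.exact₁ (homOfLE (h₀₁.trans h₁₂)) (homOfLE h₂₃) (homOfLE h₀₃) rfl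
    n₀ n₁ hn₁).exact_up_to_refinements _ hw
  dsimp only [Abelian.SpectralObject.sc₁] at v hv
  refine ⟨T₃, π₃ ≫ π₂ ≫ π₁, inferInstance, biprod.lift (π₃ ≫ z) v, ?_⟩
  dsimp only [sc]
  rw [biprod.lift_desc, ← hv, Preadditive.comp_sub, Category.assoc, Category.assoc,
    Category.assoc]
  abel

/-- `E^n(i₀ ≤ i₁ ≤ i₂ ≤ i₃) ≅ F_{i₂} / F_{i₁}` -/
noncomputable def EIso :
    X.E (homOfLE h₀₁) (homOfLE h₁₂) (homOfLE h₂₃) n₀ n₁ n₂ hn₁ hn₂ ≅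
      SpSeq.subquot (Fil X n₁ h₀₃ m i₂ (h₀₁.trans h₁₂) h₂₃) (Fil X n₁ h₀₃ m i₁ h₀₁ (h₁₂.trans h₂₃))
        (Fil_mono X n₁ h₀₃ m i₁ i₂ h₀₁ h₁₂ h₂₃) :=
  IsColimit.coconePointUniqueUpToIso
    (X.cokernelSequenceE_exact (homOfLE h₀₁) (homOfLE h₁₂) (homOfLE h₂₃) (homOfLE (h₀₁.trans h₁₂))
      rfl n₀ n₁ n₂ hn₁ hn₂).gIsCokernel
    (sc_exact X n₀ n₁ hn₁ h₀₃ m h₀₁ h₁₂ h₂₃).gIsCokernel

end General

section FirstQuadrant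

open Abelian.SpectralObject

variable (Y : Abelian.SpectralObject C EInt) {H' : ℤ → C}
  (e : ∀ n : ℤ, (Y.H n).obj (mk₁ (homOfLE (bot_le : (⊥ : EInt) ≤ ⊤))) ≅ H' n)

/-- the image of `H^n(⊥ ≤ i)` in `H' n` -/
noncomputable def Fi (n : ℤ) (i : EInt) : Subobject (H' n) :=
  Fil Y n (bot_le : (⊥ : EInt) ≤ ⊤) (e n).hom i bot_le le_top

lemma Fi_mono (n : ℤ) {i j : EInt} (h : i ≤ j) : Fi Y e n i ≤ Fi Y e n j :=
  Fil_mono Y n (bot_le : (⊥ : EInt) ≤ ⊤) (e n).hom i j bot_le h le_top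

/-- the filtration on `H' n` -/
noncomputable def fil (n : ℤ) (p : ℤ) : Subobject (H' n) := Fi Y e n ((n - p + 1 : ℤ) : EInt)

lemma fil_anti (n : ℤ) : Antitone (fil Y e n) := fun p p' h =>
  Fi_mono Y e n (WithBotTop.coe_le_coe.2 (by omega))

/-- `E^n(⊥ ≤ i₁ ≤ i₂ ≤ ⊤) ≅ F_{i₂} / F_{i₁}` -/
noncomputable def EIsoSubquot (n₀ n n₂ : ℤ) (hn₁ : n₀ + 1 = n) (hn₂ : n + 1 = n₂) (i₁ i₂ : EInt)
    (h : i₁ ≤ i₂) :
    Y.E (homOfLE (bot_le : (⊥ : EInt) ≤ i₁)) (homOfLE h) (homOfLE (le_top : i₂ ≤ ⊤)) n₀ n n₂ hn₁ hn₂ ≅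
      SpSeq.subquot (Fi Y e n i₂) (Fi Y e n i₁) (Fi_mono Y e n h) :=
  EIso Y n₀ n n₂ hn₁ hn₂ (bot_le : (⊥ : EInt) ≤ ⊤) (e n).hom bot_le h le_top

/-- the page from which position `pq` is stationary -/
def rk (pq : ℤ × ℤ) : ℤ := max 2 (max (pq.1 + 1) (pq.2 + 2))

lemma two_le_rk (pq : ℤ × ℤ) : 2 ≤ rk pq := le_max_left _ _

lemma fst_lt_rk (pq : ℤ × ℤ) : pq.1 < rk pq := by
  have : pq.1 + 1 ≤ rk pq := (le_max_left _ _).trans (le_max_right _ _)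
  omega

lemma snd_le_rk (pq : ℤ × ℤ) : pq.2 + 2 ≤ rk pq := (le_max_right _ _).trans (le_max_right _ _)

variable [Y.IsFirstQuadrant]

lemma isZero_page_of_fst_neg (r : ℤ) (hr : 2 ≤ r) (pq : ℤ × ℤ) (h : pq.1 < 0) :
    IsZero ((Y.E₂SpectralSequence.page r hr).X pq) :=
  isZero_spectralSequence_page_X_of_isZero_H' _ _ _ hr _
    (Y.isZero₂_of_isFirstQuadrant _ _ _ _ (by simp; omega))

lemma isZero_page_of_snd_neg (r : ℤ) (hr : 2 ≤ r) (pq : ℤ × ℤ) (h : pq.2 < 0) :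
    IsZero ((Y.E₂SpectralSequence.page r hr).X pq) :=
  isZero_spectralSequence_page_X_of_isZero_H' _ _ _ hr _
    (Y.isZero₁_of_isFirstQuadrant _ _ _ (by simp; omega) _)

lemma stationary (pq : ℤ × ℤ) : SpSeq.StationaryAt Y.E₂SpectralSequence pq (rk pq) := by
  refine ⟨two_le_rk pq, fun r' h₀ hr' => ⟨?_, ?_⟩⟩
  · apply IsZero.eq_of_src
    apply isZero_page_of_fst_neg
    have := fst_lt_rk pq
    simp only [Prod.fst_sub]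
    omega
  · apply IsZero.eq_of_tgt
    apply isZero_page_of_snd_neg
    have := snd_le_rk pq
    simp only [Prod.snd_add]
    omega

/-- the identification of the limit term with the graded piece -/
noncomputable def β (pq : ℤ × ℤ) :
    (Y.E₂SpectralSequence.page (rk pq) (two_le_rk pq)).X pq ≅
      SpSeq.grPiece (fil Y e (pq.1 + pq.2)) (fil_anti Y e (pq.1 + pq.2)) pq.1 := by
  have hz1 : IsZero ((Y.H (pq.1 + pq.2 + 1)).obj (mk₁ (homOfLE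
      (bot_le : (⊥ : EInt) ≤ ((pq.2 - rk pq + 2 : ℤ) : EInt))))) :=
    Y.isZero₁_of_isFirstQuadrant _ _ _ (WithBotTop.coe_le_coe.2 (by
      have := snd_le_rk pq
      omega)) _
  have hz2 : IsZero ((Y.H (pq.1 + pq.2 - 1)).obj (mk₁ (homOfLE
      (le_top : ((pq.2 + rk pq - 1 : ℤ) : EInt) ≤ ⊤)))) :=
    Y.isZero₂_of_isFirstQuadrant _ _ _ _ (WithBotTop.coe_lt_coe.2 (by
      have := fst_lt_rk pq
      omega))
  have h₁ : (((pq.1 + pq.2) - (pq.1 + 1) + 1 : ℤ) : EInt) = coreE₂Cohomological.i₁ pq := by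
    rw [coreE₂Cohomological_i₁]
    congr 1
    ring
  have h₂ : (((pq.1 + pq.2) - pq.1 + 1 : ℤ) : EInt) = coreE₂Cohomological.i₂ pq := by
    rw [coreE₂Cohomological_i₂]
    congr 1
    ring
  have h12 : (((pq.1 + pq.2) - (pq.1 + 1) + 1 : ℤ) : EInt) ≤ (((pq.1 + pq.2) - pq.1 + 1 : ℤ) : EInt) :=
    WithBotTop.coe_le_coe.2 (by omega)
  have h01 : ((pq.2 - rk pq + 2 : ℤ) : EInt) ≤ (((pq.1 + pq.2) - (pq.1 + 1) + 1 : ℤ) : EInt) :=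
    WithBotTop.coe_le_coe.2 (by
      have := two_le_rk pq
      omega)
  have h23 : (((pq.1 + pq.2) - pq.1 + 1 : ℤ) : EInt) ≤ ((pq.2 + rk pq - 1 : ℤ) : EInt) :=
    WithBotTop.coe_le_coe.2 (by
      have := two_le_rk pq
      omega)
  refine Y.spectralSequencePageXIso coreE₂Cohomological (rk pq) (two_le_rk pq) pq
    ((pq.2 - rk pq + 2 : ℤ) : EInt) (((pq.1 + pq.2) - (pq.1 + 1) + 1 : ℤ) : EInt)
    (((pq.1 + pq.2) - pq.1 + 1 : ℤ) : EInt) ((pq.2 + rk pq - 1 : ℤ) : EInt) rfl h₁ h₂ rfl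
    (pq.1 + pq.2 - 1) (pq.1 + pq.2) (pq.1 + pq.2 + 1) rfl (by omega) rfl ≪≫ ?_
  refine (Y.isoMapFourδ₁Toδ₀' ⊥ _ _ _ _ bot_le h01 h12 h23 (pq.1 + pq.2 - 1) (pq.1 + pq.2)
    (pq.1 + pq.2 + 1) hz1 (by omega) rfl).symm ≪≫ ?_
  refine Y.isoMapFourδ₄Toδ₃' ⊥ _ _ _ ⊤ bot_le h12 h23 le_top (pq.1 + pq.2 - 1) (pq.1 + pq.2)
    (pq.1 + pq.2 + 1) hz2 (by omega) rfl ≪≫ ?_
  exact EIsoSubquot Y e (pq.1 + pq.2 - 1) (pq.1 + pq.2) (pq.1 + pq.2 + 1) (by omega) rfl _ _ h12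

/-- the abutment data -/
noncomputable def abutment : SpSeq.Abutment Y.E₂SpectralSequence H' where
  fil := fil Y e
  anti := fil_anti Y e
  rk := rk
  stat := stationary Y
  β := β Y e

lemma Fi_eq_top (n : ℤ) (i : EInt) (h : (n : EInt) < i) : Fi Y e n i = ⊤ := by
  haveI : Epi ((Y.H n).map (twoδ₂Toδ₁ (homOfLE (bot_le : (⊥ : EInt) ≤ i)) (homOfLE le_top)
      (homOfLE (bot_le : (⊥ : EInt) ≤ ⊤)) rfl)) :=
    (Y.exact₂ (homOfLE (bot_le : (⊥ : EInt) ≤ i)) (homOfLE le_top) (homOfLE bot_le) rfl n).epi_f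
      ((Y.isZero₂_of_isFirstQuadrant i ⊤ le_top n h).eq_of_tgt _ _)
  haveI : Epi (toB Y n (bot_le : (⊥ : EInt) ≤ ⊤) (e n).hom i bot_le le_top) := by
    dsimp only [toB]
    exact epi_comp _ _
  exact imageSubobject_eq_top_of_epi _

lemma Fi_eq_bot (n : ℤ) (i : EInt) (h : i ≤ ((0 : ℤ) : EInt)) : Fi Y e n i = ⊥ := by
  have h0 : toB Y n (bot_le : (⊥ : EInt) ≤ ⊤) (e n).hom i bot_le le_top = 0 :=
    (Y.isZero₁_of_isFirstQuadrant ⊥ i bot_le h n).eq_of_src _ _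
  dsimp only [Fi, Fil]
  exact imageSubobject_eq_bot_of_eq_zero h0

lemma isFinite (n : ℤ) : (abutment Y e).IsFinite n := by
  refine ⟨⟨0, ?_⟩, ⟨n + 1, ?_⟩⟩
  · exact Fi_eq_top Y e n _ (WithBotTop.coe_lt_coe.2 (by omega))
  · exact Fi_eq_bot Y e n _ (WithBotTop.coe_le_coe.2 (by omega))

lemma isBounded : SpSeq.IsBounded Y.E₂SpectralSequence := by
  intro n
  refine (Set.finite_Icc (0 : ℤ) n).subset ?_
  intro p hp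
  change ¬ IsZero _ at hp
  by_contra hcon
  apply hp
  simp only [Set.mem_Icc, not_and_or, not_le] at hcon
  rcases hcon with h | h
  · exact isZero_page_of_fst_neg Y 2 le_rfl _ (by simpa using h)
  · exact isZero_page_of_snd_neg Y 2 le_rfl _ (by simp; omega)

/-- Main theorem: the `E₂` spectral sequence of a first quadrant spectral object abuts to
`H^n(⊥ ≤ ⊤)`. -/
theorem exists_abutment (H'' : ℤ → C)
    (e' : ∀ n : ℤ, (Y.H n).obj (mk₁ (homOfLE (bot_le : (⊥ : EInt) ≤ ⊤))) ≅ H'' n) :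
    ∃ a : SpSeq.Abutment Y.E₂SpectralSequence H'',
      (∀ n, a.IsFinite n) ∧ SpSeq.IsBounded Y.E₂SpectralSequence :=
  ⟨abutment Y e', isFinite Y e', isBounded Y⟩

omit [Y.IsFirstQuadrant] in
/-- `E₂^{p,q} ≅ H^{p+q}(q ≤ q+1)` -/
noncomputable def page2Iso (p q : ℤ) :
    (Y.E₂SpectralSequence.page 2 le_rfl).X (p, q) ≅
      (Y.H (p + q)).obj (mk₁ (homOfLE (WithBotTop.coe_le_coe.2 (by omega) :
        (q : EInt) ≤ ((q + 1 : ℤ) : EInt)))) :=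
  Y.spectralSequencePageXIso coreE₂Cohomological 2 le_rfl (p, q) (q : EInt) (q : EInt)
      ((q + 1 : ℤ) : EInt) ((q + 1 : ℤ) : EInt)
      (by rw [coreE₂Cohomological_i₀]; congr 1; dsimp; ring)
      (by rw [coreE₂Cohomological_i₁]) (by rw [coreE₂Cohomological_i₂])
      (by rw [coreE₂Cohomological_i₃]; congr 1; dsimp; ring)
      (p + q - 1) (p + q) (p + q + 1) rfl (by omega) rfl ≪≫
    Y.EIsoH (homOfLE _) (p + q - 1) (p + q) (p + q + 1) (by omega) rfl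

end FirstQuadrant

end Groth.Agent.Lib.SpObjAbut
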