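import Mathlib

/-!
# The abelian spectral object attached to a triangulated spectral object and a homological functor
(helper2)

* `SpObjHom.abSpectralObject X F a`: for a spectral object `X` in a pretriangulated category, a
  homological functor `F` with a shift sequence and an offset `a : ℤ`, the spectral object in the
  abelian category with `H^n(f) = (F.shift (n + a)).obj (X.ω₁.obj (mk₁ f))`.
-/

set_option autoImplicit false

open CategoryTheory Limits Pretriangulated ComposableArrows

namespace Groth.Agent.Lib.SpObjHom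

variable {𝒯 : Type*} [Category 𝒯] [HasZeroObject 𝒯] [HasShift 𝒯 ℤ] [Preadditive 𝒯]
  [∀ n : ℤ, (shiftFunctor 𝒯 n).Additive] [Pretriangulated 𝒯]
  {ι : Type*} [Category ι] (X : Triangulated.SpectralObject 𝒯 ι)
  {A : Type*} [Category A] [Abelian A] (F : 𝒯 ⥤ A) [F.IsHomological] [F.ShiftSequence ℤ] (a : ℤ)

/-- the abelian spectral object -/
noncomputable def abSpectralObject : Abelian.SpectralObject A ι where
  H n := X.ω₁ ⋙ F.shift (n + a)
  δ' n₀ n₁ h :=
    { app := fun D => F.homologySequenceδ (X.ω₂.obj D) (n₀ + a) (n₁ + a) (by omega)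
      naturality := fun D D' φ =>
        F.homologySequenceδ_naturality _ _ (X.ω₂.map φ) (n₀ + a) (n₁ + a) (by omega) }
  exact₁' n₀ n₁ h D :=
    (F.homologySequence_exact₁ _ (X.ω₂_obj_distinguished D) (n₀ + a) (n₁ + a)
      (by omega)).exact_toComposableArrows
  exact₂' n D :=
    (F.homologySequence_exact₂ _ (X.ω₂_obj_distinguished D) (n + a)).exact_toComposableArrows
  exact₃' n₀ n₁ h D :=
    (F.homologySequence_exact₃ _ (X.ω₂_obj_distinguished D) (n₀ + a) (n₁ + a)
      (by omega)).exact_toComposableArrows

@[simp]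
lemma abSpectralObject_H_obj (n : ℤ) (D : ComposableArrows ι 1) :
    ((abSpectralObject X F a).H n).obj D = (F.shift (n + a)).obj (X.ω₁.obj D) := rfl

end Groth.Agent.Lib.SpObjHom
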