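import Mathlib
import Groth.Agent.Lib.SpObjAbut_helper2
import Groth.Agent.Lib.SpObjHom_helper2
import Groth.Agent.Lib.InjTower_helper2
import Groth.Agent.Lib.RDPlusSingle_helper9
import Groth.Agent.Lib.LerayDer_helper9

/-!
# The Grothendieck spectral sequence attached to a complex of injectives (helper2)

Let `𝒜` be an abelian category with enough injectives, `S : 𝒜 ⥤ ℬ` an additive functor to an
abelian category and `R₀` a complex of injectives in degrees `≥ 0`.  Using the tower of
`InjTower_helper2` (injective models of the canonical truncations `τ^{≥ q} R₀`), the spectral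
object of mapping cones in the homotopy category, and the abutment machinery of
`SpObjAbut_helper2`, we construct a first quadrant `E₂`-spectral sequence
`E₂^{p,q} = R^p S (H^q R₀) ⇒ H^{p+q}(S R₀)`.
-/

set_option autoImplicit false

open CategoryTheory Limits Pretriangulated ComposableArrows ZeroObject

namespace Groth.Agent.Lib.GrothSS

universe v u v' u' v'' u''

section Gfunctor

variable {D : Type*} [Category D] [HasZeroMorphisms D] [HasZeroObject D] (Rf : ℕ ⥤ D)

lemma isIso_map_of_eq {x y : ℕ} (f : x ⟶ y) (h : x = y) : IsIso (Rf.map f) := by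
  subst h
  obtain rfl : f = 𝟙 _ := Subsingleton.elim _ _
  infer_instance

/-- the functor `EInt ⥤ D` attached to a sequence `Rf`: `⊥ ↦ Rf 0`, `(i : ℤ) ↦ Rf i.toNat`,
`⊤ ↦ 0` -/
noncomputable def G : EInt ⥤ D where
  obj := WithBotTop.rec (Rf.obj 0) (fun i => Rf.obj i.toNat) 0
  map {x y} f := by
    induction x using WithBotTop.rec with
    | bot =>
      induction y using WithBotTop.rec with
      | bot => exact 𝟙 _
      | coe b => exact Rf.map (homOfLE (Nat.zero_le _))
      | top => exact 0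
    | coe a =>
      induction y using WithBotTop.rec with
      | bot => exact 0
      | coe b => exact Rf.map (homOfLE (Int.toNat_le_toNat (by simpa using leOfHom f)))
      | top => exact 0
    | top =>
      induction y using WithBotTop.rec with
      | bot => exact 0
      | coe b => exact 0
      | top => exact 𝟙 _
  map_id n := by
    induction n using WithBotTop.rec with
    | bot => rfl
    | coe a => exact Rf.map_id _
    | top => rfl
  map_comp {x y z} f g := by
    have f' := leOfHom f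
    have g' := leOfHom g
    induction x using WithBotTop.rec <;> induction y using WithBotTop.rec <;>
      induction z using WithBotTop.rec <;>
      first
      | (exfalso; simp at f'; done)
      | (exfalso; simp at g'; done)
      | exact (Category.id_comp _).symm
      | exact (Category.comp_id _).symm
      | exact comp_zero.symm
      | exact zero_comp.symm
      | (dsimp; rw [← CategoryTheory.Functor.map_comp]; rfl)

@[simp] lemma G_obj_bot : (G Rf).obj ⊥ = Rf.obj 0 := rfl
@[simp] lemma G_obj_coe (i : ℤ) : (G Rf).obj (i : EInt) = Rf.obj i.toNat := rfl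
@[simp] lemma G_obj_top : (G Rf).obj ⊤ = 0 := rfl

lemma isIso_G_map {i j : EInt} (f : i ⟶ j) (hj : j ≤ ((0 : ℤ) : EInt)) :
    IsIso ((G Rf).map f) := by
  have hij := leOfHom f
  induction j using WithBotTop.rec with
  | bot =>
    obtain rfl : i = ⊥ := le_bot_iff.1 hij
    obtain rfl : f = 𝟙 _ := Subsingleton.elim _ _
    rw [CategoryTheory.Functor.map_id]
    infer_instance
  | coe b =>
    have hb : b ≤ 0 := by simpa using hj
    induction i using WithBotTop.rec with
    | bot => exact isIso_map_of_eq Rf _ (by omega)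
    | coe a =>
      have hab : a ≤ b := by simpa using hij
      exact isIso_map_of_eq Rf _ (by omega)
    | top => simp at hij
  | top => simp at hj

end Gfunctor

section SS

variable {𝒜 : Type u} [Category.{v} 𝒜] [Abelian 𝒜] {ℬ : Type u'} [Category.{v'} ℬ] [Abelian ℬ]
  (S : 𝒜 ⥤ ℬ) [S.Additive]

/-- `N ↦ H^m(S N)` on the homotopy category -/
noncomputable def Ψ (m : ℤ) : HomotopyCategory 𝒜 (ComplexShape.up ℤ) ⥤ ℬ :=
  S.mapHomotopyCategory (ComplexShape.up ℤ) ⋙
    HomotopyCategory.homologyFunctor ℬ (ComplexShape.up ℤ) m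

instance (m : ℤ) : (Ψ S m).Additive := by
  unfold Ψ
  infer_instance

/-- `Ψ` computes the homology of `S N` -/
noncomputable def ΨIso (m : ℤ) (N : CochainComplex 𝒜 ℤ) :
    (Ψ S m).obj ((HomotopyCategory.quotient 𝒜 (ComplexShape.up ℤ)).obj N) ≅
      ((S.mapHomologicalComplex (ComplexShape.up ℤ)).obj N).homology m :=
  (HomotopyCategory.homologyFunctor ℬ (ComplexShape.up ℤ) m).mapIso
      ((S.mapHomotopyCategoryFactors (ComplexShape.up ℤ)).app N) ≪≫
    (HomotopyCategory.homologyFunctorFactors ℬ (ComplexShape.up ℤ) m).app _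

/-- `Ψ` and shifts -/
noncomputable def ΨShift (a m m' : ℤ) (h : a + m = m')
    (Z : HomotopyCategory 𝒜 (ComplexShape.up ℤ)) :
    (Ψ S m).obj (Z⟦a⟧) ≅ (Ψ S m').obj Z :=
  (HomotopyCategory.homologyFunctor ℬ (ComplexShape.up ℤ) m).mapIso
      (((S.mapHomotopyCategory (ComplexShape.up ℤ)).commShiftIso a).app Z) ≪≫
    ((HomotopyCategory.homologyFunctor ℬ (ComplexShape.up ℤ) 0).shiftIso a m m' h).app _

lemma isZero_Ψ_of_isIso {K L : CochainComplex 𝒜 ℤ} (φ : K ⟶ L) [IsIso φ] (m : ℤ) :
    IsZero ((Ψ S m).obj ((HomotopyCategory.quotient 𝒜 (ComplexShape.up ℤ)).obj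
      (CochainComplex.mappingCone φ))) := by
  have h : IsZero ((HomotopyCategory.quotient 𝒜 (ComplexShape.up ℤ)).obj
      (CochainComplex.mappingCone φ)) :=
    (Triangle.isZero₃_iff_isIso₁ _ (HomotopyCategory.mappingCone_triangleh_distinguished φ)).2
      (inferInstanceAs (IsIso ((HomotopyCategory.quotient 𝒜 (ComplexShape.up ℤ)).map φ)))
  exact (Ψ S m).map_isZero h

lemma isZero_Ψ_of_isStrictlyGE (N : CochainComplex 𝒜 ℤ) (c : ℤ) [N.IsStrictlyGE c] (m : ℤ)
    (hm : m < c) :
    IsZero ((Ψ S m).obj ((HomotopyCategory.quotient 𝒜 (ComplexShape.up ℤ)).obj N)) :=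
  IsZero.of_iso (CochainComplex.isZero_of_isGE
    ((S.mapHomologicalComplex (ComplexShape.up ℤ)).obj N) c m hm) (ΨIso S m N)

/-- the cone of a morphism to a zero complex is the shift of the source -/
noncomputable def coneZeroIso {K L : CochainComplex 𝒜 ℤ} (φ : K ⟶ L) (hL : IsZero L) :
    (HomotopyCategory.quotient 𝒜 (ComplexShape.up ℤ)).obj (CochainComplex.mappingCone φ) ≅
      ((HomotopyCategory.quotient 𝒜 (ComplexShape.up ℤ)).obj K)⟦(1 : ℤ)⟧ :=
  @asIso _ _ _ _ (CochainComplex.mappingCone.triangleh φ).mor₃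
    ((Triangle.isZero₂_iff_isIso₃ _ (HomotopyCategory.mappingCone_triangleh_distinguished φ)).1
      ((HomotopyCategory.quotient 𝒜 (ComplexShape.up ℤ)).map_isZero hL))

variable (Rf : ℕ ⥤ CochainComplex 𝒜 ℤ)

/-- the spectral object attached to a sequence of complexes and the functor `S` -/
noncomputable def Y : Abelian.SpectralObject ℬ EInt :=
  SpObjHom.abSpectralObject
    (((HomotopyCategory.spectralObjectMappingCone 𝒜).precomp (G Rf)).mapTriangulatedFunctor
      (S.mapHomotopyCategory (ComplexShape.up ℤ)))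
    (HomotopyCategory.homologyFunctor ℬ (ComplexShape.up ℤ) 0) (-1)

lemma Y_H_obj (n : ℤ) {i j : EInt} (f : i ⟶ j) :
    ((Y S Rf).H n).obj (mk₁ f) = (Ψ S (n + -1)).obj
      ((HomotopyCategory.quotient 𝒜 (ComplexShape.up ℤ)).obj
        (CochainComplex.mappingCone ((G Rf).map f))) := rfl

lemma G_obj_isStrictlyGE [∀ k : ℕ, (Rf.obj k).IsStrictlyGE (k : ℤ)] (i : EInt) (c : ℤ)
    (h : (c : EInt) ≤ i) : ((G Rf).obj i).IsStrictlyGE c := by
  induction i using WithBotTop.rec with
  | bot => simp at h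
  | coe a =>
    have hca : c ≤ a := by simpa using h
    exact (Rf.obj a.toNat).isStrictlyGE_of_ge c (a.toNat : ℤ) (by omega)
  | top =>
    rw [CochainComplex.isStrictlyGE_iff]
    intro i _
    exact (HomologicalComplex.eval 𝒜 (ComplexShape.up ℤ) i).map_isZero (isZero_zero _)

instance [∀ k : ℕ, (Rf.obj k).IsStrictlyGE (k : ℤ)] : (Y S Rf).IsFirstQuadrant where
  isZero₁ i j hij hj n := by
    rw [Y_H_obj]
    haveI := isIso_G_map Rf (homOfLE hij) hj
    exact isZero_Ψ_of_isIso S _ _
  isZero₂ i j hij n hi := by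
    rw [Y_H_obj]
    haveI : ((G Rf).obj i).IsStrictlyGE (n + 1) := by
      apply G_obj_isStrictlyGE
      induction i using WithBotTop.rec with
      | bot => simp at hi
      | coe a =>
        have : n < a := by simpa using hi
        exact WithBotTop.coe_le_coe.2 (by omega)
      | top => exact le_top
    haveI : ((G Rf).obj j).IsStrictlyGE n := G_obj_isStrictlyGE Rf j n (hi.le.trans hij)
    haveI := InjTower.isStrictlyGE_mappingCone ((G Rf).map (homOfLE hij)) n
    exact isZero_Ψ_of_isStrictlyGE S _ n _ (by omega)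

/-- the abutment of the spectral object is the homology of `S (Rf 0)` -/
noncomputable def abutIso (n : ℤ) :
    ((Y S Rf).H n).obj (mk₁ (homOfLE (bot_le : (⊥ : EInt) ≤ ⊤))) ≅
      ((S.mapHomologicalComplex (ComplexShape.up ℤ)).obj (Rf.obj 0)).homology n :=
  (Ψ S (n + -1)).mapIso (coneZeroIso ((G Rf).map (homOfLE bot_le)) (isZero_zero _)) ≪≫
    ΨShift S 1 (n + -1) n (by omega) _ ≪≫ ΨIso S n (Rf.obj 0)

lemma nonempty_cone_iso_of_eq (a b k : ℕ) (ha : a = k) (hb : b = k + 1) (h : a ≤ b) :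
    Nonempty (CochainComplex.mappingCone (Rf.map (homOfLE h)) ≅
      CochainComplex.mappingCone (Rf.map (homOfLE (Nat.le_add_right k 1)))) := by
  subst ha hb
  exact ⟨Iso.refl _⟩

lemma nonempty_H_iso (n q : ℤ) (k : ℕ) (hq : q = k) (h : (q : EInt) ≤ ((q + 1 : ℤ) : EInt)) :
    Nonempty (((Y S Rf).H n).obj (mk₁ (homOfLE h)) ≅
      (Ψ S (n + -1)).obj ((HomotopyCategory.quotient 𝒜 (ComplexShape.up ℤ)).obj
        (CochainComplex.mappingCone (Rf.map (homOfLE (Nat.le_add_right k 1)))))) := by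
  obtain ⟨e⟩ := nonempty_cone_iso_of_eq Rf q.toNat (q + 1).toNat k (by omega) (by omega)
    (Int.toNat_le_toNat (by omega))
  exact ⟨(Ψ S (n + -1)).mapIso ((HomotopyCategory.quotient 𝒜 (ComplexShape.up ℤ)).mapIso e)⟩

end SS

section Tower

variable {𝒜 : Type u} [Category.{v} 𝒜] [Abelian 𝒜] [EnoughInjectives 𝒜]
  {ℬ : Type u'} [Category.{v'} ℬ] [Abelian ℬ] (S : 𝒜 ⥤ ℬ) [S.Additive]
  (R₀ : InjTower.Stage 𝒜 0)

/-- the tower of `InjTower_helper2` as a functor -/
noncomputable def Rf : ℕ ⥤ CochainComplex 𝒜 ℤ := Functor.ofSequence (InjTower.s R₀)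

instance (k : ℕ) : ((Rf R₀).obj k).IsStrictlyGE (k : ℤ) :=
  inferInstanceAs ((InjTower.R R₀ k).IsStrictlyGE (k : ℤ))

lemma Rf_map_succ (k : ℕ) : (Rf R₀).map (homOfLE (Nat.le_add_right k 1)) = InjTower.s R₀ k :=
  Functor.ofSequence_map_homOfLE_succ _ k

/-- homology of `S` applied to the `ℤ`-indexed injective resolution -/
noncomputable def homologyExtendIso {X : 𝒜} (I : InjectiveResolution X) (n : ℕ) :
    ((S.mapHomologicalComplex (ComplexShape.up ℤ)).obj I.cochainComplex).homology (n : ℤ) ≅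
      ((S.mapHomologicalComplex (ComplexShape.up ℕ)).obj I.cocomplex).homology n :=
  (HomologicalComplex.homologyFunctor ℬ (ComplexShape.up ℤ) (n : ℤ)).mapIso
      (RDPlusSingle.extendMapIso ComplexShape.embeddingUpNat S I.cocomplex) ≪≫
    HomologicalComplex.extendHomologyIso _ ComplexShape.embeddingUpNat (by simp)

lemma nonempty_E2_iso (k l : ℕ) (n : ℤ) (hn : n = l + k) :
    Nonempty ((Ψ S (n + -1)).obj ((HomotopyCategory.quotient 𝒜 (ComplexShape.up ℤ)).obj
        (CochainComplex.mappingCone ((Rf R₀).map (homOfLE (Nat.le_add_right k 1))))) ≅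
      (S.rightDerived l).obj (R₀.R.homology k)) := by
  rw [Rf_map_succ]
  let I := injectiveResolution (R₀.R.homology (k : ℤ))
  obtain ⟨e⟩ := InjTower.nonempty_cone_iso R₀ k I
  exact ⟨(Ψ S (n + -1)).mapIso e ≪≫ ΨShift S (1 - (k : ℤ)) (n + -1) l (by omega) _ ≪≫
    ΨIso S l I.cochainComplex ≪≫ homologyExtendIso S I l ≪≫ (I.isoRightDerivedObj S l).symm⟩

/-- The spectral sequence `E₂^{p,q} = R^p S (H^q R₀) ⇒ H^{p+q}(S R₀)` attached to a complex of
injectives `R₀` in degrees `≥ 0`. -/
theorem exists_ss (H'' : ℤ → ℬ)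
    (e' : ∀ n : ℤ, ((S.mapHomologicalComplex (ComplexShape.up ℤ)).obj R₀.R).homology n ≅ H'' n) :
    ∃ (E : E₂CohomologicalSpectralSequence ℬ) (a : SpSeq.Abutment E H''),
      (∀ n, a.IsFinite n) ∧ SpSeq.IsBounded E ∧
      ∀ p q : ℤ, Nonempty ((E.page 2 le_rfl).X (p, q) ≅
        (if 0 ≤ p ∧ 0 ≤ q then (S.rightDerived p.toNat).obj (R₀.R.homology q) else 0)) := by
  obtain ⟨a, ha, hb⟩ := SpObjAbut.exists_abutment (Y S (Rf R₀)) H''
    (fun n => abutIso S (Rf R₀) n ≪≫ e' n)
  refine ⟨(Y S (Rf R₀)).E₂SpectralSequence, a, ha, hb, fun p q => ?_⟩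
  split_ifs with h
  · obtain ⟨hp, hq⟩ := h
    obtain ⟨l, rfl⟩ := Int.eq_ofNat_of_zero_le hp
    obtain ⟨k, rfl⟩ := Int.eq_ofNat_of_zero_le hq
    obtain ⟨e₁⟩ := nonempty_H_iso S (Rf R₀) ((l : ℤ) + k) k k rfl
      (WithBotTop.coe_le_coe.2 (by omega))
    obtain ⟨e₂⟩ := nonempty_E2_iso S R₀ k l ((l : ℤ) + k) rfl
    simp only [Int.toNat_natCast]
    exact ⟨SpObjAbut.page2Iso _ l k ≪≫ e₁ ≪≫ e₂⟩
  · have h' : p < 0 ∨ q < 0 := by
      by_contra hh
      exact h ⟨by omega, by omega⟩
    rcases h' with hp | hq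
    · exact ⟨(SpObjAbut.isZero_page_of_fst_neg _ 2 le_rfl (p, q) hp).iso (isZero_zero _)⟩
    · exact ⟨(SpObjAbut.isZero_page_of_snd_neg _ 2 le_rfl (p, q) hq).iso (isZero_zero _)⟩

end Tower

section Main

variable {C : Type u''} [Category.{v''} C] [Abelian C] [HasInjectiveResolutions C]
  {C' : Type u} [Category.{v} C'] [Abelian C'] [HasInjectiveResolutions C']
  {C'' : Type u'} [Category.{v'} C''] [Abelian C'']
  (T : C ⥤ C') [T.Additive] (S : C' ⥤ C'') [S.Additive] [PreservesFiniteLimits S]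

lemma enoughInjectives_of_hasInjectiveResolutions : EnoughInjectives C' := by
  refine ⟨fun Z => ?_⟩
  let I := injectiveResolution Z
  have hm : Mono (I.ι.f 0) := inferInstance
  exact ⟨{ J := I.cocomplex.X 0, injective := inferInstance, f := I.ι.f 0, mono := hm }⟩

/-- **Grothendieck spectral sequence**, flexible form: the `E₂`-terms and the abutment are given
up to prescribed isomorphisms. -/
theorem grothendieck_ss_flex
    (hT : ∀ Q : C, Injective Q → ∀ q : ℕ, 0 < q → IsZero ((S.rightDerived q).obj (T.obj Q)))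
    (A : C) (H'' : ℤ → C'') (E2 : ℤ → ℤ → C'')
    (hH : ∀ n : ℕ, Nonempty (((T ⋙ S).rightDerived n).obj A ≅ H'' n))
    (hH0 : ∀ n : ℤ, n < 0 → IsZero (H'' n))
    (hE : ∀ p q : ℕ, Nonempty ((S.rightDerived p).obj ((T.rightDerived q).obj A) ≅ E2 p q))
    (hE0 : ∀ p q : ℤ, (p < 0 ∨ q < 0) → IsZero (E2 p q)) :
    ∃ (E : E₂CohomologicalSpectralSequence C'') (a : SpSeq.Abutment E H''),
      (∀ n, a.IsFinite n) ∧ SpSeq.IsBounded E ∧
      ∀ p q : ℤ, Nonempty ((E.page 2 le_rfl).X (p, q) ≅ E2 p q) := by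
  haveI : EnoughInjectives C' := enoughInjectives_of_hasInjectiveResolutions
  let I := injectiveResolution A
  let K : CochainComplex C' ℤ := (T.mapHomologicalComplex (ComplexShape.up ℤ)).obj I.cochainComplex
  haveI : K.IsStrictlyGE 0 := by dsimp only [K]; infer_instance
  obtain ⟨L, κ, hκ, hL, hL'⟩ :=
    CochainComplex.Plus.modelCategoryQuillen.exists_quasiIso_injective K 0
  let R₀ : InjTower.Stage C' 0 := ⟨L, hL, by simpa using hL'⟩
  -- Leray's acyclicity lemma: `S κ` is a quasi-isomorphism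
  have hS : QuasiIso ((S.mapHomologicalComplex (ComplexShape.up ℤ)).map κ) := by
    letI := HasDerivedCategory.standard C'
    letI := HasDerivedCategory.standard C''
    let K' : CochainComplex.Plus C' := ⟨K, 0, inferInstance⟩
    let L' : CochainComplex.Plus C' := ⟨L, 0, hL'⟩
    let κ' : K' ⟶ L' := ObjectProperty.homMk κ
    refine (RDPlusSingle.isIso_unit_iff_quasiIso S κ' hκ hL).1 (LerayDer.leray S K' (fun m => ?_))
    intro i hi
    haveI : Injective (I.cochainComplex.X m) := inferInstance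
    exact hT _ inferInstance i hi
  -- the abutment
  have e' : ∀ n : ℤ, Nonempty
      (((S.mapHomologicalComplex (ComplexShape.up ℤ)).obj R₀.R).homology n ≅ H'' n) := by
    intro n
    by_cases hn : 0 ≤ n
    · obtain ⟨m, rfl⟩ := Int.eq_ofNat_of_zero_le hn
      obtain ⟨e⟩ := hH m
      haveI : IsIso (HomologicalComplex.homologyMap
          ((S.mapHomologicalComplex (ComplexShape.up ℤ)).map κ) (m : ℤ)) :=
        (quasiIsoAt_iff_isIso_homologyMap _ _).1 inferInstance
      let e₁ : ((S.mapHomologicalComplex (ComplexShape.up ℤ)).obj K).homology (m : ℤ) ≅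
          ((S.mapHomologicalComplex (ComplexShape.up ℤ)).obj L).homology (m : ℤ) :=
        asIso (HomologicalComplex.homologyMap
          ((S.mapHomologicalComplex (ComplexShape.up ℤ)).map κ) (m : ℤ))
      let e₂ : ((S.mapHomologicalComplex (ComplexShape.up ℤ)).obj K).homology (m : ℤ) ≅
          (((T ⋙ S).mapHomologicalComplex (ComplexShape.up ℤ)).obj I.cochainComplex).homology
            (m : ℤ) := Iso.refl _
      exact ⟨e₁.symm ≪≫ e₂ ≪≫ homologyExtendIso (T ⋙ S) I m ≪≫
        (I.isoRightDerivedObj (T ⋙ S) m).symm ≪≫ e⟩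
    · haveI : L.IsStrictlyGE 0 := hL'
      exact ⟨(CochainComplex.isZero_of_isGE
        ((S.mapHomologicalComplex (ComplexShape.up ℤ)).obj L) 0 n (by omega)).iso
          (hH0 n (by omega))⟩
  obtain ⟨E, a, ha, hb, hE2⟩ := exists_ss S R₀ H'' (fun n => (e' n).some)
  refine ⟨E, a, ha, hb, fun p q => ?_⟩
  obtain ⟨e⟩ := hE2 p q
  by_cases h : 0 ≤ p ∧ 0 ≤ q
  · rw [if_pos h] at e
    obtain ⟨hp, hq⟩ := h
    obtain ⟨l, rfl⟩ := Int.eq_ofNat_of_zero_le hp
    obtain ⟨k, rfl⟩ := Int.eq_ofNat_of_zero_le hq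
    simp only [Int.toNat_natCast] at e
    obtain ⟨e₃⟩ := hE l k
    haveI : IsIso (HomologicalComplex.homologyMap κ (k : ℤ)) :=
      (quasiIsoAt_iff_isIso_homologyMap _ _).1 inferInstance
    let e₁ : K.homology (k : ℤ) ≅ L.homology (k : ℤ) :=
      asIso (HomologicalComplex.homologyMap κ (k : ℤ))
    exact ⟨e ≪≫ (S.rightDerived l).mapIso (e₁.symm ≪≫ homologyExtendIso T I k ≪≫
      (I.isoRightDerivedObj T k).symm) ≪≫ e₃⟩
  · rw [if_neg h] at e
    have h' : p < 0 ∨ q < 0 := by
      by_contra hh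
      exact h ⟨by omega, by omega⟩
    exact ⟨e ≪≫ (isZero_zero _).iso (hE0 p q h')⟩

/-- **Grothendieck spectral sequence** (existence form) -/
theorem grothendieck_ss
    (hT : ∀ Q : C, Injective Q → ∀ q : ℕ, 0 < q → IsZero ((S.rightDerived q).obj (T.obj Q)))
    (A : C) :
    ∃ (E : E₂CohomologicalSpectralSequence C'')
      (a : SpSeq.Abutment E
        (fun n : ℤ => if 0 ≤ n then ((T ⋙ S).rightDerived n.toNat).obj A else 0)),
      (∀ n, a.IsFinite n) ∧ SpSeq.IsBounded E ∧
      ∀ p q : ℤ, Nonempty ((E.page 2 le_rfl).X (p, q) ≅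
        (if 0 ≤ p ∧ 0 ≤ q then
          (S.rightDerived p.toNat).obj ((T.rightDerived q.toNat).obj A) else 0)) := by
  apply grothendieck_ss_flex T S hT A
  · intro n
    rw [if_pos (by omega)]
    simp only [Int.toNat_natCast]
    exact ⟨Iso.refl _⟩
  · intro n hn
    rw [if_neg (by omega)]
    exact isZero_zero _
  · intro p q
    rw [if_pos ⟨by omega, by omega⟩]
    simp only [Int.toNat_natCast]
    exact ⟨Iso.refl _⟩
  · intro p q h
    rw [if_neg (by omega)]
    exact isZero_zero _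

end Main

end Groth.Agent.Lib.GrothSS
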