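import Mathlib
import Groth.Agent.Lib.LerayDer_helper9

/-!
# Acyclicity for a class of objects adapted to a left exact functor (helper2)

Let `F : C ⥤ D` be a left exact additive functor, `C` with enough injectives, and `P` a class of
objects of `C` containing the injectives, stable under isomorphisms, and such that for every short
exact sequence `0 → X₁ → X₂ → X₃ → 0` with `X₁`, `X₂` in `P`, the map `F X₂ → F X₃` is an
epimorphism and `X₃` is in `P`.  Then the objects of `P` are `F`-acyclic.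
(This is the argument of `LerayDer_helper9` with `Acyclic F` replaced by `P`.)
-/

set_option autoImplicit false

open CategoryTheory CategoryTheory.Limits HomologicalComplex

namespace Groth.Agent.Lib.AcycPred

universe v v' u u'

variable {C : Type u} [Category.{v} C] [Abelian C] [EnoughInjectives C]
  {D : Type u'} [Category.{v'} D] [Abelian D]
  (F : C ⥤ D) [F.Additive] [PreservesFiniteLimits F]
  (P : C → Prop)

omit [EnoughInjectives C] in
lemma pred_of_isZero (hPinj : ∀ X : C, Injective X → P X) (X : C) (hX : IsZero X) : P X :=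
  hPinj X (Injective.of_iso hX.isoZero.symm inferInstance)

variable (Q : CochainComplex C ℤ)

omit [EnoughInjectives C] [PreservesFiniteLimits F] in
lemma pred_Zc (hPinj : ∀ X : C, Injective X → P X)
    (hP : ∀ S : ShortComplex C, S.ShortExact → P S.X₁ → P S.X₂ → Epi (F.map S.g) ∧ P S.X₃)
    (n₀ : ℤ) [Q.IsStrictlyGE n₀] (hQ : ∀ m, Q.ExactAt m) (hac : ∀ m, P (Q.X m)) :
    ∀ i : ℤ, P (LerayDer.Zc Q i) := by
  have hz : ∀ i, i < n₀ → IsZero (LerayDer.Zc Q i) := fun i hi =>
    IsZero.of_mono (kernel.ι (Q.d i (i + 1))) (Q.isZero_of_isStrictlyGE n₀ i hi)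
  have hstep : ∀ i, P (LerayDer.Zc Q i) → P (LerayDer.Zc Q (i + 1)) := fun i hi =>
    (hP (LerayDer.sesZ Q i) (LerayDer.sesZ_shortExact Q i (hQ _)) hi (hac i)).2
  intro i
  by_cases hi : i < n₀
  · exact pred_of_isZero P hPinj _ (hz i hi)
  · have hle : n₀ - 1 ≤ i := by omega
    exact Int.leInduction (m := n₀ - 1) (motive := fun n _ => P (LerayDer.Zc Q n))
      (pred_of_isZero P hPinj _ (hz _ (by omega))) (fun n _ hn => hstep n hn) i hle

omit [EnoughInjectives C] in
/-- `F` of a bounded below exact complex of objects of `P` is exact. -/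
theorem exactAt_map_pred (hPinj : ∀ X : C, Injective X → P X)
    (hP : ∀ S : ShortComplex C, S.ShortExact → P S.X₁ → P S.X₂ → Epi (F.map S.g) ∧ P S.X₃)
    (n₀ : ℤ) [Q.IsStrictlyGE n₀] (hQ : ∀ m, Q.ExactAt m) (hac : ∀ m, P (Q.X m)) (j : ℤ) :
    ((F.mapHomologicalComplex (ComplexShape.up ℤ)).obj Q).ExactAt j := by
  obtain ⟨i, rfl⟩ : ∃ i, j = i + 1 := ⟨j - 1, by omega⟩
  rw [exactAt_iff' _ i (i + 1) (i + 1 + 1) (by simp) (by simp)]
  have hZ := pred_Zc F P Q hPinj hP n₀ hQ hac
  have hepi : Epi (F.map (LerayDer.piZ Q i)) :=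
    (hP (LerayDer.sesZ Q i) (LerayDer.sesZ_shortExact Q i (hQ _)) (hZ i) (hac i)).1
  let S' : ShortComplex D := ShortComplex.mk (F.map (kernel.ι (Q.d (i + 1) (i + 1 + 1))))
    (F.map (Q.d (i + 1) (i + 1 + 1))) (by rw [← F.map_comp, kernel.condition, F.map_zero])
  have hS' : S'.Exact := by
    apply ShortComplex.exact_of_f_is_kernel
    exact KernelFork.mapIsLimit _ (kernelIsKernel (Q.d (i + 1) (i + 1 + 1))) F
  let φ : ((F.mapHomologicalComplex (ComplexShape.up ℤ)).obj Q).sc' i (i + 1) (i + 1 + 1) ⟶ S' :=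
    { τ₁ := F.map (LerayDer.piZ Q i)
      τ₂ := 𝟙 _
      τ₃ := 𝟙 _
      comm₁₂ := by
        change F.map (LerayDer.piZ Q i) ≫ F.map (kernel.ι (Q.d (i + 1) (i + 1 + 1))) =
          F.map (Q.d i (i + 1)) ≫ 𝟙 _
        rw [Category.comp_id, ← F.map_comp, LerayDer.piZ_ι]
      comm₂₃ := by
        change 𝟙 _ ≫ F.map (Q.d (i + 1) (i + 1 + 1)) = F.map (Q.d (i + 1) (i + 1 + 1)) ≫ 𝟙 _
        rw [Category.comp_id, Category.id_comp] }
  haveI : Epi φ.τ₁ := hepi
  haveI : IsIso φ.τ₂ := (inferInstance : IsIso (𝟙 _))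
  haveI : Mono φ.τ₃ := (inferInstance : Mono (𝟙 _))
  exact (ShortComplex.exact_iff_of_epi_of_isIso_of_mono φ).2 hS'

/-- the objects of `P` are `F`-acyclic -/
theorem acyclic_of_pred (hPinj : ∀ X : C, Injective X → P X)
    (hPiso : ∀ X Y : C, (X ≅ Y) → P X → P Y)
    (hP : ∀ S : ShortComplex C, S.ShortExact → P S.X₁ → P S.X₂ → Epi (F.map S.g) ∧ P S.X₃)
    (X : C) (hX : P X) : LerayDer.Acyclic F X := by
  letI : HasDerivedCategory C := HasDerivedCategory.standard C
  letI : HasDerivedCategory D := HasDerivedCategory.standard D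
  let K : CochainComplex C ℤ := (CochainComplex.singleFunctor C 0).obj X
  haveI : K.IsStrictlyGE 0 :=
    (inferInstance : ((CochainComplex.singleFunctor C 0).obj X).IsStrictlyGE 0)
  obtain ⟨L, p, hmono, hqis, hinj, hL⟩ := HorseshoeCx.exists_mono_quasiIso_injective_ge K 0
  haveI := hL
  rw [LerayDer.acyclic_iff_quasiIso F X L 0 hinj p hqis]
  have hK : ∀ m, P (K.X m) := by
    intro m
    by_cases hm : m = 0
    · subst hm
      exact hPiso _ _ (HomologicalComplex.singleObjXSelf (ComplexShape.up ℤ) 0 X).symm hX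
    · exact pred_of_isZero P hPinj _ (HomologicalComplex.isZero_single_obj_X _ _ _ _ hm)
  -- the cokernel sequence
  let S : ShortComplex (CochainComplex C ℤ) :=
    ShortComplex.mk p (cokernel.π p) (cokernel.condition p)
  have hS : S.ShortExact :=
    ShortComplex.ShortExact.mk' (S.exact_of_g_is_cokernel (cokernelIsCokernel p)) hmono
      (inferInstance : Epi (cokernel.π p))
  haveI : S.X₂.IsStrictlyGE 0 := hL
  haveI hQ3 : S.X₃.IsStrictlyGE 0 := HorseshoeCx.isStrictlyGE_X₃ hS 0
  have hQex : ∀ j, S.X₃.ExactAt j := hS.acyclic_X₃ hqis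
  have hdeg : ∀ q, (S.map (eval C (ComplexShape.up ℤ) q)).ShortExact := fun q => hS.map_of_exact _
  have hA : ∀ q, Epi (F.map (S.g.f q)) ∧ P (S.X₃.X q) := fun q =>
    hP _ (hdeg q) (hK q) (hPinj _ (hinj q))
  have hFS : (S.map (F.mapHomologicalComplex (ComplexShape.up ℤ))).ShortExact := by
    apply HomologicalComplex.shortExact_of_degreewise_shortExact
    intro q
    have hq := hdeg q
    haveI := hq.mono_f
    exact ShortComplex.ShortExact.mk'
      (hq.exact.map_of_mono_of_preservesKernel F hq.mono_f inferInstance)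
      (inferInstance : Mono (F.map (S.f.f q))) (hA q).1
  have hFQ : ∀ j, ((F.mapHomologicalComplex (ComplexShape.up ℤ)).obj S.X₃).ExactAt j :=
    exactAt_map_pred F P S.X₃ hPinj hP 0 hQex (fun q => (hA q).2)
  exact LerayDer.quasiIso_f_of_exact hFS hFQ

end Groth.Agent.Lib.AcycPred
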