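import Mathlib

/-!
# The Čech nerve of an arrow, seen through a limit preserving functor to types

Let `f` be an arrow of a category with the relevant wide pullbacks and `Ψ` a functor to types
which preserves them.  The simplicial set `Ψ ∘ Čech(f)`, augmented over the *range* of `Ψ f`,
has an extra degeneracy.
-/

set_option autoImplicit false
universe w v u
open CategoryTheory Limits Opposite Simplicial SimplexCategory

namespace Groth.Agent.Lib.CechExtra

variable {𝒮 : Type u} [Category.{v} 𝒮] (f : Arrow 𝒮)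
  [∀ n : ℕ, HasWidePullback f.right (fun _ : Fin (n + 1) => f.left) fun _ => f.hom]
  (Ψ : 𝒮 ⥤ Type w)

lemma map_map_apply {X Y Z : 𝒮} (a : X ⟶ Y) (b : Y ⟶ Z) (x : Ψ.obj X) :
    Ψ.map b (Ψ.map a x) = Ψ.map (a ≫ b) x := by simp

/-- coordinates of an element of `Ψ (Čech_n)` -/
noncomputable def coord {n : SimplexCategoryᵒᵖ} (x : Ψ.obj (f.cechNerve.obj n)) (i : Fin (n.unop.len + 1)) :
    Ψ.obj f.left :=
  Ψ.map (WidePullback.π (fun _ : Fin (n.unop.len + 1) => f.hom) i) x

/-- the base point of an element of `Ψ (Čech_n)` -/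
noncomputable def base {n : SimplexCategoryᵒᵖ} (x : Ψ.obj (f.cechNerve.obj n)) : Ψ.obj f.right :=
  Ψ.map (WidePullback.base (fun _ : Fin (n.unop.len + 1) => f.hom)) x

lemma map_coord {n : SimplexCategoryᵒᵖ} (x : Ψ.obj (f.cechNerve.obj n))
    (i : Fin (n.unop.len + 1)) : Ψ.map f.hom (coord f Ψ x i) = base f Ψ x := by
  unfold coord base
  rw [map_map_apply, WidePullback.π_arrow]

lemma coord_map {n m : SimplexCategoryᵒᵖ} (g : n ⟶ m) (x : Ψ.obj (f.cechNerve.obj n))
    (i : Fin (m.unop.len + 1)) :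
    coord f Ψ (Ψ.map (f.cechNerve.map g) x) i = coord f Ψ x (g.unop.toOrderHom i) := by
  unfold coord
  have h : f.cechNerve.map g ≫ WidePullback.π (fun _ : Fin (m.unop.len + 1) => f.hom) i =
      WidePullback.π (fun _ : Fin (n.unop.len + 1) => f.hom) (g.unop.toOrderHom i) := by
    dsimp [Arrow.cechNerve]
    exact WidePullback.lift_π _ _ _ _ _
  rw [map_map_apply, h]

lemma base_map {n m : SimplexCategoryᵒᵖ} (g : n ⟶ m) (x : Ψ.obj (f.cechNerve.obj n)) :
    base f Ψ (Ψ.map (f.cechNerve.map g) x) = base f Ψ x := by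
  unfold base
  have h : f.cechNerve.map g ≫ WidePullback.base (fun _ : Fin (m.unop.len + 1) => f.hom) =
      WidePullback.base (fun _ : Fin (n.unop.len + 1) => f.hom) := by
    dsimp [Arrow.cechNerve]
    exact WidePullback.lift_base _ _ _ _
  rw [map_map_apply, h]

variable [∀ n : ℕ, PreservesLimit
  (WidePullbackShape.wideCospan f.right (fun _ : Fin (n + 1) => f.left) fun _ => f.hom) Ψ]

lemma coord_injective {n : SimplexCategoryᵒᵖ} (x y : Ψ.obj (f.cechNerve.obj n))
    (h : ∀ i, coord f Ψ x i = coord f Ψ y i) : x = y := by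
  have hl := isLimitOfPreserves Ψ (limit.isLimit (WidePullbackShape.wideCospan f.right
    (fun _ : Fin (n.unop.len + 1) => f.left) fun _ => f.hom))
  refine Concrete.isLimit_ext _ hl x y ?_
  rintro (_ | j)
  · have h0 := congrArg (Ψ.map f.hom) (h 0)
    rw [map_coord, map_coord] at h0
    exact h0
  · exact h j

lemma exists_coord {n : SimplexCategoryᵒᵖ} (v : Fin (n.unop.len + 1) → Ψ.obj f.left)
    (hv : ∀ i j, Ψ.map f.hom (v i) = Ψ.map f.hom (v j)) :
    ∃ x : Ψ.obj (f.cechNerve.obj n), ∀ i, coord f Ψ x i = v i := by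
  have hl := isLimitOfPreserves Ψ (limit.isLimit (WidePullbackShape.wideCospan f.right
    (fun _ : Fin (n.unop.len + 1) => f.left) fun _ => f.hom))
  let s : ((WidePullbackShape.wideCospan f.right
      (fun _ : Fin (n.unop.len + 1) => f.left) fun _ => f.hom) ⋙ Ψ).sections :=
    ⟨fun j => match j with
      | none => Ψ.map f.hom (v 0)
      | some j => v j, by
      rintro j j' (_ | j)
      · have : (WidePullbackShape.Hom.id j : j ⟶ j) = 𝟙 j := rfl
        rw [this, CategoryTheory.Functor.map_id]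
        rfl
      · exact hv j 0⟩
  exact ⟨(Types.isLimitEquivSections hl).symm s, fun i =>
    Types.isLimitEquivSections_symm_apply hl s (some i)⟩

/-- the element with given coordinates -/
noncomputable def mk {n : SimplexCategoryᵒᵖ} (v : Fin (n.unop.len + 1) → Ψ.obj f.left)
    (hv : ∀ i j, Ψ.map f.hom (v i) = Ψ.map f.hom (v j)) : Ψ.obj (f.cechNerve.obj n) :=
  (exists_coord f Ψ v hv).choose

@[simp]
lemma coord_mk {n : SimplexCategoryᵒᵖ} (v : Fin (n.unop.len + 1) → Ψ.obj f.left)
    (hv : ∀ i j, Ψ.map f.hom (v i) = Ψ.map f.hom (v j)) (i : Fin (n.unop.len + 1)) :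
    coord f Ψ (mk f Ψ v hv) i = v i :=
  (exists_coord f Ψ v hv).choose_spec i

lemma base_mk {n : SimplexCategoryᵒᵖ} (v : Fin (n.unop.len + 1) → Ψ.obj f.left)
    (hv : ∀ i j, Ψ.map f.hom (v i) = Ψ.map f.hom (v j)) (i : Fin (n.unop.len + 1)) :
    base f Ψ (mk f Ψ v hv) = Ψ.map f.hom (v i) := by
  rw [← map_coord f Ψ _ i, coord_mk]

/-- the augmented simplicial set `Ψ ∘ Čech(f)` over the range of `Ψ f` -/
noncomputable def W : SimplicialObject.Augmented (Type w) where
  left := f.cechNerve ⋙ Ψ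
  right := Set.range (fun x : Ψ.obj f.left => Ψ.map f.hom x)
  hom :=
    { app := fun n => TypeCat.ofHom (fun x =>
        (⟨base f Ψ x, ⟨coord f Ψ x 0, map_coord f Ψ x 0⟩⟩ :
          Set.range (fun x : Ψ.obj f.left => Ψ.map f.hom x)))
      naturality := fun n m g => by
        ext x
        exact Subtype.ext (base_map f Ψ g x) }

lemma W_left_map {n m : SimplexCategoryᵒᵖ} (g : n ⟶ m) (x : Ψ.obj (f.cechNerve.obj n)) :
    (W f Ψ).left.map g x = Ψ.map (f.cechNerve.map g) x := rfl

/-- a chosen preimage -/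
noncomputable def sec (b : Set.range (fun x : Ψ.obj f.left => Ψ.map f.hom x)) : Ψ.obj f.left :=
  b.2.choose

lemma map_sec (b : Set.range (fun x : Ψ.obj f.left => Ψ.map f.hom x)) :
    Ψ.map f.hom (sec f Ψ b) = b.1 := b.2.choose_spec

/-- the augmentation of an element -/
noncomputable def aug {n : SimplexCategoryᵒᵖ} (x : Ψ.obj (f.cechNerve.obj n)) :
    Set.range (fun x : Ψ.obj f.left => Ψ.map f.hom x) :=
  ⟨base f Ψ x, ⟨coord f Ψ x 0, map_coord f Ψ x 0⟩⟩

lemma aug_map {n m : SimplexCategoryᵒᵖ} (g : n ⟶ m) (x : Ψ.obj (f.cechNerve.obj n)) :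
    aug f Ψ (Ψ.map (f.cechNerve.map g) x) = aug f Ψ x :=
  Subtype.ext (base_map f Ψ g x)

/-- the coordinates of the extra degeneracy -/
noncomputable def consVec {n : ℕ} (x : Ψ.obj (f.cechNerve.obj (op ⦋n⦌))) :
    Fin (n + 1 + 1) → Ψ.obj f.left :=
  Fin.cases (sec f Ψ (aug f Ψ x)) (coord f Ψ x)

lemma map_consVec {n : ℕ} (x : Ψ.obj (f.cechNerve.obj (op ⦋n⦌))) (i : Fin (n + 1 + 1)) :
    Ψ.map f.hom (consVec f Ψ x i) = base f Ψ x := by
  induction i using Fin.cases with
  | zero => exact map_sec f Ψ (aug f Ψ x)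
  | succ i => exact map_coord f Ψ x i

/-- the extra degeneracy -/
noncomputable def extra {n : ℕ} (x : Ψ.obj (f.cechNerve.obj (op ⦋n⦌))) :
    Ψ.obj (f.cechNerve.obj (op ⦋n + 1⦌)) :=
  mk f Ψ (n := op ⦋n + 1⦌) (consVec f Ψ x) (fun i j => by
    rw [map_consVec, map_consVec])

lemma coord_extra_zero {n : ℕ} (x : Ψ.obj (f.cechNerve.obj (op ⦋n⦌))) :
    coord f Ψ (extra f Ψ x) (0 : Fin (n + 1 + 1)) = sec f Ψ (aug f Ψ x) := by
  unfold extra
  rw [coord_mk]
  rfl

lemma coord_extra_succ {n : ℕ} (x : Ψ.obj (f.cechNerve.obj (op ⦋n⦌))) (i : Fin (n + 1)) :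
    coord f Ψ (extra f Ψ x) (i.succ : Fin (n + 1 + 1)) = coord f Ψ x i := by
  unfold extra
  rw [coord_mk]
  rfl

lemma aug_extra {n : ℕ} (x : Ψ.obj (f.cechNerve.obj (op ⦋n⦌))) :
    aug f Ψ (extra f Ψ x) = aug f Ψ x := by
  apply Subtype.ext
  show base f Ψ (extra f Ψ x) = base f Ψ x
  rw [← map_coord f Ψ (extra f Ψ x) (0 : Fin (n + 1 + 1)), coord_extra_zero, map_sec]
  rfl

/-- the section in degree `0` -/
noncomputable def extra' (b : Set.range (fun x : Ψ.obj f.left => Ψ.map f.hom x)) :
    Ψ.obj (f.cechNerve.obj (op ⦋0⦌)) :=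
  mk f Ψ (n := op ⦋0⦌) (fun _ => sec f Ψ b) (fun _ _ => rfl)

lemma coord_extra' (b : Set.range (fun x : Ψ.obj f.left => Ψ.map f.hom x)) (i : Fin (0 + 1)) :
    coord f Ψ (extra' f Ψ b) i = sec f Ψ b := by
  unfold extra'
  rw [coord_mk]

lemma aug_extra' (b : Set.range (fun x : Ψ.obj f.left => Ψ.map f.hom x)) :
    aug f Ψ (extra' f Ψ b) = b := by
  apply Subtype.ext
  show base f Ψ (extra' f Ψ b) = b.1
  rw [← map_coord f Ψ (extra' f Ψ b) (0 : Fin (0 + 1)), coord_extra', map_sec]

/-- the extra degeneracy of `W` -/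
noncomputable def extraDegeneracy : SimplicialObject.Augmented.ExtraDegeneracy (W f Ψ) where
  s' := TypeCat.ofHom (extra' f Ψ)
  s n := TypeCat.ofHom (extra f Ψ)
  s'_comp_ε := by
    ext b
    exact aug_extra' f Ψ b
  s₀_comp_δ₁ := by
    ext x
    apply coord_injective f Ψ
    intro i
    change coord f Ψ (Ψ.map (f.cechNerve.map (SimplexCategory.δ (1 : Fin 2)).op) (extra f Ψ x)) i =
      coord f Ψ (extra' f Ψ (aug f Ψ x)) i
    rw [coord_map, coord_extra']
    have hi : i = (0 : Fin 1) := Subsingleton.elim (α := Fin 1) i 0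
    subst hi
    exact coord_extra_zero f Ψ x
  s_comp_δ₀ := by
    intro n
    ext x
    apply coord_injective f Ψ
    intro i
    change coord f Ψ (Ψ.map (f.cechNerve.map (SimplexCategory.δ (0 : Fin (n + 2))).op)
      (extra f Ψ x)) i = coord f Ψ x i
    rw [coord_map]
    exact coord_extra_succ f Ψ x i
  s_comp_δ := by
    intro n i
    ext x
    apply coord_injective f Ψ
    intro j
    change coord f Ψ (Ψ.map (f.cechNerve.map (SimplexCategory.δ i.succ).op)
      (extra f Ψ x)) j = coord f Ψ (extra f Ψ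
        (Ψ.map (f.cechNerve.map (SimplexCategory.δ i).op) x)) j
    rw [coord_map]
    induction j using Fin.cases with
    | zero =>
      rw [coord_extra_zero, aug_map]
      exact coord_extra_zero f Ψ x
    | succ k =>
      rw [coord_extra_succ, coord_map]
      have h : ((SimplexCategory.δ i.succ).op.unop.toOrderHom k.succ) =
          ((SimplexCategory.δ i).op.unop.toOrderHom k).succ := by
        simp [SimplexCategory.δ]
      rw [h]
      exact coord_extra_succ f Ψ x _
  s_comp_σ := by
    intro n i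
    ext x
    apply coord_injective f Ψ
    intro j
    change coord f Ψ (Ψ.map (f.cechNerve.map (SimplexCategory.σ i.succ).op)
      (extra f Ψ x)) j = coord f Ψ (extra f Ψ
        (Ψ.map (f.cechNerve.map (SimplexCategory.σ i).op) x)) j
    rw [coord_map]
    induction j using Fin.cases with
    | zero =>
      rw [coord_extra_zero, aug_map]
      exact coord_extra_zero f Ψ x
    | succ k =>
      rw [coord_extra_succ, coord_map]
      have h : ((SimplexCategory.σ i.succ).op.unop.toOrderHom k.succ) =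
          ((SimplexCategory.σ i).op.unop.toOrderHom k).succ := by
        simp [SimplexCategory.σ]
      rw [h]
      exact coord_extra_succ f Ψ x _

/-- the augmentation of the free simplicial abelian group on `W` is a quasi-isomorphism -/
lemma quasiIso_ε_free :
    QuasiIso (AlgebraicTopology.AlternatingFaceMapComplex.ε.app
      (((SimplicialObject.Augmented.whiskering _ _).obj AddCommGrpCat.free.{w}).obj (W f Ψ))) :=
  inferInstanceAs (QuasiIso ((extraDegeneracy f Ψ).map AddCommGrpCat.free.{w}).homotopyEquiv.hom)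

section General

open AlgebraicTopology SimplicialObject

variable {D : Type*} [Category D] [Abelian D] {D' : Type*} [Category D'] [Abelian D']

lemma quasiIso_ε_iff_of_hom {X' X : Augmented D} (φ : X' ⟶ X) [IsIso φ.left] [IsIso φ.right] :
    QuasiIso (AlternatingFaceMapComplex.ε.app X') ↔
      QuasiIso (AlternatingFaceMapComplex.ε.app X) := by
  have nat := AlternatingFaceMapComplex.ε.naturality φ
  haveI : IsIso ((Augmented.drop ⋙ alternatingFaceMapComplex D).map φ) := by
    dsimp
    infer_instance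
  haveI : IsIso ((Augmented.point ⋙ ChainComplex.single₀ D).map φ) := by
    dsimp
    infer_instance
  rw [← quasiIso_iff_comp_left ((Augmented.drop ⋙ alternatingFaceMapComplex D).map φ)
    (AlternatingFaceMapComplex.ε.app X), nat, quasiIso_iff_comp_right]

lemma quasiIso_ε_whiskering_iff (F : D ⥤ D') [F.Additive] (X : Augmented D) :
    QuasiIso ((F.mapHomologicalComplex _).map (AlternatingFaceMapComplex.ε.app X)) ↔
      QuasiIso (AlternatingFaceMapComplex.ε.app (((Augmented.whiskering _ _).obj F).obj X)) := by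
  let e₁ : (F.mapHomologicalComplex _).obj (AlternatingFaceMapComplex.obj X.left) ≅
      AlternatingFaceMapComplex.obj (X.left ⋙ F) :=
    eqToIso (Functor.congr_obj (map_alternatingFaceMapComplex F) X.left)
  let e₂ := (HomologicalComplex.singleMapHomologicalComplex F (ComplexShape.down ℕ) 0).app X.right
  refine quasiIso_iff_of_arrow_mk_iso _ _ (Arrow.isoMk e₁ e₂ ?_)
  apply HomologicalComplex.to_single_hom_ext
  simp [e₁, e₂]
  change 𝟙 _ ≫ _ = _
  simp [Augmented.whiskering, Augmented.whiskeringObj]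
  exact (Category.comp_id _).symm

end General

end Groth.Agent.Lib.CechExtra
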