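import Mathlib
import Groth.Agent.Lib.CechExtra_helper2

/-!
# The Čech resolution `ℤ[K'_•] ⟶ ℤ[K]` of an epimorphism of sheaves of sets
-/

set_option autoImplicit false
universe u
open CategoryTheory Limits Opposite Simplicial AlgebraicTopology SimplicialObject

namespace Groth.Agent.Lib.CechRes
open Groth.Agent.Lib.CechExtra

variable {C : Type u} [SmallCategory C] (J : GrothendieckTopology C)

/-- the free abelian presheaf functor -/
noncomputable abbrev T : (Cᵒᵖ ⥤ Type u) ⥤ (Cᵒᵖ ⥤ AddCommGrpCat.{u}) :=
  (Functor.whiskeringRight _ _ _).obj AddCommGrpCat.free.{u}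

variable {K' K : Sheaf J (Type u)} (f : K' ⟶ K)

/-- the image presheaf of `f` -/
noncomputable abbrev Im : Subfunctor K.obj :=
  Subfunctor.range ((sheafToPresheaf J (Type u)).map f)

/-- the Čech nerve of `f`, as a simplicial presheaf, augmented over the image presheaf -/
noncomputable def Z' : Augmented (Cᵒᵖ ⥤ Type u) where
  left := (Arrow.mk f).cechNerve ⋙ sheafToPresheaf J (Type u)
  right := (Im J f).toFunctor
  hom :=
    { app := fun n => (sheafToPresheaf J (Type u)).map
          (WidePullback.π (fun _ : Fin (n.unop.len + 1) => (Arrow.mk f).hom) 0) ≫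
        Subfunctor.toRange ((sheafToPresheaf J (Type u)).map f)
      naturality := fun n m g => by
        rw [← cancel_mono (Im J f).ι]
        dsimp
        simp only [Category.assoc, Category.id_comp, Subfunctor.toRange_ι]
        change ((Arrow.mk f).cechNerve.map g ≫
          WidePullback.π (fun _ : Fin (m.unop.len + 1) => (Arrow.mk f).hom) 0 ≫
            (Arrow.mk f).hom).hom =
          (WidePullback.π (fun _ : Fin (n.unop.len + 1) => (Arrow.mk f).hom) 0 ≫
            (Arrow.mk f).hom).hom
        congr 1
        rw [WidePullback.π_arrow, WidePullback.π_arrow]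
        exact WidePullback.lift_base _ _ _ _ }

/-- the comparison with the Čech nerve augmented over `K` -/
noncomputable def φZ : Z' J f ⟶ ((Augmented.whiskering _ _).obj
    (sheafToPresheaf J (Type u))).obj (Arrow.mk f).augmentedCechNerve where
  left := 𝟙 _
  right := (Im J f).ι
  w := by
    refine NatTrans.ext (funext fun n => ?_)
    dsimp [Z']
    simp only [Category.assoc, Category.id_comp, Category.comp_id]
    change (WidePullback.base (fun _ : Fin (n.unop.len + 1) => (Arrow.mk f).hom)).hom =
      (WidePullback.π (fun _ : Fin (n.unop.len + 1) => (Arrow.mk f).hom) 0 ≫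
            (Arrow.mk f).hom).hom
    rw [WidePullback.π_arrow]

instance : IsIso (φZ J f).left := by
  dsimp [φZ]
  exact IsIso.id _

/-- sections of the free presheaf on the image are locally all sections -/
lemma isIso_sheafify_T_ι [Epi f] :
    IsIso ((presheafToSheaf J AddCommGrpCat.{u}).map ((T (C := C)).map (Im J f).ι)) := by
  rw [← J.W_iff]
  haveI : Presheaf.IsLocallyInjective J ((T (C := C)).map (Im J f).ι) := by
    apply Presheaf.isLocallyInjective_of_injective
    intro X
    haveI : Mono ((Im J f).ι.app X) := by
      rw [mono_iff_injective]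
      exact Subtype.val_injective
    have : Mono (AddCommGrpCat.free.{u}.map ((Im J f).ι.app X)) := inferInstance
    exact (AddCommGrpCat.mono_iff_injective _).1 this
  haveI : Presheaf.IsLocallySurjective J ((T (C := C)).map (Im J f).ι) := by
    have hf : Presheaf.IsLocallySurjective J f.hom :=
      (Sheaf.isLocallySurjective_iff_epi f).2 inferInstance
    constructor
    intro U s
    change FreeAbelianGroup (K.obj.obj (op U)) at s
    induction s using FreeAbelianGroup.induction_on with
    | zero =>
      apply J.superset_covering _ (J.top_mem U)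
      intro V g _
      exact ⟨0, (map_zero _).trans (map_zero _).symm⟩
    | of k =>
      apply J.superset_covering _ (hf.imageSieve_mem k)
      rintro V g ⟨t, ht⟩
      refine ⟨FreeAbelianGroup.of ⟨K.obj.map g.op k, ⟨t, ht⟩⟩, ?_⟩
      change FreeAbelianGroup.map _ (FreeAbelianGroup.of _) =
        FreeAbelianGroup.map _ (FreeAbelianGroup.of _)
      rw [FreeAbelianGroup.map_of_apply, FreeAbelianGroup.map_of_apply]
      rfl
    | neg k ih =>
      apply J.superset_covering _ ih
      rintro V g ⟨t, ht⟩
      exact ⟨-t, (map_neg _ t).trans ((congrArg Neg.neg ht).trans (map_neg _ _).symm)⟩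
    | add x y hx hy =>
      apply J.superset_covering _ (J.intersection_covering hx hy)
      rintro V g ⟨⟨t, ht⟩, ⟨t', ht'⟩⟩
      exact ⟨t + t', (map_add _ t t').trans
        ((congrArg₂ (· + ·) ht ht').trans (map_add _ _ _).symm)⟩
  exact J.W_of_isLocallyBijective _

/-- sections over `U` -/
noncomputable abbrev Ψ (U : C) : Sheaf J (Type u) ⥤ Type u :=
  sheafToPresheaf J (Type u) ⋙ (evaluation Cᵒᵖ (Type u)).obj (op U)

/-- the two augmented simplicial abelian groups to be compared -/
noncomputable abbrev X₁ (U : C) : Augmented AddCommGrpCat.{u} :=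
  ((Augmented.whiskering _ _).obj AddCommGrpCat.free.{u}).obj (W (Arrow.mk f) (Ψ J U))

noncomputable abbrev X₂ (U : C) : Augmented AddCommGrpCat.{u} :=
  ((Augmented.whiskering _ _).obj ((evaluation Cᵒᵖ AddCommGrpCat.{u}).obj (op U))).obj
      (((Augmented.whiskering _ _).obj (T (C := C))).obj (Z' J f))

noncomputable def isoX (U : C) : X₁ J f U ≅ X₂ J f U :=
  Comma.isoMk (show (X₁ J f U).left ≅ (X₂ J f U).left from Iso.refl _)
    (show (X₁ J f U).right ≅ (X₂ J f U).right from Iso.refl _) (by
      refine NatTrans.ext (funext fun n => ?_)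
      dsimp
      have key : ((Z' J f).hom.app n).app (op U) = (W (Arrow.mk f) (Ψ J U)).hom.app n := by
        ext x
        exact Subtype.ext (map_coord (Arrow.mk f) (Ψ J U) x 0)
      refine (Category.id_comp _).trans (Eq.trans ?_ (Category.comp_id _).symm)
      dsimp [X₁, X₂, Augmented.whiskering, Augmented.whiskeringObj]
      rw [key]
      rfl)

/-- extra degeneracy, sectionwise -/
noncomputable def extraDegeneracyEval (U : C) : Augmented.ExtraDegeneracy (X₂ J f U) :=
  Augmented.ExtraDegeneracy.ofIso (isoX J f U)
    ((extraDegeneracy (Arrow.mk f) (Ψ J U)).map AddCommGrpCat.free.{u})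

/-- S6161 -/
theorem quasiIso_cechNerve_free [Epi f] :
    QuasiIso ((AlternatingFaceMapComplex.ε (C := Sheaf J AddCommGrpCat.{u})).app
      (((Augmented.whiskering _ _).obj (Sheaf.composeAndSheafify J AddCommGrpCat.free.{u})).obj
        (Arrow.mk f).augmentedCechNerve)) := by
  let a := presheafToSheaf J AddCommGrpCat.{u}
  let Y' : Augmented (Cᵒᵖ ⥤ AddCommGrpCat.{u}) :=
    ((Augmented.whiskering _ _).obj (T (C := C))).obj (Z' J f)
  -- sectionwise
  have h1 : ∀ U : C, QuasiIso (AlternatingFaceMapComplex.ε.app (X₂ J f U)) := fun U =>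
    inferInstanceAs (QuasiIso (extraDegeneracyEval J f U).homotopyEquiv.hom)
  have h3 : QuasiIso (AlternatingFaceMapComplex.ε.app Y') := by
    rw [HomologicalComplex.quasiIso_iff_evaluation]
    intro U
    exact (quasiIso_ε_whiskering_iff ((evaluation Cᵒᵖ AddCommGrpCat.{u}).obj U) Y').2 (h1 U.unop)
  -- sheafify
  haveI := h3
  have h4 : QuasiIso ((a.mapHomologicalComplex _).map (AlternatingFaceMapComplex.ε.app Y')) :=
    inferInstance
  have h5 := (quasiIso_ε_whiskering_iff a Y').1 h4
  -- compare
  let φ₃ := ((Augmented.whiskering _ _).obj a).map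
    (((Augmented.whiskering _ _).obj (T (C := C))).map (φZ J f))
  haveI : IsIso φ₃.left := by
    change IsIso (((SimplicialObject.whiskering _ _).obj a).map
      (((SimplicialObject.whiskering _ _).obj (T (C := C))).map (φZ J f).left))
    infer_instance
  haveI : IsIso φ₃.right := isIso_sheafify_T_ι J f
  have h6 := (quasiIso_ε_iff_of_hom φ₃).1 h5
  -- triple whiskering vs single whiskering
  let X₃ := ((Augmented.whiskering _ _).obj a).obj (((Augmented.whiskering _ _).obj (T (C := C))).obj
    (((Augmented.whiskering _ _).obj (sheafToPresheaf J (Type u))).obj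
      (Arrow.mk f).augmentedCechNerve))
  let X₄ := ((Augmented.whiskering _ _).obj (Sheaf.composeAndSheafify J AddCommGrpCat.free.{u})).obj
        (Arrow.mk f).augmentedCechNerve
  let e : X₃ ≅ X₄ := Comma.isoMk (show X₃.left ≅ X₄.left from Iso.refl _)
    (show X₃.right ≅ X₄.right from Iso.refl _) (by
      refine NatTrans.ext (funext fun n => ?_)
      dsimp
      refine (Category.id_comp _).trans (Eq.trans ?_ (Category.comp_id _).symm)
      dsimp [X₃, X₄, Augmented.whiskering, Augmented.whiskeringObj]
      simp
      rfl)
  exact (quasiIso_ε_iff_of_hom e.hom).1 h6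

end Groth.Agent.Lib.CechRes
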