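import Mathlib

/-!
# Ext groups and resolutions

Let `L ⟶ M[0]` be a resolution of `M` (a quasi-isomorphism from an `ℕ`-indexed chain complex) and
`N` the augmented (exact) complex.  We compare the cohomology of `Hom(L, F)` with `Ext(M, F)`
by dimension shifting along the cycles of `N`.
-/

set_option autoImplicit false
universe w v u
open CategoryTheory Limits Abelian HomologicalComplex ChainComplex

namespace Groth.Agent.Lib.ExtRes

variable {𝒜 : Type u} [Category.{v} 𝒜] [Abelian 𝒜]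

/-- the short exact sequence `0 ⟶ Z^i ⟶ K^i ⟶ Z^j ⟶ 0` of a complex exact at `j`, any shape -/
lemma shortExact_cycles' {ι : Type*} {c : ComplexShape ι} (K : HomologicalComplex 𝒜 c) (i j : ι)
    (hij : c.Rel i j) (h : K.ExactAt j) :
    (ShortComplex.mk (K.iCycles i) (K.toCycles i j) (by
      rw [← cancel_mono (K.iCycles j), Category.assoc, HomologicalComplex.toCycles_i,
        HomologicalComplex.iCycles_d, zero_comp])).ShortExact := by
  have hz : IsZero (K.homology j) :=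
    (HomologicalComplex.exactAt_iff_isZero_homology _ _).1 h
  haveI : Epi (K.toCycles i j) :=
    Preadditive.epi_of_isZero_cokernel' _ (K.homologyIsCokernel i j (c.prev_eq' hij)) hz
  exact
    { exact := ShortComplex.exact_of_f_is_kernel _
        (isKernelOfComp (K.iCycles j) (K.d i j)
          (K.cyclesIsKernel i j (c.next_eq' hij)) _ (K.toCycles_i i j)) }

section Augment

variable (L : ChainComplex 𝒜 ℕ) {M : 𝒜} (ε : L ⟶ (ChainComplex.single₀ 𝒜).obj M) [QuasiIso ε]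

include ε in
lemma exactAt_succ (n : ℕ) : L.ExactAt (n + 1) := by
  rw [← quasiIsoAt_iff_exactAt' ε (n + 1) (exactAt_succ_single_obj _ _)]
  infer_instance

omit [QuasiIso ε] in
lemma d_comp_ε : L.d 1 0 ≫ ε.f 0 = 0 := by
  rw [← ε.comm 1 0, single_obj_d, comp_zero]

set_option backward.isDefEq.respectTransparency.types false in
set_option backward.defeqAttrib.useBackward true in
/-- `M` is the cokernel of `L₁ ⟶ L₀` -/
noncomputable def isColimitCokernelCofork :
    IsColimit (CokernelCofork.ofπ (ε.f 0) (d_comp_ε L ε)) := by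
  refine IsColimit.ofIsoColimit (L.opcyclesIsCokernel 1 0 (by simp)) ?_
  refine Cofork.ext (L.isoHomologyι₀.symm ≪≫ isoOfQuasiIsoAt ε 0 ≪≫
    singleObjHomologySelfIso _ _ _) ?_
  rw [← cancel_mono (singleObjHomologySelfIso (ComplexShape.down ℕ) 0 _).inv,
    ← cancel_mono (isoHomologyι₀ _).hom]
  dsimp
  simp only [isoHomologyι₀_inv_naturality_assoc, p_opcyclesMap_assoc, ChainComplex.single₀_obj_zero,
    Category.assoc, Iso.hom_inv_id, Category.comp_id, isoHomologyι_inv_hom_id,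
    singleObjHomologySelfIso_inv_homologyι, singleObjOpcyclesSelfIso_hom,
    ChainComplex.single₀ObjXSelf, Iso.refl_inv, Category.id_comp]

/-- the augmented complex -/
noncomputable abbrev aug : ChainComplex 𝒜 ℕ := L.augment (ε.f 0) (d_comp_ε L ε)

lemma aug_exactAt (k : ℕ) : (aug L ε).ExactAt k := by
  match k with
  | 0 =>
    rw [HomologicalComplex.exactAt_iff' _ 1 0 0 (by simp) (by simp)]
    haveI : Epi (ε.f 0) := epi_of_isColimit_cofork (isColimitCokernelCofork L ε)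
    refine (ShortComplex.exact_iff_epi _ ((aug L ε).shape 0 0 (by simp))).2 ?_
    exact this
  | 1 =>
    rw [HomologicalComplex.exactAt_iff' _ 2 1 0 (by simp) (by simp)]
    exact ShortComplex.exact_of_g_is_cokernel _ (isColimitCokernelCofork L ε)
  | k + 2 =>
    rw [HomologicalComplex.exactAt_iff' _ (k + 3) (k + 2) (k + 1) (by simp) (by simp)]
    have := exactAt_succ L ε k
    rw [HomologicalComplex.exactAt_iff' _ (k + 2) (k + 1) k (by simp) (by simp)] at this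
    exact this

end Augment

section Exact

variable [HasExt.{w} 𝒜] (N : ChainComplex 𝒜 ℕ) (hN : ∀ k, N.ExactAt k) (F : 𝒜)

include hN in
/-- the short exact sequence `0 ⟶ Z_{k+1} ⟶ N_{k+1} ⟶ Z_k ⟶ 0` -/
lemma ses (k : ℕ) :
    (ShortComplex.mk (N.iCycles (k + 1)) (N.toCycles (k + 1) k) (by
      rw [← cancel_mono (N.iCycles k), Category.assoc, HomologicalComplex.toCycles_i,
        HomologicalComplex.iCycles_d, zero_comp])).ShortExact :=
  shortExact_cycles' N (k + 1) k (by simp) (hN k)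

lemma subsingleton_ext_of_iso {X X' : 𝒜} (e : X ≅ X') (i : ℕ)
    (h : Subsingleton (Ext.{w} X' F i)) :
    Subsingleton (Ext.{w} X F i) := by
  refine ⟨fun x y => ?_⟩
  have hx : ∀ z : Ext.{w} X F i, z = (Ext.mk₀ e.hom).comp ((Ext.mk₀ e.inv).comp z (zero_add i))
      (zero_add i) := fun z => by
    rw [Ext.mk₀_comp_mk₀_assoc, e.hom_inv_id, Ext.mk₀_id_comp]
  rw [hx x, hx y, Subsingleton.elim ((Ext.mk₀ e.inv).comp x (zero_add i))
    ((Ext.mk₀ e.inv).comp y (zero_add i))]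

/-- extension of morphisms along the monomorphism of a short exact sequence -/
lemma ext_lift (S : ShortComplex 𝒜) (hS : S.ShortExact) (h : Subsingleton (Ext.{w} S.X₃ F 1))
    (φ : S.X₁ ⟶ F) : ∃ ψ : S.X₂ ⟶ F, S.f ≫ ψ = φ := by
  obtain ⟨x₂, hx₂⟩ := Ext.contravariant_sequence_exact₁ hS F (Ext.mk₀ φ) (by rfl : 1 + 0 = 1)
    (Subsingleton.elim _ _)
  refine ⟨Ext.addEquiv₀ x₂, ?_⟩
  apply (Ext.mk₀_bijective _ _).1
  rw [← hx₂, ← Ext.mk₀_comp_mk₀, Ext.mk₀_addEquiv₀_apply]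

include hN in
lemma subsingleton_ext_cycles (hX : ∀ k i, 1 ≤ i → Subsingleton (Ext.{w} (N.X k) F i)) :
    ∀ k i, 1 ≤ i → Subsingleton (Ext.{w} (N.cycles k) F i) := by
  intro k
  induction k with
  | zero =>
    intro i hi
    exact subsingleton_ext_of_iso F (asIso (N.iCycles 0)) i (hX 0 i hi)
  | succ k ih =>
    intro i hi
    refine ⟨fun x y => ?_⟩
    have hS := ses N hN k
    have key : ∀ z : Ext.{w} (N.cycles (k + 1)) F i, z = 0 := fun z => by
      haveI := ih (1 + i) (by omega)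
      obtain ⟨x₂, hx₂⟩ := Ext.contravariant_sequence_exact₁ hS F z (rfl : 1 + i = 1 + i)
        (Subsingleton.elim _ _)
      haveI := hX (k + 1) i hi
      rw [← hx₂, Subsingleton.elim x₂ 0, Ext.comp_zero]
    rw [key x, key y]

include hN in
lemma exists_extension_cycles (hX : ∀ k i, 1 ≤ i → Subsingleton (Ext.{w} (N.X k) F i))
    (k : ℕ) (η : N.cycles k ⟶ F) : ∃ ψ : N.X k ⟶ F, N.iCycles k ≫ ψ = η := by
  cases k with
  | zero => exact ⟨inv (N.iCycles 0) ≫ η, by simp⟩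
  | succ m =>
    exact ext_lift F _ (ses N hN m) (subsingleton_ext_cycles N hN F hX m 1 le_rfl) η

include hN in
/-- `Hom(N, F)` is exact in positive degrees if all `Ext^i(N_k, F)`, `i ≥ 1`, vanish -/
lemma cech_exact (hX : ∀ k i, 1 ≤ i → Subsingleton (Ext.{w} (N.X k) F i))
    (k : ℕ) (φ : N.X (k + 1) ⟶ F) (hφ : N.d (k + 2) (k + 1) ≫ φ = 0) :
    ∃ ψ : N.X k ⟶ F, N.d (k + 1) k ≫ ψ = φ := by
  have hS := ses N hN k
  have hS' := ses N hN (k + 1)
  haveI : Epi (N.toCycles (k + 2) (k + 1)) := hS'.epi_g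
  have h1 : N.iCycles (k + 1) ≫ φ = 0 := by
    rw [← cancel_epi (N.toCycles (k + 2) (k + 1)), ← Category.assoc, N.toCycles_i, hφ, comp_zero]
  obtain ⟨φ', hφ'⟩ : ∃ φ' : N.cycles k ⟶ F, N.toCycles (k + 1) k ≫ φ' = φ :=
    ⟨hS.gIsCokernel.desc (CokernelCofork.ofπ φ h1),
      hS.gIsCokernel.fac (CokernelCofork.ofπ φ h1) WalkingParallelPair.one⟩
  obtain ⟨ψ, hψ⟩ := exists_extension_cycles N hN F hX k φ'
  exact ⟨ψ, by rw [← N.toCycles_i (k + 1) k, Category.assoc, hψ, hφ']⟩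

/-- restriction to the cycles is surjective on `Ext^m` -/
def A (j m : ℕ) : Prop :=
  ∀ y : Ext.{w} (N.cycles j) F m, ∃ z : Ext.{w} (N.X j) F m,
    (Ext.mk₀ (N.iCycles j)).comp z (zero_add m) = y

include hN in
lemma A_zero (j : ℕ)
    (hC : ∀ φ : N.X (j + 1) ⟶ F, N.d (j + 2) (j + 1) ≫ φ = 0 →
      ∃ ψ : N.X j ⟶ F, N.d (j + 1) j ≫ ψ = φ) : A N F j 0 := by
  intro y
  have hS := ses N hN j
  haveI : Epi (N.toCycles (j + 1) j) := hS.epi_g
  obtain ⟨ψ, hψ⟩ := hC (N.toCycles (j + 1) j ≫ Ext.addEquiv₀ y) (by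
    rw [← Category.assoc, N.d_toCycles, zero_comp])
  refine ⟨Ext.mk₀ ψ, ?_⟩
  rw [Ext.mk₀_comp_mk₀, ← Ext.mk₀_addEquiv₀_apply y]
  congr 1
  rw [← cancel_epi (N.toCycles (j + 1) j), ← Category.assoc, N.toCycles_i, hψ]

include hN in
/-- `A (j+1) m` implies that `Ext^{m+1}(Z_j, F) ⟶ Ext^{m+1}(N_{j+1}, F)` is injective -/
lemma inj_of_A (j m : ℕ) (hA : A N F (j + 1) m) (x : Ext.{w} (N.cycles j) F (m + 1))
    (hx : (Ext.mk₀ (N.toCycles (j + 1) j)).comp x (zero_add (m + 1)) = 0) : x = 0 := by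
  have hS := ses N hN j
  obtain ⟨x₁, hx₁⟩ := Ext.contravariant_sequence_exact₃ hS F x hx (add_comm 1 m)
  obtain ⟨z, hz⟩ := hA x₁
  rw [← hx₁, ← hz]
  exact hS.extClass_comp_assoc z

include hN in
lemma A_of_le (n : ℕ)
    (hL : ∀ k, 1 ≤ k → ∀ i, 1 ≤ i → i < n → Subsingleton (Ext.{w} (N.X k) F i))
    (hC : ∀ k, 1 ≤ k → ∀ φ : N.X (k + 1) ⟶ F, N.d (k + 2) (k + 1) ≫ φ = 0 →
      ∃ ψ : N.X k ⟶ F, N.d (k + 1) k ≫ ψ = φ) :
    ∀ m j, 1 ≤ j → j + m = n → A N F j m := by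
  intro m
  induction m with
  | zero =>
    intro j hj _
    exact A_zero N hN F j (hC j hj)
  | succ m ih =>
    intro j hj hjm
    have hA := ih (j + 1) (by omega) (by omega)
    intro y
    haveI := hL (j + 1) (by omega) (m + 1) (by omega) (by omega)
    have hy : y = 0 := inj_of_A N hN F j m hA y (Subsingleton.elim _ _)
    exact ⟨0, by rw [hy, Ext.comp_zero]⟩

include hN in
/-- if the lower `Ext` groups of the terms vanish and `Hom(N, F)` is exact in positive degrees,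
then `Ext^n(N_0, F) ⟶ Ext^n(N_1, F)` is injective -/
theorem ext_injective (n : ℕ) (hn : 1 ≤ n)
    (hL : ∀ k, 1 ≤ k → ∀ i, 1 ≤ i → i < n → Subsingleton (Ext.{w} (N.X k) F i))
    (hC : ∀ k, 1 ≤ k → ∀ φ : N.X (k + 1) ⟶ F, N.d (k + 2) (k + 1) ≫ φ = 0 →
      ∃ ψ : N.X k ⟶ F, N.d (k + 1) k ≫ ψ = φ)
    (x : Ext.{w} (N.X 0) F n) (hx : (Ext.mk₀ (N.d 1 0)).comp x (zero_add n) = 0) : x = 0 := by
  obtain ⟨m, rfl⟩ : ∃ m, n = m + 1 := ⟨n - 1, by omega⟩
  have hA := A_of_le N hN F (m + 1) hL hC m 1 le_rfl (by omega)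
  have h1 : (Ext.mk₀ (N.iCycles 0)).comp x (zero_add (m + 1)) = 0 := by
    apply inj_of_A N hN F 0 m hA
    rw [Ext.mk₀_comp_mk₀_assoc, N.toCycles_i]
    exact hx
  have h2 : x = (Ext.mk₀ (inv (N.iCycles 0))).comp
      ((Ext.mk₀ (N.iCycles 0)).comp x (zero_add (m + 1))) (zero_add (m + 1)) := by
    rw [Ext.mk₀_comp_mk₀_assoc, IsIso.inv_hom_id, Ext.mk₀_id_comp]
  rw [h2, h1, Ext.comp_zero]

end Exact

end Groth.Agent.Lib.ExtRes
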