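import Mathlib
import Groth.Prelude.Def_CohCx
import Groth.Agent.Lib.CechRes_helper2
import Groth.Agent.Lib.ExtRes_helper2

/-!
# Čech cohomology of epimorphisms of sheaves of sets and totally acyclic sheaves
-/

set_option autoImplicit false
universe u
open CategoryTheory Limits Opposite Simplicial AlgebraicTopology SimplicialObject Abelian

namespace Groth.Agent.Lib.CechAcyc
open Groth.Agent.Lib.CechRes Groth.Agent.Lib.ExtRes

variable {C : Type u} [SmallCategory C] {J : GrothendieckTopology C}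

/-- the free abelian sheaf functor -/
noncomputable abbrev G : Sheaf J (Type u) ⥤ Sheaf J AddCommGrpCat.{u} :=
  Sheaf.composeAndSheafify J AddCommGrpCat.free.{u}

variable {K' K : Sheaf J (Type u)} (f : K' ⟶ K)

/-- the augmented simplicial abelian sheaf `ℤ[Čech(f)] ⟶ ℤ[K]` -/
noncomputable abbrev Xf : Augmented (Sheaf J AddCommGrpCat.{u}) :=
  ((Augmented.whiskering _ _).obj (G (J := J))).obj (Arrow.mk f).augmentedCechNerve

/-- the Čech chain complex of free abelian sheaves -/
noncomputable abbrev Lf : ChainComplex (Sheaf J AddCommGrpCat.{u}) ℕ :=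
  AlternatingFaceMapComplex.obj (Xf f).left

/-- its augmentation -/
noncomputable abbrev εf : Lf f ⟶ (ChainComplex.single₀ _).obj ((G (J := J)).obj K) :=
  AlternatingFaceMapComplex.ε.app (Xf f)

instance [Epi f] : QuasiIso (εf f) := quasiIso_cechNerve_free J f

variable (F : Sheaf J AddCommGrpCat.{u})

/-- evaluation at an element, as an additive map -/
def evalHom {M N : AddCommGrpCat.{u}} (x : M) : (M ⟶ N) →+ N where
  toFun g := g x
  map_zero' := rfl
  map_add' _ _ := rfl

/-- view a morphism `ℤ[K'_n] ⟶ F` as a Čech cochain -/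
abbrev toCochain (n : ℕ) (φ : (Lf f).X n ⟶ F) : (CohCx.cechNerveCx F f).X n := φ

/-- the differential of the Čech complex is precomposition with the differential of `Lf` -/
lemma cechNerveCx_d_apply (n : ℕ) (φ : (Lf f).X n ⟶ F) :
    ((CohCx.cechNerveCx F f).d n (n + 1)) (toCochain f F n φ) =
      toCochain f F (n + 1) ((Lf f).d (n + 1) n ≫ φ) := by
  have h1 : (CohCx.cechNerveCx F f).d n (n + 1) = AlternatingCofaceMapComplex.objD
      (show CosimplicialObject AddCommGrpCat.{u} from
        (Arrow.mk f).cechNerve.rightOp ⋙ CohCx.HK0Functor J F) n := by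
    dsimp [CohCx.cechNerveCx, alternatingCofaceMapComplex, AlternatingCofaceMapComplex.obj]
    exact CochainComplex.of_d _ _ _
  rw [h1]
  have h2 := AlternatingFaceMapComplex.obj_d_eq (Xf f).left n
  rw [h2, Preadditive.sum_comp]
  simp only [AlternatingCofaceMapComplex.objD]
  change evalHom (toCochain f F n φ) (∑ i, _) = _
  rw [map_sum]
  refine Finset.sum_congr rfl fun i _ => ?_
  refine (map_zsmul (evalHom (N := (CohCx.cechNerveCx F f).X (n + 1)) (toCochain f F n φ))
    _ _).trans ?_
  rw [Preadditive.zsmul_comp]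
  rfl

/-- vanishing of Čech cohomology in degree `q+1` in terms of `Lf` -/
lemma isZero_cech_iff (q : ℕ) :
    IsZero ((CohCx.cechNerveCx F f).homology (q + 1)) ↔
      ∀ φ : (Lf f).X (q + 1) ⟶ F, (Lf f).d (q + 2) (q + 1) ≫ φ = 0 →
        ∃ ψ : (Lf f).X q ⟶ F, (Lf f).d (q + 1) q ≫ ψ = φ := by
  rw [← HomologicalComplex.exactAt_iff_isZero_homology,
    HomologicalComplex.exactAt_iff' _ q (q + 1) (q + 2) (by simp) (by simp),
    ShortComplex.ab_exact_iff]
  constructor
  · intro h φ hφ
    obtain ⟨ψ, hψ⟩ := h (toCochain f F (q + 1) φ) (by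
      change (CohCx.cechNerveCx F f).d (q + 1) (q + 2) (toCochain f F (q + 1) φ) = 0
      rw [cechNerveCx_d_apply, hφ]
      rfl)
    exact ⟨ψ, (cechNerveCx_d_apply f F q ψ).symm.trans hψ⟩
  · intro h x hx
    obtain ⟨ψ, hψ⟩ := h x (by
      have := cechNerveCx_d_apply f F (q + 1) x
      exact this.symm.trans hx)
    exact ⟨ψ, (cechNerveCx_d_apply f F q ψ).trans hψ⟩

/-- S6151 -/
theorem cech_acyclic_of_totallyAcyclic (hF : CohCx.IsTotallyAcyclic F) [Epi f] (q : ℕ) :
    IsZero ((CohCx.cechNerveCx F f).homology (q + 1)) := by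
  rw [isZero_cech_iff]
  intro φ hφ
  have hN := aug_exactAt (Lf f) (εf f)
  have hX : ∀ k i, 1 ≤ i → Subsingleton (Ext ((aug (Lf f) (εf f)).X k) F i) := by
    intro k i hi
    obtain ⟨p, rfl⟩ : ∃ p, i = p + 1 := ⟨i - 1, by omega⟩
    cases k with
    | zero => exact hF K p
    | succ k => exact hF ((Arrow.mk f).cechNerve.obj (op ⦋k⦌)) p
  exact cech_exact (aug (Lf f) (εf f)) hN F hX (q + 1) φ hφ

end Groth.Agent.Lib.CechAcyc
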