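import Mathlib
import Groth.Prelude.Def_CohCx
import Groth.Agent.Lib.CechAcyc_helper2

/-!
# Čech-acyclic sheaves are totally acyclic
-/

set_option autoImplicit false
universe u
open CategoryTheory Limits Opposite Simplicial AlgebraicTopology SimplicialObject Abelian

namespace Groth.Agent.Lib.CechTot
open Groth.Agent.Lib.CechRes Groth.Agent.Lib.ExtRes Groth.Agent.Lib.CechAcyc

variable {C : Type u} [SmallCategory C] {J : GrothendieckTopology C}

/-- epimorphisms of sheaves of sets are stable under base change -/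
lemma epi_pullback_fst {K E B : Sheaf J (Type u)} (s : K ⟶ B) (p : E ⟶ B) [Epi p] :
    Epi (pullback.fst s p) := by
  rw [← Sheaf.isLocallySurjective_iff_epi]
  haveI hp : Sheaf.IsLocallySurjective p := (Sheaf.isLocallySurjective_iff_epi p).2 inferInstance
  constructor
  intro V x
  have h1 := Presheaf.imageSieve_mem J p.hom (s.hom.app (op V) x)
  refine J.superset_covering ?_ h1
  rintro W g ⟨y, hy⟩
  let Ψ : Sheaf J (Type u) ⥤ Type u := sheafToPresheaf J (Type u) ⋙ (evaluation _ _).obj (op W)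
  have hpb : IsPullback (Ψ.map (pullback.fst s p)) (Ψ.map (pullback.snd s p)) (Ψ.map s)
      (Ψ.map p) := (IsPullback.of_hasPullback s p).map Ψ
  obtain ⟨t, ht1, ht2⟩ := Types.exists_of_isPullback hpb (K.obj.map g.op x) y (by
    have := ConcreteCategory.congr_hom (s.hom.naturality g.op) x
    exact this.trans hy.symm)
  exact ⟨t, ht1⟩

variable {𝒜 : Type*} [Category 𝒜] [Abelian 𝒜] [EnoughInjectives 𝒜]

/-- the short complex `F ⟶ I ⟶ I/F` with `I` injective -/
noncomputable def injSC (F : 𝒜) : ShortComplex 𝒜 :=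
  ShortComplex.mk (Injective.ι F) (cokernel.π (Injective.ι F)) (cokernel.condition _)

lemma injSC_shortExact (F : 𝒜) : (injSC F).ShortExact := by
  haveI : Mono (injSC F).f := by dsimp [injSC]; infer_instance
  haveI : Epi (injSC F).g := by dsimp [injSC]; infer_instance
  exact { exact := ShortComplex.exact_of_g_is_cokernel _ (cokernelIsCokernel _) }

instance (F : 𝒜) : Injective (injSC F).X₂ := by dsimp [injSC]; infer_instance

/-- the free ⊣ forget adjunction on sheaves -/
noncomputable abbrev adjG : (G (J := J)) ⊣ sheafCompose J (forget AddCommGrpCat.{u}) :=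
  Sheaf.adjunction J AddCommGrpCat.adj

lemma local_triv_one_aux (S : ShortComplex (Sheaf J AddCommGrpCat.{u})) (hS : S.ShortExact)
    [Injective S.X₂] (K : Sheaf J (Type u)) (ξ : Ext ((G (J := J)).obj K) S.X₁ 1) :
    ∃ (K' : Sheaf J (Type u)) (f : K' ⟶ K), Epi f ∧
      (Ext.mk₀ ((G (J := J)).map f)).comp ξ (zero_add 1) = 0 := by
  have h0 : ξ.comp (Ext.mk₀ S.f) (add_zero 1) = 0 := Ext.eq_zero_of_injective _
  obtain ⟨η, hη⟩ := Ext.covariant_sequence_exact₁ _ hS ξ h0 (rfl : 0 + 1 = 1)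
  let s : (G (J := J)).obj K ⟶ S.X₃ := Ext.addEquiv₀ η
  have hη' : η = Ext.mk₀ s := (Ext.mk₀_addEquiv₀_apply η).symm
  let s' : K ⟶ (sheafCompose J (forget AddCommGrpCat.{u})).obj S.X₃ :=
    (adjG (J := J)).homEquiv K S.X₃ s
  let p' := (sheafCompose J (forget AddCommGrpCat.{u})).map S.g
  haveI : Epi S.g := hS.epi_g
  haveI : Sheaf.IsLocallySurjective S.g :=
    (Sheaf.isLocallySurjective_iff_epi' _ S.g).2 inferInstance
  haveI : Sheaf.IsLocallySurjective p' := inferInstance
  haveI : Epi p' := (Sheaf.isLocallySurjective_iff_epi p').1 inferInstance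
  haveI := epi_pullback_fst s' p'
  let t : (G (J := J)).obj (pullback s' p') ⟶ S.X₂ :=
    ((adjG (J := J)).homEquiv _ _).symm (pullback.snd s' p')
  have key : (G (J := J)).map (pullback.fst s' p') ≫ s = t ≫ S.g := by
    apply ((adjG (J := J)).homEquiv _ _).injective
    rw [Adjunction.homEquiv_naturality_left, Adjunction.homEquiv_naturality_right,
      Equiv.apply_symm_apply]
    exact pullback.condition
  refine ⟨pullback s' p', pullback.fst s' p', inferInstance, ?_⟩
  rw [← hη, hη', Ext.mk₀_comp_mk₀_assoc, key, ← Ext.mk₀_comp_mk₀_assoc, hS.comp_extClass,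
    Ext.comp_zero]

lemma local_triv_succ_aux (S : ShortComplex (Sheaf J AddCommGrpCat.{u})) (hS : S.ShortExact)
    [Injective S.X₂] (n : ℕ)
    (ih : ∀ (K : Sheaf J (Type u)) (η : Ext ((G (J := J)).obj K) S.X₃ (n + 1)),
      ∃ (K' : Sheaf J (Type u)) (f : K' ⟶ K), Epi f ∧
        (Ext.mk₀ ((G (J := J)).map f)).comp η (zero_add (n + 1)) = 0)
    (K : Sheaf J (Type u)) (ξ : Ext ((G (J := J)).obj K) S.X₁ (n + 1 + 1)) :
    ∃ (K' : Sheaf J (Type u)) (f : K' ⟶ K), Epi f ∧
      (Ext.mk₀ ((G (J := J)).map f)).comp ξ (zero_add (n + 1 + 1)) = 0 := by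
  have h0 : ξ.comp (Ext.mk₀ S.f) (add_zero (n + 1 + 1)) = 0 :=
    Ext.eq_zero_of_injective _
  obtain ⟨η, hη⟩ := Ext.covariant_sequence_exact₁ _ hS ξ h0 (rfl : (n + 1) + 1 = n + 1 + 1)
  obtain ⟨K', f, hf, h⟩ := ih K η
  refine ⟨K', f, hf, ?_⟩
  rw [← hη]
  refine (Ext.comp_assoc (Ext.mk₀ ((G (J := J)).map f)) η hS.extClass (zero_add (n + 1)) rfl
    (by omega)).symm.trans ?_
  rw [h, Ext.zero_comp]

lemma local_triv (n : ℕ) : ∀ (F : Sheaf J AddCommGrpCat.{u}) (K : Sheaf J (Type u))
    (ξ : Ext ((G (J := J)).obj K) F (n + 1)),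
    ∃ (K' : Sheaf J (Type u)) (f : K' ⟶ K), Epi f ∧
      (Ext.mk₀ ((G (J := J)).map f)).comp ξ (zero_add (n + 1)) = 0 := by
  induction n with
  | zero =>
    intro F K ξ
    exact local_triv_one_aux (injSC F) (injSC_shortExact F) K ξ
  | succ n ih =>
    intro F K ξ
    exact local_triv_succ_aux (injSC F) (injSC_shortExact F) n (ih (injSC F).X₃) K ξ

/-- S12106 -/
theorem totallyAcyclic_of_cech (F : Sheaf J AddCommGrpCat.{u})
    (h : ∀ (K' K : Sheaf J (Type u)) (f : K' ⟶ K), Epi f →
      ∀ q : ℕ, IsZero ((CohCx.cechNerveCx F f).homology (q + 1))) :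
    CohCx.IsTotallyAcyclic F := by
  have main : ∀ (n : ℕ) (K : Sheaf J (Type u)),
      Subsingleton (Ext ((G (J := J)).obj K) F (n + 1)) := by
    intro n
    induction n using Nat.strong_induction_on with
    | _ n ih =>
      intro K
      refine subsingleton_of_forall_eq 0 fun ξ => ?_
      obtain ⟨K', f, hf, hξ⟩ := local_triv n F K ξ
      haveI := hf
      have hN := aug_exactAt (Lf f) (εf f)
      refine ext_injective (aug (Lf f) (εf f)) hN F (n + 1) (by omega) ?_ ?_ ξ ?_
      · intro k hk i hi hin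
        obtain ⟨k', rfl⟩ : ∃ k', k = k' + 1 := ⟨k - 1, by omega⟩
        obtain ⟨i', rfl⟩ : ∃ i', i = i' + 1 := ⟨i - 1, by omega⟩
        exact ih i' (by omega) ((Arrow.mk f).cechNerve.obj (op ⦋k'⦌))
      · intro k hk φ hφ
        obtain ⟨q, rfl⟩ : ∃ q, k = q + 1 := ⟨k - 1, by omega⟩
        exact (isZero_cech_iff f F q).1 (h K' K f hf q) φ hφ
      · have hd : (aug (Lf f) (εf f)).d 1 0 =
            (G (J := J)).map (WidePullback.π (fun _ : Fin (0 + 1) => (Arrow.mk f).hom) 0) ≫
              (G (J := J)).map f := by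
          rw [← Functor.map_comp]
          have : WidePullback.π (fun _ : Fin (0 + 1) => (Arrow.mk f).hom) 0 ≫ f =
              WidePullback.base (fun _ : Fin (0 + 1) => (Arrow.mk f).hom) :=
            WidePullback.π_arrow _ _
          rw [this]
          change (εf f).f 0 = _
          rw [AlternatingFaceMapComplex.ε_app_f_zero]
          change (G (J := J)).map ((Arrow.mk f).augmentedCechNerve.hom.app (op ⦋0⦌)) ≫ 𝟙 _ = _
          rw [Category.comp_id]
          rfl
        rw [hd]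
        refine (Ext.mk₀_comp_mk₀_assoc _ _ ξ).symm.trans ?_
        rw [hξ, Ext.comp_zero]
  intro K p
  exact main p K

end Groth.Agent.Lib.CechTot
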