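import Mathlib
import Groth.Prelude.Def_CohCx
import Groth.Agent.Lib.CechTot_helper2

/-!
# Direct images of totally acyclic sheaves
-/

set_option autoImplicit false
universe u
open CategoryTheory Limits Opposite Simplicial AlgebraicTopology SimplicialObject Abelian

namespace Groth.Agent.Lib.PushTot
open Groth.Agent.Lib.CechRes Groth.Agent.Lib.ExtRes Groth.Agent.Lib.CechAcyc
  Groth.Agent.Lib.CechTot

section CechPres

universe v₁ v₂ u₁ u₂
variable {𝒮 : Type u₁} [Category.{v₁} 𝒮] {𝒯 : Type u₂} [Category.{v₂} 𝒯] (Φ : 𝒮 ⥤ 𝒯)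
  (f : Arrow 𝒮)
  [∀ n : ℕ, HasWidePullback f.right (fun _ : Fin (n + 1) => f.left) fun _ => f.hom]
  [∀ n : ℕ, HasWidePullback (Arrow.mk (Φ.map f.hom)).right
    (fun _ : Fin (n + 1) => (Arrow.mk (Φ.map f.hom)).left) fun _ => (Arrow.mk (Φ.map f.hom)).hom]

/-- the comparison map `Φ (Čech_n f) ⟶ Čech_n (Φ f)` -/
noncomputable def cechComp (n : SimplexCategoryᵒᵖ) :
    Φ.obj (f.cechNerve.obj n) ⟶ (Arrow.mk (Φ.map f.hom)).cechNerve.obj n :=
  WidePullback.lift (Φ.map (WidePullback.base fun _ : Fin (n.unop.len + 1) => f.hom))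
    (fun i => Φ.map (WidePullback.π (fun _ : Fin (n.unop.len + 1) => f.hom) i))
    (fun i => by
      dsimp
      rw [← Φ.map_comp, WidePullback.π_arrow])

lemma cechComp_π (n : SimplexCategoryᵒᵖ) (i : Fin (n.unop.len + 1)) :
    cechComp Φ f n ≫ WidePullback.π
      (fun _ : Fin (n.unop.len + 1) => (Arrow.mk (Φ.map f.hom)).hom) i =
      Φ.map (WidePullback.π (fun _ : Fin (n.unop.len + 1) => f.hom) i) :=
  WidePullback.lift_π _ _ _ _ _

lemma cechComp_base (n : SimplexCategoryᵒᵖ) :
    cechComp Φ f n ≫ WidePullback.base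
      (fun _ : Fin (n.unop.len + 1) => (Arrow.mk (Φ.map f.hom)).hom) =
      Φ.map (WidePullback.base fun _ : Fin (n.unop.len + 1) => f.hom) :=
  WidePullback.lift_base _ _ _ _

omit [∀ n : ℕ, HasWidePullback (Arrow.mk (Φ.map f.hom)).right
    (fun _ : Fin (n + 1) => (Arrow.mk (Φ.map f.hom)).left) fun _ => (Arrow.mk (Φ.map f.hom)).hom] in
lemma cechNerve_map_π {n m : SimplexCategoryᵒᵖ} (g : n ⟶ m) (i : Fin (m.unop.len + 1)) :
    f.cechNerve.map g ≫ WidePullback.π (fun _ : Fin (m.unop.len + 1) => f.hom) i =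
      WidePullback.π (fun _ : Fin (n.unop.len + 1) => f.hom) (g.unop.toOrderHom i) := by
  dsimp [Arrow.cechNerve]
  exact WidePullback.lift_π _ _ _ _ _

omit [∀ n : ℕ, HasWidePullback (Arrow.mk (Φ.map f.hom)).right
    (fun _ : Fin (n + 1) => (Arrow.mk (Φ.map f.hom)).left) fun _ => (Arrow.mk (Φ.map f.hom)).hom] in
lemma cechNerve_map_base {n m : SimplexCategoryᵒᵖ} (g : n ⟶ m) :
    f.cechNerve.map g ≫ WidePullback.base (fun _ : Fin (m.unop.len + 1) => f.hom) =
      WidePullback.base (fun _ : Fin (n.unop.len + 1) => f.hom) := by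
  dsimp [Arrow.cechNerve]
  exact WidePullback.lift_base _ _ _ _

lemma cechComp_naturality {n m : SimplexCategoryᵒᵖ} (g : n ⟶ m) :
    Φ.map (f.cechNerve.map g) ≫ cechComp Φ f m =
      cechComp Φ f n ≫ (Arrow.mk (Φ.map f.hom)).cechNerve.map g := by
  apply WidePullback.hom_ext
  · intro i
    rw [Category.assoc, Category.assoc, cechComp_π, cechNerve_map_π, cechComp_π, ← Φ.map_comp,
      cechNerve_map_π]
  · rw [Category.assoc, Category.assoc, cechComp_base, cechNerve_map_base, cechComp_base,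
      ← Φ.map_comp, cechNerve_map_base]

variable [∀ n : ℕ, PreservesLimit (WidePullbackShape.wideCospan f.right
  (fun _ : Fin (n + 1) => f.left) fun _ => f.hom) Φ]

instance (n : SimplexCategoryᵒᵖ) : IsIso (cechComp Φ f n) := by
  have hl := isLimitOfPreserves Φ (limit.isLimit (WidePullbackShape.wideCospan f.right
    (fun _ : Fin (n.unop.len + 1) => f.left) fun _ => f.hom))
  let P : 𝒯 := (Arrow.mk (Φ.map f.hom)).cechNerve.obj n
  let b : P ⟶ Φ.obj f.right :=
    WidePullback.base fun _ : Fin (n.unop.len + 1) => (Arrow.mk (Φ.map f.hom)).hom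
  let p : ∀ _ : Fin (n.unop.len + 1), P ⟶ Φ.obj f.left := fun i =>
    WidePullback.π (fun _ : Fin (n.unop.len + 1) => (Arrow.mk (Φ.map f.hom)).hom) i
  have w : ∀ i, p i ≫ Φ.map f.hom = b := fun i =>
    WidePullback.π_arrow (fun _ : Fin (n.unop.len + 1) => (Arrow.mk (Φ.map f.hom)).hom) i
  let c : Cone (WidePullbackShape.wideCospan f.right (fun _ : Fin (n.unop.len + 1) => f.left)
      (fun _ => f.hom) ⋙ Φ) :=
    WidePullbackShape.mkCone (F := WidePullbackShape.wideCospan f.right
      (fun _ : Fin (n.unop.len + 1) => f.left) (fun _ => f.hom) ⋙ Φ) (X := P) b p w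
  have hfac : ∀ j, hl.lift c ≫ (Φ.mapCone (limit.cone (WidePullbackShape.wideCospan f.right
    (fun _ : Fin (n.unop.len + 1) => f.left) fun _ => f.hom))).π.app j = c.π.app j := hl.fac c
  refine ⟨hl.lift c, ?_, ?_⟩
  · apply hl.hom_ext
    intro j
    refine (Category.assoc _ _ _).trans ?_
    refine (congrArg (fun t => cechComp Φ f n ≫ t) (hfac j)).trans ?_
    refine Eq.trans ?_ (Category.id_comp _).symm
    cases j with
    | none => exact cechComp_base Φ f n
    | some i => exact cechComp_π Φ f n i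
  · apply WidePullback.hom_ext
    · intro i
      refine (Category.assoc _ _ _).trans ?_
      refine (congrArg (fun t => hl.lift c ≫ t) (cechComp_π Φ f n i)).trans ?_
      refine Eq.trans ?_ (Category.id_comp _).symm
      exact hfac (some i)
    · refine (Category.assoc _ _ _).trans ?_
      refine (congrArg (fun t => hl.lift c ≫ t) (cechComp_base Φ f n)).trans ?_
      refine Eq.trans ?_ (Category.id_comp _).symm
      exact hfac none

/-- a functor preserving the relevant wide pullbacks commutes with Čech nerves -/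
noncomputable def cechNerveIso : f.cechNerve ⋙ Φ ≅ (Arrow.mk (Φ.map f.hom)).cechNerve :=
  NatIso.ofComponents (fun n => asIso (cechComp Φ f n)) (fun g => cechComp_naturality Φ f g)

end CechPres

section Transfer

variable {𝒜 ℬ : Type*} [Category 𝒜] [Category ℬ] [Preadditive 𝒜] [Preadditive ℬ]

/-- exactness of `Hom(AFMC X, F)` at `q+1` -/
def E (X : SimplicialObject 𝒜) (F : 𝒜) (q : ℕ) : Prop :=
  ∀ φ : (AlternatingFaceMapComplex.obj X).X (q + 1) ⟶ F,
    (AlternatingFaceMapComplex.obj X).d (q + 2) (q + 1) ≫ φ = 0 →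
    ∃ ψ : (AlternatingFaceMapComplex.obj X).X q ⟶ F,
      (AlternatingFaceMapComplex.obj X).d (q + 1) q ≫ ψ = φ

lemma E_of_iso {X X' : SimplicialObject 𝒜} (e : X ≅ X') (F : 𝒜) (q : ℕ) (h : E X' F q) :
    E X F q := by
  intro φ hφ
  let ê : AlternatingFaceMapComplex.obj X ≅ AlternatingFaceMapComplex.obj X' :=
    (alternatingFaceMapComplex 𝒜).mapIso e
  obtain ⟨ψ', hψ'⟩ := h (ê.inv.f (q + 1) ≫ φ) (by
    rw [← Category.assoc, ← ê.inv.comm, Category.assoc, hφ, comp_zero])
  refine ⟨ê.hom.f q ≫ ψ', ?_⟩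
  rw [← Category.assoc, ← ê.hom.comm, Category.assoc, hψ', ← Category.assoc,
    ← HomologicalComplex.comp_f, ê.hom_inv_id, HomologicalComplex.id_f, Category.id_comp]

lemma afmc_d_comp (Φ : 𝒜 ⥤ ℬ) [Φ.Additive] (X : SimplicialObject 𝒜) (n : ℕ) :
    (AlternatingFaceMapComplex.obj (((SimplicialObject.whiskering _ _).obj Φ).obj X)).d (n + 1) n =
      Φ.map ((AlternatingFaceMapComplex.obj X).d (n + 1) n) := by
  rw [AlternatingFaceMapComplex.obj_d_eq, AlternatingFaceMapComplex.obj_d_eq, Functor.map_sum]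
  refine Finset.sum_congr rfl fun i _ => ?_
  rw [Functor.map_zsmul]
  rfl

lemma E_of_adj {Φ : 𝒜 ⥤ ℬ} {R : ℬ ⥤ 𝒜} (adj : Φ ⊣ R) [Φ.Additive] (X : SimplicialObject 𝒜)
    (F : ℬ) (q : ℕ) (h : E (((SimplicialObject.whiskering _ _).obj Φ).obj X) F q) :
    E X (R.obj F) q := by
  intro φ hφ
  obtain ⟨ψ', hψ'⟩ := h ((adj.homEquiv _ _).symm φ) (by
    rw [afmc_d_comp]
    refine (adj.homEquiv_naturality_left_symm _ _).symm.trans ?_
    rw [hφ, Adjunction.homEquiv_counit, Functor.map_zero, zero_comp]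
    rfl)
  refine ⟨adj.homEquiv _ _ ψ', ?_⟩
  refine (adj.homEquiv_naturality_left _ _).symm.trans ?_
  rw [← afmc_d_comp]
  exact (congrArg (adj.homEquiv _ _) hψ').trans (Equiv.apply_symm_apply _ _)

end Transfer

section Sites

variable {C D : Type u} [SmallCategory C] [SmallCategory D] (J : GrothendieckTopology C)
  (K : GrothendieckTopology D) (u : D ⥤ C) [u.IsContinuous K J]

/-- pullback of sheaves of sets -/
noncomputable abbrev pullS : Sheaf K (Type u) ⥤ Sheaf J (Type u) :=
  u.sheafPullback (Type u) K J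

/-- pullback of abelian sheaves -/
noncomputable abbrev pullA : Sheaf K AddCommGrpCat.{u} ⥤ Sheaf J AddCommGrpCat.{u} :=
  u.sheafPullback AddCommGrpCat.{u} K J

instance : (pullA J K u).Additive :=
  (u.sheafAdjunctionContinuous AddCommGrpCat.{u} K J).left_adjoint_additive

/-- pushforward commutes with the forgetful functors -/
noncomputable def rightIso : CohSite.push J K u ⋙ sheafCompose K (forget AddCommGrpCat.{u}) ≅
    sheafCompose J (forget AddCommGrpCat.{u}) ⋙ u.sheafPushforwardContinuous (Type u) K J :=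
  NatIso.ofComponents (fun F => Iso.refl _) (by intros; ext; rfl)

/-- pullback commutes with the free abelian sheaf functors -/
noncomputable def α : G (J := K) ⋙ pullA J K u ≅ pullS J K u ⋙ G (J := J) :=
  ((conjugateIsoEquiv
    ((adjG (J := K)).comp (u.sheafAdjunctionContinuous AddCommGrpCat.{u} K J))
    ((u.sheafAdjunctionContinuous (Type u) K J).comp (adjG (J := J)))).symm (rightIso J K u)).symm

instance : (pullS J K u).IsLeftAdjoint := (u.sheafAdjunctionContinuous (Type u) K J).isLeftAdjoint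

variable [∀ n : ℕ, PreservesLimitsOfShape (WidePullbackShape (Fin (n + 1))) (pullS J K u)]

/-- Theorem A -/
theorem push_totallyAcyclic (F : Sheaf J AddCommGrpCat.{u}) (hF : CohCx.IsTotallyAcyclic F) :
    CohCx.IsTotallyAcyclic ((CohSite.push J K u).obj F) := by
  apply totallyAcyclic_of_cech
  intro L' L f hf q
  haveI := hf
  let g := (pullS J K u).map f
  haveI : Epi g :=
    (Functor.preservesEpimorphisms_of_adjunction
      (u.sheafAdjunctionContinuous (Type u) K J)).preserves f
  have h1 : E (Xf g).left F q := (isZero_cech_iff g F q).1 (cech_acyclic_of_totallyAcyclic g F hF q)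
  let e : ((SimplicialObject.whiskering _ _).obj (pullA J K u)).obj (Xf f).left ≅ (Xf g).left :=
    show (Arrow.mk f).cechNerve ⋙ G (J := K) ⋙ pullA J K u ≅
      (Arrow.mk ((pullS J K u).map (Arrow.mk f).hom)).cechNerve ⋙ G (J := J) from
    Functor.isoWhiskerLeft _ (α J K u) ≪≫ (Functor.associator _ _ _).symm ≪≫
      Functor.isoWhiskerRight (cechNerveIso (pullS J K u) (Arrow.mk f)) _
  have h2 := E_of_iso e F q h1
  have h3 := E_of_adj (u.sheafAdjunctionContinuous AddCommGrpCat.{u} K J) (Xf f).left F q h2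
  exact (isZero_cech_iff f _ q).2 h3

end Sites

end Groth.Agent.Lib.PushTot
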