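import Mathlib
import Groth.Prelude.Def_CohCx
import Groth.Agent.Lib.PushTot_helper2
import Groth.Agent.Lib.FreeSheaf_helper2

/-!
# Direct images of sheaves which are acyclic on the objects of the site
-/

set_option autoImplicit false
universe u
open CategoryTheory Limits Opposite Abelian

namespace Groth.Agent.Lib.PushAcyc
open Groth.Agent.Lib.ExtRes Groth.Agent.Lib.CechAcyc Groth.Agent.Lib.CechTot
  Groth.Agent.Lib.PushTot Groth.Agent.Lib.FreeSheaf

variable {C D : Type u} [SmallCategory C] [SmallCategory D] (J : GrothendieckTopology C)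
  (K : GrothendieckTopology D) (u : D ⥤ C) [u.IsContinuous K J]

/-- acyclic on the objects of the site -/
def ObjAcyclic (F : Sheaf J AddCommGrpCat.{u}) : Prop :=
  ∀ (U : C) (q : ℕ), Subsingleton (Ext (freeSheaf J U) F (q + 1))

variable {J}

lemma injective_totallyAcyclic (I : Sheaf J AddCommGrpCat.{u}) [Injective I] :
    CohCx.IsTotallyAcyclic I := fun _ p => Ext.subsingleton_of_injective _ I p

lemma objAcyclic_of_totallyAcyclic (F : Sheaf J AddCommGrpCat.{u})
    (hF : CohCx.IsTotallyAcyclic F) : ObjAcyclic J F := by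
  intro U q
  let L : Sheaf J (Type u) := (presheafToSheaf J (Type u)).obj (yoneda.obj U)
  let e : freeSheaf J U ≅ (presheafToSheaf J AddCommGrpCat.{u}).obj
      (L.obj ⋙ AddCommGrpCat.free.{u}) :=
    ((presheafToSheafCompComposeAndSheafifyIso J AddCommGrpCat.free.{u}).app (yoneda.obj U)).symm
  exact subsingleton_ext_of_iso F e (q + 1) (hF L q)

lemma objAcyclic_coker (S : ShortComplex (Sheaf J AddCommGrpCat.{u})) (hS : S.ShortExact)
    [Injective S.X₂] (h : ObjAcyclic J S.X₁) : ObjAcyclic J S.X₃ := by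
  intro U q
  refine subsingleton_of_forall_eq 0 fun x₃ => ?_
  have h1 : x₃.comp hS.extClass (rfl : q + 1 + 1 = q + 1 + 1) = 0 := by
    haveI := h U (q + 1)
    exact Subsingleton.elim _ _
  obtain ⟨x₂, hx₂⟩ := Ext.covariant_sequence_exact₃ _ hS x₃ rfl h1
  rw [← hx₂, Ext.eq_zero_of_injective x₂, Ext.zero_comp]

lemma lift_hom (S : ShortComplex (Sheaf J AddCommGrpCat.{u})) (hS : S.ShortExact) (U : C)
    (h1 : Subsingleton (Ext (freeSheaf J U) S.X₁ 1)) (s : freeSheaf J U ⟶ S.X₃) :
    ∃ t : freeSheaf J U ⟶ S.X₂, t ≫ S.g = s := by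
  have h0 : (Ext.mk₀ s).comp hS.extClass (zero_add 1) = 0 := Subsingleton.elim _ _
  obtain ⟨x₂, hx₂⟩ := Ext.covariant_sequence_exact₃ _ hS (Ext.mk₀ s) (zero_add 1) h0
  refine ⟨Ext.addEquiv₀ x₂, ?_⟩
  apply (Ext.mk₀_bijective _ _).1
  rw [← Ext.mk₀_comp_mk₀, Ext.mk₀_addEquiv₀_apply]
  exact hx₂

lemma surj_sections (S : ShortComplex (Sheaf J AddCommGrpCat.{u})) (hS : S.ShortExact) (U : C)
    (h1 : Subsingleton (Ext (freeSheaf J U) S.X₁ 1)) :
    Function.Surjective (S.g.hom.app (op U)) := by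
  intro σ
  obtain ⟨t, ht⟩ := lift_hom S hS U h1 ((freeSheafHomEquiv J U S.X₃).symm σ)
  refine ⟨freeSheafHomEquiv J U S.X₂ t, ?_⟩
  rw [← freeSheafHomEquiv_comp, ht, Equiv.apply_symm_apply]

variable (J)

lemma push_shortExact (S : ShortComplex (Sheaf J AddCommGrpCat.{u})) (hS : S.ShortExact)
    (h1 : ∀ U : C, Subsingleton (Ext (freeSheaf J U) S.X₁ 1)) :
    (S.map (CohSite.push J K u)).ShortExact := by
  haveI : (CohSite.push J K u).IsRightAdjoint :=
    (u.sheafAdjunctionContinuous AddCommGrpCat.{u} K J).isRightAdjoint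
  haveI := hS.mono_f
  haveI : Mono (S.map (CohSite.push J K u)).f := by
    change Mono ((CohSite.push J K u).map S.f)
    infer_instance
  haveI : Epi (S.map (CohSite.push J K u)).g := by
    rw [← Sheaf.isLocallySurjective_iff_epi']
    apply Presheaf.isLocallySurjective_of_surjective
    intro V
    exact surj_sections S hS (u.obj V.unop) (h1 _)
  exact { exact := hS.exact.map_of_mono_of_preservesKernel _ inferInstance inferInstance }

variable [∀ n : ℕ, PreservesLimitsOfShape (WidePullbackShape (Fin (n + 1))) (pullS J K u)]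

lemma push_step (S : ShortComplex (Sheaf J AddCommGrpCat.{u})) (hS : S.ShortExact)
    [Injective S.X₂] (hF : ObjAcyclic J S.X₁) (V : D) (q : ℕ)
    (ih : 1 ≤ q → Subsingleton (Ext (freeSheaf K V) ((CohSite.push J K u).obj S.X₃) q)) :
    Subsingleton (Ext (freeSheaf K V) ((CohSite.push J K u).obj S.X₁) (q + 1)) := by
  have hS' := push_shortExact J K u S hS (fun U => hF U 0)
  have hI : ∀ n, Subsingleton (Ext (freeSheaf K V) ((CohSite.push J K u).obj S.X₂) (n + 1)) :=
    fun n => objAcyclic_of_totallyAcyclic _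
      (push_totallyAcyclic J K u S.X₂ (injective_totallyAcyclic S.X₂)) V n
  refine subsingleton_of_forall_eq 0 fun x => ?_
  have h0 : x.comp (Ext.mk₀ (S.map (CohSite.push J K u)).f) (add_zero (q + 1)) = 0 := by
    exact @Subsingleton.elim _ (hI q) _ _
  obtain ⟨x₃, hx₃⟩ := Ext.covariant_sequence_exact₁ _ hS' x h0 (rfl : q + 1 = q + 1)
  have hx : x = x₃.comp hS'.extClass rfl := hx₃.symm
  rw [hx]
  cases q with
  | zero =>
    let s : freeSheaf K V ⟶ (S.map (CohSite.push J K u)).X₃ := Ext.addEquiv₀ x₃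
    have hs : x₃ = Ext.mk₀ s := (Ext.mk₀_addEquiv₀_apply x₃).symm
    obtain ⟨τ, hτ⟩ := surj_sections S hS (u.obj V) (hF _ 0)
      (freeSheafHomEquiv K V (S.map (CohSite.push J K u)).X₃ s)
    let t : freeSheaf K V ⟶ (S.map (CohSite.push J K u)).X₂ :=
      (freeSheafHomEquiv K V (S.map (CohSite.push J K u)).X₂).symm τ
    have ht : t ≫ (S.map (CohSite.push J K u)).g = s := by
      apply (freeSheafHomEquiv K V (S.map (CohSite.push J K u)).X₃).injective
      rw [freeSheafHomEquiv_comp, Equiv.apply_symm_apply]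
      exact hτ
    rw [hs, ← ht, ← Ext.mk₀_comp_mk₀, Ext.comp_assoc_of_second_deg_zero, hS'.comp_extClass,
      Ext.comp_zero]
    rfl
  | succ q =>
    have hx0 : x₃ = 0 := @Subsingleton.elim _ (ih (by omega)) x₃ 0
    rw [hx0, Ext.zero_comp]
    rfl

/-- S6166 -/
theorem push_objAcyclic : ∀ (q : ℕ) (F : Sheaf J AddCommGrpCat.{u}) (_ : ObjAcyclic J F) (V : D),
    Subsingleton (Ext (freeSheaf K V) ((CohSite.push J K u).obj F) (q + 1)) := by
  intro q
  induction q with
  | zero =>
    intro F hF V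
    exact push_step J K u (injSC F) (injSC_shortExact F) hF V 0 (fun h => absurd h (by omega))
  | succ q ih =>
    intro F hF V
    exact push_step J K u (injSC F) (injSC_shortExact F) hF V (q + 1)
      (fun _ => ih (injSC F).X₃ (objAcyclic_coker (injSC F) (injSC_shortExact F) hF) V)

end Groth.Agent.Lib.PushAcyc
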