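import Mathlib
import Groth.Agent.Lib.AcycPred_helper2
import Groth.Agent.Lib.PushAcyc_helper2

/-!
# Sheaves acyclic on the objects of the site are acyclic for direct images (helper2)
-/

set_option autoImplicit false
universe u
open CategoryTheory Limits Opposite Abelian

namespace Groth.Agent.Lib.PushDerAcyc
open Groth.Agent.Lib.PushAcyc Groth.Agent.Lib.FreeSheaf Groth.Agent.Lib.PushTot

variable {C D : Type u} [SmallCategory C] [SmallCategory D] (J : GrothendieckTopology C)
  (K : GrothendieckTopology D) (u : D ⥤ C) [u.IsContinuous K J]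

instance : PreservesFiniteLimits (CohSite.push J K u) := by
  haveI : PreservesLimits (CohSite.push J K u) :=
    (u.sheafAdjunctionContinuous AddCommGrpCat.{u} K J).rightAdjoint_preservesLimits
  infer_instance

variable {J} in
lemma objAcyclic_of_iso {F F' : Sheaf J AddCommGrpCat.{u}} (e : F ≅ F') (h : ObjAcyclic J F) :
    ObjAcyclic J F' := by
  intro U q
  refine subsingleton_of_forall_eq 0 fun x => ?_
  have h1 : x.comp (Ext.mk₀ e.inv) (add_zero _) = 0 := @Subsingleton.elim _ (h U q) _ _
  have h2 : (x.comp (Ext.mk₀ e.inv) (add_zero _)).comp (Ext.mk₀ e.hom) (add_zero _) = x := by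
    rw [Ext.comp_assoc_of_third_deg_zero, Ext.mk₀_comp_mk₀, e.inv_hom_id, Ext.comp_mk₀_id]
  rw [← h2, h1, Ext.zero_comp]

variable {J} in
lemma objAcyclic_X₃ (S : ShortComplex (Sheaf J AddCommGrpCat.{u})) (hS : S.ShortExact)
    (h₁ : ObjAcyclic J S.X₁) (h₂ : ObjAcyclic J S.X₂) : ObjAcyclic J S.X₃ := by
  intro U q
  refine subsingleton_of_forall_eq 0 fun x₃ => ?_
  have h1 : x₃.comp hS.extClass (rfl : q + 1 + 1 = q + 1 + 1) = 0 := by
    haveI := h₁ U (q + 1)
    exact Subsingleton.elim _ _
  obtain ⟨x₂, hx₂⟩ := Ext.covariant_sequence_exact₃ _ hS x₃ rfl h1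
  have h0 : x₂ = 0 := @Subsingleton.elim _ (h₂ U q) _ _
  rw [← hx₂, h0, Ext.zero_comp]

/-- a sheaf which is acyclic on the objects of the site is acyclic for the direct image functor -/
theorem acyclic_push_of_objAcyclic (G : Sheaf J AddCommGrpCat.{u}) (hG : ObjAcyclic J G) :
    LerayDer.Acyclic (CohSite.push J K u) G :=
  AcycPred.acyclic_of_pred (CohSite.push J K u) (ObjAcyclic J)
    (fun X _ => objAcyclic_of_totallyAcyclic X (injective_totallyAcyclic X))
    (fun _ _ e h => objAcyclic_of_iso e h)
    (fun S hS h₁ h₂ => ⟨(push_shortExact J K u S hS (fun U => h₁ U 0)).epi_g,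
      objAcyclic_X₃ S hS h₁ h₂⟩) G hG

/-- the direct image of an injective sheaf is acyclic for any further direct image -/
theorem acyclic_push_push {B : Type u} [SmallCategory B] (L : GrothendieckTopology B)
    (w : B ⥤ D) [w.IsContinuous L K]
    [PreservesFiniteLimits (u.sheafPullback (Type u) K J)]
    (Q : Sheaf J AddCommGrpCat.{u}) [Injective Q] :
    LerayDer.Acyclic (CohSite.push K L w) ((CohSite.push J K u).obj Q) := by
  haveI : ∀ n : ℕ, PreservesLimitsOfShape (WidePullbackShape (Fin (n + 1)))
      (u.sheafPullback (Type u) K J) := fun n => inferInstance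
  exact acyclic_push_of_objAcyclic K L w _
    (objAcyclic_of_totallyAcyclic _ (push_totallyAcyclic J K u Q (injective_totallyAcyclic Q)))

/-- direct images compose -/
noncomputable def pushComp {B : Type u} [SmallCategory B] (L : GrothendieckTopology B)
    (w : B ⥤ D) [w.IsContinuous L K] [(w ⋙ u).IsContinuous L J] :
    CohSite.push J K u ⋙ CohSite.push K L w ≅ CohSite.push J L (w ⋙ u) :=
  NatIso.ofComponents (fun F => Iso.refl _) (by intros; ext; rfl)

end Groth.Agent.Lib.PushDerAcyc
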