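import Mathlib
import Groth.Agent.Lib.GrothSS_helper2
import Groth.Agent.Lib.PushDerAcyc_helper2
import Groth.Agent.Lib.ExtDer_helper9

/-!
# The Leray spectral sequence for `H^p(V, R^q u_* M)` (helper2)
-/

set_option autoImplicit false
universe u
open CategoryTheory Limits Opposite Abelian

namespace Groth.Agent.Lib.LerayHU
open Groth.Agent.Lib.PushAcyc Groth.Agent.Lib.FreeSheaf Groth.Agent.Lib.PushTot

variable {C : Type u} [SmallCategory C] (J : GrothendieckTopology C)

lemma freeSheafHomEquiv_eq (U : C) (F : Sheaf J AddCommGrpCat.{u}) (f : freeSheaf J U ⟶ F) :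
    freeSheafHomEquiv J U F f =
      f.hom.app (op U) (freeSheafHomEquiv J U (freeSheaf J U) (𝟙 _)) := by
  rw [← freeSheafHomEquiv_comp, Category.id_comp]

/-- maps from the free sheaf are sections, additively -/
noncomputable def freeSheafHomAddEquiv (U : C) (F : Sheaf J AddCommGrpCat.{u}) :
    (freeSheaf J U ⟶ F) ≃+ F.obj.obj (op U) :=
  { freeSheafHomEquiv J U F with
    map_add' := fun f g => by
      change freeSheafHomEquiv J U F (f + g) =
        freeSheafHomEquiv J U F f + freeSheafHomEquiv J U F g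
      rw [freeSheafHomEquiv_eq, freeSheafHomEquiv_eq J U F f, freeSheafHomEquiv_eq J U F g,
        Sheaf.Hom.add_app]
      rfl }

lemma freeSheafHomAddEquiv_apply (U : C) (F : Sheaf J AddCommGrpCat.{u}) (f : freeSheaf J U ⟶ F) :
    freeSheafHomAddEquiv J U F f = freeSheafHomEquiv J U F f := rfl

lemma freeSheafHomAddEquiv_symm_apply (U : C) (F : Sheaf J AddCommGrpCat.{u})
    (x : F.obj.obj (op U)) :
    (freeSheafHomAddEquiv J U F).symm x = (freeSheafHomEquiv J U F).symm x := rfl

variable {D : Type u} [SmallCategory D] (K : GrothendieckTopology D) (u : D ⥤ C)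
  [u.IsContinuous K J]

/-- `Hom(ℤ_V, u_* F) ≅ Hom(ℤ_{u V}, F)` -/
noncomputable def pushHomIso (V : D) :
    CohSite.push J K u ⋙ ExtDer.hom (freeSheaf K V) ≅ ExtDer.hom (freeSheaf J (u.obj V)) :=
  NatIso.ofComponents (fun F => AddEquiv.toAddCommGrpIso
      ((freeSheafHomAddEquiv K V ((CohSite.push J K u).obj F)).trans
        (freeSheafHomAddEquiv J (u.obj V) F).symm))
    (by
      intro F G φ
      ext f
      change (freeSheafHomEquiv J (u.obj V) G).symm
          (freeSheafHomEquiv K V _ (f ≫ (CohSite.push J K u).map φ)) =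
        (freeSheafHomEquiv J (u.obj V) F).symm (freeSheafHomEquiv K V _ f) ≫ φ
      apply (freeSheafHomEquiv J (u.obj V) G).injective
      rw [Equiv.apply_symm_apply, freeSheafHomEquiv_comp, freeSheafHomEquiv_comp,
        Equiv.apply_symm_apply]
      rfl)

lemma isZero_of_subsingleton_ext {𝒜 : Type (u + 1)} [Category.{u} 𝒜] [Abelian 𝒜]
    [HasExt.{u} 𝒜] [HasInjectiveResolutions 𝒜] (X Y : 𝒜) (n : ℕ)
    (h : Subsingleton (Ext.{u} X Y n)) : IsZero (((ExtDer.hom X).rightDerived n).obj Y) := by
  refine IsZero.of_iso ?_ ((ExtDer.natIso X n).app Y)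
  exact @AddCommGrpCat.isZero_of_subsingleton _ h

end Groth.Agent.Lib.LerayHU
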