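import Mathlib
import Groth.Prelude.Def_CohTop

/-!
# Colimits over the open neighbourhoods of a subset (helper2)

For `Z ⊆ X` and a presheaf of abelian groups `G` on `X`, the colimit of `G(U)` over the opens
`U ⊇ Z`, with an element-wise API.
APPEND-ONLY once landed.
-/

set_option autoImplicit false
universe u
open CategoryTheory CategoryTheory.Limits TopologicalSpace Opposite

namespace Groth.Agent.Lib.NbhdColimH2

variable {X : TopCat.{u}} (Z : Set X)

/-- the property of containing `Z` -/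
abbrev NP : ObjectProperty (Opens X)ᵒᵖ := fun U => Z ⊆ (U.unop : Set X)

/-- the category of open neighbourhoods of `Z` (opposite order) -/
abbrev N := (NP Z).FullSubcategory

/-- an object of `N Z` -/
def mkN (U : Opens X) (h : Z ⊆ (U : Set X)) : N Z := ⟨op U, h⟩

/-- a morphism of `N Z` -/
def homN {U V : Opens X} (hU : Z ⊆ (U : Set X)) (hV : Z ⊆ (V : Set X)) (h : V ≤ U) :
    mkN Z U hU ⟶ mkN Z V hV := ObjectProperty.homMk (homOfLE h).op

instance : IsFiltered (N Z) where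
  cocone_objs j j' := ⟨mkN Z (j.obj.unop ⊓ j'.obj.unop) (Set.subset_inter j.property j'.property),
    ObjectProperty.homMk (homOfLE inf_le_left).op, ObjectProperty.homMk (homOfLE inf_le_right).op,
    trivial⟩
  cocone_maps j j' f g := ⟨j', 𝟙 _, by
    apply ObjectProperty.hom_ext
    exact Subsingleton.elim _ _⟩
  nonempty := ⟨mkN Z ⊤ (Set.subset_univ _)⟩

variable (G : (Opens X)ᵒᵖ ⥤ AddCommGrpCat.{u})

/-- the colimit of `G` over the neighbourhoods of `Z` -/
noncomputable abbrev colimZ : AddCommGrpCat.{u} := colimit ((NP Z).ι ⋙ G)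

/-- the structure map -/
noncomputable def ιZ (U : Opens X) (h : Z ⊆ (U : Set X)) : G.obj (op U) →+ colimZ Z G :=
  (colimit.ι ((NP Z).ι ⋙ G) (mkN Z U h)).hom

/-- restriction for `G` -/
noncomputable def rG {U V : Opens X} (h : V ≤ U) : G.obj (op U) →+ G.obj (op V) :=
  (G.map (homOfLE h).op).hom

lemma rG_rG {U V W : Opens X} (h : V ≤ U) (h' : W ≤ V) (y : G.obj (op U)) :
    rG G h' (rG G h y) = rG G (h'.trans h) y := by
  unfold rG
  rw [← ConcreteCategory.comp_apply, ← G.map_comp]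
  rfl

lemma ιZ_rG {U V : Opens X} (hU : Z ⊆ (U : Set X)) (hV : Z ⊆ (V : Set X)) (h : V ≤ U)
    (y : G.obj (op U)) : ιZ Z G V hV (rG G h y) = ιZ Z G U hU y := by
  have h1 := colimit.w ((NP Z).ι ⋙ G) (homN Z hU hV h)
  exact ConcreteCategory.congr_hom h1 y

lemma exists_rep (x : colimZ Z G) :
    ∃ (U : Opens X) (h : Z ⊆ (U : Set X)) (y : G.obj (op U)), ιZ Z G U h y = x := by
  obtain ⟨j, y, hy⟩ := Concrete.colimit_exists_rep ((NP Z).ι ⋙ G) x
  exact ⟨j.obj.unop, j.property, y, hy⟩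

lemma ιZ_eq_iff {U U' : Opens X} (hU : Z ⊆ (U : Set X)) (hU' : Z ⊆ (U' : Set X))
    (y : G.obj (op U)) (y' : G.obj (op U')) :
    ιZ Z G U hU y = ιZ Z G U' hU' y' ↔
      ∃ (W : Opens X) (_ : Z ⊆ (W : Set X)) (l : W ≤ U) (l' : W ≤ U'), rG G l y = rG G l' y' := by
  constructor
  · intro h
    obtain ⟨k, f, g, hfg⟩ := (Concrete.colimit_rep_eq_iff_exists ((NP Z).ι ⋙ G)
      (i := mkN Z U hU) (j := mkN Z U' hU') y y').mp h
    exact ⟨k.obj.unop, k.property, leOfHom f.hom.unop, leOfHom g.hom.unop, hfg⟩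
  · rintro ⟨W, hW, l, l', h⟩
    rw [← ιZ_rG Z G hU hW l, ← ιZ_rG Z G hU' hW l', h]

lemma ιZ_eq_zero_iff {U : Opens X} (hU : Z ⊆ (U : Set X)) (y : G.obj (op U)) :
    ιZ Z G U hU y = 0 ↔ ∃ (W : Opens X) (_ : Z ⊆ (W : Set X)) (l : W ≤ U), rG G l y = 0 := by
  have h0 : (0 : colimZ Z G) = ιZ Z G U hU 0 := (map_zero _).symm
  rw [h0, ιZ_eq_iff]
  constructor
  · rintro ⟨W, hW, l, l', h⟩
    exact ⟨W, hW, l, h.trans (map_zero _)⟩
  · rintro ⟨W, hW, l, h⟩
    exact ⟨W, hW, l, l, h.trans (map_zero _).symm⟩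

variable {G} {G' : (Opens X)ᵒᵖ ⥤ AddCommGrpCat.{u}}

/-- functoriality -/
noncomputable def mapZ (τ : G ⟶ G') : colimZ Z G →+ colimZ Z G' :=
  (colimMap (Functor.whiskerLeft (NP Z).ι τ)).hom

lemma mapZ_ιZ (τ : G ⟶ G') {U : Opens X} (hU : Z ⊆ (U : Set X)) (y : G.obj (op U)) :
    mapZ Z τ (ιZ Z G U hU y) = ιZ Z G' U hU ((τ.app (op U)).hom y) := by
  have h1 := ι_colimMap (Functor.whiskerLeft (NP Z).ι τ) (mkN Z U hU)
  exact ConcreteCategory.congr_hom h1 y

end Groth.Agent.Lib.NbhdColimH2
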