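import Mathlib
import Groth.Prelude.Def_CohTop
import Groth.Agent.Lib.NbhdColim1_helper2
import Groth.Agent.Lib.FreeSheaf_helper2

/-!
# Dimension shifting for the colimit of cohomology over neighbourhoods (helper2)

`Φ^p(F) = colim_{U ⊇ Z} H^p(U, F)`.  For a short exact sequence `0 → F → I → Q → 0` with `I`
injective: `Φ^p(I) → Φ^p(Q) → Φ^{p+1}(F) → 0` is exact, and `Φ^{p+1}(I) = 0`.
APPEND-ONLY once landed.
-/

set_option autoImplicit false
universe u
open CategoryTheory CategoryTheory.Limits TopologicalSpace Opposite Abelian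

namespace Groth.Agent.Lib.NbhdColimH2

open Groth.Agent.Lib.FreeSheaf

variable {X : TopCat.{u}} (Z : Set X)

/-- the cohomology presheaf -/
noncomputable abbrev cP (F : CohTop.Ab X) (p : ℕ) : (Opens X)ᵒᵖ ⥤ AddCommGrpCat.{u} :=
  Sheaf.cohomologyPresheaf.{u} F p

/-- `colim_{U ⊇ Z} H^p(U, F)` -/
noncomputable abbrev Phi (F : CohTop.Ab X) (p : ℕ) : AddCommGrpCat.{u} := colimZ Z (cP F p)

lemma rG_cP (F : CohTop.Ab X) (p : ℕ) {U V : Opens X} (h : V ≤ U)
    (x : (cP F p).obj (op U)) :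
    rG (cP F p) h x =
      (Ext.mk₀ (freeSheafMap (Opens.grothendieckTopology X) (homOfLE h))).comp x (zero_add p) :=
  rfl

/-- postcomposition with an `Ext` class, as a morphism of cohomology presheaves -/
noncomputable def postNat {A B : CohTop.Ab X} {k : ℕ} (α : Ext.{u} A B k) (p q : ℕ)
    (h : p + k = q) : cP A p ⟶ cP B q where
  app U := AddCommGrpCat.ofHom (α.postcomp (freeSheaf (Opens.grothendieckTopology X) U.unop) h)
  naturality U V f := by
    ext x
    show ((Ext.mk₀ (freeSheafMap (Opens.grothendieckTopology X) f.unop)).comp x (zero_add p)).comp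
        α h =
      (Ext.mk₀ (freeSheafMap (Opens.grothendieckTopology X) f.unop)).comp
        (x.comp α h) (zero_add q)
    rw [Ext.comp_assoc _ _ _ (zero_add p) h (by omega)]

lemma postNat_app {A B : CohTop.Ab X} {k : ℕ} (α : Ext.{u} A B k) (p q : ℕ) (h : p + k = q)
    (U : Opens X) (x : (cP A p).obj (op U)) :
    ((postNat α p q h).app (op U)).hom x = x.comp α h := rfl

/-- functoriality of the cohomology presheaf -/
noncomputable abbrev mapNat {A B : CohTop.Ab X} (φ : A ⟶ B) (p : ℕ) : cP A p ⟶ cP B p :=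
  (Sheaf.cohomologyPresheafFunctor (Opens.grothendieckTopology X) p).map φ

lemma mapNat_app {A B : CohTop.Ab X} (φ : A ⟶ B) (p : ℕ) (U : Opens X)
    (x : (cP A p).obj (op U)) :
    ((mapNat φ p).app (op U)).hom x = x.comp (Ext.mk₀ φ) (add_zero p) := rfl

section Shift

variable {S : ShortComplex (CohTop.Ab X)} (hS : S.ShortExact)

/-- the connecting map on `Φ` -/
noncomputable def dPhi (p : ℕ) : Phi Z S.X₃ p →+ Phi Z S.X₁ (p + 1) :=
  mapZ Z (postNat hS.extClass p (p + 1) rfl)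

/-- the map induced by `g` -/
noncomputable def gPhi (S : ShortComplex (CohTop.Ab X)) (p : ℕ) : Phi Z S.X₂ p →+ Phi Z S.X₃ p :=
  mapZ Z (mapNat S.g p)

include hS in
theorem dPhi_surjective [Injective S.X₂] (p : ℕ) : Function.Surjective (dPhi Z hS p) := by
  intro y
  obtain ⟨U, hU, y', rfl⟩ := exists_rep Z _ y
  obtain ⟨x₃, hx₃⟩ := Ext.covariant_sequence_exact₁ _ hS
    (y' : Ext.{u} (freeSheaf (Opens.grothendieckTopology X) U) S.X₁ (p + 1))
    (Ext.eq_zero_of_injective _) (rfl : p + 1 = p + 1)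
  refine ⟨ιZ Z (cP S.X₃ p) U hU x₃, ?_⟩
  unfold dPhi
  rw [mapZ_ιZ, postNat_app]
  exact congrArg _ hx₃

include hS in
theorem dPhi_eq_zero_iff (p : ℕ) (x : Phi Z S.X₃ p) :
    dPhi Z hS p x = 0 ↔ ∃ y : Phi Z S.X₂ p, gPhi Z S p y = x := by
  constructor
  · intro h
    obtain ⟨U, hU, x', rfl⟩ := exists_rep Z _ x
    unfold dPhi at h
    rw [mapZ_ιZ, postNat_app, ιZ_eq_zero_iff] at h
    obtain ⟨W, hW, l, h0⟩ := h
    rw [rG_cP, ← Ext.comp_assoc _ _ _ (zero_add p) rfl (by omega)] at h0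
    obtain ⟨x₂, hx₂⟩ := Ext.covariant_sequence_exact₃ _ hS _ rfl h0
    refine ⟨ιZ Z (cP S.X₂ p) W hW x₂, ?_⟩
    unfold gPhi
    rw [mapZ_ιZ, mapNat_app, hx₂, ← rG_cP, ιZ_rG]
  · rintro ⟨y, rfl⟩
    obtain ⟨U, hU, y', rfl⟩ := exists_rep Z _ y
    unfold dPhi gPhi
    rw [mapZ_ιZ, mapZ_ιZ, mapNat_app, postNat_app]
    have h0 : (y'.comp (Ext.mk₀ S.g) (add_zero p)).comp hS.extClass (rfl : p + 1 = p + 1) = 0 := by
      rw [Ext.comp_assoc_of_second_deg_zero, hS.comp_extClass, Ext.comp_zero]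
    exact (congrArg (ιZ Z (cP S.X₁ (p + 1)) U hU) h0).trans (map_zero _)

end Shift

theorem phi_eq_zero_of_injective (I : CohTop.Ab X) [Injective I] (p : ℕ)
    (x : Phi Z I (p + 1)) : x = 0 := by
  obtain ⟨U, hU, x', rfl⟩ := exists_rep Z _ x
  have h : x' = 0 := Ext.eq_zero_of_injective
    (x' : Ext.{u} (freeSheaf (Opens.grothendieckTopology X) U) I (p + 1))
  exact (congrArg (ιZ Z (cP I (p + 1)) U hU) h).trans (map_zero _)

end Groth.Agent.Lib.NbhdColimH2
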