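import Mathlib
import Groth.Prelude.Def_CohTop
import Groth.Agent.Lib.TopPullStalk_helper7

set_option autoImplicit false

/-! Sections of the inverse image of a flasque sheaf on a compact relatively Hausdorff subset
extend: softness of `F|K`. -/

universe u
open CategoryTheory TopCat TopologicalSpace Opposite Limits

namespace Groth.Agent.Lib.SoftCompact_helper7
open Groth.Agent.Lib.TopPullStalk_helper7

section rs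
variable {Y : TopCat.{u}} (G : TopCat.Sheaf AddCommGrpCat.{u} Y)

/-- restriction of sections -/
def rs {U V : Opens Y} (h : V ≤ U) (s : G.obj.obj (op U)) : G.obj.obj (op V) :=
  G.obj.map (homOfLE h).op s

lemma rs_rs {U V W : Opens Y} (h : V ≤ U) (h' : W ≤ V) (s : G.obj.obj (op U)) :
    rs G h' (rs G h s) = rs G (h'.trans h) s := by
  unfold rs
  rw [← ConcreteCategory.comp_apply, ← G.obj.map_comp]
  rfl

lemma rs_refl {U : Opens Y} (h : U ≤ U) (s : G.obj.obj (op U)) : rs G h s = s := by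
  unfold rs
  have : (homOfLE h).op = 𝟙 (op U) := Quiver.Hom.unop_inj (Subsingleton.elim _ _)
  rw [this, G.obj.map_id]
  rfl

lemma rs_cancel {U V : Opens Y} (h : V ≤ U) (h' : U ≤ V) (x y : G.obj.obj (op U))
    (e : rs G h x = rs G h y) : x = y := by
  have := congrArg (rs G h') e
  rw [rs_rs, rs_rs, rs_refl, rs_refl] at this
  exact this

lemma map_eq_rs {U V : Opens Y} (i : V ⟶ U) (s : G.obj.obj (op U)) :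
    G.obj.map i.op s = rs G i.le s := rfl

/-- the two-element family -/
def U2 (U₁ U₂ : Opens Y) : Bool → Opens Y
  | true => U₁
  | false => U₂

/-- the two-element family of sections -/
def sf2 {U₁ U₂ : Opens Y} (s₁ : G.obj.obj (op U₁)) (s₂ : G.obj.obj (op U₂)) :
    ∀ b : Bool, ToType (G.obj.obj (op (U2 U₁ U₂ b)))
  | true => s₁
  | false => s₂

lemma glue2 {U₁ U₂ : Opens Y} (s₁ : G.obj.obj (op U₁)) (s₂ : G.obj.obj (op U₂))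
    (h : rs G (inf_le_left : U₁ ⊓ U₂ ≤ U₁) s₁ = rs G (inf_le_right : U₁ ⊓ U₂ ≤ U₂) s₂) :
    ∃ s : G.obj.obj (op (U₁ ⊔ U₂)),
      rs G (le_sup_left : U₁ ≤ U₁ ⊔ U₂) s = s₁ ∧ rs G (le_sup_right : U₂ ≤ U₁ ⊔ U₂) s = s₂ := by
  have hle : ∀ b, U2 U₁ U₂ b ≤ U₁ ⊔ U₂ := fun b => by
    cases b
    · exact le_sup_right
    · exact le_sup_left
  have hcov : U₁ ⊔ U₂ ≤ iSup (U2 U₁ U₂) :=
    sup_le (le_iSup (U2 U₁ U₂) true) (le_iSup (U2 U₁ U₂) false)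
  have hcomp : TopCat.Presheaf.IsCompatible G.obj (U2 U₁ U₂) (sf2 G s₁ s₂) := by
    intro i j
    cases i <;> cases j
    · rfl
    · show rs G (inf_le_left : U₂ ⊓ U₁ ≤ U₂) s₂ = rs G (inf_le_right : U₂ ⊓ U₁ ≤ U₁) s₁
      have e : U₂ ⊓ U₁ ≤ U₁ ⊓ U₂ := le_of_eq (inf_comm _ _)
      have := congrArg (rs G e) h
      rw [rs_rs, rs_rs] at this
      exact this.symm
    · exact h
    · rfl
  obtain ⟨s, hs, -⟩ := G.existsUnique_gluing' (U2 U₁ U₂) (U₁ ⊔ U₂) (fun b => homOfLE (hle b)) hcov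
    (sf2 G s₁ s₂) hcomp
  exact ⟨s, hs true, hs false⟩

end rs

lemma pm {Z X : TopCat.{u}} (f : Z ⟶ X) {U U' : Opens X} (h : U' ≤ U) :
    (Opens.map f).obj U' ≤ (Opens.map f).obj U := fun _ hx => h hx

lemma η_nat {Z Y : TopCat.{u}} (f : Z ⟶ Y) (H : TopCat.Sheaf AddCommGrpCat.{u} Y)
    {U U' : Opens Y} (h : U' ≤ U) (s : H.obj.obj (op U)) :
    (η f H).hom.app (op U') (rs H h s) =
      rs (P f H) (pm f h) ((η f H).hom.app (op U) s) :=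
  NatTrans.naturality_apply (η f H).hom (homOfLE h).op s

lemma sepLemma {X : Type*} [TopologicalSpace X] {A B : Set X} (hA : IsCompact A)
    (hB : IsCompact B)
    (h : ∀ a ∈ A, ∀ b ∈ B, ∃ O O' : Opens X, a ∈ O ∧ b ∈ O' ∧ O ⊓ O' = ⊥) :
    ∃ O O' : Opens X, A ⊆ O ∧ B ⊆ O' ∧ O ⊓ O' = ⊥ := by
  let n : Set (X × X) := {p | ∃ O O' : Opens X, p.1 ∈ O ∧ p.2 ∈ O' ∧ O ⊓ O' = ⊥}
  have hn : IsOpen n := by
    rw [isOpen_iff_forall_mem_open]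
    rintro ⟨a, b⟩ ⟨O, O', ha, hb, hOO⟩
    refine ⟨(O : Set X) ×ˢ (O' : Set X), ?_, O.isOpen.prod O'.isOpen, ⟨ha, hb⟩⟩
    rintro ⟨a', b'⟩ ⟨ha', hb'⟩
    exact ⟨O, O', ha', hb', hOO⟩
  have hAB : A ×ˢ B ⊆ n := by
    rintro ⟨a, b⟩ ⟨ha, hb⟩
    exact h a ha b hb
  obtain ⟨u, v, hu, hv, hAu, hBv, huv⟩ := generalized_tube_lemma hA hB hn hAB
  refine ⟨⟨u, hu⟩, ⟨v, hv⟩, hAu, hBv, ?_⟩
  ext x
  simp only [Opens.coe_inf, Opens.coe_mk, Set.mem_inter_iff, Opens.coe_bot,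
    Set.mem_empty_iff_false, iff_false]
  rintro ⟨hxu, hxv⟩
  obtain ⟨O, O', h1, h2, hOO⟩ := huv (Set.mk_mem_prod hxu hxv)
  have : x ∈ O ⊓ O' := ⟨h1, h2⟩
  rw [hOO] at this
  exact this

section abstract

variable {Z X : TopCat.{u}} (f : Z ⟶ X) (F : TopCat.Sheaf AddCommGrpCat.{u} X)
  (𝒯 : TopCat.Sheaf AddCommGrpCat.{u} Z)

/-- a transformation `F ⟶ f_* 𝒯` exhibiting `𝒯` as an inverse image of `F`, on sections -/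
structure Tr where
  θ : ∀ U : Opens X, F.obj.obj (op U) → 𝒯.obj.obj (op ((Opens.map f).obj U))
  nat : ∀ {U U' : Opens X} (h : U' ≤ U) (s : F.obj.obj (op U)),
    θ U' (rs F h s) = rs 𝒯 (pm f h) (θ U s)
  surj : ∀ (W : Opens Z) (t : 𝒯.obj.obj (op W)) (z : Z), z ∈ W →
    ∃ (U : Opens X) (_ : f z ∈ U) (s : F.obj.obj (op U)) (W' : Opens Z) (_ : z ∈ W')
      (h1 : W' ≤ W) (h2 : W' ≤ (Opens.map f).obj U), rs 𝒯 h2 (θ U s) = rs 𝒯 h1 t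
  inj : ∀ (U : Opens X) (s₁ s₂ : F.obj.obj (op U)) (z : Z), f z ∈ U → ∀ (W' : Opens Z), z ∈ W' →
    ∀ (h2 : W' ≤ (Opens.map f).obj U), rs 𝒯 h2 (θ U s₁) = rs 𝒯 h2 (θ U s₂) →
    ∃ (U' : Opens X) (_ : f z ∈ U') (h : U' ≤ U), rs F h s₁ = rs F h s₂

variable {f F 𝒯}

lemma match_restrict (T : Tr f F 𝒯) {U U' : Opens X} (h : U' ≤ U) (s : F.obj.obj (op U))
    {W' W'' : Opens Z} (h2 : W' ≤ (Opens.map f).obj U) (hW : W'' ≤ W')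
    (h2' : W'' ≤ (Opens.map f).obj U') (t : 𝒯.obj.obj (op ⊤))
    (e : rs 𝒯 h2 (T.θ U s) = rs 𝒯 le_top t) :
    rs 𝒯 h2' (T.θ U' (rs F h s)) = rs 𝒯 le_top t := by
  rw [T.nat h s, rs_rs]
  have h3 : rs 𝒯 (h2'.trans (pm f h)) (T.θ U s) = rs 𝒯 hW (rs 𝒯 h2 (T.θ U s)) :=
    (rs_rs 𝒯 h2 hW _).symm
  rw [h3, e, rs_rs]

/-- the induction predicate -/
def Good (T : Tr f F 𝒯) (t : 𝒯.obj.obj (op ⊤)) (C : Set Z) : Prop :=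
  ∃ C' : Set Z, C ⊆ C' ∧ IsCompact C' ∧ ∃ (U : Opens X) (s : F.obj.obj (op U)),
    ∀ z ∈ C', ∃ (_ : f z ∈ U) (W' : Opens Z) (_ : z ∈ W') (h2 : W' ≤ (Opens.map f).obj U),
      rs 𝒯 h2 (T.θ U s) = rs 𝒯 le_top t

lemma good_union (T : Tr f F 𝒯) (t : 𝒯.obj.obj (op ⊤))
    (hsep : ∀ z z' : Z, z ≠ z' → ∃ O O' : Opens X, f z ∈ O ∧ f z' ∈ O' ∧ O ⊓ O' = ⊥)
    {C₁ C₂ : Set Z} (h₁ : Good T t C₁) (h₂ : Good T t C₂) : Good T t (C₁ ∪ C₂) := by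
  obtain ⟨K₁, hCK₁, hK₁, U₁, s₁, hs₁⟩ := h₁
  obtain ⟨K₂, hCK₂, hK₂, U₂, s₂, hs₂⟩ := h₂
  -- Step A
  have hA : ∀ z : ↥(K₁ ∩ K₂), ∃ (U' : Opens X) (_ : f z.1 ∈ U') (h : U' ≤ U₁ ⊓ U₂),
      rs F h (rs F inf_le_left s₁) = rs F h (rs F inf_le_right s₂) := by
    rintro ⟨z, hz1, hz2⟩
    obtain ⟨hzU₁, W₁, hzW₁, h21, e₁⟩ := hs₁ z hz1
    obtain ⟨hzU₂, W₂, hzW₂, h22, e₂⟩ := hs₂ z hz2
    have hW12 : W₁ ⊓ W₂ ≤ (Opens.map f).obj (U₁ ⊓ U₂) := fun x hx => ⟨h21 hx.1, h22 hx.2⟩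
    refine T.inj (U₁ ⊓ U₂) _ _ z ⟨hzU₁, hzU₂⟩ (W₁ ⊓ W₂) ⟨hzW₁, hzW₂⟩ hW12 ?_
    rw [match_restrict T inf_le_left s₁ h21 inf_le_left hW12 t e₁,
      match_restrict T inf_le_right s₂ h22 inf_le_right hW12 t e₂]
  choose Uz hzUz hUz eUz using hA
  let V : Opens X := ⨆ z : ↥(K₁ ∩ K₂), Uz z
  have hV : V ≤ U₁ ⊓ U₂ := iSup_le hUz
  have hfV : ∀ z ∈ K₁ ∩ K₂, f z ∈ V := fun z hz => Opens.mem_iSup.2 ⟨⟨z, hz⟩, hzUz ⟨z, hz⟩⟩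
  have eV : rs F hV (rs F inf_le_left s₁) = rs F hV (rs F inf_le_right s₂) := by
    refine F.eq_of_locally_eq' Uz V (fun z => homOfLE (le_iSup Uz z)) (le_refl _) _ _
      (fun z => ?_)
    show rs F (le_iSup Uz z) (rs F hV _) = rs F (le_iSup Uz z) (rs F hV _)
    rw [rs_rs F hV, rs_rs F hV]
    exact eUz z
  -- Step B
  let fV : Opens Z := (Opens.map f).obj V
  have hE₁ : IsCompact (K₁ ∩ (fV : Set Z)ᶜ) := hK₁.inter_right fV.isOpen.isClosed_compl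
  have hE₂ : IsCompact (K₂ ∩ (fV : Set Z)ᶜ) := hK₂.inter_right fV.isOpen.isClosed_compl
  obtain ⟨O₁, O₂, hO₁, hO₂, hOO⟩ := sepLemma (hE₁.image f.hom.continuous)
    (hE₂.image f.hom.continuous) (by
      rintro _ ⟨z₁, hz₁, rfl⟩ _ ⟨z₂, hz₂, rfl⟩
      apply hsep
      rintro rfl
      exact hz₁.2 (hfV z₁ ⟨hz₁.1, hz₂.1⟩))
  -- Step C
  have h₁' : (O₁ ⊓ U₁) ⊔ V ≤ U₁ := sup_le inf_le_right (hV.trans inf_le_left)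
  have h₂' : (O₂ ⊓ U₂) ⊔ V ≤ U₂ := sup_le inf_le_right (hV.trans inf_le_right)
  have hinfV : ((O₁ ⊓ U₁) ⊔ V) ⊓ ((O₂ ⊓ U₂) ⊔ V) ≤ V := by
    intro x hx
    have hx1 := Opens.mem_sup.1 (Opens.mem_inf.1 hx).1
    have hx2 := Opens.mem_sup.1 (Opens.mem_inf.1 hx).2
    rcases hx1 with h | h
    · rcases hx2 with h' | h'
      · exfalso
        have : x ∈ O₁ ⊓ O₂ := ⟨(Opens.mem_inf.1 h).1, (Opens.mem_inf.1 h').1⟩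
        rw [hOO] at this
        exact this
      · exact h'
    · exact h
  have hcomp : rs F (inf_le_left : ((O₁ ⊓ U₁) ⊔ V) ⊓ ((O₂ ⊓ U₂) ⊔ V) ≤ (O₁ ⊓ U₁) ⊔ V)
      (rs F h₁' s₁) =
      rs F (inf_le_right : ((O₁ ⊓ U₁) ⊔ V) ⊓ ((O₂ ⊓ U₂) ⊔ V) ≤ (O₂ ⊓ U₂) ⊔ V)
        (rs F h₂' s₂) := by
    rw [rs_rs, rs_rs]
    have e1 : rs F ((inf_le_left : ((O₁ ⊓ U₁) ⊔ V) ⊓ ((O₂ ⊓ U₂) ⊔ V) ≤ (O₁ ⊓ U₁) ⊔ V).trans h₁')
        s₁ = rs F hinfV (rs F hV (rs F inf_le_left s₁)) := by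
      rw [rs_rs, rs_rs]
    have e2 : rs F ((inf_le_right : ((O₁ ⊓ U₁) ⊔ V) ⊓ ((O₂ ⊓ U₂) ⊔ V) ≤ (O₂ ⊓ U₂) ⊔ V).trans h₂')
        s₂ = rs F hinfV (rs F hV (rs F inf_le_right s₂)) := by
      rw [rs_rs, rs_rs]
    rw [e1, e2, eV]
  obtain ⟨s, hs1, hs2⟩ := glue2 F (rs F h₁' s₁) (rs F h₂' s₂) hcomp
  -- Step D
  refine ⟨K₁ ∪ K₂, Set.union_subset_union hCK₁ hCK₂, hK₁.union hK₂,
    ((O₁ ⊓ U₁) ⊔ V) ⊔ ((O₂ ⊓ U₂) ⊔ V), s, ?_⟩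
  rintro z (hz | hz)
  · obtain ⟨hzU₁, W₁, hzW₁, h21, e₁⟩ := hs₁ z hz
    have hzU₁' : f z ∈ (O₁ ⊓ U₁) ⊔ V := by
      by_cases hzV : f z ∈ V
      · exact Opens.mem_sup.2 (Or.inr hzV)
      · exact Opens.mem_sup.2 (Or.inl ⟨hO₁ ⟨z, ⟨hz, hzV⟩, rfl⟩, hzU₁⟩)
    refine ⟨Opens.mem_sup.2 (Or.inl hzU₁'), W₁ ⊓ (Opens.map f).obj ((O₁ ⊓ U₁) ⊔ V),
      ⟨hzW₁, hzU₁'⟩, inf_le_right.trans (pm f le_sup_left), ?_⟩
    have m := match_restrict T h₁' s₁ h21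
      (inf_le_left : W₁ ⊓ (Opens.map f).obj ((O₁ ⊓ U₁) ⊔ V) ≤ W₁) inf_le_right t e₁
    rw [← hs1, T.nat le_sup_left s, rs_rs] at m
    exact m
  · obtain ⟨hzU₂, W₂, hzW₂, h22, e₂⟩ := hs₂ z hz
    have hzU₂' : f z ∈ (O₂ ⊓ U₂) ⊔ V := by
      by_cases hzV : f z ∈ V
      · exact Opens.mem_sup.2 (Or.inr hzV)
      · exact Opens.mem_sup.2 (Or.inl ⟨hO₂ ⟨z, ⟨hz, hzV⟩, rfl⟩, hzU₂⟩)
    refine ⟨Opens.mem_sup.2 (Or.inr hzU₂'), W₂ ⊓ (Opens.map f).obj ((O₂ ⊓ U₂) ⊔ V),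
      ⟨hzW₂, hzU₂'⟩, inf_le_right.trans (pm f le_sup_right), ?_⟩
    have m := match_restrict T h₂' s₂ h22
      (inf_le_left : W₂ ⊓ (Opens.map f).obj ((O₂ ⊓ U₂) ⊔ V) ≤ W₂) inf_le_right t e₂
    rw [← hs2, T.nat le_sup_right s, rs_rs] at m
    exact m

theorem glue_global [CompactSpace Z] [T2Space Z] (T : Tr f F 𝒯)
    (hsep : ∀ z z' : Z, z ≠ z' → ∃ O O' : Opens X, f z ∈ O ∧ f z' ∈ O' ∧ O ⊓ O' = ⊥)
    (t : 𝒯.obj.obj (op ⊤)) :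
    ∃ (U : Opens X) (s : F.obj.obj (op U)), (∀ z, f z ∈ U) ∧ T.θ U s = rs 𝒯 le_top t := by
  have key : Good T t Set.univ := by
    refine isCompact_univ.induction_on ?_ ?_ ?_ ?_
    · exact ⟨∅, le_refl _, isCompact_empty, ⊥, 0, fun z hz => hz.elim⟩
    · rintro C D hCD ⟨K, hDK, hK, rest⟩
      exact ⟨K, hCD.trans hDK, hK, rest⟩
    · intro C D hC hD
      exact good_union T t hsep hC hD
    · intro z _
      obtain ⟨U, hzU, s, W', hzW', h1, h2, e⟩ := T.surj ⊤ t z trivial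
      obtain ⟨K, hK, hzK, hKW⟩ := exists_compact_subset W'.isOpen hzW'
      exact ⟨K, mem_nhdsWithin_of_mem_nhds (mem_interior_iff_mem_nhds.1 hzK), K, le_refl _, hK,
        U, s, fun z' hz' => ⟨h2 (hKW hz'), W', hKW hz', h2, e⟩⟩
  obtain ⟨K, hK, -, U, s, hs⟩ := key
  choose hz W hzW h2 e using fun z : Z => hs z (hK (Set.mem_univ z))
  refine ⟨U, s, hz, ?_⟩
  refine 𝒯.eq_of_locally_eq' W ((Opens.map f).obj U) (fun z => homOfLE (h2 z))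
    (fun x _ => Opens.mem_iSup.2 ⟨x, hzW x⟩) _ _ (fun z => ?_)
  show rs 𝒯 (h2 z) (T.θ U s) = rs 𝒯 (h2 z) (rs 𝒯 le_top t)
  rw [rs_rs]
  exact e z

end abstract

end Groth.Agent.Lib.SoftCompact_helper7
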