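import Mathlib
import Groth.Prelude.Def_CohTop
import Groth.Agent.Lib.TopPullStalk_helper7
import Groth.Agent.Lib.SoftCompact_helper7

set_option autoImplicit false

/-! Assembly: softness of `F|K` for `F` flasque, `K` compact relatively Hausdorff. -/

universe u
open CategoryTheory TopCat TopologicalSpace Opposite Limits

namespace Groth.Agent.Lib.SoftCompact2_helper7
open Groth.Agent.Lib.TopPullStalk_helper7 Groth.Agent.Lib.SoftCompact_helper7

section unit
variable {Z Y : TopCat.{u}} (f : Z ⟶ Y) (H : TopCat.Sheaf AddCommGrpCat.{u} Y)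

lemma unit_surj' (W : Opens Z) (t : (P f H).obj.obj (op W)) (z : Z) (hz : z ∈ W) :
    ∃ (U : Opens Y) (_ : f z ∈ U) (s : H.obj.obj (op U)) (W' : Opens Z) (_ : z ∈ W')
      (h1 : W' ≤ W) (h2 : W' ≤ (Opens.map f).obj U),
      rs (P f H) h2 ((η f H).hom.app (op U) s) = rs (P f H) h1 t :=
  unit_surj f H W t z hz

lemma unit_inj' (U : Opens Y) (s₁ s₂ : H.obj.obj (op U)) (z : Z) (hz : f z ∈ U)
    (W' : Opens Z) (hzW : z ∈ W') (h2 : W' ≤ (Opens.map f).obj U)
    (e : rs (P f H) h2 ((η f H).hom.app (op U) s₁) = rs (P f H) h2 ((η f H).hom.app (op U) s₂)) :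
    ∃ (U' : Opens Y) (_ : f z ∈ U') (h : U' ≤ U), rs H h s₁ = rs H h s₂ :=
  unit_inj f H U s₁ s₂ z hz W' hzW h2 e

end unit

section comp

variable {Z' Z X : TopCat.{u}} (g : Z' ⟶ Z) (f : Z ⟶ X) (F : TopCat.Sheaf AddCommGrpCat.{u} X)

/-- the composite transformation on sections -/
noncomputable def θc (U : Opens X) (s : F.obj.obj (op U)) :
    (P g (P f F)).obj.obj (op ((Opens.map (g ≫ f)).obj U)) :=
  (η g (P f F)).hom.app (op ((Opens.map f).obj U)) ((η f F).hom.app (op U) s)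

lemma θc_def (U : Opens X) (s : F.obj.obj (op U)) :
    θc g f F U s =
      (η g (P f F)).hom.app (op ((Opens.map f).obj U)) ((η f F).hom.app (op U) s) := rfl

/-- the composite of the two units exhibits the iterated inverse image as an inverse image -/
noncomputable def trc : Tr (g ≫ f) F (P g (P f F)) where
  θ := θc g f F
  nat := by
    intro U U' h s
    rw [θc_def, θc_def, η_nat f F h s, η_nat g (P f F) (pm f h)]
    rfl
  surj := by
    intro W t z hz
    obtain ⟨V, hzV, gg, W₁, hzW₁, h1, h2, e₁⟩ := unit_surj' g (P f F) W t z hz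
    obtain ⟨U, hzU, s, V₁, hzV₁, h1', h2', e₂⟩ := unit_surj' f F V gg (g z) hzV
    have hW'W₁ : W₁ ⊓ (Opens.map g).obj V₁ ≤ W₁ := inf_le_left
    have hW'V₁ : W₁ ⊓ (Opens.map g).obj V₁ ≤ (Opens.map g).obj V₁ := inf_le_right
    have hW'U : W₁ ⊓ (Opens.map g).obj V₁ ≤ (Opens.map (g ≫ f)).obj U :=
      hW'V₁.trans (pm g h2')
    refine ⟨U, hzU, s, W₁ ⊓ (Opens.map g).obj V₁, ⟨hzW₁, hzV₁⟩, hW'W₁.trans h1, hW'U, ?_⟩
    have k1 : rs (P g (P f F)) (pm g h2') (θc g f F U s) =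
        rs (P g (P f F)) (pm g h1') ((η g (P f F)).hom.app (op V) gg) := by
      rw [θc_def, ← η_nat g (P f F) h2', e₂, η_nat g (P f F) h1']
    calc rs (P g (P f F)) hW'U (θc g f F U s)
        = rs (P g (P f F)) hW'V₁ (rs (P g (P f F)) (pm g h2') (θc g f F U s)) :=
          (rs_rs _ _ _ _).symm
      _ = rs (P g (P f F)) hW'V₁
            (rs (P g (P f F)) (pm g h1') ((η g (P f F)).hom.app (op V) gg)) := by rw [k1]
      _ = rs (P g (P f F)) hW'W₁ (rs (P g (P f F)) h2 ((η g (P f F)).hom.app (op V) gg)) := by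
          rw [rs_rs, rs_rs]
      _ = rs (P g (P f F)) hW'W₁ (rs (P g (P f F)) h1 t) := by rw [e₁]
      _ = rs (P g (P f F)) (hW'W₁.trans h1) t := rs_rs _ _ _ _
  inj := by
    intro U s₁ s₂ z hz W' hzW' h2 e
    obtain ⟨V', hzV', h, e'⟩ := unit_inj' g (P f F) ((Opens.map f).obj U)
      ((η f F).hom.app (op U) s₁) ((η f F).hom.app (op U) s₂) z hz W' hzW' h2 e
    exact unit_inj' f F U s₁ s₂ (g z) hz V' hzV' h e'

end comp

section main

variable {X : TopCat.{u}} {K : Set X}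

/-- the inclusion of `K` -/
abbrev iK (K : Set X) : TopCat.of K ⟶ X :=
  TopCat.ofHom ⟨((↑) : K → X), continuous_subtype_val⟩

/-- the inclusion of `A` -/
abbrev iA (A : Set K) : TopCat.of A ⟶ TopCat.of K :=
  TopCat.ofHom ⟨((↑) : A → K), continuous_subtype_val⟩

theorem main (hK : IsCompact K)
    (hsep : ∀ x ∈ K, ∀ y ∈ K, x ≠ y →
      ∃ U V : Set X, IsOpen U ∧ IsOpen V ∧ x ∈ U ∧ y ∈ V ∧ Disjoint U V)
    (F : TopCat.Sheaf AddCommGrpCat.{u} X) [TopCat.Sheaf.IsFlasque F] {A : Set K}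
    (hA : IsClosed A) :
    Function.Surjective
      ((((TopCat.Sheaf.pullbackPushforwardAdjunction AddCommGrpCat.{u} (iA A)).unit.app
        ((TopCat.Sheaf.pullback AddCommGrpCat.{u} (iK K)).obj F)).hom.app (op ⊤)).hom) := by
  haveI : CompactSpace K := isCompact_iff_compactSpace.1 hK
  haveI : CompactSpace A := isCompact_iff_compactSpace.1 hA.isCompact
  haveI : T2Space K := ⟨fun x y hxy => by
    obtain ⟨U, V, hU, hV, hxU, hyV, hUV⟩ := hsep x.1 x.2 y.1 y.2 (fun h => hxy (Subtype.ext h))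
    exact ⟨Subtype.val ⁻¹' U, Subtype.val ⁻¹' V, hU.preimage continuous_subtype_val,
      hV.preimage continuous_subtype_val, hxU, hyV, hUV.preimage _⟩⟩
  haveI : T2Space A := inferInstance
  haveI : CompactSpace ↑(TopCat.of A) := ‹CompactSpace A›
  haveI : T2Space ↑(TopCat.of A) := ‹T2Space A›
  have hsepA : ∀ z z' : ↑(TopCat.of A), z ≠ z' →
      ∃ O O' : Opens X, (iA A ≫ iK K) z ∈ O ∧ (iA A ≫ iK K) z' ∈ O' ∧ O ⊓ O' = ⊥ := by
    intro z z' hzz'
    obtain ⟨U, V, hU, hV, hzU, hzV, hUV⟩ := hsep z.1.1 z.1.2 z'.1.1 z'.1.2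
      (fun h => hzz' (Subtype.ext (Subtype.ext h)))
    refine ⟨⟨U, hU⟩, ⟨V, hV⟩, hzU, hzV, ?_⟩
    ext x
    simp only [Opens.coe_inf, Opens.coe_mk, Opens.coe_bot, Set.mem_inter_iff,
      Set.mem_empty_iff_false, iff_false]
    rintro ⟨h1, h2⟩
    exact Set.disjoint_left.1 hUV h1 h2
  intro t
  obtain ⟨U, s, hU, e⟩ := glue_global (trc (iA A) (iK K) F) hsepA t
  haveI : Epi (F.obj.map (homOfLE (le_top : U ≤ ⊤)).op) := TopCat.Presheaf.IsFlasque.epi _
  obtain ⟨s', hs'⟩ := (AddCommGrpCat.epi_iff_surjective _).1 this s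
  have hs'' : rs F (le_top : U ≤ ⊤) s' = s := hs'
  refine ⟨(η (iK K) F).hom.app (op ⊤) s', ?_⟩
  have n := (trc (iA A) (iK K) F).nat (le_top : U ≤ ⊤) s'
  rw [hs''] at n
  have htop : (⊤ : Opens ↑(TopCat.of A)) ≤ (Opens.map (iA A ≫ iK K)).obj U := fun z _ => hU z
  have key : rs (P (iA A) (P (iK K) F)) (pm (iA A ≫ iK K) (le_top : U ≤ ⊤))
      (θc (iA A) (iK K) F ⊤ s') = rs (P (iA A) (P (iK K) F)) le_top t := n.symm.trans e
  exact rs_cancel (P (iA A) (P (iK K) F)) _ htop _ _ key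

end main

end Groth.Agent.Lib.SoftCompact2_helper7
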