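import Mathlib
import Groth.Prelude.Def_CohTop
import Groth.Agent.Lib.AffVanish_helper9
import Groth.Agent.Lib.ExtAcyclicClass_helper2
import Groth.Agent.Lib.FlasqueAcyclic_helper2

/-!
# Soft abelian sheaves on a compact Hausdorff space are acyclic (helper2)

`IsSoft G`: every section of `G` over an open neighbourhood of a closed set `A` agrees near `A`
with a global section.  On a compact Hausdorff space: sections lift along an epimorphism with soft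
kernel near any compact set, quotients of soft by soft are soft, flasque sheaves are soft, and
`H^{n+1}(Y, G) = 0` for `G` soft.
APPEND-ONLY once landed.
-/

set_option autoImplicit false
universe u
open CategoryTheory CategoryTheory.Limits TopologicalSpace Opposite Abelian

namespace Groth.Agent.Lib.SoftH2

open AffVanish

variable {Y : TopCat.{u}}

/-- softness: a section over a neighbourhood of a closed set agrees near that set with a global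
section -/
def IsSoft (G : CohTop.Ab Y) : Prop :=
  ∀ (A : Set Y), IsClosed A → ∀ (V : Opens Y), A ⊆ (V : Set Y) → ∀ a : Sec G V,
    ∃ (a' : Sec G ⊤) (V' : Opens Y) (_ : A ⊆ (V' : Set Y)) (h : V' ≤ V),
      rs G (le_top : V' ≤ ⊤) a' = rs G h a

theorem isSoft_of_isFlasque (G : CohTop.Ab Y) [TopCat.Sheaf.IsFlasque G] : IsSoft G := by
  intro A _ V hAV a
  haveI : Epi (G.obj.map (homOfLE (le_top : V ≤ ⊤)).op) := TopCat.Presheaf.IsFlasque.epi _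
  obtain ⟨a', ha'⟩ := (AddCommGrpCat.epi_iff_surjective _).1 this a
  refine ⟨a', V, hAV, le_refl _, ?_⟩
  rw [rs_self]
  exact ha'

section lift

variable [T2Space Y] (S : ShortComplex (CohTop.Ab Y)) (hS : S.ShortExact)
  (h1 : IsSoft S.X₁) (V : Opens Y) (c : Sec S.X₃ V)

/-- the induction predicate: `c` lifts to `S.X₂` near a compact set containing `C` -/
def Good (C : Set Y) : Prop :=
  ∃ C' : Set Y, C ⊆ C' ∧ IsCompact C' ∧ ∃ (V' : Opens Y) (_ : C' ⊆ (V' : Set Y)) (h : V' ≤ V)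
    (b : Sec S.X₂ V'), apS S.g V' b = rs S.X₃ h c

include hS h1 in
lemma good_union {C₁ C₂ : Set Y} (hg₁ : Good S V c C₁) (hg₂ : Good S V c C₂) :
    Good S V c (C₁ ∪ C₂) := by
  obtain ⟨K₁, hCK₁, hK₁, V₁, hKV₁, hV₁, b₁, hb₁⟩ := hg₁
  obtain ⟨K₂, hCK₂, hK₂, V₂, hKV₂, hV₂, b₂, hb₂⟩ := hg₂
  -- the difference on `V₁ ⊓ V₂` comes from `S.X₁`
  have hd : apS S.g (V₁ ⊓ V₂) (rs S.X₂ inf_le_left b₁ - rs S.X₂ inf_le_right b₂) = 0 := by
    rw [map_sub, ap_rs, ap_rs, hb₁, hb₂, rs_rs, rs_rs, sub_self]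
  obtain ⟨a, ha⟩ := TopCat.Sheaf.sections_exact_of_left_exact hS.exact hS.mono_f _ hd
  have ha' : apS S.f (V₁ ⊓ V₂) a = rs S.X₂ inf_le_left b₁ - rs S.X₂ inf_le_right b₂ := ha
  -- extend it globally
  obtain ⟨a', W, hAW, hW, haW⟩ := h1 (K₁ ∩ K₂) (hK₁.isClosed.inter hK₂.isClosed) (V₁ ⊓ V₂)
    (fun z hz => ⟨hKV₁ hz.1, hKV₂ hz.2⟩) a
  obtain ⟨b₂', hb₂'def⟩ : ∃ b₂' : Sec S.X₂ V₂,
      b₂' = b₂ + apS S.f V₂ (rs S.X₁ le_top a') := ⟨_, rfl⟩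
  have hb₂' : apS S.g V₂ b₂' = rs S.X₃ hV₂ c := by
    rw [hb₂'def, map_add, fg_zero, add_zero, hb₂]
  have e1 : rs S.X₂ (hW.trans inf_le_left) b₁ - rs S.X₂ (hW.trans inf_le_right) b₂ =
      apS S.f W (rs S.X₁ le_top a') := by
    have := congrArg (rs S.X₂ hW) ha'
    rw [← ap_rs, ← haW, map_sub, rs_rs, rs_rs] at this
    exact this.symm
  have hagree : rs S.X₂ (hW.trans inf_le_left) b₁ = rs S.X₂ (hW.trans inf_le_right) b₂' := by
    rw [hb₂'def, map_add, ← ap_rs, rs_rs, ← e1]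
    abel
  -- separate the compact sets `K₁ \ W` and `K₂ \ W`
  have hE₁ : IsCompact (K₁ ∩ (W : Set Y)ᶜ) := hK₁.inter_right W.isOpen.isClosed_compl
  have hE₂ : IsCompact (K₂ ∩ (W : Set Y)ᶜ) := hK₂.inter_right W.isOpen.isClosed_compl
  have hdisj : Disjoint (K₁ ∩ (W : Set Y)ᶜ) (K₂ ∩ (W : Set Y)ᶜ) := by
    rw [Set.disjoint_left]
    rintro z ⟨hz1, hzW⟩ ⟨hz2, -⟩
    exact hzW (hAW ⟨hz1, hz2⟩)
  obtain ⟨u₁, u₂, hu₁, hu₂, hEu₁, hEu₂, hu⟩ := SeparatedNhds.of_isCompact_isCompact hE₁ hE₂ hdisj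
  let O₁ : Opens Y := ⟨u₁, hu₁⟩
  let O₂ : Opens Y := ⟨u₂, hu₂⟩
  have hU₁ : (O₁ ⊓ V₁) ⊔ W ≤ V₁ := sup_le inf_le_right (hW.trans inf_le_left)
  have hU₂ : (O₂ ⊓ V₂) ⊔ W ≤ V₂ := sup_le inf_le_right (hW.trans inf_le_right)
  have hinf : ((O₁ ⊓ V₁) ⊔ W) ⊓ ((O₂ ⊓ V₂) ⊔ W) ≤ W := by
    intro x hx
    have hx1 := Opens.mem_sup.1 (Opens.mem_inf.1 hx).1
    have hx2 := Opens.mem_sup.1 (Opens.mem_inf.1 hx).2
    rcases hx1 with h | h
    · rcases hx2 with h' | h'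
      · exfalso
        exact Set.disjoint_left.1 hu (Opens.mem_inf.1 h).1 (Opens.mem_inf.1 h').1
      · exact h'
    · exact h
  have hcomp : rs S.X₂ (inf_le_left : ((O₁ ⊓ V₁) ⊔ W) ⊓ ((O₂ ⊓ V₂) ⊔ W) ≤ (O₁ ⊓ V₁) ⊔ W)
      (rs S.X₂ hU₁ b₁) =
      rs S.X₂ (inf_le_right : ((O₁ ⊓ V₁) ⊔ W) ⊓ ((O₂ ⊓ V₂) ⊔ W) ≤ (O₂ ⊓ V₂) ⊔ W)
        (rs S.X₂ hU₂ b₂') := by
    have := congrArg (rs S.X₂ hinf) hagree
    rw [rs_rs, rs_rs] at this
    rw [rs_rs, rs_rs]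
    exact this
  obtain ⟨b, hbU₁, hbU₂⟩ := glue₂ S.X₂ (le_sup_left : (O₁ ⊓ V₁) ⊔ W ≤ _)
    (le_sup_right : (O₂ ⊓ V₂) ⊔ W ≤ _) (le_refl _) (rs S.X₂ hU₁ b₁) (rs S.X₂ hU₂ b₂') hcomp
  have hle : ((O₁ ⊓ V₁) ⊔ W) ⊔ ((O₂ ⊓ V₂) ⊔ W) ≤ V := sup_le (hU₁.trans hV₁) (hU₂.trans hV₂)
  refine ⟨K₁ ∪ K₂, Set.union_subset_union hCK₁ hCK₂, hK₁.union hK₂,
    ((O₁ ⊓ V₁) ⊔ W) ⊔ ((O₂ ⊓ V₂) ⊔ W), ?_, hle, b, ?_⟩
  · rintro z (hz | hz)
    · by_cases hzW : z ∈ W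
      · exact Opens.mem_sup.2 (Or.inl (Opens.mem_sup.2 (Or.inr hzW)))
      · exact Opens.mem_sup.2 (Or.inl (Opens.mem_sup.2
          (Or.inl ⟨hEu₁ ⟨hz, hzW⟩, hKV₁ hz⟩)))
    · by_cases hzW : z ∈ W
      · exact Opens.mem_sup.2 (Or.inl (Opens.mem_sup.2 (Or.inr hzW)))
      · exact Opens.mem_sup.2 (Or.inr (Opens.mem_sup.2
          (Or.inl ⟨hEu₂ ⟨hz, hzW⟩, hKV₂ hz⟩)))
  · refine eq_of_cover₂ S.X₃ (le_sup_left : (O₁ ⊓ V₁) ⊔ W ≤ _)
      (le_sup_right : (O₂ ⊓ V₂) ⊔ W ≤ _) (le_refl _) _ _ ?_ ?_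
    · rw [← ap_rs, hbU₁, ap_rs, hb₁, rs_rs, rs_rs]
    · rw [← ap_rs, hbU₂, ap_rs, hb₂', rs_rs, rs_rs]

include hS h1 in
/-- sections of `S.X₃` lift to `S.X₂` near a compact set, if `S.X₁` is soft -/
theorem exists_lift_near [LocallyCompactSpace Y] (K : Set Y) (hK : IsCompact K)
    (hKV : K ⊆ (V : Set Y)) :
    ∃ (V' : Opens Y) (_ : K ⊆ (V' : Set Y)) (h : V' ≤ V) (b : Sec S.X₂ V'),
      apS S.g V' b = rs S.X₃ h c := by
  have key : Good S V c K := by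
    refine hK.induction_on ?_ ?_ ?_ ?_
    · exact ⟨∅, le_refl _, isCompact_empty, ⊥, Set.empty_subset _, bot_le, 0,
        eq_of_bot S.X₃ rfl _ _⟩
    · rintro C D hCD ⟨K', hDK, hK', rest⟩
      exact ⟨K', hCD.trans hDK, hK', rest⟩
    · intro C D hC hD
      exact good_union S hS h1 V c hC hD
    · intro x hx
      haveI h0 : Epi (C := TopCat.Sheaf AddCommGrpCat.{u} Y) S.g := hS.epi_g
      obtain ⟨W, hW, hxW, t, ht⟩ := exists_local_lift (F := S.X₂) (G := S.X₃) S.g c x (hKV hx)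
      obtain ⟨K', hK', hxK', hK'W⟩ := exists_compact_subset W.isOpen hxW
      exact ⟨K', mem_nhdsWithin_of_mem_nhds (mem_interior_iff_mem_nhds.1 hxK'), K', le_refl _,
        hK', W, hK'W, hW, t, ht⟩
  obtain ⟨K', hKK', -, V', hK'V', h, b, hb⟩ := key
  exact ⟨V', hKK'.trans hK'V', h, b, hb⟩

include hS h1 in
/-- the quotient of a soft sheaf by a soft subsheaf is soft -/
theorem isSoft_X₃ [CompactSpace Y] (h2 : IsSoft S.X₂) : IsSoft S.X₃ := by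
  intro A hA V hAV c
  obtain ⟨V', hAV', hV', b, hb⟩ := exists_lift_near S hS h1 V c A hA.isCompact hAV
  obtain ⟨b', V'', hAV'', hV'', hb'⟩ := h2 A hA V' hAV' b
  refine ⟨apS S.g ⊤ b', V'', hAV'', hV''.trans hV', ?_⟩
  rw [← ap_rs, hb', ap_rs, hb, rs_rs]

include hS h1 in
/-- global sections lift along an epimorphism with soft kernel -/
theorem exists_global_lift [CompactSpace Y] (c : Sec S.X₃ ⊤) :
    ∃ b : Sec S.X₂ ⊤, apS S.g ⊤ b = c := by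
  obtain ⟨V', hV', h, b, hb⟩ := exists_lift_near S hS h1 ⊤ c Set.univ isCompact_univ
    (Set.subset_univ _)
  have htop : V' = ⊤ := top_le_iff.1 (fun z _ => hV' (Set.mem_univ z))
  subst htop
  exact ⟨b, by rw [hb, rs_self]⟩

end lift

/-- soft sheaves on a compact Hausdorff space are acyclic -/
theorem H_eq_zero_of_isSoft [CompactSpace Y] [T2Space Y] (G : CohTop.Ab Y) (hG : IsSoft G)
    (n : ℕ) (ξ : CohTop.H G (n + 1)) : ξ = 0 := by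
  refine Groth.Agent.Lib.ExtAcyclic.ext_eq_zero_of_class _ (fun F : CohTop.Ab Y => IsSoft F)
    ?_ ?_ ?_ n G hG ξ
  · intro I hI
    haveI := Groth.Agent.Lib.FlasqueAcyclic.isFlasque_of_injective I
    exact isSoft_of_isFlasque I
  · intro S hS h1 h2
    exact isSoft_X₃ S hS h1 h2
  · intro S hS h1 φ
    obtain ⟨t, ht⟩ := exists_global_lift S hS h1
      (Groth.Agent.Lib.FlasqueAcyclic.constEquiv S.X₃ φ)
    refine ⟨(Groth.Agent.Lib.FlasqueAcyclic.constEquiv S.X₂).symm t, ?_⟩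
    apply (Groth.Agent.Lib.FlasqueAcyclic.constEquiv S.X₃).injective
    rw [Groth.Agent.Lib.FlasqueAcyclic.constEquiv_comp, Equiv.apply_symm_apply]
    exact ht

end Groth.Agent.Lib.SoftH2
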