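import Mathlib
import Groth.Prelude.Def_CohTop
import Groth.Agent.Lib.SoftSheaf1_helper2
import Groth.Agent.Lib.SoftCompact2_helper7
import Groth.Agent.Lib.Leray_helper9

/-!
# The inverse image of a flasque sheaf on a compact relatively Hausdorff subset is soft; dimension
shifting for `H^p(Z, i⁻¹F)` (helper2)
APPEND-ONLY once landed.
-/

set_option autoImplicit false
universe u
open CategoryTheory CategoryTheory.Limits TopologicalSpace Opposite Abelian

namespace Groth.Agent.Lib.SoftH2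

open AffVanish
open Groth.Agent.Lib.TopPullStalk_helper7 Groth.Agent.Lib.SoftCompact2_helper7

lemma rs7_eq {Y : TopCat.{u}} (G : TopCat.Sheaf AddCommGrpCat.{u} Y) {U V : Opens Y} (h : V ≤ U)
    (s : G.obj.obj (op U)) :
    Groth.Agent.Lib.SoftCompact_helper7.rs G h s = rs G h s := rfl

section SoftPull

variable {X : TopCat.{u}} {K : Set X}

/-- separation in the form used by helper7 -/
lemma sep_sets
    (hsep : ∀ x ∈ K, ∀ y ∈ K, x ≠ y → ∃ U V : Opens X, x ∈ U ∧ y ∈ V ∧ Disjoint U V) :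
    ∀ x ∈ K, ∀ y ∈ K, x ≠ y →
      ∃ U V : Set X, IsOpen U ∧ IsOpen V ∧ x ∈ U ∧ y ∈ V ∧ Disjoint U V := by
  intro x hx y hy hxy
  obtain ⟨U, V, hxU, hyV, hUV⟩ := hsep x hx y hy hxy
  refine ⟨U, V, U.isOpen, V.isOpen, hxU, hyV, ?_⟩
  rw [Set.disjoint_left]
  intro z hzU hzV
  have : z ∈ U ⊓ V := ⟨hzU, hzV⟩
  rw [disjoint_iff.1 hUV] at this
  exact this

theorem isSoft_pull_of_isFlasque (hK : IsCompact K)
    (hsep : ∀ x ∈ K, ∀ y ∈ K, x ≠ y → ∃ U V : Opens X, x ∈ U ∧ y ∈ V ∧ Disjoint U V)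
    (F : CohTop.Ab X) [TopCat.Sheaf.IsFlasque F] :
    IsSoft ((CohTop.pull (iK K)).obj F) := by
  intro A hA V hAV a
  have htop : (⊤ : Opens ↑(TopCat.of A)) ≤ (Opens.map (iA A)).obj V := fun z _ => hAV z.2
  obtain ⟨s, hs⟩ := main hK (sep_sets hsep) F hA
    (Groth.Agent.Lib.SoftCompact_helper7.rs (P (iA A) (P (iK K) F)) htop
      ((η (iA A) (P (iK K) F)).hom.app (op V) a))
  have hs' : (η (iA A) (P (iK K) F)).hom.app (op ⊤) s =
      Groth.Agent.Lib.SoftCompact_helper7.rs (P (iA A) (P (iK K) F)) htop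
        ((η (iA A) (P (iK K) F)).hom.app (op V) a) := hs
  have hloc : ∀ z : A, ∃ (U' : Opens ↑(TopCat.of K)) (_ : (iA A) z ∈ U') (h : U' ≤ V),
      Groth.Agent.Lib.SoftCompact_helper7.rs (P (iK K) F) h
        (Groth.Agent.Lib.SoftCompact_helper7.rs (P (iK K) F) le_top s) =
      Groth.Agent.Lib.SoftCompact_helper7.rs (P (iK K) F) h a := by
    intro z
    refine unit_inj' (iA A) (P (iK K) F) V
      (Groth.Agent.Lib.SoftCompact_helper7.rs (P (iK K) F) le_top s) a z (hAV z.2) ⊤ trivial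
      htop ?_
    rw [Groth.Agent.Lib.SoftCompact_helper7.η_nat (iA A) (P (iK K) F) (le_top : V ≤ ⊤) s,
      Groth.Agent.Lib.SoftCompact_helper7.rs_rs, ← hs']
    exact Groth.Agent.Lib.SoftCompact_helper7.rs_refl (P (iA A) (P (iK K) F)) _ _
  choose Uz hzUz hUz eUz using hloc
  refine ⟨s, ⨆ z : A, Uz z, ?_, iSup_le hUz, ?_⟩
  · intro z hz
    exact Opens.mem_iSup.2 ⟨⟨z, hz⟩, hzUz ⟨z, hz⟩⟩
  · refine TopCat.Sheaf.eq_of_locally_eq' (P (iK K) F) Uz _ (fun z => homOfLE (le_iSup Uz z))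
      (le_refl _) _ _ (fun z => ?_)
    show rs (P (iK K) F) (le_iSup Uz z) (rs (P (iK K) F) le_top s) =
      rs (P (iK K) F) (le_iSup Uz z) (rs (P (iK K) F) (iSup_le hUz) a)
    rw [rs_rs, rs_rs]
    have := eUz z
    rw [Groth.Agent.Lib.SoftCompact_helper7.rs_rs] at this
    exact this

end SoftPull

section PsiShift

variable {X Z' : TopCat.{u}} (i : Z' ⟶ X)

/-- Mathlib's adjunction, with the prelude's types -/
noncomputable def pbAdj : CohTop.pull i ⊣ CohTop.push i :=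
  TopCat.Sheaf.pullbackPushforwardAdjunction AddCommGrpCat.{u} i

instance pull_additive : (CohTop.pull i).Additive := (pbAdj i).left_adjoint_additive

/-- `H^p(Z', i⁻¹F)` -/
noncomputable abbrev Psi (F : CohTop.Ab X) (p : ℕ) : Type u :=
  CohTop.H ((CohTop.pull i).obj F) p

theorem shortExact_pull {S : ShortComplex (CohTop.Ab X)} (hS : S.ShortExact) :
    (S.map (CohTop.pull i)).ShortExact := by
  haveI : PreservesFiniteLimits (CohTop.pull i) := Leray.preservesFiniteLimits_pull i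
  haveI : PreservesFiniteColimits (CohTop.pull i) := by
    haveI : PreservesColimitsOfSize.{0, 0} (CohTop.pull i) :=
      (pbAdj i).leftAdjoint_preservesColimits
    exact PreservesColimitsOfSize.preservesFiniteColimits _
  exact hS.map_of_exact (CohTop.pull i)

variable {S : ShortComplex (CohTop.Ab X)} (hS : S.ShortExact)

/-- the connecting map on `Ψ` -/
noncomputable def dPsi (p : ℕ) : Psi i S.X₃ p →+ Psi i S.X₁ (p + 1) :=
  (shortExact_pull i hS).extClass.postcomp _ (rfl : p + 1 = p + 1)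

/-- the map induced by `g` -/
noncomputable def gPsi (S : ShortComplex (CohTop.Ab X)) (p : ℕ) : Psi i S.X₂ p →+ Psi i S.X₃ p :=
  Sheaf.H.map ((CohTop.pull i).map S.g) p

theorem dPsi_surjective (p : ℕ) (hI : ∀ ξ : Psi i S.X₂ (p + 1), ξ = 0) :
    Function.Surjective (dPsi i hS p) := by
  intro y
  obtain ⟨x₃, hx₃⟩ := Ext.covariant_sequence_exact₁ _ (shortExact_pull i hS) y (hI _)
    (rfl : p + 1 = p + 1)
  exact ⟨x₃, hx₃⟩

theorem dPsi_eq_zero_iff (p : ℕ) (x : Psi i S.X₃ p) :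
    dPsi i hS p x = 0 ↔ ∃ y : Psi i S.X₂ p, gPsi i S p y = x := by
  constructor
  · intro h
    obtain ⟨x₂, hx₂⟩ := Ext.covariant_sequence_exact₃ _ (shortExact_pull i hS) x rfl h
    exact ⟨x₂, hx₂⟩
  · rintro ⟨y, rfl⟩
    show ((y.comp (Ext.mk₀ ((CohTop.pull i).map S.g)) (add_zero p)).comp
      (shortExact_pull i hS).extClass (rfl : p + 1 = p + 1)) = 0
    rw [Ext.comp_assoc_of_second_deg_zero]
    have h0 := (shortExact_pull i hS).comp_extClass
    have h1 : (Ext.mk₀ ((CohTop.pull i).map S.g)).comp (shortExact_pull i hS).extClass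
        (zero_add 1) = 0 := h0
    rw [h1, Ext.comp_zero]

end PsiShift

end Groth.Agent.Lib.SoftH2
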