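import Mathlib
import Groth.Prelude.Def_CohTop
import Groth.Agent.Lib.NbhdColim2_helper2
import Groth.Agent.Lib.SoftSheaf2_helper2
import Groth.Agent.Lib.LerayHU_helper2

/-!
# Cohomology of a compact relatively Hausdorff subset as a colimit over its neighbourhoods (helper2)

`colim_{U ⊇ Z} H^p(U, F) ≃+ H^p(Z, i⁻¹F)` for `Z ⊆ X` compact with points pairwise separated by
disjoint opens of `X`.  Degree zero by gluing (helper7's `glue_global`), then dimension shifting on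
both sides.
APPEND-ONLY once landed.
-/

set_option autoImplicit false
universe u
open CategoryTheory CategoryTheory.Limits TopologicalSpace Opposite Abelian

namespace Groth.Agent.Lib.NbhdColimH2

open AffVanish Groth.Agent.Lib.FreeSheaf Groth.Agent.Lib.SoftH2
open Groth.Agent.Lib.TopPullStalk_helper7 Groth.Agent.Lib.SoftCompact2_helper7

section Sec0

variable {X : TopCat.{u}}

/-- degree-zero classes over `U` are sections over `U` -/
noncomputable def sec (U : Opens X) (F : CohTop.Ab X) : (cP F 0).obj (op U) ≃+ Sec F U :=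
  (Ext.addEquiv₀ (X := freeSheaf (Opens.grothendieckTopology X) U) (Y := F)).trans
    (Groth.Agent.Lib.LerayHU.freeSheafHomAddEquiv (Opens.grothendieckTopology X) U F)

lemma sec_mk₀ (U : Opens X) (F : CohTop.Ab X)
    (f : freeSheaf (Opens.grothendieckTopology X) U ⟶ F) :
    sec U F (Ext.mk₀ f) = freeSheafHomEquiv (Opens.grothendieckTopology X) U F f := by
  have h : Ext.addEquiv₀ (Ext.mk₀ f) = f := Ext.addEquiv₀.apply_symm_apply f
  show freeSheafHomEquiv (Opens.grothendieckTopology X) U F (Ext.addEquiv₀ (Ext.mk₀ f)) = _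
  rw [h]

lemma sec_rG (F : CohTop.Ab X) {U V : Opens X} (h : V ≤ U) (y : (cP F 0).obj (op U)) :
    sec V F (rG (cP F 0) h y) = rs F h (sec U F y) := by
  obtain ⟨f, rfl⟩ : ∃ f : freeSheaf (Opens.grothendieckTopology X) U ⟶ F, Ext.mk₀ f = y :=
    ⟨Ext.addEquiv₀ y, Ext.mk₀_addEquiv₀_apply y⟩
  rw [rG_cP, Ext.mk₀_comp_mk₀, sec_mk₀, sec_mk₀, freeSheafHomEquiv_map]

lemma sec_comp {F F' : CohTop.Ab X} (φ : F ⟶ F') (U : Opens X) (y : (cP F 0).obj (op U)) :
    sec U F' ((y : Ext.{u} (freeSheaf (Opens.grothendieckTopology X) U) F 0).comp (Ext.mk₀ φ)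
      (add_zero 0)) = apS φ U (sec U F y) := by
  obtain ⟨f, rfl⟩ : ∃ f : freeSheaf (Opens.grothendieckTopology X) U ⟶ F, Ext.mk₀ f = y :=
    ⟨Ext.addEquiv₀ y, Ext.mk₀_addEquiv₀_apply y⟩
  rw [Ext.mk₀_comp_mk₀, sec_mk₀, sec_mk₀, freeSheafHomEquiv_comp]

end Sec0

section Deg0

variable {X : TopCat.{u}} (Z : Set X) (F : CohTop.Ab X)

lemma htopOf {U : Opens X} (hU : Z ⊆ (U : Set X)) :
    (⊤ : Opens ↑(TopCat.of Z)) ≤ (Opens.map (iK Z)).obj U := fun z _ => hU z.2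

/-- the unit of the inverse image adjunction on sections -/
noncomputable def ηS (U : Opens X) : Sec F U →+ Sec (P (iK Z) F) ((Opens.map (iK Z)).obj U) :=
  ((η (iK Z) F).hom.app (op U)).hom

lemma ηS_rs {U U' : Opens X} (h : U' ≤ U) (s : Sec F U) :
    ηS Z F U' (rs F h s) =
      rs (P (iK Z) F) (Groth.Agent.Lib.SoftCompact_helper7.pm (iK Z) h) (ηS Z F U s) :=
  Groth.Agent.Lib.SoftCompact_helper7.η_nat (iK Z) F h s

lemma ηS_natural {F F' : CohTop.Ab X} (φ : F ⟶ F') (U : Opens X) (s : Sec F U) :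
    ηS Z F' U (apS φ U s) =
      apS ((CohTop.pull (iK Z)).map φ) ((Opens.map (iK Z)).obj U) (ηS Z F U s) := by
  have h := (pbAdj (iK Z)).unit.naturality φ
  have h2 := congrArg (fun ψ => (ψ.hom.app (op U)).hom s) h
  exact h2

/-- the leg of the cocone: restrict a section over `U ⊇ Z` to `Z` -/
noncomputable def leg {U : Opens X} (hU : Z ⊆ (U : Set X)) :
    (cP F 0).obj (op U) →+ Sec (P (iK Z) F) ⊤ :=
  (rs (P (iK Z) F) (htopOf Z hU)).comp ((ηS Z F U).comp (sec U F).toAddMonoidHom)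

lemma leg_apply {U : Opens X} (hU : Z ⊆ (U : Set X)) (y : (cP F 0).obj (op U)) :
    leg Z F hU y = rs (P (iK Z) F) (htopOf Z hU) (ηS Z F U (sec U F y)) := rfl

lemma leg_rG {U V : Opens X} (hU : Z ⊆ (U : Set X)) (hV : Z ⊆ (V : Set X)) (h : V ≤ U)
    (y : (cP F 0).obj (op U)) : leg Z F hV (rG (cP F 0) h y) = leg Z F hU y := by
  rw [leg_apply, leg_apply, sec_rG, ηS_rs, rs_rs]

/-- the cocone of restrictions to `Z` -/
noncomputable def e0cocone : Cocone ((NP Z).ι ⋙ cP F 0) where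
  pt := AddCommGrpCat.of (Sec (P (iK Z) F) ⊤)
  ι :=
    { app := fun j => AddCommGrpCat.ofHom (leg Z F j.property)
      naturality := by
        intro j j' f
        ext y
        show leg Z F j'.property (rG (cP F 0) (leOfHom f.hom.unop) y) = leg Z F j.property y
        exact leg_rG Z F j.property j'.property _ y }

/-- the comparison map in degree zero -/
noncomputable def e0 : Phi Z F 0 →+ Sec (P (iK Z) F) ⊤ := (colimit.desc _ (e0cocone Z F)).hom

lemma e0_ιZ {U : Opens X} (hU : Z ⊆ (U : Set X)) (y : (cP F 0).obj (op U)) :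
    e0 Z F (ιZ Z (cP F 0) U hU y) = leg Z F hU y :=
  ConcreteCategory.congr_hom (colimit.ι_desc (e0cocone Z F) (mkN Z U hU)) y

/-- the basic transformation exhibiting the inverse image -/
noncomputable def tr1 {Z' : TopCat.{u}} (f : Z' ⟶ X) (F : TopCat.Sheaf AddCommGrpCat.{u} X) :
    Groth.Agent.Lib.SoftCompact_helper7.Tr f F (P f F) where
  θ U s := (η f F).hom.app (op U) s
  nat h s := Groth.Agent.Lib.SoftCompact_helper7.η_nat f F h s
  surj W t z hz := unit_surj' f F W t z hz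
  inj U s₁ s₂ z hz W' hzW' h2 e := unit_inj' f F U s₁ s₂ z hz W' hzW' h2 e

lemma t2_of_sep
    (hsep : ∀ x ∈ Z, ∀ y ∈ Z, x ≠ y → ∃ U V : Opens X, x ∈ U ∧ y ∈ V ∧ Disjoint U V) :
    T2Space ↑(TopCat.of Z) := ⟨fun x y hxy => by
  obtain ⟨U, V, hU, hV, hxU, hyV, hUV⟩ := sep_sets hsep x.1 x.2 y.1 y.2
    (fun h => hxy (Subtype.ext h))
  exact ⟨Subtype.val ⁻¹' U, Subtype.val ⁻¹' V, hU.preimage continuous_subtype_val,
    hV.preimage continuous_subtype_val, hxU, hyV, hUV.preimage _⟩⟩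

lemma sep_pts
    (hsep : ∀ x ∈ Z, ∀ y ∈ Z, x ≠ y → ∃ U V : Opens X, x ∈ U ∧ y ∈ V ∧ Disjoint U V) :
    ∀ z z' : ↑(TopCat.of Z), z ≠ z' →
      ∃ O O' : Opens X, (iK Z) z ∈ O ∧ (iK Z) z' ∈ O' ∧ O ⊓ O' = ⊥ := by
  intro z z' hzz'
  obtain ⟨U, V, hzU, hzV, hUV⟩ := hsep z.1 z.2 z'.1 z'.2 (fun h => hzz' (Subtype.ext h))
  exact ⟨U, V, hzU, hzV, disjoint_iff.1 hUV⟩

theorem e0_surjective (hZ : IsCompact Z)
    (hsep : ∀ x ∈ Z, ∀ y ∈ Z, x ≠ y → ∃ U V : Opens X, x ∈ U ∧ y ∈ V ∧ Disjoint U V) :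
    Function.Surjective (e0 Z F) := by
  haveI : CompactSpace ↑(TopCat.of Z) := isCompact_iff_compactSpace.1 hZ
  haveI : T2Space ↑(TopCat.of Z) := t2_of_sep Z hsep
  intro t
  obtain ⟨U, s, hU, e⟩ := Groth.Agent.Lib.SoftCompact_helper7.glue_global (tr1 (iK Z) F)
    (sep_pts Z hsep) t
  have hU' : Z ⊆ (U : Set X) := fun z hz => hU ⟨z, hz⟩
  refine ⟨ιZ Z (cP F 0) U hU' ((sec U F).symm s), ?_⟩
  rw [e0_ιZ, leg_apply, AddEquiv.apply_symm_apply]
  have e' : ηS Z F U s = rs (P (iK Z) F) le_top t := e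
  rw [e', rs_rs, rs_self]

theorem e0_injective : Function.Injective (e0 Z F) := by
  rw [injective_iff_map_eq_zero]
  intro x hx
  obtain ⟨U, hU, y, rfl⟩ := exists_rep Z _ x
  rw [e0_ιZ, leg_apply] at hx
  have hloc : ∀ z : Z, ∃ (U' : Opens X) (_ : z.1 ∈ U') (h : U' ≤ U),
      rs F h (sec U F y) = 0 := by
    intro z
    have h0 : (η (iK Z) F).hom.app (op U) (0 : F.obj.obj (op U)) = 0 := map_zero (ηS Z F U)
    have h1 : Groth.Agent.Lib.SoftCompact_helper7.rs (P (iK Z) F) (htopOf Z hU)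
        ((η (iK Z) F).hom.app (op U) (0 : F.obj.obj (op U))) = 0 := by
      rw [h0]
      exact map_zero (rs (P (iK Z) F) (htopOf Z hU))
    obtain ⟨U', hzU', h, e⟩ := unit_inj' (iK Z) F U (sec U F y) 0 z (hU z.2) ⊤ trivial
      (htopOf Z hU) (hx.trans h1.symm)
    exact ⟨U', hzU', h, e.trans (map_zero (rs F h))⟩
  choose Uz hzUz hUz eUz using hloc
  have hV : Z ⊆ ((⨆ z : Z, Uz z : Opens X) : Set X) :=
    fun z hz => Opens.mem_iSup.2 ⟨⟨z, hz⟩, hzUz ⟨z, hz⟩⟩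
  have hzero : rs F (iSup_le hUz) (sec U F y) = 0 := by
    refine TopCat.Sheaf.eq_of_locally_eq' F Uz _ (fun z => homOfLE (le_iSup Uz z)) (le_refl _)
      _ _ (fun z => ?_)
    show rs F (le_iSup Uz z) (rs F (iSup_le hUz) (sec U F y)) = rs F (le_iSup Uz z) 0
    rw [rs_rs, map_zero]
    exact eUz z
  rw [← ιZ_rG Z (cP F 0) hU hV (iSup_le hUz) y]
  have h2 : rG (cP F 0) (iSup_le hUz) y = 0 := by
    apply (sec _ F).injective
    rw [sec_rG, hzero, map_zero]
  rw [h2, map_zero]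

theorem e0_natural {F F' : CohTop.Ab X} (φ : F ⟶ F') (x : Phi Z F 0) :
    e0 Z F' (mapZ Z (mapNat φ 0) x) = apS ((CohTop.pull (iK Z)).map φ) ⊤ (e0 Z F x) := by
  obtain ⟨U, hU, y, rfl⟩ := exists_rep Z _ x
  rw [mapZ_ιZ, e0_ιZ, e0_ιZ, leg_apply, leg_apply, mapNat_app, sec_comp, ap_rs, ηS_natural]

/-- the comparison isomorphism in degree zero -/
noncomputable def E0 (hZ : IsCompact Z)
    (hsep : ∀ x ∈ Z, ∀ y ∈ Z, x ≠ y → ∃ U V : Opens X, x ∈ U ∧ y ∈ V ∧ Disjoint U V) :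
    Phi Z F 0 ≃+ Psi (iK Z) F 0 :=
  (AddEquiv.ofBijective (e0 Z F) ⟨e0_injective Z F, e0_surjective Z F hZ hsep⟩).trans
    (Sheaf.H.equiv₀ ((CohTop.pull (iK Z)).obj F) isTerminalTop).symm

lemma E0_natural (hZ : IsCompact Z)
    (hsep : ∀ x ∈ Z, ∀ y ∈ Z, x ≠ y → ∃ U V : Opens X, x ∈ U ∧ y ∈ V ∧ Disjoint U V)
    {F F' : CohTop.Ab X} (φ : F ⟶ F') (x : Phi Z F 0) :
    E0 Z F' hZ hsep (mapZ Z (mapNat φ 0) x) =
      Sheaf.H.map ((CohTop.pull (iK Z)).map φ) 0 (E0 Z F hZ hsep x) := by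
  show (Sheaf.H.equiv₀ ((CohTop.pull (iK Z)).obj F') isTerminalTop).symm
      (e0 Z F' (mapZ Z (mapNat φ 0) x)) =
    Sheaf.H.map ((CohTop.pull (iK Z)).map φ) 0
      ((Sheaf.H.equiv₀ ((CohTop.pull (iK Z)).obj F) isTerminalTop).symm (e0 Z F x))
  rw [e0_natural, Sheaf.H.equiv₀_symm_naturality]

end Deg0

section Main

variable {X : TopCat.{u}} (Z : Set X)

theorem step {S : ShortComplex (CohTop.Ab X)} (hS : S.ShortExact) [Injective S.X₂] (p : ℕ)
    (E : Phi Z S.X₃ p ≃+ Psi (iK Z) S.X₃ p)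
    (hI : ∀ ξ : Psi (iK Z) S.X₂ (p + 1), ξ = 0)
    (hker : ∀ x : Phi Z S.X₃ p, (∃ y, gPhi Z S p y = x) ↔ ∃ y', gPsi (iK Z) S p y' = E x) :
    Nonempty (Phi Z S.X₁ (p + 1) ≃+ Psi (iK Z) S.X₁ (p + 1)) := by
  refine Leray.nonempty_addEquiv_of_surj (dPhi Z hS p)
    ((dPsi (iK Z) hS p).comp E.toAddMonoidHom)
    (dPhi_surjective Z hS p) ((dPsi_surjective (iK Z) hS p hI).comp E.surjective) (fun x => ?_)
  rw [dPhi_eq_zero_iff, hker]
  exact (dPsi_eq_zero_iff (iK Z) hS p (E x)).symm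

/-- the canonical short exact sequence `0 → F → I → Q → 0` with `I` injective -/
noncomputable abbrev injSC (F : CohTop.Ab X) : ShortComplex (CohTop.Ab X) :=
  ShortComplex.mk (Injective.ι F) (cokernel.π (Injective.ι F)) (cokernel.condition _)

lemma injSC_shortExact (F : CohTop.Ab X) : (injSC F).ShortExact :=
  { exact := ShortComplex.exact_of_g_is_cokernel _ (cokernelIsCokernel _)
    mono_f := inferInstanceAs (Mono (Injective.ι F))
    epi_g := inferInstanceAs (Epi (cokernel.π (Injective.ι F))) }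

theorem main (hZ : IsCompact Z)
    (hsep : ∀ x ∈ Z, ∀ y ∈ Z, x ≠ y → ∃ U V : Opens X, x ∈ U ∧ y ∈ V ∧ Disjoint U V) :
    ∀ (p : ℕ) (F : CohTop.Ab X), Nonempty (Phi Z F p ≃+ Psi (iK Z) F p) := by
  have hvan : ∀ (I : CohTop.Ab X) [Injective I] (n : ℕ) (ξ : Psi (iK Z) I (n + 1)), ξ = 0 := by
    intro I _ n ξ
    haveI : CompactSpace ↑(TopCat.of Z) := isCompact_iff_compactSpace.1 hZ
    haveI : T2Space ↑(TopCat.of Z) := t2_of_sep Z hsep
    haveI := Groth.Agent.Lib.FlasqueAcyclic.isFlasque_of_injective I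
    exact H_eq_zero_of_isSoft _ (isSoft_pull_of_isFlasque hZ hsep I) n ξ
  have hsucc : ∀ (p : ℕ) (F : CohTop.Ab X),
      Nonempty (Phi Z F (p + 1) ≃+ Psi (iK Z) F (p + 1)) := by
    intro p
    induction p with
    | zero =>
      intro F
      haveI : Injective (injSC F).X₂ := inferInstanceAs (Injective (Injective.under F))
      refine step Z (injSC_shortExact F) 0 (E0 Z (injSC F).X₃ hZ hsep)
        (hvan (injSC F).X₂ 0) (fun x => ?_)
      constructor
      · rintro ⟨y, rfl⟩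
        exact ⟨E0 Z (injSC F).X₂ hZ hsep y, (E0_natural Z hZ hsep (injSC F).g y).symm⟩
      · rintro ⟨y', hy'⟩
        refine ⟨(E0 Z (injSC F).X₂ hZ hsep).symm y',
          (E0 Z (injSC F).X₃ hZ hsep).injective ?_⟩
        have h3 := E0_natural Z hZ hsep (injSC F).g ((E0 Z (injSC F).X₂ hZ hsep).symm y')
        rw [AddEquiv.apply_symm_apply] at h3
        exact h3.trans hy'
    | succ p ih =>
      intro F
      haveI : Injective (injSC F).X₂ := inferInstanceAs (Injective (Injective.under F))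
      obtain ⟨E⟩ := ih (injSC F).X₃
      refine step Z (injSC_shortExact F) (p + 1) E (hvan (injSC F).X₂ (p + 1)) (fun x => ?_)
      constructor
      · rintro ⟨y, rfl⟩
        have hy : y = 0 := phi_eq_zero_of_injective Z (injSC F).X₂ p y
        refine ⟨0, ?_⟩
        rw [hy, map_zero, map_zero, map_zero]
      · rintro ⟨y', hy'⟩
        have hy : y' = 0 := hvan (injSC F).X₂ p y'
        rw [hy, map_zero] at hy'
        refine ⟨0, ?_⟩
        rw [map_zero]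
        exact (E.map_eq_zero_iff.1 hy'.symm).symm
  intro p F
  cases p with
  | zero => exact ⟨E0 Z F hZ hsep⟩
  | succ p => exact hsucc p F

end Main

end Groth.Agent.Lib.NbhdColimH2
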