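import Mathlib

/-!
# Directed intersections of quasi-compact opens in spectral spaces (helper2)

`𝒰` a nonempty down-directed family of quasi-compact opens of a spectral space, `W = ⋂ 𝒰`.
* `exists_disjoint`: a constructible-closed set `K ∩ C` (`K` qc open, `C` closed) disjoint from `W`
  is disjoint from some member of `𝒰`;
* `isCompact_inter`: `W ∩ K` is quasi-compact for `K` qc open;
* `exists_le_of_subset`: every open containing `W` contains a member of `𝒰`.
APPEND-ONLY once landed.
-/

set_option autoImplicit false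
open TopologicalSpace Topology

namespace Groth.Agent.Lib.ProOpenH2

variable {X : Type*} [TopologicalSpace X]

section Dir

variable (𝒰 : Set (Opens X)) (hne : 𝒰.Nonempty)
  (hdir : ∀ U ∈ 𝒰, ∀ U' ∈ 𝒰, ∃ U'' ∈ 𝒰, U'' ≤ U ⊓ U')

include hne hdir in
lemma exists_le_finset (s : Finset (Opens X)) (hs : ∀ U ∈ s, U ∈ 𝒰) :
    ∃ U₀ ∈ 𝒰, ∀ U ∈ s, U₀ ≤ U := by
  classical
  induction s using Finset.induction_on with
  | empty =>
    obtain ⟨U, hU⟩ := hne
    exact ⟨U, hU, fun _ h => absurd h (Finset.notMem_empty _)⟩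
  | insert a s _ ih =>
    obtain ⟨U₁, hU₁, h1⟩ := ih (fun U hU => hs U (Finset.mem_insert_of_mem hU))
    obtain ⟨U₂, hU₂, h2⟩ := hdir a (hs a (Finset.mem_insert_self a s)) U₁ hU₁
    refine ⟨U₂, hU₂, fun U hU => ?_⟩
    rcases Finset.mem_insert.mp hU with rfl | hU
    · exact h2.trans inf_le_left
    · exact (h2.trans inf_le_right).trans (h1 U hU)

end Dir

section Constr

variable [PrespectralSpace X]

/-- opens are open in the constructible topology -/
lemma isOpen_constructible_of_isOpen {O : Set X} (hO : IsOpen O) :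
    IsOpen[constructibleTopology X] O := by
  have hb := PrespectralSpace.isTopologicalBasis (X := X)
  rw [hb.open_eq_sUnion' hO]
  refine @isOpen_sUnion X (constructibleTopology X) _ ?_
  rintro s ⟨⟨hso, hsc⟩, -⟩
  exact hsc.isOpen_constructibleTopology_of_isOpen hso

lemma isClosed_constructible_of_isClosed {C : Set X} (hC : IsClosed C) :
    IsClosed[constructibleTopology X] C :=
  @IsClosed.mk X (constructibleTopology X) C (isOpen_constructible_of_isOpen hC.isOpen_compl)

lemma isClosed_constructible_of_isCompact_isOpen {K : Set X} (hK : IsCompact K) (hKo : IsOpen K) :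
    IsClosed[constructibleTopology X] K := by
  refine @IsClosed.mk X (constructibleTopology X) K ?_
  apply IsCompact.isOpen_constructibleTopology_of_isClosed
  · rwa [compl_compl]
  · exact hKo.isClosed_compl

end Constr

variable [CompactSpace X] [QuasiSober X] [PrespectralSpace X] [QuasiSeparatedSpace X]

lemma isCompact_univ_constructible : @IsCompact X (constructibleTopology X) Set.univ := by
  have h0 : IsCompact (Set.univ : Set (WithConstructibleTopology X)) := isCompact_univ
  have h := @IsCompact.image (WithConstructibleTopology X) X _ (constructibleTopology X)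
    Set.univ WithTopology.ofTopology h0
    (WithTopology.continuous_ofTopology (t := constructibleTopology X))
  rwa [Set.image_univ, (WithTopology.ofTopology_surjective _).range_eq] at h

variable (𝒰 : Set (Opens X)) (hne : 𝒰.Nonempty) (hcpt : ∀ U ∈ 𝒰, IsCompact (U : Set X))
  (hdir : ∀ U ∈ 𝒰, ∀ U' ∈ 𝒰, ∃ U'' ∈ 𝒰, U'' ≤ U ⊓ U')

include hne hcpt hdir in
/-- a constructible-closed set disjoint from `⋂ 𝒰` is disjoint from a member of `𝒰` -/
theorem exists_disjoint (K C : Set X) (hK : IsCompact K) (hKo : IsOpen K) (hC : IsClosed C)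
    (hempty : ∀ x, (∀ U ∈ 𝒰, x ∈ U) → x ∉ K ∩ C) : ∃ U ∈ 𝒰, (U : Set X) ∩ (K ∩ C) = ∅ := by
  classical
  have hKC : IsClosed[constructibleTopology X] (K ∩ C) :=
    @IsClosed.inter X K C (constructibleTopology X)
      (isClosed_constructible_of_isCompact_isOpen hK hKo) (isClosed_constructible_of_isClosed hC)
  have hcl : ∀ U : 𝒰, IsClosed[constructibleTopology X] ((U.1 : Set X) ∩ (K ∩ C)) := fun U =>
    @IsClosed.inter X _ _ (constructibleTopology X)
      (isClosed_constructible_of_isCompact_isOpen (hcpt U.1 U.2) U.1.isOpen) hKC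
  have hinter : (Set.univ : Set X) ∩ ⋂ U : 𝒰, ((U.1 : Set X) ∩ (K ∩ C)) = ∅ := by
    ext x
    simp only [Set.univ_inter, Set.mem_iInter, Set.mem_empty_iff_false, iff_false]
    intro hx
    obtain ⟨U₀, hU₀⟩ := hne
    exact hempty x (fun U hU => (hx ⟨U, hU⟩).1) (hx ⟨U₀, hU₀⟩).2
  obtain ⟨u, hu⟩ := @IsCompact.elim_finite_subfamily_closed X (constructibleTopology X)
    Set.univ 𝒰 isCompact_univ_constructible _ hcl hinter
  obtain ⟨U₀, hU₀, hle⟩ := exists_le_finset 𝒰 hne hdir (u.image Subtype.val) (by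
    intro U hU
    obtain ⟨V, -, rfl⟩ := Finset.mem_image.mp hU
    exact V.2)
  refine ⟨U₀, hU₀, ?_⟩
  ext x
  simp only [Set.mem_empty_iff_false, iff_false]
  intro hx
  have : x ∈ (Set.univ : Set X) ∩ ⋂ U ∈ u, ((U.1 : Set X) ∩ (K ∩ C)) := by
    refine ⟨trivial, ?_⟩
    simp only [Set.mem_iInter]
    intro U hU
    exact ⟨hle U.1 (Finset.mem_image_of_mem _ hU) hx.1, hx.2⟩
  rw [hu] at this
  exact this

include hne hcpt hdir in
/-- every open containing `⋂ 𝒰` contains a member of `𝒰` -/
theorem exists_le_of_subset (O : Opens X) (hO : ∀ x, (∀ U ∈ 𝒰, x ∈ U) → x ∈ O) :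
    ∃ U ∈ 𝒰, U ≤ O := by
  obtain ⟨U₁, hU₁⟩ := hne
  obtain ⟨U, hU, h⟩ := exists_disjoint 𝒰 ⟨U₁, hU₁⟩ hcpt hdir (U₁ : Set X) (O : Set X)ᶜ
    (hcpt U₁ hU₁) U₁.isOpen O.isOpen.isClosed_compl (fun x hx hxc => hxc.2 (hO x hx))
  obtain ⟨U₂, hU₂, h2⟩ := hdir U hU U₁ hU₁
  refine ⟨U₂, hU₂, fun x hx => ?_⟩
  by_contra hxO
  have : x ∈ (U : Set X) ∩ ((U₁ : Set X) ∩ (O : Set X)ᶜ) :=
    ⟨(h2.trans inf_le_left) hx, (h2.trans inf_le_right) hx, hxO⟩
  rw [h] at this
  exact this

include hne hcpt hdir in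
/-- `(⋂ 𝒰) ∩ K` is quasi-compact for `K` quasi-compact open -/
theorem isCompact_inter (W : Set X) (hW : ∀ x, x ∈ W ↔ ∀ U ∈ 𝒰, x ∈ U) (K : Set X)
    (hK : IsCompact K) (hKo : IsOpen K) : IsCompact (W ∩ K) := by
  have hWeq : W ∩ K = (⋂ U : 𝒰, (U.1 : Set X)) ∩ K := by
    ext x
    constructor
    · rintro ⟨hx, hxK⟩
      exact ⟨Set.mem_iInter.mpr (fun U => (hW x).mp hx U.1 U.2), hxK⟩
    · rintro ⟨hx, hxK⟩
      exact ⟨(hW x).mpr (fun U hU => Set.mem_iInter.mp hx ⟨U, hU⟩), hxK⟩
  have hcl : IsClosed[constructibleTopology X] (W ∩ K) := by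
    rw [hWeq]
    refine @IsClosed.inter X _ _ (constructibleTopology X) ?_
      (isClosed_constructible_of_isCompact_isOpen hK hKo)
    exact @isClosed_iInter X _ (constructibleTopology X) _ (fun U =>
      isClosed_constructible_of_isCompact_isOpen (hcpt U.1 U.2) U.1.isOpen)
  have hc : @IsCompact X (constructibleTopology X) (W ∩ K) := by
    have := @IsCompact.inter_right X (constructibleTopology X) Set.univ (W ∩ K)
      isCompact_univ_constructible hcl
    rwa [Set.univ_inter] at this
  have hcont : @Continuous X X (constructibleTopology X) _ id := by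
    refine @Continuous.mk X X (constructibleTopology X) _ id (fun s hs => ?_)
    exact isOpen_constructible_of_isOpen hs
  have := @IsCompact.image X X (constructibleTopology X) _ (W ∩ K) id hc hcont
  rwa [Set.image_id] at this

end Groth.Agent.Lib.ProOpenH2
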