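import Mathlib
import Groth.Prelude.Def_CohTop
import Groth.Agent.Lib.ProOpen1_helper2
import Groth.Agent.Lib.SoftCompact_helper7
import Groth.Agent.Lib.CechConcrete_helper2

/-!
# Sections of an inverse image over a pro-(quasi-compact open) subset extend (helper2)

`f : Z ⟶ X` behaving like the inclusion of `W = ⋂ 𝒰` (abstract hypotheses `ProData`), `𝒯` an
inverse image of `F` along `f` (helper7's `Tr`).  Every section of `𝒯` over `f⁻¹ V`, `V` qc open,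
comes from a section of `F` over `U ⊓ V` for some `U ∈ 𝒰`.
APPEND-ONLY once landed.
-/

set_option autoImplicit false
universe u
open CategoryTheory TopCat TopologicalSpace Opposite

namespace Groth.Agent.Lib.ProOpenH2

open Groth.Agent.Lib.SoftCompact_helper7

variable {Z X : TopCat.{u}}

/-- abstract properties of the inclusion of a directed intersection of qc opens -/
structure ProData (f : Z ⟶ X) (𝒰 : Set (Opens X)) : Prop where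
  ne : 𝒰.Nonempty
  dir : ∀ U ∈ 𝒰, ∀ U' ∈ 𝒰, ∃ U'' ∈ 𝒰, U'' ≤ U ⊓ U'
  range : ∀ z, ∀ U ∈ 𝒰, f z ∈ U
  disj : ∀ (K : Opens X) (C : Set X), IsCompact (K : Set X) → IsClosed C →
    (∀ z, f z ∉ (K : Set X) ∩ C) → ∃ U ∈ 𝒰, (U : Set X) ∩ ((K : Set X) ∩ C) = ∅
  cpt : ∀ K : Opens X, IsCompact (K : Set X) → IsCompact (((Opens.map f).obj K : Opens Z) : Set Z)
  basis : ∀ (O : Opens X) (x : X), x ∈ O → ∃ K : Opens X, IsCompact (K : Set X) ∧ x ∈ K ∧ K ≤ O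
  ind : ∀ W' : Opens Z, ∃ O : Opens X, W' = (Opens.map f).obj O
  inter : ∀ K K' : Opens X, IsCompact (K : Set X) → IsCompact (K' : Set X) →
    IsCompact ((K ⊓ K' : Opens X) : Set X)

variable {f : Z ⟶ X} {𝒰 : Set (Opens X)} {F : TopCat.Sheaf AddCommGrpCat.{u} X}
  {𝒯 : TopCat.Sheaf AddCommGrpCat.{u} Z} (T : Tr f F 𝒯)

lemma rs_eq_res {Y : TopCat.{u}} (G : TopCat.Sheaf AddCommGrpCat.{u} Y) {U V : Opens Y}
    (h : V ≤ U) (s : G.obj.obj (op U)) : rs G h s = Groth.Agent.Lib.Cech.res G.obj h s := rfl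

include T in
lemma local_rep (D : ProData f 𝒰) (V : Opens X)
    (t : 𝒯.obj.obj (op ((Opens.map f).obj V))) (z : Z) (hz : f z ∈ V) :
    ∃ (K : Opens X) (hKV : K ≤ V) (s : F.obj.obj (op K)), IsCompact (K : Set X) ∧ f z ∈ K ∧
      T.θ K s = rs 𝒯 (pm f hKV) t := by
  obtain ⟨U, hfU, s, W', hzW', h1, h2, e⟩ := T.surj ((Opens.map f).obj V) t z hz
  obtain ⟨O, rfl⟩ := D.ind W'
  have hzO : f z ∈ O := hzW'
  obtain ⟨K, hKc, hzK, hKle⟩ := D.basis (U ⊓ V ⊓ O) (f z) ⟨⟨hfU, hz⟩, hzO⟩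
  have hKU : K ≤ U := hKle.trans (inf_le_left.trans inf_le_left)
  have hKV : K ≤ V := hKle.trans (inf_le_left.trans inf_le_right)
  have hKO : K ≤ O := hKle.trans inf_le_right
  refine ⟨K, hKV, rs F hKU s, hKc, hzK, ?_⟩
  rw [T.nat hKU s]
  have h3 := congrArg (rs 𝒯 (pm f hKO)) e
  rw [rs_rs, rs_rs] at h3
  exact h3

include T in
lemma overlap (D : ProData f 𝒰) {K₁ K₂ : Opens X} (hK₁ : IsCompact (K₁ : Set X))
    (hK₂ : IsCompact (K₂ : Set X)) (s₁ : F.obj.obj (op K₁)) (s₂ : F.obj.obj (op K₂))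
    (hθ : rs 𝒯 (pm f (inf_le_left : K₁ ⊓ K₂ ≤ K₁)) (T.θ K₁ s₁) =
      rs 𝒯 (pm f (inf_le_right : K₁ ⊓ K₂ ≤ K₂)) (T.θ K₂ s₂)) :
    ∃ U ∈ 𝒰, ∀ (A : Opens X) (h1 : A ≤ K₁) (h2 : A ≤ K₂), A ≤ U → rs F h1 s₁ = rs F h2 s₂ := by
  obtain ⟨a, ha⟩ : ∃ a : F.obj.obj (op (K₁ ⊓ K₂)), a = rs F inf_le_left s₁ := ⟨_, rfl⟩
  obtain ⟨b, hb⟩ : ∃ b : F.obj.obj (op (K₁ ⊓ K₂)), b = rs F inf_le_right s₂ := ⟨_, rfl⟩
  have hab : T.θ (K₁ ⊓ K₂) a = T.θ (K₁ ⊓ K₂) b := by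
    rw [ha, hb, T.nat, T.nat]
    exact hθ
  let S : Set (Opens X) := {U' | ∃ h : U' ≤ K₁ ⊓ K₂, rs F h a = rs F h b}
  have hO_le : sSup S ≤ K₁ ⊓ K₂ := sSup_le (fun U' hU' => hU'.1)
  have hO_eq : rs F hO_le a = rs F hO_le b := by
    rw [rs_eq_res, rs_eq_res]
    refine Groth.Agent.Lib.Cech.ext_of_cover (F := F) (fun k : S => k.1) (sSup S)
      (fun k => le_sSup k.2) (by rw [sSup_eq_iSup']) _ _ (fun k => ?_)
    rw [← rs_eq_res, ← rs_eq_res, ← rs_eq_res, ← rs_eq_res, rs_rs, rs_rs]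
    exact k.2.2
  have hmem : ∀ z, f z ∈ K₁ ⊓ K₂ → f z ∈ sSup S := by
    intro z hz
    obtain ⟨U', hzU', h, e⟩ := T.inj (K₁ ⊓ K₂) a b z hz ((Opens.map f).obj (K₁ ⊓ K₂)) hz le_rfl
      (by rw [hab])
    exact (le_sSup (show U' ∈ S from ⟨h, e⟩)) hzU'
  obtain ⟨U, hU, hdisj⟩ := D.disj (K₁ ⊓ K₂) ((sSup S : Opens X) : Set X)ᶜ (D.inter _ _ hK₁ hK₂)
    (sSup S).isOpen.isClosed_compl (fun z hz => hz.2 (hmem z hz.1))
  refine ⟨U, hU, fun A h1 h2 hAU => ?_⟩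
  have hAO : A ≤ sSup S := by
    intro x hx
    by_contra hxO
    have : x ∈ (U : Set X) ∩ (((K₁ ⊓ K₂ : Opens X) : Set X) ∩ ((sSup S : Opens X) : Set X)ᶜ) :=
      ⟨hAU hx, ⟨h1 hx, h2 hx⟩, hxO⟩
    rw [hdisj] at this
    exact this
  have e1 : rs F h1 s₁ = rs F hAO (rs F hO_le a) := by rw [ha, rs_rs, rs_rs]
  have e2 : rs F h2 s₂ = rs F hAO (rs F hO_le b) := by rw [hb, rs_rs, rs_rs]
  rw [e1, e2, hO_eq]

include T in
/-- **sections over `f⁻¹ V` come from sections over `U ⊓ V` for some `U ∈ 𝒰`** -/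
theorem glue_pro (D : ProData f 𝒰) (V : Opens X) (hV : IsCompact (V : Set X))
    (t : 𝒯.obj.obj (op ((Opens.map f).obj V))) :
    ∃ (U : Opens X) (_ : U ∈ 𝒰) (s : F.obj.obj (op (U ⊓ V)))
      (h : (Opens.map f).obj V ≤ (Opens.map f).obj (U ⊓ V)), rs 𝒯 h (T.θ (U ⊓ V) s) = t := by
  classical
  have key := fun z : (((Opens.map f).obj V : Opens Z) : Set Z) => local_rep T D V t z.1 z.2
  choose K hKV s hKc hzK hθ using key
  obtain ⟨J, hJ⟩ := (D.cpt V hV).elim_finite_subcover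
    (fun z => (((Opens.map f).obj (K z) : Opens Z) : Set Z))
    (fun z => ((Opens.map f).obj (K z)).isOpen)
    (fun z hz => Set.mem_iUnion.mpr ⟨⟨z, hz⟩, hzK ⟨z, hz⟩⟩)
  -- overlaps
  have hov : ∀ j l, ∃ U ∈ 𝒰, ∀ (A : Opens X) (h1 : A ≤ K j) (h2 : A ≤ K l), A ≤ U →
      rs F h1 (s j) = rs F h2 (s l) := by
    intro j l
    refine overlap T D (hKc j) (hKc l) (s j) (s l) ?_
    rw [hθ j, hθ l, rs_rs, rs_rs]
  choose Uov hUov hUov' using hov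
  -- covering
  obtain ⟨U₀, hU₀, hdisj⟩ := D.disj V (((⨆ j : J, K j.1 : Opens X)) : Set X)ᶜ hV
    (⨆ j : J, K j.1 : Opens X).isOpen.isClosed_compl (by
      rintro z ⟨hzV, hzC⟩
      apply hzC
      obtain ⟨j, hjJ, hzj⟩ := Set.mem_iUnion₂.mp (hJ (show z ∈ _ from hzV))
      exact Opens.mem_iSup.mpr ⟨⟨j, hjJ⟩, hzj⟩)
  have hU₀cov : U₀ ⊓ V ≤ ⨆ j : J, K j.1 := by
    intro x hx
    by_contra hxc
    have : x ∈ (U₀ : Set X) ∩ ((V : Set X) ∩ (((⨆ j : J, K j.1 : Opens X)) : Set X)ᶜ) :=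
      ⟨hx.1, hx.2, hxc⟩
    rw [hdisj] at this
    exact this
  -- a common member of `𝒰`
  obtain ⟨U, hU, hUle⟩ := exists_le_finset 𝒰 D.ne D.dir
    (insert U₀ ((J ×ˢ J).image (fun jl => Uov jl.1 jl.2))) (by
      intro U' hU'
      rcases Finset.mem_insert.mp hU' with rfl | hU'
      · exact hU₀
      · obtain ⟨jl, -, rfl⟩ := Finset.mem_image.mp hU'
        exact hUov _ _)
  have hUU₀ : U ≤ U₀ := hUle U₀ (Finset.mem_insert_self _ _)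
  have hUov'' : ∀ j l : J, U ≤ Uov j.1 l.1 := fun j l =>
    hUle _ (Finset.mem_insert_of_mem (Finset.mem_image.mpr
      ⟨(j.1, l.1), Finset.mem_product.mpr ⟨j.2, l.2⟩, rfl⟩))
  -- gluing
  have hW : ∀ j : J, U ⊓ K j.1 ≤ U ⊓ V := fun j => inf_le_inf_left U (hKV j.1)
  have hcov : U ⊓ V ≤ ⨆ j : J, U ⊓ K j.1 := by
    intro x hx
    obtain ⟨j, hj⟩ := Opens.mem_iSup.mp (hU₀cov ⟨hUU₀ hx.1, hx.2⟩)
    exact Opens.mem_iSup.mpr ⟨j, hx.1, hj⟩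
  obtain ⟨g, hg⟩ := Groth.Agent.Lib.Cech.glue (F := F) (fun j : J => U ⊓ K j.1) (U ⊓ V) hW hcov
    (fun j => rs F (inf_le_right : U ⊓ K j.1 ≤ K j.1) (s j.1)) (by
      intro j l
      rw [← rs_eq_res, ← rs_eq_res, rs_rs, rs_rs]
      exact hUov' j.1 l.1 _ _ _ ((inf_le_left.trans inf_le_left).trans (hUov'' j l)))
  have h : (Opens.map f).obj V ≤ (Opens.map f).obj (U ⊓ V) := fun z hz => ⟨D.range z U hU, hz⟩
  refine ⟨U, hU, g, h, ?_⟩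
  refine Groth.Agent.Lib.Cech.ext_of_cover (F := 𝒯) (fun j : J => (Opens.map f).obj (U ⊓ K j.1))
    ((Opens.map f).obj V) (fun j => pm f (inf_le_right.trans (hKV j.1))) ?_ _ _ (fun j => ?_)
  · intro z hz
    obtain ⟨j, hjJ, hzj⟩ := Set.mem_iUnion₂.mp (hJ (show z ∈ _ from hz))
    exact Opens.mem_iSup.mpr ⟨⟨j, hjJ⟩, D.range z U hU, hzj⟩
  · rw [← rs_eq_res, ← rs_eq_res, rs_rs]
    have e1 : rs 𝒯 ((pm f (inf_le_right.trans (hKV j.1))).trans h) (T.θ (U ⊓ V) g) =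
        T.θ (U ⊓ K j.1) (rs F (hW j) g) := (T.nat (hW j) g).symm
    rw [e1]
    have e2 : rs F (hW j) g = rs F (inf_le_right : U ⊓ K j.1 ≤ K j.1) (s j.1) := hg j
    rw [e2, T.nat, hθ j.1, rs_rs]

end Groth.Agent.Lib.ProOpenH2
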