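import Mathlib
import Groth.Prelude.Def_CohTop
import Groth.Agent.Lib.ProOpen2_helper2
import Groth.Agent.Lib.NbhdColim3_helper2
import Groth.Agent.Lib.CechCartan_helper2
import Groth.Agent.Lib.CechAffine_helper2
import Groth.Agent.Lib.ColimCoh3_helper9

/-!
# Cohomology of a directed intersection of qc opens of a spectral space (helper2)

`W = ⋂ 𝒰`, `𝒰` a nonempty down-directed family of quasi-compact opens of a spectral space `X`:
`colim_{O ⊇ W} H^p(O, F) ≃+ H^p(W, F|_W)`.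
APPEND-ONLY once landed.
-/

set_option autoImplicit false
universe u
open CategoryTheory CategoryTheory.Limits TopologicalSpace Opposite Abelian

namespace Groth.Agent.Lib.ProOpenH2

open AffVanish Groth.Agent.Lib.FreeSheaf Groth.Agent.Lib.SoftH2
open Groth.Agent.Lib.TopPullStalk_helper7 Groth.Agent.Lib.SoftCompact2_helper7
open Groth.Agent.Lib.NbhdColimH2

section Data

variable {X : TopCat.{u}} [CompactSpace X] [QuasiSober X] [PrespectralSpace X]
  [QuasiSeparatedSpace X]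
  (𝒰 : Set (Opens X)) (hne : 𝒰.Nonempty) (hcpt : ∀ U ∈ 𝒰, IsCompact (U : Set X))
  (hdir : ∀ U ∈ 𝒰, ∀ U' ∈ 𝒰, ∃ U'' ∈ 𝒰, U'' ≤ U ⊓ U')
  (W : Set X) (hW : ∀ x, x ∈ W ↔ ∀ U ∈ 𝒰, x ∈ U)

include hne hcpt hdir hW in
theorem proData : ProData (iK W) 𝒰 where
  ne := hne
  dir := hdir
  range := fun z U hU => (hW z.1).mp z.2 U hU
  disj := fun K C hK hC h =>
    exists_disjoint 𝒰 hne hcpt hdir (K : Set X) C hK K.isOpen hC
      (fun x hx hxKC => h ⟨x, (hW x).mpr hx⟩ hxKC)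
  cpt := fun K hK => by
    have h := isCompact_inter 𝒰 hne hcpt hdir W hW (K : Set X) hK K.isOpen
    rw [Topology.IsInducing.subtypeVal.isCompact_iff]
    convert h using 1
    ext x
    constructor
    · rintro ⟨z, hz, rfl⟩
      exact ⟨z.2, hz⟩
    · rintro ⟨hxW, hxK⟩
      exact ⟨⟨x, hxW⟩, hxK, rfl⟩
  basis := fun O x hx => (ColimCoh.qcqs_of_prespectral (⊤ : Opens X)).basis O le_top x hx
  ind := fun W' => by
    obtain ⟨O, hO, hOW⟩ := isOpen_induced_iff.mp W'.isOpen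
    exact ⟨⟨O, hO⟩, Opens.ext hOW.symm⟩
  inter := fun K K' hK hK' =>
    (ColimCoh.qcqs_of_prespectral (⊤ : Opens X)).inter K K' le_top le_top hK hK'

include hne hcpt hdir hW in
theorem e0_surjective' (F : CohTop.Ab X) : Function.Surjective (e0 W F) := by
  intro t
  have D := proData 𝒰 hne hcpt hdir W hW
  obtain ⟨U, hU, s, h, e⟩ := glue_pro (tr1 (iK W) F) D ⊤ isCompact_univ t
  have hU' : W ⊆ ((U ⊓ ⊤ : Opens X) : Set X) := fun x hx => ⟨(hW x).mp hx U hU, trivial⟩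
  refine ⟨ιZ W (cP F 0) (U ⊓ ⊤) hU' ((sec (U ⊓ ⊤) F).symm s), ?_⟩
  rw [e0_ιZ, leg_apply, AddEquiv.apply_symm_apply]
  exact e

lemma map_iInf_fin {Z' Y : TopCat.{u}} (g : Z' ⟶ Y) {n : ℕ} (V : Fin n → Opens Y) :
    (Opens.map g).obj (⨅ k, V k) = ⨅ k, (Opens.map g).obj (V k) := by
  apply Opens.ext
  rw [Opens.coe_iInf]
  show g ⁻¹' ((⨅ k, V k : Opens Y) : Set Y) = _
  rw [Opens.coe_iInf, Set.preimage_iInter]
  rfl

lemma map_iSup' {Z' Y : TopCat.{u}} (g : Z' ⟶ Y) {κ : Type*} (V : κ → Opens Y) :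
    (Opens.map g).obj (⨆ k, V k) = ⨆ k, (Opens.map g).obj (V k) := by
  apply Opens.ext
  rw [Opens.coe_iSup]
  show g ⁻¹' ((⨆ k, V k : Opens Y) : Set Y) = _
  rw [Opens.coe_iSup, Set.preimage_iUnion]
  rfl

include hne hcpt hdir hW in
/-- restriction maps of the inverse image of a flasque sheaf onto preimages of qc opens are
surjective -/
theorem res_surjective_pull (I : CohTop.Ab X) [TopCat.Sheaf.IsFlasque I]
    (V : Opens X) (hV : IsCompact (V : Set X)) (M A : Opens ↑(TopCat.of W))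
    (hM : M = (Opens.map (iK W)).obj V) (hMA : M ≤ A) :
    Function.Surjective (Groth.Agent.Lib.Cech.res (P (iK W) I).obj hMA) := by
  subst hM
  intro t
  have D := proData 𝒰 hne hcpt hdir W hW
  obtain ⟨U, hU, s, h, e⟩ := glue_pro (tr1 (iK W) I) D V hV t
  have hepi : Epi (I.obj.map (homOfLE (le_top : U ⊓ V ≤ ⊤)).op) :=
    TopCat.Presheaf.IsFlasque.epi _
  obtain ⟨s', hs'⟩ := (AddCommGrpCat.epi_iff_surjective _).mp hepi s
  have hs'' : Groth.Agent.Lib.SoftCompact_helper7.rs I (le_top : U ⊓ V ≤ ⊤) s' = s := hs'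
  refine ⟨Groth.Agent.Lib.SoftCompact_helper7.rs (P (iK W) I)
    (le_top : A ≤ (Opens.map (iK W)).obj ⊤) ((tr1 (iK W) I).θ ⊤ s'), ?_⟩
  rw [← rs_eq_res, Groth.Agent.Lib.SoftCompact_helper7.rs_rs, ← e, ← hs'', (tr1 (iK W) I).nat,
    Groth.Agent.Lib.SoftCompact_helper7.rs_rs]
  rfl

include hne hcpt hdir hW in
theorem ext_vanish_pull (I : CohTop.Ab X) [TopCat.Sheaf.IsFlasque I] (n : ℕ)
    (ξ : Ext (freeSheaf (Opens.grothendieckTopology ↑(TopCat.of W)) ⊤) (P (iK W) I) (n + 1)) :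
    ξ = 0 := by
  classical
  have D := proData 𝒰 hne hcpt hdir W hW
  have hq := ColimCoh.qcqs_of_prespectral (⊤ : Opens X)
  refine Groth.Agent.Lib.Cech.ext_eq_zero_of_cech
    (fun A : Opens ↑(TopCat.of W) =>
      ∃ V : Opens X, IsCompact (V : Set X) ∧ A = (Opens.map (iK W)).obj V)
    (fun ι' U' => Finite ι' ∧
      ∀ j, ∃ V : Opens X, IsCompact (V : Set X) ∧ U' j = (Opens.map (iK W)).obj V)
    ?_ ?_ ⊤ ⟨⊤, isCompact_univ, rfl⟩ (P (iK W) I) ?_ n ξ
  · rintro ι' U' ⟨_, hU'⟩ m σ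
    choose V hVc hV using hU'
    refine ⟨⨅ k, V (σ k), ColimCoh.isCompact_iInf_fin hq V hVc (fun _ => le_top) m σ, ?_⟩
    rw [map_iInf_fin]
    exact iInf_congr (fun k => hV (σ k))
  · rintro U₀ ⟨V₀, hV₀c, rfl⟩ κ Wf hWf
    have key : ∀ z : (((Opens.map (iK W)).obj V₀ : Opens ↑(TopCat.of W)) : Set ↑(TopCat.of W)),
        ∃ (K : Opens X) (k : κ), IsCompact (K : Set X) ∧ (iK W) z.1 ∈ K ∧ K ≤ V₀ ∧
          (Opens.map (iK W)).obj K ≤ Wf k := by
      intro z
      have hz : z.1 ∈ iSup Wf := by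
        rw [hWf]
        exact z.2
      obtain ⟨k, hk⟩ := Opens.mem_iSup.mp hz
      obtain ⟨O, hO⟩ := D.ind (Wf k)
      have hzO : (iK W) z.1 ∈ O := by
        rw [hO] at hk
        exact hk
      obtain ⟨K, hKc, hzK, hKle⟩ := D.basis (O ⊓ V₀) ((iK W) z.1) ⟨hzO, z.2⟩
      refine ⟨K, k, hKc, hzK, hKle.trans inf_le_right, ?_⟩
      rw [hO]
      exact Groth.Agent.Lib.SoftCompact_helper7.pm (iK W) (hKle.trans inf_le_left)
    choose K k hKc hzK hKV hKW using key
    obtain ⟨J, hJ⟩ := (D.cpt V₀ hV₀c).elim_finite_subcover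
      (fun z => (((Opens.map (iK W)).obj (K z) : Opens ↑(TopCat.of W)) : Set ↑(TopCat.of W)))
      (fun z => ((Opens.map (iK W)).obj (K z)).isOpen)
      (fun z hz => Set.mem_iUnion.mpr ⟨⟨z, hz⟩, hzK ⟨z, hz⟩⟩)
    refine ⟨J, fun j => (Opens.map (iK W)).obj (K j.1),
      ⟨inferInstance, fun j => ⟨K j.1, hKc j.1, rfl⟩⟩, ?_, fun j => ⟨k j.1, hKW j.1⟩⟩
    apply le_antisymm
    · exact iSup_le fun j => Groth.Agent.Lib.SoftCompact_helper7.pm (iK W) (hKV j.1)
    · intro z hz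
      obtain ⟨j, hjJ, hzj⟩ := Set.mem_iUnion₂.mp (hJ hz)
      exact Opens.mem_iSup.mpr ⟨⟨j, hjJ⟩, hzj⟩
  · rintro ι' U' ⟨_, hU'⟩ p
    choose V hVc hV using hU'
    apply Groth.Agent.Lib.Cech.isZero_cechH_of_surjHyp
    intro κ a A hA _
    have hcomp := ColimCoh.isCompact_iSup_iInf hq V hVc (fun _ => le_top) κ a
    refine res_surjective_pull 𝒰 hne hcpt hdir W hW I (⨆ k, ⨅ j, V ((a k).2 j)) hcomp _ A ?_ hA
    rw [map_iSup']
    refine iSup_congr (fun k => ?_)
    rw [map_iInf_fin]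
    exact iInf_congr (fun j => hV _)

include hne hcpt hdir hW in
theorem psi_vanish (I : CohTop.Ab X) [Injective I] (n : ℕ) (ξ : Psi (iK W) I (n + 1)) :
    ξ = 0 := by
  haveI := Groth.Agent.Lib.FlasqueAcyclic.isFlasque_of_injective I
  have h := ext_vanish_pull 𝒰 hne hcpt hdir W hW I n
    ((Groth.Agent.Lib.Cech.extTopEquiv ((CohTop.pull (iK W)).obj I) (n + 1)).symm ξ)
  have h2 := congrArg (Groth.Agent.Lib.Cech.extTopEquiv ((CohTop.pull (iK W)).obj I) (n + 1)) h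
  rwa [AddEquiv.apply_symm_apply, map_zero] at h2

end Data

section Main

variable {X : TopCat.{u}} (Z : Set X)

/-- the comparison isomorphism in degree zero, from surjectivity of `e0` -/
noncomputable def E0' (F : CohTop.Ab X) (hs : Function.Surjective (e0 Z F)) :
    Phi Z F 0 ≃+ Psi (iK Z) F 0 :=
  (AddEquiv.ofBijective (e0 Z F) ⟨e0_injective Z F, hs⟩).trans
    (Sheaf.H.equiv₀ ((CohTop.pull (iK Z)).obj F) isTerminalTop).symm

lemma E0'_natural {F F' : CohTop.Ab X} (hs : Function.Surjective (e0 Z F))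
    (hs' : Function.Surjective (e0 Z F')) (φ : F ⟶ F') (x : Phi Z F 0) :
    E0' Z F' hs' (mapZ Z (mapNat φ 0) x) =
      Sheaf.H.map ((CohTop.pull (iK Z)).map φ) 0 (E0' Z F hs x) := by
  show (Sheaf.H.equiv₀ ((CohTop.pull (iK Z)).obj F') isTerminalTop).symm
      (e0 Z F' (mapZ Z (mapNat φ 0) x)) =
    Sheaf.H.map ((CohTop.pull (iK Z)).map φ) 0
      ((Sheaf.H.equiv₀ ((CohTop.pull (iK Z)).obj F) isTerminalTop).symm (e0 Z F x))
  rw [e0_natural, Sheaf.H.equiv₀_symm_naturality]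

/-- **the abstract form of the neighbourhood-colimit theorem**: it suffices that global sections
of inverse images extend to neighbourhoods and that inverse images of injectives are acyclic -/
theorem main' (hsurj : ∀ F : CohTop.Ab X, Function.Surjective (e0 Z F))
    (hvan : ∀ (I : CohTop.Ab X) [Injective I] (n : ℕ) (ξ : Psi (iK Z) I (n + 1)), ξ = 0) :
    ∀ (p : ℕ) (F : CohTop.Ab X), Nonempty (Phi Z F p ≃+ Psi (iK Z) F p) := by
  have hsucc : ∀ (p : ℕ) (F : CohTop.Ab X),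
      Nonempty (Phi Z F (p + 1) ≃+ Psi (iK Z) F (p + 1)) := by
    intro p
    induction p with
    | zero =>
      intro F
      haveI : Injective (injSC F).X₂ := inferInstanceAs (Injective (Injective.under F))
      refine step Z (injSC_shortExact F) 0 (E0' Z (injSC F).X₃ (hsurj _))
        (hvan (injSC F).X₂ 0) (fun x => ?_)
      constructor
      · rintro ⟨y, rfl⟩
        exact ⟨E0' Z (injSC F).X₂ (hsurj _) y,
          (E0'_natural Z (hsurj _) (hsurj _) (injSC F).g y).symm⟩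
      · rintro ⟨y', hy'⟩
        refine ⟨(E0' Z (injSC F).X₂ (hsurj _)).symm y',
          (E0' Z (injSC F).X₃ (hsurj _)).injective ?_⟩
        have h3 := E0'_natural Z (hsurj _) (hsurj _) (injSC F).g
          ((E0' Z (injSC F).X₂ (hsurj _)).symm y')
        rw [AddEquiv.apply_symm_apply] at h3
        exact h3.trans hy'
    | succ p ih =>
      intro F
      haveI : Injective (injSC F).X₂ := inferInstanceAs (Injective (Injective.under F))
      obtain ⟨E⟩ := ih (injSC F).X₃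
      refine step Z (injSC_shortExact F) (p + 1) E (hvan (injSC F).X₂ (p + 1)) (fun x => ?_)
      constructor
      · rintro ⟨y, rfl⟩
        have hy : y = 0 := phi_eq_zero_of_injective Z (injSC F).X₂ p y
        refine ⟨0, ?_⟩
        rw [hy, map_zero, map_zero, map_zero]
      · rintro ⟨y', hy'⟩
        have hy : y' = 0 := hvan (injSC F).X₂ p y'
        rw [hy, map_zero] at hy'
        refine ⟨0, ?_⟩
        rw [map_zero]
        exact (E.map_eq_zero_iff.1 hy'.symm).symm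
  intro p F
  cases p with
  | zero => exact ⟨E0' Z F (hsurj F)⟩
  | succ p => exact hsucc p F

end Main

section Spectral

variable {X : TopCat.{u}} [CompactSpace X] [QuasiSober X] [PrespectralSpace X]
  [QuasiSeparatedSpace X]
  (𝒰 : Set (Opens X)) (hne : 𝒰.Nonempty) (hcpt : ∀ U ∈ 𝒰, IsCompact (U : Set X))
  (hdir : ∀ U ∈ 𝒰, ∀ U' ∈ 𝒰, ∃ U'' ∈ 𝒰, U'' ≤ U ⊓ U')
  (W : Set X) (hW : ∀ x, x ∈ W ↔ ∀ U ∈ 𝒰, x ∈ U)

include hne hcpt hdir hW in
/-- **cohomology of a directed intersection of qc opens is the colimit over its neighbourhoods** -/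
theorem main_proOpen (p : ℕ) (F : CohTop.Ab X) : Nonempty (Phi W F p ≃+ Psi (iK W) F p) :=
  main' W (fun F => e0_surjective' 𝒰 hne hcpt hdir W hW F)
    (fun I _ n ξ => psi_vanish 𝒰 hne hcpt hdir W hW I n ξ) p F

end Spectral

end Groth.Agent.Lib.ProOpenH2
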