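import Mathlib
import Groth.Prelude.Def_CohTop
import Groth.Agent.Lib.ProOpen3_helper2

/-!
# Cohomology of the generalizations of a quasi-compact subset of a spectral space (helper2)

`E ⊆ X` quasi-compact, `W` the set of generalizations of points of `E`:
`colim_{U ⊇ E qc open} H^p(U, F) ≃+ H^p(W, F|_W)`.
APPEND-ONLY once landed.
-/

set_option autoImplicit false
universe u
open CategoryTheory CategoryTheory.Limits TopologicalSpace Opposite

namespace Groth.Agent.Lib.ProOpenH2

open Groth.Agent.Lib.NbhdColimH2 Groth.Agent.Lib.SoftH2 Groth.Agent.Lib.SoftCompact2_helper7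

section S0947

variable {X : TopCat.{u}} [SpectralSpace X] (E : Set X)

/-- quasi-compact open neighbourhoods of `E` -/
abbrev QP : ObjectProperty (Opens X)ᵒᵖ :=
  fun U => E ⊆ (U.unop : Set X) ∧ IsCompact (U.unop : Set X)

/-- the generalizations of the points of `E` -/
abbrev genSet : Set X := {x : X | ∃ e ∈ E, e ∈ closure {x}}

/-- the family of quasi-compact open neighbourhoods of `E` -/
def nbE : Set (Opens X) := {U | E ⊆ (U : Set X) ∧ IsCompact (U : Set X)}

lemma nbE_ne : (nbE E).Nonempty := ⟨⊤, Set.subset_univ _, isCompact_univ⟩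

lemma nbE_cpt : ∀ U ∈ nbE E, IsCompact (U : Set X) := fun _ hU => hU.2

lemma nbE_dir : ∀ U ∈ nbE E, ∀ U' ∈ nbE E, ∃ U'' ∈ nbE E, U'' ≤ U ⊓ U' := by
  intro U hU U' hU'
  refine ⟨U ⊓ U', ⟨Set.subset_inter hU.1 hU'.1, ?_⟩, le_rfl⟩
  exact QuasiSeparatedSpace.inter_isCompact (U : Set X) (U' : Set X) U.isOpen hU.2 U'.isOpen hU'.2

lemma mem_genSet_iff (hE : IsCompact E) (x : X) : x ∈ genSet E ↔ ∀ U ∈ nbE E, x ∈ U := by
  constructor
  · rintro ⟨e, heE, hex⟩ U hU
    obtain ⟨y, hyU, hy⟩ := mem_closure_iff.mp hex (U : Set X) U.isOpen (hU.1 heE)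
    rw [Set.mem_singleton_iff.mp hy] at hyU
    exact hyU
  · intro h
    by_contra hx
    have hsub : E ⊆ (closure ({x} : Set X))ᶜ := by
      intro e heE hec
      exact hx ⟨e, heE, hec⟩
    obtain ⟨V, hVc, hVo, hEV, hVsub⟩ :=
      PrespectralSpace.exists_isCompact_and_isOpen_between hE isClosed_closure.isOpen_compl hsub
    exact hVsub (h ⟨V, hVo⟩ ⟨hEV, hVc⟩) (subset_closure (Set.mem_singleton x))

instance : IsFiltered (QP E).FullSubcategory where
  cocone_objs j j' := ⟨⟨op (j.obj.unop ⊓ j'.obj.unop),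
      Set.subset_inter j.property.1 j'.property.1,
      QuasiSeparatedSpace.inter_isCompact _ _ j.obj.unop.isOpen j.property.2
        j'.obj.unop.isOpen j'.property.2⟩,
    ObjectProperty.homMk (homOfLE inf_le_left).op, ObjectProperty.homMk (homOfLE inf_le_right).op,
    trivial⟩
  cocone_maps j j' f g := ⟨j', 𝟙 _, by
    apply ObjectProperty.hom_ext
    exact Subsingleton.elim _ _⟩
  nonempty := ⟨⟨op ⊤, Set.subset_univ _, isCompact_univ⟩⟩

lemma genSet_sub (hE : IsCompact E) (U : (QP E).FullSubcategory) :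
    NP (genSet E) ((QP E).ι.obj U) := fun x hx =>
  (mem_genSet_iff E hE x).mp hx U.obj.unop U.property

/-- from qc open neighbourhoods of `E` to open neighbourhoods of its generalizations -/
noncomputable def ΘE (hE : IsCompact E) : (QP E).FullSubcategory ⥤ N (genSet E) :=
  (NP (genSet E)).lift (QP E).ι (genSet_sub E hE)

theorem ΘE_final (hE : IsCompact E) : (ΘE E hE).Final := by
  refine Functor.final_of_exists_of_isFiltered _ ?_ ?_
  · intro d
    obtain ⟨U, hU, hUd⟩ := exists_le_of_subset (nbE E) (nbE_ne E) (nbE_cpt E) (nbE_dir E)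
      d.obj.unop (fun x hx => d.property ((mem_genSet_iff E hE x).mpr hx))
    exact ⟨⟨op U, hU⟩, ⟨homN (genSet E) d.property (genSet_sub E hE ⟨op U, hU⟩) hUd⟩⟩
  · intro d c s s'
    refine ⟨c, 𝟙 c, ?_⟩
    have : s = s' := by
      apply ObjectProperty.hom_ext
      exact Subsingleton.elim _ _
    rw [this]

theorem main0947 (hE : IsCompact E) (F : CohTop.Ab X) (p : ℕ) :
    Nonempty ((colimit ((QP E).ι ⋙
        (Sheaf.cohomologyPresheafFunctor (Opens.grothendieckTopology X) p).obj F) :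
          AddCommGrpCat.{u}) ≃+
      CohTop.H ((CohTop.pull (iK (genSet E))).obj F) p) := by
  haveI := ΘE_final E hE
  have e1 : colimit (ΘE E hE ⋙ ((NP (genSet E)).ι ⋙ cP F p)) ≅
      colimit ((NP (genSet E)).ι ⋙ cP F p) := Functor.Final.colimitIso (ΘE E hE) _
  have e2 : (QP E).ι ⋙ (Sheaf.cohomologyPresheafFunctor (Opens.grothendieckTopology X) p).obj F ≅
      ΘE E hE ⋙ ((NP (genSet E)).ι ⋙ cP F p) := Iso.refl _
  obtain ⟨e3⟩ := main_proOpen (nbE E) (nbE_ne E) (nbE_cpt E) (nbE_dir E) (genSet E)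
    (mem_genSet_iff E hE) p F
  exact ⟨(((HasColimit.isoOfNatIso e2).trans e1).addCommGroupIsoToAddEquiv).trans e3⟩

end S0947

end Groth.Agent.Lib.ProOpenH2
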