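import Mathlib.Topology.Constructible
import Mathlib.Topology.Spectral.Prespectral

/-!
# More on constructible sets in prespectral spaces (lead)

Stacks 09YA–09YK style lemmas, phrased for inducing maps.
-/

universe u

namespace Groth.Agent.Lib.ConstrMore_lead

open Set Topology

section general

variable {X : Type*} [TopologicalSpace X]

/-- Induction principle: every constructible set is a finite union of differences of
retrocompact opens. -/
theorem sdiff_union_induction {P : Set X → Prop}
    (sdiff : ∀ U V, IsOpen U → IsRetrocompact U → IsOpen V → IsRetrocompact V → P (U \ V))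
    (union : ∀ s t, IsConstructible s → IsConstructible t → P s → P t → P (s ∪ t))
    {s : Set X} (hs : IsConstructible s) : P s := by
  induction s, hs using BooleanSubalgebra.closure_sdiff_sup_induction with
  | isSublattice =>
    exact ⟨fun s hs t ht ↦ ⟨hs.1.union ht.1, hs.2.union ht.2⟩,
      fun s hs t ht ↦ ⟨hs.1.inter ht.1, hs.2.inter_isOpen ht.2 ht.1⟩⟩
  | bot_mem => exact ⟨isOpen_empty, .empty⟩
  | top_mem => exact ⟨isOpen_univ, .univ⟩
  | sdiff U hU V hV => exact sdiff U V hU.1 hU.2 hV.1 hV.2
  | sup s hs t ht hs' ht' => exact union s t hs ht hs' ht'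

/-- Constructible sets are retrocompact. -/
theorem isRetrocompact_of_isConstructible {s : Set X} (hs : IsConstructible s) :
    IsRetrocompact s := by
  refine sdiff_union_induction (P := IsRetrocompact) ?_ ?_ hs
  · intro U V hUo hU hVo hV W hW hWo
    have : U \ V ∩ W = (U ∩ W) ∩ Vᶜ := by
      ext x; simp only [mem_inter_iff, mem_sdiff, mem_compl_iff]; tauto
    rw [this]
    exact (hU hW hWo).inter_right hVo.isClosed_compl
  · intro s t _ _ hs ht
    exact hs.union ht

end general

section prespectral

variable {X : Type*} [TopologicalSpace X] [PrespectralSpace X]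
variable {Y : Type*} [TopologicalSpace Y]

/-- A compact open of `Y` is the preimage of a compact open under an inducing map to a
prespectral space. -/
theorem exists_isCompact_isOpen_preimage_eq {f : Y → X} (hf : IsInducing f) {K : Set Y}
    (hK : IsCompact K) (hKo : IsOpen K) :
    ∃ W : Set X, IsCompact W ∧ IsOpen W ∧ K = f ⁻¹' W := by
  obtain ⟨W, hW, rfl⟩ := hf.isOpen_iff.1 hKo
  have hcomp : IsCompact (f '' (f ⁻¹' W)) := hK.image hf.continuous
  obtain ⟨W', hW'c, hW'o, hsub, hW'W⟩ :=
    PrespectralSpace.exists_isCompact_and_isOpen_between hcomp hW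
      (by rintro _ ⟨x, hx, rfl⟩; exact hx)
  refine ⟨W', hW'c, hW'o, ?_⟩
  ext x
  constructor
  · intro hx; exact hsub ⟨x, hx, rfl⟩
  · intro hx; exact hW'W hx

/-- Preimages of retrocompact sets with `s ∩ range f` retrocompact are retrocompact. -/
theorem isRetrocompact_preimage {f : Y → X} (hf : IsInducing f) {s : Set X}
    (hs : IsRetrocompact (s ∩ range f)) : IsRetrocompact (f ⁻¹' s) := by
  intro K hK hKo
  obtain ⟨W, hWc, hWo, rfl⟩ := exists_isCompact_isOpen_preimage_eq hf hK hKo
  rw [← Set.preimage_inter, hf.isCompact_iff, image_preimage_eq_inter_range]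
  have : s ∩ W ∩ range f = s ∩ range f ∩ W := by
    ext x; simp only [mem_inter_iff]; tauto
  rw [this]
  exact hs hWc hWo

theorem isRetrocompact_preimage_of_isOpen {f : Y → X} (hf : IsInducing f)
    (hr : IsRetrocompact (range f)) {s : Set X} (hso : IsOpen s) (hs : IsRetrocompact s) :
    IsRetrocompact (f ⁻¹' s) :=
  isRetrocompact_preimage hf (by rw [inter_comm]; exact hr.inter_isOpen hs hso)

/-- Preimages of constructible sets under an inducing map with retrocompact range are
constructible. -/
theorem isConstructible_preimage {f : Y → X} (hf : IsInducing f)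
    (hr : IsRetrocompact (range f)) {E : Set X} (hE : IsConstructible E) :
    IsConstructible (f ⁻¹' E) :=
  hE.preimage hf.continuous fun _ hso hs => isRetrocompact_preimage_of_isOpen hf hr hso hs

/-- The source of an inducing map with retrocompact range into a prespectral space is
prespectral. -/
theorem prespectralSpace_of_isInducing {f : Y → X} (hf : IsInducing f)
    (hr : IsRetrocompact (range f)) : PrespectralSpace Y := by
  refine .of_isTopologicalBasis (PrespectralSpace.isTopologicalBasis.isInducing hf) ?_
  simp only [Set.mem_image, Set.mem_ofPred_eq, forall_exists_index, and_imp]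
  rintro _ U h₁ h₂ rfl
  rw [hf.isCompact_iff, image_preimage_eq_inter_range, inter_comm]
  exact hr h₂ h₁

end prespectral

section image

variable {X : Type u} [TopologicalSpace X] [PrespectralSpace X]

omit [PrespectralSpace X] in
/-- Image of a constructible set under an embedding whose range is a difference of
retrocompact opens. -/
theorem isConstructible_image_of_range_eq_sdiff {Y : Type u} [TopologicalSpace Y] {f : Y → X}
    (hf : IsEmbedding f) {U V : Set X} (hUo : IsOpen U) (hU : IsRetrocompact U)
    (hVo : IsOpen V) (hV : IsRetrocompact V) (hr : range f = U \ V) {F : Set Y}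
    (hF : IsConstructible F) : IsConstructible (f '' F) := by
  have hrc : IsConstructible (range f) := by
    rw [hr]; exact (hU.isConstructible hUo).sdiff (hV.isConstructible hVo)
  induction hF using IsConstructible.empty_union_induction with
  | open_retrocompact F hFo hFr =>
    obtain ⟨W, hWo, rfl⟩ := hf.isInducing.isOpen_iff.1 hFo
    have hopen : IsOpen (f '' (f ⁻¹' W) ∪ U ∩ V) := by
      have : f '' (f ⁻¹' W) ∪ U ∩ V = U ∩ (W ∪ V) := by
        rw [image_preimage_eq_inter_range, hr]
        ext x; simp only [mem_inter_iff, mem_union, mem_sdiff]; tauto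
      rw [this]; exact hUo.inter (hWo.union hVo)
    have hretro : IsRetrocompact (f '' (f ⁻¹' W) ∪ U ∩ V) := by
      intro K hK hKo
      rw [union_inter_distrib_right]
      refine IsCompact.union ?_ ((hU.inter_isOpen hV hVo) hK hKo)
      rw [← image_inter_preimage]
      refine IsCompact.image ?_ hf.continuous
      refine hFr ?_ (hKo.preimage hf.continuous)
      rw [hf.isInducing.isCompact_iff, image_preimage_eq_inter_range, hr]
      have : K ∩ (U \ V) = (U ∩ K) ∩ Vᶜ := by
        ext x; simp only [mem_inter_iff, mem_sdiff, mem_compl_iff]; tauto
      rw [this]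
      exact (hU hK hKo).inter_right hVo.isClosed_compl
    have : f '' (f ⁻¹' W) = (f '' (f ⁻¹' W) ∪ U ∩ V) \ V := by
      ext x
      simp only [mem_sdiff, mem_union, mem_inter_iff]
      constructor
      · intro hx
        have : x ∈ range f := image_subset_range _ _ hx
        rw [hr] at this
        exact ⟨Or.inl hx, this.2⟩
      · rintro ⟨hx | hx, hxV⟩
        · exact hx
        · exact absurd hx.2 hxV
    rw [this]
    exact (hretro.isConstructible hopen).sdiff (hV.isConstructible hVo)
  | union s hs t ht hs' ht' => rw [image_union]; exact hs'.union ht'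
  | compl s hs hs' =>
    rw [← range_sdiff_image hf.injective]
    exact hrc.sdiff hs'

/-- Stacks 09YD: a constructible subset of a constructible subspace is constructible, phrased
for embeddings. -/
theorem isConstructible_image_of_isEmbedding {E : Set X} (hE : IsConstructible E) :
    ∀ {Y : Type u} [TopologicalSpace Y] {f : Y → X}, IsEmbedding f → range f = E →
      ∀ {F : Set Y}, IsConstructible F → IsConstructible (f '' F) := by
  refine sdiff_union_induction
    (P := fun E => ∀ {Y : Type u} [TopologicalSpace Y] {f : Y → X}, IsEmbedding f → range f = E →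
      ∀ {F : Set Y}, IsConstructible F → IsConstructible (f '' F)) ?_ ?_ hE
  · intro U V hUo hU hVo hV Y _ f hf hr F hF
    exact isConstructible_image_of_range_eq_sdiff hf hUo hU hVo hV hr hF
  · intro s t hs ht ihs iht Y _ f hf hr F hF
    have hrr : IsRetrocompact (range f) := by
      rw [hr]; exact isRetrocompact_of_isConstructible (hs.union ht)
    have : PrespectralSpace Y := prespectralSpace_of_isInducing hf.isInducing hrr
    -- the pieces
    have key : ∀ (a : Set X), IsConstructible a → a ⊆ range f →
        (∀ {Y : Type u} [TopologicalSpace Y] {f : Y → X}, IsEmbedding f → range f = a →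
          ∀ {F : Set Y}, IsConstructible F → IsConstructible (f '' F)) →
        IsConstructible (f '' (F ∩ f ⁻¹' a)) := by
      intro a ha hsub iha
      let g : ↥(f ⁻¹' a) → X := f ∘ Subtype.val
      have hg : IsEmbedding g := hf.comp IsEmbedding.subtypeVal
      have hgr : range g = a := by
        rw [range_comp, Subtype.range_coe, image_preimage_eq_inter_range,
          inter_eq_left.2 hsub]
      have hret : IsRetrocompact (f ⁻¹' a) := by
        apply isRetrocompact_preimage hf.isInducing
        rw [inter_eq_left.2 hsub]
        exact isRetrocompact_of_isConstructible ha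
      have hF' : IsConstructible ((Subtype.val : ↥(f ⁻¹' a) → Y) ⁻¹' F) :=
        isConstructible_preimage IsInducing.subtypeVal (by rwa [Subtype.range_coe]) hF
      have := iha hg hgr hF'
      rwa [image_comp, Subtype.image_preimage_coe, inter_comm] at this
    have h1 := key s hs (by rw [hr]; exact subset_union_left) ihs
    have h2 := key t ht (by rw [hr]; exact subset_union_right) iht
    have : f '' F = f '' (F ∩ f ⁻¹' s) ∪ f '' (F ∩ f ⁻¹' t) := by
      rw [← image_union, ← inter_union_distrib_left, ← preimage_union, ← hr,
        preimage_range, inter_univ]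
    rw [this]
    exact h1.union h2

end image

end Groth.Agent.Lib.ConstrMore_lead
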