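import Mathlib
import Groth.Agent.Lib.ProOpen1_helper2
import Groth.Agent.Lib.ConstrMore_lead

/-!
# Directed intersections of quasi-compact opens of a spectral space are spectral; dimension
of the punctured set of generalizations (helper8)
APPEND-ONLY once landed.
-/

set_option autoImplicit false

open TopologicalSpace Topology Set

namespace Groth.Agent.Lib.ScheidH8

section Pro

variable {X : Type*} [TopologicalSpace X] [SpectralSpace X]
  (𝒰 : Set (Opens X)) (hne : 𝒰.Nonempty) (hcpt : ∀ U ∈ 𝒰, IsCompact (U : Set X))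
  (hdir : ∀ U ∈ 𝒰, ∀ U' ∈ 𝒰, ∃ U'' ∈ 𝒰, U'' ≤ U ⊓ U')
  (W : Set X) (hW : ∀ x, x ∈ W ↔ ∀ U ∈ 𝒰, x ∈ U)

include hne hcpt hdir hW in
theorem isRetrocompact_pro : IsRetrocompact W := fun K hK hKo =>
  Groth.Agent.Lib.ProOpenH2.isCompact_inter 𝒰 hne hcpt hdir W hW K hK hKo

omit [SpectralSpace X] in
lemma exists_compact_open_preimage [PrespectralSpace X] (U : Set W) (hUo : IsOpen U)
    (hUc : IsCompact U) :
    ∃ K : Set X, IsCompact K ∧ IsOpen K ∧ U = Subtype.val ⁻¹' K := by
  obtain ⟨O, hO, rfl⟩ := isOpen_induced_iff.1 hUo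
  have hsub : Subtype.val '' (Subtype.val ⁻¹' O : Set W) ⊆ O := by
    rintro _ ⟨x, hx, rfl⟩
    exact hx
  obtain ⟨V, hVc, hVo, hUV, hVO⟩ :=
    PrespectralSpace.exists_isCompact_and_isOpen_between (hUc.image continuous_subtype_val) hO hsub
  refine ⟨V, hVc, hVo, ?_⟩
  ext x
  constructor
  · intro hx
    exact hUV ⟨x, hx, rfl⟩
  · intro hx
    exact hVO hx

include hne hcpt hdir hW in
theorem spectralSpace_pro : SpectralSpace W := by
  have hr : IsRetrocompact W := isRetrocompact_pro 𝒰 hne hcpt hdir W hW
  have hcomp : ∀ K : Set X, IsCompact K → IsOpen K →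
      IsCompact (Subtype.val ⁻¹' K : Set W) := by
    intro K hK hKo
    rw [IsInducing.subtypeVal.isCompact_iff, image_preimage_eq_inter_range, Subtype.range_coe,
      inter_comm]
    exact hr hK hKo
  haveI : CompactSpace W := by
    rw [← isCompact_iff_compactSpace]
    have := hr isCompact_univ isOpen_univ
    rwa [inter_univ] at this
  haveI : PrespectralSpace W :=
    Groth.Agent.Lib.ConstrMore_lead.prespectralSpace_of_isInducing IsInducing.subtypeVal
      (by rw [Subtype.range_coe]; exact hr)
  haveI : QuasiSeparatedSpace W := by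
    constructor
    intro U V hUo hUc hVo hVc
    obtain ⟨K, hKc, hKo, rfl⟩ := exists_compact_open_preimage W U hUo hUc
    obtain ⟨K', hK'c, hK'o, rfl⟩ := exists_compact_open_preimage W V hVo hVc
    rw [← preimage_inter]
    exact hcomp _ (QuasiSeparatedSpace.inter_isCompact K K' hKo hKc hK'o hK'c) (hKo.inter hK'o)
  haveI : QuasiSober W := by
    constructor
    intro S hS hSc
    have hT : IsIrreducible (closure (Subtype.val '' S)) :=
      (hS.image _ continuous_subtype_val.continuousOn).closure
    obtain ⟨η, hη⟩ := QuasiSober.sober hT isClosed_closure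
    obtain ⟨s, hs⟩ := hS.nonempty
    have hsη : (s : X) ∈ closure ({η} : Set X) := by
      rw [hη.def]
      exact subset_closure ⟨s, hs, rfl⟩
    have hηW : η ∈ W := by
      rw [hW]
      intro U hU
      obtain ⟨y, hyU, hy⟩ := mem_closure_iff.mp hsη (U : Set X) U.isOpen ((hW s).1 s.2 U hU)
      rw [mem_singleton_iff.mp hy] at hyU
      exact hyU
    refine ⟨⟨η, hηW⟩, ?_⟩
    show closure ({⟨η, hηW⟩} : Set W) = S
    rw [IsInducing.subtypeVal.closure_eq_preimage_closure_image, image_singleton, hη.def,
      ← IsInducing.subtypeVal.closure_eq_preimage_closure_image, hSc.closure_eq]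
  exact { }

end Pro

section Dim

variable {X : Type*} [TopologicalSpace X]

/-- a chain of irreducible closed subsets of `W` extends by one in `X`, if every point of `W`
has a specialization outside an open `U ⊇ W` -/
theorem length_add_one_le (W : Set X) (U : Set X) (hU : IsOpen U) (hWU : W ⊆ U)
    (hspec : ∀ x ∈ W, ∃ z, z ∉ U ∧ z ∈ closure ({x} : Set X))
    (p : LTSeries (IrreducibleCloseds W)) :
    ((p.length + 1 : ℕ) : WithBot ℕ∞) ≤ topologicalKrullDim X := by
  let q : LTSeries (IrreducibleCloseds X) :=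
    p.map (IrreducibleCloseds.map Subtype.val continuous_subtype_val)
      (IrreducibleCloseds.map_strictMono_of_isInducing IsInducing.subtypeVal)
  obtain ⟨x, hx⟩ := p.head.isIrreducible.nonempty
  obtain ⟨z, hzU, hzx⟩ := hspec x.1 x.2
  let T : IrreducibleCloseds X := ⟨closure {z}, isIrreducible_singleton.closure, isClosed_closure⟩
  have hxq : (x : X) ∈ (q.head : Set X) := subset_closure ⟨x, hx, rfl⟩
  have hlt : T < q.head := by
    refine lt_of_le_of_ne ?_ ?_
    · show closure ({z} : Set X) ⊆ (q.head : Set X)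
      refine closure_minimal ?_ q.head.isClosed
      rintro _ rfl
      exact q.head.isClosed.closure_subset_iff.2 (singleton_subset_iff.2 hxq) hzx
    · intro h
      have hxT : (x : X) ∈ closure ({z} : Set X) := by
        have : (x : X) ∈ (T : Set X) := by rw [h]; exact hxq
        exact this
      obtain ⟨y, hyU, hy⟩ := mem_closure_iff.mp hxT U hU (hWU x.2)
      rw [mem_singleton_iff.mp hy] at hyU
      exact hzU hyU
  have h1 := Order.LTSeries.length_le_krullDim (q.cons T hlt)
  have h2 : (q.cons T hlt).length = p.length + 1 := by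
    rw [RelSeries.cons_length]
    rfl
  rw [h2] at h1
  exact h1

theorem topologicalKrullDim_lt_of_spec (W : Set X) (U : Set X) (hU : IsOpen U) (hWU : W ⊆ U)
    (hspec : ∀ x ∈ W, ∃ z, z ∉ U ∧ z ∈ closure ({x} : Set X)) (d : ℕ)
    (hd : topologicalKrullDim X < (d + 1 : ℕ)) : topologicalKrullDim W < (d : ℕ) := by
  unfold topologicalKrullDim
  rw [Order.krullDim_lt_coe_iff]
  intro p
  have h1 := length_add_one_le W U hU hWU hspec p
  have h2 := lt_of_le_of_lt h1 hd
  have h3 : p.length + 1 < d + 1 := by exact_mod_cast h2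
  omega

/-- a space of negative dimension is empty -/
theorem isEmpty_of_topologicalKrullDim_lt_zero (hd : topologicalKrullDim X < (0 : ℕ)) :
    IsEmpty X := by
  unfold topologicalKrullDim at hd
  rw [Order.krullDim_lt_coe_iff] at hd
  constructor
  intro x
  let T : IrreducibleCloseds X := ⟨closure {x}, isIrreducible_singleton.closure, isClosed_closure⟩
  have := hd (RelSeries.singleton _ T)
  omega

end Dim

end Groth.Agent.Lib.ScheidH8
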