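import Mathlib
import Groth.Prelude.Def_CohTop
import Groth.Agent.Lib.ColimCoh3_helper9
import Groth.Agent.Lib.NbhdColim3_helper2

/-!
# Sheaves with surjective restrictions between quasi-compact opens are acyclic on
quasi-compact opens (helper8)
APPEND-ONLY once landed.
-/

set_option autoImplicit false

universe u

open CategoryTheory CategoryTheory.Limits TopologicalSpace Opposite
open Groth.Agent.Lib.Cech Groth.Agent.Lib.FreeSheaf

namespace Groth.Agent.Lib.ScheidH8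

variable {X : TopCat.{u}}

section QcFlasque

variable (G : CohTop.Ab X) {U₀ : Opens X} (hU₀ : ColimCoh.QCQS U₀)
  (hres : ∀ {V W : Opens X} (hVW : V ≤ W), IsCompact (V : Set X) → IsCompact (W : Set X) →
    W ≤ U₀ → Function.Surjective (res G.obj hVW))

include hU₀ hres in
theorem cech_vanish_of_qcFlasque {ι' : Type u} [Finite ι'] (U : ι' → Opens X)
    (hUc : ∀ i, IsCompact (U i : Set X)) (hUU : ∀ i, U i ≤ U₀) (p : ℕ) :
    IsZero (CohTop.cechH G.obj U (p + 1)) := by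
  apply isZero_cechH_of_surjHyp
  intro κ a A hA hAU t
  have hcomp := ColimCoh.isCompact_iSup_iInf hU₀ U hUc hUU κ a
  have hsupc : IsCompact ((iSup U : Opens X) : Set X) := by
    rw [Opens.coe_iSup]
    exact isCompact_iUnion hUc
  have hsupU : iSup U ≤ U₀ := iSup_le hUU
  obtain ⟨s, hs⟩ := hres (hA.trans hAU) hcomp hsupc hsupU t
  refine ⟨res G.obj hAU s, ?_⟩
  rw [res_res]
  exact hs

include hU₀ hres in
/-- a sheaf whose restriction maps between compact opens of `U₀` are surjective is acyclic on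
compact opens of `U₀` -/
theorem ext_vanish_of_qcFlasque (V : Opens X) (hV : IsCompact (V : Set X)) (hVU : V ≤ U₀) (n : ℕ)
    (ξ : Abelian.Ext (freeSheaf (Opens.grothendieckTopology X) V) G (n + 1)) : ξ = 0 := by
  classical
  refine ext_eq_zero_of_cech (fun V => IsCompact (V : Set X) ∧ V ≤ U₀)
    (fun ι' U => Finite ι' ∧ ∀ i, IsCompact (U i : Set X) ∧ U i ≤ U₀) ?_ ?_ V ⟨hV, hVU⟩ G ?_ n ξ
  · rintro ι' U ⟨_, hU⟩ m σ
    exact ⟨ColimCoh.isCompact_iInf_fin hU₀ U (fun i => (hU i).1) (fun i => (hU i).2) m σ,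
      (iInf_le _ 0).trans (hU _).2⟩
  · rintro U₁ ⟨hU₁c, hU₁U⟩ κ W hW
    have key : ∀ x : U₁, ∃ (V' : Opens X) (k : κ), IsCompact (V' : Set X) ∧ x.1 ∈ V' ∧ V' ≤ W k := by
      intro x
      have hx : x.1 ∈ iSup W := hW ▸ x.2
      obtain ⟨k, hk⟩ := Opens.mem_iSup.mp hx
      have hWk : W k ≤ U₀ := (le_iSup W k).trans (hW.le.trans hU₁U)
      obtain ⟨V', hV'c, hxV', hV'W⟩ := hU₀.basis (W k) hWk x.1 hk
      exact ⟨V', k, hV'c, hxV', hV'W⟩
    choose V' k hV'c hxV' hV'W using key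
    obtain ⟨T, hT⟩ := hU₁c.elim_finite_subcover (fun x : U₁ => (V' x : Set X))
      (fun x => (V' x).isOpen) (fun y hy => Set.mem_iUnion.mpr ⟨⟨y, hy⟩, hxV' ⟨y, hy⟩⟩)
    refine ⟨T, fun j => V' j.1, ⟨inferInstance, fun j => ⟨hV'c j.1, ?_⟩⟩, ?_, fun j => ⟨k j.1, hV'W j.1⟩⟩
    · exact (hV'W j.1).trans ((le_iSup W _).trans (hW.le.trans hU₁U))
    · apply le_antisymm
      · exact iSup_le fun j => (hV'W j.1).trans ((le_iSup W _).trans hW.le)
      · intro y hy
        obtain ⟨x, hxT, hyx⟩ := Set.mem_iUnion₂.mp (hT hy)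
        exact Opens.mem_iSup.mpr ⟨⟨x, hxT⟩, hyx⟩
  · rintro ι' U ⟨_, hU⟩ p
    exact cech_vanish_of_qcFlasque G hU₀ hres U (fun i => (hU i).1) (fun i => (hU i).2) p

end QcFlasque

section Shift

open Abelian Groth.Agent.Lib.NbhdColimH2

/-- restriction in cohomology -/
noncomputable abbrev rH (F : CohTop.Ab X) (k : ℕ) {U V : Opens X} (h : V ≤ U)
    (x : Ext.{u} (freeSheaf (Opens.grothendieckTopology X) U) F k) :
    Ext.{u} (freeSheaf (Opens.grothendieckTopology X) V) F k :=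
  (Ext.mk₀ (freeSheafMap (Opens.grothendieckTopology X) (homOfLE h))).comp x (zero_add k)

lemma rH_comp {F G : CohTop.Ab X} {k m n : ℕ} {U V : Opens X} (h : V ≤ U)
    (x : Ext.{u} (freeSheaf (Opens.grothendieckTopology X) U) F k) (α : Ext.{u} F G m)
    (hn : k + m = n) : rH G n h (x.comp α hn) = (rH F k h x).comp α hn := by
  unfold rH
  rw [Ext.comp_assoc _ _ _ (zero_add k) hn (by omega)]

lemma rH_add (F : CohTop.Ab X) (k : ℕ) {U V : Opens X} (h : V ≤ U)
    (x y : Ext.{u} (freeSheaf (Opens.grothendieckTopology X) U) F k) :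
    rH F k h (x + y) = rH F k h x + rH F k h y := Ext.comp_add _ _ _ _

/-- surjectivity of the restriction maps in degree `k` between compact opens -/
def Tsurj (F : CohTop.Ab X) (k : ℕ) : Prop :=
  ∀ {U V : Opens X} (h : V ≤ U), IsCompact (U : Set X) → IsCompact (V : Set X) →
    Function.Surjective (rH F k h)

/-- vanishing on compact opens in degrees above `k` -/
def Tvan (F : CohTop.Ab X) (k : ℕ) : Prop :=
  ∀ (q : ℕ), k < q → ∀ (V : Opens X), IsCompact (V : Set X) →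
    ∀ ξ : Ext.{u} (freeSheaf (Opens.grothendieckTopology X) V) F q, ξ = 0

lemma Tsurj_shift {S : ShortComplex (CohTop.Ab X)} (hS : S.ShortExact) (k : ℕ)
    (hI : ∀ (V : Opens X) (ξ : Ext.{u} (freeSheaf (Opens.grothendieckTopology X) V) S.X₂ (k + 1)),
      ξ = 0)
    (hIk : Tsurj S.X₂ k) (hF : Tsurj S.X₁ (k + 1)) : Tsurj S.X₃ k := by
  intro U V h hU hV t
  obtain ⟨η', hη'⟩ := hF h hU hV (t.comp hS.extClass rfl)
  obtain ⟨t', ht'⟩ := Ext.covariant_sequence_exact₁ _ hS η' (hI U _) rfl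
  have h0 : (t - rH S.X₃ k h t').comp hS.extClass rfl = 0 := by
    rw [ColimExt.sub_comp', ← rH_comp, ht', hη', sub_self]
  obtain ⟨s, hs⟩ := Ext.covariant_sequence_exact₃ _ hS (t - rH S.X₃ k h t') rfl h0
  obtain ⟨s', hs'⟩ := hIk h hU hV s
  refine ⟨t' + s'.comp (Ext.mk₀ S.g) (add_zero k), ?_⟩
  rw [rH_add, rH_comp, hs', hs]
  abel

lemma Tvan_shift {S : ShortComplex (CohTop.Ab X)} (hS : S.ShortExact) (k : ℕ)
    (hI : ∀ (q : ℕ) (V : Opens X)
      (ξ : Ext.{u} (freeSheaf (Opens.grothendieckTopology X) V) S.X₂ (q + 1)), ξ = 0)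
    (hQ : Tvan S.X₃ k) : Tvan S.X₁ (k + 1) := by
  intro q hq V hV ξ
  obtain ⟨q', rfl⟩ : ∃ q', q = q' + 1 := ⟨q - 1, by omega⟩
  obtain ⟨x₃, hx₃⟩ := Ext.covariant_sequence_exact₁ _ hS ξ (hI q' V _) rfl
  rw [← hx₃, hQ q' (by omega) V hV x₃, Ext.zero_comp]

end Shift

end Groth.Agent.Lib.ScheidH8
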