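import Mathlib
import Groth.Prelude.Def_CohTop
import Groth.Agent.Lib.Scheid1_helper8

/-!
# Surjectivity of restriction in degree `k` gives vanishing above `k` (helper8)
APPEND-ONLY once landed.
-/

set_option autoImplicit false

universe u

open CategoryTheory CategoryTheory.Limits TopologicalSpace Opposite
open Groth.Agent.Lib.Cech Groth.Agent.Lib.FreeSheaf

namespace Groth.Agent.Lib.ScheidH8

open Abelian Groth.Agent.Lib.NbhdColimH2

variable {X : TopCat.{u}}

/-- `Tsurj` in degree zero is surjectivity on sections -/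
lemma Tsurj_zero_iff (F : CohTop.Ab X) :
    Tsurj F 0 ↔ ∀ (V W : Opens X) (hVW : V ≤ W), IsCompact (V : Set X) → IsCompact (W : Set X) →
      Function.Surjective (res F.obj hVW) := by
  constructor
  · intro hF V W hVW hV hW t
    obtain ⟨y', hy'⟩ := hF hVW hW hV ((sec V F).symm t)
    refine ⟨sec W F y', ?_⟩
    have h1 := sec_rG F hVW y'
    have h2 : rG (cP F 0) hVW y' = rH F 0 hVW y' := rfl
    rw [h2, hy', AddEquiv.apply_symm_apply] at h1
    exact h1.symm
  · intro hF U V h hU hV y
    obtain ⟨s, hs⟩ := hF V U h hV hU (sec V F y)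
    refine ⟨(sec U F).symm s, ?_⟩
    apply (sec V F).injective
    have h1 := sec_rG F h ((sec U F).symm s)
    have h2 : rG (cP F 0) h ((sec U F).symm s) = rH F 0 h ((sec U F).symm s) := rfl
    rw [h2, AddEquiv.apply_symm_apply] at h1
    rw [h1]
    exact hs

theorem Tvan_of_Tsurj [PrespectralSpace X] [QuasiSeparatedSpace X] :
    ∀ (k : ℕ) (F : CohTop.Ab X), Tsurj F k → Tvan F k := by
  intro k
  induction k with
  | zero =>
    intro F hF q hq V hV ξ
    obtain ⟨n, rfl⟩ : ∃ n, q = n + 1 := ⟨q - 1, by omega⟩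
    have hres := (Tsurj_zero_iff F).1 hF
    exact ext_vanish_of_qcFlasque F (ColimCoh.qcqs_of_prespectral (⊤ : Opens X))
      (fun hVW hV hW _ => hres _ _ hVW hV hW) V hV le_top n ξ
  | succ k ih =>
    intro F hF
    haveI : Injective (injSC F).X₂ := inferInstanceAs (Injective (Injective.under F))
    have hI : ∀ (q : ℕ) (V : Opens X)
        (ξ : Ext.{u} (freeSheaf (Opens.grothendieckTopology X) V) (injSC F).X₂ (q + 1)), ξ = 0 :=
      fun q V ξ => Ext.eq_zero_of_injective ξ
    have hIk : Tsurj (injSC F).X₂ k := by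
      cases k with
      | zero =>
        rw [Tsurj_zero_iff]
        intro V W hVW _ _
        haveI := Groth.Agent.Lib.FlasqueAcyclic.isFlasque_of_injective (injSC F).X₂
        have h : Epi ((injSC F).X₂.obj.map (homOfLE hVW).op) := TopCat.Presheaf.IsFlasque.epi _
        exact (AddCommGrpCat.epi_iff_surjective _).mp h
      | succ k =>
        intro U V h _ _ t
        exact ⟨0, by rw [hI k V t]; exact Ext.comp_zero _ _ _ _ _⟩
    have hQ : Tsurj (injSC F).X₃ k :=
      Tsurj_shift (injSC_shortExact F) k (fun V ξ => hI k V ξ) hIk hF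
    exact Tvan_shift (injSC_shortExact F) k hI (ih _ hQ)

end Groth.Agent.Lib.ScheidH8
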