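import Mathlib
import Groth.Prelude.Def_CohTop
import Groth.Agent.Lib.Scheid2_helper8

/-!
# Mayer–Vietoris gluing of a class vanishing on the overlap (helper8)
APPEND-ONLY once landed.
-/

set_option autoImplicit false

universe u

open CategoryTheory CategoryTheory.Limits TopologicalSpace Opposite
open Groth.Agent.Lib.FreeSheaf

namespace Groth.Agent.Lib.ScheidH8

open Abelian

variable {X : TopCat.{u}}

theorem exists_glue (F : CohTop.Ab X) (d : ℕ) (U V : Opens X)
    (ξ : Ext.{u} (freeSheaf (Opens.grothendieckTopology X) U) F d)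
    (h0 : rH F d (inf_le_left : U ⊓ V ≤ U) ξ = 0) :
    ∃ y : Ext.{u} (freeSheaf (Opens.grothendieckTopology X) (U ⊔ V)) F d,
      rH F d (le_sup_left : U ≤ U ⊔ V) y = ξ := by
  let S := Opens.mayerVietorisSquare U V
  have hex := (S.sequence_exact F d (d + 1) rfl).exact 0
  rw [ShortComplex.ab_exact_iff] at hex
  obtain ⟨y, hy⟩ := hex ((AddCommGrpCat.biprodIsoProd _ _).inv ⟨ξ, 0⟩) (by
    have h1 := S.fromBiprod_biprodIsoProd_inv_apply F (n := d) ξ 0
    refine h1.trans ?_
    rw [map_zero, sub_zero]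
    exact h0)
  refine ⟨y, ?_⟩
  have h2 := S.toBiprod_apply F (n := d) y
  have h3 := h2.symm.trans hy
  have h4 := congrArg (fun t => ((AddCommGrpCat.biprodIsoProd _ _).hom t).1) h3
  simp only [Iso.inv_hom_id_apply] at h4
  exact h4

end Groth.Agent.Lib.ScheidH8
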