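import Mathlib
import Groth.Prelude.Def_CohTop
import Groth.Agent.Lib.Scheid4_helper8
import Groth.Agent.Lib.Scheid3_helper8
import Groth.Agent.Lib.ProOpen4_helper2

/-!
# Scheiderer's surjectivity step (helper8)
APPEND-ONLY once landed.
-/

set_option autoImplicit false

universe u

open CategoryTheory CategoryTheory.Limits TopologicalSpace Opposite
open Groth.Agent.Lib.FreeSheaf

namespace Groth.Agent.Lib.ScheidH8

open Abelian Groth.Agent.Lib.NbhdColimH2 Groth.Agent.Lib.ProOpenH2 Groth.Agent.Lib.SoftH2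
  Groth.Agent.Lib.SoftCompact2_helper7

variable {X : TopCat.{u}} [SpectralSpace X]

section Fam

variable (Ub Us : Opens X)

/-- the family `V ∩ U`, `V` a quasi-compact open neighbourhood of `Ub ∖ Us` -/
def famU : Set (Opens X) := {O | ∃ V ∈ nbE ((Ub : Set X) \ (Us : Set X)), O = V ⊓ Us}

lemma famU_ne : (famU Ub Us).Nonempty :=
  ⟨⊤ ⊓ Us, ⊤, ⟨Set.subset_univ _, isCompact_univ⟩, rfl⟩

variable {Us} in
lemma famU_cpt (hUs : IsCompact (Us : Set X)) : ∀ O ∈ famU Ub Us, IsCompact (O : Set X) := by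
  rintro _ ⟨V, hV, rfl⟩
  exact QuasiSeparatedSpace.inter_isCompact (V : Set X) (Us : Set X) V.isOpen hV.2 Us.isOpen hUs

lemma famU_dir : ∀ O ∈ famU Ub Us, ∀ O' ∈ famU Ub Us, ∃ O'' ∈ famU Ub Us, O'' ≤ O ⊓ O' := by
  rintro _ ⟨V, hV, rfl⟩ _ ⟨V', hV', rfl⟩
  obtain ⟨V'', hV'', hle⟩ := nbE_dir _ V hV V' hV'
  refine ⟨V'' ⊓ Us, ⟨V'', hV'', rfl⟩, ?_⟩
  exact le_inf (inf_le_inf_right _ (hle.trans inf_le_left))
    (inf_le_inf_right _ (hle.trans inf_le_right))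

/-- the punctured set of generalizations -/
def punct : Set X := genSet ((Ub : Set X) \ (Us : Set X)) ∩ (Us : Set X)

variable {Ub} in
lemma mem_punct_iff (hUb : IsCompact (Ub : Set X)) (x : X) :
    x ∈ punct Ub Us ↔ ∀ O ∈ famU Ub Us, x ∈ O := by
  have hZ : IsCompact ((Ub : Set X) \ (Us : Set X)) := hUb.diff Us.isOpen
  constructor
  · rintro ⟨hx, hxU⟩ _ ⟨V, hV, rfl⟩
    exact ⟨(mem_genSet_iff _ hZ x).1 hx V hV, hxU⟩
  · intro h
    refine ⟨(mem_genSet_iff _ hZ x).2 (fun V hV => (h _ ⟨V, hV, rfl⟩).1), ?_⟩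
    exact (h _ ⟨⊤, ⟨Set.subset_univ _, isCompact_univ⟩, rfl⟩).2

end Fam

section Main

lemma rH_eq_zero_of_le (F : CohTop.Ab X) (d : ℕ) {U O₁ O₂ : Opens X} (h₂ : O₂ ≤ U) (h₁₂ : O₁ ≤ O₂)
    (ξ : Ext.{u} (freeSheaf (Opens.grothendieckTopology X) U) F d) (h : rH F d h₂ ξ = 0) :
    rH F d (h₁₂.trans h₂) ξ = 0 := by
  have h1 : rG (cP F d) (h₁₂.trans h₂) ξ = rG (cP F d) h₁₂ (rG (cP F d) h₂ ξ) :=
    (rG_rG _ _ _ _).symm
  have h2 : rG (cP F d) h₂ ξ = 0 := h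
  have h3 : rG (cP F d) (h₁₂.trans h₂) ξ = 0 := by rw [h1, h2, map_zero]
  exact h3

variable (d : ℕ)
  (hA : ∀ (Y : TopCat.{u}) [SpectralSpace Y], topologicalKrullDim Y < (d : ℕ) →
    ∀ (G : CohTop.Ab Y) (p : ℕ), d ≤ p → Subsingleton (CohTop.H G p))
  (hd : topologicalKrullDim X < ((d + 1 : ℕ) : WithBot ℕ∞))

include hA hd in
/-- **Scheiderer's surjectivity**: on a spectral space of dimension `≤ d`, restriction in degree
`d` between quasi-compact opens is surjective, provided spectral spaces of dimension `< d` have no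
cohomology in degrees `≥ d`. -/
theorem Tsurj_of_dim (F : CohTop.Ab X) : Tsurj F d := by
  intro Ub Us h hUb hUs ξ
  have hne := famU_ne Ub Us
  have hcpt := famU_cpt Ub hUs
  have hdir := famU_dir Ub Us
  have hW := mem_punct_iff Us hUb
  haveI : SpectralSpace (TopCat.of (punct Ub Us)) :=
    spectralSpace_pro (famU Ub Us) hne hcpt hdir (punct Ub Us) hW
  have hdim : topologicalKrullDim (TopCat.of (punct Ub Us)) < (d : ℕ) := by
    refine topologicalKrullDim_lt_of_spec (punct Ub Us) (Us : Set X) Us.isOpen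
      Set.inter_subset_right ?_ d hd
    rintro x ⟨⟨e, he, hex⟩, _⟩
    exact ⟨e, he.2, hex⟩
  haveI : Subsingleton (Psi (iK (punct Ub Us)) F d) := hA _ hdim _ d le_rfl
  obtain ⟨E⟩ := main_proOpen (famU Ub Us) hne hcpt hdir (punct Ub Us) hW d F
  have hUsW : punct Ub Us ⊆ (Us : Set X) := Set.inter_subset_right
  have h0 : ιZ (punct Ub Us) (cP F d) Us hUsW ξ = 0 := E.injective (Subsingleton.elim _ _)
  obtain ⟨O, hO, l, hl⟩ := (ιZ_eq_zero_iff (punct Ub Us) (cP F d) hUsW ξ).1 h0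
  obtain ⟨O₁, ⟨V, hV, rfl⟩, hO₁⟩ := exists_le_of_subset (famU Ub Us) hne hcpt hdir O
    (fun x hx => hO ((hW x).2 hx))
  have hξ0 : rH F d (hO₁.trans l) ξ = 0 := rH_eq_zero_of_le F d l hO₁ ξ hl
  let V' : Opens X := V ⊓ Ub
  have hUV : Us ⊔ V' = Ub := by
    apply le_antisymm
    · exact sup_le h inf_le_right
    · intro x hx
      by_cases hxU : x ∈ Us
      · exact Or.inl hxU
      · exact Or.inr ⟨hV.1 ⟨hx, hxU⟩, hx⟩
  have hinf : Us ⊓ V' ≤ V ⊓ Us := le_inf (inf_le_right.trans inf_le_left) inf_le_left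
  have hξ1 : rH F d (inf_le_left : Us ⊓ V' ≤ Us) ξ = 0 :=
    rH_eq_zero_of_le F d (hO₁.trans l) hinf ξ hξ0
  obtain ⟨y, hy⟩ := exists_glue F d Us V' ξ hξ1
  have key : ∀ (T : Opens X) (_ : Us ⊔ V' = T) (hle : Us ≤ T),
      ∃ y' : Ext.{u} (freeSheaf (Opens.grothendieckTopology X) T) F d, rH F d hle y' = ξ := by
    rintro T rfl hle
    exact ⟨y, hy⟩
  exact key Ub hUV h

end Main

end Groth.Agent.Lib.ScheidH8
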