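import Mathlib
import Groth.Prelude.Def_CohTop
import Groth.Agent.Lib.Scheid5_helper8
import Groth.Agent.Lib.GV2_helper2

/-!
# Scheiderer's theorem: cohomological dimension of spectral spaces (helper8)
APPEND-ONLY once landed.
-/

set_option autoImplicit false

universe u

open CategoryTheory CategoryTheory.Limits TopologicalSpace Opposite
open Groth.Agent.Lib.FreeSheaf

namespace Groth.Agent.Lib.ScheidH8

open Abelian Groth.Agent.Lib.GVanH2

lemma subsingleton_H_of_isEmpty {X : TopCat.{u}} [IsEmpty X] (F : CohTop.Ab X) (p : ℕ) :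
    Subsingleton (CohTop.H F p) := by
  apply subsingleton_H_of_HV
  apply HV.of_sections_zero
  intro U s
  have hU : U = ⊥ := by
    ext x
    exact isEmptyElim x
  have hT := TopCat.Sheaf.isTerminalOfEqEmpty (C := AddCommGrpCat.{u}) F hU
  have hz : IsZero (F.obj.obj (op U)) := IsZero.of_iso (isZero_zero _) (hT.uniqueUpToIso
    (HasZeroObject.zeroIsTerminal))
  exact (AddCommGrpCat.isZero_iff_subsingleton.1 hz).elim _ _  |>.trans rfl

/-- the inductive statement -/
theorem subsingleton_H_of_dim_lt : ∀ (n : ℕ) (X : TopCat.{u}) [SpectralSpace X],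
    topologicalKrullDim X < (n : ℕ) → ∀ (F : CohTop.Ab X) (p : ℕ), n ≤ p →
      Subsingleton (CohTop.H F p) := by
  intro n
  induction n with
  | zero =>
    intro X _ hd F p _
    haveI : IsEmpty X := isEmpty_of_topologicalKrullDim_lt_zero hd
    exact subsingleton_H_of_isEmpty F p
  | succ d ih =>
    intro X _ hd F p hp
    have h1 : Tsurj F d := Tsurj_of_dim d (fun Y _ hY G q hq => ih Y hY G q hq) hd F
    have h2 : Tvan F d := Tvan_of_Tsurj d F h1
    apply subsingleton_H_of_HV
    intro x
    exact h2 p (by omega) ⊤ (by simpa using (isCompact_univ : IsCompact (Set.univ : Set X))) x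

theorem main0469 {X : TopCat.{u}} [SpectralSpace X] (d : ℕ) (hd : topologicalKrullDim X ≤ d)
    (F : CohTop.Ab X) (p : ℕ) (hp : d < p) : Subsingleton (CohTop.H F p) :=
  subsingleton_H_of_dim_lt (d + 1) X
    (lt_of_le_of_lt hd (by exact_mod_cast Nat.lt_succ_self d)) F p hp

theorem main0470 {X : TopCat.{u}} [SpectralSpace X] (d : ℕ)
    (hd : topologicalKrullDim X = d) (F : CohTop.Ab X) (U : Opens X) (hU : IsCompact (U : Set X)) :
    Function.Surjective (CohTop.res F d (le_top : U ≤ ⊤)) := by
  have h1 : Tsurj F d := Tsurj_of_dim d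
    (fun Y _ hY G q hq => subsingleton_H_of_dim_lt d Y hY G q hq)
    (by rw [hd]; exact_mod_cast Nat.lt_succ_self d) F
  exact h1 (le_top : U ≤ ⊤) (by simpa using (isCompact_univ : IsCompact (Set.univ : Set X))) hU

end Groth.Agent.Lib.ScheidH8
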