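import Mathlib
import Groth.Prelude.Def_CohTop
import Groth.Agent.Lib.Scheid6_helper8
import Groth.Agent.Lib.HTransfer_helper8

/-!
# Sheaves on `T` and on `ULift T`; Grothendieck/Scheiderer vanishing for sheaves with values one
universe up (helper8)
APPEND-ONLY once landed.
-/

set_option autoImplicit false
set_option backward.isDefEq.respectTransparency false
universe u
open CategoryTheory CategoryTheory.Limits Opposite Abelian TopologicalSpace

namespace Groth.Agent.Lib.ULiftSiteH8

variable (T : Type u) [TopologicalSpace T]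

/-- the equivalence between opens of `T` and opens of `ULift T` -/
noncomputable def eOp : Opens T ≌ Opens (ULift.{u + 1} T) :=
  (Homeomorph.ulift.{u + 1, u} (X := T)).symm.opensCongr.equivalence

lemma mem_inverse (U' : Opens (ULift.{u + 1} T)) (x : T) :
    x ∈ (eOp T).inverse.obj U' ↔ ULift.up x ∈ U' := Iff.rfl

lemma mem_functor (U : Opens T) (x : ULift.{u + 1} T) :
    x ∈ (eOp T).functor.obj U ↔ x.down ∈ U := Iff.rfl

instance : (eOp T).inverse.IsDenseSubsite (Opens.grothendieckTopology (ULift.{u + 1} T))
    (Opens.grothendieckTopology T) where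
  functorPushforward_mem_iff := by
    intro U' R
    constructor
    · intro h x' hx'
      obtain ⟨V, f, ⟨W, g, k, hRg, -⟩, hxV⟩ := h x'.down hx'
      exact ⟨W, g, hRg, k.le hxV⟩
    · intro h x hx
      obtain ⟨W, g, hRg, hxW⟩ := h (ULift.up x) hx
      exact ⟨(eOp T).inverse.obj W, (eOp T).inverse.map g,
        ⟨W, g, 𝟙 _, hRg, (Category.id_comp _).symm⟩, hxW⟩

/-- the induced equivalence of sheaf categories -/
noncomputable def eSh : Sheaf (Opens.grothendieckTopology T) AddCommGrpCat.{u + 1} ≌
    Sheaf (Opens.grothendieckTopology (ULift.{u + 1} T)) AddCommGrpCat.{u + 1} :=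
  (eOp T).sheafCongr _ _ _

instance : (eSh T).functor.Additive := Functor.additive_of_preserves_binary_products _

instance : (eSh T).functor.PreservesInjectiveObjects :=
  Functor.preservesInjectiveObjects_of_adjunction_of_preservesMonomorphisms (eSh T).symm.toAdjunction

variable [HasSheafify (Opens.grothendieckTopology T) AddCommGrpCat.{u + 1}]
  [HasExt.{u + 1} (Sheaf (Opens.grothendieckTopology T) AddCommGrpCat.{u + 1})]
  [EnoughInjectives (Sheaf (Opens.grothendieckTopology T) AddCommGrpCat.{u + 1})]

theorem zar_vanish_of_dim [SpectralSpace T] (d : ℕ) (hd : topologicalKrullDim T ≤ d)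
    (F : Sheaf (Opens.grothendieckTopology T) AddCommGrpCat.{u + 1}) (q : ℕ) (hq : d < q + 1) :
    ∀ x : Sheaf.H F (q + 1), x = 0 := by
  let X' : TopCat.{u + 1} := TopCat.of (ULift.{u + 1} T)
  let hom : ULift.{u + 1} T ≃ₜ T := Homeomorph.ulift
  haveI : CompactSpace X' := hom.symm.compactSpace
  haveI : SpectralSpace X' := hom.isOpenEmbedding.spectralSpace
  have hd' : topologicalKrullDim X' ≤ d := by
    rw [IsHomeomorph.topologicalKrullDim_eq hom hom.isHomeomorph]
    exact hd
  have hTD : IsTerminal (⊤ : Opens (ULift.{u + 1} T)) := isTerminalTop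
  have hTC : IsTerminal ((eOp T).inverse.obj ⊤) := hTD.isTerminalObj (eOp T).inverse _
  refine Groth.Agent.Lib.HTransferH8.transfer (eSh T).functor hTC hTD (fun F x => x)
    (fun F => Function.bijective_id) (fun f x => rfl) (fun _ => True)
    (fun Sx hS hI h1 => ⟨trivial, hS.map_of_exact _⟩) q F trivial ?_
  intro x
  haveI : Subsingleton (CohTop.H (X := X') ((eSh T).functor.obj F) (q + 1)) :=
    Groth.Agent.Lib.ScheidH8.main0469 d hd' _ (q + 1) hq
  exact Subsingleton.elim _ _

end Groth.Agent.Lib.ULiftSiteH8
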