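import Mathlib
import Groth.Prelude.Def_CohTop
import Groth.Agent.Lib.ULiftSite_helper8
import Groth.Agent.Lib.HTransfer2_helper8
import Groth.Agent.Lib.FlasqueAcyclic_helper2

/-!
# Cohomology of an abelian sheaf on a space does not change when the values are lifted one
universe up (helper8)
APPEND-ONLY once landed.
-/

set_option autoImplicit false
set_option backward.isDefEq.respectTransparency false
universe u
open CategoryTheory CategoryTheory.Limits Opposite Abelian TopologicalSpace

namespace Groth.Agent.Lib.ULiftShH8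

open Groth.Agent.Lib.ULiftSiteH8

variable (X : TopCat.{u})
  [HasSheafify (Opens.grothendieckTopology X) AddCommGrpCat.{u + 1}]

/-- lifting the values of an abelian sheaf one universe up -/
noncomputable def L : Sheaf (Opens.grothendieckTopology X) AddCommGrpCat.{u} ⥤
    Sheaf (Opens.grothendieckTopology X) AddCommGrpCat.{u + 1} :=
  sheafCompose _ AddCommGrpCat.uliftFunctor.{u + 1, u}

instance : (L X).Additive where
  map_add := by
    intros
    rfl

instance : PreservesFiniteLimits (L X) := by
  haveI h : PreservesFiniteLimits (L X ⋙ sheafToPresheaf _ _) :=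
    inferInstanceAs (PreservesFiniteLimits (sheafToPresheaf _ _ ⋙
      (Functor.whiskeringRight _ _ _).obj AddCommGrpCat.uliftFunctor.{u + 1, u}))
  exact preservesFiniteLimits_of_reflects_of_preserves (L X) (sheafToPresheaf _ _)

lemma epi_L {F G : Sheaf (Opens.grothendieckTopology X) AddCommGrpCat.{u}} (g : F ⟶ G) [Epi g] :
    Epi ((L X).map g) := by
  haveI : Sheaf.IsLocallySurjective g := (Sheaf.isLocallySurjective_iff_epi' AddCommGrpCat.{u} g).2 inferInstance
  haveI : Sheaf.IsLocallySurjective ((L X).map g) := by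
    refine ⟨fun {U} s => ?_⟩
    have h := Presheaf.imageSieve_mem (Opens.grothendieckTopology X) g.hom s.down
    refine GrothendieckTopology.superset_covering _ ?_ h
    rintro V f ⟨t, ht⟩
    exact ⟨ULift.up t, congrArg ULift.up ht⟩
  infer_instance

theorem shortExact_L (Sx : ShortComplex (Sheaf (Opens.grothendieckTopology X) AddCommGrpCat.{u}))
    (hS : Sx.ShortExact) : (Sx.map (L X)).ShortExact := by
  have h := (Functor.preservesFiniteLimits_iff_forall_exact_map_and_mono (L X)).1
    inferInstance Sx hS
  haveI := hS.epi_g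
  have hepi : Epi ((L X).map Sx.g) := epi_L X Sx.g
  haveI := h.2
  exact ShortComplex.ShortExact.mk' h.1 h.2 hepi


variable [HasExt.{u + 1} (Sheaf (Opens.grothendieckTopology X) AddCommGrpCat.{u + 1})]
  [EnoughInjectives (Sheaf (Opens.grothendieckTopology X) AddCommGrpCat.{u + 1})]

/-- vanishing of cohomology can be checked after lifting the space -/
theorem vanish_of_lift (F : Sheaf (Opens.grothendieckTopology X) AddCommGrpCat.{u + 1}) (q : ℕ)
    (hv : ∀ x : CohTop.H (X := TopCat.of (ULift.{u + 1} X)) ((eSh X).functor.obj F) (q + 1),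
      x = 0) : ∀ x : Sheaf.H F (q + 1), x = 0 := by
  have hTD : IsTerminal (⊤ : Opens (ULift.{u + 1} X)) := isTerminalTop
  have hTC : IsTerminal ((eOp X).inverse.obj ⊤) := hTD.isTerminalObj (eOp X).inverse _
  exact Groth.Agent.Lib.HTransferH8.transfer (eSh X).functor hTC hTD (fun F x => x)
    (fun F => Function.bijective_id) (fun f x => rfl) (fun _ => True)
    (fun Sx hS hI h1 => ⟨trivial, hS.map_of_exact _⟩) q F trivial hv

theorem L_acyclic (I : Sheaf (Opens.grothendieckTopology X) AddCommGrpCat.{u}) [Injective I]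
    (q : ℕ) : ∀ x : Sheaf.H ((L X).obj I) (q + 1), x = 0 := by
  apply vanish_of_lift
  have hfl : TopCat.Sheaf.IsFlasque (X := X) I :=
    Groth.Agent.Lib.FlasqueAcyclic.isFlasque_of_injective I
  haveI : TopCat.Sheaf.IsFlasque (X := TopCat.of (ULift.{u + 1} X))
      ((eSh X).functor.obj ((L X).obj I)) := ⟨fun {U V} i => by
    rw [AddCommGrpCat.epi_iff_surjective]
    have h1 : Function.Surjective (I.obj.map ((eOp X).inverse.op.map i)) := by
      have := hfl.epi ((eOp X).inverse.op.map i)
      rwa [AddCommGrpCat.epi_iff_surjective] at this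
    intro s
    obtain ⟨t, ht⟩ := h1 s.down
    exact ⟨ULift.up t, congrArg ULift.up ht⟩⟩
  intro x
  exact Groth.Agent.Lib.FlasqueAcyclic.H_eq_zero_of_isFlasque
    (X := TopCat.of (ULift.{u + 1} X)) _ q x

/-- cohomology is unchanged by lifting the values one universe up -/
theorem iso_L (F : Sheaf (Opens.grothendieckTopology X) AddCommGrpCat.{u}) (q : ℕ) :
    Nonempty (CohTop.H (X := X) F q ≃+ Sheaf.H ((L X).obj F) q) := by
  have hT : IsTerminal (⊤ : Opens X) := isTerminalTop
  exact Groth.Agent.Lib.HTransfer2H8.iso (L X) hT hT (fun F => AddEquiv.ulift.symm)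
    (fun f x => rfl) (fun _ => True)
    (fun Sx hS hI h1 => ⟨trivial, shortExact_L X Sx hS⟩)
    (fun I hI q x => by
      haveI := hI
      exact L_acyclic X I q x) q F trivial


end Groth.Agent.Lib.ULiftShH8
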