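import Mathlib
import Groth.Prelude.Def_EtShriek2
import Groth.Prelude.Def_EtCore
import Groth.Agent.Lib.EtExtFr_helper7

/-!
# `Hpull` in terms of `Ext(ℤ[W], -)` (helper7)

* `Γhom_pullConst_inv_comp`: degree zero pullback is the unit on global sections.
* `aW : fr W ⟶ ℤ_X`, `σW_comp_aW : σ_W ≫ w⁻¹(a_W) = c_w⁻¹`.
* `ΨW_precomp_aW`: `Ψ_W(a_W ∘ x) = Hpull w x`.
-/

set_option autoImplicit false
set_option backward.isDefEq.respectTransparency false
universe u
open CategoryTheory CategoryTheory.Limits AlgebraicGeometry Opposite Abelian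

namespace Groth.Agent.Lib.EtHpull0_helper7

open Groth.Agent.Lib.EtFlasque_helper7 Groth.Agent.Lib.EtExtFr_helper7
  Groth.Agent.Lib.EtOpenShriek_helper7 Groth.Agent.Lib.EtSchSite_helper7

theorem Γhom_apply {Y : Scheme.{u}} (G : EtCoh.Ab Y) (φ : EtCoh.const Y ℤ ⟶ G) :
    Γhom G φ = ((EtCore.constAdj Y).homEquiv (AddCommGrpCat.of (ULift.{u + 1} ℤ)) G φ).hom ⟨1⟩ :=
  rfl

/-- degree zero pullback, on global sections -/
theorem Γhom_pullConst_inv_comp {X' X : Scheme.{u}} (f : X' ⟶ X) (G : EtCoh.Ab X)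
    (χ : EtCoh.const X ℤ ⟶ G) :
    Γhom _ ((EtCore.pullConst f ℤ).inv ≫ (EtCoh.pull f).map χ) =
      ((EtCore.pushGsecIso f).hom.app ((EtCoh.pull f).obj G))
        (((EtCoh.pullPushAdj f).unit.app G).hom.app (op (EtCoh.top X)) (Γhom G χ)) := by
  have key : ∀ {H : EtCoh.Ab X'} (ψ : EtCoh.const X' ℤ ⟶ H),
      (((EtCore.constAdj X).comp (EtCoh.pullPushAdj f)).ofNatIsoRight
        (EtCore.pushGsecIso f)).homEquiv (AddCommGrpCat.of (ULift.{u + 1} ℤ)) H
          ((EtCore.pullConst f ℤ).hom ≫ ψ) =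
        (EtCore.constAdj X').homEquiv (AddCommGrpCat.of (ULift.{u + 1} ℤ)) H ψ := by
    intro H ψ
    rw [Adjunction.homEquiv_naturality_right]
    have h := Adjunction.homEquiv_leftAdjointUniq_hom_app
      (((EtCore.constAdj X).comp (EtCoh.pullPushAdj f)).ofNatIsoRight (EtCore.pushGsecIso f))
      (EtCore.constAdj X') (AddCommGrpCat.of (ULift.{u + 1} ℤ))
    have h' : (((EtCore.constAdj X).comp (EtCoh.pullPushAdj f)).ofNatIsoRight
        (EtCore.pushGsecIso f)).homEquiv (AddCommGrpCat.of (ULift.{u + 1} ℤ)) _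
          (EtCore.pullConst f ℤ).hom =
        (EtCore.constAdj X').unit.app (AddCommGrpCat.of (ULift.{u + 1} ℤ)) := h
    rw [h', ← Adjunction.homEquiv_unit]
  have h1 : (EtCore.constAdj X').homEquiv (AddCommGrpCat.of (ULift.{u + 1} ℤ)) _
      ((EtCore.pullConst f ℤ).inv ≫ (EtCoh.pull f).map χ) =
      (((EtCore.constAdj X).comp (EtCoh.pullPushAdj f)).ofNatIsoRight
        (EtCore.pushGsecIso f)).homEquiv (AddCommGrpCat.of (ULift.{u + 1} ℤ)) _
          ((EtCoh.pull f).map χ) := by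
    rw [← key, Iso.hom_inv_id_assoc]
  have h2 : (EtCoh.pullPushAdj f).homEquiv _ _ ((EtCoh.pull f).map χ) =
      χ ≫ (EtCoh.pullPushAdj f).unit.app G := by
    rw [Adjunction.homEquiv_unit]
    exact ((EtCoh.pullPushAdj f).unit.naturality χ).symm
  have h3 : (((EtCore.constAdj X).comp (EtCoh.pullPushAdj f)).ofNatIsoRight
        (EtCore.pushGsecIso f)).homEquiv (AddCommGrpCat.of (ULift.{u + 1} ℤ)) _
          ((EtCoh.pull f).map χ) =
      ((EtCore.constAdj X).homEquiv (AddCommGrpCat.of (ULift.{u + 1} ℤ)) G χ ≫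
        (EtCore.gsec X).map ((EtCoh.pullPushAdj f).unit.app G)) ≫
          (EtCore.pushGsecIso f).hom.app ((EtCoh.pull f).obj G) := by
    rw [Adjunction.homEquiv_ofNatIsoRight_apply, Adjunction.comp_homEquiv]
    show (EtCore.constAdj X).homEquiv _ _ ((EtCoh.pullPushAdj f).homEquiv _ _
      ((EtCoh.pull f).map χ)) ≫ _ = _
    rw [h2, Adjunction.homEquiv_naturality_right]
  rw [Γhom_apply, h1, h3]
  rfl

variable {X : Scheme.{u}}

theorem restrPushAdj_unit_app (W : X.Etale) (G : EtCoh.Ab X) (A : X.Etale)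
    (s : G.obj.obj (op A)) :
    ((restrPushAdj W.hom).unit.app G).hom.app (op A) s =
      G.obj.map ((compBcAdj W.hom).counit.app A).op s := by
  simp [restrPushAdj, Adjunction.sheafPushforwardContinuous]
  rfl

/-- the unit of `w⁻¹ ⊣ w_*` through restriction -/
theorem pullPushAdj_unit_app (W : X.Etale) (G : EtCoh.Ab X) (A : X.Etale)
    (s : G.obj.obj (op A)) :
    ((EtCoh.pullPushAdj W.hom).unit.app G).hom.app (op A) s =
      ((restrIsoPull W.hom).hom.app G).hom.app (op ((EtCoh.bc W.hom).obj A))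
        (G.obj.map ((compBcAdj W.hom).counit.app A).op s) := by
  have h := Adjunction.unit_leftAdjointUniq_hom_app (restrPushAdj W.hom)
    (EtCoh.pullPushAdj W.hom) G
  have h' := congrArg (fun (m : G ⟶ (EtCoh.push W.hom).obj ((EtCoh.pull W.hom).obj G)) =>
    m.hom.app (op A) s) h
  rw [← restrPushAdj_unit_app]
  exact h'.symm

/-- the terminal map of `W` -/
noncomputable abbrev toTop (W : X.Etale) : W ⟶ EtCoh.top X := (EtCore.topIsTerminal X).from W

/-- degree zero pullback to an étale `X`-scheme is restriction of sections -/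
theorem Γhom_pullConst_inv_comp' (W : X.Etale) (G : EtCoh.Ab X) (χ : EtCoh.const X ℤ ⟶ G) :
    Γhom _ ((EtCore.pullConst W.hom ℤ).inv ≫ (EtCoh.pull W.hom).map χ) =
      secIso W G (G.obj.map (toTop W).op (Γhom G χ)) := by
  rw [Γhom_pullConst_inv_comp, pullPushAdj_unit_app]
  have hpgs : ∀ (y : ((EtCoh.pull W.hom).obj G).obj.obj
      (op ((EtCoh.bc W.hom).obj (EtCoh.top X)))),
      ((EtCore.pushGsecIso W.hom).hom.app ((EtCoh.pull W.hom).obj G)) y =
        ((EtCoh.pull W.hom).obj G).obj.map (EtCore.bcTopIso W.hom).inv.op y := fun y => rfl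
  rw [hpgs]
  have hnat := app_map_apply ((restrIsoPull W.hom).hom.app G) (EtCore.bcTopIso W.hom).inv
    (G.obj.map ((compBcAdj W.hom).counit.app (EtCoh.top X)).op (Γhom G χ))
  refine hnat.symm.trans ?_
  show ((restrIsoPull W.hom).hom.app G).hom.app (op (EtCoh.top W.left))
    (G.obj.map ((EtShriek.compEtale W.hom).map (EtCore.bcTopIso W.hom).inv).op
      (G.obj.map ((compBcAdj W.hom).counit.app (EtCoh.top X)).op (Γhom G χ))) = _
  have e : (EtShriek.compEtale W.hom).map (EtCore.bcTopIso W.hom).inv ≫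
      (compBcAdj W.hom).counit.app (EtCoh.top X) = (eW W).hom ≫ toTop W :=
    (EtCore.topIsTerminal X).hom_ext _ _
  have e2 := map_comp_apply G ((EtShriek.compEtale W.hom).map (EtCore.bcTopIso W.hom).inv)
    ((compBcAdj W.hom).counit.app (EtCoh.top X)) (Γhom G χ)
  have e3 := map_comp_apply G (eW W).hom (toTop W) (Γhom G χ)
  have e4 : G.obj.map ((EtShriek.compEtale W.hom).map (EtCore.bcTopIso W.hom).inv).op
      (G.obj.map ((compBcAdj W.hom).counit.app (EtCoh.top X)).op (Γhom G χ)) =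
      G.obj.map (eW W).hom.op (G.obj.map (toTop W).op (Γhom G χ)) :=
    e2.symm.trans ((congrArg (fun m => G.obj.map (Quiver.Hom.op m) (Γhom G χ)) e).trans e3)
  exact congrArg (fun y => ((restrIsoPull W.hom).hom.app G).hom.app (op (EtCoh.top W.left)) y) e4

/-- the canonical section `1` of the constant sheaf -/
noncomputable def one (X : Scheme.{u}) : (EtCoh.const X ℤ).obj.obj (op (EtCoh.top X)) :=
  Γhom _ (𝟙 _)

theorem Γhom_eq_app_one {G : EtCoh.Ab X} (χ : EtCoh.const X ℤ ⟶ G) :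
    Γhom G χ = χ.hom.app (op (EtCoh.top X)) (one X) := by
  rw [one, ← Γhom_comp, Category.id_comp]

/-- the augmentation `ℤ[W] → ℤ` -/
noncomputable def aW (W : X.Etale) : fr W ⟶ EtCoh.const X ℤ :=
  (frEquiv W _).symm ((EtCoh.const X ℤ).obj.map (toTop W).op (one X))

theorem frEquiv_aW_comp (W : X.Etale) {G : EtCoh.Ab X} (χ : EtCoh.const X ℤ ⟶ G) :
    frEquiv W G (aW W ≫ χ) = G.obj.map (toTop W).op (Γhom G χ) := by
  rw [frEquiv_comp, aW, Equiv.apply_symm_apply, app_map_apply, ← Γhom_eq_app_one]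

theorem frMap_comp_aW {W W' : X.Etale} (g : W' ⟶ W) : frMap g ≫ aW W = aW W' := by
  apply (frEquiv W' _).injective
  have e : g ≫ toTop W = toTop W' := (EtCore.topIsTerminal X).hom_ext _ _
  rw [frEquiv_map, aW, aW, Equiv.apply_symm_apply, Equiv.apply_symm_apply, ← map_comp_apply, e]

/-- `σ_W ≫ w⁻¹(a_W) = c_w⁻¹` -/
theorem σW_comp_aW (W : X.Etale) :
    σW W ≫ (EtCoh.pull W.hom).map (aW W) = (EtCore.pullConst W.hom ℤ).inv := by
  apply (Γhom _).injective
  rw [Γhom_σW_comp]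
  have h := Γhom_pullConst_inv_comp' W (EtCoh.const X ℤ) (𝟙 _)
  have e : (EtCore.pullConst W.hom ℤ).inv ≫ (EtCoh.pull W.hom).map (𝟙 (EtCoh.const X ℤ)) =
      (EtCore.pullConst W.hom ℤ).inv :=
    (congrArg (fun t => (EtCore.pullConst W.hom ℤ).inv ≫ t)
      ((EtCoh.pull W.hom).map_id _)).trans (Category.comp_id _)
  rw [e] at h
  refine Eq.trans ?_ h.symm
  exact congrArg (secIso W _) (Equiv.apply_symm_apply _ _)

open EtPullExact in
/-- `Ψ_W(a_W ∘ x) = Hpull w x` -/
theorem ΨW_precomp_aW (W : X.Etale) (F : EtCoh.Ab X) (n : ℕ)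
    [PreservesFiniteLimits (EtCoh.pull W.hom)]
    (x : EtCoh.H X F n) :
    ΨW W F n ((Ext.mk₀ (aW W)).comp x (zero_add n)) = EtCore.Hpull W.hom F n x := by
  show (Ext.mk₀ (σW W)).comp (((Ext.mk₀ (aW W)).comp x (zero_add n)).mapExactFunctor
    (EtCoh.pull W.hom)) (zero_add n) =
    (Ext.mk₀ (EtCore.pullConst W.hom ℤ).inv).comp (x.mapExactFunctor (EtCoh.pull W.hom))
      (zero_add n)
  rw [Ext.mapExactFunctor_comp, Ext.mapExactFunctor_mk₀, Ext.mk₀_comp_mk₀_assoc, σW_comp_aW]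

/-- `ℤ[X] ≅ ℤ` -/
theorem isIso_aW_top : IsIso (aW (EtCoh.top X)) := by
  refine ⟨(Γhom _).symm (frEquiv (EtCoh.top X) (fr (EtCoh.top X)) (𝟙 _)), ?_, ?_⟩
  · apply (frEquiv (EtCoh.top X) _).injective
    rw [frEquiv_aW_comp, Equiv.apply_symm_apply]
    have : toTop (EtCoh.top X) = 𝟙 _ := (EtCore.topIsTerminal X).hom_ext _ _
    rw [this, map_id_apply]
  · apply (Γhom _).injective
    rw [Γhom_comp, Equiv.apply_symm_apply, ← frEquiv_comp, Category.id_comp, ← Category.comp_id (aW _),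
      frEquiv_aW_comp]
    have : toTop (EtCoh.top X) = 𝟙 _ := (EtCore.topIsTerminal X).hom_ext _ _
    rw [this, map_id_apply]

theorem mono_aW (W : X.Etale) [Mono (toTop W)] : Mono (aW W) := by
  haveI := isIso_aW_top (X := X)
  haveI := mono_frMap (toTop W)
  rw [← frMap_comp_aW (toTop W)]
  infer_instance

end Groth.Agent.Lib.EtHpull0_helper7
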