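import Mathlib
import Groth.Prelude.Def_EtCore

/-!
# Compatibility of `pullConst` with `pullComp` (helper7)

`c_{f ≫ w} = κ ≫ f⁻¹(c_w) ≫ c_f`, where `c` is the isomorphism "pullback of a constant sheaf is
constant" and `κ : (f ≫ w)⁻¹ ≅ w⁻¹ ⋙ f⁻¹`.
-/

set_option autoImplicit false
set_option backward.isDefEq.respectTransparency false
universe u
open CategoryTheory CategoryTheory.Limits AlgebraicGeometry Opposite

namespace Groth.Agent.Lib.EtPullConstComp_helper7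

section Abstract

universe v₁ v₂ u₁ u₂
variable {C : Type u₁} [Category.{v₁} C] {D : Type u₂} [Category.{v₂} D]
  {F F' : C ⥤ D} {G : D ⥤ C}

theorem homEquiv_uniq_comp (adj1 : F ⊣ G) (adj2 : F' ⊣ G) {x : C} {y : D} (ψ : F'.obj x ⟶ y) :
    adj1.homEquiv x y ((Adjunction.leftAdjointUniq adj1 adj2).hom.app x ≫ ψ) =
      adj2.homEquiv x y ψ := by
  rw [Adjunction.homEquiv_naturality_right, Adjunction.homEquiv_leftAdjointUniq_hom_app,
    ← Adjunction.homEquiv_unit]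

theorem eq_uniq_of_homEquiv (adj1 : F ⊣ G) (adj2 : F' ⊣ G) {x : C} (θ : F.obj x ⟶ F'.obj x)
    (h : adj1.homEquiv x _ θ = adj2.unit.app x) :
    θ = (Adjunction.leftAdjointUniq adj1 adj2).hom.app x :=
  (adj1.homEquiv x _).injective
    (h.trans (Adjunction.homEquiv_leftAdjointUniq_hom_app adj1 adj2 x).symm)

end Abstract


section Abstract2

universe w₀ w₁ w₂ w₃ w₄ w₅ w₆ w₇
variable {𝒜 : Type w₀} [Category.{w₁} 𝒜] {SX : Type w₂} [Category.{w₃} SX]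
  {SY : Type w₄} [Category.{w₅} SY] {SX' : Type w₆} [Category.{w₇} SX']
  {Cx : 𝒜 ⥤ SX} {Γx : SX ⥤ 𝒜} (ax : Cx ⊣ Γx)
  {Cy : 𝒜 ⥤ SY} {Γy : SY ⥤ 𝒜} (ay : Cy ⊣ Γy)
  {Cx' : 𝒜 ⥤ SX'} {Γx' : SX' ⥤ 𝒜} (ax' : Cx' ⊣ Γx')
  {Lw : SX ⥤ SY} {Rw : SY ⥤ SX} (adjw : Lw ⊣ Rw)
  {Lf : SY ⥤ SX'} {Rf : SX' ⥤ SY} (adjf : Lf ⊣ Rf)
  {Lfw : SX ⥤ SX'} {Rfw : SX' ⥤ SX} (adjfw : Lfw ⊣ Rfw)
  (gw : Rw ⋙ Γx ≅ Γy) (gf : Rf ⋙ Γy ≅ Γx') (gfw : Rfw ⋙ Γx ≅ Γx') (e : Rf ⋙ Rw ≅ Rfw)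

theorem abs_homEquiv {M : 𝒜} {H : SY} (ξ : Lw.obj (Cx.obj M) ⟶ H) :
    ((ax.comp adjw).ofNatIsoRight gw).homEquiv M H ξ =
      ax.homEquiv M _ (adjw.homEquiv _ H ξ) ≫ gw.hom.app H := by
  rw [Adjunction.homEquiv_ofNatIsoRight_apply, Adjunction.comp_homEquiv]
  rfl

theorem abs_t2 (M : 𝒜) :
    ax.homEquiv M _ (adjw.homEquiv _ _
      ((Adjunction.leftAdjointUniq ((ax.comp adjw).ofNatIsoRight gw) ay).hom.app M)) =
      ay.unit.app M ≫ gw.inv.app _ := by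
  have h := Adjunction.homEquiv_leftAdjointUniq_hom_app ((ax.comp adjw).ofNatIsoRight gw) ay M
  rw [abs_homEquiv] at h
  rw [← h, Category.assoc, Iso.hom_inv_id_app]
  exact (Category.comp_id _).symm

theorem abs_comp
    (coh : ∀ H : SX', gf.inv.app H ≫ gw.inv.app (Rf.obj H) ≫ Γx.map (e.hom.app H) ≫
      gfw.hom.app H = 𝟙 _)
    (M : 𝒜) :
    (Adjunction.leftAdjointUniq ((ax.comp adjfw).ofNatIsoRight gfw) ax').hom.app M =
      (Adjunction.leftAdjointUniq adjfw ((adjw.comp adjf).ofNatIsoRight e)).hom.app (Cx.obj M) ≫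
        Lf.map ((Adjunction.leftAdjointUniq ((ax.comp adjw).ofNatIsoRight gw) ay).hom.app M) ≫
          (Adjunction.leftAdjointUniq ((ay.comp adjf).ofNatIsoRight gf) ax').hom.app M := by
  symm
  refine eq_uniq_of_homEquiv ((ax.comp adjfw).ofNatIsoRight gfw) ax' _ ?_
  rw [abs_homEquiv]
  have s1 := homEquiv_uniq_comp adjfw ((adjw.comp adjf).ofNatIsoRight e)
    (Lf.map ((Adjunction.leftAdjointUniq ((ax.comp adjw).ofNatIsoRight gw) ay).hom.app M) ≫
      (Adjunction.leftAdjointUniq ((ay.comp adjf).ofNatIsoRight gf) ax').hom.app M)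
  have s2 : ∀ {x : SX} {y : SX'} (ψ : Lf.obj (Lw.obj x) ⟶ y),
      ((adjw.comp adjf).ofNatIsoRight e).homEquiv x y ψ =
        adjw.homEquiv _ _ (adjf.homEquiv _ _ ψ) ≫ e.hom.app y := by
    intro x y ψ
    rw [Adjunction.homEquiv_ofNatIsoRight_apply, Adjunction.comp_homEquiv]
    rfl
  refine (congrArg (fun z => ax.homEquiv M _ z ≫ gfw.hom.app _) s1).trans ?_
  show ax.homEquiv M _ (((adjw.comp adjf).ofNatIsoRight e).homEquiv _ _ _) ≫ gfw.hom.app _ = _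
  rw [s2, Adjunction.homEquiv_naturality_left, Adjunction.homEquiv_naturality_right,
    Adjunction.homEquiv_naturality_right, Adjunction.homEquiv_naturality_right, abs_t2]
  have t4 : ay.unit.app M ≫ Γy.map (adjf.homEquiv _ _
      ((Adjunction.leftAdjointUniq ((ay.comp adjf).ofNatIsoRight gf) ax').hom.app M)) =
      ax'.unit.app M ≫ gf.inv.app _ :=
    abs_t2 ay ax' adjf gf M
  have t3 := gw.inv.naturality (adjf.homEquiv _ _
      ((Adjunction.leftAdjointUniq ((ay.comp adjf).ofNatIsoRight gf) ax').hom.app M))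
  simp only [Functor.comp_map] at t3
  simp only [Category.assoc]
  rw [← reassoc_of% t3, reassoc_of% t4, coh, Category.comp_id]

end Abstract2

/-- the adjunction defining `pullConstIso` -/
noncomputable abbrev B {Y X : Scheme.{u}} (w : Y ⟶ X) :
    constantSheaf X.smallEtaleTopology AddCommGrpCat.{u + 1} ⋙ EtCoh.pull w ⊣ EtCore.gsec Y :=
  ((EtCore.constAdj X).comp (EtCoh.pullPushAdj w)).ofNatIsoRight (EtCore.pushGsecIso w)

theorem B_homEquiv {Y X : Scheme.{u}} (w : Y ⟶ X) (M : AddCommGrpCat.{u + 1}) (H : EtCoh.Ab Y)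
    (ξ : (EtCoh.pull w).obj ((constantSheaf X.smallEtaleTopology AddCommGrpCat.{u + 1}).obj M) ⟶ H) :
    (B w).homEquiv M H ξ =
      (EtCore.constAdj X).homEquiv M _ ((EtCoh.pullPushAdj w).homEquiv _ H ξ) ≫
        (EtCore.pushGsecIso w).hom.app H := by
  rw [Adjunction.homEquiv_ofNatIsoRight_apply, Adjunction.comp_homEquiv]
  rfl

theorem B_homEquiv_pullConstIso {Y X : Scheme.{u}} (w : Y ⟶ X) (M : AddCommGrpCat.{u + 1}) :
    (EtCore.constAdj X).homEquiv M _ ((EtCoh.pullPushAdj w).homEquiv _ _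
      ((EtCore.pullConstIso w).hom.app M)) ≫ (EtCore.pushGsecIso w).hom.app _ =
      (EtCore.constAdj Y).unit.app M := by
  rw [← B_homEquiv]
  exact Adjunction.homEquiv_leftAdjointUniq_hom_app (B w) (EtCore.constAdj Y) M

variable {X' Y X : Scheme.{u}} (f : X' ⟶ Y) (w : Y ⟶ X)

theorem coh_R (H : EtCoh.Ab X') :
    (EtCore.pushGsecIso f).inv.app H ≫ (EtCore.pushGsecIso w).inv.app ((EtCoh.push f).obj H) ≫
      (EtCore.gsec X).map ((EtCoh.pushComp w f).hom.app H) ≫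
        (EtCore.pushGsecIso (f ≫ w)).hom.app H = 𝟙 _ := by
  have e1 : (EtCore.pushGsecIso f).inv.app H = H.obj.map (EtCore.bcTopIso f).hom.op := rfl
  have e2 : (EtCore.pushGsecIso w).inv.app ((EtCoh.push f).obj H) =
      H.obj.map ((EtCoh.bc f).map (EtCore.bcTopIso w).hom).op := rfl
  have e4 : (EtCore.pushGsecIso (f ≫ w)).hom.app H =
      H.obj.map (EtCore.bcTopIso (f ≫ w)).inv.op := rfl
  obtain ⟨q, hq⟩ : ∃ q : op ((EtCoh.bc f).obj ((EtCoh.bc w).obj (EtCoh.top X))) ⟶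
      op ((EtCoh.bc (f ≫ w)).obj (EtCoh.top X)),
      (EtCore.gsec X).map ((EtCoh.pushComp w f).hom.app H) = H.obj.map q := ⟨_, rfl⟩
  rw [e1, e2, hq, e4, ← Functor.map_comp, ← Functor.map_comp, ← Functor.map_comp]
  have : (EtCore.bcTopIso f).hom.op ≫ ((EtCoh.bc f).map (EtCore.bcTopIso w).hom).op ≫ q ≫
      (EtCore.bcTopIso (f ≫ w)).inv.op = 𝟙 (op (EtCoh.top X')) :=
    Quiver.Hom.unop_inj ((EtCore.topIsTerminal X').hom_ext _ _)
  rw [this, H.obj.map_id]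
  rfl

/-- `c_{f ≫ w} = κ ≫ f⁻¹(c_w) ≫ c_f` -/
theorem pullConstIso_comp (M : AddCommGrpCat.{u + 1}) :
    (EtCore.pullConstIso (f ≫ w)).hom.app M =
      (EtCore.pullComp f w).hom.app
          ((constantSheaf X.smallEtaleTopology AddCommGrpCat.{u + 1}).obj M) ≫
        (EtCoh.pull f).map ((EtCore.pullConstIso w).hom.app M) ≫
          (EtCore.pullConstIso f).hom.app M :=
  abs_comp (EtCore.constAdj X) (EtCore.constAdj Y) (EtCore.constAdj X') (EtCoh.pullPushAdj w)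
    (EtCoh.pullPushAdj f) (EtCoh.pullPushAdj (f ≫ w)) (EtCore.pushGsecIso w)
    (EtCore.pushGsecIso f) (EtCore.pushGsecIso (f ≫ w)) (EtCoh.pushComp w f) (coh_R f w) M

/-- the version for `pullConst` -/
theorem pullConst_inv_comp :
    (EtCore.pullConst (f ≫ w) ℤ).inv =
      (EtCore.pullConst f ℤ).inv ≫ (EtCoh.pull f).map (EtCore.pullConst w ℤ).inv ≫
        (EtCore.pullComp f w).inv.app (EtCoh.const X ℤ) := by
  have h : (EtCore.pullConst (f ≫ w) ℤ).hom =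
      (EtCore.pullComp f w).hom.app (EtCoh.const X ℤ) ≫
        (EtCoh.pull f).map (EtCore.pullConst w ℤ).hom ≫ (EtCore.pullConst f ℤ).hom :=
    pullConstIso_comp f w _
  apply (cancel_epi (EtCore.pullConst (f ≫ w) ℤ).hom).mp
  rw [Iso.hom_inv_id, h]
  simp only [Category.assoc, Iso.hom_inv_id_assoc]
  rw [← Functor.map_comp_assoc, Iso.hom_inv_id, CategoryTheory.Functor.map_id, Category.id_comp]
  exact (Iso.hom_inv_id_app _ _).symm

end Groth.Agent.Lib.EtPullConstComp_helper7
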