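import Mathlib

/-!
# Naturality of `Ext.mapExactFunctor` with respect to natural transformations (helper7)
-/

set_option autoImplicit false
universe w w' w'' v u v' u' v'' u''
open CategoryTheory CategoryTheory.Limits Abelian

namespace Groth.Agent.Lib.ExtNat_helper7

variable {C : Type u} [Category.{v} C] [Abelian C] {D : Type u'} [Category.{v'} D] [Abelian D]
  {E : Type u''} [Category.{v''} E] [Abelian E]
  [HasExt.{w} C] [HasExt.{w'} D] [HasExt.{w''} E] [EnoughInjectives C]
  (G₁ : C ⥤ D) [G₁.Additive] [PreservesFiniteLimits G₁] [PreservesFiniteColimits G₁]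
  (G₂ : D ⥤ E) [G₂.Additive] [PreservesFiniteLimits G₂] [PreservesFiniteColimits G₂]
  (K : C ⥤ E) [K.Additive] [PreservesFiniteLimits K] [PreservesFiniteColimits K]
  (τ : G₁ ⋙ G₂ ⟶ K)

theorem ext_naturality {A : C} (n : ℕ) : ∀ (F : C) (e : Ext.{w} A F n),
    ((e.mapExactFunctor G₁).mapExactFunctor G₂).comp (Ext.mk₀ (τ.app F)) (add_zero n) =
      (Ext.mk₀ (τ.app A)).comp (e.mapExactFunctor K) (zero_add n) := by
  induction n with
  | zero =>
    intro F e
    obtain ⟨φ, rfl⟩ := (Ext.mk₀_bijective _ _).2 e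
    rw [Ext.mapExactFunctor_mk₀, Ext.mapExactFunctor_mk₀, Ext.mapExactFunctor_mk₀,
      Ext.mk₀_comp_mk₀, Ext.mk₀_comp_mk₀]
    exact congrArg Ext.mk₀ (τ.naturality φ)
  | succ n ih =>
    intro F e
    let I : InjectivePresentation F := Classical.arbitrary _
    let S := ShortComplex.mk _ _ (cokernel.condition I.f)
    have hS : S.ShortExact := { exact := ShortComplex.exact_cokernel I.f }
    haveI : Injective S.X₂ := I.injective
    obtain ⟨y, hy⟩ : ∃ y : Ext.{w} A S.X₃ n, y.comp hS.extClass rfl = e :=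
      Ext.covariant_sequence_exact₁ A hS e (Ext.eq_zero_of_injective _) rfl
    subst hy
    have hS₁ := hS.map_of_exact G₁
    have hS₂ := hS₁.map_of_exact G₂
    have hSK := hS.map_of_exact K
    let φ : (S.map G₁).map G₂ ⟶ S.map K :=
      { τ₁ := τ.app S.X₁
        τ₂ := τ.app S.X₂
        τ₃ := τ.app S.X₃
        comm₁₂ := (τ.naturality S.f).symm
        comm₂₃ := (τ.naturality S.g).symm }
    have hnat : hS₂.extClass.comp (Ext.mk₀ (τ.app S.X₁)) (add_zero 1) =
        (Ext.mk₀ (τ.app S.X₃)).comp hSK.extClass (zero_add 1) :=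
      ShortComplex.ShortExact.extClass_naturality hS₂ hSK φ
    have hδ : (hS.extClass.mapExactFunctor G₁).mapExactFunctor G₂ = hS₂.extClass :=
      (congrArg (fun t => Ext.mapExactFunctor G₂ t) (Ext.mapExactFunctor_extClass G₁ hS)).trans
        (Ext.mapExactFunctor_extClass G₂ hS₁)
    have hδK : hS.extClass.mapExactFunctor K = hSK.extClass := Ext.mapExactFunctor_extClass _ _
    have step1 : ((y.comp hS.extClass rfl).mapExactFunctor G₁).mapExactFunctor G₂ =
        ((y.mapExactFunctor G₁).mapExactFunctor G₂).comp hS₂.extClass rfl := by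
      rw [Ext.mapExactFunctor_comp, Ext.mapExactFunctor_comp, hδ]
      rfl
    have step2 : (y.comp hS.extClass rfl).mapExactFunctor K =
        (y.mapExactFunctor K).comp hSK.extClass rfl := by
      rw [Ext.mapExactFunctor_comp, hδK]
      rfl
    refine (congrArg (fun t => t.comp (Ext.mk₀ (τ.app S.X₁)) (add_zero (n + 1))) step1).trans ?_
    refine Eq.trans ?_
      (congrArg (fun t => (Ext.mk₀ (τ.app A)).comp t (zero_add (n + 1))) step2).symm
    refine (Ext.comp_assoc_of_third_deg_zero _ _ _ _).trans ?_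
    refine (congrArg (fun t => ((y.mapExactFunctor G₁).mapExactFunctor G₂).comp t rfl)
      hnat).trans ?_
    refine (Ext.comp_assoc_of_second_deg_zero _ _ _ _).symm.trans ?_
    refine (congrArg (fun t => t.comp hSK.extClass rfl) (ih S.X₃ y)).trans ?_
    exact Ext.comp_assoc (Ext.mk₀ (τ.app A)) (y.mapExactFunctor K) hSK.extClass
      (zero_add n) rfl (by omega)

end Groth.Agent.Lib.ExtNat_helper7
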