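import Mathlib
import Groth.Prelude.Def_EtShriek2
import Groth.Prelude.Def_EtCore
import Groth.Agent.Lib.EtHpull0_helper7
import Groth.Agent.Lib.ExtNat_helper7
import Groth.Agent.Lib.EtPullConstComp_helper7

/-!
# `Ψ_W` is compatible with restriction along a morphism `W' ⟶ W` of the étale site (helper7)
-/

set_option autoImplicit false
set_option backward.isDefEq.respectTransparency false
universe u
open CategoryTheory CategoryTheory.Limits AlgebraicGeometry Opposite Abelian

namespace Groth.Agent.Lib.EtMVsq_helper7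

open Groth.Agent.Lib.EtFlasque_helper7 Groth.Agent.Lib.EtExtFr_helper7
  Groth.Agent.Lib.EtHpull0_helper7 Groth.Agent.Lib.EtPullConstComp_helper7
  Groth.Agent.Lib.ExtNat_helper7 EtPullExact

variable {X : Scheme.{u}}

theorem pullConst_inv_congr {X' : Scheme.{u}} {a b : X' ⟶ X} (h : a = b) :
    (EtCore.pullConst a ℤ).inv ≫ (EtCore.pullCongr h).hom.app (EtCoh.const X ℤ) =
      (EtCore.pullConst b ℤ).inv := by
  subst h
  simp [EtCore.pullCongr]

/-- the transition isomorphism `g⁻¹ w⁻¹ ⟶ w'⁻¹` -/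
noncomputable abbrev τ {W W' : X.Etale} (g : W' ⟶ W) :
    EtCoh.pull W.hom ⋙ EtCoh.pull g.left ⟶ EtCoh.pull W'.hom :=
  ((EtCore.pullComp g.left W.hom).symm ≪≫ EtCore.pullCongr (MorphismProperty.Over.w g)).hom

theorem σW_frMap {W W' : X.Etale} (g : W' ⟶ W) [Mono (toTop W)] :
    σW W' ≫ (EtCoh.pull W'.hom).map (frMap g) =
      ((EtCore.pullConst g.left ℤ).inv ≫ (EtCoh.pull g.left).map (σW W)) ≫ (τ g).app (fr W) := by
  haveI := pull_pfl_ab W'.hom
  haveI : Mono (aW W) := mono_aW W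
  haveI : Mono ((EtCoh.pull W'.hom).map (aW W)) := inferInstance
  rw [← cancel_mono ((EtCoh.pull W'.hom).map (aW W))]
  have hL : (σW W' ≫ (EtCoh.pull W'.hom).map (frMap g)) ≫ (EtCoh.pull W'.hom).map (aW W) =
      (EtCore.pullConst W'.hom ℤ).inv := by
    rw [Category.assoc, ← Functor.map_comp, frMap_comp_aW, σW_comp_aW]
  have e1 : (τ g).app (fr W) ≫ (EtCoh.pull W'.hom).map (aW W) =
      (EtCoh.pull g.left).map ((EtCoh.pull W.hom).map (aW W)) ≫ (τ g).app (EtCoh.const X ℤ) :=
    ((τ g).naturality (aW W)).symm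
  have hR : (((EtCore.pullConst g.left ℤ).inv ≫ (EtCoh.pull g.left).map (σW W)) ≫
      (τ g).app (fr W)) ≫ (EtCoh.pull W'.hom).map (aW W) = (EtCore.pullConst W'.hom ℤ).inv :=
    calc (((EtCore.pullConst g.left ℤ).inv ≫ (EtCoh.pull g.left).map (σW W)) ≫
          (τ g).app (fr W)) ≫ (EtCoh.pull W'.hom).map (aW W)
        = (EtCore.pullConst g.left ℤ).inv ≫ (EtCoh.pull g.left).map (σW W) ≫
            ((τ g).app (fr W) ≫ (EtCoh.pull W'.hom).map (aW W)) := by
          simp only [Category.assoc]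
      _ = (EtCore.pullConst g.left ℤ).inv ≫ (EtCoh.pull g.left).map (σW W) ≫
            ((EtCoh.pull g.left).map ((EtCoh.pull W.hom).map (aW W)) ≫
              (τ g).app (EtCoh.const X ℤ)) := by rw [e1]
      _ = (EtCore.pullConst g.left ℤ).inv ≫
            (EtCoh.pull g.left).map (σW W ≫ (EtCoh.pull W.hom).map (aW W)) ≫
              (τ g).app (EtCoh.const X ℤ) := by
          rw [Functor.map_comp, Category.assoc]
      _ = (EtCore.pullConst g.left ℤ).inv ≫
            (EtCoh.pull g.left).map (EtCore.pullConst W.hom ℤ).inv ≫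
              (τ g).app (EtCoh.const X ℤ) := by rw [σW_comp_aW]
      _ = ((EtCore.pullConst g.left ℤ).inv ≫
            (EtCoh.pull g.left).map (EtCore.pullConst W.hom ℤ).inv ≫
              (EtCore.pullComp g.left W.hom).inv.app (EtCoh.const X ℤ)) ≫
            (EtCore.pullCongr (MorphismProperty.Over.w g)).hom.app (EtCoh.const X ℤ) := by
          simp only [Category.assoc]
          rfl
      _ = (EtCore.pullConst (g.left ≫ W.hom) ℤ).inv ≫
            (EtCore.pullCongr (MorphismProperty.Over.w g)).hom.app (EtCoh.const X ℤ) :=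
          congrArg (fun m => m ≫
            (EtCore.pullCongr (MorphismProperty.Over.w g)).hom.app (EtCoh.const X ℤ))
            (pullConst_inv_comp g.left W.hom).symm
      _ = (EtCore.pullConst W'.hom ℤ).inv := pullConst_inv_congr _
  exact hL.trans hR.symm

/-- `Ψ_{W'}(ℤ[g] ∘ e) = g^*(Ψ_W e)` -/
theorem ΨW_frMap {W W' : X.Etale} (g : W' ⟶ W) [Mono (toTop W)] (F : EtCoh.Ab X) (n : ℕ)
    [PreservesFiniteLimits (EtCoh.pull g.left)] (e : Ext (fr W) F n) :
    ΨW W' F n ((Ext.mk₀ (frMap g)).comp e (zero_add n)) =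
      EtCore.HpullVia g.left W.hom W'.hom (MorphismProperty.Over.w g) F n (ΨW W F n e) := by
  haveI := pull_pfl_ab W.hom
  haveI := pull_pfl_ab W'.hom
  have hL : (Ext.mk₀ (σW W')).comp (((Ext.mk₀ (frMap g)).comp e (zero_add n)).mapExactFunctor
      (EtCoh.pull W'.hom)) (zero_add n) =
      (Ext.mk₀ (σW W' ≫ (EtCoh.pull W'.hom).map (frMap g))).comp
        (e.mapExactFunctor (EtCoh.pull W'.hom)) (zero_add n) := by
    rw [Ext.mapExactFunctor_comp, Ext.mapExactFunctor_mk₀, Ext.mk₀_comp_mk₀_assoc]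
  have nat := ext_naturality (EtCoh.pull W.hom) (EtCoh.pull g.left) (EtCoh.pull W'.hom) (τ g) n F e
  have hR : ((Ext.mk₀ (EtCore.pullConst g.left ℤ).inv).comp
      (((Ext.mk₀ (σW W)).comp (e.mapExactFunctor (EtCoh.pull W.hom)) (zero_add n)).mapExactFunctor
        (EtCoh.pull g.left)) (zero_add n)).comp (Ext.mk₀ ((τ g).app F)) (add_zero n) =
      (Ext.mk₀ (((EtCore.pullConst g.left ℤ).inv ≫ (EtCoh.pull g.left).map (σW W)) ≫
        (τ g).app (fr W))).comp (e.mapExactFunctor (EtCoh.pull W'.hom)) (zero_add n) := by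
    rw [Ext.mapExactFunctor_comp, Ext.mapExactFunctor_mk₀, Ext.mk₀_comp_mk₀_assoc,
      Ext.comp_assoc_of_third_deg_zero]
    refine (congrArg (fun t => (Ext.mk₀ ((EtCore.pullConst g.left ℤ).inv ≫
      (EtCoh.pull g.left).map (σW W))).comp t (zero_add n)) nat).trans ?_
    exact Ext.mk₀_comp_mk₀_assoc _ _ _
  refine Eq.trans ?_ hR.symm
  refine hL.trans ?_
  rw [σW_frMap g]

end Groth.Agent.Lib.EtMVsq_helper7
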