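import Mathlib

/-!
# Abstract Mayer–Vietoris sequence from a short exact sequence `0 → P → A ⊞ B → Z → 0` (helper7)
-/

set_option autoImplicit false
universe w w' v u
open CategoryTheory CategoryTheory.Limits Abelian

namespace Groth.Agent.Lib.MVabs_helper7

variable {C : Type u} [Category.{v} C] [Abelian C] [HasExt.{w} C]
  {P A B Z : C}

theorem ext_biprod_decomp {F : C} {n : ℕ} (y : Ext (A ⊞ B) F n) :
    y = (Ext.mk₀ biprod.fst).comp ((Ext.mk₀ biprod.inl).comp y (zero_add n)) (zero_add n) +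
        (Ext.mk₀ biprod.snd).comp ((Ext.mk₀ biprod.inr).comp y (zero_add n)) (zero_add n) := by
  rw [Ext.mk₀_comp_mk₀_assoc, Ext.mk₀_comp_mk₀_assoc, ← Ext.add_comp, ← Ext.mk₀_add,
    biprod.total, Ext.mk₀_id_comp]

theorem inl_comp_mk {F : C} {n : ℕ} (a : Ext A F n) (b : Ext B F n) :
    (Ext.mk₀ (biprod.inl : A ⟶ A ⊞ B)).comp ((Ext.mk₀ biprod.fst).comp a (zero_add n) +
      (Ext.mk₀ biprod.snd).comp b (zero_add n)) (zero_add n) = a := by
  rw [Ext.comp_add, Ext.mk₀_comp_mk₀_assoc, Ext.mk₀_comp_mk₀_assoc, biprod.inl_fst,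
    biprod.inl_snd, Ext.mk₀_id_comp, Ext.mk₀_zero, Ext.zero_comp, add_zero]

theorem inr_comp_mk {F : C} {n : ℕ} (a : Ext A F n) (b : Ext B F n) :
    (Ext.mk₀ (biprod.inr : B ⟶ A ⊞ B)).comp ((Ext.mk₀ biprod.fst).comp a (zero_add n) +
      (Ext.mk₀ biprod.snd).comp b (zero_add n)) (zero_add n) = b := by
  rw [Ext.comp_add, Ext.mk₀_comp_mk₀_assoc, Ext.mk₀_comp_mk₀_assoc, biprod.inr_fst,
    biprod.inr_snd, Ext.mk₀_id_comp, Ext.mk₀_zero, Ext.zero_comp, zero_add]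

variable (p : P ⟶ A) (q : P ⟶ B) (α : A ⟶ Z) (β : B ⟶ Z)

theorem inl_desc_comp {F : C} {n : ℕ} (x : Ext Z F n) :
    (Ext.mk₀ (biprod.inl : A ⟶ A ⊞ B)).comp ((Ext.mk₀ (biprod.desc α β)).comp x (zero_add n))
      (zero_add n) = (Ext.mk₀ α).comp x (zero_add n) := by
  rw [Ext.mk₀_comp_mk₀_assoc, biprod.inl_desc]

theorem inr_desc_comp {F : C} {n : ℕ} (x : Ext Z F n) :
    (Ext.mk₀ (biprod.inr : B ⟶ A ⊞ B)).comp ((Ext.mk₀ (biprod.desc α β)).comp x (zero_add n))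
      (zero_add n) = (Ext.mk₀ β).comp x (zero_add n) := by
  rw [Ext.mk₀_comp_mk₀_assoc, biprod.inr_desc]

theorem lift_comp {F : C} {n : ℕ} (y : Ext (A ⊞ B) F n) :
    (Ext.mk₀ (biprod.lift p (-q))).comp y (zero_add n) +
      (Ext.mk₀ q).comp ((Ext.mk₀ biprod.inr).comp y (zero_add n)) (zero_add n) =
      (Ext.mk₀ p).comp ((Ext.mk₀ biprod.inl).comp y (zero_add n)) (zero_add n) := by
  rw [Ext.mk₀_comp_mk₀_assoc, Ext.mk₀_comp_mk₀_assoc, ← Ext.add_comp, ← Ext.mk₀_add]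
  congr 2
  apply biprod.hom_ext <;> simp

theorem mv_abstract (hz : biprod.lift p (-q) ≫ biprod.desc α β = 0)
    (hS : (ShortComplex.mk (biprod.lift p (-q)) (biprod.desc α β) hz).ShortExact) (F : C)
    {HA HB HP : ℕ → Type w'} [∀ n, AddCommGroup (HA n)] [∀ n, AddCommGroup (HB n)]
    [∀ n, AddCommGroup (HP n)]
    (ΨA : ∀ n, Ext A F n →+ HA n) (ΨB : ∀ n, Ext B F n →+ HB n) (ΨP : ∀ n, Ext P F n →+ HP n)
    (hA : ∀ n, Function.Bijective (ΨA n)) (hB : ∀ n, Function.Bijective (ΨB n))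
    (hP : ∀ n, Function.Bijective (ΨP n))
    (rA : ∀ n, Ext Z F n →+ HA n) (rB : ∀ n, Ext Z F n →+ HB n)
    (dA : ∀ n, HA n →+ HP n) (dB : ∀ n, HB n →+ HP n)
    (hrA : ∀ n x, ΨA n ((Ext.mk₀ α).comp x (zero_add n)) = rA n x)
    (hrB : ∀ n x, ΨB n ((Ext.mk₀ β).comp x (zero_add n)) = rB n x)
    (hdA : ∀ n a, ΨP n ((Ext.mk₀ p).comp a (zero_add n)) = dA n (ΨA n a))
    (hdB : ∀ n b, ΨP n ((Ext.mk₀ q).comp b (zero_add n)) = dB n (ΨB n b)) :
    ∃ δ : ∀ n : ℕ, HP n →+ Ext Z F (n + 1),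
      (AddMonoidHom.prod (rA 0) (rB 0)).ker = ⊥ ∧
      (∀ n : ℕ, (AddMonoidHom.prod (rA (n + 1)) (rB (n + 1))).ker = (δ n).range) ∧
      (∀ n : ℕ, ((dA n).comp (AddMonoidHom.fst _ _) - (dB n).comp (AddMonoidHom.snd _ _)).ker =
        (AddMonoidHom.prod (rA n) (rB n)).range) ∧
      (∀ n : ℕ, (δ n).ker =
        ((dA n).comp (AddMonoidHom.fst _ _) - (dB n).comp (AddMonoidHom.snd _ _)).range) := by
  classical
  let eP : ∀ n, Ext P F n ≃+ HP n := fun n => AddEquiv.ofBijective (ΨP n) (hP n)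
  have eP_apply : ∀ n x, eP n x = ΨP n x := fun n x => rfl
  let δ : ∀ n, HP n →+ Ext Z F (n + 1) := fun n =>
    AddMonoidHom.mk' (fun z => hS.extClass.comp ((eP n).symm z) (add_comm 1 n))
      (fun a b => by rw [map_add, Ext.comp_add])
  have δ_apply : ∀ n z, δ n z = hS.extClass.comp ((eP n).symm z) (add_comm 1 n) :=
    fun n z => rfl
  have hpq : p ≫ α = q ≫ β := by
    have h := hz
    rw [biprod.lift_desc, Preadditive.neg_comp, ← sub_eq_add_neg, sub_eq_zero] at h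
    exact h
  -- the difference map on `Ext`
  have key2 : ∀ n (y : Ext (A ⊞ B) F n),
      ΨP n ((Ext.mk₀ (biprod.lift p (-q))).comp y (zero_add n)) =
        dA n (ΨA n ((Ext.mk₀ biprod.inl).comp y (zero_add n))) -
          dB n (ΨB n ((Ext.mk₀ biprod.inr).comp y (zero_add n))) := by
    intro n y
    rw [← hdA, ← hdB, ← lift_comp p q y, map_add, add_sub_cancel_right]
  have hker : ∀ n (x : Ext Z F n), rA n x = 0 → rB n x = 0 →
      (Ext.mk₀ (biprod.desc α β)).comp x (zero_add n) = 0 := by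
    intro n x h1 h2
    have ha : (Ext.mk₀ α).comp x (zero_add n) = 0 := (hA n).1 (by rw [hrA, h1, map_zero])
    have hb : (Ext.mk₀ β).comp x (zero_add n) = 0 := (hB n).1 (by rw [hrB, h2, map_zero])
    rw [ext_biprod_decomp ((Ext.mk₀ (biprod.desc α β)).comp x (zero_add n)), inl_desc_comp,
      inr_desc_comp, ha, hb, Ext.comp_zero, Ext.comp_zero, add_zero]
  refine ⟨δ, ?_, ?_, ?_, ?_⟩
  · rw [eq_bot_iff]
    intro x hx
    rw [AddMonoidHom.mem_ker, AddMonoidHom.prod_apply, Prod.mk_eq_zero] at hx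
    have h0 := hker 0 x hx.1 hx.2
    obtain ⟨φ, rfl⟩ := (Ext.mk₀_bijective _ _).2 x
    rw [Ext.mk₀_comp_mk₀] at h0
    have h1 : biprod.desc α β ≫ φ = 0 :=
      (Ext.mk₀_bijective _ _).1 (h0.trans (Ext.mk₀_zero _ _).symm)
    haveI : Epi (biprod.desc α β) := hS.epi_g
    have h2 : φ = 0 := by rw [← cancel_epi (biprod.desc α β), h1, comp_zero]
    rw [AddSubgroup.mem_bot, h2, Ext.mk₀_zero]
  · intro n
    ext x
    rw [AddMonoidHom.mem_ker, AddMonoidHom.prod_apply, Prod.mk_eq_zero, AddMonoidHom.mem_range]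
    constructor
    · rintro ⟨h1, h2⟩
      have h0 := hker (n + 1) x h1 h2
      obtain ⟨x₁, hx₁⟩ := Ext.contravariant_sequence_exact₃ hS F x h0 (add_comm 1 n)
      refine ⟨ΨP n x₁, ?_⟩
      rw [δ_apply, ← eP_apply, AddEquiv.symm_apply_apply]
      exact hx₁
    · rintro ⟨z, rfl⟩
      rw [δ_apply]
      have hz0 : (Ext.mk₀ (biprod.desc α β)).comp
          (hS.extClass.comp ((eP n).symm z) (add_comm 1 n)) (zero_add (n + 1)) = 0 :=
        hS.comp_extClass_assoc _ _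
      constructor
      · rw [← hrA, ← inl_desc_comp α β, hz0, Ext.comp_zero, map_zero]
      · rw [← hrB, ← inr_desc_comp α β, hz0, Ext.comp_zero, map_zero]
  · intro n
    ext ⟨a', b'⟩
    rw [AddMonoidHom.mem_ker, AddMonoidHom.mem_range]
    simp only [AddMonoidHom.sub_apply, AddMonoidHom.comp_apply, AddMonoidHom.coe_fst,
      AddMonoidHom.coe_snd]
    constructor
    · intro hd
      obtain ⟨a, rfl⟩ := (hA n).2 a'
      obtain ⟨b, rfl⟩ := (hB n).2 b'
      have hy : (Ext.mk₀ (biprod.lift p (-q))).comp ((Ext.mk₀ biprod.fst).comp a (zero_add n) +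
          (Ext.mk₀ biprod.snd).comp b (zero_add n)) (zero_add n) = 0 := by
        apply (hP n).1
        rw [map_zero, key2, inl_comp_mk, inr_comp_mk]
        exact hd
      obtain ⟨x, hx⟩ := Ext.contravariant_sequence_exact₂ hS F _ hy
      refine ⟨x, ?_⟩
      have hx' : (Ext.mk₀ (biprod.desc α β)).comp x (zero_add n) =
          (Ext.mk₀ biprod.fst).comp a (zero_add n) + (Ext.mk₀ biprod.snd).comp b (zero_add n) := hx
      rw [AddMonoidHom.prod_apply, ← hrA, ← hrB, ← inl_desc_comp α β, ← inr_desc_comp α β, hx',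
        inl_comp_mk, inr_comp_mk]
    · rintro ⟨x, hx⟩
      rw [AddMonoidHom.prod_apply, Prod.mk.injEq] at hx
      obtain ⟨rfl, rfl⟩ := hx
      rw [← hrA, ← hrB, ← hdA, ← hdB, Ext.mk₀_comp_mk₀_assoc, Ext.mk₀_comp_mk₀_assoc, hpq,
        sub_self]
  · intro n
    ext z
    rw [AddMonoidHom.mem_ker, AddMonoidHom.mem_range, δ_apply]
    constructor
    · intro h0
      obtain ⟨y, hy⟩ := Ext.contravariant_sequence_exact₁ hS F ((eP n).symm z) (add_comm 1 n) h0
      have hy' : (Ext.mk₀ (biprod.lift p (-q))).comp y (zero_add n) = (eP n).symm z := hy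
      refine ⟨(ΨA n ((Ext.mk₀ biprod.inl).comp y (zero_add n)),
        ΨB n ((Ext.mk₀ biprod.inr).comp y (zero_add n))), ?_⟩
      simp only [AddMonoidHom.sub_apply, AddMonoidHom.comp_apply, AddMonoidHom.coe_fst,
        AddMonoidHom.coe_snd]
      rw [← key2, hy', ← eP_apply, AddEquiv.apply_symm_apply]
    · rintro ⟨⟨a', b'⟩, rfl⟩
      obtain ⟨a, rfl⟩ := (hA n).2 a'
      obtain ⟨b, rfl⟩ := (hB n).2 b'
      simp only [AddMonoidHom.sub_apply, AddMonoidHom.comp_apply, AddMonoidHom.coe_fst,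
        AddMonoidHom.coe_snd]
      have h1 : (eP n).symm (dA n (ΨA n a) - dB n (ΨB n b)) =
          (Ext.mk₀ (biprod.lift p (-q))).comp ((Ext.mk₀ biprod.fst).comp a (zero_add n) +
            (Ext.mk₀ biprod.snd).comp b (zero_add n)) (zero_add n) := by
        rw [AddEquiv.symm_apply_eq, eP_apply, key2, inl_comp_mk, inr_comp_mk]
      rw [h1]
      exact hS.extClass_comp_assoc _

end Groth.Agent.Lib.MVabs_helper7
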