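import Mathlib
import Groth.Prelude.Def_EtShriek2
import Groth.Prelude.Def_EtCore
import Groth.Agent.Lib.EtMVsq_helper7
import Groth.Agent.Lib.MVabs_helper7

/-!
# The Mayer–Vietoris short exact sequence `0 → ℤ[U ∩ V] → ℤ[U] ⊕ ℤ[V] → ℤ → 0` on the small
étale site, and the Mayer–Vietoris sequence (helper7)
-/

set_option autoImplicit false
set_option backward.isDefEq.respectTransparency false
universe u
open CategoryTheory CategoryTheory.Limits AlgebraicGeometry Opposite Abelian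

namespace Groth.Agent.Lib.EtMVses_helper7

open Groth.Agent.Lib.EtFlasque_helper7 Groth.Agent.Lib.EtExtFr_helper7
  Groth.Agent.Lib.EtHpull0_helper7 Groth.Agent.Lib.EtMVsq_helper7
  Groth.Agent.Lib.EtSchSite_helper7 Groth.Agent.Lib.MVabs_helper7 EtPullExact

variable {X : Scheme.{u}}

/-- an open subscheme as an object of the small étale site -/
noncomputable abbrev EO (U : X.Opens) : X.Etale := Scheme.Etale.mk U.ι

/-- inclusions of opens as morphisms of the site -/
noncomputable abbrev oMap {U' U : X.Opens} (h : U' ≤ U) : EO U' ⟶ EO U :=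
  MorphismProperty.Over.homMk (X.homOfLE h) (X.homOfLE_ι h) trivial

theorem toTop_left (W : X.Etale) : (toTop W).left = W.hom :=
  (Category.comp_id _).symm.trans (MorphismProperty.Over.w (toTop W))

instance mono_oMap {U' U : X.Opens} (h : U' ≤ U) : Mono (oMap h) :=
  haveI : Mono (oMap h).left := inferInstanceAs (Mono (X.homOfLE h))
  mono_of_left_mono _

instance mono_toTop_EO (U : X.Opens) : Mono (toTop (EO U)) := by
  haveI : Mono (toTop (EO U)).left := by
    rw [toTop_left]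
    exact inferInstanceAs (Mono U.ι)
  exact mono_of_left_mono _

theorem factor_inf {U V : X.Opens} {Z : X.Etale} (gi : Z ⟶ EO U) (gj : Z ⟶ EO V) :
    ∃ k : Z ⟶ EO (U ⊓ V), gi = k ≫ oMap inf_le_left ∧ gj = k ≫ oMap inf_le_right := by
  have hi : gi.left ≫ U.ι = Z.hom := MorphismProperty.Over.w gi
  have hj : gj.left ≫ V.ι = Z.hom := MorphismProperty.Over.w gj
  have hr : Set.range (Z.hom : Z.left ⟶ X) ⊆ Set.range (U ⊓ V).ι := by
    rw [Scheme.Opens.range_ι]
    rintro _ ⟨z, rfl⟩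
    have hzU : (Z.hom : Z.left ⟶ X) z ∈ (U : Set X) := by
      rw [← Scheme.Opens.range_ι U]
      exact ⟨gi.left z, congrArg (fun (m : Z.left ⟶ X) => m z) hi⟩
    have hzV : (Z.hom : Z.left ⟶ X) z ∈ (V : Set X) := by
      rw [← Scheme.Opens.range_ι V]
      exact ⟨gj.left z, congrArg (fun (m : Z.left ⟶ X) => m z) hj⟩
    exact ⟨hzU, hzV⟩
  have hl : IsOpenImmersion.lift (U ⊓ V).ι (Z.hom : Z.left ⟶ X) hr ≫ (U ⊓ V).ι = Z.hom :=
    IsOpenImmersion.lift_fac _ _ _
  refine ⟨MorphismProperty.Over.homMk (IsOpenImmersion.lift (U ⊓ V).ι (Z.hom : Z.left ⟶ X) hr)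
    hl trivial, ?_, ?_⟩
  · apply MorphismProperty.Over.Hom.ext
    show gi.left = IsOpenImmersion.lift (U ⊓ V).ι (Z.hom : Z.left ⟶ X) hr ≫
      X.homOfLE inf_le_left
    rw [← cancel_mono U.ι, Category.assoc, X.homOfLE_ι, hl, hi]
  · apply MorphismProperty.Over.Hom.ext
    show gj.left = IsOpenImmersion.lift (U ⊓ V).ι (Z.hom : Z.left ⟶ X) hr ≫
      X.homOfLE inf_le_right
    rw [← cancel_mono V.ι, Category.assoc, X.homOfLE_ι, hl, hj]

section Glue

variable (U V : X.Opens) (hUV : U ⊔ V = ⊤)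

/-- the two-element family `{U, V}` -/
noncomputable abbrev fam (b : Bool) : X.Etale := cond b (EO U) (EO V)

include hUV in
theorem cover_mem : Sieve.ofArrows (fam U V) (fun b => toTop (fam U V b)) ∈
    X.smallEtaleTopology (EtCoh.top X) := by
  apply sieve_mem_of_forall_exists
  intro w
  have hw : (w : X) ∈ ((U ⊔ V : X.Opens) : Set X) := by
    rw [hUV]
    exact Set.mem_univ _
  rcases hw with hw | hw
  · refine ⟨EO U, toTop (EO U), Sieve.ofArrows_mk _ (fun b => toTop (fam U V b)) true, ?_⟩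
    rw [toTop_left]
    show w ∈ Set.range U.ι
    rw [Scheme.Opens.range_ι]
    exact hw
  · refine ⟨EO V, toTop (EO V), Sieve.ofArrows_mk _ (fun b => toTop (fam U V b)) false, ?_⟩
    rw [toTop_left]
    show w ∈ Set.range V.ι
    rw [Scheme.Opens.range_ι]
    exact hw

include hUV in
theorem sheafFor (Q : EtCoh.Ab X) :
    Presieve.IsSheafFor (Q.obj ⋙ forget AddCommGrpCat.{u + 1})
      (Presieve.ofArrows (fam U V) (fun b => toTop (fam U V b))) := by
  have hQ : Presieve.IsSheaf X.smallEtaleTopology (Q.obj ⋙ forget AddCommGrpCat.{u + 1}) :=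
    (isSheaf_iff_isSheaf_of_type _ _).1
      ((Presheaf.isSheaf_iff_isSheaf_forget _ Q.obj (forget AddCommGrpCat.{u + 1})).1 Q.2)
  exact (Presieve.isSheafFor_iff_generate _).2 (hQ _ (cover_mem U V hUV))

include hUV in
theorem glue_UV (Q : EtCoh.Ab X) (s : Q.obj.obj (op (EO U))) (t : Q.obj.obj (op (EO V)))
    (h : Q.obj.map (oMap (inf_le_left : U ⊓ V ≤ U)).op s =
      Q.obj.map (oMap (inf_le_right : U ⊓ V ≤ V)).op t) :
    ∃ r : Q.obj.obj (op (EtCoh.top X)),
      Q.obj.map (toTop (EO U)).op r = s ∧ Q.obj.map (toTop (EO V)).op r = t := by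
  have hsh := sheafFor U V hUV Q
  rw [Presieve.isSheafFor_arrows_iff] at hsh
  have hcross : ∀ (Z : X.Etale) (gi : Z ⟶ EO U) (gj : Z ⟶ EO V),
      Q.obj.map gi.op s = Q.obj.map gj.op t := by
    intro Z gi gj
    obtain ⟨k, rfl, rfl⟩ := factor_inf gi gj
    rw [map_comp_apply, map_comp_apply, h]
  obtain ⟨r, hr, -⟩ := hsh
    (fun b => match b with
      | true => s
      | false => t) (by
    rintro (_ | _) (_ | _) Z gi gj hij
    · have : gi = gj := (cancel_mono (toTop (EO V))).1 hij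
      rw [this]
    · exact (hcross Z gj gi).symm
    · exact hcross Z gi gj
    · have : gi = gj := (cancel_mono (toTop (EO U))).1 hij
      rw [this])
  exact ⟨r, hr true, hr false⟩

include hUV in
theorem sep_UV (Q : EtCoh.Ab X) (r r' : Q.obj.obj (op (EtCoh.top X)))
    (hU : Q.obj.map (toTop (EO U)).op r = Q.obj.map (toTop (EO U)).op r')
    (hV : Q.obj.map (toTop (EO V)).op r = Q.obj.map (toTop (EO V)).op r') : r = r' := by
  have hsh := sheafFor U V hUV Q
  refine hsh.isSeparatedFor.ext ?_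
  rintro Y f ⟨b⟩
  cases b
  · exact hV
  · exact hU

end Glue

section SES

variable (U V : X.Opens)

noncomputable abbrev pU : fr (EO (U ⊓ V)) ⟶ fr (EO U) := frMap (oMap inf_le_left)
noncomputable abbrev qV : fr (EO (U ⊓ V)) ⟶ fr (EO V) := frMap (oMap inf_le_right)

theorem mv_zero :
    biprod.lift (pU U V) (-(qV U V)) ≫ biprod.desc (aW (EO U)) (aW (EO V)) = 0 := by
  rw [biprod.lift_desc, Preadditive.neg_comp, frMap_comp_aW, frMap_comp_aW, add_neg_cancel]

variable (hUV : U ⊔ V = ⊤)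

include hUV in
theorem mv_shortExact :
    (ShortComplex.mk (biprod.lift (pU U V) (-(qV U V))) (biprod.desc (aW (EO U)) (aW (EO V)))
      (mv_zero U V)).ShortExact := by
  haveI : Mono (pU U V) := mono_frMap _
  haveI hmono : Mono (biprod.lift (pU U V) (-(qV U V))) :=
    mono_of_mono_fac (biprod.lift_fst _ _)
  have hepi_aux : ∀ (G : EtCoh.Ab X) (φ : EtCoh.const X ℤ ⟶ G),
      aW (EO U) ≫ φ = 0 → aW (EO V) ≫ φ = 0 → φ = 0 := by
    intro G φ h1 h2
    apply (Γhom G).injective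
    apply sep_UV U V hUV G
    · rw [← frEquiv_aW_comp, ← frEquiv_aW_comp, h1, comp_zero]
    · rw [← frEquiv_aW_comp, ← frEquiv_aW_comp, h2, comp_zero]
  haveI hepi : Epi (biprod.desc (aW (EO U)) (aW (EO V))) := by
    apply Preadditive.epi_of_cancel_zero
    intro G φ h
    apply hepi_aux G φ
    · rw [← biprod.inl_desc (aW (EO U)) (aW (EO V)), Category.assoc, h, comp_zero]
    · rw [← biprod.inr_desc (aW (EO U)) (aW (EO V)), Category.assoc, h, comp_zero]
  have hex : ∀ {G : EtCoh.Ab X} (ι' : fr (EO U) ⊞ fr (EO V) ⟶ G),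
      biprod.lift (pU U V) (-(qV U V)) ≫ ι' = 0 →
      ∃ ψ : EtCoh.const X ℤ ⟶ G, biprod.desc (aW (EO U)) (aW (EO V)) ≫ ψ = ι' := by
    intro G ι' h0
    have hpq : pU U V ≫ biprod.inl ≫ ι' = qV U V ≫ biprod.inr ≫ ι' := by
      have h := h0
      rw [biprod.lift_eq, Preadditive.add_comp, Preadditive.neg_comp, Preadditive.neg_comp,
        ← sub_eq_add_neg, sub_eq_zero, Category.assoc, Category.assoc] at h
      exact h
    obtain ⟨r, hr1, hr2⟩ := glue_UV U V hUV G (frEquiv (EO U) G (biprod.inl ≫ ι'))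
      (frEquiv (EO V) G (biprod.inr ≫ ι')) (by
        rw [← frEquiv_map, ← frEquiv_map]
        exact congrArg _ hpq)
    refine ⟨(Γhom G).symm r, ?_⟩
    apply biprod.hom_ext'
    · rw [biprod.inl_desc_assoc]
      apply (frEquiv (EO U) G).injective
      rw [frEquiv_aW_comp, Equiv.apply_symm_apply, hr1]
    · rw [biprod.inr_desc_assoc]
      apply (frEquiv (EO V) G).injective
      rw [frEquiv_aW_comp, Equiv.apply_symm_apply, hr2]
  have hcok : IsColimit (CokernelCofork.ofπ (biprod.desc (aW (EO U)) (aW (EO V)))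
      (mv_zero U V)) :=
    CokernelCofork.IsColimit.ofπ _ _ (fun g' h => (hex g' h).choose)
      (fun g' h => (hex g' h).choose_spec)
      (fun g' h m hm => by
        rw [← cancel_epi (biprod.desc (aW (EO U)) (aW (EO V))), hm, (hex g' h).choose_spec])
  exact { exact := ShortComplex.exact_of_g_is_cokernel _ hcok, mono_f := hmono, epi_g := hepi }

end SES

/-- Mayer–Vietoris for étale cohomology -/
theorem mayer_vietoris (U V : X.Opens) (hUV : U ⊔ V = ⊤) (F : EtCoh.Ab X)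
    [PreservesFiniteLimits (EtCoh.pull U.ι)] [PreservesFiniteLimits (EtCoh.pull V.ι)]
    [PreservesFiniteLimits (EtCoh.pull (X.homOfLE (inf_le_left : U ⊓ V ≤ U)))]
    [PreservesFiniteLimits (EtCoh.pull (X.homOfLE (inf_le_right : U ⊓ V ≤ V)))] :
    ∃ δ : ∀ n : ℕ, EtCoh.H ↑(U ⊓ V) ((EtCoh.pull (U ⊓ V).ι).obj F) n →+ EtCoh.H X F (n + 1),
      (AddMonoidHom.prod (EtCore.Hpull U.ι F 0) (EtCore.Hpull V.ι F 0)).ker = ⊥ ∧
      (∀ n : ℕ, (AddMonoidHom.prod (EtCore.Hpull U.ι F (n + 1)) (EtCore.Hpull V.ι F (n + 1))).ker = (δ n).range) ∧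
      (∀ n : ℕ, (((EtCore.HpullVia (X.homOfLE (inf_le_left : U ⊓ V ≤ U)) U.ι (U ⊓ V).ι (X.homOfLE_ι inf_le_left) F n)).comp (AddMonoidHom.fst _ _) - ((EtCore.HpullVia (X.homOfLE (inf_le_right : U ⊓ V ≤ V)) V.ι (U ⊓ V).ι (X.homOfLE_ι inf_le_right) F n)).comp (AddMonoidHom.snd _ _)).ker =
        (AddMonoidHom.prod (EtCore.Hpull U.ι F n) (EtCore.Hpull V.ι F n)).range) ∧
      (∀ n : ℕ, (δ n).ker = (((EtCore.HpullVia (X.homOfLE (inf_le_left : U ⊓ V ≤ U)) U.ι (U ⊓ V).ι (X.homOfLE_ι inf_le_left) F n)).comp (AddMonoidHom.fst _ _) - ((EtCore.HpullVia (X.homOfLE (inf_le_right : U ⊓ V ≤ V)) V.ι (U ⊓ V).ι (X.homOfLE_ι inf_le_right) F n)).comp (AddMonoidHom.snd _ _)).range) := by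
  haveI : PreservesFiniteLimits (EtCoh.pull (EO U).hom) := pull_pfl_ab _
  haveI : PreservesFiniteLimits (EtCoh.pull (EO V).hom) := pull_pfl_ab _
  haveI : PreservesFiniteLimits (EtCoh.pull (oMap (inf_le_left : U ⊓ V ≤ U)).left) :=
    pull_pfl_ab _
  haveI : PreservesFiniteLimits (EtCoh.pull (oMap (inf_le_right : U ⊓ V ≤ V)).left) :=
    pull_pfl_ab _
  exact mv_abstract (pU U V) (qV U V) (aW (EO U)) (aW (EO V)) (mv_zero U V)
    (mv_shortExact U V hUV) F
    (fun n => ΨW (EO U) F n) (fun n => ΨW (EO V) F n) (fun n => ΨW (EO (U ⊓ V)) F n)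
    (fun n => ΨW_bijective _ F n) (fun n => ΨW_bijective _ F n) (fun n => ΨW_bijective _ F n)
    (fun n => EtCore.Hpull U.ι F n) (fun n => EtCore.Hpull V.ι F n)
    (fun n => EtCore.HpullVia (X.homOfLE (inf_le_left : U ⊓ V ≤ U)) U.ι (U ⊓ V).ι
      (X.homOfLE_ι inf_le_left) F n)
    (fun n => EtCore.HpullVia (X.homOfLE (inf_le_right : U ⊓ V ≤ V)) V.ι (U ⊓ V).ι
      (X.homOfLE_ι inf_le_right) F n)
    (fun n x => ΨW_precomp_aW (EO U) F n x) (fun n x => ΨW_precomp_aW (EO V) F n x)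
    (fun n a => ΨW_frMap (oMap (inf_le_left : U ⊓ V ≤ U)) F n a)
    (fun n b => ΨW_frMap (oMap (inf_le_right : U ⊓ V ≤ V)) F n b)

end Groth.Agent.Lib.EtMVses_helper7
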