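import Mathlib
import Groth.Prelude.Def_EtBase
import Groth.Agent.Lib.HensStalk_helper7

/-!
# Vanishing of étale cohomology on the spectrum of a strictly henselian local ring (helper7)
-/

set_option autoImplicit false
set_option backward.isDefEq.respectTransparency false
universe u v
open CategoryTheory CategoryTheory.Limits AlgebraicGeometry Opposite

namespace Groth.Agent.Lib.HensCoh_helper7

open Groth.Agent.Lib.HensStalk_helper7

/-- `X` is the terminal object of its small étale site. -/
noncomputable def isTerminalTop (X : Scheme.{u}) : IsTerminal (EtCoh.top X) :=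
  IsTerminal.ofUniqueHom
    (fun U => (MorphismProperty.Over.homMk U.hom (Category.comp_id _) trivial : U ⟶ EtCoh.top X))
    (fun U m => by
      apply MorphismProperty.Over.Hom.ext
      have h := MorphismProperty.Over.w m
      have h' : m.left ≫ 𝟙 X = U.hom := h
      exact (Category.comp_id m.left).symm.trans h')

theorem projective_Z : Projective (AddCommGrpCat.of (ULift.{v} ℤ)) := by
  refine ⟨fun {E X} f e he => ?_⟩
  have hs : Function.Surjective e := (AddCommGrpCat.epi_iff_surjective e).1 he
  obtain ⟨a, ha⟩ := hs ((AddCommGrpCat.uliftZMultiplesAddEquiv X) f)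
  refine ⟨(AddCommGrpCat.uliftZMultiplesAddEquiv E).symm a, ?_⟩
  apply (AddCommGrpCat.uliftZMultiplesAddEquiv X).injective
  have nat : ∀ g : AddCommGrpCat.of (ULift.{v} ℤ) ⟶ E,
      (AddCommGrpCat.uliftZMultiplesAddEquiv X) (g ≫ e) =
        e ((AddCommGrpCat.uliftZMultiplesAddEquiv E) g) := by
    intro g
    rfl
  rw [nat, AddEquiv.apply_symm_apply, ha]

variable (R : Type u) [CommRing R] [HenselianLocalRing R]
  [IsSepClosed (IsLocalRing.ResidueField R)]

theorem sections_surjective_of_epi {F G : EtCoh.Ab (Spec (CommRingCat.of R))} (π : F ⟶ G)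
    [Epi π] : Function.Surjective (π.hom.app (op (EtCoh.top (Spec (CommRingCat.of R))))) := by
  haveI : Sheaf.IsLocallySurjective π := (Sheaf.isLocallySurjective_iff_epi' AddCommGrpCat.{u+1} π).2 inferInstance
  intro t
  obtain ⟨σ, hσ⟩ := (Scheme.pointSmallEtale (clPt R)).toPresheafFiber_map_surjective π.hom
    ((Scheme.pointSmallEtale (clPt R)).toPresheafFiber _ (clLift R) G.obj t)
  obtain ⟨s, rfl⟩ := (bijective_toStalk R F).2 σ
  refine ⟨s, (bijective_toStalk R G).1 ?_⟩
  rw [← hσ]
  exact ((Scheme.pointSmallEtale (clPt R)).toPresheafFiber_naturality_apply π.hom _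
    (clLift R) s).symm

theorem subsingleton_H (F : EtCoh.Ab (Spec (CommRingCat.of R))) (p : ℕ) (hp : 1 ≤ p) :
    Subsingleton (EtCoh.H (Spec (CommRingCat.of R)) F p) := by
  obtain ⟨n, rfl⟩ : ∃ n, p = n + 1 := ⟨p - 1, by omega⟩
  haveI : ((sheafSections (Spec (CommRingCat.of R)).smallEtaleTopology
      AddCommGrpCat.{u+1}).obj (op (EtCoh.top _))).PreservesEpimorphisms :=
    ⟨fun π hπ => (AddCommGrpCat.epi_iff_surjective _).2 (sections_surjective_of_epi R π)⟩
  haveI : Projective ((constantSheaf (Spec (CommRingCat.of R)).smallEtaleTopology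
      AddCommGrpCat.{u+1}).obj (AddCommGrpCat.of (ULift.{u+1} ℤ))) :=
    (constantSheafAdj _ _ (isTerminalTop _)).map_projective _ projective_Z
  exact Abelian.Ext.subsingleton_of_projective _ _ n

end Groth.Agent.Lib.HensCoh_helper7
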