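import Mathlib

/-!
# Spreading out for morphisms locally of finite presentation (helper7)

The `TODO` of `Mathlib/AlgebraicGeometry/SpreadingOut.lean`: when `Y` is locally of finite
presentation over `S` no condition on `X` is needed.
-/

universe u
open CategoryTheory AlgebraicGeometry TopologicalSpace Opposite

namespace Groth.Agent.Lib.SpreadOutFPH7

theorem res_res {X : Scheme.{u}} {U V W : X.Opens} (h₁ : V ≤ U) (h₂ : W ≤ V) (s : Γ(X, U)) :
    X.presheaf.map (homOfLE h₂).op (X.presheaf.map (homOfLE h₁).op s) =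
      X.presheaf.map (homOfLE (h₂.trans h₁)).op s := by
  rw [← ConcreteCategory.comp_apply, ← Functor.map_comp]; rfl

theorem exists_lift_of_finitePresentation {X : Scheme.{u}} {R A : CommRingCat.{u}} {x : X}
    {U : X.Opens} (hxU : x ∈ U)
    (φ : A ⟶ X.presheaf.stalk x) (φRA : R ⟶ A) (φRX : R ⟶ Γ(X, U))
    (hφRA : RingHom.FinitePresentation φRA.hom)
    (e : φRA ≫ φ = φRX ≫ X.presheaf.germ U x hxU) :
    ∃ (V : X.Opens) (hxV : x ∈ V) (φ' : A ⟶ Γ(X, V)) (i : V ≤ U), IsAffineOpen V ∧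
      φ = φ' ≫ X.presheaf.germ V x hxV ∧ φRX ≫ X.presheaf.map i.hom.op = φRA ≫ φ' := by
  letI := φRA.hom.toAlgebra
  have hfp : Algebra.FinitePresentation R A := hφRA
  obtain ⟨n, f, hfsurj, s, hs⟩ := hfp.out
  choose W hxW a ha using fun i : Fin n =>
    X.presheaf.exists_germ_eq (φ (f (MvPolynomial.X i)))
  let W₀ : X.Opens := (Finset.univ.inf W) ⊓ U
  have hxW₀ : x ∈ W₀ := by
    refine ⟨?_, hxU⟩
    rw [TopologicalSpace.Opens.coe_finset_inf]
    simpa using fun i => hxW i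
  have hW₀W : ∀ i, W₀ ≤ W i := fun i => inf_le_left.trans (Finset.inf_le (Finset.mem_univ i))
  have hW₀U : W₀ ≤ U := inf_le_right
  let a₀ : Fin n → Γ(X, W₀) := fun i => X.presheaf.map (homOfLE (hW₀W i)).op (a i)
  letI : Algebra R Γ(X, W₀) := (φRX ≫ X.presheaf.map (homOfLE hW₀U).op).hom.toAlgebra
  let g : MvPolynomial (Fin n) R →ₐ[R] Γ(X, W₀) := MvPolynomial.aeval a₀
  have hgC : ∀ r : R, g (MvPolynomial.C r) = X.presheaf.map (homOfLE hW₀U).op (φRX r) := by
    intro r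
    rw [← MvPolynomial.algebraMap_eq, AlgHom.commutes]; rfl
  have hfC : ∀ r : R, f (MvPolynomial.C r) = φRA r := by
    intro r
    rw [← MvPolynomial.algebraMap_eq, AlgHom.commutes]; rfl
  have hg : ∀ p, X.presheaf.germ W₀ x hxW₀ (g p) = φ (f p) := by
    intro p
    induction p using MvPolynomial.induction_on with
    | C r =>
      rw [hgC, hfC, TopCat.Presheaf.germ_res_apply]
      exact (congr($e r)).symm
    | add p q hp hq => rw [map_add, map_add, map_add, map_add, hp, hq]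
    | mul_X p i hp =>
      rw [map_mul, map_mul, map_mul, map_mul, hp]
      congr 1
      show X.presheaf.germ W₀ x hxW₀ (MvPolynomial.aeval a₀ (MvPolynomial.X i)) = _
      rw [MvPolynomial.aeval_X, TopCat.Presheaf.germ_res_apply]
      exact ha i
  have hker : ∀ p ∈ s, ∃ (W' : X.Opens) (_ : x ∈ W') (i : W' ≤ W₀),
      X.presheaf.map (homOfLE i).op (g p) = 0 := by
    intro p hp
    have hp' : f p = 0 := by
      have : p ∈ RingHom.ker f.toRingHom := hs ▸ Ideal.subset_span hp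
      exact this
    have h0 : X.presheaf.germ W₀ x hxW₀ (g p) = X.presheaf.germ W₀ x hxW₀ 0 := by
      rw [hg, hp', map_zero, map_zero]
    obtain ⟨W', hxW', iU, iV, h⟩ := X.presheaf.germ_eq x hxW₀ hxW₀ _ _ h0
    refine ⟨W', hxW', iU.le, ?_⟩
    rw [map_zero] at h
    exact h
  choose! W' hxW' iW' hW' using hker
  let W₁ : X.Opens := s.inf W' ⊓ W₀
  have hxW₁ : x ∈ W₁ := by
    refine ⟨?_, hxW₀⟩
    rw [TopologicalSpace.Opens.coe_finset_inf]
    simpa using fun p hp => hxW' p hp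
  obtain ⟨_, ⟨V, hV, rfl⟩, hxV, hVW₁⟩ :=
    X.isBasis_affineOpens.exists_subset_of_mem_open hxW₁ W₁.2
  have hVW₁' : V ≤ W₁ := hVW₁
  have hVW₀ : V ≤ W₀ := hVW₁'.trans inf_le_right
  let G : MvPolynomial (Fin n) R →+* Γ(X, V) :=
    (X.presheaf.map (homOfLE hVW₀).op).hom.comp g.toRingHom
  have hG : RingHom.ker f.toRingHom ≤ RingHom.ker G := by
    rw [← hs, Ideal.span_le]
    intro p hp
    have hVW' : V ≤ W' p := hVW₁'.trans (inf_le_left.trans (Finset.inf_le hp))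
    show G p = 0
    have h1 := res_res (iW' p hp) hVW' (g p)
    rw [hW' p hp, map_zero] at h1
    exact h1.symm
  let φ'' : A →+* Γ(X, V) := RingHom.liftOfSurjective f.toRingHom hfsurj ⟨G, hG⟩
  have hφ'' : ∀ p, φ'' (f p) = G p := fun p =>
    RingHom.liftOfSurjective_comp_apply f.toRingHom hfsurj ⟨G, hG⟩ p
  refine ⟨V, hxV, CommRingCat.ofHom φ'', hVW₀.trans hW₀U, hV, ?_, ?_⟩
  · ext a
    obtain ⟨p, rfl⟩ := hfsurj a
    show φ (f p) = X.presheaf.germ V x hxV (φ'' (f p))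
    rw [hφ'', ← hg p]
    show _ = X.presheaf.germ V x hxV (X.presheaf.map (homOfLE hVW₀).op (g p))
    rw [TopCat.Presheaf.germ_res_apply]
  · ext r
    show X.presheaf.map (homOfLE _).op (φRX r) = φ'' (φRA r)
    rw [← hfC, hφ'']
    show _ = X.presheaf.map (homOfLE hVW₀).op (g (MvPolynomial.C r))
    rw [hgC, res_res]

set_option backward.isDefEq.respectTransparency.types false in
theorem spread_out_of_locallyOfFinitePresentation {X Y S : Scheme.{u}} (sX : X ⟶ S) (sY : Y ⟶ S)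
    [LocallyOfFinitePresentation sY] {x : X} {y : Y}
    (e : sX x = sY y) (φ : Y.presheaf.stalk y ⟶ X.presheaf.stalk x)
    (h : sY.stalkMap y ≫ φ =
      S.presheaf.stalkSpecializes (Inseparable.of_eq e).specializes ≫ sX.stalkMap x) :
    ∃ (U : X.Opens) (hxU : x ∈ U) (f : U.toScheme ⟶ Y),
      Spec.map φ ≫ Y.fromSpecStalk y = U.fromSpecStalkOfMem x hxU ≫ f ∧
      f ≫ sY = U.ι ≫ sX := by
  obtain ⟨_, ⟨U, hU, rfl⟩, hxU, -⟩ :=
    S.isBasis_affineOpens.exists_subset_of_mem_open (Set.mem_univ (sX x)) isOpen_univ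
  have hyU : sY y ∈ U := e ▸ hxU
  obtain ⟨_, ⟨V : Y.Opens, hV, rfl⟩, hyV, iVU⟩ :=
    Y.isBasis_affineOpens.exists_subset_of_mem_open hyU (sY ⁻¹ᵁ U).2
  have : sY.appLE U V iVU ≫ Y.presheaf.germ V y hyV ≫ φ =
      sX.app U ≫ X.presheaf.germ (sX ⁻¹ᵁ U) x hxU := by
    rw [Scheme.Hom.appLE, Category.assoc, Y.presheaf.germ_res_assoc,
      ← Scheme.Hom.germ_stalkMap_assoc, h]
    simp
  obtain ⟨W, hxW, φ', i, hW, h₁, h₂⟩ :=
    exists_lift_of_finitePresentation (R := Γ(S, U)) (A := Γ(Y, V)) (U := sX ⁻¹ᵁ U) (x := x) hxU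
    (Y.presheaf.germ _ y hyV ≫ φ) (sY.appLE U V iVU) (sX.app U)
    (sY.finitePresentation_appLE hU hV _) this
  refine ⟨W, hxW, W.toSpecΓ ≫ Spec.map φ' ≫ hV.fromSpec, ?_, ?_⟩
  · rw [W.fromSpecStalkOfMem_toSpecΓ_assoc x hxW, ← Spec.map_comp_assoc, ← h₁,
      Spec.map_comp, Category.assoc, ← IsAffineOpen.fromSpecStalk,
      IsAffineOpen.fromSpecStalk_eq_fromSpecStalk]
  · simp only [Category.assoc]
    rw [← IsAffineOpen.SpecMap_appLE_fromSpec sY hU hV iVU, ← Spec.map_comp_assoc, ← h₂,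
      ← Scheme.Hom.appLE, ← hW.isoSpec_hom, IsAffineOpen.SpecMap_appLE_fromSpec sX hU hW i,
      ← Iso.eq_inv_comp, IsAffineOpen.isoSpec_inv_ι_assoc]

end Groth.Agent.Lib.SpreadOutFPH7
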