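import Mathlib
import Groth.Prelude.Def_EtBase
import Groth.Prelude.Def_EtCore
import Groth.Agent.Lib.HensCoh_helper7
import Groth.Agent.Lib.SpreadOutFP_helper7
import Groth.Agent.Lib.EtMVses_helper7

/-!
# Étale cohomology of zero-dimensional affine schemes with separably closed residue fields
(helper7)

On an affine scheme all of whose points are closed and whose residue fields are separably closed,
global sections is an exact functor on abelian étale sheaves, hence higher cohomology vanishes.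
-/

set_option autoImplicit false
set_option backward.isDefEq.respectTransparency false
universe u
open CategoryTheory CategoryTheory.Limits AlgebraicGeometry Opposite

namespace Groth.Agent.Lib.EtZeroDim_helper7

open Groth.Agent.Lib.HensStalk_helper7 Groth.Agent.Lib.EtSchSite_helper7
  Groth.Agent.Lib.EtFlasque_helper7 Groth.Agent.Lib.EtHpull0_helper7
  Groth.Agent.Lib.EtMVses_helper7 Groth.Agent.Lib.SpreadOutFPH7

section Ring

/-- A local ring whose maximal ideal is nil is henselian. -/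
theorem henselian_of_nil (R : Type u) [CommRing R] [IsLocalRing R]
    (h : ∀ a ∈ IsLocalRing.maximalIdeal R, IsNilpotent a) : HenselianLocalRing R where
  is_henselian f _ a₀ h₁ h₂ := by
    have hn : IsNilpotent (Polynomial.aeval a₀ f) := h _ h₁
    have hu : IsUnit (Polynomial.aeval a₀ (Polynomial.derivative f)) := h₂
    obtain ⟨r, ⟨hr1, hr2⟩, -⟩ := Polynomial.existsUnique_nilpotent_sub_and_aeval_eq_zero hn hu
    refine ⟨r, hr2, ?_⟩
    have hnil : IsNilpotent (r - a₀) := by
      rw [← neg_sub, isNilpotent_neg_iff]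
      exact hr1
    exact nilradical_le_prime (IsLocalRing.maximalIdeal R) (mem_nilradical.2 hnil)

end Ring

section Top

variable {S : Scheme.{u}}

theorem maximalIdeal_nil (h1 : ∀ s : S, IsClosed ({s} : Set S)) (x : S)
    (a : S.presheaf.stalk x) (ha : a ∈ IsLocalRing.maximalIdeal (S.presheaf.stalk x)) :
    IsNilpotent a := by
  haveI : T1Space S := ⟨h1⟩
  rw [← mem_nilradical, nilradical_eq_sInf, Ideal.mem_sInf]
  intro J hJ
  have hJp : J.IsPrime := hJ
  let p : Spec (S.presheaf.stalk x) := (⟨J, hJp⟩ : PrimeSpectrum (S.presheaf.stalk x))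
  have hp : S.fromSpecStalk x p ⤳ x := by
    have : S.fromSpecStalk x p ∈ Set.range (S.fromSpecStalk x) := Set.mem_range_self p
    rw [Scheme.range_fromSpecStalk] at this
    exact this
  have hpx : S.fromSpecStalk x p = x := hp.eq
  have hcl : S.fromSpecStalk x (IsLocalRing.closedPoint (S.presheaf.stalk x)) = x :=
    Scheme.fromSpecStalk_closedPoint
  have hinj : Function.Injective (S.fromSpecStalk x) :=
    (S.fromSpecStalk x).isEmbedding.injective
  have hpc : p = IsLocalRing.closedPoint (S.presheaf.stalk x) := hinj (hpx.trans hcl.symm)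
  have hJ' : J = IsLocalRing.maximalIdeal (S.presheaf.stalk x) :=
    congrArg PrimeSpectrum.asIdeal hpc
  rw [hJ']
  exact ha

theorem isClosed_basicOpen (h1 : ∀ s : S, IsClosed ({s} : Set S)) (f : Γ(S, ⊤)) :
    IsClosed ((S.basicOpen f : S.Opens) : Set S) := by
  rw [← isOpen_compl_iff, isOpen_iff_forall_mem_open]
  intro y hy
  have hy' : ¬ (y ∈ S.basicOpen f) := hy
  rw [Scheme.mem_basicOpen_top] at hy'
  have hmem : S.presheaf.germ ⊤ y trivial f ∈ IsLocalRing.maximalIdeal (S.presheaf.stalk y) :=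
    (IsLocalRing.mem_maximalIdeal _).2 hy'
  obtain ⟨n, hn⟩ := maximalIdeal_nil h1 y _ hmem
  have hgerm : S.presheaf.germ ⊤ y trivial (f ^ n) = S.presheaf.germ ⊤ y trivial 0 := by
    rw [map_pow, hn, map_zero]
  obtain ⟨W, hyW, iU, iV, hW⟩ := TopCat.Presheaf.germ_eq S.presheaf (U := ⊤) (V := ⊤) y trivial trivial _ _ hgerm
  refine ⟨(W : Set S), ?_, W.2, hyW⟩
  intro z hzW hzf
  have hzf' : IsUnit (S.presheaf.germ ⊤ z trivial f) := (S.mem_basicOpen_top f z).1 hzf
  have h0 : S.presheaf.germ ⊤ z trivial (f ^ n) = 0 := by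
    have e1 : S.presheaf.germ ⊤ z trivial (f ^ n) =
        S.presheaf.germ W z hzW (S.presheaf.map iU.op (f ^ n)) :=
      (TopCat.Presheaf.germ_res_apply S.presheaf iU z hzW (f ^ n)).symm
    rw [e1, hW, TopCat.Presheaf.germ_res_apply, map_zero]
  rw [map_pow] at h0
  exact not_isUnit_zero (h0 ▸ hzf'.pow n)

theorem exists_clopen_nhd [IsAffine S] (h1 : ∀ s : S, IsClosed ({s} : Set S)) (x : S)
    (W : S.Opens) (hx : x ∈ W) :
    ∃ C : S.Opens, IsClosed (C : Set S) ∧ x ∈ C ∧ C ≤ W := by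
  obtain ⟨_, ⟨f, rfl⟩, hxf, hfW⟩ :=
    (TopologicalSpace.Opens.isBasis_iff_nbhd.1 (isBasis_basicOpen S)) hx
  exact ⟨S.basicOpen f, isClosed_basicOpen h1 f, hxf, hfW⟩

end Top

section SpreadOut

set_option backward.isDefEq.respectTransparency.types false in
theorem spread_out_of_locallyOfFinitePresentation' {X Y S : Scheme.{u}} (sX : X ⟶ S)
    (sY : Y ⟶ S) [LocallyOfFinitePresentation sY] {x : X}
    (φ : Spec (X.presheaf.stalk x) ⟶ Y) (h : φ ≫ sY = X.fromSpecStalk x ≫ sX) :
    ∃ (U : X.Opens) (hxU : x ∈ U) (f : U.toScheme ⟶ Y),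
      φ = U.fromSpecStalkOfMem x hxU ≫ f ∧ f ≫ sY = U.ι ≫ sX := by
  have := spread_out_of_locallyOfFinitePresentation sX sY ?_ (Scheme.stalkClosedPointTo φ) ?_
  · simpa only [Scheme.Spec_stalkClosedPointTo_fromSpecStalk] using this
  · rw [← Scheme.Hom.comp_apply, h, Scheme.Hom.comp_apply, Scheme.fromSpecStalk_closedPoint]
  · apply Spec.map_injective
    rw [← cancel_mono (S.fromSpecStalk _)]
    simpa only [Spec.map_comp, Category.assoc, Scheme.SpecMap_stalkMap_fromSpecStalk,
      Scheme.Spec_stalkClosedPointTo_fromSpecStalk_assoc,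
      Scheme.SpecMap_stalkSpecializes_fromSpecStalk]

end SpreadOut

section Sheaf

variable {S : Scheme.{u}}

theorem exists_of_mem {W : S.Etale} (R : Sieve W) (hR : R ∈ S.smallEtaleTopology W)
    (w : W.left) : ∃ (V : S.Etale) (f : V ⟶ W), R f ∧ w ∈ Set.range f.left := by
  obtain ⟨α, T, f, rfl⟩ := R.exists_eq_ofArrows
  rw [Scheme.ofArrows_mem_smallEtaleTopology_iff] at hR
  have hw : w ∈ ⋃ i, Set.range (f i).left := by rw [hR]; exact Set.mem_univ w
  obtain ⟨i, hi⟩ := Set.mem_iUnion.1 hw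
  exact ⟨T i, f i, Sieve.ofArrows_mk _ _ i, hi⟩

theorem subsingleton_of_isEmpty (Q : EtCoh.Ab S) (Z : S.Etale) [IsEmpty Z.left] :
    Subsingleton (Q.obj.obj (op Z)) := by
  have hQ : Presieve.IsSheaf S.smallEtaleTopology (Q.obj ⋙ forget AddCommGrpCat.{u + 1}) :=
    (isSheaf_iff_isSheaf_of_type _ _).1
      ((Presheaf.isSheaf_iff_isSheaf_forget _ Q.obj (forget AddCommGrpCat.{u + 1})).1 Q.2)
  have hbot : (⊥ : Sieve Z) ∈ S.smallEtaleTopology Z :=
    sieve_mem_of_forall_exists ⊥ (fun w => (IsEmpty.false w).elim)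
  refine ⟨fun a b => ?_⟩
  exact (hQ _ hbot).isSeparatedFor.ext (fun Y f hf => by cases hf)

theorem isEmpty_of_disjoint {U V : S.Opens} {Z : S.Etale} (gi : Z ⟶ EO U) (gj : Z ⟶ EO V)
    (hd : U ⊓ V = ⊥) : IsEmpty Z.left := by
  obtain ⟨k, -, -⟩ := factor_inf gi gj
  refine ⟨fun z => ?_⟩
  obtain ⟨x, hx⟩ : ∃ x : S, x ∈ ((U ⊓ V : S.Opens) : Set S) :=
    ⟨_, by rw [← Scheme.Opens.range_ι]; exact Set.mem_range_self (k.left z)⟩
  rw [hd] at hx
  exact absurd hx (by simp)

theorem isEmpty_EO_bot : IsEmpty (EO (⊥ : S.Opens)).left := by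
  refine ⟨fun z => ?_⟩
  obtain ⟨x, hx⟩ : ∃ x : S, x ∈ ((⊥ : S.Opens) : Set S) :=
    ⟨_, by rw [← Scheme.Opens.range_ι]; exact Set.mem_range_self z⟩
  exact absurd hx (by simp)

section GlueFam

variable {ι : Type} (W : ι → S.Opens) (T : S.Opens) (hle : ∀ k, W k ≤ T)
  (hcov : T ≤ ⨆ k, W k)

include hcov in
theorem fam_cover_mem : Sieve.ofArrows (fun k => EO (W k)) (fun k => oMap (hle k)) ∈
    S.smallEtaleTopology (EO T) := by
  apply sieve_mem_of_forall_exists
  intro w
  have hw : T.ι w ∈ T := by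
    have := Set.mem_range_self (f := T.ι) w
    rw [Scheme.Opens.range_ι] at this
    exact this
  obtain ⟨k, hk⟩ := TopologicalSpace.Opens.mem_iSup.1 (hcov hw)
  have hk' : T.ι w ∈ Set.range (W k).ι := by
    rw [Scheme.Opens.range_ι]
    exact hk
  obtain ⟨y, hy⟩ := hk'
  refine ⟨EO (W k), oMap (hle k), Sieve.ofArrows_mk _ _ k, y, ?_⟩
  apply T.ι.isEmbedding.injective
  exact (congrArg (fun (m : (W k).toScheme ⟶ S) => m y) (S.homOfLE_ι (hle k))).trans hy

include hcov in
theorem fam_sheafFor (Q : EtCoh.Ab S) :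
    Presieve.IsSheafFor (Q.obj ⋙ forget AddCommGrpCat.{u + 1})
      (Presieve.ofArrows (fun k => EO (W k)) (fun k => oMap (hle k))) := by
  have hQ : Presieve.IsSheaf S.smallEtaleTopology (Q.obj ⋙ forget AddCommGrpCat.{u + 1}) :=
    (isSheaf_iff_isSheaf_of_type _ _).1
      ((Presheaf.isSheaf_iff_isSheaf_forget _ Q.obj (forget AddCommGrpCat.{u + 1})).1 Q.2)
  exact (Presieve.isSheafFor_iff_generate _).2 (hQ _ (fam_cover_mem W T hle hcov))

include hcov in
theorem glue_fam (hd : ∀ k l, k ≠ l → W k ⊓ W l = ⊥) (Q : EtCoh.Ab S)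
    (s : ∀ k, Q.obj.obj (op (EO (W k)))) :
    ∃ r : Q.obj.obj (op (EO T)), ∀ k, Q.obj.map (oMap (hle k)).op r = s k := by
  have hsh := fam_sheafFor W T hle hcov Q
  rw [Presieve.isSheafFor_arrows_iff] at hsh
  obtain ⟨r, hr, -⟩ := hsh s (by
    intro k l Z gi gj hij
    by_cases hkl : k = l
    · subst hkl
      have : gi = gj := (cancel_mono (oMap (hle k))).1 hij
      rw [this]
    · haveI : IsEmpty Z.left := isEmpty_of_disjoint gi gj (hd k l hkl)
      exact (subsingleton_of_isEmpty Q Z).elim _ _)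
  exact ⟨r, hr⟩

include hcov in
theorem sep_fam (Q : EtCoh.Ab S) (r r' : Q.obj.obj (op (EO T)))
    (h : ∀ k, Q.obj.map (oMap (hle k)).op r = Q.obj.map (oMap (hle k)).op r') : r = r' := by
  have hsh := fam_sheafFor W T hle hcov Q
  refine hsh.isSeparatedFor.ext ?_
  rintro Y f ⟨k⟩
  exact h k

end GlueFam

end Sheaf

section Main

variable {S : Scheme.{u}}

section Good

variable {F G : EtCoh.Ab S} (π : F ⟶ G) (t : G.obj.obj (op (EtCoh.top S)))

/-- the section `t` of `G` lifts along `π` over `T` -/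
def Good (T : S.Etale) : Prop :=
  ∃ s : F.obj.obj (op T), π.hom.app (op T) s = G.obj.map (toTop T).op t

theorem Good.of_hom {T T' : S.Etale} (k : T' ⟶ T) (h : Good π t T) : Good π t T' := by
  obtain ⟨s, hs⟩ := h
  refine ⟨F.obj.map k.op s, ?_⟩
  have e : k ≫ toTop T = toTop T' := (EtCore.topIsTerminal S).hom_ext _ _
  calc π.hom.app (op T') (F.obj.map k.op s)
      = G.obj.map k.op (π.hom.app (op T) s) := app_map_apply π k s
    _ = G.obj.map k.op (G.obj.map (toTop T).op t) := by rw [hs]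
    _ = G.obj.map (k ≫ toTop T).op t := (map_comp_apply G k (toTop T) t).symm
    _ = G.obj.map (toTop T').op t := by rw [e]

theorem good_glue {ι : Type} (W : ι → S.Opens) (T : S.Opens) (hle : ∀ k, W k ≤ T)
    (hcov : T ≤ ⨆ k, W k) (hd : ∀ k l, k ≠ l → W k ⊓ W l = ⊥)
    (hg : ∀ k, Good π t (EO (W k))) : Good π t (EO T) := by
  choose s hs using hg
  obtain ⟨r, hr⟩ := glue_fam W T hle hcov hd F s
  refine ⟨r, ?_⟩
  apply sep_fam W T hle hcov G
  intro k
  have e : oMap (hle k) ≫ toTop (EO T) = toTop (EO (W k)) :=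
    (EtCore.topIsTerminal S).hom_ext _ _
  calc G.obj.map (oMap (hle k)).op (π.hom.app (op (EO T)) r)
      = π.hom.app (op (EO (W k))) (F.obj.map (oMap (hle k)).op r) :=
        (app_map_apply π (oMap (hle k)) r).symm
    _ = π.hom.app (op (EO (W k))) (s k) := by rw [hr k]
    _ = G.obj.map (toTop (EO (W k))).op t := hs k
    _ = G.obj.map (oMap (hle k) ≫ toTop (EO T)).op t := by rw [e]
    _ = G.obj.map (oMap (hle k)).op (G.obj.map (toTop (EO T)).op t) :=
        map_comp_apply G _ _ t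

end Good

/-- Around every point in the image of an étale `U → S`, there is a Zariski-local section. -/
theorem exists_open_hom (h1 : ∀ s : S, IsClosed ({s} : Set S))
    (h2 : ∀ s : S, IsSepClosed (S.residueField s)) (U : S.Etale) (u : U.left) :
    ∃ W : S.Opens, U.hom u ∈ W ∧ Nonempty (EO W ⟶ U) := by
  generalize hx : U.hom u = x
  haveI : HenselianLocalRing (S.presheaf.stalk x) :=
    henselian_of_nil _ (maximalIdeal_nil h1 x)
  haveI : IsSepClosed (IsLocalRing.ResidueField (S.presheaf.stalk x)) := h2 x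
  haveI : Etale U.hom := U.prop
  let s : Spec (CommRingCat.of (IsLocalRing.ResidueField (S.presheaf.stalk x))) ⟶ S :=
    S.fromSpecResidueField x
  have hs₀ : s default = x := Scheme.fromSpecResidueField_apply x default
  obtain ⟨t, -⟩ := Scheme.pointSmallEtaleFiberObjToPreimage_surjective s hs₀ U ⟨u, hx⟩
  have ht : t.left ≫ U.hom = s := Over.w t
  haveI : Etale (pullback.snd U.hom (S.fromSpecStalk x)) :=
    MorphismProperty.pullback_snd _ _ U.prop
  have hcl : s = clPt (S.presheaf.stalk x) ≫ S.fromSpecStalk x := rfl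
  obtain ⟨sec, hsec1, -⟩ := exists_section (S.presheaf.stalk x)
    (pullback.snd U.hom (S.fromSpecStalk x))
    (pullback.lift t.left (clPt (S.presheaf.stalk x)) (ht.trans hcl)) (pullback.lift_snd _ _ _)
  have hφ : (sec ≫ pullback.fst U.hom (S.fromSpecStalk x)) ≫ U.hom =
      S.fromSpecStalk x ≫ 𝟙 S := by
    rw [Category.assoc, pullback.condition, ← Category.assoc, hsec1, Category.id_comp,
      Category.comp_id]
  obtain ⟨W, hxW, f, -, hf⟩ := spread_out_of_locallyOfFinitePresentation' (𝟙 S) U.hom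
    (sec ≫ pullback.fst U.hom (S.fromSpecStalk x)) hφ
  exact ⟨W, hxW, ⟨MorphismProperty.Over.homMk f (hf.trans (Category.comp_id _)) trivial⟩⟩

theorem sections_surjective [IsAffine S] (h1 : ∀ s : S, IsClosed ({s} : Set S))
    (h2 : ∀ s : S, IsSepClosed (S.residueField s)) {F G : EtCoh.Ab S} (π : F ⟶ G) [Epi π] :
    Function.Surjective (π.hom.app (op (EtCoh.top S))) := by
  haveI : Sheaf.IsLocallySurjective π :=
    (Sheaf.isLocallySurjective_iff_epi' AddCommGrpCat.{u+1} π).2 inferInstance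
  intro t
  have hlocal : ∀ x : S, ∃ W : S.Opens, x ∈ W ∧ Good π t (EO W) := by
    intro x
    have hmem := Presheaf.imageSieve_mem S.smallEtaleTopology π.hom (U := op (EtCoh.top S)) t
    obtain ⟨U, f, ⟨s, hs⟩, u, hu⟩ := exists_of_mem _ hmem (x : (EtCoh.top S).left)
    have hf : f = toTop U := (EtCore.topIsTerminal S).hom_ext _ _
    subst hf
    have hUx : U.hom u = x := by
      rw [← toTop_left U]
      exact hu
    obtain ⟨W, hW, ⟨σ⟩⟩ := exists_open_hom h1 h2 U u
    exact ⟨W, hUx ▸ hW, Good.of_hom π t σ ⟨s, hs⟩⟩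
  have hmono : ∀ {W W' : S.Opens}, W' ≤ W → Good π t (EO W) → Good π t (EO W') :=
    fun h hg => Good.of_hom π t (oMap h) hg
  have hbot : Good π t (EO (⊥ : S.Opens)) := by
    haveI : IsEmpty (EO (⊥ : S.Opens)).left := isEmpty_EO_bot
    exact ⟨0, (subsingleton_of_isEmpty G (EO (⊥ : S.Opens))).elim _ _⟩
  have hunion : ∀ (W W' : S.Opens), IsClosed (W : Set S) → Good π t (EO W) →
      Good π t (EO W') → Good π t (EO (W ⊔ W')) := by
    intro W W' hWc hW hW'
    let V : S.Opens := ⟨(W' : Set S) \ (W : Set S), W'.2.sdiff hWc⟩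
    have hVW' : V ≤ W' := fun z hz => hz.1
    have hV : Good π t (EO V) := hmono hVW' hW'
    have hWV : W ⊓ V = ⊥ := eq_bot_iff.2 (fun z hz => absurd hz.1 hz.2.2)
    refine good_glue π t (fun b : Bool => cond b W V) (W ⊔ W') ?_ ?_ ?_ ?_
    · rintro (_ | _)
      · exact le_trans hVW' le_sup_right
      · exact le_sup_left
    · intro z hz
      rw [TopologicalSpace.Opens.mem_iSup]
      have hz' : z ∈ ((W ⊔ W' : S.Opens) : Set S) := hz
      by_cases hzW : z ∈ W
      · exact ⟨true, hzW⟩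
      · refine ⟨false, ?_⟩
        rcases hz' with hz' | hz'
        · exact absurd hz' hzW
        · exact ⟨hz', hzW⟩
    · rintro (_ | _) (_ | _) h
      · exact absurd rfl h
      · exact (inf_comm _ _).trans hWV
      · exact hWV
      · exact absurd rfl h
    · rintro (_ | _)
      · exact hV
      · exact hW
  have key : ∃ W : S.Opens, IsClosed (W : Set S) ∧ (Set.univ : Set S) ⊆ (W : Set S) ∧
      Good π t (EO W) := by
    refine isCompact_univ.induction_on (p := fun A : Set S => ∃ W : S.Opens,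
      IsClosed (W : Set S) ∧ A ⊆ (W : Set S) ∧ Good π t (EO W)) ?_ ?_ ?_ ?_
    · exact ⟨⊥, by simp, Set.empty_subset _, hbot⟩
    · rintro A B hAB ⟨W, hc, hB, hg⟩
      exact ⟨W, hc, hAB.trans hB, hg⟩
    · rintro A B ⟨W, hc, hA, hg⟩ ⟨W', hc', hB, hg'⟩
      refine ⟨W ⊔ W', ?_, ?_, hunion W W' hc hg hg'⟩
      · rw [TopologicalSpace.Opens.coe_sup]
        exact hc.union hc'
      · rw [TopologicalSpace.Opens.coe_sup]
        exact Set.union_subset_union hA hB
    · intro x _
      obtain ⟨W, hxW, hg⟩ := hlocal x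
      obtain ⟨C, hCc, hxC, hCW⟩ := exists_clopen_nhd h1 x W hxW
      refine ⟨(C : Set S), ?_, C, hCc, subset_rfl, hmono hCW hg⟩
      rw [nhdsWithin_univ]
      exact C.2.mem_nhds hxC
  obtain ⟨W, -, hW, hg⟩ := key
  have hWtop : (⊤ : S.Opens) ≤ W := fun z _ => hW (Set.mem_univ z)
  have hgtop : Good π t (EO (⊤ : S.Opens)) := hmono hWtop hg
  let j : EtCoh.top S ⟶ EO (⊤ : S.Opens) :=
    MorphismProperty.Over.homMk S.topIso.inv (Scheme.toIso_inv_ι S) trivial
  obtain ⟨s, hs⟩ := Good.of_hom π t j hgtop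
  refine ⟨s, hs.trans ?_⟩
  have e : toTop (EtCoh.top S) = 𝟙 _ := (EtCore.topIsTerminal S).hom_ext _ _
  rw [e]
  exact map_id_apply G _ t

theorem subsingleton_H_zeroDim (S : Scheme.{u}) [IsAffine S]
    (h1 : ∀ s : S, IsClosed ({s} : Set S))
    (h2 : ∀ s : S, IsSepClosed (S.residueField s)) (F : EtCoh.Ab S) (p : ℕ) (hp : 1 ≤ p) :
    Subsingleton (EtCoh.H S F p) := by
  obtain ⟨n, rfl⟩ : ∃ n, p = n + 1 := ⟨p - 1, by omega⟩
  haveI : ((sheafSections S.smallEtaleTopology
      AddCommGrpCat.{u+1}).obj (op (EtCoh.top _))).PreservesEpimorphisms :=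
    ⟨fun π hπ => (AddCommGrpCat.epi_iff_surjective _).2 (sections_surjective h1 h2 π)⟩
  haveI : Projective ((constantSheaf S.smallEtaleTopology
      AddCommGrpCat.{u+1}).obj (AddCommGrpCat.of (ULift.{u+1} ℤ))) :=
    (constantSheafAdj _ _ (HensCoh_helper7.isTerminalTop _)).map_projective _
      HensCoh_helper7.projective_Z
  exact Abelian.Ext.subsingleton_of_projective _ _ n

end Main

end Groth.Agent.Lib.EtZeroDim_helper7
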