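import Mathlib
import Groth.Prelude.Def_EtBase
import Groth.Prelude.Def_EtCore
import Groth.Prelude.Def_EtZar
import Groth.Agent.Lib.EtZeroDim_helper7

/-!
# Étale = Zariski when all local rings are strictly henselian (helper7)

If every local ring of `S` is strictly henselian, the opens of `S` form a dense subsite of the small
étale site; restriction to the Zariski site is an equivalence and preserves cohomology.
-/

set_option autoImplicit false
set_option backward.isDefEq.respectTransparency false
universe u w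
open CategoryTheory CategoryTheory.Limits AlgebraicGeometry Opposite TopologicalSpace

namespace Groth.Agent.Lib.EtZarEquiv_helper7

open Groth.Agent.Lib.HensStalk_helper7 Groth.Agent.Lib.EtSchSite_helper7
  Groth.Agent.Lib.EtFlasque_helper7 Groth.Agent.Lib.EtHpull0_helper7
  Groth.Agent.Lib.EtMVses_helper7 Groth.Agent.Lib.EtZeroDim_helper7

section ExtCongr

variable {C : Type*} [Category C] [Abelian C] [HasExt.{w} C]

/-- `Ext` is invariant under isomorphisms in the first variable. -/
noncomputable def extCongrLeft {X X' : C} (κ : X ≅ X') (Y : C) (n : ℕ) :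
    Abelian.Ext.{w} X Y n ≃+ Abelian.Ext.{w} X' Y n where
  toFun x := (Abelian.Ext.mk₀ κ.inv).comp x (zero_add n)
  invFun y := (Abelian.Ext.mk₀ κ.hom).comp y (zero_add n)
  left_inv x := by
    show (Abelian.Ext.mk₀ κ.hom).comp ((Abelian.Ext.mk₀ κ.inv).comp x (zero_add n))
      (zero_add n) = x
    rw [Abelian.Ext.mk₀_comp_mk₀_assoc, κ.hom_inv_id, Abelian.Ext.mk₀_id_comp]
  right_inv y := by
    show (Abelian.Ext.mk₀ κ.inv).comp ((Abelian.Ext.mk₀ κ.hom).comp y (zero_add n))
      (zero_add n) = y
    rw [Abelian.Ext.mk₀_comp_mk₀_assoc, κ.inv_hom_id, Abelian.Ext.mk₀_id_comp]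
  map_add' x y := Abelian.Ext.comp_add _ _ _ _

end ExtCongr

variable {S : Scheme.{u}}

/-- Around every point of an étale `U → S` there is a Zariski-local section through it. -/
theorem exists_open_hom_through
    (hS : ∀ s : S, EtCoh.IsStrictlyHenselianLocalRing (S.presheaf.stalk s))
    (U : S.Etale) (u : U.left) :
    ∃ (W : S.Opens) (σ : EO W ⟶ U), u ∈ Set.range σ.left := by
  generalize hx : U.hom u = x
  obtain ⟨hH, hSC⟩ := hS x
  haveI : HenselianLocalRing (S.presheaf.stalk x) := hH
  haveI : IsSepClosed (IsLocalRing.ResidueField (S.presheaf.stalk x)) := hSC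
  haveI : Etale U.hom := U.prop
  let s : Spec (CommRingCat.of (IsLocalRing.ResidueField (S.presheaf.stalk x))) ⟶ S :=
    S.fromSpecResidueField x
  have hs₀ : s default = x := Scheme.fromSpecResidueField_apply x default
  obtain ⟨t, ht0⟩ := Scheme.pointSmallEtaleFiberObjToPreimage_surjective s hs₀ U ⟨u, hx⟩
  have htu : t.left (default : Spec (CommRingCat.of (IsLocalRing.ResidueField
      (S.presheaf.stalk x)))) = u := congrArg Subtype.val ht0
  have ht : t.left ≫ U.hom = s := Over.w t
  haveI : Etale (pullback.snd U.hom (S.fromSpecStalk x)) :=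
    MorphismProperty.pullback_snd _ _ U.prop
  have hcl : s = clPt (S.presheaf.stalk x) ≫ S.fromSpecStalk x := rfl
  obtain ⟨sec, hsec1, hsec2⟩ := exists_section (S.presheaf.stalk x)
    (pullback.snd U.hom (S.fromSpecStalk x))
    (pullback.lift t.left (clPt (S.presheaf.stalk x)) (ht.trans hcl)) (pullback.lift_snd _ _ _)
  have hφ : (sec ≫ pullback.fst U.hom (S.fromSpecStalk x)) ≫ U.hom =
      S.fromSpecStalk x ≫ 𝟙 S := by
    rw [Category.assoc, pullback.condition, ← Category.assoc, hsec1, Category.id_comp,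
      Category.comp_id]
  have hcomp : clPt (S.presheaf.stalk x) ≫ (sec ≫ pullback.fst U.hom (S.fromSpecStalk x)) =
      t.left := by
    rw [← Category.assoc, hsec2, pullback.lift_fst]
  obtain ⟨W, hxW, f, hφf, hf⟩ := spread_out_of_locallyOfFinitePresentation' (𝟙 S) U.hom
    (sec ≫ pullback.fst U.hom (S.fromSpecStalk x)) hφ
  rw [hφf] at hcomp
  refine ⟨W, MorphismProperty.Over.homMk f (hf.trans (Category.comp_id _)) trivial,
    W.fromSpecStalkOfMem x hxW (clPt (S.presheaf.stalk x) default), ?_⟩
  exact (congrArg (fun (m : Spec (CommRingCat.of (IsLocalRing.ResidueField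
    (S.presheaf.stalk x))) ⟶ U.left) => m default) hcomp).trans htu

instance faithful_zarToEt : (EtZar.zarToEt S).Faithful := ⟨fun _ => Subsingleton.elim _ _⟩

theorem le_of_hom {U V : S.Opens} (f : EO U ⟶ EO V) : U ≤ V := by
  intro x hx
  have hx' : x ∈ Set.range U.ι := by rw [Scheme.Opens.range_ι]; exact hx
  obtain ⟨y, rfl⟩ := hx'
  have hw : f.left ≫ V.ι = U.ι := MorphismProperty.Over.w f
  have h2 : U.ι y ∈ Set.range V.ι :=
    ⟨f.left y, congrArg (fun (m : U.toScheme ⟶ S) => m y) hw⟩
  rw [Scheme.Opens.range_ι] at h2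
  exact h2

instance full_zarToEt : (EtZar.zarToEt S).Full := ⟨fun {U V} f => ⟨homOfLE (le_of_hom (U := U) (V := V) f), by
  apply MorphismProperty.Over.Hom.ext
  show S.homOfLE (le_of_hom (U := U) (V := V) f) = f.left
  rw [← cancel_mono V.ι, S.homOfLE_ι]
  exact (MorphismProperty.Over.w f).symm⟩⟩

theorem isDenseSubsite
    (hS : ∀ s : S, EtCoh.IsStrictlyHenselianLocalRing (S.presheaf.stalk s)) :
    (EtZar.zarToEt S).IsDenseSubsite (Opens.grothendieckTopology S) S.smallEtaleTopology where
  isCoverDense' := ⟨fun U => by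
    apply sieve_mem_of_forall_exists
    intro u
    obtain ⟨W, σ, hu⟩ := exists_open_hom_through hS U u
    exact ⟨EO W, σ, ⟨⟨W, 𝟙 _, σ, Category.id_comp _⟩⟩, hu⟩⟩
  functorPushforward_mem_iff := by
    intro (U₀ : S.Opens) R
    constructor
    · intro h x hx
      have hx' : x ∈ Set.range U₀.ι := by rw [Scheme.Opens.range_ι]; exact hx
      obtain ⟨w, rfl⟩ := hx'
      obtain ⟨V, f, ⟨Z, g, k, hRg, rfl⟩, v, hv⟩ := exists_of_mem _ h w
      refine ⟨Z, g, hRg, ?_⟩
      have hw : ((EtZar.zarToEt S).map g).left ≫ U₀.ι = Scheme.Opens.ι Z := S.homOfLE_ι g.le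
      have h2 : U₀.ι w ∈ Set.range (Scheme.Opens.ι Z) := ⟨k.left v, by
        rw [← hv]
        exact (congrArg (fun (m : (Scheme.Opens.toScheme Z) ⟶ S) => m (k.left v)) hw).symm⟩
      rw [Scheme.Opens.range_ι] at h2
      exact h2
    · intro h
      apply sieve_mem_of_forall_exists
      intro w
      have hw : U₀.ι w ∈ U₀ := by
        have := Set.mem_range_self (f := U₀.ι) w
        rw [Scheme.Opens.range_ι] at this
        exact this
      obtain ⟨V, f, hRf, hxV⟩ := h _ hw
      have hk' : U₀.ι w ∈ Set.range (Scheme.Opens.ι V) := by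
        rw [Scheme.Opens.range_ι]
        exact hxV
      obtain ⟨y, hy⟩ := hk'
      refine ⟨(EtZar.zarToEt S).obj V, (EtZar.zarToEt S).map f,
        ⟨V, f, 𝟙 _, hRf, (Category.id_comp _).symm⟩, y, ?_⟩
      apply U₀.ι.isEmbedding.injective
      exact (congrArg (fun (m : (Scheme.Opens.toScheme V) ⟶ S) => m y) (S.homOfLE_ι f.le)).trans hy

section Const

variable (S)

/-- `S` and the open `⊤` as objects of the small étale site. -/
noncomputable def jIso : EtCoh.top S ≅ (EtZar.zarToEt S).obj ⊤ where
  hom := MorphismProperty.Over.homMk S.topIso.inv (Scheme.toIso_inv_ι S) trivial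
  inv := toTop _
  hom_inv_id := (EtCore.topIsTerminal S).hom_ext _ _
  inv_hom_id := (cancel_mono (toTop (EO (⊤ : S.Opens)))).1 ((EtCore.topIsTerminal S).hom_ext _ _)

variable [EtZar.ZarCont S]

noncomputable def secIsoZar :
    EtZar.resZar S ⋙ (sheafSections (Opens.grothendieckTopology S)
      AddCommGrpCat.{u+1}).obj (op ⊤) ≅
      (sheafSections S.smallEtaleTopology AddCommGrpCat.{u+1}).obj (op (EtCoh.top S)) :=
  NatIso.ofComponents (fun G => G.obj.mapIso (jIso S).op) (by
    intro G G' α
    exact (α.hom.naturality (jIso S).hom.op).symm)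

noncomputable def constIso [(EtZar.resZar S).IsEquivalence] :
    constantSheaf S.smallEtaleTopology AddCommGrpCat.{u+1} ⋙ EtZar.resZar S ≅
      constantSheaf (Opens.grothendieckTopology S) AddCommGrpCat.{u+1} := by
  let e := (EtZar.resZar S).asEquivalence
  let adjEt := constantSheafAdj S.smallEtaleTopology AddCommGrpCat.{u+1} (EtCore.topIsTerminal S)
  let adjZar := constantSheafAdj (Opens.grothendieckTopology S) AddCommGrpCat.{u+1}
    (isTerminalTop : IsTerminal (⊤ : S.Opens))
  let adj1 := adjEt.comp e.toAdjunction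
  let iso : e.inverse ⋙ (sheafSections S.smallEtaleTopology AddCommGrpCat.{u+1}).obj
      (op (EtCoh.top S)) ≅
      (sheafSections (Opens.grothendieckTopology S) AddCommGrpCat.{u+1}).obj (op ⊤) :=
    Functor.isoWhiskerLeft e.inverse (secIsoZar S).symm ≪≫ (Functor.associator _ _ _).symm ≪≫
      Functor.isoWhiskerRight e.counitIso _ ≪≫ Functor.leftUnitor _
  exact (adj1.ofNatIsoRight iso).leftAdjointUniq adjZar

end Const

theorem H_equiv (S : Scheme.{u})
    (hS : ∀ s : S, EtCoh.IsStrictlyHenselianLocalRing (S.presheaf.stalk s)) [EtZar.ZarCont S]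
    (F : EtCoh.Ab S) (i : ℕ) :
    Nonempty (EtCoh.H S F i ≃+ EtZar.H ((EtZar.resZar S).obj F) i) := by
  haveI := isDenseSubsite hS
  haveI : (EtZar.resZar S).IsEquivalence :=
    inferInstanceAs ((EtZar.zarToEt S).sheafPushforwardContinuous AddCommGrpCat.{u + 1}
      (Opens.grothendieckTopology S) S.smallEtaleTopology).IsEquivalence
  haveI : (EtZar.resZar S).Additive := ⟨fun {X Y} {f g} => rfl⟩
  let M : AddCommGrpCat.{u+1} := AddCommGrpCat.of (ULift.{u+1} ℤ)
  have hb := Functor.mapExt_bijective_of_preservesInjectiveObjects (EtZar.resZar S)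
    ((constantSheaf S.smallEtaleTopology AddCommGrpCat.{u+1}).obj M) F i
  let κ : (EtZar.resZar S).obj ((constantSheaf S.smallEtaleTopology AddCommGrpCat.{u+1}).obj M) ≅
      (constantSheaf (Opens.grothendieckTopology S) AddCommGrpCat.{u+1}).obj M :=
    (constIso S).app M
  exact ⟨(AddEquiv.ofBijective _ hb).trans (extCongrLeft κ _ i)⟩

end Groth.Agent.Lib.EtZarEquiv_helper7
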