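import Mathlib

/-!
# Ext and adjunctions (helper7)

For an adjunction `L ⊣ G` between abelian categories with `G` exact and preserving injectives,
`Ext (L X) Y n ≃ Ext X (G Y) n`.
-/

set_option autoImplicit false
universe w w' v v' u u'
open CategoryTheory CategoryTheory.Limits CategoryTheory.Abelian

namespace Groth.Agent.Lib.ExtAdj2_helper7

variable {C : Type u} [Category.{v} C] [Abelian C] {D : Type u'} [Category.{v'} D] [Abelian D]
variable {L : D ⥤ C} {G : C ⥤ D} (adj : L ⊣ G) [G.Additive] [PreservesFiniteLimits G]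
  [PreservesFiniteColimits G]
variable [HasExt.{w} C] [HasExt.{w'} D]

/-- The comparison map `Ext (L X) Y n → Ext X (G Y) n`. -/
noncomputable def adjExt (X : D) (Y : C) (n : ℕ) :
    Ext.{w} (L.obj X) Y n →+ Ext.{w'} X (G.obj Y) n :=
  ((Ext.mk₀ (adj.unit.app X)).precomp (G.obj Y) (zero_add n)).comp (G.mapExtAddHom (L.obj X) Y n)

lemma adjExt_apply (X : D) (Y : C) (n : ℕ) (x : Ext.{w} (L.obj X) Y n) :
    adjExt adj X Y n x =
      (Ext.mk₀ (adj.unit.app X)).comp (x.mapExactFunctor G) (zero_add n) := rfl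

lemma adjExt_comp_mk₀ (X : D) {Y Y' : C} (f : Y ⟶ Y') (n : ℕ) (x : Ext.{w} (L.obj X) Y n) :
    adjExt adj X Y' n (x.comp (Ext.mk₀ f) (add_zero n)) =
      (adjExt adj X Y n x).comp (Ext.mk₀ (G.map f)) (add_zero n) := by
  rw [adjExt_apply, adjExt_apply, Ext.mapExactFunctor_comp, Ext.mapExactFunctor_mk₀]
  exact (Ext.comp_assoc _ _ _ _ _ (by omega)).symm

lemma adjExt_comp_extClass (X : D) {S : ShortComplex C} (hS : S.ShortExact) (n : ℕ)
    (x : Ext.{w} (L.obj X) S.X₃ n) :
    adjExt adj X S.X₁ (n + 1) (x.comp hS.extClass rfl) =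
      (adjExt adj X S.X₃ n x).comp (hS.map_of_exact G).extClass rfl := by
  rw [adjExt_apply, adjExt_apply, Ext.mapExactFunctor_comp, Ext.mapExactFunctor_extClass]
  exact (Ext.comp_assoc _ _ _ _ _ (by omega)).symm

attribute [local instance] Ext.subsingleton_of_injective in
theorem adjExt_bijective [EnoughInjectives C] [G.PreservesInjectiveObjects] (X : D) (Y : C)
    (n : ℕ) : Function.Bijective (adjExt.{w, w'} adj X Y n) := by
  induction n generalizing Y with
  | zero =>
    let e : Ext.{w} (L.obj X) Y 0 ≃ Ext.{w'} X (G.obj Y) 0 :=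
      Ext.homEquiv₀.trans ((adj.homEquiv X Y).trans Ext.homEquiv₀.symm)
    have key : ∀ x, adjExt adj X Y 0 x = e x := by
      intro x
      obtain ⟨f, rfl⟩ := (Ext.mk₀_bijective _ _).2 x
      rw [adjExt_apply, Ext.mapExactFunctor_mk₀, Ext.mk₀_comp_mk₀]
      have h1 : Ext.homEquiv₀ (Ext.mk₀ f) = f := by
        apply (Ext.mk₀_bijective _ _).1
        exact Ext.mk₀_homEquiv₀_apply _
      show _ = Ext.homEquiv₀.symm (adj.homEquiv X Y (Ext.homEquiv₀ (Ext.mk₀ f)))
      rw [h1, Adjunction.homEquiv_unit, Ext.homEquiv₀_symm_apply]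
    have : ⇑(adjExt adj X Y 0) = e := funext key
    rw [this]; exact e.bijective
  | succ n hn =>
    let I : InjectivePresentation Y := Classical.arbitrary _
    let S := ShortComplex.mk _ _ (cokernel.condition I.f)
    have hS : S.ShortExact := { exact := ShortComplex.exact_cokernel I.f }
    have : Injective (S.map G).X₂ := Functor.PreservesInjectiveObjects.injective_obj I.injective
    exact AddMonoidHom.bijective_of_surjective_of_bijective_of_right_exact _ _ _ _
      (adjExt adj X S.X₂ n) (adjExt adj X S.X₃ n) (adjExt adj X S.X₁ (n + 1))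
      (by ext x; exact (adjExt_comp_mk₀ adj X S.g n x).symm)
      (by ext x; exact (adjExt_comp_extClass adj X hS n x).symm)
      ((ShortComplex.ab_exact_iff_function_exact _).mp
        (Ext.covariant_sequence_exact₃' (L.obj X) hS n (n + 1) rfl))
      ((ShortComplex.ab_exact_iff_function_exact _).mp
        (Ext.covariant_sequence_exact₃' X (hS.map_of_exact G) n (n + 1) rfl))
      (hn _).surjective (hn _)
      (fun x₁ ↦ Ext.covariant_sequence_exact₁ _ hS x₁ (by subsingleton) rfl)
      (fun y₁ ↦ Ext.covariant_sequence_exact₁ _ (hS.map_of_exact G) y₁ (by subsingleton) rfl)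

/-- The additive equivalence `Ext (L X) Y n ≃+ Ext X (G Y) n`. -/
noncomputable def adjExtEquiv [EnoughInjectives C] [G.PreservesInjectiveObjects] (X : D) (Y : C)
    (n : ℕ) : Ext.{w} (L.obj X) Y n ≃+ Ext.{w'} X (G.obj Y) n :=
  AddEquiv.ofBijective _ (adjExt_bijective adj X Y n)

end Groth.Agent.Lib.ExtAdj2_helper7
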