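import Mathlib
import Groth.Prelude.Def_BigSite
import Groth.Prelude.Def_EtCore
import Groth.Agent.Lib.ExtAdj2_helper7
import Groth.Agent.Lib.LanExact_helper7
import Groth.Agent.Lib.EtZarEquiv_helper7

/-!
# Cohomology on the big étale site agrees with cohomology on the small étale site (helper7)
-/

set_option autoImplicit false
set_option backward.isDefEq.respectTransparency false
universe u
open CategoryTheory CategoryTheory.Limits AlgebraicGeometry Opposite

namespace Groth.Agent.Lib.BigSmall_helper7

open Groth.Agent.Lib.ExtAdj2_helper7 Groth.Agent.Lib.LanExact_helper7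
  Groth.Agent.Lib.EtZarEquiv_helper7

variable (S : Scheme.{u})

instance flat_a : RepresentablyFlat (EtFppf.a S) := by
  have : PreservesFiniteLimits (MorphismProperty.Over.forget @Etale ⊤ S) :=
    inferInstanceAs (PreservesFiniteLimits (Scheme.Etale.forget S))
  exact flat_of_preservesFiniteLimits _

instance ab5 : AB5OfSize.{u, u+1} AddCommGrpCat.{u+1} :=
  AB5OfSize_of_univLE.{u, u+1, u+1, u+1} AddCommGrpCat.{u+1}

instance ab5' : AB5OfSize.{u, u} AddCommGrpCat.{u+1} :=
  AB5OfSize_of_univLE.{u, u, u+1, u+1} AddCommGrpCat.{u+1}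

theorem lan_a_exact :
    PreservesFiniteLimits ((EtFppf.a S).op.lan :
      (S.Etaleᵒᵖ ⥤ AddCommGrpCat.{u+1}) ⥤ (Over S)ᵒᵖ ⥤ AddCommGrpCat.{u+1}) := by
  haveI : ∀ X : (Over S)ᵒᵖ, IsFiltered (CostructuredArrow (EtFppf.a S).op X) := fun X =>
    IsFiltered.of_equivalence (structuredArrowOpEquivalence (EtFppf.a S) (unop X))
  exact lan_preservesFiniteLimits_of_flat AddCommGrpCat.{u+1} (EtFppf.a S)

variable (K : Precoverage Scheme.{u}) [BigSite.AEtCont K S]

instance piEtPull_exact : PreservesFiniteLimits (BigSite.piEtPull K S) := by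
  haveI := lan_a_exact S
  exact Functor.sheafPullbackConstruction.preservesFiniteLimits (EtFppf.a S) AddCommGrpCat.{u+1}
    S.smallEtaleTopology (QuotSh.J K S)

instance resEt_preservesFiniteLimits : PreservesFiniteLimits (BigSite.resEt K S) := by
  haveI : PreservesLimitsOfSize.{0, 0} (BigSite.resEt K S) :=
    (BigSite.piEtAdj K S).rightAdjoint_preservesLimits
  exact PreservesLimitsOfSize.preservesFiniteLimits _

instance resEt_preservesInjectives : (BigSite.resEt K S).PreservesInjectiveObjects :=
  Functor.preservesInjectiveObjects_of_adjunction_of_preservesMonomorphisms (BigSite.piEtAdj K S)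

instance resEt_preservesFiniteColimits [BigSite.AEtCocont K S] :
    PreservesFiniteColimits (BigSite.resEt K S) := by
  haveI : PreservesColimitsOfSize.{0, 0} (BigSite.resEt K S) :=
    (BigSite.iEtAdj K S).leftAdjoint_preservesColimits
  exact PreservesColimitsOfSize.preservesFiniteColimits _

/-- Global sections on the big site, computed on the image of the small terminal object. -/
noncomputable def constIso :
    constantSheaf S.smallEtaleTopology AddCommGrpCat.{u+1} ⋙ BigSite.piEtPull K S ≅
      constantSheaf (QuotSh.J K S) AddCommGrpCat.{u+1} := by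
  let adjS := constantSheafAdj S.smallEtaleTopology AddCommGrpCat.{u+1} (EtCore.topIsTerminal S)
  let hT : IsTerminal ((EtFppf.a S).obj (EtCoh.top S)) := Over.mkIdTerminal
  let adjB := constantSheafAdj (QuotSh.J K S) AddCommGrpCat.{u+1} hT
  let adj1 := adjS.comp (BigSite.piEtAdj K S)
  let iso : BigSite.resEt K S ⋙ (sheafSections S.smallEtaleTopology AddCommGrpCat.{u+1}).obj
      (op (EtCoh.top S)) ≅
      (sheafSections (QuotSh.J K S) AddCommGrpCat.{u+1}).obj (op ((EtFppf.a S).obj (EtCoh.top S))) :=
    NatIso.ofComponents (fun F => Iso.refl _) (by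
      intro F F' α
      simp only [Iso.refl_hom, Category.comp_id, Category.id_comp]
      rfl)
  exact (adj1.ofNatIsoRight iso).leftAdjointUniq adjB

theorem main [BigSite.AEtCocont K S] (F : BigSite.Ab K S) (p : ℕ) :
    Nonempty (EtCoh.H S ((BigSite.resEt K S).obj F) p ≃+ BigSite.H K S F p) := by
  let M : AddCommGrpCat.{u+1} := AddCommGrpCat.of (ULift.{u+1} ℤ)
  let e := adjExtEquiv.{u+1, u+1} (BigSite.piEtAdj K S)
    ((constantSheaf S.smallEtaleTopology AddCommGrpCat.{u+1}).obj M) F p
  let κ : (BigSite.piEtPull K S).obj ((constantSheaf S.smallEtaleTopology AddCommGrpCat.{u+1}).obj M) ≅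
      (constantSheaf (QuotSh.J K S) AddCommGrpCat.{u+1}).obj M :=
    (constIso S K).app M
  exact ⟨e.symm.trans (extCongrLeft κ _ p)⟩

end Groth.Agent.Lib.BigSmall_helper7
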