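import Mathlib
import Groth.Prelude.Def_BigSite
import Groth.Prelude.Def_EtCore
import Groth.Agent.Lib.BigSmall_helper7

/-!
# Cohomology on the big Zariski site agrees with cohomology on the small Zariski site (helper7)
-/

set_option autoImplicit false
set_option backward.isDefEq.respectTransparency false
universe u
open CategoryTheory CategoryTheory.Limits AlgebraicGeometry Opposite TopologicalSpace

namespace Groth.Agent.Lib.BigSmallZar_helper7

open Groth.Agent.Lib.ExtAdj2_helper7 Groth.Agent.Lib.LanExact_helper7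
  Groth.Agent.Lib.EtZarEquiv_helper7 Groth.Agent.Lib.BigSmall_helper7
  Groth.Agent.Lib.EtMVses_helper7

variable (S : Scheme.{u})

theorem hom_EO_subsingleton {U : S.Etale} {W : S.Opens} (φ ψ : U ⟶ (EtZar.zarToEt S).obj W) :
    φ = ψ := by
  apply MorphismProperty.Over.Hom.ext
  rw [← cancel_mono (Scheme.Opens.ι W)]
  exact (MorphismProperty.Over.w φ).trans (MorphismProperty.Over.w ψ).symm

instance flat_zarToEt : RepresentablyFlat (EtZar.zarToEt S) := by
  constructor
  intro U
  haveI : Nonempty (StructuredArrow U (EtZar.zarToEt S)) :=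
    ⟨StructuredArrow.mk (Y := (⊤ : S.Opens)) ((EtCore.topIsTerminal S).from U ≫ (jIso S).hom)⟩
  haveI : IsCofilteredOrEmpty (StructuredArrow U (EtZar.zarToEt S)) :=
    { cone_objs := by
        intro X Y
        obtain ⟨k, -, -⟩ := factor_inf (U := X.right) (V := Y.right) X.hom Y.hom
        refine ⟨StructuredArrow.mk (Y := X.right ⊓ Y.right) k,
          StructuredArrow.homMk (homOfLE inf_le_left) (hom_EO_subsingleton S _ _),
          StructuredArrow.homMk (homOfLE inf_le_right) (hom_EO_subsingleton S _ _), trivial⟩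
      cone_maps := by
        intro X Y f g
        refine ⟨X, 𝟙 X, ?_⟩
        have : f = g := StructuredArrow.hom_ext _ _ (Subsingleton.elim _ _)
        rw [this] }
  exact {}

instance flat_zarIncl : RepresentablyFlat (BigSite.zarIncl S) :=
  inferInstanceAs (RepresentablyFlat (EtZar.zarToEt S ⋙ EtFppf.a S))

theorem lan_zar_exact :
    PreservesFiniteLimits ((BigSite.zarIncl S).op.lan :
      (S.Opensᵒᵖ ⥤ AddCommGrpCat.{u+1}) ⥤ (Over S)ᵒᵖ ⥤ AddCommGrpCat.{u+1}) := by
  haveI : ∀ X : (Over S)ᵒᵖ, IsFiltered (CostructuredArrow (BigSite.zarIncl S).op X) := fun X =>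
    IsFiltered.of_equivalence (structuredArrowOpEquivalence (BigSite.zarIncl S) (unop X))
  exact lan_preservesFiniteLimits_of_flat AddCommGrpCat.{u+1} (BigSite.zarIncl S)

section General

variable (K : Precoverage Scheme.{u}) [BigSite.ZarCont K S]

instance piZarPull_exact : PreservesFiniteLimits (BigSite.piZarPull K S) := by
  haveI := lan_zar_exact S
  exact Functor.sheafPullbackConstruction.preservesFiniteLimits (BigSite.zarIncl S)
    AddCommGrpCat.{u+1} (Opens.grothendieckTopology S) (QuotSh.J K S)

instance resZar_preservesFiniteLimits : PreservesFiniteLimits (BigSite.resZar K S) := by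
  haveI : PreservesLimitsOfSize.{0, 0} (BigSite.resZar K S) :=
    (BigSite.piZarAdj K S).rightAdjoint_preservesLimits
  exact PreservesLimitsOfSize.preservesFiniteLimits _

instance resZar_preservesInjectives : (BigSite.resZar K S).PreservesInjectiveObjects :=
  Functor.preservesInjectiveObjects_of_adjunction_of_preservesMonomorphisms (BigSite.piZarAdj K S)

theorem resZar_preservesFiniteColimits
    [(BigSite.zarIncl S).IsCocontinuous (Opens.grothendieckTopology S) (QuotSh.J K S)] :
    PreservesFiniteColimits (BigSite.resZar K S) := by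
  haveI : PreservesColimitsOfSize.{0, 0} (BigSite.resZar K S) :=
    ((BigSite.zarIncl S).sheafAdjunctionCocontinuous AddCommGrpCat.{u+1}
      (Opens.grothendieckTopology S) (QuotSh.J K S)).leftAdjoint_preservesColimits
  exact PreservesColimitsOfSize.preservesFiniteColimits _

/-- the object `⊤` of the small Zariski site goes to a terminal object of the big site -/
noncomputable def zarTopIsTerminal : IsTerminal ((BigSite.zarIncl S).obj (⊤ : S.Opens)) :=
  IsTerminal.ofIso (Over.mkIdTerminal (X := S))
    ((EtFppf.a S).mapIso (jIso S))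

noncomputable def constIso :
    constantSheaf (Opens.grothendieckTopology S) AddCommGrpCat.{u+1} ⋙ BigSite.piZarPull K S ≅
      constantSheaf (QuotSh.J K S) AddCommGrpCat.{u+1} := by
  let adjS := constantSheafAdj (Opens.grothendieckTopology S) AddCommGrpCat.{u+1}
    (isTerminalTop : IsTerminal (⊤ : S.Opens))
  let adjB := constantSheafAdj (QuotSh.J K S) AddCommGrpCat.{u+1} (zarTopIsTerminal S)
  let adj1 := adjS.comp (BigSite.piZarAdj K S)
  let iso : BigSite.resZar K S ⋙ (sheafSections (Opens.grothendieckTopology S)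
      AddCommGrpCat.{u+1}).obj (op (⊤ : S.Opens)) ≅
      (sheafSections (QuotSh.J K S) AddCommGrpCat.{u+1}).obj
        (op ((BigSite.zarIncl S).obj (⊤ : S.Opens))) :=
    NatIso.ofComponents (fun F => Iso.refl _) (by
      intro F F' α
      simp only [Iso.refl_hom, Category.comp_id, Category.id_comp]
      rfl)
  exact (adj1.ofNatIsoRight iso).leftAdjointUniq adjB

theorem main_of_cocont
    [(BigSite.zarIncl S).IsCocontinuous (Opens.grothendieckTopology S) (QuotSh.J K S)]
    (F : BigSite.Ab K S) (p : ℕ) :
    Nonempty (EtZar.H ((BigSite.resZar K S).obj F) p ≃+ BigSite.H K S F p) := by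
  haveI := resZar_preservesFiniteColimits S K
  let M : AddCommGrpCat.{u+1} := AddCommGrpCat.of (ULift.{u+1} ℤ)
  let e := adjExtEquiv.{u+1, u+1} (BigSite.piZarAdj K S)
    ((constantSheaf (Opens.grothendieckTopology S) AddCommGrpCat.{u+1}).obj M) F p
  let κ : (BigSite.piZarPull K S).obj
      ((constantSheaf (Opens.grothendieckTopology S) AddCommGrpCat.{u+1}).obj M) ≅
      (constantSheaf (QuotSh.J K S) AddCommGrpCat.{u+1}).obj M :=
    (constIso S K).app M
  exact ⟨e.symm.trans (extCongrLeft κ _ p)⟩

end General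

theorem mem_of_overEquiv {C : Type*} [Category C] {X : C} {Y Z : Over X} (R : Sieve Y)
    (g : Z ⟶ Y) (h : Sieve.overEquiv Y R g.left) : R g := by
  have h3 : (Sieve.overEquiv Y).symm (Sieve.overEquiv Y R) g :=
    (Sieve.overEquiv_symm_iff _ g).2 h
  rwa [OrderIso.symm_apply_apply] at h3

instance zarIncl_cocont : (BigSite.zarIncl S).IsCocontinuous (Opens.grothendieckTopology S)
    (QuotSh.J Scheme.zariskiPrecoverage S) where
  cover_lift := by
    intro (U : S.Opens) R hR
    have hR' : Sieve.overEquiv _ R ∈ Scheme.grothendieckTopology @IsOpenImmersion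
        ((BigSite.zarIncl S).obj U).left := hR
    obtain ⟨𝒰, h𝒰⟩ := Scheme.mem_grothendieckTopology_iff.1 hR'
    intro x hx
    obtain ⟨i, y, hy⟩ := 𝒰.exists_eq (⟨x, hx⟩ : U.toScheme)
    haveI : IsOpenImmersion (𝒰.f i) := 𝒰.map_prop i
    let V : S.Opens := (𝒰.f i ≫ U.ι).opensRange
    have hVU : V ≤ U := by
      rintro _ ⟨z, rfl⟩
      have : (𝒰.f i ≫ U.ι) z = U.ι (𝒰.f i z) := rfl
      rw [this]
      have h2 := Set.mem_range_self (f := U.ι) (𝒰.f i z)
      rw [Scheme.Opens.range_ι] at h2
      exact h2
    refine ⟨V, homOfLE hVU, ?_, ?_⟩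
    · show R ((BigSite.zarIncl S).map (homOfLE hVU))
      apply mem_of_overEquiv
      have h1 : Sieve.overEquiv _ R (𝒰.f i) := h𝒰 _ (𝒰.f i) (Presieve.ofArrows.mk i)
      have hrange : Set.range (S.homOfLE hVU) ⊆ Set.range (𝒰.f i) := by
        rintro _ ⟨v, rfl⟩
        have hv : V.ι v ∈ (V : Set S) := by
          have := Set.mem_range_self (f := V.ι) v
          rw [Scheme.Opens.range_ι] at this
          exact this
        obtain ⟨z, hz⟩ := hv
        refine ⟨z, ?_⟩
        apply U.ι.isEmbedding.injective
        have e1 : U.ι ((S.homOfLE hVU) v) = V.ι v :=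
          congrArg (fun (m : V.toScheme ⟶ S) => m v) (S.homOfLE_ι hVU)
        rw [e1]
        exact hz
      have hfac : S.homOfLE hVU = IsOpenImmersion.lift (𝒰.f i) (S.homOfLE hVU) hrange ≫ 𝒰.f i :=
        (IsOpenImmersion.lift_fac _ _ _).symm
      show Sieve.overEquiv _ R (S.homOfLE hVU)
      rw [hfac]
      exact Sieve.downward_closed _ h1 _
    · exact ⟨y, congrArg Subtype.val hy⟩

theorem main [BigSite.ZarCont Scheme.zariskiPrecoverage S]
    (F : BigSite.Ab Scheme.zariskiPrecoverage S) (p : ℕ) :
    Nonempty (EtZar.H ((BigSite.resZar Scheme.zariskiPrecoverage S).obj F) p ≃+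
      BigSite.H Scheme.zariskiPrecoverage S F p) :=
  main_of_cocont S Scheme.zariskiPrecoverage F p

end Groth.Agent.Lib.BigSmallZar_helper7
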