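import Mathlib
import Groth.Agent.Lib.EtExtFr_helper7

/-!
# Direct images of flasque (cohomologically acyclic) étale sheaves are flasque (helper7)
-/

set_option autoImplicit false
set_option backward.isDefEq.respectTransparency false
universe u
open CategoryTheory CategoryTheory.Limits AlgebraicGeometry Opposite Abelian

namespace Groth.Agent.Lib.EtFlasquePush_helper7

open Groth.Agent.Lib.EtFlasque_helper7 Groth.Agent.Lib.EtExtFr_helper7

variable {X Y : Scheme.{u}}

/-- `F` is acyclic on every object of the site, in terms of `Ext(ℤ[W], -)`. -/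
def Fl (F : EtCoh.Ab X) : Prop :=
  ∀ (W : X.Etale) (q : ℕ), 0 < q → ∀ x : Ext (fr W) F q, x = 0

theorem epi_of_sections_surjective {B C : EtCoh.Ab Y} (β : B ⟶ C)
    (h : ∀ A : Y.Etale, Function.Surjective (β.hom.app (op A))) : Epi β := by
  apply Preadditive.epi_of_cancel_zero
  intro G γ hγ
  have key : ∀ (A : Y.Etale) (c : C.obj.obj (op A)), γ.hom.app (op A) c = 0 := by
    intro A c
    obtain ⟨b, rfl⟩ := h A c
    have := congrArg (fun (m : B ⟶ G) => m.hom.app (op A) b) hγ
    exact this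
  ext A c
  exact key A.unop c

section

variable (S : ShortComplex (EtCoh.Ab X)) (hS : S.ShortExact)
include hS

theorem fl_X₃ [Injective S.X₂] (h1 : Fl S.X₁) : Fl S.X₃ := by
  intro W q hq x
  have h0 : x.comp hS.extClass rfl = 0 := h1 W (q + 1) (Nat.succ_pos q) _
  obtain ⟨x₂, hx₂⟩ := Ext.covariant_sequence_exact₃ (fr W) hS x rfl h0
  obtain ⟨n, rfl⟩ : ∃ n, q = n + 1 := ⟨q - 1, by omega⟩
  rw [← hx₂, Ext.eq_zero_of_injective x₂, Ext.zero_comp]

theorem sections_surjective_of_fl (h1 : Fl S.X₁) (W : X.Etale) :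
    Function.Surjective (S.g.hom.app (op W)) := by
  intro q
  have h0 : (Ext.mk₀ ((frEquiv W S.X₃).symm q)).comp hS.extClass (zero_add 1) = 0 :=
    h1 W 1 Nat.one_pos _
  obtain ⟨x₂, hx₂⟩ := Ext.covariant_sequence_exact₃ (fr W) hS _ (zero_add 1) h0
  obtain ⟨ψ', rfl⟩ := (Ext.mk₀_bijective _ _).2 x₂
  rw [Ext.mk₀_comp_mk₀] at hx₂
  have hψ : ψ' ≫ S.g = (frEquiv W S.X₃).symm q := (Ext.mk₀_bijective _ _).1 hx₂
  refine ⟨frEquiv W S.X₂ ψ', ?_⟩
  rw [← frEquiv_comp, hψ, Equiv.apply_symm_apply]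

theorem shortExact_push_of_fl (f : X ⟶ Y) (h1 : Fl S.X₁) :
    (S.map (EtCoh.push f)).ShortExact := by
  haveI : PreservesLimitsOfSize.{0, 0} (EtCoh.push f) :=
    (EtCoh.pullPushAdj f).rightAdjoint_preservesLimits
  haveI : PreservesFiniteLimits (EtCoh.push f) := PreservesLimitsOfSize.preservesFiniteLimits _
  have h := (Functor.preservesFiniteLimits_iff_forall_exact_map_and_mono (EtCoh.push f)).1
    inferInstance S hS
  have hepi : Epi ((EtCoh.push f).map S.g) := by
    apply epi_of_sections_surjective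
    intro A
    exact sections_surjective_of_fl S hS h1 ((EtCoh.bc f).obj A)
  haveI := h.2
  exact ShortComplex.ShortExact.mk' h.1 h.2 hepi

end

theorem push_fl (f : X ⟶ Y) (q : ℕ) : ∀ (F : EtCoh.Ab X), Fl F →
    ∀ (W' : Y.Etale) (x : Ext (fr W') ((EtCoh.push f).obj F) (q + 1)), x = 0 := by
  induction q with
  | zero =>
    intro F hF W' x
    let S : ShortComplex (EtCoh.Ab X) :=
      ShortComplex.mk (Injective.ι F) (cokernel.π (Injective.ι F)) (cokernel.condition _)
    have hS : S.ShortExact := { exact := ShortComplex.exact_cokernel (Injective.ι F) }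
    haveI : Injective S.X₂ := inferInstanceAs (Injective (Injective.under F))
    have hfS := shortExact_push_of_fl S hS f hF
    haveI : Injective (S.map (EtCoh.push f)).X₂ :=
      Groth.Agent.Lib.EtJCont_helper7.injective_push f S.X₂
    obtain ⟨x₃, hx₃⟩ : ∃ x₃ : Ext (fr W') ((EtCoh.push f).obj S.X₃) 0,
        x₃.comp hfS.extClass (zero_add 1) = x :=
      Ext.covariant_sequence_exact₁ (fr W') hfS x (Ext.eq_zero_of_injective _) (zero_add 1)
    obtain ⟨ψ, rfl⟩ := (Ext.mk₀_bijective _ _).2 x₃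
    obtain ⟨r, hr⟩ := sections_surjective_of_fl S hS hF ((EtCoh.bc f).obj W')
      (frEquiv W' ((EtCoh.push f).obj S.X₃) ψ)
    have hψ : ψ = (frEquiv W' ((EtCoh.push f).obj S.X₂)).symm r ≫ (EtCoh.push f).map S.g := by
      apply (frEquiv W' ((EtCoh.push f).obj S.X₃)).injective
      rw [frEquiv_comp, Equiv.apply_symm_apply]
      exact hr.symm
    rw [← hx₃, hψ, ← Ext.mk₀_comp_mk₀]
    refine (Ext.comp_assoc_of_second_deg_zero _ (Ext.mk₀ ((EtCoh.push f).map S.g))
      hfS.extClass (zero_add 1)).trans ?_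
    exact (congrArg (fun t => (Ext.mk₀ ((frEquiv W' ((EtCoh.push f).obj S.X₂)).symm r)).comp t
      (zero_add 1)) hfS.comp_extClass).trans (Ext.comp_zero _ _ _ _ _)
  | succ q ih =>
    intro F hF W' x
    let S : ShortComplex (EtCoh.Ab X) :=
      ShortComplex.mk (Injective.ι F) (cokernel.π (Injective.ι F)) (cokernel.condition _)
    have hS : S.ShortExact := { exact := ShortComplex.exact_cokernel (Injective.ι F) }
    haveI : Injective S.X₂ := inferInstanceAs (Injective (Injective.under F))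
    have hfS := shortExact_push_of_fl S hS f hF
    haveI : Injective (S.map (EtCoh.push f)).X₂ :=
      Groth.Agent.Lib.EtJCont_helper7.injective_push f S.X₂
    have hQ : Fl S.X₃ := fl_X₃ S hS hF
    obtain ⟨x₃, hx₃⟩ : ∃ x₃ : Ext (fr W') ((EtCoh.push f).obj S.X₃) (q + 1),
        x₃.comp hfS.extClass rfl = x :=
      Ext.covariant_sequence_exact₁ (fr W') hfS x (Ext.eq_zero_of_injective _) rfl
    rw [← hx₃, ih S.X₃ hQ W' x₃, Ext.zero_comp]

/-- the statement in terms of cohomology of the étale schemes -/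
theorem push_flasque (f : X ⟶ Y) (F : EtCoh.Ab X)
    (hF : ∀ (W : X.Etale) (q : ℕ), 0 < q →
      Subsingleton (EtCoh.H W.left ((EtCoh.pull W.hom).obj F) q))
    (W' : Y.Etale) (q : ℕ) (hq : 0 < q) :
    Subsingleton (EtCoh.H W'.left ((EtCoh.pull W'.hom).obj ((EtCoh.push f).obj F)) q) := by
  have hFl : Fl F := by
    intro W q hq x
    haveI := (subsingleton_ext_iff W F q).2 (hF W q hq)
    exact Subsingleton.elim _ _
  obtain ⟨n, rfl⟩ : ∃ n, q = n + 1 := ⟨q - 1, by omega⟩
  rw [← subsingleton_ext_iff]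
  exact ⟨fun a b => (push_fl f n F hFl W' a).trans (push_fl f n F hFl W' b).symm⟩

end Groth.Agent.Lib.EtFlasquePush_helper7
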