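import Mathlib
import Groth.Prelude.Def_EtZar
import Groth.Agent.Lib.EtFlasquePush_helper7
import Groth.Agent.Lib.BigSmallZar_helper7

/-!
# Étale sheaves acyclic on affine étale schemes have vanishing Zariski cohomology on affines
(helper7)
-/

set_option autoImplicit false
set_option backward.isDefEq.respectTransparency false
universe u
open CategoryTheory CategoryTheory.Limits AlgebraicGeometry Opposite Abelian TopologicalSpace

namespace Groth.Agent.Lib.EtZarAcyc_helper7

open Groth.Agent.Lib.EtFlasque_helper7 Groth.Agent.Lib.EtExtFr_helper7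
  Groth.Agent.Lib.LanExact_helper7 Groth.Agent.Lib.BigSmallZar_helper7

variable (S : Scheme.{u})

section Pull

theorem lan_zarToEt_exact :
    PreservesFiniteLimits ((EtZar.zarToEt S).op.lan :
      (S.Opensᵒᵖ ⥤ AddCommGrpCat.{u+1}) ⥤ S.Etaleᵒᵖ ⥤ AddCommGrpCat.{u+1}) := by
  haveI : ∀ X : S.Etaleᵒᵖ, IsFiltered (CostructuredArrow (EtZar.zarToEt S).op X) := fun X =>
    IsFiltered.of_equivalence (structuredArrowOpEquivalence (EtZar.zarToEt S) (unop X))
  exact lan_preservesFiniteLimits_of_flat AddCommGrpCat.{u+1} (EtZar.zarToEt S)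

variable [EtZar.ZarCont S]

/-- pullback from the small Zariski site to the small étale site -/
noncomputable abbrev zarPull : EtZar.Ab S ⥤ EtCoh.Ab S :=
  (EtZar.zarToEt S).sheafPullback AddCommGrpCat.{u+1} (Opens.grothendieckTopology S)
    S.smallEtaleTopology

noncomputable abbrev zarAdj : zarPull S ⊣ EtZar.resZar S :=
  (EtZar.zarToEt S).sheafAdjunctionContinuous AddCommGrpCat.{u+1} (Opens.grothendieckTopology S)
    S.smallEtaleTopology

instance zarPull_exact : PreservesFiniteLimits (zarPull S) := by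
  haveI := lan_zarToEt_exact S
  exact Functor.sheafPullbackConstruction.preservesFiniteLimits (EtZar.zarToEt S)
    AddCommGrpCat.{u+1} (Opens.grothendieckTopology S) S.smallEtaleTopology

instance resZar_preservesFiniteLimits : PreservesFiniteLimits (EtZar.resZar S) := by
  haveI : PreservesLimitsOfSize.{0, 0} (EtZar.resZar S) :=
    (zarAdj S).rightAdjoint_preservesLimits
  exact PreservesLimitsOfSize.preservesFiniteLimits _

instance resZar_preservesInjectives : (EtZar.resZar S).PreservesInjectiveObjects :=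
  Functor.preservesInjectiveObjects_of_adjunction_of_preservesMonomorphisms (zarAdj S)

instance : (EtZar.resZar S).Additive where

end Pull

section Etale

/-- acyclic on every affine object of the small étale site -/
def AffAcy (F : EtCoh.Ab S) : Prop :=
  ∀ (W : S.Etale), IsAffine W.left → ∀ (q : ℕ), 0 < q → ∀ x : Ext (fr W) F q, x = 0

variable {S}
variable (Sx : ShortComplex (EtCoh.Ab S)) (hS : Sx.ShortExact)
include hS

theorem affAcy_X₃ [Injective Sx.X₂] (h1 : AffAcy S Sx.X₁) : AffAcy S Sx.X₃ := by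
  intro W hW q hq x
  have h0 : x.comp hS.extClass rfl = 0 := h1 W hW (q + 1) (Nat.succ_pos q) _
  obtain ⟨x₂, hx₂⟩ := Ext.covariant_sequence_exact₃ (fr W) hS x rfl h0
  obtain ⟨n, rfl⟩ : ∃ n, q = n + 1 := ⟨q - 1, by omega⟩
  rw [← hx₂, Ext.eq_zero_of_injective x₂, Ext.zero_comp]

theorem sections_surjective_of_affAcy (h1 : AffAcy S Sx.X₁) (W : S.Etale) (hW : IsAffine W.left) :
    Function.Surjective (Sx.g.hom.app (op W)) := by
  intro q
  have h0 : (Ext.mk₀ ((frEquiv W Sx.X₃).symm q)).comp hS.extClass (zero_add 1) = 0 :=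
    h1 W hW 1 Nat.one_pos _
  obtain ⟨x₂, hx₂⟩ := Ext.covariant_sequence_exact₃ (fr W) hS _ (zero_add 1) h0
  obtain ⟨ψ', rfl⟩ := (Ext.mk₀_bijective _ _).2 x₂
  rw [Ext.mk₀_comp_mk₀] at hx₂
  have hψ : ψ' ≫ Sx.g = (frEquiv W Sx.X₃).symm q := (Ext.mk₀_bijective _ _).1 hx₂
  refine ⟨frEquiv W Sx.X₂ ψ', ?_⟩
  rw [← frEquiv_comp, hψ, Equiv.apply_symm_apply]

end Etale

section Zar

variable {S}

theorem epi_zar {B C : EtZar.Ab S} (β : B ⟶ C)
    (h : ∀ (U : S.Opens) (c : C.obj.obj (op U)) (x : S), x ∈ U →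
      ∃ (V : S.Opens) (hVU : V ≤ U), x ∈ V ∧
        ∃ b : B.obj.obj (op V), β.hom.app (op V) b = C.obj.map (homOfLE hVU).op c) : Epi β := by
  haveI : Sheaf.IsLocallySurjective β := by
    refine ⟨fun {U} c => ?_⟩
    intro x hx
    obtain ⟨V, hVU, hxV, b, hb⟩ := h U c x hx
    exact ⟨V, homOfLE hVU, ⟨b, hb⟩, hxV⟩
  infer_instance

variable [EtZar.ZarCont S]

theorem shortExact_res (Sx : ShortComplex (EtCoh.Ab S)) (hS : Sx.ShortExact)
    (h1 : AffAcy S Sx.X₁) : (Sx.map (EtZar.resZar S)).ShortExact := by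
  have h := (Functor.preservesFiniteLimits_iff_forall_exact_map_and_mono (EtZar.resZar S)).1
    inferInstance Sx hS
  have hepi : Epi ((EtZar.resZar S).map Sx.g) := by
    apply epi_zar
    intro U c x hxU
    obtain ⟨_, ⟨V, hV, rfl⟩, hxV, hVU⟩ :=
      S.isBasis_affineOpens.exists_subset_of_mem_open hxU U.2
    have hVU' : V ≤ U := hVU
    obtain ⟨b, hb⟩ := sections_surjective_of_affAcy Sx hS h1 ((EtZar.zarToEt S).obj V) hV
      (Sx.X₃.obj.map ((EtZar.zarToEt S).map (homOfLE hVU')).op c)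
    exact ⟨V, hVU', hxV, b, hb⟩
  haveI := h.2
  exact ShortComplex.ShortExact.mk' h.1 h.2 hepi

theorem zar_vanish [IsAffine S] (q : ℕ) : ∀ (G : EtCoh.Ab S), AffAcy S G →
    ∀ x : EtZar.H ((EtZar.resZar S).obj G) (q + 1), x = 0 := by
  induction q with
  | zero =>
    intro G hG x
    let Sx : ShortComplex (EtCoh.Ab S) :=
      ShortComplex.mk (Injective.ι G) (cokernel.π (Injective.ι G)) (cokernel.condition _)
    have hS : Sx.ShortExact := { exact := ShortComplex.exact_cokernel (Injective.ι G) }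
    haveI : Injective Sx.X₂ := inferInstanceAs (Injective (Injective.under G))
    have hfS := shortExact_res Sx hS hG
    haveI : Injective (Sx.map (EtZar.resZar S)).X₂ := (EtZar.resZar S).injective_obj Sx.X₂
    obtain ⟨x₃, hx₃⟩ : ∃ x₃ : EtZar.H ((EtZar.resZar S).obj Sx.X₃) 0,
        x₃.comp hfS.extClass (zero_add 1) = x :=
      Ext.covariant_sequence_exact₁ _ hfS x (Ext.eq_zero_of_injective _) (zero_add 1)
    let hT : IsTerminal (⊤ : S.Opens) := isTerminalTop
    obtain ⟨b, hb⟩ := sections_surjective_of_affAcy Sx hS hG ((EtZar.zarToEt S).obj ⊤)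
      (isAffineOpen_top S) (Sheaf.H.equiv₀ ((EtZar.resZar S).obj Sx.X₃) hT x₃)
    let x₂ : EtZar.H ((EtZar.resZar S).obj Sx.X₂) 0 :=
      (Sheaf.H.equiv₀ ((EtZar.resZar S).obj Sx.X₂) hT).symm b
    have hx₂ : Sheaf.H.map ((EtZar.resZar S).map Sx.g) 0 x₂ = x₃ := by
      have h1 := Sheaf.H.equiv₀_symm_naturality (hT := hT) (f := (EtZar.resZar S).map Sx.g) b
      refine h1.trans ?_
      have h2 : ((EtZar.resZar S).map Sx.g).hom.app (op (⊤ : S.Opens)) b =
          Sheaf.H.equiv₀ ((EtZar.resZar S).obj Sx.X₃) hT x₃ := hb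
      rw [h2, AddEquiv.symm_apply_apply]
    rw [← hx₃, ← hx₂, Sheaf.H.map_apply]
    refine (Ext.comp_assoc_of_second_deg_zero x₂ (Ext.mk₀ ((EtZar.resZar S).map Sx.g))
      hfS.extClass (zero_add 1)).trans ?_
    exact (congrArg (fun t => x₂.comp t (zero_add 1)) hfS.comp_extClass).trans
      (Ext.comp_zero _ _ _ _ _)
  | succ q ih =>
    intro G hG x
    let Sx : ShortComplex (EtCoh.Ab S) :=
      ShortComplex.mk (Injective.ι G) (cokernel.π (Injective.ι G)) (cokernel.condition _)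
    have hS : Sx.ShortExact := { exact := ShortComplex.exact_cokernel (Injective.ι G) }
    haveI : Injective Sx.X₂ := inferInstanceAs (Injective (Injective.under G))
    have hfS := shortExact_res Sx hS hG
    haveI : Injective (Sx.map (EtZar.resZar S)).X₂ := (EtZar.resZar S).injective_obj Sx.X₂
    have hQ : AffAcy S Sx.X₃ := affAcy_X₃ Sx hS hG
    obtain ⟨x₃, hx₃⟩ : ∃ x₃ : EtZar.H ((EtZar.resZar S).obj Sx.X₃) (q + 1),
        x₃.comp hfS.extClass rfl = x :=
      Ext.covariant_sequence_exact₁ _ hfS x (Ext.eq_zero_of_injective _) rfl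
    rw [← hx₃, ih Sx.X₃ hQ x₃, Ext.zero_comp]

theorem main [IsAffine S] (G : EtCoh.Ab S)
    (hG : ∀ (T : S.Etale), IsAffine T.left → ∀ i : ℕ, 1 ≤ i →
      Subsingleton (EtCoh.H T.left ((EtCoh.pull T.hom).obj G) i))
    (i : ℕ) (hi : 1 ≤ i) :
    Subsingleton (EtZar.H ((EtZar.resZar S).obj G) i) := by
  have hA : AffAcy S G := by
    intro W hW q hq x
    haveI := (subsingleton_ext_iff W G q).2 (hG W hW q hq)
    exact Subsingleton.elim _ _
  obtain ⟨n, rfl⟩ : ∃ n, i = n + 1 := ⟨i - 1, by omega⟩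
  exact ⟨fun a b => (zar_vanish n G hA a).trans (zar_vanish n G hA b).symm⟩

end Zar

end Groth.Agent.Lib.EtZarAcyc_helper7
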