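import Mathlib
import Groth.Prelude.Def_EtZar
import Groth.Agent.Lib.EtZarAcyc_helper7
import Groth.Agent.Lib.HTransfer_helper8

/-!
# Continuity of `zarToEt`, and transfer of vanishing from Zariski to étale cohomology for
sheaves acyclic on affine étale schemes (helper8)
APPEND-ONLY once landed.
-/

set_option autoImplicit false
set_option backward.isDefEq.respectTransparency false
universe u
open CategoryTheory CategoryTheory.Limits AlgebraicGeometry Opposite Abelian TopologicalSpace

namespace Groth.Agent.Lib.ZarContH8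

open Groth.Agent.Lib.EtSchSite_helper7 Groth.Agent.Lib.BigSmallZar_helper7
  Groth.Agent.Lib.EtZarAcyc_helper7 Groth.Agent.Lib.EtZarEquiv_helper7

variable (S : Scheme.{u})

/-- `zarToEt` is continuous: open coverings are étale coverings. -/
theorem zarCont : EtZar.ZarCont S := by
  show (EtZar.zarToEt S).IsContinuous _ _
  rw [Functor.isContinuous_iff_coverPreserving]
  refine ⟨fun {U₀ R} h => ?_⟩
  apply sieve_mem_of_forall_exists
  intro w
  have hw : U₀.ι w ∈ U₀ := by
    have := Set.mem_range_self (f := U₀.ι) w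
    rw [Scheme.Opens.range_ι] at this
    exact this
  obtain ⟨V, f, hRf, hxV⟩ := h _ hw
  have hk' : U₀.ι w ∈ Set.range (Scheme.Opens.ι V) := by
    rw [Scheme.Opens.range_ι]
    exact hxV
  obtain ⟨y, hy⟩ := hk'
  refine ⟨(EtZar.zarToEt S).obj V, (EtZar.zarToEt S).map f,
    ⟨V, f, 𝟙 _, hRf, (Category.id_comp _).symm⟩, y, ?_⟩
  apply U₀.ι.isEmbedding.injective
  exact (congrArg (fun (m : (Scheme.Opens.toScheme V) ⟶ S) => m y) (S.homOfLE_ι f.le)).trans hy

/-- transfer of vanishing from Zariski to étale cohomology for sheaves acyclic on affines -/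
theorem et_vanish_of_zar [EtZar.ZarCont S] (G : EtCoh.Ab S) (hG : AffAcy S G) (q : ℕ)
    (hv : ∀ x : EtZar.H ((EtZar.resZar S).obj G) (q + 1), x = 0) :
    ∀ x : EtCoh.H S G (q + 1), x = 0 := by
  have hTC : IsTerminal ((EtZar.zarToEt S).obj ⊤) :=
    IsTerminal.ofIso (EtCore.topIsTerminal S) (jIso S)
  have hTD : IsTerminal (⊤ : S.Opens) := isTerminalTop
  exact Groth.Agent.Lib.HTransferH8.transfer (EtZar.resZar S) hTC hTD (fun F x => x)
    (fun F => Function.bijective_id) (fun f x => rfl) (AffAcy S)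
    (fun Sx hS hI h1 => ⟨@affAcy_X₃ S Sx hS hI h1, shortExact_res Sx hS h1⟩) q G hG hv

end Groth.Agent.Lib.ZarContH8
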