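import Mathlib
import Groth.Prelude.Def_EtZar
import Groth.Agent.Lib.ZarCont_helper8
import Groth.Agent.Lib.HTransfer2_helper8

/-!
# Étale cohomology = Zariski cohomology for étale sheaves acyclic on affines (helper8)
APPEND-ONLY once landed.
-/

set_option autoImplicit false
set_option backward.isDefEq.respectTransparency false
universe u
open CategoryTheory CategoryTheory.Limits AlgebraicGeometry Opposite Abelian TopologicalSpace

namespace Groth.Agent.Lib.ZarIsoH8

open Groth.Agent.Lib.EtSchSite_helper7 Groth.Agent.Lib.BigSmallZar_helper7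
  Groth.Agent.Lib.EtZarAcyc_helper7 Groth.Agent.Lib.EtZarEquiv_helper7

variable (S : Scheme.{u})

theorem et_iso_zar [EtZar.ZarCont S] (G : EtCoh.Ab S) (hG : AffAcy S G) (q : ℕ) :
    Nonempty (EtCoh.H S G q ≃+ EtZar.H ((EtZar.resZar S).obj G) q) := by
  have hTC : IsTerminal ((EtZar.zarToEt S).obj ⊤) :=
    IsTerminal.ofIso (EtCore.topIsTerminal S) (jIso S)
  have hTD : IsTerminal (⊤ : S.Opens) := isTerminalTop
  exact Groth.Agent.Lib.HTransfer2H8.iso (EtZar.resZar S) hTC hTD (fun F => AddEquiv.refl _)
    (fun f x => rfl) (AffAcy S)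
    (fun Sx hS hI h1 => ⟨@affAcy_X₃ S Sx hS hI h1, shortExact_res Sx hS h1⟩)
    (fun I hI q x => by
      haveI := hI
      haveI : Injective ((EtZar.resZar S).obj I) := (EtZar.resZar S).injective_obj I
      exact Ext.eq_zero_of_injective x) q G hG

end Groth.Agent.Lib.ZarIsoH8
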