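import Mathlib
import Groth.Prelude.Def_EtZar
import Groth.Prelude.Def_EtGm
import Groth.Prelude.Def_Coh
import Groth.Agent.Lib.ULiftSh_helper8
import Groth.Agent.Lib.ZarIso_helper8
import Groth.Agent.Lib.EtCartan3_helper8

/-!
# The restriction of `G_a` to the Zariski site is the structure sheaf (one universe up) (helper8)
APPEND-ONLY once landed.
-/

set_option autoImplicit false
set_option backward.isDefEq.respectTransparency false
universe u
open CategoryTheory CategoryTheory.Limits AlgebraicGeometry Opposite Abelian TopologicalSpace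

namespace Groth.Agent.Lib.GaZarH8

open Groth.Agent.Lib.ULiftShH8

variable (X : Scheme.{u}) [EtZar.ZarCont X]

/-- sections of `G_a|_{Zar}` over `U` vs sections of `O_X` -/
noncomputable def secEquiv (U : X.Opens) :
    (((EtZar.resZar X).obj (EtCoh.Ga X)).obj.obj (op U) : Type (u + 1)) ≃+
      (((L X.carrier).obj (Coh.toAb (Coh.structureModule X))).obj.obj (op U) : Type (u + 1)) :=
  (AddEquiv.ulift (α := Γ(U.toScheme, ⊤))).trans
    ((U.topIso.commRingCatIsoToRingEquiv.toAddEquiv).trans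
      (AddEquiv.ulift (α := Γ(X, U))).symm)

lemma res_comm {U V : X.Opens} (h : V ≤ U) :
    (X.homOfLE h).appTop ≫ V.topIso.hom = U.topIso.hom ≫ X.presheaf.map (homOfLE h).op := by
  rw [X.homOfLE_appTop, Scheme.Opens.topIso_hom, Scheme.Opens.topIso_hom, ← Functor.map_comp,
    ← Functor.map_comp]
  congr 1

lemma secEquiv_nat {U V : X.Opens} (h : V ≤ U)
    (s : ((EtZar.resZar X).obj (EtCoh.Ga X)).obj.obj (op U)) :
    secEquiv X V (((EtZar.resZar X).obj (EtCoh.Ga X)).obj.map (homOfLE h).op s) =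
      ((L X.carrier).obj (Coh.toAb (Coh.structureModule X))).obj.map (homOfLE h).op
        (secEquiv X U s) := by
  have h1 := congrArg (fun φ => φ.hom s.down) (res_comm X h)
  exact congrArg ULift.up h1

/-- `G_a|_{Zar} ≅ O_X` (lifted one universe up) -/
noncomputable def gaIso : (EtZar.resZar X).obj (EtCoh.Ga X) ≅
    (L X.carrier).obj (Coh.toAb (Coh.structureModule X)) :=
  (fullyFaithfulSheafToPresheaf _ _).preimageIso
    (NatIso.ofComponents (fun U => (secEquiv X U.unop).toAddCommGrpIso) (by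
      intro U V f
      ext s
      exact secEquiv_nat X f.unop.le s))


omit [EtZar.ZarCont X] in
/-- `H^p(X_ét, G_a) ≃ H^p(X, O_X)` -/
theorem ga_iso (p : ℕ) :
    Nonempty (EtCoh.H X (EtCoh.Ga X) p ≃+ Coh.HH X (Coh.structureModule X) p) := by
  haveI : EtZar.ZarCont X := Groth.Agent.Lib.ZarContH8.zarCont X
  have hGa : Groth.Agent.Lib.EtZarAcyc_helper7.AffAcy X (EtCoh.Ga X) := by
    intro W hW n hn x
    obtain ⟨m, rfl⟩ : ∃ m, n = m + 1 := ⟨n - 1, by omega⟩
    exact Groth.Agent.Lib.EtCartanH8.ext_vanish m _ (Groth.Agent.Lib.EtCartanH8.affCech_Ga X) W hW x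
  obtain ⟨e1⟩ := Groth.Agent.Lib.ZarIsoH8.et_iso_zar X _ hGa p
  obtain ⟨e2⟩ := iso_L X.carrier (Coh.toAb (Coh.structureModule X)) p
  let e3 := ((Sheaf.functorH (Opens.grothendieckTopology X) p).mapIso
    (gaIso X)).addCommGroupIsoToAddEquiv
  exact ⟨e1.trans (e3.trans e2.symm)⟩


end Groth.Agent.Lib.GaZarH8
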