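import Mathlib
import Groth.Prelude.Def_W4c5etcohweilstudentAS
import Groth.Prelude.Def_Coh
import Groth.Agent.Lib.GaZar_helper8

/-!
# Frobenius and Artin–Schreier on the structure sheaf, compatibility with `G_a` (helper8)
APPEND-ONLY once landed.
-/

set_option autoImplicit false
set_option backward.isDefEq.respectTransparency false
universe u
open CategoryTheory CategoryTheory.Limits AlgebraicGeometry Opposite Abelian TopologicalSpace

namespace Groth.Agent.Lib.ASZarH8

open Groth.Agent.Lib.ULiftShH8 Groth.Agent.Lib.GaZarH8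

/-- the additive map `x ↦ x ^ p` -/
def frobHom (R : Type*) [CommRing R] (p : ℕ) (hp : p.Prime) (h0 : (p : R) = 0) : R →+ R where
  toFun x := x ^ p
  map_zero' := by simp [hp.ne_zero]
  map_add' x y := W4c5etcohweilstudent.add_pow_prime_of_natCast_eq_zero p hp h0 x y

variable (X : Scheme.{u}) (p : ℕ) (hp : p.Prime) (h0 : (p : Γ(X, ⊤)) = 0)

include h0 in
lemma natCast_eq_zero_open (U : X.Opens) : (p : Γ(X, U)) = 0 := by
  have := congrArg (X.presheaf.map (homOfLE (le_top : U ≤ ⊤)).op).hom h0
  simpa using this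

/-- Frobenius on the structure sheaf (as an abelian sheaf) -/
noncomputable def frobZar :
    Coh.toAb (Coh.structureModule X) ⟶ Coh.toAb (Coh.structureModule X) :=
  ⟨{ app := fun U => (show (Coh.toAb (Coh.structureModule X)).obj.obj U ⟶
          (Coh.toAb (Coh.structureModule X)).obj.obj U from
        AddCommGrpCat.ofHom (frobHom Γ(X, U.unop) p hp (natCast_eq_zero_open X p h0 U.unop)))
     naturality := by
       intro U V g
       ext m
       exact (map_pow (X.presheaf.map g).hom (show Γ(X, U.unop) from m) p).symm }⟩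

lemma frobZar_app (U : (Opens X)ᵒᵖ) (m : Γ(X, U.unop)) :
    ((frobZar X p hp h0).hom.app U).hom m = m ^ p := rfl

/-- Artin–Schreier on the structure sheaf -/
noncomputable def asZar :
    Coh.toAb (Coh.structureModule X) ⟶ Coh.toAb (Coh.structureModule X) :=
  frobZar X p hp h0 - 𝟙 _

lemma asZar_app (U : (Opens X)ᵒᵖ) (m : Γ(X, U.unop)) :
    ((asZar X p hp h0).hom.app U).hom m = m ^ p - m := rfl

/-- semilinearity of Frobenius -/
lemma smulAb_frobZar (r : Coh.Γtop X) :
    Coh.smulAb (Coh.structureModule X) r ≫ frobZar X p hp h0 =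
      frobZar X p hp h0 ≫ Coh.smulAb (Coh.structureModule X) (r ^ p) := by
  ext U m
  change ((show Γ(X, U.unop) from Coh.resTop X U r) * (show Γ(X, U.unop) from m)) ^ p =
    (show Γ(X, U.unop) from Coh.resTop X U (r ^ p)) * (show Γ(X, U.unop) from m) ^ p
  rw [mul_pow]
  congr 1
  exact (map_pow (Coh.resTop X U) r p).symm

variable [EtZar.ZarCont X]

/-- compatibility of the two Artin–Schreier maps under `G_a|_{Zar} ≅ O_X` -/
lemma gaIso_AS :
    (EtZar.resZar X).map (W4c5etcohweilstudent.artinSchreierEndo X p hp h0) ≫ (gaIso X).hom =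
      (gaIso X).hom ≫ (L X.carrier).map (asZar X p hp h0) := by
  ext U s
  let V : X.Opens := U.unop
  let t : Γ(V.toScheme, ⊤) := s.down
  let e := V.topIso.commRingCatIsoToRingEquiv
  change ULift.up (e (t ^ p - t)) = ULift.up ((e t) ^ p - e t)
  rw [map_sub, map_pow]

lemma gaIso_AS' :
    (L X.carrier).map (asZar X p hp h0) ≫ (gaIso X).inv =
      (gaIso X).inv ≫ (EtZar.resZar X).map (W4c5etcohweilstudent.artinSchreierEndo X p hp h0) := by
  rw [Iso.comp_inv_eq, Category.assoc, gaIso_AS, Iso.inv_hom_id_assoc]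

end Groth.Agent.Lib.ASZarH8
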