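import Mathlib

/-!
# `F - 1` is surjective for a `p`-linear endomorphism of a finite dimensional vector space
over a separably closed field of characteristic `p`; its fixed points are finite.
-/

namespace Groth.Agent.Lib.FrobSurjH8

open Polynomial

universe u v

variable {k : Type u} [Field k] (p : ℕ) [hp : Fact p.Prime] [CharP k p]

/-- The auxiliary polynomials. -/
noncomputable def Z (c a : ℕ → k) : ℕ → k[X]
  | 0 => 0
  | (i+1) => (Z c a i)^p + C (c i) * X^p - C (a i)

lemma derivative_Z (c a : ℕ → k) (i : ℕ) : derivative (Z p c a i) = 0 := by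
  induction i with
  | zero => simp [Z]
  | succ i ih =>
    simp [Z, derivative_pow, ih]

lemma exists_root_Z [IsSepClosed k] (c a : ℕ → k) (r : ℕ) :
    ∃ t : k, (Z p c a r).eval t = t := by
  have hd : derivative (Z p c a r - X) = -1 := by
    simp [derivative_Z]
  have hsep : (Z p c a r - X).Separable := by
    rw [separable_def, hd]
    exact isCoprime_one_right.neg_right
  have hdeg : (Z p c a r - X).degree ≠ 0 := by
    intro h
    have h1 := eq_C_of_degree_eq_zero h
    rw [h1] at hd
    simp at hd
  obtain ⟨t, ht⟩ := IsSepClosed.exists_root _ hdeg hsep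
  refine ⟨t, ?_⟩
  have : (Z p c a r - X).eval t = 0 := ht
  simpa [sub_eq_zero] using this

variable {V : Type v} [AddCommGroup V] [Module k V]

lemma exists_of_cyclic [IsSepClosed k] (F : V →ₛₗ[frobenius k p] V)
    (w : V) (r : ℕ) (c : ℕ → k) (hr : F^[r] w = ∑ i ∈ Finset.range r, c i • F^[i] w)
    (a : ℕ → k) : ∃ x : V, F x - x = ∑ i ∈ Finset.range r, a i • F^[i] w := by
  obtain ⟨t, ht⟩ := exists_root_Z p c a r
  set y : ℕ → k := fun i => (Z p c a i).eval t with hy
  have y0 : y 0 = 0 := by simp [hy, Z]
  have ys : ∀ i, y (i+1) = (y i)^p + c i * t^p - a i := by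
    intro i
    simp [hy, Z]
  have yr : y r = t := ht
  refine ⟨∑ i ∈ Finset.range r, y (i+1) • F^[i] w, ?_⟩
  have hF : F (∑ i ∈ Finset.range r, y (i+1) • F^[i] w)
      = ∑ i ∈ Finset.range r, (y (i+1))^p • F^[i+1] w := by
    rw [map_sum]
    refine Finset.sum_congr rfl (fun i _ => ?_)
    rw [F.map_smulₛₗ, frobenius_def, Function.iterate_succ_apply']
  have h1 : ∑ i ∈ Finset.range (r+1), (y i)^p • F^[i] w
      = ∑ i ∈ Finset.range r, (y (i+1))^p • F^[i+1] w := by
    rw [Finset.sum_range_succ', y0, zero_pow hp.out.ne_zero, zero_smul, add_zero]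
  have h2 : ∑ i ∈ Finset.range (r+1), (y i)^p • F^[i] w
      = ∑ i ∈ Finset.range r, ((y i)^p + c i * t^p) • F^[i] w := by
    rw [Finset.sum_range_succ, yr, hr, Finset.smul_sum, ← Finset.sum_add_distrib]
    refine Finset.sum_congr rfl (fun i _ => ?_)
    rw [add_smul, smul_smul, mul_comm]
  rw [hF, ← h1, h2, ← Finset.sum_sub_distrib]
  refine Finset.sum_congr rfl (fun i _ => ?_)
  rw [← sub_smul, ys]
  congr 1
  ring

theorem surjective_aux [IsSepClosed k] (n : ℕ) : ∀ (V : Type v) [AddCommGroup V] [Module k V]
    [FiniteDimensional k V], Module.finrank k V = n → ∀ F : V →ₛₗ[frobenius k p] V,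
    Function.Surjective (fun v => F v - v) := by
  induction n using Nat.strong_induction_on with
  | _ n ih =>
    intro V _ _ _ hn F v
    by_cases hV : ∀ w : V, w = 0
    · exact ⟨0, by rw [hV v]; simp⟩
    · push Not at hV
      obtain ⟨w, hw⟩ := hV
      -- the chain of submodules
      let f : ℕ →o Submodule k V :=
        ⟨fun n => Submodule.span k (Set.range fun i : Fin n => F^[(i : ℕ)] w), by
          intro n m hnm
          apply Submodule.span_mono
          rintro _ ⟨i, rfl⟩
          exact ⟨Fin.castLE hnm i, rfl⟩⟩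
      obtain ⟨r, hr⟩ := monotone_stabilizes_iff_noetherian.mpr inferInstance f
      have hmem : F^[r] w ∈ f r := by
        rw [hr (r+1) (Nat.le_succ r)]
        exact Submodule.subset_span ⟨Fin.last r, rfl⟩
      obtain ⟨c', hc'⟩ := (Submodule.mem_span_range_iff_exists_fun k).mp hmem
      let c : ℕ → k := fun i => if h : i < r then c' ⟨i, h⟩ else 0
      have hrc : F^[r] w = ∑ i ∈ Finset.range r, c i • F^[i] w := by
        rw [← hc', ← Fin.sum_univ_eq_sum_range (fun i => c i • F^[i] w) r]
        refine Finset.sum_congr rfl (fun i _ => ?_)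
        simp [c, i.2]
      have hr0 : r ≠ 0 := by
        rintro rfl
        apply hw
        simpa using hrc
      set S : Submodule k V := f r with hS
      have hwS : w ∈ S := Submodule.subset_span ⟨⟨0, Nat.pos_of_ne_zero hr0⟩, rfl⟩
      have hstab : S ≤ S.comap F := by
        rw [hS]
        apply Submodule.span_le.mpr
        rintro _ ⟨i, rfl⟩
        change F (F^[(i : ℕ)] w) ∈ f r
        rw [(Function.iterate_succ_apply' F (i : ℕ) w).symm]
        by_cases hi : (i : ℕ) + 1 < r
        · exact Submodule.subset_span ⟨⟨(i : ℕ) + 1, hi⟩, rfl⟩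
        · have : (i : ℕ).succ = r := by have := i.2; omega
          rw [this]
          exact hmem
      have hSbot : S ≠ ⊥ := by
        intro h
        rw [h] at hwS
        exact hw ((Submodule.mem_bot k).mp hwS)
      have hlt : Module.finrank k (V ⧸ S) < n := by
        have h1 := Submodule.finrank_quotient_add_finrank S
        have h2 : 0 < Module.finrank k S := by
          rw [Module.finrank_pos_iff_exists_ne_zero]
          exact ⟨⟨w, hwS⟩, fun h => hw (congrArg Subtype.val h)⟩
        omega
      obtain ⟨ubar, hu⟩ := ih _ hlt (V ⧸ S) rfl (S.mapQ S F hstab) (S.mkQ v)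
      obtain ⟨u, rfl⟩ := S.mkQ_surjective ubar
      have hvS : v - (F u - u) ∈ S := by
        have : S.mkQ (v - (F u - u)) = 0 := by
          rw [map_sub, ← hu]
          simp
        exact (Submodule.Quotient.mk_eq_zero S).mp this
      obtain ⟨a', ha'⟩ := (Submodule.mem_span_range_iff_exists_fun k).mp hvS
      let a : ℕ → k := fun i => if h : i < r then a' ⟨i, h⟩ else 0
      have hva : v - (F u - u) = ∑ i ∈ Finset.range r, a i • F^[i] w := by
        rw [← ha', ← Fin.sum_univ_eq_sum_range (fun i => a i • F^[i] w) r]
        refine Finset.sum_congr rfl (fun i _ => ?_)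
        simp [a, i.2]
      obtain ⟨s, hs⟩ := exists_of_cyclic p F w r c hrc a
      refine ⟨u + s, ?_⟩
      change F (u + s) - (u + s) = v
      rw [map_add]
      have : F s - s = v - (F u - u) := by rw [hs, hva]
      calc F u + F s - (u + s) = (F u - u) + (F s - s) := by abel
        _ = v := by rw [this]; abel

/-- Main statement, semilinear version. -/
theorem surjective_sub [IsSepClosed k] [FiniteDimensional k V] (F : V →ₛₗ[frobenius k p] V) :
    Function.Surjective (fun v => F v - v) :=
  surjective_aux p _ V rfl F

/-- Main statement, additive version. -/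
theorem surjective_sub' [IsSepClosed k] [FiniteDimensional k V] (F : V →+ V)
    (hF : ∀ (r : k) (v : V), F (r • v) = r ^ p • F v) :
    Function.Surjective (fun v => F v - v) := by
  let F' : V →ₛₗ[frobenius k p] V :=
    { toFun := F
      map_add' := F.map_add
      map_smul' := fun r v => by rw [hF, frobenius_def] }
  exact surjective_sub p F'

/-- Fixed points are finite. -/
theorem finite_fixed [FiniteDimensional k V] (F : V →+ V)
    (hF : ∀ (r : k) (v : V), F (r • v) = r ^ p • F v) :
    Finite {v : V // F v = v} := by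
  classical
  obtain ⟨b, hbt, hspan, hli⟩ := exists_linearIndependent k {v : V | F v = v}
  haveI : Finite b := hli.finite
  haveI : Fintype b := Fintype.ofFinite b
  -- the finite set of roots
  have hRfin : Set.Finite {x : k | x ^ p = x} := by
    have hne : (X ^ p - X : k[X]) ≠ 0 := by
      intro h
      have := congrArg (fun q => q.coeff p) h
      have hp1 : (1 : ℕ) ≠ p := hp.out.ne_one.symm
      simp [coeff_X, hp1] at this
    refine Set.Finite.subset ((X ^ p - X : k[X]).roots.toFinset.finite_toSet) ?_
    intro x hx
    simp only [Finset.mem_coe, Multiset.mem_toFinset, mem_roots hne, IsRoot, eval_sub, eval_pow,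
      eval_X]
    have hx : x ^ p = x := hx
    rw [hx, sub_self]
  haveI : Finite {x : k | x ^ p = x} := hRfin.to_subtype
  let g : (b → {x : k | x ^ p = x}) → V := fun l => ∑ i, ((l i : k)) • (i : V)
  have hsub : {v : V | F v = v} ⊆ Set.range g := by
    intro v hv
    have hv' : v ∈ Submodule.span k (Set.range ((↑) : b → V)) := by
      rw [Subtype.range_coe, hspan]
      exact Submodule.subset_span hv
    obtain ⟨l, hl⟩ := (Submodule.mem_span_range_iff_exists_fun k).mp hv'
    have hFv : F v = ∑ i, (l i)^p • (i : V) := by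
      rw [← hl, map_sum]
      refine Finset.sum_congr rfl (fun i _ => ?_)
      rw [hF, hbt i.2]
    have hzero : ∑ i, ((l i)^p - l i) • (i : V) = 0 := by
      simp only [sub_smul, Finset.sum_sub_distrib]
      rw [← hFv, hl, hv, sub_self]
    have hcoef := Fintype.linearIndependent_iff.mp hli _ hzero
    refine ⟨fun i => ⟨l i, sub_eq_zero.mp (hcoef i)⟩, hl⟩
  exact (Set.Finite.subset (Set.finite_range g) hsub).to_subtype

end Groth.Agent.Lib.FrobSurjH8
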