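import Mathlib
import Groth.Prelude
import Groth.Agent.Lib.CohDev12_helper8
import Groth.Agent.Lib.ClPush1_helper8

/-!
# Dévissage of coherent modules, XIII: ideal sheaves of integral closed subschemes as
sub-generators (helper8)
APPEND-ONLY once landed.
-/

set_option autoImplicit false

namespace CohDevH8

open AlgebraicGeometry CategoryTheory CategoryTheory.Limits TopologicalSpace Opposite
open QcqsLoc QCohExtn IsLocalRing

universe u

variable {X : Scheme.{u}}

section StalkEquiv

/-- Quasi-coherent modules with isomorphic sections over an affine neighbourhood of `y` have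
isomorphic stalks at `y`. -/
theorem nonempty_stalk_equiv_of_sections_equiv (F G : X.Modules) [F.IsQuasicoherent]
    [G.IsQuasicoherent] {V : X.Opens} (hV : IsAffineOpen V) {y : X} (hyV : y ∈ V)
    (e : Γ(F, V) ≃ₗ[Γ(X, V)] Γ(G, V)) :
    Nonempty (F.presheaf.stalk y ≃ₗ[X.presheaf.stalk y] G.presheaf.stalk y) := by
  letI := StalkLocH8.modSec F hyV
  letI := StalkLocH8.modSec G hyV
  haveI := StalkLocH8.isLocalizedModule_germLin F hV hyV
  haveI := StalkLocH8.isLocalizedModule_germLin G hV hyV
  letI := TopCat.Presheaf.algebra_section_stalk X.presheaf (⟨y, hyV⟩ : V)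
  haveI : IsLocalization.AtPrime (X.presheaf.stalk y) (hV.primeIdealOf ⟨y, hyV⟩).asIdeal :=
    hV.isLocalization_stalk ⟨y, hyV⟩
  haveI : IsScalarTower Γ(X, V) (X.presheaf.stalk y) (F.presheaf.stalk y) :=
    IsScalarTower.of_algebraMap_smul (fun _ _ => rfl)
  haveI : IsScalarTower Γ(X, V) (X.presheaf.stalk y) (G.presheaf.stalk y) :=
    IsScalarTower.of_algebraMap_smul (fun _ _ => rfl)
  exact ⟨IsLocalizedModule.mapEquiv (hV.primeIdealOf ⟨y, hyV⟩).asIdeal.primeCompl
    (StalkLocH8.germLin F hyV) (StalkLocH8.germLin G hyV) (X.presheaf.stalk y) e⟩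

/-- A point outside `V(J)` has an affine neighbourhood on which `J` is the unit ideal. -/
theorem exists_affine_ideal_eq_top (J : X.IdealSheafData) {y : X}
    (hy : y ∉ (J.support : Set X)) :
    ∃ (V : X.Opens) (hV : IsAffineOpen V), y ∈ V ∧ J.ideal ⟨V, hV⟩ = ⊤ := by
  obtain ⟨U, hU', hyU, -⟩ := Opens.isBasis_iff_nbhd.mp X.isBasis_affineOpens (Opens.mem_top y)
  have hU : IsAffineOpen U := hU'
  have h1 : y ∉ J.support := hy
  rw [Scheme.IdealSheafData.mem_support_iff_of_mem (I := J) (U := ⟨U, hU⟩) hyU,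
    Scheme.mem_zeroLocus_iff] at h1
  push Not at h1
  obtain ⟨f, hf, hyf⟩ := h1
  refine ⟨X.basicOpen f, hU.basicOpen f, hyf, ?_⟩
  have h2 := J.map_ideal_basicOpen ⟨U, hU⟩ f
  have h3 : (X.presheaf.map (homOfLE (X.basicOpen_le f)).op).hom f ∈
      J.ideal (X.affineBasicOpen f) := by
    rw [← h2]
    exact Ideal.mem_map_of_mem _ hf
  exact Ideal.eq_top_of_isUnit_mem _ h3 (RingedSpace.isUnit_res_basicOpen _ f)

/-- Away from `V(J)`, the stalks of `J·G` and `G` agree. -/
theorem nonempty_stalk_idealMul_equiv [IsLocallyNoetherian X] (J : X.IdealSheafData)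
    {G : X.Modules} (hG : Coh.IsCoh G) {y : X} (hy : y ∉ (J.support : Set X)) :
    Nonempty (((Dual3.idealMul J).obj G).presheaf.stalk y ≃ₗ[X.presheaf.stalk y]
      G.presheaf.stalk y) := by
  haveI := hG.1
  haveI := (isCoh_idealMul J G hG).1
  obtain ⟨V, hV, hyV, hJV⟩ := exists_affine_ideal_eq_top J hy
  have hb := idealMulι_app_bijective J G hV hJV
  exact nonempty_stalk_equiv_of_sections_equiv _ _ hV hyV
    (LinearEquiv.ofBijective (RelFPAff.appₗ (Dual3.idealMulι J G) V) hb)

end StalkEquiv

section Faithful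

variable {T : Scheme.{u}} (i : T ⟶ X)

/-- Direct image along a topological embedding is faithful. -/
theorem pushforward_map_injective (hi : Topology.IsEmbedding i) {A B : T.Modules}
    (φ ψ : A ⟶ B)
    (h : (Scheme.Modules.pushforward i).map φ = (Scheme.Modules.pushforward i).map ψ) :
    φ = ψ := by
  apply Scheme.Modules.hom_ext
  intro V
  obtain ⟨W', hW'o, hW'⟩ := hi.isInducing.isOpen_iff.mp V.isOpen
  have hV : V = i ⁻¹ᵁ (⟨W', hW'o⟩ : X.Opens) := by
    apply Opens.ext
    exact hW'.symm
  subst hV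
  have := congrArg (fun α => Scheme.Modules.Hom.app α (⟨W', hW'o⟩ : X.Opens)) h
  exact this

theorem mono_of_mono_pushforward_map (hi : Topology.IsEmbedding i) {A B : T.Modules}
    (φ : A ⟶ B) [Mono ((Scheme.Modules.pushforward i).map φ)] : Mono φ := by
  constructor
  intro C g h hgh
  apply pushforward_map_injective i hi
  rw [← cancel_mono ((Scheme.Modules.pushforward i).map φ), ← Functor.map_comp,
    ← Functor.map_comp, hgh]

end Faithful

section IdealOfMono

variable (J : X.IdealSheafData)

/-- A submodule of a module killed by `J` is killed by `J`. -/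
theorem killedByIdeal_of_mono {A B : X.Modules} (a : A ⟶ B) [Mono a]
    (hB : ClSub.KilledByIdeal J B) : ClSub.KilledByIdeal J A := by
  intro U r hr s
  apply QCohExact.app_injective_of_mono a U.1
  show ap a U.1 (r • s) = ap a U.1 0
  have e1 : ap a U.1 (r • s) = r • ap a U.1 s := ap_smul _ r s
  rw [e1, map_zero]
  exact hB U r hr _

/-- A quasi-coherent submodule of `i_* O_T`, for `i : T → X` the closed immersion of `V(J)`, is
the direct image of a quasi-coherent ideal of `O_T`. -/
theorem exists_ideal_of_mono (A : X.Modules) [A.IsQuasicoherent]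
    (a : A ⟶ (Scheme.Modules.pushforward J.subschemeι).obj (Coh.structureModule J.subscheme))
    [Mono a] :
    ∃ (I' : J.subscheme.Modules) (ι : I' ⟶ Coh.structureModule J.subscheme), Mono ι ∧
      Coh.IsQCoh I' ∧ Nonempty ((Scheme.Modules.pushforward J.subschemeι).obj I' ≅ A) := by
  have hk : ClSub.KilledByIdeal J.subschemeι.ker A := by
    rw [Scheme.IdealSheafData.ker_subschemeι]
    exact killedByIdeal_of_mono J a (killedByIdeal_pushforward J _)
  haveI hiso := ClPushH8.isIso_unit J.subschemeι A hk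
  let adj := Scheme.Modules.pullbackPushforwardAdjunction J.subschemeι
  let ι : (Scheme.Modules.pullback J.subschemeι).obj A ⟶ Coh.structureModule J.subscheme :=
    (adj.homEquiv A _).symm a
  have hι : adj.unit.app A ≫ (Scheme.Modules.pushforward J.subschemeι).map ι = a := by
    have h1 := (adj.homEquiv A (Coh.structureModule J.subscheme)).apply_symm_apply a
    rw [Adjunction.homEquiv_unit] at h1
    exact h1
  haveI : Mono (adj.unit.app A ≫ (Scheme.Modules.pushforward J.subschemeι).map ι) := by
    rw [hι]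
    infer_instance
  haveI : Mono ((Scheme.Modules.pushforward J.subschemeι).map ι) := by
    have h2 : (Scheme.Modules.pushforward J.subschemeι).map ι =
        inv (adj.unit.app A) ≫ (adj.unit.app A ≫
          (Scheme.Modules.pushforward J.subschemeι).map ι) := by
      rw [IsIso.inv_hom_id_assoc]
    rw [h2]
    exact mono_comp _ _
  refine ⟨(Scheme.Modules.pullback J.subschemeι).obj A, ι,
    mono_of_mono_pushforward_map J.subschemeι J.subschemeι.isEmbedding ι, inferInstance,
    ⟨(asIso (adj.unit.app A)).symm⟩⟩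

end IdealOfMono

section IdealStep

variable [IsNoetherian X] (P : X.Modules → Prop)
  (hP : ∀ M N : X.Modules, Nonempty (M ≅ N) → P M → P N)
  (hext : ∀ S : ShortComplex X.Modules, S.ShortExact → Coh.IsCoh S.X₁ → Coh.IsCoh S.X₂ →
    Coh.IsCoh S.X₃ → P S.X₁ → P S.X₃ → P S.X₂)

include hP in
/-- The structure sheaf of the reduced closed subscheme on `Z = closure {y}` satisfies the
sub-generator condition of `step_of_subgenerators` as soon as `P` holds for the direct images of
all quasi-coherent ideals of that subscheme. -/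
theorem hsub_structure (Z : Set X) (hZ : IsClosed Z) (y : X)
    (hideal : ∀ (I : (Scheme.IdealSheafData.vanishingIdeal ⟨Z, hZ⟩).subscheme.Modules)
      (ι : I ⟶ Coh.structureModule _), Mono ι → Coh.IsQCoh I →
      P ((Scheme.Modules.pushforward (Scheme.IdealSheafData.vanishingIdeal ⟨Z, hZ⟩).subschemeι).obj
        I))
    (J : X.IdealSheafData) (hy : y ∉ (J.support : Set X)) :
    ∃ (G' : X.Modules) (ι' : G' ⟶ (Dual3.idealMul J).obj
        (quotJ (Scheme.IdealSheafData.vanishingIdeal ⟨Z, hZ⟩) (Coh.structureModule X))),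
      Mono ι' ∧ Coh.IsCoh G' ∧
      Nonempty (G'.presheaf.stalk y ≃ₗ[X.presheaf.stalk y]
        (quotJ (Scheme.IdealSheafData.vanishingIdeal ⟨Z, hZ⟩)
          (Coh.structureModule X)).presheaf.stalk y) ∧ P G' := by
  have hO := isCoh_structureModule X
  have hQ := isCoh_quotJ (Scheme.IdealSheafData.vanishingIdeal ⟨Z, hZ⟩) _ hO
  have hJQ := isCoh_idealMul J _ hQ
  haveI := hJQ.1
  refine ⟨_, 𝟙 _, inferInstance, hJQ, nonempty_stalk_idealMul_equiv J hQ hy, ?_⟩
  obtain ⟨I', ι, hι, hqI, ⟨e⟩⟩ := exists_ideal_of_mono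
    (Scheme.IdealSheafData.vanishingIdeal ⟨Z, hZ⟩) _
    (Dual3.idealMulι J _ ≫ (quotJStructureIso (Scheme.IdealSheafData.vanishingIdeal ⟨Z, hZ⟩)).hom)
  exact hP _ _ ⟨e⟩ (hideal I' ι hι hqI)

include hP hext in
/-- The irreducible step of the dévissage for an extension-closed class containing the direct
images of all quasi-coherent ideals of the integral closed subscheme on `Z`. -/
theorem ideal_devissage_step (Z : Set X) (hZ : IsClosed Z) (y : X) (hy : closure {y} = Z)
    (hideal : ∀ (I : (Scheme.IdealSheafData.vanishingIdeal ⟨Z, hZ⟩).subscheme.Modules)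
      (ι : I ⟶ Coh.structureModule _), Mono ι → Coh.IsQCoh I →
      P ((Scheme.Modules.pushforward (Scheme.IdealSheafData.vanishingIdeal ⟨Z, hZ⟩).subschemeι).obj
        I))
    (IH : ∀ M : X.Modules, Coh.IsCoh M → CohB1.support M ⊆ Z → CohB1.support M ≠ Z → P M)
    (F : X.Modules) (hF : Coh.IsCoh F)
    (hk : ClSub.KilledByIdeal (Scheme.IdealSheafData.vanishingIdeal ⟨Z, hZ⟩) F) : P F := by
  have hO := isCoh_structureModule X
  have hQ := isCoh_quotJ (Scheme.IdealSheafData.vanishingIdeal ⟨Z, hZ⟩) _ hO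
  haveI := hQ.1
  haveI := hQ.2
  have hQZ : CohB1.support (quotJ (Scheme.IdealSheafData.vanishingIdeal ⟨Z, hZ⟩)
      (Coh.structureModule X)) ⊆ Z := by
    have h1 := support_subset_of_killed _ _
      (killed_quotJ (Scheme.IdealSheafData.vanishingIdeal ⟨Z, hZ⟩) (Coh.structureModule X))
    rwa [Scheme.IdealSheafData.coe_support_vanishingIdeal] at h1
  obtain ⟨l⟩ := nonempty_stalk_quotJ_equiv Z hZ y hy
  exact step_of_subgenerators P hext Z hZ y hy IH hQ hQZ 0
    (l.trans (LinearEquiv.funUnique (Fin 1) (X.presheaf.stalk y) _).symm)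
    (hsub_structure P hP Z hZ y hideal) F hF hk

end IdealStep

end CohDevH8
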