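import Mathlib
import Groth.Prelude
import Groth.Agent.Lib.CohDev13_helper8

/-!
# Dévissage of coherent modules, XIV: small complements (helper8)
APPEND-ONLY once landed.
-/

set_option autoImplicit false

namespace CohDevH8

open AlgebraicGeometry CategoryTheory CategoryTheory.Limits TopologicalSpace Opposite
open QcqsLoc QCohExtn IsLocalRing

universe u

variable {X : Scheme.{u}}

/-- A quasi-coherent submodule of a coherent module on a locally Noetherian scheme is coherent. -/
theorem isCoh_of_mono [IsLocallyNoetherian X] {A B : X.Modules} (a : A ⟶ B) [Mono a]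
    (hA : A.IsQuasicoherent) (hB : Coh.IsCoh B) : Coh.IsCoh A := by
  haveI := hA
  haveI := hB.1
  haveI := hB.2
  refine ⟨hA, ?_⟩
  refine QCohCrit.isFiniteType_of_sections_cover A (fun V : X.affineOpens => (V : X.Opens))
    (fun V => V.2) (iSup_affineOpens_eq_top X) (fun V => ?_)
  haveI := IsLocallyNoetherian.component_noetherian V
  haveI : Module.Finite Γ(X, V.1) Γ(B, V.1) := QCohFT.finite_of_isFiniteType B V.2
  exact Module.Finite.of_injective (RelFPAff.appₗ a V.1)
    (QCohExact.app_injective_of_mono a V.1)

/-- A morphism inducing an isomorphism on stalks at `y` gives a linear equivalence of stalks. -/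
theorem nonempty_stalk_equiv_of_isIso {A B : X.Modules} (φ : A ⟶ B) (y : X)
    (h : IsIso ((TopCat.Presheaf.stalkFunctor _ y).map φ.mapPresheaf)) :
    Nonempty (A.presheaf.stalk y ≃ₗ[X.presheaf.stalk y] B.presheaf.stalk y) := by
  have hb : Function.Bijective (Algz.stalkMapₗ φ y) :=
    ConcreteCategory.bijective_of_isIso ((TopCat.Presheaf.stalkFunctor _ y).map φ.mapPresheaf)
  exact ⟨LinearEquiv.ofBijective (Algz.stalkMapₗ φ y) hb⟩

end CohDevH8
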