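import Mathlib
import Groth.Prelude
import Groth.Agent.Lib.CohDev14_helper8

/-!
# Dévissage of coherent modules, XV: filtrations with quotients `i_* I` (helper8)
APPEND-ONLY once landed.
-/

set_option autoImplicit false

namespace CohDevH8

open AlgebraicGeometry CategoryTheory CategoryTheory.Limits TopologicalSpace Opposite
open QcqsLoc QCohExtn IsLocalRing

universe u

variable {X : Scheme.{u}}

section Chain

/-- `Q` is isomorphic to the direct image of a nonzero quasi-coherent ideal of an integral closed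
subscheme. -/
def IsIdealPush (Q : X.Modules) : Prop :=
  ∃ (Z : Scheme.{u}) (i : Z ⟶ X), IsClosedImmersion i ∧ IsIntegral Z ∧
    ∃ (I : Z.Modules) (ι : I ⟶ Coh.structureModule Z), Mono ι ∧ Coh.IsQCoh I ∧ ¬ IsZero I ∧
      Nonempty (Q ≅ (Coh.push i).obj I)

theorem IsIdealPush.of_iso {Q Q' : X.Modules} (e : Q' ≅ Q) (h : IsIdealPush Q) :
    IsIdealPush Q' := by
  obtain ⟨Z, i, h1, h2, I, ι, h3, h4, h5, ⟨e'⟩⟩ := h
  exact ⟨Z, i, h1, h2, I, ι, h3, h4, h5, ⟨e ≪≫ e'⟩⟩

/-- `Chain A M`: there is a finite chain of monomorphisms of coherent modules from `A` to (a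
module isomorphic to) `M` whose successive quotients are direct images of nonzero ideals of
integral closed subschemes. -/
inductive Chain : X.Modules → X.Modules → Prop
  | refl (A M : X.Modules) (e : A ≅ M) (hA : Coh.IsCoh A) : Chain A M
  | cons (A' A M : X.Modules) (ψ : A' ⟶ A) (hψ : Mono ψ) (hc : IsIdealPush (cokernel ψ))
      (hA' : Coh.IsCoh A') (h : Chain A M) : Chain A' M

theorem Chain.isCoh_left {A M : X.Modules} (h : Chain A M) : Coh.IsCoh A := by
  cases h with
  | refl _ _ e hA => exact hA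
  | cons _ _ _ ψ hψ hc hA' h => exact hA'

/-- Change the top of a chain by an isomorphism. -/
theorem Chain.of_iso {A M M' : X.Modules} (h : Chain A M) (e : M ≅ M') : Chain A M' := by
  induction h with
  | refl A M e' hA => exact Chain.refl A M' (e' ≪≫ e) hA
  | cons A' A M ψ hψ hc hA' h ih => exact Chain.cons A' A M' ψ hψ hc hA' (ih e)

/-- Add one step at the top of a chain. -/
theorem Chain.snoc {A N B : X.Modules} (h : Chain A N) (ψ₀ : N ⟶ B) [Mono ψ₀]
    (hc : IsIdealPush (cokernel ψ₀)) (hB : Coh.IsCoh B) : Chain A B := by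
  induction h with
  | refl A N e hA =>
    refine Chain.cons A B B (e.hom ≫ ψ₀) (mono_comp _ _) ?_ hA (Chain.refl B B (Iso.refl B) hB)
    exact hc.of_iso (cokernel.mapIso (e.hom ≫ ψ₀) ψ₀ e (Iso.refl B) (by simp))
  | cons A' A N ψ hψ hc' hA' h ih => exact Chain.cons A' A B ψ hψ hc' hA' (ih ψ₀ hc)

/-- A chain gives an explicit filtration indexed by `ℕ`. -/
theorem Chain.exists_filtration {A M : X.Modules} (h : Chain A M) :
    ∃ (m : ℕ) (F : ℕ → X.Modules) (φ : (j : ℕ) → (F j ⟶ F (j + 1))),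
      F 0 = A ∧ Nonempty (F m ≅ M) ∧ (∀ j ≤ m, Coh.IsCoh (F j)) ∧ ∀ j < m, Mono (φ j) ∧
        IsIdealPush (cokernel (φ j)) := by
  induction h with
  | refl A M e hA =>
    exact ⟨0, fun _ => A, fun _ => 𝟙 A, rfl, ⟨e⟩, fun _ _ => hA, fun j hj => absurd hj (by omega)⟩
  | cons A' A M ψ hψ hc hA' h ih =>
    obtain ⟨m, F, φ, rfl, ⟨e⟩, hcoh, hsteps⟩ := ih
    refine ⟨m + 1, fun j => Nat.casesOn j A' F,
      fun j => Nat.casesOn j ψ φ, rfl, ⟨e⟩, ?_, ?_⟩
    · intro j hj
      cases j with
      | zero => exact hA'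
      | succ j => exact hcoh j (by omega)
    · intro j hj
      cases j with
      | zero => exact ⟨hψ, hc⟩
      | succ j => exact hsteps j (by omega)

end Chain

section Stack

/-- `M` admits a finite filtration starting from a zero module whose quotients are direct images
of nonzero ideals of integral closed subschemes. -/
def HasFilt (M : X.Modules) : Prop := ∃ A : X.Modules, IsZero A ∧ Chain A M

theorem HasFilt.of_iso {M M' : X.Modules} (h : HasFilt M) (e : M ≅ M') : HasFilt M' := by
  obtain ⟨A, hA, hch⟩ := h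
  exact ⟨A, hA, hch.of_iso e⟩

/-- `M` can be stacked on top of any filtered module. -/
def Stack (M : X.Modules) : Prop :=
  ∀ (B : X.Modules), Coh.IsCoh B → ∀ (π : B ⟶ M), Epi π → HasFilt (kernel π) → HasFilt B

theorem hasFilt_of_stack [IsLocallyNoetherian X] {M : X.Modules} (hM : Coh.IsCoh M)
    (h : Stack M) : HasFilt M :=
  h M hM (𝟙 M) inferInstance
    ⟨kernel (𝟙 M), isZero_kernel_of_mono _,
      Chain.refl _ _ (Iso.refl _) (CohKerH8.isCoh_kernel hM hM _)⟩

theorem stack_of_isZero {M : X.Modules} (hM : IsZero M) : Stack M := by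
  intro B hB π hπ hf
  obtain rfl : π = 0 := hM.eq_of_tgt _ _
  exact hf.of_iso (asIso (kernel.ι (0 : B ⟶ M)))

theorem stack_of_iso {M M' : X.Modules} (e : M ≅ M') (h : Stack M) : Stack M' := by
  intro B hB π hπ hf
  haveI := hπ
  exact h B hB (π ≫ e.inv) (epi_comp _ _) (hf.of_iso (kernelCompMono π e.inv).symm)

theorem stack_of_isIdealPush {M : X.Modules} (h : IsIdealPush M) : Stack M := by
  intro B hB π hπ hf
  haveI := hπ
  obtain ⟨A, hA, hch⟩ := hf
  have e : cokernel (kernel.ι π) ≅ M :=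
    IsColimit.coconePointUniqueUpToIso (colimit.isColimit _)
      (Abelian.epiIsCokernelOfKernel (KernelFork.ofι (kernel.ι π) (kernel.condition π))
        (kernelIsKernel π))
  exact ⟨A, hA, hch.snoc (kernel.ι π) (h.of_iso e) hB⟩

/-- The class of stackable modules is closed under extensions. -/
theorem stack_ext [IsLocallyNoetherian X] (S : ShortComplex X.Modules) (hS : S.ShortExact)
    (h1c : Coh.IsCoh S.X₁) (h2c : Coh.IsCoh S.X₂) (h3c : Coh.IsCoh S.X₃)
    (h1 : Stack S.X₁) (h3 : Stack S.X₃) : Stack S.X₂ := by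
  intro B hB π hπ hf
  haveI := hπ
  haveI := hS.mono_f
  haveI := hS.epi_g
  -- the preimage of `S.X₁` in `B`
  have hK : Coh.IsCoh (kernel (π ≫ S.g)) := CohKerH8.isCoh_kernel hB h3c _
  let ρ : kernel (π ≫ S.g) ⟶ S.X₁ :=
    hS.exact.lift (kernel.ι (π ≫ S.g) ≫ π) (by rw [Category.assoc, kernel.condition])
  have hρ : ρ ≫ S.f = kernel.ι (π ≫ S.g) ≫ π := hS.exact.lift_f _ _
  -- `ρ` is an epimorphism, as a pullback of `π`
  haveI hρe : Epi ρ := by
    let c : PullbackCone π S.f := PullbackCone.mk (kernel.ι (π ≫ S.g)) ρ hρ.symm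
    have hc : IsLimit c := by
      refine PullbackCone.IsLimit.mk hρ.symm
        (fun s => kernel.lift (π ≫ S.g) s.fst (by
          rw [← Category.assoc, s.condition, Category.assoc, S.zero, comp_zero])) ?_ ?_ ?_
      · intro s
        exact kernel.lift_ι _ _ _
      · intro s
        rw [← cancel_mono S.f, Category.assoc, hρ, ← Category.assoc, kernel.lift_ι]
        exact s.condition
      · intro s m hm1 _
        rw [← cancel_mono (kernel.ι (π ≫ S.g)), hm1, kernel.lift_ι]
    exact Abelian.epi_snd_of_isLimit π S.f hc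
  -- the kernel of `ρ` is the kernel of `π`
  obtain ⟨a, ha⟩ : ∃ a : kernel π ⟶ kernel ρ,
      a ≫ kernel.ι ρ ≫ kernel.ι (π ≫ S.g) = kernel.ι π := by
    have h1 : kernel.ι π ≫ π ≫ S.g = 0 := by
      rw [← Category.assoc, kernel.condition, zero_comp]
    have h2 : kernel.lift (π ≫ S.g) (kernel.ι π) h1 ≫ ρ = 0 := by
      rw [← cancel_mono S.f, Category.assoc, hρ, ← Category.assoc, kernel.lift_ι,
        kernel.condition, zero_comp]
    refine ⟨kernel.lift ρ (kernel.lift (π ≫ S.g) (kernel.ι π) h1) h2, ?_⟩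
    rw [← Category.assoc, kernel.lift_ι, kernel.lift_ι]
  obtain ⟨b, hb⟩ : ∃ b : kernel ρ ⟶ kernel π,
      b ≫ kernel.ι π = kernel.ι ρ ≫ kernel.ι (π ≫ S.g) := by
    have h1 : (kernel.ι ρ ≫ kernel.ι (π ≫ S.g)) ≫ π = 0 := by
      rw [Category.assoc, ← hρ, ← Category.assoc, kernel.condition, zero_comp]
    exact ⟨kernel.lift π (kernel.ι ρ ≫ kernel.ι (π ≫ S.g)) h1, kernel.lift_ι _ _ _⟩
  have eK : kernel π ≅ kernel ρ :=
    { hom := a
      inv := b
      hom_inv_id := by
        rw [← cancel_mono (kernel.ι π), Category.assoc, hb, ha, Category.id_comp]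
      inv_hom_id := by
        rw [← cancel_mono (kernel.ι ρ), ← cancel_mono (kernel.ι (π ≫ S.g)), Category.assoc,
          Category.assoc, Category.assoc, ha, hb, Category.id_comp] }
  have hfK : HasFilt (kernel (π ≫ S.g)) := h1 _ hK ρ hρe (hf.of_iso eK)
  exact h3 B hB (π ≫ S.g) (epi_comp _ _) hfK

end Stack

section Main

/-- On a Noetherian scheme, every coherent module has a finite filtration whose successive
quotients are direct images of nonzero quasi-coherent ideals of integral closed subschemes. -/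
theorem hasFilt_of_isCoh [IsNoetherian X] (M : X.Modules) (hM : Coh.IsCoh M) : HasFilt M := by
  have hiso : ∀ M N : X.Modules, Nonempty (M ≅ N) → Stack M → Stack N :=
    fun M N ⟨e⟩ h => stack_of_iso e h
  have hext : ∀ S : ShortComplex X.Modules, S.ShortExact → Coh.IsCoh S.X₁ → Coh.IsCoh S.X₂ →
      Coh.IsCoh S.X₃ → Stack S.X₁ → Stack S.X₃ → Stack S.X₂ :=
    fun S hS c1 c2 c3 h1 h3 => stack_ext S hS c1 c2 c3 h1 h3
  have hstep : ∀ (Z : Set X) (hZ : IsClosed Z), IsIrreducible Z → Z ⊆ Set.univ →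
      (∀ M : X.Modules, Coh.IsCoh M → CohB1.support M ⊆ Z → CohB1.support M ≠ Z → Stack M) →
      ∀ F : X.Modules, Coh.IsCoh F →
        ClSub.KilledByIdeal (Scheme.IdealSheafData.vanishingIdeal ⟨Z, hZ⟩) F → Stack F := by
    intro Z hZ hZirr _ IH F hF hk
    have hy : closure {hZirr.genericPoint} = Z := hZirr.closure_genericPoint hZ
    obtain ⟨hint, -⟩ := exists_isIntegral_subscheme Z hZ _ hy
    refine ideal_devissage_step Stack hiso hext Z hZ _ hy ?_ IH F hF hk
    intro I ι hι hI
    by_cases hz : IsZero I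
    · exact stack_of_isZero ((Scheme.Modules.pushforward _).map_isZero hz)
    · exact stack_of_isIdealPush ⟨_, (Scheme.IdealSheafData.vanishingIdeal ⟨Z, hZ⟩).subschemeι,
        inferInstance, hint, I, ι, hι, hI, hz, ⟨Iso.refl _⟩⟩
  exact hasFilt_of_stack hM (induction_on_support Stack hiso (fun M hM => stack_of_isZero hM) hext
    Set.univ hstep M hM (Set.subset_univ _))

end Main

end CohDevH8
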