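import Mathlib
import Groth.Prelude
import Groth.Agent.Lib.CohDev15_helper8
import Groth.Agent.Lib.QcqsLoc_helper9

/-!
# Dévissage of coherent modules, XVI: coherence of direct images (helper8)
APPEND-ONLY once landed.
-/

set_option autoImplicit false

namespace CohDevH8

open AlgebraicGeometry CategoryTheory CategoryTheory.Limits TopologicalSpace Opposite
open QcqsLoc QCohExtn IsLocalRing

universe u

variable {X Y : Scheme.{u}}

section PushCoh

variable [IsNoetherian X] [IsLocallyNoetherian Y] (f : X ⟶ Y)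

theorem isQuasicoherent_pushforward_of_noetherian (F : X.Modules) [F.IsQuasicoherent] :
    ((Scheme.Modules.pushforward f).obj F).IsQuasicoherent := by
  haveI : QuasiCompact f := inferInstance
  haveI : QuasiSeparated f := inferInstance
  exact QcqsLoc.isQuasicoherent_pushforward_qcqs f F

/-- If `A → B` is a monomorphism of quasi-coherent modules on `X` and `f_* B` is coherent, then
`f_* A` is coherent. -/
theorem isCoh_pushforward_of_mono {A B : X.Modules} (a : A ⟶ B) [Mono a] [A.IsQuasicoherent]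
    (hB : Coh.IsCoh ((Scheme.Modules.pushforward f).obj B)) :
    Coh.IsCoh ((Scheme.Modules.pushforward f).obj A) := by
  haveI : Mono ((Scheme.Modules.pushforward f).map a) := inferInstance
  exact isCoh_of_mono ((Scheme.Modules.pushforward f).map a)
    (isQuasicoherent_pushforward_of_noetherian f A) hB

/-- If `0 → A → B → C` is exact with `A, B, C` quasi-coherent on `X` and `f_* A`, `f_* C`
coherent, then `f_* B` is coherent. -/
theorem isCoh_pushforward_of_exact (S : ShortComplex X.Modules) (hS : S.ShortExact)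
    [S.X₂.IsQuasicoherent]
    (h1 : Coh.IsCoh ((Scheme.Modules.pushforward f).obj S.X₁))
    (h3 : Coh.IsCoh ((Scheme.Modules.pushforward f).obj S.X₃)) :
    Coh.IsCoh ((Scheme.Modules.pushforward f).obj S.X₂) := by
  haveI := hS.mono_f
  haveI := h1.1
  haveI := h1.2
  haveI := h3.1
  haveI := h3.2
  have hq := isQuasicoherent_pushforward_of_noetherian f S.X₂
  haveI := hq
  refine ⟨hq, ?_⟩
  refine QCohCrit.isFiniteType_of_sections_cover _ (fun V : Y.affineOpens => (V : Y.Opens))
    (fun V => V.2) (iSup_affineOpens_eq_top Y) (fun V => ?_)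
  haveI := IsLocallyNoetherian.component_noetherian V
  haveI : Module.Finite Γ(Y, V.1) Γ((Scheme.Modules.pushforward f).obj S.X₁, V.1) :=
    QCohFT.finite_of_isFiniteType _ V.2
  haveI : Module.Finite Γ(Y, V.1) Γ((Scheme.Modules.pushforward f).obj S.X₃, V.1) :=
    QCohFT.finite_of_isFiniteType _ V.2
  let a := RelFPAff.appₗ ((Scheme.Modules.pushforward f).map S.f) V.1
  let b := RelFPAff.appₗ ((Scheme.Modules.pushforward f).map S.g) V.1
  have hexact : LinearMap.ker b ≤ LinearMap.range a := by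
    intro x hx
    obtain ⟨y, hy⟩ := QCohExact.app_exact S hS.exact (f ⁻¹ᵁ V.1) x hx
    exact ⟨y, hy⟩
  constructor
  refine Submodule.fg_of_fg_map_of_fg_inf_ker b ?_ ?_
  · exact IsNoetherian.noetherian _
  · rw [top_inf_eq]
    refine Submodule.FG.of_le (T := LinearMap.range a) ?_ hexact
    rw [LinearMap.range_eq_map]
    exact Submodule.FG.map a Module.Finite.fg_top

end PushCoh

section Zero

theorem isCoh_of_isZero [IsLocallyNoetherian X] {M : X.Modules} (h : IsZero M) : Coh.IsCoh M := by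
  have hO := isCoh_structureModule X
  exact isCoh_of_iso (h.iso (isZero_kernel_of_mono (𝟙 (Coh.structureModule X))))
    (CohKerH8.isCoh_kernel hO hO _)

end Zero

section Weak


/-- Dévissage for classes closed under kernels of epimorphisms, extensions and roots of powers
(the statement of S10865, as a library theorem). -/
theorem devissage_weak (X : Scheme.{u}) [IsNoetherian X] [Nonempty X]
    (K : ObjectProperty X.Modules) [K.IsClosedUnderIsomorphisms]
    (ha : ∀ S : ShortComplex X.Modules, S.ShortExact → Coh.IsCoh S.X₁ → Coh.IsCoh S.X₂ →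
      Coh.IsCoh S.X₃ → (K S.X₂ → K S.X₃ → K S.X₁) ∧ (K S.X₁ → K S.X₃ → K S.X₂))
    (hb : ∀ (F : X.Modules) (d : ℕ), 1 ≤ d → Coh.IsCoh F → K (∐ fun _ : Fin d => F) → K F)
    (hgen : ∀ (Z : Scheme.{u}) (i : Z ⟶ X) [IsClosedImmersion i] [IsIntegral Z],
      ∃ H : Z.Modules, Coh.IsCoh H ∧ Nontrivial (H.presheaf.stalk (genericPoint Z)) ∧
        K ((Scheme.Modules.pushforward i).obj H))
    (F : X.Modules) (hF : Coh.IsCoh F) : K F := by
  have hiso : ∀ M N : X.Modules, Nonempty (M ≅ N) → K M → K N :=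
    fun M N ⟨e⟩ h => K.prop_of_iso e h
  have hker : ∀ S : ShortComplex X.Modules, S.ShortExact → Coh.IsCoh S.X₁ → Coh.IsCoh S.X₂ →
      Coh.IsCoh S.X₃ → K S.X₂ → K S.X₃ → K S.X₁ :=
    fun S hS c1 c2 c3 => (ha S hS c1 c2 c3).1
  have hext : ∀ S : ShortComplex X.Modules, S.ShortExact → Coh.IsCoh S.X₁ → Coh.IsCoh S.X₂ →
      Coh.IsCoh S.X₃ → K S.X₁ → K S.X₃ → K S.X₂ :=
    fun S hS c1 c2 c3 => (ha S hS c1 c2 c3).2
  have hpow : ∀ (F : X.Modules) (n : ℕ), Coh.IsCoh F → K (pow1 F n) → K F := by
    intro F n hF h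
    obtain ⟨e⟩ := nonempty_pow1_iso_sigma F n
    exact hb F (n + 1) (by omega) hF (K.prop_of_iso e h)
  -- generators
  have hG : ∀ (Z : Set X) (hZ : IsClosed Z) (y : X), closure {y} = Z →
      ∃ G : X.Modules, Coh.IsCoh G ∧ K G ∧
        ClSub.KilledByIdeal (Scheme.IdealSheafData.vanishingIdeal ⟨Z, hZ⟩) G ∧
        y ∈ CohB1.support G := by
    intro Z hZ y hy
    obtain ⟨hint, hg⟩ := exists_isIntegral_subscheme Z hZ y hy
    obtain ⟨H, hH, hnt, hKH⟩ := @hgen _ (Scheme.IdealSheafData.vanishingIdeal ⟨Z, hZ⟩).subschemeι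
      inferInstance hint
    refine ⟨_, isCoh_pushforward_of_isFinite _ hH, hKH,
      killedByIdeal_pushforward _ H, ?_⟩
    rw [← hg]
    exact mem_support_pushforward _
      (Scheme.IdealSheafData.vanishingIdeal ⟨Z, hZ⟩).subschemeι.isEmbedding H _ hnt
  have h0 : ∀ M : X.Modules, IsZero M → K M := by
    obtain ⟨x⟩ := ‹Nonempty X›
    obtain ⟨G, hGc, hKG, -, -⟩ := hG (closure {x}) isClosed_closure x rfl
    exact K_zero_of_K K hiso hker hGc hKG
  have hstep : ∀ (Z : Set X) (hZ : IsClosed Z), IsIrreducible Z → Z ⊆ Set.univ →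
      (∀ M : X.Modules, Coh.IsCoh M → CohB1.support M ⊆ Z → CohB1.support M ≠ Z → K M) →
      ∀ F : X.Modules, Coh.IsCoh F →
        ClSub.KilledByIdeal (Scheme.IdealSheafData.vanishingIdeal ⟨Z, hZ⟩) F → K F := by
    intro Z hZ hZirr _ IH F hF hk
    have hy : closure {hZirr.genericPoint} = Z := hZirr.closure_genericPoint hZ
    obtain ⟨G, hGc, hKG, hkG, hyG⟩ := hG Z hZ _ hy
    exact step_of_generator_weak K hker hext hpow Z hZ _ hy IH hGc hKG hkG hyG F hF hk
  exact induction_on_support K hiso h0 hext Set.univ hstep F hF (Set.subset_univ _)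

end Weak

end CohDevH8
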