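import Mathlib
import Groth.Prelude
import Groth.Agent.Lib.Tens29_helper8
import Groth.Agent.Lib.Tens26_helper8
import Groth.Agent.Lib.GG2_helper8

/-!
# Quasi-affine morphisms and the counit `f^* f_* F ⟶ F` (helper8)
APPEND-ONLY once landed.
-/

set_option autoImplicit false

namespace TensH8

open AlgebraicGeometry CategoryTheory CategoryTheory.Limits TopologicalSpace Opposite TensorProduct
open QcqsLoc MonoidalCategory GenLocH8 FLFH8 QCohExtn PBH8 SerreCrit

universe u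

variable {X Y : Scheme.{u}}

/-- On a quasi-affine open subscheme `U`, the basic opens of functions on `U` form a basis. -/
theorem exists_basicOpen_le_of_isQuasiAffine {U : X.Opens} [U.toScheme.IsQuasiAffine]
    {W : X.Opens} (hWU : W ≤ U) {x : X} (hx : x ∈ W) :
    ∃ a : Γ(X, U), x ∈ X.basicOpen a ∧ X.basicOpen a ≤ W := by
  have hB := Opens.isBasis_iff_nbhd.mp (Scheme.IsQuasiAffine.isBasis_basicOpen U.toScheme)
    (U := U.ι ⁻¹ᵁ W) (x := ⟨x, hWU hx⟩) hx
  obtain ⟨_, ⟨a', -, rfl⟩, hxa', hle⟩ := hB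
  refine ⟨U.topIso.hom a', ?_, ?_⟩
  · rw [← Scheme.Opens.ι_image_basicOpen_topIso_inv U (U.topIso.hom a')]
    refine ⟨⟨x, hWU hx⟩, ?_, rfl⟩
    have e : U.topIso.inv (U.topIso.hom a') = a' := by
      rw [← CommRingCat.comp_apply, Iso.hom_inv_id]
      rfl
    rw [e]
    exact hxa'
  · rw [← Scheme.Opens.ι_image_basicOpen_topIso_inv U (U.topIso.hom a')]
    have e : U.topIso.inv (U.topIso.hom a') = a' := by
      rw [← CommRingCat.comp_apply, Iso.hom_inv_id]
      rfl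
    rw [e]
    rintro _ ⟨z, hz, rfl⟩
    exact hle hz

/-- For a quasi-affine morphism, the counit `f^* f_* F ⟶ F` is an epimorphism for every
quasi-coherent `F`. -/
theorem epi_counit_of_isQuasiAffine (f : X ⟶ Y) (hf : Mor2.IsQuasiAffine f) (F : X.Modules)
    [F.IsQuasicoherent] :
    Epi ((Scheme.Modules.pullbackPushforwardAdjunction f).counit.app F) := by
  haveI : QuasiCompact f := hf.1
  apply epi_counit_of_span f F
  intro x
  obtain ⟨_, ⟨V, hV : IsAffineOpen V, rfl⟩, hxV, -⟩ :=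
    (Y.isBasis_affineOpens).exists_subset_of_mem_open (Set.mem_univ (f x)) isOpen_univ
  refine ⟨V, hxV, fun W hW z hxW => ?_⟩
  haveI : (f ⁻¹ᵁ V).toScheme.IsQuasiAffine := hf.2 V hV
  have hc : IsCompact ((f ⁻¹ᵁ V : X.Opens) : Set X) :=
    QuasiCompact.isCompact_preimage (f := f) _ V.isOpen hV.isCompact
  have hqs : IsQuasiSeparated ((f ⁻¹ᵁ V : X.Opens) : Set X) := by
    rw [isQuasiSeparated_iff_quasiSeparatedSpace _ (f ⁻¹ᵁ V).isOpen]
    exact (inferInstance : QuasiSeparatedSpace (f ⁻¹ᵁ V).toScheme)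
  obtain ⟨a, hxa, hale⟩ := exists_basicOpen_le_of_isQuasiAffine hW hxW
  obtain ⟨n, s, hs⟩ := exists_pow_smul_extends (F := F) (a := a) hc hqs (rF F hale z)
  have hunit : IsUnit (rX (X.basicOpen_le a) a ^ n) :=
    (RingedSpace.isUnit_res_basicOpen _ a).pow n
  obtain ⟨u, hu⟩ := hunit
  refine ⟨X.basicOpen a, hale, hxa, ?_⟩
  have e : rF F hale z = (↑u⁻¹ : Γ(X, X.basicOpen a)) • rF F (X.basicOpen_le a) s := by
    rw [hs, ← hu, smul_smul, Units.inv_mul, one_smul]
  rw [e]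
  apply Submodule.smul_mem
  apply Submodule.subset_span
  exact ⟨s, rfl⟩

open GGH8 in
/-- A separated quasi-compact morphism for which all counits `f^* f_* F ⟶ F` (`F` quasi-coherent)
are epimorphisms is quasi-affine. -/
theorem isQuasiAffine_of_epi_counit (f : X ⟶ Y) [QuasiCompact f] [IsSeparated f]
    (h : ∀ F : X.Modules, Coh.IsQCoh F →
      Epi ((Scheme.Modules.pullbackPushforwardAdjunction f).counit.app F)) :
    Mor2.IsQuasiAffine f := by
  refine ⟨inferInstance, fun V hV => ?_⟩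
  have hc : IsCompact ((f ⁻¹ᵁ V : X.Opens) : Set X) :=
    QuasiCompact.isCompact_preimage (f := f) _ V.isOpen hV.isCompact
  haveI : CompactSpace (f ⁻¹ᵁ V).toScheme := isCompact_iff_compactSpace.mp hc
  apply Scheme.IsQuasiAffine.of_forall_exists_mem_basicOpen
  rintro ⟨x, hx⟩
  obtain ⟨_, ⟨U, hU : IsAffineOpen U, rfl⟩, hxU, hUV⟩ :=
    (X.isBasis_affineOpens).exists_subset_of_mem_open hx (f ⁻¹ᵁ V).isOpen
  have hUV' : U ≤ f ⁻¹ᵁ V := hUV
  obtain ⟨t, ht⟩ := GGH8.exists_one_vanSub U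
  haveI : (GGH8.vanSub U).toModules.IsQuasicoherent := GGH8.isQuasicoherent_vanSub U
  have hepi := h (GGH8.vanSub U).toModules (GGH8.isQuasicoherent_vanSub U)
  obtain ⟨W2, h2, hxW2, hspan⟩ := exists_mem_span_of_epi_counit f hepi hV hUV' t hxU
  have key : ∀ m ∈ Submodule.span Γ(X, W2)
      (Set.range (fun y : Γ((GGH8.vanSub U).toModules, f ⁻¹ᵁ V) =>
        rF (GGH8.vanSub U).toModules (h2.trans hUV') y)),
      x ∈ X.basicOpen (toFn (ap (GGH8.vanSub U).ι W2 m)) →
      ∃ y : Γ((GGH8.vanSub U).toModules, f ⁻¹ᵁ V),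
        x ∈ X.basicOpen (toFn (ap (GGH8.vanSub U).ι (f ⁻¹ᵁ V) y)) := by
    intro m hm
    induction hm using Submodule.span_induction with
    | mem m hm =>
      obtain ⟨y, rfl⟩ := hm
      intro hxy
      refine ⟨y, ?_⟩
      have h1 : x ∈ X.basicOpen (rX (h2.trans hUV')
          (toFn (ap (GGH8.vanSub U).ι (f ⁻¹ᵁ V) y))) := by
        rw [← rF_eq, ← ap_rF]
        exact hxy
      rw [basicOpen_rX] at h1
      exact h1.2
    | zero =>
      intro hxy
      have e0 : toFn (ap (GGH8.vanSub U).ι W2 0) = 0 := map_zero _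
      rw [e0, Scheme.basicOpen_zero] at hxy
      exact absurd hxy (Set.notMem_empty x)
    | add a b _ _ ha hb =>
      intro hxy
      have h1 : x ∈ X.basicOpen (toFn (ap (GGH8.vanSub U).ι W2 a) +
          toFn (ap (GGH8.vanSub U).ι W2 b)) := by
        rw [← add_eq, ← map_add]
        exact hxy
      rcases X.basicOpen_add_le _ _ h1 with h' | h'
      · exact ha h'
      · exact hb h'
    | smul r a _ ha =>
      intro hxy
      have h1 : x ∈ X.basicOpen (r * toFn (ap (GGH8.vanSub U).ι W2 a)) := by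
        rw [← smul_eq, ← ap_smul]
        exact hxy
      rw [Scheme.basicOpen_mul] at h1
      exact ha h1.2
  have hx1 : x ∈ X.basicOpen (toFn (ap (GGH8.vanSub U).ι W2
      (rF (GGH8.vanSub U).toModules h2 t))) := by
    rw [ap_rF, rF_eq, ht, map_one, Scheme.basicOpen_of_isUnit _ isUnit_one]
    exact hxW2
  obtain ⟨y, hy⟩ := key _ hspan hx1
  obtain ⟨a, ha⟩ : ∃ a : Γ(X, f ⁻¹ᵁ V), a = toFn (ap (GGH8.vanSub U).ι (f ⁻¹ᵁ V) y) := ⟨_, rfl⟩
  rw [← ha] at hy
  have hle : X.basicOpen a ≤ U := by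
    intro z hz
    by_contra hzU
    rw [ha] at hz
    exact GGH8.vanSub_van U _ y z hzU hz
  have haff : IsAffineOpen (X.basicOpen a) := by
    have e : X.basicOpen (rX hUV' a) = X.basicOpen a := by
      rw [basicOpen_rX]
      exact inf_eq_right.mpr hle
    rw [← e]
    exact hU.basicOpen _
  refine ⟨(f ⁻¹ᵁ V).topIso.inv a, ?_, ?_⟩
  · rw [← Scheme.Hom.isAffineOpen_iff_of_isOpenImmersion (f ⁻¹ᵁ V).ι,
      Scheme.Opens.ι_image_basicOpen_topIso_inv]
    exact haff
  · have h3 : x ∈ (f ⁻¹ᵁ V).ι ''ᵁ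
        ((f ⁻¹ᵁ V).toScheme.basicOpen ((f ⁻¹ᵁ V).topIso.inv a)) := by
      rw [Scheme.Opens.ι_image_basicOpen_topIso_inv]
      exact hy
    obtain ⟨z, hz, hzx⟩ := h3
    have : z = ⟨x, hx⟩ := Subtype.ext hzx
    exact this ▸ hz

end TensH8
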