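import Mathlib
import Groth.Prelude
import Groth.Agent.Lib.Tens35_helper8
import Groth.Agent.Lib.Tens32_helper8
import Groth.Agent.Lib.QCohExact_helper9
import Groth.Agent.Lib.QCAlgMod_helper9

/-!
# Serre's criterion, relative form: `f_*` exact on quasi-coherent modules ⇒ `f` affine (helper8)
APPEND-ONLY once landed.
-/

set_option autoImplicit false

namespace TensH8

open AlgebraicGeometry CategoryTheory CategoryTheory.Limits TopologicalSpace Opposite TensorProduct
open QcqsLoc MonoidalCategory GenLocH8 FLFH8 QCohExtn PBH8 SerreCrit GGH8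

universe u

variable {X Y : Scheme.{u}}

/-- A section lying locally in the image of a monomorphism lies in the image. -/
theorem exists_preimage_of_mono_of_local {M H : X.Modules} (i : M ⟶ H) [Mono i] {U : X.Opens}
    (s : Γ(H, U))
    (h : ∀ x ∈ U, ∃ (W : X.Opens) (hW : W ≤ U), x ∈ W ∧ ∃ m : Γ(M, W), ap i W m = rF H hW s) :
    ∃ m : Γ(M, U), ap i U m = s := by
  choose W hW hxW m hm using h
  obtain ⟨t, ht⟩ := glue M (fun p : {x // x ∈ U} => W p.1 p.2) U (fun p => hW p.1 p.2)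
    (fun x hx => Opens.mem_iSup.mpr ⟨⟨x, hx⟩, hxW x hx⟩) (fun p => m p.1 p.2) (by
      intro p q
      apply QCohExact.app_injective_of_mono i
      show ap i _ (rF M _ (m p.1 p.2)) = ap i _ (rF M _ (m q.1 q.2))
      rw [ap_rF, ap_rF, hm, hm, rF_rF, rF_rF])
  refine ⟨t, eq_of_cover H _ _ (fun x hx => ⟨W x hx, hW x hx, hxW x hx, ?_⟩)⟩
  rw [← ap_rF, ht ⟨x, hx⟩, hm]

theorem ap_comp' {A B C : X.Modules} (φ : A ⟶ B) (ψ : B ⟶ C) (W : X.Opens) (a : Γ(A, W)) :
    ap (φ ≫ ψ) W a = ap ψ W (ap φ W a) := rfl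

/-- A function on `U₀` vanishing outside an affine open `U ≤ U₀` has affine non-vanishing locus. -/
theorem isAffineOpen_basicOpen_of_van {U U₀ : X.Opens} (hU : IsAffineOpen U) (hUU₀ : U ≤ U₀)
    (b : Γ(X, U₀)) (hb : ∀ z, z ∉ U → z ∉ X.basicOpen b) : IsAffineOpen (X.basicOpen b) := by
  have hle : X.basicOpen b ≤ U := by
    intro z hz
    by_contra hzU
    exact hb z hzU hz
  have e : X.basicOpen (rX hUU₀ b) = X.basicOpen b := by
    rw [basicOpen_rX]
    exact inf_eq_right.mpr hle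
  rw [← e]
  exact hU.basicOpen _

/-- The inductive step in the relative Serre criterion. -/
theorem exists_sum_vanSub (f : X ⟶ Y) [QuasiCompact f] [QuasiSeparated f]
    (h : ∀ (F F'' : X.Modules) (p : F ⟶ F''), Coh.IsQCoh F → Coh.IsQCoh F'' → Epi p →
      Epi ((Coh.push f).map p))
    {V : Y.Opens} (hV : IsAffineOpen V) (l : List X.Opens)
    (hl : ∀ U ∈ l, IsAffineOpen U ∧ U ≤ f ⁻¹ᵁ V) :
    ∃ (M : X.Modules) (i : M ⟶ OO X), Mono i ∧ M.IsQuasicoherent ∧
      (∀ U ∈ l, ∀ (W : X.Opens) (g : Γ((vanSub U).toModules, W)),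
        ∃ g' : Γ(M, W), ap i W g' = ap (vanSub U).ι W g) ∧
      (∀ m : Γ(M, f ⁻¹ᵁ V), toFn (ap i (f ⁻¹ᵁ V) m) ∈
        Ideal.span {b : Γ(X, f ⁻¹ᵁ V) | IsAffineOpen (X.basicOpen b)}) := by
  induction l with
  | nil =>
    refine ⟨(vanSub (⊥ : X.Opens)).toModules, (vanSub ⊥).ι, inferInstance,
      isQuasicoherent_vanSub ⊥, ?_, ?_⟩
    · intro U hU
      exact absurd hU List.not_mem_nil
    · intro m
      apply Ideal.subset_span
      show IsAffineOpen (X.basicOpen (toFn (ap (vanSub ⊥).ι (f ⁻¹ᵁ V) m)))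
      have : X.basicOpen (toFn (ap (vanSub (⊥ : X.Opens)).ι (f ⁻¹ᵁ V) m)) = ⊥ := by
        rw [eq_bot_iff]
        intro z hz
        exact absurd hz (vanSub_van ⊥ _ m z (fun hz' => hz'))
      rw [this]
      exact isAffineOpen_bot X
  | cons U l ih =>
    obtain ⟨M, i, hi, hM, ha, hb⟩ := ih (fun U' hU' => hl U' (List.mem_cons_of_mem U hU'))
    obtain ⟨hUaff, hUle⟩ := hl U List.mem_cons_self
    haveI := hi
    haveI := hM
    haveI : (vanSub U).toModules.IsQuasicoherent := isQuasicoherent_vanSub U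
    haveI : (OO X).IsQuasicoherent := isQuasicoherent_structureModule
    haveI hq : (M ⊞ (vanSub U).toModules).IsQuasicoherent :=
      QCAlgMod.isQuasicoherent_biprod M (vanSub U).toModules
    obtain ⟨p, hp⟩ : ∃ p : M ⊞ (vanSub U).toModules ⟶ OO X, p = biprod.desc i (vanSub U).ι :=
      ⟨_, rfl⟩
    haveI hqc : (Abelian.coimage p).IsQuasicoherent := SubExt.isQuasicoherent_coimage p
    have hfac : Abelian.coimage.π p ≫ Abelian.factorThruCoimage p = p := Abelian.coimage.fac p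
    have hinl : biprod.inl ≫ p = i := by rw [hp, biprod.inl_desc]
    have hinr : biprod.inr ≫ p = (vanSub U).ι := by rw [hp, biprod.inr_desc]
    refine ⟨Abelian.coimage p, Abelian.factorThruCoimage p, inferInstance, hqc, ?_, ?_⟩
    · intro U' hU' W g
      rcases List.mem_cons.mp hU' with rfl | hU'
      · refine ⟨ap (Abelian.coimage.π p) W (ap biprod.inr W g), ?_⟩
        rw [← ap_comp', hfac, ← ap_comp', hinr]
      · obtain ⟨g₀, hg₀⟩ := ha U' hU' W g
        refine ⟨ap (Abelian.coimage.π p) W (ap biprod.inl W g₀), ?_⟩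
        rw [← ap_comp', hfac, ← ap_comp', hinl, hg₀]
    · intro m'
      have hepi : Epi ((Coh.push f).map (Abelian.coimage.π p)) :=
        h _ _ (Abelian.coimage.π p) hq hqc inferInstance
      haveI := hepi
      haveI := isQuasicoherent_pushforward_qcqs f (M ⊞ (vanSub U).toModules)
      haveI := isQuasicoherent_pushforward_qcqs f (Abelian.coimage p)
      have hsurj := QCohExact.app_surjective_of_epi ((Coh.push f).map (Abelian.coimage.π p)) hV
      obtain ⟨z, hz⟩ := hsurj m'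
      have hz' : ap (Abelian.coimage.π p) (f ⁻¹ᵁ V) z = m' := hz
      have e1 : ap (Abelian.factorThruCoimage p) (f ⁻¹ᵁ V) m' =
          ap i (f ⁻¹ᵁ V) (ap biprod.fst (f ⁻¹ᵁ V) z) +
            ap (vanSub U).ι (f ⁻¹ᵁ V) (ap biprod.snd (f ⁻¹ᵁ V) z) := by
        rw [← hz', ← ap_comp', hfac, hp, biprod.desc_eq, ap_add_hom, ap_comp', ap_comp']
      rw [e1]
      apply Ideal.add_mem
      · exact hb _
      · apply Ideal.subset_span
        exact isAffineOpen_basicOpen_of_van hUaff hUle _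
          (fun z' hz' => vanSub_van U _ _ z' hz')

/-- Relative Serre criterion: a quasi-compact quasi-separated morphism whose direct image functor
preserves epimorphisms of quasi-coherent modules is affine. -/
theorem isAffineHom_of_push_preserves_epi (f : X ⟶ Y) [QuasiCompact f] [QuasiSeparated f]
    (h : ∀ (F F'' : X.Modules) (p : F ⟶ F''), Coh.IsQCoh F → Coh.IsQCoh F'' → Epi p →
      Epi ((Coh.push f).map p)) : IsAffineHom f := by
  classical
  refine ⟨fun V hV => ?_⟩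
  have hc : IsCompact ((f ⁻¹ᵁ V : X.Opens) : Set X) :=
    QuasiCompact.isCompact_preimage (f := f) _ V.isOpen hV.isCompact
  obtain ⟨S, hS, hcov⟩ := isCompact_iff_finite_and_eq_biUnion_affineOpens.mp hc
  have hle : ∀ W ∈ S, (W : X.Opens) ≤ f ⁻¹ᵁ V := fun W hW =>
    (le_iSup₂ (f := fun (i : X.affineOpens) (_ : i ∈ S) => (i : X.Opens)) W hW).trans hcov.ge
  obtain ⟨l, hldef⟩ : ∃ l : List X.Opens,
      l = List.map (fun W : X.affineOpens => (W : X.Opens)) hS.toFinset.toList :=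
    ⟨_, rfl⟩
  have hmem : ∀ W ∈ S, (W : X.Opens) ∈ l := by
    intro W hW
    rw [hldef]
    exact List.mem_map.mpr ⟨W, Finset.mem_toList.mpr (hS.mem_toFinset.mpr hW), rfl⟩
  have hl : ∀ U ∈ l, IsAffineOpen U ∧ U ≤ f ⁻¹ᵁ V := by
    intro U hU
    rw [hldef] at hU
    obtain ⟨W, hW, rfl⟩ := List.mem_map.mp hU
    have hWS : W ∈ S := hS.mem_toFinset.mp (Finset.mem_toList.mp hW)
    exact ⟨W.2, hle W hWS⟩
  obtain ⟨M, i, hi, hM, ha, hb⟩ := exists_sum_vanSub f h hV l hl
  haveI := hi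
  obtain ⟨m, hm⟩ := exists_preimage_of_mono_of_local i (ofFn (1 : Γ(X, f ⁻¹ᵁ V))) (by
    intro x hx
    have hx' : x ∈ (⨆ i ∈ S, (i : X.Opens) : X.Opens) := hcov ▸ hx
    simp only [Opens.mem_iSup] at hx'
    obtain ⟨W, hWS, hxW⟩ := hx'
    obtain ⟨t, ht⟩ := exists_one_vanSub (W : X.Opens)
    obtain ⟨g', hg'⟩ := ha W (hmem W hWS) W t
    refine ⟨W, hle W hWS, hxW, g', ?_⟩
    rw [hg']
    show toFn (ap (vanSub (W : X.Opens)).ι W t) = rX (hle W hWS) 1
    rw [ht, map_one])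
  have h1 : (1 : Γ(X, f ⁻¹ᵁ V)) ∈
      Ideal.span {b : Γ(X, f ⁻¹ᵁ V) | IsAffineOpen (X.basicOpen b)} := by
    have := hb m
    rw [hm] at this
    exact this
  exact isAffineOpen_of_isAffineOpen_basicOpen (f ⁻¹ᵁ V) _
    ((Ideal.eq_top_iff_one _).mpr h1) (fun b hb => hb)

end TensH8
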