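import Mathlib
import Groth.Prelude
import Groth.Agent.Lib.Tens36_helper8
import Groth.Agent.Lib.Bilin_helper8
import Groth.Agent.Lib.FCompl1_helper8
import Groth.Agent.Lib.SerreCrit3_helper9

/-!
# Ampleness from vanishing of `H¹` of twisted ideals (helper8)
APPEND-ONLY once landed.
-/

set_option autoImplicit false

namespace TensH8

open AlgebraicGeometry CategoryTheory CategoryTheory.Limits TopologicalSpace Opposite TensorProduct
open QcqsLoc MonoidalCategory GenLocH8 FLFH8 QCohExtn PBH8 SerreCrit GGH8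

universe u

variable {X : Scheme.{u}}

/-- The bilinear pairing defining `j ⊗ M`. -/
noncomputable def tmapBilin {K N : X.Modules} (j : K ⟶ N) (M : X.Modules) :
    FLFH8.BilinData K M (CohB1.tensorMod N M) where
  β U k m := SecTwist.tmul N M U (ap j U k) m
  add_left U k k' m := by
    rw [map_add]
    exact tmul_add_left N M U _ _ m
  smul_left U r k m := by
    rw [ap_smul]
    exact tmul_smul_left N M U r _ m
  add_right U k m m' := tmul_add_right N M U _ m m'
  smul_right U r k m := tmul_smul_right N M U r _ m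
  natural h k m := by rw [rF_tmul, ap_rF]

/-- The morphism `j ⊗ M : K ⊗ M ⟶ N ⊗ M`. -/
noncomputable def tmap {K N : X.Modules} (j : K ⟶ N) (M : X.Modules) :
    CohB1.tensorMod K M ⟶ CohB1.tensorMod N M :=
  (tmapBilin j M).toHom

theorem tmap_tmul {K N : X.Modules} (j : K ⟶ N) (M : X.Modules) (U : X.Opens) (k : Γ(K, U))
    (m : Γ(M, U)) :
    ap (tmap j M) U (SecTwist.tmul K M U k m) = SecTwist.tmul N M U (ap j U k) m :=
  (tmapBilin j M).toHom_tmul U k m

/-- Tensoring a monomorphism with a framed (hence invertible) module gives a monomorphism. -/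
theorem mono_tmap {K N L M : X.Modules} (j : K ⟶ N) [Mono j] (hL : PicF.IsInvertible L) {n : ℕ}
    (Ψ : Frame L M n) : Mono (tmap j M) := by
  apply FComplH8.mono_of_app_injective
  intro W
  rw [injective_iff_map_eq_zero]
  intro κ hκ
  apply eq_zero_of_cover (CohB1.tensorMod K M) κ
  intro z hz
  obtain ⟨W', -, hzW', hW'W, e, he⟩ := exists_isGen_le hL z W hz
  refine ⟨W', hW'W, hzW', ?_⟩
  obtain ⟨k, hk⟩ := tmulGen_surjective K M (Ψ.isGen he) le_rfl (rF _ hW'W κ)
  rw [SubExt.rF_self] at hk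
  have h1 : ap (tmap j M) W' (rF _ hW'W κ) = 0 := by rw [ap_rF, hκ, map_zero]
  rw [← hk, tmap_tmul] at h1
  have h2 : ap j W' k = 0 := by
    apply tmulGen_injective N M (Ψ.isGen he) le_rfl
    rw [SubExt.rF_self, h1, tmul_zero_left]
  have h3 : k = 0 := by
    apply QCohExact.app_injective_of_mono j W'
    show ap j W' k = ap j W' 0
    rw [h2, map_zero]
  rw [← hk, h3, tmul_zero_left]

set_option maxHeartbeats 800000 in
/-- Under the `H¹`-vanishing hypothesis for twisted ideals, every closed point lies in an affine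
`X_s`, `s` a section of a positive power of `L`. -/
theorem exists_genLocus_of_H1 {L : X.Modules} (hL : PicF.IsInvertible L)
    (h : ∀ (I : X.Modules) (i : I ⟶ Coh.structureModule X), Mono i → Coh.IsQCoh I →
      ∃ n : ℕ, Subsingleton (Coh.HH X (CohB1.tensorMod I (CohB1.tensorPow L (n + 1))) 1))
    (x : X) (hx : IsClosed ({x} : Set X)) :
    ∃ (n : ℕ) (s : Coh.structureModule X ⟶ CohB1.tensorPow L (n + 1)),
      x ∈ CohB1.genLocus _ s ∧ IsAffineOpen (CohB1.genLocus _ s) := by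
  obtain ⟨U, hU, hxU, e, he⟩ := exists_isGen hL x
  obtain ⟨N, hN⟩ : ∃ N : LSub (OO X), N = VZ (OO X) (𝟙 _) ((U : Set X)ᶜ) := ⟨_, rfl⟩
  haveI hJ : N.toModules.IsQuasicoherent := by rw [hN]; exact isQuasicoherent_VZ _ _ _
  obtain ⟨K, hK⟩ : ∃ K : LSub N.toModules, K = VZ N.toModules N.ι {x} := ⟨_, rfl⟩
  haveI hKq : K.toModules.IsQuasicoherent := by rw [hK]; exact isQuasicoherent_VZ _ _ _
  have hNvan : ∀ (W : X.Opens) (t : Γ(N.toModules, W)) (z : X), z ∉ U →
      z ∉ X.basicOpen (toFn (ap N.ι W t)) := by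
    subst hN
    intro W t z hz
    exact (LSub.ι_mem _ t) z hz
  have hKmem : ∀ (W : X.Opens) (t : Γ(N.toModules, W)),
      t ∈ K.carrier W ↔ (x ∉ X.basicOpen (toFn (ap N.ι W t))) := by
    intro W t
    rw [hK]
    constructor
    · intro ht
      exact ht x rfl
    · intro ht z hz
      have hzx : z = x := hz
      rw [hzx]
      exact ht
  obtain ⟨n, hn⟩ := h K.toModules (K.ι ≫ N.ι) inferInstance hKq
  haveI := hn
  haveI : Mono (tmap K.ι (CohB1.tensorPow L (n + 1))) :=
    mono_tmap K.ι hL (Frame.pow L (n + 1))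
  have hS : (ShortComplex.mk
      (tmap K.ι (CohB1.tensorPow L (n + 1))) (cokernel.π (tmap K.ι (CohB1.tensorPow L (n + 1))))
      (cokernel.condition _)).ShortExact :=
    ShortComplex.ShortExact.mk' (ShortComplex.exact_cokernel _)
      (inferInstanceAs (Mono (tmap K.ι (CohB1.tensorPow L (n + 1)))))
      (inferInstanceAs (Epi (cokernel.π (tmap K.ι (CohB1.tensorPow L (n + 1))))))
  have hKπ : ∀ (W : X.Opens) (κ : Γ(CohB1.tensorMod K.toModules (CohB1.tensorPow L (n + 1)), W)),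
      ap (cokernel.π (tmap K.ι (CohB1.tensorPow L (n + 1)))) W
        (ap (tmap K.ι (CohB1.tensorPow L (n + 1))) W κ) = 0 := by
    intro W κ
    exact congrArg (fun χ => (χ.app W).hom κ) (cokernel.condition (tmap K.ι _))
  -- the section `1` of `N` over `U`
  have h1mem : ofFn (1 : Γ(X, U)) ∈ N.carrier U := by
    rw [hN]
    intro z hz hzb
    exact hz (X.basicOpen_le _ hzb)
  obtain ⟨u, hu⟩ := N.exists_of_mem h1mem
  obtain ⟨U₂, hU₂⟩ : ∃ U₂ : X.Opens, U₂ = ⟨({x} : Set X)ᶜ, hx.isOpen_compl⟩ := ⟨_, rfl⟩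
  have hxU₂ : ∀ z, z ∈ U₂ ↔ z ≠ x := by
    intro z
    rw [hU₂]
    rfl
  have hcov : (⊤ : X.Opens) ≤ U ⊔ U₂ := by
    intro y _
    by_cases hy : y = x
    · exact Or.inl (hy ▸ hxU)
    · exact Or.inr ((hxU₂ y).mpr hy)
  obtain ⟨g0, hg0⟩ : ∃ g0 : Γ(CohB1.tensorMod N.toModules (CohB1.tensorPow L (n + 1)), U),
      g0 = SecTwist.tmul N.toModules (CohB1.tensorPow L (n + 1)) U u
        ((Frame.pow L (n + 1)).φ U e) := ⟨_, rfl⟩
  have hagree : rF (cokernel (tmap K.ι (CohB1.tensorPow L (n + 1))))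
      (inf_le_left : U ⊓ U₂ ≤ U) (ap (cokernel.π (tmap K.ι _)) U g0) =
      rF (cokernel (tmap K.ι (CohB1.tensorPow L (n + 1)))) (inf_le_right : U ⊓ U₂ ≤ U₂) 0 := by
    rw [map_zero, ← ap_rF, hg0, rF_tmul, (Frame.pow L (n + 1)).res]
    have hmem : rF N.toModules (inf_le_left : U ⊓ U₂ ≤ U) u ∈ K.carrier (U ⊓ U₂) := by
      rw [hKmem]
      intro hxb
      have h2 : x ∈ U ⊓ U₂ := X.basicOpen_le _ hxb
      exact (hxU₂ x).mp h2.2 rfl
    obtain ⟨k, hk⟩ := K.exists_of_mem hmem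
    rw [← hk, ← tmap_tmul]
    exact hKπ _ _
  obtain ⟨c, hcU, -⟩ := glue₂_mod (cokernel (tmap K.ι (CohB1.tensorPow L (n + 1))))
    (le_top : U ≤ ⊤) (le_top : U₂ ≤ ⊤) hcov (ap (cokernel.π (tmap K.ι _)) U g0) 0 hagree
  have hsurj : ∃ b : Γ(CohB1.tensorMod N.toModules (CohB1.tensorPow L (n + 1)), ⊤),
      ap (cokernel.π (tmap K.ι (CohB1.tensorPow L (n + 1)))) ⊤ b = c :=
    surj_of_H1 _ hS (fun y => Subsingleton.elim _ _) c
  obtain ⟨b, hb⟩ := hsurj
  obtain ⟨σ, hσ⟩ := exists_mulSec (Frame.pow L (n + 1)) N.toModules b hL N.ι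
    (Frame.pow L (n + 1))
  obtain ⟨O, -, hloc⟩ := exists_hasLocus (Frame.pow L (n + 1)) σ
  have hgl := genLocus_homOfSec hL (Frame.pow L (n + 1)) σ hloc
  have hOU : O ≤ U := by
    intro z hz
    obtain ⟨W', -, hzW', e', he'⟩ := exists_isGen hL z
    have h1 := hloc W' le_top e' he'
    have hz' : z ∈ O ⊓ W' := ⟨hz, hzW'⟩
    rw [h1, hσ W' le_top e' he'] at hz'
    by_contra hzU
    exact hNvan _ _ z hzU hz'
  have hOeq : O = X.basicOpen ((Frame.pow L (n + 1)).coefOf σ U le_top e he) := by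
    rw [← hloc U le_top e he]
    exact (inf_eq_left.mpr hOU).symm
  refine ⟨n, homOfSec _ σ, ?_, ?_⟩
  · rw [hgl, hOeq, hσ U le_top e he]
    by_contra hxb
    have hgK : gcoef (Frame.pow L (n + 1)) N.toModules b U le_top e he ∈ K.carrier U :=
      (hKmem U _).mpr hxb
    obtain ⟨k, hk⟩ := K.exists_of_mem hgK
    have hbU : rF (CohB1.tensorMod N.toModules (CohB1.tensorPow L (n + 1))) (le_top : U ≤ ⊤) b =
        ap (tmap K.ι (CohB1.tensorPow L (n + 1))) U
          (SecTwist.tmul K.toModules (CohB1.tensorPow L (n + 1)) U k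
            ((Frame.pow L (n + 1)).φ U e)) := by
      rw [tmap_tmul, hk]
      exact (gcoef_spec (Frame.pow L (n + 1)) N.toModules b U le_top e he).symm
    have hcU0 : ap (cokernel.π (tmap K.ι (CohB1.tensorPow L (n + 1)))) U g0 = 0 := by
      rw [← hcU, ← hb, ← ap_rF, hbU]
      exact hKπ _ _
    obtain ⟨κ, hκ⟩ := QCohExact.app_exact _ hS.exact U g0 hcU0
    have hκ' : ap (tmap K.ι (CohB1.tensorPow L (n + 1))) U κ = g0 := hκ
    obtain ⟨k', hk'⟩ := tmulGen_surjective K.toModules (CohB1.tensorPow L (n + 1))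
      ((Frame.pow L (n + 1)).isGen he) le_rfl κ
    rw [SubExt.rF_self] at hk'
    rw [← hk', tmap_tmul, hg0] at hκ'
    have huk : ap K.ι U k' = u := by
      apply tmulGen_injective N.toModules (CohB1.tensorPow L (n + 1))
        ((Frame.pow L (n + 1)).isGen he) le_rfl
      rw [SubExt.rF_self]
      exact hκ'
    have huK : u ∈ K.carrier U := by
      rw [← huk]
      exact K.ι_mem k'
    rw [hKmem, hu] at huK
    apply huK
    rw [show toFn (ofFn (1 : Γ(X, U))) = 1 from rfl, Scheme.basicOpen_of_isUnit X isUnit_one]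
    exact hxU
  · rw [hgl, hOeq]
    exact hU.basicOpen _

/-- If every quasi-coherent ideal has a positive twist by `L` with vanishing `H¹`, then `L` is
ample (on a quasi-compact scheme). -/
theorem isAmple_of_H1 [CompactSpace X] {L : X.Modules} (hL : PicF.IsInvertible L)
    (h : ∀ (I : X.Modules) (i : I ⟶ Coh.structureModule X), Mono i → Coh.IsQCoh I →
      ∃ n : ℕ, Subsingleton (Coh.HH X (CohB1.tensorMod I (CohB1.tensorPow L (n + 1))) 1)) :
    CohB1.IsAmple L := by
  refine ⟨hL, inferInstance, fun x => ?_⟩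
  obtain ⟨x₀, hx₀mem, hx₀⟩ := (isClosed_closure (s := ({x} : Set X))).exists_closed_singleton
    ⟨x, subset_closure rfl⟩
  obtain ⟨n, s, hxs, haff⟩ := exists_genLocus_of_H1 hL h x₀ hx₀
  refine ⟨n, s, ?_, haff⟩
  have hsp : x ⤳ x₀ := specializes_iff_mem_closure.mpr hx₀mem
  exact hsp.mem_open (CohB1.genLocus _ s).isOpen hxs

end TensH8
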