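import Mathlib
import Groth.Prelude
import Groth.Agent.Lib.Tens38_helper8

/-!
# Global generation over preimages of affines and the counit `f^* f_* F ⟶ F` (helper8)
APPEND-ONLY once landed.
-/

set_option autoImplicit false

namespace TensH8

open AlgebraicGeometry CategoryTheory CategoryTheory.Limits TopologicalSpace Opposite TensorProduct
open QcqsLoc MonoidalCategory GenLocH8 FLFH8 QCohExtn PBH8 SerreCrit GGH8

universe u

section SpanRestrict

variable {X U : Scheme.{u}} (j : U ⟶ X) [IsOpenImmersion j]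

theorem span_restrict_of_span (M : X.Modules) {W : U.Opens} (S : Set Γ(M, j ''ᵁ W))
    {a : Γ(M, j ''ᵁ W)} (ha : a ∈ Submodule.span Γ(X, j ''ᵁ W) S) :
    (show Γ(M.restrict j, W) from a) ∈
      Submodule.span Γ(U, W) (show Set Γ(M.restrict j, W) from S) := by
  induction ha using Submodule.span_induction with
  | mem y hy => exact Submodule.subset_span hy
  | zero => exact Submodule.zero_mem _
  | add a b _ _ ha hb => exact Submodule.add_mem _ ha hb
  | smul r a _ ha =>
    have h1 := Submodule.smul_mem _ ((j.appIso W).hom.hom r) ha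
    rw [smul_restrict, appIso_inv_hom] at h1
    exact h1

theorem span_of_span_restrict (M : X.Modules) {W : U.Opens} (S : Set Γ(M.restrict j, W))
    {a : Γ(M.restrict j, W)} (ha : a ∈ Submodule.span Γ(U, W) S) :
    (show Γ(M, j ''ᵁ W) from a) ∈
      Submodule.span Γ(X, j ''ᵁ W) (show Set Γ(M, j ''ᵁ W) from S) := by
  induction ha using Submodule.span_induction with
  | mem y hy => exact Submodule.subset_span hy
  | zero => exact Submodule.zero_mem _
  | add a b _ _ ha hb => exact Submodule.add_mem _ ha hb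
  | smul r a _ ha =>
    have h1 := Submodule.smul_mem _ ((j.appIso W).inv.hom r) ha
    exact h1

end SpanRestrict

section GG

variable {X : Scheme.{u}}

/-- The restriction of `F` to an open `U` is globally generated as soon as every local section
of `F` over an open of `U` is locally a combination of sections over `U`. -/
theorem isGloballyGenerated_restrict_of_span (F : X.Modules) (U : X.Opens)
    (h : ∀ (W : X.Opens) (hW : W ≤ U) (z : Γ(F, W)) (x : X), x ∈ W →
      ∃ (W' : X.Opens) (h' : W' ≤ W), x ∈ W' ∧ rF F h' z ∈ Submodule.span Γ(X, W')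
        (Set.range fun y : Γ(F, U) => rF F (h'.trans hW) y)) :
    Curv2.IsGloballyGenerated (F.restrict U.ι) := by
  apply isGloballyGenerated_of_span
  intro W z x hx
  have hWU : U.ι ''ᵁ W ≤ U := (U.ι.image_le_opensRange W).trans (le_of_eq U.opensRange_ι)
  obtain ⟨W2, h2, hx2, hmem⟩ := h (U.ι ''ᵁ W) hWU z (U.ι x) ⟨x, hx, rfl⟩
  obtain ⟨W2', hW2', rfl⟩ := exists_eq_image U.ι h2
  refine ⟨W2', hW2', ?_, ?_⟩
  · obtain ⟨x', hx', hxx'⟩ := hx2
    have : x' = x := U.ι.isOpenEmbedding.injective hxx'
    exact this ▸ hx'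
  · have h3 := span_restrict_of_span U.ι F _ hmem
    refine Submodule.span_mono ?_ h3
    rintro _ ⟨y, rfl⟩
    refine ⟨secTop F U y, ?_⟩
    show rF (F.restrict U.ι) _ (secTop F U y) = _
    rw [rF_restrict]
    unfold secTop
    rw [rF_rF]

/-- Conversely, a globally generated restriction yields local spanning by sections over `U`. -/
theorem exists_span_of_isGloballyGenerated_restrict (F : X.Modules) (U : X.Opens)
    (hgg : Curv2.IsGloballyGenerated (F.restrict U.ι))
    (W : X.Opens) (hW : W ≤ U) (z : Γ(F, W)) (x : X) (hx : x ∈ W) :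
    ∃ (W' : X.Opens) (h' : W' ≤ W), x ∈ W' ∧ rF F h' z ∈ Submodule.span Γ(X, W')
      (Set.range fun y : Γ(F, U) => rF F (h'.trans hW) y) := by
  obtain ⟨ι, g, hg⟩ := exists_locSpan hgg
  have hW' : W ≤ U.ι ''ᵁ ⊤ := hW.trans (le_of_eq U.ι_image_top.symm)
  obtain ⟨W0, -, rfl⟩ := exists_eq_image U.ι hW'
  obtain ⟨x', hx', rfl⟩ := hx
  obtain ⟨W1, h1, hx1, hmem⟩ := hg W0 z x' hx'
  have h1' : U.ι ''ᵁ W1 ≤ U.ι ''ᵁ W0 := (U.ι.image_le_image_iff _ _).mpr h1
  refine ⟨U.ι ''ᵁ W1, h1', ⟨x', hx1, rfl⟩, ?_⟩
  have h3 := span_of_span_restrict U.ι F _ hmem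
  refine Submodule.span_mono ?_ h3
  rintro _ ⟨i, rfl⟩
  refine ⟨rF F (le_of_eq U.ι_image_top.symm : U ≤ U.ι ''ᵁ ⊤) (g i), ?_⟩
  show rF F _ (rF F _ (g i)) = rF (F.restrict U.ι) _ (g i)
  rw [rF_restrict, rF_rF]
  rfl

end GG

section Counit

variable {X S : Scheme.{u}} (f : X ⟶ S)

/-- The counit is an epimorphism as soon as `F` is a quotient of some pullback. -/
theorem epi_counit_of_epi_pullback {F : X.Modules} {G : S.Modules}
    (φ : (Scheme.Modules.pullback f).obj G ⟶ F) [Epi φ] :
    Epi ((Scheme.Modules.pullbackPushforwardAdjunction f).counit.app F) := by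
  have h := (Scheme.Modules.pullbackPushforwardAdjunction f).homEquiv_counit
    (X := G) (Y := F) (g := (Scheme.Modules.pullbackPushforwardAdjunction f).homEquiv G F φ)
  rw [Equiv.symm_apply_apply] at h
  haveI : Epi ((Scheme.Modules.pullback f).map
      ((Scheme.Modules.pullbackPushforwardAdjunction f).homEquiv G F φ) ≫
      (Scheme.Modules.pullbackPushforwardAdjunction f).counit.app F) := by
    rw [← h]; infer_instance
  exact epi_of_epi ((Scheme.Modules.pullback f).map
      ((Scheme.Modules.pullbackPushforwardAdjunction f).homEquiv G F φ)) _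

theorem epi_counit_iff_isGloballyGenerated [QuasiCompact f] [QuasiSeparated f] (F : X.Modules)
    [F.IsQuasicoherent] :
    Epi ((Scheme.Modules.pullbackPushforwardAdjunction f).counit.app F) ↔
      ∀ U : S.Opens, IsAffineOpen U → Curv2.IsGloballyGenerated (F.restrict (f ⁻¹ᵁ U).ι) := by
  constructor
  · intro hepi U hU
    apply isGloballyGenerated_restrict_of_span
    intro W hW z x hx
    exact exists_mem_span_of_epi_counit f hepi hU hW z hx
  · intro h
    apply epi_counit_of_span f F
    intro x
    obtain ⟨_, ⟨V, hV : IsAffineOpen V, rfl⟩, hxV, -⟩ :=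
      (S.isBasis_affineOpens).exists_subset_of_mem_open (Set.mem_univ (f x)) isOpen_univ
    refine ⟨V, hxV, fun W hW z hx => ?_⟩
    exact exists_span_of_isGloballyGenerated_restrict F (f ⁻¹ᵁ V) (h V hV) W hW z x hx

end Counit

end TensH8
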