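import Mathlib
import Groth.Prelude
import Groth.Agent.Lib.Tens39_helper8
import Groth.Agent.Lib.QCohCrit2_helper9

/-!
# Invertible modules on integral schemes with sections of `L` and `L^∨` (helper8)
APPEND-ONLY once landed.
-/

set_option autoImplicit false

namespace TensH8

open AlgebraicGeometry CategoryTheory CategoryTheory.Limits TopologicalSpace Opposite TensorProduct
open QcqsLoc MonoidalCategory GenLocH8 FLFH8 QCohExtn PBH8 SerreCrit GGH8

universe u

variable {X : Scheme.{u}}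

theorem rX_injective_of_isIntegral [IsIntegral X] {V W : X.Opens} (h : V ≤ W)
    (hV : (V : Set X).Nonempty) : Function.Injective (rX h) := by
  haveI : Nonempty V := hV.to_subtype
  exact map_injective_of_isIntegral X (homOfLE h)

theorem inter_nonempty_of_isIntegral [IsIntegral X] {V W : X.Opens}
    (hV : (V : Set X).Nonempty) (hW : (W : Set X).Nonempty) :
    ((V ⊓ W : X.Opens) : Set X).Nonempty :=
  nonempty_preirreducible_inter V.isOpen W.isOpen hV hW

/-- On an integral scheme, a section of an invertible module vanishing on a nonempty open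
vanishes. -/
theorem eq_zero_of_rF_eq_zero [IsIntegral X] {L : X.Modules} (hL : PicF.IsInvertible L)
    {U W0 : X.Opens} (h0 : W0 ≤ U) (hne : (W0 : Set X).Nonempty) (σ : Γ(L, U))
    (hσ : rF L h0 σ = 0) : σ = 0 := by
  apply eq_zero_of_cover
  intro x hx
  obtain ⟨W, hW, hxW, e, he⟩ := exists_isGen hL x
  have hWU : W ⊓ U ≤ U := inf_le_right
  refine ⟨W ⊓ U, hWU, ⟨hxW, hx⟩, ?_⟩
  have he' := he.res (inf_le_left : W ⊓ U ≤ W)
  obtain ⟨a, ha⟩ := he'.exists_coef (rF L hWU σ)
  have hne2 : ((W ⊓ U ⊓ W0 : X.Opens) : Set X).Nonempty :=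
    inter_nonempty_of_isIntegral ⟨x, hxW, hx⟩ hne
  have h3 : rF L (inf_le_left : W ⊓ U ⊓ W0 ≤ W ⊓ U) (rF L hWU σ) = 0 := by
    rw [rF_rF]
    have : rF L (inf_le_right : W ⊓ U ⊓ W0 ≤ W0) (rF L h0 σ) = 0 := by rw [hσ, map_zero]
    rw [rF_rF] at this
    exact this
  rw [ha, rF_smul] at h3
  have h4 := (he' _ inf_le_left).2 _ h3
  have h5 : a = 0 := rX_injective_of_isIntegral _ hne2 (h4.trans (map_zero _).symm)
  rw [ha, h5, zero_smul]

/-- On an integral scheme, a morphism from an invertible module to the structure module which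
kills a local generator on a nonempty open is zero. -/
theorem hom_eq_zero_of_ap_gen_eq_zero [IsIntegral X] {L : X.Modules} (hL : PicF.IsInvertible L)
    (t : L ⟶ Coh.structureModule X) {W0 : X.Opens} (hne : (W0 : Set X).Nonempty)
    {e0 : Γ(L, W0)} (he0 : IsGen L W0 e0) (h0 : ap t W0 e0 = 0) : t = 0 := by
  apply Scheme.Modules.hom_ext
  intro O
  ext σ
  show ap t O σ = 0
  apply eq_zero_of_cover
  intro x hx
  obtain ⟨W, hW, hxW, e, he⟩ := exists_isGen hL x
  have hWO : W ⊓ O ≤ O := inf_le_right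
  have hWW : W ⊓ O ≤ W := inf_le_left
  refine ⟨W ⊓ O, hWO, ⟨hxW, hx⟩, ?_⟩
  obtain ⟨d, hd⟩ := (he.res hWW).exists_coef (rF L hWO σ)
  rw [← ap_rF, hd, ap_smul, ap_rF]
  -- suffices `t e = 0`
  have hte : ap t W e = 0 := by
    have hne2 : ((W ⊓ W0 : X.Opens) : Set X).Nonempty :=
      inter_nonempty_of_isIntegral ⟨x, hxW⟩ hne
    have hl : W ⊓ W0 ≤ W := inf_le_left
    have hr : W ⊓ W0 ≤ W0 := inf_le_right
    obtain ⟨u, hu⟩ := (he0.res hr).exists_coef (rF L hl e)
    have h1 : rF (Coh.structureModule X) hl (ap t W e) = 0 := by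
      rw [← ap_rF, hu, ap_smul, ap_rF, h0, map_zero, smul_zero]
    have h2 : rX hl (ofM (ap t W e)) = 0 := h1
    have h3 : ofM (ap t W e) = 0 :=
      rX_injective_of_isIntegral hl hne2 (h2.trans (map_zero _).symm)
    exact h3
  rw [hte, map_zero, smul_zero]

/-- **Sections of `L` and of its dual on an integral scheme with a field of global functions.** -/
theorem isIso_of_sections_of_isField [IsIntegral X] (hfield : IsField (Γ(X, ⊤) : Type u))
    {L : X.Modules} (hL : PicF.IsInvertible L)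
    (s : Coh.structureModule X ⟶ L) (hs : s ≠ 0) (t : L ⟶ Coh.structureModule X) (ht : t ≠ 0) :
    IsIso s := by
  obtain ⟨c, hc⟩ : ∃ c : Γ(X, ⊤), c = ofM (ap t ⊤ (SecTwist.val s ⊤)) := ⟨_, rfl⟩
  have key : ∀ (W : X.Opens) (e : Γ(L, W)) (a : Γ(X, W)) (_ : SecTwist.val s W = a • e),
      rX (le_top : W ≤ ⊤) c = a * ofM (ap t W e) := by
    intro W e a ha
    have h1 : rX (le_top : W ≤ ⊤) c = ofM (ap t W (SecTwist.val s W)) := by
      rw [hc, ← rF_val s (le_top : W ≤ ⊤)]
      exact (ap_rF t (le_top : W ≤ ⊤) (SecTwist.val s ⊤)).symm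
    rw [h1, ha, ap_smul]
    rfl
  have hc0 : c ≠ 0 := by
    intro hc0
    obtain ⟨x0⟩ : Nonempty X := inferInstance
    obtain ⟨W0, hW0, hx0, e0, he0⟩ := exists_isGen hL x0
    obtain ⟨a0, ha0⟩ := he0.exists_coef (SecTwist.val s W0)
    have h1 := key W0 e0 a0 ha0
    rw [hc0, map_zero] at h1
    haveI : Nonempty W0 := ⟨⟨x0, hx0⟩⟩
    haveI : IsDomain Γ(X, W0) := inferInstance
    rcases mul_eq_zero.1 h1.symm with h2 | h2
    · apply hs
      apply hom_ext_of_val
      have h3 : SecTwist.val s ⊤ = 0 :=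
        eq_zero_of_rF_eq_zero hL (le_top : W0 ≤ ⊤) ⟨x0, hx0⟩ _
          (by rw [rF_val, ha0, h2, zero_smul])
      rw [h3]
      exact (map_zero (ap (0 : Coh.structureModule X ⟶ L) ⊤)).symm
    · exact ht (hom_eq_zero_of_ap_gen_eq_zero hL t ⟨x0, hx0⟩ he0 h2)
  obtain ⟨c', hc'⟩ := hfield.mul_inv_cancel hc0
  have hgen : ∀ x : X, ∃ V : X.Opens, x ∈ V ∧ ∀ W : X.Opens, W ≤ V →
      Function.Bijective (s.app W) := by
    intro x
    obtain ⟨W, hW, hxW, e, he⟩ := exists_isGen hL x
    obtain ⟨a, ha⟩ := he.exists_coef (SecTwist.val s W)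
    have h1 := key W e a ha
    have h2 : a * (ofM (ap t W e) * rX (le_top : W ≤ ⊤) c') = 1 := by
      rw [← mul_assoc, ← h1, ← map_mul, hc', map_one]
    have hu : IsUnit a := IsUnit.of_mul_eq_one _ h2
    have h3 : X.basicOpen a = W := Scheme.basicOpen_of_isUnit X hu
    have h4 := genLocus_inf_eq s he a ha
    rw [h3] at h4
    have hx : x ∈ CohB1.genLocus L s := by
      have : x ∈ CohB1.genLocus L s ⊓ W := by rw [h4]; exact hxW
      exact this.1
    exact (mem_genLocus_iff L s x).1 hx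
  let B : {V : X.Opens // ∀ W : X.Opens, W ≤ V → Function.Bijective (s.app W)} → X.Opens :=
    Subtype.val
  have hB : Opens.IsBasis (Set.range B) := by
    rw [Opens.isBasis_iff_nbhd]
    intro U x hxU
    obtain ⟨V, hxV, hV⟩ := hgen x
    exact ⟨V ⊓ U, ⟨⟨V ⊓ U, fun W hW => hV W (hW.trans inf_le_left)⟩, rfl⟩, ⟨hxV, hxU⟩,
      inf_le_right⟩
  refine QCohCrit.isIso_of_isIso_app_basis s B hB (fun V => ?_)
  exact (ConcreteCategory.isIso_iff_bijective _).mpr (V.2 V.1 le_rfl)

end TensH8
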