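import Mathlib
import Groth.Prelude
import Groth.Agent.Lib.Tens40_helper8

/-!
# Morphisms with `O_S ≅ f_* O_X`: invertible modules (helper8)
APPEND-ONLY once landed.
-/

set_option autoImplicit false

namespace TensH8

open AlgebraicGeometry CategoryTheory CategoryTheory.Limits TopologicalSpace Opposite TensorProduct
open QcqsLoc MonoidalCategory GenLocH8 FLFH8 QCohExtn PBH8 SerreCrit GGH8

universe u

section Gen

variable {X : Scheme.{u}}

/-- A morphism mapping a generator to a generator is bijective on sections. -/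
theorem bijective_app_of_isGen {M M' : X.Modules} (φ : M ⟶ M') {W : X.Opens} {e : Γ(M, W)}
    (he : IsGen M W e) (he' : IsGen M' W (ap φ W e)) (O : X.Opens) (hO : O ≤ W) :
    Function.Bijective (φ.app O) := by
  obtain ⟨h1, h2⟩ := he O hO
  obtain ⟨h1', h2'⟩ := he' O hO
  have hφ : ∀ c : Γ(X, O), ap φ O (c • rF M hO e) = c • rF M' hO (ap φ W e) := by
    intro c
    rw [ap_smul, ap_rF]
  constructor
  · intro a b hab
    obtain ⟨ca, rfl⟩ := h1 a
    obtain ⟨cb, rfl⟩ := h1 b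
    have h3 : ap φ O (ca • rF M hO e) = ap φ O (cb • rF M hO e) := hab
    rw [hφ, hφ, ← sub_eq_zero, ← sub_smul] at h3
    have h4 := h2' _ h3
    rw [sub_eq_zero.1 h4]
  · intro l
    obtain ⟨c, hc⟩ := h1' l
    exact ⟨c • rF M hO e, (hφ c).trans hc.symm⟩

/-- A morphism which locally maps a generator to a generator is an isomorphism. -/
theorem isIso_of_isGen_cover {M M' : X.Modules} (φ : M ⟶ M')
    (h : ∀ x : X, ∃ W : X.Opens, x ∈ W ∧ ∃ e : Γ(M, W), IsGen M W e ∧ IsGen M' W (ap φ W e)) :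
    IsIso φ := by
  let B : {V : X.Opens // ∀ W : X.Opens, W ≤ V → Function.Bijective (φ.app W)} → X.Opens :=
    Subtype.val
  have hB : Opens.IsBasis (Set.range B) := by
    rw [Opens.isBasis_iff_nbhd]
    intro U x hxU
    obtain ⟨V, hxV, e, he, he'⟩ := h x
    exact ⟨V ⊓ U, ⟨⟨V ⊓ U, fun W hW =>
      bijective_app_of_isGen φ he he' W (hW.trans inf_le_left)⟩, rfl⟩, ⟨hxV, hxU⟩, inf_le_right⟩
  refine QCohCrit.isIso_of_isIso_app_basis φ B hB (fun V => ?_)
  exact (ConcreteCategory.isIso_iff_bijective _).mpr (V.2 V.1 le_rfl)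

end Gen

section Desc

variable {X S : Scheme.{u}} (f : X ⟶ S)

theorem isUnit_of_app_bijective (hf : ∀ U : S.Opens, Function.Bijective (f.app U)) {O : S.Opens}
    {d : Γ(S, O)} (hd : IsUnit ((f.app O).hom d)) : IsUnit d := by
  let E : Γ(S, O) ≃+* Γ(X, f ⁻¹ᵁ O) := RingEquiv.ofBijective (f.app O).hom (hf O)
  have h1 : IsUnit (E d) := hd
  have h2 := h1.map E.symm
  rwa [RingEquiv.symm_apply_apply] at h2

theorem cUV_smul_app (F : S.Modules) {O : S.Opens} (d : Γ(S, O)) (x : Γ(F, O)) :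
    cUV f F (le_rfl : f ⁻¹ᵁ O ≤ f ⁻¹ᵁ O) (d • x) =
      ((f.app O).hom d) • cUV f F (le_rfl : f ⁻¹ᵁ O ≤ f ⁻¹ᵁ O) x := by
  rw [cUV_smul, Scheme.Hom.appLE_eq_app]

/-- The generator of the pullback over `f⁻¹ O`. -/
theorem isGen_cUV_res {L : S.Modules} (hL : PicF.IsInvertible L) {V : S.Opens}
    (hV : IsAffineOpen V) {e : Γ(L, V)} (he : IsGen L V e) {O : S.Opens} (hO : O ≤ V) :
    IsGen ((Scheme.Modules.pullback f).obj L) (f ⁻¹ᵁ O)
      (cUV f L (le_rfl : f ⁻¹ᵁ O ≤ f ⁻¹ᵁ O) (rF L hO e)) := by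
  have hOV : f ⁻¹ᵁ O ≤ f ⁻¹ᵁ V := fun _ hz => hO hz
  have h1 := (isGen_cUV f hL hV he).res hOV
  rw [rF_cUV] at h1
  rw [cUV_resV]
  exact h1

/-- **Descent of sections along `O_S ≅ f_* O_X`**, for invertible modules. -/
theorem cUV_bijective_of_isGen (hf : ∀ U : S.Opens, Function.Bijective (f.app U))
    {L : S.Modules} (hL : PicF.IsInvertible L) {V : S.Opens} (hV : IsAffineOpen V)
    {e : Γ(L, V)} (he : IsGen L V e) {O : S.Opens} (hO : O ≤ V) :
    Function.Bijective (cUV f L (le_rfl : f ⁻¹ᵁ O ≤ f ⁻¹ᵁ O)) := by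
  have hg := isGen_cUV_res f hL hV he hO
  have heO := he.res hO
  constructor
  · intro a b hab
    obtain ⟨ca, rfl⟩ := heO.exists_coef a
    obtain ⟨cb, rfl⟩ := heO.exists_coef b
    rw [cUV_smul_app, cUV_smul_app] at hab
    have h3 := IsGen.coef_ext hg hab
    rw [(hf O).1 h3]
  · intro m
    obtain ⟨a, ha⟩ := hg.exists_coef m
    obtain ⟨d, hd⟩ := (hf O).2 a
    refine ⟨d • rF L hO e, ?_⟩
    rw [cUV_smul_app, ha]
    congr 1

/-- If `O_S ≅ f_* O_X` and `f^* L` is trivial, then `L` is trivial. -/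
theorem nonempty_iso_of_pullback_trivial (hf : ∀ U : S.Opens, Function.Bijective (f.app U))
    {L : S.Modules} (hL : PicF.IsInvertible L)
    (α : (Scheme.Modules.pullback f).obj L ≅ Coh.structureModule X) :
    Nonempty (L ≅ Coh.structureModule S) := by
  obtain ⟨σ, hσdef⟩ : ∃ σ : Γ((Scheme.Modules.pullback f).obj L, ⊤),
      σ = ap α.inv ⊤ (toM 1) := ⟨_, rfl⟩
  have hσ : IsGen ((Scheme.Modules.pullback f).obj L) ⊤ σ := by
    rw [hσdef]
    exact isGen_of_iso α.symm (isGen_one ⊤)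
  choose V hV hxV e he using fun x : S => exists_isGen hL x
  have hsurj : ∀ x : S, ∃ τ : Γ(L, V x), cUV f L (le_rfl : f ⁻¹ᵁ V x ≤ f ⁻¹ᵁ V x) τ =
      rF ((Scheme.Modules.pullback f).obj L) le_top σ := fun x =>
    (cUV_bijective_of_isGen f hf hL (hV x) (he x) le_rfl).2 _
  choose τ hτ using hsurj
  have hcompat : ∀ x y : S, rF L (inf_le_left : V x ⊓ V y ≤ V x) (τ x) =
      rF L (inf_le_right : V x ⊓ V y ≤ V y) (τ y) := by
    intro x y
    apply (cUV_bijective_of_isGen f hf hL (hV x) (he x) (inf_le_left : V x ⊓ V y ≤ V x)).1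
    have hl : f ⁻¹ᵁ (V x ⊓ V y) ≤ f ⁻¹ᵁ V x := fun _ hz => hz.1
    have hr : f ⁻¹ᵁ (V x ⊓ V y) ≤ f ⁻¹ᵁ V y := fun _ hz => hz.2
    have h1 : cUV f L (le_rfl : f ⁻¹ᵁ (V x ⊓ V y) ≤ _) (rF L inf_le_left (τ x)) =
        rF ((Scheme.Modules.pullback f).obj L) le_top σ := by
      rw [cUV_resV]
      have := congrArg (rF ((Scheme.Modules.pullback f).obj L) hl) (hτ x)
      rw [rF_cUV, rF_rF] at this
      exact this
    have h2 : cUV f L (le_rfl : f ⁻¹ᵁ (V x ⊓ V y) ≤ _) (rF L inf_le_right (τ y)) =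
        rF ((Scheme.Modules.pullback f).obj L) le_top σ := by
      rw [cUV_resV]
      have := congrArg (rF ((Scheme.Modules.pullback f).obj L) hr) (hτ y)
      rw [rF_cUV, rF_rF] at this
      exact this
    exact h1.trans h2.symm
  obtain ⟨τ', hτ'⟩ := glue L V ⊤ (fun _ => le_top)
    (fun x _ => Opens.mem_iSup.mpr ⟨x, hxV x⟩) τ hcompat
  have hgen : ∀ x : S, IsGen L (V x) (τ x) := by
    intro x
    obtain ⟨d, hd⟩ := (he x).exists_coef (τ x)
    have hg := isGen_cUV_res f hL (hV x) (he x) (le_rfl : V x ≤ V x)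
    rw [SubExt.rF_self] at hg
    have h1 := hτ x
    rw [hd, cUV_smul_app] at h1
    have h2 : IsGen ((Scheme.Modules.pullback f).obj L) (f ⁻¹ᵁ V x)
        (((f.app (V x)).hom d) • cUV f L (le_rfl : f ⁻¹ᵁ V x ≤ f ⁻¹ᵁ V x) (e x)) := by
      rw [h1]
      exact hσ.res le_top
    have hu : IsUnit ((f.app (V x)).hom d) := isUnit_of_isGen_smul hg h2
    have hu' : IsUnit d := isUnit_of_app_bijective f hf hu
    rw [hd]
    exact isGen_smul_of_isUnit (he x) hu'
  haveI : IsIso (homOfSec L τ') := by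
    apply isIso_of_isGen_cover
    intro x
    refine ⟨V x, hxV x, toM 1, isGen_one (V x), ?_⟩
    have h1 : ap (homOfSec L τ') (V x) (toM 1) = τ x := (val_homOfSec L τ' (V x)).trans (hτ' x)
    rw [h1]
    exact hgen x
  exact ⟨(asIso (homOfSec L τ')).symm⟩

end Desc


section Push

variable {X S : Scheme.{u}} (f : X ⟶ S)

/-- A generator of `L` over `f⁻¹ V` is a generator of `f_* L` over `V` when `O_S ≅ f_* O_X`. -/
theorem isGen_pushforward (hf : ∀ U : S.Opens, Function.Bijective (f.app U)) {L : X.Modules}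
    {V : S.Opens} {e : Γ(L, f ⁻¹ᵁ V)} (he : IsGen L (f ⁻¹ᵁ V) e) :
    IsGen ((Scheme.Modules.pushforward f).obj L) V
      (show Γ((Scheme.Modules.pushforward f).obj L, V) from e) := by
  intro O hO
  have hOV : f ⁻¹ᵁ O ≤ f ⁻¹ᵁ V := fun _ hz => hO hz
  obtain ⟨h1, h2⟩ := he (f ⁻¹ᵁ O) hOV
  constructor
  · intro l
    obtain ⟨a, ha⟩ := h1 l
    obtain ⟨d, hd⟩ := (hf O).2 a
    refine ⟨d, ?_⟩
    rw [← hd] at ha
    exact ha
  · intro c hc
    have := h2 ((f.app O).hom c) hc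
    exact (hf O).1 (this.trans (map_zero _).symm)

/-- If `O_S ≅ f_* O_X`, an invertible module on `X` which is trivial locally over `S` is the
pullback of an invertible module on `S` (namely of `f_* L`). -/
theorem exists_iso_pullback_of_locally_trivial (hf : ∀ U : S.Opens, Function.Bijective (f.app U))
    {L : X.Modules}
    (hloc : ∀ s : S, ∃ U : S.Opens, s ∈ U ∧
      Nonempty ((Scheme.Modules.pullback (f ⁻¹ᵁ U).ι).obj L ≅ Coh.structureModule (f ⁻¹ᵁ U))) :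
    ∃ N : S.Modules, PicF.IsInvertible N ∧ Nonempty (L ≅ (Scheme.Modules.pullback f).obj N) := by
  have key : ∀ s : S, ∃ V : S.Opens, IsAffineOpen V ∧ s ∈ V ∧
      ∃ e : Γ(L, f ⁻¹ᵁ V), IsGen L (f ⁻¹ᵁ V) e := by
    intro s
    obtain ⟨U, hsU, ⟨β⟩⟩ := hloc s
    obtain ⟨β', hβ'⟩ : ∃ β' : L.restrict (f ⁻¹ᵁ U).ι ≅ Coh.structureModule (f ⁻¹ᵁ U),
        β' = (Scheme.Modules.restrictFunctorIsoPullback (f ⁻¹ᵁ U).ι).app L ≪≫ β := ⟨_, rfl⟩
    have h0 : IsGen (L.restrict (f ⁻¹ᵁ U).ι) ⊤ (ap β'.inv ⊤ (toM 1)) :=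
      isGen_of_iso β'.symm (isGen_one ⊤)
    have h1 := isGen_of_restrict (f ⁻¹ᵁ U).ι L _ h0
    obtain ⟨_, ⟨V, hV : IsAffineOpen V, rfl⟩, hsV, hVU⟩ :=
      (S.isBasis_affineOpens).exists_subset_of_mem_open hsU U.isOpen
    have hVU' : V ≤ U := hVU
    have hle : f ⁻¹ᵁ V ≤ (f ⁻¹ᵁ U).ι ''ᵁ ⊤ := by
      rw [Scheme.Opens.ι_image_top]
      exact fun _ hz => hVU' hz
    exact ⟨V, hV, hsV, _, h1.res hle⟩
  have hM : PicF.IsInvertible ((Scheme.Modules.pushforward f).obj L) := by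
    apply isInvertible_of_gens
    intro s
    obtain ⟨V, hV, hsV, e, he⟩ := key s
    exact ⟨V, hV, hsV, _, isGen_pushforward f hf he⟩
  refine ⟨(Scheme.Modules.pushforward f).obj L, hM, ?_⟩
  haveI : IsIso ((Scheme.Modules.pullbackPushforwardAdjunction f).counit.app L) := by
    apply isIso_of_isGen_cover
    intro z
    obtain ⟨V, hV, hsV, e, he⟩ := key (f z)
    refine ⟨f ⁻¹ᵁ V, hsV, cUV f ((Scheme.Modules.pushforward f).obj L) le_rfl
      (show Γ((Scheme.Modules.pushforward f).obj L, V) from e),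
      isGen_cUV f hM hV (isGen_pushforward f hf he), ?_⟩
    rw [counit_cUV f L (le_rfl : f ⁻¹ᵁ V ≤ f ⁻¹ᵁ V) e, SubExt.rF_self]
    exact he
  exact ⟨(asIso ((Scheme.Modules.pullbackPushforwardAdjunction f).counit.app L)).symm⟩

end Push

end TensH8
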