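import Mathlib
import Groth.Prelude
import Groth.Agent.Lib.Tens41_helper8

/-!
# Morphisms with `O_S ≅ f_* O_X`: finite locally free modules (helper8)
APPEND-ONLY once landed.
-/

set_option autoImplicit false

namespace TensH8

open AlgebraicGeometry CategoryTheory CategoryTheory.Limits TopologicalSpace Opposite TensorProduct
open QcqsLoc MonoidalCategory GenLocH8 FLFH8 QCohExtn PBH8 SerreCrit GGH8

universe u

section Glue

variable {X : Scheme.{u}}

theorem rF_sum_smul (M : X.Modules) {W O : X.Opens} (h : O ≤ W) {r : ℕ} (c : Fin r → Γ(X, W))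
    (t : Fin r → Γ(M, W)) :
    rF M h (∑ j, c j • t j) = ∑ j, rX h (c j) • rF M h (t j) := by
  rw [map_sum]
  exact Finset.sum_congr rfl (fun j _ => rF_smul M h (c j) (t j))

/-- Linear independence of restricted sections is local. -/
theorem li_of_basis {M : X.Modules} {W : X.Opens} {r : ℕ} (t : Fin r → Γ(M, W))
    (B : Set X.Opens)
    (hB : ∀ (O : X.Opens) (x : X), O ≤ W → x ∈ O → ∃ U' ∈ B, x ∈ U' ∧ U' ≤ O)
    (h : ∀ U' ∈ B, ∀ hU' : U' ≤ W, BasisOn M t U' hU') (O : X.Opens) (hO : O ≤ W) :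
    LinearIndependent Γ(X, O) (fun j => rF M hO (t j)) := by
  rw [Fintype.linearIndependent_iff]
  intro c hc j
  apply eqX_of_cover (c j) 0
  intro x hx
  obtain ⟨U', hU'B, hxU', hU'O⟩ := hB O x hO hx
  refine ⟨U', hU'O, hxU', ?_⟩
  rw [map_zero]
  have h1 := congrArg (rF M hU'O) hc
  rw [rF_sum_smul, map_zero] at h1
  have h2 : ∑ j, rX hU'O (c j) • rF M (hU'O.trans hO) (t j) = 0 := by
    rw [← h1]
    exact Finset.sum_congr rfl (fun j _ => by rw [rF_rF])
  exact Fintype.linearIndependent_iff.mp (h U' hU'B (hU'O.trans hO)).2 _ h2 j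

/-- Being a basis on all smaller opens can be checked on a basis of opens. -/
theorem basisOn_of_basis {M : X.Modules} {W : X.Opens} {r : ℕ} (t : Fin r → Γ(M, W))
    (B : Set X.Opens)
    (hB : ∀ (O : X.Opens) (x : X), O ≤ W → x ∈ O → ∃ U' ∈ B, x ∈ U' ∧ U' ≤ O)
    (h : ∀ U' ∈ B, ∀ hU' : U' ≤ W, BasisOn M t U' hU') (O : X.Opens) (hO : O ≤ W) :
    BasisOn M t O hO := by
  refine ⟨?_, li_of_basis t B hB h O hO⟩
  rw [eq_top_iff]
  intro m _
  have hloc : ∀ x : {x // x ∈ O}, ∃ (U' : X.Opens) (hU' : U' ≤ O), x.1 ∈ U' ∧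
      ∃ c : Fin r → Γ(X, U'), rF M hU' m = ∑ j, c j • rF M (hU'.trans hO) (t j) := by
    rintro ⟨x, hx⟩
    obtain ⟨U', hU'B, hxU', hU'O⟩ := hB O x hO hx
    have hm : rF M hU'O m ∈ Submodule.span Γ(X, U')
        (Set.range fun j => rF M (hU'O.trans hO) (t j)) := by
      rw [(h U' hU'B (hU'O.trans hO)).1]; trivial
    obtain ⟨c, hc⟩ := (Submodule.mem_span_range_iff_exists_fun _).mp hm
    exact ⟨U', hU'O, hxU', c, hc.symm⟩
  choose U' hU' hxU' c hc using hloc
  have hglue : ∀ j : Fin r, ∃ d : Γ(X, O), ∀ i, rX (hU' i) d = c i j := by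
    intro j
    refine glueX U' O hU' (fun x hx => Opens.mem_iSup.mpr ⟨⟨x, hx⟩, hxU' ⟨x, hx⟩⟩)
      (fun i => c i j) ?_
    intro i i'
    have hl : U' i ⊓ U' i' ≤ U' i := inf_le_left
    have hr : U' i ⊓ U' i' ≤ U' i' := inf_le_right
    have h1 := congrArg (rF M hl) (hc i)
    have h2 := congrArg (rF M hr) (hc i')
    rw [rF_rF, rF_sum_smul] at h1 h2
    have h3 : ∑ j, (rX hl (c i j) - rX hr (c i' j)) •
        rF M ((hl.trans (hU' i)).trans hO) (t j) = 0 := by
      have e1 : ∑ j, rX hl (c i j) • rF M ((hl.trans (hU' i)).trans hO) (t j) =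
          rF M (hl.trans (hU' i)) m := by
        rw [h1]
        exact Finset.sum_congr rfl (fun j _ => by rw [rF_rF])
      have e2 : ∑ j, rX hr (c i' j) • rF M ((hl.trans (hU' i)).trans hO) (t j) =
          rF M (hl.trans (hU' i)) m := by
        rw [h2]
        exact Finset.sum_congr rfl (fun j _ => by rw [rF_rF])
      simp only [sub_smul, Finset.sum_sub_distrib]
      rw [e1, e2, sub_self]
    have h4 := Fintype.linearIndependent_iff.mp
      (li_of_basis t B hB h (U' i ⊓ U' i') ((hl.trans (hU' i)).trans hO)) _ h3 j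
    exact sub_eq_zero.1 h4
  choose d hd using hglue
  have hm : m = ∑ j, d j • rF M hO (t j) := by
    apply eq_of_cover M
    intro x hx
    refine ⟨U' ⟨x, hx⟩, hU' ⟨x, hx⟩, hxU' ⟨x, hx⟩, ?_⟩
    rw [rF_sum_smul, hc]
    exact Finset.sum_congr rfl (fun j _ => by rw [hd, rF_rF])
  rw [hm]
  exact Submodule.sum_mem _ (fun j _ => Submodule.smul_mem _ _ (Submodule.subset_span ⟨j, rfl⟩))

end Glue


section PullBases

variable {X S : Scheme.{u}} (f : X ⟶ S)

/-- Base change of a basis along `cUV` on affine opens. -/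
theorem basisOn_cUV_affine {N : S.Modules} [N.IsQuasicoherent] {V : S.Opens}
    (hV : IsAffineOpen V) {r : ℕ} (t : Fin r → Γ(N, V)) (ht : BasisOn N t V le_rfl)
    {U : X.Opens} (hU : IsAffineOpen U) (h : U ≤ f ⁻¹ᵁ V) :
    Submodule.span Γ(X, U) (Set.range fun j => cUV f N h (t j)) = ⊤ ∧
      LinearIndependent Γ(X, U) (fun j => cUV f N h (t j)) := by
  letI := (f.appLE V U h).hom.toAlgebra
  letI mA : Module Γ(S, V) Γ((Scheme.Modules.pullback f).obj N, U) :=
    Module.compHom _ (f.appLE V U h).hom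
  haveI : IsScalarTower Γ(S, V) Γ(X, U) Γ((Scheme.Modules.pullback f).obj N, U) :=
    IsScalarTower.of_algebraMap_smul fun _ _ => rfl
  have hbc := isBaseChange_cUV f N h hU hV
  obtain ⟨hspan, hli⟩ := BasisOn.self N t ht
  obtain ⟨b, hb⟩ : ∃ b : Module.Basis (Fin r) Γ(S, V) Γ(N, V), ⇑b = t :=
    ⟨Module.Basis.mk hli hspan.ge, Module.Basis.coe_mk hli hspan.ge⟩
  have e : ⇑(hbc.basis b) = fun j => cUV f N h (t j) := by
    funext j
    rw [IsBaseChange.basis_apply, hb]
    rfl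
  rw [← e]
  exact ⟨(hbc.basis b).span_eq, (hbc.basis b).linearIndependent⟩

/-- **Pullback of local bases**: sections forming bases of a quasi-coherent module over all
opens of an affine open `V` pull back to sections forming bases over all opens of `f⁻¹ V`. -/
theorem basisOn_cUV {N : S.Modules} [N.IsQuasicoherent] {V : S.Opens}
    (hV : IsAffineOpen V) {r : ℕ} (t : Fin r → Γ(N, V)) (ht : BasisOn N t V le_rfl)
    (O' : X.Opens) (hO' : O' ≤ f ⁻¹ᵁ V) :
    BasisOn ((Scheme.Modules.pullback f).obj N)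
      (fun j => cUV f N (le_rfl : f ⁻¹ᵁ V ≤ f ⁻¹ᵁ V) (t j)) O' hO' := by
  refine basisOn_of_basis _ {U' | IsAffineOpen U'} ?_ ?_ O' hO'
  · intro O x _ hx
    obtain ⟨_, ⟨U', hU' : IsAffineOpen U', rfl⟩, hxU', hle⟩ :=
      (X.isBasis_affineOpens).exists_subset_of_mem_open hx O.isOpen
    exact ⟨U', hU', hxU', hle⟩
  · intro U' hU' hle
    have e : (fun j => rF ((Scheme.Modules.pullback f).obj N) hle
        (cUV f N (le_rfl : f ⁻¹ᵁ V ≤ f ⁻¹ᵁ V) (t j))) = fun j => cUV f N (hle.trans le_rfl) (t j) := by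
      funext j
      exact rF_cUV f N le_rfl hle (t j)
    unfold BasisOn
    rw [e]
    exact basisOn_cUV_affine f hV t ht hU' (hle.trans le_rfl)

end PullBases


section Unit

variable {X S : Scheme.{u}} (f : X ⟶ S)

theorem cUV_sum_smul_app (F : S.Modules) {O : S.Opens} {r : ℕ} (d : Fin r → Γ(S, O))
    (x : Fin r → Γ(F, O)) :
    cUV f F (le_rfl : f ⁻¹ᵁ O ≤ f ⁻¹ᵁ O) (∑ j, d j • x j) =
      ∑ j, ((f.app O).hom (d j)) • cUV f F (le_rfl : f ⁻¹ᵁ O ≤ f ⁻¹ᵁ O) (x j) := by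
  have h1 : cUV f F (le_rfl : f ⁻¹ᵁ O ≤ f ⁻¹ᵁ O) (∑ j, d j • x j) =
      ∑ j, cUV f F (le_rfl : f ⁻¹ᵁ O ≤ f ⁻¹ᵁ O) (d j • x j) := by
    let g : Γ(F, O) →+ Γ((Scheme.Modules.pullback f).obj F, f ⁻¹ᵁ O) :=
      { toFun := cUV f F (le_rfl : f ⁻¹ᵁ O ≤ f ⁻¹ᵁ O)
        map_zero' := by
          have := cUV_add f F (le_rfl : f ⁻¹ᵁ O ≤ f ⁻¹ᵁ O) 0 0
          rw [add_zero] at this
          exact left_eq_add.mp this
        map_add' := cUV_add f F le_rfl }
    exact map_sum g _ _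
  rw [h1]
  exact Finset.sum_congr rfl (fun j _ => cUV_smul_app f F (d j) (x j))

/-- `cUV` is bijective over opens carrying local bases when `O_S ≅ f_* O_X`. -/
theorem cUV_bijective_of_bases (hf : ∀ U : S.Opens, Function.Bijective (f.app U))
    {N : S.Modules} [N.IsQuasicoherent] {V : S.Opens} (hV : IsAffineOpen V) {r : ℕ}
    (t : Fin r → Γ(N, V)) (ht : ∀ (O : S.Opens) (hO : O ≤ V), BasisOn N t O hO)
    {O : S.Opens} (hO : O ≤ V) :
    Function.Bijective (cUV f N (le_rfl : f ⁻¹ᵁ O ≤ f ⁻¹ᵁ O)) := by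
  have hOV : f ⁻¹ᵁ O ≤ f ⁻¹ᵁ V := fun _ hz => hO hz
  obtain ⟨hspan, hli⟩ := ht O hO
  obtain ⟨hspan', hli'⟩ := basisOn_cUV f hV t (ht V le_rfl) (f ⁻¹ᵁ O) hOV
  have e : (fun j => rF ((Scheme.Modules.pullback f).obj N) hOV
      (cUV f N (le_rfl : f ⁻¹ᵁ V ≤ f ⁻¹ᵁ V) (t j))) =
      fun j => cUV f N (le_rfl : f ⁻¹ᵁ O ≤ f ⁻¹ᵁ O) (rF N hO (t j)) := by
    funext j
    rw [rF_cUV, cUV_resV]
  rw [e] at hspan' hli'
  constructor
  · intro a b hab
    have ha : a ∈ Submodule.span Γ(S, O) (Set.range fun j => rF N hO (t j)) := by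
      rw [hspan]; trivial
    have hb : b ∈ Submodule.span Γ(S, O) (Set.range fun j => rF N hO (t j)) := by
      rw [hspan]; trivial
    obtain ⟨ca, rfl⟩ := (Submodule.mem_span_range_iff_exists_fun _).mp ha
    obtain ⟨cb, rfl⟩ := (Submodule.mem_span_range_iff_exists_fun _).mp hb
    rw [cUV_sum_smul_app, cUV_sum_smul_app, ← sub_eq_zero, ← Finset.sum_sub_distrib] at hab
    simp only [← sub_smul] at hab
    have h0 := Fintype.linearIndependent_iff.mp hli' _ hab
    apply Finset.sum_congr rfl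
    intro j _
    have h1 := sub_eq_zero.1 (h0 j)
    rw [(hf O).1 h1]
  · intro m
    have hm : m ∈ Submodule.span Γ(X, f ⁻¹ᵁ O)
        (Set.range fun j => cUV f N (le_rfl : f ⁻¹ᵁ O ≤ f ⁻¹ᵁ O) (rF N hO (t j))) := by
      rw [hspan']; trivial
    obtain ⟨a, ha⟩ := (Submodule.mem_span_range_iff_exists_fun _).mp hm
    choose d hd using fun j => (hf O).2 (a j)
    refine ⟨∑ j, d j • rF N hO (t j), ?_⟩
    rw [cUV_sum_smul_app, ← ha]
    exact Finset.sum_congr rfl (fun j _ => by rw [hd])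

theorem unit_app_eq_cUV (F : S.Modules) (O : S.Opens) (x : Γ(F, O)) :
    ((Scheme.Modules.pullbackPushforwardAdjunction f).unit.app F).app O x =
      cUV f F (le_rfl : f ⁻¹ᵁ O ≤ f ⁻¹ᵁ O) x := by
  unfold cUV
  exact (SubExt.rF_self ((Scheme.Modules.pullback f).obj F) le_rfl _).symm

/-- If `O_S ≅ f_* O_X`, the unit `N ⟶ f_* f^* N` is an isomorphism for `N` finite locally free. -/
theorem isIso_unit_of_finLocFree (hf : ∀ U : S.Opens, Function.Bijective (f.app U))
    {N : S.Modules} (hN : FlatMod.IsFinLocFree N) :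
    IsIso ((Scheme.Modules.pullbackPushforwardAdjunction f).unit.app N) := by
  haveI := isQuasicoherent_of_finLocFree N hN
  let B : {O : S.Opens // Function.Bijective
      (((Scheme.Modules.pullbackPushforwardAdjunction f).unit.app N).app O)} → S.Opens :=
    Subtype.val
  have hB : Opens.IsBasis (Set.range B) := by
    rw [Opens.isBasis_iff_nbhd]
    intro U x hxU
    obtain ⟨U₀, n, hxU₀, ⟨α⟩⟩ := hN x
    obtain ⟨W, hW, hxW, -, t, ht⟩ := exists_affine_bases N hxU₀ α
    refine ⟨W ⊓ U, ⟨⟨W ⊓ U, ?_⟩, rfl⟩, ⟨hxW, hxU⟩, inf_le_right⟩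
    have h1 := cUV_bijective_of_bases f hf hW t ht (inf_le_left : W ⊓ U ≤ W)
    have e : ⇑(ConcreteCategory.hom
        (((Scheme.Modules.pullbackPushforwardAdjunction f).unit.app N).app (W ⊓ U))) =
        cUV f N (le_rfl : f ⁻¹ᵁ (W ⊓ U) ≤ f ⁻¹ᵁ (W ⊓ U)) := by
      funext x
      exact unit_app_eq_cUV f N (W ⊓ U) x
    rw [e]
    exact h1
  refine QCohCrit.isIso_of_isIso_app_basis _ B hB (fun V => ?_)
  exact (ConcreteCategory.isIso_iff_bijective _).mpr V.2

/-- If `O_S ≅ f_* O_X`, pullback along `f` is fully faithful towards finite locally free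
modules. -/
theorem pullback_map_bijective (hf : ∀ U : S.Opens, Function.Bijective (f.app U))
    (N N' : S.Modules) (hN' : FlatMod.IsFinLocFree N') :
    Function.Bijective (fun φ : N ⟶ N' => (Scheme.Modules.pullback f).map φ) := by
  haveI := isIso_unit_of_finLocFree f hf hN'
  have h1 : (fun φ : N ⟶ N' => (Scheme.Modules.pullback f).map φ) =
      ((Scheme.Modules.pullbackPushforwardAdjunction f).homEquiv N
        ((Scheme.Modules.pullback f).obj N')).symm ∘
      (fun φ : N ⟶ N' => φ ≫ (Scheme.Modules.pullbackPushforwardAdjunction f).unit.app N') := by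
    funext φ
    rw [Function.comp_apply, Equiv.eq_symm_apply, Adjunction.homEquiv_unit]
    exact ((Scheme.Modules.pullbackPushforwardAdjunction f).unit.naturality φ).symm
  rw [h1]
  refine (Equiv.bijective _).comp ?_
  constructor
  · intro a b hab
    exact (cancel_mono _).1 hab
  · intro ψ
    exact ⟨ψ ≫ inv ((Scheme.Modules.pullbackPushforwardAdjunction f).unit.app N'), by simp⟩

end Unit

end TensH8
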