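import Groth.Prelude
import Groth.Agent.Lib.Tens42_helper8

/-!
# Sections of `E ⊗ N` over opens where `E` has a basis (helper9)

If sections `e : Fin n → Γ(E, W)` restrict to bases of `E` over all opens `O ≤ W`, then for every
module `N` and `O ≤ W` the map `(t_i) ↦ Σ e_i|_O ⊗ t_i`, `Γ(N, O)^n → Γ(E ⊗ N, O)`, is bijective.
APPEND-ONLY once landed.
-/

set_option autoImplicit false

namespace PFormH9

open AlgebraicGeometry CategoryTheory CategoryTheory.Limits TopologicalSpace Opposite TensorProduct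
open QcqsLoc MonoidalCategory GenLocH8 FLFH8 QCohExtn TensH8

universe u

variable {X : Scheme.{u}} (E N : X.Modules) {W : X.Opens} {n : ℕ} (e : Fin n → Γ(E, W))
  (he : ∀ (O : X.Opens) (hO : O ≤ W), BasisOn E e O hO)

/-- The basis of `Γ(E, O)` given by the restrictions of `e`. -/
noncomputable def bas {O : X.Opens} (hO : O ≤ W) : Module.Basis (Fin n) Γ(X, O) Γ(E, O) :=
  Module.Basis.mk (he O hO).2 (he O hO).1.ge

theorem bas_apply {O : X.Opens} (hO : O ≤ W) (i : Fin n) : bas E e he hO i = rF E hO (e i) := by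
  unfold bas
  rw [Module.Basis.mk_apply]

/-- The coordinates of a section of `E`. -/
noncomputable def coef {O : X.Opens} (hO : O ≤ W) (l : Γ(E, O)) (i : Fin n) : Γ(X, O) :=
  (bas E e he hO).repr l i

theorem coef_add {O : X.Opens} (hO : O ≤ W) (l l' : Γ(E, O)) (i : Fin n) :
    coef E e he hO (l + l') i = coef E e he hO l i + coef E e he hO l' i := by
  unfold coef
  rw [map_add, Finsupp.add_apply]

theorem coef_smul {O : X.Opens} (hO : O ≤ W) (r : Γ(X, O)) (l : Γ(E, O)) (i : Fin n) :
    coef E e he hO (r • l) i = r * coef E e he hO l i := by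
  unfold coef
  rw [map_smul, Finsupp.smul_apply, smul_eq_mul]

theorem coef_basis {O : X.Opens} (hO : O ≤ W) (j i : Fin n) :
    coef E e he hO (rF E hO (e j)) i = if j = i then 1 else 0 := by
  unfold coef
  rw [← bas_apply E e he hO j, Module.Basis.repr_self, Finsupp.single_apply]

theorem sum_coef {O : X.Opens} (hO : O ≤ W) (l : Γ(E, O)) :
    ∑ i, coef E e he hO l i • rF E hO (e i) = l := by
  have h := (bas E e he hO).sum_repr l
  simp only [bas_apply] at h
  exact h

/-- The pairing `(l, t) ↦ coef_i(l) • t`. -/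
noncomputable def psiFun {O : X.Opens} (hO : O ≤ W) (i : Fin n) (l : Γ(E, O)) (t : Γ(N, O)) :
    Γ(N, O) :=
  coef E e he hO l i • t

theorem psiFun_add_left {O : X.Opens} (hO : O ≤ W) (i : Fin n) (l l' : Γ(E, O)) (t : Γ(N, O)) :
    psiFun E N e he hO i (l + l') t = psiFun E N e he hO i l t + psiFun E N e he hO i l' t := by
  unfold psiFun
  rw [coef_add, add_smul]

theorem psiFun_smul_left {O : X.Opens} (hO : O ≤ W) (i : Fin n) (r : Γ(X, O)) (l : Γ(E, O))
    (t : Γ(N, O)) :
    psiFun E N e he hO i (r • l) t = r • psiFun E N e he hO i l t := by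
  unfold psiFun
  rw [coef_smul, mul_smul]

theorem psiFun_add_right {O : X.Opens} (hO : O ≤ W) (i : Fin n) (l : Γ(E, O)) (t t' : Γ(N, O)) :
    psiFun E N e he hO i l (t + t') = psiFun E N e he hO i l t + psiFun E N e he hO i l t' :=
  smul_add _ _ _

theorem psiFun_smul_right {O : X.Opens} (hO : O ≤ W) (i : Fin n) (r : Γ(X, O)) (l : Γ(E, O))
    (t : Γ(N, O)) :
    psiFun E N e he hO i l (r • t) = r • psiFun E N e he hO i l t :=
  smul_comm _ _ _

/-- The `i`-th coordinate map `E(O) ⊗ N(O) → N(O)`. -/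
noncomputable def psi {O : X.Opens} (hO : O ≤ W) (i : Fin n) :
    ((CohB1.tensorPre E N).obj (op O)) ⟶ ((CohB1.toPMod N).obj (op O)) :=
  ModuleCat.MonoidalCategory.tensorLift
    (fun l t => psiFun E N e he hO i l t)
    (fun l l' t => psiFun_add_left E N e he hO i l l' t)
    (fun r l t => psiFun_smul_left E N e he hO i r l t)
    (fun l t t' => psiFun_add_right E N e he hO i l t t')
    (fun r l t => psiFun_smul_right E N e he hO i r l t)

theorem psi_tmul {O : X.Opens} (hO : O ≤ W) (i : Fin n) (l : E.val.obj (op O))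
    (t : N.val.obj (op O)) :
    (psi E N e he hO i).hom (l ⊗ₜ t) = psiFun E N e he hO i l t := rfl

/-- `(t_i) ↦ Σ e_i|_O ⊗ t_i` in the presheaf tensor product. -/
noncomputable def phi {O : X.Opens} (hO : O ≤ W) (t : Fin n → Γ(N, O)) :
    ↥((CohB1.tensorPre E N).obj (op O)) :=
  ∑ i, ((rF E hO (e i) : E.val.obj (op O)) ⊗ₜ (t i : N.val.obj (op O)))

theorem psi_phi {O : X.Opens} (hO : O ≤ W) (t : Fin n → Γ(N, O)) (i : Fin n) :
    (psi E N e he hO i).hom (phi E N e hO t) = t i := by
  unfold phi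
  rw [map_sum]
  have h : ∀ j : Fin n, (psi E N e he hO i).hom
      ((rF E hO (e j) : E.val.obj (op O)) ⊗ₜ (t j : N.val.obj (op O))) =
      if j = i then t j else 0 := by
    intro j
    rw [psi_tmul]
    unfold psiFun
    rw [coef_basis]
    split_ifs
    · exact one_smul _ _
    · exact zero_smul _ _
  rw [Finset.sum_congr rfl (fun j _ => h j)]
  exact (Finset.sum_eq_single i (fun j _ hj => if_neg hj)
    (fun h => absurd (Finset.mem_univ i) h)).trans (if_pos rfl)

include he in
theorem phi_injective {O : X.Opens} (hO : O ≤ W) : Function.Injective (phi E N e hO) := by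
  intro t t' h
  funext i
  rw [← psi_phi E N e he hO t i, ← psi_phi E N e he hO t' i, h]

theorem phi_add {O : X.Opens} (hO : O ≤ W) (t t' : Fin n → Γ(N, O)) :
    phi E N e hO (t + t') = phi E N e hO t + phi E N e hO t' := by
  unfold phi
  rw [← Finset.sum_add_distrib]
  refine Finset.sum_congr rfl (fun i _ => ?_)
  exact TensorProduct.tmul_add _ _ _

theorem phi_zero {O : X.Opens} (hO : O ≤ W) : phi E N e hO 0 = 0 := by
  unfold phi
  refine Finset.sum_eq_zero (fun i _ => ?_)
  exact TensorProduct.tmul_zero _ _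

theorem phi_single {O : X.Opens} (hO : O ≤ W) (i : Fin n) (t : Γ(N, O)) :
    phi E N e hO (Pi.single i t) =
      ((rF E hO (e i) : E.val.obj (op O)) ⊗ₜ (t : N.val.obj (op O)) :
        ↥((CohB1.tensorPre E N).obj (op O))) := by
  unfold phi
  rw [Finset.sum_eq_single i]
  · rw [Pi.single_eq_same]
  · intro j _ hj
    rw [Pi.single_eq_of_ne hj]
    exact TensorProduct.tmul_zero _ _
  · intro h
    exact absurd (Finset.mem_univ i) h

include he in
theorem phi_surjective {O : X.Opens} (hO : O ≤ W) : Function.Surjective (phi E N e hO) := by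
  intro p
  induction p using TensorProduct.induction_on with
  | zero => exact ⟨0, phi_zero E N e hO⟩
  | tmul l t =>
    have hl : (show Γ(E, O) from l) ∈
        Submodule.span Γ(X, O) (Set.range fun j => rF E hO (e j)) := by
      rw [(he O hO).1]
      trivial
    revert t
    refine Submodule.span_induction
      (p := fun l _ => ∀ t : N.val.obj (op O), ∃ s, phi E N e hO s =
        (((l : E.val.obj (op O)) ⊗ₜ t : ↥((CohB1.tensorPre E N).obj (op O))))) ?_ ?_ ?_ ?_ hl
    · rintro _ ⟨j, rfl⟩ t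
      exact ⟨Pi.single j t, phi_single E N e hO j t⟩
    · intro t
      exact ⟨0, (phi_zero E N e hO).trans (TensorProduct.zero_tmul _ _).symm⟩
    · intro x y _ _ hx hy t
      obtain ⟨s, hs⟩ := hx t
      obtain ⟨s', hs'⟩ := hy t
      refine ⟨s + s', ?_⟩
      rw [phi_add, hs, hs']
      exact (TensorProduct.add_tmul _ _ _).symm
    · intro r x _ hx t
      obtain ⟨s, hs⟩ := hx ((show Γ(X, O) from r) • (show Γ(N, O) from t))
      refine ⟨s, hs.trans ?_⟩
      exact (TensorProduct.smul_tmul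
        (R := ↑((X.sheaf.obj ⋙ forget₂ CommRingCat RingCat).obj (op O)))
        (R' := ↑((X.sheaf.obj ⋙ forget₂ CommRingCat RingCat).obj (op O))) r _ _).symm
  | add p q hp hq =>
    obtain ⟨t, rfl⟩ := hp
    obtain ⟨t', rfl⟩ := hq
    exact ⟨t + t', phi_add E N e hO t t'⟩

theorem resPre_phi {O V : X.Opens} (hO : O ≤ W) (h : V ≤ O) (t : Fin n → Γ(N, O)) :
    resPre E N h (phi E N e hO t) = phi E N e (h.trans hO) (fun i => rF N h (t i)) := by
  unfold phi
  rw [map_sum]
  refine Finset.sum_congr rfl (fun i _ => ?_)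
  rw [resPre_tmul]
  congr 1
  exact rF_rF E h hO (e i)

/-- `(t_i) ↦ Σ e_i|_O ⊗ t_i` as a section of `E ⊗ N`. -/
noncomputable def sumT {O : X.Opens} (hO : O ≤ W) (t : Fin n → Γ(N, O)) :
    Γ(CohB1.tensorMod E N, O) :=
  ∑ i, SecTwist.tmul E N O (rF E hO (e i)) (t i)

theorem eta_phi {O : X.Opens} (hO : O ≤ W) (t : Fin n → Γ(N, O)) :
    eta E N O (phi E N e hO t) = sumT E N e hO t := by
  unfold phi sumT
  rw [map_sum]
  rfl

theorem sumT_add {O : X.Opens} (hO : O ≤ W) (t t' : Fin n → Γ(N, O)) :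
    sumT E N e hO (t + t') = sumT E N e hO t + sumT E N e hO t' := by
  rw [← eta_phi, ← eta_phi, ← eta_phi, phi_add]
  exact map_add _ _ _

theorem sumT_zero {O : X.Opens} (hO : O ≤ W) : sumT E N e hO 0 = 0 := by
  rw [← eta_phi, phi_zero]
  exact map_zero _

theorem rF_sumT {O V : X.Opens} (hO : O ≤ W) (h : V ≤ O) (t : Fin n → Γ(N, O)) :
    rF (CohB1.tensorMod E N) h (sumT E N e hO t) =
      sumT E N e (h.trans hO) (fun i => rF N h (t i)) := by
  unfold sumT
  rw [map_sum]
  refine Finset.sum_congr rfl (fun i _ => ?_)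
  rw [rF_tmul, rF_rF]

include he in
theorem sumT_injective {O : X.Opens} (hO : O ≤ W) (t t' : Fin n → Γ(N, O))
    (h : sumT E N e hO t = sumT E N e hO t') : t = t' := by
  funext i
  apply eq_of_cover N (t i) (t' i)
  intro x hx
  obtain ⟨V, hV, hxV, hres⟩ := eta_locally_injective E N (phi E N e hO t) (phi E N e hO t')
    (by rw [eta_phi, eta_phi]; exact h) x hx
  refine ⟨V, hV, hxV, ?_⟩
  rw [resPre_phi, resPre_phi] at hres
  exact congrFun (phi_injective E N e he (hV.trans hO) hres) i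

include he in
theorem sumT_surjective {O : X.Opens} (hO : O ≤ W) (y : Γ(CohB1.tensorMod E N, O)) :
    ∃ t : Fin n → Γ(N, O), sumT E N e hO t = y := by
  have key : ∀ x : O, ∃ (V : X.Opens) (hV : V ≤ O), x.1 ∈ V ∧ ∃ t : Fin n → Γ(N, V),
      sumT E N e (hV.trans hO) t = rF (CohB1.tensorMod E N) hV y := by
    intro x
    obtain ⟨V, hV, hxV, p, hp⟩ := eta_locally_surjective E N y x.1 x.2
    obtain ⟨t, rfl⟩ := phi_surjective E N e he (hV.trans hO) p
    exact ⟨V, hV, hxV, t, (eta_phi E N e (hV.trans hO) t).symm.trans hp⟩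
  choose V hV hxV t ht using key
  have hcov : O ≤ ⨆ x : O, V x := by
    intro x hx
    exact Opens.mem_iSup.mpr ⟨⟨x, hx⟩, hxV ⟨x, hx⟩⟩
  have hcompat : ∀ (i : Fin n) (a b : O), rF N (inf_le_left : V a ⊓ V b ≤ V a) (t a i) =
      rF N (inf_le_right : V a ⊓ V b ≤ V b) (t b i) := by
    intro i a b
    have hab : V a ⊓ V b ≤ W := inf_le_left.trans ((hV a).trans hO)
    refine congrFun (sumT_injective E N e he hab (fun i => rF N inf_le_left (t a i))
      (fun i => rF N inf_le_right (t b i)) ?_) i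
    have h1 := rF_sumT E N e ((hV a).trans hO) (inf_le_left : V a ⊓ V b ≤ V a) (t a)
    have h2 := rF_sumT E N e ((hV b).trans hO) (inf_le_right : V a ⊓ V b ≤ V b) (t b)
    rw [← h1, ← h2, ht a, ht b, rF_rF, rF_rF]
  have hglue : ∀ i : Fin n, ∃ s : Γ(N, O), ∀ a : O, rF N (hV a) s = t a i := fun i =>
    glue N V O hV hcov (fun a => t a i) (hcompat i)
  choose s hs using hglue
  refine ⟨s, ?_⟩
  apply eq_of_cover (CohB1.tensorMod E N)
  intro x hx
  refine ⟨V ⟨x, hx⟩, hV ⟨x, hx⟩, hxV ⟨x, hx⟩, ?_⟩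
  rw [rF_sumT, ← ht ⟨x, hx⟩]
  congr 1
  funext i
  exact hs i ⟨x, hx⟩

/-- The coordinates of a section of `E ⊗ N` over `O ≤ W`. -/
noncomputable def comp {O : X.Opens} (hO : O ≤ W) (y : Γ(CohB1.tensorMod E N, O)) :
    Fin n → Γ(N, O) :=
  Classical.choose (sumT_surjective E N e he hO y)

theorem sumT_comp {O : X.Opens} (hO : O ≤ W) (y : Γ(CohB1.tensorMod E N, O)) :
    sumT E N e hO (comp E N e he hO y) = y :=
  Classical.choose_spec (sumT_surjective E N e he hO y)

theorem comp_sumT {O : X.Opens} (hO : O ≤ W) (t : Fin n → Γ(N, O)) :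
    comp E N e he hO (sumT E N e hO t) = t :=
  sumT_injective E N e he hO _ _ (sumT_comp E N e he hO _)

theorem comp_add {O : X.Opens} (hO : O ≤ W) (y y' : Γ(CohB1.tensorMod E N, O)) :
    comp E N e he hO (y + y') = comp E N e he hO y + comp E N e he hO y' := by
  apply sumT_injective E N e he hO
  rw [sumT_add, sumT_comp, sumT_comp, sumT_comp]

theorem comp_zero {O : X.Opens} (hO : O ≤ W) : comp E N e he hO 0 = 0 := by
  apply sumT_injective E N e he hO
  rw [sumT_zero, sumT_comp]

theorem rF_comp {O V : X.Opens} (hO : O ≤ W) (h : V ≤ O) (y : Γ(CohB1.tensorMod E N, O)) :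
    comp E N e he (h.trans hO) (rF (CohB1.tensorMod E N) h y) =
      fun i => rF N h (comp E N e he hO y i) := by
  apply sumT_injective E N e he (h.trans hO)
  rw [← rF_sumT E N e hO h, sumT_comp, sumT_comp]

theorem sumT_single {O : X.Opens} (hO : O ≤ W) (j : Fin n) (t : Γ(N, O)) :
    sumT E N e hO (Pi.single j t) = SecTwist.tmul E N O (rF E hO (e j)) t := by
  unfold sumT
  rw [Finset.sum_eq_single j]
  · rw [Pi.single_eq_same]
  · intro i _ hi
    rw [Pi.single_eq_of_ne hi]
    exact tmul_zero_right E N O _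
  · intro h
    exact absurd (Finset.mem_univ j) h

theorem comp_tmul_basis {O : X.Opens} (hO : O ≤ W) (j : Fin n) (t : Γ(N, O)) :
    comp E N e he hO (SecTwist.tmul E N O (rF E hO (e j)) t) = Pi.single j t := by
  rw [← sumT_single, comp_sumT]

end PFormH9
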