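import Groth.Prelude
import Groth.Agent.Lib.PForm1_helper9

/-!
# The functor `N ↦ E ⊗ N` (helper9)
APPEND-ONLY once landed.
-/

set_option autoImplicit false

namespace PFormH9

open AlgebraicGeometry CategoryTheory CategoryTheory.Limits TopologicalSpace Opposite TensorProduct
open QcqsLoc MonoidalCategory GenLocH8 FLFH8 QCohExtn TensH8

universe u

variable {X : Scheme.{u}}

instance additive_tensorLeft (M : CohB1.PMod X) : (tensorLeft M).Additive where
  map_add {P Q f g} := by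
    ext1 U
    simp [MonoidalPreadditive.whiskerLeft_add]
    try rfl

/-- `N ↦ E ⊗ N` as a functor. -/
noncomputable def TL (E : X.Modules) : X.Modules ⥤ X.Modules :=
  DCoh.toP ⋙ tensorLeft (CohB1.toPMod E) ⋙ DCoh.shP

instance additive_TL (E : X.Modules) : (TL E).Additive := by
  unfold TL; infer_instance

theorem TL_obj (E N : X.Modules) : (TL E).obj N = CohB1.tensorMod E N := rfl

theorem TL_map_tmul (E : X.Modules) {N N' : X.Modules} (g : N ⟶ N') (U : X.Opens)
    (l : E.val.obj (op U)) (t : N.val.obj (op U)) :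
    (((TL E).map g).val.app (op U)).hom (SecTwist.tmul E N U l t) =
      SecTwist.tmul E N' U l ((g.val.app (op U)).hom t) := by
  let adj := PresheafOfModules.sheafificationAdjunction (𝟙 X.ringCatSheaf.obj)
  let w : (CohB1.tensorPre E N : X.PresheafOfModules) ⟶ (CohB1.tensorPre E N' : X.PresheafOfModules) :=
    (CohB1.toPMod E) ◁ (show CohB1.toPMod N ⟶ CohB1.toPMod N' from g.val)
  have h1 := adj.unit.naturality w
  have h2 := congrArg (fun φ : (CohB1.tensorPre E N : X.PresheafOfModules) ⟶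
      (PresheafOfModules.restrictScalars (𝟙 X.ringCatSheaf.obj)).obj (CohB1.tensorMod E N').val =>
    (PresheafOfModules.Hom.app φ (op U)).hom (l ⊗ₜ t)) h1
  exact h2.symm

theorem TL_map_sumT (E : X.Modules) {N N' : X.Modules} (g : N ⟶ N') {W : X.Opens} {n : ℕ}
    (e : Fin n → Γ(E, W)) {O : X.Opens} (hO : O ≤ W) (t : Fin n → Γ(N, O)) :
    ap ((TL E).map g) O (sumT E N e hO t) = sumT E N' e hO (fun i => ap g O (t i)) := by
  unfold sumT
  refine (map_sum (ap ((TL E).map g) O)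
    (fun i => SecTwist.tmul E N O (rF E hO (e i)) (t i)) Finset.univ).trans ?_
  refine Finset.sum_congr rfl (fun i _ => ?_)
  exact TL_map_tmul E g O _ _

/-- Opens over which `E` has sections forming a basis over all smaller opens. -/
def Triv (E : X.Modules) (W : X.Opens) : Prop :=
  ∃ (n : ℕ) (e : Fin n → Γ(E, W)), ∀ (O : X.Opens) (hO : O ≤ W), BasisOn E e O hO

theorem exists_triv {E : X.Modules} (hE : FlatMod.IsFinLocFree E) {x : X} {U : X.Opens}
    (hx : x ∈ U) : ∃ W : X.Opens, Triv E W ∧ x ∈ W ∧ W ≤ U := by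
  obtain ⟨U₀, n, hxU₀, ⟨α⟩⟩ := hE x
  obtain ⟨W, -, hxW, -, t, ht⟩ := exists_affine_bases E hxU₀ α
  exact ⟨W ⊓ U, ⟨n, fun j => rF E inf_le_left (t j), fun O hO =>
    BasisOn.of_rF E t inf_le_left hO (ht O (hO.trans inf_le_left))⟩, ⟨hxW, hx⟩, inf_le_right⟩

theorem exists_local_lift_of_exact (S : ShortComplex X.Modules) (hS : S.Exact) {U : X.Opens}
    (m : Γ(S.X₂, U)) (hm : ap S.g U m = 0) {x : X} (hx : x ∈ U) :
    ∃ (V : X.Opens) (hV : V ≤ U), x ∈ V ∧ ∃ s : Γ(S.X₁, V), ap S.f V s = rF S.X₂ hV m := by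
  rw [ShortComplex.exact_iff_epi_kernel_lift] at hS
  haveI := hS
  obtain ⟨k, hk⟩ := exists_kernel_section S.g m hm
  obtain ⟨V, hV, hxV, s, hs⟩ := EpiLoc.exists_local_lift (kernel.lift S.g S.f S.zero) k hx
  refine ⟨V, hV, hxV, s, ?_⟩
  have h1 : ap (kernel.ι S.g) V (ap (kernel.lift S.g S.f S.zero) V s) = ap S.f V s :=
    congrArg (fun ψ : S.X₁ ⟶ S.X₂ => ap ψ V s) (kernel.lift_ι S.g S.f S.zero)
  have h2 : ap (kernel.lift S.g S.f S.zero) V s = rF (kernel S.g) hV k := hs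
  rw [← h1, h2, ap_rF, hk]

theorem exact_of_local_lift (S : ShortComplex X.Modules)
    (h : ∀ (U : X.Opens) (m : Γ(S.X₂, U)), ap S.g U m = 0 → ∀ x ∈ U,
      ∃ (V : X.Opens) (hV : V ≤ U), x ∈ V ∧ ∃ s : Γ(S.X₁, V), ap S.f V s = rF S.X₂ hV m) :
    S.Exact := by
  rw [ShortComplex.exact_iff_epi_kernel_lift]
  apply epi_of_locally_surjective
  intro U k x hx
  obtain ⟨V, hV, hxV, s, hs⟩ := h U (ap (kernel.ι S.g) U k) (kernel_section_mem S.g k) x hx
  refine ⟨V, hV, hxV, s, ?_⟩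
  apply QCohExact.app_injective_of_mono (kernel.ι S.g) V
  have h1 : ap (kernel.ι S.g) V (ap (kernel.lift S.g S.f S.zero) V s) = ap S.f V s :=
    congrArg (fun ψ : S.X₁ ⟶ S.X₂ => ap ψ V s) (kernel.lift_ι S.g S.f S.zero)
  have h2 := ap_rF (kernel.ι S.g) hV k
  exact h1.trans (hs.trans h2.symm)

theorem exact_map_TL {E : X.Modules} (hE : FlatMod.IsFinLocFree E) (S : ShortComplex X.Modules)
    (hS : S.Exact) : (S.map (TL E)).Exact := by
  apply exact_of_local_lift
  intro U m hm x hx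
  obtain ⟨W, ⟨n, e, he⟩, hxW, hWU⟩ := exists_triv hE hx
  obtain ⟨t, ht⟩ := sumT_surjective E S.X₂ e he le_rfl (rF (CohB1.tensorMod E S.X₂) hWU m)
  have hg : ∀ i, ap S.g W (t i) = 0 := by
    have h1 : sumT E S.X₃ e le_rfl (fun i => ap S.g W (t i)) = 0 := by
      rw [← TL_map_sumT, ht]
      have hm' : ap ((TL E).map S.g) U m = 0 := hm
      have h2 := ap_rF ((TL E).map S.g) hWU m
      rw [hm', map_zero] at h2
      exact h2
    intro i
    exact congrFun (sumT_injective E S.X₃ e he le_rfl _ 0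
      (h1.trans (sumT_zero E S.X₃ e le_rfl).symm)) i
  have hl : ∀ i, ∃ (V : X.Opens) (hV : V ≤ W), x ∈ V ∧ ∃ s : Γ(S.X₁, V),
      ap S.f V s = rF S.X₂ hV (t i) := fun i => exists_local_lift_of_exact S hS (t i) (hg i) hxW
  choose V hV hxV s hs using hl
  let V₀ : X.Opens := W ⊓ ⨅ i, V i
  have hV₀i : ∀ i, V₀ ≤ V i := fun i => inf_le_right.trans (iInf_le V i)
  have hV₀W : V₀ ≤ W := inf_le_left
  have hxV₀ : x ∈ V₀ := by
    refine ⟨hxW, ?_⟩
    rw [Opens.coe_iInf]
    exact Set.mem_iInter.mpr hxV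
  refine ⟨V₀, hV₀W.trans hWU, hxV₀, sumT E S.X₁ e hV₀W (fun i => rF S.X₁ (hV₀i i) (s i)), ?_⟩
  show ap ((TL E).map S.f) V₀ _ = _
  rw [TL_map_sumT]
  have h3 : (fun i => ap S.f V₀ (rF S.X₁ (hV₀i i) (s i))) = fun i => rF S.X₂ hV₀W (t i) := by
    funext i
    rw [ap_rF, hs i, rF_rF]
  rw [h3, ← rF_sumT E S.X₂ e le_rfl hV₀W t, ht, rF_rF]
  rfl

theorem preserves_TL {E : X.Modules} (hE : FlatMod.IsFinLocFree E) :
    PreservesFiniteLimits (TL E) ∧ PreservesFiniteColimits (TL E) :=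
  ((Functor.exact_tfae (TL E)).out 1 3).mp (exact_map_TL hE)

/-- Morphisms out of `M ⊗ N` are determined by their values on pure tensors. -/
theorem hom_ext_tmul {M N P : X.Modules} (a b : CohB1.tensorMod M N ⟶ P)
    (h : ∀ (U : X.Opens) (m : M.val.obj (op U)) (n : N.val.obj (op U)),
      (a.val.app (op U)).hom (SecTwist.tmul M N U m n) =
        (b.val.app (op U)).hom (SecTwist.tmul M N U m n)) : a = b := by
  let adj := PresheafOfModules.sheafificationAdjunction (𝟙 X.ringCatSheaf.obj)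
  apply (adj.homEquiv (show X.PresheafOfModules from CohB1.tensorPre M N) P).injective
  rw [Adjunction.homEquiv_unit, Adjunction.homEquiv_unit]
  apply PresheafOfModules.hom_ext
  intro U
  apply ModuleCat.MonoidalCategory.tensor_ext
  intro m n
  exact h U.unop m n

end PFormH9
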