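import Groth.Prelude
import Groth.Agent.Lib.PForm2_helper9

/-!
# The projection morphism `E ⊗ f_* G ⟶ f_* (f^* E ⊗ G)` (helper9)
APPEND-ONLY once landed.
-/

set_option autoImplicit false

namespace PFormH9

open AlgebraicGeometry CategoryTheory CategoryTheory.Limits TopologicalSpace Opposite TensorProduct
open QcqsLoc MonoidalCategory GenLocH8 FLFH8 QCohExtn TensH8 PBH8

universe u

variable {X Y : Scheme.{u}} (f : X ⟶ Y) (E : Y.Modules)

theorem preimage_mono {V' V : Y.Opens} (h : V' ≤ V) : f ⁻¹ᵁ V' ≤ f ⁻¹ᵁ V := fun _ hz => h hz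

theorem push_smul (Q : X.Modules) (V : Y.Opens) (r : Γ(Y, V))
    (s : Γ((Scheme.Modules.pushforward f).obj Q, V)) :
    r • s = ((f.app V).hom r • (show Γ(Q, f ⁻¹ᵁ V) from s) : Γ(Q, f ⁻¹ᵁ V)) := rfl

theorem push_rF (Q : X.Modules) {V V' : Y.Opens} (h : V' ≤ V)
    (s : Γ((Scheme.Modules.pushforward f).obj Q, V)) :
    rF ((Scheme.Modules.pushforward f).obj Q) h s =
      rF Q (preimage_mono f h) (show Γ(Q, f ⁻¹ᵁ V) from s) := rfl

/-- The pairing `(l, t) ↦ f^* l ⊗ t`. -/
noncomputable def projBeta (G : X.Modules) (V : Y.Opens) (l : Γ(E, V))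
    (t : Γ((Scheme.Modules.pushforward f).obj G, V)) :
    Γ((Scheme.Modules.pushforward f).obj
      (CohB1.tensorMod ((Scheme.Modules.pullback f).obj E) G), V) :=
  SecTwist.tmul ((Scheme.Modules.pullback f).obj E) G (f ⁻¹ᵁ V)
    (cUV f E (le_rfl : f ⁻¹ᵁ V ≤ f ⁻¹ᵁ V) l) t

/-- The bilinear data defining the projection morphism. -/
noncomputable def projBilin (G : X.Modules) :
    BilinData E ((Scheme.Modules.pushforward f).obj G)
      ((Scheme.Modules.pushforward f).obj
        (CohB1.tensorMod ((Scheme.Modules.pullback f).obj E) G)) where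
  β V l t := projBeta f E G V l t
  add_left V l l' t := by
    unfold projBeta
    rw [cUV_add]
    exact tmul_add_left _ _ _ _ _ _
  smul_left V r l t := by
    unfold projBeta
    rw [cUV_smul_app]
    exact tmul_smul_left ((Scheme.Modules.pullback f).obj E) G (f ⁻¹ᵁ V) ((f.app V).hom r) _ t
  add_right V l t t' := by
    unfold projBeta
    exact tmul_add_right _ _ _ _ _ _
  smul_right V r l t := by
    unfold projBeta
    exact tmul_smul_right ((Scheme.Modules.pullback f).obj E) G (f ⁻¹ᵁ V) ((f.app V).hom r) _ t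
  natural {V V'} h l t := by
    unfold projBeta
    rw [push_rF, cUV_resV f E h le_rfl l]
    refine (rF_tmul _ _ (preimage_mono f h) _ _).trans ?_
    rw [rF_cUV]
    rfl

/-- The projection morphism `E ⊗ f_* G ⟶ f_* (f^* E ⊗ G)`. -/
noncomputable def projMap (G : X.Modules) :
    CohB1.tensorMod E ((Scheme.Modules.pushforward f).obj G) ⟶
      (Scheme.Modules.pushforward f).obj
        (CohB1.tensorMod ((Scheme.Modules.pullback f).obj E) G) :=
  (projBilin f E G).toHom

theorem projMap_tmul (G : X.Modules) (V : Y.Opens) (l : E.val.obj (op V))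
    (t : ((Scheme.Modules.pushforward f).obj G).val.obj (op V)) :
    ((projMap f E G).val.app (op V)).hom
      (SecTwist.tmul E ((Scheme.Modules.pushforward f).obj G) V l t) = projBeta f E G V l t :=
  (projBilin f E G).toHom_tmul V l t

theorem projMap_naturality {G G' : X.Modules} (g : G ⟶ G') :
    (TL E).map ((Scheme.Modules.pushforward f).map g) ≫ projMap f E G' =
      projMap f E G ≫ (Scheme.Modules.pushforward f).map
        ((TL ((Scheme.Modules.pullback f).obj E)).map g) := by
  apply hom_ext_tmul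
  intro V l t
  have h1 : (((TL E).map ((Scheme.Modules.pushforward f).map g) ≫ projMap f E G').val.app
      (op V)).hom (SecTwist.tmul E ((Scheme.Modules.pushforward f).obj G) V l t) =
      ((projMap f E G').val.app (op V)).hom
        ((((TL E).map ((Scheme.Modules.pushforward f).map g)).val.app (op V)).hom
          (SecTwist.tmul E ((Scheme.Modules.pushforward f).obj G) V l t)) := rfl
  have h2 : ((projMap f E G ≫ (Scheme.Modules.pushforward f).map
      ((TL ((Scheme.Modules.pullback f).obj E)).map g)).val.app (op V)).hom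
      (SecTwist.tmul E ((Scheme.Modules.pushforward f).obj G) V l t) =
      ((((TL ((Scheme.Modules.pullback f).obj E)).map g)).val.app (op (f ⁻¹ᵁ V))).hom
        (((projMap f E G).val.app (op V)).hom
          (SecTwist.tmul E ((Scheme.Modules.pushforward f).obj G) V l t)) := rfl
  refine h1.trans (Eq.trans ?_ h2.symm)
  rw [TL_map_tmul, projMap_tmul, projMap_tmul]
  unfold projBeta
  exact (TL_map_tmul ((Scheme.Modules.pullback f).obj E) g (f ⁻¹ᵁ V) _ t).symm

theorem exists_triv_affine {E : Y.Modules} (hE : FlatMod.IsFinLocFree E) {x : Y} {U : Y.Opens}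
    (hx : x ∈ U) : ∃ W : Y.Opens, IsAffineOpen W ∧ x ∈ W ∧ W ≤ U ∧
      ∃ (n : ℕ) (e : Fin n → Γ(E, W)), ∀ (O : Y.Opens) (hO : O ≤ W), BasisOn E e O hO := by
  obtain ⟨U₀, n, hxU₀, ⟨α⟩⟩ := hE x
  obtain ⟨W, -, hxW, -, t, ht⟩ := exists_affine_bases E hxU₀ α
  obtain ⟨_, ⟨W', hW' : IsAffineOpen W', rfl⟩, hxW', hle⟩ :=
    (Y.isBasis_affineOpens).exists_subset_of_mem_open (show x ∈ W ⊓ U from ⟨hxW, hx⟩)
      (W ⊓ U).isOpen
  have h1 : W' ≤ W := fun y hy => (hle hy).1
  have h2 : W' ≤ U := fun y hy => (hle hy).2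
  exact ⟨W', hW', hxW', h2, n, fun j => rF E h1 (t j), fun O hO =>
    BasisOn.of_rF E t h1 hO (ht O (hO.trans h1))⟩

theorem projMap_sumT (G : X.Modules) {V : Y.Opens} {n : ℕ} (e : Fin n → Γ(E, V)) {O : Y.Opens}
    (hO : O ≤ V) (t : Fin n → Γ((Scheme.Modules.pushforward f).obj G, O)) :
    ap (projMap f E G) O (sumT E ((Scheme.Modules.pushforward f).obj G) e hO t) =
      sumT ((Scheme.Modules.pullback f).obj E) G
        (fun j => cUV f E (le_rfl : f ⁻¹ᵁ V ≤ f ⁻¹ᵁ V) (e j)) (preimage_mono f hO) t := by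
  unfold sumT
  refine (map_sum (ap (projMap f E G) O)
    (fun i => SecTwist.tmul E ((Scheme.Modules.pushforward f).obj G) O (rF E hO (e i)) (t i))
    Finset.univ).trans ?_
  refine Finset.sum_congr rfl (fun i _ => ?_)
  refine (projMap_tmul f E G O _ _).trans ?_
  unfold projBeta
  rw [cUV_resV f E hO le_rfl (e i), rF_cUV]

theorem isIso_projMap (hE : FlatMod.IsFinLocFree E) (G : X.Modules) : IsIso (projMap f E G) := by
  haveI : E.IsQuasicoherent := isQuasicoherent_of_finLocFree E hE
  let B : {V : Y.Opens // ∀ W : Y.Opens, W ≤ V → Function.Bijective ((projMap f E G).app W)} →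
      Y.Opens := Subtype.val
  have hB : Opens.IsBasis (Set.range B) := by
    rw [Opens.isBasis_iff_nbhd]
    intro U x hxU
    obtain ⟨V, hV, hxV, hVU, n, e, he⟩ := exists_triv_affine hE hxU
    refine ⟨V, ⟨⟨V, fun O hO => ?_⟩, rfl⟩, hxV, hVU⟩
    have he' : ∀ (O' : X.Opens) (hO' : O' ≤ f ⁻¹ᵁ V),
        BasisOn ((Scheme.Modules.pullback f).obj E)
          (fun j => cUV f E (le_rfl : f ⁻¹ᵁ V ≤ f ⁻¹ᵁ V) (e j)) O' hO' :=
      fun O' hO' => basisOn_cUV f hV e (he V le_rfl) O' hO'
    constructor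
    · intro a b hab
      obtain ⟨ta, rfl⟩ := sumT_surjective E _ e he hO a
      obtain ⟨tb, rfl⟩ := sumT_surjective E _ e he hO b
      have h3 : ap (projMap f E G) O (sumT E _ e hO ta) = ap (projMap f E G) O (sumT E _ e hO tb) :=
        hab
      rw [projMap_sumT, projMap_sumT] at h3
      rw [sumT_injective _ G _ he' (preimage_mono f hO) ta tb h3]
    · intro y
      obtain ⟨t, ht⟩ := sumT_surjective _ G _ he' (preimage_mono f hO) y
      exact ⟨sumT E _ e hO t, (projMap_sumT f E G e hO t).trans ht⟩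
  refine QCohCrit.isIso_of_isIso_app_basis (projMap f E G) B hB (fun V => ?_)
  exact (ConcreteCategory.isIso_iff_bijective _).mpr (V.2 V.1 le_rfl)

/-- The projection formula as a natural isomorphism of functors. -/
noncomputable def projIso (hE : FlatMod.IsFinLocFree E) :
    Scheme.Modules.pushforward f ⋙ TL E ≅
      TL ((Scheme.Modules.pullback f).obj E) ⋙ Scheme.Modules.pushforward f :=
  NatIso.ofComponents (fun G => @asIso _ _ _ _ (projMap f E G) (isIso_projMap f E hE G))
    (fun g => projMap_naturality f E g)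

end PFormH9
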