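import Mathlib
import Groth.Agent.Lib.RpushVanish_helper9

/-!
# Uniform vanishing of higher direct images along qcqs morphisms
-/

universe u

open CategoryTheory CategoryTheory.Limits AlgebraicGeometry Opposite TopologicalSpace
open Groth.Agent.Lib.FreeSheaf Groth.Agent.Lib.FlasqueAcyclic

namespace AffVanish

variable {X S : Scheme.{u}}

/-- For `A ≤ f⁻¹ V` affine and `W ≤ V` affine opens, `A ⊓ f⁻¹ W` is affine. -/
theorem isAffineOpen_inf_preimage (f : X ⟶ S) {A : X.Opens} {V W : S.Opens}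
    (hA : IsAffineOpen A) (hV : IsAffineOpen V) (hAV : A ≤ f ⁻¹ᵁ V) (hWV : W ≤ V)
    (hW : IsAffineOpen W) : IsAffineOpen (A ⊓ f ⁻¹ᵁ W) := by
  haveI : IsAffine A.toScheme := hA
  haveI : IsAffine V.toScheme := hV
  have hW' : IsAffineOpen (V.ι ⁻¹ᵁ W) := by
    rw [← V.ι.isAffineOpen_iff_of_isOpenImmersion]
    rw [Scheme.Hom.image_preimage_eq_opensRange_inf, Scheme.Opens.opensRange_ι,
      inf_eq_right.mpr hWV]
    exact hW
  have h1 : IsAffineOpen ((f.resLE V A hAV) ⁻¹ᵁ (V.ι ⁻¹ᵁ W)) := hW'.preimage (f.resLE V A hAV)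
  have h2 : IsAffineOpen (A.ι ''ᵁ ((f.resLE V A hAV) ⁻¹ᵁ (V.ι ⁻¹ᵁ W))) :=
    h1.image_of_isOpenImmersion A.ι
  have e : A.ι ''ᵁ ((f.resLE V A hAV) ⁻¹ᵁ (V.ι ⁻¹ᵁ W)) = A ⊓ f ⁻¹ᵁ W := by
    rw [Scheme.Hom.resLE_preimage, Scheme.Hom.image_preimage_eq_opensRange_inf,
      Scheme.Opens.opensRange_ι, Scheme.Hom.image_preimage_eq_opensRange_inf,
      Scheme.Opens.opensRange_ι, inf_eq_right.mpr hWV]
  rw [← e]
  exact h2

theorem supL_inf (l : List X.Opens) (B : X.Opens) : supL l ⊓ B = supL (l.map (· ⊓ B)) := by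
  induction l with
  | nil => exact bot_inf_eq _
  | cons C l ih => rw [supL_cons, List.map_cons, supL_cons, inf_sup_right, ih]

/-- A quasi-compact open is the union of a finite list of affine opens. -/
theorem exists_list_of_isCompact (U : X.Opens) (hU : IsCompact (U : Set X)) :
    ∃ l : List X.Opens, (∀ B ∈ l, IsAffineOpen B ∧ B ≤ U) ∧ supL l = U := by
  obtain ⟨s, hs, e⟩ := isCompact_iff_finite_and_eq_biUnion_affineOpens.mp hU
  let l : List X.Opens := hs.toFinset.toList.map (fun i : X.affineOpens => (i : X.Opens))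
  have hmem : ∀ B ∈ l, ∃ i ∈ s, (i : X.Opens) = B := by
    intro B hB
    obtain ⟨i, hi, rfl⟩ := List.mem_map.mp hB
    exact ⟨i, by simpa using hi, rfl⟩
  have hle : ∀ i ∈ s, (i : X.Opens) ≤ U := by
    intro i hi
    rw [e]
    exact le_iSup₂ (f := fun (i : X.affineOpens) (_ : i ∈ s) => (i : X.Opens)) i hi
  refine ⟨l, ?_, ?_⟩
  · intro B hB
    obtain ⟨i, hi, rfl⟩ := hmem B hB
    exact ⟨i.2, hle i hi⟩
  · apply le_antisymm
    · apply supL_le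
      intro B hB
      obtain ⟨i, hi, rfl⟩ := hmem B hB
      exact hle i hi
    · rw [e]
      refine iSup₂_le (fun i hi => ?_)
      exact le_supL (List.mem_map.mpr ⟨i, by simpa using hi, rfl⟩)

/-- Relative version of `Bd_of_le_affine`. -/
theorem BdRel_of_le_affine (f : X ⟶ S) {V : S.Opens} (hV : IsAffineOpen V) {A U : X.Opens}
    (hA : IsAffineOpen A) (hAV : A ≤ f ⁻¹ᵁ V) (hUA : U ≤ A) (hU : IsCompact (U : Set X)) :
    ∃ d, ∀ W : S.Opens, W ≤ V → IsAffineOpen W → Bd (U ⊓ f ⁻¹ᵁ W) d := by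
  obtain ⟨l, hl, hlU⟩ := exists_list_of_isCompact U hU
  refine ⟨l.length, fun W hWV hW F hF n hn h1 x => ?_⟩
  have hAW : IsAffineOpen (A ⊓ f ⁻¹ᵁ W) := isAffineOpen_inf_preimage f hA hV hAV hWV hW
  have hP : ∀ B ∈ l.map (· ⊓ f ⁻¹ᵁ W), IsAffineOpen B ∧ B ≤ A ⊓ f ⁻¹ᵁ W := by
    intro B hB
    obtain ⟨B', hB', rfl⟩ := List.mem_map.mp hB
    obtain ⟨hB'a, hB'U⟩ := hl B' hB'
    exact ⟨isAffineOpen_inf_preimage f hB'a hV ((hB'U.trans hUA).trans hAV) hWV hW,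
      inf_le_inf_right _ (hB'U.trans hUA)⟩
  have key := ext_supL_eq_zero_of_pred (fun V' => IsAffineOpen V' ∧ V' ≤ A ⊓ f ⁻¹ᵁ W)
    (fun V' h => h.1)
    (fun V' W' hV' hW' => ⟨isAffineOpen_inf_of_le hAW hV'.2 hW'.2 hV'.1 hW'.1,
      inf_le_left.trans hV'.2⟩)
    F hF l.length (l.map (· ⊓ f ⁻¹ᵁ W)) (by simp) hP n hn h1
  rw [← supL_inf, hlU] at key
  exact key x

/-- Relative version of `exists_Bd`. -/
theorem exists_BdRel (f : X ⟶ S) {V : S.Opens} (hV : IsAffineOpen V)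
    (hqs : IsQuasiSeparated ((f ⁻¹ᵁ V : X.Opens) : Set X)) (T : X.Opens)
    (hT : IsCompact (T : Set X)) :
    T ≤ f ⁻¹ᵁ V → ∃ d, ∀ W : S.Opens, W ≤ V → IsAffineOpen W → Bd (T ⊓ f ⁻¹ᵁ W) d := by
  refine compact_open_induction_on (P := fun T => T ≤ f ⁻¹ᵁ V →
    ∃ d, ∀ W : S.Opens, W ≤ V → IsAffineOpen W → Bd (T ⊓ f ⁻¹ᵁ W) d) T hT ?_ ?_
  · intro _
    refine ⟨0, fun W _ _ => ?_⟩
    rw [bot_inf_eq]
    exact Bd_of_isAffineOpen (isAffineOpen_bot X)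
  · intro T hT U ih hle
    have hTle : T ≤ f ⁻¹ᵁ V := le_sup_left.trans hle
    have hUle : (U : X.Opens) ≤ f ⁻¹ᵁ V := le_sup_right.trans hle
    obtain ⟨a, ha⟩ := ih hTle
    have hTU : IsCompact ((T ⊓ (U : X.Opens) : X.Opens) : Set X) :=
      hqs (T : Set X) ((U : X.Opens) : Set X) (SetLike.coe_subset_coe.mpr hTle) T.2 hT
        (SetLike.coe_subset_coe.mpr hUle) (U : X.Opens).2 U.2.isCompact
    obtain ⟨c, hc⟩ := BdRel_of_le_affine f hV U.2 hUle inf_le_right hTU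
    refine ⟨max (max a 0) (max c 1 + 1), fun W hWV hW => ?_⟩
    have e : (T ⊓ f ⁻¹ᵁ W) ⊓ ((U : X.Opens) ⊓ f ⁻¹ᵁ W) = (T ⊓ (U : X.Opens)) ⊓ f ⁻¹ᵁ W :=
      (inf_inf_distrib_right T (U : X.Opens) (f ⁻¹ᵁ W)).symm
    have h3 : Bd ((T ⊓ f ⁻¹ᵁ W) ⊓ ((U : X.Opens) ⊓ f ⁻¹ᵁ W)) c := by
      rw [e]
      exact hc W hWV hW
    have h1 := Bd_sup (ha W hWV hW)
      (Bd_of_isAffineOpen (isAffineOpen_inf_preimage f U.2 hV hUle hWV hW)) h3
    rw [← inf_sup_right] at h1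
    exact h1

/-- Higher direct images of quasi-coherent modules along a qcqs morphism to a quasi-compact
scheme vanish above a uniform bound. -/
theorem exists_bound_RpushAb (f : X ⟶ S) [QuasiCompact f] [QuasiSeparated f] [CompactSpace S] :
    ∃ n : ℕ, ∀ (M : X.Modules), M.IsQuasicoherent → ∀ p : ℕ, n ≤ p →
      IsZero ((Coh.RpushAb f p).obj (Coh.toAb M)) := by
  obtain ⟨s, hs, e⟩ := (isCompact_iff_finite_and_eq_biUnion_affineOpens (U := (⊤ : S.Opens))).mp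
    isCompact_univ
  have hd : ∀ V : S.affineOpens, ∃ d, ∀ W : S.Opens, W ≤ (V : S.Opens) → IsAffineOpen W →
      Bd (f ⁻¹ᵁ W) d := by
    intro V
    obtain ⟨d, hd⟩ := exists_BdRel f V.2
      (Scheme.Hom.isQuasiSeparated_preimage (f := f) V.2.isQuasiSeparated) (f ⁻¹ᵁ V)
      (QuasiCompact.isCompact_preimage (f := f) _ V.1.2 V.2.isCompact) le_rfl
    refine ⟨d, fun W hWV hW => ?_⟩
    have h1 := hd W hWV hW
    rwa [inf_eq_right.mpr (RpushVanish.leMap f.base hWV)] at h1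
  choose d hd using hd
  refine ⟨max (hs.toFinset.sup d) 1, fun M hM p hp => ?_⟩
  haveI := hM
  obtain ⟨q, rfl⟩ := Nat.exists_eq_succ_of_ne_zero
    (Nat.pos_iff_ne_zero.mp ((le_max_right _ 1).trans hp))
  refine RpushVanish.isZero_Rpush_succ_of_basis f.base (Coh.toAb M) q
    (fun W => IsAffineOpen (X := S) W ∧ ∃ V ∈ s, W ≤ (V : S.Opens)) ?_ ?_
  · intro V' y hy
    have hy' : y ∈ (⊤ : S.Opens) := trivial
    rw [e, Opens.mem_iSup] at hy'
    obtain ⟨V, hy''⟩ := hy'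
    rw [Opens.mem_iSup] at hy''
    obtain ⟨hVs, hyV⟩ := hy''
    obtain ⟨W, hW, hyW, hWle⟩ := Opens.isBasis_iff_nbhd.mp S.isBasis_affineOpens
      (show y ∈ V' ⊓ (V : S.Opens) from ⟨hy, hyV⟩)
    exact ⟨W, ⟨hW, V, hVs, hWle.trans inf_le_right⟩, hyW, hWle.trans inf_le_left⟩
  · rintro W ⟨hW, V, hVs, hWV⟩ ξ
    have hdV : d V ≤ q + 1 :=
      (Finset.le_sup (f := d) (hs.mem_toFinset.mpr hVs)).trans ((le_max_left _ 1).trans hp)
    exact hd V W hWV hW (Coh.toAb M) (MV_toAb M) (q + 1) hdV (Nat.succ_le_succ (Nat.zero_le q)) ξ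

end AffVanish
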