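import Mathlib
import Groth.Agent.Lib.Leray_helper9
import Groth.Agent.Lib.AffVanish5_helper9
import Groth.Agent.Lib.SubExt_helper9

/-!
# Embedding a quasi-coherent module into an acyclic quasi-coherent module

On a quasi-compact scheme with affine diagonal (in the sense that intersections of affine opens
are affine), `M ⟶ ⨁ᵢ jᵢ_* jᵢ^* M` for a finite affine cover is a monomorphism into a quasi-coherent
module with vanishing higher cohomology.
-/

universe u

open CategoryTheory CategoryTheory.Limits AlgebraicGeometry Opposite TopologicalSpace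
open Groth.Agent.Lib.QCohLoc_helper4 QcqsLoc QCohExtn

namespace AcycEmb

variable {X : Scheme.{u}}

/-- `j_* j^* M` for the inclusion `j` of an open. -/
noncomputable abbrev NN (M : X.Modules) (U : X.Opens) : X.Modules :=
  (Scheme.Modules.pushforward U.ι).obj (M.restrict U.ι)

theorem isAffineHom_ι
    (hd : ∀ V W : X.Opens, IsAffineOpen V → IsAffineOpen W → IsAffineOpen (V ⊓ W))
    {U : X.Opens} (hU : IsAffineOpen U) : IsAffineHom U.ι :=
  ⟨fun V hV => by
    rw [← U.ι.isAffineOpen_iff_of_isOpenImmersion, Scheme.Hom.image_preimage_eq_opensRange_inf,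
      Scheme.Opens.opensRange_ι]
    exact hd U V hU hV⟩

theorem isQuasicoherent_NN
    (hd : ∀ V W : X.Opens, IsAffineOpen V → IsAffineOpen W → IsAffineOpen (V ⊓ W))
    (M : X.Modules) [M.IsQuasicoherent] {U : X.Opens} (hU : IsAffineOpen U) :
    (NN M U).IsQuasicoherent := by
  haveI := isAffineHom_ι hd hU
  haveI : (M.restrict U.ι).IsQuasicoherent := inferInstance
  exact QcqsLoc.isQuasicoherent_pushforward_qcqs U.ι (M.restrict U.ι)

/-- Vanishing of all higher cohomology. -/
def Acyc (N : X.Modules) : Prop := ∀ (p : ℕ) (x : Coh.HH X N (p + 1)), x = 0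

theorem acyc_NN
    (hd : ∀ V W : X.Opens, IsAffineOpen V → IsAffineOpen W → IsAffineOpen (V ⊓ W))
    (M : X.Modules) [M.IsQuasicoherent] {U : X.Opens} (hU : IsAffineOpen U) : Acyc (NN M U) := by
  intro p x
  haveI := isAffineHom_ι hd hU
  haveI : IsAffine (U : Scheme.{u}) := hU
  haveI : (M.restrict U.ι).IsQuasicoherent := inferInstance
  obtain ⟨e⟩ := Leray.nonempty_H_addEquiv_push U.ι.base (Coh.toAb (M.restrict U.ι))
    (fun q => RpushVanish.isZero_RpushAb_of_isAffineHom U.ι (M.restrict U.ι) q) (p + 1)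
  haveI := AffVanish.HH_subsingleton_of_isAffine (U : Scheme.{u}) (M.restrict U.ι) p
  have h1 : e.symm x = 0 := Subsingleton.elim _ _
  have h2 := congrArg e h1
  rw [AddEquiv.apply_symm_apply, map_zero] at h2
  exact h2

theorem acyc_biprod (N N' : X.Modules) (h : Acyc N) (h' : Acyc N') : Acyc (N ⊞ N') := by
  intro p x
  let T : X.Modules ⥤ Sheaf (Opens.grothendieckTopology X) AddCommGrpCat.{u} :=
    SheafOfModules.toSheaf X.ringCatSheaf
  haveI : T.Additive := inferInstanceAs ((SheafOfModules.toSheaf X.ringCatSheaf).Additive)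
  let p1 : N ⊞ N' ⟶ N := biprod.fst
  let p2 : N ⊞ N' ⟶ N' := biprod.snd
  let i1 : N ⟶ N ⊞ N' := biprod.inl
  let i2 : N' ⟶ N ⊞ N' := biprod.inr
  have hid : 𝟙 (T.obj (N ⊞ N')) = T.map p1 ≫ T.map i1 + T.map p2 ≫ T.map i2 := by
    rw [← T.map_comp, ← T.map_comp, ← T.map_add]
    have ht : p1 ≫ i1 + p2 ≫ i2 = 𝟙 (N ⊞ N') := biprod.total
    rw [ht, T.map_id]
  have h1 : x.comp (Abelian.Ext.mk₀ (T.map p1)) (add_zero _) = 0 := h p _
  have h2 : x.comp (Abelian.Ext.mk₀ (T.map p2)) (add_zero _) = 0 := h' p _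
  have e1 : x.comp (Abelian.Ext.mk₀ (T.map p1 ≫ T.map i1)) (add_zero _) = 0 := by
    rw [← Abelian.Ext.mk₀_comp_mk₀]
    have h3 := Abelian.Ext.comp_assoc_of_third_deg_zero x (Abelian.Ext.mk₀ (T.map p1))
      (Abelian.Ext.mk₀ (T.map i1)) (add_zero _)
    rw [h1, Abelian.Ext.zero_comp] at h3
    exact h3.symm
  have e2 : x.comp (Abelian.Ext.mk₀ (T.map p2 ≫ T.map i2)) (add_zero _) = 0 := by
    rw [← Abelian.Ext.mk₀_comp_mk₀]
    have h3 := Abelian.Ext.comp_assoc_of_third_deg_zero x (Abelian.Ext.mk₀ (T.map p2))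
      (Abelian.Ext.mk₀ (T.map i2)) (add_zero _)
    rw [h2, Abelian.Ext.zero_comp] at h3
    exact h3.symm
  have hx := Abelian.Ext.comp_mk₀_id x
  rw [hid, Abelian.Ext.mk₀_add, Abelian.Ext.comp_add, e1, e2, add_zero] at hx
  exact hx.symm

theorem mono_of_injective {M N : X.Modules} (φ : M ⟶ N)
    (h : ∀ W : X.Opens, Function.Injective (ap φ W)) : Mono φ := by
  let T := SheafOfModules.toSheaf X.ringCatSheaf
  have hm : Mono (T.map φ) := by
    rw [Sheaf.Hom.mono_iff_presheaf_mono, NatTrans.mono_iff_mono_app]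
    intro W
    rw [AddCommGrpCat.mono_iff_injective]
    exact h W.unop
  exact T.mono_of_mono_map hm

/-- Sections killed by the unit `M ⟶ j_* j^* M` vanish on `U`. -/
theorem rF_eq_zero_of_unit (M : X.Modules) (U W : X.Opens) (s : Γ(M, W))
    (h : ap (SubExt.unitMap U M) W s = 0) : rF M (inf_le_left : W ⊓ U ≤ W) s = 0 := by
  have hb := SubExt.unit_bijective U M (W ⊓ U) inf_le_right
  apply hb.1
  rw [ap_rF, h, map_zero, map_zero]

/-- The direct sum of the `j_* j^* M` over a list of opens. -/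
noncomputable def bigN (M : X.Modules) : List X.Opens → X.Modules
  | [] => NN M ⊥
  | U :: l => NN M U ⊞ bigN M l

/-- The canonical map `M ⟶ ⨁ j_* j^* M`. -/
noncomputable def bigU (M : X.Modules) : (l : List X.Opens) → (M ⟶ bigN M l)
  | [] => SubExt.unitMap ⊥ M
  | U :: l => biprod.lift (SubExt.unitMap U M) (bigU M l)

theorem isQuasicoherent_bigN
    (hd : ∀ V W : X.Opens, IsAffineOpen V → IsAffineOpen W → IsAffineOpen (V ⊓ W))
    (M : X.Modules) [M.IsQuasicoherent] (l : List X.Opens) (hl : ∀ U ∈ l, IsAffineOpen U) :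
    (bigN M l).IsQuasicoherent := by
  induction l with
  | nil => exact isQuasicoherent_NN hd M (isAffineOpen_bot X)
  | cons U l ih =>
    haveI := isQuasicoherent_NN hd M (hl U (List.mem_cons_self ..))
    haveI := ih (fun V hV => hl V (List.mem_cons_of_mem _ hV))
    show (NN M U ⊞ bigN M l).IsQuasicoherent
    exact QCAlgMod.isQuasicoherent_biprod _ _

theorem acyc_bigN
    (hd : ∀ V W : X.Opens, IsAffineOpen V → IsAffineOpen W → IsAffineOpen (V ⊓ W))
    (M : X.Modules) [M.IsQuasicoherent] (l : List X.Opens) (hl : ∀ U ∈ l, IsAffineOpen U) :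
    Acyc (bigN M l) := by
  induction l with
  | nil => exact acyc_NN hd M (isAffineOpen_bot X)
  | cons U l ih =>
    show Acyc (NN M U ⊞ bigN M l)
    exact acyc_biprod _ _ (acyc_NN hd M (hl U (List.mem_cons_self ..)))
      (ih (fun V hV => hl V (List.mem_cons_of_mem _ hV)))

theorem ker_bigU (M : X.Modules) (l : List X.Opens) (W : X.Opens) (s : Γ(M, W))
    (h : ap (bigU M l) W s = 0) : ∀ U ∈ l, rF M (inf_le_left : W ⊓ U ≤ W) s = 0 := by
  induction l with
  | nil =>
    intro U hU
    exact absurd hU List.not_mem_nil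
  | cons V l ih =>
    have h' : ap (biprod.lift (SubExt.unitMap V M) (bigU M l)) W s = 0 := h
    have h1 : ap (SubExt.unitMap V M) W s = 0 := by
      have e : biprod.lift (SubExt.unitMap V M) (bigU M l) ≫ biprod.fst = SubExt.unitMap V M :=
        biprod.lift_fst _ _
      have h2 : ap biprod.fst W (ap (biprod.lift (SubExt.unitMap V M) (bigU M l)) W s) =
          ap (SubExt.unitMap V M) W s :=
        congrArg (fun χ => (χ.app W).hom s) e
      rw [h', map_zero] at h2
      exact h2.symm
    have h3 : ap (bigU M l) W s = 0 := by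
      have e : biprod.lift (SubExt.unitMap V M) (bigU M l) ≫ biprod.snd = bigU M l :=
        biprod.lift_snd _ _
      have h2 : ap biprod.snd W (ap (biprod.lift (SubExt.unitMap V M) (bigU M l)) W s) =
          ap (bigU M l) W s :=
        congrArg (fun χ => (χ.app W).hom s) e
      rw [h', map_zero] at h2
      exact h2.symm
    intro U hU
    rcases List.mem_cons.mp hU with rfl | hU
    · exact rF_eq_zero_of_unit M U W s h1
    · exact ih h3 U hU

theorem mem_supL {l : List X.Opens} {x : X} (hx : x ∈ AffVanish.supL l) : ∃ U ∈ l, x ∈ U := by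
  induction l with
  | nil => exact absurd hx (Set.notMem_empty x)
  | cons V l ih =>
    rw [AffVanish.supL_cons] at hx
    rcases hx with hx | hx
    · exact ⟨V, List.mem_cons_self .., hx⟩
    · obtain ⟨U, hU, hxU⟩ := ih hx
      exact ⟨U, List.mem_cons_of_mem _ hU, hxU⟩

/-- Every quasi-coherent module embeds into an acyclic quasi-coherent module. -/
theorem exists_mono_acyclic (X : Scheme.{u}) [CompactSpace X]
    (hd : ∀ V W : X.Opens, IsAffineOpen V → IsAffineOpen W → IsAffineOpen (V ⊓ W))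
    (M : X.Modules) [M.IsQuasicoherent] :
    ∃ (M' : X.Modules) (i : M ⟶ M'), Mono i ∧ M'.IsQuasicoherent ∧
      ∀ p : ℕ, 0 < p → Subsingleton (Coh.HH X M' p) := by
  obtain ⟨l, hl, hlU⟩ := AffVanish.exists_list_of_isCompact (⊤ : X.Opens) isCompact_univ
  have hcov : ∀ x : X, ∃ U ∈ l, x ∈ U := by
    intro x
    have hx : x ∈ AffVanish.supL l := by
      rw [hlU]
      trivial
    exact mem_supL hx
  have hla : ∀ U ∈ l, IsAffineOpen U := fun U hU => (hl U hU).1
  refine ⟨bigN M l, bigU M l, ?_, isQuasicoherent_bigN hd M l hla, ?_⟩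
  · apply mono_of_injective
    intro W
    rw [injective_iff_map_eq_zero]
    intro s hs
    apply eq_zero_of_cover
    intro x hx
    obtain ⟨U, hU, hxU⟩ := hcov x
    exact ⟨W ⊓ U, inf_le_left, ⟨hx, hxU⟩, ker_bigU M l W s hs U hU⟩
  · intro p hp
    obtain ⟨q, rfl⟩ := Nat.exists_eq_succ_of_ne_zero (Nat.pos_iff_ne_zero.mp hp)
    have h := acyc_bigN hd M l hla q
    exact ⟨fun a b => (h a).trans (h b).symm⟩

end AcycEmb
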