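import Mathlib
import Groth.Prelude.Def_CohB1
import Groth.Agent.Lib.SerreCrit3_helper9
import Groth.Agent.Lib.SubExt3_helper9
import Groth.Agent.Lib.QCohFT_helper9
import Groth.Agent.Lib.QCohExtn_helper9

/-!
# Serre's criterion with finite type ideals, part 1 (helper9)
APPEND-ONLY once landed.

* `secHom C c : O_X ⟶ C` for a global section `c`;
* the pull-back extension `0 → A → E → O_X → 0` of a short exact sequence along `secHom`;
* finite type criteria via sections over affine opens.
-/

set_option autoImplicit false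
universe u
open AlgebraicGeometry CategoryTheory CategoryTheory.Limits TopologicalSpace Opposite
open QcqsLoc QCohExtn SerreCrit
open scoped ZeroObject

namespace SerreFT

variable {X : Scheme.{u}}

/-- the morphism `O_X ⟶ C` attached to a global section. -/
noncomputable def secHom (C : X.Modules) (c : Γ(C, ⊤)) : OO X ⟶ C :=
  (SheafOfModules.unitHomEquiv C).symm (GlobGen.globalSection C c)

set_option backward.isDefEq.respectTransparency false in
theorem secHom_app (C : X.Modules) (c : Γ(C, ⊤)) (W : X.Opens) (a : Γ(OO X, W)) :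
    ap (secHom C c) W a = toFn a • rF C (le_top : W ≤ ⊤) c := rfl

theorem secHom_one (C : X.Modules) (c : Γ(C, ⊤)) :
    ap (secHom C c) ⊤ (ofFn (1 : Γ(X, ⊤))) = c := by
  rw [secHom_app]
  show (1 : Γ(X, ⊤)) • rF C (le_top : (⊤ : X.Opens) ≤ ⊤) c = c
  rw [one_smul]
  exact SubExt.rF_self C _ c

section Pb

variable (S : ShortComplex X.Modules) (hS : S.ShortExact) (c : Γ(S.X₃, ⊤))

/-- the pull-back extension. -/
noncomputable def pbE : X.Modules := pullback S.g (secHom S.X₃ c)

noncomputable def pbP : pbE S c ⟶ OO X := pullback.snd _ _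

noncomputable def pbQ : pbE S c ⟶ S.X₂ := pullback.fst _ _

theorem pb_cond : pbQ S c ≫ S.g = pbP S c ≫ secHom S.X₃ c := pullback.condition

noncomputable def pbK : S.X₁ ⟶ pbE S c :=
  pullback.lift S.f 0 (by rw [S.zero, zero_comp])

theorem pbK_Q : pbK S c ≫ pbQ S c = S.f := pullback.lift_fst _ _ _

theorem pbK_P : pbK S c ≫ pbP S c = 0 := pullback.lift_snd _ _ _

/-- the pulled-back short complex. -/
noncomputable def pbS : ShortComplex X.Modules :=
  ShortComplex.mk (pbK S c) (pbP S c) (pbK_P S c)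

include hS in
theorem pbLift_exists {T : X.Modules} (t : T ⟶ pbE S c) (ht : t ≫ pbP S c = 0) :
    ∃ u : T ⟶ S.X₁, u ≫ pbK S c = t := by
  haveI := hS.mono_f
  have h1 : (t ≫ pbQ S c) ≫ S.g = 0 := by
    rw [Category.assoc, pb_cond, ← Category.assoc, ht, zero_comp]
  refine ⟨hS.exact.lift (t ≫ pbQ S c) h1, ?_⟩
  apply pullback.hom_ext
  · have h2 : (hS.exact.lift (t ≫ pbQ S c) h1 ≫ pbK S c) ≫ pbQ S c = t ≫ pbQ S c := by
      rw [Category.assoc, pbK_Q, ShortComplex.Exact.lift_f]
    exact h2
  · have h3 : (hS.exact.lift (t ≫ pbQ S c) h1 ≫ pbK S c) ≫ pbP S c = t ≫ pbP S c := by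
      rw [Category.assoc, pbK_P, comp_zero, ht]
    exact h3

include hS in
theorem pbS_shortExact : (pbS S c).ShortExact := by
  haveI := hS.mono_f
  haveI := hS.epi_g
  have hm : Mono (pbK S c) := mono_of_mono_fac (pbK_Q S c)
  have he : Epi (pbP S c) := Abelian.epi_pullback_of_epi_f S.g (secHom S.X₃ c)
  have hex : (pbS S c).Exact := by
    apply ShortComplex.exact_of_f_is_kernel
    exact KernelFork.IsLimit.ofι (pbK S c) (pbK_P S c)
      (fun {T} t ht => (pbLift_exists S hS c t ht).choose)
      (fun {T} t ht => (pbLift_exists S hS c t ht).choose_spec)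
      (fun {T} t ht m hm' => by
        rw [← cancel_mono (pbK S c), (pbLift_exists S hS c t ht).choose_spec]
        exact hm')
  exact ShortComplex.ShortExact.mk' hex hm he

include hS in
theorem isQuasicoherent_pbE [S.X₁.IsQuasicoherent] : (pbE S c).IsQuasicoherent := by
  have h := pbS_shortExact S hS c
  haveI : (pbS S c).X₁.IsQuasicoherent := ‹S.X₁.IsQuasicoherent›
  haveI : (pbS S c).X₃.IsQuasicoherent := isQuasicoherent_OO
  exact QCohExtn.isQuasicoherent_of_shortExact (pbS S c) h

/-- a global section of `E` over `1` gives a lift of `c`. -/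
theorem lift_of_pb (e : Γ(pbE S c, ⊤)) (he : ap (pbP S c) ⊤ e = ofFn (1 : Γ(X, ⊤))) :
    ap S.g ⊤ (ap (pbQ S c) ⊤ e) = c := by
  have h1 : ap S.g ⊤ (ap (pbQ S c) ⊤ e) = ap (secHom S.X₃ c) ⊤ (ap (pbP S c) ⊤ e) :=
    congrArg (fun φ : pbE S c ⟶ S.X₃ => ap φ ⊤ e) (pb_cond S c)
  rw [h1, he, secHom_one]

end Pb

end SerreFT
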