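import Mathlib
import Groth.Prelude.Def_CohTop
import Groth.Agent.Lib.CechLeray_helper2

/-!
# Čech cohomology: acyclicity criteria and dimension shifting (helper9)

Tools for comparing Čech cohomology of a family of opens with another cohomology theory by
dimension shifting:

* `CechKos.CechAcyc P U`: every positive-degree Čech cocycle of the presheaf `P` is a coboundary.
* `CechKos.cechAcyc_of_retract`: stability under "biproducts" (a presheaf which is a sum of two
  acyclic retracts).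
* `CechKos.cechAcyc_of_local`: a presheaf all of whose restrictions `P(W) → P(W ∩ U i₀)` are
  bijective is Čech-acyclic for a family containing `U i₀`.
* `CechKos.cechSC_shortExact'`: a short complex of sheaves which is short exact on sections over
  all finite intersections gives a short exact sequence of Čech complexes.
* `CechKos.nonempty_shift`, `CechKos.nonempty_shift_zero`: the resulting dimension shifting.
APPEND-ONLY once landed.
-/

set_option autoImplicit false
universe u
open CategoryTheory CategoryTheory.Limits TopologicalSpace Opposite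

namespace CechKos

open Groth.Agent.Lib.Cech

variable {X : TopCat.{u}}

section Acyc

variable (P : (Opens X)ᵒᵖ ⥤ AddCommGrpCat.{u}) {ι : Type u} (U : ι → Opens X)

/-- Every Čech cocycle of positive degree is a coboundary. -/
def CechAcyc : Prop :=
  ∀ (p : ℕ) (α : Coch P U (p + 1)), D P U (p + 1) α = 0 → ∃ β : Coch P U p, D P U p β = α

variable {P U} in
theorem isZero_of_cechAcyc (h : CechAcyc P U) (p : ℕ) : IsZero (CohTop.cechH P U (p + 1)) :=
  (isZero_cechH_succ_iff P U p).2 (h p)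

end Acyc

section MapC

variable {P Q R : (Opens X)ᵒᵖ ⥤ AddCommGrpCat.{u}} {ι : Type u} (U : ι → Opens X)

theorem mapC_id (n : ℕ) (β : Coch P U n) : mapC (𝟙 P) U n β = β := by
  funext σ
  rw [mapC_apply]
  rfl

theorem mapC_comp (φ : P ⟶ Q) (ψ : Q ⟶ R) (n : ℕ) (β : Coch P U n) :
    mapC (φ ≫ ψ) U n β = mapC ψ U n (mapC φ U n β) := by
  funext σ
  rw [mapC_apply, mapC_apply, mapC_apply]
  rfl

theorem mapC_add (φ ψ : P ⟶ Q) (n : ℕ) (β : Coch P U n) :
    mapC (φ + ψ) U n β = mapC φ U n β + mapC ψ U n β := by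
  funext σ
  rw [Pi.add_apply, mapC_apply, mapC_apply, mapC_apply]
  rfl

/-- A presheaf which is the sum of two Čech-acyclic retracts is Čech-acyclic. -/
theorem cechAcyc_of_retract {A B : (Opens X)ᵒᵖ ⥤ AddCommGrpCat.{u}}
    (pA : P ⟶ A) (iA : A ⟶ P) (pB : P ⟶ B) (iB : B ⟶ P)
    (hid : pA ≫ iA + pB ≫ iB = 𝟙 P) (hA : CechAcyc A U) (hB : CechAcyc B U) :
    CechAcyc P U := by
  intro p α hα
  have hαA : D A U (p + 1) (mapC pA U (p + 1) α) = 0 := by
    rw [mapC_D, hα, map_zero]
  have hαB : D B U (p + 1) (mapC pB U (p + 1) α) = 0 := by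
    rw [mapC_D, hα, map_zero]
  obtain ⟨βA, hβA⟩ := hA p _ hαA
  obtain ⟨βB, hβB⟩ := hB p _ hαB
  refine ⟨mapC iA U p βA + mapC iB U p βB, ?_⟩
  rw [map_add, mapC_D, mapC_D, hβA, hβB, ← mapC_comp, ← mapC_comp, ← mapC_add, hid, mapC_id]

end MapC

section Local

variable (P : (Opens X)ᵒᵖ ⥤ AddCommGrpCat.{u}) {ι : Type u} (U : ι → Opens X) (i₀ : ι)

theorem cons_le' {n : ℕ} (σ : Fin (n + 1) → ι) :
    (⨅ k, U ((Fin.cons i₀ σ : Fin (n + 2) → ι) k)) ≤ ⨅ k, U (σ k) :=
  le_iInf fun j => by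
    have h := iInf_le (fun k => U ((Fin.cons i₀ σ : Fin (n + 2) → ι) k)) j.succ
    simp only [Fin.cons_succ] at h
    exact h

theorem inf_le_cons {n : ℕ} (σ : Fin (n + 1) → ι) :
    (⨅ k, U (σ k)) ⊓ U i₀ ≤ ⨅ k, U ((Fin.cons i₀ σ : Fin (n + 2) → ι) k) :=
  le_iInf fun k => by
    refine Fin.cases ?_ (fun j => ?_) k
    · simp only [Fin.cons_zero]
      exact inf_le_right
    · simp only [Fin.cons_succ]
      exact inf_le_left.trans (iInf_le (fun k => U (σ k)) j)

variable (hP : ∀ (W W' : Opens X) (h : W' ≤ W), W ⊓ U i₀ ≤ W' → Function.Bijective (res P h))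

/-- The (bijective) restriction to the intersection with `U i₀`. -/
noncomputable def rhoE {n : ℕ} (σ : Fin (n + 1) → ι) :
    P.obj (op (⨅ k, U (σ k))) ≃+ P.obj (op (⨅ k, U ((Fin.cons i₀ σ : Fin (n + 2) → ι) k))) :=
  AddEquiv.ofBijective (res P (cons_le' U i₀ σ)) (hP _ _ _ (inf_le_cons U i₀ σ))

theorem rhoE_apply {n : ℕ} (σ : Fin (n + 1) → ι) (x : P.obj (op (⨅ k, U (σ k)))) :
    rhoE P U i₀ hP σ x = res P (cons_le' U i₀ σ) x := rfl

theorem res_rhoE_symm {n : ℕ} (σ : Fin (n + 1) → ι)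
    (y : P.obj (op (⨅ k, U ((Fin.cons i₀ σ : Fin (n + 2) → ι) k)))) {V : Opens X}
    (h : V ≤ ⨅ k, U (σ k)) (h' : V ≤ ⨅ k, U ((Fin.cons i₀ σ : Fin (n + 2) → ι) k)) :
    res P h ((rhoE P U i₀ hP σ).symm y) = res P h' y := by
  have e : y = rhoE P U i₀ hP σ ((rhoE P U i₀ hP σ).symm y) := (AddEquiv.apply_symm_apply _ _).symm
  conv_rhs => rw [e, rhoE_apply, res_res]

/-- The contracting homotopy. -/
noncomputable def hh' (n : ℕ) : Coch P U (n + 1) →+ Coch P U n where
  toFun γ σ := (rhoE P U i₀ hP σ).symm (γ (Fin.cons i₀ σ))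
  map_zero' := by
    funext σ
    simp
  map_add' β γ := by
    funext σ
    simp

theorem hh'_apply (n : ℕ) (γ : Coch P U (n + 1)) (σ : Fin (n + 1) → ι) :
    hh' P U i₀ hP n γ σ = (rhoE P U i₀ hP σ).symm (γ (Fin.cons i₀ σ)) := rfl

theorem hh'_D (n : ℕ) (γ : Coch P U (n + 1)) :
    D P U n (hh' P U i₀ hP n γ) + hh' P U i₀ hP (n + 1) (D P U (n + 1) γ) = γ := by
  funext σ
  apply (rhoE P U i₀ hP σ).injective
  rw [Pi.add_apply, map_add, hh'_apply, AddEquiv.apply_symm_apply, rhoE_apply, rhoE_apply]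
  have t0 : (-1 : ℤ) ^ ((0 : Fin (n + 3)) : ℕ) •
      res P (face_le U (Fin.cons i₀ σ) 0)
        (γ ((Fin.cons i₀ σ : Fin (n + 3) → ι) ∘ Fin.succAbove 0)) =
      res P (cons_le' U i₀ σ) (γ σ) := by
    rw [Fin.val_zero, pow_zero, one_smul]
    exact res_congr_idx P (A := fun c : Fin (n + 2) → ι => ⨅ k, U (c k)) γ
      (cons_comp_succAbove_zero i₀ σ) _ _
  have tk : ∀ k : Fin (n + 2), (-1 : ℤ) ^ ((k.succ : Fin (n + 3)) : ℕ) •
      res P (face_le U (Fin.cons i₀ σ) k.succ)
        (γ ((Fin.cons i₀ σ : Fin (n + 3) → ι) ∘ Fin.succAbove k.succ)) =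
      - res P (cons_le' U i₀ σ) ((-1 : ℤ) ^ (k : ℕ) • res P (face_le U σ k)
        (hh' P U i₀ hP n γ (σ ∘ Fin.succAbove k))) := by
    intro k
    rw [Fin.val_succ, pow_succ, mul_neg_one, neg_smul, map_zsmul, res_res, hh'_apply]
    congr 2
    rw [res_rhoE_symm P U i₀ hP (σ ∘ Fin.succAbove k) _ _
      ((cons_le' U i₀ σ).trans (face_le U σ k) |> fun _ =>
        (face_le U (Fin.cons i₀ σ) k.succ).trans (le_of_eq (by
          rw [cons_comp_succAbove_succ])))]
    exact res_congr_idx P (A := fun c : Fin (n + 2) → ι => ⨅ k, U (c k)) γ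
      (cons_comp_succAbove_succ i₀ σ k) _ _
  rw [D_apply (n := n + 1), Fin.sum_univ_succ, t0]
  simp only [tk]
  rw [Finset.sum_neg_distrib, D_apply, map_sum]
  abel

include hP in
theorem cechAcyc_of_local : CechAcyc P U := by
  intro p α hα
  refine ⟨hh' P U i₀ hP p α, ?_⟩
  have h := hh'_D P U i₀ hP p α
  rw [hα, map_zero, add_zero] at h
  exact h

end Local

section SC

variable {ι : Type u} (U : ι → Opens X)

/-- A short complex of sheaves which is short exact on sections over all the finite intersections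
gives a short exact sequence of Čech complexes. -/
theorem cechSC_shortExact' (S : ShortComplex (CohTop.Ab X))
    (hinj : ∀ (n : ℕ) (σ : Fin (n + 1) → ι),
      Function.Injective (S.f.hom.app (op (⨅ k, U (σ k)))).hom)
    (hex : ∀ (n : ℕ) (σ : Fin (n + 1) → ι) (b : S.X₂.obj.obj (op (⨅ k, U (σ k)))),
      (S.g.hom.app (op (⨅ k, U (σ k)))).hom b = 0 →
        ∃ a : S.X₁.obj.obj (op (⨅ k, U (σ k))), (S.f.hom.app (op (⨅ k, U (σ k)))).hom a = b)
    (hsurj : ∀ (n : ℕ) (σ : Fin (n + 1) → ι),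
      Function.Surjective (S.g.hom.app (op (⨅ k, U (σ k)))).hom) :
    (cechSC U S).ShortExact := by
  apply HomologicalComplex.shortExact_of_degreewise_shortExact
  intro n
  have hexact : ((cechSC U S).map (HomologicalComplex.eval _ _ n)).Exact := by
    rw [ShortComplex.ab_exact_iff]
    intro x hx
    have hx' : (((cechComplexFunctor U).map S.g.hom).f n).hom x = 0 := hx
    have h1 : mapC S.g.hom U n (cmp S.X₂.obj U n x) = 0 := by
      rw [← cmp_map, hx', map_zero]
    have hex' : ∀ σ : Fin (n + 1) → ι, ∃ a : S.X₁.obj.obj (op (⨅ k, U (σ k))),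
        (S.f.hom.app _).hom a = cmp S.X₂.obj U n x σ := by
      intro σ
      apply hex n σ
      exact congrFun h1 σ
    choose a ha using hex'
    refine ⟨(cmp S.X₁.obj U n).symm a, ?_⟩
    apply (cmp S.X₂.obj U n).injective
    show cmp S.X₂.obj U n ((((cechComplexFunctor U).map S.f.hom).f n).hom _) = _
    rw [cmp_map, AddEquiv.apply_symm_apply]
    exact funext ha
  have hmono : Mono ((cechSC U S).map (HomologicalComplex.eval _ _ n)).f := by
    rw [AddCommGrpCat.mono_iff_injective]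
    intro x y hxy
    have hxy' : (((cechComplexFunctor U).map S.f.hom).f n).hom x =
        (((cechComplexFunctor U).map S.f.hom).f n).hom y := hxy
    have h1 := congrArg (cmp S.X₂.obj U n) hxy'
    rw [cmp_map, cmp_map] at h1
    apply (cmp S.X₁.obj U n).injective
    funext σ
    apply hinj n σ
    exact congrFun h1 σ
  have hepi : Epi ((cechSC U S).map (HomologicalComplex.eval _ _ n)).g := by
    rw [AddCommGrpCat.epi_iff_surjective]
    intro z
    choose b hb using fun σ => hsurj n σ (cmp S.X₃.obj U n z σ)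
    refine ⟨(cmp S.X₂.obj U n).symm b, ?_⟩
    apply (cmp S.X₃.obj U n).injective
    show cmp S.X₃.obj U n ((((cechComplexFunctor U).map S.g.hom).f n).hom _) = _
    rw [cmp_map, AddEquiv.apply_symm_apply]
    exact funext hb
  exact ShortComplex.ShortExact.mk' hexact hmono hepi

variable (S : ShortComplex (CohTop.Ab X)) (hSC : (cechSC U S).ShortExact)
  (hN : CechAcyc S.X₂.obj U)

include hSC hN in
/-- Dimension shifting in positive degrees. -/
theorem nonempty_shift (p : ℕ) :
    Nonempty (CohTop.cechH S.X₃.obj U (p + 1) ≃+ CohTop.cechH S.X₁.obj U (p + 2)) := by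
  have hCI : ∀ q, IsZero ((cechSC U S).X₂.homology (q + 1)) := fun q => isZero_of_cechAcyc hN q
  let e1 : (cechSC U S).X₃.homology (p + 1) ≅ (cechSC U S).X₁.homology (p + 2) :=
    hSC.δIso (p + 1) (p + 2) rfl (hCI p) (hCI (p + 1))
  exact ⟨e1.addCommGroupIsoToAddEquiv⟩

include hSC hN in
/-- Dimension shifting in degree zero: `Ȟ^1` of the sub is the cokernel on sections over the
union. -/
theorem nonempty_shift_zero :
    Nonempty (S.X₃.obj.obj (op (iSup U)) ⧸ (S.g.hom.app (op (iSup U))).hom.range ≃+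
      CohTop.cechH S.X₁.obj U 1) := by
  have hCI : ∀ q, IsZero ((cechSC U S).X₂.homology (q + 1)) := fun q => isZero_of_cechAcyc hN q
  let φ : S.X₃.obj.obj (op (iSup U)) →+ (cechSC U S).X₁.homology 1 :=
    (hSC.δ 0 1 rfl).hom.comp (κ U S.X₃.obj).hom
  have hφs : Function.Surjective φ := by
    have : Epi (hSC.δ 0 1 rfl) := hSC.epi_δ 0 1 rfl (hCI 0)
    exact ((AddCommGrpCat.epi_iff_surjective _).mp this).comp (κ_bijective U S.X₃).2
  have hn : ∀ s, (HomologicalComplex.homologyMap (cechSC U S).g 0).hom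
      ((κ U S.X₂.obj).hom s) = (κ U S.X₃.obj).hom ((S.g.hom.app (op (iSup U))).hom s) :=
    fun s => congrArg (fun f => f.hom s) (κ_natural U S.g.hom)
  have hker : (S.g.hom.app (op (iSup U))).hom.range = φ.ker := by
    ext z
    rw [AddMonoidHom.mem_range, AddMonoidHom.mem_ker]
    constructor
    · rintro ⟨s, rfl⟩
      show (hSC.δ 0 1 rfl).hom ((κ U S.X₃.obj).hom ((S.g.hom.app (op (iSup U))).hom s)) = 0
      rw [← hn s]
      have := congrArg (fun f => f.hom ((κ U S.X₂.obj).hom s)) (hSC.comp_δ 0 1 rfl)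
      exact this
    · intro hz
      have hex := hSC.homology_exact₃ 0 1 rfl
      rw [ShortComplex.ab_exact_iff] at hex
      obtain ⟨y, hy⟩ := hex ((κ U S.X₃.obj).hom z) hz
      obtain ⟨s, rfl⟩ := (κ_bijective U S.X₂).2 y
      refine ⟨s, (κ_bijective U S.X₃).1 ?_⟩
      exact (hn s).symm.trans hy
  exact ⟨(QuotientAddGroup.quotientAddEquivOfEq hker).trans
    (QuotientAddGroup.quotientKerEquivOfSurjective φ hφs)⟩

end SC

end CechKos
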