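import Mathlib
import Groth.Prelude.Def_ega3

set_option autoImplicit false
universe u
open CategoryTheory CategoryTheory.Limits CochainComplex HomComplex

namespace Groth.Agent.Lib.KoszulHtpyH7

variable {C : Type*} [Category C] [Abelian C] {R : Type*} [CommRing R] [Linear R C]

lemma ofHom_smul {F G : CochainComplex C ℤ} (r : R) (g : F ⟶ G) :
    Cochain.ofHom (r • g) = r • Cochain.ofHom g := by
  ext p
  simp [Cochain.smul_v]

/-- multiplication by `r` on the cone of `r • 𝟙 X` is null-homotopic. -/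
noncomputable def homotopyA (X : CochainComplex C ℤ) (r : R) :
    Homotopy (r • 𝟙 (mappingCone (r • 𝟙 X))) 0 :=
  mappingCone.descHomotopy (r • 𝟙 X) _ _ 0 (mappingCone.inl (r • 𝟙 X))
    (by
      simp only [ofHom_smul, Cochain.comp_smul, Cochain.smul_comp, Cochain.comp_id,
        Cochain.id_comp, δ_zero, Cochain.ofHom_zero, Cochain.comp_zero, zero_add, add_zero])
    (by
      simp only [mappingCone.δ_inl, Linear.comp_smul, Linear.smul_comp, Category.comp_id,
        Category.id_comp, Limits.comp_zero, Cochain.ofHom_zero, add_zero])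

/-- a null-homotopy of `a • 𝟙 X` induces one on the cone of `r • 𝟙 X`. -/
noncomputable def homotopyB (X : CochainComplex C ℤ) (r a : R) (h : Homotopy (a • 𝟙 X) 0) :
    Homotopy (a • 𝟙 (mappingCone (r • 𝟙 X))) 0 :=
  mappingCone.descHomotopy (r • 𝟙 X) _ _
    (-((Cochain.ofHomotopy h).comp (mappingCone.inl (r • 𝟙 X)) (by norm_num : (-1 : ℤ) + -1 = -2)))
    ((Cochain.ofHomotopy h).comp (Cochain.ofHom (mappingCone.inr (r • 𝟙 X))) (add_zero (-1)))
    (by
      rw [δ_neg, δ_comp (Cochain.ofHomotopy h) (mappingCone.inl (r • 𝟙 X))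
        (by norm_num : (-1 : ℤ) + -1 = -2) 0 0 (-1) (by norm_num) (by norm_num) (by norm_num)]
      simp only [mappingCone.δ_inl, δ_ofHomotopy, ofHom_smul, Cochain.comp_smul,
        Cochain.smul_comp, Cochain.comp_id, Cochain.id_comp, Cochain.ofHom_zero,
        Cochain.comp_zero, sub_zero, add_zero, Linear.smul_comp, Category.id_comp,
        Int.negOnePow_neg, Int.negOnePow_one, Units.neg_smul, one_smul]
      abel)
    (by
      rw [δ_comp_zero_cochain (Cochain.ofHomotopy h) _ 0 (by norm_num)]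
      simp only [δ_ofHom, δ_ofHomotopy, ofHom_smul, Cochain.comp_smul,
        Cochain.smul_comp, Cochain.comp_id, Cochain.id_comp, Cochain.ofHom_zero,
        Cochain.comp_zero, sub_zero, add_zero, zero_add, Linear.comp_smul, Category.comp_id,
        Limits.comp_zero])

/-- the set of `a` with `a • 𝟙 K` null-homotopic is an ideal. -/
def nullIdeal (K : CochainComplex C ℤ) : Ideal R where
  carrier := {a | Nonempty (Homotopy (a • 𝟙 K) 0)}
  add_mem' := by
    rintro a b ⟨ha⟩ ⟨hb⟩
    exact ⟨(Homotopy.ofEq (add_smul a b (𝟙 K))).trans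
      ((ha.add hb).trans (Homotopy.ofEq (add_zero 0)))⟩
  zero_mem' := ⟨Homotopy.ofEq (zero_smul R (𝟙 K))⟩
  smul_mem' := by
    rintro c a ⟨ha⟩
    exact ⟨(Homotopy.ofEq (by rw [smul_eq_mul, mul_smul])).trans
      ((ha.smul c).trans (Homotopy.ofEq (smul_zero c)))⟩

end Groth.Agent.Lib.KoszulHtpyH7

namespace Groth.Agent.Lib.KoszulHtpyH7

variable {A : Type u} [CommRing A]

theorem koszulCx_cons (M : ModuleCat.{u} A) (f : A) (fs : List A) :
    CohIII.koszulCx M (f :: fs) = CochainComplex.mappingCone (f • 𝟙 (CohIII.koszulCx M fs)) := rfl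

theorem mem_nullIdeal (M : ModuleCat.{u} A) :
    ∀ (xs : List A), ∀ x ∈ xs, x ∈ nullIdeal (R := A) (CohIII.koszulCx M xs) := by
  intro xs
  induction xs with
  | nil => intro x hx; simp at hx
  | cons f fs ih =>
    intro x hx
    rw [List.mem_cons] at hx
    rcases hx with rfl | hx
    · exact ⟨homotopyA (CohIII.koszulCx M fs) x⟩
    · obtain ⟨h⟩ := ih x hx
      exact ⟨homotopyB (CohIII.koszulCx M fs) f x h⟩

theorem main (M : ModuleCat.{u} A) (xs : List A) (a : A) (ha : a ∈ Ideal.span {x | x ∈ xs}) :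
    Nonempty (Homotopy (a • 𝟙 (CohIII.koszulCx M xs)) 0) := by
  have hle : Ideal.span {x | x ∈ xs} ≤ nullIdeal (R := A) (CohIII.koszulCx M xs) :=
    Ideal.span_le.mpr (fun x hx => mem_nullIdeal M xs x hx)
  exact hle ha

theorem isZero_homology (M : ModuleCat.{u} A) (xs : List A)
    (hfs : Ideal.span {a | a ∈ xs} = ⊤) (i : ℤ) :
    IsZero ((CohIII.koszulCx M xs).homology i) := by
  obtain ⟨h⟩ := main M xs 1 (by rw [hfs]; trivial)
  rw [IsZero.iff_id_eq_zero]
  have h' : Homotopy (𝟙 (CohIII.koszulCx M xs)) 0 :=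
    (Homotopy.ofEq (one_smul A (𝟙 (CohIII.koszulCx M xs))).symm).trans h
  have := h'.homologyMap_eq i
  rwa [HomologicalComplex.homologyMap_id, HomologicalComplex.homologyMap_zero] at this

end Groth.Agent.Lib.KoszulHtpyH7
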