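import Mathlib
import Groth.Prelude.Def_DerCA

/-!
# Extended Čech complexes: localisation of cohomology and the long exact sequence of a mapping cocone
(helper7; S9265, S9266, S17776, S17778)
-/

open CategoryTheory CategoryTheory.Limits

attribute [local instance] HasDerivedCategory.standard

namespace Groth.Agent.Lib.ExtCechH7

universe u

variable {R : Type u} [CommRing R]

instance preservesHomology_locFunctor (S : Submonoid R) :
    (DerCA.locFunctor S).PreservesHomology := by
  have h := ((DerCA.locFunctor S).exact_tfae.out 1 2).mp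
  apply h
  intro X hX
  rw [ShortComplex.ShortExact.moduleCat_exact_iff_function_exact] at hX ⊢
  exact LocalizedModule.map_exact S X.f.hom X.g.hom hX

section LES

variable {K L : DRing.Cx R} (φ : K ⟶ L)

/-- `H^q(cocone) → H^q(K)` -/
noncomputable def fstH (q : ℤ) :
    (CochainComplex.mappingCocone φ).homology q →ₗ[R] K.homology q :=
  (HomologicalComplex.homologyMap (CochainComplex.mappingCocone.fst φ) q).hom

/-- `H^q(K) → H^q(L)` -/
noncomputable def mapH (q : ℤ) : K.homology q →ₗ[R] L.homology q :=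
  (HomologicalComplex.homologyMap φ q).hom

/-- the connecting map `H^q(L) → H^{q+1}(cocone)` -/
noncomputable def δH (q q' : ℤ) (h : q + 1 = q') :
    L.homology q →ₗ[R] (CochainComplex.mappingCocone φ).homology q' :=
  (CochainComplex.homologyδOfTriangle (CochainComplex.mappingCocone.triangle φ) q q' h).hom

lemma fstH_δH (q q' : ℤ) (h : q + 1 = q') (z : L.homology q) :
    fstH φ q' (δH φ q q' h z) = 0 := by
  have h1 := CochainComplex.homologyδOfTriangle_homologyMap
    (CochainComplex.mappingCocone.triangle φ)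
    (DerivedCategory.mappingCocone_triangle_distinguished φ) q q' h
  exact congrArg (fun m => m.hom z) h1

lemma exists_δH_eq (q q' : ℤ) (h : q + 1 = q') (x : (CochainComplex.mappingCocone φ).homology q')
    (hx : fstH φ q' x = 0) : ∃ z, δH φ q q' h z = x := by
  have h1 := CochainComplex.homologyMap_exact₁_of_distTriang
    (CochainComplex.mappingCocone.triangle φ)
    (DerivedCategory.mappingCocone_triangle_distinguished φ) q q' h
  exact (ShortComplex.moduleCat_exact_iff _).mp h1 x hx

lemma mapH_fstH (q : ℤ) (x : (CochainComplex.mappingCocone φ).homology q) :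
    mapH φ q (fstH φ q x) = 0 := by
  have h1 := CochainComplex.homologyMap_comp_eq_zero_of_distTriang
    (CochainComplex.mappingCocone.triangle φ)
    (DerivedCategory.mappingCocone_triangle_distinguished φ) q
  exact congrArg (fun m => m.hom x) h1

lemma exists_fstH_eq (q : ℤ) (y : K.homology q) (hy : mapH φ q y = 0) :
    ∃ x, fstH φ q x = y := by
  have h1 := CochainComplex.homologyMap_exact₂_of_distTriang
    (CochainComplex.mappingCocone.triangle φ)
    (DerivedCategory.mappingCocone_triangle_distinguished φ) q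
  exact (ShortComplex.moduleCat_exact_iff _).mp h1 y hy

lemma δH_mapH (q q' : ℤ) (h : q + 1 = q') (y : K.homology q) :
    δH φ q q' h (mapH φ q y) = 0 := by
  have h1 := CochainComplex.homologyMap_homologyδOfTriangle
    (CochainComplex.mappingCocone.triangle φ)
    (DerivedCategory.mappingCocone_triangle_distinguished φ) q q' h
  exact congrArg (fun m => m.hom y) h1

lemma exists_mapH_eq (q q' : ℤ) (h : q + 1 = q') (z : L.homology q)
    (hz : δH φ q q' h z = 0) : ∃ y, mapH φ q y = z := by
  have h1 := CochainComplex.homologyMap_exact₃_of_distTriang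
    (CochainComplex.mappingCocone.triangle φ)
    (DerivedCategory.mappingCocone_triangle_distinguished φ) q q' h
  exact (ShortComplex.moduleCat_exact_iff _).mp h1 z hz

end LES

section Loc

variable (S : Submonoid R) (K : DRing.Cx R)

/-- **L1**: the map induced on cohomology by termwise localisation is a localisation. -/
instance isLocalizedModule_mapH (q : ℤ) :
    IsLocalizedModule S (mapH (DerCA.locCxUnit S K) q) := by
  have h := ShortComplex.homologyMap_mapNatTrans (K.sc q) (DerCA.locUnit S)
  have h' : HomologicalComplex.homologyMap (DerCA.locCxUnit S K) q =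
      ((K.sc q).mapHomologyIso (𝟭 _)).hom ≫ (DerCA.locUnit S).app (K.homology q) ≫
        ((K.sc q).mapHomologyIso (DerCA.locFunctor S)).symm.hom := h
  have h2 : mapH (DerCA.locCxUnit S K) q =
      (((K.sc q).mapHomologyIso (DerCA.locFunctor S)).symm.toLinearEquiv.toLinearMap ∘ₗ
        LocalizedModule.mkLinearMap S (K.homology q)) ∘ₗ
        ((K.sc q).mapHomologyIso (𝟭 _)).toLinearEquiv.toLinearMap := by
    unfold mapH
    rw [h']
    rfl
  rw [h2]
  let e₁ : K.homology q ≃ₗ[R] K.homology q :=
    ((K.sc q).mapHomologyIso (𝟭 _)).toLinearEquiv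
  let e₂ : LocalizedModule S (K.homology q) ≃ₗ[R]
      ((DerCA.locCx S).obj K).homology q :=
    ((K.sc q).mapHomologyIso (DerCA.locFunctor S)).symm.toLinearEquiv
  haveI i1 : IsLocalizedModule S
      (e₂.toLinearMap ∘ₗ LocalizedModule.mkLinearMap S (K.homology q)) :=
    IsLocalizedModule.of_linearEquiv S (LocalizedModule.mkLinearMap S (K.homology q)) e₂
  exact IsLocalizedModule.of_linearEquiv_right S
    (e₂.toLinearMap ∘ₗ LocalizedModule.mkLinearMap S (K.homology q)) e₁

end Loc

section Cocone

variable (f : R) (K : DRing.Cx R)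

/-- the mapping cocone of the localisation map at `f` -/
noncomputable abbrev cc : DRing.Cx R :=
  CochainComplex.mappingCocone (DerCA.locCxUnit (Submonoid.powers f) K)

local notation "φf" => DerCA.locCxUnit (Submonoid.powers f) K

lemma mapH_eq_zero_iff (q : ℤ) (y : K.homology q) :
    mapH φf q y = 0 ↔ ∃ n : ℕ, f ^ n • y = 0 := by
  rw [IsLocalizedModule.eq_zero_iff (Submonoid.powers f) (mapH φf q)]
  constructor
  · rintro ⟨⟨_, n, rfl⟩, hc⟩
    exact ⟨n, hc⟩
  · rintro ⟨n, hn⟩
    exact ⟨⟨f ^ n, n, rfl⟩, hn⟩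

lemma exists_pow_smul_eq_mapH (q : ℤ) (z : ((DerCA.locCx (Submonoid.powers f)).obj K).homology q) :
    ∃ (n : ℕ) (w : K.homology q), f ^ n • z = mapH φf q w := by
  obtain ⟨⟨w, ⟨_, n, rfl⟩⟩, hw⟩ := IsLocalizedModule.surj (Submonoid.powers f) (mapH φf q) z
  exact ⟨n, w, hw⟩

lemma pow_smul_injective (q : ℤ) (n : ℕ)
    (z : ((DerCA.locCx (Submonoid.powers f)).obj K).homology q) (hz : f ^ n • z = 0) : z = 0 := by
  have := IsLocalizedModule.smul_injective (mapH φf q) (⟨f ^ n, n, rfl⟩ : Submonoid.powers f)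
  apply this
  show f ^ n • z = f ^ n • (0 : _)
  rw [hz, smul_zero]

/-- (P1) the cohomology of the cocone is `f`-power torsion -/
theorem P1 (q : ℤ) (x : (cc f K).homology q) : ∃ n : ℕ, f ^ n • x = 0 := by
  obtain ⟨n, hn⟩ := (mapH_eq_zero_iff f K q (fstH φf q x)).mp (mapH_fstH φf q x)
  have h1 : fstH φf q (f ^ n • x) = 0 := by rw [map_smul, hn]
  obtain ⟨z, hz⟩ := exists_δH_eq φf (q - 1) q (by omega) _ h1
  obtain ⟨m, w, hw⟩ := exists_pow_smul_eq_mapH f K (q - 1) z
  refine ⟨m + n, ?_⟩
  rw [pow_add, mul_smul, ← hz, ← map_smul, hw, δH_mapH]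

/-- (P2) torsion with respect to another element is inherited -/
theorem P2 (g : R) (hK : ∀ (q : ℤ) (y : K.homology q), ∃ n : ℕ, g ^ n • y = 0)
    (q : ℤ) (x : (cc f K).homology q) : ∃ n : ℕ, g ^ n • x = 0 := by
  obtain ⟨n, hn⟩ := hK q (fstH φf q x)
  have h1 : fstH φf q (g ^ n • x) = 0 := by rw [map_smul, hn]
  obtain ⟨z, hz⟩ := exists_δH_eq φf (q - 1) q (by omega) _ h1
  obtain ⟨m, w, hw⟩ := exists_pow_smul_eq_mapH f K (q - 1) z
  obtain ⟨k, hk⟩ := hK (q - 1) w
  have hz0 : g ^ k • z = 0 := by
    apply pow_smul_injective f K (q - 1) m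
    rw [smul_comm, hw, ← map_smul, hk, map_zero]
  refine ⟨k + n, ?_⟩
  rw [pow_add, mul_smul, ← hz, ← map_smul, hz0, map_zero]

/-- (P3) vanishing -/
theorem P3 (q : ℤ) (h0 : Subsingleton (K.homology q))
    (h1 : Function.Surjective (mapH φf (q - 1))) : Subsingleton ((cc f K).homology q) := by
  refine ⟨fun x x' => ?_⟩
  have key : ∀ x : (cc f K).homology q, x = 0 := by
    intro x
    obtain ⟨z, hz⟩ := exists_δH_eq φf (q - 1) q (by omega) x (Subsingleton.elim _ _)
    obtain ⟨w, hw⟩ := h1 z
    rw [← hz, ← hw, δH_mapH]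
  rw [key x, key x']

lemma subsingleton_loc (q : ℤ) (h : Subsingleton (K.homology q)) :
    Subsingleton (((DerCA.locCx (Submonoid.powers f)).obj K).homology q) := by
  refine ⟨fun z z' => ?_⟩
  have key : ∀ z : ((DerCA.locCx (Submonoid.powers f)).obj K).homology q, z = 0 := by
    intro z
    obtain ⟨m, w, hw⟩ := exists_pow_smul_eq_mapH f K q z
    apply pow_smul_injective f K q m
    rw [hw, Subsingleton.elim w 0, map_zero]
  rw [key z, key z']

theorem P3' (q : ℤ) (h0 : Subsingleton (K.homology q)) (h1 : Subsingleton (K.homology (q - 1))) :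
    Subsingleton ((cc f K).homology q) := by
  apply P3 f K q h0
  intro z
  haveI := subsingleton_loc f K (q - 1) h1
  exact ⟨0, Subsingleton.elim _ _⟩

/-- (P4) injectivity of `fstH` -/
theorem P4_injective (q : ℤ) (h1 : Subsingleton (K.homology (q - 1))) :
    Function.Injective (fstH φf q) := by
  rw [injective_iff_map_eq_zero]
  intro x hx
  obtain ⟨z, hz⟩ := exists_δH_eq φf (q - 1) q (by omega) x hx
  haveI := subsingleton_loc f K (q - 1) h1
  rw [← hz, Subsingleton.elim z 0, map_zero]

theorem P4_range (q : ℤ) (y : K.homology q) :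
    y ∈ LinearMap.range (fstH φf q) ↔ ∃ n : ℕ, f ^ n • y = 0 := by
  rw [← mapH_eq_zero_iff]
  constructor
  · rintro ⟨x, rfl⟩
    exact mapH_fstH φf q x
  · intro hy
    exact exists_fstH_eq φf q y hy

end Cocone

end Groth.Agent.Lib.ExtCechH7
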