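import Mathlib
import Groth.Prelude.Def_DerCA
import Groth.Prelude.Def_DRing3
import Groth.Agent.Lib.ExtCech_helper7

/-!
# Extended Čech complexes: torsion, vanishing, degree zero (helper7; S9265, S9266, S17776)
-/

open CategoryTheory CategoryTheory.Limits

namespace Groth.Agent.Lib.ExtCechH7

universe u

variable {R : Type u} [CommRing R]

lemma extCech_cons (M : ModuleCat.{u} R) (f : R) (fs : List R) :
    DerCA.extCech M (f :: fs) = cc f (DerCA.extCech M fs) := rfl

theorem torsion_all (fs : List R) (M : ModuleCat.{u} R) :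
    ∀ g ∈ fs, ∀ (q : ℤ) (x : DerCA.extCechH fs M q), ∃ n : ℕ, g ^ n • x = 0 := by
  induction fs with
  | nil => intro g hg; simp at hg
  | cons f fs ih =>
    intro g hg q x
    rcases List.mem_cons.mp hg with rfl | hg'
    · exact P1 g (DerCA.extCech M fs) q x
    · exact P2 f (DerCA.extCech M fs) g (fun q y => ih g hg' q y) q x

theorem S9265_main (fs : List R) (M : ModuleCat.{u} R) (q : ℤ) (x : DerCA.extCechH fs M q) :
    ∃ n : ℕ, 1 ≤ n ∧ ∀ f ∈ fs, (f ^ n) • x = 0 := by
  have h := torsion_all fs M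
  have key : ∀ l : List R, (∀ g ∈ l, ∃ n : ℕ, g ^ n • x = 0) →
      ∃ n : ℕ, 1 ≤ n ∧ ∀ g ∈ l, g ^ n • x = 0 := by
    intro l
    induction l with
    | nil => intro _; exact ⟨1, le_rfl, fun g hg => by simp at hg⟩
    | cons a l ih =>
      intro hl
      obtain ⟨n, hn1, hn⟩ := ih (fun g hg => hl g (List.mem_cons_of_mem a hg))
      obtain ⟨m, hm⟩ := hl a (by simp)
      refine ⟨m + n, by omega, fun g hg => ?_⟩
      rcases List.mem_cons.mp hg with rfl | hg'
      · rw [pow_add, mul_comm, mul_smul, hm, smul_zero]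
      · rw [pow_add, mul_smul, hn g hg', smul_zero]
  exact key fs (fun g hg => h g hg q x)

/-- multiplication by `a` is bijective -/
def Bij (a : R) (N : Type*) [AddCommGroup N] [Module R N] : Prop :=
  (∀ y : N, a • y = 0 → y = 0) ∧ ∀ y : N, ∃ y' : N, a • y' = y

lemma Bij.of_equiv {a : R} {N N' : Type*} [AddCommGroup N] [Module R N] [AddCommGroup N']
    [Module R N'] (e : N ≃ₗ[R] N') (h : Bij a N') : Bij a N := by
  constructor
  · intro y hy
    have : e y = 0 := h.1 _ (by rw [← map_smul, hy, map_zero])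
    exact e.map_eq_zero_iff.mp this
  · intro y
    obtain ⟨y', hy'⟩ := h.2 (e y)
    exact ⟨e.symm y', by rw [← map_smul, hy', e.symm_apply_apply]⟩

lemma Bij.of_subsingleton {a : R} {N : Type*} [AddCommGroup N] [Module R N] [Subsingleton N] :
    Bij a N :=
  ⟨fun _ _ => Subsingleton.elim _ _, fun y => ⟨0, Subsingleton.elim _ _⟩⟩

section five

variable (f a : R) (K : DRing.Cx R)

local notation "φf" => DerCA.locCxUnit (Submonoid.powers f) K

lemma bij_loc (q : ℤ) (h : Bij a (K.homology q)) :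
    Bij a (((DerCA.locCx (Submonoid.powers f)).obj K).homology q) := by
  constructor
  · intro d h0
    obtain ⟨m, w, hw⟩ := exists_pow_smul_eq_mapH f K q d
    have h1 : mapH φf q (a • w) = 0 := by
      rw [map_smul, ← hw, smul_comm, h0, smul_zero]
    obtain ⟨k, hk⟩ := (mapH_eq_zero_iff f K q _).mp h1
    have h2 : f ^ k • w = 0 := by
      apply h.1
      rw [smul_comm, hk]
    apply pow_smul_injective f K q (k + m)
    rw [pow_add, mul_smul, hw, ← map_smul, h2, map_zero]
  · intro z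
    obtain ⟨m, w, hw⟩ := exists_pow_smul_eq_mapH f K q z
    obtain ⟨w', hw'⟩ := h.2 w
    have hunit := IsLocalizedModule.map_units (mapH φf q) (⟨f ^ m, m, rfl⟩ : Submonoid.powers f)
    obtain ⟨z', hz'⟩ := ((Module.End.isUnit_iff _).mp hunit).2 (mapH φf q w')
    have hz'' : f ^ m • z' = mapH φf q w' := hz'
    refine ⟨z', ?_⟩
    apply IsLocalizedModule.smul_injective (mapH φf q) (⟨f ^ m, m, rfl⟩ : Submonoid.powers f)
    show f ^ m • (a • z') = f ^ m • z
    rw [smul_comm, hz'', hw, ← hw', map_smul]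

theorem bij_cc (hK : ∀ q : ℤ, Bij a (K.homology q)) (q : ℤ) : Bij a ((cc f K).homology q) := by
  have hL := fun q => bij_loc f a K q (hK q)
  constructor
  · intro d h0
    have hy : fstH φf q d = 0 := by
      apply (hK q).1
      rw [← map_smul, h0, map_zero]
    obtain ⟨z, hz⟩ := exists_δH_eq φf (q - 1) q (by omega) d hy
    have h1 : δH φf (q - 1) q (by omega) (a • z) = 0 := by rw [map_smul, hz, h0]
    obtain ⟨w, hw⟩ := exists_mapH_eq φf (q - 1) q (by omega) _ h1
    obtain ⟨w', hw'⟩ := (hK (q - 1)).2 w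
    have hz2 : z - mapH φf (q - 1) w' = 0 := by
      apply (hL (q - 1)).1
      rw [smul_sub, ← hw, ← hw', map_smul, sub_self]
    rw [← hz, sub_eq_zero.mp hz2, δH_mapH]
  · intro x
    obtain ⟨y', hy'⟩ := (hK q).2 (fstH φf q x)
    have h1 : mapH φf q y' = 0 := by
      apply (hL q).1
      rw [← map_smul, hy', mapH_fstH]
    obtain ⟨x', hx'⟩ := exists_fstH_eq φf q y' h1
    have h2 : fstH φf q (x - a • x') = 0 := by rw [map_sub, map_smul, hx', hy', sub_self]
    obtain ⟨z, hz⟩ := exists_δH_eq φf (q - 1) q (by omega) _ h2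
    obtain ⟨z', hz'⟩ := (hL (q - 1)).2 z
    refine ⟨x' + δH φf (q - 1) q (by omega) z', ?_⟩
    rw [smul_add, ← map_smul, hz', hz]
    abel

end five

theorem bij_all (fs : List R) (M : ModuleCat.{u} R) (a : R) (h : Bij a M) :
    ∀ q : ℤ, Bij a (DerCA.extCechH fs M q) := by
  induction fs with
  | nil =>
    intro q
    by_cases hq : q = 0
    · subst hq
      exact Bij.of_equiv
        (HomologicalComplex.singleObjHomologySelfIso (ComplexShape.up ℤ) 0 M).toLinearEquiv h
    · haveI : Subsingleton (DerCA.extCechH [] M q) :=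
        ModuleCat.subsingleton_of_isZero
          (HomologicalComplex.isZero_single_obj_homology (ComplexShape.up ℤ) 0 M q hq)
      exact Bij.of_subsingleton
  | cons f fs ih =>
    intro q
    exact bij_cc f a (DerCA.extCech M fs) ih q

theorem S9266_main (fs : List R) (M : ModuleCat.{u} R) (f : R)
    (hf : f ∈ Ideal.span {a : R | a ∈ fs})
    (hbij : Function.Bijective (fun m : M => f • m)) (q : ℤ) :
    Limits.IsZero (DerCA.extCechH fs M q) := by
  have hM : Bij f M := by
    refine ⟨fun y hy => hbij.1 (?_ : f • y = f • 0), fun y => hbij.2 y⟩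
    rw [hy, smul_zero]
  have hB := bij_all fs M f hM q
  have key : ∀ x : DerCA.extCechH fs M q, x = 0 := by
    intro x
    obtain ⟨n, hn1, hn⟩ := S9265_main fs M q x
    have hrad : Ideal.span {a : R | a ∈ fs} ≤ (Ideal.torsionOf R _ x).radical := by
      rw [Ideal.span_le]
      intro g hg
      exact ⟨n, hn g hg⟩
    obtain ⟨N, hN⟩ := hrad hf
    have hN' : f ^ N • x = 0 := hN
    have hpow : ∀ N : ℕ, f ^ N • x = 0 → x = 0 := by
      intro N
      induction N with
      | zero => intro h; simpa using h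
      | succ k ih =>
        intro h
        apply ih
        apply hB.1
        rw [← mul_smul, ← pow_succ']
        exact h
    exact hpow N hN'
  haveI : Subsingleton (DerCA.extCechH fs M q) := ⟨fun x y => by rw [key x, key y]⟩
  exact ModuleCat.isZero_of_subsingleton _

theorem H0_step (f : R) (K : DRing.Cx R) {M : Type u} [AddCommGroup M] [Module R M]
    (P : M → Prop) (hneg : ∀ q : ℤ, q < 0 → Subsingleton (K.homology q))
    (ι : K.homology 0 →ₗ[R] M) (hι : Function.Injective ι)
    (hrange : ∀ m : M, m ∈ LinearMap.range ι ↔ P m) :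
    (∀ q : ℤ, q < 0 → Subsingleton ((cc f K).homology q)) ∧
    ∃ ι' : (cc f K).homology 0 →ₗ[R] M, Function.Injective ι' ∧
      ∀ m : M, m ∈ LinearMap.range ι' ↔ ((∃ n : ℕ, f ^ n • m = 0) ∧ P m) := by
  refine ⟨fun q hq => P3' f K q (hneg q hq) (hneg (q - 1) (by omega)),
    ι ∘ₗ fstH (DerCA.locCxUnit (Submonoid.powers f) K) 0,
    hι.comp (P4_injective f K 0 (hneg (0 - 1) (by omega))), fun m => ?_⟩
  constructor
  · rintro ⟨x, rfl⟩
    obtain ⟨n, hn⟩ := (P4_range f K 0 (fstH _ 0 x)).mp ⟨x, rfl⟩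
    refine ⟨⟨n, ?_⟩, (hrange _).mp ⟨_, rfl⟩⟩
    rw [LinearMap.comp_apply, ← map_smul, hn, map_zero]
  · rintro ⟨⟨n, hn⟩, hP⟩
    obtain ⟨y, rfl⟩ := (hrange m).mpr hP
    have hy : f ^ n • y = 0 := hι (by rw [map_smul, hn, map_zero])
    obtain ⟨x, hx⟩ := (P4_range f K 0 y).mpr ⟨n, hy⟩
    exact ⟨x, by rw [LinearMap.comp_apply, hx]⟩

theorem H0_all (fs : List R) (M : ModuleCat.{u} R) :
    (∀ q : ℤ, q < 0 → Subsingleton (DerCA.extCechH fs M q)) ∧
    ∃ ι : DerCA.extCechH fs M 0 →ₗ[R] M, Function.Injective ι ∧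
      ∀ m : M, m ∈ LinearMap.range ι ↔ ∀ g ∈ fs, ∃ n : ℕ, g ^ n • m = 0 := by
  induction fs with
  | nil =>
    refine ⟨fun q hq => ?_,
      (HomologicalComplex.singleObjHomologySelfIso (ComplexShape.up ℤ) 0 M).toLinearEquiv.toLinearMap,
      (HomologicalComplex.singleObjHomologySelfIso (ComplexShape.up ℤ) 0 M).toLinearEquiv.injective,
      fun m => ⟨fun _ g hg => by simp at hg, fun _ => ?_⟩⟩
    · exact ModuleCat.subsingleton_of_isZero
        (HomologicalComplex.isZero_single_obj_homology (ComplexShape.up ℤ) 0 M q (by omega))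
    · exact ⟨(HomologicalComplex.singleObjHomologySelfIso (ComplexShape.up ℤ) 0 M).toLinearEquiv.symm m,
        LinearEquiv.apply_symm_apply _ m⟩
  | cons f fs ih =>
    obtain ⟨hneg, ι, hι, hrange⟩ := ih
    obtain ⟨h1, ι', hι', hrange'⟩ := H0_step f (DerCA.extCech M fs)
      (fun m : M => ∀ g ∈ fs, ∃ n : ℕ, g ^ n • m = 0) hneg ι hι hrange
    refine ⟨h1, ι', hι', fun m => ?_⟩
    rw [List.forall_mem_cons]
    exact hrange' m

theorem S17776_main (fs : List R) (M : Type u) [AddCommGroup M] [Module R M] :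
    Nonempty (DerCA.extCechH fs (ModuleCat.of R M) 0 ≅
      (DRing.gammaI (Ideal.span {x | x ∈ fs})).obj (ModuleCat.of R M)) := by
  obtain ⟨-, ι, hι, hrange⟩ := H0_all fs (ModuleCat.of R M)
  classical
  have hfg : (Ideal.span {x | x ∈ fs}).FG := ⟨fs.toFinset, by congr 1; ext x; simp⟩
  have heq : LinearMap.range ι =
      DRing.torsionSub (Ideal.span {x | x ∈ fs}) (ModuleCat.of R M) := by
    ext m
    rw [hrange]
    constructor
    · intro h
      have hrad : Ideal.span {x | x ∈ fs} ≤ (Ideal.torsionOf R _ m).radical := by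
        rw [Ideal.span_le]
        intro g hg
        exact h g hg
      obtain ⟨k, hk⟩ := Ideal.exists_pow_le_of_le_radical_of_fg hrad hfg
      exact ⟨k, fun a ha => hk ha⟩
    · rintro ⟨n, hn⟩ g hg
      exact ⟨n, hn _ (Ideal.pow_mem_pow (Ideal.subset_span (show g ∈ {x | x ∈ fs} from hg)) n)⟩
  exact ⟨((LinearEquiv.ofInjective ι hι).trans (LinearEquiv.ofEq _ _ heq)).toModuleIso⟩

end Groth.Agent.Lib.ExtCechH7
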