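import Mathlib
import Groth.Prelude.Def_DerCA
import Groth.Agent.Lib.ExtCech2_helper7
import Groth.Agent.Lib.InjHull_helper3

/-!
# Extended Čech cohomology of injective modules over Noetherian rings vanishes in positive degrees
(helper7; S17778)
-/

open CategoryTheory CategoryTheory.Limits

namespace Groth.Agent.Lib.ExtCechH7

universe u

variable {R : Type u} [CommRing R]

/-- over a Noetherian ring, an injective module surjects onto its localisation at an element -/
lemma surjective_of_injective_module [IsNoetherianRing R] (f : R) {E N : Type u}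
    [AddCommGroup E] [Module R E] [AddCommGroup N] [Module R N] (hE : Module.Injective R E)
    (g : E →ₗ[R] N) [IsLocalizedModule (Submonoid.powers f) g] : Function.Surjective g := by
  intro z
  obtain ⟨⟨x, ⟨_, n, rfl⟩⟩, hx⟩ := IsLocalizedModule.surj (Submonoid.powers f) g z
  have hx' : f ^ n • z = g x := hx
  let I : ℕ →o Ideal R := ⟨fun k => LinearMap.ker (LinearMap.mulLeft R (f ^ k)), fun k k' hkk' r hr => by
    rw [LinearMap.mem_ker, LinearMap.mulLeft_apply] at hr ⊢
    obtain ⟨d, rfl⟩ := Nat.exists_eq_add_of_le hkk'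
    rw [pow_add, mul_comm (f ^ k), mul_assoc, hr, mul_zero]⟩
  obtain ⟨m, hm⟩ := monotone_stabilizes_iff_noetherian.mpr (inferInstance : IsNoetherian R R) I
  have hstab : I (m + n) ≤ I m := (hm (m + n) (Nat.le_add_right m n)).ge
  have hι : Function.Injective ((I (m + n)).liftQ (LinearMap.mulLeft R (f ^ (m + n))) le_rfl) :=
    LinearMap.ker_eq_bot.mp (Submodule.ker_liftQ_eq_bot _ _ _ le_rfl)
  have hψ : I (m + n) ≤ LinearMap.ker
      ((LinearMap.toSpanSingleton R E x) ∘ₗ (LinearMap.mulLeft R (f ^ m))) := by
    intro r hr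
    have h1 : f ^ m * r = 0 := by
      have := hstab hr
      rwa [show I m = LinearMap.ker (LinearMap.mulLeft R (f ^ m)) from rfl, LinearMap.mem_ker,
        LinearMap.mulLeft_apply] at this
    rw [LinearMap.mem_ker, LinearMap.comp_apply, LinearMap.mulLeft_apply, h1, map_zero]
  obtain ⟨χ, hχ⟩ := Module.Baer.extension_property (Module.Baer.of_injective hE)
    ((I (m + n)).liftQ (LinearMap.mulLeft R (f ^ (m + n))) le_rfl) hι
    ((I (m + n)).liftQ ((LinearMap.toSpanSingleton R E x) ∘ₗ (LinearMap.mulLeft R (f ^ m))) hψ)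
  have h1 : f ^ (m + n) • χ 1 = f ^ m • x := by
    have h2 := LinearMap.congr_fun hχ (Submodule.Quotient.mk 1)
    simp only [LinearMap.comp_apply, Submodule.liftQ_apply, LinearMap.mulLeft_apply, mul_one,
      LinearMap.toSpanSingleton_apply] at h2
    rw [← h2, ← map_smul, smul_eq_mul, mul_one]
  refine ⟨χ 1, ?_⟩
  apply IsLocalizedModule.smul_injective g (⟨f ^ (m + n), m + n, rfl⟩ : Submonoid.powers f)
  show f ^ (m + n) • g (χ 1) = f ^ (m + n) • z
  rw [← map_smul, h1, map_smul, ← hx', ← mul_smul, ← pow_add]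

section step

variable (f : R) (K : DRing.Cx R)

local notation "φf" => DerCA.locCxUnit (Submonoid.powers f) K

theorem P3g (q' q : ℤ) (h : q' + 1 = q) (h0 : Subsingleton (K.homology q))
    (h1 : Function.Surjective (mapH φf q')) : Subsingleton ((cc f K).homology q) := by
  have key : ∀ x : (cc f K).homology q, x = 0 := by
    intro x
    obtain ⟨z, hz⟩ := exists_δH_eq φf q' q h x (Subsingleton.elim _ _)
    obtain ⟨w, hw⟩ := h1 z
    rw [← hz, ← hw, δH_mapH]
  exact ⟨fun x x' => by rw [key x, key x']⟩

lemma range_eq_Γ :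
    LinearMap.range (fstH φf 0) =
      Groth.Agent.Lib.InjHull_helper3.Γ (Ideal.span {f}) (K.homology 0) := by
  ext y
  rw [P4_range, Groth.Agent.Lib.InjHull_helper3.mem_Γ_iff]
  constructor
  · rintro ⟨n, hn⟩
    refine ⟨n, fun a ha => ?_⟩
    rw [Ideal.span_singleton_pow, Ideal.mem_span_singleton'] at ha
    obtain ⟨c, rfl⟩ := ha
    rw [mul_smul, hn, smul_zero]
  · rintro ⟨n, hn⟩
    exact ⟨n, hn _ (Ideal.pow_mem_pow (Ideal.mem_span_singleton_self f) n)⟩

theorem inj_step [IsNoetherianRing R] (hK : ∀ q : ℤ, q ≠ 0 → Subsingleton (K.homology q))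
    (hinj : Module.Injective R (K.homology 0)) :
    (∀ q : ℤ, q ≠ 0 → Subsingleton ((cc f K).homology q)) ∧
      Module.Injective R ((cc f K).homology 0) := by
  constructor
  · intro q hq
    by_cases hq1 : q = 1
    · subst hq1
      exact P3g f K 0 1 (by norm_num) (hK 1 (by norm_num))
        (surjective_of_injective_module f hinj (mapH φf 0))
    · exact P3' f K q (hK q hq) (hK (q - 1) (by omega))
  · have hfi : Function.Injective (fstH φf 0) :=
      P4_injective f K 0 (hK (0 - 1) (by norm_num))
    have e : (cc f K).homology 0 ≃ₗ[R]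
        Groth.Agent.Lib.InjHull_helper3.Γ (Ideal.span {f}) (K.homology 0) :=
      (LinearEquiv.ofInjective (fstH φf 0) hfi).trans (LinearEquiv.ofEq _ _ (range_eq_Γ f K))
    have hΓ := Groth.Agent.Lib.InjHull_helper3.injective_Γ hinj (Ideal.span {f})
    exact Module.Baer.injective (Module.Baer.of_equiv e.symm (Module.Baer.of_injective hΓ))

end step

theorem inj_all [IsNoetherianRing R] (fs : List R) (E : ModuleCat.{u} R)
    (hE : Module.Injective R E) :
    (∀ q : ℤ, q ≠ 0 → Subsingleton (DerCA.extCechH fs E q)) ∧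
      Module.Injective R (DerCA.extCechH fs E 0) := by
  induction fs with
  | nil =>
    constructor
    · intro q hq
      exact ModuleCat.subsingleton_of_isZero
        (HomologicalComplex.isZero_single_obj_homology (ComplexShape.up ℤ) 0 E q hq)
    · exact Module.Baer.injective (Module.Baer.of_equiv
        (HomologicalComplex.singleObjHomologySelfIso (ComplexShape.up ℤ) 0 E).toLinearEquiv.symm
        (Module.Baer.of_injective hE))
  | cons f fs ih =>
    exact inj_step f (DerCA.extCech E fs) ih.1 ih.2

theorem S17778_main [IsNoetherianRing R] (fs : List R) (E : Type u) [AddCommGroup E] [Module R E]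
    [Module.Injective R E] (q : ℤ) (hq : 1 ≤ q) :
    IsZero (DerCA.extCechH fs (ModuleCat.of R E) q) := by
  haveI := (inj_all fs (ModuleCat.of R E) (inferInstanceAs (Module.Injective R E))).1 q (by omega)
  exact ModuleCat.isZero_of_subsingleton _

end Groth.Agent.Lib.ExtCechH7
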