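import Mathlib
import Groth.Prelude.Def_DerCA
import Groth.Agent.Lib.ExtCech_helper7
import Groth.Agent.Lib.ExtCech2_helper7
import Groth.Agent.Lib.ExtCech3_helper7
import Groth.Agent.Lib.LocCohInjAcyc_helper7
import Groth.Agent.Lib.LocCohDeltaZero_helper7

/-!
# Functoriality of the extended Čech complex in the module, the long exact sequence, and the
comparison with local cohomology (helper7)
-/

set_option autoImplicit false

open CategoryTheory CategoryTheory.Limits CochainComplex HomComplex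

namespace Groth.Agent.Lib.ExtCechH7

universe u
variable {R : Type u} [CommRing R]

section cone

variable {K₁ L₁ K₂ L₂ : DRing.Cx R} (φ₁ : K₁ ⟶ L₁) (φ₂ : K₂ ⟶ L₂)
  (a : K₁ ⟶ K₂) (b : L₁ ⟶ L₂) (comm : φ₁ ≫ b = a ≫ φ₂)

lemma coneMap_fst (n m : ℤ) (h : n + 1 = m) :
    (mappingCone.map φ₁ φ₂ a b comm).f n ≫ (mappingCone.fst φ₂).1.v n m h =
      (mappingCone.fst φ₁).1.v n m h ≫ a.f m := by
  apply mappingCone.ext_from φ₁ m n h
  · simp [mappingCone.map]
  · simp [mappingCone.map]

lemma coneMap_snd (n : ℤ) :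
    (mappingCone.map φ₁ φ₂ a b comm).f n ≫ (mappingCone.snd φ₂).v n n (add_zero n) =
      (mappingCone.snd φ₁).v n n (add_zero n) ≫ b.f n := by
  apply mappingCone.ext_from φ₁ (n + 1) n rfl
  · simp [mappingCone.map]
  · simp [mappingCone.map]

lemma coneMap_fst_apply (n m : ℤ) (h : n + 1 = m) (x : (mappingCone φ₁).X n) :
    ((mappingCone.fst φ₂).1.v n m h).hom (((mappingCone.map φ₁ φ₂ a b comm).f n).hom x) =
      (a.f m).hom (((mappingCone.fst φ₁).1.v n m h).hom x) :=
  congrArg (fun g => g.hom x) (coneMap_fst φ₁ φ₂ a b comm n m h)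

lemma coneMap_snd_apply (n : ℤ) (x : (mappingCone φ₁).X n) :
    ((mappingCone.snd φ₂).v n n (add_zero n)).hom (((mappingCone.map φ₁ φ₂ a b comm).f n).hom x) =
      (b.f n).hom (((mappingCone.snd φ₁).v n n (add_zero n)).hom x) :=
  congrArg (fun g => g.hom x) (coneMap_snd φ₁ φ₂ a b comm n)

end cone

section coneElem

variable {K L : DRing.Cx R} (φ : K ⟶ L)

lemma cone_decomp (n m : ℤ) (h : n + 1 = m) (x : (mappingCone φ).X n) :
    x = ((mappingCone.inl φ).v m n (by omega)).hom (((mappingCone.fst φ).1.v n m h).hom x) +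
      ((mappingCone.inr φ).f n).hom (((mappingCone.snd φ).v n n (add_zero n)).hom x) := by
  have h1 := congrArg (fun g => g.hom x) (mappingCone.id_X φ n m h)
  exact h1.symm

lemma cone_ext (n m : ℤ) (h : n + 1 = m) (x y : (mappingCone φ).X n)
    (h1 : ((mappingCone.fst φ).1.v n m h).hom x = ((mappingCone.fst φ).1.v n m h).hom y)
    (h2 : ((mappingCone.snd φ).v n n (add_zero n)).hom x =
      ((mappingCone.snd φ).v n n (add_zero n)).hom y) :
    x = y := by
  calc x = _ := cone_decomp φ n m h x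
    _ = _ := by rw [h1, h2]
    _ = y := (cone_decomp φ n m h y).symm

lemma cone_mk (n m : ℤ) (h : n + 1 = m) (k : K.X m) (l : L.X n) :
    ∃ x : (mappingCone φ).X n, ((mappingCone.fst φ).1.v n m h).hom x = k ∧
      ((mappingCone.snd φ).v n n (add_zero n)).hom x = l := by
  refine ⟨((mappingCone.inl φ).v m n (by omega)).hom k + ((mappingCone.inr φ).f n).hom l, ?_, ?_⟩
  · have e1 : ((mappingCone.fst φ).1.v n m h).hom (((mappingCone.inl φ).v m n (by omega)).hom k) = k :=
      congrArg (fun g => g.hom k) (mappingCone.inl_v_fst_v φ m n h)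
    have e2 : ((mappingCone.fst φ).1.v n m h).hom (((mappingCone.inr φ).f n).hom l) = 0 :=
      congrArg (fun g => g.hom l) (mappingCone.inr_f_fst_v φ n m h)
    rw [map_add, e1, e2, add_zero]
  · have e1 : ((mappingCone.snd φ).v n n (add_zero n)).hom
        (((mappingCone.inl φ).v m n (by omega)).hom k) = 0 :=
      congrArg (fun g => g.hom k) (mappingCone.inl_v_snd_v φ m n (by omega))
    have e2 : ((mappingCone.snd φ).v n n (add_zero n)).hom (((mappingCone.inr φ).f n).hom l) = l :=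
      congrArg (fun g => g.hom l) (mappingCone.inr_f_snd_v φ n)
    rw [map_add, e1, e2, zero_add]

end coneElem

section coneExact

variable {K₁ K₂ K₃ L₁ L₂ L₃ : DRing.Cx R} (φ₁ : K₁ ⟶ L₁) (φ₂ : K₂ ⟶ L₂) (φ₃ : K₃ ⟶ L₃)
  (a : K₁ ⟶ K₂) (a' : K₂ ⟶ K₃) (b : L₁ ⟶ L₂) (b' : L₂ ⟶ L₃)
  (c : φ₁ ≫ b = a ≫ φ₂) (c' : φ₂ ≫ b' = a' ≫ φ₃)

lemma coneMap_comp_zero (ha : a ≫ a' = 0) (hb : b ≫ b' = 0) :
    mappingCone.map φ₁ φ₂ a b c ≫ mappingCone.map φ₂ φ₃ a' b' c' = 0 := by
  apply HomologicalComplex.hom_ext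
  intro n
  apply mappingCone.ext_to φ₃ n (n + 1) rfl
  · simp only [HomologicalComplex.comp_f, HomologicalComplex.zero_f, Category.assoc, zero_comp]
    rw [coneMap_fst, ← Category.assoc, coneMap_fst, Category.assoc, ← HomologicalComplex.comp_f, ha,
      HomologicalComplex.zero_f, comp_zero]
  · simp only [HomologicalComplex.comp_f, HomologicalComplex.zero_f, Category.assoc, zero_comp]
    rw [coneMap_snd, ← Category.assoc, coneMap_snd, Category.assoc, ← HomologicalComplex.comp_f, hb,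
      HomologicalComplex.zero_f, comp_zero]

theorem cone_exact (n m : ℤ) (h : n + 1 = m)
    (ha : Function.Injective (a.f m).hom) (hb : Function.Injective (b.f n).hom)
    (ha' : Function.Surjective (a'.f m).hom) (hb' : Function.Surjective (b'.f n).hom)
    (hae : Function.Exact (a.f m).hom (a'.f m).hom)
    (hbe : Function.Exact (b.f n).hom (b'.f n).hom) :
    Function.Injective ((mappingCone.map φ₁ φ₂ a b c).f n).hom ∧
    Function.Surjective ((mappingCone.map φ₂ φ₃ a' b' c').f n).hom ∧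
    Function.Exact ((mappingCone.map φ₁ φ₂ a b c).f n).hom
      ((mappingCone.map φ₂ φ₃ a' b' c').f n).hom := by
  refine ⟨?_, ?_, ?_⟩
  · intro x y hxy
    apply cone_ext φ₁ n m h
    · apply ha
      rw [← coneMap_fst_apply φ₁ φ₂ a b c n m h, ← coneMap_fst_apply φ₁ φ₂ a b c n m h, hxy]
    · apply hb
      rw [← coneMap_snd_apply φ₁ φ₂ a b c n, ← coneMap_snd_apply φ₁ φ₂ a b c n, hxy]
  · intro z
    obtain ⟨k, hk⟩ := ha' (((mappingCone.fst φ₃).1.v n m h).hom z)
    obtain ⟨l, hl⟩ := hb' (((mappingCone.snd φ₃).v n n (add_zero n)).hom z)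
    obtain ⟨x, hx1, hx2⟩ := cone_mk φ₂ n m h k l
    refine ⟨x, cone_ext φ₃ n m h _ _ ?_ ?_⟩
    · rw [coneMap_fst_apply φ₂ φ₃ a' b' c' n m h, hx1, hk]
    · rw [coneMap_snd_apply φ₂ φ₃ a' b' c' n, hx2, hl]
  · intro y
    constructor
    · intro hy
      have h1 : (a'.f m).hom (((mappingCone.fst φ₂).1.v n m h).hom y) = 0 := by
        rw [← coneMap_fst_apply φ₂ φ₃ a' b' c' n m h, hy, map_zero]
      have h2 : (b'.f n).hom (((mappingCone.snd φ₂).v n n (add_zero n)).hom y) = 0 := by
        rw [← coneMap_snd_apply φ₂ φ₃ a' b' c' n, hy, map_zero]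
      obtain ⟨k, hk⟩ := (hae _).1 h1
      obtain ⟨l, hl⟩ := (hbe _).1 h2
      obtain ⟨x, hx1, hx2⟩ := cone_mk φ₁ n m h k l
      refine ⟨x, cone_ext φ₂ n m h _ _ ?_ ?_⟩
      · rw [coneMap_fst_apply φ₁ φ₂ a b c n m h, hx1, hk]
      · rw [coneMap_snd_apply φ₁ φ₂ a b c n, hx2, hl]
    · rintro ⟨x, rfl⟩
      apply cone_ext φ₃ n m h
      · rw [coneMap_fst_apply φ₂ φ₃ a' b' c' n m h, coneMap_fst_apply φ₁ φ₂ a b c n m h, map_zero]
        exact hae.apply_apply_eq_zero _
      · rw [coneMap_snd_apply φ₂ φ₃ a' b' c' n, coneMap_snd_apply φ₁ φ₂ a b c n, map_zero]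
        exact hbe.apply_apply_eq_zero _

end coneExact

section cocone

set_option backward.defeqAttrib.useBackward true in
set_option backward.isDefEq.respectTransparency false in
lemma cocone_fst_f {K L : DRing.Cx R} (φ : K ⟶ L) (p : ℤ) :
    (mappingCocone.fst φ).f p = (mappingCone.fst φ).1.v (p + -1) p (by omega) := by
  simp [mappingCocone.fst, Cochain.leftShift_v (n := 1) _ _ _ _ _ p _ (p + -1) (by lia)]

lemma locCxUnit_nat (S : Submonoid R) {K K' : DRing.Cx R} (a : K ⟶ K') :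
    DerCA.locCxUnit S K ≫ (DerCA.locCx S).map a = a ≫ DerCA.locCxUnit S K' := by
  apply HomologicalComplex.hom_ext
  intro i
  exact ((DerCA.locUnit S).naturality (a.f i)).symm

/-- functoriality of `cc f` -/
noncomputable def ccMap (f : R) {K K' : DRing.Cx R} (a : K ⟶ K') : cc f K ⟶ cc f K' :=
  (CategoryTheory.shiftFunctor (DRing.Cx R) (-1 : ℤ)).map
    (mappingCone.map _ _ a ((DerCA.locCx (Submonoid.powers f)).map a) (locCxUnit_nat _ a))

lemma ccMap_fst (f : R) {K K' : DRing.Cx R} (a : K ⟶ K') :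
    ccMap f a ≫ mappingCocone.fst (DerCA.locCxUnit (Submonoid.powers f) K') =
      mappingCocone.fst (DerCA.locCxUnit (Submonoid.powers f) K) ≫ a := by
  apply HomologicalComplex.hom_ext
  intro p
  rw [HomologicalComplex.comp_f, HomologicalComplex.comp_f, cocone_fst_f, cocone_fst_f]
  exact coneMap_fst _ _ a _ (locCxUnit_nat _ a) (p + -1) p (by omega)

lemma ccMap_comp_zero (f : R) {K K' K'' : DRing.Cx R} (a : K ⟶ K') (a' : K' ⟶ K'')
    (h : a ≫ a' = 0) : ccMap f a ≫ ccMap f a' = 0 := by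
  apply HomologicalComplex.hom_ext
  intro p
  have h0 := coneMap_comp_zero _ _ _ a a' _ _ (locCxUnit_nat (Submonoid.powers f) a)
    (locCxUnit_nat (Submonoid.powers f) a') h (by rw [← Functor.map_comp, h, Functor.map_zero])
  have h1 := congrArg (fun g => g.f (p + -1)) h0
  exact h1

/-- `cc f` applied to a short complex of complexes -/
noncomputable def ccSC (f : R) (T : ShortComplex (DRing.Cx R)) : ShortComplex (DRing.Cx R) :=
  ShortComplex.mk (ccMap f T.f) (ccMap f T.g) (ccMap_comp_zero f T.f T.g T.zero)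

theorem ccSC_shortExact (f : R) (T : ShortComplex (DRing.Cx R)) (hT : T.ShortExact) :
    (ccSC f T).ShortExact := by
  apply HomologicalComplex.shortExact_of_degreewise_shortExact
  intro p
  have hm := hT.map_of_exact (HomologicalComplex.eval (ModuleCat.{u} R) (ComplexShape.up ℤ) p)
  have hn := hT.map_of_exact
    (HomologicalComplex.eval (ModuleCat.{u} R) (ComplexShape.up ℤ) (p + -1))
  have ha : Function.Injective (T.f.f p).hom := (ModuleCat.mono_iff_injective _).1 hm.mono_f
  have ha' : Function.Surjective (T.g.f p).hom := (ModuleCat.epi_iff_surjective _).1 hm.epi_g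
  have hae : Function.Exact (T.f.f p).hom (T.g.f p).hom :=
    (ShortComplex.ShortExact.moduleCat_exact_iff_function_exact _).1 hm.exact
  have hb0 : Function.Injective (T.f.f (p + -1)).hom :=
    (ModuleCat.mono_iff_injective _).1 hn.mono_f
  have hb0' : Function.Surjective (T.g.f (p + -1)).hom :=
    (ModuleCat.epi_iff_surjective _).1 hn.epi_g
  have hbe0 : Function.Exact (T.f.f (p + -1)).hom (T.g.f (p + -1)).hom :=
    (ShortComplex.ShortExact.moduleCat_exact_iff_function_exact _).1 hn.exact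
  have hb : Function.Injective (((DerCA.locCx (Submonoid.powers f)).map T.f).f (p + -1)).hom :=
    IsLocalizedModule.map_injective (Submonoid.powers f) (LocalizedModule.mkLinearMap _ _)
      (LocalizedModule.mkLinearMap _ _) _ hb0
  have hb' : Function.Surjective (((DerCA.locCx (Submonoid.powers f)).map T.g).f (p + -1)).hom :=
    IsLocalizedModule.map_surjective (Submonoid.powers f) (LocalizedModule.mkLinearMap _ _)
      (LocalizedModule.mkLinearMap _ _) _ hb0'
  have hbe : Function.Exact (((DerCA.locCx (Submonoid.powers f)).map T.f).f (p + -1)).hom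
      (((DerCA.locCx (Submonoid.powers f)).map T.g).f (p + -1)).hom :=
    LocalizedModule.map_exact (Submonoid.powers f) _ _ hbe0
  obtain ⟨h1, h2, h3⟩ := cone_exact _ _ _ T.f T.g _ _
    (locCxUnit_nat (Submonoid.powers f) T.f) (locCxUnit_nat (Submonoid.powers f) T.g)
    (p + -1) p (by omega) ha hb ha' hb' hae hbe
  exact
    { exact := (ShortComplex.ShortExact.moduleCat_exact_iff_function_exact _).2 h3
      mono_f := (ModuleCat.mono_iff_injective _).2 h1
      epi_g := (ModuleCat.epi_iff_surjective _).2 h2 }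

end cocone

section functorial

/-- the map of extended Čech complexes induced by a module map -/
noncomputable def extCechMap {M N : ModuleCat.{u} R} (g : M ⟶ N) :
    (fs : List R) → (DerCA.extCech M fs ⟶ DerCA.extCech N fs)
  | [] => (HomologicalComplex.single (ModuleCat.{u} R) (ComplexShape.up ℤ) 0).map g
  | f :: fs => ccMap f (extCechMap g fs)

lemma extCechMap_comp_zero {M N P : ModuleCat.{u} R} (g : M ⟶ N) (g' : N ⟶ P) (h : g ≫ g' = 0) :
    ∀ fs : List R, extCechMap g fs ≫ extCechMap g' fs = 0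
  | [] => by
    show (HomologicalComplex.single (ModuleCat.{u} R) (ComplexShape.up ℤ) 0).map g ≫
      (HomologicalComplex.single (ModuleCat.{u} R) (ComplexShape.up ℤ) 0).map g' = 0
    rw [← Functor.map_comp, h, Functor.map_zero]
  | f :: fs => ccMap_comp_zero f _ _ (extCechMap_comp_zero g g' h fs)

/-- the short complex of extended Čech complexes -/
noncomputable def cechSC (S : ShortComplex (ModuleCat.{u} R)) (fs : List R) :
    ShortComplex (DRing.Cx R) :=
  ShortComplex.mk (extCechMap S.f fs) (extCechMap S.g fs) (extCechMap_comp_zero S.f S.g S.zero fs)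

theorem cechSC_shortExact (S : ShortComplex (ModuleCat.{u} R)) (hS : S.ShortExact) :
    ∀ fs : List R, (cechSC S fs).ShortExact
  | [] => hS.map_of_exact (HomologicalComplex.single (ModuleCat.{u} R) (ComplexShape.up ℤ) 0)
  | f :: fs => ccSC_shortExact f (cechSC S fs) (cechSC_shortExact S hS fs)

/-- the canonical map `H^0(extCech M fs) → M` -/
noncomputable def ιH : (fs : List R) → (M : ModuleCat.{u} R) → (DerCA.extCechH fs M 0 →ₗ[R] M)
  | [], M => (HomologicalComplex.singleObjHomologySelfIso (ComplexShape.up ℤ) 0 M).hom.hom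
  | f :: fs, M =>
    (ιH fs M).comp (fstH (DerCA.locCxUnit (Submonoid.powers f) (DerCA.extCech M fs)) 0)

theorem ιH_nat {M N : ModuleCat.{u} R} (g : M ⟶ N) :
    ∀ (fs : List R) (x : DerCA.extCechH fs M 0),
      ιH fs N ((HomologicalComplex.homologyMap (extCechMap g fs) 0).hom x) = g.hom (ιH fs M x)
  | [], x => by
    have h := HomologicalComplex.singleObjHomologySelfIso_hom_naturality (ComplexShape.up ℤ) 0 g
    exact congrArg (fun φ => φ.hom x) h
  | f :: fs, x => by
    have h1 := congrArg (fun φ : cc f (DerCA.extCech M fs) ⟶ DerCA.extCech N fs =>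
      (HomologicalComplex.homologyMap φ 0).hom x) (ccMap_fst f (extCechMap g fs))
    simp only [HomologicalComplex.homologyMap_comp] at h1
    show ιH fs N (fstH _ 0
      ((HomologicalComplex.homologyMap (ccMap f (extCechMap g fs)) 0).hom x)) =
        g.hom (ιH fs M (fstH _ 0 x))
    rw [← ιH_nat g fs]
    exact congrArg (ιH fs N) h1

theorem H0_step' (f : R) (K : DRing.Cx R) {M : Type u} [AddCommGroup M] [Module R M]
    (P : M → Prop) (hneg : ∀ q : ℤ, q < 0 → Subsingleton (K.homology q))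
    (ι : K.homology 0 →ₗ[R] M) (hι : Function.Injective ι)
    (hrange : ∀ m : M, m ∈ LinearMap.range ι ↔ P m) :
    (∀ q : ℤ, q < 0 → Subsingleton ((cc f K).homology q)) ∧
    Function.Injective (ι ∘ₗ fstH (DerCA.locCxUnit (Submonoid.powers f) K) 0) ∧
      ∀ m : M, m ∈ LinearMap.range (ι ∘ₗ fstH (DerCA.locCxUnit (Submonoid.powers f) K) 0) ↔
        ((∃ n : ℕ, f ^ n • m = 0) ∧ P m) := by
  refine ⟨fun q hq => P3' f K q (hneg q hq) (hneg (q - 1) (by omega)),
    hι.comp (P4_injective f K 0 (hneg (0 - 1) (by omega))), fun m => ?_⟩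
  constructor
  · rintro ⟨x, rfl⟩
    obtain ⟨n, hn⟩ := (P4_range f K 0 (fstH _ 0 x)).mp ⟨x, rfl⟩
    refine ⟨⟨n, ?_⟩, (hrange _).mp ⟨_, rfl⟩⟩
    rw [LinearMap.comp_apply, ← map_smul, hn, map_zero]
  · rintro ⟨⟨n, hn⟩, hP⟩
    obtain ⟨y, rfl⟩ := (hrange m).mpr hP
    have hy : f ^ n • y = 0 := hι (by rw [map_smul, hn, map_zero])
    obtain ⟨x, hx⟩ := (P4_range f K 0 y).mpr ⟨n, hy⟩
    exact ⟨x, by rw [LinearMap.comp_apply, hx]⟩

theorem H0_all' : ∀ (fs : List R) (M : ModuleCat.{u} R),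
    (∀ q : ℤ, q < 0 → Subsingleton (DerCA.extCechH fs M q)) ∧
    Function.Injective (ιH fs M) ∧
      ∀ m : M, m ∈ LinearMap.range (ιH fs M) ↔ ∀ g ∈ fs, ∃ n : ℕ, g ^ n • m = 0
  | [], M => by
    refine ⟨fun q hq => ?_,
      (HomologicalComplex.singleObjHomologySelfIso (ComplexShape.up ℤ) 0 M).toLinearEquiv.injective,
      fun m => ⟨fun _ g hg => by simp at hg, fun _ => ?_⟩⟩
    · exact ModuleCat.subsingleton_of_isZero
        (HomologicalComplex.isZero_single_obj_homology (ComplexShape.up ℤ) 0 M q (by omega))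
    · exact ⟨(HomologicalComplex.singleObjHomologySelfIso (ComplexShape.up ℤ) 0 M).toLinearEquiv.symm m,
        LinearEquiv.apply_symm_apply
          (HomologicalComplex.singleObjHomologySelfIso (ComplexShape.up ℤ) 0 M).toLinearEquiv m⟩
  | f :: fs, M => by
    obtain ⟨hneg, hι, hrange⟩ := H0_all' fs M
    obtain ⟨h1, hι', hrange'⟩ := H0_step' f (DerCA.extCech M fs)
      (fun m : M => ∀ g ∈ fs, ∃ n : ℕ, g ^ n • m = 0) hneg (ιH fs M) hι hrange
    refine ⟨h1, hι', fun m => ?_⟩
    rw [List.forall_mem_cons]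
    exact hrange' m

end functorial

section main

open Groth.Agent.Lib.InjHull_helper3 Groth.Agent.DepthLib

theorem equiv_of_surj_same_ker {A B C : Type*} [AddCommGroup A] [Module R A] [AddCommGroup B]
    [Module R B] [AddCommGroup C] [Module R C]
    (f : A →ₗ[R] B) (g : A →ₗ[R] C) (hf : Function.Surjective f) (hg : Function.Surjective g)
    (h : ∀ a, f a = 0 ↔ g a = 0) : Nonempty (B ≃ₗ[R] C) := by
  have hk : LinearMap.ker f = LinearMap.ker g := by
    ext a
    simp only [LinearMap.mem_ker]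
    exact h a
  exact ⟨(f.quotKerEquivOfSurjective hf).symm.trans
    ((Submodule.quotEquivOfEq _ _ hk).trans (g.quotKerEquivOfSurjective hg))⟩

lemma mem_Γ_span_iff (fs : List R) (M : Type u) [AddCommGroup M] [Module R M] (m : M) :
    (∀ g ∈ fs, ∃ n : ℕ, g ^ n • m = 0) ↔ m ∈ Γ (Ideal.span {x | x ∈ fs}) M := by
  classical
  have hfg : (Ideal.span {x | x ∈ fs}).FG := ⟨fs.toFinset, by congr 1; ext x; simp⟩
  rw [mem_Γ_iff]
  constructor
  · intro h
    have hrad : Ideal.span {x | x ∈ fs} ≤ (Ideal.torsionOf R M m).radical := by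
      rw [Ideal.span_le]
      intro g hg
      exact h g hg
    obtain ⟨k, hk⟩ := Ideal.exists_pow_le_of_le_radical_of_fg hrad hfg
    exact ⟨k, fun a ha => hk ha⟩
  · rintro ⟨n, hn⟩ g hg
    exact ⟨n, hn _ (Ideal.pow_mem_pow (Ideal.subset_span (show g ∈ {x | x ∈ fs} from hg)) n)⟩

/-- `H^0` of the extended Čech complex is the torsion submodule -/
noncomputable def e0 (fs : List R) (M : Type u) [AddCommGroup M] [Module R M] :
    DerCA.extCechH fs (ModuleCat.of R M) 0 ≃ₗ[R] ↥(Γ (Ideal.span {x | x ∈ fs}) M) :=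
  (LinearEquiv.ofInjective (ιH fs (ModuleCat.of R M)) (H0_all' fs _).2.1).trans
    (LinearEquiv.ofEq _ _ (by
      ext m
      rw [(H0_all' fs (ModuleCat.of R M)).2.2 m]
      exact mem_Γ_span_iff fs M m))

lemma e0_coe (fs : List R) (M : Type u) [AddCommGroup M] [Module R M]
    (x : DerCA.extCechH fs (ModuleCat.of R M) 0) :
    ((e0 fs M x : ↥(Γ (Ideal.span {x | x ∈ fs}) M)) : M) = ιH fs (ModuleCat.of R M) x := rfl

variable [IsNoetherianRing R]

theorem deg_one (fs : List R) (M : Type u) [AddCommGroup M] [Module R M] :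
    Nonempty (DerCA.extCechH fs (ModuleCat.of R M) 1 ≃ₗ[R]
      LocCoh.H (Ideal.span {x | x ∈ fs}) 1 M) := by
  obtain ⟨E, _, _, j, hE, hj⟩ := LocCohCdSupH7.exists_injective_embedding (R := R) M
  haveI := hE
  let T : Submodule R E := LinearMap.range j
  have hex : Function.Exact j T.mkQ := LinearMap.exact_map_mkQ_range j
  have hsurj : Function.Surjective T.mkQ := Submodule.mkQ_surjective T
  let S := shortComplexOf j T.mkQ hex
  have hS : S.ShortExact := shortComplexOf_shortExact j T.mkQ hj hsurj hex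
  have hC := cechSC_shortExact S hS fs
  let dl : DerCA.extCechH fs (ModuleCat.of R (E ⧸ T)) 0 →ₗ[R] DerCA.extCechH fs (ModuleCat.of R M) 1 :=
    (hC.δ 0 1 rfl).hom
  have hdsurj : Function.Surjective dl := by
    have hz : IsZero (DerCA.extCechH fs (ModuleCat.of R E) 1) := S17778_main fs E 1 le_rfl
    haveI : Epi (hC.δ 0 1 rfl) := hC.epi_δ 0 1 rfl hz
    exact (ModuleCat.epi_iff_surjective _).1 inferInstance
  have hdker : ∀ z, dl z = 0 ↔
      ∃ y, (HomologicalComplex.homologyMap (extCechMap S.g fs) 0).hom y = z := by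
    have h3 := (ShortComplex.ShortExact.moduleCat_exact_iff_function_exact _).1
      (hC.homology_exact₃ 0 1 rfl)
    intro z
    exact h3 z
  let ψ : ↥(Γ (Ideal.span {x | x ∈ fs}) (E ⧸ T)) →ₗ[R] DerCA.extCechH fs (ModuleCat.of R M) 1 :=
    dl ∘ₗ (e0 fs (E ⧸ T)).symm.toLinearMap
  have hψsurj : Function.Surjective ψ := hdsurj.comp (e0 fs (E ⧸ T)).symm.surjective
  have hE1 : Subsingleton (LocCoh.H (Ideal.span {x | x ∈ fs}) 1 E) :=
    LocCohInjAcycH7.main (R' := R) (Ideal.span {x | x ∈ fs}) E 1 one_pos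
  have hcsurj := LocCohDeltaZeroH7.cMap_surjective (Ideal.span {x | x ∈ fs}) j T.mkQ hj hsurj hex hE1
  have hker : ∀ q, ψ q = 0 ↔
      LocCohDeltaZeroH7.cMap (Ideal.span {x | x ∈ fs}) j T.mkQ hj hsurj hex q = 0 := by
    intro q
    rw [LocCohDeltaZeroH7.cMap_eq_zero_iff]
    show dl ((e0 fs (E ⧸ T)).symm q) = 0 ↔ _
    rw [hdker]
    have h2 : ιH fs (ModuleCat.of R (E ⧸ T)) ((e0 fs (E ⧸ T)).symm q) = q.1 :=
      congrArg Subtype.val ((e0 fs (E ⧸ T)).apply_symm_apply q)
    constructor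
    · rintro ⟨y, hy⟩
      refine ⟨ιH fs (ModuleCat.of R E) y, ?_, ?_⟩
      · rw [← mem_Γ_span_iff, ← (H0_all' fs (ModuleCat.of R E)).2.2]
        exact ⟨y, rfl⟩
      · have h1 := ιH_nat S.g fs y
        rw [hy] at h1
        exact h1.symm.trans h2
    · rintro ⟨e, he, hq⟩
      obtain ⟨y, hy⟩ : e ∈ LinearMap.range (ιH fs (ModuleCat.of R E)) := by
        rw [(H0_all' fs (ModuleCat.of R E)).2.2, mem_Γ_span_iff]
        exact he
      refine ⟨y, ?_⟩
      apply (e0 fs (E ⧸ T)).injective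
      rw [LinearEquiv.apply_symm_apply]
      apply Subtype.ext
      rw [e0_coe]
      have h1 : ιH fs (ModuleCat.of R (E ⧸ T))
          ((HomologicalComplex.homologyMap (extCechMap S.g fs) 0).hom y) =
            T.mkQ (ιH fs (ModuleCat.of R E) y) := ιH_nat S.g fs y
      rw [hy] at h1
      exact h1.trans hq
  exact equiv_of_surj_same_ker ψ _ hψsurj hcsurj hker

theorem deg_succ (fs : List R) (p : ℕ)
    (ih : ∀ (M : Type u) [AddCommGroup M] [Module R M],
      Nonempty (DerCA.extCechH fs (ModuleCat.of R M) ((p + 1 : ℕ) : ℤ) ≃ₗ[R]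
        LocCoh.H (Ideal.span {x | x ∈ fs}) (p + 1) M))
    (M : Type u) [AddCommGroup M] [Module R M] :
    Nonempty (DerCA.extCechH fs (ModuleCat.of R M) ((p + 1 + 1 : ℕ) : ℤ) ≃ₗ[R]
      LocCoh.H (Ideal.span {x | x ∈ fs}) (p + 1 + 1) M) := by
  obtain ⟨E, _, _, j, hE, hj⟩ := LocCohCdSupH7.exists_injective_embedding (R := R) M
  haveI := hE
  let T : Submodule R E := LinearMap.range j
  have hex : Function.Exact j T.mkQ := LinearMap.exact_map_mkQ_range j
  have hsurj : Function.Surjective T.mkQ := Submodule.mkQ_surjective T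
  let S := shortComplexOf j T.mkQ hex
  have hS : S.ShortExact := shortComplexOf_shortExact j T.mkQ hj hsurj hex
  have hC := cechSC_shortExact S hS fs
  have hrel : (ComplexShape.up ℤ).Rel ((p + 1 : ℕ) : ℤ) ((p + 1 + 1 : ℕ) : ℤ) := by
    show ((p + 1 : ℕ) : ℤ) + 1 = ((p + 1 + 1 : ℕ) : ℤ)
    push_cast
    ring
  have hz1 : IsZero ((cechSC S fs).X₂.homology ((p + 1 : ℕ) : ℤ)) :=
    S17778_main fs E ((p + 1 : ℕ) : ℤ) (by omega)
  have hz2 : IsZero ((cechSC S fs).X₂.homology ((p + 1 + 1 : ℕ) : ℤ)) :=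
    S17778_main fs E ((p + 1 + 1 : ℕ) : ℤ) (by omega)
  let e1 := (hC.δIso _ _ hrel hz1 hz2).toLinearEquiv
  obtain ⟨e2⟩ := ih (E ⧸ T)
  have hb := LocCohDeltaZeroH7.δ_bijective (Ideal.span {x | x ∈ fs}) hS p
    (LocCohInjAcycH7.main (R' := R) (Ideal.span {x | x ∈ fs}) E (p + 1) (Nat.succ_pos p))
    (LocCohInjAcycH7.main (R' := R) (Ideal.span {x | x ∈ fs}) E (p + 2) (Nat.succ_pos _))
  let e3 := LinearEquiv.ofBijective (LocCohLESH7.δ (Ideal.span {x | x ∈ fs}) hS p).hom hb
  exact ⟨e1.symm.trans (e2.trans e3)⟩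

theorem mainEquiv (fs : List R) (i : ℕ) :
    ∀ (M : Type u) [AddCommGroup M] [Module R M],
      Nonempty (DerCA.extCechH fs (ModuleCat.of R M) (i : ℤ) ≃ₗ[R]
        LocCoh.H (Ideal.span {x | x ∈ fs}) i M) := by
  induction i with
  | zero =>
    intro M _ _
    obtain ⟨e⟩ := LocCohDeltaZeroH7.H0_equiv' (Ideal.span {x | x ∈ fs}) M
    exact ⟨(e0 fs M).trans e.symm⟩
  | succ p ih =>
    intro M _ _
    cases p with
    | zero => exact deg_one fs M
    | succ p => exact deg_succ fs p ih M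

end main

end Groth.Agent.Lib.ExtCechH7
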