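import Mathlib
import Groth.Prelude.Def_ega3

set_option autoImplicit false
universe u
open CategoryTheory CategoryTheory.Limits CochainComplex HomComplex
open scoped Pointwise

namespace Groth.Agent.Lib.KoszulRegH7

section general

variable {C : Type*} [Category C] [Preadditive C] [HasBinaryBiproducts C]

/-- the mapping cone is invariant under isomorphisms of arrows. -/
noncomputable def coneIso {K₁ L₁ K₂ L₂ : CochainComplex C ℤ} (φ₁ : K₁ ⟶ L₁) (φ₂ : K₂ ⟶ L₂)
    (a : K₁ ≅ K₂) (b : L₁ ≅ L₂) (comm : φ₁ ≫ b.hom = a.hom ≫ φ₂) :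
    mappingCone φ₁ ≅ mappingCone φ₂ where
  hom := mappingCone.map φ₁ φ₂ a.hom b.hom comm
  inv := mappingCone.map φ₂ φ₁ a.inv b.inv
    (by rw [Iso.comp_inv_eq, Category.assoc, comm, Iso.inv_hom_id_assoc])
  hom_inv_id := by
    rw [← mappingCone.map_comp]
    simp only [Iso.hom_inv_id, mappingCone.map_id]
  inv_hom_id := by
    rw [← mappingCone.map_comp]
    simp only [Iso.inv_hom_id, mappingCone.map_id]

end general

variable {A : Type u} [CommRing A]

/-- the functor `N ↦ N / fN`. -/
noncomputable def quotFunctor (f : A) : ModuleCat.{u} A ⥤ ModuleCat.{u} A where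
  obj N := ModuleCat.of A (QuotSMulTop f N)
  map g := ModuleCat.ofHom (QuotSMulTop.map f g.hom)
  map_id N := by
    rw [ModuleCat.hom_id, QuotSMulTop.map_id]
    rfl
  map_comp g h := by
    rw [ModuleCat.hom_comp, QuotSMulTop.map_comp]
    rfl

instance (f : A) : (quotFunctor f).Additive where
  map_add {X Y g h} := by
    apply ModuleCat.hom_ext
    simp only [quotFunctor, ModuleCat.hom_add, map_add, ModuleCat.hom_ofHom]
    rfl

instance (f : A) : Functor.Linear A (quotFunctor f) where
  map_smul {X Y} g r := by
    apply ModuleCat.hom_ext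
    simp only [quotFunctor, ModuleCat.hom_smul, map_smul, ModuleCat.hom_ofHom]
    rfl

/-- the quotient map `K ⟶ K / fK`. -/
noncomputable def quotMap (f : A) (K : CochainComplex (ModuleCat.{u} A) ℤ) :
    K ⟶ ((quotFunctor f).mapHomologicalComplex (ComplexShape.up ℤ)).obj K where
  f n := ModuleCat.ofHom (Submodule.mkQ (f • (⊤ : Submodule A (K.X n))))
  comm' i j _ := by
    apply ModuleCat.hom_ext
    apply LinearMap.ext
    intro x
    rfl

/-- the short complex `K --f--> K --> K / fK`. -/
noncomputable def sc (f : A) (K : CochainComplex (ModuleCat.{u} A) ℤ) :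
    ShortComplex (CochainComplex (ModuleCat.{u} A) ℤ) :=
  ShortComplex.mk (f • 𝟙 K) (quotMap f K) (by
    apply HomologicalComplex.hom_ext
    intro n
    apply ModuleCat.hom_ext
    apply LinearMap.ext
    intro x
    show Submodule.Quotient.mk (f • x) = 0
    exact (Submodule.Quotient.mk_eq_zero _).mpr
      (Submodule.smul_mem_pointwise_smul x f ⊤ trivial))

lemma sc_shortExact (f : A) (K : CochainComplex (ModuleCat.{u} A) ℤ)
    (hreg : ∀ n, IsSMulRegular (K.X n) f) : (sc f K).ShortExact := by
  rw [HomologicalComplex.shortExact_iff_degreewise_shortExact]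
  intro n
  exact (hreg n).smulShortComplex_shortExact

lemma isSMulRegular_X (f : A) (M : ModuleCat.{u} A) (hM : IsSMulRegular M f) :
    ∀ (fs : List A) (n : ℤ), IsSMulRegular ((CohIII.koszulCx M fs).X n) f := by
  intro fs
  induction fs with
  | nil =>
    intro n
    by_cases hn : n = 0
    · subst hn
      exact ((HomologicalComplex.singleObjXSelf (ComplexShape.up ℤ) 0 M).toLinearEquiv.isSMulRegular_congr
        f).mpr hM
    · have hz : IsZero ((CohIII.koszulCx M []).X n) :=
        HomologicalComplex.isZero_single_obj_X (ComplexShape.up ℤ) 0 M n hn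
      haveI : Subsingleton ((CohIII.koszulCx M []).X n) := ModuleCat.subsingleton_of_isZero hz
      intro x y _
      exact Subsingleton.elim x y
  | cons f' fs ih =>
    intro n
    let X := CohIII.koszulCx M fs
    let φ : X ⟶ X := f' • 𝟙 X
    show IsSMulRegular ((mappingCone φ).X n) f
    let p1 := ((mappingCone.fst φ).1.v n (n + 1) rfl).hom
    let p2 := ((mappingCone.snd φ).v n n (add_zero n)).hom
    let i1 := ((mappingCone.inl φ).v (n + 1) n (by lia)).hom
    let i2 := ((mappingCone.inr φ).f n).hom
    have key : ∀ z : (mappingCone φ).X n, z = i1 (p1 z) + i2 (p2 z) := by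
      intro z
      have h := LinearMap.congr_fun
        (congrArg ModuleCat.Hom.hom (mappingCone.id_X φ n (n + 1) rfl)) z
      rw [ModuleCat.hom_add, ModuleCat.hom_comp, ModuleCat.hom_comp, ModuleCat.hom_id] at h
      exact h.symm
    intro x y hxy
    change f • x = f • y at hxy
    have h1 : p1 x = p1 y := by
      apply ih (n + 1)
      change f • p1 x = f • p1 y
      rw [← map_smul, ← map_smul, hxy]
    have h2 : p2 x = p2 y := by
      apply ih n
      change f • p2 x = f • p2 y
      rw [← map_smul, ← map_smul, hxy]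
    rw [key x, key y, h1, h2]

/-- `N ↦ N / fN` commutes with the Koszul complex. -/
noncomputable def koszulIso (f : A) (M : ModuleCat.{u} A) : ∀ fs : List A,
    ((quotFunctor f).mapHomologicalComplex (ComplexShape.up ℤ)).obj (CohIII.koszulCx M fs) ≅
      CohIII.koszulCx ((quotFunctor f).obj M) fs
  | [] => (HomologicalComplex.singleMapHomologicalComplex (quotFunctor f)
      (ComplexShape.up ℤ) 0).app M
  | f' :: fs =>
    (mappingCone.mapHomologicalComplexIso (f' • 𝟙 (CohIII.koszulCx M fs)) (quotFunctor f)) ≪≫
      coneIso _ (f' • 𝟙 (CohIII.koszulCx ((quotFunctor f).obj M) fs))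
        (koszulIso f M fs) (koszulIso f M fs)
        (by
          rw [Functor.map_smul, CategoryTheory.Functor.map_id, Linear.smul_comp,
            Linear.comp_smul, Category.id_comp, Category.comp_id])

theorem isZero_homology_of_weaklyRegular : ∀ (fs : List A) (M : Type u) [AddCommGroup M]
    [Module A M], RingTheory.Sequence.IsWeaklyRegular M fs → ∀ n : ℤ, n ≠ 0 →
      IsZero ((CohIII.koszulCx (ModuleCat.of A M) fs).homology n) := by
  intro fs
  induction fs with
  | nil =>
    intro M _ _ _ n hn
    exact HomologicalComplex.isZero_single_obj_homology (ComplexShape.up ℤ) 0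
      (ModuleCat.of A M) n hn
  | cons f fs ih =>
    intro M _ _ h n hn
    rw [RingTheory.Sequence.isWeaklyRegular_cons_iff] at h
    obtain ⟨h1, h2⟩ := h
    have ih' := ih (QuotSMulTop f M) h2 n hn
    let K := CohIII.koszulCx (ModuleCat.of A M) fs
    have hS : (sc f K).ShortExact :=
      sc_shortExact f K (isSMulRegular_X f (ModuleCat.of A M) h1 fs)
    haveI := mappingCone.quasiIso_descShortComplex hS
    show IsZero ((mappingCone (sc f K).f).homology n)
    exact IsZero.of_iso ih'
      (isoOfQuasiIsoAt (mappingCone.descShortComplex (sc f K)) n ≪≫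
        (HomologicalComplex.homologyFunctor _ _ n).mapIso (koszulIso f (ModuleCat.of A M) fs))

theorem main (fs : List A) (M : Type u) [AddCommGroup M] [Module A M]
    (hreg : RingTheory.Sequence.IsWeaklyRegular M fs) (p : ℕ) (hp : p ≠ fs.length) :
    IsZero (CohIII.koszulH fs (ModuleCat.of A M) p) := by
  apply isZero_homology_of_weaklyRegular fs M hreg
  intro h
  apply hp
  have : (p : ℤ) = fs.length := by linarith
  exact_mod_cast this

end Groth.Agent.Lib.KoszulRegH7
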