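import Mathlib
import Groth.Prelude.Def_ega3
import Groth.Prelude.Def_CAlg
import Groth.Agent.Lib.KoszulReg_helper7
import Groth.Agent.Lib.KoszulHtpy_helper7
import Groth.Agent.Lib.DepthSeq_helper5

set_option autoImplicit false
universe u
open CategoryTheory CategoryTheory.Limits CochainComplex

namespace Groth.Agent.Lib.KoszulDepthH7

section basic

variable {A : Type u} [CommRing A]

lemma homologyMap_smul (a : A) {K L : CochainComplex (ModuleCat.{u} A) ℤ} (φ : K ⟶ L) (i : ℤ) :
    HomologicalComplex.homologyMap (a • φ) i = a • HomologicalComplex.homologyMap φ i := by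
  have h : (HomologicalComplex.shortComplexFunctor (ModuleCat.{u} A) (ComplexShape.up ℤ) i).map
      (a • φ) = a • (HomologicalComplex.shortComplexFunctor _ _ i).map φ := by
    ext <;> rfl
  show ShortComplex.homologyMap
    ((HomologicalComplex.shortComplexFunctor (ModuleCat.{u} A) (ComplexShape.up ℤ) i).map (a • φ)) = _
  rw [h, ShortComplex.homologyMap_smul]
  rfl

lemma isZero_X_of_pos (M : ModuleCat.{u} A) : ∀ (fs : List A) (i : ℤ), 0 < i →
    IsZero ((CohIII.koszulCx M fs).X i) := by
  intro fs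
  induction fs with
  | nil =>
    intro i hi
    exact HomologicalComplex.isZero_single_obj_X (ComplexShape.up ℤ) 0 M i (ne_of_gt hi)
  | cons f fs ih =>
    intro i hi
    show IsZero ((mappingCone (f • 𝟙 (CohIII.koszulCx M fs))).X i)
    exact (mappingCone.isZero_X_iff (f • 𝟙 (CohIII.koszulCx M fs)) i).mpr
      ⟨ih (i + 1) (by lia), ih i hi⟩

lemma isZero_X_of_lt (M : ModuleCat.{u} A) : ∀ (fs : List A) (i : ℤ), i < -(fs.length : ℤ) →
    IsZero ((CohIII.koszulCx M fs).X i) := by
  intro fs
  induction fs with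
  | nil =>
    intro i hi
    have hi' : i < 0 := by simpa using hi
    exact HomologicalComplex.isZero_single_obj_X (ComplexShape.up ℤ) 0 M i (ne_of_lt hi')
  | cons f fs ih =>
    intro i hi
    have hi' : i + 1 < -(fs.length : ℤ) := by
      simp only [List.length_cons] at hi
      push_cast at hi
      lia
    show IsZero ((mappingCone (f • 𝟙 (CohIII.koszulCx M fs))).X i)
    exact (mappingCone.isZero_X_iff (f • 𝟙 (CohIII.koszulCx M fs)) i).mpr
      ⟨ih (i + 1) hi', ih i (by lia)⟩

lemma isZero_homology_of_isZero_X (K : CochainComplex (ModuleCat.{u} A) ℤ) (i : ℤ)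
    (h : IsZero (K.X i)) : IsZero (K.homology i) :=
  (K.sc i).isZero_homology_of_isZero_X₂ h

set_option backward.isDefEq.respectTransparency false in
/-- a nonzero element killed by `fs` gives a nonzero class in the bottom Koszul cohomology. -/
lemma bottom (M : ModuleCat.{u} A) : ∀ (fs : List A) (i : ℤ), i = -(fs.length : ℤ) →
    ∀ m : M, m ≠ 0 → (∀ x ∈ fs, x • m = 0) →
      ∃ z : ((CohIII.koszulCx M fs).homology i : ModuleCat.{u} A),
        z ≠ 0 ∧ ∀ a : A, a • m = 0 → a • z = 0 := by
  intro fs
  induction fs with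
  | nil =>
    intro i hi m hm _
    have hi0 : i = 0 := by simpa using hi
    subst hi0
    let e := (HomologicalComplex.singleObjHomologySelfIso (ComplexShape.up ℤ) 0 M).symm.toLinearEquiv
    show ∃ z : ((((HomologicalComplex.single (ModuleCat.{u} A) (ComplexShape.up ℤ) 0).obj
        M).homology 0 : ModuleCat.{u} A)), z ≠ 0 ∧ ∀ a : A, a • m = 0 → a • z = 0
    refine ⟨e m, (LinearEquiv.map_ne_zero_iff e).mpr hm, fun a ha => ?_⟩
    rw [← map_smul, ha, map_zero]
  | cons f fs ih =>
    intro i hi m hm hx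
    show ∃ z : ((mappingCone (f • 𝟙 (CohIII.koszulCx M fs))).homology i : ModuleCat.{u} A),
        z ≠ 0 ∧ ∀ a : A, a • m = 0 → a • z = 0
    have hij : i + 1 = -(fs.length : ℤ) := by
      simp only [List.length_cons] at hi
      push_cast at hi
      lia
    obtain ⟨z, hz, hann⟩ := ih (i + 1) hij m hm (fun x hx' => hx x (List.mem_cons_of_mem _ hx'))
    letI : HasDerivedCategory (ModuleCat.{u} A) := HasDerivedCategory.standard _
    have hT := DerivedCategory.mappingCone_triangle_distinguished
      (f • 𝟙 (CohIII.koszulCx M fs))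
    have e1 := CochainComplex.homologyMap_exact₁_of_distTriang
      (mappingCone.triangle (f • 𝟙 (CohIII.koszulCx M fs))) hT i (i + 1) rfl
    have e3 := CochainComplex.homologyMap_exact₃_of_distTriang
      (mappingCone.triangle (f • 𝟙 (CohIII.koszulCx M fs))) hT i (i + 1) rfl
    have hKi : IsZero ((CohIII.koszulCx M fs).homology i) :=
      isZero_homology_of_isZero_X _ i (isZero_X_of_lt M fs i (by lia))
    have hmono : Mono (CochainComplex.homologyδOfTriangle
        (mappingCone.triangle (f • 𝟙 (CohIII.koszulCx M fs))) i (i + 1) rfl) :=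
      e3.mono_g (hKi.eq_of_src _ _)
    have hδinj : Function.Injective (CochainComplex.homologyδOfTriangle
        (mappingCone.triangle (f • 𝟙 (CohIII.koszulCx M fs))) i (i + 1) rfl).hom :=
      (ModuleCat.mono_iff_injective _).mp hmono
    have hrk := (ShortComplex.moduleCat_exact_iff_range_eq_ker _).mp e1
    have hφ : HomologicalComplex.homologyMap (f • 𝟙 (CohIII.koszulCx M fs)) (i + 1) =
        f • 𝟙 _ := by
      rw [homologyMap_smul, HomologicalComplex.homologyMap_id]
    have hφz : (HomologicalComplex.homologyMap (f • 𝟙 (CohIII.koszulCx M fs)) (i + 1)).hom z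
        = 0 := by
      rw [hφ, ModuleCat.hom_smul, ModuleCat.hom_id]
      exact hann f (hx f List.mem_cons_self)
    have hzmem : z ∈ LinearMap.range (CochainComplex.homologyδOfTriangle
        (mappingCone.triangle (f • 𝟙 (CohIII.koszulCx M fs))) i (i + 1) rfl).hom := by
      rw [show LinearMap.range (CochainComplex.homologyδOfTriangle
        (mappingCone.triangle (f • 𝟙 (CohIII.koszulCx M fs))) i (i + 1) rfl).hom =
          LinearMap.ker (HomologicalComplex.homologyMap (f • 𝟙 (CohIII.koszulCx M fs))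
            (i + 1)).hom from hrk]
      exact hφz
    obtain ⟨w, hw⟩ := hzmem
    refine ⟨w, ?_, ?_⟩
    · intro h0
      apply hz
      rw [← hw, h0, map_zero]
    · intro a ha
      apply hδinj
      rw [map_smul, hw, map_zero]
      exact hann a ha

end basic

section LES

variable {A : Type u} [CommRing A] (y : A) (K : CochainComplex (ModuleCat.{u} A) ℤ)
  (hreg : ∀ n, IsSMulRegular (K.X n) y)
  (hnull : ∀ i, HomologicalComplex.homologyMap (y • 𝟙 K) i = 0)

include hreg hnull

lemma isZero_succ (i j : ℤ) (hij : i + 1 = j)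
    (h : IsZero ((Groth.Agent.Lib.KoszulRegH7.sc y K).X₃.homology i)) :
    IsZero (K.homology j) := by
  have hS := Groth.Agent.Lib.KoszulRegH7.sc_shortExact y K hreg
  have e1 := hS.homology_exact₁ i j hij
  haveI : Epi (hS.δ i j hij) := e1.epi_f (hnull j)
  have hz := IsZero.of_epi (hS.δ i j hij) h
  exact hz

lemma not_isZero_succ (i j : ℤ) (hij : i + 1 = j) (h0 : IsZero (K.homology i))
    (h : ¬ IsZero ((Groth.Agent.Lib.KoszulRegH7.sc y K).X₃.homology i)) :
    ¬ IsZero (K.homology j) := by
  intro hj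
  have hS := Groth.Agent.Lib.KoszulRegH7.sc_shortExact y K hreg
  have e3 := hS.homology_exact₃ i j hij
  haveI : Mono (hS.δ i j hij) := e3.mono_g (h0.eq_of_src _ _)
  have hz := IsZero.of_mono (hS.δ i j hij) hj
  exact h hz

end LES

section main

variable {R : Type u} [CommRing R] [IsNoetherianRing R] [IsLocalRing R]

lemma smul_top_ne_top_of_le (M : Type u) [AddCommGroup M] [Module R M] [Module.Finite R M]
    [Nontrivial M] (I : Ideal R) (hI : I ≤ IsLocalRing.maximalIdeal R) :
    I • (⊤ : Submodule R M) ≠ ⊤ := by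
  intro htop
  have hbot : (⊤ : Submodule R M) = ⊥ :=
    Submodule.eq_bot_of_le_smul_of_le_jacobson_bot I ⊤ Module.Finite.fg_top (by rw [htop])
      (le_trans hI (IsLocalRing.maximalIdeal_le_jacobson _))
  exact top_ne_bot hbot

lemma nontrivial_quot (M : Type u) [AddCommGroup M] [Module R M] [Module.Finite R M]
    [Nontrivial M] (y : R) (hy : y ∈ IsLocalRing.maximalIdeal R) :
    Nontrivial (QuotSMulTop y M) := by
  rw [Submodule.Quotient.nontrivial_iff]
  intro h
  apply smul_top_ne_top_of_le M (Ideal.span {y}) ((Ideal.span_singleton_le_iff_mem _).mpr hy)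
  rw [Submodule.ideal_span_singleton_smul]
  exact h

theorem aux (xs : List R) (hxs : ∀ x ∈ xs, x ∈ IsLocalRing.maximalIdeal R) :
    ∀ (r : ℕ) (M : Type u) [AddCommGroup M] [Module R M] [Module.Finite R M] [Nontrivial M],
      LocCoh.idealDepth (Ideal.span {x | x ∈ xs}) M = r →
      (∀ p : ℕ, p < r → IsZero (CohIII.koszulH xs (ModuleCat.of R M) p)) ∧
        ¬ IsZero (CohIII.koszulH xs (ModuleCat.of R M) r) := by
  have hle : Ideal.span {x | x ∈ xs} ≤ IsLocalRing.maximalIdeal R :=
    Ideal.span_le.mpr (fun x hx => hxs x hx)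
  intro r
  induction r with
  | zero =>
    intro M _ _ _ _ hd
    refine ⟨fun p hp => absurd hp (Nat.not_lt_zero p), ?_⟩
    have h0 : ¬ 1 ≤ LocCoh.idealDepth (Ideal.span {x | x ∈ xs}) M := by
      rw [hd]
      simp
    obtain ⟨q, hq, hIq⟩ := Groth.Agent.DepthLib.exists_associatedPrime_of_not_one_le _ M h0
    obtain ⟨hqprime, m₀, hm₀⟩ := isAssociatedPrime_iff.1 hq
    have hm₀ne : m₀ ≠ 0 := by
      rintro rfl
      apply hqprime.ne_top
      rw [hm₀, Ideal.eq_top_iff_one, Submodule.mem_colon_singleton]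
      simp
    have hmem : ∀ a, a ∈ q ↔ a • m₀ = 0 := by
      intro a
      rw [hm₀, Submodule.mem_colon_singleton, Submodule.mem_bot]
    have hkill : ∀ x ∈ xs, x • m₀ = 0 := fun x hx =>
      (hmem x).1 (hIq (Ideal.subset_span hx))
    obtain ⟨z, hz, -⟩ := bottom (ModuleCat.of R M) xs (((0 : ℕ) : ℤ) - xs.length) (by simp)
      m₀ hm₀ne hkill
    intro hzero
    haveI := ModuleCat.subsingleton_of_isZero hzero
    exact hz (Subsingleton.elim z 0)
  | succ r ih =>
    intro M _ _ _ _ hd
    have hIM : Ideal.span {x | x ∈ xs} • (⊤ : Submodule R M) ≠ ⊤ :=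
      smul_top_ne_top_of_le M _ hle
    have h1 : 1 ≤ LocCoh.idealDepth (Ideal.span {x | x ∈ xs}) M := by
      rw [hd]
      exact_mod_cast Nat.le_add_left 1 r
    rcases (Groth.Agent.DepthLib.one_le_idealDepth_iff _ M).1 h1 with htop | ⟨y, hyI, hreg⟩
    · exact absurd htop hIM
    have hym : y ∈ IsLocalRing.maximalIdeal R := hle hyI
    haveI : Nontrivial (QuotSMulTop y M) := nontrivial_quot M y hym
    have h2 := Groth.Agent.DepthLib.idealDepth_quotSMulTop_add_one
      (Ideal.span {x | x ∈ xs}) M hyI hreg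
    have h3 : LocCoh.idealDepth (Ideal.span {x | x ∈ xs}) (QuotSMulTop y M) = r := by
      rw [hd] at h2
      have h4 : LocCoh.idealDepth (Ideal.span {x | x ∈ xs}) (QuotSMulTop y M) + 1 =
          (r : ℕ∞) + 1 := by
        rw [h2]
        push_cast
        rfl
      exact ENat.add_left_injective_of_ne_top (n := 1) (by simp) h4
    obtain ⟨ihv, ihn⟩ := ih (QuotSMulTop y M) h3
    have hregK : ∀ n, IsSMulRegular ((CohIII.koszulCx (ModuleCat.of R M) xs).X n) y :=
      Groth.Agent.Lib.KoszulRegH7.isSMulRegular_X y (ModuleCat.of R M) hreg xs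
    have hnull : ∀ i, HomologicalComplex.homologyMap
        (y • 𝟙 (CohIII.koszulCx (ModuleCat.of R M) xs)) i = 0 := by
      intro i
      obtain ⟨h⟩ := Groth.Agent.Lib.KoszulHtpyH7.main (ModuleCat.of R M) xs y hyI
      rw [h.homologyMap_eq i, HomologicalComplex.homologyMap_zero]
    have eX3 : ∀ i : ℤ, (Groth.Agent.Lib.KoszulRegH7.sc y
        (CohIII.koszulCx (ModuleCat.of R M) xs)).X₃.homology i ≅
        (CohIII.koszulCx (ModuleCat.of R (QuotSMulTop y M)) xs).homology i :=
      fun i => (HomologicalComplex.homologyFunctor _ _ i).mapIso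
        (Groth.Agent.Lib.KoszulRegH7.koszulIso y (ModuleCat.of R M) xs)
    have hvan : ∀ p : ℕ, p < r + 1 →
        IsZero ((CohIII.koszulCx (ModuleCat.of R M) xs).homology ((p : ℤ) - xs.length)) := by
      intro p hp
      apply isZero_succ y _ hregK hnull ((p : ℤ) - xs.length - 1) _ (by ring)
      apply IsZero.of_iso _ (eX3 _)
      rcases Nat.eq_zero_or_pos p with rfl | hpos
      · exact isZero_homology_of_isZero_X _ _ (isZero_X_of_lt _ xs _ (by push_cast; lia))
      · have h5 := ihv (p - 1) (by lia)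
        have hc : (((p - 1 : ℕ) : ℤ) - xs.length) = (p : ℤ) - xs.length - 1 := by
          rw [Nat.cast_sub hpos]
          push_cast
          ring
        rw [← hc]
        exact h5
    refine ⟨hvan, ?_⟩
    show ¬ IsZero ((CohIII.koszulCx (ModuleCat.of R M) xs).homology
      (((r + 1 : ℕ) : ℤ) - xs.length))
    apply not_isZero_succ y _ hregK hnull ((r : ℤ) - xs.length) _ (by push_cast; ring)
    · exact hvan r (Nat.lt_succ_self r)
    · intro h
      exact ihn (IsZero.of_iso h (eX3 _).symm)

theorem main (M : Type u) [AddCommGroup M] [Module R M] [Module.Finite R M] [Nontrivial M]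
    (xs : List R) (hxs : ∀ x ∈ xs, x ∈ IsLocalRing.maximalIdeal R) :
    LocCoh.idealDepth (Ideal.span {x | x ∈ xs}) M ≤ xs.length ∧
      (∀ p : ℕ, (p : ℕ∞) < LocCoh.idealDepth (Ideal.span {x | x ∈ xs}) M →
        IsZero (CohIII.koszulH xs (ModuleCat.of R M) p)) ∧
      (∀ r : ℕ, LocCoh.idealDepth (Ideal.span {x | x ∈ xs}) M = r →
        ¬ IsZero (CohIII.koszulH xs (ModuleCat.of R M) r)) := by
  have hle : Ideal.span {x | x ∈ xs} ≤ IsLocalRing.maximalIdeal R :=
    Ideal.span_le.mpr (fun x hx => hxs x hx)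
  have hIM := smul_top_ne_top_of_le M _ hle
  obtain ⟨d, hd⟩ := ENat.ne_top_iff_exists.1 (Groth.Agent.DepthLib.idealDepth_ne_top _ M hIM)
  obtain ⟨hv, hn⟩ := aux xs hxs d M hd.symm
  refine ⟨?_, ?_, ?_⟩
  · rw [← hd]
    by_contra hlt
    have hlt' : xs.length < d := by
      have := not_le.mp hlt
      exact_mod_cast this
    apply hn
    exact isZero_homology_of_isZero_X _ _ (isZero_X_of_pos _ xs _ (by lia))
  · intro p hp
    rw [← hd] at hp
    exact hv p (by exact_mod_cast hp)
  · intro r hr
    have hdr : d = r := by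
      rw [← hd] at hr
      exact_mod_cast hr
    subst hdr
    exact hn

end main

end Groth.Agent.Lib.KoszulDepthH7
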