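import Mathlib
import Groth.Prelude.Def_ega3
import Groth.Agent.Lib.KoszulDepth_helper7
import Groth.Agent.Lib.LocCohInjAcyc_helper7
import Groth.Agent.Lib.InjHull_helper3

/-!
# Direct limit of Koszul cohomology of powers vanishes on injective modules (helper6)
-/

set_option autoImplicit false
universe u
open CategoryTheory CategoryTheory.Limits CochainComplex HomologicalComplex

namespace Groth.Agent.Lib.KoszulLim_helper6

open Groth.Agent.Lib.InjHull_helper3

variable {A : Type u} [CommRing A]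

section cone

variable {K₁ L₁ K₂ L₂ : CochainComplex (ModuleCat.{u} A) ℤ} (φ₁ : K₁ ⟶ L₁) (φ₂ : K₂ ⟶ L₂)
  (a : K₁ ⟶ K₂) (b : L₁ ⟶ L₂) (comm : φ₁ ≫ b = a ≫ φ₂)

lemma δ_nat_tri (T T' : Pretriangulated.Triangle (CochainComplex (ModuleCat.{u} A) ℤ)) (Φ : T ⟶ T')
    (n₀ n₁ : ℤ) (h : n₀ + 1 = n₁) :
    homologyMap Φ.hom₃ n₀ ≫ homologyδOfTriangle T' n₀ n₁ h =
      homologyδOfTriangle T n₀ n₁ h ≫ homologyMap Φ.hom₁ n₁ := by
  have nat := ((homologyFunctor (ModuleCat.{u} A) (ComplexShape.up ℤ) 0).shiftIso 1 n₀ n₁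
    (by lia)).hom.naturality Φ.hom₁
  have h3 := congrArg (fun t => homologyMap t n₀) Φ.comm₃
  simp only [homologyMap_comp] at h3
  have e1 : homologyMap Φ.hom₃ n₀ ≫ (homologyMap T'.mor₃ n₀ ≫
      ((homologyFunctor (ModuleCat.{u} A) (ComplexShape.up ℤ) 0).shiftIso 1 n₀ n₁
        (by lia)).hom.app T'.obj₁) =
      (homologyMap Φ.hom₃ n₀ ≫ homologyMap T'.mor₃ n₀) ≫
      ((homologyFunctor (ModuleCat.{u} A) (ComplexShape.up ℤ) 0).shiftIso 1 n₀ n₁
        (by lia)).hom.app T'.obj₁ := (Category.assoc _ _ _).symm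
  have e2 : (homologyMap Φ.hom₃ n₀ ≫ homologyMap T'.mor₃ n₀) ≫
      ((homologyFunctor (ModuleCat.{u} A) (ComplexShape.up ℤ) 0).shiftIso 1 n₀ n₁
        (by lia)).hom.app T'.obj₁ =
      (homologyMap T.mor₃ n₀ ≫ homologyMap (Φ.hom₁⟦(1 : ℤ)⟧') n₀) ≫
      ((homologyFunctor (ModuleCat.{u} A) (ComplexShape.up ℤ) 0).shiftIso 1 n₀ n₁
        (by lia)).hom.app T'.obj₁ :=
    congrArg (fun t => t ≫ ((homologyFunctor (ModuleCat.{u} A) (ComplexShape.up ℤ) 0).shiftIso 1
      n₀ n₁ (by lia)).hom.app T'.obj₁) h3.symm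
  have e3 : (homologyMap T.mor₃ n₀ ≫ homologyMap (Φ.hom₁⟦(1 : ℤ)⟧') n₀) ≫
      ((homologyFunctor (ModuleCat.{u} A) (ComplexShape.up ℤ) 0).shiftIso 1 n₀ n₁
        (by lia)).hom.app T'.obj₁ =
      homologyMap T.mor₃ n₀ ≫ (homologyMap (Φ.hom₁⟦(1 : ℤ)⟧') n₀ ≫
      ((homologyFunctor (ModuleCat.{u} A) (ComplexShape.up ℤ) 0).shiftIso 1 n₀ n₁
        (by lia)).hom.app T'.obj₁) := Category.assoc _ _ _
  have e4 : homologyMap T.mor₃ n₀ ≫ (homologyMap (Φ.hom₁⟦(1 : ℤ)⟧') n₀ ≫
      ((homologyFunctor (ModuleCat.{u} A) (ComplexShape.up ℤ) 0).shiftIso 1 n₀ n₁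
        (by lia)).hom.app T'.obj₁) =
      homologyMap T.mor₃ n₀ ≫
      (((homologyFunctor (ModuleCat.{u} A) (ComplexShape.up ℤ) 0).shiftIso 1 n₀ n₁
        (by lia)).hom.app T.obj₁ ≫ homologyMap Φ.hom₁ n₁) :=
    congrArg (fun t => homologyMap T.mor₃ n₀ ≫ t) nat
  have e5 : homologyMap T.mor₃ n₀ ≫
      (((homologyFunctor (ModuleCat.{u} A) (ComplexShape.up ℤ) 0).shiftIso 1 n₀ n₁
        (by lia)).hom.app T.obj₁ ≫ homologyMap Φ.hom₁ n₁) =
      (homologyMap T.mor₃ n₀ ≫
      ((homologyFunctor (ModuleCat.{u} A) (ComplexShape.up ℤ) 0).shiftIso 1 n₀ n₁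
        (by lia)).hom.app T.obj₁) ≫ homologyMap Φ.hom₁ n₁ := (Category.assoc _ _ _).symm
  exact e1.trans (e2.trans (e3.trans (e4.trans e5)))

lemma δ_nat (n₀ n₁ : ℤ) (h : n₀ + 1 = n₁) :
    homologyMap (mappingCone.map φ₁ φ₂ a b comm) n₀ ≫
        homologyδOfTriangle (mappingCone.triangle φ₂) n₀ n₁ h =
      homologyδOfTriangle (mappingCone.triangle φ₁) n₀ n₁ h ≫ homologyMap a n₁ :=
  δ_nat_tri _ _ (mappingCone.triangleMap φ₁ φ₂ a b comm) n₀ n₁ h

lemma δ_nat_apply (n₀ n₁ : ℤ) (h : n₀ + 1 = n₁)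
    (x : ((mappingCone φ₁).homology n₀ : ModuleCat.{u} A)) :
    (homologyδOfTriangle (mappingCone.triangle φ₂) n₀ n₁ h).hom
        ((homologyMap (mappingCone.map φ₁ φ₂ a b comm) n₀).hom x) =
      (homologyMap a n₁).hom ((homologyδOfTriangle (mappingCone.triangle φ₁) n₀ n₁ h).hom x) :=
  LinearMap.congr_fun (congrArg ModuleCat.Hom.hom (δ_nat φ₁ φ₂ a b comm n₀ n₁ h)) x

lemma inr_nat : mappingCone.inr φ₁ ≫ mappingCone.map φ₁ φ₂ a b comm = b ≫ mappingCone.inr φ₂ := by
  simp [mappingCone.map]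

lemma inr_nat_apply (n : ℤ) (y : (L₁.homology n : ModuleCat.{u} A)) :
    (homologyMap (mappingCone.map φ₁ φ₂ a b comm) n).hom
        ((homologyMap (mappingCone.inr φ₁) n).hom y) =
      (homologyMap (mappingCone.inr φ₂) n).hom ((homologyMap b n).hom y) := by
  have h := congrArg (fun t => homologyMap t n) (inr_nat φ₁ φ₂ a b comm)
  simp only [homologyMap_comp] at h
  exact LinearMap.congr_fun (congrArg ModuleCat.Hom.hom h) y

end cone

section scalar

variable (c : A) (K : CochainComplex (ModuleCat.{u} A) ℤ)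

lemma hφ (j : ℤ) : homologyMap (c • 𝟙 K) j = c • 𝟙 (K.homology j) := by
  rw [Groth.Agent.Lib.KoszulDepthH7.homologyMap_smul, homologyMap_id]

lemma E1 (i j : ℤ) (h : i + 1 = j) (z : (K.homology j : ModuleCat.{u} A)) (hz : c • z = 0) :
    ∃ x, (homologyδOfTriangle (mappingCone.triangle (c • 𝟙 K)) i j h).hom x = z := by
  letI : HasDerivedCategory (ModuleCat.{u} A) := HasDerivedCategory.standard _
  have hT := DerivedCategory.mappingCone_triangle_distinguished (c • 𝟙 K)
  have e1 := CochainComplex.homologyMap_exact₁_of_distTriang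
    (mappingCone.triangle (c • 𝟙 K)) hT i j h
  have hrk := (ShortComplex.moduleCat_exact_iff_range_eq_ker _).mp e1
  have hzmem : z ∈ LinearMap.ker (homologyMap (c • 𝟙 K) j).hom := by
    rw [LinearMap.mem_ker, hφ, ModuleCat.hom_smul, ModuleCat.hom_id]
    exact hz
  have : z ∈ LinearMap.range
      (homologyδOfTriangle (mappingCone.triangle (c • 𝟙 K)) i j h).hom := by
    rw [show LinearMap.range (homologyδOfTriangle (mappingCone.triangle (c • 𝟙 K)) i j h).hom =
      LinearMap.ker (homologyMap (c • 𝟙 K) j).hom from hrk]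
    exact hzmem
  exact this

lemma E1' (i j : ℤ) (h : i + 1 = j) (x : ((mappingCone (c • 𝟙 K)).homology i : ModuleCat.{u} A)) :
    c • (homologyδOfTriangle (mappingCone.triangle (c • 𝟙 K)) i j h).hom x = 0 := by
  letI : HasDerivedCategory (ModuleCat.{u} A) := HasDerivedCategory.standard _
  have hT := DerivedCategory.mappingCone_triangle_distinguished (c • 𝟙 K)
  have h0 : homologyδOfTriangle (mappingCone.triangle (c • 𝟙 K)) i j h ≫
      homologyMap (c • 𝟙 K) j = 0 :=
    CochainComplex.homologyδOfTriangle_homologyMap (mappingCone.triangle (c • 𝟙 K)) hT i j h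
  rw [hφ] at h0
  have h1 : (c • 𝟙 (K.homology j)).hom
      ((homologyδOfTriangle (mappingCone.triangle (c • 𝟙 K)) i j h).hom x) = 0 :=
    LinearMap.congr_fun (congrArg ModuleCat.Hom.hom h0) x
  rw [ModuleCat.hom_smul, ModuleCat.hom_id] at h1
  exact h1

lemma E2 (i : ℤ) (w : (K.homology i : ModuleCat.{u} A)) :
    (homologyMap (mappingCone.inr (c • 𝟙 K)) i).hom (c • w) = 0 := by
  letI : HasDerivedCategory (ModuleCat.{u} A) := HasDerivedCategory.standard _
  have hT := DerivedCategory.mappingCone_triangle_distinguished (c • 𝟙 K)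
  have h0 : homologyMap (c • 𝟙 K) i ≫ homologyMap (mappingCone.inr (c • 𝟙 K)) i = 0 :=
    CochainComplex.homologyMap_comp_eq_zero_of_distTriang (mappingCone.triangle (c • 𝟙 K)) hT i
  rw [hφ] at h0
  have h1 : (homologyMap (mappingCone.inr (c • 𝟙 K)) i).hom ((c • 𝟙 (K.homology i)).hom w) = 0 :=
    LinearMap.congr_fun (congrArg ModuleCat.Hom.hom h0) w
  rw [ModuleCat.hom_smul, ModuleCat.hom_id] at h1
  exact h1

lemma E3 (i j : ℤ) (h : i + 1 = j) (x : ((mappingCone (c • 𝟙 K)).homology i : ModuleCat.{u} A))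
    (hx : (homologyδOfTriangle (mappingCone.triangle (c • 𝟙 K)) i j h).hom x = 0) :
    ∃ y : (K.homology i : ModuleCat.{u} A),
      (homologyMap (mappingCone.inr (c • 𝟙 K)) i).hom y = x := by
  letI : HasDerivedCategory (ModuleCat.{u} A) := HasDerivedCategory.standard _
  have hT := DerivedCategory.mappingCone_triangle_distinguished (c • 𝟙 K)
  have e3 := CochainComplex.homologyMap_exact₃_of_distTriang
    (mappingCone.triangle (c • 𝟙 K)) hT i j h
  have hrk := (ShortComplex.moduleCat_exact_iff_range_eq_ker _).mp e3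
  have hxmem : x ∈ LinearMap.ker
      (homologyδOfTriangle (mappingCone.triangle (c • 𝟙 K)) i j h).hom := hx
  have : x ∈ LinearMap.range (homologyMap (mappingCone.inr (c • 𝟙 K)) i).hom := by
    rw [show LinearMap.range (homologyMap (mappingCone.inr (c • 𝟙 K)) i).hom =
      LinearMap.ker (homologyδOfTriangle (mappingCone.triangle (c • 𝟙 K)) i j h).hom from hrk]
    exact hxmem
  exact this

end scalar

section alg

lemma mem_Γ_span_iff' (fs : List A) (M : Type u) [AddCommGroup M] [Module A M] (m : M) :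
    (∀ g ∈ fs, ∃ n : ℕ, g ^ n • m = 0) ↔ m ∈ Γ (Ideal.span {x | x ∈ fs}) M := by
  classical
  have hfg : (Ideal.span {x | x ∈ fs}).FG := ⟨fs.toFinset, by congr 1; ext x; simp⟩
  rw [mem_Γ_iff]
  constructor
  · intro h
    have hrad : Ideal.span {x | x ∈ fs} ≤ (Ideal.torsionOf A M m).radical := by
      rw [Ideal.span_le]
      intro g hg
      exact h g hg
    obtain ⟨k, hk⟩ := Ideal.exists_pow_le_of_le_radical_of_fg hrad hfg
    exact ⟨k, fun a ha => hk ha⟩
  · rintro ⟨n, hn⟩ g hg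
    exact ⟨n, hn _ (Ideal.pow_mem_pow (Ideal.subset_span (show g ∈ {x | x ∈ fs} from hg)) n)⟩

lemma divis [IsNoetherianRing A] (N : Type u) [AddCommGroup N] [Module A N]
    (hN : Module.Injective A N) (f : A) (fs : List A) (m : ℕ) (z₀ : N)
    (hz : ∀ g ∈ fs, g ^ m • z₀ = 0) :
    ∃ (m' : ℕ) (z : N), m ≤ m' ∧ (∀ g ∈ fs, g ^ m' • z = 0) ∧
      f ^ (m' - m) • z₀ = f ^ m' • z := by
  have hz0 : z₀ ∈ Γ (Ideal.span {x | x ∈ fs}) N :=
    (mem_Γ_span_iff' fs N z₀).1 (fun g hg => ⟨m, hz g hg⟩)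
  have hinj : Module.Injective A ↥(Γ (Ideal.span {x | x ∈ fs}) N) :=
    injective_Γ hN (Ideal.span {x | x ∈ fs})
  obtain ⟨g, e', ⟨k, hk⟩, hge⟩ :=
    Groth.Agent.Lib.LocCohInjAcycH7.exists_smul_add ↥(Γ (Ideal.span {x | x ∈ fs}) N) hinj (f ^ m)
      ⟨z₀, hz0⟩
  obtain ⟨s, hs⟩ := (mem_Γ_iff (Ideal.span {x | x ∈ fs}) (e' : N)).1 e'.2
  refine ⟨s + m + m * k, (e' : N), by omega, ?_, ?_⟩
  · intro g' hg'
    have h1 : g' ^ s ∈ (Ideal.span {x | x ∈ fs}) ^ s :=
      Ideal.pow_mem_pow (Ideal.subset_span (show g' ∈ {x | x ∈ fs} from hg')) s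
    have h0 := hs _ h1
    rw [show s + m + m * k = (m + m * k) + s by ring, pow_add, mul_smul, h0, smul_zero]
  · have h1 : z₀ = (g : N) + f ^ m • (e' : N) := by
      have := congrArg Subtype.val hge
      simpa using this
    have h2 : (f ^ m) ^ k • (g : N) = 0 := by
      have := congrArg Subtype.val hk
      simpa using this
    have h3 : f ^ (s + m * k) • (g : N) = 0 := by
      rw [pow_add, mul_smul, pow_mul, h2, smul_zero]
    rw [show s + m + m * k - m = s + m * k by omega]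
    conv_lhs => rw [h1]
    rw [smul_add, h3, zero_add, smul_smul, ← pow_add]
    congr 2
    ring

end alg

section trans

variable (M : ModuleCat.{u} A)

lemma trans_comm (f : A) (n m : ℕ) (h : n ≤ m) {K K' : CochainComplex (ModuleCat.{u} A) ℤ}
    (τ : K ⟶ K') : (f ^ n • 𝟙 K) ≫ (f ^ (m - n) • τ) = τ ≫ (f ^ m • 𝟙 K') := by
  simp only [Linear.smul_comp, Linear.comp_smul, Category.id_comp, Category.comp_id, smul_smul,
    ← pow_add, Nat.sub_add_cancel h]

/-- Koszul complex of the `n`-th powers -/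
noncomputable abbrev Kn (fs : List A) (n : ℕ) : CochainComplex (ModuleCat.{u} A) ℤ :=
  CohIII.koszulCx M (fs.map (· ^ n))

noncomputable abbrev Cn (f : A) (fs : List A) (n : ℕ) : CochainComplex (ModuleCat.{u} A) ℤ :=
  mappingCone (f ^ n • 𝟙 (Kn M fs n))

noncomputable abbrev Tn (f : A) (fs : List A) (n m : ℕ) (h : n ≤ m) : Cn M f fs n ⟶ Cn M f fs m :=
  mappingCone.map (f ^ n • 𝟙 (Kn M fs n)) (f ^ m • 𝟙 (Kn M fs m)) (CohIII.koszulTrans M n m h fs)
    (f ^ (m - n) • CohIII.koszulTrans M n m h fs) (trans_comm f n m h _)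

lemma koszulCx_cons (f : A) (fs : List A) (n : ℕ) :
    CohIII.koszulCx M ((f :: fs).map (· ^ n)) = Cn M f fs n := rfl

lemma koszulTrans_cons (f : A) (fs : List A) (n m : ℕ) (h : n ≤ m) :
    CohIII.koszulTrans M n m h (f :: fs) = Tn M f fs n m h := rfl

lemma trans_comp (n m k : ℕ) (h₁ : n ≤ m) (h₂ : m ≤ k) : ∀ fs : List A,
    CohIII.koszulTrans M n m h₁ fs ≫ CohIII.koszulTrans M m k h₂ fs =
      CohIII.koszulTrans M n k (h₁.trans h₂) fs
  | [] => by
    show 𝟙 _ ≫ 𝟙 _ = 𝟙 _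
    exact Category.comp_id _
  | f :: fs => by
    have ih := trans_comp n m k h₁ h₂ fs
    show Tn M f fs n m h₁ ≫ Tn M f fs m k h₂ = Tn M f fs n k (h₁.trans h₂)
    unfold Tn
    rw [← mappingCone.map_comp]
    congr 1
    rw [Linear.smul_comp, Linear.comp_smul, smul_smul, ih, ← pow_add]
    congr 2
    omega

end trans

section main

open Groth.Agent.Lib.KoszulDepthH7

variable (M : ModuleCat.{u} A)

theorem bottomB : ∀ (fs : List A) (i : ℤ), i = -(fs.length : ℤ) →
    ∃ β : ∀ n : ℕ, ((Kn M fs n).homology i : ModuleCat.{u} A) →ₗ[A] M,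
      (∀ n, Function.Injective (β n)) ∧
      (∀ (n m : ℕ) (h : n ≤ m) (x : ((Kn M fs n).homology i : ModuleCat.{u} A)),
        β m ((homologyMap (CohIII.koszulTrans M n m h fs) i).hom x) = β n x) ∧
      (∀ (n : ℕ) (z : M), z ∈ LinearMap.range (β n) ↔ ∀ g ∈ fs, g ^ n • z = 0) := by
  intro fs
  induction fs with
  | nil =>
    intro i hi
    have hi0 : i = 0 := by simpa using hi
    subst hi0
    let e : ((((HomologicalComplex.single (ModuleCat.{u} A) (ComplexShape.up ℤ) 0).obj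
        M).homology 0 : ModuleCat.{u} A)) ≃ₗ[A] M :=
      (HomologicalComplex.singleObjHomologySelfIso (ComplexShape.up ℤ) 0 M).toLinearEquiv
    refine ⟨fun n => e.toLinearMap, fun n => e.injective, ?_, ?_⟩
    · intro n m h x
      show e ((homologyMap (𝟙 ((HomologicalComplex.single (ModuleCat.{u} A)
        (ComplexShape.up ℤ) 0).obj M)) 0).hom x) = e x
      rw [homologyMap_id]
      rfl
    · intro n z
      constructor
      · intro _ g hg
        simp at hg
      · intro _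
        exact ⟨e.symm z, e.apply_symm_apply z⟩
  | cons f fs ih =>
    intro i hi
    have hij : i + 1 = -(fs.length : ℤ) := by
      simp only [List.length_cons] at hi
      push_cast at hi
      omega
    obtain ⟨β', β'inj, β'compat, β'range⟩ := ih (i + 1) hij
    let δ : ∀ n : ℕ, ((Cn M f fs n).homology i : ModuleCat.{u} A) →ₗ[A]
        ((Kn M fs n).homology (i + 1) : ModuleCat.{u} A) :=
      fun n => (homologyδOfTriangle (mappingCone.triangle (f ^ n • 𝟙 (Kn M fs n))) i (i + 1)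
        rfl).hom
    have δinj : ∀ n, Function.Injective (δ n) := by
      intro n
      rw [injective_iff_map_eq_zero]
      intro x hx
      obtain ⟨y, hy⟩ := E3 (f ^ n) (Kn M fs n) i (i + 1) rfl x hx
      have hz : IsZero ((Kn M fs n).homology i) :=
        isZero_homology_of_isZero_X _ i (isZero_X_of_lt M _ i (by rw [List.length_map]; omega))
      haveI := ModuleCat.subsingleton_of_isZero hz
      rw [← hy, Subsingleton.elim y 0, map_zero]
    refine ⟨fun n => (β' n).comp (δ n), fun n => (β'inj n).comp (δinj n), ?_, ?_⟩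
    · intro n m h x
      show β' m (δ m ((homologyMap (Tn M f fs n m h) i).hom x)) = β' n (δ n x)
      rw [show δ m ((homologyMap (Tn M f fs n m h) i).hom x) =
        (homologyMap (CohIII.koszulTrans M n m h fs) (i + 1)).hom (δ n x) from
        δ_nat_apply _ _ _ _ _ i (i + 1) rfl x]
      exact β'compat n m h (δ n x)
    · intro n z
      constructor
      · rintro ⟨x, rfl⟩ g hg
        obtain hgf | hg' := List.mem_cons.1 hg
        · show g ^ n • β' n (δ n x) = 0
          rw [hgf, ← map_smul, show f ^ n • δ n x = 0 from E1' (f ^ n) (Kn M fs n) i (i + 1) rfl x,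
            map_zero]
        · exact (β'range n _).1 ⟨δ n x, rfl⟩ g hg'
      · intro hz
        obtain ⟨u, hu⟩ := (β'range n z).2 (fun g hg => hz g (List.mem_cons_of_mem _ hg))
        have hfu : f ^ n • u = 0 := by
          apply β'inj n
          rw [map_smul, hu, map_zero]
          exact hz f List.mem_cons_self
        obtain ⟨x, hx⟩ := E1 (f ^ n) (Kn M fs n) i (i + 1) rfl u hfu
        exact ⟨x, by show β' n (δ n x) = z; rw [show δ n x = u from hx, hu]⟩

theorem vanishZ [IsNoetherianRing A] (hM : Module.Injective A M) :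
    ∀ (fs : List A) (j : ℤ), -(fs.length : ℤ) < j →
    ∀ (n : ℕ) (x : ((Kn M fs n).homology j : ModuleCat.{u} A)),
      ∃ (m : ℕ) (h : n ≤ m), (homologyMap (CohIII.koszulTrans M n m h fs) j).hom x = 0 := by
  intro fs
  induction fs with
  | nil =>
    intro j hj n x
    have hj0 : 0 < j := by simpa using hj
    have hz : IsZero ((Kn M [] n).homology j) :=
      isZero_homology_of_isZero_X _ j
        (HomologicalComplex.isZero_single_obj_X (ComplexShape.up ℤ) 0 M j (ne_of_gt hj0))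
    haveI := ModuleCat.subsingleton_of_isZero hz
    refine ⟨n, le_rfl, ?_⟩
    rw [Subsingleton.elim x 0, map_zero]
  | cons f fs ih =>
    intro j hj n x
    have hj' : -(fs.length : ℤ) < j + 1 := by
      simp only [List.length_cons] at hj
      push_cast at hj
      omega
    let δ : ∀ n : ℕ, ((Cn M f fs n).homology j : ModuleCat.{u} A) →ₗ[A]
        ((Kn M fs n).homology (j + 1) : ModuleCat.{u} A) :=
      fun n => (homologyδOfTriangle (mappingCone.triangle (f ^ n • 𝟙 (Kn M fs n))) j (j + 1)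
        rfl).hom
    change ((Cn M f fs n).homology j : ModuleCat.{u} A) at x
    obtain ⟨m, hnm, hm⟩ := ih (j + 1) hj' n (δ n x)
    have hδx₁ : δ m ((homologyMap (Tn M f fs n m hnm) j).hom x) = 0 := by
      rw [show δ m ((homologyMap (Tn M f fs n m hnm) j).hom x) =
        (homologyMap (CohIII.koszulTrans M n m hnm fs) (j + 1)).hom (δ n x) from
        δ_nat_apply _ _ _ _ _ j (j + 1) rfl x]
      exact hm
    obtain ⟨y, hy⟩ := E3 (f ^ m) (Kn M fs m) j (j + 1) rfl _ hδx₁
    have step2 : ∃ (m' : ℕ) (hmm' : m ≤ m') (w : ((Kn M fs m').homology j : ModuleCat.{u} A)),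
        f ^ (m' - m) • (homologyMap (CohIII.koszulTrans M m m' hmm' fs) j).hom y = f ^ m' • w := by
      by_cases hjb : -(fs.length : ℤ) < j
      · obtain ⟨m', hmm', h0⟩ := ih j hjb m y
        exact ⟨m', hmm', 0, by rw [h0, smul_zero, smul_zero]⟩
      · have hjb' : j = -(fs.length : ℤ) := by omega
        obtain ⟨β, βinj, βcompat, βrange⟩ := bottomB M fs j hjb'
        have hz : ∀ g ∈ fs, g ^ m • β m y = 0 := (βrange m (β m y)).1 ⟨y, rfl⟩
        obtain ⟨m', z, hmm', hz', heq⟩ := divis M hM f fs m (β m y) hz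
        obtain ⟨w, hw⟩ := (βrange m' z).2 hz'
        refine ⟨m', hmm', w, βinj m' ?_⟩
        rw [map_smul, map_smul, βcompat, hw, heq]
    obtain ⟨m', hmm', w, hw⟩ := step2
    refine ⟨m', hnm.trans hmm', ?_⟩
    show (homologyMap (CohIII.koszulTrans M n m' (hnm.trans hmm') (f :: fs)) j).hom x = 0
    rw [← trans_comp M n m m' hnm hmm' (f :: fs), homologyMap_comp]
    show (homologyMap (Tn M f fs m m' hmm') j).hom ((homologyMap (Tn M f fs n m hnm) j).hom x) = 0
    rw [← hy]
    rw [show (homologyMap (Tn M f fs m m' hmm') j).hom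
        ((homologyMap (mappingCone.inr (f ^ m • 𝟙 (Kn M fs m))) j).hom y) =
      (homologyMap (mappingCone.inr (f ^ m' • 𝟙 (Kn M fs m'))) j).hom
        ((homologyMap (f ^ (m' - m) • CohIII.koszulTrans M m m' hmm' fs) j).hom y) from
      inr_nat_apply _ _ _ _ _ j y]
    rw [Groth.Agent.Lib.KoszulDepthH7.homologyMap_smul, ModuleCat.hom_smul, LinearMap.smul_apply, hw]
    exact E2 (f ^ m') (Kn M fs m') j w

end main

theorem main [IsNoetherianRing A] (fs : List A) (M : Type u) [AddCommGroup M] [Module A M]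
    (hM : Module.Injective A M) (i : ℕ) (hi : 0 < i) :
    Subsingleton (CohIII.koszulHLim fs (ModuleCat.of A M) i) := by
  have key : ∀ a : CohIII.koszulHLim fs (ModuleCat.of A M) i, a = 0 := by
    intro a
    unfold CohIII.koszulHLim at a ⊢
    obtain ⟨n, x, rfl⟩ := Module.DirectLimit.exists_of a
    obtain ⟨m, h, hx⟩ := vanishZ (ModuleCat.of A M) hM fs ((i : ℤ) - fs.length) (by omega) n x
    rw [← Module.DirectLimit.of_f (hij := h)]
    erw [hx]
    rw [map_zero]
  exact ⟨fun a b => by rw [key a, key b]⟩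

end Groth.Agent.Lib.KoszulLim_helper6
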