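import Mathlib
import Groth.Prelude.Def_ega3
import Groth.Agent.Lib.KoszulLim_helper6
import Groth.Agent.Lib.ExtCechFun_helper7

/-!
# Local cohomology as the direct limit of Koszul cohomology of powers (helper6)
-/

set_option autoImplicit false
universe u
open CategoryTheory CategoryTheory.Limits CochainComplex HomologicalComplex

namespace Groth.Agent.Lib.KoszulLim2_helper6

open Groth.Agent.Lib.KoszulLim_helper6 Groth.Agent.Lib.InjHull_helper3 Groth.Agent.Lib.KoszulDepthH7
open Groth.Agent.DepthLib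

variable {A : Type u} [CommRing A]

section basics

lemma map_congr {K₁ L₁ K₂ L₂ : CochainComplex (ModuleCat.{u} A) ℤ} (φ₁ : K₁ ⟶ L₁) (φ₂ : K₂ ⟶ L₂)
    {a a' : K₁ ⟶ K₂} {b b' : L₁ ⟶ L₂} (ha : a = a') (hb : b = b')
    (comm : φ₁ ≫ b = a ≫ φ₂) (comm' : φ₁ ≫ b' = a' ≫ φ₂) :
    mappingCone.map φ₁ φ₂ a b comm = mappingCone.map φ₁ φ₂ a' b' comm' := by
  subst ha
  subst hb
  rfl

lemma trans_id (M : ModuleCat.{u} A) (n : ℕ) :
    ∀ fs : List A, CohIII.koszulTrans M n n le_rfl fs = 𝟙 _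
  | [] => rfl
  | f :: fs => by
    show Tn M f fs n n le_rfl = 𝟙 _
    have h1 : CohIII.koszulTrans M n n le_rfl fs = 𝟙 _ := trans_id M n fs
    have h2 : f ^ (n - n) • CohIII.koszulTrans M n n le_rfl fs = 𝟙 _ := by
      rw [Nat.sub_self, pow_zero, one_smul, h1]
    exact (map_congr _ _ h1 h2 _ (by rw [Category.comp_id, Category.id_comp])).trans
      (mappingCone.map_id _)

lemma kcomm (c : A) {K K' : CochainComplex (ModuleCat.{u} A) ℤ} (τ : K ⟶ K') :
    (c • 𝟙 K) ≫ τ = τ ≫ (c • 𝟙 K') := by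
  rw [Linear.smul_comp, Linear.comp_smul, Category.id_comp, Category.comp_id]

/-- functoriality of the Koszul complex in the module -/
noncomputable def kMap {M N : ModuleCat.{u} A} (g : M ⟶ N) :
    (l : List A) → (CohIII.koszulCx M l ⟶ CohIII.koszulCx N l)
  | [] => (HomologicalComplex.single (ModuleCat.{u} A) (ComplexShape.up ℤ) 0).map g
  | f :: l => mappingCone.map (f • 𝟙 (CohIII.koszulCx M l)) (f • 𝟙 (CohIII.koszulCx N l))
      (kMap g l) (kMap g l) (kcomm f _)

lemma kMap_comp_zero {M N P : ModuleCat.{u} A} (g : M ⟶ N) (g' : N ⟶ P) (h : g ≫ g' = 0) :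
    ∀ l : List A, kMap g l ≫ kMap g' l = 0
  | [] => by
    show (HomologicalComplex.single (ModuleCat.{u} A) (ComplexShape.up ℤ) 0).map g ≫
      (HomologicalComplex.single (ModuleCat.{u} A) (ComplexShape.up ℤ) 0).map g' = 0
    rw [← Functor.map_comp, h, Functor.map_zero]
  | f :: l => Groth.Agent.Lib.ExtCechH7.coneMap_comp_zero _ _ _ _ _ _ _ (kcomm f _) (kcomm f _)
      (kMap_comp_zero g g' h l) (kMap_comp_zero g g' h l)

/-- the short complex of Koszul complexes -/
noncomputable def kSC (S : ShortComplex (ModuleCat.{u} A)) (l : List A) :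
    ShortComplex (CochainComplex (ModuleCat.{u} A) ℤ) :=
  ShortComplex.mk (kMap S.f l) (kMap S.g l) (kMap_comp_zero S.f S.g S.zero l)

theorem kSC_shortExact (S : ShortComplex (ModuleCat.{u} A)) (hS : S.ShortExact) :
    ∀ l : List A, (kSC S l).ShortExact
  | [] => hS.map_of_exact (HomologicalComplex.single (ModuleCat.{u} A) (ComplexShape.up ℤ) 0)
  | f :: l => by
    have hT := kSC_shortExact S hS l
    apply HomologicalComplex.shortExact_of_degreewise_shortExact
    intro p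
    have hm := hT.map_of_exact (HomologicalComplex.eval (ModuleCat.{u} A) (ComplexShape.up ℤ) (p + 1))
    have hn := hT.map_of_exact (HomologicalComplex.eval (ModuleCat.{u} A) (ComplexShape.up ℤ) p)
    have ha : Function.Injective ((kMap S.f l).f (p + 1)).hom :=
      (ModuleCat.mono_iff_injective _).1 hm.mono_f
    have ha' : Function.Surjective ((kMap S.g l).f (p + 1)).hom :=
      (ModuleCat.epi_iff_surjective _).1 hm.epi_g
    have hae : Function.Exact ((kMap S.f l).f (p + 1)).hom ((kMap S.g l).f (p + 1)).hom :=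
      (ShortComplex.ShortExact.moduleCat_exact_iff_function_exact _).1 hm.exact
    have hb : Function.Injective ((kMap S.f l).f p).hom :=
      (ModuleCat.mono_iff_injective _).1 hn.mono_f
    have hb' : Function.Surjective ((kMap S.g l).f p).hom :=
      (ModuleCat.epi_iff_surjective _).1 hn.epi_g
    have hbe : Function.Exact ((kMap S.f l).f p).hom ((kMap S.g l).f p).hom :=
      (ShortComplex.ShortExact.moduleCat_exact_iff_function_exact _).1 hn.exact
    obtain ⟨h1, h2, h3⟩ := Groth.Agent.Lib.ExtCechH7.cone_exact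
      (f • 𝟙 (CohIII.koszulCx S.X₁ l)) (f • 𝟙 (CohIII.koszulCx S.X₂ l))
      (f • 𝟙 (CohIII.koszulCx S.X₃ l)) (kMap S.f l) (kMap S.g l) (kMap S.f l) (kMap S.g l)
      (kcomm f _) (kcomm f _) p (p + 1) rfl ha hb ha' hb' hae hbe
    exact
      { exact := (ShortComplex.ShortExact.moduleCat_exact_iff_function_exact _).2 h3
        mono_f := (ModuleCat.mono_iff_injective _).2 h1
        epi_g := (ModuleCat.epi_iff_surjective _).2 h2 }

lemma kMap_trans {M N : ModuleCat.{u} A} (g : M ⟶ N) (n m : ℕ) (h : n ≤ m) : ∀ fs : List A,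
    kMap g (fs.map (· ^ n)) ≫ CohIII.koszulTrans N n m h fs =
      CohIII.koszulTrans M n m h fs ≫ kMap g (fs.map (· ^ m))
  | [] => by
    show (HomologicalComplex.single (ModuleCat.{u} A) (ComplexShape.up ℤ) 0).map g ≫ 𝟙 _ =
      𝟙 _ ≫ (HomologicalComplex.single (ModuleCat.{u} A) (ComplexShape.up ℤ) 0).map g
    rw [Category.comp_id, Category.id_comp]
  | f :: fs => by
    have ih := kMap_trans g n m h fs
    show mappingCone.map (f ^ n • 𝟙 (Kn M fs n)) (f ^ n • 𝟙 (Kn N fs n))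
        (kMap g (fs.map (· ^ n))) (kMap g (fs.map (· ^ n))) (kcomm _ _) ≫ Tn N f fs n m h =
      Tn M f fs n m h ≫ mappingCone.map (f ^ m • 𝟙 (Kn M fs m)) (f ^ m • 𝟙 (Kn N fs m))
        (kMap g (fs.map (· ^ m))) (kMap g (fs.map (· ^ m))) (kcomm _ _)
    unfold Tn
    rw [← mappingCone.map_comp, ← mappingCone.map_comp]
    exact map_congr _ _ ih (by rw [Linear.comp_smul, Linear.smul_comp, ih]) _ _

/-- the transition maps as a morphism of short complexes -/
noncomputable def kSCtrans (S : ShortComplex (ModuleCat.{u} A)) (fs : List A) (n m : ℕ)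
    (h : n ≤ m) : kSC S (fs.map (· ^ n)) ⟶ kSC S (fs.map (· ^ m)) where
  τ₁ := CohIII.koszulTrans S.X₁ n m h fs
  τ₂ := CohIII.koszulTrans S.X₂ n m h fs
  τ₃ := CohIII.koszulTrans S.X₃ n m h fs
  comm₁₂ := (kMap_trans S.f n m h fs).symm
  comm₂₃ := (kMap_trans S.g n m h fs).symm

end basics

section limit

variable (fs : List A) (j : ℤ)

/-- the graded pieces of the directed system -/
abbrev Gj (M : ModuleCat.{u} A) (n : ℕ) : Type u := ((Kn M fs n).homology j : ModuleCat.{u} A)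

/-- the transition maps -/
noncomputable abbrev tj (M : ModuleCat.{u} A) (n m : ℕ) (h : n ≤ m) :
    Gj fs j M n →ₗ[A] Gj fs j M m :=
  (homologyMap (CohIII.koszulTrans M n m h fs) j).hom

instance dirSys (M : ModuleCat.{u} A) :
    DirectedSystem (Gj fs j M) (fun n m h => tj fs j M n m h) where
  map_self n x := by
    show (homologyMap (CohIII.koszulTrans M n n le_rfl fs) j).hom x = x
    rw [trans_id, homologyMap_id]
    rfl
  map_map k l i hil hlk x := by
    show (homologyMap (CohIII.koszulTrans M l k hlk fs) j).hom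
      ((homologyMap (CohIII.koszulTrans M i l hil fs) j).hom x) =
        (homologyMap (CohIII.koszulTrans M i k (hil.trans hlk) fs) j).hom x
    rw [← trans_comp M i l k hil hlk fs, homologyMap_comp]
    rfl

/-- the direct limit -/
abbrev Lj (M : ModuleCat.{u} A) : Type u := Module.DirectLimit (Gj fs j M) (tj fs j M)

lemma tj_kMap {M N : ModuleCat.{u} A} (g : M ⟶ N) (n m : ℕ) (h : n ≤ m) (x : Gj fs j M n) :
    (homologyMap (kMap g (fs.map (· ^ m))) j).hom (tj fs j M n m h x) =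
      tj fs j N n m h ((homologyMap (kMap g (fs.map (· ^ n))) j).hom x) := by
  have e := congrArg (fun t : Kn M fs n ⟶ Kn N fs m => homologyMap t j) (kMap_trans g n m h fs)
  simp only [homologyMap_comp] at e
  exact (LinearMap.congr_fun (congrArg ModuleCat.Hom.hom e) x).symm

/-- the induced map on direct limits -/
noncomputable def Lmap {M N : ModuleCat.{u} A} (g : M ⟶ N) : Lj fs j M →ₗ[A] Lj fs j N :=
  Module.DirectLimit.lift A ℕ (Gj fs j M) (tj fs j M)
    (fun n => (Module.DirectLimit.of A ℕ (Gj fs j N) (tj fs j N) n).comp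
      (homologyMap (kMap g (fs.map (· ^ n))) j).hom)
    (by
      intro n m h x
      show Module.DirectLimit.of A ℕ (Gj fs j N) (tj fs j N) m
        ((homologyMap (kMap g (fs.map (· ^ m))) j).hom (tj fs j M n m h x)) =
          Module.DirectLimit.of A ℕ (Gj fs j N) (tj fs j N) n
            ((homologyMap (kMap g (fs.map (· ^ n))) j).hom x)
      rw [tj_kMap, Module.DirectLimit.of_f])

lemma Lmap_of {M N : ModuleCat.{u} A} (g : M ⟶ N) (n : ℕ) (x : Gj fs j M n) :
    Lmap fs j g (Module.DirectLimit.of A ℕ (Gj fs j M) (tj fs j M) n x) =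
      Module.DirectLimit.of A ℕ (Gj fs j N) (tj fs j N) n
        ((homologyMap (kMap g (fs.map (· ^ n))) j).hom x) :=
  Module.DirectLimit.lift_of _ _ _

end limit

section dL

variable (fs : List A) (S : ShortComplex (ModuleCat.{u} A)) (hS : S.ShortExact) (j j' : ℤ)
  (hj : j + 1 = j')

/-- connecting map at level `n` -/
noncomputable def δn (n : ℕ) : Gj fs j S.X₃ n →ₗ[A] Gj fs j' S.X₁ n :=
  ((kSC_shortExact S hS (fs.map (· ^ n))).δ j j' hj).hom

lemma δn_nat (n m : ℕ) (h : n ≤ m) (x : Gj fs j S.X₃ n) :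
    δn fs S hS j j' hj m (tj fs j S.X₃ n m h x) = tj fs j' S.X₁ n m h (δn fs S hS j j' hj n x) := by
  have e := HomologicalComplex.HomologySequence.δ_naturality (kSCtrans S fs n m h)
    (kSC_shortExact S hS (fs.map (· ^ n))) (kSC_shortExact S hS (fs.map (· ^ m))) j j' hj
  exact (LinearMap.congr_fun (congrArg ModuleCat.Hom.hom e) x).symm

/-- the connecting map on direct limits -/
noncomputable def dL : Lj fs j S.X₃ →ₗ[A] Lj fs j' S.X₁ :=
  Module.DirectLimit.lift A ℕ (Gj fs j S.X₃) (tj fs j S.X₃)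
    (fun n => (Module.DirectLimit.of A ℕ (Gj fs j' S.X₁) (tj fs j' S.X₁) n).comp
      (δn fs S hS j j' hj n))
    (by
      intro n m h x
      show Module.DirectLimit.of A ℕ (Gj fs j' S.X₁) (tj fs j' S.X₁) m
        (δn fs S hS j j' hj m (tj fs j S.X₃ n m h x)) =
          Module.DirectLimit.of A ℕ (Gj fs j' S.X₁) (tj fs j' S.X₁) n (δn fs S hS j j' hj n x)
      rw [δn_nat, Module.DirectLimit.of_f])

lemma dL_of (n : ℕ) (x : Gj fs j S.X₃ n) :
    dL fs S hS j j' hj (Module.DirectLimit.of A ℕ (Gj fs j S.X₃) (tj fs j S.X₃) n x) =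
      Module.DirectLimit.of A ℕ (Gj fs j' S.X₁) (tj fs j' S.X₁) n (δn fs S hS j j' hj n x) :=
  Module.DirectLimit.lift_of _ _ _

theorem dL_surjective
    (hvan : ∀ (n : ℕ) (x : Gj fs j' S.X₂ n), ∃ (m : ℕ) (h : n ≤ m), tj fs j' S.X₂ n m h x = 0) :
    Function.Surjective (dL fs S hS j j' hj) := by
  intro z
  obtain ⟨n, zn, rfl⟩ := Module.DirectLimit.exists_of z
  obtain ⟨m, h, hm⟩ := hvan n ((homologyMap (kMap S.f (fs.map (· ^ n))) j').hom zn)
  have h0 : (homologyMap (kMap S.f (fs.map (· ^ m))) j').hom (tj fs j' S.X₁ n m h zn) = 0 := by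
    rw [tj_kMap, hm]
  have hex := (ShortComplex.ShortExact.moduleCat_exact_iff_function_exact _).1
    ((kSC_shortExact S hS (fs.map (· ^ m))).homology_exact₁ j j' hj)
  obtain ⟨y, hy⟩ := (hex _).1 h0
  refine ⟨Module.DirectLimit.of A ℕ _ _ m y, ?_⟩
  rw [dL_of, show δn fs S hS j j' hj m y = tj fs j' S.X₁ n m h zn from hy,
    Module.DirectLimit.of_f]

theorem dL_eq_zero_iff (z : Lj fs j S.X₃) :
    dL fs S hS j j' hj z = 0 ↔ ∃ y : Lj fs j S.X₂, Lmap fs j S.g y = z := by
  constructor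
  · intro hz
    obtain ⟨n, zn, rfl⟩ := Module.DirectLimit.exists_of z
    rw [dL_of] at hz
    obtain ⟨m, h, hm⟩ := Module.DirectLimit.of.zero_exact hz
    have h0 : δn fs S hS j j' hj m (tj fs j S.X₃ n m h zn) = 0 := by
      rw [δn_nat]
      exact hm
    have hex := (ShortComplex.ShortExact.moduleCat_exact_iff_function_exact _).1
      ((kSC_shortExact S hS (fs.map (· ^ m))).homology_exact₃ j j' hj)
    obtain ⟨y, hy⟩ := (hex _).1 h0
    refine ⟨Module.DirectLimit.of A ℕ _ _ m y, ?_⟩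
    rw [Lmap_of, show (homologyMap (kMap S.g (fs.map (· ^ m))) j).hom y =
      tj fs j S.X₃ n m h zn from hy, Module.DirectLimit.of_f]
  · rintro ⟨y, rfl⟩
    obtain ⟨n, yn, rfl⟩ := Module.DirectLimit.exists_of y
    rw [Lmap_of, dL_of]
    have hex := (ShortComplex.ShortExact.moduleCat_exact_iff_function_exact _).1
      ((kSC_shortExact S hS (fs.map (· ^ n))).homology_exact₃ j j' hj)
    rw [show δn fs S hS j j' hj n ((homologyMap (kMap S.g (fs.map (· ^ n))) j).hom yn) = 0 from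
      hex.apply_apply_eq_zero yn, map_zero]

end dL

section bottom

/-- the three properties of a bottom identification -/
def IsBot (M : ModuleCat.{u} A) (fs : List A) (i : ℤ) (β : ∀ n : ℕ, Gj fs i M n →ₗ[A] M) : Prop :=
  (∀ n, Function.Injective (β n)) ∧
  (∀ (n m : ℕ) (h : n ≤ m) (x : Gj fs i M n), β m (tj fs i M n m h x) = β n x) ∧
  (∀ (n : ℕ) (z : M), z ∈ LinearMap.range (β n) ↔ ∀ a ∈ fs, a ^ n • z = 0)

/-- the connecting map of the outer cone -/
noncomputable def δK (M : ModuleCat.{u} A) (f : A) (fs : List A) (i i' : ℤ) (h : i + 1 = i')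
    (n : ℕ) : Gj (f :: fs) i M n →ₗ[A] Gj fs i' M n :=
  (homologyδOfTriangle (mappingCone.triangle (f ^ n • 𝟙 (Kn M fs n))) i i' h).hom

/-- bottom identification for the empty list -/
noncomputable def β0 (M : ModuleCat.{u} A) (n : ℕ) : Gj ([] : List A) 0 M n →ₗ[A] M :=
  (HomologicalComplex.singleObjHomologySelfIso (ComplexShape.up ℤ) 0 M).toLinearEquiv.toLinearMap

lemma isBot_nil (M : ModuleCat.{u} A) : IsBot M [] 0 (β0 M) := by
  refine ⟨fun n =>
    (HomologicalComplex.singleObjHomologySelfIso (ComplexShape.up ℤ) 0 M).toLinearEquiv.injective,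
    ?_, ?_⟩
  · intro n m h x
    show (HomologicalComplex.singleObjHomologySelfIso (ComplexShape.up ℤ) 0 M).toLinearEquiv
      ((homologyMap (𝟙 ((HomologicalComplex.single (ModuleCat.{u} A)
        (ComplexShape.up ℤ) 0).obj M)) 0).hom x) =
      (HomologicalComplex.singleObjHomologySelfIso (ComplexShape.up ℤ) 0 M).toLinearEquiv x
    rw [homologyMap_id]
    rfl
  · intro n z
    constructor
    · intro _ g hg
      simp at hg
    · intro _
      exact ⟨(HomologicalComplex.singleObjHomologySelfIso (ComplexShape.up ℤ) 0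
        M).toLinearEquiv.symm z, LinearEquiv.apply_symm_apply _ z⟩

lemma isBot_cons (M : ModuleCat.{u} A) (f : A) (fs : List A) (i : ℤ)
    (hij : i + 1 = -(fs.length : ℤ)) (β' : ∀ n : ℕ, Gj fs (i + 1) M n →ₗ[A] M)
    (hβ' : IsBot M fs (i + 1) β') :
    IsBot M (f :: fs) i (fun n => (β' n).comp (δK M f fs i (i + 1) rfl n)) := by
  obtain ⟨β'inj, β'compat, β'range⟩ := hβ'
  have δinj : ∀ n, Function.Injective (δK M f fs i (i + 1) rfl n) := by
    intro n
    rw [injective_iff_map_eq_zero]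
    intro x hx
    obtain ⟨y, hy⟩ := E3 (f ^ n) (Kn M fs n) i (i + 1) rfl x hx
    have hz : IsZero ((Kn M fs n).homology i) :=
      isZero_homology_of_isZero_X _ i (isZero_X_of_lt M _ i (by rw [List.length_map]; omega))
    haveI := ModuleCat.subsingleton_of_isZero hz
    rw [← hy, Subsingleton.elim y 0, map_zero]
    rfl
  refine ⟨fun n => (β'inj n).comp (δinj n), ?_, ?_⟩
  · intro n m h x
    show β' m (δK M f fs i (i + 1) rfl m ((homologyMap (Tn M f fs n m h) i).hom x)) =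
      β' n (δK M f fs i (i + 1) rfl n x)
    rw [show δK M f fs i (i + 1) rfl m ((homologyMap (Tn M f fs n m h) i).hom x) =
      (homologyMap (CohIII.koszulTrans M n m h fs) (i + 1)).hom (δK M f fs i (i + 1) rfl n x) from
      δ_nat_apply _ _ _ _ _ i (i + 1) rfl x]
    exact β'compat n m h (δK M f fs i (i + 1) rfl n x)
  · intro n z
    constructor
    · rintro ⟨x, rfl⟩ g hg
      obtain hgf | hg' := List.mem_cons.1 hg
      · show g ^ n • β' n (δK M f fs i (i + 1) rfl n x) = 0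
        rw [hgf, ← map_smul, show f ^ n • δK M f fs i (i + 1) rfl n x = 0 from
          E1' (f ^ n) (Kn M fs n) i (i + 1) rfl x, map_zero]
      · exact (β'range n _).1 ⟨δK M f fs i (i + 1) rfl n x, rfl⟩ g hg'
    · intro hz
      obtain ⟨u, hu⟩ := (β'range n z).2 (fun g hg => hz g (List.mem_cons_of_mem _ hg))
      have hfu : f ^ n • u = 0 := by
        apply β'inj n
        rw [map_smul, hu, map_zero]
        exact hz f List.mem_cons_self
      obtain ⟨x, hx⟩ := E1 (f ^ n) (Kn M fs n) i (i + 1) rfl u hfu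
      exact ⟨x, by
        show β' n (δK M f fs i (i + 1) rfl n x) = z
        rw [show δK M f fs i (i + 1) rfl n x = u from hx, hu]⟩

theorem bottomB₂ {M N : ModuleCat.{u} A} (g : M ⟶ N) :
    ∀ (fs : List A) (i : ℤ), i = -(fs.length : ℤ) →
    ∃ (βM : ∀ n : ℕ, Gj fs i M n →ₗ[A] M) (βN : ∀ n : ℕ, Gj fs i N n →ₗ[A] N),
      IsBot M fs i βM ∧ IsBot N fs i βN ∧
      ∀ (n : ℕ) (x : Gj fs i M n),
        βN n ((homologyMap (kMap g (fs.map (· ^ n))) i).hom x) = g.hom (βM n x) := by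
  intro fs
  induction fs with
  | nil =>
    intro i hi
    have hi0 : i = 0 := by simpa using hi
    subst hi0
    refine ⟨β0 M, β0 N, isBot_nil M, isBot_nil N, ?_⟩
    intro n x
    have h := HomologicalComplex.singleObjHomologySelfIso_hom_naturality (ComplexShape.up ℤ) 0 g
    exact congrArg (fun φ => φ.hom x) h
  | cons f fs ih =>
    intro i hi
    have hij : i + 1 = -(fs.length : ℤ) := by
      simp only [List.length_cons] at hi
      push_cast at hi
      omega
    obtain ⟨βM', βN', hM', hN', hnat⟩ := ih (i + 1) hij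
    refine ⟨_, _, isBot_cons M f fs i hij βM' hM', isBot_cons N f fs i hij βN' hN', ?_⟩
    intro n x
    show βN' n (δK N f fs i (i + 1) rfl n
      ((homologyMap (mappingCone.map (f ^ n • 𝟙 (Kn M fs n)) (f ^ n • 𝟙 (Kn N fs n))
        (kMap g (fs.map (· ^ n))) (kMap g (fs.map (· ^ n))) (kcomm _ _)) i).hom x)) =
      g.hom (βM' n (δK M f fs i (i + 1) rfl n x))
    rw [show δK N f fs i (i + 1) rfl n
      ((homologyMap (mappingCone.map (f ^ n • 𝟙 (Kn M fs n)) (f ^ n • 𝟙 (Kn N fs n))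
        (kMap g (fs.map (· ^ n))) (kMap g (fs.map (· ^ n))) (kcomm _ _)) i).hom x) =
      (homologyMap (kMap g (fs.map (· ^ n))) (i + 1)).hom (δK M f fs i (i + 1) rfl n x) from
      δ_nat_apply _ _ _ _ _ i (i + 1) rfl x]
    exact hnat n _

lemma uniform_pow {N : Type u} [AddCommGroup N] [Module A N] (z : N) :
    ∀ fs : List A, (∀ a ∈ fs, ∃ n : ℕ, a ^ n • z = 0) → ∃ n : ℕ, ∀ a ∈ fs, a ^ n • z = 0
  | [], _ => ⟨0, fun a ha => by simp at ha⟩
  | f :: fs, h => by
    obtain ⟨n₁, h₁⟩ := h f List.mem_cons_self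
    obtain ⟨n₂, h₂⟩ := uniform_pow z fs (fun a ha => h a (List.mem_cons_of_mem _ ha))
    refine ⟨n₁ + n₂, fun a ha => ?_⟩
    obtain haf | ha' := List.mem_cons.1 ha
    · rw [haf, pow_add, mul_comm, mul_smul, h₁, smul_zero]
    · rw [pow_add, mul_smul, h₂ a ha', smul_zero]

variable (M : ModuleCat.{u} A) (fs : List A) (i : ℤ) (β : ∀ n : ℕ, Gj fs i M n →ₗ[A] M)
  (hβ : IsBot M fs i β)

/-- the map from the limit to the module -/
noncomputable def εL : Lj fs i M →ₗ[A] M :=
  Module.DirectLimit.lift A ℕ (Gj fs i M) (tj fs i M) β hβ.2.1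

lemma εL_of (n : ℕ) (x : Gj fs i M n) :
    εL M fs i β hβ (Module.DirectLimit.of A ℕ (Gj fs i M) (tj fs i M) n x) = β n x :=
  Module.DirectLimit.lift_of _ _ _

lemma εL_injective : Function.Injective (εL M fs i β hβ) :=
  Module.DirectLimit.lift_injective _ _ hβ.1

lemma εL_range : LinearMap.range (εL M fs i β hβ) = Γ (Ideal.span {x | x ∈ fs}) M := by
  ext z
  rw [← mem_Γ_span_iff' fs M z]
  constructor
  · rintro ⟨y, rfl⟩
    obtain ⟨n, x, rfl⟩ := Module.DirectLimit.exists_of y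
    rw [εL_of]
    intro a ha
    exact ⟨n, (hβ.2.2 n (β n x)).1 ⟨x, rfl⟩ a ha⟩
  · intro h
    obtain ⟨n, hn⟩ := uniform_pow z fs h
    obtain ⟨x, hx⟩ := (hβ.2.2 n z).2 hn
    exact ⟨Module.DirectLimit.of A ℕ _ _ n x, by rw [εL_of, hx]⟩

/-- the degree zero identification -/
noncomputable def eL : Lj fs i M ≃ₗ[A] ↥(Γ (Ideal.span {x | x ∈ fs}) M) :=
  (LinearEquiv.ofInjective (εL M fs i β hβ) (εL_injective M fs i β hβ)).trans
    (LinearEquiv.ofEq _ _ (εL_range M fs i β hβ))

lemma eL_coe (y : Lj fs i M) : ((eL M fs i β hβ y : ↥(Γ (Ideal.span {x | x ∈ fs}) M)) : M) =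
    εL M fs i β hβ y := rfl

end bottom

section main

open Groth.Agent.Lib

variable [IsNoetherianRing A]

theorem exists_e0 {M N : ModuleCat.{u} A} (g : M ⟶ N) (fs : List A) (i : ℤ)
    (hi : i = -(fs.length : ℤ)) :
    ∃ (eM : Lj fs i M ≃ₗ[A] ↥(Γ (Ideal.span {x | x ∈ fs}) M))
      (eN : Lj fs i N ≃ₗ[A] ↥(Γ (Ideal.span {x | x ∈ fs}) N)),
      ∀ y : Lj fs i M, ((eN (Lmap fs i g y) : ↥(Γ (Ideal.span {x | x ∈ fs}) N)) : N) =
        g.hom ((eM y : ↥(Γ (Ideal.span {x | x ∈ fs}) M)) : M) := by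
  obtain ⟨βM, βN, hM, hN, hnat⟩ := bottomB₂ g fs i hi
  refine ⟨eL M fs i βM hM, eL N fs i βN hN, ?_⟩
  intro y
  obtain ⟨n, x, rfl⟩ := Module.DirectLimit.exists_of y
  rw [eL_coe, eL_coe, Lmap_of, εL_of, εL_of]
  exact hnat n x

theorem deg_one (fs : List A) (M : Type u) [AddCommGroup M] [Module A M] (j j' : ℤ)
    (hj0 : j = -(fs.length : ℤ)) (hj : j + 1 = j') :
    Nonempty (Lj fs j' (ModuleCat.of A M) ≃ₗ[A] LocCoh.H (Ideal.span {x | x ∈ fs}) 1 M) := by
  obtain ⟨E, _, _, ι, hE, hι⟩ := LocCohCdSupH7.exists_injective_embedding (R := A) M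
  haveI := hE
  let T : Submodule A E := LinearMap.range ι
  have hex : Function.Exact ι T.mkQ := LinearMap.exact_map_mkQ_range ι
  have hsurj : Function.Surjective T.mkQ := Submodule.mkQ_surjective T
  let S := shortComplexOf ι T.mkQ hex
  have hS : S.ShortExact := shortComplexOf_shortExact ι T.mkQ hι hsurj hex
  obtain ⟨eE, eQ, hnat⟩ := exists_e0 S.g fs j hj0
  have hvanE : ∀ (n : ℕ) (x : Gj fs j' S.X₂ n), ∃ (m : ℕ) (h : n ≤ m),
      tj fs j' S.X₂ n m h x = 0 :=
    vanishZ S.X₂ hE fs j' (by omega)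
  let ψ : ↥(Γ (Ideal.span {x | x ∈ fs}) (E ⧸ T)) →ₗ[A] Lj fs j' (ModuleCat.of A M) :=
    (dL fs S hS j j' hj).comp eQ.symm.toLinearMap
  have hψsurj : Function.Surjective ψ :=
    (dL_surjective fs S hS j j' hj hvanE).comp eQ.symm.surjective
  have hE1 : Subsingleton (LocCoh.H (Ideal.span {x | x ∈ fs}) 1 E) :=
    LocCohInjAcycH7.main (R' := A) (Ideal.span {x | x ∈ fs}) E 1 one_pos
  have hcsurj := LocCohDeltaZeroH7.cMap_surjective (Ideal.span {x | x ∈ fs}) ι T.mkQ hι hsurj hex hE1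
  have hker : ∀ q, ψ q = 0 ↔
      LocCohDeltaZeroH7.cMap (Ideal.span {x | x ∈ fs}) ι T.mkQ hι hsurj hex q = 0 := by
    intro q
    rw [LocCohDeltaZeroH7.cMap_eq_zero_iff]
    show dL fs S hS j j' hj (eQ.symm q) = 0 ↔ _
    rw [dL_eq_zero_iff]
    constructor
    · rintro ⟨y, hy⟩
      refine ⟨(eE y).1, (eE y).2, ?_⟩
      have h1 := hnat y
      rw [hy, LinearEquiv.apply_symm_apply] at h1
      exact h1.symm
    · rintro ⟨e, he, hq⟩
      refine ⟨eE.symm ⟨e, he⟩, ?_⟩
      apply eQ.injective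
      rw [LinearEquiv.apply_symm_apply]
      apply Subtype.ext
      rw [hnat, LinearEquiv.apply_symm_apply]
      exact hq
  exact ExtCechH7.equiv_of_surj_same_ker ψ _ hψsurj hcsurj hker

theorem deg_succ (fs : List A) (p : ℕ) (j j' : ℤ) (hj0 : -(fs.length : ℤ) < j) (hj : j + 1 = j')
    (ih : ∀ (M : Type u) [AddCommGroup M] [Module A M],
      Nonempty (Lj fs j (ModuleCat.of A M) ≃ₗ[A] LocCoh.H (Ideal.span {x | x ∈ fs}) (p + 1) M))
    (M : Type u) [AddCommGroup M] [Module A M] :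
    Nonempty (Lj fs j' (ModuleCat.of A M) ≃ₗ[A]
      LocCoh.H (Ideal.span {x | x ∈ fs}) (p + 1 + 1) M) := by
  obtain ⟨E, _, _, ι, hE, hι⟩ := LocCohCdSupH7.exists_injective_embedding (R := A) M
  haveI := hE
  let T : Submodule A E := LinearMap.range ι
  have hex : Function.Exact ι T.mkQ := LinearMap.exact_map_mkQ_range ι
  have hsurj : Function.Surjective T.mkQ := Submodule.mkQ_surjective T
  let S := shortComplexOf ι T.mkQ hex
  have hS : S.ShortExact := shortComplexOf_shortExact ι T.mkQ hι hsurj hex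
  have hvanE : ∀ (n : ℕ) (x : Gj fs j' S.X₂ n), ∃ (m : ℕ) (h : n ≤ m),
      tj fs j' S.X₂ n m h x = 0 :=
    vanishZ S.X₂ hE fs j' (by omega)
  have hvanE0 : ∀ (n : ℕ) (x : Gj fs j S.X₂ n), ∃ (m : ℕ) (h : n ≤ m),
      tj fs j S.X₂ n m h x = 0 :=
    vanishZ S.X₂ hE fs j hj0
  have hbij : Function.Bijective (dL fs S hS j j' hj) := by
    refine ⟨?_, dL_surjective fs S hS j j' hj hvanE⟩
    rw [injective_iff_map_eq_zero]
    intro z hz
    obtain ⟨y, rfl⟩ := (dL_eq_zero_iff fs S hS j j' hj z).1 hz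
    obtain ⟨n, yn, rfl⟩ := Module.DirectLimit.exists_of y
    obtain ⟨m, h, hm⟩ := hvanE0 n yn
    rw [← Module.DirectLimit.of_f (hij := h), hm, map_zero, map_zero]
  let e1 := LinearEquiv.ofBijective (dL fs S hS j j' hj) hbij
  obtain ⟨e2⟩ := ih (E ⧸ T)
  have hb := LocCohDeltaZeroH7.δ_bijective (Ideal.span {x | x ∈ fs}) hS p
    (LocCohInjAcycH7.main (R' := A) (Ideal.span {x | x ∈ fs}) E (p + 1) (Nat.succ_pos p))
    (LocCohInjAcycH7.main (R' := A) (Ideal.span {x | x ∈ fs}) E (p + 2) (Nat.succ_pos _))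
  let e3 := LinearEquiv.ofBijective (LocCohLESH7.δ (Ideal.span {x | x ∈ fs}) hS p).hom hb
  exact ⟨e1.symm.trans (e2.trans e3)⟩

theorem mainEquiv (fs : List A) (i : ℕ) :
    ∀ (M : Type u) [AddCommGroup M] [Module A M],
      Nonempty (Lj fs ((i : ℤ) - fs.length) (ModuleCat.of A M) ≃ₗ[A]
        LocCoh.H (Ideal.span {x | x ∈ fs}) i M) := by
  induction i with
  | zero =>
    intro M _ _
    obtain ⟨e⟩ := LocCohDeltaZeroH7.H0_equiv' (Ideal.span {x | x ∈ fs}) M
    obtain ⟨eM, _, _⟩ := exists_e0 (𝟙 (ModuleCat.of A M)) fs (((0 : ℕ) : ℤ) - fs.length)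
      (by push_cast; ring)
    exact ⟨eM.trans e.symm⟩
  | succ p ih =>
    intro M _ _
    cases p with
    | zero =>
      exact deg_one fs M (-(fs.length : ℤ)) _ rfl (by push_cast; ring)
    | succ p =>
      exact deg_succ fs p (((p + 1 : ℕ) : ℤ) - fs.length) _ (by push_cast; omega)
        (by push_cast; ring) ih M

theorem main5173 (fs : List A) (M : Type u) [AddCommGroup M] [Module A M] (i : ℕ) :
    Nonempty (LocCoh.H (Ideal.span {a | a ∈ fs}) i M ≃ₗ[A]
      CohIII.koszulHLim fs (ModuleCat.of A M) i) := by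
  obtain ⟨e⟩ := mainEquiv fs i M
  exact ⟨e.symm⟩

end main

end Groth.Agent.Lib.KoszulLim2_helper6
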