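import Mathlib
import Groth.Prelude.Def_ega3
import Groth.Agent.Lib.KoszulLim2_helper6
import Groth.Agent.Lib.KoszulHtpy_helper7

/-!
# Direct-limit Koszul cohomology over arbitrary rings (helper9), part 1

Linearity of the Koszul complex in the module; vanishing of Koszul cohomology of the powers for
modules on which a member of the list acts bijectively, and for finite products of such.
APPEND-ONLY once landed.
-/

set_option autoImplicit false
universe u
open CategoryTheory CategoryTheory.Limits CochainComplex HomologicalComplex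

namespace Groth.Agent.Lib.KoszulCok9

open Groth.Agent.Lib.KoszulLim_helper6 Groth.Agent.Lib.KoszulLim2_helper6

variable {A : Type u} [CommRing A]

section conemap

variable {K₁ L₁ K₂ L₂ : CochainComplex (ModuleCat.{u} A) ℤ} (φ₁ : K₁ ⟶ L₁) (φ₂ : K₂ ⟶ L₂)

lemma map_add' (a a' : K₁ ⟶ K₂) (b b' : L₁ ⟶ L₂) (comm : φ₁ ≫ b = a ≫ φ₂)
    (comm' : φ₁ ≫ b' = a' ≫ φ₂) :
    mappingCone.map φ₁ φ₂ (a + a') (b + b')
        (by rw [Preadditive.comp_add, Preadditive.add_comp, comm, comm']) =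
      mappingCone.map φ₁ φ₂ a b comm + mappingCone.map φ₁ φ₂ a' b' comm' := by
  apply HomologicalComplex.hom_ext
  intro n
  rw [mappingCone.ext_from_iff _ (n + 1) n rfl]
  simp [mappingCone.map]

lemma map_smul' (c : A) (a : K₁ ⟶ K₂) (b : L₁ ⟶ L₂) (comm : φ₁ ≫ b = a ≫ φ₂) :
    mappingCone.map φ₁ φ₂ (c • a) (c • b)
        (by rw [Linear.comp_smul, Linear.smul_comp, comm]) =
      c • mappingCone.map φ₁ φ₂ a b comm := by
  apply HomologicalComplex.hom_ext
  intro n
  rw [mappingCone.ext_from_iff _ (n + 1) n rfl]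
  simp [mappingCone.map]

lemma map_zero' :
    mappingCone.map φ₁ φ₂ (0 : K₁ ⟶ K₂) (0 : L₁ ⟶ L₂) (by rw [comp_zero, zero_comp]) = 0 := by
  apply HomologicalComplex.hom_ext
  intro n
  rw [mappingCone.ext_from_iff _ (n + 1) n rfl]
  simp [mappingCone.map]

end conemap

section kmap

lemma kMap_id (M : ModuleCat.{u} A) : ∀ l : List A, kMap (𝟙 M) l = 𝟙 _
  | [] => (HomologicalComplex.single (ModuleCat.{u} A) (ComplexShape.up ℤ) 0).map_id M
  | f :: l => by
    show mappingCone.map (f • 𝟙 (CohIII.koszulCx M l)) (f • 𝟙 (CohIII.koszulCx M l))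
      (kMap (𝟙 M) l) (kMap (𝟙 M) l) (kcomm f _) = 𝟙 _
    exact (map_congr _ _ (kMap_id M l) (kMap_id M l) _
      (by rw [Category.comp_id, Category.id_comp])).trans (mappingCone.map_id _)

lemma kMap_comp {M N P : ModuleCat.{u} A} (g : M ⟶ N) (g' : N ⟶ P) :
    ∀ l : List A, kMap (g ≫ g') l = kMap g l ≫ kMap g' l
  | [] => (HomologicalComplex.single (ModuleCat.{u} A) (ComplexShape.up ℤ) 0).map_comp g g'
  | f :: l => by
    show mappingCone.map (f • 𝟙 (CohIII.koszulCx M l)) (f • 𝟙 (CohIII.koszulCx P l))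
      (kMap (g ≫ g') l) (kMap (g ≫ g') l) (kcomm f _) =
      mappingCone.map (f • 𝟙 (CohIII.koszulCx M l)) (f • 𝟙 (CohIII.koszulCx N l))
        (kMap g l) (kMap g l) (kcomm f _) ≫
      mappingCone.map (f • 𝟙 (CohIII.koszulCx N l)) (f • 𝟙 (CohIII.koszulCx P l))
        (kMap g' l) (kMap g' l) (kcomm f _)
    rw [← mappingCone.map_comp]
    exact map_congr _ _ (kMap_comp g g' l) (kMap_comp g g' l) _ _

lemma kMap_add {M N : ModuleCat.{u} A} (g g' : M ⟶ N) :
    ∀ l : List A, kMap (g + g') l = kMap g l + kMap g' l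
  | [] => (HomologicalComplex.single (ModuleCat.{u} A) (ComplexShape.up ℤ) 0).map_add
  | f :: l => by
    show mappingCone.map (f • 𝟙 (CohIII.koszulCx M l)) (f • 𝟙 (CohIII.koszulCx N l))
      (kMap (g + g') l) (kMap (g + g') l) (kcomm f _) =
      mappingCone.map (f • 𝟙 (CohIII.koszulCx M l)) (f • 𝟙 (CohIII.koszulCx N l))
        (kMap g l) (kMap g l) (kcomm f _) +
      mappingCone.map (f • 𝟙 (CohIII.koszulCx M l)) (f • 𝟙 (CohIII.koszulCx N l))
        (kMap g' l) (kMap g' l) (kcomm f _)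
    rw [← map_add']
    exact map_congr _ _ (kMap_add g g' l) (kMap_add g g' l) _ _

lemma kMap_zero (M N : ModuleCat.{u} A) : ∀ l : List A, kMap (0 : M ⟶ N) l = 0
  | [] => (HomologicalComplex.single (ModuleCat.{u} A) (ComplexShape.up ℤ) 0).map_zero M N
  | f :: l => by
    show mappingCone.map (f • 𝟙 (CohIII.koszulCx M l)) (f • 𝟙 (CohIII.koszulCx N l))
      (kMap (0 : M ⟶ N) l) (kMap (0 : M ⟶ N) l) (kcomm f _) = 0
    rw [← map_zero' (f • 𝟙 (CohIII.koszulCx M l)) (f • 𝟙 (CohIII.koszulCx N l))]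
    exact map_congr _ _ (kMap_zero M N l) (kMap_zero M N l) _ _

lemma single_map_smul {M N : ModuleCat.{u} A} (c : A) (g : M ⟶ N) :
    (HomologicalComplex.single (ModuleCat.{u} A) (ComplexShape.up ℤ) 0).map (c • g) =
      c • (HomologicalComplex.single (ModuleCat.{u} A) (ComplexShape.up ℤ) 0).map g := by
  apply HomologicalComplex.hom_ext
  intro n
  by_cases hn : n = 0
  · subst hn
    simp [HomologicalComplex.single_map_f_self]
  · apply (HomologicalComplex.isZero_single_obj_X (ComplexShape.up ℤ) 0 M n hn).eq_of_src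

lemma kMap_smul {M N : ModuleCat.{u} A} (c : A) (g : M ⟶ N) :
    ∀ l : List A, kMap (c • g) l = c • kMap g l
  | [] => single_map_smul c g
  | f :: l => by
    show mappingCone.map (f • 𝟙 (CohIII.koszulCx M l)) (f • 𝟙 (CohIII.koszulCx N l))
      (kMap (c • g) l) (kMap (c • g) l) (kcomm f _) =
      c • mappingCone.map (f • 𝟙 (CohIII.koszulCx M l)) (f • 𝟙 (CohIII.koszulCx N l))
        (kMap g l) (kMap g l) (kcomm f _)
    rw [← map_smul']
    exact map_congr _ _ (kMap_smul c g l) (kMap_smul c g l) _ _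

/-- `kMap` as an additive map. -/
noncomputable def kMapHom (M N : ModuleCat.{u} A) (l : List A) :
    (M ⟶ N) →+ (CohIII.koszulCx M l ⟶ CohIII.koszulCx N l) where
  toFun g := kMap g l
  map_zero' := kMap_zero M N l
  map_add' g g' := kMap_add g g' l

lemma kMap_sum {ι : Type*} (s : Finset ι) {M N : ModuleCat.{u} A} (g : ι → (M ⟶ N)) (l : List A) :
    kMap (∑ i ∈ s, g i) l = ∑ i ∈ s, kMap (g i) l :=
  map_sum (kMapHom M N l) g s

end kmap

section vanish

lemma isIso_pow_smul (N : ModuleCat.{u} A) (a : A) [IsIso (a • 𝟙 N)] :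
    ∀ n : ℕ, IsIso (a ^ n • 𝟙 N)
  | 0 => by rw [pow_zero, one_smul]; infer_instance
  | n + 1 => by
    haveI := isIso_pow_smul N a n
    have : a ^ (n + 1) • 𝟙 N = (a ^ n • 𝟙 N) ≫ (a • 𝟙 N) := by
      rw [Linear.smul_comp, Linear.comp_smul, Category.id_comp, smul_smul, pow_succ, mul_comm]
    rw [this]
    infer_instance

/-- Koszul cohomology of the `n`-th powers vanishes on a module on which a member of the list acts
bijectively. -/
theorem isZero_homology_of_isIso (N : ModuleCat.{u} A) (fs : List A) (a : A) (ha : a ∈ fs)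
    [IsIso (a • 𝟙 N)] (n : ℕ) (j : ℤ) : IsZero ((Kn N fs n).homology j) := by
  haveI := isIso_pow_smul N a n
  have hmem : a ^ n ∈ Ideal.span {x | x ∈ fs.map (· ^ n)} :=
    Ideal.subset_span (List.mem_map.mpr ⟨a, ha, rfl⟩)
  obtain ⟨ho⟩ := Groth.Agent.Lib.KoszulHtpyH7.main N (fs.map (· ^ n)) (a ^ n) hmem
  have h0 : homologyMap (a ^ n • 𝟙 (Kn N fs n)) j = 0 := by
    rw [ho.homologyMap_eq, homologyMap_zero]
  have h1 : kMap (a ^ n • 𝟙 N) (fs.map (· ^ n)) = a ^ n • 𝟙 (Kn N fs n) := by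
    rw [kMap_smul, kMap_id]
  have h2 : 𝟙 ((Kn N fs n).homology j) = 0 := by
    have e : 𝟙 N = (a ^ n • 𝟙 N) ≫ inv (a ^ n • 𝟙 N) := (IsIso.hom_inv_id _).symm
    have e2 : 𝟙 (Kn N fs n) = (a ^ n • 𝟙 (Kn N fs n)) ≫
        kMap (inv (a ^ n • 𝟙 N)) (fs.map (· ^ n)) := by
      rw [← h1, ← kMap_comp, ← e, kMap_id]
    rw [← homologyMap_id, e2, homologyMap_comp, h0, zero_comp]
  exact (IsZero.iff_id_eq_zero _).mpr h2

/-- Vanishing for finite products. -/
theorem isZero_homology_pi {ι : Type} [Fintype ι] (E : ι → ModuleCat.{u} A) (fs : List A) (n : ℕ)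
    (j : ℤ) (h : ∀ i, IsZero ((Kn (E i) fs n).homology j)) :
    IsZero ((Kn (ModuleCat.of A (∀ i, E i)) fs n).homology j) := by
  classical
  have hid : 𝟙 (ModuleCat.of A (∀ i, E i)) = ∑ i : ι,
      (ModuleCat.ofHom (LinearMap.proj i : (∀ i, E i) →ₗ[A] E i) ≫
        ModuleCat.ofHom (LinearMap.single A (fun i => E i) i)) := by
    apply ModuleCat.hom_ext
    apply LinearMap.ext
    intro x
    rw [ModuleCat.hom_sum]
    simp only [ModuleCat.hom_id, LinearMap.id_coe, id_eq, ModuleCat.hom_comp, ModuleCat.hom_ofHom,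
      LinearMap.sum_apply, LinearMap.coe_comp, Function.comp_apply,
      LinearMap.coe_proj, Function.eval, LinearMap.coe_single]
    exact (Finset.univ_sum_single x).symm
  have h2 : 𝟙 ((Kn (ModuleCat.of A (∀ i, E i)) fs n).homology j) = 0 := by
    rw [← homologyMap_id, ← kMap_id, hid, kMap_sum]
    have : ∀ (s : Finset ι), homologyMap (∑ i ∈ s,
        kMap (ModuleCat.ofHom (LinearMap.proj i : (∀ i, E i) →ₗ[A] E i) ≫
          ModuleCat.ofHom (LinearMap.single A (fun i => E i) i)) (fs.map (· ^ n))) j = 0 := by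
      intro s
      induction s using Finset.induction_on with
      | empty => rw [Finset.sum_empty, homologyMap_zero]
      | insert i s hi ih =>
        rw [Finset.sum_insert hi, homologyMap_add, ih, add_zero, kMap_comp, homologyMap_comp]
        rw [(h i).eq_of_tgt (homologyMap (kMap (ModuleCat.ofHom
          (LinearMap.proj i : (∀ i, E i) →ₗ[A] E i)) (fs.map (· ^ n))) j) 0, zero_comp]
    exact this Finset.univ
  exact (IsZero.iff_id_eq_zero _).mpr h2

end vanish

section coneelt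

variable {K₁ L₁ K₂ L₂ : CochainComplex (ModuleCat.{u} A) ℤ} (φ₁ : K₁ ⟶ L₁) (φ₂ : K₂ ⟶ L₂)
  (a : K₁ ⟶ K₂) (b : L₁ ⟶ L₂) (comm : φ₁ ≫ b = a ≫ φ₂)

lemma map_f_eq (j : ℤ) :
    (mappingCone.map φ₁ φ₂ a b comm).f j =
      (mappingCone.fst φ₁).1.v j (j + 1) rfl ≫ a.f (j + 1) ≫
          (mappingCone.inl φ₂).v (j + 1) j (by omega) +
        (mappingCone.snd φ₁).v j j (add_zero j) ≫ b.f j ≫ (mappingCone.inr φ₂).f j := by
  rw [mappingCone.ext_from_iff _ (j + 1) j rfl]
  simp [mappingCone.map]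

lemma map_f_apply (j : ℤ) (z : ((mappingCone φ₁).X j : ModuleCat.{u} A)) :
    ((mappingCone.map φ₁ φ₂ a b comm).f j).hom z =
      ((mappingCone.inl φ₂).v (j + 1) j (by omega)).hom ((a.f (j + 1)).hom
          (((mappingCone.fst φ₁).1.v j (j + 1) rfl).hom z)) +
        ((mappingCone.inr φ₂).f j).hom ((b.f j).hom
          (((mappingCone.snd φ₁).v j j (add_zero j)).hom z)) := by
  rw [map_f_eq]
  rfl

lemma cone_elt (j : ℤ) (z : ((mappingCone φ₁).X j : ModuleCat.{u} A)) :
    z = ((mappingCone.inl φ₁).v (j + 1) j (by omega)).hom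
          (((mappingCone.fst φ₁).1.v j (j + 1) rfl).hom z) +
        ((mappingCone.inr φ₁).f j).hom (((mappingCone.snd φ₁).v j j (add_zero j)).hom z) := by
  have h := congrArg (fun g => g.hom z) (mappingCone.id_X φ₁ j (j + 1) rfl)
  exact h.symm

end coneelt

section torsion

/-- `a`-power torsion modules. -/
def IsTors (a : A) (N : Type*) [AddCommGroup N] [Module A N] : Prop :=
  ∀ t : N, ∃ n : ℕ, a ^ n • t = 0

theorem X_tors (T : ModuleCat.{u} A) (a : A) (hT : IsTors a T) :
    ∀ (l : List A) (j : ℤ) (z : ((CohIII.koszulCx T l).X j : ModuleCat.{u} A)),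
      ∃ N : ℕ, a ^ N • z = 0
  | [], j, z => by
    by_cases hj : j = 0
    · subst hj
      change ((((HomologicalComplex.single (ModuleCat.{u} A) (ComplexShape.up ℤ) 0).obj T).X 0 :
        ModuleCat.{u} A)) at z
      let e := (HomologicalComplex.singleObjXSelf (ComplexShape.up ℤ) (0 : ℤ) T).toLinearEquiv
      obtain ⟨N, hN⟩ := hT (e z)
      refine ⟨N, ?_⟩
      show a ^ N • z = 0
      apply e.injective
      exact (map_smul e (a ^ N) z).trans (hN.trans (map_zero e).symm)
    · have hz : IsZero ((CohIII.koszulCx T []).X j) :=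
        HomologicalComplex.isZero_single_obj_X (ComplexShape.up ℤ) 0 T j hj
      haveI := ModuleCat.subsingleton_of_isZero hz
      exact ⟨0, Subsingleton.elim _ _⟩
  | f :: l, j, z => by
    change ((mappingCone (f • 𝟙 (CohIII.koszulCx T l))).X j : ModuleCat.{u} A) at z
    obtain ⟨N₁, h₁⟩ := X_tors T a hT l (j + 1)
      (((mappingCone.fst (f • 𝟙 (CohIII.koszulCx T l))).1.v j (j + 1) rfl).hom z)
    obtain ⟨N₂, h₂⟩ := X_tors T a hT l j
      (((mappingCone.snd (f • 𝟙 (CohIII.koszulCx T l))).v j j (add_zero j)).hom z)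
    refine ⟨N₁ + N₂, ?_⟩
    show a ^ (N₁ + N₂) • z = 0
    have e₁ : a ^ (N₁ + N₂) • ((mappingCone.fst (f • 𝟙 (CohIII.koszulCx T l))).1.v j (j + 1)
        rfl).hom z = 0 := by
      rw [pow_add, mul_comm, mul_smul, h₁, smul_zero]
    have e₂ : a ^ (N₁ + N₂) • ((mappingCone.snd (f • 𝟙 (CohIII.koszulCx T l))).v j j
        (add_zero j)).hom z = 0 := by
      rw [pow_add, mul_smul, h₂, smul_zero]
    have hz := cone_elt (f • 𝟙 (CohIII.koszulCx T l)) j z
    calc a ^ (N₁ + N₂) • z = a ^ (N₁ + N₂) •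
          (((mappingCone.inl (f • 𝟙 (CohIII.koszulCx T l))).v (j + 1) j (by omega)).hom
            (((mappingCone.fst (f • 𝟙 (CohIII.koszulCx T l))).1.v j (j + 1) rfl).hom z) +
          ((mappingCone.inr (f • 𝟙 (CohIII.koszulCx T l))).f j).hom
            (((mappingCone.snd (f • 𝟙 (CohIII.koszulCx T l))).v j j (add_zero j)).hom z)) :=
          congrArg (fun w => a ^ (N₁ + N₂) • w) hz
      _ = ((mappingCone.inl (f • 𝟙 (CohIII.koszulCx T l))).v (j + 1) j (by omega)).hom
            (a ^ (N₁ + N₂) •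
              ((mappingCone.fst (f • 𝟙 (CohIII.koszulCx T l))).1.v j (j + 1) rfl).hom z) +
          ((mappingCone.inr (f • 𝟙 (CohIII.koszulCx T l))).f j).hom
            (a ^ (N₁ + N₂) •
              ((mappingCone.snd (f • 𝟙 (CohIII.koszulCx T l))).v j j (add_zero j)).hom z) := by
          rw [smul_add, LinearMap.map_smul, LinearMap.map_smul]
      _ = 0 := by rw [e₁, e₂, map_zero, map_zero, add_zero]

lemma trans_f_comp (T : ModuleCat.{u} A) (fs : List A) (n m k : ℕ) (h₁ : n ≤ m) (h₂ : m ≤ k)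
    (j : ℤ) (z : ((Kn T fs n).X j : ModuleCat.{u} A)) :
    ((CohIII.koszulTrans T m k h₂ fs).f j).hom (((CohIII.koszulTrans T n m h₁ fs).f j).hom z) =
      ((CohIII.koszulTrans T n k (h₁.trans h₂) fs).f j).hom z := by
  rw [← trans_comp T n m k h₁ h₂ fs]
  rfl

/-- Cochains of positive Koszul degree of a torsion module die along the transition maps. -/
theorem trans_vanish (T : ModuleCat.{u} A) :
    ∀ (fs : List A), (∀ a ∈ fs, IsTors a T) → ∀ (j : ℤ), -(fs.length : ℤ) < j →
      ∀ (n : ℕ) (z : ((Kn T fs n).X j : ModuleCat.{u} A)),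
        ∃ m : ℕ, n ≤ m ∧ ∀ (m' : ℕ) (h : n ≤ m'), m ≤ m' →
          ((CohIII.koszulTrans T n m' h fs).f j).hom z = 0
  | [], _, j, hj, n, z => by
    have hj0 : j ≠ 0 := by
      simp only [List.length_nil, Nat.cast_zero, neg_zero] at hj
      omega
    have hz : IsZero ((Kn T [] n).X j) :=
      HomologicalComplex.isZero_single_obj_X (ComplexShape.up ℤ) 0 T j hj0
    haveI := ModuleCat.subsingleton_of_isZero hz
    refine ⟨n, le_rfl, fun m' h _ => ?_⟩
    rw [Subsingleton.elim z 0, map_zero]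
  | f :: fs, hT, j, hj, n, z => by
    have hT' : ∀ a ∈ fs, IsTors a T := fun a ha => hT a (List.mem_cons_of_mem _ ha)
    have hj' : -(fs.length : ℤ) < j + 1 := by
      simp only [List.length_cons] at hj
      push_cast at hj
      omega
    change ((Cn T f fs n).X j : ModuleCat.{u} A) at z
    obtain ⟨m₁, hm₁, H₁⟩ := trans_vanish T fs hT' (j + 1) hj' n
      (((mappingCone.fst (f ^ n • 𝟙 (Kn T fs n))).1.v j (j + 1) rfl).hom z)
    have hsnd : ∃ m₂ : ℕ, n ≤ m₂ ∧ ∀ (m' : ℕ) (h : n ≤ m'), m₂ ≤ m' →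
        ((f ^ (m' - n) • CohIII.koszulTrans T n m' h fs).f j).hom
          (((mappingCone.snd (f ^ n • 𝟙 (Kn T fs n))).v j j (add_zero j)).hom z) = 0 := by
      by_cases hjb : -(fs.length : ℤ) < j
      · obtain ⟨m₂, hm₂, H₂⟩ := trans_vanish T fs hT' j hjb n
          (((mappingCone.snd (f ^ n • 𝟙 (Kn T fs n))).v j j (add_zero j)).hom z)
        refine ⟨m₂, hm₂, fun m' h hm' => ?_⟩
        show f ^ (m' - n) • ((CohIII.koszulTrans T n m' h fs).f j).hom _ = 0
        rw [H₂ m' h hm', smul_zero]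
      · obtain ⟨N, hN⟩ := X_tors T f (hT f List.mem_cons_self) (fs.map (· ^ n)) j
          (((mappingCone.snd (f ^ n • 𝟙 (Kn T fs n))).v j j (add_zero j)).hom z)
        refine ⟨n + N, Nat.le_add_right _ _, fun m' h hm' => ?_⟩
        show f ^ (m' - n) • ((CohIII.koszulTrans T n m' h fs).f j).hom _ = 0
        rw [← map_smul, show m' - n = (m' - n - N) + N by omega, pow_add, mul_smul, hN, smul_zero,
          map_zero]
    obtain ⟨m₂, hm₂, H₂⟩ := hsnd
    refine ⟨max m₁ m₂, le_trans hm₁ (le_max_left _ _), fun m' h hm' => ?_⟩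
    show ((Tn T f fs n m' h).f j).hom z = 0
    unfold Tn
    rw [map_f_apply, H₁ m' h (le_trans (le_max_left _ _) hm'),
      H₂ m' h (le_trans (le_max_right _ _) hm'), map_zero, map_zero, add_zero]

lemma homologyMap_π_eq_zero {K L : CochainComplex (ModuleCat.{u} A) ℤ} (φ : K ⟶ L) (j : ℤ)
    (c : (K.cycles j : ModuleCat.{u} A)) (h : (φ.f j).hom ((K.iCycles j).hom c) = 0) :
    (homologyMap φ j).hom ((K.homologyπ j).hom c) = 0 := by
  have h1 : (K.homologyπ j ≫ homologyMap φ j).hom c = (cyclesMap φ j ≫ L.homologyπ j).hom c := by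
    rw [homologyπ_naturality]
  have h2 : (cyclesMap φ j).hom c = 0 := by
    have hmono : Function.Injective (L.iCycles j).hom :=
      (ModuleCat.mono_iff_injective _).1 inferInstance
    apply hmono
    rw [map_zero]
    have h3 : (cyclesMap φ j ≫ L.iCycles j).hom c = (K.iCycles j ≫ φ.f j).hom c := by
      rw [cyclesMap_i]
    exact h3.trans h
  have h4 : (homologyMap φ j).hom ((K.homologyπ j).hom c) =
      (L.homologyπ j).hom ((cyclesMap φ j).hom c) := h1
  rw [h4, h2, map_zero]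

/-- Koszul cohomology classes of positive degree of a torsion module die in the direct limit. -/
theorem tors_vanish (T : ModuleCat.{u} A) (fs : List A) (hT : ∀ a ∈ fs, IsTors a T) (j : ℤ)
    (hj : -(fs.length : ℤ) < j) (n : ℕ) (x : Gj fs j T n) :
    ∃ (m : ℕ) (h : n ≤ m), tj fs j T n m h x = 0 := by
  have hsurj : Function.Surjective ((Kn T fs n).homologyπ j).hom :=
    (ModuleCat.epi_iff_surjective _).1 inferInstance
  obtain ⟨c, rfl⟩ := hsurj x
  obtain ⟨m, hm, H⟩ := trans_vanish T fs hT j hj n (((Kn T fs n).iCycles j).hom c)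
  exact ⟨m, hm, homologyMap_π_eq_zero _ j c (H m hm le_rfl)⟩

end torsion

end Groth.Agent.Lib.KoszulCok9
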