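import Mathlib
import Groth.Prelude.Def_ega3
import Groth.Agent.Lib.KoszulCok1_helper9
import Groth.Agent.Lib.Depth_helper5

/-!
# Direct-limit Koszul cohomology over arbitrary rings (helper9), part 2

For a map `ι : M ⟶ E` of modules over any commutative ring with power-torsion kernel and with `E`
Koszul-acyclic for all the powers, `H^1((f), M) ≅ Γ_I(E / ι(M))`.
APPEND-ONLY once landed.
-/

set_option autoImplicit false
universe u
open CategoryTheory CategoryTheory.Limits CochainComplex HomologicalComplex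

namespace Groth.Agent.Lib.KoszulCok9

open Groth.Agent.Lib.KoszulLim_helper6 Groth.Agent.Lib.KoszulLim2_helper6
open Groth.Agent.Lib.InjHull_helper3 Groth.Agent.DepthLib

variable {A : Type u} [CommRing A]

section les

variable (fs : List A) (j : ℤ)

/-- Every class dies along the transition maps. -/
def Van (M : ModuleCat.{u} A) : Prop :=
  ∀ (n : ℕ) (x : Gj fs j M n), ∃ (m : ℕ) (h : n ≤ m), tj fs j M n m h x = 0

theorem Lj_eq_zero {M : ModuleCat.{u} A} (h : Van fs j M) (y : Lj fs j M) : y = 0 := by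
  obtain ⟨n, x, rfl⟩ := Module.DirectLimit.exists_of y
  obtain ⟨m, hnm, hx⟩ := h n x
  rw [← Module.DirectLimit.of_f (hij := hnm), hx, map_zero]

theorem van_of_isZero {M : ModuleCat.{u} A} (h : ∀ n, IsZero ((Kn M fs n).homology j)) :
    Van fs j M := by
  intro n x
  haveI := ModuleCat.subsingleton_of_isZero (h n)
  exact ⟨n, le_rfl, by rw [Subsingleton.elim x 0, map_zero]⟩

variable (S : ShortComplex (ModuleCat.{u} A)) (hS : S.ShortExact)

include hS in
theorem Lmap_eq_zero_iff (y : Lj fs j S.X₂) :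
    Lmap fs j S.g y = 0 ↔ ∃ x : Lj fs j S.X₁, Lmap fs j S.f x = y := by
  constructor
  · intro hy
    obtain ⟨n, yn, rfl⟩ := Module.DirectLimit.exists_of y
    rw [Lmap_of] at hy
    obtain ⟨m, h, hm⟩ := Module.DirectLimit.of.zero_exact hy
    have h0 : (homologyMap (kMap S.g (fs.map (· ^ m))) j).hom (tj fs j S.X₂ n m h yn) = 0 := by
      rw [tj_kMap]
      exact hm
    have hex := (ShortComplex.ShortExact.moduleCat_exact_iff_function_exact _).1
      ((kSC_shortExact S hS (fs.map (· ^ m))).homology_exact₂ j)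
    obtain ⟨x, hx⟩ := (hex _).1 h0
    refine ⟨Module.DirectLimit.of A ℕ _ _ m x, ?_⟩
    rw [Lmap_of, show (homologyMap (kMap S.f (fs.map (· ^ m))) j).hom x =
      tj fs j S.X₂ n m h yn from hx, Module.DirectLimit.of_f]
  · rintro ⟨x, rfl⟩
    obtain ⟨n, xn, rfl⟩ := Module.DirectLimit.exists_of x
    rw [Lmap_of, Lmap_of]
    have hex := (ShortComplex.ShortExact.moduleCat_exact_iff_function_exact _).1
      ((kSC_shortExact S hS (fs.map (· ^ n))).homology_exact₂ j)
    rw [show (homologyMap (kMap S.g (fs.map (· ^ n))) j).hom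
        ((homologyMap (kMap S.f (fs.map (· ^ n))) j).hom xn) = 0 from
      hex.apply_apply_eq_zero xn, map_zero]

include hS in
/-- If the sub is acyclic in degrees `j`, `j+1`, the quotient map is bijective on `L^j`. -/
theorem Lmap_g_bijective (j' : ℤ) (hj : j + 1 = j') (h1 : Van fs j S.X₁) (h1' : Van fs j' S.X₁) :
    Function.Bijective (Lmap fs j S.g) := by
  constructor
  · rw [injective_iff_map_eq_zero]
    intro y hy
    obtain ⟨x, rfl⟩ := (Lmap_eq_zero_iff fs j S hS y).1 hy
    rw [Lj_eq_zero fs j h1 x, map_zero]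
  · intro z
    have hz : dL fs S hS j j' hj z = 0 := Lj_eq_zero fs j' h1' _
    exact (dL_eq_zero_iff fs S hS j j' hj z).1 hz

include hS in
/-- If the middle is acyclic in degrees `j`, `j+1`, the connecting map is bijective. -/
theorem dL_bijective (j' : ℤ) (hj : j + 1 = j') (h2 : Van fs j S.X₂) (h2' : Van fs j' S.X₂) :
    Function.Bijective (dL fs S hS j j' hj) := by
  constructor
  · rw [injective_iff_map_eq_zero]
    intro z hz
    obtain ⟨y, rfl⟩ := (dL_eq_zero_iff fs S hS j j' hj z).1 hz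
    rw [Lj_eq_zero fs j h2 y, map_zero]
  · exact dL_surjective fs S hS j j' hj h2'

end les

section main

/-- `H^0((f), M) ≅ Γ_I(M)` over any ring. -/
theorem nonempty_L0_equiv (fs : List A) (M : ModuleCat.{u} A) (i : ℤ) (hi : i = -(fs.length : ℤ)) :
    Nonempty (Lj fs i M ≃ₗ[A] ↥(Γ (Ideal.span {x | x ∈ fs}) M)) := by
  obtain ⟨βM, _, hM, _, _⟩ := bottomB₂ (𝟙 M) fs i hi
  exact ⟨eL M fs i βM hM⟩

/-- `H^1((f), M) ≅ Γ_I(E/ι(M))` for `ι : M → E` with power-torsion kernel and `E` acyclic. -/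
theorem nonempty_L1_equiv (fs : List A) (M E : ModuleCat.{u} A) (ι : M ⟶ E)
    (hT : ∀ a ∈ fs, ∀ m : M, ι.hom m = 0 → ∃ n : ℕ, a ^ n • m = 0)
    (hE : ∀ (n : ℕ) (j : ℤ), IsZero ((Kn E fs n).homology j))
    (j0 j1 : ℤ) (h0 : j0 = -(fs.length : ℤ)) (h1 : j0 + 1 = j1) :
    Nonempty (Lj fs j1 M ≃ₗ[A]
      ↥(Γ (Ideal.span {x | x ∈ fs}) (E ⧸ LinearMap.range ι.hom))) := by
  let T : Submodule A M := LinearMap.ker ι.hom
  let M' : Submodule A E := LinearMap.range ι.hom
  have hex₁ : Function.Exact T.subtype ι.hom.rangeRestrict := by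
    intro m
    constructor
    · intro hm
      have : ι.hom m = 0 := congrArg Subtype.val hm
      exact ⟨⟨m, this⟩, rfl⟩
    · rintro ⟨t, rfl⟩
      apply Subtype.ext
      exact t.2
  let S₁ := shortComplexOf T.subtype ι.hom.rangeRestrict hex₁
  have hS₁ : S₁.ShortExact := shortComplexOf_shortExact _ _ T.injective_subtype
    ι.hom.surjective_rangeRestrict hex₁
  have hex₂ : Function.Exact M'.subtype M'.mkQ := LinearMap.exact_subtype_mkQ M'
  let S₂ := shortComplexOf M'.subtype M'.mkQ hex₂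
  have hS₂ : S₂.ShortExact := shortComplexOf_shortExact _ _ M'.injective_subtype
    (Submodule.mkQ_surjective M') hex₂
  -- the kernel is torsion
  have hTors : ∀ a ∈ fs, IsTors a (S₁.X₁ : ModuleCat.{u} A) := by
    intro a ha t
    obtain ⟨n, hn⟩ := hT a ha t.1 t.2
    exact ⟨n, Subtype.ext hn⟩
  have hj1 : -(fs.length : ℤ) < j1 := by omega
  have hv1 : Van fs j1 S₁.X₁ := fun n x => tors_vanish S₁.X₁ fs hTors j1 hj1 n x
  have hv2 : Van fs (j1 + 1) S₁.X₁ := fun n x =>
    tors_vanish S₁.X₁ fs hTors (j1 + 1) (by omega) n x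
  have hA := Lmap_g_bijective fs j1 S₁ hS₁ (j1 + 1) rfl hv1 hv2
  have hB := dL_bijective fs j0 S₂ hS₂ j1 h1 (van_of_isZero fs j0 (fun n => hE n j0))
    (van_of_isZero fs j1 (fun n => hE n j1))
  obtain ⟨eC⟩ := nonempty_L0_equiv fs S₂.X₃ j0 h0
  let eA := LinearEquiv.ofBijective (Lmap fs j1 S₁.g) hA
  let eB := LinearEquiv.ofBijective (dL fs S₂ hS₂ j0 j1 h1) hB
  exact ⟨eA.trans (eB.symm.trans eC)⟩

end main

end Groth.Agent.Lib.KoszulCok9
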