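import Mathlib
import Groth.Prelude.Def_ega3
import Groth.Agent.Lib.KoszulCok2_helper9
import Groth.Agent.Lib.QcqsLoc_helper9

/-!
# Sections over a union of basic opens and direct-limit Koszul cohomology (helper9), part 3

Geometric input for S2442: for a quasi-coherent module `F` on a quasi-compact quasi-separated
scheme `X`, global functions `f_1, …, f_r` and `U = ⋃ X_{f_i}`: the product `E` of the
`Γ(X_{f_i}, F)` is Koszul-acyclic, `M = Γ(X, F) → E` has power-torsion kernel, and `Γ(U, F)` is the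
preimage in `E` of the torsion of `E/M`.
APPEND-ONLY once landed.
-/

set_option autoImplicit false
universe u
open CategoryTheory CategoryTheory.Limits AlgebraicGeometry Opposite TopologicalSpace
open QcqsLoc

namespace KoszulCokG

variable {X : Scheme.{u}} (F : X.Modules)

/-- Sections of `F` over `W`, as a module over the global functions. -/
def SecA (W : X.Opens) : Type u := Γ(F, W)

noncomputable instance (W : X.Opens) : AddCommGroup (SecA F W) :=
  inferInstanceAs (AddCommGroup Γ(F, W))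

noncomputable instance (W : X.Opens) : Module Γ(X, ⊤) (SecA F W) :=
  Module.compHom Γ(F, W) (rX (le_top : W ≤ ⊤))

/-- The underlying section. -/
def SecA.val {W : X.Opens} (x : SecA F W) : Γ(F, W) := x

/-- A section as an element of `SecA`. -/
def SecA.mk {W : X.Opens} (x : Γ(F, W)) : SecA F W := x

theorem smul_def {W : X.Opens} (a : Γ(X, ⊤)) (x : SecA F W) :
    a • x = SecA.mk F (rX (le_top : W ≤ ⊤) a • SecA.val F x) := rfl

/-- Restriction as a linear map over the global functions. -/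
noncomputable def resA {V W : X.Opens} (h : V ≤ W) : SecA F W →ₗ[Γ(X, ⊤)] SecA F V where
  toFun x := SecA.mk F (rF F h (SecA.val F x))
  map_add' x y := map_add (rF F h) _ _
  map_smul' a x := by
    show rF F h (rX (le_top : W ≤ ⊤) a • SecA.val F x) =
      rX (le_top : V ≤ ⊤) a • rF F h (SecA.val F x)
    rw [rF_smul, rX_rX]

/-- The module of global sections (the module of the statement). -/
noncomputable abbrev Mtop : ModuleCat.{u} Γ(X, ⊤) := ModuleCat.of Γ(X, ⊤) (F.val.obj (op ⊤))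

/-- Restriction from the global sections, linear over the global functions. -/
noncomputable def resTop (W : X.Opens) : (Mtop F) →ₗ[Γ(X, ⊤)] SecA F W where
  toFun m := SecA.mk F (rF F (le_top : W ≤ ⊤) m)
  map_add' x y := map_add (rF F (le_top : W ≤ ⊤)) _ _
  map_smul' a m := by
    show rF F (le_top : W ≤ ⊤) (a • m) = rX (le_top : W ≤ ⊤) a • rF F (le_top : W ≤ ⊤) m
    exact rF_smul F _ a m

/-- `SecA F W` as an object of `ModuleCat`. -/
noncomputable abbrev EW (W : X.Opens) : ModuleCat.{u} Γ(X, ⊤) := ModuleCat.of Γ(X, ⊤) (SecA F W)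

instance isIso_smul_basicOpen (a : Γ(X, ⊤)) : IsIso (a • 𝟙 (EW F (X.basicOpen a))) := by
  rw [ConcreteCategory.isIso_iff_bijective]
  have hunit : IsUnit (rX (le_top : X.basicOpen a ≤ ⊤) a) :=
    X.toRingedSpace.isUnit_res_basicOpen a
  obtain ⟨u, hu⟩ := hunit
  have hu' : rX (le_top : X.basicOpen a ≤ ⊤) a = (u : Γ(X, X.basicOpen a)) := hu.symm
  have key : ∀ x : SecA F (X.basicOpen a),
      (a • 𝟙 (EW F (X.basicOpen a))).hom x = SecA.mk F ((u : Γ(X, X.basicOpen a)) • SecA.val F x) := by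
    intro x
    show a • x = _
    rw [smul_def, hu']
  constructor
  · intro x y hxy
    have h1 : (a • 𝟙 (EW F (X.basicOpen a))).hom x = (a • 𝟙 (EW F (X.basicOpen a))).hom y := hxy
    rw [key, key] at h1
    have h2 : (u : Γ(X, X.basicOpen a)) • SecA.val F x = (u : Γ(X, X.basicOpen a)) • SecA.val F y := h1
    have h3 := congrArg (fun z => ((u⁻¹ : Γ(X, X.basicOpen a)ˣ) : Γ(X, X.basicOpen a)) • z) h2
    simp only [← mul_smul, Units.inv_mul, one_smul] at h3
    exact h3
  · intro y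
    refine ⟨SecA.mk F (((u⁻¹ : Γ(X, X.basicOpen a)ˣ) : Γ(X, X.basicOpen a)) • SecA.val F y), ?_⟩
    show (a • 𝟙 (EW F (X.basicOpen a))).hom _ = y
    rw [key]
    show (u : Γ(X, X.basicOpen a)) • (((u⁻¹ : Γ(X, X.basicOpen a)ˣ) : Γ(X, X.basicOpen a)) •
      SecA.val F y) = y
    rw [← mul_smul, Units.mul_inv, one_smul]
    rfl

section list

variable (fs : List Γ(X, ⊤))

/-- The union of the basic opens. -/
noncomputable abbrev Uf : X.Opens := ⨆ i : Fin fs.length, X.basicOpen (fs.get i)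

theorem le_Uf (i : Fin fs.length) : X.basicOpen (fs.get i) ≤ Uf fs :=
  le_iSup (fun i : Fin fs.length => X.basicOpen (fs.get i)) i

/-- The factors of the product. -/
noncomputable abbrev Efac (i : Fin fs.length) : ModuleCat.{u} Γ(X, ⊤) :=
  EW F (X.basicOpen (fs.get i))

/-- The product of the modules of sections over the basic opens. -/
noncomputable abbrev EE : ModuleCat.{u} Γ(X, ⊤) :=
  ModuleCat.of Γ(X, ⊤) (∀ i : Fin fs.length, Efac F fs i)

/-- The restriction map `Γ(X, F) ⟶ ∏ Γ(X_{f_i}, F)`. -/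
noncomputable def iota : Mtop F ⟶ EE F fs :=
  ModuleCat.ofHom (LinearMap.pi (fun i : Fin fs.length => resTop F (X.basicOpen (fs.get i))))

/-- The restriction map `Γ(U, F) ⟶ ∏ Γ(X_{f_i}, F)`. -/
noncomputable def sig : SecA F (Uf fs) →ₗ[Γ(X, ⊤)] (EE F fs) :=
  LinearMap.pi (fun i : Fin fs.length => resA F (le_Uf fs i))

theorem iota_apply (m : Mtop F) (i : Fin fs.length) :
    (iota F fs).hom m i = SecA.mk F (rF F (le_top : X.basicOpen (fs.get i) ≤ ⊤) m) := rfl

theorem sig_apply (s : SecA F (Uf fs)) (i : Fin fs.length) :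
    sig F fs s i = SecA.mk F (rF F (le_Uf fs i) (SecA.val F s)) := rfl

theorem iota_eq_sig (m : Mtop F) : (iota F fs).hom m = sig F fs (resTop F (Uf fs) m) := by
  funext i
  rw [iota_apply, sig_apply]
  show SecA.mk F (rF F _ m) = SecA.mk F (rF F (le_Uf fs i) (rF F (le_top : Uf fs ≤ ⊤) m))
  rw [rF_rF]

theorem sig_injective : Function.Injective (sig F fs) := by
  rw [injective_iff_map_eq_zero]
  intro s hs
  have h : SecA.val F s = 0 := by
    apply eq_zero_of_cover
    intro x hx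
    obtain ⟨i, hxi⟩ := Opens.mem_iSup.mp hx
    refine ⟨X.basicOpen (fs.get i), le_Uf fs i, hxi, ?_⟩
    exact congrFun hs i
  exact h

theorem isZero_homology_EE (n : ℕ) (j : ℤ) :
    IsZero ((Groth.Agent.Lib.KoszulLim_helper6.Kn (EE F fs) fs n).homology j) := by
  apply Groth.Agent.Lib.KoszulCok9.isZero_homology_pi (fun i : Fin fs.length => Efac F fs i)
  intro i
  exact Groth.Agent.Lib.KoszulCok9.isZero_homology_of_isIso (Efac F fs i) fs (fs.get i)
    (List.get_mem fs i) n j

section qcoh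

variable [F.IsQuasicoherent] [CompactSpace X] [QuasiSeparatedSpace X]

theorem isCompact_top : IsCompact ((⊤ : X.Opens) : Set X) := by
  rw [Opens.coe_top]
  exact isCompact_univ

theorem isQuasiSeparated_top : IsQuasiSeparated ((⊤ : X.Opens) : Set X) := by
  rw [Opens.coe_top]
  exact isQuasiSeparated_univ

theorem isCompact_Uf : IsCompact ((Uf fs : X.Opens) : Set X) := by
  rw [Opens.coe_iSup]
  exact isCompact_iUnion (fun i => AlgebraicGeometry.isCompact_basicOpen X isCompact_top (fs.get i))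

/-- The kernel of `ι` is power torsion. -/
theorem iota_ker_tors (a : Γ(X, ⊤)) (ha : a ∈ fs) (m : Mtop F) (hm : (iota F fs).hom m = 0) :
    ∃ n : ℕ, a ^ n • m = 0 := by
  obtain ⟨i, rfl⟩ := List.mem_iff_get.mp ha
  have h0 : rF F (le_top : X.basicOpen (fs.get i) ≤ ⊤) m = 0 := congrFun hm i
  exact ker_of_isCompact F (fs.get i) isCompact_top (homOfLE le_top) rfl m h0

/-- A section over `U` becomes a global section after multiplication by a power of `f_i`. -/
theorem sig_pow_mem (s : SecA F (Uf fs)) (i : Fin fs.length) :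
    ∃ (n : ℕ) (m : Mtop F), (fs.get i) ^ n • sig F fs s = (iota F fs).hom m := by
  have hWU : X.basicOpen (fs.get i) ≤ Uf fs := le_Uf fs i
  obtain ⟨n, m, hnm⟩ := surj_of_qcqs F (fs.get i) isCompact_top isQuasiSeparated_top
    (homOfLE (le_top : X.basicOpen (fs.get i) ≤ ⊤)) rfl (rF F hWU (SecA.val F s))
  have hnm' : rX (le_top : X.basicOpen (fs.get i) ≤ ⊤) (fs.get i) ^ n • rF F hWU (SecA.val F s) =
      rF F (le_top : X.basicOpen (fs.get i) ≤ ⊤) m := hnm
  -- the difference on `U`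
  set a' : Γ(X, Uf fs) := rX (le_top : Uf fs ≤ ⊤) (fs.get i) with ha'
  have hV : X.basicOpen (fs.get i) = X.basicOpen a' := by
    rw [ha', basicOpen_rX, inf_eq_right.mpr hWU]
  have hd : rF F hWU (a' ^ n • SecA.val F s - rF F (le_top : Uf fs ≤ ⊤) m) = 0 := by
    rw [map_sub, rF_pow_smul, ha', rX_rX, rF_rF, hnm', sub_self]
  obtain ⟨N, hN⟩ := ker_of_isCompact F a' (isCompact_Uf fs) (homOfLE hWU) hV _ hd
  refine ⟨N + n, (fs.get i) ^ N • m, ?_⟩
  rw [iota_eq_sig, ← map_smul]
  congr 1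
  -- equality in `SecA F U`
  show SecA.mk F (rX (le_top : Uf fs ≤ ⊤) (fs.get i ^ (N + n)) • SecA.val F s) =
    SecA.mk F (rF F (le_top : Uf fs ≤ ⊤) (fs.get i ^ N • m))
  have h1 : a' ^ (N + n) • SecA.val F s = a' ^ N • rF F (le_top : Uf fs ≤ ⊤) m := by
    rw [smul_sub, ← mul_smul, ← pow_add, sub_eq_zero] at hN
    exact hN
  rw [map_pow, rF_pow_smul]
  exact h1

/-- A family which becomes global after multiplication by powers of every `f_i` glues. -/
theorem exists_sig_eq (e : EE F fs)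
    (he : ∀ i : Fin fs.length, ∃ (n : ℕ) (m : Mtop F), (fs.get i) ^ n • e = (iota F fs).hom m) :
    ∃ s : SecA F (Uf fs), sig F fs s = e := by
  have hcompat : ∀ i j : Fin fs.length,
      rF F (inf_le_left : X.basicOpen (fs.get i) ⊓ X.basicOpen (fs.get j) ≤ X.basicOpen (fs.get i))
          (SecA.val F (e i)) =
        rF F (inf_le_right : X.basicOpen (fs.get i) ⊓ X.basicOpen (fs.get j) ≤
          X.basicOpen (fs.get j)) (SecA.val F (e j)) := by
    intro i j
    obtain ⟨n, m, hnm⟩ := he i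
    have hi : rX (le_top : X.basicOpen (fs.get i) ≤ ⊤) (fs.get i) ^ n • SecA.val F (e i) =
        rF F (le_top : X.basicOpen (fs.get i) ≤ ⊤) m := by
      have := congrFun hnm i
      rw [iota_apply, Pi.smul_apply, smul_def, map_pow] at this
      exact this
    have hj : rX (le_top : X.basicOpen (fs.get j) ≤ ⊤) (fs.get i) ^ n • SecA.val F (e j) =
        rF F (le_top : X.basicOpen (fs.get j) ≤ ⊤) m := by
      have := congrFun hnm j
      rw [iota_apply, Pi.smul_apply, smul_def, map_pow] at this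
      exact this
    have hVi : X.basicOpen (fs.get i) ⊓ X.basicOpen (fs.get j) ≤ X.basicOpen (fs.get i) :=
      inf_le_left
    have hVj : X.basicOpen (fs.get i) ⊓ X.basicOpen (fs.get j) ≤ X.basicOpen (fs.get j) :=
      inf_le_right
    have hi' := congrArg (rF F hVi) hi
    have hj' := congrArg (rF F hVj) hj
    rw [rF_pow_smul, rX_rX, rF_rF] at hi' hj'
    have hunit0 : IsUnit (rX (le_top : X.basicOpen (fs.get i) ≤ ⊤) (fs.get i)) :=
      X.toRingedSpace.isUnit_res_basicOpen (fs.get i)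
    have hunit : IsUnit (rX (hVi.trans le_top) (fs.get i)) := by
      have := hunit0.map (rX hVi)
      rwa [rX_rX] at this
    obtain ⟨u, hu⟩ := hunit
    have key : (u : Γ(X, X.basicOpen (fs.get i) ⊓ X.basicOpen (fs.get j))) ^ n •
        rF F hVi (SecA.val F (e i)) =
        (u : Γ(X, X.basicOpen (fs.get i) ⊓ X.basicOpen (fs.get j))) ^ n •
          rF F hVj (SecA.val F (e j)) := by
      rw [hu]
      exact hi'.trans hj'.symm
    have h3 := congrArg (fun z =>
      (((u⁻¹ : Γ(X, X.basicOpen (fs.get i) ⊓ X.basicOpen (fs.get j))ˣ) :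
        Γ(X, X.basicOpen (fs.get i) ⊓ X.basicOpen (fs.get j))) ^ n) • z) key
    simp only [← mul_smul, ← mul_pow, Units.inv_mul, one_pow, one_smul] at h3
    exact h3
  have hc : TopCat.Presheaf.IsCompatible F.presheaf
      (fun i : Fin fs.length => X.basicOpen (fs.get i)) (fun i => SecA.val F (e i)) := by
    intro i j
    have h2 : F.presheaf.map (homOfLE (inf_le_left :
        X.basicOpen (fs.get i) ⊓ X.basicOpen (fs.get j) ≤ X.basicOpen (fs.get i))).op
          (SecA.val F (e i)) =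
        F.presheaf.map (homOfLE (inf_le_right :
          X.basicOpen (fs.get i) ⊓ X.basicOpen (fs.get j) ≤ X.basicOpen (fs.get j))).op
          (SecA.val F (e j)) := hcompat i j
    exact (Groth.Agent.Lib.QCohExtH1.rF_congr F _ _ _).trans
      (h2.trans (Groth.Agent.Lib.QCohExtH1.rF_congr F _ _ _))
  obtain ⟨s, hs, -⟩ := TopCat.Sheaf.existsUnique_gluing' ⟨F.presheaf, F.isSheaf⟩
    (fun i : Fin fs.length => X.basicOpen (fs.get i)) (Uf fs)
    (fun i => homOfLE (le_Uf fs i)) le_rfl _ hc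
  refine ⟨SecA.mk F s, ?_⟩
  funext i
  exact hs i

open Groth.Agent.Lib.InjHull_helper3 Groth.Agent.Lib.KoszulLim_helper6
  Groth.Agent.Lib.KoszulLim2_helper6 Groth.Agent.Lib.KoszulCok9

/-- The quotient `E/ι(M)`. -/
noncomputable abbrev QQ : Type u := (EE F fs) ⧸ LinearMap.range (iota F fs).hom

/-- `Γ(U, F) → E/ι(M)`. -/
noncomputable def Phi0 : SecA F (Uf fs) →ₗ[Γ(X, ⊤)] QQ F fs :=
  (LinearMap.range (iota F fs).hom).mkQ.comp (sig F fs)

theorem Phi0_mem (s : SecA F (Uf fs)) :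
    Phi0 F fs s ∈ Γ (Ideal.span {x | x ∈ fs}) (QQ F fs) := by
  rw [← mem_Γ_span_iff' fs (QQ F fs)]
  intro g hg
  obtain ⟨i, rfl⟩ := List.mem_iff_get.mp hg
  obtain ⟨n, m, hnm⟩ := sig_pow_mem F fs s i
  refine ⟨n, ?_⟩
  show fs.get i ^ n • (LinearMap.range (iota F fs).hom).mkQ (sig F fs s) = 0
  rw [← map_smul, hnm, Submodule.mkQ_apply, Submodule.Quotient.mk_eq_zero]
  exact ⟨m, rfl⟩

theorem Phi0_surj (q : QQ F fs) (hq : q ∈ Γ (Ideal.span {x | x ∈ fs}) (QQ F fs)) :
    ∃ s : SecA F (Uf fs), Phi0 F fs s = q := by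
  obtain ⟨e, rfl⟩ := Submodule.mkQ_surjective _ q
  rw [← mem_Γ_span_iff' fs (QQ F fs)] at hq
  have he : ∀ i : Fin fs.length, ∃ (n : ℕ) (m : Mtop F),
      (fs.get i) ^ n • e = (iota F fs).hom m := by
    intro i
    obtain ⟨n, hn⟩ := hq (fs.get i) (List.get_mem fs i)
    rw [← map_smul, Submodule.mkQ_apply, Submodule.Quotient.mk_eq_zero] at hn
    obtain ⟨m, hm⟩ := hn
    exact ⟨n, m, hm.symm⟩
  obtain ⟨s, hs⟩ := exists_sig_eq F fs e he
  exact ⟨s, by show (LinearMap.range (iota F fs).hom).mkQ (sig F fs s) = _; rw [hs]⟩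

theorem Phi0_eq_zero_iff (s : SecA F (Uf fs)) :
    Phi0 F fs s = 0 ↔ ∃ m : Mtop F, resTop F (Uf fs) m = s := by
  show (LinearMap.range (iota F fs).hom).mkQ (sig F fs s) = 0 ↔ _
  rw [Submodule.mkQ_apply, Submodule.Quotient.mk_eq_zero]
  constructor
  · rintro ⟨m, hm⟩
    refine ⟨m, sig_injective F fs ?_⟩
    rw [← iota_eq_sig]
    exact hm
  · rintro ⟨m, rfl⟩
    exact ⟨m, iota_eq_sig F fs m⟩

/-- `Γ(U, F) → Γ_I(E/ι(M))` as an additive map. -/
noncomputable def Psi : Γ(F, Uf fs) →+ ↥(Γ (Ideal.span {x | x ∈ fs}) (QQ F fs)) :=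
  ((Phi0 F fs).codRestrict (Γ (Ideal.span {x | x ∈ fs}) (QQ F fs))
    (Phi0_mem F fs)).toAddMonoidHom

theorem Psi_surjective : Function.Surjective (Psi F fs) := by
  rintro ⟨q, hq⟩
  obtain ⟨s, hs⟩ := Phi0_surj F fs q hq
  exact ⟨s, Subtype.ext hs⟩

theorem Psi_ker : (rF F (le_top : Uf fs ≤ ⊤)).range = (Psi F fs).ker := by
  ext s
  rw [AddMonoidHom.mem_range, AddMonoidHom.mem_ker]
  constructor
  · rintro ⟨m, rfl⟩
    apply Subtype.ext
    exact (Phi0_eq_zero_iff F fs _).2 ⟨m, rfl⟩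
  · intro hs
    have h0 : Phi0 F fs s = 0 := congrArg Subtype.val hs
    obtain ⟨m, hm⟩ := (Phi0_eq_zero_iff F fs s).1 h0
    exact ⟨m, hm⟩

/-- The cokernel of the restriction `Γ(X, F) → Γ(U, F)` is `H^1((f), Γ(X, F))`. -/
theorem nonempty_coker_equiv :
    Nonempty (Γ(F, Uf fs) ⧸ (rF F (le_top : Uf fs ≤ ⊤)).range ≃+
      CohIII.koszulHLim fs (Mtop F) 1) := by
  obtain ⟨e⟩ := nonempty_L1_equiv fs (Mtop F) (EE F fs) (iota F fs)
    (fun a ha m hm => iota_ker_tors F fs a ha m hm) (isZero_homology_EE F fs)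
    (-(fs.length : ℤ)) (((1 : ℕ) : ℤ) - fs.length) rfl (by push_cast; ring)
  let e1 := QuotientAddGroup.quotientAddEquivOfEq (Psi_ker F fs)
  let e2 := QuotientAddGroup.quotientKerEquivOfSurjective (Psi F fs) (Psi_surjective F fs)
  exact ⟨e1.trans (e2.trans e.symm.toAddEquiv)⟩

/-- The kernel of the restriction `Γ(X, F) → Γ(U, F)` is `H^0((f), Γ(X, F))`. -/
theorem nonempty_ker_equiv :
    Nonempty ((rF F (le_top : Uf fs ≤ ⊤)).ker ≃+ CohIII.koszulHLim fs (Mtop F) 0) := by
  obtain ⟨e⟩ := nonempty_L0_equiv fs (Mtop F) (((0 : ℕ) : ℤ) - fs.length) (by push_cast; ring)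
  have hmem : ∀ m : Mtop F, m ∈ Γ (Ideal.span {x | x ∈ fs}) (Mtop F) ↔
      rF F (le_top : Uf fs ≤ ⊤) m = 0 := by
    intro m
    rw [← mem_Γ_span_iff' fs (Mtop F)]
    constructor
    · intro h
      apply eq_zero_of_cover
      intro x hx
      obtain ⟨i, hxi⟩ := Opens.mem_iSup.mp hx
      refine ⟨X.basicOpen (fs.get i), le_Uf fs i, hxi, ?_⟩
      rw [rF_rF]
      obtain ⟨n, hn⟩ := h (fs.get i) (List.get_mem fs i)
      have h1 : rX (le_top : X.basicOpen (fs.get i) ≤ ⊤) (fs.get i) ^ n •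
          rF F (le_top : X.basicOpen (fs.get i) ≤ ⊤) m = 0 := by
        rw [← rF_pow_smul]
        exact (congrArg (rF F (le_top : X.basicOpen (fs.get i) ≤ ⊤)) hn).trans (map_zero _)
      have hunit : IsUnit (rX (le_top : X.basicOpen (fs.get i) ≤ ⊤) (fs.get i)) :=
        X.toRingedSpace.isUnit_res_basicOpen (fs.get i)
      obtain ⟨u, hu⟩ := hunit
      rw [← hu] at h1
      have h3 := congrArg (fun z =>
        (((u⁻¹ : Γ(X, X.basicOpen (fs.get i))ˣ) : Γ(X, X.basicOpen (fs.get i))) ^ n) • z) h1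
      simp only [← mul_smul, ← mul_pow, Units.inv_mul, one_pow, one_smul, smul_zero] at h3
      exact h3
    · intro h g hg
      apply iota_ker_tors F fs g hg m
      rw [iota_eq_sig]
      have : resTop F (Uf fs) m = 0 := h
      rw [this, map_zero]
  let e0 : (rF F (le_top : Uf fs ≤ ⊤)).ker ≃+ ↥(Γ (Ideal.span {x | x ∈ fs}) (Mtop F)) :=
    { toFun := fun x => ⟨x.1, (hmem x.1).2 x.2⟩
      invFun := fun y => ⟨y.1, (hmem y.1).1 y.2⟩
      left_inv := fun x => rfl
      right_inv := fun y => rfl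
      map_add' := fun x y => rfl }
  exact ⟨e0.trans e.symm.toAddEquiv⟩

end qcoh

end list

end KoszulCokG
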