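import Mathlib
import Groth.Agent.Lib.CechKos1_helper9
import Groth.Agent.Lib.KoszulCok3_helper9
import Groth.Agent.Lib.AcycEmb_helper9
import Groth.Agent.Lib.SerreCrit3_helper9
import Groth.Agent.Lib.EpiLoc_helper9

/-!
# The embedding of a module into the sum of its `j_* j^*` and its cokernel (helper9)

For a module `G` on a scheme `X` and a list `l` of opens, `u : G ⟶ N = ⨁_{V ∈ l} j_{V*} j_V^* G`
(`AcycEmb.bigU`) and `π : N ⟶ C = coker u`.  Over opens `W` contained in a member of `l` the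
sequence `0 → G(W) → N(W) → C(W) → 0` is (split) exact: `CechKos.bigU_injective`, `CechKos.exact_F2`,
`CechKos.surj_F3`.  No affineness is needed.
APPEND-ONLY once landed.
-/

set_option autoImplicit false
universe u
open CategoryTheory CategoryTheory.Limits AlgebraicGeometry Opposite TopologicalSpace
open QcqsLoc QCohExtn AcycEmb

namespace CechKos

variable {X : Scheme.{u}}

section basic

theorem ap_add' {M N : X.Modules} (φ ψ : M ⟶ N) (W : X.Opens) (s : Γ(M, W)) :
    ap (φ + ψ) W s = ap φ W s + ap ψ W s := rfl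

theorem ap_id' (M : X.Modules) (W : X.Opens) (s : Γ(M, W)) : ap (𝟙 M) W s = s := rfl

theorem ap_comp' {M N K : X.Modules} (φ : M ⟶ N) (ψ : N ⟶ K) (W : X.Opens) (s : Γ(M, W)) :
    ap (φ ≫ ψ) W s = ap ψ W (ap φ W s) := rfl

theorem ap_zero' {M N : X.Modules} (W : X.Opens) (s : Γ(M, W)) :
    ap (0 : M ⟶ N) W s = 0 := rfl

/-- Gluing of compatible local sections of a module. -/
theorem glue_family (A : X.Modules) {W : X.Opens} {κ : Type u} (O : κ → X.Opens)
    (hle : ∀ p, O p ≤ W) (hcov : W ≤ ⨆ p, O p) (b : ∀ p, Γ(A, O p))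
    (hcompat : ∀ p q, rF A (inf_le_left : O p ⊓ O q ≤ O p) (b p) =
      rF A (inf_le_right : O p ⊓ O q ≤ O q) (b q)) :
    ∃ z : Γ(A, W), ∀ p, rF A (hle p) z = b p := by
  have hc : TopCat.Presheaf.IsCompatible A.presheaf O b := by
    intro p q
    have h2 : A.presheaf.map (homOfLE (inf_le_left : O p ⊓ O q ≤ O p)).op (b p) =
        A.presheaf.map (homOfLE (inf_le_right : O p ⊓ O q ≤ O q)).op (b q) := hcompat p q
    exact (Groth.Agent.Lib.QCohExtH1.rF_congr A _ _ _).trans
      (h2.trans (Groth.Agent.Lib.QCohExtH1.rF_congr A _ _ _))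
  obtain ⟨z₀, hz₀, -⟩ := TopCat.Sheaf.existsUnique_gluing' ⟨A.presheaf, A.isSheaf⟩ O W
    (fun p => homOfLE (hle p)) hcov b hc
  exact ⟨z₀, fun p => hz₀ p⟩

end basic

section NN

variable (G : X.Modules) (V : X.Opens)

set_option backward.isDefEq.respectTransparency false in
/-- Restrictions of `j_* j^* G` which do not change the intersection with `V` are bijective. -/
theorem NN_rF_bijective {W' W : X.Opens} (h : W' ≤ W) (hV : W ⊓ V ≤ W') :
    Function.Bijective (rF (NN G V) h) := by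
  have e : V.ι ''ᵁ (V.ι ⁻¹ᵁ W') = V.ι ''ᵁ (V.ι ⁻¹ᵁ W) := by
    rw [Scheme.Hom.image_preimage_eq_opensRange_inf, Scheme.Hom.image_preimage_eq_opensRange_inf,
      Scheme.Opens.opensRange_ι]
    apply le_antisymm
    · exact inf_le_inf_left _ h
    · refine le_inf inf_le_left ?_
      rw [inf_comm]
      exact hV
  exact SubExt.rF_bijective_of_eq G (V.ι.image_mono (V.ι.preimage_mono h)) e

end NN

section proj

variable (G : X.Modules)

/-- The projection of the sum onto one of its factors. -/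
theorem exists_proj (l : List X.Opens) (V : X.Opens) (hV : V ∈ l) :
    ∃ q : bigN G l ⟶ NN G V, bigU G l ≫ q = SubExt.unitMap V G := by
  induction l with
  | nil => exact absurd hV List.not_mem_nil
  | cons V' l ih =>
    rcases List.mem_cons.mp hV with rfl | hV
    · exact ⟨(biprod.fst : NN G V ⊞ bigN G l ⟶ NN G V),
        biprod.lift_fst (SubExt.unitMap V G) (bigU G l)⟩
    · obtain ⟨q, hq⟩ := ih hV
      refine ⟨(biprod.snd : NN G V' ⊞ bigN G l ⟶ bigN G l) ≫ q, ?_⟩
      have h1 : bigU G (V' :: l) ≫ (biprod.snd : NN G V' ⊞ bigN G l ⟶ bigN G l) = bigU G l :=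
        biprod.lift_snd (SubExt.unitMap V' G) (bigU G l)
      rw [← Category.assoc, h1, hq]

variable (l : List X.Opens) {V : X.Opens} (q : bigN G l ⟶ NN G V)

/-- The retraction of `u` on sections over an open contained in `V`. -/
noncomputable def ret (W : X.Opens) (hW : W ≤ V) : Γ(bigN G l, W) →+ Γ(G, W) :=
  (AddEquiv.ofBijective (ap (SubExt.unitMap V G) W)
    (SubExt.unit_bijective V G W hW)).symm.toAddMonoidHom.comp (ap q W)

theorem unit_ret (W : X.Opens) (hW : W ≤ V) (n : Γ(bigN G l, W)) :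
    ap (SubExt.unitMap V G) W (ret G l q W hW n) = ap q W n :=
  (AddEquiv.ofBijective (ap (SubExt.unitMap V G) W)
    (SubExt.unit_bijective V G W hW)).apply_symm_apply _

variable (hq : bigU G l ≫ q = SubExt.unitMap V G)

include hq in
theorem ret_u (W : X.Opens) (hW : W ≤ V) (s : Γ(G, W)) :
    ret G l q W hW (ap (bigU G l) W s) = s := by
  apply (SubExt.unit_bijective V G W hW).1
  rw [unit_ret, ← ap_comp', hq]

theorem ret_rF {W' W : X.Opens} (h : W' ≤ W) (hW : W ≤ V) (n : Γ(bigN G l, W)) :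
    rF G h (ret G l q W hW n) = ret G l q W' (h.trans hW) (rF (bigN G l) h n) := by
  apply (SubExt.unit_bijective V G W' (h.trans hW)).1
  rw [unit_ret, ap_rF, unit_ret, ap_rF]

include hq in
/-- `u` is injective on sections over opens contained in a member of the list. -/
theorem bigU_injective (W : X.Opens) (hW : W ≤ V) : Function.Injective (ap (bigU G l) W) := by
  intro s t hst
  rw [← ret_u G l q hq W hW s, ← ret_u G l q hq W hW t, hst]

end proj

section coker

variable (G : X.Modules) (l : List X.Opens)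

/-- The cokernel of `u`. -/
noncomputable abbrev CC : X.Modules := cokernel (bigU G l)

/-- The projection to the cokernel. -/
noncomputable abbrev pp : bigN G l ⟶ CC G l := cokernel.π (bigU G l)

theorem pp_u (W : X.Opens) (s : Γ(G, W)) : ap (pp G l) W (ap (bigU G l) W s) = 0 := by
  rw [← ap_comp', cokernel.condition]
  rfl

variable {V : X.Opens} (q : bigN G l ⟶ NN G V) (hq : bigU G l ≫ q = SubExt.unitMap V G)

include hq in
/-- Exactness in the middle on sections over opens contained in a member of the list. -/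
theorem exact_F2 (W : X.Opens) (hW : W ≤ V) (n : Γ(bigN G l, W))
    (hn : ap (pp G l) W n = 0) : ∃ s : Γ(G, W), ap (bigU G l) W s = n := by
  let E : ShortComplex X.Modules :=
    ShortComplex.mk (kernel.ι (pp G l)) (pp G l) (kernel.condition _)
  have hE : E.Exact := ShortComplex.exact_of_f_is_kernel _ (kernelIsKernel _)
  haveI : Mono E.f := inferInstanceAs (Mono (kernel.ι (pp G l)))
  obtain ⟨t, ht⟩ := QCohExact.app_exact E hE W n hn
  have ht' : ap (kernel.ι (pp G l)) W t = n := ht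
  let e : G ⟶ kernel (pp G l) := Abelian.factorThruImage (bigU G l)
  haveI : Epi e := inferInstanceAs (Epi (Abelian.factorThruImage (bigU G l)))
  have hfac : e ≫ kernel.ι (pp G l) = bigU G l := Abelian.image.fac (bigU G l)
  refine ⟨ret G l q W hW n, ?_⟩
  apply eq_of_cover
  intro x hx
  obtain ⟨W', hW', hxW', s', hs'⟩ := EpiLoc.exists_local_lift e t hx
  have hs'' : ap e W' s' = rF (kernel (pp G l)) hW' t := hs'
  refine ⟨W', hW', hxW', ?_⟩
  have h1 : ap (bigU G l) W' s' = rF (bigN G l) hW' n := by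
    rw [← hfac, ap_comp', hs'', ap_rF, ht']
  have h2 : rF G hW' (ret G l q W hW n) = s' := by
    rw [ret_rF, ← h1, ret_u G l q hq]
  rw [← ap_rF, h2, h1]

include hq in
/-- Surjectivity onto the cokernel on sections over opens contained in a member of the list. -/
theorem surj_F3 (W : X.Opens) (hW : W ≤ V) (c : Γ(CC G l, W)) :
    ∃ n : Γ(bigN G l, W), ap (pp G l) W n = c := by
  classical
  have hloc : ∀ x ∈ W, ∃ (W' : X.Opens) (hW' : W' ≤ W), x ∈ W' ∧
      ∃ n' : Γ(bigN G l, W'), ap (pp G l) W' n' = rF (CC G l) hW' c := by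
    intro x hx
    obtain ⟨W', hW', hxW', n', hn'⟩ := EpiLoc.exists_local_lift (pp G l) c hx
    exact ⟨W', hW', hxW', n', hn'⟩
  choose O hO hxO z hz using hloc
  let κ : Type u := {x : X // x ∈ W}
  let O' : κ → X.Opens := fun p => O p.1 p.2
  have hle : ∀ p : κ, O' p ≤ W := fun p => hO p.1 p.2
  -- the corrected local lifts
  let θ : ∀ (W' : X.Opens) (hW' : W' ≤ V), Γ(bigN G l, W') → Γ(bigN G l, W') :=
    fun W' hW' n => n - ap (bigU G l) W' (ret G l q W' hW' n)
  have hθ_res : ∀ (W'' W' : X.Opens) (h : W'' ≤ W') (hW' : W' ≤ V) (n : Γ(bigN G l, W')),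
      rF (bigN G l) h (θ W' hW' n) = θ W'' (h.trans hW') (rF (bigN G l) h n) := by
    intro W'' W' h hW' n
    show rF (bigN G l) h (n - ap (bigU G l) W' (ret G l q W' hW' n)) = _
    rw [map_sub, ← ap_rF, ret_rF]
  have hθ_pp : ∀ (W' : X.Opens) (hW' : W' ≤ V) (n : Γ(bigN G l, W')),
      ap (pp G l) W' (θ W' hW' n) = ap (pp G l) W' n := by
    intro W' hW' n
    show ap (pp G l) W' (n - ap (bigU G l) W' (ret G l q W' hW' n)) = _
    rw [map_sub, pp_u, sub_zero]
  have hθ_zero : ∀ (W' : X.Opens) (hW' : W' ≤ V) (n : Γ(bigN G l, W')),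
      ap (pp G l) W' n = 0 → θ W' hW' n = 0 := by
    intro W' hW' n hn
    obtain ⟨s, rfl⟩ := exact_F2 G l q hq W' hW' n hn
    show ap (bigU G l) W' s - ap (bigU G l) W' (ret G l q W' hW' (ap (bigU G l) W' s)) = 0
    rw [ret_u G l q hq, sub_self]
  have hθ_sub : ∀ (W' : X.Opens) (hW' : W' ≤ V) (n n' : Γ(bigN G l, W')),
      θ W' hW' (n - n') = θ W' hW' n - θ W' hW' n' := by
    intro W' hW' n n'
    show (n - n') - ap (bigU G l) W' (ret G l q W' hW' (n - n')) =
      (n - ap (bigU G l) W' (ret G l q W' hW' n)) - (n' - ap (bigU G l) W' (ret G l q W' hW' n'))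
    rw [map_sub, map_sub]
    abel
  let b : ∀ p : κ, Γ(bigN G l, O' p) := fun p => θ (O' p) ((hle p).trans hW) (z p.1 p.2)
  have hcov : W ≤ ⨆ p : κ, O' p := by
    intro x hx
    exact Opens.mem_iSup.mpr ⟨⟨x, hx⟩, hxO x hx⟩
  have hcompat : ∀ p r : κ, rF (bigN G l) (inf_le_left : O' p ⊓ O' r ≤ O' p) (b p) =
      rF (bigN G l) (inf_le_right : O' p ⊓ O' r ≤ O' r) (b r) := by
    intro p r
    rw [hθ_res, hθ_res, ← sub_eq_zero, ← hθ_sub]
    apply hθ_zero
    rw [map_sub, ap_rF, ap_rF, hz, hz, rF_rF, rF_rF, sub_self]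
  obtain ⟨n, hn⟩ := glue_family (bigN G l) O' hle hcov b hcompat
  refine ⟨n, ?_⟩
  apply eq_of_cover
  intro x hx
  refine ⟨O' ⟨x, hx⟩, hle _, hxO x hx, ?_⟩
  rw [← ap_rF, hn, hθ_pp, hz]

end coker

section props

variable (G : X.Modules)

theorem quasiCompact_ι_of_isCompact [QuasiSeparatedSpace X] (U : X.Opens)
    (hU : IsCompact (U : Set X)) : QuasiCompact U.ι := by
  rw [quasiCompact_iff_forall_isAffineOpen]
  intro W hW
  have h1 : IsCompact ((U : Set X) ∩ W) :=
    QuasiSeparatedSpace.inter_isCompact (U : Set X) W U.2 hU W.2 hW.isCompact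
  have h2 : ((U.ι ⁻¹ᵁ W : U.toScheme.Opens) : Set U.toScheme) =
      U.ι ⁻¹' ((U : Set X) ∩ W) :=
    Set.ext fun y => ⟨fun h => ⟨y.2, h⟩, fun h => h.2⟩
  rw [h2]
  exact U.ι.isOpenEmbedding.isEmbedding.isInducing.isCompact_preimage' h1
    (by rw [Scheme.Opens.range_ι]; exact Set.inter_subset_left)

theorem isQuasicoherent_NN' [QuasiSeparatedSpace X] [G.IsQuasicoherent] (V : X.Opens)
    (hV : IsCompact (V : Set X)) : (NN G V).IsQuasicoherent := by
  haveI := quasiCompact_ι_of_isCompact V hV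
  haveI : (G.restrict V.ι).IsQuasicoherent := inferInstance
  exact QcqsLoc.isQuasicoherent_pushforward_qcqs V.ι (G.restrict V.ι)

theorem isQuasicoherent_bigN' [QuasiSeparatedSpace X] [G.IsQuasicoherent] (l : List X.Opens)
    (hl : ∀ V ∈ l, IsCompact (V : Set X)) : (bigN G l).IsQuasicoherent := by
  induction l with
  | nil =>
    exact isQuasicoherent_NN' G ⊥ (by rw [Opens.coe_bot]; exact isCompact_empty)
  | cons V l ih =>
    haveI := isQuasicoherent_NN' G V (hl V (List.mem_cons_self ..))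
    haveI := ih (fun V' hV' => hl V' (List.mem_cons_of_mem _ hV'))
    show (NN G V ⊞ bigN G l).IsQuasicoherent
    exact QCAlgMod.isQuasicoherent_biprod _ _

theorem subsingleton_NN_bot (W : X.Opens) : Subsingleton Γ(NN G ⊥, W) := by
  have h0 : ∀ s : Γ(NN G ⊥, ⊥), s = 0 := by
    intro s
    apply eq_zero_of_cover
    intro x hx
    exact absurd hx (by simp)
  have hb := NN_rF_bijective G ⊥ (bot_le : (⊥ : X.Opens) ≤ W) inf_le_right
  refine ⟨fun a b => hb.1 ?_⟩
  rw [h0 (rF (NN G ⊥) _ a), h0 (rF (NN G ⊥) _ b)]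

/-- Global sections of the sum restrict surjectively to any open containing the members of the
list. -/
theorem bigN_res_surjective (l : List X.Opens) (U' : X.Opens) (hl : ∀ V ∈ l, V ≤ U') :
    Function.Surjective (rF (bigN G l) (le_top : U' ≤ ⊤)) := by
  induction l with
  | nil =>
    exact (NN_rF_bijective G ⊥ (le_top : U' ≤ ⊤) (inf_le_right.trans bot_le)).2
  | cons V l ih =>
    have hA : Function.Surjective (rF (NN G V) (le_top : U' ≤ ⊤)) :=
      (NN_rF_bijective G V (le_top : U' ≤ ⊤)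
        (inf_le_right.trans (hl V (List.mem_cons_self ..)))).2
    have hB := ih (fun V' hV' => hl V' (List.mem_cons_of_mem _ hV'))
    intro s
    let N' := NN G V ⊞ bigN G l
    have hs : s = ap (biprod.inl : NN G V ⟶ N') U' (ap (biprod.fst : N' ⟶ NN G V) U' s) +
        ap (biprod.inr : bigN G l ⟶ N') U' (ap (biprod.snd : N' ⟶ bigN G l) U' s) := by
      rw [← ap_comp', ← ap_comp', ← ap_add', biprod.total, ap_id']
    obtain ⟨a, ha⟩ := hA (ap (biprod.fst : N' ⟶ NN G V) U' s)
    obtain ⟨b, hb⟩ := hB (ap (biprod.snd : N' ⟶ bigN G l) U' s)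
    refine ⟨ap (biprod.inl : NN G V ⟶ N') ⊤ a + ap (biprod.inr : bigN G l ⟶ N') ⊤ b, ?_⟩
    have e : rF (bigN G (V :: l)) (le_top : U' ≤ ⊤)
        (ap (biprod.inl : NN G V ⟶ N') ⊤ a + ap (biprod.inr : bigN G l ⟶ N') ⊤ b) =
        rF N' (le_top : U' ≤ ⊤)
        (ap (biprod.inl : NN G V ⟶ N') ⊤ a + ap (biprod.inr : bigN G l ⟶ N') ⊤ b) := rfl
    rw [e, map_add, ← ap_rF, ← ap_rF, ha, hb]
    exact hs.symm

end props

section cech

variable (G : X.Modules) {ι : Type u} (𝔘 : ι → X.Opens)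

/-- The underlying presheaf of abelian groups, as a functor. -/
noncomputable abbrev PT (X : Scheme.{u}) :
    X.Modules ⥤ ((Opens X.toTopCat)ᵒᵖ ⥤ AddCommGrpCat.{u}) :=
  SerreCrit.TT X ⋙ sheafToPresheaf _ _

noncomputable instance : (PT X).Additive := by
  haveI : (sheafToPresheaf (Opens.grothendieckTopology X.toTopCat) AddCommGrpCat.{u}).Additive :=
    inferInstance
  exact inferInstanceAs ((SerreCrit.TT X ⋙ sheafToPresheaf _ _).Additive)

theorem cechAcyc_NN (i₀ : ι) :
    CechAcyc (X := X.toTopCat) ((PT X).obj (NN G (𝔘 i₀))) 𝔘 :=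
  cechAcyc_of_local (X := X.toTopCat) _ 𝔘 i₀
    (fun _ _ h hV => NN_rF_bijective G (𝔘 i₀) h hV)

theorem cechAcyc_NN_bot : CechAcyc (X := X.toTopCat) ((PT X).obj (NN G ⊥)) 𝔘 := by
  intro p α _
  refine ⟨0, ?_⟩
  funext σ
  haveI : Subsingleton (((PT X).obj (NN G ⊥)).obj (op (⨅ k, 𝔘 (σ k)))) :=
    subsingleton_NN_bot G _
  exact Subsingleton.elim _ _

theorem cechAcyc_bigN (l : List X.Opens) (hl : ∀ V ∈ l, ∃ i, 𝔘 i = V) :
    CechAcyc (X := X.toTopCat) ((PT X).obj (bigN G l)) 𝔘 := by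
  induction l with
  | nil => exact cechAcyc_NN_bot G 𝔘
  | cons V l ih =>
    obtain ⟨i₀, rfl⟩ := hl V (List.mem_cons_self ..)
    have hA := cechAcyc_NN G 𝔘 i₀
    have hB := ih (fun V' hV' => hl V' (List.mem_cons_of_mem _ hV'))
    let N' := NN G (𝔘 i₀) ⊞ bigN G l
    have hid : (PT X).map (biprod.fst : N' ⟶ NN G (𝔘 i₀)) ≫ (PT X).map biprod.inl +
        (PT X).map (biprod.snd : N' ⟶ bigN G l) ≫ (PT X).map biprod.inr = 𝟙 ((PT X).obj N') := by
      rw [← (PT X).map_comp, ← (PT X).map_comp, ← (PT X).map_add, biprod.total, (PT X).map_id]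
    exact cechAcyc_of_retract (X := X.toTopCat) 𝔘 _ _ _ _ hid hA hB

end cech

section koszul

open Groth.Agent.Lib.KoszulLim_helper6 Groth.Agent.Lib.KoszulLim2_helper6
  Groth.Agent.Lib.KoszulCok9 KoszulCokG HomologicalComplex

/-- The map on global sections, linear over the global functions. -/
noncomputable def gm {A B : X.Modules} (φ : A ⟶ B) : Mtop A ⟶ Mtop B :=
  ModuleCat.ofHom
    { toFun := ap φ ⊤
      map_add' := map_add _
      map_smul' := fun a s => ap_smul φ a s }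

theorem gm_apply {A B : X.Modules} (φ : A ⟶ B) (s : Mtop A) : (gm φ).hom s = ap φ ⊤ s := rfl

theorem gm_id (A : X.Modules) : gm (𝟙 A) = 𝟙 (Mtop A) := rfl

theorem gm_comp {A B C : X.Modules} (φ : A ⟶ B) (ψ : B ⟶ C) : gm (φ ≫ ψ) = gm φ ≫ gm ψ := rfl

theorem gm_add {A B : X.Modules} (φ ψ : A ⟶ B) : gm (φ + ψ) = gm φ + gm ψ := rfl

variable {R : Type u} [CommRing R] (fs : List R)

/-- Vanishing of all the Koszul cohomology of all the powers. -/
def KAcyc (M : ModuleCat.{u} R) : Prop := ∀ (n : ℕ) (j : ℤ), IsZero ((Kn M fs n).homology j)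

theorem kAcyc_of_retract {M A B : ModuleCat.{u} R} (pA : M ⟶ A) (iA : A ⟶ M) (pB : M ⟶ B)
    (iB : B ⟶ M) (hid : pA ≫ iA + pB ≫ iB = 𝟙 M) (hA : KAcyc fs A) (hB : KAcyc fs B) :
    KAcyc fs M := by
  intro n j
  have h2 : 𝟙 ((Kn M fs n).homology j) = 0 := by
    rw [← homologyMap_id, ← kMap_id, ← hid, kMap_add, homologyMap_add, kMap_comp, kMap_comp,
      homologyMap_comp, homologyMap_comp,
      (hA n j).eq_of_tgt (homologyMap (kMap pA (fs.map (· ^ n))) j) 0,
      (hB n j).eq_of_tgt (homologyMap (kMap pB (fs.map (· ^ n))) j) 0, zero_comp, zero_comp,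
      add_zero]
  exact (IsZero.iff_id_eq_zero _).mpr h2

theorem kAcyc_of_subsingleton (M : ModuleCat.{u} R) [Subsingleton M] : KAcyc fs M := by
  intro n j
  have h0 : 𝟙 M = 0 := by
    apply ModuleCat.hom_ext
    apply LinearMap.ext
    intro x
    exact Subsingleton.elim _ _
  have h2 : 𝟙 ((Kn M fs n).homology j) = 0 := by
    rw [← homologyMap_id, ← kMap_id, h0, kMap_zero, homologyMap_zero]
  exact (IsZero.iff_id_eq_zero _).mpr h2

end koszul

section koszulN

open Groth.Agent.Lib.KoszulLim_helper6 Groth.Agent.Lib.KoszulLim2_helper6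
  Groth.Agent.Lib.KoszulCok9 KoszulCokG HomologicalComplex

variable (G : X.Modules) (fs : List Γ(X, ⊤))

instance isIso_smul_NN (a : Γ(X, ⊤)) : IsIso (a • 𝟙 (Mtop (NN G (X.basicOpen a)))) := by
  rw [ConcreteCategory.isIso_iff_bijective]
  have hunit : IsUnit (rX (le_top : X.basicOpen a ≤ ⊤) a) :=
    X.toRingedSpace.isUnit_res_basicOpen a
  obtain ⟨u, hu⟩ := hunit
  have hb := NN_rF_bijective G (X.basicOpen a) (le_top : X.basicOpen a ≤ ⊤) inf_le_right
  have key : ∀ x : Mtop (NN G (X.basicOpen a)),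
      rF (NN G (X.basicOpen a)) (le_top : X.basicOpen a ≤ ⊤)
        ((a • 𝟙 (Mtop (NN G (X.basicOpen a)))).hom x) =
      (u : Γ(X, X.basicOpen a)) • rF (NN G (X.basicOpen a)) (le_top : X.basicOpen a ≤ ⊤) x := by
    intro x
    rw [hu]
    exact rF_smul (NN G (X.basicOpen a)) (le_top : X.basicOpen a ≤ ⊤) a x
  constructor
  · intro x y hxy
    have h1 := congrArg (rF (NN G (X.basicOpen a)) (le_top : X.basicOpen a ≤ ⊤)) hxy
    rw [key, key] at h1
    have h3 := congrArg (fun z => ((u⁻¹ : Γ(X, X.basicOpen a)ˣ) : Γ(X, X.basicOpen a)) • z) h1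
    simp only [← mul_smul, Units.inv_mul, one_smul] at h3
    exact hb.1 h3
  · intro y
    obtain ⟨x, hx⟩ := hb.2 (((u⁻¹ : Γ(X, X.basicOpen a)ˣ) : Γ(X, X.basicOpen a)) •
      rF (NN G (X.basicOpen a)) (le_top : X.basicOpen a ≤ ⊤) y)
    refine ⟨x, hb.1 ?_⟩
    rw [key, hx, ← mul_smul, Units.mul_inv, one_smul]

theorem kAcyc_NN (a : Γ(X, ⊤)) (ha : a ∈ fs) : KAcyc fs (Mtop (NN G (X.basicOpen a))) :=
  fun n j => isZero_homology_of_isIso _ fs a ha n j

theorem kAcyc_NN_bot : KAcyc fs (Mtop (NN G ⊥)) := by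
  haveI : Subsingleton (Mtop (NN G ⊥)) := subsingleton_NN_bot G ⊤
  exact kAcyc_of_subsingleton fs _

theorem kAcyc_bigN (l : List X.Opens) (hl : ∀ V ∈ l, ∃ a ∈ fs, X.basicOpen a = V) :
    KAcyc fs (Mtop (bigN G l)) := by
  induction l with
  | nil => exact kAcyc_NN_bot G fs
  | cons V l ih =>
    obtain ⟨a, ha, rfl⟩ := hl _ (List.mem_cons_self ..)
    have hA := kAcyc_NN G fs a ha
    have hB := ih (fun V' hV' => hl V' (List.mem_cons_of_mem _ hV'))
    let N' := NN G (X.basicOpen a) ⊞ bigN G l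
    have hid : gm (biprod.fst : N' ⟶ NN G (X.basicOpen a)) ≫ gm biprod.inl +
        gm (biprod.snd : N' ⟶ bigN G l) ≫ gm biprod.inr = 𝟙 (Mtop N') := by
      rw [← gm_comp, ← gm_comp, ← gm_add, biprod.total, gm_id]
    exact kAcyc_of_retract fs _ _ _ _ hid hA hB

end koszulN

end CechKos
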