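import Mathlib
import Groth.Agent.Lib.CechKos2_helper9

/-!
# Čech cohomology of the basic opens versus direct-limit Koszul cohomology (helper9), part 3

`X` a quasi-compact quasi-separated scheme, `f_1, …, f_r` global functions, `G` a quasi-coherent
module.  We compare the Čech cohomology of `G` for the family `(X_{f_i})` with the direct-limit
Koszul cohomology of `M`, for any module `M` with a map `ρ : M → Γ(X, G)` whose kernel and cokernel
are power-torsion for all the `f_i` (`IsPair`).  This generality makes the dimension shifting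
argument close up.
APPEND-ONLY once landed.
-/

set_option autoImplicit false
universe u
open CategoryTheory CategoryTheory.Limits AlgebraicGeometry Opposite TopologicalSpace
open QcqsLoc QCohExtn AcycEmb KoszulCokG
open Groth.Agent.Lib.InjHull_helper3 Groth.Agent.Lib.KoszulLim_helper6
  Groth.Agent.Lib.KoszulLim2_helper6 Groth.Agent.Lib.KoszulCok9

namespace CechKos

variable {X : Scheme.{u}} (fs : List Γ(X, ⊤))

/-- A module mapping to the global sections of `G` with power-torsion kernel and cokernel. -/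
structure IsPair (G : X.Modules) (M : ModuleCat.{u} Γ(X, ⊤)) (ρ : M ⟶ Mtop G) : Prop where
  ker : ∀ a ∈ fs, ∀ m : M, ρ.hom m = 0 → ∃ n : ℕ, a ^ n • m = 0
  cok : ∀ a ∈ fs, ∀ t : Mtop G, ∃ (n : ℕ) (m : M), a ^ n • t = ρ.hom m

theorem isPair_id (G : X.Modules) : IsPair fs G (Mtop G) (𝟙 _) where
  ker := fun _ _ m hm => ⟨0, by rw [pow_zero, one_smul]; exact hm⟩
  cok := fun _ _ t => ⟨0, t, by rw [pow_zero, one_smul]; rfl⟩

section base

variable [CompactSpace X] [QuasiSeparatedSpace X] (G : X.Modules) [G.IsQuasicoherent]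
  {M : ModuleCat.{u} Γ(X, ⊤)} (ρ : M ⟶ Mtop G) (hρ : IsPair fs G M ρ)

/-- The quotient `E/ι(ρ(M))`. -/
noncomputable abbrev QQ' : Type u := (EE G fs) ⧸ LinearMap.range (ρ ≫ iota G fs).hom

/-- `Γ(U, G) → E/ι(ρ(M))`. -/
noncomputable def Phi0' : SecA G (Uf fs) →ₗ[Γ(X, ⊤)] QQ' fs G ρ :=
  (LinearMap.range (ρ ≫ iota G fs).hom).mkQ.comp (sig G fs)

include hρ in
theorem Phi0'_mem (s : SecA G (Uf fs)) :
    Phi0' fs G ρ s ∈ Γ (Ideal.span {x | x ∈ fs}) (QQ' fs G ρ) := by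
  rw [← mem_Γ_span_iff' fs (QQ' fs G ρ)]
  intro g hg
  obtain ⟨i, hi⟩ := List.mem_iff_get.mp hg
  obtain ⟨n, m, hnm⟩ := sig_pow_mem G fs s i
  rw [hi] at hnm
  obtain ⟨k, m', hm'⟩ := hρ.cok g hg m
  refine ⟨k + n, ?_⟩
  show g ^ (k + n) • (LinearMap.range (ρ ≫ iota G fs).hom).mkQ (sig G fs s) = 0
  rw [← map_smul, pow_add, mul_smul, hnm, ← map_smul, hm', Submodule.mkQ_apply,
    Submodule.Quotient.mk_eq_zero]
  exact ⟨m', rfl⟩

theorem Phi0'_surj (q : QQ' fs G ρ) (hq : q ∈ Γ (Ideal.span {x | x ∈ fs}) (QQ' fs G ρ)) :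
    ∃ s : SecA G (Uf fs), Phi0' fs G ρ s = q := by
  obtain ⟨e, rfl⟩ := Submodule.mkQ_surjective _ q
  rw [← mem_Γ_span_iff' fs (QQ' fs G ρ)] at hq
  have he : ∀ i : Fin fs.length, ∃ (n : ℕ) (m : Mtop G),
      (fs.get i) ^ n • e = (iota G fs).hom m := by
    intro i
    obtain ⟨n, hn⟩ := hq (fs.get i) (List.get_mem fs i)
    rw [← map_smul, Submodule.mkQ_apply, Submodule.Quotient.mk_eq_zero] at hn
    obtain ⟨m, hm⟩ := hn
    exact ⟨n, ρ.hom m, hm.symm⟩
  obtain ⟨s, hs⟩ := exists_sig_eq G fs e he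
  exact ⟨s, by show (LinearMap.range (ρ ≫ iota G fs).hom).mkQ (sig G fs s) = _; rw [hs]⟩

theorem Phi0'_eq_zero_iff (s : SecA G (Uf fs)) :
    Phi0' fs G ρ s = 0 ↔ ∃ m : M, resTop G (Uf fs) (ρ.hom m) = s := by
  show (LinearMap.range (ρ ≫ iota G fs).hom).mkQ (sig G fs s) = 0 ↔ _
  rw [Submodule.mkQ_apply, Submodule.Quotient.mk_eq_zero]
  constructor
  · rintro ⟨m, hm⟩
    refine ⟨m, sig_injective G fs ?_⟩
    rw [← iota_eq_sig]
    exact hm
  · rintro ⟨m, rfl⟩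
    exact ⟨m, iota_eq_sig G fs (ρ.hom m)⟩

/-- `Γ(U, G) → Γ_I(E/ι(ρ(M)))` as an additive map. -/
noncomputable def Psi' : Γ(G, Uf fs) →+ ↥(Γ (Ideal.span {x | x ∈ fs}) (QQ' fs G ρ)) :=
  ((Phi0' fs G ρ).codRestrict (Γ (Ideal.span {x | x ∈ fs}) (QQ' fs G ρ))
    (Phi0'_mem fs G ρ hρ)).toAddMonoidHom

theorem Psi'_surjective : Function.Surjective (Psi' fs G ρ hρ) := by
  rintro ⟨q, hq⟩
  obtain ⟨s, hs⟩ := Phi0'_surj fs G ρ q hq
  exact ⟨s, Subtype.ext hs⟩

/-- The composite `M → Γ(X, G) → Γ(U, G)`. -/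
noncomputable def resρ : M →+ Γ(G, Uf fs) :=
  (rF G (le_top : Uf fs ≤ ⊤)).comp ρ.hom.toAddMonoidHom

theorem resρ_apply (m : M) : resρ fs G ρ m = rF G (le_top : Uf fs ≤ ⊤) (ρ.hom m) := rfl

theorem Psi'_ker : (resρ fs G ρ).range = (Psi' fs G ρ hρ).ker := by
  ext s
  rw [AddMonoidHom.mem_range, AddMonoidHom.mem_ker]
  constructor
  · rintro ⟨m, rfl⟩
    apply Subtype.ext
    exact (Phi0'_eq_zero_iff fs G ρ _).2 ⟨m, rfl⟩
  · intro hs
    have h0 : Phi0' fs G ρ s = 0 := congrArg Subtype.val hs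
    obtain ⟨m, hm⟩ := (Phi0'_eq_zero_iff fs G ρ s).1 h0
    exact ⟨m, hm⟩

include hρ in
/-- The base case: the cokernel of `M → Γ(U, G)` is `H^1((f), M)`. -/
theorem nonempty_base (j1 : ℤ) (hj1 : -(fs.length : ℤ) + 1 = j1) :
    Nonempty (Γ(G, Uf fs) ⧸ (resρ fs G ρ).range ≃+ Lj fs j1 M) := by
  have hT : ∀ a ∈ fs, ∀ m : M, (ρ ≫ iota G fs).hom m = 0 → ∃ n : ℕ, a ^ n • m = 0 := by
    intro a ha m hm
    have hm' : (iota G fs).hom (ρ.hom m) = 0 := hm
    obtain ⟨n, hn⟩ := iota_ker_tors G fs a ha (ρ.hom m) hm'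
    rw [← map_smul] at hn
    obtain ⟨k, hk⟩ := hρ.ker a ha _ hn
    exact ⟨k + n, by rw [pow_add, mul_smul]; exact hk⟩
  obtain ⟨e⟩ := nonempty_L1_equiv fs M (EE G fs) (ρ ≫ iota G fs) hT (isZero_homology_EE G fs)
    (-(fs.length : ℤ)) j1 rfl hj1
  let e1 := QuotientAddGroup.quotientAddEquivOfEq (Psi'_ker fs G ρ hρ)
  let e2 := QuotientAddGroup.quotientKerEquivOfSurjective (Psi' fs G ρ hρ)
    (Psi'_surjective fs G ρ hρ)
  exact ⟨e1.trans (e2.trans e.symm.toAddEquiv)⟩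

end base

section step

variable [CompactSpace X] [QuasiSeparatedSpace X] (G : X.Modules) [G.IsQuasicoherent]
  {M : ModuleCat.{u} Γ(X, ⊤)} (ρ : M ⟶ Mtop G) (hρ : IsPair fs G M ρ)

/-- The cokernel of a morphism of quasi-coherent modules is quasi-coherent. -/
theorem isQuasicoherent_cokernel' {F G : X.Modules} [F.IsQuasicoherent] [G.IsQuasicoherent]
    (u : F ⟶ G) : (cokernel u).IsQuasicoherent := by
  haveI h1 : (Abelian.coimage u).IsQuasicoherent := SubExt.isQuasicoherent_coimage u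
  haveI h2 : (Abelian.image u).IsQuasicoherent :=
    (SheafOfModules.isQuasicoherent X.ringCatSheaf).prop_of_iso (Abelian.coimageIsoImage u) h1
  let E : ShortComplex X.Modules :=
    ShortComplex.mk (kernel.ι (cokernel.π u)) (cokernel.π u) (kernel.condition _)
  have hE : E.ShortExact := ShortComplex.ShortExact.mk' (ShortComplex.exact_kernel (cokernel.π u))
    (inferInstanceAs (Mono (kernel.ι (cokernel.π u)))) (inferInstanceAs (Epi (cokernel.π u)))
  haveI : E.X₁.IsQuasicoherent := h2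
  haveI : E.X₂.IsQuasicoherent := ‹G.IsQuasicoherent›
  exact SubExt.isQuasicoherent_X₃ E hE

/-- The list of the basic opens. -/
noncomputable abbrev lst : List X.Opens := fs.map (fun a => X.basicOpen a)

theorem mem_lst {V : X.Opens} : V ∈ lst fs ↔ ∃ a ∈ fs, X.basicOpen a = V := List.mem_map

theorem compact_lst : ∀ V ∈ lst fs, IsCompact (V : Set X) := by
  intro V hV
  obtain ⟨a, -, rfl⟩ := (mem_lst fs).1 hV
  exact AlgebraicGeometry.isCompact_basicOpen X isCompact_top a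

/-- The sum of the `j_* j^* G` over the basic opens. -/
noncomputable abbrev NB : X.Modules := bigN G (lst fs)

/-- `G ⟶ N`. -/
noncomputable abbrev uB : G ⟶ NB fs G := bigU G (lst fs)

instance isQuasicoherent_NB : (NB fs G).IsQuasicoherent :=
  isQuasicoherent_bigN' G (lst fs) (compact_lst fs)

instance isQuasicoherent_CC : (CC G (lst fs)).IsQuasicoherent :=
  isQuasicoherent_cokernel' _

/-- `M → Γ(X, N)`. -/
noncomputable abbrev phiM : M ⟶ Mtop (NB fs G) := ρ ≫ gm (uB fs G)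

/-- The image of `M` in `Γ(X, N)`. -/
noncomputable abbrev Mim : Submodule Γ(X, ⊤) (Mtop (NB fs G)) :=
  LinearMap.range (phiM fs G ρ).hom

/-- `Γ(X, N)/M'`. -/
noncomputable abbrev QM : ModuleCat.{u} Γ(X, ⊤) :=
  ModuleCat.of Γ(X, ⊤) ((Mtop (NB fs G)) ⧸ Mim fs G ρ)

theorem Mim_le_ker : Mim fs G ρ ≤ LinearMap.ker (gm (pp G (lst fs))).hom := by
  rintro _ ⟨m, rfl⟩
  rw [LinearMap.mem_ker]
  exact pp_u G (lst fs) ⊤ (ρ.hom m)

/-- `Q → Γ(X, C)`. -/
noncomputable def rhoQ : QM fs G ρ ⟶ Mtop (CC G (lst fs)) :=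
  ModuleCat.ofHom ((Mim fs G ρ).liftQ (gm (pp G (lst fs))).hom (Mim_le_ker fs G ρ))

theorem rhoQ_mk (n : Mtop (NB fs G)) :
    (rhoQ fs G ρ).hom (Submodule.Quotient.mk n) = ap (pp G (lst fs)) ⊤ n := rfl

section bridge

variable (F : X.Modules) [F.IsQuasicoherent] (a : Γ(X, ⊤))

theorem surj_top (s : Γ(F, X.basicOpen a)) :
    ∃ (k : ℕ) (t : Mtop F), rX (le_top : X.basicOpen a ≤ ⊤) a ^ k • s =
      rF F (le_top : X.basicOpen a ≤ ⊤) t := by
  obtain ⟨k, t, hkt⟩ := surj_of_qcqs F a isCompact_top isQuasiSeparated_top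
    (homOfLE (le_top : X.basicOpen a ≤ ⊤)) rfl s
  exact ⟨k, t, hkt⟩

theorem ker_top (d : Mtop F) (hd : rF F (le_top : X.basicOpen a ≤ ⊤) d = 0) :
    ∃ k : ℕ, a ^ k • d = 0 := by
  obtain ⟨k, hk⟩ := ker_of_isCompact F a isCompact_top
    (homOfLE (le_top : X.basicOpen a ≤ ⊤)) rfl d hd
  exact ⟨k, hk⟩

omit [CompactSpace X] [QuasiSeparatedSpace X] [F.IsQuasicoherent] in
theorem rF_top_smul {V : X.Opens} (k : ℕ) (d : Mtop F) :
    rF F (le_top : V ≤ ⊤) (a ^ k • d) =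
      rX (le_top : V ≤ ⊤) a ^ k • rF F (le_top : V ≤ ⊤) d :=
  rF_pow_smul F (le_top : V ≤ ⊤) a k d

omit [CompactSpace X] [QuasiSeparatedSpace X] [F.IsQuasicoherent] in
theorem rF_top_sub {V : X.Opens} (d d' : Mtop F) :
    rF F (le_top : V ≤ ⊤) (d - d') =
      rF F (le_top : V ≤ ⊤) d - rF F (le_top : V ≤ ⊤) d' :=
  map_sub (rF F (le_top : V ≤ ⊤)) d d'

end bridge

include hρ in
theorem isPair_rhoQ : IsPair fs (CC G (lst fs)) (QM fs G ρ) (rhoQ fs G ρ) := by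
  constructor
  · intro a ha q hq
    obtain ⟨n, rfl⟩ := Submodule.Quotient.mk_surjective _ q
    have hq' : ap (pp G (lst fs)) ⊤ n = 0 := hq
    have hV : X.basicOpen a ∈ lst fs := (mem_lst fs).2 ⟨a, ha, rfl⟩
    obtain ⟨qq, hqq⟩ := exists_proj G (lst fs) (X.basicOpen a) hV
    have h1 : ap (pp G (lst fs)) (X.basicOpen a)
        (rF (NB fs G) (le_top : X.basicOpen a ≤ ⊤) n) = 0 := by
      rw [ap_rF, hq', map_zero]
    obtain ⟨s, hs⟩ := exact_F2 G (lst fs) qq hqq (X.basicOpen a) le_rfl _ h1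
    obtain ⟨k, t, hkt⟩ := surj_top G a s
    have hd : rF (NB fs G) (le_top : X.basicOpen a ≤ ⊤)
        (a ^ k • n - (gm (uB fs G)).hom t) = 0 := by
      rw [rF_top_sub, rF_top_smul, ← hs, gm_apply, ← ap_rF, ← hkt, ap_smul, sub_self]
    obtain ⟨k', hk'⟩ := ker_top (NB fs G) a _ hd
    obtain ⟨k'', m, hm⟩ := hρ.cok a ha (a ^ k' • t)
    refine ⟨k'' + (k' + k), ?_⟩
    rw [← Submodule.Quotient.mk_smul, Submodule.Quotient.mk_eq_zero]
    refine ⟨m, ?_⟩
    show (gm (uB fs G)).hom (ρ.hom m) = _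
    rw [← hm, map_smul, map_smul]
    rw [smul_sub, sub_eq_zero] at hk'
    rw [← hk', pow_add, pow_add, mul_smul, mul_smul]
  · intro a ha c
    have hV : X.basicOpen a ∈ lst fs := (mem_lst fs).2 ⟨a, ha, rfl⟩
    obtain ⟨qq, hqq⟩ := exists_proj G (lst fs) (X.basicOpen a) hV
    obtain ⟨nV, hnV⟩ := surj_F3 G (lst fs) qq hqq (X.basicOpen a) le_rfl
      (rF (CC G (lst fs)) (le_top : X.basicOpen a ≤ ⊤) c)
    obtain ⟨k, n, hkn⟩ := surj_top (NB fs G) a nV
    have hd : rF (CC G (lst fs)) (le_top : X.basicOpen a ≤ ⊤)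
        ((gm (pp G (lst fs))).hom n - a ^ k • c) = 0 := by
      rw [rF_top_sub, rF_top_smul, ← hnV, gm_apply, ← ap_rF, ← hkn, ap_smul, sub_self]
    obtain ⟨k', hk'⟩ := ker_top (CC G (lst fs)) a _ hd
    refine ⟨k' + k, Submodule.Quotient.mk (a ^ k' • n), ?_⟩
    rw [rhoQ_mk]
    show _ = (gm (pp G (lst fs))).hom (a ^ k' • n)
    rw [smul_sub, sub_eq_zero] at hk'
    rw [map_smul, hk', pow_add, mul_smul]

open Groth.Agent.DepthLib in
include hρ in
/-- The Koszul side of the dimension shifting: `L^j(Q) ≅ L^{j+1}(M)`. -/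
theorem nonempty_L_shift (j0 j : ℤ) (hj : j0 + 1 = j) (hpos : -(fs.length : ℤ) < j) :
    Nonempty (Lj fs j0 (QM fs G ρ) ≃+ Lj fs j M) := by
  let φ := phiM fs G ρ
  let T : Submodule Γ(X, ⊤) M := LinearMap.ker φ.hom
  let M' : Submodule Γ(X, ⊤) (Mtop (NB fs G)) := Mim fs G ρ
  have hex₁ : Function.Exact T.subtype φ.hom.rangeRestrict := by
    intro m
    constructor
    · intro hm
      have : φ.hom m = 0 := congrArg Subtype.val hm
      exact ⟨⟨m, this⟩, rfl⟩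
    · rintro ⟨t, rfl⟩
      apply Subtype.ext
      exact t.2
  let S₁ := shortComplexOf T.subtype φ.hom.rangeRestrict hex₁
  have hS₁ : S₁.ShortExact := shortComplexOf_shortExact _ _ T.injective_subtype
    φ.hom.surjective_rangeRestrict hex₁
  have hex₂ : Function.Exact M'.subtype M'.mkQ := LinearMap.exact_subtype_mkQ M'
  let S₂ := shortComplexOf M'.subtype M'.mkQ hex₂
  have hS₂ : S₂.ShortExact := shortComplexOf_shortExact _ _ M'.injective_subtype
    (Submodule.mkQ_surjective M') hex₂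
  have hTors : ∀ a ∈ fs, IsTors a (S₁.X₁ : ModuleCat.{u} Γ(X, ⊤)) := by
    intro a ha t
    have ht : ap (uB fs G) ⊤ (ρ.hom t.1) = 0 := t.2
    have hV : X.basicOpen a ∈ lst fs := (mem_lst fs).2 ⟨a, ha, rfl⟩
    have h0 := ker_bigU G (lst fs) ⊤ (ρ.hom t.1) ht (X.basicOpen a) hV
    obtain ⟨n, hn⟩ := ker_of_isCompact G a isCompact_top
      (homOfLE (inf_le_left : (⊤ : X.Opens) ⊓ X.basicOpen a ≤ ⊤)) (top_inf_eq _) (ρ.hom t.1) h0
    have hn' : ρ.hom (a ^ n • t.1) = 0 := by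
      rw [map_smul]
      exact hn
    obtain ⟨k, hk⟩ := hρ.ker a ha _ hn'
    refine ⟨k + n, Subtype.ext ?_⟩
    show a ^ (k + n) • t.1 = 0
    rw [pow_add, mul_smul]
    exact hk
  have hv1 : Van fs j S₁.X₁ := fun n x => tors_vanish S₁.X₁ fs hTors j hpos n x
  have hv2 : Van fs (j + 1) S₁.X₁ := fun n x =>
    tors_vanish S₁.X₁ fs hTors (j + 1) (by omega) n x
  have hA := Lmap_g_bijective fs j S₁ hS₁ (j + 1) rfl hv1 hv2
  have hK : KAcyc fs (Mtop (NB fs G)) :=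
    kAcyc_bigN G fs (lst fs) (fun V hV => (mem_lst fs).1 hV)
  have hB := dL_bijective fs j0 S₂ hS₂ j hj (van_of_isZero fs j0 (fun n => hK n j0))
    (van_of_isZero fs j (fun n => hK n j))
  let eA := LinearEquiv.ofBijective (Lmap fs j S₁.g) hA
  let eB := LinearEquiv.ofBijective (dL fs S₂ hS₂ j0 j hj) hB
  exact ⟨(eB.trans eA.symm).toAddEquiv⟩

end step

end CechKos
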