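import Mathlib
import Groth.Prelude.Def_CohB1
import Groth.Agent.Lib.CechKos3_helper9

/-!
# Čech cohomology of the basic opens versus direct-limit Koszul cohomology (helper9), part 4

The main theorem `CechKos.nonempty_cech_koszul`: for a quasi-coherent module `G` on a quasi-compact
quasi-separated scheme `X` and global functions `f_1, …, f_r`, `Ȟ^{p+1}((X_{f_i}), G) ≅ H^{p+2}((f), Γ(X, G))`.
APPEND-ONLY once landed.
-/

set_option autoImplicit false
universe u
open CategoryTheory CategoryTheory.Limits AlgebraicGeometry Opposite TopologicalSpace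
open QcqsLoc QCohExtn AcycEmb KoszulCokG
open Groth.Agent.Lib.InjHull_helper3 Groth.Agent.Lib.KoszulLim_helper6
  Groth.Agent.Lib.KoszulLim2_helper6 Groth.Agent.Lib.KoszulCok9 Groth.Agent.Lib.Cech

namespace CechKos

variable {X : Scheme.{u}} [CompactSpace X] [QuasiSeparatedSpace X] (fs : List Γ(X, ⊤))

/-- The family of the basic opens. -/
noncomputable abbrev UU : ULift.{u} (Fin fs.length) → X.Opens :=
  fun i => X.basicOpen (fs.get i.down)

theorem iSup_UU : iSup (UU fs) = Uf fs := by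
  apply le_antisymm
  · exact iSup_le fun i => le_Uf fs i.down
  · exact iSup_le fun i => le_iSup (UU fs) (ULift.up i)

theorem UU_mem_lst (i : ULift.{u} (Fin fs.length)) : UU fs i ∈ lst fs :=
  (mem_lst fs).2 ⟨fs.get i.down, List.get_mem fs i.down, rfl⟩

theorem exists_UU_eq : ∀ V ∈ lst fs, ∃ i, UU fs i = V := by
  intro V hV
  obtain ⟨a, ha, rfl⟩ := (mem_lst fs).1 hV
  obtain ⟨i, rfl⟩ := List.mem_iff_get.mp ha
  exact ⟨ULift.up i, rfl⟩

theorem lst_le_iSup : ∀ V ∈ lst fs, V ≤ iSup (UU fs) := by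
  intro V hV
  obtain ⟨i, rfl⟩ := exists_UU_eq fs V hV
  exact le_iSup (UU fs) i

theorem inter_le_UU {n : ℕ} (σ : Fin (n + 1) → ULift.{u} (Fin fs.length)) :
    (⨅ k, UU fs (σ k)) ≤ UU fs (σ 0) := iInf_le (fun k => UU fs (σ k)) 0

section sheaf

variable (G : X.Modules)

/-- The short complex of abelian sheaves `G → N → C` (auxiliary form). -/
noncomputable def SAb0 :
    ShortComplex (Sheaf (Opens.grothendieckTopology X) AddCommGrpCat.{u}) :=
  (ShortComplex.mk (uB fs G) (pp G (lst fs)) (cokernel.condition _)).map (SerreCrit.TT X)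

/-- The short complex of abelian sheaves `G → N → C`. -/
noncomputable def SAb : ShortComplex (CohTop.Ab X.toTopCat) :=
  ShortComplex.mk (X₁ := (SerreCrit.TT X).obj G) (X₂ := (SerreCrit.TT X).obj (NB fs G))
    (X₃ := (SerreCrit.TT X).obj (CC G (lst fs))) ((SerreCrit.TT X).map (uB fs G))
    ((SerreCrit.TT X).map (pp G (lst fs))) (SAb0 fs G).zero

theorem cechSC_SAb_shortExact : (cechSC (UU fs) (SAb fs G)).ShortExact := by
  apply cechSC_shortExact'
  · intro n σ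
    obtain ⟨q, hq⟩ := exists_proj G (lst fs) (UU fs (σ 0)) (UU_mem_lst fs (σ 0))
    exact bigU_injective G (lst fs) q hq _ (inter_le_UU fs σ)
  · intro n σ b hb
    obtain ⟨q, hq⟩ := exists_proj G (lst fs) (UU fs (σ 0)) (UU_mem_lst fs (σ 0))
    exact exact_F2 G (lst fs) q hq _ (inter_le_UU fs σ) b hb
  · intro n σ c
    obtain ⟨q, hq⟩ := exists_proj G (lst fs) (UU fs (σ 0)) (UU_mem_lst fs (σ 0))
    exact surj_F3 G (lst fs) q hq _ (inter_le_UU fs σ) c

theorem cechAcyc_SAb : CechAcyc (X := X.toTopCat) (SAb fs G).X₂.obj (UU fs) :=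
  cechAcyc_bigN G (UU fs) (lst fs) (exists_UU_eq fs)

end sheaf

section main

/-- The base case over an open equal to the union. -/
theorem nonempty_base' (G : X.Modules) [G.IsQuasicoherent] {M : ModuleCat.{u} Γ(X, ⊤)}
    (ρ : M ⟶ Mtop G) (hρ : IsPair fs G M ρ) (U' : X.Opens) (hU' : U' = Uf fs) (j1 : ℤ)
    (hj1 : -(fs.length : ℤ) + 1 = j1) :
    Nonempty (Γ(G, U') ⧸
      ((rF G (le_top : U' ≤ ⊤)).comp ρ.hom.toAddMonoidHom).range ≃+ Lj fs j1 M) := by
  subst hU'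
  exact nonempty_base fs G ρ hρ j1 hj1

theorem range_eq (G : X.Modules) [G.IsQuasicoherent] {M : ModuleCat.{u} Γ(X, ⊤)}
    (ρ : M ⟶ Mtop G) :
    ((SAb fs G).g.hom.app (op (iSup (UU fs)))).hom.range =
      ((rF (CC G (lst fs)) (le_top : iSup (UU fs) ≤ ⊤)).comp
        (rhoQ fs G ρ).hom.toAddMonoidHom).range := by
  ext c
  constructor
  · rintro ⟨n', rfl⟩
    obtain ⟨n, rfl⟩ := bigN_res_surjective G (lst fs) (iSup (UU fs)) (lst_le_iSup fs) n'
    refine ⟨Submodule.Quotient.mk n, ?_⟩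
    show rF (CC G (lst fs)) (le_top : iSup (UU fs) ≤ ⊤) (ap (pp G (lst fs)) ⊤ n) =
      ap (pp G (lst fs)) (iSup (UU fs)) (rF (NB fs G) (le_top : iSup (UU fs) ≤ ⊤) n)
    rw [ap_rF]
  · rintro ⟨q, rfl⟩
    obtain ⟨n, rfl⟩ := Submodule.Quotient.mk_surjective _ q
    refine ⟨rF (NB fs G) (le_top : iSup (UU fs) ≤ ⊤) n, ?_⟩
    show ap (pp G (lst fs)) (iSup (UU fs)) (rF (NB fs G) (le_top : iSup (UU fs) ≤ ⊤) n) =
      rF (CC G (lst fs)) (le_top : iSup (UU fs) ≤ ⊤) (ap (pp G (lst fs)) ⊤ n)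
    rw [ap_rF]

/-- **Čech cohomology of the basic opens is direct-limit Koszul cohomology**, for pairs. -/
theorem nonempty_cech_koszul_pair (p : ℕ) : ∀ (G : X.Modules) [G.IsQuasicoherent]
    (M : ModuleCat.{u} Γ(X, ⊤)) (ρ : M ⟶ Mtop G) (_ : IsPair fs G M ρ),
    Nonempty (CohTop.cechH (X := X.toTopCat) ((PT X).obj G) (UU fs) (p + 1) ≃+
      Lj fs ((p : ℤ) + 2 - fs.length) M) := by
  induction p with
  | zero =>
    intro G _ M ρ hρ
    obtain ⟨e1⟩ := nonempty_shift_zero (UU fs) (SAb fs G) (cechSC_SAb_shortExact fs G)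
      (cechAcyc_SAb fs G)
    obtain ⟨e2⟩ := nonempty_base' fs (CC G (lst fs)) (rhoQ fs G ρ) (isPair_rhoQ fs G ρ hρ)
      (iSup (UU fs)) (iSup_UU fs) (-(fs.length : ℤ) + 1) rfl
    obtain ⟨e3⟩ := nonempty_L_shift fs G ρ hρ (-(fs.length : ℤ) + 1)
      (((0 : ℕ) : ℤ) + 2 - fs.length) (by push_cast; ring) (by push_cast; omega)
    let e0 := QuotientAddGroup.quotientAddEquivOfEq (range_eq fs G ρ)
    exact ⟨e1.symm.trans (e0.trans (e2.trans e3))⟩
  | succ p ih =>
    intro G _ M ρ hρ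
    obtain ⟨e1⟩ := nonempty_shift (UU fs) (SAb fs G) (cechSC_SAb_shortExact fs G)
      (cechAcyc_SAb fs G) p
    obtain ⟨e2⟩ := ih (CC G (lst fs)) (QM fs G ρ) (rhoQ fs G ρ) (isPair_rhoQ fs G ρ hρ)
    obtain ⟨e3⟩ := nonempty_L_shift fs G ρ hρ ((p : ℤ) + 2 - fs.length)
      (((p + 1 : ℕ) : ℤ) + 2 - fs.length) (by push_cast; ring) (by push_cast; omega)
    exact ⟨e1.symm.trans (e2.trans e3)⟩

/-- **Čech cohomology of the basic opens is direct-limit Koszul cohomology.** -/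
theorem nonempty_cech_koszul (G : X.Modules) [G.IsQuasicoherent] (p : ℕ) (hp : 1 ≤ p) :
    Nonempty (↑(CohB1.cechH (UU fs) G p) ≃+ CohIII.koszulHLim fs (Mtop G) (p + 1)) := by
  obtain ⟨q, rfl⟩ : ∃ q, p = q + 1 := ⟨p - 1, by omega⟩
  obtain ⟨e⟩ := nonempty_cech_koszul_pair fs q G (Mtop G) (𝟙 _) (isPair_id fs G)
  have hidx : ((q : ℤ) + 2 - fs.length) = (((q + 1 + 1 : ℕ) : ℤ) - fs.length) := by
    push_cast
    ring
  rw [hidx] at e
  exact ⟨e⟩

end main

end CechKos
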