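import Mathlib

/-!
# Comparison of `Ext` groups along an exact functor by dimension shifting

Let `Φ : A ⥤ B` be an exact additive functor between abelian categories, `GA : A`, `GB : B` objects
with a natural additive identification `Hom(GA, F) ≃+ Hom(GB, Φ F)`, and assume
`Ext^{n+1}(GB, Φ I) = 0` for every injective `I`.  Then `Ext^n(GA, F) ≃+ Ext^n(GB, Φ F)`.
-/

set_option autoImplicit false
universe w w' v v' u u'
open CategoryTheory Limits Abelian

namespace Groth.Agent.Lib.ExtCompare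

section Gen

variable {C : Type u} [Category.{v} C] [Abelian C] [HasExt.{w} C] (G : C) {S : ShortComplex C}
  (hS : S.ShortExact)

/-- the connecting isomorphism when the middle term is acyclic -/
noncomputable def extShift (p : ℕ) (hI1 : ∀ ξ : Ext G S.X₂ (p + 1), ξ = 0)
    (hI2 : ∀ ξ : Ext G S.X₂ (p + 2), ξ = 0) : Ext G S.X₃ (p + 1) ≃+ Ext G S.X₁ (p + 2) :=
  AddEquiv.ofBijective (hS.extClass.postcomp G (rfl : p + 1 + 1 = p + 2)) (by
    constructor
    · rw [injective_iff_map_eq_zero]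
      intro x hx
      obtain ⟨y, hy⟩ := Ext.covariant_sequence_exact₃ G hS x (rfl : p + 1 + 1 = p + 2) hx
      rw [← hy, hI1 y, Ext.zero_comp]
    · intro ξ
      exact Ext.covariant_sequence_exact₁ G hS ξ (hI2 _) (rfl : p + 1 + 1 = p + 2))

/-- the connecting map from `Hom(G, X₃)` to `Ext^1(G, X₁)` -/
noncomputable def δ₀ : (G ⟶ S.X₃) →+ Ext G S.X₁ 1 :=
  AddMonoidHom.mk' (fun z => (Ext.mk₀ z).comp hS.extClass (zero_add 1)) (by
    intro a b
    rw [Ext.mk₀_add, Ext.add_comp])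

lemma δ₀_apply (z : G ⟶ S.X₃) : δ₀ G hS z = (Ext.mk₀ z).comp hS.extClass (zero_add 1) := rfl

lemma δ₀_surjective (hI : ∀ ξ : Ext G S.X₂ 1, ξ = 0) : Function.Surjective (δ₀ G hS) := by
  intro ξ
  obtain ⟨x, hx⟩ := Ext.covariant_sequence_exact₁ G hS ξ (hI _) (zero_add 1)
  obtain ⟨z, rfl⟩ := (Ext.mk₀_bijective G S.X₃).2 x
  exact ⟨z, hx⟩

lemma δ₀_eq_zero_iff (z : G ⟶ S.X₃) : δ₀ G hS z = 0 ↔ ∃ y : G ⟶ S.X₂, y ≫ S.g = z := by
  rw [δ₀_apply]
  constructor
  · intro h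
    obtain ⟨y, hy⟩ := Ext.covariant_sequence_exact₃ G hS (Ext.mk₀ z) (zero_add 1) h
    obtain ⟨y', rfl⟩ := (Ext.mk₀_bijective G S.X₂).2 y
    rw [Ext.mk₀_comp_mk₀] at hy
    exact ⟨y', (Ext.mk₀_bijective G S.X₃).1 hy⟩
  · rintro ⟨y, rfl⟩
    rw [← Ext.mk₀_comp_mk₀, Ext.comp_assoc_of_second_deg_zero, hS.comp_extClass, Ext.comp_zero]

end Gen

theorem nonempty_addEquiv_of_surj {Z A B : Type*} [AddCommGroup Z] [AddCommGroup A]
    [AddCommGroup B] (φ : Z →+ A) (ψ : Z →+ B) (hφ : Function.Surjective φ)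
    (hψ : Function.Surjective ψ) (hk : ∀ z, φ z = 0 ↔ ψ z = 0) : Nonempty (A ≃+ B) := by
  have hker : φ.ker = ψ.ker := by
    ext z
    simp only [AddMonoidHom.mem_ker]
    exact hk z
  exact ⟨(QuotientAddGroup.quotientKerEquivOfSurjective φ hφ).symm.trans
    ((QuotientAddGroup.quotientAddEquivOfEq hker).trans
      (QuotientAddGroup.quotientKerEquivOfSurjective ψ hψ))⟩

variable {A : Type u} [Category.{v} A] [Abelian A] [HasExt.{w} A] [EnoughInjectives A]
  {B : Type u'} [Category.{v'} B] [Abelian B] [HasExt.{w'} B]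

/-- comparison of `Ext` groups along an exact functor -/
theorem nonempty_ext_addEquiv (Φ : A ⥤ B) [Φ.Additive]
    (hΦ : ∀ S : ShortComplex A, S.ShortExact → (S.map Φ).ShortExact)
    (GA : A) (GB : B) (e : ∀ F : A, (GA ⟶ F) ≃+ (GB ⟶ Φ.obj F))
    (he : ∀ {F F' : A} (f : GA ⟶ F) (φ : F ⟶ F'), e F' (f ≫ φ) = e F f ≫ Φ.map φ)
    (hI : ∀ (I : A), Injective I → ∀ (n : ℕ) (ξ : Ext GB (Φ.obj I) (n + 1)), ξ = 0)
    (n : ℕ) : ∀ F : A, Nonempty (Ext GA F n ≃+ Ext GB (Φ.obj F) n) := by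
  induction n with
  | zero =>
    intro F
    exact ⟨(Ext.addEquiv₀ (X := GA) (Y := F)).trans
      ((e F).trans (Ext.addEquiv₀ (X := GB) (Y := Φ.obj F)).symm)⟩
  | succ n ih =>
    intro F
    let S : ShortComplex A := ShortComplex.mk (Injective.ι F) (cokernel.π (Injective.ι F))
      (cokernel.condition _)
    have hS : S.ShortExact :=
      { exact := ShortComplex.exact_of_g_is_cokernel _ (cokernelIsCokernel _)
        mono_f := inferInstanceAs (Mono (Injective.ι F))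
        epi_g := inferInstanceAs (Epi (cokernel.π (Injective.ι F))) }
    have hS' : (S.map Φ).ShortExact := hΦ S hS
    have hIA : ∀ (m : ℕ) (ξ : Ext GA S.X₂ (m + 1)), ξ = 0 :=
      fun m ξ => Ext.eq_zero_of_injective (I := Injective.under F) ξ
    have hIB : ∀ (m : ℕ) (ξ : Ext GB (S.map Φ).X₂ (m + 1)), ξ = 0 :=
      fun m ξ => hI (Injective.under F) inferInstance m ξ
    cases n with
    | zero =>
      let ψ : (GA ⟶ S.X₃) →+ Ext GB (S.map Φ).X₁ 1 :=
        (δ₀ GB hS').comp (e S.X₃).toAddMonoidHom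
      have hψ : Function.Surjective ψ :=
        (δ₀_surjective GB hS' (hIB 0)).comp (e S.X₃).surjective
      refine nonempty_addEquiv_of_surj (δ₀ GA hS) ψ (δ₀_surjective GA hS (hIA 0)) hψ ?_
      intro z
      rw [δ₀_eq_zero_iff]
      show _ ↔ δ₀ GB hS' (e S.X₃ z) = 0
      rw [δ₀_eq_zero_iff]
      constructor
      · rintro ⟨y, rfl⟩
        exact ⟨e S.X₂ y, (he y S.g).symm⟩
      · rintro ⟨y', hy'⟩
        obtain ⟨y, rfl⟩ := (e S.X₂).surjective y'
        refine ⟨y, (e S.X₃).injective ?_⟩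
        rw [he]
        exact hy'
    | succ n =>
      obtain ⟨e1⟩ := ih S.X₃
      exact ⟨(extShift GA hS n (hIA n) (hIA (n + 1))).symm.trans
        (e1.trans (extShift GB hS' n (hIB n) (hIB (n + 1))))⟩

end Groth.Agent.Lib.ExtCompare
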