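import Mathlib
import Groth.Prelude.Def_CohTop
import Groth.Agent.Lib.CechLeray_helper2
import Groth.Agent.Lib.ExtCompare_helper2
import Groth.Agent.Lib.FlasqueAcyclic_helper2

/-!
# Cohomology over an open subset is the cohomology of the restriction
-/

set_option autoImplicit false
universe u
open CategoryTheory Limits TopologicalSpace Opposite Abelian

namespace Groth.Agent.Lib.RestrOpen

open Groth.Agent.Lib.Cech Groth.Agent.Lib.FreeSheaf Groth.Agent.Lib.FlasqueAcyclic

variable {X : TopCat.{u}}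

/-- Exactness criterion: cocycles are locally coboundaries. -/
theorem exact_of_local (S : ShortComplex (CohTop.Ab X))
    (h : ∀ (V : Opens X) (s : S.X₂.obj.obj (op V)), (S.g.hom.app (op V)).hom s = 0 → ∀ x ∈ V,
      ∃ (W : Opens X) (hW : W ≤ V), x ∈ W ∧ ∃ t : S.X₁.obj.obj (op W),
        (S.f.hom.app (op W)).hom t = res S.X₂.obj hW s) :
    S.Exact := by
  rw [S.exact_iff_epi_toCycles]
  refine (TopCat.Sheaf.isLocallySurjective_iff_epi (F := S.X₁) (G := S.cycles) S.toCycles).mp ?_
  rw [TopCat.Presheaf.isLocallySurjective_iff]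
  intro V c x hx
  have hgc : (S.g.hom.app (op V)).hom ((S.iCycles.hom.app (op V)).hom c) = 0 := by
    have := congrArg (fun ψ : S.cycles ⟶ S.X₃ => (ψ.hom.app (op V)).hom c) S.iCycles_g
    exact this
  obtain ⟨W, hW, hxW, t, ht⟩ := h V _ hgc x hx
  refine ⟨W, hW, ⟨t, ?_⟩, hxW⟩
  haveI : Mono S.iCycles := inferInstance
  apply app_injective S.iCycles W
  have h1 : (S.iCycles.hom.app (op W)).hom ((S.toCycles.hom.app (op W)).hom t) =
      (S.f.hom.app (op W)).hom t := by
    have := congrArg (fun ψ : S.X₁ ⟶ S.X₂ => (ψ.hom.app (op W)).hom t) S.toCycles_i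
    exact this
  rw [h1, ht]
  exact (res_app _ S.iCycles.hom hW c).symm

/-- epimorphism criterion: local surjectivity -/
theorem epi_of_local {F G : CohTop.Ab X} (φ : F ⟶ G)
    (h : ∀ (V : Opens X) (s : G.obj.obj (op V)), ∀ x ∈ V,
      ∃ (W : Opens X) (hW : W ≤ V), x ∈ W ∧ ∃ t : F.obj.obj (op W),
        (φ.hom.app (op W)).hom t = res G.obj hW s) : Epi φ := by
  have h0 : Epi (C := TopCat.Sheaf AddCommGrpCat.{u} X) φ := by
    refine (TopCat.Sheaf.isLocallySurjective_iff_epi (F := F) (G := G) φ).mp ?_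
    rw [TopCat.Presheaf.isLocallySurjective_iff]
    intro V s x hx
    obtain ⟨W, hW, hxW, t, ht⟩ := h V s x hx
    exact ⟨W, hW, ⟨t, ht⟩, hxW⟩
  exact h0

variable (U : Opens X)

/-- the image of an open of `U` in `X` -/
noncomputable abbrev jj (V : Opens (TopCat.of U)) : Opens X :=
  U.isOpenEmbedding.isOpenMap.functor.obj V

lemma jj_mono {V W : Opens (TopCat.of U)} (h : W ≤ V) : jj U W ≤ jj U V :=
  (U.isOpenEmbedding.isOpenMap.functor.map (homOfLE h)).le

lemma mem_jj {V : Opens (TopCat.of U)} {x : X} : x ∈ jj U V ↔ ∃ y : U, y ∈ V ∧ y.1 = x :=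
  Iff.rfl

lemma jj_top_le : jj U ⊤ ≤ U := by
  rintro x ⟨y, -, rfl⟩
  exact y.2

lemma le_jj_top : U ≤ jj U ⊤ := fun x hx => ⟨⟨x, hx⟩, trivial, rfl⟩

lemma restr_res (F : CohTop.Ab X) {V W : Opens (TopCat.of U)} (h : W ≤ V)
    (s : F.obj.obj (op (jj U V))) :
    res ((CohTop.restrFunctor U).obj F).obj h s = res F.obj (jj_mono U h) s := rfl

theorem restr_shortExact (S : ShortComplex (CohTop.Ab X)) (hS : S.ShortExact) :
    (S.map (CohTop.restrFunctor U)).ShortExact := by
  haveI := hS.mono_f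
  haveI := hS.epi_g
  have hexact : (S.map (CohTop.restrFunctor U)).Exact := by
    apply exact_of_local
    intro V s hs x hx
    obtain ⟨t, ht⟩ := exists_of_app_eq_zero S hS (jj U V) s hs
    refine ⟨V, le_rfl, hx, t, ?_⟩
    rw [res_self]
    exact ht
  have hmono : Mono (S.map (CohTop.restrFunctor U)).f := by
    have h1 : Mono S.f.hom := (Sheaf.Hom.mono_iff_presheaf_mono _ _ S.f).mp inferInstance
    have h2 : ∀ V, Mono (S.f.hom.app V) := (NatTrans.mono_iff_mono_app S.f.hom).mp h1
    rw [Sheaf.Hom.mono_iff_presheaf_mono]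
    apply (NatTrans.mono_iff_mono_app _).mpr
    intro V
    exact h2 (op (jj U V.unop))
  have hepi : Epi (S.map (CohTop.restrFunctor U)).g := by
    apply epi_of_local
    intro V s x hx
    have hjx : (x : X) ∈ jj U V := ⟨x, hx, rfl⟩
    obtain ⟨W', hW', hxW', t, ht⟩ := exists_local_lift S.g (V := jj U V) s x.1 hjx
    let W : Opens (TopCat.of U) := (Opens.map (TopCat.ofHom ⟨Subtype.val, continuous_subtype_val⟩)).obj W'
    have hWV : W ≤ V := by
      intro y hy
      have h1 : (y : X) ∈ jj U V := hW' hy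
      obtain ⟨z, hz, hzy⟩ := h1
      have : z = y := Subtype.ext hzy
      rw [← this]
      exact hz
    have hjW : jj U W ≤ W' := by
      rintro _ ⟨y, hy, rfl⟩
      exact hy
    refine ⟨W, hWV, hxW', res S.X₂.obj hjW t, ?_⟩
    show (S.g.hom.app (op (jj U W))).hom (res S.X₂.obj hjW t) = res S.X₃.obj (jj_mono U hWV) s
    rw [res_app, ht, res_res]
  exact ShortComplex.ShortExact.mk' hexact hmono hepi

/-- The constant sheaf `ℤ`. -/
noncomputable abbrev KK (Y : TopCat.{u}) : CohTop.Ab Y :=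
  (constantSheaf (Opens.grothendieckTopology Y) AddCommGrpCat.{u}).obj
    (AddCommGrpCat.of (ULift ℤ))

/-- Maps from the constant sheaf `ℤ` are global sections, additively. -/
noncomputable def constAddEquiv {Y : TopCat.{u}} (G : CohTop.Ab Y) :
    (KK Y ⟶ G) ≃+ G.obj.obj (op (⊤ : Opens Y)) :=
  ((constantSheafAdj (Opens.grothendieckTopology Y) AddCommGrpCat.{u} isTerminalTop).homAddEquiv
    (AddCommGrpCat.of (ULift ℤ)) G).trans
    (AddCommGrpCat.uliftZMultiplesAddEquiv (G.obj.obj (op (⊤ : Opens Y))))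

theorem constAddEquiv_comp {Y : TopCat.{u}} {G G' : CohTop.Ab Y} (a : KK Y ⟶ G) (φ : G ⟶ G') :
    constAddEquiv G' (a ≫ φ) = (φ.hom.app (op ⊤)).hom (constAddEquiv G a) :=
  constEquiv_comp a φ

/-- sections over `U` and over the image of `⊤` -/
noncomputable def resEquiv (F : CohTop.Ab X) :
    F.obj.obj (op U) ≃+ F.obj.obj (op (jj U ⊤)) where
  toFun := res F.obj (jj_top_le U)
  invFun := res F.obj (le_jj_top U)
  left_inv s := by rw [res_res, res_self]
  right_inv s := by rw [res_res, res_self]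
  map_add' := map_add _

/-- the identification of the `Hom` groups -/
noncomputable def homEquiv (F : CohTop.Ab X) :
    (fr U ⟶ F) ≃+ (KK (TopCat.of U) ⟶ (CohTop.restrFunctor U).obj F) :=
  (secAddEquiv U F).trans ((resEquiv U F).trans
    (constAddEquiv ((CohTop.restrFunctor U).obj F)).symm)

lemma homEquiv_comp {F F' : CohTop.Ab X} (f : fr U ⟶ F) (φ : F ⟶ F') :
    homEquiv U F' (f ≫ φ) = homEquiv U F f ≫ (CohTop.restrFunctor U).map φ := by
  apply (constAddEquiv ((CohTop.restrFunctor U).obj F')).injective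
  rw [constAddEquiv_comp]
  unfold homEquiv
  simp only [AddEquiv.trans_apply]
  rw [secAddEquiv_comp]
  refine ((constAddEquiv ((CohTop.restrFunctor U).obj F')).apply_symm_apply _).trans ?_
  refine Eq.trans ?_ (congrArg _
    ((constAddEquiv ((CohTop.restrFunctor U).obj F)).apply_symm_apply _).symm)
  exact (res_app _ φ.hom (jj_top_le U) _).symm

lemma isFlasque_restr (I : CohTop.Ab X) [TopCat.Sheaf.IsFlasque I] :
    TopCat.Sheaf.IsFlasque ((CohTop.restrFunctor U).obj I) := by
  refine ⟨fun {V W} i => ?_⟩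
  exact TopCat.Presheaf.IsFlasque.epi (F := I.obj)
    (U.isOpenEmbedding.isOpenMap.functor.map i.unop).op

/-- cohomology over an open is cohomology of the restriction -/
theorem nonempty_addEquiv (F : CohTop.Ab X) (n : ℕ) :
    Nonempty (Ext (fr U) F n ≃+ Ext (KK (TopCat.of U)) ((CohTop.restrFunctor U).obj F) n) := by
  apply Groth.Agent.Lib.ExtCompare.nonempty_ext_addEquiv (CohTop.restrFunctor U)
    (restr_shortExact U) (fr U) (KK (TopCat.of U)) (homEquiv U)
    (fun f φ => homEquiv_comp U f φ)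
  intro I hI n ξ
  haveI := hI
  haveI := isFlasque_of_injective I
  haveI := isFlasque_restr U I
  exact H_eq_zero_of_isFlasque _ n ξ

end Groth.Agent.Lib.RestrOpen
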