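import Mathlib
import Groth.Prelude.Def_Coh
import Groth.Agent.Lib.CechKos4_helper9
import Groth.Agent.Lib.CechAffine_helper2
import Groth.Agent.Lib.RestrOpen_helper2

/-!
# Cohomology of a union of affine basic opens versus direct-limit Koszul cohomology (helper9)

`CechKos.nonempty_HHon_koszul`: if the `X_{f_i}` are affine, `H^q(U, G|_U) ≅ H^{q+1}((f), Γ(X, G))`
for `q ≥ 1`, `U = ⋃ X_{f_i}`.  Combines `CechKos.nonempty_cech_koszul` with Leray's theorem
(helper2) and the comparison of `Ext(ℤ_U, -)` with the cohomology of the restriction (helper2).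
APPEND-ONLY once landed.
-/

set_option autoImplicit false
universe u
open CategoryTheory CategoryTheory.Limits AlgebraicGeometry Opposite TopologicalSpace
open QcqsLoc QCohExtn AcycEmb KoszulCokG

namespace CechKos

variable {X : Scheme.{u}}

theorem isAffineOpen_inf_basicOpen {W : X.Opens} (hW : IsAffineOpen W) (g : Γ(X, ⊤)) :
    IsAffineOpen (W ⊓ X.basicOpen g) := by
  rw [← basicOpen_rX (le_top : W ≤ ⊤) g]
  exact hW.basicOpen _

variable [CompactSpace X] [QuasiSeparatedSpace X] (fs : List Γ(X, ⊤))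

theorem isAffineOpen_inf_biInf (s : Finset (ULift.{u} (Fin fs.length))) :
    ∀ W : X.Opens, IsAffineOpen W → IsAffineOpen (W ⊓ ⨅ i ∈ s, UU fs i) := by
  classical
  induction s using Finset.induction_on with
  | empty =>
    intro W hW
    simpa using hW
  | insert a s ha ih =>
    intro W hW
    rw [Finset.iInf_insert, ← inf_assoc]
    exact ih _ (isAffineOpen_inf_basicOpen hW _)

theorem isAffineOpen_biInf
    (haff : ∀ i : Fin fs.length, IsAffineOpen (X.basicOpen (fs.get i)))
    (s : Finset (ULift.{u} (Fin fs.length))) (hs : s.Nonempty) :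
    IsAffineOpen (⨅ i ∈ s, UU fs i) := by
  obtain ⟨a, ha⟩ := hs
  have h1 : (⨅ i ∈ s, UU fs i) ≤ UU fs a := biInf_le _ ha
  have h2 := isAffineOpen_inf_biInf fs s (UU fs a) (haff a.down)
  rwa [inf_eq_right.mpr h1] at h2

/-- **Cohomology of the union of affine basic opens is direct-limit Koszul cohomology.** -/
theorem nonempty_HHon_koszul
    (haff : ∀ i : Fin fs.length, IsAffineOpen (X.basicOpen (fs.get i)))
    (G : X.Modules) [G.IsQuasicoherent] (q : ℕ) (hq : 1 ≤ q) :
    Nonempty (Coh.HHon X G (Uf fs) q ≃+ CohIII.koszulHLim fs (Mtop G) (q + 1)) := by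
  obtain ⟨e1⟩ := Groth.Agent.Lib.Cech.nonempty_cech_addEquiv (X := X) (UU fs)
    (isAffineOpen_biInf fs haff) G q
  rw [iSup_UU] at e1
  obtain ⟨e2⟩ := Groth.Agent.Lib.RestrOpen.nonempty_addEquiv (X := X.toTopCat) (Uf fs)
    (Coh.toAb G) q
  obtain ⟨e3⟩ := nonempty_cech_koszul fs G q hq
  exact ⟨e2.symm.trans (e1.symm.trans e3)⟩

end CechKos
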