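import Mathlib
import Groth.Prelude.Def_LocCohZ
import Groth.Agent.Lib.RestrOpen_helper2

/-!
# Cohomology with supports: the long exact sequence and first consequences
-/

set_option autoImplicit false
universe u
open CategoryTheory Limits TopologicalSpace Opposite Abelian

namespace Groth.Agent.Lib.LocCohZ

open Groth.Agent.Lib.Cech Groth.Agent.Lib.FreeSheaf Groth.Agent.Lib.FlasqueAcyclic

variable {X : TopCat.{u}} (F : CohTop.Ab X) {W V : Opens X} (h : W ≤ V)

lemma res_eq (n : ℕ) (ξ : CohTop.HU F n V) :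
    CohTop.res F n h ξ =
      (Ext.mk₀ (CohCx.freeSheafMap (Opens.grothendieckTopology X) (homOfLE h))).comp ξ (zero_add n) := rfl

lemma toHU_eq (n : ℕ) (ξ : LocCohZ.HZ F n h) :
    LocCohZ.toHU F n h ξ =
      (Ext.mk₀ (cokernel.π (CohCx.freeSheafMap (Opens.grothendieckTopology X) (homOfLE h)))).comp ξ
        (zero_add n) := rfl

lemma delta_eq (n : ℕ) (ξ : CohTop.HU F n W) :
    LocCohZ.delta F n h ξ = (LocCohZ.zqSeq_shortExact h).extClass.comp ξ (by omega) := rfl

/-- exactness at `H^n(W)` -/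
lemma exists_res_of_delta_eq_zero (n : ℕ) (y : CohTop.HU F n W) (hy : LocCohZ.delta F n h y = 0) :
    ∃ z : CohTop.HU F n V, CohTop.res F n h z = y :=
  Ext.contravariant_sequence_exact₁ (LocCohZ.zqSeq_shortExact h) F y (by omega) hy

lemma delta_res (n : ℕ) (z : CohTop.HU F n V) : LocCohZ.delta F n h (CohTop.res F n h z) = 0 :=
  (LocCohZ.zqSeq_shortExact h).extClass_comp_assoc (h := by omega) z

/-- exactness at `H^n(V)` -/
lemma exists_toHU_of_res_eq_zero (n : ℕ) (z : CohTop.HU F n V) (hz : CohTop.res F n h z = 0) :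
    ∃ x : LocCohZ.HZ F n h, LocCohZ.toHU F n h x = z :=
  Ext.contravariant_sequence_exact₂ (LocCohZ.zqSeq_shortExact h) F z hz

lemma res_toHU (n : ℕ) (x : LocCohZ.HZ F n h) : CohTop.res F n h (LocCohZ.toHU F n h x) = 0 := by
  rw [res_eq, toHU_eq, ← Ext.comp_assoc_of_second_deg_zero, Ext.mk₀_comp_mk₀]
  have : CohCx.freeSheafMap (Opens.grothendieckTopology X) (homOfLE h) ≫
      cokernel.π (CohCx.freeSheafMap (Opens.grothendieckTopology X) (homOfLE h)) = 0 :=
    cokernel.condition _
  rw [this, Ext.mk₀_zero, Ext.zero_comp]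
  rfl

/-- exactness at `H^{n+1}_Z` -/
lemma exists_delta_of_toHU_eq_zero (n : ℕ) (x : LocCohZ.HZ F (n + 1) h)
    (hx : LocCohZ.toHU F (n + 1) h x = 0) :
    ∃ y : CohTop.HU F n W, LocCohZ.delta F n h y = x :=
  Ext.contravariant_sequence_exact₃ (LocCohZ.zqSeq_shortExact h) F x hx (by omega)

lemma toHU_delta (n : ℕ) (y : CohTop.HU F n W) :
    LocCohZ.toHU F (n + 1) h (LocCohZ.delta F n h y) = 0 :=
  (LocCohZ.zqSeq_shortExact h).comp_extClass_assoc y (by omega)

/-- degree zero: `toHU` is injective -/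
lemma toHU_zero_injective : Function.Injective (LocCohZ.toHU F 0 h) := by
  haveI : Epi (cokernel.π (CohCx.freeSheafMap (Opens.grothendieckTopology X) (homOfLE h))) :=
    inferInstance
  exact Ext.precomp_mk₀_injective_of_epi F _

/-- compatibility of `ext0` with restriction -/
lemma ext0_res (s : F.obj.obj (op V)) :
    CohTop.res F 0 h (ext0 V F s) = ext0 W F (res F.obj h s) := by
  rw [res_eq, ext0_apply, ext0_apply, Ext.mk₀_comp_mk₀]
  congr 1
  apply (secAddEquiv W F).injective
  rw [AddEquiv.apply_symm_apply]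
  refine (freeSheafHomEquiv_map (Opens.grothendieckTopology X) (homOfLE h) F _).trans ?_
  exact congrArg _ ((secAddEquiv V F).apply_symm_apply s)

/-- If `H^1_Z(X, F) = 0` for the pair `W ≤ V`, then `F(V) → F(W)` is surjective. -/
lemma res_surjective_of_HZ_one (h1 : ∀ x : LocCohZ.HZ F 1 h, x = 0) :
    Function.Surjective (res F.obj h) := by
  intro t
  obtain ⟨z, hz⟩ := exists_res_of_delta_eq_zero F h 0 (ext0 W F t) (h1 _)
  obtain ⟨s, rfl⟩ := (ext0_bijective V F).2 z
  rw [ext0_res] at hz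
  exact ⟨s, (ext0_bijective W F).1 hz⟩

/-- flasque sheaves have no higher cohomology with supports -/
theorem HZ_eq_zero_of_isFlasque [TopCat.Sheaf.IsFlasque F] (n : ℕ) (x : LocCohZ.HZ F (n + 1) h) :
    x = 0 := by
  have h0 : LocCohZ.toHU F (n + 1) h x = 0 := ext_freeSheaf_eq_zero_of_isFlasque F V n _
  obtain ⟨y, rfl⟩ := exists_delta_of_toHU_eq_zero F h n x h0
  cases n with
  | zero =>
    obtain ⟨t, rfl⟩ := (ext0_bijective W F).2 y
    have hepi : Epi (F.obj.map (homOfLE h).op) := TopCat.Presheaf.IsFlasque.epi (F := F.obj) _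
    obtain ⟨s, hs⟩ := (AddCommGrpCat.epi_iff_surjective _).mp hepi t
    have : ext0 W F t = CohTop.res F 0 h (ext0 V F s) := by
      rw [ext0_res]
      exact congrArg _ hs.symm
    rw [this]
    exact delta_res F h 0 _
  | succ m =>
    have : y = 0 := ext_freeSheaf_eq_zero_of_isFlasque F W m y
    rw [this, map_zero]

end Groth.Agent.Lib.LocCohZ
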