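import Mathlib
import Groth.Prelude.Def_LocCohZ
import Groth.Agent.Lib.CechKos5_helper9
import Groth.Agent.Lib.LocCohZ_helper2

/-!
# Cohomology with supports in `V(f)` versus direct-limit Koszul cohomology (helper9)

`CechKos.nonempty_HZM_koszul`: on a quasi-compact quasi-separated scheme `X` without higher
cohomology for the quasi-coherent module `G` (e.g. `X` affine), with the `X_{f_i}` affine:
`H^i_Y(X, G) ≅ H^i((f), Γ(X, G))` for all `i`, `Y = X ∖ ⋃ X_{f_i}`.
APPEND-ONLY once landed.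
-/

set_option autoImplicit false
universe u
open CategoryTheory CategoryTheory.Limits AlgebraicGeometry Opposite TopologicalSpace
open QcqsLoc QCohExtn AcycEmb KoszulCokG
open Groth.Agent.Lib.Cech Groth.Agent.Lib.LocCohZ

namespace CechKos

variable {X : Scheme.{u}} [CompactSpace X] [QuasiSeparatedSpace X] (fs : List Γ(X, ⊤))

/-- `Ext^q(ℤ_U, G) ≅ H^{q+1}((f), Γ(X, G))` for `q ≥ 1`, `U = ⋃ X_{f_i}` with the `X_{f_i}` affine. -/
theorem nonempty_extfr_koszul
    (haff : ∀ i : Fin fs.length, IsAffineOpen (X.basicOpen (fs.get i)))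
    (G : X.Modules) [G.IsQuasicoherent] (q : ℕ) (hq : 1 ≤ q) :
    Nonempty (Abelian.Ext (fr (X := X.toTopCat) (Uf fs)) (Coh.toAb G) q ≃+
      CohIII.koszulHLim fs (Mtop G) (q + 1)) := by
  obtain ⟨e1⟩ := Groth.Agent.Lib.Cech.nonempty_cech_addEquiv (X := X) (UU fs)
    (isAffineOpen_biInf fs haff) G q
  rw [iSup_UU] at e1
  obtain ⟨e3⟩ := nonempty_cech_koszul fs G q hq
  exact ⟨e1.symm.trans e3⟩

/-- **Cohomology with supports in the zero locus is direct-limit Koszul cohomology.** -/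
theorem nonempty_HZM_koszul
    (haff : ∀ i : Fin fs.length, IsAffineOpen (X.basicOpen (fs.get i)))
    (G : X.Modules) [G.IsQuasicoherent]
    (hX : ∀ (n : ℕ) (ξ : CohTop.HU (X := X.toTopCat) (Coh.toAb G) (n + 1) ⊤), ξ = 0) (i : ℕ) :
    Nonempty (LocCohZ.HZM X G i (Uf fs) ≃+ CohIII.koszulHLim fs (Mtop G) i) := by
  let F : CohTop.Ab X.toTopCat := Coh.toAb G
  have h : Uf fs ≤ (⊤ : X.Opens) := le_top
  match i with
  | 0 =>
    obtain ⟨e⟩ := nonempty_ker_equiv G fs
    exact ⟨(LocCohZ.sect0Equiv F h).trans e⟩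
  | 1 =>
    let ψ : F.obj.obj (op (Uf fs)) →+ LocCohZ.HZ F 1 h :=
      (LocCohZ.delta F 0 h).comp (ext0 (Uf fs) F)
    have hψs : Function.Surjective ψ := by
      intro x
      obtain ⟨y, hy⟩ := exists_delta_of_toHU_eq_zero F h 0 x (hX 0 _)
      obtain ⟨t, rfl⟩ := (ext0_bijective (Uf fs) F).2 y
      exact ⟨t, hy⟩
    have hker : (rF G (le_top : Uf fs ≤ ⊤)).range = ψ.ker := by
      ext t
      constructor
      · rintro ⟨s, rfl⟩
        show LocCohZ.delta F 0 h (ext0 (Uf fs) F (res F.obj h s)) = 0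
        rw [← ext0_res]
        exact delta_res F h 0 _
      · intro ht
        have ht' : LocCohZ.delta F 0 h (ext0 (Uf fs) F t) = 0 := ht
        obtain ⟨z, hz⟩ := exists_res_of_delta_eq_zero F h 0 (ext0 (Uf fs) F t) ht'
        obtain ⟨s, rfl⟩ := (ext0_bijective ⊤ F).2 z
        rw [ext0_res] at hz
        exact ⟨s, (ext0_bijective (Uf fs) F).1 hz⟩
    obtain ⟨e⟩ := nonempty_coker_equiv G fs
    let e1 := QuotientAddGroup.quotientAddEquivOfEq hker
    let e2 := QuotientAddGroup.quotientKerEquivOfSurjective ψ hψs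
    exact ⟨(e1.trans e2).symm.trans e⟩
  | n + 2 =>
    have hbij : Function.Bijective (LocCohZ.delta F (n + 1) h) := by
      constructor
      · rw [injective_iff_map_eq_zero]
        intro y hy
        obtain ⟨z, hz⟩ := exists_res_of_delta_eq_zero F h (n + 1) y hy
        rw [← hz, hX n z, map_zero]
      · intro x
        exact exists_delta_of_toHU_eq_zero F h (n + 1) x (hX (n + 1) _)
    obtain ⟨e⟩ := nonempty_extfr_koszul fs haff G (n + 1) (by omega)
    exact ⟨(AddEquiv.ofBijective _ hbij).symm.trans e⟩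

end CechKos
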