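import Mathlib
import Groth.Prelude.Def_ega3
import Groth.Agent.Lib.KoszulCok2_helper9
import Groth.Agent.Lib.CechKos2_helper9

/-!
# Direct-limit Koszul cohomology and change of rings (helper9)

For a ring homomorphism `φ : A → B`, a list `fs` of elements of `A` and a `B`-module `N`:
`H^q((fs), N_A) ≅ H^q((φ fs), N)` (`KoszulBC.nonempty_bc`), proved by dimension shifting along
`N → ∏ N_{φ f_i}` (no comparison of complexes).  Also functoriality of `Lmap`.
APPEND-ONLY once landed.
-/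

set_option autoImplicit false
universe u
open CategoryTheory CategoryTheory.Limits HomologicalComplex
open Groth.Agent.Lib.InjHull_helper3 Groth.Agent.Lib.KoszulLim_helper6
  Groth.Agent.Lib.KoszulLim2_helper6 Groth.Agent.Lib.KoszulCok9 CechKos

namespace KoszulBC

section functoriality

variable {A : Type u} [CommRing A] (fs : List A) (j : ℤ)

theorem Lmap_id (M : ModuleCat.{u} A) (x : Lj fs j M) : Lmap fs j (𝟙 M) x = x := by
  obtain ⟨n, x, rfl⟩ := Module.DirectLimit.exists_of x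
  rw [Lmap_of, kMap_id, homologyMap_id]
  rfl

theorem Lmap_comp {M N P : ModuleCat.{u} A} (g : M ⟶ N) (g' : N ⟶ P) (x : Lj fs j M) :
    Lmap fs j (g ≫ g') x = Lmap fs j g' (Lmap fs j g x) := by
  obtain ⟨n, x, rfl⟩ := Module.DirectLimit.exists_of x
  rw [Lmap_of, Lmap_of, Lmap_of, kMap_comp, homologyMap_comp]
  rfl

/-- An isomorphism of modules induces an isomorphism on direct-limit Koszul cohomology. -/
noncomputable def LmapEquiv {M N : ModuleCat.{u} A} (e : M ≅ N) : Lj fs j M ≃ₗ[A] Lj fs j N where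
  toFun := Lmap fs j e.hom
  map_add' := map_add _
  map_smul' := map_smul _
  invFun := Lmap fs j e.inv
  left_inv x := by rw [← Lmap_comp, e.hom_inv_id, Lmap_id]
  right_inv x := by rw [← Lmap_comp, e.inv_hom_id, Lmap_id]

theorem kAcyc_of_iso {M N : ModuleCat.{u} A} (e : M ≅ N) (h : KAcyc fs N) : KAcyc fs M := by
  intro n j
  have h2 : 𝟙 ((Kn M fs n).homology j) = 0 := by
    rw [← homologyMap_id, ← kMap_id, ← e.hom_inv_id, kMap_comp, homologyMap_comp,
      (h n j).eq_of_tgt (homologyMap (kMap e.hom (fs.map (· ^ n))) j) 0, zero_comp]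
  exact (IsZero.iff_id_eq_zero _).mpr h2

theorem van_of_kAcyc {M : ModuleCat.{u} A} (h : KAcyc fs M) : Van fs j M :=
  van_of_isZero fs j (fun n => h n j)

end functoriality

section bc

variable {A B : Type u} [CommRing A] [CommRing B] (φ : A →+* B)

/-- Restriction of scalars. -/
noncomputable abbrev Φ : ModuleCat.{u} B ⥤ ModuleCat.{u} A := ModuleCat.restrictScalars.{u} φ

variable (fs : List A) (N : ModuleCat.{u} B)

theorem smul_Φ (a : A) (x : (Φ φ).obj N) : a • x = φ a • (show N from x) := rfl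

theorem mem_Γ_iff_bc (x : N) :
    (show (Φ φ).obj N from x) ∈ Γ (Ideal.span {a | a ∈ fs}) ((Φ φ).obj N) ↔
      x ∈ Γ (Ideal.span {b | b ∈ fs.map φ}) N := by
  rw [← mem_Γ_span_iff' fs ((Φ φ).obj N), ← mem_Γ_span_iff' (fs.map φ) N]
  constructor
  · intro h b hb
    obtain ⟨a, ha, rfl⟩ := List.mem_map.mp hb
    obtain ⟨n, hn⟩ := h a ha
    refine ⟨n, ?_⟩
    rw [← map_pow]
    exact hn
  · intro h a ha
    obtain ⟨n, hn⟩ := h (φ a) (List.mem_map.mpr ⟨a, ha, rfl⟩)
    refine ⟨n, ?_⟩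
    show φ (a ^ n) • x = 0
    rw [map_pow]
    exact hn

theorem nonempty_bc_zero (i : ℤ) (hi : i = -(fs.length : ℤ)) :
    Nonempty (Lj fs i ((Φ φ).obj N) ≃+ Lj (fs.map φ) i N) := by
  obtain ⟨e1⟩ := nonempty_L0_equiv fs ((Φ φ).obj N) i hi
  obtain ⟨e2⟩ := nonempty_L0_equiv (fs.map φ) N i (by rw [List.length_map]; exact hi)
  let e0 : ↥(Γ (Ideal.span {a | a ∈ fs}) ((Φ φ).obj N)) ≃+
      ↥(Γ (Ideal.span {b | b ∈ fs.map φ}) N) :=
    { toFun := fun x => ⟨x.1, (mem_Γ_iff_bc φ fs N x.1).1 x.2⟩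
      invFun := fun y => ⟨y.1, (mem_Γ_iff_bc φ fs N y.1).2 y.2⟩
      left_inv := fun x => rfl
      right_inv := fun y => rfl
      map_add' := fun x y => rfl }
  exact ⟨e1.toAddEquiv.trans (e0.trans e2.symm.toAddEquiv)⟩

/-- The localizations of `N` at the images of the members of the list. -/
noncomputable abbrev Eloc (i : Fin fs.length) : ModuleCat.{u} B :=
  ModuleCat.of B (LocalizedModule (Submonoid.powers (φ (fs.get i))) N)

/-- The product of the localizations. -/
noncomputable abbrev EE' : ModuleCat.{u} B :=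
  ModuleCat.of B (∀ i : Fin fs.length, Eloc φ fs N i)

/-- `N → ∏ N_{φ f_i}`. -/
noncomputable def iota' : N ⟶ EE' φ fs N :=
  ModuleCat.ofHom (LinearMap.pi (fun i : Fin fs.length =>
    LocalizedModule.mkLinearMap (Submonoid.powers (φ (fs.get i))) N))

theorem smul_bijective_Eloc (i : Fin fs.length) :
    Function.Bijective (fun x : Eloc φ fs N i => φ (fs.get i) • x) := by
  have h := IsLocalizedModule.map_units
    (LocalizedModule.mkLinearMap (Submonoid.powers (φ (fs.get i))) N)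
    ⟨φ (fs.get i), Submonoid.mem_powers _⟩
  exact (Module.End.isUnit_iff _).mp h

instance isIso_smul_Eloc (i : Fin fs.length) : IsIso (φ (fs.get i) • 𝟙 (Eloc φ fs N i)) := by
  rw [ConcreteCategory.isIso_iff_bijective]
  exact smul_bijective_Eloc φ fs N i

instance isIso_smul_Eloc_A (i : Fin fs.length) :
    IsIso (fs.get i • 𝟙 ((Φ φ).obj (Eloc φ fs N i))) := by
  rw [ConcreteCategory.isIso_iff_bijective]
  exact smul_bijective_Eloc φ fs N i

theorem kAcyc_EE' : KAcyc (fs.map φ) (EE' φ fs N) := by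
  intro n j
  apply isZero_homology_pi (fun i : Fin fs.length => Eloc φ fs N i)
  intro i
  exact isZero_homology_of_isIso (Eloc φ fs N i) (fs.map φ) (φ (fs.get i))
    (List.mem_map.mpr ⟨fs.get i, List.get_mem fs i, rfl⟩) n j

theorem kAcyc_EE'_A : KAcyc fs ((Φ φ).obj (EE' φ fs N)) := by
  let E2 : ModuleCat.{u} A :=
    ModuleCat.of A (∀ i : Fin fs.length, ((Φ φ).obj (Eloc φ fs N i) : ModuleCat.{u} A))
  have h2 : KAcyc fs E2 := by
    intro n j
    apply isZero_homology_pi (fun i : Fin fs.length => (Φ φ).obj (Eloc φ fs N i))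
    intro i
    exact isZero_homology_of_isIso ((Φ φ).obj (Eloc φ fs N i)) fs (fs.get i)
      (List.get_mem fs i) n j
  let le : ((Φ φ).obj (EE' φ fs N)) ≃ₗ[A] E2 :=
    { toFun := fun x => x
      invFun := fun x => x
      left_inv := fun _ => rfl
      right_inv := fun _ => rfl
      map_add' := fun _ _ => rfl
      map_smul' := fun _ _ => rfl }
  let e : (Φ φ).obj (EE' φ fs N) ≅ E2 := LinearEquiv.toModuleIso le
  exact kAcyc_of_iso fs e h2

theorem iota'_ker_tors (b : B) (hb : b ∈ fs.map φ) (x : N) (hx : (iota' φ fs N).hom x = 0) :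
    ∃ n : ℕ, b ^ n • x = 0 := by
  obtain ⟨a, ha, rfl⟩ := List.mem_map.mp hb
  obtain ⟨i, rfl⟩ := List.mem_iff_get.mp ha
  have h0 : LocalizedModule.mkLinearMap (Submonoid.powers (φ (fs.get i))) N x = 0 :=
    congrFun hx i
  obtain ⟨⟨s, n, rfl⟩, hs⟩ := (IsLocalizedModule.eq_zero_iff (Submonoid.powers (φ (fs.get i)))
    (LocalizedModule.mkLinearMap (Submonoid.powers (φ (fs.get i))) N)).mp h0
  exact ⟨n, hs⟩

open Groth.Agent.DepthLib in
/-- **Change of rings for direct-limit Koszul cohomology.** -/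
theorem nonempty_bc (q : ℕ) : ∀ N : ModuleCat.{u} B,
    Nonempty (Lj fs ((q : ℤ) - fs.length) ((Φ φ).obj N) ≃+
      Lj (fs.map φ) ((q : ℤ) - fs.length) N) := by
  induction q with
  | zero =>
    intro N
    exact nonempty_bc_zero φ fs N _ (by push_cast; ring)
  | succ q ih =>
    intro N
    let ι := iota' φ fs N
    let T : Submodule B N := LinearMap.ker ι.hom
    let N' : Submodule B (EE' φ fs N) := LinearMap.range ι.hom
    have hex₁ : Function.Exact T.subtype ι.hom.rangeRestrict := by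
      intro m
      constructor
      · intro hm
        have : ι.hom m = 0 := congrArg Subtype.val hm
        exact ⟨⟨m, this⟩, rfl⟩
      · rintro ⟨t, rfl⟩
        apply Subtype.ext
        exact t.2
    let S₁ := shortComplexOf T.subtype ι.hom.rangeRestrict hex₁
    have hS₁ : S₁.ShortExact := shortComplexOf_shortExact _ _ T.injective_subtype
      ι.hom.surjective_rangeRestrict hex₁
    have hex₂ : Function.Exact N'.subtype N'.mkQ := LinearMap.exact_subtype_mkQ N'
    let S₂ := shortComplexOf N'.subtype N'.mkQ hex₂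
    have hS₂ : S₂.ShortExact := shortComplexOf_shortExact _ _ N'.injective_subtype
      (Submodule.mkQ_surjective N') hex₂
    have hS₁A : (S₁.map (Φ φ)).ShortExact := hS₁.map_of_exact (Φ φ)
    have hS₂A : (S₂.map (Φ φ)).ShortExact := hS₂.map_of_exact (Φ φ)
    -- torsion
    have hTorsB : ∀ b ∈ fs.map φ, IsTors b (S₁.X₁ : ModuleCat.{u} B) := by
      intro b hb t
      obtain ⟨n, hn⟩ := iota'_ker_tors φ fs N b hb t.1 t.2
      exact ⟨n, Subtype.ext hn⟩
    have hTorsA : ∀ a ∈ fs, IsTors a ((S₁.map (Φ φ)).X₁ : ModuleCat.{u} A) := by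
      intro a ha t
      obtain ⟨n, hn⟩ := hTorsB (φ a) (List.mem_map.mpr ⟨a, ha, rfl⟩) t
      refine ⟨n, ?_⟩
      show φ (a ^ n) • (show S₁.X₁ from t) = 0
      rw [map_pow]
      exact hn
    -- indices
    have hlen : ((fs.map φ).length : ℤ) = fs.length := by rw [List.length_map]
    have hj : ((q : ℤ) - fs.length) + 1 = ((q + 1 : ℕ) : ℤ) - fs.length := by
      push_cast
      ring
    have hposA : -(fs.length : ℤ) < ((q + 1 : ℕ) : ℤ) - fs.length := by
      push_cast
      omega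
    have hposB : -((fs.map φ).length : ℤ) < ((q + 1 : ℕ) : ℤ) - fs.length := by
      rw [hlen]
      exact hposA
    -- B side
    have hv1B : Van (fs.map φ) (((q + 1 : ℕ) : ℤ) - fs.length) S₁.X₁ := fun n x =>
      tors_vanish S₁.X₁ (fs.map φ) hTorsB _ hposB n x
    have hv2B : Van (fs.map φ) (((q + 1 : ℕ) : ℤ) - fs.length + 1) S₁.X₁ := fun n x =>
      tors_vanish S₁.X₁ (fs.map φ) hTorsB _ (by omega) n x
    have hAB := Lmap_g_bijective (fs.map φ) (((q + 1 : ℕ) : ℤ) - fs.length) S₁ hS₁ _ rfl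
      hv1B hv2B
    have hKB := kAcyc_EE' φ fs N
    have hBB := dL_bijective (fs.map φ) ((q : ℤ) - fs.length) S₂ hS₂ _ hj
      (van_of_kAcyc (fs.map φ) _ hKB) (van_of_kAcyc (fs.map φ) _ hKB)
    -- A side
    have hv1A : Van fs (((q + 1 : ℕ) : ℤ) - fs.length) (S₁.map (Φ φ)).X₁ := fun n x =>
      tors_vanish (S₁.map (Φ φ)).X₁ fs hTorsA _ hposA n x
    have hv2A : Van fs (((q + 1 : ℕ) : ℤ) - fs.length + 1) (S₁.map (Φ φ)).X₁ := fun n x =>
      tors_vanish (S₁.map (Φ φ)).X₁ fs hTorsA _ (by omega) n x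
    have hAA := Lmap_g_bijective fs (((q + 1 : ℕ) : ℤ) - fs.length) (S₁.map (Φ φ)) hS₁A _ rfl
      hv1A hv2A
    have hKA : KAcyc fs (S₂.map (Φ φ)).X₂ := kAcyc_EE'_A φ fs N
    have hBA := dL_bijective fs ((q : ℤ) - fs.length) (S₂.map (Φ φ)) hS₂A _ hj
      (van_of_kAcyc fs _ hKA) (van_of_kAcyc fs _ hKA)
    obtain ⟨eQ⟩ := ih S₂.X₃
    let eAB := LinearEquiv.ofBijective _ hAB
    let eBB := LinearEquiv.ofBijective _ hBB
    let eAA := LinearEquiv.ofBijective _ hAA
    let eBA := LinearEquiv.ofBijective _ hBA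
    exact ⟨eAA.toAddEquiv.trans (eBA.symm.toAddEquiv.trans
      (eQ.trans (eBB.toAddEquiv.trans eAB.symm.toAddEquiv)))⟩

end bc

end KoszulBC
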