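import Mathlib
import Groth.Prelude.Def_Wider
import Groth.Agent.Lib.CechKos6_helper9
import Groth.Agent.Lib.KoszulBC1_helper9

/-!
# The affine case: `Spec R`, `M~` and direct-limit Koszul cohomology (helper9)

Dictionary between `(R, fs, M)` and `(Spec R, fs.map (R → Γ(Spec R, ⊤)), M~)`:
`CechKos.nonempty_koszul_tilde`, `CechKos.Uf_map_eq`, and the affine case of
`CechKos.nonempty_HZM_koszul`: `CechKos.nonempty_HZM_tilde`.
APPEND-ONLY once landed.
-/

set_option autoImplicit false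
universe u
open CategoryTheory CategoryTheory.Limits AlgebraicGeometry Opposite TopologicalSpace
open QcqsLoc QCohExtn AcycEmb KoszulCokG
open Groth.Agent.Lib.KoszulLim_helper6 Groth.Agent.Lib.KoszulLim2_helper6

namespace CechKos

variable (R : CommRingCat.{u})

/-- `R → Γ(Spec R, ⊤)`. -/
noncomputable abbrev φΓ : R →+* Γ(Spec R, ⊤) := (Scheme.ΓSpecIso R).inv.hom

/-- The global sections over `R` and over `Γ(Spec R, ⊤)`: the same module. -/
noncomputable def idEquiv (G : (Spec R).Modules) :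
    ((modulesSpecToSheaf.obj G).presheaf.obj (op ⊤)) ≃ₗ[R]
      ((KoszulBC.Φ (φΓ R)).obj (Mtop G)) where
  toFun x := x
  invFun x := x
  left_inv _ := rfl
  right_inv _ := rfl
  map_add' _ _ := rfl
  map_smul' r x := by
    show r • x = _
    rfl

variable (fs : List R) (M : ModuleCat.{u} R)

/-- `M ≅ Γ(Spec R, M~)` over `R`. -/
noncomputable def tildeTopIso : M ≅ (KoszulBC.Φ (φΓ R)).obj (Mtop (tilde M)) :=
  tilde.isoTop M ≪≫ (idEquiv R (tilde M)).toModuleIso

/-- The Koszul cohomology of `M` over `R` and of `Γ(Spec R, M~)` over `Γ(Spec R, ⊤)`. -/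
theorem nonempty_koszul_tilde (q : ℕ) :
    Nonempty (CohIII.koszulHLim fs M q ≃+
      CohIII.koszulHLim (fs.map (φΓ R)) (Mtop (tilde M)) q) := by
  let e1 := (KoszulBC.LmapEquiv fs ((q : ℤ) - fs.length) (tildeTopIso R M)).toAddEquiv
  obtain ⟨e2⟩ := KoszulBC.nonempty_bc (φΓ R) fs q (Mtop (tilde M))
  have hlen : ((q : ℤ) - fs.length) = ((q : ℤ) - (fs.map (φΓ R)).length) := by
    rw [List.length_map]
  have key : ∀ j' : ℤ, ((q : ℤ) - fs.length) = j' →
      Nonempty (Lj fs ((q : ℤ) - fs.length) ((KoszulBC.Φ (φΓ R)).obj (Mtop (tilde M))) ≃+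
        Lj (fs.map (φΓ R)) j' (Mtop (tilde M))) := by
    rintro _ rfl
    exact ⟨e2⟩
  obtain ⟨e3⟩ := key _ hlen
  exact ⟨e1.trans e3⟩

theorem mem_Uf_map_iff (x : Spec R) :
    x ∈ Uf (fs.map (φΓ R)) ↔ ∃ a ∈ fs, a ∉ x.asIdeal := by
  rw [Opens.mem_iSup]
  constructor
  · rintro ⟨i, hi⟩
    have hmem : (fs.map (φΓ R)).get i ∈ fs.map (φΓ R) := List.get_mem _ i
    obtain ⟨a, ha, hab⟩ := List.mem_map.mp hmem
    refine ⟨a, ha, ?_⟩
    rw [← hab] at hi
    have h2 : (Spec R).basicOpen ((Scheme.ΓSpecIso R).inv.hom a) = PrimeSpectrum.basicOpen a :=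
      basicOpen_eq_of_affine a
    rw [h2] at hi
    exact hi
  · rintro ⟨a, ha, hax⟩
    obtain ⟨i, hi⟩ := List.mem_iff_get.mp (List.mem_map.mpr ⟨a, ha, rfl⟩ :
      (φΓ R) a ∈ fs.map (φΓ R))
    refine ⟨i, ?_⟩
    rw [hi]
    have h2 : (Spec R).basicOpen ((Scheme.ΓSpecIso R).inv.hom a) = PrimeSpectrum.basicOpen a :=
      basicOpen_eq_of_affine a
    rw [h2]
    exact hax

theorem isAffineOpen_basicOpen_Spec (g : Γ(Spec R, ⊤)) : IsAffineOpen ((Spec R).basicOpen g) :=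
  (isAffineOpen_top (Spec R)).basicOpen g

/-- The affine case: cohomology with supports of `M~` is direct-limit Koszul cohomology of `M`. -/
theorem nonempty_HZM_tilde (i : ℕ) :
    Nonempty (CohIII.koszulHLim fs M i ≃+
      LocCohZ.HZM (Spec R) (tilde M) i (Uf (fs.map (φΓ R)))) := by
  obtain ⟨e1⟩ := nonempty_koszul_tilde R fs M i
  obtain ⟨e2⟩ := nonempty_HZM_koszul (X := Spec R) (fs.map (φΓ R))
    (fun i => isAffineOpen_basicOpen_Spec R _) (tilde M)
    (fun n ξ => Groth.Agent.Lib.Cech.ext_fr_eq_zero_of_isAffineOpen (tilde M) ⊤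
      (isAffineOpen_top (Spec R)) n ξ) i
  exact ⟨e1.trans e2.symm⟩

end CechKos
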