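import Mathlib
import Groth.Prelude.Def_Wider
import Groth.Agent.Lib.CechKos7_helper9

/-!
# `Uf` of a list in `Spec A` is the punctured open of the span (helper9)
APPEND-ONLY once landed.
-/

set_option autoImplicit false
universe u
open CategoryTheory CategoryTheory.Limits AlgebraicGeometry Opposite TopologicalSpace
open QcqsLoc QCohExtn AcycEmb KoszulCokG

namespace CechKos

theorem Uf_map_eq_puncturedOpen (A : Type u) [CommRing A] (fs : List A) :
    Uf (fs.map (φΓ (CommRingCat.of A))) = LocCoh.puncturedOpen A (Ideal.span {a | a ∈ fs}) := by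
  have key : ∀ y : PrimeSpectrum A, (∃ a ∈ fs, a ∉ y.asIdeal) ↔
      ¬ y ∈ PrimeSpectrum.zeroLocus (R := A) ((Ideal.span {a | a ∈ fs} : Ideal A) : Set A) := by
    intro y
    rw [PrimeSpectrum.zeroLocus_span, PrimeSpectrum.mem_zeroLocus]
    constructor
    · rintro ⟨a, ha, hax⟩ h
      exact hax (h ha)
    · intro h
      by_contra hcon
      push_neg at hcon
      exact h (fun a ha => hcon a ha)
  ext x
  rw [SetLike.mem_coe, mem_Uf_map_iff]
  exact key x

/-- S6032 core. -/
theorem nonempty_HZM_tilde_punctured (A : Type u) [CommRing A] (fs : List A)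
    (M : ModuleCat.{u} (CommRingCat.of A)) (i : ℕ) :
    Nonempty (CohIII.koszulHLim fs M i ≃+
      LocCohZ.HZM (Spec (CommRingCat.of A)) (tilde (R := CommRingCat.of A) M) i
        (LocCoh.puncturedOpen A (Ideal.span {a | a ∈ fs}))) := by
  rw [← Uf_map_eq_puncturedOpen]
  exact nonempty_HZM_tilde (CommRingCat.of A) fs M i

end CechKos
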