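import Mathlib
import Groth.Prelude.Def_ega3
import Groth.Prelude.Def_Koszul
import Groth.Prelude.Def_LCI2
import Groth.Agent.Lib.KoszulReg_helper7

set_option autoImplicit false
universe u
open CategoryTheory CategoryTheory.Limits CochainComplex HomComplex
open scoped Pointwise

namespace Groth.Agent.Lib.KoszulTopH7

variable {A : Type u} [CommRing A]

lemma comp_apply' {X Y Z : ModuleCat.{u} A} (g : X ⟶ Y) (h : Y ⟶ Z) (k : X ⟶ Z)
    (w : g ≫ h = k) (x : X) : h.hom (g.hom x) = k.hom x := by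
  rw [← w]; rfl

/-- `H^0` of a complex vanishing in degree `1` is the cokernel of `d^{-1}`. -/
lemma homologyZeroEquiv (L : CochainComplex (ModuleCat.{u} A) ℤ) (hL : IsZero (L.X 1)) :
    Nonempty (L.homology 0 ≃ₗ[A] (L.X 0 ⧸ LinearMap.range (L.d (-1) 0).hom)) := by
  have hd : L.d 0 1 = 0 := hL.eq_of_tgt _ _
  let e1 : L.homology 0 ≅ L.opcycles 0 := L.isoHomologyι 0 1 (by simp) hd
  let e2 : L.opcycles 0 ≅ (L.sc' (-1) 0 1).opcycles :=
    ShortComplex.opcyclesMapIso (L.isoSc' (-1) 0 1 (by simp) (by simp))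
  let e3 := (L.sc' (-1) 0 1).moduleCatOpcyclesIso
  exact ⟨(e1 ≪≫ e2 ≪≫ e3).toLinearEquiv⟩

/-- the Koszul complex vanishes in positive degrees, its degree `0` term is `M` and the image of
the last differential is `(fs) M`. -/
structure TopData (M : ModuleCat.{u} A) (fs : List A) : Prop where
  isZero_pos : ∀ n : ℤ, 0 < n → IsZero ((CohIII.koszulCx M fs).X n)
  exists_equiv : ∃ e : (CohIII.koszulCx M fs).X 0 ≃ₗ[A] M,
    Submodule.map e.toLinearMap (LinearMap.range ((CohIII.koszulCx M fs).d (-1) 0).hom) =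
      Ideal.ofList fs • (⊤ : Submodule A M)

theorem topData (M : ModuleCat.{u} A) : ∀ fs : List A, TopData M fs := by
  intro fs
  induction fs with
  | nil =>
    refine ⟨fun n hn => HomologicalComplex.isZero_single_obj_X (ComplexShape.up ℤ) 0 M n
      (ne_of_gt hn), ⟨(HomologicalComplex.singleObjXSelf (ComplexShape.up ℤ) 0 M).toLinearEquiv, ?_⟩⟩
    have hd : (CohIII.koszulCx M []).d (-1) 0 = 0 :=
      (HomologicalComplex.isZero_single_obj_X (ComplexShape.up ℤ) 0 M (-1)
        (by norm_num)).eq_of_src _ _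
    rw [hd, ModuleCat.hom_zero, LinearMap.range_zero, Submodule.map_bot, Ideal.ofList_nil,
      Submodule.bot_smul]
  | cons f fs ih =>
    let K := CohIII.koszulCx M fs
    let φ : K ⟶ K := f • 𝟙 K
    refine ⟨fun n hn => (mappingCone.isZero_X_iff φ n).mpr
      ⟨ih.isZero_pos (n + 1) (by lia), ih.isZero_pos n hn⟩, ?_⟩
    obtain ⟨e, he⟩ := ih.exists_equiv
    haveI : Subsingleton (K.X 1) := ModuleCat.subsingleton_of_isZero (ih.isZero_pos 1 one_pos)
    let p2 : (mappingCone φ).X 0 →ₗ[A] K.X 0 := ((mappingCone.snd φ).v 0 0 (add_zero 0)).hom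
    let i2 : K.X 0 →ₗ[A] (mappingCone φ).X 0 := ((mappingCone.inr φ).f 0).hom
    let p1 : (mappingCone φ).X 0 →ₗ[A] K.X 1 := ((mappingCone.fst φ).1.v 0 1 rfl).hom
    let i1 : K.X 1 →ₗ[A] (mappingCone φ).X 0 := ((mappingCone.inl φ).v 1 0 (by lia)).hom
    let q1 : (mappingCone φ).X (-1) →ₗ[A] K.X 0 := ((mappingCone.fst φ).1.v (-1) 0 (by lia)).hom
    let q2 : (mappingCone φ).X (-1) →ₗ[A] K.X (-1) :=
      ((mappingCone.snd φ).v (-1) (-1) (add_zero _)).hom
    let j1 : K.X 0 →ₗ[A] (mappingCone φ).X (-1) := ((mappingCone.inl φ).v 0 (-1) (by lia)).hom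
    let j2 : K.X (-1) →ₗ[A] (mappingCone φ).X (-1) := ((mappingCone.inr φ).f (-1)).hom
    let dL : (mappingCone φ).X (-1) →ₗ[A] (mappingCone φ).X 0 := ((mappingCone φ).d (-1) 0).hom
    let dK : K.X (-1) →ₗ[A] K.X 0 := (K.d (-1) 0).hom
    have ha : ∀ b, p2 (i2 b) = b := fun b =>
      comp_apply' _ _ _ (mappingCone.inr_f_snd_v φ 0) b
    have hb : ∀ z, z = i1 (p1 z) + i2 (p2 z) := by
      intro z
      have h := LinearMap.congr_fun
        (congrArg ModuleCat.Hom.hom (mappingCone.id_X φ 0 1 rfl)) z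
      rw [ModuleCat.hom_add, ModuleCat.hom_comp, ModuleCat.hom_comp, ModuleCat.hom_id] at h
      exact h.symm
    have hc : ∀ z, p2 (dL z) = f • q1 z + dK (q2 z) := fun z =>
      comp_apply' _ _ _ (mappingCone.d_snd_v φ (-1) 0 (by lia)) z
    have hd1 : ∀ b, q1 (j1 b) = b := fun b =>
      comp_apply' _ _ _ (mappingCone.inl_v_fst_v φ 0 (-1) (by lia)) b
    have hd2 : ∀ b, q2 (j1 b) = 0 := fun b =>
      comp_apply' _ _ _ (mappingCone.inl_v_snd_v φ 0 (-1) (by lia)) b
    have he1 : ∀ c, q1 (j2 c) = 0 := fun c =>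
      comp_apply' _ _ _ (mappingCone.inr_f_fst_v φ (-1) 0 (by lia)) c
    have he2 : ∀ c, q2 (j2 c) = c := fun c =>
      comp_apply' _ _ _ (mappingCone.inr_f_snd_v φ (-1)) c
    have hinj : Function.Injective p2 := by
      rw [injective_iff_map_eq_zero]
      intro z hz
      have h1 : p1 z = 0 := Subsingleton.elim _ _
      rw [hb z, hz, h1, map_zero, map_zero, add_zero]
    have hsurj : Function.Surjective p2 := fun b => ⟨i2 b, ha b⟩
    let e' : (mappingCone φ).X 0 ≃ₗ[A] M := (LinearEquiv.ofBijective p2 ⟨hinj, hsurj⟩).trans e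
    have he' : ∀ z, e' z = e (p2 z) := fun z => rfl
    refine ⟨e', ?_⟩
    show Submodule.map e'.toLinearMap (LinearMap.range dL) = _
    rw [Ideal.ofList_cons_smul, ← he]
    apply le_antisymm
    · rintro _ ⟨_, ⟨z, rfl⟩, rfl⟩
      show e' (dL z) ∈ _
      rw [he', hc z, map_add, map_smul]
      exact Submodule.add_mem_sup (Submodule.smul_mem_pointwise_smul _ f ⊤ trivial)
        (Submodule.mem_map_of_mem (LinearMap.mem_range_self _ _))
    · apply sup_le
      · intro y hy
        obtain ⟨m, -, rfl⟩ := (Submodule.mem_smul_pointwise_iff_exists _ _ _).mp hy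
        obtain ⟨b, rfl⟩ := e.surjective m
        refine ⟨dL (j1 b), ⟨j1 b, rfl⟩, ?_⟩
        show e' (dL (j1 b)) = _
        rw [he', hc, hd1, hd2, map_zero, add_zero, map_smul]
      · rintro _ ⟨_, ⟨c, rfl⟩, rfl⟩
        refine ⟨dL (j2 c), ⟨j2 c, rfl⟩, ?_⟩
        show e' (dL (j2 c)) = _
        rw [he', hc, he1, he2, smul_zero, zero_add]
        rfl

theorem top_equiv' (M : Type u) [AddCommGroup M] [Module A M] (xs : List A) (n : ℤ)
    (hn : n = 0) :
    Nonempty (↑((CohIII.koszulCx (ModuleCat.of A M) xs).homology n) ≃ₗ[A]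
      (M ⧸ (Ideal.ofList xs • (⊤ : Submodule A M)))) := by
  subst hn
  have h := topData (ModuleCat.of A M) xs
  obtain ⟨e, he⟩ := h.exists_equiv
  obtain ⟨e0⟩ := homologyZeroEquiv (CohIII.koszulCx (ModuleCat.of A M) xs)
    (h.isZero_pos 1 one_pos)
  exact ⟨e0.trans (Submodule.Quotient.equiv _ _ e he)⟩

theorem top_equiv (M : Type u) [AddCommGroup M] [Module A M] (xs : List A) :
    Nonempty (↑(CohIII.koszulH xs (ModuleCat.of A M) xs.length) ≃ₗ[A]
      (M ⧸ (Ideal.ofList xs • (⊤ : Submodule A M)))) :=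
  top_equiv' M xs _ (sub_self _)

theorem koszul_eq : ∀ l : List A, Koszul.koszul A l = CohIII.koszulCx (ModuleCat.of A A) l
  | [] => rfl
  | f :: l => by
    show CochainComplex.mappingCone (f • 𝟙 (Koszul.koszul A l)) =
      CochainComplex.mappingCone (f • 𝟙 (CohIII.koszulCx (ModuleCat.of A A) l))
    rw [koszul_eq l]

lemma isZero_homology_of_eq {K K' : CochainComplex (ModuleCat.{u} A) ℤ} (h : K = K') (i : ℤ)
    (hz : IsZero (K'.homology i)) : IsZero (K.homology i) := by
  subst h; exact hz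

theorem koszulRegular (l : List A) (hl : RingTheory.Sequence.IsWeaklyRegular A l) :
    LCI.IsKoszulRegularSeq A l ∧
      Nonempty ((Koszul.koszul A l).homology 0 ≅ ModuleCat.of A (A ⧸ Ideal.ofList l)) := by
  constructor
  · intro i hi
    exact isZero_homology_of_eq (koszul_eq l) i
      (Groth.Agent.Lib.KoszulRegH7.isZero_homology_of_weaklyRegular l A hl i hi)
  · obtain ⟨e⟩ := top_equiv' A l 0 rfl
    have h : (Ideal.ofList l • (⊤ : Submodule A A)) = Ideal.ofList l := by
      rw [smul_eq_mul, Ideal.mul_top]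
    exact ⟨(HomologicalComplex.homologyFunctor _ _ 0).mapIso (eqToIso (koszul_eq l)) ≪≫
      (e.trans (Submodule.quotEquivOfEq _ _ h)).toModuleIso⟩

end Groth.Agent.Lib.KoszulTopH7
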