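import Mathlib
import Groth.Prelude.Def_ega3
import Groth.Agent.Lib.KoszulCok2_helper9
import Groth.Agent.Lib.KoszulBC1_helper9
import Groth.Agent.Lib.KoszulTop_helper7

/-!
# Direct-limit Koszul cohomology of free modules (helper9)

If `colim_n H^j(f^n, A) = 0` then `colim_n H^j(f^n, A^{(J)}) = 0` (finite-support argument on the
terms of the iterated mapping cones); consequently, if all `colim_n H^j(f^n, A)` vanish, then all
`colim_n H^j(f^n, M)` vanish (descending induction) and `(f) = A`.
APPEND-ONLY once landed.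
-/

set_option autoImplicit false
universe u
open CategoryTheory CategoryTheory.Limits CochainComplex HomologicalComplex

namespace KoszulFree

open Groth.Agent.Lib.KoszulLim_helper6 Groth.Agent.Lib.KoszulLim2_helper6
  Groth.Agent.Lib.KoszulCok9

variable {A : Type u} [CommRing A]

section fix

variable {M : ModuleCat.{u} A} {J : Type u} (E : Finset J → (M ⟶ M))
  (hE : ∀ s t : Finset J, s ⊆ t → E s ≫ E t = E s)
  (hfix : ∀ m : M, ∃ s : Finset J, (E s).hom m = m)

include hE hfix in
/-- Every Koszul cochain is fixed by `E t` for `t` large. -/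
theorem X_fix [DecidableEq J] :
    ∀ (l : List A) (j : ℤ) (z : ((CohIII.koszulCx M l).X j : ModuleCat.{u} A)),
      ∃ s : Finset J, ∀ t : Finset J, s ⊆ t → ((kMap (E t) l).f j).hom z = z
  | [], j, z => by
    by_cases hj : j = 0
    · subst hj
      change ((((HomologicalComplex.single (ModuleCat.{u} A) (ComplexShape.up ℤ) 0).obj M).X 0 :
        ModuleCat.{u} A)) at z
      let e := (HomologicalComplex.singleObjXSelf (ComplexShape.up ℤ) (0 : ℤ) M)
      obtain ⟨s, hs⟩ := hfix (e.hom.hom z)
      refine ⟨s, fun t hst => ?_⟩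
      have h1 : (kMap (E t) ([] : List A)).f 0 = e.hom ≫ E t ≫ e.inv :=
        HomologicalComplex.single_map_f_self _ _ _
      rw [h1]
      show e.inv.hom ((E t).hom (e.hom.hom z)) = z
      have h2 : (E t).hom (e.hom.hom z) = e.hom.hom z := by
        rw [← hs]
        show (E s ≫ E t).hom (e.hom.hom z) = _
        rw [hE s t hst]
      rw [h2]
      exact congrArg (fun g => g.hom z) e.hom_inv_id
    · have hz : IsZero ((CohIII.koszulCx M []).X j) :=
        HomologicalComplex.isZero_single_obj_X (ComplexShape.up ℤ) 0 M j hj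
      haveI := ModuleCat.subsingleton_of_isZero hz
      exact ⟨∅, fun t _ => Subsingleton.elim _ _⟩
  | f :: l, j, z => by
    change ((mappingCone (f • 𝟙 (CohIII.koszulCx M l))).X j : ModuleCat.{u} A) at z
    obtain ⟨s₁, h₁⟩ := X_fix l (j + 1)
      (((mappingCone.fst (f • 𝟙 (CohIII.koszulCx M l))).1.v j (j + 1) rfl).hom z)
    obtain ⟨s₂, h₂⟩ := X_fix l j
      (((mappingCone.snd (f • 𝟙 (CohIII.koszulCx M l))).v j j (add_zero j)).hom z)
    refine ⟨s₁ ∪ s₂, fun t hst => ?_⟩
    have hz := cone_elt (f • 𝟙 (CohIII.koszulCx M l)) j z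
    show ((mappingCone.map (f • 𝟙 (CohIII.koszulCx M l)) (f • 𝟙 (CohIII.koszulCx M l))
      (kMap (E t) l) (kMap (E t) l) (kcomm f _)).f j).hom z = z
    rw [map_f_apply, h₁ t (Finset.union_subset_left hst), h₂ t (Finset.union_subset_right hst)]
    exact hz.symm

include hE hfix in
/-- Every Koszul cohomology class is fixed by `E t` for `t` large. -/
theorem homology_fix [DecidableEq J] (l : List A) (j : ℤ)
    (x : ((CohIII.koszulCx M l).homology j : ModuleCat.{u} A)) :
    ∃ s : Finset J, (homologyMap (kMap (E s) l) j).hom x = x := by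
  have hsurj : Function.Surjective ((CohIII.koszulCx M l).homologyπ j).hom :=
    (ModuleCat.epi_iff_surjective _).1 inferInstance
  obtain ⟨c, rfl⟩ := hsurj x
  obtain ⟨s, hs⟩ := X_fix E hE hfix l j (((CohIII.koszulCx M l).iCycles j).hom c)
  refine ⟨s, ?_⟩
  have h1 : ((CohIII.koszulCx M l).homologyπ j ≫ homologyMap (kMap (E s) l) j).hom c =
      (cyclesMap (kMap (E s) l) j ≫ (CohIII.koszulCx M l).homologyπ j).hom c := by
    rw [homologyπ_naturality]
  have h2 : (cyclesMap (kMap (E s) l) j).hom c = c := by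
    have hmono : Function.Injective ((CohIII.koszulCx M l).iCycles j).hom :=
      (ModuleCat.mono_iff_injective _).1 inferInstance
    apply hmono
    have h3 : (cyclesMap (kMap (E s) l) j ≫ (CohIII.koszulCx M l).iCycles j).hom c =
        ((CohIII.koszulCx M l).iCycles j ≫ (kMap (E s) l).f j).hom c := by
      rw [cyclesMap_i]
    exact h3.trans (hs s (Finset.Subset.refl s))
  have h4 : (homologyMap (kMap (E s) l) j).hom (((CohIII.koszulCx M l).homologyπ j).hom c) =
      ((CohIII.koszulCx M l).homologyπ j).hom ((cyclesMap (kMap (E s) l) j).hom c) := h1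
  rw [h4, h2]

include hE hfix in
/-- Every class in the direct limit is fixed by some `E s`. -/
theorem Lj_fix [DecidableEq J] (fs : List A) (j : ℤ) (y : Lj fs j M) :
    ∃ s : Finset J, Lmap fs j (E s) y = y := by
  obtain ⟨n, x, rfl⟩ := Module.DirectLimit.exists_of y
  obtain ⟨s, hs⟩ := homology_fix E hE hfix (fs.map (· ^ n)) j x
  refine ⟨s, ?_⟩
  rw [Lmap_of, hs]

end fix

section additive

variable (fs : List A) (j : ℤ)

theorem Lmap_zero (M N : ModuleCat.{u} A) (y : Lj fs j M) : Lmap fs j (0 : M ⟶ N) y = 0 := by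
  obtain ⟨n, x, rfl⟩ := Module.DirectLimit.exists_of y
  rw [Lmap_of, kMap_zero, homologyMap_zero]
  exact map_zero _

theorem Lmap_add {M N : ModuleCat.{u} A} (g g' : M ⟶ N) (y : Lj fs j M) :
    Lmap fs j (g + g') y = Lmap fs j g y + Lmap fs j g' y := by
  obtain ⟨n, x, rfl⟩ := Module.DirectLimit.exists_of y
  rw [Lmap_of, Lmap_of, Lmap_of, kMap_add, homologyMap_add, ← map_add]
  rfl

theorem Lmap_sum {ι : Type*} [DecidableEq ι] (s : Finset ι) {M N : ModuleCat.{u} A}
    (g : ι → (M ⟶ N)) (y : Lj fs j M) :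
    Lmap fs j (∑ i ∈ s, g i) y = ∑ i ∈ s, Lmap fs j (g i) y := by
  induction s using Finset.induction_on with
  | empty => simpa using Lmap_zero fs j M N y
  | insert a s ha ih =>
    rw [Finset.sum_insert ha, Finset.sum_insert ha, Lmap_add, ih]

end additive

section free

variable (A) in
/-- `A` as a module over itself. -/
noncomputable abbrev A0 : ModuleCat.{u} A := ModuleCat.of A A

variable (A) in
/-- The free module on `J`. -/
noncomputable abbrev FJ (J : Type u) : ModuleCat.{u} A := ModuleCat.of A (J →₀ A)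

variable {J : Type u}

/-- coordinate projection -/
noncomputable def pr (α : J) : FJ A J ⟶ A0 A := ModuleCat.ofHom (Finsupp.lapply α)

/-- coordinate inclusion -/
noncomputable def inc (α : J) : A0 A ⟶ FJ A J := ModuleCat.ofHom (Finsupp.lsingle α)

/-- the projector onto the coordinates in `s` -/
noncomputable def EJ (s : Finset J) : FJ A J ⟶ FJ A J := ∑ α ∈ s, pr α ≫ inc α

theorem EJ_apply [DecidableEq J] (s : Finset J) (m : J →₀ A) (β : J) :
    ((EJ (A := A) s).hom m) β = if β ∈ s then m β else 0 := by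
  unfold EJ
  rw [ModuleCat.hom_sum, LinearMap.sum_apply, Finsupp.finsetSum_apply]
  have h : ∀ α ∈ s, ((pr (A := A) α ≫ inc α).hom m) β = if α = β then m α else 0 := by
    intro α _
    show (Finsupp.single α (m α)) β = _
    rw [Finsupp.single_apply]
  rw [Finset.sum_congr rfl h]
  by_cases hβ : β ∈ s
  · rw [if_pos hβ, Finset.sum_eq_single_of_mem β hβ]
    · rw [if_pos rfl]
    · intro b _ hb
      rw [if_neg hb]
  · rw [if_neg hβ]
    apply Finset.sum_eq_zero
    intro α hα
    rw [if_neg]
    rintro rfl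
    exact hβ hα

theorem EJ_comp [DecidableEq J] (s t : Finset J) (hst : s ⊆ t) :
    EJ (A := A) s ≫ EJ t = EJ s := by
  apply ModuleCat.hom_ext
  apply LinearMap.ext
  intro m
  apply Finsupp.ext
  intro β
  show ((EJ (A := A) t).hom ((EJ (A := A) s).hom m)) β = ((EJ (A := A) s).hom m) β
  rw [EJ_apply, EJ_apply]
  by_cases hβ : β ∈ s
  · rw [if_pos (hst hβ)]
  · rw [if_neg hβ]
    split_ifs <;> rfl

theorem EJ_fix [DecidableEq J] (m : J →₀ A) : (EJ (A := A) m.support).hom m = m := by
  apply Finsupp.ext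
  intro β
  rw [EJ_apply]
  by_cases hβ : β ∈ m.support
  · rw [if_pos hβ]
  · rw [if_neg hβ]
    exact (Finsupp.notMem_support_iff.mp hβ).symm

/-- **Free modules**: if `L^j(fs; A) = 0` then `L^j(fs; A^{(J)}) = 0`. -/
theorem free_eq_zero (fs : List A) (j : ℤ) (h : ∀ y : Lj fs j (A0 A), y = 0) (J : Type u)
    (y : Lj fs j (FJ A J)) : y = 0 := by
  classical
  obtain ⟨s, hs⟩ := Lj_fix (M := FJ A J) (fun s => EJ (A := A) s) (fun s t hst => EJ_comp s t hst)
    (fun m => ⟨_, EJ_fix m⟩) fs j y
  rw [← hs]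
  unfold EJ
  rw [Lmap_sum]
  apply Finset.sum_eq_zero
  intro α _
  rw [KoszulBC.Lmap_comp, h (Lmap fs j (pr α) y), map_zero]

end free

section main

open Groth.Agent.DepthLib

/-- Descending induction: if all `L^j(fs; A)` vanish, so do all `L^j(fs; M)`. -/
theorem all_eq_zero (fs : List A)
    (h : ∀ (p : ℕ) (y : Lj fs ((p : ℤ) - fs.length) (A0 A)), y = 0) :
    ∀ (k : ℕ) (j : ℤ), -(fs.length : ℤ) ≤ j → 1 ≤ j + k →
      ∀ (M : ModuleCat.{u} A) (z : Lj fs j M), z = 0 := by
  intro k
  induction k with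
  | zero =>
    intro j _ hj M z
    have hpos : 0 < j := by omega
    apply Lj_eq_zero fs j _ z
    apply van_of_isZero
    intro n
    have hX : IsZero ((Kn M fs n).X j) :=
      (Groth.Agent.Lib.KoszulTopH7.topData M (fs.map (· ^ n))).isZero_pos j hpos
    exact ShortComplex.isZero_homology_of_isZero_X₂ _ hX
  | succ k ih =>
    intro j hj0 hj M z
    have hA : ∀ y : Lj fs j (A0 A), y = 0 := by
      have hp : (((j + fs.length).toNat : ℕ) : ℤ) - fs.length = j := by
        rw [Int.toNat_of_nonneg (by omega)]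
        ring
      have h' := h (j + fs.length).toNat
      rw [hp] at h'
      exact h'
    -- free cover
    let g : ((M : Type u) →₀ A) →ₗ[A] (M : Type u) := Finsupp.linearCombination A id
    have hg : Function.Surjective g := Finsupp.linearCombination_id_surjective A M
    let T : Submodule A ((M : Type u) →₀ A) := LinearMap.ker g
    have hex : Function.Exact T.subtype g := LinearMap.exact_subtype_ker_map g
    let S := @shortComplexOf A _ T ((M : Type u) →₀ A) M _ _ _ _ _ _ T.subtype g hex
    have hS : S.ShortExact :=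
      @shortComplexOf_shortExact A _ T ((M : Type u) →₀ A) M _ _ _ _ _ _ T.subtype g
        T.injective_subtype hg hex
    have hK : dL fs S hS j (j + 1) rfl z = 0 :=
      ih (j + 1) (by omega) (by push_cast at hj ⊢; omega) S.X₁ _
    obtain ⟨y, hy⟩ := (dL_eq_zero_iff fs S hS j (j + 1) rfl z).1 hK
    have hy0 : y = 0 := free_eq_zero fs j hA (M : Type u) y
    rw [← hy, hy0]
    exact map_zero _

/-- If all direct-limit Koszul cohomology groups of `A` vanish, the elements generate `A`. -/
theorem span_eq_top (fs : List A)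
    (h : ∀ (p : ℕ) (y : Lj fs ((p : ℤ) - fs.length) (A0 A)), y = 0) :
    Ideal.span {a | a ∈ fs} = ⊤ := by
  set I : Ideal A := Ideal.span {a | a ∈ fs} with hI
  obtain ⟨e⟩ := Groth.Agent.Lib.KoszulCok9.nonempty_L0_equiv fs (ModuleCat.of A (A ⧸ I))
    (-(fs.length : ℤ)) rfl
  have h1 : (Ideal.Quotient.mk I 1 : A ⧸ I) ∈
      Groth.Agent.Lib.InjHull_helper3.Γ (Ideal.span {x | x ∈ fs}) (A ⧸ I) := by
    rw [← mem_Γ_span_iff' fs (A ⧸ I)]
    intro a ha
    refine ⟨1, ?_⟩
    rw [pow_one]
    show a • (Ideal.Quotient.mk I 1 : A ⧸ I) = 0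
    rw [← Ideal.Quotient.mk_eq_mk, ← Submodule.Quotient.mk_smul, smul_eq_mul, mul_one,
      Ideal.Quotient.mk_eq_mk, Ideal.Quotient.eq_zero_iff_mem]
    exact Ideal.subset_span ha
  have h2 : e.symm ⟨_, h1⟩ = 0 :=
    all_eq_zero fs h (fs.length + 1) (-(fs.length : ℤ)) le_rfl (by push_cast; omega) _ _
  have h3 : (⟨_, h1⟩ : ↥(Groth.Agent.Lib.InjHull_helper3.Γ (Ideal.span {x | x ∈ fs}) (A ⧸ I))) = 0 := by
    have := congrArg e h2
    rwa [LinearEquiv.apply_symm_apply, map_zero] at this
  have h4 : (Ideal.Quotient.mk I 1 : A ⧸ I) = 0 := congrArg Subtype.val h3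
  rw [Ideal.Quotient.eq_zero_iff_mem] at h4
  exact (Ideal.eq_top_iff_one I).2 h4

end main

end KoszulFree
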