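import Mathlib
import Groth.Prelude.Def_Coh
import Groth.Agent.Lib.CechKos5_helper9
import Groth.Agent.Lib.KoszulFree1_helper9
import Groth.Agent.Lib.SerreCrit1_helper9
import Groth.Agent.Lib.FlasqueAcyclic_helper2

/-!
# A quasi-affine scheme with `H^p(X, O_X) = 0` for `p > 0` is affine (helper9)

Cover `X` by affine basic opens `X_{f_i}` of global functions; then all direct-limit Koszul
cohomology groups of `Γ(X, O_X)` with respect to `(f_i)` vanish, so the `f_i` generate the unit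
ideal (`KoszulFree.span_eq_top`).
APPEND-ONLY once landed.
-/

set_option autoImplicit false
universe u
open CategoryTheory CategoryTheory.Limits AlgebraicGeometry Opposite TopologicalSpace
open QcqsLoc QCohExtn AcycEmb KoszulCokG
open Groth.Agent.Lib.KoszulLim_helper6 Groth.Agent.Lib.KoszulLim2_helper6

namespace QAffKos

section yoneda

/-- Two objects corepresenting the same functor are isomorphic. -/
theorem nonempty_iso_of_homEquiv {C : Type*} [Category C] (P P' : C) (Γ' : C → Type*)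
    (γ : ∀ {F F' : C}, (F ⟶ F') → Γ' F → Γ' F')
    (e : ∀ F, (P ⟶ F) ≃ Γ' F) (e' : ∀ F, (P' ⟶ F) ≃ Γ' F)
    (he : ∀ {F F' : C} (f : P ⟶ F) (φ : F ⟶ F'), e F' (f ≫ φ) = γ φ (e F f))
    (he' : ∀ {F F' : C} (f : P' ⟶ F) (φ : F ⟶ F'), e' F' (f ≫ φ) = γ φ (e' F f)) :
    Nonempty (P ≅ P') := by
  let a : P' ⟶ P := (e' P).symm (e P (𝟙 P))
  let b : P ⟶ P' := (e P').symm (e' P' (𝟙 P'))
  refine ⟨⟨b, a, ?_, ?_⟩⟩
  · apply (e P).injective
    rw [he b a, Equiv.apply_symm_apply, ← he' (𝟙 P') a, Category.id_comp, Equiv.apply_symm_apply]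
  · apply (e' P').injective
    rw [he' a b, Equiv.apply_symm_apply, ← he (𝟙 P) b, Category.id_comp, Equiv.apply_symm_apply]

/-- `Ext` out of isomorphic objects. -/
noncomputable def extEquivOfIso {C : Type*} [Category C] [Abelian C] [HasExt C] {P P' : C}
    (i : P ≅ P') (F : C) (n : ℕ) : Abelian.Ext P' F n ≃+ Abelian.Ext P F n :=
  { (Abelian.Ext.mk₀ i.hom).precomp F (zero_add n) with
    invFun := (Abelian.Ext.mk₀ i.inv).precomp F (zero_add n)
    left_inv := fun (x : Abelian.Ext P' F n) => by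
      change (Abelian.Ext.mk₀ i.inv).comp
        ((Abelian.Ext.mk₀ i.hom).comp x (zero_add n)) (zero_add n) = x
      rw [Abelian.Ext.mk₀_comp_mk₀_assoc, Iso.inv_hom_id, Abelian.Ext.mk₀_id_comp]
    right_inv := fun (x : Abelian.Ext P F n) => by
      change (Abelian.Ext.mk₀ i.hom).comp
        ((Abelian.Ext.mk₀ i.inv).comp x (zero_add n)) (zero_add n) = x
      rw [Abelian.Ext.mk₀_comp_mk₀_assoc, Iso.hom_inv_id, Abelian.Ext.mk₀_id_comp] }

/-- Cohomology of the whole space is `Ext` out of the free sheaf on `⊤`. -/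
theorem nonempty_H_equiv {X : TopCat.{u}} (F : CohTop.Ab X) (q : ℕ) :
    Nonempty (Abelian.Ext (Groth.Agent.Lib.Cech.fr (X := X) ⊤) F q ≃+ CohTop.H F q) := by
  obtain ⟨i⟩ := nonempty_iso_of_homEquiv
    ((constantSheaf (Opens.grothendieckTopology X) AddCommGrpCat.{u}).obj
      (AddCommGrpCat.of (ULift ℤ))) (Groth.Agent.Lib.Cech.fr (X := X) ⊤)
    (fun F : CohTop.Ab X => F.obj.obj (op (⊤ : Opens X)))
    (fun {F F' : CohTop.Ab X} (φ : F ⟶ F') s => φ.hom.app (op ⊤) s)
    (fun F => Groth.Agent.Lib.FlasqueAcyclic.constEquiv F)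
    (fun F => Groth.Agent.Lib.FreeSheaf.freeSheafHomEquiv _ ⊤ F)
    (fun f φ => Groth.Agent.Lib.FlasqueAcyclic.constEquiv_comp f φ)
    (fun f φ => Groth.Agent.Lib.FreeSheaf.freeSheafHomEquiv_comp _ ⊤ f φ)
  exact ⟨extEquivOfIso i F q⟩

end yoneda

section main

open SerreCrit CechKos

variable (X : Scheme.{u})

/-- A quasi-affine scheme is covered by finitely many affine basic opens of global functions. -/
theorem exists_list_cover [X.IsQuasiAffine] :
    ∃ fs : List Γ(X, ⊤), (∀ i : Fin fs.length, IsAffineOpen (X.basicOpen (fs.get i))) ∧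
      Uf fs = ⊤ := by
  classical
  have hcov : ∀ x : X, ∃ r : Γ(X, ⊤), IsAffineOpen (X.basicOpen r) ∧ x ∈ X.basicOpen r := by
    intro x
    obtain ⟨_, ⟨_, ⟨r, hr, rfl⟩, rfl⟩, hxr, -⟩ :=
      (Scheme.IsQuasiAffine.isBasis_basicOpen X).exists_subset_of_mem_open (Set.mem_univ x)
        isOpen_univ
    exact ⟨r, hr, hxr⟩
  obtain ⟨t, ht⟩ := isCompact_univ.elim_finite_subcover
    (fun r : {r : Γ(X, ⊤) // IsAffineOpen (X.basicOpen r)} => ((X.basicOpen r.1 : X.Opens) : Set X))
    (fun r => (X.basicOpen r.1).isOpen)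
    (by
      intro x _
      obtain ⟨r, hr, hxr⟩ := hcov x
      exact Set.mem_iUnion.2 ⟨⟨r, hr⟩, hxr⟩)
  refine ⟨t.toList.map Subtype.val, ?_, ?_⟩
  · intro i
    have hmem : (t.toList.map Subtype.val).get i ∈ t.toList.map Subtype.val := List.get_mem _ i
    obtain ⟨r, _, hr⟩ := List.mem_map.mp hmem
    rw [← hr]
    exact r.2
  · apply top_le_iff.mp
    intro x _
    obtain ⟨r, hr⟩ := Set.mem_iUnion.1 (ht (Set.mem_univ x))
    obtain ⟨hrt, hxr⟩ := Set.mem_iUnion.1 hr
    have hmem : r.1 ∈ t.toList.map Subtype.val :=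
      List.mem_map.mpr ⟨r, Finset.mem_toList.mpr hrt, rfl⟩
    obtain ⟨i, hi⟩ := List.mem_iff_get.mp hmem
    refine Opens.mem_iSup.2 ⟨i, ?_⟩
    rw [hi]
    exact hxr

variable {X}

theorem rF_refl (F : X.Modules) (W : X.Opens) (t : Γ(F, W)) : rF F (le_refl W) t = t := by
  show (F.presheaf.map (𝟙 (op W))).hom t = t
  rw [F.presheaf.map_id]
  rfl

/-- `Γ(X, O_X)` as a module over itself. -/
noncomputable def mtopIso : Mtop (OO X) ≅ KoszulFree.A0 Γ(X, ⊤) :=
  LinearEquiv.toModuleIso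
    { toFun := fun x => toFn x
      invFun := fun a => ofFn a
      left_inv := fun _ => rfl
      right_inv := fun _ => rfl
      map_add' := fun _ _ => rfl
      map_smul' := fun _ _ => rfl }

variable [CompactSpace X] [QuasiSeparatedSpace X]

/-- All direct-limit Koszul cohomology of a quasi-coherent module vanishes when the basic opens
are affine, cover `X`, and the higher cohomology of the module vanishes. -/
theorem koszulHLim_eq_zero (fs : List Γ(X, ⊤))
    (haff : ∀ i : Fin fs.length, IsAffineOpen (X.basicOpen (fs.get i))) (hU : Uf fs = ⊤)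
    (G : X.Modules) [G.IsQuasicoherent]
    (h : ∀ p : ℕ, 0 < p → Subsingleton (Coh.HH X G p)) :
    ∀ (p : ℕ) (y : CohIII.koszulHLim fs (Mtop G) p), y = 0 := by
  have htop : (⊤ : X.Opens) ≤ Uf fs := hU.ge
  intro p
  rcases p with _ | _ | q
  · obtain ⟨e⟩ := nonempty_ker_equiv G fs
    intro y
    obtain ⟨⟨m, hm⟩, rfl⟩ := e.surjective y
    have hm0 : m = 0 := by
      have h1 : rF G (le_top : Uf fs ≤ ⊤) m = 0 := hm
      have h2 := congrArg (rF G htop) h1
      rw [rF_rF, map_zero, rF_refl] at h2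
      exact h2
    have : (⟨m, hm⟩ : (rF G (le_top : Uf fs ≤ ⊤)).ker) = 0 := Subtype.ext hm0
    rw [this, map_zero]
  · obtain ⟨e⟩ := nonempty_coker_equiv G fs
    intro y
    obtain ⟨c, rfl⟩ := e.surjective y
    obtain ⟨s, rfl⟩ := QuotientAddGroup.mk_surjective c
    have hs : s ∈ (rF G (le_top : Uf fs ≤ ⊤)).range := by
      refine ⟨rF G htop s, ?_⟩
      rw [rF_rF, rF_refl]
    have : (QuotientAddGroup.mk s : Γ(G, Uf fs) ⧸ (rF G (le_top : Uf fs ≤ ⊤)).range) = 0 :=
      (QuotientAddGroup.eq_zero_iff s).2 hs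
    rw [this, map_zero]
  · obtain ⟨e1⟩ := Groth.Agent.Lib.Cech.nonempty_cech_addEquiv (X := X) (UU fs)
      (isAffineOpen_biInf fs haff) G (q + 1)
    rw [iSup_UU, hU] at e1
    obtain ⟨e2⟩ := nonempty_H_equiv (X := X.toTopCat) (Coh.toAb G) (q + 1)
    obtain ⟨e3⟩ := nonempty_cech_koszul fs G (q + 1) (by omega)
    haveI := h (q + 1) (Nat.succ_pos q)
    intro y
    have hy : e2 (e1 (e3.symm y)) = e2 (e1 (e3.symm 0)) :=
      Subsingleton.elim (α := Coh.HH X G (q + 1)) _ _
    exact e3.symm.injective (e1.injective (e2.injective hy))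

end main

/-- **A quasi-affine scheme whose structure sheaf has no higher cohomology is affine.** -/
theorem isAffine_of_isQuasiAffine (X : Scheme.{u}) [X.IsQuasiAffine]
    (h : ∀ p : ℕ, 0 < p → Subsingleton (Coh.HH X (Coh.structureModule X) p)) : IsAffine X := by
  obtain ⟨fs, haff, hU⟩ := exists_list_cover X
  haveI : QuasiSeparatedSpace X := inferInstance
  haveI : (SerreCrit.OO X).IsQuasicoherent := SerreCrit.isQuasicoherent_OO
  have h0 := koszulHLim_eq_zero fs haff hU (SerreCrit.OO X) h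
  have hspan : Ideal.span {a | a ∈ fs} = ⊤ := by
    apply KoszulFree.span_eq_top fs
    intro p y
    have h1 : (KoszulBC.LmapEquiv fs ((p : ℤ) - fs.length) mtopIso).symm y = 0 := h0 p _
    have h2 := congrArg (KoszulBC.LmapEquiv fs ((p : ℤ) - fs.length) mtopIso) h1
    rwa [LinearEquiv.apply_symm_apply, map_zero] at h2
  refine isAffine_of_isAffineOpen_basicOpen {a | a ∈ fs} hspan ?_
  intro a ha
  obtain ⟨i, rfl⟩ := List.mem_iff_get.mp ha
  exact haff i

end QAffKos
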