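import Mathlib
import Groth.Prelude.Def_Wider
import Groth.Agent.Lib.CechKos8_helper9
import Groth.Agent.Lib.QAffKos1_helper9

/-!
# Cohomology of the punctured spectrum and local cohomology (helper9)

For a Noetherian ring `R`, an ideal `I` and `U = Spec R ∖ V(I)`:
`H^p(U, M~|_U) ≅ H^{p+1}_I(M)` for `p ≥ 1`; if `cd(R, I) ≤ 1` then `U` is affine.
APPEND-ONLY once landed.
-/

set_option autoImplicit false
universe u
open CategoryTheory CategoryTheory.Limits AlgebraicGeometry Opposite TopologicalSpace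
open QcqsLoc QCohExtn AcycEmb KoszulCokG
open Groth.Agent.Lib.KoszulLim_helper6 Groth.Agent.Lib.KoszulLim2_helper6

namespace LocCohAff

variable (R : Type u) [CommRing R]

/-- A finitely generated ideal is the span of a list. -/
theorem exists_list_span (I : Ideal R) (hI : I.FG) : ∃ fs : List R, I = Ideal.span {a | a ∈ fs} := by
  classical
  obtain ⟨s, rfl⟩ := hI
  refine ⟨s.toList, ?_⟩
  congr 1
  ext a
  simp

/-- Cohomology of the complement of `V(fs)` and direct-limit Koszul cohomology (any ring). -/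
theorem nonempty_HHon_punctured (fs : List R) (M : ModuleCat.{u} (CommRingCat.of R)) (p : ℕ)
    (hp : 1 ≤ p) :
    Nonempty (Coh.HHon (Spec (CommRingCat.of R)) (tilde (R := CommRingCat.of R) M)
        (LocCoh.puncturedOpen R (Ideal.span {a | a ∈ fs})) p ≃+
      CohIII.koszulHLim fs M (p + 1)) := by
  rw [← CechKos.Uf_map_eq_puncturedOpen]
  obtain ⟨e1⟩ := CechKos.nonempty_HHon_koszul (X := Spec (CommRingCat.of R))
    (fs.map (CechKos.φΓ (CommRingCat.of R)))
    (fun i => CechKos.isAffineOpen_basicOpen_Spec (CommRingCat.of R) _)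
    (tilde (R := CommRingCat.of R) M) p hp
  obtain ⟨e2⟩ := CechKos.nonempty_koszul_tilde (CommRingCat.of R) fs M (p + 1)
  exact ⟨e1.trans e2.symm⟩

/-- S0356 core. -/
theorem nonempty_HH_punctured_H [IsNoetherianRing R] (I : Ideal R) (M : Type u) [AddCommGroup M]
    [Module R M] (p : ℕ) (hp : 1 ≤ p) :
    Nonempty (Coh.HHon (Spec (CommRingCat.of R))
        (tilde (R := CommRingCat.of R) (ModuleCat.of R M)) (LocCoh.puncturedOpen R I) p ≃+
      LocCoh.H I (p + 1) M) := by
  obtain ⟨fs, rfl⟩ := exists_list_span R I (IsNoetherian.noetherian I)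
  obtain ⟨e1⟩ := nonempty_HHon_punctured R fs (ModuleCat.of R M) p hp
  obtain ⟨e2⟩ := main5173 fs M (p + 1)
  exact ⟨e1.trans e2.symm.toAddEquiv⟩

end LocCohAff
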