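import Mathlib
import Groth.Prelude.Def_Wider
import Groth.Agent.Lib.LocCohAff1_helper9
import Groth.Agent.Lib.CechKos6_helper9

/-!
# Ideals of cohomological dimension one have affine complement (helper9)
APPEND-ONLY once landed.
-/

set_option autoImplicit false
universe u
open CategoryTheory CategoryTheory.Limits AlgebraicGeometry Opposite TopologicalSpace
open QcqsLoc QCohExtn AcycEmb KoszulCokG
open Groth.Agent.Lib.KoszulLim_helper6 Groth.Agent.Lib.KoszulLim2_helper6

namespace LocCohAff

variable (A : Type u) [CommRing A]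

/-- `cd(A, I) ≤ 1` ⇒ the complement of `V(I)` is affine. -/
theorem isAffine_punctured [IsNoetherianRing A] (I : Ideal A) (h1 : LocCoh.CdLE A I 1) :
    IsAffine (↑(LocCoh.puncturedOpen A I) : Scheme.{u}) := by
  set U := LocCoh.puncturedOpen A I with hU
  haveI : CompactSpace (↑U : Scheme.{u}) :=
    isCompact_iff_compactSpace.mp (NoetherianSpace.isCompact (α := PrimeSpectrum A) U.1)
  haveI : (↑U : Scheme.{u}).IsQuasiAffine := Scheme.IsQuasiAffine.of_isImmersion U.ι
  apply QAffKos.isAffine_of_isQuasiAffine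
  intro p hp
  obtain ⟨e⟩ := nonempty_HH_punctured_H A I A p hp
  haveI : Subsingleton (LocCoh.H I (p + 1) A) := h1 A (p + 1) (by omega)
  let β := Scheme.Modules.restrictUnitIso U.ι
  let γ := (SheafOfModules.toSheaf (↑U : Scheme.{u}).ringCatSheaf).mapIso β
  let e' := ((Sheaf.functorH (Opens.grothendieckTopology (↑U : Scheme.{u})) p).mapIso
    γ).addCommGroupIsoToAddEquiv
  exact (e'.symm.trans e).toEquiv.subsingleton

/-- Sections over the empty open. -/
theorem subsingleton_sections_bot {X : Scheme.{u}} (F : X.Modules) : Subsingleton Γ(F, ⊥) := by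
  have h0 : ∀ s : Γ(F, ⊥), s = 0 := by
    intro s
    apply eq_zero_of_cover
    intro x hx
    exact absurd hx (by simp)
  exact ⟨fun a b => by rw [h0 a, h0 b]⟩

open Groth.Agent.Lib.Cech Groth.Agent.Lib.FreeSheaf in
/-- The free sheaf on the empty open is zero. -/
theorem isZero_fr_bot {X : TopCat.{u}} : IsZero (fr (X := X) ⊥) := by
  rw [IsZero.iff_id_eq_zero]
  apply (freeSheafHomEquiv (Opens.grothendieckTopology X) ⊥ (fr (X := X) ⊥)).injective
  have hterm : IsTerminal ((fr (X := X) ⊥).1.obj (op ⊥)) := TopCat.Sheaf.isTerminalOfEmpty _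
  haveI := AddCommGrpCat.subsingleton_of_isZero
    ((IsZero.iff_id_eq_zero _).mpr (hterm.hom_ext _ _))
  exact Subsingleton.elim _ _

theorem ext_eq_zero_of_isZero_src {C : Type*} [Category C] [Abelian C] [HasExt C] {P F : C}
    (hP : IsZero P) (n : ℕ) (x : Abelian.Ext P F n) : x = 0 := by
  have hx := Abelian.Ext.mk₀_id_comp x
  rw [hP.eq_of_src (𝟙 _) 0, Abelian.Ext.mk₀_zero, Abelian.Ext.zero_comp] at hx
  exact hx.symm

open Groth.Agent.Lib.Cech in
/-- If `V(I)` is everything, local cohomology with supports in `I` vanishes in positive degrees. -/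
theorem cdLE_zero_of_punctured_eq_bot [IsNoetherianRing A] (I : Ideal A)
    (hU : LocCoh.puncturedOpen A I = ⊥) : LocCoh.CdLE A I 0 := by
  intro M _ _ i hi
  obtain ⟨fs, rfl⟩ := exists_list_span A I (IsNoetherian.noetherian I)
  obtain ⟨e0⟩ := main5173 fs M i
  have hUf : Uf (fs.map (CechKos.φΓ (CommRingCat.of A))) = ⊥ :=
    (CechKos.Uf_map_eq_puncturedOpen A fs).trans hU
  obtain ⟨e1⟩ := CechKos.nonempty_koszul_tilde (CommRingCat.of A) fs (ModuleCat.of A M) i
  suffices Subsingleton (CohIII.koszulHLim (fs.map (CechKos.φΓ (CommRingCat.of A)))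
      (Mtop (tilde (R := CommRingCat.of A) (ModuleCat.of A M))) i) from
    (e0.toEquiv.trans e1.toEquiv).subsingleton
  rcases i with _ | _ | q
  · omega
  · obtain ⟨e2⟩ := nonempty_coker_equiv (tilde (R := CommRingCat.of A) (ModuleCat.of A M))
      (fs.map (CechKos.φΓ (CommRingCat.of A)))
    haveI : Subsingleton Γ(tilde (R := CommRingCat.of A) (ModuleCat.of A M),
        Uf (fs.map (CechKos.φΓ (CommRingCat.of A)))) := by
      rw [hUf]
      exact subsingleton_sections_bot _
    refine ⟨fun a b => e2.symm.injective ?_⟩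
    obtain ⟨sa, hsa⟩ := QuotientAddGroup.mk_surjective (e2.symm a)
    obtain ⟨sb, hsb⟩ := QuotientAddGroup.mk_surjective (e2.symm b)
    rw [← hsa, ← hsb, Subsingleton.elim sa sb]
  · obtain ⟨e2⟩ := CechKos.nonempty_extfr_koszul (X := Spec (CommRingCat.of A))
      (fs.map (CechKos.φΓ (CommRingCat.of A)))
      (fun i => CechKos.isAffineOpen_basicOpen_Spec (CommRingCat.of A) _)
      (tilde (R := CommRingCat.of A) (ModuleCat.of A M)) (q + 1) (by omega)
    have key : ∀ W : (Spec (CommRingCat.of A)).Opens,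
        Uf (fs.map (CechKos.φΓ (CommRingCat.of A))) = W →
        Nonempty (Abelian.Ext (fr (X := (Spec (CommRingCat.of A)).toTopCat) W)
          (Coh.toAb (tilde (R := CommRingCat.of A) (ModuleCat.of A M))) (q + 1) ≃+
          CohIII.koszulHLim (fs.map (CechKos.φΓ (CommRingCat.of A)))
            (Mtop (tilde (R := CommRingCat.of A) (ModuleCat.of A M))) (q + 1 + 1)) := by
      rintro _ rfl
      exact ⟨e2⟩
    obtain ⟨e3⟩ := key ⊥ hUf
    refine ⟨fun a b => e3.symm.injective ?_⟩
    rw [ext_eq_zero_of_isZero_src isZero_fr_bot _ (e3.symm a),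
      ext_eq_zero_of_isZero_src isZero_fr_bot _ (e3.symm b)]

/-- S1802 core. -/
theorem nonempty_and_isAffine_punctured [IsNoetherianRing A] (I : Ideal A)
    (h1 : LocCoh.CdLE A I 1) (h0 : ¬ LocCoh.CdLE A I 0) :
    Nonempty (↑(LocCoh.puncturedOpen A I) : Scheme.{u}) ∧
      IsAffine (↑(LocCoh.puncturedOpen A I) : Scheme.{u}) := by
  refine ⟨?_, isAffine_punctured A I h1⟩
  by_contra hne
  apply h0
  apply cdLE_zero_of_punctured_eq_bot
  apply le_bot_iff.mp
  intro x hx
  exact (hne ⟨⟨x, hx⟩⟩).elim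

end LocCohAff
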