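import Mathlib
import Groth.Prelude.Def_Coh
import Groth.Agent.Lib.LocCohAff2_helper9

/-!
# Vanishing of cohomology above the number of acyclic opens in a cover (helper9)

Mayer–Vietoris induction: if `X = U_0 ∪ … ∪ U_r` with all the `U_i` in a family of opens closed
under `⊓` whose members have no higher cohomology with coefficients in `F`, then `H^q(X, F) = 0`
for `q > r`.
APPEND-ONLY once landed.
-/

set_option autoImplicit false
universe u
open CategoryTheory CategoryTheory.Limits AlgebraicGeometry Opposite TopologicalSpace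

namespace MVVanish

open Groth.Agent.Lib.Cech

section top

variable {X : TopCat.{u}} (F : CohTop.Ab X)

/-- `Ext` out of a biproduct vanishes if it does out of both summands. -/
theorem ext_biprod_eq_zero {C : Type*} [Category C] [Abelian C] [HasExt C] {P Q G : C} (n : ℕ)
    (h1 : ∀ x : Abelian.Ext P G n, x = 0) (h2 : ∀ x : Abelian.Ext Q G n, x = 0)
    (y : Abelian.Ext (P ⊞ Q) G n) : y = 0 := by
  have hy := Abelian.Ext.mk₀_id_comp y
  rw [← biprod.total, Abelian.Ext.mk₀_add, Abelian.Ext.add_comp,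
    ← Abelian.Ext.mk₀_comp_mk₀, ← Abelian.Ext.mk₀_comp_mk₀,
    Abelian.Ext.comp_assoc_of_second_deg_zero, Abelian.Ext.comp_assoc_of_second_deg_zero,
    h1 ((Abelian.Ext.mk₀ biprod.inl).comp y (zero_add n)),
    h2 ((Abelian.Ext.mk₀ biprod.inr).comp y (zero_add n)),
    Abelian.Ext.comp_zero, Abelian.Ext.comp_zero, add_zero] at hy
  exact hy.symm

/-- Mayer–Vietoris step. -/
theorem ext_fr_sup_eq_zero (U V : Opens X) (n : ℕ)
    (h1 : ∀ x : Abelian.Ext (fr (X := X) (U ⊓ V)) F n, x = 0)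
    (h2 : ∀ x : Abelian.Ext (fr (X := X) U) F (n + 1), x = 0)
    (h3 : ∀ x : Abelian.Ext (fr (X := X) V) F (n + 1), x = 0)
    (x : Abelian.Ext (fr (X := X) (U ⊔ V)) F (n + 1)) : x = 0 := by
  let S := Opens.mayerVietorisSquare U V
  have hS := S.shortComplex_shortExact
  have hx : (Abelian.Ext.mk₀ S.shortComplex.g).comp x (zero_add (n + 1)) = 0 :=
    ext_biprod_eq_zero (n + 1) h2 h3 _
  obtain ⟨y, hy⟩ := Abelian.Ext.contravariant_sequence_exact₃ hS F x hx (add_comm 1 n)
  have hy0 : y = 0 := h1 y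
  rw [← hy, hy0]
  exact Abelian.Ext.comp_zero hS.extClass _ _ _ _

/-- The union of a list of opens. -/
def sup : List (Opens X) → Opens X
  | [] => ⊥
  | U :: l => U ⊔ sup l

theorem inf_sup (U : Opens X) : ∀ l : List (Opens X), U ⊓ sup l = sup (l.map (U ⊓ ·))
  | [] => inf_bot_eq U
  | V :: l => by
    show U ⊓ (V ⊔ sup l) = (U ⊓ V) ⊔ sup (l.map (U ⊓ ·))
    rw [inf_sup_left, inf_sup U l]

theorem mem_sup {l : List (Opens X)} {x : X} (hx : x ∈ sup l) : ∃ U ∈ l, x ∈ U := by
  induction l with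
  | nil => exact absurd hx (by simp [sup])
  | cons V l ih =>
    rcases hx with hx | hx
    · exact ⟨V, List.mem_cons_self, hx⟩
    · obtain ⟨U, hU, hxU⟩ := ih hx
      exact ⟨U, List.mem_cons_of_mem _ hU, hxU⟩

theorem le_sup {l : List (Opens X)} {U : Opens X} (hU : U ∈ l) : U ≤ sup l := by
  induction l with
  | nil => exact absurd hU (by simp)
  | cons V l ih =>
    rcases List.mem_cons.mp hU with rfl | h
    · exact le_sup_left
    · exact (ih h).trans le_sup_right

/-- **Mayer–Vietoris induction.** -/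
theorem ext_fr_sup_eq_zero_of_cover (B : Set (Opens X))
    (hB : ∀ U ∈ B, ∀ V ∈ B, U ⊓ V ∈ B)
    (hacyc : ∀ U ∈ B, ∀ (n : ℕ) (x : Abelian.Ext (fr (X := X) U) F (n + 1)), x = 0) :
    ∀ (k : ℕ) (l : List (Opens X)), l.length = k → (∀ U ∈ l, U ∈ B) → ∀ q : ℕ, k ≤ q → 1 ≤ q →
      ∀ x : Abelian.Ext (fr (X := X) (sup l)) F q, x = 0 := by
  intro k
  induction k with
  | zero =>
    intro l hl _ q _ _ x
    obtain rfl : l = [] := List.length_eq_zero_iff.mp hl
    exact LocCohAff.ext_eq_zero_of_isZero_src LocCohAff.isZero_fr_bot q x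
  | succ k ih =>
    intro l hl hlB q hq _ x
    obtain ⟨U, l', rfl⟩ : ∃ U l', l = U :: l' := by
      cases l with
      | nil => simp at hl
      | cons U l' => exact ⟨U, l', rfl⟩
    have hl' : l'.length = k := by simpa using hl
    obtain ⟨n, rfl⟩ : ∃ n, q = n + 1 := ⟨q - 1, by omega⟩
    have hUB : U ∈ B := hlB U List.mem_cons_self
    have hl'B : ∀ V ∈ l', V ∈ B := fun V hV => hlB V (List.mem_cons_of_mem _ hV)
    refine ext_fr_sup_eq_zero F U (sup l') n ?_ (hacyc U hUB n) ?_ x
    · rw [inf_sup]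
      intro y
      rcases Nat.eq_zero_or_pos k with hk | hk
      · have hnil : l' = [] := List.length_eq_zero_iff.mp (hl'.trans hk)
        subst hnil
        exact LocCohAff.ext_eq_zero_of_isZero_src LocCohAff.isZero_fr_bot n y
      · refine ih (l'.map (U ⊓ ·)) (by rw [List.length_map, hl']) ?_ n (by omega) (by omega) y
        intro W hW
        obtain ⟨V, hV, rfl⟩ := List.mem_map.mp hW
        exact hB U hUB V (hl'B V hV)
    · exact ih l' hl' hl'B (n + 1) (by omega) (by omega)

end top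

section scheme

variable {X : Scheme.{u}}

/-- If `X` is covered by `r` affine opens from a family of affine opens closed under intersection,
then `H^q(X, F) = 0` for quasi-coherent `F` and `q ≥ max r 1`. -/
theorem HH_eq_zero_of_cover (F : X.Modules) [F.IsQuasicoherent] (B : Set X.Opens)
    (hB : ∀ U ∈ B, ∀ V ∈ B, U ⊓ V ∈ B) (hBaff : ∀ U ∈ B, IsAffineOpen U)
    (l : List X.Opens) (hl : ∀ U ∈ l, U ∈ B) (hcov : ∀ x : X, ∃ U ∈ l, x ∈ U)
    (q : ℕ) (hq : l.length ≤ q) (hq1 : 1 ≤ q) : Subsingleton (Coh.HH X F q) := by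
  have htop : sup (X := X.toTopCat) l = ⊤ := by
    apply top_le_iff.mp
    intro x _
    obtain ⟨U, hU, hxU⟩ := hcov x
    exact le_sup (X := X.toTopCat) hU hxU
  have h0 := ext_fr_sup_eq_zero_of_cover (X := X.toTopCat) (Coh.toAb F) B hB
    (fun U hU n x => ext_fr_eq_zero_of_isAffineOpen F U (hBaff U hU) n x) l.length l rfl hl q hq hq1
  rw [htop] at h0
  obtain ⟨e⟩ := QAffKos.nonempty_H_equiv (X := X.toTopCat) (Coh.toAb F) q
  exact ⟨fun a b => e.symm.injective ((h0 _).trans (h0 _).symm)⟩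

end scheme

end MVVanish
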