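import Mathlib
import Groth.Agent.Lib.CechConcrete_helper2

/-!
# Čech cohomology of presheaves of "monomial type" (helper9)

Abstract form of the computation of the Čech cohomology of `O(d)` on projective space: the sections
over the finite intersections of the cover embed compatibly into a group of finitely supported
functions on a set `E` of "exponents", the image over `⋂ U (σ k)` being cut out by an admissibility
condition on exponents depending only on `range σ`.  A cone contraction, exponent by exponent, proves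
vanishing.
-/

set_option autoImplicit false
universe u
open CategoryTheory Limits TopologicalSpace Opposite

namespace Groth.Agent.CechMono

open Groth.Agent.Lib.Cech

variable {X : TopCat.{u}} (P : (Opens X)ᵒᵖ ⥤ AddCommGrpCat.{u}) {ι : Type u} (U : ι → Opens X)
  {E : Type*} {R : Type*} [AddCommGroup R]
  (Adm : Set ι → E → Prop)
  (Φ : ∀ (p : ℕ) (σ : Fin (p + 1) → ι), P.obj (op (⨅ k, U (σ k))) →+ (E →₀ R))

/-- the hypotheses: compatible injective coordinates with admissible image -/
structure IsMono : Prop where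
  hres : ∀ (p : ℕ) (σ : Fin (p + 2) → ι) (k : Fin (p + 2))
      (x : P.obj (op (⨅ j, U ((σ ∘ k.succAbove) j)))),
      Φ (p + 1) σ (res P (face_le U σ k) x) = Φ p (σ ∘ k.succAbove) x
  hinj : ∀ (p : ℕ) (σ : Fin (p + 1) → ι), Function.Injective (Φ p σ)
  hrange : ∀ (p : ℕ) (σ : Fin (p + 1) → ι) (g : E →₀ R),
      (∃ x, Φ p σ x = g) ↔ ∀ e ∈ g.support, Adm (Set.range σ) e

variable {P U Adm Φ}

lemma cons_comp_succAbove_succ {p : ℕ} (j : ι) (σ : Fin (p + 2) → ι) (k : Fin (p + 2)) :
    (Fin.cons j σ : Fin (p + 3) → ι) ∘ (Fin.succAbove k.succ) =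
      (Fin.cons j (σ ∘ Fin.succAbove k) : Fin (p + 2) → ι) := by
  funext i
  refine Fin.cases ?_ (fun i' => ?_) i
  · simp
  · simp

lemma cons_comp_succAbove_zero {p : ℕ} (j : ι) (σ : Fin (p + 1) → ι) :
    (Fin.cons j σ : Fin (p + 2) → ι) ∘ (Fin.succAbove 0) = σ := by
  funext i
  simp

lemma apply_D (h : IsMono P U Adm Φ) (p : ℕ) (β : Coch P U p) (σ : Fin (p + 2) → ι) (e : E) :
    Φ (p + 1) σ (D P U p β σ) e =
      ∑ k : Fin (p + 2), (-1 : ℤ) ^ (k : ℕ) • Φ p (σ ∘ k.succAbove) (β (σ ∘ k.succAbove)) e := by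
  rw [D_apply, map_sum, Finsupp.finset_sum_apply]
  refine Finset.sum_congr rfl fun k _ => ?_
  rw [map_zsmul, Finsupp.smul_apply, h.hres]

theorem exact_succ [Fintype ι] (h : IsMono P U Adm Φ) (p : ℕ) (J : E → Option ι)
    (hJ1 : ∀ e j, J e = some j → ∀ s : Set ι, Adm (insert j s) e → Adm s e)
    (hJ2 : ∀ e, J e = none → ∀ σ : Fin (p + 2) → ι, ¬ Adm (Set.range σ) e)
    (α : Coch P U (p + 1)) (hα : D P U (p + 1) α = 0) : ∃ β : Coch P U p, D P U p β = α := by
  classical
  -- the coordinates of the contraction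
  let g : (Fin (p + 1) → ι) → (E →₀ R) := fun τ =>
    ∑ j : ι, (Φ (p + 1) (Fin.cons j τ) (α (Fin.cons j τ))).filter (fun e => J e = some j)
  have g_apply : ∀ τ e, g τ e = match J e with
      | some j => Φ (p + 1) (Fin.cons j τ) (α (Fin.cons j τ)) e
      | none => 0 := by
    intro τ e
    show (∑ j : ι, (Φ (p + 1) (Fin.cons j τ) (α (Fin.cons j τ))).filter
      (fun e => J e = some j)) e = _
    rw [Finsupp.finset_sum_apply]
    rcases hJe : J e with _ | j
    · apply Finset.sum_eq_zero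
      intro j _
      rw [Finsupp.filter_apply, if_neg]
      rw [hJe]; simp
    · rw [Finset.sum_eq_single j]
      · rw [Finsupp.filter_apply, if_pos hJe]
      · intro j' _ hj'
        rw [Finsupp.filter_apply, if_neg]
        rw [hJe]
        intro h1
        exact hj' (Option.some.inj h1).symm
      · intro h1
        exact absurd (Finset.mem_univ j) h1
  have hg : ∀ τ, ∃ x, Φ p τ x = g τ := by
    intro τ
    rw [h.hrange]
    intro e he
    rw [Finsupp.mem_support_iff, g_apply] at he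
    rcases hJe : J e with _ | j
    · rw [hJe] at he
      exact absurd rfl he
    · rw [hJe] at he
      have h1 : e ∈ (Φ (p + 1) (Fin.cons j τ) (α (Fin.cons j τ))).support :=
        Finsupp.mem_support_iff.mpr he
      have h2 := (h.hrange (p + 1) (Fin.cons j τ) _).mp ⟨_, rfl⟩ e h1
      rw [Fin.range_cons] at h2
      exact hJ1 e j hJe _ h2
  choose β hβ using hg
  refine ⟨β, ?_⟩
  funext σ
  apply h.hinj (p + 1) σ
  ext e
  rw [apply_D h]
  simp only [hβ]
  rcases hJe : J e with _ | j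
  · have h1 : Φ (p + 1) σ (α σ) e = 0 := by
      by_contra hne
      exact hJ2 e hJe σ ((h.hrange (p + 1) σ _).mp ⟨_, rfl⟩ e (Finsupp.mem_support_iff.mpr hne))
    rw [h1]
    apply Finset.sum_eq_zero
    intro k _
    rw [g_apply, hJe, smul_zero]
  · -- use the cocycle condition at `cons j σ`
    have h0 : Φ (p + 2) (Fin.cons j σ) (D P U (p + 1) α (Fin.cons j σ)) e = 0 := by
      rw [hα]
      show Φ (p + 2) (Fin.cons j σ) 0 e = 0
      rw [map_zero]; rfl
    rw [apply_D h, Fin.sum_univ_succ] at h0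
    let F : (Fin (p + 2) → ι) → R := fun τ => Φ (p + 1) τ (α τ) e
    have hF0 : Φ (p + 1) ((Fin.cons j σ : Fin (p + 3) → ι) ∘ Fin.succAbove 0)
        (α ((Fin.cons j σ : Fin (p + 3) → ι) ∘ Fin.succAbove 0)) e = F σ :=
      congrArg F (cons_comp_succAbove_zero j σ)
    have hFs : ∀ k : Fin (p + 2),
        Φ (p + 1) ((Fin.cons j σ : Fin (p + 3) → ι) ∘ Fin.succAbove k.succ)
          (α ((Fin.cons j σ : Fin (p + 3) → ι) ∘ Fin.succAbove k.succ)) e =
        F (Fin.cons j (σ ∘ Fin.succAbove k)) :=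
      fun k => congrArg F (cons_comp_succAbove_succ j σ k)
    rw [hF0] at h0
    simp only [hFs] at h0
    have h1 : ∀ k : Fin (p + 2), g (σ ∘ Fin.succAbove k) e = F (Fin.cons j (σ ∘ Fin.succAbove k)) := by
      intro k
      rw [g_apply, hJe]
    simp only [h1]
    have h2 : ∀ k : Fin (p + 2), (-1 : ℤ) ^ ((k.succ : Fin (p + 3)) : ℕ) •
        F (Fin.cons j (σ ∘ Fin.succAbove k)) =
        - ((-1 : ℤ) ^ (k : ℕ) • F (Fin.cons j (σ ∘ Fin.succAbove k))) := by
      intro k
      rw [Fin.val_succ, pow_succ, mul_neg_one, neg_smul]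
    simp only [h2, Fin.val_zero, pow_zero, one_smul, Finset.sum_neg_distrib] at h0
    show _ = F σ
    exact (add_neg_eq_zero.mp h0).symm

theorem inj_zero (h : IsMono P U Adm Φ) (hE : ∀ e, ∃ j : ι, ¬ Adm {j} e)
    (α : Coch P U 0) (hα : D P U 0 α = 0) : α = 0 := by
  funext τ
  apply h.hinj 0 τ
  show Φ 0 τ (α τ) = Φ 0 τ 0
  rw [map_zero]
  ext e
  obtain ⟨j, hj⟩ := hE e
  let F : (Fin 1 → ι) → R := fun τ => Φ 0 τ (α τ) e
  let σ : Fin 2 → ι := Fin.cons j τ
  have h0 : Φ 1 σ (D P U 0 α σ) e = 0 := by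
    rw [hα]
    show Φ 1 σ 0 e = 0
    rw [map_zero]; rfl
  rw [apply_D h, Fin.sum_univ_two] at h0
  have e0 : σ ∘ Fin.succAbove 0 = τ := cons_comp_succAbove_zero j τ
  have e1 : σ ∘ Fin.succAbove 1 = fun _ => j := by
    funext i
    have : i = 0 := Subsingleton.elim _ _
    subst this
    rfl
  have hF0 : Φ 0 (σ ∘ Fin.succAbove 0) (α (σ ∘ Fin.succAbove 0)) e = F τ := congrArg F e0
  have hF1 : Φ 0 (σ ∘ Fin.succAbove 1) (α (σ ∘ Fin.succAbove 1)) e = F (fun _ => j) :=
    congrArg F e1
  rw [hF0, hF1] at h0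
  have h2 : F (fun _ => j) = 0 := by
    by_contra hne
    have h3 := (h.hrange 0 (fun _ => j) _).mp ⟨_, rfl⟩ e (Finsupp.mem_support_iff.mpr hne)
    rw [Set.range_const] at h3
    exact hj h3
  rw [h2] at h0
  simpa using h0

/-- vanishing of Čech cohomology in degree zero, concretely -/
theorem isZero_cechH_zero (hinj : ∀ α : Coch P U 0, D P U 0 α = 0 → α = 0) :
    IsZero (CohTop.cechH P U 0) := by
  have e1 : IsZero (CohTop.cechH P U 0) ↔ ((cechComplexFunctor U).obj P).ExactAt 0 :=
    (HomologicalComplex.exactAt_iff_isZero_homology _ _).symm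
  rw [e1, HomologicalComplex.exactAt_iff' _ 0 0 1 (by simp) (by simp), ShortComplex.ab_exact_iff]
  intro x hx
  have hα : D P U 0 (cmp P U 0 x) = 0 := by
    rw [← cmp_d]
    have : (((cechComplexFunctor U).obj P).d 0 1).hom x = 0 := hx
    rw [this, map_zero]
  have h1 := hinj _ hα
  have h2 : x = 0 := by
    apply (cmp P U 0).injective
    rw [h1]
    exact (map_zero (cmp P U 0)).symm
  exact ⟨0, by rw [h2]; exact map_zero _⟩

end Groth.Agent.CechMono
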