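import Mathlib

/-!
# Laurent coefficients of fractions `b / X^m` of multivariate polynomials (helper9)

For a polynomial `b` and an exponent `m`, `lco b m e` is the coefficient of the Laurent monomial `X^e`
(`e : I → ℤ`) in the fraction `b / X^m`.  Elementary, coefficientwise treatment (no Laurent ring).
-/

set_option autoImplicit false
universe u
open MvPolynomial

namespace Groth.Agent.LaurentCoef

variable {I : Type*} [Fintype I] {R : Type*} [CommRing R]

/-- pointwise `toNat`, as a finsupp -/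
noncomputable def toNatFs (g : I → ℤ) : I →₀ ℕ :=
  Finsupp.equivFunOnFinite.symm (fun i => (g i).toNat)

@[simp] lemma toNatFs_apply (g : I → ℤ) (i : I) : toNatFs g i = (g i).toNat := rfl

open Classical in
/-- the coefficient at the Laurent monomial `X^e` of the fraction `b / X^m`. -/
noncomputable def lco (b : MvPolynomial I R) (m : I →₀ ℕ) (e : I → ℤ) : R :=
  if ∀ i, 0 ≤ e i + m i then coeff (toNatFs (fun i => e i + m i)) b else 0

lemma lco_pos (b : MvPolynomial I R) (m : I →₀ ℕ) (e : I → ℤ) (h : ∀ i, 0 ≤ e i + m i) :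
    lco b m e = coeff (toNatFs (fun i => e i + m i)) b := by
  unfold lco; rw [if_pos h]

lemma lco_neg (b : MvPolynomial I R) (m : I →₀ ℕ) (e : I → ℤ) (h : ¬ ∀ i, 0 ≤ e i + m i) :
    lco b m e = 0 := by
  unfold lco; rw [if_neg h]

lemma lco_add (b b' : MvPolynomial I R) (m : I →₀ ℕ) (e : I → ℤ) :
    lco (b + b') m e = lco b m e + lco b' m e := by
  by_cases h : ∀ i, 0 ≤ e i + m i
  · rw [lco_pos _ _ _ h, lco_pos _ _ _ h, lco_pos _ _ _ h, coeff_add]
  · rw [lco_neg _ _ _ h, lco_neg _ _ _ h, lco_neg _ _ _ h, add_zero]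

lemma lco_zero (m : I →₀ ℕ) (e : I → ℤ) : lco (0 : MvPolynomial I R) m e = 0 := by
  by_cases h : ∀ i, 0 ≤ e i + m i
  · rw [lco_pos _ _ _ h, coeff_zero]
  · rw [lco_neg _ _ _ h]

lemma lco_smul (r : R) (b : MvPolynomial I R) (m : I →₀ ℕ) (e : I → ℤ) :
    lco (r • b) m e = r * lco b m e := by
  by_cases h : ∀ i, 0 ≤ e i + m i
  · rw [lco_pos _ _ _ h, lco_pos _ _ _ h, coeff_smul, smul_eq_mul]
  · rw [lco_neg _ _ _ h, lco_neg _ _ _ h, mul_zero]

lemma lco_sum {κ : Type*} (s : Finset κ) (f : κ → MvPolynomial I R) (m : I →₀ ℕ) (e : I → ℤ) :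
    lco (∑ k ∈ s, f k) m e = ∑ k ∈ s, lco (f k) m e := by
  classical
  induction s using Finset.induction_on with
  | empty => simp [lco_zero]
  | insert a s ha ih => rw [Finset.sum_insert ha, Finset.sum_insert ha, lco_add, ih]

/-- shift invariance -/
lemma lco_mul_monomial (b : MvPolynomial I R) (m m' : I →₀ ℕ) (e : I → ℤ) :
    lco (b * monomial m' 1) (m + m') e = lco b m e := by
  by_cases h : ∀ i, 0 ≤ e i + m i
  · have h' : ∀ i, 0 ≤ e i + ((m + m') i : ℕ) := fun i => by
      have := h i
      rw [Finsupp.add_apply]; push_cast; omega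
    rw [lco_pos _ _ _ h, lco_pos _ _ _ h']
    have e1 : toNatFs (fun i => e i + ((m + m') i : ℕ)) = toNatFs (fun i => e i + m i) + m' := by
      ext i
      have := h i
      rw [Finsupp.add_apply, toNatFs_apply, toNatFs_apply, Finsupp.add_apply]
      push_cast; omega
    rw [e1, coeff_mul_monomial, mul_one]
  · rw [lco_neg _ _ _ h]
    by_cases h' : ∀ i, 0 ≤ e i + ((m + m') i : ℕ)
    · rw [lco_pos _ _ _ h', coeff_mul_monomial', if_neg]
      intro hle
      push Not at h
      obtain ⟨i, hi⟩ := h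
      have h1 := hle i
      have h2 := h' i
      rw [toNatFs_apply, Finsupp.add_apply] at h1
      rw [Finsupp.add_apply] at h2
      push_cast at h1 h2
      omega
    · rw [lco_neg _ _ _ h']

lemma lco_eq_of_mul_eq {b b' : MvPolynomial I R} {m m' : I →₀ ℕ}
    (h : b * monomial m' 1 = b' * monomial m 1) : lco b m = lco b' m' := by
  funext e
  rw [← lco_mul_monomial b m m' e, h, add_comm, lco_mul_monomial]

lemma eq_zero_of_lco_eq_zero {b : MvPolynomial I R} {m : I →₀ ℕ} (h : ∀ e, lco b m e = 0) :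
    b = 0 := by
  ext a
  have h1 := h (fun i => (a i : ℤ) - m i)
  rw [lco_pos _ _ _ (by intro i; simp)] at h1
  have e1 : toNatFs (fun i => (a i : ℤ) - m i + m i) = a := by
    ext i; simp
  rw [e1] at h1
  rw [h1, coeff_zero]

/-- monomials are regular -/
lemma eq_zero_of_mul_monomial_eq_zero {w : MvPolynomial I R} {m : I →₀ ℕ}
    (h : w * monomial m 1 = 0) : w = 0 := by
  apply eq_zero_of_lco_eq_zero (m := 0)
  intro e
  rw [← lco_mul_monomial w 0 m e, h, lco_zero]

lemma nonneg_of_lco_ne_zero {b : MvPolynomial I R} {m : I →₀ ℕ} {e : I → ℤ}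
    (h : lco b m e ≠ 0) : ∀ i, 0 ≤ e i + m i := by
  by_contra hc
  exact h (lco_neg _ _ _ hc)

lemma sum_eq_of_lco_ne_zero {b : MvPolynomial I R} {D : ℕ} (hb : b.IsHomogeneous D)
    {m : I →₀ ℕ} {e : I → ℤ} (h : lco b m e ≠ 0) :
    ∑ i, e i = (D : ℤ) - ∑ i, (m i : ℤ) := by
  have h0 := nonneg_of_lco_ne_zero h
  rw [lco_pos _ _ _ h0] at h
  have h1 : (toNatFs (fun i => e i + m i)).degree = D := by
    by_contra hne
    exact h (hb.coeff_eq_zero hne)
  rw [Finsupp.degree_eq_sum] at h1
  have h2 : ((∑ i, (toNatFs (fun i => e i + m i)) i : ℕ) : ℤ) = ∑ i, (e i + m i) := by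
    push_cast
    refine Finset.sum_congr rfl fun i _ => ?_
    rw [toNatFs_apply]
    exact Int.toNat_of_nonneg (h0 i)
  rw [h1, Finset.sum_add_distrib] at h2
  omega

lemma finite_lco_support (b : MvPolynomial I R) (m : I →₀ ℕ) :
    (Function.support (lco b m)).Finite := by
  classical
  apply Set.Finite.subset
    ((b.support.image (fun a : I →₀ ℕ => fun i => (a i : ℤ) - m i)).finite_toSet)
  intro e he
  have h0 := nonneg_of_lco_ne_zero he
  have he' := he
  rw [Function.mem_support, lco_pos _ _ _ h0] at he'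
  rw [Finset.mem_coe, Finset.mem_image]
  refine ⟨toNatFs (fun i => e i + m i), mem_support_iff.mpr he', ?_⟩
  funext i
  rw [toNatFs_apply, Int.toNat_of_nonneg (h0 i)]
  ring

/-- the finitely supported function of Laurent coefficients -/
noncomputable def Lco (b : MvPolynomial I R) (m : I →₀ ℕ) : (I → ℤ) →₀ R :=
  Finsupp.ofSupportFinite (lco b m) (finite_lco_support b m)

@[simp] lemma Lco_apply (b : MvPolynomial I R) (m : I →₀ ℕ) (e : I → ℤ) :
    Lco b m e = lco b m e := rfl

lemma lco_monomial (a : I →₀ ℕ) (r : R) (m : I →₀ ℕ) (e : I → ℤ) :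
    lco (monomial a r) m e = if e = (fun i => (a i : ℤ) - m i) then r else 0 := by
  classical
  by_cases h : ∀ i, 0 ≤ e i + m i
  · rw [lco_pos _ _ _ h, coeff_monomial]
    by_cases h1 : e = fun i => (a i : ℤ) - m i
    · rw [if_pos h1, if_pos]
      ext i
      rw [toNatFs_apply, h1]
      simp
    · rw [if_neg h1, if_neg]
      intro h2
      apply h1
      funext i
      have h3 := congrArg (fun f => (f i : ℤ)) h2
      simp only [toNatFs_apply] at h3
      rw [Int.toNat_of_nonneg (h i)] at h3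
      omega
  · rw [lco_neg _ _ _ h, if_neg]
    intro h1
    apply h
    intro i
    rw [h1]
    show (0 : ℤ) ≤ ((a i : ℤ) - m i) + m i
    have : (0 : ℤ) ≤ (a i : ℤ) := Int.natCast_nonneg _
    omega

/-- every finitely supported family of Laurent coefficients with admissible exponents comes from
a homogeneous polynomial -/
lemma exists_lco_eq (g : (I → ℤ) →₀ R) (m : I →₀ ℕ) (D : ℕ)
    (h0 : ∀ e ∈ g.support, ∀ i, 0 ≤ e i + m i)
    (hD : ∀ e ∈ g.support, ∑ i, e i = (D : ℤ) - ∑ i, (m i : ℤ)) :
    ∃ b : MvPolynomial I R, b.IsHomogeneous D ∧ ∀ e, lco b m e = g e := by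
  classical
  refine ⟨∑ e ∈ g.support, monomial (toNatFs (fun i => e i + m i)) (g e), ?_, ?_⟩
  · apply IsHomogeneous.sum
    intro e he
    apply isHomogeneous_monomial
    rw [Finsupp.degree_eq_sum]
    have h2 : ((∑ i, (toNatFs (fun i => e i + m i)) i : ℕ) : ℤ) = ∑ i, (e i + m i) := by
      push_cast
      refine Finset.sum_congr rfl fun i _ => ?_
      rw [toNatFs_apply]
      exact Int.toNat_of_nonneg (h0 e he i)
    rw [Finset.sum_add_distrib, hD e he] at h2
    omega
  · intro e'
    rw [lco_sum]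
    have key : ∀ e ∈ g.support, lco (monomial (toNatFs (fun i => e i + m i)) (g e)) m e' =
        if e' = e then g e else 0 := by
      intro e he
      rw [lco_monomial]
      have e1 : (fun i => ((toNatFs (fun i => e i + m i)) i : ℤ) - m i) = e := by
        funext i
        rw [toNatFs_apply, Int.toNat_of_nonneg (h0 e he i)]
        ring
      rw [e1]
    rw [Finset.sum_congr rfl key, Finset.sum_ite_eq]
    split_ifs with h
    · rfl
    · exact (Finsupp.notMem_support_iff.mp h).symm

end Groth.Agent.LaurentCoef
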