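import Mathlib
import Groth.Prelude.Def_GrMod2

/-!
# Annihilators of homogeneous elements of graded modules; vanishing on `D_+(f)` (helper1)
-/

namespace Groth.Agent.Lib.GrAnnH1

universe u

section
variable {R A : Type u} [CommRing R] [CommRing A] [Algebra R A] (𝒜 : ℕ → Submodule R A) [GradedAlgebra 𝒜]
    {M : Type u} [AddCommGroup M] [Module R M] [Module A M] [IsScalarTower R A M] (ℳ : ℕ → Submodule R M) [DirectSum.Decomposition ℳ] [SetLike.GradedSMul 𝒜 ℳ]

theorem proj_smul (m : M) (i : ℕ) (hm : m ∈ ℳ i) (j : ℕ) (r : A) :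
    ((DirectSum.decompose 𝒜 r j : A)) • m = (DirectSum.decompose ℳ (r • m) (j + i) : M) := by
  induction r using DirectSum.Decomposition.inductionOn 𝒜 with
  | zero => simp
  | @homogeneous l r' =>
    have hmem : (r' : A) • m ∈ ℳ (l + i) := by
      have := SetLike.GradedSMul.smul_mem (A := 𝒜) (B := ℳ) r'.2 hm
      simpa [vadd_eq_add] using this
    by_cases hl : l = j
    · subst hl
      rw [DirectSum.decompose_of_mem_same 𝒜 r'.2, DirectSum.decompose_of_mem_same ℳ hmem]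
    · rw [DirectSum.decompose_of_mem_ne 𝒜 r'.2 hl, zero_smul,
        DirectSum.decompose_of_mem_ne ℳ hmem (by omega)]
  | add a b ha hb =>
    simp only [DirectSum.decompose_add, DirectSum.add_apply, Submodule.coe_add, add_smul, ha, hb]

theorem ann_homogeneous (m : M) (i : ℕ) (hm : m ∈ ℳ i) :
    ((Submodule.span A {m}).annihilator).IsHomogeneous 𝒜 := by
  intro j r hr
  rw [Submodule.mem_annihilator_span_singleton] at hr ⊢
  rw [proj_smul 𝒜 ℳ m i hm, hr]
  simp

theorem pow_smul_eq_zero {d : ℕ} (hd : 0 < d) {f : A} (hf : f ∈ 𝒜 d) (k i : ℕ) (m : ℳ i)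
    (h : ∀ x : ProjectiveSpectrum.basicOpen 𝒜 f,
      (LocalizedModule.mk m.1 ⟨f ^ k, fun h => (ProjectiveSpectrum.mem_basicOpen 𝒜 f x.1).mp x.2
        (x.1.isPrime.mem_of_pow_mem k h)⟩ : GrTilde.LocMod 𝒜 (M := M) x.1) = 0) :
    ∃ N : ℕ, f ^ N • m.1 = 0 := by
  classical
  by_contra hcon
  push Not at hcon
  have hI := ann_homogeneous 𝒜 ℳ m.1 i m.2
  have hfrad : f ∉ ((Submodule.span A {m.1}).annihilator).radical := by
    rintro ⟨N, hN⟩
    rw [Submodule.mem_annihilator_span_singleton] at hN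
    exact hcon N hN
  rw [hI.radical_eq, Ideal.mem_sInf] at hfrad
  push Not at hfrad
  obtain ⟨P, ⟨hPh, hIP, hPp⟩, hfP⟩ := hfrad
  have hfirr : f ∈ HomogeneousIdeal.irrelevant 𝒜 := by
    rw [HomogeneousIdeal.mem_irrelevant_iff]
    show ((DirectSum.decompose 𝒜 f 0 : 𝒜 0) : A) = 0
    exact DirectSum.decompose_of_mem_ne 𝒜 hf (by omega)
  let x : ProjectiveSpectrum 𝒜 := ⟨⟨P, hPh⟩, hPp, fun hle => hfP (hle hfirr)⟩
  have hx : x ∈ ProjectiveSpectrum.basicOpen 𝒜 f := hfP
  have h0 := h ⟨x, hx⟩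
  rw [← LocalizedModule.zero_mk (1 : x.asHomogeneousIdeal.toIdeal.primeCompl),
    LocalizedModule.mk_eq] at h0
  obtain ⟨u, hu⟩ := h0
  simp only [smul_zero, one_smul] at hu
  have huI : (u : A) ∈ (Submodule.span A {m.1}).annihilator := by
    rw [Submodule.mem_annihilator_span_singleton]
    exact hu
  exact u.2 (hIP huI)

end

end Groth.Agent.Lib.GrAnnH1
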