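import Mathlib
import Groth.Prelude.Def_GrMod2
import Groth.Agent.Lib.ProjSect_helper1

/-!
# Vanishing of `M~` on `Proj` (helper1)
-/

namespace Groth.Agent.Lib.TildeZeroH1

universe u

open CategoryTheory CategoryTheory.Limits AlgebraicGeometry TopologicalSpace Opposite DirectSum

section
variable {R A : Type u} [CommRing R] [CommRing A] [Algebra R A] (𝒜 : ℕ → Submodule R A) [GradedAlgebra 𝒜]
    {M : Type u} [AddCommGroup M] [Module R M] [Module A M] [IsScalarTower R A M] (ℳ : ℕ → Submodule R M) [DirectSum.Decomposition ℳ] [SetLike.GradedSMul 𝒜 ℳ]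

omit [IsScalarTower R A M] [DirectSum.Decomposition ℳ] in
theorem tilde_isZero (n : ℤ)
    (h : ∀ x : ProjectiveSpectrum 𝒜, Subsingleton (GrTilde.LocMod 𝒜 (M := M) x)) :
    IsZero (GrTilde.tilde 𝒜 ℳ n) := by
  rw [IsZero.iff_id_eq_zero]
  apply SheafOfModules.hom_ext
  apply PresheafOfModules.hom_ext
  intro U
  apply ModuleCat.hom_ext
  apply LinearMap.ext
  intro σ
  have : ∀ σ τ : GrTilde.sect 𝒜 ℳ n U, σ = τ := by
    intro σ τ
    apply Subtype.ext
    funext x
    apply Subtype.ext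
    exact (h x.1).elim _ _
  exact this _ _

omit [IsScalarTower R A M] [DirectSum.Decomposition ℳ] in
theorem sect_eq_zero_of_isZero (n : ℤ) (hz : IsZero (GrTilde.tilde 𝒜 ℳ n))
    (U : (Opens (ProjectiveSpectrum.top 𝒜))ᵒᵖ) (σ : GrTilde.sect 𝒜 ℳ n U) : σ = 0 := by
  have h1 := (IsZero.iff_id_eq_zero _).mp hz
  have h2 := congrArg (fun φ => (φ.val.app U).hom) h1
  exact LinearMap.congr_fun h2 σ

/-- the degree `q` projection as an additive map -/
def projHom (q : ℕ) : M →+ M where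
  toFun z := (DirectSum.decompose ℳ z q : M)
  map_zero' := by simp
  map_add' a b := by simp [DirectSum.decompose_add]

theorem exists_pos_homog_notMem (x : ProjectiveSpectrum 𝒜) :
    ∃ (d : ℕ) (g : A), 0 < d ∧ g ∈ 𝒜 d ∧ g ∉ x.asHomogeneousIdeal := by
  have h := x.not_irrelevant_le
  rw [SetLike.not_le_iff_exists] at h
  obtain ⟨a, hairr, hax⟩ := h
  obtain ⟨l, hl⟩ : ∃ l, (DirectSum.decompose 𝒜 a l : A) ∉ x.asHomogeneousIdeal := by
    by_contra hcon
    push Not at hcon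
    exact hax ((x.asHomogeneousIdeal.isHomogeneous.mem_iff).mpr hcon)
  refine ⟨l, _, ?_, (DirectSum.decompose 𝒜 a l).2, hl⟩
  by_contra h0
  have hl0 : l = 0 := by omega
  subst hl0
  rw [HomogeneousIdeal.mem_irrelevant_iff] at hairr
  apply hl
  have h2 : (DirectSum.decompose 𝒜 a 0 : A) = 0 := hairr
  rw [h2]
  exact zero_mem _

theorem tilde_isZero_of_nilp
    (h : ∀ (z : M) (d : ℕ) (f : A), 0 < d → f ∈ 𝒜 d → ∃ k : ℕ, f ^ k • z = 0) :
    IsZero (GrTilde.tilde 𝒜 ℳ 0) := by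
  apply tilde_isZero
  intro x
  obtain ⟨d, g, hd, hg, hgx⟩ := exists_pos_homog_notMem 𝒜 x
  have h0 : ∀ a : GrTilde.LocMod 𝒜 (M := M) x, a = 0 := by
    intro a
    induction a using LocalizedModule.induction_on with
    | h z s =>
      obtain ⟨k, hk⟩ := h z d g hd hg
      rw [← LocalizedModule.zero_mk s, LocalizedModule.mk_eq]
      refine ⟨⟨g ^ k, fun hmem => hgx (x.isPrime.mem_of_pow_mem k hmem)⟩, ?_⟩
      simp only [smul_zero]
      show g ^ k • ((s : A) • z) = 0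
      rw [smul_comm, hk, smul_zero]
  exact ⟨fun a b => by rw [h0 a, h0 b]⟩

omit [IsScalarTower R A M] [DirectSum.Decomposition ℳ] [SetLike.GradedSMul 𝒜 ℳ] in
theorem mk_mem_tildeAt (n : ℤ) (P : ProjectiveSpectrum 𝒜) (i j : ℕ) (w : M) (hw : w ∈ ℳ i) (t : A)
    (ht : t ∈ 𝒜 j) (hij : (i : ℤ) = j + n) (hg : t ∉ P.asHomogeneousIdeal) :
    (LocalizedModule.mk w ⟨t, hg⟩ : GrTilde.LocMod 𝒜 (M := M) P) ∈ GrTilde.tildeAt 𝒜 ℳ n P := by
  unfold GrTilde.tildeAt
  exact Submodule.subset_span ⟨i, j, ⟨w, hw⟩, ⟨t, ht⟩, hg, hij, rfl⟩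

theorem nilp_of_tilde_isZero
    (hgen : (HomogeneousIdeal.irrelevant 𝒜).toIdeal = Ideal.span (𝒜 1 : Set A))
    (h : IsZero (GrTilde.tilde 𝒜 ℳ 0)) (z : M) (d : ℕ) (f : A) (hd : 0 < d) (hf : f ∈ 𝒜 d) :
    ∃ k : ℕ, f ^ k • z = 0 := by
  have hhom : ∀ (i : ℕ) (w : M), w ∈ ℳ i → ∃ k, f ^ k • w = 0 := by
    intro i w hw
    apply ProjSectH1.pow_smul_eq_zero' 𝒜 ℳ hd hf i w hw
    intro P hP
    obtain ⟨g, hg1, hgP⟩ : ∃ g ∈ 𝒜 1, g ∉ P.asHomogeneousIdeal := by
      by_contra hcon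
      push Not at hcon
      apply P.not_irrelevant_le
      intro a ha
      have ha' : a ∈ (HomogeneousIdeal.irrelevant 𝒜).toIdeal := ha
      rw [hgen] at ha'
      exact (Ideal.span_le.mpr (fun b hb => hcon b hb)) ha'
    have hgi : g ^ i ∈ 𝒜 i := by simpa using SetLike.pow_mem_graded i hg1
    let σ : GrTilde.sect 𝒜 ℳ 0 (op (ProjectiveSpectrum.basicOpen 𝒜 g)) :=
      ⟨fun P' => ⟨LocalizedModule.mk w ⟨g ^ i, fun hmem => P'.2 (P'.1.isPrime.mem_of_pow_mem i hmem)⟩,
        mk_mem_tildeAt 𝒜 ℳ 0 P'.1 i i w hw (g ^ i) hgi (by simp) _⟩,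
       fun P' => ⟨ProjectiveSpectrum.basicOpen 𝒜 g, P'.2, 𝟙 _, i, i, ⟨w, hw⟩, ⟨g ^ i, hgi⟩,
        fun y hmem => y.2 (y.1.isPrime.mem_of_pow_mem i hmem), Or.inl (by simp), fun _ => rfl⟩⟩
    have hσ := sect_eq_zero_of_isZero 𝒜 ℳ 0 h _ σ
    have hval : ((σ.1 ⟨P, hgP⟩ : GrTilde.tildeAt 𝒜 ℳ 0 P) : GrTilde.LocMod 𝒜 (M := M) P) = 0 := by
      rw [hσ]
      rfl
    change LocalizedModule.mk w _ = 0 at hval
    rw [← LocalizedModule.zero_mk (1 : P.asHomogeneousIdeal.toIdeal.primeCompl),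
      LocalizedModule.mk_eq] at hval
    obtain ⟨u, hu⟩ := hval
    refine ⟨u.1, u.2, ?_⟩
    simp only [smul_zero, one_smul] at hu
    exact hu
  induction z using DirectSum.Decomposition.inductionOn ℳ with
  | zero => exact ⟨0, by simp⟩
  | homogeneous w => exact hhom _ w.1 w.2
  | add a b ha hb =>
    obtain ⟨k1, h1⟩ := ha
    obtain ⟨k2, h2⟩ := hb
    refine ⟨k1 + k2, ?_⟩
    have ea : f ^ (k1 + k2) • a = 0 := by rw [add_comm, pow_add, mul_smul, h1, smul_zero]
    have eb : f ^ (k1 + k2) • b = 0 := by rw [pow_add, mul_smul, h2, smul_zero]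
    rw [smul_add, ea, eb, add_zero]

theorem mem_irrelevant_of_mem_one {g : A} (hg : g ∈ 𝒜 1) :
    g ∈ (HomogeneousIdeal.irrelevant 𝒜).toIdeal := by
  show g ∈ HomogeneousIdeal.irrelevant 𝒜
  rw [HomogeneousIdeal.mem_irrelevant_iff]
  exact DirectSum.decompose_of_mem_ne 𝒜 hg (by omega)

theorem mem_irrelevant_pow
    (hgen : (HomogeneousIdeal.irrelevant 𝒜).toIdeal = Ideal.span (𝒜 1 : Set A)) :
    ∀ e : ℕ, ∀ a ∈ 𝒜 e, a ∈ (HomogeneousIdeal.irrelevant 𝒜).toIdeal ^ e := by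
  classical
  intro e
  induction e with
  | zero => intro a _; simp
  | succ e ih =>
    intro a ha
    have hairr : a ∈ (HomogeneousIdeal.irrelevant 𝒜).toIdeal := by
      show a ∈ HomogeneousIdeal.irrelevant 𝒜
      rw [HomogeneousIdeal.mem_irrelevant_iff]
      exact DirectSum.decompose_of_mem_ne 𝒜 ha (by omega)
    rw [hgen] at hairr
    obtain ⟨N, c, g, hsum⟩ := Submodule.mem_span_set'.mp hairr
    have h1 : a = ∑ i, (DirectSum.decompose 𝒜 (c i) e : A) * (g i : A) := by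
      have h2 := congrArg (projHom 𝒜 (e + 1)) hsum
      rw [map_sum] at h2
      have h3 : projHom 𝒜 (e + 1) a = a := DirectSum.decompose_of_mem_same 𝒜 ha
      rw [h3] at h2
      rw [← h2]
      refine Finset.sum_congr rfl fun i _ => ?_
      show (DirectSum.decompose 𝒜 (c i • (g i : A)) (e + 1) : A) = _
      rw [smul_eq_mul, DirectSum.coe_decompose_mul_of_right_mem 𝒜 (e + 1) (g i).2,
        if_pos (by omega)]
      simp
    rw [h1]
    refine Ideal.sum_mem _ fun i _ => ?_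
    rw [pow_succ]
    exact Ideal.mul_mem_mul (ih _ (DirectSum.decompose 𝒜 (c i) e).2)
      (mem_irrelevant_of_mem_one 𝒜 (g i).2)

theorem tilde_isZero_iff_TN
    (hfg : (HomogeneousIdeal.irrelevant 𝒜).toIdeal.FG)
    (hgen : (HomogeneousIdeal.irrelevant 𝒜).toIdeal = Ideal.span (𝒜 1 : Set A))
    (hTF : ∃ n : ℕ, (Submodule.span A (⋃ k ∈ Set.Ici n, (ℳ k : Set M))).FG) :
    IsZero (GrTilde.tilde 𝒜 ℳ 0) ↔ ∃ n : ℕ, ∀ k : ℕ, n ≤ k → ℳ k = ⊥ := by
  classical
  constructor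
  · intro hz
    have hnil := fun z d f hd hf => nilp_of_tilde_isZero 𝒜 ℳ hgen hz z d f hd hf
    obtain ⟨n₀, hfgM⟩ := hTF
    obtain ⟨T, hTsub, hTspan⟩ := (Submodule.fg_span_iff_fg_span_finset_subset _).mp hfgM
    have hTdeg : ∀ t ∈ T, ∃ δ, n₀ ≤ δ ∧ t ∈ ℳ δ := by
      intro t ht
      have := hTsub ht
      simp only [Set.mem_iUnion, Set.mem_Ici, SetLike.mem_coe, exists_prop] at this
      exact this
    choose! δ hδ1 hδ2 using hTdeg
    have hrad : (HomogeneousIdeal.irrelevant 𝒜).toIdeal ≤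
        ((Submodule.span A (T : Set M)).annihilator).radical := by
      rw [hgen]
      refine Ideal.span_le.mpr ?_
      intro g hg
      have hex : ∀ t ∈ T, ∃ k, g ^ k • t = 0 := fun t _ => hnil t 1 g one_pos hg
      choose! kf hkf using hex
      refine ⟨T.sup kf, ?_⟩
      rw [Submodule.mem_annihilator]
      intro m hm
      induction hm using Submodule.span_induction with
      | mem t ht =>
        have hle : kf t ≤ T.sup kf := Finset.le_sup ht
        obtain ⟨q, hq⟩ := Nat.exists_eq_add_of_le hle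
        rw [hq, pow_add, mul_comm, mul_smul, hkf t ht, smul_zero]
      | zero => simp
      | add a b _ _ ha hb => rw [smul_add, ha, hb, add_zero]
      | smul c a _ ha => rw [smul_comm, ha, smul_zero]
    obtain ⟨k, hk⟩ := Ideal.exists_pow_le_of_le_radical_of_fg hrad hfg
    refine ⟨max n₀ (T.sup δ + k), fun q hq => ?_⟩
    rw [eq_bot_iff]
    intro z hz'
    rw [Submodule.mem_bot]
    have hzM' : z ∈ Submodule.span A (⋃ k ∈ Set.Ici n₀, (ℳ k : Set M)) := by
      apply Submodule.subset_span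
      simp only [Set.mem_iUnion, Set.mem_Ici, SetLike.mem_coe, exists_prop]
      exact ⟨q, le_of_max_le_left hq, hz'⟩
    rw [hTspan] at hzM'
    obtain ⟨cf, -, hsum⟩ := Submodule.mem_span_finset.mp hzM'
    have h2 := congrArg (projHom ℳ q) hsum
    rw [map_sum] at h2
    have hzq : projHom ℳ q z = z := DirectSum.decompose_of_mem_same ℳ hz'
    rw [hzq] at h2
    rw [← h2]
    refine Finset.sum_eq_zero fun t ht => ?_
    have hδt : δ t ≤ T.sup δ := Finset.le_sup ht
    have hqt : (q - δ t) + δ t = q := by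
      have := le_of_max_le_right hq
      omega
    have h3 := GrAnnH1.proj_smul 𝒜 ℳ t (δ t) (hδ2 t ht) (q - δ t) (cf t)
    rw [hqt] at h3
    show (DirectSum.decompose ℳ (cf t • t) q : M) = 0
    rw [← h3]
    have hmemk : (DirectSum.decompose 𝒜 (cf t) (q - δ t) : A) ∈
        (Submodule.span A (T : Set M)).annihilator := by
      apply hk
      apply Ideal.pow_le_pow_right (show k ≤ q - δ t by
        have := le_of_max_le_right hq
        omega)
      exact mem_irrelevant_pow 𝒜 hgen _ _ (DirectSum.decompose 𝒜 (cf t) (q - δ t)).2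
    exact (Submodule.mem_annihilator.mp hmemk) t (Submodule.subset_span ht)
  · rintro ⟨N, hN⟩
    apply tilde_isZero_of_nilp
    intro z d f hd hf
    refine ⟨N, ?_⟩
    induction z using DirectSum.Decomposition.inductionOn ℳ with
    | zero => simp
    | @homogeneous l w =>
      have hmem : f ^ N • (w : M) ∈ ℳ (N • d + l) := by
        simpa [vadd_eq_add] using SetLike.GradedSMul.smul_mem (A := 𝒜) (B := ℳ)
          (SetLike.pow_mem_graded N hf) w.2
      have hNd : N ≤ N • d + l := by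
        rw [smul_eq_mul]
        exact (Nat.le_mul_of_pos_right N hd).trans (Nat.le_add_right _ _)
      rw [hN _ hNd] at hmem
      exact (Submodule.mem_bot _).mp hmem
    | add a b ha hb => rw [smul_add, ha, hb, add_zero]

end

end Groth.Agent.Lib.TildeZeroH1
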