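import Mathlib
import Groth.Prelude.Def_GrMod2
import Groth.Agent.Lib.QCohCrit2_helper9
import Groth.Agent.Lib.ProjSect_helper1
import Groth.Agent.Lib.TildeZero_helper1

/-!
# Quasi-coherence of `M(n)~` on `Proj` (helper5)

Sections of the structure sheaf over `D_+(f)` are fractions `g / f^j`; the non-vanishing locus of such
a section is `D_+(f g)`; sections of `M(n)~` over `D_+(f)` localise correctly (`QCohCrit.LocOnU`),
hence `M(n)~` is quasi-coherent.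
-/

set_option autoImplicit false
universe u
open CategoryTheory CategoryTheory.Limits AlgebraicGeometry TopologicalSpace Opposite DirectSum
open HomogeneousLocalization

namespace Groth.Agent.ProjQC

section
variable {R A : Type u} [CommRing R] [CommRing A] [Algebra R A] (𝒜 : ℕ → Submodule R A)
  [GradedAlgebra 𝒜]

/-- Membership of the scheme-theoretic basic open of a section of the structure sheaf of `Proj`,
pointwise. -/
theorem mem_basicOpen_iff (U : (Proj 𝒜).Opens) (a : Γ(Proj 𝒜, U)) (x : Proj 𝒜) (hx : x ∈ U) :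
    x ∈ (Proj 𝒜).basicOpen a ↔ IsUnit ((show Twist.O (𝒜 := 𝒜) (op U) from a).1 ⟨x, hx⟩) := by
  rw [Scheme.mem_basicOpen _ _ _ hx]
  have h := Proj.stalkIso'_germ 𝒜 U x hx a
  rw [← h]
  exact (MulEquiv.isUnit_map (Proj.stalkIso' 𝒜 x)).symm

/-- A fraction `g / t` is a unit of the homogeneous localisation at `x` iff `g ∉ x`. -/
theorem isUnit_iff_of_val (x : ProjectiveSpectrum 𝒜) (c : Twist.A0 𝒜 x) (g t : A)
    (ht : t ∉ x.asHomogeneousIdeal)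
    (hc : c.val = Localization.mk g ⟨t, ht⟩) : IsUnit c ↔ g ∉ x.asHomogeneousIdeal := by
  rw [← HomogeneousLocalization.isUnit_iff_isUnit_val, hc, Localization.mk_eq_mk']
  exact IsLocalization.AtPrime.isUnit_mk'_iff _ _ _ _

/-- Sections of the structure sheaf over `D_+(f)` are fractions `g / f^j`. -/
theorem exists_rep {d : ℕ} (hd : 0 < d) {f : A} (hf : f ∈ 𝒜 d)
    (a : Twist.O (𝒜 := 𝒜) (op (ProjectiveSpectrum.basicOpen 𝒜 f))) :
    ∃ (j : ℕ) (g : A), g ∈ 𝒜 (j * d) ∧ ∀ x : ProjectiveSpectrum.basicOpen 𝒜 f,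
      (a.1 x).val = Localization.mk g ⟨f ^ j, show f ^ j ∈ x.1.asHomogeneousIdeal.toIdeal.primeCompl from
        fun h => x.2 (x.1.isPrime.mem_of_pow_mem j h)⟩ := by
  have hiso : IsIso (Proj.awayToSection 𝒜 f) :=
    (Proj.basicOpenIsoAway 𝒜 f hf hd).isIso_hom
  have hbij := ConcreteCategory.bijective_of_isIso (Proj.awayToSection 𝒜 f)
  obtain ⟨z, hz⟩ := hbij.2 a
  obtain ⟨j, g, hg, rfl⟩ := Away.mk_surjective 𝒜 hf z
  refine ⟨j, g, by simpa [smul_eq_mul] using hg, fun x => ?_⟩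
  rw [← hz]
  rfl

end

section Mod
variable {R A : Type u} [CommRing R] [CommRing A] [Algebra R A] (𝒜 : ℕ → Submodule R A)
  [GradedAlgebra 𝒜]
  {M : Type u} [AddCommGroup M] [Module R M] [Module A M] [IsScalarTower R A M]
  (ℳ : ℕ → Submodule R M) [DirectSum.Decomposition ℳ] [SetLike.GradedSMul 𝒜 ℳ]

omit [IsScalarTower R A M] in
/-- `mk w s = 0` in the localised module iff some element outside the prime kills `w`. -/
theorem mk_eq_zero_iff (x : ProjectiveSpectrum 𝒜) (w : M)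
    (s : x.asHomogeneousIdeal.toIdeal.primeCompl) :
    (LocalizedModule.mk w s : GrTilde.LocMod 𝒜 (M := M) x) = 0 ↔
      ∃ u : A, u ∉ x.asHomogeneousIdeal ∧ u • w = 0 := by
  rw [← LocalizedModule.zero_mk s, LocalizedModule.mk_eq]
  constructor
  · rintro ⟨u, hu⟩
    refine ⟨u.1 * s.1, fun h => (x.isPrime.mem_or_mem h).elim u.2 s.2, ?_⟩
    simp only [smul_zero] at hu
    have h2 : u.1 • (s.1 • w) = 0 := hu
    rw [mul_smul]
    exact h2
  · rintro ⟨u, hu, h⟩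
    refine ⟨⟨u, hu⟩, ?_⟩
    simp only [smul_zero]
    show u • (s.1 • w) = 0
    rw [smul_comm, h, smul_zero]

omit [IsScalarTower R A M] [DirectSum.Decomposition ℳ] in
/-- The section `w / t` of `M(n)~` over an open on which `t` vanishes nowhere. -/
def fracSec (n : ℤ) {i j : ℕ} (w : M) (hw : w ∈ ℳ i) (t : A) (ht : t ∈ 𝒜 j)
    (hij : (i : ℤ) = j + n) (U : Opens (ProjectiveSpectrum.top 𝒜))
    (hU : ∀ x : U, t ∉ x.1.asHomogeneousIdeal) : GrTilde.sect 𝒜 ℳ n (op U) :=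
  ⟨fun x => ⟨LocalizedModule.mk w ⟨t, hU x⟩,
      Groth.Agent.Lib.TildeZeroH1.mk_mem_tildeAt 𝒜 ℳ n x.1 i j w hw t ht hij (hU x)⟩,
    fun x => ⟨U, x.2, 𝟙 _, i, j, ⟨w, hw⟩, ⟨t, ht⟩, hU, Or.inl hij, fun _ => rfl⟩⟩

omit [IsScalarTower R A M] [DirectSum.Decomposition ℳ] in
theorem smul_val (n : ℤ) (U : (Opens (ProjectiveSpectrum.top 𝒜))ᵒᵖ) (c : Twist.O (𝒜 := 𝒜) U)
    (s : GrTilde.sect 𝒜 ℳ n U) (y : U.unop) :
    (((c • s : GrTilde.sect 𝒜 ℳ n U).1 y : GrTilde.tildeAt 𝒜 ℳ n y.1) :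
      GrTilde.LocMod 𝒜 (M := M) y.1) =
    (c.1 y).val • ((s.1 y : GrTilde.tildeAt 𝒜 ℳ n y.1) : GrTilde.LocMod 𝒜 (M := M) y.1) :=
  GrTilde.coe_smul_val n y.1 (c.1 y) (s.1 y)

/-- **Sections of `M(n)~` over `D_+(f)` localise correctly.** -/
theorem locOnU_basicOpen (n : ℤ) {d : ℕ} (hd : 0 < d) {f : A} (hf : f ∈ 𝒜 d) :
    QCohCrit.LocOnU (GrTilde.tilde 𝒜 ℳ n) (Proj.basicOpen 𝒜 f) := by
  intro a₀
  obtain ⟨a, rfl⟩ : ∃ a : Twist.O (𝒜 := 𝒜) (op (ProjectiveSpectrum.basicOpen 𝒜 f)), a = a₀ :=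
    ⟨a₀, rfl⟩
  have hU : IsAffineOpen (Proj.basicOpen 𝒜 f) := Proj.isAffineOpen_basicOpen 𝒜 f hf hd
  obtain ⟨j, g, hg, hrep⟩ := exists_rep 𝒜 hd hf a
  have hfg : f * g ∈ 𝒜 (d + j * d) := SetLike.mul_mem_graded hf hg
  have hpos : 0 < d + j * d := by omega
  -- the basic open of `a` is `D_+(f g)`
  have hmem : ∀ x : Proj 𝒜, x ∈ (Proj 𝒜).basicOpen a ↔ f * g ∉ x.asHomogeneousIdeal := by
    intro x
    constructor
    · intro hx
      have hxf : x ∈ Proj.basicOpen 𝒜 f := (Proj 𝒜).basicOpen_le a hx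
      have hu := (mem_basicOpen_iff 𝒜 _ a x hxf).mp hx
      have hgx := (isUnit_iff_of_val 𝒜 x _ g (f ^ j) _ (hrep ⟨x, hxf⟩)).mp hu
      exact fun h => (x.isPrime.mem_or_mem h).elim hxf hgx
    · intro hx
      have hxf : f ∉ x.asHomogeneousIdeal := fun h => hx (Ideal.mul_mem_right _ _ h)
      have hgx : g ∉ x.asHomogeneousIdeal := fun h => hx (Ideal.mul_mem_left _ _ h)
      exact (mem_basicOpen_iff 𝒜 _ a x hxf).mpr
        ((isUnit_iff_of_val 𝒜 x _ g (f ^ j) _ (hrep ⟨x, hxf⟩)).mpr hgx)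
  have hW : ProjectiveSpectrum.basicOpen 𝒜 (f * g) ≤ (Proj 𝒜).basicOpen a :=
    fun x hx => (hmem x).mpr hx
  refine ⟨hU.isLocalization_basicOpen a, fun x m => Scheme.Modules.map_smul _ _ x m, ?_, ?_⟩
  · -- surjectivity up to powers of `a`
    intro m'
    let m'' : GrTilde.sect 𝒜 ℳ n (op (ProjectiveSpectrum.basicOpen 𝒜 (f * g))) :=
      GrTilde.res 𝒜 ℳ n (homOfLE hW).op m'
    obtain ⟨k, i, w, hi, hval⟩ :=
      Groth.Agent.Lib.ProjSectH1.sections_basicOpen 𝒜 ℳ n hpos hfg m''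
    have hfk : f ^ ((j + 1) * k) ∈ 𝒜 (((j + 1) * k) * d) := by
      simpa using SetLike.pow_mem_graded ((j + 1) * k) hf
    have hdeg : (i : ℤ) = (((j + 1) * k) * d : ℕ) + n := by rw [hi]; push_cast; ring
    let s0 : GrTilde.sect 𝒜 ℳ n (op (ProjectiveSpectrum.basicOpen 𝒜 f)) :=
      fracSec 𝒜 ℳ n w.1 w.2 (f ^ ((j + 1) * k)) hfk hdeg _
        (fun x h => x.2 (x.1.isPrime.mem_of_pow_mem _ h))
    refine ⟨k, s0, ?_⟩
    apply Subtype.ext
    funext x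
    apply Subtype.ext
    have hxfg : f * g ∉ x.1.asHomogeneousIdeal := (hmem x.1).mp x.2
    have hxf : f ∉ x.1.asHomogeneousIdeal := fun h => hxfg (Ideal.mul_mem_right _ _ h)
    have h1 := hval ⟨x.1, hxfg⟩
    have h2 := hrep ⟨x.1, hxf⟩
    refine (smul_val 𝒜 ℳ n (op ((Proj 𝒜).basicOpen a)) _ m' x).trans ?_
    change ((a.1 ⟨x.1, hxf⟩) ^ k).val •
      ((m''.1 ⟨x.1, hxfg⟩ : GrTilde.tildeAt 𝒜 ℳ n x.1) : GrTilde.LocMod 𝒜 (M := M) x.1) =
      LocalizedModule.mk w.1 ⟨f ^ ((j + 1) * k), _⟩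
    have e : ((a.1 ⟨x.1, hxf⟩) ^ k).val •
        ((m''.1 ⟨x.1, hxfg⟩ : GrTilde.tildeAt 𝒜 ℳ n x.1) : GrTilde.LocMod 𝒜 (M := M) x.1) =
        (Localization.mk g ⟨f ^ j, show f ^ j ∈ x.1.asHomogeneousIdeal.toIdeal.primeCompl from
          fun h => hxf (x.1.isPrime.mem_of_pow_mem j h)⟩ : Twist.Loc 𝒜 x.1) ^ k •
        (LocalizedModule.mk w.1 ⟨(f * g) ^ k,
          show (f * g) ^ k ∈ x.1.asHomogeneousIdeal.toIdeal.primeCompl from
          fun h => hxfg (x.1.isPrime.mem_of_pow_mem k h)⟩ : GrTilde.LocMod 𝒜 (M := M) x.1) := by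
      rw [HomogeneousLocalization.val_pow]
      exact congrArg₂ (fun p q => p ^ k • q) h2 h1
    refine e.trans ?_
    rw [Localization.mk_pow, LocalizedModule.mk_smul_mk, LocalizedModule.mk_eq]
    refine ⟨1, ?_⟩
    rw [one_smul, one_smul]
    show (f ^ ((j + 1) * k)) • (g ^ k • w.1) = ((f ^ j) ^ k * (f * g) ^ k) • w.1
    rw [smul_smul]
    congr 1
    ring
  · -- kernel is `a`-power torsion
    intro m hm
    obtain ⟨k, i, w, hi, hval⟩ :=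
      Groth.Agent.Lib.ProjSectH1.sections_basicOpen 𝒜 ℳ n hd hf m
    have hzero : ∀ P : ProjectiveSpectrum 𝒜, f * g ∉ P.asHomogeneousIdeal →
        ∃ u : A, u ∉ P.asHomogeneousIdeal ∧ u • w.1 = 0 := by
      intro P hP
      have hPf : f ∉ P.asHomogeneousIdeal := fun h => hP (Ideal.mul_mem_right _ _ h)
      have hPW : P ∈ (Proj 𝒜).basicOpen a := (hmem P).mpr hP
      have h0 := congrArg (fun s : GrTilde.sect 𝒜 ℳ n (op ((Proj 𝒜).basicOpen a)) =>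
        ((s.1 ⟨P, hPW⟩ : GrTilde.tildeAt 𝒜 ℳ n P) : GrTilde.LocMod 𝒜 (M := M) P)) hm
      have h1 := hval ⟨P, hPf⟩
      have h2 : (LocalizedModule.mk w.1 ⟨f ^ k,
          show f ^ k ∈ P.asHomogeneousIdeal.toIdeal.primeCompl from
          fun h => hPf (P.isPrime.mem_of_pow_mem k h)⟩ : GrTilde.LocMod 𝒜 (M := M) P) = 0 :=
        h1.symm.trans h0
      exact (mk_eq_zero_iff 𝒜 P w.1 _).mp h2
    obtain ⟨N, hN⟩ :=
      Groth.Agent.Lib.ProjSectH1.pow_smul_eq_zero' 𝒜 ℳ hpos hfg i w.1 w.2 hzero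
    refine ⟨N, ?_⟩
    apply Subtype.ext
    funext x
    apply Subtype.ext
    refine (smul_val 𝒜 ℳ n (op (ProjectiveSpectrum.basicOpen 𝒜 f)) _ m x).trans ?_
    change ((a.1 x) ^ N).val •
      ((m.1 x : GrTilde.tildeAt 𝒜 ℳ n x.1) : GrTilde.LocMod 𝒜 (M := M) x.1) = 0
    have e : ((a.1 x) ^ N).val •
        ((m.1 x : GrTilde.tildeAt 𝒜 ℳ n x.1) : GrTilde.LocMod 𝒜 (M := M) x.1) =
        (Localization.mk g ⟨f ^ j, show f ^ j ∈ x.1.asHomogeneousIdeal.toIdeal.primeCompl from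
          fun h => x.2 (x.1.isPrime.mem_of_pow_mem j h)⟩ : Twist.Loc 𝒜 x.1) ^ N •
        (LocalizedModule.mk w.1 ⟨f ^ k,
          show f ^ k ∈ x.1.asHomogeneousIdeal.toIdeal.primeCompl from
          fun h => x.2 (x.1.isPrime.mem_of_pow_mem k h)⟩ : GrTilde.LocMod 𝒜 (M := M) x.1) := by
      rw [HomogeneousLocalization.val_pow]
      exact congrArg₂ (fun p q => p ^ N • q) (hrep x) (hval x)
    refine e.trans ?_
    rw [Localization.mk_pow, LocalizedModule.mk_smul_mk, mk_eq_zero_iff]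
    refine ⟨f ^ N, fun h => x.2 (x.1.isPrime.mem_of_pow_mem N h), ?_⟩
    rw [smul_smul, ← mul_pow]
    exact hN

/-- **`M(n)~` is quasi-coherent.** -/
theorem isQuasicoherent_tilde (n : ℤ) : (GrTilde.tilde 𝒜 ℳ n).IsQuasicoherent := by
  let ι := {p : ℕ × A // 0 < p.1 ∧ p.2 ∈ 𝒜 p.1}
  refine QCohCrit.isQuasicoherent_of_locOnU_cover _ (fun i : ι => Proj.basicOpen 𝒜 i.1.2)
    (fun i => Proj.isAffineOpen_basicOpen 𝒜 i.1.2 i.2.2 i.2.1) ?_
    (fun i => locOnU_basicOpen 𝒜 ℳ n i.2.1 i.2.2)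
  rw [eq_top_iff]
  intro x _
  obtain ⟨d, g, hd, hg, hgx⟩ := Groth.Agent.Lib.TildeZeroH1.exists_pos_homog_notMem 𝒜 x
  exact Opens.mem_iSup.mpr ⟨⟨(d, g), hd, hg⟩, hgx⟩

end Mod

end Groth.Agent.ProjQC
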