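import Mathlib
import Groth.Prelude.Def_Twist2
import Groth.Prelude.Def_GrMod2

/-!
# `O(n) ≅ A(n)~` on `Proj` (helper5)

The prelude defines the twisting sheaf `Twist.twist 𝒜 n` (fractions in `Localization`) and, for a
graded module, `GrTilde.tilde 𝒜 ℳ n` (fractions in `LocalizedModule`).  For `M = A` the carriers are
definitionally the same `OreLocalization`; we upgrade this to an isomorphism of `O`-modules
`Twist.twist 𝒜 n ≅ GrTilde.tilde 𝒜 𝒜 n`.
-/

set_option autoImplicit false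
universe u
open CategoryTheory CategoryTheory.Limits AlgebraicGeometry TopologicalSpace Opposite DirectSum

namespace Groth.Agent.ProjTw

section Loc
variable {A : Type u} [CommRing A] (S : Submonoid A)

/-- identity map `Localization S → LocalizedModule S A` -/
def toLM (p : Localization S) : LocalizedModule S A := p

/-- identity map `LocalizedModule S A → Localization S` -/
def ofLM (p : LocalizedModule S A) : Localization S := p

theorem toLM_mk (a : A) (s : S) : toLM S (Localization.mk a s) = LocalizedModule.mk a s := rfl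
theorem ofLM_mk (a : A) (s : S) : ofLM S (LocalizedModule.mk a s) = Localization.mk a s := rfl
theorem ofLM_toLM (p : Localization S) : ofLM S (toLM S p) = p := rfl
theorem toLM_ofLM (p : LocalizedModule S A) : toLM S (ofLM S p) = p := rfl

theorem toLM_add (p q : Localization S) : toLM S (p + q) = toLM S p + toLM S q := by
  induction p using Localization.induction_on with | H p => ?_
  induction q using Localization.induction_on with | H q => ?_
  rw [Localization.add_mk, toLM_mk, toLM_mk, toLM_mk, LocalizedModule.mk_add_mk]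
  congr 1
  simp only [smul_eq_mul, Submonoid.smul_def]
  ring

theorem toLM_zero : toLM S 0 = 0 := by
  have h : (0 : Localization S) = Localization.mk 0 1 := (Localization.mk_zero 1).symm
  exact (congrArg (toLM S) h).trans (LocalizedModule.zero_mk 1)

theorem toLM_mul (p q : Localization S) : toLM S (p * q) = p • toLM S q := by
  induction p using Localization.induction_on with | H p => ?_
  induction q using Localization.induction_on with | H q => ?_
  rw [Localization.mk_mul, toLM_mk, toLM_mk, LocalizedModule.mk_smul_mk]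
  rfl

theorem ofLM_add (p q : LocalizedModule S A) : ofLM S (p + q) = ofLM S p + ofLM S q := by
  have h := toLM_add S (ofLM S p) (ofLM S q)
  rw [toLM_ofLM, toLM_ofLM] at h
  rw [← h]
  rfl

theorem ofLM_smul (c : Localization S) (q : LocalizedModule S A) :
    ofLM S (c • q) = c * ofLM S q := by
  have h := toLM_mul S c (ofLM S q)
  rw [toLM_ofLM] at h
  rw [← h]
  rfl

end Loc

section Pointwise
variable {R A : Type u} [CommRing R] [CommRing A] [Algebra R A] (𝒜 : ℕ → Submodule R A)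
  [GradedAlgebra 𝒜]

theorem toLM_mem (n : ℤ) (x : ProjectiveSpectrum 𝒜) (q : Twist.Loc 𝒜 x)
    (hq : q ∈ Twist.twistAt 𝒜 n x) :
    toLM _ q ∈ GrTilde.tildeAt 𝒜 (M := A) 𝒜 n x := by
  unfold Twist.twistAt at hq
  induction hq using Submodule.span_induction with
  | mem q hq =>
    obtain ⟨i, j, a, s, hs, hij, rfl⟩ := hq
    exact Submodule.subset_span ⟨i, j, a, s, hs, hij, rfl⟩
  | zero => rw [toLM_zero]; exact zero_mem _
  | add p q _ _ hp hq => rw [toLM_add]; exact add_mem hp hq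
  | smul c q _ hq =>
    have e : toLM _ (c • q) = c • toLM _ q := by
      rw [Algebra.smul_def, HomogeneousLocalization.algebraMap_apply, toLM_mul]
      rfl
    rw [e]
    exact Submodule.smul_mem _ c hq

theorem ofLM_mem (n : ℤ) (x : ProjectiveSpectrum 𝒜) (q : GrTilde.LocMod 𝒜 (M := A) x)
    (hq : q ∈ GrTilde.tildeAt 𝒜 (M := A) 𝒜 n x) :
    ofLM _ q ∈ Twist.twistAt 𝒜 n x := by
  unfold GrTilde.tildeAt at hq
  induction hq using Submodule.span_induction with
  | mem q hq =>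
    obtain ⟨i, j, a, s, hs, hij, rfl⟩ := hq
    exact Submodule.subset_span ⟨i, j, a, s, hs, hij, rfl⟩
  | zero => exact zero_mem _
  | add p q _ _ hp hq => rw [ofLM_add]; exact add_mem hp hq
  | smul c q _ hq =>
    have e : ofLM _ (c • q) = c • ofLM _ q := by
      rw [GrTilde.a0_smul_def, ofLM_smul, Algebra.smul_def,
        HomogeneousLocalization.algebraMap_apply]
    rw [e]
    exact Submodule.smul_mem _ c hq

end Pointwise

section Sections
variable {R A : Type u} [CommRing R] [CommRing A] [Algebra R A] (𝒜 : ℕ → Submodule R A)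
  [GradedAlgebra 𝒜]

/-- sections of `O(n)` to sections of `A(n)~` -/
def toSec (n : ℤ) (U : (Opens (ProjectiveSpectrum.top 𝒜))ᵒᵖ) (s : Twist.sectN (𝒜 := 𝒜) n U) :
    GrTilde.sect 𝒜 (M := A) 𝒜 n U :=
  ⟨fun x => ⟨toLM _ (s.1 x).1, toLM_mem 𝒜 n x.1 _ (s.1 x).2⟩, fun x => by
    obtain ⟨V, hxV, i, i', j, a, t, nin, cond, w⟩ := s.2 x
    exact ⟨V, hxV, i, i', j, a, t, nin, cond, fun y => congrArg (toLM _) (w y)⟩⟩

/-- sections of `A(n)~` to sections of `O(n)` -/
def ofSec (n : ℤ) (U : (Opens (ProjectiveSpectrum.top 𝒜))ᵒᵖ) (s : GrTilde.sect 𝒜 (M := A) 𝒜 n U) :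
    Twist.sectN (𝒜 := 𝒜) n U :=
  ⟨fun x => ⟨ofLM _ (s.1 x).1, ofLM_mem 𝒜 n x.1 _ (s.1 x).2⟩, fun x => by
    obtain ⟨V, hxV, i, i', j, a, t, nin, cond, w⟩ := s.2 x
    exact ⟨V, hxV, i, i', j, a, t, nin, cond, fun y => congrArg (ofLM _) (w y)⟩⟩

theorem ofSec_toSec (n : ℤ) (U) (s : Twist.sectN (𝒜 := 𝒜) n U) : ofSec 𝒜 n U (toSec 𝒜 n U s) = s :=
  rfl

theorem toSec_ofSec (n : ℤ) (U) (s : GrTilde.sect 𝒜 (M := A) 𝒜 n U) :
    toSec 𝒜 n U (ofSec 𝒜 n U s) = s := rfl

theorem toSec_add (n : ℤ) (U) (s t : Twist.sectN (𝒜 := 𝒜) n U) :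
    toSec 𝒜 n U (s + t) = toSec 𝒜 n U s + toSec 𝒜 n U t := by
  apply Subtype.ext
  funext x
  apply Subtype.ext
  exact toLM_add _ _ _

theorem toSec_smul (n : ℤ) (U) (c : Twist.O (𝒜 := 𝒜) U) (s : Twist.sectN (𝒜 := 𝒜) n U) :
    toSec 𝒜 n U (c • s) = c • toSec 𝒜 n U s := by
  apply Subtype.ext
  funext x
  apply Subtype.ext
  show toLM _ (((c.1 x • s.1 x : Twist.twistAt 𝒜 n x.1)) : Twist.Loc 𝒜 x.1) =
    (((c.1 x • (toSec 𝒜 n U s).1 x : GrTilde.tildeAt 𝒜 (M := A) 𝒜 n x.1)) :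
      GrTilde.LocMod 𝒜 (M := A) x.1)
  rw [Twist.coe_smul_val, GrTilde.coe_smul_val, toLM_mul]
  rfl

theorem ofSec_add (n : ℤ) (U) (s t : GrTilde.sect 𝒜 (M := A) 𝒜 n U) :
    ofSec 𝒜 n U (s + t) = ofSec 𝒜 n U s + ofSec 𝒜 n U t := by
  have h := toSec_add 𝒜 n U (ofSec 𝒜 n U s) (ofSec 𝒜 n U t)
  rw [toSec_ofSec, toSec_ofSec] at h
  rw [← h, ofSec_toSec]

theorem ofSec_smul (n : ℤ) (U) (c : Twist.O (𝒜 := 𝒜) U) (s : GrTilde.sect 𝒜 (M := A) 𝒜 n U) :
    ofSec 𝒜 n U (c • s) = c • ofSec 𝒜 n U s := by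
  have h := toSec_smul 𝒜 n U c (ofSec 𝒜 n U s)
  rw [toSec_ofSec] at h
  rw [← h, ofSec_toSec]

end Sections

section Iso
variable {R A : Type u} [CommRing R] [CommRing A] [Algebra R A] (𝒜 : ℕ → Submodule R A)
  [GradedAlgebra 𝒜]

/-- `O(n) → A(n)~` on underlying presheaves of abelian groups -/
noncomputable def toPre (n : ℤ) : Twist.twistPre 𝒜 n ⟶ GrTilde.tildePre 𝒜 (M := A) 𝒜 n where
  app U := AddCommGrpCat.ofHom (AddMonoidHom.mk' (toSec 𝒜 n U) (toSec_add 𝒜 n U))
  naturality := by intros; rfl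

/-- `A(n)~ → O(n)` on underlying presheaves of abelian groups -/
noncomputable def ofPre (n : ℤ) : GrTilde.tildePre 𝒜 (M := A) 𝒜 n ⟶ Twist.twistPre 𝒜 n where
  app U := AddCommGrpCat.ofHom (AddMonoidHom.mk' (ofSec 𝒜 n U) (ofSec_add 𝒜 n U))
  naturality := by intros; rfl

noncomputable def toHomP (n : ℤ) : Twist.twistPMod 𝒜 n ⟶ GrTilde.tildePMod 𝒜 (M := A) 𝒜 n :=
  PresheafOfModules.homMk (toPre 𝒜 n) (fun U c s => toSec_smul 𝒜 n U c s)

noncomputable def ofHomP (n : ℤ) : GrTilde.tildePMod 𝒜 (M := A) 𝒜 n ⟶ Twist.twistPMod 𝒜 n :=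
  PresheafOfModules.homMk (ofPre 𝒜 n) (fun U c s => ofSec_smul 𝒜 n U c s)

/-- **`O(n) ≅ A(n)~`** as `O`-modules on `Proj`. -/
noncomputable def twistIso (n : ℤ) : Twist.twist 𝒜 n ≅ GrTilde.tilde 𝒜 (M := A) 𝒜 n where
  hom := ⟨toHomP 𝒜 n⟩
  inv := ⟨ofHomP 𝒜 n⟩
  hom_inv_id := by
    apply SheafOfModules.hom_ext
    apply PresheafOfModules.hom_ext
    intro U
    apply ModuleCat.hom_ext
    apply LinearMap.ext
    intro s
    rfl
  inv_hom_id := by
    apply SheafOfModules.hom_ext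
    apply PresheafOfModules.hom_ext
    intro U
    apply ModuleCat.hom_ext
    apply LinearMap.ext
    intro s
    rfl

end Iso

end Groth.Agent.ProjTw
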