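import Mathlib
import Groth.Prelude
import Groth.Agent.Lib.ProjTw_helper5
import Groth.Agent.Lib.ProjQC_helper5
import Groth.Agent.Lib.Tens41_helper8
import Groth.Agent.Lib.Tens16_helper8
import Groth.Agent.Lib.Bilin_helper8

/-!
# Twisting sheaves on `Proj`: sections, products and local generators (helper5)
-/

set_option autoImplicit false
universe u
open CategoryTheory CategoryTheory.Limits AlgebraicGeometry TopologicalSpace Opposite DirectSum
open HomogeneousLocalization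

namespace Groth.Agent.ProjTw

section
variable {R A : Type u} [CommRing R] [CommRing A] [Algebra R A] (𝒜 : ℕ → Submodule R A)
  [GradedAlgebra 𝒜]

/-- The section `a / t` of `O(n)` over an open on which `t` vanishes nowhere. -/
def fracSecN (n : ℤ) {i j : ℕ} (a : A) (ha : a ∈ 𝒜 i) (t : A) (ht : t ∈ 𝒜 j)
    (hij : (i : ℤ) = j + n) (U : Opens (ProjectiveSpectrum.top 𝒜))
    (hU : ∀ x : U, t ∉ x.1.asHomogeneousIdeal) : Twist.sectN (𝒜 := 𝒜) n (op U) :=
  ⟨fun x => ⟨Localization.mk a ⟨t, hU x⟩,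
      Submodule.subset_span ⟨i, j, ⟨a, ha⟩, ⟨t, ht⟩, hU x, hij, rfl⟩⟩,
    fun x => ⟨U, x.2, 𝟙 _, i, j, ⟨a, ha⟩, ⟨t, ht⟩, hU, Or.inl hij, fun _ => rfl⟩⟩

/-- Sections of `O(n)` over `D_+(f)` are single fractions `b / f^k`. -/
theorem sections_basicOpenN (n : ℤ) {d : ℕ} (hd : 0 < d) {f : A} (hf : f ∈ 𝒜 d)
    (s : Twist.sectN (𝒜 := 𝒜) n (op (ProjectiveSpectrum.basicOpen 𝒜 f))) :
    ∃ (k i : ℕ) (b : 𝒜 i), (i : ℤ) = k * d + n ∧
      ∀ x : ProjectiveSpectrum.basicOpen 𝒜 f,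
        ((s.1 x : Twist.twistAt 𝒜 n x.1) : Twist.Loc 𝒜 x.1) =
          Localization.mk b.1 ⟨f ^ k, show f ^ k ∈ x.1.asHomogeneousIdeal.toIdeal.primeCompl from
            fun h => x.2 (x.1.isPrime.mem_of_pow_mem k h)⟩ := by
  obtain ⟨k, i, b, hi, hval⟩ :=
    Groth.Agent.Lib.ProjSectH1.sections_basicOpen 𝒜 (M := A) 𝒜 n hd hf (toSec 𝒜 n _ s)
  exact ⟨k, i, b, hi, fun x => hval x⟩

/-- The product of a degree-`m` fraction and a degree-`n` fraction is a degree-`m+n` fraction. -/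
theorem mul_mem_twistAt (m n : ℤ) (x : ProjectiveSpectrum 𝒜) (p q : Twist.Loc 𝒜 x)
    (hp : p ∈ Twist.twistAt 𝒜 m x) (hq : q ∈ Twist.twistAt 𝒜 n x) :
    p * q ∈ Twist.twistAt 𝒜 (m + n) x := by
  unfold Twist.twistAt at hp
  induction hp using Submodule.span_induction with
  | mem p hp =>
    obtain ⟨i, j, a, s, hs, hij, rfl⟩ := hp
    unfold Twist.twistAt at hq
    induction hq using Submodule.span_induction with
    | mem q hq =>
      obtain ⟨i', j', b, t, ht, hij', rfl⟩ := hq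
      rw [Localization.mk_mul]
      refine Submodule.subset_span ⟨i + i', j + j', ⟨a.1 * b.1, SetLike.mul_mem_graded a.2 b.2⟩,
        ⟨s.1 * t.1, SetLike.mul_mem_graded s.2 t.2⟩,
        fun h => (x.isPrime.mem_or_mem h).elim hs ht, by push_cast; omega, rfl⟩
    | zero => rw [mul_zero]; exact zero_mem _
    | add q q' _ _ hq hq' => rw [mul_add]; exact add_mem hq hq'
    | smul c q _ hq =>
      rw [Algebra.mul_smul_comm]
      exact Submodule.smul_mem _ c hq
  | zero => rw [zero_mul]; exact zero_mem _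
  | add p p' _ _ hp hp' => rw [add_mul]; exact add_mem hp hp'
  | smul c p _ hp =>
    rw [Algebra.smul_mul_assoc]
    exact Submodule.smul_mem _ c hp

/-- The product of sections `O(m) × O(n) → O(m+n)`. -/
def mulSec (m n : ℤ) (U : (Opens (ProjectiveSpectrum.top 𝒜))ᵒᵖ) (s : Twist.sectN (𝒜 := 𝒜) m U)
    (t : Twist.sectN (𝒜 := 𝒜) n U) : Twist.sectN (𝒜 := 𝒜) (m + n) U :=
  ⟨fun x => ⟨(s.1 x).1 * (t.1 x).1, mul_mem_twistAt 𝒜 m n x.1 _ _ (s.1 x).2 (t.1 x).2⟩, fun x => by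
    obtain ⟨V, hxV, iV, i, j, a, σ, nin, cond, w⟩ := s.2 x
    obtain ⟨V', hxV', iV', i', j', b, τ, nin', cond', w'⟩ := t.2 x
    refine ⟨V ⊓ V', ⟨hxV, hxV'⟩, Opens.infLELeft _ _ ≫ iV, i + i', j + j',
      ⟨a.1 * b.1, SetLike.mul_mem_graded a.2 b.2⟩, ⟨σ.1 * τ.1, SetLike.mul_mem_graded σ.2 τ.2⟩,
      fun y h => (y.1.isPrime.mem_or_mem h).elim (nin ⟨y.1, y.2.1⟩) (nin' ⟨y.1, y.2.2⟩), ?_,
      fun y => ?_⟩
    · rcases cond with h | h
      · rcases cond' with h' | h'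
        · exact Or.inl (by push_cast; omega)
        · exact Or.inr (show a.1 * b.1 = 0 by rw [h', mul_zero])
      · exact Or.inr (show a.1 * b.1 = 0 by rw [h, zero_mul])
    · have e1 := w ⟨y.1, y.2.1⟩
      have e2 := w' ⟨y.1, y.2.2⟩
      show (s.1 _).1 * (t.1 _).1 = _
      erw [e1, e2]
      rw [Localization.mk_mul]
      rfl⟩

theorem smul_valN (n : ℤ) (U : (Opens (ProjectiveSpectrum.top 𝒜))ᵒᵖ) (c : Twist.O (𝒜 := 𝒜) U)
    (s : Twist.sectN (𝒜 := 𝒜) n U) (y : U.unop) :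
    (((c • s : Twist.sectN (𝒜 := 𝒜) n U).1 y : Twist.twistAt 𝒜 n y.1) : Twist.Loc 𝒜 y.1) =
    (c.1 y).val * ((s.1 y : Twist.twistAt 𝒜 n y.1) : Twist.Loc 𝒜 y.1) :=
  Twist.coe_smul_val n y.1 (c.1 y) (s.1 y)

/-- Multiplication `O(m) × O(n) → O(m+n)` as a bilinear pairing of sections. -/
noncomputable def mulBilin (m n : ℤ) :
    FLFH8.BilinData (Twist.twist 𝒜 m) (Twist.twist 𝒜 n) (Twist.twist 𝒜 (m + n)) where
  β U s t := mulSec 𝒜 m n (op U) s t
  add_left U s s' t := by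
    apply Subtype.ext
    funext x
    apply Subtype.ext
    exact add_mul _ _ _
  smul_left U r s t := by
    apply Subtype.ext
    funext x
    apply Subtype.ext
    refine Eq.trans ?_ (smul_valN 𝒜 (m + n) (op U) r (mulSec 𝒜 m n (op U) s t) x).symm
    exact (congrArg (· * ((t.1 x : Twist.twistAt 𝒜 n x.1) : Twist.Loc 𝒜 x.1))
      (smul_valN 𝒜 m (op U) r s x)).trans (mul_assoc _ _ _)
  add_right U s t t' := by
    apply Subtype.ext
    funext x
    apply Subtype.ext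
    exact mul_add _ _ _
  smul_right U r s t := by
    apply Subtype.ext
    funext x
    apply Subtype.ext
    refine Eq.trans ?_ (smul_valN 𝒜 (m + n) (op U) r (mulSec 𝒜 m n (op U) s t) x).symm
    exact (congrArg (((s.1 x : Twist.twistAt 𝒜 m x.1) : Twist.Loc 𝒜 x.1) * ·)
      (smul_valN 𝒜 n (op U) r t x)).trans (mul_left_comm _ _ _)
  natural h s t := rfl

/-- The multiplication morphism `O(m) ⊗ O(n) → O(m+n)`. -/
noncomputable def mulHom (m n : ℤ) :
    CohB1.tensorMod (Twist.twist 𝒜 m) (Twist.twist 𝒜 n) ⟶ Twist.twist 𝒜 (m + n) :=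
  (mulBilin 𝒜 m n).toHom

theorem mulHom_tmul (m n : ℤ) (U : (Proj 𝒜).Opens) (s : Γ(Twist.twist 𝒜 m, U))
    (t : Γ(Twist.twist 𝒜 n, U)) :
    QCohExtn.ap (mulHom 𝒜 m n) U (SecTwist.tmul _ _ U s t) = mulSec 𝒜 m n (op U) s t :=
  (mulBilin 𝒜 m n).toHom_tmul U s t

theorem toNat_mul_eq (n : ℤ) (d : ℕ) :
    ((n.toNat * d : ℕ) : ℤ) = ((-n).toNat * d : ℕ) + n * d := by
  have h := Int.toNat_sub_toNat_neg n
  push_cast
  linear_combination (d : ℤ) * h

/-- The section `f^n` of `O(nd)` over `D_+(f)` (`f` homogeneous of degree `d`, `n` any integer). -/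
def genSec {d : ℕ} {f : A} (hf : f ∈ 𝒜 d) (n : ℤ) :
    Twist.sectN (𝒜 := 𝒜) (n * d) (op (ProjectiveSpectrum.basicOpen 𝒜 f)) :=
  fracSecN 𝒜 (n * d) (f ^ n.toNat) (by simpa using SetLike.pow_mem_graded n.toNat hf)
    (f ^ (-n).toNat) (by simpa using SetLike.pow_mem_graded (-n).toNat hf) (toNat_mul_eq n d) _
    (fun x h => x.2 (x.1.isPrime.mem_of_pow_mem _ h))

theorem genSec_val {d : ℕ} {f : A} (hf : f ∈ 𝒜 d) (n : ℤ)
    (x : ProjectiveSpectrum.basicOpen 𝒜 f) :
    (((genSec 𝒜 hf n).1 x : Twist.twistAt 𝒜 (n * d) x.1) : Twist.Loc 𝒜 x.1) =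
      Localization.mk (f ^ n.toNat) ⟨f ^ (-n).toNat,
        show f ^ (-n).toNat ∈ x.1.asHomogeneousIdeal.toIdeal.primeCompl from
          fun h => x.2 (x.1.isPrime.mem_of_pow_mem _ h)⟩ := rfl

/-- **`f^n` generates `O(nd)` over `D_+(f)`.** -/
theorem isGen_genSec {d : ℕ} (hd : 0 < d) {f : A} (hf : f ∈ 𝒜 d) (n : ℤ) :
    GenLocH8.IsGen (Twist.twist 𝒜 (n * d)) (Proj.basicOpen 𝒜 f) (genSec 𝒜 hf n) := by
  refine TensH8.isGen_of_basis _ {U' | ∃ (e' : ℕ) (h' : A), h' ∈ 𝒜 e' ∧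
    U' = ProjectiveSpectrum.basicOpen 𝒜 (f * h')} ?_ ?_
  · intro O x hO hx
    obtain ⟨_, ⟨r, rfl⟩, hxr, hrO⟩ :=
      (ProjectiveSpectrum.isTopologicalBasis_basic_opens 𝒜).exists_subset_of_mem_open hx O.2
    have hxr' : r ∉ x.asHomogeneousIdeal := hxr
    obtain ⟨l, hl⟩ : ∃ l, (DirectSum.decompose 𝒜 r l : A) ∉ x.asHomogeneousIdeal := by
      by_contra hcon
      push Not at hcon
      exact hxr' ((x.asHomogeneousIdeal.isHomogeneous.mem_iff).mpr hcon)
    have hfx : f ∉ x.asHomogeneousIdeal := hO hx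
    refine ⟨ProjectiveSpectrum.basicOpen 𝒜 (f * (DirectSum.decompose 𝒜 r l : A)),
      ⟨l, _, (DirectSum.decompose 𝒜 r l).2, rfl⟩,
      fun h => (x.isPrime.mem_or_mem h).elim hfx hl, ?_⟩
    intro P hP
    apply hrO
    show r ∉ P.asHomogeneousIdeal
    intro hr
    exact hP (Ideal.mul_mem_left _ _ ((P.asHomogeneousIdeal.isHomogeneous.mem_iff).mp hr l))
  · rintro U' ⟨e', h', hh', rfl⟩ hU'
    have hfh : f * h' ∈ 𝒜 (d + e') := SetLike.mul_mem_graded hf hh'
    have hpos : 0 < d + e' := by omega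
    constructor
    · intro l
      obtain ⟨k, i, b, hi, hval⟩ := sections_basicOpenN 𝒜 (n * d) hpos hfh l
      have hpq := Int.toNat_sub_toNat_neg n
      set p := n.toNat with hp
      set q := (-n).toNat with hq
      have hdeg : b.1 * f ^ q * h' ^ p ∈ 𝒜 ((k + p) • (d + e')) := by
        have h1 : b.1 * f ^ q * h' ^ p ∈ 𝒜 (i + q • d + p • e') :=
          SetLike.mul_mem_graded (SetLike.mul_mem_graded b.2 (SetLike.pow_mem_graded q hf))
            (SetLike.pow_mem_graded p hh')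
        have e : i + q • d + p • e' = (k + p) • (d + e') := by
          simp only [smul_eq_mul]
          zify
          push_cast at hi ⊢
          rw [hi]
          linear_combination (-(d : ℤ)) * hpq
        rw [← e]
        exact h1
      let c : Twist.O (𝒜 := 𝒜) (op (ProjectiveSpectrum.basicOpen 𝒜 (f * h'))) :=
        (Proj.awayToSection 𝒜 (f * h')).hom
          (Away.mk 𝒜 hfh (k + p) (b.1 * f ^ q * h' ^ p) hdeg)
      refine ⟨c, ?_⟩
      apply Subtype.ext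
      funext x
      apply Subtype.ext
      have hfx : f ∉ x.1.asHomogeneousIdeal := fun h => x.2 (Ideal.mul_mem_right _ _ h)
      have e2 : (c.1 x).val * ((((QcqsLoc.rF (Twist.twist 𝒜 (n * d)) hU' (genSec 𝒜 hf n) :
          Twist.sectN (𝒜 := 𝒜) (n * d) (op (ProjectiveSpectrum.basicOpen 𝒜 (f * h')))).1 x :
          Twist.twistAt 𝒜 (n * d) x.1) : Twist.Loc 𝒜 x.1)) =
          Localization.mk (b.1 * f ^ q * h' ^ p) ⟨(f * h') ^ (k + p),
            show (f * h') ^ (k + p) ∈ x.1.asHomogeneousIdeal.toIdeal.primeCompl from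
              fun h => x.2 (x.1.isPrime.mem_of_pow_mem _ h)⟩ *
          Localization.mk (f ^ p) ⟨f ^ q,
            show f ^ q ∈ x.1.asHomogeneousIdeal.toIdeal.primeCompl from
              fun h => hfx (x.1.isPrime.mem_of_pow_mem _ h)⟩ := rfl
      refine (hval x).trans (Eq.trans ?_ (e2.symm.trans
        (smul_valN 𝒜 (n * d) (op (ProjectiveSpectrum.basicOpen 𝒜 (f * h'))) c
          (QcqsLoc.rF (Twist.twist 𝒜 (n * d)) hU' (genSec 𝒜 hf n)) x).symm))
      rw [Localization.mk_mul, Localization.mk_eq_mk_iff, Localization.r_iff_exists]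
      refine ⟨1, ?_⟩
      simp only [Submonoid.coe_mul, Submonoid.coe_one, one_mul]
      ring
    · intro c₀ hc
      obtain ⟨c, rfl⟩ : ∃ c : Twist.O (𝒜 := 𝒜) (op (ProjectiveSpectrum.basicOpen 𝒜 (f * h'))),
        c = c₀ := ⟨c₀, rfl⟩
      apply Subtype.ext
      funext x
      apply HomogeneousLocalization.val_injective
      have hfx : f ∉ x.1.asHomogeneousIdeal := fun h => x.2 (Ideal.mul_mem_right _ _ h)
      have h0 := congrArg (fun s : Twist.sectN (𝒜 := 𝒜) (n * d)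
        (op (ProjectiveSpectrum.basicOpen 𝒜 (f * h'))) =>
        ((s.1 x : Twist.twistAt 𝒜 (n * d) x.1) : Twist.Loc 𝒜 x.1)) hc
      have h1 := (smul_valN 𝒜 (n * d) (op (ProjectiveSpectrum.basicOpen 𝒜 (f * h'))) c
          (QcqsLoc.rF (Twist.twist 𝒜 (n * d)) hU' (genSec 𝒜 hf n)) x).symm.trans h0
      have h2 : (c.1 x).val * Localization.mk (f ^ n.toNat) ⟨f ^ (-n).toNat,
            show f ^ (-n).toNat ∈ x.1.asHomogeneousIdeal.toIdeal.primeCompl from
              fun h => hfx (x.1.isPrime.mem_of_pow_mem _ h)⟩ = 0 := h1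
      have h3 : (Localization.mk (f ^ n.toNat) ⟨f ^ (-n).toNat,
            show f ^ (-n).toNat ∈ x.1.asHomogeneousIdeal.toIdeal.primeCompl from
              fun h => hfx (x.1.isPrime.mem_of_pow_mem _ h)⟩ : Twist.Loc 𝒜 x.1) *
          Localization.mk (f ^ (-n).toNat) ⟨f ^ n.toNat,
            show f ^ n.toNat ∈ x.1.asHomogeneousIdeal.toIdeal.primeCompl from
              fun h => hfx (x.1.isPrime.mem_of_pow_mem _ h)⟩ = 1 := by
        rw [Localization.mk_mul, ← Localization.mk_one, Localization.mk_eq_mk_iff,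
          Localization.r_iff_exists]
        refine ⟨1, ?_⟩
        simp only [Submonoid.coe_mul, Submonoid.coe_one, one_mul, mul_one]
        ring
      have h4 : (c.1 x).val = (c.1 x).val * 1 := (mul_one _).symm
      rw [h4, ← h3, ← mul_assoc, h2, zero_mul]
      exact (HomogeneousLocalization.val_zero).symm

instance isQuasicoherent_twist (n : ℤ) : (Twist.twist 𝒜 n).IsQuasicoherent := by
  haveI : (GrTilde.tilde 𝒜 (M := A) 𝒜 n).IsQuasicoherent :=
    Groth.Agent.ProjQC.isQuasicoherent_tilde 𝒜 𝒜 n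
  exact (SheafOfModules.isQuasicoherent (Proj 𝒜).ringCatSheaf).prop_of_iso
    (twistIso 𝒜 n).symm inferInstance

/-- A generator of a quasi-coherent module over an affine open trivialises it there. -/
theorem iso_of_isGen {X : Scheme.{u}} (M : X.Modules) [M.IsQuasicoherent] {W : X.Opens}
    (hW : IsAffineOpen W) {g : Γ(M, W)} (hg : GenLocH8.IsGen M W g) :
    Nonempty (M.restrict W.ι ≅ Coh.structureModule (W : Scheme.{u})) := by
  have hsp : Submodule.span Γ(X, W) (Set.range (fun _ : Fin 1 => g)) = ⊤ := by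
    rw [eq_top_iff]
    intro m _
    obtain ⟨c, hc⟩ := hg.exists_coef m
    rw [hc]
    exact Submodule.smul_mem _ _ (Submodule.subset_span ⟨0, rfl⟩)
  have hli : LinearIndependent Γ(X, W) (fun _ : Fin 1 => g) := by
    rw [Fintype.linearIndependent_iff]
    intro c hc i
    have h1 : c 0 • g = 0 := by simpa using hc
    have h2 : c 0 • QcqsLoc.rF M le_rfl g = 0 := by rw [SubExt.rF_self]; exact h1
    have h3 := (hg W le_rfl).2 _ h2
    have : i = 0 := Subsingleton.elim _ _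
    rw [this]; exact h3
  obtain ⟨α⟩ := FLFH8.iso_of_basis M hW (fun _ : Fin 1 => g) hsp hli
  exact ⟨α ≪≫ coproductUniqueIso (fun _ : Fin 1 => Coh.structureModule (W : Scheme.{u}))⟩

theorem twist_restrict_basicOpen {d : ℕ} (hd : 0 < d) {f : A} (hf : f ∈ 𝒜 d) (n : ℤ) :
    Nonempty ((Twist.twist 𝒜 (n * d)).restrict (Proj.basicOpen 𝒜 f).ι ≅
      Coh.structureModule ↑(Proj.basicOpen 𝒜 f)) :=
  iso_of_isGen _ (Proj.isAffineOpen_basicOpen 𝒜 f hf hd) (isGen_genSec 𝒜 hd hf n)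

end

end Groth.Agent.ProjTw
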