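import Mathlib
import Groth.Prelude
import Groth.Agent.Lib.ProjTwGen_helper5
import Groth.Agent.Lib.LaurentCoef_helper9
import Groth.Agent.Lib.CechMono_helper9

/-!
# Sections of `O(d)` on projective space over monomial basic opens, in Laurent coordinates (helper9)

For `X = P^n_R = Proj R[X_0..X_n]` and the twisting sheaf `O(d)`, the sections over `D_+(X^m)`
(`m ≠ 0`) are identified, compatibly with restriction, with the finitely supported families of
Laurent coefficients `(I → ℤ) →₀ R` supported on exponents `e` of total degree `d` with `e i ≥ 0`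
whenever `m i = 0`.
-/

set_option autoImplicit false
universe u
open CategoryTheory CategoryTheory.Limits AlgebraicGeometry TopologicalSpace Opposite MvPolynomial

namespace Groth.Agent.ProjCech

open Groth.Agent.LaurentCoef

variable (n : ℕ) (R : Type u) [CommRing R]

/-- the monic monomial `X^m` -/
noncomputable abbrev mon (m : Fin (n + 1) →₀ ℕ) : MvPolynomial (Fin (n + 1)) R := monomial m 1

/-- the exponent `(1, …, 1)` -/
noncomputable def ones : Fin (n + 1) →₀ ℕ := Finsupp.equivFunOnFinite.symm (fun _ => 1)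

@[simp] lemma ones_apply (i : Fin (n + 1)) : ones n i = 1 := rfl

lemma ones_degree : (ones n).degree = n + 1 := by
  rw [Finsupp.degree_eq_sum]
  simp

variable {n R}

lemma mon_mem (m : Fin (n + 1) →₀ ℕ) : mon n R m ∈ CohB1.polyGrading n R m.degree :=
  (mem_homogeneousSubmodule _ _).mpr (isHomogeneous_monomial 1 rfl)

lemma mon_mul (m m' : Fin (n + 1) →₀ ℕ) : mon n R m * mon n R m' = mon n R (m + m') := by
  rw [monomial_mul, one_mul]

lemma mon_pow (m : Fin (n + 1) →₀ ℕ) (k : ℕ) : mon n R m ^ k = mon n R (k • m) := by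
  rw [monomial_pow, one_pow]

lemma degree_nsmul (m : Fin (n + 1) →₀ ℕ) (k : ℕ) : (k • m).degree = k * m.degree := by
  rw [map_nsmul, smul_eq_mul]

/-- `X^m` divides a power of `X_0 ⋯ X_n`. -/
lemma mon_dvd (m : Fin (n + 1) →₀ ℕ) : ∃ (K : ℕ) (m' : Fin (n + 1) →₀ ℕ),
    mon n R (ones n) ^ K = mon n R m * mon n R m' := by
  refine ⟨m.degree, m.degree • ones n - m, ?_⟩
  rw [mon_pow, mon_mul]
  congr 1
  ext i
  have h : m i ≤ m.degree := Finsupp.le_degree i m
  simp only [Finsupp.coe_add, Finsupp.coe_tsub, Finsupp.coe_smul, Pi.add_apply, Pi.sub_apply,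
    Pi.smul_apply, ones_apply, smul_eq_mul, mul_one]
  omega

variable (n R) in
/-- the grading -/
noncomputable abbrev 𝒜 : ℕ → Submodule R (MvPolynomial (Fin (n + 1)) R) := CohB1.polyGrading n R

lemma mon_notMem {m : Fin (n + 1) →₀ ℕ} {x : ProjectiveSpectrum (𝒜 n R)}
    (hx : mon n R (ones n) ∉ x.asHomogeneousIdeal) : mon n R m ∉ x.asHomogeneousIdeal := by
  intro h
  obtain ⟨K, m', hK⟩ := mon_dvd (R := R) m
  apply hx
  apply x.isPrime.mem_of_pow_mem K
  rw [hK]
  exact Ideal.mul_mem_right _ _ h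

variable (n R) in
/-- the open `D_+(X_0 ⋯ X_n)` -/
noncomputable def DT : (Proj (𝒜 n R)).Opens := Proj.basicOpen (𝒜 n R) (mon n R (ones n))

lemma DT_le (m : Fin (n + 1) →₀ ℕ) : DT n R ≤ Proj.basicOpen (𝒜 n R) (mon n R m) := by
  intro x hx
  exact mon_notMem (m := m) hx

variable (n R) in
/-- sections of `O(d)` -/
abbrev Sec (d : ℤ) (V : (Proj (𝒜 n R)).Opens) : Type u :=
  (Coh.toAb (Twist.twist (𝒜 n R) d)).obj.obj (op V)

/-- the value of a section at a point, in the localization -/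
def val {d : ℤ} {V : (Proj (𝒜 n R)).Opens} (s : Sec n R d V) (x : V) : Twist.Loc (𝒜 n R) x.1 :=
  ((show Twist.sectN (𝒜 := 𝒜 n R) d (op V) from s).1 x).1

lemma ext_val {d : ℤ} {V : (Proj (𝒜 n R)).Opens} (s t : Sec n R d V)
    (h : ∀ x : V, val s x = val t x) : s = t := by
  apply Subtype.ext
  funext y
  apply Subtype.ext
  exact h y

lemma val_add {d : ℤ} {V : (Proj (𝒜 n R)).Opens} (s t : Sec n R d V) (x : V) :
    val (s + t) x = val s x + val t x := rfl

lemma val_zero {d : ℤ} {V : (Proj (𝒜 n R)).Opens} (x : V) : val (0 : Sec n R d V) x = 0 := rfl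

/-- restriction of sections -/
noncomputable abbrev rs {d : ℤ} {V W : (Proj (𝒜 n R)).Opens} (h : W ≤ V) :
    Sec n R d V →+ Sec n R d W :=
  Groth.Agent.Lib.Cech.res (X := (Proj (𝒜 n R)).toTopCat)
    (Coh.toAb (Twist.twist (𝒜 n R) d)).obj h

lemma val_rs {d : ℤ} {V W : (Proj (𝒜 n R)).Opens} (h : W ≤ V) (s : Sec n R d V) (x : W) :
    val (rs h s) x = val s ⟨x.1, h x.2⟩ := rfl

/-- `t` is represented over `D_+(X_0⋯X_n)` by the fraction `b / X^m` -/
def IsRep {d : ℤ} {V : (Proj (𝒜 n R)).Opens} (t : Sec n R d V)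
    (b : MvPolynomial (Fin (n + 1)) R) (m : Fin (n + 1) →₀ ℕ) : Prop :=
  ∃ D : ℕ, b ∈ 𝒜 n R D ∧ (D : ℤ) = m.degree + d ∧
    ∀ (x : V) (hx : mon n R m ∈ x.1.asHomogeneousIdeal.toIdeal.primeCompl),
      val t x = Localization.mk b ⟨mon n R m, hx⟩

lemma isRep_rs {d : ℤ} {V W : (Proj (𝒜 n R)).Opens} (h : W ≤ V) {t : Sec n R d V}
    {b : MvPolynomial (Fin (n + 1)) R} {m : Fin (n + 1) →₀ ℕ} (ht : IsRep t b m) :
    IsRep (rs h t) b m := by
  obtain ⟨D, hb, hD, hv⟩ := ht
  exact ⟨D, hb, hD, fun x hx => hv ⟨x.1, h x.2⟩ hx⟩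

/-- two representations of a section over an open containing `D_+(X_0⋯X_n)` agree -/
lemma rep_unique {d : ℤ} {V : (Proj (𝒜 n R)).Opens} (hV : DT n R ≤ V) {t : Sec n R d V}
    {b b' : MvPolynomial (Fin (n + 1)) R} {m m' : Fin (n + 1) →₀ ℕ}
    (h : IsRep t b m) (h' : IsRep t b' m') : b * mon n R m' = b' * mon n R m := by
  obtain ⟨D, hb, hD, hv⟩ := h
  obtain ⟨D', hb', hD', hv'⟩ := h'
  have hdeg : D + m'.degree = D' + m.degree := by
    have : ((D + m'.degree : ℕ) : ℤ) = ((D' + m.degree : ℕ) : ℤ) := by push_cast; omega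
    exact_mod_cast this
  have hw : b * mon n R m' - b' * mon n R m ∈ 𝒜 n R (D + m'.degree) := by
    apply Submodule.sub_mem
    · exact SetLike.mul_mem_graded hb (mon_mem m')
    · rw [hdeg]
      exact SetLike.mul_mem_graded hb' (mon_mem m)
  have hT : mon n R (ones n) ∈ 𝒜 n R (n + 1) := by
    have := mon_mem (R := R) (ones n)
    rwa [ones_degree] at this
  obtain ⟨N, hN⟩ := Groth.Agent.Lib.ProjSectH1.pow_smul_eq_zero' (𝒜 n R) (𝒜 n R)
    (Nat.succ_pos n) hT (D + m'.degree) _ hw (by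
      intro P hP
      have hPV : P ∈ V := hV hP
      have hx : mon n R m ∈ P.asHomogeneousIdeal.toIdeal.primeCompl := mon_notMem hP
      have hx' : mon n R m' ∈ P.asHomogeneousIdeal.toIdeal.primeCompl := mon_notMem hP
      have e1 := hv ⟨P, hPV⟩ hx
      have e2 := hv' ⟨P, hPV⟩ hx'
      rw [e1, Localization.mk_eq_mk_iff, Localization.r_iff_exists] at e2
      obtain ⟨c, hc⟩ := e2
      refine ⟨c.1, c.2, ?_⟩
      simp only at hc
      rw [smul_eq_mul, mul_sub]
      rw [sub_eq_zero]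
      calc c.1 * (b * mon n R m') = c.1 * (mon n R m' * b) := by ring
        _ = c.1 * (mon n R m * b') := hc
        _ = c.1 * (b' * mon n R m) := by ring)
  rw [smul_eq_mul, mon_pow, mul_comm] at hN
  exact sub_eq_zero.mp (eq_zero_of_mul_monomial_eq_zero hN)

/-- every section over `D_+(X^m)` (`m ≠ 0`) is a single fraction `b / X^(k m)` -/
lemma exists_rep {d : ℤ} {m : Fin (n + 1) →₀ ℕ} (hm : m ≠ 0)
    (s : Sec n R d (Proj.basicOpen (𝒜 n R) (mon n R m))) :
    ∃ (k : ℕ) (b : MvPolynomial (Fin (n + 1)) R), IsRep s b (k • m) := by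
  have hd : 0 < m.degree := by
    rcases Nat.eq_zero_or_pos m.degree with h | h
    · exact absurd ((Finsupp.degree_eq_zero_iff m).mp h) hm
    · exact h
  obtain ⟨k, i, b, hi, hval⟩ := Groth.Agent.ProjTw.sections_basicOpenN (𝒜 n R) d hd (mon_mem m)
    (show Twist.sectN (𝒜 := 𝒜 n R) d (op (ProjectiveSpectrum.basicOpen (𝒜 n R) (mon n R m))) from s)
  refine ⟨k, b.1, i, b.2, ?_, ?_⟩
  · rw [degree_nsmul, hi]; push_cast; ring
  · intro x hx
    have h1 := hval x
    show ((_ : Twist.twistAt (𝒜 n R) d x.1) : Twist.Loc (𝒜 n R) x.1) = _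
    rw [h1]
    congr 1
    exact Subtype.ext (mon_pow m k)

lemma ones_ne_zero : ones n ≠ 0 := by
  intro h
  have := congrArg (fun f => f 0) h
  simp at this

lemma exists_repT {d : ℤ} (t : Sec n R d (DT n R)) :
    ∃ (m : Fin (n + 1) →₀ ℕ) (b : MvPolynomial (Fin (n + 1)) R), IsRep t b m := by
  obtain ⟨k, b, h⟩ := exists_rep (R := R) (d := d) (ones_ne_zero (n := n)) t
  exact ⟨k • ones n, b, h⟩

/-- Laurent coordinates of a section over `D_+(X_0⋯X_n)` -/
noncomputable def phiFun {d : ℤ} (t : Sec n R d (DT n R)) : (Fin (n + 1) → ℤ) →₀ R :=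
  Lco (exists_repT t).choose_spec.choose (exists_repT t).choose

lemma phiFun_eq {d : ℤ} {t : Sec n R d (DT n R)} {b : MvPolynomial (Fin (n + 1)) R}
    {m : Fin (n + 1) →₀ ℕ} (h : IsRep t b m) : phiFun t = Lco b m := by
  have h0 := (exists_repT t).choose_spec.choose_spec
  have h1 := rep_unique le_rfl h0 h
  ext e
  exact congrFun (lco_eq_of_mul_eq h1) e

lemma isRep_add {d : ℤ} {V : (Proj (𝒜 n R)).Opens} {t t' : Sec n R d V}
    {b b' : MvPolynomial (Fin (n + 1)) R} {m m' : Fin (n + 1) →₀ ℕ}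
    (h : IsRep t b m) (h' : IsRep t' b' m') :
    IsRep (t + t') (mon n R m * b' + mon n R m' * b) (m + m') := by
  obtain ⟨D, hb, hD, hv⟩ := h
  obtain ⟨D', hb', hD', hv'⟩ := h'
  have hdeg : m.degree + D' = m'.degree + D := by
    have : ((m.degree + D' : ℕ) : ℤ) = ((m'.degree + D : ℕ) : ℤ) := by push_cast; omega
    exact_mod_cast this
  refine ⟨m.degree + D', ?_, ?_, ?_⟩
  · apply Submodule.add_mem
    · exact SetLike.mul_mem_graded (mon_mem m) hb'
    · rw [hdeg]; exact SetLike.mul_mem_graded (mon_mem m') hb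
  · rw [map_add]; push_cast; omega
  · intro x hx
    have hxm : mon n R m ∈ x.1.asHomogeneousIdeal.toIdeal.primeCompl := by
      intro hmem; apply hx; rw [← mon_mul]; exact Ideal.mul_mem_right _ _ hmem
    have hxm' : mon n R m' ∈ x.1.asHomogeneousIdeal.toIdeal.primeCompl := by
      intro hmem; apply hx; rw [← mon_mul]; exact Ideal.mul_mem_left _ _ hmem
    rw [val_add, hv x hxm, hv' x hxm', Localization.add_mk]
    congr 1
    exact Subtype.ext (mon_mul m m')

lemma phiFun_add {d : ℤ} (t t' : Sec n R d (DT n R)) :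
    phiFun (t + t') = phiFun t + phiFun t' := by
  obtain ⟨m, b, h⟩ := exists_repT t
  obtain ⟨m', b', h'⟩ := exists_repT t'
  rw [phiFun_eq h, phiFun_eq h', phiFun_eq (isRep_add h h')]
  ext e
  rw [Finsupp.add_apply, Lco_apply, Lco_apply, Lco_apply, lco_add]
  rw [mul_comm (mon n R m) b', add_comm m m', lco_mul_monomial, mul_comm (mon n R m') b,
    add_comm m' m, lco_mul_monomial, add_comm]

/-- Laurent coordinates, as an additive map -/
noncomputable def phiT (d : ℤ) : Sec n R d (DT n R) →+ ((Fin (n + 1) → ℤ) →₀ R) :=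
  AddMonoidHom.mk' phiFun phiFun_add

/-- Laurent coordinates of a section over an open containing `D_+(X_0⋯X_n)` -/
noncomputable def PhiV (d : ℤ) (V : (Proj (𝒜 n R)).Opens) (hV : DT n R ≤ V) :
    Sec n R d V →+ ((Fin (n + 1) → ℤ) →₀ R) :=
  (phiT d).comp (rs hV)

lemma PhiV_eq {d : ℤ} {V : (Proj (𝒜 n R)).Opens} {hV : DT n R ≤ V} {s : Sec n R d V}
    {b : MvPolynomial (Fin (n + 1)) R} {m : Fin (n + 1) →₀ ℕ} (h : IsRep s b m) :
    PhiV d V hV s = Lco b m :=
  phiFun_eq (isRep_rs hV h)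

lemma PhiV_rs {d : ℤ} {V W : (Proj (𝒜 n R)).Opens} (hW : DT n R ≤ W) (h : W ≤ V)
    (s : Sec n R d V) : PhiV d W hW (rs h s) = PhiV d V (hW.trans h) s := by
  show phiFun (rs hW (rs h s)) = phiFun (rs _ s)
  rw [Groth.Agent.Lib.Cech.res_res]

lemma mem_primeCompl_nsmul {m : Fin (n + 1) →₀ ℕ} (k : ℕ)
    (x : Proj.basicOpen (𝒜 n R) (mon n R m)) :
    mon n R (k • m) ∈ x.1.asHomogeneousIdeal.toIdeal.primeCompl := by
  rw [← mon_pow]
  intro h
  exact (ProjectiveSpectrum.mem_basicOpen _ _ _).mp x.2 (x.1.isPrime.mem_of_pow_mem _ h)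

lemma PhiV_injective {d : ℤ} {m : Fin (n + 1) →₀ ℕ} (hm : m ≠ 0) (V : (Proj (𝒜 n R)).Opens)
    (hVm : V = Proj.basicOpen (𝒜 n R) (mon n R m)) (hV : DT n R ≤ V) :
    Function.Injective (PhiV d V hV) := by
  subst hVm
  rw [injective_iff_map_eq_zero]
  intro s hs
  obtain ⟨k, b, hb⟩ := exists_rep hm s
  rw [PhiV_eq hb] at hs
  have hb0 : b = 0 := eq_zero_of_lco_eq_zero (m := k • m) (fun e => by
    rw [← Lco_apply, hs]; rfl)
  apply ext_val
  intro x
  obtain ⟨D, _, _, hv⟩ := hb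
  rw [hv x (mem_primeCompl_nsmul k x), hb0, Localization.mk_zero, val_zero]

lemma sum_cast_eq_degree (m : Fin (n + 1) →₀ ℕ) : ∑ i, (m i : ℤ) = (m.degree : ℤ) := by
  rw [Finsupp.degree_eq_sum]; push_cast; rfl

lemma PhiV_range {d : ℤ} {m : Fin (n + 1) →₀ ℕ} (hm : m ≠ 0) (V : (Proj (𝒜 n R)).Opens)
    (hVm : V = Proj.basicOpen (𝒜 n R) (mon n R m)) (hV : DT n R ≤ V)
    (g : (Fin (n + 1) → ℤ) →₀ R) :
    (∃ s, PhiV d V hV s = g) ↔
      ∀ e ∈ g.support, (∑ i, e i = d ∧ ∀ i, m i = 0 → 0 ≤ e i) := by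
  subst hVm
  have hd : 0 < m.degree := by
    rcases Nat.eq_zero_or_pos m.degree with h | h
    · exact absurd ((Finsupp.degree_eq_zero_iff m).mp h) hm
    · exact h
  constructor
  · rintro ⟨s, rfl⟩ e he
    obtain ⟨k, b, hb⟩ := exists_rep hm s
    rw [PhiV_eq hb, Finsupp.mem_support_iff, Lco_apply] at he
    obtain ⟨D, hbD, hD, -⟩ := hb
    constructor
    · have h1 := sum_eq_of_lco_ne_zero ((mem_homogeneousSubmodule _ _).mp hbD) he
      rw [sum_cast_eq_degree] at h1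
      omega
    · intro i hi
      have h1 := nonneg_of_lco_ne_zero he i
      rw [Finsupp.smul_apply, hi, smul_zero] at h1
      simpa using h1
  · intro hg
    classical
    -- a power of the denominator large enough
    let k : ℕ := (g.support.sup (fun e => Finset.univ.sup (fun i => (-e i).toNat))) + (-d).toNat
    have hk : ∀ e ∈ g.support, ∀ i, (-e i).toNat ≤ k := by
      intro e he i
      have h1 : (-e i).toNat ≤ Finset.univ.sup (fun i => (-e i).toNat) :=
        Finset.le_sup (f := fun i => (-e i).toNat) (Finset.mem_univ i)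
      have h2 : Finset.univ.sup (fun i => (-e i).toNat) ≤
          g.support.sup (fun e => Finset.univ.sup (fun i => (-e i).toNat)) :=
        Finset.le_sup (f := fun e => Finset.univ.sup (fun i => (-e i).toNat)) he
      omega
    have hkd : (-d).toNat ≤ k := Nat.le_add_left _ _
    have h0 : ∀ e ∈ g.support, ∀ i, 0 ≤ e i + ((k • m) i : ℕ) := by
      intro e he i
      rw [Finsupp.smul_apply, smul_eq_mul]
      by_cases hi : m i = 0
      · rw [hi, mul_zero]
        have := (hg e he).2 i hi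
        simpa using this
      · have h1 : k ≤ k * m i := Nat.le_mul_of_pos_right k (Nat.pos_of_ne_zero hi)
        have h2 := hk e he i
        have h3 : ((k * m i : ℕ) : ℤ) ≥ (k : ℤ) := by exact_mod_cast h1
        omega
    have hkm : (k : ℤ) ≤ (k * m.degree : ℕ) := by
      exact_mod_cast Nat.le_mul_of_pos_right k hd
    have hDnn : 0 ≤ ((k * m.degree : ℕ) : ℤ) + d := by omega
    obtain ⟨D, hD⟩ : ∃ D : ℕ, (D : ℤ) = ((k * m.degree : ℕ) : ℤ) + d :=
      ⟨(((k * m.degree : ℕ) : ℤ) + d).toNat, Int.toNat_of_nonneg hDnn⟩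
    obtain ⟨b, hbh, hbg⟩ := exists_lco_eq g (k • m) D h0 (by
      intro e he
      rw [sum_cast_eq_degree, degree_nsmul, (hg e he).1]
      omega)
    have hbD : b ∈ 𝒜 n R D := (mem_homogeneousSubmodule _ _).mpr hbh
    have hU : ∀ x : Proj.basicOpen (𝒜 n R) (mon n R m),
        mon n R (k • m) ∉ x.1.asHomogeneousIdeal := fun x => mem_primeCompl_nsmul k x
    let s0 : Twist.sectN (𝒜 := 𝒜 n R) d (op (Proj.basicOpen (𝒜 n R) (mon n R m))) :=
      Groth.Agent.ProjTw.fracSecN (𝒜 n R) d b hbD (mon n R (k • m)) (mon_mem (k • m))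
        (by rw [hD, degree_nsmul]) _ hU
    refine ⟨(show Sec n R d (Proj.basicOpen (𝒜 n R) (mon n R m)) from s0), ?_⟩
    have hrep : IsRep (show Sec n R d (Proj.basicOpen (𝒜 n R) (mon n R m)) from s0) b (k • m) :=
      ⟨D, hbD, by rw [hD, degree_nsmul], fun x hx => rfl⟩
    rw [PhiV_eq hrep]
    ext e
    rw [Lco_apply, hbg]

/-! ### The standard cover -/

/-- index type of the standard cover -/
abbrev Idx (n : ℕ) : Type u := ULift.{u} (Fin (n + 1))

variable (n R) in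
/-- the standard cover of projective space -/
noncomputable def cov : Idx.{u} n → (Proj (𝒜 n R)).Opens :=
  fun i => Proj.basicOpen (𝒜 n R) (X i.down)

/-- the exponent of `∏ X (σ k)` -/
noncomputable def msig {p : ℕ} (σ : Fin (p + 1) → Idx.{u} n) : Fin (n + 1) →₀ ℕ :=
  ∑ k, Finsupp.single (σ k).down 1

lemma msig_apply {p : ℕ} (σ : Fin (p + 1) → Idx.{u} n) (i : Fin (n + 1)) :
    msig σ i = ∑ k, if (σ k).down = i then 1 else 0 := by
  unfold msig
  rw [Finsupp.finsetSum_apply]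
  refine Finset.sum_congr rfl fun k _ => ?_
  rw [Finsupp.single_apply]

lemma msig_apply_eq_zero_iff {p : ℕ} (σ : Fin (p + 1) → Idx.{u} n) (i : Fin (n + 1)) :
    msig σ i = 0 ↔ (⟨i⟩ : Idx.{u} n) ∉ Set.range σ := by
  rw [msig_apply, Finset.sum_eq_zero_iff]
  constructor
  · rintro h ⟨k, hk⟩
    have h1 := h k (Finset.mem_univ k)
    rw [if_pos (by rw [hk])] at h1
    exact one_ne_zero h1
  · intro h k _
    rw [if_neg]
    intro hk
    exact h ⟨k, ULift.ext _ _ hk⟩

lemma msig_ne_zero {p : ℕ} (σ : Fin (p + 1) → Idx.{u} n) : msig σ ≠ 0 := by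
  intro h
  have h1 := congrArg (fun f => f (σ 0).down) h
  simp only [Finsupp.coe_zero, Pi.zero_apply] at h1
  rw [msig_apply_eq_zero_iff] at h1
  exact h1 ⟨0, rfl⟩

lemma mon_msig {p : ℕ} (σ : Fin (p + 1) → Idx.{u} n) :
    mon n R (msig σ) = ∏ k, (X (σ k).down : MvPolynomial (Fin (n + 1)) R) := by
  unfold msig mon
  rw [monomial_sum_one]
  rfl

lemma iInf_cov {p : ℕ} (σ : Fin (p + 1) → Idx.{u} n) :
    (⨅ k, cov n R (σ k)) = Proj.basicOpen (𝒜 n R) (mon n R (msig σ)) := by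
  apply Opens.ext
  rw [Opens.coe_iInf]
  ext x
  rw [Set.mem_iInter, mon_msig]
  have hp : (ProjectiveSpectrum.asHomogeneousIdeal (𝒜 := 𝒜 n R) x).toIdeal.IsPrime :=
    ProjectiveSpectrum.isPrime (𝒜 := 𝒜 n R) x
  have key := (Ideal.IsPrime.prod_mem_iff (s := Finset.univ)
    (x := fun k => (X (σ k).down : MvPolynomial (Fin (n + 1)) R))
    (p := (ProjectiveSpectrum.asHomogeneousIdeal (𝒜 := 𝒜 n R) x).toIdeal))
  constructor
  · intro h
    apply (Proj.mem_basicOpen (𝒜 n R) _ x).mpr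
    intro hmem
    obtain ⟨k, -, hk⟩ := key.mp hmem
    exact (Proj.mem_basicOpen (𝒜 n R) _ x).mp (h k) hk
  · intro h k
    apply (Proj.mem_basicOpen (𝒜 n R) _ x).mpr
    intro hk
    exact (Proj.mem_basicOpen (𝒜 n R) _ x).mp h (key.mpr ⟨k, Finset.mem_univ k, hk⟩)

lemma DT_le_iInf {p : ℕ} (σ : Fin (p + 1) → Idx.{u} n) : DT n R ≤ ⨅ k, cov n R (σ k) := by
  rw [iInf_cov]
  exact DT_le _

/-- admissible exponents for a set of indices -/
def Adm (n : ℕ) (d : ℤ) (s : Set (Idx.{u} n)) (e : Fin (n + 1) → ℤ) : Prop :=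
  ∑ i, e i = d ∧ ∀ i, (⟨i⟩ : Idx.{u} n) ∉ s → 0 ≤ e i

variable (n R) in
/-- the Laurent coordinates on the terms of the Čech complex -/
noncomputable def Phi (d : ℤ) (p : ℕ) (σ : Fin (p + 1) → Idx.{u} n) :
    (Coh.toAb (Twist.twist (𝒜 n R) d)).obj.obj (op (⨅ k, cov n R (σ k))) →+
      ((Fin (n + 1) → ℤ) →₀ R) :=
  PhiV d _ (DT_le_iInf σ)

theorem isMono (d : ℤ) : CechMono.IsMono (X := (Proj (𝒜 n R)).toTopCat)
    (Coh.toAb (Twist.twist (𝒜 n R) d)).obj (cov n R) (Adm.{u} n d) (Phi n R d) where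
  hres p σ k x := PhiV_rs _ _ x
  hinj p σ := PhiV_injective (msig_ne_zero σ) _ (iInf_cov σ) _
  hrange p σ g := by
    unfold Phi
    rw [PhiV_range (msig_ne_zero σ) _ (iInf_cov σ)]
    simp only [Adm, msig_apply_eq_zero_iff]

end Groth.Agent.ProjCech
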