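import Groth.Agent.Lib.ProjBasic_helper3

/-! Helper lemmas on `Proj.map` of a graded ring homomorphism. -/

universe u
open AlgebraicGeometry CategoryTheory CategoryTheory.Limits HomogeneousLocalization

namespace Groth.Agent.Lib.ProjMap_helper3

section
variable {A B σ τ : Type u} [CommRing A] [SetLike σ A] [AddSubgroupClass σ A] [CommRing B] [SetLike τ B] [AddSubgroupClass τ B]
  (𝒜 : ℕ → σ) [GradedRing 𝒜] (ℬ : ℕ → τ) [GradedRing ℬ]

theorem isPullback_awayι_map (φ : 𝒜 →+*ᵍ ℬ) (hφ : HomogeneousIdeal.irrelevant ℬ ≤ (HomogeneousIdeal.irrelevant 𝒜).map φ)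
    {i : ℕ} (hi : 0 < i) (s : A) (hs : s ∈ 𝒜 i) :
    IsPullback (Spec.map (CommRingCat.ofHom (Away.map φ s))) (Proj.awayι ℬ (φ s) (φ.2 hs) hi)
      (Proj.awayι 𝒜 s hs hi) (Proj.map φ hφ) := by
  refine IsOpenImmersion.isPullback _ _ _ _ (Proj.awayι_comp_map φ hφ hi s hs) ?_
  rw [Proj.opensRange_awayι, Proj.opensRange_awayι, Proj.map_preimage_basicOpen]

theorem map_of_away (Q : MorphismProperty Scheme.{u}) [IsZariskiLocalAtTarget Q]
    (φ : 𝒜 →+*ᵍ ℬ) (hφ : HomogeneousIdeal.irrelevant ℬ ≤ (HomogeneousIdeal.irrelevant 𝒜).map φ)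
    (H : ∀ (i : ℕ) (_ : 0 < i) (s : A) (_ : s ∈ 𝒜 i), Q (Spec.map (CommRingCat.ofHom (Away.map φ s)))) :
    Q (Proj.map φ hφ) := by
  refine IsZariskiLocalAtTarget.of_openCover (Proj.affineOpenCover 𝒜).openCover fun s => ?_
  have hpb := (isPullback_awayι_map 𝒜 ℬ φ hφ s.1.2 s.2 s.2.2).flip
  have h1 : hpb.isoPullback.hom ≫ pullback.snd _ _ = Spec.map (CommRingCat.ofHom (Away.map φ s.2)) :=
    hpb.isoPullback_hom_snd
  have h2 := H s.1 s.1.2 s.2 s.2.2
  rw [← h1, Q.cancel_left_of_respectsIso] at h2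
  exact h2

theorem away_map_surjective (φ : 𝒜 →+*ᵍ ℬ) (hsurj : Function.Surjective φ) {i : ℕ} (s : A) (hs : s ∈ 𝒜 i) :
    Function.Surjective (Away.map φ s) := by
  classical
  intro x
  obtain ⟨n, b, hb, rfl⟩ := Away.mk_surjective ℬ (φ.2 hs) x
  obtain ⟨a, rfl⟩ := hsurj b
  refine ⟨Away.mk 𝒜 hs n (DirectSum.decompose 𝒜 a (n • i) : A) (SetLike.coe_mem _), ?_⟩
  rw [Away.map_mk]
  congr 1
  rw [GradedRingHom.map_directSumDecompose, DirectSum.decompose_of_mem_same _ hb]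

theorem map_isClosedImmersion (φ : 𝒜 →+*ᵍ ℬ) (hsurj : Function.Surjective φ)
    (hφ : HomogeneousIdeal.irrelevant ℬ ≤ (HomogeneousIdeal.irrelevant 𝒜).map φ) :
    IsClosedImmersion (Proj.map φ hφ) :=
  map_of_away 𝒜 ℬ @IsClosedImmersion φ hφ fun i _ s hs =>
    IsClosedImmersion.spec_of_surjective _ (away_map_surjective 𝒜 ℬ φ hsurj s hs)
theorem away_map_ker_nil (φ : 𝒜 →+*ᵍ ℬ) (hker : ∀ a : A, φ a = 0 → IsNilpotent a) {i : ℕ} (s : A) (hs : s ∈ 𝒜 i) :
    RingHom.ker (Away.map φ s) ≤ nilradical (Away 𝒜 s) := by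
  intro x hx
  rw [RingHom.mem_ker] at hx
  obtain ⟨n, a, ha, rfl⟩ := Away.mk_surjective 𝒜 hs x
  rw [Away.map_mk, HomogeneousLocalization.ext_iff_val, Away.val_mk, HomogeneousLocalization.val_zero,
    Localization.mk_eq_mk', IsLocalization.mk'_eq_zero_iff] at hx
  obtain ⟨⟨_, m, rfl⟩, hm⟩ := hx
  simp only at hm
  have h1 : φ (s ^ m * a) = 0 := by rw [map_mul, map_pow]; exact hm
  obtain ⟨k, hk⟩ := hker _ h1
  rw [mem_nilradical]
  refine ⟨k, ?_⟩
  rw [HomogeneousLocalization.ext_iff_val, HomogeneousLocalization.val_pow, Away.val_mk,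
    HomogeneousLocalization.val_zero, Localization.mk_pow, Localization.mk_eq_mk', IsLocalization.mk'_eq_zero_iff]
  refine ⟨⟨s ^ (m * k), _, rfl⟩, ?_⟩
  simp only
  rw [pow_mul, ← mul_pow, hk]

theorem map_isDominant (φ : 𝒜 →+*ᵍ ℬ) (hφ : HomogeneousIdeal.irrelevant ℬ ≤ (HomogeneousIdeal.irrelevant 𝒜).map φ)
    (hker : ∀ a : A, φ a = 0 → IsNilpotent a) : IsDominant (Proj.map φ hφ) :=
  map_of_away 𝒜 ℬ @IsDominant φ hφ fun i _ s hs =>
    ⟨(PrimeSpectrum.denseRange_comap_iff_ker_le_nilRadical _).mpr (away_map_ker_nil 𝒜 ℬ φ hker s hs)⟩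
end

end Groth.Agent.Lib.ProjMap_helper3

namespace Groth.Agent.Lib.ProjMap_helper3

section
variable {A B σ τ : Type u} [CommRing A] [SetLike σ A] [AddSubgroupClass σ A] [CommRing B] [SetLike τ B] [AddSubgroupClass τ B]
  (𝒜 : ℕ → σ) [GradedRing 𝒜] (ℬ : ℕ → τ) [GradedRing ℬ]

theorem away_map_comp_fromZero (φ : 𝒜 →+*ᵍ ℬ) (s : A) :
    (Away.map φ s).comp (fromZeroRingHom 𝒜 _) = (fromZeroRingHom ℬ _).comp φ.gradedZeroRingHom := by
  ext a
  simp only [RingHom.comp_apply]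
  simp [fromZeroRingHom, Away.map, HomogeneousLocalization.map_mk]

theorem map_toSpecZero (φ : 𝒜 →+*ᵍ ℬ) (hφ : HomogeneousIdeal.irrelevant ℬ ≤ (HomogeneousIdeal.irrelevant 𝒜).map φ) :
    Proj.map φ hφ ≫ Proj.toSpecZero 𝒜 =
      Proj.toSpecZero ℬ ≫ Spec.map (CommRingCat.ofHom φ.gradedZeroRingHom) := by
  refine (Proj.mapAffineOpenCover φ hφ).openCover.hom_ext _ _ ?_
  rintro ⟨⟨i, hi⟩, ⟨s, hs⟩⟩
  have hs' : s ∈ 𝒜 i := hs
  change Proj.awayι ℬ (φ s) (φ.2 hs') hi ≫ _ = Proj.awayι ℬ (φ s) (φ.2 hs') hi ≫ _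
  clear hs
  rw [Proj.awayι_comp_map_assoc φ hφ hi s hs', Proj.awayι_toSpecZero, Proj.awayι_toSpecZero_assoc,
    ← Spec.map_comp, ← Spec.map_comp, ← CommRingCat.ofHom_comp, ← CommRingCat.ofHom_comp,
    away_map_comp_fromZero]
end

end Groth.Agent.Lib.ProjMap_helper3

namespace Groth.Agent.Lib.ProjMap_helper3

section
variable {A B σ τ : Type u} [CommRing A] [SetLike σ A] [AddSubgroupClass σ A] [CommRing B] [SetLike τ B] [AddSubgroupClass τ B]
  (𝒜 : ℕ → σ) [GradedRing 𝒜] (ℬ : ℕ → τ) [GradedRing ℬ]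

theorem away_map_bijective (φ : 𝒜 →+*ᵍ ℬ) (hbij : ∀ n : ℕ, 0 < n → Set.BijOn φ (𝒜 n) (ℬ n))
    {i : ℕ} (hi : 0 < i) (s : A) (hs : s ∈ 𝒜 i) : Function.Bijective (Away.map φ s) := by
  constructor
  · rw [injective_iff_map_eq_zero]
    intro x hx
    obtain ⟨n, a, ha, rfl⟩ := Away.mk_surjective 𝒜 hs x
    rw [Away.map_mk, HomogeneousLocalization.ext_iff_val, Away.val_mk, HomogeneousLocalization.val_zero,
      Localization.mk_eq_mk', IsLocalization.mk'_eq_zero_iff] at hx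
    obtain ⟨⟨_, m, rfl⟩, hm⟩ := hx
    simp only at hm
    -- s^(m+1) * a has positive degree and maps to zero
    have hdeg : s ^ (m + 1) * a ∈ 𝒜 ((m + 1) • i + n • i) :=
      SetLike.mul_mem_graded (SetLike.pow_mem_graded _ hs) ha
    have hpos : 0 < (m + 1) • i + n • i := by simp only [smul_eq_mul]; positivity
    have h0 : φ (s ^ (m + 1) * a) = φ 0 := by
      rw [map_mul, map_pow, map_zero, pow_succ]
      calc φ s ^ m * φ s * φ a = φ s * (φ s ^ m * φ a) := by ring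
        _ = 0 := by rw [hm, mul_zero]
    have h1 : s ^ (m + 1) * a = 0 := (hbij _ hpos).injOn hdeg (zero_mem _) h0
    rw [HomogeneousLocalization.ext_iff_val, Away.val_mk, HomogeneousLocalization.val_zero,
      Localization.mk_eq_mk', IsLocalization.mk'_eq_zero_iff]
    exact ⟨⟨s ^ (m + 1), _, rfl⟩, h1⟩
  · intro x
    obtain ⟨n, b, hb, rfl⟩ := Away.mk_surjective ℬ (φ.2 hs) x
    have hdeg : b * φ s ∈ ℬ ((n + 1) • i) := by
      have := SetLike.mul_mem_graded hb (φ.2 hs)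
      rwa [show n • i + i = (n + 1) • i by simp [add_mul]] at this
    have hpos : 0 < (n + 1) • i := by simp only [smul_eq_mul]; positivity
    obtain ⟨a, ha, hab⟩ := (hbij _ hpos).surjOn hdeg
    refine ⟨Away.mk 𝒜 hs (n + 1) a ha, ?_⟩
    rw [Away.map_mk, HomogeneousLocalization.ext_iff_val, Away.val_mk, Away.val_mk, Localization.mk_eq_mk_iff,
      Localization.r_iff_exists]
    refine ⟨1, ?_⟩
    simp only [OneMemClass.coe_one, one_mul]
    rw [hab, pow_succ]
    change φ s ^ n * (b * φ s) = φ s ^ n * φ s * b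
    ring

theorem map_isIso (φ : 𝒜 →+*ᵍ ℬ) (hbij : ∀ n : ℕ, 0 < n → Set.BijOn φ (𝒜 n) (ℬ n))
    (hφ : HomogeneousIdeal.irrelevant ℬ ≤ (HomogeneousIdeal.irrelevant 𝒜).map φ) :
    IsIso (Proj.map φ hφ) := by
  refine map_of_away 𝒜 ℬ (MorphismProperty.isomorphisms Scheme.{u}) φ hφ
    fun i hi s hs => ?_
  have : IsIso (CommRingCat.ofHom (Away.map φ s)) :=
    (ConcreteCategory.isIso_iff_bijective _).mpr (away_map_bijective 𝒜 ℬ φ hbij hi s hs)
  exact (inferInstance : IsIso (Spec.map (CommRingCat.ofHom (Away.map φ s))))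
end

end Groth.Agent.Lib.ProjMap_helper3

namespace Groth.Agent.Lib.ProjMap_helper3

section
variable {A B σ τ : Type u} [CommRing A] [SetLike σ A] [AddSubgroupClass σ A] [CommRing B] [SetLike τ B] [AddSubgroupClass τ B]
  (𝒜 : ℕ → σ) [GradedRing 𝒜] (ℬ : ℕ → τ) [GradedRing ℬ]

/-- A graded homomorphism bijective in all large degrees induces bijections on the degree zero localizations. -/
theorem away_map_bijective_of_eventually (φ : 𝒜 →+*ᵍ ℬ) (n₀ : ℕ)
    (hbij : ∀ n : ℕ, n₀ ≤ n → Set.BijOn φ (𝒜 n) (ℬ n))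
    {i : ℕ} (hi : 0 < i) (s : A) (hs : s ∈ 𝒜 i) : Function.Bijective (Away.map φ s) := by
  constructor
  · rw [injective_iff_map_eq_zero]
    intro x hx
    obtain ⟨n, a, ha, rfl⟩ := Away.mk_surjective 𝒜 hs x
    rw [Away.map_mk, HomogeneousLocalization.ext_iff_val, Away.val_mk, HomogeneousLocalization.val_zero,
      Localization.mk_eq_mk', IsLocalization.mk'_eq_zero_iff] at hx
    obtain ⟨⟨_, m, rfl⟩, hm⟩ := hx
    simp only at hm
    have hdeg : s ^ (m + n₀) * a ∈ 𝒜 ((m + n₀) • i + n • i) :=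
      SetLike.mul_mem_graded (SetLike.pow_mem_graded _ hs) ha
    have hpos : n₀ ≤ (m + n₀) • i + n • i := by
      simp only [smul_eq_mul]
      calc n₀ ≤ (m + n₀) * 1 := by omega
        _ ≤ (m + n₀) * i := Nat.mul_le_mul_left _ hi
        _ ≤ (m + n₀) * i + n * i := Nat.le_add_right _ _
    have h0 : φ (s ^ (m + n₀) * a) = φ 0 := by
      rw [map_mul, map_pow, map_zero, pow_add]
      calc φ s ^ m * φ s ^ n₀ * φ a = φ s ^ n₀ * (φ s ^ m * φ a) := by ring
        _ = 0 := by rw [hm, mul_zero]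
    have h1 : s ^ (m + n₀) * a = 0 := (hbij _ hpos).injOn hdeg (zero_mem _) h0
    rw [HomogeneousLocalization.ext_iff_val, Away.val_mk, HomogeneousLocalization.val_zero,
      Localization.mk_eq_mk', IsLocalization.mk'_eq_zero_iff]
    exact ⟨⟨s ^ (m + n₀), _, rfl⟩, h1⟩
  · intro x
    obtain ⟨n, b, hb, rfl⟩ := Away.mk_surjective ℬ (φ.2 hs) x
    have hdeg : b * φ s ^ n₀ ∈ ℬ ((n + n₀) • i) := by
      have := SetLike.mul_mem_graded hb (SetLike.pow_mem_graded n₀ (φ.2 hs))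
      rwa [show n • i + n₀ • i = (n + n₀) • i by simp [add_mul]] at this
    have hpos : n₀ ≤ (n + n₀) • i := by
      simp only [smul_eq_mul]
      calc n₀ ≤ (n + n₀) * 1 := by omega
        _ ≤ (n + n₀) * i := Nat.mul_le_mul_left _ hi
    obtain ⟨a, ha, hab⟩ := (hbij _ hpos).surjOn hdeg
    refine ⟨Away.mk 𝒜 hs (n + n₀) a ha, ?_⟩
    rw [Away.map_mk, HomogeneousLocalization.ext_iff_val, Away.val_mk, Away.val_mk, Localization.mk_eq_mk_iff,
      Localization.r_iff_exists]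
    refine ⟨1, ?_⟩
    simp only [OneMemClass.coe_one, one_mul]
    rw [hab, pow_add]
    change φ s ^ n * (b * φ s ^ n₀) = φ s ^ n * φ s ^ n₀ * b
    ring

/-- A graded homomorphism bijective in all large degrees induces an isomorphism on `Proj`. -/
theorem map_isIso_of_eventually (φ : 𝒜 →+*ᵍ ℬ) (n₀ : ℕ) (hbij : ∀ n : ℕ, n₀ ≤ n → Set.BijOn φ (𝒜 n) (ℬ n))
    (hφ : HomogeneousIdeal.irrelevant ℬ ≤ (HomogeneousIdeal.irrelevant 𝒜).map φ) :
    IsIso (Proj.map φ hφ) := by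
  refine map_of_away 𝒜 ℬ (MorphismProperty.isomorphisms Scheme.{u}) φ hφ
    fun i hi s hs => ?_
  have : IsIso (CommRingCat.ofHom (Away.map φ s)) :=
    (ConcreteCategory.isIso_iff_bijective _).mpr (away_map_bijective_of_eventually 𝒜 ℬ φ n₀ hbij hi s hs)
  exact (inferInstance : IsIso (Spec.map (CommRingCat.ofHom (Away.map φ s))))

/-- The image of `Proj.map φ` for a surjective `φ` consists of the points containing the kernel. -/
theorem range_map_of_surjective (φ : 𝒜 →+*ᵍ ℬ) (hsurj : Function.Surjective φ)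
    (hφ : HomogeneousIdeal.irrelevant ℬ ≤ (HomogeneousIdeal.irrelevant 𝒜).map φ) :
    Set.range (Proj.map φ hφ).base =
      {p : Proj 𝒜 | ∀ a : A, φ a = 0 → a ∈ p.asHomogeneousIdeal.toIdeal} := by
  ext p
  constructor
  · rintro ⟨q, rfl⟩ a ha
    change a ∈ (q.asHomogeneousIdeal.comap φ).toIdeal
    rw [HomogeneousIdeal.toIdeal_comap, Ideal.mem_comap]
    change φ a ∈ _
    rw [ha]
    exact zero_mem _
  · intro hp
    have hker : RingHom.ker (φ : A →+* B) ≤ p.asHomogeneousIdeal.toIdeal := fun a ha => hp a ha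
    have hs' : Function.Surjective (φ : A →+* B) := hsurj
    have hprime : (p.asHomogeneousIdeal.map φ).toIdeal.IsPrime := by
      rw [HomogeneousIdeal.toIdeal_map]
      have := p.isPrime
      exact Ideal.map_isPrime_of_surjective hs' hker
    have hcomap : (p.asHomogeneousIdeal.map φ).comap φ = p.asHomogeneousIdeal := by
      apply HomogeneousIdeal.toIdeal_injective
      rw [HomogeneousIdeal.toIdeal_comap, HomogeneousIdeal.toIdeal_map]
      have := Ideal.comap_map_of_surjective (φ : A →+* B) hs' p.asHomogeneousIdeal.toIdeal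
      refine this.trans ?_
      rw [sup_eq_left]
      exact hker
    have hnot : ¬ HomogeneousIdeal.irrelevant ℬ ≤ p.asHomogeneousIdeal.map φ := by
      intro hle
      apply p.not_irrelevant_le
      intro a ha
      rw [← hcomap]
      change a ∈ (p.asHomogeneousIdeal.map φ).comap φ
      rw [← SetLike.mem_coe, HomogeneousIdeal.coe_comap, Set.mem_preimage]
      apply hle
      change φ a ∈ HomogeneousIdeal.irrelevant ℬ
      have ha' : a ∈ HomogeneousIdeal.irrelevant 𝒜 := ha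
      rw [HomogeneousIdeal.mem_irrelevant_iff, GradedRing.proj_apply] at ha' ⊢
      rw [← GradedRingHom.map_directSumDecompose, ha', map_zero]
    refine ⟨⟨p.asHomogeneousIdeal.map φ, hprime, hnot⟩, ?_⟩
    apply ProjectiveSpectrum.ext
    exact hcomap

/-- For a surjective graded homomorphism with nilpotent kernel, `Proj.map` is bijective on points. -/
theorem map_bijective_of_ker_nil (φ : 𝒜 →+*ᵍ ℬ) (hsurj : Function.Surjective φ)
    (hker : ∀ a : A, φ a = 0 → IsNilpotent a)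
    (hφ : HomogeneousIdeal.irrelevant ℬ ≤ (HomogeneousIdeal.irrelevant 𝒜).map φ) :
    Function.Bijective (Proj.map φ hφ).base := by
  constructor
  · have := map_isClosedImmersion 𝒜 ℬ φ hsurj hφ
    exact (Proj.map φ hφ).isClosedEmbedding.injective
  · rw [← Set.range_eq_univ, range_map_of_surjective 𝒜 ℬ φ hsurj hφ, Set.eq_univ_iff_forall]
    intro p a ha
    have := p.isPrime
    obtain ⟨k, hk⟩ := hker a ha
    exact p.isPrime.mem_of_pow_mem k (hk ▸ zero_mem _)
end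

end Groth.Agent.Lib.ProjMap_helper3
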