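import Groth.Prelude.Def_CohB1
import Groth.Agent.Lib.ProjMap_helper3
universe u
open CategoryTheory CategoryTheory.Limits AlgebraicGeometry HomogeneousLocalization

namespace Groth.Agent.Lib.ProjSpace_helper3
open CohB1

section
variable (n : ℕ) (R : Type u) [CommRing R]

/-- evaluation at the point `[1:0:…:0]` -/
noncomputable def evalPt : MvPolynomial (Fin (n + 1)) R →+* R :=
  MvPolynomial.eval (fun i => if i = 0 then 1 else 0)

theorem evalPt_X0 : evalPt n R (MvPolynomial.X 0) = 1 := by simp [evalPt]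

theorem X0_mem : (MvPolynomial.X 0 : MvPolynomial (Fin (n + 1)) R) ∈ polyGrading n R 1 :=
  MvPolynomial.isHomogeneous_X R 0

/-- the retraction `(R[X]_{X₀})₀ → R` -/
noncomputable def awayRetract : Away (polyGrading n R) (MvPolynomial.X 0) →+* R :=
  (IsLocalization.Away.lift (MvPolynomial.X 0 : MvPolynomial (Fin (n + 1)) R) (g := evalPt n R)
      (by rw [evalPt_X0]; exact isUnit_one)).comp
    (algebraMap (Away (polyGrading n R) (MvPolynomial.X 0)) (Localization.Away (MvPolynomial.X 0 : MvPolynomial (Fin (n + 1)) R)))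

theorem awayRetract_comp :
    (awayRetract n R).comp ((fromZeroRingHom (polyGrading n R) _).comp (algebraMap R (polyGrading n R 0))) =
      RingHom.id R := by
  ext r
  simp only [RingHom.comp_apply, RingHom.id_apply, awayRetract, HomogeneousLocalization.algebraMap_apply]
  have : (fromZeroRingHom (polyGrading n R) (Submonoid.powers (MvPolynomial.X 0))
      (algebraMap R (polyGrading n R 0) r)).val =
      algebraMap _ _ (MvPolynomial.C r : MvPolynomial (Fin (n + 1)) R) := by
    simp only [fromZeroRingHom, RingHom.coe_mk, MonoidHom.coe_mk, OneHom.coe_mk, HomogeneousLocalization.val_mk]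
    exact Localization.mk_one_eq_algebraMap (MvPolynomial.C r)
  rw [this, IsLocalization.Away.lift_eq]
  simp [evalPt]

/-- The section `Spec R → P^n_R` at `[1:0:…:0]`. -/
noncomputable def sectionPt : Spec (CommRingCat.of R) ⟶ ProjSpace n R :=
  Spec.map (CommRingCat.ofHom (awayRetract n R)) ≫
    Proj.awayι (polyGrading n R) (MvPolynomial.X 0) (X0_mem n R) one_pos

theorem sectionPt_toSpec : sectionPt n R ≫ ProjSpace.toSpec n R = 𝟙 _ := by
  have key := Proj.awayι_toSpecZero (polyGrading n R) (MvPolynomial.X 0) (X0_mem n R) one_pos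
  change (Spec.map (CommRingCat.ofHom (awayRetract n R)) ≫
    Proj.awayι (polyGrading n R) (MvPolynomial.X 0) (X0_mem n R) one_pos) ≫
    (Proj.toSpecZero (polyGrading n R) ≫ Spec.map (CommRingCat.ofHom (algebraMap R (polyGrading n R 0)))) = 𝟙 _
  rw [Category.assoc, reassoc_of% key, ← Spec.map_comp, ← Spec.map_comp,
    ← CommRingCat.ofHom_comp, ← CommRingCat.ofHom_comp, awayRetract_comp]
  exact Spec.map_id _

instance : Surjective (ProjSpace.toSpec n R) := by
  refine ⟨fun x => ⟨(sectionPt n R).base x, ?_⟩⟩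
  rw [← Scheme.Hom.comp_apply, sectionPt_toSpec]
  rfl

end
end Groth.Agent.Lib.ProjSpace_helper3

namespace Groth.Agent.Lib.ProjSpace_helper3
open CohB1

section
variable (R : Type u) [CommRing R]

theorem eq_C_mul_X_pow {n : ℕ} {p : MvPolynomial (Fin 1) R} (hp : p ∈ polyGrading 0 R n) :
    p = MvPolynomial.C (p.coeff (Finsupp.single 0 n)) * MvPolynomial.X 0 ^ n := by
  have hp' : p.IsHomogeneous n := hp
  rw [MvPolynomial.C_mul_X_pow_eq_monomial]
  ext d
  rw [MvPolynomial.coeff_monomial]
  split_ifs with h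
  · rw [h]
  · by_contra hne
    apply h
    have hd := hp' hne
    refine Finsupp.ext fun i => ?_
    fin_cases i
    simp only [Fin.zero_eta, Fin.isValue, Finsupp.single_eq_same]
    rw [← hd]
    simp [Finsupp.weight_apply, Finsupp.sum_fintype]

theorem irrelevant_le_span :
    (HomogeneousIdeal.irrelevant (polyGrading 0 R)).toIdeal ≤
      Ideal.span (Set.range fun _ : Unit => (MvPolynomial.X 0 : MvPolynomial (Fin 1) R)) := by
  rw [HomogeneousIdeal.toIdeal_irrelevant_le]
  intro i hi p hp
  have hp' : p ∈ polyGrading 0 R i := hp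
  rw [eq_C_mul_X_pow R hp', ← Nat.sub_add_cancel hi, pow_succ, ← mul_assoc]
  exact Ideal.mul_mem_left _ _ (Ideal.subset_span ⟨(), rfl⟩)

theorem basicOpen_X0 : Proj.basicOpen (polyGrading 0 R) (MvPolynomial.X 0) = ⊤ := by
  have := Proj.iSup_basicOpen_eq_top (polyGrading 0 R) _ (irrelevant_le_span R)
  simpa using this

theorem fromZero_bijective :
    Function.Bijective ((fromZeroRingHom (polyGrading 0 R) (Submonoid.powers (MvPolynomial.X 0))).comp
      (algebraMap R (polyGrading 0 R 0))) := by
  constructor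
  · intro a b hab
    have := congr_arg (awayRetract 0 R) hab
    have key := awayRetract_comp 0 R
    have ka := congr_arg (fun ψ => ψ a) key
    have kb := congr_arg (fun ψ => ψ b) key
    simp only [RingHom.comp_apply, RingHom.id_apply] at ka kb this
    rw [← ka, ← kb, this]
  · intro x
    obtain ⟨n, a, ha, rfl⟩ := Away.mk_surjective (polyGrading 0 R) (X0_mem 0 R) x
    have ha' : a ∈ polyGrading 0 R n := by simpa using ha
    obtain ⟨c, hc⟩ : ∃ c, a = MvPolynomial.C c * MvPolynomial.X 0 ^ n := ⟨_, eq_C_mul_X_pow R ha'⟩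
    subst hc
    refine ⟨c, ?_⟩
    rw [HomogeneousLocalization.ext_iff_val, Away.val_mk]
    simp only [RingHom.comp_apply, fromZeroRingHom, RingHom.coe_mk, MonoidHom.coe_mk, OneHom.coe_mk,
      HomogeneousLocalization.val_mk]
    rw [Localization.mk_eq_mk_iff, Localization.r_iff_exists]
    refine ⟨1, ?_⟩
    change (1 : MvPolynomial (Fin 1) R) * (MvPolynomial.X 0 ^ n * MvPolynomial.C c) =
      1 * (1 * (MvPolynomial.C c * MvPolynomial.X 0 ^ n))
    ring

theorem toSpec_zero_isIso : IsIso (ProjSpace.toSpec 0 R) := by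
  have h1 : IsIso (Proj.awayι (polyGrading 0 R) (MvPolynomial.X 0) (X0_mem 0 R) one_pos) := by
    have : (Proj.awayι (polyGrading 0 R) (MvPolynomial.X 0) (X0_mem 0 R) one_pos).opensRange = ⊤ := by
      rw [Proj.opensRange_awayι, basicOpen_X0]
    have hs : Surjective (Proj.awayι (polyGrading 0 R) (MvPolynomial.X 0) (X0_mem 0 R) one_pos) := by
      refine ⟨fun x => ?_⟩
      have hx : x ∈ (Proj.awayι (polyGrading 0 R) (MvPolynomial.X 0) (X0_mem 0 R) one_pos).opensRange :=
        this ▸ trivial
      exact hx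
    exact IsOpenImmersion.isIso _
  have h2 : IsIso (Spec.map (CommRingCat.ofHom ((fromZeroRingHom (polyGrading 0 R)
      (Submonoid.powers (MvPolynomial.X 0))).comp (algebraMap R (polyGrading 0 R 0))))) := by
    have : IsIso (CommRingCat.ofHom ((fromZeroRingHom (polyGrading 0 R)
      (Submonoid.powers (MvPolynomial.X 0))).comp (algebraMap R (polyGrading 0 R 0)))) :=
      (ConcreteCategory.isIso_iff_bijective _).mpr (fromZero_bijective R)
    infer_instance
  have key := Proj.awayι_toSpecZero (polyGrading 0 R) (MvPolynomial.X 0) (X0_mem 0 R) one_pos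
  have h3 : Proj.awayι (polyGrading 0 R) (MvPolynomial.X 0) (X0_mem 0 R) one_pos ≫
      (Proj.toSpecZero (polyGrading 0 R) ≫ Spec.map (CommRingCat.ofHom (algebraMap R (polyGrading 0 R 0)))) =
      Spec.map (CommRingCat.ofHom ((fromZeroRingHom (polyGrading 0 R)
      (Submonoid.powers (MvPolynomial.X 0))).comp (algebraMap R (polyGrading 0 R 0)))) := by
    rw [reassoc_of% key, ← Spec.map_comp, ← CommRingCat.ofHom_comp]
  change IsIso (Proj.toSpecZero (polyGrading 0 R) ≫ Spec.map (CommRingCat.ofHom (algebraMap R (polyGrading 0 R 0))))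
  have h4 : IsIso (Proj.awayι (polyGrading 0 R) (MvPolynomial.X 0) (X0_mem 0 R) one_pos ≫
      (Proj.toSpecZero (polyGrading 0 R) ≫ Spec.map (CommRingCat.ofHom (algebraMap R (polyGrading 0 R 0))))) := by
    rw [h3]; exact h2
  exact IsIso.of_isIso_comp_left (Proj.awayι (polyGrading 0 R) (MvPolynomial.X 0) (X0_mem 0 R) one_pos) _
end
end Groth.Agent.Lib.ProjSpace_helper3
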