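import Mathlib
import Groth.Prelude.Def_CohB1
import Groth.Agent.Lib.ProjSpace_helper3

/-!
# Global functions on projective space (helper5)

`Γ(P^n_R, O) = R`.
-/

set_option autoImplicit false

universe u

open CategoryTheory CategoryTheory.Limits AlgebraicGeometry HomogeneousLocalization MvPolynomial

namespace Groth.Agent.ProjGamma5

open CohB1

variable (n : ℕ) (R : Type u) [CommRing R]

theorem X_mem (i : Fin (n + 1)) :
    (X i : MvPolynomial (Fin (n + 1)) R) ∈ polyGrading n R 1 :=
  MvPolynomial.isHomogeneous_X R i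

variable {n R}

/-! ### algebra -/

lemma eq_single_of_le {m : Fin (n + 1) →₀ ℕ} {i : Fin (n + 1)} {k : ℕ}
    (hdeg : ∑ a, m a = k) (hki : k ≤ m i) : m = Finsupp.single i k := by
  have h1 : ∑ a, m a = m i + ∑ a ∈ Finset.univ.erase i, m a :=
    (Finset.add_sum_erase _ _ (Finset.mem_univ i)).symm
  have h2 : ∑ a ∈ Finset.univ.erase i, m a = 0 := by omega
  have h3 : m i = k := by omega
  rw [Finset.sum_eq_zero_iff] at h2
  ext a
  by_cases ha : a = i
  · subst ha
    rw [Finsupp.single_eq_same, h3]
  · rw [Finsupp.single_eq_of_ne ha]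
    exact h2 a (Finset.mem_erase.mpr ⟨ha, Finset.mem_univ a⟩)

/-- the core computation: `p / X_i^k = q / X_j^l` forces `p = c X_i^k`. -/
lemma eq_C_mul_X_pow_of_mul_eq {i j : Fin (n + 1)} (hij : i ≠ j) {k l : ℕ}
    {p q : MvPolynomial (Fin (n + 1)) R} (hp : p ∈ polyGrading n R k)
    (h : p * X j ^ l = q * X i ^ k) :
    p = C (p.coeff (Finsupp.single i k)) * X i ^ k := by
  have hp' : p.IsHomogeneous k := hp
  rw [MvPolynomial.C_mul_X_pow_eq_monomial]
  ext m
  rw [MvPolynomial.coeff_monomial]
  split_ifs with hm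
  · rw [hm]
  · by_contra hne
    apply hm
    have hdeg := hp' hne
    have hdeg' : ∑ a, m a = k := by
      rw [← hdeg]
      simp [Finsupp.weight_apply, Finsupp.sum_fintype]
    have hc : coeff (m + Finsupp.single j l) (p * X j ^ l) = coeff m p := by
      rw [X_pow_eq_monomial, coeff_mul_monomial, mul_one]
    have hc2 : coeff (m + Finsupp.single j l) (q * X i ^ k) ≠ 0 := by
      rw [← h, hc]
      exact hne
    rw [X_pow_eq_monomial, coeff_mul_monomial'] at hc2
    have hle : Finsupp.single i k ≤ m + Finsupp.single j l := by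
      by_contra hh
      exact hc2 (if_neg hh)
    have hki : k ≤ m i := by
      have := hle i
      rw [Finsupp.single_eq_same, Finsupp.add_apply, Finsupp.single_eq_of_ne hij,
        add_zero] at this
      exact this
    exact (eq_single_of_le hdeg' hki).symm

lemma isRegular_XX (i j : Fin (n + 1)) (N : ℕ) :
    IsRegular ((X i * X j : MvPolynomial (Fin (n + 1)) R) ^ N) :=
  (isRegular_X.mul isRegular_X).pow N

/-- from equality in `A_(X_i X_j)` to an equality of polynomials. -/
lemma mul_eq_of_awayMap_eq {i j : Fin (n + 1)} {k l : ℕ}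
    {p q : MvPolynomial (Fin (n + 1)) R} (hp : p ∈ polyGrading n R (k • 1))
    (hq : q ∈ polyGrading n R (l • 1))
    (h : awayMap (polyGrading n R) (X_mem n R j) (rfl : X i * X j = X i * X j)
        (Away.mk (polyGrading n R) (X_mem n R i) k p hp) =
      awayMap (polyGrading n R) (X_mem n R i) (mul_comm (X i) (X j) : X i * X j = X j * X i)
        (Away.mk (polyGrading n R) (X_mem n R j) l q hq)) :
    p * X j ^ l = q * X i ^ k := by
  rw [awayMap_mk, awayMap_mk] at h
  have h2 := congrArg HomogeneousLocalization.val h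
  rw [Away.val_mk, Away.val_mk, Localization.mk_eq_mk_iff, Localization.r_iff_exists] at h2
  obtain ⟨⟨c, N, rfl⟩, hc⟩ := h2
  have hc' : (X i * X j : MvPolynomial (Fin (n + 1)) R) ^ l * (p * X j ^ k) =
      (X i * X j) ^ k * (q * X i ^ l) := (isRegular_XX i j N).left hc
  have hreg : IsRegular ((X i : MvPolynomial (Fin (n + 1)) R) ^ l * X j ^ k) :=
    (isRegular_X_pow l).mul (isRegular_X_pow k)
  apply hreg.left
  show X i ^ l * X j ^ k * (p * X j ^ l) = X i ^ l * X j ^ k * (q * X i ^ k)
  calc X i ^ l * X j ^ k * (p * X j ^ l) = (X i * X j) ^ l * (p * X j ^ k) := by ring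
    _ = (X i * X j) ^ k * (q * X i ^ l) := hc'
    _ = X i ^ l * X j ^ k * (q * X i ^ k) := by ring

/-- the constants `R → A_(X_i)`. -/
noncomputable def ψ (i : Fin (n + 1)) : R →+* Away (polyGrading n R) (X i) :=
  (fromZeroRingHom (polyGrading n R) _).comp (algebraMap R (polyGrading n R 0))

lemma mk_eq_ψ (i : Fin (n + 1)) (k : ℕ) (c : R)
    (hp : (C c * X i ^ k : MvPolynomial (Fin (n + 1)) R) ∈ polyGrading n R (k • 1)) :
    Away.mk (polyGrading n R) (X_mem n R i) k (C c * X i ^ k) hp = ψ i c := by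
  rw [HomogeneousLocalization.ext_iff_val, Away.val_mk]
  simp only [ψ, RingHom.comp_apply, fromZeroRingHom, RingHom.coe_mk, MonoidHom.coe_mk,
    OneHom.coe_mk, HomogeneousLocalization.val_mk]
  rw [Localization.mk_eq_mk_iff, Localization.r_iff_exists]
  refine ⟨1, ?_⟩
  change (1 : MvPolynomial (Fin (n + 1)) R) * (1 * (C c * X i ^ k)) = 1 * (X i ^ k * C c)
  ring

/-- elements of `A_(X_i)` and `A_(X_j)` (`i ≠ j`) agreeing in `A_(X_i X_j)` are constants. -/
theorem exists_eq_ψ {i j : Fin (n + 1)} (hij : i ≠ j)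
    (a : Away (polyGrading n R) (X i)) (b : Away (polyGrading n R) (X j))
    (h : awayMap (polyGrading n R) (X_mem n R j) (rfl : X i * X j = X i * X j) a =
      awayMap (polyGrading n R) (X_mem n R i) (mul_comm (X i) (X j) : X i * X j = X j * X i) b) :
    ∃ r : R, a = ψ i r := by
  obtain ⟨k, p, hp, rfl⟩ := Away.mk_surjective (polyGrading n R) (X_mem n R i) a
  obtain ⟨l, q, hq, rfl⟩ := Away.mk_surjective (polyGrading n R) (X_mem n R j) b
  have h1 := mul_eq_of_awayMap_eq hp hq h
  have hp' : p ∈ polyGrading n R k := by simpa using hp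
  have h2 := eq_C_mul_X_pow_of_mul_eq hij hp' h1
  refine ⟨p.coeff (Finsupp.single i k), ?_⟩
  have hp2 : (C (p.coeff (Finsupp.single i k)) * X i ^ k : MvPolynomial (Fin (n + 1)) R) ∈
      polyGrading n R (k • 1) := h2 ▸ hp
  rw [← mk_eq_ψ i k _ hp2]
  congr 1

/-- `A_(X_i) → A_(X_i X_j)` is injective. -/
theorem awayMap_injective (i j : Fin (n + 1)) :
    Function.Injective (awayMap (polyGrading n R) (X_mem n R j)
      (rfl : X i * X j = X i * X j)) := by
  rw [injective_iff_map_eq_zero]
  intro a ha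
  obtain ⟨k, p, hp, rfl⟩ := Away.mk_surjective (polyGrading n R) (X_mem n R i) a
  rw [awayMap_mk] at ha
  have h2 := congrArg HomogeneousLocalization.val ha
  rw [Away.val_mk, HomogeneousLocalization.val_zero, Localization.mk_eq_mk'_apply,
    IsLocalization.mk'_eq_zero_iff] at h2
  obtain ⟨⟨c, N, rfl⟩, hc⟩ := h2
  have h3 : p * X j ^ k = 0 := (isRegular_XX i j N).left (hc.trans (mul_zero _).symm)
  have h4 : p = 0 := (isRegular_X_pow k).right (h3.trans (zero_mul _).symm)
  subst h4
  rw [HomogeneousLocalization.ext_iff_val, Away.val_mk, HomogeneousLocalization.val_zero]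
  exact Localization.mk_zero _

/-! ### geometry -/

variable (n R)

/-- the standard charts. -/
noncomputable def ι (i : Fin (n + 1)) :
    Spec (CommRingCat.of (Away (polyGrading n R) (X i))) ⟶ ProjSpace n R :=
  Proj.awayι (polyGrading n R) (X i) (X_mem n R i) one_pos

lemma ι_toSpec (i : Fin (n + 1)) :
    ι n R i ≫ ProjSpace.toSpec n R = Spec.map (CommRingCat.ofHom (ψ (n := n) (R := R) i)) := by
  have key := Proj.awayι_toSpecZero (polyGrading n R) (X i) (X_mem n R i) one_pos
  change Proj.awayι (polyGrading n R) (X i) (X_mem n R i) one_pos ≫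
    (Proj.toSpecZero (polyGrading n R) ≫
      Spec.map (CommRingCat.ofHom (algebraMap R (polyGrading n R 0)))) = _
  rw [reassoc_of% key, ← Spec.map_comp, ← CommRingCat.ofHom_comp]
  rfl

/-- restriction of a global function to the `i`-th chart. -/
noncomputable def ρ (i : Fin (n + 1)) :
    Γ(ProjSpace n R, ⊤) →+* Away (polyGrading n R) (X i) :=
  ((ι n R i).appTop ≫ (Scheme.ΓSpecIso _).hom).hom

lemma ρ_toSpec (i : Fin (n + 1)) (r : Γ(Spec (CommRingCat.of R), ⊤)) :
    ρ n R i ((ProjSpace.toSpec n R).appTop.hom r) =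
      ψ i ((Scheme.ΓSpecIso (CommRingCat.of R)).hom.hom r) := by
  have h : (ProjSpace.toSpec n R).appTop ≫ (ι n R i).appTop ≫ (Scheme.ΓSpecIso _).hom =
      (Scheme.ΓSpecIso (CommRingCat.of R)).hom ≫ CommRingCat.ofHom (ψ i) := by
    rw [← Category.assoc, ← Scheme.Hom.comp_appTop, ι_toSpec, Scheme.ΓSpecIso_naturality]
  exact congrArg (fun f => f.hom r) h

/-- restriction of a global function to the overlap of two charts. -/
noncomputable def ρ₂ (i j : Fin (n + 1)) :
    Γ(ProjSpace n R, ⊤) →+* Away (polyGrading n R) (X i * X j) :=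
  ((Proj.awayι (polyGrading n R) (X i * X j) (m := 1 + 1)
    (SetLike.mul_mem_graded (X_mem n R i) (X_mem n R j)) (by norm_num)).appTop ≫
      (Scheme.ΓSpecIso _).hom).hom

lemma awayMap_ρ (i j : Fin (n + 1)) (s : Γ(ProjSpace n R, ⊤)) :
    awayMap (polyGrading n R) (X_mem n R j) (rfl : X i * X j = X i * X j) (ρ n R i s) =
      ρ₂ n R i j s := by
  have key := Proj.SpecMap_awayMap_awayι (polyGrading n R) (X_mem n R i) one_pos (X_mem n R j)
    (rfl : X i * X j = X i * X j)
  have h : ((ι n R i).appTop ≫ (Scheme.ΓSpecIso _).hom) ≫ CommRingCat.ofHom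
      (awayMap (polyGrading n R) (X_mem n R j) (rfl : X i * X j = X i * X j)) =
      (Proj.awayι (polyGrading n R) (X i * X j) (m := 1 + 1)
        (SetLike.mul_mem_graded (X_mem n R i) (X_mem n R j)) (by norm_num)).appTop ≫
          (Scheme.ΓSpecIso _).hom := by
    rw [Category.assoc, ← Scheme.ΓSpecIso_naturality, ← Category.assoc,
      ← Scheme.Hom.comp_appTop]
    congr 2
  exact congrArg (fun f => f.hom s) h

lemma awayMap_ρ' (i j : Fin (n + 1)) (s : Γ(ProjSpace n R, ⊤)) :
    awayMap (polyGrading n R) (X_mem n R i) (mul_comm (X i) (X j) : X i * X j = X j * X i)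
      (ρ n R j s) = ρ₂ n R i j s := by
  have key := Proj.SpecMap_awayMap_awayι (polyGrading n R) (X_mem n R j) one_pos (X_mem n R i)
    (mul_comm (X i) (X j) : X i * X j = X j * X i)
  have h : ((ι n R j).appTop ≫ (Scheme.ΓSpecIso _).hom) ≫ CommRingCat.ofHom
      (awayMap (polyGrading n R) (X_mem n R i)
        (mul_comm (X i) (X j) : X i * X j = X j * X i)) =
      (Proj.awayι (polyGrading n R) (X i * X j) (m := 1 + 1)
        (SetLike.mul_mem_graded (X_mem n R i) (X_mem n R j)) (by norm_num)).appTop ≫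
          (Scheme.ΓSpecIso _).hom := by
    rw [Category.assoc, ← Scheme.ΓSpecIso_naturality, ← Category.assoc,
      ← Scheme.Hom.comp_appTop]
    congr 2
  exact congrArg (fun f => f.hom s) h

lemma irrelevant_le_span :
    (HomogeneousIdeal.irrelevant (polyGrading n R)).toIdeal ≤
      Ideal.span (Set.range fun i : Fin (n + 1) => (X i : MvPolynomial (Fin (n + 1)) R)) := by
  rw [HomogeneousIdeal.toIdeal_irrelevant_le]
  intro d hd p hp
  have hp' : p.IsHomogeneous d := hp
  have hr : Set.range (fun i : Fin (n + 1) => (X i : MvPolynomial (Fin (n + 1)) R)) =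
      X '' Set.univ := by
    rw [Set.image_univ]
  show p ∈ Ideal.span _
  rw [hr, MvPolynomial.mem_ideal_span_X_image]
  intro m hm
  have hdeg := hp' (MvPolynomial.mem_support_iff.mp hm)
  by_contra hcon
  push Not at hcon
  have hm0 : m = 0 := Finsupp.ext fun i => hcon i (Set.mem_univ i)
  rw [hm0] at hdeg
  simp at hdeg
  omega

/-- the standard affine open cover. -/
noncomputable def cover : (ProjSpace n R).OpenCover :=
  (Proj.affineOpenCoverOfIrrelevantLESpan (polyGrading n R)
    (fun i : Fin (n + 1) => (X i : MvPolynomial (Fin (n + 1)) R))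
    (fun i => X_mem n R i) (fun _ => one_pos) (irrelevant_le_span n R)).openCover

theorem eq_zero_of_ρ_eq_zero (t : Γ(ProjSpace n R, ⊤)) (h : ∀ i, ρ n R i t = 0) : t = 0 := by
  refine Scheme.zero_of_zero_cover t (cover n R) (fun i => ?_)
  have key : ∀ i' : Fin (n + 1), ((ι n R i').appTop.hom t) = 0 := by
    intro i'
    have h1 := h i'
    have hinj : Function.Injective
        (Scheme.ΓSpecIso (CommRingCat.of (Away (polyGrading n R)
          (X i' : MvPolynomial (Fin (n + 1)) R)))).hom.hom :=
      (ConcreteCategory.bijective_of_isIso _).1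
    exact hinj (h1.trans (map_zero _).symm)
  exact key i

/-- `Γ(P^n_R, O) = R`. -/
theorem isIso_appTop : IsIso (ProjSpace.toSpec n R).appTop := by
  rcases n with _ | m
  · haveI := Groth.Agent.Lib.ProjSpace_helper3.toSpec_zero_isIso R
    exact inferInstanceAs (IsIso ((ProjSpace.toSpec 0 R).app ⊤))
  · rw [ConcreteCategory.isIso_iff_bijective]
    have hψinj : Function.Injective (ψ (n := m + 1) (R := R) 0) := by
      intro a b hab
      have key := Groth.Agent.Lib.ProjSpace_helper3.awayRetract_comp (m + 1) R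
      have ka := congrArg (fun φ => φ a) key
      have kb := congrArg (fun φ => φ b) key
      simp only [RingHom.comp_apply, RingHom.id_apply] at ka kb
      rw [← ka, ← kb]
      exact congrArg (Groth.Agent.Lib.ProjSpace_helper3.awayRetract (m + 1) R) hab
    have hΓinj : Function.Injective (Scheme.ΓSpecIso (CommRingCat.of R)).hom.hom :=
      (ConcreteCategory.bijective_of_isIso _).1
    constructor
    · intro a b hab
      apply hΓinj
      apply hψinj
      rw [← ρ_toSpec, ← ρ_toSpec]
      exact congrArg _ hab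
    · intro s
      obtain ⟨r, hr⟩ := exists_eq_ψ (i := (0 : Fin (m + 1 + 1))) (j := 1) (by simp)
        (ρ (m + 1) R 0 s) (ρ (m + 1) R 1 s)
        ((awayMap_ρ (m + 1) R 0 1 s).trans (awayMap_ρ' (m + 1) R 0 1 s).symm)
      refine ⟨(Scheme.ΓSpecIso (CommRingCat.of R)).inv.hom r, ?_⟩
      have hrr : (Scheme.ΓSpecIso (CommRingCat.of R)).hom.hom
          ((Scheme.ΓSpecIso (CommRingCat.of R)).inv.hom r) = r :=
        congrArg (fun f => f.hom r) (Scheme.ΓSpecIso (CommRingCat.of R)).inv_hom_id
      have h0 : ρ (m + 1) R 0 ((ProjSpace.toSpec (m + 1) R).appTop.hom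
          ((Scheme.ΓSpecIso (CommRingCat.of R)).inv.hom r)) = ρ (m + 1) R 0 s := by
        rw [ρ_toSpec, hr, hrr]
      rw [← sub_eq_zero]
      apply eq_zero_of_ρ_eq_zero
      intro i
      apply awayMap_injective i 0
      rw [map_zero, awayMap_ρ, ← awayMap_ρ', map_sub, h0, sub_self, map_zero]

end Groth.Agent.ProjGamma5
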