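import Mathlib
import Groth.Prelude
import Groth.Agent.Lib.ProjTwGen_helper5
import Groth.Agent.Lib.Tens5_helper8
import Groth.Agent.Lib.Tens6_helper8
import Groth.Agent.Lib.Tens14_helper8

/-!
# Twisting sheaves on `Proj` covered by degree-one standard opens (helper5)

`O(n)` invertible, `O(m) ⊗ O(n) ≅ O(m+n)`, `O(n) ≅ O(1)^{⊗ n}`.
-/

set_option autoImplicit false
universe u
open CategoryTheory CategoryTheory.Limits AlgebraicGeometry TopologicalSpace Opposite DirectSum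
open HomogeneousLocalization

namespace Groth.Agent.ProjTw

section
variable {R A : Type u} [CommRing R] [CommRing A] [Algebra R A] (𝒜 : ℕ → Submodule R A)
  [GradedAlgebra 𝒜]

/-- The section `f^n` of `O(k)`, `k = nd`, over `D_+(f)`. -/
def genSecK {d : ℕ} {f : A} (hf : f ∈ 𝒜 d) (n k : ℤ) (hk : k = n * d) :
    Twist.sectN (𝒜 := 𝒜) k (op (ProjectiveSpectrum.basicOpen 𝒜 f)) :=
  fracSecN 𝒜 k (f ^ n.toNat) (by simpa using SetLike.pow_mem_graded n.toNat hf)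
    (f ^ (-n).toNat) (by simpa using SetLike.pow_mem_graded (-n).toNat hf)
    (hk ▸ toNat_mul_eq n d) _
    (fun x h => x.2 (x.1.isPrime.mem_of_pow_mem _ h))

theorem isGen_genSecK {d : ℕ} (hd : 0 < d) {f : A} (hf : f ∈ 𝒜 d) (n k : ℤ) (hk : k = n * d) :
    GenLocH8.IsGen (Twist.twist 𝒜 k) (Proj.basicOpen 𝒜 f) (genSecK 𝒜 hf n k hk) := by
  subst hk
  exact isGen_genSec 𝒜 hd hf n

theorem mulSec_genSecK {d : ℕ} {f : A} (hf : f ∈ 𝒜 d) (a b m n : ℤ) (hm : m = a * d)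
    (hn : n = b * d) :
    mulSec 𝒜 m n (op (ProjectiveSpectrum.basicOpen 𝒜 f)) (genSecK 𝒜 hf a m hm)
      (genSecK 𝒜 hf b n hn) =
      genSecK 𝒜 hf (a + b) (m + n) (by rw [hm, hn]; ring) := by
  apply Subtype.ext
  funext x
  apply Subtype.ext
  show Localization.mk _ _ * Localization.mk _ _ = Localization.mk _ _
  rw [Localization.mk_mul, Localization.mk_eq_mk_iff, Localization.r_iff_exists]
  refine ⟨1, ?_⟩
  simp only [Submonoid.coe_mul, Submonoid.coe_one, one_mul]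
  rw [← pow_add, ← pow_add, ← pow_add, ← pow_add]
  congr 1
  omega

/-- Precomposition of a bilinear pairing with a morphism in the first variable. -/
noncomputable def precompBilin {X : Scheme.{u}} {M M' N P : X.Modules} (φ : M ⟶ M')
    (B : FLFH8.BilinData M' N P) : FLFH8.BilinData M N P where
  β U m n := B.β U (QCohExtn.ap φ U m) n
  add_left U m m' n := by rw [map_add, B.add_left]
  smul_left U r m n := by rw [QCohExtn.ap_smul, B.smul_left]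
  add_right U m n n' := B.add_right U _ n n'
  smul_right U r m n := B.smul_right U r _ n
  natural h m n := by rw [B.natural h, QCohExtn.ap_rF]

/-- The global section `1` of `O(0)`. -/
def oneSec0 : Twist.sectN (𝒜 := 𝒜) 0 (op (⊤ : Opens (ProjectiveSpectrum.top 𝒜))) :=
  fracSecN 𝒜 0 (i := 0) (j := 0) 1 (SetLike.GradedOne.one_mem) 1 (SetLike.GradedOne.one_mem)
    (by simp) ⊤
    (fun x h => x.1.isPrime.ne_top ((Ideal.eq_top_iff_one _).mpr h))

/-- The morphism `O ⟶ O(0)` given by the section `1`. -/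
noncomputable def unitToTwist0 : Coh.structureModule (Proj 𝒜) ⟶ Twist.twist 𝒜 0 :=
  TensH8.homOfSec (Twist.twist 𝒜 0) (oneSec0 𝒜)

theorem unitToTwist0_one {d : ℕ} {f : A} (hf : f ∈ 𝒜 d) :
    QCohExtn.ap (unitToTwist0 𝒜) (Proj.basicOpen 𝒜 f)
      (FLFH8.toM (1 : Γ(Proj 𝒜, Proj.basicOpen 𝒜 f))) = genSecK 𝒜 hf 0 0 (by simp) := by
  refine (TensH8.val_homOfSec (Twist.twist 𝒜 0) (oneSec0 𝒜) (Proj.basicOpen 𝒜 f)).trans ?_
  apply Subtype.ext
  funext x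
  apply Subtype.ext
  show Localization.mk _ _ = Localization.mk _ _
  rw [Localization.mk_eq_mk_iff, Localization.r_iff_exists]
  exact ⟨1, by simp⟩

section cover

variable (hcov : ∀ x : Proj 𝒜, ∃ f ∈ 𝒜 1, x ∈ Proj.basicOpen 𝒜 f)
include hcov

theorem isIso_unitToTwist0 : IsIso (unitToTwist0 𝒜) := by
  apply TensH8.isIso_of_isGen_cover
  intro x
  obtain ⟨f, hf, hx⟩ := hcov x
  refine ⟨Proj.basicOpen 𝒜 f, hx, FLFH8.toM 1, TensH8.isGen_one _, ?_⟩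
  rw [unitToTwist0_one 𝒜 hf]
  exact isGen_genSecK 𝒜 one_pos hf 0 0 (by simp)

theorem isInvertible_twist (n : ℤ) : PicF.IsInvertible (Twist.twist 𝒜 n) := by
  apply TensH8.isInvertible_of_gens
  intro x
  obtain ⟨f, hf, hx⟩ := hcov x
  exact ⟨Proj.basicOpen 𝒜 f, Proj.isAffineOpen_basicOpen 𝒜 f hf one_pos, hx, _,
    isGen_genSecK 𝒜 one_pos hf n n (by simp)⟩

theorem isIso_mulHom (m n : ℤ) : IsIso (mulHom 𝒜 m n) := by
  apply TensH8.isIso_of_isGen_cover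
  intro x
  obtain ⟨f, hf, hx⟩ := hcov x
  refine ⟨Proj.basicOpen 𝒜 f, hx, SecTwist.tmul _ _ _ (genSecK 𝒜 hf m m (by simp))
    (genSecK 𝒜 hf n n (by simp)),
    TensH8.isGen_tmul (isGen_genSecK 𝒜 one_pos hf m m (by simp))
      (isGen_genSecK 𝒜 one_pos hf n n (by simp)), ?_⟩
  rw [mulHom_tmul]
  exact (mulSec_genSecK 𝒜 hf m n m n (by simp) (by simp)).symm ▸
    isGen_genSecK 𝒜 one_pos hf (m + n) (m + n) (by simp)

theorem isGen_mulSec (m n : ℤ) {W : (Proj 𝒜).Opens} {s : Γ(Twist.twist 𝒜 m, W)}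
    {t : Γ(Twist.twist 𝒜 n, W)} (hs : GenLocH8.IsGen (Twist.twist 𝒜 m) W s)
    (ht : GenLocH8.IsGen (Twist.twist 𝒜 n) W t) :
    GenLocH8.IsGen (Twist.twist 𝒜 (m + n)) W (mulSec 𝒜 m n (op W) s t) := by
  haveI := isIso_mulHom 𝒜 hcov m n
  have h := TensH8.isGen_of_iso (asIso (mulHom 𝒜 m n)) (TensH8.isGen_tmul hs ht)
  rw [asIso_hom, mulHom_tmul] at h
  exact h

theorem tensorPow_iso (n : ℕ) :
    Nonempty (CohB1.tensorPow (Twist.twist 𝒜 1) n ≅ Twist.twist 𝒜 (n : ℤ)) := by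
  induction n with
  | zero =>
    haveI := isIso_unitToTwist0 𝒜 hcov
    have β : Coh.structureModule (Proj 𝒜) ≅ Twist.twist 𝒜 0 := asIso (unitToTwist0 𝒜)
    exact ⟨β⟩
  | succ n ih =>
    obtain ⟨α⟩ := ih
    let ψ : CohB1.tensorMod (CohB1.tensorPow (Twist.twist 𝒜 1) n) (Twist.twist 𝒜 1) ⟶
        Twist.twist 𝒜 ((n : ℤ) + 1) := (precompBilin α.hom (mulBilin 𝒜 (n : ℤ) 1)).toHom
    have hψ : IsIso ψ := by
      apply TensH8.isIso_of_isGen_cover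
      intro x
      obtain ⟨f, hf, hx⟩ := hcov x
      have h1 := isGen_genSecK 𝒜 one_pos hf 1 1 (by simp)
      have hn := TensH8.isGen_lpow h1 n
      refine ⟨Proj.basicOpen 𝒜 f, hx, SecTwist.tmul _ _ _ _ _, TensH8.isGen_tmul hn h1, ?_⟩
      have e : QCohExtn.ap ψ (Proj.basicOpen 𝒜 f) (SecTwist.tmul _ _ _
          (CycCov.lpow (Twist.twist 𝒜 1) (Proj.basicOpen 𝒜 f) (genSecK 𝒜 hf 1 1 (by simp)) n)
          (genSecK 𝒜 hf 1 1 (by simp))) =
          mulSec 𝒜 (n : ℤ) 1 (op (Proj.basicOpen 𝒜 f))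
            (QCohExtn.ap α.hom (Proj.basicOpen 𝒜 f)
              (CycCov.lpow (Twist.twist 𝒜 1) (Proj.basicOpen 𝒜 f) (genSecK 𝒜 hf 1 1 (by simp)) n))
            (genSecK 𝒜 hf 1 1 (by simp)) :=
        (precompBilin α.hom (mulBilin 𝒜 (n : ℤ) 1)).toHom_tmul _ _ _
      rw [e]
      exact isGen_mulSec 𝒜 hcov (n : ℤ) 1 (TensH8.isGen_of_iso α hn) h1
    rw [Nat.cast_succ]
    have β : CohB1.tensorMod (CohB1.tensorPow (Twist.twist 𝒜 1) n) (Twist.twist 𝒜 1) ≅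
        Twist.twist 𝒜 ((n : ℤ) + 1) := asIso ψ
    exact ⟨β⟩

theorem twist_all :
    (∀ n : ℤ, PicF.IsInvertible (Twist.twist 𝒜 n)) ∧
      (∀ m n : ℤ, Nonempty (CohB1.tensorMod (Twist.twist 𝒜 m) (Twist.twist 𝒜 n) ≅
        Twist.twist 𝒜 (m + n))) ∧
      ∀ n : ℕ, Nonempty (Twist.twist 𝒜 (n : ℤ) ≅ CohB1.tensorPow (Twist.twist 𝒜 1) n) := by
  refine ⟨isInvertible_twist 𝒜 hcov, fun m n => ?_, fun n => ?_⟩
  · haveI := isIso_mulHom 𝒜 hcov m n
    exact ⟨asIso (mulHom 𝒜 m n)⟩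
  · obtain ⟨α⟩ := tensorPow_iso 𝒜 hcov n
    exact ⟨α.symm⟩

end cover

end

end Groth.Agent.ProjTw
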