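import Mathlib
import Groth.Prelude
import Groth.Agent.Lib.ProjCech1_helper9
import Groth.Agent.Lib.ProjGamma_helper5
import Groth.Agent.Lib.ProjTwPow_helper5
import Groth.Agent.Lib.CechAffine_helper2
import Groth.Agent.Lib.MVVanish1_helper9
import Groth.Agent.Lib.QAffKos1_helper9

/-!
# Vanishing of the cohomology of `O(d)` on projective space (helper9)

`H^q(P^n_R, O(d)) = 0` unless `q = 0, d ≥ 0` or `q = n, d ≤ -n-1`.
-/

set_option autoImplicit false
universe u
open CategoryTheory CategoryTheory.Limits AlgebraicGeometry TopologicalSpace Opposite MvPolynomial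

namespace Groth.Agent.ProjCech

open Groth.Agent.LaurentCoef

variable {n : ℕ} {R : Type u} [CommRing R]

lemma iSup_cov : iSup (cov n R) = ⊤ := by
  apply Proj.iSup_basicOpen_eq_top (𝒜 n R) (fun i : Idx.{u} n => (X i.down : MvPolynomial (Fin (n + 1)) R))
  have h := Groth.Agent.ProjGamma5.irrelevant_le_span (n := n) (R := R)
  have e : Set.range (fun i : Idx.{u} n => (X i.down : MvPolynomial (Fin (n + 1)) R)) =
      Set.range (fun i : Fin (n + 1) => (X i : MvPolynomial (Fin (n + 1)) R)) := by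
    ext p
    constructor
    · rintro ⟨i, rfl⟩; exact ⟨i.down, rfl⟩
    · rintro ⟨i, rfl⟩; exact ⟨⟨i⟩, rfl⟩
  rw [e]
  exact h

lemma degree_pos_of_ne_zero {m : Fin (n + 1) →₀ ℕ} (hm : m ≠ 0) : 0 < m.degree := by
  rcases Nat.eq_zero_or_pos m.degree with h | h
  · exact absurd ((Finsupp.degree_eq_zero_iff m).mp h) hm
  · exact h

lemma isAffineOpen_mon {m : Fin (n + 1) →₀ ℕ} (hm : m ≠ 0) :
    IsAffineOpen (Proj.basicOpen (𝒜 n R) (mon n R m)) :=
  Proj.isAffineOpen_basicOpen (𝒜 n R) (mon n R m) (mon_mem m) (degree_pos_of_ne_zero hm)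

lemma cov_eq (i : Idx.{u} n) :
    cov n R i = Proj.basicOpen (𝒜 n R) (mon n R (Finsupp.single i.down 1)) := rfl

lemma exists_biInf_eq (s : Finset (Idx.{u} n)) (hs : s.Nonempty) :
    ∃ m : Fin (n + 1) →₀ ℕ, m ≠ 0 ∧
      (⨅ i ∈ s, cov n R i) = Proj.basicOpen (𝒜 n R) (mon n R m) := by
  classical
  induction hs using Finset.Nonempty.cons_induction with
  | singleton a =>
    refine ⟨Finsupp.single a.down 1, by simp, ?_⟩
    rw [Finset.iInf_singleton, cov_eq]
  | cons a s ha hs ih =>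
    obtain ⟨m, hm, hms⟩ := ih
    refine ⟨Finsupp.single a.down 1 + m, ?_, ?_⟩
    · intro h
      exact hm (add_eq_zero.mp h).2
    · rw [Finset.cons_eq_insert, Finset.iInf_insert, hms, cov_eq, ← mon_mul, Proj.basicOpen_mul]

lemma isAffineOpen_biInf (s : Finset (Idx.{u} n)) (hs : s.Nonempty) :
    IsAffineOpen (⨅ i ∈ s, cov n R i) := by
  obtain ⟨m, hm, h⟩ := exists_biInf_eq (R := R) s hs
  rw [h]
  exact isAffineOpen_mon hm

/-- the choice of a non-negative coordinate -/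
noncomputable def Jfun (n : ℕ) (e : Fin (n + 1) → ℤ) : Option (Idx.{u} n) := by
  classical
  exact if h : ∃ i, 0 ≤ e i then some ⟨h.choose⟩ else none

lemma Jfun_some {e : Fin (n + 1) → ℤ} {j : Idx.{u} n} (h : Jfun n e = some j) : 0 ≤ e j.down := by
  classical
  unfold Jfun at h
  split_ifs at h with h1
  · have := Option.some.inj h
    rw [← this]
    exact h1.choose_spec
  
lemma Jfun_none {e : Fin (n + 1) → ℤ} (h : Jfun.{u} n e = none) : ∀ i, e i < 0 := by
  classical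
  unfold Jfun at h
  split_ifs at h with h1
  intro i
  by_contra hc
  exact h1 ⟨i, not_lt.mp hc⟩

lemma Adm_of_insert {d : ℤ} {e : Fin (n + 1) → ℤ} {j : Idx.{u} n} (hj : 0 ≤ e j.down)
    (s : Set (Idx.{u} n)) (h : Adm.{u} n d (insert j s) e) : Adm.{u} n d s e := by
  refine ⟨h.1, fun i hi => ?_⟩
  by_cases hij : (⟨i⟩ : Idx.{u} n) = j
  · rw [← hij] at hj
    exact hj
  · apply h.2 i
    intro hmem
    rcases hmem with h1 | h1
    · exact hij h1
    · exact hi h1

/-- Čech vanishing in degrees `1 ≤ q ≤ n` -/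
theorem isZero_cechH_succ (d : ℤ) (p : ℕ) (hp : p + 1 ≤ n)
    (hn : ¬ (p + 1 = n ∧ d ≤ -((n : ℤ) + 1))) :
    IsZero (CohTop.cechH (X := (Proj (𝒜 n R)).toTopCat)
      (Coh.toAb (Twist.twist (𝒜 n R) d)).obj (cov n R) (p + 1)) := by
  rw [Groth.Agent.Lib.Cech.isZero_cechH_succ_iff]
  intro α hα
  refine CechMono.exact_succ (isMono (n := n) (R := R) d) p (Jfun.{u} n) ?_ ?_ α hα
  · intro e j hj s
    exact Adm_of_insert (Jfun_some hj) s
  · intro e he σ hA
    have hneg := Jfun_none he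
    have hsurj : Function.Surjective σ := by
      intro i
      by_contra hi
      have := hA.2 i.down (by
        intro h
        apply hi
        obtain ⟨k, hk⟩ := h
        exact ⟨k, hk⟩)
      exact absurd (hneg i.down) (not_lt.mpr this)
    have hcard := Fintype.card_le_of_surjective σ hsurj
    simp only [Fintype.card_ulift, Fintype.card_fin] at hcard
    apply hn
    refine ⟨by omega, ?_⟩
    rw [← hA.1]
    have h1 : ∑ i, e i ≤ ∑ _i : Fin (n + 1), (-1 : ℤ) :=
      Finset.sum_le_sum fun i _ => by have := hneg i; omega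
    simp only [Finset.sum_const, Finset.card_univ, Fintype.card_fin, nsmul_eq_mul] at h1
    push_cast at h1
    omega

/-- Čech vanishing in degree `0` for negative twists -/
theorem isZero_cechH_zero' (d : ℤ) (hd : d < 0) (hn : 1 ≤ n) :
    IsZero (CohTop.cechH (X := (Proj (𝒜 n R)).toTopCat)
      (Coh.toAb (Twist.twist (𝒜 n R) d)).obj (cov n R) 0) := by
  apply CechMono.isZero_cechH_zero
  intro α hα
  refine CechMono.inj_zero (isMono (n := n) (R := R) d) ?_ α hα
  intro e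
  by_cases hsum : ∑ i, e i = d
  · have hex : ∃ i, e i < 0 := by
      by_contra hc
      push Not at hc
      have : 0 ≤ ∑ i, e i := Finset.sum_nonneg fun i _ => hc i
      omega
    obtain ⟨i, hi⟩ := hex
    obtain ⟨n', rfl⟩ : ∃ n', n = n' + 1 := ⟨n - 1, by omega⟩
    obtain ⟨j, hj⟩ := exists_ne i
    refine ⟨⟨j⟩, fun hA => ?_⟩
    have := hA.2 i (by
      intro h
      have h1 : (⟨i⟩ : Idx.{u} (n' + 1)) = ⟨j⟩ := h
      exact hj (congrArg ULift.down h1).symm)
    omega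
  · exact ⟨⟨0⟩, fun hA => hsum hA.1⟩

lemma subsingleton_HH_of_cechH (d : ℤ) (q : ℕ)
    (h : IsZero (CohTop.cechH (X := (Proj (𝒜 n R)).toTopCat)
      (Coh.toAb (Twist.twist (𝒜 n R) d)).obj (cov n R) q)) :
    Subsingleton (Coh.HH (Proj (𝒜 n R)) (Twist.twist (𝒜 n R) d) q) := by
  haveI : (Twist.twist (𝒜 n R) d).IsQuasicoherent :=
    Groth.Agent.ProjTw.isQuasicoherent_twist (𝒜 n R) d
  obtain ⟨e1⟩ := Groth.Agent.Lib.Cech.nonempty_cech_addEquiv (X := Proj (𝒜 n R)) (cov n R)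
    isAffineOpen_biInf (Twist.twist (𝒜 n R) d) q
  haveI := AddCommGrpCat.subsingleton_of_isZero h
  have h1 : Subsingleton (Abelian.Ext
      (Groth.Agent.Lib.Cech.fr (X := (Proj (𝒜 n R)).toTopCat) (iSup (cov n R)))
      (Coh.toAb (Twist.twist (𝒜 n R) d)) q) :=
    ⟨fun a b => e1.symm.injective (Subsingleton.elim _ _)⟩
  rw [iSup_cov] at h1
  obtain ⟨e2⟩ := QAffKos.nonempty_H_equiv (X := (Proj (𝒜 n R)).toTopCat)
    (Coh.toAb (Twist.twist (𝒜 n R) d)) q
  exact ⟨fun a b => e2.symm.injective (Subsingleton.elim _ _)⟩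

/-- vanishing above the dimension -/
theorem subsingleton_HH_of_gt (d : ℤ) (q : ℕ) (hq : n + 1 ≤ q) :
    Subsingleton (Coh.HH (Proj (𝒜 n R)) (Twist.twist (𝒜 n R) d) q) := by
  haveI : (Twist.twist (𝒜 n R) d).IsQuasicoherent :=
    Groth.Agent.ProjTw.isQuasicoherent_twist (𝒜 n R) d
  refine MVVanish.HH_eq_zero_of_cover (X := Proj (𝒜 n R)) (Twist.twist (𝒜 n R) d)
    {V | ∃ m : Fin (n + 1) →₀ ℕ, m ≠ 0 ∧ V = Proj.basicOpen (𝒜 n R) (mon n R m)} ?_ ?_
    (List.ofFn (fun i : Fin (n + 1) => cov n R ⟨i⟩)) ?_ ?_ q ?_ (by omega)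
  · rintro _ ⟨m, hm, rfl⟩ _ ⟨m', hm', rfl⟩
    refine ⟨m + m', fun h => hm (add_eq_zero.mp h).1, ?_⟩
    rw [← mon_mul, Proj.basicOpen_mul]
  · rintro _ ⟨m, hm, rfl⟩
    exact isAffineOpen_mon hm
  · intro V hV
    rw [List.mem_ofFn] at hV
    obtain ⟨i, rfl⟩ := hV
    exact ⟨Finsupp.single i 1, by simp, rfl⟩
  · intro x
    have hx : x ∈ iSup (cov n R) := by rw [iSup_cov]; trivial
    obtain ⟨i, hi⟩ := Opens.mem_iSup.mp hx
    exact ⟨cov n R i, List.mem_ofFn.mpr ⟨i.down, rfl⟩, hi⟩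
  · rw [List.length_ofFn]; exact hq

/-- `H^q(P^n_R, O(d)) = 0` unless `q = 0, d ≥ 0` or `q = n, d ≤ -n-1`. -/
theorem subsingleton_HH_twist (d : ℤ) (q : ℕ) (h₀ : ¬ (q = 0 ∧ 0 ≤ d))
    (hn : ¬ (q = n ∧ d ≤ -((n : ℤ) + 1))) :
    Subsingleton (Coh.HH (Proj (𝒜 n R)) (Twist.twist (𝒜 n R) d) q) := by
  by_cases hq : n + 1 ≤ q
  · exact subsingleton_HH_of_gt d q hq
  · rcases q with _ | p
    · have hd : d < 0 := by
        by_contra hc
        exact h₀ ⟨rfl, not_lt.mp hc⟩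
      have hn1 : 1 ≤ n := by
        by_contra hc
        have : n = 0 := by omega
        subst this
        apply hn
        refine ⟨rfl, ?_⟩
        simp
        omega
      exact subsingleton_HH_of_cechH d 0 (isZero_cechH_zero' d hd hn1)
    · exact subsingleton_HH_of_cechH d (p + 1) (isZero_cechH_succ d p (by omega) hn)

/-- transfer of vanishing along an isomorphism of modules -/
lemma subsingleton_HH_of_iso {X : Scheme.{u}} {M N : X.Modules} (α : M ≅ N) (q : ℕ)
    [Subsingleton (Coh.HH X N q)] : Subsingleton (Coh.HH X M q) := by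
  let β := (SheafOfModules.toSheaf X.ringCatSheaf).mapIso α
  let f : Coh.toAb M ⟶ Coh.toAb N := β.hom
  let g : Coh.toAb N ⟶ Coh.toAb M := β.inv
  have hfg : f ≫ g = 𝟙 _ := β.hom_inv_id
  refine ⟨fun a b => ?_⟩
  have ha : Sheaf.H.map g q (Sheaf.H.map f q a) = a := by
    rw [← Sheaf.H.map_comp_apply, hfg, Sheaf.H.map_id_apply]
  have hb : Sheaf.H.map g q (Sheaf.H.map f q b) = b := by
    rw [← Sheaf.H.map_comp_apply, hfg, Sheaf.H.map_id_apply]
  rw [← ha, ← hb, Subsingleton.elim (Sheaf.H.map f q a) (Sheaf.H.map f q b)]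

/-- `H^q(P^n_R, O) = 0` for `q > 0`. -/
theorem subsingleton_HH_structure (q : ℕ) (hq : 0 < q) :
    Subsingleton (Coh.HH (Proj (𝒜 n R)) (Coh.structureModule (Proj (𝒜 n R))) q) := by
  haveI : IsIso (Groth.Agent.ProjTw.unitToTwist0 (𝒜 n R)) := by
    apply Groth.Agent.ProjTw.isIso_unitToTwist0
    intro x
    have hx : x ∈ iSup (cov n R) := by rw [iSup_cov]; trivial
    obtain ⟨i, hi⟩ := Opens.mem_iSup.mp hx
    exact ⟨X i.down, Groth.Agent.ProjGamma5.X_mem n R i.down, hi⟩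
  haveI := subsingleton_HH_twist (n := n) (R := R) 0 q (by omega) (by
    intro h
    have := h.2
    have h2 : (0 : ℤ) ≤ n := Int.natCast_nonneg n
    omega)
  exact subsingleton_HH_of_iso (asIso (Groth.Agent.ProjTw.unitToTwist0 (𝒜 n R))) q

end Groth.Agent.ProjCech
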