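import Mathlib
import Groth.Prelude
import Groth.Agent.Lib.SerreFT1_helper9
import Groth.Agent.S0844

/-!
# Extensions of `O` by `O(m)` on the projective line split (helper9)
-/

set_option autoImplicit false
universe u
open AlgebraicGeometry CategoryTheory CategoryTheory.Limits TopologicalSpace Opposite
open QcqsLoc QCohExtn SerreCrit

namespace Groth.Agent.P1Split

variable {X : Scheme.{u}}

set_option backward.isDefEq.respectTransparency false in
/-- a short exact sequence with quotient `O_X` and vanishing `H¹` of the kernel splits -/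
theorem exists_section_of_H1 {K F : X.Modules} (i : K ⟶ F) (p : F ⟶ OO X) (w : i ≫ p = 0)
    (hS : (ShortComplex.mk i p w).ShortExact) (h1 : ∀ x : Coh.HH X K 1, x = 0) :
    ∃ s : OO X ⟶ F, s ≫ p = 𝟙 _ := by
  obtain ⟨b, hb⟩ := SerreCrit.surj_of_H1 _ hS h1 (ofFn (1 : Γ(X, ⊤)))
  refine ⟨SerreFT.secHom F b, ?_⟩
  apply (SheafOfModules.unitHomEquiv _).injective
  apply Subtype.ext
  funext W
  rw [SheafOfModules.unitHomEquiv_apply_coe, SheafOfModules.unitHomEquiv_apply_coe]
  show ap p W.unop (ap (SerreFT.secHom F b) W.unop (ofFn 1)) = ofFn 1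
  rw [SerreFT.secHom_app]
  have h2 : toFn (ofFn (1 : Γ(X, W.unop))) • rF F (le_top : W.unop ≤ ⊤) b =
      rF F (le_top : W.unop ≤ ⊤) b := one_smul _ _
  rw [h2, ap_rF]
  have hb' : ap p ⊤ b = ofFn 1 := hb
  rw [hb']
  exact map_one (rX (le_top : W.unop ≤ ⊤))

end Groth.Agent.P1Split
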