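import Mathlib
import Groth.Prelude.Def_ModSite

namespace Groth.Agent.Lib.ModSiteH8
open CategoryTheory Limits Opposite ModSite

universe u

variable {C : Type u} [SmallCategory C] {J : GrothendieckTopology C}

/-- The section of `M|_U` determined by `m ∈ M(U)`. -/
noncomputable def sectOver (O : Sheaf J CommRingCat.{u}) (U : C) (M : Mod O) (m : sect M U) :
    ((restr O U).obj M).sections :=
  PresheafOfModules.sectionsMk (M := ((restr O U).obj M).val)
    (fun V => M.val.map V.unop.hom.op m)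
    (fun V W f => by
      show M.val.map (f.unop.left.op) (M.val.map V.unop.hom.op m) = M.val.map W.unop.hom.op m
      rw [← PresheafOfModules.map_comp_apply, ← op_comp, Over.w])

lemma sectOver_eval (O : Sheaf J CommRingCat.{u}) (U : C) (M : Mod O)
    (s : ((restr O U).obj M).sections) :
    sectOver O U M (s.val (op (Over.mk (𝟙 U)))) = s := by
  apply PresheafOfModules.sections_ext
  intro V
  have := PresheafOfModules.sections_property s
    ((Over.homMk V.unop.hom : V.unop ⟶ Over.mk (𝟙 U)).op)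
  exact this

lemma sectOver_val_id (O : Sheaf J CommRingCat.{u}) (U : C) (M : Mod O) (m : sect M U) :
    (sectOver O U M m).val (op (Over.mk (𝟙 U))) = m := by
  show M.val.map (𝟙 U).op m = m
  rw [op_id, M.val.map_id]
  rfl

/-- The bijection `Hom(freeOn O U, M) ≃ M(U)`. -/
noncomputable def freeOnEquiv (O : Sheaf J CommRingCat.{u}) (U : C) (M : Mod O) :
    (freeOn O U ⟶ M) ≃ sect M U where
  toFun h := (SheafOfModules.unitHomEquiv _ ((extZeroAdj O U).homEquiv _ _ h)).val (op (Over.mk (𝟙 U)))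
  invFun m := ((extZeroAdj O U).homEquiv _ _).symm ((SheafOfModules.unitHomEquiv _).symm (sectOver O U M m))
  left_inv h := by
    have e1 := sectOver_eval O U M (SheafOfModules.unitHomEquiv _ ((extZeroAdj O U).homEquiv _ _ h))
    have e2 : ((extZeroAdj O U).homEquiv _ _).symm ((SheafOfModules.unitHomEquiv _).symm
        (SheafOfModules.unitHomEquiv _ ((extZeroAdj O U).homEquiv _ _ h))) = h := by
      rw [Equiv.symm_apply_apply, Equiv.symm_apply_apply]
    exact (congrArg (fun s => ((extZeroAdj O U).homEquiv _ _).symm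
      ((SheafOfModules.unitHomEquiv _).symm s)) e1).trans e2
  right_inv m := by
    have e1 : (SheafOfModules.unitHomEquiv _ ((extZeroAdj O U).homEquiv _ _
        (((extZeroAdj O U).homEquiv _ _).symm ((SheafOfModules.unitHomEquiv _).symm
          (sectOver O U M m))))) = sectOver O U M m := by
      rw [Equiv.apply_symm_apply, Equiv.apply_symm_apply]
    exact (congrArg (fun s : ((restr O U).obj M).sections => s.val (op (Over.mk (𝟙 U)))) e1).trans
      (sectOver_val_id O U M m)

lemma freeOnEquiv_comp (O : Sheaf J CommRingCat.{u}) (U : C) {M N : Mod O} (h : freeOn O U ⟶ M)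
    (g : M ⟶ N) : freeOnEquiv O U N (h ≫ g) = g.val.app (op U) (freeOnEquiv O U M h) := by
  show (SheafOfModules.unitHomEquiv _ ((extZeroAdj O U).homEquiv _ _ (h ≫ g))).val (op (Over.mk (𝟙 U))) = _
  rw [Adjunction.homEquiv_naturality_right, SheafOfModules.unitHomEquiv_comp_apply]
  rfl

lemma freeOnEquiv_symm_comp (O : Sheaf J CommRingCat.{u}) (U : C) {M N : Mod O} (m : sect M U)
    (g : M ⟶ N) : (freeOnEquiv O U M).symm m ≫ g = (freeOnEquiv O U N).symm (g.val.app (op U) m) := by
  apply (freeOnEquiv O U N).injective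
  rw [freeOnEquiv_comp, Equiv.apply_symm_apply, Equiv.apply_symm_apply]


theorem freeOn_isSeparating (O : Sheaf J CommRingCat.{u}) (G : Set C)
    (hG : ∀ X : C, ∃ (ι : Type u) (Y : ι → C) (f : ∀ i, Y i ⟶ X),
      Sieve.ofArrows Y f ∈ J X ∧ ∀ i, Y i ∈ G) :
    (ObjectProperty.ofObj fun X : G => ModSite.freeOn O (X : C)).IsSeparating := by
  intro M N f g hfg
  have key : ∀ (X : C), X ∈ G → ∀ m : sect M X, f.val.app (op X) m = g.val.app (op X) m := by
    intro X hX m
    have := hfg (freeOn O X) (ObjectProperty.ofObj_apply _ (⟨X, hX⟩ : G))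
      ((freeOnEquiv O X M).symm m)
    rw [freeOnEquiv_symm_comp, freeOnEquiv_symm_comp] at this
    exact (freeOnEquiv O X N).symm.injective this
  apply SheafOfModules.hom_ext
  ext Y0 m
  obtain ⟨ι, Z, p, hcov, hZ⟩ := hG Y0.unop
  apply (Presheaf.IsSheaf.isSeparated N.isSheaf) _ _ hcov
  rintro W q ⟨T, a, b, ⟨i⟩, rfl⟩
  have h1 := PresheafOfModules.naturality_apply f.val (p i).op m
  have h2 := PresheafOfModules.naturality_apply g.val (p i).op m
  have h3 := key (Z i) (hZ i) (M.val.map (p i).op m)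
  have h4 : N.val.presheaf.map (p i).op (f.val.app Y0 m) = N.val.presheaf.map (p i).op (g.val.app Y0 m) :=
    h1.symm.trans (h3.trans h2)
  rw [op_comp, Functor.map_comp]
  exact congrArg (N.val.presheaf.map a.op) h4

theorem freeOn_isDetecting (O : Sheaf J CommRingCat.{u}) (G : Set C)
    (hG : ∀ X : C, ∃ (ι : Type u) (Y : ι → C) (f : ∀ i, Y i ⟶ X),
      Sieve.ofArrows Y f ∈ J X ∧ ∀ i, Y i ∈ G) :
    (ObjectProperty.ofObj fun X : G => ModSite.freeOn O (X : C)).IsDetecting :=
  (freeOn_isSeparating O G hG).isDetecting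


/-- Yoneda: natural bijections of hom-sets out of `P` and `Q` give an isomorphism `P ≅ Q`. -/
def isoOfHomEquiv {𝒜 : Type*} [Category 𝒜] {P Q : 𝒜} (e : ∀ M, (P ⟶ M) ≃ (Q ⟶ M))
    (nat : ∀ {M N : 𝒜} (h : P ⟶ M) (g : M ⟶ N), e N (h ≫ g) = e M h ≫ g) : P ≅ Q where
  hom := (e Q).symm (𝟙 Q)
  inv := e P (𝟙 P)
  hom_inv_id := by
    apply (e P).injective
    rw [nat, Equiv.apply_symm_apply, Category.id_comp]
  inv_hom_id := by
    rw [← nat, Category.id_comp, Equiv.apply_symm_apply]

variable {D : Type u} [SmallCategory D] {K : GrothendieckTopology D}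

theorem pull_freeOn_iso {O_C : Sheaf J CommRingCat.{u}} {O_D : Sheaf K CommRingCat.{u}}
    (f : ModSite.RMor O_C O_D) (X : D) :
    Nonempty (f.pull.obj (ModSite.freeOn O_D X) ≅ ModSite.freeOn O_C (f.fn.obj X)) := by
  refine ⟨isoOfHomEquiv (fun M => (f.adj.homEquiv _ _).trans
    ((freeOnEquiv O_D X (f.push.obj M)).trans (freeOnEquiv O_C (f.fn.obj X) M).symm)) ?_⟩
  intro M N h g
  show (freeOnEquiv O_C (f.fn.obj X) N).symm (freeOnEquiv O_D X (f.push.obj N)
    (f.adj.homEquiv _ _ (h ≫ g))) = (freeOnEquiv O_C (f.fn.obj X) M).symm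
      (freeOnEquiv O_D X (f.push.obj M) (f.adj.homEquiv _ _ h)) ≫ g
  rw [Adjunction.homEquiv_naturality_right, freeOnEquiv_comp, freeOnEquiv_symm_comp]
  rfl

end Groth.Agent.Lib.ModSiteH8
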