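import Mathlib
import Groth.Prelude.Def_ModSite

namespace Groth.Agent.Lib.ModSiteH8
open CategoryTheory Limits

universe u

variable {C : Type u} [SmallCategory C] {J : GrothendieckTopology C}

theorem toSheaf_preservesColimitsOfSize (R : Sheaf J RingCat.{u}) :
    PreservesColimitsOfSize.{u, u} (SheafOfModules.toSheaf.{u} R) := by
  constructor
  intro K _
  constructor
  intro F
  let S := PresheafOfModules.sheafification.{u} (𝟙 R.obj)
  let e : F ≅ (F ⋙ SheafOfModules.forget R) ⋙ S :=
      Functor.isoWhiskerLeft F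
        (asIso (PresheafOfModules.sheafificationAdjunction (𝟙 R.obj)).counit).symm
  haveI : PreservesColimit ((F ⋙ SheafOfModules.forget R) ⋙ S) (SheafOfModules.toSheaf R) := by
    have h1 : PreservesColimit (F ⋙ SheafOfModules.forget R) (S ⋙ SheafOfModules.toSheaf R) := by
      have : PreservesColimitsOfSize.{u,u} (PresheafOfModules.toPresheaf R.obj ⋙ presheafToSheaf J AddCommGrpCat.{u}) := inferInstance
      exact preservesColimit_of_natIso _ (PresheafOfModules.sheafificationCompToSheaf (𝟙 R.obj)).symm
    apply preservesColimit_of_preserves_colimit_cocone (isColimitOfPreserves S (colimit.isColimit (F ⋙ SheafOfModules.forget R)))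
    exact isColimitOfPreserves (S ⋙ SheafOfModules.toSheaf R) (colimit.isColimit _)
  exact preservesColimit_of_iso_diagram _ e.symm

theorem toSheaf_preservesLimitsOfSize (R : Sheaf J RingCat.{u}) :
    PreservesLimitsOfSize.{u, u} (SheafOfModules.toSheaf.{u} R) := by
  haveI : PreservesLimitsOfSize.{u, u} (SheafOfModules.toSheaf.{u} R ⋙ sheafToPresheaf J AddCommGrpCat.{u}) :=
    inferInstanceAs (PreservesLimitsOfSize.{u, u} (SheafOfModules.forget.{u} R ⋙ PresheafOfModules.toPresheaf R.obj))
  exact preservesLimits_of_reflects_of_preserves _ (sheafToPresheaf J AddCommGrpCat.{u})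

theorem restrictScalars_all {A B : Sheaf J RingCat.{u}} (φ : A ⟶ B) :
    PreservesLimitsOfSize.{u, u} (SheafOfModules.restrictScalars.{u} φ) ∧
    PreservesColimitsOfSize.{u, u} (SheafOfModules.restrictScalars.{u} φ) ∧
    (SheafOfModules.restrictScalars.{u} φ).ReflectsIsomorphisms := by
  haveI := toSheaf_preservesColimitsOfSize A
  haveI := toSheaf_preservesColimitsOfSize B
  haveI := toSheaf_preservesLimitsOfSize A
  haveI := toSheaf_preservesLimitsOfSize B
  haveI : ReflectsLimitsOfSize.{u, u} (SheafOfModules.toSheaf.{u} A) := reflectsLimits_of_reflectsIsomorphisms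
  haveI : ReflectsColimitsOfSize.{u, u} (SheafOfModules.toSheaf.{u} A) := reflectsColimits_of_reflectsIsomorphisms
  haveI h1 : PreservesLimitsOfSize.{u, u} (SheafOfModules.restrictScalars.{u} φ ⋙ SheafOfModules.toSheaf.{u} A) :=
    inferInstanceAs (PreservesLimitsOfSize.{u, u} (SheafOfModules.toSheaf.{u} B))
  haveI h2 : PreservesColimitsOfSize.{u, u} (SheafOfModules.restrictScalars.{u} φ ⋙ SheafOfModules.toSheaf.{u} A) :=
    inferInstanceAs (PreservesColimitsOfSize.{u, u} (SheafOfModules.toSheaf.{u} B))
  refine ⟨preservesLimits_of_reflects_of_preserves _ (SheafOfModules.toSheaf.{u} A),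
    preservesColimits_of_reflects_of_preserves _ (SheafOfModules.toSheaf.{u} A), ?_⟩
  haveI : (SheafOfModules.restrictScalars.{u} φ ⋙ SheafOfModules.toSheaf.{u} A).ReflectsIsomorphisms :=
    inferInstanceAs (SheafOfModules.toSheaf.{u} B).ReflectsIsomorphisms
  exact reflectsIsomorphisms_of_comp _ (SheafOfModules.toSheaf.{u} A)

end Groth.Agent.Lib.ModSiteH8
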