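import Mathlib
import Groth.Agent.Lib.ModSite1_helper8

namespace Groth.Agent.Lib.ModSiteH8
open CategoryTheory Limits Opposite

universe u

lemma isSeparating_of_adjunction {𝒞 𝒟 : Type*} [Category 𝒞] [Category 𝒟] {L : 𝒞 ⥤ 𝒟} {R : 𝒟 ⥤ 𝒞}
    (adj : L ⊣ R) [R.Faithful] {ι : Type*} (X : ι → 𝒞)
    (h : (ObjectProperty.ofObj X).IsSeparating) :
    (ObjectProperty.ofObj (fun i => L.obj (X i))).IsSeparating := by
  intro M N f g hfg
  apply R.map_injective
  apply h
  rintro _ ⟨i⟩ k
  have := hfg _ ⟨i⟩ ((adj.homEquiv _ _).symm k)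
  have h2 := congrArg (adj.homEquiv _ _) this
  rwa [Adjunction.homEquiv_naturality_right, Adjunction.homEquiv_naturality_right,
    Equiv.apply_symm_apply] at h2

variable {D : Type u} [SmallCategory D] {K : GrothendieckTopology D}

/-- The small separating family of `SheafOfModules R`. -/
noncomputable def sepFam (R : Sheaf K RingCat.{u}) : D → SheafOfModules.{u} R :=
  fun X => (PresheafOfModules.sheafification.{u} (𝟙 R.obj)).obj
    ((yoneda ⋙ PresheafOfModules.free R.obj).obj X)

lemma sepFam_isSeparating (R : Sheaf K RingCat.{u}) :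
    (ObjectProperty.ofObj (sepFam R)).IsSeparating :=
  isSeparating_of_adjunction (PresheafOfModules.sheafificationAdjunction.{u} (𝟙 R.obj))
    (yoneda ⋙ PresheafOfModules.free R.obj).obj (PresheafOfModules.freeYoneda.isSeparating R.obj)

instance wellPowered_sheafOfModules (R : Sheaf K RingCat.{u}) :
    WellPowered.{u} (SheafOfModules.{u} R) :=
  wellPowered_of_isDetecting (sepFam_isSeparating R).isDetecting

/-- SAFT for sheaves of modules on a small site. -/
theorem isLeftAdjoint_of_preservesColimits (R : Sheaf K RingCat.{u}) {ℰ : Type*} [Category.{u} ℰ]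
    (F : SheafOfModules.{u} R ⥤ ℰ) [PreservesColimitsOfSize.{u, u} F] : F.IsLeftAdjoint :=
  isLeftAdjoint_of_preservesColimits_of_isSeparating (sepFam_isSeparating R) F

variable {C : Type u} [SmallCategory C] {J : GrothendieckTopology C}

theorem pushforward_isLeftAdjoint (F : C ⥤ D)
    [F.IsContinuous J K] [F.IsCocontinuous J K]
    {S : Sheaf J RingCat.{u}} {R : Sheaf K RingCat.{u}}
    (φ : S ⟶ (F.sheafPushforwardContinuous RingCat.{u} J K).obj R) :
    (SheafOfModules.pushforward.{u} φ).IsLeftAdjoint := by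
  haveI := toSheaf_preservesColimitsOfSize R
  haveI := toSheaf_preservesColimitsOfSize S
  haveI : ReflectsColimitsOfSize.{u, u} (SheafOfModules.toSheaf.{u} S) :=
    reflectsColimits_of_reflectsIsomorphisms
  haveI : PreservesColimitsOfSize.{u, u} (F.sheafPushforwardContinuous AddCommGrpCat.{u} J K) :=
    (F.sheafAdjunctionCocontinuous AddCommGrpCat.{u} J K).leftAdjoint_preservesColimits
  haveI h2 : PreservesColimitsOfSize.{u, u}
      (SheafOfModules.pushforward.{u} φ ⋙ SheafOfModules.toSheaf.{u} S) :=
    inferInstanceAs (PreservesColimitsOfSize.{u, u}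
      (SheafOfModules.toSheaf.{u} R ⋙ F.sheafPushforwardContinuous AddCommGrpCat.{u} J K))
  haveI : PreservesColimitsOfSize.{u, u} (SheafOfModules.pushforward.{u} φ) :=
    preservesColimits_of_reflects_of_preserves _ (SheafOfModules.toSheaf.{u} S)
  exact isLeftAdjoint_of_preservesColimits R _

end Groth.Agent.Lib.ModSiteH8
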