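import Mathlib

namespace Groth.Agent.Lib.ModSiteH8
open TensorProduct

section Algebra

variable {R : Type*} [CommRing R] {A B N : Type*} [AddCommGroup A] [Module R A]
  [AddCommGroup B] [Module R B] [AddCommGroup N] [Module R N]

noncomputable def Gmap (a : A →ₗ[R] B) : ((A ⊕ B) →₀ R) →ₗ[R] B :=
  Finsupp.linearCombination R (Sum.elim a id)

lemma Gmap_surjective (a : A →ₗ[R] B) : Function.Surjective (Gmap a) := fun b =>
  ⟨Finsupp.single (Sum.inr b) 1, by simp [Gmap]⟩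

theorem certificate (a : A →ₗ[R] B) (w : A ⊗[R] N) (hw : LinearMap.rTensor N a w = 0) :
    ∃ (S₀ : Finset (A × N)) (T : Finset (↥(LinearMap.ker (Gmap a)) × N)),
      w = ∑ p ∈ S₀, p.1 ⊗ₜ[R] p.2 ∧
      ∑ p ∈ S₀, Finsupp.single (Sum.inl p.1 : A ⊕ B) p.2 =
        ∑ t ∈ T, (t.1 : (A ⊕ B) →₀ R).sum (fun i c => Finsupp.single i (c • t.2)) := by
  classical
  obtain ⟨S₀, hS₀⟩ := TensorProduct.exists_finset w
  let wF : ((A ⊕ B) →₀ R) ⊗[R] N := ∑ p ∈ S₀, Finsupp.single (Sum.inl p.1) 1 ⊗ₜ[R] p.2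
  have h1 : LinearMap.rTensor N (Gmap a) wF = 0 := by
    rw [← hw, hS₀]
    simp [wF, Gmap, map_sum]
  have hex := rTensor_exact (M := ↥(LinearMap.ker (Gmap a))) (f := (LinearMap.ker (Gmap a)).subtype) N (LinearMap.exact_subtype_ker_map (Gmap a)) (Gmap_surjective a)
  obtain ⟨v, hv⟩ := (hex wF).1 h1
  obtain ⟨T, hT⟩ := TensorProduct.exists_finset v
  refine ⟨S₀, T, hS₀, ?_⟩
  have h2 := congrArg (TensorProduct.finsuppScalarLeft R N (A ⊕ B)) hv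
  rw [hT, map_sum, map_sum] at h2
  simp only [wF, map_sum, LinearMap.rTensor_tmul, TensorProduct.finsuppScalarLeft_apply_tmul,
    Submodule.subtype_apply] at h2
  rw [h2]
  apply Finset.sum_congr rfl
  intro p _
  rw [Finsupp.sum_single_index] <;> simp

variable {R' : Type*} [CommRing R'] {ρ : R →+* R'} {A' B' N' : Type*} [AddCommGroup A'] [Module R' A']
  [AddCommGroup B'] [Module R' B'] [AddCommGroup N'] [Module R' N']

/-- `Θ : ψ ↦ Σ_i ℓ i ⊗ rN (ψ i)` -/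
noncomputable def Theta (rN : N →ₛₗ[ρ] N') (ℓ : A ⊕ B → A') : ((A ⊕ B) →₀ N) →+ A' ⊗[R'] N' :=
  Finsupp.liftAddHom (fun i =>
    ((TensorProduct.mk R' A' N' (ℓ i)).toAddMonoidHom).comp rN.toAddMonoidHom)

lemma Theta_single (rN : N →ₛₗ[ρ] N') (ℓ : A ⊕ B → A') (i : A ⊕ B) (q : N) :
    Theta rN ℓ (Finsupp.single i q) = ℓ i ⊗ₜ[R'] rN q := by
  simp [Theta]

lemma Theta_smul_sum (rN : N →ₛₗ[ρ] N') (ℓ : A ⊕ B → A') (κ : (A ⊕ B) →₀ R) (y : N) :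
    Theta rN ℓ (κ.sum (fun i c => Finsupp.single i (c • y))) =
      (κ.sum (fun i c => ρ c • ℓ i)) ⊗ₜ[R'] rN y := by
  rw [map_finsuppSum]
  simp only [Theta_single, map_smulₛₗ, TensorProduct.tmul_smul]
  rw [Finsupp.sum, Finsupp.sum, TensorProduct.sum_tmul]
  apply Finset.sum_congr rfl
  intro i _
  rw [TensorProduct.smul_tmul']

lemma apply_lam (a : A →ₗ[R] B) (a' : A' →ₗ[R'] B') (rB : B →ₛₗ[ρ] B') (ℓ : A ⊕ B → A')
    (κ : (A ⊕ B) →₀ R)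
    (h : ∀ i ∈ κ.support, a' (ℓ i) = rB (Sum.elim a id i)) :
    a' (κ.sum (fun i c => ρ c • ℓ i)) = rB (Gmap a κ) := by
  rw [Gmap, Finsupp.linearCombination_apply, map_finsuppSum, map_finsuppSum]
  apply Finsupp.sum_congr
  intro i hi
  rw [map_smul, h i hi, map_smulₛₗ]

theorem local_identity (a : A →ₗ[R] B) (a' : A' →ₗ[R'] B') (rA : A →ₛₗ[ρ] A') (rB : B →ₛₗ[ρ] B')
    (rN : N →ₛₗ[ρ] N')
    (M : A ⊗[R] N →+ A' ⊗[R'] N') (hM : ∀ x q, M (x ⊗ₜ q) = rA x ⊗ₜ rN q)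
    (w : A ⊗[R] N) (S₀ : Finset (A × N)) (T : Finset (↥(LinearMap.ker (Gmap a)) × N))
    (hw : w = ∑ p ∈ S₀, p.1 ⊗ₜ[R] p.2)
    (hcert : ∑ p ∈ S₀, Finsupp.single (Sum.inl p.1 : A ⊕ B) p.2 =
        ∑ t ∈ T, (t.1 : (A ⊕ B) →₀ R).sum (fun i c => Finsupp.single i (c • t.2)))
    (ℓ : A ⊕ B → A') (hℓ₁ : ∀ x, ℓ (Sum.inl x) = rA x)
    (hℓ₂ : ∀ t ∈ T, ∀ i ∈ (t.1 : (A ⊕ B) →₀ R).support, a' (ℓ i) = rB (Sum.elim a id i)) :
    M w = ∑ t ∈ T, ((t.1 : (A ⊕ B) →₀ R).sum (fun i c => ρ c • ℓ i)) ⊗ₜ[R'] rN t.2 ∧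
    ∀ t ∈ T, a' ((t.1 : (A ⊕ B) →₀ R).sum (fun i c => ρ c • ℓ i)) = 0 := by
  constructor
  · have h1 : M w = Theta rN ℓ (∑ p ∈ S₀, Finsupp.single (Sum.inl p.1 : A ⊕ B) p.2) := by
      rw [hw, map_sum, map_sum]
      apply Finset.sum_congr rfl
      intro p _
      rw [hM, Theta_single, hℓ₁]
    rw [h1, hcert, map_sum]
    apply Finset.sum_congr rfl
    intro t _
    rw [Theta_smul_sum]
  · intro t ht
    rw [apply_lam a a' rB ℓ _ (hℓ₂ t ht)]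
    have : Gmap a (t.1 : (A ⊕ B) →₀ R) = 0 := t.1.2
    rw [this, map_zero]

end Algebra

end Groth.Agent.Lib.ModSiteH8
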