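import Mathlib
import Groth.Prelude.Def_ModSite
import Groth.Agent.Lib.TensorVanish_helper8

namespace Groth.Agent.Lib.ModSiteH8
open CategoryTheory Limits Opposite MonoidalCategory

universe u

variable {C : Type u} [SmallCategory C] {J : GrothendieckTopology C}
variable {R : Cᵒᵖ ⥤ CommRingCat.{u}}

abbrev PM (R : Cᵒᵖ ⥤ CommRingCat.{u}) := PresheafOfModules.{u} (R ⋙ forget₂ CommRingCat.{u} RingCat.{u})

/-- elementwise local surjectivity -/
def ELS (J : GrothendieckTopology C) {P P' : PM R} (α : P ⟶ P') : Prop :=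
  ∀ (X : Cᵒᵖ) (b : P'.obj X), ∃ S ∈ J X.unop, ∀ {V : C} (f : V ⟶ X.unop), S f →
    ∃ t : P.obj (op V), α.app (op V) t = P'.map f.op b

/-- elementwise local injectivity -/
def ELI (J : GrothendieckTopology C) {P P' : PM R} (α : P ⟶ P') : Prop :=
  ∀ (X : Cᵒᵖ) (x : P.obj X), α.app X x = 0 → ∃ S ∈ J X.unop, ∀ {V : C} (f : V ⟶ X.unop), S f →
    P.map f.op x = 0

lemma whiskerRight_app_tmul {P P' : PM R} (α : P ⟶ P') (Q : PM R) (X : Cᵒᵖ) (x : P.obj X) (q : Q.obj X) :
    (α ▷ Q).app X (x ⊗ₜ q) = (α.app X x) ⊗ₜ q := rfl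

lemma tensor_map_tmul (P Q : PM R) {X Y : Cᵒᵖ} (f : X ⟶ Y) (x : P.obj X) (q : Q.obj X) :
    (P ⊗ Q).map f (x ⊗ₜ q) = (P.map f x) ⊗ₜ (Q.map f q) := rfl

theorem tensor_ELS {P P' : PM R} (α : P ⟶ P') (Q : PM R) (hα : ELS J α) : ELS J (α ▷ Q) := by
  intro X z
  induction z using TensorProduct.induction_on with
  | zero =>
    refine ⟨⊤, J.top_mem _, fun {V} f _ => ⟨0, ?_⟩⟩
    rw [map_zero]
    exact (map_zero ((P' ⊗ Q).map f.op).hom).symm
  | tmul b q =>
    obtain ⟨S, hS, h⟩ := hα X b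
    refine ⟨S, hS, fun {V} f hf => ?_⟩
    obtain ⟨t, ht⟩ := h f hf
    refine ⟨t ⊗ₜ Q.map f.op q, ?_⟩
    rw [whiskerRight_app_tmul, ht]
    rfl
  | add z₁ z₂ h₁ h₂ =>
    obtain ⟨S₁, hS₁, k₁⟩ := h₁
    obtain ⟨S₂, hS₂, k₂⟩ := h₂
    refine ⟨S₁ ⊓ S₂, J.intersection_covering hS₁ hS₂, fun {V} f hf => ?_⟩
    obtain ⟨t₁, ht₁⟩ := k₁ f hf.1
    obtain ⟨t₂, ht₂⟩ := k₂ f hf.2
    refine ⟨t₁ + t₂, ?_⟩
    rw [map_add, ht₁, ht₂]
    exact (map_add ((P' ⊗ Q).map f.op).hom z₁ z₂).symm


section Sieves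
variable {X : C}

lemma finset_inf_mem {ι : Type*} (s : Finset ι) (T : ι → Sieve X) (h : ∀ i ∈ s, T i ∈ J X) :
    s.inf T ∈ J X := by
  classical
  induction s using Finset.induction_on with
  | empty => simp
  | insert a s ha ih =>
    rw [Finset.inf_insert]
    exact J.intersection_covering (h a (Finset.mem_insert_self a s))
      (ih (fun i hi => h i (Finset.mem_insert_of_mem hi)))

lemma finset_inf_apply {ι : Type*} (s : Finset ι) (T : ι → Sieve X) {V : C} (f : V ⟶ X) :
    (s.inf T) f ↔ ∀ i ∈ s, T i f := by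
  classical
  induction s using Finset.induction_on with
  | empty => simp
  | insert a s ha ih =>
    rw [Finset.inf_insert, Sieve.inter_apply, ih]
    simp
end Sieves

/-- The sieve on which a section restricts to zero. -/
def zeroSieve (P : PM R) {X : Cᵒᵖ} (x : P.obj X) : Sieve X.unop where
  arrows V f := P.map f.op x = 0
  downward_closed := by
    intro V W f hf g
    show P.map (g ≫ f).op x = 0
    rw [op_comp, PresheafOfModules.map_comp_apply, hf]
    exact map_zero (P.map g.op).hom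

/-- restriction as a semilinear map -/
noncomputable def resSL (P : PM R) {X Y : Cᵒᵖ} (f : X ⟶ Y) :
    P.obj X →ₛₗ[((R ⋙ forget₂ CommRingCat.{u} RingCat.{u}).map f).hom] P.obj Y where
  toFun x := P.map f x
  map_add' x y := map_add (P.map f).hom x y
  map_smul' c x := P.map_smul f c x


theorem tensor_ELI {P P' : PM R} (α : P ⟶ P') (Q : PM R) (hLS : ELS J α) (hLI : ELI J α) :
    ELI J (α ▷ Q) := by
  classical
  intro X w hw
  obtain ⟨S₀, T, hw₀, hcert⟩ := certificate (N := Q.obj X) (α.app X).hom w hw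
  let SB : Finset (P'.obj X) := T.biUnion (fun t =>
    (t.1.1 : (P.obj X ⊕ P'.obj X) →₀ _).support.biUnion
      (fun i => Sum.elim (fun _ => ∅) (fun b => {b}) i))
  choose Sb hSb hlift using (fun b : P'.obj X => hLS X b)
  have hS₁ : SB.inf Sb ∈ J X.unop := finset_inf_mem SB Sb (fun b _ => hSb b)
  refine ⟨zeroSieve (P ⊗ Q) w, ?_, fun f hf => hf⟩
  apply J.transitive hS₁
  intro V f hf
  have hf' : ∀ b ∈ SB, Sb b f := (finset_inf_apply SB Sb f).1 hf
  let ℓ : (P.obj X) ⊕ (P'.obj X) → P.obj (op V) :=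
    Sum.elim (fun x => P.map f.op x)
      (fun b => if h : b ∈ SB then (hlift b f (hf' b h)).choose else 0)
  have hℓ₂ : ∀ t ∈ T, ∀ i ∈ (t.1.1 : (P.obj X ⊕ P'.obj X) →₀ _).support,
      (α.app (op V)).hom (ℓ i) = resSL P' f.op (Sum.elim (α.app X).hom id i) := by
    intro t ht i hi
    rcases i with x | b
    · exact PresheafOfModules.naturality_apply α f.op x
    · have hb : b ∈ SB := by
        refine Finset.mem_biUnion.2 ⟨t, ht, Finset.mem_biUnion.2 ⟨Sum.inr b, hi, ?_⟩⟩
        simp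
      show (α.app (op V)).hom (if h : b ∈ SB then (hlift b f (hf' b h)).choose else 0) = _
      rw [dif_pos hb]
      exact (hlift b f (hf' b hb)).choose_spec
  obtain ⟨hid, hker⟩ := local_identity (α.app X).hom (α.app (op V)).hom (resSL P f.op)
    (resSL P' f.op) (resSL Q f.op) (((P ⊗ Q).map f.op).hom.toAddMonoidHom) (fun x q => rfl)
    w S₀ T hw₀ hcert ℓ (fun x => rfl) hℓ₂
  set k : ↥(LinearMap.ker (Gmap (α.app X).hom)) × Q.obj X → P.obj (op V) := fun t =>
    (t.1.1 : (P.obj X ⊕ P'.obj X) →₀ _).sum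
      (fun i c => ((R ⋙ forget₂ CommRingCat.{u} RingCat.{u}).map f.op).hom c • ℓ i) with hk
  have hloc : ∀ t : ↥(LinearMap.ker (Gmap (α.app X).hom)) × Q.obj X, ∃ S ∈ J V,
      t ∈ T → ∀ {W : C} (g : W ⟶ V), S g → P.map g.op (k t) = 0 := by
    intro t
    by_cases ht : t ∈ T
    · obtain ⟨S, hS, h⟩ := hLI (op V) (k t) (hker t ht)
      exact ⟨S, hS, fun _ {W} g hg => h g hg⟩
    · exact ⟨⊤, J.top_mem _, fun h => absurd h ht⟩
  choose S2 hS2 hz using hloc
  apply J.superset_covering _ (finset_inf_mem T S2 (fun t _ => hS2 t))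
  intro W g hg
  have hg' : ∀ t ∈ T, S2 t g := (finset_inf_apply T S2 g).1 hg
  show (P ⊗ Q).map (g ≫ f).op w = 0
  rw [op_comp, PresheafOfModules.map_comp_apply]
  have hid' : (P ⊗ Q).map f.op w = ∑ t ∈ T, (k t) ⊗ₜ (Q.map f.op t.2) := hid
  rw [hid']
  refine (map_sum ((P ⊗ Q).map g.op).hom (fun t => (k t) ⊗ₜ (Q.map f.op t.2)) T).trans ?_
  apply Finset.sum_eq_zero
  intro t ht
  refine (tensor_map_tmul P Q g.op (k t) (Q.map f.op t.2)).trans ?_
  rw [hz t ht g (hg' t ht)]
  exact TensorProduct.zero_tmul _ _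


section Wrappers
variable {P P' : PM R} (α : P ⟶ P')

lemma ELS_of_isLocallySurjective
    [h : Presheaf.IsLocallySurjective J ((PresheafOfModules.toPresheaf _).map α)] : ELS J α := by
  intro X b
  exact ⟨Presheaf.imageSieve ((PresheafOfModules.toPresheaf _).map α) (U := X.unop) b,
    Presheaf.imageSieve_mem J ((PresheafOfModules.toPresheaf _).map α) (U := X) b,
    fun {V} f hf => hf⟩

lemma isLocallySurjective_of_ELS (h : ELS J α) :
    Presheaf.IsLocallySurjective J ((PresheafOfModules.toPresheaf _).map α) where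
  imageSieve_mem {U} s := by
    obtain ⟨S, hS, hl⟩ := h (op U) s
    exact J.superset_covering (fun V f hf => hl f hf) hS

lemma ELI_of_isLocallyInjective
    [h : Presheaf.IsLocallyInjective J ((PresheafOfModules.toPresheaf _).map α)] : ELI J α := by
  intro X x hx
  refine ⟨_, Presheaf.equalizerSieve_mem J ((PresheafOfModules.toPresheaf _).map α) x 0 ?_,
    fun {V} f hf => ?_⟩
  · exact hx.trans (map_zero (α.app X).hom).symm
  · exact hf.trans (map_zero (P.map f.op).hom)

lemma isLocallyInjective_of_ELI (h : ELI J α) :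
    Presheaf.IsLocallyInjective J ((PresheafOfModules.toPresheaf _).map α) where
  equalizerSieve_mem {X} x y hxy := by
    have key : ∀ (x y : P.obj X), α.app X x = α.app X y →
        Presheaf.equalizerSieve (F := P.presheaf) (X := X) x y ∈ J X.unop := by
      intro x y hxy
      have h0 : α.app X (x - y) = 0 := by
        rw [map_sub]
        exact sub_eq_zero.2 hxy
      obtain ⟨S, hS, hl⟩ := h X (x - y) h0
      refine J.superset_covering (fun V f hf => ?_) hS
      have := hl f hf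
      rw [map_sub] at this
      exact sub_eq_zero.1 this
    exact key x y hxy

end Wrappers


section Key
open ModSite
variable (O : Sheaf J CommRingCat.{u})

theorem isIso_sheafify_map_of_ELS_ELI {P P' : PM O.obj} (β : P ⟶ P')
    (hLS : ELS J β) (hLI : ELI J β) : IsIso ((ModSite.sheafify O).map β) := by
  haveI := isLocallySurjective_of_ELS β hLS
  haveI := isLocallyInjective_of_ELI β hLI
  have hW : J.W ((PresheafOfModules.toPresheaf _).map β) := J.W_of_isLocallyBijective _
  rw [J.W_iff] at hW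
  have : IsIso ((SheafOfModules.toSheaf _).map ((ModSite.sheafify O).map β)) := hW
  exact isIso_of_reflects_iso _ (SheafOfModules.toSheaf _)

/-- the underlying presheaf of modules of the sheafification -/
noncomputable abbrev iL (P : PM O.obj) : PM O.obj := ((ModSite.sheafify O).obj P).val

/-- the unit `P ⟶ i L P` -/
noncomputable def etaP (P : PM O.obj) : P ⟶ iL O P :=
  (PresheafOfModules.sheafificationAdjunction (𝟙 (ringSh O).obj)).unit.app P

lemma etaP_ELS (P : PM O.obj) : ELS J (etaP O P) := by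
  haveI : Presheaf.IsLocallySurjective J ((PresheafOfModules.toPresheaf _).map (etaP O P)) :=
    inferInstanceAs (Presheaf.IsLocallySurjective J (CategoryTheory.toSheafify J P.presheaf))
  exact ELS_of_isLocallySurjective _

lemma etaP_ELI (P : PM O.obj) : ELI J (etaP O P) := by
  haveI : Presheaf.IsLocallyInjective J ((PresheafOfModules.toPresheaf _).map (etaP O P)) :=
    inferInstanceAs (Presheaf.IsLocallyInjective J (CategoryTheory.toSheafify J P.presheaf))
  exact ELI_of_isLocallyInjective _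

theorem isIso_sheafify_eta_whiskerRight (P Q : PM O.obj) :
    IsIso ((ModSite.sheafify O).map (etaP O P ▷ Q)) :=
  isIso_sheafify_map_of_ELS_ELI O _ (tensor_ELS _ Q (etaP_ELS O P))
    (tensor_ELI _ Q (etaP_ELS O P) (etaP_ELI O P))

end Key

end Groth.Agent.Lib.ModSiteH8
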