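import Mathlib
import Groth.Agent.Lib.ModSite3_helper8
import Groth.Agent.Lib.ModSite4_helper8

namespace Groth.Agent.Lib.ModSiteH8
open CategoryTheory Limits Opposite MonoidalCategory ModSite

universe u

variable {C : Type u} [SmallCategory C] {J : GrothendieckTopology C}

theorem preservesColimits_of_sheafification_comp (R : Sheaf J RingCat.{u}) {ℰ : Type*} [Category ℰ]
    (T : SheafOfModules.{u} R ⥤ ℰ)
    [PreservesColimitsOfSize.{u, u} (PresheafOfModules.sheafification.{u} (𝟙 R.obj) ⋙ T)] :
    PreservesColimitsOfSize.{u, u} T := by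
  constructor
  intro K _
  constructor
  intro F
  let S := PresheafOfModules.sheafification.{u} (𝟙 R.obj)
  let e : F ≅ (F ⋙ SheafOfModules.forget R) ⋙ S :=
      Functor.isoWhiskerLeft F
        (asIso (PresheafOfModules.sheafificationAdjunction (𝟙 R.obj)).counit).symm
  haveI : PreservesColimit ((F ⋙ SheafOfModules.forget R) ⋙ S) T := by
    apply preservesColimit_of_preserves_colimit_cocone
      (isColimitOfPreserves S (colimit.isColimit (F ⋙ SheafOfModules.forget R)))
    exact isColimitOfPreserves (S ⋙ T) (colimit.isColimit _)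
  exact preservesColimit_of_iso_diagram _ e.symm

variable (O : Sheaf J CommRingCat.{u})

/-- the forgetful functor to presheaves of modules over `O.obj ⋙ forget₂` -/
noncomputable def iF : Mod O ⥤ PM O.obj := SheafOfModules.forget (ringSh O)

/-- sheafification, typed on `PM O.obj` -/
noncomputable def Lf : PM O.obj ⥤ Mod O := ModSite.sheafify O

/-- the sheafification adjunction, typed on `PM O.obj` -/
noncomputable def adjLf : Lf O ⊣ iF O :=
  PresheafOfModules.sheafificationAdjunction (𝟙 (ringSh O).obj)

instance : IsIso (adjLf O).counit :=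
  inferInstanceAs (IsIso (PresheafOfModules.sheafificationAdjunction (𝟙 (ringSh O).obj)).counit)

instance : PreservesColimitsOfSize.{u, u} (Lf O) := (adjLf O).leftAdjoint_preservesColimits

lemma isIso_Lf_unit_whiskerRight (P Q : PM O.obj) :
    IsIso ((Lf O).map ((adjLf O).unit.app P ▷ Q)) :=
  isIso_sheafify_eta_whiskerRight O P Q

/-- `(tensorBi O).flip.obj N ≅ i ⋙ (- ⊗ iN) ⋙ L` -/
noncomputable def flipIso (N : Mod O) :
    (tensorBi O).flip.obj N ≅ iF O ⋙ tensorRight ((iF O).obj N) ⋙ Lf O :=
  NatIso.ofComponents (fun M => Iso.refl _) (by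
    intro M M' f
    simp only [Iso.refl_hom, Category.comp_id, Category.id_comp]
    rfl)

noncomputable def thetaIso (N : Mod O) :
    tensorRight ((iF O).obj N) ⋙ Lf O ≅
      Lf O ⋙ iF O ⋙ tensorRight ((iF O).obj N) ⋙ Lf O :=
  NatIso.ofComponents
    (fun P => @asIso _ _ _ _ ((Lf O).map ((adjLf O).unit.app P ▷ (iF O).obj N))
      (isIso_Lf_unit_whiskerRight O P ((iF O).obj N))) (by
    intro P P' g
    show (Lf O).map (g ▷ (iF O).obj N) ≫
        (Lf O).map ((adjLf O).unit.app P' ▷ (iF O).obj N) =
      (Lf O).map ((adjLf O).unit.app P ▷ (iF O).obj N) ≫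
        (Lf O).map ((iF O).map ((Lf O).map g) ▷ (iF O).obj N)
    rw [← Functor.map_comp, ← Functor.map_comp, ← comp_whiskerRight, ← comp_whiskerRight]
    congr 2
    exact (adjLf O).unit.naturality g)

theorem preservesColimits_comp_Lf {ℰ : Type*} [Category ℰ] (T : Mod O ⥤ ℰ)
    [h : PreservesColimitsOfSize.{u, u} (Lf O ⋙ T)] : PreservesColimitsOfSize.{u, u} T := by
  haveI : PreservesColimitsOfSize.{u, u}
      (PresheafOfModules.sheafification.{u} (𝟙 (ringSh O).obj) ⋙ T) := h
  exact preservesColimits_of_sheafification_comp (ringSh O) T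

theorem preservesColimits_flip (N : Mod O) :
    PreservesColimitsOfSize.{u, u} ((tensorBi O).flip.obj N) := by
  haveI h0' : PreservesColimitsOfSize.{u, u} (tensorRight ((iF O).obj N)) := inferInstance
  haveI h1 : PreservesColimitsOfSize.{u, u}
      (tensorRight ((iF O).obj N) ⋙ Lf O) := comp_preservesColimits _ _
  haveI h2 : PreservesColimitsOfSize.{u, u} (Lf O ⋙ iF O ⋙
      tensorRight ((iF O).obj N) ⋙ Lf O) :=
    preservesColimits_of_natIso (thetaIso O N)
  haveI h3 : PreservesColimitsOfSize.{u, u} (iF O ⋙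
      tensorRight ((iF O).obj N) ⋙ Lf O) :=
    preservesColimits_comp_Lf O _
  exact preservesColimits_of_natIso (flipIso O N).symm

theorem hasSheafHom (N : Mod O) : ModSite.HasSheafHom N := by
  haveI := preservesColimits_flip O N
  exact isLeftAdjoint_of_preservesColimits (ringSh O) _

end Groth.Agent.Lib.ModSiteH8
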