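import Mathlib
import Groth.Agent.Lib.ModSite5_helper8

namespace Groth.Agent.Lib.ModSiteH8
open CategoryTheory Limits Opposite MonoidalCategory ModSite

universe u

variable {C : Type u} [SmallCategory C] {J : GrothendieckTopology C}
variable (O : Sheaf J CommRingCat.{u})

lemma isIso_Lf_whiskerLeft_unit (P Q : PM O.obj) :
    IsIso ((Lf O).map (Q ◁ (adjLf O).unit.app P)) := by
  have h : Q ◁ (adjLf O).unit.app P =
      (β_ Q P).hom ≫ ((adjLf O).unit.app P ▷ Q) ≫ (β_ Q _).inv := by
    rw [← Category.assoc, ← BraidedCategory.braiding_naturality_right, Category.assoc,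
      Iso.hom_inv_id, Category.comp_id]
  rw [h, Functor.map_comp, Functor.map_comp]
  haveI := isIso_Lf_unit_whiskerRight O P Q
  infer_instance

theorem sheafify_tensor_iso (M' N' : PM O.obj) :
    Nonempty ((Lf O).obj (M' ⊗ N') ≅
      ((ModSite.tensorBi O).obj ((Lf O).obj M')).obj ((Lf O).obj N')) := by
  exact ⟨@asIso _ _ _ _ ((Lf O).map ((adjLf O).unit.app M' ▷ N'))
      (isIso_Lf_unit_whiskerRight O M' N') ≪≫
    @asIso _ _ _ _ ((Lf O).map (((iF O).obj ((Lf O).obj M')) ◁ (adjLf O).unit.app N'))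
      (isIso_Lf_whiskerLeft_unit O N' ((iF O).obj ((Lf O).obj M')))⟩

end Groth.Agent.Lib.ModSiteH8
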