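import Mathlib
import Groth.Agent.Lib.ModSite6_helper8

namespace Groth.Agent.Lib.ModSiteH8
open CategoryTheory Limits Opposite MonoidalCategory ModSite

universe u

variable {C : Type u} [SmallCategory C] {J : GrothendieckTopology C}

theorem hasExactColimitsOfShape_sheafOfModules (R : Sheaf J RingCat.{u}) (Λ : Type u)
    [SmallCategory Λ] [IsFiltered Λ] : HasExactColimitsOfShape Λ (SheafOfModules.{u} R) := by
  haveI := toSheaf_preservesColimitsOfSize R
  exact HasExactColimitsOfShape.domain_of_functor Λ (SheafOfModules.toSheaf.{u} R)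

variable (O : Sheaf J CommRingCat.{u})

theorem isIso_Lf_tensorHom_units (M N : PM O.obj) :
    IsIso ((Lf O).map ((adjLf O).unit.app M ⊗ₘ (adjLf O).unit.app N)) := by
  rw [MonoidalCategory.tensorHom_def, Functor.map_comp]
  exact IsIso.comp_isIso' (isIso_Lf_unit_whiskerRight O M N)
    (isIso_Lf_whiskerLeft_unit O N ((iF O).obj ((Lf O).obj M)))


/-- `(tensorBi O).obj G ≅ i ⋙ (iG ⊗ -) ⋙ L` -/
noncomputable def objIso (G : Mod O) :
    (tensorBi O).obj G ≅ iF O ⋙ tensorLeft ((iF O).obj G) ⋙ Lf O :=
  NatIso.ofComponents (fun M => Iso.refl _) (by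
    intro M M' f
    simp only [Iso.refl_hom, Category.comp_id, Category.id_comp]
    rfl)

noncomputable def thetaIso' (G : Mod O) :
    tensorLeft ((iF O).obj G) ⋙ Lf O ≅
      Lf O ⋙ iF O ⋙ tensorLeft ((iF O).obj G) ⋙ Lf O :=
  NatIso.ofComponents
    (fun P => @asIso _ _ _ _ ((Lf O).map ((iF O).obj G ◁ (adjLf O).unit.app P))
      (isIso_Lf_whiskerLeft_unit O P ((iF O).obj G))) (by
    intro P P' g
    show (Lf O).map ((iF O).obj G ◁ g) ≫
        (Lf O).map ((iF O).obj G ◁ (adjLf O).unit.app P') =
      (Lf O).map ((iF O).obj G ◁ (adjLf O).unit.app P) ≫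
        (Lf O).map ((iF O).obj G ◁ (iF O).map ((Lf O).map g))
    rw [← Functor.map_comp, ← Functor.map_comp, ← MonoidalCategory.whiskerLeft_comp,
      ← MonoidalCategory.whiskerLeft_comp]
    congr 2
    exact (adjLf O).unit.naturality g)

theorem preservesColimits_obj (G : Mod O) :
    PreservesColimitsOfSize.{u, u} ((tensorBi O).obj G) := by
  haveI h0' : PreservesColimitsOfSize.{u, u} (tensorLeft ((iF O).obj G)) := inferInstance
  haveI h1 : PreservesColimitsOfSize.{u, u}
      (tensorLeft ((iF O).obj G) ⋙ Lf O) := comp_preservesColimits _ _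
  haveI h2 : PreservesColimitsOfSize.{u, u} (Lf O ⋙ iF O ⋙
      tensorLeft ((iF O).obj G) ⋙ Lf O) :=
    preservesColimits_of_natIso (thetaIso' O G)
  haveI h3 : PreservesColimitsOfSize.{u, u} (iF O ⋙
      tensorLeft ((iF O).obj G) ⋙ Lf O) :=
    preservesColimits_comp_Lf O _
  exact preservesColimits_of_natIso (objIso O G).symm

variable {O}

theorem isFlat_iff (F : Mod O) :
    ModSite.IsFlat F ↔ PreservesFiniteLimits ((tensorBi O).flip.obj F) := by
  constructor
  · exact fun h => h.1
  · intro h
    haveI := preservesColimits_flip O F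
    exact ⟨h, inferInstance⟩

theorem isFlat_of_isColimit {I : Type u} [SmallCategory I] [HasExactColimitsOfShape I (Mod O)]
    (D : I ⥤ Mod O) (hD : ∀ i, ModSite.IsFlat (D.obj i)) (c : Cocone D) (hc : IsColimit c) :
    ModSite.IsFlat c.pt := by
  rw [isFlat_iff]
  let Φ : Mod O ⥤ (I ⥤ Mod O) := tensorBi O ⋙ (Functor.whiskeringLeft I _ _).obj D
  haveI : PreservesFiniteLimits Φ := by
    apply preservesFiniteLimits_of_evaluation
    intro i
    haveI := (hD i).1
    exact preservesFiniteLimits_of_natIso
      (NatIso.ofComponents (fun G => Iso.refl _) :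
        (tensorBi O).flip.obj (D.obj i) ≅ Φ ⋙ (evaluation I (Mod O)).obj i)
  haveI : PreservesFiniteLimits (colim : (I ⥤ Mod O) ⥤ Mod O) :=
    HasExactColimitsOfShape.preservesFiniteLimits
  haveI := fun G => preservesColimits_obj O G
  let e : Φ ⋙ colim ≅ (tensorBi O).flip.obj c.pt :=
    NatIso.ofComponents (fun G => (colimit.isColimit (Φ.obj G)).coconePointUniqueUpToIso
      (isColimitOfPreserves ((tensorBi O).obj G) hc)) (by
      intro G G' g
      apply colimit.hom_ext
      intro j
      have h1 : ∀ (G : Mod O) (j : I), colimit.ι (Φ.obj G) j ≫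
          ((colimit.isColimit (Φ.obj G)).coconePointUniqueUpToIso
            (isColimitOfPreserves ((tensorBi O).obj G) hc)).hom =
          ((tensorBi O).obj G).map (c.ι.app j) := fun G j =>
        IsColimit.comp_coconePointUniqueUpToIso_hom (colimit.isColimit (Φ.obj G)) _ j
      simp only [Functor.comp_map, colim_map, ι_colimMap_assoc]
      rw [h1 G', reassoc_of% (h1 G)]
      exact (((tensorBi O).map g).naturality (c.ι.app j)).symm)
  exact preservesFiniteLimits_of_natIso e


theorem isFlat_of_isColimit_filtered {I : Type u} [SmallCategory I] [IsFiltered I]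
    (D : I ⥤ Mod O) (hD : ∀ i, ModSite.IsFlat (D.obj i)) (c : Cocone D) (hc : IsColimit c) :
    ModSite.IsFlat c.pt := by
  haveI := hasExactColimitsOfShape_sheafOfModules (ringSh O) I
  exact isFlat_of_isColimit D hD c hc

theorem isFlat_of_isColimit_cofan {ι : Type u} (F : ι → Mod O)
    (hF : ∀ i, ModSite.IsFlat (F i)) (c : Cofan F) (hc : IsColimit c) : ModSite.IsFlat c.pt := by
  haveI := hasExactColimitsOfShape_sheafOfModules (ringSh O) (Finset (Discrete ι))
  haveI : HasFiniteBiproducts (Mod O) := HasFiniteBiproducts.of_hasFiniteProducts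
  haveI : HasExactColimitsOfShape (Discrete ι) (Mod O) :=
    hasExactColimitsOfShape_discrete_of_hasExactColimitsOfShape_finset_discrete _ _
  exact isFlat_of_isColimit (Discrete.functor F) (fun i => hF i.as) c hc

end Groth.Agent.Lib.ModSiteH8
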