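import Mathlib
import Groth.Agent.Lib.ModSite7_helper8

namespace Groth.Agent.Lib.ModSiteH8
open CategoryTheory Limits Opposite MonoidalCategory ModSite

universe u

variable {C : Type u} [SmallCategory C]

/-- sectionwise flat presheaves of modules are flat for the presheaf tensor product -/
theorem preservesFiniteLimits_tensorRight_of_flat (R : Cᵒᵖ ⥤ CommRingCat.{u}) (F : PM R)
    (hF : ∀ X : Cᵒᵖ, Module.Flat (R.obj X) (F.obj X)) :
    PreservesFiniteLimits (tensorRight F) := by
  constructor
  intro K _ _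
  constructor
  intro H
  constructor
  intro c hc
  constructor
  refine PresheafOfModules.evaluationJointlyReflectsLimits _ _ (fun X => ?_)
  haveI := hF X
  haveI : PreservesFiniteLimits (tensorRight (show ModuleCat (R.obj X) from F.obj X)) :=
    inferInstance
  exact isLimitOfPreserves (tensorRight (show ModuleCat (R.obj X) from F.obj X))
    (isLimitOfPreserves (PresheafOfModules.evaluation _ X) hc)


theorem presheaf_tensorRight_exact_of_flat (R : Cᵒᵖ ⥤ CommRingCat.{u}) (F : PM R)
    (hF : ∀ X : Cᵒᵖ, Module.Flat (R.obj X) (F.obj X)) :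
    PreservesFiniteLimits (tensorRight F) ∧ PreservesFiniteColimits (tensorRight F) := by
  refine ⟨preservesFiniteLimits_tensorRight_of_flat R F hF, ?_⟩
  haveI : PreservesColimitsOfSize.{u, u} (tensorRight F) := inferInstance
  infer_instance

variable {J : GrothendieckTopology C} (O : Sheaf J CommRingCat.{u})

/-- `tensorRight (iL Q) ⋙ L ≅ tensorRight Q ⋙ L` -/
noncomputable def tensorRightLfIso (Q : PM O.obj) :
    tensorRight Q ⋙ Lf O ≅ tensorRight ((iF O).obj ((Lf O).obj Q)) ⋙ Lf O :=
  NatIso.ofComponents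
    (fun X => @asIso _ _ _ _ ((Lf O).map (X ◁ (adjLf O).unit.app Q))
      (isIso_Lf_whiskerLeft_unit O Q X)) (by
    intro X X' f
    show (Lf O).map (f ▷ Q) ≫ (Lf O).map (X' ◁ (adjLf O).unit.app Q) =
      (Lf O).map (X ◁ (adjLf O).unit.app Q) ≫ (Lf O).map (f ▷ (iF O).obj ((Lf O).obj Q))
    rw [← Functor.map_comp, ← Functor.map_comp]
    congr 1
    exact (whisker_exchange f ((adjLf O).unit.app Q)).symm)

theorem isFlat_tensor (G F : Mod O) (hG : ModSite.IsFlat G) (hF : ModSite.IsFlat F) :
    ModSite.IsFlat (((tensorBi O).obj G).obj F) := by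
  rw [isFlat_iff] at hG hF ⊢
  haveI := hG
  haveI := hF
  haveI : PreservesFiniteLimits ((tensorBi O).flip.obj G ⋙ (tensorBi O).flip.obj F) :=
    comp_preservesFiniteLimits _ _
  let Q : PM O.obj := (iF O).obj G ⊗ (iF O).obj F
  let e : (tensorBi O).flip.obj G ⋙ (tensorBi O).flip.obj F ≅
      (tensorBi O).flip.obj (((tensorBi O).obj G).obj F) :=
    calc (tensorBi O).flip.obj G ⋙ (tensorBi O).flip.obj F
        ≅ (iF O ⋙ tensorRight ((iF O).obj G) ⋙ Lf O) ⋙
            (iF O ⋙ tensorRight ((iF O).obj F) ⋙ Lf O) :=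
          Functor.isoWhiskerRight (flipIso O G) _ ≪≫ Functor.isoWhiskerLeft _ (flipIso O F)
      _ ≅ iF O ⋙ tensorRight ((iF O).obj G) ⋙ (tensorRight ((iF O).obj F) ⋙ Lf O) :=
          Functor.isoWhiskerLeft (iF O) (Functor.isoWhiskerLeft (tensorRight ((iF O).obj G))
            (thetaIso O F).symm)
      _ ≅ iF O ⋙ (tensorRight Q ⋙ Lf O) :=
          Functor.isoWhiskerLeft (iF O) (Functor.isoWhiskerRight
            (tensorRightTensor ((iF O).obj G) ((iF O).obj F)).symm (Lf O))
      _ ≅ iF O ⋙ (tensorRight ((iF O).obj ((Lf O).obj Q)) ⋙ Lf O) :=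
          Functor.isoWhiskerLeft (iF O) (tensorRightLfIso O Q)
      _ ≅ (tensorBi O).flip.obj (((tensorBi O).obj G).obj F) :=
          (flipIso O (((tensorBi O).obj G).obj F)).symm
  exact preservesFiniteLimits_of_natIso e

end Groth.Agent.Lib.ModSiteH8
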