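import Mathlib

namespace Groth.Agent.Lib.TensorFlatH8
open CategoryTheory Limits

variable {𝒜 : Type*} [Category 𝒜] [Abelian 𝒜]

/-- Diagram chase (via refinements): in a commutative diagram
```
A₁ → A₂ → A₃
↓v₁  ↓v₂  ↓v₃
B₁ → B₂ → B₃
↓π₁  ↓π₂
C₁ → C₂
```
with the top row exact at `A₂`, `b₁ ≫ b₂ = 0`, the middle column exact at `B₂`, `π₁` epi,
`v₁ ≫ π₁ = 0`, `v₃` mono and `b₁` mono, the map `c₁` is mono. -/
theorem mono_of_chase {A₁ A₂ A₃ B₁ B₂ B₃ C₁ C₂ : 𝒜}
    (a₁ : A₁ ⟶ A₂) (a₂ : A₂ ⟶ A₃) (b₁ : B₁ ⟶ B₂) (b₂ : B₂ ⟶ B₃) (c₁ : C₁ ⟶ C₂)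
    (v₁ : A₁ ⟶ B₁) (v₂ : A₂ ⟶ B₂) (v₃ : A₃ ⟶ B₃) (π₁ : B₁ ⟶ C₁) (π₂ : B₂ ⟶ C₂)
    (sq1 : a₁ ≫ v₂ = v₁ ≫ b₁) (sq2 : a₂ ≫ v₃ = v₂ ≫ b₂) (sq3 : b₁ ≫ π₂ = π₁ ≫ c₁)
    (wa : a₁ ≫ a₂ = 0) (hA : (ShortComplex.mk a₁ a₂ wa).Exact)
    (hb : b₁ ≫ b₂ = 0)
    (w2 : v₂ ≫ π₂ = 0) (hcol2 : (ShortComplex.mk v₂ π₂ w2).Exact)
    [Epi π₁] (hv₁π₁ : v₁ ≫ π₁ = 0) [Mono v₃] [Mono b₁] : Mono c₁ := by
  rw [Preadditive.mono_iff_cancel_zero]
  intro A x hx
  obtain ⟨A', e1, _, x₁, h1⟩ := surjective_up_to_refinements_of_epi π₁ x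
  have hy : (x₁ ≫ b₁) ≫ π₂ = 0 := by
    rw [Category.assoc, sq3, ← Category.assoc, ← h1, Category.assoc, hx, comp_zero]
  obtain ⟨A'', e2, _, z₂, h2⟩ := hcol2.exact_up_to_refinements (x₁ ≫ b₁) hy
  have hz : z₂ ≫ a₂ = 0 := by
    rw [← cancel_mono v₃, Category.assoc, sq2, ← Category.assoc, zero_comp]
    have : z₂ ≫ v₂ = e2 ≫ x₁ ≫ b₁ := h2.symm
    rw [this, Category.assoc, Category.assoc, hb, comp_zero, comp_zero]
  obtain ⟨A''', e3, _, w₃, h3⟩ := hA.exact_up_to_refinements z₂ hz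
  have h4 : w₃ ≫ v₁ = e3 ≫ e2 ≫ x₁ := by
    rw [← cancel_mono b₁, Category.assoc, ← sq1, ← Category.assoc]
    have : w₃ ≫ a₁ = e3 ≫ z₂ := h3.symm
    rw [this, Category.assoc, Category.assoc, Category.assoc]
    congr 1
    exact h2.symm
  have h5 : (e3 ≫ e2 ≫ e1) ≫ x = 0 := by
    rw [Category.assoc, Category.assoc, h1, ← Category.assoc e2, ← Category.assoc e3, ← h4,
      Category.assoc, hv₁π₁, comp_zero]
  exact (cancel_epi (e3 ≫ e2 ≫ e1)).1 (h5.trans comp_zero.symm)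


variable (B : 𝒜 ⥤ 𝒜 ⥤ 𝒜)

/-- Lemma X: tensoring a short exact sequence with flat right-hand term stays short exact,
provided `G` admits a flat cover. -/
theorem shortExact_map_flip_of_flat
    [∀ X, (B.obj X).Additive] [∀ Y, (B.flip.obj Y).Additive]
    [∀ X, PreservesFiniteColimits (B.obj X)] [∀ Y, PreservesFiniteColimits (B.flip.obj Y)]
    (S : ShortComplex 𝒜) (hS : S.ShortExact)
    (hF : ∀ {K P : 𝒜} (k : K ⟶ P), Mono k → Mono ((B.obj S.X₃).map k))
    (G P : 𝒜) (p : P ⟶ G) [Epi p] [PreservesFiniteLimits (B.flip.obj P)] :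
    (S.map (B.flip.obj G)).ShortExact := by
  have hT : (ShortComplex.mk (kernel.ι p) p (kernel.condition p)).ShortExact :=
    { exact := ShortComplex.exact_kernel p }
  have hmono : Mono ((B.flip.obj G).map S.f) := by
    haveI := hS.mono_f
    haveI : Mono ((B.obj S.X₃).map (kernel.ι p)) := hF _ inferInstance
    haveI : Mono ((B.flip.obj P).map S.f) := inferInstance
    have hA := ((Functor.preservesFiniteColimits_iff_forall_exact_map_and_epi
      (B.flip.obj (kernel p))).1 inferInstance S hS).1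
    have hcol := ((Functor.preservesFiniteColimits_iff_forall_exact_map_and_epi
      (B.obj S.X₂)).1 inferInstance _ hT).1
    haveI : Epi ((B.obj S.X₁).map p) := inferInstance
    refine mono_of_chase ((B.flip.obj (kernel p)).map S.f) ((B.flip.obj (kernel p)).map S.g)
      ((B.flip.obj P).map S.f) ((B.flip.obj P).map S.g) ((B.flip.obj G).map S.f)
      ((B.obj S.X₁).map (kernel.ι p)) ((B.obj S.X₂).map (kernel.ι p))
      ((B.obj S.X₃).map (kernel.ι p)) ((B.obj S.X₁).map p) ((B.obj S.X₂).map p)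
      ((B.map S.f).naturality (kernel.ι p)).symm ((B.map S.g).naturality (kernel.ι p)).symm
      ((B.map S.f).naturality p).symm (S.map (B.flip.obj (kernel p))).zero hA
      (S.map (B.flip.obj P)).zero
      (ShortComplex.map (ShortComplex.mk (kernel.ι p) p (kernel.condition p)) (B.obj S.X₂)).zero
      hcol ?_
    rw [← Functor.map_comp, kernel.condition, Functor.map_zero]
  obtain ⟨hex, hepi⟩ := (Functor.preservesFiniteColimits_iff_forall_exact_map_and_epi
    (B.flip.obj G)).1 inferInstance S hS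
  exact { exact := hex, mono_f := hmono, epi_g := hepi }


/-- symmetric form of flatness in the first variable -/
theorem mono_obj_map_of_flat (σ : ∀ X, B.obj X ≅ B.flip.obj X) (F : 𝒜)
    [PreservesFiniteLimits (B.flip.obj F)] {K P : 𝒜} (k : K ⟶ P) (hk : Mono k) :
    Mono ((B.obj F).map k) := by
  have h : (B.obj F).map k = (σ F).hom.app K ≫ (B.flip.obj F).map k ≫ (σ F).inv.app P := by
    rw [← Category.assoc, ← (σ F).hom.naturality k, Category.assoc, Iso.hom_inv_id_app,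
      Category.comp_id]
  rw [h]
  haveI : Mono ((B.flip.obj F).map k) := inferInstance
  infer_instance

/-- Lemma X with symmetry and enough flats. -/
theorem shortExact_map_flip (σ : ∀ X, B.obj X ≅ B.flip.obj X)
    [∀ X, (B.obj X).Additive] [∀ Y, (B.flip.obj Y).Additive]
    [∀ X, PreservesFiniteColimits (B.obj X)] [∀ Y, PreservesFiniteColimits (B.flip.obj Y)]
    (cover : ∀ G : 𝒜, ∃ (P : 𝒜) (p : P ⟶ G), Epi p ∧ PreservesFiniteLimits (B.flip.obj P))
    (S : ShortComplex 𝒜) (hS : S.ShortExact) [PreservesFiniteLimits (B.flip.obj S.X₃)] (G : 𝒜) :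
    (S.map (B.flip.obj G)).ShortExact := by
  obtain ⟨P, p, hp, hP⟩ := cover G
  exact shortExact_map_flip_of_flat B S hS (fun k hk => mono_obj_map_of_flat B σ S.X₃ k hk) G P p

theorem flat_two_of_three (σ : ∀ X, B.obj X ≅ B.flip.obj X)
    [∀ X, (B.obj X).Additive] [∀ Y, (B.flip.obj Y).Additive]
    [∀ X, PreservesFiniteColimits (B.obj X)] [∀ Y, PreservesFiniteColimits (B.flip.obj Y)]
    (cover : ∀ G : 𝒜, ∃ (P : 𝒜) (p : P ⟶ G), Epi p ∧ PreservesFiniteLimits (B.flip.obj P))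
    (S : ShortComplex 𝒜) (hS : S.ShortExact) [PreservesFiniteLimits (B.flip.obj S.X₃)] :
    (PreservesFiniteLimits (B.flip.obj S.X₁) → PreservesFiniteLimits (B.flip.obj S.X₂)) ∧
    (PreservesFiniteLimits (B.flip.obj S.X₂) → PreservesFiniteLimits (B.flip.obj S.X₁)) := by
  -- rows
  have hrow : ∀ G : 𝒜, (S.map (B.obj G)).ShortExact := fun G =>
    ShortComplex.shortExact_of_iso (S.mapNatIso (σ G)).symm (shortExact_map_flip B σ cover S hS G)
  let φ : ∀ {G' G : 𝒜} (u : G' ⟶ G), S.map (B.obj G') ⟶ S.map (B.obj G) := fun u =>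
    { τ₁ := (B.map u).app S.X₁
      τ₂ := (B.map u).app S.X₂
      τ₃ := (B.map u).app S.X₃
      comm₁₂ := ((B.map u).naturality S.f).symm
      comm₂₃ := ((B.map u).naturality S.g).symm }
  constructor
  · intro h₁
    rw [Functor.preservesFiniteLimits_iff_forall_exact_map_and_mono]
    intro U hU
    refine ⟨((Functor.preservesFiniteColimits_iff_forall_exact_map_and_epi
      (B.flip.obj S.X₂)).1 inferInstance U hU).1, ?_⟩
    haveI := hU.mono_f
    haveI := (hrow U.X₁).mono_f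
    haveI := (hrow U.X₂).mono_f
    haveI : Mono (φ U.f).τ₁ := (inferInstance : Mono ((B.flip.obj S.X₁).map U.f))
    haveI : Mono (φ U.f).τ₃ := (inferInstance : Mono ((B.flip.obj S.X₃).map U.f))
    exact ShortComplex.mono_τ₂_of_exact_of_mono (φ U.f) (hrow U.X₁).exact
  · intro h₂
    rw [Functor.preservesFiniteLimits_iff_forall_exact_map_and_mono]
    intro U hU
    refine ⟨((Functor.preservesFiniteColimits_iff_forall_exact_map_and_epi
      (B.flip.obj S.X₁)).1 inferInstance U hU).1, ?_⟩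
    haveI := hU.mono_f
    haveI : Mono ((S.map (B.obj U.X₁)).f) := (hrow U.X₁).mono_f
    haveI : Mono (φ U.f).τ₂ := (inferInstance : Mono ((B.flip.obj S.X₂).map U.f))
    haveI : Mono ((φ U.f).τ₁ ≫ (S.map (B.obj U.X₂)).f) := by
      rw [(φ U.f).comm₁₂]
      infer_instance
    exact mono_of_mono (φ U.f).τ₁ (S.map (B.obj U.X₂)).f

end Groth.Agent.Lib.TensorFlatH8
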