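import Mathlib
import Groth.Agent.Lib.ModSite2_helper8
import Groth.Agent.Lib.ModSite8_helper8
import Groth.Agent.Lib.TensorFlat_helper8

namespace Groth.Agent.Lib.ModSiteH8
open CategoryTheory Limits Opposite MonoidalCategory ModSite

universe u

variable {C : Type u} [SmallCategory C] {J : GrothendieckTopology C}

lemma additive_of_preservesFiniteColimits {𝒞 𝒟 : Type*} [Category 𝒞] [Category 𝒟] [Abelian 𝒞]
    [Abelian 𝒟] (F : 𝒞 ⥤ 𝒟) [PreservesFiniteColimits F] : F.Additive := by
  haveI : PreservesBinaryBiproducts F := preservesBinaryBiproducts_of_preservesBinaryCoproducts F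
  exact Functor.additive_of_preservesBinaryBiproducts F

variable (O : Sheaf J CommRingCat.{u})

instance flip_preservesFiniteColimits (N : Mod O) :
    PreservesFiniteColimits ((tensorBi O).flip.obj N) := by
  haveI := preservesColimits_flip O N
  infer_instance

instance obj_preservesFiniteColimits (N : Mod O) :
    PreservesFiniteColimits ((tensorBi O).obj N) := by
  haveI := preservesColimits_obj O N
  infer_instance

instance flip_additive (N : Mod O) : ((tensorBi O).flip.obj N).Additive :=
  additive_of_preservesFiniteColimits _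

instance obj_additive (N : Mod O) : ((tensorBi O).obj N).Additive :=
  additive_of_preservesFiniteColimits _

/-- symmetry of the tensor product of sheaves of modules -/
noncomputable def sigmaIso (X : Mod O) : (tensorBi O).obj X ≅ (tensorBi O).flip.obj X :=
  objIso O X ≪≫ Functor.isoWhiskerLeft (iF O) (Functor.isoWhiskerRight
    (BraidedCategory.tensorLeftIsoTensorRight ((iF O).obj X)) (Lf O)) ≪≫ (flipIso O X).symm


/-- the free presheaf of modules on a representable -/
noncomputable abbrev freeY (X : C) : PM O.obj :=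
  (PresheafOfModules.free (O.obj ⋙ forget₂ CommRingCat.{u} RingCat.{u})).obj (yoneda.obj X)

lemma freeY_flat (X : C) (V : Cᵒᵖ) : Module.Flat (O.obj.obj V) ((freeY O X).obj V) := by
  show Module.Flat (O.obj.obj V) (((yoneda.obj X).obj V) →₀ (O.obj.obj V))
  infer_instance

/-- `L(free(yX)) ≅ freeOn O X` -/
noncomputable def freeOnIso (X : C) : (Lf O).obj (freeY O X) ≅ freeOn O X :=
  isoOfHomEquiv (fun M => ((adjLf O).homEquiv _ M).trans
    (PresheafOfModules.freeYonedaEquiv.trans (freeOnEquiv O X M).symm)) (by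
    intro M N h g
    have h1 : (adjLf O).homEquiv (freeY O X) N (h ≫ g) =
        (adjLf O).homEquiv (freeY O X) M h ≫ (iF O).map g :=
      Adjunction.homEquiv_naturality_right _ _ _
    have h2 : PresheafOfModules.freeYonedaEquiv
        ((adjLf O).homEquiv (freeY O X) M h ≫ (iF O).map g) =
        g.val.app (op X) (PresheafOfModules.freeYonedaEquiv
          ((adjLf O).homEquiv (freeY O X) M h)) := rfl
    exact ((congrArg (fun t => (freeOnEquiv O X N).symm
      (PresheafOfModules.freeYonedaEquiv t)) h1).trans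
      ((congrArg (freeOnEquiv O X N).symm h2).trans (freeOnEquiv_symm_comp O X _ g).symm)))


instance : PreservesFiniteLimits (iF O) := by
  haveI : PreservesLimitsOfSize.{0, 0} (iF O) := (adjLf O).rightAdjoint_preservesLimits
  exact PreservesLimitsOfSize.preservesFiniteLimits _

instance : PreservesFiniteLimits (Lf O) :=
  inferInstanceAs (PreservesFiniteLimits
    (PresheafOfModules.sheafification.{u} (𝟙 (ringSh O).obj)))

theorem isFlat_Lf_of_sectionwise_flat (Q : PM O.obj)
    (hQ : ∀ V : Cᵒᵖ, Module.Flat (O.obj.obj V) (Q.obj V)) : ModSite.IsFlat ((Lf O).obj Q) := by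
  rw [isFlat_iff]
  haveI := preservesFiniteLimits_tensorRight_of_flat O.obj Q hQ
  haveI : PreservesFiniteLimits (iF O ⋙ tensorRight Q ⋙ Lf O) :=
    comp_preservesFiniteLimits _ _
  exact preservesFiniteLimits_of_natIso
    (Functor.isoWhiskerLeft (iF O) (tensorRightLfIso O Q) ≪≫
      (flipIso O ((Lf O).obj Q)).symm)

theorem isFlat_of_iso {F F' : Mod O} (e : F ≅ F') (h : ModSite.IsFlat F) : ModSite.IsFlat F' := by
  rw [isFlat_iff] at h ⊢
  haveI := h
  exact preservesFiniteLimits_of_natIso ((tensorBi O).flip.mapIso e)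

theorem isFlat_freeOn (X : C) : ModSite.IsFlat (freeOn O X) :=
  isFlat_of_iso O (freeOnIso O X) (isFlat_Lf_of_sectionwise_flat O _ (freeY_flat O X))

/-- every module is a quotient of a flat module -/
theorem exists_flat_cover (G : Mod O) : ∃ (P : Mod O) (p : P ⟶ G), Epi p ∧
    PreservesFiniteLimits ((tensorBi O).flip.obj P) := by
  let I : Type u := Σ X : C, (freeOn O X ⟶ G)
  let Fam : I → Mod O := fun i => freeOn O i.1
  refine ⟨∐ Fam, Sigma.desc (fun i => i.2), ⟨?_⟩, ?_⟩
  · intro H a b hab
    have hsep := freeOn_isSeparating O (Set.univ : Set C) (fun X => ⟨PUnit, fun _ => X,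
      fun _ => 𝟙 X, by
        have : Sieve.ofArrows (fun _ : PUnit.{u+1} => X) (fun _ => 𝟙 X) = ⊤ :=
          (Sieve.id_mem_iff_eq_top).1 (Sieve.ofArrows_mk _ _ PUnit.unit)
        rw [this]
        exact J.top_mem X, fun _ => Set.mem_univ _⟩)
    apply hsep
    rintro _ ⟨⟨X, _⟩⟩ h
    have := (Sigma.ι Fam ⟨X, h⟩) ≫= hab
    simpa using this
  · exact (isFlat_iff _).1 (isFlat_of_isColimit_cofan Fam (fun i => isFlat_freeOn O i.1)
      (Cofan.mk _ (Sigma.ι Fam)) (coproductIsCoproduct Fam))


theorem tensor_shortExact_of_isFlat (S : ShortComplex (Mod O)) (hS : S.ShortExact)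
    (hF : ModSite.IsFlat S.X₃) (G : Mod O) :
    (S.map ((tensorBi O).flip.obj G)).ShortExact := by
  haveI := (isFlat_iff _).1 hF
  exact Groth.Agent.Lib.TensorFlatH8.shortExact_map_flip (tensorBi O) (sigmaIso O)
    (exists_flat_cover O) S hS G

theorem isFlat_two_of_three (S : ShortComplex (Mod O)) (hS : S.ShortExact)
    (h₀ : ModSite.IsFlat S.X₃) :
    (ModSite.IsFlat S.X₁ → ModSite.IsFlat S.X₂) ∧ (ModSite.IsFlat S.X₂ → ModSite.IsFlat S.X₁) := by
  haveI := (isFlat_iff _).1 h₀
  have := Groth.Agent.Lib.TensorFlatH8.flat_two_of_three (tensorBi O) (sigmaIso O)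
    (exists_flat_cover O) S hS
  simp only [isFlat_iff]
  exact this

end Groth.Agent.Lib.ModSiteH8
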