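import Mathlib
import Groth.Prelude.Def_KFlatSite
import Groth.Agent.Lib.ModSite9_helper8

/-!
# Associativity of the tensor product of sheaves of modules on a ringed site, as an isomorphism of
trifunctors, and the associativity isomorphism for total tensor complexes.
-/

namespace Groth.Agent.Lib.TensorAssoc
open CategoryTheory Limits MonoidalCategory ModSite Groth.Agent.Lib.ModSiteH8

universe u

/-- a generic naturality lemma for a composite `inv t₁ ≫ a ≫ t₃` -/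
lemma nat_general {D : Type*} [Category D] {X X' Y Y' P P' Q Q' : D}
    (t1 : P ⟶ X) [IsIso t1] (t1' : P' ⟶ X') [IsIso t1'] (a : P ⟶ Q) (a' : P' ⟶ Q')
    (t3 : Q ⟶ Y) (t3' : Q' ⟶ Y') (x : X ⟶ X') (p : P ⟶ P') (q : Q ⟶ Q') (y : Y ⟶ Y')
    (h1 : t1 ≫ x = p ≫ t1') (h2 : p ≫ a' = a ≫ q) (h3 : q ≫ t3' = t3 ≫ y) :
    x ≫ (inv t1' ≫ a' ≫ t3') = (inv t1 ≫ a ≫ t3) ≫ y := by
  rw [← cancel_epi t1]
  simp only [Category.assoc, IsIso.hom_inv_id_assoc]
  rw [reassoc_of% h1, IsIso.hom_inv_id_assoc, reassoc_of% h2, h3]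

variable {C : Type u} [SmallCategory C] {J : GrothendieckTopology C}
variable (O : Sheaf J CommRingCat.{u})

lemma tensorBi_obj_map (A : Mod O) {B B' : Mod O} (g : B ⟶ B') :
    ((tensorBi O).obj A).map g = (Lf O).map ((iF O).obj A ◁ (iF O).map g) := rfl

lemma tensorBi_map_app {A A' : Mod O} (f : A ⟶ A') (B : Mod O) :
    ((tensorBi O).map f).app B = (Lf O).map ((iF O).map f ▷ (iF O).obj B) := rfl

/-- `L((iA ⊗ iB) ⊗ iC) ⟶ (A ⊗ B) ⊗ C` -/
noncomputable def t1 (A B X : Mod O) :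
    (Lf O).obj (((iF O).obj A ⊗ (iF O).obj B) ⊗ (iF O).obj X) ⟶
      ((tensorBi O).obj (((tensorBi O).obj A).obj B)).obj X :=
  (Lf O).map ((adjLf O).unit.app ((iF O).obj A ⊗ (iF O).obj B) ▷ (iF O).obj X)

instance (A B X : Mod O) : IsIso (t1 O A B X) := isIso_Lf_unit_whiskerRight O _ _

/-- `L(iA ⊗ (iB ⊗ iC)) ⟶ A ⊗ (B ⊗ C)` -/
noncomputable def t3 (A B X : Mod O) :
    (Lf O).obj ((iF O).obj A ⊗ ((iF O).obj B ⊗ (iF O).obj X)) ⟶
      ((tensorBi O).obj A).obj (((tensorBi O).obj B).obj X) :=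
  (Lf O).map ((iF O).obj A ◁ (adjLf O).unit.app ((iF O).obj B ⊗ (iF O).obj X))

instance (A B X : Mod O) : IsIso (t3 O A B X) := isIso_Lf_whiskerLeft_unit O _ _

/-- the middle map `L(α)` -/
noncomputable def tα (A B X : Mod O) :
    (Lf O).obj (((iF O).obj A ⊗ (iF O).obj B) ⊗ (iF O).obj X) ⟶
      (Lf O).obj ((iF O).obj A ⊗ ((iF O).obj B ⊗ (iF O).obj X)) :=
  (Lf O).map (α_ ((iF O).obj A) ((iF O).obj B) ((iF O).obj X)).hom

instance (A B X : Mod O) : IsIso (tα O A B X) := by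
  unfold tα; infer_instance

/-- the associativity isomorphism on objects -/
noncomputable def assocIso (A B X : Mod O) :
    ((tensorBi O).obj (((tensorBi O).obj A).obj B)).obj X ≅
      ((tensorBi O).obj A).obj (((tensorBi O).obj B).obj X) where
  hom := inv (t1 O A B X) ≫ tα O A B X ≫ t3 O A B X
  inv := inv (t3 O A B X) ≫ inv (tα O A B X) ≫ t1 O A B X
  hom_inv_id := by simp
  inv_hom_id := by simp

section nat
variable {O}
variable (A B X : Mod O)

/-- functoriality of `Lf` on commutative squares -/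
lemma Lmap_sq {P Q R S : PM O.obj} (f : P ⟶ Q) (g : Q ⟶ S) (f' : P ⟶ R) (g' : R ⟶ S)
    (h : f ≫ g = f' ≫ g') :
    (Lf O).map f ≫ (Lf O).map g = (Lf O).map f' ≫ (Lf O).map g' := by
  rw [← Functor.map_comp, h, Functor.map_comp]

lemma wl_sq (Z : PM O.obj) {P Q R S : PM O.obj} (f : P ⟶ Q) (g : Q ⟶ S) (f' : P ⟶ R) (g' : R ⟶ S)
    (h : f ≫ g = f' ≫ g') :
    (Z ◁ f) ≫ (Z ◁ g) = (Z ◁ f') ≫ (Z ◁ g') := by
  rw [← MonoidalCategory.whiskerLeft_comp, h, MonoidalCategory.whiskerLeft_comp]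

lemma wr_sq (Z : PM O.obj) {P Q R S : PM O.obj} (f : P ⟶ Q) (g : Q ⟶ S) (f' : P ⟶ R) (g' : R ⟶ S)
    (h : f ≫ g = f' ≫ g') :
    (f ▷ Z) ≫ (g ▷ Z) = (f' ▷ Z) ≫ (g' ▷ Z) := by
  rw [← comp_whiskerRight, h, comp_whiskerRight]

/-! naturality in the third variable -/
lemma t1_nat₃ {X' : Mod O} (h : X ⟶ X') :
    t1 O A B X ≫ ((tensorBi O).obj (((tensorBi O).obj A).obj B)).map h =
      (Lf O).map (((iF O).obj A ⊗ (iF O).obj B) ◁ (iF O).map h) ≫ t1 O A B X' :=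
  Lmap_sq ((adjLf O).unit.app ((iF O).obj A ⊗ (iF O).obj B) ▷ (iF O).obj X)
    ((iF O).obj (((tensorBi O).obj A).obj B) ◁ (iF O).map h)
    (((iF O).obj A ⊗ (iF O).obj B) ◁ (iF O).map h)
    ((adjLf O).unit.app ((iF O).obj A ⊗ (iF O).obj B) ▷ (iF O).obj X')
    (whisker_exchange _ _).symm

lemma tα_nat₃ {X' : Mod O} (h : X ⟶ X') :
    (Lf O).map (((iF O).obj A ⊗ (iF O).obj B) ◁ (iF O).map h) ≫ tα O A B X' =
      tα O A B X ≫ (Lf O).map ((iF O).obj A ◁ ((iF O).obj B ◁ (iF O).map h)) :=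
  Lmap_sq _ _ _ _ (associator_naturality_right _ _ _)

lemma t3_nat₃ {X' : Mod O} (h : X ⟶ X') :
    (Lf O).map ((iF O).obj A ◁ ((iF O).obj B ◁ (iF O).map h)) ≫ t3 O A B X' =
      t3 O A B X ≫ ((tensorBi O).obj A).map (((tensorBi O).obj B).map h) :=
  Lmap_sq ((iF O).obj A ◁ ((iF O).obj B ◁ (iF O).map h))
    ((iF O).obj A ◁ (adjLf O).unit.app ((iF O).obj B ⊗ (iF O).obj X'))
    ((iF O).obj A ◁ (adjLf O).unit.app ((iF O).obj B ⊗ (iF O).obj X))
    ((iF O).obj A ◁ (iF O).map (((tensorBi O).obj B).map h))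
    (wl_sq _ _ _ _ _ ((adjLf O).unit.naturality ((iF O).obj B ◁ (iF O).map h)))

/-! naturality in the second variable -/
lemma t1_nat₂ {B' : Mod O} (g : B ⟶ B') :
    t1 O A B X ≫ ((tensorBi O).map (((tensorBi O).obj A).map g)).app X =
      (Lf O).map (((iF O).obj A ◁ (iF O).map g) ▷ (iF O).obj X) ≫ t1 O A B' X :=
  Lmap_sq ((adjLf O).unit.app ((iF O).obj A ⊗ (iF O).obj B) ▷ (iF O).obj X)
    ((iF O).map (((tensorBi O).obj A).map g) ▷ (iF O).obj X)
    (((iF O).obj A ◁ (iF O).map g) ▷ (iF O).obj X)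
    ((adjLf O).unit.app ((iF O).obj A ⊗ (iF O).obj B') ▷ (iF O).obj X)
    (wr_sq _ _ _ _ _ ((adjLf O).unit.naturality ((iF O).obj A ◁ (iF O).map g)).symm)

lemma tα_nat₂ {B' : Mod O} (g : B ⟶ B') :
    (Lf O).map (((iF O).obj A ◁ (iF O).map g) ▷ (iF O).obj X) ≫ tα O A B' X =
      tα O A B X ≫ (Lf O).map ((iF O).obj A ◁ ((iF O).map g ▷ (iF O).obj X)) :=
  Lmap_sq _ _ _ _ (associator_naturality_middle _ _ _)

lemma t3_nat₂ {B' : Mod O} (g : B ⟶ B') :
    (Lf O).map ((iF O).obj A ◁ ((iF O).map g ▷ (iF O).obj X)) ≫ t3 O A B' X =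
      t3 O A B X ≫ ((tensorBi O).obj A).map (((tensorBi O).map g).app X) :=
  Lmap_sq ((iF O).obj A ◁ ((iF O).map g ▷ (iF O).obj X))
    ((iF O).obj A ◁ (adjLf O).unit.app ((iF O).obj B' ⊗ (iF O).obj X))
    ((iF O).obj A ◁ (adjLf O).unit.app ((iF O).obj B ⊗ (iF O).obj X))
    ((iF O).obj A ◁ (iF O).map (((tensorBi O).map g).app X))
    (wl_sq _ _ _ _ _ ((adjLf O).unit.naturality ((iF O).map g ▷ (iF O).obj X)))

/-! naturality in the first variable -/
lemma t1_nat₁ {A' : Mod O} (f : A ⟶ A') :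
    t1 O A B X ≫ ((tensorBi O).map (((tensorBi O).map f).app B)).app X =
      (Lf O).map (((iF O).map f ▷ (iF O).obj B) ▷ (iF O).obj X) ≫ t1 O A' B X :=
  Lmap_sq ((adjLf O).unit.app ((iF O).obj A ⊗ (iF O).obj B) ▷ (iF O).obj X)
    ((iF O).map (((tensorBi O).map f).app B) ▷ (iF O).obj X)
    (((iF O).map f ▷ (iF O).obj B) ▷ (iF O).obj X)
    ((adjLf O).unit.app ((iF O).obj A' ⊗ (iF O).obj B) ▷ (iF O).obj X)
    (wr_sq _ _ _ _ _ ((adjLf O).unit.naturality ((iF O).map f ▷ (iF O).obj B)).symm)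

lemma tα_nat₁ {A' : Mod O} (f : A ⟶ A') :
    (Lf O).map (((iF O).map f ▷ (iF O).obj B) ▷ (iF O).obj X) ≫ tα O A' B X =
      tα O A B X ≫ (Lf O).map ((iF O).map f ▷ ((iF O).obj B ⊗ (iF O).obj X)) :=
  Lmap_sq _ _ _ _ (associator_naturality_left _ _ _)

lemma t3_nat₁ {A' : Mod O} (f : A ⟶ A') :
    (Lf O).map ((iF O).map f ▷ ((iF O).obj B ⊗ (iF O).obj X)) ≫ t3 O A' B X =
      t3 O A B X ≫ ((tensorBi O).map f).app (((tensorBi O).obj B).obj X) :=
  Lmap_sq ((iF O).map f ▷ ((iF O).obj B ⊗ (iF O).obj X))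
    ((iF O).obj A' ◁ (adjLf O).unit.app ((iF O).obj B ⊗ (iF O).obj X))
    ((iF O).obj A ◁ (adjLf O).unit.app ((iF O).obj B ⊗ (iF O).obj X))
    ((iF O).map f ▷ (iF O).obj (((tensorBi O).obj B).obj X))
    (whisker_exchange _ _).symm

lemma assocIso_nat₃ {X' : Mod O} (h : X ⟶ X') :
    ((tensorBi O).obj (((tensorBi O).obj A).obj B)).map h ≫ (assocIso O A B X').hom =
      (assocIso O A B X).hom ≫ ((tensorBi O).obj A).map (((tensorBi O).obj B).map h) :=
  nat_general _ _ _ _ _ _ _ _ _ _ (t1_nat₃ A B X h) (tα_nat₃ A B X h) (t3_nat₃ A B X h)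

lemma assocIso_nat₂ {B' : Mod O} (g : B ⟶ B') :
    ((tensorBi O).map (((tensorBi O).obj A).map g)).app X ≫ (assocIso O A B' X).hom =
      (assocIso O A B X).hom ≫ ((tensorBi O).obj A).map (((tensorBi O).map g).app X) :=
  nat_general _ _ _ _ _ _ _ _ _ _ (t1_nat₂ A B X g) (tα_nat₂ A B X g) (t3_nat₂ A B X g)

lemma assocIso_nat₁ {A' : Mod O} (f : A ⟶ A') :
    ((tensorBi O).map (((tensorBi O).map f).app B)).app X ≫ (assocIso O A' B X).hom =
      (assocIso O A B X).hom ≫ ((tensorBi O).map f).app (((tensorBi O).obj B).obj X) :=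
  nat_general _ _ _ _ _ _ _ _ _ _ (t1_nat₁ A B X f) (tα_nat₁ A B X f) (t3_nat₁ A B X f)

end nat

/-- **the associator of `tensorBi O` as an isomorphism of trifunctors** -/
noncomputable def associator :
    bifunctorComp₁₂ (tensorBi O) (tensorBi O) ≅ bifunctorComp₂₃ (tensorBi O) (tensorBi O) :=
  NatIso.ofComponents (fun A => NatIso.ofComponents (fun B => NatIso.ofComponents
    (fun X => assocIso O A B X) (fun {X X'} h => assocIso_nat₃ A B X h))
    (fun {B B'} g => NatTrans.ext (funext fun X => assocIso_nat₂ A B X g)))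
    (fun {A A'} f => NatTrans.ext (funext fun B => NatTrans.ext (funext fun X =>
      assocIso_nat₁ A B X f)))

instance good₁₂ (K₁ K₂ K₃ : CochainComplex (Mod O) ℤ) :
    HomologicalComplex.HasGoodTrifunctor₁₂Obj (tensorBi O) (tensorBi O) K₁ K₂ K₃
      (ComplexShape.up ℤ) (ComplexShape.up ℤ) := fun i₁₂ i₃ => by
  haveI := preservesColimits_flip O (K₃.X i₃)
  haveI : PreservesColimitsOfSize.{0, 0} ((tensorBi O).flip.obj (K₃.X i₃)) :=
    preservesColimitsOfSize_shrink.{0, u, 0, u} _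
  infer_instance

instance good₂₃ (K₁ K₂ K₃ : CochainComplex (Mod O) ℤ) :
    HomologicalComplex.HasGoodTrifunctor₂₃Obj (tensorBi O) (tensorBi O) K₁ K₂ K₃
      (ComplexShape.up ℤ) (ComplexShape.up ℤ) (ComplexShape.up ℤ) := fun i₁ i₂₃ => by
  haveI := preservesColimits_obj O (K₁.X i₁)
  haveI : PreservesColimitsOfSize.{0, 0} ((tensorBi O).obj (K₁.X i₁)) :=
    preservesColimitsOfSize_shrink.{0, u, 0, u} _
  infer_instance

/-- **associativity of the total tensor complex on a ringed site** -/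
noncomputable def tensorCxAssoc (K₁ K₂ K₃ : CochainComplex (Mod O) ℤ) :
    ((tensorCx O).obj (((tensorCx O).obj K₁).obj K₂)).obj K₃ ≅
      ((tensorCx O).obj K₁).obj (((tensorCx O).obj K₂).obj K₃) :=
  HomologicalComplex.mapBifunctorAssociator (associator O) K₁ K₂ K₃
    (ComplexShape.up ℤ) (ComplexShape.up ℤ) (ComplexShape.up ℤ)

/-- **S9055**: the tensor product of K-flat complexes is K-flat. -/
theorem isKFlat_tensorCx (K L : CochainComplex (Mod O) ℤ) (hK : ModSite.IsKFlat K)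
    (hL : ModSite.IsKFlat L) : ModSite.IsKFlat (((tensorCx O).obj K).obj L) := by
  intro F hF i
  have h1 := hK F hF
  have h2 := hL _ h1
  have e := tensorCxAssoc O F K L
  exact (h2 i).of_iso ((HomologicalComplex.homologyFunctor _ _ i).mapIso e.symm)

end Groth.Agent.Lib.TensorAssoc
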