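import Mathlib
import Groth.Agent.Lib.TensorAssoc_helper2
import Groth.Agent.Lib.ModSite9_helper8

/-!
# Tensoring with an invertible sheaf of modules is an equivalence (ringed sites)

Right unitor for `ModSite.tensorBi`, and: if `L ⊗ L' ≅ unit` then `- ⊗ L` is an equivalence of
categories (hence exact, full and faithful).
-/

namespace Groth.Agent.TensInv
open CategoryTheory Limits MonoidalCategory ModSite Groth.Agent.Lib.ModSiteH8
  Groth.Agent.Lib.TensorAssoc

universe u

variable {C : Type u} [SmallCategory C] {J : GrothendieckTopology C}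
variable (O : Sheaf J CommRingCat.{u})

/-- the right unitor `A ⊗ O ≅ A`. -/
noncomputable def rhoIso (A : Mod O) : ((tensorBi O).obj A).obj (ModSite.unit O) ≅ A :=
  (Lf O).mapIso (ρ_ ((iF O).obj A)) ≪≫ asIso ((adjLf O).counit.app A)

lemma rhoIso_nat {A A' : Mod O} (f : A ⟶ A') :
    ((tensorBi O).map f).app (ModSite.unit O) ≫ (rhoIso O A').hom = (rhoIso O A).hom ≫ f := by
  have h1 : (Lf O).map ((iF O).map f ▷ 𝟙_ (PM O.obj)) ≫
      (Lf O).map (ρ_ ((iF O).obj A')).hom =
      (Lf O).map (ρ_ ((iF O).obj A)).hom ≫ (Lf O).map ((iF O).map f) := by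
    rw [← Functor.map_comp, ← Functor.map_comp]
    congr 1
    exact rightUnitor_naturality ((iF O).map f)
  have h2 : (Lf O).map ((iF O).map f) ≫ (adjLf O).counit.app A' =
      (adjLf O).counit.app A ≫ f := (adjLf O).counit.naturality f
  show (Lf O).map ((iF O).map f ▷ 𝟙_ (PM O.obj)) ≫
      ((Lf O).map (ρ_ ((iF O).obj A')).hom ≫ (adjLf O).counit.app A') =
    ((Lf O).map (ρ_ ((iF O).obj A)).hom ≫ (adjLf O).counit.app A) ≫ f
  rw [← Category.assoc, h1, Category.assoc, h2, Category.assoc]

/-- `(A ⊗ L) ⊗ L' ≅ A`, naturally in `A`, when `L ⊗ L' ≅ O`. -/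
noncomputable def compIso (L L' : Mod O) (e : ((tensorBi O).obj L).obj L' ≅ ModSite.unit O) :
    (tensorBi O).flip.obj L ⋙ (tensorBi O).flip.obj L' ≅ 𝟭 (Mod O) :=
  NatIso.ofComponents
    (fun A => assocIso O A L L' ≪≫ ((tensorBi O).obj A).mapIso e ≪≫ rhoIso O A) (by
    intro A A' f
    simp only [Functor.comp_map, Functor.flip_obj_map, Functor.id_map, Iso.trans_hom,
      Functor.mapIso_hom]
    rw [reassoc_of% (assocIso_nat₁ A L L' f)]
    rw [← NatTrans.naturality_assoc]
    have h := rhoIso_nat O f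
    simp only [Category.assoc]
    congr 2)

/-- swap the two factors in an inverse pair. -/
noncomputable def swapInv (L L' : Mod O) (e : ((tensorBi O).obj L).obj L' ≅ ModSite.unit O) :
    ((tensorBi O).obj L').obj L ≅ ModSite.unit O :=
  (sigmaIso O L').app L ≪≫ e

/-- `- ⊗ L` as an equivalence, when `L ⊗ L' ≅ O`. -/
noncomputable def tensorRightEquiv (L L' : Mod O)
    (e : ((tensorBi O).obj L).obj L' ≅ ModSite.unit O) : Mod O ≌ Mod O :=
  CategoryTheory.Equivalence.mk ((tensorBi O).flip.obj L) ((tensorBi O).flip.obj L')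
    (compIso O L L' e).symm (compIso O L' L (swapInv O L L' e))

theorem isEquivalence_flip (L L' : Mod O)
    (e : ((tensorBi O).obj L).obj L' ≅ ModSite.unit O) :
    ((tensorBi O).flip.obj L).IsEquivalence :=
  inferInstanceAs (tensorRightEquiv O L L' e).functor.IsEquivalence

theorem isEquivalence_obj (L L' : Mod O)
    (e : ((tensorBi O).obj L).obj L' ≅ ModSite.unit O) :
    ((tensorBi O).obj L).IsEquivalence := by
  have := isEquivalence_flip O L L' e
  exact Functor.isEquivalence_of_iso (sigmaIso O L).symm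

end Groth.Agent.TensInv
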