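import Mathlib
import Groth.Prelude
import Groth.Agent.Lib.TensInv1_helper9
import Groth.Agent.Lib.P1Split_helper9

/-!
# Tensoring with an invertible module on a scheme is an equivalence; splitting criterion (helper9)
-/

set_option autoImplicit false
universe u
open AlgebraicGeometry CategoryTheory CategoryTheory.Limits

namespace Groth.Agent.TensInv

variable {X : Scheme.{u}}

/-- the tensor bifunctor on `X.Modules` (the site-level one for `X.sheaf`); its values are
definitionally `CohB1.tensorMod`. -/
noncomputable abbrev tB (X : Scheme.{u}) : X.Modules ⥤ X.Modules ⥤ X.Modules :=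
  ModSite.tensorBi X.sheaf

/-- right tensoring `A ↦ A ⊗ L`. -/
noncomputable abbrev tR (L : X.Modules) : X.Modules ⥤ X.Modules := (tB X).flip.obj L

/-- left tensoring `A ↦ L ⊗ A`. -/
noncomputable abbrev tL (L : X.Modules) : X.Modules ⥤ X.Modules := (tB X).obj L

lemma tR_obj (L A : X.Modules) : (tR L).obj A = CohB1.tensorMod A L := rfl
lemma tL_obj (L A : X.Modules) : (tL L).obj A = CohB1.tensorMod L A := rfl

/-- commutativity `L ⊗ A ≅ A ⊗ L`, natural in `A`. -/
noncomputable def commIso (L : X.Modules) : tL L ≅ tR L :=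
  Groth.Agent.Lib.ModSiteH8.sigmaIso X.sheaf L

theorem isEquivalence_tR {L L' : X.Modules}
    (h : Nonempty (CohB1.tensorMod L L' ≅ Coh.structureModule X)) : (tR L).IsEquivalence :=
  isEquivalence_flip X.sheaf L L' h.some

theorem isEquivalence_tL {L L' : X.Modules}
    (h : Nonempty (CohB1.tensorMod L L' ≅ Coh.structureModule X)) : (tL L).IsEquivalence :=
  isEquivalence_obj X.sheaf L L' h.some

theorem swap {L L' : X.Modules}
    (h : Nonempty (CohB1.tensorMod L L' ≅ Coh.structureModule X)) :
    Nonempty (CohB1.tensorMod L' L ≅ Coh.structureModule X) :=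
  ⟨swapInv X.sheaf L L' h.some⟩

/-- an equivalence of abelian categories preserves short exact sequences. -/
theorem shortExact_map_of_isEquivalence {𝒜 ℬ : Type*} [Category 𝒜] [Category ℬ] [Abelian 𝒜]
    [Abelian ℬ] (F : 𝒜 ⥤ ℬ) [F.IsEquivalence] (S : ShortComplex 𝒜) (hS : S.ShortExact) :
    (S.map F).ShortExact := by
  haveI : F.PreservesZeroMorphisms := Functor.preservesZeroMorphisms_of_isLeftAdjoint F
  exact hS.map_of_exact F

/-- a full and faithful functor reflects split epimorphisms. -/
theorem isSplitEpi_of_map {𝒜 ℬ : Type*} [Category 𝒜] [Category ℬ] (F : 𝒜 ⥤ ℬ) [F.Full]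
    [F.Faithful] {A B : 𝒜} (g : A ⟶ B) (h : IsSplitEpi (F.map g)) : IsSplitEpi g := by
  obtain ⟨⟨s, hs⟩⟩ := h
  refine ⟨⟨F.preimage s, ?_⟩⟩
  apply F.map_injective
  rw [F.map_comp, F.map_preimage, hs, F.map_id]

/-- If `T` is an equivalence with `T(S.X₃) ≅ O` and `H¹(T(S.X₁)) = 0` then the short exact
sequence `S` splits. -/
theorem isSplitEpi_of_equiv (T : X.Modules ⥤ X.Modules) [T.IsEquivalence]
    (S : ShortComplex X.Modules) (hS : S.ShortExact) (e : T.obj S.X₃ ≅ Coh.structureModule X)
    (h1 : ∀ x : Coh.HH X (T.obj S.X₁) 1, x = 0) : IsSplitEpi S.g := by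
  have hS' := shortExact_map_of_isEquivalence T S hS
  have w : T.map S.f ≫ T.map S.g ≫ e.hom = 0 := by
    rw [← Category.assoc, ← Functor.map_comp, S.zero, Functor.map_zero, zero_comp]
  have hS'' : (ShortComplex.mk (T.map S.f) (T.map S.g ≫ e.hom) w).ShortExact := by
    refine ShortComplex.shortExact_of_iso
      (?_ : S.map T ≅ ShortComplex.mk (T.map S.f) (T.map S.g ≫ e.hom) w) hS'
    exact ShortComplex.isoMk (Iso.refl _) (Iso.refl _) e
      ((Category.id_comp _).trans (Category.comp_id _).symm)
      (Category.id_comp _)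
  obtain ⟨s, hs⟩ := P1Split.exists_section_of_H1 (T.map S.f) (T.map S.g ≫ e.hom) w hS'' h1
  apply isSplitEpi_of_map T
  refine ⟨⟨e.hom ≫ s, ?_⟩⟩
  rw [Category.assoc, ← cancel_mono e.hom, Category.assoc, Category.assoc, hs]
  simp

/-- A short exact sequence `0 → M → E → L → 0` with `L' ⊗ L ≅ O` and `H¹(L' ⊗ M) = 0` splits. -/
theorem isSplitEpi_of_H1 (S : ShortComplex X.Modules) (hS : S.ShortExact) (L' : X.Modules)
    (hL' : Nonempty (CohB1.tensorMod L' S.X₃ ≅ Coh.structureModule X))
    (h1 : Subsingleton (Coh.HH X (CohB1.tensorMod L' S.X₁) 1)) : IsSplitEpi S.g := by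
  haveI := isEquivalence_tL hL'
  exact isSplitEpi_of_equiv (tL L') S hS hL'.some (fun x => Subsingleton.elim (h := h1) _ _)

/-! ### Convenience isomorphisms -/

instance additive_tR (L : X.Modules) : (tR L).Additive :=
  Groth.Agent.Lib.ModSiteH8.flip_additive X.sheaf L

instance additive_tL (L : X.Modules) : (tL L).Additive :=
  Groth.Agent.Lib.ModSiteH8.obj_additive X.sheaf L

/-- associativity `(A ⊗ B) ⊗ C ≅ A ⊗ (B ⊗ C)`. -/
noncomputable def assoc (A B C : X.Modules) :
    CohB1.tensorMod (CohB1.tensorMod A B) C ≅ CohB1.tensorMod A (CohB1.tensorMod B C) :=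
  Groth.Agent.Lib.TensorAssoc.assocIso X.sheaf A B C

/-- functoriality in the first variable. -/
noncomputable def mapR {A A' : X.Modules} (e : A ≅ A') (L : X.Modules) :
    CohB1.tensorMod A L ≅ CohB1.tensorMod A' L := (tR L).mapIso e

/-- functoriality in the second variable. -/
noncomputable def mapL (L : X.Modules) {A A' : X.Modules} (e : A ≅ A') :
    CohB1.tensorMod L A ≅ CohB1.tensorMod L A' := (tL L).mapIso e

/-- right unit `A ⊗ O ≅ A`. -/
noncomputable def rightUnit (A : X.Modules) :
    CohB1.tensorMod A (Coh.structureModule X) ≅ A := rhoIso X.sheaf A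

/-- commutativity. -/
noncomputable def comm (A B : X.Modules) : CohB1.tensorMod A B ≅ CohB1.tensorMod B A :=
  (commIso A).app B

/-- an equivalence of abelian categories preserves short exact sequences (right tensoring). -/
theorem shortExact_tR {L L' : X.Modules}
    (h : Nonempty (CohB1.tensorMod L L' ≅ Coh.structureModule X))
    (S : ShortComplex X.Modules) (hS : S.ShortExact) : (S.map (tR L)).ShortExact := by
  haveI := isEquivalence_tR h
  exact shortExact_map_of_isEquivalence _ S hS

end Groth.Agent.TensInv
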