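import Mathlib
import Groth.Prelude
import Groth.Agent.Lib.TensInv2_helper9
import Groth.Agent.Lib.Tens3_helper8
import Groth.Agent.Lib.AcycEmb_helper9

/-!
# Invertible modules on integral schemes (helper9)

A nonzero map `O_X ⟶ M` into an invertible module on an integral scheme is a monomorphism.
-/

set_option autoImplicit false
universe u
open AlgebraicGeometry CategoryTheory CategoryTheory.Limits TopologicalSpace Opposite
open QcqsLoc QCohExtn SerreCrit GenLocH8 TensH8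

namespace Groth.Agent.InvInt

variable {X : Scheme.{u}}

/-- a morphism out of `O_X` is determined by the image of `1`. -/
theorem ap_hom_OO {M : X.Modules} (t : OO X ⟶ M) (W : X.Opens) (a : Γ(OO X, W)) :
    ap t W a = toFn a • rF M (le_top : W ≤ ⊤) (ap t ⊤ (ofFn (1 : Γ(X, ⊤)))) := by
  have h : a = toFn a • rF (OO X) (le_top : W ≤ ⊤) (ofFn (1 : Γ(X, ⊤))) := by
    show toFn a = toFn a * rX (le_top : W ≤ ⊤) 1
    rw [map_one, mul_one]
  conv_lhs => rw [h]
  rw [ap_smul, ap_rF]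

theorem hom_OO_eq_zero {M : X.Modules} (t : OO X ⟶ M)
    (h : ap t ⊤ (ofFn (1 : Γ(X, ⊤))) = 0) : t = 0 := by
  apply (SheafOfModules.unitHomEquiv _).injective
  apply Subtype.ext
  funext W
  rw [SheafOfModules.unitHomEquiv_apply_coe, SheafOfModules.unitHomEquiv_apply_coe]
  show ap t W.unop (ofFn 1) = ap (0 : OO X ⟶ M) W.unop (ofFn 1)
  rw [ap_hom_OO, h, map_zero, smul_zero]
  rfl

variable [IsIntegral X]

/-- a global section of an invertible module vanishing on a nonempty open vanishes. -/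
theorem section_eq_zero_of_res {M : X.Modules} (hM : PicF.IsInvertible M) (τ : Γ(M, ⊤))
    (W : X.Opens) (hW : (W : Set X).Nonempty) (h : rF M (le_top : W ≤ ⊤) τ = 0) : τ = 0 := by
  apply eq_zero_of_cover
  intro y _
  obtain ⟨Wy, -, hy, -, e, he⟩ := exists_isGen_le hM y ⊤ trivial
  refine ⟨Wy, le_top, hy, ?_⟩
  obtain ⟨c, hc⟩ := (he Wy le_rfl).1 (rF M (le_top : Wy ≤ ⊤) τ)
  have hne : ((W ⊓ Wy : X.Opens) : Set X).Nonempty :=
    nonempty_preirreducible_inter W.isOpen Wy.isOpen hW ⟨y, hy⟩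
  have h1 : rX (inf_le_right : W ⊓ Wy ≤ Wy) c • rF M (inf_le_right : W ⊓ Wy ≤ Wy) e = 0 := by
    have h2 := congrArg (rF M (inf_le_right : W ⊓ Wy ≤ Wy)) hc
    rw [rF_rF, rF_smul, SubExt.rF_self] at h2
    rw [← h2]
    have h3 := congrArg (rF M (inf_le_left : W ⊓ Wy ≤ W)) h
    rw [rF_rF, map_zero] at h3
    exact h3
  have h4 := (he (W ⊓ Wy) inf_le_right).2 _ h1
  haveI : Nonempty (W ⊓ Wy : X.Opens) := ⟨⟨hne.some, hne.some_mem⟩⟩
  have h5 : c = 0 := by
    apply map_injective_of_isIntegral X (homOfLE (inf_le_right : W ⊓ Wy ≤ Wy))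
    rw [map_zero]
    exact h4
  rw [hc, h5, zero_smul]

/-- a nonzero map `O_X ⟶ M`, `M` invertible, `X` integral, is a monomorphism. -/
theorem mono_of_ne_zero {M : X.Modules} (hM : PicF.IsInvertible M) (t : OO X ⟶ M) (ht : t ≠ 0) :
    Mono t := by
  apply AcycEmb.mono_of_injective
  intro W
  rw [injective_iff_map_eq_zero]
  intro a ha
  rw [ap_hom_OO] at ha
  set τ := ap t ⊤ (ofFn (1 : Γ(X, ⊤))) with hτ
  apply eq_zero_of_cover
  intro x hx
  obtain ⟨W', hW'aff, hxW', hW'W, e, he⟩ := exists_isGen_le hM x W hx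
  refine ⟨W', hW'W, hxW', ?_⟩
  obtain ⟨c, hc⟩ := (he W' le_rfl).1 (rF M (le_top : W' ≤ ⊤) τ)
  rw [SubExt.rF_self] at hc
  have h1 : (rX hW'W (toFn a) * c) • e = 0 := by
    have h2 := congrArg (rF M hW'W) ha
    rw [rF_smul, rF_rF, map_zero, hc, smul_smul] at h2
    exact h2
  have h3 : rX hW'W (toFn a) * c = 0 := by
    have := (he W' le_rfl).2 (rX hW'W (toFn a) * c)
    rw [SubExt.rF_self] at this
    exact this h1
  haveI : Nonempty W' := ⟨⟨x, hxW'⟩⟩
  haveI : IsDomain Γ(X, W') := inferInstance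
  rcases mul_eq_zero.mp h3 with h4 | h4
  · exact h4
  · exfalso
    apply ht
    apply hom_OO_eq_zero
    apply section_eq_zero_of_res hM τ W' ⟨x, hxW'⟩
    rw [hc, h4, zero_smul]

end Groth.Agent.InvInt
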