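import Mathlib
import Groth.Agent.Lib.CechMono_helper9

/-!
# Čech cohomology of presheaves of monomial type: the top degree (helper9)

Continuation of `CechMono_helper9`: a sharper form of the contraction lemma, and the computation of
the top Čech cohomology group (cocycles supported on the "totally negative" exponents are classified
by their value on one fixed bijective simplex).
-/

set_option autoImplicit false
universe u
open CategoryTheory Limits TopologicalSpace Opposite

namespace Groth.Agent.CechMono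

open Groth.Agent.Lib.Cech

variable {X : TopCat.{u}} {P : (Opens X)ᵒᵖ ⥤ AddCommGrpCat.{u}} {ι : Type u} {U : ι → Opens X}
  {E : Type*} {R : Type*} [AddCommGroup R]
  {Adm : Set ι → E → Prop}
  {Φ : ∀ (p : ℕ) (σ : Fin (p + 1) → ι), P.obj (op (⨅ k, U (σ k))) →+ (E →₀ R)}

/-- the contraction lemma, with the vanishing hypothesis on the cocycle itself -/
theorem exact_succ' [Fintype ι] (h : IsMono P U Adm Φ) (p : ℕ) (J : E → Option ι)
    (hJ1 : ∀ e j, J e = some j → ∀ s : Set ι, Adm (insert j s) e → Adm s e)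
    (α : Coch P U (p + 1)) (hα : D P U (p + 1) α = 0)
    (hα0 : ∀ e, J e = none → ∀ σ : Fin (p + 2) → ι, Φ (p + 1) σ (α σ) e = 0) :
    ∃ β : Coch P U p, D P U p β = α := by
  classical
  let g : (Fin (p + 1) → ι) → (E →₀ R) := fun τ =>
    ∑ j : ι, (Φ (p + 1) (Fin.cons j τ) (α (Fin.cons j τ))).filter (fun e => J e = some j)
  have g_apply : ∀ τ e, g τ e = match J e with
      | some j => Φ (p + 1) (Fin.cons j τ) (α (Fin.cons j τ)) e
      | none => 0 := by
    intro τ e
    show (∑ j : ι, (Φ (p + 1) (Fin.cons j τ) (α (Fin.cons j τ))).filter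
      (fun e => J e = some j)) e = _
    rw [Finsupp.finsetSum_apply]
    rcases hJe : J e with _ | j
    · apply Finset.sum_eq_zero
      intro j _
      rw [Finsupp.filter_apply, if_neg]
      rw [hJe]; simp
    · rw [Finset.sum_eq_single j]
      · rw [Finsupp.filter_apply, if_pos hJe]
      · intro j' _ hj'
        rw [Finsupp.filter_apply, if_neg]
        rw [hJe]
        intro h1
        exact hj' (Option.some.inj h1).symm
      · intro h1
        exact absurd (Finset.mem_univ j) h1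
  have hg : ∀ τ, ∃ x, Φ p τ x = g τ := by
    intro τ
    rw [h.hrange]
    intro e he
    rw [Finsupp.mem_support_iff, g_apply] at he
    rcases hJe : J e with _ | j
    · rw [hJe] at he
      exact absurd rfl he
    · rw [hJe] at he
      have h1 : e ∈ (Φ (p + 1) (Fin.cons j τ) (α (Fin.cons j τ))).support :=
        Finsupp.mem_support_iff.mpr he
      have h2 := (h.hrange (p + 1) (Fin.cons j τ) _).mp ⟨_, rfl⟩ e h1
      rw [Fin.range_cons] at h2
      exact hJ1 e j hJe _ h2
  choose β hβ using hg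
  refine ⟨β, ?_⟩
  funext σ
  apply h.hinj (p + 1) σ
  ext e
  rw [apply_D h]
  simp only [hβ]
  rcases hJe : J e with _ | j
  · rw [hα0 e hJe σ]
    apply Finset.sum_eq_zero
    intro k _
    rw [g_apply, hJe, smul_zero]
  · have h0 : Φ (p + 2) (Fin.cons j σ) (D P U (p + 1) α (Fin.cons j σ)) e = 0 := by
      rw [hα]
      show Φ (p + 2) (Fin.cons j σ) 0 e = 0
      rw [map_zero]; rfl
    rw [apply_D h, Fin.sum_univ_succ] at h0
    let F : (Fin (p + 2) → ι) → R := fun τ => Φ (p + 1) τ (α τ) e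
    have hF0 : Φ (p + 1) ((Fin.cons j σ : Fin (p + 3) → ι) ∘ Fin.succAbove 0)
        (α ((Fin.cons j σ : Fin (p + 3) → ι) ∘ Fin.succAbove 0)) e = F σ :=
      congrArg F (cons_comp_succAbove_zero j σ)
    have hFs : ∀ k : Fin (p + 2),
        Φ (p + 1) ((Fin.cons j σ : Fin (p + 3) → ι) ∘ Fin.succAbove k.succ)
          (α ((Fin.cons j σ : Fin (p + 3) → ι) ∘ Fin.succAbove k.succ)) e =
        F (Fin.cons j (σ ∘ Fin.succAbove k)) :=
      fun k => congrArg F (cons_comp_succAbove_succ j σ k)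
    rw [hF0] at h0
    simp only [hFs] at h0
    have h1 : ∀ k : Fin (p + 2), g (σ ∘ Fin.succAbove k) e = F (Fin.cons j (σ ∘ Fin.succAbove k)) := by
      intro k
      rw [g_apply, hJe]
    simp only [h1]
    have h2 : ∀ k : Fin (p + 2), (-1 : ℤ) ^ ((k.succ : Fin (p + 3)) : ℕ) •
        F (Fin.cons j (σ ∘ Fin.succAbove k)) =
        - ((-1 : ℤ) ^ (k : ℕ) • F (Fin.cons j (σ ∘ Fin.succAbove k))) := by
      intro k
      rw [Fin.val_succ, pow_succ, mul_neg_one, neg_smul]
    simp only [h2, Fin.val_zero, pow_zero, one_smul, Finset.sum_neg_distrib] at h0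
    show _ = F σ
    exact (add_neg_eq_zero.mp h0).symm

/-! ### Determinants of "permutation matrices" of functions -/

section Det

variable {m : ℕ}

/-- the `0/1` matrix of a function `σ` relative to a reference function `σ₀` -/
noncomputable def Mat (σ₀ σ : Fin m → ι) : Matrix (Fin m) (Fin m) ℤ := by
  classical
  exact fun a b => if σ a = σ₀ b then 1 else 0

lemma det_Mat_self (σ₀ : Fin m → ι) (h : Function.Injective σ₀) : (Mat σ₀ σ₀).det = 1 := by
  classical
  have : Mat σ₀ σ₀ = 1 := by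
    ext a b
    simp only [Mat, Matrix.one_apply, h.eq_iff]
  rw [this, Matrix.det_one]

lemma det_Mat_of_not_surj (σ₀ σ : Fin m → ι) (hσ₀ : Function.Surjective σ₀)
    (hσ : ¬ Function.Surjective σ) : (Mat σ₀ σ).det = 0 := by
  classical
  obtain ⟨i, hi⟩ := not_forall.mp hσ
  obtain ⟨b, rfl⟩ := hσ₀ i
  apply Matrix.det_eq_zero_of_column_eq_zero b
  intro a
  simp only [Mat]
  rw [if_neg]
  intro h
  exact hi ⟨a, h⟩

lemma sum_det_faces [Fintype ι] (σ₀ : Fin (m + 1) → ι) (τ : Fin (m + 2) → ι)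
    (hcard : Fintype.card ι < m + 2) :
    ∑ k : Fin (m + 2), (-1 : ℤ) ^ (k : ℕ) * (Mat σ₀ (τ ∘ k.succAbove)).det = 0 := by
  classical
  let Nmat : Matrix (Fin (m + 2)) (Fin (m + 2)) ℤ := fun a b =>
    Fin.cases 1 (fun b' => if τ a = σ₀ b' then 1 else 0) b
  have h1 := Matrix.det_succ_column_zero Nmat
  have h2 : Nmat.det = 0 := by
    obtain ⟨a, a', hne, heq⟩ := Fintype.exists_ne_map_eq_of_card_lt τ (by simpa using hcard)
    apply Matrix.det_zero_of_row_eq hne
    funext b
    refine Fin.cases ?_ (fun b' => ?_) b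
    · rfl
    · show (if τ a = σ₀ b' then (1 : ℤ) else 0) = if τ a' = σ₀ b' then 1 else 0
      rw [heq]
  rw [h2] at h1
  rw [h1]
  refine Finset.sum_congr rfl fun k _ => ?_
  have h3 : Nmat k 0 = 1 := rfl
  have h4 : Nmat.submatrix k.succAbove Fin.succ = Mat σ₀ (τ ∘ k.succAbove) := by
    ext a b
    rfl
  rw [h3, h4, mul_one]

end Det

/-! ### The swap relation for top-degree cocycles -/

section Swap

variable {G : Type*} [AddCommGroup G]

lemma val_succAbove {n : ℕ} (k : Fin (n + 1)) (j : Fin n) :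
    (k.succAbove j).val = if j.val < k.val then j.val else j.val + 1 := by
  by_cases h : j.castSucc < k
  · rw [Fin.succAbove_of_castSucc_lt _ _ h]
    have h' : j.val < k.val := h
    rw [if_pos h']
    rfl
  · rw [Fin.succAbove_of_le_castSucc _ _ (not_lt.mp h)]
    have h' : ¬ j.val < k.val := h
    rw [if_neg h']
    rfl


lemma val_swap {q : ℕ} (a : Fin (q + 1)) (j : Fin (q + 2)) :
    (Equiv.swap a.castSucc a.succ j).val =
      if j.val = a.val then a.val + 1 else if j.val = a.val + 1 then a.val else j.val := by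
  rw [Equiv.swap_apply_def]
  by_cases h1 : j = a.castSucc
  · rw [if_pos h1, if_pos (by rw [h1]; rfl)]
    rfl
  · have h1' : ¬ j.val = a.val := fun h => h1 (Fin.ext h)
    rw [if_neg h1, if_neg h1']
    by_cases h2 : j = a.succ
    · rw [if_pos h2, if_pos (by rw [h2]; rfl)]
      rfl
    · have h2' : ¬ j.val = a.val + 1 := fun h => h2 (Fin.ext h)
      rw [if_neg h2, if_neg h2']

theorem swap_rel {q : ℕ} (F : (Fin (q + 2) → ι) → G)
    (hinj : ∀ σ, ¬ Function.Injective σ → F σ = 0)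
    (hcoc : ∀ τ : Fin (q + 3) → ι, ∑ k : Fin (q + 3), (-1 : ℤ) ^ (k : ℕ) • F (τ ∘ k.succAbove) = 0)
    (σ : Fin (q + 2) → ι) (a : Fin (q + 1)) :
    F (σ ∘ Equiv.swap a.castSucc a.succ) = - F σ := by
  have ha : a.val < q + 1 := a.2
  obtain ⟨g, hg⟩ : ∃ g : ℕ → ι, ∀ j : Fin (q + 2), σ j = g j.val :=
    ⟨fun v => if h : v < q + 2 then σ ⟨v, h⟩ else σ 0, fun j => by
      show σ j = if h : j.val < q + 2 then σ ⟨j.val, h⟩ else σ 0
      rw [dif_pos j.2]⟩
  obtain ⟨t, ht⟩ : ∃ t : ℕ → ℕ, ∀ v, t v =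
      if v < a.val then v else if v = a.val then a.val + 1 else v - 1 := ⟨_, fun _ => rfl⟩
  obtain ⟨τ, hτ⟩ : ∃ τ : Fin (q + 3) → ι, ∀ x, τ x = g (t x.val) := ⟨_, fun _ => rfl⟩
  obtain ⟨i, hi⟩ : ∃ i : Fin (q + 3), i.val = a.val := ⟨⟨a.val, by omega⟩, rfl⟩
  obtain ⟨i', hi'⟩ : ∃ i' : Fin (q + 3), i'.val = a.val + 2 := ⟨⟨a.val + 2, by omega⟩, rfl⟩
  have hii' : i ≠ i' := by
    intro h
    have := congrArg Fin.val h
    omega
  have hface : τ ∘ i.succAbove = σ := by
    funext j
    show τ (i.succAbove j) = σ j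
    rw [hτ, hg, ht, val_succAbove, hi]
    congr 1
    split_ifs <;> omega
  have hface' : τ ∘ i'.succAbove = σ ∘ Equiv.swap a.castSucc a.succ := by
    funext j
    show τ (i'.succAbove j) = σ (Equiv.swap a.castSucc a.succ j)
    rw [hτ, hg, ht, val_succAbove, hi', val_swap]
    congr 1
    split_ifs <;> omega
  have hτi : τ i = g (a.val + 1) := by
    rw [hτ, ht, hi]
    congr 1
    split_ifs <;> omega
  have hτi' : τ i' = g (a.val + 1) := by
    rw [hτ, ht, hi']
    congr 1
    split_ifs <;> omega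
  have hother : ∀ k : Fin (q + 3), k ≠ i ∧ k ≠ i' → (-1 : ℤ) ^ (k : ℕ) • F (τ ∘ k.succAbove) = 0 := by
    rintro k ⟨hk, hk'⟩
    rw [hinj, smul_zero]
    intro hinjk
    obtain ⟨z, hz⟩ := Fin.exists_succAbove_eq (Ne.symm hk)
    obtain ⟨z', hz'⟩ := Fin.exists_succAbove_eq (Ne.symm hk')
    have hzz : z = z' := hinjk (by
      show τ (k.succAbove z) = τ (k.succAbove z')
      rw [hz, hz', hτi, hτi'])
    apply hii'
    rw [← hz, ← hz', hzz]
  have hsum := hcoc τ
  rw [Finset.sum_eq_add i i' hii' (fun k _ hk => hother k hk)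
    (fun h => absurd (Finset.mem_univ _) h) (fun h => absurd (Finset.mem_univ _) h),
    hface, hface'] at hsum
  have hpow : ((-1 : ℤ) ^ (i' : ℕ)) = (-1 : ℤ) ^ (i : ℕ) := by
    rw [hi', hi, pow_add]; norm_num
  rw [hpow, ← smul_add] at hsum
  rcases neg_one_pow_eq_or ℤ (i : ℕ) with h1 | h1
  · rw [h1, one_smul] at hsum
    exact eq_neg_of_add_eq_zero_right hsum
  · rw [h1, neg_smul, one_smul, neg_eq_zero] at hsum
    exact eq_neg_of_add_eq_zero_right hsum


/-- a function satisfying the swap relation and vanishing at `σ₀` vanishes on `σ₀ ∘ π` -/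
theorem eq_zero_of_swap_rel {q : ℕ} (F : (Fin (q + 2) → ι) → G)
    (hswap : ∀ σ (a : Fin (q + 1)), F (σ ∘ Equiv.swap a.castSucc a.succ) = - F σ)
    (σ₀ : Fin (q + 2) → ι) (h0 : F σ₀ = 0) (π : Equiv.Perm (Fin (q + 2))) : F (σ₀ ∘ π) = 0 := by
  have hmem : π ∈ Submonoid.closure
      (Set.range fun i : Fin (q + 1) => Equiv.swap i.castSucc i.succ) := by
    rw [Equiv.Perm.mclosure_swap_castSucc_succ]; trivial
  have key : ∀ ρ : Equiv.Perm (Fin (q + 2)), F (σ₀ ∘ ρ) = 0 → F (σ₀ ∘ ⇑(ρ * π)) = 0 := by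
    induction hmem using Submonoid.closure_induction with
    | mem x hx =>
      obtain ⟨a, rfl⟩ := hx
      intro ρ hρ
      rw [Equiv.Perm.coe_mul, ← Function.comp_assoc, hswap, hρ, neg_zero]
    | one => intro ρ hρ; rwa [mul_one]
    | mul x y _ _ hx hy => intro ρ hρ; rw [← mul_assoc]; exact hy _ (hx ρ hρ)
  have h1 := key 1 (by simpa using h0)
  simpa using h1

end Swap

/-! ### The top degree -/

section Top

variable [Fintype ι] {q : ℕ} (h : IsMono P U Adm Φ) (hcard : Fintype.card ι = q + 2)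
  (σ₀ : Fin (q + 2) → ι) (hσ₀ : Function.Bijective σ₀) (E₀ : Set E)
  (hE₀ : ∀ e ∈ E₀, ∀ s : Set ι, Adm s e → s = Set.univ)

include hcard in
lemma injective_iff_surjective (σ : Fin (q + 2) → ι) :
    Function.Injective σ ↔ Function.Surjective σ := by
  have hc : Fintype.card (Fin (q + 2)) = Fintype.card ι := by simp [hcard]
  constructor
  · intro hi
    exact ((Fintype.bijective_iff_injective_and_card σ).mpr ⟨hi, hc⟩).2
  · intro hs
    exact ((Fintype.bijective_iff_surjective_and_card σ).mpr ⟨hs, hc⟩).1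

include h hcard hE₀ in
theorem top_coord_eq_zero (α : Coch P U (q + 1)) (hα : D P U (q + 1) α = 0) (e : E) (he : e ∈ E₀)
    (h0 : Φ (q + 1) σ₀ (α σ₀) e = 0) (hσ₀ : Function.Bijective σ₀) (σ : Fin (q + 2) → ι) :
    Φ (q + 1) σ (α σ) e = 0 := by
  let F : (Fin (q + 2) → ι) → R := fun σ => Φ (q + 1) σ (α σ) e
  have hinj : ∀ σ, ¬ Function.Injective σ → F σ = 0 := by
    intro σ hσ
    by_contra hne
    have h1 := (h.hrange (q + 1) σ _).mp ⟨_, rfl⟩ e (Finsupp.mem_support_iff.mpr hne)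
    have h2 := hE₀ e he _ h1
    apply hσ
    rw [injective_iff_surjective hcard]
    exact Set.range_eq_univ.mp h2
  have hcoc : ∀ τ : Fin (q + 3) → ι,
      ∑ k : Fin (q + 3), (-1 : ℤ) ^ (k : ℕ) • F (τ ∘ k.succAbove) = 0 := by
    intro τ
    have h1 := apply_D h (q + 1) α τ e
    rw [hα] at h1
    rw [← h1]
    show Φ (q + 2) τ 0 e = 0
    rw [map_zero]; rfl
  have hswap := swap_rel F hinj hcoc
  by_cases hσ : Function.Injective σ
  · have hσb : Function.Bijective σ := ⟨hσ, (injective_iff_surjective hcard σ).mp hσ⟩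
    let π : Equiv.Perm (Fin (q + 2)) :=
      (Equiv.ofBijective σ hσb).trans (Equiv.ofBijective σ₀ hσ₀).symm
    have hπ : σ₀ ∘ π = σ := by
      funext x
      show σ₀ ((Equiv.ofBijective σ₀ hσ₀).symm (σ x)) = σ x
      exact (Equiv.ofBijective σ₀ hσ₀).apply_symm_apply (σ x)
    have := eq_zero_of_swap_rel F hswap σ₀ h0 π
    rw [hπ] at this
    exact this
  · exact hinj σ hσ

include h hcard hE₀ in
theorem top_inj (hσ₀ : Function.Bijective σ₀) (J : E → Option ι)
    (hJ1 : ∀ e j, J e = some j → ∀ s : Set ι, Adm (insert j s) e → Adm s e)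
    (hJ0 : ∀ e, J e = none → e ∈ E₀)
    (α : Coch P U (q + 1)) (hα : D P U (q + 1) α = 0)
    (h0 : ∀ e ∈ E₀, Φ (q + 1) σ₀ (α σ₀) e = 0) : ∃ β : Coch P U q, D P U q β = α :=
  exact_succ' h q J hJ1 α hα (fun e he σ =>
    top_coord_eq_zero h hcard σ₀ E₀ hE₀ α hα e (hJ0 e he) (h0 e (hJ0 e he)) hσ₀ σ)

include h hcard hE₀ in
theorem top_bdry (β : Coch P U q) (e : E) (he : e ∈ E₀) :
    Φ (q + 1) σ₀ (D P U q β σ₀) e = 0 := by
  rw [apply_D h]
  apply Finset.sum_eq_zero
  intro k _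
  have h1 : Φ q (σ₀ ∘ k.succAbove) (β (σ₀ ∘ k.succAbove)) e = 0 := by
    by_contra hne
    have h2 := (h.hrange q _ _).mp ⟨_, rfl⟩ e (Finsupp.mem_support_iff.mpr hne)
    have h3 := hE₀ e he _ h2
    have h4 : Function.Surjective (σ₀ ∘ k.succAbove) := Set.range_eq_univ.mp h3
    have h5 := Fintype.card_le_of_surjective _ h4
    simp only [Fintype.card_fin] at h5
    omega
  rw [h1, smul_zero]

include h hcard in
theorem top_surj (hσ₀ : Function.Bijective σ₀) (hE₀' : ∀ e ∈ E₀, Adm Set.univ e)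
    (g : E →₀ R) (hg : ∀ e ∈ g.support, e ∈ E₀) :
    ∃ α : Coch P U (q + 1), D P U (q + 1) α = 0 ∧ Φ (q + 1) σ₀ (α σ₀) = g := by
  classical
  have hex : ∀ σ : Fin (q + 2) → ι, ∃ x, Φ (q + 1) σ x = (Mat σ₀ σ).det • g := by
    intro σ
    rw [h.hrange]
    intro e he
    by_cases hσ : Function.Surjective σ
    · rw [Set.range_eq_univ.mpr hσ]
      apply hE₀' e (hg e _)
      rw [Finsupp.mem_support_iff] at he ⊢
      intro h0
      apply he
      rw [Finsupp.smul_apply, h0, smul_zero]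
    · exfalso
      rw [det_Mat_of_not_surj σ₀ σ hσ₀.2 hσ, zero_smul] at he
      simp at he
  choose α hα using hex
  refine ⟨α, ?_, ?_⟩
  · funext τ
    apply h.hinj (q + 2) τ
    show Φ (q + 2) τ (D P U (q + 1) α τ) = Φ (q + 2) τ 0
    rw [map_zero]
    ext e
    rw [apply_D h]
    simp only [hα, Finsupp.smul_apply, smul_smul]
    rw [← Finset.sum_smul, sum_det_faces σ₀ τ (by omega), zero_smul]
    rfl
  · rw [hα, det_Mat_self σ₀ hσ₀.1, one_smul]

end Top

end Groth.Agent.CechMono
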