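import Mathlib
import Groth.Agent.Lib.CechLeray_helper2

/-!
# Leray's theorem, compatibly with endomorphisms of the sheaf (helper9)

helper2's `Cech.leray` gives an additive isomorphism `Ȟ^p(U, F) ≃+ Ext^p(ℤ_{⋃U}, F)` for coverings
with acyclic finite intersections.  Here the isomorphism is moreover chosen compatible with all
endomorphisms of `F` (needed to transport module structures).
-/

set_option autoImplicit false
universe u
open CategoryTheory Limits TopologicalSpace Opposite Abelian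

namespace Groth.Agent.LerayNat

open Groth.Agent.Lib.Cech Groth.Agent.Lib.FreeSheaf Groth.Agent.Lib.FlasqueAcyclic

variable {X : TopCat.{u}} {ι : Type u} (U : ι → Opens X)

/-- the map induced on Čech cohomology by a morphism of sheaves -/
noncomputable def cechMap {F G : CohTop.Ab X} (φ : F ⟶ G) (p : ℕ) :
    CohTop.cechH F.obj U p ⟶ CohTop.cechH G.obj U p :=
  HomologicalComplex.homologyMap ((cechComplexFunctor U).map φ.hom) p

/-- the morphism of Čech short complexes induced by a morphism of short complexes of sheaves -/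
noncomputable def cechSCMap {S S' : ShortComplex (CohTop.Ab X)} (Φ : S ⟶ S') :
    cechSC U S ⟶ cechSC U S' where
  τ₁ := (cechComplexFunctor U).map Φ.τ₁.hom
  τ₂ := (cechComplexFunctor U).map Φ.τ₂.hom
  τ₃ := (cechComplexFunctor U).map Φ.τ₃.hom
  comm₁₂ := by
    show (cechComplexFunctor U).map Φ.τ₁.hom ≫ (cechComplexFunctor U).map S'.f.hom =
      (cechComplexFunctor U).map S.f.hom ≫ (cechComplexFunctor U).map Φ.τ₂.hom
    rw [← Functor.map_comp, ← Functor.map_comp]
    congr 1
    exact congrArg (fun ψ : S.X₁ ⟶ S'.X₂ => ψ.hom) Φ.comm₁₂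
  comm₂₃ := by
    show (cechComplexFunctor U).map Φ.τ₂.hom ≫ (cechComplexFunctor U).map S'.g.hom =
      (cechComplexFunctor U).map S.g.hom ≫ (cechComplexFunctor U).map Φ.τ₃.hom
    rw [← Functor.map_comp, ← Functor.map_comp]
    congr 1
    exact congrArg (fun ψ : S.X₂ ⟶ S'.X₃ => ψ.hom) Φ.comm₂₃

theorem exists_addEquiv_of_surj {Z A B : Type*} [AddCommGroup Z] [AddCommGroup A]
    [AddCommGroup B] (φ : Z →+ A) (ψ : Z →+ B) (hφ : Function.Surjective φ)
    (hψ : Function.Surjective ψ) (hk : ∀ z, φ z = 0 ↔ ψ z = 0) :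
    ∃ e : A ≃+ B, ∀ z, e (φ z) = ψ z := by
  have hker : φ.ker = ψ.ker := by
    ext z
    simp only [AddMonoidHom.mem_ker]
    exact hk z
  refine ⟨(QuotientAddGroup.quotientKerEquivOfSurjective φ hφ).symm.trans
    ((QuotientAddGroup.quotientAddEquivOfEq hker).trans
      (QuotientAddGroup.quotientKerEquivOfSurjective ψ hψ)), fun z => ?_⟩
  have h1 : (QuotientAddGroup.quotientKerEquivOfSurjective φ hφ) (QuotientAddGroup.mk z) = φ z :=
    rfl
  rw [← h1, AddEquiv.trans_apply, AddEquiv.symm_apply_apply, AddEquiv.trans_apply]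
  rfl

section Ext

variable {C : Type*} [Category C] [Abelian C] [HasExt.{u} C]

/-- the basic compatibility of the connecting class with an endomorphism of a short exact
sequence -/
lemma comp_comp_extClass {S : ShortComplex C} (hS : S.ShortExact) (Φ : S ⟶ S) {G : C} {k : ℕ}
    (a : Ext G S.X₃ k) {k' : ℕ} (h : k + 1 = k') :
    (a.comp (Ext.mk₀ Φ.τ₃) (add_zero k)).comp hS.extClass h =
      (a.comp hS.extClass h).comp (Ext.mk₀ Φ.τ₁) (add_zero k') := by
  rw [Ext.comp_assoc_of_second_deg_zero, ← hS.extClass_naturality hS Φ,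
    ← Ext.comp_assoc_of_third_deg_zero]

end Ext

/-- the endomorphism of the injective embedding sequence induced by an endomorphism -/
noncomputable def embSC (F : CohTop.Ab X) : ShortComplex (CohTop.Ab X) :=
  ShortComplex.mk (Injective.ι F) (cokernel.π (Injective.ι F)) (cokernel.condition _)

lemma embSC_shortExact (F : CohTop.Ab X) : (embSC F).ShortExact :=
  { exact := ShortComplex.exact_of_g_is_cokernel _ (cokernelIsCokernel _)
    mono_f := inferInstanceAs (Mono (Injective.ι F))
    epi_g := inferInstanceAs (Epi (cokernel.π (Injective.ι F))) }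

/-- an extension of an endomorphism to the injective hull -/
noncomputable def extI {F : CohTop.Ab X} (φ : F ⟶ F) : Injective.under F ⟶ Injective.under F :=
  Injective.factorThru (φ ≫ Injective.ι F) (Injective.ι F)

lemma ι_extI {F : CohTop.Ab X} (φ : F ⟶ F) : Injective.ι F ≫ extI φ = φ ≫ Injective.ι F :=
  Injective.comp_factorThru _ _

noncomputable def embSCMap {F : CohTop.Ab X} (φ : F ⟶ F) : embSC F ⟶ embSC F where
  τ₁ := φ
  τ₂ := extI φ
  τ₃ := cokernel.map (Injective.ι F) (Injective.ι F) φ (extI φ) (ι_extI φ)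
  comm₁₂ := (ι_extI φ).symm
  comm₂₃ := by
    show extI φ ≫ cokernel.π (Injective.ι F) =
      cokernel.π (Injective.ι F) ≫ cokernel.map _ _ _ _ _
    simp

/-- Leray's theorem, compatibly with endomorphisms -/
theorem leray_nat (p : ℕ) : ∀ (F : CohTop.Ab X)
    (_ : ∀ (n : ℕ) (σ : Fin (n + 1) → ι) (q : ℕ) (ξ : Ext (fr (⨅ k, U (σ k))) F (q + 1)), ξ = 0),
    ∃ e : CohTop.cechH F.obj U p ≃+ Ext (fr (iSup U)) F p,
      ∀ (φ : F ⟶ F) (x : CohTop.cechH F.obj U p),
        e ((cechMap U φ p).hom x) = (e x).comp (Ext.mk₀ φ) (add_zero p) := by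
  induction p with
  | zero =>
    intro F h
    refine ⟨(AddEquiv.ofBijective (κ U F.obj).hom (κ_bijective U F)).symm.trans
      (AddEquiv.ofBijective (ext0 (iSup U) F) (ext0_bijective _ F)), fun φ x => ?_⟩
    obtain ⟨s, rfl⟩ := (κ_bijective U F).2 x
    have h1 : (cechMap U φ 0).hom ((κ U F.obj).hom s) =
        (κ U F.obj).hom ((φ.hom.app (op (iSup U))).hom s) :=
      congrArg (fun f => f.hom s) (κ_natural U φ.hom)
    rw [h1]
    have h2 : ∀ t, ((AddEquiv.ofBijective (κ U F.obj).hom (κ_bijective U F)).symm.trans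
        (AddEquiv.ofBijective (ext0 (iSup U) F) (ext0_bijective _ F))) ((κ U F.obj).hom t) =
        ext0 (iSup U) F t := by
      intro t
      rw [AddEquiv.trans_apply]
      have h3 : (AddEquiv.ofBijective (κ U F.obj).hom (κ_bijective U F)).symm
          ((κ U F.obj).hom t) = t :=
        (AddEquiv.ofBijective (κ U F.obj).hom (κ_bijective U F)).symm_apply_apply t
      rw [h3]
      rfl
    rw [h2, h2, ext0_comp]
  | succ p ih =>
    intro F h
    let S : ShortComplex (CohTop.Ab X) := embSC F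
    have hS : S.ShortExact := embSC_shortExact F
    have hI : ∀ (V : Opens X) (n : ℕ) (ξ : Ext (fr V) S.X₂ (n + 1)), ξ = 0 :=
      fun V n ξ => Ext.eq_zero_of_injective (I := Injective.under F) ξ
    have hsurj : ∀ (n : ℕ) (σ : Fin (n + 1) → ι),
        Function.Surjective (S.g.hom.app (op (⨅ k, U (σ k)))).hom :=
      fun n σ => surjective_of_ext1 _ hS (h n σ 0)
    have hQ : ∀ (n : ℕ) (σ : Fin (n + 1) → ι) (q : ℕ)
        (ξ : Ext (fr (⨅ k, U (σ k))) S.X₃ (q + 1)), ξ = 0 :=
      fun n σ q ξ => ext_X₃_eq_zero _ hS q (hI _ q) (h n σ (q + 1)) ξ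
    have hSC := cechSC_shortExact U S hS hsurj
    haveI : Injective S.X₂ := inferInstanceAs (Injective (Injective.under F))
    haveI : TopCat.Sheaf.IsFlasque S.X₂ :=
      Groth.Agent.Lib.FlasqueAcyclic.isFlasque_of_injective S.X₂
    have hCI : ∀ q, IsZero ((cechSC U S).X₂.homology (q + 1)) :=
      fun q => isZero_cechH_of_surjHyp (surjHyp_of_isFlasque S.X₂ U) q
    -- naturality of the Čech connecting map
    have hδnat : ∀ (φ : F ⟶ F) (i j : ℕ) (hij : i + 1 = j) (y : (cechSC U S).X₃.homology i),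
        (cechMap U φ j).hom ((hSC.δ i j hij).hom y) =
          (hSC.δ i j hij).hom ((cechMap U (embSCMap φ).τ₃ i).hom y) := by
      intro φ i j hij y
      have := HomologicalComplex.HomologySequence.δ_naturality (cechSCMap U (embSCMap φ))
        hSC hSC i j hij
      exact congrArg (fun f => f.hom y) this
    cases p with
    | zero =>
      let φ₁ : S.X₃.obj.obj (op (iSup U)) →+ CohTop.cechH F.obj U 1 :=
        (hSC.δ 0 1 rfl).hom.comp (κ U S.X₃.obj).hom
      let ψ₁ : S.X₃.obj.obj (op (iSup U)) →+ Ext (fr (iSup U)) F 1 := extδ₀ (iSup U) hS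
      have hφs : Function.Surjective φ₁ := by
        have : Epi (hSC.δ 0 1 rfl) := hSC.epi_δ 0 1 rfl (hCI 0)
        exact ((AddCommGrpCat.epi_iff_surjective _).mp this).comp (κ_bijective U S.X₃).2
      obtain ⟨e, he⟩ : ∃ e : CohTop.cechH F.obj U 1 ≃+ Ext (fr (iSup U)) F 1,
          ∀ z, e (φ₁ z) = ψ₁ z := exists_addEquiv_of_surj φ₁ ψ₁ hφs
        (extδ₀_surjective _ hS (hI _ 0)) (by
        intro z
        show _ ↔ extδ₀ (iSup U) hS z = 0
        rw [extδ₀_apply, ext0_comp_extClass_eq_zero_iff]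
        have hn : ∀ s, (HomologicalComplex.homologyMap (cechSC U S).g 0).hom
            ((κ U S.X₂.obj).hom s) = (κ U S.X₃.obj).hom ((S.g.hom.app (op (iSup U))).hom s) :=
          fun s => congrArg (fun f => f.hom s) (κ_natural U S.g.hom)
        constructor
        · intro hz
          have hex := hSC.homology_exact₃ 0 1 rfl
          rw [ShortComplex.ab_exact_iff] at hex
          obtain ⟨y, hy⟩ := hex ((κ U S.X₃.obj).hom z) hz
          obtain ⟨s, rfl⟩ := (κ_bijective U S.X₂).2 y
          refine ⟨s, (κ_bijective U S.X₃).1 ?_⟩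
          exact (hn s).symm.trans hy
        · rintro ⟨s, rfl⟩
          show (hSC.δ 0 1 rfl).hom ((κ U S.X₃.obj).hom ((S.g.hom.app (op (iSup U))).hom s)) = 0
          rw [← hn s]
          have := congrArg (fun f => f.hom ((κ U S.X₂.obj).hom s)) (hSC.comp_δ 0 1 rfl)
          exact this)
      refine ⟨e, fun φ x => ?_⟩
      obtain ⟨z, rfl⟩ := hφs x
      have h1 : (cechMap U φ 1).hom (φ₁ z) =
          φ₁ (((embSCMap φ).τ₃.hom.app (op (iSup U))).hom z) := by
        show (cechMap U φ 1).hom ((hSC.δ 0 1 rfl).hom ((κ U S.X₃.obj).hom z)) = _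
        rw [hδnat φ 0 1 rfl]
        have h2 : (cechMap U (embSCMap φ).τ₃ 0).hom ((κ U S.X₃.obj).hom z) =
            (κ U S.X₃.obj).hom (((embSCMap φ).τ₃.hom.app (op (iSup U))).hom z) :=
          congrArg (fun f => f.hom z) (κ_natural U (embSCMap φ).τ₃.hom)
        rw [h2]
        rfl
      rw [h1, he, he]
      show extδ₀ (iSup U) hS _ = (extδ₀ (iSup U) hS z).comp (Ext.mk₀ φ) (add_zero 1)
      rw [extδ₀_apply, extδ₀_apply, ← ext0_comp]
      exact comp_comp_extClass hS (embSCMap φ) _ (zero_add 1)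
    | succ p =>
      obtain ⟨eQ, heQ⟩ := ih S.X₃ hQ
      let e1 : (cechSC U S).X₃.homology (p + 1) ≅ (cechSC U S).X₁.homology (p + 2) :=
        hSC.δIso (p + 1) (p + 2) rfl (hCI p) (hCI (p + 1))
      let E1 : CohTop.cechH F.obj U (p + 2) ≃+ CohTop.cechH S.X₃.obj U (p + 1) :=
        e1.symm.addCommGroupIsoToAddEquiv
      let E3 : Ext (fr (iSup U)) S.X₃ (p + 1) ≃+ Ext (fr (iSup U)) F (p + 2) :=
        extShift (fr (iSup U)) hS p (hI _ p) (hI _ (p + 1))
      let δ' : CohTop.cechH S.X₃.obj U (p + 1) →+ CohTop.cechH F.obj U (p + 2) :=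
        (hSC.δ (p + 1) (p + 2) rfl).hom
      have hE1 : ∀ y', E1 (δ' y') = y' := fun y' =>
        congrArg (fun f => f.hom y') e1.hom_inv_id
      have hδs : Function.Surjective δ' := fun x =>
        ⟨e1.inv.hom x, congrArg (fun f => f.hom x) e1.inv_hom_id⟩
      have hE3 : ∀ a, E3 a = a.comp hS.extClass (rfl : p + 1 + 1 = p + 2) := fun a => rfl
      refine ⟨E1.trans (eQ.trans E3), fun φ x => ?_⟩
      obtain ⟨y, rfl⟩ := hδs x
      have h1 : (cechMap U φ (p + 2)).hom (δ' y) =
          δ' ((cechMap U (embSCMap φ).τ₃ (p + 1)).hom y) := hδnat φ (p + 1) (p + 2) rfl y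
      rw [h1]
      show E3 (eQ (E1 (δ' _))) = (E3 (eQ (E1 (δ' y)))).comp (Ext.mk₀ φ) (add_zero (p + 2))
      rw [hE1, hE1, hE3, hE3, heQ]
      exact comp_comp_extClass hS (embSCMap φ) _ (rfl : p + 1 + 1 = p + 2)

end Groth.Agent.LerayNat
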