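import Mathlib
import Groth.Prelude

/-!
# The structure map `Proj A ⟶ Spec A₀` on global sections, pointwise (helper9)

For `a ∈ A₀`, the global function on `Proj A` corresponding to `a` under `Proj.toSpecZero` has value
`a / 1` at every point.
-/

set_option autoImplicit false
universe u
open CategoryTheory CategoryTheory.Limits AlgebraicGeometry TopologicalSpace Opposite

namespace Groth.Agent.ProjGlobal

variable {R A : Type u} [CommRing R] [CommRing A] [Algebra R A] (𝒜 : ℕ → Submodule R A)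
  [GradedAlgebra 𝒜]

/-- the value of a section of the structure sheaf at a point, in the localization -/
def valO {V : (Proj 𝒜).Opens} (c : Γ(Proj 𝒜, V)) (x : V) : Twist.Loc 𝒜 x.1 :=
  ((show Twist.O (𝒜 := 𝒜) (op V) from c).1 x).val

lemma valO_map {U V : (Proj 𝒜).Opens} (i : op U ⟶ op V) (s : Γ(Proj 𝒜, U)) (x : V) :
    valO 𝒜 (((Proj 𝒜).presheaf.map i).hom s) x = valO 𝒜 s ⟨x.1, leOfHom i.unop x.2⟩ := rfl

variable {𝒜} in
lemma ι_toSpecZero {f : A} {m : ℕ} (f_deg : f ∈ 𝒜 m) (hm : 0 < m) :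
    (Proj.basicOpen 𝒜 f).ι ≫ Proj.toSpecZero 𝒜 =
      Proj.basicOpenToSpec 𝒜 f ≫ Spec.map (CommRingCat.ofHom
        (HomogeneousLocalization.fromZeroRingHom 𝒜 (Submonoid.powers f))) := by
  have h := Proj.awayι_toSpecZero 𝒜 f f_deg hm
  rw [← Proj.basicOpenIsoSpec_inv_ι, Category.assoc, Iso.inv_comp_eq, Proj.basicOpenIsoSpec_hom] at h
  exact h

variable {𝒜} in
lemma key_comp {f : A} {m : ℕ} (f_deg : f ∈ 𝒜 m) (hm : 0 < m) :
    (Scheme.ΓSpecIso (CommRingCat.of (𝒜 0))).inv ≫ (Proj.toSpecZero 𝒜).appTop ≫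
      (Proj 𝒜).presheaf.map (homOfLE (le_top : Proj.basicOpen 𝒜 f ≤ ⊤)).op =
    CommRingCat.ofHom (HomogeneousLocalization.fromZeroRingHom 𝒜 (Submonoid.powers f)) ≫
      Proj.awayToSection 𝒜 f := by
  have h := congrArg Scheme.Hom.appTop (ι_toSpecZero (𝒜 := 𝒜) f_deg hm)
  rw [Scheme.Hom.comp_appTop, Scheme.Hom.comp_appTop] at h
  have h2 : (Proj.basicOpenToSpec 𝒜 f).appTop =
      (Scheme.ΓSpecIso (CommRingCat.of (HomogeneousLocalization.Away 𝒜 f))).hom ≫
      Proj.awayToSection 𝒜 f ≫ (Proj.basicOpen 𝒜 f).topIso.inv :=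
    Proj.basicOpenToSpec_app_top 𝒜 f
  rw [h2] at h
  have h3 := congrArg (fun t => (Scheme.ΓSpecIso (CommRingCat.of (𝒜 0))).inv ≫ t ≫
    (Proj.basicOpen 𝒜 f).topIso.hom) h
  simp only [Category.assoc, Iso.inv_hom_id, Category.comp_id] at h3
  rw [← Scheme.ΓSpecIso_inv_naturality_assoc, Iso.inv_hom_id_assoc] at h3
  rw [← h3]
  congr 2

/-- for `a ∈ A₀`, the corresponding global function on `Proj A` has value `a / 1` at every point -/
theorem valO_toSpecZero (a₀ : 𝒜 0) (x : Proj 𝒜) :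
    valO 𝒜 ((Proj.toSpecZero 𝒜).appTop.hom
      ((Scheme.ΓSpecIso (CommRingCat.of (𝒜 0))).inv.hom a₀)) ⟨x, trivial⟩ =
      Localization.mk a₀.1 1 := by
  -- a homogeneous element of positive degree not in `x`
  obtain ⟨f, m, hm, f_deg, hfx⟩ : ∃ (f : A) (m : ℕ), 0 < m ∧ f ∈ 𝒜 m ∧
      f ∉ x.asHomogeneousIdeal := by
    by_contra hc
    push Not at hc
    apply ProjectiveSpectrum.not_irrelevant_le (𝒜 := 𝒜) x
    show (HomogeneousIdeal.irrelevant 𝒜).toIdeal ≤
      (ProjectiveSpectrum.asHomogeneousIdeal (𝒜 := 𝒜) x).toIdeal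
    rw [HomogeneousIdeal.toIdeal_irrelevant_le]
    intro i hi a ha
    exact hc a i hi ha
  have hxU : x ∈ Proj.basicOpen 𝒜 f := (Proj.mem_basicOpen 𝒜 f x).mpr hfx
  have h := congrArg (fun t => valO 𝒜 (t.hom a₀) ⟨x, hxU⟩) (key_comp (𝒜 := 𝒜) f_deg hm)
  simp only [CommRingCat.hom_comp, RingHom.coe_comp, Function.comp_apply] at h
  rw [valO_map] at h
  refine h.trans ?_
  show (HomogeneousLocalization.mapId 𝒜 _ (HomogeneousLocalization.fromZeroRingHom 𝒜
    (Submonoid.powers f) a₀)).val = _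
  rfl

end Groth.Agent.ProjGlobal
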