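import Mathlib
import Groth.Prelude
import Groth.Agent.Lib.ProjCech2_helper9
import Groth.Agent.Lib.ProjGlobal_helper9

/-!
# Global sections of `O(d)` on projective space (helper9)

`H^0(P^n_R, O(d))` is `R`-linearly isomorphic to the homogeneous polynomials of degree `d`.
-/

set_option autoImplicit false
universe u
open CategoryTheory CategoryTheory.Limits AlgebraicGeometry TopologicalSpace Opposite MvPolynomial

namespace Groth.Agent.ProjCech

open Groth.Agent.LaurentCoef

variable {n : ℕ} {R : Type u} [CommRing R]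

lemma mon_zero : mon n R 0 = 1 := by
  unfold mon
  simp

lemma mon_zero_notMem (x : ProjectiveSpectrum (𝒜 n R)) : mon n R 0 ∉ x.asHomogeneousIdeal := by
  rw [mon_zero]
  intro h
  exact x.isPrime.ne_top ((Ideal.eq_top_iff_one _).mpr h)

/-- the global section `b / 1` of `O(d)` -/
noncomputable def glob (d : ℕ) (b : 𝒜 n R d) : Sec n R (d : ℤ) ⊤ :=
  (show Sec n R (d : ℤ) ⊤ from
    Groth.Agent.ProjTw.fracSecN (𝒜 n R) (d : ℤ) b.1 b.2 (mon n R 0) (mon_mem 0) (by simp) ⊤
      (fun x => mon_zero_notMem x.1))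

lemma isRep_glob (d : ℕ) (b : 𝒜 n R d) : IsRep (glob d b) b.1 0 :=
  ⟨d, b.2, by simp, fun _ _ => rfl⟩

lemma val_glob (d : ℕ) (b : 𝒜 n R d) (x : (⊤ : (Proj (𝒜 n R)).Opens)) :
    val (glob d b) x = Localization.mk b.1 ⟨mon n R 0, mon_zero_notMem x.1⟩ := rfl

lemma glob_add (d : ℕ) (b b' : 𝒜 n R d) : glob d (b + b') = glob d b + glob d b' := by
  apply ext_val
  intro x
  rw [val_add, val_glob, val_glob, val_glob, Localization.add_mk_self]
  rfl

lemma glob_injective (d : ℕ) : Function.Injective (glob (n := n) (R := R) d) := by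
  intro b b' h
  have h1 := isRep_glob d b
  have h2 := isRep_glob d b'
  rw [h] at h1
  have h3 := rep_unique (le_top : DT n R ≤ ⊤) h1 h2
  rw [mon_zero, mul_one, mul_one] at h3
  exact Subtype.ext h3

lemma PhiV_top_injective (d : ℤ) :
    Function.Injective (PhiV (n := n) (R := R) d ⊤ le_top) := by
  intro s s' h
  apply ext_val
  intro x
  have hx : x.1 ∈ iSup (cov n R) := by rw [iSup_cov]; trivial
  obtain ⟨j, hj⟩ := Opens.mem_iSup.mp hx
  have hV : DT n R ≤ cov n R j := DT_le _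
  have h1 : PhiV d (cov n R j) hV (rs le_top s) = PhiV d (cov n R j) hV (rs le_top s') := by
    rw [PhiV_rs, PhiV_rs]
    exact h
  have h2 := PhiV_injective (d := d) (m := Finsupp.single j.down 1) (by simp) (cov n R j)
    (cov_eq j) hV h1
  have h3 := congrArg (fun t => val t ⟨x.1, hj⟩) h2
  exact h3

lemma glob_surjective (d : ℕ) : Function.Surjective (glob (n := n) (R := R) d) := by
  intro s
  classical
  let g := PhiV (d : ℤ) ⊤ le_top s
  have hg : ∀ e ∈ g.support, ∑ i, e i = (d : ℤ) ∧ ∀ i, 0 ≤ e i := by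
    intro e he
    have hj : ∀ j : Fin (n + 1), (∑ i, e i = (d : ℤ) ∧ ∀ i, (Finsupp.single j 1 : Fin (n + 1) →₀ ℕ) i = 0 → 0 ≤ e i) := by
      intro j
      have hV : DT n R ≤ cov n R ⟨j⟩ := DT_le _
      have h1 := (PhiV_range (d := (d : ℤ)) (m := Finsupp.single j 1) (by simp) (cov n R ⟨j⟩)
        (cov_eq ⟨j⟩) hV g).mp ⟨rs le_top s, PhiV_rs _ _ _⟩
      exact h1 e he
    refine ⟨(hj 0).1, fun i => ?_⟩
    by_cases hn : ∃ j : Fin (n + 1), j ≠ i
    · obtain ⟨j, hji⟩ := hn
      exact (hj j).2 i (by rw [Finsupp.single_apply, if_neg hji])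
    · push Not at hn
      have hsum : ∑ i', e i' = e i := by
        rw [Finset.sum_eq_single i]
        · intro b _ hb
          exact absurd (hn b) hb
        · intro h
          exact absurd (Finset.mem_univ i) h
      have := (hj 0).1
      rw [hsum] at this
      rw [this]
      exact Int.natCast_nonneg d
  obtain ⟨b, hbh, hbg⟩ := exists_lco_eq g 0 d (by
    intro e he i
    have := (hg e he).2 i
    simpa using this) (by
    intro e he
    rw [(hg e he).1]
    simp)
  refine ⟨⟨b, (mem_homogeneousSubmodule _ _).mpr hbh⟩, ?_⟩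
  apply PhiV_top_injective
  rw [PhiV_eq (isRep_glob d _)]
  ext e
  rw [Lco_apply, hbg]

/-- the global function attached to `r : R` has value `r / 1` at every point -/
lemma valO_toGlobal (r : R) (x : Proj (𝒜 n R)) :
    Groth.Agent.ProjGlobal.valO (𝒜 n R)
      (Coh.toGlobal (X := Proj (𝒜 n R)) (CohB1.ProjSpace.toSpec n R) r) ⟨x, trivial⟩ =
      Localization.mk (C r) 1 := by
  have h1 : Coh.toGlobal (X := Proj (𝒜 n R)) (CohB1.ProjSpace.toSpec n R) r =
      (Proj.toSpecZero (𝒜 n R)).appTop.hom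
        ((Scheme.ΓSpecIso (CommRingCat.of (𝒜 n R 0))).inv.hom (algebraMap R (𝒜 n R 0) r)) := by
    unfold Coh.toGlobal CohB1.ProjSpace.toSpec
    have h2 := Scheme.ΓSpecIso_inv_naturality
      (CommRingCat.ofHom (algebraMap R (CohB1.polyGrading n R 0)))
    have h3 := congrArg (fun t => t.hom r) h2
    simp only [CommRingCat.hom_comp, RingHom.coe_comp, Function.comp_apply,
      CommRingCat.hom_ofHom] at h3
    rw [Scheme.Hom.comp_appTop]
    show (Proj.toSpecZero (𝒜 n R)).appTop.hom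
      ((Spec.map (CommRingCat.ofHom (algebraMap R (CohB1.polyGrading n R 0)))).appTop.hom
        ((Scheme.ΓSpecIso (CommRingCat.of R)).inv.hom r)) = _
    rw [← h3]
  rw [h1, Groth.Agent.ProjGlobal.valO_toSpecZero]
  rfl

lemma val_smulAb (d : ℤ) (c : Coh.Γtop (Proj (𝒜 n R))) (s : Sec n R d ⊤)
    (x : (⊤ : (Proj (𝒜 n R)).Opens)) :
    val ((Coh.smulAb (Twist.twist (𝒜 n R) d) c).hom.app (op ⊤) s) x =
      Groth.Agent.ProjGlobal.valO (𝒜 n R) (V := ⊤) c x * val s x :=
  Groth.Agent.ProjTw.smul_valN (𝒜 n R) d (op ⊤) _ _ x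

lemma glob_smul (d : ℕ) (r : R) (b : 𝒜 n R d) :
    (Coh.smulAb (Twist.twist (𝒜 n R) (d : ℤ))
      (Coh.toGlobal (X := Proj (𝒜 n R)) (CohB1.ProjSpace.toSpec n R) r)).hom.app (op ⊤)
        (glob d b) = glob d (r • b) := by
  apply ext_val
  intro x
  rw [val_smulAb, val_glob, val_glob, valO_toGlobal, Localization.mk_mul]
  congr 1
  · rw [Submodule.coe_smul, smul_eq_C_mul]
  · exact one_mul _

/-- global sections of `O(d)`, linearly -/
noncomputable def globLin (d : ℕ) :
    𝒜 n R d →ₗ[R] Coh.HH (CohB1.ProjSpace n R) (Twist.twistProjSpace n R (d : ℤ)) 0 where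
  toFun b := (Sheaf.H.equiv₀ (Coh.toAb (Twist.twist (𝒜 n R) (d : ℤ))) isTerminalTop).symm
    (glob d b)
  map_add' b b' := by rw [glob_add, map_add]; rfl
  map_smul' r b := by
    rw [RingHom.id_apply, ← glob_smul, ← Sheaf.H.equiv₀_symm_naturality]
    rfl

lemma globLin_bijective (d : ℕ) : Function.Bijective (globLin (n := n) (R := R) d) :=
  (Sheaf.H.equiv₀ (Coh.toAb (Twist.twist (𝒜 n R) (d : ℤ))) isTerminalTop).symm.bijective.comp
    ⟨glob_injective d, glob_surjective d⟩

theorem nonempty_HH_zero_linearEquiv (d : ℕ) :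
    Nonempty (Coh.HH (CohB1.ProjSpace n R) (Twist.twistProjSpace n R (d : ℤ)) 0 ≃ₗ[R]
      ↥(MvPolynomial.homogeneousSubmodule (Fin (n + 1)) R d)) :=
  ⟨(LinearEquiv.ofBijective (globLin d) (globLin_bijective d)).symm⟩

end Groth.Agent.ProjCech
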