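import Mathlib
import Groth.Prelude
import Groth.Agent.Lib.ProjCech3_helper9
import Groth.Agent.Lib.LerayNat_helper9
import Groth.Agent.Lib.CechMono2_helper9

/-!
# Top cohomology of negative twists on projective space (helper9)

`H^n(P^n_R, O(-(n+1+k)))` is `R`-linearly isomorphic to the homogeneous polynomials of degree `k`.
-/

set_option autoImplicit false
universe u
open CategoryTheory CategoryTheory.Limits AlgebraicGeometry TopologicalSpace Opposite MvPolynomial

namespace Groth.Agent.ProjCech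

open Groth.Agent.LaurentCoef

/-! ### Cycles and homology of complexes of abelian groups, elementwise -/

section Glue

variable (K : CochainComplex AddCommGrpCat.{u} ℕ)

lemma exists_cycle (j : ℕ) (x : K.X j) (hx : (K.d j (j + 1)).hom x = 0) :
    ∃ z : K.cycles j, (K.iCycles j).hom z = x := by
  have hlim := K.cyclesIsKernel j (j + 1) (by simp)
  have hex : (ShortComplex.mk (K.iCycles j) (K.d j (j + 1)) (K.iCycles_d j (j + 1))).Exact :=
    ShortComplex.exact_of_f_is_kernel _ hlim
  rw [ShortComplex.ab_exact_iff] at hex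
  exact hex x hx

lemma exists_toCycles (i : ℕ) (z : K.cycles (i + 1)) (hz : (K.homologyπ (i + 1)).hom z = 0) :
    ∃ y : K.X i, (K.toCycles i (i + 1)).hom y = z := by
  have hcolim := K.homologyIsCokernel i (i + 1) (by simp)
  have hex : (ShortComplex.mk (K.toCycles i (i + 1)) (K.homologyπ (i + 1))
      (K.toCycles_comp_homologyπ i (i + 1))).Exact :=
    ShortComplex.exact_of_g_is_cokernel _ hcolim
  rw [ShortComplex.ab_exact_iff] at hex
  exact hex z hz

lemma homologyπ_surjective (j : ℕ) : Function.Surjective (K.homologyπ j).hom :=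
  (AddCommGrpCat.epi_iff_surjective _).mp inferInstance

lemma iCycles_injective (j : ℕ) : Function.Injective (K.iCycles j).hom :=
  (AddCommGrpCat.mono_iff_injective _).mp inferInstance

end Glue

variable {n : ℕ} {R : Type u} [CommRing R]

/-! ### Homogeneous polynomials as families on totally negative exponents -/

/-- the reflection `e ↦ -e - 1` on exponents -/
def refl (n : ℕ) : (Fin (n + 1) → ℤ) ≃ (Fin (n + 1) → ℤ) where
  toFun e := fun i => - e i - 1
  invFun e := fun i => - e i - 1
  left_inv e := by funext i; ring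
  right_inv e := by funext i; ring

lemma refl_symm_apply (e : Fin (n + 1) → ℤ) (i : Fin (n + 1)) : (refl n).symm e i = - e i - 1 := rfl
lemma refl_apply (e : Fin (n + 1) → ℤ) (i : Fin (n + 1)) : (refl n) e i = - e i - 1 := rfl

/-- totally negative exponents of degree `d` -/
def E0 (n : ℕ) (d : ℤ) : Set (Fin (n + 1) → ℤ) := {e | ∑ i, e i = d ∧ ∀ i, e i < 0}

/-- the coefficients of a homogeneous polynomial of degree `k`, placed on totally negative
exponents -/
noncomputable def Lam (k : ℕ) : 𝒜 n R k →ₗ[R] ((Fin (n + 1) → ℤ) →₀ R) where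
  toFun b := Finsupp.equivMapDomain (refl n) (Lco b.1 0)
  map_add' b b' := by
    ext e
    simp only [Finsupp.equivMapDomain_apply, Finsupp.add_apply, Lco_apply, Submodule.coe_add,
      lco_add]
  map_smul' r b := by
    ext e
    simp only [Finsupp.equivMapDomain_apply, Finsupp.smul_apply, Lco_apply, Submodule.coe_smul,
      lco_smul, RingHom.id_apply, smul_eq_mul]

lemma Lam_apply (k : ℕ) (b : 𝒜 n R k) (e : Fin (n + 1) → ℤ) :
    Lam k b e = lco b.1 0 ((refl n).symm e) := rfl

lemma Lam_injective (k : ℕ) : Function.Injective (Lam (n := n) (R := R) k) := by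
  rw [injective_iff_map_eq_zero]
  intro b hb
  apply Subtype.ext
  apply eq_zero_of_lco_eq_zero (m := 0)
  intro e'
  have h1 := congrArg (fun g => g ((refl n) e')) hb
  simp only [Lam_apply, Equiv.symm_apply_apply, Finsupp.coe_zero, Pi.zero_apply] at h1
  exact h1

lemma Lam_support (k : ℕ) (b : 𝒜 n R k) (e : Fin (n + 1) → ℤ) (he : e ∈ (Lam k b).support) :
    e ∈ E0 n (-((n : ℤ) + 1 + k)) := by
  rw [Finsupp.mem_support_iff, Lam_apply] at he
  have h1 := nonneg_of_lco_ne_zero he
  have h2 := sum_eq_of_lco_ne_zero ((mem_homogeneousSubmodule _ _).mp b.2) he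
  constructor
  · simp only [refl_symm_apply, Finsupp.coe_zero, Pi.zero_apply, Nat.cast_zero,
      Finset.sum_const_zero, sub_zero, Finset.sum_sub_distrib, Finset.sum_neg_distrib,
      Finset.sum_const, Finset.card_univ, Fintype.card_fin, nsmul_eq_mul, mul_one] at h2
    push_cast at h2
    omega
  · intro i
    have := h1 i
    simp only [refl_symm_apply, Finsupp.coe_zero, Pi.zero_apply, Nat.cast_zero, add_zero] at this
    omega

lemma Lam_surj (k : ℕ) (g : (Fin (n + 1) → ℤ) →₀ R)
    (hg : ∀ e ∈ g.support, e ∈ E0 n (-((n : ℤ) + 1 + k))) : ∃ b : 𝒜 n R k, Lam k b = g := by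
  let g' := Finsupp.equivMapDomain (refl n) g
  have hg' : ∀ e' ∈ g'.support, (refl n).symm e' ∈ E0 n (-((n : ℤ) + 1 + k)) := by
    intro e' he'
    apply hg
    rw [Finsupp.mem_support_iff] at he' ⊢
    exact he'
  obtain ⟨b, hbh, hb⟩ := exists_lco_eq g' 0 k (by
    intro e' he' i
    have := (hg' e' he').2 i
    simp only [refl_symm_apply] at this
    simp only [Finsupp.coe_zero, Pi.zero_apply, Nat.cast_zero, add_zero]
    omega) (by
    intro e' he'
    have := (hg' e' he').1
    simp only [refl_symm_apply, Finset.sum_sub_distrib, Finset.sum_neg_distrib,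
      Finset.sum_const, Finset.card_univ, Fintype.card_fin, nsmul_eq_mul, mul_one] at this
    push_cast at this
    simp only [Finsupp.coe_zero, Pi.zero_apply, Nat.cast_zero, Finset.sum_const_zero, sub_zero]
    omega)
  refine ⟨⟨b, (mem_homogeneousSubmodule _ _).mpr hbh⟩, ?_⟩
  ext e
  rw [Lam_apply, hb]
  show g ((refl n).symm ((refl n).symm e)) = g e
  congr 1
  funext i
  simp only [refl_symm_apply]
  ring

/-! ### Linearity of the Laurent coordinates -/

/-- the endomorphism of `O(d)` given by `r ∈ R` -/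
noncomputable abbrev mu (d : ℤ) (r : R) :
    Coh.toAb (Twist.twist (𝒜 n R) d) ⟶ Coh.toAb (Twist.twist (𝒜 n R) d) :=
  Coh.smulAb (Twist.twist (𝒜 n R) d)
    (Coh.toGlobal (X := Proj (𝒜 n R)) (CohB1.ProjSpace.toSpec n R) r)

lemma val_mu (d : ℤ) (r : R) (V : (Proj (𝒜 n R)).Opens) (s : Sec n R d V) (x : V) :
    val (((mu d r).hom.app (op V)).hom s) x = Localization.mk (C r) 1 * val s x := by
  have h1 : val (((mu d r).hom.app (op V)).hom s) x =
      Groth.Agent.ProjGlobal.valO (𝒜 n R) (V := V)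
        (Coh.resTop (Proj (𝒜 n R)) (op V)
          (Coh.toGlobal (X := Proj (𝒜 n R)) (CohB1.ProjSpace.toSpec n R) r)) x * val s x :=
    Groth.Agent.ProjTw.smul_valN (𝒜 n R) d (op V) _ _ x
  rw [h1]
  congr 1
  exact valO_toGlobal r x.1

lemma isRep_mu {d : ℤ} {V : (Proj (𝒜 n R)).Opens} {t : Sec n R d V}
    {b : MvPolynomial (Fin (n + 1)) R} {m : Fin (n + 1) →₀ ℕ} (h : IsRep t b m) (r : R) :
    IsRep (((mu d r).hom.app (op V)).hom t) (C r * b) m := by
  obtain ⟨D, hb, hD, hv⟩ := h
  refine ⟨D, ?_, hD, fun x hx => ?_⟩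
  · rw [← smul_eq_C_mul]
    exact Submodule.smul_mem _ _ hb
  · rw [val_mu, hv x hx, Localization.mk_mul]
    congr 1
    exact one_mul _

lemma PhiV_mu (d : ℤ) (V : (Proj (𝒜 n R)).Opens) (hV : DT n R ≤ V) (s : Sec n R d V) (r : R) :
    PhiV d V hV (((mu d r).hom.app (op V)).hom s) = r • PhiV d V hV s := by
  have hnat : rs hV (((mu d r).hom.app (op V)).hom s) =
      ((mu d r).hom.app (op (DT n R))).hom (rs hV s) :=
    (Groth.Agent.Lib.Cech.res_app (X := (Proj (𝒜 n R)).toTopCat) _ (mu d r).hom hV s).symm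
  obtain ⟨m, b, hb⟩ := exists_repT (rs hV s)
  show phiFun (rs hV _) = r • phiFun (rs hV s)
  rw [hnat, phiFun_eq (isRep_mu hb r), phiFun_eq hb]
  ext e
  rw [Finsupp.smul_apply, Lco_apply, Lco_apply, ← smul_eq_C_mul, lco_smul, smul_eq_mul]

/-! ### The Čech computation in the top degree -/

/-- the reference bijective simplex -/
def sig0 (n : ℕ) : Fin (n + 1) → Idx.{u} n := fun a => ⟨a⟩

lemma sig0_bijective : Function.Bijective (sig0.{u} n) :=
  ⟨fun _ _ h => congrArg ULift.down h, fun i => ⟨i.down, rfl⟩⟩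

/-- the modified choice function -/
noncomputable def Jfun' (n : ℕ) (d : ℤ) (e : Fin (n + 1) → ℤ) : Option (Idx.{u} n) := by
  classical
  exact if ∑ i, e i = d then Jfun n e else some ⟨0⟩

lemma Jfun'_some {d : ℤ} {e : Fin (n + 1) → ℤ} {j : Idx.{u} n} (h : Jfun' n d e = some j)
    (s : Set (Idx.{u} n)) (hA : Adm.{u} n d (insert j s) e) : Adm.{u} n d s e := by
  classical
  unfold Jfun' at h
  rw [if_pos hA.1] at h
  exact Adm_of_insert (Jfun_some h) s hA

lemma Jfun'_none {d : ℤ} {e : Fin (n + 1) → ℤ} (h : Jfun'.{u} n d e = none) : e ∈ E0 n d := by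
  classical
  unfold Jfun' at h
  split_ifs at h with h1
  exact ⟨h1, Jfun_none h⟩

lemma E0_adm {d : ℤ} {e : Fin (n + 1) → ℤ} (he : e ∈ E0 n d) (s : Set (Idx.{u} n))
    (hA : Adm.{u} n d s e) : s = Set.univ := by
  apply Set.eq_univ_of_forall
  intro i
  by_contra hi
  have := hA.2 i.down hi
  have h2 := he.2 i.down
  omega

lemma E0_adm_univ {d : ℤ} {e : Fin (n + 1) → ℤ} (he : e ∈ E0 n d) :
    Adm.{u} n d Set.univ e :=
  ⟨he.1, fun i hi => absurd (Set.mem_univ _) hi⟩

section Main

variable (q k : ℕ)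

/-- the twist -/
abbrev dd (q k : ℕ) : ℤ := -(((q + 1 : ℕ) : ℤ) + 1 + k)

open Groth.Agent.Lib.Cech in
theorem exists_cechH_equiv :
    ∃ e : CohTop.cechH (X := (Proj (𝒜 (q + 1) R)).toTopCat)
        (Coh.toAb (Twist.twist (𝒜 (q + 1) R) (dd q k))).obj (cov (q + 1) R) (q + 1) ≃+
        𝒜 (q + 1) R k,
      ∀ (r : R) (x : CohTop.cechH (X := (Proj (𝒜 (q + 1) R)).toTopCat)
        (Coh.toAb (Twist.twist (𝒜 (q + 1) R) (dd q k))).obj (cov (q + 1) R) (q + 1)),
        e ((LerayNat.cechMap (cov (q + 1) R) (mu (dd q k) r) (q + 1)).hom x) = r • e x := by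
  classical
  let d := dd q k
  let P := (Coh.toAb (Twist.twist (𝒜 (q + 1) R) d)).obj
  let U := cov (q + 1) R
  let K := (cechComplexFunctor U).obj P
  let σ₀ := sig0.{u} (q + 1)
  have hσ₀ : Function.Bijective σ₀ := sig0_bijective
  let E₀ := E0 (q + 1) d
  have hM := isMono (n := q + 1) (R := R) d
  have hcard : Fintype.card (Idx.{u} (q + 1)) = q + 2 := by
    simp [Fintype.card_ulift, Fintype.card_fin]
  have hE₀ : ∀ e ∈ E₀, ∀ s : Set (Idx.{u} (q + 1)), Adm.{u} (q + 1) d s e → s = Set.univ :=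
    fun e he s hA => E0_adm he s hA
  -- the coordinate map on cochains
  let θX : K.X (q + 1) →+ ((Fin (q + 2) → ℤ) →₀ R) :=
    (Finsupp.filterAddHom (fun e => e ∈ E₀)).comp
      ((Phi (q + 1) R d (q + 1) σ₀).comp
        ((Pi.evalAddMonoidHom _ σ₀).comp (cmp P U (q + 1)).toAddMonoidHom))
  have hθX : ∀ x, θX x = Finsupp.filter (fun e => e ∈ E₀)
      (Phi (q + 1) R d (q + 1) σ₀ (cmp P U (q + 1) x σ₀)) := fun x => rfl
  have hθX_supp : ∀ x, ∀ e ∈ (θX x).support, e ∈ E₀ := by
    intro x e he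
    rw [hθX, Finsupp.support_filter, Finset.mem_filter] at he
    exact he.2
  have hθX_zero : ∀ x, θX x = 0 ↔
      ∀ e ∈ E₀, Phi (q + 1) R d (q + 1) σ₀ (cmp P U (q + 1) x σ₀) e = 0 := by
    intro x
    rw [hθX]
    constructor
    · intro h e he
      have := congrArg (fun g => g e) h
      simpa [Finsupp.filter_apply, he] using this
    · intro h
      ext e
      rw [Finsupp.filter_apply]
      split_ifs with he
      · exact h e he
      · rfl
  -- its lift to polynomials
  have hex : ∀ z : K.cycles (q + 1), ∃ b : 𝒜 (q + 1) R k,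
      Lam k b = θX ((K.iCycles (q + 1)).hom z) :=
    fun z => Lam_surj k _ (hθX_supp _)
  choose θf hθf using hex
  let θ' : K.cycles (q + 1) →+ 𝒜 (q + 1) R k := AddMonoidHom.mk' θf (by
    intro z z'
    apply Lam_injective k
    rw [map_add, hθf, hθf, hθf, map_add, map_add])
  have hθ' : ∀ z, Lam k (θ' z) = θX ((K.iCycles (q + 1)).hom z) := hθf
  let π' : K.cycles (q + 1) →+ K.homology (q + 1) := (K.homologyπ (q + 1)).hom
  have hcmpd : ∀ (m : ℕ) (x : K.X m), cmp P U (m + 1) ((K.d m (m + 1)).hom x) =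
      D P U m (cmp P U m x) := fun m x => cmp_d P U m x
  have hti : ∀ y : K.X q, (K.iCycles (q + 1)).hom ((K.toCycles q (q + 1)).hom y) =
      (K.d q (q + 1)).hom y := fun y =>
    congrArg (fun f => f.hom y) (K.toCycles_i q (q + 1))
  -- surjectivity
  have hsurj : Function.Surjective θ' := by
    intro b
    obtain ⟨α, hα, hαg⟩ := CechMono.top_surj hM hcard σ₀ E₀ hσ₀
      (fun e he => E0_adm_univ he) (Lam k b) (Lam_support k b)
    let x := (cmp P U (q + 1)).symm α
    have hx : cmp P U (q + 1) x = α := (cmp P U (q + 1)).apply_symm_apply α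
    have hdx : (K.d (q + 1) (q + 2)).hom x = 0 := by
      apply (cmp P U (q + 2)).injective
      rw [hcmpd, hx, hα, map_zero]
    obtain ⟨z, hz⟩ := exists_cycle K (q + 1) x hdx
    refine ⟨z, Lam_injective k ?_⟩
    rw [hθ', hz, hθX, hx, hαg]
    apply Finsupp.filter_eq_self_iff _ _ |>.mpr
    intro e he
    exact Lam_support k b e (Finsupp.mem_support_iff.mpr he)
  -- kernels
  have hker : ∀ z, π' z = 0 ↔ θ' z = 0 := by
    intro z
    constructor
    · intro hz
      obtain ⟨y, rfl⟩ := exists_toCycles K q z hz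
      apply Lam_injective k
      rw [hθ', map_zero, hti, hθX_zero]
      intro e he
      rw [hcmpd]
      exact CechMono.top_bdry hM hcard σ₀ E₀ hE₀ _ e he
    · intro hz
      have h1 : θX ((K.iCycles (q + 1)).hom z) = 0 := by
        rw [← hθ', hz, map_zero]
      rw [hθX_zero] at h1
      have hα : D P U (q + 1) (cmp P U (q + 1) ((K.iCycles (q + 1)).hom z)) = 0 := by
        rw [← hcmpd]
        have := congrArg (fun f => f.hom z) (K.iCycles_d (q + 1) (q + 2))
        have h3 : (K.d (q + 1) (q + 2)).hom ((K.iCycles (q + 1)).hom z) = 0 := this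
        rw [h3, map_zero]
      obtain ⟨β, hβ⟩ := CechMono.top_inj hM hcard σ₀ E₀ hE₀ hσ₀ (Jfun'.{u} (q + 1) d)
        (fun e j hj s hA => Jfun'_some hj s hA) (fun e he => Jfun'_none he) _ hα h1
      let y := (cmp P U q).symm β
      have hy : (K.toCycles q (q + 1)).hom y = z := by
        apply iCycles_injective K (q + 1)
        rw [hti]
        apply (cmp P U (q + 1)).injective
        rw [hcmpd, AddEquiv.apply_symm_apply, hβ]
      rw [← hy]
      exact congrArg (fun f => f.hom y) (K.toCycles_comp_homologyπ q (q + 1))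
  obtain ⟨e, he⟩ := LerayNat.exists_addEquiv_of_surj π' θ' (homologyπ_surjective K (q + 1)) hsurj hker
  refine ⟨e, fun r x => ?_⟩
  obtain ⟨z, rfl⟩ := homologyπ_surjective K (q + 1) x
  let f : K ⟶ K := (cechComplexFunctor U).map (mu d r).hom
  have h1 : (LerayNat.cechMap U (mu d r) (q + 1)).hom ((K.homologyπ (q + 1)).hom z) =
      π' ((HomologicalComplex.cyclesMap f (q + 1)).hom z) :=
    congrArg (fun g => g.hom z) (HomologicalComplex.homologyπ_naturality f (q + 1))
  rw [h1]
  show e (π' _) = r • e (π' z)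
  rw [he, he]
  apply Lam_injective k
  rw [map_smul, hθ', hθ']
  have h2 : (K.iCycles (q + 1)).hom ((HomologicalComplex.cyclesMap f (q + 1)).hom z) =
      (f.f (q + 1)).hom ((K.iCycles (q + 1)).hom z) :=
    congrArg (fun g => g.hom z) (HomologicalComplex.cyclesMap_i f (q + 1))
  rw [h2, hθX, hθX, cmp_map, mapC_apply]
  have h3 := PhiV_mu (n := q + 1) (R := R) d _ (DT_le_iInf σ₀)
    (cmp P U (q + 1) ((K.iCycles (q + 1)).hom z) σ₀) r
  show Finsupp.filter _ (PhiV d _ (DT_le_iInf σ₀) _) = _
  rw [h3]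
  ext e'
  simp only [Finsupp.filter_apply, Finsupp.smul_apply]
  split_ifs
  · rfl
  · simp

end Main

end Groth.Agent.ProjCech
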