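import Mathlib
import Groth.Prelude
import Groth.Agent.Lib.ProjCech4_helper9

/-!
# Top cohomology of negative twists on projective space: the derived-functor statement (helper9)
-/

set_option autoImplicit false
universe u
open CategoryTheory CategoryTheory.Limits AlgebraicGeometry TopologicalSpace Opposite MvPolynomial

namespace Groth.Agent.ProjCech

open Groth.Agent.LaurentCoef

variable {R : Type u} [CommRing R]

open Groth.Agent.Lib.Cech in
lemma exists_ext_fr_equiv (q k : ℕ) :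
    ∃ Ψ : Abelian.Ext (fr (X := (Proj (𝒜 (q + 1) R)).toTopCat) ⊤)
        (Coh.toAb (Twist.twist (𝒜 (q + 1) R) (dd q k))) (q + 1) ≃+ 𝒜 (q + 1) R k,
      ∀ (r : R) (y : Abelian.Ext (fr (X := (Proj (𝒜 (q + 1) R)).toTopCat) ⊤)
        (Coh.toAb (Twist.twist (𝒜 (q + 1) R) (dd q k))) (q + 1)),
        Ψ (y.comp (Abelian.Ext.mk₀ (mu (dd q k) r)) (add_zero _)) = r • Ψ y := by
  haveI : (Twist.twist (𝒜 (q + 1) R) (dd q k)).IsQuasicoherent :=
    Groth.Agent.ProjTw.isQuasicoherent_twist (𝒜 (q + 1) R) (dd q k)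
  have hyp : ∀ (m : ℕ) (σ : Fin (m + 1) → Idx.{u} (q + 1)) (p : ℕ)
      (ξ : Abelian.Ext (fr (X := (Proj (𝒜 (q + 1) R)).toTopCat) (⨅ j, cov (q + 1) R (σ j)))
        (Coh.toAb (Twist.twist (𝒜 (q + 1) R) (dd q k))) (p + 1)), ξ = 0 := by
    intro m σ p ξ
    apply ext_fr_eq_zero_of_isAffineOpen (Twist.twist (𝒜 (q + 1) R) (dd q k)) _ _ p ξ
    rw [iInf_cov]
    exact isAffineOpen_mon (msig_ne_zero σ)
  obtain ⟨eL, heL⟩ := LerayNat.leray_nat (X := (Proj (𝒜 (q + 1) R)).toTopCat) (cov (q + 1) R)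
    (q + 1) (Coh.toAb (Twist.twist (𝒜 (q + 1) R) (dd q k))) hyp
  obtain ⟨e, he⟩ := exists_cechH_equiv (R := R) q k
  have hsup : iSup (cov.{u} (q + 1) R) = ⊤ := iSup_cov
  revert eL
  rw [hsup]
  intro eL heL
  refine ⟨eL.symm.trans e, fun r y => ?_⟩
  have h1 : eL.symm (y.comp (Abelian.Ext.mk₀ (mu (dd q k) r)) (add_zero _)) =
      (LerayNat.cechMap (cov (q + 1) R) (mu (dd q k) r) (q + 1)).hom (eL.symm y) := by
    apply eL.injective
    rw [heL, AddEquiv.apply_symm_apply, AddEquiv.apply_symm_apply]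
  show e (eL.symm _) = r • e (eL.symm y)
  rw [h1, he]

open Groth.Agent.Lib.Cech in
lemma exists_ext_KK_equiv (q k : ℕ) :
    ∃ Ψ : Abelian.Ext (KK (Proj (𝒜 (q + 1) R)).toTopCat)
        (Coh.toAb (Twist.twist (𝒜 (q + 1) R) (dd q k))) (q + 1) ≃+ 𝒜 (q + 1) R k,
      ∀ (r : R) (y : Abelian.Ext (KK (Proj (𝒜 (q + 1) R)).toTopCat)
        (Coh.toAb (Twist.twist (𝒜 (q + 1) R) (dd q k))) (q + 1)),
        Ψ (y.comp (Abelian.Ext.mk₀ (mu (dd q k) r)) (add_zero _)) = r • Ψ y := by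
  obtain ⟨Ψ, hΨ⟩ := exists_ext_fr_equiv (R := R) q k
  refine ⟨(extTopEquiv (X := (Proj (𝒜 (q + 1) R)).toTopCat)
    (Coh.toAb (Twist.twist (𝒜 (q + 1) R) (dd q k))) (q + 1)).symm.trans Ψ, fun r y => ?_⟩
  show Ψ ((Abelian.Ext.mk₀ (frToKK (X := (Proj (𝒜 (q + 1) R)).toTopCat))).comp
        (y.comp (Abelian.Ext.mk₀ (mu (dd q k) r)) (add_zero _)) (zero_add _)) =
      r • Ψ ((Abelian.Ext.mk₀ (frToKK (X := (Proj (𝒜 (q + 1) R)).toTopCat))).comp y (zero_add _))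
  rw [← hΨ, Abelian.Ext.comp_assoc_of_third_deg_zero]

theorem nonempty_HH_top_linearEquiv_succ (q k : ℕ) :
    Nonempty (Coh.HH (CohB1.ProjSpace (q + 1) R) (Twist.twistProjSpace (q + 1) R (dd q k)) (q + 1)
      ≃ₗ[R] 𝒜 (q + 1) R k) := by
  obtain ⟨Ψ, hΨ⟩ := exists_ext_KK_equiv (R := R) q k
  exact ⟨({ toFun := fun h => Ψ h
            invFun := fun b => Ψ.symm b
            left_inv := fun h => Ψ.symm_apply_apply h
            right_inv := fun b => Ψ.apply_symm_apply b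
            map_add' := fun h h' => Ψ.map_add h h'
            map_smul' := fun r h => by
              rw [RingHom.id_apply]
              exact hΨ r h } :
    Coh.HH (CohB1.ProjSpace (q + 1) R) (Twist.twistProjSpace (q + 1) R (dd q k)) (q + 1)
      ≃ₗ[R] 𝒜 (q + 1) R k)⟩

/-! ### The case `n = 0` -/

lemma top_eq_cov_zero : (⊤ : (Proj (𝒜 0 R)).Opens) =
    Proj.basicOpen (𝒜 0 R) (mon 0 R (Finsupp.single 0 1)) := by
  rw [← cov_eq (n := 0) (R := R) ⟨0⟩, ← iSup_cov (n := 0) (R := R)]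
  apply le_antisymm
  · apply iSup_le
    intro j
    have : j = ⟨0⟩ := by
      apply ULift.ext
      exact Fin.fin_one_eq_zero _
    rw [this]
  · exact le_iSup _ _

lemma PhiV_top_range_zero (d : ℤ) (hd : d < 0) (g : (Fin (0 + 1) → ℤ) →₀ R) :
    (∃ s, PhiV (n := 0) (R := R) d ⊤ le_top s = g) ↔ ∀ e ∈ g.support, e ∈ E0 0 d := by
  rw [PhiV_range (m := Finsupp.single 0 1) (by simp) ⊤ top_eq_cov_zero le_top g]
  constructor
  · intro h e he
    obtain ⟨h1, -⟩ := h e he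
    refine ⟨h1, fun i => ?_⟩
    have : i = 0 := Fin.fin_one_eq_zero _
    subst this
    have h2 : ∑ i, e i = e 0 := Fin.sum_univ_one e
    rw [h2] at h1
    omega
  · intro h e he
    refine ⟨(h e he).1, fun i hi => ?_⟩
    have : i = 0 := Fin.fin_one_eq_zero _
    subst this
    simp at hi

lemma exists_addEquiv_of_inj {A B C : Type*} [AddCommGroup A] [AddCommGroup B] [AddCommGroup C]
    (f : A →+ C) (g : B →+ C) (hf : Function.Injective f) (hg : Function.Injective g)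
    (h : ∀ c, (∃ a, f a = c) ↔ (∃ b, g b = c)) : ∃ e : A ≃+ B, ∀ a, g (e a) = f a := by
  have h1 : ∀ a, ∃ b, g b = f a := fun a => (h (f a)).mp ⟨a, rfl⟩
  have h2 : ∀ b, ∃ a, f a = g b := fun b => (h (g b)).mpr ⟨b, rfl⟩
  choose φ hφ using h1
  choose ψ hψ using h2
  exact ⟨{ toFun := φ
           invFun := ψ
           left_inv := fun a => hf (by rw [hψ, hφ])
           right_inv := fun b => hg (by rw [hφ, hψ])
           map_add' := fun a a' => hg (by rw [map_add, hφ, hφ, hφ, map_add]) }, hφ⟩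

/-- Laurent coordinates of a class in `H^0` -/
noncomputable def P0 (d : ℤ) :
    Sheaf.H (Coh.toAb (Twist.twist (𝒜 0 R) d)) 0 →+ ((Fin (0 + 1) → ℤ) →₀ R) :=
  (PhiV (n := 0) (R := R) d ⊤ le_top).comp
    (Sheaf.H.equiv₀ (Coh.toAb (Twist.twist (𝒜 0 R) d)) isTerminalTop).toAddMonoidHom

lemma P0_apply (d : ℤ) (h : Sheaf.H (Coh.toAb (Twist.twist (𝒜 0 R) d)) 0) :
    P0 d h = PhiV (n := 0) (R := R) d ⊤ le_top
      (Sheaf.H.equiv₀ (Coh.toAb (Twist.twist (𝒜 0 R) d)) isTerminalTop h) := rfl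

lemma P0_injective (d : ℤ) : Function.Injective (P0 (R := R) d) :=
  (PhiV_top_injective d).comp (AddEquiv.injective _)

lemma P0_range (d : ℤ) (hd : d < 0) (g : (Fin (0 + 1) → ℤ) →₀ R) :
    (∃ h, P0 (R := R) d h = g) ↔ ∀ e ∈ g.support, e ∈ E0 0 d := by
  rw [← PhiV_top_range_zero d hd g]
  constructor
  · rintro ⟨h, hh⟩
    exact ⟨_, hh⟩
  · rintro ⟨s, hs⟩
    refine ⟨(Sheaf.H.equiv₀ (Coh.toAb (Twist.twist (𝒜 0 R) d)) isTerminalTop).symm s, ?_⟩
    rw [P0_apply, AddEquiv.apply_symm_apply]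
    exact hs

lemma P0_mu (d : ℤ) (r : R) (h : Sheaf.H (Coh.toAb (Twist.twist (𝒜 0 R) d)) 0) :
    P0 d (Sheaf.H.map (mu d r) 0 h) = r • P0 d h := by
  rw [P0_apply, P0_apply, ← Sheaf.H.equiv₀_naturality]
  exact PhiV_mu d ⊤ le_top _ r

lemma exists_H_zero_equiv (k : ℕ) :
    ∃ θ : Sheaf.H (Coh.toAb (Twist.twist (𝒜 0 R) (-(((0 : ℕ) : ℤ) + 1 + k)))) 0 ≃+ 𝒜 0 R k,
      ∀ (r : R) (h : Sheaf.H (Coh.toAb (Twist.twist (𝒜 0 R) (-(((0 : ℕ) : ℤ) + 1 + k)))) 0),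
        θ (Sheaf.H.map (mu (-(((0 : ℕ) : ℤ) + 1 + k)) r) 0 h) = r • θ h := by
  have hd : (-(((0 : ℕ) : ℤ) + 1 + k)) < 0 := by omega
  obtain ⟨θ, hθ⟩ := exists_addEquiv_of_inj (P0 (R := R) (-(((0 : ℕ) : ℤ) + 1 + k)))
    (Lam (n := 0) (R := R) k).toAddMonoidHom (P0_injective _)
    (Lam_injective k) (fun c => by
      rw [P0_range _ hd]
      constructor
      · intro hc
        exact Lam_surj k _ hc
      · rintro ⟨b, rfl⟩
        exact Lam_support k b)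
  refine ⟨θ, fun r h => ?_⟩
  apply Lam_injective k
  rw [map_smul]
  have h1 : Lam k (θ (Sheaf.H.map (mu (-(((0 : ℕ) : ℤ) + 1 + k)) r) 0 h)) = _ := hθ _
  have h2 : Lam k (θ h) = _ := hθ h
  rw [h1, h2, P0_mu]

theorem nonempty_HH_top_linearEquiv_zero (k : ℕ) :
    Nonempty (Coh.HH (CohB1.ProjSpace 0 R)
      (Twist.twistProjSpace 0 R (-(((0 : ℕ) : ℤ) + 1 + k))) 0 ≃ₗ[R] 𝒜 0 R k) := by
  obtain ⟨Ψ, hΨ⟩ := exists_H_zero_equiv (R := R) k
  exact ⟨({ toFun := fun h => Ψ h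
            invFun := fun b => Ψ.symm b
            left_inv := fun h => Ψ.symm_apply_apply h
            right_inv := fun b => Ψ.apply_symm_apply b
            map_add' := fun h h' => Ψ.map_add h h'
            map_smul' := fun r h => by
              rw [RingHom.id_apply]
              exact hΨ r h } :
    Coh.HH (CohB1.ProjSpace 0 R) (Twist.twistProjSpace 0 R (-(((0 : ℕ) : ℤ) + 1 + k))) 0
      ≃ₗ[R] 𝒜 0 R k)⟩

end Groth.Agent.ProjCech
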