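import Mathlib
import Groth.Prelude
import Groth.Agent.Lib.SerreCrit3_helper9
import Groth.Agent.Lib.LerayNat_helper9

/-!
# Linearity of the long exact cohomology sequence over an affine base (helper9)

For `X` over `Spec A` and a short exact sequence of `O_X`-modules, the connecting homomorphism
`H^i(X, S.X₃) → H^{i+1}(X, S.X₁)` is `A`-linear; consequences for Noetherian cohomology modules.
-/

set_option autoImplicit false
universe u
open CategoryTheory CategoryTheory.Limits AlgebraicGeometry TopologicalSpace Opposite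

namespace Groth.Agent.ProjFin

variable (A : Type u) [CommRing A] {X : Scheme.{u}} [X.Over (Spec (CommRingCat.of A))]

/-- the endomorphism of the underlying short complex of abelian sheaves given by a global
function -/
noncomputable def smulSC (S : ShortComplex X.Modules) (c : Coh.Γtop X) :
    S.map (SerreCrit.TT X) ⟶ S.map (SerreCrit.TT X) where
  τ₁ := Coh.smulAb S.X₁ c
  τ₂ := Coh.smulAb S.X₂ c
  τ₃ := Coh.smulAb S.X₃ c
  comm₁₂ := (Canon.toSheaf_map_comp_smulAb S.f c).symm
  comm₂₃ := (Canon.toSheaf_map_comp_smulAb S.g c).symm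

lemma smul_def {M : X.Modules} (i : ℕ) (r : A) (x : Coh.HH X M i) :
    r • x = Abelian.Ext.comp (show Abelian.Ext _ (Coh.toAb M) i from x)
      (Abelian.Ext.mk₀ (Coh.smulAb M (Coh.toGlobal (X ↘ Spec (CommRingCat.of A)) r)))
      (add_zero i) := rfl

/-- the connecting homomorphism, `A`-linearly -/
noncomputable def δlin (S : ShortComplex X.Modules) (hS : S.ShortExact) (i : ℕ) :
    Coh.HH X S.X₃ i →ₗ[A] Coh.HH X S.X₁ (i + 1) where
  toFun x := Abelian.Ext.comp (show Abelian.Ext _ (Coh.toAb S.X₃) i from x)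
    (SerreCrit.shortExact_toSheaf S hS).extClass rfl
  map_add' x y := Abelian.Ext.add_comp _ _ _ _
  map_smul' r x := by
    rw [RingHom.id_apply, smul_def, smul_def]
    exact Groth.Agent.LerayNat.comp_comp_extClass (SerreCrit.shortExact_toSheaf S hS)
      (smulSC S (Coh.toGlobal (X ↘ Spec (CommRingCat.of A)) r)) _ rfl

lemma HHlin_apply {F G : X.Modules} (φ : F ⟶ G) (i : ℕ) (x : Coh.HH X F i) :
    Canon.HHlin A φ i x = Sheaf.H.map ((SerreCrit.TT X).map φ) i x := rfl

lemma range_HHlin_g (S : ShortComplex X.Modules) (hS : S.ShortExact) (i : ℕ) :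
    LinearMap.range (Canon.HHlin A S.g i) = LinearMap.ker (δlin A S hS i) := by
  ext x
  constructor
  · rintro ⟨y, rfl⟩
    rw [LinearMap.mem_ker, HHlin_apply]
    show Abelian.Ext.comp (Sheaf.H.map ((SerreCrit.TT X).map S.g) i y)
      (SerreCrit.shortExact_toSheaf S hS).extClass rfl = 0
    rw [Sheaf.H.map_apply, Abelian.Ext.comp_assoc_of_second_deg_zero]
    have := (SerreCrit.shortExact_toSheaf S hS).comp_extClass
    erw [this, Abelian.Ext.comp_zero]
  · intro hx
    obtain ⟨y, hy⟩ := Abelian.Ext.covariant_sequence_exact₃ _ (SerreCrit.shortExact_toSheaf S hS)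
      (show Abelian.Ext _ (Coh.toAb S.X₃) i from x) rfl hx
    exact ⟨y, hy⟩

theorem isNoetherian_right (S : ShortComplex X.Modules) (hS : S.ShortExact) (i : ℕ)
    [IsNoetherian A (Coh.HH X S.X₂ i)] [IsNoetherian A (Coh.HH X S.X₁ (i + 1))] :
    IsNoetherian A (Coh.HH X S.X₃ i) :=
  isNoetherian_of_range_eq_ker (Canon.HHlin A S.g i) (δlin A S hS i) (range_HHlin_g A S hS i)

/-! ### Finite coproducts -/

/-- `Sheaf.H.map` as an additive map in the morphism -/
noncomputable def HmapHom {F G : Sheaf (Opens.grothendieckTopology X) AddCommGrpCat.{u}} (n : ℕ) :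
    (F ⟶ G) →+ (Sheaf.H F n →+ Sheaf.H G n) where
  toFun f := Sheaf.H.map f n
  map_zero' := by
    ext x
    rw [Sheaf.H.map_apply, Abelian.Ext.mk₀_zero, Abelian.Ext.comp_zero]
    rfl
  map_add' f g := by
    ext x
    exact Sheaf.H.map_add_apply f g x

/-- the projections of a finite coproduct of copies of `L` -/
noncomputable def pr (L : X.Modules) (k : ℕ) (j : Fin k) : (∐ fun _ : Fin k => L) ⟶ L :=
  Sigma.desc (fun j' => if j' = j then 𝟙 L else 0)

lemma sum_pr_ι (L : X.Modules) (k : ℕ) :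
    ∑ j, pr L k j ≫ Sigma.ι (fun _ : Fin k => L) j = 𝟙 _ := by
  apply Sigma.hom_ext
  intro j'
  rw [Preadditive.comp_sum, Category.comp_id, Finset.sum_eq_single j']
  · unfold pr
    rw [Sigma.ι_desc_assoc, if_pos rfl, Category.id_comp]
  · intro j _ hj
    unfold pr
    rw [Sigma.ι_desc_assoc, if_neg (Ne.symm hj), zero_comp]
  · intro h
    exact absurd (Finset.mem_univ _) h

theorem isNoetherian_sigma (L : X.Modules) (k i : ℕ) [IsNoetherian A (Coh.HH X L i)] :
    IsNoetherian A (Coh.HH X (∐ fun _ : Fin k => L) i) := by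
  let Φ : (Fin k → Coh.HH X L i) →ₗ[A] Coh.HH X (∐ fun _ : Fin k => L) i :=
    ∑ j, (Canon.HHlin A (Sigma.ι (fun _ : Fin k => L) j) i).comp (LinearMap.proj j)
  refine isNoetherian_of_surjective Φ ?_
  rw [LinearMap.range_eq_top]
  intro x
  refine ⟨fun j => Canon.HHlin A (pr L k j) i x, ?_⟩
  have h1 : Φ (fun j => Canon.HHlin A (pr L k j) i x) =
      ∑ j, HmapHom i ((SerreCrit.TT X).map (pr L k j ≫ Sigma.ι (fun _ : Fin k => L) j)) x := by
    simp only [Φ, LinearMap.sum_apply, LinearMap.comp_apply, LinearMap.proj_apply, HHlin_apply]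
    apply Finset.sum_congr rfl
    intro j _
    rw [Functor.map_comp]
    exact (Sheaf.H.map_comp_apply _ _ _).symm
  rw [h1, ← AddMonoidHom.finset_sum_apply, ← map_sum, ← Functor.map_sum, sum_pr_ι,
    CategoryTheory.Functor.map_id]
  exact Sheaf.H.map_id_apply x

end Groth.Agent.ProjFin
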