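import Mathlib
import Groth.Prelude
import Groth.Agent.Lib.GG1_helper8
import Groth.Agent.Lib.Tens29_helper8
import Groth.Agent.Lib.Tens6_helper8
import Groth.Agent.Lib.QCohFT_helper9

/-!
# Finite generation by global sections (helper5)

On a quasi-compact scheme, a quasi-coherent module of finite type which is globally generated is
generated by finitely many global sections.
-/

set_option autoImplicit false
universe u
open CategoryTheory CategoryTheory.Limits AlgebraicGeometry TopologicalSpace Opposite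
open QcqsLoc QCohExtn GGH8

namespace Groth.Agent.FinGG

variable {X : Scheme.{u}}

theorem spanAt_mono (H : X.Modules) {ι κ : Type*} (g : ι → Γ(H, ⊤)) (g' : κ → Γ(H, ⊤))
    (h : ∀ i, ∃ j, g' j = g i) (W : X.Opens) : spanAt H g W ≤ spanAt H g' W := by
  unfold spanAt
  apply Submodule.span_mono
  rintro _ ⟨i, rfl⟩
  obtain ⟨j, hj⟩ := h i
  exact ⟨j, by show rF H _ (g' j) = rF H _ (g i); rw [hj]⟩

/-- Near any point, finitely many of the generating global sections suffice. -/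
theorem locSpan_finite_nhd (H : X.Modules) [H.IsQuasicoherent]
    [SheafOfModules.IsFiniteType (R := X.ringCatSheaf) H] {ι : Type*} (g : ι → Γ(H, ⊤))
    (hloc : ∀ (W : X.Opens) (s : Γ(H, W)), LocSpan H g W s) (x : X) :
    ∃ (W : X.Opens) (J : Finset ι), x ∈ W ∧ ∀ (O : X.Opens) (_ : O ≤ W) (t : Γ(H, O)),
      LocSpan H (fun i : J => g i) O t := by
  classical
  obtain ⟨_, ⟨U, hU : IsAffineOpen U, rfl⟩, hxU, -⟩ :=
    (X.isBasis_affineOpens).exists_subset_of_mem_open (Set.mem_univ x) isOpen_univ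
  have hxU' : x ∈ U := hxU
  haveI := QCohFT.finite_of_isFiniteType H hU
  obtain ⟨G, hG⟩ := (Module.Finite.fg_top : (⊤ : Submodule Γ(X, U) Γ(H, U)).FG)
  have key : ∀ z : Γ(H, U), ∃ (W' : X.Opens) (h : W' ≤ U) (Jz : Finset ι), x ∈ W' ∧
      rF H h z ∈ spanAt H (fun i : Jz => g i) W' := by
    intro z
    obtain ⟨W', h, hxW', hmem⟩ := hloc U z x hxU'
    unfold spanAt at hmem
    rw [Finsupp.mem_span_range_iff_exists_finsupp] at hmem
    obtain ⟨c, hc⟩ := hmem
    refine ⟨W', h, c.support, hxW', ?_⟩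
    rw [← hc]
    unfold spanAt
    exact Submodule.sum_mem _ (fun i hi => Submodule.smul_mem _ _
      (Submodule.subset_span ⟨⟨i, hi⟩, rfl⟩))
  choose W' hW' Jz hxW' hmem using key
  let W0 : X.Opens := ⟨⋂ z ∈ G, (W' z : Set X), isOpen_biInter_finset (fun z _ => (W' z).isOpen)⟩
  have hW0 : ∀ z ∈ G, W0 ≤ W' z := fun z hz y hy => Set.mem_iInter₂.mp hy z hz
  refine ⟨W0 ⊓ U, G.biUnion Jz, ⟨Set.mem_iInter₂.mpr (fun z _ => hxW' z), hxU'⟩, ?_⟩
  intro O hO t y hy
  have hOU : O ≤ U := hO.trans inf_le_right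
  obtain ⟨b, hbO, hyb⟩ := hU.exists_basicOpen_le ⟨y, hy⟩ (hOU hy)
  have hspan : ∀ m : Γ(H, U), rF H (X.basicOpen_le b) m ∈
      spanAt H (fun i : G.biUnion Jz => g i) (X.basicOpen b) := by
    intro m
    have hmG : m ∈ Submodule.span Γ(X, U) (G : Set Γ(H, U)) := hG ▸ Submodule.mem_top
    induction hmG using Submodule.span_induction with
    | mem z hz =>
      have hle : X.basicOpen b ≤ W' z := (hbO.trans (hO.trans inf_le_left)).trans (hW0 z hz)
      have h1 := spanAt_res H (fun i : Jz z => g i) hle (hmem z)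
      rw [rF_rF] at h1
      refine spanAt_mono H _ _ ?_ _ h1
      rintro ⟨i, hi⟩
      exact ⟨⟨i, Finset.mem_biUnion.mpr ⟨z, hz, hi⟩⟩, rfl⟩
    | zero => rw [map_zero]; exact zero_mem _
    | add a a' _ _ ha ha' => rw [map_add]; exact add_mem ha ha'
    | smul r a _ ha => rw [rF_smul]; exact Submodule.smul_mem _ _ ha
  have hD := QCohCrit.locOnU_of_isQuasicoherent H hU b
  obtain ⟨n, m, hm⟩ := hD.surj (rF H hbO t)
  refine ⟨X.basicOpen b, hbO, hyb, ?_⟩
  have hunit : IsUnit (rX (X.basicOpen_le b) b ^ n) :=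
    (RingedSpace.isUnit_res_basicOpen _ b).pow n
  obtain ⟨u, hu⟩ := hunit
  have hm' : rX (X.basicOpen_le b) b ^ n • rF H hbO t = rF H (X.basicOpen_le b) m := hm
  have ht : rF H hbO t = (↑u⁻¹ : Γ(X, X.basicOpen b)) • rF H (X.basicOpen_le b) m := by
    rw [← hm', ← hu, smul_smul, Units.inv_mul, one_smul]
  rw [ht]
  exact Submodule.smul_mem _ _ (hspan m)

/-- On a quasi-compact scheme, a globally generated quasi-coherent module of finite type is
locally spanned by finitely many global sections. -/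
theorem exists_finite_locSpan [CompactSpace X] (H : X.Modules) [H.IsQuasicoherent]
    [SheafOfModules.IsFiniteType (R := X.ringCatSheaf) H] (hgg : Curv2.IsGloballyGenerated H) :
    ∃ (k : ℕ) (g : Fin k → Γ(H, ⊤)), ∀ (W : X.Opens) (s : Γ(H, W)), LocSpan H g W s := by
  classical
  obtain ⟨ι, g, hloc⟩ := exists_locSpan hgg
  choose W J hxW hW using locSpan_finite_nhd H g hloc
  obtain ⟨T, hT⟩ := isCompact_univ.elim_finite_subcover (fun x : X => ((W x : X.Opens) : Set X))
    (fun x => (W x).isOpen) (fun x _ => Set.mem_iUnion.mpr ⟨x, hxW x⟩)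
  refine ⟨(T.biUnion J).card, fun j => g ((T.biUnion J).equivFin.symm j).1, ?_⟩
  intro O s x hx
  obtain ⟨x0, hx0T, hxx0⟩ := Set.mem_iUnion₂.mp (hT (Set.mem_univ x))
  obtain ⟨O', hO', hxO', hmem⟩ := hW x0 (O ⊓ W x0) inf_le_right
    (rF H (inf_le_left : O ⊓ W x0 ≤ O) s) x ⟨hx, hxx0⟩
  refine ⟨O', hO'.trans inf_le_left, hxO', ?_⟩
  rw [rF_rF] at hmem
  refine spanAt_mono H _ _ ?_ _ hmem
  rintro ⟨i, hi⟩
  refine ⟨(T.biUnion J).equivFin ⟨i, Finset.mem_biUnion.mpr ⟨x0, hx0T, hi⟩⟩, ?_⟩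
  rw [Equiv.symm_apply_apply]

/-- The morphism `O^k ⟶ H` given by `k` global sections. -/
noncomputable def secMap (H : X.Modules) {k : ℕ} (g : Fin k → Γ(H, ⊤)) :
    FlatMod.freeMod X k ⟶ H :=
  Sigma.desc (fun j : Fin k => TensH8.homOfSec H (g j))

theorem ap_secMap_ι (H : X.Modules) {k : ℕ} (g : Fin k → Γ(H, ⊤)) (j : Fin k) (W : X.Opens) :
    ap (secMap H g) W (ap (Sigma.ι (fun _ : Fin k => Coh.structureModule X) j) W
      (FLFH8.toM 1)) = rF H (le_top : W ≤ ⊤) (g j) := by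
  have h1 := congrArg (fun φ => ap φ W (FLFH8.toM 1))
    (Sigma.ι_desc (fun j : Fin k => TensH8.homOfSec H (g j)) j)
  exact h1.trans (TensH8.val_homOfSec H (g j) W)

theorem epi_secMap (H : X.Modules) {k : ℕ} (g : Fin k → Γ(H, ⊤))
    (hloc : ∀ (W : X.Opens) (s : Γ(H, W)), LocSpan H g W s) : Epi (secMap H g) := by
  apply TensH8.epi_of_locally_surjective
  intro U m x hx
  obtain ⟨W', h', hxW', hmem⟩ := hloc U m x hx
  refine ⟨W', h', hxW', ?_⟩
  let lin : Γ(FlatMod.freeMod X k, W') →ₗ[Γ(X, W')] Γ(H, W') :=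
    { toFun := ap (secMap H g) W'
      map_add' := map_add _
      map_smul' := fun r z => ap_smul (secMap H g) r z }
  have hle : spanAt H g W' ≤ LinearMap.range lin := by
    unfold spanAt
    rw [Submodule.span_le]
    rintro _ ⟨j, rfl⟩
    exact ⟨_, ap_secMap_ι H g j W'⟩
  obtain ⟨z, hz⟩ := hle hmem
  exact ⟨z, hz⟩

/-- **Finite global generation.** -/
theorem exists_epi_freeMod [CompactSpace X] (H : X.Modules) [H.IsQuasicoherent]
    [SheafOfModules.IsFiniteType (R := X.ringCatSheaf) H] (hgg : Curv2.IsGloballyGenerated H) :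
    ∃ (k : ℕ) (p : FlatMod.freeMod X k ⟶ H), Epi p := by
  obtain ⟨k, g, hloc⟩ := exists_finite_locSpan H hgg
  exact ⟨k, secMap H g, epi_secMap H g hloc⟩

end Groth.Agent.FinGG
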