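import Mathlib
import Groth.Prelude
import Groth.Agent.Lib.ProjTwPow_helper5
import Groth.Agent.Lib.GlobGen_helper9

/-!
# Global sections of `O(n)` on `Proj`; global generation (helper5)
-/

set_option autoImplicit false
universe u
open CategoryTheory CategoryTheory.Limits AlgebraicGeometry TopologicalSpace Opposite DirectSum
open HomogeneousLocalization

namespace Groth.Agent.ProjTw

section
variable {R A : Type u} [CommRing R] [CommRing A] [Algebra R A] (𝒜 : ℕ → Submodule R A)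
  [GradedAlgebra 𝒜]

/-- The global section of `O(k)` given by a homogeneous element of degree `k`. -/
def topSec (k : ℤ) {i : ℕ} (a : A) (ha : a ∈ 𝒜 i) (hk : (i : ℤ) = k) :
    Twist.sectN (𝒜 := 𝒜) k (op (⊤ : Opens (ProjectiveSpectrum.top 𝒜))) :=
  fracSecN 𝒜 k (j := 0) a ha 1 SetLike.GradedOne.one_mem (by simpa using hk) ⊤
    (fun x h => x.1.isPrime.ne_top ((Ideal.eq_top_iff_one _).mpr h))

theorem rF_topSec_pow {g : A} (hg : g ∈ 𝒜 1) (n : ℕ) :
    QcqsLoc.rF (Twist.twist 𝒜 (n : ℤ)) (le_top : Proj.basicOpen 𝒜 g ≤ ⊤)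
      (topSec 𝒜 (n : ℤ) (g ^ n) (by simpa using SetLike.pow_mem_graded n hg) (by simp)) =
      genSecK 𝒜 hg (n : ℤ) (n : ℤ) (by simp) := by
  apply Subtype.ext
  funext x
  apply Subtype.ext
  show Localization.mk _ _ = Localization.mk _ _
  rw [Localization.mk_eq_mk_iff, Localization.r_iff_exists]
  exact ⟨1, by simp⟩

/-- The morphism `O^k ⟶ O(n)` given by the `n`-th powers of degree-one elements. -/
noncomputable def powMap {k : ℕ} (e : Fin k → A) (he : ∀ i, e i ∈ 𝒜 1) (n : ℕ) :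
    FlatMod.freeMod (Proj 𝒜) k ⟶ Twist.twist 𝒜 (n : ℤ) :=
  Sigma.desc (fun i : Fin k => TensH8.homOfSec (Twist.twist 𝒜 (n : ℤ))
    (topSec 𝒜 (n : ℤ) (e i ^ n) (by simpa using SetLike.pow_mem_graded n (he i)) (by simp)))

theorem epi_powMap {k : ℕ} (e : Fin k → A) (he : ∀ i, e i ∈ 𝒜 1)
    (hcov : ∀ x : Proj 𝒜, ∃ i, x ∈ Proj.basicOpen 𝒜 (e i)) (n : ℕ) : Epi (powMap 𝒜 e he n) := by
  apply GlobGen.epi_of_surjective_on_basis _ {U | ∃ i, U ≤ Proj.basicOpen 𝒜 (e i)}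
  · rw [Opens.isBasis_iff_nbhd]
    intro U x hx
    obtain ⟨i, hi⟩ := hcov x
    exact ⟨U ⊓ Proj.basicOpen 𝒜 (e i), ⟨i, inf_le_right⟩, ⟨hx, hi⟩, inf_le_left⟩
  · rintro U ⟨i, hU⟩ t
    obtain ⟨c, hc⟩ := (isGen_genSecK 𝒜 one_pos (he i) (n : ℤ) (n : ℤ) (by simp) U hU).1 t
    refine ⟨c • QCohExtn.ap (Sigma.ι (fun _ : Fin k => Coh.structureModule (Proj 𝒜)) i) U
      (FLFH8.toM 1), ?_⟩
    have h1 : QCohExtn.ap (powMap 𝒜 e he n) U
        (QCohExtn.ap (Sigma.ι (fun _ : Fin k => Coh.structureModule (Proj 𝒜)) i) U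
          (FLFH8.toM 1)) =
        QCohExtn.ap (TensH8.homOfSec (Twist.twist 𝒜 (n : ℤ))
          (topSec 𝒜 (n : ℤ) (e i ^ n) (by simpa using SetLike.pow_mem_graded n (he i))
            (by simp))) U (FLFH8.toM 1) := by
      have := congrArg (fun φ => QCohExtn.ap φ U (FLFH8.toM 1))
        (Sigma.ι_desc (fun i : Fin k => TensH8.homOfSec (Twist.twist 𝒜 (n : ℤ))
          (topSec 𝒜 (n : ℤ) (e i ^ n) (by simpa using SetLike.pow_mem_graded n (he i))
            (by simp))) i)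
      exact this
    have h2 := TensH8.val_homOfSec (Twist.twist 𝒜 (n : ℤ))
      (topSec 𝒜 (n : ℤ) (e i ^ n) (by simpa using SetLike.pow_mem_graded n (he i)) (by simp)) U
    have h3 : QcqsLoc.rF (Twist.twist 𝒜 (n : ℤ)) (le_top : U ≤ ⊤)
        (topSec 𝒜 (n : ℤ) (e i ^ n) (by simpa using SetLike.pow_mem_graded n (he i))
          (by simp)) =
        QcqsLoc.rF (Twist.twist 𝒜 (n : ℤ)) hU (genSecK 𝒜 (he i) (n : ℤ) (n : ℤ) (by simp)) := by
      rw [← rF_topSec_pow 𝒜 (he i) n, QcqsLoc.rF_rF]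
    show QCohExtn.ap (powMap 𝒜 e he n) U _ = t
    rw [QCohExtn.ap_smul, h1, ← TensH8.val_eq_ap, h2, h3, ← hc]

end

end Groth.Agent.ProjTw
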