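import Mathlib
import Groth.Prelude
import Groth.Agent.Lib.ProjTwGG_helper5

/-!
# `O(1)` is ample on `Proj` of a ring generated in degree one by finitely many elements (helper5)
-/

set_option autoImplicit false
universe u
open CategoryTheory CategoryTheory.Limits AlgebraicGeometry TopologicalSpace Opposite DirectSum
open HomogeneousLocalization

namespace Groth.Agent.ProjTw

section
variable {R A : Type u} [CommRing R] [CommRing A] [Algebra R A] (𝒜 : ℕ → Submodule R A)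
  [GradedAlgebra 𝒜]

/-- The function `g / f` on `D_+(f)`, for `f`, `g` homogeneous of the same degree. -/
noncomputable def ratio {d : ℕ} {f g : A} (hf : f ∈ 𝒜 d) (hg : g ∈ 𝒜 d) :
    Twist.O (𝒜 := 𝒜) (op (ProjectiveSpectrum.basicOpen 𝒜 f)) :=
  (Proj.awayToSection 𝒜 f).hom (Away.mk 𝒜 hf 1 g (by simpa using hg))

theorem ratio_val {d : ℕ} {f g : A} (hf : f ∈ 𝒜 d) (hg : g ∈ 𝒜 d)
    (y : ProjectiveSpectrum.basicOpen 𝒜 f) :
    ((ratio 𝒜 hf hg).1 y).val = Localization.mk g ⟨f ^ 1,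
      show f ^ 1 ∈ y.1.asHomogeneousIdeal.toIdeal.primeCompl from
        fun h => y.2 (y.1.isPrime.mem_of_pow_mem _ h)⟩ := rfl

/-- A homogeneous element of degree one as a morphism `O ⟶ O(1)`. -/
noncomputable def secHom1 {g : A} (hg : g ∈ 𝒜 1) :
    Coh.structureModule (Proj 𝒜) ⟶ Twist.twist 𝒜 1 :=
  TensH8.homOfSec (Twist.twist 𝒜 1) (topSec 𝒜 1 g hg (by simp))

theorem val_secHom1 {f g : A} (hf : f ∈ 𝒜 1) (hg : g ∈ 𝒜 1) :
    SecTwist.val (secHom1 𝒜 hg) (Proj.basicOpen 𝒜 f) =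
      (show Γ(Proj 𝒜, Proj.basicOpen 𝒜 f) from ratio 𝒜 hf hg) •
        (show Γ(Twist.twist 𝒜 1, Proj.basicOpen 𝒜 f) from genSecK 𝒜 hf 1 1 (by simp)) := by
  refine (TensH8.val_homOfSec (Twist.twist 𝒜 1) _ (Proj.basicOpen 𝒜 f)).trans ?_
  apply Subtype.ext
  funext y
  apply Subtype.ext
  refine Eq.trans ?_ (smul_valN 𝒜 1 (op (ProjectiveSpectrum.basicOpen 𝒜 f)) (ratio 𝒜 hf hg)
    (genSecK 𝒜 hf 1 1 (by simp)) y).symm
  rw [ratio_val]
  show Localization.mk _ _ = Localization.mk _ _ * Localization.mk _ _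
  rw [Localization.mk_mul, Localization.mk_eq_mk_iff, Localization.r_iff_exists]
  refine ⟨1, ?_⟩
  simp only [Submonoid.coe_mul, Submonoid.coe_one, one_mul]
  simp
  exact mul_comm f g

theorem genLocus_secHom1_inf {f g : A} (hf : f ∈ 𝒜 1) (hg : g ∈ 𝒜 1) :
    CohB1.genLocus (CohB1.tensorPow (Twist.twist 𝒜 1) 1) (SecTwist.powHom (secHom1 𝒜 hg) 1) ⊓
      Proj.basicOpen 𝒜 f = Proj.basicOpen 𝒜 f ⊓ Proj.basicOpen 𝒜 g := by
  have he := isGen_genSecK 𝒜 one_pos hf 1 1 (by simp)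
  have h1 : SecTwist.val (SecTwist.powHom (secHom1 𝒜 hg) 1) (Proj.basicOpen 𝒜 f) =
      (show Γ(Proj 𝒜, Proj.basicOpen 𝒜 f) from ratio 𝒜 hf hg) ^ 1 •
        (show Γ(CohB1.tensorPow (Twist.twist 𝒜 1) 1, Proj.basicOpen 𝒜 f) from
          CycCov.lpow (Twist.twist 𝒜 1) (Proj.basicOpen 𝒜 f) (genSecK 𝒜 hf 1 1 (by simp)) 1) := by
    rw [SecTwist.val_powHom, ← CycCov.lpow_val, val_secHom1 𝒜 hf hg, TensH8.lpow_smul]
  rw [TensH8.genLocus_inf_eq _ (TensH8.isGen_lpow he 1) _ h1, pow_one]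
  ext y
  constructor
  · intro hy
    have hyf : y ∈ Proj.basicOpen 𝒜 f := (Proj 𝒜).basicOpen_le _ hy
    refine ⟨hyf, ?_⟩
    have h2 := (Groth.Agent.ProjQC.mem_basicOpen_iff 𝒜 _ _ y hyf).mp hy
    exact (Groth.Agent.ProjQC.isUnit_iff_of_val 𝒜 y _ g (f ^ 1)
      (fun h => hyf (y.isPrime.mem_of_pow_mem _ h)) (ratio_val 𝒜 hf hg ⟨y, hyf⟩)).mp h2
  · rintro ⟨hyf, hyg⟩
    apply (Groth.Agent.ProjQC.mem_basicOpen_iff 𝒜 _ _ y hyf).mpr
    exact (Groth.Agent.ProjQC.isUnit_iff_of_val 𝒜 y _ g (f ^ 1)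
      (fun h => hyf (y.isPrime.mem_of_pow_mem _ h)) (ratio_val 𝒜 hf hg ⟨y, hyf⟩)).mpr hyg

theorem isAmple_twist_one (s : Finset A) (hs1 : ∀ f ∈ s, f ∈ 𝒜 1)
    (hcov : ∀ x : Proj 𝒜, ∃ f ∈ s, x ∈ Proj.basicOpen 𝒜 f) :
    CohB1.IsAmple (Twist.twist 𝒜 1) := by
  have hcov' : ∀ x : Proj 𝒜, ∃ f ∈ 𝒜 1, x ∈ Proj.basicOpen 𝒜 f := fun x => by
    obtain ⟨f, hf, hx⟩ := hcov x
    exact ⟨f, hs1 f hf, hx⟩
  have hloc : ∀ g (hg : g ∈ 𝒜 1),
      CohB1.genLocus (CohB1.tensorPow (Twist.twist 𝒜 1) 1) (SecTwist.powHom (secHom1 𝒜 hg) 1) =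
        Proj.basicOpen 𝒜 g := by
    intro g hg
    ext y
    obtain ⟨f, hf, hy⟩ := hcov' y
    have h := genLocus_secHom1_inf 𝒜 hf hg
    constructor
    · intro hy'
      have : y ∈ CohB1.genLocus (CohB1.tensorPow (Twist.twist 𝒜 1) 1)
          (SecTwist.powHom (secHom1 𝒜 hg) 1) ⊓ Proj.basicOpen 𝒜 f := ⟨hy', hy⟩
      rw [h] at this
      exact this.2
    · intro hy'
      have : y ∈ Proj.basicOpen 𝒜 f ⊓ Proj.basicOpen 𝒜 g := ⟨hy, hy'⟩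
      rw [← h] at this
      exact this.1
  refine ⟨isInvertible_twist 𝒜 hcov' 1, ?_, ?_⟩
  · constructor
    have : (Set.univ : Set (Proj 𝒜)) =
        ⋃ g ∈ s, ((Proj.basicOpen 𝒜 g : (Proj 𝒜).Opens) : Set (Proj 𝒜)) := by
      ext x
      simp only [Set.mem_univ, Set.mem_iUnion, SetLike.mem_coe, exists_prop, true_iff]
      exact hcov x
    rw [this]
    exact s.isCompact_biUnion
      (fun g hg => (Proj.isAffineOpen_basicOpen 𝒜 g (hs1 g hg) one_pos).isCompact)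
  · intro x
    obtain ⟨g, hg, hx⟩ := hcov x
    refine ⟨0, SecTwist.powHom (secHom1 𝒜 (hs1 g hg)) 1, ?_, ?_⟩
    · rw [hloc]
      exact hx
    · rw [hloc]
      exact Proj.isAffineOpen_basicOpen 𝒜 g (hs1 g hg) one_pos

end

end Groth.Agent.ProjTw
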