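import Mathlib
import Groth.Agent.Lib.RelFPKit_helper9

/-!
# Localisation data for tensor products; gluing elements of a module from localisations (helper8)
APPEND-ONLY once landed.
-/

set_option autoImplicit false

namespace TensQCH8

open TensorProduct RelFPKit

universe u

section AL

variable {A A' : Type u} [CommRing A] [CommRing A'] {ρ : A →+* A'} {a : A}

/-- The unit property of `ρ a` from localisation data. -/
theorem LocData.isUnit_map {M M' : Type u} [AddCommGroup M] [Module A M] [AddCommGroup M']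
    [Module A' M'] {l : M →+ M'} (h : LocData ρ a l) : IsUnit (ρ a) := by
  letI := ρ.toAlgebra
  haveI : IsLocalization.Away a A' := h.isLoc
  exact IsLocalization.Away.algebraMap_isUnit (S := A') a

/-- Localisation data give an `IsLocalizedModule` instance. -/
theorem LocData.isLocalizedModule {M M' : Type u} [AddCommGroup M] [Module A M] [AddCommGroup M']
    [Module A' M'] {l : M →+ M'} (h : LocData ρ a l) :
    letI := ρ.toAlgebra
    letI : Module A M' := Module.compHom M' ρ
    IsLocalizedModule (Submonoid.powers a)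
      ({ toFun := l, map_add' := l.map_add, map_smul' := h.smul } : M →ₗ[A] M') := by
  letI := ρ.toAlgebra
  letI : Module A M' := Module.compHom M' ρ
  haveI : IsLocalization.Away a A' := h.isLoc
  refine ⟨?_, ?_, ?_⟩
  · rintro ⟨x, n, rfl⟩
    rw [Module.End.isUnit_iff]
    have hu : IsUnit (ρ (a ^ n)) := by
      rw [map_pow]
      exact (LocData.isUnit_map h).pow n
    obtain ⟨v, hv⟩ := hu
    refine ⟨fun m₁ m₂ h12 => ?_, fun m => ⟨(↑v⁻¹ : A') • m, ?_⟩⟩
    · have h12' : ρ (a ^ n) • m₁ = ρ (a ^ n) • m₂ := h12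
      rw [← hv] at h12'
      have := congrArg (fun z => (↑v⁻¹ : A') • z) h12'
      simpa [smul_smul] using this
    · show ρ (a ^ n) • ((↑v⁻¹ : A') • m) = m
      rw [← hv, smul_smul, Units.mul_inv, one_smul]
  · intro m'
    obtain ⟨n, m, hnm⟩ := h.surj m'
    refine ⟨⟨m, ⟨a ^ n, n, rfl⟩⟩, ?_⟩
    show ρ (a ^ n) • m' = l m
    rw [map_pow]
    exact hnm
  · intro m₁ m₂ h12
    have h0 : l (m₁ - m₂) = 0 := by
      rw [map_sub]
      exact sub_eq_zero.mpr h12
    obtain ⟨n, hn⟩ := h.ker _ h0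
    refine ⟨⟨a ^ n, n, rfl⟩, ?_⟩
    show a ^ n • m₁ = a ^ n • m₂
    rw [smul_sub] at hn
    exact sub_eq_zero.mp hn

end AL

section AL2

variable {A A' : Type u} [CommRing A] [CommRing A'] {ρ : A →+* A'} {a : A}
  {M N M' N' : Type u} [AddCommGroup M] [Module A M] [AddCommGroup N] [Module A N]
  [AddCommGroup M'] [Module A' M'] [AddCommGroup N'] [Module A' N']
  {lM : M →+ M'} {lN : N →+ N'}

/-- Localisation data for a tensor product. -/
theorem locData_tensor (hM : LocData ρ a lM) (hN : LocData ρ a lN)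
    (r : M ⊗[A] N →+ M' ⊗[A'] N') (hr : ∀ m n, r (m ⊗ₜ n) = lM m ⊗ₜ lN n) :
    LocData ρ a r := by
  letI algA' : Algebra A A' := ρ.toAlgebra
  haveI : IsLocalization.Away a A' := hM.isLoc
  letI : Module A M' := Module.compHom M' ρ
  letI : Module A N' := Module.compHom N' ρ
  haveI : IsScalarTower A A' M' := IsScalarTower.of_algebraMap_smul (fun _ _ => rfl)
  haveI : IsScalarTower A A' N' := IsScalarTower.of_algebraMap_smul (fun _ _ => rfl)
  let fM : M →ₗ[A] M' := { toFun := lM, map_add' := lM.map_add, map_smul' := hM.smul }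
  let fN : N →ₗ[A] N' := { toFun := lN, map_add' := lN.map_add, map_smul' := hN.smul }
  haveI : IsLocalizedModule (Submonoid.powers a) fM := LocData.isLocalizedModule hM
  haveI : IsLocalizedModule (Submonoid.powers a) fN := LocData.isLocalizedModule hN
  haveI : IsLocalizedModule (Submonoid.powers a) (TensorProduct.map fM fN) := inferInstance
  let e : M' ⊗[A'] N' ≃ₗ[A'] M' ⊗[A] N' :=
    IsLocalization.moduleTensorEquiv (Submonoid.powers a) A' M' N'
  have he : ∀ (m' : M') (n' : N'), e (m' ⊗ₜ n') = m' ⊗ₜ n' := fun m' n' => rfl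
  have hre : ∀ p, e (r p) = TensorProduct.map fM fN p := by
    intro p
    induction p using TensorProduct.induction_on with
    | zero => simp
    | tmul m n => rw [hr, he]; rfl
    | add x y hx hy => rw [map_add, map_add, hx, hy, map_add]
  have hsmul : ∀ (x : A) (p : M ⊗[A] N), r (x • p) = ρ x • r p := by
    intro x p
    induction p using TensorProduct.induction_on with
    | zero => simp
    | tmul m n =>
      rw [TensorProduct.smul_tmul', hr, hr, hM.smul, TensorProduct.smul_tmul']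
    | add x' y hx hy => rw [smul_add, map_add, hx, hy, map_add, smul_add]
  have hesmul : ∀ (x : A) (t : M' ⊗[A'] N'), e (ρ x • t) = x • e t := by
    intro x t
    rw [map_smul]
    exact algebraMap_smul A' x (e t)
  refine ⟨hM.isLoc, hsmul, ?_, ?_⟩
  · intro p'
    obtain ⟨⟨q, ⟨c, n, rfl⟩⟩, hq⟩ :=
      IsLocalizedModule.surj (Submonoid.powers a) (TensorProduct.map fM fN) (e p')
    refine ⟨n, q, ?_⟩
    apply e.injective
    rw [hre, ← hq, ← map_pow, hesmul]
    rfl
  · intro p hp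
    have h0 : TensorProduct.map fM fN p = TensorProduct.map fM fN 0 := by
      rw [← hre, hp, map_zero, map_zero]
    obtain ⟨⟨c, n, rfl⟩, hc⟩ :=
      IsLocalizedModule.exists_of_eq (S := Submonoid.powers a) (f := TensorProduct.map fM fN) h0
    refine ⟨n, ?_⟩
    have hc' : a ^ n • p = a ^ n • (0 : M ⊗[A] N) := hc
    rw [hc', smul_zero]

end AL2

section AG

variable {A : Type u} [CommRing A] {Q : Type u} [AddCommGroup Q] [Module A Q]

theorem LocData.map_pow_smul {A' : Type u} [CommRing A'] {ρ : A →+* A'} {a : A} {Q' : Type u}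
    [AddCommGroup Q'] [Module A' Q'] {l : Q →+ Q'} (h : LocData ρ a l) (x : A) (k : ℕ) (q : Q) :
    l (x ^ k • q) = ρ x ^ k • l q := by
  rw [h.smul, map_pow]

/-- Gluing elements of a module from compatible elements of its localisations. -/
theorem exists_glue {ι : Type*} [Fintype ι]
    (a : ι → A) (ha : Ideal.span (Set.range a) = ⊤)
    (A' : ι → Type u) [∀ i, CommRing (A' i)] (ρ : ∀ i, A →+* A' i)
    (Q' : ι → Type u) [∀ i, AddCommGroup (Q' i)] [∀ i, Module (A' i) (Q' i)]
    (l : ∀ i, Q →+ Q' i) (hl : ∀ i, LocData (ρ i) (a i) (l i))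
    (p : ∀ i, Q' i)
    (hcompat : ∀ i j (n : ℕ) (qi qj : Q), ρ i (a i) ^ n • p i = l i qi →
        ρ j (a j) ^ n • p j = l j qj →
        ∃ m : ℕ, (a i * a j) ^ m • (a j ^ n • qi - a i ^ n • qj) = 0) :
    ∃ q : Q, ∀ i, l i q = p i := by
  classical
  choose n₀ q₀ hq₀ using fun i => (hl i).surj (p i)
  obtain ⟨n, hn⟩ : ∃ n, n = Finset.univ.sup n₀ := ⟨_, rfl⟩
  have hle : ∀ i, n₀ i ≤ n := fun i => hn ▸ Finset.le_sup (Finset.mem_univ i)
  obtain ⟨q₁, hq₁def⟩ : ∃ q₁ : ι → Q, ∀ i, q₁ i = a i ^ (n - n₀ i) • q₀ i := ⟨_, fun _ => rfl⟩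
  have hq₁ : ∀ i, ρ i (a i) ^ n • p i = l i (q₁ i) := by
    intro i
    rw [hq₁def, LocData.map_pow_smul (hl i), ← hq₀, smul_smul, ← pow_add,
      Nat.sub_add_cancel (hle i)]
  choose m₀ hm₀ using fun i j => hcompat i j n (q₁ i) (q₁ j) (hq₁ i) (hq₁ j)
  obtain ⟨m, hm⟩ : ∃ m, m = Finset.univ.sup (fun ij : ι × ι => m₀ ij.1 ij.2) := ⟨_, rfl⟩
  have hmle : ∀ i j, m₀ i j ≤ m := fun i j =>
    hm ▸ Finset.le_sup (f := fun ij : ι × ι => m₀ ij.1 ij.2) (Finset.mem_univ (i, j))
  have hm' : ∀ i j, (a i * a j) ^ m • (a j ^ n • q₁ i - a i ^ n • q₁ j) = 0 := by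
    intro i j
    rw [← Nat.sub_add_cancel (hmle i j), pow_add, mul_smul, hm₀, smul_zero]
  obtain ⟨q₂, hq₂def⟩ : ∃ q₂ : ι → Q, ∀ i, q₂ i = a i ^ m • q₁ i := ⟨_, fun _ => rfl⟩
  have key : ∀ i j, a j ^ (n + m) • q₂ i = a i ^ (n + m) • q₂ j := by
    intro i j
    have h := hm' i j
    rw [smul_sub, sub_eq_zero, smul_smul, smul_smul] at h
    rw [hq₂def, hq₂def, smul_smul, smul_smul]
    have e1 : a j ^ (n + m) * a i ^ m = (a i * a j) ^ m * a j ^ n := by ring
    have e2 : a i ^ (n + m) * a j ^ m = (a i * a j) ^ m * a i ^ n := by ring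
    rw [e1, e2, h]
  have hspan : Ideal.span (Set.range (fun i => a i ^ (n + m))) = ⊤ := by
    have := Ideal.span_pow_eq_top (Set.range a) ha (n + m)
    rwa [← Set.range_comp] at this
  have h1 : (1 : A) ∈ Ideal.span (Set.range (fun i => a i ^ (n + m))) := by
    rw [hspan]; trivial
  obtain ⟨b, hb⟩ := (Ideal.mem_span_range_iff_exists_fun).mp h1
  refine ⟨∑ i, b i • q₂ i, fun j => ?_⟩
  have hu : IsUnit (ρ j (a j) ^ (n + m)) := (LocData.isUnit_map (hl j)).pow _
  have h2 : a j ^ (n + m) • (∑ i, b i • q₂ i) = q₂ j := by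
    rw [Finset.smul_sum]
    have : ∀ i ∈ Finset.univ, a j ^ (n + m) • b i • q₂ i = (b i * a i ^ (n + m)) • q₂ j := by
      intro i _
      rw [smul_comm, key i j, smul_smul]
    rw [Finset.sum_congr rfl this, ← Finset.sum_smul, hb, one_smul]
  have h3 : ρ j (a j) ^ (n + m) • l j (∑ i, b i • q₂ i) = ρ j (a j) ^ (n + m) • p j := by
    rw [← LocData.map_pow_smul (hl j), h2, hq₂def, LocData.map_pow_smul (hl j), ← hq₁, smul_smul,
      ← pow_add, add_comm]
  obtain ⟨v, hv⟩ := hu
  rw [← hv] at h3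
  have := congrArg (fun z => (↑v⁻¹ : A' j) • z) h3
  simpa [smul_smul] using this

end AG

end TensQCH8
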