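import Mathlib
import Groth.Prelude
import Groth.Agent.Lib.Tens26_helper8
import Groth.Agent.Lib.TensQC1_helper8

/-!
# Sections of the tensor product of quasi-coherent modules over affine opens (helper8)
APPEND-ONLY once landed.
-/

set_option autoImplicit false

namespace TensQCH8

open AlgebraicGeometry CategoryTheory CategoryTheory.Limits TopologicalSpace Opposite TensorProduct
open QcqsLoc MonoidalCategory TensH8 RelFPKit

universe u

variable {X : Scheme.{u}} (F G : X.Modules)

/-- Sections of the presheaf tensor product. -/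
abbrev PU (U : X.Opens) : Type u := ↥((CohB1.tensorPre F G).obj (op U))

noncomputable instance instModPU (U : X.Opens) : Module Γ(X, U) (PU F G U) :=
  ((CohB1.tensorPre F G).obj (op U)).isModule

theorem addHom_ext {U : X.Opens} {B : Type*} [AddCommMonoid B] (f g : PU F G U →+ B)
    (h : ∀ (m : F.val.obj (op U)) (n : G.val.obj (op U)),
      f (m ⊗ₜ n : PU F G U) = g (m ⊗ₜ n : PU F G U)) : f = g := by
  ext p
  refine TensorProduct.induction_on p ?_ h ?_
  · exact (f.map_zero).trans g.map_zero.symm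
  · intro x y hx hy
    exact (f.map_add x y).trans ((congrArg₂ (· + ·) hx hy).trans (g.map_add x y).symm)

theorem resPre_resPre {U V W : X.Opens} (h₁ : V ≤ U) (h₂ : W ≤ V) (p : PU F G U) :
    resPre F G h₂ (resPre F G h₁ p) = resPre F G (h₂.trans h₁) p := by
  refine DFunLike.congr_fun (addHom_ext F G ((resPre F G h₂).comp (resPre F G h₁))
    (resPre F G (h₂.trans h₁)) (fun m n => ?_)) p
  show resPre F G h₂ (resPre F G h₁ (m ⊗ₜ n)) = resPre F G (h₂.trans h₁) (m ⊗ₜ n)
  rw [resPre_tmul, resPre_tmul, resPre_tmul, rF_rF, rF_rF]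

theorem locData_resPre {U V : X.Opens} (h : V ≤ U) (a : Γ(X, U))
    (hF : LocData (rX h) a (rF F h)) (hG : LocData (rX h) a (rF G h)) :
    LocData (M := PU F G U) (M' := PU F G V) (rX h) a (resPre F G h) :=
  locData_tensor hF hG (resPre F G h) (fun m n => rfl)

theorem resPre_smul {U V : X.Opens} (h : V ≤ U) (r : Γ(X, U)) (p : PU F G U) :
    resPre F G h (r • p) = rX h r • resPre F G h p := by
  refine DFunLike.congr_fun (addHom_ext F G
    ((resPre F G h).comp (DistribSMul.toAddMonoidHom (PU F G U) r))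
    ((DistribSMul.toAddMonoidHom (PU F G V) (rX h r)).comp (resPre F G h))
    (fun m n => ?_)) p
  show resPre F G h (r • (show PU F G U from m ⊗ₜ n)) = rX h r • resPre F G h (m ⊗ₜ n)
  have e1 : r • (show PU F G U from m ⊗ₜ n) =
      (((r • (m : Γ(F, U)) : Γ(F, U)) : F.val.obj (op U)) ⊗ₜ n : PU F G U) := rfl
  rw [e1, resPre_tmul, resPre_tmul]
  have e2 : rX h r • (show PU F G V from
      ((rF F h m : F.val.obj (op V)) ⊗ₜ (rF G h n : G.val.obj (op V)))) =
      (((rX h r • rF F h m : Γ(F, V)) : F.val.obj (op V)) ⊗ₜ (rF G h n : G.val.obj (op V)) :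
        PU F G V) := rfl
  rw [e2, ← rF_smul]
  rfl

theorem eta_smul (U : X.Opens) (r : Γ(X, U)) (p : PU F G U) :
    (eta F G U (r • p) : Γ(CohB1.tensorMod F G, U)) =
      r • (eta F G U p : Γ(CohB1.tensorMod F G, U)) :=
  (((SecTwist.toTensor F G).app (op U)).hom).map_smul r p

theorem eta_res' {U V : X.Opens} (h : V ≤ U) (p : PU F G U) :
    rF (CohB1.tensorMod F G) h (eta F G U p : Γ(CohB1.tensorMod F G, U)) =
      (eta F G V (resPre F G h p) : Γ(CohB1.tensorMod F G, V)) :=
  eta_res F G h p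

section Main

variable (hF : ∀ U : X.affineOpens, QCohCrit.LocOnU F (U : X.Opens))
  (hG : ∀ U : X.affineOpens, QCohCrit.LocOnU G (U : X.Opens))

include hF hG in
theorem locData_resPre_basicOpen {U : X.Opens} (hU : IsAffineOpen U) (a : Γ(X, U)) :
    LocData (M := PU F G U) (M' := PU F G (X.basicOpen a)) (rX (X.basicOpen_le a)) a
      (resPre F G (X.basicOpen_le a)) :=
  locData_resPre F G (X.basicOpen_le a) a (hF ⟨U, hU⟩ a) (hG ⟨U, hU⟩ a)

include hF hG in
/-- On an affine open, the map `F(U) ⊗ G(U) → (F ⊗ G)(U)` is injective. -/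
theorem eta_injective {U : X.Opens} (hU : IsAffineOpen U) : Function.Injective (eta F G U) := by
  rw [injective_iff_map_eq_zero]
  intro d hd
  have key : ∀ x ∈ U, ∃ a : Γ(X, U), x ∈ X.basicOpen a ∧ ∃ n : ℕ, a ^ n • d = 0 := by
    intro x hx
    obtain ⟨V, hV, hxV, hres⟩ := eta_locally_injective F G d 0 (by rw [hd, map_zero]) x hx
    obtain ⟨a, ha, hxa⟩ := hU.exists_basicOpen_le ⟨x, hxV⟩ hx
    refine ⟨a, hxa, (locData_resPre_basicOpen F G hF hG hU a).ker d ?_⟩
    rw [← resPre_resPre F G hV ha, hres, map_zero, map_zero]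
  by_contra hne
  have hI : Ideal.torsionOf Γ(X, U) (PU F G U) d ≠ ⊤ := by
    intro htop
    apply hne
    have h1 : (1 : Γ(X, U)) ∈ Ideal.torsionOf Γ(X, U) (PU F G U) d := by rw [htop]; trivial
    rw [Ideal.mem_torsionOf_iff, one_smul] at h1
    exact h1
  obtain ⟨m, hm, hIm⟩ := Ideal.exists_le_maximal _ hI
  have hmem : hU.fromSpec ⟨m, hm.isPrime⟩ ∈ U := by
    have : hU.fromSpec ⟨m, hm.isPrime⟩ ∈ Set.range hU.fromSpec := ⟨_, rfl⟩
    rw [hU.range_fromSpec] at this
    exact this
  obtain ⟨a, hxa, n, hn⟩ := key _ hmem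
  have h2 : (⟨m, hm.isPrime⟩ : PrimeSpectrum Γ(X, U)) ∈ hU.fromSpec ⁻¹ᵁ X.basicOpen a := hxa
  rw [hU.fromSpec_preimage_basicOpen] at h2
  apply h2
  have h3 : a ^ n ∈ m := hIm ((Ideal.mem_torsionOf_iff _ _).mpr hn)
  exact hm.isPrime.mem_of_pow_mem n h3

end Main

section Main2

variable (hF : ∀ U : X.affineOpens, QCohCrit.LocOnU F (U : X.Opens))
  (hG : ∀ U : X.affineOpens, QCohCrit.LocOnU G (U : X.Opens))

include hF hG in
/-- On an affine open, the map `F(U) ⊗ G(U) → (F ⊗ G)(U)` is surjective. -/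
theorem eta_surjective {U : X.Opens} (hU : IsAffineOpen U) : Function.Surjective (eta F G U) := by
  classical
  intro y
  have key : ∀ x : U, ∃ a : Γ(X, U), x.1 ∈ X.basicOpen a ∧ ∃ p : PU F G (X.basicOpen a),
      (eta F G _ p : Γ(CohB1.tensorMod F G, X.basicOpen a)) =
        rF (CohB1.tensorMod F G) (X.basicOpen_le a) y := by
    rintro ⟨x, hx⟩
    obtain ⟨V, hV, hxV, p, hp⟩ := eta_locally_surjective F G y x hx
    obtain ⟨a, ha, hxa⟩ := hU.exists_basicOpen_le ⟨x, hxV⟩ hx
    refine ⟨a, hxa, resPre F G ha p, ?_⟩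
    have hp' : (eta F G V p : Γ(CohB1.tensorMod F G, V)) = rF (CohB1.tensorMod F G) hV y := hp
    rw [← eta_res', hp', rF_rF]
  choose a hxa p hp using key
  have hspan : Ideal.span (Set.range a) = ⊤ := by
    rw [← hU.self_le_iSup_basicOpen_iff]
    intro x hx
    rw [Opens.mem_iSup]
    exact ⟨⟨a ⟨x, hx⟩, ⟨_, rfl⟩⟩, hxa ⟨x, hx⟩⟩
  obtain ⟨s', hs', hspan'⟩ := (Ideal.span_eq_top_iff_finite _).mp hspan
  have hx' : ∀ c : s', ∃ x : U, a x = c.1 := fun c => hs' c.2
  choose xc hxc using hx'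
  have hspanb : Ideal.span (Set.range (fun c : s' => a (xc c))) = ⊤ := by
    have : (fun c : s' => a (xc c)) = Subtype.val := funext hxc
    rw [this, Subtype.range_coe]
    exact hspan'
  suffices h : ∃ q : PU F G U, ∀ c : s', resPre F G (X.basicOpen_le (a (xc c))) q = p (xc c) by
    obtain ⟨q, hq⟩ := h
    refine ⟨q, ?_⟩
    apply eq_of_cover (CohB1.tensorMod F G)
    intro x hx
    have hcov : U ≤ ⨆ f : (Set.range (fun c : s' => a (xc c))), X.basicOpen f.1 :=
      hU.self_le_iSup_basicOpen_iff.mpr hspanb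
    obtain ⟨⟨_, c, rfl⟩, hxc'⟩ := Opens.mem_iSup.mp (hcov hx)
    refine ⟨X.basicOpen (a (xc c)), X.basicOpen_le _, hxc', ?_⟩
    rw [eta_res', hq c, hp]
  refine exists_glue (Q := PU F G U) (fun c : s' => a (xc c)) hspanb
    (fun c => Γ(X, X.basicOpen (a (xc c)))) (fun c => rX (X.basicOpen_le _))
    (fun c => PU F G (X.basicOpen (a (xc c)))) (fun c => resPre F G (X.basicOpen_le _))
    (fun c => locData_resPre_basicOpen F G hF hG hU _) (fun c => p (xc c)) ?_
  · intro i j n qi qj hi hj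
    have hW : IsAffineOpen (X.basicOpen (a (xc i) * a (xc j))) := hU.basicOpen _
    have hWi : X.basicOpen (a (xc i) * a (xc j)) ≤ X.basicOpen (a (xc i)) := by
      rw [Scheme.basicOpen_mul]; exact inf_le_left
    have hWj : X.basicOpen (a (xc i) * a (xc j)) ≤ X.basicOpen (a (xc j)) := by
      rw [Scheme.basicOpen_mul]; exact inf_le_right
    have hWU : X.basicOpen (a (xc i) * a (xc j)) ≤ U := X.basicOpen_le _
    have hpp : resPre F G hWi (p (xc i)) = resPre F G hWj (p (xc j)) := by
      apply eta_injective F G hF hG hW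
      have e1 := eta_res' F G hWi (p (xc i))
      have e2 := eta_res' F G hWj (p (xc j))
      rw [hp, rF_rF] at e1 e2
      exact e1.symm.trans e2
    refine (locData_resPre_basicOpen F G hF hG hU (a (xc i) * a (xc j))).ker _ ?_
    have e1 : resPre F G hWU qi = rX hWU (a (xc i)) ^ n • resPre F G hWi (p (xc i)) := by
      rw [← resPre_resPre F G (X.basicOpen_le _) hWi, ← hi, ← map_pow, resPre_smul, rX_rX,
        map_pow]
    have e2 : resPre F G hWU qj = rX hWU (a (xc j)) ^ n • resPre F G hWj (p (xc j)) := by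
      rw [← resPre_resPre F G (X.basicOpen_le _) hWj, ← hj, ← map_pow, resPre_smul, rX_rX,
        map_pow]
    rw [map_sub, sub_eq_zero, resPre_smul, resPre_smul, e1, e2, hpp, map_pow, map_pow, smul_comm]

end Main2

section QC

variable (hF : ∀ U : X.affineOpens, QCohCrit.LocOnU F (U : X.Opens))
  (hG : ∀ U : X.affineOpens, QCohCrit.LocOnU G (U : X.Opens))

include hF hG in
theorem locOnU_tensorMod_of_locOnU {U : X.Opens} (hU : IsAffineOpen U) :
    QCohCrit.LocOnU (CohB1.tensorMod F G) U := by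
  intro a
  have L := locData_resPre_basicOpen F G hF hG hU a
  have hD : X.basicOpen a ≤ U := X.basicOpen_le a
  refine ⟨L.isLoc, fun x m => Scheme.Modules.map_smul _ _ x m, ?_, ?_⟩
  · intro t'
    obtain ⟨p', rfl⟩ := eta_surjective F G hF hG (hU.basicOpen a) t'
    obtain ⟨n, q, hq⟩ := L.surj p'
    refine ⟨n, eta F G U q, ?_⟩
    have h1 := eta_res' F G hD q
    have h2 := eta_smul F G (X.basicOpen a) (rX hD a ^ n) p'
    exact h2.symm.trans ((congrArg (eta F G (X.basicOpen a)) hq).trans h1.symm)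
  · intro t ht
    obtain ⟨q, rfl⟩ := eta_surjective F G hF hG hU t
    have h1 := eta_res' F G hD q
    have h0 : resPre F G hD q = 0 := by
      apply eta_injective F G hF hG (hU.basicOpen a)
      rw [map_zero]
      exact h1.symm.trans ht
    obtain ⟨n, hn⟩ := L.ker q h0
    refine ⟨n, ?_⟩
    have h2 := eta_smul F G U (a ^ n) q
    rw [hn, map_zero] at h2
    exact h2.symm

end QC

/-- The tensor product of quasi-coherent modules is quasi-coherent. -/
theorem isQuasicoherent_tensorMod [F.IsQuasicoherent] [G.IsQuasicoherent] :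
    (CohB1.tensorMod F G).IsQuasicoherent :=
  QCohCrit.isQuasicoherent_of_locOnU _ (fun U =>
    locOnU_tensorMod_of_locOnU F G
      (fun V => QCohCrit.locOnU_of_isQuasicoherent F V.2)
      (fun V => QCohCrit.locOnU_of_isQuasicoherent G V.2) U.2)

/-- For quasi-coherent `F`, `G` and an affine open `U`, `F(U) ⊗ G(U) → (F ⊗ G)(U)` is bijective. -/
theorem eta_bijective [F.IsQuasicoherent] [G.IsQuasicoherent] {U : X.Opens} (hU : IsAffineOpen U) :
    Function.Bijective (eta F G U) :=
  ⟨eta_injective F G (fun V => QCohCrit.locOnU_of_isQuasicoherent F V.2)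
      (fun V => QCohCrit.locOnU_of_isQuasicoherent G V.2) hU,
    eta_surjective F G (fun V => QCohCrit.locOnU_of_isQuasicoherent F V.2)
      (fun V => QCohCrit.locOnU_of_isQuasicoherent G V.2) hU⟩

end TensQCH8
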