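import Mathlib
import Groth.Prelude
import Groth.Agent.Lib.TensQC2_helper8
import Groth.Agent.Lib.QCohFT_helper9

/-!
# Tensor products of quasi-coherent modules of finite type (helper8)
APPEND-ONLY once landed.
-/

set_option autoImplicit false

namespace TensQCH8

open AlgebraicGeometry CategoryTheory CategoryTheory.Limits TopologicalSpace Opposite TensorProduct
open QcqsLoc MonoidalCategory TensH8 RelFPKit

universe u

variable {X : Scheme.{u}} (F G : X.Modules)

/-- `eta` as a linear map. -/
noncomputable def etaLin (U : X.Opens) : PU F G U →ₗ[Γ(X, U)] Γ(CohB1.tensorMod F G, U) where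
  toFun := eta F G U
  map_add' := (eta F G U).map_add
  map_smul' := eta_smul F G U

theorem finite_PU (U : X.Opens) [h1 : Module.Finite Γ(X, U) Γ(F, U)]
    [h2 : Module.Finite Γ(X, U) Γ(G, U)] : Module.Finite Γ(X, U) (PU F G U) :=
  inferInstanceAs (Module.Finite Γ(X, U) (Γ(F, U) ⊗[Γ(X, U)] Γ(G, U)))

theorem finite_sections_tensorMod [F.IsQuasicoherent] [G.IsQuasicoherent] {U : X.Opens}
    (hU : IsAffineOpen U) [Module.Finite Γ(X, U) Γ(F, U)] [Module.Finite Γ(X, U) Γ(G, U)] :
    Module.Finite Γ(X, U) Γ(CohB1.tensorMod F G, U) := by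
  haveI := finite_PU F G U
  exact Module.Finite.of_surjective (etaLin F G U) (eta_bijective F G hU).2

/-- The tensor product of quasi-coherent modules of finite type is of finite type. -/
theorem isFiniteType_tensorMod [F.IsQuasicoherent] [G.IsQuasicoherent]
    (hF : SheafOfModules.IsFiniteType (R := X.ringCatSheaf) F)
    (hG : SheafOfModules.IsFiniteType (R := X.ringCatSheaf) G) :
    SheafOfModules.IsFiniteType (R := X.ringCatSheaf) (CohB1.tensorMod F G) := by
  haveI := isQuasicoherent_tensorMod F G
  refine QCohCrit.isFiniteType_of_sections_cover (CohB1.tensorMod F G)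
    (fun U : X.affineOpens => (U : X.Opens)) (fun U => U.2) (iSup_affineOpens_eq_top X) (fun U => ?_)
  haveI := QCohFT.finite_of_isFiniteType F U.2
  haveI := QCohFT.finite_of_isFiniteType G U.2
  exact finite_sections_tensorMod F G U.2

end TensQCH8
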