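import Mathlib
import Groth.Prelude
import Groth.Agent.Lib.ProjTwAmple_helper5
import Groth.Agent.Lib.FinGG_helper5
import Groth.Agent.Lib.TensQC3_helper8

/-!
# Serre's theorem on `Proj` of a ring generated by finitely many degree-one elements (helper5)
-/

set_option autoImplicit false
universe u
open CategoryTheory CategoryTheory.Limits AlgebraicGeometry TopologicalSpace Opposite

namespace Groth.Agent.ProjTw

/-- A quasi-coherent module with local generators on affine opens is of finite type. -/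
theorem isFiniteType_of_gens {X : Scheme.{u}} {M : X.Modules} [M.IsQuasicoherent]
    (h : ∀ x : X, ∃ W : X.Opens, IsAffineOpen W ∧ x ∈ W ∧ ∃ g : Γ(M, W), GenLocH8.IsGen M W g) :
    SheafOfModules.IsFiniteType (R := X.ringCatSheaf) M := by
  choose W hW hxW g hg using h
  refine QCohCrit.isFiniteType_of_sections_cover M W hW ?_ (fun x => ?_)
  · rw [eq_top_iff]
    intro x _
    exact Opens.mem_iSup.mpr ⟨x, hxW x⟩
  · refine Module.Finite.of_surjective (LinearMap.toSpanSingleton Γ(X, W x) Γ(M, W x) (g x)) ?_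
    intro m
    obtain ⟨c, hc⟩ := (hg x).exists_coef m
    exact ⟨c, hc.symm⟩

section
variable {R A : Type u} [CommRing R] [CommRing A] [Algebra R A] (𝒜 : ℕ → Submodule R A)
  [GradedAlgebra 𝒜]

theorem isFiniteType_twist (hcov : ∀ x : Proj 𝒜, ∃ f ∈ 𝒜 1, x ∈ Proj.basicOpen 𝒜 f) (n : ℤ) :
    SheafOfModules.IsFiniteType (R := (Proj 𝒜).ringCatSheaf) (Twist.twist 𝒜 n) := by
  apply isFiniteType_of_gens
  intro x
  obtain ⟨f, hf, hx⟩ := hcov x
  exact ⟨Proj.basicOpen 𝒜 f, Proj.isAffineOpen_basicOpen 𝒜 f hf one_pos, hx, _,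
    isGen_genSecK 𝒜 one_pos hf n n (by simp)⟩

/-- **Serre**: for `n` large, `F(n)` is generated by finitely many global sections. -/
theorem exists_finite_locSpan_twistBy (s : Finset A) (hs1 : ∀ f ∈ s, f ∈ 𝒜 1)
    (hcov : ∀ x : Proj 𝒜, ∃ f ∈ s, x ∈ Proj.basicOpen 𝒜 f)
    (F : (Proj 𝒜).Modules) (hF : Coh.IsQCoh F) (hFT : CohB1.IsFT F) :
    ∃ n₀ : ℕ, ∀ n : ℕ, n₀ ≤ n → ∃ (k : ℕ) (g : Fin k → Γ(Twist.twistBy 𝒜 F (n : ℤ), ⊤)),
      ∀ (W : (Proj 𝒜).Opens) (t : Γ(Twist.twistBy 𝒜 F (n : ℤ), W)),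
        GGH8.LocSpan (Twist.twistBy 𝒜 F (n : ℤ)) g W t := by
  have hcov' : ∀ x : Proj 𝒜, ∃ f ∈ 𝒜 1, x ∈ Proj.basicOpen 𝒜 f := fun x => by
    obtain ⟨f, hf, hx⟩ := hcov x
    exact ⟨f, hs1 f hf, hx⟩
  have hamp := isAmple_twist_one 𝒜 s hs1 hcov
  haveI : CompactSpace (Proj 𝒜) := hamp.2.1
  obtain ⟨n₀, hn₀⟩ := TensH8.exists_isGloballyGenerated_twist hamp F ⟨hF, hFT⟩
  refine ⟨n₀, fun n hn => ?_⟩
  obtain ⟨ι, p, hp⟩ := hn₀ n hn
  obtain ⟨α⟩ := tensorPow_iso 𝒜 hcov' n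
  haveI : F.IsQuasicoherent := hF
  haveI : (CohB1.tensorMod F (Twist.twist 𝒜 (n : ℤ))).IsQuasicoherent :=
    TensQCH8.isQuasicoherent_tensorMod F _
  haveI : SheafOfModules.IsFiniteType (R := (Proj 𝒜).ringCatSheaf)
      (CohB1.tensorMod F (Twist.twist 𝒜 (n : ℤ))) :=
    TensQCH8.isFiniteType_tensorMod F _ hFT (isFiniteType_twist 𝒜 hcov' n)
  have hgg : Curv2.IsGloballyGenerated (CohB1.tensorMod F (Twist.twist 𝒜 (n : ℤ))) :=
    ⟨ι, p ≫ (PicGrp.tensorModIso (Iso.refl F) α).hom, epi_comp _ _⟩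
  exact Groth.Agent.FinGG.exists_finite_locSpan (CohB1.tensorMod F (Twist.twist 𝒜 (n : ℤ))) hgg

theorem exists_epi_twistBy (s : Finset A) (hs1 : ∀ f ∈ s, f ∈ 𝒜 1)
    (hcov : ∀ x : Proj 𝒜, ∃ f ∈ s, x ∈ Proj.basicOpen 𝒜 f)
    (F : (Proj 𝒜).Modules) (hF : Coh.IsQCoh F) (hFT : CohB1.IsFT F) :
    ∃ n₀ : ℕ, ∀ n : ℕ, n₀ ≤ n →
      ∃ (k : ℕ) (p : FlatMod.freeMod (Proj 𝒜) k ⟶ Twist.twistBy 𝒜 F (n : ℤ)), Epi p := by
  obtain ⟨n₀, hn₀⟩ := exists_finite_locSpan_twistBy 𝒜 s hs1 hcov F hF hFT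
  refine ⟨n₀, fun n hn => ?_⟩
  obtain ⟨k, g, hloc⟩ := hn₀ n hn
  exact ⟨k, Groth.Agent.FinGG.secMap _ g, Groth.Agent.FinGG.epi_secMap _ g hloc⟩

/-- The finite cover by degree-one standard opens from generation of the irrelevant ideal. -/
theorem cover_of_span (s : Finset A)
    (hs : (HomogeneousIdeal.irrelevant 𝒜).toIdeal = Ideal.span (s : Set A)) (x : Proj 𝒜) :
    ∃ f ∈ s, x ∈ Proj.basicOpen 𝒜 f := by
  by_contra hcon
  push Not at hcon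
  have hx : ∀ f ∈ s, f ∈ (x : ProjectiveSpectrum 𝒜).asHomogeneousIdeal := by
    intro f hf
    by_contra hfx
    exact hcon f hf hfx
  apply (x : ProjectiveSpectrum 𝒜).not_irrelevant_le
  intro a ha
  have ha' : a ∈ (HomogeneousIdeal.irrelevant 𝒜).toIdeal := ha
  rw [hs] at ha'
  exact (Ideal.span_le.mpr (fun f hf => hx f hf)) ha'

end

end Groth.Agent.ProjTw
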