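import Mathlib
import Groth.Prelude
import Groth.Agent.Lib.FinGG_helper5
import Groth.Agent.Lib.Tens5_helper8

/-!
# Untwisting a finite generation statement (helper5)

If `N` is locally spanned by finitely many global sections `g j`, `M` is invertible and
`N ⊗ M ≅ F`, then `F` is a quotient of a finite coproduct of copies of `M`.
-/

set_option autoImplicit false
universe u
open CategoryTheory CategoryTheory.Limits AlgebraicGeometry TopologicalSpace Opposite
open QcqsLoc QCohExtn GGH8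

namespace Groth.Agent.FinGG

variable {X : Scheme.{u}}

/-- A morphism of modules from sectionwise data. -/
noncomputable def homOfSections {M P : X.Modules} (φ : ∀ U : X.Opens, Γ(M, U) →+ Γ(P, U))
    (hsmul : ∀ (U : X.Opens) (r : Γ(X, U)) (m : Γ(M, U)), φ U (r • m) = r • φ U m)
    (hnat : ∀ {U V : X.Opens} (h : V ≤ U) (m : Γ(M, U)), rF P h (φ U m) = φ V (rF M h m)) :
    M ⟶ P :=
  ⟨PresheafOfModules.homMk
    { app := fun U => AddCommGrpCat.ofHom (φ U.unop)
      naturality := by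
        intro U V f
        ext m
        exact (hnat (leOfHom f.unop) m).symm }
    (fun U r m => hsmul U.unop r m)⟩

theorem ap_homOfSections {M P : X.Modules} (φ : ∀ U : X.Opens, Γ(M, U) →+ Γ(P, U))
    (hsmul : ∀ (U : X.Opens) (r : Γ(X, U)) (m : Γ(M, U)), φ U (r • m) = r • φ U m)
    (hnat : ∀ {U V : X.Opens} (h : V ≤ U) (m : Γ(M, U)), rF P h (φ U m) = φ V (rF M h m))
    (U : X.Opens) (m : Γ(M, U)) : ap (homOfSections φ hsmul hnat) U m = φ U m := rfl

/-- `s ↦ g ⊗ s`, for a global section `g` of `N`. -/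
noncomputable def tmulLeft (N M : X.Modules) (g : Γ(N, ⊤)) : M ⟶ CohB1.tensorMod N M :=
  homOfSections
    (fun U => AddMonoidHom.mk' (fun s => SecTwist.tmul N M U (rF N (le_top : U ≤ ⊤) g) s)
      (fun s s' => TensH8.tmul_add_right N M U _ s s'))
    (fun U r m => TensH8.tmul_smul_right N M U r _ m)
    (fun h m => by
      show rF (CohB1.tensorMod N M) h (SecTwist.tmul N M _ _ m) = SecTwist.tmul N M _ _ _
      rw [TensH8.rF_tmul, rF_rF])

theorem ap_tmulLeft (N M : X.Modules) (g : Γ(N, ⊤)) (U : X.Opens) (s : Γ(M, U)) :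
    ap (tmulLeft N M g) U s = SecTwist.tmul N M U (rF N (le_top : U ≤ ⊤) g) s := rfl

/-- The morphism `M^k ⟶ F` attached to `k` global sections of `N` and `N ⊗ M ≅ F`. -/
noncomputable def untwistMap {N M F : X.Modules} (Φ : CohB1.tensorMod N M ≅ F) {k : ℕ}
    (g : Fin k → Γ(N, ⊤)) : (∐ fun _ : Fin k => M) ⟶ F :=
  Sigma.desc (fun j : Fin k => tmulLeft N M (g j) ≫ Φ.hom)

theorem ap_untwistMap_ι {N M F : X.Modules} (Φ : CohB1.tensorMod N M ≅ F) {k : ℕ}
    (g : Fin k → Γ(N, ⊤)) (j : Fin k) (W : X.Opens) (s : Γ(M, W)) :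
    ap (untwistMap Φ g) W (ap (Sigma.ι (fun _ : Fin k => M) j) W s) =
      ap Φ.hom W (SecTwist.tmul N M W (rF N (le_top : W ≤ ⊤) (g j)) s) := by
  have h1 := congrArg (fun φ => ap φ W s)
    (Sigma.ι_desc (fun j : Fin k => tmulLeft N M (g j) ≫ Φ.hom) j)
  exact h1

/-- **Untwisting**: if `N` is locally spanned by the `g j`, `M` is invertible and `N ⊗ M ≅ F`,
then `M^k ⟶ F` is an epimorphism. -/
theorem epi_untwistMap {N M F : X.Modules} (hM : PicF.IsInvertible M)
    (Φ : CohB1.tensorMod N M ≅ F) {k : ℕ} (g : Fin k → Γ(N, ⊤))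
    (hloc : ∀ (W : X.Opens) (s : Γ(N, W)), LocSpan N g W s) : Epi (untwistMap Φ g) := by
  apply TensH8.epi_of_locally_surjective
  intro U m x hx
  obtain ⟨W, -, hxW, e, he⟩ := GenLocH8.exists_isGen hM x
  have hOW : U ⊓ W ≤ W := inf_le_right
  have hOU : U ⊓ W ≤ U := inf_le_left
  obtain ⟨t, ht⟩ := TensH8.tmulGen_surjective N M he hOW
    (rF (CohB1.tensorMod N M) hOU (ap Φ.inv U m))
  obtain ⟨O', hO', hxO', hmem⟩ := hloc (U ⊓ W) t x ⟨hx, hxW⟩
  refine ⟨O', hO'.trans hOU, hxO', ?_⟩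
  let e' : Γ(M, O') := rF M (hO'.trans hOW) e
  let lin : Γ(∐ fun _ : Fin k => M, O') →ₗ[Γ(X, O')] Γ(F, O') :=
    { toFun := ap (untwistMap Φ g) O'
      map_add' := map_add _
      map_smul' := fun r z => ap_smul (untwistMap Φ g) r z }
  let ψ : Γ(N, O') →ₗ[Γ(X, O')] Γ(F, O') :=
    { toFun := fun t' => ap Φ.hom O' (SecTwist.tmul N M O' t' e')
      map_add' := fun a b =>
        (congrArg (ap Φ.hom O') (TensH8.tmul_add_left N M O' a b e')).trans (map_add _ _ _)
      map_smul' := fun r a =>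
        (congrArg (ap Φ.hom O') (TensH8.tmul_smul_left N M O' r a e')).trans
          (ap_smul Φ.hom r _) }
  have hle : spanAt N g O' ≤ (LinearMap.range lin).comap ψ := by
    unfold spanAt
    rw [Submodule.span_le]
    rintro _ ⟨j, rfl⟩
    exact ⟨_, ap_untwistMap_ι Φ g j O' e'⟩
  obtain ⟨z, hz⟩ := hle hmem
  refine ⟨z, ?_⟩
  have hz' : ap (untwistMap Φ g) O' z =
      ap Φ.hom O' (SecTwist.tmul N M O' (rF N hO' t) e') := hz
  rw [hz']
  have h1 : SecTwist.tmul N M O' (rF N hO' t) e' =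
      rF (CohB1.tensorMod N M) (hO'.trans hOU) (ap Φ.inv U m) := by
    have := congrArg (rF (CohB1.tensorMod N M) hO') ht
    rw [TensH8.rF_tmul, rF_rF, rF_rF] at this
    exact this
  rw [h1, ap_rF]
  have h2 : ap Φ.hom U (ap Φ.inv U m) = m := TensH8.ap_hom_inv Φ U m
  rw [h2]

end Groth.Agent.FinGG
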