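import Mathlib
import Groth.Prelude
import Groth.Agent.Lib.ProjSerre_helper5
import Groth.Agent.Lib.TwistEpi_helper5
import Groth.Agent.Lib.TensorAssoc_helper2

/-!
# Serre's theorem on `Proj`, untwisted form: `F` is a quotient of `O(-n)^k` (helper5)
-/

set_option autoImplicit false
universe u
open CategoryTheory CategoryTheory.Limits AlgebraicGeometry TopologicalSpace Opposite

namespace Groth.Agent.ProjTw

section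
variable {R A : Type u} [CommRing R] [CommRing A] [Algebra R A] (𝒜 : ℕ → Submodule R A)
  [GradedAlgebra 𝒜]

/-- `(F ⊗ O(n)) ⊗ O(-n) ≅ F`. -/
theorem exists_untwistIso (hcov : ∀ x : Proj 𝒜, ∃ f ∈ 𝒜 1, x ∈ Proj.basicOpen 𝒜 f)
    (F : (Proj 𝒜).Modules) (n : ℤ) :
    Nonempty (CohB1.tensorMod (CohB1.tensorMod F (Twist.twist 𝒜 n)) (Twist.twist 𝒜 (-n)) ≅ F) := by
  haveI := isIso_mulHom 𝒜 hcov n (-n)
  haveI := isIso_unitToTwist0 𝒜 hcov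
  have α : CohB1.tensorMod (Twist.twist 𝒜 n) (Twist.twist 𝒜 (-n)) ≅ Twist.twist 𝒜 (n + -n) :=
    asIso (mulHom 𝒜 n (-n))
  have β : Twist.twist 𝒜 (n + -n) ≅ Twist.twist 𝒜 0 :=
    eqToIso (congrArg (Twist.twist 𝒜) (add_neg_cancel n))
  have γ : Coh.structureModule (Proj 𝒜) ≅ Twist.twist 𝒜 0 := asIso (unitToTwist0 𝒜)
  exact ⟨Groth.Agent.Lib.TensorAssoc.assocIso (Proj 𝒜).sheaf F (Twist.twist 𝒜 n)
      (Twist.twist 𝒜 (-n)) ≪≫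
    PicGrp.tensorModIso (Iso.refl F) (α ≪≫ β ≪≫ γ.symm) ≪≫ SecTwist.unitorR F⟩

/-- **Serre, untwisted form.** -/
theorem exists_epi_coprod_twist (s : Finset A) (hs1 : ∀ f ∈ s, f ∈ 𝒜 1)
    (hcov : ∀ x : Proj 𝒜, ∃ f ∈ s, x ∈ Proj.basicOpen 𝒜 f)
    (F : (Proj 𝒜).Modules) (hF : Coh.IsQCoh F) (hFT : CohB1.IsFT F) :
    ∃ n₀ : ℕ, ∀ n : ℕ, n₀ ≤ n →
      ∃ (k : ℕ) (p : (∐ fun _ : Fin k => Twist.twist 𝒜 (-(n : ℤ))) ⟶ F), Epi p := by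
  have hcov' : ∀ x : Proj 𝒜, ∃ f ∈ 𝒜 1, x ∈ Proj.basicOpen 𝒜 f := fun x => by
    obtain ⟨f, hf, hx⟩ := hcov x
    exact ⟨f, hs1 f hf, hx⟩
  obtain ⟨n₀, hn₀⟩ := exists_finite_locSpan_twistBy 𝒜 s hs1 hcov F hF hFT
  refine ⟨n₀, fun n hn => ?_⟩
  obtain ⟨k, g, hloc⟩ := hn₀ n hn
  obtain ⟨Φ⟩ := exists_untwistIso 𝒜 hcov' F (n : ℤ)
  exact ⟨k, Groth.Agent.FinGG.untwistMap Φ g,
    Groth.Agent.FinGG.epi_untwistMap (isInvertible_twist 𝒜 hcov' (-(n : ℤ))) Φ g hloc⟩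

end

end Groth.Agent.ProjTw
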