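import Mathlib
import Groth.Prelude.Def_CohB1
import Groth.Agent.Lib.AffVanish2_helper9

/-!
# Cohomology of quasi-coherent modules on projective space vanishes above the dimension
-/

universe u

open CategoryTheory CategoryTheory.Limits AlgebraicGeometry Opposite TopologicalSpace

namespace AffVanish

open CohB1

variable (n : ℕ) (R : Type u) [CommRing R]

theorem adjoin_range_X :
    Algebra.adjoin (polyGrading n R 0)
      (Set.range (MvPolynomial.X : Fin (n + 1) → MvPolynomial (Fin (n + 1)) R)) = ⊤ := by
  rw [eq_top_iff]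
  rintro p -
  induction p using MvPolynomial.induction_on with
  | C a =>
    have : (MvPolynomial.C a : MvPolynomial (Fin (n + 1)) R) =
        algebraMap (polyGrading n R 0) _ (algebraMap R (polyGrading n R 0) a) := rfl
    rw [this]
    exact Subalgebra.algebraMap_mem _ _
  | add p q hp hq => exact add_mem hp hq
  | mul_X p i hp => exact mul_mem hp (Algebra.subset_adjoin ⟨i, rfl⟩)

theorem X_mem (i : Fin (n + 1)) :
    (MvPolynomial.X i : MvPolynomial (Fin (n + 1)) R) ∈ polyGrading n R 1 :=
  MvPolynomial.isHomogeneous_X R i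

/-- The standard open cover of projective space. -/
noncomputable def stdOpen (i : Fin (n + 1)) : (ProjSpace n R).Opens :=
  Proj.basicOpen (polyGrading n R) (MvPolynomial.X i)

theorem isAffineOpen_stdOpen (i : Fin (n + 1)) : IsAffineOpen (stdOpen n R i) :=
  Proj.isAffineOpen_basicOpen (polyGrading n R) (MvPolynomial.X i) (X_mem n R i) one_pos

theorem iSup_stdOpen : ⨆ i, stdOpen n R i = ⊤ :=
  Proj.iSup_basicOpen_eq_top' (polyGrading n R)
    (fun i : Fin (n + 1) => (MvPolynomial.X i : MvPolynomial (Fin (n + 1)) R))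
    (fun i => ⟨1, X_mem n R i⟩) (adjoin_range_X n R)

theorem isAffineOpen_inf_projSpace (V W : (ProjSpace n R).Opens) (hV : IsAffineOpen V)
    (hW : IsAffineOpen W) : IsAffineOpen (V ⊓ W) := by
  haveI : Scheme.IsSeparated (ProjSpace n R) :=
    inferInstanceAs (Scheme.IsSeparated (Proj (polyGrading n R)))
  exact hV.inf hW

/-- `H^i(P^n_R, M) = 0` for `i > n` and `M` quasi-coherent. -/
theorem HH_projSpace (M : (ProjSpace n R).Modules) [M.IsQuasicoherent] (i : ℕ) (hi : n < i) :
    Subsingleton (Coh.HH (ProjSpace n R) M i) :=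
  HH_subsingleton_of_cover (ProjSpace n R) (n + 1) (stdOpen n R) (isAffineOpen_stdOpen n R)
    (iSup_stdOpen n R) (isAffineOpen_inf_projSpace n R) M i hi

end AffVanish
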