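import Mathlib

/-! Generation of ℕ-graded rings: irrelevant ideal vs. algebra generators (EGA II 2.1). -/

open DirectSum

namespace Groth.Agent.Lib.GradedGen_helper3

section
variable {A σ : Type*} [CommRing A] [SetLike σ A] [AddSubgroupClass σ A] (𝒜 : ℕ → σ) [GradedRing 𝒜]

/-- For `x` in the `A₀`-subalgebra generated by homogeneous elements `E` of positive degree, `x - x₀` lies in
the ideal generated by `E`. -/
theorem sub_projZero_mem_span (E : Set A) (hE : ∀ e ∈ E, ∃ d : ℕ, 0 < d ∧ e ∈ 𝒜 d) {x : A}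
    (hx : x ∈ Algebra.adjoin (𝒜 0) E) :
    x - GradedRing.projZeroRingHom 𝒜 x ∈ Ideal.span E := by
  classical
  induction hx using Algebra.adjoin_induction with
  | mem x hx =>
    obtain ⟨n, hn0, hn⟩ := hE x hx
    rw [GradedRing.projZeroRingHom_apply, DirectSum.decompose_of_mem_ne 𝒜 hn hn0.ne', sub_zero]
    exact Ideal.subset_span hx
  | algebraMap r =>
    convert zero_mem (Ideal.span E)
    rw [sub_eq_zero]
    exact (DirectSum.decompose_of_mem_same 𝒜 r.2).symm
  | add x y hx hy hx' hy' =>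
    rw [map_add, add_sub_add_comm]
    exact add_mem hx' hy'
  | mul x y hx hy hx' hy' =>
    convert add_mem (Ideal.mul_mem_left _ x hy')
        (Ideal.mul_mem_right (GradedRing.projZeroRingHom 𝒜 y) _ hx') using 1
    rw [map_mul]
    ring

theorem span_le_irrelevant (E : Set A) (hE : ∀ e ∈ E, ∃ d : ℕ, 0 < d ∧ e ∈ 𝒜 d) :
    Ideal.span E ≤ (HomogeneousIdeal.irrelevant 𝒜).toIdeal := by
  rw [Ideal.span_le]
  intro e he
  obtain ⟨d, hd, hed⟩ := hE e he
  exact HomogeneousIdeal.mem_irrelevant_of_mem 𝒜 hd hed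

theorem irrelevant_eq_span_of_adjoin (E : Set A) (hE : ∀ e ∈ E, ∃ d : ℕ, 0 < d ∧ e ∈ 𝒜 d)
    (h : Algebra.adjoin (𝒜 0) E = ⊤) : (HomogeneousIdeal.irrelevant 𝒜).toIdeal = Ideal.span E := by
  refine le_antisymm (fun x hx => ?_) (span_le_irrelevant 𝒜 E hE)
  have h1 := sub_projZero_mem_span 𝒜 E hE (x := x) (h ▸ Algebra.mem_top)
  rwa [GradedRing.projZeroRingHom_apply, ← GradedRing.proj_apply,
    (HomogeneousIdeal.mem_irrelevant_iff _ _).mp hx, sub_zero] at h1

theorem mem_adjoin_of_mem_deg (E : Set A) (hE : ∀ e ∈ E, ∃ d : ℕ, 0 < d ∧ e ∈ 𝒜 d)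
    (h : (HomogeneousIdeal.irrelevant 𝒜).toIdeal ≤ Ideal.span E) :
    ∀ (n : ℕ) (x : A), x ∈ 𝒜 n → x ∈ Algebra.adjoin (𝒜 0) E := by
  classical
  intro n
  induction n using Nat.strong_induction_on with
  | _ n ih =>
    intro x hx
    rcases Nat.eq_zero_or_pos n with rfl | hn
    · exact Subalgebra.algebraMap_mem _ (⟨x, hx⟩ : 𝒜 0)
    · have hxs : x ∈ Ideal.span E := h (HomogeneousIdeal.mem_irrelevant_of_mem 𝒜 hn hx)
      have key : ∀ y ∈ Ideal.span E, ∀ a : A,
          (decompose 𝒜 (a * y) n : A) ∈ Algebra.adjoin (𝒜 0) E := by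
        intro y hy
        induction hy using Submodule.span_induction with
        | mem e he =>
          intro a
          obtain ⟨d, hd, hed⟩ := hE e he
          rw [coe_decompose_mul_of_right_mem 𝒜 n hed]
          split_ifs with hdn
          · exact mul_mem (ih (n - d) (by omega) _ (SetLike.coe_mem _)) (Algebra.subset_adjoin he)
          · exact zero_mem _
        | zero => intro a; simp
        | add y z _ _ hy hz =>
          intro a
          rw [mul_add, decompose_add, DirectSum.add_apply, AddMemClass.coe_add]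
          exact add_mem (hy a) (hz a)
        | smul b y _ hy =>
          intro a
          rw [smul_eq_mul, ← mul_assoc]
          exact hy (a * b)
      have := key x hxs 1
      rwa [one_mul, DirectSum.decompose_of_mem_same 𝒜 hx] at this

theorem adjoin_eq_top_of_irrelevant_le_span (E : Set A) (hE : ∀ e ∈ E, ∃ d : ℕ, 0 < d ∧ e ∈ 𝒜 d)
    (h : (HomogeneousIdeal.irrelevant 𝒜).toIdeal ≤ Ideal.span E) :
    Algebra.adjoin (𝒜 0) E = ⊤ := by
  classical
  rw [eq_top_iff]
  intro x _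
  rw [← DirectSum.sum_support_decompose 𝒜 x]
  exact sum_mem fun i _ => mem_adjoin_of_mem_deg 𝒜 E hE h i _ (SetLike.coe_mem _)

theorem irrelevant_eq_span_iff (E : Set A) (hE : ∀ e ∈ E, ∃ d : ℕ, 0 < d ∧ e ∈ 𝒜 d) :
    (HomogeneousIdeal.irrelevant 𝒜).toIdeal = Ideal.span E ↔ Algebra.adjoin (𝒜 0) E = ⊤ :=
  ⟨fun h => adjoin_eq_top_of_irrelevant_le_span 𝒜 E hE h.le, irrelevant_eq_span_of_adjoin 𝒜 E hE⟩

end

end Groth.Agent.Lib.GradedGen_helper3

namespace Groth.Agent.Lib.GradedGen_helper3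

section
variable {A σ : Type*} [CommRing A] [SetLike σ A] [AddSubgroupClass σ A] (𝒜 : ℕ → σ) [GradedRing 𝒜]

/-- If the irrelevant ideal is finitely generated, it is generated by finitely many homogeneous elements of
positive degree. -/
theorem exists_finset_homogeneous_of_fg (hfg : (HomogeneousIdeal.irrelevant 𝒜).toIdeal.FG) :
    ∃ E : Finset A, (∀ e ∈ E, ∃ d : ℕ, 0 < d ∧ e ∈ 𝒜 d) ∧
      (HomogeneousIdeal.irrelevant 𝒜).toIdeal = Ideal.span (E : Set A) := by
  classical
  obtain ⟨T, hT⟩ := hfg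
  let E : Finset A := T.biUnion fun t => (decompose 𝒜 t).support.image fun i => (decompose 𝒜 t i : A)
  have hE : ∀ e ∈ E, ∃ d : ℕ, 0 < d ∧ e ∈ 𝒜 d := by
    intro e he
    simp only [E, Finset.mem_biUnion, Finset.mem_image] at he
    obtain ⟨t, ht, i, hi, rfl⟩ := he
    refine ⟨i, Nat.pos_of_ne_zero ?_, SetLike.coe_mem _⟩
    rintro rfl
    have ht' : t ∈ (HomogeneousIdeal.irrelevant 𝒜).toIdeal := hT ▸ Ideal.subset_span ht
    have h0 : (decompose 𝒜 t 0 : A) = 0 := (HomogeneousIdeal.mem_irrelevant_iff _ _).mp ht'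
    rw [DFinsupp.mem_support_iff] at hi
    exact hi (Subtype.ext h0)
  refine ⟨E, hE, le_antisymm ?_ (span_le_irrelevant 𝒜 _ hE)⟩
  rw [← hT, Ideal.span_le]
  intro t ht
  rw [SetLike.mem_coe, ← DirectSum.sum_support_decompose 𝒜 t]
  refine sum_mem fun i hi => Ideal.subset_span ?_
  simp only [E, Finset.coe_biUnion, Finset.coe_image, Set.mem_iUnion, Set.mem_image, Finset.mem_coe]
  exact ⟨t, ht, i, hi, rfl⟩

theorem irrelevant_fg_iff_finiteType :
    (HomogeneousIdeal.irrelevant 𝒜).toIdeal.FG ↔ Algebra.FiniteType (𝒜 0) A := by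
  constructor
  · intro hfg
    obtain ⟨E, hE, h⟩ := exists_finset_homogeneous_of_fg 𝒜 hfg
    exact ⟨⟨E, adjoin_eq_top_of_irrelevant_le_span 𝒜 _ hE h.le⟩⟩
  · intro hft
    obtain ⟨s, hs, hs'⟩ := GradedAlgebra.exists_finset_adjoin_eq_top_and_homogeneous_ne_zero 𝒜
    refine ⟨s, (irrelevant_eq_span_of_adjoin 𝒜 _ (fun e he => ?_) hs).symm⟩
    obtain ⟨n, hn, hen⟩ := hs' e he
    exact ⟨n, Nat.pos_of_ne_zero hn, hen⟩

theorem finiteType_of_isNoetherianRing [IsNoetherianRing A] : Algebra.FiniteType (𝒜 0) A :=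
  (irrelevant_fg_iff_finiteType 𝒜).mp (IsNoetherian.noetherian _)

theorem isNoetherianRing_iff :
    IsNoetherianRing A ↔ IsNoetherianRing (𝒜 0) ∧ Algebra.FiniteType (𝒜 0) A := by
  constructor
  · intro h
    exact ⟨inferInstance, finiteType_of_isNoetherianRing 𝒜⟩
  · rintro ⟨h0, hft⟩
    exact Algebra.FiniteType.isNoetherianRing (𝒜 0) A

theorem away_isNoetherianRing [IsNoetherianRing A] {d : ℕ} (f : A) (hf : f ∈ 𝒜 d) :
    IsNoetherianRing (HomogeneousLocalization.Away 𝒜 f) := by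
  have := finiteType_of_isNoetherianRing 𝒜
  have := HomogeneousLocalization.Away.finiteType (𝒜 := 𝒜) f d hf
  exact Algebra.FiniteType.isNoetherianRing (𝒜 0) _

end

end Groth.Agent.Lib.GradedGen_helper3

namespace Groth.Agent.Lib.GradedGen_helper3
section
variable {A σ : Type*} [CommRing A] [SetLike σ A] [AddSubgroupClass σ A] (𝒜 : ℕ → σ) [GradedRing 𝒜]

/-- If `A₊` is generated by homogeneous elements of degrees in `[1, D]`, then `A_m ⊆ (A₊)^n` for `m ≥ n * D`. -/
theorem mem_irrelevant_pow (E : Set A) (D : ℕ) (hD : 0 < D) (hE : ∀ e ∈ E, ∃ d : ℕ, 0 < d ∧ d ≤ D ∧ e ∈ 𝒜 d)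
    (h : (HomogeneousIdeal.irrelevant 𝒜).toIdeal ≤ Ideal.span E) (n : ℕ) :
    ∀ (m : ℕ), n * D ≤ m → ∀ x ∈ 𝒜 m, x ∈ (HomogeneousIdeal.irrelevant 𝒜).toIdeal ^ n := by
  classical
  induction n with
  | zero => intro m _ x _; simp
  | succ n ih =>
    intro m hm x hx
    have hm0 : 0 < m := by nlinarith
    have hxs : x ∈ Ideal.span E := h (HomogeneousIdeal.mem_irrelevant_of_mem 𝒜 hm0 hx)
    have key : ∀ y ∈ Ideal.span E, ∀ a : A,
        (decompose 𝒜 (a * y) m : A) ∈ (HomogeneousIdeal.irrelevant 𝒜).toIdeal ^ (n + 1) := by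
      intro y hy
      induction hy using Submodule.span_induction with
      | mem e he =>
        intro a
        obtain ⟨d, hd, hdD, hed⟩ := hE e he
        rw [coe_decompose_mul_of_right_mem 𝒜 m hed]
        split_ifs with hdm
        · rw [pow_succ]
          refine Ideal.mul_mem_mul (ih (m - d) ?_ _ (SetLike.coe_mem _))
            (HomogeneousIdeal.mem_irrelevant_of_mem 𝒜 hd hed)
          have : (n + 1) * D = n * D + D := by ring
          omega
        · exact zero_mem _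
      | zero => intro a; simp
      | add y z _ _ hy hz =>
        intro a
        rw [mul_add, decompose_add, DirectSum.add_apply, AddMemClass.coe_add]
        exact add_mem (hy a) (hz a)
      | smul b y _ hy =>
        intro a
        rw [smul_eq_mul, ← mul_assoc]
        exact hy (a * b)
    have := key x hxs 1
    rwa [one_mul, DirectSum.decompose_of_mem_same 𝒜 hx] at this
end
end Groth.Agent.Lib.GradedGen_helper3

namespace Groth.Agent.Lib.GradedGen_helper3
section
variable {A σ : Type*} [CommRing A] [SetLike σ A] [AddSubgroupClass σ A] (𝒜 : ℕ → σ) [GradedRing 𝒜]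

theorem exists_bound_mem_irrelevant_pow [Algebra.FiniteType (𝒜 0) A] :
    ∃ D : ℕ, 0 < D ∧ ∀ (n m : ℕ), n * D ≤ m → ∀ x ∈ 𝒜 m, x ∈ (HomogeneousIdeal.irrelevant 𝒜).toIdeal ^ n := by
  classical
  obtain ⟨s, hs, hs'⟩ := GradedAlgebra.exists_finset_adjoin_eq_top_and_homogeneous_ne_zero 𝒜
  choose! dx hdx hxd using hs'
  refine ⟨s.sup dx + 1, Nat.succ_pos _, fun n => mem_irrelevant_pow 𝒜 (s : Set A) _ (Nat.succ_pos _) ?_ ?_ n⟩
  · intro e he
    exact ⟨dx e, Nat.pos_of_ne_zero (hdx e he), (Finset.le_sup (f := dx) he).trans (Nat.le_succ _), hxd e he⟩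
  · refine (irrelevant_eq_span_of_adjoin 𝒜 _ (fun e he => ?_) hs).le
    exact ⟨dx e, Nat.pos_of_ne_zero (hdx e he), hxd e he⟩

theorem isEmpty_proj_iff_eventually_zero (hfg : (HomogeneousIdeal.irrelevant 𝒜).toIdeal.FG) :
    (∀ f ∈ (HomogeneousIdeal.irrelevant 𝒜).toIdeal, IsNilpotent f) ↔
      ∃ n : ℕ, ∀ k : ℕ, n ≤ k → ∀ x ∈ 𝒜 k, x = 0 := by
  constructor
  · intro h
    have hft := (irrelevant_fg_iff_finiteType 𝒜).mp hfg
    obtain ⟨D, hD, hb⟩ := exists_bound_mem_irrelevant_pow 𝒜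
    have hnil : IsNilpotent (HomogeneousIdeal.irrelevant 𝒜).toIdeal :=
      (Ideal.FG.isNilpotent_iff_le_nilradical hfg).mpr fun f hf => mem_nilradical.mpr (h f hf)
    obtain ⟨N, hN⟩ := hnil
    refine ⟨N * D, fun k hk x hx => ?_⟩
    have := hb N k hk x hx
    rwa [hN, Ideal.zero_eq_bot, Ideal.mem_bot] at this
  · rintro ⟨n, hn⟩ f hf
    classical
    -- each homogeneous component of positive degree is nilpotent
    rw [← DirectSum.sum_support_decompose 𝒜 f]
    refine isNilpotent_sum fun i _ => ?_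
    rcases Nat.eq_zero_or_pos i with rfl | hi
    · rw [show ((decompose 𝒜 f 0 : 𝒜 0) : A) = 0 from (HomogeneousIdeal.mem_irrelevant_iff _ _).mp hf]
      exact IsNilpotent.zero
    · refine ⟨n, hn (n * i) (Nat.le_mul_of_pos_right n hi) _ ?_⟩
      have := SetLike.pow_mem_graded n (SetLike.coe_mem (decompose 𝒜 f i))
      simpa [smul_eq_mul] using this
end
end Groth.Agent.Lib.GradedGen_helper3
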