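import Mathlib
import Groth.Prelude
import Groth.Agent.Lib.ProjFin1_helper9
import Groth.Agent.Lib.ProjCech5_helper9
import Groth.Agent.Lib.ProjSerre2_helper5
import Groth.Agent.Lib.CohDev16_helper8
import Groth.Agent.S0022
import Groth.Agent.S0843
import Groth.Agent.S0844
import Groth.Agent.S0845
import Groth.Agent.S2357

/-!
# Finiteness of the cohomology of coherent modules on projective space (helper9)
-/

set_option autoImplicit false
universe u
open CategoryTheory CategoryTheory.Limits AlgebraicGeometry TopologicalSpace Opposite MvPolynomial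

namespace Groth.Agent.ProjFin

section Sigma

variable {X : Scheme.{u}}

lemma isZero_sigma_fin_zero (L : X.Modules) : IsZero (∐ fun _ : Fin 0 => L) := by
  rw [IsZero.iff_id_eq_zero]
  apply Sigma.hom_ext
  intro j
  exact Fin.elim0 j

/-- `∐_{Fin (k+1)} L ≅ L ⊞ ∐_{Fin k} L` -/
noncomputable def sigmaSuccIso (L : X.Modules) (k : ℕ) :
    (∐ fun _ : Fin (k + 1) => L) ≅ L ⊞ (∐ fun _ : Fin k => L) where
  hom := Sigma.desc (fun j => Fin.cases (motive := fun _ => L ⟶ L ⊞ (∐ fun _ : Fin k => L))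
    biprod.inl (fun j' => Sigma.ι (fun _ : Fin k => L) j' ≫ biprod.inr) j)
  inv := biprod.desc (Sigma.ι (fun _ : Fin (k + 1) => L) 0)
    (Sigma.desc (fun j => Sigma.ι (fun _ : Fin (k + 1) => L) j.succ))
  hom_inv_id := by
    apply Sigma.hom_ext
    intro j
    rw [Sigma.ι_desc_assoc, Category.comp_id]
    refine Fin.cases ?_ (fun j' => ?_) j
    · rw [Fin.cases_zero, biprod.inl_desc]
    · rw [Fin.cases_succ, Category.assoc, biprod.inr_desc, Sigma.ι_desc]
  inv_hom_id := by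
    apply biprod.hom_ext'
    · rw [biprod.inl_desc_assoc, Sigma.ι_desc, Fin.cases_zero, Category.comp_id]
    · rw [biprod.inr_desc_assoc, Category.comp_id]
      apply Sigma.hom_ext
      intro j
      rw [Sigma.ι_desc_assoc, Sigma.ι_desc, Fin.cases_succ]

theorem isCoh_sigma_fin [IsLocallyNoetherian X] (L : X.Modules) (hL : Coh.IsCoh L) :
    ∀ k : ℕ, Coh.IsCoh (∐ fun _ : Fin k => L)
  | 0 => CohDevH8.isCoh_of_isZero (isZero_sigma_fin_zero L)
  | k + 1 => CohDevH8.isCoh_of_iso (sigmaSuccIso L k)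
      (CohDevH8.isCoh_biprod hL (isCoh_sigma_fin L hL k))

end Sigma

open Groth.Agent.ProjCech

variable (n : ℕ) (R : Type u) [CommRing R]

theorem isNoetherian_HH_twist [IsNoetherianRing R] (d : ℤ) (q : ℕ) :
    _root_.IsNoetherian R (Coh.HH (CohB1.ProjSpace n R) (Twist.twistProjSpace n R d) q) := by
  haveI hfin : ∀ k : ℕ, Module.Finite R ↥(MvPolynomial.homogeneousSubmodule (Fin (n + 1)) R k) :=
    fun k => Module.Finite.iff_fg.mpr (MvPolynomial.homogeneousSubmodule_fg (Fin (n + 1)) R k)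
  by_cases h₀ : q = 0 ∧ 0 ≤ d
  · obtain ⟨rfl, hd⟩ := h₀
    obtain ⟨d', rfl⟩ := Int.eq_ofNat_of_zero_le hd
    obtain ⟨e⟩ := Groth.Agent.S0843.result R n d'
    exact isNoetherian_of_linearEquiv e.symm
  · by_cases hn : q = n ∧ d ≤ -((n : ℤ) + 1)
    · obtain ⟨rfl, hd⟩ := hn
      obtain ⟨k, hk⟩ : ∃ k : ℕ, d = -((q : ℤ) + 1 + k) := ⟨(-((q : ℤ) + 1) - d).toNat, by omega⟩
      subst hk
      obtain ⟨e⟩ := Groth.Agent.S0845.result R q k
      exact isNoetherian_of_linearEquiv e.symm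
    · haveI := Groth.Agent.S0844.result R n d q h₀ hn
      exact isNoetherian_of_finite _ _

open Classical in
lemma hcov_X (x : Proj (𝒜 n R)) :
    ∃ f ∈ (Finset.univ.image (fun i : Fin (n + 1) => (X i : MvPolynomial (Fin (n + 1)) R))),
      x ∈ Proj.basicOpen (𝒜 n R) f := by
  have hx : x ∈ iSup (cov n R) := by rw [iSup_cov]; trivial
  obtain ⟨j, hj⟩ := Opens.mem_iSup.mp hx
  exact ⟨X j.down, Finset.mem_image.mpr ⟨j.down, Finset.mem_univ _, rfl⟩, hj⟩

open Classical in
lemma hs1_X : ∀ f ∈ (Finset.univ.image (fun i : Fin (n + 1) => (X i : MvPolynomial (Fin (n + 1)) R))),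
    f ∈ 𝒜 n R 1 := by
  intro f hf
  obtain ⟨i, -, rfl⟩ := Finset.mem_image.mp hf
  exact (mem_homogeneousSubmodule _ _).mpr (isHomogeneous_X R i)

theorem isNoetherian_HH [IsNoetherianRing R] :
    ∀ (j i : ℕ), n + 1 ≤ i + j → ∀ (M : (CohB1.ProjSpace n R).Modules), Coh.IsCoh M →
      _root_.IsNoetherian R (Coh.HH (CohB1.ProjSpace n R) M i) := by
  haveI hNoeth : AlgebraicGeometry.IsNoetherian (CohB1.ProjSpace n R) :=
    Groth.Agent.S2357.result (𝒜 n R)
  have hcov' : ∀ x : Proj (𝒜 n R), ∃ f ∈ 𝒜 n R 1, x ∈ Proj.basicOpen (𝒜 n R) f := fun x => by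
    obtain ⟨f, hf, hx⟩ := hcov_X n R x
    exact ⟨f, hs1_X n R f hf, hx⟩
  intro j
  induction j with
  | zero =>
    intro i hi M hM
    haveI : Coh.IsQCoh M := hM.1
    haveI := Groth.Agent.S0022.result n R M i (by omega)
    exact isNoetherian_of_finite _ _
  | succ j ih =>
    intro i hi M hM
    obtain ⟨n₀, hn₀⟩ := Groth.Agent.ProjTw.exists_epi_coprod_twist (𝒜 n R) _ (hs1_X n R)
      (hcov_X n R) M hM.1 hM.2
    obtain ⟨k, p, hp⟩ := hn₀ n₀ le_rfl
    have hL : Coh.IsCoh (X := CohB1.ProjSpace n R) (Twist.twist (𝒜 n R) (-(n₀ : ℤ))) :=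
      ⟨Groth.Agent.ProjTw.isQuasicoherent_twist (𝒜 n R) _,
        Groth.Agent.ProjTw.isFiniteType_twist (𝒜 n R) hcov' _⟩
    have hE := isCoh_sigma_fin (X := CohB1.ProjSpace n R) _ hL k
    have hK := CohKerH8.isCoh_kernel (X := CohB1.ProjSpace n R) hE hM p
    let S : ShortComplex (CohB1.ProjSpace n R).Modules :=
      ShortComplex.mk (kernel.ι p) p (kernel.condition p)
    have hS : S.ShortExact :=
      { exact := ShortComplex.exact_of_f_is_kernel _ (kernelIsKernel p)
        mono_f := inferInstanceAs (Mono (kernel.ι p))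
        epi_g := hp }
    haveI : _root_.IsNoetherian R (Coh.HH (CohB1.ProjSpace n R) S.X₁ (i + 1)) :=
      ih (i + 1) (by omega) _ hK
    haveI : _root_.IsNoetherian R (Coh.HH (CohB1.ProjSpace n R)
        (Twist.twistProjSpace n R (-(n₀ : ℤ))) i) := isNoetherian_HH_twist n R _ i
    haveI : _root_.IsNoetherian R (Coh.HH (CohB1.ProjSpace n R) S.X₂ i) :=
      isNoetherian_sigma R (X := CohB1.ProjSpace n R) (Twist.twistProjSpace n R (-(n₀ : ℤ))) k i
    exact isNoetherian_right R S hS i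

end Groth.Agent.ProjFin
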