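import Mathlib
import Groth.Agent.Lib.LerayNat_helper9

/-!
# Leray's theorem, naturally for morphisms between two acyclic sheaves (helper9)

`LerayNat.leray_nat` is natural for endomorphisms only.  Applying it to a biproduct `F₁ ⊞ F₂`
gives comparison isomorphisms for `F₁` and `F₂` that are compatible with all morphisms
`F₁ ⟶ F₂`, `F₁ ⟶ F₁`, `F₂ ⟶ F₂`.
-/

set_option autoImplicit false
universe u
open CategoryTheory Limits TopologicalSpace Opposite Abelian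

namespace Groth.Agent.LerayBi

open Groth.Agent.Lib.Cech Groth.Agent.Lib.FreeSheaf Groth.Agent.LerayNat

variable {X : TopCat.{u}} {ι : Type u} (U : ι → Opens X)

lemma cechMap_comp {F G H : CohTop.Ab X} (φ : F ⟶ G) (ψ : G ⟶ H) (p : ℕ) :
    cechMap U (φ ≫ ψ) p = cechMap U φ p ≫ cechMap U ψ p := by
  unfold cechMap
  rw [← HomologicalComplex.homologyMap_comp, ← Functor.map_comp]
  rfl

lemma cechMap_id (F : CohTop.Ab X) (p : ℕ) : cechMap U (𝟙 F) p = 𝟙 _ := by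
  unfold cechMap
  have : (𝟙 F : F ⟶ F).hom = 𝟙 F.obj := rfl
  rw [this, CategoryTheory.Functor.map_id, HomologicalComplex.homologyMap_id]

lemma cechMap_comp_apply {F G H : CohTop.Ab X} (φ : F ⟶ G) (ψ : G ⟶ H) (p : ℕ)
    (x : CohTop.cechH F.obj U p) :
    (cechMap U (φ ≫ ψ) p).hom x = (cechMap U ψ p).hom ((cechMap U φ p).hom x) := by
  rw [cechMap_comp]
  rfl

lemma cechMap_id_apply (F : CohTop.Ab X) (p : ℕ) (x : CohTop.cechH F.obj U p) :
    (cechMap U (𝟙 F) p).hom x = x := by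
  rw [cechMap_id]
  rfl

section Retract

variable {U} {p : ℕ} {F : CohTop.Ab X}
  (e : CohTop.cechH F.obj U p ≃+ Ext (fr (iSup U)) F p)
  (he : ∀ (Φ : F ⟶ F) (x : CohTop.cechH F.obj U p),
    e ((cechMap U Φ p).hom x) = (e x).comp (Ext.mk₀ Φ) (add_zero p))

/-- the comparison map for a retract of `F` -/
noncomputable def EE {G : CohTop.Ab X} (i : G ⟶ F) (r : F ⟶ G) :
    CohTop.cechH G.obj U p →+ Ext (fr (iSup U)) G p :=
  AddMonoidHom.mk' (fun x => (e ((cechMap U i p).hom x)).comp (Ext.mk₀ r) (add_zero p)) (by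
    intro x y
    rw [map_add, map_add, Ext.add_comp])

lemma EE_apply {G : CohTop.Ab X} (i : G ⟶ F) (r : F ⟶ G) (x : CohTop.cechH G.obj U p) :
    EE e i r x = (e ((cechMap U i p).hom x)).comp (Ext.mk₀ r) (add_zero p) := rfl

include he in
lemma EE_nat {G G' : CohTop.Ab X} (i : G ⟶ F) (r : F ⟶ G) (hir : i ≫ r = 𝟙 G)
    (i' : G' ⟶ F) (r' : F ⟶ G') (hir' : i' ≫ r' = 𝟙 G') (φ : G ⟶ G')
    (x : CohTop.cechH G.obj U p) :
    EE e i' r' ((cechMap U φ p).hom x) = (EE e i r x).comp (Ext.mk₀ φ) (add_zero p) := by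
  rw [EE_apply, EE_apply, ← cechMap_comp_apply]
  have h1 : φ ≫ i' = i ≫ (r ≫ φ ≫ i') := by
    rw [← Category.assoc i, hir, Category.id_comp]
  rw [h1, cechMap_comp_apply, he, Ext.comp_assoc_of_third_deg_zero, Ext.mk₀_comp_mk₀,
    Ext.comp_assoc_of_third_deg_zero, Ext.mk₀_comp_mk₀]
  congr 2
  rw [Category.assoc, Category.assoc, hir', Category.comp_id]

include he in
lemma EE_bijective {G : CohTop.Ab X} (i : G ⟶ F) (r : F ⟶ G) (hir : i ≫ r = 𝟙 G) :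
    Function.Bijective (EE e i r) := by
  constructor
  · rw [injective_iff_map_eq_zero]
    intro x hx
    rw [EE_apply] at hx
    have h1 : (e ((cechMap U i p).hom x)).comp (Ext.mk₀ (r ≫ i)) (add_zero p) = 0 := by
      rw [← Ext.mk₀_comp_mk₀, ← Ext.comp_assoc_of_third_deg_zero, hx, Ext.zero_comp]
    rw [← he, ← cechMap_comp_apply, ← Category.assoc, hir, Category.id_comp] at h1
    have h2 : (cechMap U i p).hom x = 0 := by
      apply e.injective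
      rw [h1, map_zero]
    have h3 := congrArg (cechMap U r p).hom h2
    rw [← cechMap_comp_apply, hir, cechMap_id_apply, map_zero] at h3
    exact h3
  · intro z
    refine ⟨(cechMap U r p).hom (e.symm (z.comp (Ext.mk₀ i) (add_zero p))), ?_⟩
    rw [EE_apply, ← cechMap_comp_apply, he, AddEquiv.apply_symm_apply,
      Ext.comp_assoc_of_third_deg_zero, Ext.mk₀_comp_mk₀, Ext.comp_assoc_of_third_deg_zero,
      Ext.mk₀_comp_mk₀]
    rw [Category.assoc, hir, Category.comp_id, hir, Ext.comp_mk₀_id]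

end Retract

/-- Leray's theorem for two sheaves, compatibly with all morphisms between them -/
theorem leray_bi (p : ℕ) (F₁ F₂ : CohTop.Ab X)
    (h₁ : ∀ (n : ℕ) (σ : Fin (n + 1) → ι) (q : ℕ)
      (ξ : Ext (fr (⨅ k, U (σ k))) F₁ (q + 1)), ξ = 0)
    (h₂ : ∀ (n : ℕ) (σ : Fin (n + 1) → ι) (q : ℕ)
      (ξ : Ext (fr (⨅ k, U (σ k))) F₂ (q + 1)), ξ = 0) :
    ∃ (E₁ : CohTop.cechH F₁.obj U p ≃+ Ext (fr (iSup U)) F₁ p)
      (E₂ : CohTop.cechH F₂.obj U p ≃+ Ext (fr (iSup U)) F₂ p),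
      (∀ (φ : F₁ ⟶ F₂) (x : CohTop.cechH F₁.obj U p),
        E₂ ((cechMap U φ p).hom x) = (E₁ x).comp (Ext.mk₀ φ) (add_zero p)) ∧
      (∀ (φ : F₁ ⟶ F₁) (x : CohTop.cechH F₁.obj U p),
        E₁ ((cechMap U φ p).hom x) = (E₁ x).comp (Ext.mk₀ φ) (add_zero p)) ∧
      (∀ (φ : F₂ ⟶ F₂) (x : CohTop.cechH F₂.obj U p),
        E₂ ((cechMap U φ p).hom x) = (E₂ x).comp (Ext.mk₀ φ) (add_zero p)) := by
  have h : ∀ (n : ℕ) (σ : Fin (n + 1) → ι) (q : ℕ)
      (ξ : Ext (fr (⨅ k, U (σ k))) (F₁ ⊞ F₂) (q + 1)), ξ = 0 := by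
    intro n σ q ξ
    have h0 : ξ = ξ.comp (Ext.mk₀ (𝟙 (F₁ ⊞ F₂))) (add_zero _) := (Ext.comp_mk₀_id ξ).symm
    rw [h0, ← biprod.total, Ext.mk₀_add, Ext.comp_add, ← Ext.mk₀_comp_mk₀, ← Ext.mk₀_comp_mk₀,
      ← Ext.comp_assoc_of_third_deg_zero, ← Ext.comp_assoc_of_third_deg_zero,
      h₁ n σ q (ξ.comp (Ext.mk₀ biprod.fst) (add_zero _)),
      h₂ n σ q (ξ.comp (Ext.mk₀ biprod.snd) (add_zero _)), Ext.zero_comp, Ext.zero_comp, add_zero]
  obtain ⟨e, he⟩ := leray_nat U p (F₁ ⊞ F₂) h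
  refine ⟨AddEquiv.ofBijective (EE e biprod.inl biprod.fst)
      (EE_bijective e he _ _ biprod.inl_fst),
    AddEquiv.ofBijective (EE e biprod.inr biprod.snd)
      (EE_bijective e he _ _ biprod.inr_snd), ?_, ?_, ?_⟩
  · intro φ x
    exact EE_nat e he _ _ biprod.inl_fst _ _ biprod.inr_snd φ x
  · intro φ x
    exact EE_nat e he _ _ biprod.inl_fst _ _ biprod.inl_fst φ x
  · intro φ x
    exact EE_nat e he _ _ biprod.inr_snd _ _ biprod.inr_snd φ x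

/-- `leray_bi` with the union of the cover replaced by an equal open -/
theorem leray_bi' (W : Opens X) (hW : iSup U = W) (p : ℕ) (F₁ F₂ : CohTop.Ab X)
    (h₁ : ∀ (n : ℕ) (σ : Fin (n + 1) → ι) (q : ℕ)
      (ξ : Ext (fr (⨅ k, U (σ k))) F₁ (q + 1)), ξ = 0)
    (h₂ : ∀ (n : ℕ) (σ : Fin (n + 1) → ι) (q : ℕ)
      (ξ : Ext (fr (⨅ k, U (σ k))) F₂ (q + 1)), ξ = 0) :
    ∃ (E₁ : CohTop.cechH F₁.obj U p ≃+ Ext (fr W) F₁ p)
      (E₂ : CohTop.cechH F₂.obj U p ≃+ Ext (fr W) F₂ p),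
      (∀ (φ : F₁ ⟶ F₂) (x : CohTop.cechH F₁.obj U p),
        E₂ ((cechMap U φ p).hom x) = (E₁ x).comp (Ext.mk₀ φ) (add_zero p)) ∧
      (∀ (φ : F₁ ⟶ F₁) (x : CohTop.cechH F₁.obj U p),
        E₁ ((cechMap U φ p).hom x) = (E₁ x).comp (Ext.mk₀ φ) (add_zero p)) ∧
      (∀ (φ : F₂ ⟶ F₂) (x : CohTop.cechH F₂.obj U p),
        E₂ ((cechMap U φ p).hom x) = (E₂ x).comp (Ext.mk₀ φ) (add_zero p)) := by
  subst hW
  exact leray_bi U p F₁ F₂ h₁ h₂

end Groth.Agent.LerayBi
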