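import Mathlib
import Groth.Agent.Lib.LerayBi_helper9
import Groth.Agent.Lib.CechAffine_helper2

/-!
# Leray's theorem for two sheaves, with the constant sheaf as source (helper9)
-/

set_option autoImplicit false
universe u
open CategoryTheory Limits TopologicalSpace Opposite Abelian

namespace Groth.Agent.LerayBi

open Groth.Agent.Lib.Cech Groth.Agent.Lib.FreeSheaf Groth.Agent.LerayNat

variable {X : TopCat.{u}} {ι : Type u} (U : ι → Opens X)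

lemma extTop_symm_comp {F G : CohTop.Ab X} (p : ℕ)
    (y : Ext (KK X) F p) (ψ : F ⟶ G) :
    (extTopEquiv G p).symm (y.comp (Ext.mk₀ ψ) (add_zero p)) =
      ((extTopEquiv F p).symm y).comp (Ext.mk₀ ψ) (add_zero p) := by
  show (Ext.mk₀ (frToKK (X := X))).comp (y.comp (Ext.mk₀ ψ) (add_zero _)) (zero_add _) =
    ((Ext.mk₀ (frToKK (X := X))).comp y (zero_add _)).comp (Ext.mk₀ ψ) (add_zero _)
  rw [Ext.comp_assoc_of_third_deg_zero]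

lemma S_nat {p : ℕ} {F G : CohTop.Ab X}
    (EF : CohTop.cechH F.obj U p ≃+ Ext (fr (⊤ : Opens X)) F p)
    (EG : CohTop.cechH G.obj U p ≃+ Ext (fr (⊤ : Opens X)) G p) (ψ : F ⟶ G)
    (h : ∀ x, EG ((cechMap U ψ p).hom x) = (EF x).comp (Ext.mk₀ ψ) (add_zero p))
    (y : Ext (KK X) F p) :
    EG.symm ((extTopEquiv G p).symm (y.comp (Ext.mk₀ ψ) (add_zero p))) =
      (cechMap U ψ p).hom (EF.symm ((extTopEquiv F p).symm y)) := by
  rw [extTop_symm_comp]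
  apply EG.injective
  rw [EG.apply_symm_apply]
  exact ((h _).trans (congrArg (fun t => t.comp (Ext.mk₀ ψ) (add_zero p))
    (EF.apply_symm_apply _))).symm

/-- Leray's theorem for two sheaves, from `H^p = Ext(ℤ, -)` to Čech cohomology, compatibly with
all morphisms -/
theorem leray_bi_KK (hU : iSup U = ⊤) (p : ℕ) (F₁ F₂ : CohTop.Ab X)
    (h₁ : ∀ (n : ℕ) (σ : Fin (n + 1) → ι) (q : ℕ)
      (ξ : Ext (fr (⨅ k, U (σ k))) F₁ (q + 1)), ξ = 0)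
    (h₂ : ∀ (n : ℕ) (σ : Fin (n + 1) → ι) (q : ℕ)
      (ξ : Ext (fr (⨅ k, U (σ k))) F₂ (q + 1)), ξ = 0) :
    ∃ (S₁ : Ext (KK X) F₁ p ≃+ CohTop.cechH F₁.obj U p)
      (S₂ : Ext (KK X) F₂ p ≃+ CohTop.cechH F₂.obj U p),
      (∀ (ψ : F₁ ⟶ F₂) (y : Ext (KK X) F₁ p),
        S₂ (y.comp (Ext.mk₀ ψ) (add_zero p)) = (cechMap U ψ p).hom (S₁ y)) ∧
      (∀ (ψ : F₁ ⟶ F₁) (y : Ext (KK X) F₁ p),
        S₁ (y.comp (Ext.mk₀ ψ) (add_zero p)) = (cechMap U ψ p).hom (S₁ y)) ∧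
      (∀ (ψ : F₂ ⟶ F₂) (y : Ext (KK X) F₂ p),
        S₂ (y.comp (Ext.mk₀ ψ) (add_zero p)) = (cechMap U ψ p).hom (S₂ y)) := by
  obtain ⟨E₁, E₂, h12, h11, h22⟩ := leray_bi' U ⊤ hU p F₁ F₂ h₁ h₂
  exact ⟨(extTopEquiv F₁ p).symm.trans E₁.symm, (extTopEquiv F₂ p).symm.trans E₂.symm,
    fun ψ y => S_nat U E₁ E₂ ψ (h12 ψ) y, fun ψ y => S_nat U E₁ E₁ ψ (h11 ψ) y,
    fun ψ y => S_nat U E₂ E₂ ψ (h22 ψ) y⟩

end Groth.Agent.LerayBi
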