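import Mathlib
import Groth.Prelude
import Groth.Agent.Lib.SerreCrit3_helper9

/-!
# Vanishing of cohomology along isomorphisms and short exact sequences (helper9)
-/

set_option autoImplicit false
universe u
open CategoryTheory CategoryTheory.Limits AlgebraicGeometry TopologicalSpace Opposite

namespace Groth.Agent.HHVan

variable {X : Scheme.{u}}

/-- the constant sheaf used to define `Coh.HH` -/
noncomputable abbrev hmap {M N : X.Modules} (φ : M ⟶ N) (i : ℕ) :
    Coh.HH X M i →+ Coh.HH X N i := Sheaf.H.map ((SerreCrit.TT X).map φ) i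

lemma hmap_id {M : X.Modules} (i : ℕ) (x : Coh.HH X M i) : hmap (𝟙 M) i x = x := by
  unfold hmap
  rw [CategoryTheory.Functor.map_id]
  exact Sheaf.H.map_id_apply x

lemma hmap_comp {M N P : X.Modules} (φ : M ⟶ N) (ψ : N ⟶ P) (i : ℕ) (x : Coh.HH X M i) :
    hmap (φ ≫ ψ) i x = hmap ψ i (hmap φ i x) := by
  unfold hmap
  rw [Functor.map_comp]
  exact Sheaf.H.map_comp_apply _ _ _

theorem subsingleton_of_iso {M N : X.Modules} (e : M ≅ N) (i : ℕ)
    (h : Subsingleton (Coh.HH X M i)) : Subsingleton (Coh.HH X N i) := by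
  refine ⟨fun x y => ?_⟩
  have hx : ∀ z : Coh.HH X N i, z = 0 := fun z => by
    have h1 : hmap e.hom i (hmap e.inv i z) = z := by
      rw [← hmap_comp, e.inv_hom_id, hmap_id]
    rw [← h1, Subsingleton.elim (hmap e.inv i z) 0, map_zero]
  rw [hx x, hx y]

theorem subsingleton_right (S : ShortComplex X.Modules) (hS : S.ShortExact) (i : ℕ)
    (h2 : Subsingleton (Coh.HH X S.X₂ i)) (h1 : Subsingleton (Coh.HH X S.X₁ (i + 1))) :
    Subsingleton (Coh.HH X S.X₃ i) := by
  have hx : ∀ z : Coh.HH X S.X₃ i, z = 0 := fun z => by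
    obtain ⟨y, hy⟩ := Abelian.Ext.covariant_sequence_exact₃ _ (SerreCrit.shortExact_toSheaf S hS)
      (show Abelian.Ext _ (Coh.toAb S.X₃) i from z) rfl
      (Subsingleton.elim (h := h1) _ _)
    have hy0 : y = 0 := Subsingleton.elim (h := h2) _ _
    rw [← hy, hy0, Abelian.Ext.zero_comp]; rfl
  exact ⟨fun x y => by rw [hx x, hx y]⟩

theorem subsingleton_mid (S : ShortComplex X.Modules) (hS : S.ShortExact) (i : ℕ)
    (h1 : Subsingleton (Coh.HH X S.X₁ i)) (h3 : Subsingleton (Coh.HH X S.X₃ i)) :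
    Subsingleton (Coh.HH X S.X₂ i) := by
  have hx : ∀ z : Coh.HH X S.X₂ i, z = 0 := fun z => by
    obtain ⟨y, hy⟩ := Abelian.Ext.covariant_sequence_exact₂ _ (SerreCrit.shortExact_toSheaf S hS)
      (show Abelian.Ext _ (Coh.toAb S.X₂) i from z)
      (Subsingleton.elim (h := h3) _ _)
    have hy0 : y = 0 := Subsingleton.elim (h := h1) _ _
    rw [← hy, hy0, Abelian.Ext.zero_comp]; rfl
  exact ⟨fun x y => by rw [hx x, hx y]⟩

theorem subsingleton_left (S : ShortComplex X.Modules) (hS : S.ShortExact) (i : ℕ)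
    (h3 : Subsingleton (Coh.HH X S.X₃ i)) (h2 : Subsingleton (Coh.HH X S.X₂ (i + 1))) :
    Subsingleton (Coh.HH X S.X₁ (i + 1)) := by
  have hx : ∀ z : Coh.HH X S.X₁ (i + 1), z = 0 := fun z => by
    obtain ⟨y, hy⟩ := Abelian.Ext.covariant_sequence_exact₁ _ (SerreCrit.shortExact_toSheaf S hS)
      (show Abelian.Ext _ (Coh.toAb S.X₁) (i + 1) from z)
      (Subsingleton.elim (h := h2) _ _) rfl
    have hy0 : y = 0 := Subsingleton.elim (h := h3) _ _
    rw [← hy, hy0, Abelian.Ext.zero_comp]; rfl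
  exact ⟨fun x y => by rw [hx x, hx y]⟩

end Groth.Agent.HHVan
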