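import Mathlib
import Groth.Prelude
import Groth.Agent.Lib.TensInv2_helper9
import Groth.Agent.Lib.HHVan_helper9
import Groth.Agent.Lib.ProjFin2_helper9
import Groth.Agent.Lib.ProjTwPow_helper5

/-!
# Twists on projective space: additivity, inverses, exactness of twisting (helper9)
-/

set_option autoImplicit false
universe u
open CategoryTheory CategoryTheory.Limits AlgebraicGeometry TopologicalSpace Opposite MvPolynomial

namespace Groth.Agent.ProjTens

open Groth.Agent.ProjCech Groth.Agent.ProjFin Groth.Agent.TensInv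

variable (n : ℕ) (R : Type u) [CommRing R]

/-- `O(d)` on `P^n_R`. -/
noncomputable abbrev OO (d : ℤ) : (CohB1.ProjSpace n R).Modules := Twist.twistProjSpace n R d

theorem hcov' : ∀ x : Proj (𝒜 n R), ∃ f ∈ 𝒜 n R 1, x ∈ Proj.basicOpen (𝒜 n R) f := fun x => by
  obtain ⟨f, hf, hx⟩ := hcov_X n R x
  exact ⟨f, hs1_X n R f hf, hx⟩

theorem twist_add (a b : ℤ) :
    Nonempty (CohB1.tensorMod (OO n R a) (OO n R b) ≅ OO n R (a + b)) :=
  (Groth.Agent.ProjTw.twist_all (𝒜 n R) (hcov' n R)).2.1 a b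

theorem twist_zero : Nonempty (OO n R 0 ≅ Coh.structureModule (CohB1.ProjSpace n R)) := by
  haveI := Groth.Agent.ProjTw.isIso_unitToTwist0 (𝒜 n R) (hcov' n R)
  exact ⟨(asIso (Groth.Agent.ProjTw.unitToTwist0 (𝒜 n R))).symm⟩

theorem twist_congr {a b : ℤ} (h : a = b) : Nonempty (OO n R a ≅ OO n R b) := by
  subst h; exact ⟨Iso.refl _⟩

theorem twist_add' (a b c : ℤ) (h : a + b = c) :
    Nonempty (CohB1.tensorMod (OO n R a) (OO n R b) ≅ OO n R c) := by
  subst h; exact twist_add n R a b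

theorem twist_inv (a b : ℤ) (h : a + b = 0) :
    Nonempty (CohB1.tensorMod (OO n R a) (OO n R b) ≅ Coh.structureModule (CohB1.ProjSpace n R)) := by
  obtain ⟨e⟩ := twist_add' n R a b 0 h
  obtain ⟨e0⟩ := twist_zero n R
  exact ⟨e ≪≫ e0⟩

theorem isEquivalence_tR_twist (d : ℤ) : (tR (OO n R d)).IsEquivalence :=
  isEquivalence_tR (L' := OO n R (-d)) (twist_inv n R d (-d) (by omega))

theorem isEquivalence_tL_twist (d : ℤ) : (tL (OO n R d)).IsEquivalence :=
  isEquivalence_tL (L' := OO n R (-d)) (twist_inv n R d (-d) (by omega))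

/-- `F(a)(b) ≅ F(a + b)`. -/
theorem twist_twist (F : (CohB1.ProjSpace n R).Modules) (a b c : ℤ) (h : a + b = c) :
    Nonempty (CohB1.tensorMod (CohB1.tensorMod F (OO n R a)) (OO n R b) ≅
      CohB1.tensorMod F (OO n R c)) := by
  obtain ⟨e⟩ := twist_add' n R a b c h
  exact ⟨assoc F (OO n R a) (OO n R b) ≪≫ mapL F e⟩

/-- twisting a short exact sequence. -/
theorem shortExact_twist (S : ShortComplex (CohB1.ProjSpace n R).Modules) (hS : S.ShortExact)
    (d : ℤ) : (S.map (tR (OO n R d))).ShortExact :=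
  shortExact_tR (L' := OO n R (-d)) (twist_inv n R d (-d) (by omega)) S hS

end Groth.Agent.ProjTens
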