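import Mathlib
import Groth.Prelude
import Groth.Agent.Lib.ProjCech5_helper9
import Groth.Agent.Lib.ProjTens1_helper9
import Groth.Agent.Lib.Tens38_helper8
import Groth.Agent.Lib.TwistEpi_helper5

/-!
# Morphisms `O(a) ⟶ O(b)` on projective space are multiplications by polynomials (helper9)
-/

set_option autoImplicit false
universe u
open CategoryTheory CategoryTheory.Limits AlgebraicGeometry TopologicalSpace Opposite MvPolynomial

namespace Groth.Agent.ProjHom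

open Groth.Agent.ProjCech Groth.Agent.LaurentCoef QCohExtn QcqsLoc

variable {n : ℕ} {R : Type u} [CommRing R]

/-- the support of the Laurent coordinates of a global section -/
lemma PhiV_top_support (hn : 1 ≤ n) (k : ℤ) (s : Sec n R k ⊤) (e : Fin (n + 1) → ℤ)
    (he : e ∈ (PhiV k ⊤ le_top s).support) : ∑ i, e i = k ∧ ∀ i, 0 ≤ e i := by
  classical
  have hj : ∀ j : Fin (n + 1), (∑ i, e i = k ∧
      ∀ i, (Finsupp.single j 1 : Fin (n + 1) →₀ ℕ) i = 0 → 0 ≤ e i) := by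
    intro j
    have hV : DT n R ≤ cov n R ⟨j⟩ := DT_le _
    have h1 := (PhiV_range (d := k) (m := Finsupp.single j 1) (by simp) (cov n R ⟨j⟩)
      (cov_eq ⟨j⟩) hV (PhiV k ⊤ le_top s)).mp ⟨rs le_top s, PhiV_rs _ _ _⟩
    exact h1 e he
  refine ⟨(hj 0).1, fun i => ?_⟩
  obtain ⟨j, hji⟩ : ∃ j : Fin (n + 1), j ≠ i := by
    by_cases hi : i = 0
    · exact ⟨⟨1, by omega⟩, by rw [hi]; intro h; simpa using congrArg Fin.val h⟩
    · exact ⟨0, fun h => hi h.symm⟩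
  exact (hj j).2 i (by rw [Finsupp.single_apply, if_neg hji])

/-- global sections of `O(k)` on `P^n`, `n ≥ 1`, are homogeneous polynomials of degree `k` -/
theorem exists_glob (hn : 1 ≤ n) (k : ℤ) (s : Sec n R k ⊤) :
    ∃ (D : ℕ) (P : MvPolynomial (Fin (n + 1)) R), P ∈ 𝒜 n R D ∧ ((D : ℤ) = k ∨ P = 0) ∧
      ∀ x : (⊤ : (Proj (𝒜 n R)).Opens), val s x = Localization.mk P 1 := by
  classical
  by_cases hk : 0 ≤ k
  · obtain ⟨D, rfl⟩ := Int.eq_ofNat_of_zero_le hk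
    obtain ⟨b, rfl⟩ := glob_surjective D s
    refine ⟨D, b.1, b.2, Or.inl rfl, fun x => ?_⟩
    rw [val_glob]
    congr 1
  · have hs : s = 0 := by
      apply PhiV_top_injective
      rw [map_zero]
      ext e
      by_contra hne
      have h1 := PhiV_top_support hn k s e (Finsupp.mem_support_iff.mpr hne)
      have h2 : 0 ≤ ∑ i, e i := Finset.sum_nonneg (fun i _ => h1.2 i)
      omega
    refine ⟨0, 0, Submodule.zero_mem _, Or.inr rfl, fun x => ?_⟩
    rw [hs, val_zero, Localization.mk_zero]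

lemma val_ap_eqToHom {d d' : ℤ} (h : d = d') (V : (Proj (𝒜 n R)).Opens) (s : Sec n R d V)
    (x : V) :
    val (show Sec n R d' V from
      ap (eqToHom (congrArg (Twist.twist (𝒜 n R)) h)) V s) x = val s x := by
  subst h
  rfl

/-- a global section of `O(k)`, `k = 0`, with value `1` -/
lemma exists_one (k : ℤ) (hk : k = 0) :
    ∃ o : Sec n R k ⊤, ∀ x : (⊤ : (Proj (𝒜 n R)).Opens), val o x = 1 := by
  subst hk
  refine ⟨glob 0 ⟨1, SetLike.GradedOne.one_mem⟩, fun x => ?_⟩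
  rw [val_glob]
  rw [← Localization.mk_one]
  congr 1

/-- generators of `O(a)` and `O(-a)` over the standard opens -/
lemma exists_gen (i : Idx.{u} n) (a : ℤ) :
    ∃ (g : Sec n R a (cov n R i)) (u : Sec n R (-a) (cov n R i)),
      GenLocH8.IsGen (Twist.twist (𝒜 n R) a) (cov n R i) g ∧
      ∀ x : cov n R i, val g x * val u x = 1 := by
  have hf : (X i.down : MvPolynomial (Fin (n + 1)) R) ∈ 𝒜 n R 1 :=
    (mem_homogeneousSubmodule _ _).mpr (isHomogeneous_X R i.down)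
  have key : ∀ (k k' : ℤ) (_ : k = a) (_ : k' = -a)
      (g : Sec n R k (cov n R i)) (u : Sec n R k' (cov n R i)),
      GenLocH8.IsGen (Twist.twist (𝒜 n R) k) (cov n R i) g →
      (∀ x : cov n R i, val g x * val u x = 1) →
      ∃ (g : Sec n R a (cov n R i)) (u : Sec n R (-a) (cov n R i)),
        GenLocH8.IsGen (Twist.twist (𝒜 n R) a) (cov n R i) g ∧
        ∀ x : cov n R i, val g x * val u x = 1 := by
    rintro k k' rfl rfl g u hg h
    exact ⟨g, u, hg, h⟩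
  refine key (a * ((1 : ℕ) : ℤ)) (-a * ((1 : ℕ) : ℤ)) (by simp) (by simp)
    (Groth.Agent.ProjTw.genSec (𝒜 n R) hf a) (Groth.Agent.ProjTw.genSec (𝒜 n R) hf (-a))
    (Groth.Agent.ProjTw.isGen_genSec (𝒜 n R) one_pos hf a) (fun x => ?_)
  have h1 := Groth.Agent.ProjTw.genSec_val (𝒜 n R) hf a x
  have h2 := Groth.Agent.ProjTw.genSec_val (𝒜 n R) hf (-a) x
  show ((((Groth.Agent.ProjTw.genSec (𝒜 n R) hf a).1 x : Twist.twistAt (𝒜 n R) _ x.1) :
      Twist.Loc (𝒜 n R) x.1)) *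
    ((((Groth.Agent.ProjTw.genSec (𝒜 n R) hf (-a)).1 x : Twist.twistAt (𝒜 n R) _ x.1) :
      Twist.Loc (𝒜 n R) x.1)) = 1
  rw [h1, h2, Localization.mk_mul, ← Localization.mk_one, Localization.mk_eq_mk_iff,
    Localization.r_iff_exists]
  refine ⟨1, ?_⟩
  simp only [Submonoid.coe_mul, Submonoid.coe_one, one_mul, mul_one, neg_neg]
  ring

/-- the untwisted morphism `O(a + -a) ⟶ O(b + -a)` attached to `φ : O(a) ⟶ O(b)` -/
noncomputable def untw {a b : ℤ} (φ : Twist.twist (𝒜 n R) a ⟶ Twist.twist (𝒜 n R) b) :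
    Twist.twist (𝒜 n R) (a + -a) ⟶ Twist.twist (𝒜 n R) (b + -a) :=
  haveI := Groth.Agent.ProjTw.isIso_mulHom (𝒜 n R) (Groth.Agent.ProjTens.hcov' n R) a (-a)
  inv (Groth.Agent.ProjTw.mulHom (𝒜 n R) a (-a)) ≫
    TensH8.tmap φ (Twist.twist (𝒜 n R) (-a)) ≫ Groth.Agent.ProjTw.mulHom (𝒜 n R) b (-a)

lemma ap_untw {a b : ℤ} (φ : Twist.twist (𝒜 n R) a ⟶ Twist.twist (𝒜 n R) b)
    (V : (Proj (𝒜 n R)).Opens) (s : Γ(Twist.twist (𝒜 n R) a, V))
    (t : Γ(Twist.twist (𝒜 n R) (-a), V)) :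
    ap (untw φ) V (Groth.Agent.ProjTw.mulSec (𝒜 n R) a (-a) (op V) s t) =
      Groth.Agent.ProjTw.mulSec (𝒜 n R) b (-a) (op V) (ap φ V s) t := by
  haveI := Groth.Agent.ProjTw.isIso_mulHom (𝒜 n R) (Groth.Agent.ProjTens.hcov' n R) a (-a)
  rw [← Groth.Agent.ProjTw.mulHom_tmul, ← Groth.Agent.ProjTw.mulHom_tmul, ← TensH8.tmap_tmul]
  have h : Groth.Agent.ProjTw.mulHom (𝒜 n R) a (-a) ≫ untw φ =
      TensH8.tmap φ (Twist.twist (𝒜 n R) (-a)) ≫ Groth.Agent.ProjTw.mulHom (𝒜 n R) b (-a) := by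
    unfold untw
    rw [IsIso.hom_inv_id_assoc]
  exact congrArg (fun ψ => ap ψ V (SecTwist.tmul _ _ V s t)) h

/-- `φ` is multiplication by the polynomial `P` -/
def IsMulBy {a b : ℤ} (φ : Twist.twist (𝒜 n R) a ⟶ Twist.twist (𝒜 n R) b)
    (P : MvPolynomial (Fin (n + 1)) R) : Prop :=
  ∀ (V : (Proj (𝒜 n R)).Opens) (s : Sec n R a V) (x : V),
    val (show Sec n R b V from ap φ V s) x = Localization.mk P 1 * val s x

lemma val_smul' (d : ℤ) (V : (Proj (𝒜 n R)).Opens) (c : Γ(Proj (𝒜 n R), V))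
    (s : Sec n R d V) (x : V) :
    ∃ κ : Twist.Loc (𝒜 n R) x.1, ∀ (d' : ℤ) (s' : Sec n R d' V),
      val (show Sec n R d' V from
        (c • (show Γ(Twist.twist (𝒜 n R) d', V) from s') : Γ(Twist.twist (𝒜 n R) d', V))) x =
        κ * val s' x := by
  obtain ⟨c', rfl⟩ : ∃ c' : Twist.O (𝒜 := 𝒜 n R) (op V), c' = c := ⟨c, rfl⟩
  exact ⟨(c'.1 x).val, fun d' s' => Groth.Agent.ProjTw.smul_valN (𝒜 n R) d' (op V) c' s' x⟩

theorem exists_isMulBy (hn : 1 ≤ n) {a b : ℤ}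
    (φ : Twist.twist (𝒜 n R) a ⟶ Twist.twist (𝒜 n R) b) :
    ∃ (D : ℕ) (P : MvPolynomial (Fin (n + 1)) R), P ∈ 𝒜 n R D ∧ ((D : ℤ) + a = b ∨ P = 0) ∧
      IsMulBy φ P := by
  obtain ⟨o, ho⟩ := exists_one (n := n) (R := R) (a + -a) (by omega)
  obtain ⟨D, P, hP, hD, hval⟩ := exists_glob hn (b + -a)
    (show Sec n R (b + -a) ⊤ from ap (untw φ) ⊤ o)
  refine ⟨D, P, hP, ?_, ?_⟩
  · rcases hD with h | h
    · left; omega
    · right; exact h
  · intro V s x
    have hx : x.1 ∈ iSup (cov n R) := by rw [iSup_cov]; trivial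
    obtain ⟨i, hi⟩ := Opens.mem_iSup.mp hx
    obtain ⟨g, u, hg, hgu⟩ := exists_gen (R := R) i a
    have hWV : V ⊓ cov n R i ≤ V := inf_le_left
    have hWU : V ⊓ cov n R i ≤ cov n R i := inf_le_right
    obtain ⟨c, hc⟩ := (hg (V ⊓ cov n R i) hWU).1 (rF _ hWV s)
    -- the global section restricted to the standard open
    have h1 : rF (Twist.twist (𝒜 n R) (b + -a)) (le_top : cov n R i ≤ ⊤) (ap (untw φ) ⊤ o) =
        Groth.Agent.ProjTw.mulSec (𝒜 n R) b (-a) (op (cov n R i)) (ap φ (cov n R i) g) u := by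
      rw [← ap_untw, ← ap_rF]
      congr 1
      apply ext_val
      intro y
      exact (ho ⟨y.1, trivial⟩).trans (hgu y).symm
    have h2 : Localization.mk P 1 =
        val (show Sec n R b (cov n R i) from ap φ (cov n R i) g) ⟨x.1, hi⟩ * val u ⟨x.1, hi⟩ := by
      rw [← hval ⟨x.1, trivial⟩]
      exact congrArg (fun t : Sec n R (b + -a) (cov n R i) => val t ⟨x.1, hi⟩) h1
    obtain ⟨κ, hκ⟩ := val_smul' a (V ⊓ cov n R i) c (rF _ hWV s) ⟨x.1, x.2, hi⟩
    have h3 : val s x = κ * val g ⟨x.1, hi⟩ := by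
      have := hκ a (rF (Twist.twist (𝒜 n R) a) hWU g)
      have h4 : val (show Sec n R a (V ⊓ cov n R i) from rF _ hWV s) ⟨x.1, x.2, hi⟩ = _ :=
        (congrArg (fun t : Sec n R a (V ⊓ cov n R i) => val t ⟨x.1, x.2, hi⟩) hc).trans this
      exact h4
    have h5 : val (show Sec n R b V from ap φ V s) x =
        κ * val (show Sec n R b (cov n R i) from ap φ (cov n R i) g) ⟨x.1, hi⟩ := by
      have h6 : rF (Twist.twist (𝒜 n R) b) hWV (ap φ V s) =
          c • rF (Twist.twist (𝒜 n R) b) hWU (ap φ (cov n R i) g) := by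
        rw [← ap_rF, hc, ap_smul, ap_rF]
      have := hκ b (rF (Twist.twist (𝒜 n R) b) hWU (ap φ (cov n R i) g))
      exact (congrArg (fun t : Sec n R b (V ⊓ cov n R i) => val t ⟨x.1, x.2, hi⟩) h6).trans this
    rw [h5, h3, h2]
    have h7 := hgu ⟨x.1, hi⟩
    calc κ * val (show Sec n R b (cov n R i) from ap φ (cov n R i) g) ⟨x.1, hi⟩
        = κ * val (show Sec n R b (cov n R i) from ap φ (cov n R i) g) ⟨x.1, hi⟩ *
            (val g ⟨x.1, hi⟩ * val u ⟨x.1, hi⟩) := by rw [h7, mul_one]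
      _ = _ := by ring

theorem isMulBy_unique {a b : ℤ} {φ φ' : Twist.twist (𝒜 n R) a ⟶ Twist.twist (𝒜 n R) b}
    {P : MvPolynomial (Fin (n + 1)) R} (h : IsMulBy φ P) (h' : IsMulBy φ' P) : φ = φ' := by
  apply Scheme.Modules.hom_ext
  intro U
  ext s
  apply ext_val (n := n) (R := R) (d := b)
  intro x
  exact (h U s x).trans (h' U s x).symm

end Groth.Agent.ProjHom
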