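import Mathlib
import Groth.Prelude
import Groth.Agent.Lib.ProjHom1_helper9

/-!
# Multiplication morphisms `O(a) ⟶ O(b)` and their Laurent coordinates (helper9)
-/

set_option autoImplicit false
universe u
open CategoryTheory CategoryTheory.Limits AlgebraicGeometry TopologicalSpace Opposite MvPolynomial

namespace Groth.Agent.ProjHom

open Groth.Agent.ProjCech Groth.Agent.LaurentCoef QCohExtn QcqsLoc

variable {n : ℕ} {R : Type u} [CommRing R]

/-- multiplication by a homogeneous polynomial of degree `D`, as a morphism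
`O(a) ⟶ O(D + a)` -/
noncomputable def mulBy' (a : ℤ) (D : ℕ) (P : 𝒜 n R D) :
    Twist.twist (𝒜 n R) a ⟶ Twist.twist (𝒜 n R) ((D : ℤ) + a) :=
  Groth.Agent.FinGG.tmulLeft (Twist.twist (𝒜 n R) (D : ℤ)) (Twist.twist (𝒜 n R) a) (glob D P) ≫
    Groth.Agent.ProjTw.mulHom (𝒜 n R) (D : ℤ) a

theorem isMulBy_mulBy' (a : ℤ) (D : ℕ) (P : 𝒜 n R D) :
    IsMulBy (mulBy' a D P) P.1 := by
  intro V s x
  have h1 : ap (mulBy' a D P) V s =
        (Groth.Agent.ProjTw.mulSec (𝒜 n R) (D : ℤ) a (op V)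
          (rF (Twist.twist (𝒜 n R) (D : ℤ)) (le_top : V ≤ ⊤) (glob D P)) s) := by
    rw [← Groth.Agent.ProjTw.mulHom_tmul]
    rfl
  rw [h1]
  show val (glob D P) ⟨x.1, trivial⟩ * val s x = _
  rw [val_glob]
  congr 2

theorem exists_mulBy (a b : ℤ) (D : ℕ) (h : (D : ℤ) + a = b) (P : 𝒜 n R D) :
    ∃ φ : Twist.twist (𝒜 n R) a ⟶ Twist.twist (𝒜 n R) b, IsMulBy φ P.1 := by
  subst h
  exact ⟨mulBy' a D P, isMulBy_mulBy' a D P⟩

theorem isMulBy_zero (a b : ℤ) :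
    IsMulBy (0 : Twist.twist (𝒜 n R) a ⟶ Twist.twist (𝒜 n R) b) 0 := by
  intro V s x
  rw [Localization.mk_zero, zero_mul]
  rfl

/-- a morphism `O(a) ⟶ O(b)`, `n ≥ 1`, is zero or the multiplication by a homogeneous polynomial
of degree `b - a` -/
theorem eq_zero_or_exists_isMulBy (hn : 1 ≤ n) {a b : ℤ}
    (φ : Twist.twist (𝒜 n R) a ⟶ Twist.twist (𝒜 n R) b) :
    φ = 0 ∨ ∃ (D : ℕ) (P : 𝒜 n R D), (D : ℤ) + a = b ∧ IsMulBy φ P.1 := by
  obtain ⟨D, P, hP, hD, h⟩ := exists_isMulBy hn φ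
  rcases hD with hD | rfl
  · exact Or.inr ⟨D, ⟨P, hP⟩, hD, h⟩
  · exact Or.inl (isMulBy_unique h (isMulBy_zero a b))

lemma isRep_ap {a b : ℤ} {φ : Twist.twist (𝒜 n R) a ⟶ Twist.twist (𝒜 n R) b} {D : ℕ}
    {P : 𝒜 n R D} (hD : (D : ℤ) + a = b) (h : IsMulBy φ P.1) {V : (Proj (𝒜 n R)).Opens}
    {s : Sec n R a V} {β : MvPolynomial (Fin (n + 1)) R} {m : Fin (n + 1) →₀ ℕ}
    (hs : IsRep s β m) : IsRep (show Sec n R b V from ap φ V s) (P.1 * β) m := by
  obtain ⟨D', hb, hD', hv⟩ := hs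
  refine ⟨D + D', SetLike.mul_mem_graded P.2 hb, by push_cast; omega, fun x hx => ?_⟩
  rw [h V s x, hv x hx, Localization.mk_mul]
  congr 1
  exact one_mul _

section Lco

variable {I : Type*} [Fintype I]

lemma lco_shift (c : MvPolynomial I R) (m m' : I →₀ ℕ) (e : I → ℤ) :
    lco c (m + m') (fun i => e i - (m' i : ℤ)) = lco c m e := by
  have h : ∀ i, (e i - (m' i : ℤ)) + (((m + m') i : ℕ) : ℤ) = e i + (m i : ℤ) := by
    intro i
    rw [Finsupp.add_apply]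
    push_cast
    ring
  unfold lco
  simp only [h]

lemma lco_monomial_mul (c : R) (m' : I →₀ ℕ) (β : MvPolynomial I R) (m : I →₀ ℕ) (e : I → ℤ) :
    lco (monomial m' c * β) m e = c * lco β m (fun i => e i - (m' i : ℤ)) := by
  have h1 : monomial m' c * β = c • (β * monomial m' 1) := by
    rw [mul_comm, ← mul_smul_comm, smul_monomial, smul_eq_mul, mul_one]
  rw [h1, lco_smul, ← lco_shift (β * monomial m' 1) m m' e, lco_mul_monomial]

lemma lco_mul (P β : MvPolynomial I R) (m : I →₀ ℕ) (e : I → ℤ) :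
    lco (P * β) m e = ∑ m' ∈ P.support, coeff m' P * lco β m (fun i => e i - (m' i : ℤ)) := by
  conv_lhs => rw [P.as_sum, Finset.sum_mul, lco_sum]
  exact Finset.sum_congr rfl fun m' _ => lco_monomial_mul _ _ _ _ _

end Lco


end Groth.Agent.ProjHom
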