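import Mathlib
import Groth.Prelude
import Groth.Agent.Lib.ProjCech5_helper9
import Groth.Agent.Lib.ProjHom2_helper9

/-!
# Coordinates on the top Čech cohomology of `O(d)` on projective space (helper9)
-/

set_option autoImplicit false
universe u
open CategoryTheory CategoryTheory.Limits AlgebraicGeometry TopologicalSpace Opposite MvPolynomial

namespace Groth.Agent.ProjPair

open Groth.Agent.ProjCech Groth.Agent.LaurentCoef Groth.Agent.Lib.Cech

variable {R : Type u} [CommRing R] (q : ℕ) (d : ℤ)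

/-- the Čech complex of `O(d)` for the standard cover of `P^{q+1}` -/
noncomputable abbrev KK' : CochainComplex AddCommGrpCat.{u} ℕ :=
  (cechComplexFunctor (cov (q + 1) R)).obj (Coh.toAb (Twist.twist (𝒜 (q + 1) R) d)).obj

open Classical in
/-- the coordinate map on top cochains -/
noncomputable def thetaX : (KK' (R := R) q d).X (q + 1) →+ ((Fin (q + 2) → ℤ) →₀ R) :=
  (Finsupp.filterAddHom (fun e => e ∈ E0 (q + 1) d)).comp
    ((Phi (q + 1) R d (q + 1) (sig0.{u} (q + 1))).comp
      ((Pi.evalAddMonoidHom _ (sig0.{u} (q + 1))).comp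
        (Groth.Agent.Lib.Cech.cmp (Coh.toAb (Twist.twist (𝒜 (q + 1) R) d)).obj (cov (q + 1) R) (q + 1)).toAddMonoidHom))

open Classical in
lemma thetaX_apply (x : (KK' (R := R) q d).X (q + 1)) :
    thetaX q d x = Finsupp.filter (fun e => e ∈ E0 (q + 1) d)
      (Phi (q + 1) R d (q + 1) (sig0.{u} (q + 1))
        (Groth.Agent.Lib.Cech.cmp (Coh.toAb (Twist.twist (𝒜 (q + 1) R) d)).obj (cov (q + 1) R) (q + 1) x (sig0.{u} (q + 1)))) :=
  rfl

theorem exists_cechH_coord :
    ∃ e : CohTop.cechH (X := (Proj (𝒜 (q + 1) R)).toTopCat)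
        (Coh.toAb (Twist.twist (𝒜 (q + 1) R) d)).obj (cov (q + 1) R) (q + 1) →+
        ((Fin (q + 2) → ℤ) →₀ R),
      Function.Injective e ∧
      (∀ g : (Fin (q + 2) → ℤ) →₀ R, (∃ x, e x = g) ↔ ∀ ε ∈ g.support, ε ∈ E0 (q + 1) d) ∧
      ∀ z : (KK' (R := R) q d).cycles (q + 1),
        e (((KK' (R := R) q d).homologyπ (q + 1)).hom z) =
          thetaX (R := R) q d (((KK' (R := R) q d).iCycles (q + 1)).hom z) := by
  classical
  let P := (Coh.toAb (Twist.twist (𝒜 (q + 1) R) d)).obj
  let U := cov (q + 1) R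
  let K := KK' (R := R) q d
  let σ₀ := sig0.{u} (q + 1)
  have hσ₀ : Function.Bijective σ₀ := sig0_bijective
  let E₀ := E0 (q + 1) d
  have hM := isMono (n := q + 1) (R := R) d
  have hcard : Fintype.card (Idx.{u} (q + 1)) = q + 2 := by
    simp [Fintype.card_ulift, Fintype.card_fin]
  have hE₀ : ∀ e ∈ E₀, ∀ s : Set (Idx.{u} (q + 1)), Adm.{u} (q + 1) d s e → s = Set.univ :=
    fun e he s hA => E0_adm he s hA
  have hθX : ∀ x, thetaX (R := R) q d x = Finsupp.filter (fun e => e ∈ E₀)
      (Phi (q + 1) R d (q + 1) σ₀ (cmp P U (q + 1) x σ₀)) := fun x => rfl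
  have hθX_supp : ∀ x, ∀ e ∈ (thetaX (R := R) q d x).support, e ∈ E₀ := by
    intro x e he
    rw [hθX, Finsupp.support_filter, Finset.mem_filter] at he
    exact he.2
  have hθX_zero : ∀ x, thetaX (R := R) q d x = 0 ↔
      ∀ e ∈ E₀, Phi (q + 1) R d (q + 1) σ₀ (cmp P U (q + 1) x σ₀) e = 0 := by
    intro x
    rw [hθX]
    constructor
    · intro h e he
      have := congrArg (fun g => g e) h
      simpa [Finsupp.filter_apply, he] using this
    · intro h
      ext e
      rw [Finsupp.filter_apply]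
      split_ifs with he
      · exact h e he
      · rfl
  let θ' : K.cycles (q + 1) →+ ((Fin (q + 2) → ℤ) →₀ R) :=
    (thetaX (R := R) q d).comp (K.iCycles (q + 1)).hom
  have hθ' : ∀ z, θ' z = thetaX (R := R) q d ((K.iCycles (q + 1)).hom z) := fun z => rfl
  let π' : K.cycles (q + 1) →+ K.homology (q + 1) := (K.homologyπ (q + 1)).hom
  have hcmpd : ∀ (m : ℕ) (x : K.X m), cmp P U (m + 1) ((K.d m (m + 1)).hom x) =
      D P U m (cmp P U m x) := fun m x => cmp_d P U m x
  have hti : ∀ y : K.X q, (K.iCycles (q + 1)).hom ((K.toCycles q (q + 1)).hom y) =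
      (K.d q (q + 1)).hom y := fun y =>
    congrArg (fun f => f.hom y) (K.toCycles_i q (q + 1))
  -- the range
  have hrange : ∀ g : (Fin (q + 2) → ℤ) →₀ R, (∃ z, θ' z = g) ↔ ∀ ε ∈ g.support, ε ∈ E₀ := by
    intro g
    constructor
    · rintro ⟨z, rfl⟩
      exact hθX_supp _
    · intro hg
      obtain ⟨α, hα, hαg⟩ := CechMono.top_surj hM hcard σ₀ E₀ hσ₀
        (fun e he => E0_adm_univ he) g hg
      let x := (cmp P U (q + 1)).symm α
      have hx : cmp P U (q + 1) x = α := (cmp P U (q + 1)).apply_symm_apply α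
      have hdx : (K.d (q + 1) (q + 2)).hom x = 0 := by
        apply (cmp P U (q + 2)).injective
        rw [hcmpd, hx, hα, map_zero]
      obtain ⟨z, hz⟩ := exists_cycle K (q + 1) x hdx
      refine ⟨z, ?_⟩
      rw [hθ', hz, hθX, hx, hαg]
      apply Finsupp.filter_eq_self_iff _ _ |>.mpr
      intro e he
      exact hg e (Finsupp.mem_support_iff.mpr he)
  -- kernels
  have hker : ∀ z, π' z = 0 ↔ θ' z = 0 := by
    intro z
    constructor
    · intro hz
      obtain ⟨y, rfl⟩ := exists_toCycles K q z hz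
      rw [hθ', hti, hθX_zero]
      intro e he
      rw [hcmpd]
      exact CechMono.top_bdry hM hcard σ₀ E₀ hE₀ _ e he
    · intro hz
      have h1 : thetaX (R := R) q d ((K.iCycles (q + 1)).hom z) = 0 := hz
      rw [hθX_zero] at h1
      have hα : D P U (q + 1) (cmp P U (q + 1) ((K.iCycles (q + 1)).hom z)) = 0 := by
        rw [← hcmpd]
        have := congrArg (fun f => f.hom z) (K.iCycles_d (q + 1) (q + 2))
        have h3 : (K.d (q + 1) (q + 2)).hom ((K.iCycles (q + 1)).hom z) = 0 := this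
        rw [h3, map_zero]
      obtain ⟨β, hβ⟩ := CechMono.top_inj hM hcard σ₀ E₀ hE₀ hσ₀ (Jfun'.{u} (q + 1) d)
        (fun e j hj s hA => Jfun'_some hj s hA) (fun e he => Jfun'_none he) _ hα h1
      let y := (cmp P U q).symm β
      have hy : (K.toCycles q (q + 1)).hom y = z := by
        apply iCycles_injective K (q + 1)
        rw [hti]
        apply (cmp P U (q + 1)).injective
        rw [hcmpd, AddEquiv.apply_symm_apply, hβ]
      rw [← hy]
      exact congrArg (fun f => f.hom y) (K.toCycles_comp_homologyπ q (q + 1))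
  obtain ⟨e, he⟩ := LerayNat.exists_addEquiv_of_surj π' θ'.rangeRestrict
    (homologyπ_surjective K (q + 1)) θ'.rangeRestrict_surjective (by
      intro z
      rw [hker z]
      constructor
      · intro h
        exact Subtype.ext h
      · intro h
        exact congrArg Subtype.val h)
  refine ⟨(AddSubgroup.subtype _).comp e.toAddMonoidHom, ?_, ?_, ?_⟩
  · intro a b hab
    exact e.injective (Subtype.ext hab)
  · intro g
    rw [← hrange g]
    constructor
    · rintro ⟨x, rfl⟩
      obtain ⟨z, rfl⟩ := homologyπ_surjective K (q + 1) x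
      refine ⟨z, ?_⟩
      show θ' z = ((e (π' z) : θ'.range) : (Fin (q + 2) → ℤ) →₀ R)
      rw [he]
      rfl
    · rintro ⟨z, rfl⟩
      refine ⟨π' z, ?_⟩
      show ((e (π' z) : θ'.range) : (Fin (q + 2) → ℤ) →₀ R) = θ' z
      rw [he]
      rfl
  · intro z
    show ((e (π' z) : θ'.range) : (Fin (q + 2) → ℤ) →₀ R) = θ' z
    rw [he]
    rfl

end Groth.Agent.ProjPair
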