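import Mathlib
import Groth.Prelude
import Groth.Agent.Lib.ProjPair1_helper9
import Groth.Agent.Lib.LerayBi2_helper9

/-!
# Top cohomology of `O(d)` on projective space in coordinates, naturally in `d` (helper9)
-/

set_option autoImplicit false
universe u
open CategoryTheory CategoryTheory.Limits AlgebraicGeometry TopologicalSpace Opposite MvPolynomial

namespace Groth.Agent.ProjPair

open Groth.Agent.ProjCech Groth.Agent.LaurentCoef Groth.Agent.Lib.Cech Groth.Agent.ProjHom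
open QCohExtn QcqsLoc

variable {n : ℕ} {R : Type u} [CommRing R]

/-- a morphism of abelian sheaves `O(a) ⟶ O(b)` acting as the multiplication by `P` -/
def IsMulByAb {a b : ℤ}
    (ψ : Coh.toAb (Twist.twist (𝒜 n R) a) ⟶ Coh.toAb (Twist.twist (𝒜 n R) b))
    (P : MvPolynomial (Fin (n + 1)) R) : Prop :=
  ∀ (V : (Proj (𝒜 n R)).Opens) (s : Sec n R a V) (x : V),
    val (show Sec n R b V from (ψ.hom.app (op V)).hom s) x = Localization.mk P 1 * val s x

lemma isMulByAb_map {a b : ℤ} {φ : Twist.twist (𝒜 n R) a ⟶ Twist.twist (𝒜 n R) b}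
    {P : MvPolynomial (Fin (n + 1)) R} (h : IsMulBy φ P) :
    IsMulByAb ((SheafOfModules.toSheaf (Proj (𝒜 n R)).ringCatSheaf).map φ) P :=
  fun V s x => h V s x

lemma isMulByAb_mu (a : ℤ) (r : R) : IsMulByAb (mu (n := n) a r) (C r) :=
  fun V s x => val_mu a r V s x

lemma isRep_mulByAb {a b : ℤ}
    {ψ : Coh.toAb (Twist.twist (𝒜 n R) a) ⟶ Coh.toAb (Twist.twist (𝒜 n R) b)} {D : ℕ}
    {P : MvPolynomial (Fin (n + 1)) R} (hP : P ∈ 𝒜 n R D) (hD : (D : ℤ) + a = b)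
    (h : IsMulByAb ψ P) {V : (Proj (𝒜 n R)).Opens}
    {s : Sec n R a V} {β : MvPolynomial (Fin (n + 1)) R} {m : Fin (n + 1) →₀ ℕ}
    (hs : IsRep s β m) :
    IsRep (show Sec n R b V from (ψ.hom.app (op V)).hom s) (P * β) m := by
  obtain ⟨D', hb, hD', hv⟩ := hs
  refine ⟨D + D', SetLike.mul_mem_graded hP hb, by push_cast; omega, fun x hx => ?_⟩
  rw [h V s x, hv x hx, Localization.mk_mul]
  congr 1
  exact one_mul _

lemma PhiV_mulByAb {a b : ℤ}
    {ψ : Coh.toAb (Twist.twist (𝒜 n R) a) ⟶ Coh.toAb (Twist.twist (𝒜 n R) b)} {D : ℕ}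
    {P : MvPolynomial (Fin (n + 1)) R} (hP : P ∈ 𝒜 n R D) (hD : (D : ℤ) + a = b)
    (h : IsMulByAb ψ P) (V : (Proj (𝒜 n R)).Opens) (hV : DT n R ≤ V) (s : Sec n R a V)
    (e : Fin (n + 1) → ℤ) :
    PhiV b V hV ((ψ.hom.app (op V)).hom s) e =
      ∑ m' ∈ P.support, coeff m' P * PhiV a V hV s (fun i => e i - (m' i : ℤ)) := by
  have hnat : rs hV ((ψ.hom.app (op V)).hom s) =
      (ψ.hom.app (op (DT n R))).hom (rs hV s) :=
    (Groth.Agent.Lib.Cech.res_app (X := (Proj (𝒜 n R)).toTopCat) _ ψ.hom hV s).symm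
  obtain ⟨m, β, hβ⟩ := exists_repT (rs hV s)
  show phiFun (rs hV _) e = ∑ m' ∈ P.support, coeff m' P * phiFun (rs hV s) _
  rw [hnat, phiFun_eq (isRep_mulByAb hP hD h hβ), phiFun_eq hβ, Lco_apply, lco_mul]
  rfl

lemma sub_mem_E0 {q : ℕ} {a b : ℤ} {D : ℕ} {P : MvPolynomial (Fin (q + 2)) R}
    (hP : P ∈ 𝒜 (q + 1) R D) (hD : (D : ℤ) + a = b) {e : Fin (q + 2) → ℤ}
    (he : e ∈ E0 (q + 1) b) {m' : Fin (q + 2) →₀ ℕ} (hm' : m' ∈ P.support) :
    (fun i => e i - (m' i : ℤ)) ∈ E0 (q + 1) a := by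
  have hh : P.IsHomogeneous D := (mem_homogeneousSubmodule _ _).mp hP
  have hdeg : m'.degree = D := by
    by_contra hne
    exact (mem_support_iff.mp hm') (hh.coeff_eq_zero hne)
  obtain ⟨h1, h2⟩ := he
  refine ⟨?_, fun i => ?_⟩
  · rw [Finset.sum_sub_distrib, h1, sum_cast_eq_degree, hdeg]
    omega
  · have := h2 i
    have h3 : (0 : ℤ) ≤ (m' i : ℤ) := Int.natCast_nonneg _
    show e i - (m' i : ℤ) < 0
    omega

open Classical in
/-- naturality of the top Čech coordinates for morphisms acting as polynomial multiplications -/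
lemma coord_nat (q : ℕ) {a b : ℤ}
    {ψ : Coh.toAb (Twist.twist (𝒜 (q + 1) R) a) ⟶ Coh.toAb (Twist.twist (𝒜 (q + 1) R) b)}
    {D : ℕ} {P : MvPolynomial (Fin (q + 2)) R} (hP : P ∈ 𝒜 (q + 1) R D)
    (hD : (D : ℤ) + a = b) (hψ : IsMulByAb ψ P)
    (ea : CohTop.cechH (X := (Proj (𝒜 (q + 1) R)).toTopCat)
        (Coh.toAb (Twist.twist (𝒜 (q + 1) R) a)).obj (cov (q + 1) R) (q + 1) →+
        ((Fin (q + 2) → ℤ) →₀ R))
    (hea : ∀ z : (KK' (R := R) q a).cycles (q + 1),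
        ea (((KK' (R := R) q a).homologyπ (q + 1)).hom z) =
          thetaX q a (((KK' (R := R) q a).iCycles (q + 1)).hom z))
    (eb : CohTop.cechH (X := (Proj (𝒜 (q + 1) R)).toTopCat)
        (Coh.toAb (Twist.twist (𝒜 (q + 1) R) b)).obj (cov (q + 1) R) (q + 1) →+
        ((Fin (q + 2) → ℤ) →₀ R))
    (heb : ∀ z : (KK' (R := R) q b).cycles (q + 1),
        eb (((KK' (R := R) q b).homologyπ (q + 1)).hom z) =
          thetaX q b (((KK' (R := R) q b).iCycles (q + 1)).hom z))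
    (x : CohTop.cechH (X := (Proj (𝒜 (q + 1) R)).toTopCat)
        (Coh.toAb (Twist.twist (𝒜 (q + 1) R) a)).obj (cov (q + 1) R) (q + 1))
    (e : Fin (q + 2) → ℤ) (he : e ∈ E0 (q + 1) b) :
    eb ((LerayNat.cechMap (cov (q + 1) R) ψ (q + 1)).hom x) e =
      ∑ m' ∈ P.support, coeff m' P * ea x (fun i => e i - (m' i : ℤ)) := by
  obtain ⟨z, rfl⟩ := homologyπ_surjective (KK' (R := R) q a) (q + 1) x
  let f : KK' (R := R) q a ⟶ KK' (R := R) q b := (cechComplexFunctor (cov (q + 1) R)).map ψ.hom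
  have h1 : (LerayNat.cechMap (cov (q + 1) R) ψ (q + 1)).hom
      (((KK' (R := R) q a).homologyπ (q + 1)).hom z) =
      ((KK' (R := R) q b).homologyπ (q + 1)).hom
        ((HomologicalComplex.cyclesMap f (q + 1)).hom z) :=
    congrArg (fun g => g.hom z) (HomologicalComplex.homologyπ_naturality f (q + 1))
  have h2 : ((KK' (R := R) q b).iCycles (q + 1)).hom
      ((HomologicalComplex.cyclesMap f (q + 1)).hom z) =
      (f.f (q + 1)).hom (((KK' (R := R) q a).iCycles (q + 1)).hom z) :=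
    congrArg (fun g => g.hom z) (HomologicalComplex.cyclesMap_i f (q + 1))
  rw [h1, heb, hea, h2, thetaX_apply, thetaX_apply, cmp_map, mapC_apply, Finsupp.filter_apply,
    if_pos he]
  show PhiV b _ (DT_le_iInf (sig0.{u} (q + 1))) _ e = _
  rw [PhiV_mulByAb hP hD hψ]
  refine Finset.sum_congr rfl fun m' hm' => ?_
  rw [Finsupp.filter_apply, if_pos (sub_mem_E0 hP hD he hm')]
  rfl

lemma sum_C_support {I : Type*} (r : R) (F : (I →₀ ℕ) → R) :
    ∑ m' ∈ (C r : MvPolynomial I R).support, coeff m' (C r : MvPolynomial I R) * F m' =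
      r * F 0 := by
  classical
  by_cases hr : r = 0
  · subst hr
    simp
  · rw [C_apply, support_monomial, if_neg hr, Finset.sum_singleton, coeff_monomial, if_pos rfl]

open Classical in
/-- the coordinates are `R`-linear -/
lemma coord_mu (q : ℕ) (a : ℤ)
    (ea : CohTop.cechH (X := (Proj (𝒜 (q + 1) R)).toTopCat)
        (Coh.toAb (Twist.twist (𝒜 (q + 1) R) a)).obj (cov (q + 1) R) (q + 1) →+
        ((Fin (q + 2) → ℤ) →₀ R))
    (hrange : ∀ x, ∀ ε ∈ (ea x).support, ε ∈ E0 (q + 1) a)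
    (hea : ∀ z : (KK' (R := R) q a).cycles (q + 1),
        ea (((KK' (R := R) q a).homologyπ (q + 1)).hom z) =
          thetaX q a (((KK' (R := R) q a).iCycles (q + 1)).hom z))
    (r : R) (x : CohTop.cechH (X := (Proj (𝒜 (q + 1) R)).toTopCat)
        (Coh.toAb (Twist.twist (𝒜 (q + 1) R) a)).obj (cov (q + 1) R) (q + 1)) :
    ea ((LerayNat.cechMap (cov (q + 1) R) (mu a r) (q + 1)).hom x) = r • ea x := by
  ext e
  rw [Finsupp.smul_apply, smul_eq_mul]
  by_cases he : e ∈ E0 (q + 1) a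
  · have hP : (C r : MvPolynomial (Fin (q + 2)) R) ∈ 𝒜 (q + 1) R 0 :=
      (mem_homogeneousSubmodule _ _).mpr (isHomogeneous_C _ r)
    rw [coord_nat q hP (by simp) (isMulByAb_mu a r) ea hea ea hea x e he,
      sum_C_support r (fun m' => ea x (fun i => e i - (m' i : ℤ)))]
    congr 2
    funext i
    simp
  · have h1 : ∀ y, ea y e = 0 := by
      intro y
      by_contra hne
      exact he (hrange y e (Finsupp.mem_support_iff.mpr hne))
    rw [h1, h1, mul_zero]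

set_option maxHeartbeats 16000000 in
/-- coordinates on the top `Ext` groups computing `H^{q+1}(P^{q+1}, O(a))` and
`H^{q+1}(P^{q+1}, O(b))`, compatible with all morphisms `O(a) ⟶ O(b)` -/
theorem exists_coords_ext (q : ℕ) (a b : ℤ) :
    ∃ (ca : Abelian.Ext (KK (Proj (𝒜 (q + 1) R)).toTopCat)
          (Coh.toAb (Twist.twist (𝒜 (q + 1) R) a)) (q + 1) →+ ((Fin (q + 2) → ℤ) →₀ R))
      (cb : Abelian.Ext (KK (Proj (𝒜 (q + 1) R)).toTopCat)
          (Coh.toAb (Twist.twist (𝒜 (q + 1) R) b)) (q + 1) →+ ((Fin (q + 2) → ℤ) →₀ R)),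
      Function.Injective ca ∧ Function.Injective cb ∧
      (∀ g : (Fin (q + 2) → ℤ) →₀ R, (∃ y, ca y = g) ↔ ∀ ε ∈ g.support, ε ∈ E0 (q + 1) a) ∧
      (∀ g : (Fin (q + 2) → ℤ) →₀ R, (∃ y, cb y = g) ↔ ∀ ε ∈ g.support, ε ∈ E0 (q + 1) b) ∧
      (∀ (r : R) y, ca (y.comp (Abelian.Ext.mk₀ (mu a r)) (add_zero _)) = r • ca y) ∧
      (∀ (r : R) y, cb (y.comp (Abelian.Ext.mk₀ (mu b r)) (add_zero _)) = r • cb y) ∧
      ∀ (ψ : Coh.toAb (Twist.twist (𝒜 (q + 1) R) a) ⟶ Coh.toAb (Twist.twist (𝒜 (q + 1) R) b))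
        (D : ℕ) (P : MvPolynomial (Fin (q + 2)) R), P ∈ 𝒜 (q + 1) R D → (D : ℤ) + a = b →
        IsMulByAb ψ P → ∀ y (e : Fin (q + 2) → ℤ), e ∈ E0 (q + 1) b →
          cb (y.comp (Abelian.Ext.mk₀ ψ) (add_zero _)) e =
            ∑ m' ∈ P.support, coeff m' P * ca y (fun i => e i - (m' i : ℤ)) := by
  classical
  haveI : (Twist.twist (𝒜 (q + 1) R) a).IsQuasicoherent :=
    Groth.Agent.ProjTw.isQuasicoherent_twist (𝒜 (q + 1) R) a
  haveI : (Twist.twist (𝒜 (q + 1) R) b).IsQuasicoherent :=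
    Groth.Agent.ProjTw.isQuasicoherent_twist (𝒜 (q + 1) R) b
  have hyp : ∀ (d : ℤ) [(Twist.twist (𝒜 (q + 1) R) d).IsQuasicoherent]
      (m : ℕ) (σ : Fin (m + 1) → Idx.{u} (q + 1)) (p : ℕ)
      (ξ : Abelian.Ext (fr (X := (Proj (𝒜 (q + 1) R)).toTopCat) (⨅ j, cov (q + 1) R (σ j)))
        (Coh.toAb (Twist.twist (𝒜 (q + 1) R) d)) (p + 1)), ξ = 0 := by
    intro d _ m σ p ξ
    apply ext_fr_eq_zero_of_isAffineOpen (Twist.twist (𝒜 (q + 1) R) d) _ _ p ξ
    rw [iInf_cov]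
    exact isAffineOpen_mon (msig_ne_zero σ)
  obtain ⟨S₁, S₂, h12, h11, h22⟩ := LerayBi.leray_bi_KK (X := (Proj (𝒜 (q + 1) R)).toTopCat)
    (cov (q + 1) R) iSup_cov (q + 1) (Coh.toAb (Twist.twist (𝒜 (q + 1) R) a))
    (Coh.toAb (Twist.twist (𝒜 (q + 1) R) b)) (hyp a) (hyp b)
  obtain ⟨ea, hea_inj, hea_range, hea⟩ := exists_cechH_coord (R := R) q a
  obtain ⟨eb, heb_inj, heb_range, heb⟩ := exists_cechH_coord (R := R) q b
  have hea_supp : ∀ x, ∀ ε ∈ (ea x).support, ε ∈ E0 (q + 1) a :=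
    fun x => (hea_range (ea x)).mp ⟨x, rfl⟩
  have heb_supp : ∀ x, ∀ ε ∈ (eb x).support, ε ∈ E0 (q + 1) b :=
    fun x => (heb_range (eb x)).mp ⟨x, rfl⟩
  refine ⟨ea.comp S₁.toAddMonoidHom, eb.comp S₂.toAddMonoidHom, ?_, ?_, ?_, ?_, ?_, ?_, ?_⟩
  · intro y y' h
    exact S₁.injective (hea_inj h)
  · intro y y' h
    exact S₂.injective (heb_inj h)
  · intro g
    rw [← hea_range g]
    constructor
    · rintro ⟨y, rfl⟩
      exact ⟨_, rfl⟩
    · rintro ⟨x, rfl⟩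
      refine ⟨S₁.symm x, ?_⟩
      show ea (S₁ (S₁.symm x)) = ea x
      rw [AddEquiv.apply_symm_apply]
  · intro g
    rw [← heb_range g]
    constructor
    · rintro ⟨y, rfl⟩
      exact ⟨_, rfl⟩
    · rintro ⟨x, rfl⟩
      refine ⟨S₂.symm x, ?_⟩
      show eb (S₂ (S₂.symm x)) = eb x
      rw [AddEquiv.apply_symm_apply]
  · intro r y
    show ea (S₁ (y.comp (Abelian.Ext.mk₀ (mu a r)) (add_zero _))) = r • ea (S₁ y)
    rw [h11, coord_mu q a ea hea_supp hea]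
  · intro r y
    show eb (S₂ (y.comp (Abelian.Ext.mk₀ (mu b r)) (add_zero _))) = r • eb (S₂ y)
    rw [h22, coord_mu q b eb heb_supp heb]
  · intro ψ D P hP hD hψ y e he
    show eb (S₂ (y.comp (Abelian.Ext.mk₀ ψ) (add_zero _))) e =
      ∑ m' ∈ P.support, coeff m' P * ea (S₁ y) (fun i => e i - (m' i : ℤ))
    rw [h12, coord_nat q hP hD hψ ea hea eb heb _ e he]

/-- **coordinates on `H^{q+1}(P^{q+1}, O(a))` and `H^{q+1}(P^{q+1}, O(b))`**, compatible with all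
morphisms `O(a) ⟶ O(b)` -/
theorem exists_coords (q : ℕ) (a b : ℤ) :
    ∃ (ca : Coh.HH (CohB1.ProjSpace (q + 1) R) (Twist.twistProjSpace (q + 1) R a) (q + 1) →ₗ[R]
          ((Fin (q + 2) → ℤ) →₀ R))
      (cb : Coh.HH (CohB1.ProjSpace (q + 1) R) (Twist.twistProjSpace (q + 1) R b) (q + 1) →ₗ[R]
          ((Fin (q + 2) → ℤ) →₀ R)),
      Function.Injective ca ∧ Function.Injective cb ∧
      (∀ g : (Fin (q + 2) → ℤ) →₀ R, (∃ y, ca y = g) ↔ ∀ ε ∈ g.support, ε ∈ E0 (q + 1) a) ∧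
      (∀ g : (Fin (q + 2) → ℤ) →₀ R, (∃ y, cb y = g) ↔ ∀ ε ∈ g.support, ε ∈ E0 (q + 1) b) ∧
      ∀ (φ : Twist.twist (𝒜 (q + 1) R) a ⟶ Twist.twist (𝒜 (q + 1) R) b) (D : ℕ)
        (P : 𝒜 (q + 1) R D), (D : ℤ) + a = b → IsMulBy φ P.1 →
        ∀ (y : Coh.HH (CohB1.ProjSpace (q + 1) R) (Twist.twistProjSpace (q + 1) R a) (q + 1))
          (e : Fin (q + 2) → ℤ), e ∈ E0 (q + 1) b →
          cb (Sheaf.H.map ((SheafOfModules.toSheaf (Proj (𝒜 (q + 1) R)).ringCatSheaf).map φ)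
            (q + 1) y) e =
            ∑ m' ∈ P.1.support, coeff m' P.1 * ca y (fun i => e i - (m' i : ℤ)) := by
  obtain ⟨ca, cb, hca, hcb, hra, hrb, hma, hmb, hnat⟩ := exists_coords_ext (R := R) q a b
  refine ⟨{ toFun := fun y => ca y
            map_add' := fun y y' => ca.map_add y y'
            map_smul' := fun r y => hma r y },
          { toFun := fun y => cb y
            map_add' := fun y y' => cb.map_add y y'
            map_smul' := fun r y => hmb r y }, hca, hcb, hra, hrb, ?_⟩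
  intro φ D P hD hφ y e he
  exact hnat _ D P.1 P.2 hD (isMulByAb_map hφ) y e he

end Groth.Agent.ProjPair
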