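import Mathlib
import Groth.Prelude
import Groth.Agent.Lib.ProjPair2_helper9

/-!
# The duality pairing on projective space, in coordinates (helper9)
-/

set_option autoImplicit false
universe u
open CategoryTheory CategoryTheory.Limits AlgebraicGeometry TopologicalSpace Opposite MvPolynomial

namespace Groth.Agent.ProjPair

open Groth.Agent.ProjCech Groth.Agent.LaurentCoef Groth.Agent.ProjHom

section General

variable {R : Type*} [CommRing R] {H : Type*} [AddCommGroup H] [Module R H] {ι : Type*}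

/-- a linear form on a module with coordinates in finitely supported functions is given by
coefficients -/
lemma exists_kappa (E : Set ι) (c : H →ₗ[R] (ι →₀ R)) (hc : Function.Injective c)
    (hr : ∀ g : ι →₀ R, (∃ y, c y = g) ↔ ∀ ε ∈ g.support, ε ∈ E) (ψ : H →ₗ[R] R) :
    ∃ κ : ι → R, ∀ x, ψ x = (c x).sum (fun e r => r * κ e) := by
  classical
  have hy : ∀ e : ι, ∃ y, e ∈ E → c y = Finsupp.single e 1 := by
    intro e
    by_cases he : e ∈ E
    · obtain ⟨y, hy⟩ := (hr (Finsupp.single e 1)).mpr (by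
        intro ε hε
        have := Finsupp.support_single_subset hε
        rw [Finset.mem_singleton] at this
        rw [this]; exact he)
      exact ⟨y, fun _ => hy⟩
    · exact ⟨0, fun h => absurd h he⟩
  choose y hy using hy
  refine ⟨fun e => ψ (y e), fun x => ?_⟩
  have hsupp : ∀ ε ∈ (c x).support, ε ∈ E := (hr (c x)).mp ⟨x, rfl⟩
  have hx : x = (c x).sum (fun e r => r • y e) := by
    apply hc
    rw [Finsupp.sum, map_sum]
    conv_lhs => rw [← Finsupp.sum_single (c x)]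
    rw [Finsupp.sum]
    refine Finset.sum_congr rfl fun e he => ?_
    rw [map_smul, hy e (hsupp e he), Finsupp.smul_single, smul_eq_mul, mul_one]
  conv_lhs => rw [hx]
  rw [Finsupp.sum, map_sum, Finsupp.sum]
  refine Finset.sum_congr rfl fun e _ => ?_
  rw [map_smul, smul_eq_mul]

end General

section Proj

variable {R : Type u} [CommRing R] (q : ℕ)

/-- the twist of the dualizing module of `P^{q+1}` -/
abbrev omg (q : ℕ) : ℤ := -((((q + 1 : ℕ) : ℤ)) + 1)

/-- the reflection `m ↦ -1 - m` on exponents -/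
def rho {q : ℕ} (m' : Fin (q + 2) →₀ ℕ) : Fin (q + 2) → ℤ := fun i => -1 - (m' i : ℤ)

lemma rho_injective {q : ℕ} : Function.Injective (rho (q := q)) := by
  intro m m' h
  ext i
  have := congrFun h i
  unfold rho at this
  omega

lemma mem_E0_omg {q : ℕ} (e : Fin (q + 2) → ℤ) :
    e ∈ E0 (q + 1) (omg q) ↔ e = fun _ => -1 := by
  constructor
  · rintro ⟨h1, h2⟩
    have h3 : ∑ i, (e i + 1) = 0 := by
      rw [Finset.sum_add_distrib, h1]
      simp [omg]
      ring
    have h4 := (Finset.sum_eq_zero_iff_of_nonpos (fun i _ => by have := h2 i; omega)).mp h3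
    funext i
    have := h4 i (Finset.mem_univ i)
    omega
  · rintro rfl
    refine ⟨by simp [omg], fun i => by norm_num⟩

lemma rho_mem_E0 {q : ℕ} {a : ℤ} {D : ℕ} (hD : (D : ℤ) + a = omg q)
    {m' : Fin (q + 2) →₀ ℕ} (hm : m'.degree = D) : rho m' ∈ E0 (q + 1) a := by
  refine ⟨?_, fun i => ?_⟩
  · unfold rho
    rw [Finset.sum_sub_distrib, sum_cast_eq_degree, hm]
    simp [omg] at hD ⊢
    omega
  · unfold rho
    have : (0 : ℤ) ≤ (m' i : ℤ) := Int.natCast_nonneg _
    omega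

lemma exists_rho {q : ℕ} {a : ℤ} {D : ℕ} (hD : (D : ℤ) + a = omg q)
    {e : Fin (q + 2) → ℤ} (he : e ∈ E0 (q + 1) a) :
    ∃ m' : Fin (q + 2) →₀ ℕ, m'.degree = D ∧ rho m' = e := by
  obtain ⟨h1, h2⟩ := he
  refine ⟨toNatFs (fun i => -1 - e i), ?_, ?_⟩
  · have h3 : ((toNatFs (fun i => -1 - e i)).degree : ℤ) = D := by
      rw [← sum_cast_eq_degree]
      have : ∀ i, ((toNatFs (fun i => -1 - e i) i : ℕ) : ℤ) = -1 - e i := by
        intro i
        rw [toNatFs_apply]
        exact Int.toNat_of_nonneg (by have := h2 i; omega)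
      rw [Finset.sum_congr rfl (fun i _ => this i), Finset.sum_sub_distrib, h1]
      simp [omg] at hD ⊢
      omega
    exact_mod_cast h3
  · funext i
    unfold rho
    rw [toNatFs_apply, Int.toNat_of_nonneg (by have := h2 i; omega)]
    ring

/-- a homogeneous polynomial with prescribed coefficients -/
lemma exists_poly (D : ℕ) (κ : (Fin (q + 2) →₀ ℕ) → R) :
    ∃ P : 𝒜 (q + 1) R D, ∀ m' : Fin (q + 2) →₀ ℕ,
      coeff m' P.1 = if m'.degree = D then κ m' else 0 := by
  classical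
  have hfin : {f : Fin (q + 2) →₀ ℕ | f.degree = D}.Finite :=
    (Finsupp.finite_of_degree_le D).subset (fun f hf => le_of_eq hf)
  refine ⟨⟨∑ m' ∈ hfin.toFinset, monomial m' (κ m'), ?_⟩, fun m' => ?_⟩
  · apply Submodule.sum_mem
    intro m' hm'
    rw [Set.Finite.mem_toFinset] at hm'
    exact (mem_homogeneousSubmodule _ _).mpr (isHomogeneous_monomial _ hm')
  · show coeff m' (∑ m'' ∈ hfin.toFinset, monomial m'' (κ m'')) = _
    rw [coeff_sum]
    simp only [coeff_monomial]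
    rw [Finset.sum_ite_eq']
    simp only [Set.Finite.mem_toFinset, Set.mem_ofPred_eq]

lemma degree_of_mem_support {D : ℕ} (P : 𝒜 (q + 1) R D) {m' : Fin (q + 2) →₀ ℕ}
    (hm : m' ∈ P.1.support) : m'.degree = D := by
  have hh : P.1.IsHomogeneous D := (mem_homogeneousSubmodule _ _).mp P.2
  by_contra hne
  exact (mem_support_iff.mp hm) (hh.coeff_eq_zero hne)

lemma sum_reindex {a : ℤ} {D : ℕ} (hD : (D : ℤ) + a = omg q) (P : 𝒜 (q + 1) R D)
    (κ' : (Fin (q + 2) → ℤ) → R)
    (hP : ∀ m' : Fin (q + 2) →₀ ℕ, m'.degree = D → coeff m' P.1 = κ' (rho m'))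
    (g : (Fin (q + 2) → ℤ) →₀ R) (hg : ∀ ε ∈ g.support, ε ∈ E0 (q + 1) a) :
    g.sum (fun e r => r * κ' e) = ∑ m' ∈ P.1.support, coeff m' P.1 * g (rho m') := by
  classical
  have hex : ∀ e ∈ g.support, ∃ m' : Fin (q + 2) →₀ ℕ, m'.degree = D ∧ rho m' = e :=
    fun e he => exists_rho hD (hg e he)
  choose! j hj using hex
  rw [Finsupp.sum]
  refine Finset.sum_bij_ne_zero (fun e _ _ => j e) ?_ ?_ ?_ ?_
  · intro e he hne
    rw [mem_support_iff, hP _ (hj e he).1, (hj e he).2]
    exact right_ne_zero_of_mul hne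
  · intro e₁ h₁ _ e₂ h₂ _ h
    rw [← (hj e₁ h₁).2, ← (hj e₂ h₂).2, h]
  · intro m' hm' hne
    have hdeg := degree_of_mem_support q P hm'
    have hg' : rho m' ∈ g.support := Finsupp.mem_support_iff.mpr (right_ne_zero_of_mul hne)
    refine ⟨rho m', hg', ?_, ?_⟩
    · rw [← hP m' hdeg, mul_comm]
      exact hne
    · exact rho_injective (hj _ hg').2
  · intro e he _
    rw [hP _ (hj e he).1, (hj e he).2, mul_comm]

lemma exists_deg_of_mem_E0 {a : ℤ} {e : Fin (q + 2) → ℤ} (he : e ∈ E0 (q + 1) a) :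
    ∃ D : ℕ, (D : ℤ) + a = omg q := by
  obtain ⟨h1, h2⟩ := he
  have h3 : ∑ i, (e i + 1) ≤ 0 := Finset.sum_nonpos (fun i _ => by have := h2 i; omega)
  rw [Finset.sum_add_distrib, h1] at h3
  simp at h3
  refine ⟨(omg q - a).toNat, ?_⟩
  rw [Int.toNat_of_nonneg (by simp [omg]; omega)]
  ring

/-- **the pairing in coordinates**: every linear form on `H^{q+1}(O(a))` is `x ↦ (c_ω H(φ) x)(-1)`
for a unique `φ : O(a) ⟶ ω` -/
theorem pairing_aux {a : ℤ}
    (ca : Coh.HH (CohB1.ProjSpace (q + 1) R) (Twist.twistProjSpace (q + 1) R a) (q + 1) →ₗ[R]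
      ((Fin (q + 2) → ℤ) →₀ R))
    (cb : Coh.HH (CohB1.ProjSpace (q + 1) R) (Twist.twistProjSpace (q + 1) R (omg q)) (q + 1)
      →ₗ[R] ((Fin (q + 2) → ℤ) →₀ R))
    (hca : Function.Injective ca)
    (hra : ∀ g : (Fin (q + 2) → ℤ) →₀ R, (∃ y, ca y = g) ↔ ∀ ε ∈ g.support, ε ∈ E0 (q + 1) a)
    (hnat : ∀ (φ : Twist.twist (𝒜 (q + 1) R) a ⟶ Twist.twist (𝒜 (q + 1) R) (omg q)) (D : ℕ)
        (P : 𝒜 (q + 1) R D), (D : ℤ) + a = omg q → IsMulBy φ P.1 →
        ∀ (y : Coh.HH (CohB1.ProjSpace (q + 1) R) (Twist.twistProjSpace (q + 1) R a) (q + 1))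
          (e : Fin (q + 2) → ℤ), e ∈ E0 (q + 1) (omg q) →
          cb (Sheaf.H.map ((SheafOfModules.toSheaf (Proj (𝒜 (q + 1) R)).ringCatSheaf).map φ)
            (q + 1) y) e =
            ∑ m' ∈ P.1.support, coeff m' P.1 * ca y (fun i => e i - (m' i : ℤ)))
    (ψ : Coh.HH (CohB1.ProjSpace (q + 1) R) (Twist.twistProjSpace (q + 1) R a) (q + 1) →ₗ[R] R) :
    ∃! φ : Twist.twist (𝒜 (q + 1) R) a ⟶ Twist.twist (𝒜 (q + 1) R) (omg q),
      ∀ x, ψ x = cb (Sheaf.H.map
        ((SheafOfModules.toSheaf (Proj (𝒜 (q + 1) R)).ringCatSheaf).map φ) (q + 1) x)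
          (fun _ => -1) := by
  classical
  obtain ⟨κ', hκ'⟩ := exists_kappa (E0 (q + 1) a) ca hca hra ψ
  have hm1 : (fun _ => -1 : Fin (q + 2) → ℤ) ∈ E0 (q + 1) (omg q) := (mem_E0_omg _).mpr rfl
  have hsupp : ∀ x, ∀ ε ∈ (ca x).support, ε ∈ E0 (q + 1) a := fun x => (hra (ca x)).mp ⟨x, rfl⟩
  by_cases hn : ∃ D : ℕ, (D : ℤ) + a = omg q
  · obtain ⟨D, hD⟩ := hn
    obtain ⟨P, hP⟩ := exists_poly (R := R) q D (fun m' => κ' (rho m'))
    obtain ⟨φ, hφ⟩ := exists_mulBy a (omg q) D hD P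
    -- the formula for any multiplication morphism
    have hform : ∀ (φ' : Twist.twist (𝒜 (q + 1) R) a ⟶ Twist.twist (𝒜 (q + 1) R) (omg q))
        (P' : 𝒜 (q + 1) R D), IsMulBy φ' P'.1 → ∀ x,
        cb (Sheaf.H.map ((SheafOfModules.toSheaf (Proj (𝒜 (q + 1) R)).ringCatSheaf).map φ')
          (q + 1) x) (fun _ => -1) = ∑ m' ∈ P'.1.support, coeff m' P'.1 * ca x (rho m') :=
      fun φ' P' hφ' x => hnat φ' D P' hD hφ' x _ hm1
    refine ⟨φ, fun x => ?_, fun φ' hφ' => ?_⟩
    · rw [hform φ P hφ x, hκ' x]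
      exact sum_reindex q hD P κ' (fun m' hm => by rw [hP, if_pos hm]) (ca x) (hsupp x)
    · -- uniqueness
      obtain ⟨P', hP'⟩ : ∃ P' : 𝒜 (q + 1) R D, IsMulBy φ' P'.1 := by
        rcases eq_zero_or_exists_isMulBy (Nat.le_add_left 1 q) φ' with h0 | ⟨D', P', hD', h'⟩
        · exact ⟨0, by rw [h0]; exact isMulBy_zero a (omg q)⟩
        · have hDD : D' = D := by
            have : (D' : ℤ) = D := by omega
            exact_mod_cast this
          subst hDD
          exact ⟨P', h'⟩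
      have hcoef : ∀ m' : Fin (q + 2) →₀ ℕ, coeff m' P'.1 = coeff m' P.1 := by
        intro m'
        by_cases hm : m'.degree = D
        · obtain ⟨y, hy⟩ := (hra (Finsupp.single (rho m') 1)).mpr (by
            intro ε hε
            have := Finsupp.support_single_subset hε
            rw [Finset.mem_singleton] at this
            rw [this]
            exact rho_mem_E0 hD hm)
          have h1 := hφ' y
          rw [hform φ' P' hP' y, hκ' y, hy, Finsupp.sum_single_index (by simp), one_mul] at h1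
          rw [hP, if_pos hm, h1]
          rw [Finset.sum_eq_single m']
          · rw [Finsupp.single_eq_same, mul_one]
          · intro m'' _ hne
            rw [Finsupp.single_eq_of_ne (fun h => hne (rho_injective h)), mul_zero]
          · intro hnot
            rw [notMem_support_iff.mp hnot, zero_mul]
        · have hh : P.1.IsHomogeneous D := (mem_homogeneousSubmodule _ _).mp P.2
          have hh' : P'.1.IsHomogeneous D := (mem_homogeneousSubmodule _ _).mp P'.2
          rw [hh.coeff_eq_zero hm, hh'.coeff_eq_zero hm]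
      have hPP : P' = P := Subtype.ext (MvPolynomial.ext _ _ hcoef)
      rw [hPP] at hP'
      exact isMulBy_unique hP' hφ
  · have hzero : ∀ x : Coh.HH (CohB1.ProjSpace (q + 1) R)
        (Twist.twistProjSpace (q + 1) R a) (q + 1), x = 0 := by
      intro x
      apply hca
      rw [map_zero]
      ext ε
      by_contra hne
      exact hn (exists_deg_of_mem_E0 q (hsupp x ε (Finsupp.mem_support_iff.mpr hne)))
    refine ⟨0, fun x => ?_, fun φ' _ => ?_⟩
    · rw [hzero x, map_zero]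
      exact (congrArg (fun g : (Fin (q + 2) → ℤ) →₀ R => g (fun _ => (-1 : ℤ)))
        ((congrArg cb (map_zero (Sheaf.H.map ((SheafOfModules.toSheaf
          (Proj (𝒜 (q + 1) R)).ringCatSheaf).map
            (0 : Twist.twist (𝒜 (q + 1) R) a ⟶ Twist.twist (𝒜 (q + 1) R) (omg q)))
              (q + 1)))).trans (map_zero cb))).symm
    · rcases eq_zero_or_exists_isMulBy (Nat.le_add_left 1 q) φ' with h0 | ⟨D', P', hD', h'⟩
      · exact h0
      · exact absurd ⟨D', hD'⟩ hn

/-- evaluation of coordinates on `H^{q+1}(ω)` at the exponent `(-1, …, -1)` is an isomorphism -/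
noncomputable def tOf
    (c : Coh.HH (CohB1.ProjSpace (q + 1) R) (Twist.twistProjSpace (q + 1) R (omg q)) (q + 1)
      →ₗ[R] ((Fin (q + 2) → ℤ) →₀ R))
    (hc : Function.Injective c)
    (hr : ∀ g : (Fin (q + 2) → ℤ) →₀ R,
      (∃ y, c y = g) ↔ ∀ ε ∈ g.support, ε ∈ E0 (q + 1) (omg q)) :
    Coh.HH (CohB1.ProjSpace (q + 1) R) (Twist.twistProjSpace (q + 1) R (omg q)) (q + 1)
      ≃ₗ[R] R :=
  LinearEquiv.ofBijective ((Finsupp.lapply (fun _ => (-1 : ℤ))).comp c) (by
    classical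
    constructor
    · intro x y hxy
      apply hc
      ext ε
      by_cases hε : ε = fun _ => -1
      · rw [hε]; exact hxy
      · have h1 : ∀ z, c z ε = 0 := by
          intro z
          by_contra hne
          exact hε ((mem_E0_omg ε).mp ((hr (c z)).mp ⟨z, rfl⟩ ε (Finsupp.mem_support_iff.mpr hne)))
        rw [h1, h1]
    · intro r
      obtain ⟨y, hy⟩ := (hr (Finsupp.single (fun _ => (-1 : ℤ)) r)).mpr (by
        intro ε hε
        have := Finsupp.support_single_subset hε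
        rw [Finset.mem_singleton] at this
        rw [this]
        exact (mem_E0_omg _).mpr rfl)
      refine ⟨y, ?_⟩
      show c y (fun _ => -1) = r
      rw [hy, Finsupp.single_eq_same])

lemma tOf_apply
    (c : Coh.HH (CohB1.ProjSpace (q + 1) R) (Twist.twistProjSpace (q + 1) R (omg q)) (q + 1)
      →ₗ[R] ((Fin (q + 2) → ℤ) →₀ R))
    (hc : Function.Injective c)
    (hr : ∀ g : (Fin (q + 2) → ℤ) →₀ R,
      (∃ y, c y = g) ↔ ∀ ε ∈ g.support, ε ∈ E0 (q + 1) (omg q)) (x) :
    tOf q c hc hr x = c x (fun _ => -1) := rfl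

lemma exists_unit {M : Type*} [AddCommGroup M] [Module R M] (t t' : M ≃ₗ[R] R) :
    ∃ u v : R, v * u = 1 ∧ ∀ x, t x = u * t' x := by
  refine ⟨t (t'.symm 1), t' (t.symm 1), ?_, fun x => ?_⟩
  · have h1 : t' (t.symm 1) * t (t'.symm 1) = t (t' (t.symm 1) • t'.symm 1) := by
      rw [map_smul, smul_eq_mul]
    rw [h1, ← map_smul, smul_eq_mul, mul_one, LinearEquiv.symm_apply_apply,
      LinearEquiv.apply_symm_apply]
  · have h1 : x = t' x • t'.symm 1 := by
      apply t'.injective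
      rw [map_smul, LinearEquiv.apply_symm_apply, smul_eq_mul, mul_one]
    conv_lhs => rw [h1]
    rw [map_smul, smul_eq_mul, mul_comm]

/-- **the duality pairing on `P^{q+1}_R`** -/
theorem pairing :
    ∃ t : Coh.HH (CohB1.ProjSpace (q + 1) R) (Twist.twistProjSpace (q + 1) R (omg q)) (q + 1)
        ≃ₗ[R] R,
      ∀ (a : ℤ) (ψ : Coh.HH (CohB1.ProjSpace (q + 1) R) (Twist.twistProjSpace (q + 1) R a)
          (q + 1) →ₗ[R] R),
        ∃! φ : Twist.twist (𝒜 (q + 1) R) a ⟶ Twist.twist (𝒜 (q + 1) R) (omg q),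
          ∀ x, ψ x = t (Sheaf.H.map
            ((SheafOfModules.toSheaf (Proj (𝒜 (q + 1) R)).ringCatSheaf).map φ) (q + 1) x) := by
  obtain ⟨c0, -, hc0, -, hr0, -, -⟩ := exists_coords (R := R) q (omg q) (omg q)
  refine ⟨tOf q c0 hc0 hr0, fun a ψ => ?_⟩
  obtain ⟨ca, cb, hca, hcb, hra, hrb, hnat⟩ := exists_coords (R := R) q a (omg q)
  obtain ⟨u, v, hvu, hut⟩ := exists_unit (tOf q c0 hc0 hr0) (tOf q cb hcb hrb)
  obtain ⟨φ, hφ, huniq⟩ := pairing_aux q ca cb hca hra hnat (v • ψ)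
  refine ⟨φ, fun x => ?_, fun φ' hφ' => huniq φ' (fun x => ?_)⟩
  · have h1 := hφ x
    rw [LinearMap.smul_apply, smul_eq_mul] at h1
    rw [hut, tOf_apply, ← h1, ← mul_assoc, mul_comm u v, hvu, one_mul]
  · rw [LinearMap.smul_apply, smul_eq_mul, hφ' x, hut, tOf_apply, ← mul_assoc, hvu, one_mul]

end Proj

end Groth.Agent.ProjPair
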