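import Mathlib
import Groth.Prelude
import Groth.Agent.Lib.ProjPair3_helper9
import Groth.Agent.Lib.ProjFin2_helper9

/-!
# Dualizing pairs: extension from twists to coherent modules on projective space (helper9)
-/

set_option autoImplicit false
universe u
open CategoryTheory CategoryTheory.Limits AlgebraicGeometry TopologicalSpace Opposite

namespace Groth.Agent.ProjDual

open Groth.Agent.HHVan Groth.Agent.ProjFin

section General

variable {A : Type u} [CommRing A] {X : Scheme.{u}} [X.Over (Spec (CommRingCat.of A))]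
  {ω : X.Modules} (n : ℕ) (t : Coh.HH X ω n →ₗ[A] A)

/-- injectivity of `φ ↦ t ∘ H^n(φ)` on `Hom(F, ω)`. -/
def DInj (F : X.Modules) : Prop :=
  ∀ φ : F ⟶ ω, (∀ x : Coh.HH X F n, t (hmap φ n x) = 0) → φ = 0

/-- surjectivity of `φ ↦ t ∘ H^n(φ)` onto the dual of `H^n(F)`. -/
def DSurj (F : X.Modules) : Prop :=
  ∀ ψ : Coh.HH X F n →ₗ[A] A, ∃ φ : F ⟶ ω, ∀ x : Coh.HH X F n, ψ x = t (hmap φ n x)

lemma hmap_add {M N : X.Modules} (φ φ' : M ⟶ N) (i : ℕ) (x : Coh.HH X M i) :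
    hmap (φ + φ') i x = hmap φ i x + hmap φ' i x := by
  unfold hmap
  rw [Functor.map_add]
  exact Sheaf.H.map_add_apply _ _ x

lemma hmap_zero' {M N : X.Modules} (i : ℕ) (x : Coh.HH X M i) :
    hmap (0 : M ⟶ N) i x = 0 := by
  unfold hmap
  have h : (SerreCrit.TT X).map (0 : M ⟶ N) = 0 := Functor.map_zero _ _ _
  rw [h, Sheaf.H.map_apply, Abelian.Ext.mk₀_zero, Abelian.Ext.comp_zero]

lemma hmap_sub {M N : X.Modules} (φ φ' : M ⟶ N) (i : ℕ) (x : Coh.HH X M i) :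
    hmap (φ - φ') i x = hmap φ i x - hmap φ' i x := by
  have h := hmap_add (φ - φ') φ' i x
  rw [sub_add_cancel] at h
  rw [h, add_sub_cancel_right]

lemma hmap_sum {M N : X.Modules} {ι : Type*} (s : Finset ι) (φ : ι → (M ⟶ N)) (i : ℕ)
    (x : Coh.HH X M i) : hmap (∑ j ∈ s, φ j) i x = ∑ j ∈ s, hmap (φ j) i x := by
  classical
  induction s using Finset.induction_on with
  | empty => rw [Finset.sum_empty, Finset.sum_empty]; exact hmap_zero' i x
  | insert a s ha ih => rw [Finset.sum_insert ha, Finset.sum_insert ha, hmap_add, ih]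

variable {n t}

theorem existsUnique_of {F : X.Modules} (hi : DInj n t F) (hs : DSurj n t F)
    (ψ : Coh.HH X F n →ₗ[A] A) :
    ∃! φ : F ⟶ ω, ∀ x : Coh.HH X F n,
      ψ x = t (Sheaf.H.map ((SheafOfModules.toSheaf X.ringCatSheaf).map φ) n x) := by
  obtain ⟨φ, hφ⟩ := hs ψ
  refine ⟨φ, hφ, fun φ' hφ' => ?_⟩
  have h0 : φ' - φ = 0 := hi (φ' - φ) (fun x => by
    rw [hmap_sub, map_sub]
    have h1 : t (hmap φ' n x) = ψ x := (hφ' x).symm
    have h2 : t (hmap φ n x) = ψ x := (hφ x).symm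
    rw [h1, h2, sub_self])
  exact sub_eq_zero.mp h0

theorem dInj_of_existsUnique {F : X.Modules}
    (h : ∀ ψ : Coh.HH X F n →ₗ[A] A, ∃! φ : F ⟶ ω, ∀ x : Coh.HH X F n,
      ψ x = t (Sheaf.H.map ((SheafOfModules.toSheaf X.ringCatSheaf).map φ) n x)) :
    DInj n t F := by
  intro φ hφ
  obtain ⟨φ₀, -, huniq⟩ := h 0
  have h1 := huniq φ (fun x => (hφ x).symm)
  have h2 := huniq 0 (fun x => by
    have : hmap (0 : F ⟶ ω) n x = 0 := hmap_zero' n x
    exact ((congrArg t this).trans (map_zero t)).symm)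
  rw [h1, h2]

theorem dSurj_of_existsUnique {F : X.Modules}
    (h : ∀ ψ : Coh.HH X F n →ₗ[A] A, ∃! φ : F ⟶ ω, ∀ x : Coh.HH X F n,
      ψ x = t (Sheaf.H.map ((SheafOfModules.toSheaf X.ringCatSheaf).map φ) n x)) :
    DSurj n t F := fun ψ => by
  obtain ⟨φ, hφ, -⟩ := h ψ
  exact ⟨φ, hφ⟩

theorem dInj_of_epi {E F : X.Modules} (p : E ⟶ F) (hp : Epi p) (h : DInj n t E) :
    DInj n t F := by
  intro φ hφ
  have h1 : p ≫ φ = 0 := h (p ≫ φ) (fun x => by rw [hmap_comp]; exact hφ _)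
  rw [← cancel_epi p, h1, comp_zero]

theorem dSurj_of_ses (S : ShortComplex X.Modules) (hS : S.ShortExact) (hK : DInj n t S.X₁)
    (hE : DSurj n t S.X₂) (hsurj : Function.Surjective (hmap S.g n)) : DSurj n t S.X₃ := by
  intro ψ
  obtain ⟨φ₀, hφ₀⟩ := hE (ψ.comp (Canon.HHlin A S.g n))
  have h0 : S.f ≫ φ₀ = 0 := hK _ (fun x => by
    rw [hmap_comp, ← hφ₀]
    show ψ (hmap S.g n (hmap S.f n x)) = 0
    rw [← hmap_comp, S.zero, hmap_zero', map_zero])
  let φ : S.X₃ ⟶ ω := hS.gIsCokernel.desc (CokernelCofork.ofπ φ₀ h0)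
  have hφ : S.g ≫ φ = φ₀ := Cofork.IsColimit.π_desc hS.gIsCokernel
  refine ⟨φ, fun y => ?_⟩
  obtain ⟨x, rfl⟩ := hsurj y
  rw [← hmap_comp, hφ, ← hφ₀]
  rfl

lemma eq_sum_hmap (L : X.Modules) (r : ℕ) (i : ℕ) (x : Coh.HH X (∐ fun _ : Fin r => L) i) :
    x = ∑ j, hmap (Sigma.ι (fun _ : Fin r => L) j) i (hmap (pr L r j) i x) := by
  have h1 : ∀ j, hmap (Sigma.ι (fun _ : Fin r => L) j) i (hmap (pr L r j) i x) =
      hmap (pr L r j ≫ Sigma.ι (fun _ : Fin r => L) j) i x := fun j => (hmap_comp _ _ i x).symm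
  simp only [h1]
  rw [← hmap_sum, sum_pr_ι, hmap_id]

theorem dInj_sigma (L : X.Modules) (r : ℕ) (h : DInj n t L) :
    DInj n t (∐ fun _ : Fin r => L) := by
  intro φ hφ
  apply Sigma.hom_ext
  intro j
  rw [comp_zero]
  exact h _ (fun y => by rw [hmap_comp]; exact hφ _)

theorem dSurj_sigma (L : X.Modules) (r : ℕ) (h : DSurj n t L) :
    DSurj n t (∐ fun _ : Fin r => L) := by
  intro ψ
  choose φj hφj using fun j : Fin r =>
    h (ψ.comp (Canon.HHlin A (Sigma.ι (fun _ : Fin r => L) j) n))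
  refine ⟨Sigma.desc φj, fun x => ?_⟩
  have hx := eq_sum_hmap L r n x
  have e1 : ψ x = ∑ j, t (hmap (φj j) n (hmap (pr L r j) n x)) := by
    conv_lhs => rw [hx]
    rw [map_sum]
    apply Finset.sum_congr rfl
    intro j _
    rw [← hφj j]
    rfl
  have e2 : t (hmap (Sigma.desc φj) n x) = ∑ j, t (hmap (φj j) n (hmap (pr L r j) n x)) := by
    conv_lhs => rw [hx]
    rw [map_sum, map_sum]
    apply Finset.sum_congr rfl
    intro j _
    rw [← hmap_comp (Sigma.ι (fun _ : Fin r => L) j) (Sigma.desc φj), Sigma.ι_desc]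
  rw [e1, e2]

end General

section Proj

open Groth.Agent.ProjCech Groth.Agent.ProjPair

variable (k : Type u) [Field k] (q : ℕ)

/-- surjectivity on top cohomology of an epimorphism with quasi-coherent kernel on `P^n`. -/
theorem surjective_hmap_top (n : ℕ) (R : Type u) [CommRing R]
    (S : ShortComplex (CohB1.ProjSpace n R).Modules) (hS : S.ShortExact)
    (hK : Coh.IsQCoh S.X₁) : Function.Surjective (hmap S.g n) := by
  intro y
  haveI : Coh.IsQCoh S.X₁ := hK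
  haveI := Groth.Agent.S0022.result n R S.X₁ (n + 1) (by omega)
  have h1 : y ∈ LinearMap.ker (δlin R S hS n) := by
    rw [LinearMap.mem_ker]
    exact Subsingleton.elim _ _
  rw [← range_HHlin_g] at h1
  obtain ⟨x, hx⟩ := h1
  exact ⟨x, hx⟩

/-- a pairing which is perfect on all twists `O(a)` of `P^n_k` is perfect on all coherent
modules. -/
theorem dual_coh (n : ℕ) (c : ℤ)
    (t : Coh.HH (CohB1.ProjSpace n k) (Twist.twistProjSpace n k c) n →ₗ[k] k)
    (hInjTw : ∀ a : ℤ, DInj n t (Twist.twistProjSpace n k a))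
    (hSurjTw : ∀ a : ℤ, DSurj n t (Twist.twistProjSpace n k a))
    (F : (CohB1.ProjSpace n k).Modules) (hF : Coh.IsCoh F) :
    DInj n t F ∧ DSurj n t F := by
  haveI hNoeth : AlgebraicGeometry.IsNoetherian (CohB1.ProjSpace n k) :=
    Groth.Agent.S2357.result (𝒜 n k)
  have hcov' : ∀ x : Proj (𝒜 n k), ∃ f ∈ 𝒜 n k 1,
      x ∈ Proj.basicOpen (𝒜 n k) f := fun x => by
    obtain ⟨f, hf, hx⟩ := hcov_X n k x
    exact ⟨f, hs1_X n k f hf, hx⟩
  have hInj : ∀ F : (CohB1.ProjSpace n k).Modules, Coh.IsCoh F → DInj n t F := by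
    intro F hF
    obtain ⟨n₀, hn₀⟩ := Groth.Agent.ProjTw.exists_epi_coprod_twist (𝒜 n k) _
      (hs1_X n k) (hcov_X n k) F hF.1 hF.2
    obtain ⟨r, p, hp⟩ := hn₀ n₀ le_rfl
    exact dInj_of_epi p hp (dInj_sigma (Twist.twistProjSpace n k (-(n₀ : ℤ))) r (hInjTw _))
  refine ⟨hInj F hF, ?_⟩
  obtain ⟨n₀, hn₀⟩ := Groth.Agent.ProjTw.exists_epi_coprod_twist (𝒜 n k) _
    (hs1_X n k) (hcov_X n k) F hF.1 hF.2
  obtain ⟨r, p, hp⟩ := hn₀ n₀ le_rfl
  have hL : Coh.IsCoh (X := CohB1.ProjSpace n k) (Twist.twist (𝒜 n k) (-(n₀ : ℤ))) :=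
    ⟨Groth.Agent.ProjTw.isQuasicoherent_twist (𝒜 n k) _,
      Groth.Agent.ProjTw.isFiniteType_twist (𝒜 n k) hcov' _⟩
  have hE := isCoh_sigma_fin (X := CohB1.ProjSpace n k) _ hL r
  have hK := CohKerH8.isCoh_kernel (X := CohB1.ProjSpace n k) hE hF p
  let S : ShortComplex (CohB1.ProjSpace n k).Modules :=
    ShortComplex.mk (kernel.ι p) p (kernel.condition p)
  have hS : S.ShortExact :=
    { exact := ShortComplex.exact_of_f_is_kernel _ (kernelIsKernel p)
      mono_f := inferInstanceAs (Mono (kernel.ι p))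
      epi_g := hp }
  exact dSurj_of_ses S hS (hInj _ hK)
    (dSurj_sigma (Twist.twistProjSpace n k (-(n₀ : ℤ))) r (hSurjTw _))
    (surjective_hmap_top n k S hS hK.1)

/-- **`O(-n-1)` is a dualizing sheaf on `P^n_k`, `n = q + 1`** -/
theorem exists_dual :
    ∃ t : Coh.HH (CohB1.ProjSpace (q + 1) k) (Twist.twistProjSpace (q + 1) k (omg q)) (q + 1)
        ≃ₗ[k] k,
      ∀ F : (CohB1.ProjSpace (q + 1) k).Modules, Coh.IsCoh F →
        DInj (q + 1) t.toLinearMap F ∧ DSurj (q + 1) t.toLinearMap F := by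
  obtain ⟨t, ht⟩ := pairing (R := k) q
  exact ⟨t, dual_coh k (q + 1) (omg q) t.toLinearMap
    (fun a => dInj_of_existsUnique (ht a)) (fun a => dSurj_of_existsUnique (ht a))⟩

end Proj

end Groth.Agent.ProjDual
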