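import Mathlib
import Groth.Prelude
import Groth.Agent.Lib.ProjDual1_helper9
import Groth.Agent.Lib.SDivGen_helper8
import Groth.Agent.Lib.FLF5_helper8
import Groth.Agent.Lib.InvInt1_helper9
import Groth.Agent.Lib.GenLoc_helper8
import Groth.Agent.Lib.SubExt_helper9
import Groth.Agent.S3581

/-!
# The dualizing pairing in the zero-dimensional case: modules with a global generator (helper9)
-/

set_option autoImplicit false
universe u
open CategoryTheory CategoryTheory.Limits AlgebraicGeometry TopologicalSpace Opposite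

namespace Groth.Agent.ProjDual

open Groth.Agent.HHVan Groth.Agent.ProjFin QcqsLoc QCohExtn SerreCrit GenLocH8

section Zero

variable {A : Type u} [CommRing A] {X : Scheme.{u}} [X.Over (Spec (CommRingCat.of A))]

/-- `H^0(X, M) ≃ Γ(X, M)` -/
noncomputable def h0 (M : X.Modules) : Coh.HH X M 0 ≃+ Γ(M, ⊤) :=
  Sheaf.H.equiv₀ (Coh.toAb M) isTerminalTop

lemma h0_nat {M N : X.Modules} (φ : M ⟶ N) (x : Coh.HH X M 0) :
    ap φ ⊤ (h0 M x) = h0 N (hmap φ 0 x) :=
  Sheaf.H.equiv₀_naturality isTerminalTop ((SerreCrit.TT X).map φ) x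

variable (A) in
/-- the structure map to global functions -/
noncomputable abbrev cc : A →+* Γ(X, ⊤) := Coh.toGlobal (X ↘ Spec (CommRingCat.of A))

lemma h0_smul (M : X.Modules) (r : A) (x : Coh.HH X M 0) :
    h0 M (r • x) = (cc A r : Γ(X, ⊤)) • h0 M x := by
  have h1 : r • x = Sheaf.H.map (Coh.smulAb M (cc A r)) 0 x := rfl
  rw [h1]
  have h2 := Sheaf.H.equiv₀_naturality isTerminalTop (Coh.smulAb M (cc A r)) x
  refine h2.symm.trans ?_
  rw [Coh.smulAb_app]
  congr 1
  show (X.ringCatSheaf.obj.map (homOfLE (le_top (a := (⊤ : X.Opens)))).op).hom (cc A r) = cc A r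
  have : (homOfLE (le_top (a := (⊤ : X.Opens)))).op = 𝟙 (op (⊤ : X.Opens)) := rfl
  rw [this, X.ringCatSheaf.obj.map_id]
  rfl

section Gen

lemma rF_self (M : X.Modules) (W : X.Opens) (m : Γ(M, W)) : rF M (le_refl W) m = m := by
  have h : (homOfLE (le_refl W)).op = 𝟙 (op W) := rfl
  show (M.presheaf.map (homOfLE (le_refl W)).op).hom m = m
  rw [h, M.presheaf.map_id]
  rfl

lemma ap_unitHom (M : X.Modules) (m : Γ(M, ⊤)) (W : X.Opens) (a : Γ(X, W)) :
    ap (SDivGenH8.unitHom M m) W (ofFn a) = a • rF M (le_top : W ≤ ⊤) m :=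
  SDivGenH8.unitHom_app M m W a

theorem isIso_unitHom_of_isGen {M : X.Modules} {m : Γ(M, ⊤)} (hm : IsGen M ⊤ m) :
    IsIso (SDivGenH8.unitHom M m) := by
  refine SubExt.isIso_of_bijective _ (fun W => ⟨?_, ?_⟩)
  · intro a b hab
    have h1 : (toFn a - toFn b) • rF M (le_top : W ≤ ⊤) m = 0 := by
      rw [sub_smul, sub_eq_zero]
      have ha := ap_unitHom M m W (toFn a)
      have hb := ap_unitHom M m W (toFn b)
      exact ha.symm.trans (hab.trans hb)
    have h2 := (hm W le_top).2 _ h1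
    exact sub_eq_zero.mp h2
  · intro l
    obtain ⟨c, hc⟩ := (hm W le_top).1 l
    exact ⟨ofFn c, (ap_unitHom M m W c).trans hc.symm⟩

/-- a morphism out of a module with a global generator is determined by the image of the
generator -/
theorem hom_eq_zero_of_isGen {M N : X.Modules} {m : Γ(M, ⊤)} (hm : IsGen M ⊤ m) (φ : M ⟶ N)
    (h : ap φ ⊤ m = 0) : φ = 0 := by
  haveI := isIso_unitHom_of_isGen hm
  have h1 : SDivGenH8.unitHom M m ≫ φ = 0 := by
    rw [FLFH8.unitHom_comp]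
    apply Groth.Agent.InvInt.hom_OO_eq_zero
    have := ap_unitHom N (ap φ ⊤ m) ⊤ 1
    rw [h, map_zero, smul_zero] at this
    rw [h]
    exact this
  rw [← cancel_epi (SDivGenH8.unitHom M m), h1, comp_zero]

/-- existence of a morphism with prescribed value on the generator -/
theorem exists_hom_of_isGen {M N : X.Modules} {m : Γ(M, ⊤)} (hm : IsGen M ⊤ m) (y : Γ(N, ⊤)) :
    ∃ φ : M ⟶ N, ap φ ⊤ m = y := by
  haveI := isIso_unitHom_of_isGen hm
  refine ⟨inv (SDivGenH8.unitHom M m) ≫ SDivGenH8.unitHom N y, ?_⟩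
  have h1 : ap (SDivGenH8.unitHom M m) ⊤ (ofFn 1) = m := by
    rw [ap_unitHom, one_smul, rF_self]
  have h2 : ap (inv (SDivGenH8.unitHom M m)) ⊤ m = ofFn 1 := by
    have h3 := congrArg (fun ψ => ap ψ ⊤ (ofFn (1 : Γ(X, ⊤))))
      (IsIso.hom_inv_id (SDivGenH8.unitHom M m))
    have h4 : ap (inv (SDivGenH8.unitHom M m)) ⊤ m =
        ap (inv (SDivGenH8.unitHom M m)) ⊤ (ap (SDivGenH8.unitHom M m) ⊤ (ofFn 1)) :=
      congrArg _ h1.symm
    exact h4.trans h3
  show ap (SDivGenH8.unitHom N y) ⊤ (ap (inv (SDivGenH8.unitHom M m)) ⊤ m) = y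
  rw [h2, ap_unitHom, one_smul, rF_self]

/-- every class in `H^0` of a module with a global generator is a multiple of the generator -/
lemma exists_smul_of_isGen (hbij : Function.Bijective (cc A (X := X))) {M : X.Modules}
    {m : Γ(M, ⊤)} (hm : IsGen M ⊤ m) (x : Coh.HH X M 0) :
    ∃ r : A, x = r • (h0 M).symm m := by
  obtain ⟨c, hc⟩ := (hm ⊤ le_rfl).1 (h0 M x)
  obtain ⟨r, rfl⟩ := hbij.2 c
  refine ⟨r, (h0 M).injective ?_⟩
  rw [h0_smul, AddEquiv.apply_symm_apply, hc, rF_self]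

lemma eq_zero_of_smul_gen (hbij : Function.Bijective (cc A (X := X))) {M : X.Modules}
    {m : Γ(M, ⊤)} (hm : IsGen M ⊤ m) (r : A) (h : r • (h0 M).symm m = 0) : r = 0 := by
  have h1 : (cc A r : Γ(X, ⊤)) • rF M (le_refl ⊤) m = 0 := by
    rw [rF_self]
    have := congrArg (h0 M) h
    rw [h0_smul, AddEquiv.apply_symm_apply, map_zero] at this
    exact this
  have h2 := (hm ⊤ le_rfl).2 _ h1
  exact hbij.1 (h2.trans (map_zero _).symm)

/-- **duality in dimension zero**: if `A → Γ(X, O_X)` is bijective and `ω` has a global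
generator, then `ω` with a suitable `t : H^0(ω) ≃ A` is dualizing for all modules with a
global generator. -/
theorem dual_of_gen (hbij : Function.Bijective (cc A (X := X))) {ω : X.Modules} (e' : Γ(ω, ⊤))
    (he' : IsGen ω ⊤ e') :
    ∃ t : Coh.HH X ω 0 ≃ₗ[A] A, ∀ (L : X.Modules) (e : Γ(L, ⊤)), IsGen L ⊤ e →
      DInj 0 t.toLinearMap L ∧ DSurj 0 t.toLinearMap L := by
  let gA : A →ₗ[A] Coh.HH X ω 0 := LinearMap.toSpanSingleton A _ ((h0 ω).symm e')
  have hgA : ∀ r : A, gA r = r • (h0 ω).symm e' := fun r => rfl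
  have hb : Function.Bijective gA := by
    constructor
    · rw [injective_iff_map_eq_zero]
      intro r hr
      exact eq_zero_of_smul_gen hbij he' r hr
    · intro x
      obtain ⟨r, hr⟩ := exists_smul_of_isGen hbij he' x
      exact ⟨r, hr.symm⟩
  let t : Coh.HH X ω 0 ≃ₗ[A] A := (LinearEquiv.ofBijective gA hb).symm
  have ht : ∀ r : A, t (r • (h0 ω).symm e') = r := fun r =>
    (LinearEquiv.ofBijective gA hb).symm_apply_apply r
  refine ⟨t, fun L e hL => ?_⟩
  have key : ∀ (φ : L ⟶ ω) (r : A), ap φ ⊤ e = (cc A r : Γ(X, ⊤)) • e' →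
      ∀ s : A, t (hmap φ 0 (s • (h0 L).symm e)) = s * r := by
    intro φ r hr s
    have h1 : hmap φ 0 (s • (h0 L).symm e) = s • hmap φ 0 ((h0 L).symm e) :=
      (Canon.HHlin A φ 0).map_smul s _
    have h2 : hmap φ 0 ((h0 L).symm e) = r • (h0 ω).symm e' := by
      apply (h0 ω).injective
      rw [← h0_nat, AddEquiv.apply_symm_apply, hr, h0_smul, AddEquiv.apply_symm_apply]
    rw [h1, h2, smul_smul]
    exact ht _
  constructor
  · intro φ hφ
    obtain ⟨c, hc⟩ := (he' ⊤ le_rfl).1 (ap φ ⊤ e)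
    obtain ⟨r, rfl⟩ := hbij.2 c
    rw [rF_self] at hc
    have h1 := key φ r hc 1
    rw [one_mul] at h1
    have h2 : r = 0 := h1.symm.trans (hφ _)
    apply hom_eq_zero_of_isGen hL
    rw [hc, h2, map_zero, zero_smul]
  · intro ψ
    obtain ⟨φ, hφ⟩ := exists_hom_of_isGen hL
      ((cc A (ψ ((h0 L).symm e)) : Γ(X, ⊤)) • e')
    refine ⟨φ, fun x => ?_⟩
    obtain ⟨s, rfl⟩ := exists_smul_of_isGen hbij hL x
    have h1 := key φ _ hφ s
    exact (by rw [map_smul, smul_eq_mul] : ψ (s • (h0 L).symm e) = s * ψ ((h0 L).symm e)).trans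
      h1.symm

end Gen

end Zero

section PZero

open Groth.Agent.ProjCech Groth.Agent.ProjHom

variable (R : Type u) [CommRing R]

lemma cov_zero_eq_top : cov 0 R ⟨0⟩ = ⊤ := by
  rw [← iSup_cov (n := 0) (R := R)]
  apply le_antisymm
  · exact le_iSup (cov 0 R) ⟨0⟩
  · apply iSup_le
    rintro ⟨i⟩
    have : i = 0 := Fin.fin_one_eq_zero i
    subst this
    exact le_rfl

lemma exists_gen_of_eq_top (M : (Proj (𝒜 0 R)).Modules) (W : (Proj (𝒜 0 R)).Opens) (hW : W = ⊤)
    (h : ∃ g : Γ(M, W), IsGen M W g) : ∃ g : Γ(M, ⊤), IsGen M ⊤ g := by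
  subst hW
  exact h

/-- on `P^0_R` every twist has a global generator -/
theorem exists_gen_top (a : ℤ) :
    ∃ g : Γ(Twist.twist (𝒜 0 R) a, ⊤), IsGen (Twist.twist (𝒜 0 R) a) ⊤ g := by
  obtain ⟨g, u, hg, -⟩ := exists_gen (n := 0) (R := R) ⟨0⟩ a
  exact exists_gen_of_eq_top R _ _ (cov_zero_eq_top R) ⟨g, hg⟩

/-- `R → Γ(P^0_R, O)` is bijective -/
theorem bijective_cc_zero :
    Function.Bijective (cc R (X := CohB1.ProjSpace 0 R)) := by
  haveI : IsIso (CohB1.ProjSpace.toSpec 0 R) := Groth.Agent.S3581.result R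
  have h1 : Function.Bijective ((CohB1.ProjSpace.toSpec 0 R).appTop).hom :=
    (ConcreteCategory.isIso_iff_bijective _).mp
      (inferInstanceAs (IsIso ((CohB1.ProjSpace.toSpec 0 R).app ⊤)))
  have h2 : Function.Bijective (Scheme.ΓSpecIso (CommRingCat.of R)).inv.hom :=
    (ConcreteCategory.isIso_iff_bijective _).mp inferInstance
  exact h1.comp h2

/-- **every twist is a dualizing sheaf on `P^0_k`** -/
theorem exists_dual_zero (k : Type u) [Field k] (c : ℤ) :
    ∃ t : Coh.HH (CohB1.ProjSpace 0 k) (Twist.twistProjSpace 0 k c) 0 ≃ₗ[k] k,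
      ∀ F : (CohB1.ProjSpace 0 k).Modules, Coh.IsCoh F →
        DInj 0 t.toLinearMap F ∧ DSurj 0 t.toLinearMap F := by
  obtain ⟨e', he'⟩ := exists_gen_top k c
  obtain ⟨t, ht⟩ := dual_of_gen (A := k) (X := CohB1.ProjSpace 0 k) (bijective_cc_zero k)
    (ω := Twist.twistProjSpace 0 k c) e' he'
  refine ⟨t, dual_coh k 0 c t.toLinearMap (fun a => ?_) (fun a => ?_)⟩
  · obtain ⟨e, he⟩ := exists_gen_top k a
    exact (ht _ e he).1
  · obtain ⟨e, he⟩ := exists_gen_top k a
    exact (ht _ e he).2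

end PZero

end Groth.Agent.ProjDual
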