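import Mathlib
import Groth.Agent.Lib.RDPlusLES_helper9
import Groth.Agent.Lib.RDPlusSingle_helper9
import Groth.Agent.Lib.LerayDer_helper9
import Groth.Agent.S12541

/-!
# Bridging `H^n(R⁺F(X[0]))` and the classical `(F.rightDerived n).obj X` (helper9)

* `Bridge.bridge F X n : H^n(R⁺F(X[0])) ≅ (F.rightDerived n).obj X`.
* `Bridge.comp_acyclic`: if `F₁`, `G` are left exact, `F₁` sends injectives to `G`-acyclics and `X`
  is `F₁`-acyclic, then `RⁿG(F₁ X) ≅ Rⁿ(F₁ ⋙ G)(X)`.
-/

open CategoryTheory CategoryTheory.Limits HomologicalComplex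

namespace Bridge

universe w w' v v' u u'

section One

variable {C : Type u} [Category.{v} C] [Abelian C] [HasDerivedCategory.{w} C] [EnoughInjectives C]
  {D : Type u'} [Category.{v'} D] [Abelian D] [HasDerivedCategory.{w'} D]
  (F : C ⥤ D) [F.Additive]

/-- `H^n(Q(F K)) ≅ H^n(F K)` -/
noncomputable def hqfIso (n : ℤ) (K : CochainComplex C ℤ) :
    RDPlusLES.HQF F n K ≅ ((F.mapHomologicalComplex (ComplexShape.up ℤ)).obj K).homology n :=
  (DerivedCategory.homologyFunctorFactors D n).app _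

/-- the homology of `F` applied to the `ℤ`-indexed injective resolution -/
noncomputable def homologyExtendIso {X : C} (I : InjectiveResolution X) (n : ℕ) :
    ((F.mapHomologicalComplex (ComplexShape.up ℤ)).obj I.cochainComplex).homology (n : ℤ) ≅
      ((F.mapHomologicalComplex (ComplexShape.up ℕ)).obj I.cocomplex).homology n :=
  (HomologicalComplex.homologyFunctor D (ComplexShape.up ℤ) (n : ℤ)).mapIso
      (RDPlusSingle.extendMapIso ComplexShape.embeddingUpNat F I.cocomplex) ≪≫
    HomologicalComplex.extendHomologyIso _ ComplexShape.embeddingUpNat (by simp)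

/-- `H^n(R⁺F(X[0])) ≅ RⁿF(X)` -/
noncomputable def bridge (X : C) (n : ℕ) :
    (RDPlusLES.Phi F (n : ℤ)).obj (RDPlusSingle.singleObj X) ≅ (F.rightDerived n).obj X :=
  let I := injectiveResolution X
  let L : CochainComplex.Plus C := ⟨I.cochainComplex, 0, inferInstance⟩
  let p : RDPlusSingle.singleObj X ⟶ L := ObjectProperty.homMk I.ι'
  have hp : QuasiIso p.hom := (inferInstance : QuasiIso I.ι')
  have hL : ∀ q, Injective (L.obj.X q) := fun q => (inferInstance : Injective (I.cochainComplex.X q))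
  RDPlusLES.theta F (n : ℤ) p hp hL ≪≫ hqfIso F (n : ℤ) I.cochainComplex ≪≫
    homologyExtendIso F I n ≪≫ (I.isoRightDerivedObj F n).symm

end One

section Two

variable {A B C : Type u} [Category.{v} A] [Category.{v} B] [Category.{v} C]
  [Abelian A] [Abelian B] [Abelian C]
  [HasDerivedCategory.{w} A] [HasDerivedCategory.{w} B] [HasDerivedCategory.{w} C]
  [EnoughInjectives A] [EnoughInjectives B]
  (F₁ : A ⥤ B) [F₁.Additive] [PreservesFiniteLimits F₁]
  (G : B ⥤ C) [G.Additive] [PreservesFiniteLimits G]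

/-- `F₁(X[0]) ≅ (F₁ X)[0]` in the bounded below homotopy category -/
noncomputable def mapSingleIso (X : A) :
    F₁.mapHomotopyCategoryPlus.obj
        ((HomotopyCategory.Plus.quotient A).obj (RDPlusSingle.singleObj X)) ≅
      (HomotopyCategory.Plus.quotient B).obj (RDPlusSingle.singleObj (F₁.obj X)) :=
  (HomotopyCategory.plus B).fullyFaithfulι.preimageIso
    ((HomotopyCategory.quotient B (ComplexShape.up ℤ)).mapIso
      ((HomologicalComplex.singleMapHomologicalComplex F₁ (ComplexShape.up ℤ) 0).app X))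

theorem comp_acyclic
    (hFG : ∀ I : A, Injective I → LerayDer.Acyclic G (F₁.obj I))
    (X : A) (hX : LerayDer.Acyclic F₁ X) (n : ℕ) :
    Nonempty ((G.rightDerived n).obj (F₁.obj X) ≅ ((F₁ ⋙ G).rightDerived n).obj X) := by
  have hFG' : ∀ I : A, Injective I →
      IsIso (G.rightDerivedFunctorPlusUnit.app
        ((HomotopyCategory.Plus.singleFunctor B 0).obj (F₁.obj I))) := by
    intro I hI
    rw [RDPlusSingle.isIso_unit_single_iff]
    exact ⟨inferInstance, hFG I hI⟩
  let α₀ : (F₁ ⋙ G).mapHomotopyCategoryPlus ⋙ DerivedCategory.Plus.Qh ⟶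
      DerivedCategory.Plus.Qh ⋙ (F₁.rightDerivedFunctorPlus ⋙ G.rightDerivedFunctorPlus) :=
    Functor.whiskerRight (Functor.mapHomotopyCategoryPlusCompIso (Iso.refl (F₁ ⋙ G))).inv
        DerivedCategory.Plus.Qh
      ≫ (Functor.associator _ _ _).hom
      ≫ Functor.whiskerLeft F₁.mapHomotopyCategoryPlus G.rightDerivedFunctorPlusUnit
      ≫ (Functor.associator _ _ _).inv
      ≫ Functor.whiskerRight F₁.rightDerivedFunctorPlusUnit G.rightDerivedFunctorPlus
      ≫ (Functor.associator _ _ _).hom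
  haveI h : (F₁.rightDerivedFunctorPlus ⋙ G.rightDerivedFunctorPlus).IsRightDerivedFunctor α₀
      (HomotopyCategory.Plus.quasiIso A) := Groth.Agent.S12541.result F₁ G hFG'
  let e2 : (F₁ ⋙ G).rightDerivedFunctorPlus ≅
      F₁.rightDerivedFunctorPlus ⋙ G.rightDerivedFunctorPlus :=
    Functor.rightDerivedUnique (F₁ ⋙ G).rightDerivedFunctorPlus
      (F₁.rightDerivedFunctorPlus ⋙ G.rightDerivedFunctorPlus)
      (F₁ ⋙ G).rightDerivedFunctorPlusUnit α₀ (HomotopyCategory.Plus.quasiIso A)
  let S := (HomotopyCategory.Plus.quotient A).obj (RDPlusSingle.singleObj X)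
  haveI hu : IsIso (F₁.rightDerivedFunctorPlusUnit.app S) := by
    change IsIso (F₁.rightDerivedFunctorPlusUnit.app
      ((HomotopyCategory.Plus.singleFunctor A 0).obj X))
    rw [RDPlusSingle.isIso_unit_single_iff]
    exact ⟨inferInstance, hX⟩
  let e3 : F₁.rightDerivedFunctorPlus.obj (DerivedCategory.Plus.Qh.obj S) ≅
      DerivedCategory.Plus.Qh.obj
        ((HomotopyCategory.Plus.quotient B).obj (RDPlusSingle.singleObj (F₁.obj X))) :=
    (asIso (F₁.rightDerivedFunctorPlusUnit.app S)).symm ≪≫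
      DerivedCategory.Plus.Qh.mapIso (mapSingleIso F₁ X)
  let e : (RDPlusLES.Phi (F₁ ⋙ G) (n : ℤ)).obj (RDPlusSingle.singleObj X) ≅
      (RDPlusLES.Phi G (n : ℤ)).obj (RDPlusSingle.singleObj (F₁.obj X)) :=
    (DerivedCategory.Plus.homologyFunctor C (n : ℤ)).mapIso
      (e2.app (DerivedCategory.Plus.Qh.obj S) ≪≫ G.rightDerivedFunctorPlus.mapIso e3)
  exact ⟨(bridge G (F₁.obj X) n).symm ≪≫ e.symm ≪≫ bridge (F₁ ⋙ G) X n⟩

end Two

end Bridge
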