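import Mathlib
import Groth.Agent.Lib.CechRes_helper2
import Groth.Agent.Lib.ExtRes_helper2

/-!
# Čech complexes of functors which are computed sectionwise

Let `Θ` be a functor from presheaves of sets to an abelian category `ℳ` (presheaves of modules)
which is computed sectionwise.  Then `Θ` applied to the Čech nerve of a morphism of sheaves of sets,
augmented over the image presheaf, is a resolution; after an exact functor `L` (sheafification) the
Čech chain complex is exact in positive degrees.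
-/

set_option autoImplicit false
universe u
open CategoryTheory Limits Opposite Simplicial AlgebraicTopology SimplicialObject

namespace Groth.Agent.Lib.ModCech
open Groth.Agent.Lib.CechExtra Groth.Agent.Lib.CechRes Groth.Agent.Lib.ExtRes

section Abstract

variable {𝒜 : Type*} [Category 𝒜] [Abelian 𝒜]

/-- extension of a morphism killing `S.f` along `S.g`, for an exact short complex and an injective
target -/
lemma exists_desc_of_exact_injective (S : ShortComplex 𝒜) (hS : S.Exact) (G : 𝒜) [Injective G]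
    (φ : S.X₂ ⟶ G) (hφ : S.f ≫ φ = 0) : ∃ ψ : S.X₃ ⟶ G, S.g ≫ ψ = φ := by
  haveI : Mono S.fromOpcycles := hS.mono_fromOpcycles
  refine ⟨Injective.factorThru (S.descOpcycles φ hφ) S.fromOpcycles, ?_⟩
  rw [← S.p_fromOpcycles, Category.assoc, Injective.comp_factorThru, S.p_descOpcycles]

end Abstract

section Transport

variable {𝒮 : Type*} [Category 𝒮] {𝒜₁ : Type*} [Category 𝒜₁] [Preadditive 𝒜₁]
  {𝒜₂ : Type*} [Category 𝒜₂] [Preadditive 𝒜₂]
  (X : SimplicialObject 𝒮) (G₁ : 𝒮 ⥤ 𝒜₁) (G₂ : 𝒮 ⥤ 𝒜₂) (A₁ : 𝒜₁) (A₂ : 𝒜₂)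
  (E : ∀ K : 𝒮, (G₁.obj K ⟶ A₁) ≃+ (G₂.obj K ⟶ A₂))
  (hE : ∀ {K K' : 𝒮} (a : K ⟶ K') (g : G₁.obj K' ⟶ A₁), E K (G₁.map a ≫ g) = G₂.map a ≫ E K' g)

include hE in
/-- natural additive bijections of hom groups are compatible with alternating face differentials -/
lemma transport_d (n : ℕ) (g : G₁.obj (X.obj (op ⦋n⦌)) ⟶ A₁) :
    E _ ((AlternatingFaceMapComplex.obj (X ⋙ G₁)).d (n + 1) n ≫ g) =
      (AlternatingFaceMapComplex.obj (X ⋙ G₂)).d (n + 1) n ≫ E _ g := by
  rw [AlternatingFaceMapComplex.obj_d_eq, AlternatingFaceMapComplex.obj_d_eq,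
    Preadditive.sum_comp, Preadditive.sum_comp, map_sum]
  refine Finset.sum_congr rfl fun i _ => ?_
  rw [Preadditive.zsmul_comp, Preadditive.zsmul_comp, map_zsmul]
  congr 1
  exact hE _ g

end Transport

section Sectionwise

variable {C : Type u} [SmallCategory C] (J : GrothendieckTopology C)
variable {ℳ : Type*} [Category ℳ] [Abelian ℳ] (Θ : (Cᵒᵖ ⥤ Type u) ⥤ ℳ)
variable {K' K : Sheaf J (Type u)} (f : K' ⟶ K)

/-- evaluation of the Čech nerve augmented over the image presheaf -/
noncomputable def isoW (U : C) :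
    ((Augmented.whiskering _ _).obj ((evaluation Cᵒᵖ (Type u)).obj (op U))).obj (Z' J f) ≅
      W (Arrow.mk f) (Ψ J U) :=
  Comma.isoMk (Iso.refl _) (Iso.refl _) (by
    refine NatTrans.ext (funext fun n => ?_)
    dsimp
    have key : ((Z' J f).hom.app n).app (op U) = (W (Arrow.mk f) (Ψ J U)).hom.app n := by
      ext x
      exact Subtype.ext (map_coord (Arrow.mk f) (Ψ J U) x 0)
    refine (Category.id_comp _).trans (Eq.trans ?_ (Category.comp_id _).symm)
    dsimp [Augmented.whiskering, Augmented.whiskeringObj]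
    rw [key]
    rfl)

variable {D : Type*} [Category D] [Abelian D]
  (ev : C → (ℳ ⥤ D)) [∀ U, (ev U).Additive]
  (θ : C → (Type u ⥤ D))
  (τ : ∀ U, Θ ⋙ ev U ≅ (evaluation Cᵒᵖ (Type u)).obj (op U) ⋙ θ U)
  (hrefl : ∀ {A B : ChainComplex ℳ ℕ} (φ : A ⟶ B),
    (∀ U, QuasiIso (((ev U).mapHomologicalComplex _).map φ)) → QuasiIso φ)

/-- the comparison of augmented simplicial objects -/
noncomputable def isoSect (U : C) :
    ((Augmented.whiskering _ _).obj (ev U)).obj (((Augmented.whiskering _ _).obj Θ).obj (Z' J f)) ≅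
      ((Augmented.whiskering _ _).obj (θ U)).obj (W (Arrow.mk f) (Ψ J U)) :=
  (Comma.isoMk (Iso.refl _) (Iso.refl _) (by
      refine NatTrans.ext (funext fun n => ?_)
      dsimp [Augmented.whiskering, Augmented.whiskeringObj]
      simp
      exact Category.id_comp _) :
    ((Augmented.whiskering _ _).obj (ev U)).obj (((Augmented.whiskering _ _).obj Θ).obj (Z' J f)) ≅
      ((Augmented.whiskering _ _).obj (Θ ⋙ ev U)).obj (Z' J f)) ≪≫
  ((Augmented.whiskering _ _).mapIso (τ U)).app (Z' J f) ≪≫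
  (Comma.isoMk (Iso.refl _) (Iso.refl _) (by
      refine NatTrans.ext (funext fun n => ?_)
      dsimp [Augmented.whiskering, Augmented.whiskeringObj]
      simp
      exact Category.id_comp _) :
    ((Augmented.whiskering _ _).obj ((evaluation Cᵒᵖ (Type u)).obj (op U) ⋙ θ U)).obj (Z' J f) ≅
      ((Augmented.whiskering _ _).obj (θ U)).obj
        (((Augmented.whiskering _ _).obj ((evaluation Cᵒᵖ (Type u)).obj (op U))).obj (Z' J f))) ≪≫
  ((Augmented.whiskering _ _).obj (θ U)).mapIso (isoW J f U)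

include τ hrefl in
theorem quasiIso_ε_of_sectionwise :
    QuasiIso (AlternatingFaceMapComplex.ε.app
      (((Augmented.whiskering _ _).obj Θ).obj (Z' J f))) := by
  apply hrefl
  intro U
  rw [quasiIso_ε_whiskering_iff (ev U)]
  rw [quasiIso_ε_iff_of_hom (isoSect J Θ f ev θ τ U).hom]
  exact inferInstanceAs (QuasiIso
    ((extraDegeneracy (Arrow.mk f) (Ψ J U)).map (θ U)).homotopyEquiv.hom)

variable {𝒜 : Type*} [Category 𝒜] [Abelian 𝒜] (L : ℳ ⥤ 𝒜) [L.Additive] [L.PreservesHomology]

include τ hrefl in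
theorem exactAt_succ_of_sectionwise (n : ℕ) :
    (AlternatingFaceMapComplex.obj
      ((Arrow.mk f).cechNerve ⋙ sheafToPresheaf J (Type u) ⋙ Θ ⋙ L)).ExactAt (n + 1) := by
  haveI h := quasiIso_ε_of_sectionwise J Θ f ev θ τ hrefl
  have h' : QuasiIso ((L.mapHomologicalComplex _).map (AlternatingFaceMapComplex.ε.app
      (((Augmented.whiskering _ _).obj Θ).obj (Z' J f)))) := inferInstance
  have h'' := (quasiIso_ε_whiskering_iff L _).1 h'
  exact exactAt_succ _ (AlternatingFaceMapComplex.ε.app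
    (((Augmented.whiskering _ _).obj L).obj (((Augmented.whiskering _ _).obj Θ).obj (Z' J f)))) n

end Sectionwise

end Groth.Agent.Lib.ModCech
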