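import Mathlib
import Groth.Prelude.Def_CohCx
import Groth.Agent.Lib.ModCech_helper2
import Groth.Agent.Lib.CechAcyc_helper2
import Groth.Agent.Lib.CechTot_helper2

/-!
# Free sheaves of modules on sheaves of sets; injective sheaves of modules are totally acyclic
-/

set_option autoImplicit false
universe u
open CategoryTheory Limits Opposite Simplicial AlgebraicTopology SimplicialObject

namespace Groth.Agent.Lib.ModFree
open Groth.Agent.Lib.CechExtra Groth.Agent.Lib.CechRes Groth.Agent.Lib.ExtRes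
  Groth.Agent.Lib.ModCech Groth.Agent.Lib.CechAcyc

variable {C : Type u} [SmallCategory C]

section Presheaf

variable (R₀ : Cᵒᵖ ⥤ RingCat.{u})

/-- sections over `U`, as an abelian group -/
noncomputable abbrev evU (U : C) : PresheafOfModules.{u} R₀ ⥤ AddCommGrpCat.{u} :=
  PresheafOfModules.toPresheaf R₀ ⋙ (evaluation Cᵒᵖ AddCommGrpCat.{u}).obj (op U)

instance (U : C) : (evU R₀ U).Additive := by
  dsimp only [evU]
  infer_instance

lemma hrefl {A B : ChainComplex (PresheafOfModules.{u} R₀) ℕ} (φ : A ⟶ B)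
    (h : ∀ U : C, QuasiIso (((evU R₀ U).mapHomologicalComplex _).map φ)) : QuasiIso φ := by
  rw [← HomologicalComplex.quasiIso_map_iff_of_preservesHomology φ (PresheafOfModules.toPresheaf R₀)]
  rw [HomologicalComplex.quasiIso_iff_evaluation]
  intro U
  exact h U.unop

/-- the free module functor valued in abelian groups -/
noncomputable abbrev θfree (U : C) : Type u ⥤ AddCommGrpCat.{u} :=
  ModuleCat.free (R₀.obj (op U)) ⋙ forget₂ (ModuleCat.{u} (R₀.obj (op U))) AddCommGrpCat.{u}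

/-- the free presheaf of modules is computed sectionwise -/
noncomputable def τfree (U : C) :
    PresheafOfModules.free R₀ ⋙ evU R₀ U ≅
      (evaluation Cᵒᵖ (Type u)).obj (op U) ⋙ θfree R₀ U :=
  NatIso.ofComponents (fun P => Iso.refl _) (by
    intro P Q g
    simp only [Iso.refl_hom, Category.comp_id, Category.id_comp]
    rfl)

end Presheaf

variable {J : GrothendieckTopology C} (R : Sheaf J RingCat.{u})

/-- the forgetful functor to presheaves of modules -/
noncomputable def iFR : SheafOfModules.{u} R ⥤ PresheafOfModules.{u} R.obj :=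
  SheafOfModules.forget R

/-- sheafification of presheaves of modules -/
noncomputable def LfR : PresheafOfModules.{u} R.obj ⥤ SheafOfModules.{u} R :=
  PresheafOfModules.sheafification.{u} (𝟙 R.obj)

/-- the sheafification adjunction -/
noncomputable def adjR : LfR R ⊣ iFR R :=
  PresheafOfModules.sheafificationAdjunction (𝟙 R.obj)

instance : PreservesFiniteLimits (LfR R) :=
  inferInstanceAs (PreservesFiniteLimits (PresheafOfModules.sheafification.{u} (𝟙 R.obj)))

instance : PreservesFiniteColimits (LfR R) := by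
  haveI := (adjR R).leftAdjoint_preservesColimits
  exact ⟨fun _ _ _ => inferInstance⟩

instance : (iFR R).Additive where
  map_add := rfl

instance : (LfR R).Additive := (adjR R).left_adjoint_additive

/-- the free sheaf of modules on a presheaf of sets -/
noncomputable def L₁ : (Cᵒᵖ ⥤ Type u) ⥤ SheafOfModules.{u} R :=
  PresheafOfModules.free R.obj ⋙ LfR R

/-- the free abelian sheaf on a presheaf of sets -/
noncomputable def L₂ : (Cᵒᵖ ⥤ Type u) ⥤ Sheaf J AddCommGrpCat.{u} :=
  (Functor.whiskeringRight _ _ _).obj AddCommGrpCat.free.{u} ⋙ presheafToSheaf J AddCommGrpCat.{u}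

/-- `free ⊣ forget` for sheaves of modules -/
noncomputable def adj₁ : L₁ R ⊣ iFR R ⋙ PresheafOfModules.toPresheaf R.obj ⋙
    (Functor.whiskeringRight _ _ _).obj (forget AddCommGrpCat.{u}) :=
  (PresheafOfModules.freeAdjunction R.obj).comp (adjR R)

/-- `free ⊣ forget` for abelian sheaves -/
noncomputable def adj₂ : L₂ (J := J) ⊣ sheafToPresheaf J AddCommGrpCat.{u} ⋙
    (Functor.whiskeringRight _ _ _).obj (forget AddCommGrpCat.{u}) :=
  (AddCommGrpCat.adj.whiskerRight Cᵒᵖ).comp (sheafificationAdjunction J AddCommGrpCat.{u})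

/-- the right adjoint on abelian sheaves -/
noncomputable abbrev R₂ : Sheaf J AddCommGrpCat.{u} ⥤ (Cᵒᵖ ⥤ Type u) :=
  sheafToPresheaf J AddCommGrpCat.{u} ⋙
    (Functor.whiskeringRight _ _ _).obj (forget AddCommGrpCat.{u})

/-- first step of the basic bijection -/
noncomputable def e₁ (P : Cᵒᵖ ⥤ Type u) (N : SheafOfModules.{u} R) :
    ((L₁ R).obj P ⟶ N) ≃ (P ⟶ (R₂ (J := J)).obj ((SheafOfModules.toSheaf R).obj N)) :=
  (adj₁ R).homEquiv P N

lemma e₁_comp (P : Cᵒᵖ ⥤ Type u) {N N' : SheafOfModules.{u} R} (g : (L₁ R).obj P ⟶ N)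
    (k : N ⟶ N') :
    e₁ R P N' (g ≫ k) = e₁ R P N g ≫ (R₂ (J := J)).map ((SheafOfModules.toSheaf R).map k) :=
  (adj₁ R).homEquiv_naturality_right g k

lemma e₁_map_comp {P P' : Cᵒᵖ ⥤ Type u} (a : P ⟶ P') (N : SheafOfModules.{u} R)
    (g : (L₁ R).obj P' ⟶ N) : e₁ R P N ((L₁ R).map a ≫ g) = a ≫ e₁ R P' N g :=
  (adj₁ R).homEquiv_naturality_left a g

/-- the basic bijection -/
noncomputable def E₀ (P : Cᵒᵖ ⥤ Type u) (N : SheafOfModules.{u} R) :
    ((L₁ R).obj P ⟶ N) ≃ ((L₂ (J := J)).obj P ⟶ (SheafOfModules.toSheaf R).obj N) :=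
  (e₁ R P N).trans ((adj₂ (J := J)).homEquiv P ((SheafOfModules.toSheaf R).obj N)).symm

lemma E₀_comp (P : Cᵒᵖ ⥤ Type u) {N N' : SheafOfModules.{u} R} (g : (L₁ R).obj P ⟶ N)
    (k : N ⟶ N') : E₀ R P N' (g ≫ k) = E₀ R P N g ≫ (SheafOfModules.toSheaf R).map k := by
  change ((adj₂ (J := J)).homEquiv P _).symm (e₁ R P N' (g ≫ k)) =
    ((adj₂ (J := J)).homEquiv P _).symm (e₁ R P N g) ≫ _
  rw [e₁_comp]
  exact (adj₂ (J := J)).homEquiv_naturality_right_symm _ _

lemma E₀_map_comp {P P' : Cᵒᵖ ⥤ Type u} (a : P ⟶ P') (N : SheafOfModules.{u} R)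
    (g : (L₁ R).obj P' ⟶ N) : E₀ R P N ((L₁ R).map a ≫ g) = (L₂ (J := J)).map a ≫ E₀ R P' N g := by
  change ((adj₂ (J := J)).homEquiv P _).symm (e₁ R P N ((L₁ R).map a ≫ g)) =
    _ ≫ ((adj₂ (J := J)).homEquiv P' _).symm (e₁ R P' N g)
  rw [e₁_map_comp]
  exact (adj₂ (J := J)).homEquiv_naturality_left_symm _ _

/-- the additive version -/
noncomputable def E (P : Cᵒᵖ ⥤ Type u) (N : SheafOfModules.{u} R) :
    ((L₁ R).obj P ⟶ N) ≃+ ((L₂ (J := J)).obj P ⟶ (SheafOfModules.toSheaf R).obj N) :=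
  { E₀ R P N with
    map_add' := fun g g' => by
      have h : ∀ k : (L₁ R).obj P ⟶ N, E₀ R P N k =
          E₀ R P _ (𝟙 _) ≫ (SheafOfModules.toSheaf R).map k := fun k => by
        rw [← E₀_comp, Category.id_comp]
      change E₀ R P N (g + g') = E₀ R P N g + E₀ R P N g'
      rw [h (g + g'), h g, h g', Functor.map_add, Preadditive.comp_add] }

lemma E_apply (P : Cᵒᵖ ⥤ Type u) (N : SheafOfModules.{u} R) (g : (L₁ R).obj P ⟶ N) :
    E R P N g = E₀ R P N g := rfl

/-- the free sheaf of modules on a sheaf of sets -/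
noncomputable def Φ : Sheaf J (Type u) ⥤ SheafOfModules.{u} R :=
  sheafToPresheaf J (Type u) ⋙ L₁ R

/-- the Čech chain complex of free sheaves of modules -/
noncomputable abbrev Xcx {K' K : Sheaf J (Type u)} (f : K' ⟶ K) :
    ChainComplex (SheafOfModules.{u} R) ℕ :=
  AlternatingFaceMapComplex.obj ((Arrow.mk f).cechNerve ⋙ Φ R)

lemma Xcx_exactAt {K' K : Sheaf J (Type u)} (f : K' ⟶ K) (n : ℕ) :
    (Xcx R f).ExactAt (n + 1) :=
  exactAt_succ_of_sectionwise J (PresheafOfModules.free R.obj) f (evU R.obj) (θfree R.obj)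
    (τfree R.obj) (hrefl R.obj) (LfR R) n

/-- injective sheaves of modules are totally acyclic -/
theorem totallyAcyclic_toSheaf_of_injective (I : SheafOfModules.{u} R) [Injective I] :
    CohCx.IsTotallyAcyclic ((SheafOfModules.toSheaf R).obj I) := by
  apply Groth.Agent.Lib.CechTot.totallyAcyclic_of_cech
  intro K' K f _ q
  rw [isZero_cech_iff]
  intro φ hφ
  have hE : ∀ {K₁ K₂ : Sheaf J (Type u)} (a : K₁ ⟶ K₂) (g : (Φ R).obj K₂ ⟶ I),
      E R K₁.obj I ((Φ R).map a ≫ g) = (G (J := J)).map a ≫ E R K₂.obj I g :=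
    fun a g => E₀_map_comp R ((sheafToPresheaf J (Type u)).map a) I g
  have ht := fun n g => transport_d (Arrow.mk f).cechNerve (Φ R) (G (J := J)) I
    ((SheafOfModules.toSheaf R).obj I) (fun K => E R K.obj I) hE n g
  -- transport `φ`
  let φ' : (Xcx R f).X (q + 1) ⟶ I := (E R _ I).symm φ
  have hφ' : (Xcx R f).d (q + 2) (q + 1) ≫ φ' = 0 := by
    apply (E R ((Arrow.mk f).cechNerve.obj (op ⦋q + 2⦌)).obj I).injective
    have e1 : E R ((Arrow.mk f).cechNerve.obj (op ⦋q + 1⦌)).obj I φ' = φ :=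
      AddEquiv.apply_symm_apply _ _
    refine (ht (q + 1) φ').trans (Eq.trans ?_ (map_zero _).symm)
    exact (congrArg (fun z => (Lf f).d (q + 2) (q + 1) ≫ z) e1).trans hφ
  have hex := (Xcx_exactAt R f q)
  rw [HomologicalComplex.exactAt_iff' _ (q + 2) (q + 1) q (by simp) (by simp)] at hex
  obtain ⟨ψ', hψ'⟩ := exists_desc_of_exact_injective _ hex I φ' hφ'
  refine ⟨E R _ I ψ', ?_⟩
  have h2 : (Xcx R f).d (q + 1) q ≫ ψ' = φ' := hψ'
  refine (ht q ψ').symm.trans ?_
  exact (congrArg (E R ((Arrow.mk f).cechNerve.obj (op ⦋q + 1⦌)).obj I) h2).trans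
    (AddEquiv.apply_symm_apply _ _)

end Groth.Agent.Lib.ModFree
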