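import Groth.Agent.Lib.FunctorialInjective_helper2
import Mathlib.Algebra.Category.ModuleCat.Sheaf.Abelian
import Mathlib.Algebra.Category.ModuleCat.Sheaf.Colimits
import Mathlib.CategoryTheory.Abelian.GrothendieckAxioms.Sheaf

/-!
# Sheaves of modules on a small site form a Grothendieck abelian category
-/

set_option autoImplicit false
universe v u
open CategoryTheory Limits

namespace Groth.Agent.Lib.FunctorialInjective

/-- A left adjoint whose right adjoint is faithful sends separators to separators. -/
theorem isSeparator_of_adjunction {C D : Type*} [Category C] [Category D] {F : C ⥤ D} {G : D ⥤ C}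
    (adj : F ⊣ G) [G.Faithful] {s : C} (hs : IsSeparator s) : IsSeparator (F.obj s) := by
  rw [isSeparator_def] at hs ⊢
  intro X Y f g h
  apply G.map_injective
  apply hs
  intro k
  have := h ((adj.homEquiv _ _).symm k)
  have h2 := congrArg (adj.homEquiv _ _) this
  simpa [Adjunction.homEquiv_naturality_right] using h2

/-- Sheaves of modules over a sheaf of rings on a small site form a Grothendieck abelian
category. -/
theorem isGrothendieckAbelian_sheafOfModules {C : Type u} [SmallCategory C]
    (J : GrothendieckTopology C) (R : Sheaf J RingCat.{u}) :
    IsGrothendieckAbelian.{u} (SheafOfModules.{u} R) := by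
  have := isGrothendieckAbelian_presheafOfModules R.obj
  let adj := PresheafOfModules.sheafificationAdjunction (𝟙 R.obj)
  exact
  { ab5OfSize := ⟨fun K _ _ => adj.hasExactColimitsOfShape K⟩
    hasSeparator := ⟨_, isSeparator_of_adjunction adj (isSeparator_separator _)⟩ }

end Groth.Agent.Lib.FunctorialInjective
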