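import Mathlib
import Groth.Prelude.Def_CohCx
import Groth.Agent.Lib.ModFree_helper2
import Groth.Agent.Lib.SheafOfModulesGrothendieck_helper2
import Groth.Agent.Lib.Bridge_helper9
import Groth.Agent.Lib.ExtDer_helper9
import Groth.Agent.Lib.LerayDer_helper9
import Groth.Agent.Lib.LerayHU_helper2
import Groth.Agent.Lib.ModSite1_helper8

/-!
# Cohomology of a sheaf of modules: `Ext^n_R(R, M) ≃ H^n` of the underlying abelian sheaf
-/

set_option autoImplicit false
universe u
open CategoryTheory Limits Opposite Abelian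

namespace Groth.Agent.Lib.ModFree
open Groth.Agent.Lib.FunctorialInjective Groth.Agent.Lib.LerayHU

section General

variable {A B : Type*} [Category A] [Category B] [Abelian A] [Abelian B]
  [HasInjectiveResolutions A]

/-- every object is acyclic for an exact functor -/
lemma acyclic_of_exact (F : A ⥤ B) [F.Additive] [PreservesFiniteLimits F]
    [PreservesFiniteColimits F] (X : A) : LerayDer.Acyclic F X := by
  intro i hi
  obtain ⟨k, rfl⟩ : ∃ k, i = k + 1 := ⟨i - 1, by omega⟩
  let I := injectiveResolution X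
  refine IsZero.of_iso ?_ (I.isoRightDerivedObj F (k + 1))
  change IsZero (((F.mapHomologicalComplex _).obj I.cocomplex).homology (k + 1))
  rw [← HomologicalComplex.exactAt_iff_isZero_homology]
  have h := I.cocomplex_exactAt_succ k
  exact (h.map F : ((I.cocomplex.sc (k + 1)).map F).Exact)

end General

variable {C : Type u} [SmallCategory C]

/-- the terminal presheaf of sets -/
abbrev pt (C : Type u) [SmallCategory C] : Cᵒᵖ ⥤ Type u := (Functor.const Cᵒᵖ).obj PUnit.{u + 1}

variable (J : GrothendieckTopology C)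

/-- the constant sheaf `ℤ` -/
noncomputable abbrev cZ : Sheaf J AddCommGrpCat.{u} :=
  (constantSheaf J AddCommGrpCat.{u}).obj (AddCommGrpCat.of (ULift.{u} ℤ))

/-- the terminal sheaf of sets -/
def ptSheaf : Sheaf J (Type u) :=
  ⟨pt C, Presheaf.isSheaf_of_isTerminal J Types.isTerminalPUnit⟩

/-- the free abelian group on a point -/
noncomputable def freePUnitIso :
    AddCommGrpCat.free.{u}.obj PUnit.{u + 1} ≅ AddCommGrpCat.of (ULift.{u} ℤ) :=
  AddEquiv.toAddCommGrpIso ((FreeAbelianGroup.uniqueEquiv PUnit.{u + 1}).trans AddEquiv.ulift.symm)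

/-- the free abelian sheaf on the terminal presheaf is the constant sheaf `ℤ` -/
noncomputable def L₂ptIso : (L₂ (J := J)).obj (pt C) ≅ cZ J :=
  (presheafToSheaf J AddCommGrpCat.{u}).mapIso
    (NatIso.ofComponents (fun _ => freePUnitIso) (by
      intro X Y f
      change AddCommGrpCat.free.map (𝟙 _) ≫ _ = _ ≫ 𝟙 _
      rw [CategoryTheory.Functor.map_id, Category.id_comp, Category.comp_id]))

variable {J}

/-- totally acyclic abelian sheaves are acyclic for global sections -/
lemma acyclic_homcZ_of_totallyAcyclic (F : Sheaf J AddCommGrpCat.{u})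
    (hF : CohCx.IsTotallyAcyclic F) : LerayDer.Acyclic (ExtDer.hom (cZ J)) F := by
  intro i hi
  obtain ⟨k, rfl⟩ : ∃ k, i = k + 1 := ⟨i - 1, by omega⟩
  apply isZero_of_subsingleton_ext
  have h := hF (ptSheaf J) k
  exact ExtRes.subsingleton_ext_of_iso F (L₂ptIso J).symm (k + 1) h

variable (R : Sheaf J RingCat.{u})

/-- global sections of a sheaf of modules, as maps from the terminal presheaf -/
noncomputable def s₁ (M : SheafOfModules.{u} R) :
    (SheafOfModules.unit R ⟶ M) ≃
      (pt C ⟶ (R₂ (J := J)).obj ((SheafOfModules.toSheaf R).obj M)) :=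
  M.unitHomEquiv.trans
    (Functor.sectionsEquivHom ((R₂ (J := J)).obj ((SheafOfModules.toSheaf R).obj M))
      PUnit.{u + 1})

lemma s₁_comp {M M' : SheafOfModules.{u} R} (g : SheafOfModules.unit R ⟶ M) (k : M ⟶ M') :
    s₁ R M' (g ≫ k) = s₁ R M g ≫ (R₂ (J := J)).map ((SheafOfModules.toSheaf R).map k) :=
  Functor.sectionsEquivHom_naturality ((R₂ (J := J)).map ((SheafOfModules.toSheaf R).map k))
    PUnit.{u + 1} (M.unitHomEquiv g)

/-- global sections of a sheaf of modules, as maps from `ℤ` to the underlying abelian sheaf -/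
noncomputable def eΓ (M : SheafOfModules.{u} R) :
    (SheafOfModules.unit R ⟶ M) ≃ (cZ J ⟶ (SheafOfModules.toSheaf R).obj M) :=
  (s₁ R M).trans <|
    ((adj₂ (J := J)).homEquiv (pt C) ((SheafOfModules.toSheaf R).obj M)).symm.trans
      (L₂ptIso J).homFromEquiv

lemma eΓ_comp {M M' : SheafOfModules.{u} R} (g : SheafOfModules.unit R ⟶ M) (k : M ⟶ M') :
    eΓ R M' (g ≫ k) = eΓ R M g ≫ (SheafOfModules.toSheaf R).map k := by
  change (L₂ptIso J).inv ≫ ((adj₂ (J := J)).homEquiv (pt C) _).symm (s₁ R M' (g ≫ k)) =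
    ((L₂ptIso J).inv ≫ ((adj₂ (J := J)).homEquiv (pt C) _).symm (s₁ R M g)) ≫ _
  rw [s₁_comp, Category.assoc]
  congr 1
  exact (adj₂ (J := J)).homEquiv_naturality_right_symm _ _

/-- additive version -/
noncomputable def eΓadd (M : SheafOfModules.{u} R) :
    (SheafOfModules.unit R ⟶ M) ≃+ (cZ J ⟶ (SheafOfModules.toSheaf R).obj M) :=
  { eΓ R M with
    map_add' := fun g g' => by
      have h : ∀ k : SheafOfModules.unit R ⟶ M, eΓ R M k =
          eΓ R _ (𝟙 _) ≫ (SheafOfModules.toSheaf R).map k := fun k => by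
        rw [← eΓ_comp, Category.id_comp]
      change eΓ R M (g + g') = eΓ R M g + eΓ R M g'
      rw [h (g + g'), h g, h g', Functor.map_add, Preadditive.comp_add] }

/-- `Hom_R(R, -) ≅ Γ ∘ (underlying abelian sheaf)` -/
noncomputable def homUnitIso :
    ExtDer.hom (SheafOfModules.unit R) ≅ SheafOfModules.toSheaf R ⋙ ExtDer.hom (cZ J) :=
  NatIso.ofComponents (fun M => (eΓadd R M).toAddCommGrpIso) (by
    intro M M' k
    ext g
    exact eΓ_comp R g k)

attribute [local instance] HasDerivedCategory.standard in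
theorem ext_unit_addEquiv [HasExt.{u} (SheafOfModules.{u} R)] (M : SheafOfModules.{u} R) (n : ℕ) :
    Nonempty (Abelian.Ext (SheafOfModules.unit R) M n ≃+
      Sheaf.H.{u} ((SheafOfModules.toSheaf R).obj M) n) := by
  haveI := isGrothendieckAbelian_sheafOfModules J R
  haveI := Groth.Agent.Lib.ModSiteH8.toSheaf_preservesColimitsOfSize R
  haveI : PreservesFiniteColimits (SheafOfModules.toSheaf R) := ⟨fun _ _ _ => inferInstance⟩
  obtain ⟨e⟩ := Bridge.comp_acyclic (SheafOfModules.toSheaf R) (ExtDer.hom (cZ J))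
    (fun I hI => acyclic_homcZ_of_totallyAcyclic _ (totallyAcyclic_toSheaf_of_injective R I)) M
    (acyclic_of_exact _ M) n
  let e1 := (ExtDer.natIso (SheafOfModules.unit R) n).app M
  let e2 := (ExtDer.rightDerivedIso (homUnitIso R) n).app M
  let e3 := (ExtDer.natIso (cZ J) n).app ((SheafOfModules.toSheaf R).obj M)
  exact ⟨(e1.symm ≪≫ e2 ≪≫ e.symm ≪≫ e3).addCommGroupIsoToAddEquiv⟩

end Groth.Agent.Lib.ModFree
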