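import Mathlib
import Groth.Prelude.Def_CohCx
import Groth.Agent.Lib.ModFree_helper2

/-!
# A criterion for total acyclicity

If maps from free abelian sheaves into `M` are naturally identified with maps from a functor `Φ'`
into an injective object `G`, and `Φ'` turns Čech nerves into complexes which are exact in
positive degrees, then `M` is totally acyclic.
-/

set_option autoImplicit false
universe u
open CategoryTheory Limits Opposite Simplicial AlgebraicTopology SimplicialObject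

namespace Groth.Agent.Lib.ModFree
open Groth.Agent.Lib.CechExtra Groth.Agent.Lib.CechRes Groth.Agent.Lib.ExtRes
  Groth.Agent.Lib.ModCech Groth.Agent.Lib.CechAcyc

variable {C : Type u} [SmallCategory C] {J : GrothendieckTopology C}

theorem totallyAcyclic_of_rep {𝒜 : Type*} [Category 𝒜] [Abelian 𝒜]
    (Φ' : (Cᵒᵖ ⥤ Type u) ⥤ 𝒜) (I : 𝒜) [Injective I] (M : Sheaf J AddCommGrpCat.{u})
    (E' : ∀ P : Cᵒᵖ ⥤ Type u, (Φ'.obj P ⟶ I) ≃+ ((L₂ (J := J)).obj P ⟶ M))
    (hE' : ∀ {P P' : Cᵒᵖ ⥤ Type u} (a : P ⟶ P') (g : Φ'.obj P' ⟶ I),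
      E' P (Φ'.map a ≫ g) = (L₂ (J := J)).map a ≫ E' P' g)
    (hex : ∀ {K' K : Sheaf J (Type u)} (f : K' ⟶ K) (n : ℕ),
      (AlternatingFaceMapComplex.obj
        ((Arrow.mk f).cechNerve ⋙ sheafToPresheaf J (Type u) ⋙ Φ')).ExactAt (n + 1)) :
    CohCx.IsTotallyAcyclic M := by
  apply Groth.Agent.Lib.CechTot.totallyAcyclic_of_cech
  intro K' K f _ q
  rw [isZero_cech_iff]
  intro φ hφ
  let Φ'' : Sheaf J (Type u) ⥤ 𝒜 := sheafToPresheaf J (Type u) ⋙ Φ'
  let X := AlternatingFaceMapComplex.obj ((Arrow.mk f).cechNerve ⋙ Φ'')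
  have hE : ∀ {K₁ K₂ : Sheaf J (Type u)} (a : K₁ ⟶ K₂) (g : Φ''.obj K₂ ⟶ I),
      E' K₁.obj (Φ''.map a ≫ g) = (G (J := J)).map a ≫ E' K₂.obj g :=
    fun a g => hE' ((sheafToPresheaf J (Type u)).map a) g
  have ht := fun n g => transport_d (Arrow.mk f).cechNerve Φ'' (G (J := J)) I
    M (fun K => E' K.obj) hE n g
  let φ' : X.X (q + 1) ⟶ I := (E' _).symm φ
  have hφ' : X.d (q + 2) (q + 1) ≫ φ' = 0 := by
    apply (E' ((Arrow.mk f).cechNerve.obj (op ⦋q + 2⦌)).obj).injective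
    have e1 : E' ((Arrow.mk f).cechNerve.obj (op ⦋q + 1⦌)).obj φ' = φ :=
      AddEquiv.apply_symm_apply _ _
    refine (ht (q + 1) φ').trans (Eq.trans ?_ (map_zero _).symm)
    exact (congrArg (fun z => (Lf f).d (q + 2) (q + 1) ≫ z) e1).trans hφ
  have hex' : X.ExactAt (q + 1) := hex f q
  rw [HomologicalComplex.exactAt_iff' _ (q + 2) (q + 1) q (by simp) (by simp)] at hex'
  obtain ⟨ψ', hψ'⟩ := exists_desc_of_exact_injective _ hex' I φ' hφ'
  refine ⟨E' _ ψ', ?_⟩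
  have h2 : X.d (q + 1) q ≫ ψ' = φ' := hψ'
  refine (ht q ψ').symm.trans ?_
  exact (congrArg (E' ((Arrow.mk f).cechNerve.obj (op ⦋q + 1⦌)).obj) h2).trans
    (AddEquiv.apply_symm_apply _ _)

end Groth.Agent.Lib.ModFree
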