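import Mathlib
import Groth.Prelude.Def_ModSite
import Groth.Prelude.Def_CohCx
import Groth.Agent.Lib.ModRep_helper2
import Groth.Agent.Lib.ModSite9_helper8

/-!
# The internal hom into an injective sheaf of modules is totally acyclic
-/

set_option autoImplicit false
universe u
open CategoryTheory Limits Opposite Simplicial AlgebraicTopology SimplicialObject MonoidalCategory

namespace Groth.Agent.Lib.ModFree
open Groth.Agent.Lib.CechExtra Groth.Agent.Lib.CechRes Groth.Agent.Lib.ExtRes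
  Groth.Agent.Lib.ModCech Groth.Agent.Lib.CechAcyc ModSite Groth.Agent.Lib.ModSiteH8

variable {C : Type u} [SmallCategory C] {J : GrothendieckTopology C}
  (O : Sheaf J CommRingCat.{u}) (F : Mod O)

instance : (iF O).Additive where
  map_add := rfl

instance : (Lf O).Additive := (adjLf O).left_adjoint_additive

instance : PreservesFiniteLimits (Lf O) :=
  inferInstanceAs (PreservesFiniteLimits
    (PresheafOfModules.sheafification.{u} (𝟙 (ringSh O).obj)))

instance : PreservesFiniteColimits (Lf O) := ⟨fun _ _ _ => inferInstance⟩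

/-- the free presheaf of modules functor, typed on `PM O.obj` -/
noncomputable def freeO : (Cᵒᵖ ⥤ Type u) ⥤ PM O.obj :=
  PresheafOfModules.free (O.obj ⋙ forget₂ CommRingCat.{u} RingCat.{u})

/-- `P ↦ O[P] ⊗ F` on presheaves -/
noncomputable def ΘT : (Cᵒᵖ ⥤ Type u) ⥤ PM O.obj :=
  freeO O ⋙ tensorRight ((iF O).obj F)

/-- the sectionwise version -/
noncomputable abbrev θT (U : C) : Type u ⥤ AddCommGrpCat.{u} :=
  ModuleCat.free (O.obj.obj (op U)) ⋙
    tensorRight (C := ModuleCat.{u} (O.obj.obj (op U))) (((iF O).obj F).obj (op U)) ⋙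
    forget₂ (ModuleCat.{u} (O.obj.obj (op U))) AddCommGrpCat.{u}

noncomputable def τT (U : C) :
    ΘT O F ⋙ evU (O.obj ⋙ forget₂ CommRingCat.{u} RingCat.{u}) U ≅
      (evaluation Cᵒᵖ (Type u)).obj (op U) ⋙ θT O F U :=
  NatIso.ofComponents (fun P => Iso.refl _) (by
    intro P Q g
    simp only [Iso.refl_hom, Category.comp_id, Category.id_comp]
    rfl)

lemma ΘT_exactAt {K' K : Sheaf J (Type u)} (f : K' ⟶ K) (n : ℕ) :
    (AlternatingFaceMapComplex.obj
      ((Arrow.mk f).cechNerve ⋙ sheafToPresheaf J (Type u) ⋙ ΘT O F ⋙ Lf O)).ExactAt (n + 1) :=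
  exactAt_succ_of_sectionwise J (ΘT O F) f (evU _) (θT O F) (τT O F) (hrefl _) (Lf O) n

/-- comparison with the tensor product of sheaves of modules -/
noncomputable def ιT : ΘT O F ⋙ Lf O ≅ L₁ (ringSh O) ⋙ (tensorBi O).flip.obj F :=
  (Functor.isoWhiskerLeft (freeO O) (thetaIso O F) :
    freeO O ⋙ (tensorRight ((iF O).obj F) ⋙ Lf O) ≅
      freeO O ⋙ (Lf O ⋙ iF O ⋙ tensorRight ((iF O).obj F) ⋙ Lf O)) ≪≫
  (Functor.isoWhiskerLeft (freeO O ⋙ Lf O) (flipIso O F).symm :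
    (freeO O ⋙ Lf O) ⋙ (iF O ⋙ tensorRight ((iF O).obj F) ⋙ Lf O) ≅
      (freeO O ⋙ Lf O) ⋙ (tensorBi O).flip.obj F)

variable [HasSheafHom F] (G : Mod O)

/-- maps `O[P] ⊗ F ⟶ G` are maps `ℤ[P] ⟶ ℋom(F, G)` -/
noncomputable def ET (P : Cᵒᵖ ⥤ Type u) :
    ((ΘT O F ⋙ Lf O).obj P ⟶ G) ≃+ ((L₂ (J := J)).obj P ⟶ toAb ((sheafHom F).obj G)) :=
  ({ toFun := fun g => (ιT O F).inv.app P ≫ g
     invFun := fun h => (ιT O F).hom.app P ≫ h
     left_inv := fun g => by simp
     right_inv := fun h => by simp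
     map_add' := fun g g' => Preadditive.comp_add _ _ _ _ _ _ } :
    ((ΘT O F ⋙ Lf O).obj P ⟶ G) ≃+
      (((tensorBi O).flip.obj F).obj ((L₁ (ringSh O)).obj P) ⟶ G)).trans <|
  ((sheafHomAdj F).homAddEquiv ((L₁ (ringSh O)).obj P) G).trans
    (E (ringSh O) P ((sheafHom F).obj G))

lemma ET_map_comp {P P' : Cᵒᵖ ⥤ Type u} (a : P ⟶ P') (g : (ΘT O F ⋙ Lf O).obj P' ⟶ G) :
    ET O F G P ((ΘT O F ⋙ Lf O).map a ≫ g) = (L₂ (J := J)).map a ≫ ET O F G P' g := by
  change E (ringSh O) P _ ((sheafHomAdj F).homEquiv _ _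
      ((ιT O F).inv.app P ≫ (ΘT O F ⋙ Lf O).map a ≫ g)) =
    _ ≫ E (ringSh O) P' _ ((sheafHomAdj F).homEquiv _ _ ((ιT O F).inv.app P' ≫ g))
  rw [← (ιT O F).inv.naturality_assoc a, Functor.comp_map,
    (sheafHomAdj F).homEquiv_naturality_left]
  exact E₀_map_comp (ringSh O) a _ _

/-- S6150 -/
theorem totallyAcyclic_sheafHom_injective [Injective G] :
    CohCx.IsTotallyAcyclic (toAb ((sheafHom F).obj G)) :=
  totallyAcyclic_of_rep (ΘT O F ⋙ Lf O) G _ (ET O F G) (ET_map_comp O F G)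
    (fun f n => ΘT_exactAt O F f n)

end Groth.Agent.Lib.ModFree
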