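import Mathlib
import Groth.Agent.Lib.ModSite9_helper8

namespace Groth.Agent.Lib.ModSiteH8
open CategoryTheory Limits Opposite MonoidalCategory ModSite

universe u

variable {C : Type u} [SmallCategory C] {J : GrothendieckTopology C}
variable (O : Sheaf J CommRingCat.{u})

/-- associativity, flip form: `(X ⊗ G) ⊗ F ≅ X ⊗ (G ⊗ F)` naturally in `X` -/
noncomputable def assocFlip (G F : Mod O) :
    (tensorBi O).flip.obj G ⋙ (tensorBi O).flip.obj F ≅
      (tensorBi O).flip.obj (((tensorBi O).obj G).obj F) :=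
  let Q : PM O.obj := (iF O).obj G ⊗ (iF O).obj F
  calc (tensorBi O).flip.obj G ⋙ (tensorBi O).flip.obj F
      ≅ (iF O ⋙ tensorRight ((iF O).obj G) ⋙ Lf O) ⋙
          (iF O ⋙ tensorRight ((iF O).obj F) ⋙ Lf O) :=
        Functor.isoWhiskerRight (flipIso O G) _ ≪≫ Functor.isoWhiskerLeft _ (flipIso O F)
    _ ≅ iF O ⋙ tensorRight ((iF O).obj G) ⋙ (tensorRight ((iF O).obj F) ⋙ Lf O) :=
        Functor.isoWhiskerLeft (iF O) (Functor.isoWhiskerLeft (tensorRight ((iF O).obj G))
          (thetaIso O F).symm)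
    _ ≅ iF O ⋙ (tensorRight Q ⋙ Lf O) :=
        Functor.isoWhiskerLeft (iF O) (Functor.isoWhiskerRight
          (tensorRightTensor ((iF O).obj G) ((iF O).obj F)).symm (Lf O))
    _ ≅ iF O ⋙ (tensorRight ((iF O).obj ((Lf O).obj Q)) ⋙ Lf O) :=
        Functor.isoWhiskerLeft (iF O) (tensorRightLfIso O Q)
    _ ≅ (tensorBi O).flip.obj (((tensorBi O).obj G).obj F) :=
        (flipIso O (((tensorBi O).obj G).obj F)).symm

/-- `(A ⊗ B) ⊗ M ≅ B ⊗ (A ⊗ M)` naturally in `M` -/
noncomputable def assocObj (A B : Mod O) :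
    (tensorBi O).obj (((tensorBi O).obj A).obj B) ≅ (tensorBi O).obj A ⋙ (tensorBi O).obj B :=
  sigmaIso O _ ≪≫ (assocFlip O A B).symm ≪≫
    (Functor.isoWhiskerRight (sigmaIso O A).symm _ ≪≫ Functor.isoWhiskerLeft _ (sigmaIso O B).symm)

/-- left unitor -/
noncomputable def unitorObj : (tensorBi O).obj (ModSite.unit O) ≅ 𝟭 (Mod O) :=
  objIso O (ModSite.unit O) ≪≫
    Functor.isoWhiskerLeft (iF O) (Functor.isoWhiskerRight
      (leftUnitorNatIso (PM O.obj)) (Lf O)) ≪≫
    asIso (adjLf O).counit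


theorem invertible_package (L N : Mod O) (hL : ((tensorBi O).obj L).IsEquivalence)
    [ModSite.HasSheafHom L] :
    (((tensorBi O).obj N).IsEquivalence →
        ((tensorBi O).obj (((tensorBi O).obj L).obj N)).IsEquivalence) ∧
      ((tensorBi O).obj ((ModSite.sheafHom L).obj (ModSite.unit O))).IsEquivalence ∧
      IsIso ((ModSite.sheafHomAdj L).counit.app (ModSite.unit O)) := by
  haveI := hL
  haveI hflip : ((tensorBi O).flip.obj L).IsEquivalence :=
    Functor.isEquivalence_of_iso (sigmaIso O L)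
  haveI hcounit : IsIso (ModSite.sheafHomAdj L).counit := inferInstance
  refine ⟨fun hN => ?_, ?_, inferInstance⟩
  · haveI := hN
    exact Functor.isEquivalence_of_iso (assocObj O L N).symm
  · let Linv : Mod O := (ModSite.sheafHom L).obj (ModSite.unit O)
    let e0 : ((tensorBi O).obj Linv).obj L ≅ ModSite.unit O :=
      asIso ((ModSite.sheafHomAdj L).counit.app (ModSite.unit O))
    let e1 : (tensorBi O).obj Linv ⋙ (tensorBi O).obj L ≅ 𝟭 (Mod O) :=
      (assocObj O Linv L).symm ≪≫ (tensorBi O).mapIso e0 ≪≫ unitorObj O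
    haveI : ((tensorBi O).obj Linv ⋙ (tensorBi O).obj L).IsEquivalence :=
      Functor.isEquivalence_of_iso e1.symm
    exact Functor.isEquivalence_of_comp_right ((tensorBi O).obj Linv) ((tensorBi O).obj L)

end Groth.Agent.Lib.ModSiteH8
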