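import Mathlib
import Groth.Prelude.Def_ModSite2
import Groth.Prelude.Def_SpSeq
import Groth.Agent.Lib.ModHom_helper2
import Groth.Agent.Lib.ModFreeExt_helper2
import Groth.Agent.Lib.ModSite11_helper8
import Groth.Agent.Lib.GrothSS_helper2

/-!
# The local-to-global Ext spectral sequence on a ringed site
-/

set_option autoImplicit false
universe u
open CategoryTheory Limits Opposite Abelian

namespace Groth.Agent.Lib.ModFree
open ModSite Groth.Agent.Lib.ModSiteH8 Groth.Agent.Lib.FunctorialInjective

variable {C : Type u} [SmallCategory C] {J : GrothendieckTopology C}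

section Ring

variable (R : Sheaf J RingCat.{u})

attribute [local instance] HasDerivedCategory.standard in
/-- the derived functors of global sections of modules are computed on abelian sheaves -/
theorem nonempty_rightDerived_homUnit_iso (X : SheafOfModules.{u} R) (n : ℕ) :
    haveI := isGrothendieckAbelian_sheafOfModules J R
    Nonempty (((ExtDer.hom (SheafOfModules.unit R)).rightDerived n).obj X ≅
      ((ExtDer.hom (cZ J)).rightDerived n).obj ((SheafOfModules.toSheaf R).obj X)) := by
  haveI := isGrothendieckAbelian_sheafOfModules J R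
  haveI := Groth.Agent.Lib.ModSiteH8.toSheaf_preservesColimitsOfSize R
  haveI : PreservesFiniteColimits (SheafOfModules.toSheaf R) := ⟨fun _ _ _ => inferInstance⟩
  obtain ⟨e⟩ := Bridge.comp_acyclic (SheafOfModules.toSheaf R) (ExtDer.hom (cZ J))
    (fun I hI => acyclic_homcZ_of_totallyAcyclic _ (totallyAcyclic_toSheaf_of_injective R I)) X
    (acyclic_of_exact _ X) n
  exact ⟨(ExtDer.rightDerivedIso (homUnitIso R) n).app X ≪≫ e.symm⟩

end Ring

variable (O : Sheaf J CommRingCat.{u}) (M : Mod O) [HasSheafHom M]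

/-- `Hom(M, X) ≃ Hom(O, ℋom(M, X))` -/
noncomputable def homSheafHomAddEquiv (X : Mod O) :
    (M ⟶ X) ≃+ (ModSite.unit O ⟶ (sheafHom M).obj X) :=
  ({ toFun := fun g => (unitorObj O).hom.app M ≫ g
     invFun := fun h => (unitorObj O).inv.app M ≫ h
     left_inv := fun g => by simp
     right_inv := fun h => by simp
     map_add' := fun g g' => Preadditive.comp_add _ _ _ _ _ _ } :
    (M ⟶ X) ≃+ (((tensorBi O).flip.obj M).obj (ModSite.unit O) ⟶ X)).trans
  ((sheafHomAdj M).homAddEquiv (ModSite.unit O) X)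

/-- `Hom(M, -) ≅ Γ ∘ ℋom(M, -)` -/
noncomputable def homSheafHomIso :
    ExtDer.hom M ≅ sheafHom M ⋙ ExtDer.hom (ModSite.unit O) :=
  NatIso.ofComponents (fun X => (homSheafHomAddEquiv O M X).toAddCommGrpIso) (by
    intro X X' k
    ext g
    change (sheafHomAdj M).homEquiv _ _ ((unitorObj O).hom.app M ≫ g ≫ k) =
      (sheafHomAdj M).homEquiv _ _ ((unitorObj O).hom.app M ≫ g) ≫ (sheafHom M).map k
    rw [← Category.assoc, (sheafHomAdj M).homEquiv_naturality_right])

/-- the local-to-global Ext spectral sequence -/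
theorem locToGlob_ss [HasInjectiveResolutions (Mod O)] [HasExt.{u} (Mod O)] (N : Mod O) :
    ∃ (E : E₂CohomologicalSpectralSequence AddCommGrpCat.{u})
      (a : SpSeq.Abutment E (fun n : ℤ =>
        if 0 ≤ n then AddCommGrpCat.of (Abelian.Ext.{u} M N n.toNat)
          else AddCommGrpCat.of PUnit.{u + 1})),
      (∀ n : ℤ, a.IsFinite n) ∧ SpSeq.IsBounded E ∧
      ∀ p q : ℤ, Nonempty ((E.page 2 le_rfl).X (p, q) ≅
        (if 0 ≤ p ∧ 0 ≤ q then
          AddCommGrpCat.of (ModSite.HC O ((ModSite.extSh M q.toNat).obj N) p.toNat)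
          else AddCommGrpCat.of PUnit.{u + 1})) := by
  have hT : ∀ Q : Mod O, Injective Q → ∀ q : ℕ, 0 < q →
      Limits.IsZero (((ExtDer.hom (ModSite.unit O)).rightDerived q).obj ((sheafHom M).obj Q)) := by
    intro Q hQ q hq
    obtain ⟨e⟩ := nonempty_rightDerived_homUnit_iso (ringSh O) ((sheafHom M).obj Q) q
    refine Limits.IsZero.of_iso ?_ e
    exact acyclic_homcZ_of_totallyAcyclic _ (totallyAcyclic_sheafHom_injective O M Q) q hq
  apply Groth.Agent.Lib.GrothSS.grothendieck_ss_flex (sheafHom M)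
    (ExtDer.hom (ModSite.unit O)) hT N
  · intro n
    rw [if_pos (by omega)]
    simp only [Int.toNat_natCast]
    exact ⟨(ExtDer.rightDerivedIso (homSheafHomIso O M).symm n).app N ≪≫
      (ExtDer.natIso M n).app N⟩
  · intro n hn
    rw [if_neg (by omega)]
    exact AddCommGrpCat.isZero_of_subsingleton _
  · intro p q
    rw [if_pos ⟨by omega, by omega⟩]
    simp only [Int.toNat_natCast]
    obtain ⟨e⟩ := nonempty_rightDerived_homUnit_iso (ringSh O) ((ModSite.extSh M q).obj N) p
    exact ⟨e ≪≫ (ExtDer.natIso (cZ J) p).app _⟩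
  · intro p q h
    rw [if_neg (by omega)]
    exact AddCommGrpCat.isZero_of_subsingleton _

end Groth.Agent.Lib.ModFree
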