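import Mathlib
import Groth.Agent.Lib.ModLocGlob_helper2

/-!
# Ingredients of the local-to-global Ext spectral sequence, separately
-/

set_option autoImplicit false
universe u
open CategoryTheory Limits Opposite Abelian

namespace Groth.Agent.Lib.ModFree
open ModSite Groth.Agent.Lib.ModSiteH8 Groth.Agent.Lib.FunctorialInjective

variable {C : Type u} [SmallCategory C] {J : GrothendieckTopology C}
variable (O : Sheaf J CommRingCat.{u})

/-- a module whose underlying abelian sheaf is totally acyclic is acyclic for global sections -/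
lemma isZero_rightDerived_homUnit_of_totallyAcyclic [HasInjectiveResolutions (Mod O)] (X : Mod O)
    (hX : CohCx.IsTotallyAcyclic (toAb X)) (q : ℕ) (hq : 0 < q) :
    Limits.IsZero (((ExtDer.hom (ModSite.unit O)).rightDerived q).obj X) := by
  obtain ⟨e⟩ := nonempty_rightDerived_homUnit_iso (ringSh O) X q
  refine Limits.IsZero.of_iso ?_ e
  exact acyclic_homcZ_of_totallyAcyclic _ hX q hq

/-- derived global sections of modules are the cohomology of the underlying abelian sheaf -/
lemma nonempty_rightDerived_homUnit_iso_HC [HasInjectiveResolutions (Mod O)] (X : Mod O) (p : ℕ) :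
    Nonempty (((ExtDer.hom (ModSite.unit O)).rightDerived p).obj X ≅
      AddCommGrpCat.of (ModSite.HC O X p)) := by
  obtain ⟨e⟩ := nonempty_rightDerived_homUnit_iso (ringSh O) X p
  exact ⟨e ≪≫ (ExtDer.natIso (cZ J) p).app _⟩

variable (M : Mod O) [HasSheafHom M]

lemma hT_sheafHom [HasInjectiveResolutions (Mod O)] (Q : Mod O) (hQ : Injective Q) (q : ℕ)
    (hq : 0 < q) :
    Limits.IsZero (((ExtDer.hom (ModSite.unit O)).rightDerived q).obj ((sheafHom M).obj Q)) :=
  isZero_rightDerived_homUnit_of_totallyAcyclic O _ (totallyAcyclic_sheafHom_injective O M Q) q hq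

lemma nonempty_abut_iso [HasInjectiveResolutions (Mod O)] [HasExt.{u} (Mod O)] (N : Mod O)
    (n : ℕ) :
    Nonempty (((sheafHom M ⋙ ExtDer.hom (ModSite.unit O)).rightDerived n).obj N ≅
      AddCommGrpCat.of (Abelian.Ext.{u} M N n)) :=
  ⟨(ExtDer.rightDerivedIso (homSheafHomIso O M).symm n).app N ≪≫ (ExtDer.natIso M n).app N⟩

end Groth.Agent.Lib.ModFree
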