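import Mathlib
import Groth.Prelude
import Groth.Agent.Lib.ModLocGlob2_helper2
import Groth.Agent.Lib.ProjDual2_helper9
import Groth.Agent.Lib.ProjTens1_helper9

/-!
# Ext groups into the dualizing sheaf of projective space (helper9)
-/

set_option autoImplicit false
universe u
open CategoryTheory CategoryTheory.Limits AlgebraicGeometry TopologicalSpace Opposite Abelian

namespace Groth.Agent.ExtDual

open Groth.Agent.Lib.ModFree Groth.Agent.Lib.ModSiteH8 Groth.Agent.Lib.FunctorialInjective

section Unit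

variable {X : Scheme.{u}} [HasExt.{u} X.Modules]

/-- `Ext^p(O_X, M)` vanishes when `H^p(X, M)` does. -/
theorem subsingleton_ext_unit (M : X.Modules) (p : ℕ) (h : Subsingleton (Coh.HH X M p)) :
    Subsingleton (Ext (Coh.structureModule X) M p) := by
  haveI : IsGrothendieckAbelian.{u} (ModSite.Mod X.sheaf) :=
    isGrothendieckAbelian_sheafOfModules (Opens.grothendieckTopology X) (ModSite.ringSh X.sheaf)
  haveI : HasInjectiveResolutions (ModSite.Mod X.sheaf) := inferInstance
  obtain ⟨e⟩ := nonempty_rightDerived_homUnit_iso_HC X.sheaf M p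
  have e2 := (ExtDer.natIso (ModSite.unit X.sheaf) p).app M
  have e3 := e2.symm ≪≫ e
  have hz : IsZero (AddCommGrpCat.of (ModSite.HC X.sheaf M p)) := by
    haveI : Subsingleton (ModSite.HC X.sheaf M p) := h
    exact AddCommGrpCat.isZero_of_subsingleton _
  have hz2 := hz.of_iso e3
  exact AddCommGrpCat.subsingleton_of_isZero hz2

end Unit

section Equiv

variable {C : Type*} [Category C] [Abelian C]

/-- `Ext` groups are invariant under isomorphisms (vanishing only). -/
theorem subsingleton_ext_of_iso [HasExt C] {A A' B B' : C} (e₁ : A ≅ A') (e₂ : B ≅ B') (n : ℕ)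
    (h : Subsingleton (Ext A' B' n)) : Subsingleton (Ext A B n) := by
  refine ⟨fun x y => ?_⟩
  have key : ∀ x : Ext A B n, x = 0 := by
    intro x
    have h0 : (Ext.mk₀ e₁.inv).comp (x.comp (Ext.mk₀ e₂.hom) (add_zero n)) (zero_add n) = 0 :=
      Subsingleton.elim _ _
    have h1 : x = (Ext.mk₀ e₁.hom).comp
        (((Ext.mk₀ e₁.inv).comp (x.comp (Ext.mk₀ e₂.hom) (add_zero n)) (zero_add n)).comp
          (Ext.mk₀ e₂.inv) (add_zero n)) (zero_add n) := by
      simp
    rw [h1, h0, Ext.zero_comp, Ext.comp_zero]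
  rw [key x, key y]

/-- An additive auto-equivalence induces bijections on `Ext` groups. -/
theorem bijective_mapExt [HasExt C] [EnoughInjectives C] (T : C ⥤ C) [T.IsEquivalence]
    [T.Additive] (X Y : C) (n : ℕ) : Function.Bijective (T.mapExtAddHom X Y n) := by
  haveI : T.PreservesInjectiveObjects :=
    Functor.preservesInjectiveObjects_of_adjunction_of_preservesMonomorphisms
      T.asEquivalence.symm.toAdjunction
  exact Functor.mapExt_bijective_of_preservesInjectiveObjects T X Y n

theorem subsingleton_ext_of_equiv [HasExt C] [EnoughInjectives C] (T : C ⥤ C) [T.IsEquivalence]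
    [T.Additive] (X Y : C) (n : ℕ) (h : Subsingleton (Ext (T.obj X) (T.obj Y) n)) :
    Subsingleton (Ext X Y n) :=
  (bijective_mapExt T X Y n).injective.subsingleton

end Equiv

section Twist

open Groth.Agent.ProjTens Groth.Agent.TensInv

variable (n : ℕ) (k : Type u) [Field k] [HasExt.{u} (CohB1.ProjSpace n k).Modules]

theorem enoughInjectives_modules (X : Scheme.{u}) : EnoughInjectives X.Modules := by
  haveI : IsGrothendieckAbelian.{u} X.Modules :=
    isGrothendieckAbelian_sheafOfModules (Opens.grothendieckTopology X) X.ringCatSheaf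
  infer_instance

/-- `Ext^j(O(-m), O(-n-1)) = 0` on `P^n_k` for `j ≥ 1`, `m ≥ 1`. -/
theorem subsingleton_ext_twist (m : ℕ) (hm : 1 ≤ m) (j : ℕ) (hj : 1 ≤ j) :
    Subsingleton (Ext (OO n k (-(m : ℤ))) (OO n k (-((n : ℤ) + 1))) j) := by
  haveI := enoughInjectives_modules (CohB1.ProjSpace n k)
  haveI := isEquivalence_tR_twist n k (m : ℤ)
  apply subsingleton_ext_of_equiv (tR (OO n k (m : ℤ)))
  obtain ⟨e₁⟩ := twist_inv n k (-(m : ℤ)) m (by omega)
  obtain ⟨e₂⟩ := twist_add' n k (-((n : ℤ) + 1)) m (m - n - 1) (by omega)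
  apply subsingleton_ext_of_iso e₁ e₂
  apply subsingleton_ext_unit
  exact Groth.Agent.ProjCech.subsingleton_HH_twist (n := n) (R := k) _ j (by omega) (by omega)

end Twist

section Sigma

open Groth.Agent.ProjFin

variable {X : Scheme.{u}} [HasExt.{u} X.Modules]

theorem subsingleton_ext_sigma (L Y : X.Modules) (r : ℕ) (j : ℕ)
    (h : Subsingleton (Ext L Y j)) : Subsingleton (Ext (∐ fun _ : Fin r => L) Y j) := by
  have key : ∀ x : Ext (∐ fun _ : Fin r => L) Y j, x = 0 := by
    intro x
    have h1 : x = (Ext.mk₀ (𝟙 _)).comp x (zero_add j) := by simp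
    rw [h1, ← sum_pr_ι L r, Ext.mk₀_sum, Ext.sum_comp]
    apply Finset.sum_eq_zero
    intro a _
    rw [← Ext.mk₀_comp_mk₀, Ext.comp_assoc_of_second_deg_zero]
    have h0 : (Ext.mk₀ (Sigma.ι (fun _ : Fin r => L) a)).comp x (zero_add j) = 0 :=
      Subsingleton.elim _ _
    rw [h0, Ext.comp_zero]
  exact ⟨fun x y => by rw [key x, key y]⟩

end Sigma

end Groth.Agent.ExtDual
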