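import Mathlib

/-!
# The Koszul complex on subsets: pure algebra (helper9)

For a commutative ring `L`, a linearly ordered index type `ι` and `X : ι → L`, the Koszul
differential on functions `Finset ι → L`,
`(δ f)(J) = ∑_{j ∈ J} ε(j, J) X_j f(J \ {j})`, satisfies `δ² = 0`; if `u * X l = 1` then the
contraction `(η f)(J) = [l ∉ J] ε(l, J) u f(J ∪ {l})` satisfies `δ η + η δ = 1`.
APPEND-ONLY once landed.
-/

set_option autoImplicit false

namespace Groth.Agent.KosAlg

variable {ι : Type*} [LinearOrder ι]

/-- the sign `(-1)^{#{i ∈ J | i < j}}` -/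
def eps (j : ι) (J : Finset ι) : ℤ := (-1) ^ (J.filter (· < j)).card

lemma eps_mul_self (j : ι) (J : Finset ι) : eps j J * eps j J = 1 := by
  unfold eps
  rw [← pow_add, ← two_mul, pow_mul]
  simp

lemma eps_erase_of_lt {i j : ι} {J : Finset ι} (hi : i ∈ J) (hij : i < j) :
    eps j (J.erase i) = - eps j J := by
  unfold eps
  have h : (J.filter (· < j)) = insert i ((J.erase i).filter (· < j)) := by
    ext a
    simp only [Finset.mem_filter, Finset.mem_insert, Finset.mem_erase]
    constructor
    · rintro ⟨ha, haj⟩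
      by_cases hai : a = i
      · exact Or.inl hai
      · exact Or.inr ⟨⟨hai, ha⟩, haj⟩
    · rintro (rfl | ⟨⟨_, ha⟩, haj⟩)
      · exact ⟨hi, hij⟩
      · exact ⟨ha, haj⟩
  rw [h, Finset.card_insert_of_notMem (by simp), pow_succ]
  ring

lemma eps_erase_of_not_lt {i j : ι} {J : Finset ι} (hij : ¬ i < j) :
    eps j (J.erase i) = eps j J := by
  unfold eps
  congr 2
  ext a
  simp only [Finset.mem_filter, Finset.mem_erase]
  constructor
  · rintro ⟨⟨_, ha⟩, haj⟩
    exact ⟨ha, haj⟩
  · rintro ⟨ha, haj⟩
    refine ⟨⟨?_, ha⟩, haj⟩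
    rintro rfl
    exact hij haj

lemma eps_insert_of_lt {i j : ι} {J : Finset ι} (hi : i ∉ J) (hij : i < j) :
    eps j (insert i J) = - eps j J := by
  have h := eps_erase_of_lt (J := insert i J) (Finset.mem_insert_self i J) hij
  rw [Finset.erase_insert hi] at h
  rw [h, neg_neg]

lemma eps_insert_of_not_lt {i j : ι} {J : Finset ι} (hij : ¬ i < j) :
    eps j (insert i J) = eps j J := by
  by_cases hi : i ∈ J
  · rw [Finset.insert_eq_of_mem hi]
  · have h := eps_erase_of_not_lt (J := insert i J) hij
    rw [Finset.erase_insert hi] at h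
    exact h.symm

lemma eps_erase_self (j : ι) (J : Finset ι) : eps j (J.erase j) = eps j J :=
  eps_erase_of_not_lt (lt_irrefl j)

lemma eps_insert_self (j : ι) (J : Finset ι) : eps j (insert j J) = eps j J :=
  eps_insert_of_not_lt (lt_irrefl j)

variable {L : Type*} [CommRing L] (X : ι → L)

/-- the Koszul differential -/
def delta (f : Finset ι → L) (J : Finset ι) : L :=
  ∑ j ∈ J, (eps j J : L) * X j * f (J.erase j)

/-- the contraction against `u e_l^*` -/
def eta (l : ι) (u : L) (f : Finset ι → L) (J : Finset ι) : L :=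
  if l ∈ J then 0 else (eps l J : L) * u * f (insert l J)

lemma delta_add (f g : Finset ι → L) : delta X (f + g) = delta X f + delta X g := by
  funext J
  simp only [delta, Pi.add_apply, mul_add, Finset.sum_add_distrib]

lemma delta_zero : delta X (0 : Finset ι → L) = 0 := by
  funext J
  simp [delta]

/-- sign rule for `δ² = 0` -/
lemma eps_swap {i j : ι} {J : Finset ι} (hi : i ∈ J) (hj : j ∈ J) (hij : i ≠ j) :
    eps j J * eps i (J.erase j) + eps i J * eps j (J.erase i) = 0 := by
  rcases lt_or_gt_of_ne hij with h | h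
  · rw [eps_erase_of_not_lt (not_lt.mpr h.le), eps_erase_of_lt hi h]
    ring
  · rw [eps_erase_of_lt hj h, eps_erase_of_not_lt (not_lt.mpr h.le)]
    ring

theorem delta_delta (f : Finset ι → L) : delta X (delta X f) = 0 := by
  funext J
  simp only [delta, Pi.zero_apply, Finset.mul_sum]
  rw [Finset.sum_sigma' J (fun j => J.erase j)
    (fun j i => (eps j J : L) * X j * ((eps i (J.erase j) : L) * X i * f ((J.erase j).erase i)))]
  refine Finset.sum_involution (fun a _ => ⟨a.2, a.1⟩) ?_ ?_ ?_ ?_
  · rintro ⟨j, i⟩ ha
    simp only [Finset.mem_sigma, Finset.mem_erase] at ha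
    obtain ⟨hj, hij, hi⟩ := ha
    have h := eps_swap hi hj hij
    have h' : ((eps j J : ℤ) : L) * (eps i (J.erase j) : ℤ) + (eps i J : ℤ) * (eps j (J.erase i) : ℤ) = 0 := by
      exact_mod_cast congrArg (Int.cast : ℤ → L) h
    have hc : (J.erase i).erase j = (J.erase j).erase i := Finset.erase_right_comm
    simp only [hc]
    linear_combination (X j * X i * f ((J.erase j).erase i)) * h'
  · rintro ⟨j, i⟩ ha _ heq
    simp only [Finset.mem_sigma, Finset.mem_erase] at ha
    simp only [Sigma.mk.injEq] at heq
    exact ha.2.1 heq.1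
  · rintro ⟨j, i⟩ ha
    simp only [Finset.mem_sigma, Finset.mem_erase] at ha ⊢
    exact ⟨ha.2.2, fun h => ha.2.1 h.symm, ha.1⟩
  · rintro ⟨j, i⟩ _
    rfl

/-- sign rule for the homotopy -/
lemma eps_homotopy {j l : ι} {J : Finset ι} (hj : j ∈ J) (hl : l ∉ J) :
    eps l J * eps j (insert l J) + eps j J * eps l (J.erase j) = 0 := by
  have hjl : j ≠ l := fun h => hl (h ▸ hj)
  rcases lt_or_gt_of_ne hjl with h | h
  · rw [eps_insert_of_not_lt (not_lt.mpr h.le), eps_erase_of_lt hj h]
    ring
  · rw [eps_insert_of_lt hl h, eps_erase_of_not_lt (not_lt.mpr h.le)]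
    ring

theorem delta_eta_add_eta_delta (l : ι) (u : L) (hu : u * X l = 1) (f : Finset ι → L) :
    delta X (eta l u f) + eta l u (delta X f) = f := by
  funext J
  have hsq : ((eps l J : ℤ) : L) * (eps l J : ℤ) = 1 := by
    exact_mod_cast congrArg (Int.cast : ℤ → L) (eps_mul_self l J)
  simp only [Pi.add_apply]
  by_cases hl : l ∈ J
  · have h2 : eta l u (delta X f) J = 0 := by simp [eta, hl]
    rw [h2, add_zero]
    unfold delta
    rw [Finset.sum_eq_single l]
    · have : eta l u f (J.erase l) = (eps l J : L) * u * f J := by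
        unfold eta
        rw [if_neg (Finset.notMem_erase l J), Finset.insert_erase hl, eps_erase_self]
      rw [this]
      linear_combination (u * X l * f J) * hsq + (f J) * hu
    · intro j hj hjl
      have : eta l u f (J.erase j) = 0 := by
        unfold eta
        rw [if_pos (Finset.mem_erase.mpr ⟨fun h => hjl h.symm, hl⟩)]
      rw [this, mul_zero]
    · intro h
      exact absurd hl h
  · have h2 : eta l u (delta X f) J = (eps l J : L) * u * delta X f (insert l J) := by
      simp [eta, hl]
    rw [h2]
    unfold delta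
    rw [Finset.sum_insert hl, Finset.erase_insert hl, eps_insert_self, mul_add, Finset.mul_sum,
      add_comm, add_assoc, ← Finset.sum_add_distrib]
    have hz : ∑ j ∈ J, ((eps l J : L) * u * ((eps j (insert l J) : L) * X j * f ((insert l J).erase j)) +
        (eps j J : L) * X j * eta l u f (J.erase j)) = 0 := by
      apply Finset.sum_eq_zero
      intro j hj
      have hjl : j ≠ l := fun h => hl (h ▸ hj)
      have h3 : eta l u f (J.erase j) = (eps l (J.erase j) : L) * u * f (insert l (J.erase j)) := by
        unfold eta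
        rw [if_neg (fun h => hl (Finset.mem_of_mem_erase h))]
      have h4 : (insert l J).erase j = insert l (J.erase j) :=
        Finset.erase_insert_of_ne (fun h => hjl h.symm)
      rw [h3, h4]
      have h := eps_homotopy hj hl
      have h' : ((eps l J : ℤ) : L) * (eps j (insert l J) : ℤ) + (eps j J : ℤ) * (eps l (J.erase j) : ℤ) = 0 := by
        exact_mod_cast congrArg (Int.cast : ℤ → L) h
      linear_combination (u * X j * f (insert l (J.erase j))) * h'
    rw [hz, add_zero]
    linear_combination (u * X l * f J) * hsq + (f J) * hu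

/-- `δ` raises the cardinality of the support by one -/
lemma delta_apply_of_card (p : ℕ) (f : Finset ι → L) (hf : ∀ J, J.card ≠ p → f J = 0)
    (J : Finset ι) (hJ : J.card ≠ p + 1) : delta X f J = 0 := by
  unfold delta
  apply Finset.sum_eq_zero
  intro j hj
  rw [hf (J.erase j) (by rw [Finset.card_erase_of_mem hj]; have := Finset.card_pos.mpr ⟨j, hj⟩; omega),
    mul_zero]

end Groth.Agent.KosAlg
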