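import Mathlib
import Groth.Prelude
import Groth.Agent.Lib.KosAlg_helper9
import Groth.Agent.Lib.ProjHom2_helper9
import Groth.Agent.Lib.Tens32_helper8
import Groth.Agent.Lib.AffVanish3_helper9

/-!
# The Koszul complex of twisting sheaves on projective space: terms and differential (helper9)
APPEND-ONLY once landed.
-/

set_option autoImplicit false
universe u
open CategoryTheory CategoryTheory.Limits AlgebraicGeometry TopologicalSpace Opposite MvPolynomial

namespace Groth.Agent.KosSh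

open Groth.Agent.ProjCech Groth.Agent.ProjHom QCohExtn QcqsLoc SerreCrit Groth.Agent.KosAlg

section Biprod

variable {X : Scheme.{u}} {J : Type} [Fintype J] [DecidableEq J] (F : J → X.Modules)

/-- `φ ↦ φ(s)` as an additive map -/
noncomputable def apHom {A B : X.Modules} (W : X.Opens) (s : Γ(A, W)) : (A ⟶ B) →+ Γ(B, W) where
  toFun φ := ap φ W s
  map_zero' := rfl
  map_add' _ _ := rfl

lemma ap_zsmul_hom {A B : X.Modules} (k : ℤ) (φ : A ⟶ B) (W : X.Opens) (s : Γ(A, W)) :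
    ap (k • φ) W s = k • ap φ W s :=
  map_zsmul (apHom (B := B) W s) k φ

/-- a section of a finite biproduct is determined by its components -/
lemma sec_ext (W : X.Opens) (s t : Γ(⨁ F, W))
    (h : ∀ j, ap (biproduct.π F j) W s = ap (biproduct.π F j) W t) : s = t := by
  have key : ∀ r : Γ(⨁ F, W), r = ∑ j, ap (biproduct.ι F j) W (ap (biproduct.π F j) W r) := by
    intro r
    have h1 : r = ap (𝟙 (⨁ F)) W r := rfl
    rw [← biproduct.total] at h1
    rw [TensH8.ap_sum_hom] at h1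
    exact h1
  rw [key s, key t]
  exact Finset.sum_congr rfl (fun j _ => by rw [h j])

/-- the section with given components -/
noncomputable def secMk (W : X.Opens) (c : ∀ j, Γ(F j, W)) : Γ(⨁ F, W) :=
  ∑ j, ap (biproduct.ι F j) W (c j)

lemma π_secMk (W : X.Opens) (c : ∀ j, Γ(F j, W)) (j : J) :
    ap (biproduct.π F j) W (secMk F W c) = c j := by
  unfold secMk
  rw [map_sum]
  rw [Finset.sum_eq_single j]
  · rw [← ap_comp, biproduct.ι_π_self]
    rfl
  · intro i _ hij
    rw [← ap_comp, biproduct.ι_π_ne F hij]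
    rfl
  · intro h
    exact absurd (Finset.mem_univ j) h

end Biprod

variable (n : ℕ) (R : Type u) [CommRing R]

/-- subsets of `{0, …, n}` of cardinality `p` -/
abbrev Idx (p : ℕ) : Type := {J : Finset (Fin (n + 1)) // J.card = p}

/-- multiplication by `X_j`, as a morphism `O(b) ⟶ O(c)`, `c = 1 + b` -/
noncomputable def mulX (j : Fin (n + 1)) (b c : ℤ) (h : ((1 : ℕ) : ℤ) + b = c) :
    Twist.twist (𝒜 n R) b ⟶ Twist.twist (𝒜 n R) c :=
  (exists_mulBy b c 1 h ⟨X j, AffVanish.X_mem n R j⟩).choose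

lemma isMulBy_mulX (j : Fin (n + 1)) (b c : ℤ) (h : ((1 : ℕ) : ℤ) + b = c) :
    IsMulBy (mulX n R j b c h) (X j) :=
  (exists_mulBy b c 1 h ⟨X j, AffVanish.X_mem n R j⟩).choose_spec

/-- the terms of the Koszul complex -/
noncomputable abbrev E (a : ℤ) (p : ℕ) : (Proj (𝒜 n R)).Modules :=
  ⨁ (fun _ : Idx n p => Twist.twist (𝒜 n R) (a + p))

lemma card_erase {p : ℕ} (J' : Idx n (p + 1)) (j : {x // x ∈ J'.1}) :
    (J'.1.erase j.1).card = p := by
  rw [Finset.card_erase_of_mem j.2, J'.2]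
  rfl

lemma cast_aux (a : ℤ) (p : ℕ) : ((1 : ℕ) : ℤ) + (a + p) = a + ((p + 1 : ℕ) : ℤ) := by
  push_cast
  ring

/-- the Koszul differential -/
noncomputable def dK (a : ℤ) (p : ℕ) : E n R a p ⟶ E n R a (p + 1) :=
  biproduct.lift (fun J' : Idx n (p + 1) => ∑ j ∈ J'.1.attach,
    (eps j.1 J'.1) • (biproduct.π (fun _ : Idx n p => Twist.twist (𝒜 n R) (a + p))
      ⟨J'.1.erase j.1, card_erase n J' j⟩ ≫ mulX n R j.1 (a + p) (a + ((p + 1 : ℕ) : ℤ)) (cast_aux a p)))


section Val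

variable {n R}

/-- `val` at a point as an additive map -/
noncomputable def valHom {d : ℤ} {V : (Proj (𝒜 n R)).Opens} (x : V) :
    Sec n R d V →+ Twist.Loc (𝒜 n R) x.1 where
  toFun s := val s x
  map_zero' := rfl
  map_add' _ _ := rfl

lemma val_zsmul {d : ℤ} {V : (Proj (𝒜 n R)).Opens} (k : ℤ) (s : Sec n R d V) (x : V) :
    val (k • s) x = (k : Twist.Loc (𝒜 n R) x.1) * val s x := by
  have h := map_zsmul (valHom (d := d) x) k s
  rw [zsmul_eq_mul] at h
  exact h

lemma val_sum {d : ℤ} {V : (Proj (𝒜 n R)).Opens} {α : Type*} (S : Finset α)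
    (s : α → Sec n R d V) (x : V) : val (∑ i ∈ S, s i) x = ∑ i ∈ S, val (s i) x :=
  map_sum (valHom (d := d) x) s S

/-- the component of a section of `E a p` at the subset `J` -/
noncomputable def cmp {a : ℤ} {p : ℕ} {V : (Proj (𝒜 n R)).Opens} (σ : Γ(E n R a p, V))
    (J : Idx n p) : Sec n R (a + p) V :=
  ap (biproduct.π (fun _ : Idx n p => Twist.twist (𝒜 n R) (a + p)) J) V σ

/-- the values of all components of a section of `E a p` at a point, as a function on subsets
(zero off cardinality `p`) -/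
noncomputable def vv {a : ℤ} {p : ℕ} {V : (Proj (𝒜 n R)).Opens} (σ : Γ(E n R a p, V)) (x : V) :
    Finset (Fin (n + 1)) → Twist.Loc (𝒜 n R) x.1 :=
  fun J => if h : J.card = p then val (cmp σ ⟨J, h⟩) x else 0

lemma vv_of_card {a : ℤ} {p : ℕ} {V : (Proj (𝒜 n R)).Opens} (σ : Γ(E n R a p, V)) (x : V)
    (J : Finset (Fin (n + 1))) (h : J.card = p) : vv σ x J = val (cmp σ ⟨J, h⟩) x := by
  unfold vv
  rw [dif_pos h]

lemma vv_of_card_ne {a : ℤ} {p : ℕ} {V : (Proj (𝒜 n R)).Opens} (σ : Γ(E n R a p, V)) (x : V)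
    (J : Finset (Fin (n + 1))) (h : J.card ≠ p) : vv σ x J = 0 := by
  unfold vv
  rw [dif_neg h]

/-- a section of `E a p` is determined by its values -/
lemma ext_vv {a : ℤ} {p : ℕ} {V : (Proj (𝒜 n R)).Opens} (σ τ : Γ(E n R a p, V))
    (h : ∀ x : V, vv σ x = vv τ x) : σ = τ := by
  apply sec_ext
  intro J
  apply ext_val (n := n) (R := R) (d := a + p)
  intro x
  have h1 := congrFun (h x) J.1
  rw [vv_of_card σ x J.1 J.2, vv_of_card τ x J.1 J.2] at h1
  exact h1

/-- the coordinates `X_j` in the local ring at `x` -/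
noncomputable def XL (x : Proj (𝒜 n R)) : Fin (n + 1) → Twist.Loc (𝒜 n R) x :=
  fun j => Localization.mk (X j) 1

lemma cmp_dK {a : ℤ} {p : ℕ} {V : (Proj (𝒜 n R)).Opens} (σ : Γ(E n R a p, V))
    (J' : Idx n (p + 1)) :
    cmp (ap (dK n R a p) V σ) J' = ∑ j ∈ J'.1.attach, (eps j.1 J'.1) •
      (show Sec n R (a + ((p + 1 : ℕ) : ℤ)) V from
        ap (mulX n R j.1 (a + p) (a + ((p + 1 : ℕ) : ℤ)) (cast_aux a p)) V
          (cmp σ ⟨J'.1.erase j.1, card_erase n J' j⟩)) := by
  unfold cmp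
  rw [← ap_comp]
  unfold dK
  rw [biproduct.lift_π, TensH8.ap_sum_hom]
  refine Finset.sum_congr rfl (fun j _ => ?_)
  rw [ap_zsmul_hom, ap_comp]
  rfl

theorem vv_dK {a : ℤ} {p : ℕ} {V : (Proj (𝒜 n R)).Opens} (σ : Γ(E n R a p, V)) (x : V) :
    vv (ap (dK n R a p) V σ) x = delta (XL x.1) (vv σ x) := by
  funext J'
  by_cases h : J'.card = p + 1
  · rw [vv_of_card _ x J' h, cmp_dK, val_sum]
    unfold delta
    rw [← Finset.sum_attach J']
    refine Finset.sum_congr rfl (fun j _ => ?_)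
    rw [val_zsmul, isMulBy_mulX n R j.1 (a + p) _ (cast_aux a p) V _ x,
      vv_of_card σ x (J'.erase j.1) (card_erase n ⟨J', h⟩ j)]
    unfold XL
    ring
  · rw [vv_of_card_ne _ x J' h, delta_apply_of_card (XL x.1) p (vv σ x)
      (fun J hJ => vv_of_card_ne σ x J hJ) J' h]

theorem dK_comp_dK (a : ℤ) (p : ℕ) : dK n R a p ≫ dK n R a (p + 1) = 0 := by
  apply Scheme.Modules.hom_ext
  intro V
  ext σ
  change ap (dK n R a p ≫ dK n R a (p + 1)) V σ = 0
  rw [ap_comp]
  apply ext_vv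
  intro x
  rw [vv_dK, vv_dK, delta_delta]
  funext J
  by_cases h : J.card = p + 1 + 1
  · rw [vv_of_card _ x J h]
    unfold cmp
    rw [map_zero]
    rfl
  · rw [vv_of_card_ne _ x J h]
    rfl

end Val

end Groth.Agent.KosSh
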