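import Mathlib
import Groth.Prelude
import Groth.Agent.Lib.KosSh1_helper9
import Groth.Agent.Lib.ProjFin2_helper9
import Groth.Agent.Lib.Tens29_helper8
import Groth.Agent.Lib.AcycEmb_helper9
import Groth.Agent.Lib.QCohExact_helper9
import Groth.Agent.Lib.ProjTwPow_helper5

/-!
# The Koszul complex of twisting sheaves on projective space: exactness (helper9)
APPEND-ONLY once landed.
-/

set_option autoImplicit false
universe u
open CategoryTheory CategoryTheory.Limits AlgebraicGeometry TopologicalSpace Opposite MvPolynomial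

namespace Groth.Agent.KosSh

open Groth.Agent.ProjCech Groth.Agent.ProjHom QCohExtn QcqsLoc SerreCrit Groth.Agent.KosAlg

variable {n : ℕ} {R : Type u} [CommRing R]

/-- the chart `D_+(X_l)` -/
noncomputable def chart (l : Fin (n + 1)) : (Proj (𝒜 n R)).Opens :=
  Proj.basicOpen (𝒜 n R) (X l)

lemma chart_cover (x : Proj (𝒜 n R)) : ∃ l : Fin (n + 1), x ∈ chart (n := n) (R := R) l := by
  classical
  obtain ⟨f, hf, hx⟩ := Groth.Agent.ProjFin.hcov_X n R x
  rw [Finset.mem_image] at hf
  obtain ⟨j, -, rfl⟩ := hf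
  exact ⟨j, hx⟩

lemma X_notMem (l : Fin (n + 1)) (x : chart (n := n) (R := R) l) :
    (X l : MvPolynomial (Fin (n + 1)) R) ∈ x.1.asHomogeneousIdeal.toIdeal.primeCompl :=
  x.2

/-- the inverse of `X_l` in the local ring of a point of the chart -/
noncomputable def uL (l : Fin (n + 1)) (x : chart (n := n) (R := R) l) : Twist.Loc (𝒜 n R) x.1 :=
  Localization.mk 1 ⟨X l, X_notMem l x⟩

lemma uL_mul (l : Fin (n + 1)) (x : chart (n := n) (R := R) l) : uL l x * XL x.1 l = 1 := by
  unfold uL XL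
  rw [Localization.mk_mul, ← Localization.mk_one, Localization.mk_eq_mk_iff,
    Localization.r_iff_exists]
  exact ⟨1, by simp⟩

lemma eta_zero {ι L : Type*} [LinearOrder ι] [CommRing L] (l : ι) (u : L) :
    eta l u (0 : Finset ι → L) = 0 := by
  funext J
  simp [eta]

lemma vv_zero {a : ℤ} {p : ℕ} {V : (Proj (𝒜 n R)).Opens} (x : V) :
    vv (0 : Γ(E n R a p, V)) x = 0 := by
  funext J
  by_cases h : J.card = p
  · rw [vv_of_card _ x J h]
    unfold cmp
    rw [map_zero]
    rfl
  · rw [vv_of_card_ne _ x J h]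
    rfl

/-- injectivity of the first differential on sections -/
theorem dK_zero_injective (a : ℤ) (V : (Proj (𝒜 n R)).Opens) :
    Function.Injective (ap (dK n R a 0) V) := by
  rw [injective_iff_map_eq_zero]
  intro σ hσ
  apply ext_vv
  intro x
  obtain ⟨l, hl⟩ := chart_cover (n := n) (R := R) x.1
  have h1 := delta_eta_add_eta_delta (XL x.1) l (uL l ⟨x.1, hl⟩) (uL_mul l ⟨x.1, hl⟩) (vv σ x)
  rw [← vv_dK, hσ, vv_zero, eta_zero, add_zero] at h1
  have h2 : eta l (uL l ⟨x.1, hl⟩) (vv σ x) = 0 := by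
    funext J
    unfold eta
    split_ifs with hJ
    · rfl
    · rw [vv_of_card_ne σ x (insert l J) (by rw [Finset.card_insert_of_notMem hJ]; omega),
        mul_zero]
      rfl
  rw [h2, delta_zero] at h1
  rw [← h1, vv_zero]

theorem mono_dK_zero (a : ℤ) : Mono (dK n R a 0) :=
  AcycEmb.mono_of_injective _ (fun V => dK_zero_injective a V)


section Homotopy

/-- the section `1 / X_l` of `O(-1)` over the chart `D_+(X_l)` -/
noncomputable def gamma (l : Fin (n + 1)) : Sec n R (-1) (chart (n := n) (R := R) l) :=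
  Groth.Agent.ProjTw.genSecK (𝒜 n R) (AffVanish.X_mem n R l) (-1) (-1) (by simp)

lemma val_gamma (l : Fin (n + 1)) (x : chart (n := n) (R := R) l) :
    val (gamma (n := n) (R := R) l) x = uL l x := by
  show Localization.mk _ _ = Localization.mk _ _
  rw [Localization.mk_eq_mk_iff, Localization.r_iff_exists]
  exact ⟨1, by simp⟩

/-- division by `X_l` on sections over an open contained in the chart `D_+(X_l)` -/
noncomputable def divX (l : Fin (n + 1)) {b c : ℤ} (h : b + -1 = c) {W : (Proj (𝒜 n R)).Opens}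
    (hW : W ≤ chart (n := n) (R := R) l) (s : Sec n R b W) : Sec n R c W :=
  ap (eqToHom (congrArg (Twist.twist (𝒜 n R)) h)) W
    (Groth.Agent.ProjTw.mulSec (𝒜 n R) b (-1) (op W) s (rs hW (gamma l)))

lemma val_mulSec {b c : ℤ} {W : (Proj (𝒜 n R)).Opens} (s : Sec n R b W) (t : Sec n R c W)
    (x : W) :
    val (show Sec n R (b + c) W from Groth.Agent.ProjTw.mulSec (𝒜 n R) b c (op W) s t) x =
      val s x * val t x := rfl

lemma val_divX (l : Fin (n + 1)) {b c : ℤ} (h : b + -1 = c) {W : (Proj (𝒜 n R)).Opens}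
    (hW : W ≤ chart (n := n) (R := R) l) (s : Sec n R b W) (x : W) :
    val (divX l h hW s) x = val s x * uL l ⟨x.1, hW x.2⟩ := by
  have h1 : val (divX l h hW s) x =
      val (show Sec n R (b + -1) W from
        Groth.Agent.ProjTw.mulSec (𝒜 n R) b (-1) (op W) s (rs hW (gamma l))) x := by
    subst h
    rfl
  have h2 : val (rs hW (gamma (n := n) (R := R) l)) x = uL l ⟨x.1, hW x.2⟩ :=
    (val_rs hW (gamma l) x).trans (val_gamma l ⟨x.1, hW x.2⟩)
  rw [h1, val_mulSec, h2]

lemma card_insert' {p : ℕ} (l : Fin (n + 1)) (J : Idx n p) (h : l ∉ J.1) :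
    (insert l J.1).card = p + 1 := by
  rw [Finset.card_insert_of_notMem h, J.2]

lemma cast_aux' (a : ℤ) (p : ℕ) : (a + ((p + 1 : ℕ) : ℤ)) + -1 = a + p := by
  push_cast
  ring

open Classical in
/-- the contracting homotopy on sections over an open contained in the chart `D_+(X_l)` -/
noncomputable def hK (l : Fin (n + 1)) (a : ℤ) (p : ℕ) {W : (Proj (𝒜 n R)).Opens}
    (hW : W ≤ chart (n := n) (R := R) l) (σ : Γ(E n R a (p + 1), W)) : Γ(E n R a p, W) :=
  secMk (fun _ : Idx n p => Twist.twist (𝒜 n R) (a + p)) W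
    (fun J => if h : l ∈ J.1 then 0 else
      (show Γ(Twist.twist (𝒜 n R) (a + p), W) from
        (eps l J.1) • divX l (cast_aux' a p) hW (cmp σ ⟨insert l J.1, card_insert' l J h⟩)))

theorem vv_hK (l : Fin (n + 1)) (a : ℤ) (p : ℕ) {W : (Proj (𝒜 n R)).Opens}
    (hW : W ≤ chart (n := n) (R := R) l) (σ : Γ(E n R a (p + 1), W)) (x : W) :
    vv (hK l a p hW σ) x = eta l (uL l ⟨x.1, hW x.2⟩) (vv σ x) := by
  funext J
  unfold eta
  by_cases hc : J.card = p
  · rw [vv_of_card _ x J hc]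
    unfold cmp hK
    rw [π_secMk]
    split_ifs with hJ
    · rfl
    · refine (val_zsmul (n := n) (R := R) (d := a + p) _ _ x).trans ?_
      rw [val_divX, vv_of_card σ x (insert l J) (card_insert' l ⟨J, hc⟩ hJ)]
      ring
  · rw [vv_of_card_ne _ x J hc]
    split_ifs with hJ
    · rfl
    · rw [vv_of_card_ne σ x (insert l J) (by rw [Finset.card_insert_of_notMem hJ]; omega),
        mul_zero]

/-- local exactness of the Koszul complex: a cycle is locally a boundary -/
theorem exists_local_primitive (a : ℤ) (p : ℕ) (V : (Proj (𝒜 n R)).Opens)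
    (σ : Γ(E n R a (p + 1), V)) (hσ : ap (dK n R a (p + 1)) V σ = 0) (x : Proj (𝒜 n R))
    (hx : x ∈ V) :
    ∃ (W : (Proj (𝒜 n R)).Opens) (hW : W ≤ V), x ∈ W ∧ ∃ τ : Γ(E n R a p, W),
      ap (dK n R a p) W τ = rF (E n R a (p + 1)) hW σ := by
  obtain ⟨l, hl⟩ := chart_cover (n := n) (R := R) x
  refine ⟨V ⊓ chart l, inf_le_left, ⟨hx, hl⟩, hK l a p inf_le_right (rF _ inf_le_left σ), ?_⟩
  apply ext_vv
  intro y
  rw [vv_dK, vv_hK]
  have h1 := delta_eta_add_eta_delta (XL y.1) l (uL l ⟨y.1, y.2.2⟩) (uL_mul l ⟨y.1, y.2.2⟩)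
    (vv (rF (E n R a (p + 1)) (inf_le_left : V ⊓ chart l ≤ V) σ) y)
  rw [← vv_dK, ap_rF, hσ, map_zero, vv_zero, eta_zero, add_zero] at h1
  exact h1

end Homotopy

end Groth.Agent.KosSh
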