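import Mathlib
import Groth.Prelude
import Groth.Agent.Lib.KosSh2_helper9

/-!
# The Koszul complex of twisting sheaves on projective space: the complex (helper9)
APPEND-ONLY once landed.
-/

set_option autoImplicit false
universe u
open CategoryTheory CategoryTheory.Limits AlgebraicGeometry TopologicalSpace Opposite MvPolynomial

namespace Groth.Agent.KosSh

open Groth.Agent.ProjCech Groth.Agent.ProjHom QCohExtn QcqsLoc SerreCrit Groth.Agent.KosAlg

variable {n : ℕ} {R : Type u} [CommRing R]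

/-- exactness of the Koszul complex in positive degrees -/
theorem exact_dK (a : ℤ) (p : ℕ) :
    (ShortComplex.mk (dK n R a p) (dK n R a (p + 1)) (dK_comp_dK a p)).Exact := by
  rw [ShortComplex.exact_iff_epi_kernel_lift]
  apply TensH8.epi_of_locally_surjective
  intro U m x hx
  have ht : ap (dK n R a (p + 1)) U (ap (kernel.ι (dK n R a (p + 1))) U m) = 0 := by
    rw [← ap_comp, kernel.condition]
    rfl
  obtain ⟨W, hW, hxW, τ, hτ⟩ := exists_local_primitive a p U _ ht x hx
  refine ⟨W, hW, hxW, τ, ?_⟩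
  apply QCohExact.app_injective_of_mono (kernel.ι (dK n R a (p + 1))) W
  show ap (kernel.ι (dK n R a (p + 1))) W (ap (kernel.lift _ _ _) W τ) =
    ap (kernel.ι (dK n R a (p + 1))) W (rF _ hW m)
  rw [← ap_comp]
  erw [kernel.lift_ι]
  rw [ap_rF]
  exact hτ

variable (n R) in
/-- the Koszul complex `O(a) → O(a+1)^{n+1} → ⋯ → O(a+n+1)`, indexed by `ℕ` -/
noncomputable def KCx (a : ℤ) : CochainComplex (Proj (𝒜 n R)).Modules ℕ :=
  CochainComplex.of (fun p => E n R a p) (fun p => dK n R a p) (fun p => dK_comp_dK a p)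

theorem KCx_exactAt (a : ℤ) (p : ℕ) : (KCx n R a).ExactAt p := by
  cases p with
  | zero =>
    rw [(KCx n R a).exactAt_iff' 0 0 1 (by simp) (by simp)]
    rw [ShortComplex.exact_iff_mono _ (by
      show (KCx n R a).d 0 0 = 0
      exact (KCx n R a).shape 0 0 (by simp))]
    show Mono ((KCx n R a).d 0 1)
    have h : (KCx n R a).d 0 1 = dK n R a 0 :=
      CochainComplex.of_d (fun p => E n R a p) (fun p => dK n R a p) 0
    rw [h]
    exact mono_dK_zero a
  | succ p =>
    rw [(KCx n R a).exactAt_iff' p (p + 1) (p + 2) (by simp) (by simp)]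
    have e : ShortComplex.mk (dK n R a p) (dK n R a (p + 1)) (dK_comp_dK a p) ≅
        (KCx n R a).sc' p (p + 1) (p + 2) := by
      refine ShortComplex.isoMk (Iso.refl _) (Iso.refl _) (Iso.refl _) ?_ ?_
      · have h : (KCx n R a).d p (p + 1) = dK n R a p := CochainComplex.of_d _ _ p
        show 𝟙 _ ≫ (KCx n R a).d p (p + 1) = dK n R a p ≫ 𝟙 _
        rw [h, Category.id_comp, Category.comp_id]
      · have h : (KCx n R a).d (p + 1) (p + 2) = dK n R a (p + 1) :=
          CochainComplex.of_d _ _ (p + 1)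
        show 𝟙 _ ≫ (KCx n R a).d (p + 1) (p + 2) = dK n R a (p + 1) ≫ 𝟙 _
        rw [h, Category.id_comp, Category.comp_id]
    exact ShortComplex.exact_of_iso e (exact_dK (n := n) (R := R) a p)

variable (n R) in
/-- the Koszul complex, indexed by `ℤ` -/
noncomputable def KCxZ (a : ℤ) : CochainComplex (Proj (𝒜 n R)).Modules ℤ :=
  (KCx n R a).extend ComplexShape.embeddingUpNat

theorem KCxZ_exactAt (a : ℤ) (i : ℤ) : (KCxZ n R a).ExactAt i := by
  by_cases hi : 0 ≤ i
  · obtain ⟨j, rfl⟩ := Int.eq_ofNat_of_zero_le hi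
    exact ((KCx n R a).extend_exactAt_iff ComplexShape.embeddingUpNat (j := j) rfl).mpr
      (KCx_exactAt a j)
  · refine (KCx n R a).extend_exactAt ComplexShape.embeddingUpNat i (fun j hj => hi ?_)
    rw [← hj]
    simp

/-- the terms of the Koszul complex -/
noncomputable def KCxZ_XIso (a : ℤ) (i : ℕ) : (KCxZ n R a).X (i : ℤ) ≅ E n R a i :=
  (KCx n R a).extendXIso ComplexShape.embeddingUpNat rfl

theorem isZero_KCxZ_of_neg (a : ℤ) (i : ℤ) (hi : i < 0) : IsZero ((KCxZ n R a).X i) := by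
  refine (KCx n R a).isZero_extend_X ComplexShape.embeddingUpNat i (fun j hj => ?_)
  have : (0 : ℤ) ≤ i := by rw [← hj]; simp
  omega

theorem isEmpty_Idx (p : ℕ) (hp : n + 1 < p) : IsEmpty (Idx n p) := by
  constructor
  rintro ⟨J, hJ⟩
  have := Finset.card_le_univ J
  rw [Fintype.card_fin] at this
  omega

theorem isZero_E (a : ℤ) (p : ℕ) (hp : n + 1 < p) : IsZero (E n R a p) := by
  have := isEmpty_Idx (n := n) p hp
  rw [IsZero.iff_id_eq_zero, ← biproduct.total]
  exact Finset.sum_of_isEmpty _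

theorem isZero_KCxZ_of_gt (a : ℤ) (i : ℤ) (hi : (n : ℤ) + 1 < i) :
    IsZero ((KCxZ n R a).X i) := by
  obtain ⟨j, rfl⟩ := Int.eq_ofNat_of_zero_le (by omega : 0 ≤ i)
  exact (isZero_E (n := n) (R := R) a j (by omega)).of_iso (KCxZ_XIso a j)

/-- the terms are sums of `choose (n+1) i` copies of `O(a+i)` -/
noncomputable def EIso (a : ℤ) (p : ℕ) :
    E n R a p ≅ ∐ fun _ : Fin (Nat.choose (n + 1) p) => Twist.twist (𝒜 n R) (a + p) :=
  biproduct.isoCoproduct _ ≪≫
    Sigma.whiskerEquiv (f := fun _ : Idx n p => Twist.twist (𝒜 n R) (a + p))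
      (g := fun _ : Fin (Nat.choose (n + 1) p) => Twist.twist (𝒜 n R) (a + p))
      (Fintype.equivFinOfCardEq
        ((Fintype.card_finset_len (α := Fin (n + 1)) p).trans (by rw [Fintype.card_fin])))
      (fun _ => Iso.refl _)

end Groth.Agent.KosSh
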