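import Mathlib
import Groth.Prelude
import Groth.Agent.Lib.ProjTens1_helper9
import Groth.Agent.Lib.TensQC2_helper8
import Groth.Agent.S0022

/-!
# Serre vanishing on projective space over a Noetherian ring (helper9)
-/

set_option autoImplicit false
universe u
open CategoryTheory CategoryTheory.Limits AlgebraicGeometry TopologicalSpace Opposite MvPolynomial

namespace Groth.Agent.ProjTens

open Groth.Agent.ProjCech Groth.Agent.ProjFin Groth.Agent.TensInv Groth.Agent.HHVan

section Sigma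

variable {X : Scheme.{u}}

/-- an additive functor applied to a finite coproduct of copies of `L` has vanishing `H^i` as soon
as its value on `L` has. -/
theorem subsingleton_sigma_map (T : X.Modules ⥤ X.Modules) [T.Additive] (L : X.Modules) (k i : ℕ)
    (h : Subsingleton (Coh.HH X (T.obj L) i)) :
    Subsingleton (Coh.HH X (T.obj (∐ fun _ : Fin k => L)) i) := by
  have hx : ∀ x : Coh.HH X (T.obj (∐ fun _ : Fin k => L)) i, x = 0 := fun x => by
    have h1 : x = ∑ j, HmapHom i ((SerreCrit.TT X).map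
        (T.map (pr L k j) ≫ T.map (Sigma.ι (fun _ : Fin k => L) j))) x := by
      rw [← AddMonoidHom.finset_sum_apply, ← map_sum, ← Functor.map_sum]
      simp_rw [← T.map_comp]
      rw [← Functor.map_sum, sum_pr_ι, T.map_id, CategoryTheory.Functor.map_id]
      exact (Sheaf.H.map_id_apply x).symm
    rw [h1]
    apply Finset.sum_eq_zero
    intro j _
    have h2 : HmapHom i ((SerreCrit.TT X).map
        (T.map (pr L k j) ≫ T.map (Sigma.ι (fun _ : Fin k => L) j))) x =
        hmap (T.map (Sigma.ι (fun _ : Fin k => L) j)) i (hmap (T.map (pr L k j)) i x) :=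
      hmap_comp _ _ i x
    rw [h2, Subsingleton.elim (hmap (T.map (pr L k j)) i x) 0, map_zero]
  exact ⟨fun x y => by rw [hx x, hx y]⟩

end Sigma

variable (n : ℕ) (R : Type u) [CommRing R]

theorem isQCoh_twistBy (F : (CohB1.ProjSpace n R).Modules) (hF : Coh.IsQCoh F) (d : ℤ) :
    Coh.IsQCoh (CohB1.tensorMod F (OO n R d)) := by
  haveI : F.IsQuasicoherent := hF
  haveI : (OO n R d).IsQuasicoherent := Groth.Agent.ProjTw.isQuasicoherent_twist _ _
  exact TensQCH8.isQuasicoherent_tensorMod _ _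

theorem serre_vanishing_aux [IsNoetherianRing R] :
    ∀ (j i : ℕ), n + 1 ≤ i + j → 1 ≤ i → ∀ (M : (CohB1.ProjSpace n R).Modules), Coh.IsCoh M →
      ∃ d₀ : ℤ, ∀ d : ℤ, d₀ ≤ d →
        Subsingleton (Coh.HH (CohB1.ProjSpace n R) (CohB1.tensorMod M (OO n R d)) i) := by
  haveI hNoeth : AlgebraicGeometry.IsNoetherian (CohB1.ProjSpace n R) :=
    Groth.Agent.S2357.result (𝒜 n R)
  intro j
  induction j with
  | zero =>
    intro i hi _ M hM
    refine ⟨0, fun d _ => ?_⟩
    haveI := isQCoh_twistBy n R M hM.1 d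
    exact Groth.Agent.S0022.result n R _ i (by omega)
  | succ j ih =>
    intro i hi hi1 M hM
    obtain ⟨n₀, hn₀⟩ := Groth.Agent.ProjTw.exists_epi_coprod_twist (𝒜 n R) _ (hs1_X n R)
      (hcov_X n R) M hM.1 hM.2
    obtain ⟨k, p, hp⟩ := hn₀ n₀ le_rfl
    have hL : Coh.IsCoh (X := CohB1.ProjSpace n R) (Twist.twist (𝒜 n R) (-(n₀ : ℤ))) :=
      ⟨Groth.Agent.ProjTw.isQuasicoherent_twist (𝒜 n R) _,
        Groth.Agent.ProjTw.isFiniteType_twist (𝒜 n R) (hcov' n R) _⟩
    have hE := isCoh_sigma_fin (X := CohB1.ProjSpace n R) _ hL k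
    have hK := CohKerH8.isCoh_kernel (X := CohB1.ProjSpace n R) hE hM p
    have hS : (ShortComplex.mk (kernel.ι p) p (kernel.condition p)).ShortExact :=
      { exact := ShortComplex.exact_of_f_is_kernel _ (kernelIsKernel p)
        mono_f := inferInstanceAs (Mono (kernel.ι p))
        epi_g := hp }
    obtain ⟨d₁, hd₁⟩ := ih (i + 1) (by omega) (by omega) _ hK
    refine ⟨max d₁ n₀, fun d hd => ?_⟩
    have hS' := shortExact_twist n R _ hS d
    refine subsingleton_right _ hS' i ?_ (hd₁ d (le_trans (le_max_left _ _) hd))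
    refine subsingleton_sigma_map (tR (OO n R d)) _ k i ?_
    obtain ⟨e⟩ := twist_add' n R (-(n₀ : ℤ)) d (d - n₀) (by ring)
    refine subsingleton_of_iso e.symm i ?_
    have hd' : (n₀ : ℤ) ≤ d := le_trans (le_max_right _ _) hd
    exact Groth.Agent.S0844.result R n (d - n₀) i (by omega) (by omega)

/-- **Serre vanishing** on `P^n_R`, `R` Noetherian: for coherent `M`, `H^i(M(d)) = 0` for all
`i ≥ 1` and all `d ≫ 0`. -/
theorem serre_vanishing [IsNoetherianRing R] (M : (CohB1.ProjSpace n R).Modules)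
    (hM : Coh.IsCoh M) :
    ∃ d₀ : ℤ, ∀ d : ℤ, d₀ ≤ d → ∀ i : ℕ, 1 ≤ i →
      Subsingleton (Coh.HH (CohB1.ProjSpace n R) (CohB1.tensorMod M (OO n R d)) i) := by
  -- finitely many relevant degrees `1 ≤ i ≤ n`
  have h : ∀ i : ℕ, ∃ d₀ : ℤ, ∀ d : ℤ, d₀ ≤ d →
      Subsingleton (Coh.HH (CohB1.ProjSpace n R) (CohB1.tensorMod M (OO n R d)) (i + 1)) :=
    fun i => serre_vanishing_aux n R (n + 1) (i + 1) (by omega) (by omega) M hM
  choose D hD using h
  refine ⟨(Finset.range (n + 1)).sup' ⟨0, by simp⟩ D, fun d hd i hi => ?_⟩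
  obtain ⟨i', rfl⟩ : ∃ i', i = i' + 1 := ⟨i - 1, by omega⟩
  by_cases hin : i' < n + 1
  · exact hD i' d (le_trans (Finset.le_sup' D (Finset.mem_range.mpr hin)) hd)
  · haveI := isQCoh_twistBy n R M hM.1 d
    exact Groth.Agent.S0022.result n R _ (i' + 1) (by omega)

end Groth.Agent.ProjTens
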