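import Mathlib
import Groth.Prelude
import Groth.Agent.Lib.KosSh3_helper9
import Groth.Agent.Lib.ExtDual1_helper9
import Groth.Agent.Lib.ProjTens2_helper9

/-!
# Castelnuovo–Mumford regularity propagates (helper9)
APPEND-ONLY once landed.
-/

set_option autoImplicit false
universe w v u
open CategoryTheory CategoryTheory.Limits AlgebraicGeometry TopologicalSpace Opposite Abelian

namespace Groth.Agent.CMReg

section Abstract

variable {C : Type u} [Category.{v} C] [Abelian C] [HasExt.{w} C]

theorem subsingleton_ext_left {S : ShortComplex C} (hS : S.ShortExact) (Y : C) (q : ℕ)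
    (h2 : Subsingleton (Ext S.X₂ Y q)) (h3 : Subsingleton (Ext S.X₃ Y (q + 1))) :
    Subsingleton (Ext S.X₁ Y q) := by
  have key : ∀ x : Ext S.X₁ Y q, x = 0 := by
    intro x
    obtain ⟨x₂, hx₂⟩ := Ext.contravariant_sequence_exact₁ hS Y x (add_comm 1 q)
      (Subsingleton.elim _ _)
    rw [← hx₂, Subsingleton.elim x₂ 0, Ext.comp_zero]
  exact ⟨fun x y => by rw [key x, key y]⟩

theorem subsingleton_ext_mid {S : ShortComplex C} (hS : S.ShortExact) (Y : C) (q : ℕ)
    (h1 : Subsingleton (Ext S.X₁ Y q)) (h3 : Subsingleton (Ext S.X₃ Y q)) :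
    Subsingleton (Ext S.X₂ Y q) := by
  have key : ∀ x : Ext S.X₂ Y q, x = 0 := by
    intro x
    obtain ⟨y, hy⟩ := Ext.contravariant_sequence_exact₂ hS Y x (Subsingleton.elim _ _)
    rw [← hy, Subsingleton.elim y 0, Ext.comp_zero]
  exact ⟨fun x y => by rw [key x, key y]⟩

theorem subsingleton_ext_of_isZero {A : C} (hA : IsZero A) (Y : C) (q : ℕ) :
    Subsingleton (Ext A Y q) := by
  have key : ∀ x : Ext A Y q, x = 0 := by
    intro x
    have h1 : x = (Ext.mk₀ (𝟙 A)).comp x (zero_add q) := by simp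
    rw [h1, hA.eq_of_src (𝟙 A) 0, Ext.mk₀_zero, Ext.zero_comp]
  exact ⟨fun x y => by rw [key x, key y]⟩

variable (K : CochainComplex C ℕ)

/-- the cycles -/
noncomputable abbrev Z (p : ℕ) : C := kernel (K.d p (p + 1))

/-- the short complexes `0 → Z^p → K^p → Z^{p+1} → 0` -/
noncomputable def sesZ (p : ℕ) : ShortComplex C :=
  ShortComplex.mk (kernel.ι (K.d p (p + 1)))
    (kernel.lift (K.d (p + 1) (p + 2)) (K.d p (p + 1)) (K.d_comp_d _ _ _))
    (by
      apply (cancel_mono (kernel.ι (K.d (p + 1) (p + 2)))).mp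
      rw [Category.assoc, kernel.lift_ι, kernel.condition, zero_comp])

theorem sesZ_shortExact (p : ℕ) (h : K.ExactAt (p + 1)) : (sesZ K p).ShortExact := by
  have hex : (K.sc' p (p + 1) (p + 2)).Exact :=
    (K.exactAt_iff' p (p + 1) (p + 2) (by simp) (by simp)).mp h
  have hepi : Epi (kernel.lift (K.d (p + 1) (p + 2)) (K.d p (p + 1)) (K.d_comp_d _ _ _)) :=
    (ShortComplex.exact_iff_epi_kernel_lift _).mp hex
  refine
    { exact := ?_
      mono_f := inferInstanceAs (Mono (kernel.ι (K.d p (p + 1))))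
      epi_g := hepi }
  refine ShortComplex.exact_of_f_is_kernel _ ?_
  exact isKernelOfComp (kernel.ι (K.d (p + 1) (p + 2))) (K.d p (p + 1))
    (kernelIsKernel (K.d p (p + 1))) _ (kernel.lift_ι _ _ _)

/-- a coresolution `0 → K^0 → K^1 → ⋯ → K^N → 0` propagates the vanishing of `Ext` -/
theorem subsingleton_ext_X0 (hK : ∀ p, K.ExactAt p) (N : ℕ) (hN : ∀ p, N < p → IsZero (K.X p))
    (F : C) (i : ℕ)
    (h : ∀ j, 1 ≤ j → j ≤ N → Subsingleton (Ext (K.X j) F (i + (j - 1)))) :
    Subsingleton (Ext (K.X 0) F i) := by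
  have claim : ∀ m p : ℕ, p + m = N + 1 → 1 ≤ p →
      Subsingleton (Ext (Z K p) F (i + (p - 1))) := by
    intro m
    induction m with
    | zero =>
      intro p hp _
      have hz : IsZero (Z K p) :=
        IsZero.of_mono (kernel.ι (K.d p (p + 1))) (hN p (by omega))
      exact subsingleton_ext_of_isZero hz F _
    | succ m ih =>
      intro p hp hp1
      have h3 := ih (p + 1) (by omega) (by omega)
      have e : i + (p + 1 - 1) = i + (p - 1) + 1 := by omega
      rw [e] at h3
      exact subsingleton_ext_left (sesZ_shortExact K p (hK (p + 1))) F _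
        (h p hp1 (by omega)) h3
  have h1 := claim N 1 (by omega) le_rfl
  rw [Nat.sub_self, add_zero] at h1
  have hmono : Mono (K.d 0 1) := by
    have hex := (K.exactAt_iff' 0 0 1 (by simp) (by simp)).mp (hK 0)
    exact (ShortComplex.exact_iff_mono _ (K.shape 0 0 (by simp))).mp hex
  have hz0 : IsZero (Z K 0) := isZero_kernel_of_mono (K.d 0 1)
  exact subsingleton_ext_mid (sesZ_shortExact K 0 (hK 1)) F i
    (subsingleton_ext_of_isZero hz0 F i) h1

end Abstract


section Retract

variable {C : Type u} [Category.{v} C] [Abelian C] [HasExt.{w} C]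

theorem subsingleton_ext_of_retract {A B : C} (s : A ⟶ B) (r : B ⟶ A) (h : s ≫ r = 𝟙 A) (Y : C)
    (q : ℕ) (hB : Subsingleton (Ext B Y q)) : Subsingleton (Ext A Y q) := by
  have key : ∀ x : Ext A Y q, x = 0 := by
    intro x
    have h1 : x = (Ext.mk₀ (𝟙 A)).comp x (zero_add q) := by simp
    rw [h1, ← h, ← Ext.mk₀_comp_mk₀, Ext.comp_assoc_of_second_deg_zero,
      Subsingleton.elim ((Ext.mk₀ r).comp x (zero_add q)) 0, Ext.comp_zero]
  exact ⟨fun x y => by rw [key x, key y]⟩

end Retract

section Proj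

open Groth.Agent.ProjTens Groth.Agent.TensInv Groth.Agent.ExtDual Groth.Agent.KosSh
  Groth.Agent.ProjCech Groth.Agent.Lib.ModFree Groth.Agent.Lib.ModSiteH8
  Groth.Agent.Lib.FunctorialInjective

/-- `H^p(X, M)` vanishes when `Ext^p(O_X, M)` does. -/
theorem subsingleton_HH_of_ext_unit {X : Scheme.{u}} [HasExt.{u} X.Modules] (M : X.Modules) (p : ℕ)
    (h : Subsingleton (Ext (Coh.structureModule X) M p)) : Subsingleton (Coh.HH X M p) := by
  haveI : IsGrothendieckAbelian.{u} (ModSite.Mod X.sheaf) :=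
    isGrothendieckAbelian_sheafOfModules (Opens.grothendieckTopology X) (ModSite.ringSh X.sheaf)
  haveI : HasInjectiveResolutions (ModSite.Mod X.sheaf) := inferInstance
  obtain ⟨e⟩ := nonempty_rightDerived_homUnit_iso_HC X.sheaf M p
  have e2 := (ExtDer.natIso (ModSite.unit X.sheaf) p).app M
  have e3 := e2.symm ≪≫ e
  have hz : IsZero (AddCommGrpCat.of (Ext (ModSite.unit X.sheaf) M p)) := by
    haveI : Subsingleton (Ext (ModSite.unit X.sheaf) M p) := h
    exact AddCommGrpCat.isZero_of_subsingleton _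
  have hz2 : IsZero (AddCommGrpCat.of (ModSite.HC X.sheaf M p)) := hz.of_iso e3.symm
  exact AddCommGrpCat.subsingleton_of_isZero hz2

variable (n : ℕ) (R : Type u) [CommRing R] [HasExt.{u} (CohB1.ProjSpace n R).Modules]

/-- `Ext^q(O(b), F) = 0` iff `H^q(F(-b)) = 0` -/
theorem subsingleton_ext_twist_iff (b c : ℤ) (hbc : b + c = 0) (F : (CohB1.ProjSpace n R).Modules)
    (q : ℕ) :
    Subsingleton (Ext (OO n R b) F q) ↔
      Subsingleton (Coh.HH (CohB1.ProjSpace n R) (CohB1.tensorMod F (OO n R c)) q) := by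
  haveI := enoughInjectives_modules (CohB1.ProjSpace n R)
  haveI := isEquivalence_tR_twist n R c
  obtain ⟨e₁⟩ := twist_inv n R b c hbc
  constructor
  · intro h
    apply subsingleton_HH_of_ext_unit
    have h2 : Subsingleton (Ext ((tR (OO n R c)).obj (OO n R b)) ((tR (OO n R c)).obj F) q) :=
      (bijective_mapExt (tR (OO n R c)) (OO n R b) F q).surjective.subsingleton
    exact subsingleton_ext_of_iso e₁.symm (Iso.refl _) q h2
  · intro h
    apply subsingleton_ext_of_equiv (tR (OO n R c))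
    apply subsingleton_ext_of_iso e₁ (Iso.refl _)
    exact subsingleton_ext_unit _ q h


end Proj

end Groth.Agent.CMReg
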