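import Mathlib
import Groth.Prelude
import Groth.Agent.Lib.CMReg1_helper9

/-!
# Castelnuovo–Mumford regularity propagates, on projective space (helper9)
APPEND-ONLY once landed.
-/

set_option autoImplicit false
universe u
open CategoryTheory CategoryTheory.Limits AlgebraicGeometry TopologicalSpace Opposite Abelian

namespace Groth.Agent.CMReg

open Groth.Agent.ProjTens Groth.Agent.TensInv Groth.Agent.ExtDual Groth.Agent.KosSh
  Groth.Agent.ProjCech

variable (n : ℕ) (R : Type u) [CommRing R]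

/-- the Koszul complex, on `CohB1.ProjSpace n R` -/
noncomputable def KP (a : ℤ) : CochainComplex (CohB1.ProjSpace n R).Modules ℕ := KCx n R a

theorem KP_exactAt (a : ℤ) (p : ℕ) : (KP n R a).ExactAt p := KCx_exactAt a p

theorem isZero_KP (a : ℤ) (p : ℕ) (hp : n + 1 < p) : IsZero ((KP n R a).X p) :=
  isZero_E (n := n) (R := R) a p hp

/-- the terms of the Koszul complex -/
noncomputable def KPIso (a : ℤ) (p : ℕ) :
    (KP n R a).X p ≅ ∐ fun _ : Fin (Nat.choose (n + 1) p) => OO n R (a + p) :=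
  EIso (n := n) (R := R) a p

/-- `O(a + 0)` is a retract of the degree zero term -/
noncomputable def KPι (a : ℤ) : OO n R (a + ((0 : ℕ) : ℤ)) ⟶ (KP n R a).X 0 :=
  biproduct.ι (fun _ : Idx n 0 => Twist.twist (𝒜 n R) (a + ((0 : ℕ) : ℤ))) ⟨∅, rfl⟩

noncomputable def KPπ (a : ℤ) : (KP n R a).X 0 ⟶ OO n R (a + ((0 : ℕ) : ℤ)) :=
  biproduct.π (fun _ : Idx n 0 => Twist.twist (𝒜 n R) (a + ((0 : ℕ) : ℤ))) ⟨∅, rfl⟩

theorem KPι_π (a : ℤ) : KPι n R a ≫ KPπ n R a = 𝟙 _ :=
  biproduct.ι_π_self (fun _ : Idx n 0 => Twist.twist (𝒜 n R) (a + ((0 : ℕ) : ℤ))) ⟨∅, rfl⟩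


/-- the inclusions of the summands of the terms of the Koszul complex -/
noncomputable def KPι' (a : ℤ) (p : ℕ) (J : Idx n p) :
    OO n R (a + (p : ℤ)) ⟶ (KP n R a).X p :=
  biproduct.ι (fun _ : Idx n p => Twist.twist (𝒜 n R) (a + (p : ℤ))) J

theorem KP_hom_ext (a : ℤ) (p : ℕ) {F : (CohB1.ProjSpace n R).Modules}
    (ψ ψ' : (KP n R a).X p ⟶ F)
    (h : ∀ J, KPι' n R a p J ≫ ψ = KPι' n R a p J ≫ ψ') : ψ = ψ' :=
  biproduct.hom_ext' (f := fun _ : Idx n p => Twist.twist (𝒜 n R) (a + (p : ℤ))) ψ ψ' h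

section Ext

variable [HasExt.{u} (CohB1.ProjSpace n R).Modules]

/-- vanishing of `Ext` out of the terms of the Koszul complex -/
theorem subsingleton_ext_KP (a' : ℤ) (j : ℕ) (F : (CohB1.ProjSpace n R).Modules) (q : ℕ) (c : ℤ)
    (hc : a' + (j : ℤ) + c = 0)
    (h : Subsingleton (Coh.HH (CohB1.ProjSpace n R) (CohB1.tensorMod F (OO n R c)) q)) :
    Subsingleton (Ext ((KP n R a').X j) F q) := by
  have h1 : Subsingleton (Ext (OO n R (a' + (j : ℤ))) F q) :=
    (subsingleton_ext_twist_iff n R (a' + (j : ℤ)) c hc F q).mpr h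
  have h2 := subsingleton_ext_sigma (OO n R (a' + (j : ℤ))) F (Nat.choose (n + 1) j) q h1
  exact subsingleton_ext_of_iso (KPIso n R a' j) (Iso.refl F) q h2


/-- **regularity propagates** (all cohomological degrees `≥ 1`): if `H^q(F(m - q)) = 0` for all
`q ≥ 1` then `H^i(F(m + 1 - i)) = 0` for all `i ≥ 1`. -/
theorem propagate_aux (F : (CohB1.ProjSpace n R).Modules) (m : ℤ)
    (h : ∀ q : ℕ, 1 ≤ q →
      Subsingleton (Coh.HH (CohB1.ProjSpace n R) (CohB1.tensorMod F (OO n R (m - q))) q))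
    (i : ℕ) (hi : 1 ≤ i) :
    Subsingleton (Coh.HH (CohB1.ProjSpace n R) (CohB1.tensorMod F (OO n R (m + 1 - i))) i) := by
  have hX0 : Subsingleton (Ext ((KP n R (-(m + 1 - i))).X 0) F i) := by
    apply subsingleton_ext_X0 (KP n R (-(m + 1 - i))) (KP_exactAt n R _) (n + 1)
      (fun p hp => isZero_KP n R _ p hp) F i
    intro j hj1 hjn
    apply subsingleton_ext_KP n R (-(m + 1 - i)) j F (i + (j - 1)) (m - ((i + (j - 1) : ℕ) : ℤ))
    · push_cast [Nat.cast_sub hj1]
      ring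
    · exact h (i + (j - 1)) (by omega)
  have h0 : Subsingleton (Ext (OO n R (-(m + 1 - i) + ((0 : ℕ) : ℤ))) F i) :=
    subsingleton_ext_of_retract (KPι n R _) (KPπ n R _) (KPι_π n R _) F i hX0
  exact (subsingleton_ext_twist_iff n R (-(m + 1 - i) + ((0 : ℕ) : ℤ)) (m + 1 - i) (by simp) F i).mp h0

end Ext

theorem hasExt_modules (X : Scheme.{u}) : HasExt.{u} X.Modules := by
  haveI := enoughInjectives_modules X
  exact hasExt_of_enoughInjectives.{u} X.Modules

/-- regularity propagates, without `Ext` in the statement -/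
theorem propagate (F : (CohB1.ProjSpace n R).Modules) (m : ℤ)
    (h : ∀ q : ℕ, 1 ≤ q →
      Subsingleton (Coh.HH (CohB1.ProjSpace n R) (CohB1.tensorMod F (OO n R (m - q))) q))
    (i : ℕ) (hi : 1 ≤ i) :
    Subsingleton (Coh.HH (CohB1.ProjSpace n R) (CohB1.tensorMod F (OO n R (m + 1 - i))) i) := by
  haveI := hasExt_modules (CohB1.ProjSpace n R)
  exact propagate_aux n R F m h i hi

/-- regularity propagates to all higher twists -/
theorem propagate_all (F : (CohB1.ProjSpace n R).Modules) (m : ℤ)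
    (h : ∀ q : ℕ, 1 ≤ q →
      Subsingleton (Coh.HH (CohB1.ProjSpace n R) (CohB1.tensorMod F (OO n R (m - q))) q))
    (s : ℕ) : ∀ q : ℕ, 1 ≤ q →
      Subsingleton (Coh.HH (CohB1.ProjSpace n R) (CohB1.tensorMod F (OO n R (m + s - q))) q) := by
  induction s with
  | zero =>
    intro q hq
    have e : m + ((0 : ℕ) : ℤ) - q = m - q := by simp
    rw [e]
    exact h q hq
  | succ s ih =>
    intro q hq
    have e : m + ((s + 1 : ℕ) : ℤ) - q = m + s + 1 - q := by push_cast; ring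
    rw [e]
    exact propagate n R F (m + s) ih q hq

end Groth.Agent.CMReg
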