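import Mathlib.Algebra.Category.ModuleCat.Presheaf.Abelian
import Mathlib.Algebra.Category.ModuleCat.Presheaf.Generator
import Mathlib.Algebra.Category.Grp.Abelian
import Mathlib.Algebra.Category.Grp.AB
import Mathlib.CategoryTheory.Preadditive.Injective.Basic
import Mathlib.CategoryTheory.Functor.ReflectsIso.Balanced
import Mathlib.CategoryTheory.Abelian.FunctorCategory
import Mathlib.CategoryTheory.Abelian.GrothendieckAxioms.FunctorCategory
import Mathlib.CategoryTheory.Abelian.GrothendieckCategory.EnoughInjectives
import Mathlib.CategoryTheory.Generator.Presheaf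

/-!
# Functorial injective embeddings in Grothendieck abelian categories
-/

set_option autoImplicit false
universe w v u
open CategoryTheory Limits ZeroObject

namespace Groth.Agent.Lib.FunctorialInjective

open MorphismProperty in
/-- A Grothendieck abelian category has functorial injective embeddings (from the functorial
factorization given by the small object argument). -/
theorem exists_functorial_injective_embedding {A : Type u} [Category.{v} A] [Abelian A]
    [IsGrothendieckAbelian.{w} A] :
    ∃ (J : A ⥤ A) (j : 𝟭 _ ⟶ J), ∀ F : A, Injective (J.obj F) ∧ Mono (j.app F) := by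
  let data := functorialFactorizationData (monomorphisms A) (monomorphisms A).rlp
  let G : A ⥤ Arrow A :=
    { obj := fun X => Arrow.mk (0 : X ⟶ 0)
      map := fun {X Y} f => Arrow.homMk f (𝟙 0) (by simp)
      map_id := fun X => by ext <;> simp
      map_comp := fun f g => by ext <;> simp }
  refine ⟨G ⋙ data.Z, Functor.whiskerLeft G data.i, fun F => ⟨?_, ?_⟩⟩
  · exact inferInstanceAs
      (Injective (IsGrothendieckAbelian.monoMapFactorizationDataRlp (0 : F ⟶ 0)).Z)
  · exact inferInstanceAs (Mono (IsGrothendieckAbelian.monoMapFactorizationDataRlp (0 : F ⟶ 0)).i)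

/-- Presheaves of abelian groups on a small category form a Grothendieck abelian category. -/
theorem isGrothendieckAbelian_presheaf {C : Type u} [SmallCategory C] :
    IsGrothendieckAbelian.{u} (Cᵒᵖ ⥤ AddCommGrpCat.{u}) :=
  { ab5OfSize := ⟨fun J _ _ => inferInstance⟩ }

/-- Presheaves of modules on a small category form a Grothendieck abelian category. -/
theorem isGrothendieckAbelian_presheafOfModules {C : Type u} [SmallCategory C]
    (O : Cᵒᵖ ⥤ RingCat.{u}) : IsGrothendieckAbelian.{u} (PresheafOfModules.{u} O) := by
  have : (PresheafOfModules.toPresheaf O).ReflectsIsomorphisms := inferInstance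
  have : ReflectsFiniteLimits (PresheafOfModules.toPresheaf O) :=
    ⟨fun J _ _ => reflectsLimitsOfShape_of_reflectsIsomorphisms⟩
  exact
  { ab5OfSize := ⟨fun J _ _ =>
      HasExactColimitsOfShape.domain_of_functor J (PresheafOfModules.toPresheaf O)⟩
    hasSeparator := ⟨_, (PresheafOfModules.freeYoneda.isSeparating O).isSeparator_coproduct⟩ }

end Groth.Agent.Lib.FunctorialInjective
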