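import Mathlib
import Groth.Agent.Lib.FunctorialInjective_helper2

/-!
# Functorial "injective hulls" of cochain complexes (helper9)

Given a functorial injective embedding `j : 𝟭 A ⟶ J`, we construct an endofunctor `N` of
`CochainComplex A ℤ` and a natural transformation `𝟭 ⟶ N` which is a termwise monomorphism,
a quasi-isomorphism, and factors termwise through a monomorphism from an injective object.
-/

namespace Groth.Agent.Lib.FunInjCx

open CategoryTheory CategoryTheory.Limits CochainComplex HomComplex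

universe v u

variable {A : Type u} [Category.{v} A] [Abelian A] (J : A ⥤ A) (j : 𝟭 A ⟶ J)

/-! ### General lemmas on mapping cones -/

section cone

variable {K₁ L₁ K₂ L₂ : CochainComplex A ℤ} (φ₁ : K₁ ⟶ L₁) (φ₂ : K₂ ⟶ L₂)
  (a : K₁ ⟶ K₂) (b : L₁ ⟶ L₂) (comm : φ₁ ≫ b = a ≫ φ₂)

lemma inl_v_map_f (p q : ℤ) (h : p + (-1) = q) :
    (mappingCone.inl φ₁).v p q h ≫ (mappingCone.map φ₁ φ₂ a b comm).f q =
      a.f p ≫ (mappingCone.inl φ₂).v p q h := by
  simp [mappingCone.map]

lemma inr_f_map_f (p : ℤ) :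
    (mappingCone.inr φ₁).f p ≫ (mappingCone.map φ₁ φ₂ a b comm).f p =
      b.f p ≫ (mappingCone.inr φ₂).f p := by
  simp [mappingCone.map]

lemma map_f_fst_v (p q : ℤ) (h : p + 1 = q) :
    (mappingCone.map φ₁ φ₂ a b comm).f p ≫ (mappingCone.fst φ₂).1.v p q h =
      (mappingCone.fst φ₁).1.v p q h ≫ a.f q := by
  apply mappingCone.ext_from φ₁ q p h
  · rw [← Category.assoc, inl_v_map_f, Category.assoc, mappingCone.inl_v_fst_v,
      mappingCone.inl_v_fst_v_assoc, Category.comp_id]
  · rw [← Category.assoc, inr_f_map_f, Category.assoc, mappingCone.inr_f_fst_v,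
      mappingCone.inr_f_fst_v_assoc, comp_zero, zero_comp]

lemma map_f_snd_v (p : ℤ) :
    (mappingCone.map φ₁ φ₂ a b comm).f p ≫ (mappingCone.snd φ₂).v p p (add_zero p) =
      (mappingCone.snd φ₁).v p p (add_zero p) ≫ b.f p := by
  apply mappingCone.ext_from φ₁ (p + 1) p rfl
  · rw [← Category.assoc, inl_v_map_f, Category.assoc, mappingCone.inl_v_snd_v,
      mappingCone.inl_v_snd_v_assoc, comp_zero, zero_comp]
  · rw [← Category.assoc, inr_f_map_f, Category.assoc, mappingCone.inr_f_snd_v,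
      mappingCone.inr_f_snd_v_assoc, Category.comp_id]

lemma map_congr {a a' : K₁ ⟶ K₂} {b b' : L₁ ⟶ L₂} (ha : a = a') (hb : b = b')
    (comm : φ₁ ≫ b = a ≫ φ₂) :
    mappingCone.map φ₁ φ₂ a b comm =
      mappingCone.map φ₁ φ₂ a' b' (by subst ha hb; exact comm) := by
  subst ha hb
  rfl

instance mono_inl_v (p q : ℤ) (h : p + (-1) = q) : Mono ((mappingCone.inl φ₁).v p q h) :=
  mono_of_mono_fac (mappingCone.inl_v_fst_v φ₁ p q (by omega))

lemma exactAt_cone_id (Q : CochainComplex A ℤ) (n : ℤ) :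
    (mappingCone (𝟙 Q)).ExactAt n := by
  rw [HomologicalComplex.exactAt_iff_isZero_homology]
  let h₀ : Homotopy (𝟙 (mappingCone (𝟙 Q))) 0 :=
    mappingCone.liftHomotopy _ _ _ (mappingCone.snd _) 0 (by simp) (by simp)
  rw [IsZero.iff_id_eq_zero, ← HomologicalComplex.homologyMap_id, h₀.homologyMap_eq n,
    HomologicalComplex.homologyMap_zero]

lemma quasiIso_of_shortExact_of_exactAt {S : ShortComplex (CochainComplex A ℤ)}
    (hS : S.ShortExact) (h : ∀ n, S.X₃.ExactAt n) : QuasiIso S.f := by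
  rw [quasiIso_iff]
  intro n
  rw [quasiIsoAt_iff_isIso_homologyMap]
  have hz : ∀ n, IsZero (S.X₃.homology n) := fun n =>
    (HomologicalComplex.exactAt_iff_isZero_homology _ _).1 (h n)
  haveI : Mono (HomologicalComplex.homologyMap S.f n) :=
    (hS.homology_exact₁ (n - 1) n (by simp)).mono_g ((hz (n - 1)).eq_of_src _ _)
  haveI : Epi (HomologicalComplex.homologyMap S.f n) :=
    (hS.homology_exact₂ n).epi_f ((hz n).eq_of_tgt _ _)
  exact isIso_of_mono_of_epi _

end cone

/-! ### The contractible complex `Cx K` containing `K` -/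

/-- The complex with `J (K^n) ⊞ J (K^{n+1})` in degree `n`. -/
noncomputable abbrev Cx (K : CochainComplex A ℤ) : CochainComplex A ℤ :=
  CochainComplex.of (fun n => J.obj (K.X n) ⊞ J.obj (K.X (n + 1)))
    (fun _ => biprod.snd ≫ biprod.inl) (fun n => by simp)

lemma Cx_d (K : CochainComplex A ℤ) (n : ℤ) :
    (Cx J K).d n (n + 1) = biprod.snd ≫ biprod.inl :=
  CochainComplex.of_d (fun n => J.obj (K.X n) ⊞ J.obj (K.X (n + 1)))
    (fun _ => biprod.snd ≫ biprod.inl) n

/-- functoriality of `Cx` -/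
noncomputable def CxMap {K L : CochainComplex A ℤ} (f : K ⟶ L) : Cx J K ⟶ Cx J L :=
  CochainComplex.ofHom (fun n => biprod.map (J.map (f.f n)) (J.map (f.f (n + 1))))
    (fun n => by rw [Cx_d, Cx_d]; simp)

@[simp]
lemma CxMap_f {K L : CochainComplex A ℤ} (f : K ⟶ L) (n : ℤ) :
    (CxMap J f).f n = biprod.map (J.map (f.f n)) (J.map (f.f (n + 1))) := rfl

@[simp]
lemma CxMap_id (K : CochainComplex A ℤ) : CxMap J (𝟙 K) = 𝟙 _ := by
  refine HomologicalComplex.hom_ext _ _ (fun n => ?_)
  rw [CxMap_f]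
  apply biprod.hom_ext <;> simp

@[simp]
lemma CxMap_comp {K L M : CochainComplex A ℤ} (f : K ⟶ L) (g : L ⟶ M) :
    CxMap J (f ≫ g) = CxMap J f ≫ CxMap J g := by
  refine HomologicalComplex.hom_ext _ _ (fun n => ?_)
  rw [HomologicalComplex.comp_f, CxMap_f, CxMap_f, CxMap_f]
  apply biprod.hom_ext <;> simp

/-- The inclusion `K ⟶ Cx K`. -/
noncomputable def iota (K : CochainComplex A ℤ) : K ⟶ Cx J K :=
  CochainComplex.ofHom
    (fun n => biprod.lift (j.app (K.X n)) (K.d n (n + 1) ≫ j.app (K.X (n + 1))))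
    (fun n => by
      rw [Cx_d]
      apply biprod.hom_ext <;> simp)

@[simp]
lemma iota_f (K : CochainComplex A ℤ) (n : ℤ) :
    (iota J j K).f n = biprod.lift (j.app (K.X n)) (K.d n (n + 1) ≫ j.app (K.X (n + 1))) := rfl

lemma iota_naturality {K L : CochainComplex A ℤ} (f : K ⟶ L) :
    iota J j K ≫ CxMap J f = f ≫ iota J j L := by
  refine HomologicalComplex.hom_ext _ _ (fun n => ?_)
  have h1 := j.naturality (f.f n)
  have h2 := j.naturality (f.f (n + 1))
  dsimp at h1 h2
  rw [HomologicalComplex.comp_f, HomologicalComplex.comp_f, CxMap_f, iota_f, iota_f]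
  apply biprod.hom_ext
  · simp [h1]
  · simp [h2]

lemma mono_iota_f (hj : ∀ X, Mono (j.app X)) (K : CochainComplex A ℤ) (n : ℤ) :
    Mono ((iota J j K).f n) := by
  haveI := hj (K.X n)
  have h : (iota J j K).f n ≫ biprod.fst = j.app (K.X n) := by simp
  exact mono_of_mono_fac h

lemma mono_iota (hj : ∀ X, Mono (j.app X)) (K : CochainComplex A ℤ) : Mono (iota J j K) :=
  HomologicalComplex.mono_of_mono_f _ (fun n => mono_iota_f J j hj K n)

lemma injective_Cx_X (hJ : ∀ X, Injective (J.obj X)) (K : CochainComplex A ℤ) (n : ℤ) :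
    Injective ((Cx J K).X n) := by
  haveI := hJ (K.X n)
  haveI := hJ (K.X (n + 1))
  exact inferInstanceAs (Injective (J.obj (K.X n) ⊞ J.obj (K.X (n + 1))))

/-! ### The quotient -/

/-- the quotient `Cx K / K` -/
noncomputable def Qx (K : CochainComplex A ℤ) : CochainComplex A ℤ := cokernel (iota J j K)

/-- the projection -/
noncomputable def pi (K : CochainComplex A ℤ) : Cx J K ⟶ Qx J j K := cokernel.π _

instance (K : CochainComplex A ℤ) : Epi (pi J j K) :=
  inferInstanceAs (Epi (cokernel.π (iota J j K)))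

@[reassoc (attr := simp)]
lemma iota_pi (K : CochainComplex A ℤ) : iota J j K ≫ pi J j K = 0 := cokernel.condition _

@[reassoc (attr := simp)]
lemma iota_pi_f (K : CochainComplex A ℤ) (n : ℤ) :
    (iota J j K).f n ≫ (pi J j K).f n = 0 := by
  rw [← HomologicalComplex.comp_f, iota_pi, HomologicalComplex.zero_f]

/-- functoriality of `Qx` -/
noncomputable def QxMap {K L : CochainComplex A ℤ} (f : K ⟶ L) : Qx J j K ⟶ Qx J j L :=
  cokernel.map _ _ f (CxMap J f) (iota_naturality J j f)

@[reassoc]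
lemma pi_naturality {K L : CochainComplex A ℤ} (f : K ⟶ L) :
    pi J j K ≫ QxMap J j f = CxMap J f ≫ pi J j L :=
  cokernel.π_desc _ _ _

@[simp]
lemma QxMap_id (K : CochainComplex A ℤ) : QxMap J j (𝟙 K) = 𝟙 _ := by
  rw [← cancel_epi (pi J j K), pi_naturality, CxMap_id, Category.id_comp, Category.comp_id]

@[simp]
lemma QxMap_comp {K L M : CochainComplex A ℤ} (f : K ⟶ L) (g : L ⟶ M) :
    QxMap J j (f ≫ g) = QxMap J j f ≫ QxMap J j g := by
  rw [← cancel_epi (pi J j K), pi_naturality, pi_naturality_assoc, pi_naturality, CxMap_comp,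
    Category.assoc]

lemma shortExact₀ (hj : ∀ X, Mono (j.app X)) (K : CochainComplex A ℤ) :
    (ShortComplex.mk (iota J j K) (pi J j K) (iota_pi J j K)).ShortExact := by
  haveI := mono_iota J j hj K
  exact { exact := ShortComplex.exact_cokernel (iota J j K) }

lemma shortExact₀_f (hj : ∀ X, Mono (j.app X)) (K : CochainComplex A ℤ) (n : ℤ) :
    (ShortComplex.mk ((iota J j K).f n) ((pi J j K).f n) (iota_pi_f J j K n)).ShortExact :=
  (shortExact₀ J j hj K).map_of_exact (HomologicalComplex.eval A (ComplexShape.up ℤ) n)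

/-! ### The complex `Nx K` -/

/-- the cone of the projection -/
noncomputable abbrev Nx (K : CochainComplex A ℤ) : CochainComplex A ℤ := mappingCone (pi J j K)

/-- functoriality -/
noncomputable def NxMap {K L : CochainComplex A ℤ} (f : K ⟶ L) : Nx J j K ⟶ Nx J j L :=
  mappingCone.map (pi J j K) (pi J j L) (CxMap J f) (QxMap J j f) (pi_naturality J j f)

lemma NxMap_id (K : CochainComplex A ℤ) : NxMap J j (𝟙 K) = 𝟙 _ :=
  (map_congr _ _ (CxMap_id J K) (QxMap_id J j K) _).trans (mappingCone.map_id _)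

lemma NxMap_comp {K L M : CochainComplex A ℤ} (f : K ⟶ L) (g : L ⟶ M) :
    NxMap J j (f ≫ g) = NxMap J j f ≫ NxMap J j g :=
  (map_congr _ _ (CxMap_comp J f g) (QxMap_comp J j f g) _).trans
    (mappingCone.map_comp _ _ _ _ _ _ _ _ _)

/-- the functor `Nx` -/
noncomputable def NxF : CochainComplex A ℤ ⥤ CochainComplex A ℤ where
  obj := Nx J j
  map f := NxMap J j f
  map_id K := NxMap_id J j K
  map_comp f g := NxMap_comp J j f g

/-- the components of the map `K⟦1⟧ ⟶ Nx K` -/
noncomputable def jf (K : CochainComplex A ℤ) (n : ℤ) : K.X (n + 1) ⟶ (Nx J j K).X n :=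
  (iota J j K).f (n + 1) ≫ (mappingCone.inl (pi J j K)).v (n + 1) n (by omega)

lemma jf_d (K : CochainComplex A ℤ) (n : ℤ) :
    jf J j K n ≫ (Nx J j K).d n (n + 1) =
      ((1 : ℤ).negOnePow • K.d (n + 1) (n + 1 + 1)) ≫ jf J j K (n + 1) := by
  have h1 := (iota J j K).comm (n + 1) (n + 1 + 1)
  dsimp only [jf, Nx]
  rw [Category.assoc,
    mappingCone.inl_v_d (pi J j K) (n + 1) n (n + 1 + 1) (by omega) (by omega),
    Preadditive.comp_sub, iota_pi_f_assoc, zero_comp, zero_sub, reassoc_of% h1,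
    Int.negOnePow_one, Units.neg_smul, one_smul, Preadditive.neg_comp]

lemma jf_fst (K : CochainComplex A ℤ) (n : ℤ) :
    jf J j K n ≫ (mappingCone.fst (pi J j K)).1.v n (n + 1) rfl = (iota J j K).f (n + 1) := by
  dsimp only [jf]
  rw [Category.assoc, mappingCone.inl_v_fst_v, Category.comp_id]

lemma jf_snd (K : CochainComplex A ℤ) (n : ℤ) :
    jf J j K n ≫ (mappingCone.snd (pi J j K)).v n n (add_zero n) = 0 := by
  dsimp only [jf]
  rw [Category.assoc, mappingCone.inl_v_snd_v, comp_zero]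

lemma jf_map {K L : CochainComplex A ℤ} (f : K ⟶ L) (n : ℤ) :
    jf J j K n ≫ (NxMap J j f).f n = f.f (n + 1) ≫ jf J j L n := by
  have h := congr_arg (fun φ => φ.f (n + 1)) (iota_naturality J j f)
  dsimp only at h
  rw [HomologicalComplex.comp_f, HomologicalComplex.comp_f] at h
  dsimp only [jf, NxMap]
  rw [Category.assoc, inl_v_map_f, ← Category.assoc, h, Category.assoc]

lemma mono_jf (hj : ∀ X, Mono (j.app X)) (K : CochainComplex A ℤ) (n : ℤ) :
    Mono (jf J j K n) := by
  haveI := mono_iota_f J j hj K (n + 1)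
  haveI := mono_inl_v (pi J j K) (n + 1) n (by omega)
  dsimp only [jf]
  exact mono_comp _ _

/-- the map to the (contractible) cone of the identity of `Qx K` -/
noncomputable def gg (K : CochainComplex A ℤ) : Nx J j K ⟶ mappingCone (𝟙 (Qx J j K)) :=
  mappingCone.map (pi J j K) (𝟙 _) (pi J j K) (𝟙 _) (by simp)

lemma jf_gg (K : CochainComplex A ℤ) (n : ℤ) : jf J j K n ≫ (gg J j K).f n = 0 := by
  dsimp only [jf, gg]
  rw [Category.assoc, inl_v_map_f, iota_pi_f_assoc, zero_comp]

lemma shortExact_jf (hj : ∀ X, Mono (j.app X)) (K : CochainComplex A ℤ) (n : ℤ) :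
    (ShortComplex.mk (jf J j K n) ((gg J j K).f n) (jf_gg J j K n)).ShortExact := by
  have hS := shortExact₀_f J j hj K (n + 1)
  haveI := hS.mono_f
  haveI := hS.epi_g
  haveI := mono_jf J j hj K n
  have hepi : Epi ((gg J j K).f n) := by
    apply Preadditive.epi_of_cancel_zero
    intro P t ht
    have h1 : (mappingCone.inl (𝟙 (Qx J j K))).v (n + 1) n (by omega) ≫ t = 0 := by
      rw [← cancel_epi ((pi J j K).f (n + 1)), comp_zero, ← Category.assoc,
        ← inl_v_map_f (pi J j K) (𝟙 (Qx J j K)) (pi J j K) (𝟙 _) (by simp) (n + 1) n (by omega),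
        Category.assoc]
      erw [ht]
      rw [comp_zero]
    have h2 : (mappingCone.inr (𝟙 (Qx J j K))).f n ≫ t = 0 := by
      have := inr_f_map_f (pi J j K) (𝟙 (Qx J j K)) (pi J j K) (𝟙 _) (by simp) n
      rw [HomologicalComplex.id_f, Category.id_comp] at this
      rw [← this, Category.assoc]
      erw [ht]
      rw [comp_zero]
    apply mappingCone.ext_from (𝟙 (Qx J j K)) (n + 1) n rfl
    · rw [h1, comp_zero]
    · rw [h2, comp_zero]
  refine { exact := ?_, mono_f := inferInstance, epi_g := hepi }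
  rw [ShortComplex.exact_iff_exact_up_to_refinements]
  intro T x₂ hx₂
  dsimp only at x₂ hx₂
  have h1 : (x₂ ≫ (mappingCone.fst (pi J j K)).1.v n (n + 1) rfl) ≫ (pi J j K).f (n + 1) = 0 := by
    rw [Category.assoc]
    have := map_f_fst_v (pi J j K) (𝟙 (Qx J j K)) (pi J j K) (𝟙 _) (by simp) n (n + 1) rfl
    erw [← this, reassoc_of% hx₂, zero_comp]
  have h2 : x₂ ≫ (mappingCone.snd (pi J j K)).v n n (add_zero n) = 0 := by
    have := map_f_snd_v (pi J j K) (𝟙 (Qx J j K)) (pi J j K) (𝟙 _) (by simp) n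
    rw [HomologicalComplex.id_f,
      Category.comp_id ((mappingCone.snd (pi J j K)).v n n (add_zero n))] at this
    erw [← this, reassoc_of% hx₂, zero_comp]
  refine ⟨T, 𝟙 T, inferInstance, hS.exact.lift _ h1, ?_⟩
  rw [Category.id_comp]
  dsimp only
  apply mappingCone.ext_to (pi J j K) n (n + 1) rfl
  · rw [Category.assoc, jf_fst]
    exact (hS.exact.lift_f _ h1).symm
  · rw [Category.assoc, jf_snd, comp_zero, h2]

set_option backward.isDefEq.respectTransparency.types false in
/-- the map `K⟦1⟧ ⟶ Nx K` -/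
noncomputable def jj (K : CochainComplex A ℤ) : K⟦(1 : ℤ)⟧ ⟶ Nx J j K where
  f n := jf J j K n
  comm' := by
    rintro n m (rfl : n + 1 = m)
    exact jf_d J j K n

set_option backward.isDefEq.respectTransparency.types false in
lemma jj_f (K : CochainComplex A ℤ) (n : ℤ) : (jj J j K).f n = jf J j K n := rfl

set_option backward.isDefEq.respectTransparency.types false in
lemma jj_naturality {K L : CochainComplex A ℤ} (f : K ⟶ L) :
    f⟦(1 : ℤ)⟧' ≫ jj J j L = jj J j K ≫ NxMap J j f := by
  refine HomologicalComplex.hom_ext _ _ (fun n => ?_)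
  exact (jf_map J j f n).symm

set_option backward.isDefEq.respectTransparency.types false in
lemma jj_gg (K : CochainComplex A ℤ) : jj J j K ≫ gg J j K = 0 := by
  refine HomologicalComplex.hom_ext _ _ (fun n => ?_)
  exact jf_gg J j K n

set_option backward.isDefEq.respectTransparency.types false in
lemma shortExact_jj (hj : ∀ X, Mono (j.app X)) (K : CochainComplex A ℤ) :
    (ShortComplex.mk (jj J j K) (gg J j K) (jj_gg J j K)).ShortExact := by
  apply HomologicalComplex.shortExact_of_degreewise_shortExact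
  intro n
  exact shortExact_jf J j hj K n

lemma quasiIso_jj (hj : ∀ X, Mono (j.app X)) (K : CochainComplex A ℤ) : QuasiIso (jj J j K) :=
  quasiIso_of_shortExact_of_exactAt (shortExact_jj J j hj K) (fun n => exactAt_cone_id _ n)

set_option backward.isDefEq.respectTransparency.types false in
lemma mono_jj_f (hj : ∀ X, Mono (j.app X)) (K : CochainComplex A ℤ) (n : ℤ) :
    Mono ((jj J j K).f n) := mono_jf J j hj K n

/-- the natural transformation -/
noncomputable def jjNat : CategoryTheory.shiftFunctor (CochainComplex A ℤ) (1 : ℤ) ⟶ NxF J j where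
  app K := jj J j K
  naturality _ _ f := jj_naturality J j f

set_option backward.isDefEq.respectTransparency.types false in
lemma jj_factor (hJ : ∀ X, Injective (J.obj X)) (K : CochainComplex A ℤ) (n : ℤ) :
    ∃ (I : A) (_ : Injective I) (a : (K⟦(1 : ℤ)⟧).X n ⟶ I) (b : I ⟶ (Nx J j K).X n),
      Mono b ∧ a ≫ b = (jj J j K).f n :=
  ⟨(Cx J K).X (n + 1), injective_Cx_X J hJ K (n + 1), (iota J j K).f (n + 1),
    (mappingCone.inl (pi J j K)).v (n + 1) n (by omega), inferInstance, rfl⟩

set_option backward.isDefEq.respectTransparency.types false in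
/-- Functorial termwise-mono quasi-isomorphic embedding of complexes, factoring termwise through
monomorphisms from injective objects. -/
theorem main [IsGrothendieckAbelian.{v} A] :
    ∃ (N : CochainComplex A ℤ ⥤ CochainComplex A ℤ) (j : 𝟭 _ ⟶ N),
      ∀ M : CochainComplex A ℤ, (∀ n : ℤ, Mono ((j.app M).f n)) ∧ QuasiIso (j.app M) ∧
        ∀ n : ℤ, ∃ (I : A) (_ : Injective I) (a : M.X n ⟶ I) (b : I ⟶ (N.obj M).X n),
          Mono b ∧ a ≫ b = (j.app M).f n := by
  obtain ⟨J, j, hJj⟩ := FunctorialInjective.exists_functorial_injective_embedding (A := A)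
  have hJ : ∀ X, Injective (J.obj X) := fun X => (hJj X).1
  have hj : ∀ X, Mono (j.app X) := fun X => (hJj X).2
  let e := shiftFunctorCompIsoId (CochainComplex A ℤ) (-1 : ℤ) 1 (by norm_num)
  let S := CategoryTheory.shiftFunctor (CochainComplex A ℤ) (-1 : ℤ)
  refine ⟨S ⋙ NxF J j, e.inv ≫ Functor.whiskerLeft S (jjNat J j), fun M => ?_⟩
  have happ : (e.inv ≫ Functor.whiskerLeft S (jjNat J j)).app M =
      e.inv.app M ≫ jj J j (S.obj M) := rfl
  have hf : ∀ n, ((e.inv ≫ Functor.whiskerLeft S (jjNat J j)).app M).f n =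
      (e.inv.app M).f n ≫ (jj J j (S.obj M)).f n := fun n => by rw [happ]; rfl
  haveI : ∀ n, IsIso ((e.inv.app M).f n) := fun n =>
    inferInstanceAs (IsIso ((HomologicalComplex.eval A (ComplexShape.up ℤ) n).map (e.inv.app M)))
  refine ⟨fun n => ?_, ?_, fun n => ?_⟩
  · rw [hf]
    exact @mono_comp _ _ _ _ _ _ (inferInstance) _ (mono_jj_f J j hj (S.obj M) n)
  · rw [happ]
    exact quasiIso_comp (φ := e.inv.app M) (φ' := jj J j (S.obj M)) (hφ := inferInstance)
      (hφ' := quasiIso_jj J j hj (S.obj M))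
  · obtain ⟨I, hI, a, b, hb, hab⟩ := jj_factor J j hJ (S.obj M) n
    refine ⟨I, hI, (e.inv.app M).f n ≫ a, b, hb, ?_⟩
    refine Eq.trans ?_ (hf n).symm
    exact (Category.assoc _ _ _).trans (congrArg (fun t => (e.inv.app M).f n ≫ t) hab)

end Groth.Agent.Lib.FunInjCx
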