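import Mathlib
import Groth.Agent.Lib.FunInjCx_helper9

/-!
# Resolutions of unbounded complexes by objects of a class of finite coresolution dimension

* `acyclic_mappingCone`: the cone of a quasi-isomorphism is acyclic.
* `quasiIso_jj`: for a short exact sequence of complexes `0 ⟶ X₁ ⟶ X₂ ⟶ X₃ ⟶ 0` and a
  quasi-isomorphism `g : X₃ ⟶ T`, the canonical map `X₁⟦1⟧ ⟶ cone (X₂ ⟶ X₃ ⟶ T)` is a
  quasi-isomorphism.
-/

open CategoryTheory CategoryTheory.Limits CochainComplex HomComplex ZeroObject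

namespace Groth.Agent.Lib.FinDimRes

universe v u

variable {A : Type u} [Category.{v} A] [Abelian A]

open Groth.Agent.Lib.FunInjCx

/-! ### The cone of a quasi-isomorphism -/

lemma acyclic_mappingCone {K L : CochainComplex A ℤ} (g : K ⟶ L) [hg : QuasiIso g] :
    (mappingCone g).Acyclic := by
  have h1 : HomotopyCategory.quasiIso A (ComplexShape.up ℤ)
      ((HomotopyCategory.quotient A (ComplexShape.up ℤ)).map g) := by
    rw [HomotopyCategory.quotient_map_mem_quasiIso_iff]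
    exact hg
  rw [HomotopyCategory.quasiIso_eq_trW_subcategoryAcyclic] at h1
  have h2 := ((HomotopyCategory.subcategoryAcyclic A).trW_iff_of_distinguished _
    (HomotopyCategory.mappingCone_triangleh_distinguished g)).1 h1
  exact (HomotopyCategory.quotient_obj_mem_subcategoryAcyclic_iff_acyclic _).1 h2

/-! ### The cocone lemma -/

section cocone

variable (S : ShortComplex (CochainComplex A ℤ)) {T : CochainComplex A ℤ} (g : S.X₃ ⟶ T)

/-- the components of the map `X₁⟦1⟧ ⟶ cone (X₂ ⟶ X₃ ⟶ T)` -/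
noncomputable def jf (n : ℤ) : S.X₁.X (n + 1) ⟶ (mappingCone (S.g ≫ g)).X n :=
  S.f.f (n + 1) ≫ (mappingCone.inl (S.g ≫ g)).v (n + 1) n (by omega)

lemma f_g_f (n : ℤ) : S.f.f n ≫ (S.g ≫ g).f n = 0 := by
  rw [← HomologicalComplex.comp_f, ← Category.assoc, S.zero, zero_comp,
    HomologicalComplex.zero_f]

lemma jf_d (n : ℤ) :
    jf S g n ≫ (mappingCone (S.g ≫ g)).d n (n + 1) =
      ((1 : ℤ).negOnePow • S.X₁.d (n + 1) (n + 1 + 1)) ≫ jf S g (n + 1) := by
  have h1 := S.f.comm (n + 1) (n + 1 + 1)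
  have h0 := f_g_f S g (n + 1)
  dsimp only [jf]
  rw [Category.assoc,
    mappingCone.inl_v_d (S.g ≫ g) (n + 1) n (n + 1 + 1) (by omega) (by omega),
    Preadditive.comp_sub, reassoc_of% h0, zero_comp, zero_sub, reassoc_of% h1,
    Int.negOnePow_one, Units.neg_smul, one_smul, Preadditive.neg_comp]

lemma jf_fst (n : ℤ) :
    jf S g n ≫ (mappingCone.fst (S.g ≫ g)).1.v n (n + 1) rfl = S.f.f (n + 1) := by
  dsimp only [jf]
  rw [Category.assoc, mappingCone.inl_v_fst_v, Category.comp_id]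

lemma jf_snd (n : ℤ) :
    jf S g n ≫ (mappingCone.snd (S.g ≫ g)).v n n (add_zero n) = 0 := by
  dsimp only [jf]
  rw [Category.assoc, mappingCone.inl_v_snd_v, comp_zero]

/-- the map to the (acyclic) cone of `g` -/
noncomputable def gg : mappingCone (S.g ≫ g) ⟶ mappingCone g :=
  mappingCone.map (S.g ≫ g) g S.g (𝟙 _) (by simp)

lemma jf_gg (n : ℤ) : jf S g n ≫ (gg S g).f n = 0 := by
  have h0 : S.f.f (n + 1) ≫ S.g.f (n + 1) = 0 := by
    rw [← HomologicalComplex.comp_f, S.zero, HomologicalComplex.zero_f]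
  dsimp only [jf, gg]
  rw [Category.assoc, inl_v_map_f, reassoc_of% h0, zero_comp]

lemma shortExact_jf (hS : S.ShortExact) (n : ℤ) :
    (ShortComplex.mk (jf S g n) ((gg S g).f n) (jf_gg S g n)).ShortExact := by
  have hS' := hS.map_of_exact (HomologicalComplex.eval A (ComplexShape.up ℤ) (n + 1))
  haveI : Mono (S.f.f (n + 1)) := hS'.mono_f
  haveI : Epi (S.g.f (n + 1)) := hS'.epi_g
  haveI : Mono (S.map (HomologicalComplex.eval A (ComplexShape.up ℤ) (n + 1))).f := hS'.mono_f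
  haveI := mono_inl_v (S.g ≫ g) (n + 1) n (by omega)
  haveI : Mono (jf S g n) := by
    dsimp only [jf]
    exact mono_comp _ _
  have hepi : Epi ((gg S g).f n) := by
    apply Preadditive.epi_of_cancel_zero
    intro P t ht
    have h1 : (mappingCone.inl g).v (n + 1) n (by omega) ≫ t = 0 := by
      rw [← cancel_epi (S.g.f (n + 1)), comp_zero, ← Category.assoc,
        ← inl_v_map_f (S.g ≫ g) g S.g (𝟙 _) (by simp) (n + 1) n (by omega),
        Category.assoc]
      erw [ht]
      rw [comp_zero]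
    have h2 : (mappingCone.inr g).f n ≫ t = 0 := by
      have := inr_f_map_f (S.g ≫ g) g S.g (𝟙 _) (by simp) n
      rw [HomologicalComplex.id_f, Category.id_comp] at this
      rw [← this, Category.assoc]
      erw [ht]
      rw [comp_zero]
    apply mappingCone.ext_from g (n + 1) n rfl
    · rw [h1, comp_zero]
    · rw [h2, comp_zero]
  refine { exact := ?_, mono_f := inferInstance, epi_g := hepi }
  rw [ShortComplex.exact_iff_exact_up_to_refinements]
  intro U x₂ hx₂
  dsimp only at x₂ hx₂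
  have h1 : (x₂ ≫ (mappingCone.fst (S.g ≫ g)).1.v n (n + 1) rfl) ≫ S.g.f (n + 1) = 0 := by
    rw [Category.assoc]
    have := map_f_fst_v (S.g ≫ g) g S.g (𝟙 _) (by simp) n (n + 1) rfl
    erw [← this, reassoc_of% hx₂, zero_comp]
  have h2 : x₂ ≫ (mappingCone.snd (S.g ≫ g)).v n n (add_zero n) = 0 := by
    have := map_f_snd_v (S.g ≫ g) g S.g (𝟙 _) (by simp) n
    rw [HomologicalComplex.id_f,
      Category.comp_id ((mappingCone.snd (S.g ≫ g)).v n n (add_zero n))] at this
    erw [← this, reassoc_of% hx₂, zero_comp]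
  refine ⟨U, 𝟙 U, inferInstance, hS'.exact.lift _ h1, ?_⟩
  rw [Category.id_comp]
  dsimp only
  apply mappingCone.ext_to (S.g ≫ g) n (n + 1) rfl
  · rw [Category.assoc, jf_fst]
    exact (hS'.exact.lift_f _ h1).symm
  · rw [Category.assoc, jf_snd, comp_zero, h2]

set_option backward.isDefEq.respectTransparency.types false in
/-- the map `X₁⟦1⟧ ⟶ cone (X₂ ⟶ X₃ ⟶ T)` -/
noncomputable def jj : S.X₁⟦(1 : ℤ)⟧ ⟶ mappingCone (S.g ≫ g) where
  f n := jf S g n
  comm' := by
    rintro n m (rfl : n + 1 = m)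
    exact jf_d S g n

set_option backward.isDefEq.respectTransparency.types false in
lemma jj_gg : jj S g ≫ gg S g = 0 := by
  refine HomologicalComplex.hom_ext _ _ (fun n => ?_)
  exact jf_gg S g n

set_option backward.isDefEq.respectTransparency.types false in
lemma shortExact_jj (hS : S.ShortExact) :
    (ShortComplex.mk (jj S g) (gg S g) (jj_gg S g)).ShortExact := by
  apply HomologicalComplex.shortExact_of_degreewise_shortExact
  intro n
  exact shortExact_jf S g hS n

lemma quasiIso_jj (hS : S.ShortExact) [QuasiIso g] : QuasiIso (jj S g) :=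
  quasiIso_of_shortExact_of_exactAt (shortExact_jj S g hS) (acyclic_mappingCone g)

end cocone

/-! ### A complex with prescribed terms containing a given complex -/

section Cx

variable (X : CochainComplex A ℤ) (J : ℤ → A) (ι : ∀ n, X.X n ⟶ J n)

/-- The complex with `J n ⊞ J (n+1)` in degree `n`. -/
noncomputable abbrev Cx : CochainComplex A ℤ :=
  CochainComplex.of (fun n => J n ⊞ J (n + 1))
    (fun _ => biprod.snd ≫ biprod.inl) (fun n => by simp)

lemma Cx_d (n : ℤ) : (Cx J).d n (n + 1) = biprod.snd ≫ biprod.inl :=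
  CochainComplex.of_d (fun n => J n ⊞ J (n + 1)) (fun _ => biprod.snd ≫ biprod.inl) n

/-- The inclusion `X ⟶ Cx J`. -/
noncomputable def iota : X ⟶ Cx J :=
  CochainComplex.ofHom (X := X) (Y := Cx J)
    (fun n => biprod.lift (ι n) (X.d n (n + 1) ≫ ι (n + 1)))
    (fun n => by
      rw [Cx_d]
      apply biprod.hom_ext <;> simp)

lemma iota_f (n : ℤ) :
    (iota X J ι).f n = biprod.lift (ι n) (X.d n (n + 1) ≫ ι (n + 1)) := rfl

lemma mono_iota_f [∀ n, Mono (ι n)] (n : ℤ) : Mono ((iota X J ι).f n) := by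
  have h : (iota X J ι).f n ≫ biprod.fst = ι n := by rw [iota_f]; simp
  exact mono_of_mono_fac h

lemma mono_iota [∀ n, Mono (ι n)] : Mono (iota X J ι) :=
  HomologicalComplex.mono_of_mono_f _ (fun n => mono_iota_f X J ι n)

end Cx

/-! ### Closure properties of the class -/

section P

variable (P : ObjectProperty A)
  (h1 : ∀ X : A, ∃ (Y : A) (i : X ⟶ Y), P Y ∧ Mono i)
  (h2 : ∀ S : ShortComplex A, S.ShortExact → P S.X₁ → (P S.X₂ ↔ P S.X₃))

include h1 h2 in
lemma P_of_isZero {Z : A} (hZ : IsZero Z) : P Z := by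
  obtain ⟨Y, i, hY, _⟩ := h1 Z
  have hS : (ShortComplex.mk (𝟙 Y) (0 : Y ⟶ Z) (by simp)).ShortExact :=
    { exact := by
        rw [ShortComplex.exact_iff_epi _ rfl]
        dsimp only
        infer_instance
      mono_f := by dsimp only; infer_instance
      epi_g := ⟨fun a b _ => hZ.eq_of_src a b⟩ }
  exact (h2 _ hS hY).1 hY

include h1 h2 in
lemma P_of_iso {Y Z : A} (e : Y ≅ Z) (hY : P Y) : P Z := by
  have hS : (ShortComplex.mk (0 : (0 : A) ⟶ Y) e.hom (by simp)).ShortExact :=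
    { exact := by
        rw [ShortComplex.exact_iff_mono _ rfl]
        dsimp only
        infer_instance
      mono_f := ⟨fun a b _ => (isZero_zero A).eq_of_tgt a b⟩
      epi_g := by dsimp only; infer_instance }
  exact (h2 _ hS (P_of_isZero P h1 h2 (isZero_zero A))).1 hY

include h2 in
lemma P_biprod {Y Z : A} (hY : P Y) (hZ : P Z) : P (Y ⊞ Z) :=
  (h2 _ (ShortComplex.Splitting.ofHasBinaryBiproduct Y Z).shortExact hY).2 hZ

/-- `M` has `P`-coresolution dimension at most `k`: in every exact sequence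
`0 ⟶ M ⟶ K⁰ ⟶ ⋯ ⟶ Kᵏ ⟶ 0` with `K⁰, …, Kᵏ⁻¹` in `P`, the object `Kᵏ` is in `P`. -/
def DimLE (k : ℕ) (M : A) : Prop :=
  ∀ (K : CochainComplex A ℕ) (ι : M ⟶ K.X 0) (w : ι ≫ K.d 0 1 = 0), Mono ι →
    (ShortComplex.mk ι (K.d 0 1) w).Exact →
    (∀ i : ℕ, 1 ≤ i → i ≤ k → K.ExactAt i) → (∀ i : ℕ, k < i → IsZero (K.X i)) →
    (∀ i : ℕ, i < k → P (K.X i)) → P (K.X k)

lemma dimLE_of_h3 (n : ℕ) (hn : 1 ≤ n)
    (h3 : ∀ K : CochainComplex A ℕ, (∀ i : ℕ, 1 ≤ i → i ≤ n → K.ExactAt i) →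
      (∀ i : ℕ, n < i → IsZero (K.X i)) →
      Epi (K.d (n - 1) n) → (∀ i : ℕ, i < n → P (K.X i)) → P (K.X n)) (M : A) :
    DimLE P n M := by
  intro K ι w _ _ hex hz hP
  refine h3 K hex hz ?_ hP
  obtain ⟨m, rfl⟩ : ∃ m, n = m + 1 := ⟨n - 1, by omega⟩
  have h := hex (m + 1) (by omega) le_rfl
  rw [HomologicalComplex.exactAt_iff' _ m (m + 1) (m + 1 + 1) (by simp) (by simp)] at h
  have h0 : (K.sc' m (m + 1) (m + 1 + 1)).g = 0 := (hz (m + 1 + 1) (by omega)).eq_of_tgt _ _
  exact h.epi_f h0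

lemma P_of_dimLE_zero {M : A} (h : DimLE P 0 M) : P M := by
  let K : CochainComplex A ℕ := (CochainComplex.single₀ A).obj M
  have hd : K.d 0 1 = 0 := HomologicalComplex.single_obj_d _ _ _ _ _
  let ι : M ⟶ K.X 0 := 𝟙 M
  have hι : Mono ι := by
    change Mono (𝟙 M)
    infer_instance
  have hι' : Epi ι := by
    change Epi (𝟙 M)
    infer_instance
  have w : ι ≫ K.d 0 1 = 0 := by rw [hd, comp_zero]
  have := h K ι w hι
    (by
      rw [ShortComplex.exact_iff_epi _ hd]
      exact hι')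
    (fun i hi hi' => by omega)
    (fun i hi => HomologicalComplex.isZero_single_obj_X _ _ _ _ (by omega))
    (fun i hi => by omega)
  exact this

lemma dimLE_step {k : ℕ} (S : ShortComplex A) (hS : S.ShortExact) (h : DimLE P (k + 1) S.X₁)
    (hP₂ : P S.X₂) : DimLE P k S.X₃ := by
  intro K ι w hι hex₀ hex hz hP
  haveI := hι
  haveI := hS.mono_f
  haveI := hS.epi_g
  have w' : (S.g ≫ ι) ≫ K.d 0 1 = 0 := by rw [Category.assoc, w, comp_zero]
  let K' : CochainComplex A ℕ := K.augment (S.g ≫ ι) w'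
  have w'' : S.f ≫ K'.d 0 1 = 0 := by
    change S.f ≫ S.g ≫ ι = 0
    rw [S.zero_assoc, zero_comp]
  have e1 : (ShortComplex.mk S.f (K'.d 0 1) w'').Exact := by
    change (ShortComplex.mk S.f (S.g ≫ ι) _).Exact
    let φ : S ⟶ ShortComplex.mk S.f (S.g ≫ ι) (by rw [S.zero_assoc, zero_comp]) :=
      { τ₁ := 𝟙 _, τ₂ := 𝟙 _, τ₃ := ι }
    exact (ShortComplex.exact_iff_of_epi_of_isIso_of_mono φ).1 hS.exact
  have e2 : K'.ExactAt 1 := by
    rw [HomologicalComplex.exactAt_iff' _ 0 1 2 (by simp) (by simp)]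
    change (ShortComplex.mk (S.g ≫ ι) (K.d 0 1) w').Exact
    let φ : ShortComplex.mk (S.g ≫ ι) (K.d 0 1) w' ⟶ ShortComplex.mk ι (K.d 0 1) w :=
      { τ₁ := S.g, τ₂ := 𝟙 _, τ₃ := 𝟙 _ }
    exact (ShortComplex.exact_iff_of_epi_of_isIso_of_mono φ).2 hex₀
  have := h K' S.f w'' hS.mono_f e1
    (by
      intro i hi hi'
      obtain ⟨j, rfl⟩ : ∃ j, i = j + 1 := ⟨i - 1, by omega⟩
      rcases Nat.eq_zero_or_pos j with rfl | hj
      · exact e2
      · obtain ⟨l, rfl⟩ : ∃ l, j = l + 1 := ⟨j - 1, by omega⟩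
        have := hex (l + 1) (by omega) (by omega)
        rw [HomologicalComplex.exactAt_iff' _ l (l + 1) (l + 1 + 1) (by simp) (by simp)] at this
        rw [HomologicalComplex.exactAt_iff' _ (l + 1) (l + 1 + 1) (l + 1 + 1 + 1)
          (by simp) (by simp)]
        exact this)
    (by
      intro i hi
      obtain ⟨j, rfl⟩ : ∃ j, i = j + 1 := ⟨i - 1, by omega⟩
      exact hz j (by omega))
    (by
      intro i hi
      rcases Nat.eq_zero_or_pos i with rfl | hi0
      · exact hP₂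
      · obtain ⟨j, rfl⟩ : ∃ j, i = j + 1 := ⟨i - 1, by omega⟩
        exact hP j (by omega))
  exact this

end P

/-! ### The main theorem -/

section main

variable (P : ObjectProperty A)
  (h1 : ∀ X : A, ∃ (Y : A) (i : X ⟶ Y), P Y ∧ Mono i)
  (h2 : ∀ S : ShortComplex A, S.ShortExact → P S.X₁ → (P S.X₂ ↔ P S.X₃))

include h1 h2 in
theorem exists_of_dimLE (k : ℕ) : ∀ (X : CochainComplex A ℤ), (∀ p, DimLE P k (X.X p)) →
    ∃ (T : CochainComplex A ℤ) (f : X ⟶ T), QuasiIso f ∧ ∀ p, P (T.X p) := by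
  induction k with
  | zero =>
    intro X hX
    exact ⟨X, 𝟙 X, inferInstance, fun p => P_of_dimLE_zero P (hX p)⟩
  | succ k ih =>
    intro X hX
    let Y : CochainComplex A ℤ := X⟦(-1 : ℤ)⟧
    have hY : ∀ p, DimLE P (k + 1) (Y.X p) := fun p => hX (p + -1)
    choose J ι hJ hι using fun p => h1 (Y.X p)
    haveI : ∀ n, Mono (ι n) := hι
    let i : Y ⟶ Cx J := iota Y J ι
    haveI : Mono i := mono_iota Y J ι
    let S : ShortComplex (CochainComplex A ℤ) :=
      ShortComplex.mk i (cokernel.π i) (cokernel.condition i)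
    have hS : S.ShortExact :=
      { exact := ShortComplex.exact_cokernel i
        mono_f := ‹Mono i›
        epi_g := by dsimp only [S]; infer_instance }
    have hQ : ∀ p, DimLE P k (S.X₃.X p) := fun p =>
      dimLE_step P (S.map (HomologicalComplex.eval A (ComplexShape.up ℤ) p))
        (hS.map_of_exact _) (hY p) (P_biprod P h2 (hJ p) (hJ (p + 1)))
    obtain ⟨T, g, hg, hT⟩ := ih S.X₃ hQ
    haveI := hg
    haveI := quasiIso_jj S g hS
    refine ⟨mappingCone (S.g ≫ g), (shiftNegShift X (1 : ℤ)).inv ≫ jj S g, inferInstance, ?_⟩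
    intro p
    exact P_of_iso P h1 h2
      (HomologicalComplex.homotopyCofiber.XIsoBiprod (S.g ≫ g) p (p + 1) rfl).symm
      (P_biprod P h2 (P_biprod P h2 (hJ (p + 1)) (hJ (p + 1 + 1))) (hT p))

include h1 h2 in
theorem main (n : ℕ) (hn : 1 ≤ n)
    (h3 : ∀ K : CochainComplex A ℕ, (∀ i : ℕ, 1 ≤ i → i ≤ n → K.ExactAt i) →
      (∀ i : ℕ, n < i → IsZero (K.X i)) →
      Epi (K.d (n - 1) n) → (∀ i : ℕ, i < n → P (K.X i)) → P (K.X n))
    (X : CochainComplex A ℤ) :
    ∃ (I : CochainComplex A ℤ) (f : X ⟶ I), QuasiIso f ∧ ∀ k : ℤ, P (I.X k) :=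
  exists_of_dimLE P h1 h2 n X (fun p => dimLE_of_h3 P n hn h3 (X.X p))

end main

/-! ### An inductive variant of the dimension (appended) -/

section indVariant

variable (P : ObjectProperty A)

/-- Inductive variant: `M` has `P`-coresolution dimension at most `k`. -/
def DimLE' : ℕ → A → Prop
  | 0 => fun M => P M
  | k + 1 => fun M => ∀ (S : ShortComplex A) (_ : M ≅ S.X₁), S.ShortExact → P S.X₂ →
      DimLE' k S.X₃

variable (h1 : ∀ X : A, ∃ (Y : A) (i : X ⟶ Y), P Y ∧ Mono i)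
  (h2 : ∀ S : ShortComplex A, S.ShortExact → P S.X₁ → (P S.X₂ ↔ P S.X₃))

include h1 h2 in
theorem exists_of_dimLE' (k : ℕ) : ∀ (X : CochainComplex A ℤ), (∀ p, DimLE' P k (X.X p)) →
    ∃ (T : CochainComplex A ℤ) (f : X ⟶ T), QuasiIso f ∧ ∀ p, P (T.X p) := by
  induction k with
  | zero =>
    intro X hX
    exact ⟨X, 𝟙 X, inferInstance, fun p => hX p⟩
  | succ k ih =>
    intro X hX
    let Y : CochainComplex A ℤ := X⟦(-1 : ℤ)⟧
    have hY : ∀ p, DimLE' P (k + 1) (Y.X p) := fun p => hX (p + -1)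
    choose J ι hJ hι using fun p => h1 (Y.X p)
    haveI : ∀ n, Mono (ι n) := hι
    let i : Y ⟶ Cx J := iota Y J ι
    haveI : Mono i := mono_iota Y J ι
    let S : ShortComplex (CochainComplex A ℤ) :=
      ShortComplex.mk i (cokernel.π i) (cokernel.condition i)
    have hS : S.ShortExact :=
      { exact := ShortComplex.exact_cokernel i
        mono_f := ‹Mono i›
        epi_g := by dsimp only [S]; infer_instance }
    have hQ : ∀ p, DimLE' P k (S.X₃.X p) := fun p =>
      hY p (S.map (HomologicalComplex.eval A (ComplexShape.up ℤ) p)) (Iso.refl _)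
        (hS.map_of_exact _) (P_biprod P h2 (hJ p) (hJ (p + 1)))
    obtain ⟨T, g, hg, hT⟩ := ih S.X₃ hQ
    haveI := hg
    haveI := quasiIso_jj S g hS
    refine ⟨mappingCone (S.g ≫ g), (shiftNegShift X (1 : ℤ)).inv ≫ jj S g, inferInstance, ?_⟩
    intro p
    exact P_of_iso P h1 h2
      (HomologicalComplex.homotopyCofiber.XIsoBiprod (S.g ≫ g) p (p + 1) rfl).symm
      (P_biprod P h2 (P_biprod P h2 (hJ (p + 1)) (hJ (p + 1 + 1))) (hT p))

end indVariant

end Groth.Agent.Lib.FinDimRes
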