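import Mathlib
import Groth.Prelude.Def_RDerDelta

/-!
# Morphisms between injective resolutions of short exact sequences (helper9)

Given `φ : S ⟶ S'` and `T : RDer.SESRes S`, `T' : RDer.SESRes S'`, there is a morphism of short
complexes of complexes `T.cx ⟶ T'.cx` lying over `φ.τ₁` and `φ.τ₃`.  It is obtained by regarding
`T`, `T'` as injective resolutions in the abelian category `ShortComplex C`.
Consequences: naturality of `SESRes.delta` and its independence of the resolution.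
-/

namespace Groth.Agent.Lib.SESResLift

open CategoryTheory CategoryTheory.Limits

universe v u v' u'

section General

variable {C : Type u} [Category.{v} C] [Abelian C]

lemma isZero_of_components (Z : ShortComplex C) (h₁ : IsZero Z.X₁) (h₂ : IsZero Z.X₂)
    (h₃ : IsZero Z.X₃) : IsZero Z := by
  rw [IsZero.iff_id_eq_zero]
  ext
  · exact h₁.eq_of_src _ _
  · exact h₂.eq_of_src _ _
  · exact h₃.eq_of_src _ _

lemma exact_of_components (Sg : ShortComplex (ShortComplex C))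
    (h₁ : (Sg.map ShortComplex.π₁).Exact) (h₂ : (Sg.map ShortComplex.π₂).Exact)
    (h₃ : (Sg.map ShortComplex.π₃).Exact) : Sg.Exact := by
  rw [ShortComplex.exact_iff_isZero_homology] at h₁ h₂ h₃ ⊢
  exact isZero_of_components _
    (IsZero.of_iso h₁ (Sg.mapHomologyIso ShortComplex.π₁).symm)
    (IsZero.of_iso h₂ (Sg.mapHomologyIso ShortComplex.π₂).symm)
    (IsZero.of_iso h₃ (Sg.mapHomologyIso ShortComplex.π₃).symm)

lemma mono_of_components {A B : ShortComplex C} (φ : A ⟶ B) (h₁ : Mono φ.τ₁) (h₂ : Mono φ.τ₂)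
    (h₃ : Mono φ.τ₃) : Mono φ := by
  constructor
  intro Z a b h
  ext
  · rw [← cancel_mono φ.τ₁]; exact congrArg ShortComplex.Hom.τ₁ h
  · rw [← cancel_mono φ.τ₂]; exact congrArg ShortComplex.Hom.τ₂ h
  · rw [← cancel_mono φ.τ₃]; exact congrArg ShortComplex.Hom.τ₃ h

/-- A split short complex with injective ends is an injective object of `ShortComplex C`. -/
lemma injective_of_splitting (Z : ShortComplex C) (σ : Z.Splitting) [Injective Z.X₁]
    [Injective Z.X₃] : Injective Z := by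
  constructor
  intro A B a i _
  haveI : Mono i.τ₂ := inferInstanceAs (Mono (ShortComplex.π₂.map i))
  haveI : Mono i.τ₃ := inferInstanceAs (Mono (ShortComplex.π₃.map i))
  let b₃ : B.X₃ ⟶ Z.X₃ := Injective.factorThru a.τ₃ i.τ₃
  let β : B.X₂ ⟶ Z.X₁ := Injective.factorThru (a.τ₂ ≫ σ.r) i.τ₂
  have hb₃ : i.τ₃ ≫ b₃ = a.τ₃ := Injective.comp_factorThru _ _
  have hβ : i.τ₂ ≫ β = a.τ₂ ≫ σ.r := Injective.comp_factorThru _ _
  refine ⟨ShortComplex.homMk (B.f ≫ β) (β ≫ Z.f + B.g ≫ b₃ ≫ σ.s) b₃ ?_ ?_, ?_⟩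
  · rw [Preadditive.comp_add, ← Category.assoc B.f B.g, B.zero, zero_comp, add_zero,
      Category.assoc]
  · rw [Preadditive.add_comp, Category.assoc, Z.zero, comp_zero, zero_add, Category.assoc,
      Category.assoc, σ.s_g, Category.comp_id]
  · ext
    · show i.τ₁ ≫ B.f ≫ β = a.τ₁
      rw [← Category.assoc, i.comm₁₂, Category.assoc, hβ, ← Category.assoc, ← a.comm₁₂,
        Category.assoc, σ.f_r, Category.comp_id]
    · show i.τ₂ ≫ (β ≫ Z.f + B.g ≫ b₃ ≫ σ.s) = a.τ₂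
      rw [Preadditive.comp_add, ← Category.assoc, hβ, ← Category.assoc i.τ₂ B.g, i.comm₂₃,
        Category.assoc, Category.assoc, ← Category.assoc i.τ₃, hb₃, ← Category.assoc A.g,
        ← a.comm₂₃, Category.assoc, ← Preadditive.comp_add, σ.id,
        Category.comp_id]
    · exact hb₃

/-- Extension of a morphism to a chain map from an exact augmented complex to a complex of
injectives. -/
theorem exists_desc {ℬ : Type*} [Category ℬ] [Abelian ℬ] (J I : CochainComplex ℬ ℕ) {Z Y : ℬ}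
    (aug : Z ⟶ J.X 0) [Mono aug] (w : aug ≫ J.d 0 1 = 0)
    (h0 : (ShortComplex.mk aug (J.d 0 1) w).Exact)
    (hs : ∀ n, (ShortComplex.mk (J.d n (n + 1)) (J.d (n + 1) (n + 2))
      (J.d_comp_d _ _ _)).Exact)
    (hI : ∀ n, Injective (I.X n)) (aug' : Y ⟶ I.X 0) (w' : aug' ≫ I.d 0 1 = 0) (f : Z ⟶ Y) :
    ∃ φ : J ⟶ I, aug ≫ φ.f 0 = f ≫ aug' := by
  let z : J.X 0 ⟶ I.X 0 := Injective.factorThru (f ≫ aug') aug
  have hz : aug ≫ z = f ≫ aug' := Injective.comp_factorThru _ _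
  have h1 : aug ≫ (z ≫ I.d 0 1) = 0 := by
    rw [← Category.assoc, hz, Category.assoc, w', comp_zero]
  let o : J.X 1 ⟶ I.X 1 := h0.descToInjective (z ≫ I.d 0 1) h1
  have ho : J.d 0 1 ≫ o = z ≫ I.d 0 1 := h0.comp_descToInjective _ _
  refine ⟨CochainComplex.mkHom J I z o ho.symm (fun n p => ?_), ?_⟩
  · obtain ⟨g, g', wg⟩ := p
    have h2 : J.d n (n + 1) ≫ (g' ≫ I.d (n + 1) (n + 2)) = 0 := by
      rw [← Category.assoc, ← wg, Category.assoc, I.d_comp_d, comp_zero]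
    exact ⟨(hs n).descToInjective (g' ≫ I.d (n + 1) (n + 2)) h2,
      ((hs n).comp_descToInjective _ _).symm⟩
  · rw [CochainComplex.mkHom_f_0]; exact hz

lemma conj_aux {D : Type*} [Category D] {A A' B B' H3 H3' H1 H1' : D} (r3 : A ⟶ A')
    (i3 : A ≅ H3) (i3' : A' ≅ H3') (h3 : H3 ⟶ H3') (d : H3 ⟶ H1) (d' : H3' ⟶ H1')
    (h1 : H1 ⟶ H1') (i1 : B ≅ H1) (i1' : B' ≅ H1') (r1 : B ⟶ B')
    (N3 : r3 ≫ i3'.hom = i3.hom ≫ h3) (N1 : r1 ≫ i1'.hom = i1.hom ≫ h1)
    (Dn : d ≫ h1 = h3 ≫ d') :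
    r3 ≫ (i3'.hom ≫ d' ≫ i1'.inv) = (i3.hom ≫ d ≫ i1.inv) ≫ r1 := by
  have N1' : h1 ≫ i1'.inv = i1.inv ≫ r1 := by
    rw [Iso.comp_inv_eq, Category.assoc, N1, Iso.inv_hom_id_assoc]
  simp only [Category.assoc]
  rw [reassoc_of% N3, ← reassoc_of% Dn, N1']

end General

section SESRes

open RDer

variable {C : Type u} [Category.{v} C] [Abelian C] {S S' : ShortComplex C}

/-- The resolution `T`, as a cochain complex in `ShortComplex C`. -/
noncomputable def K (T : SESRes S) : CochainComplex (ShortComplex C) ℕ where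
  X n := T.cx.map (HomologicalComplex.eval C _ n)
  d n m := ShortComplex.homMk (T.I₁.cocomplex.d n m) (T.I₂.cocomplex.d n m)
    (T.I₃.cocomplex.d n m) (T.f.comm n m).symm (T.g.comm n m).symm
  shape n m h := by
    ext
    · exact T.I₁.cocomplex.shape n m h
    · exact T.I₂.cocomplex.shape n m h
    · exact T.I₃.cocomplex.shape n m h
  d_comp_d' n m k _ _ := by
    ext
    · exact T.I₁.cocomplex.d_comp_d n m k
    · exact T.I₂.cocomplex.d_comp_d n m k
    · exact T.I₃.cocomplex.d_comp_d n m k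

lemma ι_f_zero (T : SESRes S) : T.I₁.ι.f 0 ≫ T.f.f 0 = S.f ≫ T.I₂.ι.f 0 :=
  (HomologicalComplex.congr_hom T.ι_f 0).trans (by simp)

lemma ι_g_zero (T : SESRes S) : T.I₂.ι.f 0 ≫ T.g.f 0 = S.g ≫ T.I₃.ι.f 0 :=
  (HomologicalComplex.congr_hom T.ι_g 0).trans (by simp)

/-- The augmentation `S ⟶ K⁰`. -/
noncomputable def aug (T : SESRes S) : S ⟶ (K T).X 0 :=
  ShortComplex.homMk (T.I₁.ι.f 0) (T.I₂.ι.f 0) (T.I₃.ι.f 0) (ι_f_zero T) (ι_g_zero T)

lemma aug_d (T : SESRes S) : aug T ≫ (K T).d 0 1 = 0 := by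
  ext
  · exact T.I₁.ι_f_zero_comp_complex_d
  · exact T.I₂.ι_f_zero_comp_complex_d
  · exact T.I₃.ι_f_zero_comp_complex_d

instance (T : SESRes S) : Mono (aug T) :=
  mono_of_components _ (inferInstanceAs (Mono (T.I₁.ι.f 0)))
    (inferInstanceAs (Mono (T.I₂.ι.f 0))) (inferInstanceAs (Mono (T.I₃.ι.f 0)))

lemma exact₀ (T : SESRes S) : (ShortComplex.mk (aug T) ((K T).d 0 1) (aug_d T)).Exact :=
  exact_of_components _ T.I₁.exact₀ T.I₂.exact₀ T.I₃.exact₀

lemma exact_succ (T : SESRes S) (n : ℕ) :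
    (ShortComplex.mk ((K T).d n (n + 1)) ((K T).d (n + 1) (n + 2))
      ((K T).d_comp_d _ _ _)).Exact :=
  exact_of_components _ (T.I₁.exact_succ n) (T.I₂.exact_succ n) (T.I₃.exact_succ n)

lemma injective_K (T : SESRes S) (n : ℕ) : Injective ((K T).X n) := by
  exact @injective_of_splitting C _ _ _ (T.splitting n) (T.I₁.injective n) (T.I₃.injective n)

/-- From a chain map in `ShortComplex C` to a morphism of short complexes of complexes. -/
noncomputable def ofK {T : SESRes S} {T' : SESRes S'} (Ψ : K T ⟶ K T') : T.cx ⟶ T'.cx :=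
  ShortComplex.homMk
    { f := fun n => (Ψ.f n).τ₁
      comm' := fun n m _ => congrArg ShortComplex.Hom.τ₁ (Ψ.comm n m) }
    { f := fun n => (Ψ.f n).τ₂
      comm' := fun n m _ => congrArg ShortComplex.Hom.τ₂ (Ψ.comm n m) }
    { f := fun n => (Ψ.f n).τ₃
      comm' := fun n m _ => congrArg ShortComplex.Hom.τ₃ (Ψ.comm n m) }
    (by ext n; exact (Ψ.f n).comm₁₂)
    (by ext n; exact (Ψ.f n).comm₂₃)

/-- A morphism of short complexes lifts to a morphism between resolutions. -/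
theorem exists_lift (φ : S ⟶ S') (T : SESRes S) (T' : SESRes S') :
    ∃ Φ : T.cx ⟶ T'.cx, T.I₁.ι.f 0 ≫ Φ.τ₁.f 0 = φ.τ₁ ≫ T'.I₁.ι.f 0 ∧
      T.I₂.ι.f 0 ≫ Φ.τ₂.f 0 = φ.τ₂ ≫ T'.I₂.ι.f 0 ∧
      T.I₃.ι.f 0 ≫ Φ.τ₃.f 0 = φ.τ₃ ≫ T'.I₃.ι.f 0 := by
  obtain ⟨Ψ, hΨ⟩ := exists_desc (K T) (K T') (aug T) (aug_d T) (exact₀ T) (exact_succ T)
    (injective_K T') (aug T') (aug_d T') φ
  exact ⟨ofK Ψ, congrArg ShortComplex.Hom.τ₁ hΨ, congrArg ShortComplex.Hom.τ₂ hΨ,
    congrArg ShortComplex.Hom.τ₃ hΨ⟩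

variable [HasInjectiveResolutions C] {D : Type u'} [Category.{v'} D] [Abelian D]

/-- Naturality of the connecting morphisms computed from resolutions. -/
theorem delta_naturality (φ : S ⟶ S') (T : SESRes S) (T' : SESRes S') (F : C ⥤ D) [F.Additive]
    (n₀ n₁ : ℕ) (h : n₀ + 1 = n₁) :
    (F.rightDerived n₀).map φ.τ₃ ≫ T'.delta F n₀ n₁ h =
      T.delta F n₀ n₁ h ≫ (F.rightDerived n₁).map φ.τ₁ := by
  obtain ⟨Φ, h₁, -, h₃⟩ := exists_lift φ T T'
  have N3 := InjectiveResolution.isoRightDerivedObj_hom_naturality φ.τ₃ T.I₃ T'.I₃ Φ.τ₃ h₃ F n₀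
  have N1 := InjectiveResolution.isoRightDerivedObj_hom_naturality φ.τ₁ T.I₁ T'.I₁ Φ.τ₁ h₁ F n₁
  have Dn := HomologicalComplex.HomologySequence.δ_naturality
    ((F.mapHomologicalComplex (ComplexShape.up ℕ)).mapShortComplex.map Φ)
    (T.map_shortExact F) (T'.map_shortExact F) n₀ n₁ h
  exact conj_aux _ _ _ _ _ _ _ _ _ _ N3 N1 Dn

/-- The connecting morphism does not depend on the resolution. -/
theorem delta_indep (T T' : SESRes S) (F : C ⥤ D) [F.Additive] (n₀ n₁ : ℕ) (h : n₀ + 1 = n₁) :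
    T.delta F n₀ n₁ h = T'.delta F n₀ n₁ h := by
  have := delta_naturality (𝟙 S) T T' F n₀ n₁ h
  simp only [ShortComplex.id_τ₃, ShortComplex.id_τ₁, CategoryTheory.Functor.map_id,
    Category.id_comp, Category.comp_id] at this
  exact this.symm

end SESRes

end Groth.Agent.Lib.SESResLift
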