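import Mathlib
import Groth.Prelude.Def_RDerDelta
import Groth.Agent.Lib.SESResLift_helper9

/-!
# The horseshoe lemma for injective resolutions of objects and the long exact sequence of right
derived functors (helper9)

For a short exact sequence `S` in an abelian category with enough injectives we construct
`sesRes S hS : RDer.SESRes S`, by iterating the embedding of a short exact sequence into the split
short exact sequence `J₂ ⟶ J₂ ⊞ J₃ ⟶ J₃` (`J₂`, `J₃` injective hulls of `S.X₂`, `S.X₃`), inside the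
abelian category `ShortComplex C`.  Then we construct `RDer.DerivedLES F`.
-/

namespace Groth.Agent.Lib.Horseshoe0

open CategoryTheory CategoryTheory.Limits

universe v u v' u'

section General

variable {ℬ : Type*} [Category ℬ] [Abelian ℬ]

lemma exact_comp_mono {B E B' E' : ℬ} (m : B ⟶ E) (p : E ⟶ B') (w : m ≫ p = 0)
    (h : (ShortComplex.mk m p w).Exact) (m' : B' ⟶ E') [Mono m'] :
    (ShortComplex.mk m (p ≫ m') (by rw [← Category.assoc, w, zero_comp])).Exact := by
  let φ : ShortComplex.mk m p w ⟶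
      ShortComplex.mk m (p ≫ m') (by rw [← Category.assoc, w, zero_comp]) :=
    ShortComplex.homMk (𝟙 _) (𝟙 _) m' (by simp) (by simp)
  haveI : Epi φ.τ₁ := inferInstanceAs (Epi (𝟙 B))
  haveI : IsIso φ.τ₂ := inferInstanceAs (IsIso (𝟙 E))
  haveI : Mono φ.τ₃ := inferInstanceAs (Mono m')
  exact (ShortComplex.exact_iff_of_epi_of_isIso_of_mono φ).1 h

lemma exact_epi_comp {A B E B' : ℬ} (e : A ⟶ B) [Epi e] (m : B ⟶ E) (p : E ⟶ B') (w : m ≫ p = 0)
    (h : (ShortComplex.mk m p w).Exact) :
    (ShortComplex.mk (e ≫ m) p (by rw [Category.assoc, w, comp_zero])).Exact := by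
  let ψ : ShortComplex.mk (e ≫ m) p (by rw [Category.assoc, w, comp_zero]) ⟶
      ShortComplex.mk m p w :=
    ShortComplex.homMk e (𝟙 _) (𝟙 _) (by simp) (by simp)
  haveI : Epi ψ.τ₁ := inferInstanceAs (Epi e)
  haveI : IsIso ψ.τ₂ := inferInstanceAs (IsIso (𝟙 E))
  haveI : Mono ψ.τ₃ := inferInstanceAs (Mono (𝟙 B'))
  exact (ShortComplex.exact_iff_of_epi_of_isIso_of_mono ψ).2 h

lemma exact_splice {A B E B' E' : ℬ} (e : A ⟶ B) [Epi e] (m : B ⟶ E) (p : E ⟶ B')
    (w : m ≫ p = 0) (h : (ShortComplex.mk m p w).Exact) (m' : B' ⟶ E') [Mono m'] :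
    (ShortComplex.mk (e ≫ m) (p ≫ m')
      (by rw [Category.assoc, ← Category.assoc m, w, zero_comp, comp_zero])).Exact :=
  exact_epi_comp e m (p ≫ m') _ (exact_comp_mono m p w h m')

lemma exact_congr {X₁ X₂ X₃ : ℬ} {f f' : X₁ ⟶ X₂} {g g' : X₂ ⟶ X₃} (hf : f = f') (hg : g = g')
    (w : f ≫ g = 0) (w' : f' ≫ g' = 0) (h : (ShortComplex.mk f' g' w').Exact) :
    (ShortComplex.mk f g w).Exact := by
  subst hf hg
  exact h

lemma exact_transport {X₁ X₂ X₃ Y₁ Y₂ Y₃ : ℬ}
    (a : X₁ ⟶ X₂) (b : X₂ ⟶ X₃) (a' : Y₁ ⟶ Y₂) (b' : Y₂ ⟶ Y₃)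
    (e₁ : X₁ ≅ Y₁) (e₂ : X₂ ≅ Y₂) (e₃ : X₃ ≅ Y₃)
    (c₁ : a ≫ e₂.hom = e₁.hom ≫ a') (c₂ : b ≫ e₃.hom = e₂.hom ≫ b')
    (w' : a' ≫ b' = 0) (h : (ShortComplex.mk a' b' w').Exact) :
    ∃ w : a ≫ b = 0, (ShortComplex.mk a b w).Exact := by
  have w : a ≫ b = 0 := by
    rw [← cancel_mono e₃.hom, Category.assoc, c₂, ← Category.assoc, c₁, Category.assoc, w',
      comp_zero, zero_comp]
  refine ⟨w, ?_⟩
  exact ShortComplex.exact_of_iso
    (ShortComplex.isoMk (S₁ := ShortComplex.mk a b w) (S₂ := ShortComplex.mk a' b' w')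
      e₁ e₂ e₃ c₁.symm c₂.symm).symm h

end General

variable {C : Type u} [Category.{v} C] [Abelian C]

/-- The `3 × 3` lemma: the cokernel of a morphism of short exact sequences which is a monomorphism
on the third terms is short exact. -/
theorem shortExact_cokernel {S J : ShortComplex C} (η : S ⟶ J) (hS : S.ShortExact)
    (hJ : J.ShortExact) (h₃ : Mono η.τ₃) : (cokernel η).ShortExact := by
  haveI := hS.epi_g
  haveI := hJ.mono_f
  haveI := hJ.epi_g
  let I : ShortComplex.SnakeInput C :=
    { L₀ := kernel η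
      L₁ := S
      L₂ := J
      L₃ := cokernel η
      v₀₁ := kernel.ι η
      v₁₂ := η
      v₂₃ := cokernel.π η
      w₀₂ := kernel.condition η
      w₁₃ := cokernel.condition η
      h₀ := kernelIsKernel η
      h₃ := cokernelIsCokernel η
      L₁_exact := hS.exact
      epi_L₁_g := hS.epi_g
      L₂_exact := hJ.exact
      mono_L₂_f := hJ.mono_f }
  have hz : IsZero I.L₀.X₃ := by
    have h1 : I.v₀₁.τ₃ ≫ η.τ₃ = 0 := I.w₀₂_τ₃
    have h2 : I.v₀₁.τ₃ = 0 := by rw [← cancel_mono η.τ₃, h1, zero_comp]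
    haveI : Mono I.v₀₁.τ₃ := I.mono_v₀₁_τ₃
    exact IsZero.of_mono_eq_zero _ h2
  have hδ : I.δ = 0 := hz.eq_of_src _ _
  have hm : Mono I.L₃.f := I.L₂'_exact.mono_g hδ
  have he : Epi I.L₃.g := @ShortComplex.SnakeInput.epi_L₃_g _ _ _ I hJ.epi_g
  exact { exact := I.L₃_exact, mono_f := hm, epi_g := he }

variable [EnoughInjectives C]

/-- The split short exact sequence of injectives `J₂ ⟶ J₂ ⊞ J₃ ⟶ J₃`. -/
noncomputable def hull (S : ShortComplex C) : ShortComplex C :=
  ShortComplex.mk
    (biprod.inl : Injective.under S.X₂ ⟶ Injective.under S.X₂ ⊞ Injective.under S.X₃)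
    biprod.snd biprod.inl_snd

noncomputable def hullSplitting (S : ShortComplex C) : (hull S).Splitting where
  r := biprod.fst
  s := biprod.inr
  f_r := biprod.inl_fst
  s_g := biprod.inr_snd
  id := biprod.total

noncomputable def toHull (S : ShortComplex C) : S ⟶ hull S :=
  ShortComplex.homMk (S.f ≫ Injective.ι S.X₂)
    (biprod.lift (Injective.ι S.X₂) (S.g ≫ Injective.ι S.X₃)) (Injective.ι S.X₃)
    (by apply biprod.hom_ext <;> simp [hull])
    (by simp [hull])

lemma mono_toHull_τ₃ (S : ShortComplex C) : Mono (toHull S).τ₃ :=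
  inferInstanceAs (Mono (Injective.ι S.X₃))

lemma mono_toHull_τ₂ (S : ShortComplex C) : Mono (toHull S).τ₂ := by
  haveI : Mono (biprod.lift (Injective.ι S.X₂) (S.g ≫ Injective.ι S.X₃) ≫ biprod.fst) := by
    rw [biprod.lift_fst]; infer_instance
  exact mono_of_mono (biprod.lift (Injective.ι S.X₂) (S.g ≫ Injective.ι S.X₃)) biprod.fst

lemma mono_toHull_τ₁ (S : ShortComplex C) [Mono S.f] : Mono (toHull S).τ₁ :=
  inferInstanceAs (Mono (S.f ≫ Injective.ι S.X₂))

lemma mono_toHull (S : ShortComplex C) [Mono S.f] : Mono (toHull S) :=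
  SESResLift.mono_of_components _ (mono_toHull_τ₁ S) (mono_toHull_τ₂ S) (mono_toHull_τ₃ S)

/-- The iterated cokernels. -/
noncomputable def seq (S : ShortComplex C) : ℕ → ShortComplex C
  | 0 => S
  | n + 1 => cokernel (toHull (seq S n))

lemma seq_shortExact (S : ShortComplex C) (hS : S.ShortExact) : ∀ n, (seq S n).ShortExact
  | 0 => hS
  | n + 1 => shortExact_cokernel (toHull (seq S n)) (seq_shortExact S hS n)
      (hullSplitting _).shortExact (mono_toHull_τ₃ _)

/-- The projection onto the next short exact sequence. -/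
noncomputable def πseq (S : ShortComplex C) (n : ℕ) : hull (seq S n) ⟶ seq S (n + 1) :=
  cokernel.π (toHull (seq S n))

lemma toHull_πseq (S : ShortComplex C) (n : ℕ) : toHull (seq S n) ≫ πseq S n = 0 :=
  cokernel.condition _

instance (S : ShortComplex C) (n : ℕ) : Epi (πseq S n) :=
  inferInstanceAs (Epi (cokernel.π (toHull (seq S n))))

lemma exact_πseq (S : ShortComplex C) (n : ℕ) :
    (ShortComplex.mk (toHull (seq S n)) (πseq S n) (toHull_πseq S n)).Exact :=
  ShortComplex.exact_cokernel _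

/-- The differentials. -/
noncomputable def D (S : ShortComplex C) (n : ℕ) : hull (seq S n) ⟶ hull (seq S (n + 1)) :=
  πseq S n ≫ toHull (seq S (n + 1))

lemma D_comp_D (S : ShortComplex C) (n : ℕ) : D S n ≫ D S (n + 1) = 0 := by
  unfold D
  rw [Category.assoc, reassoc_of% (toHull_πseq S (n + 1)), zero_comp, comp_zero]

/-- The resolution, as a complex in `ShortComplex C`. -/
noncomputable def KK (S : ShortComplex C) : CochainComplex (ShortComplex C) ℕ :=
  CochainComplex.of (fun n => hull (seq S n)) (D S) (D_comp_D S)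

lemma KK_d (S : ShortComplex C) (n : ℕ) : (KK S).d n (n + 1) = D S n := by
  show CochainComplex.of.d (fun n => hull (seq S n)) (D S) n (n + 1) = D S n
  exact CochainComplex.of_d _ _ n

lemma KK_d' (S : ShortComplex C) (n : ℕ) : (KK S).d (n + 1) (n + 2) = D S (n + 1) := by
  show CochainComplex.of.d (fun n => hull (seq S n)) (D S) (n + 1) (n + 1 + 1) = D S (n + 1)
  exact CochainComplex.of_d _ _ (n + 1)

lemma KK_d01 (S : ShortComplex C) : (KK S).d 0 1 = D S 0 := by
  show CochainComplex.of.d (fun n => hull (seq S n)) (D S) 0 (0 + 1) = D S 0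
  exact CochainComplex.of_d _ _ 0

lemma toHull_D (S : ShortComplex C) : toHull S ≫ D S 0 = 0 := by
  show toHull (seq S 0) ≫ πseq S 0 ≫ toHull (seq S (0 + 1)) = 0
  rw [← Category.assoc, toHull_πseq, zero_comp]

lemma toHull_d (S : ShortComplex C) : toHull S ≫ (KK S).d 0 1 = 0 := by
  rw [KK_d01]
  exact toHull_D S

lemma KK_exact₀ (S : ShortComplex C) (hS : S.ShortExact) :
    (ShortComplex.mk (toHull S) ((KK S).d 0 1) (toHull_d S)).Exact := by
  haveI := (seq_shortExact S hS (0 + 1)).mono_f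
  have h1 : Mono (toHull (seq S (0 + 1))) := mono_toHull _
  have := @exact_comp_mono _ _ _ _ _ _ _ (toHull (seq S 0)) (πseq S 0) (toHull_πseq S 0)
    (exact_πseq S 0) (toHull (seq S (0 + 1))) h1
  exact exact_congr rfl (KK_d01 S) _ _ this

lemma KK_exact_succ (S : ShortComplex C) (hS : S.ShortExact) (n : ℕ) :
    (ShortComplex.mk ((KK S).d n (n + 1)) ((KK S).d (n + 1) (n + 2))
      ((KK S).d_comp_d _ _ _)).Exact := by
  haveI := (seq_shortExact S hS (n + 1 + 1)).mono_f
  have h1 : Mono (toHull (seq S (n + 1 + 1))) := mono_toHull _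
  have := @exact_splice _ _ _ _ _ _ _ _ (πseq S n) inferInstance (toHull (seq S (n + 1)))
    (πseq S (n + 1)) (toHull_πseq S (n + 1)) (exact_πseq S (n + 1))
    (toHull (seq S (n + 1 + 1))) h1
  exact exact_congr (KK_d S n) (KK_d' S n) _ _ this

/-- Constructor for injective resolutions. -/
noncomputable def mkRes (L : CochainComplex C ℕ) (Z : C) (aug : Z ⟶ L.X 0)
    (w : aug ≫ L.d 0 1 = 0) (hinj : ∀ n, Injective (L.X n)) (hmono : Mono aug)
    (h0 : (ShortComplex.mk aug (L.d 0 1) w).Exact)
    (hs : ∀ n, (ShortComplex.mk (L.d n (n + 1)) (L.d (n + 1) (n + 2))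
      (L.d_comp_d _ _ _)).Exact) :
    InjectiveResolution Z where
  cocomplex := L
  injective := hinj
  ι := (CochainComplex.fromSingle₀Equiv L Z).symm ⟨aug, w⟩
  quasiIso := ⟨fun n => by
    cases n with
    | zero =>
      rw [CochainComplex.quasiIsoAt₀_iff,
        ShortComplex.quasiIso_iff_of_zeros _
          (show ((CochainComplex.single₀ C).obj Z).d 0 0 = 0 by simp)
          (show ((CochainComplex.single₀ C).obj Z).d 0 1 = 0 by simp)
          (show L.d 0 0 = 0 from L.shape 0 0 (by simp))]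
      refine (ShortComplex.exact_and_mono_f_iff_of_iso ?_).2 ⟨h0, hmono⟩
      exact ShortComplex.isoMk (Iso.refl _) (Iso.refl _) (Iso.refl _)
        (by simp; erw [Category.id_comp, Category.comp_id])
        (by simp; erw [Category.id_comp, Category.comp_id])
    | succ n =>
      rw [quasiIsoAt_iff_exactAt _ _ (CochainComplex.exactAt_succ_single_obj _ _),
        HomologicalComplex.exactAt_iff' _ n (n + 1) (n + 2) (by simp)
          (by simp only [CochainComplex.next]; rfl)]
      exact hs n⟩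

@[simp]
lemma mkRes_ι_f_zero (L : CochainComplex C ℕ) (Z : C) (aug : Z ⟶ L.X 0)
    (w : aug ≫ L.d 0 1 = 0) (hinj : ∀ n, Injective (L.X n)) (hmono : Mono aug)
    (h0 : (ShortComplex.mk aug (L.d 0 1) w).Exact)
    (hs : ∀ n, (ShortComplex.mk (L.d n (n + 1)) (L.d (n + 1) (n + 2))
      (L.d_comp_d _ _ _)).Exact) :
    (mkRes L Z aug w hinj hmono h0 hs).ι.f 0 = aug :=
  CochainComplex.fromSingle₀Equiv_symm_apply_f_zero _ _

/-- The resolution of `G.obj S` obtained by applying an exact functor `G` to `KK S`. -/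
noncomputable def resOf (G : ShortComplex C ⥤ C) [G.PreservesZeroMorphisms] [G.PreservesHomology]
    [G.PreservesMonomorphisms] (S : ShortComplex C) (hS : S.ShortExact)
    (hG : ∀ n, Injective (G.obj (hull (seq S n)))) : InjectiveResolution (G.obj S) :=
  mkRes ((G.mapHomologicalComplex _).obj (KK S)) (G.obj S) (G.map (toHull S))
    (by
      show G.map (toHull S) ≫ G.map ((KK S).d 0 1) = 0
      rw [← G.map_comp, toHull_d, G.map_zero])
    hG
    (by
      haveI := hS.mono_f
      haveI := mono_toHull S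
      exact (inferInstance : Mono (G.map (toHull S))))
    ((KK_exact₀ S hS).map G)
    (fun n => (KK_exact_succ S hS n).map G)

/-- The horseshoe lemma. -/
noncomputable def sesRes (S : ShortComplex C) (hS : S.ShortExact) : RDer.SESRes S where
  I₁ := resOf ShortComplex.π₁ S hS
    (fun n => inferInstanceAs (Injective (Injective.under (seq S n).X₂)))
  I₂ := resOf ShortComplex.π₂ S hS
    (fun n => inferInstanceAs
      (Injective (Injective.under (seq S n).X₂ ⊞ Injective.under (seq S n).X₃)))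
  I₃ := resOf ShortComplex.π₃ S hS
    (fun n => inferInstanceAs (Injective (Injective.under (seq S n).X₃)))
  f := (NatTrans.mapHomologicalComplex ShortComplex.π₁Toπ₂ _).app (KK S)
  g := (NatTrans.mapHomologicalComplex ShortComplex.π₂Toπ₃ _).app (KK S)
  zero := by
    ext n
    exact ((KK S).X n).zero
  ι_f := by
    apply HomologicalComplex.from_single_hom_ext
    rw [HomologicalComplex.comp_f, HomologicalComplex.comp_f, CochainComplex.single₀_map_f_zero]
    dsimp only [resOf]
    rw [mkRes_ι_f_zero, mkRes_ι_f_zero]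
    exact (toHull S).comm₁₂
  ι_g := by
    apply HomologicalComplex.from_single_hom_ext
    rw [HomologicalComplex.comp_f, HomologicalComplex.comp_f, CochainComplex.single₀_map_f_zero]
    dsimp only [resOf]
    rw [mkRes_ι_f_zero, mkRes_ι_f_zero]
    exact (toHull S).comm₂₃
  shortExact :=
    HomologicalComplex.shortExact_of_degreewise_shortExact _
      (fun n => (hullSplitting (seq S n)).shortExact)

/-! ### The long exact sequence -/

section LES

open RDer

variable {D : Type u'} [Category.{v'} D] [Abelian D] {S : ShortComplex C} (T : SESRes S)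
  (F : C ⥤ D) [F.Additive]

lemma natf (n : ℕ) :
    (F.rightDerived n).map S.f ≫ (T.I₂.isoRightDerivedObj F n).hom =
      (T.I₁.isoRightDerivedObj F n).hom ≫
        HomologicalComplex.homologyMap (T.cx.map (F.mapHomologicalComplex (ComplexShape.up ℕ))).f n :=
  InjectiveResolution.isoRightDerivedObj_hom_naturality S.f T.I₁ T.I₂ T.f
    (SESResLift.ι_f_zero T) F n

lemma natg (n : ℕ) :
    (F.rightDerived n).map S.g ≫ (T.I₃.isoRightDerivedObj F n).hom =
      (T.I₂.isoRightDerivedObj F n).hom ≫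
        HomologicalComplex.homologyMap (T.cx.map (F.mapHomologicalComplex (ComplexShape.up ℕ))).g n :=
  InjectiveResolution.isoRightDerivedObj_hom_naturality S.g T.I₂ T.I₃ T.g
    (SESResLift.ι_g_zero T) F n

include T in
lemma les₂ (n : ℕ) :
    ∃ w : (F.rightDerived n).map S.f ≫ (F.rightDerived n).map S.g = 0,
      (ShortComplex.mk _ _ w).Exact :=
  exact_transport _ _ _ _ _ _ _ (natf T F n) (natg T F n) _
    ((T.map_shortExact F).homology_exact₂ n)

lemma les₃ (n₀ n₁ : ℕ) (h : n₀ + 1 = n₁) :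
    ∃ w : (F.rightDerived n₀).map S.g ≫ T.delta F n₀ n₁ h = 0,
      (ShortComplex.mk _ _ w).Exact :=
  exact_transport _ _ _ _ _ _ _ (natg T F n₀) (T.delta_comp_isoRightDerivedObj_hom F n₀ n₁ h) _
    ((T.map_shortExact F).homology_exact₃ n₀ n₁ h)

lemma les₁ (n₀ n₁ : ℕ) (h : n₀ + 1 = n₁) :
    ∃ w : T.delta F n₀ n₁ h ≫ (F.rightDerived n₁).map S.f = 0,
      (ShortComplex.mk _ _ w).Exact :=
  exact_transport _ _ _ _ _ _ _ (T.delta_comp_isoRightDerivedObj_hom F n₀ n₁ h) (natf T F n₁) _
    ((T.map_shortExact F).homology_exact₁ n₀ n₁ h)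

end LES

/-- The connecting morphisms and the long exact sequence of the right derived functors. -/
noncomputable def derivedLES {D : Type u'} [Category.{v'} D] [Abelian D] (F : C ⥤ D)
    [F.Additive] : RDer.DerivedLES F where
  δ S hS n₀ n₁ h := (sesRes S hS).delta F n₀ n₁ h
  δ_eq _ _ T n₀ n₁ h := SESResLift.delta_indep _ T F n₀ n₁ h
  δ_natural _ _ φ n₀ n₁ h := SESResLift.delta_naturality φ _ _ F n₀ n₁ h
  exact₂ S hS n := (les₂ (sesRes S hS) F n).choose_spec
  comp_δ S hS n₀ n₁ h := (les₃ (sesRes S hS) F n₀ n₁ h).choose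
  exact₃ S hS n₀ n₁ h := (les₃ (sesRes S hS) F n₀ n₁ h).choose_spec
  δ_comp S hS n₀ n₁ h := (les₁ (sesRes S hS) F n₀ n₁ h).choose
  exact₁ S hS n₀ n₁ h := (les₁ (sesRes S hS) F n₀ n₁ h).choose_spec

/-! ### Left exactness of `R⁰F` (appended) -/

section RZero

variable {D : Type u'} [Category.{v'} D] [Abelian D] (F : C ⥤ D) [F.Additive]

lemma mono_rightDerivedZero_map {S : ShortComplex C} (T : RDer.SESRes S) :
    Mono ((F.rightDerived 0).map S.f) := by
  have N := natf T F 0
  haveI := (T.map_shortExact F).mono_f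
  haveI : Mono ((T.cx.map (F.mapHomologicalComplex (ComplexShape.up ℕ))).f.f 0) :=
    inferInstanceAs (Mono ((HomologicalComplex.eval D _ 0).map
      (T.cx.map (F.mapHomologicalComplex (ComplexShape.up ℕ))).f))
  have hm := HomologicalComplex.mono_homologyMap_of_mono_of_not_rel
    (T.cx.map (F.mapHomologicalComplex (ComplexShape.up ℕ))).f 0 (by intro i; simp)
  haveI : Mono ((F.rightDerived 0).map S.f ≫ (T.I₂.isoRightDerivedObj F 0).hom) := by
    rw [N]; exact mono_comp' inferInstance hm
  exact mono_of_mono _ (T.I₂.isoRightDerivedObj F 0).hom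

theorem preservesFiniteLimits_rightDerivedZero : PreservesFiniteLimits (F.rightDerived 0) := by
  rw [Functor.preservesFiniteLimits_iff_forall_exact_map_and_mono]
  intro S hS
  exact ⟨(les₂ (sesRes S hS) F 0).choose_spec, mono_rightDerivedZero_map F (sesRes S hS)⟩

theorem isIso_toRightDerivedZero_iff :
    IsIso F.toRightDerivedZero ↔ PreservesFiniteLimits F := by
  constructor
  · intro h
    haveI := preservesFiniteLimits_rightDerivedZero F
    exact preservesFiniteLimits_of_natIso (asIso F.toRightDerivedZero).symm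
  · intro h
    infer_instance

end RZero

end Groth.Agent.Lib.Horseshoe0
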