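import Mathlib
import Groth.Agent.Lib.Horseshoe0_helper9
import Groth.Agent.Lib.FinDimRes_helper9

/-!
# `F`-acyclic objects for a left exact functor of finite cohomological dimension (helper9)

* `acyc F`: the class of objects `X` with `RⁱF(X) = 0` for `i > 0`;
* closure properties, coresolution dimension;
* `acyclic_map`: if `RⁿF = 0` and `F` is left exact, `F` sends acyclic (unbounded) complexes with
  `F`-acyclic terms to acyclic complexes;
* `exists_resolution`: if `RⁿF = 0`, every complex admits a quasi-isomorphism to a complex with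
  `F`-acyclic terms.
-/

namespace Groth.Agent.Lib.FAcyc

open CategoryTheory CategoryTheory.Limits

universe v u v' u'

variable {A : Type u} [Category.{v} A] [Abelian A] [HasInjectiveResolutions A]
  {B : Type u'} [Category.{v'} B] [Abelian B]
  (F : A ⥤ B) [F.Additive]

omit [HasInjectiveResolutions A] in
lemma enoughInjectives [HasInjectiveResolutions A] : EnoughInjectives A :=
  ⟨fun X => ⟨{ J := (injectiveResolution X).cocomplex.X 0
               injective := inferInstance
               f := (injectiveResolution X).ι.f 0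
               mono := inferInstanceAs (Mono ((injectiveResolution X).ι.f 0)) }⟩⟩

/-- `F`-acyclic objects. -/
def acyc : ObjectProperty A := fun X => ∀ i : ℕ, 0 < i → IsZero ((F.rightDerived i).obj X)

lemma acyc_of_injective (I : A) [Injective I] : acyc F I := fun i hi => by
  obtain ⟨j, rfl⟩ : ∃ j, i = j + 1 := ⟨i - 1, by omega⟩
  exact Functor.isZero_rightDerived_obj_injective_succ F j I

section LES

variable (S : ShortComplex A) (hS : S.ShortExact)

include hS

lemma isZero_X₃ (i : ℕ) (h₂ : IsZero ((F.rightDerived i).obj S.X₂))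
    (h₁ : IsZero ((F.rightDerived (i + 1)).obj S.X₁)) :
    IsZero ((F.rightDerived i).obj S.X₃) := by
  haveI := enoughInjectives (A := A)
  exact ((Horseshoe0.derivedLES F).exact₃ S hS i (i + 1) rfl).isZero_X₂
    (h₂.eq_of_src _ _) (h₁.eq_of_tgt _ _)

lemma isZero_X₁ (i : ℕ) (h₃ : IsZero ((F.rightDerived i).obj S.X₃))
    (h₂ : IsZero ((F.rightDerived (i + 1)).obj S.X₂)) :
    IsZero ((F.rightDerived (i + 1)).obj S.X₁) := by
  haveI := enoughInjectives (A := A)
  exact ((Horseshoe0.derivedLES F).exact₁ S hS i (i + 1) rfl).isZero_X₂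
    (h₃.eq_of_src _ _) (h₂.eq_of_tgt _ _)

lemma isZero_X₂ (i : ℕ) (h₁ : IsZero ((F.rightDerived i).obj S.X₁))
    (h₃ : IsZero ((F.rightDerived i).obj S.X₃)) :
    IsZero ((F.rightDerived i).obj S.X₂) := by
  haveI := enoughInjectives (A := A)
  exact ((Horseshoe0.derivedLES F).exact₂ S hS i).isZero_X₂
    (h₁.eq_of_src _ _) (h₃.eq_of_tgt _ _)

lemma epi_zero (h₁ : IsZero ((F.rightDerived 1).obj S.X₁)) :
    Epi ((F.rightDerived 0).map S.g) := by
  haveI := enoughInjectives (A := A)
  exact ((Horseshoe0.derivedLES F).exact₃ S hS 0 1 rfl).epi_f (h₁.eq_of_tgt _ _)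

end LES

lemma h1 (X : A) : ∃ (Y : A) (i : X ⟶ Y), acyc F Y ∧ Mono i := by
  haveI := enoughInjectives (A := A)
  exact ⟨Injective.under X, Injective.ι X, acyc_of_injective F _, inferInstance⟩

lemma h2 (S : ShortComplex A) (hS : S.ShortExact) (hX₁ : acyc F S.X₁) :
    acyc F S.X₂ ↔ acyc F S.X₃ :=
  ⟨fun h i hi => isZero_X₃ F S hS i (h i hi) (hX₁ (i + 1) (by omega)),
    fun h i hi => isZero_X₂ F S hS i (hX₁ i hi) (h i hi)⟩

lemma hdim (n : ℕ) (hn : ∀ X : A, IsZero ((F.rightDerived n).obj X)) :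
    ∀ i : ℕ, n ≤ i → ∀ X : A, IsZero ((F.rightDerived i).obj X) := by
  haveI := enoughInjectives (A := A)
  intro i hi
  induction i, hi using Nat.le_induction with
  | base => exact hn
  | succ i _ ih =>
    intro X
    let S : ShortComplex A :=
      ShortComplex.mk (Injective.ι X) (cokernel.π (Injective.ι X)) (cokernel.condition _)
    have hS : S.ShortExact :=
      { exact := ShortComplex.exact_cokernel _
        mono_f := by dsimp only [S]; infer_instance
        epi_g := by dsimp only [S]; infer_instance }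
    exact isZero_X₁ F S hS i (ih _) (Functor.isZero_rightDerived_obj_injective_succ F i _)

open Groth.Agent.Lib.FinDimRes in
lemma dimLE' (k : ℕ) : ∀ (M : A), (∀ i : ℕ, k < i → IsZero ((F.rightDerived i).obj M)) →
    DimLE' (acyc F) k M := by
  induction k with
  | zero =>
    intro M hM
    exact fun i hi => hM i hi
  | succ k ih =>
    intro M hM S e hS hP₂
    apply ih
    intro i hi
    exact isZero_X₃ F S hS i (hP₂ i (by omega))
      (IsZero.of_iso (hM (i + 1) (by omega)) ((F.rightDerived (i + 1)).mapIso e.symm))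

theorem exists_resolution (n : ℕ) (hn : ∀ X : A, IsZero ((F.rightDerived n).obj X))
    (K : CochainComplex A ℤ) :
    ∃ (T : CochainComplex A ℤ) (f : K ⟶ T), QuasiIso f ∧ ∀ p, acyc F (T.X p) :=
  FinDimRes.exists_of_dimLE' (acyc F) (h1 F) (h2 F) n K
    (fun p => dimLE' F n _ (fun i hi => hdim F n hn i (by omega) _))

/-! ### `F` preserves acyclic complexes of `F`-acyclic objects -/

section acyclicMap

variable (K : CochainComplex A ℤ)

/-- the cycles of `K` -/
noncomputable def Z (p : ℤ) : A := kernel (K.d p (p + 1))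

/-- the inclusion of the cycles -/
noncomputable def iZ (p : ℤ) : Z K p ⟶ K.X p := kernel.ι _

/-- the differential, corestricted to the cycles -/
noncomputable def πZ (p : ℤ) : K.X p ⟶ Z K (p + 1) :=
  kernel.lift _ (K.d p (p + 1)) (K.d_comp_d _ _ _)

omit [HasInjectiveResolutions A] in
lemma πZ_iZ (p : ℤ) : πZ K p ≫ iZ K (p + 1) = K.d p (p + 1) := kernel.lift_ι _ _ _

instance (p : ℤ) : Mono (iZ K p) :=
  inferInstanceAs (Mono (kernel.ι (K.d p (p + 1))))

omit [HasInjectiveResolutions A] in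
lemma iZ_πZ (p : ℤ) : iZ K p ≫ πZ K p = 0 := by
  rw [← cancel_mono (iZ K (p + 1)), Category.assoc, πZ_iZ, zero_comp]
  exact kernel.condition _

omit [HasInjectiveResolutions A] in
lemma epi_πZ (hK : K.Acyclic) (p : ℤ) : Epi (πZ K p) := by
  have h := hK (p + 1)
  rw [HomologicalComplex.exactAt_iff' _ p (p + 1) (p + 1 + 1) (by simp) (by simp)] at h
  exact (ShortComplex.exact_iff_epi_kernel_lift _).1 h

/-- the short exact sequence `0 ⟶ Zᵖ ⟶ Kᵖ ⟶ Zᵖ⁺¹ ⟶ 0` -/
noncomputable def sesZ (p : ℤ) : ShortComplex A := ShortComplex.mk (iZ K p) (πZ K p) (iZ_πZ K p)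

omit [HasInjectiveResolutions A] in
lemma sesZ_shortExact (hK : K.Acyclic) (p : ℤ) : (sesZ K p).ShortExact := by
  have h0 : (ShortComplex.mk (iZ K p) (K.d p (p + 1)) (kernel.condition _)).Exact :=
    ShortComplex.exact_of_f_is_kernel _ (kernelIsKernel _)
  have h1 : (ShortComplex.mk (iZ K p) (πZ K p ≫ iZ K (p + 1))
      (by rw [πZ_iZ]; exact kernel.condition _)).Exact :=
    Horseshoe0.exact_congr rfl (πZ_iZ K p) _ _ h0
  let φ : sesZ K p ⟶ ShortComplex.mk (iZ K p) (πZ K p ≫ iZ K (p + 1))
      (by rw [πZ_iZ]; exact kernel.condition _) :=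
    ShortComplex.homMk (𝟙 _) (𝟙 _) (iZ K (p + 1)) (by simp [sesZ]) (by simp [sesZ])
  haveI : Epi φ.τ₁ := inferInstanceAs (Epi (𝟙 _))
  haveI : IsIso φ.τ₂ := inferInstanceAs (IsIso (𝟙 _))
  haveI : Mono φ.τ₃ := inferInstanceAs (Mono (iZ K (p + 1)))
  exact { exact := (ShortComplex.exact_iff_of_epi_of_isIso_of_mono φ).2 h1
          mono_f := inferInstanceAs (Mono (iZ K p))
          epi_g := epi_πZ K hK p }

variable (n : ℕ) (hn : ∀ X : A, IsZero ((F.rightDerived n).obj X))
  (hK : K.Acyclic) (hT : ∀ m, acyc F (K.X m))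

include hn hK hT in
lemma acyc_Z_aux (j : ℕ) : ∀ i : ℕ, 1 ≤ i → n ≤ i + j →
    ∀ p, IsZero ((F.rightDerived i).obj (Z K p)) := by
  induction j with
  | zero =>
    intro i _ hi p
    exact hdim F n hn i (by omega) _
  | succ j ih =>
    intro i hi1 hij q
    obtain ⟨p, rfl⟩ : ∃ p, q = p + 1 := ⟨q - 1, by omega⟩
    exact isZero_X₃ F (sesZ K p) (sesZ_shortExact K hK p) i (hT p i (by omega))
      (ih (i + 1) (by omega) (by omega) p)

include hn hK hT in
lemma acyc_Z (p : ℤ) : acyc F (Z K p) :=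
  fun i hi => acyc_Z_aux F K n hn hK hT n i hi (by omega) p

variable [PreservesFiniteLimits F]

include hn hK hT in
lemma map_sesZ_shortExact (p : ℤ) : ((sesZ K p).map F).ShortExact := by
  have hS := sesZ_shortExact K hK p
  haveI := hS.mono_f
  haveI : Epi ((F.rightDerived 0).map (sesZ K p).g) :=
    epi_zero F (sesZ K p) hS (acyc_Z F K n hn hK hT p 1 (by omega))
  have hepi : Epi (F.map (sesZ K p).g) := by
    rw [← NatIso.naturality_1 F.rightDerivedZeroIsoSelf (sesZ K p).g]
    infer_instance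
  exact { exact := hS.exact.map_of_mono_of_preservesKernel F inferInstance inferInstance
          mono_f := inferInstanceAs (Mono (F.map (sesZ K p).f))
          epi_g := hepi }

include hn hK hT in
theorem acyclic_map :
    ((F.mapHomologicalComplex (ComplexShape.up ℤ)).obj K).Acyclic := by
  intro q
  obtain ⟨p, rfl⟩ : ∃ p, q = p + 1 := ⟨q - 1, by omega⟩
  rw [HomologicalComplex.exactAt_iff' _ p (p + 1) (p + 1 + 1) (by simp) (by simp)]
  have h1 := map_sesZ_shortExact F K n hn hK hT p
  have h2 := map_sesZ_shortExact F K n hn hK hT (p + 1)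
  haveI : Epi (F.map (πZ K p)) := h1.epi_g
  haveI : Mono (F.map (iZ K (p + 1 + 1))) :=
    (map_sesZ_shortExact F K n hn hK hT (p + 1 + 1)).mono_f
  have w : F.map (iZ K (p + 1)) ≫ F.map (πZ K (p + 1)) = 0 := by
    rw [← F.map_comp, iZ_πZ, F.map_zero]
  have h3 := Horseshoe0.exact_splice (F.map (πZ K p)) (F.map (iZ K (p + 1)))
    (F.map (πZ K (p + 1))) w h2.exact (F.map (iZ K (p + 1 + 1)))
  refine Horseshoe0.exact_congr ?_ ?_ _ _ h3
  · change F.map (K.d p (p + 1)) = _
    rw [← F.map_comp, πZ_iZ]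
  · change F.map (K.d (p + 1) (p + 1 + 1)) = _
    rw [← F.map_comp, πZ_iZ]

end acyclicMap

end Groth.Agent.Lib.FAcyc
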