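import Mathlib
import Groth.Prelude.Def_CohTop
import Groth.Agent.Lib.AffVanish_helper9
import Groth.Agent.Lib.FlasqueAcyclic_helper2
import Groth.Agent.Lib.RpushVanish_helper9
import Groth.Agent.Lib.Leray_helper9

/-!
# Cohomology over an open versus cohomology of the restriction

For an abelian sheaf `F` on a space `X` and an open `U`, `Ext^n(ℤ_U, F) ≃+ H^n(U, F|_U)`.
The proof is by dimension shifting: restriction to an open is exact (it has adjoints on both sides)
and sends injective sheaves to flasque sheaves.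
-/

universe w u

open CategoryTheory CategoryTheory.Limits Opposite TopologicalSpace
open Groth.Agent.Lib.FreeSheaf Groth.Agent.Lib.FlasqueAcyclic

namespace ResCoh

open AffVanish (Sec rs apS)
open RpushVanish (fr ofSec)

section Abstract

variable {C : Type*} [Category C] [Abelian C] [HasExt.{w} C]

theorem comp_extClass_zero {S : ShortComplex C} (hS : S.ShortExact) {K : C} (b : K ⟶ S.X₂) :
    (Abelian.Ext.mk₀ (b ≫ S.g)).comp hS.extClass (zero_add 1) = 0 := by
  rw [← Abelian.Ext.mk₀_comp_mk₀, Abelian.Ext.comp_assoc_of_second_deg_zero, hS.comp_extClass,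
    Abelian.Ext.comp_zero]

/-- The connecting homomorphism is bijective when the middle term is acyclic. -/
theorem delta_bijective {S : ShortComplex C} (hS : S.ShortExact) (K : C) (n : ℕ)
    (h1 : ∀ ξ : Abelian.Ext K S.X₂ (n + 1), ξ = 0) (h2 : ∀ ξ : Abelian.Ext K S.X₂ (n + 2), ξ = 0) :
    Function.Bijective (hS.extClass.postcomp K (rfl : (n + 1) + 1 = n + 2)) := by
  constructor
  · rw [injective_iff_map_eq_zero]
    intro x hx
    have hx' : x.comp hS.extClass (rfl : (n + 1) + 1 = n + 2) = 0 := hx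
    obtain ⟨x₂, hx₂⟩ := Abelian.Ext.covariant_sequence_exact₃ K hS x rfl hx'
    rw [← hx₂, h1 x₂, Abelian.Ext.zero_comp]
  · intro y
    obtain ⟨x₃, hx₃⟩ := Abelian.Ext.covariant_sequence_exact₁ K hS y (h2 _)
      (rfl : (n + 1) + 1 = n + 2)
    exact ⟨x₃, hx₃⟩

end Abstract

section Add

variable {Y : TopCat.{u}}

/-- Additivity of the bijection between maps from a free sheaf and sections. -/
theorem homEquiv_add (W : Opens Y) (G : CohTop.Ab Y) (f g : fr W ⟶ G) :
    freeSheafHomEquiv (Opens.grothendieckTopology Y) W G (f + g) =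
      freeSheafHomEquiv (Opens.grothendieckTopology Y) W G f +
        freeSheafHomEquiv (Opens.grothendieckTopology Y) W G g := by
  have e : f + g = biprod.lift f g ≫ (biprod.fst + biprod.snd : G ⊞ G ⟶ G) := by
    rw [Preadditive.comp_add, biprod.lift_fst, biprod.lift_snd]
  have h1 : ∀ z : Sec (G ⊞ G) W, apS (biprod.fst + biprod.snd : G ⊞ G ⟶ G) W z =
      apS (biprod.fst : G ⊞ G ⟶ G) W z + apS (biprod.snd : G ⊞ G ⟶ G) W z := fun z => rfl
  rw [e, freeSheafHomEquiv_comp]
  have h2 := h1 (freeSheafHomEquiv (Opens.grothendieckTopology Y) W (G ⊞ G) (biprod.lift f g))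
  refine h2.trans ?_
  have h3 := freeSheafHomEquiv_comp (Opens.grothendieckTopology Y) W (biprod.lift f g)
    (biprod.fst : G ⊞ G ⟶ G)
  have h4 := freeSheafHomEquiv_comp (Opens.grothendieckTopology Y) W (biprod.lift f g)
    (biprod.snd : G ⊞ G ⟶ G)
  rw [biprod.lift_fst] at h3
  rw [biprod.lift_snd] at h4
  rw [h3, h4]

end Add

variable {X : TopCat.{u}} (U : Opens X)

/-- The inclusion of the open subspace. -/
abbrev jj : TopCat.of U ⟶ X := TopCat.ofHom ⟨_, continuous_subtype_val⟩

theorem hj : Topology.IsOpenEmbedding (TopCat.Hom.hom (jj U)) := U.isOpenEmbedding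

/-- The image functor on opens. -/
abbrev im : Opens (TopCat.of U) ⥤ Opens X := (hj U).isOpenMap.functor

instance : (im U).IsContinuous (Opens.grothendieckTopology (TopCat.of U))
    (Opens.grothendieckTopology X) :=
  (hj U).functor_isContinuous

instance : (im U).IsCocontinuous (Opens.grothendieckTopology (TopCat.of U))
    (Opens.grothendieckTopology X) := by
  rw [((hj U).isOpenMap.adjunction).isCocontinuous_iff_coverPreserving]
  exact coverPreserving_opens_map (jj U)

noncomputable instance : (CohTop.restrFunctor U).IsLeftAdjoint :=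
  ((im U).sheafAdjunctionCocontinuous AddCommGrpCat.{u}
    (Opens.grothendieckTopology (TopCat.of U)) (Opens.grothendieckTopology X)).isLeftAdjoint

theorem im_top : (im U).obj ⊤ = U := by
  ext x
  constructor
  · rintro ⟨y, -, rfl⟩
    exact y.2
  · intro hx
    exact ⟨⟨x, hx⟩, trivial, rfl⟩

/-- Maps from `ℤ_U` to `G` are global sections of `G|_U`. -/
noncomputable def tau (G : CohTop.Ab X) :
    (fr ((im U).obj ⊤) ⟶ G) ≃+ (Leray.KK (TopCat.of U) ⟶ CohTop.restr G U) :=
  (AddEquiv.mk' (freeSheafHomEquiv (Opens.grothendieckTopology X) ((im U).obj ⊤) G)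
    (homEquiv_add _ G)).trans (Leray.constAddEquiv (CohTop.restr G U)).symm

theorem const_tau (G : CohTop.Ab X) (a : fr ((im U).obj ⊤) ⟶ G) :
    Leray.constAddEquiv (CohTop.restr G U) (tau U G a) =
      freeSheafHomEquiv (Opens.grothendieckTopology X) ((im U).obj ⊤) G a :=
  AddEquiv.apply_symm_apply _ _

theorem tau_comp {G G' : CohTop.Ab X} (a : fr ((im U).obj ⊤) ⟶ G) (φ : G ⟶ G') :
    tau U G' (a ≫ φ) = tau U G a ≫ (CohTop.restrFunctor U).map φ := by
  apply (Leray.constAddEquiv (CohTop.restr G' U)).injective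
  rw [Leray.constAddEquiv_comp, const_tau, const_tau, freeSheafHomEquiv_comp]
  rfl

variable (F : CohTop.Ab X)

theorem nonempty_zero :
    Nonempty (Abelian.Ext (fr ((im U).obj ⊤)) F 0 ≃+
      Abelian.Ext (Leray.KK (TopCat.of U)) (CohTop.restr F U) 0) :=
  ⟨Abelian.Ext.addEquiv₀.trans ((tau U F).trans Abelian.Ext.addEquiv₀.symm)⟩

/-- The standard short exact sequence `F ⟶ I ⟶ I/F` with `I` injective. -/
noncomputable abbrev SS : ShortComplex (CohTop.Ab X) :=
  ShortComplex.mk (Injective.ι F) (cokernel.π (Injective.ι F)) (cokernel.condition _)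

theorem SS_shortExact : (SS F).ShortExact :=
  ShortComplex.ShortExact.mk' (ShortComplex.exact_cokernel (Injective.ι F))
    (inferInstanceAs (Mono (Injective.ι F))) (inferInstanceAs (Epi (cokernel.π (Injective.ι F))))

theorem SS_res_shortExact : ((SS F).map (CohTop.restrFunctor U)).ShortExact :=
  (SS_shortExact F).map_of_exact (CohTop.restrFunctor U)

theorem vanX (n : ℕ) (ξ : Abelian.Ext (fr ((im U).obj ⊤)) (SS F).X₂ (n + 1)) : ξ = 0 :=
  Abelian.Ext.eq_zero_of_injective (I := Injective.under F) ξ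

theorem vanU (n : ℕ)
    (ξ : Abelian.Ext (Leray.KK (TopCat.of U)) ((SS F).map (CohTop.restrFunctor U)).X₂ (n + 1)) :
    ξ = 0 := by
  haveI hfl : TopCat.Sheaf.IsFlasque (X := X) (Injective.under F) :=
    @isFlasque_of_injective X (Injective.under F) (Injective.injective_under F)
  haveI hfl' : TopCat.Sheaf.IsFlasque (CohTop.restr (Injective.under F) U) :=
    ⟨fun {W W'} i => hfl.epi ((im U).op.map i)⟩
  exact H_eq_zero_of_isFlasque (CohTop.restr (Injective.under F) U) n ξ

theorem nonempty_one :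
    Nonempty (Abelian.Ext (fr ((im U).obj ⊤)) F 1 ≃+
      Abelian.Ext (Leray.KK (TopCat.of U)) (CohTop.restr F U) 1) := by
  have hS := SS_shortExact F
  have hS' := SS_res_shortExact U F
  let φ : (fr ((im U).obj ⊤) ⟶ (SS F).X₃) →+ Abelian.Ext (fr ((im U).obj ⊤)) F 1 :=
    (hS.extClass.postcomp (fr ((im U).obj ⊤)) (zero_add 1)).comp
      (Abelian.Ext.addEquiv₀ (X := fr ((im U).obj ⊤)) (Y := (SS F).X₃)).symm.toAddMonoidHom
  let ψ : (fr ((im U).obj ⊤) ⟶ (SS F).X₃) →+
      Abelian.Ext (Leray.KK (TopCat.of U)) (CohTop.restr F U) 1 :=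
    (hS'.extClass.postcomp (Leray.KK (TopCat.of U)) (zero_add 1)).comp
      ((Abelian.Ext.addEquiv₀ (X := Leray.KK (TopCat.of U))
        (Y := CohTop.restr (SS F).X₃ U)).symm.toAddMonoidHom.comp
        (tau U (SS F).X₃).toAddMonoidHom)
  refine Leray.nonempty_addEquiv_of_surj φ ψ ?_ ?_ ?_
  · intro ξ
    obtain ⟨x₃, hx₃⟩ := Abelian.Ext.covariant_sequence_exact₁ _ hS ξ (vanX U F 0 _) (zero_add 1)
    obtain ⟨a, rfl⟩ := (Abelian.Ext.mk₀_bijective _ _).2 x₃
    exact ⟨a, hx₃⟩
  · intro ξ
    obtain ⟨x₃, hx₃⟩ := Abelian.Ext.covariant_sequence_exact₁ _ hS' ξ (vanU U F 0 _) (zero_add 1)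
    obtain ⟨b, rfl⟩ := (Abelian.Ext.mk₀_bijective _ _).2 x₃
    refine ⟨(tau U (SS F).X₃).symm b, ?_⟩
    show (Abelian.Ext.mk₀ (tau U (SS F).X₃ ((tau U (SS F).X₃).symm b))).comp hS'.extClass
      (zero_add 1) = ξ
    rw [AddEquiv.apply_symm_apply]
    exact hx₃
  · intro a
    constructor
    · intro h
      have h' : (Abelian.Ext.mk₀ a).comp hS.extClass (zero_add 1) = 0 := h
      obtain ⟨x₂, hx₂⟩ := Abelian.Ext.covariant_sequence_exact₃ _ hS (Abelian.Ext.mk₀ a)
        (zero_add 1) h'
      obtain ⟨b, rfl⟩ := (Abelian.Ext.mk₀_bijective _ _).2 x₂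
      rw [Abelian.Ext.mk₀_comp_mk₀] at hx₂
      have hb : b ≫ (SS F).g = a := (Abelian.Ext.mk₀_bijective _ _).1 hx₂
      show (Abelian.Ext.mk₀ (tau U (SS F).X₃ a)).comp hS'.extClass (zero_add 1) = 0
      rw [← hb, tau_comp]
      exact comp_extClass_zero hS' (tau U (SS F).X₂ b)
    · intro h
      have h' : (Abelian.Ext.mk₀ (tau U (SS F).X₃ a)).comp hS'.extClass (zero_add 1) = 0 := h
      obtain ⟨x₂, hx₂⟩ := Abelian.Ext.covariant_sequence_exact₃ _ hS'
        (Abelian.Ext.mk₀ (tau U (SS F).X₃ a)) (zero_add 1) h'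
      obtain ⟨b', rfl⟩ := (Abelian.Ext.mk₀_bijective _ _).2 x₂
      rw [Abelian.Ext.mk₀_comp_mk₀] at hx₂
      have hb' : b' ≫ (CohTop.restrFunctor U).map (SS F).g = tau U (SS F).X₃ a :=
        (Abelian.Ext.mk₀_bijective _ _).1 hx₂
      have hb : (tau U (SS F).X₂).symm b' ≫ (SS F).g = a := by
        apply (tau U (SS F).X₃).injective
        rw [tau_comp, AddEquiv.apply_symm_apply]
        exact hb'
      show (Abelian.Ext.mk₀ a).comp hS.extClass (zero_add 1) = 0
      rw [← hb]
      exact comp_extClass_zero hS _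

theorem nonempty_succ_succ (n : ℕ)
    (ih : ∀ G : CohTop.Ab X, Nonempty (Abelian.Ext (fr ((im U).obj ⊤)) G (n + 1) ≃+
      Abelian.Ext (Leray.KK (TopCat.of U)) (CohTop.restr G U) (n + 1))) :
    Nonempty (Abelian.Ext (fr ((im U).obj ⊤)) F (n + 2) ≃+
      Abelian.Ext (Leray.KK (TopCat.of U)) (CohTop.restr F U) (n + 2)) := by
  have hS := SS_shortExact F
  have hS' := SS_res_shortExact U F
  obtain ⟨e⟩ := ih (SS F).X₃
  have h1 := delta_bijective hS (fr ((im U).obj ⊤)) n (vanX U F n) (vanX U F (n + 1))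
  have h2 := delta_bijective hS' (Leray.KK (TopCat.of U)) n (vanU U F n) (vanU U F (n + 1))
  exact ⟨(AddEquiv.ofBijective _ h1).symm.trans (e.trans (AddEquiv.ofBijective _ h2))⟩

theorem nonempty_succ (n : ℕ) : ∀ F : CohTop.Ab X,
    Nonempty (Abelian.Ext (fr ((im U).obj ⊤)) F (n + 1) ≃+
      Abelian.Ext (Leray.KK (TopCat.of U)) (CohTop.restr F U) (n + 1)) := by
  induction n with
  | zero => exact fun F => nonempty_one U F
  | succ n ih => exact fun F => nonempty_succ_succ U F n ih

/-- **Cohomology over an open is the cohomology of the restriction.** -/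
theorem nonempty_addEquiv (n : ℕ) :
    Nonempty (Abelian.Ext (fr U) F n ≃+
      Abelian.Ext (Leray.KK (TopCat.of U)) (CohTop.restr F U) n) := by
  have key : ∀ V : Opens X, (im U).obj ⊤ = V → Nonempty (Abelian.Ext (fr V) F n ≃+
      Abelian.Ext (Leray.KK (TopCat.of U)) (CohTop.restr F U) n) := by
    rintro V rfl
    cases n with
    | zero => exact nonempty_zero U F
    | succ n => exact nonempty_succ U n F
  exact key U (im_top U)

end ResCoh
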