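import Mathlib
import Groth.Prelude.Def_CohTop
import Groth.Agent.Lib.ResCoh_helper9

/-!
# Extension by zero from an open subspace, and restriction of injective sheaves

For an open `U` of a space `X`, the restriction functor `Ab X ⥤ Ab U` has a left adjoint `j_!`
(`Lsh U`, constructed by Mathlib as sheafified left Kan extension).  We prove that `j_!` is exact
(the pointwise left Kan extension along `Opens U ⥤ Opens X` is a colimit over a category which is
either empty or has a terminal object), hence restriction to an open preserves injectives
(and K-injectives).  As an application: higher direct images commute with restriction to an open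
of the base.
-/

universe u

open CategoryTheory CategoryTheory.Limits Opposite TopologicalSpace

namespace ExtZero

open ResCoh (jj hj im)

theorem mono_of_square {C : Type*} [Category C] {A B A' B' : C} (a : A ⟶ A') (b : B ⟶ B')
    (e : A ⟶ B) (α : A' ⟶ B') [IsIso a] [IsIso b] [Mono e] (h : a ≫ α = e ≫ b) : Mono α := by
  have : α = inv a ≫ e ≫ b := (IsIso.eq_inv_comp _).2 h
  rw [this]
  infer_instance

section Lan

variable {X : TopCat.{u}} (U : Opens X)

theorem im_le (W' : Opens (TopCat.of U)) : (im U).obj W' ≤ U := by
  rintro _ ⟨y, -, rfl⟩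
  exact y.2

/-- The preimage of an open of `X` in `U`. -/
abbrev pre (W : Opens X) : Opens (TopCat.of U) := (Opens.map (jj U)).obj W

theorem le_im_pre {W : Opens X} (h : W ≤ U) : W ≤ (im U).obj (pre U W) := by
  intro x hx
  exact ⟨⟨x, h hx⟩, hx, rfl⟩

theorem pre_le_of_le_im {W : Opens X} {W' : Opens (TopCat.of U)} (h : W ≤ (im U).obj W') :
    pre U W ≤ W' := by
  intro x hx
  obtain ⟨y, hy, hyx⟩ := h hx
  have : y = x := Subtype.ext hyx
  exact this ▸ hy

/-- The terminal costructured arrow over an open contained in `U`. -/
noncomputable def termArrow {W : Opens X} (h : W ≤ U) :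
    CostructuredArrow (im U).op (op W) :=
  CostructuredArrow.mk (Y := op (pre U W)) (homOfLE (le_im_pre U h)).op

noncomputable def termArrowIsTerminal {W : Opens X} (h : W ≤ U) :
    IsTerminal (termArrow U h) :=
  IsTerminal.ofUniqueHom
    (fun A => CostructuredArrow.homMk
      ((homOfLE (pre_le_of_le_im U (leOfHom A.hom.unop))).op : A.left ⟶ op (pre U W))
      (Quiver.Hom.unop_inj (Subsingleton.elim _ _)))
    (fun A m => by
      apply CostructuredArrow.hom_ext
      exact Quiver.Hom.unop_inj (Subsingleton.elim _ _))

theorem isEmpty_costructuredArrow {W : Opens X} (h : ¬ W ≤ U) :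
    IsEmpty (CostructuredArrow (im U).op (op W)) :=
  ⟨fun A => h ((leOfHom A.hom.unop).trans (im_le U A.left.unop))⟩

variable {P Q : (Opens (TopCat.of U))ᵒᵖ ⥤ AddCommGrpCat.{u}}

theorem lan_map_app_mono (η : P ⟶ Q) [Mono η] (W : Opens X) :
    Mono (((im U).op.lan.map η).app (op W)) := by
  have hη : ∀ c, Mono (η.app c) := (NatTrans.mono_iff_mono_app η).1 inferInstance
  have hP := Functor.isPointwiseLeftKanExtensionLeftKanExtensionUnit (im U).op P (op W)
  have hQ := Functor.isPointwiseLeftKanExtensionLeftKanExtensionUnit (im U).op Q (op W)
  by_cases h : W ≤ U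
  · -- terminal object
    have iP := hP.isIso_ι_app_of_isTerminal _ (termArrowIsTerminal U h)
    have iQ := hQ.isIso_ι_app_of_isTerminal _ (termArrowIsTerminal U h)
    have nat : ((Functor.LeftExtension.mk _ ((im U).op.leftKanExtensionUnit P)).coconeAt
          (op W)).ι.app (termArrow U h) ≫ ((im U).op.lan.map η).app (op W) =
        η.app (termArrow U h).left ≫
          ((Functor.LeftExtension.mk _ ((im U).op.leftKanExtensionUnit Q)).coconeAt
            (op W)).ι.app (termArrow U h) := by
      have h1 : η.app (termArrow U h).left ≫
            ((im U).op.leftKanExtensionUnit Q).app (termArrow U h).left =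
          ((im U).op.leftKanExtensionUnit P).app (termArrow U h).left ≫
            ((im U).op.lan.map η).app ((im U).op.obj (termArrow U h).left) :=
        NatTrans.congr_app ((im U).op.lanUnit.naturality η) (termArrow U h).left
      have h2 : ((im U).op.lan.obj P).map (termArrow U h).hom ≫ ((im U).op.lan.map η).app (op W) =
          ((im U).op.lan.map η).app ((im U).op.obj (termArrow U h).left) ≫
            ((im U).op.lan.obj Q).map (termArrow U h).hom :=
        ((im U).op.lan.map η).naturality (termArrow U h).hom
      exact (Category.assoc _ _ _).trans ((congrArg (_ ≫ ·) h2).trans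
        ((Category.assoc _ _ _).symm.trans
          ((congrArg (· ≫ _) h1.symm).trans (Category.assoc _ _ _))))
    exact @mono_of_square _ _ _ _ _ _ _ _ _ _ iP iQ (hη (termArrow U h).left) nat
  · haveI := isEmpty_costructuredArrow U h
    have hz : IsZero (((im U).op.lan.obj P).obj (op W)) := by
      rw [IsZero.iff_id_eq_zero]
      exact hP.hom_ext (fun j => isEmptyElim j)
    exact ⟨fun g g' _ => hz.eq_of_tgt g g'⟩

instance lan_preservesMono :
    ((im U).op.lan : ((Opens (TopCat.of U))ᵒᵖ ⥤ AddCommGrpCat.{u}) ⥤ _).PreservesMonomorphisms where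
  preserves {P Q} η _ := by
    rw [NatTrans.mono_iff_mono_app]
    intro W
    exact lan_map_app_mono U η W.unop

/-- Extension by zero. -/
noncomputable abbrev Lsh : CohTop.Ab (TopCat.of U) ⥤ CohTop.Ab X :=
  Functor.sheafPullbackConstruction.sheafPullback (im U) AddCommGrpCat.{u}
    (Opens.grothendieckTopology (TopCat.of U)) (Opens.grothendieckTopology X)

/-- Extension by zero is left adjoint to restriction. -/
noncomputable def adj : Lsh U ⊣ CohTop.restrFunctor U :=
  Functor.sheafPullbackConstruction.sheafAdjunctionContinuous (im U) AddCommGrpCat.{u}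
    (Opens.grothendieckTopology (TopCat.of U)) (Opens.grothendieckTopology X)

instance : (Lsh U).PreservesMonomorphisms := by
  haveI h1 : (sheafToPresheaf (Opens.grothendieckTopology (TopCat.of U))
      AddCommGrpCat.{u}).PreservesMonomorphisms := inferInstance
  haveI h2 := lan_preservesMono U
  haveI h3 : (presheafToSheaf (Opens.grothendieckTopology X)
      AddCommGrpCat.{u}).PreservesMonomorphisms := inferInstance
  haveI h4 : ((im U).op.lan ⋙ presheafToSheaf (Opens.grothendieckTopology X)
      AddCommGrpCat.{u}).PreservesMonomorphisms := inferInstance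
  exact inferInstanceAs ((sheafToPresheaf _ _ ⋙ (im U).op.lan ⋙
    presheafToSheaf _ _).PreservesMonomorphisms)

instance : (Lsh U).Additive := (adj U).left_adjoint_additive

instance : PreservesFiniteColimits (Lsh U) := by
  haveI := (adj U).leftAdjoint_preservesColimits
  infer_instance

instance : PreservesFiniteLimits (Lsh U) := by
  rw [Functor.preservesFiniteLimits_iff_forall_exact_map_and_mono]
  intro S hS
  haveI := hS.mono_f
  have hc : PreservesFiniteColimits (Lsh U) := inferInstance
  have hr : ∀ (S : ShortComplex (CohTop.Ab (TopCat.of U))), S.ShortExact →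
      (S.map (Lsh U)).Exact ∧ Epi ((Lsh U).map S.g) :=
    ((Functor.preservesFiniteColimits_tfae (Lsh U)).out 3 0).1 hc
  exact ⟨(hr S hS).1, inferInstance⟩

theorem injective_restr (I : CohTop.Ab X) [Injective I] : Injective (CohTop.restr I U) :=
  Injective.injective_of_adjoint (adj U) I

end Lan

end ExtZero
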