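import Mathlib
import Groth.Prelude.Def_CohSite
import Groth.Agent.Lib.ModFreeExt_helper2
import Groth.Agent.Lib.PushDerAcyc_helper2

/-!
# Higher direct images of sheaves of modules are computed on the underlying abelian sheaves
-/

set_option autoImplicit false
universe u
open CategoryTheory Limits Opposite Abelian

namespace Groth.Agent.Lib.ModFree
open Groth.Agent.Lib.FunctorialInjective

section General

variable {A B C : Type*} [Category A] [Category B] [Category C] [Abelian A] [Abelian B] [Abelian C]
  [HasInjectiveResolutions A]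

/-- right derived functors commute with exact postcomposition -/
noncomputable def rightDerivedCompExactIso (F : A ⥤ B) [F.Additive] (G : B ⥤ C) [G.Additive]
    [PreservesFiniteLimits G] [PreservesFiniteColimits G] (X : A) (n : ℕ) :
    ((F ⋙ G).rightDerived n).obj X ≅ G.obj ((F.rightDerived n).obj X) :=
  let I := injectiveResolution X
  let K := (F.mapHomologicalComplex (ComplexShape.up ℕ)).obj I.cocomplex
  I.isoRightDerivedObj (F ⋙ G) n ≪≫
    (show ((HomologicalComplex.homologyFunctor C (ComplexShape.up ℕ) n).obj
        (((F ⋙ G).mapHomologicalComplex (ComplexShape.up ℕ)).obj I.cocomplex)) ≅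
      G.obj (K.homology n) from (K.sc n).mapHomologyIso G) ≪≫
    G.mapIso (I.isoRightDerivedObj F n).symm

end General

variable {C D : Type u} [SmallCategory C] [SmallCategory D] {J : GrothendieckTopology C}
  {K : GrothendieckTopology D} (u : D ⥤ C) [u.IsContinuous K J]
  (R : Sheaf J RingCat.{u})

attribute [local instance] HasDerivedCategory.standard in
/-- the underlying abelian sheaf of a higher direct image of modules -/
theorem nonempty_toSheaf_rightDerived_iso {𝒜' : Type (u + 1)} [Category.{u} 𝒜'] [Abelian 𝒜']
    (Fm : SheafOfModules.{u} R ⥤ 𝒜') [Fm.Additive] (T' : 𝒜' ⥤ Sheaf K AddCommGrpCat.{u})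
    [T'.Additive] [PreservesFiniteLimits T'] [PreservesFiniteColimits T']
    (e : Fm ⋙ T' ≅ SheafOfModules.toSheaf R ⋙ CohSite.push J K u)
    [HasInjectiveResolutions (SheafOfModules.{u} R)]
    (M : SheafOfModules.{u} R) (n : ℕ) :
    Nonempty (T'.obj ((Fm.rightDerived n).obj M) ≅
      ((CohSite.push J K u).rightDerived n).obj ((SheafOfModules.toSheaf R).obj M)) := by
  haveI := isGrothendieckAbelian_sheafOfModules J R
  haveI := Groth.Agent.Lib.ModSiteH8.toSheaf_preservesColimitsOfSize R
  haveI : PreservesFiniteColimits (SheafOfModules.toSheaf R) := ⟨fun _ _ _ => inferInstance⟩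
  obtain ⟨e₃⟩ := Bridge.comp_acyclic (SheafOfModules.toSheaf R) (CohSite.push J K u)
    (fun I hI => PushDerAcyc.acyclic_push_of_objAcyclic J K u _
      (PushAcyc.objAcyclic_of_totallyAcyclic _ (totallyAcyclic_toSheaf_of_injective R I))) M
    (acyclic_of_exact _ M) n
  exact ⟨(rightDerivedCompExactIso Fm T' M n).symm ≪≫
    (ExtDer.rightDerivedIso e n).app M ≪≫ e₃.symm⟩

end Groth.Agent.Lib.ModFree
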