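import Mathlib
import Groth.Prelude.Def_CohCx

open CategoryTheory CategoryTheory.Limits Opposite

universe u

namespace Groth.Agent.Lib.TotAcycH8

variable {C : Type u} [SmallCategory C] (J : GrothendieckTopology C)

/-- The adjunction `a ⋙ free-sheaf ⊣ forget ⋙ inclusion`. -/
noncomputable def adjA :
    presheafToSheaf J (Type u) ⋙ Sheaf.composeAndSheafify J AddCommGrpCat.free.{u} ⊣
      sheafCompose J (forget AddCommGrpCat.{u}) ⋙ sheafToPresheaf J (Type u) :=
  (sheafificationAdjunction J (Type u)).comp (Sheaf.adjunction J AddCommGrpCat.adj)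

noncomputable def adjB :
    (Functor.whiskeringRight Cᵒᵖ _ _).obj AddCommGrpCat.free.{u} ⋙
        presheafToSheaf J AddCommGrpCat.{u} ⊣
      sheafToPresheaf J AddCommGrpCat.{u} ⋙
        (Functor.whiskeringRight Cᵒᵖ _ _).obj (forget AddCommGrpCat.{u}) :=
  (AddCommGrpCat.adj.whiskerRight Cᵒᵖ).comp (sheafificationAdjunction J AddCommGrpCat.{u})

noncomputable def leftIso :
    (Functor.whiskeringRight Cᵒᵖ _ _).obj AddCommGrpCat.free.{u} ⋙
        presheafToSheaf J AddCommGrpCat.{u} ≅
      presheafToSheaf J (Type u) ⋙ Sheaf.composeAndSheafify J AddCommGrpCat.free.{u} :=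
  (adjB J).leftAdjointUniq ((adjA J).ofNatIsoRight (Iso.refl _))

theorem subsingleton_HU_of_totallyAcyclic {J : GrothendieckTopology C}
    (F : Sheaf J AddCommGrpCat.{u}) (hF : CohCx.IsTotallyAcyclic F) (U : C) (p : ℕ) :
    Subsingleton (CohSite.HU F (p + 1) U) := by
  let K : Sheaf J (Type u) := (presheafToSheaf J (Type u)).obj (yoneda.obj U)
  have h := hF K p
  let e := (leftIso J).app (yoneda.obj U)
  let e' := ((Abelian.extFunctor (C := Sheaf J AddCommGrpCat.{u}) (p + 1)).mapIso e.op).app F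
  exact (e'.addCommGroupIsoToAddEquiv.toEquiv).subsingleton_congr.mp h

end Groth.Agent.Lib.TotAcycH8
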