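import Groth.Prelude
import Groth.Agent.Lib.PForm3_helper9
import Groth.Agent.Lib.ExtZero_helper9
import Groth.Agent.Lib.ModPushDer_helper2
import Groth.Agent.Lib.TotAcyc_helper8
import Groth.Agent.S11319

/-!
# Acyclicity of `E ⊗ I` for `E` finite locally free and `I` injective (helper9)
APPEND-ONLY once landed.
-/

set_option autoImplicit false

namespace PFormH9

open AlgebraicGeometry CategoryTheory CategoryTheory.Limits TopologicalSpace Opposite TensorProduct
open QcqsLoc MonoidalCategory GenLocH8 FLFH8 QCohExtn TensH8 PBH8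
open ResCoh (jj hj im)

universe u

section Retract

variable {X : Scheme.{u}} (E I : X.Modules) {U : X.Opens} {n : ℕ} (e : Fin n → Γ(E, U))
  (he : ∀ (O : X.Opens) (hO : O ≤ U), BasisOn E e O hO)

/-- `t ↦ e_i ⊗ t` on sections. -/
noncomputable def iotaSec {O : X.Opens} (hO : O ≤ U) (i : Fin n) :
    Γ(I, O) →+ Γ(CohB1.tensorMod E I, O) :=
  AddMonoidHom.mk' (fun t => SecTwist.tmul E I O (rF E hO (e i)) t)
    (fun t t' => tmul_add_right E I O _ t t')

/-- The `i`-th coordinate on sections. -/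
noncomputable def piSec {O : X.Opens} (hO : O ≤ U) (i : Fin n) :
    Γ(CohB1.tensorMod E I, O) →+ Γ(I, O) :=
  AddMonoidHom.mk' (fun y => comp E I e he hO y i)
    (fun y y' => congrFun (comp_add E I e he hO y y') i)

theorem rF_iotaSec {O V : X.Opens} (hO : O ≤ U) (h : V ≤ O) (i : Fin n) (t : Γ(I, O)) :
    rF (CohB1.tensorMod E I) h (iotaSec E I e hO i t) =
      iotaSec E I e (h.trans hO) i (rF I h t) := by
  show rF (CohB1.tensorMod E I) h (SecTwist.tmul E I O (rF E hO (e i)) t) =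
    SecTwist.tmul E I V (rF E (h.trans hO) (e i)) (rF I h t)
  rw [rF_tmul, rF_rF]

theorem rF_piSec {O V : X.Opens} (hO : O ≤ U) (h : V ≤ O) (i : Fin n)
    (y : Γ(CohB1.tensorMod E I, O)) :
    rF I h (piSec E I e he hO i y) =
      piSec E I e he (h.trans hO) i (rF (CohB1.tensorMod E I) h y) := by
  show rF I h (comp E I e he hO y i) = comp E I e he (h.trans hO) (rF _ h y) i
  rw [rF_comp]

theorem sum_iota_pi {O : X.Opens} (hO : O ≤ U) (y : Γ(CohB1.tensorMod E I, O)) :
    ∑ i, iotaSec E I e hO i (piSec E I e he hO i y) = y :=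
  sumT_comp E I e he hO y

/-- The morphism of abelian sheaves on `U` given by `t ↦ e_i ⊗ t`. -/
noncomputable def iotaAb (i : Fin n) :
    CohTop.restr (Coh.toAb I) U ⟶ CohTop.restr (Coh.toAb (CohB1.tensorMod E I)) U :=
  ⟨{ app := fun W' => AddCommGrpCat.ofHom (iotaSec E I e (ExtZero.im_le U W'.unop) i)
     naturality := fun W' W'' j => by
       ext t
       exact (rF_iotaSec E I e (ExtZero.im_le U W'.unop)
         (leOfHom ((im U).map j.unop)) i t).symm }⟩

/-- The morphism of abelian sheaves on `U` given by the `i`-th coordinate. -/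
noncomputable def piAb (i : Fin n) :
    CohTop.restr (Coh.toAb (CohB1.tensorMod E I)) U ⟶ CohTop.restr (Coh.toAb I) U :=
  ⟨{ app := fun W' => AddCommGrpCat.ofHom (piSec E I e he (ExtZero.im_le U W'.unop) i)
     naturality := fun W' W'' j => by
       ext y
       exact (rF_piSec E I e he (ExtZero.im_le U W'.unop)
         (leOfHom ((im U).map j.unop)) i y).symm }⟩

/-- Evaluation of a morphism of sheaves on a section, additively in the morphism. -/
noncomputable def evalHom {T : TopCat.{u}} {F G : CohTop.Ab T} (W : (Opens T)ᵒᵖ)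
    (y : ↑(F.obj.obj W)) : (F ⟶ G) →+ ↑(G.obj.obj W) where
  toFun g := (g.hom.app W).hom y
  map_zero' := rfl
  map_add' _ _ := rfl

theorem sum_piAb_iotaAb : ∑ i, piAb E I e he i ≫ iotaAb E I e i = 𝟙 _ := by
  ext W' y
  show evalHom W' y (∑ i, piAb E I e he i ≫ iotaAb E I e i) = y
  rw [map_sum]
  exact sum_iota_pi E I e he (ExtZero.im_le U W'.unop) y

end Retract

section AbstractRetract

universe w

variable {C : Type*} [Category C] [Abelian C] [HasExt.{w} C]

/-- Vanishing of `Ext` passes to "finite sums of retracts". -/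
theorem ext_eq_zero_of_retract {K A B : C} {n : ℕ} {ι : Type*} [Fintype ι]
    (p : ι → (B ⟶ A)) (s : ι → (A ⟶ B)) (h : ∑ i, p i ≫ s i = 𝟙 B)
    (hA : ∀ ξ : Abelian.Ext K A n, ξ = 0) (ξ : Abelian.Ext K B n) : ξ = 0 := by
  let Φ : (B ⟶ B) →+ Abelian.Ext K B n :=
    { toFun := fun g => ξ.comp (Abelian.Ext.mk₀ g) (add_zero n)
      map_zero' := by
        show ξ.comp (Abelian.Ext.mk₀ 0) (add_zero n) = 0
        rw [Abelian.Ext.mk₀_zero, Abelian.Ext.comp_zero]
      map_add' := fun g g' => by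
        show ξ.comp (Abelian.Ext.mk₀ (g + g')) (add_zero n) = _
        rw [Abelian.Ext.mk₀_add, Abelian.Ext.comp_add] }
  have h1 : Φ (𝟙 B) = ξ := Abelian.Ext.comp_mk₀_id ξ
  rw [← h1, ← h, map_sum]
  refine Finset.sum_eq_zero (fun i _ => ?_)
  show ξ.comp (Abelian.Ext.mk₀ (p i ≫ s i)) (add_zero n) = 0
  rw [← Abelian.Ext.mk₀_comp_mk₀, ← Abelian.Ext.comp_assoc ξ (Abelian.Ext.mk₀ (p i))
    (Abelian.Ext.mk₀ (s i)) (add_zero n) (add_zero 0) (by omega),
    hA (ξ.comp (Abelian.Ext.mk₀ (p i)) (add_zero n)), Abelian.Ext.zero_comp]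

end AbstractRetract

section Vanish

variable {X : Scheme.{u}} (E I : X.Modules) [hI : Injective I] {U : X.Opens} {n : ℕ}
  (e : Fin n → Γ(E, U)) (he : ∀ (O : X.Opens) (hO : O ≤ U), BasisOn E e O hO)

theorem ext_fr_injective_eq_zero (U : X.Opens) (p : ℕ)
    (ξ : Abelian.Ext (RpushVanish.fr U) (Coh.toAb I) (p + 1)) : ξ = 0 := by
  have hF := @Groth.Agent.Lib.ModFree.totallyAcyclic_toSheaf_of_injective _ _ _ X.ringCatSheaf I hI
  have := Groth.Agent.Lib.TotAcycH8.subsingleton_HU_of_totallyAcyclic (Coh.toAb I) hF U p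
  exact Subsingleton.elim (α := CohSite.HU (Coh.toAb I) (p + 1) U) ξ 0

include he in
/-- `H^{q+1}(U, E ⊗ I) = 0` for `I` injective, when `E` has a basis over all opens of `U`. -/
theorem ext_fr_eq_zero (q : ℕ)
    (ξ : Abelian.Ext (RpushVanish.fr U) (Coh.toAb (CohB1.tensorMod E I)) (q + 1)) : ξ = 0 := by
  obtain ⟨a⟩ := ResCoh.nonempty_addEquiv U (Coh.toAb (CohB1.tensorMod E I)) (q + 1)
  obtain ⟨b⟩ := ResCoh.nonempty_addEquiv U (Coh.toAb I) (q + 1)
  have hI1 : ∀ ζ : Abelian.Ext (Leray.KK (TopCat.of U)) (CohTop.restr (Coh.toAb I) U) (q + 1),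
      ζ = 0 := fun ζ => by
    have h0 := ext_fr_injective_eq_zero I U q (b.symm ζ)
    exact (b.apply_symm_apply ζ).symm.trans ((congrArg b h0).trans (map_zero b))
  have h2 := ext_eq_zero_of_retract (piAb E I e he) (iotaAb E I e) (sum_piAb_iotaAb E I e he)
    hI1 (a ξ)
  exact (a.symm_apply_apply ξ).symm.trans ((congrArg a.symm h2).trans (map_zero a.symm))

end Vanish

section Push

variable {X Y : Scheme.{u}} (f : X ⟶ Y) (E : Y.Modules) (hE : FlatMod.IsFinLocFree E)

include hE in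
theorem isZero_RpushAb_TL (I : X.Modules) [Injective I] (q : ℕ) :
    IsZero ((Coh.RpushAb f (q + 1)).obj
      (Coh.toAb (CohB1.tensorMod ((Scheme.Modules.pullback f).obj E) I))) := by
  haveI : E.IsQuasicoherent := isQuasicoherent_of_finLocFree E hE
  refine RpushVanish.isZero_Rpush_succ_of_basis f.base _ q
    (fun W => IsAffineOpen (X := Y) W ∧ ∃ (n : ℕ) (e : Fin n → Γ(E, W)),
      ∀ (O : Y.Opens) (hO : O ≤ W), BasisOn E e O hO) ?_ ?_
  · intro V y hy
    obtain ⟨W, hW, hyW, hWV, n, e, he⟩ := exists_triv_affine hE hy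
    exact ⟨W, ⟨hW, n, e, he⟩, hyW, hWV⟩
  · rintro W ⟨hW, n, e, he⟩ ξ
    exact ext_fr_eq_zero ((Scheme.Modules.pullback f).obj E) I
      (fun j => cUV f E (le_rfl : f ⁻¹ᵁ W ≤ f ⁻¹ᵁ W) (e j))
      (fun O' hO' => basisOn_cUV f hW e (he W le_rfl) O' hO') q ξ

include hE in
theorem isZero_Rpush_TL [HasInjectiveResolutions X.Modules] (I : X.Modules) [Injective I]
    (q : ℕ) :
    IsZero ((Coh.Rpush f (q + 1)).obj ((TL ((Scheme.Modules.pullback f).obj E)).obj I)) := by
  obtain ⟨e⟩ := Groth.Agent.S11319.result f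
    (CohB1.tensorMod ((Scheme.Modules.pullback f).obj E) I) (q + 1)
  have h := (isZero_RpushAb_TL f E hE I q).of_iso e
  rw [IsZero.iff_id_eq_zero] at h ⊢
  apply (SheafOfModules.toSheaf Y.ringCatSheaf).map_injective
  exact ((SheafOfModules.toSheaf Y.ringCatSheaf).map_id _).trans
    (h.trans ((SheafOfModules.toSheaf Y.ringCatSheaf).map_zero _ _).symm)

end Push

end PFormH9
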