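import Mathlib
import Groth.Prelude
import Groth.Agent.Lib.Tens42_helper8

/-!
# Torsion invertible modules with a section on integral schemes; triviality criteria (helper8)
APPEND-ONLY once landed.
-/

set_option autoImplicit false

namespace TensH8

open AlgebraicGeometry CategoryTheory CategoryTheory.Limits TopologicalSpace Opposite TensorProduct
open QcqsLoc MonoidalCategory GenLocH8 FLFH8 QCohExtn PBH8 SerreCrit GGH8

universe u

variable {X : Scheme.{u}}

/-- The local expression of the power of a section. -/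
theorem val_powHom_eq {L : X.Modules} (s : Coh.structureModule X ⟶ L) (d : ℕ) {W : X.Opens}
    {e : Γ(L, W)} {a : Γ(X, W)} (ha : SecTwist.val s W = a • e) :
    SecTwist.val (SecTwist.powHom s d) W = a ^ d • (Frame.pow L d).φ W e := by
  rw [SecTwist.val_powHom, ← CycCov.lpow_val, ha]
  exact (Frame.pow L d).smul W a e

/-- A generator of the structure module is a unit. -/
theorem isUnit_of_isGen_structure {W : X.Opens} {g : Γ(Coh.structureModule X, W)}
    (hg : IsGen (Coh.structureModule X) W g) : IsUnit (ofM g) := by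
  have h1 : g = ofM g • toM (1 : Γ(X, W)) := (mul_one (ofM g)).symm
  rw [h1] at hg
  exact isUnit_of_isGen_smul (isGen_one W) hg

/-- On an integral scheme whose ring of global functions is a field, an invertible module with a
nonzero section and a trivial positive tensor power is trivial. -/
theorem isIso_of_section_of_pow_trivial [IsIntegral X] (hfield : IsField (Γ(X, ⊤) : Type u))
    {L : X.Modules} (hL : PicF.IsInvertible L) (s : Coh.structureModule X ⟶ L) (hs : s ≠ 0)
    {d : ℕ} (hd : 0 < d) (α : CohB1.tensorPow L d ≅ Coh.structureModule X) : IsIso s := by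
  obtain ⟨c, hc⟩ : ∃ c : Γ(X, ⊤), c = ofM (ap α.hom ⊤ (SecTwist.val (SecTwist.powHom s d) ⊤)) :=
    ⟨_, rfl⟩
  have key : ∀ (W : X.Opens) (e : Γ(L, W)) (a : Γ(X, W)) (_ : SecTwist.val s W = a • e),
      rX (le_top : W ≤ ⊤) c = a ^ d * ofM (ap α.hom W ((Frame.pow L d).φ W e)) := by
    intro W e a ha
    have h1 : rX (le_top : W ≤ ⊤) c =
        ofM (ap α.hom W (SecTwist.val (SecTwist.powHom s d) W)) := by
      rw [hc, ← rF_val (SecTwist.powHom s d) (le_top : W ≤ ⊤)]
      exact (ap_rF α.hom (le_top : W ≤ ⊤) (SecTwist.val (SecTwist.powHom s d) ⊤)).symm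
    rw [h1, val_powHom_eq s d ha, ap_smul]
    rfl
  have hunit : ∀ (W : X.Opens) (e : Γ(L, W)), IsGen L W e →
      IsUnit (ofM (ap α.hom W ((Frame.pow L d).φ W e))) := fun W e he =>
    isUnit_of_isGen_structure (isGen_of_iso α ((Frame.pow L d).isGen he))
  have hc0 : c ≠ 0 := by
    intro hc0
    obtain ⟨x0⟩ : Nonempty X := inferInstance
    obtain ⟨W0, hW0, hx0, e0, he0⟩ := exists_isGen hL x0
    obtain ⟨a0, ha0⟩ := he0.exists_coef (SecTwist.val s W0)
    have h1 := key W0 e0 a0 ha0
    rw [hc0, map_zero] at h1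
    haveI : Nonempty W0 := ⟨⟨x0, hx0⟩⟩
    haveI : IsDomain Γ(X, W0) := inferInstance
    have h2 : a0 ^ d = 0 := ((hunit W0 e0 he0).mul_left_eq_zero).mp h1.symm
    have h3 : a0 = 0 := pow_eq_zero_iff (Nat.pos_iff_ne_zero.mp hd) |>.mp h2
    apply hs
    apply hom_ext_of_val
    have h4 : SecTwist.val s ⊤ = 0 :=
      eq_zero_of_rF_eq_zero hL (le_top : W0 ≤ ⊤) ⟨x0, hx0⟩ _
        (by rw [rF_val, ha0, h3, zero_smul])
    rw [h4]
    exact (map_zero (ap (0 : Coh.structureModule X ⟶ L) ⊤)).symm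
  obtain ⟨c', hc'⟩ := hfield.mul_inv_cancel hc0
  apply isIso_of_isGen_cover
  intro x
  obtain ⟨W, hW, hxW, e, he⟩ := exists_isGen hL x
  obtain ⟨a, ha⟩ := he.exists_coef (SecTwist.val s W)
  refine ⟨W, hxW, toM 1, isGen_one W, ?_⟩
  have h1 := key W e a ha
  have h2 : a ^ d * (ofM (ap α.hom W ((Frame.pow L d).φ W e)) * rX (le_top : W ≤ ⊤) c') = 1 := by
    rw [← mul_assoc, ← h1, ← map_mul, hc', map_one]
  have hu : IsUnit (a ^ d) := IsUnit.of_mul_eq_one _ h2
  have hu' : IsUnit a := (isUnit_pow_iff (Nat.pos_iff_ne_zero.mp hd)).mp hu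
  have h3 : ap s W (toM 1) = a • e := ha
  rw [h3]
  exact isGen_smul_of_isUnit he hu'

/-- On an integral scheme, the structure module is nonzero: an isomorphism with it is nonzero. -/
theorem iso_ne_zero [IsIntegral X] {L : X.Modules} (α : L ≅ Coh.structureModule X) :
    α.inv ≠ 0 ∧ α.hom ≠ 0 := by
  have h1 : (𝟙 (Coh.structureModule X)) ≠ 0 := by
    intro h
    have h2 := congrArg (fun φ => ofM (ap φ ⊤ (toM (1 : Γ(X, ⊤))))) h
    have h3 : (1 : Γ(X, ⊤)) = 0 := h2
    exact one_ne_zero h3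
  constructor
  · intro h
    apply h1
    rw [← α.inv_hom_id, h, zero_comp]
  · intro h
    apply h1
    rw [← α.inv_hom_id, h, comp_zero]

end TensH8
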