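import Mathlib
import Groth.Prelude
import Groth.Agent.Lib.Tens43_helper8

/-!
# Trivializing an invertible module on an affine neighbourhood of finitely many points (helper8)
APPEND-ONLY once landed.
-/

set_option autoImplicit false

namespace TensH8

open AlgebraicGeometry CategoryTheory CategoryTheory.Limits TopologicalSpace Opposite TensorProduct
open QcqsLoc MonoidalCategory GenLocH8 FLFH8 QCohExtn PBH8 SerreCrit GGH8

universe u

variable {X : Scheme.{u}} (F : X.Modules)

/-- A module which is finite locally free of rank `r` is free of rank `r` on a basic open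
neighbourhood of any finite subset of an affine open. -/
theorem exists_free_basicOpen_of_finite {r : ℕ} (hE : FlatMod.IsFinLocFreeOfRank r F) (Z : Set X)
    (hZ : Z.Finite) (V : X.Opens) (hV : IsAffineOpen V) (hZV : Z ⊆ V) :
    ∃ f : Γ(X, V), Z ⊆ X.basicOpen f ∧
      Nonempty (F.restrict (X.basicOpen f).ι ≅ FlatMod.freeMod (X.basicOpen f : Scheme.{u}) r) := by
  classical
  have hE' := IsFinLocFreeOfRank.isFinLocFree F hE
  haveI := isQuasicoherent_of_finLocFree F hE'
  haveI := isFinitePresentation_of_finLocFree F hE'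
  haveI : Module.FinitePresentation Γ(X, V) Γ(F, V) :=
    QCohFP2.finitePresentation_of_isFinitePresentation F hV
  haveI : Module.Flat Γ(X, V) Γ(F, V) := flat_sections_of_flat_stalks F hV (fun x _ => by
    haveI := (free_stalk_of_finLocFreeOfRank F hE x).1
    infer_instance)
  haveI := hZ.fintype
  let s : Finset (PrimeSpectrum Γ(X, V)) :=
    (Finset.univ : Finset ↥Z).image (fun z => hV.primeIdealOf ⟨z.1, hZV z.2⟩)
  have hs : ∀ p ∈ s, Module.rankAtStalk Γ(F, V) p = r := by
    intro p hp
    obtain ⟨z, -, rfl⟩ := Finset.mem_image.mp hp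
    rw [rankAtStalk_sections F hV (hZV z.2)]
    exact (free_stalk_of_finLocFreeOfRank F hE z.1).2
  obtain ⟨f, hf, ⟨b⟩⟩ := SemiLocH8.exists_basis_away s Γ(F, V) r hs
  have hld : RelFPKit.LocData (X.presheaf.map (homOfLE (X.basicOpen_le f)).op).hom f
      (F.presheaf.map (homOfLE (X.basicOpen_le f)).op).hom :=
    RelFPAff.locData (F := F) hV f _ rfl
  obtain ⟨b2⟩ := basis_of_locData hld b
  refine ⟨f, ?_, iso_of_basis F (hV.basicOpen f) (⇑b2) b2.span_eq b2.linearIndependent⟩
  intro z hz
  apply mem_basicOpen_of_notMem_prime hV (hZV hz)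
  exact hf _ (Finset.mem_image.mpr ⟨⟨z, hz⟩, Finset.mem_univ _, rfl⟩)

/-- An invertible module is trivial on an affine open neighbourhood of any finite set of points
contained in an affine open. -/
theorem exists_affine_trivial_of_finite {L : X.Modules} (hL : PicF.IsInvertible L) (T : Finset X)
    (hU : ∃ U : X.Opens, IsAffineOpen U ∧ ∀ x ∈ T, x ∈ U) :
    ∃ U : X.Opens, IsAffineOpen U ∧ (∀ x ∈ T, x ∈ U) ∧
      Nonempty (L.restrict U.ι ≅ Coh.structureModule (↑U : Scheme.{u})) := by
  obtain ⟨V, hV, hTV⟩ := hU
  obtain ⟨f, hTf, ⟨α⟩⟩ := exists_free_basicOpen_of_finite L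
    (finLocFreeOfRank_one_of_isInvertible hL) (↑T : Set X) T.finite_toSet V hV
    (fun x hx => hTV x hx)
  exact ⟨X.basicOpen f, hV.basicOpen f, fun x hx => hTf hx,
    ⟨α ≪≫ coproductUniqueIso
      (fun _ : Fin 1 => Coh.structureModule (X.basicOpen f : Scheme.{u}))⟩⟩


section RestrictFF

theorem map_bijective_of_natIso {C D : Type*} [Category C] [Category D] {F G : C ⥤ D}
    (η : F ≅ G) (A B : C) (h : Function.Bijective (fun φ : A ⟶ B => G.map φ)) :
    Function.Bijective (fun φ : A ⟶ B => F.map φ) := by
  have h1 : (fun φ : A ⟶ B => F.map φ) =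
      ((η.app A).homCongr (η.app B)).symm ∘ (fun φ : A ⟶ B => G.map φ) := by
    funext φ
    rw [Function.comp_apply, Equiv.eq_symm_apply, Iso.homCongr_apply]
    simp
  rw [h1]
  exact (Equiv.bijective _).comp h

variable {X : Scheme.{u}}

/-- If restriction of functions from `V` to `V ∩ U` is bijective for all opens `V`, then restriction
to `U` is bijective on morphisms towards finite locally free modules. -/
theorem restrict_map_bijective (U : X.Opens)
    (h : ∀ V : X.Opens,
      Function.Bijective (X.presheaf.map (homOfLE (inf_le_left : V ⊓ U ≤ V)).op))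
    (L L' : X.Modules) (hL' : FlatMod.IsFinLocFree L') :
    Function.Bijective (fun φ : L ⟶ L' => (Scheme.Modules.restrictFunctor U.ι).map φ) := by
  have hgen : ∀ (V W : X.Opens) (hWV : W ≤ V), W = V ⊓ U →
      Function.Bijective (X.presheaf.map (homOfLE hWV).op) := by
    intro V W hWV hW
    subst hW
    exact h V
  have hf : ∀ V : X.Opens, Function.Bijective (U.ι.app V) := by
    intro V
    rw [Scheme.Opens.ι_app]
    apply hgen
    rw [Scheme.Hom.image_preimage_eq_opensRange_inf, Scheme.Opens.opensRange_ι, inf_comm]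
  exact map_bijective_of_natIso (Scheme.Modules.restrictFunctorIsoPullback U.ι) L L'
    (pullback_map_bijective U.ι hf L L' hL')

end RestrictFF

end TensH8
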