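import Mathlib
import Groth.Prelude
import Groth.Agent.Lib.Tens44_helper8

/-!
# Parafactorial pairs: characterization by functions and direct images (helper8)
APPEND-ONLY once landed.
-/

set_option autoImplicit false

namespace TensH8

open AlgebraicGeometry CategoryTheory CategoryTheory.Limits TopologicalSpace Opposite TensorProduct
open QcqsLoc MonoidalCategory GenLocH8 FLFH8 QCohExtn PBH8 SerreCrit GGH8

universe u

section General

theorem isInvertible_of_iso' {Y : Scheme.{u}} {L L' : Y.Modules} (e : L ≅ L')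
    (h : PicF.IsInvertible L) : PicF.IsInvertible L' := by
  intro y
  obtain ⟨U, hyU, ⟨α⟩⟩ := h y
  exact ⟨U, hyU, ⟨(Scheme.Modules.restrictFunctor U.ι).mapIso e.symm ≪≫ α⟩⟩

variable {U V : Scheme.{u}} (j : U ⟶ V) [IsOpenImmersion j]

theorem isFinLocFree_of_isInvertible {Y : Scheme.{u}} {L : Y.Modules} (hL : PicF.IsInvertible L) :
    FlatMod.IsFinLocFree L :=
  IsFinLocFreeOfRank.isFinLocFree L (finLocFreeOfRank_one_of_isInvertible hL)

/-- Bijectivity on functions and invertibility of direct images give an equivalence on invertible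
modules. -/
theorem invRestrictEquiv_of_bijective (hf : ∀ W : V.Opens, Function.Bijective (j.app W))
    (hB : ∀ L₀ : U.Modules, PicF.IsInvertible L₀ →
      PicF.IsInvertible ((Scheme.Modules.pushforward j).obj L₀)) :
    ParaF.InvRestrictEquiv j := by
  constructor
  · intro L L' _ hL'
    exact map_bijective_of_natIso (Scheme.Modules.restrictFunctorIsoPullback j) L L'
      (pullback_map_bijective j hf L L' (isFinLocFree_of_isInvertible hL'))
  · intro L₀ hL₀
    exact ⟨(Scheme.Modules.pushforward j).obj L₀, hB L₀ hL₀,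
      ⟨(Scheme.Modules.restrictFunctorAdjCounitIso j).app L₀⟩⟩

/-- Under an equivalence on invertible modules with `O_V ≅ j_* O_U`, direct images of invertible
modules are invertible. -/
theorem isInvertible_pushforward_of_invRestrictEquiv
    (hf : ∀ W : V.Opens, Function.Bijective (j.app W)) (h : ParaF.InvRestrictEquiv j)
    (L₀ : U.Modules) (hL₀ : PicF.IsInvertible L₀) :
    PicF.IsInvertible ((Scheme.Modules.pushforward j).obj L₀) := by
  obtain ⟨L, hL, ⟨α⟩⟩ := h.2 L₀ hL₀
  haveI := isIso_unit_of_finLocFree j hf (isFinLocFree_of_isInvertible hL)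
  have e : L ≅ (Scheme.Modules.pushforward j).obj L₀ :=
    asIso ((Scheme.Modules.pullbackPushforwardAdjunction j).unit.app L) ≪≫
      (Scheme.Modules.pushforward j).mapIso
        (((Scheme.Modules.restrictFunctorIsoPullback j).app L).symm ≪≫ α)
  exact isInvertible_of_iso' e hL

end General


section Functions

variable {U V : Scheme.{u}} (j : U ⟶ V) [IsOpenImmersion j]

theorem val_self_bijective (Y : Scheme.{u}) :
    Function.Bijective (fun φ : Coh.structureModule Y ⟶ Coh.structureModule Y =>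
      ofM (SecTwist.val φ ⊤)) := by
  constructor
  · intro φ φ' h
    exact hom_ext_of_val φ φ' h
  · intro c
    refine ⟨homOfSec (Coh.structureModule Y) (toM c), ?_⟩
    show ofM (SecTwist.val (homOfSec (Coh.structureModule Y) (toM c)) ⊤) = c
    rw [val_homOfSec, SubExt.rF_self]
    rfl

/-- The effect of a restricted endomorphism of the structure module on global functions. -/
theorem val_conj_restrict (β : (Coh.structureModule V).restrict j ≅ Coh.structureModule U)
    (φ : Coh.structureModule V ⟶ Coh.structureModule V) :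
    ofM (SecTwist.val (β.inv ≫ (Scheme.Modules.restrictFunctor j).map φ ≫ β.hom) ⊤) =
      (j.appIso ⊤).hom.hom (rX (le_top : j ''ᵁ ⊤ ≤ ⊤) (ofM (SecTwist.val φ ⊤))) := by
  obtain ⟨c, hc⟩ : ∃ c : Γ(V, ⊤), c = ofM (SecTwist.val φ ⊤) := ⟨_, rfl⟩
  obtain ⟨c', hc'⟩ : ∃ c' : Γ(U, ⊤), c' = (j.appIso ⊤).hom.hom (rX (le_top : j ''ᵁ ⊤ ≤ ⊤) c) :=
    ⟨_, rfl⟩
  rw [← hc, ← hc']
  -- the two generators
  have h1' : IsGen ((Coh.structureModule V).restrict j) ⊤
      (show Γ((Coh.structureModule V).restrict j, ⊤) from (toM (1 : Γ(V, j ''ᵁ ⊤)))) :=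
    isGen_restrict j (Coh.structureModule V) _ (isGen_one (j ''ᵁ ⊤))
  obtain ⟨u, hu⟩ := h1'.exists_coef (ap β.inv ⊤ (toM 1))
  -- the value of the restricted morphism on `1'`
  have h2 : ap ((Scheme.Modules.restrictFunctor j).map φ) ⊤
      (show Γ((Coh.structureModule V).restrict j, ⊤) from (toM (1 : Γ(V, j ''ᵁ ⊤)))) =
      c' • (show Γ((Coh.structureModule V).restrict j, ⊤) from (toM (1 : Γ(V, j ''ᵁ ⊤)))) := by
    rw [smul_restrict, hc', appIso_inv_hom]
    have h3 : ap φ (j ''ᵁ ⊤) (toM (1 : Γ(V, j ''ᵁ ⊤))) =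
        rF (Coh.structureModule V) (le_top : j ''ᵁ ⊤ ≤ ⊤) (SecTwist.val φ ⊤) :=
      (rF_val φ (le_top : j ''ᵁ ⊤ ≤ ⊤)).symm
    refine h3.trans ?_
    have h4 : rF (Coh.structureModule V) (le_top : j ''ᵁ ⊤ ≤ ⊤) (SecTwist.val φ ⊤) =
        toM (rX (le_top : j ''ᵁ ⊤ ≤ ⊤) c) := by rw [hc]; rfl
    rw [h4]
    exact (mul_one (rX (le_top : j ''ᵁ ⊤ ≤ ⊤) c)).symm
  have h5 : ap ((Scheme.Modules.restrictFunctor j).map φ) ⊤ (ap β.inv ⊤ (toM 1)) =
      c' • ap β.inv ⊤ (toM 1) := by
    rw [hu, ap_smul, h2, smul_smul, smul_smul, mul_comm]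
  have h6 : ap β.hom ⊤ (ap β.inv ⊤ (toM (1 : Γ(U, ⊤)))) = toM 1 := by
    have := congrArg (fun ψ => ap ψ ⊤ (toM (1 : Γ(U, ⊤)))) β.inv_hom_id
    exact this
  have h7 : SecTwist.val (β.inv ≫ (Scheme.Modules.restrictFunctor j).map φ ≫ β.hom) ⊤ =
      ap β.hom ⊤ (ap ((Scheme.Modules.restrictFunctor j).map φ) ⊤ (ap β.inv ⊤ (toM 1))) := rfl
  rw [h7, h5, ap_smul, h6]
  exact mul_one c'

/-- An equivalence on invertible modules forces bijectivity of the restriction of global
functions. -/
theorem rX_bijective_of_invRestrictEquiv (h : ParaF.InvRestrictEquiv j) :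
    Function.Bijective (rX (le_top : j ''ᵁ ⊤ ≤ ⊤)) := by
  have hO : PicF.IsInvertible (Coh.structureModule V) := by
    intro y
    exact ⟨⊤, trivial, ⟨Scheme.Modules.restrictUnitIso _⟩⟩
  have h1 := h.1 (Coh.structureModule V) (Coh.structureModule V) hO hO
  obtain ⟨β, -⟩ : ∃ β : (Coh.structureModule V).restrict j ≅ Coh.structureModule U, True :=
    ⟨Scheme.Modules.restrictUnitIso j, trivial⟩
  have h2 : Function.Bijective
      (fun ψ : (Coh.structureModule V).restrict j ⟶ (Coh.structureModule V).restrict j =>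
        β.inv ≫ ψ ≫ β.hom) := by
    constructor
    · intro a b hab
      have hab' : β.inv ≫ a ≫ β.hom = β.inv ≫ b ≫ β.hom := hab
      rw [cancel_epi, cancel_mono] at hab'
      exact hab'
    · intro ψ
      exact ⟨β.hom ≫ ψ ≫ β.inv, by simp⟩
  have h3 := (val_self_bijective U).comp (h2.comp h1)
  have h4 : ((fun φ : Coh.structureModule U ⟶ Coh.structureModule U => ofM (SecTwist.val φ ⊤)) ∘
      (fun ψ : (Coh.structureModule V).restrict j ⟶ (Coh.structureModule V).restrict j =>
        β.inv ≫ ψ ≫ β.hom) ∘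
      fun φ : Coh.structureModule V ⟶ Coh.structureModule V =>
        (Scheme.Modules.restrictFunctor j).map φ) =
      (fun c : Γ(V, ⊤) => (j.appIso ⊤).hom.hom (rX (le_top : j ''ᵁ ⊤ ≤ ⊤) c)) ∘
      (fun φ : Coh.structureModule V ⟶ Coh.structureModule V => ofM (SecTwist.val φ ⊤)) := by
    funext φ
    exact val_conj_restrict j β φ
  rw [h4] at h3
  have h5 : Function.Bijective
      (fun c : Γ(V, ⊤) => (j.appIso ⊤).hom.hom (rX (le_top : j ''ᵁ ⊤ ≤ ⊤) c)) := by
    have hb := val_self_bijective V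
    constructor
    · intro a b hab
      obtain ⟨φa, rfl⟩ := hb.2 a
      obtain ⟨φb, rfl⟩ := hb.2 b
      have := h3.1 hab
      rw [this]
    · intro d
      obtain ⟨φ, hφ⟩ := h3.2 d
      exact ⟨_, hφ⟩
  constructor
  · intro a b hab
    apply h5.1
    show (j.appIso ⊤).hom.hom (rX (le_top : j ''ᵁ ⊤ ≤ ⊤) a) =
      (j.appIso ⊤).hom.hom (rX (le_top : j ''ᵁ ⊤ ≤ ⊤) b)
    rw [hab]
  · intro d
    obtain ⟨c, hc⟩ := h5.2 ((j.appIso ⊤).hom.hom d)
    refine ⟨c, ?_⟩
    have hc' : (j.appIso ⊤).hom.hom (rX (le_top : j ''ᵁ ⊤ ≤ ⊤) c) = (j.appIso ⊤).hom.hom d := hc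
    have := congrArg (j.appIso ⊤).inv.hom hc'
    rw [appIso_inv_hom, appIso_inv_hom] at this
    exact this

end Functions


section Pair

variable (X : Scheme.{u}) (Y : Closeds ↥X)

theorem presheaf_map_bijective_congr {A B A' B' : X.Opens} (h : A ≤ B) (h' : A' ≤ B')
    (hA : A = A') (hB : B = B') (hb : Function.Bijective (X.presheaf.map (homOfLE h).op)) :
    Function.Bijective (X.presheaf.map (homOfLE h').op) := by
  subst hA
  subst hB
  exact hb

theorem ι_image_homOfLE_image_top {A B : X.Opens} (e : A ≤ B) :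
    B.ι ''ᵁ (X.homOfLE e ''ᵁ ⊤) = A := by
  rw [← Scheme.Hom.comp_image]
  simp only [Scheme.homOfLE_ι, Scheme.Opens.ι_image_top]

/-- From bijectivity of restriction of functions away from `Y` to bijectivity of the comorphism
of the inclusions `V ∖ Y ⟶ V`. -/
theorem homOfLE_app_bijective
    (hA : ∀ V : X.Opens,
      Function.Bijective (X.presheaf.map (homOfLE (inf_le_left : V ⊓ Y.compl ≤ V)).op))
    (V : X.Opens) (W : (V : Scheme.{u}).Opens) :
    Function.Bijective ((X.homOfLE (inf_le_left : V ⊓ Y.compl ≤ V)).app W) := by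
  rw [Scheme.homOfLE_app]
  refine presheaf_map_bijective_congr X _ _ ?_ rfl (hA (V.ι ''ᵁ W))
  rw [Scheme.ι_image_homOfLE_eq_ι_image_inf]
  apply le_antisymm
  · refine le_inf inf_le_left (le_inf (inf_le_left.trans ?_) inf_le_right)
    exact (V.ι.image_le_opensRange W).trans (le_of_eq V.opensRange_ι)
  · exact le_inf inf_le_left (inf_le_right.trans inf_le_right)

/-- **Parafactorial pairs**: `(X, Y)` is parafactorial iff restriction of functions from `V` to
`V ∖ Y` is bijective for all opens `V` and direct images of invertible modules on `V ∖ Y` are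
invertible on `V`. -/
theorem isParafactorialPair_iff :
    ParaF.IsParafactorialPair X Y ↔
      ((∀ V : X.Opens,
        Function.Bijective (X.presheaf.map (homOfLE (inf_le_left : V ⊓ Y.compl ≤ V)).op)) ∧
        ∀ (V : X.Opens) (L : ((V ⊓ Y.compl : X.Opens) : Scheme.{u}).Modules),
          PicF.IsInvertible L →
          PicF.IsInvertible ((Scheme.Modules.pushforward
            (X.homOfLE (inf_le_left : V ⊓ Y.compl ≤ V))).obj L)) := by
  constructor
  · intro h
    have hA : ∀ V : X.Opens,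
        Function.Bijective (X.presheaf.map (homOfLE (inf_le_left : V ⊓ Y.compl ≤ V)).op) := by
      intro V
      have h1 := rX_bijective_of_invRestrictEquiv
        (X.homOfLE (inf_le_left : V ⊓ Y.compl ≤ V)) (h V)
      have h2 : Function.Bijective (X.presheaf.map (homOfLE
          (V.ι.image_mono (le_top : X.homOfLE (inf_le_left : V ⊓ Y.compl ≤ V) ''ᵁ ⊤ ≤ ⊤))).op) :=
        h1
      exact presheaf_map_bijective_congr X _ _ (ι_image_homOfLE_image_top X _)
        V.ι_image_top h2
    refine ⟨hA, fun V L hL => ?_⟩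
    exact isInvertible_pushforward_of_invRestrictEquiv _
      (homOfLE_app_bijective X Y hA V) (h V) L hL
  · rintro ⟨hA, hB⟩ V
    exact invRestrictEquiv_of_bijective _ (homOfLE_app_bijective X Y hA V) (hB V)

end Pair

end TensH8
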