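import Groth.Prelude
import Groth.Agent.Lib.PForm4_helper9
import Groth.Agent.Lib.Tens45_helper8
import Groth.Agent.Lib.ProjTens1_helper9
import Groth.Agent.Lib.FAcyc_helper9

/-!
# Castelnuovo–Mumford regularity relative to `P^n_T ⟶ T`: exactness of twisting (helper9)
APPEND-ONLY once landed.
-/

set_option autoImplicit false

namespace KRRRegH9

open AlgebraicGeometry CategoryTheory CategoryTheory.Limits TopologicalSpace Opposite
open PFormH9

universe u

variable (n : ℕ) (T : Scheme.{u})

theorem isInvertible_twistOver (d : ℤ) : PicF.IsInvertible (Twist.twistOver n T d) :=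
  TensH8.isInvertible_pullback _
    (Groth.Agent.ProjTw.isInvertible_twist (CohB1.polyGrading n (ULift.{u} ℤ))
      (Groth.Agent.ProjTens.hcov' n (ULift.{u} ℤ)) d)

theorem isFinLocFree_twistOver (d : ℤ) : FlatMod.IsFinLocFree (Twist.twistOver n T d) :=
  TensH8.isFinLocFree_of_isInvertible (isInvertible_twistOver n T d)

theorem twF_eq (d : ℤ) (F : (KRR.PY n T).Modules) :
    KRR.twF n T d F = (TL (Twist.twistOver n T d)).obj F := rfl

theorem tensorBi_obj_eq (E : (KRR.PY n T).Modules) :
    (DCoh.tensorBi (X := KRR.PY n T)).obj E = TL E := rfl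

/-- Twisting a short exact sequence and passing to abelian sheaves keeps it short exact. -/
theorem shortExact_toAb_twF (S : ShortComplex (KRR.PY n T).Modules) (hS : S.ShortExact) (d : ℤ) :
    ((S.map (TL (Twist.twistOver n T d))).map
      (SheafOfModules.toSheaf.{u} (KRR.PY n T).ringCatSheaf)).ShortExact := by
  obtain ⟨h1, h2⟩ := preserves_TL (isFinLocFree_twistOver n T d)
  haveI := h1
  haveI := h2
  have := Groth.Agent.Lib.ModSiteH8.toSheaf_preservesColimitsOfSize (KRR.PY n T).ringCatSheaf
  have hc : PreservesFiniteColimits (SheafOfModules.toSheaf.{u} (KRR.PY n T).ringCatSheaf) :=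
    ⟨fun _ _ _ => inferInstance⟩
  have hl : PreservesFiniteLimits (SheafOfModules.toSheaf.{u} (KRR.PY n T).ringCatSheaf) :=
    inferInstance
  let G : (KRR.PY n T).Modules ⥤
      Sheaf (Opens.grothendieckTopology (KRR.PY n T)) AddCommGrpCat.{u} :=
    SheafOfModules.toSheaf.{u} (KRR.PY n T).ringCatSheaf
  haveI : PreservesFiniteColimits G := hc
  haveI : PreservesFiniteLimits G := hl
  haveI : G.Additive := inferInstanceAs (SheafOfModules.toSheaf.{u} (KRR.PY n T).ringCatSheaf).Additive
  exact (hS.map_of_exact (TL (Twist.twistOver n T d))).map_of_exact G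

theorem isRegSheaf_X₂ (S : ShortComplex (KRR.PY n T).Modules) (hS : S.ShortExact)
    (hreg₁ : KRR.IsRegSheaf n T S.X₁) (hreg₃ : KRR.IsRegSheaf n T S.X₃) :
    KRR.IsRegSheaf n T S.X₂ := by
  intro i hi
  exact Groth.Agent.Lib.FAcyc.isZero_X₂ (Coh.pushAb (KRR.pr n T)) _
    (shortExact_toAb_twF n T S hS (-(i : ℤ))) i (hreg₁ i hi) (hreg₃ i hi)

end KRRRegH9
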