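import Mathlib
import Groth.Prelude
import Groth.Agent.Lib.Tens41_helper8
import Groth.Agent.Lib.Tens16_helper8
import Groth.Agent.Lib.Bilin_helper8

/-!
# Twisting sheaves `GrTwist.twist` on `Proj` of a ring graded by additive subgroups:
# sections with an inverse are local generators (helper5)

Port of the elementary part of `ProjTwGen_helper5` / `ProjTwUnit_helper5` to the `SetLike` setting.
-/

set_option autoImplicit false
universe u
open CategoryTheory CategoryTheory.Limits AlgebraicGeometry TopologicalSpace Opposite DirectSum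
open HomogeneousLocalization

namespace Groth.Agent.GrTw

section
variable {A σ : Type u} [CommRing A] [SetLike σ A] [AddSubgroupClass σ A] (𝒜 : ℕ → σ)
  [GradedRing 𝒜]

/-- The section `a / t` of `O(n)` over an open on which `t` vanishes nowhere. -/
def fracSecN (n : ℤ) {i j : ℕ} (a : A) (ha : a ∈ 𝒜 i) (t : A) (ht : t ∈ 𝒜 j)
    (hij : (i : ℤ) = j + n) (U : Opens (ProjectiveSpectrum.top 𝒜))
    (hU : ∀ x : U, t ∉ x.1.asHomogeneousIdeal) : GrTwist.sectN (𝒜 := 𝒜) n (op U) :=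
  ⟨fun x => ⟨Localization.mk a ⟨t, hU x⟩,
      Submodule.subset_span ⟨i, j, ⟨a, ha⟩, ⟨t, ht⟩, hU x, hij, rfl⟩⟩,
    fun x => ⟨U, x.2, 𝟙 _, i, j, ⟨a, ha⟩, ⟨t, ht⟩, hU, Or.inl hij, fun _ => rfl⟩⟩

/-- The product of a degree-`m` fraction and a degree-`n` fraction is a degree-`m+n` fraction. -/
theorem mul_mem_twistAt (m n : ℤ) (x : ProjectiveSpectrum 𝒜) (p q : GrTwist.Loc 𝒜 x)
    (hp : p ∈ GrTwist.twistAt 𝒜 m x) (hq : q ∈ GrTwist.twistAt 𝒜 n x) :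
    p * q ∈ GrTwist.twistAt 𝒜 (m + n) x := by
  unfold GrTwist.twistAt at hp
  induction hp using Submodule.span_induction with
  | mem p hp =>
    obtain ⟨i, j, a, s, hs, hij, rfl⟩ := hp
    unfold GrTwist.twistAt at hq
    induction hq using Submodule.span_induction with
    | mem q hq =>
      obtain ⟨i', j', b, t, ht, hij', rfl⟩ := hq
      rw [Localization.mk_mul]
      refine Submodule.subset_span ⟨i + i', j + j', ⟨a.1 * b.1, SetLike.mul_mem_graded a.2 b.2⟩,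
        ⟨s.1 * t.1, SetLike.mul_mem_graded s.2 t.2⟩,
        fun h => (x.isPrime.mem_or_mem h).elim hs ht, by push_cast; omega, rfl⟩
    | zero => rw [mul_zero]; exact zero_mem _
    | add q q' _ _ hq hq' => rw [mul_add]; exact add_mem hq hq'
    | smul c q _ hq =>
      rw [Algebra.mul_smul_comm]
      exact Submodule.smul_mem _ c hq
  | zero => rw [zero_mul]; exact zero_mem _
  | add p p' _ _ hp hp' => rw [add_mul]; exact add_mem hp hp'
  | smul c p _ hp =>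
    rw [Algebra.smul_mul_assoc]
    exact Submodule.smul_mem _ c hp

/-- The product of sections `O(m) × O(n) → O(m+n)`. -/
def mulSec (m n : ℤ) (U : (Opens (ProjectiveSpectrum.top 𝒜))ᵒᵖ) (s : GrTwist.sectN (𝒜 := 𝒜) m U)
    (t : GrTwist.sectN (𝒜 := 𝒜) n U) : GrTwist.sectN (𝒜 := 𝒜) (m + n) U :=
  ⟨fun x => ⟨(s.1 x).1 * (t.1 x).1, mul_mem_twistAt 𝒜 m n x.1 _ _ (s.1 x).2 (t.1 x).2⟩, fun x => by
    obtain ⟨V, hxV, iV, i, j, a, σ, nin, cond, w⟩ := s.2 x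
    obtain ⟨V', hxV', iV', i', j', b, τ, nin', cond', w'⟩ := t.2 x
    refine ⟨V ⊓ V', ⟨hxV, hxV'⟩, Opens.infLELeft _ _ ≫ iV, i + i', j + j',
      ⟨a.1 * b.1, SetLike.mul_mem_graded a.2 b.2⟩, ⟨σ.1 * τ.1, SetLike.mul_mem_graded σ.2 τ.2⟩,
      fun y h => (y.1.isPrime.mem_or_mem h).elim (nin ⟨y.1, y.2.1⟩) (nin' ⟨y.1, y.2.2⟩), ?_,
      fun y => ?_⟩
    · rcases cond with h | h
      · rcases cond' with h' | h'
        · exact Or.inl (by push_cast; omega)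
        · exact Or.inr (show a.1 * b.1 = 0 by rw [h', mul_zero])
      · exact Or.inr (show a.1 * b.1 = 0 by rw [h, zero_mul])
    · have e1 := w ⟨y.1, y.2.1⟩
      have e2 := w' ⟨y.1, y.2.2⟩
      show (s.1 _).1 * (t.1 _).1 = _
      erw [e1, e2]
      rw [Localization.mk_mul]
      rfl⟩

theorem smul_valN (n : ℤ) (U : (Opens (ProjectiveSpectrum.top 𝒜))ᵒᵖ) (c : GrTwist.O (𝒜 := 𝒜) U)
    (s : GrTwist.sectN (𝒜 := 𝒜) n U) (y : U.unop) :
    (((c • s : GrTwist.sectN (𝒜 := 𝒜) n U).1 y : GrTwist.twistAt 𝒜 n y.1) : GrTwist.Loc 𝒜 y.1) =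
    (c.1 y).val * ((s.1 y : GrTwist.twistAt 𝒜 n y.1) : GrTwist.Loc 𝒜 y.1) :=
  GrTwist.coe_smul_val n y.1 (c.1 y) (s.1 y)

/-- Degree-zero fractions come from the homogeneous localisation. -/
theorem exists_val_eq_of_mem_twistAt_zero (x : ProjectiveSpectrum 𝒜) (p : GrTwist.Loc 𝒜 x)
    (hp : p ∈ GrTwist.twistAt 𝒜 0 x) : ∃ c : GrTwist.A0 𝒜 x, c.val = p := by
  unfold GrTwist.twistAt at hp
  induction hp using Submodule.span_induction with
  | mem p hp =>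
    obtain ⟨i, j, a, s, hs, hij, rfl⟩ := hp
    have hij' : i = j := by omega
    subst hij'
    exact ⟨HomogeneousLocalization.mk ⟨i, a, s, hs⟩, HomogeneousLocalization.val_mk _⟩
  | zero => exact ⟨0, HomogeneousLocalization.val_zero⟩
  | add p q _ _ hp hq =>
    obtain ⟨c, rfl⟩ := hp
    obtain ⟨c', rfl⟩ := hq
    exact ⟨c + c', HomogeneousLocalization.val_add _ _⟩
  | smul c q _ hq =>
    obtain ⟨c', rfl⟩ := hq
    refine ⟨c * c', ?_⟩
    rw [HomogeneousLocalization.val_mul, Algebra.smul_def]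
    rfl

/-- A section of `O(0)` as a section of the structure sheaf. -/
noncomputable def sec0ToO (U : (Opens (ProjectiveSpectrum.top 𝒜))ᵒᵖ)
    (t : GrTwist.sectN (𝒜 := 𝒜) 0 U) : GrTwist.O (𝒜 := 𝒜) U :=
  ⟨fun x => Classical.choose (exists_val_eq_of_mem_twistAt_zero 𝒜 x.1 (t.1 x).1 (t.1 x).2),
    fun x => by
      obtain ⟨V, hxV, iV, i, j, a, σ, nin, cond, w⟩ := t.2 x
      rcases cond with hij | ha
      · have hij' : i = j := by omega
        subst hij'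
        refine ⟨V, hxV, iV, i, a, σ, nin, fun y => ?_⟩
        apply HomogeneousLocalization.val_injective
        rw [Classical.choose_spec (exists_val_eq_of_mem_twistAt_zero 𝒜 _ _ (t.1 (iV y)).2),
          HomogeneousLocalization.val_mk]
        exact w y
      · refine ⟨V, hxV, iV, 0, 0, ⟨1, SetLike.GradedOne.one_mem⟩,
          fun y h => y.1.isPrime.ne_top ((Ideal.eq_top_iff_one _).mpr h), fun y => ?_⟩
        apply HomogeneousLocalization.val_injective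
        rw [Classical.choose_spec (exists_val_eq_of_mem_twistAt_zero 𝒜 _ _ (t.1 (iV y)).2),
          HomogeneousLocalization.val_mk]
        refine (w y).trans ?_
        show Localization.mk a.1 _ = Localization.mk 0 _
        rw [ha, Localization.mk_zero, Localization.mk_zero]⟩

theorem sec0ToO_val (U : (Opens (ProjectiveSpectrum.top 𝒜))ᵒᵖ)
    (t : GrTwist.sectN (𝒜 := 𝒜) 0 U) (x : U.unop) :
    ((sec0ToO 𝒜 U t).1 x).val = ((t.1 x : GrTwist.twistAt 𝒜 0 x.1) : GrTwist.Loc 𝒜 x.1) :=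
  Classical.choose_spec (exists_val_eq_of_mem_twistAt_zero 𝒜 x.1 (t.1 x).1 (t.1 x).2)

/-- A section of `O(j)`, `j = 0`, as a section of the structure sheaf. -/
noncomputable def secToO (j : ℤ) (hj : j = 0) (U : (Opens (ProjectiveSpectrum.top 𝒜))ᵒᵖ)
    (t : GrTwist.sectN (𝒜 := 𝒜) j U) : GrTwist.O (𝒜 := 𝒜) U := by
  subst hj
  exact sec0ToO 𝒜 U t

theorem secToO_val (j : ℤ) (hj : j = 0) (U : (Opens (ProjectiveSpectrum.top 𝒜))ᵒᵖ)
    (t : GrTwist.sectN (𝒜 := 𝒜) j U) (x : U.unop) :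
    ((secToO 𝒜 j hj U t).1 x).val = ((t.1 x : GrTwist.twistAt 𝒜 j x.1) : GrTwist.Loc 𝒜 x.1) := by
  subst hj
  exact sec0ToO_val 𝒜 U t x

/-- **A section of `O(k)` with an inverse in `O(-k)` is a generator.** -/
theorem isGen_of_inverse (k : ℤ) (W : (Proj 𝒜).Opens) (e : GrTwist.sectN (𝒜 := 𝒜) k (op W))
    (e' : GrTwist.sectN (𝒜 := 𝒜) (-k) (op W))
    (hee' : ∀ x : W, (((e'.1 x : GrTwist.twistAt 𝒜 (-k) x.1) : GrTwist.Loc 𝒜 x.1)) *
      ((e.1 x : GrTwist.twistAt 𝒜 k x.1) : GrTwist.Loc 𝒜 x.1) = 1) :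
    GenLocH8.IsGen (GrTwist.twist 𝒜 k) W e := by
  intro O hO
  have hres : ∀ x : O,
      ((((QcqsLoc.rF (GrTwist.twist 𝒜 k) hO e : GrTwist.sectN (𝒜 := 𝒜) k (op O)).1 x :
        GrTwist.twistAt 𝒜 k x.1) : GrTwist.Loc 𝒜 x.1)) =
      ((e.1 ⟨x.1, hO x.2⟩ : GrTwist.twistAt 𝒜 k x.1) : GrTwist.Loc 𝒜 x.1) := fun x => rfl
  constructor
  · intro l₀
    obtain ⟨l, rfl⟩ : ∃ l : GrTwist.sectN (𝒜 := 𝒜) k (op O), l = l₀ := ⟨l₀, rfl⟩
    let e'O : GrTwist.sectN (𝒜 := 𝒜) (-k) (op O) := QcqsLoc.rF (GrTwist.twist 𝒜 (-k)) hO e'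
    refine ⟨secToO 𝒜 (k + -k) (add_neg_cancel k) (op O) (mulSec 𝒜 k (-k) (op O) l e'O), ?_⟩
    apply Subtype.ext
    funext x
    apply Subtype.ext
    refine Eq.trans ?_ (smul_valN 𝒜 k (op O) _ (QcqsLoc.rF (GrTwist.twist 𝒜 k) hO e) x).symm
    rw [secToO_val, hres x]
    have h1 : ((((mulSec 𝒜 k (-k) (op O) l e'O).1 x : GrTwist.twistAt 𝒜 (k + -k) x.1) :
        GrTwist.Loc 𝒜 x.1)) = ((l.1 x : GrTwist.twistAt 𝒜 k x.1) : GrTwist.Loc 𝒜 x.1) *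
        ((e'.1 ⟨x.1, hO x.2⟩ : GrTwist.twistAt 𝒜 (-k) x.1) : GrTwist.Loc 𝒜 x.1) := rfl
    have hu : ((e'.1 ⟨x.1, hO x.2⟩ : GrTwist.twistAt 𝒜 (-k) x.1) : GrTwist.Loc 𝒜 x.1) *
        ((e.1 ⟨x.1, hO x.2⟩ : GrTwist.twistAt 𝒜 k x.1) : GrTwist.Loc 𝒜 x.1) = 1 :=
      hee' ⟨x.1, hO x.2⟩
    refine Eq.trans ?_ (congrArg (· * ((e.1 ⟨x.1, hO x.2⟩ : GrTwist.twistAt 𝒜 k x.1) :
      GrTwist.Loc 𝒜 x.1)) h1).symm
    exact ((mul_assoc _ _ _).trans ((congrArg (((l.1 x : GrTwist.twistAt 𝒜 k x.1) :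
      GrTwist.Loc 𝒜 x.1) * ·) hu).trans (mul_one _))).symm
  · intro c₀ hc
    obtain ⟨c, rfl⟩ : ∃ c : GrTwist.O (𝒜 := 𝒜) (op O), c = c₀ := ⟨c₀, rfl⟩
    apply Subtype.ext
    funext x
    apply HomogeneousLocalization.val_injective
    have h0 := congrArg (fun s : GrTwist.sectN (𝒜 := 𝒜) k (op O) =>
      ((s.1 x : GrTwist.twistAt 𝒜 k x.1) : GrTwist.Loc 𝒜 x.1)) hc
    have h1 := (smul_valN 𝒜 k (op O) c (QcqsLoc.rF (GrTwist.twist 𝒜 k) hO e) x).symm.trans h0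
    rw [hres x] at h1
    have h2 : (c.1 x).val * ((e.1 ⟨x.1, hO x.2⟩ : GrTwist.twistAt 𝒜 k x.1) : GrTwist.Loc 𝒜 x.1) = 0 :=
      h1
    have hu : ((e'.1 ⟨x.1, hO x.2⟩ : GrTwist.twistAt 𝒜 (-k) x.1) : GrTwist.Loc 𝒜 x.1) *
        ((e.1 ⟨x.1, hO x.2⟩ : GrTwist.twistAt 𝒜 k x.1) : GrTwist.Loc 𝒜 x.1) = 1 :=
      hee' ⟨x.1, hO x.2⟩
    have h4 : (c.1 x).val = 0 := by
      calc (c.1 x).val = (c.1 x).val * 1 := (mul_one _).symm
        _ = (c.1 x).val * (((e'.1 ⟨x.1, hO x.2⟩ : GrTwist.twistAt 𝒜 (-k) x.1) : GrTwist.Loc 𝒜 x.1) *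
            ((e.1 ⟨x.1, hO x.2⟩ : GrTwist.twistAt 𝒜 k x.1) : GrTwist.Loc 𝒜 x.1)) :=
            congrArg ((c.1 x).val * ·) hu.symm
        _ = ((c.1 x).val * ((e.1 ⟨x.1, hO x.2⟩ : GrTwist.twistAt 𝒜 k x.1) : GrTwist.Loc 𝒜 x.1)) *
            ((e'.1 ⟨x.1, hO x.2⟩ : GrTwist.twistAt 𝒜 (-k) x.1) : GrTwist.Loc 𝒜 x.1) := by ring
        _ = 0 := by rw [h2, zero_mul]
    exact h4.trans (HomogeneousLocalization.val_zero).symm

theorem toNat_mul_eq (n : ℤ) (d : ℕ) :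
    ((n.toNat • d : ℕ) : ℤ) = ((-n).toNat • d : ℕ) + n * d := by
  have h := Int.toNat_sub_toNat_neg n
  simp only [smul_eq_mul]
  push_cast
  linear_combination (d : ℤ) * h

/-- The section `f^n` of `O(nd)` over `D_+(f)` (`f` homogeneous of degree `d`, `n` any integer). -/
def genSec {d : ℕ} {f : A} (hf : f ∈ 𝒜 d) (n : ℤ) :
    GrTwist.sectN (𝒜 := 𝒜) (n * d) (op (ProjectiveSpectrum.basicOpen 𝒜 f)) :=
  fracSecN 𝒜 (n * d) (f ^ n.toNat) (SetLike.pow_mem_graded n.toNat hf)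
    (f ^ (-n).toNat) (SetLike.pow_mem_graded (-n).toNat hf) (toNat_mul_eq n d) _
    (fun x h => x.2 (x.1.isPrime.mem_of_pow_mem _ h))

/-- The section `f^{-n}` of `O(-nd)` over `D_+(f)`. -/
def genSecInv {d : ℕ} {f : A} (hf : f ∈ 𝒜 d) (n : ℤ) :
    GrTwist.sectN (𝒜 := 𝒜) (-(n * d)) (op (ProjectiveSpectrum.basicOpen 𝒜 f)) :=
  fracSecN 𝒜 (-(n * d)) (f ^ (-n).toNat) (SetLike.pow_mem_graded (-n).toNat hf)
    (f ^ n.toNat) (SetLike.pow_mem_graded n.toNat hf)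
    (by have := toNat_mul_eq n d; omega) _
    (fun x h => x.2 (x.1.isPrime.mem_of_pow_mem _ h))

/-- **`f^n` generates `O(nd)` over `D_+(f)`.** -/
theorem isGen_genSec {d : ℕ} {f : A} (hf : f ∈ 𝒜 d) (n : ℤ) :
    GenLocH8.IsGen (GrTwist.twist 𝒜 (n * d)) (Proj.basicOpen 𝒜 f) (genSec 𝒜 hf n) := by
  refine isGen_of_inverse 𝒜 (n * d) (Proj.basicOpen 𝒜 f) (genSec 𝒜 hf n)
    (genSecInv 𝒜 hf n) (fun x => ?_)
  show Localization.mk _ _ * Localization.mk _ _ = 1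
  rw [Localization.mk_mul]
  exact (Localization.mk_eq_mk_iff.mpr (Localization.r_iff_exists.mpr
    ⟨1, by simp only [OneMemClass.coe_one, one_mul, mul_one, Submonoid.coe_mul]; ring⟩)).trans
    Localization.mk_one

/-- Every point of `Proj` lies in some `D_+(g)` with `g` homogeneous of positive degree. -/
theorem exists_pos_homog_not_mem (y : ProjectiveSpectrum 𝒜) :
    ∃ (m : ℕ) (g : A), 0 < m ∧ g ∈ 𝒜 m ∧ g ∉ y.asHomogeneousIdeal := by
  by_contra hcon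
  push Not at hcon
  apply y.not_irrelevant_le
  intro a ha
  have ha0 : GradedRing.proj 𝒜 0 a = 0 := (HomogeneousIdeal.mem_irrelevant_iff 𝒜 a).mp ha
  refine (y.asHomogeneousIdeal.isHomogeneous.mem_iff).mpr (fun l => ?_)
  rcases Nat.eq_zero_or_pos l with rfl | hl
  · have : (DirectSum.decompose 𝒜 a 0 : A) = 0 := ha0
    rw [this]
    exact Ideal.zero_mem _
  · exact hcon l _ hl (DirectSum.decompose 𝒜 a l).2

/-- Homogeneous positive-degree basic opens form a basis of `Proj`. -/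
theorem exists_homog_basicOpen (Y : (Proj 𝒜).Opens) (y : Proj 𝒜) (hy : y ∈ Y) :
    ∃ (m : ℕ) (h : A), 0 < m ∧ h ∈ 𝒜 m ∧ y ∈ Proj.basicOpen 𝒜 h ∧ Proj.basicOpen 𝒜 h ≤ Y := by
  obtain ⟨_, ⟨r, rfl⟩, hyr, hrY⟩ :=
    (ProjectiveSpectrum.isTopologicalBasis_basic_opens 𝒜).exists_subset_of_mem_open hy Y.2
  have hyr' : r ∉ (y : ProjectiveSpectrum 𝒜).asHomogeneousIdeal := hyr
  obtain ⟨l, hl⟩ : ∃ l, (DirectSum.decompose 𝒜 r l : A) ∉
      (y : ProjectiveSpectrum 𝒜).asHomogeneousIdeal := by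
    by_contra hcon
    push Not at hcon
    exact hyr' (((y : ProjectiveSpectrum 𝒜).asHomogeneousIdeal.isHomogeneous.mem_iff).mpr hcon)
  obtain ⟨m, g, hm, hg, hgy⟩ := exists_pos_homog_not_mem 𝒜 (y : ProjectiveSpectrum 𝒜)
  refine ⟨l + m, (DirectSum.decompose 𝒜 r l : A) * g, by omega,
    SetLike.mul_mem_graded (DirectSum.decompose 𝒜 r l).2 hg,
    fun h => ((y : ProjectiveSpectrum 𝒜).isPrime.mem_or_mem h).elim hl hgy, ?_⟩
  intro P hP
  apply hrY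
  show r ∉ (P : ProjectiveSpectrum 𝒜).asHomogeneousIdeal
  intro hr
  exact hP (Ideal.mul_mem_right _ _
    (((P : ProjectiveSpectrum 𝒜).asHomogeneousIdeal.isHomogeneous.mem_iff).mp hr l))

end

end Groth.Agent.GrTw
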