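import Mathlib
import Groth.Prelude
import Groth.Agent.Lib.FLF6_helper8
import Groth.Agent.Lib.DimGenFib_helper8

/-!
# Torsion-free coherent modules on regular schemes of dimension at most one (helper8)
APPEND-ONLY once landed.
-/

set_option autoImplicit false

namespace FLFH8

open AlgebraicGeometry CategoryTheory CategoryTheory.Limits TopologicalSpace Opposite

universe u

/-- A regular local domain of dimension at most one is a principal ideal ring. -/
theorem isPrincipalIdealRing_of_regular_dim_le_one (R : Type*) [CommRing R] [IsDomain R]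
    [IsRegularLocalRing R] (h : ringKrullDim R ≤ 1) : IsPrincipalIdealRing R := by
  have h1 := (IsRegularLocalRing.iff_finrank_cotangentSpace R).1 inferInstance
  have h2 : Module.finrank (IsLocalRing.ResidueField R) (IsLocalRing.CotangentSpace R) ≤ 1 := by
    have : ((Module.finrank (IsLocalRing.ResidueField R) (IsLocalRing.CotangentSpace R) : ℕ) :
        WithBot ℕ∞) ≤ 1 := h1 ▸ h
    exact_mod_cast this
  exact ((tfae_of_isNoetherianRing_of_isLocalRing_of_isDomain (R := R)).out 5 0).1 h2

theorem noZeroSMulDivisors_of_free (R M : Type*) [CommRing R] [IsDomain R] [AddCommGroup M]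
    [Module R M] [Module.Free R M] : NoZeroSMulDivisors R M := by
  rw [noZeroSMulDivisors_iff_right_eq_zero_of_smul]
  intro r hr m hm
  have h1 : Module.IsTorsionFree R M := inferInstance
  exact h1.isSMulRegular (isRegular_of_ne_zero hr) (hm.trans (smul_zero r).symm)

variable {X : Scheme.{u}}

/-- A coherent module on a locally Noetherian scheme is of finite presentation. -/
theorem isFinitePresentation_of_isCoh [IsLocallyNoetherian X] (F : X.Modules) [F.IsQuasicoherent]
    [SheafOfModules.IsFiniteType (R := X.ringCatSheaf) F] :
    SheafOfModules.IsFinitePresentation (R := X.ringCatSheaf) F := by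
  refine QCohFP2.isFinitePresentation_of_sections_cover F (fun W : X.affineOpens => W.1)
    (fun W => W.2) (iSup_affineOpens_eq_top X) (fun W => ?_)
  haveI : IsNoetherianRing Γ(X, W.1) := IsLocallyNoetherian.component_noetherian W
  haveI : Module.Finite Γ(X, W.1) Γ(F, W.1) := QCohFT.finite_of_isFiniteType F W.2
  exact Module.finitePresentation_of_finite _ _

theorem torsionFree_iff_finLocFree (X : Scheme.{u}) [IsIntegral X] [IsLocallyNoetherian X]
    (hreg : ∀ x : ↥X, IsRegularLocalRing (X.presheaf.stalk x))
    (hdim : topologicalKrullDim ↥X ≤ 1) (F : X.Modules) (hF : Coh.IsCoh F) :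
    (∀ x : ↥X, NoZeroSMulDivisors (X.presheaf.stalk x) (F.presheaf.stalk x)) ↔
      FlatMod.IsFinLocFree F := by
  obtain ⟨hq, hft⟩ := hF
  haveI : F.IsQuasicoherent := hq
  haveI : SheafOfModules.IsFiniteType (R := X.ringCatSheaf) F := hft
  haveI := isFinitePresentation_of_isCoh F
  constructor
  · intro h x
    haveI := hreg x
    haveI := h x
    haveI : IsPrincipalIdealRing (X.presheaf.stalk x) :=
      isPrincipalIdealRing_of_regular_dim_le_one _
        ((Groth.Agent.DimGenFibH8.stalk_dim_le_topDim X x).trans hdim)
    haveI : Module.Finite (X.presheaf.stalk x) (F.presheaf.stalk x) := finite_stalk F x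
    exact exists_free_nhd F x Module.free_of_finite_type_torsion_free'
  · intro h x
    haveI := free_stalk_of_finLocFree F h x
    exact noZeroSMulDivisors_of_free _ _

end FLFH8
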