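import Mathlib
import Groth.Prelude
import Groth.Agent.Lib.Depth_helper5
import Groth.Agent.Lib.AnnSh2_helper8
import Groth.Agent.Lib.TFFree_helper8

/-!
# No embedded associated points ⟺ (S₁) for coherent modules (helper5)
-/

universe u

open CategoryTheory IsLocalRing AlgebraicGeometry TopologicalSpace

namespace Groth.Agent.EmbS1

open Groth.Agent.DepthLib

/-- `(S₁)` for a finite module over a Noetherian local ring in terms of associated primes -/
theorem s1_iff (R : Type u) [CommRing R] [IsLocalRing R] [IsNoetherianRing R] (N : Type u)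
    [AddCommGroup N] [Module R N] [Module.Finite R N] :
    (min (1 : WithBot ℕ∞) (Module.supportDim R N) ≤
        ((LocCoh.depth R N : ℕ∞) : WithBot ℕ∞)) ↔
      (maximalIdeal R ∈ associatedPrimes R N →
        ∀ q ∈ associatedPrimes R N, q = maximalIdeal R) := by
  by_cases hsub : Subsingleton N
  · have h1 : Module.supportDim R N = ⊥ := Module.supportDim_eq_bot_of_subsingleton R N
    have h2 : associatedPrimes R N = ∅ := associatedPrimes.eq_empty_of_subsingleton
    constructor
    · intro _ hm
      rw [h2] at hm
      exact absurd hm (Set.notMem_empty _)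
    · intro _
      rw [h1]
      simp
  · haveI : Nontrivial N := not_subsingleton_iff_nontrivial.mp hsub
    constructor
    · intro h hm q hq
      have hd : ¬ 1 ≤ LocCoh.idealDepth (maximalIdeal R) N :=
        not_one_le_idealDepth_of_le_associatedPrime _ N _ hm le_rfl
      have hd0 : LocCoh.depth R N = 0 := by
        unfold LocCoh.depth
        exact ENat.lt_one_iff_eq_zero.mp (not_le.mp hd)
      rw [hd0] at h
      have hsd : Module.supportDim R N ≤ 0 := by
        rcases min_le_iff.mp h with h' | h'
        · exfalso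
          have : (1 : ℕ∞) ≤ 0 := by exact_mod_cast h'
          simp at this
        · exact_mod_cast h'
      by_contra hne
      have hqm : q ≤ maximalIdeal R := IsLocalRing.le_maximalIdeal hq.isPrime.ne_top
      have hlt : q < maximalIdeal R := lt_of_le_of_ne hqm hne
      have hqs : (⟨q, hq.isPrime⟩ : PrimeSpectrum R) ∈ Module.support R N := by
        rw [Module.mem_support_iff_of_finite, ← Submodule.annihilator_top]
        exact hq.annihilator_le
      have hms : closedPoint R ∈ Module.support R N := IsLocalRing.closedPoint_mem_support R N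
      have h1 : (1 : WithBot ℕ∞) ≤ Module.supportDim R N := by
        unfold Module.supportDim
        rw [Order.one_le_krullDim_iff]
        exact ⟨⟨_, hqs⟩, ⟨_, hms⟩, hlt⟩
      have : (1 : WithBot ℕ∞) ≤ 0 := h1.trans hsd
      have : (1 : ℕ∞) ≤ 0 := by exact_mod_cast this
      simp at this
    · intro h
      by_cases hm : maximalIdeal R ∈ associatedPrimes R N
      · have hall := h hm
        have hsd : Module.supportDim R N ≤ 0 := by
          unfold Module.supportDim
          have hP : ∀ P ∈ Module.support R N, P = closedPoint R := by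
            intro P hP
            rw [Module.mem_support_iff_of_finite] at hP
            obtain ⟨q0, hq0, hq0P⟩ := Ideal.exists_minimalPrimes_le hP
            have hq0ass :=
              Module.associatedPrimes.minimalPrimes_annihilator_subset_associatedPrimes R N hq0
            have hq0m := hall q0 hq0ass
            apply PrimeSpectrum.ext
            refine le_antisymm (IsLocalRing.le_maximalIdeal P.isPrime.ne_top) ?_
            show maximalIdeal R ≤ P.asIdeal
            rw [← hq0m]
            exact hq0P
          haveI : Subsingleton (Module.support R N) :=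
            ⟨fun a b => Subtype.ext ((hP a a.2).trans (hP b b.2).symm)⟩
          exact Order.krullDim_nonpos_of_subsingleton
        refine (min_le_right _ _).trans (hsd.trans ?_)
        exact_mod_cast (zero_le : (0 : ℕ∞) ≤ LocCoh.depth R N)
      · have hd : 1 ≤ LocCoh.idealDepth (maximalIdeal R) N := by
          by_contra hd
          obtain ⟨q, hq, hmq⟩ := exists_associatedPrime_of_not_one_le _ N hd
          have hqe : maximalIdeal R = q :=
            (maximalIdeal.isMaximal R).eq_of_le hq.isPrime.ne_top hmq
          exact hm (hqe ▸ hq)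
        refine (min_le_left _ _).trans ?_
        have : ((1 : ℕ∞) : WithBot ℕ∞) ≤ ((LocCoh.depth R N : ℕ∞) : WithBot ℕ∞) := by
          unfold LocCoh.depth
          exact_mod_cast hd
        exact_mod_cast this

section scheme

variable {X : Scheme.{u}} [IsLocallyNoetherian X] (F : X.Modules) [F.IsQuasicoherent]

/-- associated points in an affine open are the associated primes of the module of sections -/
theorem isAssPoint_iff {U : X.Opens} (hU : IsAffineOpen U) {y : X} (hy : y ∈ U) :
    Curv2.IsAssPoint F y ↔
      (hU.primeIdealOf ⟨y, hy⟩).asIdeal ∈ associatedPrimes Γ(X, U) Γ(F, U) := by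
  set p := (hU.primeIdealOf ⟨y, hy⟩).asIdeal with hp
  letI := TopCat.Presheaf.algebra_section_stalk X.presheaf (⟨y, hy⟩ : U)
  haveI : IsLocalization.AtPrime (X.presheaf.stalk y) p := hU.isLocalization_stalk ⟨y, hy⟩
  letI modA : Module Γ(X, U) (F.presheaf.stalk y) := StalkLocH8.modSec F hy
  haveI : IsScalarTower Γ(X, U) (X.presheaf.stalk y) (F.presheaf.stalk y) :=
    IsScalarTower.of_algebraMap_smul (fun _ _ => rfl)
  haveI := StalkLocH8.isLocalizedModule_germLin F hU hy
  haveI : IsNoetherianRing Γ(X, U) := IsLocallyNoetherian.component_noetherian ⟨U, hU⟩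
  have h := Module.associatedPrimes.preimage_comap_associatedPrimes_eq_associatedPrimes_of_isLocalizedModule
    (S := p.primeCompl) (R' := X.presheaf.stalk y) (f := StalkLocH8.germLin F hy)
  have hcomap : (maximalIdeal (X.presheaf.stalk y)).comap
      (algebraMap Γ(X, U) (X.presheaf.stalk y)) = p := by
    rw [hp, hU.primeIdealOf_eq_map_closedPoint]
    rfl
  change maximalIdeal (X.presheaf.stalk y) ∈
    associatedPrimes (X.presheaf.stalk y) (F.presheaf.stalk y) ↔ _
  rw [← h, Set.mem_preimage, hcomap]

/-- pointwise translation of "no embedded point below `x`" to the stalk -/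
theorem pointwise (x : X) :
    (Curv2.IsAssPoint F x → ∀ y : X, Curv2.IsAssPoint F y → y ⤳ x → y = x) ↔
      (maximalIdeal (X.presheaf.stalk x) ∈
          associatedPrimes (X.presheaf.stalk x) (F.presheaf.stalk x) →
        ∀ q ∈ associatedPrimes (X.presheaf.stalk x) (F.presheaf.stalk x),
          q = maximalIdeal (X.presheaf.stalk x)) := by
  obtain ⟨_, ⟨U, hU : IsAffineOpen U, rfl⟩, hxU, -⟩ :=
    (X.isBasis_affineOpens).exists_subset_of_mem_open (Set.mem_univ x) isOpen_univ
  have hx : x ∈ U := hxU
  set p := (hU.primeIdealOf ⟨x, hx⟩).asIdeal with hp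
  letI := TopCat.Presheaf.algebra_section_stalk X.presheaf (⟨x, hx⟩ : U)
  haveI : IsLocalization.AtPrime (X.presheaf.stalk x) p := hU.isLocalization_stalk ⟨x, hx⟩
  letI modA : Module Γ(X, U) (F.presheaf.stalk x) := StalkLocH8.modSec F hx
  haveI : IsScalarTower Γ(X, U) (X.presheaf.stalk x) (F.presheaf.stalk x) :=
    IsScalarTower.of_algebraMap_smul (fun _ _ => rfl)
  haveI := StalkLocH8.isLocalizedModule_germLin F hU hx
  haveI : IsNoetherianRing Γ(X, U) := IsLocallyNoetherian.component_noetherian ⟨U, hU⟩
  have h := Module.associatedPrimes.preimage_comap_associatedPrimes_eq_associatedPrimes_of_isLocalizedModule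
    (S := p.primeCompl) (R' := X.presheaf.stalk x) (f := StalkLocH8.germLin F hx)
  have hcomap : (maximalIdeal (X.presheaf.stalk x)).comap
      (algebraMap Γ(X, U) (X.presheaf.stalk x)) = p := by
    rw [hp, hU.primeIdealOf_eq_map_closedPoint]
    rfl
  constructor
  · intro H hm q hq
    have hx_ass : Curv2.IsAssPoint F x := hm
    have hP : q.comap (algebraMap Γ(X, U) (X.presheaf.stalk x)) ∈
        associatedPrimes Γ(X, U) Γ(F, U) := by
      rw [← h] at hq
      exact hq
    haveI := hq.isPrime
    set P : PrimeSpectrum Γ(X, U) :=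
      ⟨q.comap (algebraMap Γ(X, U) (X.presheaf.stalk x)), hP.isPrime⟩ with hPdef
    have hyU : hU.fromSpec P ∈ U := by
      have h' : hU.fromSpec P ∈ hU.fromSpec.opensRange := ⟨P, rfl⟩
      rwa [hU.opensRange_fromSpec] at h'
    have hPy : hU.primeIdealOf ⟨hU.fromSpec P, hyU⟩ = P :=
      hU.fromSpec.isOpenEmbedding.injective (hU.fromSpec_primeIdealOf ⟨_, hyU⟩)
    have hy_ass : Curv2.IsAssPoint F (hU.fromSpec P) :=
      (isAssPoint_iff F hU hyU).mpr (by rw [hPy]; exact hP)
    have hle : P ≤ hU.primeIdealOf ⟨x, hx⟩ := by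
      change q.comap _ ≤ p
      rw [← hcomap]
      exact Ideal.comap_mono (IsLocalRing.le_maximalIdeal hq.isPrime.ne_top)
    have hspec : hU.fromSpec P ⤳ x := by
      have h1 : P ⤳ hU.primeIdealOf ⟨x, hx⟩ := (PrimeSpectrum.le_iff_specializes _ _).mp hle
      have h2 := h1.map hU.fromSpec.continuous
      rwa [hU.fromSpec_primeIdealOf] at h2
    have hyx := H hx_ass _ hy_ass hspec
    have hPp : q.comap (algebraMap Γ(X, U) (X.presheaf.stalk x)) = p := by
      have h3 : P = hU.primeIdealOf ⟨x, hx⟩ := by
        rw [← hPy]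
        congr 1
        exact Subtype.ext hyx
      exact congrArg PrimeSpectrum.asIdeal h3
    have e1 : Ideal.map (algebraMap Γ(X, U) (X.presheaf.stalk x))
        (q.comap (algebraMap Γ(X, U) (X.presheaf.stalk x))) = q :=
      IsLocalization.map_under p.primeCompl (X.presheaf.stalk x) q
    have e2 : Ideal.map (algebraMap Γ(X, U) (X.presheaf.stalk x))
        ((maximalIdeal (X.presheaf.stalk x)).comap
          (algebraMap Γ(X, U) (X.presheaf.stalk x))) = maximalIdeal (X.presheaf.stalk x) :=
      IsLocalization.map_under p.primeCompl (X.presheaf.stalk x) _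
    rw [← e1, hPp, ← hcomap, e2]
  · intro H hxa y hya hyx
    have hyU : y ∈ U := hyx.mem_open U.isOpen hx
    have hPy := (isAssPoint_iff F hU hyU).mp hya
    have hle : hU.primeIdealOf ⟨y, hyU⟩ ≤ hU.primeIdealOf ⟨x, hx⟩ := by
      rw [PrimeSpectrum.le_iff_specializes]
      have h1 : (⟨y, hyU⟩ : U) ⤳ ⟨x, hx⟩ := (subtype_specializes_iff _ _).mpr hyx
      exact h1.map hU.isoSpec.hom.continuous
    set py := (hU.primeIdealOf ⟨y, hyU⟩).asIdeal with hpy
    have hdisj : Disjoint (p.primeCompl : Set Γ(X, U)) (py : Set Γ(X, U)) := by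
      rw [Set.disjoint_left]
      intro a ha hay
      exact ha (hle hay)
    have hcm : (py.map (algebraMap Γ(X, U) (X.presheaf.stalk x))).comap
        (algebraMap Γ(X, U) (X.presheaf.stalk x)) = py :=
      IsLocalization.comap_map_of_isPrime_disjoint p.primeCompl (X.presheaf.stalk x)
        inferInstance hdisj
    have hq : py.map (algebraMap Γ(X, U) (X.presheaf.stalk x)) ∈
        associatedPrimes (X.presheaf.stalk x) (F.presheaf.stalk x) := by
      rw [← h, Set.mem_preimage, hcm]
      exact hPy
    have hqm := H hxa _ hq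
    have hpp : py = p := by rw [← hcm, hqm, hcomap]
    have e1 := hU.fromSpec_primeIdealOf ⟨y, hyU⟩
    have e2 := hU.fromSpec_primeIdealOf ⟨x, hx⟩
    have e3 : hU.primeIdealOf ⟨y, hyU⟩ = hU.primeIdealOf ⟨x, hx⟩ := PrimeSpectrum.ext hpp
    rw [e3] at e1
    exact e1.symm.trans e2

end scheme

end Groth.Agent.EmbS1
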