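import Mathlib
import Groth.Prelude
import Groth.Agent.Lib.Depth_helper5
import Groth.Agent.Lib.EmbS1_helper5
import Groth.Agent.Lib.QCohCrit2_helper9

/-!
# Isomorphism criterion via depth ≥ 2 (helper5)

A morphism `φ : F ⟶ G` of quasi-coherent modules on a locally Noetherian scheme, `F` coherent, such that
at every point either `φ_x` is bijective or (`depth F_x ≥ 2` and `x ∉ Ass G`), is an isomorphism.
-/

universe u

open CategoryTheory IsLocalRing AlgebraicGeometry TopologicalSpace Opposite

namespace Groth.Agent.IsoCrit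

open Groth.Agent.DepthLib RingTheory.Sequence

/-- local algebra: if `ψ : M' → N'` is injective, `depth M' ≥ 2`, and `n' ∉ im ψ` with `𝔪 n' ⊆ im ψ`,
then `𝔪 ∈ Ass N'`. -/
theorem ass_of_depth_two (B : Type u) [CommRing B] [IsLocalRing B] (M' N' : Type u)
    [AddCommGroup M'] [Module B M'] [Module.Finite B M'] [AddCommGroup N'] [Module B N']
    (ψ : M' →ₗ[B] N') (hinj : Function.Injective ψ) (hd : (2 : ℕ∞) ≤ LocCoh.depth B M')
    (n' : N') (hn' : n' ∉ LinearMap.range ψ)
    (hm : ∀ t ∈ maximalIdeal B, t • n' ∈ LinearMap.range ψ) :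
    maximalIdeal B ∈ associatedPrimes B N' := by
  have key : ∀ n'' : N', n'' ≠ 0 → (∀ t ∈ maximalIdeal B, t • n'' = 0) →
      maximalIdeal B ∈ associatedPrimes B N' := by
    intro n'' hne hz
    have he : maximalIdeal B = (⊥ : Submodule B N').colon {n''} := ?_
    · exact ⟨inferInstance, n'', by
        rw [← he]; exact (Ideal.IsPrime.radical inferInstance).symm⟩
    apply le_antisymm
    · intro t ht
      rw [Submodule.mem_colon_singleton, Submodule.mem_bot]
      exact hz t ht
    · apply IsLocalRing.le_maximalIdeal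
      intro htop
      have h1 : (1 : B) ∈ (⊥ : Submodule B N').colon {n''} := by rw [htop]; trivial
      rw [Submodule.mem_colon_singleton, Submodule.mem_bot, one_smul] at h1
      exact hne h1
  have h2 : ((2 : ℕ) : ℕ∞) ≤ LocCoh.idealDepth (maximalIdeal B) M' := by
    unfold LocCoh.depth at hd
    exact_mod_cast hd
  rw [le_idealDepth_iff] at h2
  rcases h2 with htop | ⟨rs, hreg, hmem, hlen⟩
  · -- `M' = 0`
    have hbot : (⊤ : Submodule B M') = ⊥ := by
      apply Submodule.eq_bot_of_le_smul_of_le_jacobson_bot (maximalIdeal B) ⊤ Module.Finite.fg_top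
      · rw [htop]
      · rw [IsLocalRing.jacobson_eq_maximalIdeal ⊥ bot_ne_top]
    have hzero : ∀ m' : M', m' = 0 := by
      intro m'
      have : m' ∈ (⊤ : Submodule B M') := Submodule.mem_top
      rw [hbot, Submodule.mem_bot] at this
      exact this
    refine key n' ?_ ?_
    · rintro rfl
      exact hn' (Submodule.zero_mem _)
    · intro t ht
      obtain ⟨m', hm'⟩ := hm t ht
      rw [← hm', hzero m', map_zero]
  · match rs, hlen with
    | [a, b], _ =>
      rw [isWeaklyRegular_cons_iff] at hreg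
      obtain ⟨ha, hreg'⟩ := hreg
      rw [isWeaklyRegular_cons_iff] at hreg'
      obtain ⟨hb, -⟩ := hreg'
      have ham : a ∈ maximalIdeal B := hmem a (by simp)
      have hbm : b ∈ maximalIdeal B := hmem b (by simp)
      obtain ⟨ma, hma⟩ := hm a ham
      obtain ⟨mb, hmb⟩ := hm b hbm
      have e1 : b • ma = a • mb := by
        apply hinj
        rw [map_smul, map_smul, hma, hmb, smul_smul, smul_smul, mul_comm]
      have e2 : (Submodule.Quotient.mk ma : QuotSMulTop a M') = 0 := by
        apply hb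
        show b • (Submodule.Quotient.mk ma : QuotSMulTop a M') = b • 0
        rw [smul_zero, ← Submodule.Quotient.mk_smul, e1, Submodule.Quotient.mk_eq_zero]
        exact Submodule.smul_mem_pointwise_smul mb a ⊤ Submodule.mem_top
      rw [Submodule.Quotient.mk_eq_zero, Submodule.mem_smul_pointwise_iff_exists] at e2
      obtain ⟨m'', -, hm''⟩ := e2
      have hane : a • (n' - ψ m'') = 0 := by
        rw [smul_sub, ← map_smul, hm'', hma, sub_self]
      have hnr : n' - ψ m'' ∉ LinearMap.range ψ := by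
        rintro ⟨z, hz⟩
        apply hn'
        refine ⟨z + m'', ?_⟩
        rw [map_add, hz, sub_add_cancel]
      refine key (n' - ψ m'') ?_ ?_
      · intro h0
        apply hnr
        rw [h0]
        exact Submodule.zero_mem _
      · intro t ht
        obtain ⟨mt, hmt⟩ := hm t ht
        have e3 : ψ (mt - t • m'') = t • (n' - ψ m'') := by
          rw [map_sub, map_smul, hmt, smul_sub]
        have e4 : a • (mt - t • m'') = 0 := by
          apply hinj
          rw [map_smul, e3, map_zero, smul_comm, hane, smul_zero]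
        have e5 : mt - t • m'' = 0 :=
          ha (show a • (mt - t • m'') = a • 0 by rw [e4, smul_zero])
        rw [← e3, e5, map_zero]

section scheme

variable {X : Scheme.{u}} {F G : X.Modules} (φ : F ⟶ G)

/-- the stalk map as an additive map -/
noncomputable def stalkAdd (x : X) : F.presheaf.stalk x →+ G.presheaf.stalk x :=
  AddCommGrpCat.Hom.hom ((TopCat.Presheaf.stalkFunctor AddCommGrpCat.{u} x).map
    (Scheme.Modules.Hom.mapPresheaf φ))

theorem stalkAdd_germ {U : X.Opens} {x : X} (hx : x ∈ U) (m : Γ(F, U)) :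
    stalkAdd φ x (F.presheaf.germ U x hx m) = G.presheaf.germ U x hx (φ.app U m) :=
  TopCat.Presheaf.stalkFunctor_map_germ_apply U x hx (Scheme.Modules.Hom.mapPresheaf φ) m

/-- the stalk map of a morphism of modules is linear over the stalk of the structure sheaf -/
theorem stalkAdd_smul (x : X) (b : X.presheaf.stalk x) (y : F.presheaf.stalk x) :
    stalkAdd φ x (b • y) = b • stalkAdd φ x y := by
  obtain ⟨W₁, hx₁, r, rfl⟩ := TopCat.Presheaf.exists_germ_eq X.presheaf b
  obtain ⟨W₂, hx₂, m, rfl⟩ := TopCat.Presheaf.exists_germ_eq F.presheaf y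
  have hxW : x ∈ W₁ ⊓ W₂ := ⟨hx₁, hx₂⟩
  rw [← TopCat.Presheaf.germ_res_apply X.presheaf (homOfLE (inf_le_left : W₁ ⊓ W₂ ≤ W₁)) x hxW r,
    ← TopCat.Presheaf.germ_res_apply F.presheaf (homOfLE (inf_le_right : W₁ ⊓ W₂ ≤ W₂)) x hxW m,
    ← Groth.Agent.Lib.QCohLoc_helper4.germ_smul, stalkAdd_germ, stalkAdd_germ,
    Scheme.Modules.Hom.app_smul, Groth.Agent.Lib.QCohLoc_helper4.germ_smul]

/-- the stalk map as a linear map -/
noncomputable def stalkLin (x : X) :
    F.presheaf.stalk x →ₗ[X.presheaf.stalk x] G.presheaf.stalk x where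
  toFun y := stalkAdd φ x y
  map_add' a b := map_add _ a b
  map_smul' b y := stalkAdd_smul φ x b y

theorem stalkLin_germ {U : X.Opens} {x : X} (hx : x ∈ U) (m : Γ(F, U)) :
    stalkLin φ x (F.presheaf.germ U x hx m) = G.presheaf.germ U x hx (φ.app U m) :=
  stalkAdd_germ φ hx m

variable [IsLocallyNoetherian X] [F.IsQuasicoherent]
  [SheafOfModules.IsFiniteType (R := X.ringCatSheaf) F] [G.IsQuasicoherent]

/-- bijectivity on an affine open -/
theorem bijective_app
    (h : ∀ x : X, Function.Bijective ((TopCat.Presheaf.stalkFunctor AddCommGrpCat.{u} x).map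
        (Scheme.Modules.Hom.mapPresheaf φ)) ∨
      ((2 : ℕ∞) ≤ LocCoh.depth (X.presheaf.stalk x) (F.presheaf.stalk x) ∧
        ¬ Curv2.IsAssPoint G x))
    {U : X.Opens} (hU : IsAffineOpen U) : Function.Bijective (φ.app U) := by
  haveI : IsNoetherianRing Γ(X, U) := IsLocallyNoetherian.component_noetherian ⟨U, hU⟩
  -- the linear map on sections
  let fL : Γ(F, U) →ₗ[Γ(X, U)] Γ(G, U) :=
    { toFun := fun m => φ.app U m
      map_add' := fun a b => map_add _ a b
      map_smul' := fun r m => Scheme.Modules.Hom.app_smul φ r m }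
  have hfL : ∀ m, fL m = φ.app U m := fun _ => rfl
  -- common setup at a prime `P`
  have setup : ∀ (P : Ideal Γ(X, U)) [P.IsPrime], ∃ (x : X) (hx : x ∈ U),
      (hU.primeIdealOf ⟨x, hx⟩).asIdeal = P := by
    intro P hPp
    set P' : PrimeSpectrum Γ(X, U) := ⟨P, hPp⟩ with hP'
    have hyU : hU.fromSpec P' ∈ U := by
      have h' : hU.fromSpec P' ∈ hU.fromSpec.opensRange := ⟨P', rfl⟩
      rwa [hU.opensRange_fromSpec] at h'
    have hPy : hU.primeIdealOf ⟨hU.fromSpec P', hyU⟩ = P' :=
      hU.fromSpec.isOpenEmbedding.injective (hU.fromSpec_primeIdealOf ⟨_, hyU⟩)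
    exact ⟨_, hyU, congrArg PrimeSpectrum.asIdeal hPy⟩
  -- injectivity
  have hinj : Function.Injective (φ.app U) := by
    rw [injective_iff_map_eq_zero]
    intro m hm0
    by_contra hmne
    obtain ⟨P, hPass, hle⟩ := exists_le_isAssociatedPrime_of_isNoetherianRing Γ(X, U) m hmne
    haveI := hPass.isPrime
    obtain ⟨x, hx, hPx⟩ := setup P
    letI := TopCat.Presheaf.algebra_section_stalk X.presheaf (⟨x, hx⟩ : U)
    letI modF : Module Γ(X, U) (F.presheaf.stalk x) := StalkLocH8.modSec F hx
    haveI := StalkLocH8.isLocalizedModule_germLin F hU hx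
    haveI : Module.Finite (X.presheaf.stalk x) (F.presheaf.stalk x) := FLFH8.finite_stalk F x
    have hass : Curv2.IsAssPoint F x := by
      rw [Groth.Agent.EmbS1.isAssPoint_iff F hU hx, hPx]
      exact hPass
    have hd : ¬ 1 ≤ LocCoh.idealDepth (maximalIdeal (X.presheaf.stalk x)) (F.presheaf.stalk x) :=
      not_one_le_idealDepth_of_le_associatedPrime _ _ _ hass le_rfl
    have hgne : F.presheaf.germ U x hx m ≠ 0 := by
      intro h0
      have h0' : StalkLocH8.germLin F hx m = 0 := h0
      rw [IsLocalizedModule.eq_zero_iff (hU.primeIdealOf ⟨x, hx⟩).asIdeal.primeCompl] at h0'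
      obtain ⟨c, hc⟩ := h0'
      have hcP : (c : Γ(X, U)) ∈ P := hle (by
        rw [Submodule.mem_colon_singleton, Submodule.mem_bot]; exact hc)
      exact c.2 (hPx.symm.le hcP)
    rcases h x with hbij | ⟨hdep, -⟩
    · apply hgne
      have e0 : stalkLin φ x (F.presheaf.germ U x hx m) = stalkLin φ x 0 := by
        rw [stalkLin_germ, hm0, map_zero, map_zero]
      exact hbij.1 e0
    · apply hd
      unfold LocCoh.depth at hdep
      refine le_trans ?_ hdep
      norm_num
  refine ⟨hinj, ?_⟩
  -- surjectivity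
  by_contra hsurj
  have hex : ∃ n : Γ(G, U), n ∉ LinearMap.range fL := by
    by_contra hcon
    push Not at hcon
    apply hsurj
    intro n
    obtain ⟨m, hm⟩ := hcon n
    exact ⟨m, hm⟩
  obtain ⟨n, hn⟩ := hex
  have hne : (Submodule.Quotient.mk n : Γ(G, U) ⧸ LinearMap.range fL) ≠ 0 := by
    rw [Ne, Submodule.Quotient.mk_eq_zero]
    exact hn
  obtain ⟨P, hPass, -⟩ := exists_le_isAssociatedPrime_of_isNoetherianRing Γ(X, U) _ hne
  obtain ⟨hPp, c, hPc⟩ := isAssociatedPrime_iff.mp hPass
  obtain ⟨n₀, rfl⟩ := Submodule.Quotient.mk_surjective _ c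
  have hP : ∀ a : Γ(X, U), a ∈ P ↔ a • n₀ ∈ LinearMap.range fL := by
    intro a
    rw [hPc, Submodule.mem_colon_singleton, Submodule.mem_bot, ← Submodule.Quotient.mk_smul,
      Submodule.Quotient.mk_eq_zero]
  haveI := hPp
  obtain ⟨x, hx, hPx⟩ := setup P
  letI := TopCat.Presheaf.algebra_section_stalk X.presheaf (⟨x, hx⟩ : U)
  haveI : IsLocalization.AtPrime (X.presheaf.stalk x) (hU.primeIdealOf ⟨x, hx⟩).asIdeal :=
    hU.isLocalization_stalk ⟨x, hx⟩
  letI modF : Module Γ(X, U) (F.presheaf.stalk x) := StalkLocH8.modSec F hx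
  letI modG : Module Γ(X, U) (G.presheaf.stalk x) := StalkLocH8.modSec G hx
  haveI : IsScalarTower Γ(X, U) (X.presheaf.stalk x) (F.presheaf.stalk x) :=
    IsScalarTower.of_algebraMap_smul (fun _ _ => rfl)
  haveI : IsScalarTower Γ(X, U) (X.presheaf.stalk x) (G.presheaf.stalk x) :=
    IsScalarTower.of_algebraMap_smul (fun _ _ => rfl)
  haveI hlocF := StalkLocH8.isLocalizedModule_germLin F hU hx
  haveI hlocG := StalkLocH8.isLocalizedModule_germLin G hU hx
  haveI : Module.Finite (X.presheaf.stalk x) (F.presheaf.stalk x) := FLFH8.finite_stalk F x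
  set S := (hU.primeIdealOf ⟨x, hx⟩).asIdeal.primeCompl with hS
  have hSP : ∀ s : S, (s : Γ(X, U)) ∉ P := by
    intro s hs
    exact s.2 (hPx.symm.le hs)
  set ψ := stalkLin φ x with hψ
  -- `A`-linearity of `ψ`
  have hψA : ∀ (a : Γ(X, U)) (y : F.presheaf.stalk x), ψ (a • y) = a • ψ y := by
    intro a y
    rw [← algebraMap_smul (X.presheaf.stalk x) a y, map_smul, algebraMap_smul]
  have hψg : ∀ m : Γ(F, U), ψ (StalkLocH8.germLin F hx m) = StalkLocH8.germLin G hx (fL m) :=
    fun m => stalkLin_germ φ hx m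
  -- the germ of `n₀` is not in the image
  have hnotrange : StalkLocH8.germLin G hx n₀ ∉ LinearMap.range ψ := by
    rintro ⟨y, hy⟩
    obtain ⟨⟨m, s⟩, hms⟩ := IsLocalizedModule.surj S (StalkLocH8.germLin F hx) y
    have hms' : (s : Γ(X, U)) • y = StalkLocH8.germLin F hx m := hms
    have e1 : StalkLocH8.germLin G hx ((s : Γ(X, U)) • n₀) = StalkLocH8.germLin G hx (fL m) := by
      rw [map_smul, ← hy, ← hψg, ← hms']
      exact (hψA s y).symm
    obtain ⟨c, hc⟩ := IsLocalizedModule.exists_of_eq (S := S) (f := StalkLocH8.germLin G hx) e1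
    have hc' : (c : Γ(X, U)) • ((s : Γ(X, U)) • n₀) = (c : Γ(X, U)) • fL m := hc
    have e2 : ((c : Γ(X, U)) * (s : Γ(X, U))) • n₀ ∈ LinearMap.range fL := by
      refine ⟨(c : Γ(X, U)) • m, ?_⟩
      rw [map_smul, mul_smul]
      exact hc'.symm
    rcases hPp.mem_or_mem ((hP _).mpr e2) with h1 | h1
    · exact hSP c h1
    · exact hSP s h1
  rcases h x with hbij | ⟨hdep, hnass⟩
  · obtain ⟨y, hy⟩ := hbij.2 (StalkLocH8.germLin G hx n₀)
    exact hnotrange ⟨y, hy⟩
  · apply hnass
    show maximalIdeal (X.presheaf.stalk x) ∈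
      associatedPrimes (X.presheaf.stalk x) (G.presheaf.stalk x)
    have hcomap : (maximalIdeal (X.presheaf.stalk x)).comap
        (algebraMap Γ(X, U) (X.presheaf.stalk x)) = P := by
      rw [← hPx, hU.primeIdealOf_eq_map_closedPoint]
      rfl
    refine ass_of_depth_two (X.presheaf.stalk x) (F.presheaf.stalk x) (G.presheaf.stalk x) ψ ?_ hdep
      (StalkLocH8.germLin G hx n₀) hnotrange ?_
    · -- injectivity of `ψ`
      rw [injective_iff_map_eq_zero]
      intro y hy
      obtain ⟨⟨m, s⟩, hms⟩ := IsLocalizedModule.surj S (StalkLocH8.germLin F hx) y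
      have hms' : (s : Γ(X, U)) • y = StalkLocH8.germLin F hx m := hms
      have e1 : StalkLocH8.germLin G hx (fL m) = 0 := by
        rw [← hψg, ← hms']
        have := hψA s y
        rw [hy, smul_zero] at this
        exact this
      rw [IsLocalizedModule.eq_zero_iff S] at e1
      obtain ⟨c, hc⟩ := e1
      have hc' : (c : Γ(X, U)) • fL m = 0 := hc
      have e2 : (c : Γ(X, U)) • m = 0 := by
        apply hinj
        rw [map_zero]
        have : fL ((c : Γ(X, U)) • m) = 0 := by rw [map_smul]; exact hc'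
        exact this
      have e3 : (c : Γ(X, U)) • ((s : Γ(X, U)) • y) = 0 := by
        rw [hms', ← map_smul, e2, map_zero]
      have e4 : (s : Γ(X, U)) • y = 0 :=
        IsLocalizedModule.smul_injective (StalkLocH8.germLin F hx) c
          (show c • ((s : Γ(X, U)) • y) = c • (0 : F.presheaf.stalk x) by
            rw [smul_zero]; exact e3)
      exact IsLocalizedModule.smul_injective (StalkLocH8.germLin F hx) s
        (show s • y = s • (0 : F.presheaf.stalk x) by rw [smul_zero]; exact e4)
    · -- `𝔪 • germ n₀ ⊆ im ψ`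
      intro t ht
      obtain ⟨⟨a, s⟩, has⟩ := IsLocalization.surj S t
      have haP : a ∈ P := by
        rw [← hcomap, Ideal.mem_comap, ← has]
        exact Ideal.mul_mem_right _ _ ht
      obtain ⟨ma, hma⟩ := (hP a).mp haP
      obtain ⟨u, hu⟩ := IsLocalization.map_units (X.presheaf.stalk x) s
      refine ⟨(↑u⁻¹ : X.presheaf.stalk x) • StalkLocH8.germLin F hx ma, ?_⟩
      rw [map_smul, hψg, hma, map_smul, ← algebraMap_smul (X.presheaf.stalk x) a, ← has, ← hu,
        smul_smul, mul_comm, mul_assoc, Units.mul_inv, mul_one]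

/-- the isomorphism criterion -/
theorem main
    (h : ∀ x : X, Function.Bijective ((TopCat.Presheaf.stalkFunctor AddCommGrpCat.{u} x).map
        (Scheme.Modules.Hom.mapPresheaf φ)) ∨
      ((2 : ℕ∞) ≤ LocCoh.depth (X.presheaf.stalk x) (F.presheaf.stalk x) ∧
        ¬ Curv2.IsAssPoint G x)) : IsIso φ :=
  QCohCrit.isIso_of_bijective_on_cover φ (fun U : X.affineOpens => (U : X.Opens))
    (fun U => U.2) (iSup_affineOpens_eq_top X) (fun U => bijective_app φ h U.2)

end scheme

/-- on an integral scheme, a non-generic point is not associated to a module with torsion-free stalk -/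
theorem not_isAssPoint_of_ne_genericPoint {X : Scheme.{u}} [IsIntegral X] (G : X.Modules) (x : X)
    [NoZeroSMulDivisors (X.presheaf.stalk x) (G.presheaf.stalk x)] (hx : x ≠ genericPoint X) :
    ¬ Curv2.IsAssPoint G x := by
  intro hass
  apply hx
  have hass' : maximalIdeal (X.presheaf.stalk x) ∈
      associatedPrimes (X.presheaf.stalk x) (G.presheaf.stalk x) := hass
  obtain ⟨hprime, n, hn⟩ := hass'
  have hn0 : n ≠ 0 := by
    rintro rfl
    apply hprime.ne_top
    rw [hn, Ideal.radical_eq_top, Ideal.eq_top_iff_one, Submodule.mem_colon_singleton]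
    simp
  have hbot : maximalIdeal (X.presheaf.stalk x) = ⊥ := by
    rw [hn, eq_bot_iff]
    intro t ht
    obtain ⟨k, hk⟩ := ht
    rw [Submodule.mem_colon_singleton, Submodule.mem_bot] at hk
    rcases smul_eq_zero.mp hk with h | h
    · exact (Submodule.mem_bot _).mpr (eq_zero_of_pow_eq_zero h)
    · exact absurd h hn0
  obtain ⟨_, ⟨U, hU : IsAffineOpen U, rfl⟩, hxU, -⟩ :=
    (X.isBasis_affineOpens).exists_subset_of_mem_open (Set.mem_univ x) isOpen_univ
  have hx' : x ∈ U := hxU
  haveI : Nonempty U := ⟨⟨x, hx'⟩⟩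
  have h1 : hU.primeIdealOf ⟨x, hx'⟩ = hU.primeIdealOf ⟨genericPoint X,
      ((genericPoint_spec X).mem_open_set_iff U.isOpen).mpr (by simpa using ‹Nonempty U›)⟩ := by
    rw [hU.primeIdealOf_genericPoint, genericPoint_eq_bot_of_affine]
    apply PrimeSpectrum.ext
    rw [hU.primeIdealOf_eq_map_closedPoint]
    show Ideal.comap (X.presheaf.germ U x hx').hom (maximalIdeal (X.presheaf.stalk x)) = ⊥
    rw [hbot, ← RingHom.ker_eq_comap_bot]
    exact (RingHom.injective_iff_ker_eq_bot _).mp (germ_injective_of_isIntegral X x hx')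
  have h2 := congrArg (fun P => hU.fromSpec P) h1
  simp only [hU.fromSpec_primeIdealOf] at h2
  exact h2

end Groth.Agent.IsoCrit
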