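import Mathlib
import Groth.Prelude
import Groth.Agent.Lib.IsoCrit_helper5
import Groth.Agent.Lib.QcqsLoc_helper9

/-!
# Hartogs-type extension: depth ≥ 2 outside `U` ⟹ `Γ(V, F) → Γ(V ∩ U, F)` bijective (helper5)
-/

universe u

open CategoryTheory IsLocalRing AlgebraicGeometry TopologicalSpace Opposite

namespace Groth.Agent.Hartogs

open QcqsLoc Groth.Agent.DepthLib

variable {X : Scheme.{u}}

/-- points of an affine open correspond to primes -/
theorem exists_point {W : X.Opens} (hW : IsAffineOpen W) (P : Ideal Γ(X, W)) [hPp : P.IsPrime] :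
    ∃ (x : X) (hx : x ∈ W), (hW.primeIdealOf ⟨x, hx⟩).asIdeal = P := by
  set P' : PrimeSpectrum Γ(X, W) := ⟨P, hPp⟩ with hP'
  have hyU : hW.fromSpec P' ∈ W := by
    have h' : hW.fromSpec P' ∈ hW.fromSpec.opensRange := ⟨P', rfl⟩
    rwa [hW.opensRange_fromSpec] at h'
  have hPy : hW.primeIdealOf ⟨hW.fromSpec P', hyU⟩ = P' :=
    hW.fromSpec.isOpenEmbedding.injective (hW.fromSpec_primeIdealOf ⟨_, hyU⟩)
  exact ⟨_, hyU, congrArg PrimeSpectrum.asIdeal hPy⟩

/-- an open subset of an affine open of a locally Noetherian scheme is quasi-compact -/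
theorem isCompact_inf [IsLocallyNoetherian X] {W : X.Opens} (hW : IsAffineOpen W) (U : X.Opens) :
    IsCompact ((W ⊓ U : X.Opens) : Set X) := by
  haveI : IsNoetherianRing Γ(X, W) := IsLocallyNoetherian.component_noetherian ⟨W, hW⟩
  have hN := noetherianSpace_of_isAffineOpen W hW
  have h1 : IsCompact {w : W | (w : X) ∈ U} := @NoetherianSpace.isCompact _ _ hN _
  have h2 := h1.image continuous_subtype_val
  convert h2 using 1
  ext x
  constructor
  · rintro ⟨hxW, hxU⟩
    exact ⟨⟨x, hxW⟩, hxU, rfl⟩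
  · rintro ⟨⟨y, hyW⟩, hyU, rfl⟩
    exact ⟨hyW, hyU⟩

variable [IsLocallyNoetherian X] (F : X.Modules) [F.IsQuasicoherent]
  [SheafOfModules.IsFiniteType (R := X.ringCatSheaf) F] (U : X.Opens)
  (hdepth : ∀ x : X, x ∉ U →
    (2 : ℕ∞) ≤ LocCoh.depth (X.presheaf.stalk x) (F.presheaf.stalk x))

include hdepth in
/-- a section over an affine open vanishing on `W ⊓ U` vanishes -/
theorem inj_affine {W : X.Opens} (hW : IsAffineOpen W) (m : Γ(F, W))
    (hm : rF F (inf_le_left : W ⊓ U ≤ W) m = 0) : m = 0 := by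
  haveI : IsNoetherianRing Γ(X, W) := IsLocallyNoetherian.component_noetherian ⟨W, hW⟩
  by_contra hmne
  obtain ⟨P, hPass, hle⟩ := exists_le_isAssociatedPrime_of_isNoetherianRing Γ(X, W) m hmne
  haveI := hPass.isPrime
  obtain ⟨x, hx, hPx⟩ := exists_point hW P
  letI := TopCat.Presheaf.algebra_section_stalk X.presheaf (⟨x, hx⟩ : W)
  letI modF : Module Γ(X, W) (F.presheaf.stalk x) := StalkLocH8.modSec F hx
  haveI := StalkLocH8.isLocalizedModule_germLin F hW hx
  haveI : Module.Finite (X.presheaf.stalk x) (F.presheaf.stalk x) := FLFH8.finite_stalk F x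
  have hass : Curv2.IsAssPoint F x := by
    rw [Groth.Agent.EmbS1.isAssPoint_iff F hW hx, hPx]
    exact hPass
  have hd : ¬ 1 ≤ LocCoh.idealDepth (maximalIdeal (X.presheaf.stalk x)) (F.presheaf.stalk x) :=
    not_one_le_idealDepth_of_le_associatedPrime _ _ _ hass le_rfl
  have hxU : x ∈ U := by
    by_contra hxU
    apply hd
    have := hdepth x hxU
    unfold LocCoh.depth at this
    refine le_trans ?_ this
    norm_num
  have h0 : StalkLocH8.germLin F hx m = 0 := by
    have h1 := TopCat.Presheaf.germ_res_apply F.presheaf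
      (homOfLE (inf_le_left : W ⊓ U ≤ W)) x ⟨hx, hxU⟩ m
    have hm' : F.presheaf.map (homOfLE (inf_le_left : W ⊓ U ≤ W)).op m = 0 := hm
    rw [hm', map_zero] at h1
    exact h1.symm
  rw [IsLocalizedModule.eq_zero_iff (hW.primeIdealOf ⟨x, hx⟩).asIdeal.primeCompl] at h0
  obtain ⟨c, hc⟩ := h0
  have hcP : (c : Γ(X, W)) ∈ P := hle (by
    rw [Submodule.mem_colon_singleton, Submodule.mem_bot]; exact hc)
  exact c.2 (hPx.symm.le hcP)

include hdepth in
/-- injectivity of restriction to `V ⊓ U` -/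
theorem inj (V : X.Opens) (s : Γ(F, V)) (hs : rF F (inf_le_left : V ⊓ U ≤ V) s = 0) : s = 0 := by
  apply eq_zero_of_cover
  intro x hx
  obtain ⟨_, ⟨W, hW : IsAffineOpen W, rfl⟩, hxW, hWV⟩ :=
    (X.isBasis_affineOpens).exists_subset_of_mem_open hx V.isOpen
  have hWV' : W ≤ V := hWV
  refine ⟨W, hWV', hxW, inj_affine F U hdepth hW _ ?_⟩
  have hle : W ⊓ U ≤ V ⊓ U := inf_le_inf_right _ hWV'
  have h1 := congrArg (rF F hle) hs
  rw [rF_rF, map_zero] at h1
  rw [rF_rF]
  exact h1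

include hdepth in
/-- extension over an affine open -/
theorem surj_affine {W : X.Opens} (hW : IsAffineOpen W) (t : Γ(F, W ⊓ U)) :
    ∃ m : Γ(F, W), rF F (inf_le_left : W ⊓ U ≤ W) m = t := by
  haveI : IsNoetherianRing Γ(X, W) := IsLocallyNoetherian.component_noetherian ⟨W, hW⟩
  have hO : W ⊓ U ≤ W := inf_le_left
  letI modQ : Module Γ(X, W) Γ(F, W ⊓ U) := Module.compHom _ (rX hO)
  have smulQ : ∀ (a : Γ(X, W)) (q : Γ(F, W ⊓ U)), a • q = rX hO a • q := fun _ _ => rfl
  let ρ : Γ(F, W) →ₗ[Γ(X, W)] Γ(F, W ⊓ U) :=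
    { toFun := rF F hO
      map_add' := fun a b => map_add _ a b
      map_smul' := fun a m => rF_smul F hO a m }
  have hρ : ∀ m, ρ m = rF F hO m := fun _ => rfl
  have hρinj : Function.Injective ρ := by
    rw [injective_iff_map_eq_zero]
    intro m hm
    exact inj_affine F U hdepth hW m hm
  by_contra hcon
  have ht : t ∉ LinearMap.range ρ := fun ⟨m, hm⟩ => hcon ⟨m, hm⟩
  have hne : (Submodule.Quotient.mk t : Γ(F, W ⊓ U) ⧸ LinearMap.range ρ) ≠ 0 := by
    rw [Ne, Submodule.Quotient.mk_eq_zero]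
    exact ht
  obtain ⟨P, hPass, -⟩ := exists_le_isAssociatedPrime_of_isNoetherianRing Γ(X, W) _ hne
  obtain ⟨hPp, c, hPc⟩ := isAssociatedPrime_iff.mp hPass
  obtain ⟨t₀, rfl⟩ := Submodule.Quotient.mk_surjective _ c
  have hP : ∀ a : Γ(X, W), a ∈ P ↔ a • t₀ ∈ LinearMap.range ρ := by
    intro a
    rw [hPc, Submodule.mem_colon_singleton, Submodule.mem_bot, ← Submodule.Quotient.mk_smul,
      Submodule.Quotient.mk_eq_zero]
  haveI := hPp
  obtain ⟨x, hx, hPx⟩ := exists_point hW P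
  letI := TopCat.Presheaf.algebra_section_stalk X.presheaf (⟨x, hx⟩ : W)
  haveI : IsLocalization.AtPrime (X.presheaf.stalk x) (hW.primeIdealOf ⟨x, hx⟩).asIdeal :=
    hW.isLocalization_stalk ⟨x, hx⟩
  letI modF : Module Γ(X, W) (F.presheaf.stalk x) := StalkLocH8.modSec F hx
  haveI : IsScalarTower Γ(X, W) (X.presheaf.stalk x) (F.presheaf.stalk x) :=
    IsScalarTower.of_algebraMap_smul (fun _ _ => rfl)
  haveI hlocF := StalkLocH8.isLocalizedModule_germLin F hW hx
  haveI : Module.Finite (X.presheaf.stalk x) (F.presheaf.stalk x) := FLFH8.finite_stalk F x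
  set S := (hW.primeIdealOf ⟨x, hx⟩).asIdeal.primeCompl with hS
  have hSP : ∀ s : S, (s : Γ(X, W)) ∉ P := fun s hs => s.2 (hPx.symm.le hs)
  by_cases hxU : x ∈ U
  · -- the point lies in `U`: `t₀` is locally a fraction
    have hxO : x ∈ W ⊓ U := ⟨hx, hxU⟩
    obtain ⟨⟨m, s⟩, hms⟩ := IsLocalizedModule.surj S (StalkLocH8.germLin F hx)
      (F.presheaf.germ (W ⊓ U) x hxO t₀)
    have hms' : (s : Γ(X, W)) • F.presheaf.germ (W ⊓ U) x hxO t₀ =
        F.presheaf.germ W x hx m := hms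
    set σ : Γ(F, W ⊓ U) := (s : Γ(X, W)) • t₀ - ρ m with hσ
    have hσ0 : F.presheaf.germ (W ⊓ U) x hxO σ = F.presheaf.germ (W ⊓ U) x hxO 0 := by
      rw [hσ, map_sub, map_zero, smulQ, Groth.Agent.Lib.QCohLoc_helper4.germ_smul, hρ]
      have e1 : X.presheaf.germ (W ⊓ U) x hxO (rX hO (s : Γ(X, W))) =
          X.presheaf.germ W x hx (s : Γ(X, W)) :=
        TopCat.Presheaf.germ_res_apply X.presheaf (homOfLE hO) x hxO _
      have e2 : F.presheaf.germ (W ⊓ U) x hxO (rF F hO m) = F.presheaf.germ W x hx m :=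
        TopCat.Presheaf.germ_res_apply F.presheaf (homOfLE hO) x hxO m
      rw [e1, e2, sub_eq_zero]
      exact hms'
    obtain ⟨O', hxO', iU, iV, hO'⟩ := TopCat.Presheaf.germ_eq F.presheaf x hxO hxO σ 0 hσ0
    rw [map_zero] at hO'
    obtain ⟨g, hgO', hxg⟩ := hW.exists_basicOpen_le ⟨x, hxO'⟩ hx
    have hgP : g ∉ P := by
      have := StalkLocH8.notMem_prime_of_mem_basicOpen hW hx hxg
      intro hg
      exact this (hPx.symm.le hg)
    have hO'O : O' ≤ W ⊓ U := iU.le
    have hle2 : X.basicOpen (rX hO g) ≤ O' := by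
      rw [basicOpen_rX]
      exact inf_le_right.trans hgO'
    have hres : F.presheaf.map (homOfLE (X.basicOpen_le (rX hO g))).op σ = 0 := by
      have h1 : rF F hO'O σ = 0 := (Groth.Agent.Lib.QCohExtH1.rF_congr F _ _ σ).trans hO'
      have h2 := congrArg (rF F hle2) h1
      rw [rF_rF, map_zero] at h2
      exact h2
    obtain ⟨n, hn⟩ := Groth.Agent.Lib.QCohExtH1.exists_pow_smul_eq_zero_of_isCompact F (W ⊓ U)
      (isCompact_inf hW U) (rX hO g) σ hres
    have hn' : (g ^ n) • σ = 0 := by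
      rw [smulQ, map_pow]
      exact hn
    have e3 : (g ^ n * (s : Γ(X, W))) • t₀ ∈ LinearMap.range ρ := by
      refine ⟨(g ^ n) • m, ?_⟩
      rw [map_smul, mul_smul]
      rw [hσ, smul_sub, sub_eq_zero] at hn'
      exact hn'.symm
    rcases hPp.mem_or_mem ((hP _).mpr e3) with h1 | h1
    · exact hgP (hPp.mem_of_pow_mem n h1)
    · exact hSP s h1
  · -- the point lies outside `U`: use depth ≥ 2
    have hdep := hdepth x hxU
    letI modN : Module (X.presheaf.stalk x) (LocalizedModule S Γ(F, W ⊓ U)) :=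
      LocalizedModule.moduleOfIsLocalization
    haveI : IsScalarTower Γ(X, W) (X.presheaf.stalk x) (LocalizedModule S Γ(F, W ⊓ U)) :=
      inferInstance
    set ι := LocalizedModule.mkLinearMap S Γ(F, W ⊓ U) with hι
    set ψA := IsLocalizedModule.map S (StalkLocH8.germLin F hx) ι ρ with hψA
    set ψ := LinearMap.extendScalarsOfIsLocalization S (X.presheaf.stalk x) ψA with hψ
    have hψg : ∀ m : Γ(F, W), ψ (StalkLocH8.germLin F hx m) = ι (ρ m) := fun m =>
      IsLocalizedModule.map_apply S (StalkLocH8.germLin F hx) ι ρ m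
    have hψsm : ∀ (a : Γ(X, W)) (z : F.presheaf.stalk x), ψ (a • z) = a • ψ z :=
      fun a z => ψA.map_smul a z
    have hψinj : Function.Injective ψ :=
      IsLocalizedModule.map_injective S (StalkLocH8.germLin F hx) ι ρ hρinj
    have hcomap : (maximalIdeal (X.presheaf.stalk x)).comap
        (algebraMap Γ(X, W) (X.presheaf.stalk x)) = P := by
      rw [← hPx, hW.primeIdealOf_eq_map_closedPoint]
      rfl
    have hnr : ι t₀ ∉ LinearMap.range ψ := by
      rintro ⟨z, hz⟩
      obtain ⟨⟨m, s⟩, hms⟩ := IsLocalizedModule.surj S (StalkLocH8.germLin F hx) z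
      have hms' : (s : Γ(X, W)) • z = StalkLocH8.germLin F hx m := hms
      have e1 : ι ((s : Γ(X, W)) • t₀) = ι (ρ m) := by
        rw [map_smul, ← hz, ← hψg, ← hms']
        exact (hψsm s z).symm
      obtain ⟨c, hc⟩ := IsLocalizedModule.exists_of_eq (S := S) (f := ι) e1
      have hc' : (c : Γ(X, W)) • ((s : Γ(X, W)) • t₀) = (c : Γ(X, W)) • ρ m := hc
      have e2 : ((c : Γ(X, W)) * (s : Γ(X, W))) • t₀ ∈ LinearMap.range ρ := by
        refine ⟨(c : Γ(X, W)) • m, ?_⟩
        rw [map_smul, mul_smul]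
        exact hc'.symm
      rcases hPp.mem_or_mem ((hP _).mpr e2) with h1 | h1
      · exact hSP c h1
      · exact hSP s h1
    have hmax : ∀ b ∈ maximalIdeal (X.presheaf.stalk x), b • ι t₀ ∈ LinearMap.range ψ := by
      intro b hb
      obtain ⟨⟨a, s⟩, has⟩ := IsLocalization.surj S b
      have haP : a ∈ P := by
        rw [← hcomap, Ideal.mem_comap, ← has]
        exact Ideal.mul_mem_right _ _ hb
      obtain ⟨ma, hma⟩ := (hP a).mp haP
      obtain ⟨u, hu⟩ := IsLocalization.map_units (X.presheaf.stalk x) s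
      refine ⟨(↑u⁻¹ : X.presheaf.stalk x) • StalkLocH8.germLin F hx ma, ?_⟩
      rw [map_smul, hψg, hma, map_smul, ← algebraMap_smul (X.presheaf.stalk x) a, ← has, ← hu,
        smul_smul, mul_comm, mul_assoc, Units.mul_inv, mul_one]
    have hassN := Groth.Agent.IsoCrit.ass_of_depth_two (X.presheaf.stalk x) (F.presheaf.stalk x)
      (LocalizedModule S Γ(F, W ⊓ U)) ψ hψinj hdep (ι t₀) hnr hmax
    -- back to `Q`
    have hassQ : P ∈ associatedPrimes Γ(X, W) Γ(F, W ⊓ U) := by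
      have h := Module.associatedPrimes.preimage_comap_associatedPrimes_eq_associatedPrimes_of_isLocalizedModule
        (S := S) (R' := X.presheaf.stalk x) (f := ι)
      rw [← h, Set.mem_preimage, hcomap] at hassN
      exact hassN
    obtain ⟨-, τ, hτ⟩ := isAssociatedPrime_iff.mp hassQ
    have hτne : τ ≠ 0 := by
      rintro rfl
      apply hPp.ne_top
      rw [hτ, Ideal.eq_top_iff_one, Submodule.mem_colon_singleton]
      simp
    -- a point of `W ⊓ U` where `τ` has nonzero germ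
    have hex : ∃ y : X, ∃ hy : y ∈ W ⊓ U, F.presheaf.germ (W ⊓ U) y hy τ ≠ 0 := by
      by_contra hall
      push Not at hall
      apply hτne
      refine TopCat.Presheaf.section_ext ⟨F.presheaf, F.isSheaf⟩ (W ⊓ U) τ 0 (fun y hy => ?_)
      exact (hall y hy).trans (map_zero _).symm
    obtain ⟨y, hy, hyτ⟩ := hex
    have hyW : y ∈ W := hy.1
    -- `P ≤ P_y`
    have hPle : P ≤ (hW.primeIdealOf ⟨y, hyW⟩).asIdeal := by
      intro a haP
      by_contra hay
      apply hyτ
      have h1 : a • τ = 0 := by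
        have : a ∈ (⊥ : Submodule Γ(X, W) Γ(F, W ⊓ U)).colon {τ} := hτ ▸ haP
        rwa [Submodule.mem_colon_singleton, Submodule.mem_bot] at this
      have h2 : X.presheaf.germ (W ⊓ U) y hy (rX hO a) • F.presheaf.germ (W ⊓ U) y hy τ = 0 := by
        rw [← Groth.Agent.Lib.QCohLoc_helper4.germ_smul, ← smulQ, h1, map_zero]
      have e1 : X.presheaf.germ (W ⊓ U) y hy (rX hO a) = X.presheaf.germ W y hyW a :=
        TopCat.Presheaf.germ_res_apply X.presheaf (homOfLE hO) y hy _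
      rw [e1] at h2
      have hunit : IsUnit (X.presheaf.germ W y hyW a) := by
        have := FLFH8.mem_basicOpen_of_notMem_prime hW hyW (g := a) hay
        exact (Scheme.mem_basicOpen _ _ _ hyW).mp this
      obtain ⟨v, hv⟩ := hunit
      have := congrArg (fun z => (↑v⁻¹ : X.presheaf.stalk y) • z) h2
      simp only [smul_zero] at this
      rw [← hv, smul_smul, Units.inv_mul, one_smul] at this
      exact this
    -- hence `x ⤳ y` and `x ∈ U`
    apply hxU
    have hle' : hW.primeIdealOf ⟨x, hx⟩ ≤ hW.primeIdealOf ⟨y, hyW⟩ := by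
      show (hW.primeIdealOf ⟨x, hx⟩).asIdeal ≤ (hW.primeIdealOf ⟨y, hyW⟩).asIdeal
      rw [hPx]
      exact hPle
    have hspec : x ⤳ y := by
      have h1 : hW.primeIdealOf ⟨x, hx⟩ ⤳ hW.primeIdealOf ⟨y, hyW⟩ :=
        (PrimeSpectrum.le_iff_specializes _ _).mp hle'
      have h2 := h1.map hW.fromSpec.continuous
      rwa [hW.fromSpec_primeIdealOf, hW.fromSpec_primeIdealOf] at h2
    exact hspec.mem_open U.isOpen hy.2

include hdepth in
/-- surjectivity of restriction to `V ⊓ U` -/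
theorem surj (V : X.Opens) (t : Γ(F, V ⊓ U)) :
    ∃ s : Γ(F, V), rF F (inf_le_left : V ⊓ U ≤ V) s = t := by
  classical
  let ι := {W : X.affineOpens // (W : X.Opens) ≤ V}
  let O : ι → X.Opens := fun i => (i.1 : X.Opens)
  have hle : ∀ i : ι, O i ≤ V := fun i => i.2
  have hleU : ∀ i : ι, O i ⊓ U ≤ V ⊓ U := fun i => inf_le_inf_right _ (hle i)
  have hcov : V ≤ ⨆ i, O i := by
    intro x hx
    obtain ⟨_, ⟨W, hW : IsAffineOpen W, rfl⟩, hxW, hWV⟩ :=
      (X.isBasis_affineOpens).exists_subset_of_mem_open hx V.isOpen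
    exact Opens.mem_iSup.mpr ⟨⟨⟨W, hW⟩, hWV⟩, hxW⟩
  choose m hm using fun i : ι => surj_affine F U hdepth i.1.2 (rF F (hleU i) t)
  have hcompat : TopCat.Presheaf.IsCompatible F.presheaf O m := by
    intro i j
    have h1 : rF F (inf_le_left : O i ⊓ O j ≤ O i) (m i) -
        rF F (inf_le_right : O i ⊓ O j ≤ O j) (m j) = 0 := by
      apply inj F U hdepth (O i ⊓ O j)
      have hl : (O i ⊓ O j) ⊓ U ≤ O i ⊓ U := inf_le_inf_right _ inf_le_left
      have hr : (O i ⊓ O j) ⊓ U ≤ O j ⊓ U := inf_le_inf_right _ inf_le_right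
      have hi := congrArg (rF F hl) (hm i)
      have hj := congrArg (rF F hr) (hm j)
      rw [rF_rF, rF_rF] at hi hj
      rw [map_sub, rF_rF, rF_rF, sub_eq_zero]
      exact hi.trans hj.symm
    have h2 : F.presheaf.map (homOfLE (inf_le_left : O i ⊓ O j ≤ O i)).op (m i) =
        F.presheaf.map (homOfLE (inf_le_right : O i ⊓ O j ≤ O j)).op (m j) := sub_eq_zero.mp h1
    exact (Groth.Agent.Lib.QCohExtH1.rF_congr F _ _ _).trans
      (h2.trans (Groth.Agent.Lib.QCohExtH1.rF_congr F _ _ _))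
  obtain ⟨s, hs, -⟩ := TopCat.Sheaf.existsUnique_gluing' ⟨F.presheaf, F.isSheaf⟩ O V
    (fun i => homOfLE (hle i)) hcov m hcompat
  refine ⟨s, ?_⟩
  apply eq_of_cover
  intro x hx
  obtain ⟨_, ⟨W, hW : IsAffineOpen W, rfl⟩, hxW, hWV⟩ :=
    (X.isBasis_affineOpens).exists_subset_of_mem_open hx.1 V.isOpen
  let i : ι := ⟨⟨W, hW⟩, hWV⟩
  refine ⟨O i ⊓ U, hleU i, ⟨hxW, hx.2⟩, ?_⟩
  have h1 : rF F (hle i) s = m i := hs i
  rw [rF_rF, ← hm i, ← h1, rF_rF]

end Groth.Agent.Hartogs
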