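import Mathlib
import Groth.Prelude
import Groth.Agent.Lib.Depth_helper5
import Groth.Agent.Lib.Hartogs_helper5

/-!
# Cartier divisors on an integral scheme and points of depth one (helper5)
-/

universe u

open CategoryTheory IsLocalRing AlgebraicGeometry TopologicalSpace Opposite

namespace Groth.Agent.CDivDepth

open Groth.Agent.DepthLib

/-- a Noetherian local domain in which some fraction `f ∉ B` lies in `B_q` for all non-maximal primes
has depth one -/
theorem depth_eq_one (B : Type u) [CommRing B] [IsDomain B] [IsLocalRing B] [IsNoetherianRing B]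
    (K : Type u) [Field K] [Algebra B K] [IsFractionRing B K] (f : K)
    (hf : f ∉ Set.range (algebraMap B K))
    (h : ∀ q : Ideal B, q.IsPrime → q ≠ maximalIdeal B →
      ∃ s : B, s ∉ q ∧ algebraMap B K s * f ∈ Set.range (algebraMap B K)) :
    LocCoh.depth B B = 1 := by
  obtain ⟨a, b, hb, hab⟩ := IsFractionRing.div_surjective (A := B) f
  have hb0 : b ≠ 0 := nonZeroDivisors.ne_zero hb
  have hinj := IsFractionRing.injective B K
  have hbK : algebraMap B K b ≠ 0 := by
    rw [Ne, map_eq_zero_iff _ hinj]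
    exact hb0
  have hfb : f * algebraMap B K b = algebraMap B K a := by
    rw [← hab, div_mul_cancel₀ _ hbK]
  have key : ∀ r : B, (∃ c, b * c = r * a) ↔
      algebraMap B K r * f ∈ Set.range (algebraMap B K) := by
    intro r
    constructor
    · rintro ⟨c, hc⟩
      refine ⟨c, ?_⟩
      apply mul_right_cancel₀ hbK
      rw [mul_assoc, hfb, ← map_mul, ← map_mul, mul_comm c b, hc]
    · rintro ⟨c, hc⟩
      refine ⟨c, hinj ?_⟩
      rw [map_mul, map_mul, hc, ← hfb]
      ring
  have hbm : b ∈ maximalIdeal B := by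
    rw [mem_maximalIdeal, mem_nonunits_iff]
    rintro ⟨u, rfl⟩
    apply hf
    have := (key 1).mp ⟨↑u⁻¹ * a, by rw [Units.mul_inv_cancel_left, one_mul]⟩
    rwa [map_one, one_mul] at this
  have hreg : IsSMulRegular B b := by
    intro x y hxy
    exact mul_left_cancel₀ hb0 hxy
  have hass : maximalIdeal B ∈ associatedPrimes B (QuotSMulTop b B) := by
    have hJ : ∀ r, r ∈ (⊥ : Submodule B (QuotSMulTop b B)).colon
        {(Submodule.Quotient.mk a : QuotSMulTop b B)} ↔ ∃ c, b * c = r * a := by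
      intro r
      rw [Submodule.mem_colon_singleton, Submodule.mem_bot, ← Submodule.Quotient.mk_smul,
        Submodule.Quotient.mk_eq_zero, Submodule.mem_smul_pointwise_iff_exists]
      simp only [Submodule.mem_top, true_and, smul_eq_mul]
    refine ⟨inferInstance, Submodule.Quotient.mk a, ?_⟩
    apply le_antisymm
    · rw [Ideal.radical_eq_sInf]
      apply le_sInf
      rintro q ⟨hJq, hq⟩
      by_contra hmq
      have hqne : q ≠ maximalIdeal B := fun h => hmq h.ge
      obtain ⟨s, hsq, hs⟩ := h q hq hqne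
      exact hsq (hJq ((hJ s).mpr ((key s).mpr hs)))
    · apply IsLocalRing.le_maximalIdeal
      rw [Ne, Ideal.radical_eq_top]
      intro htop
      have h1 : (1 : B) ∈ (⊥ : Submodule B (QuotSMulTop b B)).colon
          {(Submodule.Quotient.mk a : QuotSMulTop b B)} := by rw [htop]; trivial
      rw [hJ, key, map_one, one_mul] at h1
      exact hf h1
  have h0 : ¬ 1 ≤ LocCoh.idealDepth (maximalIdeal B) (QuotSMulTop b B) :=
    not_one_le_idealDepth_of_le_associatedPrime _ _ _ hass le_rfl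
  have h1 := idealDepth_quotSMulTop_add_one (maximalIdeal B) B hbm hreg
  unfold LocCoh.depth
  rw [← h1, ENat.lt_one_iff_eq_zero.mp (not_le.mp h0), zero_add]

section geo

variable {X : Scheme.{u}} [IsIntegral X]

/-- membership of a rational function in a local ring of an affine open, via denominators -/
theorem mem_range_iff {W : X.Opens} (hW : IsAffineOpen W) [Nonempty W] {z : X} (hz : z ∈ W)
    (f : X.functionField) :
    f ∈ Set.range (algebraMap (X.presheaf.stalk z) X.functionField) ↔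
      ∃ s c : Γ(X, W), s ∉ (hW.primeIdealOf ⟨z, hz⟩).asIdeal ∧
        X.germToFunctionField W s * f = X.germToFunctionField W c := by
  letI := TopCat.Presheaf.algebra_section_stalk X.presheaf (⟨z, hz⟩ : W)
  haveI : IsLocalization.AtPrime (X.presheaf.stalk z) (hW.primeIdealOf ⟨z, hz⟩).asIdeal :=
    hW.isLocalization_stalk ⟨z, hz⟩
  have e2 : ∀ r : Γ(X, W), algebraMap (X.presheaf.stalk z) X.functionField
      (algebraMap Γ(X, W) (X.presheaf.stalk z) r) = X.germToFunctionField W r :=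
    fun r => Scheme.algebraMap_germ_eq_germToFunctionField X hz r
  constructor
  · rintro ⟨β, hβ⟩
    obtain ⟨⟨c, s⟩, hcs⟩ := IsLocalization.surj (hW.primeIdealOf ⟨z, hz⟩).asIdeal.primeCompl β
    refine ⟨s, c, s.2, ?_⟩
    rw [← e2, ← e2, ← hcs, map_mul, hβ, mul_comm]
  · rintro ⟨s, c, hs, hsc⟩
    refine ⟨IsLocalization.mk' (X.presheaf.stalk z) c
      (⟨s, hs⟩ : (hW.primeIdealOf ⟨z, hz⟩).asIdeal.primeCompl), ?_⟩
    have hsK : X.germToFunctionField W s ≠ 0 := by
      rw [← e2]
      intro h0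
      have h1 := (map_eq_zero_iff _ (IsFractionRing.injective (X.presheaf.stalk z)
        X.functionField)).mp h0
      have hu : IsUnit (algebraMap Γ(X, W) (X.presheaf.stalk z) s) :=
        IsLocalization.map_units (X.presheaf.stalk z)
          (⟨s, hs⟩ : (hW.primeIdealOf ⟨z, hz⟩).asIdeal.primeCompl)
      rw [h1] at hu
      exact not_isUnit_zero hu
    apply mul_left_cancel₀ hsK
    rw [hsc, ← e2 s, ← map_mul, mul_comm, IsLocalization.mk'_spec, e2]

variable [IsLocallyNoetherian X]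

/-- if `f` is not regular at `x` but is regular at all proper generizations, then `depth O_x = 1` -/
theorem depth_eq_one_of_generizations (x : X) (f : X.functionField)
    (hf : f ∉ Set.range (algebraMap (X.presheaf.stalk x) X.functionField))
    (h : ∀ z : X, z ⤳ x → z ≠ x →
      f ∈ Set.range (algebraMap (X.presheaf.stalk z) X.functionField)) :
    LocCoh.depth (X.presheaf.stalk x) (X.presheaf.stalk x) = 1 := by
  apply depth_eq_one (X.presheaf.stalk x) X.functionField f hf
  intro q hq hqne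
  obtain ⟨_, ⟨W, hW : IsAffineOpen W, rfl⟩, hxW, -⟩ :=
    (X.isBasis_affineOpens).exists_subset_of_mem_open (Set.mem_univ x) isOpen_univ
  have hx : x ∈ W := hxW
  haveI : Nonempty W := ⟨⟨x, hx⟩⟩
  letI := TopCat.Presheaf.algebra_section_stalk X.presheaf (⟨x, hx⟩ : W)
  haveI : IsLocalization.AtPrime (X.presheaf.stalk x) (hW.primeIdealOf ⟨x, hx⟩).asIdeal :=
    hW.isLocalization_stalk ⟨x, hx⟩
  have hcomap : (maximalIdeal (X.presheaf.stalk x)).comap
      (algebraMap Γ(X, W) (X.presheaf.stalk x)) = (hW.primeIdealOf ⟨x, hx⟩).asIdeal := by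
    rw [hW.primeIdealOf_eq_map_closedPoint]
    rfl
  haveI : (q.comap (algebraMap Γ(X, W) (X.presheaf.stalk x))).IsPrime := Ideal.IsPrime.comap _
  obtain ⟨z, hz, hPz⟩ := Groth.Agent.Hartogs.exists_point hW
    (q.comap (algebraMap Γ(X, W) (X.presheaf.stalk x)))
  have hle : hW.primeIdealOf ⟨z, hz⟩ ≤ hW.primeIdealOf ⟨x, hx⟩ := by
    show (hW.primeIdealOf ⟨z, hz⟩).asIdeal ≤ (hW.primeIdealOf ⟨x, hx⟩).asIdeal
    rw [hPz, ← hcomap]
    exact Ideal.comap_mono (IsLocalRing.le_maximalIdeal hq.ne_top)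
  have hspec : z ⤳ x := by
    have h1 : hW.primeIdealOf ⟨z, hz⟩ ⤳ hW.primeIdealOf ⟨x, hx⟩ :=
      (PrimeSpectrum.le_iff_specializes _ _).mp hle
    have h2 := h1.map hW.fromSpec.continuous
    rwa [hW.fromSpec_primeIdealOf, hW.fromSpec_primeIdealOf] at h2
  have hzx : z ≠ x := by
    intro hzx
    apply hqne
    have e1 : Ideal.map (algebraMap Γ(X, W) (X.presheaf.stalk x))
        (q.comap (algebraMap Γ(X, W) (X.presheaf.stalk x))) = q :=
      IsLocalization.map_under (hW.primeIdealOf ⟨x, hx⟩).asIdeal.primeCompl (X.presheaf.stalk x) q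
    have e2 : Ideal.map (algebraMap Γ(X, W) (X.presheaf.stalk x))
        ((maximalIdeal (X.presheaf.stalk x)).comap
          (algebraMap Γ(X, W) (X.presheaf.stalk x))) = maximalIdeal (X.presheaf.stalk x) :=
      IsLocalization.map_under (hW.primeIdealOf ⟨x, hx⟩).asIdeal.primeCompl (X.presheaf.stalk x) _
    have e3 : (hW.primeIdealOf ⟨z, hz⟩).asIdeal = (hW.primeIdealOf ⟨x, hx⟩).asIdeal := by
      have : (⟨z, hz⟩ : W) = ⟨x, hx⟩ := Subtype.ext hzx
      rw [this]
    rw [← e1, ← e2, hcomap, ← e3, hPz]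
  obtain ⟨s, c, hs, hsc⟩ := (mem_range_iff hW hz f).mp (h z hspec hzx)
  have e1 : ∀ r : Γ(X, W), algebraMap (X.presheaf.stalk x) X.functionField
      (algebraMap Γ(X, W) (X.presheaf.stalk x) r) = X.germToFunctionField W r :=
    fun r => Scheme.algebraMap_germ_eq_germToFunctionField X hx r
  refine ⟨algebraMap Γ(X, W) (X.presheaf.stalk x) s, ?_, algebraMap Γ(X, W) (X.presheaf.stalk x) c, ?_⟩
  · intro hsq
    exact hs (hPz.symm.le (Ideal.mem_comap.mpr hsq))
  · rw [e1, e1, hsc]

/-- if `f` is not regular at `x`, some generization `z` of `x` has depth one and `f` is not regular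
at `z` -/
theorem exists_depth_one (x : X) (f : X.functionField)
    (hf : f ∉ Set.range (algebraMap (X.presheaf.stalk x) X.functionField)) :
    ∃ z : X, z ⤳ x ∧ f ∉ Set.range (algebraMap (X.presheaf.stalk z) X.functionField) ∧
      LocCoh.depth (X.presheaf.stalk z) (X.presheaf.stalk z) = 1 := by
  obtain ⟨_, ⟨W, hW : IsAffineOpen W, rfl⟩, hxW, -⟩ :=
    (X.isBasis_affineOpens).exists_subset_of_mem_open (Set.mem_univ x) isOpen_univ
  have hx : x ∈ W := hxW
  haveI : Nonempty W := ⟨⟨x, hx⟩⟩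
  -- the ideal of denominators
  let J : Ideal Γ(X, W) :=
    { carrier := {r | ∃ c : Γ(X, W), X.germToFunctionField W r * f = X.germToFunctionField W c}
      add_mem' := by
        rintro r r' ⟨c, hc⟩ ⟨c', hc'⟩
        exact ⟨c + c', by rw [map_add, map_add, add_mul, hc, hc']⟩
      zero_mem' := ⟨0, by rw [map_zero, zero_mul]⟩
      smul_mem' := by
        rintro t r ⟨c, hc⟩
        exact ⟨t * c, by rw [smul_eq_mul, map_mul, map_mul, mul_assoc, hc]⟩ }
  have hJmem : ∀ r : Γ(X, W), r ∈ J ↔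
      ∃ c : Γ(X, W), X.germToFunctionField W r * f = X.germToFunctionField W c := fun _ => Iff.rfl
  have hiff : ∀ (z : X) (hz : z ∈ W),
      f ∈ Set.range (algebraMap (X.presheaf.stalk z) X.functionField) ↔
        ¬ J ≤ (hW.primeIdealOf ⟨z, hz⟩).asIdeal := by
    intro z hz
    rw [mem_range_iff hW hz f]
    constructor
    · rintro ⟨s, c, hs, hsc⟩ hle
      exact hs (hle ((hJmem s).mpr ⟨c, hsc⟩))
    · intro hnle
      obtain ⟨s, hsJ, hs⟩ := SetLike.not_le_iff_exists.mp hnle
      obtain ⟨c, hc⟩ := (hJmem s).mp hsJ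
      exact ⟨s, c, hs, hc⟩
  have hJx : J ≤ (hW.primeIdealOf ⟨x, hx⟩).asIdeal := by
    by_contra hnle
    exact hf ((hiff x hx).mpr hnle)
  obtain ⟨p, hpmin, hpx⟩ := Ideal.exists_minimalPrimes_le hJx
  haveI hpp : p.IsPrime := hpmin.1.1
  obtain ⟨z, hz, hPz⟩ := Groth.Agent.Hartogs.exists_point hW p
  have hle : hW.primeIdealOf ⟨z, hz⟩ ≤ hW.primeIdealOf ⟨x, hx⟩ := by
    show (hW.primeIdealOf ⟨z, hz⟩).asIdeal ≤ (hW.primeIdealOf ⟨x, hx⟩).asIdeal
    rw [hPz]
    exact hpx
  have hspec : z ⤳ x := by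
    have h1 : hW.primeIdealOf ⟨z, hz⟩ ⤳ hW.primeIdealOf ⟨x, hx⟩ :=
      (PrimeSpectrum.le_iff_specializes _ _).mp hle
    have h2 := h1.map hW.fromSpec.continuous
    rwa [hW.fromSpec_primeIdealOf, hW.fromSpec_primeIdealOf] at h2
  have hfz : f ∉ Set.range (algebraMap (X.presheaf.stalk z) X.functionField) := by
    rw [hiff z hz, not_not, hPz]
    exact hpmin.1.2
  refine ⟨z, hspec, hfz, depth_eq_one_of_generizations z f hfz ?_⟩
  intro z' hz'z hne
  have hz'W : z' ∈ W := hz'z.mem_open W.isOpen hz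
  rw [hiff z' hz'W]
  intro hJle
  apply hne
  have hle' : hW.primeIdealOf ⟨z', hz'W⟩ ≤ hW.primeIdealOf ⟨z, hz⟩ := by
    rw [PrimeSpectrum.le_iff_specializes]
    have h1 : (⟨z', hz'W⟩ : W) ⤳ ⟨z, hz⟩ := (subtype_specializes_iff _ _).mpr hz'z
    exact h1.map hW.isoSpec.hom.continuous
  have hle'' : (hW.primeIdealOf ⟨z', hz'W⟩).asIdeal ≤ p := by
    rw [← hPz]
    exact hle'
  have hge : p ≤ (hW.primeIdealOf ⟨z', hz'W⟩).asIdeal :=
    hpmin.2 ⟨(hW.primeIdealOf ⟨z', hz'W⟩).isPrime, hJle⟩ hle''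
  have heq : hW.primeIdealOf ⟨z', hz'W⟩ = hW.primeIdealOf ⟨z, hz⟩ := by
    apply PrimeSpectrum.ext
    rw [hPz]
    exact le_antisymm hle'' hge
  have h4 := congrArg (fun P => hW.fromSpec P) heq
  simp only [hW.fromSpec_primeIdealOf] at h4
  exact h4

/-- units of `O_x` in terms of ranges -/
theorem mem_stalkUnits_iff (x : X) (f : CDiv.KUnits X) :
    f ∈ CDiv.stalkUnits X x ↔
      ((f : X.functionField) ∈ Set.range (algebraMap (X.presheaf.stalk x) X.functionField) ∧
        ((f⁻¹ : CDiv.KUnits X) : X.functionField) ∈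
          Set.range (algebraMap (X.presheaf.stalk x) X.functionField)) := by
  constructor
  · rintro ⟨u, hu⟩
    constructor
    · exact ⟨u, by rw [← hu]; rfl⟩
    · exact ⟨↑u⁻¹, by rw [← hu, ← map_inv]; rfl⟩
  · rintro ⟨⟨β, hβ⟩, ⟨β', hβ'⟩⟩
    have hββ' : β * β' = 1 := by
      apply IsFractionRing.injective (X.presheaf.stalk x) X.functionField
      rw [map_mul, hβ, hβ', map_one, Units.mul_inv]
    exact ⟨⟨β, β', hββ', by rw [mul_comm]; exact hββ'⟩, Units.ext hβ⟩

/-- a maximal point of the support of a divisor has depth one -/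
theorem depth_eq_one_of_maximal_supp (D : CDiv.Divisor X) (x : X) (hx : x ∈ CDiv.supp D)
    (hmax : ∀ z : X, z ∈ CDiv.supp D → z ⤳ x → z = x) :
    LocCoh.depth (X.presheaf.stalk x) (X.presheaf.stalk x) = 1 := by
  obtain ⟨U, f, hxU, hU⟩ := D.2 x
  have hDx : CDiv.germOf X x f ≠ 1 := by
    rw [← hU x hxU]
    exact hx
  have hfu : f ∉ CDiv.stalkUnits X x := fun hmem => hDx ((QuotientGroup.eq_one_iff f).mpr hmem)
  have hz : ∀ z : X, z ⤳ x → z ≠ x → f ∈ CDiv.stalkUnits X z := by
    intro z hzx hne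
    have hzU : z ∈ U := hzx.mem_open U.isOpen hxU
    have h1 : D.1 z = 1 := by
      by_contra hne'
      exact hne (hmax z hne' hzx)
    rw [hU z hzU] at h1
    exact (QuotientGroup.eq_one_iff f).mp h1
  rw [mem_stalkUnits_iff, not_and_or] at hfu
  rcases hfu with h1 | h2
  · exact depth_eq_one_of_generizations x _ h1
      (fun z hzx hne => ((mem_stalkUnits_iff z f).mp (hz z hzx hne)).1)
  · exact depth_eq_one_of_generizations x _ h2
      (fun z hzx hne => ((mem_stalkUnits_iff z f).mp (hz z hzx hne)).2)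

/-- a divisor effective at all points of depth one is effective -/
theorem isEffective_of_depth_one (D : CDiv.Divisor X)
    (h : ∀ x : X, LocCoh.depth (X.presheaf.stalk x) (X.presheaf.stalk x) = 1 →
      CDiv.IsEffectiveAt D x) : CDiv.IsEffective D := by
  intro x
  obtain ⟨U, f, hxU, hU⟩ := D.2 x
  have hfx : (f : X.functionField) ∈
      Set.range (algebraMap (X.presheaf.stalk x) X.functionField) := by
    by_contra hf
    obtain ⟨z, hzx, hfz, hdz⟩ := exists_depth_one x _ hf
    apply hfz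
    obtain ⟨a, ha, hDa⟩ := h z hdz
    have hzU : z ∈ U := hzx.mem_open U.isOpen hxU
    rw [hU z hzU] at hDa
    have h1 : (Units.mk0 _ ha)⁻¹ * f ∈ CDiv.stalkUnits X z := QuotientGroup.eq.mp hDa.symm
    obtain ⟨u, hu⟩ := h1
    refine ⟨a * u, ?_⟩
    have h2 : f = Units.mk0 _ ha * ((Units.mk0 _ ha)⁻¹ * f) := by
      rw [mul_inv_cancel_left]
    rw [h2, ← hu, map_mul]
    rfl
  obtain ⟨β, hβ⟩ := hfx
  have hβ0 : algebraMap (X.presheaf.stalk x) X.functionField β ≠ 0 := by
    rw [hβ]
    exact f.ne_zero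
  refine ⟨β, hβ0, ?_⟩
  rw [hU x hxU]
  congr 1
  exact Units.ext hβ.symm

/-- a divisor trivial at all points of depth one is trivial -/
theorem eq_one_of_depth_one (D : CDiv.Divisor X)
    (h : ∀ x : X, LocCoh.depth (X.presheaf.stalk x) (X.presheaf.stalk x) = 1 → D.1 x = 1) :
    D = 1 := by
  apply Subtype.ext
  funext x
  show D.1 x = 1
  obtain ⟨U, f, hxU, hU⟩ := D.2 x
  rw [hU x hxU]
  apply (QuotientGroup.eq_one_iff f).mpr
  rw [mem_stalkUnits_iff]
  constructor
  · by_contra hf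
    obtain ⟨z, hzx, hfz, hdz⟩ := exists_depth_one x _ hf
    apply hfz
    have hzU : z ∈ U := hzx.mem_open U.isOpen hxU
    have h1 := h z hdz
    rw [hU z hzU] at h1
    exact ((mem_stalkUnits_iff z f).mp ((QuotientGroup.eq_one_iff f).mp h1)).1
  · by_contra hf
    obtain ⟨z, hzx, hfz, hdz⟩ := exists_depth_one x _ hf
    apply hfz
    have hzU : z ∈ U := hzx.mem_open U.isOpen hxU
    have h1 := h z hdz
    rw [hU z hzU] at h1
    exact ((mem_stalkUnits_iff z f).mp ((QuotientGroup.eq_one_iff f).mp h1)).2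

end geo

end Groth.Agent.CDivDepth
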