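import Mathlib
import Groth.Prelude
import Groth.Agent.Lib.CDivDepth_helper5

/-!
# Cartier divisors on integral locally Noetherian schemes of dimension ≤ 1 (helper5)
-/

universe u

open CategoryTheory IsLocalRing AlgebraicGeometry TopologicalSpace Opposite

namespace Groth.Agent.CDivDim1

open Groth.Agent.CDivDepth

/-- in a Noetherian domain of dimension ≤ 1 only finitely many primes contain a given nonzero element -/
theorem finite_primes_of_mem (R : Type u) [CommRing R] [IsDomain R] [IsNoetherianRing R]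
    [Ring.KrullDimLE 1 R] (c : R) (hc : c ≠ 0) : {p : Ideal R | p.IsPrime ∧ c ∈ p}.Finite := by
  refine (Ideal.finite_minimalPrimes_of_isNoetherianRing R (Ideal.span {c})).subset ?_
  rintro p ⟨hp, hcp⟩
  refine ⟨⟨hp, (Ideal.span_singleton_le_iff_mem _).mpr hcp⟩, ?_⟩
  rintro q ⟨hq, hcq⟩ hqp
  have hq0 : q ≠ ⊥ := by
    rintro rfl
    exact hc (Ideal.mem_bot.mp ((Ideal.span_singleton_le_iff_mem _).mp hcq))
  have hqmax := hq.isMaximal_of_ne_bot hq0
  exact (hqmax.eq_of_le hp.ne_top hqp).ge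

variable {X : Scheme.{u}} [IsIntegral X] [IsLocallyNoetherian X]

/-- a fraction `a / b` with `a, b` invertible at `z` is a unit of `O_z` -/
theorem mem_stalkUnits_of_notMem {W : X.Opens} (hW : IsAffineOpen W) [Nonempty W] {z : X}
    (hz : z ∈ W) (f : CDiv.KUnits X) (a b : Γ(X, W))
    (hab : X.germToFunctionField W a / X.germToFunctionField W b = (f : X.functionField))
    (ha : a ∉ (hW.primeIdealOf ⟨z, hz⟩).asIdeal) (hb : b ∉ (hW.primeIdealOf ⟨z, hz⟩).asIdeal) :
    f ∈ CDiv.stalkUnits X z := by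
  have hinj := X.germToFunctionField_injective W
  have ha0 : X.germToFunctionField W a ≠ 0 := by
    intro h0
    apply ha
    have : a = 0 := hinj (by rw [h0, map_zero])
    rw [this]
    exact Ideal.zero_mem _
  have hb0 : X.germToFunctionField W b ≠ 0 := by
    intro h0
    apply hb
    have : b = 0 := hinj (by rw [h0, map_zero])
    rw [this]
    exact Ideal.zero_mem _
  rw [mem_stalkUnits_iff]
  constructor
  · rw [mem_range_iff hW hz]
    refine ⟨b, a, hb, ?_⟩
    rw [← hab, mul_div_cancel₀ _ hb0]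
  · rw [mem_range_iff hW hz]
    refine ⟨a, b, ha, ?_⟩
    rw [Units.val_inv_eq_inv_val, ← hab, inv_div, mul_div_cancel₀ _ ha0]

/-- every point has a neighbourhood meeting the support of `D` at most in that point -/
theorem exists_nhd (hdim : topologicalKrullDim X ≤ 1) (D : CDiv.Divisor X) (x : X) :
    ∃ U : X.Opens, x ∈ U ∧ ∀ z ∈ U, z ∈ CDiv.supp D → z = x := by
  classical
  obtain ⟨U₀, f, hxU₀, hU₀⟩ := D.2 x
  obtain ⟨_, ⟨W, hW : IsAffineOpen W, rfl⟩, hxW, hWU₀⟩ :=
    (X.isBasis_affineOpens).exists_subset_of_mem_open hxU₀ U₀.isOpen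
  have hx : x ∈ W := hxW
  haveI : Nonempty W := ⟨⟨x, hx⟩⟩
  haveI : IsNoetherianRing Γ(X, W) := IsLocallyNoetherian.component_noetherian ⟨W, hW⟩
  have hd : ringKrullDim Γ(X, W) ≤ 1 := by
    rw [← PrimeSpectrum.topologicalKrullDim_eq_ringKrullDim]
    exact (hW.fromSpec.isOpenEmbedding.isInducing.topologicalKrullDim_le).trans hdim
  haveI : Ring.KrullDimLE 1 Γ(X, W) := Ring.krullDimLE_iff.mpr (by exact_mod_cast hd)
  haveI : IsDomain Γ(X, W) := inferInstance
  haveI := functionField_isFractionRing_of_isAffineOpen X W hW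
  obtain ⟨a, b, hb, hab⟩ := IsFractionRing.div_surjective (A := Γ(X, W)) (f : X.functionField)
  have hab' : X.germToFunctionField W a / X.germToFunctionField W b = (f : X.functionField) := hab
  have hb0 : b ≠ 0 := nonZeroDivisors.ne_zero hb
  have ha0 : a ≠ 0 := by
    rintro rfl
    rw [map_zero, zero_div] at hab'
    exact f.ne_zero hab'.symm
  have hc : a * b ≠ 0 := mul_ne_zero ha0 hb0
  set px := (hW.primeIdealOf ⟨x, hx⟩).asIdeal with hpx
  have hfin : {p : Ideal Γ(X, W) | p.IsPrime ∧ a * b ∈ p ∧ p ≠ px}.Finite :=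
    (finite_primes_of_mem Γ(X, W) (a * b) hc).subset (fun p hp => ⟨hp.1, hp.2.1⟩)
  have hex : ∀ p : Ideal Γ(X, W), p ∈ hfin.toFinset → ∃ g : Γ(X, W), g ∈ p ∧ g ∉ px := by
    intro p hp
    rw [Set.Finite.mem_toFinset] at hp
    obtain ⟨hpp, hcp, hne⟩ := hp
    have hp0 : p ≠ ⊥ := by
      rintro rfl
      exact hc (Ideal.mem_bot.mp hcp)
    have hpmax := hpp.isMaximal_of_ne_bot hp0
    have hnle : ¬ p ≤ px := fun hle =>
      hne (hpmax.eq_of_le (hW.primeIdealOf ⟨x, hx⟩).isPrime.ne_top hle)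
    obtain ⟨g, hgp, hgx⟩ := SetLike.not_le_iff_exists.mp hnle
    exact ⟨g, hgp, hgx⟩
  choose! g hg using hex
  set G := ∏ p ∈ hfin.toFinset, g p with hG
  have hGx : G ∉ px := by
    rw [hG, (hW.primeIdealOf ⟨x, hx⟩).isPrime.prod_mem_iff]
    rintro ⟨p, hp, hgp⟩
    exact (hg p hp).2 hgp
  refine ⟨X.basicOpen G, FLFH8.mem_basicOpen_of_notMem_prime hW hx hGx, ?_⟩
  intro z hzG hzs
  have hzW : z ∈ W := X.basicOpen_le G hzG
  have hGz : G ∉ (hW.primeIdealOf ⟨z, hzW⟩).asIdeal :=
    StalkLocH8.notMem_prime_of_mem_basicOpen hW hzW hzG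
  have hfz : f ∉ CDiv.stalkUnits X z := by
    intro hmem
    apply hzs
    show D.1 z = 1
    rw [hU₀ z (hWU₀ hzW)]
    exact (QuotientGroup.eq_one_iff f).mpr hmem
  have hcz : a * b ∈ (hW.primeIdealOf ⟨z, hzW⟩).asIdeal := by
    by_contra hcz
    apply hfz
    refine mem_stalkUnits_of_notMem hW hzW f a b hab' ?_ ?_
    · intro ha
      exact hcz (Ideal.mul_mem_right _ _ ha)
    · intro hb'
      exact hcz (Ideal.mul_mem_left _ _ hb')
  have hpz : (hW.primeIdealOf ⟨z, hzW⟩).asIdeal = px := by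
    by_contra hne
    have hmem : (hW.primeIdealOf ⟨z, hzW⟩).asIdeal ∈ hfin.toFinset := by
      rw [Set.Finite.mem_toFinset]
      exact ⟨(hW.primeIdealOf ⟨z, hzW⟩).isPrime, hcz, hne⟩
    apply hGz
    rw [hG]
    exact Ideal.prod_mem _ hmem (hg _ hmem).1
  have heq : hW.primeIdealOf ⟨z, hzW⟩ = hW.primeIdealOf ⟨x, hx⟩ := PrimeSpectrum.ext hpz
  have h4 := congrArg (fun P => hW.fromSpec P) heq
  simp only [hW.fromSpec_primeIdealOf] at h4
  exact h4

/-- the support of a divisor is closed and discrete -/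
theorem supp_closed_discrete (hdim : topologicalKrullDim X ≤ 1) (D : CDiv.Divisor X) :
    IsClosed (CDiv.supp D) ∧ DiscreteTopology ↥(CDiv.supp D) := by
  constructor
  · rw [← isOpen_compl_iff, isOpen_iff_forall_mem_open]
    intro y hy
    obtain ⟨U, hyU, hU⟩ := exists_nhd hdim D y
    refine ⟨U, ?_, U.isOpen, hyU⟩
    intro z hzU hzs
    have := hU z hzU hzs
    rw [this] at hzs
    exact hy hzs
  · rw [discreteTopology_iff_isOpen_singleton]
    intro a
    obtain ⟨U, haU, hU⟩ := exists_nhd hdim D a.1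
    rw [isOpen_induced_iff]
    refine ⟨U, U.isOpen, ?_⟩
    ext z
    constructor
    · intro hz
      exact Subtype.ext (hU z.1 hz z.2)
    · intro hz
      rw [Set.mem_singleton_iff] at hz
      rw [hz]
      exact haU

/-- divisors with prescribed germs on a closed discrete set -/
theorem exists_divisor (hdim : topologicalKrullDim X ≤ 1) (E : Set X) (hE : IsClosed E)
    (hEd : DiscreteTopology ↥E) (d : ∀ x : X, CDiv.Germ X x) :
    ∃ D : CDiv.Divisor X, (∀ x ∈ E, D.1 x = d x) ∧ ∀ x, x ∉ E → D.1 x = 1 := by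
  classical
  let D₀ : ∀ x : X, CDiv.Germ X x := fun x => if x ∈ E then d x else 1
  have hD₀ : D₀ ∈ CDiv.divisorGroup X := by
    intro x
    by_cases hxE : x ∈ E
    · obtain ⟨f, hf⟩ := QuotientGroup.mk_surjective (d x)
      have hopen : IsOpen ({⟨x, hxE⟩} : Set ↥E) := isOpen_discrete _
      rw [isOpen_induced_iff] at hopen
      obtain ⟨V₁, hV₁, hV₁E⟩ := hopen
      have hxV₁ : x ∈ V₁ := by
        have : (⟨x, hxE⟩ : ↥E) ∈ Subtype.val ⁻¹' V₁ := by rw [hV₁E]; rfl
        exact this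
      obtain ⟨V₂, hxV₂, hV₂⟩ := exists_nhd hdim (CDiv.div f) x
      refine ⟨⟨V₁, hV₁⟩ ⊓ V₂, f, ⟨hxV₁, hxV₂⟩, ?_⟩
      intro y hy
      by_cases hyx : y = x
      · rw [hyx]
        show (if x ∈ E then d x else 1) = _
        rw [if_pos hxE, ← hf]
      · have hyE : y ∉ E := by
          intro hyE
          have : (⟨y, hyE⟩ : ↥E) ∈ Subtype.val ⁻¹' V₁ := hy.1
          rw [hV₁E, Set.mem_singleton_iff] at this
          exact hyx (congrArg Subtype.val this)
        show (if y ∈ E then d y else 1) = _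
        rw [if_neg hyE]
        have hys : y ∉ CDiv.supp (CDiv.div f) := fun hys => hyx (hV₂ y hy.2 hys)
        have : (CDiv.div f).1 y = 1 := not_not.mp hys
        exact this.symm
    · refine ⟨⟨Eᶜ, hE.isOpen_compl⟩, 1, hxE, ?_⟩
      intro y hy
      have hyE : y ∉ E := hy
      show (if y ∈ E then d y else 1) = _
      rw [if_neg hyE]
      exact (QuotientGroup.mk_one _).symm
  refine ⟨⟨D₀, hD₀⟩, ?_, ?_⟩
  · intro x hx
    show (if x ∈ E then d x else 1) = _
    rw [if_pos hx]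
  · intro x hx
    show (if x ∈ E then d x else 1) = _
    rw [if_neg hx]

/-- existence and uniqueness of the divisor with prescribed germs -/
theorem existsUnique_divisor (hdim : topologicalKrullDim X ≤ 1) (E : Set X) (hE : IsClosed E)
    (hEd : DiscreteTopology ↥E) (d : ∀ x : X, CDiv.Germ X x) :
    ∃! D : CDiv.Divisor X, CDiv.supp D ⊆ E ∧ ∀ x ∈ E, D.1 x = d x := by
  obtain ⟨D, hD1, hD2⟩ := exists_divisor hdim E hE hEd d
  refine ⟨D, ⟨?_, hD1⟩, ?_⟩
  · intro y hy
    by_contra hyE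
    exact hy (hD2 y hyE)
  · rintro D' ⟨hs, hD'⟩
    apply Subtype.ext
    funext y
    by_cases hyE : y ∈ E
    · rw [hD' y hyE, hD1 y hyE]
    · rw [hD2 y hyE]
      by_contra hne
      exact hyE (hs hne)

/-- a trivial germ is effective -/
theorem isEffectiveAt_of_eq_one (D : CDiv.Divisor X) (x : X) (h : D.1 x = 1) :
    CDiv.IsEffectiveAt D x := by
  have h1 : algebraMap (X.presheaf.stalk x) X.functionField 1 ≠ 0 := by
    rw [map_one]
    exact one_ne_zero
  refine ⟨1, h1, ?_⟩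
  rw [h]
  have : Units.mk0 _ h1 = (1 : CDiv.KUnits X) := Units.ext (map_one _)
  rw [this]
  exact (QuotientGroup.mk_one _).symm

/-- decomposition of a divisor as a quotient of effective divisors -/
theorem decomposition (hdim : topologicalKrullDim X ≤ 1) (D : CDiv.Divisor X) :
    ∃ D' D'' : CDiv.Divisor X, CDiv.IsEffective D' ∧ CDiv.IsEffective D'' ∧ D = D' * D''⁻¹ ∧
      CDiv.supp D' ⊆ CDiv.supp D ∧ CDiv.supp D'' ⊆ CDiv.supp D := by
  obtain ⟨hcl, hdisc⟩ := supp_closed_discrete hdim D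
  have hrep : ∀ x : X, ∃ (a b : X.presheaf.stalk x)
      (ha : algebraMap (X.presheaf.stalk x) X.functionField a ≠ 0)
      (hb : algebraMap (X.presheaf.stalk x) X.functionField b ≠ 0),
      D.1 x = CDiv.germOf X x (Units.mk0 _ ha) * (CDiv.germOf X x (Units.mk0 _ hb))⁻¹ := by
    intro x
    obtain ⟨f, hf⟩ := QuotientGroup.mk_surjective (D.1 x)
    obtain ⟨a, b, hb, hab⟩ := IsFractionRing.div_surjective (A := X.presheaf.stalk x)
      (f : X.functionField)
    have hinj := IsFractionRing.injective (X.presheaf.stalk x) X.functionField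
    have hb0 : algebraMap (X.presheaf.stalk x) X.functionField b ≠ 0 := by
      rw [Ne, map_eq_zero_iff _ hinj]
      exact nonZeroDivisors.ne_zero hb
    have ha0 : algebraMap (X.presheaf.stalk x) X.functionField a ≠ 0 := by
      intro h0
      rw [h0, zero_div] at hab
      exact f.ne_zero hab.symm
    refine ⟨a, b, ha0, hb0, ?_⟩
    rw [← hf]
    show QuotientGroup.mk f = QuotientGroup.mk (Units.mk0 _ ha0) * (QuotientGroup.mk (Units.mk0 _ hb0))⁻¹
    rw [← QuotientGroup.mk_inv, ← QuotientGroup.mk_mul]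
    congr 1
    apply Units.ext
    rw [Units.val_mul, Units.val_inv_eq_inv_val, Units.val_mk0, Units.val_mk0, ← div_eq_mul_inv, hab]
  choose a b ha hb hD using hrep
  obtain ⟨D', hD'1, hD'2⟩ := exists_divisor hdim (CDiv.supp D) hcl hdisc
    (fun x => CDiv.germOf X x (Units.mk0 _ (ha x)))
  obtain ⟨D'', hD''1, hD''2⟩ := exists_divisor hdim (CDiv.supp D) hcl hdisc
    (fun x => CDiv.germOf X x (Units.mk0 _ (hb x)))
  refine ⟨D', D'', ?_, ?_, ?_, ?_, ?_⟩
  · intro x
    by_cases hx : x ∈ CDiv.supp D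
    · exact ⟨a x, ha x, hD'1 x hx⟩
    · exact isEffectiveAt_of_eq_one D' x (hD'2 x hx)
  · intro x
    by_cases hx : x ∈ CDiv.supp D
    · exact ⟨b x, hb x, hD''1 x hx⟩
    · exact isEffectiveAt_of_eq_one D'' x (hD''2 x hx)
  · apply Subtype.ext
    funext x
    show D.1 x = D'.1 x * (D''.1 x)⁻¹
    by_cases hx : x ∈ CDiv.supp D
    · rw [hD'1 x hx, hD''1 x hx]
      exact hD x
    · have h1 : D.1 x = 1 := not_not.mp hx
      rw [h1, hD'2 x hx, hD''2 x hx]
      exact (mul_one (1 : CDiv.Germ X x)).symm.trans (by rw [inv_one])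
  · intro y hy
    by_contra hyE
    exact hy (hD'2 y hyE)
  · intro y hy
    by_contra hyE
    exact hy (hD''2 y hyE)

end Groth.Agent.CDivDim1
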