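import Mathlib
import Groth.Prelude
import Groth.Agent.Lib.CDivDim1_helper5

/-!
# Existence of non-trivial effective divisors on one-dimensional integral schemes (helper5)
-/

universe u

open CategoryTheory IsLocalRing AlgebraicGeometry TopologicalSpace Opposite

namespace Groth.Agent.CDivDim1

variable {X : Scheme.{u}} [IsIntegral X]

/-- the prime of a non-generic point of an affine open is nonzero -/
theorem primeIdealOf_ne_bot {W : X.Opens} (hW : IsAffineOpen W) {x : X} (hx : x ∈ W)
    (hne : x ≠ genericPoint X) : (hW.primeIdealOf ⟨x, hx⟩).asIdeal ≠ ⊥ := by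
  intro hbot
  apply hne
  haveI : Nonempty W := ⟨⟨x, hx⟩⟩
  have h1 : hW.primeIdealOf ⟨x, hx⟩ = hW.primeIdealOf ⟨genericPoint X,
      ((genericPoint_spec X).mem_open_set_iff W.isOpen).mpr (by simpa using ‹Nonempty W›)⟩ := by
    rw [hW.primeIdealOf_genericPoint, genericPoint_eq_bot_of_affine]
    exact PrimeSpectrum.ext hbot
  have h2 := congrArg (fun P => hW.fromSpec P) h1
  simp only [hW.fromSpec_primeIdealOf] at h2
  exact h2

variable [IsLocallyNoetherian X]

/-- non-generic points of a one-dimensional integral scheme are closed -/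
theorem isClosed_singleton_of_ne_genericPoint (hdim : topologicalKrullDim X ≤ 1) (x : X)
    (hne : x ≠ genericPoint X) : IsClosed ({x} : Set X) := by
  rw [← closure_subset_iff_isClosed]
  intro y hy
  have hxy : x ⤳ y := specializes_iff_mem_closure.mpr hy
  obtain ⟨_, ⟨W, hW : IsAffineOpen W, rfl⟩, hyW, -⟩ :=
    (X.isBasis_affineOpens).exists_subset_of_mem_open (Set.mem_univ y) isOpen_univ
  have hy' : y ∈ W := hyW
  have hx : x ∈ W := hxy.mem_open W.isOpen hy'
  haveI : Nonempty W := ⟨⟨x, hx⟩⟩
  haveI : IsNoetherianRing Γ(X, W) := IsLocallyNoetherian.component_noetherian ⟨W, hW⟩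
  have hd : ringKrullDim Γ(X, W) ≤ 1 := by
    rw [← PrimeSpectrum.topologicalKrullDim_eq_ringKrullDim]
    exact (hW.fromSpec.isOpenEmbedding.isInducing.topologicalKrullDim_le).trans hdim
  haveI : Ring.KrullDimLE 1 Γ(X, W) := Ring.krullDimLE_iff.mpr (by exact_mod_cast hd)
  have hmax := (hW.primeIdealOf ⟨x, hx⟩).isPrime.isMaximal_of_ne_bot
    (primeIdealOf_ne_bot hW hx hne)
  have hle : hW.primeIdealOf ⟨x, hx⟩ ≤ hW.primeIdealOf ⟨y, hy'⟩ := by
    rw [PrimeSpectrum.le_iff_specializes]
    have h1 : (⟨x, hx⟩ : W) ⤳ ⟨y, hy'⟩ := (subtype_specializes_iff _ _).mpr hxy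
    exact h1.map hW.isoSpec.hom.continuous
  have heq : hW.primeIdealOf ⟨x, hx⟩ = hW.primeIdealOf ⟨y, hy'⟩ :=
    PrimeSpectrum.ext (hmax.eq_of_le (hW.primeIdealOf ⟨y, hy'⟩).isPrime.ne_top hle)
  have h4 := congrArg (fun P => hW.fromSpec P) heq
  simp only [hW.fromSpec_primeIdealOf] at h4
  exact h4.symm

/-- existence of a non-trivial effective divisor with support in a nonempty open -/
theorem exists_effective (hdim : topologicalKrullDim X ≤ 1)
    (hX : ∀ x : X, ¬ IsOpen ({x} : Set X)) (U : X.Opens) (hU : (U : Set X).Nonempty) :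
    ∃ D : CDiv.Divisor X, CDiv.IsEffective D ∧ D ≠ 1 ∧ CDiv.supp D ⊆ (U : Set X) := by
  -- a non-generic point of `U`
  have hex : ∃ x ∈ U, x ≠ genericPoint X := by
    by_contra hcon
    push Not at hcon
    apply hX (genericPoint X)
    have : ({genericPoint X} : Set X) = (U : Set X) := by
      ext y
      constructor
      · intro hy
        rw [Set.mem_singleton_iff] at hy
        obtain ⟨z, hz⟩ := hU
        rw [hy, ← hcon z hz]
        exact hz
      · intro hy
        exact hcon y hy
    rw [this]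
    exact U.isOpen
  obtain ⟨x, hxU, hne⟩ := hex
  obtain ⟨_, ⟨W, hW : IsAffineOpen W, rfl⟩, hxW, -⟩ :=
    (X.isBasis_affineOpens).exists_subset_of_mem_open (Set.mem_univ x) isOpen_univ
  have hx : x ∈ W := hxW
  haveI : Nonempty W := ⟨⟨x, hx⟩⟩
  have hpne := primeIdealOf_ne_bot hW hx hne
  obtain ⟨a₀, ha₀p, ha₀⟩ := Submodule.exists_mem_ne_zero_of_ne_bot hpne
  -- its germ
  have hinjW := X.germToFunctionField_injective W
  have haK : algebraMap (X.presheaf.stalk x) X.functionField (X.presheaf.germ W x hx a₀) ≠ 0 := by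
    rw [Scheme.algebraMap_germ_eq_germToFunctionField X hx a₀]
    intro h0
    exact ha₀ (hinjW (by rw [h0, map_zero]))
  have hnonunit : ¬ IsUnit (X.presheaf.germ W x hx a₀) := by
    have h1 : X.presheaf.germ W x hx a₀ ∈ maximalIdeal (X.presheaf.stalk x) := by
      rw [hW.primeIdealOf_eq_map_closedPoint] at ha₀p
      exact ha₀p
    exact (IsLocalRing.mem_maximalIdeal _).mp h1
  have hE : IsClosed ({x} : Set X) := isClosed_singleton_of_ne_genericPoint hdim x hne
  have hEd : DiscreteTopology ↥({x} : Set X) := by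
    rw [discreteTopology_iff_isOpen_singleton]
    intro a
    have : ({a} : Set ↥({x} : Set X)) = Set.univ := by
      ext b
      simp only [Set.mem_singleton_iff, Set.mem_univ, iff_true]
      exact Subtype.ext (b.2.trans a.2.symm)
    rw [this]
    exact isOpen_univ
  classical
  obtain ⟨D, hD1, hD2⟩ := exists_divisor hdim ({x} : Set X) hE hEd
    (fun y => if h : y = x then h ▸ CDiv.germOf X x (Units.mk0 _ haK) else 1)
  have hDx : D.1 x = CDiv.germOf X x (Units.mk0 _ haK) := by
    rw [hD1 x rfl, dif_pos rfl]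
  refine ⟨D, ?_, ?_, ?_⟩
  · intro y
    by_cases hy : y = x
    · subst hy
      exact ⟨_, haK, hDx⟩
    · exact isEffectiveAt_of_eq_one D y (hD2 y hy)
  · intro h1
    have h2 : D.1 x = 1 := by rw [h1]; rfl
    rw [hDx] at h2
    have h3 := (QuotientGroup.eq_one_iff _).mp h2
    obtain ⟨u, hu⟩ := h3
    apply hnonunit
    have h4 : algebraMap (X.presheaf.stalk x) X.functionField (u : X.presheaf.stalk x) =
        algebraMap (X.presheaf.stalk x) X.functionField (X.presheaf.germ W x hx a₀) :=
      congrArg Units.val hu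
    have h5 := IsFractionRing.injective (X.presheaf.stalk x) X.functionField h4
    rw [← h5]
    exact u.isUnit
  · intro y hy
    by_contra hyU
    apply hy
    apply hD2 y
    intro hyx
    rw [Set.mem_singleton_iff] at hyx
    rw [hyx] at hyU
    exact hyU hxU

end Groth.Agent.CDivDim1
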