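import Mathlib
import Groth.Agent.Lib.Regular4_helper5

/-!
# Regular local rings V (helper5): dimension one and two
-/

set_option autoImplicit false
universe u

namespace Groth.Agent.RegularLib

open IsLocalRing

/-- A Noetherian local ring is a DVR iff it is regular of dimension one. -/
theorem dvr_iff (R : Type u) [CommRing R] [IsLocalRing R] [IsNoetherianRing R] :
    (∃ _ : IsDomain R, IsDiscreteValuationRing R) ↔
      (IsRegularLocalRing R ∧ ringKrullDim R = 1) := by
  constructor
  · rintro ⟨hdom, hdvr⟩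
    exact ⟨inferInstance, IsDiscreteValuationRing.ringKrullDim_eq_one R⟩
  · rintro ⟨hreg, hdim⟩
    have hdom : IsDomain R := isDomain R
    refine ⟨hdom, ?_⟩
    have hnf : ¬ IsField R := by
      intro hf
      have := ringKrullDim_eq_zero_of_isField hf
      rw [hdim] at this
      exact one_ne_zero this
    have h5 : Module.finrank (ResidueField R) (CotangentSpace R) = 1 := by
      have := (IsRegularLocalRing.iff_finrank_cotangentSpace R).mp hreg
      rw [hdim] at this
      exact_mod_cast this
    exact ((IsDiscreteValuationRing.TFAE R hnf).out 0 5).mpr h5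

/-- Prime avoidance: an element of `m \ m²` avoiding finitely many primes different from `m`. -/
theorem exists_mem_not_mem_sq_of_finite (A : Type u) [CommRing A] [IsLocalRing A]
    [IsNoetherianRing A] (hm : maximalIdeal A ≠ ⊥) (S : Set (Ideal A)) (hS : S.Finite)
    (hprime : ∀ p ∈ S, p.IsPrime) (hne : ∀ p ∈ S, p ≠ maximalIdeal A) :
    ∃ x ∈ maximalIdeal A, x ∉ maximalIdeal A ^ 2 ∧ ∀ p ∈ S, x ∉ p := by
  classical
  have hjac : maximalIdeal A ≤ Ideal.jacobson ⊥ :=
    (IsLocalRing.jacobson_eq_maximalIdeal ⊥ bot_ne_top).ge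
  by_contra hcon
  push Not at hcon
  have hsub : ((maximalIdeal A : Ideal A) : Set A) ⊆
      ⋃ i ∈ ((insert (maximalIdeal A ^ 2) hS.toFinset : Finset (Ideal A)) :
        Set (Ideal A)), ((id i : Ideal A) : Set A) := by
    intro y hy
    by_cases hy2 : y ∈ maximalIdeal A ^ 2
    · exact Set.mem_biUnion (by simp) hy2
    · obtain ⟨p, hp, hyp⟩ := hcon y hy hy2
      exact Set.mem_biUnion (by simp [hp]) hyp
  rw [Ideal.subset_union_prime (maximalIdeal A ^ 2) (maximalIdeal A ^ 2)] at hsub
  · obtain ⟨i, hi, hle⟩ := hsub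
    rw [Finset.mem_insert] at hi
    rcases hi with rfl | hi
    · apply hm
      apply Submodule.eq_bot_of_le_smul_of_le_jacobson_bot (maximalIdeal A) (maximalIdeal A)
        (IsNoetherian.noetherian _) _ hjac
      simpa [pow_two] using hle
    · have hp : i ∈ S := hS.mem_toFinset.mp hi
      have hpi : i.IsPrime := hprime i hp
      exact hne i hp (le_antisymm (IsLocalRing.le_maximalIdeal hpi.ne_top) hle)
  · intro i hi h1 _
    rw [Finset.mem_insert] at hi
    rcases hi with rfl | hi
    · exact absurd rfl h1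
    · exact hprime i (hS.mem_toFinset.mp hi)

/-- In a regular local ring of dimension two, radical ideals are `0`, `m`, or principal. -/
theorem radical_ideal_dim_two (A : Type u) [CommRing A] [IsRegularLocalRing A]
    (hdim : ringKrullDim A = 2) (I : Ideal A) (hI : I ≤ maximalIdeal A) (hrad : I.IsRadical) :
    I = ⊥ ∨ I = maximalIdeal A ∨
      ∃ f ∈ maximalIdeal A, f ≠ 0 ∧ I = Ideal.span {f} := by
  classical
  by_cases hIm : I = maximalIdeal A
  · exact Or.inr (Or.inl hIm)
  by_cases hI0 : I = ⊥
  · exact Or.inl hI0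
  refine Or.inr (Or.inr ?_)
  have hjac : maximalIdeal A ≤ Ideal.jacobson ⊥ :=
    (IsLocalRing.jacobson_eq_maximalIdeal ⊥ bot_ne_top).ge
  have hrank : (maximalIdeal A).spanFinrank = 2 := by
    have := spanFinrank_eq_dim A
    rw [hdim] at this
    exact_mod_cast this
  have hm0 : maximalIdeal A ≠ ⊥ := by
    intro h
    rw [h, Submodule.spanFinrank_bot] at hrank
    omega
  have hfin : (I.minimalPrimes).Finite := Ideal.finite_minimalPrimes_of_isNoetherianRing A I
  have hneS : ∀ p ∈ I.minimalPrimes, p ≠ maximalIdeal A := by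
    intro p hp hpm
    apply hIm
    rw [hpm] at hp
    rw [← hrad.radical, ← Ideal.sInf_minimalPrimes]
    apply le_antisymm
    · exact sInf_le hp
    · refine le_sInf fun q hq => ?_
      have hq' : q.IsPrime := hq.1.1
      exact hp.2 hq.1 (IsLocalRing.le_maximalIdeal hq'.ne_top)
  obtain ⟨x, hxm, hx2, hxS⟩ := exists_mem_not_mem_sq_of_finite A hm0 I.minimalPrimes hfin
    (fun p hp => hp.1.1) hneS
  have hxI : ∀ h : A, x * h ∈ I → h ∈ I := by
    intro h hxh
    rw [← hrad.radical, ← Ideal.sInf_minimalPrimes, Ideal.mem_sInf]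
    intro p hp
    have hpp : p.IsPrime := hp.1.1
    exact (hpp.mem_or_mem (hp.1.2 hxh)).resolve_left (hxS p hp)
  obtain ⟨inst, hq⟩ := quotient_of_not_mem_sq A x hxm hx2
  have hdimB : ringKrullDim (A ⧸ Ideal.span {x}) = 1 := by
    rw [← spanFinrank_eq_dim (A ⧸ Ideal.span {x})]
    have : (maximalIdeal (A ⧸ Ideal.span {x})).spanFinrank = 1 := by omega
    rw [this]
    rfl
  obtain ⟨hdomB, hdvr⟩ := (dvr_iff (A ⧸ Ideal.span {x})).mpr ⟨inst, hdimB⟩
  have surj : Function.Surjective (Ideal.Quotient.mk (Ideal.span {x})) :=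
    Ideal.Quotient.mk_surjective
  obtain ⟨g, hg⟩ := (IsPrincipalIdealRing.principal
    (I.map (Ideal.Quotient.mk (Ideal.span {x})))).principal
  have hgmem : g ∈ I.map (Ideal.Quotient.mk (Ideal.span {x})) := by
    rw [hg]; exact Submodule.mem_span_singleton_self g
  obtain ⟨f, hfI, rfl⟩ := (Ideal.mem_map_iff_of_surjective _ surj).mp hgmem
  have hle : I ≤ Ideal.span {f} := by
    apply Submodule.le_of_le_smul_of_le_jacobson_bot (I := maximalIdeal A)
      (IsNoetherian.noetherian _) hjac
    intro y hy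
    have hy' : Ideal.Quotient.mk (Ideal.span {x}) y ∈
        I.map (Ideal.Quotient.mk (Ideal.span {x})) := Ideal.mem_map_of_mem _ hy
    rw [hg] at hy'
    obtain ⟨c', hc'⟩ := Submodule.mem_span_singleton.mp hy'
    obtain ⟨c, rfl⟩ := surj c'
    rw [smul_eq_mul, ← map_mul] at hc'
    have hd : y - c * f ∈ Ideal.span {x} := Ideal.Quotient.eq.mp hc'.symm
    obtain ⟨h, hh⟩ := Ideal.mem_span_singleton'.mp hd
    have hhI : h ∈ I := by
      apply hxI
      rw [mul_comm, hh]
      exact Ideal.sub_mem _ hy (Ideal.mul_mem_left _ _ hfI)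
    have : y = c * f + x * h := by rw [mul_comm x h, hh]; ring
    rw [this]
    refine Submodule.add_mem_sup (Ideal.mul_mem_left _ _ (Ideal.mem_span_singleton_self f)) ?_
    rw [← smul_eq_mul]
    exact Submodule.smul_mem_smul hxm hhI
  have hIf : I = Ideal.span {f} :=
    le_antisymm hle ((Ideal.span_singleton_le_iff_mem _).mpr hfI)
  refine ⟨f, hI hfI, ?_, hIf⟩
  rintro rfl
  apply hI0
  rw [hIf]
  simp

end Groth.Agent.RegularLib
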