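import Mathlib
import Groth.Prelude.Def_CAlg
import Groth.Agent.Lib.Depth_helper5

/-!
# Depth of finite powers, of kernels in left exact sequences, and of Hom modules (helper5)
-/

set_option autoImplicit false
universe u

namespace Groth.Agent.DepthLib

open RingTheory.Sequence

variable {A : Type u} [CommRing A] [IsNoetherianRing A] (I : Ideal A)

/-- depth of a subsingleton module is `⊤` -/
theorem idealDepth_of_subsingleton (N : Type u) [AddCommGroup N] [Module A N] [Subsingleton N] :
    LocCoh.idealDepth I N = ⊤ := by
  rw [eq_top_iff, ← ENat.forall_natCast_le_iff_le]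
  intro n _
  rw [le_idealDepth_iff]
  exact Or.inl (Subsingleton.elim _ _)

/-- depth of finite powers -/
theorem le_idealDepth_pi (N : Type u) [AddCommGroup N] [Module A N] [Module.Finite A N] (k : ℕ)
    (hk : (k : ℕ∞) ≤ LocCoh.idealDepth I N) :
    ∀ n : ℕ, (k : ℕ∞) ≤ LocCoh.idealDepth I (Fin n → N) := by
  intro n
  induction n with
  | zero =>
    rw [idealDepth_of_subsingleton]
    exact le_top
  | succ n ih =>
    have hses := (depth_ses I N (Fin (n + 1) → N) (Fin n → N)
      (LinearMap.single A (fun _ : Fin (n + 1) => N) 0)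
      (LinearMap.funLeft A N Fin.succ)
      (by
        intro a b hab
        have := congrFun hab 0
        simpa using this)
      (by
        intro y
        refine ⟨Fin.cons 0 y, ?_⟩
        funext i
        simp [LinearMap.funLeft_apply])
      (by
        intro y
        constructor
        · intro hy
          refine ⟨y 0, ?_⟩
          funext i
          refine Fin.cases ?_ (fun j => ?_) i
          · simp
          · have := congrFun hy j
            simp only [LinearMap.funLeft_apply, Pi.zero_apply] at this
            simp [this, Fin.succ_ne_zero]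
        · rintro ⟨a, rfl⟩
          funext j
          simp [LinearMap.funLeft_apply, Fin.succ_ne_zero])).1
    exact le_trans (le_min hk ih) hses

/-- depth of the first term of a left exact sequence `0 → G → E0 → E1` -/
theorem idealDepth_of_leftExact (G E0 E1 : Type u) [AddCommGroup G] [Module A G] [Module.Finite A G]
    [AddCommGroup E0] [Module A E0] [Module.Finite A E0] [AddCommGroup E1] [Module A E1]
    [Module.Finite A E1] (ι : G →ₗ[A] E0) (u : E0 →ₗ[A] E1) (hι : Function.Injective ι)
    (hex : Function.Exact ι u) :
    (1 ≤ LocCoh.idealDepth I E0 → 1 ≤ LocCoh.idealDepth I G) ∧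
    (2 ≤ LocCoh.idealDepth I E0 → 1 ≤ LocCoh.idealDepth I E1 → 2 ≤ LocCoh.idealDepth I G) := by
  haveI : IsNoetherian A E1 := isNoetherian_of_isNoetherianRing_of_finite A E1
  refine ⟨fun h => one_le_idealDepth_of_injective I _ _ ι hι h, ?_⟩
  intro h2 h1
  have hR : 1 ≤ LocCoh.idealDepth I (LinearMap.range u) :=
    one_le_idealDepth_of_injective I _ _ (LinearMap.range u).subtype
      (Submodule.injective_subtype _) h1
  have hses := (depth_ses I G E0 (LinearMap.range u) ι u.rangeRestrict hι
    u.surjective_rangeRestrict
    (by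
      intro x
      rw [← hex x]
      constructor
      · intro hx
        have := congrArg Subtype.val hx
        simpa using this
      · intro hx
        apply Subtype.ext
        simpa using hx)).2.2
  refine le_trans ?_ hses
  rw [le_min_iff]
  refine ⟨h2, ?_⟩
  have : (1 : ℕ∞) + 1 ≤ LocCoh.idealDepth I (LinearMap.range u) + 1 := add_le_add_left hR 1
  have h11 : (1 : ℕ∞) + 1 = 2 := by norm_num
  rw [h11] at this
  exact this

/-- `Hom(M, N)` is a finite module over a Noetherian ring -/
theorem finite_hom (M N : Type u) [AddCommGroup M] [Module A M] [Module.Finite A M]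
    [AddCommGroup N] [Module A N] [Module.Finite A N] : Module.Finite A (M →ₗ[A] N) := by
  obtain ⟨n, π, hπ⟩ := Module.Finite.exists_fin' A M
  haveI : IsNoetherian A ((Fin n → A) →ₗ[A] N) :=
    isNoetherian_of_isNoetherianRing_of_finite A _
  exact Module.Finite.of_injective (LinearMap.lcomp A N π) (by
    intro f g hfg
    apply LinearMap.ext
    intro x
    obtain ⟨y, rfl⟩ := hπ x
    exact LinearMap.congr_fun hfg y)

/-- depth of `Hom(M, N)`: if `depth_I N ≥ k` for `k = 1, 2` then `depth_I Hom(M, N) ≥ k`. -/
theorem idealDepth_hom (M N : Type u) [AddCommGroup M] [Module A M] [Module.Finite A M]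
    [AddCommGroup N] [Module A N] [Module.Finite A N] :
    (1 ≤ LocCoh.idealDepth I N → 1 ≤ LocCoh.idealDepth I (M →ₗ[A] N)) ∧
    (2 ≤ LocCoh.idealDepth I N → 2 ≤ LocCoh.idealDepth I (M →ₗ[A] N)) := by
  haveI := finite_hom (A := A) M N
  haveI : IsNoetherian A M := isNoetherian_of_isNoetherianRing_of_finite A M
  obtain ⟨n, π, hπ⟩ := Module.Finite.exists_fin' A M
  haveI : IsNoetherian A (Fin n → A) := isNoetherian_of_isNoetherianRing_of_finite A _
  haveI : Module.Finite A (LinearMap.ker π) := Module.IsNoetherian.finite A _
  obtain ⟨m, ρ, hρ⟩ := Module.Finite.exists_fin' A (LinearMap.ker π)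
  set ρ' : (Fin m → A) →ₗ[A] (Fin n → A) := (LinearMap.ker π).subtype.comp ρ with hρ'
  have hrange : LinearMap.range ρ' = LinearMap.ker π := by
    rw [hρ', LinearMap.range_comp, LinearMap.range_eq_top.2 hρ, Submodule.map_top,
      Submodule.range_subtype]
  -- the left exact sequence
  have hinj : Function.Injective (LinearMap.lcomp A N π) := by
    intro f g hfg
    apply LinearMap.ext
    intro x
    obtain ⟨y, rfl⟩ := hπ x
    exact LinearMap.congr_fun hfg y
  have hex : Function.Exact (LinearMap.lcomp A N π) (LinearMap.lcomp A N ρ') := by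
    intro φ
    constructor
    · intro hφ
      -- φ vanishes on ker π, so factors through π
      have hker : LinearMap.ker π ≤ LinearMap.ker φ := by
        rw [← hrange]
        rintro _ ⟨z, rfl⟩
        exact LinearMap.congr_fun hφ z
      -- define ψ on M via surjectivity
      let e := (LinearMap.quotKerEquivOfSurjective π hπ)
      refine ⟨((LinearMap.ker π).liftQ φ hker).comp e.symm.toLinearMap, ?_⟩
      apply LinearMap.ext
      intro x
      simp only [LinearMap.lcomp_apply, LinearMap.comp_apply, LinearEquiv.coe_coe]
      have : e.symm (π x) = Submodule.Quotient.mk x := by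
        rw [LinearEquiv.symm_apply_eq]
        rfl
      rw [this]
      rfl
    · rintro ⟨ψ, rfl⟩
      apply LinearMap.ext
      intro z
      simp only [LinearMap.lcomp_apply, LinearMap.comp_apply, LinearMap.zero_apply]
      have : π (ρ' z) = 0 := by
        have : ρ' z ∈ LinearMap.ker π := by rw [← hrange]; exact ⟨z, rfl⟩
        exact this
      rw [this, map_zero]
  -- depth of Hom(A^n, N)
  have hpi : ∀ (r : ℕ) (k : ℕ), (k : ℕ∞) ≤ LocCoh.idealDepth I N →
      (k : ℕ∞) ≤ LocCoh.idealDepth I ((Fin r → A) →ₗ[A] N) := by
    intro r k hk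
    rw [← idealDepth_congr I _ ((Pi.basisFun A (Fin r)).constr A (M' := N))]
    exact le_idealDepth_pi I N k hk r
  have key := idealDepth_of_leftExact I (M →ₗ[A] N) ((Fin n → A) →ₗ[A] N) ((Fin m → A) →ₗ[A] N)
    (LinearMap.lcomp A N π) (LinearMap.lcomp A N ρ') hinj hex
  refine ⟨fun h => key.1 ?_, fun h => key.2 ?_ ?_⟩
  · exact_mod_cast hpi n 1 (by exact_mod_cast h)
  · exact_mod_cast hpi n 2 (by exact_mod_cast h)
  · have h1 : ((1 : ℕ) : ℕ∞) ≤ LocCoh.idealDepth I N := by
      refine le_trans ?_ h
      norm_num
    exact_mod_cast hpi m 1 h1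

end Groth.Agent.DepthLib
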