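import Mathlib
import Groth.Prelude.Def_CAlg
import Groth.Agent.Lib.DepthLoc_helper5
import Groth.Agent.Lib.SupportLoc_helper5

/-!
# Serre's conditions `S_k` for modules: basic tools (helper5)
-/

set_option autoImplicit false
universe u
open CategoryTheory

namespace Groth.Agent.DepthLib

variable {A : Type u} [CommRing A] (M : Type u) [AddCommGroup M] [Module A M]
  (p : Ideal A) [hp : p.IsPrime]

/-- `depth M_p = 0` iff `p ∈ Ass M` -/
theorem not_one_le_depth_localization_iff [IsNoetherianRing A] [Module.Finite A M] :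
    ¬ 1 ≤ LocCoh.depth (Localization.AtPrime p) (LocalizedModule p.primeCompl M) ↔
      p ∈ associatedPrimes A M := by
  constructor
  · intro h
    unfold LocCoh.depth at h
    obtain ⟨Q, hQ, hmQ⟩ := exists_associatedPrime_of_not_one_le _ _ h
    haveI hQprime := hQ.isPrime
    have hQeq : Q = IsLocalRing.maximalIdeal (Localization.AtPrime p) :=
      ((IsLocalRing.maximalIdeal.isMaximal _).eq_of_le hQprime.ne_top hmQ).symm
    rw [← Module.associatedPrimes.preimage_comap_associatedPrimes_eq_associatedPrimes_of_isLocalizedModule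
      p.primeCompl (Localization.AtPrime p) (LocalizedModule.mkLinearMap p.primeCompl M),
      Set.mem_preimage, hQeq] at hQ
    have h2 : Ideal.comap (algebraMap A (Localization.AtPrime p))
        (IsLocalRing.maximalIdeal (Localization.AtPrime p)) = p :=
      IsLocalization.AtPrime.comap_maximalIdeal (Localization.AtPrime p) p
    rw [h2] at hQ
    exact hQ
  · intro hP
    have hass := Module.associatedPrimes.mem_associatedPrimes_atPrime_of_mem_associatedPrimes hP
    exact not_one_le_idealDepth_of_le_associatedPrime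
      (IsLocalRing.maximalIdeal (Localization.AtPrime p)) (LocalizedModule p.primeCompl M) _ hass
      le_rfl

/-- `dim M_p ≤ 0` iff `p` is minimal over `ann M` (for `p ∈ Supp M`, `M` finite) -/
theorem supportDim_localizedModule_le_zero_iff [Module.Finite A M]
    (hpM : (⟨p, hp⟩ : PrimeSpectrum A) ∈ Module.support A M) :
    Module.supportDim (Localization.AtPrime p) (LocalizedModule p.primeCompl M) ≤ 0 ↔
      p ∈ (Module.annihilator A M).minimalPrimes := by
  rw [supportDim_localizedModule M p hpM]
  have h0 : ((Order.height (⟨⟨p, hp⟩, hpM⟩ : Module.support A M) : ℕ∞) : WithBot ℕ∞) ≤ 0 ↔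
      Order.height (⟨⟨p, hp⟩, hpM⟩ : Module.support A M) = 0 := by
    constructor
    · intro h
      have : Order.height (⟨⟨p, hp⟩, hpM⟩ : Module.support A M) ≤ 0 := by exact_mod_cast h
      exact le_antisymm this zero_le
    · intro h
      rw [h]
      rfl
  rw [h0, Order.height_eq_zero]
  constructor
  · intro hmin
    refine ⟨⟨hp, ?_⟩, ?_⟩
    · have := hpM
      rw [Module.support_eq_zeroLocus] at this
      exact this
    · rintro q ⟨hq, hqann⟩ hqp
      have hqM : (⟨q, hq⟩ : PrimeSpectrum A) ∈ Module.support A M := by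
        rw [Module.support_eq_zeroLocus]
        exact hqann
      have := @hmin ⟨⟨q, hq⟩, hqM⟩ hqp
      exact this
  · intro hmin q hq
    have h3 : ∀ x ∈ Module.support A M, Module.annihilator A M ≤ x.asIdeal := by
      intro x hx
      rw [Module.support_eq_zeroLocus] at hx
      exact hx
    have hq2 : Module.annihilator A M ≤ q.1.asIdeal := h3 q.1 q.2
    exact hmin.2 ⟨q.1.isPrime, hq2⟩ hq

/-- an element of a finite module of positive `I`-depth which is killed locally off `V(I)`
vanishes -/
theorem eq_zero_of_one_le_idealDepth [IsNoetherianRing A] [Module.Finite A M] (I : Ideal A)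
    (h1 : 1 ≤ LocCoh.idealDepth I M) (k : M)
    (hk : ∀ q : Ideal A, q.IsPrime → ¬ I ≤ q → ∃ s, s ∉ q ∧ s • k = 0) : k = 0 := by
  set J : Ideal A := LinearMap.ker (LinearMap.toSpanSingleton A M k) with hJ
  have hJmem : ∀ a : A, a ∈ J ↔ a • k = 0 := by
    intro a
    rw [hJ, LinearMap.mem_ker, LinearMap.toSpanSingleton_apply]
  have hrad : I ≤ J.radical := by
    rw [Ideal.radical_eq_sInf]
    apply le_sInf
    rintro q ⟨hJq, hq⟩
    by_contra hIq
    obtain ⟨s, hsq, hsk⟩ := hk q hq hIq
    exact hsq (hJq ((hJmem s).2 hsk))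
  obtain ⟨n, hn⟩ := Ideal.exists_pow_le_of_le_radical_of_fg hrad
    ((isNoetherianRing_iff_ideal_fg A).1 inferInstance I)
  rcases (one_le_idealDepth_iff I M).1 h1 with htop | ⟨x, hxI, hxreg⟩
  · obtain ⟨r, hr1, hr2⟩ := Submodule.exists_sub_one_mem_and_smul_eq_zero_of_fg_of_le_smul I
      (⊤ : Submodule A M) Module.Finite.fg_top (by rw [htop])
    have hrk : r • k = 0 := hr2 k Submodule.mem_top
    have hak : (1 - r) • k = k := by rw [sub_smul, one_smul, hrk, sub_zero]
    have haI : (1 - r) ∈ I := by
      have : 1 - r = -(r - 1) := by ring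
      rw [this]
      exact I.neg_mem hr1
    have hpow : ∀ m : ℕ, (1 - r) ^ m • k = k := by
      intro m
      induction m with
      | zero => simp
      | succ m ih => rw [pow_succ, mul_smul, hak, ih]
    rw [← hpow n]
    exact (hJmem _).1 (hn (Ideal.pow_mem_pow haI n))
  · have h0 : x ^ n • k = 0 := (hJmem _).1 (hn (Ideal.pow_mem_pow hxI n))
    have hreg : IsSMulRegular M (x ^ n) := hxreg.pow n
    apply hreg
    show x ^ n • k = x ^ n • 0
    rw [h0, smul_zero]

end Groth.Agent.DepthLib
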