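import Mathlib

/-!
# Reflexive modules and localization (helper5)

For a finitely presented module `G` with finitely presented dual, the evaluation map
`G → G**` is compatible with localization.
-/

set_option autoImplicit false
universe u

namespace Groth.Agent.ReflexiveLoc

variable {A : Type u} [CommRing A] (S : Submonoid A) (A' : Type u) [CommRing A'] [Algebra A A']
  [IsLocalization S A']
variable {G G' : Type u} [AddCommGroup G] [Module A G] [AddCommGroup G'] [Module A G']
  [Module A' G'] [IsScalarTower A A' G'] (f : G →ₗ[A] G') [IsLocalizedModule S f]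

/-- the canonical map `G* → (G')*` -/
noncomputable def dualLoc : Module.Dual A G →ₗ[A] Module.Dual A' G' :=
  IsLocalizedModule.mapExtendScalars S f (Algebra.linearMap A A') A'

theorem dualLoc_apply (φ : Module.Dual A G) (g : G) :
    dualLoc S A' f φ (f g) = algebraMap A A' (φ g) := by
  simp [dualLoc, IsLocalizedModule.map_apply]

instance [Module.FinitePresentation A G] : IsLocalizedModule S (dualLoc S A' f) := by
  unfold dualLoc
  infer_instance

/-- the canonical map `G** → (G')**` -/
noncomputable def bidualLoc [Module.FinitePresentation A G] :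
    Module.Dual A (Module.Dual A G) →ₗ[A] Module.Dual A' (Module.Dual A' G') :=
  dualLoc S A' (dualLoc S A' f)

theorem bidualLoc_apply [Module.FinitePresentation A G] (θ : Module.Dual A (Module.Dual A G))
    (φ : Module.Dual A G) :
    bidualLoc S A' f θ (dualLoc S A' f φ) = algebraMap A A' (θ φ) :=
  dualLoc_apply S A' (dualLoc S A' f) θ φ

instance [Module.FinitePresentation A G] [Module.FinitePresentation A (Module.Dual A G)] :
    IsLocalizedModule S (bidualLoc S A' f) := by
  unfold bidualLoc
  infer_instance

/-- compatibility of the evaluation maps with localization -/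
theorem bidualLoc_eval [Module.FinitePresentation A G] (g : G) :
    bidualLoc S A' f (Module.Dual.eval A G g) = Module.Dual.eval A' G' (f g) := by
  apply LinearMap.restrictScalars_injective A
  apply IsLocalizedModule.linearMap_ext S (dualLoc S A' f) (Algebra.linearMap A A')
  ext φ
  simp only [LinearMap.coe_comp, LinearMap.coe_restrictScalars, Function.comp_apply]
  rw [bidualLoc_apply, Module.Dual.eval_apply, Module.Dual.eval_apply, dualLoc_apply]

include S f in
/-- if `G'` has injective evaluation map then elements of the kernel of `ev_G` are `S`-torsion -/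
theorem exists_smul_eq_zero_of_eval_eq_zero [Module.FinitePresentation A G]
    (hinj : Function.Injective (Module.Dual.eval A' G')) (k : G)
    (hk : Module.Dual.eval A G k = 0) : ∃ s ∈ S, s • k = 0 := by
  have h1 : Module.Dual.eval A' G' (f k) = 0 := by
    rw [← bidualLoc_eval S A' f, hk, map_zero]
  have h2 : f k = 0 := hinj (by rw [h1, map_zero])
  obtain ⟨s, hs⟩ := (IsLocalizedModule.eq_zero_iff S f).1 h2
  exact ⟨s.1, s.2, hs⟩

include S f in
/-- if `G'` has surjective evaluation map then the cokernel of `ev_G` is `S`-torsion -/
theorem exists_smul_mem_range_eval [Module.FinitePresentation A G]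
    [Module.FinitePresentation A (Module.Dual A G)]
    (hsurj : Function.Surjective (Module.Dual.eval A' G')) (θ : Module.Dual A (Module.Dual A G)) :
    ∃ s ∈ S, s • θ ∈ LinearMap.range (Module.Dual.eval A G) := by
  obtain ⟨x, hx⟩ := hsurj (bidualLoc S A' f θ)
  obtain ⟨⟨g, s⟩, hgs⟩ := IsLocalizedModule.surj S f x
  replace hgs : (s : A) • x = f g := hgs
  have h1 : bidualLoc S A' f ((s : A) • θ - Module.Dual.eval A G g) = 0 := by
    rw [map_sub, map_smul, bidualLoc_eval, ← hx, ← hgs, LinearMap.map_smul_of_tower, sub_self]
  obtain ⟨t, ht⟩ := (IsLocalizedModule.eq_zero_iff S (bidualLoc S A' f)).1 h1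
  replace ht : (t : A) • ((s : A) • θ - Module.Dual.eval A G g) = 0 := ht
  refine ⟨(t : A) * (s : A), S.mul_mem t.2 s.2, (t : A) • g, ?_⟩
  rw [smul_sub, sub_eq_zero] at ht
  rw [map_smul, ← ht, mul_smul]

include S f in
/-- reflexivity localizes -/
theorem isReflexive_of_isLocalizedModule [Module.FinitePresentation A G]
    [Module.FinitePresentation A (Module.Dual A G)] [Module.IsReflexive A G] :
    Module.IsReflexive A' G' := by
  have hbij := Module.bijective_dual_eval A G
  constructor
  constructor
  · -- injective
    rw [injective_iff_map_eq_zero]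
    intro x hx
    obtain ⟨⟨g, s⟩, hgs⟩ := IsLocalizedModule.surj S f x
    replace hgs : (s : A) • x = f g := hgs
    have h1 : bidualLoc S A' f (Module.Dual.eval A G g) = 0 := by
      rw [bidualLoc_eval, ← hgs, LinearMap.map_smul_of_tower, hx, smul_zero]
    obtain ⟨t, ht⟩ := (IsLocalizedModule.eq_zero_iff S (bidualLoc S A' f)).1 h1
    replace ht : (t : A) • Module.Dual.eval A G g = 0 := ht
    rw [← map_smul] at ht
    have h2 : (t : A) • g = 0 := hbij.1 (by rw [ht, map_zero])
    have h3 : ((t * s : S) : A) • x = 0 := by
      rw [Submonoid.coe_mul, mul_smul, hgs, ← map_smul, h2, map_zero]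
    have hu := IsLocalizedModule.map_units f (t * s)
    rw [Module.End.isUnit_iff] at hu
    apply hu.1
    rw [map_zero]
    exact h3
  · intro Θ
    obtain ⟨⟨θ, s⟩, hθs⟩ := IsLocalizedModule.surj S (bidualLoc S A' f) Θ
    replace hθs : (s : A) • Θ = bidualLoc S A' f θ := hθs
    obtain ⟨g, hg⟩ := hbij.2 θ
    have hu := IsLocalizedModule.map_units f s
    rw [Module.End.isUnit_iff] at hu
    obtain ⟨x, hx⟩ := hu.2 (f g)
    refine ⟨x, ?_⟩
    have hu2 := IsLocalizedModule.map_units (bidualLoc S A' f) s
    rw [Module.End.isUnit_iff] at hu2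
    apply hu2.1
    simp only [Module.algebraMap_end_apply] at hx ⊢
    rw [hθs, ← LinearMap.map_smul_of_tower, hx, ← bidualLoc_eval S A' f, hg]

section MapTorsion

variable {B : Type u} [CommRing B] (T : Submonoid B) {M N : Type u} [AddCommGroup M] [Module B M]
  [AddCommGroup N] [Module B N] (g : M →ₗ[B] N)

theorem map_injective_of_torsion (h : ∀ k, g k = 0 → ∃ s ∈ T, s • k = 0) :
    Function.Injective (LocalizedModule.map T g) := by
  rw [injective_iff_map_eq_zero]
  intro y hy
  induction y using LocalizedModule.induction_on with
  | h m u =>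
    rw [LocalizedModule.map_mk, ← LocalizedModule.zero_mk u, LocalizedModule.mk_eq] at hy
    obtain ⟨t, ht⟩ := hy
    rw [smul_zero, smul_zero] at ht
    have h1 : g ((t : B) • (u : B) • m) = 0 := by
      rw [map_smul, map_smul]
      exact ht
    obtain ⟨s, hs, hsm⟩ := h _ h1
    rw [← LocalizedModule.zero_mk u, LocalizedModule.mk_eq]
    refine ⟨⟨s, hs⟩ * t, ?_⟩
    rw [smul_zero, smul_zero, mul_smul]
    exact hsm

theorem map_surjective_of_torsion (h : ∀ n, ∃ s ∈ T, s • n ∈ LinearMap.range g) :
    Function.Surjective (LocalizedModule.map T g) := by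
  intro y
  induction y using LocalizedModule.induction_on with
  | h n u =>
    obtain ⟨s, hs, m, hm⟩ := h n
    refine ⟨LocalizedModule.mk m (⟨s, hs⟩ * u), ?_⟩
    rw [LocalizedModule.map_mk, hm, LocalizedModule.mk_eq]
    refine ⟨1, ?_⟩
    rw [one_smul, one_smul, Submonoid.smul_def, Submonoid.smul_def, Submonoid.coe_mul, mul_smul,
      smul_comm]

end MapTorsion

/-- if `M_p` is reflexive then the localized evaluation map is bijective -/
theorem bijective_map_eval {A : Type u} [CommRing A] (G : Type u) [AddCommGroup G] [Module A G]
    [Module.FinitePresentation A G] [Module.FinitePresentation A (Module.Dual A G)]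
    (p : Ideal A) [p.IsPrime]
    [Module.IsReflexive (Localization.AtPrime p) (LocalizedModule p.primeCompl G)] :
    Function.Bijective (LocalizedModule.map p.primeCompl (Module.Dual.eval A G)) := by
  constructor
  · apply map_injective_of_torsion
    intro k hk
    exact exists_smul_eq_zero_of_eval_eq_zero p.primeCompl (Localization.AtPrime p)
      (LocalizedModule.mkLinearMap p.primeCompl G) (Module.bijective_dual_eval _ _).1 k hk
  · apply map_surjective_of_torsion
    intro θ
    exact exists_smul_mem_range_eval p.primeCompl (Localization.AtPrime p)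
      (LocalizedModule.mkLinearMap p.primeCompl G) (Module.bijective_dual_eval _ _).2 θ

end Groth.Agent.ReflexiveLoc
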