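import Mathlib
import Groth.Prelude.Def_CAlg
import Groth.Agent.Lib.DepthSk_helper5
import Groth.Agent.Lib.DepthHom_helper5
import Groth.Agent.Lib.ReflexiveLoc_helper5

/-!
# Depth of reflexive modules (helper5)
-/

set_option autoImplicit false
universe u
open CategoryTheory

namespace Groth.Agent.DepthLib

variable {A : Type u} [CommRing A] [IsNoetherianRing A] (I : Ideal A)
  (G : Type u) [AddCommGroup G] [Module A G] [Module.Finite A G]

/-- a reflexive module has depth at least `min 2 (depth A)` -/
theorem reflexive_depth [Module.IsReflexive A G] :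
    (1 ≤ LocCoh.idealDepth I A → 1 ≤ LocCoh.idealDepth I G) ∧
    (2 ≤ LocCoh.idealDepth I A → 2 ≤ LocCoh.idealDepth I G) := by
  haveI : Module.Finite A (Module.Dual A G) := finite_hom G A
  have e := Module.evalEquiv A G
  rw [idealDepth_congr I G e]
  exact idealDepth_hom I (Module.Dual A G) A

theorem reflexive_min_depth [Module.IsReflexive A G] :
    min 2 (LocCoh.idealDepth I A) ≤ LocCoh.idealDepth I G := by
  obtain ⟨h1, h2⟩ := reflexive_depth I G
  by_cases hA2 : 2 ≤ LocCoh.idealDepth I A
  · exact le_trans (min_le_left _ _) (h2 hA2)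
  · by_cases hA1 : 1 ≤ LocCoh.idealDepth I A
    · push Not at hA2
      have : LocCoh.idealDepth I A ≤ 1 := by
        have h3 : (2 : ℕ∞) = 1 + 1 := by norm_num
        rw [h3] at hA2
        exact (ENat.lt_add_one_iff (by simp)).1 hA2
      exact le_trans (min_le_right _ _) (le_trans this (h1 hA1))
    · push Not at hA1
      have : LocCoh.idealDepth I A = 0 := Order.lt_one_iff.1 hA1
      rw [this]
      simp

/-- reflexivity localizes (Noetherian case) -/
theorem isReflexive_localizedModule [Module.IsReflexive A G] (p : Ideal A) [p.IsPrime] :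
    Module.IsReflexive (Localization.AtPrime p) (LocalizedModule p.primeCompl G) := by
  haveI : Module.FinitePresentation A G := Module.finitePresentation_of_finite A G
  haveI : Module.Finite A (Module.Dual A G) := finite_hom G A
  haveI : Module.FinitePresentation A (Module.Dual A G) := Module.finitePresentation_of_finite A _
  exact Groth.Agent.ReflexiveLoc.isReflexive_of_isLocalizedModule p.primeCompl
    (Localization.AtPrime p) (LocalizedModule.mkLinearMap p.primeCompl G)

/-- the localized module of the ring is the localization -/
noncomputable def locSelfEquiv (R : Type u) [CommRing R] (p : Ideal R) [p.IsPrime] :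
    LocalizedModule p.primeCompl R ≃ₗ[Localization.AtPrime p] Localization.AtPrime p :=
  LinearEquiv.extendScalarsOfIsLocalization p.primeCompl (Localization.AtPrime p)
    (IsLocalizedModule.iso p.primeCompl (Algebra.linearMap R (Localization.AtPrime p)))

theorem depth_locSelf (R : Type u) [CommRing R] (p : Ideal R) [p.IsPrime] :
    LocCoh.depth (Localization.AtPrime p) (LocalizedModule p.primeCompl R) =
      LocCoh.depth (Localization.AtPrime p) (Localization.AtPrime p) :=
  idealDepth_congr _ _ (locSelfEquiv R p)

theorem supportDim_locSelf (R : Type u) [CommRing R] (p : Ideal R) [p.IsPrime] :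
    Module.supportDim (Localization.AtPrime p) (LocalizedModule p.primeCompl R) =
      (p.height : WithBot ℕ∞) := by
  rw [Module.supportDim_eq_of_equiv (locSelfEquiv R p), Module.supportDim_self_eq_ringKrullDim,
    IsLocalization.AtPrime.ringKrullDim_eq_height p]

theorem supportDim_localizedModule_le_height (p : Ideal A) [p.IsPrime] :
    Module.supportDim (Localization.AtPrime p) (LocalizedModule p.primeCompl G) ≤
      (p.height : WithBot ℕ∞) := by
  rw [← IsLocalization.AtPrime.ringKrullDim_eq_height p (Localization.AtPrime p)]
  exact Module.supportDim_le_ringKrullDim _ _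

/-- a reflexive module over an `S_k` ring is `S_k` (`k ≤ 2`) -/
theorem hasSk_of_reflexive [Module.IsReflexive A G] (k : ℕ) (hk : k ≤ 2)
    (hA : LocCoh.HasSk k A A) : LocCoh.HasSk k A G := by
  intro p hp
  haveI := isReflexive_localizedModule G p
  have h1 := reflexive_min_depth (IsLocalRing.maximalIdeal (Localization.AtPrime p))
    (LocalizedModule p.primeCompl G)
  have h2 := hA p
  rw [supportDim_locSelf, depth_locSelf] at h2
  have h3 := supportDim_localizedModule_le_height G p
  have hk' : ((k : ℕ) : WithBot ℕ∞) ≤ ((2 : ℕ∞) : WithBot ℕ∞) := by exact_mod_cast hk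
  calc min (k : WithBot ℕ∞) (Module.supportDim (Localization.AtPrime p)
        (LocalizedModule p.primeCompl G))
      ≤ min (k : WithBot ℕ∞) (p.height : WithBot ℕ∞) := min_le_min_left _ h3
    _ ≤ min ((2 : ℕ∞) : WithBot ℕ∞)
        ((LocCoh.depth (Localization.AtPrime p) (Localization.AtPrime p) : ℕ∞) : WithBot ℕ∞) :=
        le_min (le_trans (min_le_left _ _) hk') h2
    _ = ((min 2 (LocCoh.depth (Localization.AtPrime p) (Localization.AtPrime p)) : ℕ∞) :
          WithBot ℕ∞) := by rw [WithBot.coe_min]
    _ ≤ _ := by exact_mod_cast h1

end Groth.Agent.DepthLib
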