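import Mathlib
import Groth.Prelude.Def_CAlg
import Groth.Agent.Lib.DepthChain_helper5

/-!
# Serre's conditions and quotients by regular elements (helper5)
-/

set_option autoImplicit false
universe u

namespace Groth.Agent.DepthLib

open RingTheory.Sequence Pointwise

section Local

variable {R : Type u} [CommRing R] [IsLocalRing R] [IsNoetherianRing R]
  (M : Type u) [AddCommGroup M] [Module R M] [Module.Finite R M]
  (Q : Type u) [AddCommGroup Q] [Module R Q] [Module.Finite R Q]

/-- the cokernel of multiplication by `x` is `QuotSMulTop x M` -/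
noncomputable def quotSMulTopEquivOfExact {x : R} (g : M →ₗ[R] Q) (hg : Function.Surjective g)
    (hex : Function.Exact (x • LinearMap.id : M →ₗ[R] M) g) : QuotSMulTop x M ≃ₗ[R] Q :=
  (Submodule.quotEquivOfEq _ _ (by
    rw [hex.linearMap_ker_eq]
    ext m
    constructor
    · intro hm
      obtain ⟨m', _, hm'⟩ := (Submodule.mem_smul_pointwise_iff_exists _ _ _).1 hm
      exact ⟨m', hm'⟩
    · rintro ⟨m', rfl⟩
      exact Submodule.smul_mem_pointwise_smul _ _ _ Submodule.mem_top)).trans
    (g.quotKerEquivOfSurjective hg)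

theorem supportDim_add_one_of_exact {x : R} (hx : x ∈ IsLocalRing.maximalIdeal R)
    (hreg : IsSMulRegular M x) (g : M →ₗ[R] Q) (hg : Function.Surjective g)
    (hex : Function.Exact (x • LinearMap.id : M →ₗ[R] M) g) :
    Module.supportDim R Q + 1 = Module.supportDim R M := by
  rw [← Module.supportDim_eq_of_equiv (quotSMulTopEquivOfExact M Q g hg hex)]
  exact Module.supportDim_quotSMulTop_succ_eq_supportDim hreg hx

theorem depth_add_one_of_exact {x : R} (hx : x ∈ IsLocalRing.maximalIdeal R)
    (hreg : IsSMulRegular M x) (g : M →ₗ[R] Q) (hg : Function.Surjective g)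
    (hex : Function.Exact (x • LinearMap.id : M →ₗ[R] M) g) :
    LocCoh.depth R Q + 1 = LocCoh.depth R M := by
  unfold LocCoh.depth
  rw [← idealDepth_congr _ _ (quotSMulTopEquivOfExact M Q g hg hex)]
  exact idealDepth_quotSMulTop_add_one _ M hx hreg

end Local

/-- arithmetic step for `S_k` -/
theorem sk_step (k : ℕ) (hk : 1 ≤ k) {D D' : WithBot ℕ∞} {d d' : ℕ∞} (hD : D' + 1 = D)
    (hd : d' + 1 = d) (h : min (k : WithBot ℕ∞) D ≤ (d : WithBot ℕ∞)) :
    min ((k - 1 : ℕ) : WithBot ℕ∞) D' ≤ (d' : WithBot ℕ∞) := by
  cases D' with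
  | bot => simp
  | coe D'' =>
    have hk1 : ((k : ℕ) : WithBot ℕ∞) = (((k - 1 : ℕ) : ℕ∞) + 1 : ℕ∞) := by
      have : k = (k - 1) + 1 := by omega
      conv_lhs => rw [this]
      push_cast
      rfl
    have hD' : D = ((D'' + 1 : ℕ∞) : WithBot ℕ∞) := by
      rw [← hD]
      rfl
    rw [hk1, hD', ← WithBot.coe_min, WithBot.coe_le_coe, min_add_add_right, ← hd] at h
    have h2 := (ENat.add_le_add_iff_right (by simp : (1 : ℕ∞) ≠ ⊤)).1 h
    have h3 : (((k - 1 : ℕ) : ℕ∞) : WithBot ℕ∞) = ((k - 1 : ℕ) : WithBot ℕ∞) := rfl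
    rw [← h3, ← WithBot.coe_min, WithBot.coe_le_coe]
    exact h2

section Global

variable {A : Type u} [CommRing A] [IsNoetherianRing A]

theorem hasSk_congr {M N : Type u} [AddCommGroup M] [Module A M] [AddCommGroup N] [Module A N]
    (e : M ≃ₗ[A] N) (k : ℕ) (hM : LocCoh.HasSk k A M) : LocCoh.HasSk k A N := by
  intro p hp
  have ep : LocalizedModule p.primeCompl M ≃ₗ[Localization.AtPrime p]
      LocalizedModule p.primeCompl N :=
    IsLocalizedModule.mapEquiv p.primeCompl (LocalizedModule.mkLinearMap p.primeCompl M)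
      (LocalizedModule.mkLinearMap p.primeCompl N) (Localization.AtPrime p) e
  unfold LocCoh.depth
  rw [← Module.supportDim_eq_of_equiv ep, ← idealDepth_congr _ _ ep]
  exact hM p

/-- `S_k` passes to `S_{k-1}` on the quotient by a regular element -/
theorem hasSk_quotSMulTop (M : Type u) [AddCommGroup M] [Module A M] [Module.Finite A M] (k : ℕ)
    (hk : 1 ≤ k) (hM : LocCoh.HasSk k A M) (x : A) (hreg : IsSMulRegular M x) :
    LocCoh.HasSk (k - 1) A (QuotSMulTop x M) := by
  intro p hp
  by_cases hxp : x ∈ p
  · have hxmem : algebraMap A (Localization.AtPrime p) x ∈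
        IsLocalRing.maximalIdeal (Localization.AtPrime p) :=
      (IsLocalization.AtPrime.to_map_mem_maximal_iff _ p x).2 hxp
    have hxreg : IsSMulRegular (LocalizedModule p.primeCompl M)
        (algebraMap A (Localization.AtPrime p) x) := by
      rw [isSMulRegular_localizedModule_iff]
      intro m hm
      refine ⟨1, Submonoid.one_mem _, ?_⟩
      rw [one_smul]
      apply hreg
      show x • m = x • 0
      rw [hm, smul_zero]
    have hD := supportDim_add_one_of_exact (LocalizedModule p.primeCompl M)
      (LocalizedModule p.primeCompl (QuotSMulTop x M)) hxmem hxreg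
      (LocalizedModule.map p.primeCompl (Submodule.mkQ _))
      (LocalizedModule.map_surjective _ _ (Submodule.mkQ_surjective _))
      (localized_smul_exact p.primeCompl M x)
    have hd := depth_add_one_of_exact (LocalizedModule p.primeCompl M)
      (LocalizedModule p.primeCompl (QuotSMulTop x M)) hxmem hxreg
      (LocalizedModule.map p.primeCompl (Submodule.mkQ _))
      (LocalizedModule.map_surjective _ _ (Submodule.mkQ_surjective _))
      (localized_smul_exact p.primeCompl M x)
    exact sk_step k hk hD hd (hM p)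
  · haveI : Subsingleton (LocalizedModule p.primeCompl (QuotSMulTop x M)) := by
      rw [LocalizedModule.subsingleton_iff]
      intro m
      refine ⟨x, hxp, ?_⟩
      obtain ⟨m, rfl⟩ := Submodule.mkQ_surjective _ m
      rw [← map_smul, Submodule.mkQ_apply, Submodule.Quotient.mk_eq_zero]
      exact Submodule.smul_mem_pointwise_smul _ _ _ Submodule.mem_top
    rw [Module.supportDim_eq_bot_of_subsingleton]
    simp

/-- `S_k` passes to `S_{k-r}` on the quotient by a regular sequence of length `r ≤ k` -/
theorem hasSk_quot_ofList (rs : List A) :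
    ∀ (k : ℕ) (M : Type u) [AddCommGroup M] [Module A M] [Module.Finite A M],
      LocCoh.HasSk k A M → IsWeaklyRegular M rs → rs.length ≤ k →
      LocCoh.HasSk (k - rs.length) A (M ⧸ (Ideal.ofList rs • (⊤ : Submodule A M))) := by
  induction rs with
  | nil =>
    intro k M _ _ _ hM _ _
    rw [List.length_nil, Nat.sub_zero]
    exact hasSk_congr
      (Submodule.quotEquivOfEqBot _ (by rw [Ideal.ofList_nil, Submodule.bot_smul])).symm k hM
  | cons x xs ih =>
    intro k M _ _ _ hM hreg hlen
    rw [isWeaklyRegular_cons_iff] at hreg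
    rw [List.length_cons] at hlen ⊢
    have h1 := hasSk_quotSMulTop M k (by omega) hM x hreg.1
    have h2 := ih (k - 1) (QuotSMulTop x M) h1 hreg.2 (by omega)
    have h3 : k - (xs.length + 1) = k - 1 - xs.length := by omega
    rw [h3]
    exact hasSk_congr (Submodule.quotOfListConsSMulTopEquivQuotSMulTopInner M x xs).symm _ h2

end Global

end Groth.Agent.DepthLib
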