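import Mathlib

set_option autoImplicit false
universe u

namespace Groth.Agent.Lib.DimOne_helper3

open IsLocalRing

variable (A : Type u) [CommRing A]

/-- the minimal primes, as a subtype of the prime spectrum -/
abbrev MinP := {p : PrimeSpectrum A // p.asIdeal ∈ minimalPrimes A}

/-- the product of the localizations at the minimal primes -/
abbrev LL := ∀ p : MinP A, Localization.AtPrime p.1.asIdeal

variable {A}

instance [IsNoetherianRing A] : Finite (MinP A) := by
  have hfin : (minimalPrimes A).Finite := minimalPrimes.finite_of_isNoetherianRing A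
  haveI := hfin.to_subtype
  exact Finite.of_injective (fun p : MinP A => (⟨p.1.asIdeal, p.2⟩ : minimalPrimes A))
    (by
      intro p q h
      apply Subtype.ext
      apply PrimeSpectrum.ext
      exact congrArg Subtype.val h)

theorem exists_notMem_map_eq_zero (p q : MinP A) (hpq : p ≠ q) :
    ∃ t : A, t ∉ q.1.asIdeal ∧ algebraMap A (Localization.AtPrime p.1.asIdeal) t = 0 := by
  have hnle : ¬ p.1.asIdeal ≤ q.1.asIdeal := by
    intro hle
    have := q.2.2 ⟨p.1.isPrime, bot_le⟩ hle
    apply hpq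
    apply Subtype.ext
    apply PrimeSpectrum.ext
    exact le_antisymm hle this
  obtain ⟨x, hxp, hxq⟩ := Set.not_subset.1 hnle
  have hrad := IsLocalization.AtPrime.radical_map_of_mem_minimalPrimes
    (A := Localization.AtPrime p.1.asIdeal) p.1.asIdeal ⊥ p.2
  have hx : algebraMap A (Localization.AtPrime p.1.asIdeal) x ∈
      ((⊥ : Ideal A).map (algebraMap A (Localization.AtPrime p.1.asIdeal))).radical := by
    rw [hrad]; exact Ideal.mem_map_of_mem _ hxp
  rw [Ideal.map_bot] at hx
  obtain ⟨n, hn⟩ := hx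
  refine ⟨x ^ n, fun h => hxq (q.1.isPrime.mem_of_pow_mem n h), ?_⟩
  rw [map_pow]
  exact hn

theorem exists_smul_mem_range [IsNoetherianRing A] (ℓ : LL A) (q : MinP A) :
    ∃ s : A, s ∉ q.1.asIdeal ∧
      ∃ b : A, algebraMap A (LL A) b = algebraMap A (LL A) s * ℓ := by
  classical
  haveI : Fintype (MinP A) := Fintype.ofFinite _
  haveI := q.1.isPrime
  obtain ⟨⟨y, sq⟩, hys⟩ := IsLocalization.surj q.1.asIdeal.primeCompl (ℓ q)
  choose! tt htt using fun p : MinP A => fun hp : p ≠ q => exists_notMem_map_eq_zero p q hp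
  obtain ⟨t, ht⟩ : ∃ t, t = ∏ p ∈ Finset.univ.erase q, tt p := ⟨_, rfl⟩
  have htq : t ∉ q.1.asIdeal := by
    rw [ht, Ideal.IsPrime.prod_mem_iff]
    rintro ⟨p, hp, hmem⟩
    exact (htt p (Finset.ne_of_mem_erase hp)).1 hmem
  have htp : ∀ p : MinP A, p ≠ q →
      algebraMap A (Localization.AtPrime p.1.asIdeal) t = 0 := by
    intro p hp
    rw [ht, map_prod]
    exact Finset.prod_eq_zero (Finset.mem_erase.2 ⟨hp, Finset.mem_univ _⟩) (htt p hp).2
  refine ⟨sq * t, ?_, y * t, ?_⟩
  · intro h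
    rcases q.1.isPrime.mem_or_mem h with h1 | h1
    · exact sq.2 h1
    · exact htq h1
  · funext p
    simp only [Pi.algebraMap_apply, Pi.mul_apply, map_mul]
    by_cases hp : p = q
    · subst hp
      simp only at hys
      rw [← hys]; ring
    · rw [htp p hp]; ring

theorem exists_pow_smul_mem_range [IsLocalRing A] [IsNoetherianRing A]
    (hdim : ringKrullDim A = 1) (ℓ : LL A) :
    ∃ k : ℕ, ∀ c ∈ maximalIdeal A ^ k,
      algebraMap A (LL A) c * ℓ ∈ (algebraMap A (LL A)).range := by
  have hdim1 : Ring.KrullDimLE 1 A := by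
    rw [Ring.krullDimLE_iff, hdim]; rfl
  have hprimes := Ring.krullDimLE_one_iff.1 hdim1
  let J : Ideal A := Submodule.comap (LinearMap.toSpanSingleton A (LL A) ℓ)
    (LinearMap.range (Algebra.linearMap A (LL A)))
  have memJ : ∀ r, r ∈ J ↔ algebraMap A (LL A) r * ℓ ∈ (algebraMap A (LL A)).range := by
    intro r
    simp only [J, Submodule.mem_comap, LinearMap.toSpanSingleton_apply, LinearMap.mem_range,
      Algebra.linearMap_apply, RingHom.mem_range, Algebra.smul_def]
  have hJmin : ∀ q : Ideal A, q ∈ minimalPrimes A → ¬ J ≤ q := by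
    intro q hq hJq
    obtain ⟨s, hs, b, hb⟩ := exists_smul_mem_range ℓ ⟨⟨q, hq.1.1⟩, hq⟩
    exact hs (hJq ((memJ s).2 ⟨b, hb⟩))
  have hle : maximalIdeal A ≤ J.radical := by
    rw [Ideal.radical_eq_sInf]
    refine le_sInf ?_
    rintro q ⟨hJq, hqp⟩
    rcases hprimes q hqp with hmin | hmax
    · exact absurd hJq (hJmin q hmin)
    · rw [IsLocalRing.eq_maximalIdeal hmax]
  obtain ⟨k, hk⟩ := Ideal.exists_pow_le_of_le_radical_of_fg hle
    (IsNoetherian.noetherian (maximalIdeal A))
  exact ⟨k, fun c hc => (memJ c).1 (hk hc)⟩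

theorem pow_mem_range [IsLocalRing A] [IsNoetherianRing A] (hdim : ringKrullDim A = 1)
    (a : A) (ha : a ∈ maximalIdeal A) (i : LL A)
    (hi : i ∈ (nilradical A).map (algebraMap A (LL A))) :
    ∃ n : ℕ, 0 < n ∧ (i + algebraMap A (LL A) a) ^ n ∈ (algebraMap A (LL A)).range := by
  classical
  obtain ⟨t, ht⟩ := IsNoetherianRing.isNilpotent_nilradical A
  have hit : i ^ t = 0 := by
    have h1 : i ^ t ∈ ((nilradical A).map (algebraMap A (LL A))) ^ t := Ideal.pow_mem_pow hi t
    rw [← Ideal.map_pow, ht] at h1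
    simpa using h1
  choose kk hkk using fun j : ℕ => exists_pow_smul_mem_range hdim (i ^ j)
  obtain ⟨K, hKdef⟩ : ∃ K, K = ∑ j ∈ Finset.range t, kk j := ⟨_, rfl⟩
  have hK : ∀ j, j < t → kk j ≤ K := fun j hj => by
    rw [hKdef]
    exact Finset.single_le_sum (f := kk) (fun _ _ => Nat.zero_le _) (Finset.mem_range.2 hj)
  refine ⟨t + K + 1, Nat.succ_pos _, ?_⟩
  rw [add_pow]
  refine Subring.sum_mem _ fun j hj => ?_
  by_cases hjt : j < t
  · have hmem : a ^ (t + K + 1 - j) ∈ maximalIdeal A ^ kk j :=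
      Ideal.pow_le_pow_right (by have := hK j hjt; omega) (Ideal.pow_mem_pow ha _)
    have h2 := hkk j _ hmem
    have e : i ^ j * (algebraMap A (LL A) a) ^ (t + K + 1 - j) * ((t + K + 1).choose j : LL A) =
        (algebraMap A (LL A) (a ^ (t + K + 1 - j)) * i ^ j) *
          algebraMap A (LL A) ((t + K + 1).choose j : A) := by
      rw [map_pow, map_natCast]; ring
    rw [e]
    exact Subring.mul_mem _ h2 ⟨_, rfl⟩
  · have h0 : i ^ j = 0 := by
      have htj : t ≤ j := not_lt.1 hjt
      rw [← Nat.sub_add_cancel htj, pow_add, hit, mul_zero]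
    rw [h0, zero_mul, zero_mul]
    exact Subring.zero_mem _

end Groth.Agent.Lib.DimOne_helper3
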