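import Mathlib
import Groth.Agent.Lib.DimOne_helper3

set_option autoImplicit false
universe u

namespace Groth.Agent.Lib.DimOne2_helper3

open IsLocalRing Groth.Agent.Lib.DimOne_helper3

variable {A : Type u} [CommRing A] [IsLocalRing A] [IsNoetherianRing A]

theorem primes_of_dim_one (hdim : ringKrullDim A = 1) :
    ∀ I : Ideal A, I.IsPrime → I ∈ minimalPrimes A ∨ I.IsMaximal := by
  have hdim1 : Ring.KrullDimLE 1 A := by
    rw [Ring.krullDimLE_iff, hdim]; rfl
  exact Ring.krullDimLE_one_iff.1 hdim1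

theorem maximalIdeal_notMem_minimalPrimes (hdim : ringKrullDim A = 1) :
    maximalIdeal A ∉ minimalPrimes A := by
  intro hmin
  have h0 : Ring.KrullDimLE 0 A := by
    rw [Ring.krullDimLE_zero_iff]
    intro I hI
    have hle : I ≤ maximalIdeal A := IsLocalRing.le_maximalIdeal hI.ne_top
    have hge : maximalIdeal A ≤ I := hmin.2 ⟨hI, bot_le⟩ hle
    rw [le_antisymm hle hge]
    infer_instance
  rw [Ring.krullDimLE_iff, hdim] at h0
  exact absurd h0 (by decide)

theorem not_le_of_mem_minimalPrimes (hdim : ringKrullDim A = 1) (p : Ideal A)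
    (hp : p ∈ minimalPrimes A) : ¬ maximalIdeal A ≤ p := by
  intro hle
  have hpp : p.IsPrime := hp.1.1
  have : p = maximalIdeal A := le_antisymm (IsLocalRing.le_maximalIdeal hpp.ne_top) hle
  exact maximalIdeal_notMem_minimalPrimes hdim (this ▸ hp)

theorem exists_notMem_minimalPrimes (hdim : ringKrullDim A = 1) :
    ∃ f ∈ maximalIdeal A, ∀ p ∈ minimalPrimes A, f ∉ p := by
  classical
  have hfin : (minimalPrimes A).Finite := minimalPrimes.finite_of_isNoetherianRing A
  by_contra hcon
  push Not at hcon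
  have hsub : ((maximalIdeal A : Ideal A) : Set A) ⊆
      ⋃ p ∈ (↑hfin.toFinset : Set (Ideal A)), (p : Set A) := by
    intro x hx
    obtain ⟨p, hp, hxp⟩ := hcon x hx
    simp only [Set.mem_iUnion]
    exact ⟨p, by simpa using hp, hxp⟩
  rw [Ideal.subset_union_prime (f := fun p : Ideal A => p) ⊥ ⊥ (fun p hp _ _ => by
    have : p ∈ minimalPrimes A := by simpa using hp
    exact this.1.1)] at hsub
  obtain ⟨p, hp, hle⟩ := hsub
  have hp' : p ∈ minimalPrimes A := by simpa using hp
  exact not_le_of_mem_minimalPrimes hdim p hp' hle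

theorem radical_span_eq_iff (hdim : ringKrullDim A = 1) (f : A) (hf : f ∈ maximalIdeal A) :
    (maximalIdeal A = (Ideal.span {f}).radical) ↔ (∀ p ∈ minimalPrimes A, f ∉ p) := by
  constructor
  · intro h p hp hfp
    have hpp : p.IsPrime := hp.1.1
    have h1 : (Ideal.span {f}).radical ≤ p :=
      hpp.radical_le_iff.2 ((Ideal.span_singleton_le_iff_mem _).2 hfp)
    rw [← h] at h1
    exact not_le_of_mem_minimalPrimes hdim p hp h1
  · intro h
    rw [Ideal.radical_eq_sInf]
    apply le_antisymm
    · refine le_sInf ?_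
      rintro q ⟨hfq, hqp⟩
      rcases primes_of_dim_one hdim q hqp with hmin | hmax
      · exact absurd (hfq (Ideal.mem_span_singleton_self f)) (h q hmin)
      · rw [IsLocalRing.eq_maximalIdeal hmax]
    · exact sInf_le ⟨(Ideal.span_singleton_le_iff_mem _).2 hf, inferInstance⟩

/-- elements vanishing in all `A_p` (`p` minimal) are killed by a power of the maximal ideal -/
theorem exists_pow_mul_eq_zero (hdim : ringKrullDim A = 1) (x : A)
    (hx : ∀ p : MinP A, algebraMap A (Localization.AtPrime p.1.asIdeal) x = 0) :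
    ∃ k : ℕ, ∀ c ∈ maximalIdeal A ^ k, c * x = 0 := by
  have hprimes := primes_of_dim_one hdim
  set J : Ideal A := Submodule.annihilator (Submodule.span A {x}) with hJ
  have memJ : ∀ r, r ∈ J ↔ r * x = 0 := by
    intro r
    rw [hJ, Submodule.mem_annihilator_span_singleton, smul_eq_mul]
  have hJmin : ∀ q : Ideal A, q ∈ minimalPrimes A → ¬ J ≤ q := by
    intro q hq hJq
    haveI : q.IsPrime := hq.1.1
    have h := hx ⟨⟨q, hq.1.1⟩, hq⟩
    obtain ⟨c, hc⟩ := (IsLocalization.map_eq_zero_iff q.primeCompl (Localization.AtPrime q) x).1 h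
    exact c.2 (hJq ((memJ _).2 hc))
  have hle : maximalIdeal A ≤ J.radical := by
    rw [Ideal.radical_eq_sInf]
    refine le_sInf ?_
    rintro q ⟨hJq, hqp⟩
    rcases hprimes q hqp with hmin | hmax
    · exact absurd hJq (hJmin q hmin)
    · rw [IsLocalRing.eq_maximalIdeal hmax]
  obtain ⟨k, hk⟩ := Ideal.exists_pow_le_of_le_radical_of_fg hle
    (IsNoetherian.noetherian (maximalIdeal A))
  exact ⟨k, fun c hc => (memJ c).1 (hk hc)⟩

theorem isLocalization_away_LL (hdim : ringKrullDim A = 1) (f : A) (hf : f ∈ maximalIdeal A)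
    (h : ∀ p ∈ minimalPrimes A, f ∉ p) : IsLocalization.Away f (LL A) := by
  rw [IsLocalization.Away, isLocalization_iff]
  refine ⟨?_, ?_, ?_⟩
  · rintro ⟨y, n, rfl⟩
    rw [Pi.isUnit_iff]
    intro p
    haveI := p.1.isPrime
    change IsUnit (algebraMap A (Localization.AtPrime p.1.asIdeal) (f ^ n))
    rw [IsLocalization.AtPrime.isUnit_to_map_iff (Localization.AtPrime p.1.asIdeal) p.1.asIdeal]
    intro hmem
    exact h _ p.2 (p.1.isPrime.mem_of_pow_mem n hmem)
  · intro z
    obtain ⟨k, hk⟩ := exists_pow_smul_mem_range hdim z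
    obtain ⟨b, hb⟩ := hk (f ^ k) (Ideal.pow_mem_pow hf k)
    refine ⟨(b, ⟨f ^ k, k, rfl⟩), ?_⟩
    simp only
    rw [hb, mul_comm]
  · intro x y hxy
    have hx : ∀ p : MinP A, algebraMap A (Localization.AtPrime p.1.asIdeal) (x - y) = 0 := by
      intro p
      have := congrFun hxy p
      simp only [Pi.algebraMap_apply] at this
      rw [map_sub, this, sub_self]
    obtain ⟨k, hk⟩ := exists_pow_mul_eq_zero hdim (x - y) hx
    refine ⟨⟨f ^ k, k, rfl⟩, ?_⟩
    have := hk (f ^ k) (Ideal.pow_mem_pow hf k)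
    rw [mul_sub, sub_eq_zero] at this
    exact this

theorem notMem_of_isUnit_LL (f : A) (hu : IsUnit (algebraMap A (LL A) f)) :
    ∀ p ∈ minimalPrimes A, f ∉ p := by
  intro p hp hfp
  rw [Pi.isUnit_iff] at hu
  have h1 := hu ⟨⟨p, hp.1.1⟩, hp⟩
  haveI : p.IsPrime := hp.1.1
  change IsUnit (algebraMap A (Localization.AtPrime p) f) at h1
  rw [IsLocalization.AtPrime.isUnit_to_map_iff (Localization.AtPrime p) p] at h1
  exact h1 hfp

theorem iff_nonempty_algEquiv_LL (hdim : ringKrullDim A = 1) (f : A) (hf : f ∈ maximalIdeal A) :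
    (∀ p ∈ minimalPrimes A, f ∉ p) ↔ Nonempty (Localization.Away f ≃ₐ[A] LL A) := by
  constructor
  · intro h
    haveI := isLocalization_away_LL hdim f hf h
    exact ⟨IsLocalization.algEquiv (Submonoid.powers f) (Localization.Away f) (LL A)⟩
  · rintro ⟨e⟩
    apply notMem_of_isUnit_LL
    have h1 : IsUnit (algebraMap A (Localization.Away f) f) :=
      IsLocalization.Away.algebraMap_isUnit f
    have h2 := h1.map e
    rwa [e.commutes] at h2

/-- regular elements / reduced: elements avoiding the minimal primes are nonzerodivisors -/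
theorem mem_nonZeroDivisors_of_notMem (hdim : ringKrullDim A = 1)
    (hreg : (∃ r ∈ maximalIdeal A, IsSMulRegular A r) ∨ IsReduced A)
    (g : A) (hg : g ∈ maximalIdeal A) (h : ∀ p ∈ minimalPrimes A, g ∉ p) :
    g ∈ nonZeroDivisors A := by
  rw [mem_nonZeroDivisors_iff_left]
  intro x hx
  rcases hreg with ⟨r, hr, hrreg⟩ | hred
  · have hrad := (radical_span_eq_iff hdim g hg).2 h
    have hr' : r ∈ (Ideal.span {g}).radical := hrad ▸ hr
    obtain ⟨n, hn⟩ := hr'
    obtain ⟨c, hc⟩ := Ideal.mem_span_singleton.1 hn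
    have h1 : r ^ n • x = 0 := by
      rw [smul_eq_mul, hc, mul_right_comm, hx, zero_mul]
    exact (hrreg.pow n).right_eq_zero_of_smul h1
  · have hxmem : x ∈ sInf (minimalPrimes A) := by
      rw [Submodule.mem_sInf]
      intro p hp
      have hpp : Ideal.IsPrime p := hp.1.1
      have : g * x ∈ p := by rw [hx]; exact zero_mem _
      exact (hpp.mem_or_mem this).resolve_left (h p hp)
    have h2 : sInf (minimalPrimes A) = nilradical A := Ideal.sInf_minimalPrimes
    rw [h2, nilradical_eq_zero] at hxmem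
    exact hxmem

theorem notMem_of_mem_nonZeroDivisors (f : A) (hf : f ∈ nonZeroDivisors A) :
    ∀ p ∈ minimalPrimes A, f ∉ p := fun _ hp hfp =>
  Set.disjoint_left.1 (Ideal.disjoint_nonZeroDivisors_of_mem_minimalPrimes hp) hfp hf

theorem isLocalization_nonZeroDivisors_away (hdim : ringKrullDim A = 1)
    (hreg : (∃ r ∈ maximalIdeal A, IsSMulRegular A r) ∨ IsReduced A)
    (f : A) (hf : f ∈ maximalIdeal A) (h : ∀ p ∈ minimalPrimes A, f ∉ p) :
    IsLocalization (nonZeroDivisors A) (Localization.Away f) := by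
  have hfnzd := mem_nonZeroDivisors_of_notMem hdim hreg f hf h
  rw [isLocalization_iff]
  refine ⟨?_, ?_, ?_⟩
  · rintro ⟨g, hg⟩
    by_cases hgu : IsUnit g
    · exact hgu.map _
    · have hgm : g ∈ maximalIdeal A := (IsLocalRing.mem_maximalIdeal g).2 hgu
      have hrad := (radical_span_eq_iff hdim g hgm).2 (notMem_of_mem_nonZeroDivisors g hg)
      have hf' : f ∈ (Ideal.span {g}).radical := hrad ▸ hf
      obtain ⟨n, hn⟩ := hf'
      obtain ⟨c, hc⟩ := Ideal.mem_span_singleton.1 hn
      have h1 : IsUnit (algebraMap A (Localization.Away f) (f ^ n)) := by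
        rw [map_pow]; exact (IsLocalization.Away.algebraMap_isUnit f).pow n
      rw [hc, map_mul] at h1
      exact isUnit_of_mul_isUnit_left h1
  · intro z
    obtain ⟨⟨a, s⟩, hs⟩ := IsLocalization.surj (Submonoid.powers f) z
    obtain ⟨n, hn⟩ := s.2
    refine ⟨(a, ⟨s.1, ?_⟩), hs⟩
    rw [← hn]
    exact pow_mem hfnzd n
  · intro x y hxy
    obtain ⟨c, hc⟩ := (IsLocalization.eq_iff_exists (Submonoid.powers f)
      (Localization.Away f)).1 hxy
    obtain ⟨n, hn⟩ := c.2
    refine ⟨⟨c.1, ?_⟩, hc⟩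
    rw [← hn]
    exact pow_mem hfnzd n

theorem mem_nonZeroDivisors_of_isLocalization (f : A)
    [IsLocalization (nonZeroDivisors A) (Localization.Away f)] : f ∈ nonZeroDivisors A := by
  have h1 : IsUnit (algebraMap A (Localization.Away f) f) :=
    IsLocalization.Away.algebraMap_isUnit f
  obtain ⟨u, hu⟩ := h1
  obtain ⟨⟨a, s⟩, hs⟩ := IsLocalization.surj (nonZeroDivisors A) ((↑u⁻¹ : Localization.Away f))
  simp only at hs
  have h2 : algebraMap A (Localization.Away f) (f * a) = algebraMap A (Localization.Away f) s := by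
    rw [map_mul, ← hs, ← hu, ← mul_assoc, Units.mul_inv, one_mul]
  obtain ⟨c, hc⟩ := (IsLocalization.eq_iff_exists (nonZeroDivisors A)
    (Localization.Away f)).1 h2
  rw [mem_nonZeroDivisors_iff_left]
  intro x hx
  have h3 : (c : A) * s ∈ nonZeroDivisors A := mul_mem c.2 s.2
  have h4 : ((c : A) * s) * x = 0 := by
    rw [← hc]
    calc (c : A) * (f * a) * x = (c : A) * a * (f * x) := by ring
      _ = 0 := by rw [hx, mul_zero]
  exact (mem_nonZeroDivisors_iff_left.1 h3) x h4

/-- for reduced `A`, the residue map `A_p → κ(p)` is bijective at minimal primes -/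
theorem residue_bijective_of_isReduced [IsReduced A] (p : MinP A) :
    Function.Bijective (algebraMap (Localization.AtPrime p.1.asIdeal) p.1.asIdeal.ResidueField) := by
  haveI := p.1.isPrime
  have hrad := IsLocalization.AtPrime.radical_map_of_mem_minimalPrimes
    (A := Localization.AtPrime p.1.asIdeal) p.1.asIdeal ⊥ p.2
  rw [Ideal.map_bot] at hrad
  have hred : IsReduced (Localization.AtPrime p.1.asIdeal) := inferInstance
  have h0 : maximalIdeal (Localization.AtPrime p.1.asIdeal) = ⊥ := by
    rw [← IsLocalization.AtPrime.map_eq_maximalIdeal p.1.asIdeal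
      (Localization.AtPrime p.1.asIdeal), ← hrad]
    exact nilradical_eq_zero _
  constructor
  · rw [injective_iff_map_eq_zero]
    intro x hx
    have : x ∈ maximalIdeal (Localization.AtPrime p.1.asIdeal) :=
      (IsLocalRing.residue_eq_zero_iff x).1 hx
    rw [h0] at this
    exact this
  · exact IsLocalRing.residue_surjective

theorem iff_nonempty_algEquiv_residueFields [IsReduced A] (hdim : ringKrullDim A = 1) (f : A)
    (hf : f ∈ maximalIdeal A) :
    (∀ p ∈ minimalPrimes A, f ∉ p) ↔
      Nonempty (Localization.Away f ≃ₐ[A] (∀ p : MinP A, p.1.asIdeal.ResidueField)) := by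
  constructor
  · intro h
    obtain ⟨e⟩ := (iff_nonempty_algEquiv_LL hdim f hf).1 h
    refine ⟨e.trans (AlgEquiv.piCongrRight fun p => ?_)⟩
    exact AlgEquiv.ofBijective (IsScalarTower.toAlgHom A (Localization.AtPrime p.1.asIdeal)
      p.1.asIdeal.ResidueField) (residue_bijective_of_isReduced p)
  · rintro ⟨e⟩ p hp hfp
    have h1 : IsUnit (algebraMap A (Localization.Away f) f) :=
      IsLocalization.Away.algebraMap_isUnit f
    have h2 := h1.map e
    rw [e.commutes, Pi.isUnit_iff] at h2
    have h3 := h2 ⟨⟨p, hp.1.1⟩, hp⟩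
    haveI : p.IsPrime := hp.1.1
    change IsUnit (algebraMap A p.ResidueField f) at h3
    have h4 : algebraMap A p.ResidueField f = 0 := Ideal.algebraMap_residueField_eq_zero.2 hfp
    rw [h4] at h3
    exact not_isUnit_zero h3

end Groth.Agent.Lib.DimOne2_helper3
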