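import Mathlib
import Groth.Agent.Lib.DimOne2_helper3

set_option autoImplicit false
universe u

namespace Groth.Agent.Lib.DimOne3_helper3

open IsLocalRing Groth.Agent.Lib.DimOne_helper3 Groth.Agent.Lib.DimOne2_helper3

variable {A : Type u} [CommRing A]

theorem mem_nonZeroDivisors_of_reduced [IsReduced A] (s : A)
    (hs : ∀ r ∈ minimalPrimes A, s ∉ r) : s ∈ nonZeroDivisors A := by
  rw [mem_nonZeroDivisors_iff_left]
  intro x hx
  have hxmem : x ∈ sInf (minimalPrimes A) := by
    rw [Submodule.mem_sInf]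
    intro p hp
    have hpp : Ideal.IsPrime p := hp.1.1
    have : s * x ∈ p := by rw [hx]; exact zero_mem _
    exact (hpp.mem_or_mem this).resolve_left (hs p hp)
  have h2 : sInf (minimalPrimes A) = nilradical A := Ideal.sInf_minimalPrimes
  rw [h2, nilradical_eq_zero] at hxmem
  exact hxmem

theorem eq_of_minimalPrimes_of_integral_surj [IsLocalRing A] [IsNoetherianRing A] [IsReduced A]
    (hsurj : ∀ x : FractionRing A, IsIntegral A x → ∃ a, algebraMap A (FractionRing A) a = x)
    (p q : Ideal A) (hp : p ∈ minimalPrimes A) (hq : q ∈ minimalPrimes A) : q = p := by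
  by_contra hne
  classical
  have hfin : (minimalPrimes A).Finite := minimalPrimes.finite_of_isNoetherianRing A
  obtain ⟨S, hS⟩ : ∃ S : Finset (Ideal A), ∀ r, r ∈ S ↔ (r ≠ p ∧ r ∈ minimalPrimes A) :=
    ⟨hfin.toFinset.erase p, fun r => by simp⟩
  obtain ⟨Js, hJs⟩ : ∃ Js : Ideal A, Js = S.inf id := ⟨_, rfl⟩
  have hJs_le : ∀ r ∈ minimalPrimes A, r ≠ p → Js ≤ r := fun r hr hrp => by
    rw [hJs]
    exact Finset.inf_le (f := id) ((hS r).2 ⟨hrp, hr⟩)
  have hpp : Ideal.IsPrime p := hp.1.1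
  have hnotle : ∀ r ∈ minimalPrimes A, ¬ (p ⊔ Js ≤ r) := by
    intro r hr hle
    have h1 : p ≤ r := le_sup_left.trans hle
    have h2 : r ≤ p := hr.2 ⟨hpp, bot_le⟩ h1
    have hrp' : r = p := le_antisymm h2 h1
    have h3 : Js ≤ p := hrp' ▸ (le_sup_right.trans hle)
    rw [hJs, Ideal.IsPrime.inf_le' hpp] at h3
    obtain ⟨r', hr'S, hr'p⟩ := h3
    have hr'min : r' ∈ minimalPrimes A := ((hS r').1 hr'S).2
    have hr'ne : r' ≠ p := ((hS r').1 hr'S).1
    exact hr'ne (le_antisymm hr'p (hp.2 ⟨hr'min.1.1, bot_le⟩ hr'p))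
  have hex : ∃ s ∈ p ⊔ Js, ∀ r ∈ minimalPrimes A, s ∉ r := by
    by_contra hcon
    push Not at hcon
    have hsub : ((p ⊔ Js : Ideal A) : Set A) ⊆
        ⋃ r ∈ (↑hfin.toFinset : Set (Ideal A)), (r : Set A) := by
      intro x hx
      obtain ⟨r, hr, hxr⟩ := hcon x hx
      simp only [Set.mem_iUnion]
      exact ⟨r, by simpa using hr, hxr⟩
    rw [Ideal.subset_union_prime (f := fun r : Ideal A => r) ⊥ ⊥ (fun r hr _ _ => by
      have : r ∈ minimalPrimes A := by simpa using hr
      exact this.1.1)] at hsub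
    obtain ⟨r, hr, hle⟩ := hsub
    have hr' : r ∈ minimalPrimes A := by simpa using hr
    exact hnotle r hr' hle
  obtain ⟨s, hsI, hs⟩ := hex
  obtain ⟨b, hb, a, ha, rfl⟩ := Submodule.mem_sup.1 hsI
  have hab : a * b = 0 := by
    have hmem : a * b ∈ sInf (minimalPrimes A) := by
      rw [Submodule.mem_sInf]
      intro r hr
      by_cases hrp : r = p
      · rw [hrp]; exact Ideal.mul_mem_left _ _ hb
      · exact Ideal.mul_mem_right _ _ (hJs_le r hr hrp ha)
    have h2 : sInf (minimalPrimes A) = nilradical A := Ideal.sInf_minimalPrimes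
    rw [h2, nilradical_eq_zero] at hmem
    exact hmem
  have hsnzd : b + a ∈ nonZeroDivisors A := mem_nonZeroDivisors_of_reduced _ hs
  have hunit : IsUnit (algebraMap A (FractionRing A) (b + a)) :=
    IsLocalization.map_units (FractionRing A) (⟨b + a, hsnzd⟩ : nonZeroDivisors A)
  obtain ⟨u, hu⟩ := hunit
  obtain ⟨e, he⟩ : ∃ e : FractionRing A, e = algebraMap A (FractionRing A) a * ↑u⁻¹ := ⟨_, rfl⟩
  have hee : e * e = e := by
    have h1 : algebraMap A (FractionRing A) a * algebraMap A (FractionRing A) a =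
        algebraMap A (FractionRing A) a * ↑u := by
      rw [hu, ← map_mul, ← map_mul]
      congr 1
      rw [mul_add, hab, zero_add]
    rw [he]
    calc algebraMap A (FractionRing A) a * ↑u⁻¹ * (algebraMap A (FractionRing A) a * ↑u⁻¹)
        = (algebraMap A (FractionRing A) a * algebraMap A (FractionRing A) a) *
            (↑u⁻¹ * ↑u⁻¹) := by ring
      _ = algebraMap A (FractionRing A) a * ↑u * (↑u⁻¹ * ↑u⁻¹) := by rw [h1]
      _ = algebraMap A (FractionRing A) a * ↑u⁻¹ * (↑u * ↑u⁻¹) := by ring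
      _ = algebraMap A (FractionRing A) a * ↑u⁻¹ := by rw [Units.mul_inv, mul_one]
  have hint : IsIntegral A e := by
    refine ⟨Polynomial.X ^ 2 - Polynomial.X, Polynomial.monic_X_pow_sub (by
      rw [Polynomial.degree_X]; norm_num), ?_⟩
    simp [Polynomial.eval₂_sub, pow_two, hee]
  obtain ⟨a0, ha0⟩ := hsurj e hint
  have hinj : Function.Injective (algebraMap A (FractionRing A)) :=
    IsFractionRing.injective A (FractionRing A)
  have h1 : a0 * (b + a) = a := by
    apply hinj
    rw [map_mul, ha0, ← hu, he, mul_assoc, Units.inv_mul, mul_one]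
  have hidem : a0 * (1 - a0) = 0 := by
    have h2 : (a0 * (1 - a0)) * ((b + a) * (b + a)) = 0 := by
      calc (a0 * (1 - a0)) * ((b + a) * (b + a))
          = (a0 * (b + a)) * ((b + a) - a0 * (b + a)) := by ring
        _ = a * ((b + a) - a) := by rw [h1]
        _ = a * b := by ring
        _ = 0 := hab
    have hnz : (b + a) * (b + a) ∈ nonZeroDivisors A := mul_mem hsnzd hsnzd
    exact (mem_nonZeroDivisors_iff_right.1 hnz) _ h2
  rcases IsLocalRing.isUnit_or_isUnit_one_sub_self a0 with hu0 | hu1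
  · have h3 : 1 - a0 = 0 := by rwa [hu0.mul_right_eq_zero] at hidem
    have ha01 : a0 = 1 := (sub_eq_zero.1 h3).symm
    rw [ha01, one_mul] at h1
    have hb0 : b = 0 := by simpa using h1
    apply hs q hq
    rw [hb0, zero_add]
    exact hJs_le q hq hne ha
  · have ha00 : a0 = 0 := by rwa [hu1.mul_left_eq_zero] at hidem
    rw [ha00, zero_mul] at h1
    apply hs p hp
    rw [← h1, add_zero]
    exact hb

theorem isDomain_of_integral_surj [IsLocalRing A] [IsNoetherianRing A] [IsReduced A]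
    (hsurj : ∀ x : FractionRing A, IsIntegral A x → ∃ a, algebraMap A (FractionRing A) a = x) :
    IsDomain A := by
  obtain ⟨p, hp, -⟩ := Ideal.exists_minimalPrimes_le (I := (⊥ : Ideal A))
    (J := maximalIdeal A) bot_le
  have huniq : ∀ q ∈ minimalPrimes A, q = p := fun q hq =>
    eq_of_minimalPrimes_of_integral_surj hsurj p q hp hq
  have h1 : sInf (minimalPrimes A) = p :=
    le_antisymm (sInf_le hp) (le_sInf fun q hq => (huniq q hq).ge)
  have h2 : sInf (minimalPrimes A) = nilradical A := Ideal.sInf_minimalPrimes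
  have hp0 : p = ⊥ := by
    rw [← h1, h2, nilradical_eq_zero]; rfl
  haveI : (⊥ : Ideal A).IsPrime := hp0 ▸ hp.1.1
  exact IsDomain.of_bot_isPrime A

theorem isDVR_of_integral_surj [IsLocalRing A] [IsNoetherianRing A] [IsDomain A]
    (hdim : ringKrullDim A = 1)
    (hsurj : ∀ x : FractionRing A, IsIntegral A x → ∃ a, algebraMap A (FractionRing A) a = x) :
    IsDiscreteValuationRing A := by
  have hic : IsIntegrallyClosed A :=
    (isIntegrallyClosed_iff (FractionRing A)).2 (fun {x} hx => hsurj x hx)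
  have hmne : maximalIdeal A ≠ ⊥ := by
    intro hbot
    apply maximalIdeal_notMem_minimalPrimes hdim
    rw [hbot]
    exact ⟨⟨Ideal.bot_prime, le_rfl⟩, fun _ _ _ => bot_le⟩
  have hnf : ¬ IsField A := fun hf => hmne (IsLocalRing.isField_iff_maximalIdeal_eq.1 hf)
  have h30 : (IsIntegrallyClosed A ∧ ∃! P : Ideal A, P ≠ ⊥ ∧ P.IsPrime) ↔
      IsDiscreteValuationRing A := (IsDiscreteValuationRing.TFAE A hnf).out 3 0
  refine h30.1 ⟨hic, maximalIdeal A, ⟨hmne, inferInstance⟩, ?_⟩
  rintro P ⟨hP0, hPp⟩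
  rcases primes_of_dim_one hdim P hPp with hmin | hmax
  · exfalso
    apply hP0
    exact le_bot_iff.1 (hmin.2 ⟨Ideal.bot_prime, bot_le⟩ bot_le)
  · exact IsLocalRing.eq_maximalIdeal hmax

end Groth.Agent.Lib.DimOne3_helper3
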