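import Mathlib

/-!
# Associated primes of `A/(b)` in a Noetherian normal domain have height one (helper5)
-/

set_option autoImplicit false
universe u

namespace Groth.Agent.SerreLib

section Core

variable (A : Type u) [CommRing A] [IsDomain A] [IsNoetherianRing A] [IsIntegrallyClosed A]

/-- In a Noetherian normal domain, a prime of the form `((b) : a)` has height one. -/
theorem height_eq_one_of_colon (b : A) (hb : b ≠ 0) (a : A) (p : Ideal A) [hp : p.IsPrime]
    (hpa : ∀ r, r ∈ p ↔ r * a ∈ Ideal.span {b}) : p.height = 1 := by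
  have hbp : b ∈ p := (hpa b).2 (Ideal.mul_mem_right _ _ (Ideal.mem_span_singleton_self b))
  have hpbot : p ≠ ⊥ := fun h => hb (by rw [h] at hbp; exact hbp)
  have hge : 1 ≤ p.height := by
    rw [Order.one_le_iff_pos, pos_iff_ne_zero, Ne, Ideal.height_eq_zero_iff_eq_bot]
    exact hpbot
  refine le_antisymm ?_ hge
  have hanb : a ∉ Ideal.span {b} := by
    intro h
    apply hp.ne_top
    rw [Ideal.eq_top_iff_one, hpa, one_mul]
    exact h
  let K := FractionRing A
  have hinj : Function.Injective (algebraMap A K) := IsFractionRing.injective A K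
  have hbK : algebraMap A K b ≠ 0 := fun h => hb (hinj (by rw [h, map_zero]))
  set x : K := algebraMap A K a / algebraMap A K b with hx
  -- for z ∈ p, x z ∈ A
  have hw : ∀ z ∈ p, ∃ w : A, z * a = b * w ∧ algebraMap A K w = x * algebraMap A K z := by
    intro z hz
    obtain ⟨w, hw⟩ := Ideal.mem_span_singleton'.1 ((hpa z).1 hz)
    refine ⟨w, by rw [← hw, mul_comm], ?_⟩
    rw [hx, div_mul_eq_mul_div, eq_div_iff hbK, ← map_mul, ← map_mul, hw, mul_comm]
  by_cases hcase : ∀ z ∈ p, ∀ w : A, z * a = b * w → w ∈ p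
  · -- x is integral, contradiction
    exfalso
    let N : Submodule A K := Submodule.map (Algebra.linearMap A K) p
    have hNbot : N ≠ ⊥ := by
      intro h
      have : algebraMap A K b ∈ N := ⟨b, hbp, rfl⟩
      rw [h, Submodule.mem_bot] at this
      exact hbK this
    have hNfg : N.FG := Submodule.FG.map _ (IsNoetherian.noetherian p)
    have hxN : ∀ n ∈ N, x • n ∈ N := by
      rintro _ ⟨z, hz, rfl⟩
      obtain ⟨w, hw1, hw2⟩ := hw z hz
      refine ⟨w, hcase z hz w hw1, ?_⟩
      rw [Algebra.linearMap_apply, hw2, smul_eq_mul, Algebra.linearMap_apply]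
    have hint : IsIntegral A x := isIntegral_of_smul_mem_submodule N hNbot hNfg x hxN
    obtain ⟨c, hc⟩ := IsIntegrallyClosed.isIntegral_iff.1 hint
    apply hanb
    rw [Ideal.mem_span_singleton']
    refine ⟨c, hinj ?_⟩
    rw [map_mul, hc, hx, div_mul_cancel₀ _ hbK]
  · push Not at hcase
    obtain ⟨y, hy, u, hyu, hup⟩ := hcase
    have huK : algebraMap A K u = x * algebraMap A K y := by
      rw [hx, div_mul_eq_mul_div, eq_div_iff hbK, ← map_mul, ← map_mul, mul_comm a y, hyu,
        mul_comm]
    have hmin : p ∈ (Ideal.span {y}).minimalPrimes := by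
      refine ⟨⟨hp, (Ideal.span_singleton_le_iff_mem _).2 hy⟩, ?_⟩
      rintro q ⟨hq, hyq⟩ hqp z hz
      obtain ⟨w, -, hw2⟩ := hw z hz
      have huz : u * z = y * w := by
        apply hinj
        rw [map_mul, map_mul, huK, hw2]
        ring
      have hmem : u * z ∈ q := by
        rw [huz]
        exact Ideal.mul_mem_right _ _ ((Ideal.span_singleton_le_iff_mem _).1 hyq)
      exact (hq.mem_or_mem hmem).resolve_left (fun h => hup (hqp h))
    exact Ideal.height_le_one_of_isPrincipal_of_mem_minimalPrimes (Ideal.span {y}) p hmin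

/-- associated primes of `A/(b)` have height one -/
theorem height_eq_one_of_mem_associatedPrimes (b : A) (hb : b ≠ 0) (p : Ideal A)
    (hp : p ∈ associatedPrimes A (A ⧸ Ideal.span {b})) : p.height = 1 := by
  obtain ⟨hpp, a, ha⟩ := (isAssociatedPrime_iff).1 hp
  obtain ⟨a, rfl⟩ := Ideal.Quotient.mk_surjective a
  haveI := hpp
  apply height_eq_one_of_colon A b hb a p
  intro r
  rw [ha, Submodule.mem_colon_singleton, Submodule.mem_bot, ← Ideal.Quotient.eq_zero_iff_mem,
    map_mul]
  rfl

end Core

end Groth.Agent.SerreLib
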