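import Mathlib
import Groth.Prelude.Def_CAlg
import Groth.Agent.Lib.Depth_helper5
import Groth.Agent.Lib.DepthSk_helper5
import Groth.Agent.Lib.DepthSkQuot_helper5
import Groth.Agent.Lib.DepthRefl_helper5
import Groth.Agent.Lib.DepthChain_helper5
import Groth.Agent.Lib.DepthRingChange_helper5
import Groth.Agent.Lib.Regular_helper5
import Groth.Agent.Lib.Regular5_helper5
import Groth.Agent.Lib.DimOne3_helper3
import Groth.Agent.Lib.SerreCore_helper5

/-!
# Serre's normality criterion (helper5)
-/

set_option autoImplicit false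
universe u

namespace Groth.Agent.SerreLib

open IsLocalRing



theorem le_zero_of_lt_one {d : WithBot ℕ∞} (h : d < 1) : d ≤ 0 := by
  induction d using WithBot.recBotCoe with
  | bot => exact bot_le
  | coe n =>
    have h' : n < 1 := by exact_mod_cast h
    rw [ENat.lt_one_iff_eq_zero] at h'
    rw [h']
    rfl

/-- A regular local ring of dimension `≤ 1` is a normal domain. -/
theorem normal_of_regular_of_dim_le_one (A : Type u) [CommRing A] [hreg : IsRegularLocalRing A]
    (h : ringKrullDim A ≤ 1) : ∃ _ : IsDomain A, IsIntegrallyClosed A := by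
  have hdom : IsDomain A := Groth.Agent.RegularLib.isDomain A
  refine ⟨hdom, ?_⟩
  by_cases h1 : ringKrullDim A = 1
  · obtain ⟨_, hdvr⟩ := (Groth.Agent.RegularLib.dvr_iff A).2 ⟨hreg, h1⟩
    infer_instance
  · have h0 : ringKrullDim A ≤ 0 := le_zero_of_lt_one (lt_of_le_of_ne h h1)
    haveI : Ring.KrullDimLE 0 A := Ring.krullDimLE_iff.2 (by exact_mod_cast h0)
    have hf : IsField A := Ring.KrullDimLE.isField_of_isDomain
    letI := hf.toField
    infer_instance

/-- depth of a local ring over itself is invariant under ring isomorphisms -/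
theorem depth_eq_of_ringEquiv (A B : Type u) [CommRing A] [CommRing B] [IsLocalRing A]
    [IsLocalRing B] [IsNoetherianRing A] [IsNoetherianRing B] (e : A ≃+* B) :
    LocCoh.depth A A = LocCoh.depth B B := by
  letI : Algebra A B := e.toRingHom.toAlgebra
  haveI : IsLocalHom (algebraMap A B) := by
    show IsLocalHom e.toRingHom
    refine ⟨fun a ha => ?_⟩
    have := ha.map e.symm
    simpa using this
  haveI : Module.Finite A B :=
    Module.Finite.of_surjective (Algebra.linearMap A B) e.surjective
  rw [← Groth.Agent.DepthLib.depth_eq_of_isLocalHom A B B]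
  unfold LocCoh.depth
  exact Groth.Agent.DepthLib.idealDepth_congr _ _
    (LinearEquiv.ofBijective (Algebra.linearMap A B) e.bijective)

section Transfer

variable (R : Type u) [CommRing R] [IsNoetherianRing R] (p : Ideal R) [p.IsPrime]

theorem hasRk_localization (k : ℕ) (h : LocCoh.HasRk k R) :
    LocCoh.HasRk k (Localization.AtPrime p) := by
  intro P hP hht
  have hq : (P.comap (algebraMap R (Localization.AtPrime p))).height ≤ k := by
    have := IsLocalization.height_under p.primeCompl P
    rw [Ideal.under] at this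
    rw [this]
    exact hht
  haveI := h (P.comap (algebraMap R (Localization.AtPrime p))) hq
  exact IsRegularLocalRing.of_ringEquiv
    (IsLocalization.localizationLocalizationAtPrimeIsoLocalization p.primeCompl P).toRingEquiv

theorem hasSk_localization (k : ℕ) (h : LocCoh.HasSk k R R) :
    LocCoh.HasSk k (Localization.AtPrime p) (Localization.AtPrime p) := by
  intro P hP
  have h' := h (P.comap (algebraMap R (Localization.AtPrime p)))
  rw [Groth.Agent.DepthLib.supportDim_locSelf, Groth.Agent.DepthLib.depth_locSelf] at h' ⊢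
  have hht := IsLocalization.height_under p.primeCompl P
  rw [Ideal.under] at hht
  rw [hht, depth_eq_of_ringEquiv _ _
    (IsLocalization.localizationLocalizationAtPrimeIsoLocalization p.primeCompl P).toRingEquiv]
    at h'
  exact h'

end Transfer

/-- `R₀ + S₁` (here `R₁ + S₂`) implies reduced. -/
theorem isReduced_of_R1_S2 (R : Type u) [CommRing R] [IsNoetherianRing R]
    (h1 : LocCoh.HasRk 1 R) (h2 : LocCoh.HasSk 2 R R) : IsReduced R := by
  constructor
  intro x hxnil
  by_contra hx
  obtain ⟨P, hP, hle⟩ := exists_le_isAssociatedPrime_of_isNoetherianRing R x hx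
  haveI : P.IsPrime := hP.isPrime
  have h0 : ¬ 1 ≤ LocCoh.depth (Localization.AtPrime P) (LocalizedModule P.primeCompl R) :=
    (Groth.Agent.DepthLib.not_one_le_depth_localization_iff R P).2 hP
  have hd0 : LocCoh.depth (Localization.AtPrime P) (LocalizedModule P.primeCompl R) = 0 := by
    by_contra hne
    exact h0 (Order.one_le_iff_pos.mpr (pos_iff_ne_zero.mpr hne))
  have h2P := h2 P
  rw [hd0, Groth.Agent.DepthLib.supportDim_locSelf] at h2P
  have hht : P.height ≤ 1 := by
    rcases min_le_iff.1 h2P with h | h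
    · exact absurd h (by norm_num)
    · have : P.height ≤ 0 := by exact_mod_cast h
      exact this.trans zero_le_one
  haveI := h1 P (by exact_mod_cast hht)
  haveI : IsDomain (Localization.AtPrime P) :=
    Groth.Agent.RegularLib.isDomain (Localization.AtPrime P)
  have hnil : IsNilpotent (algebraMap R (Localization.AtPrime P) x) := hxnil.map _
  have hz : algebraMap R (Localization.AtPrime P) x = 0 := hnil.eq_zero
  rw [IsLocalization.map_eq_zero_iff P.primeCompl] at hz
  obtain ⟨s, hs⟩ := hz
  apply s.2
  apply hle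
  rw [Submodule.mem_colon_singleton, Submodule.mem_bot, smul_eq_mul]
  exact hs

open scoped Pointwise in
/-- Key step: under `R₁ + S₂`, an "integral fraction" `a/b` with `b` a nonzerodivisor lies in the
ring. -/
theorem mem_span_of_integral_relation (S : Type u) [CommRing S] [IsNoetherianRing S]
    (h1 : LocCoh.HasRk 1 S) (h2 : LocCoh.HasSk 2 S S)
    (a b : S) (hb : b ∈ nonZeroDivisors S) (f : Polynomial S) (hf : f.Monic)
    (hfa : (f.scaleRoots b).eval a = 0) : a ∈ Ideal.span {b} := by
  classical
  by_contra hab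
  have hmem : ∀ z : S, Submodule.mkQ (b • (⊤ : Submodule S S)) z = 0 ↔
      z ∈ Ideal.span {b} := by
    intro z
    rw [Submodule.mkQ_apply, Submodule.Quotient.mk_eq_zero]
    constructor
    · intro h
      obtain ⟨m', -, hm'⟩ := (Submodule.mem_smul_pointwise_iff_exists _ _ _).1 h
      exact Ideal.mem_span_singleton'.mpr ⟨m', by rw [mul_comm]; exact hm'⟩
    · intro h
      obtain ⟨m', hm'⟩ := Ideal.mem_span_singleton'.mp h
      rw [← hm', mul_comm]
      exact Submodule.smul_mem_pointwise_smul _ _ _ Submodule.mem_top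
  have hne : Submodule.mkQ (b • (⊤ : Submodule S S)) a ≠ 0 := fun h => hab ((hmem a).mp h)
  obtain ⟨P, hP, hle⟩ := exists_le_isAssociatedPrime_of_isNoetherianRing S _ hne
  haveI : P.IsPrime := hP.isPrime
  have hann : ∀ s : S, s * a ∈ Ideal.span {b} → s ∈ P := by
    intro s hs
    apply hle
    rw [Submodule.mem_colon_singleton, Submodule.mem_bot, ← map_smul, smul_eq_mul]
    exact (hmem _).mpr hs
  have hbP : b ∈ P := hann _ (Ideal.mul_mem_right _ _ (Ideal.mem_span_singleton_self _))
  have h0 : ¬ 1 ≤ LocCoh.depth (Localization.AtPrime P)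
      (LocalizedModule P.primeCompl (QuotSMulTop b S)) :=
    (Groth.Agent.DepthLib.not_one_le_depth_localization_iff _ P).mpr hP
  have hxmem : algebraMap S (Localization.AtPrime P) b ∈
      IsLocalRing.maximalIdeal (Localization.AtPrime P) :=
    (IsLocalization.AtPrime.to_map_mem_maximal_iff _ P _).2 hbP
  have hxreg : IsSMulRegular (LocalizedModule P.primeCompl S)
      (algebraMap S (Localization.AtPrime P) b) := by
    rw [Groth.Agent.DepthLib.isSMulRegular_localizedModule_iff]
    intro m hm
    refine ⟨1, Submonoid.one_mem _, ?_⟩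
    rw [one_smul]
    rw [smul_eq_mul] at hm
    exact (mul_left_mem_nonZeroDivisors_eq_zero_iff hb).1 hm
  have hd := Groth.Agent.DepthLib.depth_add_one_of_exact (LocalizedModule P.primeCompl S)
    (LocalizedModule P.primeCompl (QuotSMulTop b S)) hxmem hxreg
    (LocalizedModule.map P.primeCompl (Submodule.mkQ _))
    (LocalizedModule.map_surjective _ _ (Submodule.mkQ_surjective _))
    (Groth.Agent.DepthLib.localized_smul_exact P.primeCompl S b)
  have hz : LocCoh.depth (Localization.AtPrime P)
      (LocalizedModule P.primeCompl (QuotSMulTop b S)) = 0 := by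
    by_contra hne0
    exact h0 (Order.one_le_iff_pos.mpr (pos_iff_ne_zero.mpr hne0))
  rw [hz, zero_add, Groth.Agent.DepthLib.depth_locSelf] at hd
  have h2P := h2 P
  rw [Groth.Agent.DepthLib.supportDim_locSelf, Groth.Agent.DepthLib.depth_locSelf, ← hd] at h2P
  have hht : P.height ≤ 1 := by
    rcases min_le_iff.1 h2P with h | h
    · exact absurd h (by norm_num)
    · exact_mod_cast h
  haveI hreg := h1 P (by exact_mod_cast hht)
  have hdimT : ringKrullDim (Localization.AtPrime P) ≤ 1 := by
    rw [IsLocalization.AtPrime.ringKrullDim_eq_height P]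
    exact_mod_cast hht
  obtain ⟨hdom, hic⟩ := normal_of_regular_of_dim_le_one (Localization.AtPrime P) hdimT
  let φ : S →+* Localization.AtPrime P := algebraMap S (Localization.AtPrime P)
  let ψ : S →+* FractionRing (Localization.AtPrime P) :=
    (algebraMap (Localization.AtPrime P) (FractionRing (Localization.AtPrime P))).comp φ
  have hinjK : Function.Injective
      (algebraMap (Localization.AtPrime P) (FractionRing (Localization.AtPrime P))) :=
    IsFractionRing.injective _ _
  have hφb : φ b ≠ 0 := by
    intro h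
    rw [IsLocalization.map_eq_zero_iff P.primeCompl] at h
    obtain ⟨s, hs⟩ := h
    have hs0 : (s : S) = 0 := (mul_right_mem_nonZeroDivisors_eq_zero_iff hb).1 hs
    exact s.2 (by rw [hs0]; exact P.zero_mem)
  have hψb : ψ b ≠ 0 := fun h => hφb (hinjK (by rw [map_zero]; exact h))
  have hy : Polynomial.eval₂ ψ (ψ a / ψ b) f = 0 := by
    have h3 := Polynomial.scaleRoots_eval₂_mul (p := f) ψ (ψ a / ψ b) b
    rw [mul_div_cancel₀ _ hψb, Polynomial.eval₂_at_apply, hfa, map_zero] at h3
    exact (mul_eq_zero.1 h3.symm).resolve_left (pow_ne_zero _ hψb)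
  have hint : IsIntegral (Localization.AtPrime P) (ψ a / ψ b) :=
    ⟨f.map φ, hf.map φ, by rw [Polynomial.eval₂_map]; exact hy⟩
  obtain ⟨c, hc⟩ := IsIntegrallyClosed.isIntegral_iff.1 hint
  have hcb : c * φ b = φ a := by
    apply hinjK
    rw [map_mul, hc]
    show ψ a / ψ b * ψ b = ψ a
    rw [div_mul_cancel₀ _ hψb]
  obtain ⟨c₀, s, rfl⟩ := IsLocalization.exists_mk'_eq P.primeCompl c
  have h5 : φ (c₀ * b) = φ (a * s) := by
    rw [map_mul, map_mul, ← hcb, mul_right_comm, IsLocalization.mk'_spec]
  obtain ⟨t, ht⟩ := (IsLocalization.eq_iff_exists P.primeCompl (Localization.AtPrime P)).1 h5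
  have hts : (t : S) * s ∈ P :=
    hann _ (Ideal.mem_span_singleton'.mpr ⟨t * c₀, by rw [mul_assoc, ht]; ring⟩)
  exact (P.primeCompl.mul_mem t.2 s.2) hts

/-- A Noetherian local ring satisfying `R₁` and `S₂` is a normal domain. -/
theorem normal_of_R1_S2_local (S : Type u) [CommRing S] [IsNoetherianRing S] [IsLocalRing S]
    (h1 : LocCoh.HasRk 1 S) (h2 : LocCoh.HasSk 2 S S) :
    ∃ _ : IsDomain S, IsIntegrallyClosed S := by
  haveI := isReduced_of_R1_S2 S h1 h2
  have hsurj : ∀ x : FractionRing S, IsIntegral S x →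
      ∃ a, algebraMap S (FractionRing S) a = x := by
    intro x hx
    obtain ⟨a, b, rfl⟩ := IsLocalization.exists_mk'_eq (nonZeroDivisors S) x
    obtain ⟨f, hf, hfx⟩ := hx
    have hinj : Function.Injective (algebraMap S (FractionRing S)) :=
      IsLocalization.injective _ le_rfl
    have h3 : Polynomial.aeval (algebraMap S (FractionRing S) a) (f.scaleRoots b) = 0 :=
      scaleRoots_aeval_eq_zero_of_aeval_mk'_eq_zero (by rw [Polynomial.aeval_def]; exact hfx)
    have h4 : (f.scaleRoots b).eval a = 0 := by
      apply hinj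
      rw [map_zero, ← h3, Polynomial.aeval_def, Polynomial.eval₂_at_apply]
    obtain ⟨c, hc⟩ := Ideal.mem_span_singleton'.1
      (mem_span_of_integral_relation S h1 h2 a b b.2 f hf h4)
    refine ⟨c, ?_⟩
    rw [IsLocalization.eq_mk'_iff_mul_eq, ← map_mul, hc]
  have hdom : IsDomain S := Groth.Agent.Lib.DimOne3_helper3.isDomain_of_integral_surj hsurj
  exact ⟨hdom, (isIntegrallyClosed_iff (FractionRing S)).2 (fun {x} hx => hsurj x hx)⟩

/-- A Noetherian local normal domain of dimension `≤ 1` is regular. -/
theorem regular_of_normal_of_dim_le_one (S : Type u) [CommRing S] [IsNoetherianRing S]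
    [IsLocalRing S] [IsDomain S] [IsIntegrallyClosed S] (h : ringKrullDim S ≤ 1) :
    IsRegularLocalRing S := by
  by_cases h1 : ringKrullDim S = 1
  · have hsurj : ∀ x : FractionRing S, IsIntegral S x →
        ∃ a, algebraMap S (FractionRing S) a = x :=
      fun x hx => IsIntegrallyClosed.isIntegral_iff.1 hx
    haveI := Groth.Agent.Lib.DimOne3_helper3.isDVR_of_integral_surj h1 hsurj
    infer_instance
  · have h0 : ringKrullDim S ≤ 0 := le_zero_of_lt_one (lt_of_le_of_ne h h1)
    haveI : Ring.KrullDimLE 0 S := Ring.krullDimLE_iff.2 (by exact_mod_cast h0)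
    have hf : IsField S := Ring.KrullDimLE.isField_of_isDomain
    haveI : IsPrincipalIdealRing S := by
      letI := hf.toField
      infer_instance
    infer_instance

open scoped Pointwise in
theorem mkQ_eq_zero_iff_mem_span (S : Type u) [CommRing S] (b z : S) :
    Submodule.mkQ (b • (⊤ : Submodule S S)) z = 0 ↔ z ∈ Ideal.span {b} := by
  rw [Submodule.mkQ_apply, Submodule.Quotient.mk_eq_zero]
  constructor
  · intro h
    obtain ⟨m', -, hm'⟩ := (Submodule.mem_smul_pointwise_iff_exists _ _ _).1 h
    exact Ideal.mem_span_singleton'.mpr ⟨m', by rw [mul_comm]; exact hm'⟩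
  · intro h
    obtain ⟨m', hm'⟩ := Ideal.mem_span_singleton'.mp h
    rw [← hm', mul_comm]
    exact Submodule.smul_mem_pointwise_smul _ _ _ Submodule.mem_top

/-- A Noetherian local normal domain satisfies `depth ≥ min(2, dim)`. -/
theorem min_two_dim_le_depth (S : Type u) [CommRing S] [IsNoetherianRing S]
    [IsLocalRing S] [IsDomain S] [IsIntegrallyClosed S] :
    min (2 : WithBot ℕ∞) (ringKrullDim S) ≤ ((LocCoh.depth S S : ℕ∞) : WithBot ℕ∞) := by
  by_cases hfield : maximalIdeal S = ⊥
  · have hf : IsField S := IsLocalRing.isField_iff_maximalIdeal_eq.2 hfield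
    rw [ringKrullDim_eq_zero_of_isField hf]
    refine (min_le_right _ _).trans ?_
    have h00 : (0 : ℕ∞) ≤ LocCoh.depth S S := bot_le
    exact_mod_cast h00
  obtain ⟨b, hbm, hb0⟩ : ∃ b ∈ maximalIdeal S, b ≠ 0 := by
    by_contra hcon
    push Not at hcon
    exact hfield (eq_bot_iff.2 fun x hx => hcon x hx)
  have hreg : IsSMulRegular S b := IsSMulRegular.of_ne_zero hb0
  have hd : LocCoh.depth S (QuotSMulTop b S) + 1 = LocCoh.depth S S := by
    unfold LocCoh.depth
    exact Groth.Agent.DepthLib.idealDepth_quotSMulTop_add_one _ S hbm hreg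
  have h1 : (1 : ℕ∞) ≤ LocCoh.depth S S := by
    rw [← hd]
    exact le_add_self
  by_cases hdim : ringKrullDim S ≤ 1
  · refine (min_le_right _ _).trans (hdim.trans ?_)
    exact_mod_cast h1
  · refine (min_le_left _ _).trans ?_
    have h2 : (2 : ℕ∞) ≤ LocCoh.depth S S := by
      rw [← hd, ← one_add_one_eq_two]
      refine add_le_add_left ?_ 1
      by_contra hnot
      apply hdim
      unfold LocCoh.depth at hnot
      obtain ⟨q, hq, hmq⟩ := Groth.Agent.DepthLib.exists_associatedPrime_of_not_one_le _ _ hnot
      haveI hqp : q.IsPrime := hq.isPrime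
      have hqm : q = maximalIdeal S :=
        ((IsLocalRing.maximalIdeal.isMaximal S).eq_of_le hqp.ne_top hmq).symm
      obtain ⟨-, a, ha⟩ := (isAssociatedPrime_iff).1 hq
      obtain ⟨a, rfl⟩ := Submodule.mkQ_surjective _ a
      have hht : q.height = 1 := by
        apply height_eq_one_of_colon S b hb0 a q
        intro r
        rw [ha, Submodule.mem_colon_singleton, Submodule.mem_bot, ← map_smul, smul_eq_mul,
          mkQ_eq_zero_iff_mem_span]
      rw [← IsLocalRing.maximalIdeal_height_eq_ringKrullDim, ← hqm, hht]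
      rfl
    have h3 : ((2 : ℕ∞) : WithBot ℕ∞) ≤ (LocCoh.depth S S : WithBot ℕ∞) :=
      WithBot.coe_le_coe.2 h2
    exact h3

/-- **Serre's normality criterion.** -/
theorem serre_criterion (R : Type u) [CommRing R] [IsNoetherianRing R] :
    (∀ (p : Ideal R) [p.IsPrime], IsDomain (Localization.AtPrime p) ∧
      IsIntegrallyClosed (Localization.AtPrime p)) ↔
      (LocCoh.HasRk 1 R ∧ LocCoh.HasSk 2 R R) := by
  constructor
  · intro h
    refine ⟨fun p hp hht => ?_, fun p hp => ?_⟩
    · obtain ⟨hd, hic⟩ := h p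
      refine regular_of_normal_of_dim_le_one (Localization.AtPrime p) ?_
      rw [IsLocalization.AtPrime.ringKrullDim_eq_height p]
      exact_mod_cast hht
    · obtain ⟨hd, hic⟩ := h p
      rw [Groth.Agent.DepthLib.supportDim_locSelf, Groth.Agent.DepthLib.depth_locSelf,
        ← IsLocalization.AtPrime.ringKrullDim_eq_height p (Localization.AtPrime p)]
      exact min_two_dim_le_depth (Localization.AtPrime p)
  · rintro ⟨h1, h2⟩ p hp
    obtain ⟨hd, hic⟩ := normal_of_R1_S2_local (Localization.AtPrime p)
      (hasRk_localization R p 1 h1) (hasSk_localization R p 2 h2)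
    exact ⟨hd, hic⟩

open scoped Pointwise in
/-- A Noetherian domain in which all associated primes of principal ideals have height `≤ 1`
satisfies `S₂`. -/
theorem hasSk_two_of_ass_height_le_one (B : Type u) [CommRing B] [IsDomain B]
    [IsNoetherianRing B]
    (h : ∀ b : B, b ≠ 0 → ∀ Q ∈ associatedPrimes B (QuotSMulTop b B), Q.height ≤ 1) :
    LocCoh.HasSk 2 B B := by
  intro Q hQ
  rw [Groth.Agent.DepthLib.supportDim_locSelf, Groth.Agent.DepthLib.depth_locSelf]
  by_cases hQ0 : Q = ⊥
  · have : Q.height = 0 := Ideal.height_eq_zero_iff_eq_bot.2 hQ0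
    rw [this]
    refine (min_le_right _ _).trans ?_
    have h00 : (0 : ℕ∞) ≤ LocCoh.depth (Localization.AtPrime Q) (Localization.AtPrime Q) :=
      bot_le
    exact_mod_cast h00
  obtain ⟨b, hbQ, hb0⟩ : ∃ b ∈ Q, b ≠ 0 := by
    by_contra hcon
    push Not at hcon
    exact hQ0 (eq_bot_iff.2 fun x hx => hcon x hx)
  have hxmem : algebraMap B (Localization.AtPrime Q) b ∈
      IsLocalRing.maximalIdeal (Localization.AtPrime Q) :=
    (IsLocalization.AtPrime.to_map_mem_maximal_iff _ Q _).2 hbQ
  have hxreg : IsSMulRegular (LocalizedModule Q.primeCompl B)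
      (algebraMap B (Localization.AtPrime Q) b) := by
    rw [Groth.Agent.DepthLib.isSMulRegular_localizedModule_iff]
    intro m hm
    refine ⟨1, Submonoid.one_mem _, ?_⟩
    rw [one_smul]
    rw [smul_eq_mul] at hm
    exact (mul_eq_zero.mp hm).resolve_left hb0
  have hd := Groth.Agent.DepthLib.depth_add_one_of_exact (LocalizedModule Q.primeCompl B)
    (LocalizedModule Q.primeCompl (QuotSMulTop b B)) hxmem hxreg
    (LocalizedModule.map Q.primeCompl (Submodule.mkQ _))
    (LocalizedModule.map_surjective _ _ (Submodule.mkQ_surjective _))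
    (Groth.Agent.DepthLib.localized_smul_exact Q.primeCompl B b)
  rw [Groth.Agent.DepthLib.depth_locSelf] at hd
  have h1 : (1 : ℕ∞) ≤ LocCoh.depth (Localization.AtPrime Q) (Localization.AtPrime Q) := by
    rw [← hd]
    exact le_add_self
  by_cases hht : Q.height ≤ 1
  · refine (min_le_right _ _).trans ?_
    have : (Q.height : ℕ∞) ≤ LocCoh.depth (Localization.AtPrime Q) (Localization.AtPrime Q) :=
      hht.trans h1
    exact_mod_cast this
  · refine (min_le_left _ _).trans ?_
    have h2 : (2 : ℕ∞) ≤ LocCoh.depth (Localization.AtPrime Q) (Localization.AtPrime Q) := by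
      rw [← hd, ← one_add_one_eq_two]
      refine add_le_add_left ?_ 1
      by_contra hnot
      exact hht (h b hb0 Q
        ((Groth.Agent.DepthLib.not_one_le_depth_localization_iff _ Q).1 hnot))
    have h3 : ((2 : ℕ∞) : WithBot ℕ∞) ≤
        (LocCoh.depth (Localization.AtPrime Q) (Localization.AtPrime Q) : WithBot ℕ∞) :=
      WithBot.coe_le_coe.2 h2
    exact h3

end Groth.Agent.SerreLib
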