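import Mathlib
import Groth.Prelude
import Groth.Agent.Lib.CDivDepth_helper5
import Groth.Agent.Lib.SerreNormal_helper5
import Groth.Agent.Lib.DepthLoc_helper5
import Groth.Agent.Lib.Regular5_helper5

/-!
# Cartier divisors on a normal integral scheme and orders of vanishing (helper5)
-/

universe u

open CategoryTheory IsLocalRing AlgebraicGeometry TopologicalSpace Opposite

namespace Groth.Agent.CDivNormal

section alg

variable (R : Type u) [CommRing R] [IsDomain R] [IsDiscreteValuationRing R]
variable (K : Type u) [Field K] [Algebra R K] [IsFractionRing R K]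

/-- in a DVR, `ord ≥ 0` means lying in the ring -/
theorem one_le_ordFrac_iff (f : K) (hf : f ≠ 0) :
    1 ≤ Ring.ordFrac R f ↔ f ∈ Set.range (algebraMap R K) := by
  constructor
  · intro h
    rw [Ring.ordFrac_eq_valuation_inv] at h
    have hv : (IsDiscreteValuationRing.maximalIdeal R).valuation K f ≠ 0 :=
      (Valuation.ne_zero_iff _).mpr hf
    have h1 : (IsDiscreteValuationRing.maximalIdeal R).valuation K f ≤ 1 := by
      have hpos : 0 < (IsDiscreteValuationRing.maximalIdeal R).valuation K f :=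
        zero_lt_iff.mpr hv
      exact (one_le_inv₀ hpos).mp h
    exact IsDiscreteValuationRing.exists_lift_of_le_one h1
  · rintro ⟨a, rfl⟩
    have ha : a ≠ 0 := by
      rintro rfl
      exact hf (map_zero _)
    exact Ring.ordFrac_ge_one_of_ne_zero ha

/-- in a DVR, `ord = 0` means being a unit of the ring -/
theorem ordFrac_eq_one_iff (f : K) :
    Ring.ordFrac R f = 1 ↔ ∃ u : Rˣ, algebraMap R K u = f := by
  have h := Ring.mker_ordFrac_eq_isUnitSubmonoid (R := R) (K := K)
  constructor
  · intro hf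
    have hmem : f ∈ MonoidHom.mker (Ring.ordFrac R (K := K)) := hf
    rw [h] at hmem
    obtain ⟨a, ha, rfl⟩ := hmem
    exact ⟨IsUnit.unit ha, rfl⟩
  · rintro ⟨u, rfl⟩
    exact Ring.ordFrac_of_isUnit u.isUnit

end alg

section loc

variable (B : Type u) [CommRing B] [IsLocalRing B] [IsNoetherianRing B] [IsDomain B]
  [IsIntegrallyClosed B]

/-- a normal Noetherian local domain of depth one has dimension one -/
theorem dim_eq_one_of_depth (h : LocCoh.depth B B = 1) : ringKrullDim B = 1 := by
  have h1 := Groth.Agent.SerreLib.min_two_dim_le_depth B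
  have h3 := Groth.Agent.DepthLib.depth_le_supportDim B B
  rw [Module.supportDim_self_eq_ringKrullDim] at h3
  rw [h] at h1 h3
  apply le_antisymm _ h3
  by_contra hlt
  rw [not_le] at hlt
  have h2 : (2 : WithBot ℕ∞) ≤ ringKrullDim B := by
    have hne : ringKrullDim B ≠ ⊥ := ringKrullDim_ne_bot
    obtain ⟨t, ht⟩ := WithBot.ne_bot_iff_exists.1 hne
    rw [← ht] at hlt ⊢
    have hlt' : (1 : ℕ∞) < t := by exact_mod_cast hlt
    have : (2 : ℕ∞) ≤ t := by
      have := Order.add_one_le_of_lt hlt'
      simpa [one_add_one_eq_two] using this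
    have h2' : ((2 : ℕ∞) : WithBot ℕ∞) ≤ (t : WithBot ℕ∞) := WithBot.coe_le_coe.mpr this
    exact h2'
  rw [min_eq_left h2] at h1
  have : ((2 : ℕ∞) : WithBot ℕ∞) ≤ ((1 : ℕ∞) : WithBot ℕ∞) := h1
  rw [WithBot.coe_le_coe] at this
  exact absurd this (by decide)

/-- a normal Noetherian local domain of dimension one is a DVR -/
theorem dvr_of_dim_eq_one (h : ringKrullDim B = 1) : IsDiscreteValuationRing B := by
  have hreg := Groth.Agent.SerreLib.regular_of_normal_of_dim_le_one B h.le
  obtain ⟨_, hdvr⟩ := (Groth.Agent.RegularLib.dvr_iff B).2 ⟨hreg, h⟩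
  exact hdvr

end loc

section geo

variable {X : Scheme.{u}} [IsIntegral X] [IsLocallyNoetherian X]

theorem coheight_eq_one_iff (x : X) :
    Order.coheight x = 1 ↔ ringKrullDim (X.presheaf.stalk x) = 1 := by
  rw [AlgebraicGeometry.ringKrullDim_stalk_eq_coheight]
  constructor
  · intro h
    rw [h]
    rfl
  · intro h
    exact_mod_cast h

/-- at a codimension one point of a normal scheme the local ring is a DVR -/
theorem dvr_of_coheight (hX : Pi1.IsNormalScheme X) (x : X) (hx : Order.coheight x = 1) :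
    IsDiscreteValuationRing (X.presheaf.stalk x) := by
  obtain ⟨_, hic⟩ := hX x
  haveI := hic
  exact dvr_of_dim_eq_one _ ((coheight_eq_one_iff x).mp hx)

theorem coheight_of_depth (hX : Pi1.IsNormalScheme X) (x : X)
    (hd : LocCoh.depth (X.presheaf.stalk x) (X.presheaf.stalk x) = 1) :
    Order.coheight x = 1 := by
  obtain ⟨_, hic⟩ := hX x
  haveI := hic
  exact (coheight_eq_one_iff x).mpr (dim_eq_one_of_depth _ hd)

/-- `0 ≤ ord` at a codimension one point of a normal scheme means regular at that point -/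
theorem zero_le_ord_iff (hX : Pi1.IsNormalScheme X) (x : X) (hx : Order.coheight x = 1)
    (f : X.functionField) (hf : f ≠ 0) :
    0 ≤ Scheme.ord f x ↔
      f ∈ Set.range (algebraMap (X.presheaf.stalk x) X.functionField) := by
  haveI := dvr_of_coheight hX x hx
  rw [Scheme.le_ord_iff hx hf]
  have h1 : ((Multiplicative.ofAdd (0 : ℤ) : Multiplicative ℤ) : WithZero (Multiplicative ℤ)) = 1 := rfl
  rw [h1]
  exact one_le_ordFrac_iff (X.presheaf.stalk x) X.functionField f hf

/-- `ord = 0` at a codimension one point of a normal scheme means being a unit at that point -/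
theorem ord_eq_zero_iff (hX : Pi1.IsNormalScheme X) (x : X) (hx : Order.coheight x = 1)
    (f : X.functionField) (hf : f ≠ 0) :
    Scheme.ord f x = 0 ↔
      ∃ u : (X.presheaf.stalk x)ˣ, algebraMap (X.presheaf.stalk x) X.functionField u = f := by
  haveI := dvr_of_coheight hX x hx
  rw [Scheme.ord_eq_iff hx hf]
  have h1 : ((Multiplicative.ofAdd (0 : ℤ) : Multiplicative ℤ) : WithZero (Multiplicative ℤ)) = 1 := rfl
  rw [h1]
  exact ordFrac_eq_one_iff (X.presheaf.stalk x) X.functionField f

/-- the order of a representative of an effective divisor is non-negative -/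
theorem zero_le_ord_of_isEffectiveAt (D : CDiv.Divisor X) (x : X) (hx : Order.coheight x = 1)
    (hD : CDiv.IsEffectiveAt D x) (f : CDiv.KUnits X) (hf : D.1 x = CDiv.germOf X x f) :
    0 ≤ Scheme.ord (f : X.functionField) x := by
  obtain ⟨a, ha, hDa⟩ := hD
  rw [hf] at hDa
  have h1 : f⁻¹ * (Units.mk0 _ ha) ∈ CDiv.stalkUnits X x := QuotientGroup.eq.mp hDa
  obtain ⟨u, hu⟩ := h1
  have h2 : (f : X.functionField) =
      algebraMap (X.presheaf.stalk x) X.functionField (a * ↑u⁻¹) := by
    have h3 : f = Units.mk0 _ ha * (f⁻¹ * (Units.mk0 _ ha))⁻¹ := by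
      rw [mul_inv_rev, inv_inv, mul_inv_cancel_left]
    rw [h3, ← hu, map_mul, ← map_inv]
    rfl
  have hne : a * ↑u⁻¹ ≠ 0 := by
    intro h0
    rw [h0, map_zero] at h2
    exact f.ne_zero h2
  rw [Scheme.le_ord_iff hx f.ne_zero]
  have h1 : ((Multiplicative.ofAdd (0 : ℤ) : Multiplicative ℤ) : WithZero (Multiplicative ℤ)) = 1 := rfl
  rw [h1, h2]
  haveI : Ring.KrullDimLE 1 (X.presheaf.stalk x) := krullDimLE_of_coheight_le hx.le
  exact Ring.ordFrac_ge_one_of_ne_zero hne

theorem main (hX : Pi1.IsNormalScheme X) (D : CDiv.Divisor X) :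
    (CDiv.IsEffective D ↔
      ∀ x : ↥X, Order.coheight x = 1 → ∀ f : CDiv.KUnits X, D.1 x = CDiv.germOf X x f →
        0 ≤ Scheme.ord (f : ↑X.functionField) x) ∧
    ((∀ x : ↥X, Order.coheight x = 1 → ∀ f : CDiv.KUnits X, D.1 x = CDiv.germOf X x f →
        Scheme.ord (f : ↑X.functionField) x = 0) → D = 1) := by
  refine ⟨⟨fun hD x hx f hf => zero_le_ord_of_isEffectiveAt D x hx (hD x) f hf, fun h => ?_⟩,
    fun h => ?_⟩
  · apply Groth.Agent.CDivDepth.isEffective_of_depth_one
    intro x hd
    have hx := coheight_of_depth hX x hd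
    obtain ⟨U, f, hxU, hU⟩ := D.2 x
    have h0 := h x hx f (hU x hxU)
    rw [zero_le_ord_iff hX x hx _ f.ne_zero] at h0
    obtain ⟨β, hβ⟩ := h0
    have hβ0 : algebraMap (X.presheaf.stalk x) X.functionField β ≠ 0 := by
      rw [hβ]
      exact f.ne_zero
    refine ⟨β, hβ0, ?_⟩
    rw [hU x hxU]
    congr 1
    exact Units.ext hβ.symm
  · apply Groth.Agent.CDivDepth.eq_one_of_depth_one
    intro x hd
    have hx := coheight_of_depth hX x hd
    obtain ⟨U, f, hxU, hU⟩ := D.2 x
    have h0 := h x hx f (hU x hxU)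
    rw [ord_eq_zero_iff hX x hx _ f.ne_zero] at h0
    obtain ⟨u, hu⟩ := h0
    rw [hU x hxU]
    apply (QuotientGroup.eq_one_iff f).mpr
    exact ⟨u, Units.ext hu⟩

end geo

end Groth.Agent.CDivNormal
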