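import Mathlib
import Groth.Prelude
import Groth.Agent.Lib.Hartogs_helper5

/-!
# Local finiteness of zeros and poles of a rational function (helper5)
-/

universe u

open CategoryTheory IsLocalRing AlgebraicGeometry TopologicalSpace Opposite

namespace Groth.Agent.OrdFin

section alg

/-- in a domain whose localisation at `q` has dimension at most one, a nonzero prime contained in
`q` equals `q` -/
theorem eq_of_le_of_krullDimLE {A : Type u} [CommRing A] [IsDomain A] (q : Ideal A) [q.IsPrime]
    (B : Type u) [CommRing B] [Algebra A B] [IsLocalization.AtPrime B q] [IsDomain B]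
    [Ring.KrullDimLE 1 B] (P : Ideal A) [hP : P.IsPrime] (hP0 : P ≠ ⊥) (hPq : P ≤ q) : P = q := by
  haveI : IsLocalRing B := IsLocalization.AtPrime.isLocalRing B q
  have hdisj : Disjoint (q.primeCompl : Set A) (P : Set A) := by
    rw [Set.disjoint_left]
    intro a ha haP
    exact ha (hPq haP)
  have hprime : (P.map (algebraMap A B)).IsPrime :=
    IsLocalization.isPrime_of_isPrime_disjoint q.primeCompl B P hP hdisj
  have hcomap : (P.map (algebraMap A B)).comap (algebraMap A B) = P :=
    IsLocalization.comap_map_of_isPrime_disjoint q.primeCompl B hP hdisj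
  have hne : P.map (algebraMap A B) ≠ ⊥ := by
    intro h
    apply hP0
    rw [← hcomap, h]
    rw [eq_bot_iff]
    intro a ha
    have ha' : algebraMap A B a = 0 := ha
    have hinj : Function.Injective (algebraMap A B) :=
      IsLocalization.injective B q.primeCompl_le_nonZeroDivisors
    exact (map_eq_zero_iff _ hinj).mp ha'
  have hmax : (P.map (algebraMap A B)).IsMaximal := hprime.isMaximal_of_ne_bot hne
  have heq : P.map (algebraMap A B) = maximalIdeal B := IsLocalRing.eq_maximalIdeal hmax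
  rw [← hcomap, heq]
  exact IsLocalization.AtPrime.under_maximalIdeal B q

end alg

section geo

variable {X : Scheme.{u}} [IsIntegral X] [IsLocallyNoetherian X]

/-- units of the local ring have order zero -/
theorem ord_eq_zero_of_unit (x : X) (u : (X.presheaf.stalk x)ˣ) :
    Scheme.ord (algebraMap (X.presheaf.stalk x) X.functionField u) x = 0 := by
  by_cases hx : Order.coheight x = 1
  · have hne : algebraMap (X.presheaf.stalk x) X.functionField u ≠ 0 := by
      intro h0
      have h1 := (map_eq_zero_iff _ (IsFractionRing.injective (X.presheaf.stalk x)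
        X.functionField)).mp h0
      exact u.ne_zero h1
    rw [Scheme.ord_eq_iff hx hne]
    have h1 : ((Multiplicative.ofAdd (0 : ℤ) : Multiplicative ℤ) : WithZero (Multiplicative ℤ)) = 1 :=
      rfl
    rw [h1]
    haveI : Ring.KrullDimLE 1 (X.presheaf.stalk x) := krullDimLE_of_coheight_le hx.le
    exact Ring.ordFrac_of_isUnit u.isUnit
  · exact Scheme.ord_eq_zero_of_coheight_neq_one hx _

/-- in an affine open only finitely many codimension one points are zeros or poles of `f` -/
theorem finite_ord_ne_zero {W : X.Opens} (hW : IsAffineOpen W) (f : X.functionField) (hf : f ≠ 0) :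
    {ξ : X | ξ ∈ W ∧ Order.coheight ξ = 1 ∧ Scheme.ord f ξ ≠ 0}.Finite := by
  by_cases hne : Nonempty W
  swap
  · apply Set.Finite.subset Set.finite_empty
    rintro ξ ⟨hξ, -⟩
    exact (hne ⟨⟨ξ, hξ⟩⟩).elim
  haveI := hne
  haveI : IsNoetherianRing Γ(X, W) := IsLocallyNoetherian.component_noetherian ⟨W, hW⟩
  haveI : IsFractionRing Γ(X, W) X.functionField :=
    functionField_isFractionRing_of_isAffineOpen X W hW
  obtain ⟨a, b, hb, hab⟩ := IsFractionRing.div_surjective (A := Γ(X, W)) f
  have hb0 : b ≠ 0 := nonZeroDivisors.ne_zero hb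
  have ha0 : a ≠ 0 := by
    rintro rfl
    apply hf
    rw [← hab, map_zero, zero_div]
  have hab0 : a * b ≠ 0 := mul_ne_zero ha0 hb0
  have hfin := Ideal.finite_minimalPrimes_of_isNoetherianRing Γ(X, W) (Ideal.span {a * b})
  classical
  let φ : X → Ideal Γ(X, W) := fun ξ =>
    if h : ξ ∈ W then (hW.primeIdealOf ⟨ξ, h⟩).asIdeal else ⊤
  have hφ : ∀ (ξ : X) (h : ξ ∈ W), φ ξ = (hW.primeIdealOf ⟨ξ, h⟩).asIdeal := by
    intro ξ h
    exact dif_pos h
  refine Set.Finite.of_injOn (f := φ) ?_ ?_ hfin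
  · rintro ξ ⟨hξ, hco, hord⟩
    rw [hφ ξ hξ]
    letI := TopCat.Presheaf.algebra_section_stalk X.presheaf (⟨ξ, hξ⟩ : W)
    haveI : IsLocalization.AtPrime (X.presheaf.stalk ξ) (hW.primeIdealOf ⟨ξ, hξ⟩).asIdeal :=
      hW.isLocalization_stalk ⟨ξ, hξ⟩
    have e2 : ∀ r : Γ(X, W), algebraMap (X.presheaf.stalk ξ) X.functionField
        (algebraMap Γ(X, W) (X.presheaf.stalk ξ) r) = algebraMap Γ(X, W) X.functionField r :=
      fun r => Scheme.algebraMap_germ_eq_germToFunctionField X hξ r
    have habq : a * b ∈ (hW.primeIdealOf ⟨ξ, hξ⟩).asIdeal := by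
      by_contra hnot
      apply hord
      have ha : a ∉ (hW.primeIdealOf ⟨ξ, hξ⟩).asIdeal := fun h => hnot (Ideal.mul_mem_right _ _ h)
      have hb' : b ∉ (hW.primeIdealOf ⟨ξ, hξ⟩).asIdeal := fun h => hnot (Ideal.mul_mem_left _ _ h)
      have hua : IsUnit (algebraMap Γ(X, W) (X.presheaf.stalk ξ) a) :=
        IsLocalization.map_units (X.presheaf.stalk ξ)
          (⟨a, ha⟩ : (hW.primeIdealOf ⟨ξ, hξ⟩).asIdeal.primeCompl)
      have hub : IsUnit (algebraMap Γ(X, W) (X.presheaf.stalk ξ) b) :=
        IsLocalization.map_units (X.presheaf.stalk ξ)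
          (⟨b, hb'⟩ : (hW.primeIdealOf ⟨ξ, hξ⟩).asIdeal.primeCompl)
      have hfu : f = algebraMap (X.presheaf.stalk ξ) X.functionField
          ((hua.unit * hub.unit⁻¹ : (X.presheaf.stalk ξ)ˣ) : X.presheaf.stalk ξ) := by
        rw [Units.val_mul, map_mul, ← hab, IsUnit.unit_spec, e2, div_eq_mul_inv]
        congr 1
        rw [map_units_inv, IsUnit.unit_spec, e2]
      rw [hfu]
      exact ord_eq_zero_of_unit ξ _
    obtain ⟨P, hPmin, hPle⟩ := Ideal.exists_minimalPrimes_le
      (show Ideal.span {a * b} ≤ (hW.primeIdealOf ⟨ξ, hξ⟩).asIdeal by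
        rw [Ideal.span_singleton_le_iff_mem]
        exact habq)
    haveI hPp : P.IsPrime := hPmin.1.1
    have hP0 : P ≠ ⊥ := by
      intro h
      have : a * b ∈ P := hPmin.1.2 (Ideal.mem_span_singleton_self _)
      rw [h] at this
      exact hab0 this
    haveI : Ring.KrullDimLE 1 (X.presheaf.stalk ξ) := krullDimLE_of_coheight_le hco.le
    have hPq := eq_of_le_of_krullDimLE (hW.primeIdealOf ⟨ξ, hξ⟩).asIdeal (X.presheaf.stalk ξ)
      P hP0 hPle
    rw [← hPq]
    exact hPmin
  · rintro ξ ⟨hξ, -⟩ ξ' ⟨hξ', -⟩ heq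
    rw [hφ ξ hξ, hφ ξ' hξ'] at heq
    have h1 : hW.primeIdealOf ⟨ξ, hξ⟩ = hW.primeIdealOf ⟨ξ', hξ'⟩ := PrimeSpectrum.ext heq
    have h4 := congrArg (fun P => hW.fromSpec P) h1
    simp only [hW.fromSpec_primeIdealOf] at h4
    exact h4

/-- the closures of the codimension one zeros and poles of `f` form a locally finite family -/
theorem locallyFinite (f : X.functionField) (hf : f ≠ 0) :
    LocallyFinite (fun ξ : {ξ : X // Order.coheight ξ = 1 ∧ Scheme.ord f ξ ≠ 0} =>
      closure ({ξ.1} : Set X)) := by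
  intro x
  obtain ⟨_, ⟨W, hW : IsAffineOpen W, rfl⟩, hxW, -⟩ :=
    (X.isBasis_affineOpens).exists_subset_of_mem_open (Set.mem_univ x) isOpen_univ
  have hx : x ∈ W := hxW
  refine ⟨W, W.isOpen.mem_nhds hx, ?_⟩
  have hfin := finite_ord_ne_zero hW f hf
  have hpre := Set.Finite.preimage
    (f := (Subtype.val : {ξ : X // Order.coheight ξ = 1 ∧ Scheme.ord f ξ ≠ 0} → X))
    Subtype.val_injective.injOn hfin
  apply hpre.subset
  rintro ⟨ξ, hco, hord⟩ ⟨y, hy, hyW⟩
  have hspec : ξ ⤳ y := specializes_iff_mem_closure.mpr hy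
  exact ⟨hspec.mem_open W.isOpen hyW, hco, hord⟩

end geo

end Groth.Agent.OrdFin
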