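import Mathlib
import Groth.Prelude
import Groth.Agent.Lib.CDivNormal_helper5
import Groth.Agent.Lib.CDivDim1b_helper5
import Groth.Agent.Lib.OrdFin_helper5

/-!
# Factorial local rings and prime cycles as divisors (helper5)
-/

universe u

open CategoryTheory IsLocalRing AlgebraicGeometry TopologicalSpace Opposite

namespace Groth.Agent.CDivUFD

open scoped Classical

variable {X : Scheme.{u}} [IsIntegral X]

/-- the prime ideal of `O_x` of functions vanishing at the generization `x₀` -/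
noncomputable def genPrime {x₀ x : X} (h : x₀ ⤳ x) : Ideal (X.presheaf.stalk x) :=
  (maximalIdeal (X.presheaf.stalk x₀)).comap (X.presheaf.stalkSpecializes h).hom

instance genPrime_isPrime {x₀ x : X} (h : x₀ ⤳ x) : (genPrime h).IsPrime :=
  Ideal.IsPrime.comap _

theorem algebraMap_spec {z x : X} (h : z ⤳ x) (a : X.presheaf.stalk x) :
    algebraMap (X.presheaf.stalk z) X.functionField ((X.presheaf.stalkSpecializes h).hom a) =
      algebraMap (X.presheaf.stalk x) X.functionField a := by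
  simp [RingHom.algebraMap_toAlgebra, ← ConcreteCategory.comp_apply]

theorem spec_comp_germ {W : X.Opens} {x₀ x : X} (hx : x ∈ W) (h : x₀ ⤳ x) :
    (X.presheaf.stalkSpecializes h).hom.comp (X.presheaf.germ W x hx).hom =
      (X.presheaf.germ W x₀ (h.mem_open W.isOpen hx)).hom := by
  rw [← CommRingCat.hom_comp, X.presheaf.germ_stalkSpecializes]

theorem comap_genPrime {W : X.Opens} (hW : IsAffineOpen W) {x₀ x : X} (hx : x ∈ W) (h : x₀ ⤳ x) :
    (genPrime h).comap (X.presheaf.germ W x hx).hom =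
      (hW.primeIdealOf ⟨x₀, h.mem_open W.isOpen hx⟩).asIdeal := by
  unfold genPrime
  rw [Ideal.comap_comap, spec_comp_germ hx h, hW.primeIdealOf_eq_map_closedPoint]
  rfl

theorem map_primeIdealOf {W : X.Opens} (hW : IsAffineOpen W) {x₀ x : X} (hx : x ∈ W)
    (h : x₀ ⤳ x) :
    (hW.primeIdealOf ⟨x₀, h.mem_open W.isOpen hx⟩).asIdeal.map (X.presheaf.germ W x hx).hom =
      genPrime h := by
  letI := TopCat.Presheaf.algebra_section_stalk X.presheaf (⟨x, hx⟩ : W)
  haveI : IsLocalization.AtPrime (X.presheaf.stalk x) (hW.primeIdealOf ⟨x, hx⟩).asIdeal :=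
    hW.isLocalization_stalk ⟨x, hx⟩
  have h2 := IsLocalization.map_under (hW.primeIdealOf ⟨x, hx⟩).asIdeal.primeCompl
    (X.presheaf.stalk x) (genPrime h)
  rw [Ideal.under] at h2
  have h3 : (genPrime h).comap (algebraMap Γ(X, W) (X.presheaf.stalk x)) =
      (hW.primeIdealOf ⟨x₀, h.mem_open W.isOpen hx⟩).asIdeal := comap_genPrime hW hx h
  rw [h3] at h2
  exact h2

theorem ne_genericPoint_of_coheight {x₀ : X} (h : Order.coheight x₀ = 1) :
    x₀ ≠ genericPoint X := by
  rintro rfl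
  have hmax : IsMax (genericPoint X) := fun b _ =>
    Scheme.le_iff_specializes.mpr (genericPoint_specializes b)
  rw [Order.coheight_eq_zero.mpr hmax] at h
  exact zero_ne_one h

variable [IsLocallyNoetherian X]

theorem height_genPrime {x₀ x : X} (h : x₀ ⤳ x) (hco : Order.coheight x₀ = 1) :
    (genPrime h).height = 1 := by
  obtain ⟨_, ⟨W, hW : IsAffineOpen W, rfl⟩, hxW, -⟩ :=
    (X.isBasis_affineOpens).exists_subset_of_mem_open (Set.mem_univ x) isOpen_univ
  have hx : x ∈ W := hxW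
  have hx₀ : x₀ ∈ W := h.mem_open W.isOpen hx
  letI a1 := TopCat.Presheaf.algebra_section_stalk X.presheaf (⟨x, hx⟩ : W)
  haveI : IsLocalization.AtPrime (X.presheaf.stalk x) (hW.primeIdealOf ⟨x, hx⟩).asIdeal :=
    hW.isLocalization_stalk ⟨x, hx⟩
  letI a2 := TopCat.Presheaf.algebra_section_stalk X.presheaf (⟨x₀, hx₀⟩ : W)
  haveI : IsLocalization.AtPrime (X.presheaf.stalk x₀) (hW.primeIdealOf ⟨x₀, hx₀⟩).asIdeal :=
    hW.isLocalization_stalk ⟨x₀, hx₀⟩
  have h1 := IsLocalization.height_under (hW.primeIdealOf ⟨x, hx⟩).asIdeal.primeCompl (genPrime h)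
  rw [Ideal.under] at h1
  have h2 : (genPrime h).comap (algebraMap Γ(X, W) (X.presheaf.stalk x)) =
      (hW.primeIdealOf ⟨x₀, hx₀⟩).asIdeal := comap_genPrime hW hx h
  rw [h2] at h1
  have h3 := IsLocalization.AtPrime.ringKrullDim_eq_height (hW.primeIdealOf ⟨x₀, hx₀⟩).asIdeal
    (X.presheaf.stalk x₀)
  rw [(Groth.Agent.CDivNormal.coheight_eq_one_iff x₀).mp hco] at h3
  rw [← h1]
  have h4 : (((hW.primeIdealOf ⟨x₀, hx₀⟩).asIdeal.height : ℕ∞) : WithBot ℕ∞) =
      ((1 : ℕ∞) : WithBot ℕ∞) := h3.symm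
  exact WithBot.coe_injective h4

/-- height one primes of a local ring are the primes of codimension one generizations -/
theorem exists_genPrime_eq (x : X) (𝔭 : Ideal (X.presheaf.stalk x)) [h𝔭 : 𝔭.IsPrime]
    (hht : 𝔭.height = 1) :
    ∃ (x₀ : X) (h : x₀ ⤳ x), Order.coheight x₀ = 1 ∧ 𝔭 = genPrime h := by
  obtain ⟨_, ⟨W, hW : IsAffineOpen W, rfl⟩, hxW, -⟩ :=
    (X.isBasis_affineOpens).exists_subset_of_mem_open (Set.mem_univ x) isOpen_univ
  have hx : x ∈ W := hxW
  letI a1 := TopCat.Presheaf.algebra_section_stalk X.presheaf (⟨x, hx⟩ : W)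
  haveI : IsLocalization.AtPrime (X.presheaf.stalk x) (hW.primeIdealOf ⟨x, hx⟩).asIdeal :=
    hW.isLocalization_stalk ⟨x, hx⟩
  have hcomap : (maximalIdeal (X.presheaf.stalk x)).comap
      (algebraMap Γ(X, W) (X.presheaf.stalk x)) = (hW.primeIdealOf ⟨x, hx⟩).asIdeal := by
    rw [hW.primeIdealOf_eq_map_closedPoint]
    rfl
  haveI hPp : (𝔭.comap (algebraMap Γ(X, W) (X.presheaf.stalk x))).IsPrime := Ideal.IsPrime.comap _
  obtain ⟨x₀, hx₀, hP₀⟩ := Groth.Agent.Hartogs.exists_point hW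
    (𝔭.comap (algebraMap Γ(X, W) (X.presheaf.stalk x)))
  have hle : hW.primeIdealOf ⟨x₀, hx₀⟩ ≤ hW.primeIdealOf ⟨x, hx⟩ := by
    show (hW.primeIdealOf ⟨x₀, hx₀⟩).asIdeal ≤ (hW.primeIdealOf ⟨x, hx⟩).asIdeal
    rw [hP₀, ← hcomap]
    exact Ideal.comap_mono (IsLocalRing.le_maximalIdeal h𝔭.ne_top)
  have hspec : x₀ ⤳ x := by
    have h1 : hW.primeIdealOf ⟨x₀, hx₀⟩ ⤳ hW.primeIdealOf ⟨x, hx⟩ :=
      (PrimeSpectrum.le_iff_specializes _ _).mp hle
    have h2 := h1.map hW.fromSpec.continuous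
    rwa [hW.fromSpec_primeIdealOf, hW.fromSpec_primeIdealOf] at h2
  refine ⟨x₀, hspec, ?_, ?_⟩
  · rw [Groth.Agent.CDivNormal.coheight_eq_one_iff]
    letI a2 := TopCat.Presheaf.algebra_section_stalk X.presheaf (⟨x₀, hx₀⟩ : W)
    haveI : IsLocalization.AtPrime (X.presheaf.stalk x₀) (hW.primeIdealOf ⟨x₀, hx₀⟩).asIdeal :=
      hW.isLocalization_stalk ⟨x₀, hx₀⟩
    rw [IsLocalization.AtPrime.ringKrullDim_eq_height (hW.primeIdealOf ⟨x₀, hx₀⟩).asIdeal
      (X.presheaf.stalk x₀), hP₀]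
    have h1 := IsLocalization.height_under (hW.primeIdealOf ⟨x, hx⟩).asIdeal.primeCompl 𝔭
    rw [Ideal.under] at h1
    rw [h1, hht]
    rfl
  · have h1 := IsLocalization.map_under (hW.primeIdealOf ⟨x, hx⟩).asIdeal.primeCompl
      (X.presheaf.stalk x) 𝔭
    rw [Ideal.under, ← hP₀] at h1
    rw [← h1]
    exact map_primeIdealOf hW hx hspec

/-- a generator of `genPrime h₀` is a unit at the other codimension one generizations -/
theorem isUnit_spec_of_ne {x₀ x z : X} (h₀ : x₀ ⤳ x) (hco : Order.coheight x₀ = 1) (hz : z ⤳ x)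
    (hcoz : Order.coheight z = 1) (hne : z ≠ x₀) (ϖ : X.presheaf.stalk x)
    (hϖ : Ideal.span {ϖ} = genPrime h₀) :
    IsUnit ((X.presheaf.stalkSpecializes hz).hom ϖ) := by
  by_contra hnu
  have hmem : ϖ ∈ genPrime hz := by
    show (X.presheaf.stalkSpecializes hz).hom ϖ ∈ maximalIdeal (X.presheaf.stalk z)
    rw [IsLocalRing.mem_maximalIdeal]
    exact mem_nonunits_iff.mpr hnu
  have hle : genPrime h₀ ≤ genPrime hz := by
    rw [← hϖ, Ideal.span_singleton_le_iff_mem]
    exact hmem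
  obtain ⟨_, ⟨W, hW : IsAffineOpen W, rfl⟩, hxW, -⟩ :=
    (X.isBasis_affineOpens).exists_subset_of_mem_open (Set.mem_univ x) isOpen_univ
  have hx : x ∈ W := hxW
  have hx₀ : x₀ ∈ W := h₀.mem_open W.isOpen hx
  have hzW : z ∈ W := hz.mem_open W.isOpen hx
  haveI : Nonempty W := ⟨⟨x, hx⟩⟩
  have h1 := comap_genPrime hW hx h₀
  have h2 := comap_genPrime hW hx hz
  have hle' : (hW.primeIdealOf ⟨x₀, hx₀⟩).asIdeal ≤ (hW.primeIdealOf ⟨z, hzW⟩).asIdeal := by
    rw [← h1, ← h2]
    exact Ideal.comap_mono hle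
  have hne0 : (hW.primeIdealOf ⟨x₀, hx₀⟩).asIdeal ≠ ⊥ :=
    Groth.Agent.CDivDim1.primeIdealOf_ne_bot hW hx₀ (ne_genericPoint_of_coheight hco)
  letI a2 := TopCat.Presheaf.algebra_section_stalk X.presheaf (⟨z, hzW⟩ : W)
  haveI : IsLocalization.AtPrime (X.presheaf.stalk z) (hW.primeIdealOf ⟨z, hzW⟩).asIdeal :=
    hW.isLocalization_stalk ⟨z, hzW⟩
  haveI : Ring.KrullDimLE 1 (X.presheaf.stalk z) := krullDimLE_of_coheight_le hcoz.le
  have heq := Groth.Agent.OrdFin.eq_of_le_of_krullDimLE (hW.primeIdealOf ⟨z, hzW⟩).asIdeal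
    (X.presheaf.stalk z) (hW.primeIdealOf ⟨x₀, hx₀⟩).asIdeal hne0 hle'
  apply hne
  have h3 : hW.primeIdealOf ⟨x₀, hx₀⟩ = hW.primeIdealOf ⟨z, hzW⟩ := PrimeSpectrum.ext heq
  have h4 := congrArg (fun P => hW.fromSpec P) h3
  simp only [hW.fromSpec_primeIdealOf] at h4
  exact h4.symm

/-- a generator of `genPrime h₀` is a uniformizer at `x₀` -/
theorem span_spec_eq {x₀ x : X} (h₀ : x₀ ⤳ x) (ϖ : X.presheaf.stalk x)
    (hϖ : Ideal.span {ϖ} = genPrime h₀) :
    Ideal.span {(X.presheaf.stalkSpecializes h₀).hom ϖ} = maximalIdeal (X.presheaf.stalk x₀) := by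
  obtain ⟨_, ⟨W, hW : IsAffineOpen W, rfl⟩, hxW, -⟩ :=
    (X.isBasis_affineOpens).exists_subset_of_mem_open (Set.mem_univ x) isOpen_univ
  have hx : x ∈ W := hxW
  have hx₀ : x₀ ∈ W := h₀.mem_open W.isOpen hx
  letI a2 := TopCat.Presheaf.algebra_section_stalk X.presheaf (⟨x₀, hx₀⟩ : W)
  haveI : IsLocalization.AtPrime (X.presheaf.stalk x₀) (hW.primeIdealOf ⟨x₀, hx₀⟩).asIdeal :=
    hW.isLocalization_stalk ⟨x₀, hx₀⟩
  have h1 : (hW.primeIdealOf ⟨x₀, hx₀⟩).asIdeal.map (X.presheaf.germ W x₀ hx₀).hom =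
      maximalIdeal (X.presheaf.stalk x₀) :=
    IsLocalization.AtPrime.map_eq_maximalIdeal (hW.primeIdealOf ⟨x₀, hx₀⟩).asIdeal
      (X.presheaf.stalk x₀)
  have h2 := map_primeIdealOf hW hx h₀
  calc Ideal.span {(X.presheaf.stalkSpecializes h₀).hom ϖ}
      = (Ideal.span {ϖ}).map (X.presheaf.stalkSpecializes h₀).hom := by
        rw [Ideal.map_span, Set.image_singleton]
    _ = (genPrime h₀).map (X.presheaf.stalkSpecializes h₀).hom := by rw [hϖ]
    _ = ((hW.primeIdealOf ⟨x₀, hx₀⟩).asIdeal.map (X.presheaf.germ W x hx).hom).map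
          (X.presheaf.stalkSpecializes h₀).hom := by rw [h2]
    _ = (hW.primeIdealOf ⟨x₀, hx₀⟩).asIdeal.map
          ((X.presheaf.stalkSpecializes h₀).hom.comp (X.presheaf.germ W x hx).hom) :=
        Ideal.map_map _ _
    _ = (hW.primeIdealOf ⟨x₀, hx₀⟩).asIdeal.map (X.presheaf.germ W x₀ hx₀).hom := by
        rw [spec_comp_germ hx h₀]
    _ = maximalIdeal (X.presheaf.stalk x₀) := h1

/-! ### orders -/

theorem ord_one (z : X) : Scheme.ord (1 : X.functionField) z = 0 := by
  have h := Groth.Agent.OrdFin.ord_eq_zero_of_unit z (1 : (X.presheaf.stalk z)ˣ)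
  rwa [Units.val_one, map_one] at h

theorem ord_inv (f : X.functionField) (hf : f ≠ 0) (z : X) :
    Scheme.ord f⁻¹ z = - Scheme.ord f z := by
  have h := Scheme.ord_mul (x := z) (inv_ne_zero hf) hf
  rw [inv_mul_cancel₀ hf, ord_one] at h
  omega

theorem ord_eq_one_of_span (hX : Pi1.IsNormalScheme X) (x₀ : X) (hco : Order.coheight x₀ = 1)
    (b : X.presheaf.stalk x₀) (hb : Ideal.span {b} = maximalIdeal (X.presheaf.stalk x₀)) :
    Scheme.ord (algebraMap (X.presheaf.stalk x₀) X.functionField b) x₀ = 1 := by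
  haveI := Groth.Agent.CDivNormal.dvr_of_coheight hX x₀ hco
  have hirr : Irreducible b := (IsDiscreteValuationRing.irreducible_iff_uniformizer b).mpr hb.symm
  have hne : algebraMap (X.presheaf.stalk x₀) X.functionField b ≠ 0 := by
    intro h0
    exact hirr.ne_zero ((map_eq_zero_iff _ (IsFractionRing.injective (X.presheaf.stalk x₀)
      X.functionField)).mp h0)
  rw [Scheme.ord_eq_iff hco hne]
  exact Ring.ordFrac_irreducible hirr

/-- the order of a representative of a germ only depends on the germ -/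
theorem ord_of_germ_eq (x : X) (π f : CDiv.KUnits X)
    (h : CDiv.germOf X x π = CDiv.germOf X x f) :
    Scheme.ord (f : X.functionField) x = Scheme.ord (π : X.functionField) x := by
  have h1 : π⁻¹ * f ∈ CDiv.stalkUnits X x := QuotientGroup.eq.mp h
  obtain ⟨u, hu⟩ := h1
  have h2 : (f : X.functionField) = (π : X.functionField) *
      algebraMap (X.presheaf.stalk x) X.functionField u := by
    have h3 : f = π * (π⁻¹ * f) := by rw [mul_inv_cancel_left]
    rw [h3, ← hu]
    rfl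
  have hune : algebraMap (X.presheaf.stalk x) X.functionField u ≠ 0 := by
    intro h0
    exact u.ne_zero ((map_eq_zero_iff _ (IsFractionRing.injective (X.presheaf.stalk x)
      X.functionField)).mp h0)
  rw [h2, Scheme.ord_mul π.ne_zero hune, Groth.Agent.OrdFin.ord_eq_zero_of_unit, add_zero]

/-! ### the condition -/

/-- `π` has order one at `x₀` and zero at the other codimension one generizations of `x` -/
def Cond (x₀ x : X) (π : X.functionField) : Prop :=
  ∀ z : X, z ⤳ x → Order.coheight z = 1 → Scheme.ord π z = if z = x₀ then 1 else 0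

/-- regularity can be tested at the codimension one generizations -/
theorem mem_range_of_codim_one (hX : Pi1.IsNormalScheme X) (x : X) (f : X.functionField)
    (h : ∀ z : X, z ⤳ x → Order.coheight z = 1 →
      f ∈ Set.range (algebraMap (X.presheaf.stalk z) X.functionField)) :
    f ∈ Set.range (algebraMap (X.presheaf.stalk x) X.functionField) := by
  by_contra hf
  obtain ⟨z, hzx, hfz, hdz⟩ := Groth.Agent.CDivDepth.exists_depth_one x f hf
  exact hfz (h z hzx (Groth.Agent.CDivNormal.coheight_of_depth hX z hdz))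

theorem cond_unique (hX : Pi1.IsNormalScheme X) (x₀ x : X) (π π' : CDiv.KUnits X)
    (h : Cond x₀ x (π : X.functionField)) (h' : Cond x₀ x (π' : X.functionField)) :
    CDiv.germOf X x π = CDiv.germOf X x π' := by
  apply QuotientGroup.eq.mpr
  rw [Groth.Agent.CDivDepth.mem_stalkUnits_iff]
  have key : ∀ z : X, z ⤳ x → Order.coheight z = 1 →
      Scheme.ord ((π : X.functionField)⁻¹ * (π' : X.functionField)) z = 0 := by
    intro z hz hco
    rw [Scheme.ord_mul (inv_ne_zero π.ne_zero) π'.ne_zero, ord_inv _ π.ne_zero, h z hz hco,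
      h' z hz hco]
    omega
  have key' : ∀ z : X, z ⤳ x → Order.coheight z = 1 →
      Scheme.ord ((π : X.functionField)⁻¹ * (π' : X.functionField))⁻¹ z = 0 := by
    intro z hz hco
    rw [ord_inv _ (mul_ne_zero (inv_ne_zero π.ne_zero) π'.ne_zero), key z hz hco]
    rfl
  have e1 : ((π⁻¹ * π' : CDiv.KUnits X) : X.functionField) =
      (π : X.functionField)⁻¹ * (π' : X.functionField) := by
    rw [Units.val_mul, Units.val_inv_eq_inv_val]
  have e2 : (((π⁻¹ * π')⁻¹ : CDiv.KUnits X) : X.functionField) =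
      ((π : X.functionField)⁻¹ * (π' : X.functionField))⁻¹ := by
    rw [Units.val_inv_eq_inv_val, e1]
  rw [e1, e2]
  constructor
  · apply mem_range_of_codim_one hX
    intro z hz hco
    rw [← Groth.Agent.CDivNormal.zero_le_ord_iff hX z hco _
      (mul_ne_zero (inv_ne_zero π.ne_zero) π'.ne_zero), key z hz hco]
  · apply mem_range_of_codim_one hX
    intro z hz hco
    rw [← Groth.Agent.CDivNormal.zero_le_ord_iff hX z hco _
      (inv_ne_zero (mul_ne_zero (inv_ne_zero π.ne_zero) π'.ne_zero)), key' z hz hco]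

theorem cond_open (x₀ x : X) (π : X.functionField) (hπ : π ≠ 0) (hc : Cond x₀ x π) :
    ∃ U : X.Opens, x ∈ U ∧ ∀ y : X, y ∈ U → Cond x₀ y π := by
  obtain ⟨_, ⟨W, hW : IsAffineOpen W, rfl⟩, hxW, -⟩ :=
    (X.isBasis_affineOpens).exists_subset_of_mem_open (Set.mem_univ x) isOpen_univ
  have hx : x ∈ W := hxW
  have hfin := Groth.Agent.OrdFin.finite_ord_ne_zero hW π hπ
  let B : Set X := {ξ | (ξ ∈ {ξ : X | ξ ∈ W ∧ Order.coheight ξ = 1 ∧ Scheme.ord π ξ ≠ 0} ∨
    ξ = x₀) ∧ ¬ ξ ⤳ x}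
  have hBfin : B.Finite := by
    apply (hfin.union (Set.finite_singleton x₀)).subset
    rintro ξ ⟨h1, -⟩
    exact h1
  have hclosed : IsClosed (⋃ ξ ∈ B, closure ({ξ} : Set X)) :=
    hBfin.isClosed_biUnion (fun ξ _ => isClosed_closure)
  refine ⟨W ⊓ ⟨(⋃ ξ ∈ B, closure ({ξ} : Set X))ᶜ, hclosed.isOpen_compl⟩, ⟨hx, ?_⟩, ?_⟩
  · intro hmem
    obtain ⟨ξ, hξB, hxcl⟩ := Set.mem_iUnion₂.mp hmem
    exact hξB.2 (specializes_iff_mem_closure.mpr hxcl)
  · rintro y ⟨hyW, hyB⟩ z hzy hcoz
    have hzW : z ∈ W := hzy.mem_open W.isOpen hyW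
    by_cases hzx : z ⤳ x
    · exact hc z hzx hcoz
    · have hzB : z ∉ B := fun hzB =>
        hyB (Set.mem_iUnion₂.mpr ⟨z, hzB, specializes_iff_mem_closure.mp hzy⟩)
      have h1 : ¬ (z ∈ {ξ : X | ξ ∈ W ∧ Order.coheight ξ = 1 ∧ Scheme.ord π ξ ≠ 0} ∨ z = x₀) :=
        fun h => hzB ⟨h, hzx⟩
      rw [not_or] at h1
      rw [if_neg h1.2]
      by_contra hne
      exact h1.1 ⟨hzW, hcoz, hne⟩

theorem exists_cond (hX : Pi1.IsNormalScheme X)
    (hufd : ∀ x : X, UniqueFactorizationMonoid (X.presheaf.stalk x))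
    (x₀ : X) (hco : Order.coheight x₀ = 1) (x : X) :
    ∃ π : CDiv.KUnits X, Cond x₀ x (π : X.functionField) := by
  by_cases h : x₀ ⤳ x
  · haveI := hufd x
    have hht := height_genPrime h hco
    obtain ⟨⟨ϖ, hϖ⟩⟩ := UniqueFactorizationMonoid.isPrincipal_of_height_eq_one hht
    have hϖ' : Ideal.span {ϖ} = genPrime h := hϖ.symm
    have hϖ0 : ϖ ≠ 0 := by
      rintro rfl
      have hbot : genPrime h = ⊥ := by
        rw [← hϖ']
        exact Ideal.span_singleton_eq_bot.mpr rfl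
      exact (genPrime h).ne_bot_of_height_eq_one hht hbot
    have hne : algebraMap (X.presheaf.stalk x) X.functionField ϖ ≠ 0 := by
      intro h0
      exact hϖ0 ((map_eq_zero_iff _ (IsFractionRing.injective (X.presheaf.stalk x)
        X.functionField)).mp h0)
    refine ⟨Units.mk0 _ hne, ?_⟩
    intro z hz hcoz
    show Scheme.ord (algebraMap (X.presheaf.stalk x) X.functionField ϖ) z = _
    by_cases hzx : z = x₀
    · subst hzx
      rw [if_pos rfl, ← algebraMap_spec hz ϖ]
      exact ord_eq_one_of_span hX z hcoz _ (span_spec_eq hz ϖ hϖ')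
    · rw [if_neg hzx, ← algebraMap_spec hz ϖ]
      have hu := isUnit_spec_of_ne h hco hz hcoz hzx ϖ hϖ'
      have := Groth.Agent.OrdFin.ord_eq_zero_of_unit z hu.unit
      rwa [IsUnit.unit_spec] at this
  · refine ⟨1, ?_⟩
    intro z hz hcoz
    have hzx : z ≠ x₀ := by
      rintro rfl
      exact h hz
    rw [if_neg hzx, Units.val_one]
    exact ord_one z

/-- a function with the right orders at the codimension one generizations of `x` generates the prime
of `x₀` in `O_x` -/
theorem exists_generator (hX : Pi1.IsNormalScheme X) {x₀ x : X} (h : x₀ ⤳ x)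
    (hco : Order.coheight x₀ = 1) (f : X.functionField) (hf : f ≠ 0) (hc : Cond x₀ x f) :
    ∃ β : X.presheaf.stalk x, algebraMap (X.presheaf.stalk x) X.functionField β = f ∧
      Ideal.span {β} = genPrime h := by
  have hinj := IsFractionRing.injective (X.presheaf.stalk x) X.functionField
  have hinj₀ := IsFractionRing.injective (X.presheaf.stalk x₀) X.functionField
  have hreg : f ∈ Set.range (algebraMap (X.presheaf.stalk x) X.functionField) := by
    apply mem_range_of_codim_one hX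
    intro z hz hcoz
    rw [← Groth.Agent.CDivNormal.zero_le_ord_iff hX z hcoz f hf, hc z hz hcoz]
    split_ifs <;> norm_num
  obtain ⟨β, hβ⟩ := hreg
  have hord₀ : Scheme.ord f x₀ = 1 := by
    rw [hc x₀ h hco, if_pos rfl]
  refine ⟨β, hβ, le_antisymm ?_ ?_⟩
  · rw [Ideal.span_singleton_le_iff_mem]
    show (X.presheaf.stalkSpecializes h).hom β ∈ maximalIdeal (X.presheaf.stalk x₀)
    rw [IsLocalRing.mem_maximalIdeal, mem_nonunits_iff]
    intro hu
    have h1 := Groth.Agent.OrdFin.ord_eq_zero_of_unit x₀ hu.unit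
    rw [IsUnit.unit_spec, algebraMap_spec h β, hβ, hord₀] at h1
    exact one_ne_zero h1
  · intro a ha
    by_cases ha0 : a = 0
    · rw [ha0]
      exact Ideal.zero_mem _
    have haK : algebraMap (X.presheaf.stalk x) X.functionField a ≠ 0 := by
      intro h0
      exact ha0 ((map_eq_zero_iff _ hinj).mp h0)
    have hq : algebraMap (X.presheaf.stalk x) X.functionField a * f⁻¹ ∈
        Set.range (algebraMap (X.presheaf.stalk x) X.functionField) := by
      apply mem_range_of_codim_one hX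
      intro z hz hcoz
      by_cases hzx : z = x₀
      · subst hzx
        rw [← Groth.Agent.CDivNormal.zero_le_ord_iff hX z hcoz _ (mul_ne_zero haK (inv_ne_zero hf)),
          Scheme.ord_mul haK (inv_ne_zero hf), ord_inv f hf, hord₀]
        have h1 : 0 ≤ Scheme.ord (algebraMap (X.presheaf.stalk x) X.functionField a) z := by
          rw [Groth.Agent.CDivNormal.zero_le_ord_iff hX z hcoz _ haK]
          exact ⟨(X.presheaf.stalkSpecializes hz).hom a, algebraMap_spec hz a⟩
        have h2 : Scheme.ord (algebraMap (X.presheaf.stalk x) X.functionField a) z ≠ 0 := by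
          intro h0
          rw [Groth.Agent.CDivNormal.ord_eq_zero_iff hX z hcoz _ haK] at h0
          obtain ⟨u, hu⟩ := h0
          rw [← algebraMap_spec hz a] at hu
          have h3 : (u : X.presheaf.stalk z) = (X.presheaf.stalkSpecializes hz).hom a :=
            hinj₀ hu
          have h4 : (X.presheaf.stalkSpecializes hz).hom a ∈ maximalIdeal (X.presheaf.stalk z) :=
            ha
          rw [IsLocalRing.mem_maximalIdeal, mem_nonunits_iff, ← h3] at h4
          exact h4 u.isUnit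
        omega
      · have h0 : Scheme.ord f z = 0 := by rw [hc z hz hcoz, if_neg hzx]
        rw [Groth.Agent.CDivNormal.ord_eq_zero_iff hX z hcoz f hf] at h0
        obtain ⟨u, hu⟩ := h0
        refine ⟨(X.presheaf.stalkSpecializes hz).hom a * ↑u⁻¹, ?_⟩
        rw [map_mul, algebraMap_spec hz a, ← hu, map_units_inv]
    obtain ⟨γ, hγ⟩ := hq
    rw [Ideal.mem_span_singleton']
    refine ⟨γ, hinj ?_⟩
    rw [map_mul, hγ, hβ, mul_assoc, inv_mul_cancel₀ hf, mul_one]

/-! ### the theorem -/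

theorem main (hX : Pi1.IsNormalScheme X) :
    (∀ x : ↥X, UniqueFactorizationMonoid (X.presheaf.stalk x)) ↔
      ∀ x₀ : ↥X, Order.coheight x₀ = 1 → ∃ D : CDiv.Divisor X,
        (∀ f : CDiv.KUnits X, D.1 x₀ = CDiv.germOf X x₀ f →
          Scheme.ord (f : ↑X.functionField) x₀ = 1) ∧
          ∀ x : ↥X, x ≠ x₀ → Order.coheight x = 1 → ∀ f : CDiv.KUnits X,
            D.1 x = CDiv.germOf X x f → Scheme.ord (f : ↑X.functionField) x = 0 := by
  constructor
  · intro hufd x₀ hco
    let π : X → CDiv.KUnits X := fun x => (exists_cond hX hufd x₀ hco x).choose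
    have hπ : ∀ x : X, Cond x₀ x (π x : X.functionField) :=
      fun x => (exists_cond hX hufd x₀ hco x).choose_spec
    let D : CDiv.Divisor X := ⟨fun x => CDiv.germOf X x (π x), by
      intro x
      obtain ⟨U, hxU, hU⟩ := cond_open x₀ x (π x : X.functionField) (π x).ne_zero (hπ x)
      exact ⟨U, π x, hxU, fun y hy => cond_unique hX x₀ y (π y) (π x) (hπ y) (hU y hy)⟩⟩
    refine ⟨D, ?_, ?_⟩
    · intro f hf
      have h1 : CDiv.germOf X x₀ (π x₀) = CDiv.germOf X x₀ f := hf
      rw [ord_of_germ_eq x₀ (π x₀) f h1, hπ x₀ x₀ (specializes_refl x₀) hco, if_pos rfl]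
    · intro x hne hcox f hf
      have h1 : CDiv.germOf X x (π x) = CDiv.germOf X x f := hf
      rw [ord_of_germ_eq x (π x) f h1, hπ x x (specializes_refl x) hcox, if_neg hne]
  · intro H x
    rw [UniqueFactorizationMonoid.iff_forall_isPrincipal_of_height_eq_one]
    intro 𝔭 h𝔭 hht
    obtain ⟨x₀, h, hco, rfl⟩ := exists_genPrime_eq x 𝔭 hht
    obtain ⟨D, hD1, hD2⟩ := H x₀ hco
    obtain ⟨U, f, hxU, hU⟩ := D.2 x
    have hc : Cond x₀ x (f : X.functionField) := by
      intro z hz hcoz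
      have hzU : z ∈ U := hz.mem_open U.isOpen hxU
      by_cases hzx : z = x₀
      · subst hzx
        rw [if_pos rfl]
        exact hD1 f (hU z hzU)
      · rw [if_neg hzx]
        exact hD2 z hzx hcoz f (hU z hzU)
    obtain ⟨β, -, hβ⟩ := exists_generator hX h hco (f : X.functionField) f.ne_zero hc
    exact ⟨⟨β, hβ.symm⟩⟩

end Groth.Agent.CDivUFD
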