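import Mathlib

/-!
# Normal integral schemes: sections over opens form integrally closed domains (helper8)
-/

universe u

open AlgebraicGeometry CategoryTheory TopologicalSpace Opposite

namespace NormH8

variable {X : Scheme.{u}}

theorem genericPoint_mem [IsIntegral X] {W : X.Opens} {x : X} (hx : x ∈ W) :
    genericPoint X ∈ W :=
  ((genericPoint_spec X).mem_open_set_iff W.isOpen).mpr ⟨x, trivial, hx⟩

/-- An element of the function field lying in every stalk over `V` is a section over `V`. -/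
theorem exists_section_of_forall_stalk [IsIntegral X] (V : X.Opens) [Nonempty V]
    (a : X.functionField)
    (h : ∀ x ∈ V, ∃ r : X.presheaf.stalk x, algebraMap (X.presheaf.stalk x) X.functionField r = a) :
    ∃ r : Γ(X, V), X.germToFunctionField V r = a := by
  have h1 : ∀ x : V, ∃ (W : X.Opens) (_ : x.1 ∈ W) (_ : W ≤ V) (s : Γ(X, W))
      (hg : genericPoint X ∈ W), X.presheaf.germ W (genericPoint X) hg s = a := by
    intro x
    obtain ⟨r, hr⟩ := h x.1 x.2
    obtain ⟨U, hxU, s, hs⟩ := X.presheaf.exists_germ_eq r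
    have hxW : x.1 ∈ U ⊓ V := ⟨hxU, x.2⟩
    refine ⟨U ⊓ V, hxW, inf_le_right, X.presheaf.map (homOfLE (inf_le_left : U ⊓ V ≤ U)).op s,
      genericPoint_mem hxW, ?_⟩
    rw [TopCat.Presheaf.germ_res_apply]
    rw [← hr, ← hs]
    haveI : Nonempty U := ⟨⟨x.1, hxU⟩⟩
    have := Scheme.algebraMap_germ_eq_germToFunctionField (X := X) (U := U) hxU s
    rw [this]
  choose W hxW hWV s hg hs using h1
  have hcompat : TopCat.Presheaf.IsCompatible X.presheaf W s := by
    intro x y
    have hxy : genericPoint X ∈ W x ⊓ W y := ⟨hg x, hg y⟩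
    apply germ_injective_of_isIntegral X (genericPoint X) hxy
    rw [TopCat.Presheaf.germ_res_apply, TopCat.Presheaf.germ_res_apply, hs, hs]
  have hcov : V ≤ ⨆ x, W x := by
    intro z hz
    exact Opens.mem_iSup.2 ⟨⟨z, hz⟩, hxW ⟨z, hz⟩⟩
  obtain ⟨t, ht, -⟩ := TopCat.Sheaf.existsUnique_gluing' X.sheaf W V
    (fun i => homOfLE (hWV i)) hcov _ hcompat
  refine ⟨t, ?_⟩
  obtain ⟨x⟩ := ‹Nonempty V›
  have h2 := ht x
  change X.presheaf.germ V (genericPoint X) _ t = a
  rw [← hs x, ← h2]
  exact (TopCat.Presheaf.germ_res_apply X.presheaf (homOfLE (hWV x)) (genericPoint X) (hg x) t).symm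

/-- On an integral scheme with integrally closed stalks, sections over any nonempty open form an
integrally closed domain. -/
theorem isIntegrallyClosed_sections [IsIntegral X]
    (hX : ∀ x : X, IsIntegrallyClosed (X.presheaf.stalk x)) (V : X.Opens) [Nonempty V] :
    IsIntegrallyClosed Γ(X, V) := by
  rw [isIntegrallyClosed_iff (FractionRing Γ(X, V))]
  intro a ha
  have hinj : Function.Injective (Algebra.ofId Γ(X, V) X.functionField) :=
    X.germToFunctionField_injective V
  obtain ⟨φ, hφ⟩ : ∃ φ : FractionRing Γ(X, V) →ₐ[Γ(X, V)] X.functionField,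
      φ = IsFractionRing.liftAlgHom hinj := ⟨_, rfl⟩
  have h1 : IsIntegral Γ(X, V) (φ a) := IsIntegral.map φ ha
  have h2 : ∀ x ∈ V, ∃ r : X.presheaf.stalk x,
      algebraMap (X.presheaf.stalk x) X.functionField r = φ a := by
    intro x hx
    letI := TopCat.Presheaf.algebra_section_stalk X.presheaf (U := V) ⟨x, hx⟩
    haveI := functionField_isScalarTower X V ⟨x, hx⟩
    have h3 : IsIntegral (X.presheaf.stalk x) (φ a) := IsIntegral.tower_top h1
    exact (isIntegrallyClosed_iff X.functionField).1 (hX x) h3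
  obtain ⟨r, hr⟩ := exists_section_of_forall_stalk V (φ a) h2
  refine ⟨r, ?_⟩
  apply φ.toRingHom.injective
  change φ (algebraMap _ _ r) = φ a
  rw [φ.commutes, ← hr]
  rfl

/-- If `Γ(Y, U)` is an integrally closed domain for an affine open `U ∋ y`, the stalk at `y` is
integrally closed. -/
theorem isIntegrallyClosed_stalk_of_sections {Y : Scheme.{u}} {U : Y.Opens} (hU : IsAffineOpen U)
    [IsDomain Γ(Y, U)] [IsIntegrallyClosed Γ(Y, U)] (y : Y) (hy : y ∈ U) :
    IsIntegrallyClosed (Y.presheaf.stalk y) := by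
  letI := TopCat.Presheaf.algebra_section_stalk Y.presheaf (U := U) ⟨y, hy⟩
  haveI := hU.isLocalization_stalk ⟨y, hy⟩
  exact isIntegrallyClosed_of_isLocalization (Y.presheaf.stalk y)
    (hU.primeIdealOf ⟨y, hy⟩).asIdeal.primeCompl
    (Ideal.primeCompl_le_nonZeroDivisors _)

/-- A "fibration" (`O_Y ≅ f_* O_X`) from a normal integral scheme onto an integral scheme has a
normal target. -/
theorem isIntegrallyClosed_stalk_of_fibration {X Y : Scheme.{u}} [IsIntegral X] [IsIntegral Y]
    (f : X ⟶ Y) (hne : ∀ U : Y.Opens, Nonempty U → Nonempty (f ⁻¹ᵁ U))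
    (hb : ∀ U : Y.Opens, Function.Bijective (f.app U))
    (hX : ∀ x : X, IsIntegrallyClosed (X.presheaf.stalk x)) (y : Y) :
    IsIntegrallyClosed (Y.presheaf.stalk y) := by
  obtain ⟨_, ⟨U, hU, rfl⟩, hyU, -⟩ :=
    Y.isBasis_affineOpens.exists_subset_of_mem_open (Set.mem_univ y) isOpen_univ
  haveI : Nonempty U := ⟨⟨y, hyU⟩⟩
  haveI : Nonempty (f ⁻¹ᵁ U) := hne U inferInstance
  haveI := isIntegrallyClosed_sections hX (f ⁻¹ᵁ U)
  haveI : IsIntegrallyClosed Γ(Y, U) :=
    IsIntegrallyClosed.of_equiv (RingEquiv.ofBijective (f.app U).hom (hb U)).symm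
  exact isIntegrallyClosed_stalk_of_sections hU y hyU

end NormH8
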