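import Mathlib

/-!
# Distance between lattices over a one-dimensional Noetherian local domain
-/

set_option autoImplicit false

universe u v

namespace Groth.Agent.LatticeDist

open Submodule

section FiniteLength

variable {A : Type u} [CommRing A] [IsNoetherianRing A] [Ring.KrullDimLE 1 A]

/-- A finitely generated submodule killed by a non-zero-divisor has finite length. -/
lemma length_lt_top_of_fg {X : Type v} [AddCommGroup X] [Module A X] {a : A}
    (ha : a ∈ nonZeroDivisors A) (hX : ∀ x : X, a • x = 0) (N : Submodule A X) (hN : N.FG) :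
    Module.length A N < ⊤ := by
  have h0 : Module.length A (A ⧸ Ideal.span {a}) < ⊤ :=
    lt_top_iff_ne_top.2 (Module.length_ne_top_iff.2 (isFiniteLength_quotient_span_singleton A ha))
  induction N, hN using Submodule.fg_induction with
  | singleton x =>
    let x' : ↥(A ∙ x) := ⟨x, Submodule.mem_span_singleton_self x⟩
    let g : (A ⧸ Ideal.span {a}) →ₗ[A] ↥(A ∙ x) :=
      Submodule.liftQ (Ideal.span {a}) (LinearMap.toSpanSingleton A _ x') (by
        rw [Ideal.span_le, Set.singleton_subset_iff]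
        change LinearMap.toSpanSingleton A _ x' a = 0
        rw [LinearMap.toSpanSingleton_apply]
        apply Subtype.ext
        exact hX x)
    have hg : Function.Surjective g := by
      rintro ⟨y, hy⟩
      obtain ⟨r, rfl⟩ := Submodule.mem_span_singleton.1 hy
      refine ⟨Submodule.Quotient.mk r, ?_⟩
      change LinearMap.toSpanSingleton A _ x' r = _
      rw [LinearMap.toSpanSingleton_apply]
      rfl
    exact lt_of_le_of_lt (Module.length_le_of_surjective g hg) h0
  | sup N₁ N₂ hN₁ hN₂ h₁ h₂ =>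
    let g : (↥N₁ × ↥N₂) →ₗ[A] ↥(N₁ ⊔ N₂) :=
      (Submodule.inclusion le_sup_left).coprod (Submodule.inclusion le_sup_right)
    have hg : Function.Surjective g := by
      rintro ⟨w, hw⟩
      obtain ⟨u, hu, v, hv, rfl⟩ := Submodule.mem_sup.1 hw
      exact ⟨(⟨u, hu⟩, ⟨v, hv⟩), Subtype.ext rfl⟩
    refine lt_of_le_of_lt (Module.length_le_of_surjective g hg) ?_
    rw [Module.length_prod]
    exact ENat.add_lt_top.2 ⟨h₁, h₂⟩

lemma length_lt_top_of_finite {X : Type v} [AddCommGroup X] [Module A X] [Module.Finite A X]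
    {a : A} (ha : a ∈ nonZeroDivisors A) (hX : ∀ x : X, a • x = 0) : Module.length A X < ⊤ := by
  have := length_lt_top_of_fg ha hX ⊤ (Module.Finite.fg_top)
  rwa [Module.length_top] at this

end FiniteLength

section Quot

variable {A : Type u} [CommRing A] {V : Type v} [AddCommGroup V] [Module A V]

/-- Additivity of length along `N ≤ L' ≤ L`. -/
lemma length_tower (N L' L : Submodule A V) (h1 : N ≤ L') (h2 : L' ≤ L) :
    Module.length A (↥L ⧸ N.submoduleOf L) =
      Module.length A (↥L' ⧸ N.submoduleOf L') + Module.length A (↥L ⧸ L'.submoduleOf L) := by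
  let f : (↥L' ⧸ N.submoduleOf L') →ₗ[A] (↥L ⧸ N.submoduleOf L) :=
    Submodule.mapQ _ _ (Submodule.inclusion h2) (fun x hx => hx)
  let g : (↥L ⧸ N.submoduleOf L) →ₗ[A] (↥L ⧸ L'.submoduleOf L) :=
    Submodule.mapQ _ _ LinearMap.id (fun x hx => h1 hx)
  have hfm : ∀ y : ↥L', f (Submodule.Quotient.mk y) =
      Submodule.Quotient.mk (Submodule.inclusion h2 y) := fun y => rfl
  have hgm : ∀ x : ↥L, g (Submodule.Quotient.mk x) = Submodule.Quotient.mk x := fun x => rfl
  have hf : Function.Injective f := by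
    rw [injective_iff_map_eq_zero]
    intro q hq
    induction q using Submodule.Quotient.induction_on with
    | _ y =>
      rw [hfm, Submodule.Quotient.mk_eq_zero] at hq
      rw [Submodule.Quotient.mk_eq_zero]
      exact hq
  have hg : Function.Surjective g := by
    intro q
    induction q using Submodule.Quotient.induction_on with
    | _ x => exact ⟨Submodule.Quotient.mk x, hgm x⟩
  have hex : Function.Exact f g := by
    intro q
    induction q using Submodule.Quotient.induction_on with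
    | _ x =>
      rw [hgm, Submodule.Quotient.mk_eq_zero]
      constructor
      · intro hx
        have hx' : (x : V) ∈ L' := hx
        exact ⟨Submodule.Quotient.mk ⟨x, hx'⟩, by rw [hfm]; rfl⟩
      · rintro ⟨q', hq'⟩
        induction q' using Submodule.Quotient.induction_on with
        | _ y =>
          rw [hfm, Submodule.Quotient.eq] at hq'
          have h3 : ((y : V) - (x : V)) ∈ N := hq'
          have h4 : (x : V) = (y : V) - ((y : V) - (x : V)) := by abel
          change (x : V) ∈ L'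
          rw [h4]
          exact L'.sub_mem y.2 (h1 h3)
  exact Module.length_eq_add_of_exact f g hf hg hex

end Quot

section Lattice

variable {A : Type u} [CommRing A] [IsDomain A] {K : Type u} [Field K] [Algebra A K]
  [IsFractionRing A K] {V : Type v} [AddCommGroup V] [Module K V] [Module A V]
  [IsScalarTower A K V]

/-- Every vector of the span of `M'` over `K` is moved into `M'` by a non-zero-divisor. -/
lemma exists_smul_mem (M' : Submodule A V) (hM' : Submodule.span K (M' : Set V) = ⊤) (v : V) :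
    ∃ a ∈ nonZeroDivisors A, a • v ∈ M' := by
  have hv : v ∈ Submodule.span K (M' : Set V) := by rw [hM']; trivial
  induction hv using Submodule.span_induction with
  | mem x hx => exact ⟨1, Submonoid.one_mem _, by simpa using hx⟩
  | zero => exact ⟨1, Submonoid.one_mem _, by simp⟩
  | add x y _ _ hx hy =>
    obtain ⟨a, ha, hax⟩ := hx
    obtain ⟨b, hb, hby⟩ := hy
    refine ⟨a * b, Submonoid.mul_mem _ ha hb, ?_⟩
    have : (a * b) • (x + y) = b • (a • x) + a • (b • y) := by
      rw [smul_add, mul_smul a b y, mul_comm a b, mul_smul b a x]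
    rw [this]
    exact M'.add_mem (M'.smul_mem _ hax) (M'.smul_mem _ hby)
  | smul k x _ hx =>
    obtain ⟨a, ha, hax⟩ := hx
    obtain ⟨r, s, hs, rfl⟩ := IsFractionRing.div_surjective (A := A) k
    refine ⟨s * a, Submonoid.mul_mem _ hs ha, ?_⟩
    have hs0 : algebraMap A K s ≠ 0 := by
      intro h
      exact (nonZeroDivisors.ne_zero hs) ((FaithfulSMul.algebraMap_injective A K)
        (by rw [h, map_zero]))
    have h1 : s • ((algebraMap A K r / algebraMap A K s) • x) = r • x := by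
      rw [← algebraMap_smul K s, smul_smul, mul_div_cancel₀ _ hs0, algebraMap_smul]
    have : (s * a) • ((algebraMap A K r / algebraMap A K s) • x) = r • (a • x) := by
      rw [mul_comm, mul_smul, h1, smul_comm]
    rw [this]
    exact M'.smul_mem _ hax

lemma exists_smul_le (M M' : Submodule A V) (hM : M.FG)
    (hM' : Submodule.span K (M' : Set V) = ⊤) :
    ∃ a ∈ nonZeroDivisors A, ∀ m ∈ M, a • m ∈ M' := by
  induction M, hM using Submodule.fg_induction with
  | singleton x =>
    obtain ⟨a, ha, hax⟩ := exists_smul_mem (K := K) M' hM' x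
    refine ⟨a, ha, fun m hm => ?_⟩
    obtain ⟨r, rfl⟩ := Submodule.mem_span_singleton.1 hm
    rw [smul_comm]
    exact M'.smul_mem _ hax
  | sup N₁ N₂ _ _ h₁ h₂ =>
    obtain ⟨a, ha, h₁⟩ := h₁
    obtain ⟨b, hb, h₂⟩ := h₂
    refine ⟨a * b, Submonoid.mul_mem _ ha hb, fun m hm => ?_⟩
    obtain ⟨u, hu, v, hv, rfl⟩ := Submodule.mem_sup.1 hm
    have : (a * b) • (u + v) = b • (a • u) + a • (b • v) := by
      rw [smul_add, mul_smul a b v, mul_comm a b, mul_smul b a u]
    rw [this]
    exact M'.add_mem (M'.smul_mem _ (h₁ u hu)) (M'.smul_mem _ (h₂ v hv))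

end Lattice


section Main

variable {A : Type u} [CommRing A] [IsDomain A] [IsNoetherianRing A]
  {K : Type u} [Field K] [Algebra A K] [IsFractionRing A K] {V : Type v} [AddCommGroup V]
  [Module K V] [Module A V] [IsScalarTower A K V]

lemma length_quot_ne_top [Ring.KrullDimLE 1 A] (L N : Submodule A V) (hL : L.FG) {a : A}
    (ha : a ∈ nonZeroDivisors A) (h : ∀ m ∈ L, a • m ∈ N) :
    Module.length A (↥L ⧸ N.submoduleOf L) ≠ ⊤ := by
  have : Module.Finite A ↥L := Module.Finite.iff_fg.2 hL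
  apply ne_of_lt
  apply length_lt_top_of_finite ha
  intro q
  induction q using Submodule.Quotient.induction_on with
  | _ x =>
    rw [← Submodule.Quotient.mk_smul, Submodule.Quotient.mk_eq_zero]
    exact h x x.2

lemma exists_smul_le_inf (M M' M'' : Submodule A V) (hM : M.FG)
    (h' : Submodule.span K (M' : Set V) = ⊤) (h'' : Submodule.span K (M'' : Set V) = ⊤) :
    ∃ a ∈ nonZeroDivisors A, ∀ m ∈ M, a • m ∈ M' ⊓ M'' := by
  obtain ⟨a, ha, h₁⟩ := exists_smul_le (K := K) M M' hM h'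
  obtain ⟨b, hb, h₂⟩ := exists_smul_le (K := K) M M'' hM h''
  refine ⟨a * b, Submonoid.mul_mem _ ha hb, fun m hm => ⟨?_, ?_⟩⟩
  · rw [mul_comm, mul_smul]
    exact M'.smul_mem _ (h₁ m hm)
  · rw [mul_smul]
    exact M''.smul_mem _ (h₂ m hm)

/-- The distance computed through a common sublattice. -/
lemma dist_eq (N L L' : Submodule A V) (hNL : N ≤ L ⊓ L')
    (hfin : Module.length A (↥L ⧸ N.submoduleOf L) ≠ ⊤)
    (hfin' : Module.length A (↥L' ⧸ N.submoduleOf L') ≠ ⊤) :
    ((Module.length A (↥L ⧸ (L ⊓ L').submoduleOf L)).toNat : ℤ) -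
        ((Module.length A (↥L' ⧸ (L ⊓ L').submoduleOf L')).toNat : ℤ) =
      ((Module.length A (↥L ⧸ N.submoduleOf L)).toNat : ℤ) -
        ((Module.length A (↥L' ⧸ N.submoduleOf L')).toNat : ℤ) := by
  have t1 := length_tower N (L ⊓ L') L hNL inf_le_left
  have t2 := length_tower N (L ⊓ L') L' hNL inf_le_right
  rw [t1] at hfin
  rw [t2] at hfin'
  have hc : Module.length A (↥(L ⊓ L') ⧸ N.submoduleOf (L ⊓ L')) ≠ ⊤ :=
    fun h => hfin (ENat.add_eq_top.2 (Or.inl h))
  have hx : Module.length A (↥L ⧸ (L ⊓ L').submoduleOf L) ≠ ⊤ :=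
    fun h => hfin (ENat.add_eq_top.2 (Or.inr h))
  have hy : Module.length A (↥L' ⧸ (L ⊓ L').submoduleOf L') ≠ ⊤ :=
    fun h => hfin' (ENat.add_eq_top.2 (Or.inr h))
  rw [t1, t2, ENat.toNat_add hc hx, ENat.toNat_add hc hy]
  push_cast
  ring

theorem dist_add (hA : ringKrullDim A = 1) (M₁ M₂ M₃ : Submodule A V)
    [Submodule.IsLattice K M₁] [Submodule.IsLattice K M₂] [Submodule.IsLattice K M₃] :
    ((Module.length A (↥M₁ ⧸ (M₁ ⊓ M₃).submoduleOf M₁)).toNat : ℤ) -
        ((Module.length A (↥M₃ ⧸ (M₁ ⊓ M₃).submoduleOf M₃)).toNat : ℤ) =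
      (((Module.length A (↥M₁ ⧸ (M₁ ⊓ M₂).submoduleOf M₁)).toNat : ℤ) -
        ((Module.length A (↥M₂ ⧸ (M₁ ⊓ M₂).submoduleOf M₂)).toNat : ℤ)) +
      (((Module.length A (↥M₂ ⧸ (M₂ ⊓ M₃).submoduleOf M₂)).toNat : ℤ) -
        ((Module.length A (↥M₃ ⧸ (M₂ ⊓ M₃).submoduleOf M₃)).toNat : ℤ)) := by
  have hdim : Ring.KrullDimLE 1 A := by
    rw [Ring.KrullDimLE, Order.krullDimLE_iff]
    exact le_of_eq hA
  let N : Submodule A V := M₁ ⊓ M₂ ⊓ M₃
  have fg₁ : M₁.FG := Submodule.IsLattice.fg (A := K)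
  have fg₂ : M₂.FG := Submodule.IsLattice.fg (A := K)
  have fg₃ : M₃.FG := Submodule.IsLattice.fg (A := K)
  have sp₁ : Submodule.span K (M₁ : Set V) = ⊤ := Submodule.IsLattice.span_eq_top
  have sp₂ : Submodule.span K (M₂ : Set V) = ⊤ := Submodule.IsLattice.span_eq_top
  have sp₃ : Submodule.span K (M₃ : Set V) = ⊤ := Submodule.IsLattice.span_eq_top
  obtain ⟨a₁, ha₁, h₁⟩ := exists_smul_le_inf (K := K) M₁ M₂ M₃ fg₁ sp₂ sp₃
  obtain ⟨a₂, ha₂, h₂⟩ := exists_smul_le_inf (K := K) M₂ M₁ M₃ fg₂ sp₁ sp₃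
  obtain ⟨a₃, ha₃, h₃⟩ := exists_smul_le_inf (K := K) M₃ M₁ M₂ fg₃ sp₁ sp₂
  have f₁ : Module.length A (↥M₁ ⧸ N.submoduleOf M₁) ≠ ⊤ :=
    length_quot_ne_top M₁ N fg₁ ha₁ (fun m hm =>
      ⟨⟨M₁.smul_mem _ hm, (h₁ m hm).1⟩, (h₁ m hm).2⟩)
  have f₂ : Module.length A (↥M₂ ⧸ N.submoduleOf M₂) ≠ ⊤ :=
    length_quot_ne_top M₂ N fg₂ ha₂ (fun m hm =>
      ⟨⟨(h₂ m hm).1, M₂.smul_mem _ hm⟩, (h₂ m hm).2⟩)
  have f₃ : Module.length A (↥M₃ ⧸ N.submoduleOf M₃) ≠ ⊤ :=
    length_quot_ne_top M₃ N fg₃ ha₃ (fun m hm =>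
      ⟨⟨(h₃ m hm).1, (h₃ m hm).2⟩, M₃.smul_mem _ hm⟩)
  have e13 := dist_eq N M₁ M₃ (le_inf (inf_le_left.trans inf_le_left) inf_le_right) f₁ f₃
  have e12 := dist_eq N M₁ M₂ inf_le_left f₁ f₂
  have e23 := dist_eq N M₂ M₃ (le_inf (inf_le_left.trans inf_le_right) inf_le_right) f₂ f₃
  rw [e13, e12, e23]
  ring

end Main

end Groth.Agent.LatticeDist
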