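import Mathlib
import Groth.Prelude.Def_Tame
import Groth.Agent.Lib.LatticeDist_helper9

/-!
# Distance between a lattice and its image under an automorphism (helper9)

`d(M, φ M) = ord (det φ)` over a one-dimensional Noetherian local domain.
-/

set_option autoImplicit false

universe u v w

namespace Groth.Agent.LatticeDet

open Submodule Groth.Agent.LatticeDist

section Dist

variable {A : Type u} [CommRing A] {V : Type v} [AddCommGroup V] [Module A V]

/-- The distance between two submodules. -/
noncomputable def dist (L L' : Submodule A V) : ℤ :=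
  ((Module.length A (↥L ⧸ (L ⊓ L').submoduleOf L)).toNat : ℤ) -
    ((Module.length A (↥L' ⧸ (L ⊓ L').submoduleOf L')).toNat : ℤ)

lemma dist_self (L : Submodule A V) : dist L L = 0 := by
  unfold dist
  exact sub_self _

variable {V' : Type w} [AddCommGroup V'] [Module A V']

lemma length_map_eq (ψ : V →ₗ[A] V') (hψ : Function.Injective ψ) (L N : Submodule A V) :
    Module.length A (↥(L.map ψ) ⧸ (N.map ψ).submoduleOf (L.map ψ)) =
      Module.length A (↥L ⧸ N.submoduleOf L) := by
  have h : (N.submoduleOf L).map (Submodule.equivMapOfInjective ψ hψ L : ↥L →ₗ[A] ↥(L.map ψ)) =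
      (N.map ψ).submoduleOf (L.map ψ) := by
    ext ⟨y, hy⟩
    constructor
    · rintro ⟨x, hx, hxy⟩
      have h1 : ψ (x : V) = y := congrArg Subtype.val hxy
      exact ⟨(x : V), hx, h1⟩
    · rintro ⟨x', hx', hxy⟩
      obtain ⟨x'', hx'', hxy'⟩ := hy
      have hy' : ψ x' = ψ x'' := (hxy : ψ x' = y).trans hxy'.symm
      have : x' = x'' := hψ hy'
      subst this
      exact ⟨⟨x', hx''⟩, hx', Subtype.ext hxy⟩
  exact (Submodule.Quotient.equiv _ _ (Submodule.equivMapOfInjective ψ hψ L) h).length_eq.symm

lemma dist_map (ψ : V →ₗ[A] V') (hψ : Function.Injective ψ) (L L' : Submodule A V) :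
    dist (L.map ψ) (L'.map ψ) = dist L L' := by
  unfold dist
  rw [← Submodule.map_inf ψ hψ, length_map_eq ψ hψ, length_map_eq ψ hψ]

lemma length_range_quot {W : Type w} [AddCommGroup W] [Module A W] (g : W →ₗ[A] V)
    (hg : Function.Injective g) (Q : Submodule A W) :
    Module.length A (↥(LinearMap.range g) ⧸ (Q.map g).submoduleOf (LinearMap.range g)) =
      Module.length A (W ⧸ Q) := by
  have h : Q.map (LinearEquiv.ofInjective g hg : W →ₗ[A] ↥(LinearMap.range g)) =
      (Q.map g).submoduleOf (LinearMap.range g) := by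
    ext ⟨y, hy⟩
    constructor
    · rintro ⟨x, hx, hxy⟩
      exact ⟨x, hx, congrArg Subtype.val hxy⟩
    · rintro ⟨x, hx, hxy⟩
      exact ⟨x, hx, Subtype.ext hxy⟩
  exact (Submodule.Quotient.equiv _ _ (LinearEquiv.ofInjective g hg) h).length_eq.symm

end Dist


section Lattice

variable {A : Type u} [CommRing A] [IsDomain A] [IsNoetherianRing A]
  {K : Type u} [Field K] [Algebra A K] [IsFractionRing A K] {V : Type v} [AddCommGroup V]
  [Module K V] [Module A V] [IsScalarTower A K V]

omit [IsDomain A] [IsNoetherianRing A] [IsFractionRing A K] in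
lemma isLattice_map (f : V →ₗ[K] V) (hf : Function.Surjective f) (M : Submodule A V)
    [Submodule.IsLattice K M] : Submodule.IsLattice K (M.map (f.restrictScalars A)) where
  fg := (Submodule.IsLattice.fg (A := K)).map _
  span_eq_top := by
    have h : ((M.map (f.restrictScalars A) : Submodule A V) : Set V) = f '' (M : Set V) := rfl
    rw [h, Submodule.span_image, Submodule.IsLattice.span_eq_top, Submodule.map_top,
      LinearMap.range_eq_top.mpr hf]

lemma length_quot_lt_top [Ring.KrullDimLE 1 A] (M M' : Submodule A V) [Submodule.IsLattice K M]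
    [Submodule.IsLattice K M'] :
    Module.length A (↥M ⧸ (M ⊓ M').submoduleOf M) < ⊤ := by
  have fg : M.FG := Submodule.IsLattice.fg (A := K)
  have sp : Submodule.span K (M : Set V) = ⊤ := Submodule.IsLattice.span_eq_top
  have sp' : Submodule.span K (M' : Set V) = ⊤ := Submodule.IsLattice.span_eq_top
  obtain ⟨a, ha, h⟩ := exists_smul_le_inf (K := K) M M M' fg sp sp'
  exact lt_top_iff_ne_top.mpr (length_quot_ne_top M (M ⊓ M') fg ha h)

variable (hA : ringKrullDim A = 1)
include hA

lemma dist_add' (M₁ M₂ M₃ : Submodule A V)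
    [Submodule.IsLattice K M₁] [Submodule.IsLattice K M₂] [Submodule.IsLattice K M₃] :
    dist M₁ M₃ = dist M₁ M₂ + dist M₂ M₃ :=
  dist_add (K := K) hA M₁ M₂ M₃

lemma dist_symm (M₁ M₂ : Submodule A V)
    [Submodule.IsLattice K M₁] [Submodule.IsLattice K M₂] :
    dist M₁ M₂ + dist M₂ M₁ = 0 := by
  rw [← dist_add' (K := K) hA M₁ M₂ M₁, dist_self]

/-- `δ_M(f) = d(M, f M)`. -/
noncomputable def delta (M : Submodule A V) (f : V →ₗ[K] V) : ℤ :=
  dist M (M.map (f.restrictScalars A))

omit hA [IsDomain A] [IsNoetherianRing A] [IsFractionRing A K] in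
lemma map_comp (M : Submodule A V) (f g : V →ₗ[K] V) :
    M.map ((f ∘ₗ g).restrictScalars A) =
      (M.map (g.restrictScalars A)).map (f.restrictScalars A) := by
  rw [← Submodule.map_comp]
  rfl

lemma delta_comp (M : Submodule A V) [Submodule.IsLattice K M] (f g : V →ₗ[K] V)
    (hf : Function.Bijective f) (hg : Function.Bijective g) :
    delta M (f ∘ₗ g) = delta M f + delta M g := by
  unfold delta
  have := isLattice_map f hf.2 M
  have := isLattice_map g hg.2 M
  have := isLattice_map f hf.2 (M.map (g.restrictScalars A))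
  rw [map_comp, dist_add' (K := K) hA M (M.map (f.restrictScalars A)),
    dist_map (f.restrictScalars A) hf.1]

lemma delta_indep (M M' : Submodule A V) [Submodule.IsLattice K M] [Submodule.IsLattice K M']
    (f : V →ₗ[K] V) (hf : Function.Bijective f) : delta M f = delta M' f := by
  unfold delta
  have := isLattice_map f hf.2 M
  have := isLattice_map f hf.2 M'
  rw [dist_add' (K := K) hA M M' (M.map (f.restrictScalars A)),
    dist_add' (K := K) hA M' (M'.map (f.restrictScalars A)) (M.map (f.restrictScalars A)),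
    dist_map (f.restrictScalars A) hf.1]
  have := dist_symm (K := K) hA M M'
  linarith

/-- `δ(1 + N) = 0` if `N² = 0`. -/
lemma delta_eq_zero_of_sq_zero (M : Submodule A V) [Submodule.IsLattice K M] (N : V →ₗ[K] V)
    (hN : ∀ x, N (N x) = 0) : delta M (LinearMap.id + N) = 0 := by
  have hbij : Function.Bijective (LinearMap.id + N : V →ₗ[K] V) := by
    refine Function.bijective_iff_has_inverse.mpr ⟨(LinearMap.id - N : V →ₗ[K] V), ?_, ?_⟩
    · intro x
      simp [hN]
    · intro x
      simp [hN]
  let M' : Submodule A V := M ⊔ M.map (N.restrictScalars A)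
  haveI : Submodule.IsLattice K M' :=
    Submodule.IsLattice.of_le_of_isLattice_of_fg K (M := M) le_sup_left
      ((Submodule.IsLattice.fg (A := K)).sup ((Submodule.IsLattice.fg (A := K)).map _))
  have hmem : ∀ x ∈ M', ∃ m ∈ M, ∃ m' ∈ M, x = m + N m' := by
    intro x hx
    obtain ⟨m, hm, y, ⟨m', hm', rfl⟩, rfl⟩ := Submodule.mem_sup.mp hx
    exact ⟨m, hm, m', hm', rfl⟩
  have hmem' : ∀ m ∈ M, ∀ m' ∈ M, m + N m' ∈ M' := fun m hm m' hm' =>
    Submodule.add_mem _ (Submodule.mem_sup_left hm)
      (Submodule.mem_sup_right ⟨m', hm', rfl⟩)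
  have hmap : M'.map ((LinearMap.id + N : V →ₗ[K] V).restrictScalars A) = M' := by
    apply le_antisymm
    · rintro _ ⟨x, hx, rfl⟩
      obtain ⟨m, hm, m', hm', rfl⟩ := hmem x hx
      have : ((LinearMap.id + N : V →ₗ[K] V).restrictScalars A) (m + N m') =
          m + N (m' + m) := by
        simp [hN]
        abel
      rw [this]
      exact hmem' m hm _ (M.add_mem hm' hm)
    · intro x hx
      obtain ⟨m, hm, m', hm', rfl⟩ := hmem x hx
      refine ⟨m + N (m' - m), hmem' m hm _ (M.sub_mem hm' hm), ?_⟩
      simp [hN]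
      abel
  rw [delta_indep (K := K) hA M M' _ hbij]
  unfold delta
  rw [hmap, dist_self]

end Lattice


section Ord

variable (A : Type u) [CommRing A] [IsDomain A] [IsNoetherianRing A] [Ring.KrullDimLE 1 A]
  (K : Type v) [Field K] [Algebra A K] [IsFractionRing A K]

lemma ordFrac_eq (f : K) :
    CycAlg.ordFrac A K f = WithZero.recZeroCoe (motive := fun _ => ℤ) 0
      (fun z => Multiplicative.toAdd z) (Ring.ordFrac A f) := by
  unfold CycAlg.ordFrac
  rw [dif_pos ⟨inferInstance, inferInstance, inferInstance, inferInstance⟩]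

lemma ordFrac_mul {f g : K} (hf : f ≠ 0) (hg : g ≠ 0) :
    CycAlg.ordFrac A K (f * g) = CycAlg.ordFrac A K f + CycAlg.ordFrac A K g := by
  rw [ordFrac_eq, ordFrac_eq, ordFrac_eq, map_mul]
  have h1 : Ring.ordFrac A f ≠ 0 := (map_ne_zero _).mpr hf
  have h2 : Ring.ordFrac A g ≠ 0 := (map_ne_zero _).mpr hg
  obtain ⟨x, hx⟩ := WithZero.ne_zero_iff_exists.mp h1
  obtain ⟨y, hy⟩ := WithZero.ne_zero_iff_exists.mp h2
  rw [← hx, ← hy, ← WithZero.coe_mul]
  simp only [WithZero.recZeroCoe_coe, toAdd_mul]

lemma ordFrac_one : CycAlg.ordFrac A K 1 = 0 := by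
  rw [ordFrac_eq, map_one]
  rfl

lemma ordFrac_algebraMap {a : A} (ha : a ≠ 0) :
    CycAlg.ordFrac A K (algebraMap A K a) =
      ((Module.length A (A ⧸ Ideal.span {a})).toNat : ℤ) := by
  rw [ordFrac_eq, Ring.ordFrac_eq_ord A ha]
  have hnz : a ∈ nonZeroDivisors A := mem_nonZeroDivisors_iff_ne_zero.mpr ha
  obtain ⟨m, hm⟩ := ENat.ne_top_iff_exists.mp (Ring.ord_ne_top hnz)
  rw [Ring.ordMonoidWithZeroHom_eq_coe A hnz hm.symm]
  have : Module.length A (A ⧸ Ideal.span {a}) = m := hm.symm
  rw [this]
  simp

lemma ordFrac_prod {ι : Type*} (s : Finset ι) (f : ι → K) (hf : ∀ i ∈ s, f i ≠ 0) :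
    CycAlg.ordFrac A K (∏ i ∈ s, f i) = ∑ i ∈ s, CycAlg.ordFrac A K (f i) := by
  classical
  induction s using Finset.induction_on with
  | empty => simpa using ordFrac_one A K
  | insert a s ha ih =>
    rw [Finset.prod_insert ha, Finset.sum_insert ha,
      ordFrac_mul A K (hf a (Finset.mem_insert_self a s))
        (Finset.prod_ne_zero_iff.mpr fun i hi => hf i (Finset.mem_insert_of_mem hi)),
      ih fun i hi => hf i (Finset.mem_insert_of_mem hi)]

end Ord


section Diag

variable {A : Type u} [CommRing A] [IsDomain A] [IsNoetherianRing A] [Ring.KrullDimLE 1 A]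
  {K : Type u} [Field K] [Algebra A K] [IsFractionRing A K] {V : Type v} [AddCommGroup V]
  [Module K V] [Module A V] [IsScalarTower A K V]
  {ι : Type w} [Fintype ι] [DecidableEq ι]

variable (A) in
/-- The standard lattice spanned by a basis. -/
noncomputable def stdLattice (b : Module.Basis ι K V) : Submodule A V :=
  LinearMap.range (Fintype.linearCombination A (fun k => b k))

omit [IsNoetherianRing A] [Ring.KrullDimLE 1 A] [DecidableEq ι] in
lemma gmap_injective (b : Module.Basis ι K V) :
    Function.Injective (Fintype.linearCombination A (fun k => b k)) :=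
  (b.linearIndependent.restrict_scalars' A).fintypeLinearCombination_injective

omit [IsNoetherianRing A] [Ring.KrullDimLE 1 A] [DecidableEq ι] [IsDomain A]
  [IsFractionRing A K] in
lemma stdLattice_isLattice (b : Module.Basis ι K V) :
    Submodule.IsLattice K (stdLattice A b) where
  fg := by
    unfold stdLattice
    rw [Fintype.range_linearCombination]
    exact Submodule.fg_span (Set.finite_range _)
  span_eq_top := by
    rw [eq_top_iff, ← b.span_eq]
    apply Submodule.span_mono
    rintro _ ⟨k, rfl⟩
    unfold stdLattice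
    rw [Fintype.range_linearCombination]
    exact Submodule.subset_span ⟨k, rfl⟩

lemma delta_diag (b : Module.Basis ι K V) (a : ι → A) (ha : ∀ k, a k ≠ 0) (f : V →ₗ[K] V)
    (hf : ∀ k, f (b k) = a k • b k) :
    delta (stdLattice A b) f =
      ∑ k, ((Module.length A (A ⧸ Ideal.span {a k})).toNat : ℤ) := by
  set g := Fintype.linearCombination A (fun k => b k) with hg
  have hginj : Function.Injective g := gmap_injective b
  let Q : Submodule A (ι → A) := Submodule.pi Set.univ (fun k => Ideal.span {a k})
  have key : ∀ r : ι → A, f (g r) = g (fun k => r k * a k) := by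
    intro r
    simp only [hg, Fintype.linearCombination_apply, map_sum]
    refine Finset.sum_congr rfl fun k _ => ?_
    rw [LinearMap.map_smul_of_tower, hf, smul_smul]
  have hmap : (stdLattice A b).map (f.restrictScalars A) = Q.map g := by
    apply le_antisymm
    · rintro _ ⟨_, ⟨r, rfl⟩, rfl⟩
      refine ⟨fun k => r k * a k, ?_, (key r).symm⟩
      intro k _
      exact Ideal.mem_span_singleton'.mpr ⟨r k, rfl⟩
    · rintro _ ⟨y, hy, rfl⟩
      have : ∀ k, ∃ r, r * a k = y k := fun k =>
        Ideal.mem_span_singleton'.mp (hy k (Set.mem_univ k))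
      choose r hr using this
      refine ⟨g r, ⟨r, rfl⟩, ?_⟩
      change f (g r) = g y
      rw [key]
      congr 1
      funext k
      exact hr k
  have hle : Q.map g ≤ stdLattice A b := by
    rintro _ ⟨y, -, rfl⟩
    exact ⟨y, rfl⟩
  unfold delta dist
  rw [hmap, inf_eq_right.mpr hle]
  have h1 : Module.length A (↥(stdLattice A b) ⧸ (Q.map g).submoduleOf (stdLattice A b)) =
      ∑ k, Module.length A (A ⧸ Ideal.span {a k}) := by
    unfold stdLattice
    rw [length_range_quot g hginj Q, (Submodule.quotientPi _).length_eq,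
      Module.length_pi_of_fintype]
  have h2 : Module.length A (↥(Q.map g) ⧸ (Q.map g).submoduleOf (Q.map g)) = 0 := by
    rw [Submodule.submoduleOf_self]
    exact Module.length_eq_zero
  have hne : ∀ k ∈ Finset.univ, Module.length A (A ⧸ Ideal.span {a k}) ≠ ⊤ := fun k _ =>
    Ring.ord_ne_top (mem_nonZeroDivisors_iff_ne_zero.mpr (ha k))
  rw [h1, h2, ENat.toNat_sum hne]
  simp

end Diag


section Main

variable {A : Type u} [CommRing A] [IsDomain A] [IsNoetherianRing A]
  {K : Type u} [Field K] [Algebra A K] [IsFractionRing A K] {V : Type v} [AddCommGroup V]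
  [Module K V] [Module A V] [IsScalarTower A K V]
  {n : Type w} [Fintype n] [DecidableEq n]

omit [IsDomain A] [IsNoetherianRing A] [IsFractionRing A K] [Module A V] [IsScalarTower A K V]
  [Algebra A K] in
lemma bijective_of_det_ne_zero [FiniteDimensional K V] (f : V →ₗ[K] V)
    (hf : LinearMap.det f ≠ 0) : Function.Bijective f := by
  have h : IsUnit (LinearMap.det f) := isUnit_iff_ne_zero.2 hf
  have := (LinearMap.equivOfIsUnitDet h).bijective
  have e : ⇑(LinearMap.equivOfIsUnitDet h) = ⇑f := funext (LinearMap.equivOfIsUnitDet_apply h)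
  rwa [e] at this

omit [IsDomain A] [IsNoetherianRing A] [IsFractionRing A K] [Module A V] [IsScalarTower A K V]
  [Algebra A K] in
lemma toLin_diagonal_apply (b : Module.Basis n K V) (d : n → K) (k : n) :
    Matrix.toLin b b (Matrix.diagonal d) (b k) = d k • b k := by
  rw [Matrix.toLin_self]
  rw [Finset.sum_eq_single k]
  · rw [Matrix.diagonal_apply_eq]
  · intro j _ hj
    rw [Matrix.diagonal_apply_ne _ hj, zero_smul]
  · intro h
    exact absurd (Finset.mem_univ k) h

theorem delta_toLin (hA : ringKrullDim A = 1) (b : Module.Basis n K V) (P : Matrix n n K)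
    (hP : P.det ≠ 0) :
    delta (stdLattice A b) (Matrix.toLin b b P) = CycAlg.ordFrac A K P.det := by
  have hdim : Ring.KrullDimLE 1 A := by
    rw [Ring.KrullDimLE, Order.krullDimLE_iff]
    exact le_of_eq hA
  haveI : FiniteDimensional K V := Module.Finite.of_basis b
  haveI := stdLattice_isLattice (A := A) b
  have hbij : ∀ X : Matrix n n K, X.det ≠ 0 → Function.Bijective (Matrix.toLin b b X) := by
    intro X hX
    apply bijective_of_det_ne_zero
    rwa [LinearMap.det_toLin]
  refine Matrix.diagonal_transvection_induction_of_det_ne_zero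
    (fun X => delta (stdLattice A b) (Matrix.toLin b b X) = CycAlg.ordFrac A K X.det) P hP
    ?_ ?_ ?_
  · -- diagonal matrices
    intro D hD
    rw [Matrix.det_diagonal] at hD
    have hDk : ∀ k, D k ≠ 0 := fun k => (Finset.prod_ne_zero_iff.mp hD) k (Finset.mem_univ k)
    obtain ⟨s, hs⟩ := IsLocalization.exist_integer_multiples_of_finite (nonZeroDivisors A) D
    choose a ha using hs
    have hs0 : (s : A) ≠ 0 := nonZeroDivisors.ne_zero s.2
    have hsK : algebraMap A K (s : A) ≠ 0 := by
      intro h
      exact hs0 ((FaithfulSMul.algebraMap_injective A K) (by rw [h, map_zero]))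
    have ha' : ∀ k, algebraMap A K (a k) = D k * algebraMap A K (s : A) := by
      intro k
      rw [ha k, Algebra.smul_def, mul_comm]
    have ha0 : ∀ k, a k ≠ 0 := by
      intro k h
      have := ha' k
      rw [h, map_zero] at this
      exact mul_ne_zero (hDk k) hsK this.symm
    have hmat : Matrix.diagonal (fun k => algebraMap A K (a k)) =
        Matrix.diagonal D * Matrix.diagonal (fun _ => algebraMap A K (s : A)) := by
      rw [Matrix.diagonal_mul_diagonal]
      congr 1
      funext k
      exact ha' k
    have hdetD : (Matrix.diagonal D).det ≠ 0 := by rwa [Matrix.det_diagonal]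
    have hdets : (Matrix.diagonal (fun _ : n => algebraMap A K (s : A))).det ≠ 0 := by
      rw [Matrix.det_diagonal]
      exact Finset.prod_ne_zero_iff.mpr fun _ _ => hsK
    have e1 : delta (stdLattice A b)
        (Matrix.toLin b b (Matrix.diagonal (fun k => algebraMap A K (a k)))) =
        ∑ k, CycAlg.ordFrac A K (algebraMap A K (a k)) := by
      rw [delta_diag b a ha0]
      · exact Finset.sum_congr rfl fun k _ => (ordFrac_algebraMap A K (ha0 k)).symm
      · intro k
        rw [toLin_diagonal_apply, algebraMap_smul]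
    have e2 : delta (stdLattice A b)
        (Matrix.toLin b b (Matrix.diagonal (fun _ : n => algebraMap A K (s : A)))) =
        ∑ _k : n, CycAlg.ordFrac A K (algebraMap A K (s : A)) := by
      rw [delta_diag b (fun _ => (s : A)) (fun _ => hs0)]
      · exact Finset.sum_congr rfl fun k _ => (ordFrac_algebraMap A K hs0).symm
      · intro k
        rw [toLin_diagonal_apply, algebraMap_smul]
    have e3 := delta_comp (K := K) hA (stdLattice A b) _ _ (hbij _ hdetD) (hbij _ hdets)
    rw [← Matrix.toLin_mul, ← hmat, e1, e2] at e3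
    change delta (stdLattice A b) (Matrix.toLin b b (Matrix.diagonal D)) =
      CycAlg.ordFrac A K (Matrix.diagonal D).det
    rw [Matrix.det_diagonal, ordFrac_prod A K _ _ (fun k _ => hDk k)]
    have e4 : ∑ k, CycAlg.ordFrac A K (algebraMap A K (a k)) =
        ∑ k, CycAlg.ordFrac A K (D k) + ∑ _k : n, CycAlg.ordFrac A K (algebraMap A K (s : A)) := by
      rw [← Finset.sum_add_distrib]
      refine Finset.sum_congr rfl fun k _ => ?_
      rw [ha' k, ordFrac_mul A K (hDk k) hsK]
    linarith
  · -- transvections
    intro t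
    change delta (stdLattice A b) (Matrix.toLin b b t.toMatrix) =
      CycAlg.ordFrac A K t.toMatrix.det
    rw [Matrix.TransvectionStruct.det, ordFrac_one]
    have h1 : Matrix.toLin b b t.toMatrix =
        LinearMap.id + Matrix.toLin b b (Matrix.single t.i t.j t.c) := by
      rw [Matrix.TransvectionStruct.toMatrix, Matrix.transvection, map_add, Matrix.toLin_one]
    rw [h1]
    apply delta_eq_zero_of_sq_zero (K := K) hA
    intro x
    rw [← LinearMap.comp_apply, ← Matrix.toLin_mul,
      Matrix.single_mul_single_of_ne _ _ _ _ t.hij.symm, map_zero, LinearMap.zero_apply]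
  · -- products
    intro X Y hX hY eX eY
    change delta (stdLattice A b) (Matrix.toLin b b (X * Y)) = CycAlg.ordFrac A K (X * Y).det
    rw [Matrix.toLin_mul b b b, delta_comp (K := K) hA _ _ _ (hbij X hX) (hbij Y hY), eX, eY,
      Matrix.det_mul, ordFrac_mul A K hX hY]

/-- The main theorem: `d(M, φ M) = ord (det φ)`. -/
theorem delta_eq_ordFrac_det [FiniteDimensional K V] (hA : ringKrullDim A = 1)
    (M : Submodule A V) [Submodule.IsLattice K M] (f : V →ₗ[K] V)
    (hf : LinearMap.det f ≠ 0) :
    delta M f = CycAlg.ordFrac A K (LinearMap.det f) := by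
  classical
  let b := Module.finBasis K V
  haveI := stdLattice_isLattice (A := A) b
  have hbij := bijective_of_det_ne_zero f hf
  rw [delta_indep (K := K) hA M (stdLattice A b) f hbij]
  have h := delta_toLin (A := A) hA b (LinearMap.toMatrix b b f)
    (by rwa [LinearMap.det_toMatrix])
  rwa [Matrix.toLin_toMatrix, LinearMap.det_toMatrix] at h

end Main

end Groth.Agent.LatticeDet
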