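import Mathlib
import Groth.Agent.Lib.LatticeDist_helper9

/-!
# Kernel and cokernel of multiplication by a parameter on modules over a one-dimensional ring
-/

set_option autoImplicit false

universe u v

namespace Groth.Agent.HerbrandDim1

open Function
open scoped Pointwise

section SixTerm

variable {R : Type u} [CommRing R] {X₁ X₂ X₃ X₄ X₅ X₆ : Type v}
  [AddCommGroup X₁] [Module R X₁] [AddCommGroup X₂] [Module R X₂] [AddCommGroup X₃] [Module R X₃]
  [AddCommGroup X₄] [Module R X₄] [AddCommGroup X₅] [Module R X₅] [AddCommGroup X₆] [Module R X₆]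

lemma length_eq_range_add_range {X Y Z : Type v} [AddCommGroup X] [Module R X] [AddCommGroup Y]
    [Module R Y] [AddCommGroup Z] [Module R Z] (f : X →ₗ[R] Y) (g : Y →ₗ[R] Z) (h : Exact f g) :
    Module.length R Y = Module.length R (LinearMap.range f) + Module.length R (LinearMap.range g) := by
  refine Module.length_eq_add_of_exact (LinearMap.range f).subtype g.rangeRestrict
    (Submodule.injective_subtype _) g.surjective_rangeRestrict ?_
  intro y
  constructor
  · intro hy
    have hy' : g y = 0 := congrArg Subtype.val hy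
    obtain ⟨x, hx⟩ := (h y).1 hy'
    exact ⟨⟨y, ⟨x, hx⟩⟩, rfl⟩
  · rintro ⟨⟨y', x, hx⟩, rfl⟩
    apply Subtype.ext
    change g y' = 0
    exact (h y').2 ⟨x, hx⟩

lemma six_term_length (f₁ : X₁ →ₗ[R] X₂) (f₂ : X₂ →ₗ[R] X₃) (f₃ : X₃ →ₗ[R] X₄)
    (f₄ : X₄ →ₗ[R] X₅) (f₅ : X₅ →ₗ[R] X₆) (h0 : Injective f₁) (e₁ : Exact f₁ f₂)
    (e₂ : Exact f₂ f₃) (e₃ : Exact f₃ f₄) (e₄ : Exact f₄ f₅) (h6 : Surjective f₅) :
    Module.length R X₁ + Module.length R X₃ + Module.length R X₅ =
      Module.length R X₂ + Module.length R X₄ + Module.length R X₆ := by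
  have l1 : Module.length R X₁ = Module.length R (LinearMap.range f₁) :=
    (LinearEquiv.ofInjective f₁ h0).length_eq
  have l6 : Module.length R X₆ = Module.length R (LinearMap.range f₅) := by
    rw [LinearMap.range_eq_top.2 h6, Module.length_top]
  rw [l1, l6, length_eq_range_add_range f₁ f₂ e₁, length_eq_range_add_range f₂ f₃ e₂,
    length_eq_range_add_range f₃ f₄ e₃, length_eq_range_add_range f₄ f₅ e₄]
  ring

end SixTerm

section Snake

variable {A : Type u} [CommRing A] (t : A) {M' M M'' : Type v} [AddCommGroup M'] [Module A M']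
  [AddCommGroup M] [Module A M] [AddCommGroup M''] [Module A M'']
  (i : M' →ₗ[A] M) (p : M →ₗ[A] M'')

/-- Multiplication by `t`. -/
abbrev mulT (N : Type v) [AddCommGroup N] [Module A N] : N →ₗ[A] N :=
  t • (LinearMap.id : N →ₗ[A] N)

lemma exact_mulT_mkQ (N : Type v) [AddCommGroup N] [Module A N] :
    Exact (mulT t N) (Submodule.mkQ (t • (⊤ : Submodule A N))) := by
  intro y
  rw [Submodule.mkQ_apply, Submodule.Quotient.mk_eq_zero, Submodule.mem_smul_pointwise_iff_exists]
  constructor
  · rintro ⟨x, -, hx⟩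
    exact ⟨x, hx⟩
  · rintro ⟨x, hx⟩
    exact ⟨x, trivial, hx⟩

lemma exact_subtype_ker (N : Type v) [AddCommGroup N] [Module A N] :
    Exact (LinearMap.ker (mulT t N)).subtype (mulT t N) := by
  intro y
  constructor
  · intro hy
    exact ⟨⟨y, hy⟩, rfl⟩
  · rintro ⟨x, rfl⟩
    exact x.2

/-- The map on kernels of `t`. -/
def kerMap {N N' : Type v} [AddCommGroup N] [Module A N] [AddCommGroup N'] [Module A N']
    (f : N →ₗ[A] N') : LinearMap.ker (mulT t N) →ₗ[A] LinearMap.ker (mulT t N') :=
  (f.comp (LinearMap.ker (mulT t N)).subtype).codRestrict _ (fun x => by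
    have hx : t • (x : N) = 0 := x.2
    change t • f (x : N) = 0
    rw [← map_smul, hx, map_zero])

/-- The map on cokernels of `t`. -/
def cokerMap {N N' : Type v} [AddCommGroup N] [Module A N] [AddCommGroup N'] [Module A N']
    (f : N →ₗ[A] N') : QuotSMulTop t N →ₗ[A] QuotSMulTop t N' :=
  Submodule.mapQ _ _ f (by
    intro x hx
    obtain ⟨y, -, rfl⟩ := (Submodule.mem_smul_pointwise_iff_exists _ _ _).1 hx
    change f (t • y) ∈ t • (⊤ : Submodule A N')
    rw [map_smul]
    exact Submodule.smul_mem_pointwise_smul _ _ _ trivial)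

variable {t i p}

theorem six_term (hi : Injective i) (hp : Surjective p) (hex : Exact i p) :
    Module.length A (LinearMap.ker (mulT t M')) + Module.length A (LinearMap.ker (mulT t M'')) +
        Module.length A (QuotSMulTop t M) =
      Module.length A (LinearMap.ker (mulT t M)) + Module.length A (QuotSMulTop t M') +
        Module.length A (QuotSMulTop t M'') := by
  have h₁ : i.comp (mulT t M') = (mulT t M).comp i := by
    ext x
    simp
  have h₂ : p.comp (mulT t M) = (mulT t M'').comp p := by
    ext x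
    simp
  let δ : LinearMap.ker (mulT t M'') →ₗ[A] QuotSMulTop t M' :=
    SnakeLemma.δ' (mulT t M') (mulT t M) (mulT t M'') i p hex i p hex h₁ h₂
      (LinearMap.ker (mulT t M'')).subtype (exact_subtype_ker t M'')
      (Submodule.mkQ (t • (⊤ : Submodule A M'))) (exact_mulT_mkQ t M') hp hi
  have eδr : Exact (kerMap t p) δ :=
    SnakeLemma.exact_δ'_right (mulT t M') (mulT t M) (mulT t M'') i p hex i p hex h₁ h₂
      (LinearMap.ker (mulT t M)).subtype (exact_subtype_ker t M)
      (LinearMap.ker (mulT t M'')).subtype (exact_subtype_ker t M'')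
      (Submodule.mkQ (t • (⊤ : Submodule A M'))) (exact_mulT_mkQ t M') hp hi
      (kerMap t p) (by ext x; rfl) (Submodule.injective_subtype _)
  have eδl : Exact δ (cokerMap t i) :=
    SnakeLemma.exact_δ'_left (mulT t M') (mulT t M) (mulT t M'') i p hex i p hex h₁ h₂
      (LinearMap.ker (mulT t M'')).subtype (exact_subtype_ker t M'')
      (Submodule.mkQ (t • (⊤ : Submodule A M'))) (exact_mulT_mkQ t M')
      (Submodule.mkQ (t • (⊤ : Submodule A M))) (exact_mulT_mkQ t M) hp hi
      (cokerMap t i) (by ext x; rfl) (Submodule.mkQ_surjective _)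
  have hinj : Injective (kerMap t i) := by
    intro x y hxy
    apply Subtype.ext
    apply hi
    exact congrArg Subtype.val hxy
  have e₁ : Exact (kerMap t i) (kerMap t p) := by
    intro y
    constructor
    · intro hy
      have hy' : p (y : M) = 0 := congrArg Subtype.val hy
      obtain ⟨x, hx⟩ := (hex _).1 hy'
      have hty : t • (y : M) = 0 := y.2
      have hx0 : t • x = 0 := by
        apply hi
        rw [map_smul, hx, hty, map_zero]
      exact ⟨⟨x, hx0⟩, Subtype.ext hx⟩
    · rintro ⟨x, rfl⟩
      apply Subtype.ext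
      change p (i (x : M')) = 0
      exact (hex _).2 ⟨_, rfl⟩
  have e₄ : Exact (cokerMap t i) (cokerMap t p) := by
    intro q
    induction q using Submodule.Quotient.induction_on with
    | _ y =>
      change Submodule.Quotient.mk (p y) = 0 ↔ _
      rw [Submodule.Quotient.mk_eq_zero, Submodule.mem_smul_pointwise_iff_exists]
      constructor
      · rintro ⟨z'', -, hz⟩
        obtain ⟨z, rfl⟩ := hp z''
        have : p (y - t • z) = 0 := by rw [map_sub, map_smul, hz, sub_self]
        obtain ⟨x, hx⟩ := (hex _).1 this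
        refine ⟨Submodule.Quotient.mk x, ?_⟩
        change Submodule.Quotient.mk (i x) = Submodule.Quotient.mk y
        rw [Submodule.Quotient.eq, hx]
        have : y - t • z - y = t • (-z) := by rw [smul_neg]; abel
        rw [this]
        exact Submodule.smul_mem_pointwise_smul _ _ _ trivial
      · rintro ⟨q', hq'⟩
        induction q' using Submodule.Quotient.induction_on with
        | _ x =>
          change Submodule.Quotient.mk (i x) = Submodule.Quotient.mk y at hq'
          rw [Submodule.Quotient.eq, Submodule.mem_smul_pointwise_iff_exists] at hq'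
          obtain ⟨z, -, hz⟩ := hq'
          refine ⟨p (-z), trivial, ?_⟩
          have : p (i x) = 0 := (hex _).2 ⟨_, rfl⟩
          rw [← map_smul, smul_neg, hz, neg_sub, map_sub, this, sub_zero]
  have hsurj : Surjective (cokerMap t p) := by
    intro q
    induction q using Submodule.Quotient.induction_on with
    | _ y'' =>
      obtain ⟨y, rfl⟩ := hp y''
      exact ⟨Submodule.Quotient.mk y, rfl⟩
  exact six_term_length (kerMap t i) (kerMap t p) δ (cokerMap t i) (cokerMap t p) hinj e₁ eδr eδl
    e₄ hsurj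

end Snake


section Dim1

open Groth.Agent.LatticeDist

variable {A : Type u} [CommRing A] [IsNoetherianRing A] {t : A}

lemma krullDimLE_one (hdim : ringKrullDim A = 1) : Ring.KrullDimLE 1 A := by
  rw [Ring.KrullDimLE, Order.krullDimLE_iff]
  exact le_of_eq hdim

lemma length_ker_ne_top [Ring.KrullDimLE 1 A] (ht : t ∈ nonZeroDivisors A) (N : Type v)
    [AddCommGroup N] [Module A N] [Module.Finite A N] :
    Module.length A (LinearMap.ker (mulT t N)) ≠ ⊤ := by
  have : IsNoetherian A N := isNoetherian_of_isNoetherianRing_of_finite A N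
  apply ne_of_lt
  apply length_lt_top_of_finite ht
  intro x
  apply Subtype.ext
  exact x.2

lemma length_coker_ne_top [Ring.KrullDimLE 1 A] (ht : t ∈ nonZeroDivisors A) (N : Type v)
    [AddCommGroup N] [Module A N] [Module.Finite A N] :
    Module.length A (QuotSMulTop t N) ≠ ⊤ := by
  apply ne_of_lt
  apply length_lt_top_of_finite ht
  intro q
  induction q using Submodule.Quotient.induction_on with
  | _ x =>
    rw [← Submodule.Quotient.mk_smul, Submodule.Quotient.mk_eq_zero]
    exact Submodule.smul_mem_pointwise_smul _ _ _ trivial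

theorem lengthDefect_additive (hdim : ringKrullDim A = 1) (ht : t ∈ nonZeroDivisors A)
    {M' M M'' : Type v} [AddCommGroup M'] [Module A M'] [AddCommGroup M] [Module A M]
    [AddCommGroup M''] [Module A M''] [Module.Finite A M'] [Module.Finite A M]
    [Module.Finite A M''] (i : M' →ₗ[A] M) (p : M →ₗ[A] M'') (hi : Injective i)
    (hp : Surjective p) (hex : Exact i p) :
    ((Module.length A (QuotSMulTop t M)).toNat : ℤ) -
        (Module.length A (LinearMap.ker (mulT t M))).toNat =
      (((Module.length A (QuotSMulTop t M')).toNat : ℤ) -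
        (Module.length A (LinearMap.ker (mulT t M'))).toNat) +
      (((Module.length A (QuotSMulTop t M'')).toNat : ℤ) -
        (Module.length A (LinearMap.ker (mulT t M''))).toNat) := by
  have hd := krullDimLE_one hdim
  have h6 := six_term (t := t) hi hp hex
  obtain ⟨k₁, hk₁⟩ := ENat.ne_top_iff_exists.1 (length_ker_ne_top ht M')
  obtain ⟨k₂, hk₂⟩ := ENat.ne_top_iff_exists.1 (length_ker_ne_top ht M)
  obtain ⟨k₃, hk₃⟩ := ENat.ne_top_iff_exists.1 (length_ker_ne_top ht M'')
  obtain ⟨c₁, hc₁⟩ := ENat.ne_top_iff_exists.1 (length_coker_ne_top ht M')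
  obtain ⟨c₂, hc₂⟩ := ENat.ne_top_iff_exists.1 (length_coker_ne_top ht M)
  obtain ⟨c₃, hc₃⟩ := ENat.ne_top_iff_exists.1 (length_coker_ne_top ht M'')
  rw [← hk₁, ← hk₂, ← hk₃, ← hc₁, ← hc₂, ← hc₃] at h6 ⊢
  simp only [ENat.toNat_coe]
  have h6' : k₁ + k₃ + c₂ = k₂ + c₁ + c₃ := by exact_mod_cast h6
  omega

end Dim1


section KerCoker

open Groth.Agent.LatticeDist

variable {A : Type u} [CommRing A] {t : A}

/-- For a module of finite length, kernel and cokernel of multiplication by `t` have the same
length. -/
lemma length_ker_eq_length_coker_of_finiteLength (X : Type v) [AddCommGroup X] [Module A X]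
    (hX : Module.length A X ≠ ⊤) :
    Module.length A (LinearMap.ker (mulT t X)) = Module.length A (QuotSMulTop t X) := by
  have e1 := length_eq_range_add_range (LinearMap.ker (mulT t X)).subtype (mulT t X)
    (exact_subtype_ker t X)
  have e2 := length_eq_range_add_range (mulT t X) (Submodule.mkQ (t • (⊤ : Submodule A X)))
    (exact_mulT_mkQ t X)
  have l1 : Module.length A (LinearMap.range (LinearMap.ker (mulT t X)).subtype) =
      Module.length A (LinearMap.ker (mulT t X)) := by
    rw [Submodule.range_subtype]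
  have l2 : Module.length A (LinearMap.range (Submodule.mkQ (t • (⊤ : Submodule A X)))) =
      Module.length A (QuotSMulTop t X) := by
    rw [Submodule.range_mkQ, Module.length_top]
  rw [l1] at e1
  rw [l2] at e2
  have hr : Module.length A (LinearMap.range (mulT t X)) ≠ ⊤ := by
    intro h
    rw [h, add_top] at e1
    exact hX e1
  have h3 : Module.length A (LinearMap.ker (mulT t X)) + Module.length A (LinearMap.range (mulT t X)) =
      Module.length A (QuotSMulTop t X) + Module.length A (LinearMap.range (mulT t X)) := by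
    rw [← e1, add_comm, ← e2]
  exact (ENat.add_left_injective_of_ne_top hr) h3

variable [IsNoetherianRing A]

/-- The `t`-power torsion submodule. -/
abbrev torsT (t : A) (M : Type v) [AddCommGroup M] [Module A M] : Submodule A M :=
  Submodule.torsion' A M (Submonoid.powers t)

lemma mem_torsT {M : Type v} [AddCommGroup M] [Module A M] (x : M) :
    x ∈ torsT t M ↔ ∃ n : ℕ, t ^ n • x = 0 := by
  constructor
  · rintro ⟨⟨a, n, rfl⟩, h⟩
    exact ⟨n, h⟩
  · rintro ⟨n, h⟩
    exact ⟨⟨t ^ n, n, rfl⟩, h⟩

lemma exists_pow_smul_eq_zero {M : Type v} [AddCommGroup M] [Module A M] (N : Submodule A M)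
    (hN : N.FG) (hle : N ≤ torsT t M) : ∃ n : ℕ, ∀ x ∈ N, t ^ n • x = 0 := by
  induction N, hN using Submodule.fg_induction with
  | singleton x =>
    obtain ⟨n, hn⟩ := (mem_torsT x).1 (hle (Submodule.mem_span_singleton_self x))
    refine ⟨n, fun y hy => ?_⟩
    obtain ⟨r, rfl⟩ := Submodule.mem_span_singleton.1 hy
    rw [smul_comm, hn, smul_zero]
  | sup N₁ N₂ _ _ h₁ h₂ =>
    obtain ⟨n₁, h₁⟩ := h₁ (le_sup_left.trans hle)
    obtain ⟨n₂, h₂⟩ := h₂ (le_sup_right.trans hle)
    refine ⟨n₁ + n₂, fun y hy => ?_⟩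
    obtain ⟨u, hu, v, hv, rfl⟩ := Submodule.mem_sup.1 hy
    have e1 : t ^ (n₁ + n₂) • u = t ^ n₂ • (t ^ n₁ • u) := by
      rw [pow_add, mul_comm, mul_smul]
    have e2 : t ^ (n₁ + n₂) • v = t ^ n₁ • (t ^ n₂ • v) := by
      rw [pow_add, mul_smul]
    rw [smul_add, e1, e2, h₁ u hu, h₂ v hv, smul_zero, smul_zero, add_zero]

lemma length_torsT_ne_top [Ring.KrullDimLE 1 A] (ht : t ∈ nonZeroDivisors A) (M : Type v)
    [AddCommGroup M] [Module A M] [Module.Finite A M] :
    Module.length A (torsT t M) ≠ ⊤ := by
  have : IsNoetherian A M := isNoetherian_of_isNoetherianRing_of_finite A M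
  obtain ⟨n, hn⟩ := exists_pow_smul_eq_zero (torsT t M) (IsNoetherian.noetherian _) le_rfl
  apply ne_of_lt
  apply length_lt_top_of_finite (pow_mem ht n)
  intro x
  apply Subtype.ext
  exact hn x x.2

lemma ker_mulT_quot_torsT (M : Type v) [AddCommGroup M] [Module A M] :
    LinearMap.ker (mulT t (M ⧸ torsT t M)) = ⊥ := by
  rw [eq_bot_iff]
  intro q hq
  induction q using Submodule.Quotient.induction_on with
  | _ x =>
    have hq' : t • (Submodule.Quotient.mk x : M ⧸ torsT t M) = 0 := hq
    rw [← Submodule.Quotient.mk_smul, Submodule.Quotient.mk_eq_zero, mem_torsT] at hq'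
    obtain ⟨n, hn⟩ := hq'
    rw [Submodule.mem_bot, Submodule.Quotient.mk_eq_zero, mem_torsT]
    exact ⟨n + 1, by rw [pow_succ, mul_smul]; exact hn⟩

theorem ker_coker_mulT [IsLocalRing A] (hdim : ringKrullDim A = 1) (ht : t ∈ nonZeroDivisors A)
    (htm : t ∈ IsLocalRing.maximalIdeal A) (M : Type v) [AddCommGroup M] [Module A M]
    [Module.Finite A M] :
    Module.length A (LinearMap.ker (mulT t M)) < ⊤ ∧
      Module.length A (QuotSMulTop t M) < ⊤ ∧
      Module.length A (LinearMap.ker (mulT t M)) ≤ Module.length A (QuotSMulTop t M) ∧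
      (Module.length A (LinearMap.ker (mulT t M)) = Module.length A (QuotSMulTop t M) ↔
        Module.length A M < ⊤) := by
  have hd := krullDimLE_one hdim
  have : IsNoetherian A M := isNoetherian_of_isNoetherianRing_of_finite A M
  have hk := length_ker_ne_top ht M
  have hc := length_coker_ne_top ht M
  have hT := length_torsT_ne_top ht M
  -- additivity along `0 → T → M → M/T → 0`
  have hadd := lengthDefect_additive hdim ht (torsT t M).subtype (torsT t M).mkQ
    (Submodule.injective_subtype _) (Submodule.mkQ_surjective _)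
    (LinearMap.exact_subtype_mkQ (torsT t M))
  have hTd : Module.length A (LinearMap.ker (mulT t (torsT t M))) =
      Module.length A (QuotSMulTop t (torsT t M)) :=
    length_ker_eq_length_coker_of_finiteLength _ hT
  have hQk : Module.length A (LinearMap.ker (mulT t (M ⧸ torsT t M))) = 0 := by
    rw [ker_mulT_quot_torsT]
    exact Module.length_eq_zero
  rw [hTd, hQk] at hadd
  simp only [ENat.toNat_zero, Nat.cast_zero, sub_self, zero_add, sub_zero] at hadd
  obtain ⟨k, hk'⟩ := ENat.ne_top_iff_exists.1 hk
  obtain ⟨c, hc'⟩ := ENat.ne_top_iff_exists.1 hc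
  have hcQ := length_coker_ne_top ht (M ⧸ torsT t M)
  obtain ⟨cQ, hcQ'⟩ := ENat.ne_top_iff_exists.1 hcQ
  rw [← hk', ← hc', ← hcQ'] at hadd
  simp only [ENat.toNat_coe] at hadd
  refine ⟨lt_top_iff_ne_top.2 hk, lt_top_iff_ne_top.2 hc, ?_, ?_⟩
  · rw [← hk', ← hc']
    exact_mod_cast (by omega : k ≤ c)
  · constructor
    · intro heq
      rw [← hk', ← hc'] at heq
      have hkc : k = c := by exact_mod_cast heq
      have hcQ0 : cQ = 0 := by omega
      have hsub : Subsingleton (QuotSMulTop t (M ⧸ torsT t M)) := by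
        rw [← Module.length_eq_zero_iff (R := A), ← hcQ', hcQ0]
        rfl
      have htop : t • (⊤ : Submodule A (M ⧸ torsT t M)) = ⊤ :=
        Submodule.Quotient.subsingleton_iff.1 hsub
      have hbot : (⊤ : Submodule A (M ⧸ torsT t M)) = ⊥ := by
        apply Submodule.eq_bot_of_le_smul_of_le_jacobson_bot (Ideal.span {t}) ⊤
          Module.Finite.fg_top
        · rw [Submodule.ideal_span_singleton_smul, htop]
        · rw [IsLocalRing.jacobson_eq_maximalIdeal ⊥ bot_ne_top, Ideal.span_le,
            Set.singleton_subset_iff]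
          exact htm
      have hsubQ : Subsingleton (M ⧸ torsT t M) := by
        rw [← Submodule.subsingleton_iff A]
        exact subsingleton_of_bot_eq_top hbot.symm
      have hTtop : torsT t M = ⊤ := Submodule.Quotient.subsingleton_iff.1 hsubQ
      rw [← Module.length_top (R := A) (M := M), ← hTtop]
      exact lt_top_iff_ne_top.2 hT
    · intro hM
      exact length_ker_eq_length_coker_of_finiteLength M (ne_of_lt hM)

end KerCoker


section FreeRank

open Groth.Agent.LatticeDist

variable {A : Type u} [CommRing A]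

lemma exists_smul_eq_zero_of_fg {M : Type v} [AddCommGroup M] [Module A M] (S : Submonoid A)
    (N : Submodule A M) (hN : N.FG) (h : ∀ x ∈ N, ∃ s ∈ S, s • x = 0) :
    ∃ s ∈ S, ∀ x ∈ N, s • x = 0 := by
  induction N, hN using Submodule.fg_induction with
  | singleton x =>
    obtain ⟨s, hs, hsx⟩ := h x (Submodule.mem_span_singleton_self x)
    refine ⟨s, hs, fun y hy => ?_⟩
    obtain ⟨r, rfl⟩ := Submodule.mem_span_singleton.1 hy
    rw [smul_comm, hsx, smul_zero]
  | sup N₁ N₂ _ _ h₁ h₂ =>
    obtain ⟨s₁, hs₁, h₁⟩ := h₁ (fun x hx => h x (Submodule.mem_sup_left hx))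
    obtain ⟨s₂, hs₂, h₂⟩ := h₂ (fun x hx => h x (Submodule.mem_sup_right hx))
    refine ⟨s₁ * s₂, S.mul_mem hs₁ hs₂, fun y hy => ?_⟩
    obtain ⟨u, hu, v, hv, rfl⟩ := Submodule.mem_sup.1 hy
    have e1 : (s₁ * s₂) • u = s₂ • (s₁ • u) := by rw [mul_comm, mul_smul]
    have e2 : (s₁ * s₂) • v = s₁ • (s₂ • v) := by rw [mul_smul]
    rw [smul_add, e1, e2, h₁ u hu, h₂ v hv, smul_zero, smul_zero, add_zero]

lemma ker_mulT_pi {t : A} (ht : t ∈ nonZeroDivisors A) (n : ℕ) :
    LinearMap.ker (mulT t (Fin n → A)) = ⊥ := by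
  rw [eq_bot_iff]
  intro x hx
  have hx' : t • x = 0 := hx
  rw [Submodule.mem_bot]
  funext j
  have hj : t * x j = 0 := congrFun hx' j
  exact (mul_left_mem_nonZeroDivisors_eq_zero_iff ht).1 hj

lemma length_quotSMulTop_pi (t : A) (n : ℕ) :
    Module.length A (QuotSMulTop t (Fin n → A)) = n * Module.length A (A ⧸ Ideal.span {t}) := by
  have h : t • (⊤ : Submodule A (Fin n → A)) =
      Submodule.pi Set.univ (fun _ : Fin n => Ideal.span {t}) := by
    ext x
    rw [Submodule.mem_smul_pointwise_iff_exists, Submodule.mem_pi]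
    constructor
    · rintro ⟨y, -, rfl⟩ j -
      exact Ideal.mem_span_singleton'.2 ⟨y j, by simp [mul_comm]⟩
    · intro hx
      choose y hy using fun j => Ideal.mem_span_singleton'.1 (hx j trivial)
      exact ⟨y, trivial, by funext j; simp [← hy j, mul_comm]⟩
  have e : QuotSMulTop t (Fin n → A) ≃ₗ[A] (Fin n → A ⧸ Ideal.span {t}) :=
    (Submodule.quotEquivOfEq _ _ h).trans (Submodule.quotientPi _)
  rw [e.length_eq, Module.length_pi_of_fintype]
  simp

theorem length_quotSMulTop_of_free_localization [IsNoetherianRing A] (hdim : ringKrullDim A = 1)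
    {t : A} (ht : t ∈ nonZeroDivisors A) (M : Type u) [AddCommGroup M] [Module A M]
    [Module.Finite A M] (n : ℕ) {K : Type*} [CommRing K] [Algebra A K]
    [IsLocalization (nonZeroDivisors A) K] {MK : Type*} [AddCommGroup MK] [Module A MK]
    [Module K MK] [IsScalarTower A K MK] (f : M →ₗ[A] MK)
    [IsLocalizedModule (nonZeroDivisors A) f] (e : MK ≃ₗ[K] (Fin n → K)) :
    Module.length A (QuotSMulTop t M) =
      Module.length A (LinearMap.ker (mulT t M)) + n * Module.length A (A ⧸ Ideal.span {t}) := by
  classical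
  have hd := krullDimLE_one hdim
  let eA : MK ≃ₗ[A] (Fin n → K) := e.restrictScalars A
  -- common denominator
  obtain ⟨s, hs⟩ := IsLocalizedModule.exist_integer_multiples_of_finite (nonZeroDivisors A) f
    (fun j : Fin n => e.symm (Pi.single j (1 : K)))
  choose m hm using hs
  let φ : (Fin n → A) →ₗ[A] M := Fintype.linearCombination A m
  have hφ : ∀ c : Fin n → A, eA (f (φ c)) = fun j => algebraMap A K (c j * s) := by
    intro c
    have h1 : ∀ j, eA (f (c j • m j)) = Pi.single j (algebraMap A K (c j * s)) := by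
      intro j
      rw [map_smul, hm j, map_smul, map_smul]
      change c j • (s : A) • e (e.symm (Pi.single j (1 : K))) = _
      rw [e.apply_symm_apply, ← mul_smul]
      funext k
      by_cases hjk : k = j
      · subst hjk
        simp [Algebra.smul_def]
      · simp [Pi.single_eq_of_ne hjk]
    change eA (f (∑ j, c j • m j)) = _
    rw [map_sum, map_sum]
    funext k
    rw [Finset.sum_apply]
    simp only [h1]
    simp [Pi.single_apply]
  have hφinj : Injective φ := by
    rw [injective_iff_map_eq_zero]
    intro c hc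
    have h0 := hφ c
    rw [hc, map_zero, map_zero] at h0
    funext k
    have hk : algebraMap A K (c k * s) = 0 := (congrFun h0 k).symm
    have hk' : c k * s = 0 :=
      (IsLocalization.to_map_eq_zero_iff K (le_refl (nonZeroDivisors A))).1 hk
    exact (mul_right_mem_nonZeroDivisors_eq_zero_iff s.2).1 hk'
  have htors : ∀ x : M, ∃ u ∈ nonZeroDivisors A, u • x ∈ LinearMap.range φ := by
    intro x
    obtain ⟨b, hb⟩ := IsLocalization.exist_integer_multiples_of_finite (nonZeroDivisors A)
      (fun j : Fin n => eA (f x) j)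
    choose a ha using hb
    have h2 : eA (f (φ a)) = eA (f (((s : A) * (b : A)) • x)) := by
      rw [hφ a, map_smul, map_smul]
      funext k
      rw [map_mul, ha k]
      simp [Algebra.smul_def, mul_comm, mul_assoc]
    have h3 : f (φ a) = f (((s : A) * (b : A)) • x) := eA.injective h2
    obtain ⟨c', hc'⟩ := IsLocalizedModule.exists_of_eq (S := nonZeroDivisors A) h3
    refine ⟨(c' : A) * ((s : A) * (b : A)), mul_mem c'.2 (mul_mem s.2 b.2), ?_⟩
    rw [mul_smul]
    change (c' : A) • (((s : A) * (b : A)) • x) ∈ _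
    have : (c' : A) • (((s : A) * (b : A)) • x) = φ ((c' : A) • a) := by
      rw [map_smul]
      exact hc'.symm
    rw [this]
    exact ⟨_, rfl⟩
  -- the cokernel has finite length
  have hCfin : Module.length A (M ⧸ LinearMap.range φ) ≠ ⊤ := by
    obtain ⟨s₀, hs₀, hkill⟩ := exists_smul_eq_zero_of_fg (nonZeroDivisors A)
      (⊤ : Submodule A (M ⧸ LinearMap.range φ)) Module.Finite.fg_top (by
        intro q _
        induction q using Submodule.Quotient.induction_on with
        | _ x =>
          obtain ⟨u, hu, hux⟩ := htors x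
          refine ⟨u, hu, ?_⟩
          rw [← Submodule.Quotient.mk_smul, Submodule.Quotient.mk_eq_zero]
          exact hux)
    exact ne_of_lt (length_lt_top_of_finite hs₀ (fun q => hkill q trivial))
  have h6 := six_term (t := t) hφinj (Submodule.mkQ_surjective (LinearMap.range φ))
    (LinearMap.exact_map_mkQ_range φ)
  rw [ker_mulT_pi ht n, length_quotSMulTop_pi t n,
    length_ker_eq_length_coker_of_finiteLength (M ⧸ LinearMap.range φ) hCfin] at h6
  have hCc : Module.length A (QuotSMulTop t (M ⧸ LinearMap.range φ)) ≠ ⊤ :=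
    length_coker_ne_top ht _
  have hbot : Module.length A (⊥ : Submodule A (Fin n → A)) = 0 := Module.length_eq_zero
  rw [hbot, zero_add, add_comm] at h6
  exact (ENat.add_left_injective_of_ne_top hCc) h6

end FreeRank

end Groth.Agent.HerbrandDim1
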