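import Mathlib

/-!
# Length of the localization of a module of finite length at a maximal ideal
-/

set_option autoImplicit false

universe u v

namespace Groth.Agent.LocLength

open Function

section Simple

variable {R : Type u} [CommRing R]

/-- If all elements of `S` act bijectively on `Q`, then `Q → S⁻¹Q` is bijective. -/
lemma mkLinearMap_bijective (S : Submonoid R) (Q : Type v) [AddCommGroup Q] [Module R Q]
    (h : ∀ s ∈ S, Bijective (fun q : Q => s • q)) :
    Bijective (LocalizedModule.mkLinearMap S Q) := by
  constructor
  · rw [← LinearMap.ker_eq_bot, eq_bot_iff]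
    intro q hq
    obtain ⟨r, hr, hrq⟩ := LocalizedModule.mem_ker_mkLinearMap_iff.1 hq
    rw [Submodule.mem_bot]
    apply (h r hr).1
    change r • q = r • 0
    rw [hrq, smul_zero]
  · intro y
    induction y using LocalizedModule.induction_on with
    | h q s =>
      obtain ⟨q', hq'⟩ := (h s s.2).2 q
      refine ⟨q', ?_⟩
      rw [LocalizedModule.mkLinearMap_apply, LocalizedModule.mk_eq]
      refine ⟨1, ?_⟩
      have hq'' : (s : R) • q' = q := hq'
      rw [one_smul, one_smul, one_smul, Submonoid.smul_def, hq'']

lemma isSimpleModule_localizedModule (m : Ideal R) [m.IsMaximal] (Q : Type v) [AddCommGroup Q]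
    [Module R Q] [IsSimpleModule R Q] (hann : Module.annihilator R Q = m) :
    IsSimpleModule (Localization.AtPrime m) (LocalizedModule m.primeCompl Q) := by
  have hbij : Bijective (LocalizedModule.mkLinearMap m.primeCompl Q) := by
    apply mkLinearMap_bijective
    intro s hs
    have h1 := LinearMap.bijective_or_eq_zero (s • (LinearMap.id : Q →ₗ[R] Q))
    rcases h1 with h1 | h1
    · exact h1
    · exfalso
      have hsm : s ∈ m := by
        rw [← hann, Module.mem_annihilator]
        intro q
        have := LinearMap.congr_fun h1 q
        simpa using this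
      exact hs hsm
  have hnt : Nontrivial Q := IsSimpleModule.nontrivial R Q
  have hnt' : Nontrivial (LocalizedModule m.primeCompl Q) := hbij.1.nontrivial
  have : Nontrivial (Submodule (Localization.AtPrime m) (LocalizedModule m.primeCompl Q)) :=
    (Submodule.nontrivial_iff _).2 hnt'
  refine (isSimpleModule_iff _ _).2 ⟨fun N => ?_⟩
  rcases eq_bot_or_eq_top ((N.restrictScalars R).comap (LocalizedModule.mkLinearMap m.primeCompl Q))
    with h | h
  · left
    rw [eq_bot_iff]
    intro y hy
    obtain ⟨q, rfl⟩ := hbij.2 y
    have hq : q ∈ (N.restrictScalars R).comap (LocalizedModule.mkLinearMap m.primeCompl Q) := hy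
    rw [h, Submodule.mem_bot] at hq
    rw [hq, map_zero]
    exact Submodule.zero_mem _
  · right
    rw [eq_top_iff]
    intro y _
    obtain ⟨q, rfl⟩ := hbij.2 y
    have hq : q ∈ (N.restrictScalars R).comap (LocalizedModule.mkLinearMap m.primeCompl Q) := by
      rw [h]
      trivial
    exact hq

open Classical in
lemma length_localizedModule_of_isSimpleModule (m : Ideal R) [m.IsMaximal] (Q : Type v)
    [AddCommGroup Q] [Module R Q] [IsSimpleModule R Q] :
    Module.length (Localization.AtPrime m) (LocalizedModule m.primeCompl Q) =
      if Module.annihilator R Q = m then 1 else 0 := by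
  split_ifs with hann
  · have := isSimpleModule_localizedModule m Q hann
    exact Module.length_eq_one _ _
  · have hmax : (Module.annihilator R Q).IsMaximal := IsSimpleModule.annihilator_isMaximal
    have hnle : ¬ Module.annihilator R Q ≤ m := by
      intro hle
      exact hann (hmax.eq_of_le (Ideal.IsMaximal.ne_top inferInstance) hle)
    obtain ⟨a, ha, ham⟩ := SetLike.not_le_iff_exists.1 hnle
    have : Subsingleton (LocalizedModule m.primeCompl Q) :=
      LocalizedModule.subsingleton_iff.2 (fun q => ⟨a, ham, Module.mem_annihilator.1 ha q⟩)
    exact Module.length_eq_zero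

end Simple

section CovBy

variable {R : Type u} [CommRing R] {M : Type v} [AddCommGroup M] [Module R M]

lemma annihilator_quot_eq_colon (p q : Submodule R M) :
    Module.annihilator R (q ⧸ Submodule.comap q.subtype p) = p.colon (q : Set M) := by
  ext r
  rw [Module.mem_annihilator, Submodule.mem_colon]
  constructor
  · intro h x hx
    have h1 := h (Submodule.Quotient.mk ⟨x, hx⟩)
    rw [← Submodule.Quotient.mk_smul, Submodule.Quotient.mk_eq_zero] at h1
    exact h1
  · intro h y
    induction y using Submodule.Quotient.induction_on with
    | _ x =>
      rw [← Submodule.Quotient.mk_smul, Submodule.Quotient.mk_eq_zero]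
      exact h x x.2

lemma map_exact (S : Submonoid R) {M₀ M₁ M₂ : Type v} [AddCommGroup M₀] [Module R M₀]
    [AddCommGroup M₁] [Module R M₁] [AddCommGroup M₂] [Module R M₂] (g : M₀ →ₗ[R] M₁)
    (h : M₁ →ₗ[R] M₂) (ex : Exact g h) :
    Exact (LocalizedModule.map S g) (LocalizedModule.map S h) :=
  LocalizedModule.map_exact S g h ex

open Classical in
lemma covBy_length_localized (m : Ideal R) [m.IsMaximal] {p q : Submodule R M} (h : p ⋖ q) :
    Module.length (Localization.AtPrime m) (LocalizedModule m.primeCompl q) =
      Module.length (Localization.AtPrime m) (LocalizedModule m.primeCompl p) +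
        (if p.colon (q : Set M) = m then 1 else 0) := by
  have key : IsSimpleModule R (q ⧸ Submodule.comap q.subtype p) :=
    (covBy_iff_quot_is_simple h.le).1 h
  have hex : Exact (Submodule.inclusion h.le) (Submodule.mkQ (Submodule.comap q.subtype p)) := by
    rw [LinearMap.exact_iff, Submodule.ker_mkQ, Submodule.range_inclusion]
  rw [Module.length_eq_add_of_exact (LocalizedModule.map m.primeCompl (Submodule.inclusion h.le))
    (LocalizedModule.map m.primeCompl (Submodule.mkQ (Submodule.comap q.subtype p)))
    (LocalizedModule.map_injective _ _ (Submodule.inclusion_injective _))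
    (LocalizedModule.map_surjective _ _ (Submodule.mkQ_surjective _))
    (map_exact _ _ _ hex),
    length_localizedModule_of_isSimpleModule m (q ⧸ Submodule.comap q.subtype p),
    annihilator_quot_eq_colon]

end CovBy


section Count

lemma card_filter_succ {n : ℕ} (P : Fin n → Prop) [DecidablePred P] (i : Fin n) :
    (Finset.univ.filter fun j : Fin n => j.castSucc < i.succ ∧ P j).card =
      (Finset.univ.filter fun j : Fin n => j.castSucc < i.castSucc ∧ P j).card +
        if P i then 1 else 0 := by
  by_cases hP : P i
  · rw [if_pos hP]
    have h1 : (Finset.univ.filter fun j : Fin n => j.castSucc < i.succ ∧ P j) =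
        insert i (Finset.univ.filter fun j : Fin n => j.castSucc < i.castSucc ∧ P j) := by
      ext j
      simp only [Finset.mem_filter, Finset.mem_insert, Finset.mem_univ, true_and, Fin.lt_def,
        Fin.val_castSucc, Fin.val_succ, Fin.ext_iff]
      constructor
      · rintro ⟨h1, h2⟩
        by_cases hji : (j : ℕ) = i
        · exact Or.inl hji
        · exact Or.inr ⟨by omega, h2⟩
      · rintro (h | ⟨h1, h2⟩)
        · have : j = i := Fin.ext h
          subst this
          exact ⟨by omega, hP⟩
        · exact ⟨by omega, h2⟩
    rw [h1, Finset.card_insert_of_notMem]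
    simp
  · rw [if_neg hP, add_zero]
    congr 1
    ext j
    simp only [Finset.mem_filter, Finset.mem_univ, true_and, Fin.lt_def,
      Fin.val_castSucc, Fin.val_succ]
    constructor
    · rintro ⟨h1, h2⟩
      refine ⟨?_, h2⟩
      by_contra hcon
      have : j = i := Fin.ext (by omega)
      subst this
      exact hP h2
    · rintro ⟨h1, h2⟩
      exact ⟨by omega, h2⟩

end Count

section Series

variable {R : Type u} [CommRing R] {M : Type v} [AddCommGroup M] [Module R M]

open Classical in
theorem card_factors_eq_length (s : CompositionSeries (Submodule R M)) (h0 : s.head = ⊥)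
    (h1 : s.last = ⊤) (m : Ideal R) [m.IsMaximal] :
    ((Finset.univ.filter fun i : Fin s.length =>
        (s i.castSucc).colon (s i.succ : Set M) = m).card : ℕ∞) =
      Module.length (Localization.AtPrime m) (LocalizedModule m.primeCompl M) := by
  have key : ∀ k : Fin (s.length + 1),
      Module.length (Localization.AtPrime m) (LocalizedModule m.primeCompl (s k)) =
        ((Finset.univ.filter fun i : Fin s.length =>
          i.castSucc < k ∧ (s i.castSucc).colon (s i.succ : Set M) = m).card : ℕ∞) := by
    intro k
    induction k using Fin.induction with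
    | zero =>
      have hb : s 0 = ⊥ := h0
      have hsub : Subsingleton (s 0) := by
        rw [hb]
        infer_instance
      have : Subsingleton (LocalizedModule m.primeCompl (s 0)) := inferInstance
      rw [Module.length_eq_zero]
      simp
    | succ i hi =>
      rw [covBy_length_localized m (s.step i), hi, card_filter_succ]
      split_ifs <;> simp
  have hlast := key (Fin.last s.length)
  have htop : s (Fin.last s.length) = ⊤ := h1
  have e : LocalizedModule m.primeCompl (s (Fin.last s.length)) ≃ₗ[Localization.AtPrime m]
      LocalizedModule m.primeCompl M :=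
    LinearEquiv.ofBijective (LocalizedModule.map m.primeCompl (s (Fin.last s.length)).subtype)
      ⟨LocalizedModule.map_injective _ _ (Submodule.injective_subtype _),
        LocalizedModule.map_surjective _ _ (by
          rw [← LinearMap.range_eq_top, Submodule.range_subtype, htop])⟩
  rw [← e.length_eq, hlast]
  congr 2
  ext i
  simp [Fin.castSucc_lt_last]

end Series


section Semilocal

variable {A B : Type u} [CommRing A] [CommRing B] [Algebra A B]

lemma length_quotient_eq_finrank (I : Ideal B) [hI : (I.comap (algebraMap A B)).IsMaximal]
    [Module.Finite (A ⧸ I.comap (algebraMap A B)) (B ⧸ I)] :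
    Module.length A (B ⧸ I) = (Module.finrank (A ⧸ I.comap (algebraMap A B)) (B ⧸ I) : ℕ∞) := by
  rw [Module.length_eq_of_surjective (S := A) (R := A ⧸ I.comap (algebraMap A B)) (M := B ⧸ I)
    Ideal.Quotient.mk_surjective]
  let _ : Field (A ⧸ I.comap (algebraMap A B)) := Ideal.Quotient.field _
  exact Module.length_eq_finrank _ _

variable {M : Type v} [AddCommGroup M] [Module B M] [Module A M] [IsScalarTower A B M]

lemma covBy_length_restrictScalars {p q : Submodule B M} (h : p ⋖ q)
    [hI : ((p.colon (q : Set M)).comap (algebraMap A B)).IsMaximal]
    [Module.Finite (A ⧸ (p.colon (q : Set M)).comap (algebraMap A B)) (B ⧸ p.colon (q : Set M))] :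
    Module.length A q = Module.length A p +
      (Module.finrank (A ⧸ (p.colon (q : Set M)).comap (algebraMap A B))
        (B ⧸ p.colon (q : Set M)) : ℕ∞) := by
  have key : IsSimpleModule B (q ⧸ Submodule.comap q.subtype p) :=
    (covBy_iff_quot_is_simple h.le).1 h
  obtain ⟨I, hImax, ⟨e⟩⟩ := isSimpleModule_iff_quot_maximal.mp key
  have hIeq : p.colon (q : Set M) = I := by
    rw [← annihilator_quot_eq_colon, e.annihilator_eq, Ideal.annihilator_quotient]
  have hex : Exact (Submodule.inclusion h.le) (Submodule.mkQ (Submodule.comap q.subtype p)) := by
    rw [LinearMap.exact_iff, Submodule.ker_mkQ, Submodule.range_inclusion]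
  have h1 : Module.length A q = Module.length A p +
      Module.length A (q ⧸ Submodule.comap q.subtype p) :=
    Module.length_eq_add_of_exact ((Submodule.inclusion h.le).restrictScalars A)
      ((Submodule.mkQ (Submodule.comap q.subtype p)).restrictScalars A)
      (by rw [LinearMap.coe_restrictScalars]; exact Submodule.inclusion_injective _)
      (by rw [LinearMap.coe_restrictScalars]; exact Submodule.mkQ_surjective _)
      (by rw [LinearMap.coe_restrictScalars, LinearMap.coe_restrictScalars]; exact hex)
  have h2 : Module.length A (q ⧸ Submodule.comap q.subtype p) = Module.length A (B ⧸ I) :=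
    (e.restrictScalars A).length_eq
  have h3 := length_quotient_eq_finrank (A := A) (p.colon (q : Set M))
  rw [h1, h2, ← h3, hIeq]

omit [Algebra A B] [Module A M] [IsScalarTower A B M] in
lemma length_localized_of_eq_top (m : Ideal B) [m.IsMaximal] (N : Submodule B M) (hN : N = ⊤) :
    Module.length (Localization.AtPrime m) (LocalizedModule m.primeCompl N) =
      Module.length (Localization.AtPrime m) (LocalizedModule m.primeCompl M) := by
  have e : LocalizedModule m.primeCompl N ≃ₗ[Localization.AtPrime m]
      LocalizedModule m.primeCompl M :=
    LinearEquiv.ofBijective (LocalizedModule.map m.primeCompl N.subtype)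
      ⟨LocalizedModule.map_injective _ _ (Submodule.injective_subtype _),
        LocalizedModule.map_surjective _ _ (by
          rw [← LinearMap.range_eq_top, Submodule.range_subtype, hN])⟩
  exact e.length_eq

open Classical in
theorem length_eq_finsum [IsLocalRing A] [Finite (MaximalSpectrum B)]
    (hover : ∀ n : MaximalSpectrum B,
      n.asIdeal.comap (algebraMap A B) = IsLocalRing.maximalIdeal A)
    (hfin : ∀ n : MaximalSpectrum B,
      Module.Finite (A ⧸ n.asIdeal.comap (algebraMap A B)) (B ⧸ n.asIdeal))
    (hM : IsFiniteLength B M) :
    Module.length A M = ∑ᶠ n : MaximalSpectrum B,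
      (Module.finrank (A ⧸ n.asIdeal.comap (algebraMap A B)) (B ⧸ n.asIdeal) : ℕ∞) *
        Module.length (Localization.AtPrime n.asIdeal)
          (LocalizedModule n.asIdeal.primeCompl M) := by
  obtain ⟨s, hs_bot, hs_top⟩ := isFiniteLength_iff_exists_compositionSeries.mp hM
  cases nonempty_fintype (MaximalSpectrum B)
  rw [finsum_eq_sum_of_fintype]
  have key : ∀ k : Fin (s.length + 1), Module.length A (s k) =
      ∑ n : MaximalSpectrum B,
        (Module.finrank (A ⧸ n.asIdeal.comap (algebraMap A B)) (B ⧸ n.asIdeal) : ℕ∞) *
          Module.length (Localization.AtPrime n.asIdeal)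
            (LocalizedModule n.asIdeal.primeCompl (s k)) := by
    intro k
    induction k using Fin.induction with
    | zero =>
      have hb : s 0 = ⊥ := hs_bot
      have hsub : Subsingleton (s 0) := by
        rw [hb]
        infer_instance
      rw [Module.length_eq_zero]
      symm
      apply Finset.sum_eq_zero
      intro n _
      have : Subsingleton (LocalizedModule n.asIdeal.primeCompl (s 0)) := inferInstance
      rw [Module.length_eq_zero, mul_zero]
    | succ i hi =>
      have hcov := s.step i
      have key' : IsSimpleModule B
          ((s i.succ) ⧸ Submodule.comap (s i.succ).subtype (s i.castSucc)) :=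
        (covBy_iff_quot_is_simple hcov.le).1 hcov
      have hmax : ((s i.castSucc).colon (s i.succ : Set M)).IsMaximal := by
        rw [← annihilator_quot_eq_colon]
        exact IsSimpleModule.annihilator_isMaximal
      have hcm : (((s i.castSucc).colon (s i.succ : Set M)).comap (algebraMap A B)).IsMaximal := by
        rw [hover ⟨_, hmax⟩]
        exact IsLocalRing.maximalIdeal.isMaximal A
      have hf := hfin ⟨_, hmax⟩
      have h1 := covBy_length_restrictScalars (A := A) hcov
      rw [h1, hi]
      have h2 : ∀ n : MaximalSpectrum B,
          Module.length (Localization.AtPrime n.asIdeal)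
            (LocalizedModule n.asIdeal.primeCompl (s i.succ)) =
          Module.length (Localization.AtPrime n.asIdeal)
            (LocalizedModule n.asIdeal.primeCompl (s i.castSucc)) +
            (if (s i.castSucc).colon (s i.succ : Set M) = n.asIdeal then 1 else 0) :=
        fun n => covBy_length_localized n.asIdeal hcov
      simp only [h2, mul_add, Finset.sum_add_distrib]
      congr 1
      rw [Finset.sum_eq_single (⟨_, hmax⟩ : MaximalSpectrum B)]
      · simp
      · intro n _ hne
        rw [if_neg, mul_zero]
        intro heq
        exact hne (MaximalSpectrum.ext heq.symm)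
      · intro h
        exact absurd (Finset.mem_univ _) h
  have hlast := key (Fin.last s.length)
  have htop : s (Fin.last s.length) = ⊤ := hs_top
  have eA : Module.length A (s (Fin.last s.length)) = Module.length A M := by
    rw [htop]
    exact ((Submodule.topEquiv (R := B) (M := M)).restrictScalars A).length_eq
  rw [← eA, hlast]
  apply Finset.sum_congr rfl
  intro n _
  congr 1
  exact length_localized_of_eq_top n.asIdeal _ htop

end Semilocal

end Groth.Agent.LocLength
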