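import Mathlib
import Groth.Agent.Lib.HerbrandDim1_helper9
import Groth.Agent.Lib.LocLength_helper9

/-!
# The multiplicity formula `e(a, M) = ∑_p ℓ(M_p) ℓ(A/(p + a))` over a one-dimensional ring
-/

set_option autoImplicit false

universe u v

namespace Groth.Agent.MultDim1

open Function Groth.Agent.HerbrandDim1
open scoped Pointwise

section Finite

variable {A : Type u} [CommRing A]

/-- A finitely generated submodule killed by `a` has finite length if `A/(a)` has. -/
lemma length_lt_top_of_fg' {X : Type v} [AddCommGroup X] [Module A X] {a : A}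
    (h0 : Module.length A (A ⧸ Ideal.span {a}) < ⊤) (hX : ∀ x : X, a • x = 0)
    (N : Submodule A X) (hN : N.FG) : Module.length A N < ⊤ := by
  induction N, hN using Submodule.fg_induction with
  | singleton x =>
    let x' : ↥(Submodule.span A {x}) := ⟨x, Submodule.mem_span_singleton_self x⟩
    let g : (A ⧸ Ideal.span {a}) →ₗ[A] ↥(Submodule.span A {x}) :=
      Submodule.liftQ (Ideal.span {a}) (LinearMap.toSpanSingleton A _ x') (by
        rw [Ideal.span_le, Set.singleton_subset_iff]
        change LinearMap.toSpanSingleton A _ x' a = 0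
        rw [LinearMap.toSpanSingleton_apply]
        apply Subtype.ext
        exact hX x)
    have hg : Function.Surjective g := by
      rintro ⟨y, hy⟩
      obtain ⟨r, rfl⟩ := Submodule.mem_span_singleton.1 hy
      refine ⟨Submodule.Quotient.mk r, ?_⟩
      change LinearMap.toSpanSingleton A _ x' r = _
      rw [LinearMap.toSpanSingleton_apply]
      rfl
    exact lt_of_le_of_lt (Module.length_le_of_surjective g hg) h0
  | sup N₁ N₂ hN₁ hN₂ h₁ h₂ =>
    let g : (↥N₁ × ↥N₂) →ₗ[A] ↥(N₁ ⊔ N₂) :=
      (Submodule.inclusion le_sup_left).coprod (Submodule.inclusion le_sup_right)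
    have hg : Function.Surjective g := by
      rintro ⟨w, hw⟩
      obtain ⟨u, hu, v, hv, rfl⟩ := Submodule.mem_sup.1 hw
      exact ⟨(⟨u, hu⟩, ⟨v, hv⟩), Subtype.ext rfl⟩
    refine lt_of_le_of_lt (Module.length_le_of_surjective g hg) ?_
    rw [Module.length_prod]
    exact ENat.add_lt_top.2 ⟨h₁, h₂⟩

lemma length_lt_top_of_finite' {X : Type v} [AddCommGroup X] [Module A X] [Module.Finite A X]
    {a : A} (h0 : Module.length A (A ⧸ Ideal.span {a}) < ⊤) (hX : ∀ x : X, a • x = 0) :
    Module.length A X < ⊤ := by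
  have := length_lt_top_of_fg' h0 hX ⊤ (Module.Finite.fg_top)
  rwa [Module.length_top] at this

variable [IsNoetherianRing A]

omit [IsNoetherianRing A] in
lemma krullDimLE_zero_quot [Ring.KrullDimLE 1 A] {a : A}
    (ha : ∀ p ∈ minimalPrimes A, a ∉ p) : Ring.KrullDimLE 0 (A ⧸ Ideal.span {a}) := by
  refine Ring.KrullDimLE.mk₀ fun Q hQ => ?_
  have hsurj : Surjective (Ideal.Quotient.mk (Ideal.span {a})) := Ideal.Quotient.mk_surjective
  have hq : (Q.comap (Ideal.Quotient.mk (Ideal.span {a}))).IsPrime := Ideal.comap_isPrime _ _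
  have haq : a ∈ Q.comap (Ideal.Quotient.mk (Ideal.span {a})) := by
    rw [Ideal.mem_comap, Ideal.Quotient.eq_zero_iff_mem.2 (Ideal.mem_span_singleton_self a)]
    exact Q.zero_mem
  have hmax : (Q.comap (Ideal.Quotient.mk (Ideal.span {a}))).IsMaximal := by
    rcases (Ring.krullDimLE_one_iff.1 inferInstance) _ hq with h | h
    · exact absurd haq (ha _ h)
    · exact h
  have hmap : (Q.comap (Ideal.Quotient.mk (Ideal.span {a}))).map
      (Ideal.Quotient.mk (Ideal.span {a})) = Q := Ideal.map_comap_of_surjective _ hsurj Q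
  rcases Ideal.map_eq_top_or_isMaximal_of_surjective _ hsurj hmax with h | h
  · rw [hmap] at h
    exact absurd h hQ.ne_top
  · rwa [hmap] at h

lemma length_quot_lt_top [Ring.KrullDimLE 1 A] {a : A}
    (ha : ∀ p ∈ minimalPrimes A, a ∉ p) : Module.length A (A ⧸ Ideal.span {a}) < ⊤ := by
  have := krullDimLE_zero_quot ha
  have hart : IsArtinianRing (A ⧸ Ideal.span {a}) := isArtinianRing_iff_krullDimLE_zero.2 this
  rw [lt_top_iff_ne_top, Module.length_ne_top_iff, isFiniteLength_iff_isNoetherian_isArtinian]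
  exact ⟨isNoetherian_quotient (Ideal.span {a}),
    isArtinian_of_surjective_algebraMap (Ideal.Quotient.mk_surjective (I := Ideal.span {a}))⟩

end Finite


section Lam

variable {A : Type u} [CommRing A]

/-- Length of the localization at `p`. -/
noncomputable abbrev lam (p : Ideal A) [p.IsPrime] (N : Type v) [AddCommGroup N] [Module A N] :
    ℕ∞ :=
  Module.length (Localization.AtPrime p) (LocalizedModule p.primeCompl N)

lemma lam_exact (p : Ideal A) [p.IsPrime] {N₁ N₂ N₃ : Type v} [AddCommGroup N₁] [Module A N₁]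
    [AddCommGroup N₂] [Module A N₂] [AddCommGroup N₃] [Module A N₃] (f : N₁ →ₗ[A] N₂)
    (g : N₂ →ₗ[A] N₃) (hf : Injective f) (hg : Surjective g) (hex : Exact f g) :
    lam p N₂ = lam p N₁ + lam p N₃ :=
  Module.length_eq_add_of_exact (LocalizedModule.map p.primeCompl f)
    (LocalizedModule.map p.primeCompl g) (LocalizedModule.map_injective _ _ hf)
    (LocalizedModule.map_surjective _ _ hg) (Groth.Agent.LocLength.map_exact _ _ _ hex)

lemma lam_eq_zero (p : Ideal A) [p.IsPrime] (N : Type v) [AddCommGroup N] [Module A N] {s : A}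
    (hs : s ∉ p) (hN : ∀ x : N, s • x = 0) : lam p N = 0 := by
  have : Subsingleton (LocalizedModule p.primeCompl N) :=
    LocalizedModule.subsingleton_iff.2 (fun x => ⟨s, hs, hN x⟩)
  exact Module.length_eq_zero

lemma lam_quot_self (p : Ideal A) [p.IsPrime] : lam p (A ⧸ p) = 1 := by
  let x₀ : LocalizedModule p.primeCompl (A ⧸ p) := LocalizedModule.mk (1 : A ⧸ p) 1
  let f : Localization.AtPrime p →ₗ[Localization.AtPrime p] LocalizedModule p.primeCompl (A ⧸ p) :=
    LinearMap.toSpanSingleton _ _ x₀
  have hfmk : ∀ (r : A) (s : p.primeCompl),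
      f (Localization.mk r s) = LocalizedModule.mk (Ideal.Quotient.mk p r) s := by
    intro r s
    change Localization.mk r s • (LocalizedModule.mk (1 : A ⧸ p) (1 : p.primeCompl) :
      LocalizedModule p.primeCompl (A ⧸ p)) = _
    rw [LocalizedModule.mk_smul_mk, mul_one]
    congr 1
    rw [← Ideal.Quotient.algebraMap_eq, Algebra.algebraMap_eq_smul_one]
  have hf : Surjective f := by
    intro y
    induction y using LocalizedModule.induction_on with
    | h q s =>
      obtain ⟨r, rfl⟩ := Ideal.Quotient.mk_surjective q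
      exact ⟨Localization.mk r s, hfmk r s⟩
  have hker : LinearMap.ker f = IsLocalRing.maximalIdeal (Localization.AtPrime p) := by
    apply le_antisymm
    · apply IsLocalRing.le_maximalIdeal
      intro htop
      have h1 : (1 : Localization.AtPrime p) ∈ LinearMap.ker f := by
        rw [htop]
        trivial
      have h2 : f 1 = 0 := h1
      have h3 : f 1 = x₀ := by
        change (1 : Localization.AtPrime p) • x₀ = x₀
        rw [one_smul]
      rw [h3] at h2
      have h4 : (LocalizedModule.mkLinearMap p.primeCompl (A ⧸ p)) 1 = 0 := h2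
      obtain ⟨r, hr, hr1⟩ := LocalizedModule.mem_ker_mkLinearMap_iff.1 h4
      have hrp : r ∈ p := by
        rw [← Ideal.Quotient.eq_zero_iff_mem, ← Ideal.Quotient.algebraMap_eq,
          Algebra.algebraMap_eq_smul_one]
        exact hr1
      exact hr hrp
    · intro z hz
      induction z using Localization.induction_on with
      | H y =>
        obtain ⟨r, s⟩ := y
        rw [Localization.mk_eq_mk'] at hz
        have hr : r ∈ p := (IsLocalization.AtPrime.mk'_mem_maximal_iff _ p r s).1 hz
        rw [LinearMap.mem_ker, hfmk, Ideal.Quotient.eq_zero_iff_mem.2 hr, LocalizedModule.zero_mk]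
  have e : LocalizedModule p.primeCompl (A ⧸ p) ≃ₗ[Localization.AtPrime p]
      (Localization.AtPrime p ⧸ IsLocalRing.maximalIdeal (Localization.AtPrime p)) :=
    (f.quotKerEquivOfSurjective hf).symm.trans (Submodule.quotEquivOfEq _ _ hker)
  have hsimple : IsSimpleModule (Localization.AtPrime p) (LocalizedModule p.primeCompl (A ⧸ p)) :=
    isSimpleModule_iff_quot_maximal.2 ⟨_, inferInstance, ⟨e⟩⟩
  exact Module.length_eq_one _ _

end Lam


section Main

variable {A : Type u} [CommRing A]

/-- The minimal primes, as a set of points of the spectrum. -/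
def Smin (A : Type u) [CommRing A] : Set (PrimeSpectrum A) :=
  {p | p.asIdeal ∈ minimalPrimes A}

lemma Smin_finite [IsNoetherianRing A] : (Smin A).Finite := by
  have h := minimalPrimes.finite_of_isNoetherianRing A
  have hinj : Set.InjOn (PrimeSpectrum.asIdeal : PrimeSpectrum A → Ideal A)
      (PrimeSpectrum.asIdeal ⁻¹' minimalPrimes A) :=
    Set.injOn_of_injective (fun p q h => PrimeSpectrum.ext h)
  exact Set.Finite.preimage hinj h

/-- The right-hand side of the multiplicity formula. -/
noncomputable def Rsum (a : A) (N : Type v) [AddCommGroup N] [Module A N] : ℕ∞ :=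
  ∑ᶠ p ∈ Smin A, lam p.asIdeal N * Module.length A (A ⧸ (p.asIdeal ⊔ Ideal.span {a}))

lemma Rsum_exact [IsNoetherianRing A] (a : A) {N₁ N₂ N₃ : Type v} [AddCommGroup N₁] [Module A N₁]
    [AddCommGroup N₂] [Module A N₂] [AddCommGroup N₃] [Module A N₃] (f : N₁ →ₗ[A] N₂)
    (g : N₂ →ₗ[A] N₃) (hf : Injective f) (hg : Surjective g) (hex : Exact f g) :
    Rsum a N₂ = Rsum a N₁ + Rsum a N₃ := by
  unfold Rsum
  rw [← finsum_mem_add_distrib Smin_finite]
  apply finsum_mem_congr rfl
  intro p _
  rw [lam_exact p.asIdeal f g hf hg hex, add_mul]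

lemma Rsum_eq_zero (a : A) (N : Type v) [AddCommGroup N] [Module A N]
    (h : ∀ p ∈ Smin A, lam p.asIdeal N = 0) : Rsum a N = 0 := by
  unfold Rsum
  apply finsum_mem_eq_zero_of_forall_eq_zero
  intro p hp
  rw [h p hp, zero_mul]

lemma Rsum_subsingleton (a : A) (N : Type v) [AddCommGroup N] [Module A N] [Subsingleton N] :
    Rsum a N = 0 := by
  apply Rsum_eq_zero
  intro p _
  exact Module.length_eq_zero

/-- For a minimal prime `p₀`, only the term at `p₀` survives. -/
lemma Rsum_quot_minimal (a : A) (p₀ : PrimeSpectrum A) (hp₀ : p₀ ∈ Smin A) :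
    Rsum a (A ⧸ p₀.asIdeal) = Module.length A (A ⧸ (p₀.asIdeal ⊔ Ideal.span {a})) := by
  unfold Rsum
  rw [finsum_mem_def, finsum_eq_single _ p₀]
  · rw [Set.indicator_of_mem hp₀, lam_quot_self, one_mul]
  · intro p hne
    by_cases hp : p ∈ Smin A
    · rw [Set.indicator_of_mem hp]
      have hnle : ¬ p₀.asIdeal ≤ p.asIdeal := by
        intro hle
        apply hne
        have hle' : p.asIdeal ≤ p₀.asIdeal := hp.2 ⟨p₀.isPrime, bot_le⟩ hle
        exact PrimeSpectrum.ext (le_antisymm hle' hle)
      obtain ⟨s, hs, hsp⟩ := SetLike.not_le_iff_exists.1 hnle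
      rw [lam_eq_zero p.asIdeal (A ⧸ p₀.asIdeal) hsp, zero_mul]
      intro x
      rw [Algebra.smul_def, Ideal.Quotient.algebraMap_eq, Ideal.Quotient.eq_zero_iff_mem.2 hs,
        zero_mul]
    · exact Set.indicator_of_notMem hp _

end Main


section Formula

variable {A : Type u} [CommRing A] [IsNoetherianRing A] [Ring.KrullDimLE 1 A] {a : A}

/-- The multiplicity formula for `N`. -/
def Formula (a : A) (N : Type v) [AddCommGroup N] [Module A N] : Prop :=
  Module.length A (QuotSMulTop a N) = Module.length A (LinearMap.ker (mulT a N)) + Rsum a N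

lemma length_ker_ne_top' (ha : ∀ p ∈ minimalPrimes A, a ∉ p) (N : Type v) [AddCommGroup N]
    [Module A N] [Module.Finite A N] : Module.length A (LinearMap.ker (mulT a N)) ≠ ⊤ := by
  have : IsNoetherian A N := isNoetherian_of_isNoetherianRing_of_finite A N
  apply ne_of_lt
  apply length_lt_top_of_finite' (length_quot_lt_top ha)
  intro x
  apply Subtype.ext
  exact x.2

lemma length_coker_ne_top' (ha : ∀ p ∈ minimalPrimes A, a ∉ p) (N : Type v) [AddCommGroup N]
    [Module A N] [Module.Finite A N] : Module.length A (QuotSMulTop a N) ≠ ⊤ := by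
  apply ne_of_lt
  apply length_lt_top_of_finite' (length_quot_lt_top ha)
  intro q
  induction q using Submodule.Quotient.induction_on with
  | _ x =>
    rw [← Submodule.Quotient.mk_smul, Submodule.Quotient.mk_eq_zero]
    exact Submodule.smul_mem_pointwise_smul _ _ _ trivial

lemma formula_exact (ha : ∀ p ∈ minimalPrimes A, a ∉ p) {N₁ N₂ N₃ : Type v} [AddCommGroup N₁]
    [Module A N₁] [AddCommGroup N₂] [Module A N₂] [AddCommGroup N₃] [Module A N₃]
    [Module.Finite A N₁] [Module.Finite A N₃] (f : N₁ →ₗ[A] N₂) (g : N₂ →ₗ[A] N₃)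
    (hf : Injective f) (hg : Surjective g) (hex : Exact f g)
    (h₁ : Formula a N₁) (h₃ : Formula a N₃) : Formula a N₂ := by
  unfold Formula at *
  have h6 := six_term (t := a) hf hg hex
  have hk₁ := length_ker_ne_top' ha N₁
  have hk₃ := length_ker_ne_top' ha N₃
  rw [h₁, h₃] at h6
  rw [Rsum_exact a f g hf hg hex]
  have hne : Module.length A (LinearMap.ker (mulT a N₁)) +
      Module.length A (LinearMap.ker (mulT a N₃)) ≠ ⊤ := by
    rw [Ne, ENat.add_eq_top, not_or]
    exact ⟨hk₁, hk₃⟩
  apply ENat.add_left_injective_of_ne_top hne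
  change Module.length A (QuotSMulTop a N₂) + _ = _ + _
  rw [add_comm, h6]
  ring

omit [IsNoetherianRing A] [Ring.KrullDimLE 1 A] in
lemma formula_subsingleton (N : Type v) [AddCommGroup N] [Module A N] [Subsingleton N] :
    Formula a N := by
  unfold Formula
  rw [Rsum_subsingleton, add_zero]
  have h1 : Subsingleton (QuotSMulTop a N) := inferInstance
  have h2 : Subsingleton (LinearMap.ker (mulT a N)) := inferInstance
  rw [Module.length_eq_zero, Module.length_eq_zero]

omit [IsNoetherianRing A] in
lemma formula_quot_not_minimal (q : Ideal A) [hqp : q.IsPrime] (hq : q ∉ minimalPrimes A) :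
    Formula a (A ⧸ q) := by
  have hmax : q.IsMaximal :=
    ((Ring.krullDimLE_one_iff.1 inferInstance) q hqp).resolve_left hq
  have hsimple : IsSimpleModule A (A ⧸ q) :=
    isSimpleModule_iff_quot_maximal.2 ⟨q, hmax, ⟨LinearEquiv.refl A _⟩⟩
  have hfin : Module.length A (A ⧸ q) ≠ ⊤ := by
    rw [Module.length_eq_one]
    exact ENat.one_ne_top
  unfold Formula
  rw [length_ker_eq_length_coker_of_finiteLength (A ⧸ q) hfin, Rsum_eq_zero, add_zero]
  intro p hp
  have hnle : ¬ q ≤ p.asIdeal := by
    intro hle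
    have hle' : p.asIdeal ≤ q := hp.2 ⟨hqp, bot_le⟩ hle
    have hqe : q = p.asIdeal := le_antisymm hle hle'
    exact hq (hqe ▸ hp)
  obtain ⟨s, hs, hsp⟩ := SetLike.not_le_iff_exists.1 hnle
  apply lam_eq_zero p.asIdeal (A ⧸ q) hsp
  intro x
  rw [Algebra.smul_def, Ideal.Quotient.algebraMap_eq, Ideal.Quotient.eq_zero_iff_mem.2 hs,
    zero_mul]

omit [IsNoetherianRing A] [Ring.KrullDimLE 1 A] in
lemma formula_quot_minimal (p₀ : PrimeSpectrum A) (hp₀ : p₀ ∈ Smin A) (ha₀ : a ∉ p₀.asIdeal) :
    Formula a (A ⧸ p₀.asIdeal) := by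
  unfold Formula
  rw [Rsum_quot_minimal a p₀ hp₀]
  have hker : LinearMap.ker (mulT a (A ⧸ p₀.asIdeal)) = ⊥ := by
    rw [eq_bot_iff]
    intro x hx
    have hx' : a • x = 0 := hx
    obtain ⟨r, rfl⟩ := Ideal.Quotient.mk_surjective x
    rw [Algebra.smul_def, Ideal.Quotient.algebraMap_eq, ← map_mul,
      Ideal.Quotient.eq_zero_iff_mem] at hx'
    rcases p₀.isPrime.mem_or_mem hx' with h | h
    · exact absurd h ha₀
    · rw [Submodule.mem_bot, Ideal.Quotient.eq_zero_iff_mem]
      exact h
  have hk0 : Module.length A (LinearMap.ker (mulT a (A ⧸ p₀.asIdeal))) = 0 := by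
    rw [hker]
    exact Module.length_eq_zero
  rw [hk0, zero_add]
  let g : A →ₗ[A] QuotSMulTop a (A ⧸ p₀.asIdeal) :=
    (Submodule.mkQ (a • (⊤ : Submodule A (A ⧸ p₀.asIdeal)))).comp (Submodule.mkQ p₀.asIdeal)
  have hg : Surjective g := (Submodule.mkQ_surjective _).comp (Submodule.mkQ_surjective _)
  have hkg : LinearMap.ker g = p₀.asIdeal ⊔ Ideal.span {a} := by
    ext x
    rw [LinearMap.mem_ker]
    change Submodule.Quotient.mk (Submodule.Quotient.mk x) = 0 ↔ _
    rw [Submodule.Quotient.mk_eq_zero, Submodule.mem_smul_pointwise_iff_exists, Submodule.mem_sup]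
    constructor
    · rintro ⟨y, -, hy⟩
      obtain ⟨r, rfl⟩ := Submodule.Quotient.mk_surjective _ y
      have hmem : x - a * r ∈ p₀.asIdeal := by
        rw [← Submodule.Quotient.mk_eq_zero, Submodule.Quotient.mk_sub, ← hy,
          ← Submodule.Quotient.mk_smul, smul_eq_mul, sub_self]
      exact ⟨x - a * r, hmem, a * r, Ideal.mem_span_singleton'.2 ⟨r, mul_comm r a⟩, by ring⟩
    · rintro ⟨u, hu, v, hv, rfl⟩
      obtain ⟨r, rfl⟩ := Ideal.mem_span_singleton'.1 hv
      refine ⟨Submodule.Quotient.mk r, trivial, ?_⟩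
      rw [← Submodule.Quotient.mk_smul, Submodule.Quotient.mk_add,
        (Submodule.Quotient.mk_eq_zero _).2 hu, zero_add, smul_eq_mul, mul_comm]
  exact ((g.quotKerEquivOfSurjective hg).symm.trans (Submodule.quotEquivOfEq _ _ hkg)).length_eq

theorem formula_of_finite (ha : ∀ p ∈ minimalPrimes A, a ∉ p) (M : Type u) [AddCommGroup M]
    [Module A M] [Module.Finite A M] : Formula a M := by
  induction ‹Module.Finite A M› using
    IsNoetherianRing.induction_on_isQuotientEquivQuotientPrime A with
  | subsingleton N => exact formula_subsingleton N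
  | quotient N p e =>
    have hbase : Formula a (A ⧸ p.asIdeal) := by
      by_cases hp : p.asIdeal ∈ minimalPrimes A
      · exact formula_quot_minimal p hp (ha _ hp)
      · exact formula_quot_not_minimal p.asIdeal hp
    exact formula_exact ha e.symm.toLinearMap (0 : N →ₗ[A] PUnit.{u + 1}) e.symm.injective
      (surjective_to_subsingleton _) ((e.symm.exact_zero_iff_surjective _).2 e.symm.surjective)
      hbase (formula_subsingleton PUnit.{u + 1})
  | exact N₁ N₂ N₃ f g hf hg hfg h₁ h₃ => exact formula_exact ha f g hf hg hfg h₁ h₃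

end Formula

end Groth.Agent.MultDim1
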