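import Mathlib
import Groth.Prelude.Def_Tame
import Groth.Agent.Lib.MultDim1_helper9
import Groth.Agent.Lib.LatticeDet_helper9

/-!
# Orders of fractions and sums over minimal primes (helper9)
-/

set_option autoImplicit false

universe u v w

namespace Groth.Agent.OrdSum

open Submodule Groth.Agent.LatticeDist Groth.Agent.LatticeDet Pointwise

section Tower

variable {A : Type u} [CommRing A] {M : Type v} [AddCommGroup M] [Module A M]

lemma length_top_quot (Q : Submodule A M) :
    Module.length A (↥(⊤ : Submodule A M) ⧸ Q.submoduleOf ⊤) = Module.length A (M ⧸ Q) := by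
  have h := length_range_quot (LinearMap.id : M →ₗ[A] M) Function.injective_id Q
  rwa [LinearMap.range_id, Submodule.map_id] at h

lemma length_quot_tower (N L : Submodule A M) (h : N ≤ L) :
    Module.length A (M ⧸ N) =
      Module.length A (↥L ⧸ N.submoduleOf L) + Module.length A (M ⧸ L) := by
  have h1 := length_tower N L ⊤ h le_top
  rwa [length_top_quot, length_top_quot] at h1

lemma length_quot_map_add {W : Type v} [AddCommGroup W] [Module A W] (g : W →ₗ[A] M)
    (hg : Function.Injective g) (Q : Submodule A W) :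
    Module.length A (M ⧸ Q.map g) =
      Module.length A (W ⧸ Q) + Module.length A (M ⧸ LinearMap.range g) := by
  have hle : Q.map g ≤ LinearMap.range g := by
    rintro _ ⟨y, -, rfl⟩
    exact ⟨y, rfl⟩
  rw [length_quot_tower _ _ hle, length_range_quot g hg Q]

end Tower

section Ord

variable {A : Type u} [CommRing A] [IsNoetherianRing A] [Ring.KrullDimLE 1 A]

lemma ordFrac_div (D : Type u) [CommRing D] [IsDomain D] [IsNoetherianRing D]
    [Ring.KrullDimLE 1 D] (K : Type v) [Field K] [Algebra D K] [IsFractionRing D K] {x y : K}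
    (hx : x ≠ 0) (hy : y ≠ 0) :
    CycAlg.ordFrac D K (x / y) = CycAlg.ordFrac D K x - CycAlg.ordFrac D K y := by
  have h := ordFrac_mul D K (div_ne_zero hx hy) hy
  rw [div_mul_cancel₀ x hy] at h
  linarith

instance krullDimLE_quot (q : Ideal A) : Ring.KrullDimLE 1 (A ⧸ q) := by
  have h : ringKrullDim A ≤ 1 := by
    have : Ring.KrullDimLE 1 A := inferInstance
    rw [Ring.KrullDimLE, Order.krullDimLE_iff] at this
    exact this
  rw [Ring.KrullDimLE, Order.krullDimLE_iff]
  exact (ringKrullDim_quotient_le q).trans h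

omit [IsNoetherianRing A] [Ring.KrullDimLE 1 A] in
lemma length_quot_quot (q : Ideal A) (a : A) :
    Module.length (A ⧸ q) ((A ⧸ q) ⧸ Ideal.span {Ideal.Quotient.mk q a}) =
      Module.length A (A ⧸ (q ⊔ Ideal.span {a})) := by
  rw [← Module.length_eq_of_surjective (S := A) (R := A ⧸ q)
    (M := (A ⧸ q) ⧸ Ideal.span {Ideal.Quotient.mk q a}) Ideal.Quotient.mk_surjective]
  let g : A →ₗ[A] (A ⧸ q) ⧸ Ideal.span {Ideal.Quotient.mk q a} :=
    ((Submodule.mkQ (Ideal.span {Ideal.Quotient.mk q a})).restrictScalars A).comp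
      (Submodule.mkQ q)
  have hg : Function.Surjective g :=
    (Submodule.mkQ_surjective _).comp (Submodule.mkQ_surjective _)
  have hkg : LinearMap.ker g = q ⊔ Ideal.span {a} := by
    ext x
    rw [LinearMap.mem_ker]
    change Submodule.Quotient.mk (Ideal.Quotient.mk q x) = 0 ↔ _
    rw [Submodule.Quotient.mk_eq_zero, Ideal.mem_span_singleton', Submodule.mem_sup]
    constructor
    · rintro ⟨y, hy⟩
      obtain ⟨r, rfl⟩ := Ideal.Quotient.mk_surjective y
      have hmem : x - r * a ∈ q := by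
        rw [← Ideal.Quotient.eq_zero_iff_mem, map_sub, map_mul, hy, sub_self]
      exact ⟨x - r * a, hmem, r * a, Ideal.mem_span_singleton'.2 ⟨r, rfl⟩, by ring⟩
    · rintro ⟨u, hu, v, hv, rfl⟩
      obtain ⟨r, rfl⟩ := Ideal.mem_span_singleton'.1 hv
      refine ⟨Ideal.Quotient.mk q r, ?_⟩
      rw [map_add, Ideal.Quotient.eq_zero_iff_mem.2 hu, zero_add, map_mul]
  exact ((g.quotKerEquivOfSurjective hg).symm.trans (Submodule.quotEquivOfEq _ _ hkg)).length_eq

lemma ordFrac_quot (q : Ideal A) [q.IsPrime] {a : A} (ha : a ∉ q) :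
    CycAlg.ordFrac (A ⧸ q) q.ResidueField (algebraMap A q.ResidueField a) =
      ((Module.length A (A ⧸ (q ⊔ Ideal.span {a}))).toNat : ℤ) := by
  have h0 : Ideal.Quotient.mk q a ≠ 0 := by
    rwa [Ne, Ideal.Quotient.eq_zero_iff_mem]
  rw [← Ideal.algebraMap_quotient_residueField_mk, ordFrac_algebraMap (A ⧸ q) q.ResidueField h0,
    length_quot_quot]

end Ord


section Main

open Groth.Agent.MultDim1 Groth.Agent.HerbrandDim1

variable {A : Type u} [CommRing A] [IsNoetherianRing A] [Ring.KrullDimLE 1 A]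
  {M : Type u} [AddCommGroup M] [Module A M] [Module.Finite A M]

omit [IsNoetherianRing A] [Ring.KrullDimLE 1 A] in
lemma not_mem_minimal {c : A} (hc : c ∈ nonZeroDivisors A) : ∀ p ∈ minimalPrimes A, c ∉ p :=
  fun _ hp hcp =>
    (Set.disjoint_left.mp (Ideal.disjoint_nonZeroDivisors_of_mem_minimalPrimes hp)) hcp hc

omit [Ring.KrullDimLE 1 A] [Module.Finite A M] in
lemma isSMulRegular_of_nzd (hMemb : ∀ p ∈ associatedPrimes A M, p ∈ minimalPrimes A) {c : A}
    (hc : c ∈ nonZeroDivisors A) : IsSMulRegular M c := by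
  by_contra hreg
  have h : c ∈ ({ r : A | IsSMulRegular M r }ᶜ : Set A) := hreg
  rw [← biUnion_associatedPrimes_eq_compl_regular A M] at h
  obtain ⟨p, hp, hcp⟩ := Set.mem_iUnion₂.mp h
  exact not_mem_minimal hc p (hMemb p hp) hcp

lemma length_quot_range_eq (hMemb : ∀ p ∈ associatedPrimes A M, p ∈ minimalPrimes A) {c : A}
    (hc : c ∈ nonZeroDivisors A) :
    Module.length A (M ⧸ LinearMap.range (LinearMap.lsmul A M c)) = Rsum c M ∧
      Rsum c M ≠ ⊤ := by
  have h := formula_of_finite (not_mem_minimal hc) M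
  have hfin := length_coker_ne_top' (not_mem_minimal hc) M
  unfold Formula at h
  have hreg := isSMulRegular_of_nzd hMemb hc
  have hker : LinearMap.ker (mulT c M) = ⊥ := by
    rw [eq_bot_iff]
    intro x hx
    have hx' : c • x = c • (0 : M) := by
      rw [smul_zero]
      exact hx
    exact hreg hx'
  have hk0 : Module.length A (LinearMap.ker (mulT c M)) = 0 := by
    rw [hker]
    exact Module.length_eq_zero
  have hrange : (c • (⊤ : Submodule A M)) = LinearMap.range (LinearMap.lsmul A M c) := by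
    ext m
    rw [Submodule.mem_smul_pointwise_iff_exists, LinearMap.mem_range]
    constructor
    · rintro ⟨y, -, rfl⟩
      exact ⟨y, rfl⟩
    · rintro ⟨y, rfl⟩
      exact ⟨y, trivial, rfl⟩
  rw [hk0, zero_add] at h
  change Module.length A (M ⧸ c • (⊤ : Submodule A M)) = _ at h
  change Module.length A (M ⧸ c • (⊤ : Submodule A M)) ≠ ⊤ at hfin
  rw [hrange] at h hfin
  exact ⟨h, h ▸ hfin⟩

omit [Ring.KrullDimLE 1 A] [Module.Finite A M] in
lemma Rsum_toNat (c : A) (h : Rsum c M ≠ ⊤) :
    ((Rsum c M).toNat : ℤ) = ∑ᶠ p ∈ Smin A, ((lam p.asIdeal M).toNat : ℤ) *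
      ((Module.length A (A ⧸ (p.asIdeal ⊔ Ideal.span {c}))).toNat : ℤ) := by
  unfold Rsum at h ⊢
  rw [finsum_mem_eq_finite_toFinset_sum _ Smin_finite] at h ⊢
  rw [finsum_mem_eq_finite_toFinset_sum _ Smin_finite]
  rw [ENat.toNat_sum (ENat.sum_ne_top.mp h)]
  push_cast [ENat.toNat_mul]
  rfl

theorem main (hMemb : ∀ p ∈ associatedPrimes A M, p ∈ minimalPrimes A) (a b : A)
    (ha : a ∈ nonZeroDivisors A) (hb : b ∈ nonZeroDivisors A) (I : Ideal A)
    (hI : I = (Ideal.span {b}).colon (Ideal.span {a} : Set A)) (P : Submodule A M)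
    (hP : P = Submodule.comap (LinearMap.lsmul A M b)
      ((Ideal.span {a} * I) • (⊤ : Submodule A M))) :
    (Ideal.span {a} * I) • (⊤ : Submodule A M) ≤ LinearMap.range (LinearMap.lsmul A M b) ∧
    ((Module.length A (M ⧸ P)).toNat : ℤ) -
        ((Module.length A (M ⧸ I • (⊤ : Submodule A M))).toNat : ℤ) =
      ∑ᶠ p ∈ Smin A, ((lam p.asIdeal M).toNat : ℤ) *
        CycAlg.ordFrac (A ⧸ p.asIdeal) p.asIdeal.ResidueField
          (algebraMap A p.asIdeal.ResidueField a / algebraMap A p.asIdeal.ResidueField b) := by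
  set La := LinearMap.lsmul A M a with hLa_def
  set Lb := LinearMap.lsmul A M b with hLb_def
  have hLa : Function.Injective La := isSMulRegular_of_nzd hMemb ha
  have hLb : Function.Injective Lb := isSMulRegular_of_nzd hMemb hb
  have hb_mem : b ∈ I := by
    rw [hI, Submodule.mem_colon]
    intro s _
    exact Ideal.mul_mem_right s _ (Ideal.mem_span_singleton_self b)
  have hIa : ∀ x ∈ I, ∃ c, x * a = b * c := by
    intro x hx
    rw [hI, Submodule.mem_colon] at hx
    obtain ⟨c, hc⟩ := Ideal.mem_span_singleton'.mp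
      (hx a (Ideal.mem_span_singleton_self a))
    exact ⟨c, by rw [← smul_eq_mul x a, ← hc, mul_comm]⟩
  have hJ : (Ideal.span {a} * I) • (⊤ : Submodule A M) =
      (I • (⊤ : Submodule A M)).map La := by
    rw [Submodule.mul_smul, Submodule.ideal_span_singleton_smul]
    ext m
    rw [Submodule.mem_smul_pointwise_iff_exists, Submodule.mem_map]
    rfl
  have hJle : (Ideal.span {a} * I) • (⊤ : Submodule A M) ≤ LinearMap.range Lb := by
    rw [hJ]
    rintro _ ⟨y, hy, rfl⟩
    refine Submodule.smul_induction_on (p := fun y => La y ∈ LinearMap.range Lb) hy ?_ ?_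
    · intro x hx m _
      obtain ⟨c, hc⟩ := hIa x hx
      refine ⟨c • m, ?_⟩
      change b • c • m = a • x • m
      rw [smul_smul, smul_smul, ← hc, mul_comm]
    · intro y₁ y₂ h₁ h₂
      change La (y₁ + y₂) ∈ _
      rw [map_add]
      exact Submodule.add_mem _ h₁ h₂
  refine ⟨hJle, ?_⟩
  have hPmap : P.map Lb = (Ideal.span {a} * I) • (⊤ : Submodule A M) := by
    rw [hP]
    exact Submodule.map_comap_eq_of_le hJle
  have e1 := length_quot_map_add Lb hLb P
  have e2 := length_quot_map_add La hLa (I • (⊤ : Submodule A M))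
  rw [hPmap] at e1
  rw [← hJ, e1] at e2
  obtain ⟨ra, rafin⟩ := length_quot_range_eq hMemb ha
  obtain ⟨rb, rbfin⟩ := length_quot_range_eq hMemb hb
  rw [ra, rb] at e2
  have hle : LinearMap.range Lb ≤ I • (⊤ : Submodule A M) := by
    rintro _ ⟨m, rfl⟩
    exact Submodule.smul_mem_smul hb_mem trivial
  have hifin : Module.length A (M ⧸ I • (⊤ : Submodule A M)) ≠ ⊤ := by
    have h := length_quot_tower _ _ hle
    rw [rb] at h
    intro htop
    rw [htop, add_top] at h
    exact rbfin h
  have hpfin : Module.length A (M ⧸ P) ≠ ⊤ := by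
    intro htop
    rw [htop, top_add] at e2
    rcases ENat.add_eq_top.mp e2.symm with h | h
    · exact hifin h
    · exact rafin h
  have e3 : ((Module.length A (M ⧸ P)).toNat : ℤ) + ((Rsum b M).toNat : ℤ) =
      ((Module.length A (M ⧸ I • (⊤ : Submodule A M))).toNat : ℤ) + ((Rsum a M).toNat : ℤ) := by
    have := congrArg ENat.toNat e2
    rw [ENat.toNat_add hpfin rbfin, ENat.toNat_add hifin rafin] at this
    exact_mod_cast this
  rw [Rsum_toNat a rafin, Rsum_toNat b rbfin] at e3
  have hterm : ∀ p ∈ Smin A, ((lam p.asIdeal M).toNat : ℤ) *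
        CycAlg.ordFrac (A ⧸ p.asIdeal) p.asIdeal.ResidueField
          (algebraMap A p.asIdeal.ResidueField a / algebraMap A p.asIdeal.ResidueField b) =
      ((lam p.asIdeal M).toNat : ℤ) *
        ((Module.length A (A ⧸ (p.asIdeal ⊔ Ideal.span {a}))).toNat : ℤ) -
      ((lam p.asIdeal M).toNat : ℤ) *
        ((Module.length A (A ⧸ (p.asIdeal ⊔ Ideal.span {b}))).toNat : ℤ) := by
    intro p hp
    have hap : a ∉ p.asIdeal := not_mem_minimal ha p.asIdeal hp
    have hbp : b ∉ p.asIdeal := not_mem_minimal hb p.asIdeal hp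
    rw [ordFrac_div (A ⧸ p.asIdeal) p.asIdeal.ResidueField
      (Ideal.algebraMap_residueField_eq_zero.not.mpr hap)
      (Ideal.algebraMap_residueField_eq_zero.not.mpr hbp), ordFrac_quot p.asIdeal hap,
      ordFrac_quot p.asIdeal hbp, mul_sub]
  rw [finsum_mem_congr rfl hterm, finsum_mem_sub_distrib _ _ Smin_finite]
  linarith

end Main

end Groth.Agent.OrdSum
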