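import Mathlib
import Groth.Prelude
import Groth.Agent.Lib.LatticeDet_helper9
import Groth.Agent.Lib.OrdSum_helper9

/-!
# Orders of vanishing along flat local homomorphisms (helper8).  APPEND-ONLY once landed.
-/

set_option autoImplicit false
universe u

open CategoryTheory AlgebraicGeometry TopologicalSpace Opposite
open Groth.Agent.LatticeDet Groth.Agent.OrdSum

namespace OrdFlatH8

section Frac

variable {X : Scheme.{u}}

theorem algebraMap_locQuot_mk (x ξ : X) (h : ξ ⤳ x) (a : X.presheaf.stalk x) :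
    algebraMap (Cyc.LocQuot x ξ h) (X.residueField ξ)
      (Ideal.Quotient.mk (RingHom.ker (Cyc.specMap x ξ h)) a) = Cyc.specMap x ξ h a := by
  rw [RingHom.algebraMap_toAlgebra]
  rfl

theorem algebraMap_locQuot_injective (x ξ : X) (h : ξ ⤳ x) :
    Function.Injective (algebraMap (Cyc.LocQuot x ξ h) (X.residueField ξ)) := by
  rw [RingHom.algebraMap_toAlgebra]
  exact RingHom.lift_injective_of_ker_le_ideal _ _ le_rfl

/-- Every element of `O_{X,ξ}` is a fraction of elements coming from `O_{X,x}`. -/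
theorem exists_stalkSpecializes_div (x ξ : X) (h : ξ ⤳ x) (z : X.presheaf.stalk ξ) :
    ∃ a s : X.presheaf.stalk x, IsUnit (X.presheaf.stalkSpecializes h s) ∧
      z * X.presheaf.stalkSpecializes h s = X.presheaf.stalkSpecializes h a := by
  obtain ⟨_, ⟨U, hU : IsAffineOpen U, rfl⟩, hxU, -⟩ :=
    X.isBasis_affineOpens.exists_subset_of_mem_open (Set.mem_univ x) isOpen_univ
  have hξU : ξ ∈ U := h.mem_open U.isOpen hxU
  letI alg : Algebra Γ(X, U) (X.presheaf.stalk ξ) :=
    TopCat.Presheaf.algebra_section_stalk X.presheaf (⟨ξ, hξU⟩ : ↥U)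
  haveI hloc : IsLocalization.AtPrime (X.presheaf.stalk ξ) (hU.primeIdealOf ⟨ξ, hξU⟩).asIdeal :=
    hU.isLocalization_stalk ⟨ξ, hξU⟩
  obtain ⟨⟨r, t⟩, hrt⟩ := IsLocalization.surj (hU.primeIdealOf ⟨ξ, hξU⟩).asIdeal.primeCompl z
  have halg : ∀ c : Γ(X, U), algebraMap Γ(X, U) (X.presheaf.stalk ξ) c =
      X.presheaf.germ U ξ hξU c := fun c => rfl
  have hsp : ∀ c : Γ(X, U), X.presheaf.stalkSpecializes h (X.presheaf.germ U x hxU c) =
      X.presheaf.germ U ξ hξU c := by
    intro c
    rw [← ConcreteCategory.comp_apply, X.presheaf.germ_stalkSpecializes]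
  refine ⟨X.presheaf.germ U x hxU r, X.presheaf.germ U x hxU t.1, ?_, ?_⟩
  · rw [hsp, ← halg]
    exact IsLocalization.map_units (M := (hU.primeIdealOf ⟨ξ, hξU⟩).asIdeal.primeCompl)
      (X.presheaf.stalk ξ) t
  · rw [hsp, hsp, ← halg, ← halg]
    exact hrt

/-- `κ(ξ)` is the fraction field of `O_{X,x}/𝔭_ξ`. -/
theorem isFractionRing_locQuot (x ξ : X) (h : ξ ⤳ x) :
    IsFractionRing (Cyc.LocQuot x ξ h) (X.residueField ξ) := by
  haveI : FaithfulSMul (Cyc.LocQuot x ξ h) (X.residueField ξ) :=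
    (faithfulSMul_iff_algebraMap_injective _ _).mpr (algebraMap_locQuot_injective x ξ h)
  apply IsFractionRing.of_field
  intro z
  obtain ⟨z', rfl⟩ := IsLocalRing.residue_surjective (R := X.presheaf.stalk ξ) z
  obtain ⟨a, s, hs, hz⟩ := exists_stalkSpecializes_div x ξ h z'
  refine ⟨Ideal.Quotient.mk _ a, Ideal.Quotient.mk _ s, ?_⟩
  rw [algebraMap_locQuot_mk, algebraMap_locQuot_mk]
  have hs' : Cyc.specMap x ξ h s ≠ 0 := by
    have : IsUnit (Cyc.specMap x ξ h s) := hs.map (X.residue ξ).hom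
    exact this.ne_zero
  rw [eq_div_iff hs']
  change X.residue ξ z' * X.residue ξ (X.presheaf.stalkSpecializes h s) =
    X.residue ξ (X.presheaf.stalkSpecializes h a)
  rw [← map_mul, hz]

end Frac

section Alg

variable {A B : Type u} [CommRing A] [CommRing B] [IsLocalRing A] [IsLocalRing B]

/-- Length of `B/φ(a)B` for a flat local homomorphism. -/
theorem length_quot_span_map (φ : A →+* B) [IsLocalHom φ] (hφ : φ.Flat) (a : A) :
    Module.length B (B ⧸ Ideal.span {φ a}) =
      Module.length A (A ⧸ Ideal.span {a}) *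
        Module.length B (B ⧸ Ideal.map φ (IsLocalRing.maximalIdeal A)) := by
  letI : Algebra A B := φ.toAlgebra
  haveI : Module.Flat A B := hφ
  haveI : IsLocalHom (algebraMap A B) := by
    rw [RingHom.algebraMap_toAlgebra]
    infer_instance
  have h1 : Ideal.span {φ a} = Ideal.map (algebraMap A B) (Ideal.span {a}) := by
    rw [Ideal.map_span, Set.image_singleton]
    rfl
  rw [h1, (Algebra.TensorProduct.quotIdealMapEquivTensorQuot B (Ideal.span {a})).toLinearEquiv.length_eq,
    IsLocalRing.length_baseChange]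
  rfl

theorem injective_of_flat_local (φ : A →+* B) [IsLocalHom φ] (hφ : φ.Flat) :
    Function.Injective φ := by
  letI : Algebra A B := φ.toAlgebra
  haveI : Module.Flat A B := hφ
  haveI : IsLocalHom (algebraMap A B) := by
    rw [RingHom.algebraMap_toAlgebra]
    infer_instance
  haveI : Module.FaithfullyFlat A B := Module.FaithfullyFlat.of_flat_of_isLocalHom
  exact FaithfulSMul.algebraMap_injective A B

variable [IsNoetherianRing A] [IsNoetherianRing B]

/-- The order of vanishing along a flat local homomorphism of one-dimensional local domains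
(presented as quotients by zero prime ideals). -/
theorem ordFrac_flat (φ : A →+* B) [IsLocalHom φ] (hφ : φ.Flat)
    (I : Ideal A) (J : Ideal B) [I.IsPrime] [J.IsPrime] (hJ : J = ⊥)
    [Ring.KrullDimLE 1 (A ⧸ I)] [Ring.KrullDimLE 1 (B ⧸ J)]
    {K L : Type u} [Field K] [Field L] [Algebra (A ⧸ I) K] [Algebra (B ⧸ J) L]
    [IsFractionRing (A ⧸ I) K] [IsFractionRing (B ⧸ J) L] (ψ : K →+* L)
    (hcompat : ∀ a : A, ψ (algebraMap (A ⧸ I) K (Ideal.Quotient.mk I a)) =
      algebraMap (B ⧸ J) L (Ideal.Quotient.mk J (φ a)))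
    (g : K) (hg : g ≠ 0) :
    CycAlg.ordFrac (B ⧸ J) L (ψ g) = CycAlg.ordFrac (A ⧸ I) K g *
      ((Module.length B (B ⧸ Ideal.map φ (IsLocalRing.maximalIdeal A))).toNat : ℤ) := by
  have hφinj := injective_of_flat_local φ hφ
  have hI : I = ⊥ := by
    rw [eq_bot_iff]
    intro a ha
    have h1 : Ideal.Quotient.mk I a = 0 := Ideal.Quotient.eq_zero_iff_mem.mpr ha
    have h2 := hcompat a
    rw [h1, map_zero, map_zero] at h2
    have h3 : Ideal.Quotient.mk J (φ a) = 0 :=
      (IsFractionRing.injective (B ⧸ J) L) (by rw [← h2, map_zero])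
    rw [Ideal.Quotient.eq_zero_iff_mem, hJ, Ideal.mem_bot] at h3
    rw [Ideal.mem_bot]
    exact hφinj (by rw [h3, map_zero])
  obtain ⟨a', b', hb', rfl⟩ := IsFractionRing.div_surjective (A := A ⧸ I) g
  have hb'0 : b' ≠ 0 := nonZeroDivisors.ne_zero hb'
  have ha'0 : a' ≠ 0 := by
    rintro rfl
    rw [map_zero, zero_div] at hg
    exact hg rfl
  obtain ⟨a, rfl⟩ := Ideal.Quotient.mk_surjective a'
  obtain ⟨b, rfl⟩ := Ideal.Quotient.mk_surjective b'
  have hKa : algebraMap (A ⧸ I) K (Ideal.Quotient.mk I a) ≠ 0 :=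
    (map_ne_zero_iff _ (IsFractionRing.injective (A ⧸ I) K)).mpr ha'0
  have hKb : algebraMap (A ⧸ I) K (Ideal.Quotient.mk I b) ≠ 0 :=
    (map_ne_zero_iff _ (IsFractionRing.injective (A ⧸ I) K)).mpr hb'0
  have hLa : algebraMap (B ⧸ J) L (Ideal.Quotient.mk J (φ a)) ≠ 0 := by
    rw [← hcompat]; exact (map_ne_zero ψ).mpr hKa
  have hLb : algebraMap (B ⧸ J) L (Ideal.Quotient.mk J (φ b)) ≠ 0 := by
    rw [← hcompat]; exact (map_ne_zero ψ).mpr hKb
  have hBa : Ideal.Quotient.mk J (φ a) ≠ 0 := fun h => hLa (by rw [h, map_zero])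
  have hBb : Ideal.Quotient.mk J (φ b) ≠ 0 := fun h => hLb (by rw [h, map_zero])
  rw [map_div₀, hcompat, hcompat, ordFrac_div (B ⧸ J) L hLa hLb, ordFrac_div (A ⧸ I) K hKa hKb,
    ordFrac_algebraMap (B ⧸ J) L hBa, ordFrac_algebraMap (B ⧸ J) L hBb,
    ordFrac_algebraMap (A ⧸ I) K ha'0, ordFrac_algebraMap (A ⧸ I) K hb'0,
    length_quot_quot, length_quot_quot, length_quot_quot, length_quot_quot]
  subst hJ
  subst hI
  rw [bot_sup_eq, bot_sup_eq, bot_sup_eq, bot_sup_eq, length_quot_span_map φ hφ a,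
    length_quot_span_map φ hφ b, ENat.toNat_mul, ENat.toNat_mul]
  push_cast
  ring

/-- The order of a unit is zero. -/
theorem ordFrac_algebraMap_unit (D : Type u) [CommRing D] [IsDomain D] [IsNoetherianRing D]
    [Ring.KrullDimLE 1 D] (K : Type u) [Field K] [Algebra D K] [IsFractionRing D K] {u : D}
    (hu : IsUnit u) : CycAlg.ordFrac D K (algebraMap D K u) = 0 := by
  rw [ordFrac_algebraMap D K hu.ne_zero, Ideal.span_singleton_eq_top.mpr hu]
  have : Module.length D (D ⧸ (⊤ : Ideal D)) = 0 := Module.length_eq_zero_iff.mpr inferInstance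
  rw [this]
  rfl

end Alg

end OrdFlatH8
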