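import Mathlib
import Groth.Prelude
import Groth.Agent.Lib.OrdFlat1_helper8
import Groth.Agent.Lib.DimFun_helper8
import Groth.Agent.Lib.DimFT3_helper8

/-!
# Orders of vanishing along flat morphisms: geometric lemmas (helper8).  APPEND-ONLY once landed.
-/

set_option autoImplicit false
universe u

open CategoryTheory AlgebraicGeometry TopologicalSpace Opposite

namespace OrdFlatH8

section Geom

variable {X Y : Scheme.{u}}

/-- Compatibility of the maps `O_{X,x} → κ(ξ)` with a morphism. -/
theorem residueFieldMap_specMap (f : X ⟶ Y) (x ξ : X) (h : ξ ⤳ x) (h' : f ξ ⤳ f x)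
    (a : Y.presheaf.stalk (f x)) :
    f.residueFieldMap ξ (Cyc.specMap (f x) (f ξ) h' a) = Cyc.specMap x ξ h (f.stalkMap x a) := by
  change f.residueFieldMap ξ (Y.residue (f ξ) (Y.presheaf.stalkSpecializes h' a)) =
    X.residue ξ (X.presheaf.stalkSpecializes h (f.stalkMap x a))
  rw [← Scheme.Hom.stalkSpecializes_stalkMap_apply f ξ x h a]
  have := Scheme.residue_residueFieldMap f ξ
  exact DFunLike.congr_fun (CommRingCat.hom_ext_iff.mp this) (Y.presheaf.stalkSpecializes h' a)

/-- The local ring of the closure of `ξ` at `x` has dimension at most one if `δ` drops by at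
most one. -/
theorem krullDimLE_one_locQuot (δ : X → ℤ) (hδ : Cyc.IsDimFun X δ) (x ξ : X) (h : ξ ⤳ x)
    (hd : δ ξ ≤ δ x + 1) : Ring.KrullDimLE 1 (Cyc.LocQuot x ξ h) := by
  rw [Ring.KrullDimLE, Order.krullDimLE_iff]
  change ringKrullDim (X.presheaf.stalk x ⧸ RingHom.ker (Cyc.specMap x ξ h)) ≤ _
  rw [Groth.Agent.DimFT3H8.ringKrullDim_quotient_eq_coheight
    (RingHom.ker (Cyc.specMap x ξ h)) (hp := RingHom.ker_isPrime _)]
  set pξ : PrimeSpectrum (X.presheaf.stalk x) :=
    ⟨RingHom.ker (Cyc.specMap x ξ h), RingHom.ker_isPrime _⟩ with hpξ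
  have hφξ : Groth.Agent.DimFunH8.φ X x pξ = ξ := Groth.Agent.DimFunH8.φ_ker X x ξ h
  let g : PrimeSpectrum (X.presheaf.stalk x) → ℤ := fun P => - δ (Groth.Agent.DimFunH8.φ X x P)
  have hg : StrictMono g := by
    intro P Q hPQ
    have h1 : Groth.Agent.DimFunH8.φ X x P ⤳ Groth.Agent.DimFunH8.φ X x Q :=
      (Groth.Agent.DimFunH8.φ_specializes_iff X x P Q).mpr hPQ.le
    have h2 : Groth.Agent.DimFunH8.φ X x P ≠ Groth.Agent.DimFunH8.φ X x Q :=
      fun e => hPQ.ne (Groth.Agent.DimFunH8.φ_injective X x e)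
    have := (hδ _ _ h1 h2).1
    change - δ _ < - δ _
    omega
  have hco : Order.coheight pξ ≤ 1 := by
    rw [Order.coheight_le_iff']
    intro l hl
    have h1 := Groth.Agent.DimFunH8.add_length_le g hg l
    rw [hl] at h1
    have h2 : g l.last ≤ - δ x := by
      change - δ _ ≤ - δ x
      have hsp := Groth.Agent.DimFunH8.φ_specializes X x l.last
      by_cases he : Groth.Agent.DimFunH8.φ X x l.last = x
      · rw [he]
      · have := (hδ _ _ hsp he).1
        omega
    have h3 : g pξ = - δ ξ := by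
      change - δ _ = _
      rw [hφξ]
    have h4 : (l.length : ℤ) ≤ 1 := by omega
    exact_mod_cast h4
  exact_mod_cast hco

end Geom

end OrdFlatH8
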