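import Mathlib
import Groth.Prelude
import Groth.Agent.Lib.GenLoc_helper8
import Groth.Agent.Lib.OrdFlat2_helper8

/-!
# Orders of rational sections of invertible modules, I: stalks (helper8).
APPEND-ONLY once landed.
-/

set_option autoImplicit false
universe u

open CategoryTheory AlgebraicGeometry TopologicalSpace Opposite
open QcqsLoc GenLocH8 Groth.Agent.Lib.QCohLoc_helper4

namespace SecOrdH8

variable {X : Scheme.{u}}

theorem germ_rF (F : X.Modules) {V W : X.Opens} (h : V ≤ W) (x : X) (hx : x ∈ V) (t : Γ(F, W)) :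
    F.presheaf.germ V x hx (rF F h t) = F.presheaf.germ W x (h hx) t :=
  TopCat.Presheaf.germ_res_apply F.presheaf (homOfLE h) x hx t

theorem germ_rX {V W : X.Opens} (h : V ≤ W) (x : X) (hx : x ∈ V) (t : Γ(X, W)) :
    X.presheaf.germ V x hx (rX h t) = X.presheaf.germ W x (h hx) t :=
  TopCat.Presheaf.germ_res_apply X.presheaf (homOfLE h) x hx t

/-- A local generator gives a free generator of the stalk. -/
theorem stalk_gen {L : X.Modules} {W : X.Opens} {e : Γ(L, W)} (he : IsGen L W e) {x : X}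
    (hx : x ∈ W) :
    (∀ z : L.presheaf.stalk x, ∃ a : X.presheaf.stalk x, z = a • L.presheaf.germ W x hx e) ∧
      (∀ a : X.presheaf.stalk x, a • L.presheaf.germ W x hx e = 0 → a = 0) := by
  constructor
  · intro z
    obtain ⟨O, hxO, l, rfl⟩ := TopCat.Presheaf.exists_germ_eq L.presheaf z
    have hO' : O ⊓ W ≤ W := inf_le_right
    have hO'' : O ⊓ W ≤ O := inf_le_left
    obtain ⟨c, hc⟩ := (he (O ⊓ W) hO').1 (rF L hO'' l)
    refine ⟨X.presheaf.germ (O ⊓ W) x ⟨hxO, hx⟩ c, ?_⟩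
    rw [← germ_rF L hO'' x ⟨hxO, hx⟩ l, hc, germ_smul, germ_rF]
  · intro a ha
    obtain ⟨O, hxO, c, rfl⟩ := TopCat.Presheaf.exists_germ_eq X.presheaf a
    have hO' : O ⊓ W ≤ W := inf_le_right
    have hO'' : O ⊓ W ≤ O := inf_le_left
    have h1 : L.presheaf.germ (O ⊓ W) x ⟨hxO, hx⟩ (rX hO'' c • rF L hO' e) = 0 := by
      rw [germ_smul, germ_rF, germ_rX]
      exact ha
    have h2 : L.presheaf.germ (O ⊓ W) x ⟨hxO, hx⟩ (rX hO'' c • rF L hO' e) =
        L.presheaf.germ (O ⊓ W) x ⟨hxO, hx⟩ 0 := by rw [h1, map_zero]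
    obtain ⟨O₂, hxO₂, i₁, i₂, h3⟩ := TopCat.Presheaf.germ_eq L.presheaf x _ _ _ _ h2
    have hle : O₂ ≤ O ⊓ W := i₁.le
    have h4 : rF L hle (rX hO'' c • rF L hO' e) = 0 := by
      have : rF L hle (rX hO'' c • rF L hO' e) = rF L hle 0 := h3
      rw [this, map_zero]
    rw [rF_smul, rF_rF, rX_rX] at h4
    have h5 := (he O₂ (hle.trans hO')).2 _ h4
    rw [← germ_rX (hle.trans hO'') x hxO₂ c, h5, map_zero]

theorem stalkSpecializes_germ (F : X.Modules) {x ξ : X} (h : ξ ⤳ x) (U : X.Opens) (hx : x ∈ U)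
    (l : Γ(F, U)) :
    F.presheaf.stalkSpecializes h (F.presheaf.germ U x hx l) =
      F.presheaf.germ U ξ (h.mem_open U.isOpen hx) l := by
  rw [← ConcreteCategory.comp_apply, F.presheaf.germ_stalkSpecializes]

theorem stalkSpecializes_germX {x ξ : X} (h : ξ ⤳ x) (U : X.Opens) (hx : x ∈ U)
    (c : Γ(X, U)) :
    X.presheaf.stalkSpecializes h (X.presheaf.germ U x hx c) =
      X.presheaf.germ U ξ (h.mem_open U.isOpen hx) c := by
  rw [← ConcreteCategory.comp_apply, X.presheaf.germ_stalkSpecializes]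

/-- Semilinearity of the specialization map on stalks. -/
theorem stalkSpecializes_smul (F : X.Modules) {x ξ : X} (h : ξ ⤳ x) (a : X.presheaf.stalk x)
    (z : F.presheaf.stalk x) :
    F.presheaf.stalkSpecializes h (a • z) =
      X.presheaf.stalkSpecializes h a • F.presheaf.stalkSpecializes h z := by
  obtain ⟨O, hxO, c, rfl⟩ := TopCat.Presheaf.exists_germ_eq X.presheaf a
  obtain ⟨O', hxO', l, rfl⟩ := TopCat.Presheaf.exists_germ_eq F.presheaf z
  have h1 : O ⊓ O' ≤ O := inf_le_left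
  have h2 : O ⊓ O' ≤ O' := inf_le_right
  have hx : x ∈ O ⊓ O' := ⟨hxO, hxO'⟩
  rw [← germ_rX h1 x hx c, ← germ_rF F h2 x hx l, ← germ_smul, stalkSpecializes_germ,
    stalkSpecializes_germ, stalkSpecializes_germX, germ_smul]

theorem stalkSpecializes_add (F : X.Modules) {x ξ : X} (h : ξ ⤳ x)
    (z z' : F.presheaf.stalk x) :
    F.presheaf.stalkSpecializes h (z + z') =
      F.presheaf.stalkSpecializes h z + F.presheaf.stalkSpecializes h z' :=
  map_add _ z z'

/-- A free generator of the stalk. -/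
def IsFreeGen (L : X.Modules) (x : X) (t : L.presheaf.stalk x) : Prop :=
  (∀ z : L.presheaf.stalk x, ∃ a : X.presheaf.stalk x, z = a • t) ∧
    (∀ a : X.presheaf.stalk x, a • t = 0 → a = 0)

theorem IsFreeGen.span_eq_top {L : X.Modules} {x : X} {t : L.presheaf.stalk x}
    (ht : IsFreeGen L x t) : Submodule.span (X.presheaf.stalk x) {t} = ⊤ := by
  rw [eq_top_iff]
  intro z _
  obtain ⟨a, rfl⟩ := ht.1 z
  exact Submodule.smul_mem _ _ (Submodule.subset_span rfl)

theorem IsFreeGen.smul_unit {L : X.Modules} {x : X} {t : L.presheaf.stalk x}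
    (ht : IsFreeGen L x t) {u : X.presheaf.stalk x} (hu : IsUnit u) : IsFreeGen L x (u • t) := by
  obtain ⟨v, rfl⟩ := hu
  constructor
  · intro z
    obtain ⟨a, rfl⟩ := ht.1 z
    refine ⟨a * ↑v⁻¹, ?_⟩
    rw [smul_smul, mul_assoc, Units.inv_mul, mul_one]
  · intro a ha
    rw [smul_smul] at ha
    have := ht.2 _ ha
    have h2 : a * ↑v * ↑v⁻¹ = 0 := by rw [this, zero_mul]
    rwa [mul_assoc, Units.mul_inv, mul_one] at h2

/-- Any generator is a unit multiple of a free generator. -/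
theorem IsFreeGen.exists_unit {L : X.Modules} {x : X} {t : L.presheaf.stalk x}
    (ht : IsFreeGen L x t) {t' : L.presheaf.stalk x}
    (ht' : Submodule.span (X.presheaf.stalk x) {t'} = ⊤) :
    ∃ u : X.presheaf.stalk x, IsUnit u ∧ t' = u • t := by
  obtain ⟨a, ha⟩ := ht.1 t'
  have hmem : t ∈ Submodule.span (X.presheaf.stalk x) {t'} := by rw [ht']; trivial
  obtain ⟨b, hb⟩ := Submodule.mem_span_singleton.mp hmem
  refine ⟨a, ?_, ha⟩
  have h1 : (b * a - 1) • t = 0 := by
    rw [sub_smul, mul_smul, ← ha, hb, one_smul, sub_self]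
  have h2 := ht.2 _ h1
  exact IsUnit.of_mul_eq_one b ((mul_comm _ _).trans (sub_eq_zero.mp h2))

theorem exists_isFreeGen {L : X.Modules} (hL : PicF.IsInvertible L) (x : X) :
    ∃ t : L.presheaf.stalk x, IsFreeGen L x t := by
  obtain ⟨W, -, hxW, e, he⟩ := exists_isGen hL x
  exact ⟨_, stalk_gen he hxW⟩

/-- Free generators specialize to free generators. -/
theorem IsFreeGen.stalkSpecializes {L : X.Modules} (hL : PicF.IsInvertible L) {x ξ : X}
    (h : ξ ⤳ x) {t : L.presheaf.stalk x} (ht : IsFreeGen L x t) :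
    IsFreeGen L ξ (L.presheaf.stalkSpecializes h t) := by
  obtain ⟨W, -, hxW, e, he⟩ := exists_isGen hL x
  have h1 : IsFreeGen L x (L.presheaf.germ W x hxW e) := stalk_gen he hxW
  obtain ⟨u, hu, rfl⟩ := h1.exists_unit ht.span_eq_top
  rw [stalkSpecializes_smul, stalkSpecializes_germ]
  exact IsFreeGen.smul_unit (stalk_gen he (h.mem_open W.isOpen hxW))
    (hu.map (X.presheaf.stalkSpecializes h).hom)

/-- The class of a germ in the fibre `L(ξ)`. -/
noncomputable abbrev fmk (L : X.Modules) (ξ : X) (z : L.presheaf.stalk ξ) : Cyc.secFibre L ξ :=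
  Submodule.Quotient.mk z

theorem IsFreeGen.fibre_surj {L : X.Modules} {ξ : X} {t : L.presheaf.stalk ξ}
    (ht : IsFreeGen L ξ t) (s : Cyc.secFibre L ξ) :
    ∃ φ : X.presheaf.stalk ξ, s = φ • fmk L ξ t := by
  obtain ⟨z, rfl⟩ := Submodule.Quotient.mk_surjective _ s
  obtain ⟨a, rfl⟩ := ht.1 z
  exact ⟨a, rfl⟩

theorem IsFreeGen.fibre_smul_eq_zero_iff {L : X.Modules} {ξ : X} {t : L.presheaf.stalk ξ}
    (ht : IsFreeGen L ξ t) (φ : X.presheaf.stalk ξ) :
    φ • fmk L ξ t = 0 ↔ φ ∈ IsLocalRing.maximalIdeal (X.presheaf.stalk ξ) := by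
  have hmk : φ • fmk L ξ t = fmk L ξ (φ • t) := rfl
  rw [hmk]
  change Submodule.Quotient.mk (φ • t) = (0 : Cyc.secFibre L ξ) ↔ _
  rw [Submodule.Quotient.mk_eq_zero]
  constructor
  · intro hmem
    have key : ∀ z ∈ (IsLocalRing.maximalIdeal (X.presheaf.stalk ξ) •
        (⊤ : Submodule (X.presheaf.stalk ξ) (L.presheaf.stalk ξ))),
        ∃ a ∈ IsLocalRing.maximalIdeal (X.presheaf.stalk ξ), z = a • t := by
      intro z hz
      refine Submodule.smul_induction_on hz ?_ ?_
      · intro r hr n _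
        obtain ⟨b, rfl⟩ := ht.1 n
        exact ⟨r * b, Ideal.mul_mem_right _ _ hr, by rw [mul_smul]⟩
      · rintro z₁ z₂ ⟨a₁, ha₁, rfl⟩ ⟨a₂, ha₂, rfl⟩
        exact ⟨a₁ + a₂, Ideal.add_mem _ ha₁ ha₂, (add_smul _ _ _).symm⟩
    obtain ⟨a, ha, hat⟩ := key _ hmem
    have h0 : (φ - a) • t = 0 := by rw [sub_smul, hat, sub_self]
    have := ht.2 _ h0
    rw [sub_eq_zero.mp this]
    exact ha
  · intro hφ
    exact Submodule.smul_mem_smul hφ trivial

theorem IsFreeGen.fibre_smul_eq_iff {L : X.Modules} {ξ : X} {t : L.presheaf.stalk ξ}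
    (ht : IsFreeGen L ξ t) (φ ψ : X.presheaf.stalk ξ) :
    φ • fmk L ξ t = ψ • fmk L ξ t ↔ X.residue ξ φ = X.residue ξ ψ := by
  rw [← sub_eq_zero, ← sub_smul, ht.fibre_smul_eq_zero_iff, ← sub_eq_zero (a := X.residue ξ φ),
    ← map_sub]
  exact (IsLocalRing.residue_eq_zero_iff _).symm

/-- Multiplying by the image of a unit does not change the order. -/
theorem ordFrac_mul_unit (R : Type u) [CommRing R] (K : Type u) [Field K] [Algebra R K] (a : K)
    {v : R} (hv : IsUnit v) :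
    CycAlg.ordFrac R K (a * algebraMap R K v) = CycAlg.ordFrac R K a := by
  unfold CycAlg.ordFrac
  split_ifs with hc
  · haveI := hc.1
    haveI := hc.2.1
    haveI := hc.2.2.1
    haveI := hc.2.2.2
    haveI : IsDomain R := (IsFractionRing.injective R K).isDomain _
    rw [map_mul, Ring.ordFrac_of_isUnit hv, mul_one]
  · rfl

/-- Computing `secOrdAt` with any free generator and any coefficient. -/
theorem secOrdAt_eq {L : X.Modules} (hL : PicF.IsInvertible L) {x ξ : X} (h : ξ ⤳ x)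
    (s : Cyc.secFibre L ξ) {t : L.presheaf.stalk x} (ht : IsFreeGen L x t)
    (φ : X.presheaf.stalk ξ) (hφ : s = φ • fmk L ξ (L.presheaf.stalkSpecializes h t)) :
    Cyc.secOrdAt L ξ x h s = Cyc.ordAt x ξ h (X.residue ξ φ) := by
  unfold Cyc.secOrdAt
  have ht₀ : ∃ t : L.presheaf.stalk x, Submodule.span (X.presheaf.stalk x) {t} = ⊤ :=
    ⟨t, ht.span_eq_top⟩
  rw [dif_pos ht₀]
  have hspan := Classical.choose_spec ht₀
  obtain ⟨u, hu, htu⟩ := ht.exists_unit hspan
  have hfree : IsFreeGen L ξ (L.presheaf.stalkSpecializes h t) := ht.stalkSpecializes hL h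
  have hfree0 : IsFreeGen L ξ (L.presheaf.stalkSpecializes h (Classical.choose ht₀)) := by
    rw [htu]
    exact (ht.smul_unit hu).stalkSpecializes hL h
  have hφ₀ : ∃ φ₀ : X.presheaf.stalk ξ,
      s = φ₀ • (Submodule.Quotient.mk ((L.presheaf.stalkSpecializes h) (Classical.choose ht₀)) :
        Cyc.secFibre L ξ) := hfree0.fibre_surj s
  rw [dif_pos hφ₀]
  have hspec := Classical.choose_spec hφ₀
  generalize Classical.choose hφ₀ = φ₀ at hspec ⊢
  have h1 : (Submodule.Quotient.mk ((L.presheaf.stalkSpecializes h) (Classical.choose ht₀)) :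
      Cyc.secFibre L ξ) = X.presheaf.stalkSpecializes h u •
        fmk L ξ (L.presheaf.stalkSpecializes h t) := by
    rw [htu, stalkSpecializes_smul]
    rfl
  rw [h1, smul_smul] at hspec
  have h2 := (hfree.fibre_smul_eq_iff _ _).mp (hφ.symm.trans hspec)
  rw [h2, map_mul]
  unfold Cyc.ordAt
  have h3 : X.residue ξ (X.presheaf.stalkSpecializes h u) =
      algebraMap (Cyc.LocQuot x ξ h) (X.residueField ξ)
        (Ideal.Quotient.mk (RingHom.ker (Cyc.specMap x ξ h)) u) := by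
    rw [OrdFlatH8.algebraMap_locQuot_mk]
    rfl
  rw [h3]
  exact (ordFrac_mul_unit (Cyc.LocQuot x ξ h) (X.residueField ξ) _
    (hu.map (Ideal.Quotient.mk _))).symm

end SecOrdH8
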