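import Mathlib
import Groth.Prelude
import Groth.Agent.Lib.OrdFlat1_helper8
import Groth.Agent.Lib.MultDim1_helper9

/-!
# The local ring at a generization is a localization of the local ring (helper8).
APPEND-ONLY once landed.
-/

set_option autoImplicit false
universe u

open CategoryTheory AlgebraicGeometry TopologicalSpace Opposite

namespace StalkLoczH8

variable {X : Scheme.{u}}

theorem mem_ker_specMap_iff {x ξ : X} (h : ξ ⤳ x) (a : X.presheaf.stalk x) :
    a ∈ RingHom.ker (Cyc.specMap x ξ h) ↔
      X.presheaf.stalkSpecializes h a ∈ IsLocalRing.maximalIdeal (X.presheaf.stalk ξ) := by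
  rw [RingHom.mem_ker]
  change X.residue ξ (X.presheaf.stalkSpecializes h a) = 0 ↔ _
  exact IsLocalRing.residue_eq_zero_iff _

/-- `O_{X,ξ}` is the localization of `O_{X,x}` at the prime of the generization `ξ`. -/
theorem isLocalization_stalkSpecializes {x ξ : X} (h : ξ ⤳ x) :
    @IsLocalization.AtPrime _ _ (X.presheaf.stalk ξ) _
      (X.presheaf.stalkSpecializes h).hom.toAlgebra (RingHom.ker (Cyc.specMap x ξ h))
      (RingHom.ker_isPrime _) := by
  obtain ⟨_, ⟨U, hU : IsAffineOpen U, rfl⟩, hxU, -⟩ :=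
    X.isBasis_affineOpens.exists_subset_of_mem_open (Set.mem_univ x) isOpen_univ
  have hξU : ξ ∈ U := h.mem_open U.isOpen hxU
  letI algx : Algebra Γ(X, U) (X.presheaf.stalk x) :=
    TopCat.Presheaf.algebra_section_stalk X.presheaf (⟨x, hxU⟩ : ↥U)
  letI algξ : Algebra Γ(X, U) (X.presheaf.stalk ξ) :=
    TopCat.Presheaf.algebra_section_stalk X.presheaf (⟨ξ, hξU⟩ : ↥U)
  letI alg : Algebra (X.presheaf.stalk x) (X.presheaf.stalk ξ) :=
    (X.presheaf.stalkSpecializes h).hom.toAlgebra
  have hsp : ∀ c : Γ(X, U), X.presheaf.stalkSpecializes h (X.presheaf.germ U x hxU c) =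
      X.presheaf.germ U ξ hξU c := by
    intro c
    rw [← ConcreteCategory.comp_apply, X.presheaf.germ_stalkSpecializes]
  haveI : IsScalarTower Γ(X, U) (X.presheaf.stalk x) (X.presheaf.stalk ξ) :=
    IsScalarTower.of_algebraMap_eq (fun r => (hsp r).symm)
  haveI locx : IsLocalization.AtPrime (X.presheaf.stalk x) (hU.primeIdealOf ⟨x, hxU⟩).asIdeal :=
    hU.isLocalization_stalk ⟨x, hxU⟩
  haveI locξ : IsLocalization.AtPrime (X.presheaf.stalk ξ) (hU.primeIdealOf ⟨ξ, hξU⟩).asIdeal :=
    hU.isLocalization_stalk ⟨ξ, hξU⟩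
  have hle : (hU.primeIdealOf ⟨x, hxU⟩).asIdeal.primeCompl ≤
      (hU.primeIdealOf ⟨ξ, hξU⟩).asIdeal.primeCompl := by
    intro r hr hrξ
    have hu : IsUnit (X.presheaf.germ U x hxU r) :=
      IsLocalization.map_units (X.presheaf.stalk x)
        (⟨r, hr⟩ : (hU.primeIdealOf ⟨x, hxU⟩).asIdeal.primeCompl)
    have hu' : IsUnit (X.presheaf.germ U ξ hξU r) := by
      rw [← hsp]
      exact hu.map (X.presheaf.stalkSpecializes h).hom
    have hm : X.presheaf.germ U ξ hξU r ∈ IsLocalRing.maximalIdeal (X.presheaf.stalk ξ) := by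
      rw [hU.primeIdealOf_eq_map_closedPoint] at hrξ
      exact hrξ
    exact ((IsLocalRing.mem_maximalIdeal _).mp hm) hu'
  haveI h1 := IsLocalization.isLocalization_of_submonoid_le (X.presheaf.stalk x)
    (X.presheaf.stalk ξ) (hU.primeIdealOf ⟨x, hxU⟩).asIdeal.primeCompl
    (hU.primeIdealOf ⟨ξ, hξU⟩).asIdeal.primeCompl hle
  haveI : (RingHom.ker (Cyc.specMap x ξ h)).IsPrime := RingHom.ker_isPrime _
  refine IsLocalization.of_le (M := (hU.primeIdealOf ⟨ξ, hξU⟩).asIdeal.primeCompl.map
    (algebraMap Γ(X, U) (X.presheaf.stalk x))) (S := X.presheaf.stalk ξ)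
    (RingHom.ker (Cyc.specMap x ξ h)).primeCompl ?_ ?_
  · rintro _ ⟨r, hr, rfl⟩
    change X.presheaf.germ U x hxU r ∉ RingHom.ker (Cyc.specMap x ξ h)
    rw [mem_ker_specMap_iff, hsp]
    have hu : IsUnit (X.presheaf.germ U ξ hξU r) :=
      IsLocalization.map_units (X.presheaf.stalk ξ)
        (⟨r, hr⟩ : (hU.primeIdealOf ⟨ξ, hξU⟩).asIdeal.primeCompl)
    exact fun hm => ((IsLocalRing.mem_maximalIdeal _).mp hm) hu
  · intro a ha
    have ha' : a ∉ RingHom.ker (Cyc.specMap x ξ h) := ha
    rw [mem_ker_specMap_iff] at ha'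
    exact IsLocalRing.notMem_maximalIdeal.mp ha'

open Groth.Agent.MultDim1 in
/-- The length of the localization of a ring at a prime, computed in any model. -/
theorem lam_self_eq {A : Type u} [CommRing A] (P : Ideal A) [P.IsPrime] (T : Type u) [CommRing T]
    [Algebra A T] [IsLocalization.AtPrime T P] : lam P A = Module.length T T := by
  unfold lam
  -- step 1: the localized module of `A` is the localization
  let e₁ : LocalizedModule P.primeCompl A ≃ₗ[A] Localization.AtPrime P :=
    IsLocalizedModule.iso P.primeCompl (Algebra.linearMap A (Localization.AtPrime P))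
  let e₂ : LocalizedModule P.primeCompl A ≃ₗ[Localization.AtPrime P] Localization.AtPrime P :=
    e₁.extendScalarsOfIsLocalization P.primeCompl (Localization.AtPrime P)
  rw [e₂.length_eq]
  -- step 2: transport along the ring isomorphism
  let e : Localization.AtPrime P ≃ₐ[A] T := IsLocalization.algEquiv P.primeCompl _ _
  letI : Algebra (Localization.AtPrime P) T := e.toRingEquiv.toRingHom.toAlgebra
  have hsurj : Function.Surjective (algebraMap (Localization.AtPrime P) T) := e.surjective
  rw [← Module.length_eq_of_surjective (S := Localization.AtPrime P) (R := T) (M := T) hsurj]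
  let e₃ : Localization.AtPrime P ≃ₗ[Localization.AtPrime P] T :=
    { e.toRingEquiv.toAddEquiv with
      map_smul' := by
        intro a b
        change e (a * b) = e a * e b
        exact map_mul e a b }
  exact e₃.length_eq

end StalkLoczH8
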