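import Mathlib
import Groth.Prelude
import Groth.Agent.Lib.NormHart1_helper8
import Groth.Agent.Lib.Hartogs_helper5
import Groth.Agent.Lib.StalkLocz1_helper8
import Groth.Agent.Lib.SecOrd1_helper8

set_option autoImplicit false
universe u

open CategoryTheory AlgebraicGeometry TopologicalSpace Opposite IsLocalRing

/-! Hartogs for the local rings of a normal scheme: a rational function lying in the local rings
of all generizations of codimension at most one lies in the local ring. -/

namespace NormHartH8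

variable {X : Scheme.{u}}

theorem specializes_of_le {U : X.Opens} (hU : IsAffineOpen U) {y z : X} (hy : y ∈ U) (hz : z ∈ U)
    (h : (hU.primeIdealOf ⟨y, hy⟩).asIdeal ≤ (hU.primeIdealOf ⟨z, hz⟩).asIdeal) : y ⤳ z := by
  have h1 : hU.primeIdealOf ⟨y, hy⟩ ⤳ hU.primeIdealOf ⟨z, hz⟩ :=
    (PrimeSpectrum.le_iff_specializes _ _).mp h
  have h2 := h1.map hU.fromSpec.continuous
  rw [hU.fromSpec_primeIdealOf, hU.fromSpec_primeIdealOf] at h2
  exact h2

theorem isLocalization_atPrime_congr {R T : Type u} [CommRing R] [CommRing T] [Algebra R T]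
    {I J : Ideal R} [hI : I.IsPrime] [hJ : J.IsPrime] (e : I = J)
    (h : IsLocalization.AtPrime T I) : IsLocalization.AtPrime T J := by
  subst e
  exact h

theorem stalk_hartogs [IsIntegral X] [IsLocallyNoetherian X] (hX : Pi1.IsNormalScheme X) (z : X)
    (α : X.functionField)
    (h : ∀ y : X, y ⤳ z → Order.coheight y ≤ 1 →
      ∃ b : X.presheaf.stalk y, algebraMap (X.presheaf.stalk y) X.functionField b = α) :
    ∃ b : X.presheaf.stalk z, algebraMap (X.presheaf.stalk z) X.functionField b = α := by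
  haveI : IsIntegrallyClosed (X.presheaf.stalk z) := (hX z).2
  obtain ⟨_, ⟨U, hU : IsAffineOpen U, rfl⟩, hzU, -⟩ :=
    (X.isBasis_affineOpens).exists_subset_of_mem_open (Set.mem_univ z) isOpen_univ
  have hzU' : z ∈ U := hzU
  haveI : Nonempty U := ⟨⟨z, hzU'⟩⟩
  letI algz : Algebra Γ(X, U) (X.presheaf.stalk z) :=
    TopCat.Presheaf.algebra_section_stalk X.presheaf (⟨z, hzU'⟩ : U)
  haveI locz : IsLocalization.AtPrime (X.presheaf.stalk z)
      (hU.primeIdealOf ⟨z, hzU'⟩).asIdeal := hU.isLocalization_stalk ⟨z, hzU'⟩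
  haveI towz : IsScalarTower Γ(X, U) (X.presheaf.stalk z) X.functionField :=
    functionField_isScalarTower X U ⟨z, hzU'⟩
  apply exists_algebraMap_eq_of_forall_pid' (R := X.presheaf.stalk z) (K := X.functionField) α
  intro P' hP' hpid
  set P : Ideal Γ(X, U) := P'.comap (algebraMap Γ(X, U) (X.presheaf.stalk z)) with hPdef
  haveI hPprime : P.IsPrime := Ideal.comap_isPrime _ _
  obtain ⟨y, hyU, hyP⟩ := Groth.Agent.Hartogs.exists_point hU P
  letI algy : Algebra Γ(X, U) (X.presheaf.stalk y) :=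
    TopCat.Presheaf.algebra_section_stalk X.presheaf (⟨y, hyU⟩ : U)
  haveI locy : IsLocalization.AtPrime (X.presheaf.stalk y)
      (hU.primeIdealOf ⟨y, hyU⟩).asIdeal := hU.isLocalization_stalk ⟨y, hyU⟩
  haveI towy : IsScalarTower Γ(X, U) (X.presheaf.stalk y) X.functionField :=
    functionField_isScalarTower X U ⟨y, hyU⟩
  -- `y` specializes to `z`
  have hPle : P ≤ (hU.primeIdealOf ⟨z, hzU'⟩).asIdeal := by
    intro a ha
    have h1 : algebraMap Γ(X, U) (X.presheaf.stalk z) a ∈ maximalIdeal (X.presheaf.stalk z) :=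
      le_maximalIdeal hP'.ne_top ha
    exact (IsLocalization.AtPrime.to_map_mem_maximal_iff (X.presheaf.stalk z)
      (hU.primeIdealOf ⟨z, hzU'⟩).asIdeal a).mp h1
  have hyz : y ⤳ z := specializes_of_le hU hyU hzU' (hyP ▸ hPle)
  -- the prime `P'` is the prime of the generization `y`
  have hspec : ∀ a₀ : Γ(X, U), X.presheaf.stalkSpecializes hyz
      (algebraMap Γ(X, U) (X.presheaf.stalk z) a₀) = algebraMap Γ(X, U) (X.presheaf.stalk y) a₀ :=
    fun a₀ => SecOrdH8.stalkSpecializes_germX hyz U hzU' a₀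
  have hker : RingHom.ker (Cyc.specMap z y hyz) = P' := by
    ext a
    rw [StalkLoczH8.mem_ker_specMap_iff]
    obtain ⟨⟨a₀, s₀⟩, has⟩ := IsLocalization.surj
      (hU.primeIdealOf ⟨z, hzU'⟩).asIdeal.primeCompl a
    have hsu : IsUnit (algebraMap Γ(X, U) (X.presheaf.stalk z) s₀.1) :=
      IsLocalization.map_units _ s₀
    have hs₀P : s₀.1 ∉ (hU.primeIdealOf ⟨y, hyU⟩).asIdeal := fun hmem => s₀.2 (hPle (hyP ▸ hmem))
    have hsu' : IsUnit (algebraMap Γ(X, U) (X.presheaf.stalk y) s₀.1) :=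
      IsLocalization.map_units (X.presheaf.stalk y)
        (⟨s₀.1, hs₀P⟩ : (hU.primeIdealOf ⟨y, hyU⟩).asIdeal.primeCompl)
    have h1 : a ∈ P' ↔ a₀ ∈ P := by
      rw [hPdef, Ideal.mem_comap, ← has]
      exact (Ideal.mul_unit_mem_iff_mem P' hsu).symm
    have h2 : X.presheaf.stalkSpecializes hyz a ∈ maximalIdeal (X.presheaf.stalk y) ↔
        algebraMap Γ(X, U) (X.presheaf.stalk y) a₀ ∈ maximalIdeal (X.presheaf.stalk y) := by
      rw [← hspec a₀, ← has, map_mul, hspec]
      exact (Ideal.mul_unit_mem_iff_mem _ hsu').symm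
    rw [h1, h2, ← hyP]
    exact IsLocalization.AtPrime.to_map_mem_maximal_iff (X.presheaf.stalk y)
      (hU.primeIdealOf ⟨y, hyU⟩).asIdeal a₀
  -- the local ring at `y` is a principal ideal ring
  haveI : IsPrincipalIdealRing (X.presheaf.stalk y) := by
    letI : Algebra (X.presheaf.stalk z) (X.presheaf.stalk y) :=
      (X.presheaf.stalkSpecializes hyz).hom.toAlgebra
    haveI : (RingHom.ker (Cyc.specMap z y hyz)).IsPrime := RingHom.ker_isPrime _
    haveI hloc := isLocalization_atPrime_congr hker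
      (StalkLoczH8.isLocalization_stalkSpecializes hyz)
    exact hpid (X.presheaf.stalk y)
  have hcoh : Order.coheight y ≤ 1 := by
    have h1 : ringKrullDim (X.presheaf.stalk y) ≤ 1 := by
      have : Ring.KrullDimLE 1 (X.presheaf.stalk y) := inferInstance
      rwa [Ring.krullDimLE_iff] at this
    rw [ringKrullDim_stalk_eq_coheight] at h1
    exact_mod_cast h1
  obtain ⟨b, hb⟩ := h y hyz hcoh
  obtain ⟨⟨b₀, s₀⟩, hbs⟩ := IsLocalization.surj (hU.primeIdealOf ⟨y, hyU⟩).asIdeal.primeCompl b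
  refine ⟨algebraMap Γ(X, U) (X.presheaf.stalk z) s₀.1, ?_,
    algebraMap Γ(X, U) (X.presheaf.stalk z) b₀, ?_⟩
  · intro hs
    have : s₀.1 ∈ P := hs
    rw [← hyP] at this
    exact s₀.2 this
  · rw [← IsScalarTower.algebraMap_apply, ← IsScalarTower.algebraMap_apply, ← hb,
      IsScalarTower.algebraMap_apply Γ(X, U) (X.presheaf.stalk y) X.functionField s₀.1,
      IsScalarTower.algebraMap_apply Γ(X, U) (X.presheaf.stalk y) X.functionField b₀,
      ← map_mul, hbs]

end NormHartH8
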