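import Mathlib
import Groth.Prelude

set_option autoImplicit false
universe u

open CategoryTheory AlgebraicGeometry TopologicalSpace Opposite

/-! Basic facts on the sheaf Hom `RefHull.homSh`. -/

namespace RefHullH8

variable {X : Scheme.{u}}

theorem homSh_ext {F G : X.Modules} {U : X.Opens} (l l' : Γ(RefHull.homSh F G, U))
    (h : ∀ y : U, l.1 y = l'.1 y) : l = l' :=
  Subtype.ext (funext h)

theorem homSh_zero_apply {F G : X.Modules} {U : X.Opens} (y : U) :
    (0 : Γ(RefHull.homSh F G, U)).1 y = 0 := rfl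

theorem homSh_smul_apply {F G : X.Modules} {U : X.Opens} (r : Γ(X, U))
    (l : Γ(RefHull.homSh F G, U)) (y : U) :
    (r • l).1 y = X.presheaf.germ U y.1 y.2 r • l.1 y := rfl

theorem homSh_map_apply {F G : X.Modules} {U V : X.Opens} (i : V ⟶ U)
    (l : Γ(RefHull.homSh F G, U)) (y : V) :
    ((RefHull.homSh F G).presheaf.map i.op l).1 y = l.1 ⟨y.1, i.le y.2⟩ := rfl

theorem homSh_add_apply {F G : X.Modules} {U : X.Opens}
    (l l' : Γ(RefHull.homSh F G, U)) (y : U) :
    (l + l').1 y = l.1 y + l'.1 y := rfl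

/-- Torsion-freeness of the stalks of the sheaf Hom into a torsion-free module on an integral
scheme. -/
theorem homSh_stalk_smul_eq_zero [IsIntegral X] (F G : X.Modules) (hGt : TorSh.IsTorsionFree G)
    (x : X) (a : X.presheaf.stalk x) (ha : a ≠ 0) (θ : (RefHull.homSh F G).presheaf.stalk x)
    (h : a • θ = 0) : θ = 0 := by
  obtain ⟨Ua, hxa, r, rfl⟩ := TopCat.Presheaf.exists_germ_eq X.presheaf a
  obtain ⟨Ut, hxt, l, rfl⟩ := TopCat.Presheaf.exists_germ_eq (RefHull.homSh F G).presheaf θ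
  have hx : x ∈ Ua ⊓ Ut := ⟨hxa, hxt⟩
  set r' := X.presheaf.map (homOfLE (inf_le_left : Ua ⊓ Ut ≤ Ua)).op r with hr'
  set l' := (RefHull.homSh F G).presheaf.map (homOfLE (inf_le_right : Ua ⊓ Ut ≤ Ut)).op l with hl'
  have e1 : X.presheaf.germ (Ua ⊓ Ut) x hx r' = X.presheaf.germ Ua x hxa r :=
    TopCat.Presheaf.germ_res_apply X.presheaf _ x hx r
  have e2 : (RefHull.homSh F G).presheaf.germ (Ua ⊓ Ut) x hx l' =
      (RefHull.homSh F G).presheaf.germ Ut x hxt l :=
    TopCat.Presheaf.germ_res_apply (RefHull.homSh F G).presheaf _ x hx l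
  have e3 : (RefHull.homSh F G).presheaf.germ (Ua ⊓ Ut) x hx (r' • l') = 0 := by
    rw [Mero.germ_smul, e1, e2, h]
  have e4 : (RefHull.homSh F G).presheaf.germ (Ua ⊓ Ut) x hx (r' • l') =
      (RefHull.homSh F G).presheaf.germ (Ua ⊓ Ut) x hx 0 := by rw [e3, map_zero]
  obtain ⟨W, hxW, i1, i2, e5⟩ := TopCat.Presheaf.germ_eq (RefHull.homSh F G).presheaf x hx hx _ _ e4
  rw [← e2]
  have hz : (RefHull.homSh F G).presheaf.map i1.op l' = 0 := by
    apply homSh_ext
    intro y
    rw [homSh_map_apply, homSh_zero_apply]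
    have hy := congrArg (fun s => s.1 y) e5
    simp only [homSh_map_apply, homSh_smul_apply, map_zero, homSh_zero_apply] at hy
    have hne : X.presheaf.germ (Ua ⊓ Ut) y.1 (i1.le y.2) r' ≠ 0 := by
      intro h0
      have : r' = 0 := germ_injective_of_isIntegral X y.1 (i1.le y.2) (by rw [h0, map_zero])
      apply ha
      rw [← e1, this, map_zero]
    apply LinearMap.ext
    intro g
    have hg := LinearMap.congr_fun hy g
    rw [LinearMap.smul_apply, LinearMap.zero_apply] at hg
    haveI := hGt y.1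
    haveI : IsDomain (X.presheaf.stalk y.1) := inferInstance
    exact (smul_eq_zero.mp hg).resolve_left hne
  rw [← TopCat.Presheaf.germ_res_apply (RefHull.homSh F G).presheaf i1 x hxW l', hz, map_zero]

theorem isTorsionFree_homSh [IsIntegral X] (F G : X.Modules) (hGt : TorSh.IsTorsionFree G) :
    TorSh.IsTorsionFree (RefHull.homSh F G) := by
  intro x
  refine ⟨fun a ha => ?_⟩
  intro θ θ' h
  have h' : a • (θ - θ') = 0 := by
    rw [smul_sub]; exact sub_eq_zero.mpr h
  have hne : a ≠ 0 := ha.ne_zero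
  exact sub_eq_zero.mp (homSh_stalk_smul_eq_zero F G hGt x a hne _ h')

end RefHullH8
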