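import Mathlib
import Groth.Prelude
import Groth.Agent.Lib.QCohFT_helper9
import Groth.Agent.Lib.EpiLoc_helper9
import Groth.Agent.Lib.SecOrd1_helper8

set_option autoImplicit false
universe u

open CategoryTheory AlgebraicGeometry TopologicalSpace Opposite
open QcqsLoc

/-! Finite type modules are locally spanned by finitely many sections. -/

namespace RefHullH8

variable {X : Scheme.{u}}

theorem restrict_smul_eq (F : X.Modules) (W : X.Opens) (V' : (W : Scheme.{u}).Opens)
    (c : Γ((W : Scheme.{u}), V')) (z : Γ(F.restrict W.ι, V')) :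
    (c • z : Γ(F.restrict W.ι, V')) =
      (show Γ(X, W.ι ''ᵁ V') from c) • (show Γ(F, W.ι ''ᵁ V') from z) := by
  have h1 : (c • z : Γ(F.restrict W.ι, V')) =
      ((W.ι.appIso V').inv.hom c) • (show Γ(F, W.ι ''ᵁ V') from z) := rfl
  rw [h1, Scheme.Opens.ι_appIso]
  rfl

theorem restrict_smul_eq' (F : X.Modules) (W : X.Opens) (V' : (W : Scheme.{u}).Opens)
    (c : ((W : Scheme.{u}).ringCatSheaf.obj.obj (op V') : Type u))
    (z : (F.restrict W.ι).val.obj (op V')) :
    (c • z : (F.restrict W.ι).val.obj (op V')) =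
      (show Γ(X, W.ι ''ᵁ V') from c) • (show Γ(F, W.ι ''ᵁ V') from z) :=
  restrict_smul_eq F W V' c z

/-- The germs of the sections `m i` span all the stalks over `V`. -/
def SpansOn (F : X.Modules) (V : X.Opens) {ι : Type} (m : ι → Γ(F, V)) : Prop :=
  ∀ (y : X) (hy : y ∈ V), Submodule.span (X.presheaf.stalk y)
    (Set.range fun i => F.presheaf.germ V y hy (m i)) = ⊤

set_option backward.isDefEq.respectTransparency false in
theorem exists_spansOn (F : X.Modules) (hF : CohB1.IsFT F) (x : X) :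
    ∃ (V : X.Opens) (_ : x ∈ V) (n : ℕ) (m : Fin n → Γ(F, V)), SpansOn F V m := by
  obtain ⟨σ, hσ⟩ := SheafOfModules.IsFiniteType.exists_localGeneratorsData (R := X.ringCatSheaf) F
  have hcov := σ.coversTop
  rw [Opens.coversTop_iff] at hcov
  have hx' : x ∈ (⨆ i, σ.X i : X.Opens) := by rw [hcov]; trivial
  simp only [Opens.mem_iSup] at hx'
  obtain ⟨i, hxi⟩ := hx'
  let W : X.Opens := σ.X i
  let G := QCohFT.generatingSectionsRestrict F W W le_rfl (σ.generators i)
  haveI hfin : Finite G.I := by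
    rw [QCohFT.generatingSectionsRestrict_I]
    exact (hσ.isFiniteType i).finite
  haveI : Epi G.π := G.epi
  classical
  haveI := Fintype.ofFinite G.I
  let e : G.I ≃ Fin (Fintype.card G.I) := Fintype.equivFin G.I
  -- the sections
  let g : G.I → Γ(F, W.ι ''ᵁ ⊤) := fun j =>
    QCohFT.secHom _ _ ⊤ (SheafOfModules.ιFree j ≫ G.π)
      (1 : ((W : Scheme.{u}).ringCatSheaf.obj.obj (op ⊤) : Type u))
  have hxV : x ∈ W.ι ''ᵁ ⊤ := by rw [Scheme.Opens.ι_image_top]; exact hxi
  refine ⟨W.ι ''ᵁ ⊤, hxV, Fintype.card G.I, fun k => g (e.symm k), ?_⟩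
  intro y hy
  rw [eq_top_iff]
  intro z _
  obtain ⟨O, hyO, s, rfl⟩ := TopCat.Presheaf.exists_germ_eq F.presheaf z
  have hyW : y ∈ W := by rw [Scheme.Opens.ι_image_top] at hy; exact hy
  let y' : (W : Scheme.{u}) := ⟨y, hyW⟩
  let U' : (W : Scheme.{u}).Opens := W.ι ⁻¹ᵁ O
  have h : W.ι ''ᵁ U' ≤ O := by
    rintro _ ⟨a, ha, rfl⟩
    exact ha
  have hy'U' : y' ∈ U' := hyO
  let s' : Γ(F.restrict W.ι, U') := rF F h s
  obtain ⟨V', hV', hy'V', t, ht⟩ := EpiLoc.exists_local_lift G.π s' hy'U'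
  have hsp := QCohFT.range_le_span G.π V' t
  obtain ⟨c, hc⟩ := (Submodule.mem_span_range_iff_exists_fun _).1 hsp
  have hyV'' : y ∈ W.ι ''ᵁ V' := ⟨y', hy'V', rfl⟩
  have hle1 : W.ι ''ᵁ V' ≤ O := (W.ι.image_mono hV').trans h
  have hle2 : W.ι ''ᵁ V' ≤ W.ι ''ᵁ ⊤ := W.ι.image_mono le_top
  -- the germ of s
  have e1 : F.presheaf.germ O y hyO s = F.presheaf.germ (W.ι ''ᵁ V') y hyV'' (rF F hle1 s) :=
    (SecOrdH8.germ_rF F hle1 y hyV'' s).symm
  have e2 : rF F hle1 s = ∑ j : G.I, (show Γ(X, W.ι ''ᵁ V') from c j) • rF F hle2 (g j) := by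
    have h1 : rF F hle1 s = (F.restrict W.ι).presheaf.map (homOfLE hV').op s' := by
      change _ = rF F (W.ι.image_mono hV') (rF F h s)
      rw [rF_rF]
    rw [h1, ← ht]
    change QCohFT.secHom _ _ V' G.π t = _
    rw [← hc]
    refine Finset.sum_congr rfl (fun j _ => ?_)
    have h2 : QCohFT.secHom _ _ V' (SheafOfModules.ιFree j ≫ G.π)
        (1 : ((W : Scheme.{u}).ringCatSheaf.obj.obj (op V') : Type u)) = rF F hle2 (g j) := by
      have hn := PresheafOfModules.naturality_apply (SheafOfModules.ιFree j ≫ G.π).val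
        (homOfLE (le_top : V' ≤ ⊤)).op
        (1 : ((W : Scheme.{u}).ringCatSheaf.obj.obj (op ⊤) : Type u))
      have h1 : ((SheafOfModules.unit (W : Scheme.{u}).ringCatSheaf).val.map
          (homOfLE (le_top : V' ≤ ⊤)).op).hom
          (1 : ((W : Scheme.{u}).ringCatSheaf.obj.obj (op ⊤) : Type u)) =
          (1 : ((W : Scheme.{u}).ringCatSheaf.obj.obj (op V') : Type u)) :=
        map_one ((W : Scheme.{u}).ringCatSheaf.obj.map (homOfLE (le_top : V' ≤ ⊤)).op).hom
      rw [h1] at hn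
      exact hn
    rw [h2]
    exact restrict_smul_eq' F W V' (c j) _
  rw [e1, e2, map_sum]
  refine Submodule.sum_mem _ (fun j _ => ?_)
  rw [Mero.germ_smul, SecOrdH8.germ_rF]
  refine Submodule.smul_mem _ _ (Submodule.subset_span ⟨e j, ?_⟩)
  simp

end RefHullH8
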