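import Mathlib
import Groth.Prelude
import Groth.Agent.Lib.RefHull1_helper8
import Groth.Agent.Lib.RefHull2_helper8

set_option autoImplicit false
universe u

open CategoryTheory AlgebraicGeometry TopologicalSpace Opposite
open QcqsLoc

/-! Injectivity of `evalStalk` for finite type modules. -/

namespace RefHullH8

variable {X : Scheme.{u}}

theorem mem_iInf_opens {ι : Type*} [Finite ι] (W : ι → X.Opens) (x : X) :
    x ∈ (⨅ i, W i : X.Opens) ↔ ∀ i, x ∈ W i := by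
  rw [← SetLike.mem_coe, Opens.coe_iInf]
  simp

theorem germ_eq_zero_iff (G : X.Modules) {U : X.Opens} (x : X) (hx : x ∈ U) (n : Γ(G, U)) :
    G.presheaf.germ U x hx n = 0 ↔ ∃ (W : X.Opens) (hW : W ≤ U), x ∈ W ∧ rF G hW n = 0 := by
  constructor
  · intro h
    have e4 : G.presheaf.germ U x hx n = G.presheaf.germ U x hx 0 := by rw [h, map_zero]
    obtain ⟨W, hxW, i1, i2, e5⟩ := TopCat.Presheaf.germ_eq G.presheaf x hx hx _ _ e4
    refine ⟨W, i1.le, hxW, ?_⟩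
    rw [map_zero] at e5
    exact e5
  · rintro ⟨W, hW, hxW, h⟩
    rw [← SecOrdH8.germ_rF G hW x hxW n, h, map_zero]

/-- The sections of the sheaf Hom whose value at `x` vanishes vanish near `x`, if the source is of
finite type. -/
theorem evalStalk_injective (F G : X.Modules) (hF : CohB1.IsFT F) (x : X) :
    Function.Injective (RefHull.evalStalk F G x) := by
  rw [injective_iff_map_eq_zero]
  intro θ hθ
  obtain ⟨U, hxU, l, rfl⟩ := TopCat.Presheaf.exists_germ_eq (RefHull.homSh F G).presheaf θ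
  rw [RefHull.evalStalk_germ] at hθ
  obtain ⟨V, hxV, n, m, hm⟩ := exists_spansOn F hF x
  have hV0 : V ⊓ U ≤ U := inf_le_right
  have hV1 : V ⊓ U ≤ V := inf_le_left
  have hx0 : x ∈ V ⊓ U := ⟨hxV, hxU⟩
  -- for each generator, a neighbourhood on which `l` kills it
  have key : ∀ i : Fin n, ∃ W : X.Opens, x ∈ W ∧ W ≤ V ⊓ U ∧
      ∀ (y : X) (hy : y ∈ W) (hyU : y ∈ U) (hyV : y ∈ V),
        l.1 ⟨y, hyU⟩ (F.presheaf.germ V y hyV (m i)) = 0 := by
    intro i
    obtain ⟨W, hxW, j, nn, hW⟩ :=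
      RefHull.isLocSect_of_mem l (V ⊓ U) (homOfLE hV0) (rF F hV1 (m i)) ⟨x, hx0⟩
    have h1 := hW ⟨x, hxW⟩
    have h2 : G.presheaf.germ W x hxW nn = 0 := by
      rw [← h1]
      change l.1 ⟨x, hxU⟩ _ = 0
      rw [hθ, LinearMap.zero_apply]
    obtain ⟨W', hW', hxW', h3⟩ := (germ_eq_zero_iff G x hxW nn).1 h2
    refine ⟨W', hxW', hW'.trans j.le, fun y hy hyU hyV => ?_⟩
    have h4 := hW ⟨y, hW' hy⟩
    have h5 : F.presheaf.germ (V ⊓ U) y (j.le (hW' hy)) (rF F hV1 (m i)) =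
        F.presheaf.germ V y hyV (m i) := SecOrdH8.germ_rF F hV1 y _ (m i)
    rw [h5] at h4
    change l.1 ⟨y, hyU⟩ _ = _ at h4
    rw [h4, ← SecOrdH8.germ_rF G hW' y hy nn, h3, map_zero]
  choose W hxW hWle hW using key
  set W₀ : X.Opens := (⨅ i, W i) ⊓ (V ⊓ U) with hW₀
  have hxW₀ : x ∈ W₀ := ⟨(mem_iInf_opens W x).2 hxW, hx0⟩
  have hW₀U : W₀ ≤ U := inf_le_right.trans hV0
  rw [← SecOrdH8.germ_rF (RefHull.homSh F G) hW₀U x hxW₀ l]
  have hz : rF (RefHull.homSh F G) hW₀U l = 0 := by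
    apply homSh_ext
    intro y
    change l.1 ⟨y.1, hW₀U y.2⟩ = 0
    have hyV : y.1 ∈ V := y.2.2.1
    have hyU : y.1 ∈ U := y.2.2.2
    have hsp := hm y.1 hyV
    apply LinearMap.ext_on hsp
    rintro _ ⟨i, rfl⟩
    rw [LinearMap.zero_apply]
    exact hW i y.1 ((mem_iInf_opens W y.1).1 y.2.1 i) hyU hyV
  rw [hz, map_zero]

end RefHullH8
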