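import Mathlib
import Groth.Prelude
import Groth.Agent.Lib.RefHull3_helper8
import Groth.Agent.Lib.Tens2_helper8

set_option autoImplicit false
universe u

open CategoryTheory AlgebraicGeometry TopologicalSpace Opposite
open QcqsLoc GenLocH8 SecOrdH8

/-! Local generators of the sheaf Hom of two modules with local generators. -/

namespace RefHullH8

variable {X : Scheme.{u}}

/-- Gluing a family of germs of functions which is locally the family of germs of a section. -/
theorem exists_section_of_germsX (O : X.Opens) (a : ∀ y : O, X.presheaf.stalk y.1)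
    (h : ∀ x : O, ∃ (W : X.Opens) (hW : W ≤ O) (_ : x.1 ∈ W) (r : Γ(X, W)),
      ∀ (y : X) (hy : y ∈ W), a ⟨y, hW hy⟩ = X.presheaf.germ W y hy r) :
    ∃ c : Γ(X, O), ∀ y : O, X.presheaf.germ O y.1 y.2 c = a y := by
  choose W hW hxW r hr using h
  have hcompat : TopCat.Presheaf.IsCompatible X.presheaf W r := by
    intro x x'
    refine TopCat.Presheaf.section_ext X.sheaf _ _ _ (fun z hz => ?_)
    change X.presheaf.germ _ z hz (X.presheaf.map (Opens.infLELeft (W x) (W x')).op (r x)) =
      X.presheaf.germ _ z hz (X.presheaf.map (Opens.infLERight (W x) (W x')).op (r x'))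
    rw [TopCat.Presheaf.germ_res_apply, TopCat.Presheaf.germ_res_apply]
    exact ((hr x z hz.1).symm.trans (hr x' z hz.2))
  have hcov : O ≤ ⨆ x, W x := by
    intro z hz
    exact Opens.mem_iSup.2 ⟨⟨z, hz⟩, hxW ⟨z, hz⟩⟩
  obtain ⟨t, ht, -⟩ := TopCat.Sheaf.existsUnique_gluing' X.sheaf W O
    (fun i => homOfLE (hW i)) hcov _ hcompat
  refine ⟨t, fun y => ?_⟩
  have h2 := ht y
  rw [hr y y.1 (hxW y), ← h2]
  exact (TopCat.Presheaf.germ_res_apply X.presheaf (homOfLE (hW y)) y.1 (hxW y) t).symm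

/-- The stalk with a free generator is free of rank one. -/
noncomputable def _root_.SecOrdH8.IsFreeGen.equiv {L : X.Modules} {y : X}
    {t : L.presheaf.stalk y} (ht : IsFreeGen L y t) :
    X.presheaf.stalk y ≃ₗ[X.presheaf.stalk y] L.presheaf.stalk y :=
  LinearEquiv.ofBijective (LinearMap.toSpanSingleton (X.presheaf.stalk y) _ t) (by
    constructor
    · rw [← LinearMap.ker_eq_bot, LinearMap.ker_eq_bot']
      intro a ha
      exact ht.2 a ha
    · intro z
      obtain ⟨a, rfl⟩ := ht.1 z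
      exact ⟨a, rfl⟩)

theorem _root_.SecOrdH8.IsFreeGen.equiv_apply {L : X.Modules} {y : X}
    {t : L.presheaf.stalk y} (ht : IsFreeGen L y t) (a : X.presheaf.stalk y) :
    ht.equiv a = a • t := rfl

/-- The linear map out of a stalk with a free generator determined by the image of the
generator. -/
noncomputable def _root_.SecOrdH8.IsFreeGen.lift {L : X.Modules} {y : X}
    {t : L.presheaf.stalk y}
    (ht : IsFreeGen L y t) {P : Type u} [AddCommGroup P] [Module (X.presheaf.stalk y) P] (p : P) :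
    L.presheaf.stalk y →ₗ[X.presheaf.stalk y] P :=
  (LinearMap.toSpanSingleton _ _ p).comp ht.equiv.symm.toLinearMap

theorem _root_.SecOrdH8.IsFreeGen.lift_smul {L : X.Modules} {y : X} {t : L.presheaf.stalk y}
    (ht : IsFreeGen L y t) {P : Type u} [AddCommGroup P] [Module (X.presheaf.stalk y) P] (p : P)
    (a : X.presheaf.stalk y) : ht.lift p (a • t) = a • p := by
  have h1 : ht.equiv.symm (a • t) = a := by
    rw [LinearEquiv.symm_apply_eq]
    rfl
  change LinearMap.toSpanSingleton _ _ p (ht.equiv.symm (a • t)) = a • p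
  rw [h1]
  rfl

theorem _root_.SecOrdH8.IsFreeGen.lift_gen {L : X.Modules} {y : X} {t : L.presheaf.stalk y}
    (ht : IsFreeGen L y t) {P : Type u} [AddCommGroup P] [Module (X.presheaf.stalk y) P] (p : P) :
    ht.lift p t = p := by
  have := ht.lift_smul p 1
  rwa [one_smul, one_smul] at this

theorem _root_.SecOrdH8.IsFreeGen.hom_ext {L : X.Modules} {y : X} {t : L.presheaf.stalk y}
    (ht : IsFreeGen L y t) {P : Type u} [AddCommGroup P] [Module (X.presheaf.stalk y) P]
    {f g : L.presheaf.stalk y →ₗ[X.presheaf.stalk y] P} (h : f t = g t) : f = g := by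
  apply LinearMap.ext
  intro z
  obtain ⟨a, rfl⟩ := ht.1 z
  rw [map_smul, map_smul, h]

/-- Sections whose germs are free generators of all the stalks over `W` are generators. -/
theorem isGen_of_isFreeGen {L : X.Modules} {W : X.Opens} (e : Γ(L, W))
    (h : ∀ (y : X) (hy : y ∈ W), IsFreeGen L y (L.presheaf.germ W y hy e)) : IsGen L W e := by
  intro O hO
  constructor
  · intro l
    have h1 : ∀ y : O, ∃ a : X.presheaf.stalk y.1,
        L.presheaf.germ O y.1 y.2 l = a • L.presheaf.germ W y.1 (hO y.2) e :=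
      fun y => (h y.1 (hO y.2)).1 _
    choose a ha using h1
    obtain ⟨c, hc⟩ := exists_section_of_germsX O a (by
      intro x
      obtain ⟨W1, hxW1, r, hr⟩ := TopCat.Presheaf.exists_germ_eq X.presheaf (a x)
      have hx2 : x.1 ∈ W1 ⊓ O := ⟨hxW1, x.2⟩
      have hle : W1 ⊓ O ≤ O := inf_le_right
      have hle1 : W1 ⊓ O ≤ W1 := inf_le_left
      have e1 : L.presheaf.germ (W1 ⊓ O) x.1 hx2 (rF L hle l) =
          L.presheaf.germ (W1 ⊓ O) x.1 hx2 (rX hle1 r • rF L (hle.trans hO) e) := by
        rw [germ_rF, Mero.germ_smul, germ_rX, germ_rF, hr]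
        exact ha x
      obtain ⟨W2, hxW2, i1, i2, e2⟩ := TopCat.Presheaf.germ_eq L.presheaf x.1 hx2 hx2 _ _ e1
      refine ⟨W2, i1.le.trans hle, hxW2, rX (i1.le.trans hle1) r, fun y hy => ?_⟩
      have e3 := congrArg (L.presheaf.germ W2 y hy) e2
      have hy2 : y ∈ W1 ⊓ O := i1.le hy
      have e3a : L.presheaf.germ W2 y hy (L.presheaf.map i1.op (rF L hle l)) =
          L.presheaf.germ O y (hle hy2) l := by
        rw [TopCat.Presheaf.germ_res_apply]
        exact germ_rF L hle y hy2 l
      have e3b : L.presheaf.germ W2 y hy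
          (L.presheaf.map i2.op (rX hle1 r • rF L (hle.trans hO) e)) =
          X.presheaf.germ W1 y hy2.1 r • L.presheaf.germ W y (hO (hle hy2)) e := by
        rw [TopCat.Presheaf.germ_res_apply, Mero.germ_smul, germ_rX, germ_rF]
      rw [e3a, e3b, ha ⟨y, hle hy2⟩] at e3
      have e4 := sub_eq_zero.mpr e3
      rw [← sub_smul] at e4
      have e5 := (h y (hO (hle hy2))).2 _ e4
      rw [germ_rX]
      exact sub_eq_zero.mp e5)
    refine ⟨c, ?_⟩
    refine TopCat.Presheaf.section_ext ⟨L.presheaf, L.isSheaf⟩ O _ _ (fun y hy => ?_)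
    rw [Mero.germ_smul, germ_rF, hc ⟨y, hy⟩]
    exact ha ⟨y, hy⟩
  · intro c hc
    refine TopCat.Presheaf.section_ext X.sheaf O _ _ (fun y hy => ?_)
    have e1 := congrArg (L.presheaf.germ O y hy) hc
    rw [Mero.germ_smul, germ_rF, map_zero] at e1
    change X.presheaf.germ O y hy c = X.presheaf.germ O y hy 0
    rw [map_zero]
    exact (h y (hO hy)).2 _ e1

theorem _root_.SecOrdH8.IsFreeGen.smul_cancel {L : X.Modules} {y : X} {t : L.presheaf.stalk y}
    (ht : IsFreeGen L y t) {a b : X.presheaf.stalk y} (h : a • t = b • t) : a = b := by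
  have := sub_eq_zero.mpr h
  rw [← sub_smul] at this
  exact sub_eq_zero.mp (ht.2 _ this)

/-- The section of the sheaf Hom sending a generator `e` of `M` to a given section of `N`. -/
noncomputable def homGen {M N : X.Modules} {W : X.Opens} {e : Γ(M, W)} (he : IsGen M W e)
    (n₀ : Γ(N, W)) : Γ(RefHull.homSh M N, W) :=
  ⟨fun y => (show IsFreeGen M y.1 (M.presheaf.germ W y.1 y.2 e) from stalk_gen he y.2).lift
      (N.presheaf.germ W y.1 y.2 n₀), fun V i m x => by
    obtain ⟨c, hc⟩ := (he V i.le).1 m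
    refine ⟨V, x.2, 𝟙 V, c • rF N i.le n₀, fun y => ?_⟩
    change (show IsFreeGen M y.1 (M.presheaf.germ W y.1 (i.le y.2) e) from
      stalk_gen he (i.le y.2)).lift (N.presheaf.germ W y.1 (i.le y.2) n₀)
        (M.presheaf.germ V y.1 y.2 m) = _
    rw [hc, Mero.germ_smul, germ_rF, SecOrdH8.IsFreeGen.lift_smul, Mero.germ_smul, germ_rF]⟩

theorem homGen_apply {M N : X.Modules} {W : X.Opens} {e : Γ(M, W)} (he : IsGen M W e)
    (n₀ : Γ(N, W)) (y : W) :
    (homGen he n₀).1 y (M.presheaf.germ W y.1 y.2 e) = N.presheaf.germ W y.1 y.2 n₀ :=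
  SecOrdH8.IsFreeGen.lift_gen _ _

/-- The sheaf Hom of two modules with local generators has a local generator. -/
theorem isGen_homGen {M N : X.Modules} {W : X.Opens} {e : Γ(M, W)} (he : IsGen M W e)
    {n₀ : Γ(N, W)} (hn : IsGen N W n₀) : IsGen (RefHull.homSh M N) W (homGen he n₀) := by
  intro O hO
  have hfe : ∀ (y : X) (hy : y ∈ W), IsFreeGen M y (M.presheaf.germ W y hy e) :=
    fun y hy => stalk_gen he hy
  have hfn : ∀ (y : X) (hy : y ∈ W), IsFreeGen N y (N.presheaf.germ W y hy n₀) :=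
    fun y hy => stalk_gen hn hy
  constructor
  · intro l
    have h1 : ∀ y : O, ∃ b : X.presheaf.stalk y.1,
        l.1 y (M.presheaf.germ W y.1 (hO y.2) e) = b • N.presheaf.germ W y.1 (hO y.2) n₀ :=
      fun y => (hfn y.1 (hO y.2)).1 _
    choose b hb using h1
    obtain ⟨c, hc⟩ := exists_section_of_germsX O b (by
      intro x
      obtain ⟨W', hxW', j, n, hn'⟩ := RefHull.isLocSect_of_mem l O (𝟙 O) (rF M hO e) x
      obtain ⟨r, hr⟩ := (hn W' (j.le.trans hO)).1 n
      refine ⟨W', j.le, hxW', r, fun y hy => ?_⟩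
      have h2 := hn' ⟨y, hy⟩
      rw [germ_rF, hr, Mero.germ_smul, germ_rF] at h2
      have h3 := hb ⟨y, j.le hy⟩
      change l.1 ⟨y, j.le hy⟩ _ = _ at h2
      rw [h2] at h3
      exact ((hfn y (hO (j.le hy))).smul_cancel h3).symm)
    refine ⟨c, ?_⟩
    apply homSh_ext
    intro y
    change l.1 y = X.presheaf.germ O y.1 y.2 c • (homGen he n₀).1 ⟨y.1, hO y.2⟩
    apply (hfe y.1 (hO y.2)).hom_ext
    rw [LinearMap.smul_apply, homGen_apply, hc, hb]
  · intro c hc
    refine TopCat.Presheaf.section_ext X.sheaf O _ _ (fun y hy => ?_)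
    change X.presheaf.germ O y hy c = X.presheaf.germ O y hy 0
    rw [map_zero]
    have e1 := congrArg (fun s => s.1 ⟨y, hy⟩ (M.presheaf.germ W y (hO hy) e)) hc
    change (X.presheaf.germ O y hy c • (homGen he n₀).1 ⟨y, hO hy⟩) _ =
      (0 : RefHull.StalkHom M N y) _ at e1
    rw [LinearMap.smul_apply, homGen_apply, LinearMap.zero_apply] at e1
    exact (hfn y (hO hy)).2 _ e1

end RefHullH8
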