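import Mathlib
import Groth.Prelude
import Groth.Agent.Lib.RefHull4_helper8

set_option autoImplicit false
universe u

open CategoryTheory AlgebraicGeometry TopologicalSpace Opposite
open QcqsLoc GenLocH8 SecOrdH8 FLFH8

/-! The biduality map carries local generators to local generators. -/

namespace RefHullH8

variable {X : Scheme.{u}}

/-- The dual generator. -/
noncomputable def dualGen {M : X.Modules} {W : X.Opens} {e : Γ(M, W)} (he : IsGen M W e) :
    Γ(RefHull.dual M, W) :=
  homGen he (toM (1 : Γ(X, W)))

theorem isGen_dualGen {M : X.Modules} {W : X.Opens} {e : Γ(M, W)} (he : IsGen M W e) :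
    IsGen (RefHull.dual M) W (dualGen he) :=
  isGen_homGen he (TensH8.isGen_one W)

theorem bidualMap_app_eq {M : X.Modules} {W : X.Opens} {e : Γ(M, W)} (he : IsGen M W e) :
    (RefHull.bidualMap M).app W e = dualGen (isGen_dualGen he) := by
  apply homSh_ext
  intro y
  rw [RefHull.bidualMap_app_apply]
  have hf : IsFreeGen (RefHull.dual M) y.1 ((RefHull.dual M).presheaf.germ W y.1 y.2 (dualGen he)) :=
    stalk_gen (isGen_dualGen he) y.2
  apply hf.hom_ext
  rw [RefHull.bidualAt_apply, RefHull.evalStalk_germ]
  exact (homGen_apply he _ y).trans (homGen_apply (isGen_dualGen he) _ y).symm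

/-- The biduality map carries a local generator to a local generator of the reflexive hull. -/
theorem isGen_bidual {M : X.Modules} {W : X.Opens} {e : Γ(M, W)} (he : IsGen M W e) :
    IsGen (RefHull.ddual M) W ((RefHull.bidualMap M).app W e) := by
  rw [bidualMap_app_eq he]
  exact isGen_dualGen (isGen_dualGen he)

end RefHullH8
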