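import Mathlib
import Groth.Prelude
import Groth.Agent.Lib.RefHull5_helper8

set_option autoImplicit false
universe u

open CategoryTheory AlgebraicGeometry TopologicalSpace Opposite
open QcqsLoc GenLocH8 SecOrdH8 FLFH8

/-! Orders of sections with respect to local generators; generators of restrictions. -/

namespace RefHullH8

variable {X : Scheme.{u}}

/-- Computing `secOrdAt` with any free generator (free also at the generization) and any
coefficient. -/
theorem secOrdAt_eq' {L : X.Modules} {x ξ : X} (h : ξ ⤳ x)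
    (s : Cyc.secFibre L ξ) {t : L.presheaf.stalk x} (ht : IsFreeGen L x t)
    (hfree : IsFreeGen L ξ (L.presheaf.stalkSpecializes h t))
    (φ : X.presheaf.stalk ξ) (hφ : s = φ • fmk L ξ (L.presheaf.stalkSpecializes h t)) :
    Cyc.secOrdAt L ξ x h s = Cyc.ordAt x ξ h (X.residue ξ φ) := by
  unfold Cyc.secOrdAt
  have ht₀ : ∃ t : L.presheaf.stalk x, Submodule.span (X.presheaf.stalk x) {t} = ⊤ :=
    ⟨t, ht.span_eq_top⟩
  rw [dif_pos ht₀]
  have hspan := Classical.choose_spec ht₀
  obtain ⟨u, hu, htu⟩ := ht.exists_unit hspan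
  have hfree0 : IsFreeGen L ξ (L.presheaf.stalkSpecializes h (Classical.choose ht₀)) := by
    rw [htu, stalkSpecializes_smul]
    exact hfree.smul_unit (hu.map (X.presheaf.stalkSpecializes h).hom)
  have hφ₀ : ∃ φ₀ : X.presheaf.stalk ξ,
      s = φ₀ • (Submodule.Quotient.mk ((L.presheaf.stalkSpecializes h) (Classical.choose ht₀)) :
        Cyc.secFibre L ξ) := hfree0.fibre_surj s
  rw [dif_pos hφ₀]
  have hspec := Classical.choose_spec hφ₀
  generalize Classical.choose hφ₀ = φ₀ at hspec ⊢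
  have h1 : (Submodule.Quotient.mk ((L.presheaf.stalkSpecializes h) (Classical.choose ht₀)) :
      Cyc.secFibre L ξ) = X.presheaf.stalkSpecializes h u •
        fmk L ξ (L.presheaf.stalkSpecializes h t) := by
    rw [htu, stalkSpecializes_smul]
    rfl
  rw [h1, smul_smul] at hspec
  have h2 := (hfree.fibre_smul_eq_iff _ _).mp (hφ.symm.trans hspec)
  rw [h2, map_mul]
  unfold Cyc.ordAt
  have h3 : X.residue ξ (X.presheaf.stalkSpecializes h u) =
      algebraMap (Cyc.LocQuot x ξ h) (X.residueField ξ)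
        (Ideal.Quotient.mk (RingHom.ker (Cyc.specMap x ξ h)) u) := by
    rw [OrdFlatH8.algebraMap_locQuot_mk]
    rfl
  rw [h3]
  exact (ordFrac_mul_unit (Cyc.LocQuot x ξ h) (X.residueField ξ) _
    (hu.map (Ideal.Quotient.mk _))).symm

/-- Computing `secOrdAt` with a local generator. -/
theorem secOrdAt_eq_of_isGen {L : X.Modules} {x ξ : X} (h : ξ ⤳ x) {W : X.Opens} {e : Γ(L, W)}
    (he : IsGen L W e) (hx : x ∈ W) (s : Cyc.secFibre L ξ) (φ : X.presheaf.stalk ξ)
    (hφ : s = φ • fmk L ξ (L.presheaf.germ W ξ (h.mem_open W.isOpen hx) e)) :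
    Cyc.secOrdAt L ξ x h s = Cyc.ordAt x ξ h (X.residue ξ φ) := by
  have ht : IsFreeGen L x (L.presheaf.germ W x hx e) := stalk_gen he hx
  have hsp : L.presheaf.stalkSpecializes h (L.presheaf.germ W x hx e) =
      L.presheaf.germ W ξ (h.mem_open W.isOpen hx) e := stalkSpecializes_germ L h W hx e
  refine secOrdAt_eq' h s ht ?_ φ ?_
  · rw [hsp]
    exact stalk_gen he _
  · rw [hsp]
    exact hφ

theorem rX_self {W : X.Opens} (h : W ≤ W) (c : Γ(X, W)) : rX h c = c := by
  have h1 : (homOfLE h).op = 𝟙 (op W) := Subsingleton.elim _ _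
  show (X.presheaf.map (homOfLE h).op).hom c = c
  rw [h1, X.presheaf.map_id]
  rfl

/-- A local generator of the restriction of `F` to an open subscheme is a local generator
of `F`. -/
theorem isGen_of_restrict (F : X.Modules) (U : X.Opens) {W' : (U : Scheme.{u}).Opens}
    {e' : Γ(F.restrict U.ι, W')} (h : IsGen (F.restrict U.ι) W' e') :
    IsGen F (U.ι ''ᵁ W') (show Γ(F, U.ι ''ᵁ W') from e') := by
  intro O hO
  set O' : (U : Scheme.{u}).Opens := U.ι ⁻¹ᵁ O with hO'def
  have hO'W' : O' ≤ W' := by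
    intro y' hy'
    obtain ⟨w, hw, hwy⟩ := hO hy'
    have : w = y' := U.ι.isOpenEmbedding.injective hwy
    exact this ▸ hw
  have hOU : O ≤ U := hO.trans (U.ι_image_le W')
  have heq : U.ι ''ᵁ O' = O := by
    apply le_antisymm
    · rintro _ ⟨a, ha, rfl⟩
      exact ha
    · intro y hy
      exact ⟨⟨y, hOU hy⟩, hy, rfl⟩
  have hle1 : U.ι ''ᵁ O' ≤ O := heq.le
  have hle2 : O ≤ U.ι ''ᵁ O' := heq.ge
  obtain ⟨hs, hi⟩ := h O' hO'W'
  have hres : (rF (F.restrict U.ι) hO'W' e' : Γ(F.restrict U.ι, O')) =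
      rF F (U.ι.image_mono hO'W') (show Γ(F, U.ι ''ᵁ W') from e') := rfl
  have hres2 : rF F hle1 (rF F hO (show Γ(F, U.ι ''ᵁ W') from e')) =
      rF F (U.ι.image_mono hO'W') (show Γ(F, U.ι ''ᵁ W') from e') := rF_rF F _ _ _
  constructor
  · intro l
    obtain ⟨c', hc'⟩ := hs (rF F hle1 l)
    refine ⟨rX hle2 (show Γ(X, U.ι ''ᵁ O') from c'), ?_⟩
    have h1 : rF F hle1 l = (show Γ(X, U.ι ''ᵁ O') from c') •
        rF F hle1 (rF F hO (show Γ(F, U.ι ''ᵁ W') from e')) := by
      rw [hres2]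
      exact hc'.trans (restrict_smul_eq F U O' c' _)
    have h2 := congrArg (rF F hle2) h1
    rw [rF_rF, rF_smul, rF_rF] at h2
    have h3 : rF F (hle2.trans hle1) l = l := SubExt.rF_self F _ l
    have h4 : rF F (hle2.trans hle1) (rF F hO (show Γ(F, U.ι ''ᵁ W') from e')) =
        rF F hO (show Γ(F, U.ι ''ᵁ W') from e') := SubExt.rF_self F _ _
    rw [h3, h4] at h2
    exact h2
  · intro c hc
    have h1 := congrArg (rF F hle1) hc
    rw [rF_smul, hres2, map_zero] at h1
    have h2 : (show Γ((U : Scheme.{u}), O') from rX hle1 c) • rF (F.restrict U.ι) hO'W' e' = 0 :=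
      (restrict_smul_eq F U O' _ _).trans h1
    have h3 := hi _ h2
    have h4 : rX hle2 (rX hle1 c) = c := by
      rw [rX_rX]
      exact rX_self _ c
    rw [← h4]
    have h5 : rX hle1 c = 0 := h3
    rw [h5, map_zero]

/-- A generically invertible module has a local generator around the generic point. -/
theorem exists_isGen_generic [IrreducibleSpace X] {F : X.Modules} (h : RefHull.GenInvertible F) :
    ∃ (W : X.Opens) (_ : genericPoint X ∈ W) (e : Γ(F, W)), IsGen F W e := by
  obtain ⟨U, hU, hinv⟩ := h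
  have hne : (U : Set X).Nonempty := hU.nonempty
  have hη : genericPoint X ∈ U :=
    ((genericPoint_spec X).mem_open_set_iff U.isOpen).2 (by simpa using hne)
  obtain ⟨W', -, hxW', e', he'⟩ := exists_isGen hinv (⟨genericPoint X, hη⟩ : (U : Scheme.{u}))
  exact ⟨U.ι ''ᵁ W', ⟨⟨_, hη⟩, hxW', rfl⟩, e', isGen_of_restrict F U he'⟩

end RefHullH8
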