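import Mathlib
import Groth.Prelude
import Groth.Agent.Lib.QCohLoc_helper4
import Groth.Agent.Lib.QCohFT_helper9

set_option autoImplicit false
universe u

open CategoryTheory AlgebraicGeometry TopologicalSpace Opposite
open Groth.Agent.Lib.QCohLoc_helper4

namespace SuppStalkH8

variable {X : Scheme.{u}}

/-- Membership of the germ of a function in a prime of the local ring, in terms of the
corresponding generization. -/
theorem germ_mem_iff {U : X.Opens} (hU : IsAffineOpen U) {x : X} (hxU : x ∈ U)
    (P : Spec (X.presheaf.stalk x)) (a : Γ(X, U)) :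
    (X.presheaf.germ U x hxU).hom a ∈ P.asIdeal ↔ (X.fromSpecStalk x) P ∉ X.basicOpen a := by
  rw [← hU.fromSpecStalk_eq_fromSpecStalk hxU]
  unfold IsAffineOpen.fromSpecStalk
  rw [Scheme.Hom.comp_apply]
  have h1 : (hU.fromSpec (Spec.map (X.presheaf.germ U x hxU) P) ∈ X.basicOpen a) ↔
      (Spec.map (X.presheaf.germ U x hxU) P) ∈ hU.fromSpec ⁻¹ᵁ X.basicOpen a := Iff.rfl
  rw [h1, hU.fromSpec_preimage_basicOpen]
  change _ ↔ ¬ (a ∉ ((Spec.map (X.presheaf.germ U x hxU)) P).asIdeal)
  rw [not_not]
  rfl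

theorem fromSpecStalk_mem {U : X.Opens} {x : X} (hxU : x ∈ U)
    (P : Spec (X.presheaf.stalk x)) : (X.fromSpecStalk x) P ∈ U := by
  have h : (X.fromSpecStalk x) P ⤳ x := by
    have : (X.fromSpecStalk x) P ∈ Set.range (X.fromSpecStalk x) := ⟨P, rfl⟩
    rw [Scheme.range_fromSpecStalk] at this
    exact this
  exact h.mem_open U.2 hxU

variable (F : X.Modules) [F.IsQuasicoherent]

/-- The support of the stalk `F_x` in `Spec O_x` corresponds to the generizations of `x` in the
support of `F`. -/
theorem mem_support_iff (x : X) (P : PrimeSpectrum (X.presheaf.stalk x)) :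
    P ∈ Module.support (X.presheaf.stalk x) (F.presheaf.stalk x) ↔
      (X.fromSpecStalk x) (show ↥(Spec (X.presheaf.stalk x)) from P) ∈ CohB1.support F := by
  obtain ⟨_, ⟨U, hU, rfl⟩, hxU, -⟩ :=
    X.isBasis_affineOpens.exists_subset_of_mem_open (Set.mem_univ x) isOpen_univ
  have hxU : x ∈ U := hxU
  have hU : IsAffineOpen U := hU
  have hloc : LocOn F U := locOn_of_isQuasicoherent F hU
  set t := (X.fromSpecStalk x) (show ↥(Spec (X.presheaf.stalk x)) from P) with ht
  have htU : t ∈ U := fromSpecStalk_mem hxU P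
  have htx : t ⤳ x := by
    have : t ∈ Set.range (X.fromSpecStalk x) := ⟨P, rfl⟩
    rw [Scheme.range_fromSpecStalk] at this
    exact this
  have key := fun a => germ_mem_iff hU hxU P a
  rw [Module.mem_support_iff_exists_annihilator]
  change _ ↔ ¬ Subsingleton (F.presheaf.stalk t)
  constructor
  · rintro ⟨z, hz⟩ hsub
    obtain ⟨g, m, hgx, hgm⟩ := hloc.exists_germ_eq_smul hU hxU z
    have hgt0 : F.presheaf.germ U t htU m = 0 := Subsingleton.elim _ _
    obtain ⟨g', hg't, hg'm⟩ := hloc.exists_smul_eq_zero_of_germ_eq_zero hU htU m hgt0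
    -- germ_x g' kills germ_x m, hence kills z
    have h1 : X.presheaf.germ U x hxU g' • F.presheaf.germ U x hxU m = 0 := by
      rw [← germ_smul, hg'm, map_zero]
    have hunit : IsUnit ((X.presheaf.germ U x hxU).hom g) :=
      (Scheme.mem_basicOpen _ _ _ hxU).mp hgx
    have h2 : (X.presheaf.germ U x hxU).hom g' • z = 0 := by
      have h3 : (X.presheaf.germ U x hxU).hom g • ((X.presheaf.germ U x hxU).hom g' • z) = 0 := by
        rw [smul_comm]
        have : (X.presheaf.germ U x hxU).hom g • z = F.presheaf.germ U x hxU m := hgm.symm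
        rw [this]; exact h1
      exact hunit.smul_eq_zero.mp h3
    have h4 : (X.presheaf.germ U x hxU).hom g' ∈ P.asIdeal := by
      apply hz
      rw [Submodule.mem_annihilator_span_singleton]
      exact h2
    exact (key g').mp h4 hg't
  · intro hns
    rw [not_subsingleton_iff_nontrivial] at hns
    obtain ⟨z', hz'⟩ := exists_ne (0 : F.presheaf.stalk t)
    obtain ⟨g, m, hgt, hgm⟩ := hloc.exists_germ_eq_smul hU htU z'
    have hunit : IsUnit ((X.presheaf.germ U t htU).hom g) :=
      (Scheme.mem_basicOpen _ _ _ htU).mp hgt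
    have hmt : F.presheaf.germ U t htU m ≠ 0 := by
      rw [hgm]
      intro h0
      exact hz' (hunit.smul_eq_zero.mp h0)
    refine ⟨F.presheaf.germ U x hxU m, ?_⟩
    intro b hb
    rw [Submodule.mem_annihilator_span_singleton] at hb
    haveI := hU.isLocalization_stalk ⟨x, hxU⟩
    letI := TopCat.Presheaf.algebra_section_stalk X.presheaf (⟨x, hxU⟩ : U)
    obtain ⟨⟨a, s⟩, hs⟩ := IsLocalization.surj (hU.primeIdealOf ⟨x, hxU⟩).asIdeal.primeCompl b
    have hs' : b * (X.presheaf.germ U x hxU).hom s.1 = (X.presheaf.germ U x hxU).hom a := hs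
    have hsx : x ∈ X.basicOpen s.1 := by
      have := s.2
      rw [Scheme.mem_basicOpen _ _ _ hxU]
      have h := IsLocalization.map_units (M := (hU.primeIdealOf ⟨x, hxU⟩).asIdeal.primeCompl)
        (X.presheaf.stalk x) s
      exact h
    have hsunit : IsUnit ((X.presheaf.germ U x hxU).hom s.1) :=
      (Scheme.mem_basicOpen _ _ _ hxU).mp hsx
    have h1 : F.presheaf.germ U x hxU (a • m) = 0 := by
      rw [germ_smul]
      change (X.presheaf.germ U x hxU).hom a • _ = 0
      rw [← hs', mul_comm, mul_smul, hb, smul_zero]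
    obtain ⟨g'', hg''x, hg''⟩ := hloc.exists_smul_eq_zero_of_germ_eq_zero hU hxU (a • m) h1
    have hg''t : t ∈ X.basicOpen g'' := htx.mem_open (X.basicOpen g'').2 hg''x
    have hat : t ∉ X.basicOpen a := by
      intro hat
      apply hmt
      have h2 : F.presheaf.germ U t htU (g'' • (a • m)) = 0 := by rw [hg'', map_zero]
      rw [germ_smul, germ_smul] at h2
      have u1 : IsUnit ((X.presheaf.germ U t htU).hom g'') :=
        (Scheme.mem_basicOpen _ _ _ htU).mp hg''t
      have u2 : IsUnit ((X.presheaf.germ U t htU).hom a) :=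
        (Scheme.mem_basicOpen _ _ _ htU).mp hat
      exact u2.smul_eq_zero.mp (u1.smul_eq_zero.mp h2)
    have haP : (X.presheaf.germ U x hxU).hom a ∈ P.asIdeal := (key a).mpr hat
    rw [← hs'] at haP
    rcases P.isPrime.mem_or_mem haP with h | h
    · exact h
    · exfalso
      exact P.isPrime.ne_top (Ideal.eq_top_of_isUnit_mem _ h hsunit)

end SuppStalkH8
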