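import Mathlib
import Groth.Prelude
import Groth.Agent.Lib.SuppStalk_helper8

set_option autoImplicit false
universe u

open CategoryTheory AlgebraicGeometry TopologicalSpace Opposite
open Groth.Agent.Lib.QCohLoc_helper4

namespace SuppStalkH8

variable {X : Scheme.{u}} (F : X.Modules) [F.IsQuasicoherent]

/-- Stalks of a quasi-coherent module of finite type are finite modules. -/
theorem finite_stalk [SheafOfModules.IsFiniteType (R := X.ringCatSheaf) F] (x : X) :
    Module.Finite (X.presheaf.stalk x) (F.presheaf.stalk x) := by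
  classical
  obtain ⟨_, ⟨U, hU, rfl⟩, hxU, -⟩ :=
    X.isBasis_affineOpens.exists_subset_of_mem_open (Set.mem_univ x) isOpen_univ
  have hxU : x ∈ U := hxU
  have hU : IsAffineOpen U := hU
  have hloc : LocOn F U := locOn_of_isQuasicoherent F hU
  haveI : Module.Finite Γ(X, U) Γ(F, U) := QCohFT.finite_of_isFiniteType F hU
  obtain ⟨S, hS⟩ := (Module.Finite.fg_top : (⊤ : Submodule Γ(X, U) Γ(F, U)).FG)
  refine ⟨⟨S.image (fun m => F.presheaf.germ U x hxU m), ?_⟩⟩
  rw [eq_top_iff]
  intro z _
  obtain ⟨g, m, hgx, hgm⟩ := hloc.exists_germ_eq_smul hU hxU z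
  have hunit : IsUnit ((X.presheaf.germ U x hxU).hom g) :=
    (Scheme.mem_basicOpen _ _ _ hxU).mp hgx
  have hm : ∀ m : Γ(F, U), m ∈ Submodule.span Γ(X, U) (S : Set Γ(F, U)) →
      F.presheaf.germ U x hxU m ∈ Submodule.span (X.presheaf.stalk x)
        ((S.image (fun m => F.presheaf.germ U x hxU m) : Finset _) : Set (F.presheaf.stalk x)) := by
    intro m hm
    induction hm using Submodule.span_induction with
    | mem y hy =>
      apply Submodule.subset_span
      simp only [Finset.coe_image, Set.mem_image, Finset.mem_coe]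
      exact ⟨y, hy, rfl⟩
    | zero => rw [map_zero]; exact zero_mem _
    | add y z _ _ hy hz => rw [map_add]; exact add_mem hy hz
    | smul a y _ hy =>
      rw [germ_smul]
      exact Submodule.smul_mem _ _ hy
  have h1 := hm m (by rw [hS]; trivial)
  obtain ⟨u, hu⟩ := hunit
  have hz : z = (↑u⁻¹ : X.presheaf.stalk x) • F.presheaf.germ U x hxU m := by
    rw [hgm]
    change z = (↑u⁻¹ : X.presheaf.stalk x) • ((X.presheaf.germ U x hxU).hom g • z)
    rw [← hu, smul_smul, Units.inv_mul, one_smul]
  rw [hz]
  exact Submodule.smul_mem _ _ h1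

/-- The dimension of the stalk module equals the topological dimension of the set of
generizations of `x` in the support. -/
theorem supportDim_eq [SheafOfModules.IsFiniteType (R := X.ringCatSheaf) F] (x : X) :
    Module.supportDim (X.presheaf.stalk x) (F.presheaf.stalk x) =
      topologicalKrullDim ↥{t : X | t ∈ CohB1.support F ∧ t ⤳ x} := by
  haveI := finite_stalk F x
  set R := X.presheaf.stalk x
  set I := Module.annihilator R (F.presheaf.stalk x) with hI
  rw [Module.supportDim_eq_ringKrullDim_quotient_annihilator,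
    ← PrimeSpectrum.topologicalKrullDim_eq_ringKrullDim]
  have hemb1 : Topology.IsEmbedding (PrimeSpectrum.comap (Ideal.Quotient.mk I)) :=
    (PrimeSpectrum.isClosedEmbedding_comap_of_surjective _ _ Ideal.Quotient.mk_surjective).isEmbedding
  have hemb2 : Topology.IsEmbedding (X.fromSpecStalk x) := (X.fromSpecStalk x).isEmbedding
  have hemb : Topology.IsEmbedding
      (fun Q : PrimeSpectrum (R ⧸ I) => (X.fromSpecStalk x)
        (show ↥(Spec (X.presheaf.stalk x)) from PrimeSpectrum.comap (Ideal.Quotient.mk I) Q)) :=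
    hemb2.comp hemb1
  have hrange : Set.range (fun Q : PrimeSpectrum (R ⧸ I) => (X.fromSpecStalk x)
        (show ↥(Spec (X.presheaf.stalk x)) from PrimeSpectrum.comap (Ideal.Quotient.mk I) Q)) =
      {t : X | t ∈ CohB1.support F ∧ t ⤳ x} := by
    have hr1 : Set.range (PrimeSpectrum.comap (Ideal.Quotient.mk I)) =
        Module.support R (F.presheaf.stalk x) := by
      rw [range_comap_of_surjective _ _ Ideal.Quotient.mk_surjective,
        Ideal.mk_ker, Module.support_eq_zeroLocus]
    ext t
    constructor
    · rintro ⟨Q, rfl⟩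
      have hP : PrimeSpectrum.comap (Ideal.Quotient.mk I) Q ∈
          Module.support R (F.presheaf.stalk x) := by rw [← hr1]; exact ⟨Q, rfl⟩
      refine ⟨(mem_support_iff F x _).mp hP, ?_⟩
      have : (X.fromSpecStalk x)
          (show ↥(Spec (X.presheaf.stalk x)) from PrimeSpectrum.comap (Ideal.Quotient.mk I) Q) ∈
          Set.range (X.fromSpecStalk x) := ⟨_, rfl⟩
      rw [Scheme.range_fromSpecStalk] at this
      exact this
    · rintro ⟨htF, htx⟩
      have : t ∈ Set.range (X.fromSpecStalk x) := by
        rw [Scheme.range_fromSpecStalk]; exact htx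
      obtain ⟨P, rfl⟩ := this
      have hP : (show PrimeSpectrum R from P) ∈ Module.support R (F.presheaf.stalk x) :=
        (mem_support_iff F x P).mpr htF
      rw [← hr1] at hP
      obtain ⟨Q, hQ⟩ := hP
      exact ⟨Q, congrArg (X.fromSpecStalk x) hQ⟩
  have h1 := IsHomeomorph.topologicalKrullDim_eq _ hemb.toHomeomorph.isHomeomorph
  rw [h1, hrange]

end SuppStalkH8
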