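import Mathlib
import Groth.Prelude
import Groth.Agent.Lib.SuppStalk2_helper8
import Groth.Agent.Lib.Desc1_helper8
import Groth.Agent.Lib.CohDev5_helper8

set_option autoImplicit false
universe u

open CategoryTheory AlgebraicGeometry TopologicalSpace Opposite

namespace CycLenH8

section Alg

variable {R M : Type*} [CommRing R] [IsLocalRing R] [IsNoetherianRing R]
  [AddCommGroup M] [Module R M] [Module.Finite R M]

/-- A finite module over a Noetherian local ring supported only at the closed point has
finite length. -/
theorem isFiniteLength_of_support_subset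
    (h : Module.support R M ⊆ {IsLocalRing.closedPoint R}) : IsFiniteLength R M := by
  rw [isFiniteLength_iff_isNoetherian_isArtinian]
  refine ⟨inferInstance, ?_⟩
  set I := Module.annihilator R M with hI
  letI : Module (R ⧸ I) M := Module.quotientAnnihilator
  haveI : IsScalarTower R (R ⧸ I) M := ⟨fun r s m => by
    obtain ⟨s, rfl⟩ := Ideal.Quotient.mk_surjective s
    change (Ideal.Quotient.mk I (r * s)) • m = r • (Ideal.Quotient.mk I s • m)
    change (r * s) • m = r • (s • m)
    rw [mul_smul]⟩
  haveI : Module.Finite (R ⧸ I) M := Module.Finite.of_restrictScalars_finite R (R ⧸ I) M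
  haveI : Ring.KrullDimLE 0 (R ⧸ I) := by
    rw [Ideal.krullDimLE_zero_quotient_iff_forall_minimalPrimes_isMaximal]
    intro J hJ
    haveI := hJ.1.1
    have hP : (⟨J, hJ.1.1⟩ : PrimeSpectrum R) ∈ Module.support R M := by
      rw [Module.support_eq_zeroLocus, PrimeSpectrum.mem_zeroLocus]
      exact hJ.1.2
    have h2 := h hP
    rw [Set.mem_singleton_iff] at h2
    have h3 : J = IsLocalRing.maximalIdeal R := congrArg PrimeSpectrum.asIdeal h2
    rw [h3]
    exact IsLocalRing.maximalIdeal.isMaximal R
  haveI : IsArtinianRing (R ⧸ I) := IsNoetherianRing.isArtinianRing_of_krullDimLE_zero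
  haveI : IsArtinian (R ⧸ I) M := inferInstance
  exact isArtinian_of_surjective_algebraMap (R := R ⧸ I) (S := R) Ideal.Quotient.mk_surjective

end Alg

section Geom

variable {X : Scheme.{u}}

open CohDevH8

/-- Exactness of a short exact sequence of `O_X`-modules on stalks (in the middle). -/
theorem stalk_exact (T : ShortComplex X.Modules) (hT : T.ShortExact) (x : X) :
    Function.Exact (Algz.stalkMapₗ T.f x) (Algz.stalkMapₗ T.g x) := by
  haveI := hT.mono_f
  intro s
  constructor
  · intro hs
    obtain ⟨U, hxU, t, rfl⟩ := TopCat.Presheaf.exists_germ_eq T.X₂.presheaf s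
    have h1 : T.X₃.presheaf.germ U x hxU (T.g.app U t) = T.X₃.presheaf.germ U x hxU 0 := by
      rw [map_zero, ← DescH8.stk_germ]; exact hs
    obtain ⟨V, hxV, i, i', hV⟩ := TopCat.Presheaf.germ_eq T.X₃.presheaf x hxU hxU _ _ h1
    rw [map_zero] at hV
    have h2 : T.g.app V (T.X₂.presheaf.map i.op t) = 0 := by
      have := NatTrans.naturality_apply T.g.mapPresheaf i.op t
      simp only [Scheme.Modules.mapPresheaf_app] at this
      rw [this]; exact hV
    obtain ⟨r, hr⟩ := QCohExact.app_exact T hT.exact V _ h2
    refine ⟨T.X₁.presheaf.germ V x hxV r, ?_⟩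
    change DescH8.stk T.f x (T.X₁.presheaf.germ V x hxV r) = _
    rw [DescH8.stk_germ, hr]
    exact TopCat.Presheaf.germ_res_apply T.X₂.presheaf i x hxV t
  · rintro ⟨r, rfl⟩
    change (Algz.stalkMapₗ T.g x).comp (Algz.stalkMapₗ T.f x) r = 0
    rw [← stalkMapₗ_comp, T.zero, stalkMapₗ_zero]
    rfl

theorem stalk_injective (T : ShortComplex X.Modules) (hT : T.ShortExact) (x : X) :
    Function.Injective (Algz.stalkMapₗ T.f x) := by
  haveI := hT.mono_f
  exact DescH8.stk_injective_of_mono T.f x

theorem stalk_surjective (T : ShortComplex X.Modules) (hT : T.ShortExact) (x : X) :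
    Function.Surjective (Algz.stalkMapₗ T.g x) := by
  haveI := hT.epi_g
  exact EpiLoc.stalk_surjective_of_epi T.g x

/-- Additivity of the length of stalks on short exact sequences. -/
theorem length_stalk_add (T : ShortComplex X.Modules) (hT : T.ShortExact) (x : X) :
    Module.length (X.presheaf.stalk x) (T.X₂.presheaf.stalk x) =
      Module.length (X.presheaf.stalk x) (T.X₁.presheaf.stalk x) +
        Module.length (X.presheaf.stalk x) (T.X₃.presheaf.stalk x) :=
  Module.length_eq_add_of_exact _ _ (stalk_injective T hT x) (stalk_surjective T hT x)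
    (stalk_exact T hT x)

/-- The stalk of a coherent module at a maximal point of its support has finite length. -/
theorem isFiniteLength_stalk [IsLocallyNoetherian X] {F : X.Modules} (hF : Coh.IsCoh F) (x : X)
    (hx : ∀ t : X, t ⤳ x → t ∈ CohB1.support F → t = x) :
    IsFiniteLength (X.presheaf.stalk x) (F.presheaf.stalk x) := by
  haveI := hF.1
  haveI := hF.2
  haveI := SuppStalkH8.finite_stalk F x
  apply isFiniteLength_of_support_subset
  intro P hP
  rw [SuppStalkH8.mem_support_iff] at hP
  have htx : (X.fromSpecStalk x) (show ↥(Spec (X.presheaf.stalk x)) from P) ⤳ x := by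
    have : (X.fromSpecStalk x) (show ↥(Spec (X.presheaf.stalk x)) from P) ∈
        Set.range (X.fromSpecStalk x) := ⟨P, rfl⟩
    rw [Scheme.range_fromSpecStalk] at this
    exact this
  have h1 := hx _ htx hP
  rw [Set.mem_singleton_iff]
  apply (X.fromSpecStalk x).isEmbedding.injective
  rw [h1]
  exact Scheme.fromSpecStalk_closedPoint.symm

/-- A dimension function: stalks of a coherent module whose support has `δ ≤ k` have finite
length at points with `δ = k`. -/
theorem isFiniteLength_stalk_of_isDimFun [IsLocallyNoetherian X] (δ : X → ℤ)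
    (hδ : Cyc.IsDimFun X δ) (k : ℤ) {F : X.Modules} (hF : Coh.IsCoh F)
    (hdim : ∀ x : X, Nontrivial (F.presheaf.stalk x) → δ x ≤ k) (x : X) (hx : δ x = k) :
    IsFiniteLength (X.presheaf.stalk x) (F.presheaf.stalk x) := by
  apply isFiniteLength_stalk hF
  intro t htx ht
  by_contra hne
  have h1 := (hδ t x htx hne).1
  have h2 := hdim t (not_subsingleton_iff_nontrivial.mp ht)
  omega

end Geom

end CycLenH8
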