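import Mathlib
import Groth.Prelude
import Groth.Agent.Lib.CycLen1_helper8
import Groth.Agent.Lib.CohDev9_helper8

/-!
# Lengths of stalks, II: stalks of direct images along closed immersions, and of the
structure module (helper8).  APPEND-ONLY once landed.
-/

set_option autoImplicit false
universe u

open CategoryTheory AlgebraicGeometry TopologicalSpace Opposite

namespace CycLenH8

open CohDevH8

section Structure

variable {X : Scheme.{u}}

/-- The germ of `1` in the stalk of the structure module. -/
noncomputable def oneGerm (y : X) : (Coh.structureModule X).presheaf.stalk y :=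
  (Coh.structureModule X).presheaf.germ ⊤ y trivial (SerreCrit.ofFn 1)

theorem oneGerm_eq {U : X.Opens} (y : X) (hyU : y ∈ U) :
    oneGerm y = (Coh.structureModule X).presheaf.germ U y hyU (SerreCrit.ofFn 1) := by
  have h1 : (Coh.structureModule X).presheaf.map (homOfLE (le_top : U ≤ ⊤)).op
      (SerreCrit.ofFn (1 : Γ(X, ⊤))) = SerreCrit.ofFn (1 : Γ(X, U)) := by
    have := SerreCrit.rF_eq (X := X) (le_top : U ≤ ⊤) (SerreCrit.ofFn (1 : Γ(X, ⊤)))
    rw [show SerreCrit.toFn (SerreCrit.ofFn (1 : Γ(X, ⊤))) = 1 from rfl, map_one] at this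
    exact this
  have h2 := (Coh.structureModule X).presheaf.germ_res_apply (homOfLE (le_top : U ≤ ⊤)) y hyU
    (SerreCrit.ofFn (1 : Γ(X, ⊤)))
  unfold oneGerm
  rw [← h2, h1]

theorem germ_smul_oneGerm {U : X.Opens} (y : X) (hyU : y ∈ U) (a : Γ(X, U)) :
    X.presheaf.germ U y hyU a • oneGerm y =
      (Coh.structureModule X).presheaf.germ U y hyU (SerreCrit.ofFn a) := by
  rw [oneGerm_eq y hyU, ← Groth.Agent.Lib.QCohLoc_helper4.germ_smul]
  congr 1
  have h3 := SerreCrit.smul_eq (X := X) a (SerreCrit.ofFn (1 : Γ(X, U)))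
  rw [show SerreCrit.toFn (SerreCrit.ofFn (1 : Γ(X, U))) = 1 from rfl, mul_one] at h3
  exact h3

/-- The stalk of the structure module is the local ring. -/
noncomputable def stalkStructureEquiv (y : X) :
    X.presheaf.stalk y ≃ₗ[X.presheaf.stalk y] (Coh.structureModule X).presheaf.stalk y :=
  LinearEquiv.ofBijective (LinearMap.toSpanSingleton _ _ (oneGerm y)) (by
    constructor
    · rw [← LinearMap.ker_eq_bot, LinearMap.ker_eq_bot']
      intro r hr
      rw [LinearMap.toSpanSingleton_apply] at hr
      obtain ⟨U, hyU, a, rfl⟩ := TopCat.Presheaf.exists_germ_eq (F := X.presheaf) r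
      rw [germ_smul_oneGerm y hyU a] at hr
      obtain ⟨V, hyV, j, hres⟩ := SupportCoh.exists_res_eq_zero (Coh.structureModule X) hyU
        (SerreCrit.ofFn a) hr
      have h1 : X.presheaf.map j.op a = 0 := hres
      rw [← TopCat.Presheaf.germ_res_apply X.presheaf j y hyV a, h1, map_zero]
    · intro z
      obtain ⟨U, hyU, s, rfl⟩ := (Coh.structureModule X).presheaf.exists_germ_eq (x := y) z
      refine ⟨X.presheaf.germ U y hyU (SerreCrit.toFn s), ?_⟩
      rw [LinearMap.toSpanSingleton_apply, germ_smul_oneGerm])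

theorem length_stalk_structureModule (y : X) :
    Module.length (X.presheaf.stalk y) ((Coh.structureModule X).presheaf.stalk y) =
      Module.length (X.presheaf.stalk y) (X.presheaf.stalk y) :=
  (stalkStructureEquiv y).length_eq.symm

end Structure

section Push

variable {Z X : Scheme.{u}} (i : Z ⟶ X) (M : Z.Modules)

/-- The canonical map from the stalk of a direct image to the stalk of the module. -/
noncomputable def pushStalkHom (z : Z) :
    ((Scheme.Modules.pushforward i).obj M).presheaf.stalk (i z) ⟶ M.presheaf.stalk z :=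
  TopCat.Presheaf.stalkPushforward Ab i.base M.presheaf z

theorem pushStalkHom_germ (z : Z) (U : X.Opens) (hz : i z ∈ U)
    (s : Γ((Scheme.Modules.pushforward i).obj M, U)) :
    pushStalkHom i M z (((Scheme.Modules.pushforward i).obj M).presheaf.germ U (i z) hz s) =
      M.presheaf.germ (i ⁻¹ᵁ U) z hz (show Γ(M, i ⁻¹ᵁ U) from s) :=
  TopCat.Presheaf.stalkPushforward_germ_apply Ab i.base M.presheaf U z hz s

theorem pushStalkHom_smul (z : Z) (r : X.presheaf.stalk (i z))
    (m : ((Scheme.Modules.pushforward i).obj M).presheaf.stalk (i z)) :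
    pushStalkHom i M z (r • m) = (i.stalkMap z).hom r • pushStalkHom i M z m := by
  obtain ⟨V₁, hxV₁, r₁, rfl⟩ := TopCat.Presheaf.exists_germ_eq (F := X.presheaf) r
  obtain ⟨V₂, hxV₂, m₂, rfl⟩ := TopCat.Presheaf.exists_germ_eq
    (F := ((Scheme.Modules.pushforward i).obj M).presheaf) m
  set W : X.Opens := V₁ ⊓ V₂ with hW
  have hxW : i z ∈ W := ⟨hxV₁, hxV₂⟩
  have e1 : X.presheaf.germ V₁ (i z) hxV₁ r₁ =
      X.presheaf.germ W (i z) hxW (X.presheaf.map (homOfLE inf_le_left).op r₁) :=
    (TopCat.Presheaf.germ_res_apply X.presheaf (homOfLE (inf_le_left : W ≤ V₁)) (i z) hxW r₁).symm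
  have e2 : ((Scheme.Modules.pushforward i).obj M).presheaf.germ V₂ (i z) hxV₂ m₂ =
      ((Scheme.Modules.pushforward i).obj M).presheaf.germ W (i z) hxW
        (((Scheme.Modules.pushforward i).obj M).presheaf.map (homOfLE inf_le_right).op m₂) :=
    (TopCat.Presheaf.germ_res_apply ((Scheme.Modules.pushforward i).obj M).presheaf
      (homOfLE (inf_le_right : W ≤ V₂)) (i z) hxW m₂).symm
  rw [e1, e2]
  set a := X.presheaf.map (homOfLE (inf_le_left : W ≤ V₁)).op r₁ with ha
  set n := ((Scheme.Modules.pushforward i).obj M).presheaf.map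
    (homOfLE (inf_le_right : W ≤ V₂)).op m₂ with hn
  rw [← Groth.Agent.Lib.QCohLoc_helper4.germ_smul ((Scheme.Modules.pushforward i).obj M) W (i z)
    hxW a n, pushStalkHom_germ, pushStalkHom_germ]
  have h1 : (show Γ(M, i ⁻¹ᵁ W) from (a • n)) =
      ((i.app W).hom a) • (show Γ(M, i ⁻¹ᵁ W) from n) := rfl
  rw [h1, Groth.Agent.Lib.QCohLoc_helper4.germ_smul M (i ⁻¹ᵁ W) z hxW]
  congr 1
  exact (Scheme.Hom.germ_stalkMap_apply i W z hxW a).symm

theorem pushStalkHom_bijective (hi : Topology.IsInducing i) (z : Z) :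
    Function.Bijective (pushStalkHom i M z) := by
  haveI : IsIso (pushStalkHom i M z) :=
    TopCat.Presheaf.stalkPushforward.stalkPushforward_iso_of_isInducing Ab hi M.presheaf z
  exact (ConcreteCategory.isIso_iff_bijective _).1 inferInstance

/-- The length of the stalk of a direct image along a closed immersion. -/
theorem length_pushforward_stalk [IsClosedImmersion i] (z : Z) :
    Module.length (X.presheaf.stalk (i z))
        (((Scheme.Modules.pushforward i).obj M).presheaf.stalk (i z)) =
      Module.length (Z.presheaf.stalk z) (M.presheaf.stalk z) := by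
  have hsurj : Function.Surjective (i.stalkMap z).hom := i.stalkMap_surjective z
  haveI : RingHomSurjective (i.stalkMap z).hom := ⟨hsurj⟩
  let f : ((Scheme.Modules.pushforward i).obj M).presheaf.stalk (i z) →ₛₗ[(i.stalkMap z).hom]
      M.presheaf.stalk z :=
    { toFun := pushStalkHom i M z
      map_add' := fun a b => map_add _ a b
      map_smul' := fun r m => pushStalkHom_smul i M z r m }
  have hb : Function.Bijective f := pushStalkHom_bijective i M i.isEmbedding.isInducing z
  rw [Module.length, Module.length, WithBot.unbot_inj,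
    Order.krullDim_eq_of_orderIso (Submodule.orderIsoMapComapOfBijective f hb)]

/-- Stalks of a direct image vanish outside the (closed) range. -/
theorem subsingleton_stalk_pushforward (hi : IsClosed (Set.range i)) (x : X)
    (hx : x ∉ Set.range i) :
    Subsingleton (((Scheme.Modules.pushforward i).obj M).presheaf.stalk x) := by
  let U : X.Opens := ⟨(Set.range i)ᶜ, hi.isOpen_compl⟩
  have hxU : x ∈ U := hx
  refine ⟨fun a b => ?_⟩
  suffices h : ∀ c : ((Scheme.Modules.pushforward i).obj M).presheaf.stalk x, c = 0 by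
    rw [h a, h b]
  intro c
  obtain ⟨V, hxV, s, rfl⟩ := TopCat.Presheaf.exists_germ_eq
    (F := ((Scheme.Modules.pushforward i).obj M).presheaf) c
  have hxW : x ∈ V ⊓ U := ⟨hxV, hxU⟩
  rw [← TopCat.Presheaf.germ_res_apply ((Scheme.Modules.pushforward i).obj M).presheaf
    (homOfLE (inf_le_left : V ⊓ U ≤ V)) x hxW s]
  have hbot : i ⁻¹ᵁ (V ⊓ U) = ⊥ := by
    ext t
    simp only [Opens.coe_bot, Set.mem_empty_iff_false, iff_false]
    intro ht
    exact ht.2 ⟨t, rfl⟩
  have hsub : Subsingleton Γ(M, i ⁻¹ᵁ (V ⊓ U)) := by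
    let F' : TopCat.Sheaf Ab Z := ⟨M.presheaf, M.isSheaf⟩
    have ht := TopCat.Sheaf.isTerminalOfEqEmpty F' hbot
    exact AddCommGrpCat.subsingleton_of_isZero (Limits.IsZero.of_iso
      (Limits.isZero_zero _) (ht.uniqueUpToIso (Limits.isZero_zero _).isTerminal))
  have h0 : ((Scheme.Modules.pushforward i).obj M).presheaf.map
      (homOfLE (inf_le_left : V ⊓ U ≤ V)).op s = 0 :=
    @Subsingleton.elim _ hsub _ _
  rw [h0, map_zero]

end Push

end CycLenH8
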