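import Mathlib
import Groth.Prelude
import Groth.Agent.Lib.SecOrd1_helper8

/-!
# Orders of rational sections of invertible modules, II: independence of `c_1(L) ∩ α` of the
chosen sections (helper8).  APPEND-ONLY once landed.
-/

set_option autoImplicit false
universe u

open CategoryTheory AlgebraicGeometry TopologicalSpace Opposite
open Groth.Agent.LatticeDet Groth.Agent.OrdSum

namespace SecOrdH8

variable {X : Scheme.{u}}

section Alg

variable (D : Type u) [CommRing D] [IsDomain D] [IsNoetherianRing D] [Ring.KrullDimLE 1 D]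
  (K : Type u) [Field K] [Algebra D K] [IsFractionRing D K]

theorem ordFrac_inv {f : K} (hf : f ≠ 0) : CycAlg.ordFrac D K f⁻¹ = - CycAlg.ordFrac D K f := by
  have := ordFrac_div D K (one_ne_zero (α := K)) hf
  rw [one_div, ordFrac_one, zero_sub] at this
  exact this

theorem ordFrac_pow {f : K} (hf : f ≠ 0) (n : ℕ) :
    CycAlg.ordFrac D K (f ^ n) = n * CycAlg.ordFrac D K f := by
  induction n with
  | zero => simp [ordFrac_one]
  | succ n ih =>
    rw [pow_succ, ordFrac_mul D K (pow_ne_zero n hf) hf, ih]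
    push_cast
    ring

theorem ordFrac_zpow {f : K} (hf : f ≠ 0) (n : ℤ) :
    CycAlg.ordFrac D K (f ^ n) = n * CycAlg.ordFrac D K f := by
  obtain ⟨m, rfl | rfl⟩ := n.eq_nat_or_neg
  · rw [zpow_natCast, ordFrac_pow D K hf]
  · rw [zpow_neg, zpow_natCast, ordFrac_inv D K (pow_ne_zero m hf), ordFrac_pow D K hf]
    ring

end Alg

/-- The local rings of the closures of points are domains. -/
instance isDomain_locQuot (x ξ : X) (h : ξ ⤳ x) : IsDomain (Cyc.LocQuot x ξ h) :=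
  (OrdFlatH8.algebraMap_locQuot_injective x ξ h).isDomain _

theorem ordAt_zpow [IsLocallyNoetherian X] (δ : X → ℤ) (hδ : Cyc.IsDimFun X δ) {x ξ : X}
    (h : ξ ⤳ x) (hd : δ x + 1 = δ ξ) {f : X.residueField ξ} (hf : f ≠ 0) (n : ℤ) :
    Cyc.ordAt x ξ h (f ^ n) = n * Cyc.ordAt x ξ h f := by
  haveI := OrdFlatH8.krullDimLE_one_locQuot δ hδ x ξ h (by omega)
  haveI := OrdFlatH8.isFractionRing_locQuot x ξ h
  exact ordFrac_zpow (Cyc.LocQuot x ξ h) (X.residueField ξ) hf n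

theorem divFun_zpow [IsLocallyNoetherian X] (δ : X → ℤ) (hδ : Cyc.IsDimFun X δ) (ξ : X)
    {f : X.residueField ξ} (hf : f ≠ 0) (n : ℤ) (x : X) :
    Cyc.divFun δ ξ (f ^ n) x = n * Cyc.divFun δ ξ f x := by
  unfold Cyc.divFun
  by_cases hc : ξ ⤳ x ∧ δ x + 1 = δ ξ
  · rw [dif_pos hc, dif_pos hc, ordAt_zpow δ hδ hc.1 hc.2 hf]
  · rw [dif_neg hc, dif_neg hc, mul_zero]

/-- The ratio of two nonzero rational sections of an invertible module. -/
theorem exists_ratio [IsLocallyNoetherian X] (δ : X → ℤ) (hδ : Cyc.IsDimFun X δ)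
    {L : X.Modules} (hL : PicF.IsInvertible L) (ξ : X) (s t : Cyc.secFibre L ξ) (hs : s ≠ 0)
    (ht : t ≠ 0) :
    ∃ u : X.residueField ξ, u ≠ 0 ∧ ∀ (x : X) (h : ξ ⤳ x), δ x + 1 = δ ξ →
      Cyc.secOrdAt L ξ x h s - Cyc.secOrdAt L ξ x h t = Cyc.ordAt x ξ h u := by
  obtain ⟨t₁, ht₁⟩ := exists_isFreeGen hL ξ
  obtain ⟨φs, hφs⟩ := ht₁.fibre_surj s
  obtain ⟨φt, hφt⟩ := ht₁.fibre_surj t
  have hφs0 : X.residue ξ φs ≠ 0 := by
    intro h0
    apply hs
    rw [hφs, ht₁.fibre_smul_eq_zero_iff]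
    exact (IsLocalRing.residue_eq_zero_iff _).mp h0
  have hφt0 : X.residue ξ φt ≠ 0 := by
    intro h0
    apply ht
    rw [hφt, ht₁.fibre_smul_eq_zero_iff]
    exact (IsLocalRing.residue_eq_zero_iff _).mp h0
  refine ⟨X.residue ξ φs / X.residue ξ φt, div_ne_zero hφs0 hφt0, ?_⟩
  intro x h hd
  obtain ⟨tx, htx⟩ := exists_isFreeGen hL x
  have hsp : IsFreeGen L ξ (L.presheaf.stalkSpecializes h tx) := htx.stalkSpecializes hL h
  obtain ⟨v, hv, htv⟩ := hsp.exists_unit ht₁.span_eq_top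
  -- `t₁ = v • spz tx`
  have e1 : s = (φs * v) • fmk L ξ (L.presheaf.stalkSpecializes h tx) := by
    rw [hφs, htv, mul_smul]
    rfl
  have e2 : t = (φt * v) • fmk L ξ (L.presheaf.stalkSpecializes h tx) := by
    rw [hφt, htv, mul_smul]
    rfl
  rw [secOrdAt_eq hL h s htx _ e1, secOrdAt_eq hL h t htx _ e2]
  haveI := OrdFlatH8.krullDimLE_one_locQuot δ hδ x ξ h (by omega)
  haveI := OrdFlatH8.isFractionRing_locQuot x ξ h
  have hv0 : X.residue ξ v ≠ 0 := (hv.map (X.residue ξ).hom).ne_zero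
  unfold Cyc.ordAt
  rw [map_mul, map_mul, ← ordFrac_div (Cyc.LocQuot x ξ h) (X.residueField ξ)
    (mul_ne_zero hφs0 hv0) (mul_ne_zero hφt0 hv0), mul_div_mul_right _ _ hv0]

/-- The generizations of a point lying in the support of a cycle form a finite set. -/
theorem finite_support_specializes (α : AlgebraicCycle X ℤ) (x : X) :
    {ξ : X | α ξ ≠ 0 ∧ ξ ⤳ x}.Finite := by
  obtain ⟨T, hT, hfin⟩ := α.supportLocallyFiniteWithinDomain x trivial
  refine hfin.subset ?_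
  rintro ξ ⟨h1, h2⟩
  exact ⟨mem_of_mem_nhds (h2 hT), h1⟩

theorem secDivFun_ne_zero {δ : X → ℤ} {L : X.Modules} {ξ : X} {s : Cyc.secFibre L ξ} {x : X}
    (h : Cyc.secDivFun δ L ξ s x ≠ 0) : ξ ⤳ x := by
  unfold Cyc.secDivFun at h
  by_contra hne
  exact h (dif_neg (fun hc => hne hc.1))

theorem ordAt_one (x ξ : X) (h : ξ ⤳ x) : Cyc.ordAt x ξ h 1 = 0 := by
  unfold Cyc.ordAt CycAlg.ordFrac
  split_ifs with hc
  · rw [map_one]
    rfl
  · rfl

/-- `c_1(L) ∩ α` does not depend, up to rational equivalence, on the chosen rational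
sections. -/
theorem ratEquiv_c1Cap (δ : X → ℤ) (hX : Cyc.IsSetup X δ) {L : X.Modules}
    (hL : PicF.IsInvertible L) (k : ℤ) (α : AlgebraicCycle X ℤ) (hα : α ∈ Cyc.Zk X δ (k + 1))
    (s t : (ξ : X) → Cyc.secFibre L ξ) (hs : ∀ ξ, s ξ ≠ 0) (ht : ∀ ξ, t ξ ≠ 0)
    (γ₁ γ₂ : AlgebraicCycle X ℤ) (h₁ : ⇑γ₁ = Cyc.c1CapFun δ L ⇑α s)
    (h₂ : ⇑γ₂ = Cyc.c1CapFun δ L ⇑α t) : Cyc.RatEquiv δ k γ₁ γ₂ := by
  classical
  obtain ⟨hXn, -, hδ⟩ := hX
  haveI := hXn
  choose u hu0 hu using fun ξ => exists_ratio δ hδ hL ξ (s ξ) (t ξ) (hs ξ) (ht ξ)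
  refine ⟨{ξ : X // α ξ ≠ 0}, fun i => i.1, fun i => u i.1 ^ α i.1, ?_, ?_, ?_, ?_⟩
  · intro i
    by_contra hne
    exact i.2 (hα i.1 hne)
  · intro i
    exact zpow_ne_zero _ (hu0 i.1)
  · intro x
    obtain ⟨T, hT, hfin⟩ := α.supportLocallyFiniteWithinDomain x trivial
    obtain ⟨U, hUT, hUo, hxU⟩ := mem_nhds_iff.mp hT
    refine ⟨U, hUo, hxU, ?_⟩
    have h1 : {i : {ξ : X // α ξ ≠ 0} | (closure {i.1} ∩ U).Nonempty} ⊆
        Subtype.val ⁻¹' (T ∩ Function.support α) := by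
      rintro i ⟨y, hy1, hy2⟩
      have hsp : i.1 ⤳ y := specializes_iff_mem_closure.mpr hy1
      exact ⟨hUT (hsp.mem_open hUo hy2), i.2⟩
    exact (hfin.preimage Subtype.val_injective.injOn).subset h1
  · intro x
    have hsub : (γ₁ - γ₂) x = γ₁ x - γ₂ x := by
      rw [Function.locallyFinsuppWithin.coe_sub]
      rfl
    rw [hsub, h₁, h₂]
    unfold Cyc.c1CapFun
    have hS := finite_support_specializes α x
    have hf1 : (Function.support fun ξ => α ξ * Cyc.secDivFun δ L ξ (s ξ) x).Finite := by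
      refine hS.subset ?_
      intro ξ hξ
      rw [Function.mem_support] at hξ
      exact ⟨left_ne_zero_of_mul hξ, secDivFun_ne_zero (right_ne_zero_of_mul hξ)⟩
    have hf2 : (Function.support fun ξ => α ξ * Cyc.secDivFun δ L ξ (t ξ) x).Finite := by
      refine hS.subset ?_
      intro ξ hξ
      rw [Function.mem_support] at hξ
      exact ⟨left_ne_zero_of_mul hξ, secDivFun_ne_zero (right_ne_zero_of_mul hξ)⟩
    rw [← finsum_sub_distrib hf1 hf2]
    have hterm : ∀ ξ : X, α ξ * Cyc.secDivFun δ L ξ (s ξ) x - α ξ * Cyc.secDivFun δ L ξ (t ξ) x =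
        Cyc.divFun δ ξ (u ξ ^ α ξ) x := by
      intro ξ
      rw [divFun_zpow δ hδ ξ (hu0 ξ), ← mul_sub]
      congr 1
      unfold Cyc.secDivFun Cyc.divFun
      by_cases hc : ξ ⤳ x ∧ δ x + 1 = δ ξ
      · rw [dif_pos hc, dif_pos hc, dif_pos hc]
        exact hu ξ x hc.1 hc.2
      · rw [dif_neg hc, dif_neg hc, dif_neg hc, sub_zero]
    rw [finsum_congr hterm]
    rw [finsum_subtype_eq_finsum_cond (f := fun ξ => Cyc.divFun δ ξ (u ξ ^ α ξ) x)
      (fun ξ => α ξ ≠ 0)]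
    have e2 : ∑ᶠ ξ ∈ {ξ : X | α ξ ≠ 0}, Cyc.divFun δ ξ (u ξ ^ α ξ) x =
        ∑ᶠ ξ ∈ (Set.univ : Set X), Cyc.divFun δ ξ (u ξ ^ α ξ) x := by
      apply finsum_mem_inter_support_eq'
      intro ξ hξ
      simp only [Set.mem_ofPred_eq, Set.mem_univ, iff_true]
      intro h0
      apply hξ
      change Cyc.divFun δ ξ (u ξ ^ α ξ) x = 0
      rw [h0, zpow_zero]
      unfold Cyc.divFun
      split_ifs with hc
      · exact ordAt_one x ξ hc.1
      · rfl
    rw [finsum_mem_univ] at e2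
    exact e2.symm

end SecOrdH8
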