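import Mathlib
import Groth.Prelude
import Groth.Agent.Lib.SecOrd2_helper8
import Groth.Agent.Lib.CycLen2_helper8
import Groth.Agent.Lib.Tens14_helper8

/-!
# Orders of rational sections, III: the structure sheaf (helper8).  APPEND-ONLY once landed.
-/

set_option autoImplicit false
universe u

open CategoryTheory AlgebraicGeometry TopologicalSpace Opposite

namespace SecOrdH8

variable {X : Scheme.{u}}

theorem isFreeGen_oneGerm (y : X) : IsFreeGen (Coh.structureModule X) y (CycLenH8.oneGerm y) := by
  constructor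
  · intro z
    obtain ⟨a, ha⟩ := (CycLenH8.stalkStructureEquiv y).surjective z
    exact ⟨a, ha.symm⟩
  · intro a ha
    have : CycLenH8.stalkStructureEquiv y a = 0 := ha
    exact (LinearEquiv.map_eq_zero_iff _).mp this

theorem stalkSpecializes_oneGerm {x ξ : X} (h : ξ ⤳ x) :
    (Coh.structureModule X).presheaf.stalkSpecializes h (CycLenH8.oneGerm x) =
      CycLenH8.oneGerm ξ :=
  stalkSpecializes_germ (Coh.structureModule X) h ⊤ trivial _

/-- The canonical rational section `1` of the structure sheaf. -/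
noncomputable def oneSec (ξ : X) : Cyc.secFibre (Coh.structureModule X) ξ :=
  fmk (Coh.structureModule X) ξ (CycLenH8.oneGerm ξ)

theorem oneSec_ne_zero (ξ : X) : oneSec ξ ≠ 0 := by
  intro h0
  have h1 : (1 : X.presheaf.stalk ξ) • fmk (Coh.structureModule X) ξ (CycLenH8.oneGerm ξ) = 0 := by
    rw [one_smul]; exact h0
  rw [(isFreeGen_oneGerm ξ).fibre_smul_eq_zero_iff] at h1
  exact (Ideal.ne_top_iff_one _).mp (IsLocalRing.maximalIdeal.isMaximal _).ne_top h1

theorem secOrdAt_oneSec {x ξ : X} (h : ξ ⤳ x) :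
    Cyc.secOrdAt (Coh.structureModule X) ξ x h (oneSec ξ) = 0 := by
  have hL := TensH8.isInvertible_structureModule (X := X)
  rw [secOrdAt_eq hL h (oneSec ξ) (isFreeGen_oneGerm x) 1
    (by rw [one_smul, stalkSpecializes_oneGerm]; rfl), map_one]
  exact ordAt_one x ξ h

theorem c1CapFun_oneSec (δ : X → ℤ) (α : X → ℤ) :
    Cyc.c1CapFun δ (Coh.structureModule X) α (fun ξ => oneSec ξ) = 0 := by
  funext x
  unfold Cyc.c1CapFun
  have : ∀ ξ : X, α ξ * Cyc.secDivFun δ (Coh.structureModule X) ξ (oneSec ξ) x = 0 := by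
    intro ξ
    unfold Cyc.secDivFun
    split_ifs with hc
    · rw [secOrdAt_oneSec, mul_zero]
    · rw [mul_zero]
  rw [finsum_congr this, finsum_zero]
  rfl

end SecOrdH8
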