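import Mathlib
import Groth.Prelude
import Groth.Agent.Lib.RefHull6_helper8
import Groth.Agent.Lib.StalkLoc_helper8
import Groth.Agent.Lib.SecOrd3_helper8

set_option autoImplicit false
universe u

open CategoryTheory AlgebraicGeometry TopologicalSpace Opposite
open QcqsLoc GenLocH8 SecOrdH8 FLFH8

/-! Rank one reflexive modules on a normal scheme have local generators around the points of
codimension at most one. -/

namespace RefHullH8

/-- A finitely generated torsion-free module over a principal ideal domain which embeds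
semilinearly into a vector space of dimension at most one over the fraction field is cyclic. -/
theorem exists_span_singleton_eq_top {R : Type u} [CommRing R] [IsDomain R] [IsPrincipalIdealRing R]
    {K : Type u} [Field K] [Algebra R K] [IsFractionRing R K]
    {M : Type u} [AddCommGroup M] [Module R M] [Module.Finite R M] [Module.IsTorsionFree R M]
    {V : Type u} [AddCommGroup V] [Module K V] (σ : M →+ V)
    (hσ : ∀ (r : R) (m : M), σ (r • m) = algebraMap R K r • σ m) (hinj : Function.Injective σ)
    (t : V) (ht : ∀ v : V, ∃ α : K, v = α • t) : ∃ m₀ : M, Submodule.span R {m₀} = ⊤ := by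
  haveI : Module.Free R M := Module.free_of_finite_type_torsion_free'
  let b := Module.Free.chooseBasis R M
  have hsub : ∀ i j : Module.Free.ChooseBasisIndex R M, i = j := by
    intro i j
    by_contra hij
    obtain ⟨α, hα⟩ := ht (σ (b i))
    obtain ⟨β, hβ⟩ := ht (σ (b j))
    obtain ⟨a, s, hs, rfl⟩ := IsFractionRing.div_surjective (A := R) α
    obtain ⟨a', s', hs', rfl⟩ := IsFractionRing.div_surjective (A := R) β
    have hs0 : algebraMap R K s ≠ 0 :=
      IsFractionRing.to_map_ne_zero_of_mem_nonZeroDivisors hs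
    have hs0' : algebraMap R K s' ≠ 0 :=
      IsFractionRing.to_map_ne_zero_of_mem_nonZeroDivisors hs'
    have hm : σ ((a' * s) • b i - (a * s') • b j) = 0 := by
      rw [map_sub, hσ, hσ, hα, hβ, smul_smul, smul_smul, ← sub_smul]
      convert zero_smul K t using 2
      rw [map_mul, map_mul]
      field_simp
      ring
    have hm0 := hinj (hm.trans (map_zero σ).symm)
    have h1 := congrArg (fun v => b.repr v i) hm0
    simp [hij] at h1
    have hsne : s ≠ 0 := nonZeroDivisors.ne_zero hs
    have ha' : a' = 0 := h1.resolve_right hsne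
    have hbj : σ (b j) = 0 := by rw [hβ, ha', map_zero, zero_div, zero_smul]
    have : b j = 0 := hinj (hbj.trans (map_zero σ).symm)
    exact b.ne_zero j this
  by_cases hemp : IsEmpty (Module.Free.ChooseBasisIndex R M)
  · refine ⟨0, ?_⟩
    rw [eq_top_iff]
    intro m _
    have : m = 0 := by
      rw [← b.sum_repr m]
      exact Finset.sum_eq_zero (fun i _ => (hemp.false i).elim)
    rw [this]
    exact Submodule.zero_mem _
  · rw [not_isEmpty_iff] at hemp
    obtain ⟨i⟩ := hemp
    refine ⟨b i, ?_⟩
    rw [eq_top_iff, ← b.span_eq]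
    apply Submodule.span_mono
    rintro _ ⟨j, rfl⟩
    rw [hsub j i]
    rfl

variable {X : Scheme.{u}}

theorem stalkMap_bijective_of_isIso {F G : X.Modules} (φ : F ⟶ G) [IsIso φ] (x : X) :
    Function.Bijective (RefHull.stalkMapₗ φ x) := by
  haveI : IsIso φ.mapPresheaf := by
    rw [← Scheme.Modules.toPresheaf_map]
    exact Functor.map_isIso _ _
  exact ConcreteCategory.bijective_of_isIso
    ((TopCat.Presheaf.stalkFunctor Ab x).map φ.mapPresheaf)

theorem isTorsionFree_structureModule [IsIntegral X] :
    TorSh.IsTorsionFree (Coh.structureModule X) := by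
  intro y
  exact Function.Injective.moduleIsTorsionFree (CycLenH8.stalkStructureEquiv y).symm
    (CycLenH8.stalkStructureEquiv y).symm.injective (fun r m => map_smul _ r m)

/-- The stalks of a reflexive module on an integral scheme are torsion-free. -/
theorem smul_eq_zero_of_isReflexive [IsIntegral X] {F : X.Modules} (hF : RefHull.IsReflexive F)
    (x : X) (a : X.presheaf.stalk x) (ha : a ≠ 0) (m : F.presheaf.stalk x) (h : a • m = 0) :
    m = 0 := by
  haveI : IsIso (RefHull.bidualMap F) := hF
  have hb := stalkMap_bijective_of_isIso (RefHull.bidualMap F) x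
  have h1 : a • RefHull.stalkMapₗ (RefHull.bidualMap F) x m = 0 := by
    rw [← map_smul, h, map_zero]
  have h2 := homSh_stalk_smul_eq_zero (RefHull.dual F) (Coh.structureModule X)
    isTorsionFree_structureModule x a ha _ h1
  exact hb.1 (h2.trans (map_zero _).symm)

theorem isTorsionFree_stalk_of_isReflexive [IsIntegral X] {F : X.Modules}
    (hF : RefHull.IsReflexive F) (x : X) :
    Module.IsTorsionFree (X.presheaf.stalk x) (F.presheaf.stalk x) := by
  refine ⟨fun a ha => ?_⟩
  intro m m' h
  have h' : a • (m - m') = 0 := by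
    rw [smul_sub]; exact sub_eq_zero.mpr h
  exact sub_eq_zero.mp (smul_eq_zero_of_isReflexive hF x a ha.ne_zero _ h')

theorem finite_stalk {F : X.Modules} (hF : CohB1.IsFT F) (x : X) :
    Module.Finite (X.presheaf.stalk x) (F.presheaf.stalk x) := by
  obtain ⟨V, hxV, n, m, hm⟩ := exists_spansOn F hF x
  exact Module.finite_def.2 (Submodule.fg_def.2 ⟨_, Set.finite_range _, hm x hxV⟩)

theorem isPrincipalIdealRing_stalk [IsIntegral X] [IsLocallyNoetherian X]
    (hX : Pi1.IsNormalScheme X) (x : X) (hx : Order.coheight x ≤ 1) :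
    IsPrincipalIdealRing (X.presheaf.stalk x) := by
  haveI : Ring.KrullDimLE 1 (X.presheaf.stalk x) :=
    krullDimLE_of_coheight_le (n := 1) (by exact_mod_cast hx)
  haveI : IsIntegrallyClosed (X.presheaf.stalk x) := (hX x).2
  have h4 : IsIntegrallyClosed (X.presheaf.stalk x) ∧ ∀ P : Ideal (X.presheaf.stalk x), P ≠ ⊥ →
      P.IsPrime → P = IsLocalRing.maximalIdeal (X.presheaf.stalk x) :=
    ⟨inferInstance, fun P hP hP' => IsLocalRing.eq_maximalIdeal (hP'.isMaximal_of_ne_bot hP)⟩
  exact ((tfae_of_isNoetherianRing_of_isLocalRing_of_isDomain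
    (R := X.presheaf.stalk x)).out 3 0).1 h4

/-- Elements of the stalk of a quasi-coherent module dying at the generic point are torsion. -/
theorem exists_smul_eq_zero_of_specializes [IsIntegral X] {F : X.Modules} [F.IsQuasicoherent]
    (x : X) (m : F.presheaf.stalk x)
    (hm : F.presheaf.stalkSpecializes ((genericPoint_spec X).specializes (Set.mem_univ x)) m = 0) :
    ∃ s : X.presheaf.stalk x, s ≠ 0 ∧ s • m = 0 := by
  obtain ⟨_, ⟨U, hU : IsAffineOpen U, rfl⟩, hxU, -⟩ :=
    (X.isBasis_affineOpens).exists_subset_of_mem_open (Set.mem_univ x) isOpen_univ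
  have hxU' : x ∈ U := hxU
  set h := (genericPoint_spec X).specializes (Set.mem_univ x) with hh
  have hηU : genericPoint X ∈ U := h.mem_open U.isOpen hxU'
  letI := StalkLocH8.modSec F hxU'
  haveI locx := StalkLocH8.isLocalizedModule_germLin F hU hxU'
  obtain ⟨⟨n, g⟩, hg⟩ := IsLocalizedModule.surj
    (hU.primeIdealOf ⟨x, hxU'⟩).asIdeal.primeCompl (StalkLocH8.germLin F hxU') m
  have hg' : X.presheaf.germ U x hxU' g.1 • m = F.presheaf.germ U x hxU' n := hg
  have h1 : F.presheaf.germ U (genericPoint X) hηU n = 0 := by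
    rw [← stalkSpecializes_germ F h U hxU' n, ← hg', stalkSpecializes_smul, hm, smul_zero]
  letI := StalkLocH8.modSec F hηU
  haveI locη := StalkLocH8.isLocalizedModule_germLin F hU hηU
  obtain ⟨g', hg'0⟩ := (IsLocalizedModule.eq_zero_iff
    (hU.primeIdealOf ⟨genericPoint X, hηU⟩).asIdeal.primeCompl (StalkLocH8.germLin F hηU)).1 h1
  have hg'ne : (g'.1 : Γ(X, U)) ≠ 0 := by
    intro h0
    exact g'.2 (h0 ▸ Ideal.zero_mem _)
  have hgne : X.presheaf.germ U x hxU' g.1 ≠ 0 := by
    intro h0
    have : g.1 = 0 := germ_injective_of_isIntegral X x hxU' (by rw [h0, map_zero])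
    exact g.2 (this ▸ Ideal.zero_mem _)
  have hg'ne' : X.presheaf.germ U x hxU' g'.1 ≠ 0 := by
    intro h0
    exact hg'ne (germ_injective_of_isIntegral X x hxU' (by rw [h0, map_zero]))
  refine ⟨X.presheaf.germ U x hxU' g'.1 * X.presheaf.germ U x hxU' g.1,
    mul_ne_zero hg'ne' hgne, ?_⟩
  rw [mul_smul, hg', ← Mero.germ_smul]
  have : (g'.1 : Γ(X, U)) • n = 0 := hg'0
  rw [this, map_zero]

end RefHullH8
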