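import Mathlib
import Groth.Prelude
import Groth.Agent.Lib.RefHull7_helper8

set_option autoImplicit false
universe u

open CategoryTheory AlgebraicGeometry TopologicalSpace Opposite
open QcqsLoc GenLocH8 SecOrdH8 FLFH8

/-! Spreading out a generator of a stalk; local generators of rank one reflexive modules. -/

namespace RefHullH8

variable {X : Scheme.{u}}

theorem germ_eq_iff (G : X.Modules) {U : X.Opens} (x : X) (hx : x ∈ U) (n n' : Γ(G, U)) :
    G.presheaf.germ U x hx n = G.presheaf.germ U x hx n' ↔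
      ∃ (W : X.Opens) (hW : W ≤ U), x ∈ W ∧ rF G hW n = rF G hW n' := by
  rw [← sub_eq_zero, ← map_sub, germ_eq_zero_iff]
  constructor
  · rintro ⟨W, hW, hxW, h⟩
    exact ⟨W, hW, hxW, by rw [map_sub] at h; exact sub_eq_zero.mp h⟩
  · rintro ⟨W, hW, hxW, h⟩
    exact ⟨W, hW, hxW, by rw [map_sub, h, sub_self]⟩

/-- On an integral scheme, a finite type module which is nonzero at the generic point and whose
stalk at `x` is generated by one element has a local generator around `x`. -/
theorem exists_isGen_of_span [IsIntegral X] {F : X.Modules} (hFT : CohB1.IsFT F)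
    (hne : Nontrivial (F.presheaf.stalk (genericPoint X))) (x : X) (t : F.presheaf.stalk x)
    (ht : Submodule.span (X.presheaf.stalk x) {t} = ⊤) :
    ∃ (W : X.Opens) (hx : x ∈ W) (e : Γ(F, W)), IsGen F W e ∧ F.presheaf.germ W x hx e = t := by
  obtain ⟨W₀, hxW₀, e₀, rfl⟩ := TopCat.Presheaf.exists_germ_eq F.presheaf t
  obtain ⟨V, hxV, n, m, hm⟩ := exists_spansOn F hFT x
  have key : ∀ i : Fin n, ∃ (W : X.Opens) (_ : x ∈ W) (hW : W ≤ W₀ ⊓ V) (r : Γ(X, W)),
      rF F (hW.trans inf_le_right) (m i) = r • rF F (hW.trans inf_le_left) e₀ := by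
    intro i
    have h1 : F.presheaf.germ V x hxV (m i) ∈
        Submodule.span (X.presheaf.stalk x) {F.presheaf.germ W₀ x hxW₀ e₀} := by
      rw [ht]; trivial
    obtain ⟨a, ha⟩ := Submodule.mem_span_singleton.mp h1
    obtain ⟨W₁, hxW₁, r₁, rfl⟩ := TopCat.Presheaf.exists_germ_eq X.presheaf a
    have hx2 : x ∈ W₁ ⊓ (W₀ ⊓ V) := ⟨hxW₁, hxW₀, hxV⟩
    have hle : W₁ ⊓ (W₀ ⊓ V) ≤ W₀ ⊓ V := inf_le_right
    have hle1 : W₁ ⊓ (W₀ ⊓ V) ≤ W₁ := inf_le_left
    have e1 : F.presheaf.germ (W₁ ⊓ (W₀ ⊓ V)) x hx2 (rF F (hle.trans inf_le_right) (m i)) =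
        F.presheaf.germ (W₁ ⊓ (W₀ ⊓ V)) x hx2
          (rX hle1 r₁ • rF F (hle.trans inf_le_left) e₀) := by
      rw [germ_rF, Mero.germ_smul, germ_rX, germ_rF]
      exact ha.symm
    obtain ⟨W₂, hW₂, hxW₂, e2⟩ := (germ_eq_iff F x hx2 _ _).1 e1
    refine ⟨W₂, hxW₂, hW₂.trans hle, rX (hW₂.trans hle1) r₁, ?_⟩
    rw [rF_rF, rF_smul, rX_rX, rF_rF] at e2
    exact e2
  choose W hxW hWle r hr using key
  set W₁ : X.Opens := (⨅ i, W i) ⊓ (W₀ ⊓ V) with hW₁
  have hxW₁ : x ∈ W₁ := ⟨(mem_iInf_opens W x).2 hxW, hxW₀, hxV⟩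
  have hW₁W₀ : W₁ ≤ W₀ := inf_le_right.trans inf_le_left
  have hW₁V : W₁ ≤ V := inf_le_right.trans inf_le_right
  have hW₁W : ∀ i, W₁ ≤ W i := fun i y hy => (mem_iInf_opens W y).1 hy.1 i
  -- spanning at all points of `W₁`
  have hspan : ∀ (y : X) (hy : y ∈ W₁) (z : F.presheaf.stalk y),
      ∃ a : X.presheaf.stalk y, z = a • F.presheaf.germ W₀ y (hW₁W₀ hy) e₀ := by
    intro y hy z
    have hz : z ∈ Submodule.span (X.presheaf.stalk y)
        (Set.range fun i => F.presheaf.germ V y (hW₁V hy) (m i)) := by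
      rw [hm y (hW₁V hy)]; trivial
    have hle : Submodule.span (X.presheaf.stalk y)
        (Set.range fun i => F.presheaf.germ V y (hW₁V hy) (m i)) ≤
        Submodule.span (X.presheaf.stalk y) {F.presheaf.germ W₀ y (hW₁W₀ hy) e₀} := by
      rw [Submodule.span_le]
      rintro _ ⟨i, rfl⟩
      have h1 := congrArg (F.presheaf.germ (W i) y (hW₁W i hy)) (hr i)
      rw [germ_rF, Mero.germ_smul, germ_rF] at h1
      change F.presheaf.germ V y (hW₁V hy) (m i) ∈ _
      rw [h1]
      exact Submodule.smul_mem _ _ (Submodule.subset_span rfl)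
    obtain ⟨a, ha⟩ := Submodule.mem_span_singleton.mp (hle hz)
    exact ⟨a, ha.symm⟩
  have hηW₁ : genericPoint X ∈ W₁ :=
    ((genericPoint_spec X).specializes (Set.mem_univ x)).mem_open W₁.isOpen hxW₁
  have hgne : F.presheaf.germ W₀ (genericPoint X) (hW₁W₀ hηW₁) e₀ ≠ 0 := by
    intro h0
    obtain ⟨z, z', hzz'⟩ := hne
    apply hzz'
    obtain ⟨a, ha⟩ := hspan _ hηW₁ z
    obtain ⟨a', ha'⟩ := hspan _ hηW₁ z'
    rw [ha, ha', h0, smul_zero, smul_zero]
  refine ⟨W₁, hxW₁, rF F hW₁W₀ e₀, ?_, germ_rF F hW₁W₀ x hxW₁ e₀⟩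
  apply isGen_of_isFreeGen
  intro y hy
  rw [germ_rF]
  refine ⟨hspan y hy, fun a ha => ?_⟩
  set h := (genericPoint_spec X).specializes (Set.mem_univ y) with hh
  have h1 := congrArg (F.presheaf.stalkSpecializes h) ha
  rw [stalkSpecializes_smul, stalkSpecializes_germ, map_zero] at h1
  have h2 : X.presheaf.stalkSpecializes h a = 0 := by
    by_contra hne0
    have hu : IsUnit (X.presheaf.stalkSpecializes h a) := by
      have : IsUnit (show X.functionField from X.presheaf.stalkSpecializes h a) :=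
        isUnit_iff_ne_zero.mpr hne0
      exact this
    obtain ⟨u, hu⟩ := hu
    apply hgne
    have := congrArg (fun z => (↑u⁻¹ : X.presheaf.stalk (genericPoint X)) • z) h1
    simp only [smul_zero] at this
    rw [← hu, smul_smul, Units.inv_mul, one_smul] at this
    exact this
  have hinj := IsFractionRing.injective (X.presheaf.stalk y) X.functionField
  exact hinj (h2.trans (map_zero _).symm)

/-- A rank one reflexive module on a normal integral locally Noetherian scheme has a local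
generator around every point of codimension at most one. -/
theorem exists_isGen_of_isRef1 [IsIntegral X] [IsLocallyNoetherian X]
    (hX : Pi1.IsNormalScheme X) {F : X.Modules} (hF : RefHull.IsRef1 F) (x : X)
    (hx : Order.coheight x ≤ 1) :
    ∃ (W : X.Opens) (_ : x ∈ W) (e : Γ(F, W)), IsGen F W e := by
  obtain ⟨⟨hqc, hft⟩, hrefl, hgen⟩ := hF
  haveI : F.IsQuasicoherent := hqc
  obtain ⟨W₀, hηW₀, e₀, he₀⟩ := exists_isGen_generic hgen
  have htη : IsFreeGen F (genericPoint X) (F.presheaf.germ W₀ _ hηW₀ e₀) := stalk_gen he₀ hηW₀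
  have hne : Nontrivial (F.presheaf.stalk (genericPoint X)) := by
    refine ⟨⟨F.presheaf.germ W₀ _ hηW₀ e₀, 0, fun h0 => ?_⟩⟩
    have := htη.2 1 (by rw [one_smul]; exact h0)
    exact one_ne_zero this
  haveI := isPrincipalIdealRing_stalk hX x hx
  haveI := finite_stalk hft x
  haveI := isTorsionFree_stalk_of_isReflexive hrefl x
  set h := (genericPoint_spec X).specializes (Set.mem_univ x) with hh
  have hinj : Function.Injective (F.presheaf.stalkSpecializes h).hom := by
    intro m m' hmm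
    have h0 : F.presheaf.stalkSpecializes h (m - m') = 0 := by
      rw [map_sub]; exact sub_eq_zero.mpr hmm
    obtain ⟨s, hs, hsm⟩ := exists_smul_eq_zero_of_specializes x (m - m') h0
    exact sub_eq_zero.mp (smul_eq_zero_of_isReflexive hrefl x s hs _ hsm)
  obtain ⟨m₀, hm₀⟩ := exists_span_singleton_eq_top (R := X.presheaf.stalk x)
    (K := X.functionField) (M := F.presheaf.stalk x) (V := F.presheaf.stalk (genericPoint X))
    (F.presheaf.stalkSpecializes h).hom (fun r m => stalkSpecializes_smul F h r m) hinj _ htη.1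
  obtain ⟨W, hxW, e, he, -⟩ := exists_isGen_of_span hft hne x m₀ hm₀
  exact ⟨W, hxW, e, he⟩

end RefHullH8
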