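import Mathlib
import Groth.Prelude
import Groth.Agent.Lib.SecOrd2_helper8
import Groth.Agent.Lib.Tens5_helper8

/-!
# Orders of rational sections, V: tensor products (helper8).  APPEND-ONLY once landed.
-/

set_option autoImplicit false
universe u

open CategoryTheory AlgebraicGeometry TopologicalSpace Opposite
open QcqsLoc GenLocH8 Groth.Agent.Lib.QCohLoc_helper4 TensH8
open Groth.Agent.LatticeDet Groth.Agent.OrdSum

namespace SecOrdH8

variable {X : Scheme.{u}}

/-- Changing local generators of two invertible modules and of their tensor product. -/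
theorem germ_tmul_change {L N : X.Modules} {W W' : X.Opens} {eL : Γ(L, W)} {eN : Γ(N, W)}
    {eL' : Γ(L, W')} {eN' : Γ(N, W')} (heL' : IsGen L W' eL') (heN' : IsGen N W' eN')
    (y : X) (hy : y ∈ W) (hy' : y ∈ W') :
    ∃ vL vN : X.presheaf.stalk y,
      L.presheaf.germ W y hy eL = vL • L.presheaf.germ W' y hy' eL' ∧
      N.presheaf.germ W y hy eN = vN • N.presheaf.germ W' y hy' eN' ∧
      (CohB1.tensorMod L N).presheaf.germ W y hy (SecTwist.tmul L N W eL eN) =
        (vL * vN) • (CohB1.tensorMod L N).presheaf.germ W' y hy' (SecTwist.tmul L N W' eL' eN') := by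
  have h1 : W ⊓ W' ≤ W := inf_le_left
  have h2 : W ⊓ W' ≤ W' := inf_le_right
  have hyO : y ∈ W ⊓ W' := ⟨hy, hy'⟩
  obtain ⟨cL, hcL⟩ := (heL' (W ⊓ W') h2).1 (rF L h1 eL)
  obtain ⟨cN, hcN⟩ := (heN' (W ⊓ W') h2).1 (rF N h1 eN)
  refine ⟨X.presheaf.germ (W ⊓ W') y hyO cL, X.presheaf.germ (W ⊓ W') y hyO cN, ?_, ?_, ?_⟩
  · rw [← germ_rF L h1 y hyO eL, hcL, germ_smul, germ_rF]
  · rw [← germ_rF N h1 y hyO eN, hcN, germ_smul, germ_rF]
  · rw [← germ_rF (CohB1.tensorMod L N) h1 y hyO, rF_tmul, hcL, hcN, tmul_smul_left,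
      tmul_smul_right, ← rF_tmul, germ_smul, germ_smul, germ_rF, smul_smul]

/-- The product of two nonzero rational sections. -/
theorem exists_tensor_section [IsLocallyNoetherian X] (δ : X → ℤ) (hδ : Cyc.IsDimFun X δ)
    {L N : X.Modules} (hL : PicF.IsInvertible L) (hN : PicF.IsInvertible N) (ξ : X)
    (sL : Cyc.secFibre L ξ) (sN : Cyc.secFibre N ξ) (hsL : sL ≠ 0) (hsN : sN ≠ 0) :
    ∃ sT : Cyc.secFibre (CohB1.tensorMod L N) ξ, sT ≠ 0 ∧
      ∀ (x : X) (h : ξ ⤳ x), δ x + 1 = δ ξ →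
        Cyc.secOrdAt (CohB1.tensorMod L N) ξ x h sT =
          Cyc.secOrdAt L ξ x h sL + Cyc.secOrdAt N ξ x h sN := by
  have hT := isInvertible_tensorMod hL hN
  obtain ⟨W, hξW, eL, eN, heL, heN⟩ := exists_isGen₂ hL hN ξ
  have heT := isGen_tmul heL heN
  have gL : IsFreeGen L ξ (L.presheaf.germ W ξ hξW eL) := stalk_gen heL hξW
  have gN : IsFreeGen N ξ (N.presheaf.germ W ξ hξW eN) := stalk_gen heN hξW
  have gT : IsFreeGen (CohB1.tensorMod L N) ξ
      ((CohB1.tensorMod L N).presheaf.germ W ξ hξW (SecTwist.tmul L N W eL eN)) :=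
    stalk_gen heT hξW
  obtain ⟨φL, hφL⟩ := gL.fibre_surj sL
  obtain ⟨φN, hφN⟩ := gN.fibre_surj sN
  have hφL0 : φL ∉ IsLocalRing.maximalIdeal (X.presheaf.stalk ξ) := by
    intro hm
    exact hsL (hφL.trans ((gL.fibre_smul_eq_zero_iff φL).mpr hm))
  have hφN0 : φN ∉ IsLocalRing.maximalIdeal (X.presheaf.stalk ξ) := by
    intro hm
    exact hsN (hφN.trans ((gN.fibre_smul_eq_zero_iff φN).mpr hm))
  refine ⟨(φL * φN) • fmk (CohB1.tensorMod L N) ξ
    ((CohB1.tensorMod L N).presheaf.germ W ξ hξW (SecTwist.tmul L N W eL eN)), ?_, ?_⟩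
  · intro h0
    rw [gT.fibre_smul_eq_zero_iff] at h0
    rcases (IsLocalRing.maximalIdeal.isMaximal _).isPrime.mem_or_mem h0 with h | h
    · exact hφL0 h
    · exact hφN0 h
  · intro x h hd
    obtain ⟨W', hxW', eL', eN', heL', heN'⟩ := exists_isGen₂ hL hN x
    have heT' := isGen_tmul heL' heN'
    have hξW' : ξ ∈ W' := h.mem_open W'.isOpen hxW'
    obtain ⟨vL, vN, hvL, hvN, hvT⟩ := germ_tmul_change (eL := eL) (eN := eN) heL' heN' ξ hξW hξW'
    have fL : IsFreeGen L x (L.presheaf.germ W' x hxW' eL') := stalk_gen heL' hxW'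
    have fN : IsFreeGen N x (N.presheaf.germ W' x hxW' eN') := stalk_gen heN' hxW'
    have fT : IsFreeGen (CohB1.tensorMod L N) x
        ((CohB1.tensorMod L N).presheaf.germ W' x hxW' (SecTwist.tmul L N W' eL' eN')) :=
      stalk_gen heT' hxW'
    have e1 : sL = (φL * vL) • fmk L ξ (L.presheaf.stalkSpecializes h
        (L.presheaf.germ W' x hxW' eL')) := by
      rw [hφL, hvL, stalkSpecializes_germ, mul_smul]
      rfl
    have e2 : sN = (φN * vN) • fmk N ξ (N.presheaf.stalkSpecializes h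
        (N.presheaf.germ W' x hxW' eN')) := by
      rw [hφN, hvN, stalkSpecializes_germ, mul_smul]
      rfl
    have e3 : (φL * φN) • fmk (CohB1.tensorMod L N) ξ
        ((CohB1.tensorMod L N).presheaf.germ W ξ hξW (SecTwist.tmul L N W eL eN)) =
        ((φL * vL) * (φN * vN)) • fmk (CohB1.tensorMod L N) ξ
          ((CohB1.tensorMod L N).presheaf.stalkSpecializes h
            ((CohB1.tensorMod L N).presheaf.germ W' x hxW' (SecTwist.tmul L N W' eL' eN'))) := by
      rw [hvT, stalkSpecializes_germ]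
      change (φL * φN) • ((vL * vN) • fmk (CohB1.tensorMod L N) ξ _) = _
      rw [smul_smul]
      congr 1
      ring
    rw [secOrdAt_eq hL h sL fL _ e1, secOrdAt_eq hN h sN fN _ e2, secOrdAt_eq hT h _ fT _ e3]
    haveI := OrdFlatH8.krullDimLE_one_locQuot δ hδ x ξ h (by omega)
    haveI := OrdFlatH8.isFractionRing_locQuot x ξ h
    have hsp : IsFreeGen L ξ (L.presheaf.stalkSpecializes h (L.presheaf.germ W' x hxW' eL')) :=
      fL.stalkSpecializes hL h
    have hsp' : IsFreeGen N ξ (N.presheaf.stalkSpecializes h (N.presheaf.germ W' x hxW' eN')) :=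
      fN.stalkSpecializes hN h
    have n1 : X.residue ξ (φL * vL) ≠ 0 := by
      intro h0
      apply hsL
      rw [e1, hsp.fibre_smul_eq_zero_iff]
      exact (IsLocalRing.residue_eq_zero_iff _).mp h0
    have n2 : X.residue ξ (φN * vN) ≠ 0 := by
      intro h0
      apply hsN
      rw [e2, hsp'.fibre_smul_eq_zero_iff]
      exact (IsLocalRing.residue_eq_zero_iff _).mp h0
    unfold Cyc.ordAt
    rw [map_mul (X.residue ξ).hom (φL * vL) (φN * vN)]
    exact ordFrac_mul (Cyc.LocQuot x ξ h) (X.residueField ξ) n1 n2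

end SecOrdH8
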