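import Mathlib
import Groth.Prelude
import Groth.Agent.Lib.SecOrd5_helper8

/-!
# Orders of rational sections, VI: tensor products, dimension-function-free form (helper8).
APPEND-ONLY once landed.
-/

set_option autoImplicit false
universe u

open CategoryTheory AlgebraicGeometry TopologicalSpace Opposite
open QcqsLoc GenLocH8 Groth.Agent.Lib.QCohLoc_helper4 TensH8
open Groth.Agent.LatticeDet Groth.Agent.OrdSum

namespace SecOrdH8

variable {X : Scheme.{u}}

/-- The product of two nonzero rational sections. -/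
theorem exists_tensor_section' [IsLocallyNoetherian X]
    {L N : X.Modules} (hL : PicF.IsInvertible L) (hN : PicF.IsInvertible N) (ξ : X)
    (sL : Cyc.secFibre L ξ) (sN : Cyc.secFibre N ξ) (hsL : sL ≠ 0) (hsN : sN ≠ 0) :
    ∃ sT : Cyc.secFibre (CohB1.tensorMod L N) ξ, sT ≠ 0 ∧
      ∀ (x : X) (h : ξ ⤳ x), Ring.KrullDimLE 1 (Cyc.LocQuot x ξ h) →
        Cyc.secOrdAt (CohB1.tensorMod L N) ξ x h sT =
          Cyc.secOrdAt L ξ x h sL + Cyc.secOrdAt N ξ x h sN := by
  have hT := isInvertible_tensorMod hL hN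
  obtain ⟨W, hξW, eL, eN, heL, heN⟩ := exists_isGen₂ hL hN ξ
  have heT := isGen_tmul heL heN
  have gL : IsFreeGen L ξ (L.presheaf.germ W ξ hξW eL) := stalk_gen heL hξW
  have gN : IsFreeGen N ξ (N.presheaf.germ W ξ hξW eN) := stalk_gen heN hξW
  have gT : IsFreeGen (CohB1.tensorMod L N) ξ
      ((CohB1.tensorMod L N).presheaf.germ W ξ hξW (SecTwist.tmul L N W eL eN)) :=
    stalk_gen heT hξW
  obtain ⟨φL, hφL⟩ := gL.fibre_surj sL
  obtain ⟨φN, hφN⟩ := gN.fibre_surj sN
  have hφL0 : φL ∉ IsLocalRing.maximalIdeal (X.presheaf.stalk ξ) := by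
    intro hm
    exact hsL (hφL.trans ((gL.fibre_smul_eq_zero_iff φL).mpr hm))
  have hφN0 : φN ∉ IsLocalRing.maximalIdeal (X.presheaf.stalk ξ) := by
    intro hm
    exact hsN (hφN.trans ((gN.fibre_smul_eq_zero_iff φN).mpr hm))
  refine ⟨(φL * φN) • fmk (CohB1.tensorMod L N) ξ
    ((CohB1.tensorMod L N).presheaf.germ W ξ hξW (SecTwist.tmul L N W eL eN)), ?_, ?_⟩
  · intro h0
    rw [gT.fibre_smul_eq_zero_iff] at h0
    rcases (IsLocalRing.maximalIdeal.isMaximal _).isPrime.mem_or_mem h0 with h | h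
    · exact hφL0 h
    · exact hφN0 h
  · intro x h hd
    obtain ⟨W', hxW', eL', eN', heL', heN'⟩ := exists_isGen₂ hL hN x
    have heT' := isGen_tmul heL' heN'
    have hξW' : ξ ∈ W' := h.mem_open W'.isOpen hxW'
    obtain ⟨vL, vN, hvL, hvN, hvT⟩ := germ_tmul_change (eL := eL) (eN := eN) heL' heN' ξ hξW hξW'
    have fL : IsFreeGen L x (L.presheaf.germ W' x hxW' eL') := stalk_gen heL' hxW'
    have fN : IsFreeGen N x (N.presheaf.germ W' x hxW' eN') := stalk_gen heN' hxW'
    have fT : IsFreeGen (CohB1.tensorMod L N) x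
        ((CohB1.tensorMod L N).presheaf.germ W' x hxW' (SecTwist.tmul L N W' eL' eN')) :=
      stalk_gen heT' hxW'
    have e1 : sL = (φL * vL) • fmk L ξ (L.presheaf.stalkSpecializes h
        (L.presheaf.germ W' x hxW' eL')) := by
      rw [hφL, hvL, stalkSpecializes_germ, mul_smul]
      rfl
    have e2 : sN = (φN * vN) • fmk N ξ (N.presheaf.stalkSpecializes h
        (N.presheaf.germ W' x hxW' eN')) := by
      rw [hφN, hvN, stalkSpecializes_germ, mul_smul]
      rfl
    have e3 : (φL * φN) • fmk (CohB1.tensorMod L N) ξ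
        ((CohB1.tensorMod L N).presheaf.germ W ξ hξW (SecTwist.tmul L N W eL eN)) =
        ((φL * vL) * (φN * vN)) • fmk (CohB1.tensorMod L N) ξ
          ((CohB1.tensorMod L N).presheaf.stalkSpecializes h
            ((CohB1.tensorMod L N).presheaf.germ W' x hxW' (SecTwist.tmul L N W' eL' eN'))) := by
      rw [hvT, stalkSpecializes_germ]
      change (φL * φN) • ((vL * vN) • fmk (CohB1.tensorMod L N) ξ _) = _
      rw [smul_smul]
      congr 1
      ring
    rw [secOrdAt_eq hL h sL fL _ e1, secOrdAt_eq hN h sN fN _ e2, secOrdAt_eq hT h _ fT _ e3]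
    haveI := hd
    haveI := OrdFlatH8.isFractionRing_locQuot x ξ h
    have hsp : IsFreeGen L ξ (L.presheaf.stalkSpecializes h (L.presheaf.germ W' x hxW' eL')) :=
      fL.stalkSpecializes hL h
    have hsp' : IsFreeGen N ξ (N.presheaf.stalkSpecializes h (N.presheaf.germ W' x hxW' eN')) :=
      fN.stalkSpecializes hN h
    have n1 : X.residue ξ (φL * vL) ≠ 0 := by
      intro h0
      apply hsL
      rw [e1, hsp.fibre_smul_eq_zero_iff]
      exact (IsLocalRing.residue_eq_zero_iff _).mp h0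
    have n2 : X.residue ξ (φN * vN) ≠ 0 := by
      intro h0
      apply hsN
      rw [e2, hsp'.fibre_smul_eq_zero_iff]
      exact (IsLocalRing.residue_eq_zero_iff _).mp h0
    unfold Cyc.ordAt
    rw [map_mul (X.residue ξ).hom (φL * vL) (φN * vN)]
    exact ordFrac_mul (Cyc.LocQuot x ξ h) (X.residueField ξ) n1 n2

end SecOrdH8
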