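import Mathlib
import Groth.Prelude
import Groth.Agent.Lib.RefHull8_helper8
import Groth.Agent.Lib.SecOrd6_helper8

set_option autoImplicit false
universe u

open CategoryTheory AlgebraicGeometry TopologicalSpace Opposite
open QcqsLoc GenLocH8 SecOrdH8 FLFH8 TensH8
open Groth.Agent.LatticeDet Groth.Agent.OrdSum

/-! Additivity of the divisor of a rational section for the reflexive tensor product. -/

namespace RefHullH8

variable {X : Scheme.{u}}

theorem krullDimLE_one_locQuot_of_coheight [IsLocallyNoetherian X] {x ξ : X} (h : ξ ⤳ x)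
    (hx : Order.coheight x ≤ 1) : Ring.KrullDimLE 1 (Cyc.LocQuot x ξ h) := by
  haveI : Ring.KrullDimLE 1 (X.presheaf.stalk x) :=
    krullDimLE_of_coheight_le (n := 1) (by exact_mod_cast hx)
  exact Groth.Agent.OrdSum.krullDimLE_quot _

/-- Two rank one reflexive modules have local generators on a common neighbourhood of a point of
codimension at most one. -/
theorem exists_isGen₂_of_isRef1 [IsIntegral X] [IsLocallyNoetherian X]
    (hX : Pi1.IsNormalScheme X) {F G : X.Modules} (hF : RefHull.IsRef1 F) (hG : RefHull.IsRef1 G)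
    (x : X) (hx : Order.coheight x ≤ 1) :
    ∃ (W : X.Opens) (_ : x ∈ W) (e : Γ(F, W)) (e' : Γ(G, W)), IsGen F W e ∧ IsGen G W e' := by
  obtain ⟨W1, hx1, e1, he1⟩ := exists_isGen_of_isRef1 hX hF x hx
  obtain ⟨W2, hx2, e2, he2⟩ := exists_isGen_of_isRef1 hX hG x hx
  exact ⟨W1 ⊓ W2, ⟨hx1, hx2⟩, _, _, he1.res inf_le_left, he2.res inf_le_right⟩

theorem germ_app {F G : X.Modules} (φ : F ⟶ G) {W : X.Opens} (y : X) (hy : y ∈ W) (m : Γ(F, W)) :
    G.presheaf.germ W y hy (φ.app W m) = RefHull.stalkMapₗ φ y (F.presheaf.germ W y hy m) :=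
  (RefHull.stalkMapₗ_germ φ y hy m).symm

theorem exists_ddualTensor_section [IsIntegral X] [IsLocallyNoetherian X]
    (hX : Pi1.IsNormalScheme X) (F G : X.Modules) (hF : RefHull.IsRef1 F) (hG : RefHull.IsRef1 G)
    (s : Cyc.secFibre F (genericPoint X)) (hs : s ≠ 0) (t : Cyc.secFibre G (genericPoint X))
    (ht : t ≠ 0) :
    ∃ w : Cyc.secFibre (RefHull.ddual (CohB1.tensorMod F G)) (genericPoint X), w ≠ 0 ∧
      ∀ (x : X), Order.coheight x = 1 →
        Cyc.secOrdAt (RefHull.ddual (CohB1.tensorMod F G)) (genericPoint X) x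
            ((genericPoint_spec X).specializes (Set.mem_univ x)) w =
          Cyc.secOrdAt F (genericPoint X) x ((genericPoint_spec X).specializes (Set.mem_univ x)) s +
            Cyc.secOrdAt G (genericPoint X) x
              ((genericPoint_spec X).specializes (Set.mem_univ x)) t := by
  set T := CohB1.tensorMod F G with hT
  set H := RefHull.ddual T with hH
  set j := RefHull.bidualMap T with hj
  obtain ⟨W1, hη1, eF1, heF1⟩ := exists_isGen_generic hF.2.2
  obtain ⟨W2, hη2, eG2, heG2⟩ := exists_isGen_generic hG.2.2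
  obtain ⟨W, hξW, eL, eN, heL, heN⟩ : ∃ (W : X.Opens) (_ : (genericPoint X) ∈ W) (e : Γ(F, W)) (e' : Γ(G, W)),
      IsGen F W e ∧ IsGen G W e' :=
    ⟨W1 ⊓ W2, ⟨hη1, hη2⟩, _, _, heF1.res inf_le_left, heG2.res inf_le_right⟩
  have heT : IsGen T W (SecTwist.tmul F G W eL eN) := isGen_tmul heL heN
  have heH : IsGen H W (j.app W (SecTwist.tmul F G W eL eN)) := isGen_bidual heT
  have gL : IsFreeGen F (genericPoint X) (F.presheaf.germ W (genericPoint X) hξW eL) := stalk_gen heL hξW
  have gN : IsFreeGen G (genericPoint X) (G.presheaf.germ W (genericPoint X) hξW eN) := stalk_gen heN hξW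
  have gH : IsFreeGen H (genericPoint X) (H.presheaf.germ W (genericPoint X) hξW (j.app W (SecTwist.tmul F G W eL eN))) :=
    stalk_gen heH hξW
  obtain ⟨φL, hφL⟩ := gL.fibre_surj s
  obtain ⟨φN, hφN⟩ := gN.fibre_surj t
  have hφL0 : φL ∉ IsLocalRing.maximalIdeal (X.presheaf.stalk (genericPoint X)) := by
    intro hm
    exact hs (hφL.trans ((gL.fibre_smul_eq_zero_iff φL).mpr hm))
  have hφN0 : φN ∉ IsLocalRing.maximalIdeal (X.presheaf.stalk (genericPoint X)) := by
    intro hm
    exact ht (hφN.trans ((gN.fibre_smul_eq_zero_iff φN).mpr hm))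
  refine ⟨(φL * φN) • fmk H (genericPoint X)
    (H.presheaf.germ W (genericPoint X) hξW (j.app W (SecTwist.tmul F G W eL eN))), ?_, ?_⟩
  · intro h0
    rw [gH.fibre_smul_eq_zero_iff] at h0
    rcases (IsLocalRing.maximalIdeal.isMaximal _).isPrime.mem_or_mem h0 with h | h
    · exact hφL0 h
    · exact hφN0 h
  · intro x hx
    set h := (genericPoint_spec X).specializes (Set.mem_univ x) with hh
    obtain ⟨W', hxW', eL', eN', heL', heN'⟩ := exists_isGen₂_of_isRef1 hX hF hG x hx.le
    have heT' : IsGen T W' (SecTwist.tmul F G W' eL' eN') := isGen_tmul heL' heN'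
    have heH' : IsGen H W' (j.app W' (SecTwist.tmul F G W' eL' eN')) := isGen_bidual heT'
    have hξW' : (genericPoint X) ∈ W' := h.mem_open W'.isOpen hxW'
    obtain ⟨vL, vN, hvL, hvN, hvT⟩ := germ_tmul_change (eL := eL) (eN := eN) heL' heN' (genericPoint X) hξW hξW'
    have hvH : H.presheaf.germ W (genericPoint X) hξW (j.app W (SecTwist.tmul F G W eL eN)) =
        (vL * vN) • H.presheaf.germ W' (genericPoint X) hξW' (j.app W' (SecTwist.tmul F G W' eL' eN')) := by
      rw [germ_app, germ_app, hvT, map_smul]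
    have e1 : s = (φL * vL) • fmk F (genericPoint X) (F.presheaf.germ W' (genericPoint X) hξW' eL') := by
      rw [hφL, hvL, mul_smul]
      rfl
    have e2 : t = (φN * vN) • fmk G (genericPoint X) (G.presheaf.germ W' (genericPoint X) hξW' eN') := by
      rw [hφN, hvN, mul_smul]
      rfl
    have e3 : (φL * φN) • fmk H (genericPoint X)
        (H.presheaf.germ W (genericPoint X) hξW (j.app W (SecTwist.tmul F G W eL eN))) =
        ((φL * vL) * (φN * vN)) • fmk H (genericPoint X)
          (H.presheaf.germ W' (genericPoint X) hξW' (j.app W' (SecTwist.tmul F G W' eL' eN'))) := by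
      rw [hvH]
      change (φL * φN) • ((vL * vN) • fmk H (genericPoint X) _) = _
      rw [smul_smul]
      congr 1
      ring
    rw [secOrdAt_eq_of_isGen h heL' hxW' s _ e1, secOrdAt_eq_of_isGen h heN' hxW' t _ e2,
      secOrdAt_eq_of_isGen h heH' hxW' _ _ e3]
    haveI := krullDimLE_one_locQuot_of_coheight h hx.le
    haveI := OrdFlatH8.isFractionRing_locQuot x (genericPoint X) h
    have hspL : IsFreeGen F (genericPoint X) (F.presheaf.germ W' (genericPoint X) hξW' eL') := stalk_gen heL' hξW'
    have hspN : IsFreeGen G (genericPoint X) (G.presheaf.germ W' (genericPoint X) hξW' eN') := stalk_gen heN' hξW'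
    have n1 : X.residue (genericPoint X) (φL * vL) ≠ 0 := by
      intro h0
      apply hs
      rw [e1, hspL.fibre_smul_eq_zero_iff]
      exact (IsLocalRing.residue_eq_zero_iff _).mp h0
    have n2 : X.residue (genericPoint X) (φN * vN) ≠ 0 := by
      intro h0
      apply ht
      rw [e2, hspN.fibre_smul_eq_zero_iff]
      exact (IsLocalRing.residue_eq_zero_iff _).mp h0
    unfold Cyc.ordAt
    rw [map_mul (X.residue (genericPoint X)).hom (φL * vL) (φN * vN)]
    exact ordFrac_mul (Cyc.LocQuot x (genericPoint X) h) (X.residueField (genericPoint X)) n1 n2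

end RefHullH8
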