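import Mathlib
import Groth.Prelude
import Groth.Agent.Lib.RefHull9_helper8
import Groth.Agent.Lib.NormHart2_helper8

set_option autoImplicit false
universe u

open CategoryTheory AlgebraicGeometry TopologicalSpace Opposite
open QcqsLoc GenLocH8 SecOrdH8 FLFH8

/-! The locus where a section of a rank one reflexive module fails to generate has pure
codimension one. -/

namespace RefHullH8

variable {X : Scheme.{u}}

theorem stalkSpecializes_trans (F : X.Modules) {x y z : X} (h : x ⤳ y) (h' : y ⤳ z)
    (m : F.presheaf.stalk z) :
    F.presheaf.stalkSpecializes h (F.presheaf.stalkSpecializes h' m) =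
      F.presheaf.stalkSpecializes (h.trans h') m := by
  rw [← ConcreteCategory.comp_apply, TopCat.Presheaf.stalkSpecializes_comp]

/-- A section of a torsion-free quasi-coherent module (here: reflexive) is determined by its
germ at the generic point. -/
theorem eq_zero_of_germ_generic [IsIntegral X] {F : X.Modules} [F.IsQuasicoherent]
    (hrefl : RefHull.IsReflexive F) {V : X.Opens} (g : Γ(F, V))
    (h : ∀ hη : genericPoint X ∈ V, F.presheaf.germ V (genericPoint X) hη g = 0) : g = 0 := by
  refine TopCat.Presheaf.section_ext ⟨F.presheaf, F.isSheaf⟩ V _ _ (fun y hy => ?_)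
  rw [map_zero]
  set hs := (genericPoint_spec X).specializes (Set.mem_univ y) with hhs
  have h1 : F.presheaf.stalkSpecializes hs (F.presheaf.germ V y hy g) = 0 := by
    rw [stalkSpecializes_germ]
    exact h _
  obtain ⟨t, ht, htm⟩ := exists_smul_eq_zero_of_specializes y _ h1
  exact smul_eq_zero_of_isReflexive hrefl y t ht _ htm

theorem eq_generic_of_coheight_eq_zero [IsIntegral X] (z : X) (h : Order.coheight z = 0) :
    z = genericPoint X := by
  have hmax : IsMax z := Order.coheight_eq_zero.mp h
  have h1 : genericPoint X ⤳ z := (genericPoint_spec X).specializes (Set.mem_univ z)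
  have h2 : z ≤ genericPoint X := h1
  have h3 : genericPoint X ≤ z := hmax h2
  have h4 : z ⤳ genericPoint X := h3
  exact (h4.antisymm h1).eq

theorem dim_eq_one_of_not_gen [IsIntegral X] [IsLocallyNoetherian X]
    (hX : Pi1.IsNormalScheme X) (F : X.Modules) (hF : RefHull.IsRef1 F) (s : Γ(F, ⊤)) (hs : s ≠ 0)
    (z : X)
    (hz : ¬ Function.Bijective fun a : X.presheaf.stalk z => a • F.presheaf.germ ⊤ z trivial s)
    (hmax : ∀ y : X, ¬ Function.Bijective
      (fun a : X.presheaf.stalk y => a • F.presheaf.germ ⊤ y trivial s) → y ⤳ z → y = z) :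
    ringKrullDim (X.presheaf.stalk z) = 1 := by
  obtain ⟨⟨hqc, hft⟩, hrefl, hgen⟩ := hF
  haveI : F.IsQuasicoherent := hqc
  by_contra hdim
  apply hz
  set η := genericPoint X with hη
  have hsη : F.presheaf.germ ⊤ η trivial s ≠ 0 := by
    intro h0
    exact hs (eq_zero_of_germ_generic hrefl s (fun _ => h0))
  obtain ⟨W₀, hηW₀, e₀, he₀⟩ := exists_isGen_generic hgen
  have heη : IsFreeGen F η (F.presheaf.germ W₀ η hηW₀ e₀) := stalk_gen he₀ hηW₀
  obtain ⟨c, hc⟩ := heη.1 (F.presheaf.germ ⊤ η trivial s)
  have hc0 : c ≠ 0 := by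
    rintro rfl
    rw [zero_smul] at hc
    exact hsη hc
  -- cancellation at the generic point
  have hcancel : ∀ a b : X.presheaf.stalk η, a • F.presheaf.germ ⊤ η trivial s =
      b • F.presheaf.germ ⊤ η trivial s → a = b := by
    intro a b hab
    rw [hc, smul_smul, smul_smul] at hab
    have := heη.smul_cancel hab
    exact mul_right_cancel₀ hc0 this
  have hspecz : ∀ (y : X) (h : η ⤳ y), F.presheaf.stalkSpecializes h
      (F.presheaf.germ ⊤ y trivial s) = F.presheaf.germ ⊤ η trivial s :=
    fun y h => stalkSpecializes_germ F h ⊤ trivial s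
  set hηz := (genericPoint_spec X).specializes (Set.mem_univ z) with hhηz
  have hcoh : ¬ Order.coheight z ≤ 1 := by
    intro hle
    rw [ringKrullDim_stalk_eq_coheight] at hdim
    have h01 : Order.coheight z = 0 ∨ Order.coheight z = 1 := by
      rcases Order.le_one_iff.mp hle with h | h
      · exact Or.inl h
      · exact Or.inr h
    rcases h01 with h0 | h1
    · -- `z` is the generic point, where `s` generates
      have hzη : z = η := eq_generic_of_coheight_eq_zero z h0
      apply hz
      rw [hzη]
      constructor
      · intro a b hab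
        exact hcancel a b hab
      · intro m
        obtain ⟨β, hβ⟩ := heη.1 m
        refine ⟨β * c⁻¹, ?_⟩
        change (β * c⁻¹) • F.presheaf.germ ⊤ η trivial s = m
        rw [hc, smul_smul, mul_assoc, inv_mul_cancel₀ hc0, mul_one, hβ]
    · apply hdim
      rw [h1]
      rfl
  constructor
  · intro a b hab
    have hab' : (a - b) • F.presheaf.germ ⊤ z trivial s = 0 := by
      rw [sub_smul]; exact sub_eq_zero.mpr hab
    by_contra hne
    have h0 := smul_eq_zero_of_isReflexive hrefl z (a - b) (sub_ne_zero.mpr hne) _ hab'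
    apply hsη
    rw [← hspecz z hηz, h0, map_zero]
  · intro m
    obtain ⟨β, hβ⟩ := heη.1 (F.presheaf.stalkSpecializes hηz m)
    set α : X.functionField := β * c⁻¹ with hα
    have hαs : F.presheaf.stalkSpecializes hηz m = α • F.presheaf.germ ⊤ η trivial s := by
      rw [hc, smul_smul, hα, mul_assoc, inv_mul_cancel₀ hc0, mul_one, hβ]
    obtain ⟨a, ha⟩ := NormHartH8.stalk_hartogs hX z α (by
      intro y hyz hy1
      have hyne : y ≠ z := by
        rintro rfl
        exact hcoh hy1
      have hbij : Function.Bijective
          (fun a : X.presheaf.stalk y => a • F.presheaf.germ ⊤ y trivial s) := by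
        by_contra hnb
        exact hyne (hmax y hnb hyz)
      obtain ⟨ay, hay⟩ := hbij.2 (F.presheaf.stalkSpecializes hyz m)
      refine ⟨ay, ?_⟩
      set hηy := (genericPoint_spec X).specializes (Set.mem_univ y) with hhηy
      have h1 := congrArg (F.presheaf.stalkSpecializes hηy) hay
      rw [stalkSpecializes_trans] at h1
      change F.presheaf.stalkSpecializes hηy (ay • F.presheaf.germ ⊤ y trivial s) = _ at h1
      rw [stalkSpecializes_smul, hspecz y hηy] at h1
      have h2 : F.presheaf.stalkSpecializes (hηy.trans hyz) m =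
          F.presheaf.stalkSpecializes hηz m := rfl
      rw [h2, hαs] at h1
      exact hcancel _ _ h1)
    refine ⟨a, ?_⟩
    change a • F.presheaf.germ ⊤ z trivial s = m
    have h1 : F.presheaf.stalkSpecializes hηz (m - a • F.presheaf.germ ⊤ z trivial s) = 0 := by
      rw [map_sub, stalkSpecializes_smul, hspecz z hηz, hαs, ← ha]
      exact sub_self _
    obtain ⟨t, ht, htm⟩ := exists_smul_eq_zero_of_specializes z _ h1
    have h2 := smul_eq_zero_of_isReflexive hrefl z t ht _ htm
    exact (sub_eq_zero.mp h2).symm

end RefHullH8
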