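import Mathlib
import Groth.Prelude
import Groth.Agent.Lib.RefHull10_helper8
import Groth.Agent.Lib.Norm1_helper8

set_option autoImplicit false
universe u

open CategoryTheory AlgebraicGeometry TopologicalSpace Opposite
open QcqsLoc GenLocH8 SecOrdH8 FLFH8

/-! Extension of sections across closed subsets of codimension at least two. -/

namespace RefHullH8

variable {X : Scheme.{u}}

/-- `U₁` is an open subset of `V` containing all the points of `V` of codimension at most one. -/
def BigIn (U₁ V : X.Opens) : Prop := U₁ ≤ V ∧ ∀ y ∈ V, Order.coheight y ≤ 1 → y ∈ U₁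

theorem BigIn.inf {U₁ V V' : X.Opens} (h : BigIn U₁ V) (hV' : V' ≤ V) : BigIn (U₁ ⊓ V') V' :=
  ⟨inf_le_right, fun y hy hc => ⟨h.2 y (hV' hy) hc, hy⟩⟩

/-- Sections of `G` extend uniquely across closed subsets of codimension at least two. -/
def HasExt (G : X.Modules) : Prop :=
  ∀ (V U₁ : X.Opens) (h : BigIn U₁ V), Function.Bijective (rF G h.1)

/-- Gluing a family of germs which is locally the family of germs of a section. -/
theorem exists_section_of_germs (N : X.Modules) (O : X.Opens) (a : ∀ y : O, N.presheaf.stalk y.1)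
    (h : ∀ x : O, ∃ (W : X.Opens) (hW : W ≤ O) (_ : x.1 ∈ W) (r : Γ(N, W)),
      ∀ (y : X) (hy : y ∈ W), a ⟨y, hW hy⟩ = N.presheaf.germ W y hy r) :
    ∃ c : Γ(N, O), ∀ y : O, N.presheaf.germ O y.1 y.2 c = a y := by
  choose W hW hxW r hr using h
  have hcompat : TopCat.Presheaf.IsCompatible N.presheaf W r := by
    intro x x'
    refine TopCat.Presheaf.section_ext ⟨N.presheaf, N.isSheaf⟩ _ _ _ (fun z hz => ?_)
    change N.presheaf.germ _ z hz (N.presheaf.map (Opens.infLELeft (W x) (W x')).op (r x)) =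
      N.presheaf.germ _ z hz (N.presheaf.map (Opens.infLERight (W x) (W x')).op (r x'))
    rw [TopCat.Presheaf.germ_res_apply, TopCat.Presheaf.germ_res_apply]
    exact ((hr x z hz.1).symm.trans (hr x' z hz.2))
  have hcov : O ≤ ⨆ x, W x := by
    intro z hz
    exact Opens.mem_iSup.2 ⟨⟨z, hz⟩, hxW ⟨z, hz⟩⟩
  obtain ⟨t, ht, -⟩ := TopCat.Sheaf.existsUnique_gluing' ⟨N.presheaf, N.isSheaf⟩ W O
    (fun i => homOfLE (hW i)) hcov _ hcompat
  refine ⟨t, fun y => ?_⟩
  have h2 := ht y
  rw [hr y y.1 (hxW y), ← h2]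
  exact (TopCat.Presheaf.germ_res_apply N.presheaf (homOfLE (hW y)) y.1 (hxW y) t).symm

theorem hasExt_structureModule [IsIntegral X] [IsLocallyNoetherian X]
    (hX : Pi1.IsNormalScheme X) : HasExt (Coh.structureModule X) := by
  intro V U₁ hbig
  change Function.Bijective (rX hbig.1)
  have hηmem : ∀ y ∈ V, genericPoint X ∈ U₁ := by
    intro y hy
    refine hbig.2 _ (NormH8.genericPoint_mem hy) ?_
    have : Order.coheight (genericPoint X) = 0 := by
      rw [Order.coheight_eq_zero]
      intro w hw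
      exact (genericPoint_spec X).specializes (Set.mem_univ w)
    rw [this]
    exact zero_le
  constructor
  · rw [injective_iff_map_eq_zero]
    intro a ha
    refine TopCat.Presheaf.section_ext X.sheaf V _ _ (fun y hy => ?_)
    change X.presheaf.germ V y hy a = X.presheaf.germ V y hy 0
    have hη := hηmem y hy
    have h1 : X.presheaf.germ V (genericPoint X) (hbig.1 hη) a = 0 := by
      rw [← germ_rX hbig.1 _ hη a, ha, map_zero]
    have : a = 0 := germ_injective_of_isIntegral X _ (hbig.1 hη) (by rw [h1, map_zero])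
    rw [this]
  · intro b
    by_cases hne : Nonempty V
    · obtain ⟨⟨y₀, hy₀⟩⟩ := hne
      haveI : Nonempty V := ⟨⟨y₀, hy₀⟩⟩
      have hη := hηmem y₀ hy₀
      set α : X.functionField := X.presheaf.germ U₁ (genericPoint X) hη b with hα
      obtain ⟨r, hr⟩ := NormH8.exists_section_of_forall_stalk V α (by
        intro x hx
        apply NormHartH8.stalk_hartogs hX x α
        intro y hyx hyc
        have hyV : y ∈ V := hyx.mem_open V.isOpen hx
        have hyU : y ∈ U₁ := hbig.2 y hyV hyc
        refine ⟨X.presheaf.germ U₁ y hyU b, ?_⟩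
        exact stalkSpecializes_germX ((genericPoint_spec X).specializes (Set.mem_univ y)) U₁ hyU b)
      refine ⟨r, ?_⟩
      apply germ_injective_of_isIntegral X (genericPoint X) hη
      rw [germ_rX]
      exact hr
    · refine ⟨0, ?_⟩
      refine TopCat.Presheaf.section_ext X.sheaf U₁ _ _ (fun y hy => ?_)
      exact (hne ⟨⟨y, hbig.1 hy⟩⟩).elim

theorem HasExt.of_iso {G G' : X.Modules} (φ : G ≅ G') (h : HasExt G) : HasExt G' := by
  intro V U₁ hbig
  have hnat : ∀ g : Γ(G, V), rF G' hbig.1 (φ.hom.app V g) = φ.hom.app U₁ (rF G hbig.1 g) := by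
    intro g
    exact (ConcreteCategory.congr_hom (φ.hom.mapPresheaf.naturality (homOfLE hbig.1).op) g).symm
  have hbV : Function.Bijective (φ.hom.app V) := ConcreteCategory.bijective_of_isIso _
  have hbU : Function.Bijective (φ.hom.app U₁) := ConcreteCategory.bijective_of_isIso _
  have hcomp : (rF G' hbig.1 : Γ(G', V) → Γ(G', U₁)) ∘ (φ.hom.app V) =
      (φ.hom.app U₁) ∘ (rF G hbig.1) := funext hnat
  have h1 : Function.Bijective ((rF G' hbig.1 : Γ(G', V) → Γ(G', U₁)) ∘ (φ.hom.app V)) := by
    rw [hcomp]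
    exact hbU.comp (h V U₁ hbig)
  exact (Function.Bijective.of_comp_iff _ hbV).mp h1

end RefHullH8
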