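import Mathlib
import Groth.Prelude
import Groth.Agent.Lib.RefHull11_helper8

set_option autoImplicit false
universe u

open CategoryTheory AlgebraicGeometry TopologicalSpace Opposite
open QcqsLoc GenLocH8 SecOrdH8 FLFH8

/-! The sheaf Hom into a module with the extension property has the extension property. -/

namespace RefHullH8

variable {X : Scheme.{u}}

section Ext

variable {F G : X.Modules} (hG : HasExt G) {V U₁ : X.Opens} (hbig : BigIn U₁ V)
  (l' : Γ(RefHull.homSh F G, U₁))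

include hG hbig in
/-- Evaluating a section of the sheaf Hom over the big open on a section of `F` over `V' ≤ V`
gives a section of `G` over `V'`. -/
theorem existsUnique_ev (V' : X.Opens) (hV' : V' ≤ V) (m : Γ(F, V')) :
    ∃! g : Γ(G, V'), ∀ (y : X) (hy : y ∈ U₁ ⊓ V'),
      G.presheaf.germ V' y hy.2 g = l'.1 ⟨y, hy.1⟩ (F.presheaf.germ V' y hy.2 m) := by
  have hb := hG V' (U₁ ⊓ V') (hbig.inf hV')
  obtain ⟨g₀, hg₀⟩ := exists_section_of_germs G (U₁ ⊓ V')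
    (fun y => l'.1 ⟨y.1, y.2.1⟩ (F.presheaf.germ V' y.1 y.2.2 m)) (by
      intro x
      obtain ⟨W, hxW, j, n, hn⟩ := RefHull.isLocSect_of_mem l' (U₁ ⊓ V') (homOfLE inf_le_left)
        (rF F (inf_le_right : U₁ ⊓ V' ≤ V') m) x
      refine ⟨W, j.le, hxW, n, fun y hy => ?_⟩
      have := hn ⟨y, hy⟩
      rw [germ_rF] at this
      exact this)
  obtain ⟨g, hg⟩ := hb.2 g₀
  refine ⟨g, fun y hy => ?_, fun g' hg' => ?_⟩
  · rw [← germ_rF G (inf_le_right : U₁ ⊓ V' ≤ V') y hy g]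
    erw [hg]
    exact hg₀ ⟨y, hy⟩
  · apply hb.1
    refine TopCat.Presheaf.section_ext ⟨G.presheaf, G.isSheaf⟩ _ _ _ (fun y hy => ?_)
    change G.presheaf.germ _ y hy (rF G _ g') = G.presheaf.germ _ y hy (rF G _ g)
    rw [germ_rF, germ_rF, hg' y hy]
    rw [← germ_rF G (inf_le_right : U₁ ⊓ V' ≤ V') y hy g]
    erw [hg]
    exact (hg₀ ⟨y, hy⟩).symm

/-- The evaluation of `l'` on a section of `F`. -/
noncomputable def ev (V' : X.Opens) (hV' : V' ≤ V) (m : Γ(F, V')) : Γ(G, V') :=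
  (existsUnique_ev hG hbig l' V' hV' m).choose

theorem ev_spec (V' : X.Opens) (hV' : V' ≤ V) (m : Γ(F, V')) (y : X) (hy : y ∈ U₁ ⊓ V') :
    G.presheaf.germ V' y hy.2 (ev hG hbig l' V' hV' m) =
      l'.1 ⟨y, hy.1⟩ (F.presheaf.germ V' y hy.2 m) :=
  (existsUnique_ev hG hbig l' V' hV' m).choose_spec.1 y hy

theorem ev_unique (V' : X.Opens) (hV' : V' ≤ V) (m : Γ(F, V')) (g : Γ(G, V'))
    (hg : ∀ (y : X) (hy : y ∈ U₁ ⊓ V'),
      G.presheaf.germ V' y hy.2 g = l'.1 ⟨y, hy.1⟩ (F.presheaf.germ V' y hy.2 m)) :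
    g = ev hG hbig l' V' hV' m :=
  (existsUnique_ev hG hbig l' V' hV' m).choose_spec.2 g hg

theorem ev_res {V' V'' : X.Opens} (hV' : V' ≤ V) (h : V'' ≤ V') (m : Γ(F, V')) :
    ev hG hbig l' V'' (h.trans hV') (rF F h m) = rF G h (ev hG hbig l' V' hV' m) := by
  symm
  apply ev_unique
  intro y hy
  rw [germ_rF, germ_rF]
  exact ev_spec hG hbig l' V' hV' m y ⟨hy.1, h hy.2⟩

theorem ev_add (V' : X.Opens) (hV' : V' ≤ V) (m m' : Γ(F, V')) :
    ev hG hbig l' V' hV' (m + m') = ev hG hbig l' V' hV' m + ev hG hbig l' V' hV' m' := by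
  symm
  apply ev_unique
  intro y hy
  rw [map_add, map_add, map_add, ev_spec hG hbig l' V' hV' m y hy,
    ev_spec hG hbig l' V' hV' m' y hy]

theorem ev_smul (V' : X.Opens) (hV' : V' ≤ V) (r : Γ(X, V')) (m : Γ(F, V')) :
    ev hG hbig l' V' hV' (r • m) = r • ev hG hbig l' V' hV' m := by
  symm
  apply ev_unique
  intro y hy
  rw [Mero.germ_smul, Mero.germ_smul, map_smul, ev_spec hG hbig l' V' hV' m y hy]

theorem exists_rep (y : X) (z : F.presheaf.stalk y) :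
    ∃ p : (Σ Vz : {W : X.Opens // y ∈ W}, Γ(F, Vz.1)), F.presheaf.germ p.1.1 y p.1.2 p.2 = z := by
  obtain ⟨W, hyW, m, hm⟩ := TopCat.Presheaf.exists_germ_eq F.presheaf z
  exact ⟨⟨⟨W, hyW⟩, m⟩, hm⟩

/-- A chosen representative of a germ. -/
noncomputable def rep (y : X) (z : F.presheaf.stalk y) :
    (Σ Vz : {W : X.Opens // y ∈ W}, Γ(F, Vz.1)) := (exists_rep y z).choose

theorem rep_spec (y : X) (z : F.presheaf.stalk y) :
    F.presheaf.germ (rep y z).1.1 y (rep y z).1.2 (rep y z).2 = z := (exists_rep y z).choose_spec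

/-- The value at a germ. -/
noncomputable def Lfun (y : X) (hy : y ∈ V) (z : F.presheaf.stalk y) : G.presheaf.stalk y :=
  G.presheaf.germ ((rep y z).1.1 ⊓ V) y ⟨(rep y z).1.2, hy⟩
    (ev hG hbig l' _ inf_le_right (rF F inf_le_left (rep y z).2))

theorem Lfun_germ (y : X) (hy : y ∈ V) (V' : X.Opens) (hV' : V' ≤ V) (hyV' : y ∈ V')
    (m : Γ(F, V')) :
    Lfun hG hbig l' y hy (F.presheaf.germ V' y hyV' m) =
      G.presheaf.germ V' y hyV' (ev hG hbig l' V' hV' m) := by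
  unfold Lfun
  set p := rep y (F.presheaf.germ V' y hyV' m) with hp
  have hgerm : F.presheaf.germ p.1.1 y p.1.2 p.2 = F.presheaf.germ V' y hyV' m := rep_spec y _
  obtain ⟨W, hyW, i1, i2, e⟩ := TopCat.Presheaf.germ_eq F.presheaf y p.1.2 hyV' p.2 m hgerm
  have hWVz : W ≤ p.1.1 ⊓ V := le_inf i1.le (i2.le.trans hV')
  have hWV' : W ≤ V' := i2.le
  have e1 : rF F hWVz (rF F (inf_le_left : p.1.1 ⊓ V ≤ p.1.1) p.2) = rF F hWV' m := by
    rw [rF_rF]
    exact e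
  have e2 := ev_res hG hbig l' (inf_le_right : p.1.1 ⊓ V ≤ V) hWVz
    (rF F (inf_le_left : p.1.1 ⊓ V ≤ p.1.1) p.2)
  have e3 := ev_res hG hbig l' hV' hWV' m
  rw [e1] at e2
  rw [e3] at e2
  rw [← germ_rF G hWVz y hyW, ← e2, germ_rF]

/-- The value at a stalk, as a linear map. -/
noncomputable def Llin (y : X) (hy : y ∈ V) : RefHull.StalkHom F G y where
  toFun := Lfun hG hbig l' y hy
  map_add' z z' := by
    obtain ⟨V1, h1, m1, rfl⟩ := TopCat.Presheaf.exists_germ_eq F.presheaf z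
    obtain ⟨V2, h2, m2, rfl⟩ := TopCat.Presheaf.exists_germ_eq F.presheaf z'
    have hO1 : V1 ⊓ V2 ⊓ V ≤ V1 := inf_le_left.trans inf_le_left
    have hO2 : V1 ⊓ V2 ⊓ V ≤ V2 := inf_le_left.trans inf_le_right
    have hOV : V1 ⊓ V2 ⊓ V ≤ V := inf_le_right
    have hyO : y ∈ V1 ⊓ V2 ⊓ V := ⟨⟨h1, h2⟩, hy⟩
    rw [← germ_rF F hO1 y hyO m1, ← germ_rF F hO2 y hyO m2, ← map_add,
      Lfun_germ hG hbig l' y hy _ hOV hyO, Lfun_germ hG hbig l' y hy _ hOV hyO,
      Lfun_germ hG hbig l' y hy _ hOV hyO, ev_add, map_add]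
  map_smul' a z := by
    obtain ⟨V1, h1, r, rfl⟩ := TopCat.Presheaf.exists_germ_eq X.presheaf a
    obtain ⟨V2, h2, m, rfl⟩ := TopCat.Presheaf.exists_germ_eq F.presheaf z
    have hO1 : V1 ⊓ V2 ⊓ V ≤ V1 := inf_le_left.trans inf_le_left
    have hO2 : V1 ⊓ V2 ⊓ V ≤ V2 := inf_le_left.trans inf_le_right
    have hOV : V1 ⊓ V2 ⊓ V ≤ V := inf_le_right
    have hyO : y ∈ V1 ⊓ V2 ⊓ V := ⟨⟨h1, h2⟩, hy⟩
    rw [← germ_rX hO1 y hyO r, ← germ_rF F hO2 y hyO m, ← Mero.germ_smul,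
      Lfun_germ hG hbig l' y hy _ hOV hyO, Lfun_germ hG hbig l' y hy _ hOV hyO, ev_smul,
      Mero.germ_smul]
    rfl

/-- The extension of `l'` to `V`. -/
noncomputable def extSec : Γ(RefHull.homSh F G, V) :=
  ⟨fun y => Llin hG hbig l' y.1 y.2, fun V₀ i m x =>
    ⟨V₀, x.2, 𝟙 V₀, ev hG hbig l' V₀ i.le m,
      fun y => Lfun_germ hG hbig l' y.1 (i.le y.2) V₀ i.le y.2 m⟩⟩

theorem rF_extSec : rF (RefHull.homSh F G) hbig.1 (extSec hG hbig l') = l' := by
  apply homSh_ext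
  intro y
  apply LinearMap.ext
  intro z
  obtain ⟨V2, h2, m, rfl⟩ := TopCat.Presheaf.exists_germ_eq F.presheaf z
  have hyV : y.1 ∈ V := hbig.1 y.2
  have hyO : y.1 ∈ V2 ⊓ V := ⟨h2, hyV⟩
  rw [← germ_rF F (inf_le_left : V2 ⊓ V ≤ V2) y.1 hyO m]
  change Lfun hG hbig l' y.1 hyV _ = _
  rw [Lfun_germ hG hbig l' y.1 hyV _ inf_le_right hyO,
    ev_spec hG hbig l' _ inf_le_right _ y.1 ⟨y.2, hyO⟩]

end Ext

/-- The sheaf Hom into a module with the extension property has the extension property. -/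
theorem hasExt_homSh (F : X.Modules) {G : X.Modules} (hG : HasExt G) :
    HasExt (RefHull.homSh F G) := by
  intro V U₁ hbig
  constructor
  · rw [injective_iff_map_eq_zero]
    intro l hl
    apply homSh_ext
    intro y
    apply LinearMap.ext
    intro z
    obtain ⟨V2, h2, m, rfl⟩ := TopCat.Presheaf.exists_germ_eq F.presheaf z
    have hyO : y.1 ∈ V2 ⊓ V := ⟨h2, y.2⟩
    obtain ⟨W, hyW, j, n, hn⟩ := RefHull.isLocSect_of_mem l (V2 ⊓ V) (homOfLE inf_le_right)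
      (rF F (inf_le_left : V2 ⊓ V ≤ V2) m) ⟨y.1, hyO⟩
    have hWV : W ≤ V := j.le.trans inf_le_right
    have hn0 : n = 0 := by
      apply (hG W (U₁ ⊓ W) (hbig.inf hWV)).1
      refine TopCat.Presheaf.section_ext ⟨G.presheaf, G.isSheaf⟩ _ _ _ (fun y' hy' => ?_)
      change G.presheaf.germ _ y' hy' (rF G _ n) = G.presheaf.germ _ y' hy' (rF G _ 0)
      rw [germ_rF, map_zero, map_zero, ← hn ⟨y', hy'.2⟩]
      have h1 : l.1 ⟨y', hWV hy'.2⟩ = (rF (RefHull.homSh F G) hbig.1 l).1 ⟨y', hy'.1⟩ := rfl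
      change l.1 ⟨y', hWV hy'.2⟩ _ = 0
      rw [h1, hl]
      rfl
    have h3 := hn ⟨y.1, hyW⟩
    rw [germ_rF] at h3
    change l.1 y _ = _ at h3
    rw [h3, hn0, map_zero]
    rfl
  · intro l'
    exact ⟨extSec hG hbig l', rF_extSec hG hbig l'⟩

/-- A reflexive module on a normal integral locally Noetherian scheme has the extension
property. -/
theorem hasExt_of_isReflexive [IsIntegral X] [IsLocallyNoetherian X] (hX : Pi1.IsNormalScheme X)
    {F : X.Modules} (hF : RefHull.IsReflexive F) : HasExt F := by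
  haveI : IsIso (RefHull.bidualMap F) := hF
  exact HasExt.of_iso (asIso (RefHull.bidualMap F)).symm
    (hasExt_homSh (RefHull.dual F) (hasExt_structureModule hX))

end RefHullH8
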