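import Mathlib

/-!
# Order of vanishing and restriction to an open subscheme (helper5)

`Ring.ord`/`Ring.ordFrac` are invariant under ring isomorphisms; the function field of a nonempty
open subscheme `U` of an integral scheme `X` is identified with that of `X` (`ffMap`), compatibly
with orders of vanishing (`ord_ffMap`).
-/

set_option linter.style.haveILetI false

universe u

open CategoryTheory IsLocalRing AlgebraicGeometry TopologicalSpace Opposite Order

namespace Groth.Agent.WDivRes

section Algebra

/-- the order of vanishing is invariant under ring isomorphisms -/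
theorem ord_map_ringEquiv {R R' : Type*} [CommRing R] [CommRing R'] (e : R ≃+* R') (a : R) :
    Ring.ord R' (e a) = Ring.ord R a := by
  unfold Ring.ord
  letI : Algebra R R' := e.toRingHom.toAlgebra
  have hsurj : Function.Surjective (algebraMap R R') := e.surjective
  rw [← Module.length_eq_of_surjective (S := R) (R := R') (M := R' ⧸ Ideal.span {e a}) hsurj]
  refine (LinearEquiv.length_eq ?_).symm
  let Q : (R ⧸ Ideal.span {a}) ≃+* (R' ⧸ Ideal.span {e a}) :=
    Ideal.quotientEquiv _ _ e (by rw [Ideal.map_span, Set.image_singleton]; rfl)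
  exact
    { Q.toAddEquiv with
      map_smul' := fun r x => by
        obtain ⟨x, rfl⟩ := Ideal.Quotient.mk_surjective x
        show Q (r • Ideal.Quotient.mk _ x) = r • Q (Ideal.Quotient.mk _ x)
        have h1 : r • Ideal.Quotient.mk (Ideal.span {a}) x = Ideal.Quotient.mk _ (r * x) := rfl
        have h2 : ∀ y : R', r • Ideal.Quotient.mk (Ideal.span {e a}) y =
            Ideal.Quotient.mk _ (e r * y) := fun y => rfl
        rw [h1]
        simp only [Q, Ideal.quotientEquiv_mk, h2, map_mul] }

/-- `Ring.ordFrac` is invariant under compatible isomorphisms of the ring and its fraction field -/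
theorem ordFrac_map {R R' K K' : Type*} [CommRing R] [IsDomain R] [IsNoetherianRing R]
    [Ring.KrullDimLE 1 R] [CommRing R'] [IsDomain R'] [IsNoetherianRing R'] [Ring.KrullDimLE 1 R']
    [Field K] [Algebra R K] [IsFractionRing R K] [Field K'] [Algebra R' K'] [IsFractionRing R' K']
    (e : R ≃+* R') (φ : K →+* K')
    (h : ∀ a, φ (algebraMap R K a) = algebraMap R' K' (e a)) (k : K) :
    Ring.ordFrac R' (φ k) = Ring.ordFrac R k := by
  have key : ∀ c : R,
      Ring.ordFrac R' (algebraMap R' K' (e c)) = Ring.ordFrac R (algebraMap R K c) := by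
    intro c
    by_cases hc : c = 0
    · simp [hc]
    · have hec : e c ≠ 0 := (map_ne_zero_iff e e.injective).mpr hc
      rw [Ring.ordFrac_eq_ord R' hec, Ring.ordFrac_eq_ord R hc,
        Ring.ordMonoidWithZeroHom_eq_ord (mem_nonZeroDivisors_of_ne_zero hec),
        Ring.ordMonoidWithZeroHom_eq_ord (mem_nonZeroDivisors_of_ne_zero hc),
        ord_map_ringEquiv e c]
  obtain ⟨a, b, hb, rfl⟩ := IsFractionRing.div_surjective (A := R) k
  rw [map_div₀, map_div₀, map_div₀, h, h, key, key]

end Algebra

section Scheme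

variable {X : Scheme.{u}} [IsIntegral X] [IsLocallyNoetherian X]

omit [IsLocallyNoetherian X] in
theorem ι_genericPoint (U : X.Opens) [Nonempty U] :
    U.ι (genericPoint (U : Scheme.{u})) = genericPoint X :=
  genericPoint_eq_of_isOpenImmersion U.ι

/-- restriction of rational functions to a nonempty open subscheme -/
noncomputable def ffMap (U : X.Opens) [Nonempty U] :
    X.functionField ⟶ (U : Scheme.{u}).functionField :=
  X.presheaf.stalkSpecializes (specializes_of_eq (ι_genericPoint U)) ≫
    U.ι.stalkMap (genericPoint (U : Scheme.{u}))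

omit [IsLocallyNoetherian X] in
theorem ffMap_bijective (U : X.Opens) [Nonempty U] : Function.Bijective (ffMap U).hom := by
  haveI h1 : IsIso (X.presheaf.stalkSpecializes (specializes_of_eq (ι_genericPoint U))) :=
    inferInstanceAs (IsIso (X.presheaf.stalkCongr (Inseparable.of_eq (ι_genericPoint U).symm)).hom)
  haveI : IsIso (ffMap U) := by
    unfold ffMap
    infer_instance
  exact ConcreteCategory.bijective_of_isIso (ffMap U)

omit [IsLocallyNoetherian X] in
theorem spec_comp_ffMap (U : X.Opens) [Nonempty U] (u : (U : Scheme.{u})) :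
    X.presheaf.stalkSpecializes ((genericPoint_spec X).specializes trivial) ≫ ffMap U =
      U.ι.stalkMap u ≫ (U : Scheme.{u}).presheaf.stalkSpecializes
        ((genericPoint_spec (U : Scheme.{u})).specializes trivial) := by
  unfold ffMap
  rw [← Category.assoc, TopCat.Presheaf.stalkSpecializes_comp]
  exact Scheme.Hom.stalkSpecializes_stalkMap U.ι (genericPoint (U : Scheme.{u})) u
    ((genericPoint_spec (U : Scheme.{u})).specializes trivial)

theorem ordHom_ffMap (U : X.Opens) [Nonempty U] (u : (U : Scheme.{u})) (hu : coheight u = 1)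
    (hx : coheight (U.ι u) = 1) (f : X.functionField) :
    (U : Scheme.{u}).ordHom u hu ((ffMap U).hom f) = X.ordHom (U.ι u) hx f := by
  haveI : Ring.KrullDimLE 1 (X.presheaf.stalk (U.ι u)) := krullDimLE_of_coheight_le hx.le
  haveI : Ring.KrullDimLE 1 ((U : Scheme.{u}).presheaf.stalk u) :=
    krullDimLE_of_coheight_le hu.le
  let e : X.presheaf.stalk (U.ι u) ≃+* (U : Scheme.{u}).presheaf.stalk u :=
    (asIso (U.ι.stalkMap u)).commRingCatIsoToRingEquiv
  show Ring.ordFrac ((U : Scheme.{u}).presheaf.stalk u) ((ffMap U).hom f) =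
    Ring.ordFrac (X.presheaf.stalk (U.ι u)) f
  refine ordFrac_map e (ffMap U).hom ?_ f
  intro a
  have h1 := DFunLike.congr_fun (CommRingCat.hom_ext_iff.mp (spec_comp_ffMap U u)) a
  exact h1

theorem ord_ffMap (U : X.Opens) [Nonempty U] (u : (U : Scheme.{u})) (f : X.functionField) :
    Scheme.ord ((ffMap U).hom f) u = Scheme.ord f (U.ι u) := by
  have hco : coheight (U.ι u) = coheight u := coheight_eq_of_isOpenImmersion U.ι
  by_cases hu : coheight u = 1
  · have hx : coheight (U.ι u) = 1 := hco.trans hu
    rw [Scheme.ord_eq_ordHom_of_coheight_eq_one hu, Scheme.ord_eq_ordHom_of_coheight_eq_one hx,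
      ordHom_ffMap U u hu hx f]
  · have hx : coheight (U.ι u) ≠ 1 := fun h => hu (hco.symm.trans h)
    rw [Scheme.ord_eq_zero_of_coheight_neq_one hu, Scheme.ord_eq_zero_of_coheight_neq_one hx]

/-- divisors of rational functions on `X` and on an open `U` containing all points of
codimension one correspond -/
theorem res_iff (U : X.Opens) [Nonempty U] (D : X → ℤ) (P : X → Prop)
    (hP : ∀ x : X, P x → x ∈ U) :
    (∃ g : (U : Scheme.{u}).functionField, g ≠ 0 ∧
        ∀ u : (U : Scheme.{u}), coheight u = 1 → Scheme.ord g u = D u.1) →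
    ∃ f : X.functionField, f ≠ 0 ∧ ∀ x : X, P x → coheight x = 1 → Scheme.ord f x = D x := by
  rintro ⟨g, hg0, hg⟩
  obtain ⟨f, rfl⟩ := (ffMap_bijective U).2 g
  refine ⟨f, fun h0 => hg0 (by rw [h0, map_zero]), fun x hPx hx => ?_⟩
  have hxU : x ∈ U := hP x hPx
  obtain ⟨u, hu⟩ : ∃ u : (U : Scheme.{u}), U.ι u = x := ⟨⟨x, hxU⟩, rfl⟩
  have hco : coheight (U.ι u) = coheight u := coheight_eq_of_isOpenImmersion U.ι
  have h1 := hg u (hco.symm.trans (hu ▸ hx))
  rw [ord_ffMap, hu] at h1
  rw [h1, ← hu]
  rfl

theorem res_of (U : X.Opens) [Nonempty U] (D : X → ℤ) :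
    (∃ f : X.functionField, f ≠ 0 ∧ ∀ x : X, coheight x = 1 → Scheme.ord f x = D x) →
    ∃ g : (U : Scheme.{u}).functionField, g ≠ 0 ∧
        ∀ u : (U : Scheme.{u}), coheight u = 1 → Scheme.ord g u = D u.1 := by
  rintro ⟨f, hf0, hf⟩
  refine ⟨(ffMap U).hom f, (map_ne_zero_iff _ (ffMap_bijective U).1).mpr hf0, fun u hu => ?_⟩
  have hco : coheight (U.ι u) = coheight u := coheight_eq_of_isOpenImmersion U.ι
  rw [ord_ffMap]
  exact hf (U.ι u) (hco.trans hu)

end Scheme

end Groth.Agent.WDivRes
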