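import Mathlib
import Groth.Prelude
import Groth.Agent.Lib.RefHull13_helper8
import Groth.Agent.Lib.CDivNormal_helper5
import Groth.Agent.Lib.WDivRes_helper5

set_option autoImplicit false
universe u

open CategoryTheory AlgebraicGeometry TopologicalSpace Opposite
open QcqsLoc GenLocH8 SecOrdH8 FLFH8

/-! Comparison of the two notions of order at a point of codimension one. -/

namespace RefHullH8

variable {X : Scheme.{u}}

theorem specMap_generic_injective [IsIntegral X] (x : X) :
    Function.Injective (Cyc.specMap x (genericPoint X)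
      ((genericPoint_spec X).specializes (Set.mem_univ x))) := by
  intro a b hab
  have h1 : Function.Injective (X.residue (genericPoint X)).hom :=
    RingHom.injective (f := ((X.residue (genericPoint X)).hom :
      X.functionField →+* X.residueField (genericPoint X)))
  have h2 := h1 hab
  exact IsFractionRing.injective (X.presheaf.stalk x) X.functionField h2

theorem ordAt_residue_eq_ord [IsIntegral X] [IsLocallyNoetherian X] (x : X)
    (hx : Order.coheight x = 1) (g : X.functionField) (hg : g ≠ 0) :
    Cyc.ordAt x (genericPoint X) ((genericPoint_spec X).specializes (Set.mem_univ x))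
      (X.residue (genericPoint X) g) = Scheme.ord g x := by
  set h := (genericPoint_spec X).specializes (Set.mem_univ x) with hh
  have hinj := specMap_generic_injective x
  have hker : RingHom.ker (Cyc.specMap x (genericPoint X) h) = ⊥ :=
    (RingHom.injective_iff_ker_eq_bot _).mp hinj
  haveI : (RingHom.ker (Cyc.specMap x (genericPoint X) h)).IsPrime := RingHom.ker_isPrime _
  haveI : IsDomain (Cyc.LocQuot x (genericPoint X) h) := Ideal.Quotient.isDomain _
  haveI : Ring.KrullDimLE 1 (X.presheaf.stalk x) := krullDimLE_of_coheight_le hx.le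
  haveI : Ring.KrullDimLE 1 (Cyc.LocQuot x (genericPoint X) h) :=
    krullDimLE_one_locQuot_of_coheight h hx.le
  haveI : IsFractionRing (Cyc.LocQuot x (genericPoint X) h) (X.residueField (genericPoint X)) :=
    OrdFlatH8.isFractionRing_locQuot x _ h
  have hbij : Function.Bijective (Ideal.Quotient.mk (RingHom.ker (Cyc.specMap x (genericPoint X) h))) := by
    refine ⟨?_, Ideal.Quotient.mk_surjective⟩
    rw [injective_iff_map_eq_zero]
    intro a ha
    rw [Ideal.Quotient.eq_zero_iff_mem, hker] at ha
    exact ha
  let e : X.presheaf.stalk x ≃+* Cyc.LocQuot x (genericPoint X) h :=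
    RingEquiv.ofBijective _ hbij
  unfold Cyc.ordAt
  rw [Groth.Agent.LatticeDet.ordFrac_eq]
  have h1 := Groth.Agent.WDivRes.ordFrac_map e (X.residue (genericPoint X)).hom (by
    intro a
    show _ = algebraMap _ _ (Ideal.Quotient.mk _ a)
    rw [OrdFlatH8.algebraMap_locQuot_mk]
    rfl) g
  have h2 : (X.residue (genericPoint X)) g = (X.residue (genericPoint X)).hom g := rfl
  rw [h2, h1, Scheme.ord_eq_unzero_ordHom hx hg]
  have h3 : Ring.ordFrac (X.presheaf.stalk x) g ≠ 0 := (map_ne_zero _).mpr hg
  obtain ⟨z, hz⟩ := WithZero.ne_zero_iff_exists.mp h3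
  have h4 : X.ordHom x hx g = Ring.ordFrac (X.presheaf.stalk x) g := rfl
  simp only [h4, ← hz, WithZero.recZeroCoe_coe, WithZero.unzero_coe]

end RefHullH8
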