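import Mathlib
import Groth.Prelude
import Groth.Agent.Lib.RefHull15_helper8

set_option autoImplicit false
universe u

open CategoryTheory AlgebraicGeometry TopologicalSpace Opposite
open QcqsLoc GenLocH8 SecOrdH8 FLFH8

/-! Morphisms into a module with the extension property from maps of generic stalks. -/

namespace RefHullH8

namespace S2

variable {X : Scheme.{u}}


/-- Sections are determined by their germs at the generic point. -/
def GenInj [IrreducibleSpace X] (G : X.Modules) : Prop :=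
  ∀ (V : X.Opens) (g : Γ(G, V)),
    (∀ hη : genericPoint X ∈ V, G.presheaf.germ V (genericPoint X) hη g = 0) → g = 0

theorem genInj_of_isReflexive [IsIntegral X] {F : X.Modules} [F.IsQuasicoherent]
    (h : RefHull.IsReflexive F) : GenInj F :=
  fun _ g hg => eq_zero_of_germ_generic h g hg

theorem genInj_structureModule [IsIntegral X] : GenInj (Coh.structureModule X) := by
  intro V g hg
  by_cases hne : Nonempty V
  · obtain ⟨⟨y, hy⟩⟩ := hne
    have hη : genericPoint X ∈ V := NormH8.genericPoint_mem hy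
    obtain ⟨W, hW, hηW, h0⟩ := (germ_eq_zero_iff (Coh.structureModule X) _ hη g).mp (hg hη)
    have h1 : rX hW (show Γ(X, V) from g) = 0 := h0
    have h2 : X.presheaf.germ V (genericPoint X) hη (show Γ(X, V) from g) = 0 := by
      rw [← germ_rX hW _ hηW, h1, map_zero]
    exact germ_injective_of_isIntegral X (genericPoint X) hη (h2.trans (map_zero _).symm)
  · refine TopCat.Presheaf.section_ext X.sheaf V _ _ (fun y hy => ?_)
    exact (hne ⟨⟨y, hy⟩⟩).elim

theorem genInj_homSh [IsIntegral X] (A : X.Modules) {B : X.Modules} (hB : GenInj B) :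
    GenInj (RefHull.homSh A B) := by
  intro V l hl
  apply homSh_ext
  intro x
  rw [homSh_zero_apply]
  apply LinearMap.ext
  intro mx
  rw [LinearMap.zero_apply]
  have hη : genericPoint X ∈ V := NormH8.genericPoint_mem x.2
  obtain ⟨W₀, hW₀, hηW₀, hl0⟩ := (germ_eq_zero_iff (RefHull.homSh A B) _ hη l).mp (hl hη)
  obtain ⟨V', hxV', m, rfl⟩ := TopCat.Presheaf.exists_germ_eq A.presheaf mx
  have hV'' : V' ⊓ V ≤ V := inf_le_right
  obtain ⟨W, hxW, j, n, hn⟩ := RefHull.isLocSect_of_mem l (V' ⊓ V) (homOfLE hV'')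
    (A.presheaf.map (homOfLE (inf_le_left : V' ⊓ V ≤ V')).op m) ⟨x.1, ⟨hxV', x.2⟩⟩
  have hn0 : n = 0 := by
    apply hB
    intro hηW
    have h1 := hn ⟨genericPoint X, hηW⟩
    rw [← h1]
    have h2 : l.1 ⟨genericPoint X, hV'' (j.le hηW)⟩ = 0 := by
      have h3 := congrArg (fun t : Γ(RefHull.homSh A B, W₀) => t.1 ⟨genericPoint X, hηW₀⟩) hl0
      exact h3
    rw [h2, LinearMap.zero_apply]
  have h4 := hn ⟨x.1, hxW⟩
  rw [hn0, map_zero, TopCat.Presheaf.germ_res_apply] at h4
  exact h4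

theorem GenInj.of_iso [IsIntegral X] {G G' : X.Modules} (φ : G ≅ G') (h : GenInj G) :
    GenInj G' := by
  intro V g hg
  have h1 : φ.inv.app V g = 0 := by
    apply h
    intro hη
    rw [germ_app, hg hη, map_zero]
  have h2 : φ.hom.app V (φ.inv.app V g) = g := by
    have : (φ.inv ≫ φ.hom).app V g = g := by rw [φ.inv_hom_id]; rfl
    exact this
  rw [← h2, h1, map_zero]

section GenMap

variable [IsIntegral X] [IsLocallyNoetherian X] (hX : Pi1.IsNormalScheme X)
  {F G : X.Modules} (hE : HasExt G) (hG : GenInj G)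
  (θ : F.presheaf.stalk (genericPoint X) →ₗ[X.presheaf.stalk (genericPoint X)]
    G.presheaf.stalk (genericPoint X))
  (hθ : ∀ (x : X), Order.coheight x ≤ 1 → ∀ m : F.presheaf.stalk x,
    ∃ g : G.presheaf.stalk x,
      G.presheaf.stalkSpecializes ((genericPoint_spec X).specializes (Set.mem_univ x)) g =
        θ (F.presheaf.stalkSpecializes ((genericPoint_spec X).specializes (Set.mem_univ x)) m))

/-- The property characterizing the image of a section. -/
def IsImg {V : X.Opens} (m : Γ(F, V)) (g : Γ(G, V)) : Prop :=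
  ∀ hη : genericPoint X ∈ V, G.presheaf.germ V (genericPoint X) hη g =
    θ (F.presheaf.germ V (genericPoint X) hη m)

omit [IsLocallyNoetherian X] in
include hG in
theorem IsImg.unique {V : X.Opens} {m : Γ(F, V)} {g g' : Γ(G, V)} (h : IsImg θ m g)
    (h' : IsImg θ m g') : g = g' := by
  rw [← sub_eq_zero]
  apply hG
  intro hη
  rw [map_sub, h hη, h' hη, sub_self]

omit [IsLocallyNoetherian X] in
theorem IsImg.res {V V' : X.Opens} (hV' : V' ≤ V) {m : Γ(F, V)} {g : Γ(G, V)} (h : IsImg θ m g) :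
    IsImg θ (rF F hV' m) (rF G hV' g) := by
  intro hη
  rw [germ_rF, germ_rF]
  exact h (hV' hη)

omit [IsLocallyNoetherian X] in
include hE hG hθ in
theorem exists_isImg {V : X.Opens} (m : Γ(F, V)) : ∃ g : Γ(G, V), IsImg θ m g := by
  -- local existence
  have hloc : ∀ y : X, y ∈ V → Order.coheight y ≤ 1 →
      ∃ (W : X.Opens) (hW : W ≤ V) (_ : y ∈ W) (g : Γ(G, W)), IsImg θ (rF F hW m) g := by
    intro y hy hc
    set hs := (genericPoint_spec X).specializes (Set.mem_univ y) with hhs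
    obtain ⟨gy, hgy⟩ := hθ y hc (F.presheaf.germ V y hy m)
    obtain ⟨W₀, hyW₀, g₀, rfl⟩ := TopCat.Presheaf.exists_germ_eq G.presheaf gy
    refine ⟨W₀ ⊓ V, inf_le_right, ⟨hyW₀, hy⟩, rF G inf_le_left g₀, fun hη => ?_⟩
    rw [germ_rF, germ_rF]
    rw [stalkSpecializes_germ, stalkSpecializes_germ] at hgy
    exact hgy
  -- the big open
  let ι := {W : X.Opens // ∃ (hW : W ≤ V) (g : Γ(G, W)), IsImg θ (rF F hW m) g}
  let U₁ : X.Opens := ⨆ i : ι, i.1
  have hU₁V : U₁ ≤ V := iSup_le fun i => i.2.choose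
  have hbig : BigIn U₁ V := by
    refine ⟨hU₁V, fun y hy hc => ?_⟩
    obtain ⟨W, hW, hyW, g, hg⟩ := hloc y hy hc
    exact Opens.mem_iSup.2 ⟨⟨W, hW, g, hg⟩, hyW⟩
  have hmem : ∀ y : U₁, ∃ i : ι, y.1 ∈ i.1 := fun y => Opens.mem_iSup.1 y.2
  choose idx hidx using hmem
  let gi : ∀ i : ι, Γ(G, i.1) := fun i => i.2.choose_spec.choose
  have hgi : ∀ i : ι, IsImg θ (rF F i.2.choose m) (gi i) := fun i => i.2.choose_spec.choose_spec
  have hcompat : ∀ (i j : ι) (y : X) (hyi : y ∈ i.1) (hyj : y ∈ j.1),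
      G.presheaf.germ i.1 y hyi (gi i) = G.presheaf.germ j.1 y hyj (gi j) := by
    intro i j y hyi hyj
    have h1 := (hgi i).res θ (inf_le_left : i.1 ⊓ j.1 ≤ i.1)
    have h2 := (hgi j).res θ (inf_le_right : i.1 ⊓ j.1 ≤ j.1)
    rw [rF_rF] at h1 h2
    have h3 := IsImg.unique hG θ h1 h2
    rw [← germ_rF G (inf_le_left : i.1 ⊓ j.1 ≤ i.1) y ⟨hyi, hyj⟩, h3, germ_rF]
  obtain ⟨g₁, hg₁⟩ := exists_section_of_germs G U₁
    (fun y => G.presheaf.germ (idx y).1 y.1 (hidx y) (gi (idx y))) (by
      intro x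
      have hle : (idx x).1 ≤ U₁ := le_iSup (fun i : ι => i.1) (idx x)
      refine ⟨(idx x).1, hle, hidx x, gi (idx x), fun y hy => ?_⟩
      exact hcompat _ _ y _ hy)
  obtain ⟨g, hg⟩ := (hE V U₁ hbig).2 g₁
  refine ⟨g, fun hη => ?_⟩
  have hηU₁ : genericPoint X ∈ U₁ := by
    refine hbig.2 _ hη ?_
    have : Order.coheight (genericPoint X) = 0 := by
      rw [Order.coheight_eq_zero]
      intro w hw
      exact (genericPoint_spec X).specializes (Set.mem_univ w)
    rw [this]
    exact zero_le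
  rw [← germ_rF G hU₁V _ hηU₁ g]
  erw [hg]
  rw [hg₁ ⟨_, hηU₁⟩]
  have := hgi (idx ⟨_, hηU₁⟩) (hidx ⟨_, hηU₁⟩)
  rw [germ_rF] at this
  exact this

omit [IsLocallyNoetherian X] in
theorem IsImg.zero {V : X.Opens} : IsImg θ (0 : Γ(F, V)) (0 : Γ(G, V)) := by
  intro hη
  rw [map_zero, map_zero, map_zero]

omit [IsLocallyNoetherian X] in
theorem IsImg.add {V : X.Opens} {m m' : Γ(F, V)} {g g' : Γ(G, V)} (h : IsImg θ m g)
    (h' : IsImg θ m' g') : IsImg θ (m + m') (g + g') := by
  intro hη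
  rw [map_add, map_add, map_add, h hη, h' hη]

omit [IsLocallyNoetherian X] in
theorem IsImg.smul {V : X.Opens} {m : Γ(F, V)} {g : Γ(G, V)} (r : Γ(X, V)) (h : IsImg θ m g) :
    IsImg θ (r • m) (r • g) := by
  intro hη
  rw [Mero.germ_smul, Mero.germ_smul, map_smul, h hη]

/-- The map on sections induced by a map of generic stalks. -/
noncomputable def genMapFun (V : X.Opens) : Γ(F, V) →+ Γ(G, V) where
  toFun m := (exists_isImg hE hG θ hθ m).choose
  map_zero' := IsImg.unique hG θ (exists_isImg hE hG θ hθ (0 : Γ(F, V))).choose_spec (IsImg.zero θ)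
  map_add' m m' := IsImg.unique hG θ (exists_isImg hE hG θ hθ (m + m')).choose_spec
    (IsImg.add θ (exists_isImg hE hG θ hθ m).choose_spec (exists_isImg hE hG θ hθ m').choose_spec)

theorem genMapFun_spec (V : X.Opens) (m : Γ(F, V)) : IsImg θ m (genMapFun hE hG θ hθ V m) :=
  (exists_isImg hE hG θ hθ m).choose_spec

/-- The morphism induced by a map of generic stalks. -/
noncomputable def genMap : F ⟶ G :=
  ⟨PresheafOfModules.homMk
    { app := fun U => AddCommGrpCat.ofHom (genMapFun hE hG θ hθ U.unop)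
      naturality := fun {U V} i => by
        ext s
        apply IsImg.unique hG θ (genMapFun_spec hE hG θ hθ V.unop _)
        intro hη
        have h1 := genMapFun_spec hE hG θ hθ U.unop s (i.unop.le hη)
        have h2 := TopCat.Presheaf.germ_res_apply' F.presheaf i (genericPoint X) hη s
        have h3 := TopCat.Presheaf.germ_res_apply' G.presheaf i (genericPoint X) hη
          (genMapFun hE hG θ hθ U.unop s)
        exact h3.trans (h1.trans (congrArg θ h2.symm)) }
    (fun U r s => IsImg.unique hG θ (genMapFun_spec hE hG θ hθ U.unop _)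
      (IsImg.smul θ r (genMapFun_spec hE hG θ hθ U.unop s)))⟩

theorem isImg_genMap (V : X.Opens) (m : Γ(F, V)) :
    IsImg θ m ((genMap hE hG θ hθ).app V m) :=
  genMapFun_spec hE hG θ hθ V m

end GenMap

end S2

end RefHullH8
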