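import Mathlib
import Groth.Prelude
import Groth.Agent.Lib.RefHull16_helper8

set_option autoImplicit false
universe u

open CategoryTheory AlgebraicGeometry TopologicalSpace Opposite
open QcqsLoc GenLocH8 SecOrdH8 FLFH8 QCohExtn

/-! A criterion for reflexivity: extension property, generic injectivity and local generators
in codimension at most one. -/

namespace RefHullH8

variable {X : Scheme.{u}}

theorem hasExt_ddual [IsIntegral X] [IsLocallyNoetherian X] (hX : Pi1.IsNormalScheme X)
    (F : X.Modules) : HasExt (RefHull.ddual F) :=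
  hasExt_homSh (RefHull.dual F) (hasExt_structureModule hX)

theorem genInj_ddual [IsIntegral X] (F : X.Modules) : S2.GenInj (RefHull.ddual F) :=
  S2.genInj_homSh (RefHull.dual F) S2.genInj_structureModule

theorem hasExt_dual [IsIntegral X] [IsLocallyNoetherian X] (hX : Pi1.IsNormalScheme X)
    (F : X.Modules) : HasExt (RefHull.dual F) :=
  hasExt_homSh F (hasExt_structureModule hX)

theorem genInj_dual [IsIntegral X] (F : X.Modules) : S2.GenInj (RefHull.dual F) :=
  S2.genInj_homSh F S2.genInj_structureModule

theorem isReflexive_of_S2 [IsIntegral X] [IsLocallyNoetherian X] (hX : Pi1.IsNormalScheme X)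
    {F : X.Modules} (hE : HasExt F) (hI : S2.GenInj F)
    (hgen : ∀ x : X, Order.coheight x ≤ 1 →
      ∃ (W : X.Opens) (_ : x ∈ W) (e : Γ(F, W)), IsGen F W e) :
    RefHull.IsReflexive F := by
  set H := RefHull.ddual F with hH
  set j := RefHull.bidualMap F with hj
  have hEH : HasExt H := hasExt_ddual hX F
  have hIH : S2.GenInj H := genInj_ddual F
  have hc0 : Order.coheight (genericPoint X) ≤ 1 := by
    have : Order.coheight (genericPoint X) = 0 := by
      rw [Order.coheight_eq_zero]
      intro w hw
      exact (genericPoint_spec X).specializes (Set.mem_univ w)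
    rw [this]
    exact zero_le
  obtain ⟨W₀, hηW₀, e₀, he₀⟩ := hgen (genericPoint X) hc0
  have ha : IsFreeGen F (genericPoint X) (F.presheaf.germ W₀ _ hηW₀ e₀) := stalk_gen he₀ hηW₀
  have hb : IsFreeGen H (genericPoint X) (H.presheaf.germ W₀ _ hηW₀ (ap j W₀ e₀)) :=
    stalk_gen (isGen_bidual he₀) hηW₀
  set a := F.presheaf.germ W₀ _ hηW₀ e₀ with hadef
  set b := H.presheaf.germ W₀ _ hηW₀ (ap j W₀ e₀) with hbdef
  set jη := RefHull.stalkMapₗ j (genericPoint X) with hjη
  have hjab : jη a = b := (germ_app j (genericPoint X) hηW₀ e₀).symm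
  set θ' := hb.lift a with hθ'def
  have hθ' : ∀ (x : X), Order.coheight x ≤ 1 → ∀ m : H.presheaf.stalk x,
      ∃ g : F.presheaf.stalk x,
        F.presheaf.stalkSpecializes ((genericPoint_spec X).specializes (Set.mem_univ x)) g =
          θ' (H.presheaf.stalkSpecializes
            ((genericPoint_spec X).specializes (Set.mem_univ x)) m) := by
    intro x hx m
    set h := (genericPoint_spec X).specializes (Set.mem_univ x) with hh
    obtain ⟨W, hxW, e, he⟩ := hgen x hx
    have hηW : genericPoint X ∈ W := h.mem_open W.isOpen hxW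
    have heH : IsGen H W (ap j W e) := isGen_bidual he
    obtain ⟨r, hr⟩ := (stalk_gen heH hxW).1 m
    obtain ⟨α, hα⟩ := ha.1 (F.presheaf.germ W _ hηW e)
    refine ⟨r • F.presheaf.germ W x hxW e, ?_⟩
    rw [hr, stalkSpecializes_smul, stalkSpecializes_smul, stalkSpecializes_germ,
      stalkSpecializes_germ, map_smul]
    congr 1
    have h1 : H.presheaf.germ W (genericPoint X) hηW (ap j W e) =
        jη (F.presheaf.germ W (genericPoint X) hηW e) := germ_app j (genericPoint X) hηW e
    rw [h1, hα, map_smul, hjab, map_smul, hθ'def, hb.lift_gen]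
  have hc1 : θ'.comp jη = LinearMap.id := by
    apply ha.hom_ext
    show θ' (jη a) = a
    rw [hjab, hθ'def, hb.lift_gen]
  have hc2 : jη.comp θ' = LinearMap.id := by
    apply hb.hom_ext
    show jη (θ' b) = b
    rw [hθ'def, hb.lift_gen, hjab]
  set Ψ' : H ⟶ F := S2.genMap hE hI θ' hθ' with hΨ'
  have h1 : j ≫ Ψ' = 𝟙 F := by
    apply Scheme.Modules.hom_ext
    intro V
    apply ConcreteCategory.hom_ext
    intro m
    show ap Ψ' V (ap j V m) = m
    have e1 : S2.IsImg (LinearMap.id) m (ap Ψ' V (ap j V m)) := by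
      intro hη
      have e2 := S2.isImg_genMap hE hI θ' hθ' V (ap j V m) hη
      have e3 : F.presheaf.germ V (genericPoint X) hη (ap Ψ' V (ap j V m)) =
          θ' (H.presheaf.germ V (genericPoint X) hη (ap j V m)) := e2
      have e4 : H.presheaf.germ V (genericPoint X) hη (ap j V m) =
          jη (F.presheaf.germ V (genericPoint X) hη m) := germ_app j (genericPoint X) hη m
      rw [e3, e4]
      exact LinearMap.congr_fun hc1 _
    have e5 : S2.IsImg (LinearMap.id) m m := fun hη => rfl
    exact S2.IsImg.unique hI _ e1 e5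
  have h2 : Ψ' ≫ j = 𝟙 H := by
    apply Scheme.Modules.hom_ext
    intro V
    apply ConcreteCategory.hom_ext
    intro m
    show ap j V (ap Ψ' V m) = m
    have e1 : S2.IsImg (LinearMap.id) m (ap j V (ap Ψ' V m)) := by
      intro hη
      have e2 := S2.isImg_genMap hE hI θ' hθ' V m hη
      have e3 : F.presheaf.germ V (genericPoint X) hη (ap Ψ' V m) =
          θ' (H.presheaf.germ V (genericPoint X) hη m) := e2
      have e4 : H.presheaf.germ V (genericPoint X) hη (ap j V (ap Ψ' V m)) =
          jη (F.presheaf.germ V (genericPoint X) hη (ap Ψ' V m)) :=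
        germ_app j (genericPoint X) hη _
      rw [e4, e3]
      exact LinearMap.congr_fun hc2 _
    have e5 : S2.IsImg (LinearMap.id) m m := fun hη => rfl
    exact S2.IsImg.unique hIH _ e1 e5
  exact ⟨⟨Ψ', h1, h2⟩⟩

end RefHullH8
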