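import Mathlib
import Groth.Prelude
import Groth.Agent.Lib.RefHull15_helper8
import Groth.Agent.Lib.OrdFin_helper5

set_option autoImplicit false
universe u

open CategoryTheory AlgebraicGeometry TopologicalSpace Opposite
open QcqsLoc GenLocH8 SecOrdH8 FLFH8 QCohExtn RefHullH8

/-! The rank one reflexive module `O_X(D)` of a Weil divisor on a normal scheme. -/

namespace WDivShH8

variable {X : Scheme.{u}} [IsIntegral X] [IsLocallyNoetherian X]

/-- The order condition on a rational function at a point. -/
def OrdCond (D : X → ℤ) (x : X) (g : X.functionField) : Prop :=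
  Order.coheight x = 1 → g = 0 ∨ -D x ≤ Scheme.ord g x

theorem ordCond_zero (D : X → ℤ) (x : X) : OrdCond D x 0 := fun _ => Or.inl rfl

theorem ordCond_add (hX : Pi1.IsNormalScheme X) (D : X → ℤ) (x : X) {g g' : X.functionField}
    (hg : OrdCond D x g) (hg' : OrdCond D x g') : OrdCond D x (g + g') := by
  intro hx
  haveI := Groth.Agent.CDivNormal.dvr_of_coheight hX x hx
  by_cases h0 : g + g' = 0
  · exact Or.inl h0
  right
  rcases hg hx with rfl | h1
  · rw [zero_add]
    rcases hg' hx with rfl | h2
    · exact absurd (zero_add _) h0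
    · exact h2
  rcases hg' hx with rfl | h2
  · rw [add_zero]; exact h1
  have := Scheme.ord_add (x := x) h0
  exact (le_min h1 h2).trans this

theorem ordCond_smul (hX : Pi1.IsNormalScheme X) (D : X → ℤ) (x : X) (a : X.presheaf.stalk x)
    {g : X.functionField} (hg : OrdCond D x g) : OrdCond D x (a • g) := by
  intro hx
  rcases hg hx with rfl | h1
  · left; rw [smul_zero]
  by_cases hg0 : g = 0
  · left; rw [hg0, smul_zero]
  by_cases ha : algebraMap (X.presheaf.stalk x) X.functionField a = 0
  · left; rw [Algebra.smul_def, ha, zero_mul]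
  right
  rw [Algebra.smul_def, Scheme.ord_mul ha hg0]
  have := (Groth.Agent.CDivNormal.zero_le_ord_iff hX x hx _ ha).mpr ⟨a, rfl⟩
  omega

omit [IsLocallyNoetherian X] in
theorem smul_const (x y : X) (a : X.presheaf.stalk x) (b : X.presheaf.stalk y)
    (g : X.functionField)
    (h : algebraMap (X.presheaf.stalk x) X.functionField a =
      algebraMap (X.presheaf.stalk y) X.functionField b) : a • g = b • g := by
  rw [Algebra.smul_def, Algebra.smul_def, h]

/-- The local predicate defining `O_X(D)`. -/
def odLoc (D : X → ℤ) : TopCat.LocalPredicate (fun _ : X => (X.functionField : Type u)) where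
  pred {U} f := (∀ (x : U) (hη : genericPoint X ∈ U), f x = f ⟨genericPoint X, hη⟩) ∧
    ∀ x : U, OrdCond D x.1 (f x)
  res {V U} i f h := ⟨fun x hη => h.1 ⟨x.1, i.le x.2⟩ (i.le hη), fun x => h.2 ⟨x.1, i.le x.2⟩⟩
  locality {U} f h := by
    constructor
    · intro x hη
      obtain ⟨V, hxV, i, hV⟩ := h x
      have hηV : genericPoint X ∈ V := NormH8.genericPoint_mem hxV
      exact hV.1 ⟨x.1, hxV⟩ hηV
    · intro x
      obtain ⟨V, hxV, i, hV⟩ := h x
      exact hV.2 ⟨x.1, hxV⟩

theorem isModPred (hX : Pi1.IsNormalScheme X) (D : X → ℤ) : Mero.IsModPred (odLoc D) where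
  zero U := ⟨fun _ _ => rfl, fun x => ordCond_zero D x.1⟩
  add U f g hf hg := ⟨fun x hη => by
      show f x + g x = f _ + g _
      rw [hf.1 x hη, hg.1 x hη], fun x => ordCond_add hX D x.1 (hf.2 x) (hg.2 x)⟩
  smul U r f hf := ⟨fun x hη => by
      beta_reduce
      rw [hf.1 x hη]
      refine smul_const x.1 (⟨genericPoint X, hη⟩ : U).1 _ _ _ ?_
      have h1 : algebraMap (X.presheaf.stalk x.1) X.functionField (X.presheaf.germ U x.1 x.2 r) =
          X.presheaf.germ U (genericPoint X) hη r :=
        stalkSpecializes_germX ((genericPoint_spec X).specializes (Set.mem_univ x.1)) U x.2 r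
      have h2 : @algebraMap (X.presheaf.stalk (genericPoint X)) X.functionField _ _
          (stalkFunctionFieldAlgebra X (genericPoint X))
          (X.presheaf.germ U (genericPoint X) hη r) = X.presheaf.germ U (genericPoint X) hη r :=
        stalkSpecializes_germX ((genericPoint_spec X).specializes (Set.mem_univ (genericPoint X)))
          U hη r
      exact h1.trans h2.symm, fun x => ordCond_smul hX D x.1 _ (hf.2 x)⟩

/-- The module `O_X(D)`. -/
noncomputable def OD (hX : Pi1.IsNormalScheme X) (D : X → ℤ) : X.Modules :=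
  @Mero.modOf X _ _ _ (odLoc D) (isModPred hX D)

end WDivShH8
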