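import Mathlib
import Groth.Prelude
import Groth.Agent.Lib.WDivSh1_helper8
import Groth.Agent.Lib.RefHull17_helper8
import Groth.Agent.Lib.CDivUFD_helper5

set_option autoImplicit false
universe u

open CategoryTheory AlgebraicGeometry TopologicalSpace Opposite
open QcqsLoc GenLocH8 SecOrdH8 FLFH8 QCohExtn RefHullH8

/-! Sections, extension property and local generators of `O_X(D)`. -/

namespace WDivShH8

variable {X : Scheme.{u}} [IsIntegral X] [IsLocallyNoetherian X]
  (hX : Pi1.IsNormalScheme X) (D : X → ℤ)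

theorem od_ext {U : X.Opens} (f f' : Γ(OD hX D, U)) (h : ∀ x : U, f.1 x = f'.1 x) : f = f' :=
  Subtype.ext (funext h)

theorem od_const {U : X.Opens} (f : Γ(OD hX D, U)) (x : U) (hη : genericPoint X ∈ U) :
    f.1 x = f.1 ⟨genericPoint X, hη⟩ := f.2.1 x hη

theorem od_ordCond {U : X.Opens} (f : Γ(OD hX D, U)) (x : U) : OrdCond D x.1 (f.1 x) := f.2.2 x

/-- The section of `O_X(D)` given by a rational function satisfying the order conditions. -/
noncomputable def odMk (U : X.Opens) (g : X.functionField) (hg : ∀ x ∈ U, OrdCond D x g) :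
    Γ(OD hX D, U) :=
  ⟨fun _ => g, fun _ _ => rfl, fun x => hg x.1 x.2⟩

theorem odMk_apply (U : X.Opens) (g : X.functionField) (hg : ∀ x ∈ U, OrdCond D x g) (x : U) :
    (odMk hX D U g hg).1 x = g := rfl

theorem od_smul_apply {U : X.Opens} (r : Γ(X, U)) (f : Γ(OD hX D, U)) (x : U) :
    (r • f).1 x = X.presheaf.germ U x.1 x.2 r • f.1 x := rfl

theorem od_rF_apply {U V : X.Opens} (h : V ≤ U) (f : Γ(OD hX D, U)) (x : V) :
    (rF (OD hX D) h f).1 x = f.1 ⟨x.1, h x.2⟩ := rfl

theorem od_zero_apply {U : X.Opens} (x : U) : (0 : Γ(OD hX D, U)).1 x = 0 := rfl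

theorem od_eq_zero_of_generic {U : X.Opens} (f : Γ(OD hX D, U))
    (h : ∀ hη : genericPoint X ∈ U, f.1 ⟨genericPoint X, hη⟩ = 0) : f = 0 := by
  apply od_ext
  intro x
  have hη : genericPoint X ∈ U := NormH8.genericPoint_mem x.2
  rw [od_const hX D f x hη, h hη]
  rfl

theorem genInj_od : S2.GenInj (OD hX D) := by
  intro V g hg
  apply od_eq_zero_of_generic
  intro hη
  obtain ⟨W, hW, hηW, h0⟩ := (germ_eq_zero_iff (OD hX D) _ hη g).mp (hg hη)
  have h1 := congrArg (fun t : Γ(OD hX D, W) => t.1 ⟨genericPoint X, hηW⟩) h0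
  exact h1

theorem coheight_genericPoint : Order.coheight (genericPoint X) = 0 := by
  rw [Order.coheight_eq_zero]
  intro w _
  exact (genericPoint_spec X).specializes (Set.mem_univ w)

theorem hasExt_od : HasExt (OD hX D) := by
  intro V U₁ hbig
  have hηmem : ∀ y ∈ V, genericPoint X ∈ U₁ := by
    intro y hy
    refine hbig.2 _ (NormH8.genericPoint_mem hy) ?_
    rw [coheight_genericPoint]
    exact zero_le
  constructor
  · rw [injective_iff_map_eq_zero]
    intro g hg
    apply od_eq_zero_of_generic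
    intro hη
    have hη₁ := hηmem _ hη
    have h1 := congrArg (fun t : Γ(OD hX D, U₁) => t.1 ⟨genericPoint X, hη₁⟩) hg
    exact h1
  · intro g₁
    by_cases hne : Nonempty V
    · obtain ⟨⟨y₀, hy₀⟩⟩ := hne
      have hη₁ := hηmem y₀ hy₀
      refine ⟨odMk hX D V (g₁.1 ⟨genericPoint X, hη₁⟩) ?_, ?_⟩
      · intro x hx hcx
        have hxU : x ∈ U₁ := hbig.2 x hx hcx.le
        have := od_ordCond hX D g₁ ⟨x, hxU⟩ hcx
        rwa [od_const hX D g₁ ⟨x, hxU⟩ hη₁] at this
      · apply od_ext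
        intro x
        rw [od_rF_apply, odMk_apply]
        exact (od_const hX D g₁ x hη₁).symm
    · refine ⟨0, ?_⟩
      apply od_ext
      intro x
      exact (hne ⟨⟨x.1, hbig.1 x.2⟩⟩).elim

/-! ### Orders of powers -/

theorem ord_pow' (x : X) {g : X.functionField} (hg : g ≠ 0) (k : ℕ) :
    Scheme.ord (g ^ k) x = k * Scheme.ord g x := by
  induction k with
  | zero => simp [ord_one']
  | succ k ih =>
    rw [pow_succ, Scheme.ord_mul (pow_ne_zero k hg) hg, ih]
    push_cast
    ring

theorem ord_zpow' (x : X) {g : X.functionField} (hg : g ≠ 0) (n : ℤ) :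
    Scheme.ord (g ^ n) x = n * Scheme.ord g x := by
  cases n with
  | ofNat k =>
    rw [Int.ofNat_eq_natCast, zpow_natCast, ord_pow' x hg]
  | negSucc k =>
    rw [zpow_negSucc, ord_inv' x (pow_ne_zero _ hg), ord_pow' x hg, Int.negSucc_eq]
    push_cast
    ring

include hX in
theorem exists_ord_eq (x : X) (hx : Order.coheight x = 1) (n : ℤ) :
    ∃ g : X.functionField, g ≠ 0 ∧ Scheme.ord g x = n := by
  haveI := Groth.Agent.CDivNormal.dvr_of_coheight hX x hx
  obtain ⟨ϖ, hϖ⟩ := IsDiscreteValuationRing.exists_irreducible (X.presheaf.stalk x)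
  have hspan : Ideal.span {ϖ} = IsLocalRing.maximalIdeal (X.presheaf.stalk x) :=
    ((IsDiscreteValuationRing.irreducible_iff_uniformizer ϖ).mp hϖ).symm
  have h1 := Groth.Agent.CDivUFD.ord_eq_one_of_span hX x hx ϖ hspan
  have hne : algebraMap (X.presheaf.stalk x) X.functionField ϖ ≠ 0 := by
    intro h0
    exact hϖ.ne_zero ((map_eq_zero_iff _ (IsFractionRing.injective (X.presheaf.stalk x)
      X.functionField)).mp h0)
  refine ⟨(algebraMap (X.presheaf.stalk x) X.functionField ϖ) ^ n, zpow_ne_zero n hne, ?_⟩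
  rw [ord_zpow' x hne, h1, mul_one]

end WDivShH8
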