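import Mathlib
import Groth.Prelude
import Groth.Agent.Lib.WDivSh2_helper8

set_option autoImplicit false
universe u

open CategoryTheory AlgebraicGeometry TopologicalSpace Opposite
open QcqsLoc GenLocH8 SecOrdH8 FLFH8 QCohExtn RefHullH8

/-! Local generators of `O_X(D)` at points of codimension at most one. -/

namespace WDivShH8

variable {X : Scheme.{u}} [IsIntegral X] [IsLocallyNoetherian X]
  (hX : Pi1.IsNormalScheme X) (D : X → ℤ)

omit [IsIntegral X] [IsLocallyNoetherian X] in
/-- Around a point of codimension at most one, a locally finite set of points of codimension one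
can be avoided, except possibly for the point itself. -/
theorem exists_nhd_inter_subset (x : X) (hx : Order.coheight x ≤ 1) (S : Set X)
    (hS1 : ∀ y ∈ S, Order.coheight y = 1) (hS : ∃ t ∈ nhds x, (t ∩ S).Finite) :
    ∃ W : X.Opens, x ∈ W ∧ ∀ y ∈ W, y ∈ S → y = x := by
  obtain ⟨t, ht, hfin⟩ := hS
  set B : Set X := (t ∩ S) \ {x} with hB
  have hBfin : B.Finite := hfin.subset Set.sdiff_subset
  set C : Set X := ⋃ y ∈ B, closure ({y} : Set X) with hC
  have hCcl : IsClosed C := hBfin.isClosed_biUnion (fun y _ => isClosed_closure)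
  have hxC : x ∉ C := by
    intro hxC
    rw [hC, Set.mem_iUnion₂] at hxC
    obtain ⟨y, hyB, hxy⟩ := hxC
    have hyx : y ⤳ x := specializes_iff_mem_closure.mpr hxy
    have hne : y ≠ x := hyB.2
    have hle : x ≤ y := hyx
    have hlt : x < y := lt_of_le_not_ge hle (fun hge => hne ((hyx.antisymm hge).eq))
    have h1 := Order.coheight_add_one_le hlt
    have h2 : Order.coheight y = 1 := hS1 y hyB.1.2
    rw [h2] at h1
    have h3 : (1 : ℕ∞) + 1 ≤ 1 := h1.trans hx
    exact absurd h3 (by decide)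
  obtain ⟨t', ht't, ht'o, hxt'⟩ := mem_nhds_iff.mp ht
  refine ⟨⟨t' ∩ Cᶜ, ht'o.inter hCcl.isOpen_compl⟩, ⟨hxt', hxC⟩, ?_⟩
  intro y hy hyS
  by_contra hne
  apply hy.2
  rw [hC, Set.mem_iUnion₂]
  exact ⟨y, ⟨⟨ht't hy.1, hyS⟩, hne⟩, subset_closure rfl⟩

/-- A rational function whose orders are exactly `-D` over `W` generates `O_X(D)` over `W`. -/
theorem isGen_odMk (W : X.Opens) (g₀ : X.functionField) (hg₀ : g₀ ≠ 0)
    (h : ∀ y ∈ W, Order.coheight y = 1 → Scheme.ord g₀ y = -D y) :
    IsGen (OD hX D) W (odMk hX D W g₀ (fun y hy hc => Or.inr (h y hy hc).ge)) := by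
  intro O hO
  by_cases hne : Nonempty O
  swap
  · constructor
    · intro l
      refine ⟨0, ?_⟩
      apply od_ext
      intro x
      exact (hne ⟨x⟩).elim
    · intro c _
      refine TopCat.Presheaf.section_ext X.sheaf O _ _ (fun y hy => ?_)
      exact (hne ⟨⟨y, hy⟩⟩).elim
  obtain ⟨⟨y₀, hy₀⟩⟩ := hne
  haveI : Nonempty O := ⟨⟨y₀, hy₀⟩⟩
  have hηO : genericPoint X ∈ O := NormH8.genericPoint_mem hy₀
  constructor
  · intro l
    set g := l.1 ⟨genericPoint X, hηO⟩ with hg
    set c₀ : X.functionField := g / g₀ with hc₀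
    have hst : ∀ z ∈ O, ∃ r : X.presheaf.stalk z,
        algebraMap (X.presheaf.stalk z) X.functionField r = c₀ := by
      intro z hz
      apply NormHartH8.stalk_hartogs hX z c₀
      intro y hyz hyc
      have hyO : y ∈ O := hyz.mem_open O.isOpen hz
      rcases hyc.lt_or_eq with h0 | h1
      · have h0' : Order.coheight y = 0 := Order.lt_one_iff.mp h0
        obtain rfl := eq_generic_of_coheight_eq_zero y h0'
        refine ⟨c₀, ?_⟩
        have : X.presheaf.stalkSpecializes
            ((genericPoint_spec X).specializes (Set.mem_univ (genericPoint X))) = 𝟙 _ :=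
          TopCat.Presheaf.stalkSpecializes_refl X.presheaf (genericPoint X)
        show (X.presheaf.stalkSpecializes _).hom c₀ = c₀
        rw [this]
        rfl
      · have hcond := od_ordCond hX D l ⟨y, hyO⟩ h1
        rw [od_const hX D l ⟨y, hyO⟩ hηO] at hcond
        rcases hcond with hg0 | hge
        · refine ⟨0, ?_⟩
          have hg0' : g = 0 := hg0
          rw [map_zero, hc₀, hg0', zero_div]
        · by_cases hg0 : g = 0
          · refine ⟨0, ?_⟩
            rw [map_zero, hc₀, hg0, zero_div]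
          have hc0 : c₀ ≠ 0 := div_ne_zero hg0 hg₀
          have hord : 0 ≤ Scheme.ord c₀ y := by
            rw [hc₀, div_eq_mul_inv, Scheme.ord_mul hg0 (inv_ne_zero hg₀), ord_inv' y hg₀,
              h y (hO hyO) h1]
            have : -D y ≤ Scheme.ord g y := hge
            omega
          obtain ⟨r, hr⟩ := (Groth.Agent.CDivNormal.zero_le_ord_iff hX y h1 c₀ hc0).mp hord
          exact ⟨r, hr⟩
    obtain ⟨c, hc⟩ := NormH8.exists_section_of_forall_stalk O c₀ hst
    refine ⟨c, ?_⟩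
    apply od_ext
    intro x
    rw [od_smul_apply, od_rF_apply, odMk_apply, od_const hX D l x hηO, Algebra.smul_def]
    have h1 : algebraMap (X.presheaf.stalk x.1) X.functionField (X.presheaf.germ O x.1 x.2 c) =
        X.presheaf.germ O (genericPoint X) hηO c :=
      stalkSpecializes_germX ((genericPoint_spec X).specializes (Set.mem_univ x.1)) O x.2 c
    have h2 : X.presheaf.germ O (genericPoint X) hηO c = c₀ := hc
    rw [h1, h2, hc₀, div_mul_cancel₀ _ hg₀]
  · intro c hc
    have h1 := congrArg (fun t : Γ(OD hX D, O) => t.1 ⟨y₀, hy₀⟩) hc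
    simp only at h1
    rw [od_smul_apply, od_rF_apply, odMk_apply, od_zero_apply, Algebra.smul_def] at h1
    have h2 : algebraMap (X.presheaf.stalk y₀) X.functionField (X.presheaf.germ O y₀ hy₀ c) = 0 := by
      rcases mul_eq_zero.mp h1 with h | h
      · exact h
      · exact absurd h hg₀
    have h3 : X.presheaf.germ O y₀ hy₀ c = 0 :=
      (map_eq_zero_iff _ (IsFractionRing.injective (X.presheaf.stalk y₀) X.functionField)).mp h2
    exact germ_injective_of_isIntegral X y₀ hy₀ (h3.trans (map_zero _).symm)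

include hX in
/-- Around a point of codimension at most one there is a rational function with orders `-D`. -/
theorem exists_good (hD : LocallyFiniteSupport D) (x : X) (hx : Order.coheight x ≤ 1) :
    ∃ (W : X.Opens) (g₀ : X.functionField), x ∈ W ∧ g₀ ≠ 0 ∧
      ∀ y ∈ W, Order.coheight y = 1 → Scheme.ord g₀ y = -D y := by
  obtain ⟨g₀, hg₀, hg₀x⟩ : ∃ g₀ : X.functionField, g₀ ≠ 0 ∧
      (Order.coheight x = 1 → Scheme.ord g₀ x = -D x) := by
    by_cases h1 : Order.coheight x = 1
    · obtain ⟨g, hg, hgx⟩ := exists_ord_eq hX x h1 (-D x)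
      exact ⟨g, hg, fun _ => hgx⟩
    · exact ⟨1, one_ne_zero, fun h => absurd h h1⟩
  set S : Set X := {y | Order.coheight y = 1 ∧ (D y ≠ 0 ∨ Scheme.ord g₀ y ≠ 0)} with hS
  have hSfin : ∃ t ∈ nhds x, (t ∩ S).Finite := by
    obtain ⟨t₁, ht₁, hfin₁⟩ := hD x
    obtain ⟨_, ⟨W₁, hW₁ : IsAffineOpen W₁, rfl⟩, hxW₁, -⟩ :=
      (X.isBasis_affineOpens).exists_subset_of_mem_open (Set.mem_univ x) isOpen_univ
    have hfin₂ := Groth.Agent.OrdFin.finite_ord_ne_zero hW₁ g₀ hg₀
    refine ⟨t₁ ∩ (W₁ : Set X), Filter.inter_mem ht₁ (W₁.isOpen.mem_nhds hxW₁), ?_⟩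
    apply (hfin₁.union hfin₂).subset
    rintro y ⟨⟨hy1, hy2⟩, hyc, hy3⟩
    rcases hy3 with hy3 | hy3
    · exact Or.inl ⟨hy1, hy3⟩
    · exact Or.inr ⟨hy2, hyc, hy3⟩
  obtain ⟨W, hxW, hW⟩ := exists_nhd_inter_subset x hx S (fun y hy => hy.1) hSfin
  refine ⟨W, g₀, hxW, hg₀, fun y hy hyc => ?_⟩
  by_cases hyS : y ∈ S
  · obtain rfl := hW y hy hyS
    exact hg₀x hyc
  · have h1 : ¬ (D y ≠ 0 ∨ Scheme.ord g₀ y ≠ 0) := fun h => hyS ⟨hyc, h⟩
    rw [not_or, not_not, not_not] at h1
    rw [h1.1, h1.2, neg_zero]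

theorem exists_isGen_od (hD : LocallyFiniteSupport D) (x : X) (hx : Order.coheight x ≤ 1) :
    ∃ (W : X.Opens) (_ : x ∈ W) (e : Γ(OD hX D, W)), IsGen (OD hX D) W e := by
  obtain ⟨W, g₀, hxW, hg₀, h⟩ := exists_good hX D hD x hx
  exact ⟨W, hxW, _, isGen_odMk hX D W g₀ hg₀ h⟩

theorem isReflexive_od (hD : LocallyFiniteSupport D) : RefHull.IsReflexive (OD hX D) :=
  isReflexive_of_S2 hX (hasExt_od hX D) (genInj_od hX D) (exists_isGen_od hX D hD)

end WDivShH8
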