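import Mathlib
import Groth.Prelude
import Groth.Agent.Lib.WDivSh3_helper8
import Groth.Agent.Lib.QCohCrit_helper9

set_option autoImplicit false
universe u

open CategoryTheory AlgebraicGeometry TopologicalSpace Opposite
open QcqsLoc GenLocH8 SecOrdH8 FLFH8 QCohExtn RefHullH8

/-! Quasi-coherence of `O_X(D)`. -/

namespace WDivShH8

variable {X : Scheme.{u}} [IsIntegral X] [IsLocallyNoetherian X]
  (hX : Pi1.IsNormalScheme X) (D : X → ℤ)

include hX in
/-- The order of the image of a nonzero element of the local ring is nonnegative. -/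
theorem zero_le_ord_algebraMap (y : X) (hy : Order.coheight y = 1) (b : X.presheaf.stalk y)
    (hb : algebraMap (X.presheaf.stalk y) X.functionField b ≠ 0) :
    0 ≤ Scheme.ord (algebraMap (X.presheaf.stalk y) X.functionField b) y :=
  (Groth.Agent.CDivNormal.zero_le_ord_iff hX y hy _ hb).mpr ⟨b, rfl⟩

include hX in
/-- The order of the image of a nonzero nonunit of the local ring is positive. -/
theorem one_le_ord_algebraMap (y : X) (hy : Order.coheight y = 1) (b : X.presheaf.stalk y)
    (hb : algebraMap (X.presheaf.stalk y) X.functionField b ≠ 0) (hu : ¬ IsUnit b) :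
    1 ≤ Scheme.ord (algebraMap (X.presheaf.stalk y) X.functionField b) y := by
  have h0 := zero_le_ord_algebraMap hX y hy b hb
  have h1 : Scheme.ord (algebraMap (X.presheaf.stalk y) X.functionField b) y ≠ 0 := by
    intro h
    obtain ⟨u, hu'⟩ := (Groth.Agent.CDivNormal.ord_eq_zero_iff hX y hy _ hb).mp h
    have := IsFractionRing.injective (X.presheaf.stalk y) X.functionField hu'
    exact hu (this ▸ u.isUnit)
  omega

omit [IsLocallyNoetherian X] [IsIntegral X] in
theorem finite_support_inter (hD : LocallyFiniteSupport D) {U : X.Opens} (hU : IsAffineOpen U) :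
    {y : X | y ∈ U ∧ D y ≠ 0}.Finite := by
  have := hD.finite_inter_support_of_isCompact hU.isCompact
  exact this.subset (fun y hy => ⟨hy.1, hy.2⟩)

theorem locOnU_od (hD : LocallyFiniteSupport D) {U : X.Opens} (hU : IsAffineOpen U) :
    QCohCrit.LocOnU (OD hX D) U := by
  intro a
  have hl : X.basicOpen a ≤ U := X.basicOpen_le a
  refine ⟨hU.isLocalization_basicOpen a, fun x m => Scheme.Modules.map_smul _ _ x m, ?_, ?_⟩
  · intro m'
    show ∃ (n : ℕ) (m : Γ(OD hX D, U)), rX hl a ^ n • m' = rF (OD hX D) hl m
    by_cases hne : Nonempty (X.basicOpen a)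
    swap
    · refine ⟨0, 0, ?_⟩
      apply od_ext
      intro x
      exact (hne ⟨x⟩).elim
    obtain ⟨⟨y₀, hy₀⟩⟩ := hne
    have hηa : genericPoint X ∈ X.basicOpen a := NormH8.genericPoint_mem hy₀
    have hηU : genericPoint X ∈ U := hl hηa
    set g := m'.1 ⟨genericPoint X, hηa⟩ with hg
    by_cases hg0 : g = 0
    · have hm' : m' = 0 := od_eq_zero_of_generic hX D m' (fun _ => hg0)
      refine ⟨0, 0, ?_⟩
      rw [hm', smul_zero, map_zero]
    set aK : X.functionField := X.presheaf.germ U (genericPoint X) hηU a with haK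
    have haK0 : aK ≠ 0 := by
      have : IsUnit (X.presheaf.germ U (genericPoint X) hηU a) :=
        (X.mem_basicOpen a (genericPoint X) hηU).mp hηa
      exact this.ne_zero
    have haKy : ∀ (y : X) (hy : y ∈ U), algebraMap (X.presheaf.stalk y) X.functionField
        (X.presheaf.germ U y hy a) = aK := fun y hy =>
      stalkSpecializes_germX ((genericPoint_spec X).specializes (Set.mem_univ y)) U hy a
    -- the finite set of bad points
    have hTfin : {y : X | y ∈ U ∧ Order.coheight y = 1 ∧
        (Scheme.ord g y ≠ 0 ∨ D y ≠ 0)}.Finite := by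
      apply ((Groth.Agent.OrdFin.finite_ord_ne_zero hU g hg0).union
        (finite_support_inter D hD hU)).subset
      rintro y ⟨hyU, hyc, h | h⟩
      · exact Or.inl ⟨hyU, hyc, h⟩
      · exact Or.inr ⟨hyU, h⟩
    set T := hTfin.toFinset with hT
    set N : ℕ := ∑ y ∈ T, (-D y - Scheme.ord g y).toNat with hN
    have hcond : ∀ y ∈ U, OrdCond D y (aK ^ N * g) := by
      intro y hyU hyc
      right
      rw [Scheme.ord_mul (pow_ne_zero N haK0) hg0, ord_pow' y haK0]
      by_cases hya : y ∈ X.basicOpen a
      · have hcy := od_ordCond hX D m' ⟨y, hya⟩ hyc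
        rw [od_const hX D m' ⟨y, hya⟩ hηa] at hcy
        rcases hcy with h | h
        · exact absurd h hg0
        · have hu : IsUnit (X.presheaf.germ U y hyU a) := (X.mem_basicOpen a y hyU).mp hya
          have h0 := Groth.Agent.OrdFin.ord_eq_zero_of_unit y hu.unit
          rw [IsUnit.unit_spec, haKy y hyU] at h0
          rw [h0, mul_zero, zero_add]
          exact h
      · have hu : ¬ IsUnit (X.presheaf.germ U y hyU a) := fun hu =>
          hya ((X.mem_basicOpen a y hyU).mpr hu)
        have h1 := one_le_ord_algebraMap hX y hyc (X.presheaf.germ U y hyU a)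
          (by rw [haKy y hyU]; exact haK0) hu
        rw [haKy y hyU] at h1
        by_cases hle : -D y ≤ Scheme.ord g y
        · have : (0 : ℤ) ≤ (N : ℤ) * Scheme.ord aK y :=
            mul_nonneg (Int.natCast_nonneg N) (by omega)
          omega
        · have hyT : y ∈ T := by
            rw [hT, Set.Finite.mem_toFinset]
            refine ⟨hyU, hyc, ?_⟩
            by_contra hcon
            rw [not_or, not_not, not_not] at hcon
            apply hle
            rw [hcon.1, hcon.2, neg_zero]
          have h2 : (-D y - Scheme.ord g y).toNat ≤ N :=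
            Finset.single_le_sum (f := fun y => (-D y - Scheme.ord g y).toNat)
              (fun _ _ => Nat.zero_le _) hyT
          have h3 : -D y - Scheme.ord g y ≤ (N : ℤ) := by
            have := Int.self_le_toNat (-D y - Scheme.ord g y)
            have h2' : ((-D y - Scheme.ord g y).toNat : ℤ) ≤ (N : ℤ) := by exact_mod_cast h2
            omega
          have h4 : (N : ℤ) ≤ (N : ℤ) * Scheme.ord aK y :=
            le_mul_of_one_le_right (Int.natCast_nonneg N) h1
          omega
    refine ⟨N, odMk hX D U (aK ^ N * g) hcond, ?_⟩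
    apply od_ext
    intro x
    rw [od_smul_apply, od_rF_apply, odMk_apply, od_const hX D m' x hηa, Algebra.smul_def,
      map_pow, map_pow, germ_rX, haKy x.1 (hl x.2)]
  · intro m hm
    have hm' : rF (OD hX D) hl m = 0 := hm
    by_cases hne : Nonempty (X.basicOpen a)
    · obtain ⟨⟨y₀, hy₀⟩⟩ := hne
      have hηa : genericPoint X ∈ X.basicOpen a := NormH8.genericPoint_mem hy₀
      refine ⟨0, ?_⟩
      rw [pow_zero, one_smul]
      apply od_eq_zero_of_generic
      intro hη
      have h1 := congrArg (fun t : Γ(OD hX D, X.basicOpen a) => t.1 ⟨genericPoint X, hηa⟩) hm'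
      exact h1
    · have hbot : X.basicOpen a = ⊥ := by
        ext y
        simp only [Opens.coe_bot, Set.mem_empty_iff_false, iff_false]
        exact fun hy => hne ⟨⟨y, hy⟩⟩
      have ha0 : a = 0 := (AlgebraicGeometry.basicOpen_eq_bot_iff a).mp hbot
      refine ⟨1, ?_⟩
      rw [ha0, pow_one, zero_smul]

theorem isQuasicoherent_od (hD : LocallyFiniteSupport D) : (OD hX D).IsQuasicoherent :=
  QCohCrit.isQuasicoherent_of_locOnU _ (fun U => locOnU_od hX D hD U.2)

end WDivShH8
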