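import Mathlib
import Groth.Prelude
import Groth.Agent.Lib.WDivSh4_helper8

set_option autoImplicit false
universe u

open CategoryTheory AlgebraicGeometry TopologicalSpace Opposite
open QcqsLoc GenLocH8 SecOrdH8 FLFH8 QCohExtn RefHullH8

/-! Finite type of `O_X(D)`. -/

namespace WDivShH8

variable {X : Scheme.{u}} [IsIntegral X] [IsLocallyNoetherian X]
  (hX : Pi1.IsNormalScheme X) (D : X → ℤ)

omit [IsLocallyNoetherian X] in
theorem algebraMap_germ {U : X.Opens} (y : X) (hy : y ∈ U) (hη : genericPoint X ∈ U)
    (c : Γ(X, U)) :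
    algebraMap (X.presheaf.stalk y) X.functionField (X.presheaf.germ U y hy c) =
      X.presheaf.germ U (genericPoint X) hη c :=
  stalkSpecializes_germX ((genericPoint_spec X).specializes (Set.mem_univ y)) U hy c

omit [IsLocallyNoetherian X] in
theorem smul_generic (x : X) (a : X.presheaf.stalk x) (g : X.functionField) :
    a • g = algebraMap (X.presheaf.stalk x) X.functionField a * g := Algebra.smul_def a g

include hX in
/-- On an affine open there is a nonzero function vanishing at a given point of codimension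
one. -/
theorem exists_section_ord_pos {U : X.Opens} (hU : IsAffineOpen U) (y : X) (hy : y ∈ U)
    (hη : genericPoint X ∈ U) (hyc : Order.coheight y = 1) :
    ∃ b : Γ(X, U), b ≠ 0 ∧ 1 ≤ Scheme.ord (X.presheaf.germ U (genericPoint X) hη b) y := by
  haveI := Groth.Agent.CDivNormal.dvr_of_coheight hX y hyc
  obtain ⟨ϖ, hϖ⟩ := IsDiscreteValuationRing.exists_irreducible (X.presheaf.stalk y)
  letI alg : Algebra Γ(X, U) (X.presheaf.stalk y) :=
    TopCat.Presheaf.algebra_section_stalk X.presheaf (⟨y, hy⟩ : ↥U)
  haveI hloc : IsLocalization.AtPrime (X.presheaf.stalk y) (hU.primeIdealOf ⟨y, hy⟩).asIdeal :=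
    hU.isLocalization_stalk ⟨y, hy⟩
  obtain ⟨⟨b, s⟩, hbs⟩ := IsLocalization.surj (hU.primeIdealOf ⟨y, hy⟩).asIdeal.primeCompl ϖ
  have halg : ∀ c : Γ(X, U), algebraMap Γ(X, U) (X.presheaf.stalk y) c =
      X.presheaf.germ U y hy c := fun c => rfl
  have hsu : IsUnit (X.presheaf.germ U y hy s.1) := by
    rw [← halg]
    exact IsLocalization.map_units (M := (hU.primeIdealOf ⟨y, hy⟩).asIdeal.primeCompl)
      (X.presheaf.stalk y) s
  have hb : X.presheaf.germ U y hy b = ϖ * X.presheaf.germ U y hy s.1 := by
    rw [← halg, ← halg]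
    exact hbs.symm
  have hb0 : X.presheaf.germ U y hy b ≠ 0 := by
    rw [hb]
    exact mul_ne_zero hϖ.ne_zero hsu.ne_zero
  have hbu : ¬ IsUnit (X.presheaf.germ U y hy b) := by
    rw [hb]
    intro h
    exact hϖ.not_isUnit (isUnit_of_mul_isUnit_left h)
  have hbK : algebraMap (X.presheaf.stalk y) X.functionField (X.presheaf.germ U y hy b) ≠ 0 :=
    fun h0 => hb0 ((map_eq_zero_iff _ (IsFractionRing.injective (X.presheaf.stalk y)
      X.functionField)).mp h0)
  refine ⟨b, fun h0 => hb0 (by rw [h0, map_zero]), ?_⟩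
  have := one_le_ord_algebraMap hX y hyc _ hbK hbu
  rwa [algebraMap_germ y hy hη] at this

include hX in
theorem zero_le_ord_germ {U : X.Opens} (y : X) (hy : y ∈ U) (hη : genericPoint X ∈ U)
    (hyc : Order.coheight y = 1) (b : Γ(X, U)) (hb : b ≠ 0) :
    0 ≤ Scheme.ord (X.presheaf.germ U (genericPoint X) hη b) y := by
  have hbK : (X.presheaf.germ U (genericPoint X) hη b : X.functionField) ≠ 0 := fun h0 =>
    hb (germ_injective_of_isIntegral X (genericPoint X) hη (h0.trans (map_zero _).symm))
  have := zero_le_ord_algebraMap hX y hyc (X.presheaf.germ U y hy b)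
    (by rw [algebraMap_germ y hy hη]; exact hbK)
  rwa [algebraMap_germ y hy hη] at this

include hX in
/-- A common denominator. -/
theorem exists_denominator {U : X.Opens} (hU : IsAffineOpen U) (hη : genericPoint X ∈ U)
    (T : Finset X) (hT : ∀ y ∈ T, y ∈ U ∧ Order.coheight y = 1) (n : X → ℕ) :
    ∃ d : Γ(X, U), d ≠ 0 ∧
      ∀ y ∈ T, (n y : ℤ) ≤ Scheme.ord (X.presheaf.germ U (genericPoint X) hη d) y := by
  classical
  haveI : Nonempty U := ⟨⟨_, hη⟩⟩
  haveI : IsDomain Γ(X, U) := inferInstance
  induction T using Finset.induction_on with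
  | empty => exact ⟨1, one_ne_zero, fun y hy => absurd hy (Finset.notMem_empty y)⟩
  | insert y T' hyT' ih =>
    obtain ⟨d', hd'0, hd'⟩ := ih (fun z hz => hT z (Finset.mem_insert_of_mem hz))
    obtain ⟨hyU, hyc⟩ := hT y (Finset.mem_insert_self y T')
    obtain ⟨b, hb0, hb⟩ := exists_section_ord_pos hX hU y hyU hη hyc
    have hbK : (X.presheaf.germ U (genericPoint X) hη b : X.functionField) ≠ 0 := fun h0 =>
      hb0 (germ_injective_of_isIntegral X (genericPoint X) hη (h0.trans (map_zero _).symm))
    have hd'K : (X.presheaf.germ U (genericPoint X) hη d' : X.functionField) ≠ 0 := fun h0 =>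
      hd'0 (germ_injective_of_isIntegral X (genericPoint X) hη (h0.trans (map_zero _).symm))
    refine ⟨b ^ n y * d', mul_ne_zero (pow_ne_zero _ hb0) hd'0, fun z hz => ?_⟩
    have hzU := (hT z hz).1
    have hzc := (hT z hz).2
    rw [map_mul, map_pow, Scheme.ord_mul (pow_ne_zero _ hbK) hd'K, ord_pow' z hbK]
    have h1 := zero_le_ord_germ hX z hzU hη hzc b hb0
    have h2 := zero_le_ord_germ hX z hzU hη hzc d' hd'0
    rcases Finset.mem_insert.mp hz with rfl | hz'
    · have : (n z : ℤ) ≤ (n z : ℤ) * Scheme.ord (X.presheaf.germ U (genericPoint X) hη b) z :=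
        le_mul_of_one_le_right (Int.natCast_nonneg _) hb
      omega
    · have h3 := hd' z hz'
      have : (0 : ℤ) ≤ (n y : ℤ) * Scheme.ord (X.presheaf.germ U (genericPoint X) hη b) z :=
        mul_nonneg (Int.natCast_nonneg _) h1
      omega

theorem finite_sections_od (hD : LocallyFiniteSupport D) {U : X.Opens} (hU : IsAffineOpen U) :
    Module.Finite Γ(X, U) Γ(OD hX D, U) := by
  classical
  by_cases hne : Nonempty U
  swap
  · haveI : Subsingleton Γ(OD hX D, U) :=
      ⟨fun a b => od_ext hX D a b (fun x => (hne ⟨x⟩).elim)⟩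
    exact Module.Finite.of_finite
  obtain ⟨⟨y₀, hy₀⟩⟩ := hne
  haveI : Nonempty U := ⟨⟨y₀, hy₀⟩⟩
  have hη : genericPoint X ∈ U := NormH8.genericPoint_mem hy₀
  haveI : IsNoetherianRing Γ(X, U) := IsLocallyNoetherian.component_noetherian ⟨U, hU⟩
  -- the denominator
  have hTfin : {y : X | y ∈ U ∧ Order.coheight y = 1 ∧ D y ≠ 0}.Finite :=
    (finite_support_inter D hD hU).subset (fun y hy => ⟨hy.1, hy.2.2⟩)
  obtain ⟨d, hd0, hd⟩ := exists_denominator hX hU hη hTfin.toFinset (fun y hy => by
    rw [Set.Finite.mem_toFinset] at hy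
    exact ⟨hy.1, hy.2.1⟩) (fun y => (D y).toNat)
  set dK : X.functionField := X.presheaf.germ U (genericPoint X) hη d with hdK
  have hdK0 : dK ≠ 0 := fun h0 =>
    hd0 (germ_injective_of_isIntegral X (genericPoint X) hη (h0.trans (map_zero _).symm))
  have hdD : ∀ y ∈ U, Order.coheight y = 1 → D y ≤ Scheme.ord dK y := by
    intro y hyU hyc
    by_cases hDy : D y = 0
    · rw [hDy]
      exact zero_le_ord_germ hX y hyU hη hyc d hd0
    · have := hd y (by rw [Set.Finite.mem_toFinset]; exact ⟨hyU, hyc, hDy⟩)
      have h2 := Int.self_le_toNat (D y)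
      omega
  -- the evaluation map
  let ev : Γ(OD hX D, U) →ₗ[Γ(X, U)] X.functionField :=
    { toFun := fun m => m.1 ⟨genericPoint X, hη⟩
      map_add' := fun m m' => rfl
      map_smul' := fun r m => by
        show (r • m).1 ⟨genericPoint X, hη⟩ = r • m.1 ⟨genericPoint X, hη⟩
        rw [od_smul_apply]
        refine (smul_generic (⟨genericPoint X, hη⟩ : U).1 _ _).trans ?_
        rw [Algebra.smul_def]
        congr 1
        exact algebraMap_germ (genericPoint X) hη hη r }
  have hev : Function.Injective ev := by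
    rw [injective_iff_map_eq_zero]
    intro m hm
    exact od_eq_zero_of_generic hX D m (fun _ => hm)
  set N : Submodule Γ(X, U) X.functionField := Submodule.span Γ(X, U) {dK⁻¹} with hN
  haveI : IsNoetherian Γ(X, U) N := isNoetherian_span_of_finite _ (Set.finite_singleton _)
  have hmem : ∀ m, ev m ∈ N := by
    intro m
    set g := m.1 ⟨genericPoint X, hη⟩ with hg
    have hst : ∀ z ∈ U, ∃ r : X.presheaf.stalk z,
        algebraMap (X.presheaf.stalk z) X.functionField r = dK * g := by
      intro z hz
      apply NormHartH8.stalk_hartogs hX z (dK * g)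
      intro y hyz hyc
      have hyU : y ∈ U := hyz.mem_open U.isOpen hz
      rcases hyc.lt_or_eq with h0 | h1
      · have h0' : Order.coheight y = 0 := Order.lt_one_iff.mp h0
        obtain rfl := eq_generic_of_coheight_eq_zero y h0'
        refine ⟨dK * g, ?_⟩
        have : X.presheaf.stalkSpecializes
            ((genericPoint_spec X).specializes (Set.mem_univ (genericPoint X))) = 𝟙 _ :=
          TopCat.Presheaf.stalkSpecializes_refl X.presheaf (genericPoint X)
        show (X.presheaf.stalkSpecializes _).hom (dK * g) = dK * g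
        rw [this]
        rfl
      · have hcond := od_ordCond hX D m ⟨y, hyU⟩ h1
        rw [od_const hX D m ⟨y, hyU⟩ hη] at hcond
        by_cases hg0 : g = 0
        · exact ⟨0, by rw [map_zero, hg0, mul_zero]⟩
        rcases hcond with h | hge
        · exact absurd h hg0
        · have hord : 0 ≤ Scheme.ord (dK * g) y := by
            rw [Scheme.ord_mul hdK0 hg0]
            have := hdD y hyU h1
            have h3 : -D y ≤ Scheme.ord g y := hge
            omega
          exact (Groth.Agent.CDivNormal.zero_le_ord_iff hX y h1 _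
            (mul_ne_zero hdK0 hg0)).mp hord
    obtain ⟨c, hc⟩ := NormH8.exists_section_of_forall_stalk U (dK * g) hst
    have h1 : ev m = c • dK⁻¹ := by
      show g = c • dK⁻¹
      rw [Algebra.smul_def]
      have : algebraMap Γ(X, U) X.functionField c = dK * g := hc
      rw [this, mul_comm dK g, mul_assoc, mul_inv_cancel₀ hdK0, mul_one]
    rw [h1]
    exact Submodule.smul_mem _ _ (Submodule.subset_span rfl)
  exact Module.Finite.of_injective (ev.codRestrict N hmem)
    (fun a b hab => hev (congrArg Subtype.val hab))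

theorem isFiniteType_od (hD : LocallyFiniteSupport D) : CohB1.IsFT (OD hX D) := by
  haveI := isQuasicoherent_od hX D hD
  exact QCohCrit.isFiniteType_of_sections_cover (OD hX D) (fun U : X.affineOpens => U.1)
    (fun U => U.2) (iSup_affineOpens_eq_top X) (fun U => finite_sections_od hX D hD U.2)

theorem isCoh_od (hD : LocallyFiniteSupport D) : Coh.IsCoh (OD hX D) :=
  ⟨isQuasicoherent_od hX D hD, isFiniteType_od hX D hD⟩

end WDivShH8
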