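import Mathlib
import Groth.Prelude
import Groth.Agent.Lib.WDivSh5_helper8
import Groth.Agent.Lib.Tens5_helper8

set_option autoImplicit false
universe u

open CategoryTheory AlgebraicGeometry TopologicalSpace Opposite
open QcqsLoc GenLocH8 SecOrdH8 FLFH8 QCohExtn RefHullH8

/-! `O_X(D)` is a rank one reflexive module whose canonical section has divisor `D`. -/

namespace WDivShH8

variable {X : Scheme.{u}}

/-- A local generator restricts to a local generator of the restriction to an open subscheme. -/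
theorem isGen_restrict (F : X.Modules) (U : X.Opens) {W : X.Opens} {e : Γ(F, W)}
    (he : IsGen F W e) (W' : (U : Scheme.{u}).Opens) (hW' : U.ι ''ᵁ W' ≤ W) :
    IsGen (F.restrict U.ι) W' (show Γ(F.restrict U.ι, W') from rF F hW' e) := by
  intro O' hO'
  have hOW : U.ι ''ᵁ O' ≤ W := (U.ι.image_mono hO').trans hW'
  obtain ⟨hs, hi⟩ := he (U.ι ''ᵁ O') hOW
  have hres : (rF (F.restrict U.ι) hO' (show Γ(F.restrict U.ι, W') from rF F hW' e) :
      Γ(F.restrict U.ι, O')) = rF F (U.ι.image_mono hO') (rF F hW' e) := rfl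
  have hres2 : rF F (U.ι.image_mono hO') (rF F hW' e) = rF F hOW e := rF_rF F _ _ _
  constructor
  · intro l
    obtain ⟨c, hc⟩ := hs (show Γ(F, U.ι ''ᵁ O') from l)
    refine ⟨(show Γ((U : Scheme.{u}), O') from c), ?_⟩
    rw [restrict_smul_eq, hres, hres2]
    exact hc
  · intro c hc
    rw [restrict_smul_eq, hres, hres2] at hc
    exact hi _ hc

variable [IsIntegral X] [IsLocallyNoetherian X] (hX : Pi1.IsNormalScheme X) (D : X → ℤ)

theorem genInvertible_od (hD : LocallyFiniteSupport D) : RefHull.GenInvertible (OD hX D) := by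
  have hc0 : Order.coheight (genericPoint X) ≤ 1 := by
    rw [coheight_genericPoint]; exact zero_le
  obtain ⟨W, hηW, e, he⟩ := exists_isGen_od hX D hD (genericPoint X) hc0
  refine ⟨W, W.isOpen.dense ⟨_, hηW⟩, ?_⟩
  apply TensH8.isInvertible_of_gens
  intro y
  obtain ⟨_, ⟨W', hW' : IsAffineOpen W', rfl⟩, hyW', -⟩ :=
    ((W : Scheme.{u}).isBasis_affineOpens).exists_subset_of_mem_open (Set.mem_univ y) isOpen_univ
  exact ⟨W', hW', hyW', _, isGen_restrict (OD hX D) W he W' (W.ι_image_le W')⟩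

theorem isRef1_od (hD : LocallyFiniteSupport D) : RefHull.IsRef1 (OD hX D) :=
  ⟨isCoh_od hX D hD, isReflexive_od hX D hD, genInvertible_od hX D hD⟩

/-- Germs at the generic point of sections of `O_X(D)` given by rational functions: the
coefficient relating two of them. -/
theorem germ_odMk_eq_smul {W W₀ : X.Opens} (hη : genericPoint X ∈ W) (hη₀ : genericPoint X ∈ W₀)
    (g g₀ : X.functionField) (hg : ∀ x ∈ W, OrdCond D x g) (hg₀ : ∀ x ∈ W₀, OrdCond D x g₀)
    (α : X.functionField)
    (h : (OD hX D).presheaf.germ W (genericPoint X) hη (odMk hX D W g hg) =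
      α • (OD hX D).presheaf.germ W₀ (genericPoint X) hη₀ (odMk hX D W₀ g₀ hg₀)) :
    g = α * g₀ := by
  obtain ⟨V, hηV, c, rfl⟩ := TopCat.Presheaf.exists_germ_eq X.presheaf
    (show X.presheaf.stalk (genericPoint X) from α)
  set O := V ⊓ (W ⊓ W₀) with hO
  have hηO : genericPoint X ∈ O := ⟨hηV, hη, hη₀⟩
  have h1 : O ≤ V := inf_le_left
  have h2 : O ≤ W := inf_le_right.trans inf_le_left
  have h3 : O ≤ W₀ := inf_le_right.trans inf_le_right
  have e1 : (OD hX D).presheaf.germ O (genericPoint X) hηO (rF (OD hX D) h2 (odMk hX D W g hg)) =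
      (OD hX D).presheaf.germ O (genericPoint X) hηO
        (rX h1 c • rF (OD hX D) h3 (odMk hX D W₀ g₀ hg₀)) := by
    rw [germ_rF, Mero.germ_smul, germ_rF, germ_rX]
    exact h
  obtain ⟨O', hηO', i1, i2, e2⟩ := TopCat.Presheaf.germ_eq (OD hX D).presheaf _ hηO hηO _ _ e1
  have e3 := congrArg (fun t : Γ(OD hX D, O') => t.1 ⟨genericPoint X, hηO'⟩) e2
  have e5 : (rX h1 c • rF (OD hX D) h3 (odMk hX D W₀ g₀ hg₀)).1 ⟨genericPoint X, hηO⟩ =
      (X.presheaf.germ O (genericPoint X) hηO (rX h1 c) : X.functionField) * g₀ := by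
    refine (smul_generic (genericPoint X) _ g₀).trans ?_
    congr 1
    exact algebraMap_germ (genericPoint X) hηO hηO _
  have e6 : g = (X.presheaf.germ O (genericPoint X) hηO (rX h1 c) : X.functionField) * g₀ :=
    e3.trans e5
  rw [e6, germ_rX]

include hX in
/-- Every locally finite divisor supported in codimension one is the divisor of a rational
section of a rank one reflexive module. -/
theorem exists_ref1_of_divisor (hD : LocallyFiniteSupport D) :
    ∃ (F : X.Modules) (_ : RefHull.IsRef1 F) (s : Cyc.secFibre F (genericPoint X)), s ≠ 0 ∧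
      ∀ (x : X), Order.coheight x = 1 →
        D x = Cyc.secOrdAt F (genericPoint X) x
          ((genericPoint_spec X).specializes (Set.mem_univ x)) s := by
  have hc0 : Order.coheight (genericPoint X) ≤ 1 := by
    rw [coheight_genericPoint]; exact zero_le
  obtain ⟨W₀, g₀, hηW₀, hg₀, h₀⟩ := exists_good hX D hD (genericPoint X) hc0
  have he₀ := isGen_odMk hX D W₀ g₀ hg₀ h₀
  set e₀ := odMk hX D W₀ g₀ (fun y hy hc => Or.inr (h₀ y hy hc).ge) with he₀def
  have ha : IsFreeGen (OD hX D) (genericPoint X)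
      ((OD hX D).presheaf.germ W₀ (genericPoint X) hηW₀ e₀) := stalk_gen he₀ hηW₀
  set a := (OD hX D).presheaf.germ W₀ (genericPoint X) hηW₀ e₀ with hadef
  have hφ : (g₀⁻¹ : X.functionField) ≠ 0 := inv_ne_zero hg₀
  refine ⟨OD hX D, isRef1_od hX D hD, (g₀⁻¹ : X.functionField) • fmk (OD hX D) (genericPoint X) a,
    ?_, ?_⟩
  · intro h0
    have h1 := (ha.fibre_smul_eq_zero_iff _).mp h0
    have h2 : IsUnit (g₀⁻¹ : X.functionField) := isUnit_iff_ne_zero.mpr hφ
    exact (IsLocalRing.maximalIdeal X.functionField).ne_top_iff_one.mp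
      (IsLocalRing.maximalIdeal.isMaximal _).ne_top
      ((Ideal.eq_top_of_isUnit_mem _ h1 h2) ▸ Submodule.mem_top)
  · intro x hx
    obtain ⟨W, g₁, hxW, hg₁, h₁⟩ := exists_good hX D hD x hx.le
    have he := isGen_odMk hX D W g₁ hg₁ h₁
    have hηW : genericPoint X ∈ W :=
      ((genericPoint_spec X).specializes (Set.mem_univ x)).mem_open W.isOpen hxW
    obtain ⟨α, hα0, hα⟩ := exists_coef_generic ha (stalk_gen he hηW)
    have hgα : g₁ = α * g₀ := germ_odMk_eq_smul hX D hηW hηW₀ g₁ g₀ _ _ α hα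
    rw [secOrdAt_eq_ord_mul_inv hx he hxW (g₀⁻¹ : X.functionField) α hφ hα0 hα]
    have h2 : (g₀⁻¹ : X.functionField) * α⁻¹ = g₁⁻¹ := by
      rw [hgα, mul_inv_rev, mul_comm]
    rw [h2, ord_inv' x hg₁, h₁ x hxW hx, neg_neg]

end WDivShH8
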