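import Mathlib
import Groth.Prelude
import Groth.Agent.Lib.GrTwUnit_helper5
import Groth.Agent.Lib.QCohExtn_helper9
import Groth.Agent.Lib.WDivSh6_helper8

/-!
# Transfer of local generators along a chart (helper5)
-/

set_option autoImplicit false
universe u
open CategoryTheory CategoryTheory.Limits AlgebraicGeometry TopologicalSpace Opposite

namespace Groth.Agent.GrTw

/-- If `lam : L ⟶ j_* M'` is bijective on sections over the opens inside `W ⊆ range j` (`j` an open
immersion) and `lam e` generates `M'` over `j⁻¹ W`, then `e` generates `L` over `W`. -/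
theorem isGen_of_pushforward_bij {X' P : Scheme.{u}} (j : X' ⟶ P) [IsOpenImmersion j]
    (M' : X'.Modules) (L : P.Modules) (lam : L ⟶ (Scheme.Modules.pushforward j).obj M')
    (W : P.Opens) (hW : W ≤ j.opensRange)
    (hbij : ∀ O : P.Opens, O ≤ W → Function.Bijective (QCohExtn.ap lam O))
    (e : Γ(L, W)) (he : GenLocH8.IsGen M' (j ⁻¹ᵁ W) (QCohExtn.ap lam W e)) :
    GenLocH8.IsGen L W e := by
  intro O hO
  have hjO : Function.Bijective (j.app O).hom := by
    haveI : IsIso (j.app O) := Scheme.Hom.isIso_app j O (hO.trans hW)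
    exact ConcreteCategory.bijective_of_isIso (j.app O)
  have hpre : j ⁻¹ᵁ O ≤ j ⁻¹ᵁ W := j.preimage_mono hO
  have key : ∀ c : Γ(P, O), QCohExtn.ap lam O (c • QcqsLoc.rF L hO e) =
      ((j.app O).hom c) • QcqsLoc.rF M' hpre (QCohExtn.ap lam W e) := by
    intro c
    rw [QCohExtn.ap_smul, QCohExtn.ap_rF]
    rfl
  obtain ⟨h1, h2⟩ := he (j ⁻¹ᵁ O) hpre
  constructor
  · intro l
    obtain ⟨c', hc'⟩ := h1 (QCohExtn.ap lam O l)
    obtain ⟨c, rfl⟩ := hjO.2 c'
    refine ⟨c, (hbij O hO).1 ?_⟩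
    rw [key c]
    exact hc'
  · intro c hc
    have h3 := congrArg (QCohExtn.ap lam O) hc
    rw [key c, map_zero] at h3
    have h4 := h2 _ h3
    exact hjO.1 (h4.trans (map_zero _).symm)

section Cover
variable {A σ : Type u} [CommRing A] [SetLike σ A] [AddSubgroupClass σ A] (𝒜 : ℕ → σ)
  [GradedRing 𝒜]

/-- If the ring is generated by its degree-0 and degree-1 parts, then every point of `Proj` lies in
some `D_+(f)` with `f` of degree one. -/
theorem exists_deg_one_not_mem
    (hgen : Subring.closure ((𝒜 0 : Set A) ∪ (𝒜 1 : Set A)) = ⊤) (z : ProjectiveSpectrum 𝒜) :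
    ∃ f : A, f ∈ 𝒜 1 ∧ f ∉ z.asHomogeneousIdeal := by
  classical
  by_contra hcon
  push Not at hcon
  have key : ∀ a : A, a - GradedRing.projZeroRingHom 𝒜 a ∈ z.asHomogeneousIdeal.toIdeal := by
    intro a
    have ha : a ∈ Subring.closure ((𝒜 0 : Set A) ∪ (𝒜 1 : Set A)) := hgen ▸ Subring.mem_top a
    induction ha using Subring.closure_induction with
    | mem x hx =>
      rcases hx with hx | hx
      · have : GradedRing.projZeroRingHom 𝒜 x = x := by
          rw [GradedRing.projZeroRingHom_apply]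
          exact DirectSum.decompose_of_mem_same 𝒜 hx
        rw [this, sub_self]
        exact Ideal.zero_mem _
      · have : GradedRing.projZeroRingHom 𝒜 x = 0 := by
          rw [GradedRing.projZeroRingHom_apply]
          exact DirectSum.decompose_of_mem_ne 𝒜 hx one_ne_zero
        rw [this, sub_zero]
        exact hcon x hx
    | zero => simp
    | one =>
      rw [map_one, sub_self]
      exact Ideal.zero_mem _
    | add x y _ _ hx hy =>
      rw [map_add, add_sub_add_comm]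
      exact add_mem hx hy
    | neg x _ hx =>
      rw [map_neg, ← neg_sub']
      exact neg_mem hx
    | mul x y _ _ hx hy =>
      have : x * y - GradedRing.projZeroRingHom 𝒜 (x * y) =
          x * (y - GradedRing.projZeroRingHom 𝒜 y) +
            (x - GradedRing.projZeroRingHom 𝒜 x) * GradedRing.projZeroRingHom 𝒜 y := by
        rw [map_mul]; ring
      rw [this]
      exact add_mem (Ideal.mul_mem_left _ x hy) (Ideal.mul_mem_right _ _ hx)
  apply z.not_irrelevant_le
  intro a ha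
  have ha0 : GradedRing.proj 𝒜 0 a = 0 := (HomogeneousIdeal.mem_irrelevant_iff 𝒜 a).mp ha
  have h := key a
  have h0 : GradedRing.projZeroRingHom 𝒜 a = 0 := by
    rw [GradedRing.projZeroRingHom_apply]
    exact ha0
  rw [h0, sub_zero] at h
  exact h

end Cover

section Rel
variable {Y P : Scheme.{u}} (𝒮 : RelProj.QCGrAlg Y) (p : P ⟶ Y)
  (chart : ∀ (U : Y.Opens) (hU : IsAffineOpen U),
    (((p ⁻¹ᵁ U : P.Opens) : Scheme.{u}) ≅ Proj (𝒮.deg U hU)))

theorem opensRange_emb (U : Y.Opens) (hU : IsAffineOpen U) :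
    (RelProj.emb p chart U hU).opensRange = p ⁻¹ᵁ U := by
  unfold RelProj.emb
  rw [Scheme.Hom.opensRange_comp_of_isIso, Scheme.Opens.opensRange_ι]

/-- Over an open `W` of `P` lying in the chart over `U` and mapping into `D_+(f)`, `f` homogeneous
of degree `d`, the relative twisting sheaf `O_P(kd)` has a generator. -/
theorem exists_isGen_of_chart (n : ℤ) (L : P.Modules)
    (lam : ∀ (U : Y.Opens) (hU : IsAffineOpen U),
      L ⟶ (Scheme.Modules.pushforward (RelProj.emb p chart U hU)).obj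
        (GrTwist.twist (𝒮.deg U hU) n))
    (hL : RelProj.IsRelTwist 𝒮 p chart n L lam) (U : Y.Opens) (hU : IsAffineOpen U) {d : ℕ}
    {f : 𝒮.presheaf.obj (op U)} (hf : f ∈ 𝒮.deg U hU d) (k : ℤ) (hn : n = k * d) (W : P.Opens)
    (hWr : W ≤ (RelProj.emb p chart U hU).opensRange)
    (hWf : (RelProj.emb p chart U hU) ⁻¹ᵁ W ≤ Proj.basicOpen (𝒮.deg U hU) f) :
    ∃ e : Γ(L, W), GenLocH8.IsGen L W e := by
  subst hn
  have hWU : W ≤ p ⁻¹ᵁ U := hWr.trans (opensRange_emb 𝒮 p chart U hU).le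
  have hbij : ∀ O : P.Opens, O ≤ W → Function.Bijective (QCohExtn.ap (lam U hU) O) :=
    fun O hO => hL.bijective U hU O (hO.trans hWU)
  have he' := (isGen_genSec (𝒮.deg U hU) hf k).res hWf
  obtain ⟨e, hee⟩ := (hbij W le_rfl).2
    (QcqsLoc.rF (GrTwist.twist (𝒮.deg U hU) (k * d)) hWf (genSec (𝒮.deg U hU) hf k))
  refine ⟨e, isGen_of_pushforward_bij (RelProj.emb p chart U hU) _ L (lam U hU) W hWr hbij e ?_⟩
  rw [hee]
  exact he'

/-- Every point of an open `U` of a relative `Proj` lies in a chart image of some `D_+(h) `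
contained in `U`, with `h` homogeneous of positive degree. -/
theorem exists_chart_basicOpen (U : P.Opens) (x : P) (hx : x ∈ U) :
    ∃ (V : Y.Opens) (hV : IsAffineOpen V) (m : ℕ) (h : 𝒮.presheaf.obj (op V)), 0 < m ∧
      h ∈ 𝒮.deg V hV m ∧
      x ∈ (RelProj.emb p chart V hV) ''ᵁ (Proj.basicOpen (𝒮.deg V hV) h) ∧
      (RelProj.emb p chart V hV) ''ᵁ (Proj.basicOpen (𝒮.deg V hV) h) ≤ U := by
  obtain ⟨_, ⟨V, hV : IsAffineOpen V, rfl⟩, hxV, -⟩ :=
    (Y.isBasis_affineOpens).exists_subset_of_mem_open (Set.mem_univ (p x)) isOpen_univ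
  have hx' : x ∈ p ⁻¹ᵁ V := hxV
  obtain ⟨z, hz⟩ : ∃ z : Proj (𝒮.deg V hV), (RelProj.emb p chart V hV) z = x := by
    refine ⟨(chart V hV).hom ⟨x, hx'⟩, ?_⟩
    have h1 : ((chart V hV).hom ≫ RelProj.emb p chart V hV) ⟨x, hx'⟩ = x := by
      unfold RelProj.emb
      rw [Iso.hom_inv_id_assoc]
      rfl
    exact h1
  have hzU : z ∈ (RelProj.emb p chart V hV) ⁻¹ᵁ U := by
    show (RelProj.emb p chart V hV) z ∈ U
    rw [hz]; exact hx
  obtain ⟨m, h, hm, hh, hzh, hle⟩ := exists_homog_basicOpen (𝒮.deg V hV) _ z hzU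
  refine ⟨V, hV, m, h, hm, hh, ⟨z, hzh, hz⟩, ?_⟩
  exact ((RelProj.emb p chart V hV).image_mono hle).trans (Scheme.Hom.image_preimage_le _ _)

/-- On a quasi-compact open of a relative `Proj`, the twisting sheaves `O(n)`, `d ∣ n`, are
invertible for a suitable `d > 0`. -/
theorem exists_d_isInvertible_restrict (U : P.Opens) (hU : IsCompact (U : Set P)) :
    ∃ d : ℕ, 0 < d ∧ ∀ (n : ℤ), (d : ℤ) ∣ n →
      ∀ (L : P.Modules)
        (lam : ∀ (V : Y.Opens) (hV : IsAffineOpen V),
          L ⟶ (Scheme.Modules.pushforward (RelProj.emb p chart V hV)).obj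
            (GrTwist.twist (𝒮.deg V hV) n)),
        RelProj.IsRelTwist 𝒮 p chart n L lam → PicF.IsInvertible (L.restrict U.ι) := by
  choose V hV m h hm hh hxW hWU using fun x : U => exists_chart_basicOpen 𝒮 p chart U x.1 x.2
  obtain ⟨t, ht⟩ := hU.elim_finite_subcover
    (fun x : U => (((RelProj.emb p chart (V x) (hV x)) ''ᵁ
      (Proj.basicOpen (𝒮.deg (V x) (hV x)) (h x)) : P.Opens) : Set P))
    (fun x => ((RelProj.emb p chart (V x) (hV x)) ''ᵁ
      (Proj.basicOpen (𝒮.deg (V x) (hV x)) (h x))).2)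
    (fun z hz => Set.mem_iUnion.mpr ⟨⟨z, hz⟩, hxW ⟨z, hz⟩⟩)
  refine ⟨∏ k ∈ t, m k, Finset.prod_pos (fun k _ => hm k), fun n hn L lam hL => ?_⟩
  apply TensH8.isInvertible_of_gens
  intro u
  obtain ⟨k, hk⟩ := Set.mem_iUnion.mp (ht u.2)
  obtain ⟨hkt, huk⟩ := Set.mem_iUnion.mp hk
  obtain ⟨c, hc⟩ : (m k : ℤ) ∣ n :=
    (Int.natCast_dvd_natCast.mpr (Finset.dvd_prod_of_mem m hkt)).trans hn
  obtain ⟨e, he⟩ := exists_isGen_of_chart 𝒮 p chart n L lam hL (V k) (hV k) (hh k) c
    (by rw [hc, mul_comm]) ((RelProj.emb p chart (V k) (hV k)) ''ᵁ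
      (Proj.basicOpen (𝒮.deg (V k) (hV k)) (h k)))
    (Scheme.Hom.image_le_opensRange _ _) (Scheme.Hom.preimage_image_eq _ _).le
  refine ⟨U.ι ⁻¹ᵁ ((RelProj.emb p chart (V k) (hV k)) ''ᵁ
      (Proj.basicOpen (𝒮.deg (V k) (hV k)) (h k))),
    ((Proj.isAffineOpen_basicOpen _ (h k) (hh k) (hm k)).image_of_isOpenImmersion
      _).preimage_of_isOpenImmersion _ (by rw [Scheme.Opens.opensRange_ι]; exact hWU k),
    huk, _, WDivShH8.isGen_restrict _ _ he _ (Scheme.Hom.image_preimage_le _ _)⟩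

end Rel

end Groth.Agent.GrTw
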