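import Mathlib
import Groth.Prelude
import Groth.Agent.Lib.GrTwRel_helper5
import Groth.Agent.Lib.Tens2_helper8
import Groth.Agent.Lib.Tens4_helper8

/-!
# Values of sections of `GrTwist.twist` and of the structure sheaf of `Proj` (helper5)
-/

set_option autoImplicit false
universe u
open CategoryTheory CategoryTheory.Limits AlgebraicGeometry TopologicalSpace Opposite DirectSum
open HomogeneousLocalization

namespace Groth.Agent.GrTw

section Val
variable {A σ : Type u} [CommRing A] [SetLike σ A] [AddSubgroupClass σ A] (𝒜 : ℕ → σ)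
  [GradedRing 𝒜]

/-- The value at a point of a section of the structure sheaf of `Proj`, in the localisation. -/
noncomputable abbrev valO {V : (Proj 𝒜).Opens} (c : Γ(Proj 𝒜, V)) (y : V) : GrTwist.Loc 𝒜 y.1 :=
  ((show GrTwist.O (𝒜 := 𝒜) (op V) from c).1 y).val

theorem ext_val {n : ℤ} {V : (Proj 𝒜).Opens} (s t : Γ(GrTwist.twist 𝒜 n, V))
    (h : ∀ y : V, GrTwist.val s y = GrTwist.val t y) : s = t := by
  apply Subtype.ext
  funext y
  apply Subtype.ext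
  exact h y

theorem val_smul {n : ℤ} {V : (Proj 𝒜).Opens} (c : Γ(Proj 𝒜, V)) (s : Γ(GrTwist.twist 𝒜 n, V))
    (y : V) : GrTwist.val (c • s) y = valO 𝒜 c y * GrTwist.val s y :=
  smul_valN 𝒜 n (op V) c s y

theorem val_rF {n : ℤ} {V V' : (Proj 𝒜).Opens} (h : V' ≤ V) (s : Γ(GrTwist.twist 𝒜 n, V))
    (y : V') : GrTwist.val (QcqsLoc.rF (GrTwist.twist 𝒜 n) h s) y = GrTwist.val s ⟨y.1, h y.2⟩ :=
  rfl

theorem valO_rX {V V' : (Proj 𝒜).Opens} (h : V' ≤ V) (c : Γ(Proj 𝒜, V)) (y : V') :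
    valO 𝒜 (QcqsLoc.rX h c) y = valO 𝒜 c ⟨y.1, h y.2⟩ :=
  rfl

/-- Membership of the scheme-theoretic basic open of a section of the structure sheaf of `Proj`,
pointwise. -/
theorem mem_basicOpen_iff (U : (Proj 𝒜).Opens) (a : Γ(Proj 𝒜, U)) (x : Proj 𝒜) (hx : x ∈ U) :
    x ∈ (Proj 𝒜).basicOpen a ↔ IsUnit ((show GrTwist.O (𝒜 := 𝒜) (op U) from a).1 ⟨x, hx⟩) := by
  rw [Scheme.mem_basicOpen _ _ _ hx]
  have h := Proj.stalkIso'_germ 𝒜 U x hx a
  rw [← h]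
  exact (MulEquiv.isUnit_map (Proj.stalkIso' 𝒜 x)).symm

/-- A fraction `g / t` is a unit of the homogeneous localisation at `x` iff `g ∉ x`. -/
theorem isUnit_iff_of_val (x : ProjectiveSpectrum 𝒜) (c : GrTwist.A0 𝒜 x) (g t : A)
    (ht : t ∉ x.asHomogeneousIdeal)
    (hc : c.val = Localization.mk g ⟨t, ht⟩) : IsUnit c ↔ g ∉ x.asHomogeneousIdeal := by
  rw [← HomogeneousLocalization.isUnit_iff_isUnit_val, hc, Localization.mk_eq_mk']
  exact IsLocalization.AtPrime.isUnit_mk'_iff _ _ _ _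

/-- The function `a / g^k` on `D_+(g)`. -/
noncomputable def fracO {d : ℕ} {g : A} (hg : g ∈ 𝒜 d) (k : ℕ) (a : A) (ha : a ∈ 𝒜 (k • d)) :
    Γ(Proj 𝒜, Proj.basicOpen 𝒜 g) :=
  (Proj.awayToSection 𝒜 g).hom (Away.mk 𝒜 hg k a ha)

theorem valO_fracO {d : ℕ} {g : A} (hg : g ∈ 𝒜 d) (k : ℕ) (a : A) (ha : a ∈ 𝒜 (k • d))
    (y : Proj.basicOpen 𝒜 g) :
    valO 𝒜 (fracO 𝒜 hg k a ha) y = Localization.mk a ⟨g ^ k,
      show g ^ k ∈ y.1.asHomogeneousIdeal.toIdeal.primeCompl from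
        fun h => y.2 (y.1.isPrime.mem_of_pow_mem _ h)⟩ := rfl

theorem val_genSec {d : ℕ} {f : A} (hf : f ∈ 𝒜 d) (n : ℤ) (y : Proj.basicOpen 𝒜 f) :
    GrTwist.val (show Γ(GrTwist.twist 𝒜 (n * d), Proj.basicOpen 𝒜 f) from genSec 𝒜 hf n) y =
      Localization.mk (f ^ n.toNat) ⟨f ^ (-n).toNat,
        show f ^ (-n).toNat ∈ y.1.asHomogeneousIdeal.toIdeal.primeCompl from
          fun h => y.2 (y.1.isPrime.mem_of_pow_mem _ h)⟩ := rfl

end Val

end Groth.Agent.GrTw
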