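import Mathlib
import Groth.Prelude
import Groth.Agent.Lib.GrTwVal_helper5

/-!
# The non-vanishing locus of a homogeneous section on a relative `Proj` (helper5)
-/

set_option autoImplicit false
universe u
open CategoryTheory CategoryTheory.Limits AlgebraicGeometry TopologicalSpace Opposite DirectSum
open HomogeneousLocalization

namespace Groth.Agent.GrTw

section Rel
variable {Y P : Scheme.{u}} (𝒮 : RelProj.QCGrAlg Y) (p : P ⟶ Y)
  (chart : ∀ (U : Y.Opens) (hU : IsAffineOpen U),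
    (((p ⁻¹ᵁ U : P.Opens) : Scheme.{u}) ≅ Proj (𝒮.deg U hU)))

/-- Version of `exists_isGen_of_chart` recording the image of the generator in the chart. -/
theorem exists_isGen_of_chart' {d : ℕ} (k : ℤ) (L : P.Modules)
    (lam : ∀ (U : Y.Opens) (hU : IsAffineOpen U),
      L ⟶ (Scheme.Modules.pushforward (RelProj.emb p chart U hU)).obj
        (GrTwist.twist (𝒮.deg U hU) (k * d)))
    (hL : RelProj.IsRelTwist 𝒮 p chart (k * d) L lam) (U : Y.Opens) (hU : IsAffineOpen U)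
    {f : 𝒮.presheaf.obj (op U)} (hf : f ∈ 𝒮.deg U hU d) (W : P.Opens)
    (hWr : W ≤ (RelProj.emb p chart U hU).opensRange)
    (hWf : (RelProj.emb p chart U hU) ⁻¹ᵁ W ≤ Proj.basicOpen (𝒮.deg U hU) f) :
    ∃ e : Γ(L, W), QCohExtn.ap (lam U hU) W e =
        QcqsLoc.rF (GrTwist.twist (𝒮.deg U hU) (k * d)) hWf (genSec (𝒮.deg U hU) hf k) ∧
      GenLocH8.IsGen L W e := by
  have hWU : W ≤ p ⁻¹ᵁ U := hWr.trans (opensRange_emb 𝒮 p chart U hU).le
  have hbij : ∀ O : P.Opens, O ≤ W → Function.Bijective (QCohExtn.ap (lam U hU) O) :=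
    fun O hO => hL.bijective U hU O (hO.trans hWU)
  have he' := (isGen_genSec (𝒮.deg U hU) hf k).res hWf
  obtain ⟨e, hee⟩ := (hbij W le_rfl).2
    (QcqsLoc.rF (GrTwist.twist (𝒮.deg U hU) (k * d)) hWf (genSec (𝒮.deg U hU) hf k))
  refine ⟨e, hee,
    isGen_of_pushforward_bij (RelProj.emb p chart U hU) _ L (lam U hU) W hWr hbij e ?_⟩
  rw [hee]
  exact he'

/-- A point of a relative `Proj` comes from a point of a chart. -/
theorem exists_chart_point (y : P) :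
    ∃ (U : Y.Opens) (hU : IsAffineOpen U) (hy : y ∈ p ⁻¹ᵁ U),
      (RelProj.emb p chart U hU) ((chart U hU).hom ⟨y, hy⟩) = y := by
  obtain ⟨_, ⟨U, hU : IsAffineOpen U, rfl⟩, hyU, -⟩ :=
    (Y.isBasis_affineOpens).exists_subset_of_mem_open (Set.mem_univ (p y)) isOpen_univ
  have hy : y ∈ p ⁻¹ᵁ U := hyU
  refine ⟨U, hU, hy, ?_⟩
  have h1 : ((chart U hU).hom ≫ RelProj.emb p chart U hU) ⟨y, hy⟩ = y := by
    unfold RelProj.emb
    rw [Iso.hom_inv_id_assoc]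
    rfl
  exact h1

/-- **The non-vanishing locus of the section of `O_P(d)` reading `f / 1` on every chart is
`X_f`.** -/
theorem genLocus_eq_of_relTwist (hgen : 𝒮.IsGenDegOne) {d : ℕ} (n : ℤ) (hn : n = (d : ℤ))
    (f : 𝒮.presheaf.obj (op ⊤))
    (hf : ∀ (U : Y.Opens) (hU : IsAffineOpen U),
      (𝒮.presheaf.map (homOfLE le_top).op).hom f ∈ 𝒮.deg U hU d)
    (Xf : P.Opens)
    (hXf : ∀ (U : Y.Opens) (hU : IsAffineOpen U),
      Xf ⊓ p ⁻¹ᵁ U =
        (p ⁻¹ᵁ U).ι ''ᵁ ((chart U hU).hom ⁻¹ᵁ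
          Proj.basicOpen (𝒮.deg U hU) ((𝒮.presheaf.map (homOfLE le_top).op).hom f)))
    (L : P.Modules)
    (lam : ∀ (U : Y.Opens) (hU : IsAffineOpen U),
      L ⟶ (Scheme.Modules.pushforward (RelProj.emb p chart U hU)).obj
        (GrTwist.twist (𝒮.deg U hU) n))
    (hL : RelProj.IsRelTwist 𝒮 p chart n L lam) (s : Coh.structureModule P ⟶ L)
    (hs : ∀ (U : Y.Opens) (hU : IsAffineOpen U) (y : Proj (𝒮.deg U hU)),
      GrTwist.val (V := RelProj.emb p chart U hU ⁻¹ᵁ ⊤)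
        ((lam U hU).app ⊤ (s.app ⊤ (show Γ(Coh.structureModule P, ⊤) from (1 : Γ(P, ⊤)))))
          ⟨y, Set.mem_univ _⟩ =
        Localization.mk ((𝒮.presheaf.map (homOfLE le_top).op).hom f) 1) :
    Xf = CohB1.genLocus L s := by
  have hn' : n = (d : ℤ) * ((1 : ℕ) : ℤ) := by rw [hn]; simp
  subst hn'
  ext y
  obtain ⟨U, hU, hy, hyz⟩ := exists_chart_point 𝒮 p chart y
  obtain ⟨z, hz⟩ : ∃ z : Proj (𝒮.deg U hU), z = (chart U hU).hom ⟨y, hy⟩ := ⟨_, rfl⟩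
  rw [← hz] at hyz
  obtain ⟨fU, hfU⟩ : ∃ fU : 𝒮.presheaf.obj (op U),
    fU = (𝒮.presheaf.map (homOfLE le_top).op).hom f := ⟨_, rfl⟩
  obtain ⟨g, hg, hgz⟩ := exists_deg_one_not_mem (𝒮.deg U hU) (hgen U hU) z
  have h1 : y ∈ Xf ↔ fU ∉ (z : ProjectiveSpectrum (𝒮.deg U hU)).asHomogeneousIdeal := by
    have h0 : y ∈ Xf ↔ y ∈ Xf ⊓ p ⁻¹ᵁ U := ⟨fun h => ⟨h, hy⟩, fun h => h.1⟩
    rw [h0, hXf U hU, ← hfU]
    constructor
    · rintro ⟨w, hw, hwy⟩
      have hw' : w = ⟨y, hy⟩ := Subtype.ext hwy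
      subst hw'
      rw [hz]
      exact hw
    · intro h
      refine ⟨⟨y, hy⟩, ?_, rfl⟩
      rw [hz] at h
      exact h
  refine h1.trans (Iff.symm ?_)
  -- the chart neighbourhood and its generator
  have hWr : (RelProj.emb p chart U hU) ''ᵁ (Proj.basicOpen (𝒮.deg U hU) g) ≤
      (RelProj.emb p chart U hU).opensRange := Scheme.Hom.image_le_opensRange _ _
  have hWf : (RelProj.emb p chart U hU) ⁻¹ᵁ ((RelProj.emb p chart U hU) ''ᵁ
      (Proj.basicOpen (𝒮.deg U hU) g)) ≤ Proj.basicOpen (𝒮.deg U hU) g :=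
    (Scheme.Hom.preimage_image_eq _ _).le
  obtain ⟨W, hW⟩ : ∃ W : P.Opens, W = (RelProj.emb p chart U hU) ''ᵁ
      (Proj.basicOpen (𝒮.deg U hU) g) := ⟨_, rfl⟩
  rw [← hW] at hWr hWf
  have hWU : W ≤ p ⁻¹ᵁ U := hWr.trans (opensRange_emb 𝒮 p chart U hU).le
  have hyW : y ∈ W := by
    rw [hW]
    exact ⟨z, hgz, hyz⟩
  have hzW : z ∈ (RelProj.emb p chart U hU) ⁻¹ᵁ W := by
    show (RelProj.emb p chart U hU) z ∈ W
    rw [hyz]; exact hyW
  obtain ⟨e, hee, he⟩ := exists_isGen_of_chart' 𝒮 p chart (d : ℤ) L lam hL U hU hg W hWr hWf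
  have hfU1 : fU ∈ 𝒮.deg U hU (d • 1) := by
    rw [hfU]
    simpa using hf U hU
  obtain ⟨c', hc'⟩ : ∃ c' : Γ(Proj (𝒮.deg U hU), (RelProj.emb p chart U hU) ⁻¹ᵁ W),
      c' = QcqsLoc.rX hWf (fracO (𝒮.deg U hU) hg d fU hfU1) := ⟨_, rfl⟩
  have hjW : Function.Bijective ((RelProj.emb p chart U hU).app W).hom := by
    haveI : IsIso ((RelProj.emb p chart U hU).app W) :=
      Scheme.Hom.isIso_app (RelProj.emb p chart U hU) W hWr
    exact ConcreteCategory.bijective_of_isIso ((RelProj.emb p chart U hU).app W)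
  obtain ⟨c, hc⟩ := hjW.2 c'
  have hval : SecTwist.val s W = c • e := by
    apply (hL.bijective U hU W hWU).1
    show QCohExtn.ap (lam U hU) W (SecTwist.val s W) = QCohExtn.ap (lam U hU) W (c • e)
    have hR : QCohExtn.ap (lam U hU) W (c • e) =
        c' • QcqsLoc.rF (GrTwist.twist (𝒮.deg U hU) ((d : ℤ) * ((1 : ℕ) : ℤ))) hWf
          (genSec (𝒮.deg U hU) hg (d : ℤ)) := by
      rw [QCohExtn.ap_smul, hee, ← hc]
      rfl
    have hLh : QCohExtn.ap (lam U hU) W (SecTwist.val s W) =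
        QcqsLoc.rF (GrTwist.twist (𝒮.deg U hU) ((d : ℤ) * ((1 : ℕ) : ℤ)))
          ((RelProj.emb p chart U hU).preimage_mono (le_top : W ≤ ⊤))
          ((lam U hU).app ⊤ (s.app ⊤ (show Γ(Coh.structureModule P, ⊤) from (1 : Γ(P, ⊤))))) := by
      rw [← TensH8.rF_val s (le_top : W ≤ ⊤), QCohExtn.ap_rF]
      rfl
    rw [hR, hLh]
    apply ext_val
    intro x
    rw [val_smul, val_rF, val_rF]
    refine (hs U hU x.1).trans ?_
    have hxg : g ∉ (x.1 : ProjectiveSpectrum (𝒮.deg U hU)).asHomogeneousIdeal := hWf x.2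
    have e1 : valO (𝒮.deg U hU) c' x = Localization.mk fU ⟨g ^ d,
        show g ^ d ∈ (x.1 : ProjectiveSpectrum (𝒮.deg U hU)).asHomogeneousIdeal.toIdeal.primeCompl
          from fun h => hxg ((x.1 : ProjectiveSpectrum (𝒮.deg U hU)).isPrime.mem_of_pow_mem _ h)⟩ := by
      rw [hc']
      rfl
    have e2 : GrTwist.val (show Γ(GrTwist.twist (𝒮.deg U hU) ((d : ℤ) * ((1 : ℕ) : ℤ)),
          Proj.basicOpen (𝒮.deg U hU) g) from genSec (𝒮.deg U hU) hg (d : ℤ)) ⟨x.1, hWf x.2⟩ =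
        Localization.mk (g ^ ((d : ℤ)).toNat) ⟨g ^ (-(d : ℤ)).toNat,
        show g ^ (-(d : ℤ)).toNat ∈
          (x.1 : ProjectiveSpectrum (𝒮.deg U hU)).asHomogeneousIdeal.toIdeal.primeCompl
          from fun h => hxg ((x.1 : ProjectiveSpectrum (𝒮.deg U hU)).isPrime.mem_of_pow_mem _ h)⟩ :=
      rfl
    refine Eq.trans ?_ (congrArg₂ (· * ·) e1 e2).symm
    rw [Localization.mk_mul, ← hfU]
    apply Localization.mk_eq_mk_iff.mpr
    apply Localization.r_iff_exists.mpr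
    refine ⟨1, ?_⟩
    simp only [OneMemClass.coe_one, one_mul, mul_one, Submonoid.coe_mul, Int.toNat_natCast,
      Int.toNat_neg_natCast, pow_zero]
    ring
  have hloc := TensH8.genLocus_inf_eq s he c hval
  have h2 : y ∈ CohB1.genLocus L s ↔ y ∈ P.basicOpen c := by
    rw [← hloc]
    exact ⟨fun h => ⟨h, hyW⟩, fun h => h.1⟩
  have h3 : y ∈ P.basicOpen c ↔ z ∈ (Proj (𝒮.deg U hU)).basicOpen c' := by
    rw [← hc, ← Scheme.preimage_basicOpen]
    show _ ↔ (RelProj.emb p chart U hU) z ∈ P.basicOpen c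
    rw [hyz]
  refine h2.trans (h3.trans ?_)
  rw [mem_basicOpen_iff (𝒮.deg U hU) _ c' z hzW]
  refine isUnit_iff_of_val (𝒮.deg U hU) z _ fU (g ^ d)
    (fun h => hgz ((z : ProjectiveSpectrum (𝒮.deg U hU)).isPrime.mem_of_pow_mem _ h)) ?_
  rw [hc']
  rfl

end Rel

end Groth.Agent.GrTw
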