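import Mathlib
import Groth.Prelude
import Groth.Agent.Lib.GrTwGlue_helper5
import Groth.Agent.Lib.Tens6_helper8

/-!
# The twisting sheaf `O_P(nd)` is trivial on `X_f` (relative `Proj`) (helper5)
-/

set_option autoImplicit false
universe u
open CategoryTheory CategoryTheory.Limits AlgebraicGeometry TopologicalSpace Opposite DirectSum
open HomogeneousLocalization

namespace Groth.Agent.GrTw

/-- A module with a generator over an open `W` is trivial on `W`. -/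
theorem iso_of_isGen_open {X : Scheme.{u}} (L : X.Modules) (W : X.Opens) (e : Γ(L, W))
    (he : GenLocH8.IsGen L W e) :
    Nonempty (L.restrict W.ι ≅ Coh.structureModule (W : Scheme.{u})) := by
  have hle : W.ι ''ᵁ (⊤ : (W : Scheme.{u}).Opens) ≤ W := by
    rw [Scheme.Opens.ι_image_top]
  have hσ := WDivShH8.isGen_restrict L W he ⊤ hle
  let φ : Coh.structureModule (W : Scheme.{u}) ⟶ L.restrict W.ι :=
    TensH8.homOfSec (L.restrict W.ι) (show Γ(L.restrict W.ι, ⊤) from QcqsLoc.rF L hle e)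
  haveI : IsIso φ := by
    apply TensH8.isIso_of_isGen_cover
    intro x
    refine ⟨⊤, trivial, FLFH8.toM (1 : Γ((W : Scheme.{u}), ⊤)), TensH8.isGen_one ⊤, ?_⟩
    have h1 : QCohExtn.ap φ ⊤ (FLFH8.toM (1 : Γ((W : Scheme.{u}), ⊤))) =
        (show Γ(L.restrict W.ι, ⊤) from QcqsLoc.rF L hle e) := by
      rw [← TensH8.val_eq_ap, TensH8.val_homOfSec]
      exact SubExt.rF_self _ _ _
    rw [h1]
    exact hσ
  exact ⟨(asIso φ).symm⟩

section Rel
variable {Y P : Scheme.{u}} (𝒮 : RelProj.QCGrAlg Y) (p : P ⟶ Y)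
  (chart : ∀ (U : Y.Opens) (hU : IsAffineOpen U),
    (((p ⁻¹ᵁ U : P.Opens) : Scheme.{u}) ≅ Proj (𝒮.deg U hU)))

theorem res_res_top {U V : Y.Opens} (hU : IsAffineOpen U) (hV : IsAffineOpen V) (i : V ≤ U)
    (f : 𝒮.presheaf.obj (op ⊤)) :
    𝒮.res hU hV i ((𝒮.presheaf.map (homOfLE (le_top : U ≤ ⊤)).op).hom f) =
      (𝒮.presheaf.map (homOfLE (le_top : V ≤ ⊤)).op).hom f := by
  rw [RelProj.QCGrAlg.res_apply, ← CommRingCat.comp_apply, ← Functor.map_comp]
  rfl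

variable {𝒮 p chart}

theorem emb_preimage_le_of_hXf (f : 𝒮.presheaf.obj (op ⊤)) (Xf : P.Opens)
    (hXf : ∀ (U : Y.Opens) (hU : IsAffineOpen U),
      Xf ⊓ p ⁻¹ᵁ U =
        (p ⁻¹ᵁ U).ι ''ᵁ ((chart U hU).hom ⁻¹ᵁ
          Proj.basicOpen (𝒮.deg U hU) ((𝒮.presheaf.map (homOfLE le_top).op).hom f)))
    (U : Y.Opens) (hU : IsAffineOpen U) :
    (RelProj.emb p chart U hU) ⁻¹ᵁ Xf ≤
      Proj.basicOpen (𝒮.deg U hU) ((𝒮.presheaf.map (homOfLE le_top).op).hom f) := by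
  intro y hy
  have hy1 : (RelProj.emb p chart U hU) y ∈ Xf ⊓ p ⁻¹ᵁ U := ⟨hy, mem_preimage_of_emb U hU y⟩
  rw [hXf U hU] at hy1
  obtain ⟨w, hw, hwy⟩ := hy1
  have hw' : w = (chart U hU).inv y := Subtype.ext hwy
  subst hw'
  have h2 := congrArg (fun φ : Proj (𝒮.deg U hU) ⟶ Proj (𝒮.deg U hU) => φ y)
    (chart U hU).inv_hom_id
  have h3 : (chart U hU).hom ((chart U hU).inv y) = y := h2
  have h4 : (chart U hU).hom ((chart U hU).inv y) ∈
      Proj.basicOpen (𝒮.deg U hU) ((𝒮.presheaf.map (homOfLE le_top).op).hom f) := hw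
  rw [h3] at h4
  exact h4

/-- **`O_P(kd)` is trivial on `X_f`, `f` a global section of degree `d`.** -/
theorem relTwist_restrict_Xf (hP : RelProj.IsRelProj 𝒮 p chart) {d : ℕ}
    (f : 𝒮.presheaf.obj (op ⊤))
    (hf : ∀ (U : Y.Opens) (hU : IsAffineOpen U),
      (𝒮.presheaf.map (homOfLE le_top).op).hom f ∈ 𝒮.deg U hU d)
    (Xf : P.Opens)
    (hXf : ∀ (U : Y.Opens) (hU : IsAffineOpen U),
      Xf ⊓ p ⁻¹ᵁ U =
        (p ⁻¹ᵁ U).ι ''ᵁ ((chart U hU).hom ⁻¹ᵁ
          Proj.basicOpen (𝒮.deg U hU) ((𝒮.presheaf.map (homOfLE le_top).op).hom f)))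
    (k : ℤ) (L : P.Modules)
    (lam : ∀ (U : Y.Opens) (hU : IsAffineOpen U),
      L ⟶ (Scheme.Modules.pushforward (RelProj.emb p chart U hU)).obj
        (GrTwist.twist (𝒮.deg U hU) (k * (d : ℤ))))
    (hL : RelProj.IsRelTwist 𝒮 p chart (k * (d : ℤ)) L lam) :
    Nonempty (L.restrict Xf.ι ≅ Coh.structureModule (Xf : Scheme.{u})) := by
  have hle := emb_preimage_le_of_hXf f Xf hXf
  obtain ⟨e, he⟩ := exists_glue hL hP Xf
    (fun V hV => QcqsLoc.rF (GrTwist.twist (𝒮.deg V hV) (k * (d : ℤ))) (hle V hV)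
      (genSec (𝒮.deg V hV) (hf V hV) k)) (by
      intro V hV r y hy hy'
      have e1 : GrTwist.val (QcqsLoc.rF (GrTwist.twist (𝒮.deg V hV) (k * (d : ℤ))) (hle V hV)
          (genSec (𝒮.deg V hV) (hf V hV) k)) ⟨_, hy'⟩ =
          Localization.mk (((𝒮.presheaf.map (homOfLE le_top).op).hom f) ^ k.toNat)
            ⟨((𝒮.presheaf.map (homOfLE le_top).op).hom f) ^ (-k).toNat,
              show _ ∈ (ProjectiveSpectrum.comap
                (𝒮.res hV (hV.basicOpen r) (Y.basicOpen_le r))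
                (𝒮.irrelevant_le_map V hV r) y).asHomogeneousIdeal.toIdeal.primeCompl from fun h =>
              hle V hV hy' ((ProjectiveSpectrum.comap
                (𝒮.res hV (hV.basicOpen r) (Y.basicOpen_le r))
                (𝒮.irrelevant_le_map V hV r) y).isPrime.mem_of_pow_mem _ h)⟩ := rfl
      rw [e1, GrTwist.locMap_mk]
      show Localization.mk _ _ = _
      apply Localization.mk_eq_mk_iff.mpr
      apply Localization.r_iff_exists.mpr
      refine ⟨1, ?_⟩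
      simp only [OneMemClass.coe_one, one_mul, map_pow]
      rw [res_res_top 𝒮 hV (hV.basicOpen r) (Y.basicOpen_le r) f]
      try exact mul_comm _ _)
  have hgen : GenLocH8.IsGen L Xf e := by
    apply TensH8.isGen_of_cover
    intro x hx
    obtain ⟨_, ⟨V, hV : IsAffineOpen V, rfl⟩, hxV, -⟩ :=
      (Y.isBasis_affineOpens).exists_subset_of_mem_open (Set.mem_univ (p x)) isOpen_univ
    refine ⟨Xf ⊓ p ⁻¹ᵁ V, inf_le_left, ⟨hx, hxV⟩, ?_⟩
    have hWr : Xf ⊓ p ⁻¹ᵁ V ≤ (RelProj.emb p chart V hV).opensRange := by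
      rw [opensRange_emb]
      exact inf_le_right
    have hbij : ∀ O : P.Opens, O ≤ Xf ⊓ p ⁻¹ᵁ V →
        Function.Bijective (QCohExtn.ap (lam V hV) O) :=
      fun O hO => hL.bijective V hV O (hO.trans inf_le_right)
    refine isGen_of_pushforward_bij (RelProj.emb p chart V hV) _ L (lam V hV) _ hWr hbij _ ?_
    have h1 := chartSec_rF 𝒮 p chart (k * (d : ℤ)) L lam V hV
      (inf_le_left : Xf ⊓ p ⁻¹ᵁ V ≤ Xf) e
    have h2 : QCohExtn.ap (lam V hV) (Xf ⊓ p ⁻¹ᵁ V) (QcqsLoc.rF L inf_le_left e) =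
        QcqsLoc.rF (GrTwist.twist (𝒮.deg V hV) (k * (d : ℤ)))
          (((RelProj.emb p chart V hV).preimage_mono
            (inf_le_left : Xf ⊓ p ⁻¹ᵁ V ≤ Xf)).trans (hle V hV))
          (genSec (𝒮.deg V hV) (hf V hV) k) := by
      refine h1.trans ?_
      rw [he V hV, QcqsLoc.rF_rF]
    rw [h2]
    exact (isGen_genSec (𝒮.deg V hV) (hf V hV) k).res _
  exact iso_of_isGen_open L Xf e hgen

end Rel

end Groth.Agent.GrTw
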