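import Mathlib
import Groth.Prelude
import Groth.Agent.Lib.GrTwXf_helper5

/-!
# Multiplication of relative twisting sheaves (helper5)
-/

set_option autoImplicit false
universe u
open CategoryTheory CategoryTheory.Limits AlgebraicGeometry TopologicalSpace Opposite DirectSum
open HomogeneousLocalization

namespace Groth.Agent.GrTw

section Abs
variable {A σ : Type u} [CommRing A] [SetLike σ A] [AddSubgroupClass σ A] (𝒜 : ℕ → σ)
  [GradedRing 𝒜]

/-- **A section of `O(k)` with an inverse in `O(k')`, `k + k' = 0`, is a generator.** -/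
theorem isGen_of_inverse' (k k' : ℤ) (hkk : k + k' = 0) (W : (Proj 𝒜).Opens)
    (e : GrTwist.sectN (𝒜 := 𝒜) k (op W)) (e' : GrTwist.sectN (𝒜 := 𝒜) k' (op W))
    (hee' : ∀ x : W, (((e'.1 x : GrTwist.twistAt 𝒜 k' x.1) : GrTwist.Loc 𝒜 x.1)) *
      ((e.1 x : GrTwist.twistAt 𝒜 k x.1) : GrTwist.Loc 𝒜 x.1) = 1) :
    GenLocH8.IsGen (GrTwist.twist 𝒜 k) W e := by
  obtain rfl : k' = -k := by omega
  exact isGen_of_inverse 𝒜 k W e e' hee'

/-- The section `f^n` of `O(k)`, `k = nd`, over `D_+(f)`. -/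
def genSecK {d : ℕ} {f : A} (hf : f ∈ 𝒜 d) (n k : ℤ) (hk : k = n * d) :
    GrTwist.sectN (𝒜 := 𝒜) k (op (ProjectiveSpectrum.basicOpen 𝒜 f)) :=
  fracSecN 𝒜 k (f ^ n.toNat) (SetLike.pow_mem_graded n.toNat hf)
    (f ^ (-n).toNat) (SetLike.pow_mem_graded (-n).toNat hf)
    (by rw [hk]; exact toNat_mul_eq n d) _
    (fun x h => x.2 (x.1.isPrime.mem_of_pow_mem _ h))

/-- The section `f^{-n}` of `O(k')`, `k' = -nd`, over `D_+(f)`. -/
def genSecKInv {d : ℕ} {f : A} (hf : f ∈ 𝒜 d) (n k' : ℤ) (hk : k' = -(n * d)) :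
    GrTwist.sectN (𝒜 := 𝒜) k' (op (ProjectiveSpectrum.basicOpen 𝒜 f)) :=
  fracSecN 𝒜 k' (f ^ (-n).toNat) (SetLike.pow_mem_graded (-n).toNat hf)
    (f ^ n.toNat) (SetLike.pow_mem_graded n.toNat hf)
    (by have := toNat_mul_eq n d; omega) _
    (fun x h => x.2 (x.1.isPrime.mem_of_pow_mem _ h))

theorem isGen_genSecK {d : ℕ} {f : A} (hf : f ∈ 𝒜 d) (n k : ℤ) (hk : k = n * d) :
    GenLocH8.IsGen (GrTwist.twist 𝒜 k) (Proj.basicOpen 𝒜 f) (genSecK 𝒜 hf n k hk) := by
  refine isGen_of_inverse' 𝒜 k (-(n * d)) (by omega) (Proj.basicOpen 𝒜 f) (genSecK 𝒜 hf n k hk)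
    (genSecKInv 𝒜 hf n _ rfl) (fun x => ?_)
  show Localization.mk _ _ * Localization.mk _ _ = 1
  rw [Localization.mk_mul]
  exact (Localization.mk_eq_mk_iff.mpr (Localization.r_iff_exists.mpr
    ⟨1, by simp only [OneMemClass.coe_one, one_mul, mul_one, Submonoid.coe_mul]; ring⟩)).trans
    Localization.mk_one

theorem val_mulSec (m n : ℤ) (V : (Proj 𝒜).Opens) (s : Γ(GrTwist.twist 𝒜 m, V))
    (t : Γ(GrTwist.twist 𝒜 n, V)) (y : V) :
    GrTwist.val (show Γ(GrTwist.twist 𝒜 (m + n), V) from mulSec 𝒜 m n (op V) s t) y =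
      GrTwist.val s y * GrTwist.val t y := rfl

theorem val_add {n : ℤ} {V : (Proj 𝒜).Opens} (s t : Γ(GrTwist.twist 𝒜 n, V)) (y : V) :
    GrTwist.val (s + t) y = GrTwist.val s y + GrTwist.val t y := rfl

end Abs

section Rel
variable {Y P : Scheme.{u}} {𝒮 : RelProj.QCGrAlg Y} {p : P ⟶ Y}
  {chart : ∀ (U : Y.Opens) (hU : IsAffineOpen U),
    (((p ⁻¹ᵁ U : P.Opens) : Scheme.{u}) ≅ Proj (𝒮.deg U hU))}
  {m n : ℤ} {L L' L'' : P.Modules}
  {lam : ∀ (U : Y.Opens) (hU : IsAffineOpen U),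
    L ⟶ (Scheme.Modules.pushforward (RelProj.emb p chart U hU)).obj
      (GrTwist.twist (𝒮.deg U hU) m)}
  {lam' : ∀ (U : Y.Opens) (hU : IsAffineOpen U),
    L' ⟶ (Scheme.Modules.pushforward (RelProj.emb p chart U hU)).obj
      (GrTwist.twist (𝒮.deg U hU) n)}
  {lam'' : ∀ (U : Y.Opens) (hU : IsAffineOpen U),
    L'' ⟶ (Scheme.Modules.pushforward (RelProj.emb p chart U hU)).obj
      (GrTwist.twist (𝒮.deg U hU) (m + n))}

/-- The product of a section of `O_P(m)` and a section of `O_P(n)`, chartwise. -/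
theorem exists_mul (hL : RelProj.IsRelTwist 𝒮 p chart m L lam)
    (hL' : RelProj.IsRelTwist 𝒮 p chart n L' lam')
    (hL'' : RelProj.IsRelTwist 𝒮 p chart (m + n) L'' lam'')
    (hP : RelProj.IsRelProj 𝒮 p chart) (W : P.Opens) (s : Γ(L, W)) (t : Γ(L', W)) :
    ∃ v : Γ(L'', W), ∀ (V : Y.Opens) (hV : IsAffineOpen V),
      chartSec 𝒮 p chart (m + n) L'' lam'' V hV W v =
        mulSec (𝒮.deg V hV) m n (op ((RelProj.emb p chart V hV) ⁻¹ᵁ W))
          (chartSec 𝒮 p chart m L lam V hV W s) (chartSec 𝒮 p chart n L' lam' V hV W t) := by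
  apply exists_glue hL'' hP W
  intro V hV r y hy hy'
  have h1 := hL.compat V hV r W s y hy hy'
  have h2 := hL'.compat V hV r W t y hy hy'
  rw [val_mulSec, val_mulSec, map_mul]
  exact congrArg₂ (· * ·) h1 h2

theorem chartSec_smul {k : ℤ} {M : P.Modules}
    (μ : ∀ (U : Y.Opens) (hU : IsAffineOpen U),
      M ⟶ (Scheme.Modules.pushforward (RelProj.emb p chart U hU)).obj
        (GrTwist.twist (𝒮.deg U hU) k))
    (V : Y.Opens) (hV : IsAffineOpen V) (W : P.Opens) (r : Γ(P, W)) (s : Γ(M, W)) :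
    chartSec 𝒮 p chart k M μ V hV W (r • s) =
      (((RelProj.emb p chart V hV).app W).hom r) • chartSec 𝒮 p chart k M μ V hV W s := by
  refine (QCohExtn.ap_smul (μ V hV) r s).trans ?_
  rfl

/-- The multiplication pairing `O_P(m) × O_P(n) → O_P(m+n)`. -/
noncomputable def mulBilinRel (hL : RelProj.IsRelTwist 𝒮 p chart m L lam)
    (hL' : RelProj.IsRelTwist 𝒮 p chart n L' lam')
    (hL'' : RelProj.IsRelTwist 𝒮 p chart (m + n) L'' lam'')
    (hP : RelProj.IsRelProj 𝒮 p chart) : FLFH8.BilinData L L' L'' where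
  β W s t := Classical.choose (exists_mul hL hL' hL'' hP W s t)
  add_left W s s' t := by
    apply ext_chartSec hL''
    intro V hV
    have h1 := Classical.choose_spec (exists_mul hL hL' hL'' hP W (s + s') t) V hV
    have h2 := Classical.choose_spec (exists_mul hL hL' hL'' hP W s t) V hV
    have h3 := Classical.choose_spec (exists_mul hL hL' hL'' hP W s' t) V hV
    rw [h1]
    have h4 : chartSec 𝒮 p chart (m + n) L'' lam'' V hV W
        (Classical.choose (exists_mul hL hL' hL'' hP W s t) +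
          Classical.choose (exists_mul hL hL' hL'' hP W s' t)) =
        chartSec 𝒮 p chart (m + n) L'' lam'' V hV W
          (Classical.choose (exists_mul hL hL' hL'' hP W s t)) +
        chartSec 𝒮 p chart (m + n) L'' lam'' V hV W
          (Classical.choose (exists_mul hL hL' hL'' hP W s' t)) := map_add _ _ _
    rw [h4, h2, h3]
    have h5 : chartSec 𝒮 p chart m L lam V hV W (s + s') =
        chartSec 𝒮 p chart m L lam V hV W s + chartSec 𝒮 p chart m L lam V hV W s' :=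
      map_add _ _ _
    rw [h5]
    apply ext_val
    intro y
    exact add_mul _ _ _
  smul_left W r s t := by
    apply ext_chartSec hL''
    intro V hV
    have h1 := Classical.choose_spec (exists_mul hL hL' hL'' hP W (r • s) t) V hV
    have h2 := Classical.choose_spec (exists_mul hL hL' hL'' hP W s t) V hV
    rw [h1, chartSec_smul, chartSec_smul, h2]
    apply ext_val
    intro y
    rw [val_smul]
    refine Eq.trans ?_ (mul_assoc _ _ _)
    refine congrArg (· * _) ?_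
    exact val_smul _ _ _ y
  add_right W s t t' := by
    apply ext_chartSec hL''
    intro V hV
    have h1 := Classical.choose_spec (exists_mul hL hL' hL'' hP W s (t + t')) V hV
    have h2 := Classical.choose_spec (exists_mul hL hL' hL'' hP W s t) V hV
    have h3 := Classical.choose_spec (exists_mul hL hL' hL'' hP W s t') V hV
    rw [h1]
    have h4 : chartSec 𝒮 p chart (m + n) L'' lam'' V hV W
        (Classical.choose (exists_mul hL hL' hL'' hP W s t) +
          Classical.choose (exists_mul hL hL' hL'' hP W s t')) =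
        chartSec 𝒮 p chart (m + n) L'' lam'' V hV W
          (Classical.choose (exists_mul hL hL' hL'' hP W s t)) +
        chartSec 𝒮 p chart (m + n) L'' lam'' V hV W
          (Classical.choose (exists_mul hL hL' hL'' hP W s t')) := map_add _ _ _
    rw [h4, h2, h3]
    have h5 : chartSec 𝒮 p chart n L' lam' V hV W (t + t') =
        chartSec 𝒮 p chart n L' lam' V hV W t + chartSec 𝒮 p chart n L' lam' V hV W t' :=
      map_add _ _ _
    rw [h5]
    apply ext_val
    intro y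
    exact mul_add _ _ _
  smul_right W r s t := by
    apply ext_chartSec hL''
    intro V hV
    have h1 := Classical.choose_spec (exists_mul hL hL' hL'' hP W s (r • t)) V hV
    have h2 := Classical.choose_spec (exists_mul hL hL' hL'' hP W s t) V hV
    rw [h1, chartSec_smul, chartSec_smul, h2]
    apply ext_val
    intro y
    rw [val_smul]
    refine Eq.trans ?_ (mul_left_comm _ _ _)
    refine congrArg (_ * ·) ?_
    exact val_smul _ _ _ y
  natural {W W'} h s t := by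
    apply ext_chartSec hL''
    intro V hV
    have h1 := Classical.choose_spec (exists_mul hL hL' hL'' hP W s t) V hV
    have h2 := Classical.choose_spec (exists_mul hL hL' hL'' hP W'
      (QcqsLoc.rF L h s) (QcqsLoc.rF L' h t)) V hV
    rw [chartSec_rF, h1, h2, chartSec_rF, chartSec_rF]
    rfl

theorem mulBilinRel_spec (hL : RelProj.IsRelTwist 𝒮 p chart m L lam)
    (hL' : RelProj.IsRelTwist 𝒮 p chart n L' lam')
    (hL'' : RelProj.IsRelTwist 𝒮 p chart (m + n) L'' lam'')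
    (hP : RelProj.IsRelProj 𝒮 p chart) (W : P.Opens) (s : Γ(L, W)) (t : Γ(L', W))
    (V : Y.Opens) (hV : IsAffineOpen V) :
    chartSec 𝒮 p chart (m + n) L'' lam'' V hV W ((mulBilinRel hL hL' hL'' hP).β W s t) =
      mulSec (𝒮.deg V hV) m n (op ((RelProj.emb p chart V hV) ⁻¹ᵁ W))
        (chartSec 𝒮 p chart m L lam V hV W s) (chartSec 𝒮 p chart n L' lam' V hV W t) :=
  Classical.choose_spec (exists_mul hL hL' hL'' hP W s t) V hV

/-- Chart generators `f^c` of `O_P(k)`, `k = c d`. -/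
theorem exists_isGen_of_chartK {k : ℤ} {M : P.Modules}
    {μ : ∀ (U : Y.Opens) (hU : IsAffineOpen U),
      M ⟶ (Scheme.Modules.pushforward (RelProj.emb p chart U hU)).obj
        (GrTwist.twist (𝒮.deg U hU) k)}
    (hM : RelProj.IsRelTwist 𝒮 p chart k M μ) (U : Y.Opens) (hU : IsAffineOpen U) {d : ℕ}
    {f : 𝒮.presheaf.obj (op U)} (hf : f ∈ 𝒮.deg U hU d) (c : ℤ) (hk : k = c * d) (W : P.Opens)
    (hWr : W ≤ (RelProj.emb p chart U hU).opensRange)
    (hWf : (RelProj.emb p chart U hU) ⁻¹ᵁ W ≤ Proj.basicOpen (𝒮.deg U hU) f) :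
    ∃ e : Γ(M, W), chartSec 𝒮 p chart k M μ U hU W e =
        QcqsLoc.rF (GrTwist.twist (𝒮.deg U hU) k) hWf (genSecK (𝒮.deg U hU) hf c k hk) ∧
      GenLocH8.IsGen M W e := by
  have hWU : W ≤ p ⁻¹ᵁ U := hWr.trans (opensRange_emb 𝒮 p chart U hU).le
  have hbij : ∀ O : P.Opens, O ≤ W → Function.Bijective (QCohExtn.ap (μ U hU) O) :=
    fun O hO => hM.bijective U hU O (hO.trans hWU)
  have he' := (isGen_genSecK (𝒮.deg U hU) hf c k hk).res hWf
  obtain ⟨e, hee⟩ := (hbij W le_rfl).2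
    (QcqsLoc.rF (GrTwist.twist (𝒮.deg U hU) k) hWf (genSecK (𝒮.deg U hU) hf c k hk))
  refine ⟨e, hee,
    isGen_of_pushforward_bij (RelProj.emb p chart U hU) _ M (μ U hU) W hWr hbij e ?_⟩
  rw [hee]
  exact he'

theorem mk_mul_mk_swap {R : Type*} [CommRing R] {S : Submonoid R} (a b : R) (ha : a ∈ S)
    (hb : b ∈ S) : (Localization.mk a ⟨b, hb⟩ : Localization S) * Localization.mk b ⟨a, ha⟩ = 1 := by
  rw [Localization.mk_mul]
  exact (Localization.mk_eq_mk_iff.mpr (Localization.r_iff_exists.mpr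
    ⟨1, by simp only [OneMemClass.coe_one, one_mul, mul_one, Submonoid.coe_mul]; ring⟩)).trans
    Localization.mk_one

/-- **The multiplication `O_P(m) ⊗ O_P(n) → O_P(m+n)` is an isomorphism** when `P` is covered by
chart opens `D_+(f)` with `deg f` dividing `m` and `n`. -/
theorem isIso_mulHomRel_of_cover (hL : RelProj.IsRelTwist 𝒮 p chart m L lam)
    (hL' : RelProj.IsRelTwist 𝒮 p chart n L' lam')
    (hL'' : RelProj.IsRelTwist 𝒮 p chart (m + n) L'' lam'')
    (hP : RelProj.IsRelProj 𝒮 p chart)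
    (hcov : ∀ x : P, ∃ (V : Y.Opens) (hV : IsAffineOpen V) (d : ℕ) (f : 𝒮.presheaf.obj (op V))
      (_ : f ∈ 𝒮.deg V hV d) (c c' : ℤ), m = c * d ∧ n = c' * d ∧
        x ∈ (RelProj.emb p chart V hV) ''ᵁ (Proj.basicOpen (𝒮.deg V hV) f)) :
    IsIso (mulBilinRel hL hL' hL'' hP).toHom := by
  apply TensH8.isIso_of_isGen_cover
  intro x
  obtain ⟨V, hV, d, f, hf, c, c', hm, hn, hx⟩ := hcov x
  have hWr : (RelProj.emb p chart V hV) ''ᵁ (Proj.basicOpen (𝒮.deg V hV) f) ≤
      (RelProj.emb p chart V hV).opensRange := Scheme.Hom.image_le_opensRange _ _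
  have hWf : (RelProj.emb p chart V hV) ⁻¹ᵁ ((RelProj.emb p chart V hV) ''ᵁ
      (Proj.basicOpen (𝒮.deg V hV) f)) ≤ Proj.basicOpen (𝒮.deg V hV) f :=
    (Scheme.Hom.preimage_image_eq _ _).le
  obtain ⟨W, hW⟩ : ∃ W : P.Opens, W = (RelProj.emb p chart V hV) ''ᵁ
      (Proj.basicOpen (𝒮.deg V hV) f) := ⟨_, rfl⟩
  rw [← hW] at hWr hWf hx
  have hWU : W ≤ p ⁻¹ᵁ V := hWr.trans (opensRange_emb 𝒮 p chart V hV).le
  obtain ⟨e, hee, he⟩ := exists_isGen_of_chartK hL V hV hf c hm W hWr hWf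
  obtain ⟨e', hee', he'⟩ := exists_isGen_of_chartK hL' V hV hf c' hn W hWr hWf
  refine ⟨W, hx, SecTwist.tmul L L' W e e', TensH8.isGen_tmul he he', ?_⟩
  have h1 : QCohExtn.ap (mulBilinRel hL hL' hL'' hP).toHom W (SecTwist.tmul L L' W e e') =
      (mulBilinRel hL hL' hL'' hP).β W e e' :=
    (mulBilinRel hL hL' hL'' hP).toHom_tmul W e e'
  rw [h1]
  have hbij : ∀ O : P.Opens, O ≤ W → Function.Bijective (QCohExtn.ap (lam'' V hV) O) :=
    fun O hO => hL''.bijective V hV O (hO.trans hWU)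
  refine isGen_of_pushforward_bij (RelProj.emb p chart V hV) _ L'' (lam'' V hV) W hWr hbij _ ?_
  have h2 := mulBilinRel_spec hL hL' hL'' hP W e e' V hV
  have h3 : QCohExtn.ap (lam'' V hV) W ((mulBilinRel hL hL' hL'' hP).β W e e') =
      mulSec (𝒮.deg V hV) m n (op ((RelProj.emb p chart V hV) ⁻¹ᵁ W))
        (QcqsLoc.rF (GrTwist.twist (𝒮.deg V hV) m) hWf (genSecK (𝒮.deg V hV) hf c m hm))
        (QcqsLoc.rF (GrTwist.twist (𝒮.deg V hV) n) hWf (genSecK (𝒮.deg V hV) hf c' n hn)) := by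
    refine h2.trans ?_
    rw [hee, hee']
  rw [h3]
  refine isGen_of_inverse' (𝒮.deg V hV) (m + n) (-(c * d) + -(c' * d)) (by omega) _ _
    (mulSec (𝒮.deg V hV) _ _ (op ((RelProj.emb p chart V hV) ⁻¹ᵁ W))
      (QcqsLoc.rF (GrTwist.twist (𝒮.deg V hV) (-(c * d))) hWf
        (genSecKInv (𝒮.deg V hV) hf c _ rfl))
      (QcqsLoc.rF (GrTwist.twist (𝒮.deg V hV) (-(c' * d))) hWf
        (genSecKInv (𝒮.deg V hV) hf c' _ rfl))) (fun y => ?_)
  have hyf : f ∉ (y.1 : ProjectiveSpectrum (𝒮.deg V hV)).asHomogeneousIdeal := hWf y.2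
  have hp : ∀ k : ℕ, f ^ k ∈
      (y.1 : ProjectiveSpectrum (𝒮.deg V hV)).asHomogeneousIdeal.toIdeal.primeCompl :=
    fun k h => hyf ((y.1 : ProjectiveSpectrum (𝒮.deg V hV)).isPrime.mem_of_pow_mem _ h)
  show (Localization.mk (f ^ (-c).toNat) ⟨f ^ c.toNat, hp _⟩ *
      Localization.mk (f ^ (-c').toNat) ⟨f ^ c'.toNat, hp _⟩) *
    (Localization.mk (f ^ c.toNat) ⟨f ^ (-c).toNat, hp _⟩ *
      Localization.mk (f ^ c'.toNat) ⟨f ^ (-c').toNat, hp _⟩) = 1
  rw [mul_mul_mul_comm, mk_mul_mk_swap, mk_mul_mk_swap, one_mul]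

end Rel

end Groth.Agent.GrTw
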