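import Mathlib
import Groth.Prelude
import Groth.Agent.Lib.GrTwMul_helper5
import Groth.Agent.Lib.TwistEpi_helper5

/-!
# The structure sheaf of a relative `Proj` as the relative twisting sheaf `O_P(0)` (helper5)
-/

set_option autoImplicit false
universe u
open CategoryTheory CategoryTheory.Limits AlgebraicGeometry TopologicalSpace Opposite DirectSum
open HomogeneousLocalization

namespace Groth.Agent.GrTw

section Abs
variable {A σ : Type u} [CommRing A] [SetLike σ A] [AddSubgroupClass σ A] (𝒜 : ℕ → σ)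
  [GradedRing 𝒜]

theorem val_mem_twistAt_zero (x : ProjectiveSpectrum 𝒜) (c : GrTwist.A0 𝒜 x) :
    c.val ∈ GrTwist.twistAt 𝒜 0 x := by
  obtain ⟨⟨i, a, s, hs⟩, rfl⟩ := HomogeneousLocalization.mk_surjective c
  rw [HomogeneousLocalization.val_mk]
  exact Submodule.subset_span ⟨i, i, a, s, hs, by simp, rfl⟩

/-- A section of the structure sheaf as a section of `O(0)`. -/
noncomputable def oToSec0 (U : (Opens (ProjectiveSpectrum.top 𝒜))ᵒᵖ) (c : GrTwist.O (𝒜 := 𝒜) U) :
    GrTwist.sectN (𝒜 := 𝒜) 0 U :=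
  ⟨fun x => ⟨(c.1 x).val, val_mem_twistAt_zero 𝒜 x.1 (c.1 x)⟩, fun x => by
    obtain ⟨V, hxV, iV, i, a, b, nin, w⟩ := c.2 x
    refine ⟨V, hxV, iV, i, i, a, b, nin, Or.inl (by simp), fun y => ?_⟩
    have := congrArg HomogeneousLocalization.val (w y)
    rw [HomogeneousLocalization.val_mk] at this
    exact this⟩

/-- A section of the structure sheaf as a section of `O(k)`, `k = 0`. -/
noncomputable def oToSec (k : ℤ) (hk : k = 0) (U : (Opens (ProjectiveSpectrum.top 𝒜))ᵒᵖ)
    (c : GrTwist.O (𝒜 := 𝒜) U) : GrTwist.sectN (𝒜 := 𝒜) k U := by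
  subst hk
  exact oToSec0 𝒜 U c

theorem oToSec_val (k : ℤ) (hk : k = 0) (U : (Opens (ProjectiveSpectrum.top 𝒜))ᵒᵖ)
    (c : GrTwist.O (𝒜 := 𝒜) U) (x : U.unop) :
    (((oToSec 𝒜 k hk U c).1 x : GrTwist.twistAt 𝒜 k x.1) : GrTwist.Loc 𝒜 x.1) = (c.1 x).val := by
  subst hk
  rfl

theorem oToSec_secToO (k : ℤ) (hk : k = 0) (U : (Opens (ProjectiveSpectrum.top 𝒜))ᵒᵖ)
    (t : GrTwist.sectN (𝒜 := 𝒜) k U) : oToSec 𝒜 k hk U (secToO 𝒜 k hk U t) = t := by
  apply Subtype.ext
  funext x
  apply Subtype.ext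
  rw [oToSec_val, secToO_val]

theorem secToO_oToSec (k : ℤ) (hk : k = 0) (U : (Opens (ProjectiveSpectrum.top 𝒜))ᵒᵖ)
    (c : GrTwist.O (𝒜 := 𝒜) U) : secToO 𝒜 k hk U (oToSec 𝒜 k hk U c) = c := by
  apply Subtype.ext
  funext x
  apply HomogeneousLocalization.val_injective
  rw [secToO_val, oToSec_val]

end Abs

section Map
variable {A σ B τ : Type u} [CommRing A] [SetLike σ A] [AddSubgroupClass σ A]
  [CommRing B] [SetLike τ B] [AddSubgroupClass τ B]
  {𝒜 : ℕ → σ} {ℬ : ℕ → τ} [GradedRing 𝒜] [GradedRing ℬ]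
  (ψ : 𝒜 →+*ᵍ ℬ) (hψ : HomogeneousIdeal.irrelevant ℬ ≤ (HomogeneousIdeal.irrelevant 𝒜).map ψ)

/-- Values of the pullback of a function along `Proj.map`. -/
theorem valO_map_app (O' : (Proj 𝒜).Opens) (c' : Γ(Proj 𝒜, O'))
    (y : ((Proj.map ψ hψ) ⁻¹ᵁ O' : (Proj ℬ).Opens)) :
    valO ℬ (((Proj.map ψ hψ).app O').hom c') y =
      GrTwist.locMap ψ hψ y.1 (valO 𝒜 c' ⟨ProjectiveSpectrum.comap ψ hψ y.1, y.2⟩) := by
  show (HomogeneousLocalization.localRingHom ψ _ _ rfl
    ((show GrTwist.O (𝒜 := 𝒜) (op O') from c').1 ⟨ProjectiveSpectrum.comap ψ hψ y.1, y.2⟩)).val = _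
  rw [HomogeneousLocalization.val_localRingHom]
  rfl

end Map

section Rel
variable {Y P : Scheme.{u}} (𝒮 : RelProj.QCGrAlg Y) (p : P ⟶ Y)
  (chart : ∀ (U : Y.Opens) (hU : IsAffineOpen U),
    (((p ⁻¹ᵁ U : P.Opens) : Scheme.{u}) ≅ Proj (𝒮.deg U hU)))

/-- Sectionwise: a function on `W ⊆ P` as a section of `O(k)`, `k = 0`, on the chart over `V`. -/
noncomputable def lamOFun (k : ℤ) (hk : k = 0) (V : Y.Opens) (hV : IsAffineOpen V) (W : P.Opens)
    (c : Γ(P, W)) : Γ(GrTwist.twist (𝒮.deg V hV) k, (RelProj.emb p chart V hV) ⁻¹ᵁ W) :=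
  oToSec (𝒮.deg V hV) k hk (op ((RelProj.emb p chart V hV) ⁻¹ᵁ W))
    (((RelProj.emb p chart V hV).app W).hom c)

theorem val_lamOFun (k : ℤ) (hk : k = 0) (V : Y.Opens) (hV : IsAffineOpen V) (W : P.Opens)
    (c : Γ(P, W)) (y : (RelProj.emb p chart V hV) ⁻¹ᵁ W) :
    GrTwist.val (lamOFun 𝒮 p chart k hk V hV W c) y =
      valO (𝒮.deg V hV) (((RelProj.emb p chart V hV).app W).hom c) y :=
  oToSec_val (𝒮.deg V hV) k hk _ _ y

/-- The chart identifications of the structure sheaf with `O(k)`, `k = 0`. -/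
noncomputable def lamO (k : ℤ) (hk : k = 0) (V : Y.Opens) (hV : IsAffineOpen V) :
    Coh.structureModule P ⟶ (Scheme.Modules.pushforward (RelProj.emb p chart V hV)).obj
      (GrTwist.twist (𝒮.deg V hV) k) :=
  Groth.Agent.FinGG.homOfSections
    (M := Coh.structureModule P)
    (P := (Scheme.Modules.pushforward (RelProj.emb p chart V hV)).obj
      (GrTwist.twist (𝒮.deg V hV) k))
    (fun W => AddMonoidHom.mk' (fun c => lamOFun 𝒮 p chart k hk V hV W c) (fun a b => by
      apply ext_val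
      intro y
      refine Eq.trans ?_ (val_add (𝒮.deg V hV) _ _ y).symm
      rw [val_lamOFun, val_lamOFun, val_lamOFun]
      have h1 : ((RelProj.emb p chart V hV).app W).hom (a + b) =
          ((RelProj.emb p chart V hV).app W).hom a + ((RelProj.emb p chart V hV).app W).hom b :=
        map_add _ _ _
      rw [h1]
      exact HomogeneousLocalization.val_add _ _))
    (fun W r c => by
      apply ext_val
      intro y
      have h0 : (r • c : Γ(Coh.structureModule P, W)) =
          (show Γ(Coh.structureModule P, W) from (r * (show Γ(P, W) from c))) := rfl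
      show GrTwist.val (lamOFun 𝒮 p chart k hk V hV W (r • c)) y =
        GrTwist.val ((((RelProj.emb p chart V hV).app W).hom r) •
          lamOFun 𝒮 p chart k hk V hV W c) y
      rw [val_smul, val_lamOFun, val_lamOFun, h0]
      have h1 : ((RelProj.emb p chart V hV).app W).hom (r * (show Γ(P, W) from c)) =
          ((RelProj.emb p chart V hV).app W).hom r *
            ((RelProj.emb p chart V hV).app W).hom (show Γ(P, W) from c) := map_mul _ _ _
      show valO (𝒮.deg V hV) (((RelProj.emb p chart V hV).app W).hom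
        (r * (show Γ(P, W) from c))) y = _
      rw [h1]
      exact HomogeneousLocalization.val_mul _ _)
    (fun {W W'} h c => by
      apply ext_val
      intro y
      show GrTwist.val (lamOFun 𝒮 p chart k hk V hV W c) ⟨y.1, _⟩ =
        GrTwist.val (lamOFun 𝒮 p chart k hk V hV W' (QcqsLoc.rX h c)) y
      rw [val_lamOFun, val_lamOFun]
      have hn := ConcreteCategory.congr_hom
        ((RelProj.emb p chart V hV).naturality (homOfLE h).op) c
      show valO (𝒮.deg V hV) _ ⟨y.1, (RelProj.emb p chart V hV).preimage_mono h y.2⟩ = _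
      rw [← valO_rX (𝒮.deg V hV) ((RelProj.emb p chart V hV).preimage_mono h)]
      exact congrArg (fun τ => valO (𝒮.deg V hV) τ y) hn.symm)

theorem ap_lamO (k : ℤ) (hk : k = 0) (V : Y.Opens) (hV : IsAffineOpen V) (W : P.Opens)
    (c : Γ(Coh.structureModule P, W)) :
    QCohExtn.ap (lamO 𝒮 p chart k hk V hV) W c = lamOFun 𝒮 p chart k hk V hV W c := rfl

variable {𝒮 p chart}

/-- Values of a function read in two compatible charts. -/
theorem valO_emb_compat (hP : RelProj.IsRelProj 𝒮 p chart) (V : Y.Opens) (hV : IsAffineOpen V)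
    (r : Γ(Y, V)) (W : P.Opens) (c : Γ(P, W))
    (y : ProjectiveSpectrum (𝒮.deg (Y.basicOpen r) (hV.basicOpen r)))
    (hy : (RelProj.emb p chart (Y.basicOpen r) (hV.basicOpen r)) y ∈ W)
    (hy' : (RelProj.emb p chart V hV) (ProjectiveSpectrum.comap
      (𝒮.res hV (hV.basicOpen r) (Y.basicOpen_le r)) (𝒮.irrelevant_le_map V hV r) y) ∈ W) :
    valO (𝒮.deg (Y.basicOpen r) (hV.basicOpen r))
        (((RelProj.emb p chart (Y.basicOpen r) (hV.basicOpen r)).app W).hom c) ⟨y, hy⟩ =
      GrTwist.locMap (𝒮.res hV (hV.basicOpen r) (Y.basicOpen_le r)) (𝒮.irrelevant_le_map V hV r) y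
        (valO (𝒮.deg V hV) (((RelProj.emb p chart V hV).app W).hom c) ⟨_, hy'⟩) := by
  have h := RelProj.map_res_emb hP V hV r
  have h1 := Scheme.Hom.congr_app h.symm W
  rw [Scheme.Hom.comp_app] at h1
  have h2 := ConcreteCategory.congr_hom h1 c
  have h3 := valO_map_app (𝒮.res hV (hV.basicOpen r) (Y.basicOpen_le r))
    (𝒮.irrelevant_le_map V hV r) ((RelProj.emb p chart V hV) ⁻¹ᵁ W)
    (((RelProj.emb p chart V hV).app W).hom c) ⟨y, hy'⟩
  refine Eq.trans ?_ h3
  rw [h2]
  rfl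

/-- **The structure sheaf of a relative `Proj`, with the chart identifications `lamO`, is the
relative twisting sheaf `O_P(k)`, `k = 0`.** -/
theorem isRelTwist_lamO (hP : RelProj.IsRelProj 𝒮 p chart) (k : ℤ) (hk : k = 0) :
    RelProj.IsRelTwist 𝒮 p chart k (Coh.structureModule P) (lamO 𝒮 p chart k hk) where
  bijective V hV W hW := by
    have hWr : W ≤ (RelProj.emb p chart V hV).opensRange := by
      rw [opensRange_emb]; exact hW
    have hjW : Function.Bijective ((RelProj.emb p chart V hV).app W).hom := by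
      haveI : IsIso ((RelProj.emb p chart V hV).app W) :=
        Scheme.Hom.isIso_app (RelProj.emb p chart V hV) W hWr
      exact ConcreteCategory.bijective_of_isIso ((RelProj.emb p chart V hV).app W)
    show Function.Bijective (fun c : Γ(P, W) => lamOFun 𝒮 p chart k hk V hV W c)
    constructor
    · intro a b hab
      apply hjW.1
      have hab' : oToSec (𝒮.deg V hV) k hk (op ((RelProj.emb p chart V hV) ⁻¹ᵁ W))
          (((RelProj.emb p chart V hV).app W).hom a) =
          oToSec (𝒮.deg V hV) k hk (op ((RelProj.emb p chart V hV) ⁻¹ᵁ W))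
          (((RelProj.emb p chart V hV).app W).hom b) := hab
      have := congrArg (secToO (𝒮.deg V hV) k hk _) hab'
      exact (secToO_oToSec (𝒮.deg V hV) k hk _ _).symm.trans
        (this.trans (secToO_oToSec (𝒮.deg V hV) k hk _ _))
    · intro t
      obtain ⟨c, hc⟩ := hjW.2 (secToO (𝒮.deg V hV) k hk _ t)
      refine ⟨c, ?_⟩
      show oToSec (𝒮.deg V hV) k hk (op ((RelProj.emb p chart V hV) ⁻¹ᵁ W))
          (((RelProj.emb p chart V hV).app W).hom c) = t
      exact (congrArg (oToSec (𝒮.deg V hV) k hk (op ((RelProj.emb p chart V hV) ⁻¹ᵁ W))) hc).trans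
        (oToSec_secToO (𝒮.deg V hV) k hk _ t)
  compat V hV r W c y hy hy' := by
    show GrTwist.val (lamOFun 𝒮 p chart k hk (Y.basicOpen r) (hV.basicOpen r) W c) ⟨y, hy⟩ =
      GrTwist.locMap _ _ y (GrTwist.val (lamOFun 𝒮 p chart k hk V hV W c) ⟨_, hy'⟩)
    rw [val_lamOFun, val_lamOFun]
    exact valO_emb_compat hP V hV r W c y hy hy'

end Rel

end Groth.Agent.GrTw
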