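import Mathlib
import Groth.Prelude
import Groth.Agent.Lib.GrTwO_helper5

/-!
# Functoriality of the relative twisting sheaves along `Proj(ℬ) ⟶ Proj(𝒜)` (helper5)
-/

set_option autoImplicit false
universe u
open CategoryTheory CategoryTheory.Limits AlgebraicGeometry TopologicalSpace Opposite DirectSum
open HomogeneousLocalization

namespace Groth.Agent.GrTw

section Square
variable {A σA B σB C σC D σD : Type u}
  [CommRing A] [SetLike σA A] [AddSubgroupClass σA A]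
  [CommRing B] [SetLike σB B] [AddSubgroupClass σB B]
  [CommRing C] [SetLike σC C] [AddSubgroupClass σC C]
  [CommRing D] [SetLike σD D] [AddSubgroupClass σD D]
  {𝒜 : ℕ → σA} {ℬ : ℕ → σB} {𝒞 : ℕ → σC} {𝒟 : ℕ → σD}
  [GradedRing 𝒜] [GradedRing ℬ] [GradedRing 𝒞] [GradedRing 𝒟]
  (ψ₁ : 𝒜 →+*ᵍ ℬ) (h₁ : HomogeneousIdeal.irrelevant ℬ ≤ (HomogeneousIdeal.irrelevant 𝒜).map ψ₁)
  (ψ₂ : ℬ →+*ᵍ 𝒟) (h₂ : HomogeneousIdeal.irrelevant 𝒟 ≤ (HomogeneousIdeal.irrelevant ℬ).map ψ₂)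
  (ψ₁' : 𝒜 →+*ᵍ 𝒞) (h₁' : HomogeneousIdeal.irrelevant 𝒞 ≤ (HomogeneousIdeal.irrelevant 𝒜).map ψ₁')
  (ψ₂' : 𝒞 →+*ᵍ 𝒟) (h₂' : HomogeneousIdeal.irrelevant 𝒟 ≤ (HomogeneousIdeal.irrelevant 𝒞).map ψ₂')

include h₁ h₂ h₁' h₂' in
theorem comap_comap_eq (hsq : ∀ a : A, ψ₂ (ψ₁ a) = ψ₂' (ψ₁' a)) (y : ProjectiveSpectrum 𝒟) :
    ProjectiveSpectrum.comap ψ₁ h₁ (ProjectiveSpectrum.comap ψ₂ h₂ y) =
      ProjectiveSpectrum.comap ψ₁' h₁' (ProjectiveSpectrum.comap ψ₂' h₂' y) := by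
  apply ProjectiveSpectrum.ext
  apply HomogeneousIdeal.ext
  ext a
  show ψ₂ (ψ₁ a) ∈ y.asHomogeneousIdeal ↔ ψ₂' (ψ₁' a) ∈ y.asHomogeneousIdeal
  rw [hsq a]

theorem val_eq_mk_of_eq {n : ℤ} {O : (Proj 𝒜).Opens} (τ : Γ(GrTwist.twist 𝒜 n, O))
    (x x' : ProjectiveSpectrum 𝒜) (e : x = x') (hx : x ∈ O) (hx' : x' ∈ O) (a s : A)
    (hs : s ∈ x.asHomogeneousIdeal.toIdeal.primeCompl)
    (hs' : s ∈ x'.asHomogeneousIdeal.toIdeal.primeCompl)
    (hv : GrTwist.val τ ⟨x, hx⟩ = Localization.mk a ⟨s, hs⟩) :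
    GrTwist.val τ ⟨x', hx'⟩ = Localization.mk a ⟨s, hs'⟩ := by
  subst e
  exact hv

/-- Values of a section transported along the two sides of a commutative square of graded ring
homomorphisms agree. -/
theorem locMap_square (hsq : ∀ a : A, ψ₂ (ψ₁ a) = ψ₂' (ψ₁' a)) {n : ℤ} {O : (Proj 𝒜).Opens}
    (τ : Γ(GrTwist.twist 𝒜 n, O)) (y : ProjectiveSpectrum 𝒟)
    (hx : ProjectiveSpectrum.comap ψ₁ h₁ (ProjectiveSpectrum.comap ψ₂ h₂ y) ∈ O)
    (hx' : ProjectiveSpectrum.comap ψ₁' h₁' (ProjectiveSpectrum.comap ψ₂' h₂' y) ∈ O) :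
    GrTwist.locMap ψ₂ h₂ y (GrTwist.locMap ψ₁ h₁ (ProjectiveSpectrum.comap ψ₂ h₂ y)
      (GrTwist.val τ ⟨_, hx⟩)) =
    GrTwist.locMap ψ₂' h₂' y (GrTwist.locMap ψ₁' h₁' (ProjectiveSpectrum.comap ψ₂' h₂' y)
      (GrTwist.val τ ⟨_, hx'⟩)) := by
  obtain ⟨⟨a, s⟩, hq⟩ : ∃ q : A × (ProjectiveSpectrum.comap ψ₁ h₁
      (ProjectiveSpectrum.comap ψ₂ h₂ y)).asHomogeneousIdeal.toIdeal.primeCompl,
      Localization.mk q.1 q.2 = GrTwist.val τ ⟨_, hx⟩ :=
    Localization.induction_on (GrTwist.val τ ⟨_, hx⟩) (fun q => ⟨q, rfl⟩)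
  have e := comap_comap_eq ψ₁ h₁ ψ₂ h₂ ψ₁' h₁' ψ₂' h₂' hsq y
  have hs' : (s : A) ∈ (ProjectiveSpectrum.comap ψ₁' h₁'
      (ProjectiveSpectrum.comap ψ₂' h₂' y)).asHomogeneousIdeal.toIdeal.primeCompl := by
    rw [← e]; exact s.2
  have hv' := val_eq_mk_of_eq τ _ _ e hx hx' a s s.2 hs' hq.symm
  rw [← hq, hv', GrTwist.locMap_mk, GrTwist.locMap_mk, GrTwist.locMap_mk, GrTwist.locMap_mk]
  apply Localization.mk_eq_mk_iff.mpr
  apply Localization.r_iff_exists.mpr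
  refine ⟨1, ?_⟩
  simp only [OneMemClass.coe_one, one_mul]
  rw [hsq a, hsq s]

end Square

section Fun
variable {Y PA PB : Scheme.{u}} {𝒜 ℬ : RelProj.QCGrAlg Y}
  (φ : 𝒜.toQCAlg ⟶ ℬ.toQCAlg) (hφ : RelProj.IsGradedHom φ)
  (hirr : ∀ (U : Y.Opens) (hU : IsAffineOpen U),
    HomogeneousIdeal.irrelevant (ℬ.deg U hU) ≤
      (HomogeneousIdeal.irrelevant (𝒜.deg U hU)).map (RelProj.gradedHomAt φ hφ U hU))
  {pA : PA ⟶ Y} {pB : PB ⟶ Y}
  {chartA : ∀ (U : Y.Opens) (hU : IsAffineOpen U),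
    (((pA ⁻¹ᵁ U : PA.Opens) : Scheme.{u}) ≅ Proj (𝒜.deg U hU))}
  {chartB : ∀ (U : Y.Opens) (hU : IsAffineOpen U),
    (((pB ⁻¹ᵁ U : PB.Opens) : Scheme.{u}) ≅ Proj (ℬ.deg U hU))}
  (h : PB ⟶ PA)

theorem embB_comp (hh : RelProj.IsRelProjMap φ hφ hirr chartA chartB h) (U : Y.Opens)
    (hU : IsAffineOpen U) :
    RelProj.emb pB chartB U hU ≫ h =
      Proj.map (RelProj.gradedHomAt φ hφ U hU) (hirr U hU) ≫ RelProj.emb pA chartA U hU := by
  unfold RelProj.emb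
  rw [Category.assoc, hh U hU, Iso.inv_hom_id_assoc]

theorem embA_comap (hh : RelProj.IsRelProjMap φ hφ hirr chartA chartB h) (U : Y.Opens)
    (hU : IsAffineOpen U) (y : Proj (ℬ.deg U hU)) :
    (RelProj.emb pA chartA U hU) (ProjectiveSpectrum.comap (RelProj.gradedHomAt φ hφ U hU)
      (hirr U hU) y) = h ((RelProj.emb pB chartB U hU) y) := by
  have h2 := congrArg (fun ψ : Proj (ℬ.deg U hU) ⟶ PA => ψ y) (embB_comp φ hφ hirr h hh U hU)
  exact h2.symm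

theorem gradedHomAt_res {U V : Y.Opens} (hU : IsAffineOpen U) (hV : IsAffineOpen V) (i : V ≤ U)
    (a : 𝒜.presheaf.obj (op U)) :
    RelProj.gradedHomAt φ hφ V hV (𝒜.res hU hV i a) =
      ℬ.res hU hV i (RelProj.gradedHomAt φ hφ U hU a) := by
  have hn := ConcreteCategory.congr_hom (φ.hom.naturality (homOfLE i).op) a
  exact hn

variable {n : ℤ} {LA : PA.Modules}
  {lamA : ∀ (U : Y.Opens) (hU : IsAffineOpen U),
    LA ⟶ (Scheme.Modules.pushforward (RelProj.emb pA chartA U hU)).obj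
      (GrTwist.twist (𝒜.deg U hU) n)}
  {LB : PB.Modules}
  {lamB : ∀ (U : Y.Opens) (hU : IsAffineOpen U),
    LB ⟶ (Scheme.Modules.pushforward (RelProj.emb pB chartB U hU)).obj
      (GrTwist.twist (ℬ.deg U hU) n)}

/-- The chartwise comparison `a / f ↦ φ(a) / φ(f)` applied to the chart section of a section of
`O_{Proj 𝒜}(n)`. -/
noncomputable def pullSec (hh : RelProj.IsRelProjMap φ hφ hirr chartA chartB h)
    (lamA : ∀ (U : Y.Opens) (hU : IsAffineOpen U),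
      LA ⟶ (Scheme.Modules.pushforward (RelProj.emb pA chartA U hU)).obj
        (GrTwist.twist (𝒜.deg U hU) n))
    (U : Y.Opens) (hU : IsAffineOpen U) (W : PA.Opens) (s : Γ(LA, W)) :
    Γ(GrTwist.twist (ℬ.deg U hU) n, (RelProj.emb pB chartB U hU) ⁻¹ᵁ (h ⁻¹ᵁ W)) :=
  GrTwist.comapApp (RelProj.gradedHomAt φ hφ U hU) (hirr U hU) n
    ((RelProj.emb pA chartA U hU) ⁻¹ᵁ W) ((RelProj.emb pB chartB U hU) ⁻¹ᵁ (h ⁻¹ᵁ W))
    (fun y hy => by
      show (RelProj.emb pA chartA U hU) (ProjectiveSpectrum.comap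
        (RelProj.gradedHomAt φ hφ U hU) (hirr U hU) y) ∈ W
      rw [embA_comap φ hφ hirr h hh U hU y]
      exact hy)
    (chartSec 𝒜 pA chartA n LA lamA U hU W s)

theorem val_pullSec (hh : RelProj.IsRelProjMap φ hφ hirr chartA chartB h)
    (U : Y.Opens) (hU : IsAffineOpen U) (W : PA.Opens) (s : Γ(LA, W))
    (y : (RelProj.emb pB chartB U hU) ⁻¹ᵁ (h ⁻¹ᵁ W))
    (hy' : (RelProj.emb pA chartA U hU) (ProjectiveSpectrum.comap
      (RelProj.gradedHomAt φ hφ U hU) (hirr U hU) y.1) ∈ W) :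
    GrTwist.val (pullSec φ hφ hirr h hh lamA U hU W s) y =
      GrTwist.locMap (RelProj.gradedHomAt φ hφ U hU) (hirr U hU) y.1
        (GrTwist.val (chartSec 𝒜 pA chartA n LA lamA U hU W s) ⟨_, hy'⟩) := rfl

theorem chartCompat_pullSec (hh : RelProj.IsRelProjMap φ hφ hirr chartA chartB h)
    (hLA : RelProj.IsRelTwist 𝒜 pA chartA n LA lamA)
    (W : PA.Opens) (s : Γ(LA, W)) :
    ChartCompat (𝒮 := ℬ) (p := pB) (chart := chartB) (n := n) (h ⁻¹ᵁ W)
      (fun V hV => pullSec φ hφ hirr h hh lamA V hV W s) := by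
  intro V hV r y hy hy'
  have hyA : (RelProj.emb pA chartA (Y.basicOpen r) (hV.basicOpen r))
      (ProjectiveSpectrum.comap (RelProj.gradedHomAt φ hφ (Y.basicOpen r) (hV.basicOpen r))
        (hirr _ _) y) ∈ W := by
    rw [embA_comap φ hφ hirr h hh _ _ y]
    exact hy
  have hyV : (RelProj.emb pA chartA V hV)
      (ProjectiveSpectrum.comap (RelProj.gradedHomAt φ hφ V hV) (hirr V hV)
        (ProjectiveSpectrum.comap (ℬ.res hV (hV.basicOpen r) (Y.basicOpen_le r))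
          (ℬ.irrelevant_le_map V hV r) y)) ∈ W := by
    rw [embA_comap φ hφ hirr h hh V hV _]
    exact hy'
  have hsq : ∀ a : 𝒜.presheaf.obj (op V),
      RelProj.gradedHomAt φ hφ (Y.basicOpen r) (hV.basicOpen r)
        (𝒜.res hV (hV.basicOpen r) (Y.basicOpen_le r) a) =
      ℬ.res hV (hV.basicOpen r) (Y.basicOpen_le r) (RelProj.gradedHomAt φ hφ V hV a) :=
    fun a => gradedHomAt_res φ hφ hV (hV.basicOpen r) (Y.basicOpen_le r) a
  have hyA' : (RelProj.emb pA chartA V hV) (ProjectiveSpectrum.comap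
      (𝒜.res hV (hV.basicOpen r) (Y.basicOpen_le r)) (𝒜.irrelevant_le_map V hV r)
      (ProjectiveSpectrum.comap (RelProj.gradedHomAt φ hφ (Y.basicOpen r) (hV.basicOpen r))
        (hirr _ _) y)) ∈ W := by
    rw [comap_comap_eq _ (𝒜.irrelevant_le_map V hV r) _ (hirr _ _) _ (hirr V hV) _
      (ℬ.irrelevant_le_map V hV r) hsq y]
    exact hyV
  have h1 := hLA.compat V hV r W s _ hyA hyA'
  rw [val_pullSec φ hφ hirr h hh _ _ W s ⟨y, hy⟩ hyA, val_pullSec φ hφ hirr h hh V hV W s ⟨_, hy'⟩ hyV]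
  refine (congrArg _ h1).trans ?_
  exact locMap_square _ (𝒜.irrelevant_le_map V hV r) _ (hirr _ _) _ (hirr V hV) _
    (ℬ.irrelevant_le_map V hV r) hsq (chartSec 𝒜 pA chartA n LA lamA V hV W s) y hyA' hyV

/-- Values of a function pulled back along `h`, read in the charts. -/
theorem valO_embB_h (hh : RelProj.IsRelProjMap φ hφ hirr chartA chartB h) (U : Y.Opens)
    (hU : IsAffineOpen U) (W : PA.Opens) (r : Γ(PA, W))
    (y : (RelProj.emb pB chartB U hU) ⁻¹ᵁ (h ⁻¹ᵁ W))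
    (hy' : (RelProj.emb pA chartA U hU) (ProjectiveSpectrum.comap
      (RelProj.gradedHomAt φ hφ U hU) (hirr U hU) y.1) ∈ W) :
    valO (ℬ.deg U hU) (((RelProj.emb pB chartB U hU).app (h ⁻¹ᵁ W)).hom ((h.app W).hom r)) y =
      GrTwist.locMap (RelProj.gradedHomAt φ hφ U hU) (hirr U hU) y.1
        (valO (𝒜.deg U hU) (((RelProj.emb pA chartA U hU).app W).hom r) ⟨_, hy'⟩) := by
  have h0 := embB_comp φ hφ hirr h hh U hU
  have h1 := Scheme.Hom.congr_app h0 W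
  rw [Scheme.Hom.comp_app, Scheme.Hom.comp_app] at h1
  have h2 := ConcreteCategory.congr_hom h1 r
  have h3 := valO_map_app (RelProj.gradedHomAt φ hφ U hU) (hirr U hU)
    ((RelProj.emb pA chartA U hU) ⁻¹ᵁ W) (((RelProj.emb pA chartA U hU).app W).hom r) ⟨y.1, hy'⟩
  refine Eq.trans ?_ h3
  have h4 : ((RelProj.emb pB chartB U hU).app (h ⁻¹ᵁ W)).hom ((h.app W).hom r) = _ := h2
  rw [h4]
  rfl

theorem exists_thetaSec (hh : RelProj.IsRelProjMap φ hφ hirr chartA chartB h)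
    (hLA : RelProj.IsRelTwist 𝒜 pA chartA n LA lamA)
    (hLB : RelProj.IsRelTwist ℬ pB chartB n LB lamB) (hB : RelProj.IsRelProj ℬ pB chartB)
    (W : PA.Opens) (s : Γ(LA, W)) :
    ∃ v : Γ(LB, h ⁻¹ᵁ W), ∀ (U : Y.Opens) (hU : IsAffineOpen U),
      chartSec ℬ pB chartB n LB lamB U hU (h ⁻¹ᵁ W) v = pullSec φ hφ hirr h hh lamA U hU W s :=
  exists_glue hLB hB (h ⁻¹ᵁ W) _ (chartCompat_pullSec φ hφ hirr h hh hLA W s)

/-- The comparison map on sections. -/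
noncomputable def thetaFun (hh : RelProj.IsRelProjMap φ hφ hirr chartA chartB h)
    (hLA : RelProj.IsRelTwist 𝒜 pA chartA n LA lamA)
    (hLB : RelProj.IsRelTwist ℬ pB chartB n LB lamB) (hB : RelProj.IsRelProj ℬ pB chartB)
    (W : PA.Opens) (s : Γ(LA, W)) : Γ(LB, h ⁻¹ᵁ W) :=
  Classical.choose (exists_thetaSec φ hφ hirr h hh hLA hLB hB W s)

theorem thetaFun_spec (hh : RelProj.IsRelProjMap φ hφ hirr chartA chartB h)
    (hLA : RelProj.IsRelTwist 𝒜 pA chartA n LA lamA)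
    (hLB : RelProj.IsRelTwist ℬ pB chartB n LB lamB) (hB : RelProj.IsRelProj ℬ pB chartB)
    (W : PA.Opens) (s : Γ(LA, W)) (U : Y.Opens) (hU : IsAffineOpen U) :
    chartSec ℬ pB chartB n LB lamB U hU (h ⁻¹ᵁ W) (thetaFun φ hφ hirr h hh hLA hLB hB W s) =
      pullSec φ hφ hirr h hh lamA U hU W s :=
  Classical.choose_spec (exists_thetaSec φ hφ hirr h hh hLA hLB hB W s) U hU

theorem pullSec_add (hh : RelProj.IsRelProjMap φ hφ hirr chartA chartB h)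
    (U : Y.Opens) (hU : IsAffineOpen U) (W : PA.Opens) (a b : Γ(LA, W)) :
    pullSec φ hφ hirr h hh lamA U hU W (a + b) =
      pullSec φ hφ hirr h hh lamA U hU W a + pullSec φ hφ hirr h hh lamA U hU W b := by
  apply ext_val
  intro y
  have hy' : (RelProj.emb pA chartA U hU) (ProjectiveSpectrum.comap
      (RelProj.gradedHomAt φ hφ U hU) (hirr U hU) y.1) ∈ W := by
    rw [embA_comap φ hφ hirr h hh U hU y.1]
    exact y.2
  refine Eq.trans ?_ (val_add (ℬ.deg U hU) _ _ y).symm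
  rw [val_pullSec φ hφ hirr h hh U hU W _ y hy', val_pullSec φ hφ hirr h hh U hU W _ y hy',
    val_pullSec φ hφ hirr h hh U hU W _ y hy', ← map_add]
  refine congrArg _ ?_
  have h5 := congrArg (fun τ : Γ(GrTwist.twist (𝒜.deg U hU) n,
      (RelProj.emb pA chartA U hU) ⁻¹ᵁ W) => GrTwist.val τ ⟨_, hy'⟩)
    (map_add (QCohExtn.ap (lamA U hU) W) a b)
  exact h5

theorem thetaFun_add (hh : RelProj.IsRelProjMap φ hφ hirr chartA chartB h)
    (hLA : RelProj.IsRelTwist 𝒜 pA chartA n LA lamA)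
    (hLB : RelProj.IsRelTwist ℬ pB chartB n LB lamB) (hB : RelProj.IsRelProj ℬ pB chartB)
    (W : PA.Opens) (a b : Γ(LA, W)) :
    thetaFun φ hφ hirr h hh hLA hLB hB W (a + b) =
      thetaFun φ hφ hirr h hh hLA hLB hB W a + thetaFun φ hφ hirr h hh hLA hLB hB W b := by
  apply ext_chartSec hLB
  intro U hU
  have h4 : chartSec ℬ pB chartB n LB lamB U hU (h ⁻¹ᵁ W)
      (thetaFun φ hφ hirr h hh hLA hLB hB W a + thetaFun φ hφ hirr h hh hLA hLB hB W b) =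
      chartSec ℬ pB chartB n LB lamB U hU (h ⁻¹ᵁ W) (thetaFun φ hφ hirr h hh hLA hLB hB W a) +
      chartSec ℬ pB chartB n LB lamB U hU (h ⁻¹ᵁ W) (thetaFun φ hφ hirr h hh hLA hLB hB W b) :=
    map_add _ _ _
  rw [h4, thetaFun_spec, thetaFun_spec, thetaFun_spec, pullSec_add]

theorem thetaFun_smul (hh : RelProj.IsRelProjMap φ hφ hirr chartA chartB h)
    (hLA : RelProj.IsRelTwist 𝒜 pA chartA n LA lamA)
    (hLB : RelProj.IsRelTwist ℬ pB chartB n LB lamB) (hB : RelProj.IsRelProj ℬ pB chartB)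
    (W : PA.Opens) (r : Γ(PA, W)) (s : Γ(LA, W)) :
    thetaFun φ hφ hirr h hh hLA hLB hB W (r • s) =
      ((h.app W).hom r) • thetaFun φ hφ hirr h hh hLA hLB hB W s := by
  apply ext_chartSec hLB
  intro U hU
  rw [chartSec_smul, thetaFun_spec, thetaFun_spec]
  apply ext_val
  intro y
  have hy' : (RelProj.emb pA chartA U hU) (ProjectiveSpectrum.comap
      (RelProj.gradedHomAt φ hφ U hU) (hirr U hU) y.1) ∈ W := by
    rw [embA_comap φ hφ hirr h hh U hU y.1]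
    exact y.2
  rw [val_smul, val_pullSec φ hφ hirr h hh U hU W _ y hy',
    val_pullSec φ hφ hirr h hh U hU W _ y hy', valO_embB_h φ hφ hirr h hh U hU W r y hy',
    chartSec_smul, val_smul, map_mul]

theorem thetaFun_rF (hh : RelProj.IsRelProjMap φ hφ hirr chartA chartB h)
    (hLA : RelProj.IsRelTwist 𝒜 pA chartA n LA lamA)
    (hLB : RelProj.IsRelTwist ℬ pB chartB n LB lamB) (hB : RelProj.IsRelProj ℬ pB chartB)
    {W W' : PA.Opens} (hle : W' ≤ W) (s : Γ(LA, W)) :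
    QcqsLoc.rF LB (h.preimage_mono hle) (thetaFun φ hφ hirr h hh hLA hLB hB W s) =
      thetaFun φ hφ hirr h hh hLA hLB hB W' (QcqsLoc.rF LA hle s) := by
  apply ext_chartSec hLB
  intro U hU
  rw [chartSec_rF, thetaFun_spec, thetaFun_spec]
  apply ext_val
  intro y
  have hy' : (RelProj.emb pA chartA U hU) (ProjectiveSpectrum.comap
      (RelProj.gradedHomAt φ hφ U hU) (hirr U hU) y.1) ∈ W' := by
    rw [embA_comap φ hφ hirr h hh U hU y.1]
    exact y.2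
  rw [val_rF, val_pullSec φ hφ hirr h hh U hU W' _ y hy',
    val_pullSec φ hφ hirr h hh U hU W _ ⟨y.1, _⟩ (hle hy'), chartSec_rF]
  rfl

/-- **The canonical map `O_{Proj 𝒜}(n) ⟶ h_* O_{Proj ℬ}(n)`.** -/
noncomputable def theta (hh : RelProj.IsRelProjMap φ hφ hirr chartA chartB h)
    (hLA : RelProj.IsRelTwist 𝒜 pA chartA n LA lamA)
    (hLB : RelProj.IsRelTwist ℬ pB chartB n LB lamB) (hB : RelProj.IsRelProj ℬ pB chartB) :
    LA ⟶ (Scheme.Modules.pushforward h).obj LB :=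
  Groth.Agent.FinGG.homOfSections (M := LA) (P := (Scheme.Modules.pushforward h).obj LB)
    (fun W => AddMonoidHom.mk' (fun s => thetaFun φ hφ hirr h hh hLA hLB hB W s)
      (fun a b => thetaFun_add φ hφ hirr h hh hLA hLB hB W a b))
    (fun W r s => thetaFun_smul φ hφ hirr h hh hLA hLB hB W r s)
    (fun {W W'} hle s => thetaFun_rF φ hφ hirr h hh hLA hLB hB hle s)

theorem existsUnique_theta (hh : RelProj.IsRelProjMap φ hφ hirr chartA chartB h)
    (hLA : RelProj.IsRelTwist 𝒜 pA chartA n LA lamA)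
    (hLB : RelProj.IsRelTwist ℬ pB chartB n LB lamB) (hB : RelProj.IsRelProj ℬ pB chartB) :
    ∃! θ : LA ⟶ (Scheme.Modules.pushforward h).obj LB,
      ∀ (U : Y.Opens) (hU : IsAffineOpen U) (W : PA.Opens) (s : Γ(LA, W))
        (y : ProjectiveSpectrum (ℬ.deg U hU))
        (hy : (RelProj.emb pB chartB U hU).base y ∈ h ⁻¹ᵁ W)
        (hy' : (RelProj.emb pA chartA U hU).base
          (ProjectiveSpectrum.comap (RelProj.gradedHomAt φ hφ U hU) (hirr U hU) y) ∈ W),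
        GrTwist.val (V := RelProj.emb pB chartB U hU ⁻¹ᵁ (h ⁻¹ᵁ W))
            ((lamB U hU).app (h ⁻¹ᵁ W) (θ.app W s)) ⟨y, hy⟩ =
          GrTwist.locMap (RelProj.gradedHomAt φ hφ U hU) (hirr U hU) y
            (GrTwist.val (V := RelProj.emb pA chartA U hU ⁻¹ᵁ W) ((lamA U hU).app W s) ⟨_, hy'⟩) := by
  refine ⟨theta φ hφ hirr h hh hLA hLB hB, ?_, ?_⟩
  · intro U hU W s y hy hy'
    have h1 := thetaFun_spec φ hφ hirr h hh hLA hLB hB W s U hU
    have h2 := congrArg (fun τ : Γ(GrTwist.twist (ℬ.deg U hU) n,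
      (RelProj.emb pB chartB U hU) ⁻¹ᵁ (h ⁻¹ᵁ W)) => GrTwist.val τ ⟨y, hy⟩) h1
    exact h2
  · intro θ' hθ'
    apply Scheme.Modules.hom_ext
    intro W
    apply ConcreteCategory.hom_ext
    intro s
    show θ'.app W s = thetaFun φ hφ hirr h hh hLA hLB hB W s
    apply ext_chartSec hLB
    intro U hU
    apply ext_val
    intro y
    have hy' : (RelProj.emb pA chartA U hU) (ProjectiveSpectrum.comap
        (RelProj.gradedHomAt φ hφ U hU) (hirr U hU) y.1) ∈ W := by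
      rw [embA_comap φ hφ hirr h hh U hU y.1]
      exact y.2
    rw [thetaFun_spec, val_pullSec φ hφ hirr h hh U hU W _ y hy']
    exact hθ' U hU W s y.1 y.2 hy'

end Fun

end Groth.Agent.GrTw
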