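import Mathlib
import Groth.Prelude
import Groth.Agent.Lib.GrTwFun_helper5
import Groth.Agent.Lib.Tens17_helper8
import Groth.Agent.Lib.Tens41_helper8

/-!
# `h^* O_{Proj 𝒜}(n) ≅ O_{Proj ℬ}(n)` for `h : Proj ℬ ⟶ Proj 𝒜` induced by `φ : 𝒜 → ℬ`, `𝒜` generated
in degree one (helper5).  APPEND-ONLY once landed.
-/

set_option autoImplicit false
universe u
open CategoryTheory CategoryTheory.Limits AlgebraicGeometry TopologicalSpace Opposite DirectSum
open HomogeneousLocalization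

namespace Groth.Agent.GrTw

section Adj
variable {X S : Scheme.{u}} (f : X ⟶ S)

/-- The adjoint of `θ : G ⟶ f_* F` sends the pulled-back section of `x` to `θ x`. -/
theorem adj_symm_cUV {G : S.Modules} {F : X.Modules} (θ : G ⟶ (Scheme.Modules.pushforward f).obj F)
    (V : S.Opens) (x : Γ(G, V)) :
    QCohExtn.ap (((Scheme.Modules.pullbackPushforwardAdjunction f).homEquiv G F).symm θ) (f ⁻¹ᵁ V)
      (PBH8.cUV f G le_rfl x) = QCohExtn.ap θ V x := by
  set θ' := ((Scheme.Modules.pullbackPushforwardAdjunction f).homEquiv G F).symm θ with hθ'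
  have h1 : θ = (Scheme.Modules.pullbackPushforwardAdjunction f).unit.app G ≫
      (Scheme.Modules.pushforward f).map θ' := by
    rw [hθ']
    exact (Equiv.apply_symm_apply _ θ).symm.trans (Adjunction.homEquiv_unit _ _ _ _)
  have h2 : PBH8.cUV f G (le_rfl : f ⁻¹ᵁ V ≤ f ⁻¹ᵁ V) x =
      ((Scheme.Modules.pullbackPushforwardAdjunction f).unit.app G).app V x := by
    unfold PBH8.cUV
    exact SubExt.rF_self _ _ _
  rw [h2]
  conv_rhs => rw [h1]
  rfl

end Adj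

section Rel
variable {Y P : Scheme.{u}} {𝒮 : RelProj.QCGrAlg Y} {p : P ⟶ Y}
  {chart : ∀ (U : Y.Opens) (hU : IsAffineOpen U),
    (((p ⁻¹ᵁ U : P.Opens) : Scheme.{u}) ≅ Proj (𝒮.deg U hU))}

/-- `O_P(n)` is invertible when `𝒮` is generated in degree one. -/
theorem isInvertible_of_genDegOne (hgen : 𝒮.IsGenDegOne) {n : ℤ} {L : P.Modules}
    {lam : ∀ (U : Y.Opens) (hU : IsAffineOpen U),
      L ⟶ (Scheme.Modules.pushforward (RelProj.emb p chart U hU)).obj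
        (GrTwist.twist (𝒮.deg U hU) n)}
    (hL : RelProj.IsRelTwist 𝒮 p chart n L lam) : PicF.IsInvertible L := by
  apply TensH8.isInvertible_of_gens
  intro y
  obtain ⟨U, hU, hy, hz⟩ := exists_chart_point 𝒮 p chart y
  obtain ⟨f, hf, hfz⟩ := exists_deg_one_not_mem (𝒮.deg U hU) (hgen U hU)
    ((chart U hU).hom ⟨y, hy⟩)
  obtain ⟨e, he⟩ := exists_isGen_of_chart 𝒮 p chart n L lam hL U hU hf n
    (by simp) ((RelProj.emb p chart U hU) ''ᵁ (Proj.basicOpen (𝒮.deg U hU) f))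
    (Scheme.Hom.image_le_opensRange _ _) (Scheme.Hom.preimage_image_eq _ _).le
  exact ⟨(RelProj.emb p chart U hU) ''ᵁ (Proj.basicOpen (𝒮.deg U hU) f),
    (Proj.isAffineOpen_basicOpen _ f hf one_pos).image_of_isOpenImmersion _,
    ⟨_, hfz, hz⟩, e, he⟩

end Rel

section Pull
variable {Y PA PB : Scheme.{u}} {𝒜 ℬ : RelProj.QCGrAlg Y}
  (φ : 𝒜.toQCAlg ⟶ ℬ.toQCAlg) (hφ : RelProj.IsGradedHom φ)
  (hirr : ∀ (U : Y.Opens) (hU : IsAffineOpen U),
    HomogeneousIdeal.irrelevant (ℬ.deg U hU) ≤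
      (HomogeneousIdeal.irrelevant (𝒜.deg U hU)).map (RelProj.gradedHomAt φ hφ U hU))
  {pA : PA ⟶ Y} {pB : PB ⟶ Y}
  {chartA : ∀ (U : Y.Opens) (hU : IsAffineOpen U),
    (((pA ⁻¹ᵁ U : PA.Opens) : Scheme.{u}) ≅ Proj (𝒜.deg U hU))}
  {chartB : ∀ (U : Y.Opens) (hU : IsAffineOpen U),
    (((pB ⁻¹ᵁ U : PB.Opens) : Scheme.{u}) ≅ Proj (ℬ.deg U hU))}
  (h : PB ⟶ PA)
  {n : ℤ} {LA : PA.Modules}
  {lamA : ∀ (U : Y.Opens) (hU : IsAffineOpen U),
    LA ⟶ (Scheme.Modules.pushforward (RelProj.emb pA chartA U hU)).obj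
      (GrTwist.twist (𝒜.deg U hU) n)}
  {LB : PB.Modules}
  {lamB : ∀ (U : Y.Opens) (hU : IsAffineOpen U),
    LB ⟶ (Scheme.Modules.pushforward (RelProj.emb pB chartB U hU)).obj
      (GrTwist.twist (ℬ.deg U hU) n)}

/-- **The adjoint `h^* O_{Proj 𝒜}(n) ⟶ O_{Proj ℬ}(n)` of the canonical map is an isomorphism** when
`𝒜` is generated in degree one. -/
theorem isIso_adj_theta (hgen : 𝒜.IsGenDegOne)
    (hh : RelProj.IsRelProjMap φ hφ hirr chartA chartB h)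
    (hLA : RelProj.IsRelTwist 𝒜 pA chartA n LA lamA)
    (hLB : RelProj.IsRelTwist ℬ pB chartB n LB lamB) (hB : RelProj.IsRelProj ℬ pB chartB) :
    IsIso (((Scheme.Modules.pullbackPushforwardAdjunction h).homEquiv LA LB).symm
      (theta φ hφ hirr h hh hLA hLB hB)) := by
  have hinv : PicF.IsInvertible LA := isInvertible_of_genDegOne hgen hLA
  apply TensH8.isIso_of_isGen_cover
  intro x
  obtain ⟨V, hV, hxV, hzx⟩ := exists_chart_point ℬ pB chartB x
  set zB : Proj (ℬ.deg V hV) := (chartB V hV).hom ⟨x, hxV⟩ with hzB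
  obtain ⟨f, hf, hfz⟩ := exists_deg_one_not_mem (𝒜.deg V hV) (hgen V hV)
    (ProjectiveSpectrum.comap (RelProj.gradedHomAt φ hφ V hV) (hirr V hV) zB)
  have hφf : RelProj.gradedHomAt φ hφ V hV f ∈ ℬ.deg V hV 1 :=
    (RelProj.gradedHomAt φ hφ V hV).map_mem hf
  -- the chart open of `Proj 𝒜` and its generator
  obtain ⟨WA, hWA⟩ : ∃ WA : PA.Opens, WA = (RelProj.emb pA chartA V hV) ''ᵁ
      (Proj.basicOpen (𝒜.deg V hV) f) := ⟨_, rfl⟩
  have hWAaff : IsAffineOpen WA := by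
    rw [hWA]
    exact (Proj.isAffineOpen_basicOpen _ f hf one_pos).image_of_isOpenImmersion _
  have hWAr : WA ≤ (RelProj.emb pA chartA V hV).opensRange := by
    rw [hWA]; exact Scheme.Hom.image_le_opensRange _ _
  have hWAf : (RelProj.emb pA chartA V hV) ⁻¹ᵁ WA ≤ Proj.basicOpen (𝒜.deg V hV) f := by
    rw [hWA]; exact (Scheme.Hom.preimage_image_eq _ _).le
  have hn1 : n = n * ((1 : ℕ) : ℤ) := by simp
  obtain ⟨eA, heeA, heA⟩ := exists_isGen_of_chartK hLA V hV hf n hn1 WA hWAr hWAf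
  have hg := TensH8.isGen_cUV h hinv hWAaff heA
  -- the open of `Proj ℬ`
  have hxWA : h x ∈ WA := by
    rw [← hzx, ← embA_comap φ hφ hirr h hh V hV zB, hWA]
    exact ⟨_, hfz, rfl⟩
  refine ⟨h ⁻¹ᵁ WA ⊓ pB ⁻¹ᵁ V, ⟨hxWA, hxV⟩,
    QcqsLoc.rF _ inf_le_left (PBH8.cUV h LA le_rfl eA), hg.res inf_le_left, ?_⟩
  rw [QCohExtn.ap_rF, adj_symm_cUV]
  -- `θ eA` generates `LB`
  have hWr : h ⁻¹ᵁ WA ⊓ pB ⁻¹ᵁ V ≤ (RelProj.emb pB chartB V hV).opensRange := by
    rw [opensRange_emb]; exact inf_le_right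
  have hbij : ∀ O : PB.Opens, O ≤ h ⁻¹ᵁ WA ⊓ pB ⁻¹ᵁ V →
      Function.Bijective (QCohExtn.ap (lamB V hV) O) :=
    fun O hO => hLB.bijective V hV O (hO.trans inf_le_right)
  refine isGen_of_pushforward_bij (RelProj.emb pB chartB V hV) _ LB (lamB V hV) _ hWr hbij _ ?_
  have hle : (RelProj.emb pB chartB V hV) ⁻¹ᵁ (h ⁻¹ᵁ WA ⊓ pB ⁻¹ᵁ V) ≤
      Proj.basicOpen (ℬ.deg V hV) (RelProj.gradedHomAt φ hφ V hV f) := by
    intro y hy
    have hy1 : h ((RelProj.emb pB chartB V hV) y) ∈ WA := hy.1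
    rw [← embA_comap φ hφ hirr h hh V hV y] at hy1
    have hy2 : ProjectiveSpectrum.comap (RelProj.gradedHomAt φ hφ V hV) (hirr V hV) y ∈
        Proj.basicOpen (𝒜.deg V hV) f := hWAf hy1
    exact hy2
  have key : QCohExtn.ap (lamB V hV) _ (QcqsLoc.rF LB inf_le_left
      (QCohExtn.ap (theta φ hφ hirr h hh hLA hLB hB) WA eA)) =
      QcqsLoc.rF (GrTwist.twist (ℬ.deg V hV) n) hle
        (genSecK (ℬ.deg V hV) hφf n n hn1) := by
    rw [QCohExtn.ap_rF]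
    have h1 : QCohExtn.ap (lamB V hV) (h ⁻¹ᵁ WA)
        (QCohExtn.ap (theta φ hφ hirr h hh hLA hLB hB) WA eA) =
        pullSec φ hφ hirr h hh lamA V hV WA eA :=
      thetaFun_spec φ hφ hirr h hh hLA hLB hB WA eA V hV
    rw [h1]
    apply ext_val
    intro y
    have hy' : (RelProj.emb pA chartA V hV) (ProjectiveSpectrum.comap
        (RelProj.gradedHomAt φ hφ V hV) (hirr V hV) y.1) ∈ WA := by
      rw [embA_comap φ hφ hirr h hh V hV y.1]
      exact y.2.1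
    refine (val_pullSec φ hφ hirr h hh V hV WA eA ⟨y.1, y.2.1⟩ hy').trans ?_
    have h2 : GrTwist.val (chartSec 𝒜 pA chartA n LA lamA V hV WA eA) ⟨_, hy'⟩ =
        Localization.mk (f ^ n.toNat) ⟨f ^ (-n).toNat,
          show f ^ (-n).toNat ∈ (ProjectiveSpectrum.comap (RelProj.gradedHomAt φ hφ V hV)
            (hirr V hV) y.1).asHomogeneousIdeal.toIdeal.primeCompl from fun hmem => hWAf hy'
          ((ProjectiveSpectrum.comap (RelProj.gradedHomAt φ hφ V hV) (hirr V hV)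
            y.1).isPrime.mem_of_pow_mem _ hmem)⟩ := by
      rw [heeA]
      rfl
    rw [h2, GrTwist.locMap_mk]
    show _ = Localization.mk _ _
    congr 1
    · exact map_pow _ _ _
    · exact Subtype.ext (map_pow _ _ _)
  rw [key]
  exact (isGen_genSecK (ℬ.deg V hV) hφf n n hn1).res hle

end Pull

end Groth.Agent.GrTw
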