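import Groth.Prelude
import Groth.Agent.Lib.PForm3_helper9
import Groth.Agent.Lib.GrTwPull_helper5
import Groth.Agent.Lib.Tens45_helper8

/-!
# Pullback commutes with the tensor product of invertible modules (helper9)
APPEND-ONLY once landed.

* `ptHom f A B : f^*(A ⊗ B) ⟶ f^*A ⊗ f^*B`, the canonical comparison;
* `isIso_ptHom`: it is an isomorphism when `A` and `B` are invertible;
* `pullTensIso`.
-/

set_option autoImplicit false

namespace PullTensH9

open AlgebraicGeometry CategoryTheory CategoryTheory.Limits TopologicalSpace Opposite TensorProduct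
open QcqsLoc MonoidalCategory GenLocH8 FLFH8 QCohExtn TensH8 PBH8 PFormH9

universe u

variable {X Y : Scheme.{u}} (f : X ⟶ Y) (A B : Y.Modules)

/-- The pairing `(a, b) ↦ f^* a ⊗ f^* b`. -/
noncomputable def ptBeta (V : Y.Opens) (a : Γ(A, V)) (b : Γ(B, V)) :
    Γ((Scheme.Modules.pushforward f).obj
      (CohB1.tensorMod ((Scheme.Modules.pullback f).obj A)
        ((Scheme.Modules.pullback f).obj B)), V) :=
  SecTwist.tmul ((Scheme.Modules.pullback f).obj A) ((Scheme.Modules.pullback f).obj B) (f ⁻¹ᵁ V)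
    (cUV f A (le_rfl : f ⁻¹ᵁ V ≤ f ⁻¹ᵁ V) a) (cUV f B (le_rfl : f ⁻¹ᵁ V ≤ f ⁻¹ᵁ V) b)

/-- The bilinear data defining the comparison. -/
noncomputable def ptBilin :
    BilinData A B ((Scheme.Modules.pushforward f).obj
      (CohB1.tensorMod ((Scheme.Modules.pullback f).obj A)
        ((Scheme.Modules.pullback f).obj B))) where
  β V a b := ptBeta f A B V a b
  add_left V a a' b := by
    unfold ptBeta
    rw [cUV_add]
    exact tmul_add_left _ _ _ _ _ _
  smul_left V r a b := by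
    unfold ptBeta
    rw [cUV_smul_app]
    exact tmul_smul_left ((Scheme.Modules.pullback f).obj A) ((Scheme.Modules.pullback f).obj B)
      (f ⁻¹ᵁ V) ((f.app V).hom r) _ _
  add_right V a b b' := by
    unfold ptBeta
    rw [cUV_add]
    exact tmul_add_right _ _ _ _ _ _
  smul_right V r a b := by
    unfold ptBeta
    rw [cUV_smul_app]
    exact tmul_smul_right ((Scheme.Modules.pullback f).obj A) ((Scheme.Modules.pullback f).obj B)
      (f ⁻¹ᵁ V) ((f.app V).hom r) _ _
  natural {V V'} h a b := by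
    unfold ptBeta
    rw [push_rF, cUV_resV f A h le_rfl a, cUV_resV f B h le_rfl b]
    refine (rF_tmul _ _ (preimage_mono f h) _ _).trans ?_
    rw [rF_cUV, rF_cUV]

/-- `A ⊗ B ⟶ f_*(f^*A ⊗ f^*B)`. -/
noncomputable def ptMap :
    CohB1.tensorMod A B ⟶ (Scheme.Modules.pushforward f).obj
      (CohB1.tensorMod ((Scheme.Modules.pullback f).obj A)
        ((Scheme.Modules.pullback f).obj B)) :=
  (ptBilin f A B).toHom

theorem ptMap_tmul (V : Y.Opens) (a : A.val.obj (op V)) (b : B.val.obj (op V)) :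
    ((ptMap f A B).val.app (op V)).hom (SecTwist.tmul A B V a b) = ptBeta f A B V a b :=
  (ptBilin f A B).toHom_tmul V a b

/-- The comparison `f^*(A ⊗ B) ⟶ f^*A ⊗ f^*B`. -/
noncomputable def ptHom :
    (Scheme.Modules.pullback f).obj (CohB1.tensorMod A B) ⟶
      CohB1.tensorMod ((Scheme.Modules.pullback f).obj A) ((Scheme.Modules.pullback f).obj B) :=
  ((Scheme.Modules.pullbackPushforwardAdjunction f).homEquiv _ _).symm (ptMap f A B)

theorem ptHom_cUV (V : Y.Opens) (a : Γ(A, V)) (b : Γ(B, V)) :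
    ap (ptHom f A B) (f ⁻¹ᵁ V)
      (cUV f (CohB1.tensorMod A B) (le_rfl : f ⁻¹ᵁ V ≤ f ⁻¹ᵁ V) (SecTwist.tmul A B V a b)) =
    SecTwist.tmul ((Scheme.Modules.pullback f).obj A) ((Scheme.Modules.pullback f).obj B)
      (f ⁻¹ᵁ V) (cUV f A (le_rfl : f ⁻¹ᵁ V ≤ f ⁻¹ᵁ V) a)
      (cUV f B (le_rfl : f ⁻¹ᵁ V ≤ f ⁻¹ᵁ V) b) :=
  (Groth.Agent.GrTw.adj_symm_cUV f (ptMap f A B) V (SecTwist.tmul A B V a b)).trans
    (ptMap_tmul f A B V a b)

variable {A B}

theorem isIso_ptHom (hA : PicF.IsInvertible A) (hB : PicF.IsInvertible B) :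
    IsIso (ptHom f A B) := by
  have hAB := isInvertible_tensorMod hA hB
  apply isIso_of_isGen_cover
  intro x
  obtain ⟨W0, hxW0, e, e', he, he'⟩ := exists_isGen₂ hA hB (f x)
  obtain ⟨_, ⟨W, hW : IsAffineOpen W, rfl⟩, hxW, hWle⟩ :=
    (Y.isBasis_affineOpens).exists_subset_of_mem_open hxW0 W0.isOpen
  have h1 : W ≤ W0 := hWle
  refine ⟨f ⁻¹ᵁ W, hxW, cUV f (CohB1.tensorMod A B) le_rfl
    (SecTwist.tmul A B W (rF A h1 e) (rF B h1 e')), ?_, ?_⟩
  · exact isGen_cUV f hAB hW (isGen_tmul (he.res h1) (he'.res h1))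
  · rw [ptHom_cUV]
    exact isGen_tmul (isGen_cUV f hA hW (he.res h1)) (isGen_cUV f hB hW (he'.res h1))

/-- **Pullback commutes with tensor products of invertible modules.** -/
noncomputable def pullTensIso (hA : PicF.IsInvertible A) (hB : PicF.IsInvertible B) :
    (Scheme.Modules.pullback f).obj (CohB1.tensorMod A B) ≅
      CohB1.tensorMod ((Scheme.Modules.pullback f).obj A) ((Scheme.Modules.pullback f).obj B) :=
  @asIso _ _ _ _ (ptHom f A B) (isIso_ptHom f hA hB)

end PullTensH9
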