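import Groth.Prelude
import Groth.Agent.Lib.KRRReg1_helper9
import Groth.Agent.Lib.PullTens1_helper9

/-!
# Castelnuovo–Mumford regularity relative to `P^n_T ⟶ T`: twisting is additive (helper9)
APPEND-ONLY once landed.
-/

set_option autoImplicit false

namespace KRRRegH9

open AlgebraicGeometry CategoryTheory CategoryTheory.Limits TopologicalSpace Opposite
open PFormH9

universe u

variable (n : ℕ) (T : Scheme.{u})

theorem isInvertible_OO (d : ℤ) :
    PicF.IsInvertible (Twist.twistProjSpace n (ULift.{u} ℤ) d) :=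
  Groth.Agent.ProjTw.isInvertible_twist (CohB1.polyGrading n (ULift.{u} ℤ))
    (Groth.Agent.ProjTens.hcov' n (ULift.{u} ℤ)) d

theorem twistOver_add (a b : ℤ) :
    Nonempty (CohB1.tensorMod (Twist.twistOver n T a) (Twist.twistOver n T b) ≅
      Twist.twistOver n T (a + b)) := by
  obtain ⟨e⟩ := Groth.Agent.ProjTens.twist_add n (ULift.{u} ℤ) a b
  unfold Twist.twistOver
  exact ⟨(PullTensH9.pullTensIso _ (isInvertible_OO n a) (isInvertible_OO n b)).symm ≪≫
    (Scheme.Modules.pullback _).mapIso e⟩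

theorem twistOver_zero :
    Nonempty (Twist.twistOver n T 0 ≅ Coh.structureModule (KRR.PY n T)) := by
  obtain ⟨e⟩ := Groth.Agent.ProjTens.twist_zero n (ULift.{u} ℤ)
  unfold Twist.twistOver
  exact ⟨(Scheme.Modules.pullback _).mapIso e ≪≫ PBH8.pullbackUnitIso _⟩

theorem twF_twF (a b : ℤ) (F : (KRR.PY n T).Modules) :
    Nonempty (KRR.twF n T a (KRR.twF n T b F) ≅ KRR.twF n T (a + b) F) := by
  obtain ⟨e⟩ := twistOver_add n T a b
  exact ⟨(Groth.Agent.TensInv.assoc _ _ _).symm ≪≫ Groth.Agent.TensInv.mapR e F⟩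

theorem twF_zero (F : (KRR.PY n T).Modules) : Nonempty (KRR.twF n T 0 F ≅ F) := by
  obtain ⟨e⟩ := twistOver_zero n T
  exact ⟨Groth.Agent.TensInv.mapR e F ≪≫ Groth.Agent.TensInv.comm _ _ ≪≫
    Groth.Agent.TensInv.rightUnit F⟩

theorem twF_congr {a b : ℤ} (h : a = b) (F : (KRR.PY n T).Modules) :
    Nonempty (KRR.twF n T a F ≅ KRR.twF n T b F) := by
  subst h; exact ⟨Iso.refl _⟩

variable {n T}

theorem isZero_RpushAb_of_iso {M M' : (KRR.PY n T).Modules} (e : M ≅ M') (i : ℕ)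
    (h : IsZero ((Coh.RpushAb (KRR.pr n T) i).obj (Coh.toAb M))) :
    IsZero ((Coh.RpushAb (KRR.pr n T) i).obj (Coh.toAb M')) :=
  h.of_iso ((Coh.RpushAb (KRR.pr n T) i).mapIso
    ((SheafOfModules.toSheaf.{u} (KRR.PY n T).ringCatSheaf).mapIso e)).symm

variable (n T)

/-- `F` and `F'(1)` regular imply `F''` regular. -/
theorem isRegSheaf_X₃ (S : ShortComplex (KRR.PY n T).Modules) (hS : S.ShortExact)
    (hreg₂ : KRR.IsRegSheaf n T S.X₂) (hreg₁ : KRR.IsRegSheaf n T (KRR.twF n T 1 S.X₁)) :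
    KRR.IsRegSheaf n T S.X₃ := by
  intro i hi
  refine Groth.Agent.Lib.FAcyc.isZero_X₃ (Coh.pushAb (KRR.pr n T)) _
    (shortExact_toAb_twF n T S hS (-(i : ℤ))) i (hreg₂ i hi) ?_
  have h1 := hreg₁ (i + 1) (by omega)
  obtain ⟨e⟩ := twF_twF n T (-((i + 1 : ℕ) : ℤ)) 1 S.X₁
  obtain ⟨e'⟩ := twF_congr n T (show -((i + 1 : ℕ) : ℤ) + 1 = -(i : ℤ) by push_cast; ring) S.X₁
  exact isZero_RpushAb_of_iso (e ≪≫ e') (i + 1) h1

end KRRRegH9

namespace KRRRegH9

open AlgebraicGeometry CategoryTheory CategoryTheory.Limits TopologicalSpace Opposite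
open PFormH9

universe u v w

section LES

variable {A : Type u} [Category.{v} A] [Abelian A] [HasInjectiveResolutions A]
  {B : Type w} [Category.{v} B] [Abelian B] (F : A ⥤ B) [F.Additive]

/-- `R¹F(X₁) = 0` as soon as `R⁰F(g)` is an epimorphism and `R¹F(X₂) = 0`. -/
lemma isZero_X₁_of_epi (S : ShortComplex A) (hS : S.ShortExact)
    (hepi : Epi ((F.rightDerived 0).map S.g)) (h₂ : IsZero ((F.rightDerived 1).obj S.X₂)) :
    IsZero ((F.rightDerived 1).obj S.X₁) := by
  haveI := Groth.Agent.Lib.FAcyc.enoughInjectives (A := A)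
  have hδ : (Groth.Agent.Lib.Horseshoe0.derivedLES F).δ S hS 0 1 rfl = 0 := by
    rw [← cancel_epi ((F.rightDerived 0).map S.g), (Groth.Agent.Lib.Horseshoe0.derivedLES F).comp_δ, Limits.comp_zero]
  have hm : Mono ((F.rightDerived 1).map S.f) :=
    ((Groth.Agent.Lib.Horseshoe0.derivedLES F).exact₁ S hS 0 1 rfl).mono_g hδ
  exact IsZero.of_mono ((F.rightDerived 1).map S.f) h₂

end LES

end KRRRegH9

namespace KRRRegH9

open AlgebraicGeometry CategoryTheory CategoryTheory.Limits TopologicalSpace Opposite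
open PFormH9

universe u

variable (n : ℕ) (T : Scheme.{u})

/-- Passing to abelian sheaves keeps a sequence of modules short exact. -/
theorem shortExact_toAb (S : ShortComplex (KRR.PY n T).Modules) (hS : S.ShortExact) :
    (S.map (SheafOfModules.toSheaf.{u} (KRR.PY n T).ringCatSheaf)).ShortExact := by
  have := Groth.Agent.Lib.ModSiteH8.toSheaf_preservesColimitsOfSize (KRR.PY n T).ringCatSheaf
  have hc : PreservesFiniteColimits (SheafOfModules.toSheaf.{u} (KRR.PY n T).ringCatSheaf) :=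
    ⟨fun _ _ _ => inferInstance⟩
  have hl : PreservesFiniteLimits (SheafOfModules.toSheaf.{u} (KRR.PY n T).ringCatSheaf) :=
    inferInstance
  let G : (KRR.PY n T).Modules ⥤
      Sheaf (Opens.grothendieckTopology (KRR.PY n T)) AddCommGrpCat.{u} :=
    SheafOfModules.toSheaf.{u} (KRR.PY n T).ringCatSheaf
  haveI : PreservesFiniteColimits G := hc
  haveI : PreservesFiniteLimits G := hl
  haveI : G.Additive := inferInstanceAs (SheafOfModules.toSheaf.{u} (KRR.PY n T).ringCatSheaf).Additive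
  exact hS.map_of_exact G

/-- the underlying map of abelian sheaves of an epimorphism of modules on `T` is an epimorphism. -/
theorem epi_toAb {M N : T.Modules} (g : M ⟶ N) [Epi g] :
    Epi ((SheafOfModules.toSheaf.{u} T.ringCatSheaf).map g) := by
  have := Groth.Agent.Lib.ModSiteH8.toSheaf_preservesColimitsOfSize T.ringCatSheaf
  have hc : PreservesFiniteColimits (SheafOfModules.toSheaf.{u} T.ringCatSheaf) :=
    ⟨fun _ _ _ => inferInstance⟩
  let G : T.Modules ⥤ Sheaf (Opens.grothendieckTopology T) AddCommGrpCat.{u} :=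
    SheafOfModules.toSheaf.{u} T.ringCatSheaf
  haveI : PreservesFiniteColimits G := hc
  exact inferInstanceAs (Epi (G.map g))

/-- `F(1)` and `F''` regular and `p_* F ⟶ p_* F''` epi imply `F'(1)` regular. -/
theorem isRegSheaf_twF_one_X₁ (S : ShortComplex (KRR.PY n T).Modules) (hS : S.ShortExact)
    (hreg₂ : KRR.IsRegSheaf n T (KRR.twF n T 1 S.X₂)) (hreg₃ : KRR.IsRegSheaf n T S.X₃)
    (hepi : Epi ((Scheme.Modules.pushforward (KRR.pr n T)).map S.g)) :
    KRR.IsRegSheaf n T (KRR.twF n T 1 S.X₁) := by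
  intro i hi
  obtain ⟨j, rfl⟩ : ∃ j, i = j + 1 := ⟨i - 1, by omega⟩
  have key : ∀ X : (KRR.PY n T).Modules,
      Nonempty (KRR.twF n T (-((j + 1 : ℕ) : ℤ)) (KRR.twF n T 1 X) ≅
        KRR.twF n T (-(j : ℤ)) X) := fun X => by
    obtain ⟨e⟩ := twF_twF n T (-((j + 1 : ℕ) : ℤ)) 1 X
    obtain ⟨e'⟩ := twF_congr n T (show -((j + 1 : ℕ) : ℤ) + 1 = -(j : ℤ) by push_cast; ring) X
    exact ⟨e ≪≫ e'⟩
  obtain ⟨e₁⟩ := key S.X₁
  obtain ⟨e₂⟩ := key S.X₂
  refine isZero_RpushAb_of_iso e₁.symm (j + 1) ?_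
  have h₂ : IsZero ((Coh.RpushAb (KRR.pr n T) (j + 1)).obj
      (Coh.toAb (KRR.twF n T (-(j : ℤ)) S.X₂))) :=
    isZero_RpushAb_of_iso e₂ (j + 1) (hreg₂ (j + 1) hi)
  cases j with
  | zero =>
    have key0 : ∀ X : (KRR.PY n T).Modules,
        Nonempty (KRR.twF n T (-((0 : ℕ) : ℤ)) X ≅ X) := fun X => by
      obtain ⟨e⟩ := twF_congr n T (show -((0 : ℕ) : ℤ) = 0 by simp) X
      obtain ⟨e'⟩ := twF_zero n T X
      exact ⟨e ≪≫ e'⟩
    obtain ⟨z₁⟩ := key0 S.X₁
    obtain ⟨z₂⟩ := key0 S.X₂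
    refine isZero_RpushAb_of_iso z₁.symm 1 ?_
    have h₂' := isZero_RpushAb_of_iso z₂ 1 h₂
    refine isZero_X₁_of_epi (Coh.pushAb (KRR.pr n T)) _ (shortExact_toAb n T S hS) ?_ h₂'
    haveI := epi_toAb T ((Scheme.Modules.pushforward (KRR.pr n T)).map S.g)
    have h3 : Epi ((Coh.pushAb (KRR.pr n T)).map
        ((SheafOfModules.toSheaf.{u} (KRR.PY n T).ringCatSheaf).map S.g)) :=
      inferInstanceAs (Epi ((SheafOfModules.toSheaf.{u} T.ringCatSheaf).map
        ((Scheme.Modules.pushforward (KRR.pr n T)).map S.g)))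
    let e := (Coh.pushAb (KRR.pr n T)).rightDerivedZeroIsoSelf
    have h4 : ((Coh.pushAb (KRR.pr n T)).rightDerived 0).map
        ((SheafOfModules.toSheaf.{u} (KRR.PY n T).ringCatSheaf).map S.g) =
        e.hom.app _ ≫ (Coh.pushAb (KRR.pr n T)).map
          ((SheafOfModules.toSheaf.{u} (KRR.PY n T).ringCatSheaf).map S.g) ≫ e.inv.app _ := by
      rw [← e.hom.naturality_assoc, Iso.hom_inv_id_app, Category.comp_id]
    change Epi (((Coh.pushAb (KRR.pr n T)).rightDerived 0).map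
        ((SheafOfModules.toSheaf.{u} (KRR.PY n T).ringCatSheaf).map S.g))
    rw [h4]
    infer_instance
  | succ j =>
    exact Groth.Agent.Lib.FAcyc.isZero_X₁ (Coh.pushAb (KRR.pr n T)) _
      (shortExact_toAb_twF n T S hS (-((j + 1 : ℕ) : ℤ))) (j + 1)
      (hreg₃ (j + 1) (by omega)) h₂

end KRRRegH9
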