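import Mathlib
import Groth.Agent.Lib.ResCoh_helper9

/-!
# Transfer of `Ext` groups along an exact functor (helper9)

Abstract form of the dimension-shifting argument of `ResCoh`: let `G : C ⥤ D` be an exact additive
functor between abelian categories (`C` with enough injectives), `K : C`, `K' : D`, with a natural
additive bijection `(K ⟶ F) ≃+ (K' ⟶ G F)` and such that `G` sends injectives to `K'`-acyclic
objects.  Then `Ext^n(K, F) ≃+ Ext^n(K', G F)` for all `n`.
APPEND-ONLY once landed.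
-/

set_option autoImplicit false

universe w w'

open CategoryTheory CategoryTheory.Limits

namespace ExtTransferH9

variable {C : Type*} [Category C] [Abelian C] [HasExt.{w} C] [EnoughInjectives C]
  {D : Type*} [Category D] [Abelian D] [HasExt.{w'} D]
  (G : C ⥤ D) [G.Additive] [PreservesFiniteLimits G] [PreservesFiniteColimits G]
  (K : C) (K' : D)
  (τ : ∀ F : C, (K ⟶ F) ≃+ (K' ⟶ G.obj F))
  (hτ : ∀ {F F' : C} (a : K ⟶ F) (φ : F ⟶ F'), τ F' (a ≫ φ) = τ F a ≫ G.map φ)
  (hacyc : ∀ (I : C), Injective I → ∀ (n : ℕ) (ξ : Abelian.Ext K' (G.obj I) (n + 1)), ξ = 0)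

/-- The standard short exact sequence `F ⟶ I ⟶ I/F` with `I` injective. -/
noncomputable abbrev SS (F : C) : ShortComplex C :=
  ShortComplex.mk (Injective.ι F) (cokernel.π (Injective.ι F)) (cokernel.condition _)

theorem SS_shortExact (F : C) : (SS F).ShortExact :=
  ShortComplex.ShortExact.mk' (ShortComplex.exact_cokernel (Injective.ι F))
    (inferInstanceAs (Mono (Injective.ι F))) (inferInstanceAs (Epi (cokernel.π (Injective.ι F))))

theorem SS_map_shortExact (F : C) : ((SS F).map G).ShortExact :=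
  (SS_shortExact F).map_of_exact G

theorem vanX (F : C) (n : ℕ) (ξ : Abelian.Ext K (SS F).X₂ (n + 1)) : ξ = 0 :=
  Abelian.Ext.eq_zero_of_injective (I := Injective.under F) ξ

include hacyc in
theorem vanU (F : C) (n : ℕ) (ξ : Abelian.Ext K' ((SS F).map G).X₂ (n + 1)) : ξ = 0 :=
  hacyc (Injective.under F) (Injective.injective_under F) n ξ

include τ in
theorem nonempty_zero (F : C) :
    Nonempty (Abelian.Ext K F 0 ≃+ Abelian.Ext K' (G.obj F) 0) :=
  ⟨Abelian.Ext.addEquiv₀.trans ((τ F).trans Abelian.Ext.addEquiv₀.symm)⟩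

include hτ hacyc in
theorem nonempty_one (F : C) :
    Nonempty (Abelian.Ext K F 1 ≃+ Abelian.Ext K' (G.obj F) 1) := by
  have hS := SS_shortExact F
  have hS' := SS_map_shortExact G F
  let φ : (K ⟶ (SS F).X₃) →+ Abelian.Ext K F 1 :=
    (hS.extClass.postcomp K (zero_add 1)).comp
      (Abelian.Ext.addEquiv₀ (X := K) (Y := (SS F).X₃)).symm.toAddMonoidHom
  let ψ : (K ⟶ (SS F).X₃) →+ Abelian.Ext K' (G.obj F) 1 :=
    (hS'.extClass.postcomp K' (zero_add 1)).comp
      ((Abelian.Ext.addEquiv₀ (X := K') (Y := G.obj (SS F).X₃)).symm.toAddMonoidHom.comp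
        (τ (SS F).X₃).toAddMonoidHom)
  refine Leray.nonempty_addEquiv_of_surj φ ψ ?_ ?_ ?_
  · intro ξ
    obtain ⟨x₃, hx₃⟩ := Abelian.Ext.covariant_sequence_exact₁ _ hS ξ (vanX K F 0 _) (zero_add 1)
    obtain ⟨a, rfl⟩ := (Abelian.Ext.mk₀_bijective _ _).2 x₃
    exact ⟨a, hx₃⟩
  · intro ξ
    obtain ⟨x₃, hx₃⟩ := Abelian.Ext.covariant_sequence_exact₁ _ hS' ξ (vanU G K' hacyc F 0 _)
      (zero_add 1)
    obtain ⟨b, rfl⟩ := (Abelian.Ext.mk₀_bijective _ _).2 x₃
    refine ⟨(τ (SS F).X₃).symm b, ?_⟩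
    show (Abelian.Ext.mk₀ (τ (SS F).X₃ ((τ (SS F).X₃).symm b))).comp hS'.extClass
      (zero_add 1) = ξ
    rw [AddEquiv.apply_symm_apply]
    exact hx₃
  · intro a
    constructor
    · intro h
      have h' : (Abelian.Ext.mk₀ a).comp hS.extClass (zero_add 1) = 0 := h
      obtain ⟨x₂, hx₂⟩ := Abelian.Ext.covariant_sequence_exact₃ _ hS (Abelian.Ext.mk₀ a)
        (zero_add 1) h'
      obtain ⟨b, rfl⟩ := (Abelian.Ext.mk₀_bijective _ _).2 x₂
      rw [Abelian.Ext.mk₀_comp_mk₀] at hx₂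
      have hb : b ≫ (SS F).g = a := (Abelian.Ext.mk₀_bijective _ _).1 hx₂
      show (Abelian.Ext.mk₀ (τ (SS F).X₃ a)).comp hS'.extClass (zero_add 1) = 0
      rw [← hb, hτ]
      exact ResCoh.comp_extClass_zero hS' (τ (SS F).X₂ b)
    · intro h
      have h' : (Abelian.Ext.mk₀ (τ (SS F).X₃ a)).comp hS'.extClass (zero_add 1) = 0 := h
      obtain ⟨x₂, hx₂⟩ := Abelian.Ext.covariant_sequence_exact₃ _ hS'
        (Abelian.Ext.mk₀ (τ (SS F).X₃ a)) (zero_add 1) h'
      obtain ⟨b', rfl⟩ := (Abelian.Ext.mk₀_bijective _ _).2 x₂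
      rw [Abelian.Ext.mk₀_comp_mk₀] at hx₂
      have hb' : b' ≫ G.map (SS F).g = τ (SS F).X₃ a :=
        (Abelian.Ext.mk₀_bijective _ _).1 hx₂
      have hb : (τ (SS F).X₂).symm b' ≫ (SS F).g = a := by
        apply (τ (SS F).X₃).injective
        rw [hτ, AddEquiv.apply_symm_apply]
        exact hb'
      show (Abelian.Ext.mk₀ a).comp hS.extClass (zero_add 1) = 0
      rw [← hb]
      exact ResCoh.comp_extClass_zero hS _

include hacyc in
theorem nonempty_succ_succ (F : C) (n : ℕ)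
    (ih : ∀ F' : C, Nonempty (Abelian.Ext K F' (n + 1) ≃+ Abelian.Ext K' (G.obj F') (n + 1))) :
    Nonempty (Abelian.Ext K F (n + 2) ≃+ Abelian.Ext K' (G.obj F) (n + 2)) := by
  have hS := SS_shortExact F
  have hS' := SS_map_shortExact G F
  obtain ⟨e⟩ := ih (SS F).X₃
  have h1 := ResCoh.delta_bijective hS K n (vanX K F n) (vanX K F (n + 1))
  have h2 := ResCoh.delta_bijective hS' K' n (vanU G K' hacyc F n) (vanU G K' hacyc F (n + 1))
  exact ⟨(AddEquiv.ofBijective _ h1).symm.trans (e.trans (AddEquiv.ofBijective _ h2))⟩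

include hτ hacyc in
theorem nonempty_succ (n : ℕ) : ∀ F : C,
    Nonempty (Abelian.Ext K F (n + 1) ≃+ Abelian.Ext K' (G.obj F) (n + 1)) := by
  induction n with
  | zero => exact fun F => nonempty_one G K K' τ hτ hacyc F
  | succ n ih => exact fun F => nonempty_succ_succ G K K' hacyc F n ih

include hτ hacyc in
/-- **Transfer of `Ext` along an exact functor.** -/
theorem nonempty_addEquiv (n : ℕ) (F : C) :
    Nonempty (Abelian.Ext K F n ≃+ Abelian.Ext K' (G.obj F) n) := by
  cases n with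
  | zero => exact nonempty_zero G K K' τ F
  | succ n => exact nonempty_succ G K K' τ hτ hacyc n F

end ExtTransferH9
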