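import Mathlib
import Groth.Prelude
import Groth.Agent.Lib.ExtTransfer_helper9
import Groth.Agent.Lib.HHVan_helper9

/-!
# Cohomology over the range of an open immersion (helper9)

For an open immersion `σ : P ⟶ X` and an abelian sheaf `F` on `X`:
`Ext^n_X(ℤ_{range σ}, F) ≃+ H^n(P, σ⁻¹ F)`; for a module `M` on `X`, the right side is
`H^n(P, σ^* M)`.
APPEND-ONLY once landed.
-/

set_option autoImplicit false

universe u

open CategoryTheory CategoryTheory.Limits AlgebraicGeometry Opposite TopologicalSpace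
open Groth.Agent.Lib.FreeSheaf Groth.Agent.Lib.FlasqueAcyclic

namespace OpenImmCohH9

open RpushVanish (fr)

variable {P X : Scheme.{u}} (σ : P ⟶ X) [IsOpenImmersion σ]

/-- Restriction of abelian sheaves along an open immersion. -/
noncomputable abbrev resAb :
    Sheaf (Opens.grothendieckTopology X) AddCommGrpCat.{u} ⥤
      Sheaf (Opens.grothendieckTopology P) AddCommGrpCat.{u} :=
  σ.opensFunctor.sheafPushforwardContinuous AddCommGrpCat.{u}
    (Opens.grothendieckTopology P) (Opens.grothendieckTopology X)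

theorem toAb_restrict (M : X.Modules) :
    Coh.toAb ((Scheme.Modules.restrictFunctor σ).obj M) = (resAb σ).obj (Coh.toAb M) := rfl

noncomputable instance : (resAb σ).IsLeftAdjoint :=
  (σ.opensFunctor.sheafAdjunctionCocontinuous AddCommGrpCat.{u}
    (Opens.grothendieckTopology P) (Opens.grothendieckTopology X)).isLeftAdjoint

instance : (resAb σ).Additive where

/-- Maps from `ℤ_{σ(P)}` to `G` are global sections of `σ⁻¹ G`. -/
noncomputable def tau (G : Sheaf (Opens.grothendieckTopology X) AddCommGrpCat.{u}) :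
    (fr (Y := X.carrier) (σ ''ᵁ ⊤) ⟶ G) ≃+ (Leray.KK P.carrier ⟶ (resAb σ).obj G) :=
  (AddEquiv.mk' (freeSheafHomEquiv (Opens.grothendieckTopology X) (σ ''ᵁ ⊤) G)
    (ResCoh.homEquiv_add _ G)).trans (Leray.constAddEquiv ((resAb σ).obj G)).symm

theorem const_tau (G : Sheaf (Opens.grothendieckTopology X) AddCommGrpCat.{u})
    (a : fr (Y := X.carrier) (σ ''ᵁ ⊤) ⟶ G) :
    Leray.constAddEquiv ((resAb σ).obj G) (tau σ G a) =
      freeSheafHomEquiv (Opens.grothendieckTopology X) (σ ''ᵁ ⊤) G a :=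
  AddEquiv.apply_symm_apply _ _

theorem tau_comp {G G' : Sheaf (Opens.grothendieckTopology X) AddCommGrpCat.{u}}
    (a : fr (Y := X.carrier) (σ ''ᵁ ⊤) ⟶ G) (φ : G ⟶ G') :
    tau σ G' (a ≫ φ) = tau σ G a ≫ (resAb σ).map φ := by
  apply (Leray.constAddEquiv ((resAb σ).obj G')).injective
  rw [Leray.constAddEquiv_comp, const_tau, const_tau, freeSheafHomEquiv_comp]
  rfl

theorem acyc (I : Sheaf (Opens.grothendieckTopology X) AddCommGrpCat.{u}) (hI : Injective I)
    (n : ℕ) (ξ : Abelian.Ext (Leray.KK P.carrier) ((resAb σ).obj I) (n + 1)) : ξ = 0 := by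
  haveI := hI
  haveI hfl : TopCat.Sheaf.IsFlasque (X := X.carrier) I := isFlasque_of_injective (X := X.carrier) I
  haveI hfl' : TopCat.Sheaf.IsFlasque (X := P.carrier) ((resAb σ).obj I) :=
    ⟨fun {W W'} i => hfl.epi (σ.opensFunctor.op.map i)⟩
  exact H_eq_zero_of_isFlasque (X := P.carrier) ((resAb σ).obj I) n ξ

/-- **Cohomology over the image of an open immersion.** -/
theorem nonempty_ext_addEquiv (F : Sheaf (Opens.grothendieckTopology X) AddCommGrpCat.{u})
    (n : ℕ) :
    Nonempty (Abelian.Ext (fr (Y := X.carrier) σ.opensRange) F n ≃+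
      Abelian.Ext (Leray.KK P.carrier) ((resAb σ).obj F) n) := by
  have key : ∀ V : X.Opens, σ ''ᵁ ⊤ = V → Nonempty (Abelian.Ext (fr (Y := X.carrier) V) F n ≃+
      Abelian.Ext (Leray.KK P.carrier) ((resAb σ).obj F) n) := by
    rintro V rfl
    exact ExtTransferH9.nonempty_addEquiv (resAb σ) (fr (Y := X.carrier) (σ ''ᵁ ⊤))
      (Leray.KK P.carrier) (tau σ) (fun a φ => tau_comp σ a φ) (acyc σ) n F
  exact key _ (Scheme.Hom.image_top_eq_opensRange σ)

/-- If `H^n(P, σ^* M) = 0` then `Ext^n_X(ℤ_{σ(P)}, M) = 0`. -/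
theorem ext_eq_zero_of_subsingleton (M : X.Modules) (n : ℕ)
    (h : Subsingleton (Coh.HH P ((Scheme.Modules.pullback σ).obj M) n))
    (ξ : Abelian.Ext (fr (Y := X.carrier) σ.opensRange) (Coh.toAb M) n) : ξ = 0 := by
  have h' : Subsingleton (Coh.HH P ((Scheme.Modules.restrictFunctor σ).obj M) n) :=
    Groth.Agent.HHVan.subsingleton_of_iso
      ((Scheme.Modules.restrictFunctorIsoPullback σ).app M).symm n h
  obtain ⟨e⟩ := nonempty_ext_addEquiv σ (Coh.toAb M) n
  apply e.injective
  exact @Subsingleton.elim _ h' _ _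

end OpenImmCohH9

namespace OpenImmCohH9

open RpushVanish (fr)

variable {P X : Scheme.{u}} (σ : P ⟶ X) [IsOpenImmersion σ]

/-- `Ext^n_X(ℤ_{σ(P)}, M) = 0` iff `H^n(P, M|_P) = 0`. -/
theorem ext_vanish_iff_restrict (M : X.Modules) (n : ℕ) :
    (∀ ξ : Abelian.Ext (fr (Y := X.carrier) σ.opensRange) (Coh.toAb M) n, ξ = 0) ↔
      Subsingleton (Coh.HH P (M.restrict σ) n) := by
  obtain ⟨e⟩ := nonempty_ext_addEquiv σ (Coh.toAb M) n
  constructor
  · intro h
    refine ⟨fun x y => ?_⟩
    have hx : ∀ z : Coh.HH P (M.restrict σ) n, z = 0 := fun z => by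
      have h1 : e (e.symm z) = z := e.apply_symm_apply z
      rw [← h1, h (e.symm z), map_zero]
      rfl
    rw [hx x, hx y]
  · intro h ξ
    apply e.injective
    exact @Subsingleton.elim _ h _ _

end OpenImmCohH9
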