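import Mathlib

/-!
# Homogeneous localisation away from an element commutes with base change (helper5)
-/

set_option autoImplicit false
universe u

namespace Groth.Agent.ProjBC

open HomogeneousLocalization TensorProduct DirectSum

section Alg

variable {R' R B A : Type u} [CommRing R'] [CommRing R] [Algebra R' R]
  [CommRing B] [Algebra R' B] (ℬ : ℕ → Submodule R' B) [GradedAlgebra ℬ]

/-- The structure map `R' → B_(g)`. -/
noncomputable def rho (g : B) : R' →+* Away ℬ g :=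
  (fromZeroRingHom ℬ _).comp (algebraMap R' (ℬ 0))

theorem val_rho (g : B) (r : R') :
    (rho ℬ g r).val = Localization.mk (algebraMap R' B r) (1 : Submonoid.powers g) := by
  rfl

/-- The `R'`-algebra structure on `B_(g)`. -/
@[reducible] noncomputable def algAway (g : B) : Algebra R' (Away ℬ g) where
  toSMul := HomogeneousLocalization.instSMul _
  algebraMap := rho ℬ g
  commutes' r x := mul_comm _ _
  smul_def' r x := by
    apply val_injective
    rw [val_smul, val_mul, val_rho, Algebra.smul_def, IsScalarTower.algebraMap_apply R' B,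
      Localization.mk_one_eq_algebraMap]

attribute [local instance] algAway

variable {n : ℕ} {g : B} (hg : g ∈ ℬ n)

/-- `b ↦ b_{kn} / g^k`. -/
noncomputable def mkFun (k : ℕ) (b : B) : Away ℬ g :=
  Away.mk ℬ hg k (GradedAlgebra.proj ℬ (k • n) b)
    (by rw [GradedAlgebra.proj_apply]; exact SetLike.coe_mem _)

theorem val_mkFun (k : ℕ) (b : B) : (mkFun ℬ hg k b).val =
    Localization.mk (GradedAlgebra.proj ℬ (k • n) b)
      (⟨g ^ k, by use k⟩ : Submonoid.powers g) := rfl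

/-- `b ↦ b_{kn} / g^k` as an `R'`-linear map. -/
noncomputable def mkLin (k : ℕ) : B →ₗ[R'] Away ℬ g where
  toFun := mkFun ℬ hg k
  map_add' x y := by
    apply val_injective
    rw [val_add, val_mkFun, val_mkFun, val_mkFun, map_add, Localization.add_mk_self]
  map_smul' r x := by
    apply val_injective
    show val (mkFun ℬ hg k (r • x)) = val (r • mkFun ℬ hg k x)
    rw [val_smul, val_mkFun, val_mkFun, map_smul, Localization.smul_mk]

theorem mkLin_apply (k : ℕ) (b : B) : mkLin ℬ hg k b = mkFun ℬ hg k b := rfl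

theorem mkFun_of_mem (k : ℕ) (b : B) (hb : b ∈ ℬ (k • n)) :
    mkFun ℬ hg k b = Away.mk ℬ hg k b hb := by
  apply val_injective
  rw [val_mkFun, Away.val_mk]
  congr 1
  rw [GradedAlgebra.proj_apply, DirectSum.decompose_of_mem_same ℬ hb]

theorem mkFun_mul (k m : ℕ) (b : B) : mkFun ℬ hg (k + m) (g ^ m * b) = mkFun ℬ hg k b := by
  apply val_injective
  rw [val_mkFun, val_mkFun, Localization.mk_eq_mk_iff, Localization.r_iff_exists]
  refine ⟨1, ?_⟩
  have h1 : GradedAlgebra.proj ℬ ((k + m) • n) (g ^ m * b) =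
      g ^ m * GradedAlgebra.proj ℬ (k • n) b := by
    rw [GradedAlgebra.proj_apply, GradedAlgebra.proj_apply]
    have h2 : (k + m) • n = m • n + k • n := by rw [add_smul, add_comm]
    rw [h2]
    exact DirectSum.coe_decompose_mul_add_of_left_mem ℬ (SetLike.pow_mem_graded m hg)
  simp only [OneMemClass.coe_one, one_mul]
  rw [h1, pow_add]
  ring

end Alg

section Main

variable {R' R B A : Type u} [CommRing R'] [CommRing R] [Algebra R' R]
  [CommRing B] [Algebra R' B] (ℬ : ℕ → Submodule R' B) [GradedAlgebra ℬ]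
  [CommRing A] [Algebra R A] [Algebra R' A] [IsScalarTower R' R A]
  (𝒜 : ℕ → Submodule R A) [GradedAlgebra 𝒜]
  [Algebra B A] [IsScalarTower R' B A] [Algebra.IsPushout R' R B A]
  (φ : ℬ →+*ᵍ 𝒜) (hφA : ∀ b : B, φ b = algebraMap B A b)
  {n : ℕ} {g : B} (hg : g ∈ ℬ n)

attribute [local instance] algAway

/-- The `R`-linear map `a ↦ "a_{kn} / g^k"` from `A = R ⊗ B` to `R ⊗ B_(g)`. -/
noncomputable def theta (k : ℕ) : A →ₗ[R] R ⊗[R'] Away ℬ g :=
  (Algebra.IsPushout.out (R := R') (S := R) (R' := B) (S' := A)).lift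
    ((TensorProduct.mk R' R (Away ℬ g) 1).comp (mkLin ℬ hg k))

theorem theta_algebraMap (k : ℕ) (b : B) :
    theta (R := R) (A := A) ℬ hg k (algebraMap B A b) = 1 ⊗ₜ mkFun ℬ hg k b := by
  have := (Algebra.IsPushout.out (R := R') (S := R) (R' := B) (S' := A)).lift_eq
    ((TensorProduct.mk R' R (Away ℬ g) 1).comp (mkLin ℬ hg k)) b
  exact this

theorem theta_mul (k m : ℕ) (a : A) :
    theta (R := R) (A := A) ℬ hg (k + m) (algebraMap B A g ^ m * a) =
      theta (R := R) (A := A) ℬ hg k a := by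
  refine (Algebra.IsPushout.out (R := R') (S := R) (R' := B) (S' := A)).inductionOn a _ ?_ ?_ ?_ ?_
  · simp
  · intro b
    show theta (R := R) (A := A) ℬ hg (k + m) (algebraMap B A g ^ m * algebraMap B A b) =
      theta (R := R) (A := A) ℬ hg k (algebraMap B A b)
    rw [← map_pow, ← map_mul, theta_algebraMap, theta_algebraMap, mkFun_mul]
  · intro r a h
    rw [mul_smul_comm, map_smul, map_smul, h]
  · intro a₁ a₂ h₁ h₂
    rw [mul_add, map_add, map_add, h₁, h₂]

include hφA in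
theorem rho_comp : (rho 𝒜 (φ g)).comp (algebraMap R' R) = (Away.map φ g).comp (rho ℬ g) := by
  ext r
  show (rho 𝒜 (φ g) (algebraMap R' R r)).val = (Away.map φ g (rho ℬ g r)).val
  rw [val_rho]
  show _ = Localization.mk (φ (algebraMap R' B r)) ⟨φ 1, _⟩
  have h1 : φ (algebraMap R' B r) = algebraMap R A (algebraMap R' R r) := by
    rw [hφA, ← IsScalarTower.algebraMap_apply, ← IsScalarTower.algebraMap_apply]
  rw [Localization.mk_eq_mk_iff, Localization.r_iff_exists]
  exact ⟨1, by simp [h1]⟩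

/-- The `R'`-algebra structure on `A_(φ g)`. -/
@[reducible] noncomputable def algAway' : Algebra R' (Away 𝒜 (φ g)) :=
  ((rho 𝒜 (φ g)).comp (algebraMap R' R)).toAlgebra

/-- The `B_(g)`-algebra structure on `A_(φ g)`. -/
@[reducible] noncomputable def algAwayMap : Algebra (Away ℬ g) (Away 𝒜 (φ g)) :=
  (Away.map φ g).toAlgebra

attribute [local instance] algAway' algAwayMap

theorem isScalarTower₁ : IsScalarTower R' R (Away 𝒜 (φ g)) :=
  @IsScalarTower.of_algebraMap_eq' R' R (Away 𝒜 (φ g)) _ _ _ _ (algAway 𝒜 (φ g)) _ rfl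

include hφA in
theorem isScalarTower₂ : IsScalarTower R' (Away ℬ g) (Away 𝒜 (φ g)) :=
  @IsScalarTower.of_algebraMap_eq' R' (Away ℬ g) (Away 𝒜 (φ g)) _ _ _ (algAway ℬ g) _ _
    (rho_comp ℬ 𝒜 φ hφA)

attribute [local instance] isScalarTower₁

/-- `Away.map φ g` as an `R'`-linear map. -/
noncomputable def psiLin : Away ℬ g →ₗ[R'] Away 𝒜 (φ g) :=
  haveI := isScalarTower₂ ℬ 𝒜 φ hφA (g := g)
  (IsScalarTower.toAlgHom R' (Away ℬ g) (Away 𝒜 (φ g))).toLinearMap

theorem psiLin_apply (x : Away ℬ g) : psiLin ℬ 𝒜 φ hφA x = Away.map φ g x := rfl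

/-- The comparison map `R ⊗ B_(g) → A_(φ g)`. -/
noncomputable def Psi : R ⊗[R'] Away ℬ g →ₗ[R] Away 𝒜 (φ g) :=
  LinearMap.liftBaseChange R (psiLin ℬ 𝒜 φ hφA)

theorem val_Psi_tmul (r : R) (k : ℕ) (b : B) (hb : b ∈ ℬ (k • n)) :
    (Psi ℬ 𝒜 φ hφA (r ⊗ₜ Away.mk ℬ hg k b hb)).val =
      Localization.mk (r • algebraMap B A b) (⟨φ g ^ k, by use k⟩ : Submonoid.powers (φ g)) := by
  rw [Psi, LinearMap.liftBaseChange_tmul, val_smul, psiLin_apply,
    Away.map_mk φ g hg k b hb, Away.val_mk, Localization.smul_mk, hφA b]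

theorem exists_rep (t : R ⊗[R'] Away ℬ g) : ∃ (k : ℕ) (a : A),
    (Psi ℬ 𝒜 φ hφA t).val = Localization.mk a (⟨φ g ^ k, by use k⟩ : Submonoid.powers (φ g)) ∧
      theta (R := R) (A := A) ℬ hg k a = t := by
  induction t using TensorProduct.induction_on with
  | zero => exact ⟨0, 0, by simp [Localization.mk_zero], by simp⟩
  | tmul r x =>
    obtain ⟨k, b, hb, rfl⟩ := Away.mk_surjective ℬ hg x
    refine ⟨k, r • algebraMap B A b, val_Psi_tmul ℬ 𝒜 φ hφA hg r k b hb, ?_⟩
    rw [map_smul, theta_algebraMap, mkFun_of_mem ℬ hg k b hb, TensorProduct.smul_tmul',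
      smul_eq_mul, mul_one]
  | add t₁ t₂ h₁ h₂ =>
    obtain ⟨k₁, a₁, e₁, f₁⟩ := h₁
    obtain ⟨k₂, a₂, e₂, f₂⟩ := h₂
    refine ⟨k₁ + k₂, algebraMap B A g ^ k₂ * a₁ + algebraMap B A g ^ k₁ * a₂, ?_, ?_⟩
    · rw [map_add, val_add, e₁, e₂, Localization.add_mk]
      rw [Localization.mk_eq_mk_iff, Localization.r_iff_exists]
      refine ⟨1, ?_⟩
      simp only [OneMemClass.coe_one, one_mul, Submonoid.coe_mul, hφA]
      ring
    · rw [map_add, theta_mul, add_comm k₁ k₂, theta_mul, f₁, f₂]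

include hg in
theorem Psi_injective : Function.Injective (Psi ℬ 𝒜 φ hφA (g := g)) := by
  rw [injective_iff_map_eq_zero]
  intro t ht
  obtain ⟨k, a, e, f⟩ := exists_rep ℬ 𝒜 φ hφA hg t
  rw [ht, val_zero, eq_comm, Localization.mk_eq_mk', IsLocalization.mk'_eq_zero_iff] at e
  obtain ⟨⟨_, m, rfl⟩, hm⟩ := e
  have hm' : algebraMap B A g ^ m * a = 0 := by
    rw [← hφA g]
    exact hm
  rw [← f, ← theta_mul ℬ hg k m a, hm', map_zero]

theorem Psi_theta (k : ℕ) (a : A) :
    Psi ℬ 𝒜 φ hφA (theta (R := R) (A := A) ℬ hg k a) = mkFun 𝒜 (Graded.map_mem φ hg : φ g ∈ 𝒜 n) k a := by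
  refine (Algebra.IsPushout.out (R := R') (S := R) (R' := B) (S' := A)).inductionOn a _ ?_ ?_ ?_ ?_
  · rw [map_zero, map_zero, ← mkLin_apply, map_zero]
  · intro b
    show Psi ℬ 𝒜 φ hφA (theta (R := R) (A := A) ℬ hg k (algebraMap B A b)) =
      mkFun 𝒜 (Graded.map_mem φ hg : φ g ∈ 𝒜 n) k (algebraMap B A b)
    rw [theta_algebraMap, Psi, LinearMap.liftBaseChange_tmul, one_smul, psiLin_apply]
    apply val_injective
    rw [val_mkFun]
    show (Away.map φ g (Away.mk ℬ hg k _ _)).val = _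
    rw [Away.map_mk, Away.val_mk]
    congr 1
    rw [GradedAlgebra.proj_apply, GradedAlgebra.proj_apply,
      GradedRingHom.map_directSumDecompose, hφA b]
  · intro r a h
    rw [map_smul, map_smul, h, ← mkLin_apply, ← mkLin_apply, map_smul]
  · intro a₁ a₂ h₁ h₂
    rw [map_add, map_add, h₁, h₂, ← mkLin_apply, ← mkLin_apply, ← mkLin_apply, map_add]

include hg in
theorem Psi_surjective : Function.Surjective (Psi ℬ 𝒜 φ hφA (g := g)) := by
  intro y
  obtain ⟨k, a, ha, rfl⟩ := Away.mk_surjective 𝒜 (Graded.map_mem φ hg : φ g ∈ 𝒜 n) y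
  exact ⟨theta (R := R) (A := A) ℬ hg k a, by
    rw [Psi_theta, mkFun_of_mem 𝒜 (Graded.map_mem φ hg : φ g ∈ 𝒜 n) k a ha]⟩

include hg hφA in
/-- Homogeneous localisation away from `g` commutes with base change: the square
`R' → R`, `R' → B_(g)`, `R → A_(φ g)`, `B_(g) → A_(φ g)` is a pushout of commutative rings. -/
theorem isPushout_away :
    CategoryTheory.IsPushout (CommRingCat.ofHom (algebraMap R' R)) (CommRingCat.ofHom (rho ℬ g))
      (CommRingCat.ofHom (rho 𝒜 (φ g))) (CommRingCat.ofHom (Away.map φ g)) := by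
  haveI := isScalarTower₂ ℬ 𝒜 φ hφA (g := g)
  have h : Algebra.IsPushout R' R (Away ℬ g) (Away 𝒜 (φ g)) := by
    constructor
    refine IsBaseChange.of_equiv (LinearEquiv.ofBijective (Psi ℬ 𝒜 φ hφA)
      ⟨Psi_injective ℬ 𝒜 φ hφA hg, Psi_surjective ℬ 𝒜 φ hφA hg⟩) (fun x => ?_)
    show Psi ℬ 𝒜 φ hφA (1 ⊗ₜ x) = _
    rw [Psi, LinearMap.liftBaseChange_tmul, one_smul]
    rfl
  exact CommRingCat.isPushout_of_isPushout R' R (Away ℬ g) (Away 𝒜 (φ g))

end Main

end Groth.Agent.ProjBC
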