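import Mathlib

/-!
# A square of schemes is cartesian if it is so on sections over enough affine opens (helper5)
-/

set_option autoImplicit false
universe u

namespace Groth.Agent.PullbackLocal

open CategoryTheory Limits AlgebraicGeometry TopologicalSpace Opposite

theorem appLE_congr {Z T : Scheme.{u}} {g₁ g₂ : Z ⟶ T} (e : g₁ = g₂) (U : T.Opens) (W : Z.Opens)
    (e₁ : W ≤ g₁ ⁻¹ᵁ U) (e₂ : W ≤ g₂ ⁻¹ᵁ U) : g₁.appLE U W e₁ = g₂.appLE U W e₂ := by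
  subst e; rfl

theorem isIso_of_cover {X Y : Scheme.{u}} (f : X ⟶ Y)
    (H : ∀ y : Y, ∃ (U : Y.Opens) (V : X.Opens) (e : V = f ⁻¹ᵁ U), y ∈ U ∧ IsAffineOpen U ∧
      IsAffineOpen V ∧ IsIso (f.appLE U V e.le)) : IsIso f := by
  choose U V e hU using H
  refine HasAffineProperty.of_iSup_eq_top (P := MorphismProperty.isomorphisms Scheme)
    (fun p => ⟨U p, (hU p).2.1⟩) ?_ ?_
  · rw [eq_top_iff]
    intro p _
    exact Opens.mem_iSup.mpr ⟨p, (hU p).1⟩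
  · intro p
    have hV : IsAffineOpen (f ⁻¹ᵁ U p) := by rw [← e p]; exact (hU p).2.2.1
    refine ⟨hV, ?_⟩
    show IsIso ((f ∣_ U p).appTop)
    rw [morphismRestrict_appTop]
    have h0 : (U p).ι ''ᵁ ⊤ = U p := by simp
    have h1 : ∀ (U' : Y.Opens) (hU' : U' = U p), IsIso (f.app U') := by
      intro U' hU'
      subst hU'
      have h2 := (hU p).2.2.2
      have h3 : ∀ (V' : X.Opens) (e' : V' = f ⁻¹ᵁ U p), IsIso (f.appLE (U p) V' e'.le) →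
          IsIso (f.app (U p)) := by
        intro V' e' h
        subst e'
        rw [Scheme.Hom.app_eq_appLE]
        exact h
      exact h3 _ (e p) h2
    have h4 : IsIso (X.presheaf.map
        (eqToHom (image_morphismRestrict_preimage f (U p) ⊤)).op) := inferInstance
    exact @IsIso.comp_isIso _ _ _ _ _ _ _ (h1 _ h0) h4

/-- A commutative square of schemes is cartesian as soon as every pair of points `(t, x)` with the
same image in the base lies in a triple of affine opens over which the sections form a pushout. -/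
theorem isPullback_of_local {T W X U₁ : Scheme.{u}} (k : T ⟶ W) (a : X ⟶ W) (a₁ : U₁ ⟶ T)
    (u : U₁ ⟶ X) (ha : a₁ ≫ k = u ≫ a)
    (H : ∀ (t : T) (x : X), k t = a x → ∃ (W₀ : W.Opens) (T₀ : T.Opens) (X₀ : X.Opens)
      (U₀ : U₁.Opens) (hT : T₀ ≤ k ⁻¹ᵁ W₀) (hX : X₀ ≤ a ⁻¹ᵁ W₀)
      (eU : U₀ = a₁ ⁻¹ᵁ T₀ ⊓ u ⁻¹ᵁ X₀),
      t ∈ T₀ ∧ x ∈ X₀ ∧ IsAffineOpen W₀ ∧ IsAffineOpen T₀ ∧ IsAffineOpen X₀ ∧ IsAffineOpen U₀ ∧
        IsPushout (k.appLE W₀ T₀ hT) (a.appLE W₀ X₀ hX)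
          (a₁.appLE T₀ U₀ (eU.le.trans inf_le_left)) (u.appLE X₀ U₀ (eU.le.trans inf_le_right))) :
    IsPullback a₁ u k a := by
  obtain ⟨θ, hθ⟩ : ∃ θ : U₁ ⟶ pullback k a, θ = pullback.lift a₁ u ha := ⟨_, rfl⟩
  have hθ1 : θ ≫ pullback.fst k a = a₁ := by rw [hθ]; exact pullback.lift_fst _ _ _
  have hθ2 : θ ≫ pullback.snd k a = u := by rw [hθ]; exact pullback.lift_snd _ _ _
  suffices IsIso θ from
    IsPullback.of_iso_pullback ⟨ha⟩ (asIso θ) (by simpa using hθ1) (by simpa using hθ2)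
  refine isIso_of_cover θ (fun p => ?_)
  have hp : k (pullback.fst k a p) = a (pullback.snd k a p) := by
    rw [← Scheme.Hom.comp_apply, ← Scheme.Hom.comp_apply, pullback.condition]
  obtain ⟨W₀, T₀, X₀, U₀, hT, hX, eU, ht, hx, hW₀, hT₀, hX₀, hU₀, hpo⟩ := H _ _ hp
  have HP := IsPullback.of_hasPullback k a
  obtain ⟨Ω, hΩ⟩ : ∃ Ω : (pullback k a).Opens,
      Ω = pullback.fst k a ⁻¹ᵁ T₀ ⊓ pullback.snd k a ⁻¹ᵁ X₀ := ⟨_, rfl⟩
  have po1 := (isIso_pushoutSection_iff HP (US := W₀) (UT := X₀) (UX := T₀)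
    hX hT hΩ).mp (isIso_pushoutSection_of_isAffineOpen HP _ _ _ hW₀ hX₀ hT₀)
  have hΩa : IsAffineOpen Ω := by
    have : IsAffine W₀.toScheme := hW₀
    have : IsAffine X₀.toScheme := hX₀
    have : IsAffine T₀.toScheme := hT₀
    exact IsAffine.of_isIso (Scheme.Hom.isPullback_resLE HP (US := W₀) (UT := X₀)
      (UX := T₀) hX hT hΩ).isoPullback.hom
  have eΩ : U₀ = θ ⁻¹ᵁ Ω := by
    have e1 : θ ⁻¹ᵁ (pullback.fst k a ⁻¹ᵁ T₀) = a₁ ⁻¹ᵁ T₀ := by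
      rw [← Scheme.Hom.comp_preimage, hθ1]
    have e2 : θ ⁻¹ᵁ (pullback.snd k a ⁻¹ᵁ X₀) = u ⁻¹ᵁ X₀ := by
      rw [← Scheme.Hom.comp_preimage, hθ2]
    rw [hΩ, Scheme.Hom.preimage_inf, e1, e2, eU]
  refine ⟨Ω, U₀, eΩ, ?_, hΩa, hU₀, ?_⟩
  · rw [hΩ]
    exact ⟨ht, hx⟩
  · have hiso : θ.appLE Ω U₀ eΩ.le = (po1.isoIsPushout _ _ hpo).hom := by
      apply po1.hom_ext
      · rw [IsPushout.inl_isoIsPushout_hom, Scheme.Hom.appLE_comp_appLE]
        exact appLE_congr hθ1 _ _ _ _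
      · rw [IsPushout.inr_isoIsPushout_hom, Scheme.Hom.appLE_comp_appLE]
        exact appLE_congr hθ2 _ _ _ _
    rw [hiso]
    infer_instance

end Groth.Agent.PullbackLocal
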