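import Mathlib
import Groth.Agent.Lib.PullbackLocal_helper5

/-!
# Sections over the range of an affine chart `Spec R ⟶ X`  (helper5)
-/

set_option autoImplicit false
universe u

namespace Groth.Agent.SpecChart

open CategoryTheory Limits AlgebraicGeometry TopologicalSpace Opposite
open Groth.Agent.PullbackLocal

/-- The restriction `Γ(X, range j) ⟶ R` along an affine chart `j : Spec R ⟶ X`. -/
noncomputable def gam {X : Scheme.{u}} {R : CommRingCat.{u}} (j : Spec R ⟶ X) [IsOpenImmersion j] :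
    Γ(X, j.opensRange) ⟶ R :=
  j.appLE j.opensRange ⊤ (Scheme.Hom.preimage_opensRange j).ge ≫ (Scheme.ΓSpecIso R).hom

theorem isIso_appLE_of_eq {X Y : Scheme.{u}} (f : X ⟶ Y) (U : Y.Opens) (V : X.Opens)
    (e : V = f ⁻¹ᵁ U) (hf : IsIso (f.app U)) : IsIso (f.appLE U V e.le) := by
  subst e
  rw [← Scheme.Hom.app_eq_appLE]
  exact hf

instance isIso_gam {X : Scheme.{u}} {R : CommRingCat.{u}} (j : Spec R ⟶ X) [IsOpenImmersion j] :
    IsIso (gam j) := by
  have h1 : IsIso (j.app j.opensRange) := Scheme.Hom.isIso_app _ _ le_rfl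
  have h2 : IsIso (j.appLE j.opensRange ⊤ (Scheme.Hom.preimage_opensRange j).ge) :=
    isIso_appLE_of_eq _ _ _ (Scheme.Hom.preimage_opensRange j).symm h1
  unfold gam
  infer_instance

theorem fromSpec_appLE_top {Y : Scheme.{u}} {U : Y.Opens} (hU : IsAffineOpen U)
    (e : (⊤ : (Spec Γ(Y, U)).Opens) ≤ hU.fromSpec ⁻¹ᵁ U) :
    hU.fromSpec.appLE U ⊤ e ≫ (Scheme.ΓSpecIso Γ(Y, U)).hom = 𝟙 _ := by
  rw [Scheme.Hom.appLE, hU.fromSpec_app_self]
  simp only [Category.assoc]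
  rw [← Functor.map_comp_assoc]
  have : ((eqToHom hU.fromSpec_preimage_self).op ≫ (homOfLE e).op :
      op (⊤ : (Spec Γ(Y, U)).Opens) ⟶ op ⊤) = 𝟙 _ := Subsingleton.elim _ _
  rw [this, CategoryTheory.Functor.map_id, Category.id_comp, Iso.inv_hom_id]

/-- Sections of the base over an affine open, read on an affine chart. -/
theorem appLE_gam {X Y : Scheme.{u}} {R : CommRingCat.{u}} (j : Spec R ⟶ X) [IsOpenImmersion j] (q : X ⟶ Y)
    (U : Y.Opens) (hU : IsAffineOpen U) (φ : Γ(Y, U) ⟶ R)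
    (hj : j ≫ q = Spec.map φ ≫ hU.fromSpec) (hT : j.opensRange ≤ q ⁻¹ᵁ U) :
    q.appLE U j.opensRange hT ≫ gam j = φ := by
  have e0 : (⊤ : (Spec Γ(Y, U)).Opens) ≤ hU.fromSpec ⁻¹ᵁ U := hU.fromSpec_preimage_self.ge
  unfold gam
  rw [← Category.assoc, Scheme.Hom.appLE_comp_appLE,
    appLE_congr hj _ _ _
      (show (⊤ : (Spec R).Opens) ≤ (Spec.map φ ≫ hU.fromSpec) ⁻¹ᵁ U from by
        rw [Scheme.Hom.comp_preimage]
        exact le_top.trans (Scheme.Hom.preimage_mono _ e0)),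
    ← Scheme.Hom.appLE_comp_appLE _ _ _ ⊤ _ e0 le_top, Category.assoc]
  have h1 : (Spec.map φ).appLE ⊤ ⊤ le_top ≫ (Scheme.ΓSpecIso R).hom =
      (Scheme.ΓSpecIso Γ(Y, U)).hom ≫ φ := Scheme.ΓSpecIso_naturality _
  rw [h1, ← Category.assoc, fromSpec_appLE_top hU e0, Category.id_comp]

/-- A morphism read on affine charts of source and target. -/
theorem appLE_gam_gam {X X' : Scheme.{u}} {R R' : CommRingCat.{u}} (j : Spec R ⟶ X)
    [IsOpenImmersion j] (j' : Spec R' ⟶ X') [IsOpenImmersion j'] (h : X' ⟶ X) (α : R ⟶ R') (hj : j' ≫ h = Spec.map α ≫ j)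
    (e : j'.opensRange ≤ h ⁻¹ᵁ j.opensRange) :
    h.appLE j.opensRange j'.opensRange e ≫ gam j' = gam j ≫ α := by
  have e0 : (⊤ : (Spec R).Opens) ≤ j ⁻¹ᵁ j.opensRange := (Scheme.Hom.preimage_opensRange j).ge
  unfold gam
  rw [← Category.assoc, Scheme.Hom.appLE_comp_appLE,
    appLE_congr hj _ _ _
      (show (⊤ : (Spec R').Opens) ≤ (Spec.map α ≫ j) ⁻¹ᵁ j.opensRange from by
        rw [Scheme.Hom.comp_preimage]
        exact le_top.trans (Scheme.Hom.preimage_mono _ e0)),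
    ← Scheme.Hom.appLE_comp_appLE _ _ _ ⊤ _ e0 le_top, Category.assoc, Category.assoc]
  congr 1
  exact Scheme.ΓSpecIso_naturality _

theorem isIso_ι_of_eq_top {X : Scheme.{u}} (W : X.Opens) (hW : W = ⊤) : IsIso W.ι := by
  subst hW
  exact (X.topIso).isIso_hom

end Groth.Agent.SpecChart
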