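import Mathlib
import Groth.Prelude.Def_CohB1
import Groth.Agent.Lib.ProjGamma_helper5
import Groth.Agent.Lib.ProjBC_helper5
import Groth.Agent.Lib.SpecChart_helper5
import Groth.Agent.Lib.PullbackLocal_helper5
import Groth.Agent.Lib.ProjMap_helper3

/-!
# Projective space commutes with base change of rings: `P^n_A = P^n_R ×_R A`  (helper5)
-/

set_option autoImplicit false
universe u

namespace Groth.Agent.ProjBCn

open CategoryTheory Limits AlgebraicGeometry HomogeneousLocalization MvPolynomial CohB1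
open Groth.Agent.SpecChart Groth.Agent.PullbackLocal

variable (n : ℕ) (R A : Type u) [CommRing R] [CommRing A] [Algebra R A]

/-- `R[T₀..Tₙ] → A[T₀..Tₙ]` as a graded ring homomorphism. -/
noncomputable def polyMap : polyGrading n R →+*ᵍ polyGrading n A where
  toRingHom := MvPolynomial.map (algebraMap R A)
  map_mem := fun {_ _} hx => MvPolynomial.IsHomogeneous.map hx _

theorem polyMap_apply (p : MvPolynomial (Fin (n + 1)) R) :
    polyMap n R A p = MvPolynomial.map (algebraMap R A) p := rfl

theorem polyMap_X (i : Fin (n + 1)) : polyMap n R A (X i) = X i := by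
  rw [polyMap_apply, MvPolynomial.map_X]

theorem polyMap_irr : HomogeneousIdeal.irrelevant (polyGrading n A) ≤
    (HomogeneousIdeal.irrelevant (polyGrading n R)).map (polyMap n R A) := by
  show (HomogeneousIdeal.irrelevant (polyGrading n A)).toIdeal ≤
    ((HomogeneousIdeal.irrelevant (polyGrading n R)).map (polyMap n R A)).toIdeal
  refine (Groth.Agent.ProjGamma5.irrelevant_le_span n A).trans ?_
  rw [Ideal.span_le]
  rintro _ ⟨i, rfl⟩
  rw [HomogeneousIdeal.toIdeal_map]
  have h1 : (X i : MvPolynomial (Fin (n + 1)) R) ∈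
      (HomogeneousIdeal.irrelevant (polyGrading n R)).toIdeal :=
    HomogeneousIdeal.mem_irrelevant_of_mem _ one_pos (Groth.Agent.ProjGamma5.X_mem n R i)
  have h2 := Ideal.mem_map_of_mem (polyMap n R A) h1
  rw [polyMap_X] at h2
  exact h2

/-- `P^n_A ⟶ P^n_R`. -/
noncomputable def projMap : ProjSpace n A ⟶ ProjSpace n R :=
  Proj.map (polyMap n R A) (polyMap_irr n R A)

theorem projMap_toSpec : projMap n R A ≫ ProjSpace.toSpec n R =
    ProjSpace.toSpec n A ≫ Spec.map (CommRingCat.ofHom (algebraMap R A)) := by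
  show (Proj.map (polyMap n R A) (polyMap_irr n R A) ≫ Proj.toSpecZero (polyGrading n R) ≫
    Spec.map (CommRingCat.ofHom (algebraMap R (polyGrading n R 0))) :
      Proj (polyGrading n A) ⟶ Spec (CommRingCat.of R)) =
    (Proj.toSpecZero (polyGrading n A) ≫
      Spec.map (CommRingCat.ofHom (algebraMap A (polyGrading n A 0)))) ≫
      Spec.map (CommRingCat.ofHom (algebraMap R A))
  rw [← Category.assoc, Groth.Agent.Lib.ProjMap_helper3.map_toSpecZero, Category.assoc,
    Category.assoc, ← Spec.map_comp, ← Spec.map_comp, ← CommRingCat.ofHom_comp,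
    ← CommRingCat.ofHom_comp]
  congr 3
  refine RingHom.ext (fun r => Subtype.ext ?_)
  show polyMap n R A (algebraMap R (MvPolynomial _ R) r) =
    algebraMap A (MvPolynomial _ A) (algebraMap R A r)
  rw [polyMap_apply, MvPolynomial.algebraMap_eq, MvPolynomial.map_C]
  rfl

/-- the standard chart of `P^n_R`. -/
noncomputable def chartι {d : ℕ} (hd : 0 < d) (g : MvPolynomial (Fin (n + 1)) R)
    (hg : g ∈ polyGrading n R d) :
    Spec (CommRingCat.of (Away (polyGrading n R) g)) ⟶ ProjSpace n R :=
  Proj.awayι (polyGrading n R) g hg hd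

instance {d : ℕ} (hd : 0 < d) (g : MvPolynomial (Fin (n + 1)) R)
    (hg : g ∈ polyGrading n R d) : IsOpenImmersion (chartι n R hd g hg) := by
  exact (inferInstance : IsOpenImmersion (Proj.awayι (polyGrading n R) g hg hd))

theorem chartι_toSpec {d : ℕ} (hd : 0 < d) (g : MvPolynomial (Fin (n + 1)) R)
    (hg : g ∈ polyGrading n R d) :
    chartι n R hd g hg ≫ ProjSpace.toSpec n R =
      Spec.map (CommRingCat.ofHom (Groth.Agent.ProjBC.rho (polyGrading n R) g)) := by
  show (Proj.awayι (polyGrading n R) g hg hd ≫ Proj.toSpecZero (polyGrading n R) ≫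
    Spec.map (CommRingCat.ofHom (algebraMap R (polyGrading n R 0))) :
      Spec (CommRingCat.of (Away (polyGrading n R) g)) ⟶ Spec (CommRingCat.of R)) = _
  rw [← Category.assoc, Proj.awayι_toSpecZero, ← Spec.map_comp, ← CommRingCat.ofHom_comp]
  rfl

theorem opensRange_chartι {d : ℕ} (hd : 0 < d) (g : MvPolynomial (Fin (n + 1)) R)
    (hg : g ∈ polyGrading n R d) :
    (chartι n R hd g hg).opensRange = Proj.basicOpen (polyGrading n R) g :=
  Proj.opensRange_awayι _ _ _ _

theorem chartι_projMap {d : ℕ} (hd : 0 < d) (g : MvPolynomial (Fin (n + 1)) R)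
    (hg : g ∈ polyGrading n R d) :
    chartι n A hd (polyMap n R A g) ((polyMap n R A).2 hg) ≫ projMap n R A =
      Spec.map (CommRingCat.ofHom (Away.map (polyMap n R A) g)) ≫ chartι n R hd g hg :=
  Proj.awayι_comp_map (polyMap n R A) (polyMap_irr n R A) hd g hg

theorem projMap_preimage_basicOpen (g : MvPolynomial (Fin (n + 1)) R) :
    projMap n R A ⁻¹ᵁ (Proj.basicOpen (polyGrading n R) g : (ProjSpace n R).Opens) =
      (Proj.basicOpen (polyGrading n A) (polyMap n R A g) : (ProjSpace n A).Opens) :=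
  Proj.map_preimage_basicOpen (polyMap n R A) (polyMap_irr n R A) g

theorem exists_mem_chart (t : ProjSpace n R) : ∃ j : Fin (n + 1),
    t ∈ (chartι n R one_pos (X j) (Groth.Agent.ProjGamma5.X_mem n R j)).opensRange := by
  obtain ⟨j, y, hy⟩ := (Groth.Agent.ProjGamma5.cover n R).exists_eq t
  exact ⟨j, y, hy⟩

theorem fromSpec_top_Spec (B : CommRingCat.{u}) :
    Spec.map (Scheme.ΓSpecIso B).hom ≫ (isAffineOpen_top (Spec B)).fromSpec = 𝟙 _ := by
  rw [IsAffineOpen.fromSpec_top, Scheme.isoSpec_Spec_inv, ← Spec.map_comp, Iso.inv_hom_id,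
    Spec.map_id]

attribute [local instance] MvPolynomial.algebraMvPolynomial

/-- **Projective space commutes with base change.** -/
theorem isPullback_projMap :
    IsPullback (projMap n R A) (ProjSpace.toSpec n A) (ProjSpace.toSpec n R)
      (Spec.map (CommRingCat.ofHom (algebraMap R A))) := by
  refine isPullback_of_local (ProjSpace.toSpec n R) (Spec.map (CommRingCat.ofHom (algebraMap R A)))
    (projMap n R A) (ProjSpace.toSpec n A) (projMap_toSpec n R A) (fun t x _ => ?_)
  obtain ⟨j, htR⟩ := exists_mem_chart n R t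
  have hXj := Groth.Agent.ProjGamma5.X_mem n R j
  have hcomp := chartι_projMap n R A one_pos (X j) hXj
  have eU : (chartι n A one_pos (polyMap n R A (X j)) ((polyMap n R A).2 hXj)).opensRange =
      projMap n R A ⁻¹ᵁ (chartι n R one_pos (X j) hXj).opensRange ⊓
      ProjSpace.toSpec n A ⁻¹ᵁ (⊤ : (Spec (CommRingCat.of A)).Opens) := by
    rw [opensRange_chartι, opensRange_chartι, projMap_preimage_basicOpen]
    exact (inf_top_eq _).symm
  refine ⟨⊤, (chartι n R one_pos (X j) hXj).opensRange, ⊤,
    (chartι n A one_pos (polyMap n R A (X j)) ((polyMap n R A).2 hXj)).opensRange,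
    le_top, le_top, eU, htR, trivial,
    isAffineOpen_top _, isAffineOpen_opensRange _, isAffineOpen_top _, isAffineOpen_opensRange _, ?_⟩
  have H := Groth.Agent.ProjBC.isPushout_away (R' := R) (R := A) (polyGrading n R) (polyGrading n A)
    (polyMap n R A) (fun _ => rfl) hXj
  have c1 := appLE_gam (chartι n R one_pos (X j) hXj) (ProjSpace.toSpec n R) ⊤ (isAffineOpen_top _)
    ((Scheme.ΓSpecIso (CommRingCat.of R)).hom ≫
      CommRingCat.ofHom (Groth.Agent.ProjBC.rho (polyGrading n R) (X j)))
    (by rw [chartι_toSpec, Spec.map_comp, Category.assoc, fromSpec_top_Spec, Category.comp_id])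
    le_top
  have c2 := appLE_gam (chartι n A one_pos (polyMap n R A (X j)) ((polyMap n R A).2 hXj))
    (ProjSpace.toSpec n A) ⊤ (isAffineOpen_top _)
    ((Scheme.ΓSpecIso (CommRingCat.of A)).hom ≫
      CommRingCat.ofHom (Groth.Agent.ProjBC.rho (polyGrading n A) (polyMap n R A (X j))))
    (by rw [chartι_toSpec, Spec.map_comp, Category.assoc, fromSpec_top_Spec, Category.comp_id])
    le_top
  have c3 := appLE_gam_gam (chartι n R one_pos (X j) hXj)
    (chartι n A one_pos (polyMap n R A (X j)) ((polyMap n R A).2 hXj)) (projMap n R A) _ hcomp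
    (eU.le.trans inf_le_left)
  refine IsPushout.of_iso H.flip (Scheme.ΓSpecIso (CommRingCat.of R)).symm
    (asIso (gam (chartι n R one_pos (X j) hXj))).symm
    (Scheme.ΓSpecIso (CommRingCat.of A)).symm
    (asIso (gam (chartι n A one_pos (polyMap n R A (X j)) ((polyMap n R A).2 hXj)))).symm
    ?_ ?_ ?_ ?_
  · rw [Iso.symm_hom, asIso_inv, Iso.symm_hom, IsIso.comp_inv_eq, Category.assoc, c1,
      Iso.inv_hom_id_assoc]
  · rw [Iso.symm_hom, Iso.symm_hom]
    exact Scheme.ΓSpecIso_inv_naturality _
  · rw [Iso.symm_hom, asIso_inv, Iso.symm_hom, asIso_inv, IsIso.comp_inv_eq, Category.assoc,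
      IsIso.eq_inv_comp]
    exact c3.symm
  · rw [Iso.symm_hom, asIso_inv, Iso.symm_hom, IsIso.comp_inv_eq, Category.assoc, c2,
      Iso.inv_hom_id_assoc]

end Groth.Agent.ProjBCn
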