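import Mathlib

/-! The quotient of a graded algebra by a homogeneous ideal, as a graded algebra. -/

open DirectSum

namespace Groth.Agent.Lib.GradedQuot_helper3

section
variable {R A : Type*} [CommRing R] [CommRing A] [Algebra R A] (𝒜 : ℕ → Submodule R A) [GradedAlgebra 𝒜]
  (I : Ideal A) (hI : I.IsHomogeneous 𝒜)

/-- The grading on the quotient. -/
def quotGrading (n : ℕ) : Submodule R (A ⧸ I) :=
  Submodule.map (Ideal.Quotient.mkₐ R I).toLinearMap (𝒜 n)

omit [GradedAlgebra 𝒜] in
theorem mk_mem_quotGrading {n : ℕ} {a : A} (ha : a ∈ 𝒜 n) :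
    Ideal.Quotient.mk I a ∈ quotGrading 𝒜 I n := ⟨a, ha, rfl⟩

omit [GradedAlgebra 𝒜] in
theorem exists_of_mem_quotGrading {n : ℕ} {b : A ⧸ I} (hb : b ∈ quotGrading 𝒜 I n) :
    ∃ a ∈ 𝒜 n, Ideal.Quotient.mk I a = b := by
  obtain ⟨a, ha, rfl⟩ := hb
  exact ⟨a, ha, rfl⟩

instance quotGrading_gradedMonoid : SetLike.GradedMonoid (quotGrading 𝒜 I) where
  one_mem := ⟨1, SetLike.GradedOne.one_mem, map_one (Ideal.Quotient.mkₐ R I)⟩
  mul_mem := by
    rintro i j _ _ ⟨a, ha, rfl⟩ ⟨b, hb, rfl⟩
    exact ⟨a * b, SetLike.mul_mem_graded ha hb, map_mul (Ideal.Quotient.mkₐ R I) _ _⟩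

include hI in
theorem quotGrading_isInternal : DirectSum.IsInternal (quotGrading 𝒜 I) := by
  classical
  apply DirectSum.isInternal_submodule_of_iSupIndep_of_iSup_eq_top
  · intro i
    rw [Submodule.disjoint_def]
    intro b hb hb'
    obtain ⟨a, ha, rfl⟩ := hb
    have h2 : (⨆ j, ⨆ (_ : j ≠ i), quotGrading 𝒜 I j) =
        Submodule.map (Ideal.Quotient.mkₐ R I).toLinearMap (⨆ j, ⨆ (_ : j ≠ i), 𝒜 j) := by
      simp only [Submodule.map_iSup]
      rfl
    rw [h2] at hb'
    obtain ⟨a', ha', h⟩ := hb'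
    have hmem : a' - a ∈ I := by
      rw [← Ideal.Quotient.eq]
      exact h
    have hcomp := hI i hmem
    have ha'i : (decompose 𝒜 a' i : A) = 0 := by
      refine Submodule.iSup_induction _ (motive := fun x => (decompose 𝒜 x i : A) = 0) ha' ?_ ?_ ?_
      · intro j x hx
        refine Submodule.iSup_induction _ (motive := fun x => (decompose 𝒜 x i : A) = 0) hx ?_ ?_ ?_
        · intro hj x hx
          exact decompose_of_mem_ne 𝒜 hx hj
        · simp
        · intro x y hx hy
          rw [decompose_add, DirectSum.add_apply, Submodule.coe_add, hx, hy, add_zero]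
      · simp
      · intro x y hx hy
        rw [decompose_add, DirectSum.add_apply, Submodule.coe_add, hx, hy, add_zero]
    rw [decompose_sub, DirectSum.sub_apply, Submodule.coe_sub, ha'i, decompose_of_mem_same 𝒜 ha, zero_sub] at hcomp
    have : a ∈ I := by simpa using I.neg_mem hcomp
    exact (Ideal.Quotient.eq_zero_iff_mem).mpr this
  · have : (⨆ i, quotGrading 𝒜 I i) = Submodule.map (Ideal.Quotient.mkₐ R I).toLinearMap (⨆ i, 𝒜 i) := by
      rw [Submodule.map_iSup]
      rfl
    rw [this, (DirectSum.Decomposition.isInternal 𝒜).submodule_iSup_eq_top, Submodule.map_top,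
      LinearMap.range_eq_top]
    exact Ideal.Quotient.mkₐ_surjective R I

/-- The quotient of a graded algebra by a homogeneous ideal is a graded algebra. -/
@[instance_reducible]
noncomputable def quotGradedAlgebra : GradedAlgebra (quotGrading 𝒜 I) :=
  { quotGrading_gradedMonoid 𝒜 I with
    toDecomposition := (quotGrading_isInternal 𝒜 I hI).chooseDecomposition }

/-- The quotient map as a graded ring homomorphism. -/
def quotGradedHom : letI := quotGradedAlgebra 𝒜 I hI; 𝒜 →+*ᵍ quotGrading 𝒜 I :=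
  letI := quotGradedAlgebra 𝒜 I hI
  { Ideal.Quotient.mk I with map_mem := fun ha => mk_mem_quotGrading 𝒜 I ha }

end

end Groth.Agent.Lib.GradedQuot_helper3

namespace Groth.Agent.Lib.GradedQuot_helper3

section
variable {A B σ τ : Type*} [CommRing A] [SetLike σ A] [AddSubgroupClass σ A] [CommRing B] [SetLike τ B]
  [AddSubgroupClass τ B] {𝒜 : ℕ → σ} [GradedRing 𝒜] {ℬ : ℕ → τ} [GradedRing ℬ]

/-- A surjective graded homomorphism maps the irrelevant ideal onto the irrelevant ideal. -/
theorem irrelevant_le_map_of_surjective (φ : 𝒜 →+*ᵍ ℬ) (hφ : Function.Surjective φ) :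
    HomogeneousIdeal.irrelevant ℬ ≤ (HomogeneousIdeal.irrelevant 𝒜).map φ := by
  classical
  intro b hb
  obtain ⟨a, rfl⟩ := hφ b
  have hb' : φ a ∈ HomogeneousIdeal.irrelevant ℬ := hb
  rw [HomogeneousIdeal.mem_irrelevant_iff, GradedRing.proj_apply, ← GradedRingHom.map_directSumDecompose] at hb'
  have h1 : φ a = φ (a - (decompose 𝒜 a 0 : A)) := by
    rw [map_sub, hb', sub_zero]
  change φ a ∈ ((HomogeneousIdeal.irrelevant 𝒜).map φ).toIdeal
  rw [HomogeneousIdeal.toIdeal_map, h1]
  refine Ideal.mem_map_of_mem _ ?_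
  change a - (decompose 𝒜 a 0 : A) ∈ HomogeneousIdeal.irrelevant 𝒜
  rw [HomogeneousIdeal.mem_irrelevant_iff, GradedRing.proj_apply, decompose_sub, DirectSum.sub_apply,
    AddSubgroupClass.coe_sub, decompose_coe, of_eq_same, sub_self]
end

section
variable {R A : Type*} [CommRing R] [CommRing A] [Algebra R A] (𝒜 : ℕ → Submodule R A) [GradedAlgebra 𝒜]
  (I : Ideal A)

omit [GradedAlgebra 𝒜] in
theorem quotGradedHom_apply (a : A) : quotGradedHom 𝒜 I a = Ideal.Quotient.mk I a := rfl

omit [GradedAlgebra 𝒜] in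
theorem quotGradedHom_surjective : Function.Surjective (quotGradedHom 𝒜 I) := Ideal.Quotient.mk_surjective

omit [GradedAlgebra 𝒜] in
theorem quotGradedHom_eq_zero_iff (a : A) : quotGradedHom 𝒜 I a = 0 ↔ a ∈ I := Ideal.Quotient.eq_zero_iff_mem
end

end Groth.Agent.Lib.GradedQuot_helper3
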