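import Mathlib
import Groth.Prelude

/-!
# Constructing a quasi-coherent algebra from data on the affine opens (helper5)

Given a presheaf of rings `F` on the affine opens of `S` with a structure map `α` from the structure
sheaf having the localization property (`α.Coequifibered`), Mathlib's relative glueing gives an
affine morphism `π : C ⟶ S`; its direct-image algebra `alg H` is a `RelSpec.QCAlg S` whose sections
over an affine open `U` are identified with `F(U)` by `gammaAff H U` (an isomorphism, natural in
`U`, compatible with the structure maps).  APPEND-ONLY once landed.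
-/

set_option autoImplicit false
universe u
open CategoryTheory CategoryTheory.Limits AlgebraicGeometry TopologicalSpace Opposite

noncomputable section

namespace Groth.Agent.QCCons

variable {S : Scheme.{u}} {F : S.AffineZariskiSiteᵒᵖ ⥤ CommRingCat.{u}}
  {α : (Scheme.AffineZariskiSite.toOpensFunctor S).op ⋙ S.presheaf ⟶ F} (H : α.Coequifibered)

/-- The relative gluing datum: the affine schemes `Spec F(U)` over the affine opens `U` of `S`. -/
def glueData : (Scheme.AffineZariskiSite.directedCover S).RelativeGluingData :=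
  Scheme.AffineZariskiSite.relativeGluingData H

instance : ((glueData H).functor ⋙ Scheme.forget).IsLocallyDirected :=
  Scheme.Cover.RelativeGluingData.instIsLocallyDirectedI₀CompFunctorForgetOfIsThin ..

/-- The glued scheme. -/
def cone : Scheme.{u} := (glueData H).glued

/-- The structure morphism. -/
def π : cone H ⟶ S := (glueData H).toBase

/-- The chart `Spec F(U) ⟶ C`. -/
def ι (U : S.AffineZariskiSite) : Spec (F.obj (op U)) ⟶ cone H :=
  (glueData H).cover.f U

variable (U : S.AffineZariskiSite)

instance : IsOpenImmersion (ι H U) := (glueData H).cover.map_prop _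

theorem ι_π : ι H U ≫ π H = Spec.map (α.app (op U)) ≫ U.2.fromSpec :=
  colimit.ι_desc _ _

theorem π_preimage : π H ⁻¹ᵁ U.1 = (ι H U).opensRange := by
  simpa using! (glueData H).toBase_preimage_eq_opensRange_ι U

theorem top_le_preimage : (⊤ : (Spec (F.obj (op U))).Opens) ≤ ι H U ⁻¹ᵁ (π H ⁻¹ᵁ U.1) := by
  obtain ⟨U, hU⟩ := U
  rw [← Scheme.Hom.comp_preimage, ι_π, Scheme.Hom.comp_preimage]
  have h := hU.fromSpec_preimage_self
  intro x _
  exact h.ge (Opens.mem_top _)

instance isAffineHom_π : IsAffineHom (π H) where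
  isAffine_preimage U hU := by
    rw [π_preimage H ⟨U, hU⟩]
    exact isAffineOpen_opensRange (ι H ⟨U, hU⟩)

/-- The quasi-coherent algebra attached to the data: the direct image of the structure sheaf of the
glued scheme. -/
def alg : RelSpec.QCAlg S := RelSpec.QCAlg.directImage (π H)

/-- Over an affine open `U`: the identification of the sections of `alg H` over `U` with `F(U)`. -/
def gammaAff : Γ(cone H, π H ⁻¹ᵁ U.1) ⟶ F.obj (op U) :=
  (ι H U).appLE (π H ⁻¹ᵁ U.1) ⊤ (top_le_preimage H U) ≫ (Scheme.ΓSpecIso (F.obj (op U))).hom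

instance isIso_gammaAff : IsIso (gammaAff H U) := by
  unfold gammaAff
  have h1 : IsIso ((ι H U).appLE (π H ⁻¹ᵁ U.1) ⊤ (top_le_preimage H U)) := by
    rw [Scheme.Hom.appLE]
    have : IsIso ((ι H U).app (π H ⁻¹ᵁ U.1)) :=
      Scheme.Hom.isIso_app (ι H U) _ (π_preimage H U).le
    have e : ι H U ⁻¹ᵁ (π H ⁻¹ᵁ U.1) = ⊤ := top_le_iff.mp (top_le_preimage H U)
    have h2 : IsIso ((Spec (F.obj (op U))).presheaf.map (homOfLE (top_le_preimage H U)).op) := by
      rw [Subsingleton.elim (homOfLE (top_le_preimage H U)) (eqToHom e.symm)]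
      infer_instance
    infer_instance
  infer_instance

theorem ι_res {U V : S.AffineZariskiSite} (i : V ⟶ U) :
    Spec.map (F.map i.op) ≫ ι H U = ι H V :=
  colimit.w (glueData H).functor i

set_option backward.isDefEq.respectTransparency false in
/-- Naturality of `gammaAff` in the affine open. -/
theorem gammaAff_naturality {U V : S.AffineZariskiSite} (i : V ⟶ U) :
    (cone H).presheaf.map
        (homOfLE ((π H).preimage_mono (Scheme.AffineZariskiSite.toOpens_mono i.le))).op ≫
      gammaAff H V = gammaAff H U ≫ F.map i.op := by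
  simp only [gammaAff, Category.assoc, ← Scheme.ΓSpecIso_naturality]
  simp only [← Category.assoc]
  congr 1
  simp only [Scheme.Hom.appTop, Scheme.Hom.appLE, Category.assoc]
  have h1 := (Scheme.Hom.comp_app (Spec.map (F.map i.op)) (ι H U) (π H ⁻¹ᵁ U.1)).symm
  rw [Scheme.Hom.naturality_assoc, Scheme.Hom.naturality, reassoc_of% h1,
    Scheme.Hom.congr_app (ι_res H i), Category.assoc, ← Functor.map_comp, ← Functor.map_comp]
  rfl

set_option backward.isDefEq.respectTransparency false in
/-- Over an affine open, `gammaAff` is compatible with the structure maps. -/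
theorem π_app_gammaAff : (π H).app U.1 ≫ gammaAff H U = α.app (op U) := by
  obtain ⟨U, hU⟩ := U
  have h1 := Scheme.Hom.congr_app (ι_π H ⟨U, hU⟩) U
  have h2 := (Scheme.Hom.comp_app (ι H ⟨U, hU⟩) (π H) U).symm
  have hk : ∀ k : (op ⊤ : (Spec (F.obj (op ⟨U, hU⟩))).Opensᵒᵖ) ⟶ op ⊤,
      (Spec (F.obj (op ⟨U, hU⟩))).presheaf.map k = 𝟙 _ := fun k => by
    rw [Subsingleton.elim k (𝟙 _)]; exact CategoryTheory.Functor.map_id _ _
  simp only [gammaAff, Scheme.Hom.appLE, Category.assoc]
  rw [reassoc_of% h2, h1, Scheme.Hom.comp_app, hU.fromSpec_app_self]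
  simp only [Category.assoc]
  rw [Scheme.Hom.naturality_assoc]
  simp only [← Functor.map_comp_assoc]
  erw [hk, Category.id_comp]
  rw [← cancel_epi (Scheme.ΓSpecIso Γ(S, U)).hom, Iso.hom_inv_id_assoc]
  erw [Scheme.ΓSpecIso_naturality]
  rfl

end Groth.Agent.QCCons
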