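import Mathlib
import Groth.Prelude
import Groth.Agent.Lib.QCCons1_helper5

/-!
# Constructing a quasi-coherent graded algebra from graded data on the affine opens (helper5)
APPEND-ONLY once landed.
-/

set_option autoImplicit false
universe u
open CategoryTheory CategoryTheory.Limits AlgebraicGeometry TopologicalSpace Opposite

noncomputable section

namespace Groth.Agent.QCCons

section Transport
variable {R R' : Type*} [CommRing R] [CommRing R'] (e : R ≃+* R')
  {σ : Type*} [SetLike σ R'] [AddSubgroupClass σ R'] (𝒢 : ℕ → σ)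

/-- The grading of `R` obtained by transport along a ring isomorphism `e : R ≃+* R'`. -/
def comapGrading (d : ℕ) : AddSubgroup R :=
  (AddSubgroup.ofClass (𝒢 d)).comap e.toRingHom.toAddMonoidHom

theorem mem_comapGrading {d : ℕ} {x : R} : x ∈ comapGrading e 𝒢 d ↔ e x ∈ 𝒢 d := Iff.rfl

variable [GradedRing 𝒢]

instance comapGrading_gradedMonoid : SetLike.GradedMonoid (comapGrading e 𝒢) where
  one_mem := by
    show e 1 ∈ 𝒢 0
    rw [map_one]
    exact SetLike.GradedOne.one_mem
  mul_mem i j a b ha hb := by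
    show e (a * b) ∈ 𝒢 (i + j)
    rw [map_mul]
    exact SetLike.GradedMul.mul_mem ha hb

/-- The componentwise identification. -/
def compEquiv (i : ℕ) : 𝒢 i ≃+ comapGrading e 𝒢 i where
  toFun x := ⟨e.symm x, by show e (e.symm x) ∈ 𝒢 i; rw [e.apply_symm_apply]; exact x.2⟩
  invFun y := ⟨e y, y.2⟩
  left_inv x := Subtype.ext (e.apply_symm_apply _)
  right_inv y := Subtype.ext (e.symm_apply_apply _)
  map_add' x y := Subtype.ext (map_add e.symm _ _)

theorem e_coe_map (x : DirectSum ℕ fun i => 𝒢 i) :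
    e (DirectSum.coeAddMonoidHom (comapGrading e 𝒢)
      (DirectSum.map (fun i => (compEquiv e 𝒢 i).toAddMonoidHom) x)) =
      DirectSum.coeAddMonoidHom 𝒢 x := by
  classical
  induction x using DirectSum.induction_on with
  | zero => simp
  | of i x =>
    rw [DirectSum.map_of, DirectSum.coeAddMonoidHom_of, DirectSum.coeAddMonoidHom_of]
    exact e.apply_symm_apply _
  | add x y hx hy => rw [map_add, map_add, map_add, hx, hy, map_add]

/-- Transport of a graded ring structure along a ring isomorphism. -/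
@[instance_reducible]
def comapGradedRing : GradedRing (comapGrading e 𝒢) :=
  { comapGrading_gradedMonoid e 𝒢 with
    toDecomposition := DirectSum.Decomposition.ofAddHom (comapGrading e 𝒢)
      ((DirectSum.map (fun i => (compEquiv e 𝒢 i).toAddMonoidHom)).comp
        ((DirectSum.decomposeAddEquiv 𝒢).toAddMonoidHom.comp e.toRingHom.toAddMonoidHom))
      (by
        ext r
        apply e.injective
        show e (DirectSum.coeAddMonoidHom (comapGrading e 𝒢)
          (DirectSum.map (fun i => (compEquiv e 𝒢 i).toAddMonoidHom)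
            (DirectSum.decompose 𝒢 (e r)))) = e r
        rw [e_coe_map]
        exact DirectSum.Decomposition.left_inv (e r))
      (by
        classical
        apply DirectSum.addHom_ext
        intro i x
        show DirectSum.map (fun i => (compEquiv e 𝒢 i).toAddMonoidHom)
          (DirectSum.decompose 𝒢 (e (DirectSum.coeAddMonoidHom (comapGrading e 𝒢)
            (DirectSum.of _ i x)))) = DirectSum.of _ i x
        rw [DirectSum.coeAddMonoidHom_of]
        have hx : e (x : R) ∈ 𝒢 i := x.2
        rw [DirectSum.decompose_of_mem 𝒢 hx, DirectSum.map_of]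
        congr 1
        exact Subtype.ext (e.symm_apply_apply _)) }

end Transport

section Local
variable {S : Scheme.{u}} {F : S.AffineZariskiSiteᵒᵖ ⥤ CommRingCat.{u}}
  {α : (Scheme.AffineZariskiSite.toOpensFunctor S).op ⋙ S.presheaf ⟶ F} (H : α.Coequifibered)
  {σ : S.AffineZariskiSite → Type u} [∀ U, SetLike (σ U) (F.obj (op U))]
  [∀ U, AddSubgroupClass (σ U) (F.obj (op U))]
  (𝒢 : ∀ U : S.AffineZariskiSite, ℕ → σ U) [∀ U, GradedRing (𝒢 U)]
  (hmap : ∀ {U V : S.AffineZariskiSite} (i : V ⟶ U) {d : ℕ} {x : F.obj (op U)},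
    x ∈ 𝒢 U d → (F.map i.op).hom x ∈ 𝒢 V d)

include H in
/-- An element of `F(U)` restricting to zero on `D(r)` is killed by a power of `r`. -/
theorem exists_pow_mul_eq_zero (U : S.AffineZariskiSite) (r : Γ(S, U.1)) (w : F.obj (op U))
    (hw : (F.map (homOfLE (U.basicOpen_le r)).op).hom w = 0) :
    ∃ N : ℕ, (α.app (op U)).hom r ^ N * w = 0 := by
  have hloc := Scheme.AffineZariskiSite.coequifibered_iff_forall_isLocalizationAway.mp H U r
  letI := (F.map (homOfLE (U.basicOpen_le r)).op).hom.toAlgebra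
  have h0 : algebraMap (F.obj (op U)) (F.obj (op (U.basicOpen r))) w = 0 := hw
  obtain ⟨⟨_, N, rfl⟩, hN⟩ :=
    (IsLocalization.map_eq_zero_iff (Submonoid.powers ((α.app (op U)).hom r)) _ w).mp h0
  exact ⟨N, hN⟩

include H hmap in
/-- Degrees are local: an element of `F(U)` which is of degree `d` on a finite cover by basic
opens is of degree `d`. -/
theorem mem_of_cover (U : S.AffineZariskiSite) (s : Finset Γ(S, U.1))
    (hs : Ideal.span (s : Set Γ(S, U.1)) = ⊤) (z : F.obj (op U)) (d : ℕ)
    (hz : ∀ r ∈ s, (F.map (homOfLE (U.basicOpen_le r)).op).hom z ∈ 𝒢 (U.basicOpen r) d) :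
    z ∈ 𝒢 U d := by
  classical
  obtain ⟨a, ha⟩ : ∃ a : Γ(S, U.1) →+* F.obj (op U), ∀ r, a r = (α.app (op U)).hom r :=
    ⟨(α.app (op U)).hom, fun _ => rfl⟩
  have hcomp : ∀ e : ℕ, e ≠ d → ((DirectSum.decompose (𝒢 U) z e : 𝒢 U e) : F.obj (op U)) = 0 := by
    intro e hed
    obtain ⟨w, hwdef⟩ : ∃ w : F.obj (op U),
        w = ((DirectSum.decompose (𝒢 U) z e : 𝒢 U e) : F.obj (op U)) := ⟨_, rfl⟩
    rw [← hwdef]
    -- on each `D(r)`, the component restricts to zero
    have hres : ∀ r ∈ s, (F.map (homOfLE (U.basicOpen_le r)).op).hom w = 0 := by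
      intro r hr
      have hsum : z = ∑ i ∈ (DirectSum.decompose (𝒢 U) z).support,
          ((DirectSum.decompose (𝒢 U) z i : 𝒢 U i) : F.obj (op U)) :=
        (DirectSum.sum_support_decompose (𝒢 U) z).symm
      have hcomp' : ∀ i : ℕ, (F.map (homOfLE (U.basicOpen_le r)).op).hom
          ((DirectSum.decompose (𝒢 U) z i : 𝒢 U i) : F.obj (op U)) ∈ 𝒢 (U.basicOpen r) i :=
        fun i => hmap (homOfLE (U.basicOpen_le r)) (DirectSum.decompose (𝒢 U) z i).2
      have h1 : ((DirectSum.decompose (𝒢 (U.basicOpen r))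
          ((F.map (homOfLE (U.basicOpen_le r)).op).hom z) e : 𝒢 (U.basicOpen r) e) :
            F.obj (op (U.basicOpen r))) = (F.map (homOfLE (U.basicOpen_le r)).op).hom w := by
        conv_lhs => rw [hsum, map_sum, DirectSum.decompose_sum, DFinsupp.finset_sum_apply,
          AddSubmonoidClass.coe_finset_sum]
        by_cases hmem : e ∈ (DirectSum.decompose (𝒢 U) z).support
        · rw [Finset.sum_eq_single_of_mem e hmem]
          · rw [hwdef]
            exact DirectSum.decompose_of_mem_same _ (hcomp' e)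
          · intro i _ hie
            exact DirectSum.decompose_of_mem_ne _ (hcomp' i) hie
        · rw [Finset.sum_eq_zero]
          · have h0 : DirectSum.decompose (𝒢 U) z e = 0 := by
              simpa [DFinsupp.mem_support_iff] using hmem
            have hw0 : w = 0 := by rw [hwdef, h0]; rfl
            rw [hw0, map_zero]
          · intro i hi
            have hie : i ≠ e := fun h => hmem (h ▸ hi)
            exact DirectSum.decompose_of_mem_ne _ (hcomp' i) hie
      have h2 : ((DirectSum.decompose (𝒢 (U.basicOpen r))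
          ((F.map (homOfLE (U.basicOpen_le r)).op).hom z) e : 𝒢 (U.basicOpen r) e) :
            F.obj (op (U.basicOpen r))) = 0 :=
        DirectSum.decompose_of_mem_ne _ (hz r hr) (Ne.symm hed)
      exact h1.symm.trans h2
    -- hence it is killed by a power of each `r ∈ s`
    have hN : ∀ r : Γ(S, U.1), ∃ N : ℕ, r ∈ s → a r ^ N * w = 0 := by
      intro r
      by_cases hr : r ∈ s
      · obtain ⟨N, hN⟩ := exists_pow_mul_eq_zero H U r w (hres r hr)
        exact ⟨N, fun _ => by rw [ha]; exact hN⟩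
      · exact ⟨0, fun h => absurd h hr⟩
    choose N hN using hN
    obtain ⟨M, hM⟩ : ∃ M : ℕ, ∀ r ∈ s, N r ≤ M := ⟨s.sup N, fun r hr => Finset.le_sup hr⟩
    have hM' : ∀ r ∈ s, a r ^ M * w = 0 := by
      intro r hr
      obtain ⟨k, hk⟩ := Nat.exists_eq_add_of_le (hM r hr)
      rw [hk, pow_add, mul_comm (_ ^ N r), mul_assoc, hN r hr, mul_zero]
    have htop : Ideal.span ((fun r : Γ(S, U.1) => r ^ M) '' (s : Set Γ(S, U.1))) = ⊤ :=
      Ideal.span_pow_eq_top _ hs M
    have h1 : (1 : Γ(S, U.1)) ∈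
        Ideal.span ((fun r : Γ(S, U.1) => r ^ M) '' (s : Set Γ(S, U.1))) := by
      rw [htop]; trivial
    have key : ∀ c ∈ Ideal.span ((fun r : Γ(S, U.1) => r ^ M) '' (s : Set Γ(S, U.1))),
        a c * w = 0 := by
      intro c hc
      induction hc using Submodule.span_induction with
      | mem y hy =>
        obtain ⟨r, hr, rfl⟩ := hy
        show a (r ^ M) * w = 0
        rw [map_pow]
        exact hM' r hr
      | zero => rw [map_zero, zero_mul]
      | add a' b _ _ ha' hb => rw [map_add, add_mul, ha', hb, add_zero]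
      | smul a' b _ hb => rw [smul_eq_mul, map_mul, mul_assoc, hb, mul_zero]
    have := key 1 h1
    rwa [map_one, one_mul] at this
  have hzd : z = ((DirectSum.decompose (𝒢 U) z d : 𝒢 U d) : F.obj (op U)) := by
    conv_lhs => rw [← DirectSum.sum_support_decompose (𝒢 U) z]
    by_cases hmem : d ∈ (DirectSum.decompose (𝒢 U) z).support
    · rw [Finset.sum_eq_single_of_mem d hmem]
      intro i _ hid
      exact hcomp i hid
    · rw [Finset.sum_eq_zero]
      · have h0 : DirectSum.decompose (𝒢 U) z d = 0 := by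
          simpa [DFinsupp.mem_support_iff] using hmem
        rw [h0]; rfl
      · intro i hi
        have hid : i ≠ d := fun h => hmem (h ▸ hi)
        exact hcomp i hid
  rw [hzd]
  exact (DirectSum.decompose (𝒢 U) z d).2

end Local

section GrAlg
variable {S : Scheme.{u}} {F : S.AffineZariskiSiteᵒᵖ ⥤ CommRingCat.{u}}
  {α : (Scheme.AffineZariskiSite.toOpensFunctor S).op ⋙ S.presheaf ⟶ F} (H : α.Coequifibered)
  {σ : S.AffineZariskiSite → Type u} [∀ U, SetLike (σ U) (F.obj (op U))]
  [∀ U, AddSubgroupClass (σ U) (F.obj (op U))]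
  (𝒢 : ∀ U : S.AffineZariskiSite, ℕ → σ U) [∀ U, GradedRing (𝒢 U)]
  (hmap : ∀ {U V : S.AffineZariskiSite} (i : V ⟶ U) {d : ℕ} {x : F.obj (op U)},
    x ∈ 𝒢 U d → (F.map i.op).hom x ∈ 𝒢 V d)
  (hstr : ∀ (U : S.AffineZariskiSite) (r : Γ(S, U.1)), (α.app (op U)).hom r ∈ 𝒢 U 0)

/-- An affine open as an element of the small affine Zariski site. -/
def mkAff (U : S.Opens) (hU : IsAffineOpen U) : S.AffineZariskiSite := ⟨U, hU⟩

@[simp] theorem mkAff_coe (U : S.Opens) (hU : IsAffineOpen U) : (mkAff U hU).1 = U := rfl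

/-- The ring isomorphism `(alg H)(U) ≃+* F(U)` over an affine open. -/
def secEquiv (U : S.AffineZariskiSite) : Γ(cone H, π H ⁻¹ᵁ U.1) ≃+* F.obj (op U) :=
  (asIso (gammaAff H U)).commRingCatIsoToRingEquiv

theorem secEquiv_apply (U : S.AffineZariskiSite) (x : Γ(cone H, π H ⁻¹ᵁ U.1)) :
    secEquiv H U x = (gammaAff H U).hom x := rfl

theorem secEquiv_res {U V : S.AffineZariskiSite} (i : V ⟶ U) (x : Γ(cone H, π H ⁻¹ᵁ U.1)) :
    secEquiv H V (((cone H).presheaf.map
      (homOfLE ((π H).preimage_mono (Scheme.AffineZariskiSite.toOpens_mono i.le))).op).hom x) =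
      (F.map i.op).hom (secEquiv H U x) := by
  have h := gammaAff_naturality H i
  exact congrArg (fun φ => φ.hom x) h

theorem secEquiv_str (U : S.AffineZariskiSite) (r : Γ(S, U.1)) :
    secEquiv H U (((π H).app U.1).hom r) = (α.app (op U)).hom r := by
  have h := π_app_gammaAff H U
  exact congrArg (fun φ => φ.hom r) h

include hmap in
/-- Restriction along an arbitrary inclusion of affine opens preserves degrees. -/
theorem res_mem {U V : S.AffineZariskiSite} (hVU : V.1 ≤ U.1) {d : ℕ}
    {x : Γ(cone H, π H ⁻¹ᵁ U.1)} (hx : secEquiv H U x ∈ 𝒢 U d) :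
    secEquiv H V (((cone H).presheaf.map (homOfLE ((π H).preimage_mono hVU)).op).hom x) ∈
      𝒢 V d := by
  classical
  obtain ⟨T, hT⟩ : ∃ T : Set Γ(S, V.1),
      T = {g | ∃ f : Γ(S, U.1), S.basicOpen f = S.basicOpen g} := ⟨_, rfl⟩
  have hspan : Ideal.span T = ⊤ := by
    rw [← V.2.self_le_iSup_basicOpen_iff]
    intro p hp
    obtain ⟨f, g, hfg, hpf⟩ := exists_basicOpen_le_affine_inter U.2 V.2 p ⟨hVU hp, hp⟩
    refine Opens.mem_iSup.mpr ⟨⟨g, ?_⟩, hfg ▸ hpf⟩
    rw [hT]
    exact ⟨f, hfg⟩
  obtain ⟨s, hsT, hs⟩ := (Ideal.span_eq_top_iff_finite T).mp hspan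
  refine mem_of_cover H 𝒢 hmap V s hs _ d (fun g hg => ?_)
  have hgT : g ∈ T := hsT hg
  rw [hT] at hgT
  obtain ⟨f, hfg⟩ := hgT
  have iU : V.basicOpen g ⟶ U := homOfLE ⟨f, hfg⟩
  rw [← secEquiv_res H (homOfLE (V.basicOpen_le g))]
  have h2 := secEquiv_res H iU x
  have h3 : ((cone H).presheaf.map (homOfLE ((π H).preimage_mono
      (Scheme.AffineZariskiSite.toOpens_mono (homOfLE (V.basicOpen_le g)).le))).op).hom
        (((cone H).presheaf.map (homOfLE ((π H).preimage_mono hVU)).op).hom x) =
      ((cone H).presheaf.map (homOfLE ((π H).preimage_mono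
        (Scheme.AffineZariskiSite.toOpens_mono iU.le))).op).hom x := by
    rw [← CommRingCat.comp_apply, ← Functor.map_comp]
    rfl
  rw [h3, h2]
  exact hmap iU hx

include hmap hstr in
/-- **The quasi-coherent graded algebra attached to graded data on the affine opens.** -/
def grAlg : RelProj.QCGrAlg S :=
  { alg H with
    deg := fun U hU d => comapGrading (secEquiv H (mkAff U hU)) (𝒢 (mkAff U hU)) d
    graded := fun U hU => comapGradedRing (secEquiv H (mkAff U hU)) (𝒢 (mkAff U hU))
    map_mem := fun {U V} hU hV i {d} {x} hx =>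
      res_mem H 𝒢 hmap (U := mkAff U hU) (V := mkAff V hV) i hx
    str_mem := fun U hU r => by
      show secEquiv H (mkAff U hU) _ ∈ 𝒢 (mkAff U hU) 0
      have h := secEquiv_str H (mkAff U hU) r
      exact h ▸ hstr (mkAff U hU) r }

end GrAlg

end Groth.Agent.QCCons
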