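import Mathlib
import Groth.Prelude
import Groth.Agent.Lib.QCCons2_helper5
import Groth.Agent.Lib.ProjMap_helper3
import Groth.Agent.Lib.GradedQuot_helper3

/-!
# The quasi-coherent graded algebra built from graded affine data: comparison maps, generation in
degree one, finite type, and relative `Proj` charts (helper5).  APPEND-ONLY once landed.
-/

set_option autoImplicit false
universe u
open CategoryTheory CategoryTheory.Limits AlgebraicGeometry TopologicalSpace Opposite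
open scoped HomogeneousIdeal

noncomputable section

namespace Groth.Agent.QCCons

variable {S : Scheme.{u}} {F : S.AffineZariskiSiteᵒᵖ ⥤ CommRingCat.{u}}
  {α : (Scheme.AffineZariskiSite.toOpensFunctor S).op ⋙ S.presheaf ⟶ F} (H : α.Coequifibered)
  {σ : S.AffineZariskiSite → Type u} [∀ U, SetLike (σ U) (F.obj (op U))]
  [∀ U, AddSubgroupClass (σ U) (F.obj (op U))]
  (𝒢 : ∀ U : S.AffineZariskiSite, ℕ → σ U) [∀ U, GradedRing (𝒢 U)]
  (hmap : ∀ {U V : S.AffineZariskiSite} (i : V ⟶ U) {d : ℕ} {x : F.obj (op U)},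
    x ∈ 𝒢 U d → (F.map i.op).hom x ∈ 𝒢 V d)
  (hstr : ∀ (U : S.AffineZariskiSite) (r : Γ(S, U.1)), (α.app (op U)).hom r ∈ 𝒢 U 0)

theorem mem_deg_iff (U : S.Opens) (hU : IsAffineOpen U) (d : ℕ)
    (x : (grAlg H 𝒢 hmap hstr).presheaf.obj (op U)) :
    x ∈ (grAlg H 𝒢 hmap hstr).deg U hU d ↔ secEquiv H (mkAff U hU) x ∈ 𝒢 (mkAff U hU) d := Iff.rfl

/-- The comparison `𝒮(U) → F(U)` as a graded ring homomorphism. -/
def toF (U : S.Opens) (hU : IsAffineOpen U) :
    (grAlg H 𝒢 hmap hstr).deg U hU →+*ᵍ 𝒢 (mkAff U hU) :=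
  { (secEquiv H (mkAff U hU)).toRingHom with map_mem := fun hx => hx }

theorem toF_apply (U : S.Opens) (hU : IsAffineOpen U)
    (x : (grAlg H 𝒢 hmap hstr).presheaf.obj (op U)) :
    toF H 𝒢 hmap hstr U hU x = secEquiv H (mkAff U hU) x := rfl

theorem toF_bijective (U : S.Opens) (hU : IsAffineOpen U) :
    Function.Bijective (toF H 𝒢 hmap hstr U hU) := (secEquiv H (mkAff U hU)).bijective

theorem toF_bijOn (U : S.Opens) (hU : IsAffineOpen U) (d : ℕ) :
    Set.BijOn (toF H 𝒢 hmap hstr U hU) ((grAlg H 𝒢 hmap hstr).deg U hU d) (𝒢 (mkAff U hU) d) := by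
  refine ⟨fun x hx => hx, (toF_bijective H 𝒢 hmap hstr U hU).1.injOn, fun y hy => ?_⟩
  obtain ⟨x, rfl⟩ := (toF_bijective H 𝒢 hmap hstr U hU).2 y
  exact ⟨x, hy, rfl⟩

theorem toF_irr (U : S.Opens) (hU : IsAffineOpen U) :
    (𝒢 (mkAff U hU))₊ ≤ (((grAlg H 𝒢 hmap hstr).deg U hU)₊).map (toF H 𝒢 hmap hstr U hU) :=
  Groth.Agent.Lib.GradedQuot_helper3.irrelevant_le_map_of_surjective _
    (toF_bijective H 𝒢 hmap hstr U hU).2

instance isIso_projMap_toF (U : S.Opens) (hU : IsAffineOpen U) :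
    IsIso (Proj.map (toF H 𝒢 hmap hstr U hU) (toF_irr H 𝒢 hmap hstr U hU)) :=
  Groth.Agent.Lib.ProjMap_helper3.map_isIso _ _ _
    (fun n _ => toF_bijOn H 𝒢 hmap hstr U hU n) _

/-- Generation in degree one transfers. -/
theorem isGenDegOne_grAlg
    (h : ∀ U : S.AffineZariskiSite,
      Subring.closure ((𝒢 U 0 : Set (F.obj (op U))) ∪ (𝒢 U 1 : Set (F.obj (op U)))) = ⊤) :
    (grAlg H 𝒢 hmap hstr).IsGenDegOne := by
  intro U hU
  rw [eq_top_iff]
  intro x _
  have hx : secEquiv H (mkAff U hU) x ∈ Subring.closure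
      ((𝒢 (mkAff U hU) 0 : Set (F.obj (op (mkAff U hU)))) ∪ (𝒢 (mkAff U hU) 1 : Set _)) := by
    rw [h]; trivial
  have key : ∀ y ∈ Subring.closure
      ((𝒢 (mkAff U hU) 0 : Set (F.obj (op (mkAff U hU)))) ∪ (𝒢 (mkAff U hU) 1 : Set _)),
      (secEquiv H (mkAff U hU)).symm y ∈ Subring.closure
        ((((grAlg H 𝒢 hmap hstr).deg U hU 0 : Set ((grAlg H 𝒢 hmap hstr).presheaf.obj (op U)))) ∪
          ((grAlg H 𝒢 hmap hstr).deg U hU 1 : Set _)) := by
    intro y hy
    induction hy using Subring.closure_induction with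
    | mem y hy =>
      apply Subring.subset_closure
      rcases hy with hy | hy
      · left
        show secEquiv H (mkAff U hU) ((secEquiv H (mkAff U hU)).symm y) ∈ 𝒢 (mkAff U hU) 0
        rw [RingEquiv.apply_symm_apply]; exact hy
      · right
        show secEquiv H (mkAff U hU) ((secEquiv H (mkAff U hU)).symm y) ∈ 𝒢 (mkAff U hU) 1
        rw [RingEquiv.apply_symm_apply]; exact hy
    | zero => rw [map_zero]; exact zero_mem _
    | one => rw [map_one]; exact one_mem _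
    | add a b _ _ ha hb => rw [map_add]; exact add_mem ha hb
    | neg a _ ha => rw [map_neg]; exact neg_mem ha
    | mul a b _ _ ha hb => rw [map_mul]; exact mul_mem ha hb
  have := key _ hx
  rwa [RingEquiv.symm_apply_apply] at this

/-- Finite type in degree `d` transfers. -/
theorem isFTDeg_grAlg (d : ℕ)
    (h : ∀ U : S.AffineZariskiSite, ∃ T : Finset (F.obj (op U)),
      (↑T : Set (F.obj (op U))) ⊆ (𝒢 U d : Set _) ∧
        ∀ x ∈ 𝒢 U d, ∃ c : F.obj (op U) → Γ(S, U.1),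
          x = ∑ t ∈ T, (α.app (op U)).hom (c t) * t) :
    (grAlg H 𝒢 hmap hstr).IsFTDeg d := by
  classical
  intro U hU
  obtain ⟨T, hT, hgen⟩ := h (mkAff U hU)
  refine ⟨T.image (secEquiv H (mkAff U hU)).symm, ?_, ?_⟩
  · intro y hy
    obtain ⟨t, ht, rfl⟩ := Finset.mem_image.mp (Finset.mem_coe.mp hy)
    show secEquiv H (mkAff U hU) ((secEquiv H (mkAff U hU)).symm t) ∈ 𝒢 (mkAff U hU) d
    rw [RingEquiv.apply_symm_apply]
    exact hT (Finset.mem_coe.mpr ht)
  · intro x hx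
    obtain ⟨c, hc⟩ := hgen (secEquiv H (mkAff U hU) x) hx
    refine ⟨fun y => c (secEquiv H (mkAff U hU) y), ?_⟩
    apply (secEquiv H (mkAff U hU)).injective
    refine hc.trans ?_
    refine Eq.trans ?_ (map_sum (secEquiv H (mkAff U hU)) _ _).symm
    refine Eq.trans ?_ (Finset.sum_image
      (fun a _ b _ hab => (secEquiv H (mkAff U hU)).symm.injective hab)).symm
    refine Finset.sum_congr rfl (fun t _ => ?_)
    refine Eq.trans ?_ (map_mul (secEquiv H (mkAff U hU)) _ _).symm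
    have h1 : secEquiv H (mkAff U hU) ((secEquiv H (mkAff U hU)).symm t) = t :=
      RingEquiv.apply_symm_apply _ _
    have h2 := secEquiv_str H (mkAff U hU) (c (secEquiv H (mkAff U hU)
      ((secEquiv H (mkAff U hU)).symm t)))
    beta_reduce
    rw [h1] at h2 ⊢
    exact congrArg (· * t) h2.symm

/-- The structure map into the degree-zero part of `𝒢 U`. -/
def strZeroF (U : S.AffineZariskiSite) : Γ(S, U.1) ⟶ CommRingCat.of (𝒢 U 0) :=
  CommRingCat.ofHom
    { toFun := fun r => ⟨(α.app (op U)).hom r, hstr U r⟩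
      map_one' := Subtype.ext (map_one _)
      map_mul' := fun a b => Subtype.ext (map_mul _ a b)
      map_zero' := Subtype.ext (map_zero _)
      map_add' := fun a b => Subtype.ext (map_add _ a b) }

/-- Restriction to a basic open, as a graded ring homomorphism. -/
def resF (U : S.AffineZariskiSite) (r : Γ(S, U.1)) : 𝒢 U →+*ᵍ 𝒢 (U.basicOpen r) :=
  { (F.map (homOfLE (U.basicOpen_le r)).op).hom with map_mem := fun hx => hmap _ hx }

theorem resF_apply (U : S.AffineZariskiSite) (r : Γ(S, U.1)) (x : F.obj (op U)) :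
    resF 𝒢 hmap U r x = (F.map (homOfLE (U.basicOpen_le r)).op).hom x := rfl

include H hstr in
theorem resF_irr (U : S.AffineZariskiSite) (r : Γ(S, U.1)) :
    (𝒢 (U.basicOpen r))₊ ≤ ((𝒢 U)₊).map (resF 𝒢 hmap U r) := by
  classical
  obtain ⟨ψ, hψ⟩ : ∃ ψ : 𝒢 U →+*ᵍ 𝒢 (U.basicOpen r), ψ = resF 𝒢 hmap U r := ⟨_, rfl⟩
  rw [← hψ]
  have hloc := Scheme.AffineZariskiSite.coequifibered_iff_forall_isLocalizationAway.mp H U r
  letI := (F.map (homOfLE (U.basicOpen_le r)).op).hom.toAlgebra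
  obtain ⟨c, hc⟩ : ∃ c : F.obj (op U), c = (α.app (op U)).hom r := ⟨_, rfl⟩
  rw [← hc] at hloc
  have hc0' : c ∈ 𝒢 U 0 := hc ▸ hstr U r
  have hψalg : ∀ x, ψ x = algebraMap (F.obj (op U)) (F.obj (op (U.basicOpen r))) x := by
    intro x; rw [hψ]; rfl
  rw [HomogeneousIdeal.irrelevant_le]
  intro i hi b hb
  change b ∈ Ideal.map ψ ((𝒢 U)₊.toIdeal)
  obtain ⟨⟨x, s, hs⟩, hxs⟩ := IsLocalization.surj (Submonoid.powers c) b
  obtain ⟨k, rfl⟩ := (Submonoid.mem_powers_iff _ _).mp hs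
  have hxs' : b * ψ (c ^ k) = ψ x := by rw [hψalg, hψalg]; exact hxs
  have hu : IsUnit (ψ (c ^ k)) := by
    rw [hψalg]
    exact IsLocalization.map_units (M := Submonoid.powers c) (F.obj (op (U.basicOpen r)))
      ⟨c ^ k, k, rfl⟩
  have hc0 : ψ (c ^ k) ∈ 𝒢 (U.basicOpen r) 0 := by
    rw [map_pow]
    exact SetLike.pow_mem_graded _ (ψ.map_mem hc0')
  have hbi : b * ψ (c ^ k) ∈ 𝒢 (U.basicOpen r) i := by
    simpa only [add_zero] using SetLike.mul_mem_graded (A := 𝒢 (U.basicOpen r)) hb hc0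
  have hxi : ψ (DirectSum.decompose (𝒢 U) x i : F.obj (op U)) = b * ψ (c ^ k) := by
    rw [GradedRingHom.map_directSumDecompose, ← hxs', DirectSum.decompose_of_mem_same _ hbi]
  obtain ⟨u, hu'⟩ := hu
  have hb' : b = ψ (DirectSum.decompose (𝒢 U) x i : F.obj (op U)) * ↑u⁻¹ := by
    rw [hxi, ← hu', mul_assoc, Units.mul_inv, mul_one]
  rw [hb']
  exact Ideal.mul_mem_right _ _
    (Ideal.mem_map_of_mem _ (HomogeneousIdeal.mem_irrelevant_of_mem _ hi (SetLike.coe_mem _)))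

theorem projMap_congr {A B σ' τ' : Type u} [CommRing A] [SetLike σ' A] [AddSubgroupClass σ' A]
    [CommRing B] [SetLike τ' B] [AddSubgroupClass τ' B] {𝒜 : ℕ → σ'} [GradedRing 𝒜]
    {ℬ : ℕ → τ'} [GradedRing ℬ] {φ ψ : 𝒜 →+*ᵍ ℬ} (h : φ = ψ)
    (hφ : ℬ₊ ≤ (𝒜₊).map φ) (hψ : ℬ₊ ≤ (𝒜₊).map ψ) : Proj.map φ hφ = Proj.map ψ hψ := by
  subst h; rfl

/-- **Charts for the relative `Proj` of `grAlg`** from charts for the affine data. -/
theorem isRelProj_grAlg {P : Scheme.{u}} (p : P ⟶ S)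
    (c : ∀ U : S.AffineZariskiSite, ((p ⁻¹ᵁ U.1 : P.Opens) : Scheme.{u}) ≅ Proj (𝒢 U))
    (hover : ∀ U : S.AffineZariskiSite,
      (c U).hom ≫ Proj.toSpecZero (𝒢 U) ≫ Spec.map (strZeroF 𝒢 hstr U) ≫ U.2.fromSpec =
        (p ⁻¹ᵁ U.1).ι ≫ p)
    (hres : ∀ (U : S.AffineZariskiSite) (r : Γ(S, U.1)),
      P.homOfLE (p.preimage_mono (S.basicOpen_le r)) ≫ (c U).hom =
        (c (U.basicOpen r)).hom ≫ Proj.map (resF 𝒢 hmap U r) (resF_irr H 𝒢 hmap hstr U r)) :
    RelProj.IsRelProj (grAlg H 𝒢 hmap hstr) p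
      (fun U hU => c (mkAff U hU) ≪≫
        asIso (Proj.map (toF H 𝒢 hmap hstr U hU) (toF_irr H 𝒢 hmap hstr U hU))) where
  chart_over U hU := by
    have h1 := Groth.Agent.Lib.ProjMap_helper3.map_toSpecZero _ _
      (toF H 𝒢 hmap hstr U hU) (toF_irr H 𝒢 hmap hstr U hU)
    have h2 : (grAlg H 𝒢 hmap hstr).strZero U hU ≫
        CommRingCat.ofHom (toF H 𝒢 hmap hstr U hU).gradedZeroRingHom =
        strZeroF 𝒢 hstr (mkAff U hU) := by
      ext r
      exact secEquiv_str H (mkAff U hU) r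
    simp only [Iso.trans_hom, asIso_hom, Category.assoc]
    rw [reassoc_of% h1, ← Spec.map_comp_assoc, h2]
    exact hover (mkAff U hU)
  chart_res U hU r := by
    have hcomp : (resF 𝒢 hmap (mkAff U hU) r).comp (toF H 𝒢 hmap hstr U hU) =
        (toF H 𝒢 hmap hstr (S.basicOpen r) (hU.basicOpen r)).comp
          ((grAlg H 𝒢 hmap hstr).res hU (hU.basicOpen r) (S.basicOpen_le r)) := by
      ext x
      exact (secEquiv_res H (homOfLE ((mkAff U hU).basicOpen_le r)) x).symm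
    simp only [Iso.trans_hom, asIso_hom, Category.assoc]
    erw [reassoc_of% (hres (mkAff U hU) r)]
    have key : Proj.map (resF 𝒢 hmap (mkAff U hU) r) (resF_irr H 𝒢 hmap hstr (mkAff U hU) r) ≫
        Proj.map (toF H 𝒢 hmap hstr U hU) (toF_irr H 𝒢 hmap hstr U hU) =
        Proj.map (toF H 𝒢 hmap hstr (S.basicOpen r) (hU.basicOpen r))
          (toF_irr H 𝒢 hmap hstr (S.basicOpen r) (hU.basicOpen r)) ≫
        Proj.map ((grAlg H 𝒢 hmap hstr).res hU (hU.basicOpen r) (S.basicOpen_le r))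
          ((grAlg H 𝒢 hmap hstr).irrelevant_le_map U hU r) := by
      rw [← Proj.map_comp, ← Proj.map_comp]
      exact projMap_congr hcomp _ _
    exact congrArg (fun q => (c (mkAff (S.basicOpen r) (hU.basicOpen r))).hom ≫ q) key

end Groth.Agent.QCCons
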