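import Mathlib
import Groth.Prelude.Def_CohB1
import Groth.Agent.Lib.ProjBCn_helper5
import Groth.Agent.Lib.QCCons3_helper5

/-!
# More on `P^n_A = P^n_R ×_R A`: functoriality, open immersions  (helper5)
APPEND-ONLY once landed.
-/

set_option autoImplicit false
universe u

namespace Groth.Agent.ProjBCn

open CategoryTheory Limits AlgebraicGeometry HomogeneousLocalization MvPolynomial CohB1

section Comp
variable (n : ℕ) (R A B : Type u) [CommRing R] [CommRing A] [CommRing B] [Algebra R A]
  [Algebra A B] [Algebra R B] [IsScalarTower R A B]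

theorem polyMap_comp : (polyMap n A B).comp (polyMap n R A) = polyMap n R B := by
  refine GradedRingHom.ext fun p => ?_
  show MvPolynomial.map (algebraMap A B) (MvPolynomial.map (algebraMap R A) p) =
    MvPolynomial.map (algebraMap R B) p
  rw [MvPolynomial.map_map, ← IsScalarTower.algebraMap_eq]

theorem projMap_comp : projMap n A B ≫ projMap n R A = projMap n R B := by
  show (Proj.map (polyMap n A B) (polyMap_irr n A B) ≫ Proj.map (polyMap n R A) (polyMap_irr n R A) :
    Proj (polyGrading n B) ⟶ Proj (polyGrading n R)) = Proj.map (polyMap n R B) (polyMap_irr n R B)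
  rw [← Proj.map_comp]
  exact Groth.Agent.QCCons.projMap_congr (polyMap_comp n R A B) _ _

end Comp

section Hom
variable (n : ℕ) {R A B : Type u} [CommRing R] [CommRing A] [CommRing B]

/-- `P^n_A ⟶ P^n_R` for a ring homomorphism `R → A`. -/
noncomputable def projMapH (φ : R →+* A) : ProjSpace n A ⟶ ProjSpace n R :=
  letI := φ.toAlgebra
  projMap n R A

theorem projMapH_toSpec (φ : R →+* A) :
    projMapH n φ ≫ ProjSpace.toSpec n R =
      ProjSpace.toSpec n A ≫ Spec.map (CommRingCat.ofHom φ) := by
  letI := φ.toAlgebra
  exact projMap_toSpec n R A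

theorem isPullback_projMapH (φ : R →+* A) :
    IsPullback (projMapH n φ) (ProjSpace.toSpec n A) (ProjSpace.toSpec n R)
      (Spec.map (CommRingCat.ofHom φ)) := by
  letI := φ.toAlgebra
  exact isPullback_projMap n R A

theorem projMapH_comp (φ : R →+* A) (ψ : A →+* B) :
    projMapH n ψ ≫ projMapH n φ = projMapH n (ψ.comp φ) := by
  letI := φ.toAlgebra
  letI := ψ.toAlgebra
  letI := (ψ.comp φ).toAlgebra
  haveI : IsScalarTower R A B := IsScalarTower.of_algebraMap_eq' rfl
  exact projMap_comp n R A B

/-- the graded ring homomorphism `R[T] → A[T]` of a ring homomorphism. -/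
noncomputable def polyMapH (φ : R →+* A) : polyGrading n R →+*ᵍ polyGrading n A :=
  letI := φ.toAlgebra
  polyMap n R A

theorem polyMapH_apply (φ : R →+* A) (p : MvPolynomial (Fin (n + 1)) R) :
    polyMapH n φ p = MvPolynomial.map φ p := rfl

theorem polyMapH_irr (φ : R →+* A) : HomogeneousIdeal.irrelevant (polyGrading n A) ≤
    (HomogeneousIdeal.irrelevant (polyGrading n R)).map (polyMapH n φ) := by
  letI := φ.toAlgebra
  exact polyMap_irr n R A

theorem projMapH_eq (φ : R →+* A) :
    projMapH n φ = Proj.map (polyMapH n φ) (polyMapH_irr n φ) := rfl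

instance isOpenImmersion_projMapH (φ : R →+* A)
    [IsOpenImmersion (Spec.map (CommRingCat.ofHom φ))] : IsOpenImmersion (projMapH n φ) :=
  MorphismProperty.of_isPullback (isPullback_projMapH n φ).flip inferInstance

end Hom

end Groth.Agent.ProjBCn
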