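import Mathlib
import Groth.Prelude
import Groth.Agent.Lib.QCCons3_helper5
import Groth.Agent.Lib.ProjBCn_helper5

/-!
# Polynomial algebras over a quasi-coherent algebra, as affine-local data  (helper5)
APPEND-ONLY once landed.
-/

set_option autoImplicit false
universe u
open CategoryTheory CategoryTheory.Limits AlgebraicGeometry TopologicalSpace Opposite

noncomputable section

namespace Groth.Agent.QCPoly

open CohB1
open scoped Pointwise

/-- `R ↦ R[T₀..Tₙ]` as a functor. -/
def polyFunctor (n : ℕ) : CommRingCat.{u} ⥤ CommRingCat.{u} where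
  obj R := CommRingCat.of (MvPolynomial (Fin (n + 1)) R)
  map φ := CommRingCat.ofHom (MvPolynomial.map φ.hom)
  map_id R := by
    refine CommRingCat.hom_ext (RingHom.ext fun p => ?_)
    exact MvPolynomial.map_id p
  map_comp φ ψ := by
    refine CommRingCat.hom_ext (RingHom.ext fun p => ?_)
    exact (MvPolynomial.map_map φ.hom ψ.hom p).symm

/-- The constants `R → R[T]`, naturally in `R`. -/
def constNat (n : ℕ) : 𝟭 CommRingCat.{u} ⟶ polyFunctor n where
  app R := CommRingCat.ofHom (MvPolynomial.C)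
  naturality R R' φ := by
    ext x
    exact (MvPolynomial.map_C φ.hom x).symm

theorem isPushout_poly (n : ℕ) {R R' : CommRingCat.{u}} (φ : R ⟶ R') :
    IsPushout φ ((constNat n).app R) ((constNat n).app R') ((polyFunctor n).map φ) := by
  letI := φ.hom.toAlgebra
  letI := MvPolynomial.algebraMvPolynomial (σ := Fin (n + 1)) (R := R) (S := R')
  exact CommRingCat.isPushout_of_isPushout R R' (MvPolynomial (Fin (n + 1)) R)
    (MvPolynomial (Fin (n + 1)) R')

section Diag
variable {S : Scheme.{u}} (n : ℕ) (G : S.AffineZariskiSiteᵒᵖ ⥤ CommRingCat.{u})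
  (β : (Scheme.AffineZariskiSite.toOpensFunctor S).op ⋙ S.presheaf ⟶ G)

/-- `G ⟶ G[T]`. -/
def polyNat : G ⟶ G ⋙ polyFunctor n where
  app U := (constNat n).app (G.obj U)
  naturality _ _ i := (constNat n).naturality (G.map i)

theorem coequifibered_polyNat : (polyNat n G).Coequifibered :=
  fun _ _ i => isPushout_poly n (G.map i)

/-- The structure map of `G[T]`. -/
def polyStr : (Scheme.AffineZariskiSite.toOpensFunctor S).op ⋙ S.presheaf ⟶ G ⋙ polyFunctor n :=
  β ≫ polyNat n G

variable {G β}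

theorem coequifibered_polyStr (hβ : β.Coequifibered) : (polyStr n G β).Coequifibered :=
  hβ.comp (coequifibered_polyNat n G)

theorem polyStr_app (U : S.AffineZariskiSite) (r : Γ(S, U.1)) :
    ((polyStr n G β).app (op U)).hom r =
      (MvPolynomial.C ((β.app (op U)).hom r) : MvPolynomial (Fin (n + 1)) (G.obj (op U))) := rfl

theorem polyMap_app {U V : S.AffineZariskiSite} (i : V ⟶ U)
    (x : MvPolynomial (Fin (n + 1)) (G.obj (op U))) :
    (((G ⋙ polyFunctor n).map i.op).hom x : MvPolynomial (Fin (n + 1)) (G.obj (op V))) =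
      MvPolynomial.map (G.map i.op).hom x := rfl

end Diag

section Grading
variable {S : Scheme.{u}} (n : ℕ) (G : S.AffineZariskiSiteᵒᵖ ⥤ CommRingCat.{u})
  (β : (Scheme.AffineZariskiSite.toOpensFunctor S).op ⋙ S.presheaf ⟶ G)

/-- The type of the homogeneous pieces of `G(U)[T]`. -/
def polySig (U : S.AffineZariskiSite) : Type u :=
  Submodule (G.obj (op U)) (MvPolynomial (Fin (n + 1)) (G.obj (op U)))

instance polySig_setLike (U : S.AffineZariskiSite) :
    SetLike (polySig n G U) ((G ⋙ polyFunctor n).obj (op U)) :=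
  inferInstanceAs (SetLike (Submodule (G.obj (op U)) (MvPolynomial (Fin (n + 1)) (G.obj (op U))))
    (MvPolynomial (Fin (n + 1)) (G.obj (op U))))

instance polySig_addSubgroupClass (U : S.AffineZariskiSite) :
    AddSubgroupClass (polySig n G U) ((G ⋙ polyFunctor n).obj (op U)) :=
  inferInstanceAs (AddSubgroupClass
    (Submodule (G.obj (op U)) (MvPolynomial (Fin (n + 1)) (G.obj (op U))))
    (MvPolynomial (Fin (n + 1)) (G.obj (op U))))

/-- The grading of `G(U)[T]` by total degree. -/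
def polyGr (U : S.AffineZariskiSite) : ℕ → polySig n G U := polyGrading n (G.obj (op U))

instance polyGr_gradedRing (U : S.AffineZariskiSite) : GradedRing (polyGr n G U) :=
  inferInstanceAs (GradedRing (polyGrading n (G.obj (op U))))

theorem polyGr_hmap {U V : S.AffineZariskiSite} (i : V ⟶ U) {d : ℕ}
    {x : (G ⋙ polyFunctor n).obj (op U)} (hx : x ∈ polyGr n G U d) :
    ((G ⋙ polyFunctor n).map i.op).hom x ∈ polyGr n G V d :=
  MvPolynomial.IsHomogeneous.map (show MvPolynomial.IsHomogeneous _ d from hx) _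

theorem polyGr_hstr (U : S.AffineZariskiSite) (r : Γ(S, U.1)) :
    ((polyStr n G β).app (op U)).hom r ∈ polyGr n G U 0 :=
  MvPolynomial.isHomogeneous_C _ _

theorem polyGr_gen (U : S.AffineZariskiSite) :
    Subring.closure ((polyGr n G U 0 : Set ((G ⋙ polyFunctor n).obj (op U))) ∪
      (polyGr n G U 1 : Set ((G ⋙ polyFunctor n).obj (op U)))) = ⊤ := by
  rw [eq_top_iff]
  rintro p -
  obtain ⟨K, hK⟩ : ∃ K : Subring (MvPolynomial (Fin (n + 1)) (G.obj (op U))),
      K = Subring.closure ((polyGr n G U 0 : Set ((G ⋙ polyFunctor n).obj (op U))) ∪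
      (polyGr n G U 1 : Set ((G ⋙ polyFunctor n).obj (op U)))) := ⟨_, rfl⟩
  have h0 : ∀ a : G.obj (op U), (MvPolynomial.C a : MvPolynomial (Fin (n + 1)) (G.obj (op U))) ∈ K :=
    fun a => hK ▸ Subring.subset_closure (Or.inl (MvPolynomial.isHomogeneous_C _ a))
  have h1 : ∀ i : Fin (n + 1), (MvPolynomial.X i : MvPolynomial (Fin (n + 1)) (G.obj (op U))) ∈ K :=
    fun i => hK ▸ Subring.subset_closure (Or.inr (MvPolynomial.isHomogeneous_X _ i))
  show (p : MvPolynomial (Fin (n + 1)) (G.obj (op U))) ∈ _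
  rw [← hK]
  induction p using MvPolynomial.induction_on with
  | C a => exact h0 a
  | add p q hp hq => exact add_mem hp hq
  | mul_X p i hp => exact mul_mem hp (h1 i)

variable {G β} in
theorem polyGr_ft (U : S.AffineZariskiSite) (hfin : (β.app (op U)).hom.Finite) :
    ∃ T : Finset ((G ⋙ polyFunctor n).obj (op U)),
      (↑T : Set ((G ⋙ polyFunctor n).obj (op U))) ⊆ (polyGr n G U 1 : Set _) ∧
        ∀ x ∈ polyGr n G U 1, ∃ c : (G ⋙ polyFunctor n).obj (op U) → Γ(S, U.1),
          x = ∑ t ∈ T, ((polyStr n G β).app (op U)).hom (c t) * t := by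
  classical
  obtain ⟨a, ha, hfin'⟩ : ∃ a : Γ(S, U.1) →+* G.obj (op U),
      (∀ r, a r = (β.app (op U)).hom r) ∧ a.Finite := ⟨(β.app (op U)).hom, fun _ => rfl, hfin⟩
  letI := a.toAlgebra
  have hfin' : Module.Finite Γ(S, U.1) (G.obj (op U)) := hfin'
  obtain ⟨s, hs⟩ := (Module.finite_def.mp hfin')
  obtain ⟨T, hT⟩ : ∃ T : Finset (MvPolynomial (Fin (n + 1)) (G.obj (op U))),
      T = (s ×ˢ (Finset.univ : Finset (Fin (n + 1)))).image
        (fun q => MvPolynomial.C q.1 * MvPolynomial.X q.2) := ⟨_, rfl⟩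
  have hsub : (↑T : Set (MvPolynomial (Fin (n + 1)) (G.obj (op U)))) ⊆
      (polyGrading n (G.obj (op U)) 1 : Set _) := by
    intro t ht
    rw [hT] at ht
    obtain ⟨q, -, rfl⟩ := Finset.mem_image.mp (Finset.mem_coe.mp ht)
    have := (MvPolynomial.isHomogeneous_C (Fin (n + 1)) q.1).mul
      (MvPolynomial.isHomogeneous_X (G.obj (op U)) q.2)
    rw [zero_add] at this
    exact this
  refine ⟨T, hsub, fun x hx => ?_⟩
  have hx' : x ∈ MvPolynomial.homogeneousSubmodule (Fin (n + 1)) (G.obj (op U)) 1 := hx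
  rw [MvPolynomial.homogeneousSubmodule_one_eq_span_X] at hx'
  have hx2 : x ∈ (Submodule.span (G.obj (op U)) (Set.range (MvPolynomial.X :
      Fin (n + 1) → MvPolynomial (Fin (n + 1)) (G.obj (op U))))).restrictScalars Γ(S, U.1) := hx'
  rw [← Submodule.span_smul_of_span_eq_top hs] at hx2
  have hle : Submodule.span Γ(S, U.1) ((s : Set (G.obj (op U))) • Set.range (MvPolynomial.X :
      Fin (n + 1) → MvPolynomial (Fin (n + 1)) (G.obj (op U)))) ≤
      Submodule.span Γ(S, U.1) (↑T : Set (MvPolynomial (Fin (n + 1)) (G.obj (op U)))) := by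
    refine Submodule.span_mono ?_
    rintro _ ⟨b, hb, _, ⟨i, rfl⟩, rfl⟩
    rw [hT]
    refine Finset.mem_coe.mpr (Finset.mem_image.mpr ⟨(b, i), ?_, ?_⟩)
    · exact Finset.mem_product.mpr ⟨hb, Finset.mem_univ i⟩
    · show MvPolynomial.C b * MvPolynomial.X i = b • MvPolynomial.X i
      rw [MvPolynomial.C_mul']
  obtain ⟨c, -, hc⟩ := Submodule.mem_span_finset.mp (hle hx2)
  refine ⟨c, ?_⟩
  rw [← hc]
  refine Finset.sum_congr rfl fun t _ => ?_
  rw [Algebra.smul_def, MvPolynomial.algebraMap_apply, polyStr_app, ← ha]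
  rfl

end Grading

section Alg
variable {S : Scheme.{u}} (n : ℕ) {G : S.AffineZariskiSiteᵒᵖ ⥤ CommRingCat.{u}}
  {β : (Scheme.AffineZariskiSite.toOpensFunctor S).op ⋙ S.presheaf ⟶ G} (hβ : β.Coequifibered)

/-- The quasi-coherent graded algebra `𝒢[T₀..Tₙ]`. -/
def polyAlg : RelProj.QCGrAlg S :=
  Groth.Agent.QCCons.grAlg (coequifibered_polyStr n hβ) (polyGr n G)
    (fun i _ _ hx => polyGr_hmap n G i hx) (polyGr_hstr n G β)

theorem polyAlg_gen : (polyAlg n hβ).IsGenDegOne :=
  Groth.Agent.QCCons.isGenDegOne_grAlg _ _ _ _ (polyGr_gen n G)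

theorem polyAlg_ft (hfin : ∀ U : S.AffineZariskiSite, (β.app (op U)).hom.Finite) :
    (polyAlg n hβ).IsFTDeg 1 :=
  Groth.Agent.QCCons.isFTDeg_grAlg _ _ _ _ 1 (fun U => polyGr_ft n U (hfin U))

end Alg

section Charts
variable {S : Scheme.{u}} (n : ℕ) {G : S.AffineZariskiSiteᵒᵖ ⥤ CommRingCat.{u}}
  {β : (Scheme.AffineZariskiSite.toOpensFunctor S).op ⋙ S.presheaf ⟶ G}

open Groth.Agent.QCCons Groth.Agent.ProjBCn

theorem toSpecZero_strZeroF (U : S.AffineZariskiSite) :
    Proj.toSpecZero (polyGr n G U) ≫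
        Spec.map (strZeroF (polyGr n G) (polyGr_hstr n G β) U) =
      ProjSpace.toSpec n (G.obj (op U)) ≫ Spec.map (β.app (op U)) := by
  have h : strZeroF (polyGr n G) (polyGr_hstr n G β) U =
      β.app (op U) ≫ CommRingCat.ofHom (algebraMap (G.obj (op U))
        (polyGrading n (G.obj (op U)) 0)) := by
    ext r
    rfl
  rw [h]
  refine (congrArg (fun q => Proj.toSpecZero (polyGr n G U) ≫ q) (Spec.map_comp _ _)).trans ?_
  exact (Category.assoc _ _ _).symm

theorem projMap_resF_toSpec (U : S.AffineZariskiSite) (r : Γ(S, U.1))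
    (hmap : ∀ {U V : S.AffineZariskiSite} (i : V ⟶ U) {d : ℕ}
      {x : (G ⋙ polyFunctor n).obj (op U)},
      x ∈ polyGr n G U d → ((G ⋙ polyFunctor n).map i.op).hom x ∈ polyGr n G V d)
    (hirr : HomogeneousIdeal.irrelevant (polyGr n G (U.basicOpen r)) ≤
      (HomogeneousIdeal.irrelevant (polyGr n G U)).map (resF (polyGr n G) hmap U r)) :
    Proj.map (resF (polyGr n G) hmap U r) hirr ≫ ProjSpace.toSpec n (G.obj (op U)) =
      ProjSpace.toSpec n (G.obj (op (U.basicOpen r))) ≫
        Spec.map (G.map (homOfLE (U.basicOpen_le r)).op) := by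
  letI := (G.map (homOfLE (U.basicOpen_le r)).op).hom.toAlgebra
  have h1 := projMap_toSpec n (G.obj (op U)) (G.obj (op (U.basicOpen r)))
  have h2 : Proj.map (resF (polyGr n G) hmap U r) hirr =
      projMap n (G.obj (op U)) (G.obj (op (U.basicOpen r))) :=
    projMap_congr (GradedRingHom.ext fun x => rfl) _ _
  rw [h2]
  exact h1

end Charts

section Push
variable {X Y : Scheme.{u}} (f : X ⟶ Y)

/-- `U ↦ Γ(X, f⁻¹U)` on the affine opens of `Y`. -/
def pushDiag : Y.AffineZariskiSiteᵒᵖ ⥤ CommRingCat.{u} :=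
  (Scheme.AffineZariskiSite.toOpensFunctor Y).op ⋙ (Opens.map f.base).op ⋙ X.presheaf

/-- `Γ(Y, U) → Γ(X, f⁻¹U)`. -/
def pushNat : (Scheme.AffineZariskiSite.toOpensFunctor Y).op ⋙ Y.presheaf ⟶ pushDiag f where
  app U := f.app U.unop.1
  naturality _ _ i := f.naturality ((Scheme.AffineZariskiSite.toOpensFunctor Y).op.map i)

theorem coequifibered_pushNat [IsAffineHom f] : (pushNat f).Coequifibered := by
  refine Scheme.AffineZariskiSite.coequifibered_iff_forall_isLocalizationAway.mpr fun U r => ?_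
  exact (U.2.preimage f).isLocalization_of_eq_basicOpen (f.app U.1 r)
    (homOfLE (f.preimage_mono (Y.basicOpen_le r))) (f.preimage_basicOpen r)

end Push

end Groth.Agent.QCPoly
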