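import Mathlib
import Groth.Prelude
import Groth.Agent.Lib.ProjBCn2_helper5
import Groth.Agent.Lib.QCPoly_helper5

/-!
# `P^n_S` over an affine open of `S`  (helper5)
APPEND-ONLY once landed.
-/

set_option autoImplicit false
universe u
open CategoryTheory CategoryTheory.Limits AlgebraicGeometry TopologicalSpace Opposite

noncomputable section

namespace Groth.Agent.PnOver

open CohB1 Groth.Agent.ProjBCn

/-- The unique ring homomorphism `ℤ → A` (with `ℤ` lifted to the universe of `A`). -/
def zHom (A : Type u) [CommRing A] : ULift.{u} ℤ →+* A :=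
  (Int.castRingHom A).comp (ULift.ringEquiv : ULift.{u} ℤ ≃+* ℤ).toRingHom

theorem zHom_unique {A : Type u} [CommRing A] (φ ψ : ULift.{u} ℤ →+* A) : φ = ψ := by
  have h : φ.comp (ULift.ringEquiv : ULift.{u} ℤ ≃+* ℤ).symm.toRingHom =
      ψ.comp (ULift.ringEquiv : ULift.{u} ℤ ≃+* ℤ).symm.toRingHom := RingHom.ext_int _ _
  ext x
  have := congrArg (fun χ : ℤ →+* A => χ ((ULift.ringEquiv : ULift.{u} ℤ ≃+* ℤ) x)) h
  simp only [RingHom.comp_apply, RingEquiv.toRingHom_eq_coe, RingHom.coe_coe,
    RingEquiv.symm_apply_apply] at this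
  exact this

theorem range_fst_of_isPullback {P X Y Z : Scheme.{u}} {fst : P ⟶ X} {snd : P ⟶ Y} {f : X ⟶ Z}
    {g : Y ⟶ Z} (h : IsPullback fst snd f g) :
    Set.range fst = f ⁻¹' Set.range g := by
  have h1 : fst = h.isoPullback.hom ≫ pullback.fst f g := h.isoPullback_hom_fst.symm
  have hs : Function.Surjective h.isoPullback.hom := fun x =>
    ⟨h.isoPullback.inv x, by rw [← Scheme.Hom.comp_apply, Iso.inv_hom_id]; rfl⟩
  rw [h1, Scheme.Hom.comp_base, TopCat.coe_comp, Set.range_comp,
    Set.range_eq_univ.mpr hs, Set.image_univ]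
  exact Scheme.Pullback.range_fst f g

variable (n : ℕ) {S : Scheme.{u}}

/-- `P^n_{Γ(S,U)} ⟶ P^n_S` for an affine open `U` of `S`. -/
def sigma (U : S.Opens) (hU : IsAffineOpen U) : ProjSpace n Γ(S, U) ⟶ ProjSpaceOver n S :=
  pullback.lift (projMapH n (zHom Γ(S, U))) (ProjSpace.toSpec n Γ(S, U) ≫ hU.fromSpec)
    (specULiftZIsTerminal.hom_ext _ _)

theorem sigma_fst (U : S.Opens) (hU : IsAffineOpen U) :
    sigma n U hU ≫ pullback.fst (ProjSpace.toSpec n (ULift.{u} ℤ)) (specULiftZIsTerminal.from S) =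
      projMapH n (zHom Γ(S, U)) :=
  pullback.lift_fst _ _ _

theorem sigma_toBase (U : S.Opens) (hU : IsAffineOpen U) :
    sigma n U hU ≫ ProjSpaceOver.toBase n S = ProjSpace.toSpec n Γ(S, U) ≫ hU.fromSpec :=
  pullback.lift_snd _ _ _

theorem isPullback_sigma (U : S.Opens) (hU : IsAffineOpen U) :
    IsPullback (sigma n U hU) (ProjSpace.toSpec n Γ(S, U)) (ProjSpaceOver.toBase n S)
      hU.fromSpec := by
  refine IsPullback.of_right ?_ (sigma_toBase n U hU)
    (IsPullback.of_hasPullback (ProjSpace.toSpec n (ULift.{u} ℤ)) (specULiftZIsTerminal.from S))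
  have h1 : hU.fromSpec ≫ specULiftZIsTerminal.from S =
      Spec.map (CommRingCat.ofHom (zHom Γ(S, U))) := specULiftZIsTerminal.hom_ext _ _
  rw [sigma_fst, h1]
  exact isPullback_projMapH n (zHom Γ(S, U))

instance isOpenImmersion_sigma (U : S.Opens) (hU : IsAffineOpen U) :
    IsOpenImmersion (sigma n U hU) :=
  MorphismProperty.of_isPullback (isPullback_sigma n U hU).flip inferInstance

theorem opensRange_sigma (U : S.Opens) (hU : IsAffineOpen U) :
    (sigma n U hU).opensRange = ProjSpaceOver.toBase n S ⁻¹ᵁ U := by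
  ext x
  have h := range_fst_of_isPullback (isPullback_sigma n U hU)
  have h2 : Set.range hU.fromSpec = (U : Set S) := hU.range_fromSpec
  show x ∈ Set.range (sigma n U hU) ↔ _
  rw [h, h2]
  rfl

theorem sigma_res {U V : S.Opens} (hU : IsAffineOpen U) (hV : IsAffineOpen V) (h : V ≤ U) :
    projMapH n (S.presheaf.map (homOfLE h).op).hom ≫ sigma n U hU = sigma n V hV := by
  refine pullback.hom_ext ?_ ?_
  · exact (Category.assoc _ _ _).trans
      ((congrArg (fun q => projMapH n (S.presheaf.map (homOfLE h).op).hom ≫ q)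
        (sigma_fst n U hU)).trans
        ((projMapH_comp n _ _).trans
          ((congrArg (projMapH n) (zHom_unique _ _)).trans (sigma_fst n V hV).symm)))
  · have e1 : projMapH n (S.presheaf.map (homOfLE h).op).hom ≫
        ProjSpace.toSpec n Γ(S, U) ≫ hU.fromSpec = ProjSpace.toSpec n Γ(S, V) ≫ hV.fromSpec := by
      rw [← Category.assoc, projMapH_toSpec, Category.assoc]
      congr 1
      exact IsAffineOpen.map_fromSpec hU hV (homOfLE h).op
    exact (Category.assoc _ _ _).trans
      ((congrArg (fun q => projMapH n (S.presheaf.map (homOfLE h).op).hom ≫ q)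
        (sigma_toBase n U hU)).trans (e1.trans (sigma_toBase n V hV).symm))

end Groth.Agent.PnOver
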