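import Mathlib
import Groth.Prelude
import Groth.Agent.Lib.ProjTwPow_helper5
import Groth.Agent.Lib.GrTwPull_helper5

/-!
# Pullback of twisting sheaves along `Proj.map` (helper9)

For a graded ring homomorphism `ψ : 𝒜 → ℬ` with `𝒜` covered by the `D₊(f)`, `f` of degree one:
`(Proj.map ψ)^* O_{Proj 𝒜}(n) ≅ O_{Proj ℬ}(n)`.
APPEND-ONLY once landed.
-/

set_option autoImplicit false

universe u

open CategoryTheory CategoryTheory.Limits AlgebraicGeometry Opposite TopologicalSpace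

namespace ProjPullTwH9

open Groth.Agent.ProjTw

variable {R A R' B : Type u} [CommRing R] [CommRing A] [Algebra R A] [CommRing R'] [CommRing B]
  [Algebra R' B] {𝒜 : ℕ → Submodule R A} [GradedAlgebra 𝒜] {ℬ : ℕ → Submodule R' B}
  [GradedAlgebra ℬ] (ψ : 𝒜 →+*ᵍ ℬ)
  (hψ : HomogeneousIdeal.irrelevant ℬ ≤ (HomogeneousIdeal.irrelevant 𝒜).map ψ)

/-- The canonical map `O_𝒜(n) ⟶ h_* O_ℬ(n)`. -/
noncomputable def theta (n : ℤ) :
    Twist.twist 𝒜 n ⟶ (Scheme.Modules.pushforward (Proj.map ψ hψ)).obj (Twist.twist ℬ n) :=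
  GrTwist.comap ψ hψ n

/-- Its adjoint `h^* O_𝒜(n) ⟶ O_ℬ(n)`. -/
noncomputable def adj (n : ℤ) :
    (Scheme.Modules.pullback (Proj.map ψ hψ)).obj (Twist.twist 𝒜 n) ⟶ Twist.twist ℬ n :=
  ((Scheme.Modules.pullbackPushforwardAdjunction (Proj.map ψ hψ)).homEquiv _ _).symm
    (theta ψ hψ n)

theorem genSec_val' (ℬ : ℕ → Submodule R' B) [GradedAlgebra ℬ] {g : B} (hg : g ∈ ℬ 1) (n : ℤ)
    (x : ProjectiveSpectrum.basicOpen ℬ g) :
    (((genSecK ℬ hg n n (by simp)).1 x : Twist.twistAt ℬ n x.1) : Twist.Loc ℬ x.1) =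
      Localization.mk (g ^ n.toNat) ⟨g ^ (-n).toNat,
        show g ^ (-n).toNat ∈ x.1.asHomogeneousIdeal.toIdeal.primeCompl from
          fun h => x.2 (x.1.isPrime.mem_of_pow_mem _ h)⟩ := rfl

theorem theta_genSecK {f : A} (hf : f ∈ 𝒜 1) (n : ℤ) :
    QCohExtn.ap (theta ψ hψ n) (Proj.basicOpen 𝒜 f) (genSecK 𝒜 hf n n (by simp)) =
      genSecK ℬ (ψ.map_mem hf) n n (by simp) := by
  refine Subtype.ext (funext fun y => Subtype.ext ?_)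
  refine (GrTwist.comap_app_val ψ hψ n (Proj.basicOpen 𝒜 f) (genSecK 𝒜 hf n n (by simp)) y).trans ?_
  refine (GrTwist.locMap_mk ψ hψ y.1 _ _).trans ?_
  refine Eq.trans ?_ (genSec_val' ℬ (ψ.map_mem hf) n y).symm
  rw [Localization.mk_eq_mk_iff]
  apply Localization.r_of_eq
  simp only [map_pow]
  rfl

end ProjPullTwH9

namespace ProjPullTwH9

open Groth.Agent.ProjTw

variable {R A R' B : Type u} [CommRing R] [CommRing A] [Algebra R A] [CommRing R'] [CommRing B]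
  [Algebra R' B] {𝒜 : ℕ → Submodule R A} [GradedAlgebra 𝒜] {ℬ : ℕ → Submodule R' B}
  [GradedAlgebra ℬ] (ψ : 𝒜 →+*ᵍ ℬ)
  (hψ : HomogeneousIdeal.irrelevant ℬ ≤ (HomogeneousIdeal.irrelevant 𝒜).map ψ)

/-- **`h^* O_𝒜(n) ⟶ O_ℬ(n)` is an isomorphism** when `Proj 𝒜` is covered by the `D₊(f)`, `f` of
degree one. -/
theorem isIso_adj (hcov : ∀ x : Proj 𝒜, ∃ f ∈ 𝒜 1, x ∈ Proj.basicOpen 𝒜 f) (n : ℤ) :
    IsIso (adj ψ hψ n) := by
  have hinv : PicF.IsInvertible (Twist.twist 𝒜 n) := isInvertible_twist 𝒜 hcov n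
  apply TensH8.isIso_of_isGen_cover
  intro y
  obtain ⟨f, hf, hx⟩ := hcov ((Proj.map ψ hψ) y)
  have haff : IsAffineOpen (Proj.basicOpen 𝒜 f) := Proj.isAffineOpen_basicOpen 𝒜 f hf one_pos
  have hgen := isGen_genSecK 𝒜 one_pos hf n n (by simp)
  refine ⟨(Proj.map ψ hψ) ⁻¹ᵁ (Proj.basicOpen 𝒜 f), hx,
    PBH8.cUV (Proj.map ψ hψ) (Twist.twist 𝒜 n) le_rfl (genSecK 𝒜 hf n n (by simp)),
    TensH8.isGen_cUV (Proj.map ψ hψ) hinv haff hgen, ?_⟩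
  have h1 := Groth.Agent.GrTw.adj_symm_cUV (Proj.map ψ hψ) (theta ψ hψ n) (Proj.basicOpen 𝒜 f)
    (genSecK 𝒜 hf n n (by simp))
  have h2 : QCohExtn.ap (adj ψ hψ n) ((Proj.map ψ hψ) ⁻¹ᵁ (Proj.basicOpen 𝒜 f))
      (PBH8.cUV (Proj.map ψ hψ) (Twist.twist 𝒜 n) le_rfl (genSecK 𝒜 hf n n (by simp))) =
      genSecK ℬ (ψ.map_mem hf) n n (by simp) := h1.trans (theta_genSecK ψ hψ hf n)
  rw [h2]
  exact isGen_genSecK ℬ one_pos (ψ.map_mem hf) n n (by simp)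

/-- **`(Proj.map ψ)^* O(n) ≅ O(n)`.** -/
theorem nonempty_pullback_twist_iso (hcov : ∀ x : Proj 𝒜, ∃ f ∈ 𝒜 1, x ∈ Proj.basicOpen 𝒜 f)
    (n : ℤ) :
    Nonempty ((Scheme.Modules.pullback (Proj.map ψ hψ)).obj (Twist.twist 𝒜 n) ≅
      Twist.twist ℬ n) := by
  haveI := isIso_adj ψ hψ hcov n
  exact ⟨asIso (adj ψ hψ n)⟩

end ProjPullTwH9
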