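import Mathlib
import Groth.Prelude
import Groth.Agent.Lib.OpenImmCoh_helper9
import Groth.Agent.Lib.ProjPullTw_helper9
import Groth.Agent.Lib.PnOver_helper5
import Groth.Agent.Lib.ProjCech2_helper9
import Groth.Agent.Lib.ProjTens1_helper9

/-!
# Higher direct images of `O(d)` on `P^n_S` (helper9)
APPEND-ONLY once landed.
-/

set_option autoImplicit false

universe u

open CategoryTheory CategoryTheory.Limits AlgebraicGeometry Opposite TopologicalSpace
open Groth.Agent.Lib.FreeSheaf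

namespace PnOverVanH9

open RpushVanish (fr)
open AffVanish (Sec rs apS)
open CohB1 Groth.Agent.ProjBCn Groth.Agent.PnOver

/-- `(P^n_A ⟶ P^n_R)^* O(d) ≅ O(d)`. -/
theorem pullback_projMapH_twist (n : ℕ) {R A : Type u} [CommRing R] [CommRing A] (φ : R →+* A)
    (d : ℤ) :
    Nonempty ((Scheme.Modules.pullback (projMapH n φ)).obj (Twist.twistProjSpace n R d) ≅
      Twist.twistProjSpace n A d) :=
  ProjPullTwH9.nonempty_pullback_twist_iso (polyMapH n φ) (polyMapH_irr n φ)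
    (Groth.Agent.ProjTens.hcov' n R) d

/-- The restriction of `O(d)` on `P^n_S` to `P^n_{Γ(S,U)}` is `O(d)`. -/
theorem pullback_sigma_twistOver (n : ℕ) {S : Scheme.{u}} (U : S.Opens) (hU : IsAffineOpen U)
    (d : ℤ) :
    Nonempty ((Scheme.Modules.pullback (sigma n U hU)).obj (Twist.twistOver n S d) ≅
      Twist.twistProjSpace n Γ(S, U) d) := by
  obtain ⟨e⟩ := pullback_projMapH_twist n (zHom Γ(S, U)) d
  exact ⟨(Scheme.Modules.pullbackComp (sigma n U hU)
      (pullback.fst (ProjSpace.toSpec n (ULift.{u} ℤ)) (specULiftZIsTerminal.from S))).app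
        (Twist.twistProjSpace n (ULift.{u} ℤ) d) ≪≫
    (Scheme.Modules.pullbackCongr (sigma_fst n U hU)).app _ ≪≫ e⟩

/-- Vanishing of the cohomology of `O(d)` over the preimage of an affine open. -/
theorem ext_eq_zero (n : ℕ) {S : Scheme.{u}} (U : S.Opens) (hU : IsAffineOpen U) (d : ℤ) (q : ℕ)
    (h₀ : ¬ (q = 0 ∧ 0 ≤ d)) (hn : ¬ (q = n ∧ d ≤ -((n : ℤ) + 1)))
    (ξ : Abelian.Ext (fr (Y := (ProjSpaceOver n S).carrier) (ProjSpaceOver.toBase n S ⁻¹ᵁ U))
      (Coh.toAb (Twist.twistOver n S d)) q) : ξ = 0 := by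
  have key : ∀ V : (ProjSpaceOver n S).Opens, (sigma n U hU).opensRange = V →
      ∀ ξ : Abelian.Ext (fr (Y := (ProjSpaceOver n S).carrier) V)
        (Coh.toAb (Twist.twistOver n S d)) q, ξ = 0 := by
    rintro V rfl ξ
    obtain ⟨e⟩ := pullback_sigma_twistOver n U hU d
    have h1 : Subsingleton (Coh.HH (ProjSpace n Γ(S, U)) (Twist.twistProjSpace n Γ(S, U) d) q) :=
      Groth.Agent.ProjCech.subsingleton_HH_twist (n := n) (R := Γ(S, U)) d q h₀ hn
    exact OpenImmCohH9.ext_eq_zero_of_subsingleton (sigma n U hU) _ q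
      (Groth.Agent.HHVan.subsingleton_of_iso e.symm q h1) ξ
  exact key _ (opensRange_sigma n U hU) ξ

/-- An abelian sheaf whose sections over the members of a basis vanish is zero. -/
theorem isZero_of_basis {Y : TopCat.{u}} (G : CohTop.Ab Y) (B : Opens Y → Prop)
    (hB : ∀ (V : Opens Y) (y : Y), y ∈ V → ∃ W : Opens Y, B W ∧ y ∈ W ∧ W ≤ V)
    (h : ∀ W, B W → ∀ s : Sec G W, s = 0) : IsZero G := by
  have hall : ∀ (V : Opens Y) (s : Sec G V), s = 0 := by
    intro V s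
    refine TopCat.Sheaf.eq_of_locally_eq' G
      (fun i : {W : Opens Y // B W ∧ W ≤ V} => i.1) V (fun i => homOfLE i.2.2) ?_ s 0 ?_
    · intro y hy
      obtain ⟨W, hW, hyW, hWV⟩ := hB V y hy
      exact Opens.mem_iSup.mpr ⟨⟨W, hW, hWV⟩, hyW⟩
    · intro i
      exact (h i.1 i.2.1 _).trans (h i.1 i.2.1 _).symm
  rw [IsZero.iff_id_eq_zero]
  apply Sheaf.hom_ext
  ext V s
  exact (hall V.unop _).trans (hall V.unop _).symm

end PnOverVanH9

namespace PnOverVanH9

open RpushVanish (fr)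
open AffVanish (Sec rs apS)
open CohB1 Groth.Agent.ProjBCn Groth.Agent.PnOver

theorem affine_basis (Y : Scheme.{u}) (V : Y.Opens) (y : Y) (hy : y ∈ V) :
    ∃ W : Y.Opens, IsAffineOpen W ∧ y ∈ W ∧ W ≤ V := by
  obtain ⟨W, hW, hyW, hWle⟩ := Opens.isBasis_iff_nbhd.mp Y.isBasis_affineOpens hy
  exact ⟨W, hW, hyW, hWle⟩

/-- **`R^i f_* O(d) = 0` on `P^r_Y`** outside the two exceptional ranges. -/
theorem main (Y : Scheme.{u}) (r i : ℕ) (d : ℤ)
    (h : ¬ ((i = 0 ∧ 0 ≤ d) ∨ (i = r ∧ d ≤ -((r : ℤ) + 1)))) :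
    IsZero ((Coh.RpushAb (ProjSpaceOver.toBase r Y) i).obj (Coh.toAb (Twist.twistOver r Y d))) := by
  have h₀ : ¬ (i = 0 ∧ 0 ≤ d) := fun hh => h (Or.inl hh)
  have hn : ¬ (i = r ∧ d ≤ -((r : ℤ) + 1)) := fun hh => h (Or.inr hh)
  cases i with
  | zero =>
    refine IsZero.of_iso ?_ ((Coh.pushAb (ProjSpaceOver.toBase r Y)).rightDerivedZeroIsoSelf.app _)
    refine isZero_of_basis _ (fun W => IsAffineOpen (X := Y) W) (affine_basis Y) ?_
    intro W hW s
    have h1 := ext_eq_zero r W hW d 0 h₀ hn (Abelian.Ext.mk₀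
      ((freeSheafHomEquiv (Opens.grothendieckTopology (ProjSpaceOver r Y))
        (ProjSpaceOver.toBase r Y ⁻¹ᵁ W) (Coh.toAb (Twist.twistOver r Y d))).symm s))
    have h2 : (freeSheafHomEquiv (Opens.grothendieckTopology (ProjSpaceOver r Y))
        (ProjSpaceOver.toBase r Y ⁻¹ᵁ W) (Coh.toAb (Twist.twistOver r Y d))).symm s = 0 :=
      (Abelian.Ext.mk₀_bijective _ _).1 (h1.trans (Abelian.Ext.mk₀_zero _ _).symm)
    have h3 := congrArg (freeSheafHomEquiv (Opens.grothendieckTopology (ProjSpaceOver r Y))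
        (ProjSpaceOver.toBase r Y ⁻¹ᵁ W) (Coh.toAb (Twist.twistOver r Y d))) h2
    rw [Equiv.apply_symm_apply] at h3
    exact h3.trans (RpushVanish.homEquiv_zero _ _)
  | succ q =>
    exact RpushVanish.isZero_Rpush_succ_of_basis (ProjSpaceOver.toBase r Y).base
      (Coh.toAb (Twist.twistOver r Y d)) q (fun W => IsAffineOpen (X := Y) W) (affine_basis Y)
      (fun W hW ξ => ext_eq_zero r W hW d (q + 1) h₀ hn ξ)

end PnOverVanH9
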