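import Mathlib
import Groth.Prelude.Def_CohB1
import Groth.Prelude.Def_RelProj

/-!
# Projective space over a scheme is proper over it (helper4)
-/

set_option autoImplicit false
universe u

namespace Groth.Agent.Lib.ProjSpaceProperH4

open CategoryTheory CategoryTheory.Limits AlgebraicGeometry CohB1

section
variable (n : ℕ) (R : Type u) [CommRing R]

theorem algebraMap_gradeZero_surjective :
    Function.Surjective (algebraMap R (polyGrading n R 0)) := by
  rintro ⟨p, hp⟩
  have h0 : p.totalDegree = 0 :=
    Nat.le_zero.mp ((MvPolynomial.mem_homogeneousSubmodule 0 p).mp hp).totalDegree_le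
  have hC : p = MvPolynomial.C (p.coeff 0) := MvPolynomial.totalDegree_eq_zero_iff_eq_C.mp h0
  refine ⟨p.coeff 0, Subtype.ext ?_⟩
  exact hC.symm

instance finiteType :
    Algebra.FiniteType (polyGrading n R 0) (MvPolynomial (Fin (n + 1)) R) := by
  classical
  refine ⟨⟨Finset.univ.image MvPolynomial.X, ?_⟩⟩
  rw [eq_top_iff]
  rintro p -
  induction p using MvPolynomial.induction_on with
  | C a =>
    have : (MvPolynomial.C a : MvPolynomial (Fin (n + 1)) R) =
        algebraMap (polyGrading n R 0) _ (algebraMap R (polyGrading n R 0) a) := rfl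
    rw [this]
    exact Subalgebra.algebraMap_mem _ _
  | add p q hp hq => exact add_mem hp hq
  | mul_X p i hp => exact mul_mem hp (Algebra.subset_adjoin (by simp))

theorem isProper_toSpec : IsProper (ProjSpace.toSpec n R) := by
  unfold ProjSpace.toSpec
  have h1 : IsProper (Proj.toSpecZero (polyGrading n R)) := inferInstance
  have h2 : IsClosedImmersion
      (Spec.map (CommRingCat.ofHom (algebraMap R (polyGrading n R 0)))) :=
    IsClosedImmersion.spec_of_surjective _ (algebraMap_gradeZero_surjective n R)
  have h3 : IsProper (Spec.map (CommRingCat.ofHom (algebraMap R (polyGrading n R 0)))) :=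
    inferInstance
  exact MorphismProperty.comp_mem _ _ _ h1 h3

end

theorem isProper_toBase (n : ℕ) (S : Scheme.{u}) : IsProper (ProjSpaceOver.toBase n S) := by
  unfold ProjSpaceOver.toBase
  exact MorphismProperty.pullback_snd _ _ (isProper_toSpec n (ULift.{u} ℤ))

theorem main9705 {X S : Scheme.{u}} (f : X ⟶ S) :
    RelProj.IsHProjective f ↔ RelProj.IsHQuasiProjective f ∧ IsProper f := by
  constructor
  · rintro ⟨n, i, hi, rfl⟩
    have hb := isProper_toBase n S
    exact ⟨⟨n, i, inferInstance, inferInstance, rfl⟩, MorphismProperty.comp_mem _ _ _ inferInstance hb⟩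
  · rintro ⟨⟨n, i, hi, hqc, rfl⟩, hp⟩
    have hb := isProper_toBase n S
    haveI : IsProper i := IsProper.of_comp i (ProjSpaceOver.toBase n S)
    exact ⟨n, i, IsClosedImmersion.of_isPreimmersion i i.isClosedMap.isClosed_range, rfl⟩

end Groth.Agent.Lib.ProjSpaceProperH4
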