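import Mathlib
import Groth.Prelude
import Groth.Agent.Lib.Tens41_helper8
import Groth.Agent.Lib.Bilin_helper8

/-!
# Restriction along an open immersion commutes with tensoring by an invertible module (helper9)

For an open immersion `σ : P ⟶ X`, a module `B` and an invertible module `L` on `X`:
`(B|_P) ⊗ (L|_P) ≅ (B ⊗ L)|_P`.
APPEND-ONLY once landed.
-/

set_option autoImplicit false

universe u

open CategoryTheory CategoryTheory.Limits AlgebraicGeometry Opposite TopologicalSpace
open QcqsLoc QCohExtn GenLocH8 TensH8 FLFH8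

namespace ResTensH9

variable {P X : Scheme.{u}} (σ : P ⟶ X) [IsOpenImmersion σ]

/-- sections of the restriction, viewed upstairs -/
abbrev up (M : X.Modules) {U : P.Opens} (m : Γ(M.restrict σ, U)) : Γ(M, σ ''ᵁ U) := m

/-- sections upstairs, viewed in the restriction -/
abbrev dn (M : X.Modules) {U : P.Opens} (m : Γ(M, σ ''ᵁ U)) : Γ(M.restrict σ, U) := m

theorem res_smul (M : X.Modules) (U : P.Opens) (r : Γ(P, U)) (m : Γ(M.restrict σ, U)) :
    up σ M (r • m) = ((σ.appIso U).inv.hom r) • up σ M m := rfl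

theorem res_rF (M : X.Modules) {U V : P.Opens} (h : V ≤ U) (m : Γ(M.restrict σ, U)) :
    up σ M (rF (M.restrict σ) h m) = rF M (σ.image_mono h) (up σ M m) := rfl

variable (B L : X.Modules)

/-- the bilinear pairing `(b, l) ↦ b ⊗ l` -/
noncomputable def resBilin :
    BilinData (B.restrict σ) (L.restrict σ) ((CohB1.tensorMod B L).restrict σ) where
  β U b l := dn σ (CohB1.tensorMod B L) (SecTwist.tmul B L (σ ''ᵁ U) (up σ B b) (up σ L l))
  add_left U b b' l := tmul_add_left B L (σ ''ᵁ U) (up σ B b) (up σ B b') (up σ L l)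
  smul_left U r b l := tmul_smul_left B L (σ ''ᵁ U) ((σ.appIso U).inv.hom r) (up σ B b) (up σ L l)
  add_right U b l l' := tmul_add_right B L (σ ''ᵁ U) (up σ B b) (up σ L l) (up σ L l')
  smul_right U r b l := tmul_smul_right B L (σ ''ᵁ U) ((σ.appIso U).inv.hom r) (up σ B b) (up σ L l)
  natural {U V} h b l := rF_tmul B L (σ.image_mono h) (up σ B b) (up σ L l)

/-- the comparison map `(B|_P) ⊗ (L|_P) ⟶ (B ⊗ L)|_P` -/
noncomputable def resHom :
    CohB1.tensorMod (B.restrict σ) (L.restrict σ) ⟶ (CohB1.tensorMod B L).restrict σ :=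
  (resBilin σ B L).toHom

theorem resHom_tmul' (U : P.Opens) (b : Γ(B.restrict σ, U)) (l : Γ(L.restrict σ, U)) :
    ((resHom σ B L).val.app (op U)).hom
        (SecTwist.tmul (B.restrict σ) (L.restrict σ) U b l) =
      dn σ (CohB1.tensorMod B L) (SecTwist.tmul B L (σ ''ᵁ U) (up σ B b) (up σ L l)) :=
  (resBilin σ B L).toHom_tmul U b l

theorem resHom_tmul (U : P.Opens) (b : Γ(B.restrict σ, U)) (l : Γ(L.restrict σ, U)) :
    ap (resHom σ B L) U (SecTwist.tmul (B.restrict σ) (L.restrict σ) U b l) =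
      dn σ (CohB1.tensorMod B L) (SecTwist.tmul B L (σ ''ᵁ U) (up σ B b) (up σ L l)) :=
  resHom_tmul' σ B L U b l

end ResTensH9

namespace ResTensH9

variable {P X : Scheme.{u}} (σ : P ⟶ X) [IsOpenImmersion σ]

theorem appIso_inv_hom (O : P.Opens) (c : Γ(X, σ ''ᵁ O)) :
    (σ.appIso O).inv.hom ((σ.appIso O).hom.hom c) = c := by
  have h := congrArg (fun φ => φ.hom c) (σ.appIso O).hom_inv_id
  exact h

theorem appIso_hom_inv (O : P.Opens) (c : Γ(P, O)) :
    (σ.appIso O).hom.hom ((σ.appIso O).inv.hom c) = c := by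
  have h := congrArg (fun φ => φ.hom c) (σ.appIso O).inv_hom_id
  exact h

/-- the restriction of a generator is a generator -/
theorem isGen_restrict {L : X.Modules} {W : X.Opens} {e : Γ(L, W)} (he : IsGen L W e) :
    IsGen (L.restrict σ) (σ ⁻¹ᵁ W) (dn σ L (rF L (σ.image_preimage_le W) e)) := by
  intro O hO
  have hOW : σ ''ᵁ O ≤ W := (σ.image_mono hO).trans (σ.image_preimage_le W)
  obtain ⟨h1, h2⟩ := he (σ ''ᵁ O) hOW
  have hr : ∀ c' : Γ(P, O), up σ L (c' • rF (L.restrict σ) hO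
      (dn σ L (rF L (σ.image_preimage_le W) e))) = (σ.appIso O).inv.hom c' • rF L hOW e := by
    intro c'
    show (σ.appIso O).inv.hom c' • rF L (σ.image_mono hO) (rF L (σ.image_preimage_le W) e) = _
    rw [rF_rF]
  constructor
  · intro l
    obtain ⟨c, hc⟩ := h1 (up σ L l)
    refine ⟨(σ.appIso O).hom.hom c, ?_⟩
    have h3 := hr ((σ.appIso O).hom.hom c)
    rw [appIso_inv_hom] at h3
    exact hc.trans h3.symm
  · intro c hc
    have h3 := hr c
    rw [hc] at h3
    have h4 : (σ.appIso O).inv.hom c = 0 := h2 _ h3.symm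
    have h5 := congrArg (σ.appIso O).hom.hom h4
    rw [appIso_hom_inv, map_zero] at h5
    exact h5

end ResTensH9

namespace ResTensH9

variable {P X : Scheme.{u}} (σ : P ⟶ X) [IsOpenImmersion σ]

theorem bijective_app (B : X.Modules) {L : X.Modules} {W : X.Opens} {e : Γ(L, W)}
    (he : IsGen L W e) (O : P.Opens) (hO : O ≤ σ ⁻¹ᵁ W) :
    Function.Bijective (ap (resHom σ B L) O) := by
  have hOW : σ ''ᵁ O ≤ W := (σ.image_mono hO).trans (σ.image_preimage_le W)
  have he' := isGen_restrict σ he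
  have key : ∀ t : Γ(B.restrict σ, O), ap (resHom σ B L) O
      (SecTwist.tmul (B.restrict σ) (L.restrict σ) O t
        (rF (L.restrict σ) hO (dn σ L (rF L (σ.image_preimage_le W) e)))) =
      dn σ (CohB1.tensorMod B L) (SecTwist.tmul B L (σ ''ᵁ O) (up σ B t) (rF L hOW e)) := by
    intro t
    rw [resHom_tmul]
    show SecTwist.tmul B L (σ ''ᵁ O) (up σ B t)
      (rF L (σ.image_mono hO) (rF L (σ.image_preimage_le W) e)) = _
    rw [rF_rF]
  constructor
  · intro z z' h
    obtain ⟨t, rfl⟩ := tmulGen_surjective (B.restrict σ) (L.restrict σ) he' hO z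
    obtain ⟨t', rfl⟩ := tmulGen_surjective (B.restrict σ) (L.restrict σ) he' hO z'
    rw [key, key] at h
    have h2 : up σ B t = up σ B t' := tmulGen_injective B L he hOW (up σ B t) (up σ B t') h
    have h3 : t = t' := h2
    rw [h3]
  · intro y
    obtain ⟨t, ht⟩ := tmulGen_surjective B L he hOW (up σ (CohB1.tensorMod B L) y)
    exact ⟨SecTwist.tmul (B.restrict σ) (L.restrict σ) O (dn σ B t)
      (rF (L.restrict σ) hO (dn σ L (rF L (σ.image_preimage_le W) e))), (key _).trans ht⟩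

/-- **`(B|_P) ⊗ (L|_P) ⟶ (B ⊗ L)|_P` is an isomorphism for invertible `L`.** -/
theorem isIso_resHom (B : X.Modules) {L : X.Modules} (hL : PicF.IsInvertible L) :
    IsIso (resHom σ B L) := by
  let Bas : {V : P.Opens // ∀ W : P.Opens, W ≤ V → Function.Bijective (ap (resHom σ B L) W)} →
      P.Opens := Subtype.val
  have hB : Opens.IsBasis (Set.range Bas) := by
    rw [Opens.isBasis_iff_nbhd]
    intro U x hxU
    obtain ⟨W, -, hxW, e, he⟩ := exists_isGen hL (σ x)
    exact ⟨σ ⁻¹ᵁ W ⊓ U, ⟨⟨σ ⁻¹ᵁ W ⊓ U, fun O hO =>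
      bijective_app σ B he O (hO.trans inf_le_left)⟩, rfl⟩, ⟨hxW, hxU⟩, inf_le_right⟩
  refine QCohCrit.isIso_of_isIso_app_basis (resHom σ B L) Bas hB (fun V => ?_)
  exact (ConcreteCategory.isIso_iff_bijective _).mpr (V.2 V.1 le_rfl)

/-- `(B ⊗ L)|_P ≅ (B|_P) ⊗ (L|_P)`. -/
noncomputable def resTensIso (B : X.Modules) {L : X.Modules} (hL : PicF.IsInvertible L) :
    (CohB1.tensorMod B L).restrict σ ≅ CohB1.tensorMod (B.restrict σ) (L.restrict σ) :=
  (@asIso _ _ _ _ (resHom σ B L) (isIso_resHom σ B hL)).symm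

end ResTensH9
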