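import Mathlib

/-!
# Right derived functors of a composite `G ⋙ F` with `G` exact and preserving injectives

If `G : C ⥤ D` is exact and sends injectives to injectives, then
`(G ⋙ F).rightDerived n ≅ G ⋙ F.rightDerived n` for every additive `F : D ⥤ E`.
-/

open CategoryTheory CategoryTheory.Limits

namespace DerComp

variable {C D E : Type*} [Category C] [Category D] [Category E] [Abelian C] [Abelian D] [Abelian E]
  [HasInjectiveResolutions C] [HasInjectiveResolutions D]
  (G : C ⥤ D) [G.Additive] [PreservesFiniteLimits G] [PreservesFiniteColimits G]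
  (hG : ∀ I : C, Injective I → Injective (G.obj I))
  (F : D ⥤ E) [F.Additive]

/-- The image of an injective resolution under an exact functor preserving injectives. -/
noncomputable def mapRes {X : C} (R : InjectiveResolution X) : InjectiveResolution (G.obj X) where
  cocomplex := (G.mapHomologicalComplex _).obj R.cocomplex
  injective n := hG _ (R.injective n)
  ι := (HomologicalComplex.singleMapHomologicalComplex G (ComplexShape.up ℕ) 0).inv.app X ≫
    (G.mapHomologicalComplex _).map R.ι
  quasiIso := by
    haveI := R.quasiIso
    infer_instance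

omit [HasInjectiveResolutions C] [HasInjectiveResolutions D] in
theorem mapRes_comm {X Y : C} (φ : X ⟶ Y) (RX : InjectiveResolution X)
    (RY : InjectiveResolution Y) (φ' : RX.cocomplex ⟶ RY.cocomplex)
    (w : RX.ι ≫ φ' = (CochainComplex.single₀ C).map φ ≫ RY.ι) :
    (mapRes G hG RX).ι ≫ (G.mapHomologicalComplex _).map φ' =
      (CochainComplex.single₀ D).map (G.map φ) ≫ (mapRes G hG RY).ι := by
  have nat := (HomologicalComplex.singleMapHomologicalComplex G (ComplexShape.up ℕ) 0).inv.naturality φ
  dsimp only [mapRes]
  rw [Category.assoc, ← Functor.map_comp, w, Functor.map_comp, ← Category.assoc, ← Category.assoc]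
  congr 1
  exact nat.symm

/-- The comparison isomorphism on objects. -/
noncomputable def objIso (n : ℕ) (X : C) :
    ((G ⋙ F).rightDerived n).obj X ≅ (F.rightDerived n).obj (G.obj X) :=
  (injectiveResolution X).isoRightDerivedObj (G ⋙ F) n ≪≫
    ((mapRes G hG (injectiveResolution X)).isoRightDerivedObj F n).symm

theorem objIso_naturality (n : ℕ) {X Y : C} (φ : X ⟶ Y) :
    ((G ⋙ F).rightDerived n).map φ ≫ (objIso G hG F n Y).hom =
      (objIso G hG F n X).hom ≫ (F.rightDerived n).map (G.map φ) := by
  have w : (injectiveResolution X).ι ≫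
      InjectiveResolution.desc φ (injectiveResolution Y) (injectiveResolution X) =
      (CochainComplex.single₀ C).map φ ≫ (injectiveResolution Y).ι :=
    InjectiveResolution.desc_commutes φ _ _
  have w' := mapRes_comm G hG φ _ _ _ w
  have e1 := Functor.rightDerived_map_eq (G ⋙ F) n φ _ w
  have e2 := Functor.rightDerived_map_eq F n (G.map φ)
    (P := mapRes G hG (injectiveResolution X)) (Q := mapRes G hG (injectiveResolution Y))
    ((G.mapHomologicalComplex _).map
      (InjectiveResolution.desc φ (injectiveResolution Y) (injectiveResolution X))) w'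
  rw [e1, e2]
  dsimp only [objIso, Iso.trans_hom, Iso.symm_hom]
  simp only [Category.assoc, Iso.inv_hom_id_assoc]
  refine congrArg (_ ≫ ·) ?_
  exact (Iso.inv_hom_id_assoc ((mapRes G hG (injectiveResolution X)).isoRightDerivedObj F n) _).symm

/-- `(G ⋙ F).rightDerived n ≅ G ⋙ F.rightDerived n`. -/
noncomputable def natIso (n : ℕ) : (G ⋙ F).rightDerived n ≅ G ⋙ F.rightDerived n :=
  NatIso.ofComponents (objIso G hG F n) (fun φ => objIso_naturality G hG F n φ)

end DerComp
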