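import Mathlib
import Groth.Prelude.Def_LocCohZ
import Groth.Agent.Lib.ExtZero_helper9

/-!
# Sections of the sheaf `Γ_Z(F)` of sections supported in a closed subset

For an open `U` of `X` with inclusion `j`, the prelude defines `Γ_Z(F) = ker (F ⟶ j_* j⁻¹ F)` with
Mathlib's pullback `j⁻¹`.  We build the adjunction `(restriction to U) ⊣ j_*` by hand (unit =
restriction maps), compare with Mathlib's adjunction by uniqueness of left adjoints, and deduce
that the sections of `Γ_Z(F)` over `V` are the sections of `F` over `V` vanishing on `V ∩ U`.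
Applications: `Γ_Z` of a flasque sheaf is flasque; the local cohomology sheaves of a flasque sheaf
vanish.
-/

universe u

open CategoryTheory CategoryTheory.Limits Opposite TopologicalSpace

namespace SectSupp

open AffVanish (Sec rs apS)
open ResCoh (im)
open RpushVanish (fr ofSec gen)
open Groth.Agent.Lib.FreeSheaf

variable {X : TopCat.{u}} (U : Opens X)

/-- The preimage in `U` of an open of `X`. -/
abbrev pre (V : Opens X) : Opens (TopCat.of U) := (Opens.map (CohCx.incl U)).obj V

/-- `V ∩ U` as an open of `X`. -/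
abbrev VU (V : Opens X) : Opens X := (im U).obj (pre U V)

theorem VU_le (V : Opens X) : VU U V ≤ V := by
  rintro _ ⟨y, hy, rfl⟩
  exact hy

theorem VU_le_U (V : Opens X) : VU U V ≤ U := ExtZero.im_le U _

theorem mem_VU {V : Opens X} {x : X} (hxV : x ∈ V) (hxU : x ∈ U) : x ∈ VU U V :=
  ⟨⟨x, hxU⟩, hxV, rfl⟩

theorem VU_mono {V' V : Opens X} (h : V' ≤ V) : VU U V' ≤ VU U V := by
  rintro _ ⟨y, hy, rfl⟩
  exact ⟨y, h hy, rfl⟩

theorem le_pre_im (W : Opens (TopCat.of U)) : W ≤ pre U ((im U).obj W) := by
  intro y hy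
  exact ⟨y, hy, rfl⟩

/-- The unit: restriction of sections from `V` to `V ∩ U`. -/
noncomputable def unitRes :
    𝟭 (CohTop.Ab X) ⟶ CohTop.restrFunctor U ⋙ CohTop.push (CohCx.incl U) where
  app F := ⟨{ app := fun V => F.obj.map (homOfLE (VU_le U V.unop)).op
              naturality := fun V V' i => by
                change F.obj.map _ ≫ F.obj.map _ = F.obj.map _ ≫ F.obj.map _
                rw [← F.obj.map_comp, ← F.obj.map_comp]
                rfl }⟩
  naturality F G φ := by
    ext : 2
    funext V
    change φ.hom.app _ ≫ G.obj.map _ = F.obj.map _ ≫ φ.hom.app _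
    exact (φ.hom.naturality _).symm

/-- The counit. -/
noncomputable def counitRes :
    CohTop.push (CohCx.incl U) ⋙ CohTop.restrFunctor U ⟶ 𝟭 (CohTop.Ab (TopCat.of U)) where
  app G := ⟨{ app := fun W => G.obj.map (homOfLE (le_pre_im U W.unop)).op
              naturality := fun W W' i => by
                change G.obj.map _ ≫ G.obj.map _ = G.obj.map _ ≫ G.obj.map _
                rw [← G.obj.map_comp, ← G.obj.map_comp]
                rfl }⟩
  naturality F G φ := by
    ext : 2
    funext W
    change φ.hom.app _ ≫ G.obj.map _ = F.obj.map _ ≫ φ.hom.app _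
    exact (φ.hom.naturality _).symm

/-- Restriction to an open is left adjoint to the direct image. -/
noncomputable def adjRes : CohTop.restrFunctor U ⊣ CohTop.push (CohCx.incl U) where
  unit := unitRes U
  counit := counitRes U
  left_triangle_components F := by
    ext : 2
    funext W
    change F.obj.map _ ≫ F.obj.map _ = 𝟙 _
    rw [← F.obj.map_comp]
    exact F.obj.map_id _
  right_triangle_components G := by
    ext : 2
    funext W
    change G.obj.map _ ≫ G.obj.map _ = 𝟙 _
    rw [← G.obj.map_comp]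
    exact G.obj.map_id _

/-- Mathlib's pullback along the inclusion of an open is the restriction. -/
noncomputable def pullIso : CohTop.pull (CohCx.incl U) ≅ CohTop.restrFunctor U :=
  (TopCat.Sheaf.pullbackPushforwardAdjunction AddCommGrpCat.{u} (CohCx.incl U)).leftAdjointUniq
    (adjRes U)

theorem unit_eq (F : CohTop.Ab X) :
    (TopCat.Sheaf.pullbackPushforwardAdjunction AddCommGrpCat.{u} (CohCx.incl U)).unit.app F ≫
      (CohTop.push (CohCx.incl U)).map ((pullIso U).hom.app F) = (unitRes U).app F :=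
  Adjunction.unit_leftAdjointUniq_hom_app _ _ F

variable (F : CohTop.Ab X)

/-- The inclusion `Γ_Z(F) ⟶ F`. -/
noncomputable abbrev incl : CohCx.sectSupp U F ⟶ F :=
  kernel.ι ((TopCat.Sheaf.pullbackPushforwardAdjunction AddCommGrpCat.{u} (CohCx.incl U)).unit.app F)

theorem incl_unitRes : incl U F ≫ (unitRes U).app F = 0 :=
  (congrArg (incl U F ≫ ·) (unit_eq U F).symm).trans
    ((Category.assoc _ _ _).symm.trans
      ((congrArg (· ≫ (CohTop.push (CohCx.incl U)).map ((pullIso U).hom.app F))
        (kernel.condition _)).trans zero_comp))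

instance : Mono (incl U F) := inferInstanceAs (Mono (kernel.ι _))

theorem apS_unitRes (V : Opens X) (t : Sec F V) :
    apS ((unitRes U).app F) V t = rs F (VU_le U V) t := rfl

/-- Sections of `Γ_Z(F)` vanish on `V ∩ U`. -/
theorem rs_incl (V : Opens X) (s : Sec (CohCx.sectSupp U F) V) :
    rs F (VU_le U V) (apS (incl U F) V s) = 0 := by
  have h := congrArg (fun φ => apS φ V s) (incl_unitRes U F)
  exact h

/-- Sections of `F` vanishing on `V ∩ U` are sections of `Γ_Z(F)`. -/
theorem exists_of_rs_eq_zero (V : Opens X) (t : Sec F V) (ht : rs F (VU_le U V) t = 0) :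
    ∃ s : Sec (CohCx.sectSupp U F) V, apS (incl U F) V s = t := by
  have h1 : ofSec t ≫ (unitRes U).app F = 0 :=
    (RpushVanish.ofSec_comp ((unitRes U).app F) t).trans
      ((congrArg ofSec (show apS ((unitRes U).app F) V t = 0 from ht)).trans
        RpushVanish.ofSec_zero)
  have h2 : ofSec t ≫
      (TopCat.Sheaf.pullbackPushforwardAdjunction AddCommGrpCat.{u} (CohCx.incl U)).unit.app F =
      0 := by
    apply (cancel_mono ((CohTop.push (CohCx.incl U)).map ((pullIso U).hom.app F))).1
    exact (Category.assoc _ _ _).trans ((congrArg (ofSec t ≫ ·) (unit_eq U F)).trans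
      (h1.trans zero_comp.symm))
  refine ⟨apS (kernel.lift _ (ofSec t) h2) V (gen V), ?_⟩
  have h3 : kernel.lift _ (ofSec t) h2 ≫ incl U F = ofSec t := kernel.lift_ι _ _ _
  have h4 := congrArg (fun φ => apS φ V (gen V)) h3
  exact h4.trans (RpushVanish.apS_ofSec_gen t)

theorem incl_injective (V : Opens X) : Function.Injective (apS (incl U F) V) :=
  RpushVanish.injective_of_mono (incl U F) V

/-- Flasque sheaves have surjective restriction maps. -/
theorem rs_surjective [hF : TopCat.Sheaf.IsFlasque F] {W V : Opens X} (h : W ≤ V) :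
    Function.Surjective (rs F h) := by
  have := hF.epi (homOfLE h).op
  exact (AddCommGrpCat.epi_iff_surjective _).mp this

/-- `Γ_Z` of a flasque sheaf is flasque. -/
theorem isFlasque_sectSupp [TopCat.Sheaf.IsFlasque F] :
    TopCat.Sheaf.IsFlasque (CohCx.sectSupp U F) := by
  refine ⟨fun {V₁ V₂} i => ?_⟩
  rw [AddCommGrpCat.epi_iff_surjective]
  have hV : V₂.unop ≤ V₁.unop := leOfHom i.unop
  obtain rfl : i = (homOfLE hV).op := Quiver.Hom.unop_inj (Subsingleton.elim _ _)
  intro s'
  -- the section of `F` over `V₂` and its extension by zero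
  have h' := rs_incl U F V₂.unop s'
  have hB₁ : V₂.unop ≤ V₂.unop ⊔ VU U V₁.unop := le_sup_left
  have hB₂ : VU U V₁.unop ≤ V₂.unop ⊔ VU U V₁.unop := le_sup_right
  have hBV : V₂.unop ⊔ VU U V₁.unop ≤ V₁.unop := sup_le hV (VU_le U V₁.unop)
  have hcap : V₂.unop ⊓ VU U V₁.unop ≤ VU U V₂.unop := by
    rintro x ⟨hx2, hx1⟩
    exact mem_VU U hx2 (VU_le_U U V₁.unop hx1)
  have hab : rs F (inf_le_left : V₂.unop ⊓ VU U V₁.unop ≤ V₂.unop) (apS (incl U F) V₂.unop s') =
      rs F (inf_le_right : V₂.unop ⊓ VU U V₁.unop ≤ VU U V₁.unop) 0 := by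
    rw [map_zero]
    have := congrArg (rs F hcap) h'
    rw [AffVanish.rs_rs, map_zero] at this
    exact this
  obtain ⟨t₁, ht₁a, ht₁b⟩ := AffVanish.glue₂ F hB₁ hB₂ le_rfl _ _ hab
  obtain ⟨t, ht⟩ := rs_surjective F hBV t₁
  have htz : rs F (VU_le U V₁.unop) t = 0 := by
    have := congrArg (rs F hB₂) ht
    rw [AffVanish.rs_rs, ht₁b] at this
    exact this
  obtain ⟨s, hs⟩ := exists_of_rs_eq_zero U F V₁.unop t htz
  refine ⟨s, ?_⟩
  apply incl_injective U F V₂.unop
  have e1 : apS (incl U F) V₂.unop (rs (CohCx.sectSupp U F) hV s) =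
      rs F hV (apS (incl U F) V₁.unop s) := AffVanish.ap_rs (incl U F) hV s
  refine e1.trans ?_
  rw [hs]
  have := congrArg (rs F hB₁) ht
  rw [AffVanish.rs_rs, ht₁a] at this
  exact this

end SectSupp
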