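import Mathlib
import Groth.Prelude.Def_LocCohZ
import Groth.Agent.Lib.SectSupp_helper9
import Groth.Agent.Lib.ExtDer_helper9
import Groth.Agent.Lib.DerComp_helper9

/-!
# Excision for cohomology with supports, naturally in the sheaf

`Ext^i_X(ℤ_V/ℤ_W, F) ≅ Ext^i_V(ℤ_V/ℤ_{W ∩ V}, F|_V)` naturally in `F`, through
`Ext^i(K, -) = R^i Hom(K, -)`, the identification `Hom_X(ℤ_V/ℤ_W, F) = Hom_V(ℤ_V/ℤ_{W∩V}, F|_V)`
(both are the sections of `F` over `V` vanishing on `W`) and the fact that restriction to an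
open is exact and preserves injectives.
-/

universe u

open CategoryTheory CategoryTheory.Limits Opposite TopologicalSpace

namespace ExcisionNat

open AffVanish (Sec rs apS)
open ResCoh (im)

variable {X : TopCat.{u}}

/-- `Hom(ℤ_V/ℤ_W, F)` is the group of sections over `V` vanishing on `W`. -/
noncomputable def homZq (F : CohTop.Ab X) {W V : Opens X} (h : W ≤ V) :
    (LocCohZ.zq h ⟶ F) ≃+ LocCohZ.sectZ F h :=
  Abelian.Ext.addEquiv₀.symm.trans (LocCohZ.sect0Equiv F h)

theorem homZq_val (F : CohTop.Ab X) {W V : Opens X} (h : W ≤ V) (ψ : LocCohZ.zq h ⟶ F) :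
    (homZq F h ψ).1 = CohFree.evalGen (Opens.grothendieckTopology X) V F
      (cokernel.π (CohCx.freeSheafMap (Opens.grothendieckTopology X) (homOfLE h)) ≫ ψ) := by
  show CohFree.evalGen (Opens.grothendieckTopology X) V F
    (cokernel.π _ ≫ Abelian.Ext.addEquiv₀ (Abelian.Ext.addEquiv₀.symm ψ)) = _
  rw [AddEquiv.apply_symm_apply]

theorem homZq_comp {F G : CohTop.Ab X} (φ : F ⟶ G) {W V : Opens X} (h : W ≤ V)
    (ψ : LocCohZ.zq h ⟶ F) : (homZq G h (ψ ≫ φ)).1 = apS φ V (homZq F h ψ).1 := by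
  rw [homZq_val, homZq_val]
  rfl

section Transport

variable (F : CohTop.Ab X) {W V : Opens X} (h : W ≤ V)

/-- `W ∩ V` as an open of the subspace `V`. -/
abbrev W' (W V : Opens X) : Opens (TopCat.of V) := (Opens.map (CohCx.incl V)).obj W

theorem im_top_le : (im V).obj ⊤ ≤ V := by
  rintro _ ⟨y, -, rfl⟩
  exact y.2

theorem le_im_top : V ≤ (im V).obj ⊤ := fun x hx => ⟨⟨x, hx⟩, trivial, rfl⟩

theorem im_W'_le : (im V).obj (W' W V) ≤ W := by
  rintro _ ⟨y, hy, rfl⟩
  exact hy

include h in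
theorem le_im_W' : W ≤ (im V).obj (W' W V) := fun x hx => ⟨⟨x, h hx⟩, hx, rfl⟩

theorem im_W'_le_im_top : (im V).obj (W' W V) ≤ (im V).obj ⊤ := by
  rintro _ ⟨y, -, rfl⟩
  exact ⟨y, trivial, rfl⟩

/-- Sections of `F` over `V` vanishing on `W` are the global sections of `F|_V` vanishing on
`W ∩ V`. -/
noncomputable def tr : LocCohZ.sectZ F h ≃+
    LocCohZ.sectZ (CohTop.restr F V) (le_top : W' W V ≤ ⊤) where
  toFun s := ⟨rs F (im_top_le (V := V)) s.1, by
    show rs F (im_W'_le_im_top (W := W) (V := V)) (rs F (im_top_le (V := V)) s.1) = 0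
    rw [AffVanish.rs_rs]
    have h1 := AffVanish.rs_rs F (im_W'_le (W := W) (V := V)) h s.1
    have h2 : rs F h s.1 = 0 := s.2
    rw [h2, map_zero] at h1
    exact h1.symm⟩
  invFun t := ⟨rs F (le_im_top (V := V)) t.1, by
    show rs F h (rs F (le_im_top (V := V)) t.1) = 0
    rw [AffVanish.rs_rs]
    have h1 := AffVanish.rs_rs F (le_im_W' h) (im_W'_le_im_top (W := W) (V := V)) t.1
    have h2 : rs F (im_W'_le_im_top (W := W) (V := V)) t.1 = 0 := t.2
    rw [h2, map_zero] at h1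
    exact h1.symm⟩
  left_inv s := by
    apply Subtype.ext
    show rs F (le_im_top (V := V)) (rs F (im_top_le (V := V)) s.1) = s.1
    rw [AffVanish.rs_rs, AffVanish.rs_self]
  right_inv t := by
    apply Subtype.ext
    show rs F (im_top_le (V := V)) (rs F (le_im_top (V := V)) t.1) = t.1
    rw [AffVanish.rs_rs, AffVanish.rs_self]
  map_add' s t := by
    apply Subtype.ext
    show rs F (im_top_le (V := V)) (s.1 + t.1) = rs F (im_top_le (V := V)) s.1 +
      rs F (im_top_le (V := V)) t.1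
    rw [map_add]

theorem tr_val (s : LocCohZ.sectZ F h) : (tr F h s).1 = rs F (im_top_le (V := V)) s.1 := rfl

/-- `Hom_X(ℤ_V/ℤ_W, F) ≃ Hom_V(ℤ_V/ℤ_{W∩V}, F|_V)`. -/
noncomputable def homEquiv : (LocCohZ.zq h ⟶ F) ≃+
    (LocCohZ.zq (le_top : W' W V ≤ ⊤) ⟶ CohTop.restr F V) :=
  (homZq F h).trans ((tr F h).trans (homZq (CohTop.restr F V) (le_top : W' W V ≤ ⊤)).symm)

theorem homZq_homEquiv (ψ : LocCohZ.zq h ⟶ F) :
    homZq (CohTop.restr F V) (le_top : W' W V ≤ ⊤) (homEquiv F h ψ) = tr F h (homZq F h ψ) :=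
  AddEquiv.apply_symm_apply _ _

end Transport

section Nat

variable {W V : Opens X} (h : W ≤ V)

theorem homEquiv_naturality {F G : CohTop.Ab X} (φ : F ⟶ G) (ψ : LocCohZ.zq h ⟶ F) :
    homEquiv G h (ψ ≫ φ) = homEquiv F h ψ ≫ (CohTop.restrFunctor V).map φ := by
  apply (homZq (CohTop.restr G V) (le_top : W' W V ≤ ⊤)).injective
  apply Subtype.ext
  rw [homZq_homEquiv, tr_val, homZq_comp, homZq_comp, homZq_homEquiv, tr_val]
  exact (AffVanish.ap_rs φ (im_top_le (V := V)) (homZq F h ψ).1).symm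

/-- The comparison of `Hom` functors. -/
noncomputable def homNatIso : ExtDer.hom (LocCohZ.zq h) ≅
    CohTop.restrFunctor V ⋙ ExtDer.hom (LocCohZ.zq (le_top : W' W V ≤ ⊤)) :=
  NatIso.ofComponents (fun F => (homEquiv F h).toAddCommGrpIso) (fun {F G} φ => by
    ext ψ
    exact homEquiv_naturality h φ ψ)

instance pfl_restr : PreservesFiniteLimits (CohTop.restrFunctor V) := by
  haveI : PreservesLimitsOfSize.{0, 0} (CohTop.restrFunctor V) :=
    (ExtZero.adj V).rightAdjoint_preservesLimits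
  exact PreservesLimitsOfSize.preservesFiniteLimits _

instance pfc_restr : PreservesFiniteColimits (CohTop.restrFunctor V) := by
  haveI : PreservesColimitsOfSize.{0, 0} (CohTop.restrFunctor V) :=
    (SectSupp.adjRes V).leftAdjoint_preservesColimits
  exact PreservesColimitsOfSize.preservesFiniteColimits _

theorem injective_restr (I : CohTop.Ab X) (hI : Injective I) :
    Injective ((CohTop.restrFunctor V).obj I) := by
  haveI := hI
  exact ExtZero.injective_restr V I

/-- Excision as a natural isomorphism of `Ext` functors. -/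
noncomputable def extNatIso (i : ℕ) : (Abelian.extFunctor.{u} i).obj (op (LocCohZ.zq h)) ≅
    CohTop.restrFunctor V ⋙
      (Abelian.extFunctor.{u} i).obj (op (LocCohZ.zq (le_top : W' W V ≤ ⊤))) :=
  (ExtDer.natIso (LocCohZ.zq h) i).symm ≪≫ ExtDer.rightDerivedIso (homNatIso h) i ≪≫
    DerComp.natIso (CohTop.restrFunctor V) (injective_restr (V := V))
      (ExtDer.hom (LocCohZ.zq (le_top : W' W V ≤ ⊤))) i ≪≫
    Functor.isoWhiskerLeft (CohTop.restrFunctor V)
      (ExtDer.natIso (LocCohZ.zq (le_top : W' W V ≤ ⊤)) i)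

theorem main (i : ℕ) :
    ∃ e : ∀ F : CohTop.Ab X,
        LocCohZ.HZ F i h ≃+ LocCohZ.HZc (CohTop.restr F V) i ((Opens.map (CohCx.incl V)).obj W),
      ∀ (F G : CohTop.Ab X) (φ : F ⟶ G) (x : LocCohZ.HZ F i h),
        e G (LocCohZ.map φ i h x) =
          LocCohZ.map ((CohTop.restrFunctor V).map φ) i
            (le_top : (Opens.map (CohCx.incl V)).obj W ≤ ⊤) (e F x) := by
  refine ⟨fun F => ((extNatIso h i).app F).addCommGroupIsoToAddEquiv, ?_⟩
  intro F G φ x
  exact congrArg (fun κ => κ.hom x) ((extNatIso h i).hom.naturality φ)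

end Nat

end ExcisionNat
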