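import Mathlib
import Groth.Agent.Lib.ExtDer_helper9

/-!
# The presheaf of `Ext` groups as homology of a complex of `Hom` presheaves

Let `K : D ⥤ C` be a functor to an abelian category `C` and `R` an injective resolution of `F : C`.
The complex of presheaves `V ↦ Hom(K V, R^•)` on `D` has `n`-th homology presheaf
`V ↦ Ext^n(K V, F)`.  Consequently the right derived functors of `G ↦ (V ↦ Hom(K V, G))` are
`G ↦ (V ↦ Ext^n(K V, G))`.
-/

open CategoryTheory CategoryTheory.Limits Opposite

namespace PreshExt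

universe w w' v u

variable {C : Type u} [Category.{v} C] [Abelian C]
  {D : Type w} [Category.{w'} D] (K : D ⥤ C)

/-- The presheaf `V ↦ Hom(K V, G)`. -/
def PhiObj (G : C) : Dᵒᵖ ⥤ AddCommGrpCat.{v} where
  obj V := AddCommGrpCat.of (K.obj V.unop ⟶ G)
  map {V V'} m := AddCommGrpCat.ofHom (AddMonoidHom.mk' (fun g => K.map m.unop ≫ g)
    (fun a b => Preadditive.comp_add _ _ _ _ a b))
  map_id V := by
    ext g
    show K.map (𝟙 V).unop ≫ g = g
    rw [unop_id, K.map_id, Category.id_comp]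
  map_comp {V V' V''} m m' := by
    ext g
    show K.map (m ≫ m').unop ≫ g = K.map m'.unop ≫ K.map m.unop ≫ g
    rw [unop_comp, K.map_comp, Category.assoc]

/-- The functor `G ↦ (V ↦ Hom(K V, G))`. -/
def Phi : C ⥤ Dᵒᵖ ⥤ AddCommGrpCat.{v} where
  obj G := PhiObj K G
  map {G G'} φ :=
    { app := fun V => AddCommGrpCat.ofHom (X := AddCommGrpCat.of (K.obj V.unop ⟶ G))
        (Y := AddCommGrpCat.of (K.obj V.unop ⟶ G'))
        (AddMonoidHom.mk' (fun g => g ≫ φ) (fun a b => Preadditive.add_comp _ _ _ a b φ))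
      naturality := fun V V' m => by
        ext g
        exact Category.assoc (K.map m.unop) g φ }
  map_id G := by
    ext V g
    exact Category.comp_id g
  map_comp φ ψ := by
    ext V g
    exact (Category.assoc g φ ψ).symm

instance : (Phi K).Additive where
  map_add {G G' φ ψ} := by
    ext V g
    exact Preadditive.comp_add _ _ _ g φ ψ

variable [HasExt.{v} C]

/-- The presheaf `V ↦ Ext^n(K V, F)`. -/
noncomputable def E (F : C) (n : ℕ) : Dᵒᵖ ⥤ AddCommGrpCat.{v} :=
  K.op ⋙ (Abelian.extFunctor.{v} n).flip.obj F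

variable {F : C} (R : InjectiveResolution F) (n : ℕ)

/-- The complex of presheaves `V ↦ Hom(K V, R^•)`. -/
noncomputable abbrev L : CochainComplex (Dᵒᵖ ⥤ AddCommGrpCat.{v}) ℕ :=
  ((Phi K).mapHomologicalComplex (ComplexShape.up ℕ)).obj R.cocomplex

omit [HasExt.{v} C] in
theorem d_apply (p q : ℕ) (V : Dᵒᵖ) (x : K.obj V.unop ⟶ R.cocomplex.X p) :
    (((L K R).d p q).app V).hom x = x ≫ R.cocomplex.d p q := rfl

/-- The underlying morphism of a cycle. -/
noncomputable def iC (V : Dᵒᵖ) (z : ((L K R).cycles n).obj V) : K.obj V.unop ⟶ R.cocomplex.X n :=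
  (((L K R).iCycles n).app V).hom z

omit [HasExt.{v} C] in
theorem iC_d (V : Dᵒᵖ) (z : ((L K R).cycles n).obj V) :
    iC K R n V z ≫ R.cocomplex.d n (n + 1) = 0 :=
  congrArg (fun κ => (κ.app V).hom z) ((L K R).iCycles_d n (n + 1))

omit [HasExt.{v} C] in
theorem iC_add (V : Dᵒᵖ) (z z' : ((L K R).cycles n).obj V) :
    iC K R n V (z + z') = iC K R n V z + iC K R n V z' :=
  map_add (((L K R).iCycles n).app V).hom z z'

omit [HasExt.{v} C] in
theorem iC_map {V V' : Dᵒᵖ} (m : V ⟶ V') (z : ((L K R).cycles n).obj V) :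
    iC K R n V' ((((L K R).cycles n).map m).hom z) = K.map m.unop ≫ iC K R n V z :=
  congrArg (fun κ => κ.hom z) (((L K R).iCycles n).naturality m)

omit [HasExt.{v} C] in
theorem iC_toCycles (p : ℕ) (V : Dᵒᵖ) (x : K.obj V.unop ⟶ R.cocomplex.X p) :
    iC K R n V ((((L K R).toCycles p n).app V).hom x) = x ≫ R.cocomplex.d p n :=
  congrArg (fun κ => (κ.app V).hom x) ((L K R).toCycles_i p n)

omit [HasExt.{v} C] in
theorem iC_injective (V : Dᵒᵖ) : Function.Injective (iC K R n V) := by
  haveI : Mono (((L K R).iCycles n).app V) :=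
    (NatTrans.mono_iff_mono_app ((L K R).iCycles n)).1 inferInstance V
  exact (AddCommGrpCat.mono_iff_injective _).1 inferInstance

omit [HasExt.{v} C] in
theorem exists_cycle (V : Dᵒᵖ) (f : K.obj V.unop ⟶ R.cocomplex.X n)
    (hf : f ≫ R.cocomplex.d n (n + 1) = 0) : ∃ z, iC K R n V z = f := by
  have hker := (L K R).cyclesIsKernel n (n + 1) (CochainComplex.next ℕ n)
  have hV := KernelFork.mapIsLimit _ hker ((evaluation Dᵒᵖ AddCommGrpCat.{v}).obj V)
  have hex : (ShortComplex.mk (((L K R).iCycles n).app V) (((L K R).d n (n + 1)).app V)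
      (congrArg (fun κ => κ.app V) ((L K R).iCycles_d n (n + 1)))).Exact :=
    ShortComplex.exact_of_f_is_kernel _ hV
  exact (ShortComplex.ab_exact_iff _).1 hex f hf

omit [HasExt.{v} C] in
theorem π_surjective (V : Dᵒᵖ) : Function.Surjective (((L K R).homologyπ n).app V).hom := by
  haveI : Epi (((L K R).homologyπ n).app V) :=
    (NatTrans.epi_iff_epi_app ((L K R).homologyπ n)).1 inferInstance V
  exact (AddCommGrpCat.epi_iff_surjective _).1 inferInstance

omit [HasExt.{v} C] in
theorem π_eq_zero_iff (p : ℕ) (hp : (ComplexShape.up ℕ).prev n = p) (V : Dᵒᵖ)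
    (z : ((L K R).cycles n).obj V) :
    (((L K R).homologyπ n).app V).hom z = 0 ↔
      ∃ x : K.obj V.unop ⟶ R.cocomplex.X p, (((L K R).toCycles p n).app V).hom x = z := by
  have hcok := (L K R).homologyIsCokernel p n hp
  have hV := CokernelCofork.mapIsColimit _ hcok ((evaluation Dᵒᵖ AddCommGrpCat.{v}).obj V)
  have hex : (ShortComplex.mk (((L K R).toCycles p n).app V) (((L K R).homologyπ n).app V)
      (congrArg (fun κ => κ.app V) ((L K R).toCycles_comp_homologyπ p n))).Exact :=
    ShortComplex.exact_of_g_is_cokernel _ hV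
  constructor
  · intro h
    exact (ShortComplex.ab_exact_iff _).1 hex z h
  · rintro ⟨x, rfl⟩
    exact congrArg (fun κ => (κ.app V).hom x) ((L K R).toCycles_comp_homologyπ p n)

/-- The class of a cycle. -/
noncomputable def cycFun (V : Dᵒᵖ) (z : ((L K R).cycles n).obj V) :
    Abelian.Ext.{v} (K.obj V.unop) F n :=
  R.extMk (iC K R n V z) (n + 1) rfl (iC_d K R n V z)

/-- The class of a cycle, as a morphism of presheaves. -/
noncomputable def cycΨ : (L K R).cycles n ⟶ E K F n where
  app V := AddCommGrpCat.ofHom (Y := AddCommGrpCat.of (Abelian.Ext.{v} (K.obj V.unop) F n))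
    (AddMonoidHom.mk' (cycFun K R n V) (fun z z' => by
      unfold cycFun
      rw [R.add_extMk]
      exact ExtDer.extMk_congr R (iC_add K R n V z z') _ _ _ _))
  naturality V V' m := by
    ext z
    show cycFun K R n V' ((((L K R).cycles n).map m).hom z) =
      (Abelian.Ext.mk₀ (K.map m.unop)).comp (cycFun K R n V z) (zero_add n)
    unfold cycFun
    rw [R.mk₀_comp_extMk]
    exact ExtDer.extMk_congr R (iC_map K R n m z) _ _ _ _

theorem cycΨ_apply (V : Dᵒᵖ) (z : ((L K R).cycles n).obj V) :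
    ((cycΨ K R n).app V).hom z = cycFun K R n V z := rfl

theorem toCycles_cycΨ (p : ℕ) (hp : (ComplexShape.up ℕ).prev n = p) :
    (L K R).toCycles p n ≫ cycΨ K R n = 0 := by
  ext V x
  show cycFun K R n V ((((L K R).toCycles p n).app V).hom x) = 0
  have hi := iC_toCycles K R n p V x
  unfold cycFun
  cases n with
  | zero =>
    have hd : R.cocomplex.d p 0 = 0 := R.cocomplex.shape _ _ (by simp)
    rw [ExtDer.extMk_congr R (hi.trans (by rw [hd, comp_zero])) 1 rfl _ (by simp)]
    exact R.extMk_zero 1 rfl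
  | succ q =>
    have hp' : q = p := (CochainComplex.prev_nat_succ q).symm.trans hp
    subst hp'
    rw [R.extMk_eq_zero_iff _ _ rfl _ q rfl]
    exact ⟨x, hi.symm⟩

/-- The comparison `H^n(V ↦ Hom(K V, R^•)) ⟶ (V ↦ Ext^n(K V, F))`. -/
noncomputable def homΨ : (L K R).homology n ⟶ E K F n :=
  ((L K R).homologyIsCokernel _ n rfl).desc
    (CokernelCofork.ofπ (cycΨ K R n) (toCycles_cycΨ K R n _ rfl))

theorem π_homΨ : (L K R).homologyπ n ≫ homΨ K R n = cycΨ K R n :=
  ((L K R).homologyIsCokernel _ n rfl).fac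
    (CokernelCofork.ofπ (cycΨ K R n) (toCycles_cycΨ K R n _ rfl)) WalkingParallelPair.one

theorem homΨ_π_apply (V : Dᵒᵖ) (z : ((L K R).cycles n).obj V) :
    ((homΨ K R n).app V).hom ((((L K R).homologyπ n).app V).hom z) = cycFun K R n V z :=
  congrArg (fun κ => (κ.app V).hom z) (π_homΨ K R n)

theorem homΨ_bijective (V : Dᵒᵖ) : Function.Bijective ((homΨ K R n).app V).hom := by
  constructor
  · rw [injective_iff_map_eq_zero]
    intro h hh
    obtain ⟨z, rfl⟩ := π_surjective K R n V h
    have hz : cycFun K R n V z = 0 := (homΨ_π_apply K R n V z).symm.trans hh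
    unfold cycFun at hz
    cases n with
    | zero =>
      rw [ExtDer.extMk_zero_eq_zero_iff] at hz
      rw [π_eq_zero_iff K R 0 0 CochainComplex.prev_nat_zero]
      refine ⟨0, ?_⟩
      apply iC_injective K R 0 V
      rw [iC_toCycles, zero_comp]
      exact hz.symm
    | succ q =>
      rw [R.extMk_eq_zero_iff _ _ rfl _ q rfl] at hz
      obtain ⟨g, hg⟩ := hz
      rw [π_eq_zero_iff K R (q + 1) q (CochainComplex.prev_nat_succ q)]
      refine ⟨g, iC_injective K R (q + 1) V ?_⟩
      exact (iC_toCycles K R (q + 1) q V g).trans hg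
  · intro α
    obtain ⟨f, hf, rfl⟩ := R.extMk_surjective α (n + 1) rfl
    obtain ⟨z, hz⟩ := exists_cycle K R n V f hf
    refine ⟨(((L K R).homologyπ n).app V).hom z, ?_⟩
    refine (homΨ_π_apply K R n V z).trans ?_
    exact ExtDer.extMk_congr R hz _ _ _ _

/-- `H^n(V ↦ Hom(K V, R^•)) ≅ (V ↦ Ext^n(K V, F))`. -/
noncomputable def homologyIso : (L K R).homology n ≅ E K F n :=
  haveI : ∀ V, IsIso ((homΨ K R n).app V) := fun V =>
    (ConcreteCategory.isIso_iff_bijective _).2 (homΨ_bijective K R n V)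
  haveI : IsIso (homΨ K R n) := NatIso.isIso_of_isIso_app _
  asIso (homΨ K R n)

/-- Variant for a functor `Ψ` isomorphic to `Phi K`. -/
noncomputable def homologyIso' (Ψ : C ⥤ Dᵒᵖ ⥤ AddCommGrpCat.{v}) [Ψ.Additive] (θ : Ψ ≅ Phi K) :
    ((Ψ.mapHomologicalComplex (ComplexShape.up ℕ)).obj R.cocomplex).homology n ≅ E K F n :=
  (HomologicalComplex.homologyFunctor _ (ComplexShape.up ℕ) n).mapIso
    ((NatIso.mapHomologicalComplex θ (ComplexShape.up ℕ)).app R.cocomplex) ≪≫ homologyIso K R n

end PreshExt
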