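import Mathlib
import Groth.Agent.Lib.PreshExt_helper9
import Groth.Agent.Lib.DerComp_helper9

/-!
# Natural comparison of `Ext` presheaves along an exact functor preserving injectives (helper9)

`G : C ⥤ C'` exact and preserving injectives, `Z₁ : D ⥤ C`, `Z₂ : D ⥤ C'` with
`Hom(Z₁ d, K) ≅ Hom(Z₂ d, G K)` naturally in `d` and `K`.  Then the presheaves
`d ↦ Ext^q(Z₁ d, K)` and `d ↦ Ext^q(Z₂ d, G K)` are isomorphic (`RestrNat.EIso`).
APPEND-ONLY once landed.
-/

set_option autoImplicit false

open CategoryTheory CategoryTheory.Limits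

namespace RestrNat

universe w w' v u u'

variable {C : Type u} [Category.{v} C] [Abelian C] [HasExt.{v} C] [HasInjectiveResolutions C]
  {C' : Type u'} [Category.{v} C'] [Abelian C'] [HasExt.{v} C'] [HasInjectiveResolutions C']
  (G : C ⥤ C') [G.Additive] [PreservesFiniteLimits G] [PreservesFiniteColimits G]
  (hG : ∀ I : C, Injective I → Injective (G.obj I))
  {D : Type w} [Category.{w'} D] (Z₁ : D ⥤ C) (Z₂ : D ⥤ C')
  (θ : PreshExt.Phi Z₁ ≅ G ⋙ PreshExt.Phi Z₂)

/-- mapping a complex by a composite functor -/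
noncomputable def compIso (R : CochainComplex C ℕ) :
    (((G ⋙ PreshExt.Phi Z₂).mapHomologicalComplex (ComplexShape.up ℕ)).obj R) ≅
      ((PreshExt.Phi Z₂).mapHomologicalComplex (ComplexShape.up ℕ)).obj
        ((G.mapHomologicalComplex (ComplexShape.up ℕ)).obj R) :=
  HomologicalComplex.Hom.isoOfComponents (fun n => Iso.refl _) (by
    intro i j _
    exact (Category.id_comp _).trans (Category.comp_id _).symm)

/-- the comparison isomorphism of `Ext` presheaves -/
noncomputable def EIso (K : C) (q : ℕ) : PreshExt.E Z₁ K q ≅ PreshExt.E Z₂ (G.obj K) q :=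
  (PreshExt.homologyIso Z₁ (injectiveResolution K) q).symm ≪≫
  (HomologicalComplex.homologyFunctor _ (ComplexShape.up ℕ) q).mapIso
    ((NatIso.mapHomologicalComplex θ (ComplexShape.up ℕ)).app (injectiveResolution K).cocomplex ≪≫
      compIso G Z₂ _) ≪≫
  PreshExt.homologyIso Z₂ (DerComp.mapRes G hG (injectiveResolution K)) q

/-- functoriality of the `Ext` presheaf in the second variable -/
noncomputable def EMapIso {K₁ K₂ : C'} (κ : K₁ ≅ K₂) (q : ℕ) :
    PreshExt.E Z₂ K₁ q ≅ PreshExt.E Z₂ K₂ q :=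
  Functor.isoWhiskerLeft Z₂.op ((Abelian.extFunctor.{v} q).flip.mapIso κ)

end RestrNat
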