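import Mathlib
import Groth.Prelude.Def_CohTop
import Groth.Agent.Lib.ColimCoh1_helper9

/-!
# Recognising directed colimits of abelian sheaves on a basis of compact opens (helper9)
-/

set_option autoImplicit false

universe u

open CategoryTheory CategoryTheory.Limits TopologicalSpace Opposite

namespace ColimCoh

variable {X : TopCat.{u}} {ι : Type u} [Preorder ι] [IsDirected ι (· ≤ ·)] [Nonempty ι]
  (D : ι ⥤ CohTop.Ab X) (c : Cocone D)

/-- section-level surjectivity over `V` -/
def SecSurj (V : Opens X) : Prop :=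
  ∀ t : c.pt.obj.obj (op V), ∃ (i : ι) (s : (D.obj i).obj.obj (op V)),
    (c.ι.app i).hom.app (op V) s = t

/-- section-level injectivity over `V` -/
def SecInj (V : Opens X) : Prop :=
  ∀ (i : ι) (s : (D.obj i).obj.obj (op V)), (c.ι.app i).hom.app (op V) s = 0 →
    ∃ (j : ι) (hij : i ≤ j), (D.map (homOfLE hij)).hom.app (op V) s = 0

variable {D c}

omit [IsDirected ι (· ≤ ·)] [Nonempty ι] in
lemma app_res {F G : CohTop.Ab X} (φ : F ⟶ G) {W V : Opens X} (h : W ≤ V)
    (s : F.obj.obj (op V)) :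
    φ.hom.app (op W) (F.obj.map (homOfLE h).op s) = G.obj.map (homOfLE h).op (φ.hom.app (op V) s) :=
  NatTrans.naturality_apply φ.hom (homOfLE h).op s

/-- A cocone over a directed diagram of abelian sheaves which is a colimit on sections over a
basis of compact `QCQS` opens is a colimit cocone. -/
theorem isColimit_of_basis (B : Opens X → Prop)
    (hB : ∀ (W : Opens X) (x : X), x ∈ W → ∃ V : Opens X, B V ∧ x ∈ V ∧ V ≤ W)
    (hBc : ∀ V, B V → IsCompact (V : Set X)) (hBq : ∀ V, B V → QCQS V)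
    (hs : ∀ V, B V → SecSurj D c V) (hi : ∀ V, B V → SecInj D c V) :
    Nonempty (IsColimit c) := by
  let c' := colimit.cocone D
  have hc' : IsColimit c' := colimit.isColimit D
  let φ : c'.pt ⟶ c.pt := hc'.desc c
  have hφ : ∀ i, c'.ι.app i ≫ φ = c.ι.app i := fun i => hc'.fac c i
  have hφs : ∀ (i : ι) (V : Opens X) (s : (D.obj i).obj.obj (op V)),
      φ.hom.app (op V) ((c'.ι.app i).hom.app (op V) s) = (c.ι.app i).hom.app (op V) s := by
    intro i V s
    have := congrArg (fun ψ : D.obj i ⟶ c.pt => ψ.hom.app (op V) s) (hφ i)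
    exact this
  -- mono
  have hmono : Mono φ := by
    haveI : ∀ U, Mono (φ.hom.app U) := fun U => by
      rw [AddCommGrpCat.mono_iff_injective, injective_iff_map_eq_zero]
      intro s hs0
      apply TopCat.Presheaf.IsSheaf.section_ext (F := c'.pt.obj) c'.pt.property
      intro x hx
      obtain ⟨V, hBV, hxV, hVW⟩ := hB U.unop x hx
      refine ⟨V, hVW, hxV, ?_⟩
      rw [map_zero]
      obtain ⟨i, si, hsi⟩ := sec_exists_rep D c' hc' (hBq V hBV) V le_rfl (hBc V hBV)
        (c'.pt.obj.map (homOfLE hVW).op s)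
      have h1 : (c.ι.app i).hom.app (op V) si = 0 := by
        rw [← hφs, hsi, app_res, hs0, map_zero]
      obtain ⟨j, hij, hj⟩ := hi V hBV i si h1
      rw [← hsi]
      have h2 := congrArg (fun ψ : D.obj i ⟶ c'.pt => ψ.hom.app (op V) si) (c'.w (homOfLE hij))
      refine h2.symm.trans ?_
      show (c'.ι.app j).hom.app (op V) ((D.map (homOfLE hij)).hom.app (op V) si) = 0
      rw [hj, map_zero]
    haveI : Mono φ.hom := NatTrans.mono_of_mono_app _
    exact Sheaf.Hom.mono_of_presheaf_mono _ _ _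
  -- epi
  have hepi : Epi φ := by
    refine (TopCat.Sheaf.isLocallySurjective_iff_epi (F := c'.pt) (G := c.pt) φ).mp ?_
    rw [TopCat.Presheaf.isLocallySurjective_iff]
    intro U t x hx
    obtain ⟨V, hBV, hxV, hVW⟩ := hB U x hx
    obtain ⟨i, si, hsi⟩ := hs V hBV (c.pt.obj.map (homOfLE hVW).op t)
    exact ⟨V, hVW, ⟨(c'.ι.app i).hom.app (op V) si, (hφs i V si).trans hsi⟩, hxV⟩
  haveI : IsIso φ := isIso_of_mono_of_epi φ
  exact ⟨IsColimit.ofIsoColimit hc' (Cocone.ext (asIso φ) hφ)⟩

end ColimCoh
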