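import Mathlib
import Groth.Prelude.Def_Coh
import Groth.Prelude.Def_CohTop
import Groth.Prelude.Def_Canon
import Groth.Agent.Lib.QcqsLoc_helper9
import Groth.Agent.Lib.ColimCoh5_helper9

/-!
# `j_* (M|_{X_f})` as the colimit of `M →f M →f ⋯` (helper9)
-/

set_option autoImplicit false

universe u

open CategoryTheory CategoryTheory.Limits AlgebraicGeometry Opposite TopologicalSpace
open QcqsLoc

namespace BasicLoc

variable {X : Scheme.{u}} (f : Γ(X, ⊤)) (M : X.Modules)

/-- the basic open `X_f` -/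
abbrev Uf : X.Opens := X.basicOpen f

/-- the inclusion of `X_f` -/
abbrev jf : (Uf f : Scheme.{u}) ⟶ X := (Uf f).ι

/-- the restriction of `M` to `X_f` -/
noncomputable abbrev Nf : (Uf f : Scheme.{u}).Modules := M.restrict (jf f)

/-- `j_* (M|_{X_f})` -/
noncomputable abbrev Pmod : X.Modules := (Scheme.Modules.pushforward (jf f)).obj (Nf f M)

/-- the unit `M ⟶ j_* (M|_{X_f})` -/
noncomputable def unit : M ⟶ Pmod f M := (Scheme.Modules.restrictAdjunction (jf f)).unit.app M

/-- `f` as a global function on `X_f` -/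
noncomputable def fU : Γ((Uf f : Scheme.{u}), ⊤) := (jf f).appTop.hom f

lemma isUnit_fU : IsUnit (fU f) := by
  have h1 := X.toRingedSpace.isUnit_res_basicOpen f
  have hle : (jf f) ''ᵁ ⊤ ≤ X.basicOpen f := by
    rw [Scheme.Opens.ι_image_top]
  have h2 := h1.map (X.presheaf.map (homOfLE hle).op).hom
  have h3 : (X.presheaf.map (homOfLE hle).op).hom
      ((X.presheaf.map (homOfLE (X.basicOpen_le f)).op).hom f) = fU f := by
    change (X.presheaf.map _ ≫ X.presheaf.map _).hom f = _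
    rw [← Functor.map_comp]
    rfl
  rw [← h3]
  exact h2

/-- the inverse of `f` on `X_f` -/
noncomputable def gU : Γ((Uf f : Scheme.{u}), ⊤) := ((isUnit_fU f).unit⁻¹ : _ˣ)

lemma gU_mul_fU : gU f * fU f = 1 := (isUnit_fU f).val_inv_mul

lemma pow_gU_mul (n k : ℕ) : gU f ^ (n + k) * fU f ^ k = gU f ^ n := by
  rw [pow_add, mul_assoc, ← mul_pow, gU_mul_fU, one_pow, mul_one]

section sm

variable {Y : Scheme.{u}} (L : Y.Modules)

/-- multiplication by a global function on the underlying abelian sheaf -/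
noncomputable def sm (a : Γ(Y, ⊤)) : Coh.toAb L ⟶ Coh.toAb L := Coh.smulAb L a

lemma sm_one : sm L 1 = 𝟙 _ := Coh.smulAb_one L

lemma sm_mul (a b : Γ(Y, ⊤)) : sm L (a * b) = sm L b ≫ sm L a := Coh.smulAb_mul L a b

lemma sm_app (a : Γ(Y, ⊤)) (W : (Opens Y)ᵒᵖ) (m : (Coh.toAb L).obj.obj W) :
    (sm L a).hom.app W m =
      @HSMul.hSMul (Y.ringCatSheaf.obj.obj W) (L.val.obj W) (L.val.obj W) _ (Coh.resTop Y W a) m :=
  rfl

lemma map_comp_sm {L L' : Y.Modules} (φ : L ⟶ L') (a : Γ(Y, ⊤)) :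
    (SheafOfModules.toSheaf Y.ringCatSheaf).map φ ≫ sm L' a =
      sm L a ≫ (SheafOfModules.toSheaf Y.ringCatSheaf).map φ :=
  Canon.toSheaf_map_comp_smulAb φ a

end sm

/-- the underlying abelian sheaf of `j_* N` -/
noncomputable abbrev PAb : CohTop.Ab X.toTopCat := (Coh.pushAb (jf f)).obj (Coh.toAb (Nf f M))

/-- the unit on underlying abelian sheaves -/
noncomputable def unitAb : Coh.toAb M ⟶ PAb f M :=
  (SheafOfModules.toSheaf X.ringCatSheaf).map (unit f M)

/-- multiplication by a global function on `j_* N` -/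
noncomputable def smP (a : Γ(X, ⊤)) : PAb f M ⟶ PAb f M := sm (Pmod f M) a

lemma unitAb_smP (a : Γ(X, ⊤)) : unitAb f M ≫ smP f M a = sm M a ≫ unitAb f M :=
  map_comp_sm (unit f M) a

/-- the action of a global function on `j_* N` is the push-forward of the action of its
restriction. -/
lemma smP_eq (a : Γ(X, ⊤)) :
    smP f M a = (Coh.pushAb (jf f)).map (sm (Nf f M) ((jf f).appTop.hom a)) := by
  ext W s
  have h1 : ((Coh.pushAb (jf f)).map (sm (Nf f M) ((jf f).appTop.hom a))).hom.app W s =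
      @HSMul.hSMul Γ((Uf f : Scheme.{u}), (jf f) ⁻¹ᵁ W.unop) Γ(Nf f M, (jf f) ⁻¹ᵁ W.unop)
        Γ(Nf f M, (jf f) ⁻¹ᵁ W.unop) _
        (Coh.resTop (Uf f : Scheme.{u}) (op ((jf f) ⁻¹ᵁ W.unop)) ((jf f).appTop.hom a)) s := rfl
  have h2 : (smP f M a).hom.app W s =
      @HSMul.hSMul Γ((Uf f : Scheme.{u}), (jf f) ⁻¹ᵁ W.unop) Γ(Nf f M, (jf f) ⁻¹ᵁ W.unop)
        Γ(Nf f M, (jf f) ⁻¹ᵁ W.unop) _ (((jf f).app W.unop).hom (Coh.resTop X W a)) s := rfl
  refine h2.trans (Eq.trans ?_ h1.symm)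
  congr 1
  have := (jf f).naturality (homOfLE (le_top : W.unop ≤ ⊤)).op
  exact congrArg (fun φ => φ.hom a) this

/-- multiplication by `f⁻ⁿ` on `j_* N` -/
noncomputable def gamma (n : ℕ) : PAb f M ⟶ PAb f M :=
  (Coh.pushAb (jf f)).map (sm (Nf f M) (gU f ^ n))

/-- the legs `M ⟶ j_* N`, `m ↦ m / fⁿ` -/
noncomputable def leg (n : ℕ) : Coh.toAb M ⟶ PAb f M := unitAb f M ≫ gamma f M n

lemma smP_pow (k : ℕ) :
    smP f M (f ^ k) = (Coh.pushAb (jf f)).map (sm (Nf f M) (fU f ^ k)) := by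
  rw [smP_eq, map_pow]
  rfl

lemma gamma_zero : gamma f M 0 = 𝟙 _ := by
  unfold gamma
  rw [pow_zero, sm_one]
  exact (Coh.pushAb (jf f)).map_id _

lemma smul_comp_gamma (n k : ℕ) : smP f M (f ^ k) ≫ gamma f M (n + k) = gamma f M n := by
  unfold gamma
  rw [smP_pow, ← Functor.map_comp, ← sm_mul, pow_gU_mul]

lemma gamma_comp_smul (n k : ℕ) : gamma f M (n + k) ≫ smP f M (f ^ k) = gamma f M n := by
  unfold gamma
  rw [smP_pow, ← Functor.map_comp, ← sm_mul, mul_comm, pow_gU_mul]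

lemma smul_leg (n k : ℕ) : sm M (f ^ k) ≫ leg f M (n + k) = leg f M n := by
  unfold leg
  rw [← Category.assoc, ← unitAb_smP, Category.assoc, smul_comp_gamma]

lemma leg_smul (n k : ℕ) : leg f M (n + k) ≫ smP f M (f ^ k) = leg f M n := by
  unfold leg
  rw [Category.assoc, gamma_comp_smul]

lemma leg_zero : leg f M 0 = unitAb f M := by
  unfold leg
  rw [gamma_zero, Category.comp_id]

/-- the diagram `M →f M →f ⋯` of abelian sheaves -/
noncomputable def D : ULift.{u} ℕ ⥤ CohTop.Ab X.toTopCat where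
  obj _ := Coh.toAb M
  map {n m} _ := sm M (f ^ (m.down - n.down))
  map_id n := by
    rw [Nat.sub_self, pow_zero, sm_one]
  map_comp {a b c} h h' := by
    have hab : a.down ≤ b.down := (leOfHom h : a ≤ b)
    have hbc : b.down ≤ c.down := (leOfHom h' : b ≤ c)
    rw [← sm_mul, ← pow_add]
    congr 2
    omega

/-- the cocone with point `j_* N` -/
noncomputable def cocone : Cocone (D f M) where
  pt := PAb f M
  ι :=
    { app := fun n => leg f M n.down
      naturality := by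
        intro n m h
        have hnm : n.down ≤ m.down := (leOfHom h : n ≤ m)
        change sm M (f ^ (m.down - n.down)) ≫ leg f M m.down = leg f M n.down ≫ 𝟙 _
        rw [Category.comp_id]
        obtain ⟨k, hk⟩ := Nat.exists_eq_add_of_le hnm
        rw [hk, Nat.add_sub_cancel_left]
        exact smul_leg f M n.down k }

end BasicLoc
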