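import Mathlib
import Groth.Prelude.Def_CohSite
import Groth.Prelude.Def_FreeSh
import Groth.Agent.Lib.PreshExt_helper9
import Groth.Agent.Lib.TotAcyc_helper8

/-!
# Higher direct images on sites as sheafified presheaf cohomology

For a continuous functor of small sites `u : D ⥤ C` and an abelian sheaf `F` on `C`:
`R^i u_* F ≅ (V ↦ H^i(u V, F))^♯`.  Consequence: `R^{p+1} u_* F = 0` for `F` totally acyclic.
-/

universe u

open CategoryTheory CategoryTheory.Limits Opposite

namespace RpushSite

variable {C D : Type u} [SmallCategory C] [SmallCategory D]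
  (J : GrothendieckTopology C) (K : GrothendieckTopology D)

/-- The free abelian sheaf functor (Mathlib's form). -/
noncomputable abbrev frF : C ⥤ Sheaf J AddCommGrpCat.{u} :=
  yoneda ⋙ (Functor.whiskeringRight _ _ _).obj AddCommGrpCat.free ⋙
    presheafToSheaf J AddCommGrpCat.{u}

/-- Forgetting the sheaf condition. -/
noncomputable abbrev iota : Sheaf K AddCommGrpCat.{u} ⥤ Dᵒᵖ ⥤ AddCommGrpCat.{u} :=
  sheafToPresheaf K AddCommGrpCat.{u}

/-- Sheafification. -/
noncomputable abbrev shf : (Dᵒᵖ ⥤ AddCommGrpCat.{u}) ⥤ Sheaf K AddCommGrpCat.{u} :=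
  presheafToSheaf K AddCommGrpCat.{u}

/-- `(V ↦ Hom(ℤ_{u V}, G)) ≅ (V ↦ G(u V))`. -/
noncomputable def thetaPush (u : D ⥤ C) [u.IsContinuous K J] :
    PreshExt.Phi (u ⋙ frF J) ≅ CohSite.push J K u ⋙ iota K :=
  NatIso.ofComponents (fun G => NatIso.ofComponents
    (fun V => (CohFree.homEquivSect J (u.obj V.unop) G).toAddCommGrpIso)
    (fun {V V'} m => by
      ext ψ
      exact CohFree.evalGen_freeSheafMap_comp J (u.map m.unop) G ψ))
    (fun {G G'} φ => by
      ext V ψ
      rfl)

section Sheafify

variable (L : CochainComplex (Sheaf K AddCommGrpCat.{u}) ℕ)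

/-- The underlying complex of presheaves. -/
noncomputable abbrev preCx : CochainComplex (Dᵒᵖ ⥤ AddCommGrpCat.{u}) ℕ :=
  ((iota K).mapHomologicalComplex (ComplexShape.up ℕ)).obj L

/-- Sheafifying the underlying complex of presheaves gives back the complex. -/
noncomputable def counitCx :
    ((shf K).mapHomologicalComplex (ComplexShape.up ℕ)).obj (preCx K L) ≅ L :=
  HomologicalComplex.Hom.isoOfComponents
    (fun n => @asIso _ _ _ _ ((sheafificationAdjunction K AddCommGrpCat.{u}).counit.app (L.X n))
      (isIso_sheafificationAdjunction_counit (J := K) (D := AddCommGrpCat.{u}) (L.X n)))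
    (fun p q _ => ((sheafificationAdjunction K AddCommGrpCat.{u}).counit.naturality
      (L.d p q)).symm)

/-- Sheafification commutes with homology. -/
noncomputable def mapHomIso (M : CochainComplex (Dᵒᵖ ⥤ AddCommGrpCat.{u}) ℕ) (i : ℕ) :
    (((shf K).mapHomologicalComplex (ComplexShape.up ℕ)).obj M).homology i ≅
      (shf K).obj (M.homology i) :=
  (M.sc i).mapHomologyIso (shf K)

/-- The homology sheaves are the sheafified homology presheaves. -/
noncomputable def sheafHomologyIso (i : ℕ) :
    L.homology i ≅ (shf K).obj ((preCx K L).homology i) :=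
  ((HomologicalComplex.homologyFunctor _ (ComplexShape.up ℕ) i).mapIso (counitCx K L)).symm ≪≫
    mapHomIso K (preCx K L) i

end Sheafify

/-- `R^i u_* F` is the sheafification of `V ↦ Ext^i(ℤ_{u V}, F)`. -/
noncomputable def rpushIso (u : D ⥤ C) [u.IsContinuous K J] (F : Sheaf J AddCommGrpCat.{u})
    (i : ℕ) : (CohSite.Rpush J K u i).obj F ≅ (shf K).obj (PreshExt.E (u ⋙ frF J) F i) :=
  (injectiveResolution F).isoRightDerivedObj (CohSite.push J K u) i ≪≫
    sheafHomologyIso K (((CohSite.push J K u).mapHomologicalComplex (ComplexShape.up ℕ)).obj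
      (injectiveResolution F).cocomplex) i ≪≫
    (shf K).mapIso (PreshExt.homologyIso' (u ⋙ frF J) (injectiveResolution F) i
      (CohSite.push J K u ⋙ iota K) (thetaPush J K u).symm)

theorem isZero_Rpush_of_totallyAcyclic (u : D ⥤ C) [u.IsContinuous K J]
    (F : Sheaf J AddCommGrpCat.{u}) (hF : CohCx.IsTotallyAcyclic F) (p : ℕ) :
    IsZero ((CohSite.Rpush J K u (p + 1)).obj F) := by
  refine IsZero.of_iso ?_ (rpushIso J K u F (p + 1))
  apply Functor.map_isZero
  apply Functor.isZero
  intro V
  haveI : Subsingleton (CohSite.HU F (p + 1) (u.obj V.unop)) :=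
    Groth.Agent.Lib.TotAcycH8.subsingleton_HU_of_totallyAcyclic F hF (u.obj V.unop) p
  exact AddCommGrpCat.isZero_of_subsingleton (AddCommGrpCat.of (CohSite.HU F (p + 1) (u.obj V.unop)))

end RpushSite
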