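import Mathlib
import Groth.Prelude.Def_CohSite
import Groth.Prelude.Def_CohTop
import Groth.Agent.Lib.RpushSite_helper9

/-!
# Naturality of `R^p u_* F ≅ (V ↦ H^p(u V, F))^♯` and commutation of `R^p u_*` with colimits (helper7)
-/

set_option autoImplicit false
universe u
open CategoryTheory Limits Opposite

namespace Groth.Agent.Lib.RpushColim_helper7

section General

lemma nat_glue {𝒜 ℬ : Type*} [Category 𝒜] [Category ℬ] (s : ℬ ⥤ 𝒜) {X X' Y Y' : 𝒜}
    {P P' Q Q' : ℬ} (A : X ⟶ X') (α : X ⟶ Y) (α' : X' ⟶ Y') (H1 : Y ⟶ Y')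
    (β : Y ⟶ s.obj P) (β' : Y' ⟶ s.obj P') (H2 : P ⟶ P') (g : P ⟶ Q) (g' : P' ⟶ Q') (E : Q ⟶ Q')
    (n1 : A ≫ α' = α ≫ H1) (n2 : H1 ≫ β' = β ≫ s.map H2) (n3 : H2 ≫ g' = g ≫ E) :
    A ≫ (α' ≫ β' ≫ s.map g') = (α ≫ β ≫ s.map g) ≫ s.map E :=
  calc A ≫ (α' ≫ β' ≫ s.map g') = (A ≫ α') ≫ β' ≫ s.map g' := by simp only [Category.assoc]
    _ = (α ≫ H1) ≫ β' ≫ s.map g' := by rw [n1]
    _ = α ≫ (H1 ≫ β') ≫ s.map g' := by simp only [Category.assoc]
    _ = α ≫ (β ≫ s.map H2) ≫ s.map g' := by rw [n2]
    _ = α ≫ β ≫ s.map (H2 ≫ g') := by simp only [Category.assoc, Functor.map_comp]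
    _ = α ≫ β ≫ s.map (g ≫ E) := by rw [n3]
    _ = (α ≫ β ≫ s.map g) ≫ s.map E := by simp only [Category.assoc, Functor.map_comp]

end General

section PreshExtNat

universe w w' v u'

variable {C : Type u'} [Category.{v} C] [Abelian C] {D : Type w} [Category.{w'} D] (K : D ⥤ C)
  [HasExt.{v} C]

/-- The functor `F ↦ (V ↦ Ext^n(K V, F))`. -/
noncomputable def Efun (n : ℕ) : C ⥤ Dᵒᵖ ⥤ AddCommGrpCat.{v} :=
  (Abelian.extFunctor.{v} n).flip ⋙ (Functor.whiskeringLeft _ _ _).obj K.op

lemma Efun_obj (n : ℕ) (F : C) : (Efun K n).obj F = PreshExt.E K F n := rfl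

variable {F F' : C} {φ : F ⟶ F'} {R : InjectiveResolution F} {R' : InjectiveResolution F'}
  (h : InjectiveResolution.Hom R R' φ) (n : ℕ)

/-- the induced map on `Hom` complexes -/
noncomputable abbrev Lmap : PreshExt.L K R ⟶ PreshExt.L K R' :=
  ((PreshExt.Phi K).mapHomologicalComplex (ComplexShape.up ℕ)).map h.hom

omit [HasExt.{v} C] in
lemma iC_cyclesMap (V : Dᵒᵖ) (z : ((PreshExt.L K R).cycles n).obj V) :
    PreshExt.iC K R' n V (((HomologicalComplex.cyclesMap (Lmap K h) n).app V).hom z) =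
      PreshExt.iC K R n V z ≫ h.hom.f n :=
  congrArg (fun κ => (κ.app V).hom z) (HomologicalComplex.cyclesMap_i (Lmap K h) n)

lemma cyclesMap_cycΨ :
    HomologicalComplex.cyclesMap (Lmap K h) n ≫ PreshExt.cycΨ K R' n =
      PreshExt.cycΨ K R n ≫ (Efun K n).map φ := by
  ext V z
  show PreshExt.cycFun K R' n V (((HomologicalComplex.cyclesMap (Lmap K h) n).app V).hom z) =
    (PreshExt.cycFun K R n V z).comp (Abelian.Ext.mk₀ φ) (add_zero n)
  unfold PreshExt.cycFun
  rw [InjectiveResolution.extMk_comp_mk₀ _ _ _ _ h]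
  exact ExtDer.extMk_congr R' (iC_cyclesMap K h n V z) _ _ _ _

lemma homologyMap_homΨ :
    HomologicalComplex.homologyMap (Lmap K h) n ≫ PreshExt.homΨ K R' n =
      PreshExt.homΨ K R n ≫ (Efun K n).map φ := by
  have e1 : (PreshExt.L K R).homologyπ n ≫ HomologicalComplex.homologyMap (Lmap K h) n ≫
      PreshExt.homΨ K R' n = HomologicalComplex.cyclesMap (Lmap K h) n ≫ PreshExt.cycΨ K R' n := by
    rw [HomologicalComplex.homologyπ_naturality_assoc, PreshExt.π_homΨ]
  have e2 : (PreshExt.L K R).homologyπ n ≫ PreshExt.homΨ K R n ≫ (Efun K n).map φ =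
      PreshExt.cycΨ K R n ≫ (Efun K n).map φ := by
    rw [← Category.assoc, PreshExt.π_homΨ]
  exact (cancel_epi _).1 (e1.trans ((cyclesMap_cycΨ K h n).trans e2.symm))

variable (Ψ : C ⥤ Dᵒᵖ ⥤ AddCommGrpCat.{v}) [Ψ.Additive] (θ : Ψ ≅ PreshExt.Phi K)

lemma homologyIso'_naturality :
    HomologicalComplex.homologyMap ((Ψ.mapHomologicalComplex (ComplexShape.up ℕ)).map h.hom) n ≫
        (PreshExt.homologyIso' K R' n Ψ θ).hom =
      (PreshExt.homologyIso' K R n Ψ θ).hom ≫ (Efun K n).map φ := by
  have hnat := (NatIso.mapHomologicalComplex θ (ComplexShape.up ℕ)).hom.naturality h.hom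
  show HomologicalComplex.homologyMap _ n ≫ (HomologicalComplex.homologyMap
      ((NatIso.mapHomologicalComplex θ (ComplexShape.up ℕ)).hom.app R'.cocomplex) n ≫
        PreshExt.homΨ K R' n) =
    (HomologicalComplex.homologyMap
      ((NatIso.mapHomologicalComplex θ (ComplexShape.up ℕ)).hom.app R.cocomplex) n ≫
        PreshExt.homΨ K R n) ≫ _
  rw [← Category.assoc, ← HomologicalComplex.homologyMap_comp, hnat,
    HomologicalComplex.homologyMap_comp, Category.assoc, Category.assoc, homologyMap_homΨ]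
  rfl

end PreshExtNat

section SheafNat

variable {D : Type u} [SmallCategory D] (K : GrothendieckTopology D)
variable {L L' : CochainComplex (Sheaf K AddCommGrpCat.{u}) ℕ} (ψ : L ⟶ L') (i : ℕ)

lemma counitCx_naturality :
    ((RpushSite.shf K).mapHomologicalComplex (ComplexShape.up ℕ)).map
        (((RpushSite.iota K).mapHomologicalComplex (ComplexShape.up ℕ)).map ψ) ≫
      (RpushSite.counitCx K L').hom = (RpushSite.counitCx K L).hom ≫ ψ := by
  refine HomologicalComplex.hom_ext _ _ (fun n => ?_)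
  exact (sheafificationAdjunction K AddCommGrpCat.{u}).counit.naturality (ψ.f n)

lemma mapHomIso_naturality {M M' : CochainComplex (Dᵒᵖ ⥤ AddCommGrpCat.{u}) ℕ} (χ : M ⟶ M') :
    HomologicalComplex.homologyMap
        (((RpushSite.shf K).mapHomologicalComplex (ComplexShape.up ℕ)).map χ) i ≫
      (RpushSite.mapHomIso K M' i).hom =
    (RpushSite.mapHomIso K M i).hom ≫
      (RpushSite.shf K).map (HomologicalComplex.homologyMap χ i) :=
  ShortComplex.mapHomologyIso_hom_naturality
    ((HomologicalComplex.shortComplexFunctor _ _ i).map χ) (RpushSite.shf K)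

lemma sheafHomologyIso_naturality :
    HomologicalComplex.homologyMap ψ i ≫ (RpushSite.sheafHomologyIso K L' i).hom =
      (RpushSite.sheafHomologyIso K L i).hom ≫ (RpushSite.shf K).map
        (HomologicalComplex.homologyMap
          (((RpushSite.iota K).mapHomologicalComplex (ComplexShape.up ℕ)).map ψ) i) := by
  have h1 : ψ ≫ (RpushSite.counitCx K L').inv = (RpushSite.counitCx K L).inv ≫
      ((RpushSite.shf K).mapHomologicalComplex (ComplexShape.up ℕ)).map
        (((RpushSite.iota K).mapHomologicalComplex (ComplexShape.up ℕ)).map ψ) := by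
    have := counitCx_naturality K ψ
    rw [← cancel_epi (RpushSite.counitCx K L).hom, Iso.hom_inv_id_assoc, ← Category.assoc, ← this,
      Category.assoc, Iso.hom_inv_id, Category.comp_id]
  show HomologicalComplex.homologyMap ψ i ≫
      (HomologicalComplex.homologyMap (RpushSite.counitCx K L').inv i ≫
        (RpushSite.mapHomIso K (RpushSite.preCx K L') i).hom) =
    (HomologicalComplex.homologyMap (RpushSite.counitCx K L).inv i ≫
        (RpushSite.mapHomIso K (RpushSite.preCx K L) i).hom) ≫ _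
  rw [← Category.assoc, ← HomologicalComplex.homologyMap_comp, h1,
    HomologicalComplex.homologyMap_comp, Category.assoc, Category.assoc, mapHomIso_naturality]

end SheafNat

section Main

variable {C D : Type u} [SmallCategory C] [SmallCategory D]
  (J : GrothendieckTopology C) (K : GrothendieckTopology D) (u : D ⥤ C) [u.IsContinuous K J]
  (p : ℕ)

/-- the chosen lift of a morphism to the chosen injective resolutions -/
noncomputable def resHom {F F' : Sheaf J AddCommGrpCat.{u}} (φ : F ⟶ F') :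
    InjectiveResolution.Hom (injectiveResolution F) (injectiveResolution F') φ where
  hom := InjectiveResolution.desc φ _ _
  ι_f_zero_comp_hom_f_zero := by
    rw [CochainComplex.single₀_map_f_zero]
    exact InjectiveResolution.desc_commutes_zero φ _ _

theorem rpushIso_naturality {F F' : Sheaf J AddCommGrpCat.{u}} (φ : F ⟶ F') :
    (CohSite.Rpush J K u p).map φ ≫ (RpushSite.rpushIso J K u F' p).hom =
      (RpushSite.rpushIso J K u F p).hom ≫
        (RpushSite.shf K).map ((Efun (u ⋙ RpushSite.frF J) p).map φ) := by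
  have n1 := InjectiveResolution.isoRightDerivedObj_hom_naturality φ (injectiveResolution F)
    (injectiveResolution F') (resHom J φ).hom
    (by simpa using (resHom J φ).ι_f_zero_comp_hom_f_zero) (CohSite.push J K u) p
  have n2 := sheafHomologyIso_naturality K
    (((CohSite.push J K u).mapHomologicalComplex (ComplexShape.up ℕ)).map (resHom J φ).hom) p
  have n3 := homologyIso'_naturality (u ⋙ RpushSite.frF J) (resHom J φ) p
    (CohSite.push J K u ⋙ RpushSite.iota K) (RpushSite.thetaPush J K u).symm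
  exact nat_glue (RpushSite.shf K) _ _ _ _ _ _ _ _ _ _ n1 n2 n3

/-- `R^p u_*` is naturally the sheafification of `V ↦ Ext^p(ℤ_{u V}, -)`. -/
noncomputable def rpushNatIso :
    CohSite.Rpush J K u p ≅ Efun (u ⋙ RpushSite.frF J) p ⋙ RpushSite.shf K :=
  NatIso.ofComponents (fun F => RpushSite.rpushIso J K u F p)
    (fun φ => rpushIso_naturality J K u p φ)

end Main

section Colim

variable {D : Type u} [SmallCategory D] (K : GrothendieckTopology D)

/-- A functor to presheaves, followed by sheafification, preserves a colimit as soon as its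
evaluations at the members of a covering class do. -/
theorem preservesColimit_comp_shf {A : Type*} [Category A] (E : A ⥤ Dᵒᵖ ⥤ AddCommGrpCat.{u})
    {ι : Type u} [SmallCategory ι] (F : ι ⥤ A)
    (h : ∀ V : D, ∃ (κ : Type u) (Y : κ → D) (g : ∀ k, Y k ⟶ V), Sieve.ofArrows Y g ∈ K V ∧
      ∀ k, PreservesColimit F (E ⋙ (evaluation Dᵒᵖ AddCommGrpCat.{u}).obj (op (Y k)))) :
    PreservesColimit F (E ⋙ presheafToSheaf K AddCommGrpCat.{u}) := by
  constructor
  intro c hc
  let P : ι ⥤ Dᵒᵖ ⥤ AddCommGrpCat.{u} := F ⋙ E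
  let θ : colimit P ⟶ E.obj c.pt := colimit.desc P (E.mapCocone c)
  have hθ : ∀ i, colimit.ι P i ≫ θ = E.map (c.ι.app i) := fun i => colimit.ι_desc _ _
  have key : ∀ Y : D, PreservesColimit F (E ⋙ (evaluation Dᵒᵖ AddCommGrpCat.{u}).obj (op Y)) →
      IsIso (θ.app (op Y)) := by
    intro Y hY
    have h1 : IsColimit (((evaluation Dᵒᵖ AddCommGrpCat.{u}).obj (op Y)).mapCocone
        (colimit.cocone P)) := isColimitOfPreserves _ (colimit.isColimit P)
    have h2 : IsColimit ((E ⋙ (evaluation Dᵒᵖ AddCommGrpCat.{u}).obj (op Y)).mapCocone c) :=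
      isColimitOfPreserves _ hc
    have e : θ.app (op Y) = (h1.coconePointUniqueUpToIso h2).hom := by
      apply h1.hom_ext
      intro i
      rw [IsColimit.comp_coconePointUniqueUpToIso_hom]
      show (colimit.ι P i).app (op Y) ≫ θ.app (op Y) = (E.map (c.ι.app i)).app (op Y)
      rw [← NatTrans.comp_app, hθ]
    rw [e]
    infer_instance
  have bij : ∀ Y : D, PreservesColimit F (E ⋙ (evaluation Dᵒᵖ AddCommGrpCat.{u}).obj (op Y)) →
      Function.Bijective (θ.app (op Y)).hom := by
    intro Y hY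
    haveI := key Y hY
    exact (ConcreteCategory.isIso_iff_bijective (θ.app (op Y))).1 inferInstance
  have hW : K.W θ := by
    haveI : Presheaf.IsLocallyInjective K θ := by
      refine ⟨fun {X} x y hxy => ?_⟩
      obtain ⟨κ, Y, g, hcov, hY⟩ := h X.unop
      refine K.superset_covering ?_ hcov
      intro W m hm
      obtain ⟨k, a, rfl⟩ := (Sieve.mem_ofArrows_iff _ _ m).1 hm
      refine Sieve.downward_closed _ ?_ a
      show ((colimit P).map (g k).op).hom x = ((colimit P).map (g k).op).hom y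
      apply (bij (Y k) (hY k)).1
      have n1 := ConcreteCategory.congr_hom (θ.naturality (g k).op) x
      have n2 := ConcreteCategory.congr_hom (θ.naturality (g k).op) y
      exact n1.trans ((congrArg (fun t => ((E.obj c.pt).map (g k).op).hom t) hxy).trans n2.symm)
    haveI : Presheaf.IsLocallySurjective K θ := by
      refine ⟨fun {X} s => ?_⟩
      obtain ⟨κ, Y, g, hcov, hY⟩ := h X
      refine K.superset_covering ?_ hcov
      intro W m hm
      obtain ⟨k, a, rfl⟩ := (Sieve.mem_ofArrows_iff _ _ m).1 hm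
      refine Sieve.downward_closed _ ?_ a
      obtain ⟨t, ht⟩ := (bij (Y k) (hY k)).2 (((E.obj c.pt).map (g k).op).hom s)
      exact ⟨t, ht⟩
    exact K.W_of_isLocallyBijective _
  haveI : IsIso ((presheafToSheaf K AddCommGrpCat.{u}).map θ) := (K.W_iff _).1 hW
  have hP := isColimitOfPreserves (presheafToSheaf K AddCommGrpCat.{u}) (colimit.isColimit P)
  refine ⟨IsColimit.ofIsoColimit hP
    (Cocones.ext (asIso ((presheafToSheaf K AddCommGrpCat.{u}).map θ)) ?_)⟩
  intro i
  show (presheafToSheaf K AddCommGrpCat.{u}).map (colimit.ι P i) ≫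
    (presheafToSheaf K AddCommGrpCat.{u}).map θ =
      (presheafToSheaf K AddCommGrpCat.{u}).map (E.map (c.ι.app i))
  rw [← Functor.map_comp, hθ]

end Colim

section Final

variable {C D : Type u} [SmallCategory C] [SmallCategory D]
  (J : GrothendieckTopology C) (K : GrothendieckTopology D) (u : D ⥤ C) [u.IsContinuous K J]
  (p : ℕ)

/-- evaluation of `Efun` at `Y` is the functor `H^p(u Y, -)` of Mathlib -/
noncomputable def evalIso (Y : D) :
    Efun (u ⋙ RpushSite.frF J) p ⋙ (evaluation Dᵒᵖ AddCommGrpCat.{u}).obj (op Y) ≅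
      (Sheaf.cohomologyPresheafFunctor J p).flip.obj (op (u.obj Y)) :=
  NatIso.ofComponents (fun F => Iso.refl _) (fun φ => by
    rw [Iso.refl_hom, Iso.refl_hom]
    exact (Category.comp_id _).trans (Category.id_comp _).symm)

theorem preservesColimit_Rpush {ι : Type u} [SmallCategory ι] (F : ι ⥤ Sheaf J AddCommGrpCat.{u})
    (h : ∀ V : D, ∃ (κ : Type u) (Y : κ → D) (g : ∀ k, Y k ⟶ V), Sieve.ofArrows Y g ∈ K V ∧
      ∀ k, PreservesColimit F ((Sheaf.cohomologyPresheafFunctor J p).flip.obj (op (u.obj (Y k))))) :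
    PreservesColimit F (CohSite.Rpush J K u p) := by
  haveI : PreservesColimit F (Efun (u ⋙ RpushSite.frF J) p ⋙ RpushSite.shf K) := by
    apply preservesColimit_comp_shf K
    intro V
    obtain ⟨κ, Y, g, hc, hY⟩ := h V
    refine ⟨κ, Y, g, hc, fun k => ?_⟩
    haveI := hY k
    exact preservesColimit_of_natIso F (evalIso J u p (Y k)).symm
  exact preservesColimit_of_natIso F (rpushNatIso J K u p).symm

end Final

section Top

open TopologicalSpace

theorem preservesColimit_Rpush_top {X Y : TopCat.{u}} (f : X ⟶ Y)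
    {ι : Type u} [SmallCategory ι] (F : ι ⥤ CohTop.Ab X) (p : ℕ)
    (h : Opens.IsBasis {V : Opens Y | PreservesColimit F
        ((Sheaf.cohomologyPresheafFunctor (Opens.grothendieckTopology X) p).flip.obj
          (op ((Opens.map f).obj V)))}) :
    PreservesColimit F (CohTop.Rpush f p) := by
  refine preservesColimit_Rpush (Opens.grothendieckTopology X) (Opens.grothendieckTopology Y)
    (Opens.map f) p F ?_
  intro V
  refine ⟨{W : Opens Y // W ∈ {V : Opens Y | PreservesColimit F
        ((Sheaf.cohomologyPresheafFunctor (Opens.grothendieckTopology X) p).flip.obj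
          (op ((Opens.map f).obj V)))} ∧ W ≤ V}, fun k => k.1, fun k => homOfLE k.2.2, ?_,
    fun k => k.2.1⟩
  intro x hx
  obtain ⟨W, hW, hxW, hWV⟩ := Opens.isBasis_iff_nbhd.1 h hx
  exact ⟨W, homOfLE hWV, Sieve.ofArrows_mk _ _ (⟨W, hW, hWV⟩ : {W : Opens Y // _ ∧ W ≤ V}), hxW⟩

end Top

end Groth.Agent.Lib.RpushColim_helper7
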