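import Mathlib
import Groth.Prelude.Def_CohTop
import Groth.Prelude.Def_Coh
import Groth.Agent.Lib.ColimCoh3_helper9
import Groth.Agent.Lib.RpushColim_helper7

/-!
# Higher direct images along qcqs morphisms commute with filtered colimits (helper9)
-/

set_option autoImplicit false

universe u

open CategoryTheory CategoryTheory.Limits TopologicalSpace Opposite AlgebraicGeometry

namespace ColimCoh

section final

universe v₁ v₂ v₃ v₄ u₁ u₂ u₃ u₄

variable {α : Type u₁} [Category.{v₁} α] {J : Type u₂} [Category.{v₂} J]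
  {C : Type u₃} [Category.{v₃} C] {E : Type u₄} [Category.{v₄} E]

theorem preservesColimit_of_final (F : α ⥤ J) [F.Final] (D : J ⥤ C) (G : C ⥤ E)
    [PreservesColimit (F ⋙ D) G] : PreservesColimit D G := by
  constructor
  intro c hc
  have h1 : IsColimit (c.whisker F) := (Functor.Final.isColimitWhiskerEquiv F c).symm hc
  have h2 : IsColimit (G.mapCocone (c.whisker F)) := isColimitOfPreserves G h1
  have h3 : IsColimit ((G.mapCocone c).whisker F) := h2
  exact ⟨Functor.Final.isColimitWhiskerEquiv F _ h3⟩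

end final

variable {X : TopCat.{u}}

theorem preservesColimit_cohomology {U₀ : Opens X} (hU₀ : QCQS U₀)
    (hc : IsCompact (U₀ : Set X)) {J : Type u} [SmallCategory J] [IsFiltered J]
    (D : J ⥤ CohTop.Ab X) (q : ℕ) :
    PreservesColimit D
      ((Sheaf.cohomologyPresheafFunctor (Opens.grothendieckTopology X) q).flip.obj (op U₀)) := by
  obtain ⟨α, _, _, _, F, hF⟩ := IsFiltered.exists_directed J
  haveI : PreservesColimit (F ⋙ D)
      ((Sheaf.cohomologyPresheafFunctor (Opens.grothendieckTopology X) q).flip.obj (op U₀)) :=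
    preservesColimit_ext hU₀ q U₀ hc le_rfl (F ⋙ D)
  exact preservesColimit_of_final F D _

theorem qcqs_of_scheme {Y : Scheme.{u}} (U : Y.Opens) (hqs : IsQuasiSeparated (U : Set Y)) :
    QCQS (X := Y.toTopCat) U where
  inter V W hV hW hVc hWc := by
    have := hqs V.1 W.1 hV V.isOpen hVc hW W.isOpen hWc
    exact this
  basis W _ x hx := by
    obtain ⟨V, hV, hxV, hVW⟩ := Opens.isBasis_iff_nbhd.mp Y.isBasis_affineOpens hx
    exact ⟨V, IsAffineOpen.isCompact hV, hxV, hVW⟩

theorem preservesColimitsOfShape_RpushAb {Y S : Scheme.{u}} (f : Y ⟶ S) [QuasiCompact f]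
    [QuasiSeparated f] (p : ℕ) (J : Type u) [SmallCategory J] [IsFiltered J] :
    PreservesColimitsOfShape J (Coh.RpushAb f p) := by
  constructor
  intro D
  refine Groth.Agent.Lib.RpushColim_helper7.preservesColimit_Rpush_top f.base D p ?_
  rw [Opens.isBasis_iff_nbhd]
  intro U x hx
  obtain ⟨V, hV, hxV, hVU⟩ := Opens.isBasis_iff_nbhd.mp S.isBasis_affineOpens hx
  refine ⟨V, ?_, hxV, hVU⟩
  have hqs : IsQuasiSeparated ((f ⁻¹ᵁ V : Y.Opens) : Set Y) :=
    f.isQuasiSeparated_preimage hV.isQuasiSeparated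
  have hc : IsCompact ((f ⁻¹ᵁ V : Y.Opens) : Set Y) :=
    QuasiCompact.isCompact_preimage (f := f) _ V.isOpen hV.isCompact
  exact preservesColimit_cohomology (qcqs_of_scheme _ hqs) hc D p

end ColimCoh
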