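import Mathlib
import Groth.Agent.Lib.BasicLoc1_helper9
import Groth.Agent.Lib.ColimCoh4_helper9

/-!
# `j_* (M|_{X_f})` is the colimit of `M →f M →f ⋯` for quasi-coherent `M` (helper9)
-/

set_option autoImplicit false

universe u

open CategoryTheory CategoryTheory.Limits AlgebraicGeometry Opposite TopologicalSpace
open QcqsLoc

namespace BasicLoc

variable {X : Scheme.{u}} (f : Γ(X, ⊤)) (M : X.Modules)

/-- `W ∩ X_f` in the form `j(j⁻¹ W)` -/
abbrev VW (W : X.Opens) : X.Opens := (jf f) ''ᵁ ((jf f) ⁻¹ᵁ W)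

lemma VW_le (W : X.Opens) : VW f W ≤ W := (jf f).image_preimage_le W

lemma VW_eq (W : X.Opens) : VW f W = X.basicOpen (rX (le_top : W ≤ ⊤) f) := by
  have h1 : X.basicOpen (rX (le_top : W ≤ ⊤) f) = W ⊓ X.basicOpen f :=
    X.basicOpen_res f (homOfLE (le_top : W ≤ ⊤)).op
  rw [h1, VW, Scheme.Hom.image_preimage_eq_opensRange_inf, Scheme.Opens.opensRange_ι, inf_comm]

set_option backward.isDefEq.respectTransparency false in
lemma unitAb_app (W : X.Opens) (s : Γ(M, W)) :
    (unitAb f M).hom.app (op W) s = rF M (VW_le f W) s := rfl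

lemma smP_app (b : Γ(X, ⊤)) (W : X.Opens) (t : Γ(M, VW f W)) :
    (smP f M b).hom.app (op W) t = rX (le_top : VW f W ≤ ⊤) b • t := by
  have h2 : (smP f M b).hom.app (op W) t =
      @HSMul.hSMul Γ(X, VW f W) Γ(M, VW f W) Γ(M, VW f W) _
        (((jf f).appIso ((jf f) ⁻¹ᵁ W)).inv (((jf f).app W).hom (Coh.resTop X (op W) b))) t := rfl
  rw [h2]
  congr 1
  rw [Scheme.Opens.ι_appIso]
  change (X.presheaf.map _ ≫ X.presheaf.map _).hom b = _
  rw [← Functor.map_comp]
  rfl

lemma smP_gamma (n : ℕ) : smP f M (f ^ n) ≫ gamma f M n = 𝟙 _ := by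
  have := smul_comp_gamma f M 0 n
  rw [zero_add, gamma_zero] at this
  exact this

lemma leg_smP (n : ℕ) : leg f M n ≫ smP f M (f ^ n) = unitAb f M := by
  have := leg_smul f M 0 n
  rw [zero_add, leg_zero] at this
  exact this

variable [M.IsQuasicoherent]

theorem secSurj (W : X.Opens) (hW : IsAffineOpen W) :
    ColimCoh.SecSurj (D f M) (cocone f M) W := by
  intro t
  let t' : Γ(M, VW f W) := t
  obtain ⟨n, m, hm⟩ := surj_of_qcqs M (rX (le_top : W ≤ ⊤) f) hW.isCompact hW.isQuasiSeparated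
    (homOfLE (VW_le f W)) (VW_eq f W) t'
  refine ⟨ULift.up n, m, ?_⟩
  change (leg f M n).hom.app (op W) m = t
  -- apply `f^n`, which is invertible
  have h1 : (smP f M (f ^ n)).hom.app (op W) ((leg f M n).hom.app (op W) m) =
      (smP f M (f ^ n)).hom.app (op W) t := by
    have e1 := congrArg (fun φ : Coh.toAb M ⟶ PAb f M => φ.hom.app (op W) m) (leg_smP f M n)
    refine e1.trans ?_
    rw [unitAb_app, smP_app]
    refine Eq.trans ?_ (Eq.trans hm.symm ?_)
    · rfl
    · congr 1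
      rw [map_pow]
      congr 1
      exact rX_rX _ _ f
  have h2 := congrArg (fun z => (gamma f M n).hom.app (op W) z) h1
  have e2 : ∀ z : (PAb f M).obj.obj (op W),
      (gamma f M n).hom.app (op W) ((smP f M (f ^ n)).hom.app (op W) z) = z := fun z =>
    congrArg (fun φ : PAb f M ⟶ PAb f M => φ.hom.app (op W) z) (smP_gamma f M n)
  rw [← e2 ((leg f M n).hom.app (op W) m), ← e2 t]
  exact h2

theorem secInj (W : X.Opens) (hW : IsAffineOpen W) :
    ColimCoh.SecInj (D f M) (cocone f M) W := by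
  rintro ⟨n⟩ s hs
  have hs' : (leg f M n).hom.app (op W) s = 0 := hs
  let s' : Γ(M, W) := s
  have h1 : rF M (VW_le f W) s' = 0 := by
    rw [← unitAb_app]
    have e1 := congrArg (fun φ : Coh.toAb M ⟶ PAb f M => φ.hom.app (op W) s) (leg_smP f M n)
    refine e1.symm.trans ?_
    show (smP f M (f ^ n)).hom.app (op W) ((leg f M n).hom.app (op W) s) = 0
    rw [hs', map_zero]
  obtain ⟨k, hk⟩ := ker_of_isCompact M (rX (le_top : W ≤ ⊤) f) hW.isCompact
    (homOfLE (VW_le f W)) (VW_eq f W) s' h1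
  refine ⟨ULift.up (n + k), ULift.up_le.mpr (Nat.le_add_right n k), ?_⟩
  change (sm M (f ^ (n + k - n))).hom.app (op W) s = 0
  rw [Nat.add_sub_cancel_left, sm_app]
  refine Eq.trans ?_ hk
  congr 1
  exact map_pow _ _ _

theorem isColimit_cocone : Nonempty (IsColimit (cocone f M)) := by
  refine ColimCoh.isColimit_of_basis (fun W : Opens X.toTopCat => IsAffineOpen (X := X) W) ?_ ?_ ?_ ?_ ?_
  · intro W x hx
    obtain ⟨V, hV, hxV, hVW⟩ := Opens.isBasis_iff_nbhd.mp X.isBasis_affineOpens hx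
    exact ⟨V, hV, hxV, hVW⟩
  · intro V hV
    exact hV.isCompact
  · intro V hV
    exact ColimCoh.qcqs_of_scheme V hV.isQuasiSeparated
  · intro V hV
    exact secSurj f M V hV
  · intro V hV
    exact secInj f M V hV

end BasicLoc
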