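import Mathlib
import Groth.Prelude.Def_ega3
import Groth.Agent.Lib.BasicLoc2_helper9
import Groth.Agent.Lib.CechAffine_helper2
import Groth.Agent.Lib.Leray_helper9
import Groth.Agent.Lib.RpushVanish_helper9

/-!
# `H^q(X_f, M) = H^q(X, M)_f` for quasi-coherent `M` on a qcqs scheme (helper9)
-/

set_option autoImplicit false

universe w v u

open CategoryTheory CategoryTheory.Limits AlgebraicGeometry Opposite TopologicalSpace
open CategoryTheory.Abelian

namespace ColimExt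

variable {A : Type u} [Category.{v} A] [Abelian A] [HasExt.{w} A]

lemma pre_comp_assoc {q : ℕ} {X Y W T : A} (a : X ⟶ Y) (x : Ext Y W q) (g : W ⟶ T) :
    ((Ext.mk₀ a).comp x (zero_add q)).comp (Ext.mk₀ g) (add_zero q) =
      (Ext.mk₀ a).comp (x.comp (Ext.mk₀ g) (add_zero q)) (zero_add q) := by
  apply Ext.comp_assoc
  omega

variable {ι : Type w} [Preorder ι] {Z Z' : A} {q : ℕ} {D : ι ⥤ A} {c : Cocone D}

theorem Surj.of_retract (a : Z' ⟶ Z) (b : Z ⟶ Z') (hab : a ≫ b = 𝟙 _) (h : Surj Z q D c) :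
    Surj Z' q D c := by
  intro y
  obtain ⟨i, x, hx⟩ := h ((Ext.mk₀ b).comp y (zero_add q))
  refine ⟨i, (Ext.mk₀ a).comp x (zero_add q), ?_⟩
  rw [pre_comp_assoc, hx, Ext.mk₀_comp_mk₀_assoc, hab, Ext.mk₀_id_comp]

theorem Inj.of_retract (a : Z' ⟶ Z) (b : Z ⟶ Z') (hab : a ≫ b = 𝟙 _) (h : Inj Z q D c) :
    Inj Z' q D c := by
  intro i x hx
  have h0 : ((Ext.mk₀ b).comp x (zero_add q)).comp (Ext.mk₀ (c.ι.app i)) (add_zero q) = 0 := by
    rw [pre_comp_assoc, hx, Ext.comp_zero]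
  obtain ⟨j, hij, hj⟩ := h i _ h0
  refine ⟨j, hij, ?_⟩
  have hx' : x = (Ext.mk₀ a).comp ((Ext.mk₀ b).comp x (zero_add q)) (zero_add q) := by
    rw [Ext.mk₀_comp_mk₀_assoc, hab, Ext.mk₀_id_comp]
  rw [hx', pre_comp_assoc, hj, Ext.comp_zero]

end ColimExt

namespace BasicLoc

open Groth.Agent.Lib.Cech

variable {X : Scheme.{u}} (f : Γ(X, ⊤)) (M : X.Modules)

section colim

variable [CompactSpace X] [QuasiSeparatedSpace X] [M.IsQuasicoherent]

theorem surj_inj_KK (q : ℕ) :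
    ColimExt.Surj (KK X.toTopCat) q (D f M) (cocone f M) ∧
      ColimExt.Inj (KK X.toTopCat) q (D f M) (cocone f M) := by
  obtain ⟨hc⟩ := isColimit_cocone f M
  have hqs : IsQuasiSeparated ((⊤ : X.Opens) : Set X) := by
    rw [Opens.coe_top]
    exact isQuasiSeparated_univ
  have hcomp : IsCompact ((⊤ : Opens X.toTopCat) : Set X.toTopCat) := by
    rw [Opens.coe_top]
    exact CompactSpace.isCompact_univ (X := X)
  obtain ⟨h1, h2⟩ := ColimCoh.surj_inj (ColimCoh.qcqs_of_scheme (⊤ : X.Opens) hqs) q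
    (D f M) (cocone f M) hc ⊤ hcomp le_rfl
  exact ⟨h1.of_retract kkToFr frToKK kkToFr_frToKK, h2.of_retract kkToFr frToKK kkToFr_frToKK⟩

end colim

end BasicLoc

namespace BasicLoc

open Groth.Agent.Lib.Cech

variable {X : Scheme.{u}} (f : Γ(X, ⊤)) (M : X.Modules)

section loc

variable (q : ℕ)

/-- the map `H^q(X, M) → H^q(X, j_* N)` induced by the unit -/
noncomputable def lam : Coh.HH X M q →ₗ[Γ(X, ⊤)] Coh.HH X (Pmod f M) q where
  toFun := Sheaf.H.map (unitAb f M) q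
  map_add' := map_add _
  map_smul' r x := by
    change Sheaf.H.map (unitAb f M) q (Sheaf.H.map (sm M r) q x) =
      Sheaf.H.map (smP f M r) q (Sheaf.H.map (unitAb f M) q x)
    rw [← Sheaf.H.map_comp_apply, ← Sheaf.H.map_comp_apply, unitAb_smP]

lemma lam_apply (x : Coh.HH X M q) : lam f M q x = Sheaf.H.map (unitAb f M) q x := rfl

lemma smul_eq (r : Γ(X, ⊤)) (x : Coh.HH X M q) : r • x = Sheaf.H.map (sm M r) q x := rfl

lemma smul_eq' (r : Γ(X, ⊤)) (y : Coh.HH X (Pmod f M) q) :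
    r • y = Sheaf.H.map (smP f M r) q y := rfl

/-- division by `fⁿ` on `H^q(X, j_* N)` -/
noncomputable def gam (n : ℕ) (y : Coh.HH X (Pmod f M) q) : Coh.HH X (Pmod f M) q :=
  Sheaf.H.map (gamma f M n) q y

lemma gamma_smul (n : ℕ) (y : Coh.HH X (Pmod f M) q) :
    gam f M q n ((f ^ n) • y) = y := by
  unfold gam
  rw [smul_eq', ← Sheaf.H.map_comp_apply, smP_gamma, Sheaf.H.map_id_apply]

lemma smul_gamma (n : ℕ) (y : Coh.HH X (Pmod f M) q) :
    (f ^ n) • gam f M q n y = y := by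
  rw [smul_eq']
  unfold gam
  rw [← Sheaf.H.map_comp_apply]
  have := gamma_comp_smul f M 0 n
  rw [zero_add, gamma_zero] at this
  rw [this, Sheaf.H.map_id_apply]

variable [CompactSpace X] [QuasiSeparatedSpace X] [M.IsQuasicoherent]

instance isLocalizedModule_lam : IsLocalizedModule (Submonoid.powers f) (lam f M q) where
  map_units := by
    rintro ⟨_, n, rfl⟩
    rw [Module.End.isUnit_iff]
    constructor
    · intro y₁ y₂ h
      have h' : (f ^ n) • y₁ = (f ^ n) • y₂ := h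
      have := congrArg (gam f M q n) h'
      rwa [gamma_smul, gamma_smul] at this
    · intro y
      exact ⟨gam f M q n y, smul_gamma f M q n y⟩
  surj := by
    intro y
    obtain ⟨n, x, hx⟩ := (surj_inj_KK f M q).1 y
    refine ⟨⟨x, ⟨f ^ n.down, n.down, rfl⟩⟩, ?_⟩
    change (f ^ n.down) • y = Sheaf.H.map (unitAb f M) q x
    rw [smul_eq', ← hx]
    change Sheaf.H.map (smP f M (f ^ n.down)) q (Sheaf.H.map (leg f M n.down) q x) = _
    rw [← Sheaf.H.map_comp_apply, leg_smP]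
  exists_of_eq := by
    intro x₁ x₂ h
    have h0 : Sheaf.H.map (unitAb f M) q (x₁ - x₂) = 0 := by
      rw [map_sub, sub_eq_zero]
      exact h
    obtain ⟨j, hj, hj'⟩ := (surj_inj_KK f M q).2 ⟨0⟩ (x₁ - x₂) (by
      change Sheaf.H.map (leg f M 0) q (x₁ - x₂) = 0
      rw [leg_zero]
      exact h0)
    refine ⟨⟨f ^ j.down, j.down, rfl⟩, ?_⟩
    change (f ^ j.down) • x₁ = (f ^ j.down) • x₂
    rw [← sub_eq_zero, ← smul_sub, smul_eq]
    exact hj'

end loc

end BasicLoc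

namespace BasicLoc

variable {X : Scheme.{u}} (f : Γ(X, ⊤)) (M : X.Modules)

/-- `H^q(X_f, M) ≃ H^q(X, M)_f` for quasi-coherent `M` on a qcqs scheme. -/
theorem nonempty_HHon_addEquiv [CompactSpace X] [QuasiSeparatedSpace X] [M.IsQuasicoherent]
    (q : ℕ) :
    Nonempty (Coh.HHon X M (X.basicOpen f) q ≃+
      LocalizedModule (Submonoid.powers f) (Coh.HH X M q)) := by
  haveI : (Nf f M).IsQuasicoherent := inferInstance
  obtain ⟨e⟩ := Leray.nonempty_H_addEquiv_push (jf f).base (Coh.toAb (Nf f M))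
    (fun p => RpushVanish.isZero_RpushAb_of_isAffineHom (jf f) (Nf f M) p) q
  let e2 : LocalizedModule (Submonoid.powers f) (Coh.HH X M q) ≃+ Coh.HH X (Pmod f M) q :=
    (IsLocalizedModule.iso (Submonoid.powers f) (lam f M q)).toAddEquiv
  exact ⟨e.trans e2.symm⟩

end BasicLoc
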