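import Mathlib

/-!
# Bijectivity criteria for pre- and post-composition on `Ext` groups (helper9)

* `ExtPre.precomp_bijective_of_resolution`: if `ι : Z' ⟶ Z` induces bijections
  `Hom(Z, Rⁿ) → Hom(Z', Rⁿ)` for all terms of an injective resolution `R` of `G`, then
  `Ext^q(Z, G) → Ext^q(Z', G)` is bijective for all `q`.
* `ExtPre.postcomp_bijective_of_ker_coker`: if `Ext^q(Z, ker φ) = 0 = Ext^q(Z, coker φ)` for all
  `q`, then `Ext^q(Z, G) → Ext^q(Z, G')` is bijective for all `q`.
APPEND-ONLY once landed.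
-/

set_option autoImplicit false

universe w v u

open CategoryTheory CategoryTheory.Limits CategoryTheory.Abelian

namespace ExtPre

variable {C : Type u} [Category.{v} C] [Abelian C] [HasExt.{w} C]

section Pre

variable {Z Z' G : C} (ι : Z' ⟶ Z) (R : InjectiveResolution G)

/-- precomposition with `ι` on `Ext^q(-, G)` -/
noncomputable def pre (q : ℕ) : Ext.{w} Z G q →+ Ext.{w} Z' G q :=
  AddMonoidHom.mk' (fun x => (Ext.mk₀ ι).comp x (zero_add q)) (fun x y => Ext.comp_add _ x y _)

lemma pre_apply (q : ℕ) (x : Ext.{w} Z G q) :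
    pre ι q x = (Ext.mk₀ ι).comp x (zero_add q) := rfl

variable (h : ∀ n, Function.Bijective (fun a : Z ⟶ R.cocomplex.X n => ι ≫ a))

include h in
lemma pre_surjective (q : ℕ) : Function.Surjective (pre (G := G) ι q) := by
  intro y
  obtain ⟨b, hb, rfl⟩ := R.extMk_surjective y (q + 1) rfl
  obtain ⟨a, rfl⟩ := (h q).2 b
  have ha : a ≫ R.cocomplex.d q (q + 1) = 0 := by
    apply (h (q + 1)).1
    change ι ≫ a ≫ R.cocomplex.d q (q + 1) = ι ≫ 0
    rw [← Category.assoc, hb, comp_zero]
  exact ⟨R.extMk a (q + 1) rfl ha, R.mk₀_comp_extMk a (q + 1) rfl ha ι⟩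

include h in
lemma pre_injective (q : ℕ) : Function.Injective (pre (G := G) ι q) := by
  rw [injective_iff_map_eq_zero]
  intro x hx
  cases q with
  | zero =>
    obtain ⟨φ, rfl⟩ := (Ext.mk₀_bijective Z G).2 x
    rw [pre_apply, Ext.mk₀_comp_mk₀] at hx
    have h1 : ι ≫ φ = 0 := (Ext.mk₀_bijective Z' G).1 (hx.trans (Ext.mk₀_zero Z' G).symm)
    have h2 : φ ≫ R.ι.f 0 = 0 := by
      apply (h 0).1
      change ι ≫ φ ≫ R.ι.f 0 = ι ≫ 0
      rw [← Category.assoc, h1, zero_comp, comp_zero]
    haveI : Mono (R.ι.f 0) := inferInstance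
    have h3 : φ = 0 := by
      apply (cancel_mono (R.ι.f 0)).1
      exact h2.trans zero_comp.symm
    rw [h3, Ext.mk₀_zero]
  | succ p =>
    obtain ⟨a, ha, rfl⟩ := R.extMk_surjective x (p + 1 + 1) rfl
    rw [pre_apply, R.mk₀_comp_extMk a (p + 1 + 1) rfl ha ι,
      R.extMk_eq_zero_iff _ (p + 1 + 1) rfl _ p rfl] at hx
    obtain ⟨g, hg⟩ := hx
    obtain ⟨g', rfl⟩ := (h p).2 g
    rw [R.extMk_eq_zero_iff _ (p + 1 + 1) rfl _ p rfl]
    refine ⟨g', (h (p + 1)).1 ?_⟩
    change ι ≫ g' ≫ R.cocomplex.d p (p + 1) = ι ≫ a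
    rw [← Category.assoc]
    exact hg

include h in
theorem precomp_bijective_of_resolution (q : ℕ) : Function.Bijective (pre (G := G) ι q) :=
  ⟨pre_injective ι R h q, pre_surjective ι R h q⟩

end Pre

section Post

variable (Z : C) {G G' : C} (φ : G ⟶ G')

/-- postcomposition with `φ` on `Ext^q(Z, -)` -/
noncomputable def post (q : ℕ) : Ext.{w} Z G q →+ Ext.{w} Z G' q :=
  (Ext.mk₀ φ).postcomp Z (add_zero q)

lemma post_apply (q : ℕ) (x : Ext.{w} Z G q) :
    post Z φ q x = x.comp (Ext.mk₀ φ) (add_zero q) := rfl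

lemma post_comp {G'' : C} (ψ : G' ⟶ G'') (q : ℕ) (x : Ext.{w} Z G q) :
    post Z (φ ≫ ψ) q x = post Z ψ q (post Z φ q x) := by
  rw [post_apply, post_apply, post_apply, Ext.comp_assoc_of_third_deg_zero, Ext.mk₀_comp_mk₀]

variable {Z}

/-- postcomposition with the epi part of a short exact sequence whose kernel is `Z`-acyclic in
all degrees -/
theorem post_g_bijective {S : ShortComplex C} (hS : S.ShortExact)
    (hK : ∀ (q : ℕ) (x : Ext.{w} Z S.X₁ q), x = 0) (q : ℕ) :
    Function.Bijective (post Z S.g q) := by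
  constructor
  · rw [injective_iff_map_eq_zero]
    intro x hx
    obtain ⟨x₁, rfl⟩ := Ext.covariant_sequence_exact₂ Z hS x hx
    rw [hK q x₁, Ext.zero_comp]
  · intro y
    exact Ext.covariant_sequence_exact₃ Z hS y rfl (hK (q + 1) _)

/-- postcomposition with the mono part of a short exact sequence whose cokernel is `Z`-acyclic
in all degrees -/
theorem post_f_bijective {S : ShortComplex C} (hS : S.ShortExact)
    (hC : ∀ (q : ℕ) (x : Ext.{w} Z S.X₃ q), x = 0) (q : ℕ) :
    Function.Bijective (post Z S.f q) := by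
  constructor
  · cases q with
    | zero =>
      haveI := hS.mono_f
      exact Ext.postcomp_mk₀_injective_of_mono Z S.f
    | succ n =>
      rw [injective_iff_map_eq_zero]
      intro x hx
      obtain ⟨x₃, rfl⟩ := Ext.covariant_sequence_exact₁ Z hS x hx rfl
      rw [hC n x₃, Ext.zero_comp]
  · intro y
    exact Ext.covariant_sequence_exact₂ Z hS y (hC q _)

theorem postcomp_bijective_of_ker_coker
    (hK : ∀ (q : ℕ) (x : Ext.{w} Z (kernel φ) q), x = 0)
    (hC : ∀ (q : ℕ) (x : Ext.{w} Z (cokernel φ) q), x = 0) (q : ℕ) :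
    Function.Bijective (post Z φ q) := by
  -- the two short exact sequences
  let p := Abelian.factorThruImage φ
  let i := Abelian.image.ι φ
  have hpi : p ≫ i = φ := Abelian.image.fac φ
  have hz : kernel.ι φ ≫ p = 0 := by
    rw [← cancel_mono i, Category.assoc, hpi, kernel.condition, zero_comp]
  let S₁ : ShortComplex C := ShortComplex.mk (kernel.ι φ) p hz
  have hS₁ : S₁.ShortExact :=
    { exact := ShortComplex.exact_of_f_is_kernel _
        (isKernelOfComp i φ (kernelIsKernel φ) hz hpi)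
      mono_f := inferInstanceAs (Mono (kernel.ι φ))
      epi_g := inferInstanceAs (Epi (Abelian.factorThruImage φ)) }
  let S₂ : ShortComplex C := ShortComplex.mk i (cokernel.π φ) (kernel.condition _)
  have hS₂ : S₂.ShortExact :=
    { exact := ShortComplex.exact_of_f_is_kernel _ (kernelIsKernel (cokernel.π φ))
      mono_f := inferInstanceAs (Mono (Abelian.image.ι φ))
      epi_g := inferInstanceAs (Epi (cokernel.π φ)) }
  have h₁ := post_g_bijective hS₁ hK q
  have h₂ := post_f_bijective hS₂ hC q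
  have : (post Z φ q : Ext.{w} Z G q → Ext.{w} Z G' q) = post Z i q ∘ post Z p q := by
    funext x
    have := post_comp Z p i q x
    rw [hpi] at this
    exact this
  rw [this]
  exact h₂.comp h₁

end Post

end ExtPre
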