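import Mathlib
import Groth.Agent.Lib.BasicLoc3_helper9
import Groth.Agent.Lib.ExtPre1_helper9
import Groth.Agent.Lib.RestrOpen_helper2

/-!
# The restriction `H^q(X, M) → H^q(X_f, M)` as a localization: comparison maps (helper9)

With `F = M` (underlying abelian sheaf), `TF = j_* (M|_{X_f})`, `η : F ⟶ TF` the unit and
`ι : ℤ_{X_f} ⟶ ℤ_X`:
* `BasicLoc.alpha_bijective`: `Ext^q(ℤ_X, TF) → Ext^q(ℤ_{X_f}, TF)` (precomposition with `ι`) is
  bijective;
* `BasicLoc.beta_bijective`: `Ext^q(ℤ_{X_f}, F) → Ext^q(ℤ_{X_f}, TF)` (postcomposition with `η`)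
  is bijective.
APPEND-ONLY once landed.
-/

set_option autoImplicit false

universe u

open CategoryTheory CategoryTheory.Limits AlgebraicGeometry Opposite TopologicalSpace
open CategoryTheory.Abelian QcqsLoc
open Groth.Agent.Lib.FreeSheaf

namespace BasicLoc

section general

variable {T : TopCat.{u}}

lemma map_bijective_of_le_le (Q : (Opens T)ᵒᵖ ⥤ AddCommGrpCat.{u}) {V W : Opens T} (h : V ≤ W)
    (h' : W ≤ V) : Function.Bijective (Q.map (homOfLE h).op) := by
  have : IsIso (Q.map (homOfLE h).op) :=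
    ⟨Q.map (homOfLE h').op, by
      rw [← Q.map_comp, ← op_comp, Subsingleton.elim (homOfLE h' ≫ homOfLE h) (𝟙 W), op_id,
        Q.map_id], by
      rw [← Q.map_comp, ← op_comp, Subsingleton.elim (homOfLE h ≫ homOfLE h') (𝟙 V), op_id,
        Q.map_id]⟩
  exact (ConcreteCategory.isIso_iff_bijective _).mp this

lemma isIso_of_app_bijective {F G : CohTop.Ab T} (φ : F ⟶ G)
    (h : ∀ V : Opens T, Function.Bijective (φ.hom.app (op V))) : IsIso φ := by
  haveI : ∀ V : (Opens T)ᵒᵖ, IsIso (φ.hom.app V) := fun V =>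
    (ConcreteCategory.isIso_iff_bijective _).mpr (h V.unop)
  haveI : IsIso φ.hom := NatIso.isIso_of_isIso_app φ.hom
  haveI : IsIso ((sheafToPresheaf _ _).map φ) := ‹IsIso φ.hom›
  exact isIso_of_fully_faithful (sheafToPresheaf (Opens.grothendieckTopology T) _) φ

/-- `Ext` groups into a zero object vanish -/
lemma ext_eq_zero_of_isZero {C : Type*} [Category C] [Abelian C] [HasExt.{u} C] {Z G : C}
    (hG : IsZero G) {q : ℕ} (x : Ext.{u} Z G q) : x = 0 := by
  have h1 : x = x.comp (Ext.mk₀ (𝟙 G)) (add_zero q) := (Ext.comp_mk₀_id x).symm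
  rw [h1, hG.eq_of_src (𝟙 G) 0, Ext.mk₀_zero, Ext.comp_zero]

/-- the free sheaf on an open is acyclic for sheaves vanishing on that open -/
lemma ext_fr_eq_zero_of_isZero_restr (U : Opens T) (K : CohTop.Ab T)
    (hK : IsZero ((CohTop.restrFunctor U).obj K)) {q : ℕ}
    (x : Ext.{u} (freeSheaf (Opens.grothendieckTopology T) U) K q) : x = 0 := by
  obtain ⟨e⟩ := Groth.Agent.Lib.RestrOpen.nonempty_addEquiv U K q
  apply e.injective
  rw [map_zero]
  exact ext_eq_zero_of_isZero hK _

lemma preserves_restr (U : Opens T) :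
    PreservesFiniteLimits (CohTop.restrFunctor U) ∧
      PreservesFiniteColimits (CohTop.restrFunctor U) :=
  ((Functor.exact_tfae (CohTop.restrFunctor U)).out 0 3).mp
    (fun S hS => Groth.Agent.Lib.RestrOpen.restr_shortExact U S hS)

/-- a morphism of sheaves which is an isomorphism over `U` induces bijections on
`Ext^q(ℤ_U, -)` -/
theorem post_bijective_of_isIso_restr (U : Opens T) {G G' : CohTop.Ab T} (φ : G ⟶ G')
    (hφ : IsIso ((CohTop.restrFunctor U).map φ)) (q : ℕ) :
    Function.Bijective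
      (ExtPre.post (freeSheaf (Opens.grothendieckTopology T) U) φ q) := by
  obtain ⟨h1, h2⟩ := preserves_restr U
  apply ExtPre.postcomp_bijective_of_ker_coker
  · intro q x
    apply ext_fr_eq_zero_of_isZero_restr U
    refine IsZero.of_iso ?_ (PreservesKernel.iso (CohTop.restrFunctor U) φ)
    exact isZero_kernel_of_mono _
  · intro q x
    apply ext_fr_eq_zero_of_isZero_restr U
    refine IsZero.of_iso ?_ (PreservesCokernel.iso (CohTop.restrFunctor U) φ)
    exact isZero_cokernel_of_epi _

end general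

end BasicLoc

namespace BasicLoc

variable {X : Scheme.{u}} (f : Γ(X, ⊤)) (M : X.Modules)

/-- `ℤ_W` on the underlying space of a scheme -/
noncomputable abbrev frX (W : X.Opens) : CohTop.Ab X.toTopCat :=
  freeSheaf (Opens.grothendieckTopology X.toTopCat) W

/-- the map `ℤ_{X_f} ⟶ ℤ_X` -/
noncomputable abbrev iotaFr : frX (Uf f) ⟶ frX (⊤ : X.Opens) :=
  freeSheafMap (Opens.grothendieckTopology X.toTopCat) (homOfLE (le_top : Uf f ≤ ⊤))

lemma le_VW (W : X.Opens) (hW : W ≤ Uf f) : W ≤ VW f W := by
  rw [VW, Scheme.Hom.image_preimage_eq_opensRange_inf, Scheme.Opens.opensRange_ι]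
  exact le_inf hW le_rfl

set_option backward.isDefEq.respectTransparency false in
lemma isIso_restr_unitAb :
    IsIso ((CohTop.restrFunctor (Uf f : Opens X.toTopCat)).map (unitAb f M)) := by
  apply isIso_of_app_bijective
  intro V
  let W : X.Opens := Groth.Agent.Lib.RestrOpen.jj (Uf f : Opens X.toTopCat) V
  have hW : W ≤ Uf f := by
    rintro x ⟨y, -, rfl⟩
    exact y.2
  exact map_bijective_of_le_le M.presheaf (VW_le f W) (le_VW f W hW)

theorem beta_bijective (q : ℕ) :
    Function.Bijective (ExtPre.post (frX (Uf f)) (unitAb f M) q) :=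
  post_bijective_of_isIso_restr (Uf f : Opens X.toTopCat) (unitAb f M)
    (isIso_restr_unitAb f M) q

end BasicLoc

namespace BasicLoc

variable {X : Scheme.{u}} (f : Γ(X, ⊤)) (M : X.Modules)

section alpha

variable {T : TopCat.{u}}

/-- precomposition with `ℤ_V ⟶ ℤ_W` is bijective on maps into `P` as soon as the restriction
`P(W) → P(V)` is -/
lemma precomp_freeSheafMap_bijective {V W : Opens T} (h : V ≤ W) (P : CohTop.Ab T)
    (hP : Function.Bijective (P.obj.map (homOfLE h).op)) :
    Function.Bijective (fun a : freeSheaf (Opens.grothendieckTopology T) W ⟶ P =>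
      freeSheafMap (Opens.grothendieckTopology T) (homOfLE h) ≫ a) := by
  have key : (fun a : freeSheaf (Opens.grothendieckTopology T) W ⟶ P =>
      freeSheafMap (Opens.grothendieckTopology T) (homOfLE h) ≫ a) =
      (freeSheafHomEquiv (Opens.grothendieckTopology T) V P).symm ∘
        (P.obj.map (homOfLE h).op) ∘ (freeSheafHomEquiv (Opens.grothendieckTopology T) W P) := by
    funext a
    apply (freeSheafHomEquiv (Opens.grothendieckTopology T) V P).injective
    rw [freeSheafHomEquiv_map]
    simp only [Function.comp_apply, Equiv.apply_symm_apply]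
  rw [key]
  exact (Equiv.bijective _).comp (hP.comp (Equiv.bijective _))

end alpha

variable [M.IsQuasicoherent]

/-- the push-forward of an injective resolution of `M|_{X_f}` -/
noncomputable def resPAb : InjectiveResolution (PAb f M) :=
  Leray.pushRes (jf f).base (Coh.toAb (Nf f M)) (injectiveResolution _)
    (fun p => RpushVanish.isZero_RpushAb_of_isAffineHom (jf f) (Nf f M) p)

lemma preimage_Uf : (jf f) ⁻¹ᵁ (Uf f) = ⊤ := by
  have h1 : (jf f) ''ᵁ (⊤ : (Uf f : Scheme.{u}).Opens) = Uf f := Scheme.Opens.ι_image_top (Uf f)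
  have h2 := (jf f).preimage_image_eq (⊤ : (Uf f : Scheme.{u}).Opens)
  rw [h1] at h2
  exact h2

theorem alpha_bijective (q : ℕ) :
    Function.Bijective (ExtPre.pre (G := PAb f M) (iotaFr f) q) := by
  apply ExtPre.precomp_bijective_of_resolution (iotaFr f) (resPAb f M)
  intro n
  apply precomp_freeSheafMap_bijective (le_top : (Uf f : Opens X.toTopCat) ≤ ⊤)
  let I : CohTop.Ab (Uf f : Scheme.{u}).toTopCat := (injectiveResolution
    (Coh.toAb (Nf f M))).cocomplex.X n
  have h1 : (jf f) ⁻¹ᵁ (⊤ : X.Opens) ≤ (jf f) ⁻¹ᵁ (Uf f) := by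
    rw [preimage_Uf]
    exact le_top
  exact map_bijective_of_le_le I.obj
    ((jf f).preimage_mono (le_top : Uf f ≤ ⊤)) h1

end BasicLoc
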