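import Mathlib
import Groth.Agent.Lib.BasicLoc5_helper9

/-!
# The restriction `H^q(X, M) → H^q(X_f, M)` is a localization at `f` (helper9)

For a quasi-coherent module `M` on a qcqs scheme `X` and `f ∈ Γ(X, O_X)`, with
`ρ : Ext^q(ℤ_X, M) → Ext^q(ℤ_{X_f}, M)` the restriction and `Γ(X, O_X)` acting through `M`:
* `BasicLoc.rho_surj`: every `y` has some `fⁿ y` in the image of `ρ`;
* `BasicLoc.rho_inj`: if `ρ x = 0` then `fⁿ x = 0` for some `n`;
* `BasicLoc.smul_bijective`: `f` acts bijectively on `Ext^q(ℤ_{X_f}, M)`.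
APPEND-ONLY once landed.
-/

set_option autoImplicit false

universe u

open CategoryTheory CategoryTheory.Limits AlgebraicGeometry Opposite TopologicalSpace
open CategoryTheory.Abelian QcqsLoc
open Groth.Agent.Lib.FreeSheaf

namespace ExtPre

variable {C : Type*} [Category C] [Abelian C] [HasExt.{u} C]

lemma pre_post {Z Z' G G' : C} (ι : Z' ⟶ Z) (φ : G ⟶ G') (q : ℕ) (x : Ext.{u} Z G q) :
    pre ι q (post Z φ q x) = post Z' φ q (pre ι q x) :=
  (ColimExt.pre_comp_assoc ι x φ).symm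

lemma post_id {Z G : C} (q : ℕ) (x : Ext.{u} Z G q) : post Z (𝟙 G) q x = x :=
  Ext.comp_mk₀_id x

lemma post_bijective_of_inverse {Z G G' : C} (φ : G ⟶ G') (ψ : G' ⟶ G) (h1 : φ ≫ ψ = 𝟙 _)
    (h2 : ψ ≫ φ = 𝟙 _) (q : ℕ) : Function.Bijective (post Z φ q) := by
  refine Function.bijective_iff_has_inverse.mpr ⟨post Z ψ q, fun x => ?_, fun y => ?_⟩
  · rw [← post_comp, h1, post_id]
  · rw [← post_comp, h2, post_id]

end ExtPre

namespace BasicLoc

variable {X : Scheme.{u}} (f : Γ(X, ⊤)) (M : X.Modules)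
  [CompactSpace X] [QuasiSeparatedSpace X] [M.IsQuasicoherent]

theorem surj_inj_top (q : ℕ) :
    ColimExt.Surj (frX (⊤ : X.Opens)) q (D f M) (cocone f M) ∧
      ColimExt.Inj (frX (⊤ : X.Opens)) q (D f M) (cocone f M) := by
  obtain ⟨hc⟩ := isColimit_cocone f M
  have hqs : IsQuasiSeparated ((⊤ : X.Opens) : Set X) := by
    rw [Opens.coe_top]
    exact isQuasiSeparated_univ
  have hcomp : IsCompact ((⊤ : Opens X.toTopCat) : Set X.toTopCat) := by
    rw [Opens.coe_top]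
    exact CompactSpace.isCompact_univ (X := X)
  exact ColimCoh.surj_inj (ColimCoh.qcqs_of_scheme (⊤ : X.Opens) hqs) q
    (D f M) (cocone f M) hc ⊤ hcomp le_rfl

/-- the restriction map `Ext^q(ℤ_X, M) → Ext^q(ℤ_{X_f}, M)` -/
noncomputable abbrev rho (q : ℕ) :
    Ext.{u} (frX (⊤ : X.Opens)) (Coh.toAb M) q →+ Ext.{u} (frX (Uf f)) (Coh.toAb M) q :=
  ExtPre.pre (iotaFr f) q

theorem rho_surj (q : ℕ) (y : Ext.{u} (frX (Uf f)) (Coh.toAb M) q) :
    ∃ (n : ℕ) (x : Ext.{u} (frX (⊤ : X.Opens)) (Coh.toAb M) q),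
      rho f M q x = ExtPre.post _ (sm M (f ^ n)) q y := by
  obtain ⟨w, hw⟩ := (alpha_bijective f M q).2 (ExtPre.post _ (unitAb f M) q y)
  obtain ⟨n, x, hx⟩ := (surj_inj_top f M q).1 w
  refine ⟨n.down, x, (beta_bijective f M q).1 ?_⟩
  have hx' : ExtPre.post _ (leg f M n.down) q x = w := hx
  rw [← ExtPre.pre_post, ← ExtPre.post_comp, ← unitAb_smP, ExtPre.post_comp, ← hw,
    ← ExtPre.pre_post, ← hx', ← ExtPre.post_comp, leg_smP]

theorem rho_inj (q : ℕ) (x : Ext.{u} (frX (⊤ : X.Opens)) (Coh.toAb M) q)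
    (hx : rho f M q x = 0) : ∃ n : ℕ, ExtPre.post _ (sm M (f ^ n)) q x = 0 := by
  have h1 : ExtPre.pre (iotaFr f) q (ExtPre.post _ (unitAb f M) q x) = 0 := by
    rw [ExtPre.pre_post]
    change ExtPre.post _ (unitAb f M) q (rho f M q x) = 0
    rw [hx, map_zero]
  have h2 : ExtPre.post _ (unitAb f M) q x = 0 :=
    (alpha_bijective f M q).1 (h1.trans (map_zero _).symm)
  obtain ⟨j, hj, hj'⟩ := (surj_inj_top f M q).2 ⟨0⟩ x (by
    change ExtPre.post _ (leg f M 0) q x = 0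
    rw [leg_zero]
    exact h2)
  exact ⟨j.down - 0, hj'⟩

theorem smul_bijective (q : ℕ) :
    Function.Bijective (ExtPre.post (frX (Uf f)) (sm M f) q) := by
  have hβ := beta_bijective f M q
  have h1 : smP f M f ≫ gamma f M 1 = 𝟙 _ := by
    have := smP_gamma f M 1
    rwa [pow_one] at this
  have h2 : gamma f M 1 ≫ smP f M f = 𝟙 _ := by
    have := gamma_comp_smul f M 0 1
    rwa [zero_add, gamma_zero, pow_one] at this
  have hs : Function.Bijective (ExtPre.post (frX (Uf f)) (smP f M f) q) :=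
    ExtPre.post_bijective_of_inverse _ _ h1 h2 q
  have hcomm : ∀ y, ExtPre.post (frX (Uf f)) (unitAb f M) q (ExtPre.post _ (sm M f) q y) =
      ExtPre.post _ (smP f M f) q (ExtPre.post _ (unitAb f M) q y) := by
    intro y
    rw [← ExtPre.post_comp, ← ExtPre.post_comp, unitAb_smP]
  constructor
  · intro y y' hyy
    apply hβ.1
    apply hs.1
    rw [← hcomm, ← hcomm, hyy]
  · intro z
    obtain ⟨w, hw⟩ := hs.2 (ExtPre.post _ (unitAb f M) q z)
    obtain ⟨y, rfl⟩ := hβ.2 w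
    refine ⟨y, hβ.1 ?_⟩
    rw [hcomm, hw]

end BasicLoc
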