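import Mathlib
import Groth.Prelude.Def_CohTop
import Groth.Prelude.Def_FreeSh
import Groth.Agent.Lib.PreshExt_helper9

/-!
# Higher direct images as sheafified presheaf cohomology

* `(sheafToPresheaf.rightDerived p).obj F ≅ (V ↦ H^p(V, F))`;
* `R^i f_* F ≅ (V ↦ H^i(f⁻¹ V, F))^♯`.
-/

universe u

open CategoryTheory CategoryTheory.Limits Opposite TopologicalSpace

namespace RpushSheafify

variable {X Y : TopCat.{u}}

/-- The free abelian sheaf functor (Mathlib's form). -/
noncomputable abbrev frF (X : TopCat.{u}) : Opens X ⥤ CohTop.Ab X :=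
  yoneda ⋙ (Functor.whiskeringRight _ _ _).obj AddCommGrpCat.free ⋙
    presheafToSheaf (Opens.grothendieckTopology X) AddCommGrpCat.{u}

/-- Forgetting the sheaf condition. -/
noncomputable abbrev iota (X : TopCat.{u}) : CohTop.Ab X ⥤ (Opens X)ᵒᵖ ⥤ AddCommGrpCat.{u} :=
  sheafToPresheaf (Opens.grothendieckTopology X) AddCommGrpCat.{u}

/-- Sheafification. -/
noncomputable abbrev shf (X : TopCat.{u}) : ((Opens X)ᵒᵖ ⥤ AddCommGrpCat.{u}) ⥤ CohTop.Ab X :=
  presheafToSheaf (Opens.grothendieckTopology X) AddCommGrpCat.{u}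

/-- `(V ↦ Hom(ℤ_V, G)) ≅ (V ↦ G(V))`. -/
noncomputable def theta0 (X : TopCat.{u}) : PreshExt.Phi (frF X) ≅ iota X :=
  NatIso.ofComponents (fun G => NatIso.ofComponents
    (fun V => (CohFree.homEquivSect (Opens.grothendieckTopology X) V.unop G).toAddCommGrpIso)
    (fun {V V'} m => by
      ext ψ
      exact CohFree.evalGen_freeSheafMap_comp (Opens.grothendieckTopology X) m.unop G ψ))
    (fun {G G'} φ => by
      ext V ψ
      rfl)

/-- `(V ↦ Hom(ℤ_{f⁻¹V}, G)) ≅ (V ↦ G(f⁻¹V))`. -/
noncomputable def thetaPush (f : X ⟶ Y) :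
    PreshExt.Phi (Opens.map f ⋙ frF X) ≅ CohTop.push f ⋙ iota Y :=
  NatIso.ofComponents (fun G => NatIso.ofComponents
    (fun V => (CohFree.homEquivSect (Opens.grothendieckTopology X)
      ((Opens.map f).obj V.unop) G).toAddCommGrpIso)
    (fun {V V'} m => by
      ext ψ
      exact CohFree.evalGen_freeSheafMap_comp (Opens.grothendieckTopology X)
        ((Opens.map f).map m.unop) G ψ))
    (fun {G G'} φ => by
      ext V ψ
      rfl)

section Sheafify

variable (L : CochainComplex (CohTop.Ab Y) ℕ)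

/-- The underlying complex of presheaves. -/
noncomputable abbrev preCx : CochainComplex ((Opens Y)ᵒᵖ ⥤ AddCommGrpCat.{u}) ℕ :=
  ((iota Y).mapHomologicalComplex (ComplexShape.up ℕ)).obj L

/-- Sheafifying the underlying complex of presheaves gives back the complex. -/
noncomputable def counitCx :
    ((shf Y).mapHomologicalComplex (ComplexShape.up ℕ)).obj (preCx L) ≅ L :=
  HomologicalComplex.Hom.isoOfComponents
    (fun n => @asIso _ _ _ _ ((sheafificationAdjunction (Opens.grothendieckTopology Y)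
      AddCommGrpCat.{u}).counit.app (L.X n))
      (isIso_sheafificationAdjunction_counit (J := Opens.grothendieckTopology Y)
        (D := AddCommGrpCat.{u}) (L.X n)))
    (fun p q _ => ((sheafificationAdjunction (Opens.grothendieckTopology Y)
      AddCommGrpCat.{u}).counit.naturality (L.d p q)).symm)

/-- Sheafification commutes with homology. -/
noncomputable def mapHomIso (M : CochainComplex ((Opens Y)ᵒᵖ ⥤ AddCommGrpCat.{u}) ℕ) (i : ℕ) :
    (((shf Y).mapHomologicalComplex (ComplexShape.up ℕ)).obj M).homology i ≅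
      (shf Y).obj (M.homology i) :=
  (M.sc i).mapHomologyIso (shf Y)

/-- The homology sheaves are the sheafified homology presheaves. -/
noncomputable def sheafHomologyIso (i : ℕ) :
    L.homology i ≅ (shf Y).obj ((preCx L).homology i) :=
  ((HomologicalComplex.homologyFunctor _ (ComplexShape.up ℕ) i).mapIso (counitCx L)).symm ≪≫
    mapHomIso (preCx L) i

end Sheafify

/-- The presheaf `V ↦ Ext^i(ℤ_{f⁻¹V}, F)` in the two forms. -/
noncomputable def Eiso (f : X ⟶ Y) (F : CohTop.Ab X) (i : ℕ) :
    PreshExt.E (Opens.map f ⋙ frF X) F i ≅ (Opens.map f).op ⋙ Sheaf.cohomologyPresheaf.{u} F i :=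
  NatIso.ofComponents (fun _ => Iso.refl _) (fun {V V'} m =>
    (Category.comp_id _).trans (Category.id_comp _).symm)

noncomputable def Eiso0 (F : CohTop.Ab X) (i : ℕ) :
    PreshExt.E (frF X) F i ≅ Sheaf.cohomologyPresheaf.{u} F i :=
  NatIso.ofComponents (fun _ => Iso.refl _) (fun {V V'} m =>
    (Category.comp_id _).trans (Category.id_comp _).symm)

theorem main0 (F : CohTop.Ab X) (p : ℕ) :
    Nonempty (((sheafToPresheaf (Opens.grothendieckTopology X) AddCommGrpCat.{u}).rightDerived
      p).obj F ≅ Sheaf.cohomologyPresheaf.{u} F p) :=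
  ⟨(injectiveResolution F).isoRightDerivedObj (iota X) p ≪≫
    PreshExt.homologyIso' (frF X) (injectiveResolution F) p (iota X) (theta0 X).symm ≪≫
    Eiso0 F p⟩

theorem main (f : X ⟶ Y) (F : CohTop.Ab X) (i : ℕ) :
    Nonempty ((CohTop.Rpush f i).obj F ≅
      (presheafToSheaf (Opens.grothendieckTopology Y) AddCommGrpCat.{u}).obj
        ((Opens.map f).op ⋙ Sheaf.cohomologyPresheaf.{u} F i)) := by
  have e1 := (injectiveResolution F).isoRightDerivedObj (CohTop.push f) i
  have e2 := sheafHomologyIso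
    (((CohTop.push f).mapHomologicalComplex (ComplexShape.up ℕ)).obj
      (injectiveResolution F).cocomplex) i
  have e3 : (preCx (((CohTop.push f).mapHomologicalComplex (ComplexShape.up ℕ)).obj
      (injectiveResolution F).cocomplex)).homology i ≅
      PreshExt.E (Opens.map f ⋙ frF X) F i :=
    PreshExt.homologyIso' (Opens.map f ⋙ frF X) (injectiveResolution F) i
      (CohTop.push f ⋙ iota Y) (thetaPush f).symm
  exact ⟨e1 ≪≫ e2 ≪≫ (shf Y).mapIso (e3 ≪≫ Eiso f F i)⟩

end RpushSheafify
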