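import Mathlib

/-!
# Sheafification of a presheaf with the localization property on an affine scheme (helper9)

Part 1: covering by basic opens and powers.
APPEND-ONLY once landed.
-/

set_option autoImplicit false

universe u

open CategoryTheory CategoryTheory.Limits AlgebraicGeometry Opposite TopologicalSpace

namespace SheafBasis

variable {S : Scheme.{u}} [IsAffine S]

lemma mem_radical_of_le_iSup (c : Γ(S, ⊤)) {ι : Type*} (e : ι → Γ(S, ⊤))
    (h : S.basicOpen c ≤ ⨆ i, S.basicOpen (e i)) :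
    c ∈ (Ideal.span (Set.range e)).radical := by
  rw [Ideal.radical_eq_sInf, Submodule.mem_sInf]
  rintro p ⟨hp, hprime⟩
  by_contra hc
  let P : Spec Γ(S, ⊤) := ⟨p, hprime⟩
  let x : S := S.isoSpec.inv.base P
  have hxP : S.isoSpec.hom.base x = P := by
    change (S.isoSpec.inv ≫ S.isoSpec.hom).base P = P
    rw [Iso.inv_hom_id]
    rfl
  have hmem : ∀ g : Γ(S, ⊤), x ∈ S.basicOpen g ↔ g ∉ p := by
    intro g
    rw [← Scheme.map_PrimeSpectrum_basicOpen_of_affine S g]
    change S.isoSpec.hom.base x ∈ PrimeSpectrum.basicOpen g ↔ _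
    rw [hxP]
    exact Iff.rfl
  have hx : x ∈ S.basicOpen c := (hmem c).mpr hc
  obtain ⟨i, hi⟩ := Opens.mem_iSup.mp (h hx)
  exact (hmem (e i)).mp hi (hp (Ideal.subset_span ⟨i, rfl⟩))

lemma basicOpen_le_basicOpen_pow (a : Γ(S, ⊤)) (m : ℕ) :
    S.basicOpen a ≤ S.basicOpen (a ^ m) := by
  cases m with
  | zero =>
    rw [pow_zero, Scheme.basicOpen_one]
    exact le_top
  | succ k => rw [S.basicOpen_pow a (Nat.succ_pos k)]

lemma exists_pow_eq_sum (c : Γ(S, ⊤)) {ι : Type*} [Fintype ι] (e : ι → Γ(S, ⊤))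
    (h : S.basicOpen c ≤ ⨆ i, S.basicOpen (e i)) (m : ℕ) :
    ∃ (N : ℕ) (w : ι → Γ(S, ⊤)), c ^ N = ∑ i, w i * e i ^ m := by
  have h' : S.basicOpen c ≤ ⨆ i, S.basicOpen (e i ^ m) :=
    h.trans (iSup_mono fun i => basicOpen_le_basicOpen_pow (e i) m)
  obtain ⟨N, hN⟩ := mem_radical_of_le_iSup c (fun i => e i ^ m) h'
  obtain ⟨w, hw⟩ := (Submodule.mem_span_range_iff_exists_fun (R := Γ(S, ⊤))).mp hN
  exact ⟨N, w, hw.symm⟩

end SheafBasis

namespace SheafBasis

variable {S : Scheme.{u}} [IsAffine S]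

/-- restriction maps of a presheaf on the opens of `S` -/
noncomputable abbrev res (P : (Opens S)ᵒᵖ ⥤ AddCommGrpCat.{u}) {W W' : Opens S} (h : W' ≤ W) :
    P.obj (op W) →+ P.obj (op W') :=
  (P.map (homOfLE h).op).hom

lemma res_res (P : (Opens S)ᵒᵖ ⥤ AddCommGrpCat.{u}) {W W' W'' : Opens S} (h : W' ≤ W)
    (h' : W'' ≤ W') (x : P.obj (op W)) : res P h' (res P h x) = res P (h'.trans h) x := by
  change (P.map (homOfLE h).op ≫ P.map (homOfLE h').op).hom x = _
  rw [← P.map_comp]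
  rfl

lemma res_self (P : (Opens S)ᵒᵖ ⥤ AddCommGrpCat.{u}) {W : Opens S} (h : W ≤ W)
    (x : P.obj (op W)) : res P h x = x := by
  have : (homOfLE h).op = 𝟙 (op W) := Subsingleton.elim _ _
  change (P.map (homOfLE h).op).hom x = x
  rw [this, P.map_id]
  rfl

/-- A presheaf of abelian groups on an affine scheme `S` with a compatible action of
`A = Γ(S, O_S)` on all its groups of sections, such that `P(S) → P(D(c))` is a localization at
`c` for every `c ∈ A`. -/
structure Data (P : (Opens S)ᵒᵖ ⥤ AddCommGrpCat.{u}) where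
  /-- the action -/
  act : ∀ W : Opens S, Γ(S, ⊤) →+* AddMonoid.End (P.obj (op W))
  act_res : ∀ {W W' : Opens S} (h : W' ≤ W) (a : Γ(S, ⊤)) (x : P.obj (op W)),
    res P h (act W a x) = act W' a (res P h x)
  surj : ∀ (c : Γ(S, ⊤)) (y : P.obj (op (S.basicOpen c))),
    ∃ (n : ℕ) (x : P.obj (op ⊤)), res P le_top x = act _ (c ^ n) y
  inj : ∀ (c : Γ(S, ⊤)) (x : P.obj (op ⊤)), res P (le_top : S.basicOpen c ≤ ⊤) x = 0 →
    ∃ n : ℕ, act ⊤ (c ^ n) x = 0
  bij : ∀ c : Γ(S, ⊤), Function.Bijective (act (S.basicOpen c) c)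

namespace Data

variable {P : (Opens S)ᵒᵖ ⥤ AddCommGrpCat.{u}} (d : Data P)

/-- the module structure on sections -/
noncomputable def module (W : Opens S) : Module Γ(S, ⊤) (P.obj (op W)) :=
  Module.compHom _ (d.act W)

end Data

end SheafBasis
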