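import Mathlib
import Groth.Agent.Lib.SheafBasis1_helper9

/-!
# Sheafification of a presheaf with the localization property on an affine scheme (helper9)

Part 2: sections which are locally zero are zero (over basic opens).
APPEND-ONLY once landed.
-/

set_option autoImplicit false

universe u

open CategoryTheory CategoryTheory.Limits AlgebraicGeometry Opposite TopologicalSpace

namespace SheafBasis

variable {S : Scheme.{u}} [IsAffine S] {P : (Opens S)ᵒᵖ ⥤ AddCommGrpCat.{u}} (d : Data P)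

namespace Data

lemma act_mul_apply (W : Opens S) (a b : Γ(S, ⊤)) (x : P.obj (op W)) :
    d.act W (a * b) x = d.act W a (d.act W b x) := by
  rw [map_mul]
  rfl

lemma act_one_apply (W : Opens S) (x : P.obj (op W)) : d.act W 1 x = x := by
  rw [map_one]
  rfl

lemma act_add_apply (W : Opens S) (a b : Γ(S, ⊤)) (x : P.obj (op W)) :
    d.act W (a + b) x = d.act W a x + d.act W b x := by
  rw [map_add]
  rfl

lemma act_comm (W : Opens S) (a b : Γ(S, ⊤)) (x : P.obj (op W)) :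
    d.act W a (d.act W b x) = d.act W b (d.act W a x) := by
  rw [← act_mul_apply, ← act_mul_apply, mul_comm]

lemma act_pow_succ_apply (W : Opens S) (a : Γ(S, ⊤)) (n : ℕ) (x : P.obj (op W)) :
    d.act W (a ^ (n + 1)) x = d.act W a (d.act W (a ^ n) x) := by
  rw [pow_succ', act_mul_apply]

lemma act_pow_add_apply (W : Opens S) (a : Γ(S, ⊤)) (n m : ℕ) (x : P.obj (op W)) :
    d.act W (a ^ (n + m)) x = d.act W (a ^ n) (d.act W (a ^ m) x) := by
  rw [pow_add, act_mul_apply]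

lemma act_pow_injective (W : Opens S) (a : Γ(S, ⊤)) (h : Function.Injective (d.act W a))
    (n : ℕ) : Function.Injective (d.act W (a ^ n)) := by
  induction n with
  | zero =>
    intro x y hxy
    rwa [pow_zero, act_one_apply, act_one_apply] at hxy
  | succ n ih =>
    intro x y hxy
    rw [act_pow_succ_apply, act_pow_succ_apply] at hxy
    exact ih (h hxy)

lemma act_pow_surjective (W : Opens S) (a : Γ(S, ⊤)) (h : Function.Surjective (d.act W a))
    (n : ℕ) : Function.Surjective (d.act W (a ^ n)) := by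
  induction n with
  | zero =>
    intro x
    exact ⟨x, by rw [pow_zero, act_one_apply]⟩
  | succ n ih =>
    intro x
    obtain ⟨y, rfl⟩ := h x
    obtain ⟨z, rfl⟩ := ih y
    exact ⟨z, act_pow_succ_apply d W a n z⟩

lemma act_sum_apply (W : Opens S) {ι : Type*} (s : Finset ι) (a : ι → Γ(S, ⊤))
    (x : P.obj (op W)) : d.act W (∑ i ∈ s, a i) x = ∑ i ∈ s, d.act W (a i) x := by
  rw [map_sum]
  exact AddMonoidHom.finset_sum_apply _ _ _

/-- if `D(e) ≤ D(c)` then `c` acts injectively on `P(D(e))` -/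
lemma act_injective_of_le (c e : Γ(S, ⊤)) (h : S.basicOpen e ≤ S.basicOpen c) :
    Function.Injective (d.act (S.basicOpen e) c) := by
  have h' : S.basicOpen e ≤ ⨆ _ : Unit, S.basicOpen c := by
    rw [iSup_const]
    exact h
  obtain ⟨N, w, hw⟩ := exists_pow_eq_sum e (fun _ : Unit => c) h' 1
  rw [Fintype.sum_unique, pow_one] at hw
  have hinj := act_pow_injective d _ e (d.bij e).1 N
  intro x y hxy
  apply hinj
  rw [hw, act_mul_apply, act_mul_apply, hxy]

/-- raising the exponent in the surjectivity property -/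
lemma surj_ge (c : Γ(S, ⊤)) (y : P.obj (op (S.basicOpen c))) :
    ∃ n₀ : ℕ, ∀ n, n₀ ≤ n → ∃ x : P.obj (op ⊤), res P le_top x = d.act _ (c ^ n) y := by
  obtain ⟨n₀, x, hx⟩ := d.surj c y
  refine ⟨n₀, fun n hn => ?_⟩
  obtain ⟨k, rfl⟩ := Nat.exists_eq_add_of_le hn
  refine ⟨d.act ⊤ (c ^ k) x, ?_⟩
  rw [d.act_res, hx, add_comm, act_pow_add_apply]

/-- raising the exponent in the injectivity property -/
lemma inj_ge (c : Γ(S, ⊤)) (x : P.obj (op ⊤))
    (hx : res P (le_top : S.basicOpen c ≤ ⊤) x = 0) :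
    ∃ n₀ : ℕ, ∀ n, n₀ ≤ n → d.act ⊤ (c ^ n) x = 0 := by
  obtain ⟨n₀, hn₀⟩ := d.inj c x hx
  refine ⟨n₀, fun n hn => ?_⟩
  obtain ⟨k, rfl⟩ := Nat.exists_eq_add_of_le hn
  rw [add_comm, act_pow_add_apply, hn₀, map_zero]

end Data

end SheafBasis

namespace SheafBasis

variable {S : Scheme.{u}} [IsAffine S] {P : (Opens S)ᵒᵖ ⥤ AddCommGrpCat.{u}} (d : Data P)

/-- refine an open cover of a basic open `D(c)` to a finite cover by basic opens -/
lemma exists_finite_basic_cover (c : Γ(S, ⊤)) (Q : Opens S → Prop)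
    (hQ : ∀ p ∈ S.basicOpen c, ∃ W : Opens S, W ≤ S.basicOpen c ∧ p ∈ W ∧ Q W)
    (hQmono : ∀ W W' : Opens S, W' ≤ W → Q W → Q W') :
    ∃ (n : ℕ) (e : Fin n → Γ(S, ⊤)), (∀ i, S.basicOpen (e i) ≤ S.basicOpen c) ∧
      (∀ i, Q (S.basicOpen (e i))) ∧ S.basicOpen c ≤ ⨆ i, S.basicOpen (e i) := by
  classical
  have key : ∀ p : S.basicOpen c, ∃ e : Γ(S, ⊤), p.1 ∈ S.basicOpen e ∧
      S.basicOpen e ≤ S.basicOpen c ∧ Q (S.basicOpen e) := by
    intro p
    obtain ⟨W, hW, hpW, hQW⟩ := hQ p.1 p.2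
    obtain ⟨_, ⟨e, rfl⟩, hpe, heW⟩ := Opens.isBasis_iff_nbhd.mp (isBasis_basicOpen S) hpW
    exact ⟨e, hpe, heW.trans hW, hQmono W _ heW hQW⟩
  choose e hpe hec hQe using key
  have hcomp : IsCompact ((S.basicOpen c : Opens S) : Set S) :=
    ((isAffineOpen_top S).basicOpen c).isCompact
  obtain ⟨t, ht⟩ := hcomp.elim_finite_subcover (fun p : S.basicOpen c => (S.basicOpen (e p) : Set S))
    (fun p => (S.basicOpen (e p)).isOpen)
    (fun y hy => Set.mem_iUnion.mpr ⟨⟨y, hy⟩, hpe ⟨y, hy⟩⟩)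
  let eq := t.equivFin
  refine ⟨t.card, fun i => e (eq.symm i).1, fun i => hec _, fun i => hQe _, ?_⟩
  intro y hy
  obtain ⟨p, hpt, hyp⟩ := Set.mem_iUnion₂.mp (ht hy)
  refine Opens.mem_iSup.mpr ⟨eq ⟨p, hpt⟩, ?_⟩
  change y ∈ S.basicOpen (e (eq.symm (eq ⟨p, hpt⟩)).1)
  rw [Equiv.symm_apply_apply]
  exact hyp

include d in
/-- Over a basic open, a section of `P` which is locally zero is zero. -/
theorem eq_zero_of_locally_zero (c : Γ(S, ⊤)) (y : P.obj (op (S.basicOpen c)))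
    (hloc : ∀ p ∈ S.basicOpen c, ∃ (W : Opens S) (hW : W ≤ S.basicOpen c), p ∈ W ∧
      res P hW y = 0) : y = 0 := by
  classical
  obtain ⟨n, e, hec, hQe, hcov⟩ := exists_finite_basic_cover c
    (fun W => ∃ hW : W ≤ S.basicOpen c, res P hW y = 0)
    (fun p hp => by
      obtain ⟨W, hW, hpW, hy⟩ := hloc p hp
      exact ⟨W, hW, hpW, hW, hy⟩)
    (fun W W' hWW' ⟨hW, hy⟩ => ⟨hWW'.trans hW, by rw [← res_res P hW hWW', hy, map_zero]⟩)
  -- write `c^k y` as a restriction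
  obtain ⟨k, x₀, hx₀⟩ := d.surj c y
  -- `x₀` restricts to zero on each `D(e i)`
  have h1 : ∀ i, res P (le_top : S.basicOpen (e i) ≤ ⊤) x₀ = 0 := by
    intro i
    obtain ⟨hW, hy⟩ := hQe i
    rw [← res_res P (le_top : S.basicOpen c ≤ ⊤) (hec i), hx₀, d.act_res, hy, map_zero]
  -- uniform exponent
  have h2 : ∀ i, ∃ m₀ : ℕ, ∀ m, m₀ ≤ m → d.act ⊤ (e i ^ m) x₀ = 0 := fun i =>
    d.inj_ge (e i) x₀ (h1 i)
  choose m₀ hm₀ using h2
  let m := Finset.univ.sup m₀
  have h3 : ∀ i, d.act ⊤ (e i ^ m) x₀ = 0 := fun i =>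
    hm₀ i m (Finset.le_sup (Finset.mem_univ i))
  obtain ⟨N, w, hw⟩ := exists_pow_eq_sum c e hcov m
  have h4 : d.act ⊤ (c ^ N) x₀ = 0 := by
    rw [hw, d.act_sum_apply]
    apply Finset.sum_eq_zero
    intro i _
    rw [d.act_mul_apply, h3, map_zero]
  have h5 : d.act (S.basicOpen c) (c ^ (N + k)) y = 0 := by
    rw [d.act_pow_add_apply, ← hx₀, ← d.act_res, h4, map_zero]
  exact d.act_pow_injective _ c (d.bij c).1 (N + k) (h5.trans (map_zero _).symm)

end SheafBasis
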