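import Mathlib
import Groth.Agent.Lib.SheafBasis2_helper9

/-!
# Sheafification of a presheaf with the localization property on an affine scheme (helper9)

Part 3: a locally bijective map from `P` to a sheaf is bijective on sections over basic opens.
APPEND-ONLY once landed.
-/

set_option autoImplicit false

universe u

open CategoryTheory CategoryTheory.Limits AlgebraicGeometry Opposite TopologicalSpace

namespace SheafBasis

variable {S : Scheme.{u}} [IsAffine S] {P : (Opens S)ᵒᵖ ⥤ AddCommGrpCat.{u}} (d : Data P)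
  (G : TopCat.Sheaf AddCommGrpCat.{u} S.toTopCat) (φ : P ⟶ G.obj)

/-- local injectivity, in elementary form -/
def LocInj : Prop :=
  ∀ (W : Opens S) (x : P.obj (op W)), φ.app (op W) x = 0 → ∀ p ∈ W,
    ∃ (W' : Opens S) (h : W' ≤ W), p ∈ W' ∧ res P h x = 0

/-- local surjectivity, in elementary form -/
def LocSurj : Prop :=
  ∀ (W : Opens S) (t : G.obj.obj (op W)), ∀ p ∈ W,
    ∃ (W' : Opens S) (h : W' ≤ W), p ∈ W' ∧ ∃ y : P.obj (op W'),
      φ.app (op W') y = G.obj.map (homOfLE h).op t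

variable {G φ}

lemma app_res {W W' : Opens S} (h : W' ≤ W) (x : P.obj (op W)) :
    φ.app (op W') (res P h x) = G.obj.map (homOfLE h).op (φ.app (op W) x) :=
  NatTrans.naturality_apply φ (homOfLE h).op x

lemma Gres_res {W W' W'' : Opens S} (h : W' ≤ W) (h' : W'' ≤ W') (t : G.obj.obj (op W)) :
    G.obj.map (homOfLE h').op (G.obj.map (homOfLE h).op t) =
      G.obj.map (homOfLE (h'.trans h)).op t := by
  change (G.obj.map (homOfLE h).op ≫ G.obj.map (homOfLE h').op).hom t = _
  rw [← G.obj.map_comp]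
  rfl

include d in
theorem app_injective (hinj : LocInj G φ) (c : Γ(S, ⊤)) :
    Function.Injective (φ.app (op (S.basicOpen c))) := by
  intro y y' hyy
  have h0 : φ.app (op (S.basicOpen c)) (y - y') = 0 := by
    rw [map_sub, hyy, sub_self]
  have := eq_zero_of_locally_zero d c (y - y') (fun p hp => hinj _ _ h0 p hp)
  exact sub_eq_zero.mp this

end SheafBasis

namespace SheafBasis

variable {S : Scheme.{u}} [IsAffine S] {P : (Opens S)ᵒᵖ ⥤ AddCommGrpCat.{u}} (d : Data P)
  {G : TopCat.Sheaf AddCommGrpCat.{u} S.toTopCat} {φ : P ⟶ G.obj}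

lemma basicOpen_mul_le_left (a b : Γ(S, ⊤)) : S.basicOpen (a * b) ≤ S.basicOpen a := by
  rw [Scheme.basicOpen_mul]
  exact inf_le_left

lemma basicOpen_mul_le_right (a b : Γ(S, ⊤)) : S.basicOpen (a * b) ≤ S.basicOpen b := by
  rw [Scheme.basicOpen_mul]
  exact inf_le_right

include d in
theorem app_surjective (hinj : LocInj G φ) (hsurj : LocSurj G φ) (c : Γ(S, ⊤)) :
    Function.Surjective (φ.app (op (S.basicOpen c))) := by
  classical
  intro t
  -- step 1: a finite basic cover on which `t` lifts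
  obtain ⟨n, e, hec, hQe, hcov⟩ := exists_finite_basic_cover c
    (fun W => ∃ (hW : W ≤ S.basicOpen c) (y : P.obj (op W)),
      φ.app (op W) y = G.obj.map (homOfLE hW).op t)
    (fun p hp => by
      obtain ⟨W, hW, hpW, y, hy⟩ := hsurj _ t p hp
      exact ⟨W, hW, hpW, hW, y, hy⟩)
    (fun W W' hWW' ⟨hW, y, hy⟩ => ⟨hWW'.trans hW, res P hWW' y, by
      rw [app_res, hy, Gres_res]⟩)
  choose hW y hy using hQe
  -- step 2: write `e_i^k y_i` as restrictions of global sections, uniform `k`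
  have h2 : ∀ i, ∃ k₀ : ℕ, ∀ k, k₀ ≤ k → ∃ x : P.obj (op ⊤),
      res P le_top x = d.act _ (e i ^ k) (y i) := fun i => d.surj_ge (e i) (y i)
  choose k₀ hk₀ using h2
  let k := Finset.univ.sup k₀
  have h2' : ∀ i, ∃ x : P.obj (op ⊤), res P le_top x = d.act _ (e i ^ k) (y i) := fun i =>
    hk₀ i k (Finset.le_sup (Finset.mem_univ i))
  choose x hx using h2'
  -- step 3: agreement on overlaps
  have h3 : ∀ i j, res P (basicOpen_mul_le_left (e i) (e j)) (y i) =
      res P (basicOpen_mul_le_right (e i) (e j)) (y j) := by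
    intro i j
    apply app_injective d hinj (e i * e j)
    rw [app_res, app_res, hy, hy, Gres_res, Gres_res]
  have h3' : ∀ i j, res P (le_top : S.basicOpen (e i * e j) ≤ ⊤)
      (d.act ⊤ (e j ^ k) (x i) - d.act ⊤ (e i ^ k) (x j)) = 0 := by
    intro i j
    rw [map_sub, sub_eq_zero, d.act_res, d.act_res,
      ← res_res P (le_top : S.basicOpen (e i) ≤ ⊤) (basicOpen_mul_le_left (e i) (e j)),
      ← res_res P (le_top : S.basicOpen (e j) ≤ ⊤) (basicOpen_mul_le_right (e i) (e j)),
      hx, hx, d.act_res, d.act_res, h3 i j, d.act_comm]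
  have h4 : ∀ i j, ∃ m₀ : ℕ, ∀ m, m₀ ≤ m → d.act ⊤ ((e i * e j) ^ m)
      (d.act ⊤ (e j ^ k) (x i) - d.act ⊤ (e i ^ k) (x j)) = 0 := fun i j =>
    d.inj_ge (e i * e j) _ (h3' i j)
  choose m₀ hm₀ using h4
  let m := Finset.univ.sup fun i => Finset.univ.sup fun j => m₀ i j
  have h4' : ∀ i j, d.act ⊤ ((e i * e j) ^ m)
      (d.act ⊤ (e j ^ k) (x i) - d.act ⊤ (e i ^ k) (x j)) = 0 := by
    intro i j
    apply hm₀ i j m
    exact (Finset.le_sup (f := fun j => m₀ i j) (Finset.mem_univ j)).trans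
      (Finset.le_sup (f := fun i => Finset.univ.sup fun j => m₀ i j) (Finset.mem_univ i))
  -- step 4: modified sections
  let x' : Fin n → P.obj (op ⊤) := fun i => d.act ⊤ (e i ^ m) (x i)
  have F1 : ∀ i, res P (le_top : S.basicOpen (e i) ≤ ⊤) (x' i) =
      d.act _ (e i ^ (m + k)) (y i) := by
    intro i
    rw [d.act_res, hx, ← d.act_pow_add_apply]
  have F2 : ∀ i j, d.act ⊤ (e j ^ (m + k)) (x' i) = d.act ⊤ (e i ^ (m + k)) (x' j) := by
    intro i j
    have := h4' i j
    rw [map_sub, sub_eq_zero, ← d.act_mul_apply, ← d.act_mul_apply] at this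
    change d.act ⊤ (e j ^ (m + k)) (d.act ⊤ (e i ^ m) (x i)) =
      d.act ⊤ (e i ^ (m + k)) (d.act ⊤ (e j ^ m) (x j))
    rw [← d.act_mul_apply, ← d.act_mul_apply]
    have e1 : e j ^ (m + k) * e i ^ m = (e i * e j) ^ m * e j ^ k := by ring
    have e2 : e i ^ (m + k) * e j ^ m = (e i * e j) ^ m * e i ^ k := by ring
    rw [e1, e2]
    exact this
  -- step 5: glue
  obtain ⟨N, w, hw⟩ := exists_pow_eq_sum c e hcov (m + k)
  let X : P.obj (op ⊤) := ∑ i, d.act ⊤ (w i) (x' i)
  have F3 : ∀ j, d.act ⊤ (e j ^ (m + k)) X = d.act ⊤ (c ^ N) (x' j) := by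
    intro j
    change d.act ⊤ (e j ^ (m + k)) (∑ i, d.act ⊤ (w i) (x' i)) = _
    rw [map_sum, hw, d.act_sum_apply]
    apply Finset.sum_congr rfl
    intro i _
    rw [d.act_comm, F2 i j, d.act_mul_apply]
  obtain ⟨y₀, hy₀⟩ := d.act_pow_surjective _ c (d.bij c).2 N (res P le_top X)
  refine ⟨y₀, ?_⟩
  -- step 7: check locally
  apply TopCat.Presheaf.IsSheaf.section_ext G.cond
  intro p hp
  obtain ⟨j, hj⟩ := Opens.mem_iSup.mp (hcov hp)
  refine ⟨S.basicOpen (e j), hec j, hj, ?_⟩
  have key : res P (hec j) y₀ = y j := by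
    apply d.act_pow_injective _ c (d.act_injective_of_le c (e j) (hec j)) N
    apply d.act_pow_injective _ (e j) (d.bij (e j)).1 (m + k)
    have s1 : d.act (S.basicOpen (e j)) (c ^ N) (res P (hec j) y₀) =
        res P (le_top : S.basicOpen (e j) ≤ ⊤) X := by
      rw [← d.act_res, hy₀, res_res]
    have s2 : d.act (S.basicOpen (e j)) (e j ^ (m + k))
        (res P (le_top : S.basicOpen (e j) ≤ ⊤) X) =
        d.act (S.basicOpen (e j)) (c ^ N) (d.act (S.basicOpen (e j)) (e j ^ (m + k)) (y j)) := by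
      rw [← d.act_res, F3, d.act_res, F1]
    change d.act (S.basicOpen (e j)) (e j ^ (m + k))
        (d.act (S.basicOpen (e j)) (c ^ N) (res P (hec j) y₀)) =
      d.act (S.basicOpen (e j)) (e j ^ (m + k)) (d.act (S.basicOpen (e j)) (c ^ N) (y j))
    rw [s1, s2, d.act_comm]
  have := app_res (φ := φ) (hec j) y₀
  rw [key, hy] at this
  exact this.symm
  
end SheafBasis
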