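import Mathlib
import Groth.Agent.Lib.BasicLoc6_helper9
import Groth.Agent.Lib.SheafBasis3_helper9
import Groth.Agent.Lib.RpushSheafify_helper9
import Groth.Agent.Lib.CechAffine_helper2

/-!
# Global sections of `R^q f_* M` over an affine base (helper9)

For `f : X ⟶ S` qcqs with `S` affine and `M` quasi-coherent on `X`:
the presheaf `P_q : V ↦ H^q(f⁻¹ V, M)` carries a `SheafBasis.Data`, so `P_q(S) → P_q^♯(S)` is
bijective, and `R^q f_* M ≅ P_q^♯`.
APPEND-ONLY once landed.
-/

set_option autoImplicit false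

universe u

open CategoryTheory CategoryTheory.Limits AlgebraicGeometry Opposite TopologicalSpace
open CategoryTheory.Abelian QcqsLoc
open Groth.Agent.Lib.FreeSheaf

namespace ExtPre

variable {C : Type*} [Category C] [Abelian C] [HasExt.{u} C]

lemma post_add (Z : C) {G G' : C} (φ ψ : G ⟶ G') (q : ℕ) (x : Ext.{u} Z G q) :
    post Z (φ + ψ) q x = post Z φ q x + post Z ψ q x := by
  rw [post_apply, post_apply, post_apply, Ext.mk₀_add, Ext.comp_add]

lemma post_zero (Z : C) {G G' : C} (q : ℕ) (x : Ext.{u} Z G q) :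
    post Z (0 : G ⟶ G') q x = 0 := by
  rw [post_apply, Ext.mk₀_zero, Ext.comp_zero]

end ExtPre

namespace RpushAffine

open BasicLoc

lemma sm_zero {Y : Scheme.{u}} (L : Y.Modules) : sm L 0 = 0 := Coh.smulAb_zero L

lemma sm_add {Y : Scheme.{u}} (L : Y.Modules) (a b : Γ(Y, ⊤)) : sm L (a + b) = sm L a + sm L b :=
  Coh.smulAb_add L a b

variable {X S : Scheme.{u}} (f : X ⟶ S) (M : X.Modules) (q : ℕ)

/-- the presheaf `V ↦ H^q(f⁻¹ V, M)` -/
noncomputable abbrev PP : (Opens S)ᵒᵖ ⥤ AddCommGrpCat.{u} :=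
  (Opens.map f.base).op ⋙ Sheaf.cohomologyPresheaf.{u} (Coh.toAb M) q

/-- the action of a function on the base -/
noncomputable def actHom (W : Opens S) (a : Γ(S, ⊤)) :
    Ext.{u} (frX (f ⁻¹ᵁ W)) (Coh.toAb M) q →+ Ext.{u} (frX (f ⁻¹ᵁ W)) (Coh.toAb M) q :=
  ExtPre.post _ (sm M (f.appTop.hom a)) q

/-- the action, as a ring homomorphism -/
noncomputable def act (W : Opens S) : Γ(S, ⊤) →+* AddMonoid.End ((PP f M q).obj (op W)) where
  toFun a := actHom f M q W a
  map_one' := by
    apply AddMonoidHom.ext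
    intro x
    change ExtPre.post _ (sm M (f.appTop.hom 1)) q x = x
    rw [map_one, sm_one, ExtPre.post_id]
  map_mul' a b := by
    apply AddMonoidHom.ext
    intro x
    change ExtPre.post _ (sm M (f.appTop.hom (a * b))) q x =
      ExtPre.post _ (sm M (f.appTop.hom a)) q (ExtPre.post _ (sm M (f.appTop.hom b)) q x)
    rw [map_mul, sm_mul, ExtPre.post_comp]
  map_zero' := by
    apply AddMonoidHom.ext
    intro x
    change ExtPre.post _ (sm M (f.appTop.hom 0)) q x = 0
    rw [map_zero, sm_zero, ExtPre.post_zero]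
  map_add' a b := by
    apply AddMonoidHom.ext
    intro x
    change ExtPre.post _ (sm M (f.appTop.hom (a + b))) q x =
      ExtPre.post _ (sm M (f.appTop.hom a)) q x + ExtPre.post _ (sm M (f.appTop.hom b)) q x
    rw [map_add, sm_add, ExtPre.post_add]

lemma act_apply (W : Opens S) (a : Γ(S, ⊤)) (x : (PP f M q).obj (op W)) :
    act f M q W a x = ExtPre.post (frX (f ⁻¹ᵁ W)) (sm M (f.appTop.hom a)) q x := rfl

lemma res_eq {W W' : Opens S} (h : W' ≤ W) (x : (PP f M q).obj (op W)) :
    SheafBasis.res (PP f M q) h x =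
      ExtPre.pre (freeSheafMap (Opens.grothendieckTopology X.toTopCat)
        ((Opens.map f.base).map (homOfLE h))) q x := rfl

end RpushAffine

namespace RpushAffine

open BasicLoc

variable {X S : Scheme.{u}} (f : X ⟶ S) (M : X.Modules) (q : ℕ)

section transport

variable [CompactSpace X] [QuasiSeparatedSpace X] [M.IsQuasicoherent]

lemma surj_of_eq (g : Γ(X, ⊤)) (U : X.Opens) (hU : U = X.basicOpen g) (h : U ≤ ⊤)
    (y : Ext.{u} (frX U) (Coh.toAb M) q) :
    ∃ (n : ℕ) (x : Ext.{u} (frX (⊤ : X.Opens)) (Coh.toAb M) q),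
      ExtPre.pre (freeSheafMap (Opens.grothendieckTopology X.toTopCat) (homOfLE h)) q x =
        ExtPre.post _ (sm M (g ^ n)) q y := by
  subst hU
  exact rho_surj g M q y

lemma inj_of_eq (g : Γ(X, ⊤)) (U : X.Opens) (hU : U = X.basicOpen g) (h : U ≤ ⊤)
    (x : Ext.{u} (frX (⊤ : X.Opens)) (Coh.toAb M) q)
    (hx : ExtPre.pre (freeSheafMap (Opens.grothendieckTopology X.toTopCat) (homOfLE h)) q x = 0) :
    ∃ n : ℕ, ExtPre.post _ (sm M (g ^ n)) q x = 0 := by
  subst hU
  exact rho_inj g M q x hx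

lemma bij_of_eq (g : Γ(X, ⊤)) (U : X.Opens) (hU : U = X.basicOpen g) :
    Function.Bijective (ExtPre.post (frX U) (sm M g) q) := by
  subst hU
  exact smul_bijective g M q

end transport

variable [CompactSpace X] [QuasiSeparatedSpace X] [M.IsQuasicoherent]

/-- the localization data on `V ↦ H^q(f⁻¹ V, M)` -/
noncomputable def data [IsAffine S] : SheafBasis.Data (PP f M q) where
  act := act f M q
  act_res h a x := by
    rw [res_eq, res_eq, act_apply, act_apply]
    exact ExtPre.pre_post _ _ q x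
  surj c y := by
    obtain ⟨n, x, hx⟩ := surj_of_eq M q (f.appTop.hom c) (f ⁻¹ᵁ S.basicOpen c)
      (Scheme.preimage_basicOpen_top f c) le_top y
    refine ⟨n, x, ?_⟩
    rw [res_eq, act_apply, map_pow]
    exact hx
  inj c x hx := by
    obtain ⟨n, hn⟩ := inj_of_eq M q (f.appTop.hom c) (f ⁻¹ᵁ S.basicOpen c)
      (Scheme.preimage_basicOpen_top f c) le_top x hx
    refine ⟨n, ?_⟩
    rw [act_apply, map_pow]
    exact hn
  bij c := bij_of_eq M q (f.appTop.hom c) (f ⁻¹ᵁ S.basicOpen c)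
    (Scheme.preimage_basicOpen_top f c)

end RpushAffine

namespace RpushAffine

open BasicLoc

section sheafify

variable {S : Scheme.{u}} (P : (Opens S)ᵒᵖ ⥤ AddCommGrpCat.{u})

/-- the sheafification -/
noncomputable abbrev shP : TopCat.Sheaf AddCommGrpCat.{u} S.toTopCat :=
  (presheafToSheaf (Opens.grothendieckTopology S.toTopCat) AddCommGrpCat.{u}).obj P

/-- the unit of sheafification -/
noncomputable abbrev phi : P ⟶ (shP P).obj :=
  toSheafify (Opens.grothendieckTopology S.toTopCat) P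

lemma locInj : SheafBasis.LocInj (shP P) (phi P) := by
  intro W x hx p hp
  have h1 := Presheaf.equalizerSieve_mem (Opens.grothendieckTopology S.toTopCat) (phi P)
    (X := op W) x 0 (by rw [hx, map_zero])
  obtain ⟨V, g, hg, hpV⟩ := h1 p hp
  refine ⟨V, g.le, hpV, ?_⟩
  have h2 : P.map g.op x = P.map g.op 0 := hg
  rw [map_zero] at h2
  exact h2

lemma locSurj : SheafBasis.LocSurj (shP P) (phi P) := by
  intro W t p hp
  have h1 := Presheaf.imageSieve_mem (Opens.grothendieckTopology S.toTopCat) (phi P)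
    (U := op W) t
  obtain ⟨V, g, ⟨y, hy⟩, hpV⟩ := h1 p hp
  exact ⟨V, g.le, hpV, y, hy⟩

end sheafify

end RpushAffine

namespace RpushAffine

open BasicLoc

section top

variable {S : Scheme.{u}} [IsAffine S] {P : (Opens S)ᵒᵖ ⥤ AddCommGrpCat.{u}}

lemma bijective_of_eq {G : (Opens S)ᵒᵖ ⥤ AddCommGrpCat.{u}} (φ : P ⟶ G) {W W' : Opens S}
    (h : W = W') (hW : Function.Bijective (φ.app (op W))) :
    Function.Bijective (φ.app (op W')) := by
  subst h
  exact hW

theorem app_top_bijective (d : SheafBasis.Data P) :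
    Function.Bijective ((phi P).app (op ⊤)) := by
  have h1 : S.basicOpen (1 : Γ(S, ⊤)) = ⊤ := Scheme.basicOpen_of_isUnit _ isUnit_one
  exact bijective_of_eq (phi P) h1
    ⟨SheafBasis.app_injective d (locInj P) 1, SheafBasis.app_surjective d (locInj P) (locSurj P) 1⟩

end top

theorem main {X S : Scheme.{u}} (f : X ⟶ S) [QuasiCompact f] [QuasiSeparated f] [IsAffine S]
    (M : X.Modules) [M.IsQuasicoherent] (q : ℕ) :
    Nonempty (Coh.HH X M q ≃+ ↑(((Coh.RpushAb f q).obj (Coh.toAb M)).obj.obj (op ⊤))) := by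
  haveI : CompactSpace X := QuasiCompact.compactSpace_of_compactSpace f
  haveI : QuasiSeparatedSpace X := quasiSeparatedSpace_of_quasiSeparated f
  obtain ⟨e⟩ := RpushSheafify.main f.base (Coh.toAb M) q
  have hb := app_top_bijective (data f M q)
  let e1 : Ext.{u} (frX (⊤ : X.Opens)) (Coh.toAb M) q ≃+ Coh.HH X M q :=
    Groth.Agent.Lib.Cech.extTopEquiv (Coh.toAb M) q
  let e2 : Ext.{u} (frX (⊤ : X.Opens)) (Coh.toAb M) q ≃+
      ((shP (PP f M q)).obj.obj (op ⊤) : Type u) :=
    AddEquiv.ofBijective ((phi (PP f M q)).app (op ⊤)).hom hb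
  let e3 : ((shP (PP f M q)).obj.obj (op ⊤) : Type u) ≃+
      ↑(((Coh.RpushAb f q).obj (Coh.toAb M)).obj.obj (op ⊤)) :=
    (((sheafSections (Opens.grothendieckTopology S.toTopCat) AddCommGrpCat.{u}).obj
      (op ⊤)).mapIso e.symm).addCommGroupIsoToAddEquiv
  exact ⟨e1.symm.trans (e2.trans e3)⟩

end RpushAffine
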