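import Mathlib
import Groth.Agent.Lib.RestrNat1_helper9
import Groth.Agent.Lib.RpushAffine1_helper9
import Groth.Agent.Lib.ExcisionNat_helper9

/-!
# Restricting the presheaf `W ↦ H^q(f⁻¹ W, M)` to an open of the base (helper9)

For `f : X ⟶ Y`, `V ⊆ Y` open, `U = f⁻¹ V`: the presheaf `W' ↦ Ext_X(ℤ_{f⁻¹ W'}, M)` on `V` is
isomorphic to `W' ↦ Ext_U(ℤ_{f_V⁻¹ W'}, M|_U)`.
APPEND-ONLY once landed.
-/

set_option autoImplicit false

universe u

open CategoryTheory CategoryTheory.Limits AlgebraicGeometry Opposite TopologicalSpace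

namespace RestrNat

open RpushSheafify

variable {X Y : Scheme.{u}} (f : X ⟶ Y) (V : Y.Opens)

example : (TopCat.of ↥(f ⁻¹ᵁ V : Opens X.toTopCat)) = ((f ⁻¹ᵁ V : X.Opens) : Scheme.{u}).toTopCat := rfl

/-- the functor `W' ↦ ℤ_{f⁻¹ W'}` on the opens of `V`, with values in sheaves on `X` -/
noncomputable abbrev Z1 : (V : Scheme.{u}).Opens ⥤ CohTop.Ab X.toTopCat :=
  V.ι.opensFunctor ⋙ Opens.map f.base ⋙ frF X.toTopCat

/-- the functor `W' ↦ ℤ_{f_V⁻¹ W'}` on the opens of `V`, with values in sheaves on `U` -/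
noncomputable abbrev Z2 : (V : Scheme.{u}).Opens ⥤
    CohTop.Ab ((f ⁻¹ᵁ V : X.Opens) : Scheme.{u}).toTopCat :=
  Opens.map (f ∣_ V).base ⋙ frF _

/-- restriction to `U = f⁻¹ V` -/
noncomputable abbrev GG : CohTop.Ab X.toTopCat ⥤
    CohTop.Ab ((f ⁻¹ᵁ V : X.Opens) : Scheme.{u}).toTopCat :=
  CohTop.restrFunctor (f ⁻¹ᵁ V : Opens X.toTopCat)

/-- `Phi` of a composite -/
noncomputable def phiComp {C : Type*} [Category C] [Abelian C] {D D' : Type*} [Category D]
    [Category D'] (A : D' ⥤ D) (Z : D ⥤ C) :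
    PreshExt.Phi (A ⋙ Z) ≅ PreshExt.Phi Z ⋙ (Functor.whiskeringLeft _ _ _).obj A.op :=
  Iso.refl _

end RestrNat

namespace RestrNat

open RpushSheafify

variable {X Y : Scheme.{u}} (f : X ⟶ Y) (V : Y.Opens)

lemma img_eq (W' : (V : Scheme.{u}).Opens) :
    (Opens.map f.base).obj (V.ι.opensFunctor.obj W') =
      (f ⁻¹ᵁ V : Opens X.toTopCat).isOpenEmbedding.isOpenMap.functor.obj
        ((Opens.map (f ∣_ V).base).obj W') :=
  (image_morphismRestrict_preimage f V W').symm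

/-- sections over `f⁻¹(V.ι W')` and over `U.ι (f_V⁻¹ W')` -/
noncomputable def mid :
    (CohTop.push f.base ⋙ iota Y.toTopCat) ⋙
        (Functor.whiskeringLeft _ _ _).obj V.ι.opensFunctor.op ≅
      GG f V ⋙ (CohTop.push (f ∣_ V).base ⋙ iota (V : Scheme.{u}).toTopCat) :=
  NatIso.ofComponents (fun K => NatIso.ofComponents
    (fun W' => K.obj.mapIso (eqToIso (congrArg op (img_eq f V W'.unop))))
    (fun {W₁ W₂} m => by
      change K.obj.map _ ≫ K.obj.map _ = K.obj.map _ ≫ K.obj.map _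
      rw [← K.obj.map_comp, ← K.obj.map_comp]
      exact congrArg _ (Subsingleton.elim _ _)))
    (fun {K K'} φ => by
      ext W' : 2
      change φ.hom.app _ ≫ K'.obj.map _ = K.obj.map _ ≫ φ.hom.app _
      exact (φ.hom.naturality _).symm)

end RestrNat

namespace RestrNat

open RpushSheafify

variable {X Y : Scheme.{u}} (f : X ⟶ Y) (V : Y.Opens)

instance : (GG f V).Additive :=
  inferInstanceAs (CohTop.restrFunctor (f ⁻¹ᵁ V : Opens X.toTopCat)).Additive

instance : PreservesFiniteLimits (GG f V) :=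
  inferInstanceAs (PreservesFiniteLimits (CohTop.restrFunctor (f ⁻¹ᵁ V : Opens X.toTopCat)))

instance : PreservesFiniteColimits (GG f V) :=
  inferInstanceAs (PreservesFiniteColimits (CohTop.restrFunctor (f ⁻¹ᵁ V : Opens X.toTopCat)))

/-- the natural isomorphism of `Hom` presheaves -/
noncomputable def theta : PreshExt.Phi (Z1 f V) ≅ GG f V ⋙ PreshExt.Phi (Z2 f V) :=
  phiComp V.ι.opensFunctor (Opens.map f.base ⋙ frF X.toTopCat) ≪≫
  Functor.isoWhiskerRight (thetaPush f.base)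
    ((Functor.whiskeringLeft _ _ _).obj V.ι.opensFunctor.op) ≪≫
  mid f V ≪≫
  Functor.isoWhiskerLeft (GG f V) (thetaPush (f ∣_ V).base).symm

/-- the isomorphism of `Ext` presheaves on `V` -/
noncomputable def presheafIso (K : CohTop.Ab X.toTopCat) (q : ℕ) :
    PreshExt.E (Z1 f V) K q ≅ PreshExt.E (Z2 f V) ((GG f V).obj K) q :=
  EIso (GG f V) (fun I hI => ExcisionNat.injective_restr I hI) (Z1 f V) (Z2 f V) (theta f V) K q

/-- the underlying abelian sheaf of the restricted module -/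
noncomputable def kappa (M : X.Modules) :
    (GG f V).obj (Coh.toAb M) ≅ Coh.toAb (M.restrict (f ⁻¹ᵁ V).ι) :=
  Iso.refl _

end RestrNat

namespace RestrNat

open RpushSheafify

variable {X Y : Scheme.{u}} (f : X ⟶ Y) (V : Y.Opens)

/-- the restriction of `W ↦ Ext(ℤ_{f⁻¹ W}, M)` to the opens of `V`, in `PreshExt` form -/
noncomputable def resE (M : X.Modules) (q : ℕ) :
    V.ι.opensFunctor.op ⋙ RpushAffine.PP f M q ≅ PreshExt.E (Z1 f V) (Coh.toAb M) q :=
  NatIso.ofComponents (fun _ => Iso.refl _)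
    (fun m => (Category.comp_id _).trans (Category.id_comp _).symm)

/-- **The restriction of `W ↦ H^q(f⁻¹ W, M)` to `V` is `W' ↦ H^q(f_V⁻¹ W', M|_{f⁻¹ V})`.** -/
noncomputable def resPP (M : X.Modules) (q : ℕ) :
    V.ι.opensFunctor.op ⋙ RpushAffine.PP f M q ≅
      RpushAffine.PP (f ∣_ V) (M.restrict (f ⁻¹ᵁ V).ι) q :=
  resE f V M q ≪≫ presheafIso f V (Coh.toAb M) q ≪≫ EMapIso (Z2 f V) (kappa f V M) q ≪≫
    Eiso (f ∣_ V).base (Coh.toAb (M.restrict (f ⁻¹ᵁ V).ι)) q

end RestrNat
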