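import Mathlib
import Groth.Agent.Lib.SheafBasis3_helper9

/-!
# Transporting localization data along an isomorphism of presheaves (helper9)
APPEND-ONLY once landed.
-/

set_option autoImplicit false

universe u

open CategoryTheory CategoryTheory.Limits AlgebraicGeometry Opposite TopologicalSpace

namespace SheafBasis

/-- conjugation of endomorphisms by an additive equivalence -/
def conjEnd {A B : Type*} [AddCommGroup A] [AddCommGroup B] (e : A ≃+ B) :
    AddMonoid.End B →+* AddMonoid.End A where
  toFun g := (e.symm.toAddMonoidHom.comp g).comp e.toAddMonoidHom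
  map_one' := by
    apply AddMonoidHom.ext
    intro x
    change e.symm (e x) = x
    exact e.symm_apply_apply x
  map_mul' g h := by
    apply AddMonoidHom.ext
    intro x
    change e.symm (g (h (e x))) = e.symm (g (e (e.symm (h (e x)))))
    rw [e.apply_symm_apply]
  map_zero' := by
    apply AddMonoidHom.ext
    intro x
    change e.symm 0 = 0
    exact map_zero _
  map_add' g h := by
    apply AddMonoidHom.ext
    intro x
    change e.symm (g (e x) + h (e x)) = e.symm (g (e x)) + e.symm (h (e x))
    exact map_add _ _ _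

lemma conjEnd_apply {A B : Type*} [AddCommGroup A] [AddCommGroup B] (e : A ≃+ B)
    (g : AddMonoid.End B) (x : A) : conjEnd e g x = e.symm (g (e x)) := rfl

variable {S : Scheme.{u}} [IsAffine S] {P P' : (Opens S)ᵒᵖ ⥤ AddCommGrpCat.{u}}

/-- the additive equivalence on sections given by an isomorphism of presheaves -/
noncomputable def secEquiv (θ : P ≅ P') (W : Opens S) : P.obj (op W) ≃+ P'.obj (op W) :=
  (θ.app (op W)).addCommGroupIsoToAddEquiv

lemma secEquiv_apply (θ : P ≅ P') (W : Opens S) (x : P.obj (op W)) :
    secEquiv θ W x = θ.hom.app (op W) x := rfl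

lemma secEquiv_res (θ : P ≅ P') {W W' : Opens S} (h : W' ≤ W) (x : P.obj (op W)) :
    secEquiv θ W' (res P h x) = res P' h (secEquiv θ W x) :=
  NatTrans.naturality_apply θ.hom (homOfLE h).op x

lemma secEquiv_symm_res (θ : P ≅ P') {W W' : Opens S} (h : W' ≤ W) (y : P'.obj (op W)) :
    (secEquiv θ W').symm (res P' h y) = res P h ((secEquiv θ W).symm y) := by
  apply (secEquiv θ W').injective
  rw [AddEquiv.apply_symm_apply, secEquiv_res, AddEquiv.apply_symm_apply]

/-- transport of localization data along an isomorphism of presheaves -/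
noncomputable def Data.ofIso (θ : P ≅ P') (d : Data P') : Data P where
  act W := (conjEnd (secEquiv θ W)).comp (d.act W)
  act_res h a x := by
    change res P h ((secEquiv θ _).symm (d.act _ a (secEquiv θ _ x))) =
      (secEquiv θ _).symm (d.act _ a (secEquiv θ _ (res P h x)))
    rw [← secEquiv_symm_res, d.act_res, secEquiv_res]
  surj c y := by
    obtain ⟨n, x', hx'⟩ := d.surj c (secEquiv θ _ y)
    refine ⟨n, (secEquiv θ ⊤).symm x', ?_⟩
    change _ = (secEquiv θ _).symm (d.act _ (c ^ n) (secEquiv θ _ y))
    rw [← secEquiv_symm_res, hx']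
  inj c x hx := by
    have h1 : res P' (le_top : S.basicOpen c ≤ ⊤) (secEquiv θ ⊤ x) = 0 := by
      rw [← secEquiv_res, hx, map_zero]
    obtain ⟨n, hn⟩ := d.inj c (secEquiv θ ⊤ x) h1
    refine ⟨n, ?_⟩
    change (secEquiv θ ⊤).symm (d.act ⊤ (c ^ n) (secEquiv θ ⊤ x)) = 0
    rw [hn, map_zero]
  bij c := by
    have hb := d.bij c
    change Function.Bijective (fun x => (secEquiv θ _).symm (d.act _ c (secEquiv θ _ x)))
    exact (secEquiv θ _).symm.bijective.comp (hb.comp (secEquiv θ _).bijective)

end SheafBasis
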