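import Mathlib
import Groth.Agent.Lib.RestrNat2_helper9
import Groth.Agent.Lib.SheafBasis4_helper9

/-!
# `(R^q f_* M)(V) = H^q(f⁻¹ V, M)` for affine opens `V` of an arbitrary base (helper9)

For `f : X ⟶ Y` qcqs, `M` quasi-coherent and `P_q : W ↦ H^q(f⁻¹ W, M)`, the sheafification map
`P_q(V) → P_q^♯(V)` is bijective for every affine open `V` of `Y`.
APPEND-ONLY once landed.
-/

set_option autoImplicit false

universe u

open CategoryTheory CategoryTheory.Limits AlgebraicGeometry Opposite TopologicalSpace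

namespace RpushAffine

open SheafBasis

section general

variable {Y : Scheme.{u}} {P : (Opens Y)ᵒᵖ ⥤ AddCommGrpCat.{u}}
  {G : TopCat.Sheaf AddCommGrpCat.{u} Y.toTopCat} {φ : P ⟶ G.obj}

lemma res_res' (P : (Opens Y)ᵒᵖ ⥤ AddCommGrpCat.{u}) {W W' W'' : Opens Y} (h : W' ≤ W)
    (h' : W'' ≤ W') (x : P.obj (op W)) : res P h' (res P h x) = res P (h'.trans h) x := by
  change (P.map (homOfLE h).op ≫ P.map (homOfLE h').op).hom x = _
  rw [← P.map_comp]
  rfl

lemma app_res' {W W' : Opens Y} (h : W' ≤ W) (x : P.obj (op W)) :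
    φ.app (op W') (res P h x) = G.obj.map (homOfLE h).op (φ.app (op W) x) :=
  NatTrans.naturality_apply φ (homOfLE h).op x

lemma Gres_res' {W W' W'' : Opens Y} (h : W' ≤ W) (h' : W'' ≤ W') (t : G.obj.obj (op W)) :
    G.obj.map (homOfLE h').op (G.obj.map (homOfLE h).op t) =
      G.obj.map (homOfLE (h'.trans h)).op t := by
  change (G.obj.map (homOfLE h).op ≫ G.obj.map (homOfLE h').op).hom t = _
  rw [← G.obj.map_comp]
  rfl

variable (V : Y.Opens)

/-- the restriction of a sheaf on `Y` to the open subscheme `V` -/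
noncomputable abbrev restrSheaf (G : TopCat.Sheaf AddCommGrpCat.{u} Y.toTopCat) :
    TopCat.Sheaf AddCommGrpCat.{u} (V : Scheme.{u}).toTopCat :=
  (CohTop.restrFunctor (V : Opens Y.toTopCat)).obj G

/-- the restriction of a map from a presheaf to a sheaf -/
noncomputable abbrev restrMap (φ : P ⟶ G.obj) :
    V.ι.opensFunctor.op ⋙ P ⟶ (restrSheaf V G).obj :=
  Functor.whiskerLeft V.ι.opensFunctor.op φ

lemma image_preimage_le (W₁ : Opens Y) : V.ι ''ᵁ (V.ι ⁻¹ᵁ W₁) ≤ W₁ := by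
  rintro _ ⟨y, hy, rfl⟩
  exact hy

lemma preimage_le_of_le_image {W₁ : Opens Y} {W' : (V : Scheme.{u}).Opens}
    (h : W₁ ≤ V.ι ''ᵁ W') : V.ι ⁻¹ᵁ W₁ ≤ W' := by
  intro y hy
  obtain ⟨y', hy', hyy⟩ := h hy
  have : y' = y := V.ι.isOpenEmbedding.injective hyy
  rwa [← this]

lemma locInj_restr (h : LocInj G φ) : LocInj (restrSheaf V G) (restrMap V φ) := by
  intro W' x hx p hp
  obtain ⟨W₁, hW₁, hp₁, hx₁⟩ := h (V.ι ''ᵁ W') x hx (V.ι p) ⟨p, hp, rfl⟩
  refine ⟨V.ι ⁻¹ᵁ W₁, preimage_le_of_le_image V hW₁, hp₁, ?_⟩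
  change res P (V.ι.image_mono (preimage_le_of_le_image V hW₁)) x = 0
  rw [← res_res' P hW₁ (image_preimage_le V W₁), hx₁, map_zero]

lemma locSurj_restr (h : LocSurj G φ) : LocSurj (restrSheaf V G) (restrMap V φ) := by
  intro W' t p hp
  obtain ⟨W₁, hW₁, hp₁, y, hy⟩ := h (V.ι ''ᵁ W') t (V.ι p) ⟨p, hp, rfl⟩
  refine ⟨V.ι ⁻¹ᵁ W₁, preimage_le_of_le_image V hW₁, hp₁, res P (image_preimage_le V W₁) y, ?_⟩
  change φ.app (op (V.ι ''ᵁ (V.ι ⁻¹ᵁ W₁))) (res P (image_preimage_le V W₁) y) =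
    G.obj.map (homOfLE (V.ι.image_mono (preimage_le_of_le_image V hW₁))).op t
  rw [app_res', hy, Gres_res']

end general

end RpushAffine

namespace RpushAffine

open SheafBasis

lemma bijective_of_eq' {Y : Scheme.{u}} {P G : (Opens Y)ᵒᵖ ⥤ AddCommGrpCat.{u}} (φ : P ⟶ G)
    {W W' : Opens Y} (h : W = W') (hW : Function.Bijective (φ.app (op W))) :
    Function.Bijective (φ.app (op W')) := by
  subst h
  exact hW

/-- **`P_q(V) → P_q^♯(V)` is bijective for affine opens `V`.** -/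
theorem app_bijective_of_isAffineOpen {X Y : Scheme.{u}} (f : X ⟶ Y) [QuasiCompact f]
    [QuasiSeparated f] (M : X.Modules) [M.IsQuasicoherent] (q : ℕ) (V : Y.Opens)
    (hV : IsAffineOpen V) :
    Function.Bijective ((phi (PP f M q)).app (op V)) := by
  haveI : IsAffine (V : Scheme.{u}) := hV
  haveI : CompactSpace ((f ⁻¹ᵁ V : X.Opens) : Scheme.{u}) :=
    QuasiCompact.compactSpace_of_compactSpace (f ∣_ V)
  haveI : QuasiSeparatedSpace ((f ⁻¹ᵁ V : X.Opens) : Scheme.{u}) :=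
    quasiSeparatedSpace_of_quasiSeparated (f ∣_ V)
  haveI : (M.restrict (f ⁻¹ᵁ V).ι).IsQuasicoherent := inferInstance
  let d' : Data (V.ι.opensFunctor.op ⋙ PP f M q) :=
    Data.ofIso (RestrNat.resPP f V M q) (data (f ∣_ V) (M.restrict (f ⁻¹ᵁ V).ι) q)
  have hinj := locInj_restr V (locInj (PP f M q))
  have hsurj := locSurj_restr V (locSurj (PP f M q))
  have h1 : (V : Scheme.{u}).basicOpen (1 : Γ((V : Scheme.{u}), ⊤)) = ⊤ :=
    Scheme.basicOpen_of_isUnit _ isUnit_one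
  have hb : Function.Bijective ((restrMap V (phi (PP f M q))).app
      (op ((V : Scheme.{u}).basicOpen (1 : Γ((V : Scheme.{u}), ⊤))))) :=
    ⟨app_injective d' hinj 1, app_surjective d' hinj hsurj 1⟩
  have hb' : Function.Bijective ((phi (PP f M q)).app
      (op (V.ι ''ᵁ ((V : Scheme.{u}).basicOpen (1 : Γ((V : Scheme.{u}), ⊤)))))) := hb
  have h2 : V.ι ''ᵁ ((V : Scheme.{u}).basicOpen (1 : Γ((V : Scheme.{u}), ⊤))) = V := by
    rw [h1]
    exact Scheme.Opens.ι_image_top V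
  exact bijective_of_eq' (phi (PP f M q)) h2 hb'

end RpushAffine
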