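import Mathlib
import Groth.Prelude
import Groth.Agent.Lib.KRRReg2_helper9
import Groth.Agent.Lib.PnOverVan_helper9
import Groth.Agent.Lib.ResTens_helper9
import Groth.Agent.Lib.RpushAffine2_helper9
import Groth.Agent.Lib.CMReg2_helper9
import Groth.Agent.Lib.ProjSpaceProper_helper4

/-!
# Relative Castelnuovo–Mumford regularity on `P^n_T`: reduction to affine opens of `T` (helper9)
APPEND-ONLY once landed.
-/

set_option autoImplicit false

universe u

open CategoryTheory CategoryTheory.Limits AlgebraicGeometry Opposite TopologicalSpace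

namespace KRRRegH9

open RpushVanish (fr)
open CohB1 Groth.Agent.PnOver Groth.Agent.ProjTens

section General

variable {X Y : Scheme.{u}} (f : X ⟶ Y) [QuasiCompact f] [QuasiSeparated f]

/-- If `R^q f_* M = 0` then `H^q(f⁻¹ V, M) = 0` for every affine open `V` (`f` qcqs, `M`
quasi-coherent). -/
theorem ext_eq_zero_of_isZero_Rpush (M : X.Modules) [M.IsQuasicoherent] (q : ℕ)
    (h : IsZero ((Coh.RpushAb f q).obj (Coh.toAb M))) (V : Y.Opens) (hV : IsAffineOpen V)
    (ξ : Abelian.Ext (fr (Y := X.carrier) (f ⁻¹ᵁ V)) (Coh.toAb M) q) : ξ = 0 := by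
  obtain ⟨e⟩ := RpushSheafify.main f.base (Coh.toAb M) q
  have hz : IsZero (RpushAffine.shP (RpushAffine.PP f M q)) := h.of_iso e.symm
  have hb := RpushAffine.app_bijective_of_isAffineOpen f M q V hV
  have hz' : IsZero ((RpushAffine.shP (RpushAffine.PP f M q)).obj.obj (op V)) :=
    ((sheafSections (Opens.grothendieckTopology Y.toTopCat) AddCommGrpCat.{u}).obj
      (op V)).map_isZero hz
  haveI := AddCommGrpCat.subsingleton_of_isZero hz'
  exact hb.1 (Subsingleton.elim _ _)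

end General

section Pn

variable (n : ℕ) {T : Scheme.{u}} (V : T.Opens) (hV : IsAffineOpen V)

theorem restrict_twistOver (k : ℤ) :
    Nonempty ((Twist.twistOver n T k).restrict (sigma n V hV) ≅ OO n Γ(T, V) k) := by
  obtain ⟨e⟩ := PnOverVanH9.pullback_sigma_twistOver n V hV k
  exact ⟨(Scheme.Modules.restrictFunctorIsoPullback (sigma n V hV)).app _ ≪≫ e⟩

theorem restrict_twF (F : (KRR.PY n T).Modules) (k : ℤ) :
    Nonempty ((KRR.twF n T k F).restrict (sigma n V hV) ≅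
      CohB1.tensorMod (F.restrict (sigma n V hV)) (OO n Γ(T, V) k)) := by
  obtain ⟨e⟩ := restrict_twistOver n V hV k
  exact ⟨(Scheme.Modules.restrictFunctor (sigma n V hV)).mapIso
      (Groth.Agent.TensInv.comm (Twist.twistOver n T k) F) ≪≫
    ResTensH9.resTensIso (sigma n V hV) F (isInvertible_twistOver n T k) ≪≫
    Groth.Agent.TensInv.mapL _ e⟩

/-- Cohomology of `F(k)` over `p⁻¹ V` is the cohomology of `F|_{P^n_A} (k)`. -/
theorem ext_vanish_iff (F : (KRR.PY n T).Modules) (k : ℤ) (q : ℕ) :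
    (∀ ξ : Abelian.Ext (fr (Y := (KRR.PY n T).carrier) (KRR.pr n T ⁻¹ᵁ V))
      (Coh.toAb (KRR.twF n T k F)) q, ξ = 0) ↔
    Subsingleton (Coh.HH (ProjSpace n Γ(T, V))
      (CohB1.tensorMod (F.restrict (sigma n V hV)) (OO n Γ(T, V) k)) q) := by
  obtain ⟨e⟩ := restrict_twF n V hV F k
  have key : ∀ W : (KRR.PY n T).Opens, (sigma n V hV).opensRange = W →
      ((∀ ξ : Abelian.Ext (fr (Y := (KRR.PY n T).carrier) W)
        (Coh.toAb (KRR.twF n T k F)) q, ξ = 0) ↔
      Subsingleton (Coh.HH (ProjSpace n Γ(T, V))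
        (CohB1.tensorMod (F.restrict (sigma n V hV)) (OO n Γ(T, V) k)) q)) := by
    rintro W rfl
    rw [OpenImmCohH9.ext_vanish_iff_restrict]
    exact ⟨Groth.Agent.HHVan.subsingleton_of_iso e q,
      Groth.Agent.HHVan.subsingleton_of_iso e.symm q⟩
  exact key _ (opensRange_sigma n V hV)

end Pn

end KRRRegH9

namespace KRRRegH9

open RpushVanish (fr)
open CohB1 Groth.Agent.PnOver Groth.Agent.ProjTens

section Reg

variable (n : ℕ) (T : Scheme.{u})

theorem isQuasicoherent_twF (F : (KRR.PY n T).Modules) (hF : Coh.IsQCoh F) (k : ℤ) :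
    (KRR.twF n T k F).IsQuasicoherent := by
  haveI : F.IsQuasicoherent := hF
  haveI : (Twist.twistOver n T k).IsQuasicoherent :=
    TensH8.isQuasicoherent_of_isInvertible (isInvertible_twistOver n T k)
  exact TensQCH8.isQuasicoherent_tensorMod (Twist.twistOver n T k) F

theorem qcqs_pr : QuasiCompact (KRR.pr n T) ∧ QuasiSeparated (KRR.pr n T) := by
  haveI : IsProper (KRR.pr n T) := Groth.Agent.Lib.ProjSpaceProperH4.isProper_toBase n T
  exact ⟨inferInstance, inferInstance⟩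

variable {T}

/-- a regular quasi-coherent sheaf restricts to a `0`-regular sheaf on `P^n_A` over every affine
open `Spec A` of the base -/
theorem cmreg_hyp (F : (KRR.PY n T).Modules) (hF : Coh.IsQCoh F) (hreg : KRR.IsRegSheaf n T F)
    (V : T.Opens) (hV : IsAffineOpen V) (q : ℕ) (hq : 1 ≤ q) :
    Subsingleton (Coh.HH (ProjSpace n Γ(T, V))
      (CohB1.tensorMod (F.restrict (sigma n V hV)) (OO n Γ(T, V) (0 - (q : ℤ)))) q) := by
  rw [← ext_vanish_iff n V hV F (0 - (q : ℤ)) q, zero_sub]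
  intro ξ
  haveI := (qcqs_pr n T).1
  haveI := (qcqs_pr n T).2
  haveI := isQuasicoherent_twF n T F hF (-(q : ℤ))
  exact ext_eq_zero_of_isZero_Rpush (KRR.pr n T) (KRR.twF n T (-(q : ℤ)) F) q (hreg q hq) V hV ξ

/-- `R^q p_* F(k) = 0` for `q ≥ 1` and `k ≥ -q`, for a regular quasi-coherent `F`. -/
theorem isZero_Rpush_twF (F : (KRR.PY n T).Modules) (hF : Coh.IsQCoh F)
    (hreg : KRR.IsRegSheaf n T F) (k : ℤ) (q : ℕ) (hq : 1 ≤ q) (hk : -(q : ℤ) ≤ k) :
    IsZero ((Coh.RpushAb (KRR.pr n T) q).obj (Coh.toAb (KRR.twF n T k F))) := by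
  obtain ⟨j, rfl⟩ := Nat.exists_eq_succ_of_ne_zero (Nat.pos_iff_ne_zero.mp hq)
  obtain ⟨s, hs⟩ : ∃ s : ℕ, (s : ℤ) = k + ((j + 1 : ℕ) : ℤ) :=
    ⟨(k + ((j + 1 : ℕ) : ℤ)).toNat, Int.toNat_of_nonneg (by omega)⟩
  refine RpushVanish.isZero_Rpush_succ_of_basis (KRR.pr n T).base
    (Coh.toAb (KRR.twF n T k F)) j (fun W => IsAffineOpen (X := T) W)
    (PnOverVanH9.affine_basis T) ?_
  intro V hV
  rw [ext_vanish_iff n V hV F k (j + 1)]
  have h := Groth.Agent.CMReg.propagate_all n Γ(T, V) (F.restrict (sigma n V hV)) 0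
    (cmreg_hyp n F hF hreg V hV) s (j + 1) hq
  have hk' : (0 : ℤ) + (s : ℤ) - ((j + 1 : ℕ) : ℤ) = k := by rw [hs]; ring
  rw [hk'] at h
  exact h

end Reg

end KRRRegH9

namespace KRRRegH9

section Main

variable (n : ℕ) (T : Scheme.{u})

/-- **Twists of a regular quasi-coherent sheaf are regular.** -/
theorem isRegSheaf_twF_of_isQCoh (F : (KRR.PY n T).Modules) (hF : Coh.IsQCoh F)
    (hreg : KRR.IsRegSheaf n T F) (m : ℕ) : KRR.IsRegSheaf n T (KRR.twF n T (m : ℤ) F) := by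
  intro i hi
  obtain ⟨e⟩ := twF_twF n T (-(i : ℤ)) (m : ℤ) F
  refine isZero_RpushAb_of_iso e.symm i ?_
  exact isZero_Rpush_twF n F hF hreg (-(i : ℤ) + m) i hi (by omega)

/-- **A regular quasi-coherent sheaf has no higher direct images.** -/
theorem isZero_Rpush_of_isRegSheaf (F : (KRR.PY n T).Modules) (hF : Coh.IsQCoh F)
    (hreg : KRR.IsRegSheaf n T F) (i : ℕ) (hi : 1 ≤ i) :
    IsZero ((Coh.RpushAb (KRR.pr n T) i).obj (Coh.toAb F)) := by
  obtain ⟨e⟩ := twF_zero n T F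
  exact isZero_RpushAb_of_iso e i (isZero_Rpush_twF n F hF hreg 0 i hi (by omega))

end Main

end KRRRegH9
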