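import Mathlib
import Groth.Prelude
import Groth.Agent.Lib.CMReg2_helper9

/-!
# Castelnuovo–Mumford: a regular sheaf is generated by its sections (helper9)
APPEND-ONLY once landed.
-/

set_option autoImplicit false
universe w v u
open CategoryTheory CategoryTheory.Limits AlgebraicGeometry TopologicalSpace Opposite Abelian

namespace Groth.Agent.CMReg

section Abstract

variable {C : Type u} [Category.{v} C] [Abelian C] [HasExt.{w} C] (K : CochainComplex C ℕ)

/-- vanishing of `Ext^i(Z^{p₀}, F)` from the vanishing of `Ext` of the terms -/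
theorem subsingleton_ext_Z (hK : ∀ p, K.ExactAt p) (N : ℕ) (hN : ∀ p, N < p → IsZero (K.X p))
    (F : C) (i p₀ : ℕ)
    (h : ∀ j, p₀ ≤ j → j ≤ N → Subsingleton (Ext (K.X j) F (i + (j - p₀)))) :
    Subsingleton (Ext (Z K p₀) F i) := by
  have claim : ∀ m p : ℕ, p + m = N + 1 → p₀ ≤ p →
      Subsingleton (Ext (Z K p) F (i + (p - p₀))) := by
    intro m
    induction m with
    | zero =>
      intro p hp _
      have hz : IsZero (Z K p) :=
        IsZero.of_mono (kernel.ι (K.d p (p + 1))) (hN p (by omega))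
      exact subsingleton_ext_of_isZero hz F _
    | succ m ih =>
      intro p hp hp1
      have h3 := ih (p + 1) (by omega) (by omega)
      have e : i + (p + 1 - p₀) = i + (p - p₀) + 1 := by omega
      rw [e] at h3
      exact subsingleton_ext_left (sesZ_shortExact K p (hK (p + 1))) F _
        (h p hp1 (by omega)) h3
  by_cases hp₀ : p₀ ≤ N + 1
  · have h1 := claim (N + 1 - p₀) p₀ (by omega) le_rfl
    rw [Nat.sub_self, add_zero] at h1
    exact h1
  · have hz : IsZero (Z K p₀) :=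
      IsZero.of_mono (kernel.ι (K.d p₀ (p₀ + 1))) (hN p₀ (by omega))
    exact subsingleton_ext_of_isZero hz F _

omit K in
theorem hom_factor_of_ext {S : ShortComplex C} (hS : S.ShortExact) (F : C)
    (h3 : Subsingleton (Ext S.X₃ F 1)) (φ' : S.X₁ ⟶ F) : ∃ ψ : S.X₂ ⟶ F, S.f ≫ ψ = φ' := by
  haveI : Subsingleton (Ext S.X₃ F (0 + 1)) := h3
  obtain ⟨x₂, hx₂⟩ := Ext.contravariant_sequence_exact₁ hS F (Ext.mk₀ φ')
    (add_comm 1 0) (Subsingleton.elim _ _)
  obtain ⟨ψ, rfl⟩ := (Ext.mk₀_bijective _ _).surjective x₂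
  rw [Ext.mk₀_comp_mk₀] at hx₂
  exact ⟨ψ, (Ext.mk₀_bijective _ _).injective hx₂⟩

/-- morphisms out of `K^0` factor through the first differential -/
theorem exists_factor (hK : ∀ p, K.ExactAt p) (N : ℕ) (hN : ∀ p, N < p → IsZero (K.X p))
    (F : C) (h : ∀ j, 2 ≤ j → j ≤ N → Subsingleton (Ext (K.X j) F (1 + (j - 2))))
    (φ : K.X 0 ⟶ F) : ∃ ψ : K.X 1 ⟶ F, K.d 0 1 ≫ ψ = φ := by
  have hZ2 : Subsingleton (Ext (Z K 2) F 1) := subsingleton_ext_Z K hK N hN F 1 2 h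
  have hS := sesZ_shortExact K 1 (hK 2)
  have hS0 := sesZ_shortExact K 0 (hK 1)
  have hmono : Mono (K.d 0 1) := by
    have hex := (K.exactAt_iff' 0 0 1 (by simp) (by simp)).mp (hK 0)
    exact (ShortComplex.exact_iff_mono _ (K.shape 0 0 (by simp))).mp hex
  obtain ⟨l, hl, hle⟩ : ∃ l : K.X 0 ⟶ Z K 1, l ≫ kernel.ι (K.d 1 2) = K.d 0 1 ∧ Epi l :=
    ⟨(sesZ K 0).g, kernel.lift_ι _ _ _, hS0.epi_g⟩
  haveI : Mono l := by
    haveI : Mono (l ≫ kernel.ι (K.d 1 2)) := by rw [hl]; exact hmono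
    exact mono_of_mono l (kernel.ι (K.d 1 2))
  haveI : IsIso l := isIso_of_mono_of_epi l
  obtain ⟨φ', hφ'⟩ : ∃ φ' : Z K 1 ⟶ F, φ' = inv l ≫ φ := ⟨_, rfl⟩
  obtain ⟨ψ, hψ⟩ := hom_factor_of_ext hS F hZ2 φ'
  have hψ' : kernel.ι (K.d 1 2) ≫ (show K.X 1 ⟶ F from ψ) = inv l ≫ φ := hψ.trans hφ'
  refine ⟨ψ, ?_⟩
  calc K.d 0 1 ≫ (show K.X 1 ⟶ F from ψ)
      = l ≫ kernel.ι (K.d 1 2) ≫ (show K.X 1 ⟶ F from ψ) := by rw [← hl, Category.assoc]
    _ = φ := by rw [hψ', IsIso.hom_inv_id_assoc]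

end Abstract


section Proj

open Groth.Agent.ProjTens Groth.Agent.TensInv Groth.Agent.ExtDual Groth.Agent.KosSh
  Groth.Agent.ProjCech Groth.Agent.ProjFin

variable (n : ℕ) (R : Type u) [CommRing R]

/-- `g` kills every morphism `O(b) ⟶ F` -/
def Kills {F T : (CohB1.ProjSpace n R).Modules} (b : ℤ) (g : F ⟶ T) : Prop :=
  ∀ φ : OO n R b ⟶ F, φ ≫ g = 0

variable {n R} in
lemma Kills.cast {F T : (CohB1.ProjSpace n R).Modules} {b b' : ℤ} {g : F ⟶ T}
    (h : Kills n R b g) (e : b = b') : Kills n R b' g := by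
  subst e
  exact h

section Ext

variable [HasExt.{u} (CohB1.ProjSpace n R).Modules]

/-- morphisms `O(-(m+1)) ⟶ F` into an `m`-regular module factor through `O(-m)^{n+1}` -/
theorem exists_factor_twist (F : (CohB1.ProjSpace n R).Modules) (m : ℤ)
    (h : ∀ q : ℕ, 1 ≤ q →
      Subsingleton (Coh.HH (CohB1.ProjSpace n R) (CohB1.tensorMod F (OO n R (m - q))) q))
    (χ : OO n R (-(m + 1) + ((0 : ℕ) : ℤ)) ⟶ F) :
    ∃ ψ : (KP n R (-(m + 1))).X 1 ⟶ F,
      (KPι n R (-(m + 1)) ≫ (KP n R (-(m + 1))).d 0 1) ≫ ψ = χ := by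
  obtain ⟨ψ, hψ⟩ := exists_factor (KP n R (-(m + 1))) (KP_exactAt n R _) (n + 1)
    (fun p hp => isZero_KP n R _ p hp) F (fun j hj2 hjn => by
      apply subsingleton_ext_KP n R (-(m + 1)) j F (1 + (j - 2)) (m - ((1 + (j - 2) : ℕ) : ℤ))
      · push_cast [Nat.cast_sub hj2]
        ring
      · exact h (1 + (j - 2)) (by omega)) (KPπ n R (-(m + 1)) ≫ χ)
  refine ⟨ψ, ?_⟩
  rw [Category.assoc, hψ, ← Category.assoc, KPι_π, Category.id_comp]


/-- one step: if `g` kills all maps from `O(-m)` and `F` is `m`-regular, then `g` kills all maps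
from `O(-(m+1))` -/
theorem kills_step {F T : (CohB1.ProjSpace n R).Modules} (m : ℤ)
    (h : ∀ q : ℕ, 1 ≤ q →
      Subsingleton (Coh.HH (CohB1.ProjSpace n R) (CohB1.tensorMod F (OO n R (m - q))) q))
    (g : F ⟶ T) (hg : Kills n R (-m) g) : Kills n R (-(m + 1)) g := by
  have hg' : Kills n R (-(m + 1) + ((0 : ℕ) : ℤ)) g := by
    intro χ
    obtain ⟨ψ, hψ⟩ := exists_factor_twist n R F m h χ
    rw [← hψ, Category.assoc]
    have hz : ψ ≫ g = 0 := by
      apply KP_hom_ext n R (-(m + 1)) 1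
      intro J
      rw [comp_zero, ← Category.assoc]
      exact (hg.cast (by push_cast; ring : -m = -(m + 1) + ((1 : ℕ) : ℤ))) _
    rw [hz, comp_zero]
  exact hg'.cast (by simp)


theorem kills_all {F T : (CohB1.ProjSpace n R).Modules} (m : ℤ)
    (h : ∀ q : ℕ, 1 ≤ q →
      Subsingleton (Coh.HH (CohB1.ProjSpace n R) (CohB1.tensorMod F (OO n R (m - q))) q))
    (g : F ⟶ T) (hg : Kills n R (-m) g) (r : ℕ) : Kills n R (-(m + r)) g := by
  induction r with
  | zero => exact hg.cast (by simp)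
  | succ r ih =>
    have h' := propagate_all n R F m h r
    exact (kills_step n R (m + r) h' g ih).cast (by push_cast; ring)

end Ext

/-- a morphism out of an `m`-regular coherent module which kills all maps from `O(-m)` is zero -/
theorem eq_zero_of_kills [IsNoetherianRing R] {F T : (CohB1.ProjSpace n R).Modules}
    (hF : Coh.IsCoh F) (m : ℤ)
    (h : ∀ q : ℕ, 1 ≤ q →
      Subsingleton (Coh.HH (CohB1.ProjSpace n R) (CohB1.tensorMod F (OO n R (m - q))) q))
    (g : F ⟶ T) (hg : Kills n R (-m) g) : g = 0 := by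
  haveI := hasExt_modules (CohB1.ProjSpace n R)
  obtain ⟨n₀, hn₀⟩ := Groth.Agent.ProjTw.exists_epi_coprod_twist (𝒜 n R) _
    (hs1_X n R) (hcov_X n R) F hF.1 hF.2
  -- choose `N ≥ n₀` with `N = m + r`, `r ≥ 0`
  obtain ⟨r, hr⟩ : ∃ r : ℕ, (n₀ : ℤ) ≤ m + r := ⟨(n₀ - m).toNat, by omega⟩
  obtain ⟨N, hN⟩ := Int.eq_ofNat_of_zero_le (le_trans (Int.natCast_nonneg n₀) hr)
  obtain ⟨k, p, hp⟩ : ∃ (k : ℕ) (p : (∐ fun _ : Fin k => OO n R (-(N : ℤ))) ⟶ F), Epi p :=
    hn₀ N (by omega)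
  have hk := (kills_all n R m h g hg r).cast (by rw [hN] : -(m + (r : ℤ)) = -(N : ℤ))
  have hpg : p ≫ g = p ≫ 0 := by
    rw [comp_zero]
    apply Sigma.hom_ext
    intro c
    rw [comp_zero, ← Category.assoc]
    exact hk _
  exact (cancel_epi p).mp hpg


/-- an `m`-regular coherent module is a quotient of a sum of copies of `O(-m)` -/
theorem epi_sigma_desc [IsNoetherianRing R] {F : (CohB1.ProjSpace n R).Modules}
    (hF : Coh.IsCoh F) (m : ℤ)
    (h : ∀ q : ℕ, 1 ≤ q →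
      Subsingleton (Coh.HH (CohB1.ProjSpace n R) (CohB1.tensorMod F (OO n R (m - q))) q)) :
    Epi (Sigma.desc (fun φ : OO n R (-m) ⟶ F => φ)) := by
  apply Preadditive.epi_of_cancel_zero
  intro T g hg
  apply eq_zero_of_kills n R hF m h g
  intro φ
  have h1 : Sigma.ι (fun _ : OO n R (-m) ⟶ F => OO n R (-m)) φ ≫
      Sigma.desc (fun φ : OO n R (-m) ⟶ F => φ) = φ := Sigma.ι_desc _ _
  rw [← h1, Category.assoc, hg, comp_zero]

/-- **an `m`-regular coherent module `F` has `F(m)` generated by global sections** -/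
theorem isGloballyGenerated_twist [IsNoetherianRing R] {F : (CohB1.ProjSpace n R).Modules}
    (hF : Coh.IsCoh F) (m : ℤ)
    (h : ∀ q : ℕ, 1 ≤ q →
      Subsingleton (Coh.HH (CohB1.ProjSpace n R) (CohB1.tensorMod F (OO n R (m - q))) q)) :
    Curv2.IsGloballyGenerated (CohB1.tensorMod F (OO n R m)) := by
  haveI := isEquivalence_tR_twist n R m
  haveI : Epi (Sigma.desc (fun φ : OO n R (-m) ⟶ F => φ)) := epi_sigma_desc n R hF m h
  obtain ⟨e₁⟩ := twist_inv n R (-m) m (by omega)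
  have e := (PreservesCoproduct.iso (tR (OO n R m))
    (fun _ : OO n R (-m) ⟶ F => OO n R (-m))).symm
  have e' : (SheafOfModules.free (OO n R (-m) ⟶ F) : (CohB1.ProjSpace n R).Modules) ≅
      ∐ fun _ : OO n R (-m) ⟶ F => (tR (OO n R m)).obj (OO n R (-m)) :=
    Sigma.mapIso (fun _ => e₁.symm)
  haveI h1 : Epi ((tR (OO n R m)).map (Sigma.desc (fun φ : OO n R (-m) ⟶ F => φ))) :=
    Functor.map_epi _ _
  have h2 : Epi (e.hom ≫ (tR (OO n R m)).map (Sigma.desc (fun φ : OO n R (-m) ⟶ F => φ))) :=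
    epi_comp' inferInstance h1
  exact ⟨OO n R (-m) ⟶ F, e'.hom ≫ e.hom ≫
    (tR (OO n R m)).map (Sigma.desc (fun φ : OO n R (-m) ⟶ F => φ)),
    epi_comp' inferInstance h2⟩

end Proj

end Groth.Agent.CMReg
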