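import Mathlib
import Groth.Prelude
import Groth.Agent.Lib.ProjFin1_helper9
import Groth.Agent.Lib.HHVan_helper9

/-!
# The long exact cohomology sequence over a field: dimension counts (helper9)
-/

set_option autoImplicit false
universe u
open CategoryTheory CategoryTheory.Limits AlgebraicGeometry TopologicalSpace Opposite

namespace Groth.Agent.LESLin

open Groth.Agent.ProjFin

section Ring

variable (A : Type u) [CommRing A] {X : Scheme.{u}} [X.Over (Spec (CommRingCat.of A))]
  (S : ShortComplex X.Modules) (hS : S.ShortExact)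

lemma range_δlin (i : ℕ) :
    LinearMap.range (δlin A S hS i) = LinearMap.ker (Canon.HHlin A S.f (i + 1)) := by
  ext x
  constructor
  · rintro ⟨y, rfl⟩
    rw [LinearMap.mem_ker, HHlin_apply]
    have h1 := (SerreCrit.shortExact_toSheaf S hS).extClass_comp
    have h2 := Abelian.Ext.comp_assoc_of_third_deg_zero
      (show Abelian.Ext _ ((S.map (SerreCrit.TT X)).X₃) i from y)
      (SerreCrit.shortExact_toSheaf S hS).extClass
      (Abelian.Ext.mk₀ (S.map (SerreCrit.TT X)).f) rfl
    exact h2.trans (by rw [h1, Abelian.Ext.comp_zero]; rfl)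
  · intro hx
    obtain ⟨y, hy⟩ := Abelian.Ext.covariant_sequence_exact₁ _ (SerreCrit.shortExact_toSheaf S hS)
      (show Abelian.Ext _ (Coh.toAb S.X₁) (i + 1) from x) hx rfl
    exact ⟨y, hy⟩

include hS in
lemma range_HHlin_f (i : ℕ) :
    LinearMap.range (Canon.HHlin A S.f i) = LinearMap.ker (Canon.HHlin A S.g i) := by
  ext x
  constructor
  · rintro ⟨y, rfl⟩
    rw [LinearMap.mem_ker, HHlin_apply, HHlin_apply, ← Groth.Agent.HHVan.hmap_comp, S.zero]
    have h : (SerreCrit.TT X).map (0 : S.X₁ ⟶ S.X₃) = 0 := Functor.map_zero _ _ _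
    show Sheaf.H.map ((SerreCrit.TT X).map (0 : S.X₁ ⟶ S.X₃)) i y = 0
    rw [h, Sheaf.H.map_apply, Abelian.Ext.mk₀_zero, Abelian.Ext.comp_zero]
  · intro hx
    obtain ⟨y, hy⟩ := Abelian.Ext.covariant_sequence_exact₂ _ (SerreCrit.shortExact_toSheaf S hS)
      (show Abelian.Ext _ (Coh.toAb S.X₂) i from x) hx
    exact ⟨y, hy⟩

include hS in
lemma injective_HHlin_f_zero : Function.Injective (Canon.HHlin A S.f 0) := by
  have : Mono ((SerreCrit.TT X).map S.f) := (SerreCrit.shortExact_toSheaf S hS).mono_f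
  exact Abelian.Ext.postcomp_mk₀_injective_of_mono _ ((SerreCrit.TT X).map S.f)

include hS in
/-- vanishing of `H^i` of the cokernel when `H^i(f)` is surjective and `H^{i+1}` of the kernel
vanishes -/
theorem subsingleton_of_surjective (i : ℕ)
    (hsurj : Function.Surjective (Canon.HHlin A S.f i))
    (h0 : Subsingleton (Coh.HH X S.X₁ (i + 1))) : Subsingleton (Coh.HH X S.X₃ i) := by
  have hx : ∀ x : Coh.HH X S.X₃ i, x = 0 := by
    intro x
    have h1 : x ∈ LinearMap.ker (δlin A S hS i) := by
      rw [LinearMap.mem_ker]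
      exact Subsingleton.elim _ _
    rw [← range_HHlin_g] at h1
    obtain ⟨y, rfl⟩ := h1
    obtain ⟨z, rfl⟩ := hsurj y
    have h2 : Canon.HHlin A S.f i z ∈ LinearMap.ker (Canon.HHlin A S.g i) := by
      rw [← range_HHlin_f A S hS]
      exact ⟨z, rfl⟩
    exact h2
  exact ⟨fun x y => by rw [hx x, hx y]⟩

end Ring

section Field

variable (k : Type u) [Field k] {X : Scheme.{u}} [X.Over (Spec (CommRingCat.of k))]
  (S : ShortComplex X.Modules) (hS : S.ShortExact)

include hS in
/-- the dimension count in the long exact sequence, around the connecting homomorphism -/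
theorem finrank_five (i : ℕ)
    [Module.Finite k (Coh.HH X S.X₁ i)] [Module.Finite k (Coh.HH X S.X₂ i)]
    [Module.Finite k (Coh.HH X S.X₁ (i + 1))] [Module.Finite k (Coh.HH X S.X₂ (i + 1))]
    (hinj : Function.Injective (Canon.HHlin k S.f i))
    (hsurj : Function.Surjective (Canon.HHlin k S.f (i + 1))) :
    Module.Finite k (Coh.HH X S.X₃ i) ∧
      Module.finrank k (Coh.HH X S.X₃ i) + Module.finrank k (Coh.HH X S.X₁ i) +
          Module.finrank k (Coh.HH X S.X₂ (i + 1)) =
        Module.finrank k (Coh.HH X S.X₂ i) + Module.finrank k (Coh.HH X S.X₁ (i + 1)) := by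
  haveI : IsNoetherian k (Coh.HH X S.X₂ i) := IsNoetherian.iff_fg.mpr inferInstance
  haveI : IsNoetherian k (Coh.HH X S.X₁ (i + 1)) := IsNoetherian.iff_fg.mpr inferInstance
  haveI : IsNoetherian k (Coh.HH X S.X₃ i) := isNoetherian_right k S hS i
  haveI : Module.Finite k (Coh.HH X S.X₃ i) := IsNoetherian.iff_fg.mp inferInstance
  refine ⟨inferInstance, ?_⟩
  have e1 := LinearMap.finrank_range_add_finrank_ker (δlin k S hS i)
  have e2 := LinearMap.finrank_range_add_finrank_ker (Canon.HHlin k S.g i)
  have e3 := LinearMap.finrank_range_add_finrank_ker (Canon.HHlin k S.f (i + 1))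
  have e4 := LinearMap.finrank_range_of_inj hinj
  have e5 : Module.finrank k (LinearMap.range (Canon.HHlin k S.f (i + 1))) =
      Module.finrank k (Coh.HH X S.X₂ (i + 1)) := by
    rw [LinearMap.range_eq_top.mpr hsurj, finrank_top]
  rw [← range_HHlin_g] at e1
  rw [← range_HHlin_f k S hS, e4] at e2
  rw [← range_δlin k S hS, e5] at e3
  omega

end Field

end Groth.Agent.LESLin
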