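import Mathlib
import Groth.Prelude
import Groth.Agent.Lib.LESLin_helper9
import Groth.Agent.Lib.ProjDual1_helper9

/-!
# Dimension counts in the long exact sequences of `Ext` and of cohomology (helper9)
-/

set_option autoImplicit false
universe w v u
open CategoryTheory CategoryTheory.Limits AlgebraicGeometry TopologicalSpace Opposite Abelian

namespace Groth.Agent.ExtDual

section ExtSide

variable {k : Type*} [Field k] {C : Type u} [Category.{v} C] [Abelian C] [Linear k C]
  [HasExt.{w} C] {S : ShortComplex C} (hS : S.ShortExact) (Y : C)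

include hS in
/-- the connecting map `Ext^i(X₁, Y) → Ext^{i+1}(X₃, Y)` is an isomorphism when the neighbouring
groups of `X₂` vanish -/
theorem nonempty_linearEquiv_of_vanish (i : ℕ) (h1 : Subsingleton (Ext S.X₂ Y i))
    (h2 : Subsingleton (Ext S.X₂ Y (i + 1))) :
    Nonempty (Ext S.X₁ Y i ≃ₗ[k] Ext S.X₃ Y (i + 1)) := by
  refine ⟨LinearEquiv.ofBijective (hS.extClass.precompOfLinear k Y (add_comm 1 i)) ⟨?_, ?_⟩⟩
  · rw [← LinearMap.ker_eq_bot, LinearMap.ker_eq_bot']
    intro x hx
    obtain ⟨x₂, hx₂⟩ := Ext.contravariant_sequence_exact₁ hS Y x (add_comm 1 i) hx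
    rw [← hx₂, Subsingleton.elim x₂ 0, Ext.comp_zero]
  · intro x₃
    obtain ⟨x₁, hx₁⟩ := Ext.contravariant_sequence_exact₃ hS Y x₃ (Subsingleton.elim _ _)
      (add_comm 1 i)
    exact ⟨x₁, hx₁⟩

include hS in
/-- the dimension count at the beginning of the long exact sequence of `Ext(-, Y)` -/
theorem finrank_ext_one (h2 : Subsingleton (Ext S.X₂ Y 1))
    [Module.Finite k (Ext S.X₁ Y 0)] [Module.Finite k (Ext S.X₂ Y 0)]
    [Module.Finite k (Ext S.X₃ Y 0)] :
    Module.Finite k (Ext S.X₃ Y 1) ∧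
      Module.finrank k (Ext S.X₃ Y 1) + Module.finrank k (Ext S.X₂ Y 0) =
        Module.finrank k (Ext S.X₁ Y 0) + Module.finrank k (Ext S.X₃ Y 0) := by
  let a : Ext S.X₃ Y 0 →ₗ[k] Ext S.X₂ Y 0 := (Ext.mk₀ S.g).precompOfLinear k Y (zero_add 0)
  let b : Ext S.X₂ Y 0 →ₗ[k] Ext S.X₁ Y 0 := (Ext.mk₀ S.f).precompOfLinear k Y (zero_add 0)
  let d : Ext S.X₁ Y 0 →ₗ[k] Ext S.X₃ Y 1 := hS.extClass.precompOfLinear k Y (add_comm 1 0)
  have ha : Function.Injective a := by
    haveI := hS.epi_g
    exact Ext.precomp_mk₀_injective_of_epi Y S.g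
  have hab : LinearMap.range a = LinearMap.ker b := by
    ext x
    constructor
    · rintro ⟨y, rfl⟩
      rw [LinearMap.mem_ker]
      show (Ext.mk₀ S.f).comp ((Ext.mk₀ S.g).comp y (zero_add 0)) (zero_add 0) = 0
      rw [← Ext.comp_assoc_of_second_deg_zero, Ext.mk₀_comp_mk₀, S.zero, Ext.mk₀_zero,
        Ext.zero_comp]
    · intro hx
      obtain ⟨y, hy⟩ := Ext.contravariant_sequence_exact₂ hS Y x hx
      exact ⟨y, hy⟩
  have hbd : LinearMap.range b = LinearMap.ker d := by
    ext x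
    constructor
    · rintro ⟨y, rfl⟩
      rw [LinearMap.mem_ker]
      show hS.extClass.comp ((Ext.mk₀ S.f).comp y (zero_add 0)) (add_comm 1 0) = 0
      rw [← Ext.comp_assoc_of_second_deg_zero, hS.extClass_comp, Ext.zero_comp]
    · intro hx
      obtain ⟨y, hy⟩ := Ext.contravariant_sequence_exact₁ hS Y x (add_comm 1 0) hx
      exact ⟨y, hy⟩
  have hd : Function.Surjective d := by
    intro x₃
    obtain ⟨x₁, hx₁⟩ := Ext.contravariant_sequence_exact₃ hS Y x₃ (Subsingleton.elim _ _)
      (add_comm 1 0)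
    exact ⟨x₁, hx₁⟩
  haveI : Module.Finite k (Ext S.X₃ Y 1) := Module.Finite.of_surjective d hd
  refine ⟨inferInstance, ?_⟩
  have e1 := LinearMap.finrank_range_add_finrank_ker d
  have e2 := LinearMap.finrank_range_add_finrank_ker b
  have e3 := LinearMap.finrank_range_of_inj ha
  have e4 : Module.finrank k (LinearMap.range d) = Module.finrank k (Ext S.X₃ Y 1) := by
    rw [LinearMap.range_eq_top.mpr hd, finrank_top]
  rw [← hbd] at e1
  rw [← hab, e3] at e2
  omega

end ExtSide

section HSide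

open Groth.Agent.ProjFin Groth.Agent.LESLin

variable (k : Type u) [Field k] {X : Scheme.{u}} [X.Over (Spec (CommRingCat.of k))]
  (S : ShortComplex X.Modules) (hS : S.ShortExact)

include hS in
theorem finrank_of_vanish_mid (i : ℕ) (h2 : Subsingleton (Coh.HH X S.X₂ i))
    [Module.Finite k (Coh.HH X S.X₁ (i + 1))] :
    Module.Finite k (Coh.HH X S.X₃ i) ∧
      Module.finrank k (Coh.HH X S.X₃ i) =
        Module.finrank k (LinearMap.ker (Canon.HHlin k S.f (i + 1))) := by
  have hg0 : Canon.HHlin k S.g i = 0 :=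
    LinearMap.ext fun x => by rw [Subsingleton.elim x 0, map_zero]; rfl
  have hinj : Function.Injective (δlin k S hS i) := by
    rw [← LinearMap.ker_eq_bot, ← range_HHlin_g, LinearMap.range_eq_bot]
    exact hg0
  haveI : Module.Finite k (Coh.HH X S.X₃ i) := Module.Finite.of_injective (δlin k S hS i) hinj
  refine ⟨inferInstance, ?_⟩
  have e := (LinearEquiv.ofInjective (δlin k S hS i) hinj).finrank_eq
  rw [range_δlin] at e
  exact e

include hS in
theorem finrank_of_vanish_two (i : ℕ) (h2 : Subsingleton (Coh.HH X S.X₂ i))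
    (h3 : Subsingleton (Coh.HH X S.X₂ (i + 1)))
    [Module.Finite k (Coh.HH X S.X₁ (i + 1))] :
    Module.Finite k (Coh.HH X S.X₃ i) ∧
      Module.finrank k (Coh.HH X S.X₃ i) = Module.finrank k (Coh.HH X S.X₁ (i + 1)) := by
  obtain ⟨h, e⟩ := finrank_of_vanish_mid k S hS i h2
  refine ⟨h, ?_⟩
  have hf0 : Canon.HHlin k S.f (i + 1) = 0 :=
    LinearMap.ext fun x => Subsingleton.elim _ _
  rw [e, LinearMap.ker_eq_top.mpr hf0, finrank_top]

include hS in
theorem finrank_of_vanish_surj (i : ℕ) (h2 : Subsingleton (Coh.HH X S.X₂ i))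
    (hsurj : Function.Surjective (Canon.HHlin k S.g (i + 1)))
    [Module.Finite k (Coh.HH X S.X₁ (i + 1))] [Module.Finite k (Coh.HH X S.X₂ (i + 1))] :
    Module.Finite k (Coh.HH X S.X₃ i) ∧
      Module.finrank k (Coh.HH X S.X₃ i) + Module.finrank k (Coh.HH X S.X₂ (i + 1)) =
        Module.finrank k (Coh.HH X S.X₁ (i + 1)) + Module.finrank k (Coh.HH X S.X₃ (i + 1)) := by
  obtain ⟨h, e⟩ := finrank_of_vanish_mid k S hS i h2
  refine ⟨h, ?_⟩
  have e1 := LinearMap.finrank_range_add_finrank_ker (Canon.HHlin k S.f (i + 1))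
  have e2 := LinearMap.finrank_range_add_finrank_ker (Canon.HHlin k S.g (i + 1))
  have e3 : Module.finrank k (LinearMap.range (Canon.HHlin k S.g (i + 1))) =
      Module.finrank k (Coh.HH X S.X₃ (i + 1)) := by
    rw [LinearMap.range_eq_top.mpr hsurj, finrank_top]
  rw [range_HHlin_f k S hS] at e1
  omega

omit [X.Over (Spec (CommRingCat.of k))] in
/-- vanishing of the cohomology of a finite coproduct of copies -/
theorem subsingleton_HH_sigma (L : X.Modules) (r i : ℕ) (h : Subsingleton (Coh.HH X L i)) :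
    Subsingleton (Coh.HH X (∐ fun _ : Fin r => L) i) := by
  have key : ∀ x : Coh.HH X (∐ fun _ : Fin r => L) i, x = 0 := by
    intro x
    rw [Groth.Agent.ProjDual.eq_sum_hmap L r i x]
    apply Finset.sum_eq_zero
    intro a _
    rw [Subsingleton.elim (Groth.Agent.HHVan.hmap (pr L r a) i x) 0]
    exact map_zero _
  exact ⟨fun x y => by rw [key x, key y]⟩

end HSide

end Groth.Agent.ExtDual
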