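import Mathlib
import Groth.Prelude
import Groth.Agent.Lib.ExtDual1_helper9
import Groth.Agent.Lib.ExtDual2_helper9

/-!
# Serre duality on projective space: `Ext^i(F, ω) ≅ H^{n-i}(F)^∨` (helper9)
-/

set_option autoImplicit false
universe u
open CategoryTheory CategoryTheory.Limits AlgebraicGeometry TopologicalSpace Opposite Abelian

namespace Groth.Agent.ExtDual

open Groth.Agent.HHVan Groth.Agent.ProjFin Groth.Agent.ProjDual

section DMap

variable {A : Type u} [CommRing A] {X : Scheme.{u}} [X.Over (Spec (CommRingCat.of A))]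
  {ω : X.Modules} (n : ℕ) (t : Coh.HH X ω n →ₗ[A] A)

lemma toSheaf_smulModΓ (M : X.Modules) (r : Coh.Γtop X) :
    (SheafOfModules.toSheaf X.ringCatSheaf).map (Formal.smulModΓ M r) = Coh.smulAb M r := rfl

lemma hmap_smul {F G : X.Modules} (a : A) (φ : F ⟶ G) (i : ℕ) (x : Coh.HH X F i) :
    hmap (a • φ) i x = a • hmap φ i x := by
  rw [KLin.smul_def, hmap_comp]
  have h : hmap (Formal.smulMod A F a) i x = a • x := rfl
  rw [h]
  exact (Canon.HHlin A φ i).map_smul a x

/-- the duality map `φ ↦ t ∘ H^n(φ)`, linearly -/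
noncomputable def dualMap (F : X.Modules) : (F ⟶ ω) →ₗ[A] Module.Dual A (Coh.HH X F n) where
  toFun φ := t ∘ₗ Canon.HHlin A φ n
  map_add' φ φ' := by
    ext x
    show t (hmap (φ + φ') n x) = t (hmap φ n x) + t (hmap φ' n x)
    rw [hmap_add, map_add]
  map_smul' a φ := by
    ext x
    show t (hmap (a • φ) n x) = a • t (hmap φ n x)
    rw [hmap_smul, map_smul]

lemma dualMap_apply (F : X.Modules) (φ : F ⟶ ω) (x : Coh.HH X F n) :
    dualMap n t F φ x = t (hmap φ n x) := rfl

theorem bijective_dualMap (F : X.Modules) (hi : DInj n t F) (hs : DSurj n t F) :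
    Function.Bijective (dualMap n t F) := by
  constructor
  · rw [← LinearMap.ker_eq_bot, LinearMap.ker_eq_bot']
    intro φ hφ
    exact hi φ fun x => by rw [← dualMap_apply, hφ]; rfl
  · intro ψ
    obtain ⟨φ, hφ⟩ := hs ψ
    exact ⟨φ, LinearMap.ext fun x => (hφ x).symm⟩

end DMap

section Main

open Groth.Agent.ProjTens Groth.Agent.ProjCech

variable (k : Type u) [Field k] (n : ℕ)

/-- the dualizing sheaf `O(-n-1)` of `P^n_k` -/
noncomputable abbrev ωP : (CohB1.ProjSpace n k).Modules :=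
  Twist.twistProjSpace n k (-((n : ℤ) + 1))

/-- the expected dimension of `Ext^i(F, ω)` -/
noncomputable def cdim (F : (CohB1.ProjSpace n k).Modules) (i : ℕ) : ℕ :=
  if i ≤ n then Module.finrank k (Coh.HH (CohB1.ProjSpace n k) F (n - i)) else 0

theorem exists_trace :
    ∃ t : Coh.HH (CohB1.ProjSpace n k) (ωP k n) n →ₗ[k] k,
      ∀ F : (CohB1.ProjSpace n k).Modules, Coh.IsCoh F → DInj n t F ∧ DSurj n t F := by
  rcases n with _ | q
  · obtain ⟨t, ht⟩ := exists_dual_zero k (-(((0 : ℕ) : ℤ) + 1))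
    exact ⟨t.toLinearMap, ht⟩
  · obtain ⟨t, ht⟩ := exists_dual k q
    exact ⟨t.toLinearMap, ht⟩

theorem finite_HH (M : (CohB1.ProjSpace n k).Modules) (hM : Coh.IsCoh M) (i : ℕ) :
    Module.Finite k (Coh.HH (CohB1.ProjSpace n k) M i) := by
  haveI := isNoetherian_HH n k (n + 1) i (by omega) M hM
  exact Module.IsNoetherian.finite k _

theorem exists_presentation (F : (CohB1.ProjSpace n k).Modules) (hF : Coh.IsCoh F) :
    ∃ (m r : ℕ) (p : (∐ fun _ : Fin r => OO n k (-(m : ℤ))) ⟶ F), 1 ≤ m ∧ Epi p ∧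
      Coh.IsCoh (kernel p) ∧ Coh.IsCoh (∐ fun _ : Fin r => OO n k (-(m : ℤ))) := by
  haveI hNoeth : AlgebraicGeometry.IsNoetherian (CohB1.ProjSpace n k) :=
    Groth.Agent.S2357.result (𝒜 n k)
  obtain ⟨n₀, hn₀⟩ := Groth.Agent.ProjTw.exists_epi_coprod_twist (𝒜 n k) _
    (hs1_X n k) (hcov_X n k) F hF.1 hF.2
  obtain ⟨r, p, hp⟩ := hn₀ (max n₀ 1) (le_max_left _ _)
  have hL : Coh.IsCoh (X := CohB1.ProjSpace n k) (Twist.twist (𝒜 n k) (-((max n₀ 1 : ℕ) : ℤ))) :=
    ⟨Groth.Agent.ProjTw.isQuasicoherent_twist (𝒜 n k) _,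
      Groth.Agent.ProjTw.isFiniteType_twist (𝒜 n k) (hcov' n k) _⟩
  have hE := isCoh_sigma_fin (X := CohB1.ProjSpace n k) _ hL r
  have hK := CohKerH8.isCoh_kernel (X := CohB1.ProjSpace n k) hE hF p
  exact ⟨max n₀ 1, r, p, le_max_right _ _, hp, hK, hE⟩

variable [HasExt.{u} (CohB1.ProjSpace n k).Modules]

/-- the statement proved by induction on `i` -/
def PP (i : ℕ) : Prop :=
  ∀ F : (CohB1.ProjSpace n k).Modules, Coh.IsCoh F →
    Module.Finite k (Ext F (ωP k n) i) ∧ Module.finrank k (Ext F (ωP k n) i) = cdim k n F i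

theorem base : PP k n 0 := by
  intro F hF
  obtain ⟨t, ht⟩ := exists_trace k n
  let e : Ext F (ωP k n) 0 ≃ₗ[k] Module.Dual k (Coh.HH (CohB1.ProjSpace n k) F n) :=
    (Ext.linearEquiv₀ (R := k)).trans
      (LinearEquiv.ofBijective (dualMap n t F) (bijective_dualMap n t F (ht F hF).1 (ht F hF).2))
  haveI := finite_HH k n F hF n
  haveI : Module.Finite k (Ext F (ωP k n) 0) := Module.Finite.equiv e.symm
  refine ⟨inferInstance, ?_⟩
  rw [e.finrank_eq, Subspace.dual_finrank_eq]
  simp [cdim]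

theorem step (i : ℕ) (ih : PP k n i) (h0 : PP k n 0) : PP k n (i + 1) := by
  intro F hF
  obtain ⟨m, r, p, hm, hp, hK, hE⟩ := exists_presentation k n F hF
  let S : ShortComplex (CohB1.ProjSpace n k).Modules :=
    ShortComplex.mk (kernel.ι p) p (kernel.condition p)
  have hS : S.ShortExact :=
    { exact := ShortComplex.exact_of_f_is_kernel _ (kernelIsKernel p)
      mono_f := inferInstanceAs (Mono (kernel.ι p))
      epi_g := hp }
  have hExtE : ∀ j, 1 ≤ j → Subsingleton (Ext S.X₂ (ωP k n) j) := fun j hj =>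
    subsingleton_ext_sigma _ _ r j (subsingleton_ext_twist n k m hm j hj)
  have hHE : ∀ j, j < n → Subsingleton (Coh.HH (CohB1.ProjSpace n k) S.X₂ j) := fun j hj =>
    subsingleton_HH_sigma _ r j
      (subsingleton_HH_twist (n := n) (R := k) (-(m : ℤ)) j (by omega) (by omega))
  have hK' : Coh.IsCoh S.X₁ := hK
  have hE' : Coh.IsCoh S.X₂ := hE
  have hF' : Coh.IsCoh S.X₃ := hF
  have fin1 : ∀ j, Module.Finite k (Coh.HH (CohB1.ProjSpace n k) S.X₁ j) := finite_HH k n _ hK'
  have fin2 : ∀ j, Module.Finite k (Coh.HH (CohB1.ProjSpace n k) S.X₂ j) := finite_HH k n _ hE'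
  have fin3 : ∀ j, Module.Finite k (Coh.HH (CohB1.ProjSpace n k) S.X₃ j) := finite_HH k n _ hF'
  show Module.Finite k (Ext S.X₃ (ωP k n) (i + 1)) ∧
    Module.finrank k (Ext S.X₃ (ωP k n) (i + 1)) = cdim k n S.X₃ (i + 1)
  rcases Nat.eq_zero_or_pos i with rfl | hi
  · -- from degree 0 to degree 1
    obtain ⟨f1, e1⟩ := h0 S.X₁ hK'
    obtain ⟨f2, e2⟩ := h0 S.X₂ hE'
    obtain ⟨f3, e3⟩ := h0 S.X₃ hF'
    haveI := f1
    haveI := f2
    haveI := f3
    obtain ⟨f4, e4⟩ := finrank_ext_one (k := k) hS (ωP k n) (hExtE 1 le_rfl)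
    refine ⟨f4, ?_⟩
    show Module.finrank k (Ext S.X₃ (ωP k n) 1) = cdim k n S.X₃ 1
    have c1 : cdim k n S.X₁ 0 = Module.finrank k (Coh.HH (CohB1.ProjSpace n k) S.X₁ n) := by
      simp [cdim]
    have c2 : cdim k n S.X₂ 0 = Module.finrank k (Coh.HH (CohB1.ProjSpace n k) S.X₂ n) := by
      simp [cdim]
    have c3 : cdim k n S.X₃ 0 = Module.finrank k (Coh.HH (CohB1.ProjSpace n k) S.X₃ n) := by
      simp [cdim]
    rw [e1, e2, e3, c1, c2, c3] at e4
    haveI : Coh.IsQCoh S.X₁ := hK'.1
    haveI : Coh.IsQCoh S.X₂ := hE'.1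
    rcases Nat.eq_zero_or_pos n with hn | hn
    · -- `n = 0`
      have c4 : cdim k n S.X₃ 1 = 0 := by
        simp [cdim, hn]
      rw [c4]
      haveI := fin1
      haveI := fin2
      have hsub1 : Subsingleton (Coh.HH (CohB1.ProjSpace n k) S.X₁ (n + 1)) :=
        Groth.Agent.S0022.result n k S.X₁ (n + 1) (by omega)
      have hsub2 : Subsingleton (Coh.HH (CohB1.ProjSpace n k) S.X₂ (n + 1)) :=
        Groth.Agent.S0022.result n k S.X₂ (n + 1) (by omega)
      have hinj' : ∀ j, j = 0 → Function.Injective (Canon.HHlin k S.f j) := by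
        rintro j rfl
        exact Groth.Agent.LESLin.injective_HHlin_f_zero k S hS
      have hinj : Function.Injective (Canon.HHlin k S.f n) := hinj' n hn
      have hsurj : Function.Surjective (Canon.HHlin k S.f (n + 1)) := fun y =>
        ⟨0, Subsingleton.elim _ _⟩
      obtain ⟨_, e5⟩ := Groth.Agent.LESLin.finrank_five k S hS n hinj hsurj
      have z1 : Module.finrank k (Coh.HH (CohB1.ProjSpace n k) S.X₁ (n + 1)) = 0 :=
        Module.finrank_zero_of_subsingleton
      have z2 : Module.finrank k (Coh.HH (CohB1.ProjSpace n k) S.X₂ (n + 1)) = 0 :=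
        Module.finrank_zero_of_subsingleton
      omega
    · -- `n ≥ 1`
      obtain ⟨q, hq⟩ : ∃ q, n = q + 1 := ⟨n - 1, by omega⟩
      have c4 : cdim k n S.X₃ 1 =
          Module.finrank k (Coh.HH (CohB1.ProjSpace n k) S.X₃ (n - 1)) := by
        simp only [cdim]
        rw [if_pos (by omega)]
      rw [c4]
      haveI := fin1
      haveI := fin2
      have hsurj : Function.Surjective (Canon.HHlin k S.g (n - 1 + 1)) := by
        have h1 : n - 1 + 1 = n := by omega
        rw [h1]
        exact surjective_hmap_top n k S hS hK'.1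
      obtain ⟨_, e5⟩ := finrank_of_vanish_surj k S hS (n - 1) (hHE (n - 1) (by omega)) hsurj
      have h1 : n - 1 + 1 = n := by omega
      rw [h1] at e5
      omega
  · -- from degree `i ≥ 1` to degree `i + 1`
    obtain ⟨e⟩ := nonempty_linearEquiv_of_vanish (k := k) hS (ωP k n) i (hExtE i hi)
      (hExtE (i + 1) (by omega))
    obtain ⟨f1, e1⟩ := ih S.X₁ hK'
    haveI := f1
    haveI : Module.Finite k (Ext S.X₃ (ωP k n) (i + 1)) := Module.Finite.equiv e
    refine ⟨inferInstance, ?_⟩
    rw [← e.finrank_eq, e1]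
    haveI := fin1
    by_cases hin : i + 1 ≤ n
    · -- `i + 1 ≤ n`
      have c1 : cdim k n S.X₁ i =
          Module.finrank k (Coh.HH (CohB1.ProjSpace n k) S.X₁ (n - i)) := by
        simp only [cdim]
        rw [if_pos (by omega)]
      have c3 : cdim k n S.X₃ (i + 1) =
          Module.finrank k (Coh.HH (CohB1.ProjSpace n k) S.X₃ (n - (i + 1))) := by
        simp only [cdim]
        rw [if_pos hin]
      rw [c1, c3]
      have h1 : n - i = n - (i + 1) + 1 := by omega
      rw [h1]
      obtain ⟨_, e5⟩ := finrank_of_vanish_two k S hS (n - (i + 1)) (hHE _ (by omega))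
        (hHE _ (by omega))
      exact e5.symm
    · by_cases hin' : i = n
      · -- `i = n`
        have c1 : cdim k n S.X₁ i =
            Module.finrank k (Coh.HH (CohB1.ProjSpace n k) S.X₁ 0) := by
          simp only [cdim]
          rw [if_pos (by omega), hin', Nat.sub_self]
        have c3 : cdim k n S.X₃ (i + 1) = 0 := by
          simp only [cdim]
          rw [if_neg hin]
        rw [c1, c3]
        have hinj := Groth.Agent.LESLin.injective_HHlin_f_zero k S hS
        haveI := hHE 0 (by omega)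
        haveI : Subsingleton (Coh.HH (CohB1.ProjSpace n k) S.X₁ 0) := hinj.subsingleton
        exact Module.finrank_zero_of_subsingleton
      · have c1 : cdim k n S.X₁ i = 0 := by
          simp only [cdim]
          rw [if_neg (by omega)]
        have c3 : cdim k n S.X₃ (i + 1) = 0 := by
          simp only [cdim]
          rw [if_neg hin]
        rw [c1, c3]

theorem main (i : ℕ) : PP k n i := by
  induction i with
  | zero => exact base k n
  | succ i ih => exact step k n i ih (base k n)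

/-- **Serre duality on projective space**, in the form of existence of linear isomorphisms. -/
theorem ext_dual (F : (CohB1.ProjSpace n k).Modules) (hF : Coh.IsCoh F) :
    (∀ i : ℕ, i ≤ n → Nonempty (Ext F (ωP k n) i ≃ₗ[k]
      Module.Dual k (Coh.HH (CohB1.ProjSpace n k) F (n - i)))) ∧
    ∀ i : ℕ, n < i → Subsingleton (Ext F (ωP k n) i) := by
  constructor
  · intro i hi
    obtain ⟨f1, e1⟩ := main k n i F hF
    haveI := f1
    haveI := finite_HH k n F hF (n - i)
    have c1 : cdim k n F i = Module.finrank k (Coh.HH (CohB1.ProjSpace n k) F (n - i)) := by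
      simp only [cdim]
      rw [if_pos hi]
    rw [c1] at e1
    exact ⟨LinearEquiv.ofFinrankEq _ _ (e1.trans Subspace.dual_finrank_eq.symm)⟩
  · intro i hi
    obtain ⟨f1, e1⟩ := main k n i F hF
    haveI := f1
    have c1 : cdim k n F i = 0 := by
      simp only [cdim]
      rw [if_neg (by omega)]
    rw [c1] at e1
    exact Module.finrank_zero_iff.mp e1

/-- vanishing of `Ext^i(F, ω)` is equivalent to vanishing of `H^{n-i}(F)` -/
theorem ext_subsingleton_iff (F : (CohB1.ProjSpace n k).Modules) (hF : Coh.IsCoh F) (i : ℕ)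
    (hi : i ≤ n) :
    Subsingleton (Ext F (ωP k n) i) ↔
      Subsingleton (Coh.HH (CohB1.ProjSpace n k) F (n - i)) := by
  obtain ⟨f1, e1⟩ := main k n i F hF
  haveI := f1
  haveI := finite_HH k n F hF (n - i)
  have c1 : cdim k n F i = Module.finrank k (Coh.HH (CohB1.ProjSpace n k) F (n - i)) := by
    simp only [cdim]
    rw [if_pos hi]
  rw [c1] at e1
  rw [← Module.finrank_zero_iff (R := k), ← Module.finrank_zero_iff (R := k), e1]

end Main

end Groth.Agent.ExtDual
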