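import Mathlib

/-!
# Supports of tensor products and base changes of finite modules (helper8)
APPEND-ONLY once landed.
-/

set_option autoImplicit false

namespace SuppTensH8

open TensorProduct

universe u v w

section Field

variable {k : Type u} [Field k] {V : Type v} {W : Type w} [AddCommGroup V] [Module k V]
  [AddCommGroup W] [Module k W]

theorem subsingleton_tensor_field_iff :
    Subsingleton (V ⊗[k] W) ↔ Subsingleton V ∨ Subsingleton W := by
  constructor
  · intro h
    by_contra hne
    rw [not_or, not_subsingleton_iff_nontrivial, not_subsingleton_iff_nontrivial] at hne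
    obtain ⟨hV, hW⟩ := hne
    have := (Module.FaithfullyFlat.subsingleton_tensorProduct_iff_right k V (N := W)).mp h
    exact not_subsingleton W this
  · rintro (h | h) <;> infer_instance

end Field

section Supp

variable {R : Type u} [CommRing R] {M N : Type u} [AddCommGroup M] [Module R M] [AddCommGroup N]
  [Module R N]

theorem support_tensorProduct [Module.Finite R M] [Module.Finite R N] :
    Module.support R (M ⊗[R] N) = Module.support R M ∩ Module.support R N := by
  ext p
  rw [Set.mem_inter_iff, Module.mem_support_iff_nontrivial_residueField_tensorProduct,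
    Module.mem_support_iff_nontrivial_residueField_tensorProduct,
    Module.mem_support_iff_nontrivial_residueField_tensorProduct]
  have e : p.asIdeal.ResidueField ⊗[R] (M ⊗[R] N) ≃ₗ[p.asIdeal.ResidueField]
      (p.asIdeal.ResidueField ⊗[R] M) ⊗[p.asIdeal.ResidueField] (p.asIdeal.ResidueField ⊗[R] N) :=
    AlgebraTensorModule.distribBaseChange R p.asIdeal.ResidueField M N
  rw [e.nontrivial_congr, ← not_subsingleton_iff_nontrivial, ← not_subsingleton_iff_nontrivial,
    ← not_subsingleton_iff_nontrivial, subsingleton_tensor_field_iff, not_or]

end Supp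

section Local

variable {R S : Type u} [CommRing R] [CommRing S] [IsLocalRing R] [IsLocalRing S] [Algebra R S]
  [IsLocalHom (algebraMap R S)] {M N : Type u} [AddCommGroup M] [Module R M] [Module.Finite R M]
  [AddCommGroup N] [Module R N] [Module S N] [IsScalarTower R S N]

open IsLocalRing in
theorem subsingleton_iff_of_isBaseChange_local (f : M →ₗ[R] N) (hf : IsBaseChange S f) :
    Subsingleton N ↔ Subsingleton M := by
  have e0 : S ⊗[R] M ≃ₗ[S] N := hf.equiv
  constructor
  · intro hN
    haveI : Subsingleton (S ⊗[R] M) := e0.toEquiv.subsingleton
    rw [← IsLocalRing.subsingleton_tensorProduct (R := R) (M := M)]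
    let e1 : ResidueField S ⊗[S] (S ⊗[R] M) ≃ₗ[ResidueField S] ResidueField S ⊗[R] M :=
      AlgebraTensorModule.cancelBaseChange R S (ResidueField S) (ResidueField S) M
    let e2 : ResidueField S ⊗[ResidueField R] (ResidueField R ⊗[R] M) ≃ₗ[ResidueField S]
        ResidueField S ⊗[R] M :=
      AlgebraTensorModule.cancelBaseChange R (ResidueField R) (ResidueField S) (ResidueField S) M
    haveI h1 : Subsingleton (ResidueField S ⊗[R] M) := e1.symm.toEquiv.subsingleton
    haveI h2 : Subsingleton (ResidueField S ⊗[ResidueField R] (ResidueField R ⊗[R] M)) :=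
      e2.toEquiv.subsingleton
    rcases subsingleton_tensor_field_iff.mp h2 with h | h
    · exact absurd h (not_subsingleton _)
    · exact h
  · intro hM
    exact e0.symm.toEquiv.subsingleton

end Local

end SuppTensH8
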