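import Mathlib
import Groth.Prelude
import Groth.Agent.Lib.SuppTens1_helper8
import Groth.Agent.Lib.TensQC3_helper8
import Groth.Agent.Lib.AnnSh2_helper8
import Groth.Agent.Lib.SuppStalk2_helper8
import Groth.Agent.Lib.Fpqc1_helper8

/-!
# Supports of tensor products and pullbacks of quasi-coherent modules of finite type (helper8)
APPEND-ONLY once landed.
-/

set_option autoImplicit false

namespace SuppTensH8

open AlgebraicGeometry CategoryTheory CategoryTheory.Limits TopologicalSpace Opposite TensorProduct
open QcqsLoc TensH8 TensQCH8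

universe u

section A

variable {X : Scheme.{u}} (F G : X.Modules) [F.IsQuasicoherent] [G.IsQuasicoherent]

/-- The support of the tensor product of two quasi-coherent modules of finite type. -/
theorem support_tensorMod (hF : SheafOfModules.IsFiniteType (R := X.ringCatSheaf) F)
    (hG : SheafOfModules.IsFiniteType (R := X.ringCatSheaf) G) :
    CohB1.support (CohB1.tensorMod F G) = CohB1.support F ∩ CohB1.support G := by
  haveI := isQuasicoherent_tensorMod F G
  ext x
  obtain ⟨_, ⟨U, hU, rfl⟩, hxU, -⟩ :=
    X.isBasis_affineOpens.exists_subset_of_mem_open (Set.mem_univ x) isOpen_univ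
  have hxU : x ∈ U := hxU
  have hU : IsAffineOpen U := hU
  haveI := QCohFT.finite_of_isFiniteType F hU
  haveI := QCohFT.finite_of_isFiniteType G hU
  rw [Set.mem_inter_iff, ← AnnSh2H8.mem_support_iff _ hU hxU, ← AnnSh2H8.mem_support_iff F hU hxU,
    ← AnnSh2H8.mem_support_iff G hU hxU]
  have e : PU F G U ≃ₗ[Γ(X, U)] Γ(CohB1.tensorMod F G, U) :=
    LinearEquiv.ofBijective (etaLin F G U) (eta_bijective F G hU)
  rw [← e.support_eq]
  have h := support_tensorProduct (R := Γ(X, U)) (M := Γ(F, U)) (N := Γ(G, U))
  have h' : Module.support Γ(X, U) (PU F G U) =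
      Module.support Γ(X, U) Γ(F, U) ∩ Module.support Γ(X, U) Γ(G, U) := h
  rw [h', Set.mem_inter_iff]

end A

section B

variable {X Y : Scheme.{u}} (f : X ⟶ Y) (F : Y.Modules) [F.IsQuasicoherent]

/-- The support of the pullback of a quasi-coherent module of finite type. -/
theorem support_pullback [SheafOfModules.IsFiniteType (R := Y.ringCatSheaf) F] :
    CohB1.support ((Scheme.Modules.pullback f).obj F) = f ⁻¹' CohB1.support F := by
  ext x
  show ¬ Subsingleton (((Scheme.Modules.pullback f).obj F).presheaf.stalk x) ↔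
    ¬ Subsingleton (F.presheaf.stalk (f x))
  rw [not_iff_not]
  letI := (f.stalkMap x).hom.toAlgebra
  letI : Module (Y.presheaf.stalk (f x))
      (((Scheme.Modules.pullback f).obj F).presheaf.stalk x) :=
    Module.compHom _ (f.stalkMap x).hom
  haveI : IsScalarTower (Y.presheaf.stalk (f x)) (X.presheaf.stalk x)
      (((Scheme.Modules.pullback f).obj F).presheaf.stalk x) :=
    IsScalarTower.of_algebraMap_smul fun _ _ => rfl
  haveI : IsLocalHom (algebraMap (Y.presheaf.stalk (f x)) (X.presheaf.stalk x)) :=
    inferInstanceAs (IsLocalHom (f.stalkMap x).hom)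
  haveI := SuppStalkH8.finite_stalk F (f x)
  exact subsingleton_iff_of_isBaseChange_local (PBH8.cStalkLin f F x) (PBH8.isBaseChange_cStalk f F x)

end B

end SuppTensH8
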