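import Mathlib
import Groth.Prelude.Def_CohB1
import Groth.Agent.Lib.EpiLoc_helper9
import Groth.Agent.Lib.QCohFT_helper9
import Groth.Agent.Lib.QcqsLoc_helper9

/-!
# The support of a module of finite type is closed (no quasi-coherence needed)
-/

universe u

open CategoryTheory CategoryTheory.Limits AlgebraicGeometry Opposite TopologicalSpace
open Groth.Agent.Lib.QCohLoc_helper4 QCohFT QcqsLoc

namespace SuppFT

variable {Y : Scheme.{u}}

/-- The section of `N` over `U` defined by `φ : O ⟶ N`. -/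
noncomputable def gen (N : 𝒞 Y) (φ : unitS Y ⟶ N) (U : Y.Opens) : N.val.obj (op U) :=
  secHom _ _ U φ (1 : (Y.ringCatSheaf.obj.obj (op U) : Type u))

set_option backward.isDefEq.respectTransparency false in
theorem gen_res (N : 𝒞 Y) (φ : unitS Y ⟶ N) {U V : Y.Opens} (h : V ≤ U) :
    gen N φ V = N.val.map (homOfLE h).op (gen N φ U) := by
  have h1 := PresheafOfModules.naturality_apply φ.val (homOfLE h).op
    (1 : (Y.ringCatSheaf.obj.obj (op U) : Type u))
  have h2 : (unitS Y).val.map (homOfLE h).op (1 : (Y.ringCatSheaf.obj.obj (op U) : Type u)) =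
      (1 : (Y.ringCatSheaf.obj.obj (op V) : Type u)) := PresheafOfModules.unit_map_one _ _
  rw [h2] at h1
  exact h1

set_option backward.isDefEq.respectTransparency false in
theorem subsingleton_of_gen_eq_zero {I : Type u} [Finite I] (N : Y.Modules)
    (π : (freeS Y I : Y.Modules) ⟶ N) [Epi π] (U : Y.Opens)
    (h0 : ∀ i : I, gen N (SheafOfModules.ιFree i ≫ π) U = 0) (U' : Y.Opens) (hU' : U' ≤ U) :
    Subsingleton Γ(N, U') := by
  refine subsingleton_of_forall_eq 0 (fun m => ?_)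
  apply eq_zero_of_cover N m
  intro y hy
  obtain ⟨V, hV, hyV, t, ht⟩ := EpiLoc.exists_local_lift π m hy
  refine ⟨V, hV, hyV, ?_⟩
  have hspan := range_le_span (N := N) π V t
  have hz : ∀ i : I, secHom _ _ V (SheafOfModules.ιFree i ≫ π)
      (1 : (Y.ringCatSheaf.obj.obj (op V) : Type u)) = 0 := by
    intro i
    have h1 := gen_res N (SheafOfModules.ιFree i ≫ π) (hV.trans hU')
    have h00 := h0 i
    rw [h00, map_zero] at h1
    exact h1
  have hbot : (Set.range fun i : I => secHom _ _ V (SheafOfModules.ιFree i ≫ π)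
      (1 : (Y.ringCatSheaf.obj.obj (op V) : Type u))) ⊆ {0} := by
    rintro _ ⟨i, rfl⟩
    exact hz i
  have hmem := Submodule.span_mono hbot hspan
  rw [Submodule.span_zero_singleton, Submodule.mem_bot] at hmem
  exact ht.symm.trans hmem

set_option backward.isDefEq.respectTransparency false in
theorem isClosed_support {X : Scheme.{u}} (M : X.Modules)
    [hFT : SheafOfModules.IsFiniteType (R := X.ringCatSheaf) M] :
    IsClosed (CohB1.support M) := by
  classical
  rw [← isOpen_compl_iff, isOpen_iff_forall_mem_open]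
  intro x hx
  have hx0 : Subsingleton (M.presheaf.stalk x) := by
    by_contra h
    exact hx h
  obtain ⟨σ, hσ⟩ := SheafOfModules.IsFiniteType.exists_localGeneratorsData (R := X.ringCatSheaf) M
  have hcov := σ.coversTop
  rw [Opens.coversTop_iff] at hcov
  have hx' : x ∈ (⨆ i, σ.X i : X.Opens) := by rw [hcov]; trivial
  simp only [Opens.mem_iSup] at hx'
  obtain ⟨i, hxi⟩ := hx'
  obtain ⟨W, hxW0, G, hfin⟩ : ∃ (W : X.Opens) (_ : x ∈ W)
      (G : SheafOfModules.GeneratingSections (R := (W : Scheme.{u}).ringCatSheaf)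
        (M.restrict W.ι)), Finite G.I := by
    refine ⟨σ.X i, hxi, generatingSectionsRestrict M (σ.X i) (σ.X i) le_rfl (σ.generators i), ?_⟩
    rw [generatingSectionsRestrict_I]
    exact (hσ.isFiniteType i).finite
  haveI : Finite G.I := hfin
  let N : (W : Scheme.{u}).Modules := M.restrict W.ι
  let π : (freeS (W : Scheme.{u}) G.I : (W : Scheme.{u}).Modules) ⟶ N := G.π
  haveI : Epi π := G.epi
  have key : ∀ j : G.I, ∃ V : X.Opens, x ∈ V ∧
      gen N (SheafOfModules.ιFree j ≫ π) (W.ι ⁻¹ᵁ V) = 0 := by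
    intro j
    let g : Γ(M, W.ι ''ᵁ ⊤) := gen N (SheafOfModules.ιFree j ≫ π) ⊤
    have hxW : x ∈ W.ι ''ᵁ ⊤ := by
      rw [Scheme.Opens.ι_image_top]; exact hxW0
    obtain ⟨V, hxV, iV, hV0⟩ := SupportCoh.exists_res_eq_zero M hxW g (Subsingleton.elim _ _)
    refine ⟨V, hxV, ?_⟩
    rw [gen_res N _ (le_top : W.ι ⁻¹ᵁ V ≤ ⊤)]
    have hle : W.ι ''ᵁ (W.ι ⁻¹ᵁ V) ≤ V := by
      rw [Scheme.Hom.image_preimage_eq_opensRange_inf]; exact inf_le_right
    have h3 := congrArg (M.presheaf.map (homOfLE hle).op) hV0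
    rw [map_zero] at h3
    exact (map_map_eq M iV.op (homOfLE hle).op
      (homOfLE (W.ι.image_mono (le_top : W.ι ⁻¹ᵁ V ≤ ⊤))).op g).symm.trans h3
  choose Vj hxVj hVj0 using key
  haveI := Fintype.ofFinite G.I
  let V : X.Opens := W ⊓ ⟨⋂ j, (Vj j : Set X), isOpen_iInter_of_finite (fun j => (Vj j).2)⟩
  have hxV : x ∈ V := ⟨hxW0, Set.mem_iInter.mpr hxVj⟩
  have hVle : ∀ j, V ≤ Vj j := fun j y hy => Set.mem_iInter.mp hy.2 j
  have h0 : ∀ j : G.I, gen N (SheafOfModules.ιFree j ≫ π) (W.ι ⁻¹ᵁ V) = 0 := by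
    intro j
    have hle : W.ι ⁻¹ᵁ V ≤ W.ι ⁻¹ᵁ (Vj j) := fun y hy => hVle j hy
    rw [gen_res N _ hle, hVj0 j, map_zero]
  have hsub := subsingleton_of_gen_eq_zero N π (W.ι ⁻¹ᵁ V) h0
  refine ⟨V, ?_, V.2, hxV⟩
  intro y hy hys
  apply hys
  rw [SupportCoh.subsingleton_stalk_iff]
  intro U₁ hy1 m
  have hU3 : W.ι ''ᵁ (W.ι ⁻¹ᵁ (U₁ ⊓ V)) ≤ U₁ := by
    rw [Scheme.Hom.image_preimage_eq_opensRange_inf]
    exact inf_le_right.trans inf_le_left
  have hy3 : y ∈ W.ι ''ᵁ (W.ι ⁻¹ᵁ (U₁ ⊓ V)) := by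
    rw [Scheme.Hom.image_preimage_eq_opensRange_inf, Scheme.Opens.opensRange_ι]
    exact ⟨hy.1, hy1, hy⟩
  have hs := hsub (W.ι ⁻¹ᵁ (U₁ ⊓ V)) (fun z hz => hz.2)
  have h4 : M.presheaf.map (homOfLE hU3).op m = 0 := @Subsingleton.elim _ hs _ _
  exact SupportCoh.germ_eq_zero_of_res M hy3 (homOfLE hU3) m h4

end SuppFT
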