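import Mathlib
import Groth.Prelude.Def_CohB1
import Groth.Agent.Lib.AffVanish_helper9
import Groth.Agent.Lib.SuppFT_helper9

/-!
# Coherent modules with zero-dimensional support are acyclic

A sheaf whose support is a set all of whose subsets are closed is flasque.
-/

universe u

open CategoryTheory CategoryTheory.Limits AlgebraicGeometry Opposite TopologicalSpace

namespace ZeroDimAcyc

open AffVanish (Sec rs apS)

/-- A Noetherian quasi-sober `T₁` space is finite. -/
theorem finite_of_noetherian_t1_quasiSober (S : Type*) [TopologicalSpace S] [NoetherianSpace S]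
    [T1Space S] [QuasiSober S] : Finite S := by
  have hfin := NoetherianSpace.finite_irreducibleComponents (α := S)
  have hcov : (⋃₀ irreducibleComponents S) = Set.univ := sUnion_irreducibleComponents
  have hsing : ∀ C ∈ irreducibleComponents S, C.Subsingleton := by
    intro C hC
    have hirr : IsIrreducible C := hC.1
    have hcl : IsClosed C := isClosed_of_mem_irreducibleComponents C hC
    obtain ⟨η, hη⟩ := QuasiSober.sober hirr hcl
    have hC' : C = {η} := by rw [← hη.def, closure_singleton]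
    rw [hC']
    exact Set.subsingleton_singleton
  have huniv : (Set.univ : Set S).Finite := by
    rw [← hcov]
    exact hfin.sUnion (fun C hC => (hsing C hC).finite)
  exact Set.finite_univ_iff.mp huniv

theorem finite_inter {Y : Type*} [TopologicalSpace Y] [QuasiSober Y] (A Z : Set Y)
    (hA : IsOpen A) [NoetherianSpace A] (hZ : IsClosed Z)
    (hpt : ∀ z ∈ Z, IsClosed ({z} : Set Y)) : (Z ∩ A).Finite := by
  haveI : QuasiSober A := (hA.isOpenEmbedding_subtypeVal).quasiSober
  haveI : QuasiSober (Z ∩ A : Set Y) := QuasiSober.inter_of_isClosed_of_quasiSober_right Z hZ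
  haveI : NoetherianSpace (Z ∩ A : Set Y) := (noetherianSpace_set_iff _).mpr
    (fun t ht => (noetherianSpace_set_iff A).mp inferInstance t (ht.trans Set.inter_subset_right))
  haveI : T1Space (Z ∩ A : Set Y) := ⟨fun s => by
    have e : ({s} : Set ↥(Z ∩ A)) = Subtype.val ⁻¹' {s.1} := by
      ext t
      simp [Subtype.ext_iff]
    rw [e]
    exact (hpt s.1 s.2.1).preimage continuous_subtype_val⟩
  haveI := finite_of_noetherian_t1_quasiSober ↥(Z ∩ A)
  exact Set.toFinite _

/-- On a locally Noetherian scheme, every subset of a closed set of closed points is closed. -/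
theorem isClosed_of_subset (X : Scheme.{u}) [IsLocallyNoetherian X] (Z : Set X) (hZ : IsClosed Z)
    (hpt : ∀ z ∈ Z, IsClosed ({z} : Set X)) (T : Set X) (hT : T ⊆ Z) : IsClosed T := by
  rw [← isOpen_compl_iff, isOpen_iff_forall_mem_open]
  intro x hx
  obtain ⟨A, hA, hxA, -⟩ := Opens.isBasis_iff_nbhd.mp X.isBasis_affineOpens
    (show x ∈ (⊤ : X.Opens) from trivial)
  haveI : IsNoetherianRing Γ(X, A) := IsLocallyNoetherian.component_noetherian ⟨A, hA⟩
  haveI : NoetherianSpace (A : Set X) := noetherianSpace_of_isAffineOpen A hA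
  have hfin : (Z ∩ (A : Set X)).Finite := finite_inter (A : Set X) Z A.2 hZ hpt
  have hfin' : (T ∩ (A : Set X)).Finite := hfin.subset (Set.inter_subset_inter_left _ hT)
  have hcl : IsClosed (T ∩ (A : Set X)) := by
    have e : T ∩ (A : Set X) = ⋃ t ∈ T ∩ (A : Set X), {t} := by
      ext y
      simp
    rw [e]
    exact hfin'.isClosed_biUnion (fun t ht => hpt t (hT ht.1))
  refine ⟨(A : Set X) ∩ (T ∩ (A : Set X))ᶜ, ?_, A.2.inter hcl.isOpen_compl, ⟨hxA, fun h => hx h.1⟩⟩
  rintro y ⟨hyA, hyn⟩ hyT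
  exact hyn ⟨hyT, hyA⟩

/-- A sheaf whose support is contained in a set all of whose subsets are closed is flasque. -/
theorem isFlasque_of_discrete_support {Y : TopCat.{u}} (F : TopCat.Sheaf AddCommGrpCat.{u} Y)
    (Z : Set Y) (hZ : ∀ x, x ∉ Z → Subsingleton (F.presheaf.stalk x))
    (hcl : ∀ T ⊆ Z, IsClosed T) : TopCat.Sheaf.IsFlasque F := by
  refine ⟨fun {U V} i => ?_⟩
  rw [AddCommGrpCat.epi_iff_surjective]
  intro s
  have hVU : V.unop ≤ U.unop := leOfHom i.unop
  have hT : IsClosed (Z ∩ (V.unop : Set Y)) := hcl _ Set.inter_subset_left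
  let W : Opens Y := U.unop ⊓ ⟨(Z ∩ (V.unop : Set Y))ᶜ, hT.isOpen_compl⟩
  have hWU : W ≤ U.unop := inf_le_left
  have hcov : U.unop ≤ V.unop ⊔ W := by
    intro x hx
    by_cases hxT : x ∈ Z ∩ (V.unop : Set Y)
    · exact Or.inl hxT.2
    · exact Or.inr ⟨hx, hxT⟩
  have hagree : rs F (inf_le_left : V.unop ⊓ W ≤ V.unop) s =
      rs F (inf_le_right : V.unop ⊓ W ≤ W) 0 := by
    rw [map_zero]
    apply TopCat.Presheaf.section_ext F (V.unop ⊓ W) _ 0
    intro x hx
    haveI : Subsingleton (F.presheaf.stalk x) := hZ x (fun hxZ => hx.2.2 ⟨hxZ, hx.1⟩)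
    exact Subsingleton.elim _ _
  obtain ⟨t, ht1, -⟩ := AffVanish.glue₂ F hVU hWU hcov s 0 hagree
  have hi : i = (homOfLE hVU).op := Subsingleton.elim _ _
  refine ⟨t, ?_⟩
  rw [hi]
  exact ht1

/-- Coherent modules with zero-dimensional support on a locally Noetherian scheme are acyclic. -/
theorem HH_subsingleton_of_zero_dim (X : Scheme.{u}) [IsLocallyNoetherian X] (M : X.Modules)
    (hM : Coh.IsCoh M) (h0 : ∀ x ∈ CohB1.support M, IsClosed ({x} : Set X)) (i : ℕ)
    (hi : 0 < i) : Subsingleton (Coh.HH X M i) := by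
  obtain ⟨n, rfl⟩ := Nat.exists_eq_succ_of_ne_zero (Nat.pos_iff_ne_zero.mp hi)
  haveI : SheafOfModules.IsFiniteType (R := X.ringCatSheaf) M := hM.2
  have hcl := SuppFT.isClosed_support M
  haveI : TopCat.Sheaf.IsFlasque (Coh.toAb M) :=
    isFlasque_of_discrete_support (Coh.toAb M) (CohB1.support M) (fun x hx => not_not.mp hx)
      (fun T hT => isClosed_of_subset X _ hcl h0 T hT)
  exact ⟨fun a b =>
    (Groth.Agent.Lib.FlasqueAcyclic.H_eq_zero_of_isFlasque (Coh.toAb M) n a).trans
      (Groth.Agent.Lib.FlasqueAcyclic.H_eq_zero_of_isFlasque (Coh.toAb M) n b).symm⟩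

end ZeroDimAcyc
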