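import Mathlib
import Groth.Prelude
import Groth.Agent.Lib.ProjTens2_helper9
import Groth.Agent.Lib.ZeroDimAcyc_helper9
import Groth.Agent.Lib.SuppTens2_helper8
import Groth.Agent.Lib.CohKer_helper8
import Groth.Agent.Lib.HHVan_helper9

/-!
# Twists of modules with zero-dimensional support on projective space are acyclic (helper9)
APPEND-ONLY once landed.
-/

set_option autoImplicit false
universe u
open CategoryTheory CategoryTheory.Limits AlgebraicGeometry TopologicalSpace Opposite MvPolynomial

namespace Groth.Agent.RegZero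

open Groth.Agent.ProjCech Groth.Agent.ProjFin Groth.Agent.TensInv Groth.Agent.HHVan
  Groth.Agent.ProjTens

/-- On a scheme, if the support of a finite type module has Krull dimension at most zero then all
its points are closed. -/
theorem isClosed_singleton_of_support_dim_le_zero {X : Scheme.{u}} (F : X.Modules)
    (hF : Coh.IsCoh F) (hsupp : topologicalKrullDim (CohB1.support F) ≤ 0) :
    ∀ x ∈ CohB1.support F, IsClosed ({x} : Set X) := by
  haveI : SheafOfModules.IsFiniteType (R := X.ringCatSheaf) F := hF.2
  have hcl : IsClosed (CohB1.support F) := SuppFT.isClosed_support F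
  have hmax := Order.krullDim_nonpos_iff_forall_isMax.mp hsupp
  have hspec : ∀ {a b : CohB1.support F}, a ⤳ b → a = b := by
    intro a b hab
    let Za : TopologicalSpace.IrreducibleCloseds (CohB1.support F) :=
      ⟨closure {a}, isIrreducible_singleton.closure, isClosed_closure⟩
    let Zb : TopologicalSpace.IrreducibleCloseds (CohB1.support F) :=
      ⟨closure {b}, isIrreducible_singleton.closure, isClosed_closure⟩
    have hle : Zb ≤ Za := by
      intro z hz
      exact (specializes_iff_closure_subset.mp hab) hz
    have hle' : Za ≤ Zb := hmax Zb hle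
    have hba : b ⤳ a := specializes_iff_closure_subset.mpr (fun z hz => hle' hz)
    exact (hab.antisymm hba).eq
  intro x hx
  rw [← closure_eq_iff_isClosed]
  apply Set.Subset.antisymm _ subset_closure
  intro y hy
  have hxy : x ⤳ y := specializes_iff_mem_closure.mpr hy
  have hyZ : y ∈ CohB1.support F := hcl.closure_subset_iff.mpr (Set.singleton_subset_iff.mpr hx) hy
  have h1 : (⟨x, hx⟩ : CohB1.support F) ⤳ ⟨y, hyZ⟩ := (subtype_specializes_iff _ _).mpr hxy
  have h2 := hspec h1
  exact (congrArg Subtype.val h2).symm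

variable (n : ℕ) (R : Type u) [CommRing R]

theorem isCoh_twistBy (F : (CohB1.ProjSpace n R).Modules) (hF : Coh.IsCoh F) (d : ℤ) :
    Coh.IsCoh (CohB1.tensorMod F (OO n R d)) := by
  haveI : F.IsQuasicoherent := hF.1
  haveI : (OO n R d).IsQuasicoherent := Groth.Agent.ProjTw.isQuasicoherent_twist _ _
  exact ⟨TensQCH8.isQuasicoherent_tensorMod _ _,
    TensQCH8.isFiniteType_tensorMod F _ hF.2 (Groth.Agent.ProjTw.isFiniteType_twist (𝒜 n R) (hcov' n R) _)⟩

theorem support_twistBy_subset (F : (CohB1.ProjSpace n R).Modules) (hF : Coh.IsCoh F) (d : ℤ) :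
    CohB1.support (CohB1.tensorMod F (OO n R d)) ⊆ CohB1.support F := by
  haveI : F.IsQuasicoherent := hF.1
  haveI : (OO n R d).IsQuasicoherent := Groth.Agent.ProjTw.isQuasicoherent_twist _ _
  have h := SuppTensH8.support_tensorMod F (OO n R d) hF.2
    (Groth.Agent.ProjTw.isFiniteType_twist (𝒜 n R) (hcov' n R) d)
  rw [h]
  exact Set.inter_subset_left

/-- Twists of a coherent module with zero-dimensional support on `P^n_R` (`R` Noetherian) have no
higher cohomology. -/
theorem subsingleton_HH_twist_of_support_dim_le_zero [IsNoetherianRing R]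
    (Q : (CohB1.ProjSpace n R).Modules) (hQ : Coh.IsCoh Q)
    (hsupp : topologicalKrullDim (CohB1.support Q) ≤ 0) (d : ℤ) (i : ℕ) (hi : 0 < i) :
    Subsingleton (Coh.HH (CohB1.ProjSpace n R) (CohB1.tensorMod Q (OO n R d)) i) := by
  haveI hNoeth : AlgebraicGeometry.IsNoetherian (CohB1.ProjSpace n R) :=
    Groth.Agent.S2357.result (𝒜 n R)
  have h0 := isClosed_singleton_of_support_dim_le_zero Q hQ hsupp
  refine ZeroDimAcyc.HH_subsingleton_of_zero_dim _ _ (isCoh_twistBy n R Q hQ d) ?_ i hi
  intro x hx
  exact h0 x (support_twistBy_subset n R Q hQ d hx)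

end Groth.Agent.RegZero
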