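import Mathlib
import Groth.Prelude
import Groth.Agent.Lib.CMReg3_helper9
import Groth.Agent.Lib.RegZero_helper9
import Groth.Agent.Lib.ExtDual3_helper9

/-!
# Castelnuovo–Mumford: linear presentations of regular sheaves (helper9)
APPEND-ONLY once landed.
-/

set_option autoImplicit false
universe w v u
open CategoryTheory CategoryTheory.Limits AlgebraicGeometry TopologicalSpace Opposite Abelian

namespace Groth.Agent.CMReg

section Abstract

variable {C : Type u} [Category.{v} C] [Abelian C] [HasExt.{w} C]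

/-- covariant long exact sequence: vanishing at the quotient -/
theorem subsingleton_ext_right_X₃ {S : ShortComplex C} (hS : S.ShortExact) (A : C) (q : ℕ)
    (h2 : Subsingleton (Ext A S.X₂ q)) (h1 : Subsingleton (Ext A S.X₁ (q + 1))) :
    Subsingleton (Ext A S.X₃ q) := by
  have key : ∀ x : Ext A S.X₃ q, x = 0 := by
    intro x
    obtain ⟨y, hy⟩ := Ext.covariant_sequence_exact₃ A hS x rfl (Subsingleton.elim _ _)
    rw [← hy, Subsingleton.elim y 0, Ext.zero_comp]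
  exact ⟨fun x y => by rw [key x, key y]⟩

/-- covariant long exact sequence: vanishing at the sub -/
theorem subsingleton_ext_right_X₁ {S : ShortComplex C} (hS : S.ShortExact) (A : C) (q : ℕ)
    (h3 : Subsingleton (Ext A S.X₃ q)) (h2 : Subsingleton (Ext A S.X₂ (q + 1))) :
    Subsingleton (Ext A S.X₁ (q + 1)) := by
  have key : ∀ x : Ext A S.X₁ (q + 1), x = 0 := by
    intro x
    obtain ⟨y, hy⟩ := Ext.covariant_sequence_exact₁ A hS x (Subsingleton.elim _ _) rfl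
    rw [← hy, Subsingleton.elim y 0, Ext.zero_comp]
  exact ⟨fun x y => by rw [key x, key y]⟩

/-- `Ext^1(A, X₁) = 0` when `Ext^1(A, X₂) = 0` and all maps `A ⟶ X₃` lift to `X₂` -/
theorem subsingleton_ext_one_of_lift {S : ShortComplex C} (hS : S.ShortExact) (A : C)
    (hlift : ∀ χ : A ⟶ S.X₃, ∃ ψ : A ⟶ S.X₂, ψ ≫ S.g = χ)
    (h2 : Subsingleton (Ext A S.X₂ 1)) : Subsingleton (Ext A S.X₁ 1) := by
  have key : ∀ x : Ext A S.X₁ 1, x = 0 := by
    intro x
    obtain ⟨y, hy⟩ := Ext.covariant_sequence_exact₁ A hS x (Subsingleton.elim _ _)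
      (zero_add 1)
    obtain ⟨χ, rfl⟩ := (Ext.mk₀_bijective _ _).surjective y
    obtain ⟨ψ, rfl⟩ := hlift χ
    rw [← hy, ← Ext.mk₀_comp_mk₀, Ext.comp_assoc_of_second_deg_zero,
      ShortComplex.ShortExact.comp_extClass, Ext.comp_zero]
  exact ⟨fun x y => by rw [key x, key y]⟩

end Abstract

section Sigma

open Groth.Agent.ProjFin

variable {X : Scheme.{u}} [HasExt.{u} X.Modules]

theorem subsingleton_ext_sigma_right (A L : X.Modules) (r : ℕ) (j : ℕ)
    (h : Subsingleton (Ext A L j)) : Subsingleton (Ext A (∐ fun _ : Fin r => L) j) := by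
  have key : ∀ x : Ext A (∐ fun _ : Fin r => L) j, x = 0 := by
    intro x
    have h1 : x = x.comp (Ext.mk₀ (𝟙 _)) (add_zero j) := by simp
    rw [h1, ← sum_pr_ι L r, Ext.mk₀_sum, Ext.comp_sum]
    apply Finset.sum_eq_zero
    intro a _
    rw [← Ext.mk₀_comp_mk₀, ← Ext.comp_assoc_of_third_deg_zero]
    have h0 : x.comp (Ext.mk₀ (pr L r a)) (add_zero j) = 0 := Subsingleton.elim _ _
    rw [h0, Ext.zero_comp]
  exact ⟨fun x y => by rw [key x, key y]⟩

end Sigma

section Gen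

open Groth.Agent.ProjDual Groth.Agent.InvInt QcqsLoc QCohExtn SerreCrit GenLocH8 TensH8

variable {X : Scheme.{u}}

/-- morphisms out of `O_X` agreeing on `1` are equal -/
theorem hom_OO_ext {M : X.Modules} (s t : OO X ⟶ M)
    (h : ap s ⊤ (ofFn (1 : Γ(X, ⊤))) = ap t ⊤ (ofFn (1 : Γ(X, ⊤)))) : s = t := by
  have h1 : s + (-t) = 0 := by
    apply hom_OO_eq_zero
    have h2 : ap (s + (-t)) ⊤ (ofFn (1 : Γ(X, ⊤))) =
        ap s ⊤ (ofFn (1 : Γ(X, ⊤))) + ap (-t) ⊤ (ofFn (1 : Γ(X, ⊤))) := rfl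
    have h3 : ap (-t) ⊤ (ofFn (1 : Γ(X, ⊤))) = - ap t ⊤ (ofFn (1 : Γ(X, ⊤))) := rfl
    rw [h2, h3, h, add_neg_cancel]
  exact (add_neg_eq_zero.mp h1)

lemma ap_unitHom_one (M : X.Modules) (m : Γ(M, ⊤)) :
    ap (SDivGenH8.unitHom M m) ⊤ (ofFn (1 : Γ(X, ⊤))) = m := by
  rw [ap_unitHom, one_smul, rF_self]

variable {A : Type u} [CommRing A] [X.Over (Spec (CommRingCat.of A))]

/-- if `H^0(X, G)` is a finite `A`-module, `Hom(O_X, G)` is finitely generated over `End(O_X)` -/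
theorem exists_finite_gen_hom_unit (G : X.Modules) [Module.Finite A (Coh.HH X G 0)] :
    ∃ (b : ℕ) (g : Fin b → (OO X ⟶ G)), ∀ χ : OO X ⟶ G,
      ∃ c : Fin b → (OO X ⟶ OO X), χ = ∑ i, c i ≫ g i := by
  obtain ⟨b, s, hs⟩ := Module.Finite.exists_fin (R := A) (M := Coh.HH X G 0)
  refine ⟨b, fun i => SDivGenH8.unitHom G (h0 G (s i)), ?_⟩
  intro χ
  have hx : (h0 G).symm (ap χ ⊤ (ofFn (1 : Γ(X, ⊤)))) ∈ Submodule.span A (Set.range s) := by
    rw [hs]; exact Submodule.mem_top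
  obtain ⟨r, hr⟩ := (Submodule.mem_span_range_iff_exists_fun A).mp hx
  refine ⟨fun i => SDivGenH8.unitHom (OO X) (ofFn (cc A (r i))), ?_⟩
  apply hom_OO_ext
  rw [ap_sum_hom]
  have h1 : ap χ ⊤ (ofFn (1 : Γ(X, ⊤))) = ∑ i, (cc A (r i) : Γ(X, ⊤)) • h0 G (s i) := by
    have := congrArg (h0 G) hr
    rw [AddEquiv.apply_symm_apply, map_sum] at this
    rw [← this]
    apply Finset.sum_congr rfl
    intro i _
    rw [h0_smul]
  rw [h1]
  apply Finset.sum_congr rfl
  intro i _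
  rw [FLFH8.unitHom_comp, ap_unitHom_one, ap_unitHom, rF_self]

end Gen

section Transport

variable {C : Type u} [Category.{v} C] [Preadditive C]

/-- transport of finite generation of `Hom` along a fully faithful additive functor -/
theorem transport_gen (T : C ⥤ C) [T.Additive] [T.Full] [T.Faithful] {A F U : C}
    (e : T.obj A ≅ U)
    (h : ∃ (b : ℕ) (g : Fin b → (U ⟶ T.obj F)), ∀ χ : U ⟶ T.obj F,
      ∃ c : Fin b → (U ⟶ U), χ = ∑ i, c i ≫ g i) :
    ∃ (b : ℕ) (φ : Fin b → (A ⟶ F)), ∀ χ : A ⟶ F,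
      ∃ c : Fin b → (A ⟶ A), χ = ∑ i, c i ≫ φ i := by
  obtain ⟨b, g, hg⟩ := h
  refine ⟨b, fun i => T.preimage (e.hom ≫ g i), ?_⟩
  intro χ
  obtain ⟨c, hc⟩ := hg (e.inv ≫ T.map χ)
  refine ⟨fun i => T.preimage (e.hom ≫ c i ≫ e.inv), ?_⟩
  apply T.map_injective
  rw [Functor.map_sum]
  have h1 : T.map χ = e.hom ≫ ∑ i, c i ≫ g i := by
    rw [← hc, Iso.hom_inv_id_assoc]
  rw [h1, Preadditive.comp_sum]
  apply Finset.sum_congr rfl
  intro i _
  rw [Functor.map_comp, Functor.map_preimage, Functor.map_preimage]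
  simp only [Category.assoc, Iso.inv_hom_id_assoc]

end Transport

section Proj

open Groth.Agent.ProjTens Groth.Agent.TensInv Groth.Agent.ExtDual Groth.Agent.KosSh
  Groth.Agent.ProjCech Groth.Agent.ProjFin

variable (n : ℕ) (k : Type u) [Field k]

theorem exists_finite_gen_hom_tensor (F : (CohB1.ProjSpace n k).Modules) (hF : Coh.IsCoh F)
    (m : ℤ) :
    ∃ (b : ℕ) (g : Fin b → (SerreCrit.OO (CohB1.ProjSpace n k) ⟶ CohB1.tensorMod F (OO n k m))),
      ∀ χ : SerreCrit.OO (CohB1.ProjSpace n k) ⟶ CohB1.tensorMod F (OO n k m),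
      ∃ c : Fin b → (SerreCrit.OO (CohB1.ProjSpace n k) ⟶ SerreCrit.OO (CohB1.ProjSpace n k)),
        χ = ∑ i, c i ≫ g i := by
  haveI : Module.Finite k (Coh.HH (CohB1.ProjSpace n k) (CohB1.tensorMod F (OO n k m)) 0) :=
    finite_HH k n _ (Groth.Agent.RegZero.isCoh_twistBy n k F hF m) 0
  exact exists_finite_gen_hom_unit (A := k) (CohB1.tensorMod F (OO n k m))

/-- `Hom(O(-m), F)` is finitely generated over `End(O(-m))` for coherent `F` on `P^n_k` -/
theorem exists_finite_gen_hom_twist (F : (CohB1.ProjSpace n k).Modules) (hF : Coh.IsCoh F)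
    (m : ℤ) :
    ∃ (b : ℕ) (φ : Fin b → (OO n k (-m) ⟶ F)), ∀ χ : OO n k (-m) ⟶ F,
      ∃ c : Fin b → (OO n k (-m) ⟶ OO n k (-m)), χ = ∑ i, c i ≫ φ i := by
  haveI := isEquivalence_tR_twist n k m
  obtain ⟨e₁⟩ := twist_inv n k (-m) m (by omega)
  exact transport_gen (tR (OO n k m)) (A := OO n k (-m)) (F := F)
    (U := SerreCrit.OO (CohB1.ProjSpace n k)) e₁ (exists_finite_gen_hom_tensor n k F hF m)

section Ext

variable [HasExt.{u} (CohB1.ProjSpace n k).Modules]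

/-- `Ext^q(O(b), O(a)) = 0` unless `q = 0, a ≥ b` or `q = n, a - b ≤ -n-1` -/
theorem subsingleton_ext_OO (a b : ℤ) (q : ℕ) (h₀ : ¬ (q = 0 ∧ 0 ≤ a - b))
    (hn : ¬ (q = n ∧ a - b ≤ -((n : ℤ) + 1))) :
    Subsingleton (Ext (OO n k b) (OO n k a) q) := by
  refine (subsingleton_ext_twist_iff n k b (-b) (by omega) (OO n k a) q).mpr ?_
  obtain ⟨e₂⟩ := twist_add' n k a (-b) (a - b) (by omega)
  haveI : Subsingleton (Coh.HH (CohB1.ProjSpace n k) (OO n k (a - b)) q) :=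
    Groth.Agent.ProjCech.subsingleton_HH_twist (n := n) (R := k) (a - b) q h₀ hn
  exact Groth.Agent.ProjCech.subsingleton_HH_of_iso e₂ q

/-- the short exact sequence `0 → ker φ → E → F → 0` of an epimorphism -/
theorem shortExact_kernel {E F : (CohB1.ProjSpace n k).Modules} (φ : E ⟶ F) [Epi φ] :
    (ShortComplex.mk (kernel.ι φ) φ (kernel.condition φ)).ShortExact := by
  haveI : Mono (ShortComplex.mk (kernel.ι φ) φ (kernel.condition φ)).f :=
    inferInstanceAs (Mono (kernel.ι φ))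
  haveI : Epi (ShortComplex.mk (kernel.ι φ) φ (kernel.condition φ)).g :=
    inferInstanceAs (Epi φ)
  exact ShortComplex.ShortExact.mk (ShortComplex.exact_of_f_is_kernel _ (kernelIsKernel φ))

/-- (⇐) if the kernel of `O(-m)^b ↠ F` is `(m+1)`-regular then `F` is `m`-regular -/
theorem regular_of_kernel_regular (F : (CohB1.ProjSpace n k).Modules) (m : ℤ) (b : ℕ)
    (φ : (∐ fun _ : Fin b => OO n k (-m)) ⟶ F) [Epi φ]
    (hK : ∀ q : ℕ, 1 ≤ q → Subsingleton (Coh.HH (CohB1.ProjSpace n k)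
      (CohB1.tensorMod (kernel φ) (OO n k (m + 1 - q))) q))
    (i : ℕ) (hi : 1 ≤ i) (hin : i ≤ n) :
    Subsingleton (Coh.HH (CohB1.ProjSpace n k) (CohB1.tensorMod F (OO n k (m - i))) i) := by
  refine (subsingleton_ext_twist_iff n k (-(m - i)) (m - i) (by omega) F i).mp ?_
  refine subsingleton_ext_right_X₃ (shortExact_kernel n k φ) (OO n k (-(m - i))) i ?_ ?_
  · apply subsingleton_ext_sigma_right
    apply subsingleton_ext_OO n k (-m) (-(m - i)) i
    · omega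
    · omega
  · refine (subsingleton_ext_twist_iff n k (-(m - i)) (m - i) (by omega) (kernel φ) (i + 1)).mpr ?_
    have h := hK (i + 1) (by omega)
    have e : m + 1 - ((i + 1 : ℕ) : ℤ) = m - i := by push_cast; ring
    rw [e] at h
    exact h

/-- (⇒), cohomological part: if every `χ : O(-m) ⟶ F` lifts through the epimorphism `φ` and `F`
is `m`-regular, the kernel of `φ` is `(m+1)`-regular -/
theorem kernel_regular_of_lift (F : (CohB1.ProjSpace n k).Modules) (m : ℤ) (b : ℕ)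
    (φ : (∐ fun _ : Fin b => OO n k (-m)) ⟶ F) [Epi φ]
    (hlift : ∀ χ : OO n k (-m) ⟶ F, ∃ ψ : OO n k (-m) ⟶ ∐ fun _ : Fin b => OO n k (-m), ψ ≫ φ = χ)
    (h : ∀ q : ℕ, 1 ≤ q →
      Subsingleton (Coh.HH (CohB1.ProjSpace n k) (CohB1.tensorMod F (OO n k (m - q))) q))
    (i : ℕ) (hi : 1 ≤ i) (hin : i ≤ n) :
    Subsingleton (Coh.HH (CohB1.ProjSpace n k)
      (CohB1.tensorMod (kernel φ) (OO n k (m + 1 - i))) i) := by
  refine (subsingleton_ext_twist_iff n k (-(m + 1 - i)) (m + 1 - i) (by omega) (kernel φ) i).mp ?_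
  obtain ⟨j, rfl⟩ : ∃ j, i = j + 1 := ⟨i - 1, by omega⟩
  rcases Nat.eq_zero_or_pos j with hj | hj
  · subst hj
    have e : -(m + 1 - ((0 + 1 : ℕ) : ℤ)) = -m := by push_cast; ring
    rw [e]
    refine subsingleton_ext_one_of_lift (shortExact_kernel n k φ) (OO n k (-m)) hlift ?_
    apply subsingleton_ext_sigma_right
    apply subsingleton_ext_OO n k (-m) (-m) 1
    · omega
    · omega
  · refine subsingleton_ext_right_X₁ (shortExact_kernel n k φ) (OO n k (-(m + 1 - ((j + 1 : ℕ) : ℤ))))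
      j ?_ ?_
    · refine (subsingleton_ext_twist_iff n k (-(m + 1 - ((j + 1 : ℕ) : ℤ))) (m - j)
        (by push_cast; ring) F j).mpr ?_
      exact h j hj
    · apply subsingleton_ext_sigma_right
      apply subsingleton_ext_OO n k (-m) (-(m + 1 - ((j + 1 : ℕ) : ℤ))) (j + 1)
      · omega
      · push_cast
        omega

end Ext

/-- (⇒): an `m`-regular coherent `F` is a quotient of a finite sum `O(-m)^b` with
`(m+1)`-regular kernel -/
theorem exists_epi_kernel_regular (F : (CohB1.ProjSpace n k).Modules) (hF : Coh.IsCoh F) (m : ℤ)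
    (h : ∀ q : ℕ, 1 ≤ q →
      Subsingleton (Coh.HH (CohB1.ProjSpace n k) (CohB1.tensorMod F (OO n k (m - q))) q)) :
    ∃ (b : ℕ) (φ : (∐ fun _ : Fin b => OO n k (-m)) ⟶ F), Epi φ ∧
      ∀ i : ℕ, 1 ≤ i → i ≤ n → Subsingleton (Coh.HH (CohB1.ProjSpace n k)
        (CohB1.tensorMod (kernel φ) (OO n k (m + 1 - i))) i) := by
  haveI := hasExt_modules (CohB1.ProjSpace n k)
  obtain ⟨b, φs, hφs⟩ := exists_finite_gen_hom_twist n k F hF m
  obtain ⟨φ, hφ⟩ : ∃ φ : (∐ fun _ : Fin b => OO n k (-m)) ⟶ F,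
      ∀ i, Sigma.ι (fun _ : Fin b => OO n k (-m)) i ≫ φ = φs i :=
    ⟨Sigma.desc φs, fun i => Sigma.ι_desc _ _⟩
  have hlift : ∀ χ : OO n k (-m) ⟶ F,
      ∃ ψ : OO n k (-m) ⟶ ∐ fun _ : Fin b => OO n k (-m), ψ ≫ φ = χ := by
    intro χ
    obtain ⟨c, hc⟩ := hφs χ
    refine ⟨∑ i, c i ≫ Sigma.ι (fun _ : Fin b => OO n k (-m)) i, ?_⟩
    rw [Preadditive.sum_comp, hc]
    apply Finset.sum_congr rfl
    intro i _
    rw [Category.assoc, hφ]
  have hepi : Epi φ := by
    haveI := epi_sigma_desc n k hF m h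
    choose ψ hψ using hlift
    have hfac : Sigma.desc (fun χ : OO n k (-m) ⟶ F => ψ χ) ≫ φ =
        Sigma.desc (fun χ : OO n k (-m) ⟶ F => χ) := by
      apply Sigma.hom_ext
      intro χ
      rw [Sigma.ι_desc_assoc, Sigma.ι_desc, hψ]
    exact epi_of_epi_fac hfac
  haveI := hepi
  exact ⟨b, φ, hepi, kernel_regular_of_lift n k F m b φ hlift h⟩

/-- the kernel of a map `O(d)^b ⟶ F` with `F` coherent is coherent -/
theorem isCoh_kernel_sigma (F : (CohB1.ProjSpace n k).Modules) (hF : Coh.IsCoh F) (d : ℤ) (b : ℕ)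
    (φ : (∐ fun _ : Fin b => OO n k d) ⟶ F) : Coh.IsCoh (kernel φ) := by
  haveI hNoeth : AlgebraicGeometry.IsNoetherian (CohB1.ProjSpace n k) :=
    Groth.Agent.S2357.result (𝒜 n k)
  have hL : Coh.IsCoh (X := CohB1.ProjSpace n k) (Twist.twist (𝒜 n k) d) :=
    ⟨Groth.Agent.ProjTw.isQuasicoherent_twist (𝒜 n k) _,
      Groth.Agent.ProjTw.isFiniteType_twist (𝒜 n k) (hcov' n k) _⟩
  have hE := isCoh_sigma_fin (X := CohB1.ProjSpace n k) _ hL b
  exact CohKerH8.isCoh_kernel (X := CohB1.ProjSpace n k) hE hF φ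

end Proj

end Groth.Agent.CMReg

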