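import Mathlib
import Groth.Prelude
import Groth.Agent.S0843
import Groth.Agent.S0844
import Groth.Agent.S0845

/-!
# Euler characteristic of `O(n)` on projective space over a field (helper9)
-/

set_option autoImplicit false
universe u
open CategoryTheory AlgebraicGeometry MvPolynomial

namespace Groth.Agent.ProjEuler

section Finrank

variable (σ : Type*) [Fintype σ] [DecidableEq σ] (K : Type*) [Field K]

/-- the monomials of degree `n` -/
noncomputable def monFam (n : ℕ) :
    {m : σ →₀ ℕ // m ∈ (Finset.univ : Finset σ).finsuppAntidiag n} → MvPolynomial σ K :=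
  fun m => monomial m.1 1

lemma linearIndependent_monFam (n : ℕ) : LinearIndependent K (monFam σ K n) := by
  have h := (basisMonomials σ K).linearIndependent
  rw [coe_basisMonomials] at h
  exact h.comp Subtype.val Subtype.val_injective

lemma degree_eq_of_mem {n : ℕ} {m : σ →₀ ℕ} :
    m ∈ (Finset.univ : Finset σ).finsuppAntidiag n ↔ m.degree = n := by
  rw [Finset.mem_finsuppAntidiag]
  constructor
  · rintro ⟨h, -⟩
    rw [Finsupp.degree_eq_sum]
    exact h
  · intro h
    refine ⟨?_, Finset.subset_univ _⟩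
    rw [Finsupp.degree_eq_sum] at h
    exact h

lemma span_monFam (n : ℕ) :
    Submodule.span K (Set.range (monFam σ K n)) = homogeneousSubmodule σ K n := by
  apply le_antisymm
  · rw [Submodule.span_le]
    rintro _ ⟨m, rfl⟩
    exact (mem_homogeneousSubmodule _ _).mpr
      (isHomogeneous_monomial _ ((degree_eq_of_mem σ).mp m.2))
  · intro p hp
    rw [mem_homogeneousSubmodule] at hp
    rw [p.as_sum]
    refine Submodule.sum_mem _ (fun m hm => ?_)
    have hdeg : m.degree = n := by
      rw [Finsupp.degree_eq_weight_one]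
      exact hp (mem_support_iff.mp hm)
    have h1 : monomial m (coeff m p) = coeff m p • monFam σ K n ⟨m, (degree_eq_of_mem σ).mpr hdeg⟩ := by
      unfold monFam
      rw [smul_monomial, smul_eq_mul, mul_one]
    rw [h1]
    exact Submodule.smul_mem _ _ (Submodule.subset_span ⟨_, rfl⟩)

theorem finrank_homogeneousSubmodule (n : ℕ) :
    Module.finrank K (homogeneousSubmodule σ K n) = (Fintype.card σ + n - 1).choose n := by
  rw [← span_monFam σ K n, finrank_span_eq_card (linearIndependent_monFam σ K n),
    Fintype.card_coe, Finset.card_finsuppAntidiag_nat_eq_choose, Finset.card_univ]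

end Finrank

variable (k : Type u) [Field k] (r : ℕ)

lemma finrank_HH_zero (d : ℕ) :
    Module.finrank k (Coh.HH (CohB1.ProjSpace r k) (Twist.twistProjSpace r k (d : ℤ)) 0) =
      (d + r).choose r := by
  obtain ⟨e⟩ := Groth.Agent.S0843.result k r d
  rw [e.finrank_eq, finrank_homogeneousSubmodule, Fintype.card_fin]
  have : r + 1 + d - 1 = d + r := by omega
  rw [this, Nat.choose_symm_add]

lemma finrank_HH_top (d : ℕ) :
    Module.finrank k (Coh.HH (CohB1.ProjSpace r k)
      (Twist.twistProjSpace r k (-((r : ℤ) + 1 + d))) r) = (d + r).choose r := by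
  obtain ⟨e⟩ := Groth.Agent.S0845.result k r d
  rw [e.finrank_eq, finrank_homogeneousSubmodule, Fintype.card_fin]
  have : r + 1 + d - 1 = d + r := by omega
  rw [this, Nat.choose_symm_add]

lemma finrank_HH_eq_zero (n : ℤ) (q : ℕ) (h₀ : ¬ (q = 0 ∧ 0 ≤ n))
    (hn : ¬ (q = r ∧ n ≤ -((r : ℤ) + 1))) :
    Module.finrank k (Coh.HH (CohB1.ProjSpace r k) (Twist.twistProjSpace r k n) q) = 0 := by
  haveI := Groth.Agent.S0844.result k r n q h₀ hn
  exact Module.finrank_zero_of_subsingleton

theorem euler (hr : 0 < r) (n : ℤ) :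
    ((Finset.range (r + 1)).sum fun j => (-1 : ℤ) ^ j *
        (Module.finrank k (Coh.HH (CohB1.ProjSpace r k) (Twist.twistProjSpace r k n) j) : ℤ)) =
      Ring.choose (n + r) r := by
  rw [Finset.sum_eq_add (0 : ℕ) r (by omega)]
  · rcases le_or_gt 0 n with h | h
    · obtain ⟨d, rfl⟩ := Int.eq_ofNat_of_zero_le h
      rw [finrank_HH_zero, finrank_HH_eq_zero k r _ r (by omega) (by omega)]
      have : ((d : ℤ) + r) = ((d + r : ℕ) : ℤ) := by push_cast; rfl
      rw [this, Ring.choose_natCast]
      simp
    · rcases le_or_gt n (-((r : ℤ) + 1)) with h' | h'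
      · obtain ⟨d, hd⟩ : ∃ d : ℕ, n = -((r : ℤ) + 1 + d) :=
          ⟨(-((r : ℤ) + 1) - n).toNat, by omega⟩
        subst hd
        rw [finrank_HH_top, finrank_HH_eq_zero k r _ 0 (by omega) (by omega)]
        have h1 : (-((r : ℤ) + 1 + d) + r) = -(((d + 1 : ℕ) : ℤ)) := by push_cast; ring
        have h2 : (((d + 1 : ℕ) : ℤ) + r - 1) = ((d + r : ℕ) : ℤ) := by push_cast; ring
        rw [h1, Ring.choose_neg, h2, Ring.choose_natCast, Units.smul_def, smul_eq_mul,
          Int.coe_negOnePow_natCast]
        simp
      · rw [finrank_HH_eq_zero k r _ 0 (by omega) (by omega),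
          finrank_HH_eq_zero k r _ r (by omega) (by omega)]
        obtain ⟨m, hm⟩ : ∃ m : ℕ, n + r = m := ⟨(n + r).toNat, by omega⟩
        rw [hm, Ring.choose_natCast, Nat.choose_eq_zero_of_lt (by omega)]
        simp
  · intro c _ hc
    rw [finrank_HH_eq_zero k r _ c (by omega) (by omega)]
    simp
  · intro h
    exact absurd (Finset.mem_range.mpr (by omega)) h
  · intro h
    exact absurd (Finset.mem_range.mpr (by omega)) h

end Groth.Agent.ProjEuler
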