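import Mathlib
import Groth.Prelude
import Groth.Agent.Lib.ProjPair3_helper9
import Groth.Agent.Lib.ProjFin1_helper9

/-!
# A monomorphism `O(a) ⟶ O(b)` on `P^N_k` is surjective on top cohomology (helper9)
-/

set_option autoImplicit false
universe u
open CategoryTheory CategoryTheory.Limits AlgebraicGeometry TopologicalSpace Opposite MvPolynomial

namespace Groth.Agent.ProjPair

open Groth.Agent.ProjCech Groth.Agent.LaurentCoef Groth.Agent.ProjHom QCohExtn QcqsLoc

variable {n : ℕ} {R : Type u} [CommRing R]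

/-- a section of `O(a)` over `D_+(X_0⋯X_n)` represented by a fraction of monomials -/
lemma exists_monomial_section (a : ℤ) :
    ∃ (s : Sec n R a (DT n R)) (m₁ m₂ : Fin (n + 1) →₀ ℕ), IsRep s (mon n R m₁) m₂ := by
  have hdeg : ((a.toNat • (Finsupp.single 0 1 : Fin (n + 1) →₀ ℕ)).degree : ℤ) =
      ((-a).toNat • (Finsupp.single 0 1 : Fin (n + 1) →₀ ℕ)).degree + a := by
    rw [degree_nsmul, degree_nsmul, Finsupp.degree_single]
    push_cast
    have := Int.toNat_sub_toNat_neg a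
    omega
  refine ⟨(show Sec n R a (DT n R) from
    Groth.Agent.ProjTw.fracSecN (𝒜 n R) a (mon n R (a.toNat • Finsupp.single 0 1))
      (mon_mem _) (mon n R ((-a).toNat • Finsupp.single 0 1)) (mon_mem _) hdeg (DT n R)
      (fun x => mon_notMem x.2)), a.toNat • Finsupp.single 0 1, (-a).toNat • Finsupp.single 0 1,
    _, mon_mem _, hdeg, fun x hx => rfl⟩

/-- the polynomial of a multiplication morphism is unique -/
theorem isMulBy_inj {a b : ℤ} {φ : Twist.twist (𝒜 n R) a ⟶ Twist.twist (𝒜 n R) b} {D : ℕ}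
    {P P' : 𝒜 n R D} (hD : (D : ℤ) + a = b) (h : IsMulBy φ P.1) (h' : IsMulBy φ P'.1) :
    P = P' := by
  obtain ⟨s, m₁, m₂, hs⟩ := exists_monomial_section (n := n) (R := R) a
  have h1 := rep_unique (le_refl (DT n R)) (isRep_ap hD h hs) (isRep_ap hD h' hs)
  have h2 : (P.1 - P'.1) * monomial (m₁ + m₂) 1 = 0 := by
    have h3 : (monomial (m₁ + m₂) 1 : MvPolynomial (Fin (n + 1)) R) = mon n R m₁ * mon n R m₂ :=
      (mon_mul m₁ m₂).symm
    rw [h3, sub_mul, sub_eq_zero, ← mul_assoc, ← mul_assoc]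
    exact h1
  exact Subtype.ext (sub_eq_zero.mp (eq_zero_of_mul_monomial_eq_zero h2))

theorem isMulBy_comp {a b c : ℤ} {φ : Twist.twist (𝒜 n R) a ⟶ Twist.twist (𝒜 n R) b}
    {χ : Twist.twist (𝒜 n R) b ⟶ Twist.twist (𝒜 n R) c} {P Q : MvPolynomial (Fin (n + 1)) R}
    (h : IsMulBy φ P) (h' : IsMulBy χ Q) : IsMulBy (φ ≫ χ) (Q * P) := by
  intro V s x
  have h1 : ap (φ ≫ χ) V s = ap χ V (ap φ V s) := SerreCrit.ap_comp φ χ V s
  rw [h1, h' V (show Sec n R b V from ap φ V s) x, h V s x, ← mul_assoc, Localization.mk_mul]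
  congr 2
  exact one_mul (1 : (ProjectiveSpectrum.asHomogeneousIdeal (𝒜 := 𝒜 n R)
    x.1).toIdeal.primeCompl)

theorem isMulBy_id (a : ℤ) : IsMulBy (𝟙 (Twist.twist (𝒜 n R) a)) 1 := by
  intro V s x
  rw [Localization.mk_one, one_mul]
  rfl

lemma hmap_zero {X : Scheme.{u}} {M N : X.Modules} (i : ℕ) (x : Coh.HH X M i) :
    Sheaf.H.map ((SheafOfModules.toSheaf X.ringCatSheaf).map (0 : M ⟶ N)) i x = 0 := by
  have h : (SerreCrit.TT X).map (0 : M ⟶ N) = 0 := Functor.map_zero _ _ _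
  show Sheaf.H.map ((SerreCrit.TT X).map (0 : M ⟶ N)) i x = 0
  rw [h, Sheaf.H.map_apply, Abelian.Ext.mk₀_zero, Abelian.Ext.comp_zero]

/-- **a monomorphism `O(a) ⟶ O(b)` on `P^{q+1}_k` induces a surjection on `H^{q+1}`** -/
theorem surjective_HHlin_of_mono (k : Type u) [Field k] (q : ℕ) {a b : ℤ}
    (φ₀ : Twist.twist (𝒜 (q + 1) k) a ⟶ Twist.twist (𝒜 (q + 1) k) b) [Mono φ₀] :
    Function.Surjective (Sheaf.H.map
      ((SheafOfModules.toSheaf (Proj (𝒜 (q + 1) k)).ringCatSheaf).map φ₀) (q + 1)) := by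
  classical
  obtain ⟨t, ht⟩ := pairing (R := k) q
  have hlin : Function.Surjective (Canon.HHlin k (X := CohB1.ProjSpace (q + 1) k) φ₀ (q + 1)) := by
    rw [← LinearMap.dualMap_injective_iff, injective_iff_map_eq_zero]
    intro lam hlam
    obtain ⟨χ, hχ, -⟩ := ht b lam
    have hcomp : φ₀ ≫ χ = 0 := by
      obtain ⟨φ', -, huniq⟩ := ht a 0
      have e1 := huniq (φ₀ ≫ χ) (fun y =>
        (LinearMap.congr_fun hlam y).symm.trans ((hχ _).trans
          (congrArg t (Groth.Agent.HHVan.hmap_comp φ₀ χ (q + 1) y).symm)))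
      have e2 := huniq 0 (fun y =>
        ((congrArg t (hmap_zero (q + 1) y)).trans (map_zero t)).symm)
      rw [e1, e2]
    have hχ0 : χ = 0 := by
      rcases eq_zero_or_exists_isMulBy (Nat.le_add_left 1 q) χ with h0 | ⟨D, Q, hD, hQ⟩
      · exact h0
      · obtain ⟨D₀, P₀, hP₀, hD₀, hφ₀⟩ := exists_isMulBy (Nat.le_add_left 1 q) φ₀
        have h1 := isMulBy_comp hφ₀ hQ
        rw [hcomp] at h1
        have hP₀ne : P₀ ≠ 0 := by
          rintro rfl
          have h2 : φ₀ = 0 := isMulBy_unique hφ₀ (isMulBy_zero a b)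
          have h3 : 𝟙 (Twist.twist (𝒜 (q + 1) k) a) = 0 := by
            rw [← cancel_mono φ₀, h2]
            simp
          have h4 := isMulBy_id (n := q + 1) (R := k) a
          rw [h3] at h4
          have h5 := isMulBy_inj (P := ⟨1, SetLike.GradedOne.one_mem⟩)
            (P' := ⟨0, Submodule.zero_mem _⟩) (D := 0) (by simp) h4 (isMulBy_zero a a)
          exact one_ne_zero (congrArg Subtype.val h5)
        rcases hD₀ with hD₀ | rfl
        · have h6 := isMulBy_inj (P := ⟨Q.1 * P₀, SetLike.mul_mem_graded Q.2 hP₀⟩)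
            (P' := ⟨0, Submodule.zero_mem _⟩) (D := D + D₀) (by push_cast; omega) h1
            (isMulBy_zero a _)
          have h7 : Q.1 * P₀ = 0 := congrArg Subtype.val h6
          have h8 : Q.1 = 0 := (mul_eq_zero.mp h7).resolve_right hP₀ne
          rw [h8] at hQ
          exact isMulBy_unique hQ (isMulBy_zero b _)
        · exact absurd rfl hP₀ne
    ext z
    subst hχ0
    exact (hχ z).trans ((congrArg t (hmap_zero (q + 1) z)).trans (map_zero t))
  exact hlin

end Groth.Agent.ProjPair
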