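import Mathlib
import Groth.Prelude
import Groth.Agent.Lib.ProjSurj_helper9
import Groth.Agent.Lib.LESLin_helper9
import Groth.Agent.Lib.ProjEuler_helper9
import Groth.Agent.Lib.ProjTens1_helper9
import Groth.Agent.Lib.Tens30_helper8

/-!
# Cohomology of twists of the structure sheaf of a hypersurface in projective space (helper9)
-/

set_option autoImplicit false
universe u
open CategoryTheory CategoryTheory.Limits AlgebraicGeometry TopologicalSpace Opposite

namespace Groth.Agent.HypSurf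

open QcqsLoc QCohExtn SerreCrit

section Epi

variable {X : Scheme.{u}} (I : X.IdealSheafData)

theorem epi_toSubscheme : Epi (ClSub.toSubscheme I) := by
  apply TensH8.epi_of_locally_surjective
  intro U m x hx
  obtain ⟨_, ⟨W, hW : IsAffineOpen W, rfl⟩, hxW, hle⟩ :=
    X.isBasis_affineOpens.exists_subset_of_mem_open hx U.isOpen
  have hle' : W ≤ U := hle
  refine ⟨W, hle', hxW, ?_⟩
  obtain ⟨z, hz⟩ := I.subschemeι_app_surjective ⟨W, hW⟩ (rF (ClSub.quotMod I) hle' m)
  exact ⟨z, hz⟩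

/-- the sequence `0 → I → O_X → O_X / I → 0`. -/
noncomputable def ses : ShortComplex X.Modules :=
  ShortComplex.mk (ClSub.idealModι I) (ClSub.toSubscheme I) (kernel.condition _)

theorem ses_shortExact : (ses I).ShortExact := by
  haveI : Mono (ses I).f := inferInstanceAs (Mono (kernel.ι (ClSub.toSubscheme I)))
  haveI : Epi (ses I).g := epi_toSubscheme I
  refine ShortComplex.ShortExact.mk ?_
  exact ShortComplex.exact_of_f_is_kernel _ (kernelIsKernel (ClSub.toSubscheme I))

end Epi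

section Twists

variable (k : Type u) [Field k] (q : ℕ)

/-- `O(m)` on `P^{q+1}_k`. -/
noncomputable abbrev OO (m : ℤ) : (CohB1.ProjSpace (q + 1) k).Modules :=
  Twist.twistProjSpace (q + 1) k m

instance finite_HH (m : ℤ) (i : ℕ) :
    Module.Finite k (Coh.HH (CohB1.ProjSpace (q + 1) k) (OO k q m) i) := by
  haveI := Groth.Agent.ProjFin.isNoetherian_HH_twist (q + 1) k m i
  exact Module.IsNoetherian.finite k _

lemma subsingleton_HH (m : ℤ) (i : ℕ) (h0 : i ≠ 0) (h1 : i ≠ q + 1) :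
    Subsingleton (Coh.HH (CohB1.ProjSpace (q + 1) k) (OO k q m) i) :=
  Groth.Agent.S0844.result k (q + 1) m i (fun h => h0 h.1) (fun h => h1 h.1)

lemma finrank_H0 (m : ℤ) :
    Module.finrank k (Coh.HH (CohB1.ProjSpace (q + 1) k) (OO k q m) 0) =
      Nat.choose (m + ((q : ℤ) + 1)).toNat (q + 1) := by
  rcases le_or_gt 0 m with h | h
  · obtain ⟨d, rfl⟩ := Int.eq_ofNat_of_zero_le h
    rw [Groth.Agent.ProjEuler.finrank_HH_zero]
    congr 1
  · rw [Groth.Agent.ProjEuler.finrank_HH_eq_zero k (q + 1) m 0 (by omega) (by omega)]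
    symm
    apply Nat.choose_eq_zero_of_lt
    omega

lemma finrank_Htop (m : ℤ) :
    Module.finrank k (Coh.HH (CohB1.ProjSpace (q + 1) k) (OO k q m) (q + 1)) =
      Nat.choose (-m - 1).toNat (q + 1) := by
  rcases le_or_gt m (-(((q + 1 : ℕ) : ℤ) + 1)) with h | h
  · obtain ⟨d, hd⟩ : ∃ d : ℕ, m = -(((q + 1 : ℕ) : ℤ) + 1 + d) :=
      ⟨(-(((q + 1 : ℕ) : ℤ) + 1) - m).toNat, by omega⟩
    subst hd
    rw [Groth.Agent.ProjEuler.finrank_HH_top]
    congr 1
    omega
  · rw [Groth.Agent.ProjEuler.finrank_HH_eq_zero k (q + 1) m (q + 1) (by omega) (by omega)]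
    symm
    apply Nat.choose_eq_zero_of_lt
    omega

section Main

variable {a b : ℤ} (φ : OO k q a ⟶ OO k q b) {Q : (CohB1.ProjSpace (q + 1) k).Modules}
  (g : OO k q b ⟶ Q) (w : φ ≫ g = 0) (hS : (ShortComplex.mk φ g w).ShortExact)

include hS in
lemma surj_top : Function.Surjective (Canon.HHlin k (X := CohB1.ProjSpace (q + 1) k) φ (q + 1)) := by
  have hm : Mono φ := hS.mono_f
  have h := @Groth.Agent.ProjPair.surjective_HHlin_of_mono k _ q a b φ hm
  exact h

include hS in
theorem vanish (p : ℕ) (hp0 : p ≠ 0) (hpq : p ≠ q) :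
    Subsingleton (Coh.HH (CohB1.ProjSpace (q + 1) k) Q p) := by
  by_cases hp : p = q + 1
  · subst hp
    exact Groth.Agent.LESLin.subsingleton_of_surjective k (ShortComplex.mk φ g w) hS (q + 1)
      (surj_top k q φ g w hS) (subsingleton_HH k q a (q + 1 + 1) (by omega) (by omega))
  · exact Groth.Agent.HHVan.subsingleton_right (ShortComplex.mk φ g w) hS p
      (subsingleton_HH k q b p hp0 hp) (subsingleton_HH k q a (p + 1) (by omega) (by omega))

include hS in
theorem h0_eq (hq : 1 ≤ q) :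
    Module.Finite k (Coh.HH (CohB1.ProjSpace (q + 1) k) Q 0) ∧
      Module.finrank k (Coh.HH (CohB1.ProjSpace (q + 1) k) Q 0) =
        Nat.choose (b + ((q : ℤ) + 1)).toNat (q + 1) -
          Nat.choose (a + ((q : ℤ) + 1)).toNat (q + 1) := by
  have hinj := Groth.Agent.LESLin.injective_HHlin_f_zero k (ShortComplex.mk φ g w) hS
  haveI : Subsingleton (Coh.HH (CohB1.ProjSpace (q + 1) k) (OO k q b) (0 + 1)) :=
    subsingleton_HH k q b (0 + 1) (by omega) (by omega)
  haveI : Subsingleton (Coh.HH (CohB1.ProjSpace (q + 1) k) (OO k q a) (0 + 1)) :=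
    subsingleton_HH k q a (0 + 1) (by omega) (by omega)
  have hsurj : Function.Surjective
      (Canon.HHlin k (X := CohB1.ProjSpace (q + 1) k) (ShortComplex.mk φ g w).f (0 + 1)) :=
    fun y => ⟨0, Subsingleton.elim _ _⟩
  obtain ⟨hfin, heq⟩ := Groth.Agent.LESLin.finrank_five k (ShortComplex.mk φ g w) hS 0 hinj hsurj
  refine ⟨hfin, ?_⟩
  have hle := LinearMap.finrank_le_finrank_of_injective hinj
  have e1 : Module.finrank k (Coh.HH (CohB1.ProjSpace (q + 1) k) (OO k q b) (0 + 1)) = 0 :=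
    Module.finrank_zero_of_subsingleton
  have e2 : Module.finrank k (Coh.HH (CohB1.ProjSpace (q + 1) k) (OO k q a) (0 + 1)) = 0 :=
    Module.finrank_zero_of_subsingleton
  have e3 := finrank_H0 k q a
  have e4 := finrank_H0 k q b
  simp only at heq hle
  rw [e1, e2, e3, e4] at heq
  rw [e3, e4] at hle
  omega

include hS in
theorem hq_eq (hq : 1 ≤ q) :
    Module.Finite k (Coh.HH (CohB1.ProjSpace (q + 1) k) Q q) ∧
      Module.finrank k (Coh.HH (CohB1.ProjSpace (q + 1) k) Q q) =
        Nat.choose (-a - 1).toNat (q + 1) - Nat.choose (-b - 1).toNat (q + 1) := by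
  haveI : Subsingleton (Coh.HH (CohB1.ProjSpace (q + 1) k) (OO k q b) q) :=
    subsingleton_HH k q b q (by omega) (by omega)
  haveI : Subsingleton (Coh.HH (CohB1.ProjSpace (q + 1) k) (OO k q a) q) :=
    subsingleton_HH k q a q (by omega) (by omega)
  have hinj : Function.Injective
      (Canon.HHlin k (X := CohB1.ProjSpace (q + 1) k) (ShortComplex.mk φ g w).f q) :=
    fun x y _ => Subsingleton.elim _ _
  have hsurj := surj_top k q φ g w hS
  obtain ⟨hfin, heq⟩ := Groth.Agent.LESLin.finrank_five k (ShortComplex.mk φ g w) hS q hinj hsurj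
  refine ⟨hfin, ?_⟩
  have e1 : Module.finrank k (Coh.HH (CohB1.ProjSpace (q + 1) k) (OO k q b) q) = 0 :=
    Module.finrank_zero_of_subsingleton
  have e2 : Module.finrank k (Coh.HH (CohB1.ProjSpace (q + 1) k) (OO k q a) q) = 0 :=
    Module.finrank_zero_of_subsingleton
  have e3 := finrank_Htop k q a
  have e4 := finrank_Htop k q b
  simp only at heq
  rw [e1, e2, e3, e4] at heq
  omega

end Main

section Line

variable {a b : ℤ} (φ : OO k 0 a ⟶ OO k 0 b) {Q : (CohB1.ProjSpace (0 + 1) k).Modules}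
  (g : OO k 0 b ⟶ Q) (w : φ ≫ g = 0) (hS : (ShortComplex.mk φ g w).ShortExact)

include hS in
theorem h0_line :
    Module.Finite k (Coh.HH (CohB1.ProjSpace (0 + 1) k) Q 0) ∧
      Module.finrank k (Coh.HH (CohB1.ProjSpace (0 + 1) k) Q 0) =
        (Nat.choose (b + 1).toNat 1 - Nat.choose (a + 1).toNat 1) +
          (Nat.choose (-a - 1).toNat 1 - Nat.choose (-b - 1).toNat 1) := by
  have hinj := Groth.Agent.LESLin.injective_HHlin_f_zero k (ShortComplex.mk φ g w) hS
  have hsurj := surj_top k 0 φ g w hS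
  obtain ⟨hfin, heq⟩ := Groth.Agent.LESLin.finrank_five k (ShortComplex.mk φ g w) hS 0 hinj hsurj
  refine ⟨hfin, ?_⟩
  have hle := LinearMap.finrank_le_finrank_of_injective hinj
  have hle' := LinearMap.finrank_le_finrank_of_surjective hsurj
  have e1 := finrank_Htop k 0 a
  have e2 := finrank_Htop k 0 b
  have e3 := finrank_H0 k 0 a
  have e4 := finrank_H0 k 0 b
  simp only [Nat.cast_zero, zero_add] at heq hle hle' e1 e2 e3 e4
  rw [e1, e2, e3, e4] at heq
  rw [e3, e4] at hle
  rw [e1, e2] at hle'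
  omega

end Line

section Hyp

open Groth.Agent.TensInv

variable (I : (CohB1.ProjSpace (q + 1) k).IdealSheafData) {c : ℤ}
  (e : ClSub.idealMod I ≅ OO k q c) (n : ℤ)

include e in
/-- the twisted ideal sequence `0 → O(n + c) → O(n) → O_X(n) → 0` of a hypersurface. -/
theorem exists_ses (a : ℤ) (h : c + n = a) :
    ∃ (φ : OO k q a ⟶ OO k q n)
      (g : OO k q n ⟶ CohB1.tensorMod (ClSub.quotMod I) (OO k q n)) (w : φ ≫ g = 0),
      (ShortComplex.mk φ g w).ShortExact := by
  have hS := Groth.Agent.ProjTens.shortExact_twist (q + 1) k (ses I) (ses_shortExact I) n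
  obtain ⟨e0⟩ := Groth.Agent.ProjTens.twist_add' (q + 1) k c n a h
  let S := (ses I).map (tR (OO k q n))
  let e₁ : S.X₁ ≅ OO k q a := mapR e (OO k q n) ≪≫ e0
  let e₂ : S.X₂ ≅ OO k q n := comm _ _ ≪≫ rightUnit (OO k q n)
  have w : (e₁.inv ≫ S.f ≫ e₂.hom) ≫ (e₂.inv ≫ S.g) = 0 := by
    simp only [Category.assoc, Iso.hom_inv_id_assoc, S.zero, comp_zero]
  refine ⟨e₁.inv ≫ S.f ≫ e₂.hom, e₂.inv ≫ S.g, w, ?_⟩
  refine ShortComplex.shortExact_of_iso (ShortComplex.isoMk e₁ e₂ (Iso.refl _) ?_ ?_) hS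
  · simp only [Iso.hom_inv_id_assoc]
  · simp only [Iso.hom_inv_id_assoc, Iso.refl_hom]
    exact (Category.comp_id _).symm

end Hyp

section LineMain

/-- the projective line case, stated for `P^N` with `N = 0 + 1` so that it applies to the literal
`1` without unfolding. -/
theorem line_main (N : ℕ) (hN : N = 0 + 1) (m : ℕ)
    (I : (CohB1.ProjSpace N k).IdealSheafData)
    (hI : Nonempty (ClSub.idealMod I ≅ Twist.twistProjSpace N k (-(m : ℤ)))) (n : ℤ) :
    (Module.Finite k (Coh.HH (CohB1.ProjSpace N k)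
        (CohB1.tensorMod (ClSub.quotMod I) (Twist.twistProjSpace N k n)) 0) ∧
      Module.finrank k (Coh.HH (CohB1.ProjSpace N k)
        (CohB1.tensorMod (ClSub.quotMod I) (Twist.twistProjSpace N k n)) 0) =
        (Nat.choose (n + 1).toNat 1 - Nat.choose (n - (m : ℤ) + 1).toNat 1) +
        (Nat.choose ((m : ℤ) - 2 - n + 1).toNat 1 -
          Nat.choose ((m : ℤ) - 2 - n - (m : ℤ) + 1).toNat 1)) ∧
    (∀ p : ℕ, 1 ≤ p →
      Subsingleton (Coh.HH (CohB1.ProjSpace N k)
        (CohB1.tensorMod (ClSub.quotMod I) (Twist.twistProjSpace N k n)) p)) := by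
  subst hN
  obtain ⟨e⟩ := hI
  obtain ⟨φ, g, w, hS⟩ := exists_ses k 0 I e n (n - (m : ℤ)) (by omega)
  refine ⟨?_, fun p hp => vanish k 0 φ g w hS p (by omega) (by omega)⟩
  have h := h0_line k φ g w hS
  have e1 : (-(n - (m : ℤ)) - 1) = (m : ℤ) - 2 - n + 1 := by ring
  have e2 : (-n - 1) = (m : ℤ) - 2 - n - (m : ℤ) + 1 := by ring
  rw [e1, e2] at h
  exact h

end LineMain

end Twists

end Groth.Agent.HypSurf
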