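import Mathlib
import Groth.Prelude
import Groth.Agent.Lib.ProjHom2_helper9
import Groth.Agent.Lib.Tens30_helper8
import Groth.Agent.Lib.HypSurf_helper9

/-!
# The ideal sheaf of a hypersurface in projective space is `O(-d)` (helper9)
-/

set_option autoImplicit false
universe u
open CategoryTheory CategoryTheory.Limits AlgebraicGeometry TopologicalSpace Opposite MvPolynomial

namespace Groth.Agent.HypIdeal

open Groth.Agent.ProjCech Groth.Agent.ProjHom QCohExtn QcqsLoc SerreCrit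

variable {n : ℕ} {R : Type u} [CommRing R]

/-- the value of a function at a point, in the localization -/
noncomputable def valO {V : (Proj (𝒜 n R)).Opens} (c : Γ(Proj (𝒜 n R), V)) (x : V) : Twist.Loc (𝒜 n R) x.1 :=
  ((show Twist.O (𝒜 := 𝒜 n R) (op V) from c).1 x).val

lemma ext_valO {V : (Proj (𝒜 n R)).Opens} (c c' : Γ(Proj (𝒜 n R), V))
    (h : ∀ x : V, valO c x = valO c' x) : c = c' := by
  apply Subtype.ext
  funext y
  exact HomogeneousLocalization.val_injective _ (h y)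

lemma valO_mul {V : (Proj (𝒜 n R)).Opens} (c c' : Γ(Proj (𝒜 n R), V)) (x : V) :
    valO (c * c') x = valO c x * valO c' x :=
  HomogeneousLocalization.val_mul _ _

lemma valO_rX {V W : (Proj (𝒜 n R)).Opens} (h : W ≤ V) (c : Γ(Proj (𝒜 n R), V)) (x : W) :
    valO (rX h c) x = valO c ⟨x.1, h x.2⟩ := rfl

lemma val_smul {d : ℤ} {V : (Proj (𝒜 n R)).Opens} (c : Γ(Proj (𝒜 n R), V))
    (s : Sec n R d V) (x : V) :
    val (show Sec n R d V from
      (c • (show Γ(Twist.twist (𝒜 n R) d, V) from s) : Γ(Twist.twist (𝒜 n R) d, V))) x =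
      valO c x * val s x := by
  obtain ⟨c', rfl⟩ : ∃ c' : Twist.O (𝒜 := 𝒜 n R) (op V), c' = c := ⟨c, rfl⟩
  exact Groth.Agent.ProjTw.smul_valN (𝒜 n R) d (op V) c' s x

section Unit

lemma val_oneSec0 {V : (Proj (𝒜 n R)).Opens} (x : V) :
    val (show Sec n R 0 V from
      rF (Twist.twist (𝒜 n R) 0) (le_top : V ≤ ⊤) (Groth.Agent.ProjTw.oneSec0 (𝒜 n R))) x = 1 := by
  show Localization.mk _ _ = 1
  rw [← Localization.mk_one]
  rfl

/-- the value of the image of a function under `O ⟶ O(0)` -/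
lemma val_unitToTwist0 {V : (Proj (𝒜 n R)).Opens} (c : Γ(Proj (𝒜 n R), V)) (x : V) :
    val (show Sec n R 0 V from ap (Groth.Agent.ProjTw.unitToTwist0 (𝒜 n R)) V (ofFn c)) x =
      valO c x := by
  have h1 : ofFn c = c • FLFH8.toM (1 : Γ(Proj (𝒜 n R), V)) := (mul_one c).symm
  have h2 : ap (Groth.Agent.ProjTw.unitToTwist0 (𝒜 n R)) V
      (FLFH8.toM (1 : Γ(Proj (𝒜 n R), V))) =
      rF (Twist.twist (𝒜 n R) 0) (le_top : V ≤ ⊤) (Groth.Agent.ProjTw.oneSec0 (𝒜 n R)) :=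
    TensH8.val_homOfSec (Twist.twist (𝒜 n R) 0) (Groth.Agent.ProjTw.oneSec0 (𝒜 n R)) V
  rw [h1, ap_smul, h2]
  refine (val_smul c _ x).trans ?_
  rw [val_oneSec0, mul_one]

end Unit

section Field

variable {r : ℕ} {k : Type u} [Field k]

lemma pow_notMem {d : ℕ} (j : Fin (r + 1)) (x : LefPen.chart r k j) :
    (X j : MvPolynomial (Fin (r + 1)) k) ^ d ∈ x.1.asHomogeneousIdeal.toIdeal.primeCompl :=
  fun h => x.2 (x.1.isPrime.mem_of_pow_mem _ h)

/-- the value of the dehomogenization `G / T_j^d` -/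
lemma valO_dehom {d : ℕ} (G : LefPen.Form r k d) (j : Fin (r + 1)) (x : LefPen.chart r k j) :
    valO (n := r) (R := k) (LefPen.dehom G j) x =
      Localization.mk G.1 ⟨(X j : MvPolynomial (Fin (r + 1)) k) ^ d, pow_notMem j x⟩ := by
  unfold valO LefPen.dehom
  refine (ProjectiveSpectrum.Proj.awayToSection_apply (𝒜 r k) (X j) _ x).trans ?_
  rw [HomogeneousLocalization.Away.val_mk, Localization.mk_eq_mk', IsLocalization.map_mk',
    Localization.mk_eq_mk']
  rfl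

section MulG

variable {d : ℕ} (G : LefPen.Form r k d)

/-- multiplication by `G` as a morphism `O(-d) ⟶ O(0)` -/
noncomputable def mulG0 : Twist.twist (𝒜 r k) (-(d : ℤ)) ⟶ Twist.twist (𝒜 r k) 0 :=
  (exists_mulBy (-(d : ℤ)) 0 d (by omega) G).choose

lemma isMulBy_mulG0 : IsMulBy (mulG0 G) G.1 :=
  (exists_mulBy (-(d : ℤ)) 0 d (by omega) G).choose_spec

/-- multiplication by `G` as a morphism `O(-d) ⟶ O` -/
noncomputable def mulG : Twist.twist (𝒜 r k) (-(d : ℤ)) ⟶ OO (Proj (𝒜 r k)) :=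
  haveI := Groth.Agent.ProjTw.isIso_unitToTwist0 (𝒜 r k) (Groth.Agent.ProjTens.hcov' r k)
  mulG0 G ≫ inv (Groth.Agent.ProjTw.unitToTwist0 (𝒜 r k))

lemma mulG_comp :
    mulG G ≫ Groth.Agent.ProjTw.unitToTwist0 (𝒜 r k) = mulG0 G := by
  haveI := Groth.Agent.ProjTw.isIso_unitToTwist0 (𝒜 r k) (Groth.Agent.ProjTens.hcov' r k)
  unfold mulG
  rw [Category.assoc, IsIso.inv_hom_id, Category.comp_id]

lemma valO_mulG (V : (Proj (𝒜 r k)).Opens) (g : Sec r k (-(d : ℤ)) V) (x : V) :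
    valO (toFn (ap (mulG G) V g)) x = Localization.mk G.1 1 * val g x := by
  have h1 := val_unitToTwist0 (toFn (ap (mulG G) V g)) x
  have h2 : ap (Groth.Agent.ProjTw.unitToTwist0 (𝒜 r k)) V (ofFn (toFn (ap (mulG G) V g))) =
      ap (mulG0 G) V g := by
    rw [← mulG_comp]
    rfl
  rw [← h1, h2]
  exact isMulBy_mulG0 G V g x

end MulG

section Gen

/-- the generator `1 / T_j^d` of `O(-d)` over the chart `D_+(T_j)` -/
noncomputable def gam (d : ℕ) (j : Fin (r + 1)) : Sec r k (-(d : ℤ)) (LefPen.chart r k j) :=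
  Groth.Agent.ProjTw.genSecK (𝒜 r k) (LefPen.X_mem r k j) (-(d : ℤ)) (-(d : ℤ)) (by simp)

lemma val_gam (d : ℕ) (j : Fin (r + 1)) (x : LefPen.chart r k j) :
    val (gam (k := k) d j) x =
      Localization.mk 1 ⟨(X j : MvPolynomial (Fin (r + 1)) k) ^ d, pow_notMem j x⟩ := by
  show Localization.mk _ _ = Localization.mk _ _
  rw [Localization.mk_eq_mk_iff, Localization.r_iff_exists]
  exact ⟨1, by simp⟩

lemma isGen_gam (d : ℕ) (j : Fin (r + 1)) :
    GenLocH8.IsGen (Twist.twist (𝒜 r k) (-(d : ℤ))) (LefPen.chart r k j) (gam (k := k) d j) :=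
  Groth.Agent.ProjTw.isGen_genSecK (𝒜 r k) one_pos (LefPen.X_mem r k j) (-(d : ℤ)) (-(d : ℤ))
    (by simp)

end Gen

section Le

variable {d : ℕ} (G : LefPen.Form r k d)

lemma mk_mul_aux (j : Fin (r + 1)) (x : LefPen.chart r k j) (κ : Twist.Loc (𝒜 r k) x.1) :
    Localization.mk G.1 1 *
        (κ * Localization.mk 1 ⟨(X j : MvPolynomial (Fin (r + 1)) k) ^ d, pow_notMem j x⟩) =
      κ * Localization.mk G.1 ⟨(X j : MvPolynomial (Fin (r + 1)) k) ^ d, pow_notMem j x⟩ := by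
  have h : Localization.mk G.1 1 *
      Localization.mk 1 ⟨(X j : MvPolynomial (Fin (r + 1)) k) ^ d, pow_notMem j x⟩ =
      Localization.mk G.1 ⟨(X j : MvPolynomial (Fin (r + 1)) k) ^ d, pow_notMem j x⟩ := by
    rw [Localization.mk_mul, mul_one, one_mul]
  rw [← h]
  ring

/-- images of sections of `O(-d)` under multiplication by `G` lie in the family of ideals defining
the hypersurface -/
theorem imgIdeal_le_hypFamily (U : (CohB1.ProjSpace r k).affineOpens)
    (a : Γ(CohB1.ProjSpace r k, U.1))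
    (ha : a ∈ TensH8.imgIdeal (X := Proj (𝒜 r k)) (mulG G) U.1) :
    a ∈ LefPen.hypFamily G U := by
  obtain ⟨g, rfl⟩ := ha
  unfold LefPen.hypFamily
  rw [Ideal.mem_iInf]
  intro j
  rw [Ideal.mem_comap, Ideal.mem_span_singleton']
  obtain ⟨c, hc⟩ := (isGen_gam (k := k) d j (U.1 ⊓ LefPen.chart r k j) inf_le_right).1
    (rF (Twist.twist (𝒜 r k) (-(d : ℤ))) (inf_le_left : U.1 ⊓ LefPen.chart r k j ≤ U.1) g)
  refine ⟨c, ?_⟩
  apply ext_valO (n := r) (R := k)
  intro x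
  have hx1 : x.1 ∈ U.1 := x.2.1
  have hx2 : x.1 ∈ LefPen.chart r k j := x.2.2
  have e1 : val (show Sec r k (-(d : ℤ)) U.1 from g) ⟨x.1, hx1⟩ =
      valO c x * Localization.mk 1
        ⟨(X j : MvPolynomial (Fin (r + 1)) k) ^ d, pow_notMem j ⟨x.1, hx2⟩⟩ := by
    have h1 : val (show Sec r k (-(d : ℤ)) U.1 from g) ⟨x.1, hx1⟩ =
        val (show Sec r k (-(d : ℤ)) (U.1 ⊓ LefPen.chart r k j) from
          rF (Twist.twist (𝒜 r k) (-(d : ℤ)))
            (inf_le_left : U.1 ⊓ LefPen.chart r k j ≤ U.1) g) x := rfl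
    rw [h1, hc]
    refine (val_smul c _ x).trans ?_
    congr 1
    exact val_gam d j ⟨x.1, hx2⟩
  have e2 : valO (n := r) (R := k) (rX (inf_le_right : U.1 ⊓ LefPen.chart r k j ≤
      LefPen.chart r k j) (LefPen.dehom G j)) x =
      Localization.mk G.1
        ⟨(X j : MvPolynomial (Fin (r + 1)) k) ^ d, pow_notMem j ⟨x.1, hx2⟩⟩ :=
    valO_dehom G j ⟨x.1, hx2⟩
  have e3 : valO (n := r) (R := k) (rX (inf_le_left : U.1 ⊓ LefPen.chart r k j ≤ U.1)
      (toFn (ap (mulG G) U.1 g))) x =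
      Localization.mk G.1 1 * val (show Sec r k (-(d : ℤ)) U.1 from g) ⟨x.1, hx1⟩ :=
    valO_mulG G U.1 g ⟨x.1, hx1⟩
  refine (valO_mul _ _ x).trans ?_
  refine (congrArg (fun t => valO c x * t) e2).trans ?_
  refine Eq.trans ?_ e3.symm
  rw [e1]
  exact (mk_mul_aux G j ⟨x.1, hx2⟩ (valO c x)).symm

end Le

section Ge

variable {d : ℕ} (G : LefPen.Form r k d)

/-- the dehomogenization, as a function on the `Proj` -/
noncomputable def deh (j : Fin (r + 1)) : Γ(Proj (𝒜 r k), LefPen.chart r k j) := LefPen.dehom G j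

lemma mk_ne_zero (hG : G ≠ 0) (x : ProjectiveSpectrum (𝒜 r k)) :
    (Localization.mk G.1 1 : Twist.Loc (𝒜 r k) x) ≠ 0 := by
  intro h
  rw [Localization.mk_one_eq_algebraMap] at h
  have hinj : Function.Injective (algebraMap (MvPolynomial (Fin (r + 1)) k)
      (Twist.Loc (𝒜 r k) x)) :=
    IsLocalization.injective _ x.asHomogeneousIdeal.toIdeal.primeCompl_le_nonZeroDivisors
  have h0 : G.1 = 0 := hinj (by rw [h, map_zero])
  exact hG (Subtype.ext h0)

lemma chart_cover (x : CohB1.ProjSpace r k) : ∃ j : Fin (r + 1), x ∈ LefPen.chart r k j := by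
  classical
  obtain ⟨f, hf, hx⟩ := Groth.Agent.ProjFin.hcov_X r k x
  rw [Finset.mem_image] at hf
  obtain ⟨j, -, rfl⟩ := hf
  exact ⟨j, hx⟩

/-- elements of the family of ideals defining the hypersurface are images of sections of `O(-d)`
under multiplication by `G` -/
theorem hypFamily_le_imgIdeal (hG : G ≠ 0) (U : (CohB1.ProjSpace r k).affineOpens)
    (a₀ : Γ(CohB1.ProjSpace r k, U.1)) (ha : a₀ ∈ LefPen.hypFamily G U) :
    a₀ ∈ TensH8.imgIdeal (X := Proj (𝒜 r k)) (mulG G) U.1 := by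
  unfold LefPen.hypFamily at ha
  rw [Ideal.mem_iInf] at ha
  obtain ⟨U', rfl⟩ : ∃ U' : (Proj (𝒜 r k)).affineOpens, U' = U := ⟨U, rfl⟩
  obtain ⟨a, rfl⟩ : ∃ a : Γ(Proj (𝒜 r k), U'.1), a = a₀ := ⟨a₀, rfl⟩
  have ha' : ∀ j : Fin (r + 1), ∃ c : Γ(Proj (𝒜 r k), U'.1 ⊓ LefPen.chart r k j),
      c * rX (X := Proj (𝒜 r k))
          (inf_le_right : U'.1 ⊓ LefPen.chart r k j ≤ LefPen.chart r k j) (deh G j) =
        rX (X := Proj (𝒜 r k)) (inf_le_left : U'.1 ⊓ LefPen.chart r k j ≤ U'.1) a := by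
    intro j
    have := ha j
    rw [Ideal.mem_comap, Ideal.mem_span_singleton'] at this
    exact this
  choose c hc using ha'
  let t : ∀ j : Fin (r + 1), Γ(Twist.twist (𝒜 r k) (-(d : ℤ)), U'.1 ⊓ LefPen.chart r k j) :=
    fun j => c j • rF (Twist.twist (𝒜 r k) (-(d : ℤ)))
      (inf_le_right : U'.1 ⊓ LefPen.chart r k j ≤ LefPen.chart r k j) (gam d j)
  -- the key property of the local sections
  have key : ∀ (j : Fin (r + 1)) (x : (U'.1 ⊓ LefPen.chart r k j : (Proj (𝒜 r k)).Opens)),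
      Localization.mk G.1 1 * val (show Sec r k (-(d : ℤ)) (U'.1 ⊓ LefPen.chart r k j) from t j) x =
        valO (n := r) (R := k) a ⟨x.1, x.2.1⟩ := by
    intro j x
    have hx2 : x.1 ∈ LefPen.chart r k j := x.2.2
    have e1 : val (show Sec r k (-(d : ℤ)) (U'.1 ⊓ LefPen.chart r k j) from t j) x =
        valO (c j) x * Localization.mk 1
          ⟨(X j : MvPolynomial (Fin (r + 1)) k) ^ d, pow_notMem j ⟨x.1, hx2⟩⟩ := by
      refine (val_smul (c j) (show Sec r k (-(d : ℤ)) (U'.1 ⊓ LefPen.chart r k j) from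
        rF (Twist.twist (𝒜 r k) (-(d : ℤ)))
          (inf_le_right : U'.1 ⊓ LefPen.chart r k j ≤ LefPen.chart r k j) (gam d j)) x).trans ?_
      congr 1
      exact val_gam d j ⟨x.1, hx2⟩
    have e2 : valO (n := r) (R := k) (rX (X := Proj (𝒜 r k))
        (inf_le_right : U'.1 ⊓ LefPen.chart r k j ≤ LefPen.chart r k j) (deh G j)) x =
        Localization.mk G.1
          ⟨(X j : MvPolynomial (Fin (r + 1)) k) ^ d, pow_notMem j ⟨x.1, hx2⟩⟩ :=
      valO_dehom G j ⟨x.1, hx2⟩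
    have e3 : valO (n := r) (R := k) _ x = valO (n := r) (R := k) _ x :=
      congrArg (fun z => valO (n := r) (R := k) z x) (hc j)
    rw [e1]
    refine (mk_mul_aux G j ⟨x.1, hx2⟩ (valO (c j) x)).trans ?_
    rw [← e2]
    exact ((valO_mul _ _ x).symm.trans e3)
  -- gluing
  have hcompat : ∀ i j : Fin (r + 1),
      rF (Twist.twist (𝒜 r k) (-(d : ℤ))) (inf_le_left : (U'.1 ⊓ LefPen.chart r k i) ⊓
        (U'.1 ⊓ LefPen.chart r k j) ≤ U'.1 ⊓ LefPen.chart r k i) (t i) =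
      rF (Twist.twist (𝒜 r k) (-(d : ℤ))) (inf_le_right : (U'.1 ⊓ LefPen.chart r k i) ⊓
        (U'.1 ⊓ LefPen.chart r k j) ≤ U'.1 ⊓ LefPen.chart r k j) (t j) := by
    intro i j
    apply ext_val (n := r) (R := k) (d := -(d : ℤ))
    intro x
    have h1 := key i ⟨x.1, x.2.1⟩
    have h2 := key j ⟨x.1, x.2.2⟩
    exact mul_left_cancel₀ (mk_ne_zero G hG x.1) (h1.trans h2.symm)
  obtain ⟨s, hs⟩ := TensH8.glue (Twist.twist (𝒜 r k) (-(d : ℤ)))
    (fun j : Fin (r + 1) => U'.1 ⊓ LefPen.chart r k j) U'.1 (fun j => inf_le_left)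
    (by
      intro x hx
      obtain ⟨j, hj⟩ := chart_cover (k := k) x
      exact Opens.mem_iSup.mpr ⟨j, hx, hj⟩) t hcompat
  refine ⟨s, ?_⟩
  apply ext_valO (n := r) (R := k)
  intro x
  obtain ⟨j, hj⟩ := chart_cover (k := k) x.1
  refine (valO_mulG G U'.1 s x).trans ?_
  have h1 : val (show Sec r k (-(d : ℤ)) U'.1 from s) x =
      val (show Sec r k (-(d : ℤ)) (U'.1 ⊓ LefPen.chart r k j) from t j) ⟨x.1, x.2, hj⟩ := by
    rw [← hs j]
    rfl
  rw [h1]
  exact key j ⟨x.1, x.2, hj⟩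

end Ge

end Field

end Groth.Agent.HypIdeal
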