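import Mathlib
import Groth.Prelude
import Groth.Agent.Lib.HypIdeal1_helper9
import Groth.Agent.Lib.AcycEmb_helper9
import Groth.Agent.Lib.QCohExact_helper9

/-!
# The ideal sheaf of a hypersurface in projective space is `O(-d)`, II (helper9)
-/

set_option autoImplicit false
universe u
open CategoryTheory CategoryTheory.Limits AlgebraicGeometry TopologicalSpace Opposite MvPolynomial

namespace Groth.Agent.HypIdeal

open Groth.Agent.ProjCech Groth.Agent.ProjHom QCohExtn QcqsLoc SerreCrit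

section General

variable {X : Scheme.{u}} {L : X.Modules} [L.IsQuasicoherent] (i : L ⟶ OO X)

theorem comp_toSubscheme : i ≫ ClSub.toSubscheme (TensH8.idealOfSub i) = 0 := by
  apply Scheme.Modules.hom_ext
  intro W
  ext s
  show ap (i ≫ ClSub.toSubscheme (TensH8.idealOfSub i)) W s = 0
  apply eq_zero_of_cover
  intro x hx
  obtain ⟨_, ⟨W', hW' : IsAffineOpen W', rfl⟩, hxW', hle⟩ :=
    X.isBasis_affineOpens.exists_subset_of_mem_open hx W.isOpen
  have hle' : W' ≤ W := hle
  refine ⟨W', hle', hxW', ?_⟩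
  rw [← ap_rF]
  have hmem : toFn (ap i W' (rF L hle' s)) ∈ (TensH8.idealOfSub i).ideal ⟨W', hW'⟩ :=
    ⟨rF L hle' s, rfl⟩
  obtain ⟨t, ht⟩ := TensH8.exists_idealMod_section (TensH8.idealOfSub i) hW' _ hmem
  have h1 : ap (i ≫ ClSub.toSubscheme (TensH8.idealOfSub i)) W' (rF L hle' s) =
      ap (ClSub.toSubscheme (TensH8.idealOfSub i)) W' (ap i W' (rF L hle' s)) := rfl
  rw [h1]
  have h2 : ap i W' (rF L hle' s) = ap (ClSub.idealModι (TensH8.idealOfSub i)) W' t := ht.symm
  rw [h2]
  exact TensH8.kernel_section_mem (ClSub.toSubscheme (TensH8.idealOfSub i)) t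

/-- a quasi-coherent submodule of `O_X` is the ideal module of its ideal sheaf -/
theorem nonempty_iso_idealMod [Mono i] :
    Nonempty (L ≅ ClSub.idealMod (TensH8.idealOfSub i)) := by
  let ℓ : L ⟶ ClSub.idealMod (TensH8.idealOfSub i) :=
    kernel.lift (ClSub.toSubscheme (TensH8.idealOfSub i)) i (comp_toSubscheme i)
  have hℓ : ℓ ≫ ClSub.idealModι (TensH8.idealOfSub i) = i := kernel.lift_ι _ _ _
  haveI : Mono ℓ := mono_of_mono_fac hℓ
  haveI : Mono (ClSub.idealModι (TensH8.idealOfSub i)) :=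
    inferInstanceAs (Mono (kernel.ι (ClSub.toSubscheme (TensH8.idealOfSub i))))
  haveI : Epi ℓ := by
    apply TensH8.epi_of_locally_surjective
    intro U m x hx
    obtain ⟨_, ⟨W, hW : IsAffineOpen W, rfl⟩, hxW, hle⟩ :=
      X.isBasis_affineOpens.exists_subset_of_mem_open hx U.isOpen
    have hle' : W ≤ U := hle
    refine ⟨W, hle', hxW, ?_⟩
    obtain ⟨g, hg⟩ := TensH8.idealModι_mem (TensH8.idealOfSub i) hW
      (rF (ClSub.idealMod (TensH8.idealOfSub i)) hle' m)
    refine ⟨g, ?_⟩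
    apply _root_.QCohExact.app_injective_of_mono (ClSub.idealModι (TensH8.idealOfSub i)) W
    have h1 : (ClSub.idealModι (TensH8.idealOfSub i)).app W (ap ℓ W g) = ap i W g :=
      congrArg (fun ψ : L ⟶ OO X => ap ψ W g) hℓ
    exact h1.trans hg
  haveI : IsIso ℓ := isIso_of_mono_of_epi ℓ
  exact ⟨asIso ℓ⟩

end General

section Hyp

variable {r : ℕ} {k : Type u} [Field k] {d : ℕ} (G : LefPen.Form r k d)

instance isQuasicoherent_twist' (a : ℤ) : (Twist.twist (𝒜 r k) a).IsQuasicoherent :=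
  Groth.Agent.ProjTw.isQuasicoherent_twist (𝒜 r k) a

theorem mono_mulG (hG : G ≠ 0) : Mono (mulG G) := by
  apply AcycEmb.mono_of_injective
  intro W
  rw [injective_iff_map_eq_zero]
  intro g hg
  apply ext_val (n := r) (R := k) (d := -(d : ℤ))
  intro x
  have h1 := valO_mulG G W g x
  rw [hg] at h1
  have h0 : valO (n := r) (R := k) (toFn (0 : Γ(OO (Proj (𝒜 r k)), W))) x = 0 :=
    HomogeneousLocalization.val_zero
  rw [h0] at h1
  exact (mul_eq_zero.mp h1.symm).resolve_left (mk_ne_zero G hG x.1)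

/-- the ideal sheaf of the hypersurface `V_+(G)` is the image of multiplication by `G` -/
theorem hypIdeal_eq (hG : G ≠ 0) :
    LefPen.hypIdeal G = TensH8.idealOfSub (X := Proj (𝒜 r k)) (mulG G) := by
  apply le_antisymm
  · rw [Scheme.IdealSheafData.le_def]
    intro U a ha
    exact hypFamily_le_imgIdeal G hG U a (Scheme.IdealSheafData.ideal_ofIdeals_le _ U ha)
  · exact Scheme.IdealSheafData.le_ofIdeals_iff.mpr
      (fun U a ha => imgIdeal_le_hypFamily G U a ha)

/-- **the ideal sheaf of a hypersurface of degree `d` is `O(-d)`** -/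
theorem hypIdeal_iso (hG : G ≠ 0) :
    Nonempty (ClSub.idealMod (LefPen.hypIdeal G) ≅ Twist.twistProjSpace r k (-(d : ℤ))) := by
  haveI := mono_mulG G hG
  obtain ⟨e⟩ := nonempty_iso_idealMod (X := Proj (𝒜 r k)) (mulG G)
  rw [hypIdeal_eq G hG]
  exact ⟨e.symm⟩

end Hyp

end Groth.Agent.HypIdeal
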