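import Mathlib
import Groth.Agent.Lib.FAcyc_helper9

/-!
# The derived adjunction map on `Ext` (helper7)

For an adjunction `L ⊣ R` between abelian categories with `L` exact, the map
`Ext^n(A, R B) → Ext^n(L A, B)`, `e ↦ L(e) ∘ ε_B`, is bijective when `B` is `R`-acyclic.
-/

set_option autoImplicit false
universe w w' v u v' u'
open CategoryTheory CategoryTheory.Limits Abelian

namespace Groth.Agent.Lib.ExtAdj_helper7

open Groth.Agent.Lib

variable {C : Type u} [Category.{v} C] [Abelian C] {D : Type u'} [Category.{v'} D] [Abelian D]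
  [HasExt.{w} C] [HasExt.{w'} D] [EnoughInjectives D]
  (L : C ⥤ D) (R : D ⥤ C) (adj : L ⊣ R) [L.Additive] [PreservesFiniteLimits L]
  [PreservesFiniteColimits L] [R.Additive]

/-- The map `Ext^n(A, R B) → Ext^n(L A, B)`. -/
noncomputable def Φ (A : C) (B : D) (n : ℕ) : Ext.{w} A (R.obj B) n →+ Ext.{w'} (L.obj A) B n :=
  ((Ext.mk₀ (adj.counit.app B)).postcomp (L.obj A) (add_zero n)).comp (L.mapExtAddHom A (R.obj B) n)

theorem Φ_apply (A : C) (B : D) (n : ℕ) (e : Ext.{w} A (R.obj B) n) :
    Φ L R adj A B n e = (e.mapExactFunctor L).comp (Ext.mk₀ (adj.counit.app B)) (add_zero n) := rfl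

theorem Φ_mk₀ (A : C) (B : D) (g : A ⟶ R.obj B) :
    Φ L R adj A B 0 (Ext.mk₀ g) = Ext.mk₀ ((adj.homEquiv A B).symm g) := by
  rw [Φ_apply, Ext.mapExactFunctor_mk₀, Ext.mk₀_comp_mk₀, Adjunction.homEquiv_counit]

/-- compatibility with post-composition by a morphism of `D` -/
theorem Φ_comp_mk₀ (A : C) {B B' : D} (g : B ⟶ B') (n : ℕ) (e : Ext.{w} A (R.obj B) n) :
    Φ L R adj A B' n (e.comp (Ext.mk₀ (R.map g)) (add_zero n)) =
      (Φ L R adj A B n e).comp (Ext.mk₀ g) (add_zero n) := by
  rw [Φ_apply, Φ_apply, Ext.mapExactFunctor_comp, Ext.mapExactFunctor_mk₀,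
    Ext.comp_assoc_of_third_deg_zero, Ext.comp_assoc_of_third_deg_zero, Ext.mk₀_comp_mk₀,
    Ext.mk₀_comp_mk₀]
  congr 2
  exact adj.counit.naturality g

/-- compatibility with connecting homomorphisms -/
theorem Φ_comp_extClass (A : C) (S : ShortComplex D) (hS : S.ShortExact)
    (hRS : (S.map R).ShortExact) (n : ℕ) (e : Ext.{w} A (R.obj S.X₃) n) :
    Φ L R adj A S.X₁ (n + 1) (e.comp hRS.extClass rfl) =
      (Φ L R adj A S.X₃ n e).comp hS.extClass rfl := by
  let φ : (S.map R).map L ⟶ S :=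
    { τ₁ := adj.counit.app _
      τ₂ := adj.counit.app _
      τ₃ := adj.counit.app _
      comm₁₂ := (adj.counit.naturality S.f).symm
      comm₂₃ := (adj.counit.naturality S.g).symm }
  have hnat := ShortComplex.ShortExact.extClass_naturality (hRS.map_of_exact L) hS φ
  have h1 : ∀ {Y Z : C} (e : Ext.{w} A Y n) (δ : Ext.{w} Y Z 1) {B : D} (ε : L.obj Z ⟶ B),
      ((e.comp δ rfl).mapExactFunctor L).comp (Ext.mk₀ ε) (add_zero (n + 1)) =
      (e.mapExactFunctor L).comp ((δ.mapExactFunctor L).comp (Ext.mk₀ ε) (add_zero 1)) rfl := by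
    intro Y Z e δ B ε
    rw [Ext.mapExactFunctor_comp, Ext.comp_assoc_of_third_deg_zero]
  refine (h1 e hRS.extClass (adj.counit.app S.X₁)).trans ?_
  have h2 : (hRS.extClass.mapExactFunctor L).comp (Ext.mk₀ (adj.counit.app S.X₁)) (add_zero 1) =
      (Ext.mk₀ (adj.counit.app S.X₃)).comp hS.extClass (zero_add 1) := by
    rw [Ext.mapExactFunctor_extClass]; exact hnat
  refine (congrArg (fun z => (e.mapExactFunctor L).comp z rfl) h2).trans ?_
  exact (Ext.comp_assoc_of_second_deg_zero _ _ _ _).symm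

omit [PreservesFiniteLimits L] [PreservesFiniteColimits L] [L.Additive] in
include adj in
theorem shortExact_map_of_acyc [L.PreservesMonomorphisms] (S : ShortComplex D) (hS : S.ShortExact)
    (h1 : IsZero ((R.rightDerived 1).obj S.X₁)) : (S.map R).ShortExact := by
  haveI : PreservesLimitsOfSize.{0, 0} R := adj.rightAdjoint_preservesLimits
  haveI : PreservesFiniteLimits R := PreservesLimitsOfSize.preservesFiniteLimits _
  have h := (Functor.preservesFiniteLimits_iff_forall_exact_map_and_mono R).1 inferInstance S hS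
  have hepi0 : Epi ((R.rightDerived 0).map S.g) := FAcyc.epi_zero R S hS h1
  have hepi : Epi (R.map S.g) := by
    have e : R.map S.g = (R.rightDerivedZeroIsoSelf).inv.app _ ≫ (R.rightDerived 0).map S.g ≫
        (R.rightDerivedZeroIsoSelf).hom.app _ := by
      rw [(R.rightDerivedZeroIsoSelf).hom.naturality, Iso.inv_hom_id_app_assoc]
    rw [e]
    infer_instance
  haveI := h.2
  exact ShortComplex.ShortExact.mk' h.1 h.2 hepi

include adj in
theorem Φ_bijective (A : C) (n : ℕ) : ∀ (B : D), FAcyc.acyc R B →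
    Function.Bijective (Φ L R adj A B n) := by
  induction n with
  | zero =>
    intro B _
    constructor
    · intro x y hxy
      obtain ⟨g, rfl⟩ := (Ext.mk₀_bijective _ _).2 x
      obtain ⟨g', rfl⟩ := (Ext.mk₀_bijective _ _).2 y
      rw [Φ_mk₀, Φ_mk₀] at hxy
      have := (Ext.mk₀_bijective _ _).1 hxy
      rw [(adj.homEquiv A B).symm.injective this]
    · intro y
      obtain ⟨g, rfl⟩ := (Ext.mk₀_bijective _ _).2 y
      exact ⟨Ext.mk₀ (adj.homEquiv A B g), by rw [Φ_mk₀, Equiv.symm_apply_apply]⟩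
  | succ n hn =>
    intro B hB
    let I : InjectivePresentation B := Classical.arbitrary _
    let S := ShortComplex.mk _ _ (cokernel.condition I.f)
    have hS : S.ShortExact := { exact := ShortComplex.exact_cokernel I.f }
    haveI : Injective S.X₂ := I.injective
    have hI : FAcyc.acyc R S.X₂ := FAcyc.acyc_of_injective R S.X₂
    have hQ : FAcyc.acyc R S.X₃ := (FAcyc.h2 R S hS hB).1 hI
    haveI : L.PreservesMonomorphisms := inferInstance
    have hRS : (S.map R).ShortExact := shortExact_map_of_acyc L R adj S hS (hB 1 Nat.one_pos)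
    haveI : Injective (S.map R).X₂ :=
      (Injective.injective_of_adjoint adj S.X₂ : Injective (R.obj S.X₂))
    constructor
    · intro x x' hxx'
      rw [← sub_eq_zero]
      have hx0 : Φ L R adj A S.X₁ (n + 1) (x - x') = 0 := by
        rw [map_sub]; exact sub_eq_zero.2 hxx'
      generalize x - x' = x at hx0
      obtain ⟨y, hy⟩ : ∃ y : Ext.{w} A (R.obj S.X₃) n, y.comp hRS.extClass rfl = x :=
        Ext.covariant_sequence_exact₁ A hRS x (Ext.eq_zero_of_injective _) rfl
      have hx0' : (Φ L R adj A S.X₃ n y).comp hS.extClass rfl = 0 :=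
        (Φ_comp_extClass L R adj A S hS hRS n y).symm.trans
          ((congrArg (Φ L R adj A S.X₁ (n + 1)) hy).trans hx0)
      obtain ⟨z, hz⟩ := Ext.covariant_sequence_exact₃ (L.obj A) hS _ rfl hx0'
      obtain ⟨z', hz'⟩ := (hn S.X₂ hI).2 z
      have h3 : Φ L R adj A S.X₃ n (z'.comp (Ext.mk₀ (R.map S.g)) (add_zero n)) =
          Φ L R adj A S.X₃ n y :=
        (Φ_comp_mk₀ L R adj A S.g n z').trans
          ((congrArg (fun t => t.comp (Ext.mk₀ S.g) (add_zero n)) hz').trans hz)
      have hy2 : z'.comp (Ext.mk₀ (R.map S.g)) (add_zero n) = y := (hn S.X₃ hQ).1 h3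
      refine hy.symm.trans ?_
      refine (congrArg (fun t => t.comp hRS.extClass rfl) hy2).symm.trans ?_
      refine (Ext.comp_assoc_of_second_deg_zero z' (Ext.mk₀ (R.map S.g)) hRS.extClass rfl).trans ?_
      exact (congrArg (fun t => z'.comp t rfl) hRS.comp_extClass).trans (Ext.comp_zero _ _ _ _ _)
    · intro y
      obtain ⟨y₃, rfl⟩ := Ext.covariant_sequence_exact₁ (L.obj A) hS y
        (Ext.eq_zero_of_injective _) rfl
      obtain ⟨e, rfl⟩ := (hn S.X₃ hQ).2 y₃
      exact ⟨e.comp hRS.extClass rfl, Φ_comp_extClass L R adj A S hS hRS n e⟩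

end Groth.Agent.Lib.ExtAdj_helper7
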