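import Mathlib
import Groth.Prelude.Def_CohPull
import Groth.Agent.Lib.ExtAdj_helper7
import Groth.Agent.S11319

/-!
# The edge map `H^p(Y, f_* G) → H^p(X, G)` is bijective when `R^q f_* G = 0` (helper7)

* `isIso_oneTo`: `CohPull.oneTo f : ℤ_X ⟶ f⁻¹ ℤ_Y` is an isomorphism (uniqueness of left adjoints).
* `pushEdge_eq`: `CohPull.pushEdge f G p = precomp (mk₀ oneTo) ∘ Φ` with `Φ` the derived adjunction map
  of `ExtAdj_helper7`.
-/

set_option autoImplicit false
universe u
open CategoryTheory CategoryTheory.Limits AlgebraicGeometry TopologicalSpace Opposite Abelian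

namespace Groth.Agent.Lib.PushEdge_helper7

open Groth.Agent.Lib Groth.Agent.Lib.ExtAdj_helper7

noncomputable section

section Top

variable {X Y : TopCat.{u}} (f : X ⟶ Y)

/-- `Γ(Y, f_* F) = Γ(X, F)` -/
def sectIso : CohTop.push f ⋙ (sheafSections (Opens.grothendieckTopology Y) AddCommGrpCat.{u}).obj (op ⊤) ≅
    (sheafSections (Opens.grothendieckTopology X) AddCommGrpCat.{u}).obj (op ⊤) :=
  NatIso.ofComponents (fun F => Iso.refl _) (by intro F G φ; simp)

def adj2 : constantSheaf (Opens.grothendieckTopology Y) AddCommGrpCat.{u} ⋙ CohPull.inv f ⊣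
    (sheafSections (Opens.grothendieckTopology X) AddCommGrpCat.{u}).obj (op ⊤) :=
  ((CohPull.adjZ Y).comp (CohPull.invPushAdj f)).ofNatIsoRight (sectIso f)

theorem oneTo_eq : CohPull.oneTo f =
    (Adjunction.leftAdjointUniq (CohPull.adjZ X) (adj2 f)).hom.app (AddCommGrpCat.of (ULift.{u} ℤ)) := by
  apply ((CohPull.adjZ X).homEquiv _ _).injective
  refine Eq.trans ?_ (Adjunction.homEquiv_leftAdjointUniq_hom_app (CohPull.adjZ X) (adj2 f) _).symm
  rw [CohPull.oneTo, Equiv.apply_symm_apply]
  have h1 : (adj2 f).unit.app (AddCommGrpCat.of (ULift.{u} ℤ)) =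
      ((CohPull.adjZ Y).comp (CohPull.invPushAdj f)).unit.app (AddCommGrpCat.of (ULift.{u} ℤ)) ≫
        (sectIso f).hom.app _ := by
    rw [← Adjunction.homEquiv_id (adj2 f), adj2, Adjunction.homEquiv_ofNatIsoRight_apply,
      Adjunction.homEquiv_id]
  have h2 : (sectIso f).hom.app ((constantSheaf (Opens.grothendieckTopology Y) AddCommGrpCat.{u} ⋙
      CohPull.inv f).obj (AddCommGrpCat.of (ULift.{u} ℤ))) = 𝟙 _ := rfl
  rw [h1]
  have h3 : ((CohPull.adjZ Y).comp (CohPull.invPushAdj f)).unit.app (AddCommGrpCat.of (ULift.{u} ℤ)) =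
      CohPull.oneSec Y ≫ ((CohPull.invPushAdj f).unit.app (CohTop.const Y (ULift.{u} ℤ))).hom.app (op ⊤) := by
    rw [Adjunction.comp_unit_app, CohPull.oneSec, Adjunction.homEquiv_id]; rfl
  exact (h3.symm.trans (Category.comp_id _).symm)

theorem isIso_oneTo : IsIso (CohPull.oneTo f) := by
  rw [oneTo_eq]
  infer_instance

end Top

section Ext

variable {C : Type*} [Category C] [Abelian C] [HasExt.{u} C]

theorem precomp_mk₀_bijective {A A' : C} (φ : A ⟶ A') [IsIso φ] (B : C) (n : ℕ) :
    Function.Bijective ((Ext.mk₀ φ).precomp B (zero_add n)) := by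
  constructor
  · intro x y hxy
    have h := congrArg (fun t => (Ext.mk₀ (inv φ)).comp t (zero_add n)) hxy
    simp only [Ext.precomp, Ext.bilinearComp_apply_apply, Ext.mk₀_comp_mk₀_assoc, IsIso.inv_hom_id,
      Ext.mk₀_id_comp] at h
    exact h
  · intro y
    refine ⟨(Ext.mk₀ (inv φ)).comp y (zero_add n), ?_⟩
    simp only [Ext.precomp, Ext.bilinearComp_apply_apply, Ext.mk₀_comp_mk₀_assoc, IsIso.hom_inv_id,
      Ext.mk₀_id_comp]

end Ext

theorem assoc_aux {C : Type*} [Category C] [Abelian C] [HasExt.{u} C] {A A' B B' B'' : C} {p : ℕ}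
    (o : A ⟶ A') (x : Ext A' B p) (θ : B ⟶ B') (c : B' ⟶ B'') :
    (((Ext.mk₀ o).comp x (zero_add p)).comp (Ext.mk₀ θ) (add_zero p)).comp (Ext.mk₀ c) (add_zero p) =
      (Ext.mk₀ o).comp (x.comp (Ext.mk₀ (θ ≫ c)) (add_zero p)) (zero_add p) := by
  rw [Ext.comp_assoc_of_third_deg_zero, Ext.mk₀_comp_mk₀, Ext.comp_assoc_of_third_deg_zero]

section Sch

variable {X Y : Scheme.{u}} (f : X ⟶ Y)

/-- `θ ≫ toAb(counit of f^* ⊣ f_*) = counit of f⁻¹ ⊣ f_*` -/
theorem theta_comp_counit (G : X.Modules) :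
    CohPull.theta f ((Scheme.Modules.pushforward f).obj G) ≫
      (SheafOfModules.toSheaf X.ringCatSheaf).map
        ((Scheme.Modules.pullbackPushforwardAdjunction f).counit.app G) =
      (CohPull.invPushAdj f.base).counit.app (Coh.toAb G) := by
  rw [CohPull.theta, ← Adjunction.homEquiv_naturality_right_symm]
  have h : (SheafOfModules.toSheaf Y.ringCatSheaf).map
        ((Scheme.Modules.pullbackPushforwardAdjunction f).unit.app ((Scheme.Modules.pushforward f).obj G)) ≫
      (CohTop.push f.base).map ((SheafOfModules.toSheaf X.ringCatSheaf).map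
        ((Scheme.Modules.pullbackPushforwardAdjunction f).counit.app G)) = 𝟙 _ := by
    refine ((SheafOfModules.toSheaf Y.ringCatSheaf).map_comp
      ((Scheme.Modules.pullbackPushforwardAdjunction f).unit.app ((Scheme.Modules.pushforward f).obj G))
      ((Scheme.Modules.pushforward f).map
        ((Scheme.Modules.pullbackPushforwardAdjunction f).counit.app G))).symm.trans ?_
    refine (congrArg (SheafOfModules.toSheaf Y.ringCatSheaf).map
      ((Scheme.Modules.pullbackPushforwardAdjunction f).right_triangle_components G)).trans ?_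
    exact CategoryTheory.Functor.map_id _ _
  refine (congrArg ((CohPull.invPushAdj f.base).homEquiv _ _).symm h).trans ?_
  exact Adjunction.homEquiv_symm_id (CohPull.invPushAdj f.base) (Coh.toAb G)

variable [HasInjectiveResolutions X.Modules]

theorem acyc_toAb (G : X.Modules)
    (hG : ∀ q : ℕ, 0 < q → Limits.IsZero ((Coh.Rpush f q).obj G)) :
    FAcyc.acyc (CohTop.push f.base) (Coh.toAb G) := by
  intro i hi
  obtain ⟨e⟩ := Groth.Agent.S11319.result f G i
  have hz : IsZero (Coh.toAb ((Coh.Rpush f i).obj G)) :=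
    Functor.map_isZero (SheafOfModules.toSheaf Y.ringCatSheaf) (hG i hi)
  exact IsZero.of_iso hz e.symm

theorem pushEdge_apply (G : X.Modules) (p : ℕ)
    (e : Coh.HH Y ((Scheme.Modules.pushforward f).obj G) p) :
    CohPull.pushEdge f G p e =
      (Ext.mk₀ (CohPull.oneTo f.base)).precomp (Coh.toAb G) (zero_add p)
        (Φ (CohPull.inv f.base) (CohTop.push f.base) (CohPull.invPushAdj f.base)
          (CohTop.const Y (ULift.{u} ℤ)) (Coh.toAb G) p e) := by
  rw [Φ_apply]
  simp only [CohPull.pushEdge, CohPull.pullMod, CohPull.pullAb, CohPull.mapH, AddMonoidHom.coe_comp,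
    Function.comp_apply, Sheaf.H.map_apply, Functor.mapExtAddHom_apply, Ext.precomp,
    Ext.bilinearComp_apply_apply]
  exact (assoc_aux _ _ _ _).trans (congrArg (fun t => (Ext.mk₀ (CohPull.oneTo f.base)).comp
    ((e.mapExactFunctor (CohPull.inv f.base)).comp (Ext.mk₀ t) (add_zero p)) (zero_add p))
    (theta_comp_counit f G))

theorem pushEdge_bijective (G : X.Modules)
    (hG : ∀ q : ℕ, 0 < q → Limits.IsZero ((Coh.Rpush f q).obj G)) (p : ℕ) :
    Function.Bijective (CohPull.pushEdge f G p) := by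
  haveI := isIso_oneTo f.base
  have h1 := Φ_bijective (CohPull.inv f.base) (CohTop.push f.base) (CohPull.invPushAdj f.base)
    (CohTop.const Y (ULift.{u} ℤ)) p (Coh.toAb G) (acyc_toAb f G hG)
  have h2 := precomp_mk₀_bijective (CohPull.oneTo f.base) (Coh.toAb G) p
  have : ⇑(CohPull.pushEdge f G p) = ⇑((Ext.mk₀ (CohPull.oneTo f.base)).precomp (Coh.toAb G) (zero_add p)) ∘
      ⇑(Φ (CohPull.inv f.base) (CohTop.push f.base) (CohPull.invPushAdj f.base)
          (CohTop.const Y (ULift.{u} ℤ)) (Coh.toAb G) p) := by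
    funext e
    exact pushEdge_apply f G p e
  rw [this]
  exact h2.comp h1

end Sch

end

end Groth.Agent.Lib.PushEdge_helper7
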