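import Mathlib
import Groth.Agent.Lib.PushEdge_helper7
import Groth.Agent.Lib.RpushVanish_helper9

/-!
# The edge map for an affine morphism and a quasi-coherent module (helper7)
-/

set_option autoImplicit false
universe u
open CategoryTheory CategoryTheory.Limits AlgebraicGeometry TopologicalSpace Opposite Abelian

namespace Groth.Agent.Lib.PushEdge2_helper7

open Groth.Agent.Lib Groth.Agent.Lib.ExtAdj_helper7 Groth.Agent.Lib.PushEdge_helper7

noncomputable section

variable {X Y : Scheme.{u}} (f : X ⟶ Y)

theorem pushEdge_apply' (G : X.Modules) (p : ℕ)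
    (e : Coh.HH Y ((Scheme.Modules.pushforward f).obj G) p) :
    CohPull.pushEdge f G p e =
      (Ext.mk₀ (CohPull.oneTo f.base)).precomp (Coh.toAb G) (zero_add p)
        (Φ (CohPull.inv f.base) (CohTop.push f.base) (CohPull.invPushAdj f.base)
          (CohTop.const Y (ULift.{u} ℤ)) (Coh.toAb G) p e) := by
  rw [Φ_apply]
  simp only [CohPull.pushEdge, CohPull.pullMod, CohPull.pullAb, CohPull.mapH, AddMonoidHom.coe_comp,
    Function.comp_apply, Sheaf.H.map_apply, Functor.mapExtAddHom_apply, Ext.precomp,
    Ext.bilinearComp_apply_apply]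
  exact (assoc_aux _ _ _ _).trans (congrArg (fun t => (Ext.mk₀ (CohPull.oneTo f.base)).comp
    ((e.mapExactFunctor (CohPull.inv f.base)).comp (Ext.mk₀ t) (add_zero p)) (zero_add p))
    (theta_comp_counit f G))

/-- the edge map is bijective as soon as the underlying abelian sheaf is `f_*`-acyclic -/
theorem pushEdge_bijective_of_acyc (G : X.Modules)
    (hG : FAcyc.acyc (CohTop.push f.base) (Coh.toAb G)) (p : ℕ) :
    Function.Bijective (CohPull.pushEdge f G p) := by
  haveI := isIso_oneTo f.base
  have h1 := Φ_bijective (CohPull.inv f.base) (CohTop.push f.base) (CohPull.invPushAdj f.base)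
    (CohTop.const Y (ULift.{u} ℤ)) p (Coh.toAb G) hG
  have h2 := precomp_mk₀_bijective (CohPull.oneTo f.base) (Coh.toAb G) p
  have : ⇑(CohPull.pushEdge f G p) = ⇑((Ext.mk₀ (CohPull.oneTo f.base)).precomp (Coh.toAb G) (zero_add p)) ∘
      ⇑(Φ (CohPull.inv f.base) (CohTop.push f.base) (CohPull.invPushAdj f.base)
          (CohTop.const Y (ULift.{u} ℤ)) (Coh.toAb G) p) := by
    funext e
    exact pushEdge_apply' f G p e
  rw [this]
  exact h2.comp h1

theorem acyc_of_isAffineHom [IsAffineHom f] (F : X.Modules) [F.IsQuasicoherent] :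
    FAcyc.acyc (CohTop.push f.base) (Coh.toAb F) := by
  intro i hi
  obtain ⟨j, rfl⟩ : ∃ j, i = j + 1 := ⟨i - 1, by omega⟩
  exact RpushVanish.isZero_RpushAb_of_isAffineHom f F j

theorem pushEdge_bijective_of_isAffineHom [IsAffineHom f] (F : X.Modules) [F.IsQuasicoherent] (p : ℕ) :
    Function.Bijective (CohPull.pushEdge f F p) :=
  pushEdge_bijective_of_acyc f F (acyc_of_isAffineHom f F) p

end

end Groth.Agent.Lib.PushEdge2_helper7
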