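import Mathlib
import Groth.Prelude
import Groth.Agent.Lib.PushEdge2_helper7
import Groth.Agent.Lib.ProjFin1_helper9
import Groth.Agent.Lib.HHVan_helper9
import Groth.Agent.Lib.QCohCrit_helper9

/-!
# Naturality and linearity of the edge map `H^p(Y, f_* G) → H^p(X, G)` (helper9)
-/

set_option autoImplicit false
universe u
open CategoryTheory CategoryTheory.Limits AlgebraicGeometry TopologicalSpace Opposite Abelian

namespace Groth.Agent.PushEdgeNat

open Groth.Agent.Lib Groth.Agent.Lib.ExtAdj_helper7 Groth.Agent.Lib.PushEdge_helper7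
  Groth.Agent.Lib.PushEdge2_helper7

variable {X Y : Scheme.{u}} (f : X ⟶ Y)

/-- naturality of the edge map in morphisms of the underlying abelian sheaves -/
theorem pushEdge_nat {G G' : X.Modules} (g : Coh.toAb G ⟶ Coh.toAb G') (p : ℕ)
    (e : Coh.HH Y ((Scheme.Modules.pushforward f).obj G) p) :
    CohPull.pushEdge f G' p
        (Sheaf.H.map (F := Coh.toAb ((Scheme.Modules.pushforward f).obj G))
          (G := Coh.toAb ((Scheme.Modules.pushforward f).obj G'))
          ((CohTop.push f.base).map g) p e) =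
      Sheaf.H.map g p (CohPull.pushEdge f G p e) := by
  rw [pushEdge_apply', pushEdge_apply', Sheaf.H.map_apply, Sheaf.H.map_apply]
  have h := Φ_comp_mk₀ (CohPull.inv f.base) (CohTop.push f.base) (CohPull.invPushAdj f.base)
    (CohTop.const Y (ULift.{u} ℤ)) g p e
  refine (congrArg (fun t => (Ext.mk₀ (CohPull.oneTo f.base)).precomp (Coh.toAb G') (zero_add p) t)
    h).trans ?_
  simp only [Ext.precomp, Ext.bilinearComp_apply_apply]
  exact (Ext.comp_assoc_of_third_deg_zero _ _ _ _).symm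

/-- naturality of the edge map in morphisms of modules -/
theorem pushEdge_map {G G' : X.Modules} (φ : G ⟶ G') (p : ℕ)
    (e : Coh.HH Y ((Scheme.Modules.pushforward f).obj G) p) :
    CohPull.pushEdge f G' p
        (Groth.Agent.HHVan.hmap ((Scheme.Modules.pushforward f).map φ) p e) =
      Groth.Agent.HHVan.hmap φ p (CohPull.pushEdge f G p e) :=
  pushEdge_nat f ((SheafOfModules.toSheaf X.ringCatSheaf).map φ) p e

/-- the pushforward of a scalar multiplication -/
theorem push_smulAb (G : X.Modules) (c : Coh.Γtop Y) :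
    (CohTop.push f.base).map (Coh.smulAb G (f.appTop.hom c)) =
      Coh.smulAb ((Scheme.Modules.pushforward f).obj G) c := by
  apply Sheaf.hom_ext
  ext U m
  have h1 : ((CohTop.push f.base).map (Coh.smulAb G (f.appTop.hom c))).hom.app U m =
      (Coh.smulAb G (f.appTop.hom c)).hom.app (op (f ⁻¹ᵁ U.unop)) m := rfl
  refine h1.trans ?_
  refine (Coh.smulAb_app G (f.appTop.hom c) (op (f ⁻¹ᵁ U.unop)) m).trans ?_
  refine Eq.trans ?_ (Coh.smulAb_app ((Scheme.Modules.pushforward f).obj G) c U m).symm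
  have h2 : Coh.resTop X (op (f ⁻¹ᵁ U.unop)) (f.appTop.hom c) =
      (f.app U.unop).hom (Coh.resTop Y U c) := by
    have := congr($(f.naturality (homOfLE (le_top : U.unop ≤ ⊤)).op) c)
    exact this.symm
  rw [h2]
  rfl

section Lin

variable {A : Type u} [CommRing A] [X.Over (Spec (CommRingCat.of A))]
  [Y.Over (Spec (CommRingCat.of A))]
  (hf : f ≫ (Y ↘ Spec (CommRingCat.of A)) = X ↘ Spec (CommRingCat.of A))

include hf in
lemma toGlobal_comp (r : A) :
    Coh.toGlobal (X ↘ Spec (CommRingCat.of A)) r =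
      f.appTop.hom (Coh.toGlobal (Y ↘ Spec (CommRingCat.of A)) r) := by
  rw [← hf]
  rfl

include hf in
/-- the edge map is `A`-linear -/
theorem pushEdge_smul (G : X.Modules) (p : ℕ) (r : A)
    (e : Coh.HH Y ((Scheme.Modules.pushforward f).obj G) p) :
    CohPull.pushEdge f G p (r • e) = r • CohPull.pushEdge f G p e := by
  have h1 : r • e = Sheaf.H.map (Coh.smulAb ((Scheme.Modules.pushforward f).obj G)
      (Coh.toGlobal (Y ↘ Spec (CommRingCat.of A)) r)) p e := rfl
  have h2 : r • CohPull.pushEdge f G p e = Sheaf.H.map (Coh.smulAb G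
      (Coh.toGlobal (X ↘ Spec (CommRingCat.of A)) r)) p (CohPull.pushEdge f G p e) := rfl
  rw [h1, h2, toGlobal_comp f hf r, ← push_smulAb]
  exact pushEdge_nat f _ p e

/-- the edge map as an `A`-linear map -/
noncomputable def pushEdgeLin (G : X.Modules) (p : ℕ) :
    Coh.HH Y ((Scheme.Modules.pushforward f).obj G) p →ₗ[A] Coh.HH X G p where
  toFun := CohPull.pushEdge f G p
  map_add' := map_add _
  map_smul' r e := pushEdge_smul f hf G p r e

lemma pushEdgeLin_apply (G : X.Modules) (p : ℕ)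
    (e : Coh.HH Y ((Scheme.Modules.pushforward f).obj G) p) :
    pushEdgeLin f hf G p e = CohPull.pushEdge f G p e := rfl

/-- for an affine morphism and a quasi-coherent module, the edge map is a linear equivalence -/
noncomputable def pushEdgeEquiv [IsAffineHom f] (G : X.Modules) [G.IsQuasicoherent] (p : ℕ) :
    Coh.HH Y ((Scheme.Modules.pushforward f).obj G) p ≃ₗ[A] Coh.HH X G p :=
  LinearEquiv.ofBijective (pushEdgeLin f hf G p) (pushEdge_bijective_of_isAffineHom f G p)

lemma pushEdgeEquiv_apply [IsAffineHom f] (G : X.Modules) [G.IsQuasicoherent] (p : ℕ)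
    (e : Coh.HH Y ((Scheme.Modules.pushforward f).obj G) p) :
    pushEdgeEquiv f hf G p e = CohPull.pushEdge f G p e := rfl

include hf in
/-- **transfer of dualizing pairs along an affine morphism**: if `(ωZ, trZ)` is `r`-dualizing on
`Y` and `ωX` represents `F ↦ Hom(f_* F, ωZ)` through `τ`, then `ωX` with the trace
`trZ ∘ H^r(τ) ∘ (edge map)⁻¹` is `r`-dualizing on `X`. -/
theorem isRDualOver_of_affine [IsAffineHom f] (r : ℕ)
    (ωZ : Y.Modules) (trZ : Coh.HH Y ωZ r →ₗ[A] A) (hZ : Canon.IsRDualOver A Y r ωZ trZ)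
    (ωX : X.Modules) (hωX : Coh.IsQCoh ωX) (τ : (Coh.push f).obj ωX ⟶ ωZ)
    (huniv : ∀ F : X.Modules, Coh.IsQCoh F →
      Function.Bijective (fun φ : F ⟶ ωX => (Coh.push f).map φ ≫ τ)) :
    ∃ trX : Coh.HH X ωX r →ₗ[A] A, Canon.IsRDualOver A X r ωX trX := by
  haveI : ωX.IsQuasicoherent := hωX
  let E := pushEdgeEquiv f hf ωX r
  refine ⟨(trZ ∘ₗ Canon.HHlin A τ r) ∘ₗ E.symm.toLinearMap, hωX, fun F hF => ?_⟩
  haveI : F.IsQuasicoherent := hF
  haveI hpF : ((Scheme.Modules.pushforward f).obj F).IsQuasicoherent :=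
    QCohCrit.isQuasicoherent_pushforward f F
  let EF := pushEdgeEquiv f hf F r
  have key : ∀ φ : F ⟶ ωX,
      Canon.dualityMap A X r ωX ((trZ ∘ₗ Canon.HHlin A τ r) ∘ₗ E.symm.toLinearMap) F φ =
        (Canon.dualityMap A Y r ωZ trZ ((Coh.push f).obj F) ((Coh.push f).map φ ≫ τ)) ∘ₗ
          EF.symm.toLinearMap := by
    intro φ
    ext x
    obtain ⟨e, rfl⟩ := EF.surjective x
    show trZ (Canon.HHlin A τ r (E.symm (Canon.HHlin A φ r (EF e)))) =
      trZ (Canon.HHlin A ((Coh.push f).map φ ≫ τ) r (EF.symm (EF e)))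
    rw [LinearEquiv.symm_apply_apply]
    have h1 : Canon.HHlin A φ r (EF e) = E (Canon.HHlin A ((Coh.push f).map φ) r e) :=
      (pushEdge_map f φ r e).symm
    rw [h1, LinearEquiv.symm_apply_apply]
    exact congrArg trZ (Groth.Agent.HHVan.hmap_comp ((Coh.push f).map φ) τ r e).symm
  have hb1 := huniv F hF
  have hb2 := hZ.2 ((Coh.push f).obj F) hpF
  have hb3 : Function.Bijective
      (fun ψ : Coh.HH Y ((Coh.push f).obj F) r →ₗ[A] A => ψ ∘ₗ EF.symm.toLinearMap) := by
    constructor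
    · intro ψ ψ' h
      ext e
      have := congrArg (fun χ : Coh.HH X F r →ₗ[A] A => χ (EF e)) h
      simpa using this
    · intro χ
      refine ⟨χ ∘ₗ EF.toLinearMap, ?_⟩
      ext x
      simp
  have : Canon.dualityMap A X r ωX ((trZ ∘ₗ Canon.HHlin A τ r) ∘ₗ E.symm.toLinearMap) F =
      (fun ψ : Coh.HH Y ((Coh.push f).obj F) r →ₗ[A] A => ψ ∘ₗ EF.symm.toLinearMap) ∘
        (Canon.dualityMap A Y r ωZ trZ ((Coh.push f).obj F)) ∘
          (fun φ : F ⟶ ωX => (Coh.push f).map φ ≫ τ) := by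
    funext φ
    exact key φ
  rw [this]
  exact hb3.comp (hb2.comp hb1)

end Lin

end Groth.Agent.PushEdgeNat
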