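import Mathlib
import Groth.Prelude
import Groth.Agent.Lib.HypIdeal2_helper9
import Groth.Agent.Lib.PushEdgeNat_helper9
import Groth.Agent.Lib.ProjDual2_helper9

/-!
# Cohomology of the structure sheaf of a hypersurface in projective space (helper9)
-/

set_option autoImplicit false
universe u
open CategoryTheory CategoryTheory.Limits AlgebraicGeometry TopologicalSpace Opposite

namespace Groth.Agent.HypConn

open Groth.Agent.HypSurf QcqsLoc QCohExtn SerreCrit

section Ses

variable (k : Type u) [Field k] (q : ℕ)
  (I : (CohB1.ProjSpace (q + 1) k).IdealSheafData) {c : ℤ}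
  (e : ClSub.idealMod I ≅ OO k q c)

include e in
/-- the ideal sequence `0 → O(c) → O(0) → O_X → 0` of a hypersurface. -/
theorem exists_ses0 :
    ∃ (φ : OO k q c ⟶ OO k q 0) (g : OO k q 0 ⟶ ClSub.quotMod I) (w : φ ≫ g = 0),
      (ShortComplex.mk φ g w).ShortExact := by
  have hS := ses_shortExact I
  obtain ⟨e0⟩ := Groth.Agent.ProjTens.twist_zero (q + 1) k
  have w : (e.inv ≫ ClSub.idealModι I ≫ e0.inv) ≫ (e0.hom ≫ ClSub.toSubscheme I) = 0 := by
    have hz : ClSub.idealModι I ≫ ClSub.toSubscheme I = 0 := kernel.condition _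
    simp only [Category.assoc, Iso.inv_hom_id_assoc, hz, comp_zero]
  refine ⟨e.inv ≫ ClSub.idealModι I ≫ e0.inv, e0.hom ≫ ClSub.toSubscheme I, w, ?_⟩
  refine ShortComplex.shortExact_of_iso
    (ShortComplex.isoMk e e0.symm (Iso.refl _) ?_ ?_ : ses I ≅ ShortComplex.mk _ _ w) hS
  · show e.hom ≫ e.inv ≫ ClSub.idealModι I ≫ e0.inv = ClSub.idealModι I ≫ e0.inv
    rw [Iso.hom_inv_id_assoc]
  · show e0.inv ≫ e0.hom ≫ ClSub.toSubscheme I = ClSub.toSubscheme I ≫ 𝟙 _
    rw [Iso.inv_hom_id_assoc, Category.comp_id]

end Ses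

section Transfer

variable {A : Type u} [CommRing A] {X : Scheme.{u}} [X.Over (Spec (CommRingCat.of A))]
  (I : X.IdealSheafData) [I.subscheme.Over (Spec (CommRingCat.of A))]
  (hinst : I.subscheme ↘ Spec (CommRingCat.of A) = I.subschemeι ≫ (X ↘ Spec (CommRingCat.of A)))

include hinst in
/-- cohomology of the structure sheaf of a closed subscheme, computed on the ambient scheme -/
theorem nonempty_linearEquiv_quotMod (p : ℕ) :
    Nonempty (Coh.HH X (ClSub.quotMod I) p ≃ₗ[A]
      Coh.HH I.subscheme (Coh.structureModule I.subscheme) p) := by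
  haveI : (Coh.structureModule I.subscheme).IsQuasicoherent := SerreCrit.isQuasicoherent_OO
  exact ⟨Groth.Agent.PushEdgeNat.pushEdgeEquiv I.subschemeι hinst.symm
    (Coh.structureModule I.subscheme) p⟩

end Transfer

section Main

variable (k : Type u) [Field k]

/-- the cohomology of the structure sheaf of a hypersurface `V_+(G)` of degree `d` in `P^N_k`,
`N = q + 1 ≥ 2` -/
theorem hyp_main (N q : ℕ) (hN : N = q + 1) (hq : 1 ≤ q) (d : ℕ) (G : LefPen.Form N k d)
    (hG : G ≠ 0) :
    (Module.Finite k (Coh.HH (CohB1.ProjSpace N k) (ClSub.quotMod (LefPen.hypIdeal G)) 0) ∧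
      Module.finrank k (Coh.HH (CohB1.ProjSpace N k) (ClSub.quotMod (LefPen.hypIdeal G)) 0) =
        Nat.choose (q + 1) (q + 1) - Nat.choose (q + 1 - d) (q + 1)) ∧
    (Module.Finite k (Coh.HH (CohB1.ProjSpace N k) (ClSub.quotMod (LefPen.hypIdeal G)) q) ∧
      Module.finrank k (Coh.HH (CohB1.ProjSpace N k) (ClSub.quotMod (LefPen.hypIdeal G)) q) =
        Nat.choose (d - 1) (q + 1)) ∧
    ∀ p : ℕ, p ≠ 0 → p ≠ q →
      Subsingleton (Coh.HH (CohB1.ProjSpace N k) (ClSub.quotMod (LefPen.hypIdeal G)) p) := by
  subst hN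
  obtain ⟨e⟩ := Groth.Agent.HypIdeal.hypIdeal_iso G hG
  obtain ⟨φ, g, w, hS⟩ := exists_ses0 k q (LefPen.hypIdeal G) e
  refine ⟨?_, ?_, fun p hp0 hpq => vanish k q φ g w hS p hp0 hpq⟩
  · obtain ⟨hf, he⟩ := h0_eq k q φ g w hS hq
    refine ⟨hf, he.trans ?_⟩
    congr 2
    · simp
    · omega
  · obtain ⟨hf, he⟩ := hq_eq k q φ g w hS hq
    refine ⟨hf, he.trans ?_⟩
    have h1 : (-(-(d : ℤ)) - 1).toNat = d - 1 := by omega
    have h2 : (-(0 : ℤ) - 1).toNat = 0 := by omega
    rw [h1, h2, Nat.choose_eq_zero_of_lt (by omega : 0 < q + 1), Nat.sub_zero]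

end Main

section Conn

open Groth.Agent.ProjDual

variable {k : Type u} [Field k] {X : Scheme.{u}} [X.Over (Spec (CommRingCat.of k))]

/-- the structure map to functions on an open -/
noncomputable def ccU (U : X.Opens) : k →+* Γ(X, U) :=
  (rX (le_top : U ≤ ⊤)).comp (cc (X := X) k)

lemma ccU_injective (U : X.Opens) [Nonempty U] : Function.Injective (ccU (k := k) U) :=
  RingHom.injective _

/-- a scheme over a field whose `H^0(O)` is one-dimensional is connected -/
theorem connectedSpace_of_finrank_h0
    (h : Module.finrank k (Coh.HH X (Coh.structureModule X) 0) = 1) : ConnectedSpace X := by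
  obtain ⟨v, hv0, hv⟩ := finrank_eq_one_iff'.mp h
  let H := h0 (Coh.structureModule X)
  have hne : Nonempty X := by
    by_contra hemp
    rw [not_nonempty_iff] at hemp
    have htb : (⊤ : X.Opens) = ⊥ := Subsingleton.elim _ _
    have hsub : Subsingleton Γ(X, (⊤ : X.Opens)) := by
      rw [htb]
      infer_instance
    exact hv0 (H.injective (hsub.elim (H v) (H 0)))
  haveI : PreconnectedSpace X := by
    rw [preconnectedSpace_iff_clopen]
    intro s hs
    by_contra hcon
    rw [not_or] at hcon
    obtain ⟨hs0, hs1⟩ := hcon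
    let U : X.Opens := ⟨s, hs.isOpen⟩
    let V : X.Opens := ⟨sᶜ, hs.compl.isOpen⟩
    haveI : Nonempty U := by
      obtain ⟨x, hx⟩ := Set.nonempty_iff_ne_empty.mpr hs0
      exact ⟨⟨x, hx⟩⟩
    haveI : Nonempty V := by
      obtain ⟨x, hx⟩ := Set.nonempty_compl.mpr hs1
      exact ⟨⟨x, hx⟩⟩
    have hUV : U ⊓ V = ⊥ := by
      ext x
      simp [U, V]
    -- the idempotent
    obtain ⟨e, he⟩ := TensH8.glueX (fun b : Bool => if b then U else V) ⊤ (fun _ => le_top)
      (by
        intro x _
        by_cases hx : x ∈ s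
        · exact Opens.mem_iSup.mpr ⟨true, hx⟩
        · exact Opens.mem_iSup.mpr ⟨false, hx⟩)
      (fun b => if hb : b = true then (by rw [if_pos hb]; exact 1) else (by rw [if_neg hb]; exact 0))
      (by
        intro i j
        rcases i with _ | _ <;> rcases j with _ | _
        · rfl
        · haveI : Subsingleton Γ(X, ((if false = true then U else V) ⊓
              (if true = true then U else V) : X.Opens)) := by
            have : ((if false = true then U else V) ⊓ (if true = true then U else V) : X.Opens) =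
                ⊥ := by
              simp only [Bool.false_eq_true, if_false, if_true]
              rw [inf_comm]
              exact hUV
            rw [this]
            infer_instance
          exact Subsingleton.elim _ _
        · haveI : Subsingleton Γ(X, ((if true = true then U else V) ⊓
              (if false = true then U else V) : X.Opens)) := by
            have : ((if true = true then U else V) ⊓ (if false = true then U else V) : X.Opens) =
                ⊥ := by
              simp only [Bool.false_eq_true, if_false, if_true]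
              exact hUV
            rw [this]
            infer_instance
          exact Subsingleton.elim _ _
        · rfl)
    have heU : rX (le_top : U ≤ ⊤) e = 1 := he true
    have heV : rX (le_top : V ≤ ⊤) e = 0 := he false
    -- linear dependence
    obtain ⟨a, ha⟩ := hv (H.symm (1 : Γ(X, (⊤ : X.Opens))))
    obtain ⟨b, hb⟩ := hv (H.symm e)
    have hrel : b • H.symm (1 : Γ(X, (⊤ : X.Opens))) = a • H.symm e := by
      rw [← ha, ← hb, smul_smul, smul_smul, mul_comm]
    have hrel' : (cc (X := X) k b : Γ(X, (⊤ : X.Opens))) * 1 = cc (X := X) k a * e := by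
      have := congrArg H hrel
      rw [h0_smul, h0_smul, H.apply_symm_apply, H.apply_symm_apply] at this
      exact this
    rw [mul_one] at hrel'
    have hb0 : b = 0 := by
      apply ccU_injective (k := k) V
      rw [map_zero]
      have := congrArg (rX (le_top : V ≤ ⊤)) hrel'
      rw [map_mul, heV, mul_zero] at this
      exact this
    have ha0 : a = 0 := by
      apply ccU_injective (k := k) U
      rw [map_zero]
      have := congrArg (rX (le_top : U ≤ ⊤)) hrel'
      rw [map_mul, heU, mul_one, hb0, map_zero, map_zero] at this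
      exact this.symm
    rw [ha0, zero_smul] at ha
    have h10 : (1 : Γ(X, (⊤ : X.Opens))) = 0 := by
      have := congrArg H ha
      rw [H.apply_symm_apply, map_zero] at this
      exact this.symm
    haveI : Nonempty (⊤ : X.Opens) := ⟨⟨hne.some, trivial⟩⟩
    exact one_ne_zero h10
  exact ⟨hne⟩

/-- a scheme over a field `k` whose `H^0(O)` is one-dimensional has `k` as its ring of global
functions -/
theorem bijective_cc_of_finrank_h0
    (h : Module.finrank k (Coh.HH X (Coh.structureModule X) 0) = 1) :
    Function.Bijective (cc (X := X) k) := by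
  obtain ⟨v, hv0, hv⟩ := finrank_eq_one_iff'.mp h
  let H := h0 (Coh.structureModule X)
  haveI := connectedSpace_of_finrank_h0 h
  haveI : Nonempty (⊤ : X.Opens) := ⟨⟨(inferInstance : Nonempty X).some, trivial⟩⟩
  refine ⟨RingHom.injective _, ?_⟩
  intro w
  obtain ⟨a, ha⟩ := hv (H.symm (1 : Γ(X, (⊤ : X.Opens))))
  obtain ⟨c, hc⟩ := hv (H.symm w)
  have ha0 : a ≠ 0 := by
    intro ha0
    rw [ha0, zero_smul] at ha
    have h10 : (1 : Γ(X, (⊤ : X.Opens))) = 0 := by
      have := congrArg H ha
      rw [H.apply_symm_apply, map_zero] at this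
      exact this.symm
    exact one_ne_zero h10
  refine ⟨c * a⁻¹, ?_⟩
  have h1 : (c * a⁻¹) • H.symm (1 : Γ(X, (⊤ : X.Opens))) = H.symm w := by
    rw [← ha, ← hc, smul_smul, mul_assoc, inv_mul_cancel₀ ha0, mul_one]
  have h2 := congrArg H h1
  rw [h0_smul, H.apply_symm_apply, H.apply_symm_apply] at h2
  exact (mul_one _).symm.trans h2

end Conn

end Groth.Agent.HypConn
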