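import Mathlib
import Groth.Prelude
import Groth.Agent.Lib.HypConn_helper9

/-!
# Hypersurfaces of low degree: vanishing of higher cohomology of the structure sheaf (helper9)
-/

set_option autoImplicit false
universe u
open CategoryTheory CategoryTheory.Limits AlgebraicGeometry TopologicalSpace Opposite MvPolynomial

namespace Groth.Agent.HypConn

open Groth.Agent.HypSurf Groth.Agent.HypIdeal Groth.Agent.ProjCech QcqsLoc QCohExtn SerreCrit
  Groth.Agent.HHVan

section Iso

variable {A : Type u} [CommRing A] {X : Scheme.{u}} [X.Over (Spec (CommRingCat.of A))]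

/-- the linear equivalence on cohomology induced by an isomorphism of modules -/
noncomputable def hhEquivOfIso {M N : X.Modules} (e : M ≅ N) (i : ℕ) :
    Coh.HH X M i ≃ₗ[A] Coh.HH X N i :=
  LinearEquiv.ofBijective (Canon.HHlin A e.hom i) (by
    constructor
    · intro x y hxy
      have h1 : ∀ z : Coh.HH X M i, hmap e.inv i (hmap e.hom i z) = z := fun z => by
        rw [← hmap_comp, e.hom_inv_id, hmap_id]
      have h2 : hmap e.hom i x = hmap e.hom i y := hxy
      rw [← h1 x, ← h1 y, h2]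
    · intro z
      refine ⟨hmap e.inv i z, ?_⟩
      show hmap e.hom i (hmap e.inv i z) = z
      rw [← hmap_comp, e.inv_hom_id, hmap_id])

end Iso

section Bot

variable {X : Scheme.{u}} (I : X.IdealSheafData)

theorem isIso_toSubscheme_of_ideal_bot (h : ∀ U : X.affineOpens, I.ideal U = ⊥) :
    IsIso (ClSub.toSubscheme I) := by
  haveI : Epi (ClSub.toSubscheme I) := epi_toSubscheme I
  haveI : Mono (ClSub.toSubscheme I) := by
    apply AcycEmb.mono_of_injective
    intro W
    rw [injective_iff_map_eq_zero]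
    intro s hs
    obtain ⟨t, ht⟩ := TensH8.exists_kernel_section (ClSub.toSubscheme I) s hs
    apply eq_zero_of_cover
    intro x hx
    obtain ⟨_, ⟨W', hW' : IsAffineOpen W', rfl⟩, hxW', hle⟩ :=
      X.isBasis_affineOpens.exists_subset_of_mem_open hx W.isOpen
    have hle' : W' ≤ W := hle
    refine ⟨W', hle', hxW', ?_⟩
    have h1 := TensH8.idealModι_mem I hW' (rF (ClSub.idealMod I) hle' t)
    rw [h ⟨W', hW'⟩, Ideal.mem_bot] at h1
    have h2 : rF (OO X) hle' s = ap (ClSub.idealModι I) W' (rF (ClSub.idealMod I) hle' t) := by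
      rw [ap_rF]
      exact congrArg _ ht.symm
    exact h2.trans h1
  exact isIso_of_mono_of_epi _

end Bot

section Zero

variable {r : ℕ} {k : Type u} [Field k] {d : ℕ}

theorem hypFamily_zero (U : (CohB1.ProjSpace r k).affineOpens) :
    LefPen.hypFamily (0 : LefPen.Form r k d) U = ⊥ := by
  rw [eq_bot_iff]
  intro a₀ ha
  rw [Ideal.mem_bot]
  unfold LefPen.hypFamily at ha
  rw [Ideal.mem_iInf] at ha
  obtain ⟨U', rfl⟩ : ∃ U' : (Proj (𝒜 r k)).affineOpens, U' = U := ⟨U, rfl⟩
  obtain ⟨a, rfl⟩ : ∃ a : Γ(Proj (𝒜 r k), U'.1), a = a₀ := ⟨a₀, rfl⟩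
  have ha' : ∀ j : Fin (r + 1), ∃ c : Γ(Proj (𝒜 r k), U'.1 ⊓ LefPen.chart r k j),
      c * rX (X := Proj (𝒜 r k))
          (inf_le_right : U'.1 ⊓ LefPen.chart r k j ≤ LefPen.chart r k j)
          (deh (0 : LefPen.Form r k d) j) =
        rX (X := Proj (𝒜 r k)) (inf_le_left : U'.1 ⊓ LefPen.chart r k j ≤ U'.1) a := by
    intro j
    have := ha j
    rw [Ideal.mem_comap, Ideal.mem_span_singleton'] at this
    exact this
  apply ext_valO (n := r) (R := k)
  intro x
  obtain ⟨j, hj⟩ := chart_cover (k := k) x.1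
  obtain ⟨c, hc⟩ := ha' j
  let y : (U'.1 ⊓ LefPen.chart r k j : (Proj (𝒜 r k)).Opens) := ⟨x.1, x.2, hj⟩
  have e3 : valO (n := r) (R := k) _ y = valO (n := r) (R := k) _ y :=
    congrArg (fun z => valO (n := r) (R := k) z y) hc
  have e2 : valO (n := r) (R := k) (rX (X := Proj (𝒜 r k))
      (inf_le_right : U'.1 ⊓ LefPen.chart r k j ≤ LefPen.chart r k j)
      (deh (0 : LefPen.Form r k d) j)) y = 0 := by
    refine (valO_dehom (0 : LefPen.Form r k d) j ⟨x.1, hj⟩).trans ?_
    exact Localization.mk_zero _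
  have e4 : valO (n := r) (R := k) a x = 0 := by
    refine Eq.trans ?_ ((e3.symm.trans (valO_mul _ _ _)).trans ?_)
    · rfl
    · rw [e2, mul_zero]
  exact e4.trans (HomogeneousLocalization.val_zero).symm

theorem hypIdeal_zero_ideal (U : (CohB1.ProjSpace r k).affineOpens) :
    (LefPen.hypIdeal (0 : LefPen.Form r k d)).ideal U = ⊥ := by
  rw [eq_bot_iff, ← hypFamily_zero (d := d) U]
  exact Scheme.IdealSheafData.ideal_ofIdeals_le _ U

end Zero

section Low

variable (k : Type u) [Field k]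

/-- a hypersurface of degree `1 ≤ d ≤ N` in `P^N_k`, `N ≥ 2`, has no higher cohomology of the
structure sheaf, and one-dimensional `H^0` -/
theorem hyp_low (N q : ℕ) (hN : N = q + 1) (hq : 1 ≤ q) (d : ℕ) (hd1 : 1 ≤ d) (hd : d ≤ q + 1)
    (G : LefPen.Form N k d) :
    (∀ i : ℕ, 1 ≤ i →
      Subsingleton (Coh.HH (CohB1.ProjSpace N k) (ClSub.quotMod (LefPen.hypIdeal G)) i)) ∧
    Module.finrank k (Coh.HH (CohB1.ProjSpace N k) (ClSub.quotMod (LefPen.hypIdeal G)) 0) = 1 := by
  subst hN
  by_cases hG : G = 0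
  · subst hG
    haveI := isIso_toSubscheme_of_ideal_bot (LefPen.hypIdeal (0 : LefPen.Form (q + 1) k d))
      hypIdeal_zero_ideal
    obtain ⟨e0⟩ := Groth.Agent.ProjTens.twist_zero (q + 1) k
    let e : OO k q 0 ≅ ClSub.quotMod (LefPen.hypIdeal (0 : LefPen.Form (q + 1) k d)) :=
      e0 ≪≫ asIso (ClSub.toSubscheme (LefPen.hypIdeal (0 : LefPen.Form (q + 1) k d)))
    constructor
    · intro i hi
      exact subsingleton_of_iso e i
        (Groth.Agent.ProjCech.subsingleton_HH_twist (n := q + 1) (R := k) 0 i (by omega) (by omega))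
    · rw [← (hhEquivOfIso (A := k) e 0).finrank_eq, finrank_H0 k q 0]
      have h1 : ((0 : ℤ) + ((q : ℤ) + 1)).toNat = q + 1 := by omega
      rw [h1, Nat.choose_self]
  · obtain ⟨⟨hf0, h0⟩, ⟨hfq, hq'⟩, hv⟩ := hyp_main k (q + 1) q rfl hq d G hG
    constructor
    · intro i hi
      by_cases hiq : i = q
      · subst hiq
        haveI := hfq
        rw [Nat.choose_eq_zero_of_lt (by omega)] at hq'
        exact Module.finrank_zero_iff.mp hq'
      · exact hv i (by omega) hiq
    · rw [h0, Nat.choose_self, Nat.choose_eq_zero_of_lt (by omega)]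

end Low

end Groth.Agent.HypConn
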