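import Mathlib
import Groth.Prelude
import Groth.Agent.Lib.ProjFin1_helper9
import Groth.Agent.Lib.HypConn2_helper9

/-!
# Finiteness of cohomology for proper schemes, I: two-out-of-three and retracts (helper9)
APPEND-ONLY once landed.
-/

set_option autoImplicit false
universe u
open CategoryTheory CategoryTheory.Limits AlgebraicGeometry TopologicalSpace Opposite

namespace ProperFinH9

open Groth.Agent.ProjFin

variable (A : Type u) [CommRing A] {X : Scheme.{u}} [X.Over (Spec (CommRingCat.of A))]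

lemma range_HHlin_f (S : ShortComplex X.Modules) (hS : S.ShortExact) (i : ℕ) :
    LinearMap.range (Canon.HHlin A S.f i) = LinearMap.ker (Canon.HHlin A S.g i) := by
  ext x
  constructor
  · rintro ⟨y, rfl⟩
    rw [LinearMap.mem_ker, HHlin_apply, HHlin_apply]
    have h1 := Sheaf.H.map_comp_apply ((SerreCrit.TT X).map S.f) ((SerreCrit.TT X).map S.g) y
    rw [← h1, ← Functor.map_comp, S.zero, Functor.map_zero]
    rw [Sheaf.H.map_apply, Abelian.Ext.mk₀_zero, Abelian.Ext.comp_zero]
  · intro hx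
    rw [LinearMap.mem_ker, HHlin_apply, Sheaf.H.map_apply] at hx
    obtain ⟨y, hy⟩ := Abelian.Ext.covariant_sequence_exact₂ _ (SerreCrit.shortExact_toSheaf S hS)
      (show Abelian.Ext _ (Coh.toAb S.X₂) i from x) hx
    exact ⟨y, hy⟩

lemma range_δlin (S : ShortComplex X.Modules) (hS : S.ShortExact) (i : ℕ) :
    LinearMap.range (δlin A S hS i) = LinearMap.ker (Canon.HHlin A S.f (i + 1)) := by
  ext x
  constructor
  · rintro ⟨y, rfl⟩
    rw [LinearMap.mem_ker, HHlin_apply, Sheaf.H.map_apply]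
    show Abelian.Ext.comp (Abelian.Ext.comp (show Abelian.Ext _ (Coh.toAb S.X₃) i from y)
      (SerreCrit.shortExact_toSheaf S hS).extClass rfl) _ _ = 0
    rw [Abelian.Ext.comp_assoc_of_third_deg_zero]
    have := (SerreCrit.shortExact_toSheaf S hS).extClass_comp
    erw [this, Abelian.Ext.comp_zero]
  · intro hx
    rw [LinearMap.mem_ker, HHlin_apply, Sheaf.H.map_apply] at hx
    obtain ⟨y, hy⟩ := Abelian.Ext.covariant_sequence_exact₁ _ (SerreCrit.shortExact_toSheaf S hS)
      (show Abelian.Ext _ (Coh.toAb S.X₁) (i + 1) from x) hx rfl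
    exact ⟨y, hy⟩

lemma HHlin_f_zero_injective (S : ShortComplex X.Modules) (hS : S.ShortExact) :
    Function.Injective (Canon.HHlin A S.f 0) := by
  haveI : Mono ((SerreCrit.TT X).map S.f) := (SerreCrit.shortExact_toSheaf S hS).mono_f
  intro x y hxy
  rw [HHlin_apply, HHlin_apply, Sheaf.H.map_apply, Sheaf.H.map_apply] at hxy
  exact Abelian.Ext.postcomp_mk₀_injective_of_mono _ ((SerreCrit.TT X).map S.f) hxy

theorem isNoetherian_mid (S : ShortComplex X.Modules) (hS : S.ShortExact) (i : ℕ)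
    [IsNoetherian A (Coh.HH X S.X₁ i)] [IsNoetherian A (Coh.HH X S.X₃ i)] :
    IsNoetherian A (Coh.HH X S.X₂ i) :=
  isNoetherian_of_range_eq_ker (Canon.HHlin A S.f i) (Canon.HHlin A S.g i)
    (range_HHlin_f A S hS i)

theorem isNoetherian_left_succ (S : ShortComplex X.Modules) (hS : S.ShortExact) (i : ℕ)
    [IsNoetherian A (Coh.HH X S.X₃ i)] [IsNoetherian A (Coh.HH X S.X₂ (i + 1))] :
    IsNoetherian A (Coh.HH X S.X₁ (i + 1)) :=
  isNoetherian_of_range_eq_ker (δlin A S hS i) (Canon.HHlin A S.f (i + 1)) (range_δlin A S hS i)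

theorem isNoetherian_left_zero (S : ShortComplex X.Modules) (hS : S.ShortExact)
    [IsNoetherian A (Coh.HH X S.X₂ 0)] : IsNoetherian A (Coh.HH X S.X₁ 0) :=
  isNoetherian_of_injective (Canon.HHlin A S.f 0) (HHlin_f_zero_injective A S hS)

/-- the class of modules all of whose cohomology groups are Noetherian `A`-modules -/
def KK (F : X.Modules) : Prop := ∀ i : ℕ, IsNoetherian A (Coh.HH X F i)

theorem KK_left (S : ShortComplex X.Modules) (hS : S.ShortExact) (h₂ : KK A S.X₂) (h₃ : KK A S.X₃) :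
    KK A S.X₁ := by
  intro i
  cases i with
  | zero =>
    haveI := h₂ 0
    exact isNoetherian_left_zero A S hS
  | succ i =>
    haveI := h₃ i
    haveI := h₂ (i + 1)
    exact isNoetherian_left_succ A S hS i

theorem KK_mid (S : ShortComplex X.Modules) (hS : S.ShortExact) (h₁ : KK A S.X₁) (h₃ : KK A S.X₃) :
    KK A S.X₂ := by
  intro i
  haveI := h₁ i
  haveI := h₃ i
  exact isNoetherian_mid A S hS i

end ProperFinH9

namespace ProperFinH9

open Groth.Agent.ProjFin Groth.Agent.HHVan

variable (A : Type u) [CommRing A] {X : Scheme.{u}} [X.Over (Spec (CommRingCat.of A))]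

theorem KK_of_iso {M N : X.Modules} (e : M ≅ N) (h : KK A M) : KK A N := fun i => by
  haveI := h i
  exact isNoetherian_of_linearEquiv (Groth.Agent.HypConn.hhEquivOfIso (A := A) e i)

theorem KK_of_retract {M N : X.Modules} (s : M ⟶ N) (r : N ⟶ M) (hsr : s ≫ r = 𝟙 M)
    (h : KK A N) : KK A M := fun i => by
  haveI := h i
  refine isNoetherian_of_injective (Canon.HHlin A s i) ?_
  intro x y hxy
  have h1 : ∀ z : Coh.HH X M i, hmap r i (hmap s i z) = z := fun z => by
    rw [← hmap_comp, hsr, hmap_id]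
  have h2 : hmap s i x = hmap s i y := hxy
  rw [← h1 x, ← h1 y, h2]

theorem KK_of_sigma (F : X.Modules) (d : ℕ) (hd : 1 ≤ d) (h : KK A (∐ fun _ : Fin d => F)) :
    KK A F := by
  refine KK_of_retract A (Sigma.ι (fun _ : Fin d => F) ⟨0, hd⟩) (pr F d ⟨0, hd⟩) ?_ h
  unfold pr
  rw [Sigma.ι_desc, if_pos rfl]

end ProperFinH9
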