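import Mathlib
import Groth.Prelude
import Groth.Agent.Lib.CMReg4_helper9
import Groth.Agent.Lib.ProperFin1_helper9
import Groth.Agent.Lib.Tens29_helper8

/-!
# Finiteness of cohomology for proper schemes, II: Serre vanishing on `P^n_R` (helper9)
APPEND-ONLY once landed.
-/

set_option autoImplicit false
universe u
open CategoryTheory CategoryTheory.Limits AlgebraicGeometry TopologicalSpace Opposite

namespace ProperFinH9

open Groth.Agent.ProjTens Groth.Agent.TensInv Groth.Agent.ProjFin Groth.Agent.ProjCech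
  Groth.Agent.HHVan Groth.Agent.CMReg

section Gen

variable {X : Scheme.{u}}

theorem subsingleton_HH_X₃ (S : ShortComplex X.Modules) (hS : S.ShortExact) (i : ℕ)
    (h2 : Subsingleton (Coh.HH X S.X₂ i)) (h1 : Subsingleton (Coh.HH X S.X₁ (i + 1))) :
    Subsingleton (Coh.HH X S.X₃ i) :=
  subsingleton_ext_right_X₃ (SerreCrit.shortExact_toSheaf S hS) _ i h2 h1

theorem subsingleton_HH_sigma (L : X.Modules) (k i : ℕ) (h : Subsingleton (Coh.HH X L i)) :
    Subsingleton (Coh.HH X (∐ fun _ : Fin k => L) i) := by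
  have key : ∀ z : Coh.HH X (∐ fun _ : Fin k => L) i, z = 0 := by
    intro z
    have h1 : ∑ j, hmap (Sigma.ι (fun _ : Fin k => L) j) i (hmap (pr L k j) i z) = z := by
      have h2 : ∀ j, hmap (Sigma.ι (fun _ : Fin k => L) j) i (hmap (pr L k j) i z) =
          HmapHom i ((SerreCrit.TT X).map (pr L k j ≫ Sigma.ι (fun _ : Fin k => L) j)) z :=
        fun j => by
          rw [Functor.map_comp]
          exact (Sheaf.H.map_comp_apply _ _ _).symm
      rw [Finset.sum_congr rfl (fun j _ => h2 j), ← AddMonoidHom.finsetSum_apply, ← map_sum,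
        ← Functor.map_sum, sum_pr_ι, CategoryTheory.Functor.map_id]
      exact Sheaf.H.map_id_apply z
    rw [← h1]
    apply Finset.sum_eq_zero
    intro j _
    rw [Subsingleton.elim (hmap (pr L k j) i z) 0, map_zero]
  exact ⟨fun x y => by rw [key x, key y]⟩

end Gen

section Pn

variable (n : ℕ) (R : Type u) [CommRing R]

theorem isQuasicoherent_tw (M : (CohB1.ProjSpace n R).Modules) [M.IsQuasicoherent] (m : ℤ) :
    (CohB1.tensorMod M (OO n R m)).IsQuasicoherent := by
  haveI : (OO n R m).IsQuasicoherent :=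
    TensH8.isQuasicoherent_of_isInvertible
      (Groth.Agent.ProjTw.isInvertible_twist (𝒜 n R) (hcov' n R) m)
  exact TensQCH8.isQuasicoherent_tensorMod M (OO n R m)

/-- `H^i((∐ O(a))(m)) = 0` for `i ≥ 1`, `a + m ≥ 0` -/
theorem subsingleton_HH_sigma_twist (a m : ℤ) (k i : ℕ) (hi : 1 ≤ i) (ham : 0 ≤ a + m) :
    Subsingleton (Coh.HH (CohB1.ProjSpace n R)
      (CohB1.tensorMod (∐ fun _ : Fin k => OO n R a) (OO n R m)) i) := by
  haveI := isEquivalence_tR_twist n R m
  obtain ⟨e₁⟩ := twist_add' n R a m (a + m) rfl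
  have e := (PreservesCoproduct.iso (tR (OO n R m)) (fun _ : Fin k => OO n R a))
  have e' : (∐ fun _ : Fin k => (tR (OO n R m)).obj (OO n R a)) ≅
      ∐ fun _ : Fin k => OO n R (a + m) := Sigma.mapIso (fun _ => e₁)
  have h0 : Subsingleton (Coh.HH (CohB1.ProjSpace n R) (OO n R (a + m)) i) :=
    Groth.Agent.S0844.result R n (a + m) i (by omega) (by omega)
  have h1 := subsingleton_HH_sigma (OO n R (a + m)) k i h0
  exact subsingleton_of_iso (e ≪≫ e').symm i h1

theorem exists_twist_vanish [IsNoetherianRing R] :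
    ∀ (j i : ℕ), 1 ≤ i → n + 1 ≤ i + j → ∀ (M : (CohB1.ProjSpace n R).Modules), Coh.IsCoh M →
      ∃ m₀ : ℤ, ∀ m : ℤ, m₀ ≤ m →
        Subsingleton (Coh.HH (CohB1.ProjSpace n R) (CohB1.tensorMod M (OO n R m)) i) := by
  haveI hNoeth : AlgebraicGeometry.IsNoetherian (CohB1.ProjSpace n R) :=
    Groth.Agent.S2357.result (𝒜 n R)
  intro j
  induction j with
  | zero =>
    intro i _ hi M hM
    refine ⟨0, fun m _ => ?_⟩
    haveI : M.IsQuasicoherent := hM.1
    haveI : Coh.IsQCoh (CohB1.tensorMod M (OO n R m)) := isQuasicoherent_tw n R M m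
    exact Groth.Agent.S0022.result n R _ i (by omega)
  | succ j ih =>
    intro i hi1 hi M hM
    obtain ⟨n₀, hn₀⟩ := Groth.Agent.ProjTw.exists_epi_coprod_twist (𝒜 n R) _ (hs1_X n R)
      (hcov_X n R) M hM.1 hM.2
    obtain ⟨k, p, hp⟩ := hn₀ n₀ le_rfl
    have hL : Coh.IsCoh (X := CohB1.ProjSpace n R) (Twist.twist (𝒜 n R) (-(n₀ : ℤ))) :=
      ⟨Groth.Agent.ProjTw.isQuasicoherent_twist (𝒜 n R) _,
        Groth.Agent.ProjTw.isFiniteType_twist (𝒜 n R) (hcov' n R) _⟩
    have hE := isCoh_sigma_fin (X := CohB1.ProjSpace n R) _ hL k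
    have hK := CohKerH8.isCoh_kernel (X := CohB1.ProjSpace n R) hE hM p
    let S : ShortComplex (CohB1.ProjSpace n R).Modules :=
      ShortComplex.mk (kernel.ι p) p (kernel.condition p)
    have hS : S.ShortExact :=
      { exact := ShortComplex.exact_of_f_is_kernel _ (kernelIsKernel p)
        mono_f := inferInstanceAs (Mono (kernel.ι p))
        epi_g := hp }
    obtain ⟨m₁, hm₁⟩ := ih (i + 1) (by omega) (by omega) _ hK
    refine ⟨max m₁ n₀, fun m hm => ?_⟩
    have hS' := shortExact_twist n R S hS m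
    refine subsingleton_HH_X₃ _ hS' i ?_ ?_
    · exact subsingleton_HH_sigma_twist n R (-(n₀ : ℤ)) m k i hi1 (by omega)
    · exact hm₁ m (le_trans (le_max_left _ _) hm)

/-- **Serre vanishing on `P^n_R`** -/
theorem serre_vanishing [IsNoetherianRing R] (M : (CohB1.ProjSpace n R).Modules)
    (hM : Coh.IsCoh M) :
    ∃ m₀ : ℤ, ∀ m : ℤ, m₀ ≤ m → ∀ q : ℕ, 1 ≤ q →
      Subsingleton (Coh.HH (CohB1.ProjSpace n R) (CohB1.tensorMod M (OO n R m)) q) := by
  have h := fun q : ℕ => exists_twist_vanish n R (n + 1) (q + 1) (by omega) (by omega) M hM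
  choose f hf using h
  refine ⟨(Finset.range (n + 1)).sup' ⟨0, by simp⟩ f, fun m hm q hq => ?_⟩
  obtain ⟨q', rfl⟩ : ∃ q', q = q' + 1 := ⟨q - 1, by omega⟩
  by_cases hqn : q' ≤ n
  · apply hf q' m
    exact le_trans (Finset.le_sup' f (Finset.mem_range.mpr (by omega))) hm
  · haveI : M.IsQuasicoherent := hM.1
    haveI : Coh.IsQCoh (CohB1.tensorMod M (OO n R m)) := isQuasicoherent_tw n R M m
    exact Groth.Agent.S0022.result n R _ (q' + 1) (by omega)

end Pn

end ProperFinH9
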