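import Mathlib
import Groth.Prelude
import Groth.Agent.Lib.ProperFin2_helper9
import Groth.Agent.Lib.KRRReg3_helper9
import Groth.Agent.Lib.CohOpen2_helper8

/-!
# Finiteness of cohomology for proper schemes, III: relative Serre vanishing on `P^N_T` (helper9)
APPEND-ONLY once landed.
-/

set_option autoImplicit false
universe u
open CategoryTheory CategoryTheory.Limits AlgebraicGeometry TopologicalSpace Opposite

namespace ProperFinH9

open RpushVanish (fr)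
open SheafBasis RpushAffine

section Cover

variable {X Y : Scheme.{u}} (f : X ⟶ Y) [QuasiCompact f] [QuasiSeparated f]

/-- vanishing of `H^q(f⁻¹ V, M)` for an affine open `V` propagates to the basic opens of `V` -/
theorem ext_basicOpen_eq_zero (M : X.Modules) [M.IsQuasicoherent] (q : ℕ) (V : Y.Opens)
    (hV : IsAffineOpen V)
    (h : ∀ ξ : Abelian.Ext (fr (Y := X.carrier) (f ⁻¹ᵁ V)) (Coh.toAb M) q, ξ = 0)
    (c : Γ((V : Scheme.{u}), ⊤))
    (ξ : Abelian.Ext (fr (Y := X.carrier) (f ⁻¹ᵁ (V.ι ''ᵁ ((V : Scheme.{u}).basicOpen c))))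
      (Coh.toAb M) q) : ξ = 0 := by
  haveI : IsAffine (V : Scheme.{u}) := hV
  haveI : CompactSpace ((f ⁻¹ᵁ V : X.Opens) : Scheme.{u}) :=
    QuasiCompact.compactSpace_of_compactSpace (f ∣_ V)
  haveI : QuasiSeparatedSpace ((f ⁻¹ᵁ V : X.Opens) : Scheme.{u}) :=
    quasiSeparatedSpace_of_quasiSeparated (f ∣_ V)
  haveI : (M.restrict (f ⁻¹ᵁ V).ι).IsQuasicoherent := inferInstance
  let d' : Data (V.ι.opensFunctor.op ⋙ PP f M q) :=
    Data.ofIso (RestrNat.resPP f V M q) (data (f ∣_ V) (M.restrict (f ⁻¹ᵁ V).ι) q)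
  have h' : ∀ W : Y.Opens, W = V →
      ∀ ξ : Abelian.Ext (fr (Y := X.carrier) (f ⁻¹ᵁ W)) (Coh.toAb M) q, ξ = 0 := by
    rintro W rfl
    exact h
  obtain ⟨n, x, hx⟩ := d'.surj c ξ
  have hx0 : x = 0 := h' _ (Scheme.Opens.ι_image_top V) x
  rw [hx0, map_zero] at hx
  have hinj := d'.act_pow_injective ((V : Scheme.{u}).basicOpen c) c (d'.bij c).1 n
  exact hinj (hx.symm.trans (map_zero _).symm)

/-- **`R^{q+1} f_* M = 0` as soon as `H^{q+1}(f⁻¹ V, M) = 0` for the members `V` of an affine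
open cover.** -/
theorem isZero_Rpush_succ_of_affine_cover (M : X.Modules) [M.IsQuasicoherent] (q : ℕ)
    {ι : Type*} (V : ι → Y.Opens) (hV : ∀ k, IsAffineOpen (V k)) (hcov : ∀ y : Y, ∃ k, y ∈ V k)
    (h : ∀ k, ∀ ξ : Abelian.Ext (fr (Y := X.carrier) (f ⁻¹ᵁ V k)) (Coh.toAb M) (q + 1), ξ = 0) :
    IsZero ((Coh.RpushAb f (q + 1)).obj (Coh.toAb M)) := by
  refine RpushVanish.isZero_Rpush_succ_of_basis f.base (Coh.toAb M) q
    (fun W => ∃ (k : ι) (c : Γ((V k : Scheme.{u}), ⊤)),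
      W = (V k).ι ''ᵁ ((V k : Scheme.{u}).basicOpen c)) ?_ ?_
  · intro V₀ y hy
    obtain ⟨k, hk⟩ := hcov y
    haveI : IsAffine (V k : Scheme.{u}) := hV k
    have hy' : (⟨y, hk⟩ : (V k : Scheme.{u})) ∈ (V k).ι ⁻¹ᵁ V₀ := hy
    obtain ⟨_, ⟨c, rfl⟩, hyc, hcV⟩ :=
      Opens.isBasis_iff_nbhd.mp (isBasis_basicOpen (V k : Scheme.{u})) hy'
    refine ⟨_, ⟨k, c, rfl⟩, ⟨⟨y, hk⟩, hyc, rfl⟩, ?_⟩
    rintro _ ⟨z, hz, rfl⟩
    exact hcV hz
  · rintro W ⟨k, c, rfl⟩ ξ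
    exact ext_basicOpen_eq_zero f M (q + 1) (V k) (hV k) (h k) c ξ

end Cover

section RelSerre

open CohB1 Groth.Agent.PnOver Groth.Agent.ProjTens

variable (N : ℕ) (T : Scheme.{u}) [IsNoetherian T]

theorem isCoh_restrict_sigma (E : (KRR.PY N T).Modules) (hE : Coh.IsCoh E) (V : T.Opens)
    (hV : IsAffineOpen V) : Coh.IsCoh (E.restrict (sigma N V hV)) := by
  haveI : E.IsQuasicoherent := hE.1
  exact ⟨inferInstance, CohOpenH8.isFiniteType_restrict (sigma N V hV) E hE.2⟩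

/-- a finite affine open cover of a Noetherian (indeed quasi-compact) scheme -/
theorem exists_finite_affine_cover :
    ∃ s : Finset T.affineOpens, ∀ y : T, ∃ V ∈ s, y ∈ (V : T.Opens) := by
  obtain ⟨s, hs⟩ := (isCompact_univ (X := T)).elim_finite_subcover
    (fun V : T.affineOpens => ((V : T.Opens) : Set T)) (fun V => (V : T.Opens).isOpen)
    (by
      intro y _
      obtain ⟨W, hW, hyW, -⟩ := PnOverVanH9.affine_basis T ⊤ y trivial
      exact Set.mem_iUnion.mpr ⟨⟨W, hW⟩, hyW⟩)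
  refine ⟨s, fun y => ?_⟩
  have := hs (Set.mem_univ y)
  simp only [Set.mem_iUnion] at this
  obtain ⟨V, hVs, hy⟩ := this
  exact ⟨V, hVs, hy⟩

/-- **Relative Serre vanishing on `P^N_T`**, `T` Noetherian. -/
theorem relative_serre_vanishing (E : (KRR.PY N T).Modules) (hE : Coh.IsCoh E) :
    ∃ m₀ : ℤ, ∀ m : ℤ, m₀ ≤ m → ∀ q : ℕ, 1 ≤ q →
      IsZero ((Coh.RpushAb (KRR.pr N T) q).obj (Coh.toAb (KRR.twF N T m E))) := by
  obtain ⟨s, hs⟩ := exists_finite_affine_cover T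
  have hloc : ∀ V : T.affineOpens, ∃ m₀ : ℤ, ∀ m : ℤ, m₀ ≤ m → ∀ q : ℕ, 1 ≤ q →
      Subsingleton (Coh.HH (ProjSpace N Γ(T, (V : T.Opens)))
        (CohB1.tensorMod (E.restrict (sigma N (V : T.Opens) V.2)) (OO N Γ(T, (V : T.Opens)) m)) q) := by
    intro V
    haveI : IsNoetherianRing Γ(T, (V : T.Opens)) := IsLocallyNoetherian.component_noetherian V
    exact serre_vanishing N Γ(T, (V : T.Opens)) _ (isCoh_restrict_sigma N T E hE (V : T.Opens) V.2)
  choose m₁ hm₁ using hloc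
  haveI := (KRRRegH9.qcqs_pr N T).1
  haveI := (KRRRegH9.qcqs_pr N T).2
  refine ⟨∑ V ∈ s, |m₁ V|, fun m hm q hq => ?_⟩
  obtain ⟨q', rfl⟩ : ∃ q', q = q' + 1 := ⟨q - 1, by omega⟩
  haveI := KRRRegH9.isQuasicoherent_twF N T E hE.1 m
  refine isZero_Rpush_succ_of_affine_cover (KRR.pr N T) (KRR.twF N T m E) q'
    (fun V : s => ((V : T.affineOpens) : T.Opens)) (fun V => V.1.2)
    (fun y => by
      obtain ⟨V, hVs, hy⟩ := hs y
      exact ⟨⟨V, hVs⟩, hy⟩) ?_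
  rintro ⟨V, hVs⟩
  rw [KRRRegH9.ext_vanish_iff N (V : T.Opens) V.2 E m (q' + 1)]
  refine hm₁ V m (le_trans ?_ hm) (q' + 1) hq
  exact le_trans (le_abs_self _) (Finset.single_le_sum (f := fun V => |m₁ V|)
    (fun _ _ => abs_nonneg _) hVs)

end RelSerre

end ProperFinH9
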