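import Mathlib
import Groth.Prelude.Def_Wider
import Groth.Agent.Lib.CechKos8_helper9
import Groth.Agent.Lib.LocCohZ_helper2

/-!
# Flasqueness of `M~` and vanishing of direct-limit Koszul cohomology (helper9)
APPEND-ONLY once landed.
-/

set_option autoImplicit false
universe u
open CategoryTheory CategoryTheory.Limits AlgebraicGeometry Opposite TopologicalSpace
open QcqsLoc QCohExtn AcycEmb KoszulCokG

namespace CechKos

/-- flasque `M~` ⇒ all higher direct-limit Koszul cohomology vanishes. -/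
theorem koszul_subsingleton_of_isFlasque (A : Type u) [CommRing A] (fs : List A)
    (M : ModuleCat.{u} (CommRingCat.of A))
    (hfl : TopCat.Sheaf.IsFlasque (Coh.toAb (tilde (R := CommRingCat.of A) M)))
    (i : ℕ) (hi : 0 < i) : Subsingleton (CohIII.koszulHLim fs M i) := by
  obtain ⟨e⟩ := nonempty_HZM_tilde_punctured A fs M i
  obtain ⟨n, rfl⟩ : ∃ n, i = n + 1 := ⟨i - 1, by omega⟩
  constructor
  intro a b
  apply e.injective
  haveI := hfl
  rw [Groth.Agent.Lib.LocCohZ.HZ_eq_zero_of_isFlasque _ _ n (e a),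
    Groth.Agent.Lib.LocCohZ.HZ_eq_zero_of_isFlasque _ _ n (e b)]

/-- every open of a Noetherian `Spec A` is the punctured open of a finite list. -/
theorem exists_list_eq_puncturedOpen (A : Type u) [CommRing A]
    [NoetherianSpace (PrimeSpectrum A)] (W : (Spec (CommRingCat.of A)).Opens) :
    ∃ fs : List A, W = LocCoh.puncturedOpen A (Ideal.span {a | a ∈ fs}) := by
  have hc : IsCompact (W.1 : Set (PrimeSpectrum A)) :=
    NoetherianSpace.isCompact (α := PrimeSpectrum A) _
  have ho : IsOpen (W.1 : Set (PrimeSpectrum A)) := W.2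
  obtain ⟨t, ht⟩ := PrimeSpectrum.isCompact_isOpen_iff.mp ⟨hc, ho⟩
  refine ⟨t.toList, ?_⟩
  apply Opens.ext
  show W.1 = (PrimeSpectrum.zeroLocus (R := A)
    ((Ideal.span {a | a ∈ t.toList} : Ideal A) : Set A))ᶜ
  rw [PrimeSpectrum.zeroLocus_span, ← ht]
  congr 2
  ext a
  simp

/-- `L^1 = 0` for all lists ⇒ `M~` flasque (Noetherian `Spec A`). -/
theorem isFlasque_of_koszul_one (A : Type u) [CommRing A]
    [NoetherianSpace (PrimeSpectrum A)]
    (M : ModuleCat.{u} (CommRingCat.of A))
    (hK : ∀ fs : List A, Subsingleton (CohIII.koszulHLim fs M 1)) :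
    TopCat.Sheaf.IsFlasque (Coh.toAb (tilde (R := CommRingCat.of A) M)) := by
  set F := Coh.toAb (tilde (R := CommRingCat.of A) M) with hF
  have hsurj : ∀ W : (Spec (CommRingCat.of A)).Opens,
      Function.Surjective (Groth.Agent.Lib.Cech.res F.obj (le_top : W ≤ ⊤)) := by
    intro W
    obtain ⟨fs, rfl⟩ := exists_list_eq_puncturedOpen A W
    obtain ⟨e⟩ := nonempty_HZM_tilde_punctured A fs M 1
    haveI := hK fs
    apply Groth.Agent.Lib.LocCohZ.res_surjective_of_HZ_one
    intro x
    have : e.symm x = e.symm 0 := Subsingleton.elim _ _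
    exact e.symm.injective this
  constructor
  intro U V i
  rw [AddCommGrpCat.epi_iff_surjective]
  intro t
  obtain ⟨s, hs⟩ := hsurj V.unop t
  refine ⟨Groth.Agent.Lib.Cech.res F.obj (le_top : U.unop ≤ ⊤) s, ?_⟩
  rw [← hs]
  exact Groth.Agent.Lib.Cech.res_res F.obj (leOfHom i.unop) le_top s

end CechKos
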