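import Mathlib
import Groth.Prelude.Def_Coh
import Groth.Agent.Lib.QCohCrit2_helper9
import Groth.Agent.Lib.QcqsLoc_helper9

/-!
# `tilde` of an injective linear map is injective on sections (helper9)
APPEND-ONLY once landed.
-/

set_option autoImplicit false
universe u
open AlgebraicGeometry CategoryTheory CategoryTheory.Limits TopologicalSpace Opposite
open QcqsLoc

namespace QCInj

theorem inj_of_localized {R : Type*} [CommRing R] (S : Submonoid R)
    {A B A' B' : Type*} [AddCommGroup A] [AddCommGroup B] [AddCommGroup A'] [AddCommGroup B']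
    [Module R A] [Module R B] [Module R A'] [Module R B']
    (LA : A →ₗ[R] A') (LB : B →ₗ[R] B') [IsLocalizedModule S LA] [IsLocalizedModule S LB]
    (j : A →ₗ[R] B) (g : A' →ₗ[R] B') (h : g ∘ₗ LA = LB ∘ₗ j) (hj : Function.Injective j) :
    Function.Injective g := by
  have : g = IsLocalizedModule.map S LA LB j := by
    apply IsLocalizedModule.linearMap_ext S LA LB
    rw [h, IsLocalizedModule.map_comp]
  rw [this]
  exact IsLocalizedModule.map_injective S LA LB j hj

variable {R : CommRingCat.{u}}

theorem tilde_map_app_basicOpen_injective {A B : ModuleCat.{u} R} (j : A ⟶ B)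
    (hj : Function.Injective j.hom) (f : R) :
    Function.Injective ((tilde.map j).app (PrimeSpectrum.basicOpen f)) := by
  have h1 := tilde.toOpen_map_app j (PrimeSpectrum.basicOpen f)
  have h2 := inj_of_localized (Submonoid.powers f) (tilde.toOpen A (PrimeSpectrum.basicOpen f)).hom
    (tilde.toOpen B (PrimeSpectrum.basicOpen f)).hom j.hom
    ((modulesSpecToSheaf.map (tilde.map j)).1.app (op (PrimeSpectrum.basicOpen f))).hom
    (by
      have := congrArg ModuleCat.Hom.hom h1
      exact this) hj
  exact h2

theorem tilde_map_app_injective {A B : ModuleCat.{u} R} (j : A ⟶ B)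
    (hj : Function.Injective j.hom) (W : (Spec R).Opens) :
    Function.Injective ((tilde.map j).app W) := by
  rw [injective_iff_map_eq_zero]
  intro s hs
  apply eq_zero_of_cover
  intro x hx
  obtain ⟨_, ⟨f, rfl⟩, hxf, hfW⟩ :=
    Opens.isBasis_iff_nbhd.mp PrimeSpectrum.isBasis_basic_opens hx
  refine ⟨PrimeSpectrum.basicOpen f, hfW, hxf, ?_⟩
  apply tilde_map_app_basicOpen_injective j hj f
  rw [map_zero]
  have h4 := QCohCrit.app_naturality (tilde.map j) (homOfLE (hfW : PrimeSpectrum.basicOpen f ≤ W)) s
  rw [hs, map_zero] at h4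
  exact h4

end QCInj
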