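import Mathlib
import Groth.Prelude.Def_Coh
import Groth.Agent.Lib.QCInj1_helper9
import Groth.Agent.Lib.CechKos9_helper9
import Groth.Agent.Lib.KoszulLim_helper6
import Groth.Agent.Lib.AcycEmb_helper9
import Groth.Agent.Lib.SerreCrit2_helper9

/-!
# Embedding a quasi-coherent module on a Noetherian scheme into a flasque quasi-coherent one (helper9)
APPEND-ONLY once landed.
-/

set_option autoImplicit false
universe u
open AlgebraicGeometry CategoryTheory CategoryTheory.Limits TopologicalSpace Opposite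
open QcqsLoc QCohExtn
open scoped ZeroObject

namespace QCInj

variable {X : Scheme.{u}}

/-- flasque `O_X`-module: all restriction maps are surjective. -/
def Fl (E : X.Modules) : Prop :=
  ∀ (U V : X.Opens) (h : U ≤ V), Function.Surjective (rF E h)

theorem fl_of_isZero {Z : X.Modules} (hZ : IsZero Z) : Fl Z := by
  intro U V h t
  refine ⟨0, ?_⟩
  have h0 : ∀ t : Γ(Z, U), t = 0 := by
    intro t
    have h1 : (𝟙 Z : Z ⟶ Z) = 0 := hZ.eq_of_src _ _
    have h2 := congrArg (fun φ : Z ⟶ Z => ap φ U t) h1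
    exact h2
  rw [h0 t, map_zero]

theorem fl_biprod (A B : X.Modules) (hA : Fl A) (hB : Fl B) : Fl (A ⊞ B) := by
  intro U V h s
  obtain ⟨a, ha⟩ := hA U V h (ap biprod.fst U s)
  obtain ⟨b, hb⟩ := hB U V h (ap biprod.snd U s)
  refine ⟨ap biprod.inl V a + ap biprod.inr V b, ?_⟩
  rw [map_add, ← ap_rF, ← ap_rF, ha, hb]
  have ht : (biprod.fst ≫ biprod.inl + biprod.snd ≫ biprod.inr : A ⊞ B ⟶ A ⊞ B) = 𝟙 _ :=
    biprod.total
  have := congrArg (fun φ : A ⊞ B ⟶ A ⊞ B => ap φ U s) ht
  exact this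

theorem fl_pushforward {Y : Scheme.{u}} (f : Y ⟶ X) (E : Y.Modules) (hE : Fl E) :
    Fl ((Scheme.Modules.pushforward f).obj E) := by
  intro U V h
  exact hE (f ⁻¹ᵁ U) (f ⁻¹ᵁ V) (f.preimage_mono h)

/-- glueing local flasque embeddings along a finite list of opens. -/
theorem exists_of_list (M : X.Modules) (l : List X.Opens)
    (h : ∀ U ∈ l, ∃ (E : X.Modules) (β : M ⟶ E), E.IsQuasicoherent ∧ Fl E ∧
      ∀ (W : X.Opens) (s : Γ(M, W)), ap β W s = 0 → rF M (inf_le_left : W ⊓ U ≤ W) s = 0) :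
    ∃ (E : X.Modules) (β : M ⟶ E), E.IsQuasicoherent ∧ Fl E ∧
      ∀ (W : X.Opens) (s : Γ(M, W)), ap β W s = 0 →
        ∀ U ∈ l, rF M (inf_le_left : W ⊓ U ≤ W) s = 0 := by
  induction l with
  | nil =>
    refine ⟨0, 0, SerreCrit.isZero_quasicoherent (isZero_zero _), fl_of_isZero (isZero_zero _), ?_⟩
    intro W s _ U hU
    exact absurd hU List.not_mem_nil
  | cons V l ih =>
    obtain ⟨E₁, β₁, hq₁, hf₁, hk₁⟩ := h V (List.mem_cons_self ..)
    obtain ⟨E₂, β₂, hq₂, hf₂, hk₂⟩ := ih (fun U hU => h U (List.mem_cons_of_mem _ hU))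
    haveI := hq₁
    haveI := hq₂
    refine ⟨E₁ ⊞ E₂, biprod.lift β₁ β₂, QCAlgMod.isQuasicoherent_biprod _ _,
      fl_biprod _ _ hf₁ hf₂, ?_⟩
    intro W s hs
    have h1 : ap β₁ W s = 0 := by
      have e : biprod.lift β₁ β₂ ≫ biprod.fst = β₁ := biprod.lift_fst _ _
      have h2 : ap biprod.fst W (ap (biprod.lift β₁ β₂) W s) = ap β₁ W s :=
        congrArg (fun χ => (χ.app W).hom s) e
      rw [hs, map_zero] at h2
      exact h2.symm
    have h3 : ap β₂ W s = 0 := by
      have e : biprod.lift β₁ β₂ ≫ biprod.snd = β₂ := biprod.lift_snd _ _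
      have h2 : ap biprod.snd W (ap (biprod.lift β₁ β₂) W s) = ap β₂ W s :=
        congrArg (fun χ => (χ.app W).hom s) e
      rw [hs, map_zero] at h2
      exact h2.symm
    intro U hU
    rcases List.mem_cons.mp hU with rfl | hU
    · exact hk₁ W s h1
    · exact hk₂ W s h3 U hU

/-- `E~` is flasque for an injective module `E` over a Noetherian ring. -/
theorem fl_tilde_of_injective {R : CommRingCat.{u}} [IsNoetherianRing R] (E₀ : ModuleCat.{u} R)
    [Injective E₀] : Fl (tilde E₀) := by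
  have hM : Module.Injective R E₀ := Module.injective_module_of_injective_object R E₀
  have hfl := CechKos.isFlasque_of_koszul_one R (M := E₀)
    (fun fs => Groth.Agent.Lib.KoszulLim_helper6.main fs E₀ hM 1 one_pos)
  intro U V h t
  have h1 := hfl.epi (homOfLE h).op
  rw [AddCommGrpCat.epi_iff_surjective] at h1
  exact h1 t

theorem exists_embedding_spec {R : CommRingCat.{u}} [IsNoetherianRing R] (N : (Spec R).Modules)
    [N.IsQuasicoherent] :
    ∃ (E : (Spec R).Modules) (α : N ⟶ E), E.IsQuasicoherent ∧ Fl E ∧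
      ∀ W : (Spec R).Opens, Function.Injective (ap α W) := by
  let A : ModuleCat.{u} R := (modulesSpecToSheaf.obj N).presheaf.obj (op ⊤)
  haveI : IsIso N.fromTildeΓ := inferInstance
  let E₀ := Injective.under A
  let j : A ⟶ E₀ := Injective.ι A
  haveI : Mono j := inferInstance
  refine ⟨tilde E₀, inv N.fromTildeΓ ≫ tilde.map j, inferInstance, fl_tilde_of_injective E₀, ?_⟩
  intro W
  have hj : Function.Injective j.hom := (ModuleCat.mono_iff_injective j).mp inferInstance
  have h1 := tilde_map_app_injective j hj W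
  have h2 : Function.Injective (ap (inv N.fromTildeΓ) W) := by
    apply Function.LeftInverse.injective (g := ap N.fromTildeΓ W)
    intro y
    exact congrArg (fun φ : N ⟶ N => φ.app W y) (IsIso.inv_hom_id N.fromTildeΓ)
  exact h1.comp h2

set_option backward.isDefEq.respectTransparency false in
theorem exists_embedding_local [IsLocallyNoetherian X] (M : X.Modules) [M.IsQuasicoherent]
    {U : X.Opens} (hU : IsAffineOpen U) :
    ∃ (E : X.Modules) (β : M ⟶ E), E.IsQuasicoherent ∧ Fl E ∧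
      ∀ (W : X.Opens) (s : Γ(M, W)), ap β W s = 0 →
        rF M (inf_le_left : W ⊓ U ≤ W) s = 0 := by
  haveI : IsNoetherianRing Γ(X, U) := IsLocallyNoetherian.component_noetherian ⟨U, hU⟩
  haveI : (M.restrict hU.fromSpec).IsQuasicoherent := inferInstance
  obtain ⟨E', α, hE', hfl, hinj⟩ := exists_embedding_spec (M.restrict hU.fromSpec)
  haveI := hE'
  refine ⟨(Scheme.Modules.pushforward hU.fromSpec).obj E',
    (Scheme.Modules.restrictAdjunction hU.fromSpec).unit.app M ≫
      (Scheme.Modules.pushforward hU.fromSpec).map α,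
    QcqsLoc.isQuasicoherent_pushforward_qcqs hU.fromSpec E',
    fl_pushforward hU.fromSpec E' hfl, ?_⟩
  intro W s hs
  have h1 : ap α (hU.fromSpec ⁻¹ᵁ W) (rF M (hU.fromSpec.image_preimage_le W) s) = 0 := hs
  have h2 : rF M (hU.fromSpec.image_preimage_le W) s = 0 :=
    hinj (hU.fromSpec ⁻¹ᵁ W) (h1.trans (map_zero _).symm)
  have hle : W ⊓ U ≤ hU.fromSpec ''ᵁ (hU.fromSpec ⁻¹ᵁ W) := by
    rw [Scheme.Hom.image_preimage_eq_opensRange_inf, hU.opensRange_fromSpec]
    exact le_of_eq (inf_comm _ _)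
  have h3 := congrArg (rF M hle) h2
  rw [rF_rF, map_zero] at h3
  exact h3

/-- On a Noetherian scheme every quasi-coherent module embeds into a flasque quasi-coherent one. -/
theorem exists_flasque_embedding [IsNoetherian X] (M : X.Modules) [M.IsQuasicoherent] :
    ∃ (E : X.Modules) (β : M ⟶ E), E.IsQuasicoherent ∧ Fl E ∧ Mono β := by
  obtain ⟨l, hl, hlU⟩ := AffVanish.exists_list_of_isCompact (⊤ : X.Opens) isCompact_univ
  have hcov : ∀ x : X, ∃ U ∈ l, x ∈ U := by
    intro x
    have hx : x ∈ AffVanish.supL l := by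
      rw [hlU]
      trivial
    exact AcycEmb.mem_supL hx
  obtain ⟨E, β, hq, hf, hk⟩ := exists_of_list M l
    (fun U hU => exists_embedding_local M (hl U hU).1)
  refine ⟨E, β, hq, hf, ?_⟩
  apply AcycEmb.mono_of_injective
  intro W
  rw [injective_iff_map_eq_zero]
  intro s hs
  apply eq_zero_of_cover
  intro x hx
  obtain ⟨U, hU, hxU⟩ := hcov x
  exact ⟨W ⊓ U, inf_le_left, ⟨hx, hxU⟩, hk W s hs U hU⟩

/-- An injective object of `QCoh(X)` (`X` Noetherian) is flasque. -/
theorem fl_of_injective [IsNoetherian X]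
    (J : ObjectProperty.FullSubcategory (fun M : X.Modules => Coh.IsQCoh M)) (hJ : Injective J) :
    Fl J.obj := by
  haveI : J.obj.IsQuasicoherent := J.property
  obtain ⟨E, β, hq, hf, hm⟩ := exists_flasque_embedding J.obj
  let E' : ObjectProperty.FullSubcategory (fun M : X.Modules => Coh.IsQCoh M) := ⟨E, hq⟩
  let β' : J ⟶ E' := ObjectProperty.homMk β
  haveI : Mono β' := by
    apply (ObjectProperty.ι (fun M : X.Modules => Coh.IsQCoh M)).mono_of_mono_map
    exact hm
  let r : E' ⟶ J := Injective.factorThru (𝟙 J) β'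
  have hr : β' ≫ r = 𝟙 J := Injective.comp_factorThru (𝟙 J) β'
  have hr' : β ≫ r.hom = 𝟙 J.obj := congrArg (fun φ : J ⟶ J => φ.hom) hr
  intro U V h s
  obtain ⟨t, ht⟩ := hf U V h (ap β U s)
  refine ⟨ap r.hom V t, ?_⟩
  rw [← ap_rF, ht]
  exact congrArg (fun φ : J.obj ⟶ J.obj => ap φ U s) hr'

end QCInj
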