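import Mathlib
import Groth.Prelude.Def_CohB1
import Groth.Agent.Lib.SerreFT1_helper9
import Groth.Agent.Lib.QCInj2_helper9

/-!
# Serre's criterion with finite type ideals, part 2 (helper9)
APPEND-ONLY once landed.

Finite type criteria via sections over affine opens; finite type submodules mapping onto `O_X`.
-/

set_option autoImplicit false
universe u
open AlgebraicGeometry CategoryTheory CategoryTheory.Limits TopologicalSpace Opposite
open QcqsLoc QCohExtn SerreCrit
open scoped ZeroObject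

namespace SerreFT

variable {X : Scheme.{u}}

theorem isFT_of_finite_affine (F : X.Modules) [F.IsQuasicoherent]
    (h : ∀ V : X.Opens, IsAffineOpen V → Module.Finite Γ(X, V) Γ(F, V)) : CohB1.IsFT F := by
  refine QCohCrit.isFiniteType_of_sections_cover F (fun V : X.affineOpens => (V : X.Opens))
    (fun V => V.2) ?_ (fun V => h V V.2)
  rw [eq_top_iff]
  intro x _
  obtain ⟨_, ⟨V, hV : IsAffineOpen V, rfl⟩, hxV, -⟩ :=
    (X.isBasis_affineOpens).exists_subset_of_mem_open (Set.mem_univ x) isOpen_univ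
  exact Opens.mem_iSup.mpr ⟨⟨V, hV⟩, hxV⟩

/-- the map on sections as a linear map. -/
noncomputable def apL {M N : X.Modules} (φ : M ⟶ N) (V : X.Opens) :
    Γ(M, V) →ₗ[Γ(X, V)] Γ(N, V) :=
  { toFun := ap φ V
    map_add' := map_add _
    map_smul' := fun r m => ap_smul φ r m }

@[simp] theorem apL_apply {M N : X.Modules} (φ : M ⟶ N) (V : X.Opens) (m : Γ(M, V)) :
    apL φ V m = ap φ V m := rfl

theorem isFT_of_epi {P G : X.Modules} (π : P ⟶ G) [Epi π] [P.IsQuasicoherent]
    [G.IsQuasicoherent] (hP : CohB1.IsFT P) : CohB1.IsFT G := by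
  apply isFT_of_finite_affine
  intro V hV
  haveI := hP
  haveI : Module.Finite Γ(X, V) Γ(P, V) := QCohFT.finite_of_isFiniteType P hV
  exact Module.Finite.of_surjective (apL π V) (QCohExact.app_surjective_of_epi π hV)

theorem isFT_biprod (A B : X.Modules) [A.IsQuasicoherent] [B.IsQuasicoherent]
    (hA : CohB1.IsFT A) (hB : CohB1.IsFT B) : CohB1.IsFT (A ⊞ B) := by
  haveI : (A ⊞ B).IsQuasicoherent := QCAlgMod.isQuasicoherent_biprod _ _
  apply isFT_of_finite_affine
  intro V hV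
  haveI := hA
  haveI := hB
  haveI : Module.Finite Γ(X, V) Γ(A, V) := QCohFT.finite_of_isFiniteType A hV
  haveI : Module.Finite Γ(X, V) Γ(B, V) := QCohFT.finite_of_isFiniteType B hV
  refine Module.Finite.of_surjective
    ((apL (biprod.inl : A ⟶ A ⊞ B) V).coprod (apL (biprod.inr : B ⟶ A ⊞ B) V)) ?_
  intro s
  refine ⟨(ap biprod.fst V s, ap biprod.snd V s), ?_⟩
  rw [LinearMap.coprod_apply]
  have ht : (biprod.fst ≫ biprod.inl + biprod.snd ≫ biprod.inr : A ⊞ B ⟶ A ⊞ B) = 𝟙 _ :=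
    biprod.total
  exact congrArg (fun φ : A ⊞ B ⟶ A ⊞ B => ap φ V s) ht

theorem subsingleton_of_isZero {Z : X.Modules} (hZ : IsZero Z) (V : X.Opens) :
    Subsingleton Γ(Z, V) := by
  refine ⟨fun a b => ?_⟩
  have h0 : ∀ t : Γ(Z, V), t = 0 := by
    intro t
    have h1 : (𝟙 Z : Z ⟶ Z) = 0 := hZ.eq_of_src _ _
    exact congrArg (fun φ : Z ⟶ Z => ap φ V t) h1
  rw [h0 a, h0 b]

theorem isFT_of_isZero {Z : X.Modules} (hZ : IsZero Z) : CohB1.IsFT Z := by
  haveI := SerreCrit.isZero_quasicoherent hZ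
  apply isFT_of_finite_affine
  intro V _
  haveI := subsingleton_of_isZero hZ V
  exact ⟨⟨∅, by
    rw [eq_top_iff]
    intro t _
    rw [Subsingleton.elim t 0]
    exact Submodule.zero_mem _⟩⟩

/-- the kernel of an epimorphism from a finite type quasi-coherent module onto `O_X` is of finite
type. -/
theorem isFT_kernel_of_epi_OO (E : X.Modules) [E.IsQuasicoherent] (hE : CohB1.IsFT E)
    (p : E ⟶ OO X) [Epi p] : CohB1.IsFT (kernel p) := by
  haveI : (kernel p).IsQuasicoherent := SubExt.isQuasicoherent_kernel p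
  apply isFT_of_finite_affine
  intro V hV
  haveI := hE
  haveI : Module.Finite Γ(X, V) Γ(E, V) := QCohFT.finite_of_isFiniteType E hV
  obtain ⟨e₀, he₀⟩ := QCohExact.app_surjective_of_epi p hV (ofFn (1 : Γ(X, V)))
  -- the projector onto the kernel
  let P : Γ(E, V) →ₗ[Γ(X, V)] Γ(E, V) :=
    LinearMap.id - (LinearMap.toSpanSingleton Γ(X, V) Γ(E, V) e₀).comp
      ((show Γ(OO X, V) →ₗ[Γ(X, V)] Γ(X, V) from LinearMap.id).comp (apL p V))
  have hP : ∀ e : Γ(E, V), P e = e - toFn (ap p V e) • e₀ := fun e => rfl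
  have hPk : ∀ e : Γ(E, V), ap p V (P e) = 0 := by
    intro e
    rw [hP, map_sub, ap_smul]
    have h1 : ap p V e₀ = ofFn (1 : Γ(X, V)) := he₀
    rw [h1]
    have h2 : toFn (ap p V e) • ofFn (1 : Γ(X, V)) = ap p V e := by
      show toFn (ap p V e) * (1 : Γ(X, V)) = _
      rw [mul_one]
    rw [h2, sub_self]
  -- sections of the kernel
  let S : ShortComplex X.Modules := ShortComplex.mk (kernel.ι p) p (kernel.condition p)
  have hS : S.Exact := ShortComplex.exact_kernel p
  haveI : Mono S.f := inferInstanceAs (Mono (kernel.ι p))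
  have hinj : Function.Injective (apL (kernel.ι p) V) :=
    QCohExact.app_injective_of_mono (kernel.ι p) V
  have hrange : LinearMap.range (apL (kernel.ι p) V) = LinearMap.range P := by
    apply le_antisymm
    · rintro _ ⟨k, rfl⟩
      refine ⟨apL (kernel.ι p) V k, ?_⟩
      rw [hP]
      have h0 : ap p V (ap (kernel.ι p) V k) = 0 :=
        congrArg (fun φ : kernel p ⟶ OO X => ap φ V k) (kernel.condition p)
      rw [apL_apply, h0]
      show ap (kernel.ι p) V k - (0 : Γ(X, V)) • e₀ = _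
      rw [zero_smul, sub_zero]
    · rintro _ ⟨e, rfl⟩
      obtain ⟨k, hk⟩ := QCohExact.app_exact S hS V (P e) (hPk e)
      exact ⟨k, hk⟩
  let eq : Γ(kernel p, V) ≃ₗ[Γ(X, V)] LinearMap.range (apL (kernel.ι p) V) :=
    LinearEquiv.ofInjective _ hinj
  haveI : Module.Finite Γ(X, V) (LinearMap.range (apL (kernel.ι p) V)) := by
    rw [hrange]
    exact Module.Finite.range P
  exact Module.Finite.equiv eq.symm

/-- finitely many sections over affine opens lie in a finite type quasi-coherent submodule. -/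
theorem exists_ft_sub_list [CompactSpace X] [QuasiSeparatedSpace X] (E : X.Modules)
    [E.IsQuasicoherent] (e : ∀ U : X.Opens, Γ(E, U)) (l : List X.Opens)
    (hl : ∀ U ∈ l, IsAffineOpen U) :
    ∃ (E' : X.Modules) (i : E' ⟶ E), Mono i ∧ E'.IsQuasicoherent ∧ CohB1.IsFT E' ∧
      ∀ U ∈ l, ∃ g : Γ(E', U), ap i U g = e U := by
  induction l with
  | nil =>
    refine ⟨0, 0, inferInstance, SerreCrit.isZero_quasicoherent (isZero_zero _),
      isFT_of_isZero (isZero_zero _), ?_⟩
    intro U hU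
    exact absurd hU List.not_mem_nil
  | cons U l ih =>
    obtain ⟨E₁, i₁, hm₁, hq₁, hf₁, g₁, hg₁⟩ :=
      SubExt.exists_ft_sub_section E (hl U (List.mem_cons_self ..)) (e U)
    obtain ⟨E₂, i₂, hm₂, hq₂, hf₂, hg₂⟩ := ih (fun V hV => hl V (List.mem_cons_of_mem _ hV))
    haveI := hq₁
    haveI := hq₂
    haveI hq : (E₁ ⊞ E₂).IsQuasicoherent := QCAlgMod.isQuasicoherent_biprod _ _
    obtain ⟨φ, hφ⟩ : ∃ φ : E₁ ⊞ E₂ ⟶ E, φ = biprod.desc i₁ i₂ := ⟨_, rfl⟩
    haveI hq₃ : (Abelian.coimage φ).IsQuasicoherent := SubExt.isQuasicoherent_coimage φ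
    have hfac : Abelian.coimage.π φ ≫ Abelian.factorThruCoimage φ = φ := Abelian.coimage.fac φ
    have hft : CohB1.IsFT (Abelian.coimage φ) :=
      isFT_of_epi (Abelian.coimage.π φ) (isFT_biprod E₁ E₂ hf₁ hf₂)
    refine ⟨Abelian.coimage φ, Abelian.factorThruCoimage φ, inferInstance, hq₃, hft, ?_⟩
    intro V hV
    rcases List.mem_cons.mp hV with rfl | hV
    · refine ⟨ap (Abelian.coimage.π φ) V (ap biprod.inl V g₁), ?_⟩
      have h1 : (biprod.inl ≫ Abelian.coimage.π φ) ≫ Abelian.factorThruCoimage φ = i₁ := by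
        rw [Category.assoc, hfac, hφ, biprod.inl_desc]
      have h2 := congrArg (fun ψ : E₁ ⟶ E => ap ψ V g₁) h1
      exact h2.trans hg₁
    · obtain ⟨g₂, hg₂'⟩ := hg₂ V hV
      refine ⟨ap (Abelian.coimage.π φ) V (ap biprod.inr V g₂), ?_⟩
      have h1 : (biprod.inr ≫ Abelian.coimage.π φ) ≫ Abelian.factorThruCoimage φ = i₂ := by
        rw [Category.assoc, hfac, hφ, biprod.inr_desc]
      have h2 := congrArg (fun ψ : E₂ ⟶ E => ap ψ V g₂) h1
      exact h2.trans hg₂'

/-- a quasi-coherent module mapping onto `O_X` on a qcqs scheme contains a finite type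
quasi-coherent submodule still mapping onto `O_X`. -/
theorem exists_ft_sub_epi [CompactSpace X] [QuasiSeparatedSpace X] (E : X.Modules)
    [E.IsQuasicoherent] (p : E ⟶ OO X) [Epi p] :
    ∃ (E' : X.Modules) (i : E' ⟶ E), Mono i ∧ E'.IsQuasicoherent ∧ CohB1.IsFT E' ∧
      Epi (i ≫ p) := by
  classical
  obtain ⟨l, hl, hlU⟩ := AffVanish.exists_list_of_isCompact (⊤ : X.Opens) isCompact_univ
  have hcov : ∀ x : X, ∃ U ∈ l, x ∈ U := by
    intro x
    have hx : x ∈ AffVanish.supL l := by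
      rw [hlU]
      trivial
    exact AcycEmb.mem_supL hx
  have hla : ∀ U ∈ l, IsAffineOpen U := fun U hU => (hl U hU).1
  have hex : ∀ U : X.Opens, ∃ e : Γ(E, U), IsAffineOpen U → ap p U e = ofFn (1 : Γ(X, U)) := by
    intro U
    by_cases hU : IsAffineOpen U
    · obtain ⟨e, he⟩ := QCohExact.app_surjective_of_epi p hU (ofFn (1 : Γ(X, U)))
      exact ⟨e, fun _ => he⟩
    · exact ⟨0, fun h => absurd h hU⟩
  choose e he using hex
  obtain ⟨E', i, hm, hq, hf, hg⟩ := exists_ft_sub_list E e l hla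
  refine ⟨E', i, hm, hq, hf, ?_⟩
  apply GlobGen.epi_of_surjective_on_basis (i ≫ p) {W | ∃ U ∈ l, W ≤ U}
  · rw [Opens.isBasis_iff_nbhd]
    intro V y hy
    obtain ⟨U, hU, hyU⟩ := hcov y
    exact ⟨V ⊓ U, ⟨U, hU, inf_le_right⟩, ⟨hy, hyU⟩, inf_le_left⟩
  · rintro W ⟨U, hU, hWU⟩ t
    obtain ⟨g, hg'⟩ := hg U hU
    refine ⟨toFn t • rF E' hWU g, ?_⟩
    show ap (i ≫ p) W (toFn t • rF E' hWU g) = t
    rw [ap_smul, ap_rF]
    have h1 : ap (i ≫ p) U g = ofFn (1 : Γ(X, U)) := by
      show ap p U (ap i U g) = _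
      rw [hg', he U (hla U hU)]
    rw [h1]
    show toFn t * rX hWU (1 : Γ(X, U)) = toFn t
    rw [map_one, mul_one]

end SerreFT
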