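import Mathlib
import Groth.Prelude
import Groth.Agent.Lib.ProperFin3_helper9
import Groth.Agent.Lib.ProjDual2_helper9
import Groth.Agent.Lib.PForm3_helper9
import Groth.Agent.Lib.SerreFT2_helper9
import Groth.Agent.S0038

/-!
# Finiteness of cohomology for proper schemes, IV: direct images of coherent modules along
`P^N_T ⟶ T` are coherent (helper9)
APPEND-ONLY once landed.
-/

set_option autoImplicit false
universe u
open CategoryTheory CategoryTheory.Limits AlgebraicGeometry TopologicalSpace Opposite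

namespace ProperFinH9
open CohB1 Groth.Agent.PnOver

theorem appIso_inv_eq {P' P : Scheme.{u}} (σ : P' ⟶ P) [IsOpenImmersion σ] (W : P.Opens)
    (h : W = σ ''ᵁ ⊤) (t : Γ(P, W)) (a : Γ(P', ⊤))
    (hta : σ.app W t = P'.presheaf.map (homOfLE le_top).op a) :
    (σ.appIso ⊤).inv a = P.presheaf.map (eqToHom h.symm).op t := by
  subst h
  have h1 : (σ.appIso ⊤).hom t = a := by
    rw [Scheme.Hom.appIso_hom]
    show (P'.presheaf.map _).hom (σ.app (σ ''ᵁ ⊤) t) = a
    rw [hta]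
    show (P'.presheaf.map _ ≫ P'.presheaf.map _).hom a = a
    rw [← Functor.map_comp]
    have : ((homOfLE le_top).op ≫ (eqToHom (Scheme.Hom.preimage_image_eq σ ⊤).symm).op :
      op (⊤ : P'.Opens) ⟶ op ⊤) = 𝟙 _ := Subsingleton.elim _ _
    rw [this, P'.presheaf.map_id]
    rfl
  rw [← h1]
  show _ = (P.presheaf.map (𝟙 _)).hom t
  rw [P.presheaf.map_id]
  exact congr($((σ.appIso ⊤).hom_inv_id) t)

theorem presheaf_map_map (X : Scheme.{u}) {U V W : (X.Opens)ᵒᵖ} (a : U ⟶ V) (b : V ⟶ W)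
    (c : U ⟶ W) (x : X.presheaf.obj U) :
    (X.presheaf.map b).hom ((X.presheaf.map a).hom x) = (X.presheaf.map c).hom x := by
  have : a ≫ b = c := Subsingleton.elim _ _
  rw [← this, Functor.map_comp]
  rfl

variable (N : ℕ) {T : Scheme.{u}}

theorem key_smul (V : T.Opens) (hV : IsAffineOpen V) (r : Γ(T, V)) :
    (sigma N V hV).app (KRR.pr N T ⁻¹ᵁ V) ((KRR.pr N T).app V r) =
      (ProjSpace N Γ(T, V)).presheaf.map (homOfLE le_top).op
        (Coh.toGlobal (ProjSpace.toSpec N Γ(T, V)) r) := by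
  have h1 : (sigma N V hV).app (KRR.pr N T ⁻¹ᵁ V) ((KRR.pr N T).app V r) =
      (sigma N V hV ≫ KRR.pr N T).app V r := rfl
  rw [h1]
  have h2 := Scheme.Hom.congr_app (sigma_toBase N V hV) V
  have h3 := congr($h2 r)
  refine h3.trans ?_
  have h4 : (ProjSpace.toSpec N Γ(T, V) ≫ hV.fromSpec).app V r =
      (ProjSpace.toSpec N Γ(T, V)).app (hV.fromSpec ⁻¹ᵁ V) (hV.fromSpec.app V r) := rfl
  have h5 : hV.fromSpec.app V r = ((Spec Γ(T, V)).presheaf.map
      (eqToHom hV.fromSpec_preimage_self).op).hom ((Scheme.ΓSpecIso Γ(T, V)).inv r) := by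
    rw [hV.fromSpec_app_self]
    rfl
  have h6 := congr($((ProjSpace.toSpec N Γ(T, V)).naturality
    (eqToHom hV.fromSpec_preimage_self).op) ((Scheme.ΓSpecIso Γ(T, V)).inv r))
  have h7 : ∀ (W : (ProjSpace N Γ(T, V)).Opens)
      (i : op ((ProjSpace.toSpec N Γ(T, V) ≫ hV.fromSpec) ⁻¹ᵁ V) ⟶ op W),
      ((ProjSpace N Γ(T, V)).presheaf.map i).hom
      ((ProjSpace.toSpec N Γ(T, V) ≫ hV.fromSpec).app V r) =
      (ProjSpace N Γ(T, V)).presheaf.map (homOfLE le_top).op
        (Coh.toGlobal (ProjSpace.toSpec N Γ(T, V)) r) := by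
    intro W i
    rw [h4, h5]
    refine (congrArg _ h6).trans ?_
    exact presheaf_map_map (ProjSpace N Γ(T, V)) _ i _ _
  show ((ProjSpace N Γ(T, V)).presheaf.map _).hom
      ((ProjSpace.toSpec N Γ(T, V) ≫ hV.fromSpec).app V r) = _
  exact h7 _ _


open QcqsLoc in
theorem rX_appIso_inv {P' P : Scheme.{u}} (σ : P' ⟶ P) [IsOpenImmersion σ] (W : P.Opens)
    (h : W = σ ''ᵁ ⊤) (t : Γ(P, W)) (a : Γ(P', ⊤))
    (hta : σ.app W t = P'.presheaf.map (homOfLE le_top).op a) :
    rX h.le ((σ.appIso ⊤).inv a) = t := by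
  rw [appIso_inv_eq σ W h t a hta]
  refine (presheaf_map_map P _ _ (𝟙 _) t).trans ?_
  rw [P.presheaf.map_id]
  rfl

section PushCoh

open QcqsLoc Groth.Agent.ProjDual

/-- sections of the restriction along an open immersion, viewed as sections of the module -/
noncomputable def castSec {P' P : Scheme.{u}} (E : P.Modules) (σ : P' ⟶ P) [IsOpenImmersion σ] :
    Γ(E.restrict σ, ⊤) ≃+ Γ(E, σ ''ᵁ ⊤) := AddEquiv.refl _

theorem castSec_smul {P' P : Scheme.{u}} (E : P.Modules) (σ : P' ⟶ P) [IsOpenImmersion σ]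
    (a : Γ(P', ⊤)) (m : Γ(E.restrict σ, ⊤)) :
    castSec E σ (a • m) = ((σ.appIso ⊤).inv a : Γ(P, σ ''ᵁ ⊤)) • castSec E σ m := rfl

variable (T : Scheme.{u}) [IsNoetherian T]

theorem finite_sections_push (E : (KRR.PY N T).Modules) (hE : Coh.IsCoh E) (V : T.Opens)
    (hV : IsAffineOpen V) :
    Module.Finite Γ(T, V) Γ((Scheme.Modules.pushforward (KRR.pr N T)).obj E, V) := by
  haveI : IsNoetherianRing Γ(T, V) := IsLocallyNoetherian.component_noetherian ⟨V, hV⟩
  have h : KRR.pr N T ⁻¹ᵁ V = sigma N V hV ''ᵁ ⊤ := by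
    rw [Scheme.Hom.image_top_eq_opensRange, opensRange_sigma]
  haveI hfin : Module.Finite Γ(T, V) (Coh.HH (ProjSpace N Γ(T, V)) (E.restrict (sigma N V hV)) 0) :=
    Groth.Agent.S0038.result N Γ(T, V) _ (isCoh_restrict_sigma N T E hE V hV) 0
  let Ψ : Coh.HH (ProjSpace N Γ(T, V)) (E.restrict (sigma N V hV)) 0 →+
      Γ((Scheme.Modules.pushforward (KRR.pr N T)).obj E, V) :=
    (rF E h.le).comp ((castSec E (sigma N V hV)).toAddMonoidHom.comp
      (h0 (E.restrict (sigma N V hV))).toAddMonoidHom)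
  have hΨ : ∀ x, Ψ x = rF E h.le (castSec E (sigma N V hV) (h0 (E.restrict (sigma N V hV)) x)) :=
    fun x => rfl
  have hsm : ∀ (r : Γ(T, V)) x, Ψ (r • x) = r • Ψ x := by
    intro r x
    rw [hΨ, hΨ, h0_smul, castSec_smul, rF_smul, PFormH9.push_smul]
    congr 1
    exact rX_appIso_inv (sigma N V hV) _ h _ _ (key_smul N V hV r)
  let Φ : Coh.HH (ProjSpace N Γ(T, V)) (E.restrict (sigma N V hV)) 0 →ₗ[Γ(T, V)]
      Γ((Scheme.Modules.pushforward (KRR.pr N T)).obj E, V) :=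
    { toFun := Ψ
      map_add' := map_add Ψ
      map_smul' := hsm }
  refine Module.Finite.of_surjective Φ ?_
  intro m
  refine ⟨(h0 (E.restrict (sigma N V hV))).symm ((castSec E (sigma N V hV)).symm (rF E h.ge m)), ?_⟩
  show Ψ _ = m
  rw [hΨ, AddEquiv.apply_symm_apply, AddEquiv.apply_symm_apply, rF_rF]
  exact Groth.Agent.ProjDual.rF_self _ _ m

/-- **Direct images of coherent modules along `P^N_T ⟶ T` are coherent** (`T` Noetherian). -/
theorem isCoh_pushforward_pr (E : (KRR.PY N T).Modules) (hE : Coh.IsCoh E) :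
    Coh.IsCoh ((Scheme.Modules.pushforward (KRR.pr N T)).obj E) := by
  haveI := (KRRRegH9.qcqs_pr N T).1
  haveI := (KRRRegH9.qcqs_pr N T).2
  haveI : E.IsQuasicoherent := hE.1
  haveI : ((Scheme.Modules.pushforward (KRR.pr N T)).obj E).IsQuasicoherent :=
    QcqsLoc.isQuasicoherent_pushforward_qcqs (KRR.pr N T) E
  exact ⟨inferInstance, SerreFT.isFT_of_finite_affine _
    (fun V hV => finite_sections_push N T E hE V hV)⟩

end PushCoh

end ProperFinH9
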