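import Mathlib
import Groth.Prelude
import Groth.Agent.Lib.ProperFin4_helper9
import Groth.Agent.Lib.PushEdgeNat_helper9
import Groth.Agent.Lib.CohDev11_helper8

/-!
# Finiteness of cohomology for proper schemes, V: coherent modules on `P^N_{Spec A}` (helper9)
APPEND-ONLY once landed.
-/

set_option autoImplicit false
universe u
open CategoryTheory CategoryTheory.Limits AlgebraicGeometry TopologicalSpace Opposite

namespace ProperFinH9

theorem finite_of_smul_surj {A B M : Type*} [Semiring A] [Semiring B] [AddCommMonoid M]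
    [Module A M] [Module B M] (h : ∀ b : B, ∃ a : A, ∀ m : M, b • m = a • m)
    (hB : Module.Finite B M) : Module.Finite A M := by
  obtain ⟨S, hS⟩ := hB.fg_top
  refine ⟨⟨S, ?_⟩⟩
  rw [eq_top_iff]
  intro m _
  have hm : m ∈ Submodule.span B (S : Set M) := hS ▸ Submodule.mem_top
  refine Submodule.span_induction (p := fun x _ => x ∈ Submodule.span A (S : Set M))
    ?_ ?_ ?_ ?_ hm
  · intro x hx
    exact Submodule.subset_span hx
  · exact Submodule.zero_mem _
  · intro x y _ _ hx hy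
    exact Submodule.add_mem _ hx hy
  · intro b x _ hx
    obtain ⟨a, ha⟩ := h b
    rw [ha]
    exact Submodule.smul_mem _ a hx

section Transfer

open CohB1 Groth.Agent.PnOver

variable (A : Type u) [CommRing A]

/-- finiteness of cohomology only depends on the image of the structure map to global
functions -/
theorem finite_HH_of_toGlobal_surj {X : Scheme.{u}} {B : Type u} [CommRing B]
    (sA : X ⟶ Spec (CommRingCat.of A)) (sB : X ⟶ Spec (CommRingCat.of B))
    (h : ∀ b : B, ∃ a : A, Coh.toGlobal sA a = Coh.toGlobal sB b) (F : X.Modules) (q : ℕ)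
    (hB : @Module.Finite B (Coh.HH X F q) _ _ (Module.compHom _ (Coh.toGlobal sB))) :
    @Module.Finite A (Coh.HH X F q) _ _ (Module.compHom _ (Coh.toGlobal sA)) := by
  letI mA : Module A (Coh.HH X F q) := Module.compHom _ (Coh.toGlobal sA)
  letI mB : Module B (Coh.HH X F q) := Module.compHom _ (Coh.toGlobal sB)
  refine finite_of_smul_surj (A := A) (B := B) ?_ hB
  intro b
  obtain ⟨a, ha⟩ := h b
  refine ⟨a, fun m => ?_⟩
  show Coh.toGlobal sB b • m = Coh.toGlobal sA a • m
  rw [ha]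

theorem toGlobal_comp_surj {X : Scheme.{u}} {B : Type u} [CommRing B]
    (sB : X ⟶ Spec (CommRingCat.of B)) (φ : Spec (CommRingCat.of B) ⟶ Spec (CommRingCat.of A))
    [IsIso φ] (b : B) : ∃ a : A, Coh.toGlobal (sB ≫ φ) a = Coh.toGlobal sB b := by
  haveI : IsIso φ.appTop := inferInstanceAs (IsIso (φ.app ⊤))
  have hbij : Function.Bijective φ.appTop := ConcreteCategory.bijective_of_isIso φ.appTop
  obtain ⟨y, hy⟩ := hbij.2 ((Scheme.ΓSpecIso (CommRingCat.of B)).inv b)
  refine ⟨(Scheme.ΓSpecIso (CommRingCat.of A)).hom y, ?_⟩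
  show (sB ≫ φ).appTop ((Scheme.ΓSpecIso (CommRingCat.of A)).inv
    ((Scheme.ΓSpecIso (CommRingCat.of A)).hom y)) =
    sB.appTop ((Scheme.ΓSpecIso (CommRingCat.of B)).inv b)
  rw [← hy]
  have : (Scheme.ΓSpecIso (CommRingCat.of A)).inv ((Scheme.ΓSpecIso (CommRingCat.of A)).hom y) = y :=
    congr($((Scheme.ΓSpecIso (CommRingCat.of A)).hom_inv_id) y)
  rw [this]
  rfl

variable [IsNoetherianRing A]

/-- **Cohomology of coherent modules on `P^N_{Spec A}` is finite over `A`.** -/
theorem KK_projSpaceOver (N : ℕ)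
    (F : (ProjSpaceOver N (Spec (CommRingCat.of A))).Modules) (hF : Coh.IsCoh F) : KK A F := by
  intro q
  let S : Scheme.{u} := Spec (CommRingCat.of A)
  have hS : IsAffineOpen (⊤ : S.Opens) := isAffineOpen_top S
  haveI : IsNoetherianRing Γ(S, ⊤) :=
    IsLocallyNoetherian.component_noetherian ⟨⊤, hS⟩
  haveI hφ : IsIso hS.fromSpec := by
    rw [IsAffineOpen.fromSpec_top]
    infer_instance
  haveI hσ : IsIso (sigma N (⊤ : S.Opens) hS) :=
    (MorphismProperty.isomorphisms Scheme.{u}).of_isPullback (isPullback_sigma N ⊤ hS).flip hφ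
  let τ := inv (sigma N (⊤ : S.Opens) hS)
  have hF' : Coh.IsCoh ((Scheme.Modules.pushforward τ).obj F) :=
    CohDevH8.isCoh_pushforward_of_isFinite τ hF
  have hfin := Groth.Agent.S0038.result N Γ(S, ⊤) _ hF' q
  let sB : ProjSpace N Γ(S, ⊤) ⟶ Spec (CommRingCat.of Γ(S, ⊤)) := ProjSpace.toSpec N Γ(S, ⊤)
  let sA : ProjSpace N Γ(S, ⊤) ⟶ Spec (CommRingCat.of A) :=
    sigma N (⊤ : S.Opens) hS ≫ ProjSpaceOver.toBase N S
  have hsA : sA = sB ≫ hS.fromSpec := sigma_toBase N ⊤ hS
  have hfinA : @Module.Finite A (Coh.HH _ ((Scheme.Modules.pushforward τ).obj F) q) _ _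
      (Module.compHom _ (Coh.toGlobal sA)) := by
    refine finite_HH_of_toGlobal_surj A sA sB ?_ _ q hfin
    intro b
    rw [hsA]
    exact toGlobal_comp_surj A sB hS.fromSpec b
  letI : (ProjSpace N Γ(S, ⊤)).Over (Spec (CommRingCat.of A)) := ⟨sA⟩
  have hf : τ ≫ (ProjSpace N Γ(S, ⊤) ↘ Spec (CommRingCat.of A)) =
      (ProjSpaceOver N S ↘ Spec (CommRingCat.of A)) := IsIso.inv_hom_id_assoc _ _
  haveI : F.IsQuasicoherent := hF.1
  haveI : IsNoetherian A (Coh.HH _ ((Scheme.Modules.pushforward τ).obj F) q) :=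
    @isNoetherian_of_isNoetherianRing_of_finite A _ _ _ _ _ hfinA
  exact isNoetherian_of_linearEquiv (Groth.Agent.PushEdgeNat.pushEdgeEquiv τ hf F q)

end Transfer

end ProperFinH9
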