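import Mathlib
import Groth.Prelude
import Groth.Agent.Lib.ProperFin5_helper9
import Groth.Agent.Lib.Tens45_helper8
import Groth.Agent.Lib.CohDev8_helper8
import Groth.Agent.S4456

/-!
# Finiteness of cohomology for proper schemes, VI: a good invertible module on a closed
subscheme of `P^N_T` (helper9)
APPEND-ONLY once landed.
-/

set_option autoImplicit false
universe u
open CategoryTheory CategoryTheory.Limits AlgebraicGeometry TopologicalSpace Opposite

namespace ProperFinH9

section Good

open PFormH9

variable (N : ℕ) (T : Scheme.{u}) [IsNoetherian T] {Z' : Scheme.{u}} (c : Z' ⟶ KRR.PY N T)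

/-- `c_* c^* O(m) ≅ (c_* O)(m)` -/
theorem nonempty_push_pull_twist_iso (m : ℤ) :
    Nonempty ((Scheme.Modules.pushforward c).obj
        ((Scheme.Modules.pullback c).obj (Twist.twistOver N T m)) ≅
      KRR.twF N T m ((Scheme.Modules.pushforward c).obj (Coh.structureModule Z'))) := by
  have e1 := (projIso c (Twist.twistOver N T m) (KRRRegH9.isFinLocFree_twistOver N T m)).app
    (Coh.structureModule Z')
  have e2 := (Scheme.Modules.pushforward c).mapIso
    (Groth.Agent.TensInv.rightUnit ((Scheme.Modules.pullback c).obj (Twist.twistOver N T m)))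
  exact ⟨(e1 ≪≫ e2).symm⟩

variable [IsClosedImmersion c]

/-- **A good invertible module**: on a closed subscheme `Z'` of `P^N_T` (`T` Noetherian) there is an
invertible module whose direct image on `T` is coherent and which has no higher direct images. -/
theorem exists_good_invertible :
    ∃ G : Z'.Modules, PicF.IsInvertible G ∧
      Coh.IsCoh ((Scheme.Modules.pushforward (c ≫ KRR.pr N T)).obj G) ∧
      ∀ q : ℕ, 1 ≤ q → IsZero ((Coh.RpushAb (c ≫ KRR.pr N T) q).obj (Coh.toAb G)) := by
  have hE₀ : Coh.IsCoh ((Scheme.Modules.pushforward c).obj (Coh.structureModule Z')) :=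
    CohDevH8.isCoh_pushforward_of_isFinite c (CohDevH8.isCoh_structureModule Z')
  obtain ⟨m₀, hm₀⟩ := relative_serre_vanishing N T _ hE₀
  have hinv : PicF.IsInvertible ((Scheme.Modules.pullback c).obj (Twist.twistOver N T m₀)) :=
    TensH8.isInvertible_pullback c (KRRRegH9.isInvertible_twistOver N T m₀)
  have hG : Coh.IsCoh ((Scheme.Modules.pullback c).obj (Twist.twistOver N T m₀)) := by
    have hflf := TensH8.isFinLocFree_of_isInvertible hinv
    haveI := FLFH8.isQuasicoherent_of_finLocFree _ hflf
    haveI := FLFH8.isFinitePresentation_of_finLocFree _ hflf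
    exact ⟨inferInstance, inferInstance⟩
  refine ⟨_, hinv, ?_, ?_⟩
  · have h1 := isCoh_pushforward_pr N T _ (CohDevH8.isCoh_pushforward_of_isFinite c hG)
    have e := (Scheme.Modules.pushforwardComp c (KRR.pr N T)).app
      ((Scheme.Modules.pullback c).obj (Twist.twistOver N T m₀))
    exact CohDevH8.isCoh_of_iso e.symm h1
  · intro q hq
    obtain ⟨e⟩ := nonempty_push_pull_twist_iso N T c m₀
    have h1 := KRRRegH9.isZero_RpushAb_of_iso e.symm q (hm₀ m₀ le_rfl q hq)
    haveI : Coh.IsQCoh ((Scheme.Modules.pullback c).obj (Twist.twistOver N T m₀)) := hG.1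
    obtain ⟨e'⟩ := Groth.Agent.S4456.result c (KRR.pr N T)
      ((Scheme.Modules.pullback c).obj (Twist.twistOver N T m₀)) q
    exact h1.of_iso e'.symm

end Good

end ProperFinH9
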