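import Mathlib
import Groth.Prelude
import Groth.Agent.Lib.ProjSpaceProper_helper4

/-!
# Finiteness of cohomology for proper schemes, VII: from Chow's lemma to closed immersions
into projective spaces (helper9)
APPEND-ONLY once landed.
-/

set_option autoImplicit false
universe u
open CategoryTheory CategoryTheory.Limits AlgebraicGeometry TopologicalSpace Opposite

namespace ProperFinH9

section Geometry

open CohB1 Groth.Agent.Lib.ProjSpaceProperH4

variable (N : ℕ) {Z S : Scheme.{u}} (g : Z ⟶ S)

theorem projSpaceMap_fst :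
    KRR.projSpaceMap N g ≫ pullback.fst (ProjSpace.toSpec N (ULift.{u} ℤ))
      (specULiftZIsTerminal.from S) =
      pullback.fst (ProjSpace.toSpec N (ULift.{u} ℤ)) (specULiftZIsTerminal.from Z) := by
  exact (pullback.lift_fst _ _ _).trans (Category.comp_id _)

theorem projSpaceMap_toBase :
    KRR.projSpaceMap N g ≫ ProjSpaceOver.toBase N S = ProjSpaceOver.toBase N Z ≫ g := by
  exact pullback.lift_snd _ _ _

theorem isPullback_projSpaceMap :
    IsPullback (KRR.projSpaceMap N g) (ProjSpaceOver.toBase N Z) (ProjSpaceOver.toBase N S) g := by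
  refine IsPullback.of_right ?_ (projSpaceMap_toBase N g)
    (IsPullback.of_hasPullback (ProjSpace.toSpec N (ULift.{u} ℤ)) (specULiftZIsTerminal.from S))
  have h1 : g ≫ specULiftZIsTerminal.from S = specULiftZIsTerminal.from Z :=
    specULiftZIsTerminal.hom_ext _ _
  rw [projSpaceMap_fst, h1]
  exact IsPullback.of_hasPullback _ _

theorem isSeparated_projSpaceMap [IsSeparated g] : IsSeparated (KRR.projSpaceMap N g) :=
  MorphismProperty.of_isPullback (isPullback_projSpaceMap N g).flip inferInstance

/-- **From Chow's lemma to closed immersions.** -/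
theorem exists_closedImmersion_of_chow [IsProper g] {Z' : Scheme.{u}} (π : Z' ⟶ Z) [IsProper π]
    (j : Z' ⟶ ProjSpaceOver N S) [IsImmersion j]
    (hj : j ≫ ProjSpaceOver.toBase N S = π ≫ g) :
    IsClosedImmersion j ∧ ∃ c : Z' ⟶ ProjSpaceOver N Z, IsClosedImmersion c ∧
      c ≫ ProjSpaceOver.toBase N Z = π := by
  have hb := isProper_toBase N S
  haveI : IsProper (j ≫ ProjSpaceOver.toBase N S) := by
    rw [hj]
    infer_instance
  haveI : IsProper j := IsProper.of_comp j (ProjSpaceOver.toBase N S)
  have hjc : IsClosedImmersion j :=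
    IsClosedImmersion.of_isPreimmersion j j.isClosedMap.isClosed_range
  refine ⟨hjc, ?_⟩
  let c : Z' ⟶ ProjSpaceOver N Z :=
    pullback.lift (j ≫ pullback.fst _ _) π (specULiftZIsTerminal.hom_ext _ _)
  have hc2 : c ≫ ProjSpaceOver.toBase N Z = π := pullback.lift_snd _ _ _
  have hc1 : c ≫ pullback.fst (ProjSpace.toSpec N (ULift.{u} ℤ))
      (specULiftZIsTerminal.from Z) = j ≫ pullback.fst _ _ := pullback.lift_fst _ _ _
  have hch : c ≫ KRR.projSpaceMap N g = j := by
    refine pullback.hom_ext ?_ ?_
    · exact (Category.assoc _ _ _).trans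
        ((congrArg (fun t => c ≫ t) (projSpaceMap_fst N g)).trans hc1)
    · exact (Category.assoc _ _ _).trans
        ((congrArg (fun t => c ≫ t) (projSpaceMap_toBase N g)).trans
          ((Category.assoc _ _ _).symm.trans
            ((congrArg (fun t => t ≫ g) hc2).trans hj.symm)))
  haveI := isSeparated_projSpaceMap N g
  haveI : IsClosedImmersion (c ≫ KRR.projSpaceMap N g) := by
    rw [hch]
    exact hjc
  exact ⟨c, IsClosedImmersion.of_comp c (KRR.projSpaceMap N g), hc2⟩

end Geometry

end ProperFinH9
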