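import Mathlib
import Groth.Prelude
import Groth.Agent.Lib.GenLoc_helper8
import Groth.Agent.Lib.PForm3_helper9

/-!
# Finiteness of cohomology for proper schemes, VIII: the generic stalk of the direct image of an
invertible module along a proper birational morphism (helper9)
APPEND-ONLY once landed.
-/

set_option autoImplicit false
universe u
open CategoryTheory CategoryTheory.Limits AlgebraicGeometry TopologicalSpace Opposite

namespace ProperFinH9

section Stalk

open QcqsLoc GenLocH8

/-- a scheme morphism which is an isomorphism over `U` is injective over `U` -/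
theorem injOn_of_isIso_morphismRestrict {Z Z' : Scheme.{u}} (π : Z' ⟶ Z) (U : Z.Opens)
    [IsIso (π ∣_ U)] (z z' : Z') (hz : π z ∈ U) (h : π z = π z') : z = z' := by
  have hz' : π z' ∈ U := h ▸ hz
  have hinj : Function.Injective (π ∣_ U) := by
    intro a b hab
    have := congrArg (inv (π ∣_ U)) hab
    rwa [← Scheme.Hom.comp_apply, ← Scheme.Hom.comp_apply, IsIso.hom_inv_id] at this
  have h1 : (π ∣_ U) ⟨z, hz⟩ = (π ∣_ U) ⟨z', hz'⟩ := by
    apply Subtype.ext
    rw [morphismRestrict_base_coe, morphismRestrict_base_coe]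
    exact h
  exact congrArg Subtype.val (hinj h1)

/-- the sections of the structure sheaf over a nonempty open do not form the zero ring -/
theorem one_ne_zero_of_mem {X : Scheme.{u}} (O : X.Opens) (x : X) (hx : x ∈ O) :
    (1 : Γ(X, O)) ≠ 0 := by
  intro h
  have h1 := congrArg (X.presheaf.germ O x hx) h
  rw [map_one, map_zero] at h1
  exact one_ne_zero h1

theorem nontrivial_stalk_pushforward {Z Z' : Scheme.{u}} [IsIntegral Z] (π : Z' ⟶ Z) [IsProper π]
    (hsurj : Function.Surjective π) (U : Z.Opens) (hU : Dense (U : Set Z))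
    [IsIso (π ∣_ U)] (G : Z'.Modules) (hG : PicF.IsInvertible G) :
    Nontrivial (((Scheme.Modules.pushforward π).obj G).presheaf.stalk (genericPoint Z)) := by
  have hηU : genericPoint Z ∈ U :=
    ((genericPoint_spec Z).mem_open_set_iff U.isOpen).2 (by simpa using hU.nonempty)
  obtain ⟨η', hη'⟩ := hsurj (genericPoint Z)
  obtain ⟨W', -, hη'W', e, he⟩ := exists_isGen hG η'
  have hC : IsClosed (π '' ((W' : Set Z')ᶜ)) :=
    π.isClosedMap _ W'.isOpen.isClosed_compl
  let W : Z.Opens := ⟨(π '' ((W' : Set Z')ᶜ))ᶜ, hC.isOpen_compl⟩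
  have hηW : genericPoint Z ∈ W := by
    rintro ⟨z, hz, hzη⟩
    have : z = η' := injOn_of_isIso_morphismRestrict π U z η' (hzη ▸ hηU) (hzη.trans hη'.symm)
    exact hz (this ▸ hη'W')
  have hle : π ⁻¹ᵁ W ≤ W' := by
    intro z hz
    by_contra hzW'
    exact hz ⟨z, hzW', rfl⟩
  let t : Γ((Scheme.Modules.pushforward π).obj G, W) := rF G hle e
  refine ⟨⟨((Scheme.Modules.pushforward π).obj G).presheaf.germ W _ hηW t, 0, ?_⟩⟩
  intro h0
  have h1 : ((Scheme.Modules.pushforward π).obj G).presheaf.germ W _ hηW t =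
      ((Scheme.Modules.pushforward π).obj G).presheaf.germ W _ hηW 0 := by
    rw [h0, map_zero]
  obtain ⟨W₁, hηW₁, iU, iV, heq⟩ :=
    TopCat.Presheaf.germ_eq _ (genericPoint Z) hηW hηW t 0 h1
  rw [map_zero] at heq
  have hle₁ : π ⁻¹ᵁ W₁ ≤ W' := (PFormH9.preimage_mono π (leOfHom iU)).trans hle
  have h2 : rF G hle₁ e = 0 := by
    have : rF ((Scheme.Modules.pushforward π).obj G) (leOfHom iU) t = 0 := heq
    rw [PFormH9.push_rF] at this
    refine Eq.trans ?_ this
    exact (rF_rF G _ _ e).symm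
  have h3 := (he (π ⁻¹ᵁ W₁) hle₁).2 1 (by rw [one_smul]; exact h2)
  exact one_ne_zero_of_mem (π ⁻¹ᵁ W₁) η' (show π η' ∈ W₁ from hη' ▸ hηW₁) h3

end Stalk

end ProperFinH9
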