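import Mathlib
import Groth.Prelude

set_option autoImplicit false
set_option linter.style.haveILetI false
set_option linter.unusedVariables false

universe u

open CategoryTheory AlgebraicGeometry TopologicalSpace Opposite

namespace Groth.Agent.Lib.DehomH4

open MvPolynomial

/-- scaling lemma for homogeneous polynomials -/
theorem eval₂_mul_homog {R L σ : Type*} [CommSemiring R] [CommSemiring L] (f : R →+* L)
    (x : σ → L) (u : L) {a : MvPolynomial σ R} {k : ℕ} (ha : a.IsHomogeneous k) :
    MvPolynomial.eval₂ f (fun j => x j * u) a = MvPolynomial.eval₂ f x a * u ^ k := by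
  rw [MvPolynomial.eval₂_eq, MvPolynomial.eval₂_eq, Finset.sum_mul]
  refine Finset.sum_congr rfl (fun d hd => ?_)
  have hdk : ∑ i ∈ d.support, d i = k := by
    have h1 := ha (MvPolynomial.mem_support_iff.1 hd)
    exact (Finsupp.degree_apply d).symm.trans ((DFunLike.congr_fun Finsupp.degree_eq_weight_one d).trans h1)
  rw [mul_assoc]
  congr 1
  simp only [mul_pow]
  rw [Finset.prod_mul_distrib, Finset.prod_pow_eq_pow_sum, hdk]

theorem cover (n : ℕ) (R : Type u) [CommRing R] :
    (⨆ i : Fin (n + 1), Proj.basicOpen (CohB1.polyGrading n R) (MvPolynomial.X i)) = ⊤ := by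
  refine Proj.iSup_basicOpen_eq_top (CohB1.polyGrading n R) (fun i => MvPolynomial.X i) ?_
  refine (HomogeneousIdeal.toIdeal_irrelevant_le (CohB1.polyGrading n R)).2 ?_
  intro k hk a ha
  have ha' : a.IsHomogeneous k := ha
  show a ∈ Ideal.span (Set.range fun i : Fin (n + 1) => (MvPolynomial.X i : MvPolynomial (Fin (n + 1)) R))
  rw [← Set.image_univ]
  refine MvPolynomial.mem_ideal_span_X_image.2 (fun m hm => ?_)
  by_contra hcon
  push_neg at hcon
  have hm0 : m = 0 := Finsupp.ext (fun i => hcon i (Set.mem_univ i))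
  have h1 := ha' (MvPolynomial.mem_support_iff.1 hm)
  rw [hm0, map_zero] at h1
  omega

section Main

variable (n : ℕ) (R : Type u) [CommRing R] (i : Fin (n + 1))

/-- the map of the statement -/
noncomputable def Φ : MvPolynomial {j : Fin (n + 1) // j ≠ i} R →+*
    HomogeneousLocalization.Away (CohB1.polyGrading n R) (MvPolynomial.X i) :=
  MvPolynomial.eval₂Hom
    ((HomogeneousLocalization.fromZeroRingHom (CohB1.polyGrading n R)
      (Submonoid.powers (MvPolynomial.X i))).comp
      (algebraMap R (CohB1.polyGrading n R 0)))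
    (fun j : {j : Fin (n + 1) // j ≠ i} =>
      (HomogeneousLocalization.mk ⟨1, ⟨MvPolynomial.X j.1, MvPolynomial.isHomogeneous_X R j.1⟩,
        ⟨MvPolynomial.X i, MvPolynomial.isHomogeneous_X R i⟩, ⟨1, pow_one _⟩⟩ :
        HomogeneousLocalization.Away (CohB1.polyGrading n R) (MvPolynomial.X i)))

/-- dehomogenisation -/
noncomputable def ψ : MvPolynomial (Fin (n + 1)) R →+*
    MvPolynomial {j : Fin (n + 1) // j ≠ i} R :=
  MvPolynomial.eval₂Hom MvPolynomial.C
    (fun j => if h : j = i then 1 else MvPolynomial.X ⟨j, h⟩)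

theorem ψ_C (r : R) : ψ n R i (C r) = C r := MvPolynomial.eval₂_C _ _ r

theorem ψ_X_self : ψ n R i (X i) = 1 := (MvPolynomial.eval₂_X _ _ _).trans (dif_pos rfl)

theorem ψ_X_ne (j : Fin (n + 1)) (h : j ≠ i) : ψ n R i (X j) = X ⟨j, h⟩ :=
  (MvPolynomial.eval₂_X _ _ _).trans (dif_neg h)

abbrev Loc := Localization (Submonoid.powers (MvPolynomial.X i : MvPolynomial (Fin (n + 1)) R))

/-- inverse of `X i` -/
noncomputable def u : Loc n R i :=
  Localization.mk 1 ⟨MvPolynomial.X i, Submonoid.mem_powers _⟩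

theorem mk_eq (a : MvPolynomial (Fin (n + 1)) R)
    (s : Submonoid.powers (MvPolynomial.X i : MvPolynomial (Fin (n + 1)) R)) :
    (Localization.mk a s : Loc n R i) = algebraMap (MvPolynomial (Fin (n + 1)) R) (Loc n R i) a * Localization.mk 1 s := by
  rw [← Localization.mk_one_eq_algebraMap, Localization.mk_mul, mul_one, one_mul]

theorem X_mul_u : algebraMap (MvPolynomial (Fin (n + 1)) R) (Loc n R i) (MvPolynomial.X i) * u n R i = 1 := by
  unfold u
  rw [← mk_eq]
  exact Localization.mk_self (⟨MvPolynomial.X i, Submonoid.mem_powers _⟩ :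
    Submonoid.powers (MvPolynomial.X i : MvPolynomial (Fin (n + 1)) R))

theorem val_Φ_C (r : R) :
    (Φ n R i (C r)).val = algebraMap (MvPolynomial (Fin (n + 1)) R) (Loc n R i) (C r : MvPolynomial (Fin (n + 1)) R) := by
  have h1 : Φ n R i (C r) = HomogeneousLocalization.fromZeroRingHom (CohB1.polyGrading n R)
      (Submonoid.powers (X i)) (algebraMap R (CohB1.polyGrading n R 0) r) :=
    MvPolynomial.eval₂_C _ _ r
  rw [h1]
  exact Localization.mk_one_eq_algebraMap _

theorem val_Φ_X (j : {j : Fin (n + 1) // j ≠ i}) :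
    (Φ n R i (X j)).val = algebraMap (MvPolynomial (Fin (n + 1)) R) (Loc n R i) (X j.1) * u n R i := by
  have h1 : Φ n R i (X j) = (HomogeneousLocalization.mk ⟨1, ⟨MvPolynomial.X j.1,
      MvPolynomial.isHomogeneous_X R j.1⟩,
      ⟨MvPolynomial.X i, MvPolynomial.isHomogeneous_X R i⟩, ⟨1, pow_one _⟩⟩ :
      HomogeneousLocalization.Away (CohB1.polyGrading n R) (MvPolynomial.X i)) :=
    MvPolynomial.eval₂_X _ _ j
  rw [h1, HomogeneousLocalization.val_mk]
  exact mk_eq n R i _ _

/-- left inverse on the localisation -/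
noncomputable def θL : Loc n R i →+* MvPolynomial {j : Fin (n + 1) // j ≠ i} R :=
  IsLocalization.Away.lift (MvPolynomial.X i : MvPolynomial (Fin (n + 1)) R) (g := ψ n R i)
    (by rw [ψ_X_self]; exact isUnit_one)

theorem θL_alg (a : MvPolynomial (Fin (n + 1)) R) :
    θL n R i (algebraMap (MvPolynomial (Fin (n + 1)) R) (Loc n R i) a) = ψ n R i a :=
  IsLocalization.Away.lift_eq _ _ a

theorem θL_u : θL n R i (u n R i) = 1 := by
  have h := congrArg (θL n R i) (X_mul_u n R i)
  rw [map_mul, θL_alg, ψ_X_self, one_mul, map_one] at h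
  exact h

theorem left_inv (p : MvPolynomial {j : Fin (n + 1) // j ≠ i} R) :
    θL n R i ((Φ n R i p).val) = p := by
  have h : ((θL n R i).comp (algebraMap (HomogeneousLocalization.Away (CohB1.polyGrading n R)
      (MvPolynomial.X i)) (Loc n R i))).comp (Φ n R i) = RingHom.id _ := by
    refine MvPolynomial.ringHom_ext (fun r => ?_) (fun j => ?_)
    · show θL n R i ((Φ n R i (C r)).val) = C r
      rw [val_Φ_C, θL_alg, ψ_C]
    · show θL n R i ((Φ n R i (X j)).val) = X j
      rw [val_Φ_X, map_mul, θL_alg, θL_u, mul_one, ψ_X_ne n R i j.1 j.2]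
  exact congr($h p)

theorem inj : Function.Injective (Φ n R i) := by
  intro p q hpq
  rw [← left_inv n R i p, ← left_inv n R i q, hpq]

theorem val_Φ_ψ (a : MvPolynomial (Fin (n + 1)) R) (k : ℕ) (ha : a.IsHomogeneous k) :
    (Φ n R i (ψ n R i a)).val = algebraMap (MvPolynomial (Fin (n + 1)) R) (Loc n R i) a * u n R i ^ k := by
  -- the two ring homs
  have h : (algebraMap (HomogeneousLocalization.Away (CohB1.polyGrading n R)
      (MvPolynomial.X i)) (Loc n R i)).comp ((Φ n R i).comp (ψ n R i)) =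
      MvPolynomial.eval₂Hom ((algebraMap (MvPolynomial (Fin (n + 1)) R) (Loc n R i)).comp C)
        (fun j => algebraMap (MvPolynomial (Fin (n + 1)) R) (Loc n R i) (X j) * u n R i) := by
    refine MvPolynomial.ringHom_ext (fun r => ?_) (fun j => ?_)
    · show (Φ n R i (ψ n R i (C r))).val = MvPolynomial.eval₂ _ _ (C r)
      rw [ψ_C, val_Φ_C, MvPolynomial.eval₂_C]
      rfl
    · show (Φ n R i (ψ n R i (X j))).val = MvPolynomial.eval₂ _ _ (X j)
      rw [MvPolynomial.eval₂_X]
      by_cases hj : j = i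
      · subst hj
        rw [ψ_X_self, map_one, X_mul_u]
        exact HomogeneousLocalization.val_one
      · rw [ψ_X_ne n R i j hj, val_Φ_X]
  have h0 : MvPolynomial.eval₂Hom
      ((algebraMap (MvPolynomial (Fin (n + 1)) R) (Loc n R i)).comp C)
      (fun j => algebraMap (MvPolynomial (Fin (n + 1)) R) (Loc n R i) (X j)) =
      algebraMap (MvPolynomial (Fin (n + 1)) R) (Loc n R i) := by
    refine MvPolynomial.ringHom_ext (fun r => ?_) (fun j => ?_)
    · exact MvPolynomial.eval₂_C _ _ r
    · exact MvPolynomial.eval₂_X _ _ j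
  have h1 : (Φ n R i (ψ n R i a)).val = MvPolynomial.eval₂
      ((algebraMap (MvPolynomial (Fin (n + 1)) R) (Loc n R i)).comp C)
      (fun j => algebraMap (MvPolynomial (Fin (n + 1)) R) (Loc n R i) (X j) * u n R i) a :=
    congr($h a)
  rw [h1, eval₂_mul_homog _ _ _ ha]
  congr 1
  exact congr($h0 a)

theorem surj : Function.Surjective (Φ n R i) := by
  intro x
  have hXi : (MvPolynomial.X i : MvPolynomial (Fin (n + 1)) R) ∈ CohB1.polyGrading n R 1 :=
    MvPolynomial.isHomogeneous_X R i
  obtain ⟨k, a, ha, rfl⟩ := HomogeneousLocalization.Away.mk_surjective (CohB1.polyGrading n R) hXi x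
  have ha' : a.IsHomogeneous k := by
    have h := ha
    rw [smul_eq_mul, mul_one] at h
    exact h
  refine ⟨ψ n R i a, HomogeneousLocalization.val_injective _ ?_⟩
  rw [val_Φ_ψ n R i a k ha', HomogeneousLocalization.Away.val_mk, mk_eq]
  congr 1
  unfold u
  rw [Localization.mk_pow, one_pow]
  rfl

theorem bij : Function.Bijective (Φ n R i) := ⟨inj n R i, surj n R i⟩

end Main

theorem main (n : ℕ) (R : Type u) [CommRing R] :
    (⨆ i : Fin (n + 1), Proj.basicOpen (CohB1.polyGrading n R) (MvPolynomial.X i)) = ⊤ ∧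
      ∀ i : Fin (n + 1), Function.Bijective
        (MvPolynomial.eval₂Hom
          ((HomogeneousLocalization.fromZeroRingHom (CohB1.polyGrading n R) (Submonoid.powers (MvPolynomial.X i))).comp
            (algebraMap R (CohB1.polyGrading n R 0)))
          (fun j : {j : Fin (n + 1) // j ≠ i} =>
            (HomogeneousLocalization.mk ⟨1, ⟨MvPolynomial.X j.1, MvPolynomial.isHomogeneous_X R j.1⟩,
              ⟨MvPolynomial.X i, MvPolynomial.isHomogeneous_X R i⟩, ⟨1, pow_one _⟩⟩ :
              HomogeneousLocalization.Away (CohB1.polyGrading n R) (MvPolynomial.X i)))) :=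
  ⟨cover n R, fun i => bij n R i⟩

end Groth.Agent.Lib.DehomH4
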