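import Groth.Agent.Lib.ProjMap_helper3
import Groth.Agent.Lib.GradedQuot_helper3

/-! Closed subschemes of `Proj` of a graded ring generated in degree one are `Proj` of a graded quotient. -/

universe u
open AlgebraicGeometry CategoryTheory HomogeneousLocalization DirectSum

namespace Groth.Agent.Lib.ProjClosed_helper3

section Frac
variable {A : Type*} [CommRing A]

/-- The fraction `a / f ^ n` in the localization away from `f`. -/
def frac (f : A) (n : ℕ) (a : A) : Localization (Submonoid.powers f) :=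
  Localization.mk a ⟨f ^ n, n, rfl⟩

theorem frac_eq_of {f : A} {n m : ℕ} {a b : A} (h : f ^ m * a = f ^ n * b) : frac f n a = frac f m b := by
  unfold frac
  rw [Localization.mk_eq_mk_iff, Localization.r_iff_exists]
  refine ⟨1, ?_⟩
  show (1 : A) * (f ^ m * a) = 1 * (f ^ n * b)
  rw [h]

theorem frac_zero (f : A) (n : ℕ) : frac f n 0 = 0 := Localization.mk_zero _

theorem frac_add (f : A) (n : ℕ) (a b : A) : frac f n a + frac f n b = frac f n (a + b) := by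
  unfold frac
  rw [Localization.add_mk_self]

theorem frac_mul (f : A) (m n : ℕ) (b a : A) : frac f m b * frac f n a = frac f (m + n) (b * a) := by
  unfold frac
  rw [Localization.mk_mul]
  congr 1
  exact Subtype.ext (pow_add f m n).symm

theorem frac_pow (f : A) (m k : ℕ) (b : A) : frac f m b ^ k = frac f (m * k) (b ^ k) := by
  unfold frac
  rw [Localization.mk_pow]
  congr 1
  exact Subtype.ext (pow_mul f m k).symm

theorem comap_map_square {R₁ R₂ S₁ S₂ : Type*} [CommRing R₁] [CommRing R₂] [CommRing S₁] [CommRing S₂]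
    (α₁ : R₁ →+* S₁) (α₂ : R₂ →+* S₂) (ρ : S₁ →+* S₂) (μ : R₁ →+* R₂)
    (hsq : α₂.comp μ = ρ.comp α₁) (h₁ : Function.Surjective α₁) (h₂ : Function.Bijective α₂) (K₁ : Ideal S₁) :
    Ideal.comap α₂ (K₁.map ρ) = (Ideal.comap α₁ K₁).map μ := by
  have h : K₁.map ρ = ((Ideal.comap α₁ K₁).map μ).map α₂ := by
    rw [Ideal.map_map, hsq, ← Ideal.map_map, Ideal.map_comap_of_surjective α₁ h₁]
  rw [h, Ideal.comap_map_of_bijective α₂ h₂]
end Frac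

section Alg
variable {A σ : Type*} [CommRing A] [SetLike σ A] [AddSubgroupClass σ A] (𝒜 : ℕ → σ) [GradedRing 𝒜]
  (J : ∀ f : A, Ideal (Away 𝒜 f))

theorem val_mk_eq_frac {f : A} {d : ℕ} (hf : f ∈ 𝒜 d) (n : ℕ) (a : A) (ha : a ∈ 𝒜 (n • d)) :
    (Away.mk 𝒜 hf n a ha).val = frac f n a := Away.val_mk ..

theorem val_awayMap_mk_eq_frac {f g x : A} {d e : ℕ} (hf : f ∈ 𝒜 d) (hg : g ∈ 𝒜 e) (hx : x = f * g) (n : ℕ) (a : A)
    (ha : a ∈ 𝒜 (n • d)) : (awayMap 𝒜 hg hx (Away.mk 𝒜 hf n a ha)).val = frac x n (a * g ^ n) := by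
  rw [awayMap_mk]
  exact Away.val_mk ..

theorem val_isLocalizationElem {f g : A} {d e : ℕ} (hf : f ∈ 𝒜 d) (hg : g ∈ 𝒜 e) :
    (Away.isLocalizationElem hf hg).val = frac f e (g ^ d) := Away.val_mk ..

theorem val_awayMap_isLocalizationElem {f g x : A} {d e : ℕ} (hf : f ∈ 𝒜 d) (hg : g ∈ 𝒜 e) {h : A} {c : ℕ} (hh : h ∈ 𝒜 c)
    (hx : x = f * h) :
    (awayMap 𝒜 hh hx (Away.isLocalizationElem hf hg)).val = frac x e (g ^ d * h ^ e) :=
  val_awayMap_mk_eq_frac 𝒜 hf hh hx e (g ^ d) _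

/-- `a / f ^ n` lies in `J f`. -/
def InJ (f : A) (n : ℕ) (a : A) : Prop := ∃ z ∈ J f, z.val = frac f n a

theorem inJ_zero (f : A) (n : ℕ) : InJ 𝒜 J f n 0 :=
  ⟨0, zero_mem _, by rw [HomogeneousLocalization.val_zero, frac_zero]⟩

theorem inJ_add {f : A} {n : ℕ} {a b : A} (ha : InJ 𝒜 J f n a) (hb : InJ 𝒜 J f n b) : InJ 𝒜 J f n (a + b) := by
  obtain ⟨z, hz, hz'⟩ := ha
  obtain ⟨w, hw, hw'⟩ := hb
  exact ⟨z + w, add_mem hz hw, by rw [HomogeneousLocalization.val_add, hz', hw', frac_add]⟩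

theorem inJ_mul {f : A} {d : ℕ} (hf : f ∈ 𝒜 d) {m n : ℕ} {a b : A} (hb : b ∈ 𝒜 (m • d)) (ha : InJ 𝒜 J f n a) :
    InJ 𝒜 J f (m + n) (b * a) := by
  obtain ⟨z, hz, hz'⟩ := ha
  refine ⟨Away.mk 𝒜 hf m b hb * z, Ideal.mul_mem_left _ _ hz, ?_⟩
  rw [HomogeneousLocalization.val_mul, val_mk_eq_frac, hz', frac_mul]

theorem inJ_of_mk {f : A} {d : ℕ} (hf : f ∈ 𝒜 d) {n : ℕ} {a : A} (ha : a ∈ 𝒜 (n • d))
    (h : Away.mk 𝒜 hf n a ha ∈ J f) : InJ 𝒜 J f n a :=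
  ⟨_, h, val_mk_eq_frac 𝒜 hf n a ha⟩

theorem mk_mem_of_inJ {f : A} {d : ℕ} (hf : f ∈ 𝒜 d) {n : ℕ} {a : A} (ha : a ∈ 𝒜 (n • d))
    (h : InJ 𝒜 J f n a) : Away.mk 𝒜 hf n a ha ∈ J f := by
  obtain ⟨z, hz, hz'⟩ := h
  have : z = Away.mk 𝒜 hf n a ha := by
    rw [HomogeneousLocalization.ext_iff_val, hz', val_mk_eq_frac]
  rwa [← this]

theorem inJ_congr {f : A} {n m : ℕ} {a b : A} (h : frac f n a = frac f m b) :
    InJ 𝒜 J f n a ↔ InJ 𝒜 J f m b := by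
  unfold InJ
  rw [h]

/-- The set of elements all of whose homogeneous components define elements of `J f` for `f ∈ s`. -/
def bigSet (s : Set A) : Set A := {a | ∀ n : ℕ, ∀ f ∈ s, InJ 𝒜 J f n (decompose 𝒜 a n)}

theorem zero_mem_bigSet (s : Set A) : (0 : A) ∈ bigSet 𝒜 J s := by
  intro n f _
  have : ((decompose 𝒜 (0 : A) n : 𝒜 n) : A) = 0 := by simp
  rw [this]
  exact inJ_zero 𝒜 J f n

theorem add_mem_bigSet {s : Set A} {a b : A} (ha : a ∈ bigSet 𝒜 J s) (hb : b ∈ bigSet 𝒜 J s) :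
    a + b ∈ bigSet 𝒜 J s := by
  intro n f hf
  have : ((decompose 𝒜 (a + b) n : 𝒜 n) : A) = (decompose 𝒜 a n : A) + (decompose 𝒜 b n : A) := by simp
  rw [this]
  exact inJ_add 𝒜 J (ha n f hf) (hb n f hf)

theorem mul_mem_bigSet {s : Set A} (hs : ∀ f ∈ s, f ∈ 𝒜 1) (c : A) {a : A} (ha : a ∈ bigSet 𝒜 J s) :
    c * a ∈ bigSet 𝒜 J s := by
  classical
  refine DirectSum.Decomposition.inductionOn 𝒜 (motive := fun c => c * a ∈ bigSet 𝒜 J s) ?_ ?_ ?_ c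
  · rw [zero_mul]
    exact zero_mem_bigSet 𝒜 J s
  · intro m c n f hf
    by_cases hmn : m ≤ n
    · rw [DirectSum.coe_decompose_mul_of_left_mem_of_le 𝒜 c.2 hmn]
      have h := inJ_mul 𝒜 J (hs f hf) (m := m) (n := n - m) (b := (c : A))
        (by rw [smul_eq_mul, mul_one]; exact c.2) (ha (n - m) f hf)
      rwa [Nat.add_sub_of_le hmn] at h
    · rw [DirectSum.coe_decompose_mul_of_left_mem_of_not_le 𝒜 c.2 hmn]
      exact inJ_zero 𝒜 J f n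
  · intro c c' hc hc'
    rw [add_mul]
    exact add_mem_bigSet 𝒜 J hc hc'

/-- The homogeneous ideal of elements all of whose components define elements of `J f` for `f ∈ s`. -/
def bigIdeal (s : Set A) (hs : ∀ f ∈ s, f ∈ 𝒜 1) : Ideal A where
  carrier := bigSet 𝒜 J s
  add_mem' := fun ha hb => add_mem_bigSet 𝒜 J ha hb
  zero_mem' := zero_mem_bigSet 𝒜 J s
  smul_mem' := by
    intro c x hx
    exact mul_mem_bigSet 𝒜 J hs c hx

theorem mem_bigIdeal_iff {s : Set A} (hs : ∀ f ∈ s, f ∈ 𝒜 1) {a : A} :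
    a ∈ bigIdeal 𝒜 J s hs ↔ ∀ n : ℕ, ∀ f ∈ s, InJ 𝒜 J f n (decompose 𝒜 a n) := Iff.rfl

theorem mem_bigIdeal_of_homogeneous {s : Set A} (hs : ∀ f ∈ s, f ∈ 𝒜 1) {a : A} {k : ℕ} (ha : a ∈ 𝒜 k) :
    a ∈ bigIdeal 𝒜 J s hs ↔ ∀ f ∈ s, InJ 𝒜 J f k a := by
  constructor
  · intro h f hf
    have := (mem_bigIdeal_iff 𝒜 J hs).mp h k f hf
    rwa [decompose_of_mem_same 𝒜 ha] at this
  · intro h
    refine (mem_bigIdeal_iff 𝒜 J hs).mpr fun n f hf => ?_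
    by_cases hn : k = n
    · subst hn
      rw [decompose_of_mem_same 𝒜 ha]
      exact h f hf
    · rw [decompose_of_mem_ne 𝒜 ha hn]
      exact inJ_zero 𝒜 J f n

theorem bigIdeal_isHomogeneous (s : Set A) (hs : ∀ f ∈ s, f ∈ 𝒜 1) : (bigIdeal 𝒜 J s hs).IsHomogeneous 𝒜 := by
  intro k a ha
  exact (mem_bigIdeal_of_homogeneous 𝒜 J hs (SetLike.coe_mem _)).mpr
    fun f hf => (mem_bigIdeal_iff 𝒜 J hs).mp ha k f hf

/-- Compatibility of the family `J` with the localization maps. -/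
def Compat : Prop :=
  ∀ (f g x : A) (_ : f ∈ 𝒜 1) (hg : g ∈ 𝒜 1) (hx : x = f * g), J x = (J f).map (awayMap 𝒜 hg hx)

theorem exists_inJ_of_inJ (hJ : Compat 𝒜 J) {f g : A} (hf : f ∈ 𝒜 1) (hg : g ∈ 𝒜 1) {n : ℕ} {a : A}
    (ha : a ∈ 𝒜 n) (h : InJ 𝒜 J f n a) : ∃ k, ∀ N, k ≤ N → InJ 𝒜 J g (n + N) (f ^ N * a) := by
  have ha' : a ∈ 𝒜 (n • 1) := by rwa [smul_eq_mul, mul_one]
  have hyf : Away.mk 𝒜 hf n a ha' ∈ J f := mk_mem_of_inJ 𝒜 J hf ha' h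
  have hx2 : f * g = g * f := mul_comm f g
  have h1 : awayMap 𝒜 hg (rfl : f * g = f * g) (Away.mk 𝒜 hf n a ha') ∈ J (f * g) := by
    rw [hJ f g (f * g) hf hg rfl]
    exact Ideal.mem_map_of_mem _ hyf
  have hkey : awayMap 𝒜 hf hx2 (Away.mk 𝒜 hg n a ha') =
      awayMap 𝒜 hg (rfl : f * g = f * g) (Away.mk 𝒜 hf n a ha') *
        (awayMap 𝒜 hf hx2 (Away.isLocalizationElem hg hf)) ^ n := by
    rw [HomogeneousLocalization.ext_iff_val, HomogeneousLocalization.val_mul, HomogeneousLocalization.val_pow,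
      val_awayMap_isLocalizationElem, val_awayMap_mk_eq_frac, val_awayMap_mk_eq_frac, frac_pow, frac_mul]
    apply frac_eq_of
    ring
  have h2 : awayMap 𝒜 hf hx2 (Away.mk 𝒜 hg n a ha') ∈ (J g).map (awayMap 𝒜 hf hx2) := by
    rw [← hJ g f (f * g) hg hf hx2, hkey]
    exact Ideal.mul_mem_right _ _ h1
  let _ := (awayMap 𝒜 hf hx2).toAlgebra
  have := Away.isLocalization_mul hg hf hx2 one_ne_zero
  obtain ⟨_, ⟨k, rfl⟩, hk⟩ := (IsLocalization.algebraMap_mem_map_algebraMap_iff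
    (Submonoid.powers (Away.isLocalizationElem hg hf)) (Away 𝒜 (f * g)) (J g) (Away.mk 𝒜 hg n a ha')).mp h2
  refine ⟨k, fun N hN => ?_⟩
  refine ⟨Away.isLocalizationElem hg hf ^ N * Away.mk 𝒜 hg n a ha', ?_, ?_⟩
  · have : Away.isLocalizationElem hg hf ^ N * Away.mk 𝒜 hg n a ha' =
        Away.isLocalizationElem hg hf ^ (N - k) *
          (Away.isLocalizationElem hg hf ^ k * Away.mk 𝒜 hg n a ha') := by
      rw [← mul_assoc, ← pow_add, Nat.sub_add_cancel hN]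
    rw [this]
    exact Ideal.mul_mem_left _ _ hk
  · rw [HomogeneousLocalization.val_mul, HomogeneousLocalization.val_pow, val_isLocalizationElem, val_mk_eq_frac,
      frac_pow, frac_mul]
    apply frac_eq_of
    ring

theorem ker_away_map_eq (hJ : Compat 𝒜 J) (s : Finset A) (hs : ∀ f ∈ (s : Set A), f ∈ 𝒜 1)
    {B τ : Type*} [CommRing B] [SetLike τ B] [AddSubgroupClass τ B] {ℬ : ℕ → τ} [GradedRing ℬ] (φ : 𝒜 →+*ᵍ ℬ)
    (hker : ∀ a, φ a = 0 ↔ a ∈ bigIdeal 𝒜 J (s : Set A) hs) {f : A} (hf : f ∈ s) :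
    RingHom.ker (Away.map φ f) = J f := by
  have hf1 : f ∈ 𝒜 1 := hs f hf
  ext x
  obtain ⟨n, a, ha, rfl⟩ := Away.mk_surjective 𝒜 hf1 x
  have han : a ∈ 𝒜 n := by rwa [smul_eq_mul, mul_one] at ha
  rw [RingHom.mem_ker, Away.map_mk, HomogeneousLocalization.ext_iff_val, Away.val_mk,
    HomogeneousLocalization.val_zero, Localization.mk_eq_mk', IsLocalization.mk'_eq_zero_iff]
  constructor
  · rintro ⟨⟨_, m, rfl⟩, hm⟩
    simp only at hm
    have h1 : φ (f ^ m * a) = 0 := by rw [map_mul, map_pow]; exact hm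
    have h2 := (hker _).mp h1
    have hdeg : f ^ m * a ∈ 𝒜 (m + n) := by
      have := SetLike.mul_mem_graded (SetLike.pow_mem_graded m hf1) han
      rwa [smul_eq_mul, mul_one] at this
    have h3 := (mem_bigIdeal_of_homogeneous 𝒜 J hs hdeg).mp h2 f hf
    have h4 : InJ 𝒜 J f n a := (inJ_congr 𝒜 J (frac_eq_of (by ring))).mp h3
    exact mk_mem_of_inJ 𝒜 J hf1 ha h4
  · intro hx
    have h1 : InJ 𝒜 J f n a := inJ_of_mk 𝒜 J hf1 ha hx
    have h2 : ∀ g ∈ s, ∃ k, ∀ N, k ≤ N → InJ 𝒜 J g (n + N) (f ^ N * a) :=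
      fun g hg => exists_inJ_of_inJ 𝒜 J hJ hf1 (hs g hg) han h1
    choose! k hk using h2
    have hdeg : f ^ (s.sup k) * a ∈ 𝒜 (n + s.sup k) := by
      have := SetLike.mul_mem_graded (SetLike.pow_mem_graded (s.sup k) hf1) han
      rwa [smul_eq_mul, mul_one, add_comm] at this
    have h3 : f ^ (s.sup k) * a ∈ bigIdeal 𝒜 J (s : Set A) hs :=
      (mem_bigIdeal_of_homogeneous 𝒜 J hs hdeg).mpr
        fun g hg => hk g (Finset.mem_coe.mp hg) _ (Finset.le_sup (Finset.mem_coe.mp hg))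
    have h4 := (hker _).mpr h3
    refine ⟨⟨φ f ^ s.sup k, _, rfl⟩, ?_⟩
    show φ f ^ s.sup k * φ a = 0
    rw [← map_pow, ← map_mul]
    exact h4
end Alg

section Geom
variable {A σ : Type u} [CommRing A] [SetLike σ A] [AddSubgroupClass σ A] (𝒜 : ℕ → σ) [GradedRing 𝒜]

/-- The affine open `D₊(f)`. -/
abbrev affD {f : A} {m : ℕ} (hf : f ∈ 𝒜 m) (hm : 0 < m) : (Proj 𝒜).affineOpens :=
  ⟨Proj.basicOpen 𝒜 f, Proj.isAffineOpen_basicOpen 𝒜 f hf hm⟩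

theorem awayToSection_bijective {f : A} {m : ℕ} (hf : f ∈ 𝒜 m) (hm : 0 < m) :
    Function.Bijective (Proj.awayToSection 𝒜 f).hom := by
  have : IsIso (Proj.awayToSection 𝒜 f) := by
    rw [← Proj.basicOpenIsoAway_hom 𝒜 f hf hm]
    infer_instance
  exact (ConcreteCategory.isIso_iff_bijective _).mp this

/-- The family of ideals of the rings `Away 𝒜 f` cut out by an ideal sheaf on `Proj 𝒜`. -/
noncomputable def Jfam (I : (Proj 𝒜).IdealSheafData) (f : A) : Ideal (Away 𝒜 f) := by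
  classical
  exact if h : ∃ m : ℕ, 0 < m ∧ f ∈ 𝒜 m then
    Ideal.comap (Proj.awayToSection 𝒜 f).hom (I.ideal (affD 𝒜 h.choose_spec.2 h.choose_spec.1))
  else ⊥

theorem Jfam_eq (I : (Proj 𝒜).IdealSheafData) {f : A} {m : ℕ} (hf : f ∈ 𝒜 m) (hm : 0 < m) :
    Jfam 𝒜 I f = Ideal.comap (Proj.awayToSection 𝒜 f).hom (I.ideal (affD 𝒜 hf hm)) := by
  have h : ∃ m : ℕ, 0 < m ∧ f ∈ 𝒜 m := ⟨m, hm, hf⟩
  unfold Jfam
  rw [dif_pos h]

theorem Jfam_compat (I : (Proj 𝒜).IdealSheafData) {f g x : A} {m m' : ℕ} (hf : f ∈ 𝒜 m) (hm : 0 < m)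
    (hg : g ∈ 𝒜 m') (hx : x = f * g) :
    Jfam 𝒜 I x = (Jfam 𝒜 I f).map (awayMap 𝒜 hg hx) := by
  have hxm : x ∈ 𝒜 (m + m') := hx ▸ SetLike.mul_mem_graded hf hg
  have hpos : 0 < m + m' := by omega
  rw [Jfam_eq 𝒜 I hxm hpos, Jfam_eq 𝒜 I hf hm]
  have hle : affD 𝒜 hxm hpos ≤ affD 𝒜 hf hm := Proj.basicOpen_mono _ _ _ ⟨_, hx⟩
  rw [← I.map_ideal hle]
  have h2 := congrArg CommRingCat.Hom.hom (Proj.awayMap_awayToSection 𝒜 hg hx (f := f))
  exact comap_map_square _ _ _ _ h2 (awayToSection_bijective 𝒜 hf hm).2 (awayToSection_bijective 𝒜 hxm hpos) _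

set_option backward.isDefEq.respectTransparency.types false in
theorem Jfam_ker_map {B τ : Type u} [CommRing B] [SetLike τ B] [AddSubgroupClass τ B] {ℬ : ℕ → τ} [GradedRing ℬ]
    (φ : 𝒜 →+*ᵍ ℬ) (hφ : HomogeneousIdeal.irrelevant ℬ ≤ (HomogeneousIdeal.irrelevant 𝒜).map φ)
    [QuasiCompact (Proj.map φ hφ)] {f : A} {m : ℕ} (hf : f ∈ 𝒜 m) (hm : 0 < m) :
    Jfam 𝒜 (Proj.map φ hφ).ker f = RingHom.ker (Away.map φ f) := by
  rw [Jfam_eq 𝒜 _ hf hm]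
  have hinj : Function.Injective (Proj.awayToSection ℬ (φ f)).hom :=
    (awayToSection_bijective ℬ (φ.2 hf) hm).1
  ext x
  have h3 : ((Proj.map φ hφ).app (Proj.basicOpen 𝒜 f)).hom ((Proj.awayToSection 𝒜 f).hom x) =
      (Proj.awayToSection ℬ (φ f)).hom (Away.map φ f x) := by
    rw [Scheme.Hom.app_eq_appLE]
    exact congrArg (fun k => k.hom x) (Proj.awayToSection_comp_appLE φ hφ hf)
  rw [Ideal.mem_comap, Scheme.Hom.ker_apply, RingHom.mem_ker, RingHom.mem_ker]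
  constructor
  · intro h
    apply hinj
    rw [map_zero]
    exact h3.symm.trans h
  · intro h
    exact h3.trans (by rw [h, map_zero]; rfl)

theorem exists_iso_of_ker_eq {B τ : Type u} [CommRing B] [SetLike τ B] [AddSubgroupClass τ B] (ℬ : ℕ → τ) [GradedRing ℬ]
    (φ : 𝒜 →+*ᵍ ℬ) (hsurj : Function.Surjective φ)
    (hφ : HomogeneousIdeal.irrelevant ℬ ≤ (HomogeneousIdeal.irrelevant 𝒜).map φ)
    (s : Finset A) (hs1 : ∀ f ∈ s, f ∈ 𝒜 1)
    (hs : (HomogeneousIdeal.irrelevant 𝒜).toIdeal = Ideal.span (s : Set A))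
    {Z : Scheme.{u}} (i : Z ⟶ Proj 𝒜) [IsClosedImmersion i]
    (H : ∀ f ∈ s, RingHom.ker (Away.map φ f) = Jfam 𝒜 i.ker f) :
    ∃ e : Z ≅ Proj ℬ, e.hom ≫ Proj.map φ hφ = i := by
  have : IsClosedImmersion (Proj.map φ hφ) := ProjMap_helper3.map_isClosedImmersion 𝒜 ℬ φ hsurj hφ
  have hker : (Proj.map φ hφ).ker = i.ker := by
    refine Scheme.IdealSheafData.ext_of_iSup_eq_top (fun f : s => affD 𝒜 (hs1 f.1 f.2) one_pos) ?_ ?_
    · exact Proj.iSup_basicOpen_eq_top 𝒜 (fun f : s => (f : A))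
        (hs.le.trans (Ideal.span_mono fun x hx => ⟨⟨x, hx⟩, rfl⟩))
    · intro f
      have h1 : Jfam 𝒜 (Proj.map φ hφ).ker f.1 = Jfam 𝒜 i.ker f.1 := by
        rw [Jfam_ker_map 𝒜 φ hφ (hs1 f.1 f.2) one_pos, H f.1 f.2]
      rw [Jfam_eq 𝒜 _ (hs1 f.1 f.2) one_pos, Jfam_eq 𝒜 _ (hs1 f.1 f.2) one_pos] at h1
      exact Ideal.comap_injective_of_surjective _ (awayToSection_bijective 𝒜 (hs1 f.1 f.2) one_pos).2 h1
  have := IsClosedImmersion.isIso_lift (Proj.map φ hφ) i hker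
  exact ⟨asIso (IsClosedImmersion.lift (Proj.map φ hφ) i hker.le), IsClosedImmersion.lift_fac _ _ _⟩
end Geom

section Main
open Groth.Agent.Lib.GradedQuot_helper3

theorem exists_proj_quotient {R A : Type u} [CommRing R] [CommRing A] [Algebra R A] (𝒜 : ℕ → Submodule R A)
    [GradedAlgebra 𝒜] (s : Finset A) (hs1 : ∀ f ∈ s, f ∈ 𝒜 1)
    (hs : (HomogeneousIdeal.irrelevant 𝒜).toIdeal = Ideal.span (s : Set A))
    {Z : Scheme.{u}} (i : Z ⟶ Proj 𝒜) [IsClosedImmersion i] :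
    ∃ (B : Type u) (_ : CommRing B) (_ : Algebra R B) (ℬ : ℕ → Submodule R B) (_ : GradedAlgebra ℬ)
      (φ : 𝒜 →+*ᵍ ℬ) (_ : Function.Surjective φ)
      (hφ : HomogeneousIdeal.irrelevant ℬ ≤ (HomogeneousIdeal.irrelevant 𝒜).map φ)
      (e : Z ≅ Proj ℬ), e.hom ≫ Proj.map φ hφ = i := by
  classical
  have hs1' : ∀ f ∈ (s : Set A), f ∈ 𝒜 1 := fun f hf => hs1 f hf
  have hJ : Compat 𝒜 (Jfam 𝒜 i.ker) := fun f g x hf hg hx => Jfam_compat 𝒜 i.ker hf one_pos hg hx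
  obtain ⟨I, hIdef⟩ : ∃ I : Ideal A, I = bigIdeal 𝒜 (Jfam 𝒜 i.ker) (s : Set A) hs1' := ⟨_, rfl⟩
  have hI : I.IsHomogeneous 𝒜 := hIdef ▸ bigIdeal_isHomogeneous 𝒜 (Jfam 𝒜 i.ker) (s : Set A) hs1'
  let _ : GradedAlgebra (quotGrading 𝒜 I) := quotGradedAlgebra 𝒜 I hI
  have hsurj : Function.Surjective (quotGradedHom 𝒜 I) := quotGradedHom_surjective 𝒜 I
  have hφ := irrelevant_le_map_of_surjective (quotGradedHom 𝒜 I) hsurj
  have hkerI : ∀ a, quotGradedHom 𝒜 I a = 0 ↔ a ∈ bigIdeal 𝒜 (Jfam 𝒜 i.ker) (s : Set A) hs1' := by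
    intro a
    rw [← hIdef]
    exact quotGradedHom_eq_zero_iff 𝒜 I a
  obtain ⟨e, he⟩ := exists_iso_of_ker_eq 𝒜 (quotGrading 𝒜 I) (quotGradedHom 𝒜 I) hsurj hφ s hs1 hs i
    (fun f hf => ker_away_map_eq 𝒜 (Jfam 𝒜 i.ker) hJ s hs1' (quotGradedHom 𝒜 I) hkerI hf)
  exact ⟨A ⧸ I, inferInstance, inferInstance, quotGrading 𝒜 I, quotGradedAlgebra 𝒜 I hI, quotGradedHom 𝒜 I,
    hsurj, hφ, e, he⟩
end Main

end Groth.Agent.Lib.ProjClosed_helper3
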