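import Mathlib
import Groth.Prelude
import Groth.Agent.Lib.ProjClosed_helper3
import Groth.Agent.Lib.SpecChart_helper5

/-!
# Sections of `Proj` over `D₊(f)` and kernels of closed immersions into `Proj`  (helper5)
APPEND-ONLY once landed.
-/

set_option autoImplicit false
universe u
open CategoryTheory CategoryTheory.Limits AlgebraicGeometry TopologicalSpace Opposite
open HomogeneousLocalization

noncomputable section

namespace Groth.Agent.ProjKer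

open Groth.Agent.Lib.ProjClosed_helper3 Groth.Agent.SpecChart

section Star
variable {A σ : Type u} [CommRing A] [SetLike σ A] [AddSubgroupClass σ A] (𝒜 : ℕ → σ)
  [GradedRing 𝒜] {f : A} {m : ℕ} (hf : f ∈ 𝒜 m) (hm : 0 < m)

theorem top_le_preimage_awayι :
    (⊤ : (Spec (CommRingCat.of (Away 𝒜 f))).Opens) ≤
      Proj.awayι 𝒜 f hf hm ⁻¹ᵁ Proj.basicOpen 𝒜 f := by
  rw [← Proj.opensRange_awayι 𝒜 f hf hm]
  exact (Scheme.Hom.preimage_opensRange _).ge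

instance isIso_awayι_appLE :
    IsIso ((Proj.awayι 𝒜 f hf hm).appLE (Proj.basicOpen 𝒜 f) ⊤ (top_le_preimage_awayι 𝒜 hf hm)) := by
  have h1 : IsIso ((Proj.awayι 𝒜 f hf hm).app (Proj.basicOpen 𝒜 f)) :=
    Scheme.Hom.isIso_app _ _ (Proj.opensRange_awayι 𝒜 f hf hm).ge
  refine isIso_appLE_of_eq _ _ _ ?_ h1
  rw [← Proj.opensRange_awayι 𝒜 f hf hm]
  exact (Scheme.Hom.preimage_opensRange _).symm

theorem ι_appLE_topIso {X : Scheme.{u}} (U : X.Opens) (e : (⊤ : U.toScheme.Opens) ≤ U.ι ⁻¹ᵁ U) :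
    U.ι.appLE U ⊤ e ≫ U.topIso.hom = 𝟙 _ := by
  rw [Scheme.Opens.ι_appLE]
  unfold Scheme.Opens.topIso
  rw [Functor.mapIso_hom]
  exact (X.presheaf.map_comp _ _).symm.trans
    ((congrArg X.presheaf.map (Quiver.Hom.unop_inj (Subsingleton.elim _ _))).trans
      (X.presheaf.map_id _))

/-- `awayι` on sections over `D₊(f)` inverts `awayToSection`. -/
theorem awayι_appLE_awayToSection :
    (Proj.awayι 𝒜 f hf hm).appLE (Proj.basicOpen 𝒜 f) ⊤ (top_le_preimage_awayι 𝒜 hf hm) ≫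
      (Scheme.ΓSpecIso _).hom ≫ Proj.awayToSection 𝒜 f = 𝟙 _ := by
  have h1 : (Proj.basicOpenIsoSpec 𝒜 f hf hm).hom ≫ Proj.awayι 𝒜 f hf hm =
      (Proj.basicOpen 𝒜 f).ι := by
    unfold Proj.awayι
    rw [Iso.hom_inv_id_assoc]
  have e0 : (⊤ : (Proj.basicOpen 𝒜 f).toScheme.Opens) ≤
      (Proj.basicOpen 𝒜 f).ι ⁻¹ᵁ Proj.basicOpen 𝒜 f := by
    intro x _
    exact x.2
  have h2 : (Proj.awayι 𝒜 f hf hm).appLE (Proj.basicOpen 𝒜 f) ⊤
      (top_le_preimage_awayι 𝒜 hf hm) ≫ (Proj.basicOpenIsoSpec 𝒜 f hf hm).hom.appLE ⊤ ⊤ le_top =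
      (Proj.basicOpen 𝒜 f).ι.appLE (Proj.basicOpen 𝒜 f) ⊤ e0 := by
    rw [Scheme.Hom.appLE_comp_appLE]
    exact Groth.Agent.PullbackLocal.appLE_congr h1 _ _ _ _
  have h3 : (Proj.basicOpenIsoSpec 𝒜 f hf hm).hom.appLE ⊤ ⊤ le_top =
      (Scheme.ΓSpecIso _).hom ≫ Proj.awayToSection 𝒜 f ≫ (Proj.basicOpen 𝒜 f).topIso.inv := by
    rw [← Proj.basicOpenToSpec_app_top, Proj.basicOpenIsoSpec_hom]
    exact (Scheme.Hom.app_eq_appLE _).symm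
  rw [h3] at h2
  have h4 := congrArg (fun q => q ≫ (Proj.basicOpen 𝒜 f).topIso.hom) h2
  simp only [Category.assoc, Iso.inv_hom_id, Category.comp_id] at h4
  rw [h4]
  exact ι_appLE_topIso _ e0

theorem awayToSection_awayι_appLE :
    Proj.awayToSection 𝒜 f ≫
      (Proj.awayι 𝒜 f hf hm).appLE (Proj.basicOpen 𝒜 f) ⊤ (top_le_preimage_awayι 𝒜 hf hm) =
      (Scheme.ΓSpecIso _).inv := by
  have h := awayι_appLE_awayToSection 𝒜 hf hm
  have hiso : IsIso (Proj.awayToSection 𝒜 f) := by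
    rw [← Proj.basicOpenIsoAway_hom 𝒜 f hf hm]
    infer_instance
  have h5 : (Scheme.ΓSpecIso _).hom ≫ Proj.awayToSection 𝒜 f =
      inv ((Proj.awayι 𝒜 f hf hm).appLE (Proj.basicOpen 𝒜 f) ⊤
        (top_le_preimage_awayι 𝒜 hf hm)) := by
    rw [← Category.comp_id (inv _), ← h, IsIso.inv_hom_id_assoc]
  rw [← Iso.eq_inv_comp] at h5
  rw [h5, Category.assoc, IsIso.inv_hom_id, Category.comp_id]

include hf hm in
/-- **(★)** A degree-zero element as a section over `D₊(f)` is its pullback along the structure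
morphism `Proj 𝒜 ⟶ Spec 𝒜₀`. -/
theorem awayToSection_fromZero :
    CommRingCat.ofHom (fromZeroRingHom 𝒜 (Submonoid.powers f)) ≫ Proj.awayToSection 𝒜 f =
      (Scheme.ΓSpecIso (CommRingCat.of (𝒜 0))).inv ≫
        (Proj.toSpecZero 𝒜).appLE ⊤ (Proj.basicOpen 𝒜 f) le_top := by
  rw [← cancel_mono ((Proj.awayι 𝒜 f hf hm).appLE (Proj.basicOpen 𝒜 f) ⊤
    (top_le_preimage_awayι 𝒜 hf hm)), Category.assoc, Category.assoc,
    awayToSection_awayι_appLE, Scheme.Hom.appLE_comp_appLE,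
    Groth.Agent.PullbackLocal.appLE_congr (Proj.awayι_toSpecZero 𝒜 f hf hm) ⊤ ⊤ _ le_top]
  exact Scheme.ΓSpecIso_inv_naturality _

end Star

section Nat
variable {A B σ τ : Type u} [CommRing A] [SetLike σ A] [AddSubgroupClass σ A] [CommRing B]
  [SetLike τ B] [AddSubgroupClass τ B] {𝒜 : ℕ → σ} [GradedRing 𝒜] {ℬ : ℕ → τ} [GradedRing ℬ]

theorem mem_Jfam_iff {Z : Scheme.{u}} (r : Z ⟶ Proj 𝒜) [QuasiCompact r] {f : A} {m : ℕ}
    (hf : f ∈ 𝒜 m) (hm : 0 < m) (x : Away 𝒜 f) :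
    x ∈ Jfam 𝒜 r.ker f ↔
      (r.app (Proj.basicOpen 𝒜 f)).hom ((Proj.awayToSection 𝒜 f).hom x) = 0 := by
  rw [Jfam_eq 𝒜 _ hf hm, Ideal.mem_comap, Scheme.Hom.ker_apply, RingHom.mem_ker]

variable (φ : 𝒜 →+*ᵍ ℬ) (hφ : HomogeneousIdeal.irrelevant ℬ ≤ (HomogeneousIdeal.irrelevant 𝒜).map φ)
  {Z Z' : Scheme.{u}} (r : Z ⟶ Proj 𝒜) (r' : Z' ⟶ Proj ℬ) (ι : Z' ⟶ Z)
  (hcomm : ι ≫ r = r' ≫ Proj.map φ hφ)

include hcomm in
theorem preimage_le_of_comm (f : A) :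
    ι ⁻¹ᵁ (r ⁻¹ᵁ Proj.basicOpen 𝒜 f) ≤ r' ⁻¹ᵁ Proj.basicOpen ℬ (φ f) := by
  intro z hz
  have h1 : (ι ≫ r) z ∈ Proj.basicOpen 𝒜 f := hz
  rw [hcomm] at h1
  exact h1

include hcomm in
/-- The basic naturality: sections of `D₊(f)` pulled back along the two paths of the square. -/
theorem appLE_comm {f : A} {m : ℕ} (hf : f ∈ 𝒜 m) (x : Away 𝒜 f) :
    (ι.appLE (r ⁻¹ᵁ Proj.basicOpen 𝒜 f) (ι ⁻¹ᵁ (r ⁻¹ᵁ Proj.basicOpen 𝒜 f)) le_rfl).hom
      ((r.app (Proj.basicOpen 𝒜 f)).hom ((Proj.awayToSection 𝒜 f).hom x)) =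
    (r'.appLE (Proj.basicOpen ℬ (φ f)) (ι ⁻¹ᵁ (r ⁻¹ᵁ Proj.basicOpen 𝒜 f))
      (preimage_le_of_comm φ hφ r r' ι hcomm f)).hom
      ((Proj.awayToSection ℬ (φ f)).hom (Away.map φ f x)) := by
  have h3 : ((Proj.map φ hφ).appLE (Proj.basicOpen 𝒜 f) (Proj.basicOpen ℬ (φ f)) (by rfl)).hom
      ((Proj.awayToSection 𝒜 f).hom x) = (Proj.awayToSection ℬ (φ f)).hom (Away.map φ f x) :=
    congrArg (fun k => k.hom x) (Proj.awayToSection_comp_appLE φ hφ hf)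
  rw [← h3, Scheme.Hom.app_eq_appLE]
  have e1 := Scheme.Hom.appLE_comp_appLE ι r (Proj.basicOpen 𝒜 f) (r ⁻¹ᵁ Proj.basicOpen 𝒜 f)
    (ι ⁻¹ᵁ (r ⁻¹ᵁ Proj.basicOpen 𝒜 f)) le_rfl le_rfl
  have e2 := Scheme.Hom.appLE_comp_appLE r' (Proj.map φ hφ) (Proj.basicOpen 𝒜 f)
    (Proj.basicOpen ℬ (φ f)) (ι ⁻¹ᵁ (r ⁻¹ᵁ Proj.basicOpen 𝒜 f)) (by rfl)
    (preimage_le_of_comm φ hφ r r' ι hcomm f)
  have e3 := Groth.Agent.PullbackLocal.appLE_congr hcomm (Proj.basicOpen 𝒜 f)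
    (ι ⁻¹ᵁ (r ⁻¹ᵁ Proj.basicOpen 𝒜 f)) le_rfl
    (fun z hz => preimage_le_of_comm φ hφ r r' ι hcomm f hz)
  have key := (e1.trans e3).trans e2.symm
  exact congrArg (fun k => k.hom ((Proj.awayToSection 𝒜 f).hom x)) key

omit [GradedRing 𝒜] [GradedRing ℬ] [AddSubgroupClass σ A] [AddSubgroupClass τ B] in
theorem res_injective_of_eq {X : Scheme.{u}} {V V' : X.Opens} (h : V = V') (e : V ≤ V') :
    Function.Injective (X.presheaf.map (homOfLE e).op).hom := by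
  subst h
  have : (homOfLE e).op = 𝟙 (op V) := Quiver.Hom.unop_inj (Subsingleton.elim _ _)
  rw [this, X.presheaf.map_id]
  exact fun _ _ h => h

include hcomm in
theorem preimage_eq_of_comm (f : A) :
    ι ⁻¹ᵁ (r ⁻¹ᵁ Proj.basicOpen 𝒜 f) = r' ⁻¹ᵁ Proj.basicOpen ℬ (φ f) := by
  show (ι ≫ r) ⁻¹ᵁ Proj.basicOpen 𝒜 f = (r' ≫ Proj.map φ hφ) ⁻¹ᵁ Proj.basicOpen 𝒜 f
  rw [hcomm]

include hcomm in
/-- **Naturality of the kernel ideals** (NAT). -/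
theorem map_mem_Jfam [QuasiCompact r] [QuasiCompact r'] {f : A} {m : ℕ} (hf : f ∈ 𝒜 m)
    (hm : 0 < m) (x : Away 𝒜 f) (hx : x ∈ Jfam 𝒜 r.ker f) :
    Away.map φ f x ∈ Jfam ℬ r'.ker (φ f) := by
  rw [mem_Jfam_iff r hf hm] at hx
  refine (mem_Jfam_iff r' (f := φ f) (GradedFunLike.map_mem φ hf) hm _).mpr ?_
  have h := appLE_comm φ hφ r r' ι hcomm hf x
  rw [hx, map_zero] at h
  apply res_injective_of_eq (preimage_eq_of_comm φ hφ r r' ι hcomm f)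
    (preimage_le_of_comm φ hφ r r' ι hcomm f)
  rw [map_zero]
  exact h.symm

include hcomm in
/-- **Localisation of the kernel ideals** (LOC): if `ι` is the open immersion of the locus
`c ≠ 0` (`c` of degree zero), an element whose image lies in the kernel ideal of `r'` is, after
multiplication by a power of `c`, in the kernel ideal of `r`. -/
theorem exists_pow_mul_mem_Jfam [IsOpenImmersion ι] [IsAffineHom r] [QuasiCompact r'] (c : 𝒜 0)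
    (hι : ι.opensRange = (r ≫ Proj.toSpecZero 𝒜) ⁻¹ᵁ
      (PrimeSpectrum.basicOpen c : (Spec (CommRingCat.of (𝒜 0))).Opens))
    {f : A} {m : ℕ} (hf : f ∈ 𝒜 m) (hm : 0 < m) (x : Away 𝒜 f)
    (hx : Away.map φ f x ∈ Jfam ℬ r'.ker (φ f)) :
    ∃ N : ℕ, (fromZeroRingHom 𝒜 (Submonoid.powers f) c) ^ N * x ∈ Jfam 𝒜 r.ker f := by
  have hx' := (mem_Jfam_iff r' (f := φ f) (GradedFunLike.map_mem φ hf) hm _).mp hx
  obtain ⟨s, hs⟩ : ∃ s : Γ(Z, r ⁻¹ᵁ Proj.basicOpen 𝒜 f),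
      s = (r.app (Proj.basicOpen 𝒜 f)).hom ((Proj.awayToSection 𝒜 f).hom x) := ⟨_, rfl⟩
  obtain ⟨ρ, hρ⟩ : ∃ ρ : Γ(Z, r ⁻¹ᵁ Proj.basicOpen 𝒜 f),
      ρ = (r.app (Proj.basicOpen 𝒜 f)).hom ((Proj.awayToSection 𝒜 f).hom
        (fromZeroRingHom 𝒜 (Submonoid.powers f) c)) := ⟨_, rfl⟩
  -- step 1: `s` dies on `Z'`
  have h1 : (ι.app (r ⁻¹ᵁ Proj.basicOpen 𝒜 f)).hom s = 0 := by
    rw [Scheme.Hom.app_eq_appLE, hs, appLE_comm φ hφ r r' ι hcomm hf x]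
    show (Z'.presheaf.map _).hom ((r'.app (Proj.basicOpen ℬ (φ f))).hom _) = 0
    rw [hx', map_zero]
  -- step 2: `s` dies on the image of `Z'`
  have hle : ι ''ᵁ ι ⁻¹ᵁ (r ⁻¹ᵁ Proj.basicOpen 𝒜 f) ≤ r ⁻¹ᵁ Proj.basicOpen 𝒜 f :=
    (Scheme.Hom.image_preimage_eq_opensRange_inf ι _).le.trans inf_le_right
  have h2 : (Z.presheaf.map (homOfLE hle).op).hom s = 0 := by
    have := congrArg (fun k => k.hom s) (Scheme.Hom.app_appIso_inv ι (r ⁻¹ᵁ Proj.basicOpen 𝒜 f))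
    simp only [CommRingCat.hom_comp, RingHom.comp_apply] at this
    rw [h1, map_zero] at this
    exact this.symm
  -- step 3: the basic open of `ρ`
  have h3 : Z.basicOpen ρ = r ⁻¹ᵁ Proj.basicOpen 𝒜 f ⊓ ι.opensRange := by
    have e1 := congrArg (fun k => k.hom c) (awayToSection_fromZero 𝒜 hf hm)
    simp only [CommRingCat.hom_comp, RingHom.comp_apply, CommRingCat.hom_ofHom] at e1
    rw [hρ, e1, Scheme.Hom.app_eq_appLE]
    have e2 := congrArg (fun k => k.hom ((Scheme.ΓSpecIso (CommRingCat.of (𝒜 0))).inv.hom c))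
      (Scheme.Hom.appLE_comp_appLE r (Proj.toSpecZero 𝒜) ⊤ (Proj.basicOpen 𝒜 f)
        (r ⁻¹ᵁ Proj.basicOpen 𝒜 f) le_top le_rfl)
    simp only [CommRingCat.hom_comp, RingHom.comp_apply] at e2
    rw [e2, Scheme.basicOpen_appLE, basicOpen_eq_of_affine, hι]
  have h4 : Z.basicOpen ρ ≤ ι ''ᵁ ι ⁻¹ᵁ (r ⁻¹ᵁ Proj.basicOpen 𝒜 f) := by
    rw [h3, Scheme.Hom.image_preimage_eq_opensRange_inf, inf_comm]
  have hW : IsAffineOpen (r ⁻¹ᵁ Proj.basicOpen 𝒜 f) :=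
    (Proj.isAffineOpen_basicOpen 𝒜 f hf hm).preimage r
  have h5 : (Z.presheaf.map (homOfLE (Z.basicOpen_le ρ)).op).hom s = 0 := by
    have e : (homOfLE (Z.basicOpen_le ρ)).op = (homOfLE hle).op ≫ (homOfLE h4).op := rfl
    rw [e, Functor.map_comp]
    show (Z.presheaf.map (homOfLE h4).op).hom ((Z.presheaf.map _).hom s) = 0
    rw [h2, map_zero]
  obtain ⟨N, hN⟩ := exists_pow_mul_eq_zero_of_res_basicOpen_eq_zero_of_isAffineOpen Z hW s ρ h5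
  refine ⟨N, (mem_Jfam_iff r hf hm _).mpr ?_⟩
  rw [map_mul, map_pow, map_mul, map_pow, ← hs, ← hρ]
  exact hN

omit [GradedRing 𝒜] [GradedRing ℬ] [AddSubgroupClass σ A] [AddSubgroupClass τ B] [SetLike σ A]
  [SetLike τ B] in
theorem frac_map {f : A} {k m : ℕ} {a b : A} (ψ : A →+* B) (h : frac f m b = frac f k a) :
    frac (ψ f) m (ψ b) = frac (ψ f) k (ψ a) := by
  unfold frac at h ⊢
  rw [Localization.mk_eq_mk_iff, Localization.r_iff_exists] at h ⊢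
  obtain ⟨⟨_, N, rfl⟩, hc⟩ := h
  refine ⟨⟨ψ f ^ N, N, rfl⟩, ?_⟩
  have := congrArg ψ hc
  simpa [map_mul, map_pow] using this

include hcomm in
/-- (NAT) in terms of `InJ`. -/
theorem inJ_map [QuasiCompact r] [QuasiCompact r'] {f : A} {m : ℕ} (hf : f ∈ 𝒜 m) (hm : 0 < m)
    (g : B) (hg : φ f = g) (k : ℕ) (a : A) (h : InJ 𝒜 (Jfam 𝒜 r.ker) f k a) :
    InJ ℬ (Jfam ℬ r'.ker) g k (φ a) := by
  subst hg
  obtain ⟨z, hz, hzv⟩ := h
  refine ⟨Away.map φ f z, map_mem_Jfam φ hφ r r' ι hcomm hf hm z hz, ?_⟩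
  obtain ⟨N, b, hb, rfl⟩ := Away.mk_surjective 𝒜 hf z
  rw [Away.map_mk, val_mk_eq_frac]
  rw [val_mk_eq_frac] at hzv
  exact frac_map φ.toRingHom hzv

include hcomm in
/-- (LOC) in terms of `InJ`. -/
theorem inJ_loc [IsOpenImmersion ι] [IsAffineHom r] [QuasiCompact r'] (c : 𝒜 0)
    (hι : ι.opensRange = (r ≫ Proj.toSpecZero 𝒜) ⁻¹ᵁ
      (PrimeSpectrum.basicOpen c : (Spec (CommRingCat.of (𝒜 0))).Opens))
    {f : A} {m : ℕ} (hf : f ∈ 𝒜 m) (hm : 0 < m) (g : B) (hg : φ f = g) (k : ℕ) (a : A)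
    (ha : a ∈ 𝒜 (k • m)) (h : InJ ℬ (Jfam ℬ r'.ker) g k (φ a)) :
    ∃ N : ℕ, InJ 𝒜 (Jfam 𝒜 r.ker) f k ((c : A) ^ N * a) := by
  subst hg
  have h1 : Away.map φ f (Away.mk 𝒜 hf k a ha) ∈ Jfam ℬ r'.ker (φ f) := by
    rw [Away.map_mk]
    exact mk_mem_of_inJ ℬ _ (GradedFunLike.map_mem φ hf) (GradedFunLike.map_mem φ ha) h
  obtain ⟨N, hN⟩ := exists_pow_mul_mem_Jfam φ hφ r r' ι hcomm c hι hf hm _ h1
  refine ⟨N, _, hN, ?_⟩
  rw [HomogeneousLocalization.val_mul, HomogeneousLocalization.val_pow, val_mk_eq_frac]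
  have h2 : (fromZeroRingHom 𝒜 (Submonoid.powers f) c).val =
      Localization.mk (c : A) (1 : Submonoid.powers f) := rfl
  rw [h2]
  unfold frac
  rw [Localization.mk_pow, Localization.mk_mul, one_pow, one_mul]

end Nat

section Big
variable {A σ : Type u} [CommRing A] [SetLike σ A] [AddSubgroupClass σ A] (𝒜 : ℕ → σ)
  [GradedRing 𝒜] (J : ∀ f : A, Ideal (Away 𝒜 f))

open DirectSum

theorem inJ_pow_mul {f : A} (hf : f ∈ 𝒜 1) {c : A} (hc : c ∈ 𝒜 0) {k : ℕ} {x : A} (m : ℕ)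
    (h : InJ 𝒜 J f k x) : InJ 𝒜 J f k (c ^ m * x) := by
  have hb : c ^ m ∈ 𝒜 (0 • 1) := by
    have := SetLike.pow_mem_graded m hc
    simpa using this
  have := inJ_mul 𝒜 J hf (m := 0) (n := k) hb h
  rwa [zero_add] at this

theorem exists_pow_mul_mem_bigIdeal (s : Finset A) (hs : ∀ f ∈ (s : Set A), f ∈ 𝒜 1) {c : A}
    (hc : c ∈ 𝒜 0) (a : A)
    (h : ∀ k : ℕ, ∀ f ∈ s, ∃ N : ℕ, InJ 𝒜 J f k (c ^ N * (decompose 𝒜 a k : A))) :
    ∃ N : ℕ, c ^ N * a ∈ bigIdeal 𝒜 J (s : Set A) hs := by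
  classical
  have hA : ∀ k : ℕ, ∃ N : ℕ, c ^ N * (decompose 𝒜 a k : A) ∈ bigIdeal 𝒜 J (s : Set A) hs := by
    intro k
    have : ∃ N : ℕ, ∀ f ∈ s, InJ 𝒜 J f k (c ^ N * (decompose 𝒜 a k : A)) := by
      choose! N hN using h k
      refine ⟨s.sup N, fun f hf => ?_⟩
      have hle : N f ≤ s.sup N := Finset.le_sup hf
      obtain ⟨m, hm⟩ := Nat.exists_eq_add_of_le hle
      rw [hm, add_comm, pow_add, mul_assoc]
      exact inJ_pow_mul 𝒜 J (hs f hf) hc m (hN f hf)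
    obtain ⟨N, hN⟩ := this
    refine ⟨N, (mem_bigIdeal_of_homogeneous 𝒜 J hs (k := k) ?_).mpr
      (fun f hf => hN f (Finset.mem_coe.mp hf))⟩
    have h1 : c ^ N ∈ 𝒜 0 := by simpa using SetLike.pow_mem_graded N hc
    have := SetLike.mul_mem_graded h1 (SetLike.coe_mem (decompose 𝒜 a k))
    rwa [zero_add] at this
  choose N hN using hA
  refine ⟨(decompose 𝒜 a).support.sup N, ?_⟩
  have ha : c ^ (decompose 𝒜 a).support.sup N * a =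
      ∑ k ∈ (decompose 𝒜 a).support, c ^ (decompose 𝒜 a).support.sup N *
        (decompose 𝒜 a k : A) := by
    rw [← Finset.mul_sum, DirectSum.sum_support_decompose 𝒜 a]
  rw [ha]
  refine Ideal.sum_mem _ fun k hk => ?_
  obtain ⟨m, hm⟩ := Nat.exists_eq_add_of_le (Finset.le_sup hk : N k ≤ _)
  rw [hm, add_comm, pow_add, mul_assoc]
  exact Ideal.mul_mem_left _ _ (hN k)

end Big

end Groth.Agent.ProjKer
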