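import Mathlib
import Groth.Prelude
import Groth.Agent.Lib.PnOver_helper5
import Groth.Agent.Lib.ProjKer_helper5

/-!
# A closed subscheme of `P^n_S`, over the affine opens of `S`  (helper5)
APPEND-ONLY once landed.
-/

set_option autoImplicit false
universe u
open CategoryTheory CategoryTheory.Limits AlgebraicGeometry TopologicalSpace Opposite

noncomputable section

namespace Groth.Agent.HProj

open CohB1 Groth.Agent.ProjBCn Groth.Agent.PnOver

variable {X S : Scheme.{u}} (n : ℕ) (i : X ⟶ ProjSpaceOver n S)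

/-- The structure morphism of `X`. -/
abbrev fmap : X ⟶ S := i ≫ ProjSpaceOver.toBase n S

theorem range_sub (U : S.Opens) (hU : IsAffineOpen U) :
    Set.range ((fmap n i ⁻¹ᵁ U).ι ≫ i) ⊆ Set.range (sigma n U hU) := by
  rintro _ ⟨x, rfl⟩
  have h : ((fmap n i ⁻¹ᵁ U).ι ≫ i) x ∈ (sigma n U hU).opensRange := by
    rw [opensRange_sigma]
    exact x.2
  exact h

/-- The part of `X` over the affine open `U`, as a subscheme of `P^n_{Γ(S,U)}`. -/
def rU (U : S.Opens) (hU : IsAffineOpen U) :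
    (fmap n i ⁻¹ᵁ U).toScheme ⟶ ProjSpace n Γ(S, U) :=
  IsOpenImmersion.lift (sigma n U hU) ((fmap n i ⁻¹ᵁ U).ι ≫ i) (range_sub n i U hU)

theorem rU_sigma (U : S.Opens) (hU : IsAffineOpen U) :
    rU n i U hU ≫ sigma n U hU = (fmap n i ⁻¹ᵁ U).ι ≫ i :=
  IsOpenImmersion.lift_fac _ _ _

theorem rU_over (U : S.Opens) (hU : IsAffineOpen U) :
    rU n i U hU ≫ ProjSpace.toSpec n Γ(S, U) ≫ hU.fromSpec = (fmap n i ⁻¹ᵁ U).ι ≫ fmap n i := by
  rw [← sigma_toBase, ← Category.assoc, rU_sigma, Category.assoc]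

theorem rU_res {U V : S.Opens} (hU : IsAffineOpen U) (hV : IsAffineOpen V) (h : V ≤ U) :
    X.homOfLE ((fmap n i).preimage_mono h) ≫ rU n i U hU =
      rU n i V hV ≫ projMapH n (S.presheaf.map (homOfLE h).op).hom := by
  rw [← cancel_mono (sigma n U hU), Category.assoc, Category.assoc, rU_sigma, sigma_res n hU hV h,
    rU_sigma, Scheme.homOfLE_ι_assoc]

theorem isPullback_rU (U : S.Opens) (hU : IsAffineOpen U) :
    IsPullback (rU n i U hU) (fmap n i ⁻¹ᵁ U).ι (sigma n U hU) i := by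
  refine IsOpenImmersion.isPullback _ _ _ _ (rU_sigma n i U hU).symm ?_
  rw [opensRange_sigma, Scheme.Opens.opensRange_ι]
  rfl

instance isClosedImmersion_rU [IsClosedImmersion i] (U : S.Opens) (hU : IsAffineOpen U) :
    IsClosedImmersion (rU n i U hU) :=
  MorphismProperty.of_isPullback (isPullback_rU n i U hU).flip inferInstance

/-- `rU` with target written as a `Proj`. -/
def rP (U : S.Opens) (hU : IsAffineOpen U) :
    (fmap n i ⁻¹ᵁ U).toScheme ⟶ Proj (polyGrading n Γ(S, U)) := rU n i U hU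

instance isClosedImmersion_rP [IsClosedImmersion i] (U : S.Opens) (hU : IsAffineOpen U) :
    IsClosedImmersion (rP n i U hU) := isClosedImmersion_rU n i U hU

theorem rP_res {U V : S.Opens} (hU : IsAffineOpen U) (hV : IsAffineOpen V) (h : V ≤ U) :
    X.homOfLE ((fmap n i).preimage_mono h) ≫ rP n i U hU =
      rP n i V hV ≫ Proj.map (polyMapH n (S.presheaf.map (homOfLE h).op).hom)
        (polyMapH_irr n (S.presheaf.map (homOfLE h).op).hom) :=
  rU_res n i hU hV h

section Ideal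
variable [IsClosedImmersion i]

open Groth.Agent.Lib.ProjClosed_helper3 Groth.Agent.ProjKer

/-- The generators `T₀, …, Tₙ`. -/
def gens (A : Type u) [CommRing A] : Finset (MvPolynomial (Fin (n + 1)) A) :=
  (Set.finite_range (MvPolynomial.X : Fin (n + 1) → MvPolynomial (Fin (n + 1)) A)).toFinset

theorem mem_gens_iff (A : Type u) [CommRing A] (f : MvPolynomial (Fin (n + 1)) A) :
    f ∈ gens n A ↔ ∃ j : Fin (n + 1), MvPolynomial.X j = f := by
  unfold gens
  rw [Set.Finite.mem_toFinset]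
  rfl

theorem X_mem_gens (A : Type u) [CommRing A] (j : Fin (n + 1)) :
    (MvPolynomial.X j : MvPolynomial (Fin (n + 1)) A) ∈ gens n A :=
  (mem_gens_iff n A _).mpr ⟨j, rfl⟩

theorem gens_deg (A : Type u) [CommRing A] :
    ∀ f ∈ (gens n A : Set (MvPolynomial (Fin (n + 1)) A)), f ∈ polyGrading n A 1 := by
  intro f hf
  obtain ⟨j, rfl⟩ := (mem_gens_iff n A f).mp (Finset.mem_coe.mp hf)
  exact MvPolynomial.isHomogeneous_X A j

theorem gens_span (A : Type u) [CommRing A] :
    (HomogeneousIdeal.irrelevant (polyGrading n A)).toIdeal =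
      Ideal.span (gens n A : Set (MvPolynomial (Fin (n + 1)) A)) := by
  apply le_antisymm
  · refine (Groth.Agent.ProjGamma5.irrelevant_le_span n A).trans (Ideal.span_mono ?_)
    rintro _ ⟨j, rfl⟩
    exact Finset.mem_coe.mpr (X_mem_gens n A j)
  · rw [Ideal.span_le]
    intro f hf
    exact HomogeneousIdeal.mem_irrelevant_of_mem _ one_pos (gens_deg n A f hf)

/-- The homogeneous ideal of `X ∩ P^n_U` in `Γ(S,U)[T₀..Tₙ]`. -/
def idealU (U : S.Opens) (hU : IsAffineOpen U) : Ideal (MvPolynomial (Fin (n + 1)) Γ(S, U)) :=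
  bigIdeal (polyGrading n Γ(S, U)) (Jfam (polyGrading n Γ(S, U)) (rP n i U hU).ker)
    (gens n Γ(S, U) : Set (MvPolynomial (Fin (n + 1)) Γ(S, U))) (gens_deg n Γ(S, U))

theorem idealU_isHomogeneous (U : S.Opens) (hU : IsAffineOpen U) :
    (idealU n i U hU).IsHomogeneous (polyGrading n Γ(S, U)) :=
  bigIdeal_isHomogeneous _ _ _ _

/-- (N1) the ideals are compatible with restriction. -/
theorem idealU_le_comap {U V : S.Opens} (hU : IsAffineOpen U) (hV : IsAffineOpen V) (h : V ≤ U) :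
    idealU n i U hU ≤
      (idealU n i V hV).comap (MvPolynomial.map (S.presheaf.map (homOfLE h).op).hom) := by
  intro a ha
  rw [Ideal.mem_comap]
  refine (mem_bigIdeal_iff _ _ _).mpr fun k g hg => ?_
  obtain ⟨j, rfl⟩ := (mem_gens_iff n _ g).mp (Finset.mem_coe.mp hg)
  have h1 := (mem_bigIdeal_iff _ _ _).mp ha k (MvPolynomial.X j)
    (Finset.mem_coe.mpr (X_mem_gens n Γ(S, U) j))
  have h2 := inJ_map (polyMapH n (S.presheaf.map (homOfLE h).op).hom)
    (polyMapH_irr n (S.presheaf.map (homOfLE h).op).hom) (rP n i U hU) (rP n i V hV)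
    (X.homOfLE ((fmap n i).preimage_mono h)) (rP_res n i hU hV h)
    (MvPolynomial.isHomogeneous_X Γ(S, U) j : MvPolynomial.X j ∈ polyGrading n Γ(S, U) 1) one_pos
    (MvPolynomial.X j) (MvPolynomial.map_X _ j) k _ h1
  rw [GradedRingHom.map_directSumDecompose] at h2
  exact h2

/-- `r`, as a homogeneous element of degree zero. -/
def cZero {U : S.Opens} (r : Γ(S, U)) : polyGrading n Γ(S, U) 0 :=
  ⟨MvPolynomial.C r, MvPolynomial.isHomogeneous_C _ r⟩

omit [IsClosedImmersion i] in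
theorem opensRange_homOfLE_eq (U : S.Opens) (hU : IsAffineOpen U) (r : Γ(S, U)) :
    (X.homOfLE ((fmap n i).preimage_mono (S.basicOpen_le r))).opensRange =
      (rP n i U hU ≫ Proj.toSpecZero (polyGrading n Γ(S, U))) ⁻¹ᵁ
        (PrimeSpectrum.basicOpen (cZero n r) :
          (Spec (CommRingCat.of (polyGrading n Γ(S, U) 0))).Opens) := by
  rw [Scheme.opensRange_homOfLE]
  have h1 : (fmap n i ⁻¹ᵁ U).ι ≫ fmap n i =
      (rP n i U hU ≫ Proj.toSpecZero (polyGrading n Γ(S, U))) ≫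
        Spec.map (CommRingCat.ofHom (algebraMap Γ(S, U) (polyGrading n Γ(S, U) 0))) ≫
          hU.fromSpec := by
    rw [← rU_over n i U hU]
    simp only [Category.assoc]
    rfl
  show ((fmap n i ⁻¹ᵁ U).ι ≫ fmap n i) ⁻¹ᵁ S.basicOpen r = _
  rw [h1]
  show (rP n i U hU ≫ Proj.toSpecZero (polyGrading n Γ(S, U))) ⁻¹ᵁ
    (Spec.map (CommRingCat.ofHom (algebraMap Γ(S, U) (polyGrading n Γ(S, U) 0))) ⁻¹ᵁ
      (hU.fromSpec ⁻¹ᵁ S.basicOpen r)) = _
  rw [hU.fromSpec_preimage_basicOpen]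
  rfl

/-- (N2) the ideals localise. -/
theorem idealU_loc (U : S.Opens) (hU : IsAffineOpen U) (r : Γ(S, U))
    (a : MvPolynomial (Fin (n + 1)) Γ(S, U))
    (ha : MvPolynomial.map (S.presheaf.map (homOfLE (S.basicOpen_le r)).op).hom a ∈
      idealU n i (S.basicOpen r) (hU.basicOpen r)) :
    ∃ N : ℕ, MvPolynomial.C r ^ N * a ∈ idealU n i U hU := by
  refine exists_pow_mul_mem_bigIdeal (polyGrading n Γ(S, U)) _ (gens n Γ(S, U)) (gens_deg n Γ(S, U))
    (MvPolynomial.isHomogeneous_C _ r) a (fun k f hf => ?_)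
  obtain ⟨j, rfl⟩ := (mem_gens_iff n _ f).mp hf
  have h1 := (mem_bigIdeal_iff _ _ _).mp ha k (MvPolynomial.X j)
    (Finset.mem_coe.mpr (X_mem_gens n _ j))
  have hak : ((DirectSum.decompose (polyGrading n Γ(S, U)) a k :
      polyGrading n Γ(S, U) k) : MvPolynomial (Fin (n + 1)) Γ(S, U)) ∈
      polyGrading n Γ(S, U) (k • 1) := by
    rw [smul_eq_mul, mul_one]
    exact SetLike.coe_mem _
  refine inJ_loc (polyMapH n (S.presheaf.map (homOfLE (S.basicOpen_le r)).op).hom)
    (polyMapH_irr n (S.presheaf.map (homOfLE (S.basicOpen_le r)).op).hom) (rP n i U hU)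
    (rP n i (S.basicOpen r) (hU.basicOpen r))
    (X.homOfLE ((fmap n i).preimage_mono (S.basicOpen_le r)))
    (rP_res n i hU (hU.basicOpen r) (S.basicOpen_le r)) (cZero n r)
    (opensRange_homOfLE_eq n i U hU r)
    (MvPolynomial.isHomogeneous_X Γ(S, U) j : MvPolynomial.X j ∈ polyGrading n Γ(S, U) 1) one_pos
    (MvPolynomial.X j) (MvPolynomial.map_X _ j) k _ hak ?_
  rw [GradedRingHom.map_directSumDecompose]
  exact h1

end Ideal

end Groth.Agent.HProj
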