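import Mathlib
import Groth.Prelude

/-!
# Quotients of affine-local ring data by compatible ideals  (helper5)
APPEND-ONLY once landed.
-/

set_option autoImplicit false
universe u
open CategoryTheory CategoryTheory.Limits AlgebraicGeometry TopologicalSpace Opposite

noncomputable section

namespace Groth.Agent.QCQuot

section Alg

/-- A quotient of a localisation away from `r` is a localisation of the quotient away from the
image of `r`, provided the ideals correspond up to `r`-torsion. -/
theorem isLocalization_away_quot {R R' : Type u} [CommRing R] [CommRing R'] (φ : R →+* R') (r : R)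
    (hloc : letI := φ.toAlgebra; IsLocalization.Away r R')
    (I : Ideal R) (I' : Ideal R') (hI : I ≤ I'.comap φ)
    (hker : ∀ a : R, φ a ∈ I' → ∃ N : ℕ, r ^ N * a ∈ I) :
    letI := (Ideal.quotientMap I' φ hI).toAlgebra
    IsLocalization.Away (Ideal.Quotient.mk I r) (R' ⧸ I') := by
  letI := φ.toAlgebra
  letI := (Ideal.quotientMap I' φ hI).toAlgebra
  haveI : IsLocalization.Away r R' := hloc
  have hmap : ∀ x : R ⧸ I, algebraMap (R ⧸ I) (R' ⧸ I') x = Ideal.quotientMap I' φ hI x :=
    fun _ => rfl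
  have hφ : ∀ x : R, algebraMap R R' x = φ x := fun _ => rfl
  refine (isLocalization_iff (M := Submonoid.powers (Ideal.Quotient.mk I r))
    (S := R' ⧸ I')).mpr ⟨?_, ?_, ?_⟩
  · rintro ⟨_, k, rfl⟩
    rw [hmap, map_pow, Ideal.quotientMap_mk]
    exact ((IsLocalization.Away.algebraMap_isUnit (S := R') r).map (Ideal.Quotient.mk I')).pow k
  · intro z
    obtain ⟨z', rfl⟩ := Ideal.Quotient.mk_surjective z
    obtain ⟨⟨a, ⟨_, k, rfl⟩⟩, hak⟩ := IsLocalization.surj (Submonoid.powers r) z'
    refine ⟨⟨Ideal.Quotient.mk I a, ⟨Ideal.Quotient.mk I r ^ k, k, rfl⟩⟩, ?_⟩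
    simp only at hak ⊢
    rw [hmap, hmap, map_pow, Ideal.quotientMap_mk, Ideal.quotientMap_mk, ← map_pow, ← map_mul]
    rw [hφ, hφ] at hak
    rw [map_pow] at hak
    rw [hak]
  · intro x y hxy
    obtain ⟨a, rfl⟩ := Ideal.Quotient.mk_surjective x
    obtain ⟨b, rfl⟩ := Ideal.Quotient.mk_surjective y
    rw [hmap, hmap, Ideal.quotientMap_mk, Ideal.quotientMap_mk, Ideal.Quotient.eq, ← map_sub] at hxy
    obtain ⟨N, hN⟩ := hker _ hxy
    refine ⟨⟨Ideal.Quotient.mk I r ^ N, N, rfl⟩, ?_⟩
    simp only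
    rw [← map_pow, ← map_mul, ← map_mul, Ideal.Quotient.eq, ← mul_sub]
    exact hN

end Alg

section Functor
variable {J : Type*} [Category J] (P : J ⥤ CommRingCat.{u}) (I : ∀ j, Ideal (P.obj j))
  (hI : ∀ {j k : J} (f : j ⟶ k), I j ≤ (I k).comap (P.map f).hom)

/-- The quotient of a diagram of rings by a compatible family of ideals. -/
def quotFunctor : J ⥤ CommRingCat.{u} where
  obj j := CommRingCat.of (P.obj j ⧸ I j)
  map f := CommRingCat.ofHom (Ideal.quotientMap (I _) (P.map f).hom (hI f))
  map_id j := by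
    refine CommRingCat.hom_ext (Ideal.Quotient.ringHom_ext (RingHom.ext fun x => ?_))
    show Ideal.quotientMap (I j) (P.map (𝟙 j)).hom (hI (𝟙 j)) (Ideal.Quotient.mk (I j) x) =
      Ideal.Quotient.mk (I j) x
    rw [Ideal.quotientMap_mk, P.map_id]
    rfl
  map_comp {j k l} f g := by
    refine CommRingCat.hom_ext (Ideal.Quotient.ringHom_ext (RingHom.ext fun x => ?_))
    show Ideal.quotientMap (I l) (P.map (f ≫ g)).hom (hI (f ≫ g)) (Ideal.Quotient.mk (I j) x) =
      Ideal.quotientMap (I l) (P.map g).hom (hI g)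
        (Ideal.quotientMap (I k) (P.map f).hom (hI f) (Ideal.Quotient.mk (I j) x))
    rw [Ideal.quotientMap_mk, Ideal.quotientMap_mk, Ideal.quotientMap_mk, P.map_comp]
    rfl

/-- The quotient maps. -/
def quotNat : P ⟶ quotFunctor P I hI where
  app j := CommRingCat.ofHom (Ideal.Quotient.mk (I j))
  naturality j k f := by
    refine CommRingCat.hom_ext (RingHom.ext fun x => ?_)
    show Ideal.Quotient.mk (I k) ((P.map f).hom x) =
      Ideal.quotientMap (I k) (P.map f).hom (hI f) (Ideal.Quotient.mk (I j) x)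
    rw [Ideal.quotientMap_mk]

theorem quotFunctor_map_mk {j k : J} (f : j ⟶ k) (x : P.obj j) :
    ((quotFunctor P I hI).map f).hom (Ideal.Quotient.mk (I j) x) =
      Ideal.Quotient.mk (I k) ((P.map f).hom x) :=
  Ideal.quotientMap_mk (H := hI f)

theorem quotNat_app (j : J) (x : P.obj j) :
    ((quotNat P I hI).app j).hom x = Ideal.Quotient.mk (I j) x := rfl

end Functor

section Site
variable {S : Scheme.{u}} {P : S.AffineZariskiSiteᵒᵖ ⥤ CommRingCat.{u}}
  {α : (Scheme.AffineZariskiSite.toOpensFunctor S).op ⋙ S.presheaf ⟶ P}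
  (I : ∀ j, Ideal (P.obj j))
  (hI : ∀ {j k : S.AffineZariskiSiteᵒᵖ} (f : j ⟶ k), I j ≤ (I k).comap (P.map f).hom)

/-- The quotient of a quasi-coherent algebra (as affine-local data) by ideals which localise
well is again quasi-coherent. -/
theorem coequifibered_quot (hα : α.Coequifibered)
    (hloc : ∀ (U : S.AffineZariskiSite) (r : Γ(S, U.1)) (a : P.obj (op U)),
      (P.map (homOfLE (U.basicOpen_le r)).op).hom a ∈ I (op (U.basicOpen r)) →
        ∃ N : ℕ, (α.app (op U)).hom r ^ N * a ∈ I (op U)) :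
    (α ≫ quotNat P I hI).Coequifibered := by
  refine Scheme.AffineZariskiSite.coequifibered_iff_forall_isLocalizationAway.mpr fun U r => ?_
  have h1 := Scheme.AffineZariskiSite.coequifibered_iff_forall_isLocalizationAway.mp hα U r
  exact isLocalization_away_quot (P.map (homOfLE (U.basicOpen_le r)).op).hom
    ((α.app (op U)).hom r) h1 (I (op U)) (I (op (U.basicOpen r)))
    (hI (homOfLE (U.basicOpen_le r)).op) (hloc U r)

end Site

end Groth.Agent.QCQuot
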