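import Mathlib
import Groth.Prelude
import Groth.Agent.Lib.HProj1_helper5
import Groth.Agent.Lib.QCQuot_helper5
import Groth.Agent.Lib.QCPoly_helper5

/-!
# The graded algebra of a closed subscheme of `P^n_S`  (helper5)
APPEND-ONLY once landed.
-/

set_option autoImplicit false
universe u
open CategoryTheory CategoryTheory.Limits AlgebraicGeometry TopologicalSpace Opposite

noncomputable section

namespace Groth.Agent.HProj

open CohB1 Groth.Agent.ProjBCn Groth.Agent.PnOver Groth.Agent.QCPoly Groth.Agent.QCQuot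
open Groth.Agent.Lib.GradedQuot_helper3 Groth.Agent.Lib.ProjClosed_helper3

variable {X S : Scheme.{u}} (n : ℕ) (i : X ⟶ ProjSpaceOver n S) [IsClosedImmersion i]

variable (S) in
/-- The structure presheaf on the affine opens. -/
abbrev OS : S.AffineZariskiSiteᵒᵖ ⥤ CommRingCat.{u} :=
  (Scheme.AffineZariskiSite.toOpensFunctor S).op ⋙ S.presheaf

variable (S) in
/-- `U ↦ Γ(S,U)[T₀..Tₙ]`. -/
abbrev PS : S.AffineZariskiSiteᵒᵖ ⥤ CommRingCat.{u} := OS S ⋙ polyFunctor n

variable (S) in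
/-- The structure map `Γ(S,U) → Γ(S,U)[T]`. -/
abbrev αP : OS S ⟶ PS S n := polyStr n (OS S) (𝟙 (OS S))

variable (S) in
theorem coequifibered_αP : (αP S n).Coequifibered :=
  coequifibered_polyStr n (NatTrans.Coequifibered.of_isIso (𝟙 (OS S)))

/-- The family of ideals. -/
def idealJ (j : S.AffineZariskiSiteᵒᵖ) : Ideal ((PS S n).obj j) :=
  idealU n i j.unop.1 j.unop.2

theorem idealJ_le {j k : S.AffineZariskiSiteᵒᵖ} (f : j ⟶ k) :
    idealJ n i j ≤ (idealJ n i k).comap ((PS S n).map f).hom :=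
  idealU_le_comap n i j.unop.2 k.unop.2
    (Scheme.AffineZariskiSite.toOpens_mono (leOfHom f.unop))

theorem idealJ_loc (U : S.AffineZariskiSite) (r : Γ(S, U.1)) (a : (PS S n).obj (op U))
    (ha : ((PS S n).map (homOfLE (U.basicOpen_le r)).op).hom a ∈ idealJ n i (op (U.basicOpen r))) :
    ∃ N : ℕ, ((αP S n).app (op U)).hom r ^ N * a ∈ idealJ n i (op U) :=
  idealU_loc n i U.1 U.2 r a ha

/-- The functor `U ↦ Γ(S,U)[T]/I_U`. -/
def FQ : S.AffineZariskiSiteᵒᵖ ⥤ CommRingCat.{u} :=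
  quotFunctor (PS S n) (idealJ n i) (fun f => idealJ_le n i f)

/-- The structure map of `FQ`. -/
def αQ : OS S ⟶ FQ n i :=
  αP S n ≫ quotNat (PS S n) (idealJ n i) (fun f => idealJ_le n i f)

theorem coequifibered_αQ : (αQ n i).Coequifibered :=
  coequifibered_quot (idealJ n i) (fun f => idealJ_le n i f) (coequifibered_αP S n)
    (idealJ_loc n i)

section Grading

/-- The type of the homogeneous pieces of `Γ(S,U)[T]/I_U`. -/
def sigQ (U : S.AffineZariskiSite) : Type u :=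
  Submodule Γ(S, U.1) (MvPolynomial (Fin (n + 1)) Γ(S, U.1) ⧸ idealU n i U.1 U.2)

instance sigQ_setLike (U : S.AffineZariskiSite) :
    SetLike (sigQ n i U) ((FQ n i).obj (op U)) :=
  inferInstanceAs (SetLike
    (Submodule Γ(S, U.1) (MvPolynomial (Fin (n + 1)) Γ(S, U.1) ⧸ idealU n i U.1 U.2))
    (MvPolynomial (Fin (n + 1)) Γ(S, U.1) ⧸ idealU n i U.1 U.2))

instance sigQ_addSubgroupClass (U : S.AffineZariskiSite) :
    AddSubgroupClass (sigQ n i U) ((FQ n i).obj (op U)) :=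
  inferInstanceAs (AddSubgroupClass
    (Submodule Γ(S, U.1) (MvPolynomial (Fin (n + 1)) Γ(S, U.1) ⧸ idealU n i U.1 U.2))
    (MvPolynomial (Fin (n + 1)) Γ(S, U.1) ⧸ idealU n i U.1 U.2))

/-- The grading of `Γ(S,U)[T]/I_U`. -/
def grQ (U : S.AffineZariskiSite) : ℕ → sigQ n i U :=
  quotGrading (polyGrading n Γ(S, U.1)) (idealU n i U.1 U.2)

instance grQ_gradedRing (U : S.AffineZariskiSite) : GradedRing (grQ n i U) :=
  quotGradedAlgebra (polyGrading n Γ(S, U.1)) (idealU n i U.1 U.2)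
    (idealU_isHomogeneous n i U.1 U.2)

/-- The quotient map `Γ(S,U)[T] → Γ(S,U)[T]/I_U` as a graded homomorphism. -/
def qHom (U : S.AffineZariskiSite) : polyGrading n Γ(S, U.1) →+*ᵍ grQ n i U :=
  quotGradedHom (polyGrading n Γ(S, U.1)) (idealU n i U.1 U.2)

theorem qHom_apply (U : S.AffineZariskiSite) (a : MvPolynomial (Fin (n + 1)) Γ(S, U.1)) :
    qHom n i U a = Ideal.Quotient.mk (idealU n i U.1 U.2) a := rfl

theorem qHom_surjective (U : S.AffineZariskiSite) : Function.Surjective (qHom n i U) :=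
  Ideal.Quotient.mk_surjective

theorem qHom_irr (U : S.AffineZariskiSite) :
    HomogeneousIdeal.irrelevant (grQ n i U) ≤
      (HomogeneousIdeal.irrelevant (polyGrading n Γ(S, U.1))).map (qHom n i U) :=
  irrelevant_le_map_of_surjective _ (qHom_surjective n i U)

theorem grQ_hmap {U V : S.AffineZariskiSite} (j : V ⟶ U) {d : ℕ}
    {x : (FQ n i).obj (op U)} (hx : x ∈ grQ n i U d) :
    ((FQ n i).map j.op).hom x ∈ grQ n i V d := by
  obtain ⟨a, ha, rfl⟩ := exists_of_mem_quotGrading (polyGrading n Γ(S, U.1))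
    (idealU n i U.1 U.2) hx
  have h1 : ((FQ n i).map j.op).hom (Ideal.Quotient.mk (idealU n i U.1 U.2) a) =
      Ideal.Quotient.mk (idealU n i V.1 V.2) (((PS S n).map j.op).hom a) :=
    quotFunctor_map_mk (PS S n) (idealJ n i) (fun f => idealJ_le n i f) j.op a
  rw [h1]
  exact mk_mem_quotGrading (polyGrading n Γ(S, V.1)) (idealU n i V.1 V.2)
    (polyGr_hmap n (OS S) j ha)

theorem grQ_hstr (U : S.AffineZariskiSite) (r : Γ(S, U.1)) :
    ((αQ n i).app (op U)).hom r ∈ grQ n i U 0 :=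
  mk_mem_quotGrading (polyGrading n Γ(S, U.1)) (idealU n i U.1 U.2)
    (MvPolynomial.isHomogeneous_C _ r)

/-- The quasi-coherent graded algebra `O_S[T₀..Tₙ]/ℐ_X`. -/
def algQ : RelProj.QCGrAlg S :=
  Groth.Agent.QCCons.grAlg (coequifibered_αQ n i) (grQ n i)
    (fun j _ _ hx => grQ_hmap n i j hx) (grQ_hstr n i)

theorem grQ_gen (U : S.AffineZariskiSite) :
    Subring.closure ((grQ n i U 0 : Set ((FQ n i).obj (op U))) ∪
      (grQ n i U 1 : Set ((FQ n i).obj (op U)))) = ⊤ := by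
  rw [eq_top_iff]
  rintro x -
  obtain ⟨a, rfl⟩ := Ideal.Quotient.mk_surjective
    (I := idealU n i U.1 U.2) (x : MvPolynomial (Fin (n + 1)) Γ(S, U.1) ⧸ idealU n i U.1 U.2)
  have h1 := polyGr_gen n (OS S) U
  have h2 : (a : (PS S n).obj (op U)) ∈ Subring.closure
      ((polyGr n (OS S) U 0 : Set ((PS S n).obj (op U))) ∪
        (polyGr n (OS S) U 1 : Set ((PS S n).obj (op U)))) := by
    rw [h1]
    trivial
  obtain ⟨K, hK⟩ : ∃ K : Subring (MvPolynomial (Fin (n + 1)) Γ(S, U.1) ⧸ idealU n i U.1 U.2),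
      K = Subring.closure ((grQ n i U 0 : Set ((FQ n i).obj (op U))) ∪
      (grQ n i U 1 : Set ((FQ n i).obj (op U)))) := ⟨_, rfl⟩
  show Ideal.Quotient.mk (idealU n i U.1 U.2) a ∈ _
  rw [← hK]
  refine Subring.closure_induction (p := fun y _ => Ideal.Quotient.mk (idealU n i U.1 U.2) y ∈ K)
    ?_ ?_ ?_ ?_ ?_ ?_ h2
  · intro y hy
    rw [hK]
    refine Subring.subset_closure ?_
    rcases hy with hy | hy
    · exact Or.inl (mk_mem_quotGrading (polyGrading n Γ(S, U.1)) (idealU n i U.1 U.2) hy)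
    · exact Or.inr (mk_mem_quotGrading (polyGrading n Γ(S, U.1)) (idealU n i U.1 U.2) hy)
  · rw [map_zero]; exact zero_mem K
  · rw [map_one]; exact one_mem K
  · intro y z _ _ hy hz
    rw [map_add]; exact add_mem hy hz
  · intro y _ hy
    rw [map_neg]; exact neg_mem hy
  · intro y z _ _ hy hz
    rw [map_mul]; exact mul_mem hy hz

theorem algQ_gen : (algQ n i).IsGenDegOne :=
  Groth.Agent.QCCons.isGenDegOne_grAlg _ _ _ _ (grQ_gen n i)

theorem grQ_ft_aux (U : S.AffineZariskiSite) :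
    ∃ T : Finset (MvPolynomial (Fin (n + 1)) Γ(S, U.1) ⧸ idealU n i U.1 U.2),
      (↑T : Set (MvPolynomial (Fin (n + 1)) Γ(S, U.1) ⧸ idealU n i U.1 U.2)) ⊆
        (quotGrading (polyGrading n Γ(S, U.1)) (idealU n i U.1 U.2) 1 : Set _) ∧
        ∀ x ∈ quotGrading (polyGrading n Γ(S, U.1)) (idealU n i U.1 U.2) 1,
          ∃ c : (MvPolynomial (Fin (n + 1)) Γ(S, U.1) ⧸ idealU n i U.1 U.2) → Γ(S, U.1),
            x = ∑ t ∈ T, Ideal.Quotient.mk (idealU n i U.1 U.2) (MvPolynomial.C (c t)) * t := by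
  obtain ⟨T, hT⟩ : ∃ T : Finset (MvPolynomial (Fin (n + 1)) Γ(S, U.1) ⧸ idealU n i U.1 U.2),
      T = (Set.finite_range (fun j : Fin (n + 1) =>
        Ideal.Quotient.mk (idealU n i U.1 U.2) (MvPolynomial.X j))).toFinset := ⟨_, rfl⟩
  have hTc : (↑T : Set (MvPolynomial (Fin (n + 1)) Γ(S, U.1) ⧸ idealU n i U.1 U.2)) =
      Set.range (fun j : Fin (n + 1) =>
        Ideal.Quotient.mk (idealU n i U.1 U.2) (MvPolynomial.X j)) := by
    rw [hT]
    exact Set.Finite.coe_toFinset _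
  refine ⟨T, ?_, fun x hx => ?_⟩
  · intro t ht
    rw [hTc] at ht
    obtain ⟨j, rfl⟩ := ht
    exact mk_mem_quotGrading (polyGrading n Γ(S, U.1)) (idealU n i U.1 U.2)
      (MvPolynomial.isHomogeneous_X _ j)
  · have hx' : x ∈ Submodule.map (Ideal.Quotient.mkₐ Γ(S, U.1) (idealU n i U.1 U.2)).toLinearMap
        (MvPolynomial.homogeneousSubmodule (Fin (n + 1)) Γ(S, U.1) 1) := hx
    rw [MvPolynomial.homogeneousSubmodule_one_eq_span_X, Submodule.map_span, ← Set.range_comp] at hx'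
    have hx2 : x ∈ Submodule.span Γ(S, U.1)
        (↑T : Set (MvPolynomial (Fin (n + 1)) Γ(S, U.1) ⧸ idealU n i U.1 U.2)) := by
      rw [hTc]
      exact hx'
    obtain ⟨c, -, hc⟩ := Submodule.mem_span_finset.mp hx2
    refine ⟨c, ?_⟩
    rw [← hc]
    refine Finset.sum_congr rfl fun t _ => ?_
    exact (Algebra.smul_def (c t) t).trans rfl

theorem grQ_ft (U : S.AffineZariskiSite) :
    ∃ T : Finset ((FQ n i).obj (op U)),
      (↑T : Set ((FQ n i).obj (op U))) ⊆ (grQ n i U 1 : Set _) ∧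
        ∀ x ∈ grQ n i U 1, ∃ c : (FQ n i).obj (op U) → Γ(S, U.1),
          x = ∑ t ∈ T, ((αQ n i).app (op U)).hom (c t) * t :=
  grQ_ft_aux n i U

theorem algQ_ft : (algQ n i).IsFTDeg 1 :=
  Groth.Agent.QCCons.isFTDeg_grAlg _ _ _ _ 1 (grQ_ft n i)

end Grading

end Groth.Agent.HProj
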