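import Mathlib
import Groth.Prelude
import Groth.Agent.Lib.HProj2_helper5

/-!
# H-projective morphisms are projective  (helper5)
APPEND-ONLY once landed.
-/

set_option autoImplicit false
universe u
open CategoryTheory CategoryTheory.Limits AlgebraicGeometry TopologicalSpace Opposite

noncomputable section

namespace Groth.Agent.HProj

open CohB1 Groth.Agent.ProjBCn Groth.Agent.PnOver Groth.Agent.QCPoly Groth.Agent.QCQuot
open Groth.Agent.Lib.GradedQuot_helper3 Groth.Agent.Lib.ProjClosed_helper3 Groth.Agent.QCCons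

variable {X S : Scheme.{u}} (n : ℕ) (i : X ⟶ ProjSpaceOver n S) [IsClosedImmersion i]

theorem exists_chart (U : S.AffineZariskiSite) :
    ∃ e : (fmap n i ⁻¹ᵁ U.1).toScheme ≅ Proj (grQ n i U),
      e.hom ≫ Proj.map (qHom n i U) (qHom_irr n i U) = rP n i U.1 U.2 := by
  have hJ : Compat (polyGrading n Γ(S, U.1))
      (Jfam (polyGrading n Γ(S, U.1)) (rP n i U.1 U.2).ker) :=
    fun f g x hf hg hx => Jfam_compat (polyGrading n Γ(S, U.1)) (rP n i U.1 U.2).ker hf one_pos hg hx
  have hker : ∀ a, qHom n i U a = 0 ↔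
      a ∈ bigIdeal (polyGrading n Γ(S, U.1)) (Jfam (polyGrading n Γ(S, U.1)) (rP n i U.1 U.2).ker)
        (gens n Γ(S, U.1) : Set (MvPolynomial (Fin (n + 1)) Γ(S, U.1))) (gens_deg n Γ(S, U.1)) :=
    fun a => quotGradedHom_eq_zero_iff (polyGrading n Γ(S, U.1)) (idealU n i U.1 U.2) a
  exact exists_iso_of_ker_eq (polyGrading n Γ(S, U.1)) (grQ n i U) (qHom n i U)
    (qHom_surjective n i U) (qHom_irr n i U) (gens n Γ(S, U.1))
    (fun f hf => gens_deg n Γ(S, U.1) f (Finset.mem_coe.mpr hf)) (gens_span n Γ(S, U.1))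
    (rP n i U.1 U.2)
    (fun f hf => ker_away_map_eq (polyGrading n Γ(S, U.1)) _ hJ (gens n Γ(S, U.1))
      (gens_deg n Γ(S, U.1)) (qHom n i U) hker hf)

/-- The chart `f⁻¹U ≅ Proj (Γ(S,U)[T]/I_U)`. -/
def chartQ (U : S.AffineZariskiSite) : (fmap n i ⁻¹ᵁ U.1).toScheme ≅ Proj (grQ n i U) :=
  (exists_chart n i U).choose

theorem chartQ_spec (U : S.AffineZariskiSite) :
    (chartQ n i U).hom ≫ Proj.map (qHom n i U) (qHom_irr n i U) = rP n i U.1 U.2 :=
  (exists_chart n i U).choose_spec

theorem toSpecZero_strZeroF (U : S.AffineZariskiSite) :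
    Proj.toSpecZero (grQ n i U) ≫ Spec.map (strZeroF (grQ n i) (grQ_hstr n i) U) =
      Proj.map (qHom n i U) (qHom_irr n i U) ≫ ProjSpace.toSpec n Γ(S, U.1) := by
  have h1 := Groth.Agent.Lib.ProjMap_helper3.map_toSpecZero _ _ (qHom n i U) (qHom_irr n i U)
  have h2 : strZeroF (grQ n i) (grQ_hstr n i) U =
      CommRingCat.ofHom (algebraMap Γ(S, U.1) (polyGrading n Γ(S, U.1) 0)) ≫
        CommRingCat.ofHom (qHom n i U).gradedZeroRingHom := by
    ext r
    rfl
  rw [h2]
  refine (congrArg (fun q => Proj.toSpecZero (grQ n i U) ≫ q) (Spec.map_comp _ _)).trans ?_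
  refine (Category.assoc _ _ _).symm.trans ?_
  refine (congrArg (fun q => q ≫ Spec.map (CommRingCat.ofHom
    (algebraMap Γ(S, U.1) (polyGrading n Γ(S, U.1) 0)))) h1.symm).trans ?_
  exact Category.assoc _ _ _

theorem chartQ_over (U : S.AffineZariskiSite) :
    (chartQ n i U).hom ≫ Proj.toSpecZero (grQ n i U) ≫
      Spec.map (strZeroF (grQ n i) (grQ_hstr n i) U) ≫ U.2.fromSpec =
      (fmap n i ⁻¹ᵁ U.1).ι ≫ fmap n i := by
  have h1 := toSpecZero_strZeroF n i U
  have h2 := chartQ_spec n i U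
  have h3 := rU_over n i U.1 U.2
  calc (chartQ n i U).hom ≫ Proj.toSpecZero (grQ n i U) ≫
      Spec.map (strZeroF (grQ n i) (grQ_hstr n i) U) ≫ U.2.fromSpec
      = (chartQ n i U).hom ≫ (Proj.toSpecZero (grQ n i U) ≫
          Spec.map (strZeroF (grQ n i) (grQ_hstr n i) U)) ≫ U.2.fromSpec := by
        simp only [Category.assoc]
    _ = (chartQ n i U).hom ≫ (Proj.map (qHom n i U) (qHom_irr n i U) ≫
          ProjSpace.toSpec n Γ(S, U.1)) ≫ U.2.fromSpec := by rw [h1]
    _ = ((chartQ n i U).hom ≫ Proj.map (qHom n i U) (qHom_irr n i U)) ≫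
          ProjSpace.toSpec n Γ(S, U.1) ≫ U.2.fromSpec := by simp only [Category.assoc]
    _ = (fmap n i ⁻¹ᵁ U.1).ι ≫ fmap n i := by
        rw [h2]
        exact h3

theorem resF_comp_qHom (U : S.AffineZariskiSite) (r : Γ(S, U.1))
    (hmap : ∀ {U V : S.AffineZariskiSite} (j : V ⟶ U) {d : ℕ} {x : (FQ n i).obj (op U)},
      x ∈ grQ n i U d → ((FQ n i).map j.op).hom x ∈ grQ n i V d) :
    (resF (grQ n i) hmap U r).comp (qHom n i U) =
      (qHom n i (U.basicOpen r)).comp
        (polyMapH n (S.presheaf.map (homOfLE (S.basicOpen_le r)).op).hom) := by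
  refine GradedRingHom.ext fun a => ?_
  exact quotFunctor_map_mk (PS S n) (idealJ n i) (fun f => idealJ_le n i f)
    (homOfLE (U.basicOpen_le r)).op a

theorem chartQ_res (U : S.AffineZariskiSite) (r : Γ(S, U.1))
    (hmap : ∀ {U V : S.AffineZariskiSite} (j : V ⟶ U) {d : ℕ} {x : (FQ n i).obj (op U)},
      x ∈ grQ n i U d → ((FQ n i).map j.op).hom x ∈ grQ n i V d)
    (hirr : HomogeneousIdeal.irrelevant (grQ n i (U.basicOpen r)) ≤
      (HomogeneousIdeal.irrelevant (grQ n i U)).map (resF (grQ n i) hmap U r)) :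
    X.homOfLE ((fmap n i).preimage_mono (S.basicOpen_le r)) ≫ (chartQ n i U).hom =
      (chartQ n i (U.basicOpen r)).hom ≫ Proj.map (resF (grQ n i) hmap U r) hirr := by
  haveI : IsClosedImmersion (Proj.map (qHom n i U) (qHom_irr n i U)) :=
    Groth.Agent.Lib.ProjMap_helper3.map_isClosedImmersion _ _ (qHom n i U) (qHom_surjective n i U)
      (qHom_irr n i U)
  have h2 := chartQ_spec n i U
  have h3 := chartQ_spec n i (U.basicOpen r)
  have h4 := rP_res n i U.2 (U.basicOpen r).2 (S.basicOpen_le r)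
  have hc := resF_comp_qHom n i U r hmap
  have e1 : (X.homOfLE ((fmap n i).preimage_mono (S.basicOpen_le r)) ≫ (chartQ n i U).hom) ≫
      Proj.map (qHom n i U) (qHom_irr n i U) =
      rP n i (U.basicOpen r).1 (U.basicOpen r).2 ≫
        Proj.map (polyMapH n (S.presheaf.map (homOfLE (S.basicOpen_le r)).op).hom)
          (polyMapH_irr n (S.presheaf.map (homOfLE (S.basicOpen_le r)).op).hom) :=
    (Category.assoc _ _ _).trans
      ((congrArg (fun q => X.homOfLE ((fmap n i).preimage_mono (S.basicOpen_le r)) ≫ q) h2).trans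
        h4)
  have e2 : Proj.map (resF (grQ n i) hmap U r) hirr ≫ Proj.map (qHom n i U) (qHom_irr n i U) =
      Proj.map (qHom n i (U.basicOpen r)) (qHom_irr n i (U.basicOpen r)) ≫
        Proj.map (polyMapH n (S.presheaf.map (homOfLE (S.basicOpen_le r)).op).hom)
          (polyMapH_irr n (S.presheaf.map (homOfLE (S.basicOpen_le r)).op).hom) :=
    (Proj.map_comp (qHom n i U) (resF (grQ n i) hmap U r) (qHom_irr n i U) hirr).symm.trans
      ((projMap_congr hc _ _).trans
        (Proj.map_comp (polyMapH n (S.presheaf.map (homOfLE (S.basicOpen_le r)).op).hom)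
          (qHom n i (U.basicOpen r))
          (polyMapH_irr n (S.presheaf.map (homOfLE (S.basicOpen_le r)).op).hom)
          (qHom_irr n i (U.basicOpen r))))
  have e3 : ((chartQ n i (U.basicOpen r)).hom ≫ Proj.map (resF (grQ n i) hmap U r) hirr) ≫
      Proj.map (qHom n i U) (qHom_irr n i U) =
      rP n i (U.basicOpen r).1 (U.basicOpen r).2 ≫
        Proj.map (polyMapH n (S.presheaf.map (homOfLE (S.basicOpen_le r)).op).hom)
          (polyMapH_irr n (S.presheaf.map (homOfLE (S.basicOpen_le r)).op).hom) :=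
    (Category.assoc _ _ _).trans
      ((congrArg (fun q => (chartQ n i (U.basicOpen r)).hom ≫ q) e2).trans
        ((Category.assoc _ _ _).symm.trans
          (congrArg (fun q => q ≫
            Proj.map (polyMapH n (S.presheaf.map (homOfLE (S.basicOpen_le r)).op).hom)
              (polyMapH_irr n (S.presheaf.map (homOfLE (S.basicOpen_le r)).op).hom)) h3)))
  exact (cancel_mono (Proj.map (qHom n i U) (qHom_irr n i U))).mp (e1.trans e3.symm)

/-- A closed subscheme of `P^n_S` is projective over `S`. -/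
theorem isProjective_fmap : RelProj.IsProjective (fmap n i) :=
  ⟨algQ n i, X, fmap n i, _, Iso.refl X, algQ_gen n i, algQ_ft n i,
    isRelProj_grAlg _ _ _ _ (fmap n i) (chartQ n i) (chartQ_over n i)
      (fun U r => chartQ_res n i U r _ _), Category.id_comp _⟩

omit [IsClosedImmersion i] in
/-- **An H-projective morphism is projective.** -/
theorem isProjective_of_isHProjective (f : X ⟶ S) (hf : RelProj.IsHProjective f) :
    RelProj.IsProjective f := by
  obtain ⟨n, i, hi, rfl⟩ := hf
  haveI : IsClosedImmersion i := hi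
  exact isProjective_fmap n i

end Groth.Agent.HProj
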