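import Mathlib
import Groth.Prelude.Def_GrMod3

/-!
# Sections of `M(n)~` over `D_+(f)` for gradings by additive subgroups (`GrMod`), and exactness (helper1)
Port of `ProjSect_helper1` / `GrAnn_helper1` to the `GrMod` definitions.
-/

namespace Groth.Agent.Lib.GrModSectH1

universe u

open CategoryTheory CategoryTheory.Limits AlgebraicGeometry Opposite TopologicalSpace DirectSum

section
variable {A σ : Type u} [CommRing A] [SetLike σ A] [AddSubgroupClass σ A] (𝒜 : ℕ → σ) [GradedRing 𝒜]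
    {M τ : Type u} [AddCommGroup M] [Module A M] [SetLike τ M] [AddSubgroupClass τ M]
    (ℳ : ℕ → τ) [SetLike.GradedSMul 𝒜 ℳ] [DirectSum.Decomposition ℳ]

theorem proj_smul (m : M) (i : ℕ) (hm : m ∈ ℳ i) (j : ℕ) (r : A) :
    ((DirectSum.decompose 𝒜 r j : A)) • m = (DirectSum.decompose ℳ (r • m) (j + i) : M) := by
  induction r using DirectSum.Decomposition.inductionOn 𝒜 with
  | zero => simp
  | @homogeneous l r' =>
    have hmem : (r' : A) • m ∈ ℳ (l + i) := by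
      have := SetLike.GradedSMul.smul_mem (A := 𝒜) (B := ℳ) r'.2 hm
      simpa [vadd_eq_add] using this
    by_cases hl : l = j
    · subst hl
      rw [DirectSum.decompose_of_mem_same 𝒜 r'.2, DirectSum.decompose_of_mem_same ℳ hmem]
    · rw [DirectSum.decompose_of_mem_ne 𝒜 r'.2 hl, zero_smul,
        DirectSum.decompose_of_mem_ne ℳ hmem (by omega)]
  | add a b ha hb =>
    simp only [DirectSum.decompose_add, DirectSum.add_apply, AddMemClass.coe_add, add_smul, ha, hb]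

theorem ann_homogeneous (m : M) (i : ℕ) (hm : m ∈ ℳ i) :
    ((Submodule.span A {m}).annihilator).IsHomogeneous 𝒜 := by
  intro j r hr
  rw [Submodule.mem_annihilator_span_singleton] at hr ⊢
  rw [proj_smul 𝒜 ℳ m i hm, hr]
  simp

theorem mem_radical_of_cover {d : ℕ} (hd : 0 < d) {f : A} (hf : f ∈ 𝒜 d) (I : Ideal A)
    (hI : I.IsHomogeneous 𝒜)
    (hcov : ∀ P : ProjectiveSpectrum 𝒜, f ∉ P.asHomogeneousIdeal →
      ¬ (I ≤ P.asHomogeneousIdeal.toIdeal)) :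
    f ∈ I.radical := by
  by_contra hfrad
  rw [hI.radical_eq, Ideal.mem_sInf] at hfrad
  push Not at hfrad
  obtain ⟨P, ⟨hPh, hIP, hPp⟩, hfP⟩ := hfrad
  have hfirr : f ∈ HomogeneousIdeal.irrelevant 𝒜 := by
    rw [HomogeneousIdeal.mem_irrelevant_iff]
    show ((DirectSum.decompose 𝒜 f 0 : 𝒜 0) : A) = 0
    exact DirectSum.decompose_of_mem_ne 𝒜 hf (by omega)
  exact hcov ⟨⟨P, hPh⟩, hPp, fun hle => hfP (hle hfirr)⟩ hfP hIP

theorem pow_smul_eq_zero' {d : ℕ} (hd : 0 < d) {g : A} (hg : g ∈ 𝒜 d) (i : ℕ) (w : M)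
    (hw : w ∈ ℳ i)
    (h : ∀ P : ProjectiveSpectrum 𝒜, g ∉ P.asHomogeneousIdeal →
      ∃ u : A, u ∉ P.asHomogeneousIdeal ∧ u • w = 0) :
    ∃ N : ℕ, g ^ N • w = 0 := by
  have hI := ann_homogeneous 𝒜 ℳ w i hw
  have hrad : g ∈ ((Submodule.span A {w}).annihilator).radical := by
    apply mem_radical_of_cover 𝒜 hd hg _ hI
    intro P hP hle
    obtain ⟨u, huP, hu⟩ := h P hP
    apply huP
    apply hle
    rw [Submodule.mem_annihilator_span_singleton]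
    exact hu
  obtain ⟨N, hN⟩ := hrad
  rw [Submodule.mem_annihilator_span_singleton] at hN
  exact ⟨N, hN⟩

theorem proj_smul' {e : ℕ} {a : A} (ha : a ∈ 𝒜 e) (z : M) (i : ℕ) :
    (DirectSum.decompose ℳ (a • z) (e + i) : M) = a • (DirectSum.decompose ℳ z i : M) := by
  induction z using DirectSum.Decomposition.inductionOn ℳ with
  | zero => simp
  | @homogeneous l z' =>
    have hmem : a • (z' : M) ∈ ℳ (e + l) := by
      simpa [vadd_eq_add] using SetLike.GradedSMul.smul_mem (A := 𝒜) (B := ℳ) ha z'.2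
    by_cases hl : l = i
    · subst hl
      rw [DirectSum.decompose_of_mem_same ℳ hmem, DirectSum.decompose_of_mem_same ℳ z'.2]
    · rw [DirectSum.decompose_of_mem_ne ℳ hmem (by omega),
        DirectSum.decompose_of_mem_ne ℳ z'.2 hl, smul_zero]
  | add a b ha hb =>
    simp only [smul_add, DirectSum.decompose_add, DirectSum.add_apply, AddMemClass.coe_add, ha, hb]

theorem local_frac (n : ℤ) {d : ℕ} (hd : 0 < d) {f : A} (hf : f ∈ 𝒜 d)
    (s : GrMod.sect 𝒜 ℳ n (op (ProjectiveSpectrum.basicOpen 𝒜 f)))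
    (x : ProjectiveSpectrum.basicOpen 𝒜 f) :
    ∃ (e i : ℕ) (h : A) (m : M), h ∈ 𝒜 e ∧ m ∈ ℳ i ∧ (i : ℤ) = e + n ∧ 0 < e ∧
      h ∉ x.1.asHomogeneousIdeal ∧
      (∀ P : ProjectiveSpectrum 𝒜, h ∉ P.asHomogeneousIdeal → f ∉ P.asHomogeneousIdeal) ∧
      ∀ (P : ProjectiveSpectrum.basicOpen 𝒜 f) (hP : h ∉ P.1.asHomogeneousIdeal),
        ((s.1 P : GrMod.tildeAt 𝒜 ℳ n P.1) : GrMod.LocMod 𝒜 (M := M) P.1) =
          LocalizedModule.mk m ⟨h, hP⟩ := by
  obtain ⟨V, hxV, iV, i, j, ⟨a, ha⟩, ⟨t, ht⟩, nin, cond, w⟩ := s.2 x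
  obtain ⟨_, ⟨r, rfl⟩, hxr, hrV⟩ :=
    (ProjectiveSpectrum.isTopologicalBasis_basic_opens 𝒜).exists_subset_of_mem_open hxV V.2
  have hxr' : r ∉ x.1.asHomogeneousIdeal := hxr
  obtain ⟨l, hl⟩ : ∃ l, (DirectSum.decompose 𝒜 r l : A) ∉ x.1.asHomogeneousIdeal := by
    by_contra hcon
    push Not at hcon
    exact hxr' ((x.1.asHomogeneousIdeal.isHomogeneous.mem_iff).mpr hcon)
  have hrl : (DirectSum.decompose 𝒜 r l : A) ∈ 𝒜 l := (DirectSum.decompose 𝒜 r l).2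
  have hsub : ∀ P : ProjectiveSpectrum 𝒜, (DirectSum.decompose 𝒜 r l : A) ∉ P.asHomogeneousIdeal →
      P ∈ V := by
    intro P hP
    apply hrV
    show r ∉ P.asHomogeneousIdeal
    intro hr
    exact hP ((P.asHomogeneousIdeal.isHomogeneous.mem_iff).mp hr l)
  generalize (DirectSum.decompose 𝒜 r l : A) = rl at hl hrl hsub
  have hfx : f ∉ x.1.asHomogeneousIdeal := x.2
  have htx : t ∉ x.1.asHomogeneousIdeal := nin ⟨x.1, hxV⟩
  have hval : ∀ (P : ProjectiveSpectrum.basicOpen 𝒜 f) (hPV : P.1 ∈ V),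
      ((s.1 P : GrMod.tildeAt 𝒜 ℳ n P.1) : GrMod.LocMod 𝒜 (M := M) P.1) =
        LocalizedModule.mk a ⟨t, nin ⟨P.1, hPV⟩⟩ := fun P hPV => w ⟨P.1, hPV⟩
  rcases cond with hc | hc
  · replace hc : (i : ℤ) = j + n := hc
    refine ⟨l + d + j, l + d + i, rl * f * t, (rl * f) • a, ?_, ?_, ?_, by omega, ?_, ?_, ?_⟩
    · exact SetLike.mul_mem_graded (SetLike.mul_mem_graded hrl hf) ht
    · have := SetLike.GradedSMul.smul_mem (A := 𝒜) (B := ℳ) (SetLike.mul_mem_graded hrl hf) ha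
      simpa [vadd_eq_add] using this
    · push_cast
      omega
    · intro hmem
      rcases x.1.isPrime.mem_or_mem hmem with h1 | h1
      · rcases x.1.isPrime.mem_or_mem h1 with h2 | h2
        · exact hl h2
        · exact hfx h2
      · exact htx h1
    · intro P hP hfP
      exact hP (Ideal.mul_mem_right _ _ (Ideal.mul_mem_left _ _ hfP))
    · intro P hP
      have hrlP : rl ∉ P.1.asHomogeneousIdeal := fun h =>
        hP (Ideal.mul_mem_right _ _ (Ideal.mul_mem_right _ _ h))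
      rw [hval P (hsub P.1 hrlP), LocalizedModule.mk_eq]
      refine ⟨1, ?_⟩
      simp only [one_smul]
      show (rl * f * t) • a = t • (rl * f) • a
      rw [smul_smul]
      congr 1
      ring
  · replace hc : a = 0 := hc
    have hq : n.natAbs ≤ (1 + n.natAbs) * d :=
      calc n.natAbs ≤ (1 + n.natAbs) * 1 := by omega
        _ ≤ (1 + n.natAbs) * d := Nat.mul_le_mul_left _ hd
    have hq1 : d ≤ (1 + n.natAbs) * d := Nat.le_mul_of_pos_left _ (by omega)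
    generalize hqq : (1 + n.natAbs) * d = q at hq hq1
    have hnn : 0 ≤ ((l + q + j : ℕ) : ℤ) + n := by
      push_cast
      omega
    refine ⟨l + q + j, (((l + q + j : ℕ) : ℤ) + n).toNat, rl * f ^ (1 + n.natAbs) * t, 0, ?_,
      zero_mem _, ?_, by omega, ?_, ?_, ?_⟩
    · rw [← hqq]
      have := SetLike.pow_mem_graded (1 + n.natAbs) hf
      rw [smul_eq_mul] at this
      exact SetLike.mul_mem_graded (SetLike.mul_mem_graded hrl this) ht
    · rw [Int.toNat_of_nonneg hnn]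
    · intro hmem
      rcases x.1.isPrime.mem_or_mem hmem with h1 | h1
      · rcases x.1.isPrime.mem_or_mem h1 with h2 | h2
        · exact hl h2
        · exact hfx (x.1.isPrime.mem_of_pow_mem _ h2)
      · exact htx h1
    · intro P hP hfP
      apply hP
      apply Ideal.mul_mem_right
      apply Ideal.mul_mem_left
      rw [add_comm 1, pow_succ']
      exact Ideal.mul_mem_right _ _ hfP
    · intro P hP
      have hrlP : rl ∉ P.1.asHomogeneousIdeal := fun h =>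
        hP (Ideal.mul_mem_right _ _ (Ideal.mul_mem_right _ _ h))
      rw [hval P (hsub P.1 hrlP), LocalizedModule.mk_eq]
      refine ⟨1, ?_⟩
      simp [hc]

theorem sections_basicOpen (n : ℤ) {d : ℕ} (hd : 0 < d) {f : A} (hf : f ∈ 𝒜 d)
    (s : GrMod.sect 𝒜 ℳ n (op (ProjectiveSpectrum.basicOpen 𝒜 f))) :
    ∃ (k i : ℕ) (m : ℳ i), (i : ℤ) = k * d + n ∧
      ∀ x : ProjectiveSpectrum.basicOpen 𝒜 f,
        ((s.1 x : GrMod.tildeAt 𝒜 ℳ n x.1) : GrMod.LocMod 𝒜 (M := M) x.1) =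
          (LocalizedModule.mk m.1 ⟨f ^ k, fun h => (ProjectiveSpectrum.mem_basicOpen 𝒜 f x.1).mp x.2
            (x.1.isPrime.mem_of_pow_mem k h)⟩ : GrMod.LocMod 𝒜 (M := M) x.1) := by
  classical
  choose e i h m he hm hdeg hepos hx hfh hval using local_frac 𝒜 ℳ n hd hf s
  have hI : (Ideal.span (Set.range h)).IsHomogeneous 𝒜 :=
    Ideal.homogeneous_span 𝒜 _ (by rintro _ ⟨x, rfl⟩; exact ⟨e x, he x⟩)
  have hfI : f ∈ (Ideal.span (Set.range h)).radical := by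
    apply mem_radical_of_cover 𝒜 hd hf _ hI
    intro P hP hle
    exact hx ⟨P, hP⟩ (hle (Ideal.subset_span ⟨⟨P, hP⟩, rfl⟩))
  obtain ⟨K, hK⟩ := hfI
  rw [Ideal.span, Finsupp.mem_span_range_iff_exists_finsupp] at hK
  obtain ⟨c, hc⟩ := hK
  have hcov0 : ∀ P : ProjectiveSpectrum.basicOpen 𝒜 f,
      ∃ y ∈ c.support, h y ∉ P.1.asHomogeneousIdeal := by
    intro P
    by_contra hcon
    push Not at hcon
    have hmem : f ^ K ∈ P.1.asHomogeneousIdeal.toIdeal := by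
      rw [← hc]
      refine Ideal.sum_mem _ fun y hy => ?_
      exact Ideal.mul_mem_left _ _ (hcon y hy)
    exact P.2 (P.1.isPrime.mem_of_pow_mem K hmem)
  have hN : ∀ x y : ProjectiveSpectrum.basicOpen 𝒜 f,
      ∃ N : ℕ, (h x * h y) ^ N • (h y • m x - h x • m y) = 0 := by
    intro x y
    have hw : h y • m x - h x • m y ∈ ℳ (e y + i x) := by
      have h1 : h y • m x ∈ ℳ (e y + i x) := by
        simpa [vadd_eq_add] using SetLike.GradedSMul.smul_mem (A := 𝒜) (B := ℳ) (he y) (hm x)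
      have h2 : h x • m y ∈ ℳ (e x + i y) := by
        simpa [vadd_eq_add] using SetLike.GradedSMul.smul_mem (A := 𝒜) (B := ℳ) (he x) (hm y)
      have heq : e x + i y = e y + i x := by
        have := hdeg x
        have := hdeg y
        omega
      rw [heq] at h2
      exact sub_mem h1 h2
    have hpos : 0 < e x + e y := by
      have := hepos x
      omega
    have hxy : h x * h y ∈ 𝒜 (e x + e y) := SetLike.mul_mem_graded (he x) (he y)
    apply pow_smul_eq_zero' 𝒜 ℳ hpos hxy (e y + i x) _ hw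
    intro P hP
    have hPx : h x ∉ P.asHomogeneousIdeal := fun hh => hP (Ideal.mul_mem_right _ _ hh)
    have hPy : h y ∉ P.asHomogeneousIdeal := fun hh => hP (Ideal.mul_mem_left _ _ hh)
    have hPf : f ∉ P.asHomogeneousIdeal := hfh x P hPx
    have e1 := hval x ⟨P, hPf⟩ hPx
    have e2 := hval y ⟨P, hPf⟩ hPy
    rw [e1, LocalizedModule.mk_eq] at e2
    obtain ⟨u, hu⟩ := e2
    refine ⟨u.1, u.2, ?_⟩
    rw [smul_sub, sub_eq_zero]
    exact hu
  choose Nf hNf using hN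
  obtain ⟨N, hNdef⟩ : ∃ N, N = (c.support ×ˢ c.support).sup (fun p => Nf p.1 p.2) := ⟨_, rfl⟩
  have hNu : ∀ x ∈ c.support, ∀ y ∈ c.support,
      (h x * h y) ^ N • (h y • m x - h x • m y) = 0 := by
    intro x hx' y hy'
    have hle : Nf x y ≤ N := by
      rw [hNdef]
      exact Finset.le_sup (f := fun p : _ × _ => Nf p.1 p.2) (b := (x, y))
        (Finset.mem_product.mpr ⟨hx', hy'⟩)
    obtain ⟨q, hq⟩ := Nat.exists_eq_add_of_le hle
    rw [hq, pow_add, mul_comm, mul_smul, hNf, smul_zero]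
  have hcompat : ∀ x ∈ c.support, ∀ y ∈ c.support,
      (h y) ^ (N + 1) • ((h x) ^ N • m x) = (h x) ^ (N + 1) • ((h y) ^ N • m y) := by
    intro x hx' y hy'
    have h3 := hNu x hx' y hy'
    rw [smul_sub, sub_eq_zero] at h3
    calc (h y) ^ (N + 1) • ((h x) ^ N • m x) = (h x * h y) ^ N • h y • m x := by
          simp only [smul_smul]
          congr 1
          ring
      _ = (h x * h y) ^ N • h x • m y := h3
      _ = (h x) ^ (N + 1) • ((h y) ^ N • m y) := by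
          simp only [smul_smul]
          congr 1
          ring
  let h2 : c.support → A := fun y => h y.1 ^ (N + 1)
  have hI2 : (Ideal.span (Set.range h2)).IsHomogeneous 𝒜 :=
    Ideal.homogeneous_span 𝒜 _ (by
      rintro _ ⟨y, rfl⟩
      exact ⟨(N + 1) • e y.1, SetLike.pow_mem_graded (N + 1) (he y.1)⟩)
  have hf2 : f ∈ (Ideal.span (Set.range h2)).radical := by
    apply mem_radical_of_cover 𝒜 hd hf _ hI2
    intro P hP hle
    obtain ⟨y, hy, hyP⟩ := hcov0 ⟨P, hP⟩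
    exact hyP (P.isPrime.mem_of_pow_mem (N + 1) (hle (Ideal.subset_span ⟨⟨y, hy⟩, rfl⟩)))
  obtain ⟨K', hK'⟩ := hf2
  obtain ⟨b, hb⟩ := (Submodule.mem_span_range_iff_exists_fun A).mp hK'
  simp only [smul_eq_mul] at hb
  obtain ⟨mt, hmtdef⟩ : ∃ mt : M, mt = ∑ y : c.support,
      (f ^ n.natAbs * b y) • ((h y.1) ^ N • m y.1) := ⟨_, rfl⟩
  have hmt : ∀ y : c.support,
      (h y.1) ^ (N + 1) • mt = f ^ (K' + n.natAbs) • ((h y.1) ^ N • m y.1) := by
    intro y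
    rw [hmtdef, Finset.smul_sum]
    have hterm : ∀ x : c.support, (h y.1) ^ (N + 1) • (f ^ n.natAbs * b x) •
        ((h x.1) ^ N • m x.1) = (f ^ n.natAbs * (b x * h2 x)) • ((h y.1) ^ N • m y.1) := by
      intro x
      rw [smul_comm, hcompat x.1 x.2 y.1 y.2, smul_smul]
      simp only [h2, mul_assoc]
    simp only [hterm]
    rw [← Finset.sum_smul, ← Finset.mul_sum, hb, ← pow_add, add_comm]
  have hnn : 0 ≤ (((K' + n.natAbs) * d : ℕ) : ℤ) + n := by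
    have hq : n.natAbs ≤ (K' + n.natAbs) * d :=
      calc n.natAbs ≤ (K' + n.natAbs) * 1 := by omega
        _ ≤ (K' + n.natAbs) * d := Nat.mul_le_mul_left _ hd
    generalize (K' + n.natAbs) * d = q at hq
    omega
  obtain ⟨i0, hi0⟩ : ∃ i0 : ℕ, (i0 : ℤ) = (((K' + n.natAbs) * d : ℕ) : ℤ) + n :=
    ⟨_, Int.toNat_of_nonneg hnn⟩
  have hm0 : ∀ y : c.support, (h y.1) ^ (N + 1) • (DirectSum.decompose ℳ mt i0 : M) =
      f ^ (K' + n.natAbs) • ((h y.1) ^ N • m y.1) := by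
    intro y
    have hpow : (h y.1) ^ (N + 1) ∈ 𝒜 ((N + 1) • e y.1) := SetLike.pow_mem_graded (N + 1) (he y.1)
    rw [← proj_smul' 𝒜 ℳ hpow mt i0, hmt y]
    apply DirectSum.decompose_of_mem_same
    have h1 : (h y.1) ^ N • m y.1 ∈ ℳ (N • e y.1 + i y.1) := by
      simpa [vadd_eq_add] using SetLike.GradedSMul.smul_mem (A := 𝒜) (B := ℳ)
        (SetLike.pow_mem_graded N (he y.1)) (hm y.1)
    have h2' : f ^ (K' + n.natAbs) • ((h y.1) ^ N • m y.1) ∈
        ℳ ((K' + n.natAbs) • d + (N • e y.1 + i y.1)) := by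
      simpa [vadd_eq_add] using SetLike.GradedSMul.smul_mem (A := 𝒜) (B := ℳ)
        (SetLike.pow_mem_graded (K' + n.natAbs) hf) h1
    have hidx : (K' + n.natAbs) • d + (N • e y.1 + i y.1) = (N + 1) • e y.1 + i0 := by
      have h5 : (((K' + n.natAbs) • d + (N • e y.1 + i y.1) : ℕ) : ℤ) =
          (((N + 1) • e y.1 + i0 : ℕ) : ℤ) := by
        push_cast [smul_eq_mul]
        rw [hdeg y.1, hi0]
        push_cast
        ring
      exact_mod_cast h5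
    rw [← hidx]
    exact h2'
  refine ⟨K' + n.natAbs, i0, ⟨(DirectSum.decompose ℳ mt i0 : M), (DirectSum.decompose ℳ mt i0).2⟩,
    ?_, fun P => ?_⟩
  · rw [hi0]
    push_cast
    ring
  · obtain ⟨y, hy, hyP⟩ := hcov0 P
    rw [hval y P hyP, LocalizedModule.mk_eq]
    refine ⟨⟨h y ^ N, fun hmem => hyP (P.1.isPrime.mem_of_pow_mem N hmem)⟩, ?_⟩
    show h y ^ N • f ^ (K' + n.natAbs) • m y = h y ^ N • h y • (DirectSum.decompose ℳ mt i0 : M)
    rw [smul_smul (h y ^ N) (h y), ← pow_succ, hm0 ⟨y, hy⟩, smul_comm]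


omit [SetLike.GradedSMul 𝒜 ℳ] [DirectSum.Decomposition ℳ] [AddSubgroupClass τ M] in
theorem mk_mem_tildeAt (n : ℤ) (P : ProjectiveSpectrum 𝒜) (i j : ℕ) (w : M) (hw : w ∈ ℳ i) (t : A)
    (ht : t ∈ 𝒜 j) (hij : (i : ℤ) = j + n) (hg : t ∉ P.asHomogeneousIdeal) :
    (LocalizedModule.mk w ⟨t, hg⟩ : GrMod.LocMod 𝒜 (M := M) P) ∈ GrMod.tildeAt 𝒜 ℳ n P := by
  unfold GrMod.tildeAt
  exact Submodule.subset_span ⟨i, j, ⟨w, hw⟩, ⟨t, ht⟩, hg, hij, rfl⟩

end

section exact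
variable {A σ : Type u} [CommRing A] [SetLike σ A] [AddSubgroupClass σ A] (𝒜 : ℕ → σ)
    [GradedRing 𝒜] {M₁ τ₁ : Type u} [AddCommGroup M₁] [Module A M₁] [SetLike τ₁ M₁] [AddSubgroupClass τ₁ M₁]
    (ℳ₁ : ℕ → τ₁) [SetLike.GradedSMul 𝒜 ℳ₁] [DirectSum.Decomposition ℳ₁]
    {M₂ τ₂ : Type u} [AddCommGroup M₂] [Module A M₂] [SetLike τ₂ M₂] [AddSubgroupClass τ₂ M₂]
    (ℳ₂ : ℕ → τ₂) [SetLike.GradedSMul 𝒜 ℳ₂] [DirectSum.Decomposition ℳ₂]
    {M₃ τ₃ : Type u} [AddCommGroup M₃] [Module A M₃] [SetLike τ₃ M₃] [AddSubgroupClass τ₃ M₃]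
    (ℳ₃ : ℕ → τ₃) [SetLike.GradedSMul 𝒜 ℳ₃] [DirectSum.Decomposition ℳ₃]

omit [SetLike.GradedSMul 𝒜 ℳ₁] [SetLike.GradedSMul 𝒜 ℳ₂] in
theorem map_proj (u : M₁ →ₗ[A] M₂) (hu : ∀ (i : ℕ) (m : M₁), m ∈ ℳ₁ i → u m ∈ ℳ₂ i) (z : M₁) (j : ℕ) :
    (DirectSum.decompose ℳ₂ (u z) j : M₂) = u (DirectSum.decompose ℳ₁ z j : M₁) := by
  induction z using DirectSum.Decomposition.inductionOn ℳ₁ with
  | zero => simp
  | @homogeneous l z' =>
    by_cases hl : l = j
    · subst hl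
      rw [DirectSum.decompose_of_mem_same ℳ₂ (hu _ _ z'.2), DirectSum.decompose_of_mem_same ℳ₁ z'.2]
    · rw [DirectSum.decompose_of_mem_ne ℳ₂ (hu _ _ z'.2) hl,
        DirectSum.decompose_of_mem_ne ℳ₁ z'.2 hl, map_zero]
  | add a b ha hb =>
    simp only [map_add, DirectSum.decompose_add, DirectSum.add_apply, AddMemClass.coe_add, ha, hb]

theorem sections_exact
    (u : M₁ →ₗ[A] M₂) (hu : ∀ (i : ℕ) (m : M₁), m ∈ ℳ₁ i → u m ∈ ℳ₂ i)
    (v : M₂ →ₗ[A] M₃) (hv : ∀ (i : ℕ) (m : M₂), m ∈ ℳ₂ i → v m ∈ ℳ₃ i)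
    (hex : Function.Exact u v) (n : ℤ) {d : ℕ} (hd : 0 < d) (f : A) (hf : f ∈ 𝒜 d) :
    Function.Exact ((GrMod.map 𝒜 u hu n).app (Proj.basicOpen 𝒜 f))
      ((GrMod.map 𝒜 v hv n).app (Proj.basicOpen 𝒜 f)) := by
  intro s₂
  constructor
  · intro hvs
    obtain ⟨k, i, m, hi, hs₂⟩ := sections_basicOpen 𝒜 ℳ₂ n hd hf
      (s₂ : GrMod.sect 𝒜 ℳ₂ n (op (ProjectiveSpectrum.basicOpen 𝒜 f)))
    have hvm : (v m.1) ∈ ℳ₃ i := hv i _ m.2
    have hpt : ∀ P : ProjectiveSpectrum 𝒜, f ∉ P.asHomogeneousIdeal →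
        ∃ u' : A, u' ∉ P.asHomogeneousIdeal ∧ u' • (v m.1) = 0 := by
      intro P hP
      have h1 := GrMod.map_app_val v hv n (Proj.basicOpen 𝒜 f) s₂ ⟨P, hP⟩
      rw [hvs] at h1
      have hfk : f ^ k ∉ P.asHomogeneousIdeal := fun h => hP (P.isPrime.mem_of_pow_mem k h)
      have h2 : GrMod.val s₂ ⟨P, hP⟩ =
          (LocalizedModule.mk m.1 ⟨f ^ k, hfk⟩ : GrMod.LocMod 𝒜 (M := M₂) P) := hs₂ ⟨P, hP⟩
      rw [h2] at h1
      replace h1 := h1.trans (GrMod.locMap_mk v P m.1 ⟨f ^ k, hfk⟩)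
      have h3 : GrMod.val (0 : Γ(GrMod.tilde 𝒜 ℳ₃ n, Proj.basicOpen 𝒜 f)) ⟨P, hP⟩ = 0 := rfl
      rw [h3] at h1
      have h4 := h1.symm
      rw [← LocalizedModule.zero_mk (1 : P.asHomogeneousIdeal.toIdeal.primeCompl),
        LocalizedModule.mk_eq] at h4
      obtain ⟨u', hu'⟩ := h4
      refine ⟨u'.1, u'.2, ?_⟩
      simp only [smul_zero, one_smul] at hu'
      exact hu'
    obtain ⟨N, hN⟩ := pow_smul_eq_zero' 𝒜 ℳ₃ hd hf i (v m.1) hvm hpt
    have hvz : v (f ^ N • m.1) = 0 := by rw [map_smul, hN]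
    obtain ⟨m₁, hm₁⟩ := (hex _).mp hvz
    have hfm : f ^ N • (m.1 : M₂) ∈ ℳ₂ (N • d + i) := by
      simpa [vadd_eq_add] using SetLike.GradedSMul.smul_mem (A := 𝒜) (B := ℳ₂)
        (SetLike.pow_mem_graded N hf) m.2
    have hum₁ : u (DirectSum.decompose ℳ₁ m₁ (N • d + i) : M₁) = f ^ N • (m.1 : M₂) := by
      rw [← map_proj ℳ₁ ℳ₂ u hu, hm₁]
      exact DirectSum.decompose_of_mem_same ℳ₂ hfm
    have hdeg : ((N • d + i : ℕ) : ℤ) = (((N + k) • d : ℕ) : ℤ) + n := by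
      push_cast [smul_eq_mul]
      rw [hi]
      ring
    have hfp : f ^ (N + k) ∈ 𝒜 ((N + k) • d) := SetLike.pow_mem_graded (N + k) hf
    have hnin : ∀ x : ProjectiveSpectrum.basicOpen 𝒜 f, f ^ (N + k) ∉ x.1.asHomogeneousIdeal :=
      fun x h => x.2 (x.1.isPrime.mem_of_pow_mem _ h)
    let s₁ : GrMod.sect 𝒜 ℳ₁ n (op (ProjectiveSpectrum.basicOpen 𝒜 f)) :=
      ⟨fun x => ⟨LocalizedModule.mk (DirectSum.decompose ℳ₁ m₁ (N • d + i) : M₁) ⟨f ^ (N + k), hnin x⟩,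
        mk_mem_tildeAt 𝒜 ℳ₁ n x.1 (N • d + i) ((N + k) • d) _
          (DirectSum.decompose ℳ₁ m₁ (N • d + i)).2 _ hfp hdeg (hnin x)⟩,
       fun x => ⟨ProjectiveSpectrum.basicOpen 𝒜 f, x.2, 𝟙 _, N • d + i, (N + k) • d,
        DirectSum.decompose ℳ₁ m₁ (N • d + i), ⟨f ^ (N + k), hfp⟩, hnin, Or.inl hdeg, fun _ => rfl⟩⟩
    refine ⟨(s₁ : Γ(GrMod.tilde 𝒜 ℳ₁ n, Proj.basicOpen 𝒜 f)), ?_⟩
    refine Subtype.ext (funext fun x => Subtype.ext ?_)
    have h5 := GrMod.map_app_val u hu n (Proj.basicOpen 𝒜 f)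
      (s₁ : Γ(GrMod.tilde 𝒜 ℳ₁ n, Proj.basicOpen 𝒜 f)) x
    refine h5.trans ?_
    have h6 : GrMod.val (s₁ : Γ(GrMod.tilde 𝒜 ℳ₁ n, Proj.basicOpen 𝒜 f)) x =
        LocalizedModule.mk (DirectSum.decompose ℳ₁ m₁ (N • d + i) : M₁) ⟨f ^ (N + k), hnin x⟩ := rfl
    rw [h6]
    refine (GrMod.locMap_mk u x.1 _ ⟨f ^ (N + k), hnin x⟩).trans ?_
    rw [hum₁]
    refine Eq.trans ?_ (hs₂ x).symm
    rw [LocalizedModule.mk_eq]
    refine ⟨1, ?_⟩
    simp only [one_smul]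
    show f ^ k • f ^ N • (m.1 : M₂) = f ^ (N + k) • (m.1 : M₂)
    rw [smul_smul, ← pow_add, add_comm]
  · rintro ⟨s₁, rfl⟩
    refine Subtype.ext (funext fun x => Subtype.ext ?_)
    have h1 := GrMod.map_app_val v hv n (Proj.basicOpen 𝒜 f)
      ((GrMod.map 𝒜 u hu n).app (Proj.basicOpen 𝒜 f) s₁) x
    have h2 := GrMod.map_app_val u hu n (Proj.basicOpen 𝒜 f) s₁ x
    refine h1.trans ?_
    rw [h2]
    generalize GrMod.val s₁ x = q
    induction q using LocalizedModule.induction_on with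
    | h m s =>
      refine (congrArg (GrMod.locMap v x.1) (GrMod.locMap_mk u x.1 m s)).trans ?_
      refine (GrMod.locMap_mk v x.1 _ s).trans ?_
      rw [hex.apply_apply_eq_zero, LocalizedModule.zero_mk]
      rfl

end exact

end Groth.Agent.Lib.GrModSectH1
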