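import Mathlib
import Groth.Prelude
import Groth.Agent.Lib.GrTwGlue_helper5

/-!
# Modules on a relative `Proj` attached to graded modules: values, gluing of chartwise sections
(helper5).  Port of `GrTwGlue_helper5` from `RelProj.IsRelTwist` to `RelProj.IsRelTilde`.
APPEND-ONLY once landed.
-/

set_option autoImplicit false
universe u
open CategoryTheory CategoryTheory.Limits AlgebraicGeometry TopologicalSpace Opposite DirectSum
open HomogeneousLocalization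

namespace Groth.Agent.GrTi

open Groth.Agent.GrTw

section Val
variable {A σ : Type u} [CommRing A] [SetLike σ A] [AddSubgroupClass σ A] (𝒜 : ℕ → σ)
  [GradedRing 𝒜]
  {M τ : Type u} [AddCommGroup M] [Module A M] [SetLike τ M] [AddSubgroupClass τ M] (ℳ : ℕ → τ)
  [SetLike.GradedSMul 𝒜 ℳ]

theorem ext_val {n : ℤ} {V : (Proj 𝒜).Opens} (s t : Γ(GrMod.tilde 𝒜 ℳ n, V))
    (h : ∀ y : V, GrMod.val s y = GrMod.val t y) : s = t := by
  apply Subtype.ext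
  funext y
  apply Subtype.ext
  exact h y

theorem val_smul {n : ℤ} {V : (Proj 𝒜).Opens} (c : Γ(Proj 𝒜, V)) (s : Γ(GrMod.tilde 𝒜 ℳ n, V))
    (y : V) : GrMod.val (c • s) y = valO 𝒜 c y • GrMod.val s y :=
  GrMod.coe_smul_val n y.1 ((show GrTwist.O (𝒜 := 𝒜) (op V) from c).1 y)
    ((show GrMod.sect 𝒜 ℳ n (op V) from s).1 y)

theorem val_rF {n : ℤ} {V V' : (Proj 𝒜).Opens} (h : V' ≤ V) (s : Γ(GrMod.tilde 𝒜 ℳ n, V))
    (y : V') : GrMod.val (QcqsLoc.rF (GrMod.tilde 𝒜 ℳ n) h s) y = GrMod.val s ⟨y.1, h y.2⟩ :=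
  rfl

theorem val_add {n : ℤ} {V : (Proj 𝒜).Opens} (s t : Γ(GrMod.tilde 𝒜 ℳ n, V)) (y : V) :
    GrMod.val (s + t) y = GrMod.val s y + GrMod.val t y := rfl

theorem val_zero {n : ℤ} {V : (Proj 𝒜).Opens} (y : V) :
    GrMod.val (0 : Γ(GrMod.tilde 𝒜 ℳ n, V)) y = 0 := rfl

end Val

section Glue
variable {Y P : Scheme.{u}} (𝒮 : RelProj.QCGrAlg Y) (p : P ⟶ Y)
  (chart : ∀ (U : Y.Opens) (hU : IsAffineOpen U),
    (((p ⁻¹ᵁ U : P.Opens) : Scheme.{u}) ≅ Proj (𝒮.deg U hU)))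
  (ℳ : RelProj.GrModule 𝒮) (n : ℤ) (F : P.Modules)
  (lam : ∀ (U : Y.Opens) (hU : IsAffineOpen U),
    F ⟶ (Scheme.Modules.pushforward (RelProj.emb p chart U hU)).obj
      (GrMod.tilde (𝒮.deg U hU) (ℳ.deg U hU) n))

/-- The section of `ℳ(V)(n)~` on the chart over `V` attached to a section of `F`. -/
noncomputable abbrev chartSec (V : Y.Opens) (hV : IsAffineOpen V) (W : P.Opens) (s : Γ(F, W)) :
    Γ(GrMod.tilde (𝒮.deg V hV) (ℳ.deg V hV) n, (RelProj.emb p chart V hV) ⁻¹ᵁ W) :=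
  QCohExtn.ap (lam V hV) W s

theorem chartSec_rF (V : Y.Opens) (hV : IsAffineOpen V) {W W' : P.Opens} (h : W' ≤ W)
    (s : Γ(F, W)) :
    chartSec 𝒮 p chart ℳ n F lam V hV W' (QcqsLoc.rF F h s) =
      QcqsLoc.rF (GrMod.tilde (𝒮.deg V hV) (ℳ.deg V hV) n)
        ((RelProj.emb p chart V hV).preimage_mono h)
        (chartSec 𝒮 p chart ℳ n F lam V hV W s) :=
  QCohExtn.ap_rF (lam V hV) h s

variable {𝒮 p chart ℳ n F lam}

/-- Sections of `F` over an open of the chart over `V` are determined by their values. -/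
theorem ext_chart_val (hF : RelProj.IsRelTilde 𝒮 p chart ℳ n F lam) (V : Y.Opens)
    (hV : IsAffineOpen V) {W : P.Opens} (hW : W ≤ p ⁻¹ᵁ V) (s s' : Γ(F, W))
    (h : ∀ y : (RelProj.emb p chart V hV) ⁻¹ᵁ W,
      GrMod.val (chartSec 𝒮 p chart ℳ n F lam V hV W s) y =
        GrMod.val (chartSec 𝒮 p chart ℳ n F lam V hV W s') y) : s = s' :=
  (hF.bijective V hV W hW).1 (ext_val _ _ _ _ h)

/-- Sections of `F` are determined by their chart sections. -/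
theorem ext_chartSec (hF : RelProj.IsRelTilde 𝒮 p chart ℳ n F lam) {W : P.Opens} (s s' : Γ(F, W))
    (h : ∀ (V : Y.Opens) (hV : IsAffineOpen V),
      chartSec 𝒮 p chart ℳ n F lam V hV W s = chartSec 𝒮 p chart ℳ n F lam V hV W s') :
    s = s' := by
  apply QcqsLoc.eq_of_cover
  intro x hx
  obtain ⟨_, ⟨V, hV : IsAffineOpen V, rfl⟩, hxV, -⟩ :=
    (Y.isBasis_affineOpens).exists_subset_of_mem_open (Set.mem_univ (p x)) isOpen_univ
  refine ⟨W ⊓ p ⁻¹ᵁ V, inf_le_left, ⟨hx, hxV⟩, ?_⟩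
  apply (hF.bijective V hV (W ⊓ p ⁻¹ᵁ V) inf_le_right).1
  show chartSec 𝒮 p chart ℳ n F lam V hV _ _ = chartSec 𝒮 p chart ℳ n F lam V hV _ _
  rw [chartSec_rF, chartSec_rF, h V hV]

/-- A family of chartwise sections of the `ℳ(V)(n)~` over (the preimages of) an open `W` of `P`,
compatible with restriction to basic opens of the base. -/
def ChartCompat (W : P.Opens)
    (t : ∀ (V : Y.Opens) (hV : IsAffineOpen V),
      Γ(GrMod.tilde (𝒮.deg V hV) (ℳ.deg V hV) n, (RelProj.emb p chart V hV) ⁻¹ᵁ W)) : Prop :=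
  ∀ (V : Y.Opens) (hV : IsAffineOpen V) (r : Γ(Y, V))
    (y : ProjectiveSpectrum (𝒮.deg (Y.basicOpen r) (hV.basicOpen r)))
    (hy : (RelProj.emb p chart (Y.basicOpen r) (hV.basicOpen r)) y ∈ W)
    (hy' : (RelProj.emb p chart V hV) (ProjectiveSpectrum.comap
      (𝒮.res hV (hV.basicOpen r) (Y.basicOpen_le r)) (𝒮.irrelevant_le_map V hV r) y) ∈ W),
    GrMod.val (t (Y.basicOpen r) (hV.basicOpen r)) ⟨y, hy⟩ =
      GrMod.locModMap (𝒮.res hV (hV.basicOpen r) (Y.basicOpen_le r)) (𝒮.irrelevant_le_map V hV r)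
        (ℳ.res hV (hV.basicOpen r) (Y.basicOpen_le r)) y
        (GrMod.val (t V hV) ⟨_, hy'⟩)

/-- The chart sections of a section of `F` are compatible. -/
theorem chartCompat_chartSec (hF : RelProj.IsRelTilde 𝒮 p chart ℳ n F lam) (W : P.Opens)
    (s : Γ(F, W)) :
    ChartCompat (𝒮 := 𝒮) (p := p) (chart := chart) (ℳ := ℳ) (n := n) W
      (fun V hV => chartSec 𝒮 p chart ℳ n F lam V hV W s) :=
  fun V hV r y hy hy' => hF.compat V hV r W s y hy hy'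

theorem rF_chart_basicOpen (hF : RelProj.IsRelTilde 𝒮 p chart ℳ n F lam)
    (hP : RelProj.IsRelProj 𝒮 p chart) (W : P.Opens)
    (t : ∀ (V : Y.Opens) (hV : IsAffineOpen V),
      Γ(GrMod.tilde (𝒮.deg V hV) (ℳ.deg V hV) n, (RelProj.emb p chart V hV) ⁻¹ᵁ W))
    (ht : ChartCompat (𝒮 := 𝒮) (p := p) (chart := chart) (ℳ := ℳ) (n := n) W t)
    (V : Y.Opens) (hV : IsAffineOpen V) (r : Γ(Y, V))
    (sV : Γ(F, W ⊓ p ⁻¹ᵁ V))
    (hsV : chartSec 𝒮 p chart ℳ n F lam V hV _ sV =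
      QcqsLoc.rF (GrMod.tilde (𝒮.deg V hV) (ℳ.deg V hV) n)
        ((RelProj.emb p chart V hV).preimage_mono (inf_le_left : W ⊓ p ⁻¹ᵁ V ≤ W)) (t V hV))
    (sD : Γ(F, W ⊓ p ⁻¹ᵁ (Y.basicOpen r)))
    (hsD : chartSec 𝒮 p chart ℳ n F lam (Y.basicOpen r) (hV.basicOpen r) _ sD =
      QcqsLoc.rF (GrMod.tilde (𝒮.deg (Y.basicOpen r) (hV.basicOpen r))
          (ℳ.deg (Y.basicOpen r) (hV.basicOpen r)) n)
        ((RelProj.emb p chart (Y.basicOpen r) (hV.basicOpen r)).preimage_mono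
          (inf_le_left : W ⊓ p ⁻¹ᵁ (Y.basicOpen r) ≤ W)) (t (Y.basicOpen r) (hV.basicOpen r))) :
    QcqsLoc.rF F (inf_le_inf_left W (p.preimage_mono (Y.basicOpen_le r))) sV = sD := by
  apply ext_chart_val hF (Y.basicOpen r) (hV.basicOpen r) inf_le_right
  intro y
  have hy : (RelProj.emb p chart (Y.basicOpen r) (hV.basicOpen r)) y.1 ∈
      W ⊓ p ⁻¹ᵁ (Y.basicOpen r) := y.2
  have hy' : (RelProj.emb p chart V hV) (ProjectiveSpectrum.comap
      (𝒮.res hV (hV.basicOpen r) (Y.basicOpen_le r)) (𝒮.irrelevant_le_map V hV r) y.1) ∈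
      W ⊓ p ⁻¹ᵁ (Y.basicOpen r) := by
    rw [emb_comap hP V hV r y.1]
    exact hy
  have h1 := hF.compat V hV r (W ⊓ p ⁻¹ᵁ (Y.basicOpen r))
    (QcqsLoc.rF F (inf_le_inf_left W (p.preimage_mono (Y.basicOpen_le r))) sV) y.1 hy hy'
  refine h1.trans ?_
  have h2 : chartSec 𝒮 p chart ℳ n F lam V hV _
      (QcqsLoc.rF F (inf_le_inf_left W (p.preimage_mono (Y.basicOpen_le r))) sV) = _ :=
    chartSec_rF 𝒮 p chart ℳ n F lam V hV _ sV
  have h3 := ht V hV r y.1 hy.1 hy'.1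
  rw [hsD]
  refine Eq.trans ?_ h3.symm
  congr 1
  show GrMod.val (chartSec 𝒮 p chart ℳ n F lam V hV _
      (QcqsLoc.rF F (inf_le_inf_left W (p.preimage_mono (Y.basicOpen_le r))) sV)) _ = _
  rw [h2, hsV]
  rfl

/-- **Gluing**: a compatible family of chartwise sections over an open `W` of the relative
`Proj` comes from a section of `F` over `W`. -/
theorem exists_glue (hF : RelProj.IsRelTilde 𝒮 p chart ℳ n F lam)
    (hP : RelProj.IsRelProj 𝒮 p chart) (W : P.Opens)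
    (t : ∀ (V : Y.Opens) (hV : IsAffineOpen V),
      Γ(GrMod.tilde (𝒮.deg V hV) (ℳ.deg V hV) n, (RelProj.emb p chart V hV) ⁻¹ᵁ W))
    (ht : ChartCompat (𝒮 := 𝒮) (p := p) (chart := chart) (ℳ := ℳ) (n := n) W t) :
    ∃ s : Γ(F, W), ∀ (V : Y.Opens) (hV : IsAffineOpen V),
      chartSec 𝒮 p chart ℳ n F lam V hV W s = t V hV := by
  classical
  have hex : ∀ (V : Y.Opens) (hV : IsAffineOpen V), ∃ sV : Γ(F, W ⊓ p ⁻¹ᵁ V),
      chartSec 𝒮 p chart ℳ n F lam V hV _ sV =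
        QcqsLoc.rF (GrMod.tilde (𝒮.deg V hV) (ℳ.deg V hV) n)
          ((RelProj.emb p chart V hV).preimage_mono (inf_le_left : W ⊓ p ⁻¹ᵁ V ≤ W)) (t V hV) :=
    fun V hV => (hF.bijective V hV _ inf_le_right).2 _
  choose sV hsV using hex
  have htrans : ∀ (D D' : Y.Opens) (h : D = D') (hD : IsAffineOpen D) (hD' : IsAffineOpen D')
      (hle : W ⊓ p ⁻¹ᵁ D ≤ W ⊓ p ⁻¹ᵁ D'), QcqsLoc.rF F hle (sV D' hD') = sV D hD := by
    intro D D' h hD hD' hle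
    subst h
    exact SubExt.rF_self F hle _
  let O : Y.affineOpens → P.Opens := fun V => W ⊓ p ⁻¹ᵁ (V : Y.Opens)
  have hle : ∀ i, O i ≤ W := fun i => inf_le_left
  have hcov : W ≤ ⨆ i, O i := by
    intro x hx
    obtain ⟨_, ⟨V, hV : IsAffineOpen V, rfl⟩, hxV, -⟩ :=
      (Y.isBasis_affineOpens).exists_subset_of_mem_open (Set.mem_univ (p x)) isOpen_univ
    exact Opens.mem_iSup.mpr ⟨⟨V, hV⟩, hx, hxV⟩
  let m : ∀ i : Y.affineOpens, Γ(F, O i) := fun i => sV i.1 i.2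
  have hcompat : TopCat.Presheaf.IsCompatible F.presheaf O m := by
    intro i j
    have key : QcqsLoc.rF F (inf_le_left : O i ⊓ O j ≤ O i) (m i) =
        QcqsLoc.rF F (inf_le_right : O i ⊓ O j ≤ O j) (m j) := by
      apply QcqsLoc.eq_of_cover
      intro x hx
      obtain ⟨⟨hxW, hxi⟩, ⟨-, hxj⟩⟩ := hx
      obtain ⟨r, r', hrr', hxr⟩ := exists_basicOpen_le_affine_inter i.2 j.2 (p x) ⟨hxi, hxj⟩
      have hDi : Y.basicOpen r ≤ (i : Y.Opens) := Y.basicOpen_le r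
      have hDj : Y.basicOpen r ≤ (j : Y.Opens) := hrr' ▸ Y.basicOpen_le r'
      refine ⟨W ⊓ p ⁻¹ᵁ (Y.basicOpen r), le_inf
        (inf_le_inf_left W (p.preimage_mono hDi)) (inf_le_inf_left W (p.preimage_mono hDj)),
        ⟨hxW, hxr⟩, ?_⟩
      rw [QcqsLoc.rF_rF, QcqsLoc.rF_rF]
      have hA := rF_chart_basicOpen hF hP W t ht i.1 i.2 r (sV i.1 i.2) (hsV i.1 i.2)
        (sV (Y.basicOpen r) (i.2.basicOpen r)) (hsV _ _)
      have hB := rF_chart_basicOpen hF hP W t ht j.1 j.2 r' (sV j.1 j.2) (hsV j.1 j.2)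
        (sV (Y.basicOpen r') (j.2.basicOpen r')) (hsV _ _)
      have hC := htrans (Y.basicOpen r) (Y.basicOpen r') hrr' (i.2.basicOpen r)
        (j.2.basicOpen r') (le_of_eq (by rw [hrr']))
      rw [← hB, QcqsLoc.rF_rF] at hC
      exact hA.trans hC.symm
    exact (Groth.Agent.Lib.QCohExtH1.rF_congr F _ _ _).trans
      (key.trans (Groth.Agent.Lib.QCohExtH1.rF_congr F _ _ _))
  obtain ⟨s, hs, -⟩ := TopCat.Sheaf.existsUnique_gluing' ⟨F.presheaf, F.isSheaf⟩ O W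
    (fun i => homOfLE (hle i)) hcov m hcompat
  refine ⟨s, fun V hV => ?_⟩
  apply ext_val
  intro y
  have hyV : (RelProj.emb p chart V hV) y.1 ∈ W ⊓ p ⁻¹ᵁ V := ⟨y.2, mem_preimage_of_emb V hV y.1⟩
  have h1 : QcqsLoc.rF F (hle ⟨V, hV⟩) s = sV V hV := hs ⟨V, hV⟩
  have h2 := chartSec_rF 𝒮 p chart ℳ n F lam V hV (hle ⟨V, hV⟩) s
  rw [h1, hsV V hV] at h2
  have h3 := congrArg (fun τ : Γ(GrMod.tilde (𝒮.deg V hV) (ℳ.deg V hV) n,
    (RelProj.emb p chart V hV) ⁻¹ᵁ (W ⊓ p ⁻¹ᵁ V)) => GrMod.val τ ⟨y.1, hyV⟩) h2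
  exact h3.symm

end Glue

end Groth.Agent.GrTi
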