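import Mathlib
import Groth.Prelude
import Groth.Agent.Lib.GrModSect_helper1
import Groth.Agent.Lib.GrTiGlue_helper5

/-!
# Sections `m / f^k` of `M(n)~` over `D_+(f)`; injectivity / surjectivity of `ũ` on `D_+(f)` for maps
that are injective / surjective in large degrees (helper5).  APPEND-ONLY once landed.
-/

set_option autoImplicit false
universe u
open CategoryTheory CategoryTheory.Limits AlgebraicGeometry TopologicalSpace Opposite DirectSum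
open HomogeneousLocalization

namespace Groth.Agent.GrTi

open Groth.Agent.GrTw Groth.Agent.Lib.GrModSectH1

section RingLevel
variable {A σ : Type u} [CommRing A] [SetLike σ A] [AddSubgroupClass σ A] (𝒜 : ℕ → σ)
  [GradedRing 𝒜]
  {M τ : Type u} [AddCommGroup M] [Module A M] [SetLike τ M] [AddSubgroupClass τ M] (ℳ : ℕ → τ)
  [SetLike.GradedSMul 𝒜 ℳ]

theorem pow_nin {f : A} (k : ℕ) (x : ProjectiveSpectrum.basicOpen 𝒜 f) :
    f ^ k ∉ x.1.asHomogeneousIdeal :=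
  fun h => x.2 (x.1.isPrime.mem_of_pow_mem _ h)

/-- The section `m / f^k` of `M(n)~` over `D_+(f)`. -/
noncomputable def fracSecM {d : ℕ} {f : A} (hf : f ∈ 𝒜 d) (n : ℤ) (k i : ℕ) (m : M) (hm : m ∈ ℳ i)
    (hi : (i : ℤ) = ((k • d : ℕ) : ℤ) + n) : Γ(GrMod.tilde 𝒜 ℳ n, Proj.basicOpen 𝒜 f) :=
  (show GrMod.sect 𝒜 ℳ n (op (ProjectiveSpectrum.basicOpen 𝒜 f)) from
    ⟨fun x => ⟨LocalizedModule.mk m ⟨f ^ k, pow_nin 𝒜 k x⟩,
      mk_mem_tildeAt 𝒜 ℳ n x.1 i (k • d) m hm _ (SetLike.pow_mem_graded k hf) hi (pow_nin 𝒜 k x)⟩,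
     fun x => ⟨ProjectiveSpectrum.basicOpen 𝒜 f, x.2, 𝟙 _, i, k • d, ⟨m, hm⟩,
      ⟨f ^ k, SetLike.pow_mem_graded k hf⟩, pow_nin 𝒜 k, Or.inl hi, fun _ => rfl⟩⟩)

theorem val_fracSecM {d : ℕ} {f : A} (hf : f ∈ 𝒜 d) (n : ℤ) (k i : ℕ) (m : M) (hm : m ∈ ℳ i)
    (hi : (i : ℤ) = ((k • d : ℕ) : ℤ) + n) (y : Proj.basicOpen 𝒜 f) :
    GrMod.val (fracSecM 𝒜 ℳ hf n k i m hm hi) y =
      LocalizedModule.mk m ⟨f ^ k, pow_nin 𝒜 k y⟩ := rfl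

variable [DirectSum.Decomposition ℳ]

/-- Sections over `D_+(f)` are single fractions `m / f^k` (helper1's `sections_basicOpen`, in terms
of values). -/
theorem exists_val_eq_mk (n : ℤ) {d : ℕ} (hd : 0 < d) {f : A} (hf : f ∈ 𝒜 d)
    (s : Γ(GrMod.tilde 𝒜 ℳ n, Proj.basicOpen 𝒜 f)) :
    ∃ (k i : ℕ) (m : M), m ∈ ℳ i ∧ (i : ℤ) = ((k • d : ℕ) : ℤ) + n ∧
      ∀ y : Proj.basicOpen 𝒜 f, GrMod.val s y = LocalizedModule.mk m ⟨f ^ k, pow_nin 𝒜 k y⟩ := by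
  obtain ⟨k, i, m, hi, hs⟩ := sections_basicOpen 𝒜 ℳ n hd hf
    (s : GrMod.sect 𝒜 ℳ n (op (ProjectiveSpectrum.basicOpen 𝒜 f)))
  refine ⟨k, i, m.1, m.2, ?_, fun y => hs y⟩
  rw [hi]
  push_cast [smul_eq_mul]
  ring

variable {N τ' : Type u} [AddCommGroup N] [Module A N] [SetLike τ' N] [AddSubgroupClass τ' N]
  (𝒩 : ℕ → τ') [SetLike.GradedSMul 𝒜 𝒩] [DirectSum.Decomposition 𝒩]

/-- A degree-preserving map injective in large degrees induces an injective map on the sections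
of the attached modules over `D_+(f)`. -/
theorem map_app_eq_zero_of_inj_large (u : M →ₗ[A] N) (hu : ∀ (i : ℕ) (m : M), m ∈ ℳ i → u m ∈ 𝒩 i)
    (n₀ : ℕ) (hinj : ∀ k, n₀ ≤ k → ∀ m ∈ ℳ k, u m = 0 → m = 0)
    (n : ℤ) {d : ℕ} (hd : 0 < d) {f : A} (hf : f ∈ 𝒜 d)
    (s : Γ(GrMod.tilde 𝒜 ℳ n, Proj.basicOpen 𝒜 f))
    (hs : (GrMod.map 𝒜 u hu n).app (Proj.basicOpen 𝒜 f) s = 0) : s = 0 := by
  obtain ⟨k, i, m, hm, hi, hval⟩ := exists_val_eq_mk 𝒜 ℳ n hd hf s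
  have hpt : ∀ P : ProjectiveSpectrum 𝒜, f ∉ P.asHomogeneousIdeal →
      ∃ u' : A, u' ∉ P.asHomogeneousIdeal ∧ u' • (u m) = 0 := by
    intro P hP
    have h1 := GrMod.map_app_val u hu n (Proj.basicOpen 𝒜 f) s ⟨P, hP⟩
    rw [hs, hval ⟨P, hP⟩] at h1
    replace h1 := h1.trans (GrMod.locMap_mk u P m _)
    have h3 : GrMod.val (0 : Γ(GrMod.tilde 𝒜 𝒩 n, Proj.basicOpen 𝒜 f)) ⟨P, hP⟩ = 0 := rfl
    rw [h3] at h1
    have h4 := h1.symm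
    rw [← LocalizedModule.zero_mk (1 : P.asHomogeneousIdeal.toIdeal.primeCompl),
      LocalizedModule.mk_eq] at h4
    obtain ⟨u', hu'⟩ := h4
    refine ⟨u'.1, u'.2, ?_⟩
    simp only [smul_zero, one_smul] at hu'
    exact hu'
  obtain ⟨K, hK⟩ := pow_smul_eq_zero' 𝒜 𝒩 hd hf i (u m) (hu i m hm) hpt
  have hfm : f ^ (K + n₀) • m ∈ ℳ ((K + n₀) • d + i) := by
    simpa [vadd_eq_add] using SetLike.GradedSMul.smul_mem (A := 𝒜) (B := ℳ)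
      (SetLike.pow_mem_graded (K + n₀) hf) hm
  have hz : f ^ (K + n₀) • m = 0 := by
    apply hinj ((K + n₀) • d + i) _ _ hfm
    · rw [map_smul, pow_add, mul_comm, mul_smul, hK, smul_zero]
    · have : K + n₀ ≤ (K + n₀) * d := Nat.le_mul_of_pos_right _ hd
      rw [smul_eq_mul]
      omega
  apply ext_val
  intro y
  rw [hval y]
  refine Eq.trans ?_ (val_zero 𝒜 ℳ y).symm
  rw [← LocalizedModule.zero_mk (1 : y.1.asHomogeneousIdeal.toIdeal.primeCompl),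
    LocalizedModule.mk_eq]
  refine ⟨⟨f ^ (K + n₀), pow_nin 𝒜 _ y⟩, ?_⟩
  simp only [smul_zero, one_smul]
  exact hz

/-- A degree-preserving map surjective in large degrees induces a surjective map on the sections
of the attached modules over `D_+(f)`. -/
theorem map_app_surjective_of_surj_large (u : M →ₗ[A] N)
    (hu : ∀ (i : ℕ) (m : M), m ∈ ℳ i → u m ∈ 𝒩 i)
    (n₀ : ℕ) (hsurj : ∀ k, n₀ ≤ k → ∀ m' ∈ 𝒩 k, ∃ m ∈ ℳ k, u m = m')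
    (n : ℤ) {d : ℕ} (hd : 0 < d) {f : A} (hf : f ∈ 𝒜 d)
    (t : Γ(GrMod.tilde 𝒜 𝒩 n, Proj.basicOpen 𝒜 f)) :
    ∃ s : Γ(GrMod.tilde 𝒜 ℳ n, Proj.basicOpen 𝒜 f),
      (GrMod.map 𝒜 u hu n).app (Proj.basicOpen 𝒜 f) s = t := by
  obtain ⟨k, i, m', hm', hi, hval⟩ := exists_val_eq_mk 𝒜 𝒩 n hd hf t
  have hfm : f ^ n₀ • m' ∈ 𝒩 (n₀ • d + i) := by
    simpa [vadd_eq_add] using SetLike.GradedSMul.smul_mem (A := 𝒜) (B := 𝒩)
      (SetLike.pow_mem_graded n₀ hf) hm'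
  have hge : n₀ ≤ n₀ • d + i := by
    have : n₀ ≤ n₀ * d := Nat.le_mul_of_pos_right _ hd
    rw [smul_eq_mul]
    omega
  obtain ⟨m, hm, hum⟩ := hsurj _ hge _ hfm
  have hdeg : ((n₀ • d + i : ℕ) : ℤ) = (((k + n₀) • d : ℕ) : ℤ) + n := by
    push_cast [smul_eq_mul] at hi ⊢
    rw [hi]
    ring
  refine ⟨fracSecM 𝒜 ℳ hf n (k + n₀) (n₀ • d + i) m hm hdeg, ?_⟩
  apply ext_val
  intro y
  refine (GrMod.map_app_val u hu n (Proj.basicOpen 𝒜 f) _ y).trans ?_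
  rw [val_fracSecM, hval y]
  refine (GrMod.locMap_mk u y.1 m _).trans ?_
  rw [hum, LocalizedModule.mk_eq]
  refine ⟨1, ?_⟩
  simp only [one_smul]
  show f ^ k • f ^ n₀ • m' = f ^ (k + n₀) • m'
  rw [smul_smul, ← pow_add]

end RingLevel

end Groth.Agent.GrTi
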