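import Mathlib
import Groth.Prelude
import Groth.Agent.Lib.GrTiSect_helper5
import Groth.Agent.Lib.QCohCrit2_helper9

/-!
# Quasi-coherence of `M(n)~` on `Proj` for gradings by additive subgroups (`GrMod.tilde`)
(helper5).  Port of `ProjQC_helper5`.  APPEND-ONLY once landed.
-/

set_option autoImplicit false
universe u
open CategoryTheory CategoryTheory.Limits AlgebraicGeometry TopologicalSpace Opposite DirectSum
open HomogeneousLocalization

namespace Groth.Agent.GrTi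

open Groth.Agent.GrTw Groth.Agent.Lib.GrModSectH1

section RingLevel
variable {A σ : Type u} [CommRing A] [SetLike σ A] [AddSubgroupClass σ A] (𝒜 : ℕ → σ)
  [GradedRing 𝒜]

theorem valO_pow {V : (Proj 𝒜).Opens} (c : Γ(Proj 𝒜, V)) (k : ℕ) (y : V) :
    valO 𝒜 (c ^ k) y = valO 𝒜 c y ^ k := by
  show (((show GrTwist.O (𝒜 := 𝒜) (op V) from c).1 y) ^ k).val = _
  exact HomogeneousLocalization.val_pow _ _

/-- Sections of the structure sheaf over `D_+(f)` are fractions `g / f^j`. -/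
theorem exists_rep {d : ℕ} (hd : 0 < d) {f : A} (hf : f ∈ 𝒜 d)
    (a : Γ(Proj 𝒜, Proj.basicOpen 𝒜 f)) :
    ∃ (j : ℕ) (g : A), g ∈ 𝒜 (j * d) ∧ ∀ x : Proj.basicOpen 𝒜 f,
      valO 𝒜 a x = Localization.mk g ⟨f ^ j, pow_nin 𝒜 j x⟩ := by
  have hiso : IsIso (Proj.awayToSection 𝒜 f) :=
    (Proj.basicOpenIsoAway 𝒜 f hf hd).isIso_hom
  have hbij := ConcreteCategory.bijective_of_isIso (Proj.awayToSection 𝒜 f)
  obtain ⟨z, hz⟩ := hbij.2 a
  obtain ⟨j, g, hg, rfl⟩ := Away.mk_surjective 𝒜 hf z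
  refine ⟨j, g, by simpa [smul_eq_mul] using hg, fun x => ?_⟩
  rw [← hz]
  rfl

variable {M τ : Type u} [AddCommGroup M] [Module A M] [SetLike τ M] [AddSubgroupClass τ M]
  (ℳ : ℕ → τ) [SetLike.GradedSMul 𝒜 ℳ]

omit [AddSubgroupClass τ M] in
/-- `mk w s = 0` in the localised module iff some element outside the prime kills `w`. -/
theorem mk_eq_zero_iff (x : ProjectiveSpectrum 𝒜) (w : M)
    (s : x.asHomogeneousIdeal.toIdeal.primeCompl) :
    (LocalizedModule.mk w s : GrMod.LocMod 𝒜 (M := M) x) = 0 ↔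
      ∃ u : A, u ∉ x.asHomogeneousIdeal ∧ u • w = 0 := by
  rw [← LocalizedModule.zero_mk s, LocalizedModule.mk_eq]
  constructor
  · rintro ⟨u, hu⟩
    refine ⟨u.1 * s.1, fun h => (x.isPrime.mem_or_mem h).elim u.2 s.2, ?_⟩
    simp only [smul_zero] at hu
    have h2 : u.1 • (s.1 • w) = 0 := hu
    rw [mul_smul]
    exact h2
  · rintro ⟨u, hu, h⟩
    refine ⟨⟨u, hu⟩, ?_⟩
    simp only [smul_zero]
    show u • (s.1 • w) = 0
    rw [smul_comm, h, smul_zero]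

variable [DirectSum.Decomposition ℳ]

/-- **Sections of `M(n)~` over `D_+(f)` localise correctly.** -/
theorem locOnU_basicOpen (n : ℤ) {d : ℕ} (hd : 0 < d) {f : A} (hf : f ∈ 𝒜 d) :
    QCohCrit.LocOnU (GrMod.tilde 𝒜 ℳ n) (Proj.basicOpen 𝒜 f) := by
  intro a
  have hU : IsAffineOpen (Proj.basicOpen 𝒜 f) := Proj.isAffineOpen_basicOpen 𝒜 f hf hd
  obtain ⟨j, g, hg, hrep⟩ := exists_rep 𝒜 hd hf a
  have hfg : f * g ∈ 𝒜 (d + j * d) := SetLike.mul_mem_graded hf hg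
  have hpos : 0 < d + j * d := by omega
  -- the basic open of `a` is `D_+(f g)`
  have hmem : ∀ x : Proj 𝒜, x ∈ (Proj 𝒜).basicOpen a ↔ f * g ∉ x.asHomogeneousIdeal := by
    intro x
    constructor
    · intro hx
      have hxf : x ∈ Proj.basicOpen 𝒜 f := (Proj 𝒜).basicOpen_le a hx
      have hu := (mem_basicOpen_iff 𝒜 _ a x hxf).mp hx
      have hgx := (isUnit_iff_of_val 𝒜 x _ g (f ^ j) _ (hrep ⟨x, hxf⟩)).mp hu
      exact fun h => (x.isPrime.mem_or_mem h).elim hxf hgx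
    · intro hx
      have hxf : f ∉ x.asHomogeneousIdeal := fun h => hx (Ideal.mul_mem_right _ _ h)
      have hgx : g ∉ x.asHomogeneousIdeal := fun h => hx (Ideal.mul_mem_left _ _ h)
      exact (mem_basicOpen_iff 𝒜 _ a x hxf).mpr
        ((isUnit_iff_of_val 𝒜 x _ g (f ^ j) _ (hrep ⟨x, hxf⟩)).mpr hgx)
  have hW : Proj.basicOpen 𝒜 (f * g) ≤ (Proj 𝒜).basicOpen a :=
    fun x hx => (hmem x).mpr hx
  refine ⟨hU.isLocalization_basicOpen a, fun x m => Scheme.Modules.map_smul _ _ x m, ?_, ?_⟩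
  · -- surjectivity up to powers of `a`
    intro m'
    obtain ⟨k, i, w, hw, hi, hval⟩ := exists_val_eq_mk 𝒜 ℳ n hpos hfg
      (QcqsLoc.rF (GrMod.tilde 𝒜 ℳ n) hW m')
    have hdeg : (i : ℤ) = ((((j + 1) * k) • d : ℕ) : ℤ) + n := by
      rw [hi]; push_cast [smul_eq_mul]; ring
    refine ⟨k, fracSecM 𝒜 ℳ hf n ((j + 1) * k) i w hw hdeg, ?_⟩
    apply ext_val
    intro x
    have hxfg : f * g ∉ x.1.asHomogeneousIdeal := (hmem x.1).mp x.2
    have hxf : f ∉ x.1.asHomogeneousIdeal := fun h => hxfg (Ideal.mul_mem_right _ _ h)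
    have h1 : GrMod.val m' x = LocalizedModule.mk w ⟨(f * g) ^ k, pow_nin 𝒜 k ⟨x.1, hxfg⟩⟩ :=
      hval ⟨x.1, hxfg⟩
    have h2 := hrep ⟨x.1, hxf⟩
    refine (val_smul 𝒜 ℳ _ m' x).trans ?_
    refine Eq.trans ?_ (val_rF 𝒜 ℳ ((Proj 𝒜).basicOpen_le a) _ x).symm
    rw [val_fracSecM, h1]
    have h3 : valO 𝒜 ((QcqsLoc.rX ((Proj 𝒜).basicOpen_le a) a) ^ k) x =
        (Localization.mk g ⟨f ^ j, pow_nin 𝒜 j ⟨x.1, hxf⟩⟩ : GrTwist.Loc 𝒜 x.1) ^ k := by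
      rw [valO_pow, valO_rX, h2]
    refine (congrArg (· • _) h3).trans ?_
    rw [Localization.mk_pow, LocalizedModule.mk_smul_mk, LocalizedModule.mk_eq]
    refine ⟨1, ?_⟩
    rw [one_smul, one_smul]
    show (f ^ ((j + 1) * k)) • (g ^ k • w) = ((f ^ j) ^ k * (f * g) ^ k) • w
    rw [smul_smul]
    congr 1
    ring
  · -- kernel is `a`-power torsion
    intro m hm
    obtain ⟨k, i, w, hw, hi, hval⟩ := exists_val_eq_mk 𝒜 ℳ n hd hf m
    have hzero : ∀ P : ProjectiveSpectrum 𝒜, f * g ∉ P.asHomogeneousIdeal →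
        ∃ u : A, u ∉ P.asHomogeneousIdeal ∧ u • w = 0 := by
      intro P hP
      have hPf : f ∉ P.asHomogeneousIdeal := fun h => hP (Ideal.mul_mem_right _ _ h)
      have hPW : P ∈ (Proj 𝒜).basicOpen a := (hmem P).mpr hP
      have h0 := congrArg (fun s : Γ(GrMod.tilde 𝒜 ℳ n, (Proj 𝒜).basicOpen a) =>
        GrMod.val s ⟨P, hPW⟩) hm
      have h1 := hval ⟨P, hPf⟩
      have h2 : (LocalizedModule.mk w ⟨f ^ k, pow_nin 𝒜 k ⟨P, hPf⟩⟩ :
          GrMod.LocMod 𝒜 (M := M) P) = 0 := h1.symm.trans h0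
      exact (mk_eq_zero_iff 𝒜 P w _).mp h2
    obtain ⟨N, hN⟩ := pow_smul_eq_zero' 𝒜 ℳ hpos hfg i w hw hzero
    refine ⟨N, ?_⟩
    apply ext_val
    intro x
    refine (val_smul 𝒜 ℳ _ m x).trans ?_
    refine Eq.trans ?_ (val_zero 𝒜 ℳ x).symm
    rw [valO_pow, hrep x, hval x, Localization.mk_pow, LocalizedModule.mk_smul_mk, mk_eq_zero_iff]
    refine ⟨f ^ N, pow_nin 𝒜 N x, ?_⟩
    rw [smul_smul, ← mul_pow]
    exact hN

/-- **`M(n)~` is quasi-coherent** (gradings by additive subgroups). -/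
theorem isQuasicoherent_tilde (n : ℤ) : (GrMod.tilde 𝒜 ℳ n).IsQuasicoherent := by
  let ι := {p : ℕ × A // 0 < p.1 ∧ p.2 ∈ 𝒜 p.1}
  refine QCohCrit.isQuasicoherent_of_locOnU_cover _ (fun i : ι => Proj.basicOpen 𝒜 i.1.2)
    (fun i => Proj.isAffineOpen_basicOpen 𝒜 i.1.2 i.2.2 i.2.1) ?_
    (fun i => locOnU_basicOpen 𝒜 ℳ n i.2.1 i.2.2)
  rw [eq_top_iff]
  intro x _
  obtain ⟨d, g, hd, hg, hgx⟩ := exists_pos_homog_not_mem 𝒜 x
  exact Opens.mem_iSup.mpr ⟨⟨(d, g), hd, hg⟩, hgx⟩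

end RingLevel

end Groth.Agent.GrTi
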