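import Mathlib
import Groth.Prelude
import Groth.Agent.Lib.GrTiQC_helper5

/-!
# The graded module `Γ_*(F)` of a quasi-coherent module on `Proj`, concretely (helper5)

For a graded ring `A` and finitely many `f ∈ A_1`, families `(t_f)_f`, `t_f ∈ Γ(D_+(f), F)` with
`t_g = (f/g)^n t_f` on `D_+(fg)` are the sections of `F(n)`.  For a family `S_n` of subgroups of such
families closed under the action of homogeneous elements we build the graded module `⨁ S_n`.
APPEND-ONLY once landed.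
-/

set_option autoImplicit false
universe u
open CategoryTheory CategoryTheory.Limits AlgebraicGeometry TopologicalSpace Opposite DirectSum
open HomogeneousLocalization

namespace Groth.Agent.GStar

open Groth.Agent.GrTw Groth.Agent.GrTi QcqsLoc

section OLevel
variable {A σ : Type u} [CommRing A] [SetLike σ A] [AddSubgroupClass σ A] (𝒜 : ℕ → σ)
  [GradedRing 𝒜]

theorem extO {V : (Proj 𝒜).Opens} (c c' : Γ(Proj 𝒜, V))
    (h : ∀ y : V, valO 𝒜 c y = valO 𝒜 c' y) : c = c' := by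
  apply Subtype.ext
  funext y
  exact HomogeneousLocalization.val_injective _ (h y)

theorem valO_mul {V : (Proj 𝒜).Opens} (c c' : Γ(Proj 𝒜, V)) (y : V) :
    valO 𝒜 (c * c') y = valO 𝒜 c y * valO 𝒜 c' y := by
  show (((show GrTwist.O (𝒜 := 𝒜) (op V) from c).1 y) *
    ((show GrTwist.O (𝒜 := 𝒜) (op V) from c').1 y)).val = _
  exact HomogeneousLocalization.val_mul _ _

theorem valO_add {V : (Proj 𝒜).Opens} (c c' : Γ(Proj 𝒜, V)) (y : V) :
    valO 𝒜 (c + c') y = valO 𝒜 c y + valO 𝒜 c' y := by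
  show (((show GrTwist.O (𝒜 := 𝒜) (op V) from c).1 y) +
    ((show GrTwist.O (𝒜 := 𝒜) (op V) from c').1 y)).val = _
  exact HomogeneousLocalization.val_add _ _

theorem valO_one {V : (Proj 𝒜).Opens} (y : V) :
    valO 𝒜 (1 : Γ(Proj 𝒜, V)) y = 1 := by
  show ((1 : GrTwist.A0 𝒜 y.1)).val = _
  exact HomogeneousLocalization.val_one

theorem valO_zero {V : (Proj 𝒜).Opens} (y : V) :
    valO 𝒜 (0 : Γ(Proj 𝒜, V)) y = 0 := by
  show ((0 : GrTwist.A0 𝒜 y.1)).val = _
  exact HomogeneousLocalization.val_zero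

theorem mk_eq_mk_of_mul_eq {x : ProjectiveSpectrum 𝒜} (a a' b b' : A)
    (hb : b ∈ x.asHomogeneousIdeal.toIdeal.primeCompl)
    (hb' : b' ∈ x.asHomogeneousIdeal.toIdeal.primeCompl) (h : a * b' = a' * b) :
    (Localization.mk a ⟨b, hb⟩ : Localization x.asHomogeneousIdeal.toIdeal.primeCompl) =
      Localization.mk a' ⟨b', hb'⟩ := by
  rw [Localization.mk_eq_mk_iff, Localization.r_iff_exists]
  refine ⟨1, ?_⟩
  show (1 : A) * (b' * a) = 1 * (b * a')
  rw [one_mul, one_mul, mul_comm b' a, h, mul_comm]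

end OLevel

section Mod
variable {R A : Type u} [CommRing R] [CommRing A] [Algebra R A] (𝒜 : ℕ → Submodule R A)
  [GradedAlgebra 𝒜] (s : Finset A) (F : (Proj 𝒜).Modules)

/-- The index set: the elements of `s` of degree one. -/
abbrev Idx : Type u := {f : A // f ∈ 𝒜 1 ∧ f ∈ s}

/-- `D_+(f)`. -/
abbrev UU (f : Idx 𝒜 s) : (Proj 𝒜).Opens := Proj.basicOpen 𝒜 f.1

variable {𝒜 s} in
/-- `a / f^d` on `D_+(f)`, for `a` of degree `d`. -/
noncomputable def frO (f : Idx 𝒜 s) (d : ℕ) (a : A) (ha : a ∈ 𝒜 d) : Γ(Proj 𝒜, UU 𝒜 s f) :=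
  fracO 𝒜 f.2.1 d a (by rw [smul_eq_mul, mul_one]; exact ha)

variable {𝒜 s} in
theorem valO_frO (f : Idx 𝒜 s) (d : ℕ) (a : A) (ha : a ∈ 𝒜 d) (y : UU 𝒜 s f) :
    valO 𝒜 (frO f d a ha) y = Localization.mk a ⟨f.1 ^ d,
      show f.1 ^ d ∈ y.1.asHomogeneousIdeal.toIdeal.primeCompl from
        fun h => y.2 (y.1.isPrime.mem_of_pow_mem _ h)⟩ := rfl

variable {𝒜 s} in
theorem frO_one (f : Idx 𝒜 s) : frO f 0 1 SetLike.GradedOne.one_mem = 1 := by
  apply extO
  intro y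
  rw [valO_frO, valO_one, ← Localization.mk_one]
  exact mk_eq_mk_of_mul_eq 𝒜 _ _ _ _ _ _ (by simp)

variable {𝒜 s} in
theorem frO_mul (f : Idx 𝒜 s) (d e : ℕ) (a b : A) (ha : a ∈ 𝒜 d) (hb : b ∈ 𝒜 e) :
    frO f (d + e) (a * b) (SetLike.mul_mem_graded ha hb) = frO f d a ha * frO f e b hb := by
  apply extO
  intro y
  rw [valO_mul, valO_frO, valO_frO, valO_frO, Localization.mk_mul]
  exact mk_eq_mk_of_mul_eq 𝒜 _ _ _ _ _ _ (by
    show a * b * (f.1 ^ d * f.1 ^ e) = a * b * f.1 ^ (d + e)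
    rw [pow_add])

variable {𝒜 s} in
theorem frO_add (f : Idx 𝒜 s) (d : ℕ) (a b : A) (ha : a ∈ 𝒜 d) (hb : b ∈ 𝒜 d) :
    frO f d (a + b) (add_mem ha hb) = frO f d a ha + frO f d b hb := by
  apply extO
  intro y
  rw [valO_add, valO_frO, valO_frO, valO_frO, Localization.add_mk_self]

variable {𝒜 s} in
theorem frO_zero (f : Idx 𝒜 s) (d : ℕ) : frO f d 0 (zero_mem _) = 0 := by
  apply extO
  intro y
  rw [valO_frO, valO_zero, Localization.mk_zero]

variable {𝒜 s} in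
theorem frO_congr (f : Idx 𝒜 s) {d d' : ℕ} (hd : d = d') {a a' : A} (h : a = a') (ha : a ∈ 𝒜 d)
    (ha' : a' ∈ 𝒜 d') : frO f d a ha = frO f d' a' ha' := by
  subst hd h
  rfl

/-- Families of sections over the `D_+(f)`. -/
abbrev QQ : Type u := ∀ f : Idx 𝒜 s, Γ(F, UU 𝒜 s f)

variable {𝒜 s} in
/-- `f / g` on `D_+(f) ∩ D_+(g)`. -/
noncomputable def rho (f g : Idx 𝒜 s) : Γ(Proj 𝒜, UU 𝒜 s f ⊓ UU 𝒜 s g) :=
  rX inf_le_right (frO g 1 f.1 f.2.1)

variable {𝒜 s F} in
/-- The family `q` is a section of `F(n)`. -/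
def Compat (n : ℕ) (q : QQ 𝒜 s F) : Prop :=
  ∀ f g : Idx 𝒜 s, rF F inf_le_right (q g) = rho f g ^ n • rF F inf_le_left (q f)

/-- A family of subgroups of sections of the `F(n)` closed under the action of homogeneous
elements. -/
structure Fam where
  S : ℕ → AddSubgroup (QQ 𝒜 s F)
  closed : ∀ (d : ℕ) (a : A) (ha : a ∈ 𝒜 d) (n : ℕ) (q : QQ 𝒜 s F), q ∈ S n →
    (fun f => frO f d a ha • q f) ∈ S (d + n)
  compat : ∀ n q, q ∈ S n → Compat n q

variable {𝒜 s F}
variable (T : Fam 𝒜 s F)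

noncomputable instance gsmul : GradedMonoid.GSMul (fun i => 𝒜 i) (fun n => T.S n) where
  smul {i j} a q := ⟨fun f => frO f i a.1 a.2 • q.1 f, T.closed i a.1 a.2 j q.1 q.2⟩

theorem gsmul_coe {i j : ℕ} (a : 𝒜 i) (q : T.S j) (f : Idx 𝒜 s) :
    ((GradedMonoid.GSMul.smul (A := fun i => 𝒜 i) (M := fun n => T.S n) a q : T.S (i +ᵥ j)) :
      QQ 𝒜 s F) f = frO f i a.1 a.2 • q.1 f := rfl

noncomputable instance gmulAction : GradedMonoid.GMulAction (fun i => 𝒜 i) (fun n => T.S n) where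
  one_smul b := by
    refine Sigma.subtype_ext (p := fun n (q : QQ 𝒜 s F) => q ∈ T.S n) (zero_add _) ?_
    funext f
    show frO f 0 1 _ • b.2.1 f = b.2.1 f
    rw [frO_one, one_smul]
  mul_smul a a' b := by
    refine Sigma.subtype_ext (p := fun n (q : QQ 𝒜 s F) => q ∈ T.S n) (add_assoc _ _ _) ?_
    funext f
    show frO f (a.1 + a'.1) (a.2.1 * a'.2.1) _ • b.2.1 f =
      frO f a.1 a.2.1 a.2.2 • (frO f a'.1 a'.2.1 a'.2.2 • b.2.1 f)
    rw [frO_mul f a.1 a'.1 a.2.1 a'.2.1 a.2.2 a'.2.2, mul_smul]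

noncomputable instance gdistribMulAction : DirectSum.GdistribMulAction (fun i => 𝒜 i) (fun n => T.S n) where
  smul_add a b c := by
    apply Subtype.ext
    funext f
    show frO f _ a.1 a.2 • (b.1 f + c.1 f) = frO f _ a.1 a.2 • b.1 f + frO f _ a.1 a.2 • c.1 f
    rw [smul_add]
  smul_zero a := by
    apply Subtype.ext
    funext f
    show frO f _ a.1 a.2 • (0 : Γ(F, UU 𝒜 s f)) = 0
    rw [smul_zero]

noncomputable instance gmodule : DirectSum.Gmodule (fun i => 𝒜 i) (fun n => T.S n) where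
  add_smul a a' b := by
    apply Subtype.ext
    funext f
    show frO f _ (a.1 + a'.1) _ • b.1 f = frO f _ a.1 a.2 • b.1 f + frO f _ a'.1 a'.2 • b.1 f
    rw [frO_add f _ a.1 a'.1 a.2 a'.2, add_smul]
  zero_smul b := by
    apply Subtype.ext
    funext f
    show frO f _ 0 _ • b.1 f = 0
    rw [frO_zero, zero_smul]

/-- The graded module `⨁ S_n`. -/
def GM : Type u := ⨁ n : ℕ, T.S n

noncomputable instance : AddCommGroup (GM T) := inferInstanceAs (AddCommGroup (⨁ n : ℕ, T.S n))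

noncomputable instance modDS : Module (⨁ i, 𝒜 i) (GM T) :=
  inferInstanceAs (Module (⨁ i, 𝒜 i) (⨁ n : ℕ, T.S n))

noncomputable instance modA : Module A (GM T) :=
  Module.compHom (GM T) ((DirectSum.decomposeRingEquiv 𝒜 : A ≃+* ⨁ i, 𝒜 i) : A →+* ⨁ i, 𝒜 i)

noncomputable instance modR : Module R (GM T) := Module.compHom (GM T) (algebraMap R A)

instance : IsScalarTower R A (GM T) := IsScalarTower.of_algebraMap_smul fun _ _ => rfl

/-- The inclusion of the degree `n` piece. -/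
noncomputable def ofS (n : ℕ) : T.S n →+ GM T := DirectSum.of (fun n => T.S n) n

theorem smul_ofS {d : ℕ} (a : A) (ha : a ∈ 𝒜 d) (n : ℕ) (q : T.S n) :
    a • ofS T n q = ofS T (d + n) ⟨fun f => frO f d a ha • q.1 f, T.closed d a ha n q.1 q.2⟩ := by
  show (DirectSum.decompose 𝒜 a : ⨁ i, 𝒜 i) • (DirectSum.of (fun n => T.S n) n q) = _
  rw [DirectSum.decompose_of_mem 𝒜 ha, DirectSum.Gmodule.of_smul_of]
  rfl

theorem ofS_mem_cast {n n' : ℕ} (h : n = n') (q : T.S n) :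
    ofS T n q ∈ Set.range (ofS T n') := by
  subst h
  exact ⟨q, rfl⟩

/-- The homogeneous elements of degree `n`. -/
noncomputable def deg (n : ℕ) : Submodule R (GM T) where
  carrier := Set.range (ofS T n)
  zero_mem' := ⟨0, map_zero _⟩
  add_mem' := by
    rintro _ _ ⟨a, rfl⟩ ⟨b, rfl⟩
    exact ⟨a + b, map_add _ _ _⟩
  smul_mem' := by
    rintro r _ ⟨q, rfl⟩
    show (algebraMap R A r) • ofS T n q ∈ Set.range (ofS T n)
    rw [smul_ofS T _ (SetLike.algebraMap_mem_graded 𝒜 r) n q]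
    exact ofS_mem_cast T (zero_add n) _

theorem mem_deg {n : ℕ} {x : GM T} : x ∈ deg T n ↔ ∃ q : T.S n, ofS T n q = x := Iff.rfl

theorem ofS_mem (n : ℕ) (q : T.S n) : ofS T n q ∈ deg T n := ⟨q, rfl⟩

noncomputable instance gradedSMul : SetLike.GradedSMul 𝒜 (deg T) where
  smul_mem := by
    rintro i j a _ ha ⟨q, rfl⟩
    rw [smul_ofS T a ha j q]
    exact ofS_mem T _ _

/-- The decomposition map. -/
noncomputable def decHom : GM T →+ ⨁ n, deg T n :=
  DirectSum.toAddMonoid fun n =>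
    (DirectSum.of (fun n => deg T n) n).comp
      { toFun := fun q => ⟨ofS T n q, ofS_mem T n q⟩
        map_zero' := Subtype.ext (map_zero _)
        map_add' := fun a b => Subtype.ext (map_add _ a b) }

theorem decHom_ofS (n : ℕ) (q : T.S n) :
    decHom T (ofS T n q) = DirectSum.of (fun n => deg T n) n ⟨ofS T n q, ofS_mem T n q⟩ := by
  exact DirectSum.toAddMonoid_of (β := fun n => T.S n) _ n q

noncomputable instance decomposition : DirectSum.Decomposition (deg T) :=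
  DirectSum.Decomposition.ofAddHom (deg T) (decHom T)
    (by
      apply DirectSum.addHom_ext
      intro n q
      show DirectSum.coeAddMonoidHom (deg T) (decHom T (ofS T n q)) = ofS T n q
      rw [decHom_ofS, DirectSum.coeAddMonoidHom_of])
    (by
      apply DirectSum.addHom_ext
      rintro n ⟨_, ⟨q, rfl⟩⟩
      show decHom T (DirectSum.coeAddMonoidHom (deg T)
        (DirectSum.of (fun n => deg T n) n ⟨ofS T n q, _⟩)) = _
      rw [DirectSum.coeAddMonoidHom_of, decHom_ofS]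
      rfl)

/-- The `f`-component of the degree `n` part. -/
noncomputable def cmp (n : ℕ) (f : Idx 𝒜 s) (x : GM T) : Γ(F, UU 𝒜 s f) :=
  ((show ⨁ n : ℕ, T.S n from x) n).1 f

theorem cmp_add (n : ℕ) (f : Idx 𝒜 s) (x y : GM T) :
    cmp T n f (x + y) = cmp T n f x + cmp T n f y := rfl

theorem cmp_zero (n : ℕ) (f : Idx 𝒜 s) : cmp T n f 0 = 0 := rfl

theorem cmp_ofS (n : ℕ) (f : Idx 𝒜 s) (q : T.S n) : cmp T n f (ofS T n q) = q.1 f := by
  show ((DirectSum.of (fun n => T.S n) n q) n).1 f = q.1 f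
  rw [DirectSum.of_eq_same]

theorem cmp_smul {d : ℕ} (a : A) (ha : a ∈ 𝒜 d) {n : ℕ} (x : GM T) (hx : x ∈ deg T n)
    (f : Idx 𝒜 s) : cmp T (d + n) f (a • x) = frO f d a ha • cmp T n f x := by
  obtain ⟨q, rfl⟩ := hx
  rw [smul_ofS T a ha n q, cmp_ofS, cmp_ofS]

theorem compat_cmp {n : ℕ} (x : GM T) (hx : x ∈ deg T n) (f g : Idx 𝒜 s) :
    rF F inf_le_right (cmp T n g x) = rho f g ^ n • rF F inf_le_left (cmp T n f x) := by
  obtain ⟨q, rfl⟩ := hx
  rw [cmp_ofS, cmp_ofS]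
  exact T.compat n q.1 q.2 f g

theorem eq_zero_of_cmp {n : ℕ} (x : GM T) (hx : x ∈ deg T n)
    (h : ∀ f : Idx 𝒜 s, cmp T n f x = 0) : x = 0 := by
  obtain ⟨q, rfl⟩ := hx
  have : q = 0 := by
    apply Subtype.ext
    funext f
    have := h f
    rw [cmp_ofS] at this
    exact this
  rw [this, map_zero]

theorem exists_of_mem {n : ℕ} (q : QQ 𝒜 s F) (hq : q ∈ T.S n) :
    ∃ x : GM T, x ∈ deg T n ∧ ∀ f, cmp T n f x = q f :=
  ⟨ofS T n ⟨q, hq⟩, ofS_mem T n _, fun f => cmp_ofS T n f _⟩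

theorem cmp_mem {n : ℕ} (x : GM T) (hx : x ∈ deg T n) : (fun f => cmp T n f x) ∈ T.S n := by
  obtain ⟨q, rfl⟩ := hx
  have : (fun f => cmp T n f (ofS T n q)) = q.1 := by
    funext f
    exact cmp_ofS T n f q
  rw [this]
  exact q.2

end Mod

end Groth.Agent.GStar
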