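import Mathlib
import Groth.Prelude
import Groth.Agent.Lib.ProjTwAmple_helper5
import Groth.Agent.Lib.SecOrd1_helper8
import Groth.Agent.S2327

/-!
# `O(n)` ample and generated by global sections on a quasi-compact `Proj` covered by degree-one
standard opens (helper5)
-/

set_option autoImplicit false
universe u
open CategoryTheory CategoryTheory.Limits AlgebraicGeometry TopologicalSpace Opposite DirectSum
open HomogeneousLocalization

namespace Groth.Agent.ProjTw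

section
variable {R A : Type u} [CommRing R] [CommRing A] [Algebra R A] (𝒜 : ℕ → Submodule R A)
  [GradedAlgebra 𝒜]

theorem genLocus_secHom1 (hcov : ∀ x : Proj 𝒜, ∃ f ∈ 𝒜 1, x ∈ Proj.basicOpen 𝒜 f) {g : A}
    (hg : g ∈ 𝒜 1) :
    CohB1.genLocus (CohB1.tensorPow (Twist.twist 𝒜 1) 1) (SecTwist.powHom (secHom1 𝒜 hg) 1) =
      Proj.basicOpen 𝒜 g := by
  ext y
  obtain ⟨f, hf, hy⟩ := hcov y
  have h := genLocus_secHom1_inf 𝒜 hf hg
  constructor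
  · intro hy'
    have : y ∈ CohB1.genLocus (CohB1.tensorPow (Twist.twist 𝒜 1) 1)
        (SecTwist.powHom (secHom1 𝒜 hg) 1) ⊓ Proj.basicOpen 𝒜 f := ⟨hy', hy⟩
    rw [h] at this
    exact this.2
  · intro hy'
    have : y ∈ Proj.basicOpen 𝒜 f ⊓ Proj.basicOpen 𝒜 g := ⟨hy, hy'⟩
    rw [← h] at this
    exact this.1

/-- `O(1)` is ample on a quasi-compact `Proj` covered by the `D_+(f)`, `f` of degree one. -/
theorem isAmple_twist_one' [CompactSpace (Proj 𝒜)]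
    (hcov : ∀ x : Proj 𝒜, ∃ f ∈ 𝒜 1, x ∈ Proj.basicOpen 𝒜 f) :
    CohB1.IsAmple (Twist.twist 𝒜 1) := by
  refine ⟨isInvertible_twist 𝒜 hcov 1, inferInstance, fun x => ?_⟩
  obtain ⟨g, hg, hx⟩ := hcov x
  refine ⟨0, SecTwist.powHom (secHom1 𝒜 hg) 1, ?_, ?_⟩
  · rw [genLocus_secHom1 𝒜 hcov hg]
    exact hx
  · rw [genLocus_secHom1 𝒜 hcov hg]
    exact Proj.isAffineOpen_basicOpen 𝒜 g hg one_pos

/-- `O(n)`, `n ≥ 1`, is ample on a quasi-compact `Proj` covered by the `D_+(f)`, `f` of degree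
one. -/
theorem isAmple_twist_pos [CompactSpace (Proj 𝒜)]
    (hcov : ∀ x : Proj 𝒜, ∃ f ∈ 𝒜 1, x ∈ Proj.basicOpen 𝒜 f) (n : ℕ) (hn : 0 < n) :
    CohB1.IsAmple (Twist.twist 𝒜 (n : ℤ)) := by
  obtain ⟨α⟩ := tensorPow_iso 𝒜 hcov n
  rw [← TensH8.isAmple_congr α]
  exact (Groth.Agent.S2327.result (Proj 𝒜) (Twist.twist 𝒜 1) (isInvertible_twist 𝒜 hcov 1) n
    hn).mp (isAmple_twist_one' 𝒜 hcov)

theorem rF_globalOf_pow {g : A} (hg : g ∈ 𝒜 1) (n : ℕ) :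
    QcqsLoc.rF (Twist.twist 𝒜 (n : ℤ)) (le_top : Proj.basicOpen 𝒜 g ≤ ⊤)
      (Twist.globalOf 𝒜 (⟨g ^ n, by simpa using SetLike.pow_mem_graded n hg⟩ : 𝒜 n)) =
      genSecK 𝒜 hg (n : ℤ) (n : ℤ) (by simp) := by
  apply Subtype.ext
  funext x
  apply Subtype.ext
  show Localization.mk _ _ = Localization.mk _ _
  rw [Localization.mk_eq_mk_iff, Localization.r_iff_exists]
  exact ⟨1, by simp⟩

/-- `O(n)` is generated by the global sections `b/1`, `b ∈ A_n`. -/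
theorem generatedBy_globalOf (hcov : ∀ x : Proj 𝒜, ∃ f ∈ 𝒜 1, x ∈ Proj.basicOpen 𝒜 f) (n : ℕ) :
    ProjUP.GeneratedBy (Twist.twist 𝒜 (n : ℤ))
      (fun b : 𝒜 n => (Twist.globalOf 𝒜 b : ProjUP.Γm (Twist.twist 𝒜 (n : ℤ)))) := by
  intro x
  obtain ⟨g, hg, hx⟩ := hcov x
  have he := isGen_genSecK 𝒜 one_pos hg (n : ℤ) (n : ℤ) (by simp)
  obtain ⟨h1, -⟩ := SecOrdH8.stalk_gen he hx
  rw [eq_top_iff]
  intro z _
  obtain ⟨a, rfl⟩ := h1 z
  apply Submodule.smul_mem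
  apply Submodule.subset_span
  refine ⟨⟨g ^ n, by simpa using SetLike.pow_mem_graded n hg⟩, ?_⟩
  rw [← rF_globalOf_pow 𝒜 hg n]
  exact (SecOrdH8.germ_rF (Twist.twist 𝒜 (n : ℤ)) le_top x hx _).symm

end

end Groth.Agent.ProjTw
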