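import Mathlib
import Groth.Prelude
import Groth.Agent.Lib.ProjTwPow_helper5
import Groth.Agent.Lib.TensQC3_helper8

/-!
# `M(n)~ ≅ M~ ⊗ O(n)` on `Proj` of a ring generated in degree one (helper5)
-/

set_option autoImplicit false
universe u
open CategoryTheory CategoryTheory.Limits AlgebraicGeometry TopologicalSpace Opposite DirectSum
open HomogeneousLocalization

namespace Groth.Agent.ProjTw

section Mod
variable {R A : Type u} [CommRing R] [CommRing A] [Algebra R A] (𝒜 : ℕ → Submodule R A)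
  [GradedAlgebra 𝒜]
  {M : Type u} [AddCommGroup M] [Module R M] [Module A M] [IsScalarTower R A M]
  (ℳ : ℕ → Submodule R M) [DirectSum.Decomposition ℳ] [SetLike.GradedSMul 𝒜 ℳ]

omit [IsScalarTower R A M] [DirectSum.Decomposition ℳ] in
/-- A degree-`n` fraction times a degree-`m` module fraction is a degree-`m+n` module fraction. -/
theorem smul_mem_tildeAt (m n : ℤ) (x : ProjectiveSpectrum 𝒜) (a : Twist.Loc 𝒜 x)
    (p : GrTilde.LocMod 𝒜 (M := M) x) (ha : a ∈ Twist.twistAt 𝒜 n x)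
    (hp : p ∈ GrTilde.tildeAt 𝒜 ℳ m x) : a • p ∈ GrTilde.tildeAt 𝒜 ℳ (m + n) x := by
  unfold Twist.twistAt at ha
  induction ha using Submodule.span_induction with
  | mem a ha =>
    obtain ⟨i, j, a₀, s, hs, hij, rfl⟩ := ha
    unfold GrTilde.tildeAt at hp
    induction hp using Submodule.span_induction with
    | mem p hp =>
      obtain ⟨i', j', w, t, ht, hij', rfl⟩ := hp
      rw [LocalizedModule.mk_smul_mk]
      refine Submodule.subset_span ⟨i + i', j + j', ⟨a₀.1 • w.1, ?_⟩,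
        ⟨s.1 * t.1, SetLike.mul_mem_graded s.2 t.2⟩,
        fun h => (x.isPrime.mem_or_mem h).elim hs ht, by push_cast; omega, rfl⟩
      have := SetLike.GradedSMul.smul_mem (A := 𝒜) (B := ℳ) a₀.2 w.2
      rwa [vadd_eq_add] at this
    | zero => rw [smul_zero]; exact zero_mem _
    | add q q' _ _ hq hq' => rw [smul_add]; exact add_mem hq hq'
    | smul c q _ hq =>
      rw [GrTilde.a0_smul_def, smul_smul, mul_comm, ← smul_smul, ← GrTilde.a0_smul_def]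
      exact Submodule.smul_mem _ c hq
  | zero => rw [zero_smul]; exact zero_mem _
  | add a a' _ _ ha ha' => rw [add_smul]; exact add_mem ha ha'
  | smul c a _ ha =>
    rw [Algebra.smul_def, mul_smul]
    exact Submodule.smul_mem _ c ha

/-- The product of a section of `M(m)~` and a section of `O(n)`. -/
def mulSecM (m n k : ℤ) (hk : m + n = k) (U : (Opens (ProjectiveSpectrum.top 𝒜))ᵒᵖ)
    (t : GrTilde.sect 𝒜 ℳ m U) (a : Twist.sectN (𝒜 := 𝒜) n U) : GrTilde.sect 𝒜 ℳ k U :=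
  ⟨fun x => ⟨(a.1 x).1 • (t.1 x).1,
      hk ▸ smul_mem_tildeAt 𝒜 ℳ m n x.1 _ _ (a.1 x).2 (t.1 x).2⟩, fun x => by
    obtain ⟨V, hxV, iV, i, j, w, σ, nin, cond, hw⟩ := t.2 x
    obtain ⟨V', hxV', iV', i', j', b, τ, nin', cond', hw'⟩ := a.2 x
    refine ⟨V ⊓ V', ⟨hxV, hxV'⟩, Opens.infLELeft _ _ ≫ iV, i' + i, j' + j,
      ⟨b.1 • w.1, by
        have := SetLike.GradedSMul.smul_mem (A := 𝒜) (B := ℳ) b.2 w.2
        rwa [vadd_eq_add] at this⟩,
      ⟨τ.1 * σ.1, SetLike.mul_mem_graded τ.2 σ.2⟩,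
      fun y h => (y.1.isPrime.mem_or_mem h).elim (nin' ⟨y.1, y.2.2⟩) (nin ⟨y.1, y.2.1⟩), ?_,
      fun y => ?_⟩
    · rcases cond with h | h
      · rcases cond' with h' | h'
        · exact Or.inl (by push_cast; omega)
        · exact Or.inr (show b.1 • w.1 = 0 by rw [h', zero_smul])
      · exact Or.inr (show b.1 • w.1 = 0 by rw [h, smul_zero])
    · have e1 := hw ⟨y.1, y.2.1⟩
      have e2 := hw' ⟨y.1, y.2.2⟩
      show (a.1 _).1 • (t.1 _).1 = _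
      erw [e1, e2]
      rw [LocalizedModule.mk_smul_mk]
      rfl⟩

theorem mulSecM_val (m n k : ℤ) (hk : m + n = k) (U : (Opens (ProjectiveSpectrum.top 𝒜))ᵒᵖ)
    (t : GrTilde.sect 𝒜 ℳ m U) (a : Twist.sectN (𝒜 := 𝒜) n U) (x : U.unop) :
    (((mulSecM 𝒜 ℳ m n k hk U t a).1 x : GrTilde.tildeAt 𝒜 ℳ k x.1) :
      GrTilde.LocMod 𝒜 (M := M) x.1) =
    ((a.1 x : Twist.twistAt 𝒜 n x.1) : Twist.Loc 𝒜 x.1) •
      ((t.1 x : GrTilde.tildeAt 𝒜 ℳ m x.1) : GrTilde.LocMod 𝒜 (M := M) x.1) := rfl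

/-- Multiplication `M(m)~ × O(n) → M(k)~`, `k = m + n`, as a bilinear pairing of sections. -/
noncomputable def mulBilinM (m n k : ℤ) (hk : m + n = k) :
    FLFH8.BilinData (GrTilde.tilde 𝒜 ℳ m) (Twist.twist 𝒜 n) (GrTilde.tilde 𝒜 ℳ k) where
  β U t a := mulSecM 𝒜 ℳ m n k hk (op U) t a
  add_left U t t' a := by
    apply Subtype.ext
    funext x
    apply Subtype.ext
    exact smul_add _ _ _
  smul_left U r t a := by
    apply Subtype.ext
    funext x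
    apply Subtype.ext
    refine Eq.trans ?_ (Groth.Agent.ProjQC.smul_val 𝒜 ℳ k (op U) r
      (mulSecM 𝒜 ℳ m n k hk (op U) t a) x).symm
    exact (congrArg (((a.1 x : Twist.twistAt 𝒜 n x.1) : Twist.Loc 𝒜 x.1) • ·)
      (Groth.Agent.ProjQC.smul_val 𝒜 ℳ m (op U) r t x)).trans (smul_comm _ _ _)
  add_right U t a a' := by
    apply Subtype.ext
    funext x
    apply Subtype.ext
    exact add_smul _ _ _
  smul_right U r t a := by
    apply Subtype.ext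
    funext x
    apply Subtype.ext
    refine Eq.trans ?_ (Groth.Agent.ProjQC.smul_val 𝒜 ℳ k (op U) r
      (mulSecM 𝒜 ℳ m n k hk (op U) t a) x).symm
    exact (congrArg (· • ((t.1 x : GrTilde.tildeAt 𝒜 ℳ m x.1) : GrTilde.LocMod 𝒜 (M := M) x.1))
      (smul_valN 𝒜 n (op U) r a x)).trans (mul_smul _ _ _)
  natural h t a := rfl

/-- The multiplication morphism `M(m)~ ⊗ O(n) → M(k)~`. -/
noncomputable def mulHomM (m n k : ℤ) (hk : m + n = k) :
    CohB1.tensorMod (GrTilde.tilde 𝒜 ℳ m) (Twist.twist 𝒜 n) ⟶ GrTilde.tilde 𝒜 ℳ k :=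
  (mulBilinM 𝒜 ℳ m n k hk).toHom

theorem mulHomM_tmul (m n k : ℤ) (hk : m + n = k) (U : (Proj 𝒜).Opens)
    (t : Γ(GrTilde.tilde 𝒜 ℳ m, U)) (a : Γ(Twist.twist 𝒜 n, U)) :
    QCohExtn.ap (mulHomM 𝒜 ℳ m n k hk) U (SecTwist.tmul _ _ U t a) =
      mulSecM 𝒜 ℳ m n k hk (op U) t a :=
  (mulBilinM 𝒜 ℳ m n k hk).toHom_tmul U t a

omit [IsScalarTower R A M] in
theorem genSecK_mul_neg {d : ℕ} {f : A} (hf : f ∈ 𝒜 d) (n k k' : ℤ) (hk : k = n * d)
    (hk' : k' = -n * d) (x : ProjectiveSpectrum.basicOpen 𝒜 f) :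
    ((((genSecK 𝒜 hf (-n) k' hk').1 x : Twist.twistAt 𝒜 k' x.1) : Twist.Loc 𝒜 x.1)) *
      (((genSecK 𝒜 hf n k hk).1 x : Twist.twistAt 𝒜 k x.1) : Twist.Loc 𝒜 x.1) = 1 := by
  show Localization.mk _ _ * Localization.mk _ _ = 1
  rw [Localization.mk_mul, ← Localization.mk_one, Localization.mk_eq_mk_iff,
    Localization.r_iff_exists]
  refine ⟨1, ?_⟩
  simp only [Submonoid.coe_mul, Submonoid.coe_one, one_mul, mul_one, neg_neg]
  ring

/-- Multiplying by `f^n` and then by `f^{-n}` is the identity. -/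
theorem mulSecM_cancel {f : A} (hf : f ∈ 𝒜 1) (m n k : ℤ) (hk : m + n = k) (hk' : k + -n = m)
    (t : GrTilde.sect 𝒜 ℳ m (op (ProjectiveSpectrum.basicOpen 𝒜 f))) :
    mulSecM 𝒜 ℳ k (-n) m hk' _ (mulSecM 𝒜 ℳ m n k hk _ t (genSecK 𝒜 hf n n (by simp)))
      (genSecK 𝒜 hf (-n) (-n) (by simp)) = t := by
  apply Subtype.ext
  funext x
  apply Subtype.ext
  refine (smul_smul _ _ _).trans ?_
  rw [genSecK_mul_neg 𝒜 hf n n (-n) (by simp) (by simp) x, one_smul]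

/-- Multiplying by `f^{-n}` and then by `f^n` is the identity. -/
theorem mulSecM_cancel' {f : A} (hf : f ∈ 𝒜 1) (m n k : ℤ) (hk : m + n = k) (hk' : k + -n = m)
    (t : GrTilde.sect 𝒜 ℳ k (op (ProjectiveSpectrum.basicOpen 𝒜 f))) :
    mulSecM 𝒜 ℳ m n k hk _ (mulSecM 𝒜 ℳ k (-n) m hk' _ t (genSecK 𝒜 hf (-n) (-n) (by simp)))
      (genSecK 𝒜 hf n n (by simp)) = t := by
  apply Subtype.ext
  funext x
  apply Subtype.ext
  refine (smul_smul _ _ _).trans ?_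
  rw [mul_comm, genSecK_mul_neg 𝒜 hf n n (-n) (by simp) (by simp) x, one_smul]

/-- **`M(m)~ ⊗ O(n) ≅ M(m+n)~`** when `Proj` is covered by the `D_+(f)`, `f` of degree one. -/
theorem isIso_mulHomM (hcov : ∀ x : Proj 𝒜, ∃ f ∈ 𝒜 1, x ∈ Proj.basicOpen 𝒜 f) (m n k : ℤ)
    (hk : m + n = k) : IsIso (mulHomM 𝒜 ℳ m n k hk) := by
  haveI := Groth.Agent.ProjQC.isQuasicoherent_tilde 𝒜 ℳ m
  haveI := Groth.Agent.ProjQC.isQuasicoherent_tilde 𝒜 ℳ k
  haveI : (CohB1.tensorMod (GrTilde.tilde 𝒜 ℳ m) (Twist.twist 𝒜 n)).IsQuasicoherent :=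
    TensQCH8.isQuasicoherent_tensorMod _ _
  refine QCohCrit.isIso_of_bijective_on_cover _
    (fun f : {f : A // f ∈ 𝒜 1} => Proj.basicOpen 𝒜 f.1)
    (fun f => Proj.isAffineOpen_basicOpen 𝒜 f.1 f.2 one_pos) ?_ (fun f => ?_)
  · rw [eq_top_iff]
    intro x _
    obtain ⟨f, hf, hx⟩ := hcov x
    exact Opens.mem_iSup.mpr ⟨⟨f, hf⟩, hx⟩
  · obtain ⟨f, hf⟩ := f
    have he := isGen_genSecK 𝒜 one_pos hf n n (by simp)
    have hk' : k + -n = m := by omega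
    constructor
    · intro y y' hyy'
      obtain ⟨t, ht⟩ := TensH8.tmulGen_surjective (GrTilde.tilde 𝒜 ℳ m) (Twist.twist 𝒜 n) he
        le_rfl y
      obtain ⟨t', ht'⟩ := TensH8.tmulGen_surjective (GrTilde.tilde 𝒜 ℳ m) (Twist.twist 𝒜 n) he
        le_rfl y'
      rw [SubExt.rF_self] at ht ht'
      have hyy : QCohExtn.ap (mulHomM 𝒜 ℳ m n k hk) (Proj.basicOpen 𝒜 f) y =
          QCohExtn.ap (mulHomM 𝒜 ℳ m n k hk) (Proj.basicOpen 𝒜 f) y' := hyy'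
      rw [← ht, ← ht', mulHomM_tmul, mulHomM_tmul] at hyy
      have h2 : t = t' := by
        have h3 := congrArg (fun s => mulSecM 𝒜 ℳ k (-n) m hk' _ s
          (genSecK 𝒜 hf (-n) (-n) (by simp))) hyy
        exact (mulSecM_cancel 𝒜 ℳ hf m n k hk hk' t).symm.trans
          (h3.trans (mulSecM_cancel 𝒜 ℳ hf m n k hk hk' t'))
      rw [← ht, ← ht', h2]
    · intro s
      refine ⟨SecTwist.tmul _ _ _ (mulSecM 𝒜 ℳ k (-n) m hk' _ s
        (genSecK 𝒜 hf (-n) (-n) (by simp))) (genSecK 𝒜 hf n n (by simp)), ?_⟩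
      exact (mulHomM_tmul 𝒜 ℳ m n k hk _ _ _).trans (mulSecM_cancel' 𝒜 ℳ hf m n k hk hk' s)

theorem tilde_twist_iso (hcov : ∀ x : Proj 𝒜, ∃ f ∈ 𝒜 1, x ∈ Proj.basicOpen 𝒜 f) (n : ℤ) :
    Nonempty (GrTilde.tilde 𝒜 ℳ n ≅ Twist.twistBy 𝒜 (GrTilde.tilde 𝒜 ℳ 0) n) := by
  haveI := isIso_mulHomM 𝒜 ℳ hcov 0 n n (zero_add n)
  have α : CohB1.tensorMod (GrTilde.tilde 𝒜 ℳ 0) (Twist.twist 𝒜 n) ≅ GrTilde.tilde 𝒜 ℳ n :=
    asIso (mulHomM 𝒜 ℳ 0 n n (zero_add n))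
  exact ⟨α.symm⟩

end Mod

end Groth.Agent.ProjTw
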