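import Mathlib
import Groth.Prelude
import Groth.Agent.Lib.ProjTwMod_helper5

/-!
# Twisting sheaves on `Proj` of a graded algebra with generators of arbitrary positive degrees
(helper5)
-/

set_option autoImplicit false
universe u
open CategoryTheory CategoryTheory.Limits AlgebraicGeometry TopologicalSpace Opposite DirectSum
open HomogeneousLocalization MonoidalCategory

namespace Groth.Agent.ProjTw

/-- Commutativity of the tensor product of modules. -/
noncomputable def tensorModComm {X : Scheme.{u}} (A B : X.Modules) :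
    CohB1.tensorMod A B ≅ CohB1.tensorMod B A :=
  (CohB1.sheafifyMod X).mapIso
    (show (CohB1.tensorPre A B : X.PresheafOfModules) ≅ CohB1.tensorPre B A from
      β_ (CohB1.toPMod A) (CohB1.toPMod B))

section
variable {R A : Type u} [CommRing R] [CommRing A] [Algebra R A] (𝒜 : ℕ → Submodule R A)
  [GradedAlgebra 𝒜]

/-- If homogeneous elements of positive degrees generate `A` as an `R`-algebra, the standard opens
they define cover `Proj`. -/
theorem cover_of_adjoin {ι : Type*} (f : ι → A) (deg : ι → ℕ) (hdeg : ∀ i, 0 < deg i)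
    (hf : ∀ i, f i ∈ 𝒜 (deg i)) (hgen : Algebra.adjoin R (Set.range f) = ⊤) (x : Proj 𝒜) :
    ∃ i, x ∈ Proj.basicOpen 𝒜 (f i) := by
  by_contra hcon
  push Not at hcon
  have hx : ∀ i, f i ∈ (x : ProjectiveSpectrum 𝒜).asHomogeneousIdeal := by
    intro i
    by_contra hfx
    exact hcon i hfx
  let I : Ideal A := Ideal.span (Set.range f)
  have hI : I.IsHomogeneous 𝒜 := Ideal.homogeneous_span 𝒜 _ (by
    rintro _ ⟨i, rfl⟩
    exact ⟨deg i, hf i⟩)
  have hIx : I ≤ (x : ProjectiveSpectrum 𝒜).asHomogeneousIdeal.toIdeal :=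
    Ideal.span_le.mpr (by rintro _ ⟨i, rfl⟩; exact hx i)
  have key : ∀ b : A, ∃ r : R, b - algebraMap R A r ∈ I := by
    intro b
    have hb : b ∈ Algebra.adjoin R (Set.range f) := hgen ▸ Algebra.mem_top
    induction hb using Algebra.adjoin_induction with
    | mem b hb => exact ⟨0, by rw [map_zero, sub_zero]; exact Ideal.subset_span hb⟩
    | algebraMap r => exact ⟨r, by rw [sub_self]; exact zero_mem _⟩
    | add b b' _ _ hb hb' =>
      obtain ⟨r, hr⟩ := hb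
      obtain ⟨r', hr'⟩ := hb'
      refine ⟨r + r', ?_⟩
      have : b + b' - algebraMap R A (r + r') =
          (b - algebraMap R A r) + (b' - algebraMap R A r') := by rw [map_add]; ring
      rw [this]
      exact add_mem hr hr'
    | mul b b' _ _ hb hb' =>
      obtain ⟨r, hr⟩ := hb
      obtain ⟨r', hr'⟩ := hb'
      refine ⟨r * r', ?_⟩
      have : b * b' - algebraMap R A (r * r') =
          (b - algebraMap R A r) * b' + algebraMap R A r * (b' - algebraMap R A r') := by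
        rw [map_mul]; ring
      rw [this]
      exact add_mem (I.mul_mem_right _ hr) (I.mul_mem_left _ hr')
  apply (x : ProjectiveSpectrum 𝒜).not_irrelevant_le
  intro b hb
  have hb0 : (DirectSum.decompose 𝒜 b 0 : A) = 0 := by
    have := hb
    rw [HomogeneousIdeal.mem_irrelevant_iff] at this
    exact this
  obtain ⟨r, hr⟩ := key b
  have h0 := hI 0 hr
  have h1 : (DirectSum.decompose 𝒜 (b - algebraMap R A r) 0 : A) = - algebraMap R A r := by
    rw [DirectSum.decompose_sub, DirectSum.sub_apply, Submodule.coe_sub, hb0, zero_sub,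
      DirectSum.decompose_of_mem_same 𝒜 (SetLike.algebraMap_mem_graded 𝒜 r)]
  rw [h1] at h0
  have h2 : algebraMap R A r ∈ I := by simpa using I.neg_mem h0
  have h3 : b ∈ I := by
    have := add_mem hr h2
    simpa using this
  exact hIx h3

end

section Mod
variable {R A : Type u} [CommRing R] [CommRing A] [Algebra R A] (𝒜 : ℕ → Submodule R A)
  [GradedAlgebra 𝒜]
  {M : Type u} [AddCommGroup M] [Module R M] [Module A M] [IsScalarTower R A M]
  (ℳ : ℕ → Submodule R M) [DirectSum.Decomposition ℳ] [SetLike.GradedSMul 𝒜 ℳ]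

/-- **`M(m)~ ⊗ O(n) ≅ M(m+n)~`** when `O(n)` has, on an affine open cover, local generators with
inverses in `O(-n)`. -/
theorem isIso_mulHomM_of_cover (m n k : ℤ) (hk : m + n = k) {ι : Type u}
    (W : ι → (Proj 𝒜).Opens) (hW : ∀ i, IsAffineOpen (W i)) (hcov : ⨆ i, W i = ⊤)
    (e : ∀ i, Twist.sectN (𝒜 := 𝒜) n (op (W i)))
    (he : ∀ i, GenLocH8.IsGen (Twist.twist 𝒜 n) (W i) (e i))
    (e' : ∀ i, Twist.sectN (𝒜 := 𝒜) (-n) (op (W i)))
    (hee' : ∀ (i : ι) (x : W i),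
      ((((e' i).1 x : Twist.twistAt 𝒜 (-n) x.1) : Twist.Loc 𝒜 x.1)) *
        (((e i).1 x : Twist.twistAt 𝒜 n x.1) : Twist.Loc 𝒜 x.1) = 1) :
    IsIso (mulHomM 𝒜 ℳ m n k hk) := by
  haveI := Groth.Agent.ProjQC.isQuasicoherent_tilde 𝒜 ℳ m
  haveI := Groth.Agent.ProjQC.isQuasicoherent_tilde 𝒜 ℳ k
  haveI : (CohB1.tensorMod (GrTilde.tilde 𝒜 ℳ m) (Twist.twist 𝒜 n)).IsQuasicoherent :=
    TensQCH8.isQuasicoherent_tensorMod _ _
  refine QCohCrit.isIso_of_bijective_on_cover _ W hW hcov (fun i => ?_)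
  have hk' : k + -n = m := by omega
  have c1 : ∀ t : GrTilde.sect 𝒜 ℳ m (op (W i)),
      mulSecM 𝒜 ℳ k (-n) m hk' _ (mulSecM 𝒜 ℳ m n k hk _ t (e i)) (e' i) = t := by
    intro t
    apply Subtype.ext
    funext x
    apply Subtype.ext
    refine (smul_smul _ _ _).trans ?_
    rw [hee' i x, one_smul]
  have c2 : ∀ t : GrTilde.sect 𝒜 ℳ k (op (W i)),
      mulSecM 𝒜 ℳ m n k hk _ (mulSecM 𝒜 ℳ k (-n) m hk' _ t (e' i)) (e i) = t := by
    intro t
    apply Subtype.ext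
    funext x
    apply Subtype.ext
    refine (smul_smul _ _ _).trans ?_
    rw [mul_comm, hee' i x, one_smul]
  constructor
  · intro y y' hyy'
    obtain ⟨t, ht⟩ := TensH8.tmulGen_surjective (GrTilde.tilde 𝒜 ℳ m) (Twist.twist 𝒜 n) (he i)
      le_rfl y
    obtain ⟨t', ht'⟩ := TensH8.tmulGen_surjective (GrTilde.tilde 𝒜 ℳ m) (Twist.twist 𝒜 n) (he i)
      le_rfl y'
    rw [SubExt.rF_self] at ht ht'
    have hyy : QCohExtn.ap (mulHomM 𝒜 ℳ m n k hk) (W i) y =
        QCohExtn.ap (mulHomM 𝒜 ℳ m n k hk) (W i) y' := hyy'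
    rw [← ht, ← ht', mulHomM_tmul, mulHomM_tmul] at hyy
    have h2 : t = t' := by
      have h3 := congrArg (fun s => mulSecM 𝒜 ℳ k (-n) m hk' _ s (e' i)) hyy
      exact (c1 t).symm.trans (h3.trans (c1 t'))
    rw [← ht, ← ht', h2]
  · intro s
    refine ⟨SecTwist.tmul _ _ _ (mulSecM 𝒜 ℳ k (-n) m hk' _ s (e' i)) (e i), ?_⟩
    exact (mulHomM_tmul 𝒜 ℳ m n k hk _ _ _).trans (c2 s)

end Mod

section Tw
variable {R A : Type u} [CommRing R] [CommRing A] [Algebra R A] (𝒜 : ℕ → Submodule R A)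
  [GradedAlgebra 𝒜]

/-- `O(m) ⊗ O(n) ≅ O(m+n)` when `O(n)` has, on an affine open cover, local generators with
inverses in `O(-n)`. -/
theorem twist_tensor_iso_of_cover (m n : ℤ) {ι : Type u}
    (W : ι → (Proj 𝒜).Opens) (hW : ∀ i, IsAffineOpen (W i)) (hcov : ⨆ i, W i = ⊤)
    (e : ∀ i, Twist.sectN (𝒜 := 𝒜) n (op (W i)))
    (he : ∀ i, GenLocH8.IsGen (Twist.twist 𝒜 n) (W i) (e i))
    (e' : ∀ i, Twist.sectN (𝒜 := 𝒜) (-n) (op (W i)))
    (hee' : ∀ (i : ι) (x : W i),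
      ((((e' i).1 x : Twist.twistAt 𝒜 (-n) x.1) : Twist.Loc 𝒜 x.1)) *
        (((e i).1 x : Twist.twistAt 𝒜 n x.1) : Twist.Loc 𝒜 x.1) = 1) :
    Nonempty (CohB1.tensorMod (Twist.twist 𝒜 m) (Twist.twist 𝒜 n) ≅ Twist.twist 𝒜 (m + n)) := by
  haveI := isIso_mulHomM_of_cover 𝒜 (M := A) 𝒜 m n (m + n) rfl W hW hcov e he e' hee'
  have α : CohB1.tensorMod (GrTilde.tilde 𝒜 (M := A) 𝒜 m) (Twist.twist 𝒜 n) ≅
      GrTilde.tilde 𝒜 (M := A) 𝒜 (m + n) := asIso (mulHomM 𝒜 (M := A) 𝒜 m n (m + n) rfl)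
  exact ⟨PicGrp.tensorModIso (twistIso 𝒜 m) (Iso.refl _) ≪≫ α ≪≫ (twistIso 𝒜 (m + n)).symm⟩

/-- For generators `f i` of degrees `deg i > 0` and `l` a common multiple of the degrees:
`O(al) ⊗ O(n) ≅ O(al + n)`. -/
theorem twist_mul_lcm_tensor_iso {s : ℕ} (f : Fin s → A) (deg : Fin s → ℕ)
    (hdeg : ∀ i, 0 < deg i) (hf : ∀ i, f i ∈ 𝒜 (deg i))
    (hgen : Algebra.adjoin R (Set.range f) = ⊤) (l : ℕ) (hl : ∀ i, deg i ∣ l) (a n : ℤ) :
    Nonempty (CohB1.tensorMod (Twist.twist 𝒜 (a * (l : ℕ))) (Twist.twist 𝒜 n) ≅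
      Twist.twist 𝒜 (a * (l : ℕ) + n)) := by
  have hc : ∀ i, (a * (l : ℤ)) = (a * ((l / deg i : ℕ) : ℤ)) * (deg i : ℕ) := by
    intro i
    rw [mul_assoc]
    congr 1
    exact_mod_cast (Nat.div_mul_cancel (hl i)).symm
  have hc' : ∀ i, -(a * (l : ℤ)) = -(a * ((l / deg i : ℕ) : ℤ)) * (deg i : ℕ) := by
    intro i
    rw [neg_mul, ← hc i]
  obtain ⟨α⟩ := twist_tensor_iso_of_cover 𝒜 n (a * (l : ℤ))
    (fun i : ULift.{u} (Fin s) => Proj.basicOpen 𝒜 (f i.down))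
    (fun i => Proj.isAffineOpen_basicOpen 𝒜 (f i.down) (hf i.down) (hdeg i.down))
    (by
      rw [eq_top_iff]
      intro x _
      obtain ⟨i, hi⟩ := cover_of_adjoin 𝒜 f deg hdeg hf hgen x
      exact Opens.mem_iSup.mpr ⟨⟨i⟩, hi⟩)
    (fun i => genSecK 𝒜 (hf i.down) (a * ((l / deg i.down : ℕ) : ℤ)) (a * (l : ℤ)) (hc i.down))
    (fun i => isGen_genSecK 𝒜 (hdeg i.down) (hf i.down) _ _ (hc i.down))
    (fun i => genSecK 𝒜 (hf i.down) (-(a * ((l / deg i.down : ℕ) : ℤ))) (-(a * (l : ℤ)))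
      (hc' i.down))
    (fun i x => genSecK_mul_neg 𝒜 (hf i.down) _ _ _ (hc i.down) (hc' i.down) x)
  exact ⟨tensorModComm _ _ ≪≫ α ≪≫ eqToIso (congrArg (Twist.twist 𝒜) (add_comm _ _))⟩

end Tw

end Groth.Agent.ProjTw
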