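import Mathlib
import Groth.Prelude
import Groth.Agent.Lib.ProjTwAmple2_helper5
import Groth.Agent.Lib.Tens41_helper8
import Groth.Agent.Lib.GStar1_helper5
import Groth.Agent.Lib.ProjTwW_helper5

/-!
# Uniqueness part of the universal property of `Proj` of an algebra generated in degree one (helper5)
APPEND-ONLY once landed.
-/

set_option autoImplicit false
universe u
open CategoryTheory CategoryTheory.Limits AlgebraicGeometry TopologicalSpace Opposite DirectSum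
open HomogeneousLocalization QcqsLoc GenLocH8 TensH8 PBH8

namespace Groth.Agent.ProjUPU

section Gen
variable {X Y : Scheme.{u}} (r : X ⟶ Y) (N : Y.Modules)

theorem pullSec_eq_cUV (σ : Γ(N, ⊤)) :
    ProjUP.pullSec r N σ = cUV r N (le_top : (⊤ : X.Opens) ≤ r ⁻¹ᵁ ⊤) σ := by
  have h1 : cUV r N (le_top : (⊤ : X.Opens) ≤ r ⁻¹ᵁ ⊤) σ =
      rF ((Scheme.Modules.pullback r).obj N) (le_rfl : (⊤ : X.Opens) ≤ ⊤)
        (ProjUP.pullSec r N σ) := rfl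
  rw [h1, SubExt.rF_self]

/-- The restriction to `U` of the pulled-back global section. -/
noncomputable def psec (σ : Γ(N, ⊤)) (U : X.Opens) : Γ((Scheme.Modules.pullback r).obj N, U) :=
  rF ((Scheme.Modules.pullback r).obj N) (le_top : U ≤ ⊤) (ProjUP.pullSec r N σ)

theorem psec_eq_cUV (σ : Γ(N, ⊤)) {U : X.Opens} {V : Y.Opens} (h : U ≤ r ⁻¹ᵁ V) :
    psec r N σ U = cUV r N h (rF N (le_top : V ≤ ⊤) σ) := by
  unfold psec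
  rw [pullSec_eq_cUV, rF_cUV, cUV_resV]

theorem rF_psec (σ : Γ(N, ⊤)) {U U' : X.Opens} (h : U' ≤ U) :
    rF ((Scheme.Modules.pullback r).obj N) h (psec r N σ U) = psec r N σ U' := by
  unfold psec
  rw [rF_rF]

end Gen

section Proj
variable {A S : Type u} [CommRing A] [CommRing S] [Algebra A S] (𝒮 : ℕ → Submodule A S)
  [GradedAlgebra 𝒮]

/-- The global section `g` of `O(1)`. -/
noncomputable abbrev sig {g : S} (hg : g ∈ 𝒮 1) : Γ(Twist.twist 𝒮 1, ⊤) :=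
  Twist.globalOf 𝒮 ⟨g, hg⟩

/-- The generator `f` of `O(1)` over `D_+(f)`. -/
noncomputable abbrev gen1 {f : S} (hf : f ∈ 𝒮 1) : Γ(Twist.twist 𝒮 1, Proj.basicOpen 𝒮 f) :=
  ProjTw.genSecK 𝒮 hf 1 1 (by simp)

/-- The function `g / f` on `D_+(f)`. -/
noncomputable abbrev rat {f g : S} (hf : f ∈ 𝒮 1) (hg : g ∈ 𝒮 1) : Γ(Proj 𝒮, Proj.basicOpen 𝒮 f) :=
  ProjTw.ratio 𝒮 hf hg

theorem rF_sig {f g : S} (hf : f ∈ 𝒮 1) (hg : g ∈ 𝒮 1) :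
    rF (Twist.twist 𝒮 1) (le_top : Proj.basicOpen 𝒮 f ≤ ⊤) (sig 𝒮 hg) =
      rat 𝒮 hf hg • gen1 𝒮 hf := by
  apply Subtype.ext
  funext y
  apply Subtype.ext
  refine Eq.trans ?_ (ProjTw.smul_valN 𝒮 1 (op (ProjectiveSpectrum.basicOpen 𝒮 f))
    (ProjTw.ratio 𝒮 hf hg) (ProjTw.genSecK 𝒮 hf 1 1 (by simp)) y).symm
  rw [ProjTw.ratio_val]
  show Localization.mk _ _ = Localization.mk _ _ * Localization.mk _ _
  rw [Localization.mk_mul, Localization.mk_eq_mk_iff, Localization.r_iff_exists]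
  refine ⟨1, ?_⟩
  simp only [Submonoid.coe_mul, Submonoid.coe_one, one_mul]
  simp
  exact mul_comm f g

theorem rF_sig_self {f : S} (hf : f ∈ 𝒮 1) :
    rF (Twist.twist 𝒮 1) (le_top : Proj.basicOpen 𝒮 f ≤ ⊤) (sig 𝒮 hf) = gen1 𝒮 hf := by
  apply Subtype.ext
  funext y
  apply Subtype.ext
  show Localization.mk _ _ = Localization.mk _ _
  rw [Localization.mk_eq_mk_iff, Localization.r_iff_exists]
  exact ⟨1, by simp⟩

theorem basicOpen_rat {f g : S} (hf : f ∈ 𝒮 1) (hg : g ∈ 𝒮 1) :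
    (Proj 𝒮).basicOpen (rat 𝒮 hf hg) = Proj.basicOpen 𝒮 f ⊓ Proj.basicOpen 𝒮 g := by
  ext y
  constructor
  · intro hy
    have hyf : y ∈ Proj.basicOpen 𝒮 f := (Proj 𝒮).basicOpen_le _ hy
    refine ⟨hyf, ?_⟩
    have h2 := (Groth.Agent.ProjQC.mem_basicOpen_iff 𝒮 _ _ y hyf).mp hy
    exact (Groth.Agent.ProjQC.isUnit_iff_of_val 𝒮 y _ g (f ^ 1)
      (fun h => hyf (y.isPrime.mem_of_pow_mem _ h)) (ProjTw.ratio_val 𝒮 hf hg ⟨y, hyf⟩)).mp h2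
  · rintro ⟨hyf, hyg⟩
    apply (Groth.Agent.ProjQC.mem_basicOpen_iff 𝒮 _ _ y hyf).mpr
    exact (Groth.Agent.ProjQC.isUnit_iff_of_val 𝒮 y _ g (f ^ 1)
      (fun h => hyf (y.isPrime.mem_of_pow_mem _ h)) (ProjTw.ratio_val 𝒮 hf hg ⟨y, hyf⟩)).mpr hyg

end Proj

section Dehom
variable {A S : Type u} [CommRing A] [CommRing S] [Algebra A S] (𝒮 : ℕ → Submodule A S)
  [GradedAlgebra 𝒮] {g : S} (hg : g ∈ 𝒮 1)

/-- `g` as an index for the `GStar.frO` API. -/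
abbrev ix : GStar.Idx 𝒮 {g} := ⟨g, hg, Finset.mem_singleton_self g⟩

/-- Dehomogenisation `a ↦ Σ a_n / g^n`, a ring homomorphism `S → Γ(D_+(g), O)`. -/
noncomputable def dehomAux : (⨁ i, 𝒮 i) →+* Γ(Proj 𝒮, Proj.basicOpen 𝒮 g) :=
  DirectSum.toSemiring
    (fun n => ({ toFun := fun a => GStar.frO (ix 𝒮 hg) n a.1 a.2
                 map_zero' := GStar.frO_zero _ _
                 map_add' := fun a b => GStar.frO_add _ _ _ _ a.2 b.2 } :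
      𝒮 n →+ Γ(Proj 𝒮, Proj.basicOpen 𝒮 g)))
    (GStar.frO_one _) (fun a b => GStar.frO_mul _ _ _ _ _ a.2 b.2)

theorem dehomAux_of (n : ℕ) (a : 𝒮 n) :
    dehomAux 𝒮 hg (DirectSum.of (fun i => 𝒮 i) n a) = GStar.frO (ix 𝒮 hg) n a.1 a.2 := by
  unfold dehomAux
  rw [DirectSum.toSemiring_of]
  rfl

noncomputable def dehom : S →+* Γ(Proj 𝒮, Proj.basicOpen 𝒮 g) :=
  (dehomAux 𝒮 hg).comp (DirectSum.decomposeRingEquiv 𝒮).toRingHom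

theorem dehom_of_mem {n : ℕ} {a : S} (ha : a ∈ 𝒮 n) :
    dehom 𝒮 hg a = GStar.frO (ix 𝒮 hg) n a ha := by
  show dehomAux 𝒮 hg (DirectSum.decompose 𝒮 a) = _
  rw [DirectSum.decompose_of_mem 𝒮 ha, dehomAux_of]

theorem dehom_surjective : Function.Surjective (dehom 𝒮 hg) := by
  intro c
  have hiso : IsIso (Proj.awayToSection 𝒮 g) :=
    (Proj.basicOpenIsoAway 𝒮 g hg one_pos).isIso_hom
  have hbij := ConcreteCategory.bijective_of_isIso (Proj.awayToSection 𝒮 g)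
  obtain ⟨z, rfl⟩ := hbij.2 c
  obtain ⟨n, a, ha, rfl⟩ := Away.mk_surjective 𝒮 hg z
  have ha' : a ∈ 𝒮 n := by simpa using ha
  exact ⟨a, (dehom_of_mem 𝒮 hg ha').trans rfl⟩

theorem dehom_eq_rat {b : S} (hb : b ∈ 𝒮 1) : dehom 𝒮 hg b = rat 𝒮 hg hb :=
  (dehom_of_mem 𝒮 hg hb).trans rfl

theorem dehom_algebraMap (a : A) :
    dehom 𝒮 hg (algebraMap A S a) =
      (Proj.awayToSection 𝒮 g).hom (HomogeneousLocalization.fromZeroRingHom 𝒮 _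
        (algebraMap A (𝒮 0) a)) := by
  rw [dehom_of_mem 𝒮 hg (SetLike.algebraMap_mem_graded 𝒮 a)]
  show (Proj.awayToSection 𝒮 g).hom _ = _
  congr 1
  apply HomogeneousLocalization.val_injective
  show Localization.mk _ _ = Localization.mk _ _
  rw [Localization.mk_eq_mk_iff, Localization.r_iff_exists]
  exact ⟨1, by simp⟩

end Dehom

section Pull
variable {A S : Type u} [CommRing A] [CommRing S] [Algebra A S] (𝒮 : ℕ → Submodule A S)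
  [GradedAlgebra 𝒮] {X : Scheme.{u}} (r : X ⟶ Proj 𝒮)

theorem psec_eq_smul {f g : S} (hf : f ∈ 𝒮 1) (hg : g ∈ 𝒮 1) {U : X.Opens}
    (h : U ≤ r ⁻¹ᵁ Proj.basicOpen 𝒮 f) :
    psec r (Twist.twist 𝒮 1) (sig 𝒮 hg) U =
      (r.appLE (Proj.basicOpen 𝒮 f) U h (rat 𝒮 hf hg)) •
        psec r (Twist.twist 𝒮 1) (sig 𝒮 hf) U := by
  rw [psec_eq_cUV r _ _ h, psec_eq_cUV r _ _ h, rF_sig 𝒮 hf hg, rF_sig_self, cUV_smul]

theorem isGen_psec (hcov : ∀ x : Proj 𝒮, ∃ f ∈ 𝒮 1, x ∈ Proj.basicOpen 𝒮 f) {f : S}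
    (hf : f ∈ 𝒮 1) {U : X.Opens} (h : U ≤ r ⁻¹ᵁ Proj.basicOpen 𝒮 f) :
    IsGen ((Scheme.Modules.pullback r).obj (Twist.twist 𝒮 1)) U
      (psec r (Twist.twist 𝒮 1) (sig 𝒮 hf) U) := by
  have h1 := (isGen_cUV r (ProjTw.isInvertible_twist 𝒮 hcov 1)
    (Proj.isAffineOpen_basicOpen 𝒮 f hf one_pos)
    (ProjTw.isGen_genSecK 𝒮 one_pos hf 1 1 (by simp))).res h
  rw [rF_cUV] at h1
  rw [psec_eq_cUV r _ _ h, rF_sig_self]
  exact h1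

theorem mem_of_isGen (hcov : ∀ x : Proj 𝒮, ∃ f ∈ 𝒮 1, x ∈ Proj.basicOpen 𝒮 f) {g : S}
    (hg : g ∈ 𝒮 1) {U : X.Opens}
    (hU : IsGen ((Scheme.Modules.pullback r).obj (Twist.twist 𝒮 1)) U
      (psec r (Twist.twist 𝒮 1) (sig 𝒮 hg) U)) {x : X} (hx : x ∈ U) :
    x ∈ r ⁻¹ᵁ Proj.basicOpen 𝒮 g := by
  obtain ⟨f, hf, hxf⟩ := hcov (r x)
  have h' : U ⊓ r ⁻¹ᵁ Proj.basicOpen 𝒮 f ≤ r ⁻¹ᵁ Proj.basicOpen 𝒮 f := inf_le_right
  have heq := psec_eq_smul 𝒮 r hf hg h'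
  have hgen1 := isGen_psec 𝒮 r hcov hf h'
  have hgen2 : IsGen ((Scheme.Modules.pullback r).obj (Twist.twist 𝒮 1))
      (U ⊓ r ⁻¹ᵁ Proj.basicOpen 𝒮 f)
      (psec r (Twist.twist 𝒮 1) (sig 𝒮 hg) (U ⊓ r ⁻¹ᵁ Proj.basicOpen 𝒮 f)) := by
    have := hU.res (inf_le_left : U ⊓ r ⁻¹ᵁ Proj.basicOpen 𝒮 f ≤ U)
    rwa [rF_psec] at this
  rw [heq] at hgen2
  have hc := isUnit_of_isGen_smul hgen1 hgen2
  have h5 := Scheme.basicOpen_of_isUnit X hc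
  rw [Scheme.basicOpen_appLE, basicOpen_rat] at h5
  have hx' : x ∈ U ⊓ r ⁻¹ᵁ Proj.basicOpen 𝒮 f := ⟨hx, hxf⟩
  rw [← h5] at hx'
  exact hx'.2.2

end Pull

section Uniq
variable {A S : Type u} [CommRing A] [CommRing S] [Algebra A S] (𝒮 : ℕ → Submodule A S)
  [GradedAlgebra 𝒮] {X : Scheme.{u}} (r r' : X ⟶ Proj 𝒮)
  (τ : (Scheme.Modules.pullback r).obj (Twist.twist 𝒮 1) ≅
    (Scheme.Modules.pullback r').obj (Twist.twist 𝒮 1))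

/-- `τ` carries the pullback of the section `g` under `r` to its pullback under `r'`. -/
def Compat {g : S} (hg : g ∈ 𝒮 1) : Prop :=
  τ.hom.app ⊤ (ProjUP.pullSec r (Twist.twist 𝒮 1) (sig 𝒮 hg)) =
    ProjUP.pullSec r' (Twist.twist 𝒮 1) (sig 𝒮 hg)

variable {𝒮 r r' τ}

theorem ap_psec {g : S} {hg : g ∈ 𝒮 1} (hτ : Compat 𝒮 r r' τ hg) (U : X.Opens) :
    QCohExtn.ap τ.hom U (psec r (Twist.twist 𝒮 1) (sig 𝒮 hg) U) =
      psec r' (Twist.twist 𝒮 1) (sig 𝒮 hg) U := by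
  unfold psec
  rw [QCohExtn.ap_rF]
  exact congrArg _ hτ

theorem mem_preimage_of_compat (hcov : ∀ x : Proj 𝒮, ∃ f ∈ 𝒮 1, x ∈ Proj.basicOpen 𝒮 f)
    {g : S} {hg : g ∈ 𝒮 1} (hτ : Compat 𝒮 r r' τ hg) {x : X}
    (hx : x ∈ r ⁻¹ᵁ Proj.basicOpen 𝒮 g) : x ∈ r' ⁻¹ᵁ Proj.basicOpen 𝒮 g := by
  refine mem_of_isGen 𝒮 r' hcov hg (U := r ⁻¹ᵁ Proj.basicOpen 𝒮 g) ?_ hx
  have := isGen_of_iso τ (isGen_psec 𝒮 r hcov hg le_rfl)
  rwa [ap_psec hτ] at this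

theorem appLE_rat_eq (hcov : ∀ x : Proj 𝒮, ∃ f ∈ 𝒮 1, x ∈ Proj.basicOpen 𝒮 f)
    {g b : S} {hg : g ∈ 𝒮 1} {hb : b ∈ 𝒮 1} (hτg : Compat 𝒮 r r' τ hg)
    (hτb : Compat 𝒮 r r' τ hb) {W : X.Opens} (h : W ≤ r ⁻¹ᵁ Proj.basicOpen 𝒮 g)
    (h' : W ≤ r' ⁻¹ᵁ Proj.basicOpen 𝒮 g) :
    r.appLE (Proj.basicOpen 𝒮 g) W h (rat 𝒮 hg hb) =
      r'.appLE (Proj.basicOpen 𝒮 g) W h' (rat 𝒮 hg hb) := by
  have e1 := psec_eq_smul 𝒮 r hg hb h
  have e2 := psec_eq_smul 𝒮 r' hg hb h'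
  have e3 := congrArg (QCohExtn.ap τ.hom W) e1
  rw [QCohExtn.ap_smul, ap_psec hτb, ap_psec hτg] at e3
  exact IsGen.coef_ext (isGen_psec 𝒮 r' hcov hg h') (e3.symm.trans e2)

end Uniq

section Chart
variable {A S : Type u} [CommRing A] [CommRing S] [Algebra A S] (𝒮 : ℕ → Submodule A S)
  [GradedAlgebra 𝒮] {X : Scheme.{u}} (r : X ⟶ Proj 𝒮) {g : S} (hg : g ∈ 𝒮 1) {W : X.Opens}
  (h : W ≤ r ⁻¹ᵁ Proj.basicOpen 𝒮 g)

/-- The restriction of `r` to `W ⊆ r⁻¹ D_+(g)`, as a morphism to the affine chart. -/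
noncomputable def tW : W.toScheme ⟶ Spec (CommRingCat.of (Away 𝒮 g)) :=
  r.resLE (Proj.basicOpen 𝒮 g) W h ≫ Proj.basicOpenToSpec 𝒮 g

theorem tW_appTop :
    (Scheme.ΓSpecIso _).inv ≫ (tW 𝒮 r h).appTop =
      Proj.awayToSection 𝒮 g ≫ r.appLE (Proj.basicOpen 𝒮 g) W h ≫ W.topIso.inv := by
  unfold tW
  have h1 : (Proj.basicOpenToSpec 𝒮 g).appTop = (Scheme.ΓSpecIso _).hom ≫
      Proj.awayToSection 𝒮 g ≫ (Proj.basicOpen 𝒮 g).topIso.inv :=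
    Proj.basicOpenToSpec_app_top 𝒮 g
  have h2 : (r.resLE (Proj.basicOpen 𝒮 g) W h).appTop =
      (Proj.basicOpen 𝒮 g).topIso.hom ≫ r.appLE (Proj.basicOpen 𝒮 g) W h ≫ W.topIso.inv :=
    Scheme.Hom.resLE_app_top r h
  rw [Scheme.Hom.comp_appTop, h1, h2]
  simp only [Category.assoc, Iso.inv_hom_id_assoc]

include hg in
theorem tW_comp :
    tW 𝒮 r h ≫ Spec.map (CommRingCat.ofHom (HomogeneousLocalization.fromZeroRingHom 𝒮 _)) =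
      W.ι ≫ r ≫ Proj.toSpecZero 𝒮 := by
  unfold tW
  have key : Proj.basicOpenToSpec 𝒮 g ≫
      Spec.map (CommRingCat.ofHom (HomogeneousLocalization.fromZeroRingHom 𝒮 _)) =
      (Proj.basicOpen 𝒮 g).ι ≫ Proj.toSpecZero 𝒮 := by
    rw [← Proj.awayι_toSpecZero 𝒮 g hg one_pos, ← Proj.basicOpenIsoSpec_inv_ι,
      ← Proj.basicOpenIsoSpec_hom 𝒮 g hg one_pos]
    simp
  rw [Category.assoc, key, Scheme.Hom.resLE_comp_ι_assoc]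

end Chart

section Main
variable {A S : Type u} [CommRing A] [CommRing S] [Algebra A S] (𝒮 : ℕ → Submodule A S)
  [GradedAlgebra 𝒮] {X : Scheme.{u}} (r r' : X ⟶ Proj 𝒮)

theorem appLE_algebraMap_eq
    (hrr' : r ≫ Proj.toSpecZero 𝒮 ≫ Spec.map (CommRingCat.ofHom (algebraMap A (𝒮 0))) =
      r' ≫ Proj.toSpecZero 𝒮 ≫ Spec.map (CommRingCat.ofHom (algebraMap A (𝒮 0))))
    {g : S} (hg : g ∈ 𝒮 1) {W : X.Opens} (h : W ≤ r ⁻¹ᵁ Proj.basicOpen 𝒮 g)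
    (h' : W ≤ r' ⁻¹ᵁ Proj.basicOpen 𝒮 g) (a : A) :
    (r.appLE (Proj.basicOpen 𝒮 g) W h).hom (dehom 𝒮 hg (algebraMap A S a)) =
      (r'.appLE (Proj.basicOpen 𝒮 g) W h').hom (dehom 𝒮 hg (algebraMap A S a)) := by
  rw [dehom_algebraMap]
  have e : tW 𝒮 r h ≫
      Spec.map (CommRingCat.ofHom (HomogeneousLocalization.fromZeroRingHom 𝒮 _)) ≫
        Spec.map (CommRingCat.ofHom (algebraMap A (𝒮 0))) =
      tW 𝒮 r' h' ≫
      Spec.map (CommRingCat.ofHom (HomogeneousLocalization.fromZeroRingHom 𝒮 _)) ≫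
        Spec.map (CommRingCat.ofHom (algebraMap A (𝒮 0))) := by
    rw [← Category.assoc, tW_comp 𝒮 r hg h, ← Category.assoc (tW 𝒮 r' h'), tW_comp 𝒮 r' hg h',
      Category.assoc, Category.assoc, Category.assoc, Category.assoc, hrr']
  have e2 : ∀ t : W.toScheme ⟶ Spec (CommRingCat.of (Away 𝒮 g)),
      (Scheme.ΓSpecIso (CommRingCat.of A)).inv ≫ (t ≫
        Spec.map (CommRingCat.ofHom (HomogeneousLocalization.fromZeroRingHom 𝒮 _)) ≫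
          Spec.map (CommRingCat.ofHom (algebraMap A (𝒮 0)))).appTop =
      CommRingCat.ofHom (algebraMap A (𝒮 0)) ≫
        CommRingCat.ofHom (HomogeneousLocalization.fromZeroRingHom 𝒮 _) ≫
          (Scheme.ΓSpecIso _).inv ≫ t.appTop := by
    intro t
    simp only [Scheme.Hom.comp_appTop, Category.assoc]
    rw [← Scheme.ΓSpecIso_inv_naturality_assoc, ← Scheme.ΓSpecIso_inv_naturality_assoc]
  have e3 : (CommRingCat.ofHom (algebraMap A (𝒮 0)) ≫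
        CommRingCat.ofHom (HomogeneousLocalization.fromZeroRingHom 𝒮 _) ≫
          Proj.awayToSection 𝒮 g ≫ r.appLE (Proj.basicOpen 𝒮 g) W h) ≫ W.topIso.inv =
      (CommRingCat.ofHom (algebraMap A (𝒮 0)) ≫
        CommRingCat.ofHom (HomogeneousLocalization.fromZeroRingHom 𝒮 _) ≫
          Proj.awayToSection 𝒮 g ≫ r'.appLE (Proj.basicOpen 𝒮 g) W h') ≫ W.topIso.inv := by
    simp only [Category.assoc]
    rw [← tW_appTop 𝒮 r h, ← tW_appTop 𝒮 r' h', ← e2 (tW 𝒮 r h), ← e2 (tW 𝒮 r' h'), e]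
  have e4 := (cancel_mono W.topIso.inv).mp e3
  exact congrArg (fun φ => φ.hom a) e4

theorem eq_of_compat (G : Set S) (hG : ∀ g ∈ G, g ∈ 𝒮 1) (hadj : Algebra.adjoin A G = ⊤)
    (hrr' : r ≫ Proj.toSpecZero 𝒮 ≫ Spec.map (CommRingCat.ofHom (algebraMap A (𝒮 0))) =
      r' ≫ Proj.toSpecZero 𝒮 ≫ Spec.map (CommRingCat.ofHom (algebraMap A (𝒮 0))))
    (τ : (Scheme.Modules.pullback r).obj (Twist.twist 𝒮 1) ≅
      (Scheme.Modules.pullback r').obj (Twist.twist 𝒮 1))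
    (hτ : ∀ g (hg : g ∈ G), Compat 𝒮 r r' τ (hG g hg)) : r = r' := by
  have hcovG : ∀ x : Proj 𝒮, ∃ g ∈ G, x ∈ Proj.basicOpen 𝒮 g := by
    intro x
    obtain ⟨i, hi⟩ := ProjTw.cover_of_adjoin 𝒮 (fun g : G => g.1) (fun _ => 1)
      (fun _ => one_pos) (fun g => hG g.1 g.2) (by simpa using hadj) x
    exact ⟨i.1, i.2, hi⟩
  have hcov : ∀ x : Proj 𝒮, ∃ f ∈ 𝒮 1, x ∈ Proj.basicOpen 𝒮 f := fun x => by
    obtain ⟨g, hg, hx⟩ := hcovG x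
    exact ⟨g, hG g hg, hx⟩
  apply Scheme.hom_ext_of_forall
  intro x
  obtain ⟨g, hgG, hx⟩ := hcovG (r x)
  have hg := hG g hgG
  have hx1 : x ∈ r ⁻¹ᵁ Proj.basicOpen 𝒮 g := hx
  have hx' : x ∈ r' ⁻¹ᵁ Proj.basicOpen 𝒮 g := mem_preimage_of_compat hcov (hτ g hgG) hx1
  refine ⟨r ⁻¹ᵁ Proj.basicOpen 𝒮 g ⊓ r' ⁻¹ᵁ Proj.basicOpen 𝒮 g, ⟨hx1, hx'⟩, ?_⟩
  have h : r ⁻¹ᵁ Proj.basicOpen 𝒮 g ⊓ r' ⁻¹ᵁ Proj.basicOpen 𝒮 g ≤ r ⁻¹ᵁ Proj.basicOpen 𝒮 g :=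
    inf_le_left
  have h' : r ⁻¹ᵁ Proj.basicOpen 𝒮 g ⊓ r' ⁻¹ᵁ Proj.basicOpen 𝒮 g ≤ r' ⁻¹ᵁ Proj.basicOpen 𝒮 g :=
    inf_le_right
  generalize r ⁻¹ᵁ Proj.basicOpen 𝒮 g ⊓ r' ⁻¹ᵁ Proj.basicOpen 𝒮 g = W at h h'
  have key0 : (r.appLE (Proj.basicOpen 𝒮 g) W h).hom.comp (dehom 𝒮 hg) =
      (r'.appLE (Proj.basicOpen 𝒮 g) W h').hom.comp (dehom 𝒮 hg) := by
    apply RingHom.ext
    intro a
    have ha : a ∈ Algebra.adjoin A G := hadj ▸ Algebra.mem_top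
    induction ha using Algebra.adjoin_induction with
    | mem b hb =>
      simp only [RingHom.comp_apply]
      rw [dehom_eq_rat 𝒮 hg (hG b hb)]
      exact appLE_rat_eq hcov (hτ g hgG) (hτ b hb) h h'
    | algebraMap a => exact appLE_algebraMap_eq 𝒮 r r' hrr' hg h h' a
    | add a b _ _ ha hb => rw [map_add, map_add, ha, hb]
    | mul a b _ _ ha hb => rw [map_mul, map_mul, ha, hb]
  have key : r.appLE (Proj.basicOpen 𝒮 g) W h = r'.appLE (Proj.basicOpen 𝒮 g) W h' := by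
    ext c
    obtain ⟨a, rfl⟩ := dehom_surjective 𝒮 hg c
    exact RingHom.congr_fun key0 a
  have e1 : r.resLE (Proj.basicOpen 𝒮 g) W h = r'.resLE (Proj.basicOpen 𝒮 g) W h' := by
    haveI : IsAffine (Proj.basicOpen 𝒮 g).toScheme := Proj.isAffineOpen_basicOpen 𝒮 g hg one_pos
    apply ext_of_isAffine
    have h1 : (r.resLE (Proj.basicOpen 𝒮 g) W h).appTop =
        (Proj.basicOpen 𝒮 g).topIso.hom ≫ r.appLE (Proj.basicOpen 𝒮 g) W h ≫ W.topIso.inv :=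
      Scheme.Hom.resLE_app_top r h
    have h2 : (r'.resLE (Proj.basicOpen 𝒮 g) W h').appTop =
        (Proj.basicOpen 𝒮 g).topIso.hom ≫ r'.appLE (Proj.basicOpen 𝒮 g) W h' ≫ W.topIso.inv :=
      Scheme.Hom.resLE_app_top r' h'
    rw [h1, h2, key]
  rw [← Scheme.Hom.resLE_comp_ι r h, ← Scheme.Hom.resLE_comp_ι r' h', e1]

end Main

end Groth.Agent.ProjUPU
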