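import Mathlib
import Groth.Prelude
import Groth.Agent.Lib.QcqsLoc_helper9

/-!
# Morphisms of `O_X`-modules from data on a basis of opens (helper5).  APPEND-ONLY once landed.
-/

set_option autoImplicit false
universe u
open CategoryTheory CategoryTheory.Limits AlgebraicGeometry TopologicalSpace Opposite

namespace Groth.Agent.ModHomBasis

open QcqsLoc

variable {X : Scheme.{u}}

/-- Two sections agree as soon as they agree on all members of a basis contained in the open. -/
theorem eq_of_forall_basis (F : X.Modules) {ι : Type*} (B : ι → X.Opens)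
    (hB : Opens.IsBasis (Set.range B)) {O : X.Opens} (s t : Γ(F, O))
    (h : ∀ (i : ι) (hi : B i ≤ O), rF F hi s = rF F hi t) : s = t := by
  apply eq_of_cover F s t
  intro x hx
  obtain ⟨W, ⟨i, rfl⟩, hxW, hWO⟩ := (Opens.isBasis_iff_nbhd.mp hB) hx
  exact ⟨B i, hWO, hxW, h i hWO⟩

/-- **A morphism of `O_X`-modules may be defined on a basis of opens.** -/
theorem exists_hom_of_basis (G F : X.Modules) {ι : Type*} (B : ι → X.Opens)
    (hB : Opens.IsBasis (Set.range B))
    (α : ∀ i, Γ(G, B i) → Γ(F, B i))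
    (hadd : ∀ i x y, α i (x + y) = α i x + α i y)
    (hsmul : ∀ i (r : Γ(X, B i)) x, α i (r • x) = r • α i x)
    (hnat : ∀ i j (h : B j ≤ B i) x, α j (rF G h x) = rF F h (α i x)) :
    ∃ φ : G ⟶ F, ∀ i x, φ.app (B i) x = α i x := by
  have hzero : ∀ i, α i 0 = 0 := fun i => by
    have := hadd i 0 0
    rw [add_zero] at this
    exact left_eq_add.mp this
  let αf : ∀ i, Γ(G, B i) →+ Γ(F, B i) := fun i =>
    { toFun := α i, map_zero' := hzero i, map_add' := hadd i }
  let nt : (inducedFunctor B).op ⋙ G.presheaf ⟶ (inducedFunctor B).op ⋙ F.presheaf :=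
    { app := fun i => AddCommGrpCat.ofHom (αf i.unop)
      naturality := fun i j g => by
        ext x
        exact hnat i.unop j.unop g.unop.hom.le x }
  let φ : G.presheaf ⟶ F.presheaf :=
    TopCat.Sheaf.restrictHomEquivHom G.presheaf ⟨F.presheaf, F.isSheaf⟩ hB nt
  have hφ : ∀ (i : ι) (x : Γ(G, B i)), φ.app (op (B i)) x = α i x := by
    intro i x
    have h1 := TopCat.Sheaf.extend_hom_app G.presheaf ⟨F.presheaf, F.isSheaf⟩ hB nt i
    exact congrArg (fun k => k.hom x) h1
  have hnat' : ∀ {O O' : X.Opens} (e : O' ≤ O) (x : Γ(G, O)),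
      rF F e (φ.app (op O) x) = φ.app (op O') (rF G e x) :=
    fun e x => (NatTrans.naturality_apply φ (homOfLE e).op x).symm
  have hlin : ∀ (O : X.Opens) (r : Γ(X, O)) (m : Γ(G, O)),
      φ.app (op O) (r • m) = r • φ.app (op O) m := by
    intro O r m
    refine eq_of_forall_basis F B hB _ _ fun i hi => ?_
    rw [hnat' hi, rF_smul, rF_smul, hφ, hsmul, ← hφ, hnat' hi]
  exact ⟨⟨PresheafOfModules.homMk (M₁ := G.val) (M₂ := F.val) φ
    (fun U r m => hlin U.unop r m)⟩, fun i x => hφ i x⟩

end Groth.Agent.ModHomBasis
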