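import Mathlib
import Groth.Prelude
import Groth.Agent.Lib.ProjUP1_helper5
import Groth.Agent.Lib.ModHomBasis_helper5

/-!
# Isomorphisms of invertible modules from matching local generators (helper5)
APPEND-ONLY once landed.
-/

set_option autoImplicit false
universe u
open CategoryTheory CategoryTheory.Limits AlgebraicGeometry TopologicalSpace Opposite
open QcqsLoc GenLocH8 TensH8 FLFH8 QCohExtn

namespace Groth.Agent.ProjUPE

section LF
variable {X : Scheme.{u}} {L M : X.Modules} (D : LocalFrame L M 1)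

theorem phi_add (W : X.Opens) (x y : Γ(L, W)) : D.phi W (x + y) = D.phi W x + D.phi W y := by
  apply eq_of_cover M
  intro z hz
  obtain ⟨k, hk⟩ := D.cover z
  have hQW : W ⊓ D.O k ≤ W := inf_le_left
  have hQk : W ⊓ D.O k ≤ D.O k := inf_le_right
  obtain ⟨c, hc⟩ := ((D.he k).res hQk).exists_coef (rF L hQW x)
  obtain ⟨d, hd⟩ := ((D.he k).res hQk).exists_coef (rF L hQW y)
  refine ⟨W ⊓ D.O k, hQW, ⟨hz, hk⟩, ?_⟩
  have hcd : rF L hQW (x + y) = (c + d) • rF L hQk (D.e k) := by
    rw [map_add, hc, hd, add_smul]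
  rw [D.phi_spec W (x + y) hQW hQk _ hcd, map_add, D.phi_spec W x hQW hQk c hc,
    D.phi_spec W y hQW hQk d hd, pow_one, pow_one, pow_one, add_smul]

/-- The local frame with the roles of the two modules exchanged. -/
noncomputable def symm : LocalFrame M L 1 where
  ι := D.ι
  O := D.O
  e := D.m
  m := D.e
  he := D.hm
  hm := D.he
  cover := D.cover
  compat := by
    intro k l c hc
    obtain ⟨d, hd⟩ := ((D.he l).res (inf_le_right : D.O k ⊓ D.O l ≤ D.O l)).exists_coef
      (rF L (inf_le_left : D.O k ⊓ D.O l ≤ D.O k) (D.e k))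
    have h1 := D.compat k l d hd
    rw [pow_one] at h1
    have h2 : c = d := IsGen.coef_ext ((D.hm l).res inf_le_right) (hc.symm.trans h1)
    rw [pow_one, h2]
    exact hd

theorem symm_phi_phi (W : X.Opens) (x : Γ(L, W)) : (symm D).phi W (D.phi W x) = x := by
  apply eq_of_cover L
  intro z hz
  obtain ⟨k, hk⟩ := D.cover z
  have hQW : W ⊓ D.O k ≤ W := inf_le_left
  have hQk : W ⊓ D.O k ≤ D.O k := inf_le_right
  obtain ⟨c, hc⟩ := ((D.he k).res hQk).exists_coef (rF L hQW x)
  refine ⟨W ⊓ D.O k, hQW, ⟨hz, hk⟩, ?_⟩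
  have h1 := D.phi_spec W x hQW hQk c hc
  rw [pow_one] at h1
  have h2 := (symm D).phi_spec W (D.phi W x) (k := k) hQW hQk c h1
  rw [pow_one] at h2
  rw [h2, hc]
  rfl

theorem phi_symm_phi (W : X.Opens) (y : Γ(M, W)) : D.phi W ((symm D).phi W y) = y := by
  apply eq_of_cover M
  intro z hz
  obtain ⟨k, hk⟩ := D.cover z
  have hQW : W ⊓ D.O k ≤ W := inf_le_left
  have hQk : W ⊓ D.O k ≤ D.O k := inf_le_right
  obtain ⟨c, hc⟩ := ((D.hm k).res hQk).exists_coef (rF M hQW y)
  refine ⟨W ⊓ D.O k, hQW, ⟨hz, hk⟩, ?_⟩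
  have h1 := (symm D).phi_spec W y (k := k) hQW hQk c hc
  rw [pow_one] at h1
  have h2 := D.phi_spec W ((symm D).phi W y) (k := k) hQW hQk c h1
  rw [pow_one] at h2
  rw [h2, hc]

/-- **Matching local generators give an isomorphism.** -/
theorem exists_iso : ∃ θ : L ≅ M, ∀ (W : X.Opens) (x : Γ(L, W)), ap θ.hom W x = D.phi W x := by
  have hB : Opens.IsBasis (Set.range (fun W : X.Opens => W)) := by
    rw [Opens.isBasis_iff_nbhd]
    intro W x hx
    exact ⟨W, ⟨W, rfl⟩, hx, le_rfl⟩
  obtain ⟨φ, hφ⟩ := ModHomBasis.exists_hom_of_basis L M (fun W : X.Opens => W) hB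
    (fun W x => D.phi W x) (fun W x y => phi_add D W x y)
    (fun W r x => by
      have := D.toFrame.smul W r x
      rw [pow_one] at this
      exact this)
    (fun W W' h x => (D.toFrame.res h x).symm)
  have hiso : IsIso φ := by
    apply SubExt.isIso_of_bijective
    intro W
    constructor
    · intro x y hxy
      have h1 : D.phi W x = D.phi W y := by
        rw [← hφ W x, ← hφ W y]; exact hxy
      rw [← symm_phi_phi D W x, ← symm_phi_phi D W y, h1]
    · intro y
      exact ⟨(symm D).phi W y, (hφ W _).trans (phi_symm_phi D W y)⟩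
  exact ⟨asIso φ, fun W x => hφ W x⟩

theorem exists_iso' : ∃ θ : L ≅ M, ∀ k, ap θ.hom (D.O k) (D.e k) = D.m k := by
  obtain ⟨θ, hθ⟩ := exists_iso D
  exact ⟨θ, fun k => (hθ _ _).trans (D.toFrame_φ_eq k)⟩

end LF

end Groth.Agent.ProjUPE
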