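import Mathlib
import Groth.Prelude
import Groth.Agent.Lib.ProjUP1_helper5
import Groth.Agent.Lib.ProjUP2_helper5

/-!
# Existence part of the universal property of Proj of a symmetric algebra, part 3 (helper5)
APPEND-ONLY once landed.
-/

set_option autoImplicit false
universe u
open CategoryTheory CategoryTheory.Limits AlgebraicGeometry TopologicalSpace Opposite
open HomogeneousLocalization QcqsLoc GenLocH8 TensH8 FLFH8 QCohExtn PBH8

namespace Groth.Agent.ProjUPE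

open Groth.Agent.ProjUPU

section LM
variable {X Z : Scheme.{u}} {D : Z.Opens} (hD : IsAffineOpen D) {V : X.Opens}
  (φ : Γ(Z, D) ⟶ Γ(X, V))

/-- The morphism `V ⟶ Z` into the affine open `D` given by a ring map `Γ(Z, D) ⟶ Γ(X, V)`. -/
noncomputable def lm : V.toScheme ⟶ Z := V.toSpecΓ ≫ Spec.map φ ≫ hD.fromSpec

theorem lm_mem (y : V.toScheme) : lm hD φ y ∈ D := by
  have h : lm hD φ y ∈ Set.range hD.fromSpec := ⟨(V.toSpecΓ ≫ Spec.map φ) y, rfl⟩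
  rw [hD.range_fromSpec] at h
  exact h

theorem top_le_lm : (⊤ : V.toScheme.Opens) ≤ lm hD φ ⁻¹ᵁ D := fun y _ => lm_mem hD φ y

theorem fromSpec_appLE_top (e : (⊤ : (Spec Γ(Z, D)).Opens) ≤ hD.fromSpec ⁻¹ᵁ D) :
    hD.fromSpec.appLE D ⊤ e = (Scheme.ΓSpecIso Γ(Z, D)).inv := by
  rw [Scheme.Hom.appLE, hD.fromSpec_app_self, Category.assoc, ← Functor.map_comp]
  have : (eqToHom hD.fromSpec_preimage_self).op ≫ (homOfLE e).op = 𝟙 _ := rfl
  rw [this, CategoryTheory.Functor.map_id, Category.comp_id]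

theorem lm_appLE (h : (⊤ : V.toScheme.Opens) ≤ lm hD φ ⁻¹ᵁ D) :
    (lm hD φ).appLE D ⊤ h = φ ≫ V.topIso.inv := by
  have e1 : (⊤ : (Spec Γ(Z, D)).Opens) ≤ hD.fromSpec ⁻¹ᵁ D := by
    rw [hD.fromSpec_preimage_self]
  have e2 : (⊤ : V.toScheme.Opens) ≤ (V.toSpecΓ ≫ Spec.map φ) ⁻¹ᵁ ⊤ := le_top
  have h1 := Scheme.Hom.appLE_comp_appLE (V.toSpecΓ ≫ Spec.map φ) hD.fromSpec D ⊤ ⊤ e1 e2
  have h2 : (V.toSpecΓ ≫ Spec.map φ).appLE ⊤ ⊤ e2 = (V.toSpecΓ ≫ Spec.map φ).appTop := by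
    rw [Scheme.Hom.appLE]
    exact (congrArg (fun z => (V.toSpecΓ ≫ Spec.map φ).app ⊤ ≫ z)
      (V.toScheme.presheaf.map_id _)).trans (Category.comp_id _)
  have h3 : (V.toSpecΓ ≫ Spec.map φ).appTop =
      (Scheme.ΓSpecIso Γ(Z, D)).hom ≫ φ ≫ V.topIso.inv := by
    rw [Scheme.Hom.comp_appTop, Scheme.Opens.toSpecΓ_appTop, Scheme.ΓSpecIso_naturality_assoc]
  have h4 : (lm hD φ).appLE D ⊤ h = ((V.toSpecΓ ≫ Spec.map φ) ≫ hD.fromSpec).appLE D ⊤
      (e2.trans ((Opens.map (V.toSpecΓ ≫ Spec.map φ).base).map (homOfLE e1)).le) := by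
    simp only [lm, Category.assoc]
  rw [h4, ← h1, fromSpec_appLE_top, h2, h3, Iso.inv_hom_id_assoc]

theorem homOfLE_lm {V' : X.Opens} (h : V' ≤ V) :
    X.homOfLE h ≫ lm hD φ = lm hD (φ ≫ X.presheaf.map (homOfLE h).op) := by
  unfold lm
  rw [Spec.map_comp, Category.assoc, Scheme.Opens.toSpecΓ_SpecMap_presheaf_map_assoc]

theorem ι_comp_eq_lm (f : X ⟶ Z) (h : V ≤ f ⁻¹ᵁ D) : V.ι ≫ f = lm hD (f.appLE D V h) := by
  unfold lm
  rw [Scheme.Opens.toSpecΓ_SpecMap_appLE_assoc, IsAffineOpen.toSpecΓ_fromSpec,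
    Scheme.Hom.resLE_comp_ι]

theorem le_preimage_of_ι_comp (f : X ⟶ Z) (hf : V.ι ≫ f = lm hD φ) : V ≤ f ⁻¹ᵁ D := by
  intro x hx
  have h1 : f x = (V.ι ≫ f) ⟨x, hx⟩ := rfl
  show f x ∈ D
  rw [h1, hf]
  exact lm_mem hD φ _

theorem appLE_eq_of_ι_comp (f : X ⟶ Z) (hf : V.ι ≫ f = lm hD φ) (h : V ≤ f ⁻¹ᵁ D) :
    f.appLE D V h = φ := by
  have h1 := ι_comp_eq_lm hD f h
  rw [hf] at h1
  have h2 := lm_appLE hD φ (top_le_lm hD φ)
  have h3 := lm_appLE hD (f.appLE D V h) (top_le_lm hD _)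
  have h4 : φ ≫ V.topIso.inv = f.appLE D V h ≫ V.topIso.inv := by
    rw [← h2, ← h3]
    congr 1
  exact ((cancel_mono V.topIso.inv).mp h4).symm

end LM

section ProjLM
variable {A S : Type u} [CommRing A] [CommRing S] [Algebra A S] (𝒮 : ℕ → Submodule A S)
  [GradedAlgebra 𝒮] {g : S} (hg : g ∈ 𝒮 1)

theorem fromSpec_toSpecZero :
    (Proj.isAffineOpen_basicOpen 𝒮 g hg one_pos).fromSpec ≫ Proj.toSpecZero 𝒮 =
      Spec.map (CommRingCat.ofHom (fromZeroRingHom 𝒮 _) ≫ Proj.awayToSection 𝒮 g) := by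
  have hD := Proj.isAffineOpen_basicOpen 𝒮 g hg one_pos
  have key : (Proj.basicOpen 𝒮 g).ι ≫ Proj.toSpecZero 𝒮 = Proj.basicOpenToSpec 𝒮 g ≫
      Spec.map (CommRingCat.ofHom (HomogeneousLocalization.fromZeroRingHom 𝒮 _)) := by
    rw [← Proj.awayι_toSpecZero 𝒮 g hg one_pos, ← Proj.basicOpenIsoSpec_inv_ι,
      ← Proj.basicOpenIsoSpec_hom 𝒮 g hg one_pos]
    simp
  have h1 : (Proj.basicOpen 𝒮 g).toSpecΓ ≫ (hD.fromSpec ≫ Proj.toSpecZero 𝒮) =
      (Proj.basicOpen 𝒮 g).toSpecΓ ≫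
        Spec.map (CommRingCat.ofHom (fromZeroRingHom 𝒮 _) ≫ Proj.awayToSection 𝒮 g) := by
    rw [IsAffineOpen.toSpecΓ_fromSpec_assoc, key, Proj.basicOpenToSpec, Category.assoc,
      ← Spec.map_comp]
  haveI : IsIso (Proj.basicOpen 𝒮 g).toSpecΓ := by
    rw [← hD.isoSpec_hom]
    infer_instance
  exact (cancel_epi _).mp h1

variable {B : Type u} [CommRing B] (ψ : S →+* B)

/-- The ring map `S_(t) → B` induced by `ψ : S → B` with `ψ t` a unit. -/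
noncomputable def awayLift {t : S} (hu : IsUnit (ψ t)) : Away 𝒮 t →+* B :=
  (IsLocalization.Away.lift t hu).comp (algebraMap (Away 𝒮 t) (Localization.Away t))

theorem awayLift_mk {t : S} (hu : IsUnit (ψ t)) {d : ℕ} (ht : t ∈ 𝒮 d) (n : ℕ) (a : S)
    (ha : a ∈ 𝒮 (n • d)) :
    awayLift 𝒮 ψ hu (Away.mk 𝒮 ht n a ha) * ψ t ^ n = ψ a := by
  have h1 : (algebraMap (Away 𝒮 t) (Localization.Away t) (Away.mk 𝒮 ht n a ha)) *
      algebraMap S (Localization.Away t) (t ^ n) = algebraMap S (Localization.Away t) a := by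
    rw [HomogeneousLocalization.algebraMap_apply, Away.val_mk, Localization.mk_eq_mk']
    exact IsLocalization.mk'_spec _ _ _
  have h2 := congrArg (IsLocalization.Away.lift t hu) h1
  rw [map_mul, IsLocalization.Away.lift_eq, IsLocalization.Away.lift_eq, map_pow] at h2
  exact h2

/-- The ring map `Γ(D_+(g), O) → B` induced by `ψ : S → B` with `ψ g` a unit. -/
noncomputable def secLift (hu : IsUnit (ψ g)) : Γ(Proj 𝒮, Proj.basicOpen 𝒮 g) →+* B :=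
  (awayLift 𝒮 ψ hu).comp (Proj.basicOpenIsoAway 𝒮 g hg one_pos).inv.hom

theorem secLift_awayToSection (hu : IsUnit (ψ g)) (z : Away 𝒮 g) :
    secLift 𝒮 hg ψ hu ((Proj.awayToSection 𝒮 g).hom z) = awayLift 𝒮 ψ hu z := by
  have h1 := congrArg (fun f => f.hom z) (Proj.basicOpenIsoAway 𝒮 g hg one_pos).hom_inv_id
  rw [Proj.basicOpenIsoAway_hom] at h1
  exact congrArg (awayLift 𝒮 ψ hu) h1

theorem secLift_dehom (h1 : ψ g = 1) (hu : IsUnit (ψ g)) (s : S) :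
    secLift 𝒮 hg ψ hu (dehom 𝒮 hg s) = ψ s := by
  induction s using DirectSum.Decomposition.inductionOn 𝒮 with
  | zero => rw [map_zero, map_zero, map_zero]
  | @homogeneous n a =>
    rw [dehom_of_mem 𝒮 hg a.2]
    have h2 : GStar.frO (ix 𝒮 hg) n a.1 a.2 = (Proj.awayToSection 𝒮 g).hom
        (Away.mk 𝒮 hg n a.1 (by rw [smul_eq_mul, mul_one]; exact a.2)) := rfl
    rw [h2, secLift_awayToSection]
    have h3 := awayLift_mk 𝒮 ψ hu hg n a.1 (by rw [smul_eq_mul, mul_one]; exact a.2)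
    rw [h1, one_pow, mul_one] at h3
    exact h3
  | add a b ha hb => rw [map_add, map_add, map_add, ha, hb]

end ProjLM

end Groth.Agent.ProjUPE
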