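import Mathlib
import Groth.Prelude
import Groth.Agent.Lib.ProjUP1_helper5
import Groth.Agent.Lib.ProjUP2_helper5
import Groth.Agent.Lib.SecOrd1_helper8

/-!
# Existence part of the universal property of Proj of a symmetric algebra, part 4 (helper5)
APPEND-ONLY once landed.
-/

set_option autoImplicit false
universe u
open CategoryTheory CategoryTheory.Limits AlgebraicGeometry TopologicalSpace Opposite
open HomogeneousLocalization QcqsLoc GenLocH8 TensH8 FLFH8 QCohExtn PBH8
open Groth.Agent.Lib.QCohLoc_helper4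

namespace Groth.Agent.ProjUPE

open Groth.Agent.ProjUPU

section Data
variable {X : Scheme.{u}} (L : X.Modules) {M : Type u} [AddCommGroup M] (v : M →+ ProjUP.Γm L)

/-- The locus where `v m` generates `L`. -/
def Xm (m : M) : X.Opens := sSup {U | IsGen L U (rF L (le_top : U ≤ ⊤) (v m))}

theorem isGen_Xm (m : M) : IsGen L (Xm L v m) (rF L le_top (v m)) := by
  apply isGen_of_cover
  intro x hx
  obtain ⟨U, hU, hxU⟩ := Opens.mem_sSup.mp hx
  refine ⟨U, le_sSup hU, hxU, ?_⟩
  rw [rF_rF]
  exact hU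

theorem le_Xm_of_isGen {m : M} {U : X.Opens} (hU : IsGen L U (rF L le_top (v m))) :
    U ≤ Xm L v m := le_sSup hU

theorem cover_Xm (hL : PicF.IsInvertible L) (hgen : ProjUP.GeneratedBy L v) (x : X) :
    ∃ m, x ∈ Xm L v m := by
  obtain ⟨W, -, hxW, e, he⟩ := exists_isGen hL x
  obtain ⟨-, h2⟩ := SecOrdH8.stalk_gen he hxW
  have hc : ∀ m, ∃ c : Γ(X, W), rF L le_top (v m) = c • e := fun m => he.exists_coef _
  choose c hc using hc
  have hgerm : ∀ m, L.presheaf.germ ⊤ x trivial (v m) =
      X.presheaf.germ W x hxW (c m) • L.presheaf.germ W x hxW e := by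
    intro m
    rw [← SecOrdH8.germ_rF L le_top x hxW (v m), hc m, germ_smul]
  have hex : ∃ m, IsUnit (X.presheaf.germ W x hxW (c m)) := by
    by_contra hcon
    push Not at hcon
    let N : Submodule (X.presheaf.stalk x) (L.presheaf.stalk x) :=
      { carrier := {z | ∃ a ∈ IsLocalRing.maximalIdeal (X.presheaf.stalk x),
          z = a • L.presheaf.germ W x hxW e}
        add_mem' := by
          rintro _ _ ⟨a, ha, rfl⟩ ⟨b, hb, rfl⟩
          exact ⟨a + b, add_mem ha hb, (add_smul _ _ _).symm⟩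
        zero_mem' := ⟨0, zero_mem _, (zero_smul _ _).symm⟩
        smul_mem' := by
          rintro b _ ⟨a, ha, rfl⟩
          exact ⟨b * a, Ideal.mul_mem_left _ b ha, (mul_smul _ _ _).symm⟩ }
    have hle : Submodule.span (X.presheaf.stalk x)
        (Set.range fun m => (L.presheaf.germ ⊤ x trivial).hom (v m)) ≤ N := by
      rw [Submodule.span_le]
      rintro _ ⟨m, rfl⟩
      exact ⟨_, (IsLocalRing.mem_maximalIdeal _).mpr (hcon m), hgerm m⟩
    rw [hgen x] at hle
    obtain ⟨a, ha, hat⟩ := hle (Submodule.mem_top : L.presheaf.germ W x hxW e ∈ ⊤)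
    have h3 : (1 - a) • L.presheaf.germ W x hxW e = 0 := by
      rw [sub_smul, one_smul, ← hat, sub_self]
    have h4 := h2 _ h3
    have h5 : a = 1 := (sub_eq_zero.mp h4).symm
    rw [h5] at ha
    exact (IsLocalRing.maximalIdeal.isMaximal _).ne_top ((Ideal.eq_top_iff_one _).mpr ha)
  obtain ⟨m, hm⟩ := hex
  refine ⟨m, ?_⟩
  have hxb : x ∈ X.basicOpen (c m) := (Scheme.mem_basicOpen _ _ _ hxW).mpr hm
  have hle : X.basicOpen (c m) ≤ W := X.basicOpen_le _
  refine le_Xm_of_isGen L v (U := X.basicOpen (c m)) ?_ hxb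
  have h6 : rF L (le_top : X.basicOpen (c m) ≤ ⊤) (v m) = rX hle (c m) • rF L hle e := by
    rw [← rF_rF L hle (le_top : W ≤ ⊤), hc m, rF_smul]
  rw [h6]
  exact isGen_smul_of_isUnit (he.res hle) (X.toRingedSpace.isUnit_res_basicOpen (c m))

/-- The coefficient of `v m'` relative to the generator `v m` over `X_m`. -/
noncomputable def coef (m m' : M) : Γ(X, Xm L v m) :=
  Classical.choose ((isGen_Xm L v m).exists_coef (rF L le_top (v m')))

theorem coef_spec (m m' : M) :
    rF L (le_top : Xm L v m ≤ ⊤) (v m') = coef L v m m' • rF L le_top (v m) :=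
  Classical.choose_spec ((isGen_Xm L v m).exists_coef (rF L le_top (v m')))

theorem coef_unique (m m' : M) (c : Γ(X, Xm L v m))
    (h : rF L (le_top : Xm L v m ≤ ⊤) (v m') = c • rF L le_top (v m)) : coef L v m m' = c :=
  IsGen.coef_ext (isGen_Xm L v m) ((coef_spec L v m m').symm.trans h)

theorem coef_self (m : M) : coef L v m m = 1 :=
  coef_unique L v m m 1 (one_smul _ _).symm

theorem coef_add (m a b : M) : coef L v m (a + b) = coef L v m a + coef L v m b := by
  apply coef_unique
  rw [map_add, map_add, coef_spec L v m a, coef_spec L v m b, add_smul]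

/-- The cocycle relation on `W ⊆ X_m ∩ X_{m'}`. -/
theorem coef_cocycle (m m' m'' : M) {W : X.Opens} (h : W ≤ Xm L v m) (h' : W ≤ Xm L v m') :
    rX h' (coef L v m' m'') = rX h (coef L v m m'') * rX h' (coef L v m' m) := by
  apply IsGen.coef_ext ((isGen_Xm L v m').res h')
  have e1 := congrArg (rF L h') (coef_spec L v m' m'')
  have e2 := congrArg (rF L h) (coef_spec L v m m'')
  have e3 := congrArg (rF L h') (coef_spec L v m' m)
  rw [rF_rF, rF_smul, rF_rF] at e1 e2 e3
  rw [rF_rF, ← e1, mul_smul, ← e3, ← e2]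

end Data

end Groth.Agent.ProjUPE
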