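import Mathlib
import Groth.Prelude
import Groth.Agent.Lib.ProjUP3_helper5
import Groth.Agent.Lib.ProjUP4_helper5

/-!
# Existence part of the universal property of Proj of a symmetric algebra, part 5 (helper5)
APPEND-ONLY once landed.
-/

set_option autoImplicit false
universe u
open CategoryTheory CategoryTheory.Limits AlgebraicGeometry TopologicalSpace Opposite
open HomogeneousLocalization QcqsLoc GenLocH8 TensH8 FLFH8 QCohExtn PBH8

namespace Groth.Agent.ProjUPE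

open Groth.Agent.ProjUPU

section Sym
variable {A : Type u} [CommRing A] {S : Type u} [CommRing S] [Algebra A S]
  (𝒮 : ℕ → Submodule A S) [GradedAlgebra 𝒮]
  {M : Type u} [AddCommGroup M] [Module A M] (ι : M →ₗ[A] S) (hι : ∀ m : M, ι m ∈ 𝒮 1)
  (hsym : IsSymmetricAlgebra ι)
  {X : Scheme.{u}} (q : X ⟶ Spec (CommRingCat.of A)) (L : X.Modules)
  (v : M →+ ProjUP.Γm L) (hv : ∀ (a : A) (m : M), v (a • m) = ProjUP.toGlobal q a • v m)

include hsym hv in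
theorem exists_psi (m : M) : ∃ ψ : S →+* Γ(X, Xm L v m),
    (∀ m', ψ (ι m') = coef L v m m') ∧
      (∀ a, ψ (algebraMap A S a) = rX (le_top : Xm L v m ≤ ⊤) (ProjUP.toGlobal q a)) := by
  letI : Algebra A Γ(X, Xm L v m) :=
    ((rX (le_top : Xm L v m ≤ ⊤)).comp (ProjUP.toGlobal q)).toAlgebra
  let cf : M →ₗ[A] Γ(X, Xm L v m) :=
    { toFun := coef L v m
      map_add' := coef_add L v m
      map_smul' := by
        intro a m'
        apply coef_unique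
        rw [hv, rF_smul, coef_spec L v m m', ← mul_smul]
        rfl }
  exact ⟨(hsym.lift cf).toRingHom, fun m' => hsym.lift_eq cf m', fun a => (hsym.lift cf).commutes a⟩

/-- The ring map `S → Γ(X_m, O_X)` sending `ι m'` to the coefficient of `v m'` relative to `v m`. -/
noncomputable def psi (m : M) : S →+* Γ(X, Xm L v m) :=
  Classical.choose (exists_psi ι hsym q L v hv m)

theorem psi_ι (m m' : M) : psi ι hsym q L v hv m (ι m') = coef L v m m' :=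
  (Classical.choose_spec (exists_psi ι hsym q L v hv m)).1 m'

theorem psi_algebraMap (m : M) (a : A) : psi ι hsym q L v hv m (algebraMap A S a) =
    rX (le_top : Xm L v m ≤ ⊤) (ProjUP.toGlobal q a) :=
  (Classical.choose_spec (exists_psi ι hsym q L v hv m)).2 a

theorem psi_self (m : M) : psi ι hsym q L v hv m (ι m) = 1 := by
  rw [psi_ι, coef_self]

theorem isUnit_psi_self (m : M) : IsUnit (psi ι hsym q L v hv m (ι m)) := by
  rw [psi_self]
  exact isUnit_one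

/-- The ring map `Γ(D_+(ι m), O) → Γ(X_m, O_X)`. -/
noncomputable def phi (m : M) :
    Γ(Proj 𝒮, Proj.basicOpen 𝒮 (ι m)) ⟶ Γ(X, Xm L v m) :=
  CommRingCat.ofHom (secLift 𝒮 (hι m) (psi ι hsym q L v hv m) (isUnit_psi_self ι hsym q L v hv m))

theorem phi_dehom (m : M) (s : S) :
    (phi 𝒮 ι hι hsym q L v hv m).hom (dehom 𝒮 (hι m) s) = psi ι hsym q L v hv m s :=
  secLift_dehom 𝒮 (hι m) _ (psi_self ι hsym q L v hv m) _ s

theorem phi_rat (m m' : M) :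
    (phi 𝒮 ι hι hsym q L v hv m).hom (rat 𝒮 (hι m) (hι m')) = coef L v m m' := by
  rw [← dehom_eq_rat 𝒮 (hι m) (hι m'), phi_dehom, psi_ι]

end Sym

section Str
variable {A : Type u} [CommRing A] {S : Type u} [CommRing S] [Algebra A S]
  (𝒮 : ℕ → Submodule A S) [GradedAlgebra 𝒮]
  {X : Scheme.{u}} (q : X ⟶ Spec (CommRingCat.of A))

theorem q_eq : q = X.toSpecΓ ≫ Spec.map (CommRingCat.ofHom (ProjUP.toGlobal q)) := by
  have h1 : CommRingCat.ofHom (ProjUP.toGlobal q) =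
      (Scheme.ΓSpecIso (CommRingCat.of A)).inv ≫ q.appTop := rfl
  rw [h1, Spec.map_comp, ← Scheme.toSpecΓ_naturality_assoc, toSpecΓ_SpecMap_ΓSpecIso_inv,
    Category.comp_id]

theorem lm_toSpec {g : S} (hg : g ∈ 𝒮 1) {W : X.Opens}
    (φ : Γ(Proj 𝒮, Proj.basicOpen 𝒮 g) ⟶ Γ(X, W))
    (hφ : ∀ a, φ.hom (dehom 𝒮 hg (algebraMap A S a)) =
      rX (le_top : W ≤ ⊤) (ProjUP.toGlobal q a)) :
    lm (Proj.isAffineOpen_basicOpen 𝒮 g hg one_pos) φ ≫ Proj.toSpecZero 𝒮 ≫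
      Spec.map (CommRingCat.ofHom (algebraMap A (𝒮 0))) = W.ι ≫ q := by
  have hring : CommRingCat.ofHom (algebraMap A (𝒮 0)) ≫
      (CommRingCat.ofHom (fromZeroRingHom 𝒮 _) ≫ Proj.awayToSection 𝒮 g) ≫ φ =
      CommRingCat.ofHom (ProjUP.toGlobal q) ≫ X.presheaf.map (homOfLE (le_top : W ≤ ⊤)).op := by
    ext a
    have := hφ a
    rw [dehom_algebraMap] at this
    exact this
  conv_rhs => rw [q_eq q, ← Scheme.Opens.toSpecΓ_SpecMap_presheaf_map_top_assoc, ← Spec.map_comp,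
    ← hring]
  unfold lm
  simp only [Category.assoc, Spec.map_comp]
  have h2 := fromSpec_toSpecZero 𝒮 hg
  rw [reassoc_of% h2]
  simp only [Spec.map_comp, Category.assoc]

end Str

section Glue
variable {A : Type u} [CommRing A] {S : Type u} [CommRing S] [Algebra A S]
  (𝒮 : ℕ → Submodule A S) [GradedAlgebra 𝒮]
  {M : Type u} [AddCommGroup M] [Module A M] (ι : M →ₗ[A] S) (hι : ∀ m : M, ι m ∈ 𝒮 1)
  (hsym : IsSymmetricAlgebra ι)
  {X : Scheme.{u}} (q : X ⟶ Spec (CommRingCat.of A)) (L : X.Modules)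
  (v : M →+ ProjUP.Γm L) (hv : ∀ (a : A) (m : M), v (a • m) = ProjUP.toGlobal q a • v m)

include hsym in
theorem adjoin_range : Algebra.adjoin A (Set.range ι) = ⊤ := by
  rw [eq_top_iff]
  intro a _
  induction a using hsym.induction with
  | algebraMap a => exact Subalgebra.algebraMap_mem _ a
  | ι m => exact Algebra.subset_adjoin ⟨m, rfl⟩
  | mul a b ha hb => exact Subalgebra.mul_mem _ (ha trivial) (hb trivial)
  | add a b ha hb => exact Subalgebra.add_mem _ (ha trivial) (hb trivial)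

include hι hsym in
theorem hcov_of_sym (x : Proj 𝒮) : ∃ f ∈ 𝒮 1, x ∈ Proj.basicOpen 𝒮 f := by
  obtain ⟨i, hi⟩ := ProjTw.cover_of_adjoin 𝒮 (fun m : M => ι m) (fun _ => 1)
    (fun _ => one_pos) hι (adjoin_range ι hsym) x
  exact ⟨ι i, hι i, hi⟩

/-- The local morphism `W ⟶ Proj 𝒮`, for `W ⊆ X_m`, defined through the chart `D_+(ι m)`. -/
noncomputable def rW (m : M) (W : X.Opens) (h : W ≤ Xm L v m) : W.toScheme ⟶ Proj 𝒮 :=
  lm (Proj.isAffineOpen_basicOpen 𝒮 (ι m) (hι m) one_pos)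
    (phi 𝒮 ι hι hsym q L v hv m ≫ X.presheaf.map (homOfLE h).op)

theorem rW_toSpec (m : M) (W : X.Opens) (h : W ≤ Xm L v m) :
    rW 𝒮 ι hι hsym q L v hv m W h ≫ Proj.toSpecZero 𝒮 ≫
      Spec.map (CommRingCat.ofHom (algebraMap A (𝒮 0))) = W.ι ≫ q := by
  apply lm_toSpec 𝒮 q (hι m)
  intro a
  show rX h ((phi 𝒮 ι hι hsym q L v hv m).hom (dehom 𝒮 (hι m) (algebraMap A S a))) = _
  rw [phi_dehom, psi_algebraMap, rX_rX]

theorem rW_appLE_rat (m m' : M) (W : X.Opens) (h : W ≤ Xm L v m)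
    (e : (⊤ : W.toScheme.Opens) ≤ rW 𝒮 ι hι hsym q L v hv m W h ⁻¹ᵁ Proj.basicOpen 𝒮 (ι m)) :
    (rW 𝒮 ι hι hsym q L v hv m W h).appLE (Proj.basicOpen 𝒮 (ι m)) ⊤ e
      (rat 𝒮 (hι m) (hι m')) = W.topIso.inv.hom (rX h (coef L v m m')) := by
  have h1 := lm_appLE (Proj.isAffineOpen_basicOpen 𝒮 (ι m) (hι m) one_pos)
    (phi 𝒮 ι hι hsym q L v hv m ≫ X.presheaf.map (homOfLE h).op) e
  have h2 := congrArg (fun f => f.hom (rat 𝒮 (hι m) (hι m'))) h1
  refine h2.trans ?_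
  show W.topIso.inv.hom (rX h ((phi 𝒮 ι hι hsym q L v hv m).hom (rat 𝒮 (hι m) (hι m')))) = _
  rw [phi_rat]

theorem rW_glue (m m' : M) (W : X.Opens) (h : W ≤ Xm L v m) (h' : W ≤ Xm L v m') :
    rW 𝒮 ι hι hsym q L v hv m W h = rW 𝒮 ι hι hsym q L v hv m' W h' := by
  have hcov := hcov_of_sym 𝒮 ι hι hsym
  have e1 : (⊤ : W.toScheme.Opens) ≤
      rW 𝒮 ι hι hsym q L v hv m W h ⁻¹ᵁ Proj.basicOpen 𝒮 (ι m) := top_le_lm _ _
  have e2 : (⊤ : W.toScheme.Opens) ≤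
      rW 𝒮 ι hι hsym q L v hv m' W h' ⁻¹ᵁ Proj.basicOpen 𝒮 (ι m') := top_le_lm _ _
  have hg1 := isGen_psec 𝒮 (rW 𝒮 ι hι hsym q L v hv m W h) hcov (hι m) e1
  have hg2 := isGen_psec 𝒮 (rW 𝒮 ι hι hsym q L v hv m' W h') hcov (hι m') e2
  have hu : IsUnit (W.topIso.inv.hom (rX h' (coef L v m' m))) := by
    have h1 : rX h (coef L v m m') * rX h' (coef L v m' m) = 1 := by
      rw [← coef_cocycle L v m m' m' h h', coef_self, map_one]
    exact (IsUnit.of_mul_eq_one _ (by rw [mul_comm]; exact h1)).map _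
  let D : LocalFrame ((Scheme.Modules.pullback (rW 𝒮 ι hι hsym q L v hv m W h)).obj (Twist.twist 𝒮 1))
      ((Scheme.Modules.pullback (rW 𝒮 ι hι hsym q L v hv m' W h')).obj (Twist.twist 𝒮 1)) 1 :=
    { ι := PUnit
      O := fun _ => ⊤
      e := fun _ => psec (rW 𝒮 ι hι hsym q L v hv m W h) (Twist.twist 𝒮 1) (sig 𝒮 (hι m)) ⊤
      m := fun _ => W.topIso.inv.hom (rX h' (coef L v m' m)) •
        psec (rW 𝒮 ι hι hsym q L v hv m' W h') (Twist.twist 𝒮 1) (sig 𝒮 (hι m')) ⊤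
      he := fun _ => hg1
      hm := fun _ => isGen_smul_of_isUnit hg2 hu
      cover := fun _ => ⟨PUnit.unit, trivial⟩
      compat := by
        intro _ _ c hc
        have h1 : c = 1 := IsGen.coef_ext (hg1.res inf_le_right)
          (hc.symm.trans (one_smul _ _).symm)
        rw [h1, one_pow, one_smul] }
  obtain ⟨θ, hθ⟩ := exists_iso' D
  have hθ1 : ap θ.hom ⊤ (psec (rW 𝒮 ι hι hsym q L v hv m W h) (Twist.twist 𝒮 1)
      (sig 𝒮 (hι m)) ⊤) = W.topIso.inv.hom (rX h' (coef L v m' m)) •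
        psec (rW 𝒮 ι hι hsym q L v hv m' W h') (Twist.twist 𝒮 1) (sig 𝒮 (hι m')) ⊤ :=
    hθ PUnit.unit
  refine eq_of_compat 𝒮 _ _ (Set.range ι) (by rintro _ ⟨m, rfl⟩; exact hι m)
    (adjoin_range ι hsym) ?_ θ ?_
  · rw [rW_toSpec, rW_toSpec]
  · rintro _ ⟨m'', rfl⟩
    show ap θ.hom ⊤ (ProjUP.pullSec (rW 𝒮 ι hι hsym q L v hv m W h) (Twist.twist 𝒮 1)
      (sig 𝒮 (hι m''))) = ProjUP.pullSec (rW 𝒮 ι hι hsym q L v hv m' W h') (Twist.twist 𝒮 1)
        (sig 𝒮 (hι m''))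
    have p1 : ProjUP.pullSec (rW 𝒮 ι hι hsym q L v hv m W h) (Twist.twist 𝒮 1)
        (sig 𝒮 (hι m'')) = psec (rW 𝒮 ι hι hsym q L v hv m W h) (Twist.twist 𝒮 1)
          (sig 𝒮 (hι m'')) ⊤ := (SubExt.rF_self _ _ _).symm
    have p2 : ProjUP.pullSec (rW 𝒮 ι hι hsym q L v hv m' W h') (Twist.twist 𝒮 1)
        (sig 𝒮 (hι m'')) = psec (rW 𝒮 ι hι hsym q L v hv m' W h') (Twist.twist 𝒮 1)
          (sig 𝒮 (hι m'')) ⊤ := (SubExt.rF_self _ _ _).symm
    rw [p1, p2, psec_eq_smul 𝒮 _ (hι m) (hι m'') e1, psec_eq_smul 𝒮 _ (hι m') (hι m'') e2,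
      rW_appLE_rat, rW_appLE_rat, ap_smul, hθ1, ← mul_smul, ← map_mul, ← coef_cocycle]

end Glue

end Groth.Agent.ProjUPE
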