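import Mathlib
import Groth.Prelude
import Groth.Agent.Lib.ProjUP5_helper5

/-!
# Existence part of the universal property of Proj of a symmetric algebra, part 6 (helper5)
APPEND-ONLY once landed.
-/

set_option autoImplicit false
universe u
open CategoryTheory CategoryTheory.Limits AlgebraicGeometry TopologicalSpace Opposite
open HomogeneousLocalization QcqsLoc GenLocH8 TensH8 FLFH8 QCohExtn PBH8

namespace Groth.Agent.ProjUPE

open Groth.Agent.ProjUPU

section Main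
variable {A : Type u} [CommRing A] {S : Type u} [CommRing S] [Algebra A S]
  (𝒮 : ℕ → Submodule A S) [GradedAlgebra 𝒮]
  {M : Type u} [AddCommGroup M] [Module A M] (ι : M →ₗ[A] S) (hι : ∀ m : M, ι m ∈ 𝒮 1)
  (hsym : IsSymmetricAlgebra ι)
  {X : Scheme.{u}} (q : X ⟶ Spec (CommRingCat.of A)) (L : X.Modules)
  (v : M →+ ProjUP.Γm L) (hv : ∀ (a : A) (m : M), v (a • m) = ProjUP.toGlobal q a • v m)

theorem exists_r (hL : PicF.IsInvertible L) (hgen : ProjUP.GeneratedBy L v) :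
    ∃ r : X ⟶ Proj 𝒮, ∀ m, (Xm L v m).ι ≫ r =
      lm (Proj.isAffineOpen_basicOpen 𝒮 (ι m) (hι m) one_pos) (phi 𝒮 ι hι hsym q L v hv m) := by
  have hcover : IsOpenCover (fun m : M => Xm L v m) := by
    show iSup _ = ⊤
    rw [eq_top_iff]
    intro x _
    obtain ⟨m, hm⟩ := cover_Xm L v hL hgen x
    exact Opens.mem_iSup.mpr ⟨m, hm⟩
  have hglue : ∀ m m' : M, pullback.fst (Xm L v m).ι (Xm L v m').ι ≫
      lm (Proj.isAffineOpen_basicOpen 𝒮 (ι m) (hι m) one_pos) (phi 𝒮 ι hι hsym q L v hv m) =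
      pullback.snd (Xm L v m).ι (Xm L v m').ι ≫
      lm (Proj.isAffineOpen_basicOpen 𝒮 (ι m') (hι m') one_pos)
        (phi 𝒮 ι hι hsym q L v hv m') := by
    intro m m'
    rw [← cancel_epi (isPullback_opens_inf (Xm L v m) (Xm L v m')).isoPullback.hom,
      IsPullback.isoPullback_hom_fst_assoc, IsPullback.isoPullback_hom_snd_assoc, homOfLE_lm,
      homOfLE_lm]
    exact rW_glue 𝒮 ι hι hsym q L v hv m m' _ inf_le_left inf_le_right
  let 𝒰 := X.openCoverOfIsOpenCover (fun m => Xm L v m) hcover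
  exact ⟨𝒰.glueMorphisms (fun m =>
    lm (Proj.isAffineOpen_basicOpen 𝒮 (ι m) (hι m) one_pos) (phi 𝒮 ι hι hsym q L v hv m)) hglue,
    fun m => 𝒰.ι_glueMorphisms _ _ m⟩

include hsym hv in
/-- **Existence part of the universal property of `Proj` of a symmetric algebra.** -/
theorem exists_all (hL : PicF.IsInvertible L) (hgen : ProjUP.GeneratedBy L v) :
    ∃ (r : X ⟶ Proj 𝒮) (_ : r ≫ Proj.toSpecZero 𝒮 ≫
        Spec.map (CommRingCat.ofHom (algebraMap A (𝒮 0))) = q)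
      (τ : (Scheme.Modules.pullback r).obj (Twist.twist 𝒮 1) ≅ L),
      ∀ m : M, τ.hom.app ⊤ (ProjUP.pullSec r (Twist.twist 𝒮 1)
        (Twist.globalOf 𝒮 ⟨ι m, hι m⟩)) = v m := by
  obtain ⟨r, hr⟩ := exists_r 𝒮 ι hι hsym q L v hv hL hgen
  have hcov := hcov_of_sym 𝒮 ι hι hsym
  have hle : ∀ m, Xm L v m ≤ r ⁻¹ᵁ Proj.basicOpen 𝒮 (ι m) :=
    fun m => le_preimage_of_ι_comp _ _ r (hr m)
  have happ : ∀ m, r.appLE (Proj.basicOpen 𝒮 (ι m)) (Xm L v m) (hle m) =
      phi 𝒮 ι hι hsym q L v hv m := fun m => appLE_eq_of_ι_comp _ _ r (hr m) _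
  have hrat0 : ∀ m m' : M, r.appLE (Proj.basicOpen 𝒮 (ι m)) (Xm L v m) (hle m)
      (rat 𝒮 (hι m) (hι m')) = coef L v m m' := by
    intro m m'
    rw [happ m]
    exact phi_rat 𝒮 ι hι hsym q L v hv m m'
  have hrat : ∀ (m m' : M) (W : X.Opens) (h : W ≤ Xm L v m),
      r.appLE (Proj.basicOpen 𝒮 (ι m)) W (h.trans (hle m)) (rat 𝒮 (hι m) (hι m')) =
        rX h (coef L v m m') := by
    intro m m' W h
    have h1 := Scheme.Hom.appLE_map r (hle m) (homOfLE h).op
    have h2 := congrArg (fun f => f.hom (rat 𝒮 (hι m) (hι m'))) h1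
    refine h2.symm.trans ?_
    show rX h ((r.appLE _ _ (hle m)).hom (rat 𝒮 (hι m) (hι m'))) = _
    rw [hrat0]
  refine ⟨r, ?_, ?_⟩
  · apply Scheme.hom_ext_of_forall
    intro x
    obtain ⟨m, hm⟩ := cover_Xm L v hL hgen x
    refine ⟨Xm L v m, hm, ?_⟩
    rw [← Category.assoc, hr m]
    apply lm_toSpec 𝒮 q (hι m)
    intro a
    rw [phi_dehom, psi_algebraMap]
  · let D : LocalFrame ((Scheme.Modules.pullback r).obj (Twist.twist 𝒮 1)) L 1 :=
      { ι := M
        O := fun m => Xm L v m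
        e := fun m => psec r (Twist.twist 𝒮 1) (sig 𝒮 (hι m)) (Xm L v m)
        m := fun m => rF L (le_top : Xm L v m ≤ ⊤) (v m)
        he := fun m => isGen_psec 𝒮 r hcov (hι m) (hle m)
        hm := fun m => isGen_Xm L v m
        cover := cover_Xm L v hL hgen
        compat := by
          intro k l c hc
          rw [rF_psec, rF_psec] at hc
          have hQ : Xm L v k ⊓ Xm L v l ≤ r ⁻¹ᵁ Proj.basicOpen 𝒮 (ι l) :=
            inf_le_right.trans (hle l)
          have h1 := psec_eq_smul 𝒮 r (hι l) (hι k) hQ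
          have hc' : c = r.appLE (Proj.basicOpen 𝒮 (ι l)) (Xm L v k ⊓ Xm L v l) hQ
              (rat 𝒮 (hι l) (hι k)) :=
            IsGen.coef_ext (isGen_psec 𝒮 r hcov (hι l) hQ) (hc.symm.trans h1)
          have h2 := hrat l k (Xm L v k ⊓ Xm L v l) inf_le_right
          rw [pow_one, hc', h2, rF_rF, rF_rF]
          have h3 := congrArg (rF L (inf_le_right : Xm L v k ⊓ Xm L v l ≤ Xm L v l))
            (coef_spec L v l k)
          rw [rF_rF, rF_smul, rF_rF] at h3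
          exact h3 }
    obtain ⟨θ, hθ⟩ := exists_iso' D
    refine ⟨θ, fun m'' => ?_⟩
    show ap θ.hom ⊤ (ProjUP.pullSec r (Twist.twist 𝒮 1) (sig 𝒮 (hι m''))) = v m''
    apply eq_of_cover L
    intro x _
    obtain ⟨m, hm⟩ := cover_Xm L v hL hgen x
    refine ⟨Xm L v m, le_top, hm, ?_⟩
    rw [← ap_rF]
    show ap θ.hom (Xm L v m) (psec r (Twist.twist 𝒮 1) (sig 𝒮 (hι m'')) (Xm L v m)) = _
    have h4 : ap θ.hom (Xm L v m) (psec r (Twist.twist 𝒮 1) (sig 𝒮 (hι m)) (Xm L v m)) =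
        rF L (le_top : Xm L v m ≤ ⊤) (v m) := hθ m
    rw [psec_eq_smul 𝒮 r (hι m) (hι m'') (hle m), ap_smul, h4, hrat0, ← coef_spec]

end Main

end Groth.Agent.ProjUPE
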