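import Mathlib
import Groth.Prelude
import Groth.Agent.Lib.ProjUP6_helper5
import Groth.Agent.Lib.SecOrd1_helper8

/-!
# Very ample (projective-space form) from sections, part 1: chart facts (helper5)
APPEND-ONLY once landed.
-/

set_option autoImplicit false
universe u
open CategoryTheory CategoryTheory.Limits AlgebraicGeometry TopologicalSpace Opposite
open HomogeneousLocalization QcqsLoc GenLocH8 TensH8 FLFH8 QCohExtn PBH8

namespace Groth.Agent.VAmpPn

open Groth.Agent.ProjUPU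

section Chart
variable {R : Type u} [CommRing R] (N : ℕ)

theorem hX (i : Fin (N + 1)) :
    (MvPolynomial.X i : MvPolynomial (Fin (N + 1)) R) ∈ CohB1.polyGrading N R 1 :=
  MvPolynomial.isHomogeneous_X R i

theorem hcovX (x : Proj (CohB1.polyGrading N R)) :
    ∃ i : Fin (N + 1), x ∈ Proj.basicOpen (CohB1.polyGrading N R) (MvPolynomial.X i) :=
  ProjTw.cover_of_adjoin (CohB1.polyGrading N R)
    (fun i : Fin (N + 1) => (MvPolynomial.X i : MvPolynomial (Fin (N + 1)) R)) (fun _ => 1)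
    (fun _ => one_pos) (hX N) MvPolynomial.adjoin_range_X x

theorem hcov (x : Proj (CohB1.polyGrading N R)) :
    ∃ f ∈ CohB1.polyGrading N R 1, x ∈ Proj.basicOpen (CohB1.polyGrading N R) f := by
  obtain ⟨i, hi⟩ := hcovX N x
  exact ⟨_, hX N i, hi⟩

variable {N}
variable {X : Scheme.{u}} (r : X ⟶ Proj (CohB1.polyGrading N R)) {M : X.Modules}
  (τ : (Scheme.Modules.pullback r).obj (Twist.twist (CohB1.polyGrading N R) 1) ≅ M)
  (σ : Fin (N + 1) → (Coh.structureModule X ⟶ M))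
  (hτ : ∀ i, τ.hom.app ⊤ (ProjUP.pullSec r (Twist.twist (CohB1.polyGrading N R) 1)
    (sig (CohB1.polyGrading N R) (hX N i))) = SecTwist.val (σ i) ⊤)

include hτ

theorem ap_psec' (i : Fin (N + 1)) (U : X.Opens) :
    ap τ.hom U (psec r (Twist.twist (CohB1.polyGrading N R) 1)
      (sig (CohB1.polyGrading N R) (hX N i)) U) = SecTwist.val (σ i) U := by
  unfold psec
  rw [ap_rF]
  exact (congrArg (rF M (le_top : U ≤ ⊤)) (hτ i)).trans (rF_val (σ i) le_top)

theorem le_genLocus (j : Fin (N + 1)) :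
    r ⁻¹ᵁ Proj.basicOpen (CohB1.polyGrading N R) (MvPolynomial.X j) ≤ CohB1.genLocus M (σ j) := by
  have h1 := isGen_of_iso τ (isGen_psec (CohB1.polyGrading N R) r (hcov N) (hX N j) le_rfl)
  rw [ap_psec' r τ σ hτ] at h1
  have h3 := genLocus_inf_eq (σ j) h1 1 (one_smul _ _).symm
  rw [Scheme.basicOpen_of_isUnit _ isUnit_one] at h3
  exact inf_eq_right.mp h3

theorem genLocus_le (j : Fin (N + 1)) :
    CohB1.genLocus M (σ j) ≤ r ⁻¹ᵁ Proj.basicOpen (CohB1.polyGrading N R) (MvPolynomial.X j) := by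
  intro x hx
  have hgen := isGen_val_of_le_genLocus (σ j) (le_refl (CohB1.genLocus M (σ j)))
  have h2 := isGen_of_iso τ.symm hgen
  have h3 : ap τ.symm.hom (CohB1.genLocus M (σ j))
      (SecTwist.val (σ j) (CohB1.genLocus M (σ j))) =
      psec r (Twist.twist (CohB1.polyGrading N R) 1) (sig (CohB1.polyGrading N R) (hX N j))
        (CohB1.genLocus M (σ j)) := by
    rw [← ap_psec' r τ σ hτ j]
    exact ap_inv_hom τ _ _
  rw [h3] at h2
  exact mem_of_isGen (CohB1.polyGrading N R) r (hcov N) (hX N j) h2 hx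

theorem genLocus_eq (j : Fin (N + 1)) :
    CohB1.genLocus M (σ j) = r ⁻¹ᵁ Proj.basicOpen (CohB1.polyGrading N R) (MvPolynomial.X j) :=
  le_antisymm (genLocus_le r τ σ hτ j) (le_genLocus r τ σ hτ j)

theorem val_eq_smul (i j : Fin (N + 1)) {U : X.Opens}
    (h : U ≤ r ⁻¹ᵁ Proj.basicOpen (CohB1.polyGrading N R) (MvPolynomial.X j)) :
    SecTwist.val (σ i) U =
      (r.appLE (Proj.basicOpen (CohB1.polyGrading N R) (MvPolynomial.X j)) U h
        (rat (CohB1.polyGrading N R) (hX N j) (hX N i))) • SecTwist.val (σ j) U := by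
  have e1 := psec_eq_smul (CohB1.polyGrading N R) r (hX N j) (hX N i) h
  have e3 := congrArg (ap τ.hom U) e1
  rw [ap_smul, ap_psec' r τ σ hτ, ap_psec' r τ σ hτ] at e3
  exact e3

end Chart

section Gen

theorem generatedBy_of_cover {X : Scheme.{u}} {M : X.Modules} {ι : Type*}
    (σ : ι → (Coh.structureModule X ⟶ M)) (hc : ∀ x : X, ∃ i, x ∈ CohB1.genLocus M (σ i)) :
    ProjUP.GeneratedBy M (fun i => (SecTwist.val (σ i) ⊤ : ProjUP.Γm M)) := by
  intro x
  obtain ⟨i, hi⟩ := hc x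
  have he := isGen_val_of_le_genLocus (σ i) (le_refl (CohB1.genLocus M (σ i)))
  obtain ⟨h1, -⟩ := SecOrdH8.stalk_gen he hi
  rw [eq_top_iff]
  intro z _
  obtain ⟨a, rfl⟩ := h1 z
  apply Submodule.smul_mem
  apply Submodule.subset_span
  refine ⟨i, ?_⟩
  have h2 := SecOrdH8.germ_rF M (le_top : CohB1.genLocus M (σ i) ≤ ⊤) x hi (SecTwist.val (σ i) ⊤)
  rw [rF_val] at h2
  exact h2.symm

end Gen

end Groth.Agent.VAmpPn
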