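import Mathlib
import Groth.Prelude
import Groth.Agent.Lib.VAmpPn1_helper5
import Groth.Agent.Lib.Tens19_helper8
import Groth.Agent.S3572

/-!
# Very ample (projective-space form) from sections, part 2: the immersion (helper5)
APPEND-ONLY once landed.
-/

set_option autoImplicit false
universe u
open CategoryTheory CategoryTheory.Limits AlgebraicGeometry TopologicalSpace Opposite
open HomogeneousLocalization QcqsLoc GenLocH8 TensH8 FLFH8 QCohExtn PBH8

namespace Groth.Agent.VAmpPn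

open Groth.Agent.ProjUPU

theorem respectsRight_isImmersion :
    MorphismProperty.RespectsRight (@IsImmersion.{u}) (@IsOpenImmersion.{u}) where
  postcomp i hi f hf := by
    haveI : IsOpenImmersion i := hi
    haveI : IsImmersion f := hf
    exact (inferInstance : IsImmersion (f ≫ i))

theorem appLE_of_eq {X Y : Scheme.{u}} {f g : X ⟶ Y} (h : f = g) (V : Y.Opens) (U : X.Opens)
    (e : U ≤ f ⁻¹ᵁ V) (e' : U ≤ g ⁻¹ᵁ V) : f.appLE V U e = g.appLE V U e' := by
  subst h
  rfl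

section
variable (N : ℕ) (S : Scheme.{u})

/-- First projection of `P^N_S`. -/
noncomputable abbrev pr1 : CohB1.ProjSpaceOver N S ⟶ Proj (CohB1.polyGrading N (ULift.{u} ℤ)) :=
  pullback.fst (CohB1.ProjSpace.toSpec N (ULift.{u} ℤ)) (specULiftZIsTerminal.from S)

/-- Second projection of `P^N_S`. -/
noncomputable abbrev pr2 : CohB1.ProjSpaceOver N S ⟶ S :=
  pullback.snd (CohB1.ProjSpace.toSpec N (ULift.{u} ℤ)) (specULiftZIsTerminal.from S)

end

section Surj
variable {X S : Scheme.{u}} (q : X ⟶ S) {M : X.Modules} {N : ℕ}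
  (r : X ⟶ Proj (CohB1.polyGrading N (ULift.{u} ℤ)))
  (τ : (Scheme.Modules.pullback r).obj (Twist.twist (CohB1.polyGrading N (ULift.{u} ℤ)) 1) ≅ M)
  (σ : Fin (N + 1) → (Coh.structureModule X ⟶ M))
  (hτ : ∀ i, τ.hom.app ⊤ (ProjUP.pullSec r (Twist.twist (CohB1.polyGrading N (ULift.{u} ℤ)) 1)
    (sig (CohB1.polyGrading N (ULift.{u} ℤ)) (hX N i))) = SecTwist.val (σ i) ⊤)
  (i : X ⟶ CohB1.ProjSpaceOver N S) (hi1 : i ≫ pr1 N S = r) (hi2 : i ≫ pr2 N S = q)

include hτ hi1 hi2 in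
theorem surjective_appLE (t₀ : Coh.structureModule X ⟶ M) (j : Fin (N + 1)) (hj : σ j = t₀)
    (V : S.Opens) (h : CohB1.genLocus M t₀ ≤ q ⁻¹ᵁ V) (C : Set Γ(X, CohB1.genLocus M t₀))
    (hC : ∀ c ∈ C, ∃ i', SecTwist.val (σ i') (CohB1.genLocus M t₀) =
      c • SecTwist.val t₀ (CohB1.genLocus M t₀))
    (hcl : ∀ b : Γ(X, CohB1.genLocus M t₀),
      b ∈ Subring.closure (Set.range (q.appLE V (CohB1.genLocus M t₀) h).hom ∪ C))
    (hUW : CohB1.genLocus M t₀ ≤ i ⁻¹ᵁ (pr1 N S ⁻¹ᵁ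
      Proj.basicOpen (CohB1.polyGrading N (ULift.{u} ℤ)) (MvPolynomial.X j) ⊓ pr2 N S ⁻¹ᵁ V)) :
    Function.Surjective (i.appLE (pr1 N S ⁻¹ᵁ
      Proj.basicOpen (CohB1.polyGrading N (ULift.{u} ℤ)) (MvPolynomial.X j) ⊓ pr2 N S ⁻¹ᵁ V)
      (CohB1.genLocus M t₀) hUW).hom := by
  subst hj
  intro b
  have key : Subring.closure (Set.range (q.appLE V (CohB1.genLocus M (σ j)) h).hom ∪ C) ≤
      (i.appLE (pr1 N S ⁻¹ᵁ
      Proj.basicOpen (CohB1.polyGrading N (ULift.{u} ℤ)) (MvPolynomial.X j) ⊓ pr2 N S ⁻¹ᵁ V)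
      (CohB1.genLocus M (σ j)) hUW).hom.range := by
    rw [Subring.closure_le]
    rintro c (⟨a, rfl⟩ | hc)
    · have hW2 : pr1 N S ⁻¹ᵁ Proj.basicOpen (CohB1.polyGrading N (ULift.{u} ℤ))
          (MvPolynomial.X j) ⊓ pr2 N S ⁻¹ᵁ V ≤ pr2 N S ⁻¹ᵁ V := inf_le_right
      refine RingHom.mem_range.mpr ⟨((pr2 N S).appLE V _ hW2).hom a, ?_⟩
      have h1 := Scheme.Hom.appLE_comp_appLE i (pr2 N S) V _ _ hW2 hUW
      have h2 := appLE_of_eq hi2 V (CohB1.genLocus M (σ j))
        (hUW.trans ((Opens.map i.base).map (homOfLE hW2)).le) h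
      exact congrArg (fun ψ => ψ.hom a) (h1.trans h2)
    · obtain ⟨i', hi'⟩ := hC c hc
      have hW1 : pr1 N S ⁻¹ᵁ Proj.basicOpen (CohB1.polyGrading N (ULift.{u} ℤ))
          (MvPolynomial.X j) ⊓ pr2 N S ⁻¹ᵁ V ≤ pr1 N S ⁻¹ᵁ
          Proj.basicOpen (CohB1.polyGrading N (ULift.{u} ℤ)) (MvPolynomial.X j) := inf_le_left
      have hUD := genLocus_le r τ σ hτ j
      have e1 := val_eq_smul r τ σ hτ i' j hUD
      have hc' := IsGen.coef_ext (isGen_val_of_le_genLocus (σ j) le_rfl) (hi'.symm.trans e1)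
      refine RingHom.mem_range.mpr ⟨((pr1 N S).appLE _ _ hW1).hom
        (rat (CohB1.polyGrading N (ULift.{u} ℤ)) (hX N j) (hX N i')), ?_⟩
      have h1 := Scheme.Hom.appLE_comp_appLE i (pr1 N S) _ _ _ hW1 hUW
      have h2 := appLE_of_eq hi1 (Proj.basicOpen (CohB1.polyGrading N (ULift.{u} ℤ))
        (MvPolynomial.X j)) (CohB1.genLocus M (σ j))
        (hUW.trans ((Opens.map i.base).map (homOfLE hW1)).le) hUD
      rw [hc']
      exact congrArg (fun ψ => ψ.hom (rat (CohB1.polyGrading N (ULift.{u} ℤ)) (hX N j)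
        (hX N i'))) (h1.trans h2)
  exact RingHom.mem_range.mp (key (hcl b))

end Surj

section Main

/-- **Criterion for very ampleness (projective-space form).** A finite family of global sections of
an invertible module `M` such that the affine loci `X_t` over which the quotients `t'/t` and the
functions from an affine open of the base generate the ring of functions cover `X`, gives an
immersion into a projective space over the base pulling `O(1)` back to `M`. -/
theorem isRelVeryAmplePn_of_sections {X S : Scheme.{u}} (q : X ⟶ S) (M : X.Modules)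
    (hM : PicF.IsInvertible M) (F : Finset (Coh.structureModule X ⟶ M))
    (hcov : ∀ x : X, ∃ t ∈ F, ∃ U : X.Opens, CohB1.genLocus M t = U ∧ x ∈ U ∧ IsAffineOpen U ∧
      ∃ V : S.Opens, IsAffineOpen V ∧ ∃ h : U ≤ q ⁻¹ᵁ V, ∀ b : Γ(X, U),
        b ∈ Subring.closure (Set.range (q.appLE V U h).hom ∪
          {c | ∃ t' ∈ F, SecTwist.val t' U = c • SecTwist.val t U})) :
    RelAmple.IsRelVeryAmplePn q M := by
  classical
  have hcov' : ∀ x : X, ∃ t ∈ F, x ∈ CohB1.genLocus M t ∧ IsAffineOpen (CohB1.genLocus M t) ∧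
      ∃ V : S.Opens, IsAffineOpen V ∧ ∃ h : CohB1.genLocus M t ≤ q ⁻¹ᵁ V,
        ∀ b : Γ(X, CohB1.genLocus M t),
        b ∈ Subring.closure (Set.range (q.appLE V (CohB1.genLocus M t) h).hom ∪
          {c | ∃ t' ∈ F, SecTwist.val t' (CohB1.genLocus M t) =
            c • SecTwist.val t (CohB1.genLocus M t)}) := by
    intro x
    obtain ⟨t, ht, U, rfl, hx, haff, V, hV, h, hcl⟩ := hcov x
    exact ⟨t, ht, hx, haff, V, hV, h, hcl⟩
  choose t ht hxt haff V hV hle hcl using hcov'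
  -- the index set
  let J := {t' // t' ∈ insert (0 : Coh.structureModule X ⟶ M) F}
  haveI : Nonempty J := ⟨⟨0, Finset.mem_insert_self 0 F⟩⟩
  obtain ⟨N, hN⟩ : ∃ N, Fintype.card J = N + 1 :=
    Nat.exists_eq_succ_of_ne_zero Fintype.card_ne_zero
  let e : J ≃ Fin (N + 1) := Fintype.equivFinOfCardEq hN
  let σ : Fin (N + 1) → (Coh.structureModule X ⟶ M) := fun k => (e.symm k).1
  have hσ : ∀ t' ∈ F, ∃ k, σ k = t' := fun t' ht' =>
    ⟨e ⟨t', Finset.mem_insert_of_mem ht'⟩, by simp [σ]⟩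
  choose! jj hjj using hσ
  have hgen : ProjUP.GeneratedBy M (fun k => (SecTwist.val (σ k) ⊤ : ProjUP.Γm M)) := by
    apply generatedBy_of_cover σ
    intro x
    exact ⟨jj (t x), by rw [hjj _ (ht x)]; exact hxt x⟩
  -- the morphism to projective space over the integers
  obtain ⟨r, -, τ, hτ⟩ := Groth.Agent.S3572.result (R := ULift.{u} ℤ) N
    (specULiftZIsTerminal.from X) M hM (fun k => (SecTwist.val (σ k) ⊤ : ProjUP.Γm M)) hgen
  have hτ' : ∀ k, τ.hom.app ⊤ (ProjUP.pullSec r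
      (Twist.twist (CohB1.polyGrading N (ULift.{u} ℤ)) 1)
      (sig (CohB1.polyGrading N (ULift.{u} ℤ)) (hX N k))) = SecTwist.val (σ k) ⊤ := hτ
  let i : X ⟶ CohB1.ProjSpaceOver N S :=
    pullback.lift r q (specULiftZIsTerminal.hom_ext _ _)
  have hi1 : i ≫ pr1 N S = r := pullback.lift_fst _ _ _
  have hi2 : i ≫ pr2 N S = q := pullback.lift_snd _ _ _
  have hb1 : ∀ x' : X, (pr1 N S) (i x') = r x' := fun x' => by
    rw [← Scheme.Hom.comp_apply, hi1]
    rfl
  have hb2 : ∀ x' : X, (pr2 N S) (i x') = q x' := fun x' => by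
    rw [← Scheme.Hom.comp_apply, hi2]
  refine ⟨N, i, ?_, hi2, ⟨τ.symm ≪≫
    ((Scheme.Modules.pullbackCongr hi1).symm.app (Twist.twistProjSpace N (ULift.{u} ℤ) 1)) ≪≫
    ((Scheme.Modules.pullbackComp i (pr1 N S)).symm.app
      (Twist.twistProjSpace N (ULift.{u} ℤ) 1))⟩⟩
  -- the immersion
  let W : X → (CohB1.ProjSpaceOver N S).Opens := fun x =>
    pr1 N S ⁻¹ᵁ Proj.basicOpen (CohB1.polyGrading N (ULift.{u} ℤ)) (MvPolynomial.X (jj (t x))) ⊓
      pr2 N S ⁻¹ᵁ V x
  have hpre : ∀ x, i ⁻¹ᵁ W x = CohB1.genLocus M (t x) := by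
    intro x
    ext x'
    constructor
    · rintro ⟨h1, -⟩
      have h1' : r x' ∈ Proj.basicOpen (CohB1.polyGrading N (ULift.{u} ℤ))
          (MvPolynomial.X (jj (t x))) := by
        rw [← hb1]
        exact h1
      have h2 := le_genLocus r τ σ hτ' (jj (t x)) h1'
      rwa [hjj _ (ht x)] at h2
    · intro hx'
      have hx'' : x' ∈ CohB1.genLocus M (σ (jj (t x))) := by
        rw [hjj _ (ht x)]
        exact hx'
      refine ⟨?_, ?_⟩
      · show (pr1 N S) (i x') ∈ Proj.basicOpen (CohB1.polyGrading N (ULift.{u} ℤ))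
          (MvPolynomial.X (jj (t x)))
        rw [hb1]
        exact genLocus_le r τ σ hτ' _ hx''
      · show (pr2 N S) (i x') ∈ V x
        rw [hb2]
        exact hle x hx'
  haveI := respectsRight_isImmersion.{u}
  apply IsZariskiLocalAtTarget.of_range_subset_iSup (P := @IsImmersion) W
  · rintro _ ⟨x, rfl⟩
    refine Opens.mem_iSup.mpr ⟨x, ?_⟩
    have : x ∈ i ⁻¹ᵁ W x := by
      rw [hpre x]
      exact hxt x
    exact this
  · intro x
    have hWaff : IsAffineOpen (W x) :=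
      isAffineOpen_pullback_inf
        (Proj.isAffineOpen_basicOpen (CohB1.polyGrading N (ULift.{u} ℤ)) _ (hX N (jj (t x)))
          one_pos) (hV x) (isAffineOpen_top (Spec (CommRingCat.of (ULift.{u} ℤ)))) le_top le_top
    haveI : IsAffine (W x).toScheme := hWaff
    haveI : IsAffine (i ⁻¹ᵁ W x).toScheme := by
      rw [hpre x]
      exact haff x
    have hUW : CohB1.genLocus M (t x) ≤ i ⁻¹ᵁ W x := (hpre x).ge
    have hsurj := surjective_appLE q r τ σ hτ' i hi1 hi2 (t x) (jj (t x)) (hjj _ (ht x)) (V x)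
      (hle x) _ (fun c hc => by
        obtain ⟨t', ht', h⟩ := hc
        exact ⟨jj t', by rw [hjj _ ht']; exact h⟩) (hcl x) hUW
    haveI : IsClosedImmersion (i ∣_ W x) := by
      apply IsClosedImmersion.of_surjective_of_isAffine
      have h0 : (i ∣_ W x).appTop = i.appLE ((W x).ι ''ᵁ ⊤)
          ((i ⁻¹ᵁ W x).ι ''ᵁ ((i ∣_ W x) ⁻¹ᵁ ⊤))
          (image_morphismRestrict_preimage i (W x) ⊤).le := morphismRestrict_app' i (W x) ⊤
      show Function.Surjective ((i ∣_ W x).appTop).hom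
      rw [h0]
      refine (Scheme.Hom.appLE_congr i _ (Scheme.Opens.ι_image_top (W x)) ?_
        (fun φ => Function.Surjective φ.hom)).mpr hsurj
      rw [Scheme.Hom.preimage_top, Scheme.Opens.ι_image_top, hpre x]
    infer_instance

end Main

end Groth.Agent.VAmpPn
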