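import Mathlib
import Groth.Prelude
import Groth.Agent.Lib.Tens23_helper8

/-!
# Very ample (projective-space form), part 3: sections of `L^n ⊗ L'` for `L` ample (helper5)
APPEND-ONLY once landed.
-/

set_option autoImplicit false
universe u
open CategoryTheory CategoryTheory.Limits AlgebraicGeometry TopologicalSpace Opposite
open QcqsLoc GenLocH8 TensH8 FLFH8 QCohExtn

namespace Groth.Agent.VAmpPn

theorem exists_finset_closure {A B : Type*} [CommRing A] [CommRing B] (φ : A →+* B)
    (h : φ.FiniteType) :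
    ∃ G : Finset B, ∀ b : B, b ∈ Subring.closure (Set.range φ ∪ (G : Set B)) := by
  letI := φ.toAlgebra
  obtain ⟨G, hG⟩ := h.out
  refine ⟨G, fun b => ?_⟩
  have h1 : b ∈ (Algebra.adjoin A (G : Set B)).toSubring := by
    rw [hG]
    exact (Algebra.mem_top : b ∈ (⊤ : Subalgebra A B))
  rw [Algebra.adjoin_eq_ring_closure] at h1
  exact h1

variable {X : Scheme.{u}}

/-- Sections `σ`, `τ_b` of `(F ⊗ P^N) ⊗ P` with `X_σ = X_s` and `τ_b = b σ` on `X_s`. -/
theorem exists_sections_twist [CompactSpace X] [QuasiSeparatedSpace X] {P F : X.Modules}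
    (hP : PicF.IsInvertible P) (hF : PicF.IsInvertible F) (s : Coh.structureModule X ⟶ P)
    (t : Γ(F, CohB1.genLocus P s)) (ht : IsGen F (CohB1.genLocus P s) t)
    (G : Finset Γ(X, CohB1.genLocus P s)) :
    ∃ n0 : ℕ, ∀ N : ℕ, n0 ≤ N → ∃ σ : Coh.structureModule X ⟶
        CohB1.tensorMod (CohB1.tensorMod F (CohB1.tensorPow P N)) P,
      CohB1.genLocus _ σ = CohB1.genLocus P s ∧
      ∀ b ∈ G, ∃ τ : Coh.structureModule X ⟶
        CohB1.tensorMod (CohB1.tensorMod F (CohB1.tensorPow P N)) P,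
        SecTwist.val τ (CohB1.genLocus P s) = b • SecTwist.val σ (CohB1.genLocus P s) := by
  classical
  haveI : F.IsQuasicoherent := isQuasicoherent_of_isInvertible hF
  have hext : ∀ b : Γ(X, CohB1.genLocus P s), ∃ n0 : ℕ, ∀ N : ℕ, n0 ≤ N →
      ∃ t' : Γ(CohB1.tensorMod F (CohB1.tensorPow P N), ⊤),
        rF (CohB1.tensorMod F (CohB1.tensorPow P N)) (le_top : CohB1.genLocus P s ≤ ⊤) t' =
          SecTwist.twist s N F (CohB1.genLocus P s) (b • t) :=
    fun b => exists_twist_extends hP s F (b • t)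
  choose n0 hn0 using hext
  refine ⟨(insert 1 G).sup n0, fun N hN => ?_⟩
  have hN' : ∀ b ∈ insert 1 G, n0 b ≤ N := fun b hb => (Finset.le_sup hb).trans hN
  have hFP : PicF.IsInvertible (CohB1.tensorMod F (CohB1.tensorPow P N)) :=
    isInvertible_tensorMod hF (isInvertible_tensorPow hP N)
  have hval : ∀ (b : Γ(X, CohB1.genLocus P s))
      (t' : Γ(CohB1.tensorMod F (CohB1.tensorPow P N), ⊤)),
      rF (CohB1.tensorMod F (CohB1.tensorPow P N)) (le_top : CohB1.genLocus P s ≤ ⊤) t' =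
          SecTwist.twist s N F (CohB1.genLocus P s) (b • t) →
      SecTwist.val (SecTwist.tmulHom (homOfSec _ t') s) (CohB1.genLocus P s) =
        b • (SecTwist.tmul (CohB1.tensorMod F (CohB1.tensorPow P N)) P (CohB1.genLocus P s)
            (SecTwist.twist s N F (CohB1.genLocus P s) t)
            (SecTwist.val s (CohB1.genLocus P s)) :
          Γ(CohB1.tensorMod (CohB1.tensorMod F (CohB1.tensorPow P N)) P,
            CohB1.genLocus P s)) := by
    intro b t' ht'
    rw [SecTwist.val_tmulHom, val_homOfSec, ht']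
    show SecTwist.tmul _ _ _ (SecTwist.tmul F _ _ (b • t) (SecTwist.pow s N _)) _ = _
    rw [tmul_smul_left, tmul_smul_left]
    rfl
  obtain ⟨t1, ht1⟩ := hn0 1 N (hN' 1 (Finset.mem_insert_self _ _))
  refine ⟨SecTwist.tmulHom (homOfSec _ t1) s, ?_, fun b hb => ?_⟩
  · have ht1' : rF (CohB1.tensorMod F (CohB1.tensorPow P N))
        (le_top : CohB1.genLocus P s ≤ ⊤) t1 = SecTwist.twist s N F (CohB1.genLocus P s) t := by
      rw [ht1, one_smul]
    rw [genLocus_tmulHom hFP hP]
    apply inf_eq_right.mpr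
    have hgen : IsGen (CohB1.tensorMod F (CohB1.tensorPow P N)) (CohB1.genLocus P s)
        (SecTwist.twist s N F (CohB1.genLocus P s) t) := by
      have h1 : IsGen P (CohB1.genLocus P s) (SecTwist.val s (CohB1.genLocus P s)) :=
        isGen_val_of_le_genLocus s le_rfl
      have h2 := isGen_lpow h1 N
      rw [CycCov.lpow_val] at h2
      exact isGen_tmul ht h2
    have h3 := genLocus_inf_eq (homOfSec _ t1) hgen 1 (by rw [one_smul, val_homOfSec]; exact ht1')
    rw [Scheme.basicOpen_of_isUnit _ isUnit_one] at h3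
    exact inf_eq_right.mp h3
  · obtain ⟨tb, htb⟩ := hn0 b N (hN' b (Finset.mem_insert_of_mem hb))
    refine ⟨SecTwist.tmulHom (homOfSec _ tb) s, ?_⟩
    rw [hval b tb htb, hval 1 t1 ht1, one_smul]

/-- Transfer of a section between bi-framed modules of the same weights, keeping the local
coefficients. -/
theorem transfer' {L L' M M' : X.Modules} (hL : PicF.IsInvertible L) (hL' : PicF.IsInvertible L')
    {a b : ℕ} (Ψ : Frame₂ L L' M a b) (Ψ' : Frame₂ L L' M' a b)
    (s : Coh.structureModule X ⟶ M) :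
    ∃ s' : Coh.structureModule X ⟶ M', ∀ (W : X.Opens) (e : Γ(L, W)) (e' : Γ(L', W))
      (he : IsGen L W e) (he' : IsGen L' W e'),
      SecTwist.val s' W = Ψ.coefHom s W e e' he he' • Ψ'.φ W e e' :=
  Ψ'.exists_hom hL hL' (fun W e e' he he' => Ψ.coefHom s W e e' he he')
    (fun W e e' he he' W' h => Ψ.coefHom_res s W e e' he he' h)
    (fun W e e' he he' u u' hue hue' => Ψ.coefHom_change s W e e' he he' u u' hue hue')

/-- Transfer of a section together with its multiples over an open carrying generators. -/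
theorem transfer_rel {L L' M M' : X.Modules} (hL : PicF.IsInvertible L)
    (hL' : PicF.IsInvertible L') {a b : ℕ} (Ψ : Frame₂ L L' M a b) (Ψ' : Frame₂ L L' M' a b)
    (σ : Coh.structureModule X ⟶ M) {U : X.Opens} (G : Finset Γ(X, U))
    (e : Γ(L, U)) (e' : Γ(L', U)) (he : IsGen L U e) (he' : IsGen L' U e')
    (hτ : ∀ c ∈ G, ∃ τ : Coh.structureModule X ⟶ M, SecTwist.val τ U = c • SecTwist.val σ U) :
    ∃ σ' : Coh.structureModule X ⟶ M', CohB1.genLocus M' σ' = CohB1.genLocus M σ ∧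
      ∀ c ∈ G, ∃ τ' : Coh.structureModule X ⟶ M',
        SecTwist.val τ' U = c • SecTwist.val σ' U := by
  obtain ⟨σ', hσ'⟩ := transfer' hL hL' Ψ Ψ' σ
  refine ⟨σ', opens_eq_of_local (fun x => ?_), fun c hc => ?_⟩
  · obtain ⟨W, hxW, f, f', hf, hf'⟩ := exists_isGen₂ hL hL' x
    refine ⟨W, hxW, ?_⟩
    rw [genLocus_inf_eq σ' (Ψ'.isGen hf hf') _ (hσ' W f f' hf hf'),
      Ψ.genLocus_inf σ W f f' hf hf']
  · obtain ⟨τ, hτc⟩ := hτ c hc
    obtain ⟨τ', hτ'⟩ := transfer' hL hL' Ψ Ψ' τ
    refine ⟨τ', ?_⟩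
    have h1 : c * Ψ.coefHom σ U e e' he he' = Ψ.coefHom τ U e e' he he' := by
      apply Ψ.coefHom_unique
      rw [hτc, mul_smul, ← Ψ.coefHom_spec]
      rfl
    rw [hτ' U e e' he he', hσ' U e e' he he', ← h1, mul_smul]
    rfl

end Groth.Agent.VAmpPn
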