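import Mathlib
import Groth.Prelude
import Groth.Agent.Lib.VAmpPn2_helper5
import Groth.Agent.Lib.VAmpPn4_helper5

/-!
# Ample implies very ample (projective-space form) for large twists (helper5)
APPEND-ONLY once landed.
-/

set_option autoImplicit false
universe u
open CategoryTheory CategoryTheory.Limits AlgebraicGeometry TopologicalSpace Opposite
open QcqsLoc GenLocH8 TensH8 FLFH8 QCohExtn

namespace Groth.Agent.VAmpPn

/-- **Ample ⟹ very ample.** For `L` ample on `X`, `L'` invertible and `q : X ⟶ S` locally of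
finite type, `L^n ⊗ L'` is the pullback of `O(1)` along an immersion into some `P^N_S` over `S`,
for all large `n`. -/
theorem isRelVeryAmplePn_twist {X S : Scheme.{u}} (q : X ⟶ S) [LocallyOfFiniteType q]
    {L L' : X.Modules} (hL : CohB1.IsAmple L) (hL' : PicF.IsInvertible L') :
    ∃ n₀ : ℕ, ∀ n, n₀ ≤ n →
      RelAmple.IsRelVeryAmplePn q (CohB1.tensorMod (CohB1.tensorPow L n) L') := by
  obtain ⟨n₀, h⟩ := exists_veryAmple_sections q hL hL'
  refine ⟨n₀, fun n hn => ?_⟩
  obtain ⟨F, hF⟩ := h n hn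
  exact isRelVeryAmplePn_of_sections q _
    (isInvertible_tensorMod (isInvertible_tensorPow hL.1 n) hL') F hF

/-- `IsRelVeryAmplePn` is invariant under isomorphism of the module. -/
theorem isRelVeryAmplePn_of_iso {X S : Scheme.{u}} (q : X ⟶ S) {M M' : X.Modules} (α : M ≅ M')
    (h : RelAmple.IsRelVeryAmplePn q M) : RelAmple.IsRelVeryAmplePn q M' := by
  obtain ⟨n, i, hi, hq, ⟨β⟩⟩ := h
  exact ⟨n, i, hi, hq, ⟨α.symm ≪≫ β⟩⟩

/-- Ample ⟹ all large tensor powers are very ample. -/
theorem isRelVeryAmplePn_tensorPow {X S : Scheme.{u}} (q : X ⟶ S) [LocallyOfFiniteType q]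
    {L : X.Modules} (hL : CohB1.IsAmple L) :
    ∃ n₀ : ℕ, ∀ n, n₀ ≤ n → RelAmple.IsRelVeryAmplePn q (CohB1.tensorPow L n) := by
  obtain ⟨n₀, h⟩ := isRelVeryAmplePn_twist q hL (isInvertible_structureModule (X := X))
  exact ⟨n₀, fun n hn => isRelVeryAmplePn_of_iso q (SecTwist.unitorR _) (h n hn)⟩

end Groth.Agent.VAmpPn
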