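import Mathlib
import Groth.Prelude
import Groth.Agent.Lib.VAmpPn5_helper5

/-!
# Very ample (projective-space form) over an affine base implies ample (helper5)
APPEND-ONLY once landed.
-/

set_option autoImplicit false
universe u
open CategoryTheory CategoryTheory.Limits AlgebraicGeometry TopologicalSpace Opposite
open QcqsLoc GenLocH8 TensH8 FLFH8 QCohExtn

namespace Groth.Agent.VAmpPn

/-- `O(1)` on projective space over the integers is ample. -/
theorem isAmple_twist_poly (m : ℕ) :
    CohB1.IsAmple (Twist.twist (CohB1.polyGrading m (ULift.{u} ℤ)) 1) := by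
  classical
  refine ProjTw.isAmple_twist_one (CohB1.polyGrading m (ULift.{u} ℤ))
    (Finset.univ.image (fun i : Fin (m + 1) =>
      (MvPolynomial.X i : MvPolynomial (Fin (m + 1)) (ULift.{u} ℤ)))) ?_ ?_
  · intro f hf
    obtain ⟨i, -, rfl⟩ := Finset.mem_image.mp hf
    exact hX m i
  · intro x
    obtain ⟨i, hi⟩ := hcovX m x
    exact ⟨_, Finset.mem_image_of_mem _ (Finset.mem_univ i), hi⟩

/-- `O(1)` on projective space over an affine scheme is ample. -/
theorem isAmple_twistOver (m : ℕ) (Y : Scheme.{u}) [IsAffine Y] :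
    CohB1.IsAmple (Twist.twistOver m Y 1) := by
  have hamp0 := isAmple_twist_poly.{u} m
  haveI : CompactSpace (Proj (CohB1.polyGrading m (ULift.{u} ℤ))) := hamp0.2.1
  haveI : CompactSpace (CohB1.ProjSpace m (ULift.{u} ℤ)) := hamp0.2.1
  haveI : IsAffineHom (specULiftZIsTerminal.from Y) := inferInstance
  haveI : IsAffineHom (pullback.fst (CohB1.ProjSpace.toSpec m (ULift.{u} ℤ))
      (specULiftZIsTerminal.from Y)) :=
    MorphismProperty.pullback_fst (P := @IsAffineHom) _ _ inferInstance
  have hc : CompactSpace ↥(pullback (CohB1.ProjSpace.toSpec m (ULift.{u} ℤ))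
      (specULiftZIsTerminal.from Y)) :=
    QuasiCompact.compactSpace_of_compactSpace (pullback.fst (CohB1.ProjSpace.toSpec m (ULift.{u} ℤ))
      (specULiftZIsTerminal.from Y))
  haveI : CompactSpace (CohB1.ProjSpaceOver m Y) := hc
  exact isAmple_pullback_of_isAffineHom (pullback.fst (CohB1.ProjSpace.toSpec m (ULift.{u} ℤ))
      (specULiftZIsTerminal.from Y)) hamp0

/-- Over an affine base, a module very ample in the projective-space form (for a quasi-compact
morphism) is ample. -/
theorem isAmple_of_isRelVeryAmplePn {X Y : Scheme.{u}} [IsAffine Y] (q : X ⟶ Y) [QuasiCompact q]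
    {M : X.Modules} (h : RelAmple.IsRelVeryAmplePn q M) : CohB1.IsAmple M := by
  obtain ⟨m, i, hi, -, ⟨β⟩⟩ := h
  haveI : CompactSpace X := QuasiCompact.compactSpace_of_compactSpace q
  have h1 := isAmple_pullback_of_isEmbedding i i.isEmbedding (isAmple_twistOver m Y)
  exact (isAmple_congr β).mpr h1

end Groth.Agent.VAmpPn
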