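import Mathlib
import Groth.Prelude
import Groth.Agent.Lib.VAmpPn6_helper5
import Groth.Agent.Lib.ProjSpaceProper_helper4
import Groth.Agent.Lib.Tens24_helper8

/-!
# Quasi-projective morphisms over a base with an ample module (helper5)
APPEND-ONLY once landed.
-/

set_option autoImplicit false
universe u
open CategoryTheory CategoryTheory.Limits AlgebraicGeometry TopologicalSpace Opposite
open QcqsLoc GenLocH8 TensH8 FLFH8 QCohExtn

namespace Groth.Agent.VAmpPn

/-- An ample module is ample relative to every quasi-compact morphism. -/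
theorem isRelAmple_of_isAmple {X S : Scheme.{u}} (f : X ⟶ S) [QuasiCompact f] {L : X.Modules}
    (hL : CohB1.IsAmple L) : RelAmple.IsRelAmple f L := by
  rw [isRelAmple_iff f hL.1]
  refine ⟨inferInstance, fun V => isAmpleOn_of_isAmple hL _ ?_⟩
  exact QuasiCompact.isCompact_preimage (f := f) _ V.1.isOpen V.2.isCompact

/-- `O(1)` on `P^r_Y` is ample relative to the projection to `Y`. -/
theorem isRelAmple_twistOver (r : ℕ) (Y : Scheme.{u}) :
    RelAmple.IsRelAmple (CohB1.ProjSpaceOver.toBase r Y) (Twist.twistOver r Y 1) := by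
  haveI : IsProper (CohB1.ProjSpace.toSpec r (ULift.{u} ℤ)) :=
    Groth.Agent.Lib.ProjSpaceProperH4.isProper_toSpec r (ULift.{u} ℤ)
  have h0 : RelAmple.IsRelAmple (CohB1.ProjSpace.toSpec r (ULift.{u} ℤ))
      (Twist.twist (CohB1.polyGrading r (ULift.{u} ℤ)) 1) :=
    isRelAmple_of_isAmple _ (isAmple_twist_poly.{u} r)
  exact isRelAmple_baseChange (CohB1.ProjSpace.toSpec r (ULift.{u} ℤ))
    (specULiftZIsTerminal.from Y) h0

/-- The pullback of a relatively ample module along a topological embedding is relatively ample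
for the composite, if the latter is quasi-compact. -/
theorem isRelAmple_pullback_of_isEmbedding {X P Y : Scheme.{u}} (i : X ⟶ P) (g : P ⟶ Y)
    (hi : Topology.IsEmbedding i.base) [QuasiCompact (i ≫ g)] {K : P.Modules}
    (hK : RelAmple.IsRelAmple g K) :
    RelAmple.IsRelAmple (i ≫ g) ((Scheme.Modules.pullback i).obj K) := by
  have hKi := isInvertible_of_isRelAmple g hK
  have hinv := isInvertible_pullback i hKi
  rw [isRelAmple_iff (i ≫ g) hinv]
  refine ⟨inferInstance, fun V => ?_⟩
  have h1 := ((isRelAmple_iff g hKi).mp hK).2 V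
  exact isAmpleOn_pullback_of_isEmbedding i hi hKi h1
    (QuasiCompact.isCompact_preimage (f := i ≫ g) _ V.1.isOpen V.2.isCompact)

end Groth.Agent.VAmpPn
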