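import Mathlib
import Groth.Prelude
import Groth.Agent.Lib.VAmpPn8_helper5
import Groth.Agent.Lib.VAmpPn5_helper5

/-!
# Morphisms to a base carrying an ample module: relatively ample ⟹ ample, and immersions into
`P^r_S` (helper5).  APPEND-ONLY once landed.
-/

set_option autoImplicit false
universe u
open CategoryTheory CategoryTheory.Limits AlgebraicGeometry TopologicalSpace Opposite
open QcqsLoc GenLocH8 TensH8 FLFH8 QCohExtn

namespace Groth.Agent.VAmpPn

/-- A scheme with an ample module is separated. -/
theorem isSeparated_of_isAmple {S : Scheme.{u}} {N : S.Modules} (hN : CohB1.IsAmple N) :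
    S.IsSeparated := isSeparated_of_affine_genLocus hN.1 hN.2.2

/-- Over a base with an ample module `N`, if `L` is `f`-ample then `L ⊗ f^*N^n` is ample for
large `n`. -/
theorem exists_isAmple_of_isRelAmple {X S : Scheme.{u}} (f : X ⟶ S) {N : S.Modules}
    (hN : CohB1.IsAmple N) {L : X.Modules} (hL : RelAmple.IsRelAmple f L) :
    ∃ M : X.Modules, CohB1.IsAmple M := by
  haveI : CompactSpace S := hN.2.1
  haveI : S.IsSeparated := isSeparated_of_isAmple hN
  haveI : QuasiCompact f := hL.1
  have hLi := isInvertible_of_isRelAmple f hL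
  haveI : IsSeparated f := isSeparated_of_isRelAmple f hL
  haveI : CompactSpace X := QuasiCompact.compactSpace_of_compactSpace f
  haveI : QuasiSeparatedSpace X := quasiSeparatedSpace_of_quasiSeparated f
  have hLf : ∀ U : S.Opens, IsAffineOpen U → IsAmpleOn L (f ⁻¹ᵁ U) := fun U hU =>
    ((isRelAmple_iff f hLi).mp hL).2 ⟨U, hU⟩
  obtain ⟨n₀, hn₀⟩ := isAmple_comp_abs f hN hLi hLf
  exact ⟨_, hn₀ n₀ le_rfl _ (Frame₂.tmul (Frame.self L)
    (Frame.pow ((Scheme.Modules.pullback f).obj N) n₀))⟩

/-- Over a base with an ample module, a morphism locally of finite type carrying a relatively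
ample module is a quasi-compact immersion into some `P^r_S` followed by the projection. -/
theorem exists_immersion_of_isRelAmple {X S : Scheme.{u}} (f : X ⟶ S) [LocallyOfFiniteType f]
    {N : S.Modules} (hN : CohB1.IsAmple N) {L : X.Modules} (hL : RelAmple.IsRelAmple f L) :
    ∃ (r : ℕ) (i : X ⟶ CohB1.ProjSpaceOver r S), IsImmersion i ∧ QuasiCompact i ∧
      i ≫ CohB1.ProjSpaceOver.toBase r S = f := by
  obtain ⟨M, hM⟩ := exists_isAmple_of_isRelAmple f hN hL
  haveI : QuasiCompact f := hL.1
  obtain ⟨d₀, hd₀⟩ := isRelVeryAmplePn_tensorPow f hM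
  obtain ⟨r, i, hi, hif, -⟩ := hd₀ d₀ le_rfl
  refine ⟨r, i, hi, ?_, hif⟩
  haveI : IsProper (CohB1.ProjSpaceOver.toBase r S) :=
    Groth.Agent.Lib.ProjSpaceProperH4.isProper_toBase r S
  haveI : QuasiCompact (i ≫ CohB1.ProjSpaceOver.toBase r S) := by
    have : i ≫ CohB1.ProjSpaceOver.toBase r S = f := hif
    rw [this]
    infer_instance
  exact QuasiCompact.of_comp i (CohB1.ProjSpaceOver.toBase r S)

/-- A scheme admitting a quasi-compact immersion into a projective space over a base with an ample
module carries an ample module. -/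
theorem exists_isAmple_of_immersion {X S : Scheme.{u}} {N : S.Modules} (hN : CohB1.IsAmple N)
    {r : ℕ} (i : X ⟶ CohB1.ProjSpaceOver r S) [IsImmersion i] [QuasiCompact i] :
    ∃ M : X.Modules, CohB1.IsAmple M := by
  haveI : IsProper (CohB1.ProjSpaceOver.toBase r S) :=
    Groth.Agent.Lib.ProjSpaceProperH4.isProper_toBase r S
  haveI : QuasiCompact (i ≫ CohB1.ProjSpaceOver.toBase r S) := inferInstance
  exact exists_isAmple_of_isRelAmple (i ≫ CohB1.ProjSpaceOver.toBase r S) hN
    (isRelAmple_pullback_of_isEmbedding i _ i.isEmbedding (isRelAmple_twistOver r S))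

end Groth.Agent.VAmpPn
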