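import Groth.Agent.Lib.GradedGen_helper3
import Groth.Agent.Lib.ProjMap_helper3
import Mathlib.AlgebraicGeometry.ProjectiveSpectrum.Proper

/-! Graded rings generated in degree one with finitely generated degree-one part: `Proj` is of finite type over
the base. -/

universe u
open DirectSum HomogeneousLocalization

namespace Groth.Agent.Lib.GenDegOne_helper3

open Groth.Agent.Lib.GradedGen_helper3

section
variable {R A σ : Type*} [CommRing R] [CommRing A] [SetLike σ A] [AddSubgroupClass σ A] (𝒜 : ℕ → σ) [GradedRing 𝒜]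
  (g : R →+* 𝒜 0) (T : Finset A) (hT : ∀ t ∈ T, t ∈ 𝒜 1)
  (hspan : ∀ x ∈ 𝒜 1, ∃ c : A → R, x = ∑ t ∈ T, (g (c t) : A) * t)
  (hgen : Subring.closure ((𝒜 0 : Set A) ∪ (𝒜 1 : Set A)) = ⊤)

include hT hspan hgen

omit hT in
theorem adjoin_eq_top_of_genDegOne : Algebra.adjoin (𝒜 0) (T : Set A) = ⊤ := by
  rw [eq_top_iff]
  intro x _
  have hx : x ∈ Subring.closure ((𝒜 0 : Set A) ∪ (𝒜 1 : Set A)) := hgen ▸ Subring.mem_top x
  have hle : Subring.closure ((𝒜 0 : Set A) ∪ (𝒜 1 : Set A)) ≤ (Algebra.adjoin (𝒜 0) (T : Set A)).toSubring := by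
    rw [Subring.closure_le]
    rintro y (hy | hy)
    · exact Subalgebra.algebraMap_mem _ (⟨y, hy⟩ : 𝒜 0)
    · obtain ⟨c, rfl⟩ := hspan y hy
      refine Subring.sum_mem _ fun t ht => Subring.mul_mem _ ?_ ?_
      · exact Subalgebra.algebraMap_mem _ (g (c t))
      · exact Algebra.subset_adjoin ht
  exact hle hx

theorem irrelevant_eq_span_of_genDegOne :
    (HomogeneousIdeal.irrelevant 𝒜).toIdeal = Ideal.span (T : Set A) :=
  irrelevant_eq_span_of_adjoin 𝒜 _ (fun e he => ⟨1, one_pos, hT e he⟩)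
    (adjoin_eq_top_of_genDegOne 𝒜 g T hspan hgen)

/-- Every element of degree `n + 1` is a sum of products `b * t` with `b` of degree `n` and `t ∈ T`. -/
theorem exists_sum_of_mem_succ (n : ℕ) (a : A) (ha : a ∈ 𝒜 (n + 1)) :
    ∃ b : A → A, (∀ t, b t ∈ 𝒜 n) ∧ a = ∑ t ∈ T, b t * t := by
  classical
  have hirr := irrelevant_eq_span_of_genDegOne 𝒜 g T hT hspan hgen
  have ha' : a ∈ Ideal.span (T : Set A) := hirr ▸ HomogeneousIdeal.mem_irrelevant_of_mem 𝒜 (Nat.succ_pos n) ha
  rw [Ideal.span, Submodule.mem_span_finset] at ha'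
  obtain ⟨c, -, hc⟩ := ha'
  refine ⟨fun t => (decompose 𝒜 (c t) n : A), fun t => SetLike.coe_mem _, ?_⟩
  have h1 : (decompose 𝒜 a (n + 1) : A) = a := DirectSum.decompose_of_mem_same 𝒜 ha
  rw [← h1, ← hc, decompose_sum, DFinsupp.finsetSum_apply, AddSubmonoidClass.coe_finsetSum]
  refine Finset.sum_congr rfl fun t ht => ?_
  rw [smul_eq_mul, coe_decompose_mul_of_right_mem_of_le 𝒜 (hT t ht) (Nat.le_add_left 1 n), Nat.add_sub_cancel]

theorem away_finiteType_of_genDegOne (t : A) (ht : t ∈ T) :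
    ((fromZeroRingHom 𝒜 (Submonoid.powers t)).comp g).FiniteType := by
  classical
  have ht1 : t ∈ 𝒜 1 := hT t ht
  let _ := ((fromZeroRingHom 𝒜 (Submonoid.powers t)).comp g).toAlgebra
  change Algebra.FiniteType R (Away 𝒜 t)
  have halg : ∀ r : R, algebraMap R (Away 𝒜 t) r = fromZeroRingHom 𝒜 (Submonoid.powers t) (g r) := fun r => rfl
  -- generators
  let G : A → Away 𝒜 t := fun s => if hs : s ∈ 𝒜 1 then Away.mk 𝒜 ht1 1 s (by simpa using hs) else 0
  refine ⟨⟨T.image G, ?_⟩⟩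
  set D := Algebra.adjoin R ((T.image G : Finset (Away 𝒜 t)) : Set (Away 𝒜 t)) with hD
  have hG : ∀ s ∈ T, G s ∈ D := fun s hs =>
    Algebra.subset_adjoin (by simpa using ⟨s, hs, rfl⟩)
  have key : ∀ (n : ℕ) (a : A) (ha : a ∈ 𝒜 (n • 1)), Away.mk 𝒜 ht1 n a ha ∈ D := by
    intro n
    induction n with
    | zero =>
      intro a ha
      have ha0 : a ∈ 𝒜 0 := by simpa using ha
      have hat : a * t ∈ 𝒜 1 := by simpa using SetLike.mul_mem_graded ha0 ht1
      obtain ⟨c, hc⟩ := hspan _ hat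
      have h1 : Away.mk 𝒜 ht1 0 a ha = ∑ s ∈ T, algebraMap R (Away 𝒜 t) (c s) * G s := by
        rw [HomogeneousLocalization.ext_iff_val, Away.val_mk]
        rw [show (∑ s ∈ T, algebraMap R (Away 𝒜 t) (c s) * G s).val =
          ∑ s ∈ T, (algebraMap R (Away 𝒜 t) (c s) * G s).val from map_sum (algebraMap (Away 𝒜 t) (Localization.Away t)) _ _]
        have h2 : ∀ s ∈ T, (algebraMap R (Away 𝒜 t) (c s) * G s).val =
            Localization.mk ((g (c s) : A) * s) (⟨t ^ 1, ⟨1, rfl⟩⟩ : Submonoid.powers t) := by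
          intro s hs
          have hs1 : s ∈ 𝒜 1 := hT s hs
          simp only [G, dif_pos hs1, HomogeneousLocalization.val_mul, Away.val_mk, halg]
          simp only [fromZeroRingHom, RingHom.coe_mk, MonoidHom.coe_mk, OneHom.coe_mk, HomogeneousLocalization.val_mk]
          rw [Localization.mk_mul]
          congr 1
          ext; simp
        rw [Finset.sum_congr rfl h2]
        rw [← Localization.mk_sum] 
        rw [← hc, Localization.mk_eq_mk_iff, Localization.r_iff_exists]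
        exact ⟨1, by simp [mul_comm]⟩
      rw [h1]
      exact sum_mem fun s hs => mul_mem (Subalgebra.algebraMap_mem _ _) (hG s hs)
    | succ n ih =>
      intro a ha
      have ha' : a ∈ 𝒜 (n + 1) := by simpa using ha
      obtain ⟨b, hb, hab⟩ := exists_sum_of_mem_succ 𝒜 g T hT hspan hgen n a ha'
      have h1 : Away.mk 𝒜 ht1 (n + 1) a ha =
          ∑ s ∈ T, Away.mk 𝒜 ht1 n (b s) (by simpa using hb s) * G s := by
        rw [HomogeneousLocalization.ext_iff_val, Away.val_mk]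
        rw [show (∑ s ∈ T, Away.mk 𝒜 ht1 n (b s) (by simpa using hb s) * G s).val =
          ∑ s ∈ T, (Away.mk 𝒜 ht1 n (b s) (by simpa using hb s) * G s).val from
            map_sum (algebraMap (Away 𝒜 t) (Localization.Away t)) _ _]
        have h2 : ∀ s ∈ T, (Away.mk 𝒜 ht1 n (b s) (by simpa using hb s) * G s).val =
            Localization.mk (b s * s) (⟨t ^ (n + 1), ⟨n + 1, rfl⟩⟩ : Submonoid.powers t) := by
          intro s hs
          have hs1 : s ∈ 𝒜 1 := hT s hs
          simp only [G, dif_pos hs1, HomogeneousLocalization.val_mul, Away.val_mk]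
          rw [Localization.mk_mul]
          congr 1
          ext; simp [pow_succ]
        rw [Finset.sum_congr rfl h2, ← Localization.mk_sum, ← hab]
      rw [h1]
      exact sum_mem fun s hs => mul_mem (ih _ _) (hG s hs)
  rw [eq_top_iff]
  intro z _
  obtain ⟨n, a, ha, rfl⟩ := Away.mk_surjective 𝒜 ht1 z
  exact key n a ha
end


section
open CategoryTheory AlgebraicGeometry
variable {R : CommRingCat.{u}} {A : Type u} {σ : Type*} [CommRing A] [SetLike σ A] [AddSubgroupClass σ A]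
  (𝒜 : ℕ → σ) [GradedRing 𝒜]
  (g : R ⟶ CommRingCat.of (𝒜 0)) (T : Finset A) (hT : ∀ t ∈ T, t ∈ 𝒜 1)
  (hspan : ∀ x ∈ 𝒜 1, ∃ c : A → R, x = ∑ t ∈ T, (g.hom (c t) : A) * t)
  (hgen : Subring.closure ((𝒜 0 : Set A) ∪ (𝒜 1 : Set A)) = ⊤)

include hT hspan hgen

theorem locallyOfFiniteType_of_genDegOne :
    LocallyOfFiniteType (Proj.toSpecZero 𝒜 ≫ Spec.map g) := by
  have hadj := adjoin_eq_top_of_genDegOne 𝒜 g.hom T hspan hgen
  rw [IsZariskiLocalAtSource.iff_of_iSup_eq_top (P := @LocallyOfFiniteType) _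
    (Proj.iSup_basicOpen_eq_top' 𝒜 (ι := T) (↑) (fun i ↦ ⟨1, hT _ i.2⟩) (by simpa using hadj))]
  intro i
  rw [← MorphismProperty.cancel_left_of_respectsIso (P := @LocallyOfFiniteType)
    (Proj.basicOpenIsoSpec 𝒜 (i : A) (hT _ i.2) one_pos).inv, ← Category.assoc, ← Category.assoc,
    ← Proj.awayι, Proj.awayι_toSpecZero, ← Spec.map_comp, HasRingHomProperty.Spec_iff (P := @LocallyOfFiniteType)]
  exact away_finiteType_of_genDegOne 𝒜 g.hom T hT hspan hgen i.1 i.2

omit hT in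
theorem quasiCompact_of_genDegOne :
    QuasiCompact (Proj.toSpecZero 𝒜 ≫ Spec.map g) := by
  have hadj := adjoin_eq_top_of_genDegOne 𝒜 g.hom T hspan hgen
  have : Algebra.FiniteType (𝒜 0) A := ⟨⟨T, hadj⟩⟩
  infer_instance
end

end Groth.Agent.Lib.GenDegOne_helper3
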