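import Mathlib
import Groth.Agent.Lib.ProjMap_helper3

/-!
# Morphisms of `Proj` given on the standard charts `D_+(ψ f) → D_+(f)`  (helper5)

A morphism `g : Proj ℬ ⟶ Proj 𝒜` which on every standard chart `D_+(ψ f)` is `Spec` of
`𝒜_(f) → ℬ_(ψ f)`, where the `D_+(ψ f)` cover `Proj ℬ`, satisfies `g⁻¹ D_+(f) = D_+(ψ f)` and inherits
every property local on the target from the maps `Spec ℬ_(ψ f) → Spec 𝒜_(f)`.
-/

set_option autoImplicit false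
universe u
open AlgebraicGeometry CategoryTheory CategoryTheory.Limits HomogeneousLocalization

namespace Groth.Agent.RelProjTN

section Abs
variable {A B σ τ : Type u} [CommRing A] [SetLike σ A] [AddSubgroupClass σ A] [CommRing B]
  [SetLike τ B] [AddSubgroupClass τ B] {𝒜 : ℕ → σ} [GradedRing 𝒜] {ℬ : ℕ → τ} [GradedRing ℬ]
  (ψ : 𝒜 →+*ᵍ ℬ) (g : Proj ℬ ⟶ Proj 𝒜)

/-- `g` is `Spec (𝒜_(f) → ℬ_(ψ f))` on the chart `D_+(ψ f)`, for every homogeneous `f` of positive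
degree. -/
def HC : Prop := ∀ (d : ℕ) (hd : 0 < d) (f : A) (hf : f ∈ 𝒜 d),
  Proj.awayι ℬ (ψ f) (ψ.map_mem hf) hd ≫ g =
    Spec.map (CommRingCat.ofHom (Away.map ψ f)) ≫ Proj.awayι 𝒜 f hf hd

/-- The charts `D_+(ψ f)` cover `Proj ℬ`. -/
def Cov : Prop := ∀ z : Proj ℬ, ∃ (d : ℕ) (_ : 0 < d) (f : A) (_ : f ∈ 𝒜 d),
  z ∈ Proj.basicOpen ℬ (ψ f)

variable {ψ g}

theorem HC.apply (hg : HC ψ g) {d : ℕ} (hd : 0 < d) {f : A} (hf : f ∈ 𝒜 d)
    (y : Spec (CommRingCat.of (Away ℬ (ψ f)))) :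
    g (Proj.awayι ℬ (ψ f) (ψ.map_mem hf) hd y) =
      Proj.awayι 𝒜 f hf hd (Spec.map (CommRingCat.ofHom (Away.map ψ f)) y) := by
  have := congrArg (fun m => m.base y) (hg d hd f hf)
  simpa using this

theorem map_isLocalizationElem {d e : ℕ} {f f' : A} (hf : f ∈ 𝒜 d) (hf' : f' ∈ 𝒜 e) :
    Away.map ψ f (Away.isLocalizationElem hf hf') =
      Away.isLocalizationElem (ψ.map_mem hf) (ψ.map_mem hf') := by
  unfold Away.isLocalizationElem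
  rw [Away.map_mk]
  congr 1
  exact map_pow ψ f' d

theorem preimage_basicOpen (hg : HC ψ g) (hc : Cov ψ) {d : ℕ} (hd : 0 < d) {f : A}
    (hf : f ∈ 𝒜 d) : g ⁻¹ᵁ Proj.basicOpen 𝒜 f = Proj.basicOpen ℬ (ψ f) := by
  apply le_antisymm
  · intro z hz
    obtain ⟨d₂, hd₂, f₂, hf₂, hz₂⟩ := hc z
    rw [← Proj.opensRange_awayι ℬ (ψ f₂) (ψ.map_mem hf₂) hd₂] at hz₂
    obtain ⟨y', rfl⟩ := hz₂
    have hz' : g (Proj.awayι ℬ (ψ f₂) (ψ.map_mem hf₂) hd₂ y') ∈ Proj.basicOpen 𝒜 f := hz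
    rw [hg.apply hd₂ hf₂] at hz'
    have h2 : Spec.map (CommRingCat.ofHom (Away.map ψ f₂)) y' ∈
        Proj.awayι 𝒜 f₂ hf₂ hd₂ ⁻¹ᵁ Proj.basicOpen 𝒜 f := hz'
    rw [Proj.awayι_preimage_basicOpen 𝒜 hf₂ hd₂ hf hd] at h2
    have h3 : y' ∈ PrimeSpectrum.basicOpen
        (Away.map ψ f₂ (Away.isLocalizationElem hf₂ hf)) := h2
    rw [map_isLocalizationElem,
      ← Proj.awayι_preimage_basicOpen ℬ (ψ.map_mem hf₂) hd₂ (ψ.map_mem hf) hd] at h3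
    exact h3
  · intro z hz
    rw [← Proj.opensRange_awayι ℬ (ψ f) (ψ.map_mem hf) hd] at hz
    obtain ⟨y', rfl⟩ := hz
    show g (Proj.awayι ℬ (ψ f) (ψ.map_mem hf) hd y') ∈ Proj.basicOpen 𝒜 f
    rw [hg.apply hd hf, ← Proj.opensRange_awayι 𝒜 f hf hd]
    exact ⟨_, rfl⟩

theorem isPullback_chart (hg : HC ψ g) (hc : Cov ψ) {d : ℕ} (hd : 0 < d) {f : A}
    (hf : f ∈ 𝒜 d) :
    IsPullback (Spec.map (CommRingCat.ofHom (Away.map ψ f)))
      (Proj.awayι ℬ (ψ f) (ψ.map_mem hf) hd) (Proj.awayι 𝒜 f hf hd) g := by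
  refine IsOpenImmersion.isPullback _ _ _ _ (hg d hd f hf) ?_
  rw [Proj.opensRange_awayι, Proj.opensRange_awayι, preimage_basicOpen hg hc hd hf]

/-- Properties local on the target pass from the chart maps to `g`. -/
theorem of_charts (Q : MorphismProperty Scheme.{u}) [IsZariskiLocalAtTarget Q] (hg : HC ψ g)
    (hc : Cov ψ)
    (H : ∀ (d : ℕ) (_ : 0 < d) (f : A) (_ : f ∈ 𝒜 d),
      Q (Spec.map (CommRingCat.ofHom (Away.map ψ f)))) : Q g := by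
  refine IsZariskiLocalAtTarget.of_openCover (Proj.affineOpenCover 𝒜).openCover fun s => ?_
  have hpb := (isPullback_chart hg hc s.1.2 s.2.2).flip
  have h1 : hpb.isoPullback.hom ≫ pullback.snd _ _ =
      Spec.map (CommRingCat.ofHom (Away.map ψ s.2)) := hpb.isoPullback_hom_snd
  have h2 := H s.1 s.1.2 s.2 s.2.2
  rw [← h1, Q.cancel_left_of_respectsIso] at h2
  exact h2

/-- A graded homomorphism surjective in all large degrees induces surjections on the degree zero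
localizations. -/
theorem away_map_surjective_of_eventually (ψ : 𝒜 →+*ᵍ ℬ) (n₀ : ℕ)
    (hsurj : ∀ n : ℕ, n₀ ≤ n → ∀ b ∈ ℬ n, ∃ a ∈ 𝒜 n, ψ a = b)
    {i : ℕ} (hi : 0 < i) (s : A) (hs : s ∈ 𝒜 i) : Function.Surjective (Away.map ψ s) := by
  intro x
  obtain ⟨n, b, hb, rfl⟩ := Away.mk_surjective ℬ (ψ.map_mem hs) x
  have hdeg : b * ψ s ^ n₀ ∈ ℬ ((n + n₀) • i) := by
    have := SetLike.mul_mem_graded hb (SetLike.pow_mem_graded n₀ (ψ.map_mem hs))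
    rwa [show n • i + n₀ • i = (n + n₀) • i by simp [add_mul]] at this
  have hpos : n₀ ≤ (n + n₀) • i := by
    simp only [smul_eq_mul]
    calc n₀ ≤ (n + n₀) * 1 := by omega
      _ ≤ (n + n₀) * i := Nat.mul_le_mul_left _ hi
  obtain ⟨a, ha, hab⟩ := hsurj _ hpos _ hdeg
  refine ⟨Away.mk 𝒜 hs (n + n₀) a ha, ?_⟩
  rw [Away.map_mk, HomogeneousLocalization.ext_iff_val, Away.val_mk, Away.val_mk,
    Localization.mk_eq_mk_iff, Localization.r_iff_exists]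
  refine ⟨1, ?_⟩
  simp only [OneMemClass.coe_one, one_mul]
  rw [hab, pow_add]
  change ψ s ^ n * (b * ψ s ^ n₀) = ψ s ^ n * ψ s ^ n₀ * b
  ring

/-- Eventual surjectivity makes the charts `D_+(ψ f)` cover. -/
theorem cov_of_eventually (ψ : 𝒜 →+*ᵍ ℬ) (n₀ : ℕ)
    (hsurj : ∀ n : ℕ, n₀ ≤ n → ∀ b ∈ ℬ n, ∃ a ∈ 𝒜 n, ψ a = b) : Cov ψ := by
  intro z
  obtain ⟨b, hbz, d, hd, hb⟩ : ∃ b, b ∉ z.asHomogeneousIdeal ∧ ∃ d, 0 < d ∧ b ∈ ℬ d := by
    by_contra hcon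
    push Not at hcon
    apply z.not_irrelevant_le
    rw [HomogeneousIdeal.irrelevant_le]
    intro i hi b hb
    by_contra hbz
    exact absurd hb (hcon b hbz i hi)
  have hpos : n₀ ≤ (n₀ + 1) • d := by
    simp only [smul_eq_mul]
    calc n₀ ≤ (n₀ + 1) * 1 := by omega
      _ ≤ (n₀ + 1) * d := Nat.mul_le_mul_left _ hd
  obtain ⟨a, ha, hab⟩ := hsurj _ hpos _ (SetLike.pow_mem_graded (n₀ + 1) hb)
  refine ⟨(n₀ + 1) • d, by positivity, a, ha, ?_⟩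
  rw [hab]
  show b ^ (n₀ + 1) ∉ z.asHomogeneousIdeal
  intro h
  exact hbz (z.isPrime.mem_of_pow_mem _ h)

end Abs

end Groth.Agent.RelProjTN
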