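import Groth.Prelude.Def_RelProj
import Mathlib.AlgebraicGeometry.ProjectiveSpectrum.Proper
import Groth.Agent.Lib.ProjMap_helper3

/-! Helper lemmas on the relative homogeneous spectrum (`RelProj.IsRelProj`). -/

universe u

open CategoryTheory CategoryTheory.Limits AlgebraicGeometry TopologicalSpace Opposite
open scoped HomogeneousIdeal

noncomputable section

namespace Groth.Agent.Lib.RelProj_helper3

open RelProj

variable {Y P : Scheme.{u}} {𝒮 : RelProj.QCGrAlg Y} {p : P ⟶ Y}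
  {chart : ∀ (U : Y.Opens) (hU : IsAffineOpen U), (((p ⁻¹ᵁ U : P.Opens) : Scheme.{u}) ≅ Proj (𝒮.deg U hU))}

/-- Over an affine open, the restriction of `p` is the chart followed by the structure morphism of `Proj`. -/
theorem restrict_eq (hP : IsRelProj 𝒮 p chart) (U : Y.Opens) (hU : IsAffineOpen U) :
    p ∣_ U = (chart U hU).hom ≫ Proj.toSpecZero (𝒮.deg U hU) ≫ Spec.map (𝒮.strZero U hU) ≫
      hU.isoSpec.inv := by
  rw [← cancel_mono U.ι]
  simp only [Category.assoc]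
  rw [morphismRestrict_ι, ← hP.chart_over U hU]
  rfl

/-- A property of morphisms which is local at the target, stable under composition and respects isomorphisms holds
for the relative Proj as soon as it holds for all `Proj 𝒮(U) ⟶ Spec 𝒮(U)_0 ⟶ Spec O(U)`. -/
theorem of_chart (Q : MorphismProperty Scheme.{u}) [IsZariskiLocalAtTarget Q]
    (hP : IsRelProj 𝒮 p chart)
    (H : ∀ (U : Y.Opens) (hU : IsAffineOpen U),
      Q (Proj.toSpecZero (𝒮.deg U hU) ≫ Spec.map (𝒮.strZero U hU))) : Q p := by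
  refine IsZariskiLocalAtTarget.of_iSup_eq_top (fun U : Y.affineOpens => (U : Y.Opens))
    (iSup_affineOpens_eq_top Y) fun U => ?_
  rw [restrict_eq hP U.1 U.2]
  rw [Q.cancel_left_of_respectsIso]
  have := H U.1 U.2
  rw [← Category.assoc, Q.cancel_right_of_respectsIso]
  exact this

end Groth.Agent.Lib.RelProj_helper3

namespace Groth.Agent.Lib.RelProj_helper3

/-- If `f : R → A` is of finite type and lands in degree zero of a graded ring `A`, then `A` is of finite type over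
`A₀` and `A₀` is of finite type over `R`. -/
theorem finiteType_gradeZero {R A σ : Type*} [CommRing R] [CommRing A] [SetLike σ A] [AddSubgroupClass σ A]
    (𝒜 : ℕ → σ) [GradedRing 𝒜] (f : R →+* A) (g : R →+* 𝒜 0) (hg : ∀ r, (g r : A) = f r) (hf : f.FiniteType) :
    Algebra.FiniteType (𝒜 0) A ∧ g.FiniteType := by
  constructor
  · have h1 : ((algebraMap (𝒜 0) A).comp g) = f := by
      ext r; exact hg r
    have h2 : (algebraMap (𝒜 0) A).FiniteType := RingHom.FiniteType.of_comp_finiteType (f := g) (h1 ▸ hf)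
    exact (RingHom.finiteType_algebraMap).mp h2
  · have h1 : g = (GradedRing.projZeroRingHom' 𝒜).comp f := by
      ext r
      simp only [RingHom.comp_apply, ← hg r, GradedRing.projZeroRingHom'_apply_coe]
    rw [h1]
    exact (RingHom.FiniteType.of_surjective _ (GradedRing.projZeroRingHom'_surjective 𝒜)).comp hf

end Groth.Agent.Lib.RelProj_helper3

namespace Groth.Agent.Lib.RelProj_helper3

open RelProj

/-- The preimages of the affine opens of the base cover the source. -/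
theorem isOpenCover_preimage {Y P : Scheme.{u}} (p : P ⟶ Y) :
    TopologicalSpace.IsOpenCover (fun U : Y.affineOpens => p ⁻¹ᵁ (U : Y.Opens)) :=
  .comap (iSup_affineOpens_eq_top Y) p.base.hom

/-- A relative Proj is reduced if all the `Proj 𝒮(U)` are. -/
theorem isReduced_of_chart {Y P : Scheme.{u}} {𝒮 : RelProj.QCGrAlg Y} {p : P ⟶ Y}
    (chart : ∀ (U : Y.Opens) (hU : IsAffineOpen U), (((p ⁻¹ᵁ U : P.Opens) : Scheme.{u}) ≅ Proj (𝒮.deg U hU)))
    (H : ∀ (U : Y.Opens) (hU : IsAffineOpen U), AlgebraicGeometry.IsReduced (Proj (𝒮.deg U hU))) :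
    AlgebraicGeometry.IsReduced P := by
  have : ∀ i, AlgebraicGeometry.IsReduced ((P.openCoverOfIsOpenCover _ (isOpenCover_preimage p)).X i) := by
    intro i
    have := H i.1 i.2
    exact isReduced_of_isOpenImmersion (chart i.1 i.2).hom
  exact IsReduced.of_openCover _ (P.openCoverOfIsOpenCover _ (isOpenCover_preimage p))

end Groth.Agent.Lib.RelProj_helper3

namespace Groth.Agent.Lib.RelProj_helper3

open RelProj

section
variable {Y PA PB : Scheme.{u}} {𝒜 ℬ : RelProj.QCGrAlg Y}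
    (φ : 𝒜.toQCAlg ⟶ ℬ.toQCAlg) (hφ : RelProj.IsGradedHom φ)

theorem strZero_comp (U : Y.Opens) (hU : IsAffineOpen U) :
    𝒜.strZero U hU ≫ CommRingCat.ofHom (gradedHomAt φ hφ U hU).gradedZeroRingHom = ℬ.strZero U hU := by
  ext r
  have h0 := NatTrans.congr_app φ.comm (op U)
  rw [NatTrans.comp_app] at h0
  have := congr_arg (fun ψ => ψ.hom r) h0
  simp only [CommRingCat.hom_comp, RingHom.comp_apply] at this
  exact this

variable (hirr : ∀ (U : Y.Opens) (hU : IsAffineOpen U),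
      (ℬ.deg U hU)₊ ≤ ((𝒜.deg U hU)₊).map (RelProj.gradedHomAt φ hφ U hU))
    {pA : PA ⟶ Y} {pB : PB ⟶ Y}
    {chartA : ∀ (U : Y.Opens) (hU : IsAffineOpen U), (((pA ⁻¹ᵁ U : PA.Opens) : Scheme.{u}) ≅ Proj (𝒜.deg U hU))}
    {chartB : ∀ (U : Y.Opens) (hU : IsAffineOpen U), (((pB ⁻¹ᵁ U : PB.Opens) : Scheme.{u}) ≅ Proj (ℬ.deg U hU))}

theorem relProjMap_comp (hA : RelProj.IsRelProj 𝒜 pA chartA) (hB : RelProj.IsRelProj ℬ pB chartB)
    (h : PB ⟶ PA) (hh : RelProj.IsRelProjMap φ hφ hirr chartA chartB h) : h ≫ pA = pB := by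
  refine (PB.openCoverOfIsOpenCover _ (isOpenCover_preimage pB)).hom_ext _ _ fun U => ?_
  change (pB ⁻¹ᵁ U.1).ι ≫ h ≫ pA = (pB ⁻¹ᵁ U.1).ι ≫ pB
  rw [← Category.assoc, hh U.1 U.2]
  simp only [Category.assoc]
  have key := Groth.Agent.Lib.ProjMap_helper3.map_toSpecZero _ _ (gradedHomAt φ hφ U.1 U.2) (hirr U.1 U.2)
  rw [← hA.chart_over U.1 U.2, ← hB.chart_over U.1 U.2, Iso.inv_hom_id_assoc,
    reassoc_of% key, ← Spec.map_comp_assoc, strZero_comp]
end

section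
variable {Y PA PB : Scheme.{u}} {𝒜 ℬ : RelProj.QCGrAlg Y}
    (φ : 𝒜.toQCAlg ⟶ ℬ.toQCAlg) (hφ : RelProj.IsGradedHom φ)
    (hirr : ∀ (U : Y.Opens) (hU : IsAffineOpen U),
      (ℬ.deg U hU)₊ ≤ ((𝒜.deg U hU)₊).map (RelProj.gradedHomAt φ hφ U hU))
    {pA : PA ⟶ Y} {pB : PB ⟶ Y}
    {chartA : ∀ (U : Y.Opens) (hU : IsAffineOpen U), (((pA ⁻¹ᵁ U : PA.Opens) : Scheme.{u}) ≅ Proj (𝒜.deg U hU))}
    {chartB : ∀ (U : Y.Opens) (hU : IsAffineOpen U), (((pB ⁻¹ᵁ U : PB.Opens) : Scheme.{u}) ≅ Proj (ℬ.deg U hU))}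

theorem relProjMap_preimage (hA : RelProj.IsRelProj 𝒜 pA chartA) (hB : RelProj.IsRelProj ℬ pB chartB)
    (h : PB ⟶ PA) (hh : RelProj.IsRelProjMap φ hφ hirr chartA chartB h) (U : Y.Opens) :
    h ⁻¹ᵁ (pA ⁻¹ᵁ U) = pB ⁻¹ᵁ U := by
  rw [← Scheme.Hom.comp_preimage, relProjMap_comp φ hφ hirr hA hB h hh]

theorem relProjMap_isPullback (hA : RelProj.IsRelProj 𝒜 pA chartA) (hB : RelProj.IsRelProj ℬ pB chartB)
    (h : PB ⟶ PA) (hh : RelProj.IsRelProjMap φ hφ hirr chartA chartB h) (U : Y.Opens) (hU : IsAffineOpen U) :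
    IsPullback ((chartB U hU).hom ≫ Proj.map (gradedHomAt φ hφ U hU) (hirr U hU) ≫ (chartA U hU).inv)
      (pB ⁻¹ᵁ U).ι (pA ⁻¹ᵁ U).ι h := by
  refine IsOpenImmersion.isPullback _ _ _ _ ?_ ?_
  · rw [hh U hU]; simp only [Category.assoc]
  · rw [Scheme.Opens.opensRange_ι, Scheme.Opens.opensRange_ι, relProjMap_preimage φ hφ hirr hA hB h hh]

/-- A target-local property holds for `f` if it holds for the base changes to the members of an open cover,
presented by arbitrary pullback squares. -/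
theorem of_isPullback_cover (Q : MorphismProperty Scheme.{u}) [IsZariskiLocalAtTarget Q] {X Z : Scheme.{u}}
    (f : X ⟶ Z) {ι : Type*} (V : ι → Z.Opens) (hV : iSup V = ⊤) (W : ι → Scheme.{u})
    (g : ∀ i, W i ⟶ (V i : Scheme.{u})) (j : ∀ i, W i ⟶ X)
    (hpb : ∀ i, IsPullback (g i) (j i) (V i).ι f) (H : ∀ i, Q (g i)) : Q f := by
  refine IsZariskiLocalAtTarget.of_iSup_eq_top V hV fun i => ?_
  have h1 := isPullback_morphismRestrict f (V i)
  have h2 : ((hpb i).isoIsPullback _ _ h1).hom ≫ (f ∣_ V i) = g i := (hpb i).isoIsPullback_hom_fst _ _ h1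
  have := H i
  rw [← h2, Q.cancel_left_of_respectsIso] at this
  exact this

theorem relProjMap_of_chart (Q : MorphismProperty Scheme.{u}) [IsZariskiLocalAtTarget Q]
    (hA : RelProj.IsRelProj 𝒜 pA chartA) (hB : RelProj.IsRelProj ℬ pB chartB)
    (h : PB ⟶ PA) (hh : RelProj.IsRelProjMap φ hφ hirr chartA chartB h)
    (H : ∀ (U : Y.Opens) (hU : IsAffineOpen U), Q (Proj.map (gradedHomAt φ hφ U hU) (hirr U hU))) : Q h := by
  refine of_isPullback_cover Q h (fun U : Y.affineOpens => pA ⁻¹ᵁ (U : Y.Opens)) (isOpenCover_preimage pA)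
    _ _ _ (fun U => relProjMap_isPullback φ hφ hirr hA hB h hh U.1 U.2) fun U => ?_
  rw [Q.cancel_left_of_respectsIso, Q.cancel_right_of_respectsIso]
  exact H U.1 U.2
end

end Groth.Agent.Lib.RelProj_helper3

namespace Groth.Agent.Lib.RelProj_helper3

section
open AlgebraicGeometry.Scheme AlgebraicGeometry.Scheme.AffineZariskiSite
variable {Y P T : Scheme.{u}} (p : P ⟶ Y)

set_option backward.defeqAttrib.useBackward true in
set_option backward.isDefEq.respectTransparency false in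
theorem trans_pullbackRestrictIsoRestrict {U V : Y.AffineZariskiSite} (i : U ⟶ V) :
    Cover.trans ((directedCover Y).pullback₁ p) i ≫ (pullbackRestrictIsoRestrict p V.1).hom =
      (pullbackRestrictIsoRestrict p U.1).hom ≫ P.homOfLE (p.preimage_mono (toOpens_mono i.1.1)) := by
  rw [← cancel_mono (Scheme.Opens.ι _)]
  simp +instances [Cover.trans, Cover.locallyDirectedPullbackCover]

set_option backward.defeqAttrib.useBackward true in
set_option backward.isDefEq.respectTransparency false in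
/-- Gluing morphisms defined on the preimages of the affine opens of the base, compatible with restriction to
basic opens. -/
theorem exists_glue (e : ∀ (U : Y.Opens) (_ : IsAffineOpen U), ((p ⁻¹ᵁ U : P.Opens) : Scheme.{u}) ⟶ T)
    (he : ∀ (U : Y.Opens) (hU : IsAffineOpen U) (r : Γ(Y, U)),
      P.homOfLE (p.preimage_mono (Y.basicOpen_le r)) ≫ e U hU = e (Y.basicOpen r) (hU.basicOpen r)) :
    ∃ g : P ⟶ T, ∀ (U : Y.Opens) (hU : IsAffineOpen U), (p ⁻¹ᵁ U).ι ≫ g = e U hU := by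
  have H : ∀ {U V : Y.AffineZariskiSite} (i : U ⟶ V),
      Cover.trans ((directedCover Y).pullback₁ p) i ≫ (pullbackRestrictIsoRestrict p V.1).hom ≫ e V.1 V.2 =
        (pullbackRestrictIsoRestrict p U.1).hom ≫ e U.1 U.2 := by
    intro U V i
    rw [← Category.assoc, trans_pullbackRestrictIsoRestrict, Category.assoc]
    congr 1
    obtain ⟨U, hU⟩ := U
    obtain ⟨V, hV⟩ := V
    obtain ⟨f, hf⟩ := i.1.1
    change Y.basicOpen f = U at hf
    subst hf
    exact he V hV f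
  refine ⟨Scheme.OpenCover.glueMorphismsOfLocallyDirected ((directedCover Y).pullback₁ p)
    (fun U => (pullbackRestrictIsoRestrict p U.1).hom ≫ e U.1 U.2) H, fun U hU => ?_⟩
  rw [← cancel_epi (pullbackRestrictIsoRestrict p U).hom, ← Category.assoc]
  trans ((directedCover Y).pullback₁ p).f ⟨U, hU⟩ ≫
    Scheme.OpenCover.glueMorphismsOfLocallyDirected ((directedCover Y).pullback₁ p)
    (fun U => (pullbackRestrictIsoRestrict p U.1).hom ≫ e U.1 U.2) H
  · congr 1; simp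
  exact Scheme.OpenCover.map_glueMorphismsOfLocallyDirected _ _ H _
end

end Groth.Agent.Lib.RelProj_helper3

namespace Groth.Agent.Lib.RelProj_helper3

open RelProj

section
variable {A B σ τ : Type u} [CommRing A] [SetLike σ A] [AddSubgroupClass σ A] [CommRing B] [SetLike τ B] [AddSubgroupClass τ B]
  {𝒜 : ℕ → σ} [GradedRing 𝒜] {ℬ : ℕ → τ} [GradedRing ℬ]

theorem proj_map_congr {ψ ψ' : 𝒜 →+*ᵍ ℬ} (h : ψ = ψ') (hψ) (hψ') : Proj.map ψ hψ = Proj.map ψ' hψ' := by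
  subst h; rfl
end

section
variable {Y P : Scheme.{u}} {𝒮 : RelProj.QCGrAlg Y} {p : P ⟶ Y}
  {chart : ∀ (U : Y.Opens) (hU : IsAffineOpen U), (((p ⁻¹ᵁ U : P.Opens) : Scheme.{u}) ≅ Proj (𝒮.deg U hU))}

/-- Inverse form of `chart_res`. -/
theorem chart_res_inv (hP : IsRelProj 𝒮 p chart) (U : Y.Opens) (hU : IsAffineOpen U) (r : Γ(Y, U)) :
    Proj.map (𝒮.res hU (hU.basicOpen r) (Y.basicOpen_le r)) (𝒮.irrelevant_le_map U hU r) ≫
      (chart U hU).inv ≫ (p ⁻¹ᵁ U).ι =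
    (chart (Y.basicOpen r) (hU.basicOpen r)).inv ≫ (p ⁻¹ᵁ (Y.basicOpen r)).ι := by
  have h := hP.chart_res U hU r
  rw [← cancel_epi (chart (Y.basicOpen r) (hU.basicOpen r)).hom, Iso.hom_inv_id_assoc,
    ← Category.assoc, ← h, Category.assoc, Iso.hom_inv_id_assoc, Scheme.homOfLE_ι]
end

section
variable {Y PA PB : Scheme.{u}} {𝒜 ℬ : RelProj.QCGrAlg Y}
    (φ : 𝒜.toQCAlg ⟶ ℬ.toQCAlg) (hφ : RelProj.IsGradedHom φ)
    (hirr : ∀ (U : Y.Opens) (hU : IsAffineOpen U),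
      (ℬ.deg U hU)₊ ≤ ((𝒜.deg U hU)₊).map (RelProj.gradedHomAt φ hφ U hU))
    {pA : PA ⟶ Y} {pB : PB ⟶ Y}
    {chartA : ∀ (U : Y.Opens) (hU : IsAffineOpen U), (((pA ⁻¹ᵁ U : PA.Opens) : Scheme.{u}) ≅ Proj (𝒜.deg U hU))}
    {chartB : ∀ (U : Y.Opens) (hU : IsAffineOpen U), (((pB ⁻¹ᵁ U : PB.Opens) : Scheme.{u}) ≅ Proj (ℬ.deg U hU))}

theorem gradedHomAt_res (U : Y.Opens) (hU : IsAffineOpen U) (r : Γ(Y, U)) :
    (ℬ.res hU (hU.basicOpen r) (Y.basicOpen_le r)).comp (gradedHomAt φ hφ U hU) =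
      (gradedHomAt φ hφ (Y.basicOpen r) (hU.basicOpen r)).comp (𝒜.res hU (hU.basicOpen r) (Y.basicOpen_le r)) := by
  apply GradedRingHom.ext
  intro x
  have := congr_arg (fun ψ => ψ.hom x) (φ.hom.naturality (homOfLE (Y.basicOpen_le r)).op)
  simp only [CommRingCat.hom_comp, RingHom.comp_apply] at this
  exact this.symm

theorem exists_relProjMap (hA : RelProj.IsRelProj 𝒜 pA chartA) (hB : RelProj.IsRelProj ℬ pB chartB) :
    ∃ h : PB ⟶ PA, RelProj.IsRelProjMap φ hφ hirr chartA chartB h := by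
  refine exists_glue pB (fun U hU => (chartB U hU).hom ≫ Proj.map (gradedHomAt φ hφ U hU) (hirr U hU) ≫
    (chartA U hU).inv ≫ (pA ⁻¹ᵁ U).ι) fun U hU r => ?_
  rw [← Category.assoc, hB.chart_res U hU r, Category.assoc, ← chart_res_inv hA U hU r]
  congr 1
  simp only [← Category.assoc]
  congr 2
  rw [← Proj.map_comp, ← Proj.map_comp]
  exact proj_map_congr (gradedHomAt_res φ hφ U hU r) _ _

theorem relProjMap_unique (h h' : PB ⟶ PA) (hh : RelProj.IsRelProjMap φ hφ hirr chartA chartB h)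
    (hh' : RelProj.IsRelProjMap φ hφ hirr chartA chartB h') : h = h' := by
  refine (PB.openCoverOfIsOpenCover _ (isOpenCover_preimage pB)).hom_ext _ _ fun U => ?_
  exact (hh U.1 U.2).trans (hh' U.1 U.2).symm
end

end Groth.Agent.Lib.RelProj_helper3

namespace Groth.Agent.Lib.RelProj_helper3

open RelProj

section
variable {Y P P' : Scheme.{u}} {𝒮 : RelProj.QCGrAlg Y} {p : P ⟶ Y}
  {chart : ∀ (U : Y.Opens) (hU : IsAffineOpen U), (((p ⁻¹ᵁ U : P.Opens) : Scheme.{u}) ≅ Proj (𝒮.deg U hU))}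
  {p' : P' ⟶ Y}
  {chart' : ∀ (U : Y.Opens) (hU : IsAffineOpen U), (((p' ⁻¹ᵁ U : P'.Opens) : Scheme.{u}) ≅ Proj (𝒮.deg U hU))}

theorem exists_chartHom (hP : IsRelProj 𝒮 p chart) (hP' : IsRelProj 𝒮 p' chart') :
    ∃ e : P ⟶ P', ∀ (U : Y.Opens) (hU : IsAffineOpen U),
      (p ⁻¹ᵁ U).ι ≫ e = (chart U hU).hom ≫ (chart' U hU).inv ≫ (p' ⁻¹ᵁ U).ι := by
  refine exists_glue p (fun U hU => (chart U hU).hom ≫ (chart' U hU).inv ≫ (p' ⁻¹ᵁ U).ι) fun U hU r => ?_
  rw [← Category.assoc, hP.chart_res U hU r, Category.assoc, chart_res_inv hP' U hU r]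

theorem chartHom_comp (hP : IsRelProj 𝒮 p chart) (hP' : IsRelProj 𝒮 p' chart') (e : P ⟶ P')
    (he : ∀ (U : Y.Opens) (hU : IsAffineOpen U),
      (p ⁻¹ᵁ U).ι ≫ e = (chart U hU).hom ≫ (chart' U hU).inv ≫ (p' ⁻¹ᵁ U).ι) : e ≫ p' = p := by
  refine (P.openCoverOfIsOpenCover _ (isOpenCover_preimage p)).hom_ext _ _ fun U => ?_
  change (p ⁻¹ᵁ U.1).ι ≫ e ≫ p' = (p ⁻¹ᵁ U.1).ι ≫ p
  rw [← Category.assoc, he U.1 U.2]
  simp only [Category.assoc]
  rw [← hP'.chart_over U.1 U.2, ← hP.chart_over U.1 U.2, Iso.inv_hom_id_assoc]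

theorem chartHom_comp_chartHom (e : P ⟶ P') (e' : P' ⟶ P)
    (he : ∀ (U : Y.Opens) (hU : IsAffineOpen U),
      (p ⁻¹ᵁ U).ι ≫ e = (chart U hU).hom ≫ (chart' U hU).inv ≫ (p' ⁻¹ᵁ U).ι)
    (he' : ∀ (U : Y.Opens) (hU : IsAffineOpen U),
      (p' ⁻¹ᵁ U).ι ≫ e' = (chart' U hU).hom ≫ (chart U hU).inv ≫ (p ⁻¹ᵁ U).ι) : e ≫ e' = 𝟙 P := by
  refine (P.openCoverOfIsOpenCover _ (isOpenCover_preimage p)).hom_ext _ _ fun U => ?_
  change (p ⁻¹ᵁ U.1).ι ≫ e ≫ e' = (p ⁻¹ᵁ U.1).ι ≫ 𝟙 P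
  rw [← Category.assoc, he U.1 U.2]
  simp only [Category.assoc]
  rw [he' U.1 U.2, Iso.inv_hom_id_assoc, Iso.hom_inv_id_assoc, Category.comp_id]

theorem chartHom_isIso (hP : IsRelProj 𝒮 p chart) (hP' : IsRelProj 𝒮 p' chart') (e : P ⟶ P')
    (he : ∀ (U : Y.Opens) (hU : IsAffineOpen U),
      (p ⁻¹ᵁ U).ι ≫ e = (chart U hU).hom ≫ (chart' U hU).inv ≫ (p' ⁻¹ᵁ U).ι) : IsIso e := by
  obtain ⟨e', he'⟩ := exists_chartHom hP' hP
  exact ⟨e', chartHom_comp_chartHom e e' he he', chartHom_comp_chartHom e' e he' he⟩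
end

end Groth.Agent.Lib.RelProj_helper3
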