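import Mathlib
import Groth.Prelude
import Groth.Agent.Lib.GenDegOne_helper3
import Groth.Agent.Lib.RelProjTN1_helper5
import Groth.Agent.Lib.RelProj_helper3

/-!
# `Proj` of a graded ring generated in degree one with finitely generated degree-one part is proper
over the base (helper5)

The ring is a quotient, in positive degrees, of a polynomial ring over the base.
-/

set_option autoImplicit false
universe u
open CategoryTheory CategoryTheory.Limits AlgebraicGeometry TopologicalSpace Opposite DirectSum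
open HomogeneousLocalization

namespace Groth.Agent.ProjGenProper

attribute [local instance] MvPolynomial.gradedAlgebra

section Poly
variable (ι R : Type u) [CommRing R]

theorem algebraMap_gradeZero_surjective :
    Function.Surjective (algebraMap R (MvPolynomial.homogeneousSubmodule ι R 0)) := by
  rintro ⟨p, hp⟩
  have h0 : p.totalDegree = 0 :=
    Nat.le_zero.mp ((MvPolynomial.mem_homogeneousSubmodule 0 p).mp hp).totalDegree_le
  have hC : p = MvPolynomial.C (p.coeff 0) := MvPolynomial.totalDegree_eq_zero_iff_eq_C.mp h0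
  refine ⟨p.coeff 0, Subtype.ext ?_⟩
  exact hC.symm

instance finiteType [Finite ι] :
    Algebra.FiniteType (MvPolynomial.homogeneousSubmodule ι R 0) (MvPolynomial ι R) := by
  classical
  cases nonempty_fintype ι
  refine ⟨⟨Finset.univ.image MvPolynomial.X, ?_⟩⟩
  rw [eq_top_iff]
  rintro p -
  induction p using MvPolynomial.induction_on with
  | C a =>
    have : (MvPolynomial.C a : MvPolynomial ι R) =
        algebraMap (MvPolynomial.homogeneousSubmodule ι R 0) _
          (algebraMap R (MvPolynomial.homogeneousSubmodule ι R 0) a) := rfl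
    rw [this]
    exact Subalgebra.algebraMap_mem _ _
  | add p q hp hq => exact add_mem hp hq
  | mul_X p i hp => exact mul_mem hp (Algebra.subset_adjoin (by simp))

theorem isProper_poly [Finite ι] :
    IsProper (Proj.toSpecZero (MvPolynomial.homogeneousSubmodule ι R) ≫
      Spec.map (CommRingCat.ofHom (algebraMap R (MvPolynomial.homogeneousSubmodule ι R 0)))) := by
  have h1 : IsProper (Proj.toSpecZero (MvPolynomial.homogeneousSubmodule ι R)) := inferInstance
  have h2 : IsClosedImmersion (Spec.map (CommRingCat.ofHom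
      (algebraMap R (MvPolynomial.homogeneousSubmodule ι R 0)))) :=
    IsClosedImmersion.spec_of_surjective _ (algebraMap_gradeZero_surjective ι R)
  have h3 : IsProper (Spec.map (CommRingCat.ofHom
      (algebraMap R (MvPolynomial.homogeneousSubmodule ι R 0)))) := inferInstance
  exact MorphismProperty.comp_mem _ _ _ h1 h3

end Poly

section Main
variable {R A σ : Type u} [CommRing R] [CommRing A] [SetLike σ A] [AddSubgroupClass σ A]
  (𝒜 : ℕ → σ) [GradedRing 𝒜]
  (g : R →+* 𝒜 0) (T : Finset A) (hT : ∀ t ∈ T, t ∈ 𝒜 1)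
  (hspan : ∀ x ∈ 𝒜 1, ∃ c : A → R, x = ∑ t ∈ T, (g (c t) : A) * t)
  (hgen : Subring.closure ((𝒜 0 : Set A) ∪ (𝒜 1 : Set A)) = ⊤)

/-- The structure map `R → A`. -/
noncomputable def rho : R →+* A := (algebraMap (𝒜 0) A).comp g

theorem rho_apply (r : R) : rho 𝒜 g r = (g r : A) := rfl

/-- The evaluation `R[X_t : t ∈ T] → A`. -/
noncomputable def phiHom : MvPolynomial T R →+* A :=
  MvPolynomial.eval₂Hom (rho 𝒜 g) (fun t => (t : A))

include hT in
theorem phiHom_mem {i : ℕ} {P : MvPolynomial T R}
    (hP : P ∈ MvPolynomial.homogeneousSubmodule T R i) : phiHom 𝒜 g T P ∈ 𝒜 i := by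
  classical
  have hP' : P.IsHomogeneous i := (MvPolynomial.mem_homogeneousSubmodule i P).mp hP
  rw [← MvPolynomial.support_sum_monomial_coeff P, map_sum]
  refine sum_mem fun d hd => ?_
  have hdeg : d.degree = i := by
    rw [Finsupp.degree_eq_weight_one]
    exact hP' (MvPolynomial.mem_support_iff.mp hd)
  unfold phiHom
  rw [MvPolynomial.eval₂Hom_monomial]
  have h1 : rho 𝒜 g (MvPolynomial.coeff d P) ∈ 𝒜 0 := (g _).2
  have h2 : (d.prod fun t k => (t : A) ^ k) ∈ 𝒜 (∑ t ∈ d.support, d t • 1) :=
    SetLike.prod_pow_mem_graded 𝒜 (fun _ => 1) (fun t : T => (t : A)) d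
      (fun t _ => hT t.1 t.2)
  have h3 : ∑ t ∈ d.support, d t • 1 = i := by
    rw [← hdeg]
    simp [Finsupp.degree]
  rw [h3] at h2
  simpa only [zero_add] using SetLike.mul_mem_graded (A := 𝒜) h1 h2

/-- The evaluation as a homomorphism of graded rings. -/
noncomputable def phi (hT : ∀ t ∈ T, t ∈ 𝒜 1) : MvPolynomial.homogeneousSubmodule T R →+*ᵍ 𝒜 :=
  { phiHom 𝒜 g T with map_mem := fun hx => phiHom_mem 𝒜 g T hT hx }

theorem phi_apply (P : MvPolynomial T R) : phi 𝒜 g T hT P = phiHom 𝒜 g T P := rfl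

include hspan hgen in
theorem phi_surj (n : ℕ) (hn : 1 ≤ n) (b : A) (hb : b ∈ 𝒜 n) :
    ∃ a ∈ MvPolynomial.homogeneousSubmodule T R n, phi 𝒜 g T hT a = b := by
  classical
  induction n, hn using Nat.le_induction generalizing b with
  | base =>
    obtain ⟨c, rfl⟩ := hspan b hb
    refine ⟨∑ t ∈ T.attach, MvPolynomial.C (c t.1) * MvPolynomial.X t, ?_, ?_⟩
    · refine sum_mem fun t _ => ?_
      have := (MvPolynomial.isHomogeneous_C (σ := T) (c t.1)).mul
        (MvPolynomial.isHomogeneous_X R t)
      exact (MvPolynomial.mem_homogeneousSubmodule _ _).mpr (by simpa using this)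
    · rw [phi_apply, map_sum, ← Finset.sum_attach T]
      refine Finset.sum_congr rfl fun t _ => ?_
      unfold phiHom
      rw [map_mul, MvPolynomial.eval₂Hom_C, MvPolynomial.eval₂Hom_X', rho_apply]
  | succ n hn ih =>
    obtain ⟨b', hb', hbb'⟩ :=
      Groth.Agent.Lib.GenDegOne_helper3.exists_sum_of_mem_succ 𝒜 g T hT hspan hgen n b hb
    choose a ha hab using fun t => ih (b' t) (hb' t)
    refine ⟨∑ t ∈ T.attach, a t.1 * MvPolynomial.X t, ?_, ?_⟩
    · refine sum_mem fun t _ => ?_
      have h1 : (a t.1).IsHomogeneous n := (MvPolynomial.mem_homogeneousSubmodule _ _).mp (ha t.1)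
      exact (MvPolynomial.mem_homogeneousSubmodule _ _).mpr
        (h1.mul (MvPolynomial.isHomogeneous_X R t))
    · rw [hbb', phi_apply, map_sum, ← Finset.sum_attach T]
      refine Finset.sum_congr rfl fun t _ => ?_
      rw [map_mul, ← phi_apply 𝒜 g T hT, hab t.1]
      congr 1
      unfold phiHom
      rw [MvPolynomial.eval₂Hom_X']

include hspan hgen in
theorem irrelevant_le_map_phi :
    HomogeneousIdeal.irrelevant 𝒜 ≤
      (HomogeneousIdeal.irrelevant (MvPolynomial.homogeneousSubmodule T R)).map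
        (phi 𝒜 g T hT) := by
  rw [HomogeneousIdeal.irrelevant_le]
  intro i hi b hb
  change b ∈ Ideal.map (phi 𝒜 g T hT)
    (HomogeneousIdeal.irrelevant (MvPolynomial.homogeneousSubmodule T R)).toIdeal
  obtain ⟨a, ha, rfl⟩ := phi_surj 𝒜 g T hT hspan hgen i hi b hb
  exact Ideal.mem_map_of_mem _ (HomogeneousIdeal.mem_irrelevant_of_mem _ hi ha)

include hT hspan hgen in
/-- **`Proj 𝒜 → Spec R` is proper** when `𝒜` is generated by `𝒜_0` and `𝒜_1` and `𝒜_1` is a finitely
generated `R`-module. -/
theorem isProper_of_genDegOne :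
    IsProper (Proj.toSpecZero 𝒜 ≫ Spec.map (CommRingCat.ofHom g)) := by
  have hφ := irrelevant_le_map_phi 𝒜 g T hT hspan hgen
  have hci : IsClosedImmersion (Proj.map (phi 𝒜 g T hT) hφ) :=
    Groth.Agent.Lib.ProjMap_helper3.map_of_away _ _ @IsClosedImmersion (phi 𝒜 g T hT) hφ
      fun i hi s hs => IsClosedImmersion.spec_of_surjective _
        (Groth.Agent.RelProjTN.away_map_surjective_of_eventually (phi 𝒜 g T hT) 1
          (fun n hn b hb => phi_surj 𝒜 g T hT hspan hgen n hn b hb) hi s hs)
  have hcomp := Groth.Agent.Lib.ProjMap_helper3.map_toSpecZero _ _ (phi 𝒜 g T hT) hφ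
  have hg : g = (phi 𝒜 g T hT).gradedZeroRingHom.comp
      (algebraMap R (MvPolynomial.homogeneousSubmodule T R 0)) := by
    ext r
    show (g r : A) = phiHom 𝒜 g T (MvPolynomial.C r)
    unfold phiHom
    rw [MvPolynomial.eval₂Hom_C, rho_apply]
  have heq : Proj.toSpecZero 𝒜 ≫ Spec.map (CommRingCat.ofHom g) =
      Proj.map (phi 𝒜 g T hT) hφ ≫ (Proj.toSpecZero (MvPolynomial.homogeneousSubmodule T R) ≫
        Spec.map (CommRingCat.ofHom
          (algebraMap R (MvPolynomial.homogeneousSubmodule T R 0)))) := by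
    rw [← Category.assoc, hcomp, Category.assoc, ← Spec.map_comp, ← CommRingCat.ofHom_comp, ← hg]
  rw [heq]
  have hp := isProper_poly T R
  haveI : IsProper (Proj.map (phi 𝒜 g T hT) hφ) := inferInstance
  exact MorphismProperty.comp_mem _ _ _ inferInstance hp

end Main

end Groth.Agent.ProjGenProper
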