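import Mathlib
import Groth.Prelude.Def_RelProj4
import Groth.Agent.Lib.RelProj_helper3
import Groth.Agent.Lib.RelProjTN1_helper5

/-!
# Morphisms of relative `Proj` given on the standard charts over affine opens  (helper5)
-/

set_option autoImplicit false
universe u
open CategoryTheory CategoryTheory.Limits AlgebraicGeometry TopologicalSpace Opposite
open HomogeneousLocalization
open scoped HomogeneousIdeal

noncomputable section

namespace Groth.Agent.RelProjTN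

open RelProj

theorem hom_ext_of_charts {X Z : Scheme.{u}} (a b : X ⟶ Z)
    (H : ∀ x : X, ∃ (W : Scheme.{u}) (j : W ⟶ X) (_ : IsOpenImmersion j),
      x ∈ Set.range j.base ∧ j ≫ a = j ≫ b) : a = b := by
  apply Scheme.hom_ext_of_forall
  intro x
  obtain ⟨W, j, hj, hx, hab⟩ := H x
  refine ⟨j.opensRange, hx, ?_⟩
  rw [← j.isoOpensRange_inv_comp, Category.assoc, Category.assoc, hab]

section Rel
variable {Y PA PB : Scheme.{u}} {𝒜 ℬ : RelProj.QCGrAlg Y}
  (φ : 𝒜.toQCAlg ⟶ ℬ.toQCAlg) (hφ : RelProj.IsGradedHom φ)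

theorem hle (U : Y.Opens) : U ≤ (𝟙 Y : Y ⟶ Y) ⁻¹ᵁ U := le_of_eq rfl

/-- The graded homomorphism `𝒜(U) → ℬ(U)` in the form used by `RelProj.IsProjQMap`. -/
abbrev psi (U : Y.Opens) (hU : IsAffineOpen U) : 𝒜.deg U hU →+*ᵍ ℬ.deg U hU :=
  (RelProj.QGrHom.ofHom φ hφ).gradedAt U hU U hU (hle U)

theorem psi_apply (U : Y.Opens) (hU : IsAffineOpen U) (x : 𝒜.presheaf.obj (op U)) :
    psi φ hφ U hU x = (φ.hom.app (op U)).hom x := by
  simp only [RelProj.QGrHom.gradedAt_apply, RelSpec.QHom.appLE]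
  have h3 : ℬ.presheaf.map (homOfLE (le_refl U)).op = 𝟙 _ := by
    have : homOfLE (le_refl U) = 𝟙 U := Subsingleton.elim _ _
    rw [this]; exact ℬ.presheaf.map_id (op U)
  change (ℬ.presheaf.map (homOfLE (le_refl U)).op).hom ((φ.hom.app (op U)).hom x) = _
  rw [h3]; rfl

theorem strZero_comp_psi (U : Y.Opens) (hU : IsAffineOpen U) :
    𝒜.strZero U hU ≫ CommRingCat.ofHom (psi φ hφ U hU).gradedZeroRingHom = ℬ.strZero U hU := by
  ext r
  have h0 := NatTrans.congr_app φ.comm (op U)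
  rw [NatTrans.comp_app] at h0
  have := congr_arg (fun ψ => ψ.hom r) h0
  simp only [CommRingCat.hom_comp, RingHom.comp_apply] at this
  show ((psi φ hφ U hU) ((𝒜.str.app (op U)).hom r) : ℬ.presheaf.obj (op U)) = _
  rw [psi_apply]
  exact this

variable (pA : PA ⟶ Y)
  (chartA : ∀ (U : Y.Opens) (hU : IsAffineOpen U),
    (((pA ⁻¹ᵁ U : PA.Opens) : Scheme.{u}) ≅ Proj (𝒜.deg U hU)))
  (pB : PB ⟶ Y)
  (chartB : ∀ (U : Y.Opens) (hU : IsAffineOpen U),
    (((pB ⁻¹ᵁ U : PB.Opens) : Scheme.{u}) ≅ Proj (ℬ.deg U hU)))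
  (h : PB ⟶ PA)

/-- The chart equations of `RelProj.IsProjQMap` for the pairs `U' = U`. -/
def HQ : Prop := ∀ (U : Y.Opens) (hU : IsAffineOpen U) (d : ℕ) (hd : 0 < d)
    (f : 𝒜.presheaf.obj (op U)) (hf : f ∈ 𝒜.deg U hU d),
  RelProj.awayEmb (RelProj.QGrHom.ofHom φ hφ) pB chartB U hU U hU (hle U) hd f hf ≫ h =
    Spec.map (CommRingCat.ofHom (Away.map (psi φ hφ U hU) f)) ≫
      Proj.awayι (𝒜.deg U hU) f hf hd ≫ RelProj.emb pA chartA U hU

theorem HQ_of_isProjQMap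
    (hh : RelProj.IsProjQMap (RelProj.QGrHom.ofHom φ hφ) pA chartA pB chartB h) :
    HQ φ hφ pA chartA pB chartB h :=
  fun U hU d hd f hf => hh.2 U hU U hU (hle U) d hd f hf

instance (U : Y.Opens) (hU : IsAffineOpen U) {d : ℕ} (hd : 0 < d)
    (f : 𝒜.presheaf.obj (op U)) (hf : f ∈ 𝒜.deg U hU d) :
    IsOpenImmersion
      (RelProj.awayEmb (RelProj.QGrHom.ofHom φ hφ) pB chartB U hU U hU (hle U) hd f hf) := by
  unfold RelProj.awayEmb; infer_instance

variable {φ hφ pA chartA pB chartB h}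

theorem emb_apply_chart (U : Y.Opens) (hU : IsAffineOpen U) (x : PB) (hx : x ∈ pB ⁻¹ᵁ U) :
    (RelProj.emb pB chartB U hU).base ((chartB U hU).hom.base ⟨x, hx⟩) = x := by
  unfold RelProj.emb
  rw [Scheme.Hom.comp_base, TopCat.coe_comp, Function.comp_apply]
  change (pB ⁻¹ᵁ U).ι.base (((chartB U hU).hom ≫ (chartB U hU).inv).base ⟨x, hx⟩) = x
  rw [Iso.hom_inv_id]
  rfl

/-- Every point of `PB` lies in a standard chart. -/
theorem exists_chart (hcov : ∀ (U : Y.Opens) (hU : IsAffineOpen U), Cov (psi φ hφ U hU))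
    (x : PB) : ∃ (U : Y.Opens) (hU : IsAffineOpen U) (d : ℕ) (hd : 0 < d)
      (f : 𝒜.presheaf.obj (op U)) (hf : f ∈ 𝒜.deg U hU d),
      x ∈ Set.range
        (RelProj.awayEmb (RelProj.QGrHom.ofHom φ hφ) pB chartB U hU U hU (hle U) hd f hf).base := by
  obtain ⟨_, ⟨U, hU : IsAffineOpen U, rfl⟩, hxU, -⟩ :=
    (Y.isBasis_affineOpens).exists_subset_of_mem_open (Set.mem_univ (pB.base x)) isOpen_univ
  have hx : x ∈ pB ⁻¹ᵁ U := hxU
  obtain ⟨d, hd, f, hf, hz⟩ := hcov U hU ((chartB U hU).hom.base ⟨x, hx⟩)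
  refine ⟨U, hU, d, hd, f, hf, ?_⟩
  have hz' : (chartB U hU).hom.base ⟨x, hx⟩ ∈ (Proj.awayι (ℬ.deg U hU) ((psi φ hφ U hU) f)
      ((psi φ hφ U hU).map_mem hf) hd).opensRange := by
    rw [Proj.opensRange_awayι]; exact hz
  obtain ⟨y, hy⟩ := hz'
  refine ⟨y, ?_⟩
  unfold RelProj.awayEmb
  rw [Scheme.Hom.comp_base, TopCat.coe_comp, Function.comp_apply]
  erw [hy]
  exact emb_apply_chart U hU x hx

theorem domQ_eq_top (hcov : ∀ (U : Y.Opens) (hU : IsAffineOpen U), Cov (psi φ hφ U hU)) :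
    RelProj.domQ (RelProj.QGrHom.ofHom φ hφ) pB chartB = ⊤ := by
  rw [eq_top_iff]
  intro x _
  obtain ⟨U, hU, d, hd, f, hf, hx⟩ := exists_chart (pB := pB) (chartB := chartB) hcov x
  have := RelProj.range_awayEmb_subset_domQ (RelProj.QGrHom.ofHom φ hφ) pB chartB U hU U hU
    (hle U) hd f hf hx
  rw [Scheme.Opens.range_ι] at this
  exact this

theorem emb_comp (hB : RelProj.IsRelProj ℬ pB chartB) (U : Y.Opens) (hU : IsAffineOpen U) :
    RelProj.emb pB chartB U hU ≫ pB =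
      Proj.toSpecZero (ℬ.deg U hU) ≫ Spec.map (ℬ.strZero U hU) ≫ hU.fromSpec := by
  unfold RelProj.emb
  rw [Category.assoc, ← hB.chart_over U hU, Iso.inv_hom_id_assoc]

theorem comp_eq (hA : RelProj.IsRelProj 𝒜 pA chartA) (hB : RelProj.IsRelProj ℬ pB chartB)
    (hcov : ∀ (U : Y.Opens) (hU : IsAffineOpen U), Cov (psi φ hφ U hU))
    (hh : HQ φ hφ pA chartA pB chartB h) : h ≫ pA = pB := by
  apply hom_ext_of_charts
  intro x
  obtain ⟨U, hU, d, hd, f, hf, hx⟩ := exists_chart (pB := pB) (chartB := chartB) hcov x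
  refine ⟨_, RelProj.awayEmb (RelProj.QGrHom.ofHom φ hφ) pB chartB U hU U hU (hle U) hd f hf,
    inferInstance, hx, ?_⟩
  rw [← Category.assoc, hh U hU d hd f hf]
  simp only [Category.assoc]
  rw [emb_comp hA, Proj.awayι_toSpecZero_assoc]
  unfold RelProj.awayEmb
  simp only [Category.assoc]
  rw [emb_comp hB, Proj.awayι_toSpecZero_assoc, ← strZero_comp_psi φ hφ U hU]
  simp only [← Spec.map_comp_assoc, ← CommRingCat.ofHom_comp, Category.assoc]
  rw [Groth.Agent.Lib.ProjMap_helper3.away_map_comp_fromZero]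

theorem opensRange_emb (U : Y.Opens) (hU : IsAffineOpen U) :
    (RelProj.emb pB chartB U hU).opensRange = pB ⁻¹ᵁ U := by
  unfold RelProj.emb
  rw [Scheme.Hom.opensRange_comp_of_isIso, Scheme.Opens.opensRange_ι]

theorem range_emb_comp_subset (hA : RelProj.IsRelProj 𝒜 pA chartA) (hB : RelProj.IsRelProj ℬ pB chartB)
    (hcov : ∀ (U : Y.Opens) (hU : IsAffineOpen U), Cov (psi φ hφ U hU))
    (hh : HQ φ hφ pA chartA pB chartB h) (U : Y.Opens) (hU : IsAffineOpen U) :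
    Set.range (RelProj.emb pB chartB U hU ≫ h).base ⊆ Set.range (pA ⁻¹ᵁ U).ι.base := by
  rw [Scheme.Opens.range_ι]
  rintro _ ⟨y, rfl⟩
  have hy : (RelProj.emb pB chartB U hU).base y ∈ pB ⁻¹ᵁ U := by
    rw [← opensRange_emb (pB := pB) (chartB := chartB) U hU]; exact ⟨y, rfl⟩
  have e : pA.base (h.base ((RelProj.emb pB chartB U hU).base y)) =
      pB.base ((RelProj.emb pB chartB U hU).base y) := by
    have := congrArg (fun m => m.base ((RelProj.emb pB chartB U hU).base y))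
      (comp_eq hA hB hcov hh)
    simpa using this
  show pA.base (h.base ((RelProj.emb pB chartB U hU).base y)) ∈ U
  rw [e]
  exact hy

/-- The morphism `Proj ℬ(U) ⟶ Proj 𝒜(U)` induced by `h` over the affine open `U`. -/
def gU (hA : RelProj.IsRelProj 𝒜 pA chartA) (hB : RelProj.IsRelProj ℬ pB chartB)
    (hcov : ∀ (U : Y.Opens) (hU : IsAffineOpen U), Cov (psi φ hφ U hU))
    (hh : HQ φ hφ pA chartA pB chartB h) (U : Y.Opens) (hU : IsAffineOpen U) :
    Proj (ℬ.deg U hU) ⟶ Proj (𝒜.deg U hU) :=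
  IsOpenImmersion.lift (pA ⁻¹ᵁ U).ι (RelProj.emb pB chartB U hU ≫ h)
    (range_emb_comp_subset hA hB hcov hh U hU) ≫ (chartA U hU).hom

theorem gU_emb (hA : RelProj.IsRelProj 𝒜 pA chartA) (hB : RelProj.IsRelProj ℬ pB chartB)
    (hcov : ∀ (U : Y.Opens) (hU : IsAffineOpen U), Cov (psi φ hφ U hU))
    (hh : HQ φ hφ pA chartA pB chartB h) (U : Y.Opens) (hU : IsAffineOpen U) :
    gU hA hB hcov hh U hU ≫ RelProj.emb pA chartA U hU = RelProj.emb pB chartB U hU ≫ h := by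
  unfold gU
  conv_lhs => unfold RelProj.emb
  simp only [Category.assoc, Iso.hom_inv_id_assoc, IsOpenImmersion.lift_fac]
  rw [RelProj.emb, Category.assoc]

theorem hc_gU (hA : RelProj.IsRelProj 𝒜 pA chartA) (hB : RelProj.IsRelProj ℬ pB chartB)
    (hcov : ∀ (U : Y.Opens) (hU : IsAffineOpen U), Cov (psi φ hφ U hU))
    (hh : HQ φ hφ pA chartA pB chartB h) (U : Y.Opens) (hU : IsAffineOpen U) :
    HC (psi φ hφ U hU) (gU hA hB hcov hh U hU) := by
  intro d hd f hf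
  rw [← cancel_mono (RelProj.emb pA chartA U hU), Category.assoc, gU_emb, Category.assoc]
  exact hh U hU d hd f hf

theorem isPullback_gU (hA : RelProj.IsRelProj 𝒜 pA chartA) (hB : RelProj.IsRelProj ℬ pB chartB)
    (hcov : ∀ (U : Y.Opens) (hU : IsAffineOpen U), Cov (psi φ hφ U hU))
    (hh : HQ φ hφ pA chartA pB chartB h) (U : Y.Opens) (hU : IsAffineOpen U) :
    IsPullback (gU hA hB hcov hh U hU ≫ (chartA U hU).inv) (RelProj.emb pB chartB U hU)
      (pA ⁻¹ᵁ U).ι h := by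
  refine IsOpenImmersion.isPullback _ _ _ _ ?_ ?_
  · rw [Category.assoc]; exact (gU_emb hA hB hcov hh U hU).symm
  · rw [Scheme.Opens.opensRange_ι, opensRange_emb, ← Scheme.Hom.comp_preimage,
      comp_eq hA hB hcov hh]

/-- Target-local properties pass from the chart maps `Spec ℬ(U)_(φ f) → Spec 𝒜(U)_(f)` to a morphism
of relative homogeneous spectra given chartwise. -/
theorem of_chart_rel (Q : MorphismProperty Scheme.{u}) [IsZariskiLocalAtTarget Q]
    (hA : RelProj.IsRelProj 𝒜 pA chartA) (hB : RelProj.IsRelProj ℬ pB chartB)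
    (hcov : ∀ (U : Y.Opens) (hU : IsAffineOpen U), Cov (psi φ hφ U hU))
    (hh : HQ φ hφ pA chartA pB chartB h)
    (H : ∀ (U : Y.Opens) (hU : IsAffineOpen U) (d : ℕ) (_ : 0 < d) (f : 𝒜.presheaf.obj (op U))
      (_ : f ∈ 𝒜.deg U hU d), Q (Spec.map (CommRingCat.ofHom (Away.map (psi φ hφ U hU) f)))) :
    Q h := by
  refine Groth.Agent.Lib.RelProj_helper3.of_isPullback_cover Q h
    (fun U : Y.affineOpens => pA ⁻¹ᵁ (U : Y.Opens))
    (Groth.Agent.Lib.RelProj_helper3.isOpenCover_preimage pA) _ _ _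
    (fun U => isPullback_gU hA hB hcov hh U.1 U.2) fun U => ?_
  rw [Q.cancel_right_of_respectsIso]
  exact of_charts Q (hc_gU hA hB hcov hh U.1 U.2) (hcov U.1 U.2) (H U.1 U.2)

end Rel

end Groth.Agent.RelProjTN
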