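import Mathlib
import Groth.Prelude.Def_RelProj4
import Groth.Agent.Lib.RelProjTN2_helper5

/-!
# Comparing the charts of a relative `Proj` over different affine opens; the open `G(φ)` (helper5)
-/

set_option autoImplicit false
universe u
open CategoryTheory CategoryTheory.Limits AlgebraicGeometry TopologicalSpace Opposite
open HomogeneousLocalization
open scoped HomogeneousIdeal

noncomputable section

namespace Groth.Agent.RelProjTN

open RelProj

section Abs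
variable {A B σ τ : Type u} [CommRing A] [SetLike σ A] [AddSubgroupClass σ A] [CommRing B]
  [SetLike τ B] [AddSubgroupClass τ B] {𝒜 : ℕ → σ} [GradedRing 𝒜] {ℬ : ℕ → τ} [GradedRing ℬ]
  (ψ : 𝒜 →+*ᵍ ℬ)

/-- A point of `G(ψ)` lies in some `D_+(ψ f)` with `f` homogeneous of positive degree. -/
theorem exists_homogeneous_of_mem_domOpen (z : Proj ℬ) (hz : z ∈ RelCone.domOpen ψ) :
    ∃ (d : ℕ) (_ : 0 < d) (f : A) (_ : f ∈ 𝒜 d), z ∈ Proj.basicOpen ℬ (ψ f) := by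
  classical
  obtain ⟨f, hf, hfz⟩ := (RelCone.mem_domOpen ψ z).mp hz
  by_contra hcon
  push Not at hcon
  apply hfz
  rw [← DirectSum.sum_support_decompose 𝒜 f, map_sum]
  refine Ideal.sum_mem _ fun i _ => ?_
  by_cases hi : i = 0
  · subst hi
    have h0 : (DirectSum.decompose 𝒜 f 0 : A) = 0 := (HomogeneousIdeal.mem_irrelevant_iff 𝒜 f).mp hf
    rw [h0, map_zero]
    exact Ideal.zero_mem _
  · have := hcon i (Nat.pos_of_ne_zero hi) _ (SetLike.coe_mem (DirectSum.decompose 𝒜 f i))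
    by_contra hmem
    exact this hmem

theorem mem_domOpen_of_mem_basicOpen {d : ℕ} (hd : 0 < d) {f : A} (hf : f ∈ 𝒜 d) (z : Proj ℬ)
    (hz : z ∈ Proj.basicOpen ℬ (ψ f)) : z ∈ RelCone.domOpen ψ :=
  (RelCone.mem_domOpen ψ z).mpr
    ⟨f, HomogeneousIdeal.mem_irrelevant_of_mem _ hd hf, (ProjectiveSpectrum.mem_basicOpen _ _ _).mp hz⟩

end Abs

section Rel
variable {Y PB : Scheme.{u}} {𝒜 ℬ : RelProj.QCGrAlg Y}
  (φ : 𝒜.toQCAlg ⟶ ℬ.toQCAlg) (hφ : RelProj.IsGradedHom φ)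
  (pB : PB ⟶ Y)
  (chartB : ∀ (U : Y.Opens) (hU : IsAffineOpen U),
    (((pB ⁻¹ᵁ U : PB.Opens) : Scheme.{u}) ≅ Proj (ℬ.deg U hU)))

/-- The point of `Proj ℬ(U)` corresponding to `x ∈ pB⁻¹U`. -/
def zpt (U : Y.Opens) (hU : IsAffineOpen U) (x : PB) (hx : x ∈ pB ⁻¹ᵁ U) : Proj (ℬ.deg U hU) :=
  (chartB U hU).hom.base ⟨x, hx⟩

variable {pB chartB}

theorem emb_zpt (U : Y.Opens) (hU : IsAffineOpen U) (x : PB) (hx : x ∈ pB ⁻¹ᵁ U) :
    (RelProj.emb pB chartB U hU).base (zpt pB chartB U hU x hx) = x :=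
  emb_apply_chart U hU x hx

theorem mem_of_emb (U : Y.Opens) (hU : IsAffineOpen U) (z : Proj (ℬ.deg U hU)) :
    (RelProj.emb pB chartB U hU).base z ∈ pB ⁻¹ᵁ U := by
  rw [← opensRange_emb (pB := pB) (chartB := chartB) U hU]; exact ⟨z, rfl⟩

theorem zpt_emb (U : Y.Opens) (hU : IsAffineOpen U) (z : Proj (ℬ.deg U hU)) :
    zpt pB chartB U hU ((RelProj.emb pB chartB U hU).base z) (mem_of_emb U hU z) = z := by
  apply (RelProj.emb pB chartB U hU).isOpenEmbedding.injective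
  rw [emb_zpt]

theorem zpt_res (hB : RelProj.IsRelProj ℬ pB chartB) (U : Y.Opens) (hU : IsAffineOpen U)
    (r : Γ(Y, U)) (x : PB) (hx : x ∈ pB ⁻¹ᵁ (Y.basicOpen r)) :
    zpt pB chartB U hU x (pB.preimage_mono (Y.basicOpen_le r) hx) =
      (Proj.map (ℬ.res hU (hU.basicOpen r) (Y.basicOpen_le r)) (ℬ.irrelevant_le_map U hU r)).base
        (zpt pB chartB (Y.basicOpen r) (hU.basicOpen r) x hx) := by
  have h := congrArg (fun m => m.base ⟨x, hx⟩) (hB.chart_res U hU r)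
  simp only [Scheme.Hom.comp_base, TopCat.coe_comp, Function.comp_apply] at h
  unfold zpt
  rw [← h]
  congr 1
  exact (Scheme.homOfLE_apply' _ x hx).symm

theorem mem_zpt_res (hB : RelProj.IsRelProj ℬ pB chartB) (U : Y.Opens) (hU : IsAffineOpen U)
    (r : Γ(Y, U)) (x : PB) (hx : x ∈ pB ⁻¹ᵁ (Y.basicOpen r)) (b : ℬ.presheaf.obj (op U)) :
    zpt pB chartB U hU x (pB.preimage_mono (Y.basicOpen_le r) hx) ∈
        Proj.basicOpen (ℬ.deg U hU) b ↔
      zpt pB chartB (Y.basicOpen r) (hU.basicOpen r) x hx ∈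
        Proj.basicOpen (ℬ.deg (Y.basicOpen r) (hU.basicOpen r))
          ((ℬ.presheaf.map (homOfLE (Y.basicOpen_le r)).op).hom b) := by
  rw [zpt_res hB U hU r x hx]
  exact Iff.rfl

theorem mem_zpt_res' (hB : RelProj.IsRelProj ℬ pB chartB) (U : Y.Opens) (hU : IsAffineOpen U)
    (W : Y.Opens) (hW : IsAffineOpen W) (hWU : W ≤ U) (hbas : ∃ r : Γ(Y, U), W = Y.basicOpen r)
    (x : PB) (hx : x ∈ pB ⁻¹ᵁ W) (b : ℬ.presheaf.obj (op U)) :
    zpt pB chartB U hU x (pB.preimage_mono hWU hx) ∈ Proj.basicOpen (ℬ.deg U hU) b ↔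
      zpt pB chartB W hW x hx ∈
        Proj.basicOpen (ℬ.deg W hW) ((ℬ.presheaf.map (homOfLE hWU).op).hom b) := by
  obtain ⟨r, rfl⟩ := hbas
  exact mem_zpt_res hB U hU r x hx b

end Rel

section Key
variable {Y PB : Scheme.{u}} {𝒜 ℬ : RelProj.QCGrAlg Y}
  (φ : 𝒜.toQCAlg ⟶ ℬ.toQCAlg) (hφ : RelProj.IsGradedHom φ)
  {pB : PB ⟶ Y}
  {chartB : ∀ (U : Y.Opens) (hU : IsAffineOpen U),
    (((pB ⁻¹ᵁ U : PB.Opens) : Scheme.{u}) ≅ Proj (ℬ.deg U hU))}

theorem phi_res {U W : Y.Opens} (i : W ≤ U) (a : 𝒜.presheaf.obj (op U)) :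
    (φ.hom.app (op W)).hom ((𝒜.presheaf.map (homOfLE i).op).hom a) =
      (ℬ.presheaf.map (homOfLE i).op).hom ((φ.hom.app (op U)).hom a) := by
  have := congr_arg (fun ψ => ψ.hom a) (φ.hom.naturality (homOfLE i).op)
  simp only [CommRingCat.hom_comp, RingHom.comp_apply] at this
  exact this

theorem phi_str (U : Y.Opens) (r : Γ(Y, U)) :
    (φ.hom.app (op U)).hom ((𝒜.str.app (op U)).hom r) = (ℬ.str.app (op U)).hom r := by
  have h0 := NatTrans.congr_app φ.comm (op U)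
  rw [NatTrans.comp_app] at h0
  have := congr_arg (fun ψ => ψ.hom r) h0
  simp only [CommRingCat.hom_comp, RingHom.comp_apply] at this
  exact this

theorem gradedAt_apply' (V : Y.Opens) (hV : IsAffineOpen V) (V' : Y.Opens) (hV' : IsAffineOpen V')
    (hle : V' ≤ (𝟙 Y : Y ⟶ Y) ⁻¹ᵁ V) (f : 𝒜.presheaf.obj (op V)) :
    (RelProj.QGrHom.ofHom φ hφ).gradedAt V hV V' hV' hle f =
      (ℬ.presheaf.map (homOfLE (show V' ≤ V from hle)).op).hom ((φ.hom.app (op V)).hom f) := rfl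

theorem res_res (ℬ : RelProj.QCGrAlg Y) {U V W : Y.Opens} (i : V ≤ U) (j : W ≤ V)
    (b : ℬ.presheaf.obj (op U)) :
    (ℬ.presheaf.map (homOfLE j).op).hom ((ℬ.presheaf.map (homOfLE i).op).hom b) =
      (ℬ.presheaf.map (homOfLE (j.trans i)).op).hom b := by
  rw [← RingHom.comp_apply, ← CommRingCat.hom_comp, ← Functor.map_comp]
  rfl

/-- **Chart comparison**: if `x` lies in `G(φ)` as seen from the pair `(V, V')`, it does as seen from
the chart over any affine open `U` containing its image. -/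
theorem key (hB : RelProj.IsRelProj ℬ pB chartB) (V : Y.Opens) (hV : IsAffineOpen V) (V' : Y.Opens)
    (hV' : IsAffineOpen V') (hle : V' ≤ (𝟙 Y : Y ⟶ Y) ⁻¹ᵁ V) (U : Y.Opens) (hU : IsAffineOpen U)
    (x : PB) (hxV' : x ∈ pB ⁻¹ᵁ V') (hxU : x ∈ pB ⁻¹ᵁ U)
    (hz : zpt pB chartB V' hV' x hxV' ∈
      RelCone.domOpen ((RelProj.QGrHom.ofHom φ hφ).gradedAt V hV V' hV' hle)) :
    zpt pB chartB U hU x hxU ∈ RelCone.domOpen (psi φ hφ U hU) := by
  classical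
  obtain ⟨d, hd, f, hf, hzf⟩ := exists_homogeneous_of_mem_domOpen _ _ hz
  have hV'V : V' ≤ V := hle
  obtain ⟨r, r', hrr', hxr⟩ := exists_basicOpen_le_affine_inter hU hV' (pB.base x) ⟨hxU, hxV'⟩
  have hW : IsAffineOpen (Y.basicOpen r) := hU.basicOpen r
  have hWU : Y.basicOpen r ≤ U := Y.basicOpen_le r
  have hWV' : Y.basicOpen r ≤ V' := by rw [hrr']; exact Y.basicOpen_le r'
  have hxW : x ∈ pB ⁻¹ᵁ (Y.basicOpen r) := hxr
  have h3 := (mem_zpt_res' hB V' hV' (Y.basicOpen r) hW hWV' ⟨r', hrr'⟩ x hxW _).mp hzf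
  set fW := (𝒜.presheaf.map (homOfLE (hWV'.trans hV'V)).op).hom f with hfWdef
  have hfW : fW ∈ 𝒜.deg (Y.basicOpen r) hW d := 𝒜.map_mem hV hW _ hf
  have h3' : (ℬ.presheaf.map (homOfLE hWV').op).hom
      ((RelProj.QGrHom.ofHom φ hφ).gradedAt V hV V' hV' hle f) =
        (φ.hom.app (op (Y.basicOpen r))).hom fW := by
    rw [gradedAt_apply', res_res, hfWdef, phi_res]
  rw [h3'] at h3
  -- localization
  let ρ := 𝒜.res hU hW hWU
  let _inst := (𝒜.presheaf.map (homOfLE (Y.basicOpen_le r)).op).hom.toAlgebra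
  let c := (𝒜.str.app (op U)).hom r
  have hloc : IsLocalization.Away c (𝒜.presheaf.obj (op (Y.basicOpen r))) := 𝒜.isQC U hU r
  obtain ⟨⟨a, s, hs⟩, has⟩ := IsLocalization.surj (Submonoid.powers c) fW
  obtain ⟨k, rfl⟩ := (Submonoid.mem_powers_iff _ _).mp hs
  change fW * ρ (c ^ k) = ρ a at has
  have hc0 : ρ (c ^ k) ∈ 𝒜.deg (Y.basicOpen r) hW 0 := by
    rw [map_pow]
    exact SetLike.pow_mem_graded _ (ρ.map_mem (𝒜.str_mem U hU r))
  have hbi : fW * ρ (c ^ k) ∈ 𝒜.deg (Y.basicOpen r) hW d := by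
    simpa only [add_zero] using
      SetLike.mul_mem_graded (A := 𝒜.deg (Y.basicOpen r) hW) hfW hc0
  have hxi : ρ (DirectSum.decompose (𝒜.deg U hU) a d : 𝒜.presheaf.obj (op U)) =
      fW * ρ (c ^ k) := by
    rw [GradedRingHom.map_directSumDecompose, ← has, DirectSum.decompose_of_mem_same _ hbi]
  set ad : 𝒜.presheaf.obj (op U) := (DirectSum.decompose (𝒜.deg U hU) a d : 𝒜.presheaf.obj (op U))
    with hadef
  have had : ad ∈ 𝒜.deg U hU d := SetLike.coe_mem _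
  -- apply φ over W
  have hφρ : (φ.hom.app (op (Y.basicOpen r))).hom (ρ ad) =
      (φ.hom.app (op (Y.basicOpen r))).hom fW *
        ((ℬ.presheaf.map (homOfLE hWU).op).hom ((ℬ.str.app (op U)).hom r)) ^ k := by
    rw [hxi, map_mul, map_pow, map_pow]
    congr 2
    show (φ.hom.app (op (Y.basicOpen r))).hom ((𝒜.presheaf.map (homOfLE hWU).op).hom c) = _
    rw [phi_res, phi_str]
  -- the unit
  let _instB := (ℬ.presheaf.map (homOfLE (Y.basicOpen_le r)).op).hom.toAlgebra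
  have hlocB : IsLocalization.Away ((ℬ.str.app (op U)).hom r)
      (ℬ.presheaf.obj (op (Y.basicOpen r))) := ℬ.isQC U hU r
  have hu : IsUnit ((ℬ.presheaf.map (homOfLE hWU).op).hom ((ℬ.str.app (op U)).hom r)) :=
    IsLocalization.map_units (M := Submonoid.powers ((ℬ.str.app (op U)).hom r))
      (ℬ.presheaf.obj (op (Y.basicOpen r))) ⟨_, 1, pow_one _⟩
  -- conclude
  have h5 : zpt pB chartB (Y.basicOpen r) hW x hxW ∈
      Proj.basicOpen (ℬ.deg (Y.basicOpen r) hW) ((φ.hom.app (op (Y.basicOpen r))).hom (ρ ad)) := by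
    rw [hφρ]
    show _ ∉ (zpt pB chartB (Y.basicOpen r) hW x hxW).asHomogeneousIdeal
    intro hmem
    apply h3
    show _ ∈ (zpt pB chartB (Y.basicOpen r) hW x hxW).asHomogeneousIdeal
    obtain ⟨w, hw⟩ := (hu.pow k).exists_right_inv
    have := Ideal.mul_mem_right w _ hmem
    rwa [mul_assoc, hw, mul_one] at this
  have h6 : (φ.hom.app (op (Y.basicOpen r))).hom (ρ ad) =
      (ℬ.presheaf.map (homOfLE hWU).op).hom ((φ.hom.app (op U)).hom ad) := phi_res φ hWU ad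
  rw [h6] at h5
  have h7 := (mem_zpt_res' hB U hU (Y.basicOpen r) hW hWU ⟨r, rfl⟩ x hxW _).mpr h5
  rw [← psi_apply φ hφ U hU] at h7
  exact mem_domOpen_of_mem_basicOpen _ hd had _ h7

theorem domOpen_gradedHomAt (U : Y.Opens) (hU : IsAffineOpen U) :
    RelCone.domOpen (RelProj.gradedHomAt φ hφ U hU) = RelCone.domOpen (psi φ hφ U hU) := by
  ext z
  show z ∈ RelCone.domOpen (RelProj.gradedHomAt φ hφ U hU) ↔ z ∈ RelCone.domOpen (psi φ hφ U hU)
  rw [RelCone.mem_domOpen, RelCone.mem_domOpen]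
  constructor
  · rintro ⟨f, hf, hfz⟩
    exact ⟨f, hf, by rw [psi_apply]; exact hfz⟩
  · rintro ⟨f, hf, hfz⟩
    exact ⟨f, hf, by rw [psi_apply] at hfz; exact hfz⟩

/-- Over an affine open `U`, the open `G(φ)` is the image of `G(φ(U)) ⊆ Proj ℬ(U)`. -/
theorem domQ_inf (hB : RelProj.IsRelProj ℬ pB chartB) (U : Y.Opens) (hU : IsAffineOpen U) :
    RelProj.domQ (RelProj.QGrHom.ofHom φ hφ) pB chartB ⊓ pB ⁻¹ᵁ U =
      (RelProj.emb pB chartB U hU) ''ᵁ RelCone.domOpen (psi φ hφ U hU) := by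
  ext x
  constructor
  · rintro ⟨hxG, hxU⟩
    obtain ⟨⟨⟨⟨V, hV⟩, ⟨V', hV'⟩⟩, hle⟩, hx'⟩ := Opens.mem_iSup.mp hxG
    obtain ⟨z', hz', rfl⟩ := hx'
    have hxV' := mem_of_emb (pB := pB) (chartB := chartB) V' hV' z'
    have hz'' : zpt pB chartB V' hV' ((RelProj.emb pB chartB V' hV').base z') hxV' ∈
        RelCone.domOpen ((RelProj.QGrHom.ofHom φ hφ).gradedAt V hV V' hV' hle) := by
      rw [zpt_emb]; exact hz'
    have := key φ hφ hB V hV V' hV' hle U hU _ hxV' hxU hz''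
    exact ⟨_, this, emb_zpt U hU _ hxU⟩
  · rintro ⟨z, hz, rfl⟩
    refine ⟨?_, mem_of_emb U hU z⟩
    exact Opens.mem_iSup.mpr ⟨⟨(⟨U, hU⟩, ⟨U, hU⟩), hle U⟩, ⟨z, hz, rfl⟩⟩

end Key

end Groth.Agent.RelProjTN
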