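import Mathlib
import Groth.Prelude.Def_RelSpec
import Groth.Prelude.Def_AffAlg

/-!
# Pushouts of quasi-coherent algebras can be checked on affine opens  (helper5)
-/

set_option autoImplicit false
universe u
open AlgebraicGeometry CategoryTheory CategoryTheory.Limits Opposite TopologicalSpace

noncomputable section

namespace Groth.Agent.QCAlgPO

open RelSpec

variable {S : Scheme.{u}}

/-- Two maps of presheaves into a quasi-coherent algebra agreeing on affine opens are equal. -/
theorem hom_ext_affine {F : TopCat.Presheaf CommRingCat.{u} S.carrier} (C : QCAlg S)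
    (α β : F ⟶ C.presheaf)
    (h : ∀ (U : S.Opens), IsAffineOpen U → α.app (op U) = β.app (op U)) : α = β := by
  apply (Functor.IsCoverDense.restrictHomEquivHom (G := Scheme.AffineZariskiSite.toOpensFunctor S)
    (K := Opens.grothendieckTopology S) (ℱ := F)
    (ℱ' := (⟨C.presheaf, C.isSheaf⟩ : TopCat.Sheaf CommRingCat.{u} S.carrier))).symm.injective
  refine NatTrans.ext (funext fun U => ?_)
  exact h U.unop.1 U.unop.2

section po
variable {A B B' D : QCAlg S} (a : A ⟶ B) (a' : A ⟶ B') (b : B ⟶ D) (b' : B' ⟶ D)
  (H : ∀ (U : S.Opens), IsAffineOpen U →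
    IsPushout (a.hom.app (op U)) (a'.hom.app (op U)) (b.hom.app (op U)) (b'.hom.app (op U)))
  (C : QCAlg S) (u : B ⟶ C) (u' : B' ⟶ C) (hs : a ≫ u = a' ≫ u')

include hs in
theorem hs_app (U : S.Opens) :
    a.hom.app (op U) ≫ u.hom.app (op U) = a'.hom.app (op U) ≫ u'.hom.app (op U) :=
  congrArg (fun t => t.hom.app (op U)) hs

/-- The induced map on sections over an affine open. -/
def descApp (U : S.Opens) (hU : IsAffineOpen U) : D.presheaf.obj (op U) ⟶ C.presheaf.obj (op U) :=
  (H U hU).desc (u.hom.app (op U)) (u'.hom.app (op U)) (hs_app a a' C u u' hs U)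

theorem inl_descApp (U : S.Opens) (hU : IsAffineOpen U) :
    b.hom.app (op U) ≫ descApp a a' b b' H C u u' hs U hU = u.hom.app (op U) :=
  (H U hU).inl_desc _ _ _

theorem inr_descApp (U : S.Opens) (hU : IsAffineOpen U) :
    b'.hom.app (op U) ≫ descApp a a' b b' H C u u' hs U hU = u'.hom.app (op U) :=
  (H U hU).inr_desc _ _ _

theorem descApp_naturality {U V : S.Opens} (hU : IsAffineOpen U) (hV : IsAffineOpen V)
    (i : op U ⟶ op V) :
    D.presheaf.map i ≫ descApp a a' b b' H C u u' hs V hV =
      descApp a a' b b' H C u u' hs U hU ≫ C.presheaf.map i := by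
  apply (H U hU).hom_ext
  · rw [← Category.assoc, ← b.hom.naturality, Category.assoc, inl_descApp, ← Category.assoc,
      inl_descApp, u.hom.naturality]
  · rw [← Category.assoc, ← b'.hom.naturality, Category.assoc, inr_descApp, ← Category.assoc,
      inr_descApp, u'.hom.naturality]

/-- The induced maps over the affine opens, as a natural transformation. -/
def descRestrict : (Scheme.AffineZariskiSite.toOpensFunctor S).op ⋙ D.presheaf ⟶
    (Scheme.AffineZariskiSite.toOpensFunctor S).op ⋙ C.presheaf where
  app U := descApp a a' b b' H C u u' hs U.unop.1 U.unop.2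
  naturality U V i := descApp_naturality a a' b b' H C u u' hs U.unop.2 V.unop.2 _

/-- The induced map of presheaves. -/
def descHom : D.presheaf ⟶ C.presheaf :=
  Functor.IsCoverDense.restrictHomEquivHom (G := Scheme.AffineZariskiSite.toOpensFunctor S)
    (K := Opens.grothendieckTopology S) (ℱ := D.presheaf)
    (ℱ' := (⟨C.presheaf, C.isSheaf⟩ : TopCat.Sheaf CommRingCat.{u} S.carrier))
    (descRestrict a a' b b' H C u u' hs)

theorem descHom_restrict :
    (Scheme.AffineZariskiSite.toOpensFunctor S).op.whiskerLeft (descHom a a' b b' H C u u' hs) =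
      descRestrict a a' b b' H C u u' hs :=
  (Functor.IsCoverDense.restrictHomEquivHom (G := Scheme.AffineZariskiSite.toOpensFunctor S)
    (K := Opens.grothendieckTopology S) (ℱ := D.presheaf)
    (ℱ' := (⟨C.presheaf, C.isSheaf⟩ : TopCat.Sheaf CommRingCat.{u} S.carrier))).symm_apply_apply _

theorem descHom_app (U : S.Opens) (hU : IsAffineOpen U) :
    (descHom a a' b b' H C u u' hs).app (op U) = descApp a a' b b' H C u u' hs U hU :=
  NatTrans.congr_app (descHom_restrict a a' b b' H C u u' hs) (op ⟨U, hU⟩)

theorem inl_descHom : b.hom ≫ descHom a a' b b' H C u u' hs = u.hom := by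
  refine hom_ext_affine C _ _ (fun U hU => ?_)
  rw [NatTrans.comp_app, descHom_app a a' b b' H C u u' hs U hU, inl_descApp]

theorem inr_descHom : b'.hom ≫ descHom a a' b b' H C u u' hs = u'.hom := by
  refine hom_ext_affine C _ _ (fun U hU => ?_)
  rw [NatTrans.comp_app, descHom_app a a' b b' H C u u' hs U hU, inr_descApp]

/-- The induced homomorphism of quasi-coherent algebras. -/
def desc : D ⟶ C where
  hom := descHom a a' b b' H C u u' hs
  comm := by
    rw [← b.comm, Category.assoc, inl_descHom, u.comm]

include H in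
theorem desc_unique (m : D ⟶ C) (h1 : b ≫ m = u) (h2 : b' ≫ m = u') :
    m = desc a a' b b' H C u u' hs := by
  apply QCAlg.hom_ext
  refine hom_ext_affine C _ _ (fun U hU => ?_)
  apply (H U hU).hom_ext
  · have e1 := congrArg (fun t => t.hom.app (op U)) h1
    refine e1.trans ?_
    show _ = b.hom.app (op U) ≫ (descHom a a' b b' H C u u' hs).app (op U)
    rw [descHom_app a a' b b' H C u u' hs U hU, inl_descApp]
  · have e2 := congrArg (fun t => t.hom.app (op U)) h2
    refine e2.trans ?_
    show _ = b'.hom.app (op U) ≫ (descHom a a' b b' H C u u' hs).app (op U)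
    rw [descHom_app a a' b b' H C u u' hs U hU, inr_descApp]

end po

/-- **A square of quasi-coherent algebras which is a pushout of rings over every affine open is a
pushout of quasi-coherent algebras.** -/
theorem isPushout_of_affine {A B B' D : QCAlg S} (a : A ⟶ B) (a' : A ⟶ B') (b : B ⟶ D) (b' : B' ⟶ D)
    (w : a ≫ b = a' ≫ b')
    (H : ∀ (U : S.Opens), IsAffineOpen U →
      IsPushout (a.hom.app (op U)) (a'.hom.app (op U)) (b.hom.app (op U)) (b'.hom.app (op U))) :
    IsPushout a a' b b' := by
  refine ⟨⟨w⟩, ⟨PushoutCocone.IsColimit.mk _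
    (fun s => desc a a' b b' H s.pt s.inl s.inr s.condition) (fun s => ?_) (fun s => ?_)
    (fun s m h1 h2 => desc_unique a a' b b' H s.pt s.inl s.inr s.condition m h1 h2)⟩⟩
  · exact QCAlg.hom_ext (inl_descHom a a' b b' H s.pt s.inl s.inr s.condition)
  · exact QCAlg.hom_ext (inr_descHom a a' b b' H s.pt s.inl s.inr s.condition)

end Groth.Agent.QCAlgPO
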