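import Mathlib
import Groth.Prelude.Def_RelProj4
import Groth.Agent.Lib.PullbackLocal_helper5

/-!
# The relative spectrum commutes with base change (helper5)
-/

set_option autoImplicit false
universe u

namespace Groth.Agent.RelSpecBC

open CategoryTheory Limits AlgebraicGeometry TopologicalSpace Opposite RelSpec
open Groth.Agent.PullbackLocal

theorem hom_ext_of_charts {X Y : Scheme.{u}} (f g : X ⟶ Y)
    (H : ∀ x : X, ∃ (C : Scheme.{u}) (c : C ⟶ X) (_ : IsOpenImmersion c),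
      x ∈ c.opensRange ∧ c ≫ f = c ≫ g) : f = g := by
  refine Scheme.hom_ext_of_forall f g (fun x => ?_)
  obtain ⟨C, c, hc, hx, e⟩ := H x
  refine ⟨c.opensRange, hx, ?_⟩
  have h1 : c.opensRange.ι = c.isoOpensRange.inv ≫ c := by
    rw [Iso.eq_inv_comp]
    exact Scheme.Hom.isoOpensRange_hom_ι c
  rw [h1, Category.assoc, Category.assoc, e]

theorem isIso_appLE_of_eq {X Y : Scheme.{u}} (f : X ⟶ Y) (U : Y.Opens) (V : X.Opens)
    (e : V = f ⁻¹ᵁ U) (hf : IsIso (f.app U)) : IsIso (f.appLE U V e.le) := by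
  subst e
  rw [← Scheme.Hom.app_eq_appLE]
  exact hf

variable {S S' : Scheme.{u}}

theorem isIso_gammaAff (A : QCAlg S) (U : S.Opens) (hU : IsAffineOpen U) :
    IsIso (A.gammaAff U hU) := by
  have h1 : IsIso ((A.ι U hU).app (A.π ⁻¹ᵁ U)) :=
    Scheme.Hom.isIso_app _ _ (A.π_preimage U hU).le
  have h2 : IsIso ((A.ι U hU).appLE (A.π ⁻¹ᵁ U) ⊤ (A.top_le_preimage U hU)) :=
    isIso_appLE_of_eq _ _ _ (le_antisymm (A.top_le_preimage U hU) le_top) h1
  rw [QCAlg.gammaAff]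
  infer_instance

section BC

variable (g : S' ⟶ S) (A : QCAlg S) (B : QCAlg S') (u : QHom g A B)
  (h : B.spec ⟶ A.spec) (hh : IsSpecQMap u h)

include hh in
theorem comm : h ≫ A.π = B.π ≫ g := by
  refine hom_ext_of_charts _ _ (fun q => ?_)
  obtain ⟨U, hU, hgx, -⟩ := Opens.isBasis_iff_nbhd.mp S.isBasis_affineOpens
    (Opens.mem_top (g (B.π q)))
  obtain ⟨U', hU', hx, hle⟩ := Opens.isBasis_iff_nbhd.mp S'.isBasis_affineOpens
    (show B.π q ∈ g ⁻¹ᵁ U from hgx)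
  refine ⟨_, B.ι U' hU', inferInstance, ?_, ?_⟩
  · rw [← B.π_preimage U' hU']
    exact hx
  · have e1 : B.ι U' hU' ≫ h ≫ A.π =
        Spec.map (B.str.app (op U')) ≫ Spec.map (g.appLE U U' hle) ≫ hU.fromSpec := by
      rw [← Category.assoc, hh U hU U' hU' hle, Category.assoc, A.ι_π, ← Spec.map_comp_assoc,
        u.str_appLE, Spec.map_comp_assoc]
    have e2 : B.ι U' hU' ≫ B.π ≫ g = Spec.map (B.str.app (op U')) ≫ hU'.fromSpec ≫ g := by
      rw [← Category.assoc, B.ι_π, Category.assoc]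
    rw [e1, e2, IsAffineOpen.SpecMap_appLE_fromSpec g hU hU' hle]

include hh in
theorem appLE_gammaAff (U : S.Opens) (hU : IsAffineOpen U) (U' : S'.Opens) (hU' : IsAffineOpen U')
    (hle : U' ≤ g ⁻¹ᵁ U) (e : B.π ⁻¹ᵁ U' ≤ h ⁻¹ᵁ (A.π ⁻¹ᵁ U)) :
    h.appLE (A.π ⁻¹ᵁ U) (B.π ⁻¹ᵁ U') e ≫ B.gammaAff U' hU' =
      A.gammaAff U hU ≫ u.appLE U U' hle := by
  rw [QCAlg.gammaAff, QCAlg.gammaAff, ← Category.assoc, Scheme.Hom.appLE_comp_appLE,
    appLE_congr (hh U hU U' hU' hle) _ _ _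
      (show (⊤ : (Spec (B.presheaf.obj (op U'))).Opens) ≤
        (Spec.map (u.appLE U U' hle) ≫ A.ι U hU) ⁻¹ᵁ (A.π ⁻¹ᵁ U) from by
          rw [Scheme.Hom.comp_preimage]
          exact le_top.trans (Scheme.Hom.preimage_mono _ (A.top_le_preimage U hU))),
    ← Scheme.Hom.appLE_comp_appLE _ _ _ ⊤ _ (A.top_le_preimage U hU) le_top, Category.assoc,
    Category.assoc]
  congr 1
  exact Scheme.ΓSpecIso_naturality _

include hh in
/-- `Spec(g^*A) = Spec(A) ×_S S'`. -/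
theorem isPullback_spec (hu : IsQBaseChange u) : IsPullback h B.π A.π g := by
  have hc := comm g A B u h hh
  refine isPullback_of_local A.π g h B.π hc (fun t x htx => ?_)
  obtain ⟨U, hU, hgx, -⟩ := Opens.isBasis_iff_nbhd.mp S.isBasis_affineOpens
    (Opens.mem_top (g x))
  obtain ⟨U', hU', hx, hle⟩ := Opens.isBasis_iff_nbhd.mp S'.isBasis_affineOpens
    (show x ∈ g ⁻¹ᵁ U from hgx)
  have hsub : B.π ⁻¹ᵁ U' ≤ h ⁻¹ᵁ (A.π ⁻¹ᵁ U) := by
    rw [← Scheme.Hom.comp_preimage, hc, Scheme.Hom.comp_preimage]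
    exact Scheme.Hom.preimage_mono _ hle
  have eU : B.π ⁻¹ᵁ U' = h ⁻¹ᵁ (A.π ⁻¹ᵁ U) ⊓ B.π ⁻¹ᵁ U' := (inf_eq_right.mpr hsub).symm
  refine ⟨U, A.π ⁻¹ᵁ U, U', B.π ⁻¹ᵁ U', le_rfl, hle, eU, ?_, hx, hU, hU.preimage A.π, hU',
    hU'.preimage B.π, ?_⟩
  · show A.π t ∈ U
    rw [htx]
    exact hgx
  · haveI := isIso_gammaAff A U hU
    haveI := isIso_gammaAff B U' hU'
    have hA := A.π_app_gammaAff U hU
    have hB := B.π_app_gammaAff U' hU'
    have hd := appLE_gammaAff g A B u h hh U hU U' hU' hle hsub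
    refine IsPushout.of_iso (hu U hU U' hU' hle).flip (Iso.refl _) (asIso (A.gammaAff U hU)).symm
      (Iso.refl _) (asIso (B.gammaAff U' hU')).symm ?_ ?_ ?_ ?_
    · rw [Iso.refl_hom, Category.id_comp, Iso.symm_hom, asIso_inv, IsIso.comp_inv_eq,
        ← Scheme.Hom.app_eq_appLE]
      exact hA.symm
    · exact (Category.comp_id _).trans (Category.id_comp _).symm
    · rw [Iso.symm_hom, asIso_inv, Iso.symm_hom, asIso_inv, IsIso.comp_inv_eq, Category.assoc,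
        IsIso.eq_inv_comp]
      exact hd.symm
    · rw [Iso.refl_hom, Category.id_comp, Iso.symm_hom, asIso_inv, IsIso.comp_inv_eq,
        ← Scheme.Hom.app_eq_appLE]
      exact hB.symm

end BC

end Groth.Agent.RelSpecBC
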