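import Mathlib
import Groth.Agent.Lib.TensQC1_helper8

/-!
# The symmetric algebra and localization  (helper5)

`symMap ρ l` : `Sym_R(M) → Sym_{R'}(M')` for a semilinear pair `(ρ, l)`; if `(ρ, l)` is the
localization at `a`, then `symMap` is the localization of `Sym_R(M)` at `a`.
-/

set_option autoImplicit false
universe u

noncomputable section

namespace Groth.Agent.SymAlg

open RelFPKit TensQCH8

section ring
variable {R R' R'' : Type u} [CommRing R] [CommRing R'] [CommRing R'']
  {M M' M'' : Type u} [AddCommGroup M] [Module R M] [AddCommGroup M'] [Module R' M']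
  [AddCommGroup M''] [Module R'' M'']

/-- Ring homomorphisms out of the symmetric algebra agreeing on scalars and generators are equal. -/
theorem ringHom_ext {T : Type*} [Semiring T] (f g : SymmetricAlgebra R M →+* T)
    (h1 : ∀ r, f (algebraMap R _ r) = g (algebraMap R _ r))
    (h2 : ∀ m, f (SymmetricAlgebra.ι R M m) = g (SymmetricAlgebra.ι R M m)) : f = g := by
  refine RingHom.ext fun x => ?_
  induction x using SymmetricAlgebra.induction with
  | algebraMap r => exact h1 r
  | ι m => exact h2 m
  | mul a b ha hb => rw [map_mul, map_mul, ha, hb]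
  | add a b ha hb => rw [map_add, map_add, ha, hb]

/-- The ring homomorphism `Sym_R(M) → Sym_{R'}(M')` induced by a semilinear pair. -/
def symMap (ρ : R →+* R') (l : M →+ M') (hl : ∀ (a : R) (m : M), l (a • m) = ρ a • l m) :
    SymmetricAlgebra R M →+* SymmetricAlgebra R' M' :=
  letI : Algebra R (SymmetricAlgebra R' M') :=
    ((algebraMap R' (SymmetricAlgebra R' M')).comp ρ).toAlgebra
  (SymmetricAlgebra.lift (R := R) (M := M) (A := SymmetricAlgebra R' M')
    { toFun := fun m => SymmetricAlgebra.ι R' M' (l m)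
      map_add' := fun x y => by rw [map_add, map_add]
      map_smul' := fun a m => by
        rw [hl, map_smul, RingHom.id_apply, Algebra.smul_def, Algebra.smul_def]
        rfl }).toRingHom

theorem symMap_ι (ρ : R →+* R') (l : M →+ M') (hl : ∀ (a : R) (m : M), l (a • m) = ρ a • l m)
    (m : M) : symMap ρ l hl (SymmetricAlgebra.ι R M m) = SymmetricAlgebra.ι R' M' (l m) := by
  letI : Algebra R (SymmetricAlgebra R' M') :=
    ((algebraMap R' (SymmetricAlgebra R' M')).comp ρ).toAlgebra
  exact SymmetricAlgebra.lift_ι_apply _ m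

theorem symMap_algebraMap (ρ : R →+* R') (l : M →+ M')
    (hl : ∀ (a : R) (m : M), l (a • m) = ρ a • l m) (r : R) :
    symMap ρ l hl (algebraMap R _ r) = algebraMap R' _ (ρ r) := by
  letI : Algebra R (SymmetricAlgebra R' M') :=
    ((algebraMap R' (SymmetricAlgebra R' M')).comp ρ).toAlgebra
  exact AlgHom.commutes _ r

theorem symMap_id : symMap (RingHom.id R) (AddMonoidHom.id M) (fun _ _ => rfl) = RingHom.id _ := by
  refine ringHom_ext _ _ (fun r => ?_) (fun m => ?_)
  · rw [symMap_algebraMap]; rfl
  · rw [symMap_ι]; rfl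

theorem symMap_comp (ρ : R →+* R') (l : M →+ M') (hl : ∀ (a : R) (m : M), l (a • m) = ρ a • l m)
    (ρ' : R' →+* R'') (l' : M' →+ M'') (hl' : ∀ (a : R') (m : M'), l' (a • m) = ρ' a • l' m) :
    (symMap ρ' l' hl').comp (symMap ρ l hl) =
      symMap (ρ'.comp ρ) (l'.comp l) (fun a m => by
        rw [AddMonoidHom.comp_apply, hl, hl']; rfl) := by
  refine ringHom_ext _ _ (fun r => ?_) (fun m => ?_)
  · rw [RingHom.comp_apply, symMap_algebraMap, symMap_algebraMap, symMap_algebraMap]; rfl
  · rw [RingHom.comp_apply, symMap_ι, symMap_ι, symMap_ι]; rfl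

/-- If two semilinear pairs are equal, so are the induced maps. -/
theorem symMap_congr {ρ ρ₂ : R →+* R'} {l l₂ : M →+ M'}
    (hl : ∀ (a : R) (m : M), l (a • m) = ρ a • l m)
    (hl₂ : ∀ (a : R) (m : M), l₂ (a • m) = ρ₂ a • l₂ m) (e1 : ρ = ρ₂) (e2 : l = l₂) :
    symMap ρ l hl = symMap ρ₂ l₂ hl₂ := by
  subst e1 e2; rfl

end ring

section loc
variable {R R' : Type u} [CommRing R] [CommRing R']
  {M M' : Type u} [AddCommGroup M] [Module R M] [AddCommGroup M'] [Module R' M']
  {ρ : R →+* R'} {a : R} {l : M →+ M'}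

/-- **Extension through the localization.** A ring homomorphism `g : Sym_R(M) → T` inverting `a`
extends along `symMap` to `Sym_{R'}(M')`, when `(R', M')` is the localization of `(R, M)` at `a`. -/
theorem exists_extension (h : LocData ρ a l) {T : Type u} [CommRing T]
    (g : SymmetricAlgebra R M →+* T) (hg : IsUnit (g (algebraMap R _ a))) :
    ∃ τ : SymmetricAlgebra R' M' →+* T, τ.comp (symMap ρ l h.smul) = g := by
  letI : Algebra R R' := ρ.toAlgebra
  haveI : IsLocalization.Away a R' := h.isLoc
  letI : Module R M' := Module.compHom M' ρ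
  haveI : IsScalarTower R R' M' := IsScalarTower.of_algebraMap_smul (fun _ _ => rfl)
  let fM : M →ₗ[R] M' := { toFun := l, map_add' := l.map_add, map_smul' := h.smul }
  haveI : IsLocalizedModule (Submonoid.powers a) fM := LocData.isLocalizedModule h
  letI : Algebra R T := (g.comp (algebraMap R (SymmetricAlgebra R M))).toAlgebra
  have hunit : IsUnit ((g.comp (algebraMap R (SymmetricAlgebra R M))) a) := hg
  let θ : R' →+* T := IsLocalization.Away.lift a hunit
  have hθ : ∀ r : R, θ (ρ r) = g (algebraMap R _ r) := fun r =>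
    IsLocalization.Away.lift_eq a hunit r
  letI : Algebra R' T := θ.toAlgebra
  haveI : IsScalarTower R R' T := IsScalarTower.of_algebraMap_eq (fun r => (hθ r).symm)
  let g₀ : M →ₗ[R] T :=
    { toFun := fun m => g (SymmetricAlgebra.ι R M m)
      map_add' := fun x y => by rw [map_add, map_add]
      map_smul' := fun r m => by
        rw [map_smul, Algebra.smul_def, map_mul, RingHom.id_apply, Algebra.smul_def]
        rfl }
  have hu : ∀ x : Submonoid.powers a, IsUnit (algebraMap R (Module.End R T) x) := by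
    rintro ⟨x, n, rfl⟩
    rw [Module.End.isUnit_iff]
    have hun : IsUnit (g (algebraMap R _ (a ^ n))) := by
      rw [map_pow, map_pow]; exact hg.pow n
    obtain ⟨w, hw⟩ := hun
    refine ⟨fun t₁ t₂ h12 => ?_, fun t => ⟨(↑w⁻¹ : T) * t, ?_⟩⟩
    · have h12' : g (algebraMap R _ (a ^ n)) * t₁ = g (algebraMap R _ (a ^ n)) * t₂ := h12
      rw [← hw] at h12'
      exact (Units.mul_right_inj w).mp h12'
    · show g (algebraMap R _ (a ^ n)) * ((↑w⁻¹ : T) * t) = t
      rw [← hw, ← mul_assoc, Units.mul_inv, one_mul]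
  let lam₀ : M' →ₗ[R] T := IsLocalizedModule.lift (Submonoid.powers a) fM g₀ hu
  have hlam₀ : ∀ m : M, lam₀ (l m) = g (SymmetricAlgebra.ι R M m) := fun m =>
    IsLocalizedModule.lift_apply (Submonoid.powers a) fM g₀ hu m
  let lam : M' →ₗ[R'] T := LinearMap.extendScalarsOfIsLocalization (Submonoid.powers a) R' lam₀
  refine ⟨(SymmetricAlgebra.lift lam).toRingHom, ?_⟩
  refine ringHom_ext _ _ (fun r => ?_) (fun m => ?_)
  · rw [RingHom.comp_apply, symMap_algebraMap]
    refine (AlgHom.commutes (SymmetricAlgebra.lift lam) (ρ r)).trans ?_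
    exact hθ r
  · rw [RingHom.comp_apply, symMap_ι]
    refine (SymmetricAlgebra.lift_ι_apply lam (l m)).trans ?_
    exact hlam₀ m

/-- **The symmetric algebra commutes with localization.** -/
theorem isLocalization_symMap (h : LocData ρ a l) :
    letI := (symMap ρ l h.smul).toAlgebra
    IsLocalization.Away (algebraMap R (SymmetricAlgebra R M) a) (SymmetricAlgebra R' M') := by
  letI := (symMap ρ l h.smul).toAlgebra
  have hua : IsUnit (ρ a) := LocData.isUnit_map h
  have hσa : symMap ρ l h.smul (algebraMap R _ a) = algebraMap R' _ (ρ a) := symMap_algebraMap _ _ _ a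
  refine IsLocalization.Away.mk _ ?_ ?_ ?_
  · show IsUnit (symMap ρ l h.smul (algebraMap R _ a))
    rw [hσa]
    exact hua.map _
  · intro s
    show ∃ (n : ℕ) (b : SymmetricAlgebra R M),
      s * symMap ρ l h.smul (algebraMap R _ a) ^ n = symMap ρ l h.smul b
    rw [hσa]
    induction s using SymmetricAlgebra.induction with
    | algebraMap r' =>
      letI : Algebra R R' := ρ.toAlgebra
      haveI : IsLocalization.Away a R' := h.isLoc
      obtain ⟨n, b, hb⟩ := IsLocalization.Away.surj a r'
      refine ⟨n, algebraMap R _ b, ?_⟩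
      rw [symMap_algebraMap, ← map_pow, ← map_mul]
      exact congrArg _ hb
    | ι m' =>
      obtain ⟨n, m, hm⟩ := h.surj m'
      refine ⟨n, SymmetricAlgebra.ι R M m, ?_⟩
      rw [symMap_ι, ← hm, map_smul, Algebra.smul_def, map_pow, mul_comm]
    | mul x y hx hy =>
      obtain ⟨n₁, b₁, h₁⟩ := hx
      obtain ⟨n₂, b₂, h₂⟩ := hy
      refine ⟨n₁ + n₂, b₁ * b₂, ?_⟩
      rw [map_mul, ← h₁, ← h₂, pow_add]
      ring
    | add x y hx hy =>
      obtain ⟨n₁, b₁, h₁⟩ := hx
      obtain ⟨n₂, b₂, h₂⟩ := hy
      refine ⟨n₁ + n₂, algebraMap R _ (a ^ n₂) * b₁ + algebraMap R _ (a ^ n₁) * b₂, ?_⟩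
      rw [map_add, map_mul, map_mul, ← h₁, ← h₂, symMap_algebraMap, symMap_algebraMap, map_pow,
        map_pow, map_pow, map_pow, pow_add]
      ring
  · intro s t hst
    have hst' : symMap ρ l h.smul s = symMap ρ l h.smul t := hst
    obtain ⟨τ, hτ⟩ := exists_extension h
      (algebraMap (SymmetricAlgebra R M) (Localization.Away (algebraMap R (SymmetricAlgebra R M) a)))
      (IsLocalization.Away.algebraMap_isUnit _)
    have e : algebraMap (SymmetricAlgebra R M)
        (Localization.Away (algebraMap R (SymmetricAlgebra R M) a)) s =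
        algebraMap (SymmetricAlgebra R M)
          (Localization.Away (algebraMap R (SymmetricAlgebra R M) a)) t := by
      rw [← hτ, RingHom.comp_apply, RingHom.comp_apply, hst']
    obtain ⟨⟨_, n, rfl⟩, hn⟩ := (IsLocalization.eq_iff_exists
      (Submonoid.powers (algebraMap R (SymmetricAlgebra R M) a)) _).mp e
    exact ⟨n, hn⟩

end loc

end Groth.Agent.SymAlg
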