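import Mathlib
import Groth.Prelude.Def_RelSpec
import Groth.Prelude.Def_Coh
import Groth.Agent.Lib.SymAlg1_helper5
import Groth.Agent.Lib.QCohCrit_helper9
import Groth.Agent.Lib.QcqsLoc_helper9

/-!
# The presheaf `U ↦ Sym_{O(U)}(E(U))` and its restriction to the affine opens  (helper5)
-/

set_option autoImplicit false
universe u
open AlgebraicGeometry CategoryTheory CategoryTheory.Limits Opposite TopologicalSpace

noncomputable section

namespace Groth.Agent.SymAlg

open QcqsLoc

variable {X : Scheme.{u}} (E : X.Modules)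

/-- `Sym_{O(U)}(E(U))`. -/
abbrev SymSec (U : X.Opens) : Type u := SymmetricAlgebra Γ(X, U) Γ(E, U)

/-- Restriction `Sym(E(U)) → Sym(E(V))`. -/
def symRes {U V : X.Opens} (h : V ≤ U) : SymSec E U →+* SymSec E V :=
  symMap (rX h) (rF E h) (fun a m => rF_smul E h a m)

theorem symRes_ι {U V : X.Opens} (h : V ≤ U) (m : Γ(E, U)) :
    symRes E h (SymmetricAlgebra.ι _ _ m) = SymmetricAlgebra.ι _ _ (rF E h m) :=
  symMap_ι _ _ _ m

theorem symRes_algebraMap {U V : X.Opens} (h : V ≤ U) (r : Γ(X, U)) :
    symRes E h (algebraMap _ _ r) = algebraMap _ _ (rX h r) :=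
  symMap_algebraMap _ _ _ r

theorem symRes_id (U : X.Opens) : symRes E (le_refl U) = RingHom.id _ := by
  refine ringHom_ext _ _ (fun r => ?_) (fun m => ?_)
  · rw [symRes_algebraMap]
    have : rX (le_refl U) r = r := by
      show (X.presheaf.map (homOfLE (le_refl U)).op).hom r = r
      have e : (homOfLE (le_refl U)).op = 𝟙 (op U) := Subsingleton.elim _ _
      rw [e, X.presheaf.map_id]; rfl
    rw [this]; rfl
  · rw [symRes_ι]
    have : rF E (le_refl U) m = m := by
      show (E.presheaf.map (homOfLE (le_refl U)).op).hom m = m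
      have e : (homOfLE (le_refl U)).op = 𝟙 (op U) := Subsingleton.elim _ _
      rw [e, E.presheaf.map_id]; rfl
    rw [this]; rfl

theorem symRes_comp {U V W : X.Opens} (h₁ : V ≤ U) (h₂ : W ≤ V) :
    (symRes E h₂).comp (symRes E h₁) = symRes E (h₂.trans h₁) := by
  refine ringHom_ext _ _ (fun r => ?_) (fun m => ?_)
  · rw [RingHom.comp_apply, symRes_algebraMap, symRes_algebraMap, symRes_algebraMap, rX_rX]
  · rw [RingHom.comp_apply, symRes_ι, symRes_ι, symRes_ι, rF_rF]

/-- The presheaf of rings `U ↦ Sym_{O(U)}(E(U))` on all opens (not a sheaf in general). -/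
def symPre : TopCat.Presheaf CommRingCat.{u} X.carrier where
  obj U := CommRingCat.of (SymSec E U.unop)
  map i := CommRingCat.ofHom (symRes E i.unop.le)
  map_id U := by
    have := symRes_id E U.unop
    exact congrArg CommRingCat.ofHom this
  map_comp i j := by
    have := symRes_comp E i.unop.le j.unop.le
    exact (congrArg CommRingCat.ofHom this).symm

/-- The structure map `O_X ⟶ Sym(E)` of presheaves. -/
def symStr : X.presheaf ⟶ symPre E where
  app U := CommRingCat.ofHom (algebraMap Γ(X, U.unop) (SymSec E U.unop))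
  naturality U V i := by
    ext r
    exact (symRes_algebraMap E i.unop.le r).symm

/-- The presheaf of rings `U ↦ Sym_{O(U)}(E(U))` on the affine opens. -/
def symF : X.AffineZariskiSiteᵒᵖ ⥤ CommRingCat.{u} :=
  (Scheme.AffineZariskiSite.toOpensFunctor X).op ⋙ symPre E

/-- The structure map of `symF`. -/
def symα : (Scheme.AffineZariskiSite.toOpensFunctor X).op ⋙ X.presheaf ⟶ symF E :=
  (Scheme.AffineZariskiSite.toOpensFunctor X).op.whiskerLeft (symStr E)

theorem coequifibered [E.IsQuasicoherent] : (symα E).Coequifibered := by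
  refine Scheme.AffineZariskiSite.coequifibered_iff_forall_isLocalizationAway.mpr fun U f => ?_
  exact isLocalization_symMap (QCohCrit.locOnU_of_isQuasicoherent E U.2 f)

end Groth.Agent.SymAlg
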