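import Mathlib
import Groth.Prelude.Def_RelSpec
import Groth.Prelude.Def_Coh
import Groth.Agent.Lib.SymAlg2_helper5
import Groth.Agent.Lib.RelSpecBC_helper5

/-!
# The vector bundle `V(E)` glued from the `Spec Sym(E(U))`, and the algebra `π_* O_{V(E)}`  (helper5)
-/

set_option autoImplicit false
universe u
open AlgebraicGeometry CategoryTheory CategoryTheory.Limits Opposite TopologicalSpace

noncomputable section

namespace Groth.Agent.SymAlg

open QcqsLoc RelSpec

variable {X : Scheme.{u}} (E : X.Modules) [E.IsQuasicoherent]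

/-- The relative gluing datum: the affine schemes `Spec Sym(E(U))` over the affine opens `U`. -/
def glueData : (Scheme.AffineZariskiSite.directedCover X).RelativeGluingData :=
  Scheme.AffineZariskiSite.relativeGluingData (coequifibered E)

instance : ((glueData E).functor ⋙ Scheme.forget).IsLocallyDirected :=
  Scheme.Cover.RelativeGluingData.instIsLocallyDirectedI₀CompFunctorForgetOfIsThin ..

/-- The vector bundle `V(E)`. -/
def VE : Scheme.{u} := (glueData E).glued

/-- The structure morphism `V(E) ⟶ X`. -/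
def πE : VE E ⟶ X := (glueData E).toBase

/-- The chart `Spec Sym(E(U)) ⟶ V(E)`. -/
def chE (U : X.Opens) (hU : IsAffineOpen U) : Spec (CommRingCat.of (SymSec E U)) ⟶ VE E :=
  (glueData E).cover.f ⟨U, hU⟩

variable (U : X.Opens) (hU : IsAffineOpen U)

instance : IsOpenImmersion (chE E U hU) := (glueData E).cover.map_prop _

theorem chE_π : chE E U hU ≫ πE E =
    Spec.map (CommRingCat.ofHom (algebraMap Γ(X, U) (SymSec E U))) ≫ hU.fromSpec :=
  colimit.ι_desc _ _

theorem πE_preimage : πE E ⁻¹ᵁ U = (chE E U hU).opensRange := by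
  simpa using! (glueData E).toBase_preimage_eq_opensRange_ι ⟨U, hU⟩

theorem top_le_preimage :
    (⊤ : (Spec (CommRingCat.of (SymSec E U))).Opens) ≤ chE E U hU ⁻¹ᵁ (πE E ⁻¹ᵁ U) := by
  rw [← Scheme.Hom.comp_preimage, chE_π, Scheme.Hom.comp_preimage, hU.fromSpec_preimage_self]
  exact le_top

instance isAffineHom_πE : IsAffineHom (πE E) where
  isAffine_preimage U hU := by
    rw [πE_preimage E U hU]
    exact isAffineOpen_opensRange (chE E U hU)

theorem chE_res {U V : X.AffineZariskiSite} (i : V ⟶ U) :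
    Spec.map ((symF E).map i.op) ≫ chE E U.1 U.2 = chE E V.1 V.2 :=
  colimit.w (glueData E).functor i

/-- The quasi-coherent algebra `π_* O_{V(E)}`. -/
def symQ : QCAlg X := QCAlg.directImage (πE E)

/-- Over an affine open: `Γ(V(E), π⁻¹U) ≅ Sym(E(U))`. -/
def gamE : Γ(VE E, πE E ⁻¹ᵁ U) ⟶ CommRingCat.of (SymSec E U) :=
  (chE E U hU).appLE (πE E ⁻¹ᵁ U) ⊤ (top_le_preimage E U hU) ≫
    (Scheme.ΓSpecIso (CommRingCat.of (SymSec E U))).hom

instance isIso_gamE : IsIso (gamE E U hU) := by
  have h1 : IsIso ((chE E U hU).app (πE E ⁻¹ᵁ U)) :=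
    Scheme.Hom.isIso_app _ _ (πE_preimage E U hU).le
  have h2 : IsIso ((chE E U hU).appLE (πE E ⁻¹ᵁ U) ⊤ (top_le_preimage E U hU)) :=
    Groth.Agent.RelSpecBC.isIso_appLE_of_eq _ _ _
      (le_antisymm (top_le_preimage E U hU) le_top) h1
  rw [gamE]
  infer_instance

set_option backward.isDefEq.respectTransparency false in
theorem gamE_naturality {U V : X.AffineZariskiSite} (i : V ⟶ U) :
    (VE E).presheaf.map (homOfLE ((πE E).preimage_mono
        (Scheme.AffineZariskiSite.toOpens_mono i.le))).op ≫ gamE E V.1 V.2 =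
      gamE E U.1 U.2 ≫
        CommRingCat.ofHom (symRes E (Scheme.AffineZariskiSite.toOpens_mono i.le)) := by
  have hres := chE_res E i
  simp only [gamE, Category.assoc]
  have hnat := Scheme.ΓSpecIso_naturality
    (CommRingCat.ofHom (symRes E (Scheme.AffineZariskiSite.toOpens_mono i.le)))
  rw [← hnat]
  simp only [← Category.assoc]
  congr 1
  simp only [Scheme.Hom.appTop, Scheme.Hom.appLE, Category.assoc]
  have h1 := (Scheme.Hom.comp_app
    (Spec.map ((symF E).map i.op)) (chE E U.1 U.2) (πE E ⁻¹ᵁ U.1)).symm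
  rw [Scheme.Hom.naturality_assoc, Scheme.Hom.naturality]
  erw [reassoc_of% h1]
  rw [Scheme.Hom.congr_app hres, Category.assoc, ← Functor.map_comp]
  refine congrArg (fun t => (chE E V.1 V.2).app (πE E ⁻¹ᵁ U.1) ≫ t) ?_
  refine Eq.trans ?_ (Functor.map_comp (Spec (CommRingCat.of (SymSec E V.1))).presheaf _ _)
  rfl

set_option backward.isDefEq.respectTransparency false in
theorem π_app_gamE : (πE E).app U ≫ gamE E U hU =
    CommRingCat.ofHom (algebraMap Γ(X, U) (SymSec E U)) := by
  have h1 := Scheme.Hom.congr_app (chE_π E U hU) U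
  have h2 := (Scheme.Hom.comp_app (chE E U hU) (πE E) U).symm
  have hk : ∀ k : (op ⊤ : (Spec (CommRingCat.of (SymSec E U))).Opensᵒᵖ) ⟶ op ⊤,
      (Spec (CommRingCat.of (SymSec E U))).presheaf.map k = 𝟙 _ := fun k => by
    rw [Subsingleton.elim k (𝟙 _)]; exact CategoryTheory.Functor.map_id _ _
  simp only [gamE, Scheme.Hom.appLE, Category.assoc]
  rw [reassoc_of% h2, h1, Scheme.Hom.comp_app, hU.fromSpec_app_self]
  simp only [Category.assoc]
  rw [Scheme.Hom.naturality_assoc]
  simp only [← Functor.map_comp_assoc]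
  erw [hk, Category.id_comp]
  rw [← cancel_epi (Scheme.ΓSpecIso Γ(X, U)).hom, Iso.hom_inv_id_assoc]
  erw [Scheme.ΓSpecIso_naturality]
  rfl

end Groth.Agent.SymAlg
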