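import Mathlib
import Groth.Prelude.Def_RelSpec
import Groth.Prelude.Def_Coh
import Groth.Agent.Lib.SymAlg3_helper5
import Groth.Agent.Lib.QCAlgPO_helper5

/-!
# `Sym(E)` as a quasi-coherent algebra: the comparison `Sym(E(U)) → A(U)` and the module map `j`
(helper5)
-/

set_option autoImplicit false
universe u
open AlgebraicGeometry CategoryTheory CategoryTheory.Limits Opposite TopologicalSpace

noncomputable section

namespace Groth.Agent.SymAlg

open QcqsLoc RelSpec

variable {X : Scheme.{u}} (E : X.Modules)

section compare
variable (A : QCAlg X) (j : E ⟶ A.toModule)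

/-- The comparison `Sym_{O(U)}(E(U)) → A(U)` induced by the structure map and `j`. -/
def symToA (U : X.Opens) : SymSec E U →+* A.presheaf.obj (op U) :=
  letI : Algebra Γ(X, U) (A.presheaf.obj (op U)) := (A.str.app (op U)).hom.toAlgebra
  (SymmetricAlgebra.lift (R := Γ(X, U)) (M := Γ(E, U)) (A := A.presheaf.obj (op U))
    { toFun := fun m => (j.app U m : A.presheaf.obj (op U))
      map_add' := fun x y => map_add (j.app U).hom x y
      map_smul' := fun r m => by
        have := Scheme.Modules.Hom.app_smul j r m
        exact this }).toRingHom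

theorem symToA_ι (U : X.Opens) (m : Γ(E, U)) :
    symToA E A j U (SymmetricAlgebra.ι _ _ m) = (j.app U m : A.presheaf.obj (op U)) := by
  letI : Algebra Γ(X, U) (A.presheaf.obj (op U)) := (A.str.app (op U)).hom.toAlgebra
  exact SymmetricAlgebra.lift_ι_apply _ m

theorem symToA_algebraMap (U : X.Opens) (r : Γ(X, U)) :
    symToA E A j U (algebraMap _ _ r) = (A.str.app (op U)).hom r := by
  letI : Algebra Γ(X, U) (A.presheaf.obj (op U)) := (A.str.app (op U)).hom.toAlgebra
  exact AlgHom.commutes _ r

/-- The comparison maps as a map of presheaves of rings on all opens. -/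
def symToAHom : symPre E ⟶ A.presheaf where
  app U := CommRingCat.ofHom (symToA E A j U.unop)
  naturality U V i := by
    refine CommRingCat.hom_ext (ringHom_ext _ _ (fun r => ?_) (fun m => ?_))
    · show symToA E A j V.unop (symRes E i.unop.le (algebraMap _ _ r)) =
        (A.presheaf.map i).hom (symToA E A j U.unop (algebraMap _ _ r))
      rw [symRes_algebraMap, symToA_algebraMap, symToA_algebraMap]
      have h1 := congr_arg (fun ψ => ψ.hom r) (A.str.naturality i)
      simp only [CommRingCat.hom_comp] at h1
      exact h1
    · show symToA E A j V.unop (symRes E i.unop.le (SymmetricAlgebra.ι _ _ m)) =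
        (A.presheaf.map i).hom (symToA E A j U.unop (SymmetricAlgebra.ι _ _ m))
      rw [symRes_ι, symToA_ι, symToA_ι]
      exact (QCohCrit.app_naturality j i.unop m)

theorem symToAHom_app (U : X.Opens) :
    (symToAHom E A j).app (op U) = CommRingCat.ofHom (symToA E A j U) := rfl

theorem symStr_symToAHom : symStr E ≫ symToAHom E A j = A.str := by
  refine NatTrans.ext (funext fun U => ?_)
  refine CommRingCat.hom_ext (RingHom.ext fun r => ?_)
  exact symToA_algebraMap E A j U.unop r

/-- `(A, j)` is the symmetric algebra of `E` over every affine open. -/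
def IsSymOnAffines : Prop :=
  ∀ (U : X.Opens), IsAffineOpen U → Function.Bijective (symToA E A j U)

end compare

end Groth.Agent.SymAlg
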