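import Mathlib
import Groth.Prelude.Def_RelSpec
import Groth.Prelude.Def_Coh
import Groth.Agent.Lib.SymAlg4_helper5

/-!
# Existence of `Sym(E)` as a quasi-coherent algebra  (helper5)
-/

set_option autoImplicit false
universe u
open AlgebraicGeometry CategoryTheory CategoryTheory.Limits Opposite TopologicalSpace

noncomputable section

namespace Groth.Agent.SymAlg

open QcqsLoc RelSpec

variable {X : Scheme.{u}} (E : X.Modules) [E.IsQuasicoherent]

/-- The inverse of `gamE`. -/
def gamInv (U : X.Opens) (hU : IsAffineOpen U) :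
    CommRingCat.of (SymSec E U) ⟶ Γ(VE E, πE E ⁻¹ᵁ U) := inv (gamE E U hU)

theorem gamE_gamInv (U : X.Opens) (hU : IsAffineOpen U) : gamE E U hU ≫ gamInv E U hU = 𝟙 _ :=
  IsIso.hom_inv_id _

theorem gamInv_gamE (U : X.Opens) (hU : IsAffineOpen U) : gamInv E U hU ≫ gamE E U hU = 𝟙 _ :=
  IsIso.inv_hom_id _

instance (U : X.Opens) (hU : IsAffineOpen U) : IsIso (gamInv E U hU) := by
  unfold gamInv; infer_instance

/-- The inverse identifications over the affine opens, natural on the affine site. -/
def invRestrict : (Scheme.AffineZariskiSite.toOpensFunctor X).op ⋙ symPre E ⟶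
    (Scheme.AffineZariskiSite.toOpensFunctor X).op ⋙ (symQ E).presheaf where
  app U := gamInv E U.unop.1 U.unop.2
  naturality U V i := by
    change CommRingCat.ofHom (symRes E (Scheme.AffineZariskiSite.toOpens_mono i.unop.le)) ≫
        gamInv E V.unop.1 V.unop.2 =
      gamInv E U.unop.1 U.unop.2 ≫ (VE E).presheaf.map (homOfLE ((πE E).preimage_mono
        (Scheme.AffineZariskiSite.toOpens_mono i.unop.le))).op
    rw [← cancel_mono (gamE E V.unop.1 V.unop.2), Category.assoc, gamInv_gamE, Category.comp_id,
      Category.assoc, gamE_naturality E i.unop, ← Category.assoc, gamInv_gamE, Category.id_comp]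

/-- The canonical map of presheaves of rings `Sym(E(U)) → Γ(V(E), π⁻¹U)`. -/
def symInc : symPre E ⟶ (symQ E).presheaf :=
  Functor.IsCoverDense.restrictHomEquivHom (G := Scheme.AffineZariskiSite.toOpensFunctor X)
    (K := Opens.grothendieckTopology X) (ℱ := symPre E)
    (ℱ' := (⟨(symQ E).presheaf, (symQ E).isSheaf⟩ : TopCat.Sheaf CommRingCat.{u} X.carrier))
    (invRestrict E)

theorem symInc_restrict :
    (Scheme.AffineZariskiSite.toOpensFunctor X).op.whiskerLeft (symInc E) = invRestrict E :=
  (Functor.IsCoverDense.restrictHomEquivHom (G := Scheme.AffineZariskiSite.toOpensFunctor X)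
    (K := Opens.grothendieckTopology X) (ℱ := symPre E)
    (ℱ' := (⟨(symQ E).presheaf, (symQ E).isSheaf⟩ :
      TopCat.Sheaf CommRingCat.{u} X.carrier))).symm_apply_apply _

theorem symInc_app (U : X.Opens) (hU : IsAffineOpen U) :
    (symInc E).app (op U) = gamInv E U hU :=
  NatTrans.congr_app (symInc_restrict E) (op ⟨U, hU⟩)

theorem symStr_symInc : symStr E ≫ symInc E = (symQ E).str := by
  refine Groth.Agent.QCAlgPO.hom_ext_affine (symQ E) _ _ (fun U hU => ?_)
  rw [NatTrans.comp_app, symInc_app E U hU]
  show CommRingCat.ofHom (algebraMap Γ(X, U) (SymSec E U)) ≫ gamInv E U hU = (πE E).app U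
  rw [← π_app_gamE E U hU, Category.assoc, gamE_gamInv, Category.comp_id]

theorem symInc_algebraMap (W : X.Opens) (r : Γ(X, W)) :
    ((symInc E).app (op W)).hom (algebraMap Γ(X, W) (SymSec E W) r) =
      ((symQ E).str.app (op W)).hom r := by
  have := congrArg (fun t => (t.app (op W)).hom r) (symStr_symInc E)
  exact this

theorem symInc_ι_smul (W : X.Opens) (r : Γ(X, W)) (m : Γ(E, W)) :
    ((symInc E).app (op W)).hom (SymmetricAlgebra.ι Γ(X, W) Γ(E, W) (r • m)) =
      ((symQ E).str.app (op W)).hom r *
        ((symInc E).app (op W)).hom (SymmetricAlgebra.ι Γ(X, W) Γ(E, W) m) := by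
  rw [LinearMap.map_smul, Algebra.smul_def]
  refine (map_mul ((symInc E).app (op W)).hom (algebraMap Γ(X, W) (SymSec E W) r)
    (SymmetricAlgebra.ι Γ(X, W) Γ(E, W) m)).trans ?_
  congr 1
  exact symInc_algebraMap E W r

/-- The module map `j : E ⟶ Sym(E)`. -/
def symJ : E ⟶ (symQ E).toModule :=
  ⟨PresheafOfModules.homMk (M₁ := E.val) (M₂ := (symQ E).toModule.val)
    { app := fun W => AddCommGrpCat.ofHom
        (((symInc E).app W).hom.toAddMonoidHom.comp
          (SymmetricAlgebra.ι Γ(X, W.unop) Γ(E, W.unop)).toAddMonoidHom)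
      naturality := fun U V i => by
        ext m
        show ((symInc E).app V).hom (SymmetricAlgebra.ι _ _ ((E.presheaf.map i).hom m)) =
          ((symQ E).presheaf.map i).hom (((symInc E).app U).hom (SymmetricAlgebra.ι _ _ m))
        have h1 := congrArg (fun t => t.hom (SymmetricAlgebra.ι _ _ m)) ((symInc E).naturality i)
        simp only [CommRingCat.hom_comp, RingHom.comp_apply] at h1
        rw [← h1]
        congr 1
        exact (symRes_ι E i.unop.le m).symm }
    (fun W r m => symInc_ι_smul E W.unop r m)⟩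

theorem symJ_app (W : X.Opens) (m : Γ(E, W)) :
    ((symJ E).app W m : (symQ E).presheaf.obj (op W)) =
      ((symInc E).app (op W)).hom (SymmetricAlgebra.ι _ _ m) := rfl

theorem symToA_symQ (W : X.Opens) :
    symToA E (symQ E) (symJ E) W = ((symInc E).app (op W)).hom := by
  refine ringHom_ext _ _ (fun r => ?_) (fun m => ?_)
  · exact (symToA_algebraMap E (symQ E) (symJ E) W r).trans (symInc_algebraMap E W r).symm
  · exact (symToA_ι E (symQ E) (symJ E) W m).trans (symJ_app E W m)

theorem isSymOnAffines_symQ : IsSymOnAffines E (symQ E) (symJ E) := by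
  intro U hU
  rw [symToA_symQ, symInc_app E U hU]
  exact ConcreteCategory.bijective_of_isIso (gamInv E U hU)

end Groth.Agent.SymAlg
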