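import Mathlib
import Groth.Prelude.Def_RelSpec
import Groth.Prelude.Def_Coh
import Groth.Agent.Lib.SymAlg5_helper5

/-!
# The universal property of `Sym(E)` from its description over affine opens, and conversely (helper5)
-/

set_option autoImplicit false
universe u
open AlgebraicGeometry CategoryTheory CategoryTheory.Limits Opposite TopologicalSpace

noncomputable section

namespace Groth.Agent.SymAlg

open QcqsLoc RelSpec

variable {X : Scheme.{u}} (E : X.Modules)

section univ
variable (A : QCAlg X) (j : E ⟶ A.toModule) (hA : IsSymOnAffines E A j)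
  (B : QCAlg X) (φ : E ⟶ B.toModule)

include hA in
theorem isIso_symToAHom_app (U : X.Opens) (hU : IsAffineOpen U) :
    IsIso ((symToAHom E A j).app (op U)) :=
  (ConcreteCategory.isIso_iff_bijective _).mpr (hA U hU)

/-- The induced map over an affine open. -/
def liftApp (U : X.Opens) (hU : IsAffineOpen U) :
    A.presheaf.obj (op U) ⟶ B.presheaf.obj (op U) :=
  haveI := isIso_symToAHom_app E A j hA U hU
  inv ((symToAHom E A j).app (op U)) ≫ (symToAHom E B φ).app (op U)

theorem symToAHom_liftApp (U : X.Opens) (hU : IsAffineOpen U) :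
    (symToAHom E A j).app (op U) ≫ liftApp E A j hA B φ U hU = (symToAHom E B φ).app (op U) := by
  haveI := isIso_symToAHom_app E A j hA U hU
  rw [liftApp, IsIso.hom_inv_id_assoc]

theorem liftApp_naturality {U V : X.Opens} (hU : IsAffineOpen U) (hV : IsAffineOpen V)
    (i : op U ⟶ op V) :
    A.presheaf.map i ≫ liftApp E A j hA B φ V hV = liftApp E A j hA B φ U hU ≫ B.presheaf.map i := by
  haveI := isIso_symToAHom_app E A j hA U hU
  rw [← cancel_epi ((symToAHom E A j).app (op U)), ← Category.assoc,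
    ← (symToAHom E A j).naturality i, Category.assoc, symToAHom_liftApp, ← Category.assoc,
    symToAHom_liftApp, (symToAHom E B φ).naturality i]

/-- The induced maps over the affine opens, as a natural transformation. -/
def liftRestrict : (Scheme.AffineZariskiSite.toOpensFunctor X).op ⋙ A.presheaf ⟶
    (Scheme.AffineZariskiSite.toOpensFunctor X).op ⋙ B.presheaf where
  app U := liftApp E A j hA B φ U.unop.1 U.unop.2
  naturality U V i := liftApp_naturality E A j hA B φ U.unop.2 V.unop.2 _

/-- The induced map of presheaves. -/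
def liftHom : A.presheaf ⟶ B.presheaf :=
  Functor.IsCoverDense.restrictHomEquivHom (G := Scheme.AffineZariskiSite.toOpensFunctor X)
    (K := Opens.grothendieckTopology X) (ℱ := A.presheaf)
    (ℱ' := (⟨B.presheaf, B.isSheaf⟩ : TopCat.Sheaf CommRingCat.{u} X.carrier))
    (liftRestrict E A j hA B φ)

theorem liftHom_restrict :
    (Scheme.AffineZariskiSite.toOpensFunctor X).op.whiskerLeft (liftHom E A j hA B φ) =
      liftRestrict E A j hA B φ :=
  (Functor.IsCoverDense.restrictHomEquivHom (G := Scheme.AffineZariskiSite.toOpensFunctor X)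
    (K := Opens.grothendieckTopology X) (ℱ := A.presheaf)
    (ℱ' := (⟨B.presheaf, B.isSheaf⟩ : TopCat.Sheaf CommRingCat.{u} X.carrier))).symm_apply_apply _

theorem liftHom_app (U : X.Opens) (hU : IsAffineOpen U) :
    (liftHom E A j hA B φ).app (op U) = liftApp E A j hA B φ U hU :=
  NatTrans.congr_app (liftHom_restrict E A j hA B φ) (op ⟨U, hU⟩)

theorem symToAHom_liftHom : symToAHom E A j ≫ liftHom E A j hA B φ = symToAHom E B φ := by
  refine Groth.Agent.QCAlgPO.hom_ext_affine B _ _ (fun U hU => ?_)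
  rw [NatTrans.comp_app, liftHom_app E A j hA B φ U hU, symToAHom_liftApp]

/-- The induced homomorphism of quasi-coherent algebras. -/
def lift : A ⟶ B where
  hom := liftHom E A j hA B φ
  comm := by
    rw [← symStr_symToAHom E A j, Category.assoc, symToAHom_liftHom, symStr_symToAHom]

theorem j_lift : j ≫ QCAlg.Hom.toModuleMap (lift E A j hA B φ) = φ := by
  refine Scheme.Modules.hom_ext _ _ (fun U => ?_)
  ext m
  show ((liftHom E A j hA B φ).app (op U)).hom (j.app U m : A.presheaf.obj (op U)) =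
    (φ.app U m : B.presheaf.obj (op U))
  rw [← symToA_ι E A j U m, ← symToA_ι E B φ U m]
  exact congrArg (fun t => (t.app (op U)).hom (SymmetricAlgebra.ι _ _ m))
    (symToAHom_liftHom E A j hA B φ)

theorem symToAHom_of_comp (ψ : A ⟶ B) (hψ : j ≫ QCAlg.Hom.toModuleMap ψ = φ) :
    symToAHom E A j ≫ ψ.hom = symToAHom E B φ := by
  refine NatTrans.ext (funext fun U => ?_)
  refine CommRingCat.hom_ext (ringHom_ext _ _ (fun r => ?_) (fun m => ?_))
  · show (ψ.hom.app U).hom (symToA E A j U.unop (algebraMap _ _ r)) =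
      symToA E B φ U.unop (algebraMap _ _ r)
    rw [symToA_algebraMap, symToA_algebraMap]
    exact congrArg (fun t => (t.app U).hom r) ψ.comm
  · show (ψ.hom.app U).hom (symToA E A j U.unop (SymmetricAlgebra.ι _ _ m)) =
      symToA E B φ U.unop (SymmetricAlgebra.ι _ _ m)
    rw [symToA_ι, symToA_ι]
    have := congrArg (fun t => (Scheme.Modules.Hom.app t U.unop) m) hψ
    exact this

theorem lift_unique (ψ : A ⟶ B) (hψ : j ≫ QCAlg.Hom.toModuleMap ψ = φ) :
    ψ = lift E A j hA B φ := by
  apply QCAlg.hom_ext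
  refine Groth.Agent.QCAlgPO.hom_ext_affine B _ _ (fun U hU => ?_)
  haveI := isIso_symToAHom_app E A j hA U hU
  rw [← cancel_epi ((symToAHom E A j).app (op U))]
  have h1 := congrArg (fun t => t.app (op U)) (symToAHom_of_comp E A j B φ ψ hψ)
  have h2 := congrArg (fun t => t.app (op U)) (symToAHom_liftHom E A j hA B φ)
  exact h1.trans h2.symm

include hA in
/-- **The description over affine opens implies the universal property.** -/
theorem isSymAlg_of_isSymOnAffines : RelSpec.IsSymAlg E A j := fun B φ =>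
  ⟨lift E A j hA B φ, j_lift E A j hA B φ, fun ψ hψ => lift_unique E A j hA B φ ψ hψ⟩

end univ

/-- **Existence of the symmetric algebra of a quasi-coherent module.** -/
theorem exists_symAlg [E.IsQuasicoherent] :
    ∃ (A : QCAlg X) (j : E ⟶ A.toModule), RelSpec.IsSymAlg E A j ∧ IsSymOnAffines E A j :=
  ⟨symQ E, symJ E, isSymAlg_of_isSymOnAffines E _ _ (isSymOnAffines_symQ E), isSymOnAffines_symQ E⟩

/-- **KEY: the universal property implies the description over affine opens.** -/
theorem isSymOnAffines_of_isSymAlg [E.IsQuasicoherent] (A : QCAlg X) (j : E ⟶ A.toModule)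
    (h : RelSpec.IsSymAlg E A j) : IsSymOnAffines E A j := by
  obtain ⟨A₀, j₀, h₀, hloc⟩ := exists_symAlg E
  obtain ⟨ψ, hψ, -⟩ := h₀ A j
  obtain ⟨ψ', hψ', -⟩ := h A₀ j₀
  have e1 : ψ ≫ ψ' = 𝟙 A₀ := by
    obtain ⟨θ, -, hθ⟩ := h₀ A₀ j₀
    have a1 : ψ ≫ ψ' = θ := hθ _ (by
      have : QCAlg.Hom.toModuleMap (ψ ≫ ψ') = QCAlg.Hom.toModuleMap ψ ≫ QCAlg.Hom.toModuleMap ψ' := rfl
      show j₀ ≫ QCAlg.Hom.toModuleMap (ψ ≫ ψ') = j₀
      rw [this, ← Category.assoc, hψ, hψ'])
    have a2 : 𝟙 A₀ = θ := hθ _ (by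
      have : QCAlg.Hom.toModuleMap (𝟙 A₀) = 𝟙 _ := rfl
      show j₀ ≫ QCAlg.Hom.toModuleMap (𝟙 A₀) = j₀
      rw [this, Category.comp_id])
    exact a1.trans a2.symm
  have e2 : ψ' ≫ ψ = 𝟙 A := by
    obtain ⟨θ, -, hθ⟩ := h A j
    have a1 : ψ' ≫ ψ = θ := hθ _ (by
      have : QCAlg.Hom.toModuleMap (ψ' ≫ ψ) = QCAlg.Hom.toModuleMap ψ' ≫ QCAlg.Hom.toModuleMap ψ := rfl
      show j ≫ QCAlg.Hom.toModuleMap (ψ' ≫ ψ) = j
      rw [this, ← Category.assoc, hψ', hψ])
    have a2 : 𝟙 A = θ := hθ _ (by
      have : QCAlg.Hom.toModuleMap (𝟙 A) = 𝟙 _ := rfl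
      show j ≫ QCAlg.Hom.toModuleMap (𝟙 A) = j
      rw [this, Category.comp_id])
    exact a1.trans a2.symm
  intro U hU
  have hcomp := congrArg (fun t => (t.app (op U)).hom) (symToAHom_of_comp E A₀ j₀ A j ψ hψ)
  have hcomp' : (ψ.hom.app (op U)).hom.comp (symToA E A₀ j₀ U) = symToA E A j U := hcomp
  rw [← hcomp']
  have hbij : Function.Bijective (ψ.hom.app (op U)).hom := by
    have i1 := congrArg (fun t => (t.hom.app (op U)).hom) e1
    have i2 := congrArg (fun t => (t.hom.app (op U)).hom) e2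
    have i1' : (ψ'.hom.app (op U)).hom.comp (ψ.hom.app (op U)).hom = RingHom.id _ := i1
    have i2' : (ψ.hom.app (op U)).hom.comp (ψ'.hom.app (op U)).hom = RingHom.id _ := i2
    refine ⟨Function.LeftInverse.injective (g := (ψ'.hom.app (op U)).hom) fun x => ?_,
      Function.RightInverse.surjective (g := (ψ'.hom.app (op U)).hom) fun x => ?_⟩
    · exact congrArg (fun f => f x) i1'
    · exact congrArg (fun f => f x) i2'
  exact hbij.comp (hloc U hU)

end Groth.Agent.SymAlg
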