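import Mathlib

/-!
# Graded rings generated in degree one: the degree-`d` part is spanned by monomials  (helper5)

Abstract setting: a graded ring `A = ⊕ 𝒜 d`, a ring map `ι : R → A` into degree `0`, an additive map
`j : M → A` into degree `1`, such that `A` is generated as a ring by `ι R` and `j M` (given as: a
surjective ring map from `SymmetricAlgebra R M` compatible with `ι`, `j`).
-/

set_option autoImplicit false
universe u v

namespace Groth.Agent.SymGr

variable {R M A : Type*} [CommRing R] [AddCommGroup M] [Module R M] [CommRing A]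
  (ι : R →+* A) (j : M →+ A)

/-- The multiplicative monoid of monomials `ι a * j m₁ ⋯ j m_d`. -/
def MonS : Submonoid A where
  carrier := {y | ∃ (a : R) (l : List M), y = ι a * (l.map j).prod}
  one_mem' := ⟨1, [], by simp⟩
  mul_mem' := by
    rintro _ _ ⟨a, l, rfl⟩ ⟨b, l', rfl⟩
    refine ⟨a * b, l ++ l', ?_⟩
    rw [map_mul, List.map_append, List.prod_append]; ring

/-- The monomials of degree `d`. -/
def Mon (d : ℕ) : Set A := {y | ∃ (a : R) (l : List M), l.length = d ∧ y = ι a * (l.map j).prod}

variable (σ : SymmetricAlgebra R M →+* A)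
  (hσ₀ : ∀ r, σ (algebraMap R _ r) = ι r) (hσ₁ : ∀ m, σ (SymmetricAlgebra.ι R M m) = j m)

include hσ₀ hσ₁ in
theorem range_le_closure (y : SymmetricAlgebra R M) :
    σ y ∈ AddSubgroup.closure ((MonS ι j : Submonoid A) : Set A) := by
  have h1 : σ y ∈ Subring.closure ((MonS ι j : Submonoid A) : Set A) := by
    induction y using SymmetricAlgebra.induction with
    | algebraMap r =>
      rw [hσ₀]
      exact Subring.subset_closure ⟨r, [], by simp⟩
    | ι m =>
      rw [hσ₁]
      exact Subring.subset_closure ⟨1, [m], by simp⟩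
    | mul a b ha hb => rw [map_mul]; exact Subring.mul_mem _ ha hb
    | add a b ha hb => rw [map_add]; exact Subring.add_mem _ ha hb
  rw [Subring.mem_closure_iff, Submonoid.closure_eq] at h1
  exact h1

variable {σ' : Type*} [SetLike σ' A] [AddSubgroupClass σ' A] (𝒜 : ℕ → σ') [GradedRing 𝒜]
  (hι : ∀ a, ι a ∈ 𝒜 0) (hj : ∀ m, j m ∈ 𝒜 1)

include hι hj in
theorem mon_mem_deg (a : R) (l : List M) : ι a * (l.map j).prod ∈ 𝒜 l.length := by
  have h1 : ∀ l : List M, (l.map j).prod ∈ 𝒜 l.length := by
    intro l
    induction l with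
    | nil => simpa using SetLike.GradedOne.one_mem (A := 𝒜)
    | cons m l ih =>
      rw [List.map_cons, List.prod_cons, List.length_cons, add_comm]
      exact SetLike.mul_mem_graded (hj m) ih
  have := SetLike.mul_mem_graded (hι a) (h1 l)
  rwa [zero_add] at this

include hσ₀ hσ₁ hι hj in
/-- **The degree-`d` part is additively spanned by the degree-`d` monomials.** -/
theorem deg_le_closure_mon (hsurj : Function.Surjective σ) (d : ℕ) (x : A) (hx : x ∈ 𝒜 d) :
    x ∈ AddSubgroup.closure (Mon ι j d) := by
  classical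
  obtain ⟨y, rfl⟩ := hsurj x
  have h1 := range_le_closure ι j σ hσ₀ hσ₁ y
  have key : ∀ z ∈ AddSubgroup.closure ((MonS ι j : Submonoid A) : Set A),
      (GradedRing.proj 𝒜 d z) ∈ AddSubgroup.closure (Mon ι j d) := by
    intro z hz
    induction hz using AddSubgroup.closure_induction with
    | mem z hz =>
      obtain ⟨a, l, rfl⟩ := hz
      have hm := mon_mem_deg ι j 𝒜 hι hj a l
      by_cases hd : l.length = d
      · rw [GradedRing.proj_apply, DirectSum.decompose_of_mem_same _ (hd ▸ hm)]
        exact AddSubgroup.subset_closure ⟨a, l, hd, rfl⟩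
      · rw [GradedRing.proj_apply, DirectSum.decompose_of_mem_ne _ hm hd]
        exact zero_mem _
    | zero => rw [map_zero]; exact zero_mem _
    | add a b _ _ ha hb => rw [map_add]; exact add_mem ha hb
    | neg a _ ha => rw [map_neg]; exact neg_mem ha
  have h2 := key _ h1
  rwa [GradedRing.proj_apply, DirectSum.decompose_of_mem_same _ hx] at h2

include hσ₀ hσ₁ hι hj in
/-- A ring map sending `ι R` to degree `0` and `j M` to degree `1` is graded. -/
theorem map_mem_of_gen (hsurj : Function.Surjective σ)
    {A' : Type*} [CommRing A'] {τ : Type*} [SetLike τ A'] [AddSubgroupClass τ A'] (ℬ : ℕ → τ)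
    [GradedRing ℬ] (f : A →+* A') (hf₀ : ∀ a, f (ι a) ∈ ℬ 0) (hf₁ : ∀ m, f (j m) ∈ ℬ 1)
    (d : ℕ) (x : A) (hx : x ∈ 𝒜 d) : f x ∈ ℬ d := by
  have h1 := deg_le_closure_mon ι j σ hσ₀ hσ₁ 𝒜 hι hj hsurj d x hx
  clear hx
  induction h1 using AddSubgroup.closure_induction with
  | mem z hz =>
    obtain ⟨a, l, hl, rfl⟩ := hz
    have h2 : ∀ l : List M, f ((l.map j).prod) ∈ ℬ l.length := by
      intro l
      induction l with
      | nil => simpa using SetLike.GradedOne.one_mem (A := ℬ)
      | cons m l ih =>
        rw [List.map_cons, List.prod_cons, List.length_cons, add_comm, map_mul]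
        exact SetLike.mul_mem_graded (hf₁ m) ih
    rw [map_mul]
    have := SetLike.mul_mem_graded (hf₀ a) (h2 l)
    rwa [zero_add, hl] at this
  | zero => rw [map_zero]; exact zero_mem _
  | add a b _ _ ha hb => rw [map_add]; exact add_mem ha hb
  | neg a _ ha => rw [map_neg]; exact neg_mem ha

include hσ₀ hσ₁ hι hj in
/-- Elements of positive degree lie in the ideal generated by `j M`. -/
theorem mem_span_of_pos (hsurj : Function.Surjective σ) (d : ℕ) (hd : 0 < d) (x : A)
    (hx : x ∈ 𝒜 d) : x ∈ Ideal.span (Set.range j) := by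
  have h1 := deg_le_closure_mon ι j σ hσ₀ hσ₁ 𝒜 hι hj hsurj d x hx
  clear hx
  induction h1 using AddSubgroup.closure_induction with
  | mem z hz =>
    obtain ⟨a, l, hl, rfl⟩ := hz
    cases l with
    | nil => simp at hl; omega
    | cons m l =>
      rw [List.map_cons, List.prod_cons, mul_left_comm]
      exact Ideal.mul_mem_right _ _ (Ideal.subset_span ⟨m, rfl⟩)
  | zero => exact zero_mem _
  | add a b _ _ ha hb => exact add_mem ha hb
  | neg a _ ha => exact neg_mem ha

end Groth.Agent.SymGr
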