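import Mathlib
import Groth.Prelude.Def_RelSpec
import Groth.Prelude.Def_Coh
import Groth.Agent.Lib.SymAlg6_helper5
import Groth.Agent.Lib.RelProj_helper3
import Groth.Agent.Lib.QCohExact_helper9
import Groth.Agent.Lib.QCohFT_helper9

/-!
# Vector bundles `V(E) = Spec(Sym E)`: chartwise criteria, finite type, closed immersions (helper5)
-/

set_option autoImplicit false
universe u
open AlgebraicGeometry CategoryTheory CategoryTheory.Limits Opposite TopologicalSpace

noncomputable section

namespace Groth.Agent.SymAlg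

open QcqsLoc RelSpec

section charts
variable {S : Scheme.{u}}

/-- A target-local property holds for `Spec(A) ⟶ S` if it holds for all `Spec A(U) ⟶ Spec O(U)`. -/
theorem of_chart_π (Q : MorphismProperty Scheme.{u}) [IsZariskiLocalAtTarget Q] (A : QCAlg S)
    (H : ∀ (U : S.Opens) (_ : IsAffineOpen U), Q (Spec.map (A.str.app (op U)))) : Q A.π := by
  refine Groth.Agent.Lib.RelProj_helper3.of_isPullback_cover Q A.π
    (fun U : S.affineOpens => (U : S.Opens)) (iSup_affineOpens_eq_top S)
    (fun U => Spec (A.presheaf.obj (op (U : S.Opens))))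
    (fun U => Spec.map (A.str.app (op (U : S.Opens))) ≫ U.2.isoSpec.inv)
    (fun U => A.ι U.1 U.2) (fun U => ?_) (fun U => ?_)
  · refine IsOpenImmersion.isPullback _ _ _ _ ?_ ?_
    · rw [A.ι_π, Category.assoc, IsAffineOpen.isoSpec_inv_ι]
    · rw [Scheme.Opens.opensRange_ι, A.π_preimage U.1 U.2]
  · rw [Q.cancel_right_of_respectsIso]
    exact H U.1 U.2

theorem iSup_opensRange_ι (A : QCAlg S) :
    (⨆ U : S.affineOpens, (A.ι U.1 U.2).opensRange) = ⊤ := by
  have h1 : ∀ U : S.affineOpens, (A.ι U.1 U.2).opensRange = A.π ⁻¹ᵁ (U : S.Opens) :=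
    fun U => (A.π_preimage U.1 U.2).symm
  simp_rw [h1]
  exact (Groth.Agent.Lib.RelProj_helper3.isOpenCover_preimage A.π)

/-- A target-local property holds for `Spec(ψ)` if it holds for all `Spec(ψ_U)`. -/
theorem of_chart_specMap (Q : MorphismProperty Scheme.{u}) [IsZariskiLocalAtTarget Q]
    {A B : QCAlg S} (ψ : A ⟶ B)
    (H : ∀ (U : S.Opens) (_ : IsAffineOpen U), Q (Spec.map (ψ.hom.app (op U)))) :
    Q (QCAlg.specMap ψ) := by
  refine Groth.Agent.Lib.RelProj_helper3.of_isPullback_cover Q (QCAlg.specMap ψ)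
    (fun U : S.affineOpens => (A.ι U.1 U.2).opensRange) (iSup_opensRange_ι A)
    (fun U => Spec (B.presheaf.obj (op (U : S.Opens))))
    (fun U => Spec.map (ψ.hom.app (op (U : S.Opens))) ≫ (A.ι U.1 U.2).isoOpensRange.hom)
    (fun U => B.ι U.1 U.2) (fun U => ?_) (fun U => ?_)
  · refine IsOpenImmersion.isPullback _ _ _ _ ?_ ?_
    · rw [QCAlg.ι_specMap, Category.assoc, Scheme.Hom.isoOpensRange_hom_ι]
    · rw [Scheme.Opens.opensRange_ι, ← A.π_preimage U.1 U.2, ← Scheme.Hom.comp_preimage,
        QCAlg.specMap_π, B.π_preimage U.1 U.2]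
  · rw [Q.cancel_right_of_respectsIso]
    exact H U.1 U.2

end charts

section ft
variable {R M : Type u} [CommRing R] [AddCommGroup M] [Module R M]

theorem adjoin_ι_eq_top (s : Set M) (hs : Submodule.span R s = ⊤) :
    Algebra.adjoin R (SymmetricAlgebra.ι R M '' s) = ⊤ := by
  refine eq_top_iff.mpr fun x _ => ?_
  clear * - hs
  induction x using SymmetricAlgebra.induction with
  | algebraMap r => exact Subalgebra.algebraMap_mem _ r
  | ι m =>
    have hm : m ∈ Submodule.span R s := hs ▸ Submodule.mem_top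
    refine Submodule.span_induction (p := fun m _ =>
      SymmetricAlgebra.ι R M m ∈ Algebra.adjoin R (SymmetricAlgebra.ι R M '' s)) ?_ ?_ ?_ ?_ hm
    · intro y hy
      exact Algebra.subset_adjoin ⟨y, hy, rfl⟩
    · rw [map_zero]; exact Subalgebra.zero_mem _
    · intro y z _ _ hy hz
      rw [map_add]; exact Subalgebra.add_mem _ hy hz
    · intro a y _ hy
      rw [map_smul]; exact Subalgebra.smul_mem _ hy a
  | mul a b ha hb => exact Subalgebra.mul_mem _ ha hb
  | add a b ha hb => exact Subalgebra.add_mem _ ha hb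

theorem finiteType_symmetricAlgebra [Module.Finite R M] :
    Algebra.FiniteType R (SymmetricAlgebra R M) := by
  classical
  obtain ⟨s, hs⟩ := (Module.Finite.fg_top (R := R) (M := M))
  refine ⟨⟨s.image (SymmetricAlgebra.ι R M), ?_⟩⟩
  rw [Finset.coe_image]
  exact adjoin_ι_eq_top (s : Set M) hs

end ft

section geom
variable {S : Scheme.{u}} (E : S.Modules)

/-- `V(E)` is of finite type over `S` for `E` quasi-coherent of finite type. -/
theorem locallyOfFiniteType_π [E.IsQuasicoherent]
    [SheafOfModules.IsFiniteType (R := S.ringCatSheaf) E] (A : QCAlg S) (j : E ⟶ A.toModule)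
    (hA : RelSpec.IsSymAlg E A j) : LocallyOfFiniteType A.π := by
  have hloc := isSymOnAffines_of_isSymAlg E A j hA
  refine of_chart_π @LocallyOfFiniteType A (fun U hU => ?_)
  rw [HasRingHomProperty.Spec_iff (P := @LocallyOfFiniteType)]
  haveI : Module.Finite Γ(S, U) Γ(E, U) := QCohFT.finite_of_isFiniteType E hU
  have h1 : (A.str.app (op U)).hom = (symToA E A j U).comp (algebraMap Γ(S, U) (SymSec E U)) := by
    ext r
    exact (symToA_algebraMap E A j U r).symm
  rw [h1]
  refine RingHom.FiniteType.comp (RingHom.FiniteType.of_surjective _ (hloc U hU).2) ?_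
  haveI := finiteType_symmetricAlgebra (R := Γ(S, U)) (M := Γ(E, U))
  exact (RingHom.finiteType_algebraMap).mpr inferInstance

/-- A surjection `E → F` induces a closed immersion `V(F) → V(E)`. -/
theorem isClosedImmersion_specMap [E.IsQuasicoherent] (F : S.Modules) [F.IsQuasicoherent]
    (u : E ⟶ F) [Epi u] (A B : QCAlg S) (j : E ⟶ A.toModule) (k : F ⟶ B.toModule)
    (hB : RelSpec.IsSymAlg F B k)
    (ψ : A ⟶ B) (hψ : j ≫ QCAlg.Hom.toModuleMap ψ = u ≫ k) :
    IsClosedImmersion (QCAlg.specMap ψ) := by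
  have hloc := isSymOnAffines_of_isSymAlg F B k hB
  refine of_chart_specMap @IsClosedImmersion ψ (fun U hU => ?_)
  refine IsClosedImmersion.spec_of_surjective _ ?_
  intro b
  obtain ⟨s, rfl⟩ := (hloc U hU).2 b
  induction s using SymmetricAlgebra.induction with
  | algebraMap r =>
    refine ⟨(A.str.app (op U)).hom r, ?_⟩
    rw [symToA_algebraMap]
    exact congrArg (fun t => (t.app (op U)).hom r) ψ.comm
  | ι m =>
    obtain ⟨e, rfl⟩ := QCohExact.app_surjective_of_epi u hU m
    refine ⟨(j.app U e : A.presheaf.obj (op U)), ?_⟩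
    rw [symToA_ι]
    exact congrArg (fun t => (Scheme.Modules.Hom.app t U) e) hψ
  | mul a b ha hb =>
    obtain ⟨a', ha'⟩ := ha
    obtain ⟨b', hb'⟩ := hb
    exact ⟨a' * b', by rw [map_mul, map_mul, ha', hb']⟩
  | add a b ha hb =>
    obtain ⟨a', ha'⟩ := ha
    obtain ⟨b', hb'⟩ := hb
    exact ⟨a' + b', by rw [map_add, map_add, ha', hb']⟩

end geom

end Groth.Agent.SymAlg
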