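import Mathlib
import Groth.Prelude.Def_RelSpec
import Groth.Prelude.Def_Coh
import Groth.Agent.Lib.SymAlg7_helper5
import Groth.Agent.Lib.RelSpecBC_helper5
import Groth.Agent.Lib.CohOpen2_helper8

/-!
# `V(E ⊕ F) = V(E) ×_S V(F)`  (helper5)

* `symLift` : ring homs out of `Sym_R(M)` from a semilinear pair.
* `isPullback_spec_of_isPushout` : `Spec(B ⊗_{O_S} B') = Spec B ×_S Spec B'`, given the pushout property
  over every affine open.
* `isPushout_sym` : `Sym(E ⊕ F)(U) = Sym(E)(U) ⊗_{O(U)} Sym(F)(U)` over affine opens.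
-/

set_option autoImplicit false
universe u

noncomputable section

namespace Groth.Agent.SymSum

open CategoryTheory Limits AlgebraicGeometry TopologicalSpace Opposite RelSpec
open Groth.Agent.SymAlg Groth.Agent.PullbackLocal

section alg
variable {R : Type u} [CommRing R] {M : Type u} [AddCommGroup M] [Module R M]
  {T : Type u} [CommRing T]

/-- Ring homomorphisms out of the symmetric algebra from a semilinear pair. -/
def symLift (θ : R →+* T) (l : M →+ T) (hl : ∀ (r : R) (m : M), l (r • m) = θ r * l m) :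
    SymmetricAlgebra R M →+* T :=
  letI : Algebra R T := θ.toAlgebra
  (SymmetricAlgebra.lift (R := R) (M := M) (A := T)
    { toFun := fun m => l m
      map_add' := fun x y => map_add l x y
      map_smul' := fun r m => hl r m }).toRingHom

theorem symLift_ι (θ : R →+* T) (l : M →+ T) (hl : ∀ (r : R) (m : M), l (r • m) = θ r * l m)
    (m : M) : symLift θ l hl (SymmetricAlgebra.ι R M m) = l m := by
  letI : Algebra R T := θ.toAlgebra
  exact SymmetricAlgebra.lift_ι_apply _ m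

theorem symLift_algebraMap (θ : R →+* T) (l : M →+ T)
    (hl : ∀ (r : R) (m : M), l (r • m) = θ r * l m) (r : R) :
    symLift θ l hl (algebraMap R _ r) = θ r := by
  letI : Algebra R T := θ.toAlgebra
  exact AlgHom.commutes _ r

end alg

variable {S : Scheme.{u}}

theorem specMap_appLE_gammaAff {A B : QCAlg S} (ψ : A ⟶ B) (U : S.Opens) (hU : IsAffineOpen U)
    (e : B.π ⁻¹ᵁ U ≤ (QCAlg.specMap ψ) ⁻¹ᵁ (A.π ⁻¹ᵁ U)) :
    (QCAlg.specMap ψ).appLE (A.π ⁻¹ᵁ U) (B.π ⁻¹ᵁ U) e ≫ B.gammaAff U hU =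
      A.gammaAff U hU ≫ ψ.hom.app (op U) := by
  rw [QCAlg.gammaAff, QCAlg.gammaAff, ← Category.assoc, Scheme.Hom.appLE_comp_appLE,
    appLE_congr (QCAlg.ι_specMap U hU ψ) _ _ _
      (show (⊤ : (Spec (B.presheaf.obj (op U))).Opens) ≤
        (Spec.map (ψ.hom.app (op U)) ≫ A.ι U hU) ⁻¹ᵁ (A.π ⁻¹ᵁ U) from by
          rw [Scheme.Hom.comp_preimage]
          exact le_top.trans (Scheme.Hom.preimage_mono _ (A.top_le_preimage U hU))),
    ← Scheme.Hom.appLE_comp_appLE _ _ _ ⊤ _ (A.top_le_preimage U hU) le_top, Category.assoc,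
    Category.assoc]
  congr 1
  exact Scheme.ΓSpecIso_naturality _

/-- `Spec(B ⊗_{O_S} B') = Spec(B) ×_S Spec(B')`. -/
theorem isPullback_spec_of_isPushout {B B' D : QCAlg S} (b : B ⟶ D) (b' : B' ⟶ D)
    (H : ∀ (U : S.Opens) (_ : IsAffineOpen U),
      IsPushout (B.str.app (op U)) (B'.str.app (op U)) (b.hom.app (op U)) (b'.hom.app (op U))) :
    IsPullback (QCAlg.specMap b) (QCAlg.specMap b') B.π B'.π := by
  have hc : QCAlg.specMap b ≫ B.π = QCAlg.specMap b' ≫ B'.π := by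
    rw [QCAlg.specMap_π, QCAlg.specMap_π]
  refine isPullback_of_local B.π B'.π (QCAlg.specMap b) (QCAlg.specMap b') hc (fun t x htx => ?_)
  obtain ⟨U, hU, hs, -⟩ := Opens.isBasis_iff_nbhd.mp S.isBasis_affineOpens
    (Opens.mem_top (B.π t))
  have e1 : D.π ⁻¹ᵁ U = (QCAlg.specMap b) ⁻¹ᵁ (B.π ⁻¹ᵁ U) := by
    rw [← Scheme.Hom.comp_preimage, QCAlg.specMap_π]
  have e2 : D.π ⁻¹ᵁ U = (QCAlg.specMap b') ⁻¹ᵁ (B'.π ⁻¹ᵁ U) := by
    rw [← Scheme.Hom.comp_preimage, QCAlg.specMap_π]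
  have eU : D.π ⁻¹ᵁ U = (QCAlg.specMap b) ⁻¹ᵁ (B.π ⁻¹ᵁ U) ⊓ (QCAlg.specMap b') ⁻¹ᵁ (B'.π ⁻¹ᵁ U) := by
    rw [← e1, ← e2, inf_idem]
  refine ⟨U, B.π ⁻¹ᵁ U, B'.π ⁻¹ᵁ U, D.π ⁻¹ᵁ U, le_rfl, le_rfl, eU, hs, ?_, hU,
    hU.preimage B.π, hU.preimage B'.π, hU.preimage D.π, ?_⟩
  · show B'.π x ∈ U
    rw [← htx]
    exact hs
  · haveI := RelSpecBC.isIso_gammaAff B U hU
    haveI := RelSpecBC.isIso_gammaAff B' U hU
    haveI := RelSpecBC.isIso_gammaAff D U hU
    have hB := B.π_app_gammaAff U hU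
    have hB' := B'.π_app_gammaAff U hU
    have hd := specMap_appLE_gammaAff b U hU (eU.le.trans inf_le_left)
    have hd' := specMap_appLE_gammaAff b' U hU (eU.le.trans inf_le_right)
    refine IsPushout.of_iso (H U hU) (Iso.refl _) (asIso (B.gammaAff U hU)).symm
      (asIso (B'.gammaAff U hU)).symm (asIso (D.gammaAff U hU)).symm ?_ ?_ ?_ ?_
    · rw [Iso.refl_hom, Category.id_comp, Iso.symm_hom, asIso_inv, IsIso.comp_inv_eq,
        ← Scheme.Hom.app_eq_appLE]
      exact hB.symm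
    · rw [Iso.refl_hom, Category.id_comp, Iso.symm_hom, asIso_inv, IsIso.comp_inv_eq,
        ← Scheme.Hom.app_eq_appLE]
      exact hB'.symm
    · rw [Iso.symm_hom, asIso_inv, Iso.symm_hom, asIso_inv, IsIso.comp_inv_eq, Category.assoc,
        IsIso.eq_inv_comp]
      exact hd.symm
    · rw [Iso.symm_hom, asIso_inv, Iso.symm_hom, asIso_inv, IsIso.comp_inv_eq, Category.assoc,
        IsIso.eq_inv_comp]
      exact hd'.symm

section sum
variable (E F : S.Modules) (AE AF A : QCAlg S) (jE : E ⟶ AE.toModule) (jF : F ⟶ AF.toModule)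
  (j : E ⊞ F ⟶ A.toModule) (ψE : AE ⟶ A) (ψF : AF ⟶ A)
  (hψE : jE ≫ QCAlg.Hom.toModuleMap ψE = biprod.inl ≫ j)
  (hψF : jF ≫ QCAlg.Hom.toModuleMap ψF = biprod.inr ≫ j)

theorem fst_inl (U : S.Opens) (m : Γ(E, U)) :
    (biprod.fst : E ⊞ F ⟶ E).app U ((biprod.inl : E ⟶ E ⊞ F).app U m) = m :=
  congrArg (fun t => (Scheme.Modules.Hom.app t U) m) (biprod.inl_fst : (biprod.inl : E ⟶ E ⊞ F) ≫ _ = _)

theorem snd_inl (U : S.Opens) (m : Γ(E, U)) :
    (biprod.snd : E ⊞ F ⟶ F).app U ((biprod.inl : E ⟶ E ⊞ F).app U m) = 0 :=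
  congrArg (fun t => (Scheme.Modules.Hom.app t U) m) (biprod.inl_snd : (biprod.inl : E ⟶ E ⊞ F) ≫ _ = _)

theorem fst_inr (U : S.Opens) (m : Γ(F, U)) :
    (biprod.fst : E ⊞ F ⟶ E).app U ((biprod.inr : F ⟶ E ⊞ F).app U m) = 0 :=
  congrArg (fun t => (Scheme.Modules.Hom.app t U) m) (biprod.inr_fst : (biprod.inr : F ⟶ E ⊞ F) ≫ _ = _)

theorem snd_inr (U : S.Opens) (m : Γ(F, U)) :
    (biprod.snd : E ⊞ F ⟶ F).app U ((biprod.inr : F ⟶ E ⊞ F).app U m) = m :=
  congrArg (fun t => (Scheme.Modules.Hom.app t U) m) (biprod.inr_snd : (biprod.inr : F ⟶ E ⊞ F) ≫ _ = _)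

theorem total (U : S.Opens) (w : Γ(E ⊞ F, U)) :
    (biprod.inl : E ⟶ E ⊞ F).app U ((biprod.fst : E ⊞ F ⟶ E).app U w) +
      (biprod.inr : F ⟶ E ⊞ F).app U ((biprod.snd : E ⊞ F ⟶ F).app U w) = w :=
  congrArg (fun t => (Scheme.Modules.Hom.app t U) w) (biprod.total : _ = 𝟙 (E ⊞ F))

include hψE in
theorem ψE_jE (U : S.Opens) (m : Γ(E, U)) :
    (ψE.hom.app (op U)).hom (jE.app U m : AE.presheaf.obj (op U)) =
      (j.app U ((biprod.inl : E ⟶ E ⊞ F).app U m) : A.presheaf.obj (op U)) :=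
  congrArg (fun t => (Scheme.Modules.Hom.app t U) m) hψE

include hψF in
theorem ψF_jF (U : S.Opens) (m : Γ(F, U)) :
    (ψF.hom.app (op U)).hom (jF.app U m : AF.presheaf.obj (op U)) =
      (j.app U ((biprod.inr : F ⟶ E ⊞ F).app U m) : A.presheaf.obj (op U)) :=
  congrArg (fun t => (Scheme.Modules.Hom.app t U) m) hψF

/-- `j` on sections, as an additive map into the ring `A(U)`. -/
def jAdd (G : S.Modules) (B : QCAlg S) (k : G ⟶ B.toModule) (U : S.Opens) :
    Γ(G, U) →+ B.presheaf.obj (op U) :=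
  AddMonoidHom.mk' (fun m => (k.app U m : B.presheaf.obj (op U)))
    (fun x y => map_add (k.app U).hom x y)

theorem jAdd_apply (G : S.Modules) (B : QCAlg S) (k : G ⟶ B.toModule) (U : S.Opens) (m : Γ(G, U)) :
    jAdd G B k U m = (k.app U m : B.presheaf.obj (op U)) := rfl

theorem jAdd_smul (G : S.Modules) (B : QCAlg S) (k : G ⟶ B.toModule) (U : S.Opens) (r : Γ(S, U))
    (m : Γ(G, U)) : jAdd G B k U (r • m) = (B.str.app (op U)).hom r * jAdd G B k U m := by
  have := Scheme.Modules.Hom.app_smul k r m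
  exact this

include hψE hψF in
theorem j_eq (U : S.Opens) (w : Γ(E ⊞ F, U)) :
    jAdd (E ⊞ F) A j U w =
      (ψE.hom.app (op U)).hom (jAdd E AE jE U ((biprod.fst : E ⊞ F ⟶ E).app U w)) +
        (ψF.hom.app (op U)).hom (jAdd F AF jF U ((biprod.snd : E ⊞ F ⟶ F).app U w)) := by
  rw [jAdd_apply E, jAdd_apply F, ψE_jE E F AE A jE j ψE hψE, ψF_jF E F AF A jF j ψF hψF]
  have h1 := congrArg (fun x => jAdd (E ⊞ F) A j U x) (total E F U w)
  refine h1.symm.trans ?_
  exact map_add (jAdd (E ⊞ F) A j U) _ _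

include hψE hψF in
/-- `Sym(E ⊕ F)(U) = Sym(E)(U) ⊗_{O(U)} Sym(F)(U)` over every affine open `U`. -/
theorem isPushout_sym (hAE : IsSymOnAffines E AE jE) (hAF : IsSymOnAffines F AF jF)
    (hA : IsSymOnAffines (E ⊞ F) A j) (U : S.Opens) (hU : IsAffineOpen U) :
    IsPushout (AE.str.app (op U)) (AF.str.app (op U)) (ψE.hom.app (op U))
      (ψF.hom.app (op U)) := by
  have hσ := hA U hU
  have hσE := hAE U hU
  have hσF := hAF U hU
  have hcE : ∀ r, (ψE.hom.app (op U)).hom ((AE.str.app (op U)).hom r) =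
      (A.str.app (op U)).hom r := fun r => congrArg (fun t => (t.app (op U)).hom r) ψE.comm
  have hcF : ∀ r, (ψF.hom.app (op U)).hom ((AF.str.app (op U)).hom r) =
      (A.str.app (op U)).hom r := fun r => congrArg (fun t => (t.app (op U)).hom r) ψF.comm
  have hw : AE.str.app (op U) ≫ ψE.hom.app (op U) = AF.str.app (op U) ≫ ψF.hom.app (op U) := by
    rw [← NatTrans.comp_app, ← NatTrans.comp_app, ψE.comm, ψF.comm]
  -- uniqueness
  have huniq : ∀ (C : CommRingCat.{u}) (h₁ h₂ : A.presheaf.obj (op U) ⟶ C),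
      ψE.hom.app (op U) ≫ h₁ = ψE.hom.app (op U) ≫ h₂ →
      ψF.hom.app (op U) ≫ h₁ = ψF.hom.app (op U) ≫ h₂ → h₁ = h₂ := by
    intro C h₁ h₂ e1 e2
    refine CommRingCat.hom_ext ?_
    have h3 : h₁.hom.comp (symToA (E ⊞ F) A j U) = h₂.hom.comp (symToA (E ⊞ F) A j U) := by
      refine ringHom_ext _ _ (fun r => ?_) (fun w => ?_)
      · rw [RingHom.comp_apply, RingHom.comp_apply, symToA_algebraMap, ← hcE r]
        exact congrArg (fun t => t.hom ((AE.str.app (op U)).hom r)) e1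
      · rw [RingHom.comp_apply, RingHom.comp_apply, symToA_ι]
        have h4 := j_eq E F AE AF A jE jF j ψE ψF hψE hψF U w
        rw [jAdd_apply] at h4
        rw [h4, map_add, map_add]
        have e1' : ∀ x, h₁.hom ((ψE.hom.app (op U)).hom x) = h₂.hom ((ψE.hom.app (op U)).hom x) :=
          fun x => congrArg (fun t => t.hom x) e1
        have e2' : ∀ x, h₁.hom ((ψF.hom.app (op U)).hom x) = h₂.hom ((ψF.hom.app (op U)).hom x) :=
          fun x => congrArg (fun t => t.hom x) e2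
        rw [e1', e2']
    exact (RingHom.cancel_right hσ.2).mp h3
  -- existence
  have hex : ∀ (C : CommRingCat.{u}) (f : AE.presheaf.obj (op U) ⟶ C)
      (g : AF.presheaf.obj (op U) ⟶ C), AE.str.app (op U) ≫ f = AF.str.app (op U) ≫ g →
      ∃ h : A.presheaf.obj (op U) ⟶ C, ψE.hom.app (op U) ≫ h = f ∧
        ψF.hom.app (op U) ≫ h = g := by
    intro C f g hfg
    have hfg' : ∀ r, f.hom ((AE.str.app (op U)).hom r) = g.hom ((AF.str.app (op U)).hom r) :=
      fun r => congrArg (fun t => t.hom r) hfg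
    let θ : Γ(S, U) →+* C := f.hom.comp (AE.str.app (op U)).hom
    let l : Γ(E ⊞ F, U) →+ C :=
      (f.hom.toAddMonoidHom.comp (jAdd E AE jE U)).comp
          ((biprod.fst : E ⊞ F ⟶ E).app U).hom +
        (g.hom.toAddMonoidHom.comp (jAdd F AF jF U)).comp
          ((biprod.snd : E ⊞ F ⟶ F).app U).hom
    have hl_apply : ∀ w, l w = f.hom (jAdd E AE jE U ((biprod.fst : E ⊞ F ⟶ E).app U w)) +
        g.hom (jAdd F AF jF U ((biprod.snd : E ⊞ F ⟶ F).app U w)) := fun w => rfl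
    have hl : ∀ (r : Γ(S, U)) (w : Γ(E ⊞ F, U)), l (r • w) = θ r * l w := by
      intro r w
      rw [hl_apply, hl_apply]
      have e1 : (biprod.fst : E ⊞ F ⟶ E).app U (r • w) = r • (biprod.fst : E ⊞ F ⟶ E).app U w :=
        Scheme.Modules.Hom.app_smul _ r w
      have e2 : (biprod.snd : E ⊞ F ⟶ F).app U (r • w) = r • (biprod.snd : E ⊞ F ⟶ F).app U w :=
        Scheme.Modules.Hom.app_smul _ r w
      rw [e1, e2, jAdd_smul, jAdd_smul, map_mul, map_mul, ← hfg' r, mul_add]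
      rfl
    let h' : SymSec (E ⊞ F) U →+* C := symLift θ l hl
    let σ : SymSec (E ⊞ F) U ≃+* A.presheaf.obj (op U) := RingEquiv.ofBijective _ hσ
    have hσ_apply : ∀ x, σ x = symToA (E ⊞ F) A j U x := fun x => rfl
    let h : A.presheaf.obj (op U) →+* C := h'.comp σ.symm.toRingHom
    have hh : ∀ x, h (symToA (E ⊞ F) A j U x) = h' x := by
      intro x
      show h' (σ.symm (symToA (E ⊞ F) A j U x)) = h' x
      rw [← hσ_apply, RingEquiv.symm_apply_apply]
    refine ⟨CommRingCat.ofHom h, CommRingCat.hom_ext ?_, CommRingCat.hom_ext ?_⟩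
    · refine (RingHom.cancel_right hσE.2).mp (ringHom_ext _ _ (fun r => ?_) (fun m => ?_))
      · rw [RingHom.comp_apply, RingHom.comp_apply, symToA_algebraMap]
        show h ((ψE.hom.app (op U)).hom ((AE.str.app (op U)).hom r)) = _
        rw [hcE r, ← symToA_algebraMap (E ⊞ F) A j U r, hh]
        exact symLift_algebraMap θ l hl r
      · rw [RingHom.comp_apply, RingHom.comp_apply, symToA_ι]
        show h ((ψE.hom.app (op U)).hom _) = _
        rw [ψE_jE E F AE A jE j ψE hψE, ← symToA_ι (E ⊞ F) A j U, hh]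
        refine (symLift_ι θ l hl _).trans ?_
        rw [hl_apply, fst_inl, snd_inl, map_zero, map_zero, add_zero]
        rfl
    · refine (RingHom.cancel_right hσF.2).mp (ringHom_ext _ _ (fun r => ?_) (fun m => ?_))
      · rw [RingHom.comp_apply, RingHom.comp_apply, symToA_algebraMap]
        show h ((ψF.hom.app (op U)).hom ((AF.str.app (op U)).hom r)) = _
        rw [hcF r, ← symToA_algebraMap (E ⊞ F) A j U r, hh]
        refine (symLift_algebraMap θ l hl r).trans ?_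
        exact hfg' r
      · rw [RingHom.comp_apply, RingHom.comp_apply, symToA_ι]
        show h ((ψF.hom.app (op U)).hom _) = _
        rw [ψF_jF E F AF A jF j ψF hψF, ← symToA_ι (E ⊞ F) A j U, hh]
        refine (symLift_ι θ l hl _).trans ?_
        rw [hl_apply, fst_inr, snd_inr, map_zero, map_zero, zero_add]
        rfl
  refine ⟨⟨hw⟩, ⟨PushoutCocone.IsColimit.mk hw
    (fun s => (hex s.pt s.inl s.inr s.condition).choose)
    (fun s => (hex s.pt s.inl s.inr s.condition).choose_spec.1)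
    (fun s => (hex s.pt s.inl s.inr s.condition).choose_spec.2)
    (fun s m h1 h2 => huniq _ _ _
      (h1.trans (hex s.pt s.inl s.inr s.condition).choose_spec.1.symm)
      (h2.trans (hex s.pt s.inl s.inr s.condition).choose_spec.2.symm))⟩⟩

include hψE hψF in
/-- `V(E ⊕ F) = V(E) ×_S V(F)`. -/
theorem isPullback_vb [E.IsQuasicoherent] [F.IsQuasicoherent]
    (hAE : RelSpec.IsSymAlg E AE jE) (hAF : RelSpec.IsSymAlg F AF jF)
    (hA : RelSpec.IsSymAlg (E ⊞ F) A j) :
    IsPullback (QCAlg.specMap ψE) (QCAlg.specMap ψF) AE.π AF.π := by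
  haveI : (E ⊞ F).IsQuasicoherent := CohOpenH8.isQuasicoherent_biprod E F
  exact isPullback_spec_of_isPushout ψE ψF
    (isPushout_sym E F AE AF A jE jF j ψE ψF hψE hψF
      (isSymOnAffines_of_isSymAlg E AE jE hAE) (isSymOnAffines_of_isSymAlg F AF jF hAF)
      (isSymOnAffines_of_isSymAlg (E ⊞ F) A j hA))

end sum

end Groth.Agent.SymSum
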