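import Mathlib
import Groth.Prelude.Def_RelProj2
import Groth.Agent.Lib.SymGr1_helper5
import Groth.Agent.Lib.SymAlg6_helper5
import Groth.Agent.Lib.SymSum1_helper5

/-!
# The graded symmetric algebra of a quasi-coherent module over affine opens  (helper5)
-/

set_option autoImplicit false
universe u
open AlgebraicGeometry CategoryTheory CategoryTheory.Limits Opposite TopologicalSpace
open scoped HomogeneousIdeal

noncomputable section

namespace Groth.Agent.SymGr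

open Groth.Agent.SymAlg Groth.Agent.SymSum RelSpec

variable {Y : Scheme.{u}} (E : Y.Modules) [E.IsQuasicoherent] (𝒮 : RelProj.QCGrAlg Y)
  (j : E ⟶ 𝒮.toModule) (hj : RelProj.IsGrSymAlg E 𝒮 j)

include hj in
theorem symToA_bijective (U : Y.Opens) (hU : IsAffineOpen U) :
    Function.Bijective (symToA E 𝒮.toQCAlg j U) :=
  isSymOnAffines_of_isSymAlg E 𝒮.toQCAlg j hj.1 U hU

include hj in
/-- A ring map out of `𝒮(U)` sending the functions to degree `0` and `j(E(U))` to degree `1` is graded. -/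
theorem map_mem_of_gen_sch (U : Y.Opens) (hU : IsAffineOpen U)
    {A' : Type*} [CommRing A'] {τ : Type*} [SetLike τ A'] [AddSubgroupClass τ A'] (ℬ : ℕ → τ)
    [GradedRing ℬ] (f : 𝒮.presheaf.obj (op U) →+* A')
    (hf₀ : ∀ a, f ((𝒮.str.app (op U)).hom a) ∈ ℬ 0)
    (hf₁ : ∀ m : Γ(E, U), f (jAdd E 𝒮.toQCAlg j U m) ∈ ℬ 1)
    (d : ℕ) (x : 𝒮.presheaf.obj (op U)) (hx : x ∈ 𝒮.deg U hU d) : f x ∈ ℬ d :=
  Groth.Agent.SymGr.map_mem_of_gen (𝒮.str.app (op U)).hom (jAdd E 𝒮.toQCAlg j U)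
    (symToA E 𝒮.toQCAlg j U) (symToA_algebraMap E 𝒮.toQCAlg j U) (symToA_ι E 𝒮.toQCAlg j U)
    (𝒮.deg U hU) (fun a => 𝒮.str_mem U hU a) (fun m => hj.2 U hU m)
    (symToA_bijective E 𝒮 j hj U hU).2 ℬ f hf₀ hf₁ d x hx

include hj in
/-- The irrelevant ideal of `𝒮(U)` is generated by `j(E(U))`. -/
theorem irrelevant_le_span (U : Y.Opens) (hU : IsAffineOpen U) :
    ((𝒮.deg U hU)₊).toIdeal ≤ Ideal.span (Set.range (jAdd E 𝒮.toQCAlg j U)) := by
  rw [HomogeneousIdeal.toIdeal_irrelevant_le]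
  intro d hd x hx
  exact Groth.Agent.SymGr.mem_span_of_pos (𝒮.str.app (op U)).hom (jAdd E 𝒮.toQCAlg j U)
    (symToA E 𝒮.toQCAlg j U) (symToA_algebraMap E 𝒮.toQCAlg j U) (symToA_ι E 𝒮.toQCAlg j U)
    (𝒮.deg U hU) (fun a => 𝒮.str_mem U hU a) (fun m => hj.2 U hU m)
    (symToA_bijective E 𝒮 j hj U hU).2 d hd x hx

include hj in
/-- A ring map into `𝒮(U)` hitting the functions and `j(E(U))` is surjective. -/
theorem surjective_of_gen (U : Y.Opens) (hU : IsAffineOpen U)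
    {A' : Type*} [CommRing A'] (f : A' →+* 𝒮.presheaf.obj (op U))
    (hf₀ : ∀ a, ∃ y, f y = (𝒮.str.app (op U)).hom a)
    (hf₁ : ∀ m : Γ(E, U), ∃ y, f y = jAdd E 𝒮.toQCAlg j U m) : Function.Surjective f := by
  intro x
  obtain ⟨y, rfl⟩ := (symToA_bijective E 𝒮 j hj U hU).2 x
  show symToA E 𝒮.toQCAlg j U y ∈ f.range
  induction y using SymmetricAlgebra.induction with
  | algebraMap r => rw [symToA_algebraMap]; exact hf₀ r
  | ι m => rw [symToA_ι]; exact hf₁ m
  | mul a b ha hb => rw [map_mul]; exact Subring.mul_mem _ ha hb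
  | add a b ha hb => rw [map_add]; exact Subring.add_mem _ ha hb

end Groth.Agent.SymGr
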