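import Mathlib
import Groth.Prelude
import Groth.Agent.Lib.GrTwRel_helper5
import Groth.Agent.Lib.GrTwVal_helper5
import Groth.Agent.Lib.GrTwPull_helper5
import Groth.Agent.Lib.SymGr2_helper5
import Groth.Agent.Lib.RelProjTN4_helper5
import Groth.Agent.Lib.Tens29_helper8

/-!
# `p^*E ⟶ O_{P(E)}(1)` is an epimorphism  (helper5)
-/

set_option autoImplicit false
universe u
open CategoryTheory CategoryTheory.Limits AlgebraicGeometry TopologicalSpace Opposite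
open scoped HomogeneousIdeal

noncomputable section

namespace Groth.Agent.PBEpi

open QcqsLoc QCohExtn Groth.Agent.GrTw Groth.Agent.RelProjTN Groth.Agent.SymSum Groth.Agent.SymGr

variable {Y P : Scheme.{u}} (𝒮 : RelProj.QCGrAlg Y) (p : P ⟶ Y)
  (chart : ∀ (U : Y.Opens) (hU : IsAffineOpen U),
    (((p ⁻¹ᵁ U : P.Opens) : Scheme.{u}) ≅ Proj (𝒮.deg U hU)))

/-- A section of `O(1)` whose values are `f/1` on an open inside `D_+(f)`, `f` of degree one, is a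
generator there. -/
theorem isGen_of_val (n : ℤ) (hn : n = (1 : ℤ) * ((1 : ℕ) : ℤ)) (L : P.Modules)
    (lam : ∀ (U : Y.Opens) (hU : IsAffineOpen U),
      L ⟶ (Scheme.Modules.pushforward (RelProj.emb p chart U hU)).obj
        (GrTwist.twist (𝒮.deg U hU) n))
    (hL : RelProj.IsRelTwist 𝒮 p chart n L lam) (V : Y.Opens) (hV : IsAffineOpen V)
    {f : 𝒮.presheaf.obj (op V)} (hf : f ∈ 𝒮.deg V hV 1) (W : P.Opens)
    (hWr : W ≤ (RelProj.emb p chart V hV).opensRange)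
    (hWf : (RelProj.emb p chart V hV) ⁻¹ᵁ W ≤ Proj.basicOpen (𝒮.deg V hV) f) (ε : Γ(L, W))
    (hval : ∀ y : ↥((RelProj.emb p chart V hV) ⁻¹ᵁ W),
      GrTwist.val (V := (RelProj.emb p chart V hV) ⁻¹ᵁ W) ((lam V hV).app W ε) y =
        algebraMap (𝒮.presheaf.obj (op V)) (GrTwist.Loc (𝒮.deg V hV) y.1) f) :
    GenLocH8.IsGen L W ε := by
  subst hn
  have hWU : W ≤ p ⁻¹ᵁ V := hWr.trans (Groth.Agent.GrTw.opensRange_emb 𝒮 p chart V hV).le
  have hbij : ∀ O : P.Opens, O ≤ W → Function.Bijective (QCohExtn.ap (lam V hV) O) :=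
    fun O hO => hL.bijective V hV O (hO.trans hWU)
  have he' := (isGen_genSec (𝒮.deg V hV) hf 1).res hWf
  refine isGen_of_pushforward_bij (RelProj.emb p chart V hV) _ L (lam V hV) W hWr hbij ε ?_
  have h1 : QCohExtn.ap (lam V hV) W ε =
      QcqsLoc.rF (GrTwist.twist (𝒮.deg V hV) ((1 : ℤ) * ((1 : ℕ) : ℤ))) hWf
        (genSec (𝒮.deg V hV) hf 1) := by
    apply ext_val
    intro y
    rw [val_rF]
    refine (hval y).trans ?_
    rw [val_genSec]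
    show Localization.mk f 1 = _
    rw [Localization.mk_eq_mk_iff, Localization.r_iff_exists]
    refine ⟨1, ?_⟩
    simp
  rw [h1]
  exact he'

variable (E : Y.Modules) [E.IsQuasicoherent] (j : E ⟶ 𝒮.toModule) (hj : RelProj.IsGrSymAlg E 𝒮 j)

include hj in
/-- **`p^*E ⟶ O_P(1)` is an epimorphism.** -/
theorem epi_adj (n : ℤ) (hn : n = (1 : ℤ) * ((1 : ℕ) : ℤ)) (O1 : P.Modules)
    (lam : ∀ (U : Y.Opens) (hU : IsAffineOpen U),
      O1 ⟶ (Scheme.Modules.pushforward (RelProj.emb p chart U hU)).obj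
        (GrTwist.twist (𝒮.deg U hU) n))
    (hO1 : RelProj.IsRelTwist 𝒮 p chart n O1 lam)
    (φ : E ⟶ (Scheme.Modules.pushforward p).obj O1)
    (hφ : ∀ (U : Y.Opens) (hU : IsAffineOpen U) (e : Γ(E, U))
      (y : ↥(RelProj.emb p chart U hU ⁻¹ᵁ (p ⁻¹ᵁ U))),
      GrTwist.val (V := RelProj.emb p chart U hU ⁻¹ᵁ (p ⁻¹ᵁ U))
          ((lam U hU).app (p ⁻¹ᵁ U) ((φ.app U) e)) y =
        algebraMap (𝒮.presheaf.obj (op U)) (GrTwist.Loc (𝒮.deg U hU) y.1)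
          ((j.app U) e : 𝒮.presheaf.obj (op U))) :
    Epi (((Scheme.Modules.pullbackPushforwardAdjunction p).homEquiv E O1).symm φ) := by
  apply TensH8.epi_of_locally_surjective
  intro U m x hx
  obtain ⟨V, hV, hxV, -⟩ := Opens.isBasis_iff_nbhd.mp Y.isBasis_affineOpens
    (Opens.mem_top (p.base x))
  have hx' : x ∈ p ⁻¹ᵁ V := hxV
  obtain ⟨e, he⟩ : ∃ e : Γ(E, V), jAdd E 𝒮.toQCAlg j V e ∉
      (zpt p chart V hV x hx').asHomogeneousIdeal := by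
    by_contra hcon
    push Not at hcon
    apply (zpt p chart V hV x hx').not_irrelevant_le
    show ((𝒮.deg V hV)₊).toIdeal ≤ _
    refine (irrelevant_le_span E 𝒮 j hj V hV).trans ?_
    rw [Ideal.span_le]
    rintro _ ⟨e, rfl⟩
    exact hcon e
  have hf : jAdd E 𝒮.toQCAlg j V e ∈ 𝒮.deg V hV 1 := hj.2 V hV e
  let W : P.Opens := (RelProj.emb p chart V hV) ''ᵁ
    (Proj.basicOpen (𝒮.deg V hV) (jAdd E 𝒮.toQCAlg j V e))
  have hxW : x ∈ W := ⟨zpt p chart V hV x hx', (Proj.mem_basicOpen _ _ _).mpr he,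
    emb_zpt V hV x hx'⟩
  have hWr : W ≤ (RelProj.emb p chart V hV).opensRange := Scheme.Hom.image_le_opensRange _ _
  have hWf : (RelProj.emb p chart V hV) ⁻¹ᵁ W ≤
      Proj.basicOpen (𝒮.deg V hV) (jAdd E 𝒮.toQCAlg j V e) := by
    rw [Scheme.Hom.preimage_image_eq]
  have hWV : W ≤ p ⁻¹ᵁ V := hWr.trans (Groth.Agent.GrTw.opensRange_emb 𝒮 p chart V hV).le
  let ε₀ : Γ(O1, p ⁻¹ᵁ V) := QCohExtn.ap φ V e
  have hgen : GenLocH8.IsGen O1 W (rF O1 hWV ε₀) := by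
    refine isGen_of_val 𝒮 p chart n hn O1 lam hO1 V hV hf W hWr hWf _ (fun y => ?_)
    have h1 : (lam V hV).app W (rF O1 hWV ε₀) =
        rF ((Scheme.Modules.pushforward (RelProj.emb p chart V hV)).obj
          (GrTwist.twist (𝒮.deg V hV) n)) hWV ((lam V hV).app (p ⁻¹ᵁ V) ε₀) :=
      QCohExtn.ap_rF (lam V hV) hWV ε₀
    rw [h1]
    exact hφ V hV e ⟨y.1, hWV y.2⟩
  obtain ⟨c, hc⟩ := (hgen (U ⊓ W) inf_le_right).1 (rF O1 inf_le_left m)
  have hle : U ⊓ W ≤ p ⁻¹ᵁ V := inf_le_right.trans hWV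
  refine ⟨U ⊓ W, inf_le_left, ⟨hx, hxW⟩,
    c • rF ((Scheme.Modules.pullback p).obj E) hle (PBH8.cUV p E le_rfl e), ?_⟩
  rw [QCohExtn.ap_smul, QCohExtn.ap_rF, adj_symm_cUV, hc, rF_rF]

end Groth.Agent.PBEpi
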