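import Mathlib
import Groth.Prelude
import Groth.Agent.Lib.PBEpi1_helper5
import Groth.Agent.Lib.RefHull15_helper8
import Groth.Agent.Lib.Tens17_helper8
import Groth.Agent.Lib.Tens5_helper8

/-!
# Very ample ⟹ `q^* q_* L ⟶ L` is an epimorphism  (helper5)
APPEND-ONLY once landed.
-/

set_option autoImplicit false
universe u
open CategoryTheory CategoryTheory.Limits AlgebraicGeometry TopologicalSpace Opposite
open scoped HomogeneousIdeal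

noncomputable section

namespace Groth.Agent.VAmpEpi

open QcqsLoc QCohExtn Groth.Agent.GrTw Groth.Agent.RelProjTN Groth.Agent.SymSum Groth.Agent.SymGr

section Ring
variable {A σ : Type u} [CommRing A] [SetLike σ A] [AddSubgroupClass σ A] (𝒜 : ℕ → σ) [GradedRing 𝒜]

/-- The global section of `O(n)`, `n = 1`, with values `f/1`. -/
theorem exists_global (n : ℤ) (hn : n = ((1 : ℕ) : ℤ)) {f : A} (hf : f ∈ 𝒜 1) :
    ∃ t : Γ(GrTwist.twist 𝒜 n, ⊤), ∀ y : (⊤ : (Proj 𝒜).Opens),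
      GrTwist.val (V := ⊤) t y = algebraMap A (GrTwist.Loc 𝒜 y.1) f := by
  subst hn
  refine ⟨GrTwist.globalOf 𝒜 ⟨f, hf⟩, fun y => ?_⟩
  show Localization.mk f 1 = _
  exact Localization.mk_one_eq_algebraMap f

end Ring

variable {Y P : Scheme.{u}} (𝒮 : RelProj.QCGrAlg Y) (p : P ⟶ Y)
  (chart : ∀ (U : Y.Opens) (hU : IsAffineOpen U),
    (((p ⁻¹ᵁ U : P.Opens) : Scheme.{u}) ≅ Proj (𝒮.deg U hU)))
variable (E : Y.Modules) [E.IsQuasicoherent] (j : E ⟶ 𝒮.toModule) (hj : RelProj.IsGrSymAlg E 𝒮 j)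

include hj in
/-- Around every point of `P(E)` over an affine `V`, a section of `O(1)` over all of `p⁻¹ V`
generates `O(1)` on an affine neighbourhood. -/
theorem exists_gen (n : ℤ) (hn : n = (1 : ℤ) * ((1 : ℕ) : ℤ)) (O1 : P.Modules)
    (lam : ∀ (U : Y.Opens) (hU : IsAffineOpen U),
      O1 ⟶ (Scheme.Modules.pushforward (RelProj.emb p chart U hU)).obj
        (GrTwist.twist (𝒮.deg U hU) n))
    (hO1 : RelProj.IsRelTwist 𝒮 p chart n O1 lam) (V : Y.Opens) (hV : IsAffineOpen V)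
    (x : P) (hx' : x ∈ p ⁻¹ᵁ V) :
    ∃ (ε₀ : Γ(O1, p ⁻¹ᵁ V)) (W : P.Opens) (hW : W ≤ p ⁻¹ᵁ V), IsAffineOpen W ∧ x ∈ W ∧
      GenLocH8.IsGen O1 W (rF O1 hW ε₀) := by
  obtain ⟨e, he⟩ : ∃ e : Γ(E, V), jAdd E 𝒮.toQCAlg j V e ∉
      (zpt p chart V hV x hx').asHomogeneousIdeal := by
    by_contra hcon
    push Not at hcon
    apply (zpt p chart V hV x hx').not_irrelevant_le
    show ((𝒮.deg V hV)₊).toIdeal ≤ _
    refine (irrelevant_le_span E 𝒮 j hj V hV).trans ?_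
    rw [Ideal.span_le]
    rintro _ ⟨e, rfl⟩
    exact hcon e
  have hf : jAdd E 𝒮.toQCAlg j V e ∈ 𝒮.deg V hV 1 := hj.2 V hV e
  let W : P.Opens := (RelProj.emb p chart V hV) ''ᵁ
    (Proj.basicOpen (𝒮.deg V hV) (jAdd E 𝒮.toQCAlg j V e))
  have hxW : x ∈ W := ⟨zpt p chart V hV x hx', (Proj.mem_basicOpen _ _ _).mpr he,
    emb_zpt V hV x hx'⟩
  have hWr : W ≤ (RelProj.emb p chart V hV).opensRange := Scheme.Hom.image_le_opensRange _ _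
  have hWf : (RelProj.emb p chart V hV) ⁻¹ᵁ W ≤
      Proj.basicOpen (𝒮.deg V hV) (jAdd E 𝒮.toQCAlg j V e) := by
    rw [Scheme.Hom.preimage_image_eq]
  have hWV : W ≤ p ⁻¹ᵁ V := hWr.trans (Groth.Agent.GrTw.opensRange_emb 𝒮 p chart V hV).le
  have hWaff : IsAffineOpen W :=
    (Proj.isAffineOpen_basicOpen _ _ hf one_pos).image_of_isOpenImmersion _
  obtain ⟨t, ht⟩ := exists_global (𝒮.deg V hV) n (by rw [hn]; norm_num) hf
  obtain ⟨ε₀, hε₀⟩ := (hO1.bijective V hV (p ⁻¹ᵁ V) le_rfl).2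
    (rF (GrTwist.twist (𝒮.deg V hV) n)
      (le_top : (RelProj.emb p chart V hV) ⁻¹ᵁ (p ⁻¹ᵁ V) ≤ ⊤) t)
  refine ⟨ε₀, W, hWV, hWaff, hxW, ?_⟩
  refine Groth.Agent.PBEpi.isGen_of_val 𝒮 p chart n hn O1 lam hO1 V hV hf W hWr hWf _ (fun y => ?_)
  have h1 : (lam V hV).app W (rF O1 hWV ε₀) =
      rF ((Scheme.Modules.pushforward (RelProj.emb p chart V hV)).obj
        (GrTwist.twist (𝒮.deg V hV) n)) hWV ((lam V hV).app (p ⁻¹ᵁ V) ε₀) :=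
    QCohExtn.ap_rF (lam V hV) hWV ε₀
  rw [h1]
  have h2 : (lam V hV).app (p ⁻¹ᵁ V) ε₀ = rF (GrTwist.twist (𝒮.deg V hV) n)
      (le_top : (RelProj.emb p chart V hV) ⁻¹ᵁ (p ⁻¹ᵁ V) ≤ ⊤) t := hε₀
  rw [h2]
  exact ht ⟨y.1, trivial⟩

include hj in
/-- `O_{P(E)}(1)` is invertible. -/
theorem isInvertible_O1 (n : ℤ) (hn : n = (1 : ℤ) * ((1 : ℕ) : ℤ)) (O1 : P.Modules)
    (lam : ∀ (U : Y.Opens) (hU : IsAffineOpen U),
      O1 ⟶ (Scheme.Modules.pushforward (RelProj.emb p chart U hU)).obj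
        (GrTwist.twist (𝒮.deg U hU) n))
    (hO1 : RelProj.IsRelTwist 𝒮 p chart n O1 lam) : PicF.IsInvertible O1 := by
  apply TensH8.isInvertible_of_gens
  intro x
  obtain ⟨V, hV, hxV, -⟩ := Opens.isBasis_iff_nbhd.mp Y.isBasis_affineOpens
    (Opens.mem_top (p.base x))
  obtain ⟨ε₀, W, hW, hWaff, hxW, hgen⟩ :=
    exists_gen 𝒮 p chart E j hj n hn O1 lam hO1 V hV x hxV
  exact ⟨W, hWaff, hxW, _, hgen⟩

include hj in
/-- **The counit `q^* q_* L ⟶ L` is an epimorphism** when `L ≅ i^* O_{P(E)}(1)`, `q = i ≫ p`. -/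
theorem epi_counit (n : ℤ) (hn : n = (1 : ℤ) * ((1 : ℕ) : ℤ)) (O1 : P.Modules)
    (lam : ∀ (U : Y.Opens) (hU : IsAffineOpen U),
      O1 ⟶ (Scheme.Modules.pushforward (RelProj.emb p chart U hU)).obj
        (GrTwist.twist (𝒮.deg U hU) n))
    (hO1 : RelProj.IsRelTwist 𝒮 p chart n O1 lam) {X : Scheme.{u}} (q : X ⟶ Y) (i : X ⟶ P)
    (hip : i ≫ p = q) (L : X.Modules) (α : L ≅ (Scheme.Modules.pullback i).obj O1) :
    Epi ((Scheme.Modules.pullbackPushforwardAdjunction q).counit.app L) := by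
  subst hip
  have hinv : PicF.IsInvertible O1 := isInvertible_O1 𝒮 p chart E j hj n hn O1 lam hO1
  have hcounit : (Scheme.Modules.pullbackPushforwardAdjunction (i ≫ p)).counit.app L =
      ((Scheme.Modules.pullbackPushforwardAdjunction (i ≫ p)).homEquiv
        ((Scheme.Modules.pushforward (i ≫ p)).obj L) L).symm (𝟙 _) := by
    rw [Adjunction.homEquiv_counit]
    simp
  rw [hcounit]
  suffices hsuff : Epi (((Scheme.Modules.pullbackPushforwardAdjunction (i ≫ p)).homEquiv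
        ((Scheme.Modules.pushforward (i ≫ p)).obj L) L).symm (𝟙 _)) from hsuff
  apply TensH8.epi_of_locally_surjective
  intro U m x hx
  obtain ⟨V, hV, hxV, -⟩ := Opens.isBasis_iff_nbhd.mp Y.isBasis_affineOpens
    (Opens.mem_top ((i ≫ p).base x))
  have hx' : i.base x ∈ p ⁻¹ᵁ V := hxV
  obtain ⟨ε₀, W, hW, hWaff, hxW, hgen⟩ :=
    exists_gen 𝒮 p chart E j hj n hn O1 lam hO1 V hV (i.base x) hx'
  have hg1 := TensH8.isGen_cUV i hinv hWaff hgen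
  have hWi : i ⁻¹ᵁ W ≤ i ⁻¹ᵁ (p ⁻¹ᵁ V) := fun _ hz => hW hz
  have h2 : PBH8.cUV i O1 (le_rfl : i ⁻¹ᵁ W ≤ i ⁻¹ᵁ W) (rF O1 hW ε₀) =
      rF ((Scheme.Modules.pullback i).obj O1) hWi
        (PBH8.cUV i O1 (le_rfl : i ⁻¹ᵁ (p ⁻¹ᵁ V) ≤ i ⁻¹ᵁ (p ⁻¹ᵁ V)) ε₀) := by
    rw [TensH8.cUV_resV, TensH8.rF_cUV]
  rw [h2] at hg1
  -- the section of `L` over `q⁻¹ V`
  let s : Γ(L, i ⁻¹ᵁ (p ⁻¹ᵁ V)) := QCohExtn.ap α.inv (i ⁻¹ᵁ (p ⁻¹ᵁ V))
    (PBH8.cUV i O1 (le_rfl : i ⁻¹ᵁ (p ⁻¹ᵁ V) ≤ i ⁻¹ᵁ (p ⁻¹ᵁ V)) ε₀)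
  have hgL : GenLocH8.IsGen L (i ⁻¹ᵁ W) (rF L hWi s) := by
    have h3 := RefHullH8.isGen_of_iso α.symm hg1
    have h4 : QCohExtn.ap α.symm.hom (i ⁻¹ᵁ W)
        (rF ((Scheme.Modules.pullback i).obj O1) hWi
          (PBH8.cUV i O1 (le_rfl : i ⁻¹ᵁ (p ⁻¹ᵁ V) ≤ i ⁻¹ᵁ (p ⁻¹ᵁ V)) ε₀)) = rF L hWi s :=
      QCohExtn.ap_rF α.inv hWi _
    rwa [h4] at h3
  let s' : Γ((Scheme.Modules.pushforward (i ≫ p)).obj L, V) := s
  obtain ⟨c, hc⟩ := (hgL (U ⊓ i ⁻¹ᵁ W) inf_le_right).1 (rF L inf_le_left m)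
  have hle : U ⊓ i ⁻¹ᵁ W ≤ (i ≫ p) ⁻¹ᵁ V := inf_le_right.trans hWi
  refine ⟨U ⊓ i ⁻¹ᵁ W, inf_le_left, ⟨hx, hxW⟩,
    c • rF ((Scheme.Modules.pullback (i ≫ p)).obj ((Scheme.Modules.pushforward (i ≫ p)).obj L)) hle
      (PBH8.cUV (i ≫ p) ((Scheme.Modules.pushforward (i ≫ p)).obj L) le_rfl s'), ?_⟩
  rw [QCohExtn.ap_smul, QCohExtn.ap_rF, adj_symm_cUV]
  refine Eq.trans ?_ hc.symm
  congr 1
  exact (rF_rF L _ _ s).symm

end Groth.Agent.VAmpEpi
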