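import Mathlib
import Groth.Prelude
import Groth.Agent.Lib.VAmpEpi1_helper5
import Groth.Agent.Lib.Tens18_helper8
import Groth.Agent.Lib.Tens16_helper8
import Groth.Agent.Lib.Tens13_helper8

/-!
# `O_{P(E)}(1)` is relatively ample, and so is its pullback along a topological embedding (helper5)
APPEND-ONLY once landed.
-/

set_option autoImplicit false
universe u
open CategoryTheory CategoryTheory.Limits AlgebraicGeometry TopologicalSpace Opposite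
open scoped HomogeneousIdeal

noncomputable section

namespace Groth.Agent.RelAmp

open QcqsLoc QCohExtn GenLocH8 Groth.Agent.GrTw Groth.Agent.RelProjTN Groth.Agent.SymSum
  Groth.Agent.SymGr

variable {Y P : Scheme.{u}} (𝒮 : RelProj.QCGrAlg Y) (p : P ⟶ Y)
  (chart : ∀ (U : Y.Opens) (hU : IsAffineOpen U),
    (((p ⁻¹ᵁ U : P.Opens) : Scheme.{u}) ≅ Proj (𝒮.deg U hU)))

/-- The section of `O_P(1)` over `p⁻¹ V` with values `f/1`. -/
theorem exists_sec (n : ℤ) (hn : n = (1 : ℤ) * ((1 : ℕ) : ℤ)) (O1 : P.Modules)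
    (lam : ∀ (U : Y.Opens) (hU : IsAffineOpen U),
      O1 ⟶ (Scheme.Modules.pushforward (RelProj.emb p chart U hU)).obj
        (GrTwist.twist (𝒮.deg U hU) n))
    (hO1 : RelProj.IsRelTwist 𝒮 p chart n O1 lam) (V : Y.Opens) (hV : IsAffineOpen V)
    {f : 𝒮.presheaf.obj (op V)} (hf : f ∈ 𝒮.deg V hV 1) :
    ∃ ε : Γ(O1, p ⁻¹ᵁ V), ∀ y : ↥((RelProj.emb p chart V hV) ⁻¹ᵁ (p ⁻¹ᵁ V)),
      GrTwist.val (V := (RelProj.emb p chart V hV) ⁻¹ᵁ (p ⁻¹ᵁ V))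
        ((lam V hV).app (p ⁻¹ᵁ V) ε) y =
        algebraMap (𝒮.presheaf.obj (op V)) (GrTwist.Loc (𝒮.deg V hV) y.1) f := by
  obtain ⟨t, ht⟩ := Groth.Agent.VAmpEpi.exists_global (𝒮.deg V hV) n (by rw [hn]; norm_num) hf
  obtain ⟨ε₀, hε₀⟩ := (hO1.bijective V hV (p ⁻¹ᵁ V) le_rfl).2
    (rF (GrTwist.twist (𝒮.deg V hV) n)
      (le_top : (RelProj.emb p chart V hV) ⁻¹ᵁ (p ⁻¹ᵁ V) ≤ ⊤) t)
  refine ⟨ε₀, fun y => ?_⟩
  have h2 : (lam V hV).app (p ⁻¹ᵁ V) ε₀ = rF (GrTwist.twist (𝒮.deg V hV) n)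
      (le_top : (RelProj.emb p chart V hV) ⁻¹ᵁ (p ⁻¹ᵁ V) ≤ ⊤) t := hε₀
  rw [h2]
  exact ht ⟨y.1, trivial⟩

theorem image_basicOpen_le (V : Y.Opens) (hV : IsAffineOpen V) (f : 𝒮.presheaf.obj (op V)) :
    (RelProj.emb p chart V hV) ''ᵁ (Proj.basicOpen (𝒮.deg V hV) f) ≤ p ⁻¹ᵁ V :=
  (Scheme.Hom.image_le_opensRange _ _).trans (Groth.Agent.GrTw.opensRange_emb 𝒮 p chart V hV).le

/-- Such a section generates `O_P(1)` on `D_+(f)`. -/
theorem isGen_sec (n : ℤ) (hn : n = (1 : ℤ) * ((1 : ℕ) : ℤ)) (O1 : P.Modules)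
    (lam : ∀ (U : Y.Opens) (hU : IsAffineOpen U),
      O1 ⟶ (Scheme.Modules.pushforward (RelProj.emb p chart U hU)).obj
        (GrTwist.twist (𝒮.deg U hU) n))
    (hO1 : RelProj.IsRelTwist 𝒮 p chart n O1 lam) (V : Y.Opens) (hV : IsAffineOpen V)
    {f : 𝒮.presheaf.obj (op V)} (hf : f ∈ 𝒮.deg V hV 1) (ε : Γ(O1, p ⁻¹ᵁ V))
    (hval : ∀ y : ↥((RelProj.emb p chart V hV) ⁻¹ᵁ (p ⁻¹ᵁ V)),
      GrTwist.val (V := (RelProj.emb p chart V hV) ⁻¹ᵁ (p ⁻¹ᵁ V))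
        ((lam V hV).app (p ⁻¹ᵁ V) ε) y =
        algebraMap (𝒮.presheaf.obj (op V)) (GrTwist.Loc (𝒮.deg V hV) y.1) f) :
    IsGen O1 ((RelProj.emb p chart V hV) ''ᵁ (Proj.basicOpen (𝒮.deg V hV) f))
      (rF O1 (image_basicOpen_le 𝒮 p chart V hV f) ε) := by
  have hWr : (RelProj.emb p chart V hV) ''ᵁ (Proj.basicOpen (𝒮.deg V hV) f) ≤
      (RelProj.emb p chart V hV).opensRange := Scheme.Hom.image_le_opensRange _ _
  have hWf : (RelProj.emb p chart V hV) ⁻¹ᵁ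
      ((RelProj.emb p chart V hV) ''ᵁ (Proj.basicOpen (𝒮.deg V hV) f)) ≤
      Proj.basicOpen (𝒮.deg V hV) f := by
    rw [Scheme.Hom.preimage_image_eq]
  refine Groth.Agent.PBEpi.isGen_of_val 𝒮 p chart n hn O1 lam hO1 V hV hf _ hWr hWf _
    (fun y => ?_)
  have h1 : (lam V hV).app ((RelProj.emb p chart V hV) ''ᵁ (Proj.basicOpen (𝒮.deg V hV) f))
      (rF O1 (image_basicOpen_le 𝒮 p chart V hV f) ε) =
      rF ((Scheme.Modules.pushforward (RelProj.emb p chart V hV)).obj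
        (GrTwist.twist (𝒮.deg V hV) n)) (image_basicOpen_le 𝒮 p chart V hV f)
        ((lam V hV).app (p ⁻¹ᵁ V) ε) :=
    QCohExtn.ap_rF (lam V hV) (image_basicOpen_le 𝒮 p chart V hV f) ε
  rw [h1]
  exact hval ⟨y.1, image_basicOpen_le 𝒮 p chart V hV f y.2⟩

variable (E : Y.Modules) [E.IsQuasicoherent] (j : E ⟶ 𝒮.toModule) (hj : RelProj.IsGrSymAlg E 𝒮 j)

include hj in
/-- Every point of `Proj 𝒮(V)` lies in some `D_+(j e)`. -/
theorem exists_not_mem (V : Y.Opens) (hV : IsAffineOpen V) (z : Proj (𝒮.deg V hV)) :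
    ∃ e : Γ(E, V), jAdd E 𝒮.toQCAlg j V e ∉
      (z : ProjectiveSpectrum (𝒮.deg V hV)).asHomogeneousIdeal := by
  by_contra hcon
  push Not at hcon
  apply (z : ProjectiveSpectrum (𝒮.deg V hV)).not_irrelevant_le
  show ((𝒮.deg V hV)₊).toIdeal ≤ _
  refine (irrelevant_le_span E 𝒮 j hj V hV).trans ?_
  rw [Ideal.span_le]
  rintro _ ⟨e, rfl⟩
  exact hcon e

include hj in
/-- **The generating locus of the section `f/1` of `O_P(1)` is `D_+(f)`.** -/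
theorem hasLocus_sec (n : ℤ) (hn : n = (1 : ℤ) * ((1 : ℕ) : ℤ)) (O1 : P.Modules)
    (lam : ∀ (U : Y.Opens) (hU : IsAffineOpen U),
      O1 ⟶ (Scheme.Modules.pushforward (RelProj.emb p chart U hU)).obj
        (GrTwist.twist (𝒮.deg U hU) n))
    (hO1 : RelProj.IsRelTwist 𝒮 p chart n O1 lam) (V : Y.Opens) (hV : IsAffineOpen V)
    {f : 𝒮.presheaf.obj (op V)} (hf : f ∈ 𝒮.deg V hV 1) (ε : Γ(O1, p ⁻¹ᵁ V))
    (hval : ∀ y : ↥((RelProj.emb p chart V hV) ⁻¹ᵁ (p ⁻¹ᵁ V)),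
      GrTwist.val (V := (RelProj.emb p chart V hV) ⁻¹ᵁ (p ⁻¹ᵁ V))
        ((lam V hV).app (p ⁻¹ᵁ V) ε) y =
        algebraMap (𝒮.presheaf.obj (op V)) (GrTwist.Loc (𝒮.deg V hV) y.1) f)
    (V' : P.Opens) (hV' : V' ≤ p ⁻¹ᵁ V) :
    TensH8.HasLocus (TensH8.Frame.self O1) (rF O1 hV' ε)
      ((RelProj.emb p chart V hV) ''ᵁ (Proj.basicOpen (𝒮.deg V hV) f) ⊓ V') := by
  intro W hW e he
  obtain ⟨c, hcdef⟩ : ∃ c : Γ(P, W), c = (TensH8.Frame.self O1).coefOf (rF O1 hV' ε) W hW e he :=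
    ⟨_, rfl⟩
  rw [← hcdef]
  have hc : rF O1 hW (rF O1 hV' ε) = c • e := by
    rw [hcdef]
    exact (TensH8.Frame.self O1).coefOf_spec (rF O1 hV' ε) W hW e he
  have hWV : W ≤ p ⁻¹ᵁ V := hW.trans hV'
  have hc' : rF O1 hWV ε = c • e := by rw [← hc, rF_rF]
  have hD := image_basicOpen_le 𝒮 p chart V hV f
  have hgenf := isGen_sec 𝒮 p chart n hn O1 lam hO1 V hV hf ε hval
  ext z
  constructor
  · rintro ⟨⟨hzD, hzV'⟩, hzW⟩
    have hl : (RelProj.emb p chart V hV) ''ᵁ (Proj.basicOpen (𝒮.deg V hV) f) ⊓ W ≤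
        (RelProj.emb p chart V hV) ''ᵁ (Proj.basicOpen (𝒮.deg V hV) f) := inf_le_left
    have hr : (RelProj.emb p chart V hV) ''ᵁ (Proj.basicOpen (𝒮.deg V hV) f) ⊓ W ≤ W :=
      inf_le_right
    have h1 : IsGen O1 _ (rX hr c • rF O1 hr e) := by
      have h0 := hgenf.res hl
      rw [rF_rF] at h0
      have h2 : rF O1 (hl.trans hD) ε = rX hr c • rF O1 hr e := by
        rw [← rF_smul, ← hc', rF_rF]
      rwa [h2] at h0
    have hu : IsUnit (rX hr c) := TensH8.isUnit_of_isGen_smul (he.res hr) h1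
    have h3 : z ∈ P.basicOpen (rX hr c) := by
      rw [P.basicOpen_of_isUnit hu]
      exact ⟨hzD, hzW⟩
    rw [basicOpen_rX] at h3
    exact h3.2
  · intro hz
    have hzW : z ∈ W := P.basicOpen_le _ hz
    refine ⟨⟨?_, hW hzW⟩, hzW⟩
    have hzV : z ∈ p ⁻¹ᵁ V := hWV hzW
    by_contra hzD
    have hfz : f ∈ (zpt p chart V hV z hzV).asHomogeneousIdeal := by
      by_contra hfz
      exact hzD ⟨zpt p chart V hV z hzV, (Proj.mem_basicOpen _ _ _).mpr hfz,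
        emb_zpt V hV z hzV⟩
    obtain ⟨eg, heg⟩ := exists_not_mem 𝒮 E j hj V hV (zpt p chart V hV z hzV)
    have hg : jAdd E 𝒮.toQCAlg j V eg ∈ 𝒮.deg V hV 1 := hj.2 V hV eg
    obtain ⟨εg, hvalg⟩ := exists_sec 𝒮 p chart n hn O1 lam hO1 V hV hg
    have hgeng := isGen_sec 𝒮 p chart n hn O1 lam hO1 V hV hg εg hvalg
    have hDg := image_basicOpen_le 𝒮 p chart V hV (jAdd E 𝒮.toQCAlg j V eg)
    have hzDg : z ∈ (RelProj.emb p chart V hV) ''ᵁ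
        (Proj.basicOpen (𝒮.deg V hV) (jAdd E 𝒮.toQCAlg j V eg)) :=
      ⟨zpt p chart V hV z hzV, (Proj.mem_basicOpen _ _ _).mpr heg, emb_zpt V hV z hzV⟩
    obtain ⟨W₃, hW₃⟩ : ∃ W₃ : P.Opens, W₃ = P.basicOpen c ⊓ (RelProj.emb p chart V hV) ''ᵁ
        (Proj.basicOpen (𝒮.deg V hV) (jAdd E 𝒮.toQCAlg j V eg)) := ⟨_, rfl⟩
    have hz3 : z ∈ W₃ := by rw [hW₃]; exact ⟨hz, hzDg⟩
    have h3c : W₃ ≤ P.basicOpen c := by rw [hW₃]; exact inf_le_left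
    have h3W : W₃ ≤ W := h3c.trans (P.basicOpen_le c)
    have h3D : W₃ ≤ (RelProj.emb p chart V hV) ''ᵁ
        (Proj.basicOpen (𝒮.deg V hV) (jAdd E 𝒮.toQCAlg j V eg)) := by
      rw [hW₃]; exact inf_le_right
    have hu : IsUnit (rX h3W c) := by
      have h0 : IsUnit (rX (P.basicOpen_le c) c) := P.toRingedSpace.isUnit_res_basicOpen c
      have h00 : rX h3W c = rX h3c (rX (P.basicOpen_le c) c) := (rX_rX _ _ c).symm
      rw [h00]
      exact h0.map (rX h3c)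
    have h4 : rF O1 (h3W.trans hWV) ε = rX h3W c • rF O1 h3W e := by
      rw [← rF_smul, ← hc', rF_rF]
    have hgen3 : IsGen O1 W₃ (rF O1 (h3W.trans hWV) ε) := by
      rw [h4]
      exact TensH8.isGen_smul_of_isUnit (he.res h3W) hu
    obtain ⟨a, ha⟩ := hgen3.exists_coef (rF O1 (h3D.trans hDg) εg)
    -- apply `lam` and evaluate at the point
    have hzpre : zpt p chart V hV z hzV ∈ (RelProj.emb p chart V hV) ⁻¹ᵁ W₃ := by
      show (RelProj.emb p chart V hV).base (zpt p chart V hV z hzV) ∈ W₃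
      rw [emb_zpt]
      exact hz3
    have e1 : GrTwist.val (V := (RelProj.emb p chart V hV) ⁻¹ᵁ W₃)
        (QCohExtn.ap (lam V hV) W₃ (rF O1 (h3D.trans hDg) εg)) ⟨_, hzpre⟩ =
        algebraMap (𝒮.presheaf.obj (op V)) _ (jAdd E 𝒮.toQCAlg j V eg) := by
      rw [QCohExtn.ap_rF]
      exact hvalg ⟨_, (h3D.trans hDg) hzpre⟩
    have e2 : GrTwist.val (V := (RelProj.emb p chart V hV) ⁻¹ᵁ W₃)
        (QCohExtn.ap (lam V hV) W₃ (rF O1 (h3W.trans hWV) ε)) ⟨_, hzpre⟩ =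
        algebraMap (𝒮.presheaf.obj (op V)) _ f := by
      rw [QCohExtn.ap_rF]
      exact hval ⟨_, (h3W.trans hWV) hzpre⟩
    have e3 : QCohExtn.ap (lam V hV) W₃ (a • rF O1 (h3W.trans hWV) ε) =
        (show Γ(Proj (𝒮.deg V hV), (RelProj.emb p chart V hV) ⁻¹ᵁ W₃) from
          ((RelProj.emb p chart V hV).app W₃).hom a) •
        (show Γ(GrTwist.twist (𝒮.deg V hV) n, (RelProj.emb p chart V hV) ⁻¹ᵁ W₃) from
          QCohExtn.ap (lam V hV) W₃ (rF O1 (h3W.trans hWV) ε)) := by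
      rw [QCohExtn.ap_smul]
      rfl
    rw [ha, e3] at e1
    rw [val_smul] at e1
    have e2' : GrTwist.val (V := (RelProj.emb p chart V hV) ⁻¹ᵁ W₃)
        (show Γ(GrTwist.twist (𝒮.deg V hV) n, (RelProj.emb p chart V hV) ⁻¹ᵁ W₃) from
          QCohExtn.ap (lam V hV) W₃ (rF O1 (h3W.trans hWV) ε)) ⟨_, hzpre⟩ =
        algebraMap (𝒮.presheaf.obj (op V)) _ f := e2
    rw [e2'] at e1
    have hunit : IsUnit (algebraMap (𝒮.presheaf.obj (op V))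
        (GrTwist.Loc (𝒮.deg V hV) (zpt p chart V hV z hzV))
        (jAdd E 𝒮.toQCAlg j V eg)) :=
      (IsLocalization.AtPrime.isUnit_to_map_iff _
        (zpt p chart V hV z hzV).asHomogeneousIdeal.toIdeal _).mpr heg
    rw [← e1] at hunit
    have hunitf := isUnit_of_mul_isUnit_right hunit
    exact ((IsLocalization.AtPrime.isUnit_to_map_iff _
      (zpt p chart V hV z hzV).asHomogeneousIdeal.toIdeal _).mp hunitf) hfz

end Groth.Agent.RelAmp
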