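import Mathlib
import Groth.Prelude

/-!
# Finite-type graded rings: a uniform degree `d` whose elements cover `Proj` (helper5)
APPEND-ONLY once landed.
-/

set_option autoImplicit false
universe u
open scoped HomogeneousIdeal

namespace Groth.Agent.RelAmpD

section Alg
variable {A σ : Type u} [CommRing A] [SetLike σ A] [AddSubgroupClass σ A] (𝒜 : ℕ → σ) [GradedRing 𝒜]
  {R : Type u} [CommRing R] (φ : R →+* A)

/-- A graded ring of finite type over a ring mapping to degree zero: finitely many homogeneous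
elements of positive degrees such that every point of `Proj` misses one of them. -/
theorem exists_finset_cover (hφ0 : ∀ r, φ r ∈ 𝒜 0) (hft : φ.FiniteType) :
    ∃ B : Finset A, (∀ b ∈ B, ∃ m : ℕ, 0 < m ∧ b ∈ 𝒜 m) ∧
      ∀ z : ProjectiveSpectrum 𝒜, ∃ b ∈ B, b ∉ z.asHomogeneousIdeal := by
  classical
  letI : Algebra R A := φ.toAlgebra
  obtain ⟨s, hs⟩ := (show Algebra.FiniteType R A from hft).out
  let B : Finset A := s.biUnion (fun g =>
    ((DirectSum.decompose 𝒜 g).support.filter (fun m => 0 < m)).image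
      (fun m => (DirectSum.decompose 𝒜 g m : A)))
  have hBmem : ∀ g ∈ s, ∀ m : ℕ, 0 < m → (DirectSum.decompose 𝒜 g m : A) ≠ 0 →
      (DirectSum.decompose 𝒜 g m : A) ∈ B := by
    intro g hg m hm hne
    refine Finset.mem_biUnion.mpr ⟨g, hg, Finset.mem_image.mpr ⟨m, ?_, rfl⟩⟩
    refine Finset.mem_filter.mpr ⟨?_, hm⟩
    rw [DFinsupp.mem_support_iff]
    intro h0
    exact hne (by rw [h0]; rfl)
  refine ⟨B, ?_, ?_⟩
  · intro b hb
    obtain ⟨g, -, hb⟩ := Finset.mem_biUnion.mp hb
    obtain ⟨m, hm, rfl⟩ := Finset.mem_image.mp hb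
    exact ⟨m, (Finset.mem_filter.mp hm).2, SetLike.coe_mem _⟩
  · intro z
    by_contra hcon
    push Not at hcon
    let I : Ideal A := Ideal.span (B : Set A)
    have hI : I.IsHomogeneous 𝒜 := Ideal.homogeneous_span 𝒜 _ (by
      intro b hb
      obtain ⟨g, -, hb⟩ := Finset.mem_biUnion.mp (Finset.mem_coe.mp hb)
      obtain ⟨m, -, rfl⟩ := Finset.mem_image.mp hb
      exact ⟨m, SetLike.coe_mem _⟩)
    have hIz : I ≤ z.asHomogeneousIdeal.toIdeal :=
      Ideal.span_le.mpr (fun b hb => hcon b (Finset.mem_coe.mp hb))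
    have key : ∀ a : A, ∃ a0 : A, a0 ∈ 𝒜 0 ∧ a - a0 ∈ I := by
      intro a
      have ha : a ∈ Algebra.adjoin R (s : Set A) := hs ▸ Algebra.mem_top
      induction ha using Algebra.adjoin_induction with
      | mem g hg =>
        refine ⟨(DirectSum.decompose 𝒜 g 0 : A), SetLike.coe_mem _, ?_⟩
        rw [← DirectSum.sum_support_decompose 𝒜 (g - (DirectSum.decompose 𝒜 g 0 : A))]
        refine Ideal.sum_mem _ (fun m _ => ?_)
        rw [DirectSum.decompose_sub, DirectSum.sub_apply, AddSubgroupClass.coe_sub]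
        by_cases hm : m = 0
        · subst hm
          rw [DirectSum.decompose_of_mem_same 𝒜 (SetLike.coe_mem (DirectSum.decompose 𝒜 g 0)),
            sub_self]
          exact zero_mem _
        · rw [DirectSum.decompose_of_mem_ne 𝒜 (SetLike.coe_mem (DirectSum.decompose 𝒜 g 0))
            (Ne.symm hm), sub_zero]
          by_cases hne : (DirectSum.decompose 𝒜 g m : A) = 0
          · rw [hne]; exact zero_mem _
          · exact Ideal.subset_span (Finset.mem_coe.mpr
              (hBmem g (Finset.mem_coe.mp hg) m (Nat.pos_of_ne_zero hm) hne))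
      | algebraMap r =>
        exact ⟨φ r, hφ0 r, by
          have : algebraMap R A r = φ r := rfl
          rw [this, sub_self]; exact zero_mem _⟩
      | add b b' _ _ hb hb' =>
        obtain ⟨r, hr0, hr⟩ := hb
        obtain ⟨r', hr0', hr'⟩ := hb'
        refine ⟨r + r', add_mem hr0 hr0', ?_⟩
        have : b + b' - (r + r') = (b - r) + (b' - r') := by ring
        rw [this]
        exact add_mem hr hr'
      | mul b b' _ _ hb hb' =>
        obtain ⟨r, hr0, hr⟩ := hb
        obtain ⟨r', hr0', hr'⟩ := hb'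
        refine ⟨r * r', ?_, ?_⟩
        · have := SetLike.mul_mem_graded (A := 𝒜) hr0 hr0'
          simpa using this
        · have : b * b' - r * r' = (b - r) * b' + r * (b' - r') := by ring
          rw [this]
          exact add_mem (I.mul_mem_right _ hr) (I.mul_mem_left _ hr')
    apply z.not_irrelevant_le
    intro b hb
    have hb0 : (DirectSum.decompose 𝒜 b 0 : A) = 0 :=
      (HomogeneousIdeal.mem_irrelevant_iff 𝒜 b).mp hb
    obtain ⟨r, hr0, hr⟩ := key b
    have h0 := hI 0 hr
    have h1 : (DirectSum.decompose 𝒜 (b - r) 0 : A) = - r := by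
      rw [DirectSum.decompose_sub, DirectSum.sub_apply, AddSubgroupClass.coe_sub, hb0, zero_sub,
        DirectSum.decompose_of_mem_same 𝒜 hr0]
    rw [h1] at h0
    have h2 : r ∈ I := by simpa using I.neg_mem h0
    have h3 : b ∈ I := by
      have := add_mem hr h2
      simpa using this
    exact hIz h3

/-- A uniform degree: some `d > 0` such that every point of `Proj` misses an element of degree
`d`. -/
theorem exists_deg_cover (hφ0 : ∀ r, φ r ∈ 𝒜 0) (hft : φ.FiniteType) :
    ∃ d : ℕ, 0 < d ∧ ∀ z : ProjectiveSpectrum 𝒜, ∃ f ∈ 𝒜 d, f ∉ z.asHomogeneousIdeal := by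
  classical
  obtain ⟨B, hB, hcov⟩ := exists_finset_cover 𝒜 φ hφ0 hft
  choose! m hm0 hm using hB
  refine ⟨∏ b ∈ B, m b, Finset.prod_pos (fun b hb => hm0 b hb), fun z => ?_⟩
  obtain ⟨b, hb, hbz⟩ := hcov z
  obtain ⟨k, hk⟩ : m b ∣ ∏ b ∈ B, m b := Finset.dvd_prod_of_mem m hb
  refine ⟨b ^ k, ?_, fun h => hbz (z.isPrime.mem_of_pow_mem _ h)⟩
  have := SetLike.pow_mem_graded k (hm b hb)
  rwa [smul_eq_mul, mul_comm, ← hk] at this

/-- The covering property passes to multiples of the degree. -/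
theorem deg_cover_mul {d : ℕ}
    (h : ∀ z : ProjectiveSpectrum 𝒜, ∃ f ∈ 𝒜 d, f ∉ z.asHomogeneousIdeal) (k : ℕ) :
    ∀ z : ProjectiveSpectrum 𝒜, ∃ f ∈ 𝒜 (k * d), f ∉ z.asHomogeneousIdeal := by
  intro z
  obtain ⟨f, hf, hfz⟩ := h z
  refine ⟨f ^ k, ?_, fun h => hfz (z.isPrime.mem_of_pow_mem _ h)⟩
  have := SetLike.pow_mem_graded k hf
  rwa [smul_eq_mul] at this

end Alg

end Groth.Agent.RelAmpD
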