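import Mathlib
import Groth.Prelude
import Groth.Agent.Lib.RelAmpD1_helper5
import Groth.Agent.Lib.RelAmpD2_helper5

/-!
# `O_X(d)` is invertible and relatively ample on the relative `Proj` of a finite-type graded algebra
over a quasi-compact base, for suitable `d`  (helper5).  APPEND-ONLY once landed.
-/

set_option autoImplicit false
universe u
open CategoryTheory CategoryTheory.Limits AlgebraicGeometry TopologicalSpace Opposite
open scoped HomogeneousIdeal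

noncomputable section

namespace Groth.Agent.RelAmpD

open QcqsLoc QCohExtn GenLocH8 Groth.Agent.GrTw Groth.Agent.RelProjTN Groth.Agent.RelAmp

/-- Relative ampleness can be checked on the basic opens of affine neighbourhoods. -/
theorem isRelAmple_of_local_basic {X S : Scheme.{u}} (f : X ⟶ S) [QuasiCompact f] {L : X.Modules}
    (hL : PicF.IsInvertible L)
    (h : ∀ y : S, ∃ U : S.Opens, IsAffineOpen U ∧ y ∈ U ∧
      ∀ r : Γ(S, U), TensH8.IsAmpleOn L (f ⁻¹ᵁ (S.basicOpen r))) :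
    RelAmple.IsRelAmple f L := by
  rw [TensH8.isRelAmple_iff f hL]
  refine ⟨inferInstance, fun V => ?_⟩
  apply TensH8.isAmpleOn_of_basicOpen_cover hL
    (QuasiCompact.isCompact_preimage (f := f) _ V.1.isOpen V.2.isCompact)
  intro x hx
  obtain ⟨U, hU, hyU, hUr⟩ := h (f.base x)
  obtain ⟨a, r, har, hxa⟩ := exists_basicOpen_le_affine_inter V.2 hU (f.base x) ⟨hx, hyU⟩
  refine ⟨f.app V.1 a, ?_, ?_⟩
  · rw [← Scheme.preimage_basicOpen]
    exact hxa
  · rw [← Scheme.preimage_basicOpen, har]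
    exact hUr r

variable {Y P : Scheme.{u}} (𝒮 : RelProj.QCGrAlg Y) (p : P ⟶ Y)
  (chart : ∀ (U : Y.Opens) (hU : IsAffineOpen U),
    (((p ⁻¹ᵁ U : P.Opens) : Scheme.{u}) ≅ Proj (𝒮.deg U hU)))

/-- Every point of `Proj 𝒮(V)` misses an element of degree `d`. -/
def Cov (d : ℕ) (V : Y.Opens) (hV : IsAffineOpen V) : Prop :=
  ∀ z : Proj (𝒮.deg V hV), ∃ g ∈ 𝒮.deg V hV d,
    g ∉ (z : ProjectiveSpectrum (𝒮.deg V hV)).asHomogeneousIdeal

variable {𝒮 p chart}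

theorem cov_basicOpen (hP : RelProj.IsRelProj 𝒮 p chart) {d : ℕ} (U : Y.Opens)
    (hU : IsAffineOpen U) (r : Γ(Y, U)) (h : Cov 𝒮 d U hU) :
    Cov 𝒮 d (Y.basicOpen r) (hU.basicOpen r) := by
  intro z
  have hx : (RelProj.emb p chart (Y.basicOpen r) (hU.basicOpen r)).base z ∈
      p ⁻¹ᵁ (Y.basicOpen r) := mem_of_emb (Y.basicOpen r) (hU.basicOpen r) z
  have hz : zpt p chart (Y.basicOpen r) (hU.basicOpen r) _ hx = z :=
    zpt_emb (Y.basicOpen r) (hU.basicOpen r) z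
  obtain ⟨f, hf, hfz⟩ := h (zpt p chart U hU _ (p.preimage_mono (Y.basicOpen_le r) hx))
  refine ⟨(𝒮.presheaf.map (homOfLE (Y.basicOpen_le r)).op).hom f,
    𝒮.map_mem hU (hU.basicOpen r) (Y.basicOpen_le r) hf, ?_⟩
  have h1 := (mem_zpt_res hP U hU r _ hx f).mp ((Proj.mem_basicOpen _ _ _).mpr hfz)
  rw [hz] at h1
  exact (Proj.mem_basicOpen _ _ _).mp h1

theorem cov_mul {d : ℕ} (V : Y.Opens) (hV : IsAffineOpen V) (h : Cov 𝒮 d V hV) (k : ℕ) :
    Cov 𝒮 (k * d) V hV :=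
  fun z => deg_cover_mul (𝒮.deg V hV) h k z

theorem exists_cov (V : Y.Opens) (hV : IsAffineOpen V)
    (hft : (𝒮.str.app (op V)).hom.FiniteType) : ∃ d : ℕ, 0 < d ∧ Cov 𝒮 d V hV := by
  obtain ⟨d, hd, h⟩ := exists_deg_cover (𝒮.deg V hV) (𝒮.str.app (op V)).hom
    (fun r => 𝒮.str_mem V hV r) hft
  exact ⟨d, hd, fun z => h z⟩

variable (p chart) in
include chart in
/-- The preimage of an affine open in the relative `Proj` of a finite-type algebra is
quasi-compact. -/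
theorem isCompact_preimage (V : Y.Opens) (hV : IsAffineOpen V)
    (hft : (𝒮.str.app (op V)).hom.FiniteType) : IsCompact ((p ⁻¹ᵁ V : P.Opens) : Set P) := by
  obtain ⟨B, hB, hcov⟩ := exists_finset_cover (𝒮.deg V hV) (𝒮.str.app (op V)).hom
    (fun r => 𝒮.str_mem V hV r) hft
  have h1 : ((p ⁻¹ᵁ V : P.Opens) : Set P) = ⋃ b ∈ B, (((RelProj.emb p chart V hV) ''ᵁ
      (Proj.basicOpen (𝒮.deg V hV) b) : P.Opens) : Set P) := by
    ext x
    constructor
    · intro hx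
      have hx' : x ∈ p ⁻¹ᵁ V := hx
      obtain ⟨b, hb, hbz⟩ := hcov (zpt p chart V hV x hx')
      exact Set.mem_iUnion₂.mpr ⟨b, hb, ⟨zpt p chart V hV x hx',
        (Proj.mem_basicOpen _ _ _).mpr hbz, emb_zpt V hV x hx'⟩⟩
    · intro hx
      obtain ⟨b, hb, hxb⟩ := Set.mem_iUnion₂.mp hx
      exact image_basicOpen_le 𝒮 p chart V hV b hxb
  rw [h1]
  refine B.isCompact_biUnion (fun b hb => ?_)
  obtain ⟨m, hm, hbm⟩ := hB b hb
  exact ((Proj.isAffineOpen_basicOpen _ b hbm hm).image_of_isOpenImmersion _).isCompact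

variable (p chart) in
include chart in
theorem quasiCompact_of_finiteType
    (hft : ∀ (U : Y.Opens) (hU : IsAffineOpen U), (𝒮.str.app (op U)).hom.FiniteType) :
    QuasiCompact p := by
  rw [quasiCompact_iff_forall_isAffineOpen]
  intro V hV
  exact isCompact_preimage p chart V hV (hft V hV)

/-- `O_P(d)` is invertible when the base is covered by affine opens with the covering property. -/
theorem isInvertible_of_cov {d : ℕ} (hd : 0 < d) (n : ℤ) (hn : n = (1 : ℤ) * (d : ℤ))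
    (L : P.Modules)
    (lam : ∀ (U : Y.Opens) (hU : IsAffineOpen U),
      L ⟶ (Scheme.Modules.pushforward (RelProj.emb p chart U hU)).obj
        (GrTwist.twist (𝒮.deg U hU) n))
    (hL : RelProj.IsRelTwist 𝒮 p chart n L lam)
    (h : ∀ x : P, ∃ (V : Y.Opens) (hV : IsAffineOpen V), x ∈ p ⁻¹ᵁ V ∧ Cov 𝒮 d V hV) :
    PicF.IsInvertible L := by
  apply TensH8.isInvertible_of_gens
  intro x
  obtain ⟨V, hV, hxV, hcov⟩ := h x
  obtain ⟨g, hg, hgz⟩ := hcov (zpt p chart V hV x hxV)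
  obtain ⟨ε, hval⟩ := exists_sec 𝒮 p chart n hn L lam hL V hV hg
  exact ⟨(RelProj.emb p chart V hV) ''ᵁ (Proj.basicOpen (𝒮.deg V hV) g),
    (Proj.isAffineOpen_basicOpen _ g hg hd).image_of_isOpenImmersion _,
    ⟨zpt p chart V hV x hxV, (Proj.mem_basicOpen _ _ _).mpr hgz, emb_zpt V hV x hxV⟩,
    _, isGen_sec 𝒮 p chart n hn L lam hL V hV hg ε hval⟩

/-- `O_P(d)` is ample on `p⁻¹ W`, `W` affine with the covering property and `p⁻¹ W` compact. -/
theorem isAmpleOn_preimage {d : ℕ} (hd : 0 < d) (n : ℤ) (hn : n = (1 : ℤ) * (d : ℤ))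
    (L : P.Modules)
    (lam : ∀ (U : Y.Opens) (hU : IsAffineOpen U),
      L ⟶ (Scheme.Modules.pushforward (RelProj.emb p chart U hU)).obj
        (GrTwist.twist (𝒮.deg U hU) n))
    (hL : RelProj.IsRelTwist 𝒮 p chart n L lam) (hinv : PicF.IsInvertible L)
    (W : Y.Opens) (hW : IsAffineOpen W) (hcov : Cov 𝒮 d W hW)
    (hc : IsCompact ((p ⁻¹ᵁ W : P.Opens) : Set P)) : TensH8.IsAmpleOn L (p ⁻¹ᵁ W) := by
  refine ⟨hc, fun x hx => ?_⟩
  obtain ⟨g, hg, hgz⟩ := hcov (zpt p chart W hW x hx)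
  obtain ⟨ε, hval⟩ := exists_sec 𝒮 p chart n hn L lam hL W hW hg
  have hloc := hasLocus_sec 𝒮 p chart n hn L lam hL W hW hcov hg ε hval (p ⁻¹ᵁ W) le_rfl
  obtain ⟨σ', hσ'⟩ := TensH8.HasLocus.change_frame hinv (TensH8.Frame.self L)
    (TensH8.Frame.pow L (0 + 1)) _ hloc
  have hDV' : (RelProj.emb p chart W hW) ''ᵁ (Proj.basicOpen (𝒮.deg W hW) g) ⊓ p ⁻¹ᵁ W =
      (RelProj.emb p chart W hW) ''ᵁ (Proj.basicOpen (𝒮.deg W hW) g) :=
    inf_eq_left.mpr (image_basicOpen_le 𝒮 p chart W hW g)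
  refine ⟨0, σ', (RelProj.emb p chart W hW) ''ᵁ (Proj.basicOpen (𝒮.deg W hW) g) ⊓ p ⁻¹ᵁ W, ?_,
    ⟨⟨zpt p chart W hW x hx, (Proj.mem_basicOpen _ _ _).mpr hgz, emb_zpt W hW x hx⟩, hx⟩,
    inf_le_right, hσ'⟩
  rw [hDV']
  exact (Proj.isAffineOpen_basicOpen _ g hg hd).image_of_isOpenImmersion _

/-- **`O_X(d)` is invertible and relatively ample for a suitable `d > 0`.** -/
theorem exists_d [CompactSpace Y]
    (hft : ∀ (U : Y.Opens) (hU : IsAffineOpen U), (𝒮.str.app (op U)).hom.FiniteType)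
    (hP : RelProj.IsRelProj 𝒮 p chart) :
    ∃ d : ℕ, 0 < d ∧ ∀ (L : P.Modules)
      (lam : ∀ (U : Y.Opens) (hU : IsAffineOpen U),
        L ⟶ (Scheme.Modules.pushforward (RelProj.emb p chart U hU)).obj
          (GrTwist.twist (𝒮.deg U hU) (d : ℤ))),
      RelProj.IsRelTwist 𝒮 p chart (d : ℤ) L lam →
        PicF.IsInvertible L ∧ RelAmple.IsRelAmple p L := by
  classical
  have hloc : ∀ y : Y, ∃ (U : Y.Opens) (hU : IsAffineOpen U) (d : ℕ),
      y ∈ U ∧ 0 < d ∧ Cov 𝒮 d U hU := by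
    intro y
    obtain ⟨U, hU, hyU, -⟩ := Opens.isBasis_iff_nbhd.mp Y.isBasis_affineOpens (Opens.mem_top y)
    obtain ⟨d, hd, hcov⟩ := exists_cov U hU (hft U hU)
    exact ⟨U, hU, d, hyU, hd, hcov⟩
  choose U hU d0 hyU hd0 hcov0 using hloc
  obtain ⟨T, hT⟩ := isCompact_univ.elim_finite_subcover (fun y : Y => ((U y : Y.Opens) : Set Y))
    (fun y => (U y).isOpen) (fun y _ => Set.mem_iUnion.mpr ⟨y, hyU y⟩)
  have hd : 0 < ∏ y ∈ T, d0 y := Finset.prod_pos (fun y _ => hd0 y)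
  have hcovT : ∀ y ∈ T, Cov 𝒮 (∏ y ∈ T, d0 y) (U y) (hU y) := by
    intro y hy
    obtain ⟨k, hk⟩ : d0 y ∣ ∏ y ∈ T, d0 y := Finset.dvd_prod_of_mem d0 hy
    rw [hk, mul_comm]
    exact cov_mul (U y) (hU y) (hcov0 y) k
  have hTcov : ∀ y : Y, ∃ y' ∈ T, y ∈ U y' := by
    intro y
    obtain ⟨y', hy', hyy'⟩ := Set.mem_iUnion₂.mp (hT (Set.mem_univ y))
    exact ⟨y', hy', hyy'⟩
  haveI : QuasiCompact p := quasiCompact_of_finiteType p chart hft
  refine ⟨∏ y ∈ T, d0 y, hd, fun L lam hL => ?_⟩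
  have hn : ((∏ y ∈ T, d0 y : ℕ) : ℤ) = (1 : ℤ) * ((∏ y ∈ T, d0 y : ℕ) : ℤ) := (one_mul _).symm
  have hinv : PicF.IsInvertible L := by
    refine isInvertible_of_cov hd _ hn L lam hL (fun x => ?_)
    obtain ⟨y', hy', hxy'⟩ := hTcov (p.base x)
    exact ⟨U y', hU y', hxy', hcovT y' hy'⟩
  refine ⟨hinv, isRelAmple_of_local_basic p hinv (fun y => ?_)⟩
  obtain ⟨y', hy', hyy'⟩ := hTcov y
  refine ⟨U y', hU y', hyy', fun r => ?_⟩
  exact isAmpleOn_preimage hd _ hn L lam hL hinv (Y.basicOpen r) ((hU y').basicOpen r)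
    (cov_basicOpen hP (U y') (hU y') r (hcovT y' hy'))
    (isCompact_preimage p chart _ ((hU y').basicOpen r) (hft _ ((hU y').basicOpen r)))

end Groth.Agent.RelAmpD
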