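import Mathlib
import Groth.Prelude
import Groth.Agent.Lib.QCohExtn_helper9

/-!
# Existence of the relative twisting sheaves, part 1: limits of modules sectionwise, and
localizations at primes of an `Away` localization (helper5)
-/

set_option autoImplicit false
universe u
open CategoryTheory CategoryTheory.Limits AlgebraicGeometry TopologicalSpace Opposite

namespace Groth.Agent.RelTwEx

variable {X : Scheme.{u}}

theorem preservesLimit_evaluation (W : X.Opens) {J : Type u} [Category.{u} J] (K : J ⥤ X.Modules) :
    PreservesLimit K (SheafOfModules.evaluation X.ringCatSheaf (op W)) := by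
  have h : PreservesLimitsOfSize.{u, u} (SheafOfModules.evaluation.{u} X.ringCatSheaf (op W)) :=
    SheafOfModules.evaluationPreservesLimitsOfSize _ _
  exact h.preservesLimitsOfShape.preservesLimit

section multieq
variable {S : MulticospanShape.{u, u}} (I : MulticospanIndex S X.Modules)

/-- Sections of a multiequalizer of modules are determined by their components. -/
theorem multieq_ext (W : X.Opens) (s s' : Γ(multiequalizer I, W))
    (h : ∀ a, QCohExtn.ap (Multiequalizer.ι I a) W s = QCohExtn.ap (Multiequalizer.ι I a) W s') :
    s = s' := by
  haveI := preservesLimit_evaluation W I.multicospan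
  let E := SheafOfModules.evaluation X.ringCatSheaf (op W)
  have hD : IsLimit (E.mapCone (limit.cone I.multicospan)) :=
    isLimitOfPreserves E (limit.isLimit I.multicospan)
  refine Concrete.isLimit_ext (I.multicospan ⋙ E) hD s s' ?_
  rintro (a | b)
  · exact h a
  · have hw := (E.mapCone (limit.cone I.multicospan)).w (WalkingMulticospan.Hom.fst b)
    rw [← hw]
    exact congrArg ((I.multicospan ⋙ E).map (WalkingMulticospan.Hom.fst b)) (h (S.fst b))

/-- A compatible family of sections of the components comes from a section of the
multiequalizer. -/
theorem multieq_exists (W : X.Opens) (t : ∀ a, Γ(I.left a, W))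
    (ht : ∀ b, QCohExtn.ap (I.fst b) W (t (S.fst b)) = QCohExtn.ap (I.snd b) W (t (S.snd b))) :
    ∃ s : Γ(multiequalizer I, W), ∀ a, QCohExtn.ap (Multiequalizer.ι I a) W s = t a := by
  haveI := preservesLimit_evaluation W I.multicospan
  let E := SheafOfModules.evaluation X.ringCatSheaf (op W)
  have hD : IsLimit (E.mapCone (limit.cone I.multicospan)) :=
    isLimitOfPreserves E (limit.isLimit I.multicospan)
  have hT : IsLimit ((forget _).mapCone (E.mapCone (limit.cone I.multicospan))) :=
    isLimitOfPreserves (forget _) hD
  let sec : ((I.multicospan ⋙ E) ⋙ forget _).sections :=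
    ⟨fun j => match j with
      | WalkingMulticospan.left a => t a
      | WalkingMulticospan.right b => QCohExtn.ap (I.fst b) W (t (S.fst b)), by
      rintro j j' (_ | b | b)
      · simp
      · rfl
      · exact (ht b).symm⟩
  refine ⟨(Types.isLimitEquivSections hT).symm sec, fun a => ?_⟩
  exact Types.isLimitEquivSections_symm_apply hT sec (WalkingMulticospan.left a)

/-- The components of a section of a multiequalizer are compatible. -/
theorem multieq_condition (W : X.Opens) (s : Γ(multiequalizer I, W)) (b : S.R) :
    QCohExtn.ap (I.fst b) W (QCohExtn.ap (Multiequalizer.ι I (S.fst b)) W s) =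
      QCohExtn.ap (I.snd b) W (QCohExtn.ap (Multiequalizer.ι I (S.snd b)) W s) := by
  have h := Multiequalizer.condition I b
  have h2 := congrArg (fun φ => QCohExtn.ap φ W s) h
  exact h2

end multieq

section Alg
variable {A B : Type u} [CommRing A] [CommRing B]

/-- If `B = A[1/c]`, then `A_{f⁻¹ J} → B_J` is bijective for every prime `J` of `B`. -/
theorem localRingHom_bijective_of_away (f : A →+* B) (c : A)
    (hloc : letI := f.toAlgebra; IsLocalization.Away c B)
    (I : Ideal A) [I.IsPrime] (J : Ideal B) [J.IsPrime] (h : I = J.comap f) :
    Function.Bijective (Localization.localRingHom I J f h) := by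
  letI := f.toAlgebra
  subst h
  haveI : IsLocalization (Submonoid.powers c) B := hloc
  haveI : IsLocalization.AtPrime (Localization.AtPrime J) (J.comap (algebraMap A B)) :=
    IsLocalization.isLocalization_isLocalization_atPrime_isLocalization (Submonoid.powers c)
      (Localization.AtPrime J) J
  let e := IsLocalization.algEquiv (J.comap (algebraMap A B)).primeCompl
    (Localization.AtPrime (J.comap (algebraMap A B))) (Localization.AtPrime J)
  have he : Localization.localRingHom (J.comap f) J f rfl = (e : _ →+* _) := by
    apply Localization.localRingHom_unique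
    intro x
    refine Eq.trans ?_ (IsScalarTower.algebraMap_apply A B (Localization.AtPrime J) x)
    exact e.commutes x
  rw [he]
  exact e.bijective

end Alg

end Groth.Agent.RelTwEx
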