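import Mathlib
import Groth.Prelude
import Groth.Agent.Lib.GrTwGlue_helper5
import Groth.Agent.Lib.RelTwEx1_helper5

/-!
# Existence of the relative twisting sheaves, part 2: comparing the localizations at
corresponding points of two charts of a relative `Proj` (helper5)
-/

set_option autoImplicit false
universe u
open CategoryTheory CategoryTheory.Limits AlgebraicGeometry TopologicalSpace Opposite DirectSum
open HomogeneousLocalization

namespace Groth.Agent.RelTwEx

section Alg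
variable {A B σ τ : Type u} [CommRing A] [SetLike σ A] [AddSubgroupClass σ A] [CommRing B]
  [SetLike τ B] [AddSubgroupClass τ B] {𝒜 : ℕ → σ} [GradedRing 𝒜] {ℬ : ℕ → τ} [GradedRing ℬ]

/-- Homogeneous elements of `A[1/c]`, `c` of degree zero, lift to homogeneous elements of `A` after
multiplication by a power of `c`. -/
theorem exists_homog_lift (ψ : 𝒜 →+*ᵍ ℬ) (c : A) (hc : c ∈ 𝒜 0)
    (hloc : letI := ψ.toRingHom.toAlgebra; IsLocalization.Away c B) {i : ℕ} {b : B}
    (hb : b ∈ ℬ i) : ∃ (a : A) (k : ℕ), a ∈ 𝒜 i ∧ ψ a = b * ψ c ^ k := by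
  classical
  letI := ψ.toRingHom.toAlgebra
  haveI : IsLocalization (Submonoid.powers c) B := hloc
  obtain ⟨⟨a, s, hs⟩, has⟩ := IsLocalization.surj (Submonoid.powers c) b
  obtain ⟨k, rfl⟩ := (Submonoid.mem_powers_iff _ _).mp hs
  change b * ψ (c ^ k) = ψ a at has
  have hc0 : ψ (c ^ k) ∈ ℬ 0 := by
    rw [map_pow]
    exact SetLike.pow_mem_graded _ (ψ.map_mem hc)
  have hbi : b * ψ (c ^ k) ∈ ℬ i := by
    simpa only [add_zero] using SetLike.mul_mem_graded (A := ℬ) hb hc0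
  refine ⟨(DirectSum.decompose 𝒜 a i : A), k, SetLike.coe_mem _, ?_⟩
  rw [GradedRingHom.map_directSumDecompose, ← has, DirectSum.decompose_of_mem_same _ hbi, map_pow]

end Alg

section Rel
variable {Y P : Scheme.{u}} {𝒮 : RelProj.QCGrAlg Y} {p : P ⟶ Y}
  {chart : ∀ (U : Y.Opens) (hU : IsAffineOpen U),
    (((p ⁻¹ᵁ U : P.Opens) : Scheme.{u}) ≅ Proj (𝒮.deg U hU))}

theorem res_res_apply {U V W : Y.Opens} (hU : IsAffineOpen U) (hV : IsAffineOpen V)
    (hW : IsAffineOpen W) (i : V ≤ U) (j : W ≤ V) (b : 𝒮.presheaf.obj (op U)) :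
    𝒮.res hV hW j (𝒮.res hU hV i b) = 𝒮.res hU hW (j.trans i) b := by
  show (𝒮.presheaf.map (homOfLE j).op).hom ((𝒮.presheaf.map (homOfLE i).op).hom b) =
    (𝒮.presheaf.map (homOfLE (j.trans i)).op).hom b
  rw [← RingHom.comp_apply, ← CommRingCat.hom_comp, ← Functor.map_comp]
  rfl

theorem res_self_apply {U : Y.Opens} (hU : IsAffineOpen U) (b : 𝒮.presheaf.obj (op U)) :
    𝒮.res hU hU le_rfl b = b := by
  show (𝒮.presheaf.map (homOfLE (le_refl U)).op).hom b = b
  have h : (homOfLE (le_refl U)).op = 𝟙 (op U) := rfl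
  rw [h, 𝒮.presheaf.map_id]
  rfl

theorem emb_injective (V : Y.Opens) (hV : IsAffineOpen V) :
    Function.Injective (RelProj.emb p chart V hV) :=
  (RelProj.emb p chart V hV).isOpenEmbedding.injective

/-- Every point of `p⁻¹ D` is in the chart over `D`. -/
theorem exists_pt (D : Y.Opens) (hD : IsAffineOpen D) (x : P) (hx : x ∈ p ⁻¹ᵁ D) :
    ∃ y : ProjectiveSpectrum (𝒮.deg D hD), (RelProj.emb p chart D hD) y = x := by
  have h : x ∈ (RelProj.emb p chart D hD).opensRange := by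
    rw [Groth.Agent.GrTw.opensRange_emb]; exact hx
  exact h

/-- A point over two affine opens lies over an open which is basic in both. -/
theorem exists_common_basic {V V' : Y.Opens} (hV : IsAffineOpen V) (hV' : IsAffineOpen V') (x : P)
    (hx : x ∈ p ⁻¹ᵁ V) (hx' : x ∈ p ⁻¹ᵁ V') :
    ∃ (D : Y.Opens) (hD : IsAffineOpen D) (_ : D ≤ V) (_ : D ≤ V')
      (_ : ∃ r : Γ(Y, V), D = Y.basicOpen r) (_ : ∃ r' : Γ(Y, V'), D = Y.basicOpen r')
      (y : ProjectiveSpectrum (𝒮.deg D hD)), (RelProj.emb p chart D hD) y = x := by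
  obtain ⟨r, r', hrr', hxr⟩ := exists_basicOpen_le_affine_inter hV hV' (p x) ⟨hx, hx'⟩
  obtain ⟨y, hy⟩ := exists_pt (𝒮 := 𝒮) (chart := chart) (Y.basicOpen r) (hV.basicOpen r) x hxr
  exact ⟨Y.basicOpen r, hV.basicOpen r, Y.basicOpen_le r, hrr' ▸ Y.basicOpen_le r', ⟨r, rfl⟩,
    ⟨r', hrr'⟩, y, hy⟩

/-- A point over two affine opens lies over an affine open contained in both. -/
theorem exists_common_affine (V V' : Y.Opens) (x : P)
    (hx : x ∈ p ⁻¹ᵁ V) (hx' : x ∈ p ⁻¹ᵁ V') :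
    ∃ (D : Y.Opens) (hD : IsAffineOpen D) (_ : D ≤ V) (_ : D ≤ V')
      (y : ProjectiveSpectrum (𝒮.deg D hD)), (RelProj.emb p chart D hD) y = x := by
  obtain ⟨_, ⟨D, hD : IsAffineOpen D, rfl⟩, hxD, hDle⟩ :=
    (Y.isBasis_affineOpens).exists_subset_of_mem_open (show p x ∈ ((V ⊓ V' : Y.Opens) : Set Y)
      from ⟨hx, hx'⟩) (V ⊓ V').2
  obtain ⟨y, hy⟩ := exists_pt (𝒮 := 𝒮) (chart := chart) D hD x hxD
  exact ⟨D, hD, fun z hz => (hDle hz).1, fun z hz => (hDle hz).2, y, hy⟩

theorem ptCompat_basic (hP : RelProj.IsRelProj 𝒮 p chart) {V D : Y.Opens} (hV : IsAffineOpen V)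
    (hD : IsAffineOpen D) (hDV : D ≤ V) (hbas : ∃ r : Γ(Y, V), D = Y.basicOpen r)
    (y : ProjectiveSpectrum (𝒮.deg V hV)) (y' : ProjectiveSpectrum (𝒮.deg D hD))
    (h : (RelProj.emb p chart V hV) y = (RelProj.emb p chart D hD) y') :
    y.asHomogeneousIdeal.toIdeal =
      y'.asHomogeneousIdeal.toIdeal.comap (𝒮.res hV hD hDV).toRingHom := by
  obtain ⟨r, rfl⟩ := hbas
  have hy : y = ProjectiveSpectrum.comap (𝒮.res hV (hV.basicOpen r) (Y.basicOpen_le r))
      (𝒮.irrelevant_le_map V hV r) y' :=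
    emb_injective V hV (h.trans (Groth.Agent.GrTw.emb_comap hP V hV r y').symm)
  subst hy
  rfl

theorem ptCompat (hP : RelProj.IsRelProj 𝒮 p chart) {V V' : Y.Opens} (hV : IsAffineOpen V)
    (hV' : IsAffineOpen V') (hle : V' ≤ V)
    (y : ProjectiveSpectrum (𝒮.deg V hV)) (y' : ProjectiveSpectrum (𝒮.deg V' hV'))
    (h : (RelProj.emb p chart V hV) y = (RelProj.emb p chart V' hV') y') :
    y.asHomogeneousIdeal.toIdeal =
      y'.asHomogeneousIdeal.toIdeal.comap (𝒮.res hV hV' hle).toRingHom := by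
  obtain ⟨D, hD, hDV, hDV', hb, hb', y'', hy''⟩ := exists_common_basic (𝒮 := 𝒮) (chart := chart)
    hV hV' ((RelProj.emb p chart V hV) y) (Groth.Agent.GrTw.mem_preimage_of_emb V hV y)
    (h ▸ Groth.Agent.GrTw.mem_preimage_of_emb V' hV' y')
  have b1 := ptCompat_basic hP hV hD hDV hb y y'' hy''.symm
  have b2 := ptCompat_basic hP hV' hD hDV' hb' y' y'' (h.symm.trans hy''.symm)
  rw [b1, b2, Ideal.comap_comap]
  congr 1
  exact RingHom.ext fun a => (res_res_apply hV hV' hD hle hDV' a).symm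

/-- The canonical map between the localizations at corresponding points of two charts. -/
noncomputable def gloc (hP : RelProj.IsRelProj 𝒮 p chart) {V V' : Y.Opens} (hV : IsAffineOpen V)
    (hV' : IsAffineOpen V') (hle : V' ≤ V)
    (y : ProjectiveSpectrum (𝒮.deg V hV)) (y' : ProjectiveSpectrum (𝒮.deg V' hV'))
    (h : (RelProj.emb p chart V hV) y = (RelProj.emb p chart V' hV') y') :
    GrTwist.Loc (𝒮.deg V hV) y →+* GrTwist.Loc (𝒮.deg V' hV') y' :=
  Localization.localRingHom _ _ (𝒮.res hV hV' hle).toRingHom (ptCompat hP hV hV' hle y y' h)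

theorem gloc_mk (hP : RelProj.IsRelProj 𝒮 p chart) {V V' : Y.Opens} (hV : IsAffineOpen V)
    (hV' : IsAffineOpen V') (hle : V' ≤ V)
    (y : ProjectiveSpectrum (𝒮.deg V hV)) (y' : ProjectiveSpectrum (𝒮.deg V' hV'))
    (h : (RelProj.emb p chart V hV) y = (RelProj.emb p chart V' hV') y')
    (a s : 𝒮.presheaf.obj (op V)) (hs : s ∈ y.asHomogeneousIdeal.toIdeal.primeCompl)
    (hs' : 𝒮.res hV hV' hle s ∈ y'.asHomogeneousIdeal.toIdeal.primeCompl) :
    gloc hP hV hV' hle y y' h (Localization.mk a ⟨s, hs⟩) =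
      Localization.mk (𝒮.res hV hV' hle a) ⟨𝒮.res hV hV' hle s, hs'⟩ :=
  Localization.localRingHom_mk _ _ _ _ _ _

theorem gloc_comp (hP : RelProj.IsRelProj 𝒮 p chart) {V V' V'' : Y.Opens} (hV : IsAffineOpen V)
    (hV' : IsAffineOpen V') (hV'' : IsAffineOpen V'') (hle : V' ≤ V) (hle' : V'' ≤ V')
    (y : ProjectiveSpectrum (𝒮.deg V hV)) (y' : ProjectiveSpectrum (𝒮.deg V' hV'))
    (y'' : ProjectiveSpectrum (𝒮.deg V'' hV''))
    (h : (RelProj.emb p chart V hV) y = (RelProj.emb p chart V' hV') y')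
    (h' : (RelProj.emb p chart V' hV') y' = (RelProj.emb p chart V'' hV'') y'')
    (v : GrTwist.Loc (𝒮.deg V hV) y) :
    gloc hP hV' hV'' hle' y' y'' h' (gloc hP hV hV' hle y y' h v) =
      gloc hP hV hV'' (hle'.trans hle) y y'' (h.trans h') v := by
  have key : gloc hP hV hV'' (hle'.trans hle) y y'' (h.trans h') =
      (gloc hP hV' hV'' hle' y' y'' h').comp (gloc hP hV hV' hle y y' h) := by
    apply Localization.localRingHom_unique
    intro a
    show gloc hP hV' hV'' hle' y' y'' h' (gloc hP hV hV' hle y y' h (algebraMap _ _ a)) = _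
    unfold gloc
    rw [Localization.localRingHom_to_map, Localization.localRingHom_to_map]
    congr 1
    exact res_res_apply hV hV' hV'' hle hle' a
  rw [key]
  rfl

theorem gloc_self (hP : RelProj.IsRelProj 𝒮 p chart) {V : Y.Opens} (hV : IsAffineOpen V)
    (y : ProjectiveSpectrum (𝒮.deg V hV)) (v : GrTwist.Loc (𝒮.deg V hV) y) :
    gloc hP hV hV le_rfl y y rfl v = v := by
  have key : gloc hP hV hV le_rfl y y rfl = RingHom.id _ := by
    apply Localization.localRingHom_unique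
    intro a
    show algebraMap _ _ a = algebraMap _ _ ((𝒮.res hV hV le_rfl).toRingHom a)
    congr 1
    exact (res_self_apply hV a).symm
  rw [key]
  rfl

theorem gloc_bijective_basic (hP : RelProj.IsRelProj 𝒮 p chart) {V D : Y.Opens}
    (hV : IsAffineOpen V) (hD : IsAffineOpen D) (hDV : D ≤ V)
    (hbas : ∃ r : Γ(Y, V), D = Y.basicOpen r)
    (y : ProjectiveSpectrum (𝒮.deg V hV)) (y' : ProjectiveSpectrum (𝒮.deg D hD))
    (h : (RelProj.emb p chart V hV) y = (RelProj.emb p chart D hD) y') :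
    Function.Bijective (gloc hP hV hD hDV y y' h) := by
  obtain ⟨r, rfl⟩ := hbas
  exact localRingHom_bijective_of_away _ ((𝒮.str.app (op V)).hom r) (𝒮.isQC V hV r) _ _ _

theorem gloc_bijective (hP : RelProj.IsRelProj 𝒮 p chart) {V V' : Y.Opens} (hV : IsAffineOpen V)
    (hV' : IsAffineOpen V') (hle : V' ≤ V)
    (y : ProjectiveSpectrum (𝒮.deg V hV)) (y' : ProjectiveSpectrum (𝒮.deg V' hV'))
    (h : (RelProj.emb p chart V hV) y = (RelProj.emb p chart V' hV') y') :
    Function.Bijective (gloc hP hV hV' hle y y' h) := by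
  obtain ⟨D, hD, hDV, hDV', hb, hb', y'', hy''⟩ := exists_common_basic (𝒮 := 𝒮) (chart := chart)
    hV hV' ((RelProj.emb p chart V hV) y) (Groth.Agent.GrTw.mem_preimage_of_emb V hV y)
    (h ▸ Groth.Agent.GrTw.mem_preimage_of_emb V' hV' y')
  have b1 := gloc_bijective_basic hP hV hD hDV hb y y'' hy''.symm
  have b2 := gloc_bijective_basic hP hV' hD hDV' hb' y' y'' (h.symm.trans hy''.symm)
  have hc : (gloc hP hV' hD hDV' y' y'' (h.symm.trans hy''.symm)) ∘ (gloc hP hV hV' hle y y' h) =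
      gloc hP hV hD hDV y y'' hy''.symm := by
    funext v
    exact gloc_comp hP hV hV' hD hle hDV' y y' y'' h _ v
  rw [← Function.Bijective.of_comp_iff' b2, hc]
  exact b1

/-- The prelude's `locMap` along the restriction to a basic open is a `gloc`. -/
theorem locMap_eq_gloc (hP : RelProj.IsRelProj 𝒮 p chart) {V : Y.Opens} (hV : IsAffineOpen V)
    (r : Γ(Y, V)) (y : ProjectiveSpectrum (𝒮.deg (Y.basicOpen r) (hV.basicOpen r)))
    (v : GrTwist.Loc (𝒮.deg V hV) (ProjectiveSpectrum.comap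
      (𝒮.res hV (hV.basicOpen r) (Y.basicOpen_le r)) (𝒮.irrelevant_le_map V hV r) y)) :
    GrTwist.locMap (𝒮.res hV (hV.basicOpen r) (Y.basicOpen_le r)) (𝒮.irrelevant_le_map V hV r) y v =
      gloc hP hV (hV.basicOpen r) (Y.basicOpen_le r) _ y
        (Groth.Agent.GrTw.emb_comap hP V hV r y) v := rfl

end Rel

end Groth.Agent.RelTwEx
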