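import Mathlib
import Groth.Prelude
import Groth.Agent.Lib.RelTwEx2_helper5

/-!
# Existence of the relative twisting sheaves, part 3: a section of `O(n)` on an open of one chart
extends uniquely to a compatible family of chartwise sections (helper5)
-/

set_option autoImplicit false
universe u
open CategoryTheory CategoryTheory.Limits AlgebraicGeometry TopologicalSpace Opposite DirectSum
open HomogeneousLocalization

namespace Groth.Agent.RelTwEx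

section Alg
variable {A B σ τ : Type u} [CommRing A] [SetLike σ A] [AddSubgroupClass σ A] [CommRing B]
  [SetLike τ B] [AddSubgroupClass τ B] {𝒜 : ℕ → σ} [GradedRing 𝒜] {ℬ : ℕ → τ} [GradedRing ℬ]

theorem exists_homog_lift_pair (ψ : 𝒜 →+*ᵍ ℬ) (c : A) (hc : c ∈ 𝒜 0)
    (hloc : letI := ψ.toRingHom.toAlgebra; IsLocalization.Away c B) {i j : ℕ} {b b' : B}
    (hb : b ∈ ℬ i) (hb' : b' ∈ ℬ j) :
    ∃ (a s : A) (k : ℕ), a ∈ 𝒜 i ∧ s ∈ 𝒜 j ∧ ψ a = b * ψ c ^ k ∧ ψ s = b' * ψ c ^ k := by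
  obtain ⟨a, k, ha, hak⟩ := exists_homog_lift ψ c hc hloc hb
  obtain ⟨s, m, hs, hsm⟩ := exists_homog_lift ψ c hc hloc hb'
  have hpow : ∀ l : ℕ, c ^ l ∈ 𝒜 0 := fun l => by
    have := SetLike.pow_mem_graded (A := 𝒜) l hc
    simpa using this
  refine ⟨a * c ^ m, s * c ^ k, k + m, ?_, ?_, ?_, ?_⟩
  · simpa only [add_zero] using SetLike.mul_mem_graded (A := 𝒜) ha (hpow m)
  · simpa only [add_zero] using SetLike.mul_mem_graded (A := 𝒜) hs (hpow k)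
  · rw [map_mul, map_pow, hak, pow_add, mul_assoc]
  · rw [map_mul, map_pow, hsm, pow_add, mul_assoc, mul_comm (ψ c ^ m)]

end Alg

section Ext
variable {Y P : Scheme.{u}} {𝒮 : RelProj.QCGrAlg Y} {p : P ⟶ Y}
  {chart : ∀ (U : Y.Opens) (hU : IsAffineOpen U),
    (((p ⁻¹ᵁ U : P.Opens) : Scheme.{u}) ≅ Proj (𝒮.deg U hU))}
  (hP : RelProj.IsRelProj 𝒮 p chart) (n : ℤ)
  {U₀ : Y.Opens} (hU₀ : IsAffineOpen U₀) {W : P.Opens}
  (t₀ : Γ(GrTwist.twist (𝒮.deg U₀ hU₀) n, (RelProj.emb p chart U₀ hU₀) ⁻¹ᵁ W))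

/-- `v` is the value at the point `y` of the chart over `V` of the extension of `t₀`. -/
def IsVal {V : Y.Opens} (hV : IsAffineOpen V) (y : ProjectiveSpectrum (𝒮.deg V hV))
    (v : GrTwist.Loc (𝒮.deg V hV) y) : Prop :=
  ∀ (D : Y.Opens) (hD : IsAffineOpen D) (hDU : D ≤ U₀) (hDV : D ≤ V)
    (yD : ProjectiveSpectrum (𝒮.deg D hD)) (y₀ : ProjectiveSpectrum (𝒮.deg U₀ hU₀))
    (hy₀ : (RelProj.emb p chart U₀ hU₀) y₀ ∈ W)
    (h₀ : (RelProj.emb p chart U₀ hU₀) y₀ = (RelProj.emb p chart D hD) yD)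
    (h : (RelProj.emb p chart V hV) y = (RelProj.emb p chart D hD) yD),
    gloc hP hV hD hDV y yD h v =
      gloc hP hU₀ hD hDU y₀ yD h₀ (GrTwist.val t₀ ⟨y₀, hy₀⟩)

variable {hP n hU₀ t₀}

theorem isVal_of_one {V : Y.Opens} (hV : IsAffineOpen V) (y : ProjectiveSpectrum (𝒮.deg V hV))
    (v : GrTwist.Loc (𝒮.deg V hV) y)
    (D : Y.Opens) (hD : IsAffineOpen D) (hDU : D ≤ U₀) (hDV : D ≤ V)
    (yD : ProjectiveSpectrum (𝒮.deg D hD)) (y₀ : ProjectiveSpectrum (𝒮.deg U₀ hU₀))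
    (hy₀ : (RelProj.emb p chart U₀ hU₀) y₀ ∈ W)
    (h₀ : (RelProj.emb p chart U₀ hU₀) y₀ = (RelProj.emb p chart D hD) yD)
    (h : (RelProj.emb p chart V hV) y = (RelProj.emb p chart D hD) yD)
    (heq : gloc hP hV hD hDV y yD h v =
      gloc hP hU₀ hD hDU y₀ yD h₀ (GrTwist.val t₀ ⟨y₀, hy₀⟩)) :
    IsVal hP n hU₀ t₀ hV y v := by
  intro D' hD' hDU' hDV' yD' y₀' hy₀' h₀' h'
  have e : y₀' = y₀ := emb_injective U₀ hU₀ (h₀'.trans (h'.symm.trans (h.trans h₀.symm)))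
  subst e
  obtain ⟨D'', hD'', hle1, hle2, y'', hy''⟩ := exists_common_affine (𝒮 := 𝒮) (chart := chart) D D'
    ((RelProj.emb p chart V hV) y) (h ▸ Groth.Agent.GrTw.mem_preimage_of_emb D hD yD)
    (h' ▸ Groth.Agent.GrTw.mem_preimage_of_emb D' hD' yD')
  apply (gloc_bijective hP hD' hD'' hle2 yD' y'' (h'.symm.trans hy''.symm)).1
  rw [gloc_comp, gloc_comp]
  have e1 := gloc_comp hP hV hD hD'' hDV hle1 y yD y'' h (h.symm.trans hy''.symm) v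
  have e2 := gloc_comp hP hU₀ hD hD'' hDU hle1 y₀' yD y'' h₀ (h.symm.trans hy''.symm)
    (GrTwist.val t₀ ⟨y₀', hy₀⟩)
  exact e1.symm.trans ((congrArg _ heq).trans e2)

/-- A fraction over `U₀` read in the chart over `V` through an affine open `D ⊆ U₀ ∩ V`. -/
theorem frac_point {V D : Y.Opens} (hV : IsAffineOpen V) (hD : IsAffineOpen D) (hDV : D ≤ V)
    (hDU : D ≤ U₀) (ρ : 𝒮.presheaf.obj (op D)) (hu : IsUnit ρ) (k : ℕ)
    (a s : 𝒮.presheaf.obj (op U₀)) (a' s' : 𝒮.presheaf.obj (op V))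
    (hak : 𝒮.res hV hD hDV a' = 𝒮.res hU₀ hD hDU a * ρ ^ k)
    (hsk : 𝒮.res hV hD hDV s' = 𝒮.res hU₀ hD hDU s * ρ ^ k)
    (x : ProjectiveSpectrum (𝒮.deg V hV)) (z₀ : ProjectiveSpectrum (𝒮.deg U₀ hU₀))
    (zD : ProjectiveSpectrum (𝒮.deg D hD))
    (hz₀ : (RelProj.emb p chart U₀ hU₀) z₀ = (RelProj.emb p chart D hD) zD)
    (hx : (RelProj.emb p chart V hV) x = (RelProj.emb p chart D hD) zD)
    (hs : s ∉ z₀.asHomogeneousIdeal) (hz₀W : (RelProj.emb p chart U₀ hU₀) z₀ ∈ W)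
    (hval : GrTwist.val t₀ ⟨z₀, hz₀W⟩ = Localization.mk a ⟨s, hs⟩) :
    ∃ hs' : s' ∉ x.asHomogeneousIdeal,
      IsVal hP n hU₀ t₀ hV x (Localization.mk a' ⟨s', hs'⟩) := by
  have I1 := ptCompat hP hV hD hDV x zD hx
  have I0 := ptCompat hP hU₀ hD hDU z₀ zD hz₀
  have hs0 : 𝒮.res hU₀ hD hDU s ∉ zD.asHomogeneousIdeal.toIdeal := by
    intro hmem
    apply hs
    have : s ∈ z₀.asHomogeneousIdeal.toIdeal := by rw [I0]; exact hmem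
    exact this
  have hs1 : 𝒮.res hV hD hDV s' ∉ zD.asHomogeneousIdeal.toIdeal := by
    intro h1
    rw [hsk] at h1
    obtain ⟨w, hw⟩ := (hu.pow k).exists_right_inv
    have := Ideal.mul_mem_right w _ h1
    rw [mul_assoc, hw, mul_one] at this
    exact hs0 this
  have hs' : s' ∉ x.asHomogeneousIdeal := by
    intro hmem
    have h1 : s' ∈ x.asHomogeneousIdeal.toIdeal := hmem
    rw [I1] at h1
    exact hs1 h1
  refine ⟨hs', isVal_of_one hV x _ D hD hDU hDV zD z₀ hz₀W hz₀ hx ?_⟩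
  rw [hval]
  refine (gloc_mk hP hV hD hDV x zD hx a' s' hs' hs1).trans ?_
  refine Eq.trans ?_ (gloc_mk hP hU₀ hD hDU z₀ zD hz₀ a s hs hs0).symm
  rw [Localization.mk_eq_mk_iff, Localization.r_iff_exists]
  refine ⟨1, ?_⟩
  show (1 : 𝒮.presheaf.obj (op D)) * (𝒮.res hU₀ hD hDU s * 𝒮.res hV hD hDV a') =
    1 * (𝒮.res hV hD hDV s' * 𝒮.res hU₀ hD hDU a)
  rw [hak, hsk]
  ring

variable (hW : W ≤ p ⁻¹ᵁ U₀)
include hW

theorem exists_isVal {V : Y.Opens} (hV : IsAffineOpen V) (y : ProjectiveSpectrum (𝒮.deg V hV))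
    (hy : (RelProj.emb p chart V hV) y ∈ W) : ∃ v, IsVal hP n hU₀ t₀ hV y v := by
  have hx0 : (RelProj.emb p chart V hV) y ∈ p ⁻¹ᵁ U₀ := hW hy
  obtain ⟨D, hD, hDU, hDV, yD, hyD⟩ := exists_common_affine (𝒮 := 𝒮) (chart := chart) U₀ V
    ((RelProj.emb p chart V hV) y) hx0 (Groth.Agent.GrTw.mem_preimage_of_emb V hV y)
  obtain ⟨y₀, hy₀⟩ := exists_pt (𝒮 := 𝒮) (chart := chart) U₀ hU₀ _ hx0
  have hy₀W : (RelProj.emb p chart U₀ hU₀) y₀ ∈ W := hy₀ ▸ hy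
  obtain ⟨v, hv⟩ := (gloc_bijective hP hV hD hDV y yD hyD.symm).2
    (gloc hP hU₀ hD hDU y₀ yD (hy₀.trans hyD.symm) (GrTwist.val t₀ ⟨y₀, hy₀W⟩))
  exact ⟨v, isVal_of_one hV y v D hD hDU hDV yD y₀ hy₀W _ _ hv⟩

theorem isVal_unique {V : Y.Opens} (hV : IsAffineOpen V) (y : ProjectiveSpectrum (𝒮.deg V hV))
    (hy : (RelProj.emb p chart V hV) y ∈ W) (v v' : GrTwist.Loc (𝒮.deg V hV) y)
    (hv : IsVal hP n hU₀ t₀ hV y v) (hv' : IsVal hP n hU₀ t₀ hV y v') : v = v' := by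
  have hx0 : (RelProj.emb p chart V hV) y ∈ p ⁻¹ᵁ U₀ := hW hy
  obtain ⟨D, hD, hDU, hDV, yD, hyD⟩ := exists_common_affine (𝒮 := 𝒮) (chart := chart) U₀ V
    ((RelProj.emb p chart V hV) y) hx0 (Groth.Agent.GrTw.mem_preimage_of_emb V hV y)
  obtain ⟨y₀, hy₀⟩ := exists_pt (𝒮 := 𝒮) (chart := chart) U₀ hU₀ _ hx0
  have hy₀W : (RelProj.emb p chart U₀ hU₀) y₀ ∈ W := hy₀ ▸ hy
  apply (gloc_bijective hP hV hD hDV y yD hyD.symm).1
  exact (hv D hD hDU hDV yD y₀ hy₀W (hy₀.trans hyD.symm) hyD.symm).trans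
    (hv' D hD hDU hDV yD y₀ hy₀W (hy₀.trans hyD.symm) hyD.symm).symm

/-- The value of the extension of `t₀` at a point of the chart over `V`. -/
noncomputable def extVal {V : Y.Opens} (hV : IsAffineOpen V)
    (y : ((RelProj.emb p chart V hV) ⁻¹ᵁ W : (Proj (𝒮.deg V hV)).Opens)) :
    GrTwist.Loc (𝒮.deg V hV) y.1 :=
  Classical.choose (exists_isVal (hP := hP) (n := n) (hU₀ := hU₀) (t₀ := t₀) hW hV y.1 y.2)

theorem isVal_extVal {V : Y.Opens} (hV : IsAffineOpen V)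
    (y : ((RelProj.emb p chart V hV) ⁻¹ᵁ W : (Proj (𝒮.deg V hV)).Opens)) :
    IsVal hP n hU₀ t₀ hV y.1 (extVal (hP := hP) (n := n) (hU₀ := hU₀) (t₀ := t₀) hW hV y) :=
  Classical.choose_spec (exists_isVal (hP := hP) (n := n) (hU₀ := hU₀) (t₀ := t₀) hW hV y.1 y.2)

/-- The extension of `t₀` is locally a fraction. -/
theorem extVal_locFrac {V : Y.Opens} (hV : IsAffineOpen V)
    (y : ((RelProj.emb p chart V hV) ⁻¹ᵁ W : (Proj (𝒮.deg V hV)).Opens)) :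
    ∃ (O : Opens (ProjectiveSpectrum.top (𝒮.deg V hV))) (_ : y.1 ∈ O)
      (hO : O ≤ ((RelProj.emb p chart V hV) ⁻¹ᵁ W : (Proj (𝒮.deg V hV)).Opens))
      (i j : ℕ) (a : 𝒮.deg V hV i) (s : 𝒮.deg V hV j)
      (s_nin : ∀ x : O, (s : 𝒮.presheaf.obj (op V)) ∉ x.1.asHomogeneousIdeal),
      ((i : ℤ) = j + n ∨ (a : 𝒮.presheaf.obj (op V)) = 0) ∧
      ∀ x : O, extVal (hP := hP) (n := n) (hU₀ := hU₀) (t₀ := t₀) hW hV ⟨x.1, hO x.2⟩ =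
        Localization.mk (a : 𝒮.presheaf.obj (op V)) ⟨(s : 𝒮.presheaf.obj (op V)), s_nin x⟩ := by
  classical
  have hyW : (RelProj.emb p chart V hV) y.1 ∈ W := y.2
  have hx0 : (RelProj.emb p chart V hV) y.1 ∈ p ⁻¹ᵁ U₀ := hW hyW
  obtain ⟨D, hD, hDV, hDU, hb, -, yD, hyD⟩ := exists_common_basic (𝒮 := 𝒮) (chart := chart) hV hU₀
    _ (Groth.Agent.GrTw.mem_preimage_of_emb V hV y.1) hx0
  obtain ⟨y₀, hy₀⟩ := exists_pt (𝒮 := 𝒮) (chart := chart) U₀ hU₀ _ hx0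
  have hy₀W : (RelProj.emb p chart U₀ hU₀) y₀ ∈ W := hy₀ ▸ hyW
  obtain ⟨O₀, m₀, iO, i, j, a, s, nin, hij, hfrac⟩ :=
    (show GrTwist.sectN (𝒜 := 𝒮.deg U₀ hU₀) n (op _) from t₀).2 ⟨y₀, hy₀W⟩
  obtain ⟨r, rfl⟩ := hb
  obtain ⟨a', s', k, ha', hs', hak, hsk, ha0⟩ : ∃ (a' s' : 𝒮.presheaf.obj (op V)) (k : ℕ),
      a' ∈ 𝒮.deg V hV i ∧ s' ∈ 𝒮.deg V hV j ∧
      𝒮.res hV hD hDV a' = 𝒮.res hU₀ hD hDU a *
        (𝒮.res hV hD hDV ((𝒮.str.app (op V)).hom r)) ^ k ∧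
      𝒮.res hV hD hDV s' = 𝒮.res hU₀ hD hDU s *
        (𝒮.res hV hD hDV ((𝒮.str.app (op V)).hom r)) ^ k ∧
      ((a : 𝒮.presheaf.obj (op U₀)) = 0 → a' = 0) := by
    obtain ⟨a', s', k, ha', hs', hak, hsk⟩ := exists_homog_lift_pair (𝒮.res hV hD hDV)
      ((𝒮.str.app (op V)).hom r) (𝒮.str_mem V hV r) (𝒮.isQC V hV r)
      (b := 𝒮.res hU₀ hD hDU a) (b' := 𝒮.res hU₀ hD hDU s)
      ((𝒮.res hU₀ hD hDU).map_mem a.2) ((𝒮.res hU₀ hD hDU).map_mem s.2)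
    by_cases h0 : (a : 𝒮.presheaf.obj (op U₀)) = 0
    · exact ⟨0, s', k, zero_mem _, hs', by rw [h0, map_zero, map_zero, zero_mul], hsk,
        fun _ => rfl⟩
    · exact ⟨a', s', k, ha', hs', hak, hsk, fun h => absurd h h0⟩
  have hu : IsUnit (𝒮.res hV hD hDV ((𝒮.str.app (op V)).hom r)) := by
    letI := (𝒮.presheaf.map (homOfLE (Y.basicOpen_le r)).op).hom.toAlgebra
    haveI : IsLocalization.Away ((𝒮.str.app (op V)).hom r)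
      (𝒮.presheaf.obj (op (Y.basicOpen r))) := 𝒮.isQC V hV r
    exact IsLocalization.map_units (M := Submonoid.powers ((𝒮.str.app (op V)).hom r))
      (𝒮.presheaf.obj (op (Y.basicOpen r))) ⟨_, 1, pow_one _⟩
  let O : (Proj (𝒮.deg V hV)).Opens := (RelProj.emb p chart V hV) ⁻¹ᵁ
    (W ⊓ p ⁻¹ᵁ (Y.basicOpen r) ⊓
      (RelProj.emb p chart U₀ hU₀) ''ᵁ (show (Proj (𝒮.deg U₀ hU₀)).Opens from O₀))
  have hyO : y.1 ∈ O :=
    ⟨⟨hyW, hyD ▸ Groth.Agent.GrTw.mem_preimage_of_emb _ hD yD⟩, ⟨y₀, m₀, hy₀⟩⟩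
  have hO : O ≤ ((RelProj.emb p chart V hV) ⁻¹ᵁ W : (Proj (𝒮.deg V hV)).Opens) :=
    fun x hx => hx.1.1
  have key : ∀ x : O, ∃ hs'' : s' ∉ x.1.asHomogeneousIdeal,
      IsVal hP n hU₀ t₀ hV x.1 (Localization.mk a' ⟨s', hs''⟩) := by
    intro x
    obtain ⟨⟨hxW, hxD⟩, ⟨z₀, hz₀, hz₀x⟩⟩ := x.2
    obtain ⟨zD, hzD⟩ := exists_pt (𝒮 := 𝒮) (chart := chart) _ hD _ hxD
    have hz₀W : (RelProj.emb p chart U₀ hU₀) z₀ ∈ W := by
      have : (RelProj.emb p chart U₀ hU₀) z₀ = (RelProj.emb p chart V hV) x.1 := hz₀x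
      rw [this]; exact hxW
    exact frac_point hV hD hDV hDU _ hu k a s a' s' hak hsk x.1 z₀ zD (hz₀x.trans hzD.symm)
      hzD.symm (nin ⟨z₀, hz₀⟩) hz₀W (hfrac ⟨z₀, hz₀⟩)
  refine ⟨O, hyO, hO, i, j, ⟨a', ha'⟩, ⟨s', hs'⟩, fun x => (key x).1, ?_, fun x => ?_⟩
  · rcases hij with h | h
    · exact Or.inl h
    · exact Or.inr (ha0 h)
  · exact isVal_unique hW hV x.1 (hO x.2) _ _ (isVal_extVal hW hV ⟨x.1, hO x.2⟩) (key x).2

end Ext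

end Groth.Agent.RelTwEx
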