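import Mathlib
import Groth.Prelude
import Groth.Agent.Lib.RelTwEx3_helper5

/-!
# Existence of the relative twisting sheaves, part 4: the extension of a section over one chart to
a compatible family of chartwise sections, and its uniqueness (helper5)
-/

set_option autoImplicit false
universe u
open CategoryTheory CategoryTheory.Limits AlgebraicGeometry TopologicalSpace Opposite DirectSum
open HomogeneousLocalization

namespace Groth.Agent.RelTwEx

section Ext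
variable {Y P : Scheme.{u}} {𝒮 : RelProj.QCGrAlg Y} {p : P ⟶ Y}
  {chart : ∀ (U : Y.Opens) (hU : IsAffineOpen U),
    (((p ⁻¹ᵁ U : P.Opens) : Scheme.{u}) ≅ Proj (𝒮.deg U hU))}
  (hP : RelProj.IsRelProj 𝒮 p chart) (n : ℤ)
  {U₀ : Y.Opens} (hU₀ : IsAffineOpen U₀) {W : P.Opens}
  (t₀ : Γ(GrTwist.twist (𝒮.deg U₀ hU₀) n, (RelProj.emb p chart U₀ hU₀) ⁻¹ᵁ W))
  (hW : W ≤ p ⁻¹ᵁ U₀)

include hW in
theorem extVal_mem {V : Y.Opens} (hV : IsAffineOpen V)
    (y : ((RelProj.emb p chart V hV) ⁻¹ᵁ W : (Proj (𝒮.deg V hV)).Opens)) :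
    extVal (hP := hP) (n := n) (hU₀ := hU₀) (t₀ := t₀) hW hV y ∈
      GrTwist.twistAt (𝒮.deg V hV) n y.1 := by
  obtain ⟨O, hyO, hO, i, j, a, s, s_nin, hij, hfrac⟩ :=
    extVal_locFrac (hP := hP) (n := n) (hU₀ := hU₀) (t₀ := t₀) hW hV y
  have h := hfrac ⟨y.1, hyO⟩
  have h' : extVal (hP := hP) (n := n) (hU₀ := hU₀) (t₀ := t₀) hW hV y =
      Localization.mk (a : 𝒮.presheaf.obj (op V))
        ⟨(s : 𝒮.presheaf.obj (op V)), s_nin ⟨y.1, hyO⟩⟩ := h
  rw [h']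
  rcases hij with hij | ha0
  · exact Submodule.subset_span ⟨i, j, a, s, s_nin ⟨y.1, hyO⟩, hij, rfl⟩
  · rw [ha0, Localization.mk_zero]
    exact zero_mem _

/-- The extension of `t₀` to the chart over `V`. -/
noncomputable def extSec {V : Y.Opens} (hV : IsAffineOpen V) :
    Γ(GrTwist.twist (𝒮.deg V hV) n, (RelProj.emb p chart V hV) ⁻¹ᵁ W) :=
  (show GrTwist.sectN (𝒜 := 𝒮.deg V hV) n (op ((RelProj.emb p chart V hV) ⁻¹ᵁ W)) from
    ⟨fun y => ⟨extVal (hP := hP) (n := n) (hU₀ := hU₀) (t₀ := t₀) hW hV y,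
        extVal_mem hP n hU₀ t₀ hW hV y⟩,
      fun y => by
        obtain ⟨O, hyO, hO, i, j, a, s, s_nin, hij, hfrac⟩ :=
          extVal_locFrac (hP := hP) (n := n) (hU₀ := hU₀) (t₀ := t₀) hW hV y
        exact ⟨O, hyO, homOfLE hO, i, j, a, s, s_nin, hij, fun x => hfrac x⟩⟩)

theorem val_extSec {V : Y.Opens} (hV : IsAffineOpen V)
    (y : ((RelProj.emb p chart V hV) ⁻¹ᵁ W : (Proj (𝒮.deg V hV)).Opens)) :
    GrTwist.val (extSec hP n hU₀ t₀ hW hV) y =
      extVal (hP := hP) (n := n) (hU₀ := hU₀) (t₀ := t₀) hW hV y := rfl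

/-- The extension restricts to `t₀` on the chart over `U₀`. -/
theorem extSec_self : extSec hP n hU₀ t₀ hW hU₀ = t₀ := by
  apply Groth.Agent.GrTw.ext_val
  intro y
  rw [val_extSec]
  refine isVal_unique hW hU₀ y.1 y.2 _ _ (isVal_extVal hW hU₀ y) ?_
  intro D hD hDU hDV yD y₀ hy₀ h₀ h
  have e : y₀ = y.1 := emb_injective U₀ hU₀ (h₀.trans h.symm)
  subst e
  rfl

/-- The extensions form a compatible family. -/
theorem chartCompat_extSec :
    Groth.Agent.GrTw.ChartCompat (𝒮 := 𝒮) (p := p) (chart := chart) (n := n) W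
      (fun V hV => extSec hP n hU₀ t₀ hW hV) := by
  intro V hV r y hy hy'
  rw [val_extSec, val_extSec, locMap_eq_gloc hP hV r y]
  refine isVal_unique hW (hV.basicOpen r) y hy _ _ (isVal_extVal hW (hV.basicOpen r) ⟨y, hy⟩) ?_
  intro D hD hDU hDV yD y₀ hy₀ h₀ h
  rw [gloc_comp]
  exact isVal_extVal (hP := hP) (n := n) (hU₀ := hU₀) (t₀ := t₀) hW hV ⟨_, hy'⟩ D hD hDU
    (hDV.trans (Y.basicOpen_le r)) yD y₀ hy₀ h₀ _

variable {hP n hU₀ t₀}

/-- The compatibility of a family along a basic open, in terms of `gloc`. -/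
theorem compat_gen
    (t : ∀ (V : Y.Opens) (hV : IsAffineOpen V),
      Γ(GrTwist.twist (𝒮.deg V hV) n, (RelProj.emb p chart V hV) ⁻¹ᵁ W))
    (ht : Groth.Agent.GrTw.ChartCompat (𝒮 := 𝒮) (p := p) (chart := chart) (n := n) W t)
    {V D : Y.Opens} (hV : IsAffineOpen V) (hD : IsAffineOpen D) (hDV : D ≤ V)
    (hbas : ∃ r : Γ(Y, V), D = Y.basicOpen r)
    (y : ProjectiveSpectrum (𝒮.deg V hV)) (yD : ProjectiveSpectrum (𝒮.deg D hD))
    (h : (RelProj.emb p chart V hV) y = (RelProj.emb p chart D hD) yD)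
    (hy : (RelProj.emb p chart V hV) y ∈ W) (hyD : (RelProj.emb p chart D hD) yD ∈ W) :
    GrTwist.val (t D hD) ⟨yD, hyD⟩ = gloc hP hV hD hDV y yD h (GrTwist.val (t V hV) ⟨y, hy⟩) := by
  obtain ⟨r, rfl⟩ := hbas
  have e : y = ProjectiveSpectrum.comap (𝒮.res hV (hV.basicOpen r) (Y.basicOpen_le r))
      (𝒮.irrelevant_le_map V hV r) yD :=
    emb_injective V hV (h.trans (Groth.Agent.GrTw.emb_comap hP V hV r yD).symm)
  subst e
  exact ht V hV r yD hyD hy

include hW in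
/-- The values of a compatible family are the values of the extension of its `U₀`-component. -/
theorem isVal_of_chartCompat
    (t : ∀ (V : Y.Opens) (hV : IsAffineOpen V),
      Γ(GrTwist.twist (𝒮.deg V hV) n, (RelProj.emb p chart V hV) ⁻¹ᵁ W))
    (ht : Groth.Agent.GrTw.ChartCompat (𝒮 := 𝒮) (p := p) (chart := chart) (n := n) W t)
    (htU : t U₀ hU₀ = t₀) {V : Y.Opens} (hV : IsAffineOpen V)
    (y : ((RelProj.emb p chart V hV) ⁻¹ᵁ W : (Proj (𝒮.deg V hV)).Opens)) :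
    IsVal hP n hU₀ t₀ hV y.1 (GrTwist.val (t V hV) y) := by
  subst htU
  have hyW : (RelProj.emb p chart V hV) y.1 ∈ W := y.2
  have hx0 : (RelProj.emb p chart V hV) y.1 ∈ p ⁻¹ᵁ U₀ := hW hyW
  obtain ⟨D, hD, hDV, hDU, hb, hb', yD, hyD⟩ := exists_common_basic (𝒮 := 𝒮) (chart := chart) hV
    hU₀ _ (Groth.Agent.GrTw.mem_preimage_of_emb V hV y.1) hx0
  obtain ⟨y₀, hy₀⟩ := exists_pt (𝒮 := 𝒮) (chart := chart) U₀ hU₀ _ hx0
  have hy₀W : (RelProj.emb p chart U₀ hU₀) y₀ ∈ W := hy₀ ▸ hyW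
  have hyDW : (RelProj.emb p chart D hD) yD ∈ W := hyD ▸ hyW
  have c1 := compat_gen (hP := hP) t ht hV hD hDV hb y.1 yD hyD.symm hyW hyDW
  have c2 := compat_gen (hP := hP) t ht hU₀ hD hDU hb' y₀ yD (hy₀.trans hyD.symm) hy₀W hyDW
  exact isVal_of_one hV y.1 _ D hD hDU hDV yD y₀ hy₀W (hy₀.trans hyD.symm) hyD.symm
    (c1.symm.trans c2)

include hW in
/-- **Uniqueness**: a compatible family over an open of the chart over `U₀` is the extension of its
`U₀`-component. -/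
theorem eq_extSec_of_chartCompat
    (t : ∀ (V : Y.Opens) (hV : IsAffineOpen V),
      Γ(GrTwist.twist (𝒮.deg V hV) n, (RelProj.emb p chart V hV) ⁻¹ᵁ W))
    (ht : Groth.Agent.GrTw.ChartCompat (𝒮 := 𝒮) (p := p) (chart := chart) (n := n) W t)
    (htU : t U₀ hU₀ = t₀) {V : Y.Opens} (hV : IsAffineOpen V) :
    t V hV = extSec hP n hU₀ t₀ hW hV := by
  apply Groth.Agent.GrTw.ext_val
  intro y
  rw [val_extSec]
  exact isVal_unique hW hV y.1 y.2 _ _ (isVal_of_chartCompat hW t ht htU hV y)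
    (isVal_extVal hW hV y)

end Ext

end Groth.Agent.RelTwEx
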