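import Mathlib
import Groth.Prelude
import Groth.Agent.Lib.RelTwEx4_helper5
import Groth.Agent.Lib.GrTwO_helper5

/-!
# Existence of the relative twisting sheaves, part 5: the module `O_P(n)` as the limit of the direct
images of the chartwise twisting sheaves (helper5)
-/

set_option autoImplicit false
universe u
open CategoryTheory CategoryTheory.Limits AlgebraicGeometry TopologicalSpace Opposite DirectSum
open HomogeneousLocalization

namespace Groth.Agent.RelTwEx

section Constr
variable {Y P : Scheme.{u}} (𝒮 : RelProj.QCGrAlg Y) (p : P ⟶ Y)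
  (chart : ∀ (U : Y.Opens) (hU : IsAffineOpen U),
    (((p ⁻¹ᵁ U : P.Opens) : Scheme.{u}) ≅ Proj (𝒮.deg U hU)))
  (hP : RelProj.IsRelProj 𝒮 p chart) (n : ℤ)

/-- The direct image on `P` of the twisting sheaf of the chart over `V`. -/
noncomputable abbrev pushTw (V : Y.Opens) (hV : IsAffineOpen V) : P.Modules :=
  (Scheme.Modules.pushforward (RelProj.emb p chart V hV)).obj (GrTwist.twist (𝒮.deg V hV) n)

variable {𝒮 p chart}

include hP in
theorem comap_mem (V : Y.Opens) (hV : IsAffineOpen V) (r : Γ(Y, V)) (W : P.Opens) :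
    (((RelProj.emb p chart (Y.basicOpen r) (hV.basicOpen r)) ⁻¹ᵁ W :
        (Proj (𝒮.deg (Y.basicOpen r) (hV.basicOpen r))).Opens) :
      Opens (ProjectiveSpectrum.top (𝒮.deg (Y.basicOpen r) (hV.basicOpen r)))).1 ⊆
      ProjectiveSpectrum.comap (𝒮.res hV (hV.basicOpen r) (Y.basicOpen_le r))
        (𝒮.irrelevant_le_map V hV r) ⁻¹'
        (((RelProj.emb p chart V hV) ⁻¹ᵁ W : (Proj (𝒮.deg V hV)).Opens) :
          Opens (ProjectiveSpectrum.top (𝒮.deg V hV))).1 := by
  intro y hy
  show (RelProj.emb p chart V hV) (ProjectiveSpectrum.comap _ _ y) ∈ W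
  rw [Groth.Agent.GrTw.emb_comap hP V hV r y]
  exact hy

/-- Sectionwise comparison map from the chart over `V` to the chart over `D(r)`. -/
noncomputable def cmpFun (V : Y.Opens) (hV : IsAffineOpen V) (r : Γ(Y, V)) (W : P.Opens)
    (t : Γ(pushTw 𝒮 p chart n V hV, W)) :
    Γ(pushTw 𝒮 p chart n (Y.basicOpen r) (hV.basicOpen r), W) :=
  GrTwist.comapApp (𝒮.res hV (hV.basicOpen r) (Y.basicOpen_le r)) (𝒮.irrelevant_le_map V hV r) n
    ((RelProj.emb p chart V hV) ⁻¹ᵁ W) ((RelProj.emb p chart _ (hV.basicOpen r)) ⁻¹ᵁ W)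
    (comap_mem hP V hV r W) t

theorem val_cmpFun (V : Y.Opens) (hV : IsAffineOpen V) (r : Γ(Y, V)) (W : P.Opens)
    (t : Γ(pushTw 𝒮 p chart n V hV, W))
    (y : ProjectiveSpectrum (𝒮.deg (Y.basicOpen r) (hV.basicOpen r)))
    (hy : (RelProj.emb p chart (Y.basicOpen r) (hV.basicOpen r)) y ∈ W)
    (hy' : (RelProj.emb p chart V hV) (ProjectiveSpectrum.comap
      (𝒮.res hV (hV.basicOpen r) (Y.basicOpen_le r)) (𝒮.irrelevant_le_map V hV r) y) ∈ W) :
    GrTwist.val (V := (RelProj.emb p chart (Y.basicOpen r) (hV.basicOpen r)) ⁻¹ᵁ W)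
        (cmpFun hP n V hV r W t) ⟨y, hy⟩ =
      GrTwist.locMap (𝒮.res hV (hV.basicOpen r) (Y.basicOpen_le r)) (𝒮.irrelevant_le_map V hV r) y
        (GrTwist.val (V := (RelProj.emb p chart V hV) ⁻¹ᵁ W) t ⟨_, hy'⟩) := rfl

/-- The comparison morphism from the chart over `V` to the chart over `D(r)`. -/
noncomputable def cmp (V : Y.Opens) (hV : IsAffineOpen V) (r : Γ(Y, V)) :
    pushTw 𝒮 p chart n V hV ⟶ pushTw 𝒮 p chart n (Y.basicOpen r) (hV.basicOpen r) :=
  Groth.Agent.FinGG.homOfSections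
    (M := pushTw 𝒮 p chart n V hV)
    (P := pushTw 𝒮 p chart n (Y.basicOpen r) (hV.basicOpen r))
    (fun W => AddMonoidHom.mk' (fun t => cmpFun hP n V hV r W t) (fun a b => by
      apply Groth.Agent.GrTw.ext_val
      intro y
      refine Eq.trans ?_ (Groth.Agent.GrTw.val_add (𝒮.deg _ (hV.basicOpen r)) _ _ y).symm
      have hy' := comap_mem hP V hV r W y.2
      rw [val_cmpFun hP n V hV r W _ y.1 y.2 hy', val_cmpFun hP n V hV r W _ y.1 y.2 hy',
        val_cmpFun hP n V hV r W _ y.1 y.2 hy']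
      refine Eq.trans ?_ (map_add _ _ _)
      congr 1))
    (fun W c m => by
      apply Groth.Agent.GrTw.ext_val
      intro y
      have hy' := comap_mem hP V hV r W y.2
      show GrTwist.val (cmpFun hP n V hV r W
          ((((RelProj.emb p chart V hV).app W).hom c) •
            (show Γ(GrTwist.twist (𝒮.deg V hV) n, (RelProj.emb p chart V hV) ⁻¹ᵁ W) from m))) y =
        GrTwist.val ((((RelProj.emb p chart _ (hV.basicOpen r)).app W).hom c) •
          (show Γ(GrTwist.twist (𝒮.deg _ (hV.basicOpen r)) n,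
            (RelProj.emb p chart _ (hV.basicOpen r)) ⁻¹ᵁ W) from cmpFun hP n V hV r W m)) y
      rw [Groth.Agent.GrTw.val_smul]
      rw [val_cmpFun hP n V hV r W _ y.1 y.2 hy', val_cmpFun hP n V hV r W _ y.1 y.2 hy']
      rw [Groth.Agent.GrTw.val_smul, map_mul]
      congr 1
      exact (Groth.Agent.GrTw.valO_emb_compat hP V hV r W c y.1 y.2 hy').symm)
    (fun {W W'} h m => by
      apply Groth.Agent.GrTw.ext_val
      intro y
      rfl)

theorem ap_cmp (V : Y.Opens) (hV : IsAffineOpen V) (r : Γ(Y, V)) (W : P.Opens)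
    (t : Γ(pushTw 𝒮 p chart n V hV, W)) :
    QCohExtn.ap (cmp hP n V hV r) W t = cmpFun hP n V hV r W t := rfl

/-- The shape of the diagram: affine opens, and pairs (affine open, function on it). -/
def shape (Y : Scheme.{u}) : MulticospanShape.{u, u} where
  L := Y.affineOpens
  R := Σ V : Y.affineOpens, Γ(Y, V.1)
  fst b := b.1
  snd b := ⟨Y.basicOpen b.2, b.1.2.basicOpen b.2⟩

/-- The diagram of direct images of chartwise twisting sheaves. -/
noncomputable def index : MulticospanIndex (shape Y) P.Modules where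
  left V := pushTw 𝒮 p chart n V.1 V.2
  right b := pushTw 𝒮 p chart n (Y.basicOpen b.2) (b.1.2.basicOpen b.2)
  fst b := cmp hP n b.1.1 b.1.2 b.2
  snd _ := 𝟙 _

/-- The relative twisting sheaf `O_P(n)`. -/
noncomputable def relTwist : P.Modules := multiequalizer (index hP n)

/-- The chart identifications of `O_P(n)`. -/
noncomputable def relLam (V : Y.Opens) (hV : IsAffineOpen V) :
    relTwist hP n ⟶ pushTw 𝒮 p chart n V hV :=
  Multiequalizer.ι (index hP n) ⟨V, hV⟩

theorem chartCompat_relLam (W : P.Opens) (s : Γ(relTwist hP n, W)) :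
    Groth.Agent.GrTw.ChartCompat (𝒮 := 𝒮) (p := p) (chart := chart) (n := n) W
      (fun V hV => QCohExtn.ap (relLam hP n V hV) W s) := by
  intro V hV r y hy hy'
  have h := multieq_condition (index hP n) W s ⟨⟨V, hV⟩, r⟩
  have h1 : QCohExtn.ap (relLam hP n (Y.basicOpen r) (hV.basicOpen r)) W s =
      cmpFun hP n V hV r W (QCohExtn.ap (relLam hP n V hV) W s) := h.symm
  show GrTwist.val (V := (RelProj.emb p chart (Y.basicOpen r) (hV.basicOpen r)) ⁻¹ᵁ W)
    (QCohExtn.ap (relLam hP n (Y.basicOpen r) (hV.basicOpen r)) W s) ⟨y, hy⟩ = _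
  rw [h1]
  exact val_cmpFun hP n V hV r W _ y hy hy'

/-- **Existence of the twisting sheaves `O_P(n)` on a relative `Proj`.** -/
theorem isRelTwist_relTwist :
    RelProj.IsRelTwist 𝒮 p chart n (relTwist hP n) (relLam hP n) where
  bijective U₀ hU₀ W hW := by
    constructor
    · intro s s' hss
      have hss' : QCohExtn.ap (relLam hP n U₀ hU₀) W s = QCohExtn.ap (relLam hP n U₀ hU₀) W s' :=
        hss
      apply multieq_ext (index hP n) W
      rintro ⟨V, hV⟩
      show QCohExtn.ap (relLam hP n V hV) W s = QCohExtn.ap (relLam hP n V hV) W s'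
      have e1 := eq_extSec_of_chartCompat (hP := hP) (n := n) (hU₀ := hU₀)
        (t₀ := QCohExtn.ap (relLam hP n U₀ hU₀) W s) hW _ (chartCompat_relLam hP n W s) rfl hV
      have e2 := eq_extSec_of_chartCompat (hP := hP) (n := n) (hU₀ := hU₀)
        (t₀ := QCohExtn.ap (relLam hP n U₀ hU₀) W s) hW _ (chartCompat_relLam hP n W s')
        hss'.symm hV
      exact e1.trans e2.symm
    · intro t₀
      obtain ⟨s, hs⟩ := multieq_exists (index hP n) W
        (fun a => extSec hP n hU₀ t₀ hW a.2) (by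
          rintro ⟨⟨V, hV⟩, r⟩
          show cmpFun hP n V hV r W (extSec hP n hU₀ t₀ hW hV) =
            extSec hP n hU₀ t₀ hW (hV.basicOpen r)
          apply Groth.Agent.GrTw.ext_val
          intro y
          have hy' := comap_mem hP V hV r W y.2
          rw [val_cmpFun hP n V hV r W _ y.1 y.2 hy']
          exact (chartCompat_extSec hP n hU₀ t₀ hW V hV r y.1 y.2 hy').symm)
      refine ⟨s, ?_⟩
      exact (hs ⟨U₀, hU₀⟩).trans (extSec_self hP n hU₀ t₀ hW)
  compat V hV r W s y hy hy' := chartCompat_relLam hP n W s V hV r y hy hy'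

end Constr

end Groth.Agent.RelTwEx
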