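import Mathlib
import Groth.Prelude
import Groth.Agent.Lib.ProjGenProper_helper5
import Groth.Agent.Lib.RelAmpD3_helper5
import Groth.Agent.Lib.RelTwEx5_helper5
import Groth.Agent.Lib.Tens18_helper8

/-!
# Projective morphisms are proper and quasi-projective (helper5)
-/

set_option autoImplicit false
universe u
open CategoryTheory CategoryTheory.Limits AlgebraicGeometry TopologicalSpace Opposite

namespace Groth.Agent.ProjMorph

section Rel
variable {Y P : Scheme.{u}} {𝒮 : RelProj.QCGrAlg Y} {p : P ⟶ Y}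
  {chart : ∀ (U : Y.Opens) (hU : IsAffineOpen U),
    (((p ⁻¹ᵁ U : P.Opens) : Scheme.{u}) ≅ Proj (𝒮.deg U hU))}

/-- The relative `Proj` of an algebra generated by `𝒮_1`, with `𝒮_1` of finite type, is proper. -/
theorem isProper_relProj (hP : RelProj.IsRelProj 𝒮 p chart) (hgen : 𝒮.IsGenDegOne)
    (hft : 𝒮.IsFTDeg 1) : IsProper p := by
  refine Groth.Agent.Lib.RelProj_helper3.of_chart @IsProper hP (fun U hU => ?_)
  obtain ⟨T, hT1, hspan⟩ := hft U hU
  exact Groth.Agent.ProjGenProper.isProper_of_genDegOne (𝒮.deg U hU) (𝒮.strZero U hU).hom T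
    (fun t ht => hT1 (Finset.mem_coe.mpr ht))
    (fun x hx => by obtain ⟨c, hc⟩ := hspan x hx; exact ⟨c, hc⟩) (hgen U hU)

theorem cov_one (hgen : 𝒮.IsGenDegOne) (V : Y.Opens) (hV : IsAffineOpen V) :
    Groth.Agent.RelAmpD.Cov 𝒮 1 V hV := fun z => by
  obtain ⟨f, hf, hfz⟩ := Groth.Agent.GrTw.exists_deg_one_not_mem (𝒮.deg V hV) (hgen V hV) z
  exact ⟨f, hf, hfz⟩

/-- `O_P(1)` exists, is invertible and is ample on the preimage of every affine open. -/
theorem exists_ample (hP : RelProj.IsRelProj 𝒮 p chart) (hgen : 𝒮.IsGenDegOne)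
    (hft : 𝒮.IsFTDeg 1) :
    ∃ L : P.Modules, PicF.IsInvertible L ∧
      ∀ (V : Y.Opens), IsAffineOpen V → TensH8.IsAmpleOn L (p ⁻¹ᵁ V) := by
  haveI : IsProper p := isProper_relProj hP hgen hft
  have hqc : QuasiCompact p := inferInstance
  have hL := Groth.Agent.RelTwEx.isRelTwist_relTwist hP 1
  have hn : (1 : ℤ) = (1 : ℤ) * ((1 : ℕ) : ℤ) := by norm_num
  have hinv : PicF.IsInvertible (Groth.Agent.RelTwEx.relTwist hP 1) := by
    refine Groth.Agent.RelAmpD.isInvertible_of_cov (d := 1) one_pos 1 hn _ _ hL (fun x => ?_)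
    obtain ⟨V, hV, hxV, -⟩ := Opens.isBasis_iff_nbhd.mp Y.isBasis_affineOpens
      (Opens.mem_top (p.base x))
    exact ⟨V, hV, hxV, cov_one hgen V hV⟩
  refine ⟨_, hinv, fun V hV => ?_⟩
  exact Groth.Agent.RelAmpD.isAmpleOn_preimage (d := 1) one_pos 1 hn _ _ hL hinv V hV
    (cov_one hgen V hV) ((quasiCompact_iff_forall_isAffineOpen.mp hqc) V hV)

end Rel

/-- **Every projective morphism is quasi-projective and proper.** -/
theorem quasiProjective_and_proper {X Y : Scheme.{u}} (f : X ⟶ Y) (hf : RelProj.IsProjective f) :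
    RelProj.IsQuasiProjective f ∧ IsProper f := by
  obtain ⟨𝒮, P, p, chart, e, hgen, hft, hP, he⟩ := hf
  haveI : IsProper p := isProper_relProj hP hgen hft
  have hproper : IsProper f := by
    rw [← he]
    infer_instance
  haveI := hproper
  obtain ⟨L, hinv, hamp⟩ := exists_ample hP hgen hft
  have hL' : PicF.IsInvertible ((Scheme.Modules.pullback e.hom).obj L) :=
    TensH8.isInvertible_pullback e.hom hinv
  have hqc : QuasiCompact f := inferInstance
  refine ⟨⟨inferInstance, hqc, (Scheme.Modules.pullback e.hom).obj L, ?_⟩, hproper⟩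
  rw [TensH8.isRelAmple_iff f hL']
  refine ⟨hqc, fun V => ?_⟩
  have hpre : f ⁻¹ᵁ V.1 = e.hom ⁻¹ᵁ (p ⁻¹ᵁ V.1) := by
    subst he
    rfl
  rw [hpre]
  refine TensH8.isAmpleOn_pullback_of_isAffineHom e.hom hinv (hamp V.1 V.2) ?_
  rw [← hpre]
  exact (quasiCompact_iff_forall_isAffineOpen.mp hqc) V.1 V.2

end Groth.Agent.ProjMorph
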