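import Mathlib
import Groth.Prelude
import Groth.Agent.Lib.HProj3_helper5
import Groth.Agent.S4418
import Groth.Agent.S1496

/-!
# Locally projective morphisms and H-projective morphisms  (helper5)
APPEND-ONLY once landed.
-/

set_option autoImplicit false
universe u
open CategoryTheory CategoryTheory.Limits AlgebraicGeometry TopologicalSpace Opposite

noncomputable section

namespace Groth.Agent.HProj

open TensH8

/-- If `f` is projective over `U`, it is H-projective over every affine open of `U`. -/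
theorem isHProjective_restrict_of_le {X S : Scheme.{u}} (f : X ⟶ S) {U U' : S.Opens}
    (hU' : IsAffineOpen U') (h : U' ≤ U) (hf : RelProj.IsProjective (f ∣_ U)) :
    RelProj.IsHProjective (f ∣_ U') := by
  obtain ⟨⟨hlft, hqc, L, hL⟩, hp⟩ := Groth.Agent.S4418.result (f ∣_ U) hf
  have hV : IsAffineOpen (U.ι ⁻¹ᵁ U') := hU'.preimage_of_isOpenImmersion U.ι (by simpa using h)
  have hUV : U.ι ''ᵁ (U.ι ⁻¹ᵁ U') = U' := by
    rw [Scheme.Hom.image_preimage_eq_opensRange_inf, Scheme.Opens.opensRange_ι]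
    exact inf_eq_right.mpr h
  let e : Arrow.mk (f ∣_ U ∣_ (U.ι ⁻¹ᵁ U')) ≅ Arrow.mk (f ∣_ U') :=
    morphismRestrictRestrict f U (U.ι ⁻¹ᵁ U') ≪≫ morphismRestrictEq f hUV
  have hp1 : IsProper (f ∣_ U ∣_ (U.ι ⁻¹ᵁ U')) := IsZariskiLocalAtTarget.restrict hp _
  have hp2 : IsProper (f ∣_ U') := (MorphismProperty.arrow_mk_iso_iff @IsProper e).mp hp1
  haveI : IsAffine (U' : Scheme.{u}) := hU'
  haveI : CompactSpace ((f ⁻¹ᵁ U' : X.Opens) : Scheme.{u}) :=
    QuasiCompact.compactSpace_of_compactSpace (f ∣_ U')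
  have hamp := hL.2 ⟨U.ι ⁻¹ᵁ U', hV⟩
  obtain ⟨φ, hφ⟩ : ∃ φ : ((f ⁻¹ᵁ U' : X.Opens) : Scheme.{u}) ⟶
      (((f ∣_ U) ⁻¹ᵁ (U.ι ⁻¹ᵁ U') : (f ⁻¹ᵁ U).toScheme.Opens) : Scheme.{u}), IsIso φ :=
    ⟨e.inv.left, inferInstance⟩
  have hamp' := isAmple_pullback_of_isEmbedding φ φ.isEmbedding hamp
  have hS : ∃ N : (U' : Scheme.{u}).Modules, CohB1.IsAmple N :=
    ⟨Coh.structureModule _, isAmple_structureModule_iff.mpr inferInstance⟩
  obtain ⟨n, i, hi, hif⟩ := (Groth.Agent.S1496.result hS (f ∣_ U')).1.mpr ⟨hp2, _, hamp'⟩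
  exact ⟨n, i, hi, hif⟩

/-- **Locally projective ⟺ locally H-projective.** -/
theorem isLocallyProjective_iff {X S : Scheme.{u}} (f : X ⟶ S) :
    RelProj.IsLocallyProjective f ↔
      ∀ s : S, ∃ U : S.Opens, s ∈ U ∧ RelProj.IsHProjective (f ∣_ U) := by
  constructor
  · intro hf s
    obtain ⟨U, hsU, hU⟩ := hf s
    obtain ⟨_, ⟨U', hU' : IsAffineOpen U', rfl⟩, hsU', hU'U⟩ :=
      (S.isBasis_affineOpens).exists_subset_of_mem_open hsU U.isOpen
    exact ⟨U', hsU', isHProjective_restrict_of_le f hU' hU'U hU⟩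
  · intro hf s
    obtain ⟨U, hsU, hU⟩ := hf s
    exact ⟨U, hsU, isProjective_of_isHProjective _ hU⟩

end Groth.Agent.HProj
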