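import Mathlib
import Groth.Prelude
import Groth.Agent.Lib.HProj4_helper5

/-!
# Base change of (locally) H-projective morphisms  (helper5)
APPEND-ONLY once landed.
-/

set_option autoImplicit false
universe u
open CategoryTheory CategoryTheory.Limits AlgebraicGeometry TopologicalSpace Opposite

noncomputable section

namespace Groth.Agent.HProj

open CohB1

section BC
variable (n : ℕ) {S S' : Scheme.{u}} (g : S' ⟶ S)

/-- The projection `P^n_S → P^n_ℤ`. -/
def pfst (S : Scheme.{u}) : ProjSpaceOver n S ⟶ ProjSpace n (ULift.{u} ℤ) :=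
  pullback.fst (ProjSpace.toSpec n (ULift.{u} ℤ)) (specULiftZIsTerminal.from S)

theorem pfst_cond (S : Scheme.{u}) :
    pfst n S ≫ ProjSpace.toSpec n (ULift.{u} ℤ) =
      ProjSpaceOver.toBase n S ≫ specULiftZIsTerminal.from S :=
  pullback.condition

theorem isPullback_pfst (S : Scheme.{u}) :
    IsPullback (pfst n S) (ProjSpaceOver.toBase n S) (ProjSpace.toSpec n (ULift.{u} ℤ))
      (specULiftZIsTerminal.from S) :=
  IsPullback.of_hasPullback (ProjSpace.toSpec n (ULift.{u} ℤ)) (specULiftZIsTerminal.from S)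

theorem overMap_aux : pfst n S' ≫ ProjSpace.toSpec n (ULift.{u} ℤ) =
    (ProjSpaceOver.toBase n S' ≫ g) ≫ specULiftZIsTerminal.from S :=
  (pfst_cond n S').trans ((congrArg (fun q => ProjSpaceOver.toBase n S' ≫ q)
    (specULiftZIsTerminal.hom_ext (specULiftZIsTerminal.from S')
      (g ≫ specULiftZIsTerminal.from S))).trans (Category.assoc _ _ _).symm)

/-- `P^n_{S'} → P^n_S`. -/
def overMap : ProjSpaceOver n S' ⟶ ProjSpaceOver n S :=
  (isPullback_pfst n S).lift (pfst n S') (ProjSpaceOver.toBase n S' ≫ g) (overMap_aux n g)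

theorem overMap_fst : overMap n g ≫ pfst n S = pfst n S' :=
  (isPullback_pfst n S).lift_fst _ _ _

theorem overMap_toBase :
    overMap n g ≫ ProjSpaceOver.toBase n S = ProjSpaceOver.toBase n S' ≫ g :=
  (isPullback_pfst n S).lift_snd _ _ _

theorem isPullback_overMap :
    IsPullback (overMap n g) (ProjSpaceOver.toBase n S') (ProjSpaceOver.toBase n S) g := by
  refine IsPullback.of_right ?_ (overMap_toBase n g) (isPullback_pfst n S)
  have h1 : g ≫ specULiftZIsTerminal.from S = specULiftZIsTerminal.from S' :=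
    specULiftZIsTerminal.hom_ext _ _
  rw [overMap_fst, h1]
  exact isPullback_pfst n S'

end BC

/-- H-projective morphisms are stable under base change. -/
theorem isHProjective_baseChange {X S S' : Scheme.{u}} (f : X ⟶ S) (g : S' ⟶ S)
    (hf : RelProj.IsHProjective f) : RelProj.IsHProjective (pullback.snd f g) := by
  obtain ⟨n, i, hi, rfl⟩ := hf
  have w : (pullback.fst (i ≫ ProjSpaceOver.toBase n S) g ≫ i) ≫ ProjSpaceOver.toBase n S =
      pullback.snd (i ≫ ProjSpaceOver.toBase n S) g ≫ g := by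
    rw [Category.assoc, pullback.condition]
  have hsq : IsPullback (pullback.fst (i ≫ ProjSpaceOver.toBase n S) g)
      ((isPullback_overMap n g).lift _ _ w) i (overMap n g) := by
    refine IsPullback.of_bot ?_ ((isPullback_overMap n g).lift_fst _ _ w).symm
      (isPullback_overMap n g)
    rw [(isPullback_overMap n g).lift_snd _ _ w]
    exact IsPullback.of_hasPullback _ _
  exact ⟨n, (isPullback_overMap n g).lift _ _ w,
    MorphismProperty.of_isPullback hsq hi, (isPullback_overMap n g).lift_snd _ _ w⟩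

/-- H-projective morphisms are stable under base change (pullback-square form). -/
theorem isHProjective_of_isPullback {X S X' S' : Scheme.{u}} {f : X ⟶ S} {g : S' ⟶ S}
    {a : X' ⟶ X} {f' : X' ⟶ S'} (sq : IsPullback a f' f g) (hf : RelProj.IsHProjective f) :
    RelProj.IsHProjective f' := by
  obtain ⟨n, i, hi, hif⟩ := isHProjective_baseChange f g hf
  refine ⟨n, sq.isoPullback.hom ≫ i, inferInstance, ?_⟩
  rw [Category.assoc, hif]
  exact sq.isoPullback_hom_snd

/-- The restriction of a base change is a base change of the restriction. -/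
theorem isPullback_restrict_snd {X S S' : Scheme.{u}} (f : X ⟶ S) (g : S' ⟶ S) (U : S.Opens) :
    ∃ a : ((pullback.snd f g ⁻¹ᵁ (g ⁻¹ᵁ U) : (pullback f g).Opens) : Scheme.{u}) ⟶
        ((f ⁻¹ᵁ U : X.Opens) : Scheme.{u}),
      IsPullback a (pullback.snd f g ∣_ (g ⁻¹ᵁ U)) (f ∣_ U) (g ∣_ U) := by
  have t : IsPullback (f ⁻¹ᵁ U).ι (f ∣_ U) f U.ι := (isPullback_morphismRestrict f U).flip
  have A : IsPullback (pullback.snd f g ⁻¹ᵁ (g ⁻¹ᵁ U)).ι (pullback.snd f g ∣_ (g ⁻¹ᵁ U))
      (pullback.snd f g) (g ⁻¹ᵁ U).ι := (isPullback_morphismRestrict _ _).flip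
  have B : IsPullback (pullback.fst f g) (pullback.snd f g) f g := IsPullback.of_hasPullback f g
  have AB := A.paste_horiz B
  have hg : (g ⁻¹ᵁ U).ι ≫ g = g ∣_ U ≫ U.ι := (morphismRestrict_ι g U).symm
  rw [hg] at AB
  refine ⟨t.lift ((pullback.snd f g ⁻¹ᵁ (g ⁻¹ᵁ U)).ι ≫ pullback.fst f g)
    (pullback.snd f g ∣_ (g ⁻¹ᵁ U) ≫ g ∣_ U) AB.w, ?_⟩
  refine IsPullback.of_right ?_ (t.lift_snd _ _ AB.w) t
  rw [t.lift_fst _ _ AB.w]
  exact AB

/-- **Locally projective morphisms are stable under base change.** -/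
theorem isLocallyProjective_baseChange {X S S' : Scheme.{u}} (f : X ⟶ S)
    (hf : RelProj.IsLocallyProjective f) (g : S' ⟶ S) :
    RelProj.IsLocallyProjective (pullback.snd f g) := by
  rw [isLocallyProjective_iff] at hf ⊢
  intro s'
  obtain ⟨U, hsU, hU⟩ := hf (g s')
  obtain ⟨a, ha⟩ := isPullback_restrict_snd f g U
  exact ⟨g ⁻¹ᵁ U, hsU, isHProjective_of_isPullback ha hU⟩

end Groth.Agent.HProj
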