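import Mathlib

set_option autoImplicit false
universe u
open CategoryTheory CategoryTheory.Limits AlgebraicGeometry TopologicalSpace Opposite

namespace Groth.Agent.Lib.QAffImm_helper7

/-- closed immersion from surjectivity on an affine chart. -/
theorem isClosedImmersion_restrict {X Y : Scheme.{u}} (f : X ⟶ Y) (U : Y.Opens)
    (hU : IsAffineOpen U) (hV : IsAffineOpen (f ⁻¹ᵁ U))
    (hs : Function.Surjective (f.app U)) : IsClosedImmersion (f ∣_ U) := by
  haveI : IsAffine U.toScheme := hU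
  haveI : IsAffine (f ⁻¹ᵁ U).toScheme := hV
  apply IsClosedImmersion.of_surjective_of_isAffine
  rw [morphismRestrict_appTop]
  have h1 : ∀ W : Y.Opens, W = U → Function.Surjective (f.app W) := by
    rintro W rfl; exact hs
  have h2 : Function.Surjective
      (X.presheaf.map (eqToHom (image_morphismRestrict_preimage f U ⊤)).op) :=
    (ConcreteCategory.bijective_of_isIso _).2
  intro y
  obtain ⟨z, hz⟩ := h2 y
  obtain ⟨w, hw⟩ := h1 _ U.ι_image_top z
  subst hw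
  subst hz
  exact ⟨w, rfl⟩

/-- generation property of a finite set of global sections on a basic open chart. -/
def Gen {X S : Scheme.{u}} (π : X ⟶ S) (U : S.Opens) (r : Γ(X, ⊤)) (T : Finset Γ(X, ⊤)) : Prop :=
  ∀ (D : X.Opens) (_ : D = X.basicOpen r) (hle : D ≤ π ⁻¹ᵁ U) (R : Subring Γ(X, D)),
    (∀ s, (π.appLE U D hle).hom s ∈ R) →
    (∀ b ∈ T, (X.presheaf.map (homOfLE (le_top : D ≤ ⊤)).op).hom b ∈ R) →
    (∀ w, w * (X.presheaf.map (homOfLE (le_top : D ≤ ⊤)).op).hom r = 1 → w ∈ R) → R = ⊤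

open Classical in
theorem exists_gen {X S : Scheme.{u}} (π : X ⟶ S) [LocallyOfFiniteType π]
    [CompactSpace X] [QuasiSeparatedSpace X] (U : S.Opens) (hU : IsAffineOpen U)
    (r : Γ(X, ⊤)) (hDa : IsAffineOpen (X.basicOpen r)) (hle0 : X.basicOpen r ≤ π ⁻¹ᵁ U) :
    ∃ T : Finset Γ(X, ⊤), Gen π U r T := by
  letI : Algebra Γ(S, U) Γ(X, X.basicOpen r) := (π.appLE U (X.basicOpen r) hle0).hom.toAlgebra
  obtain ⟨G, hG⟩ := (π.finiteType_appLE hU hDa hle0).out
  have hex : ∀ g : Γ(X, X.basicOpen r), ∃ (n : ℕ) (b : Γ(X, ⊤)),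
      (X.presheaf.map (homOfLE (le_top : X.basicOpen r ≤ ⊤)).op).hom b =
        ((X.presheaf.map (homOfLE (le_top : X.basicOpen r ≤ ⊤)).op).hom r) ^ n * g := fun g =>
    exists_eq_pow_mul_of_isCompact_of_isQuasiSeparated X ⊤ isCompact_univ isQuasiSeparated_univ r g
  choose n b hb using hex
  refine ⟨G.image b, ?_⟩
  intro D hD
  subst hD
  intro hle R h1 h2 h3
  refine eq_top_iff.mpr fun y _ => ?_
  have hy : y ∈ Algebra.adjoin Γ(S, U) (G : Set Γ(X, X.basicOpen r)) := by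
    rw [hG]; exact Algebra.mem_top
  have hu : IsUnit ((X.presheaf.map (homOfLE (le_top : X.basicOpen r ≤ ⊤)).op).hom r) :=
    X.toRingedSpace.isUnit_res_basicOpen r
  obtain ⟨w, hw⟩ := hu.exists_left_inv
  have hwR : w ∈ R := h3 w hw
  refine Algebra.adjoin_induction (p := fun z _ => z ∈ R) ?_ ?_ ?_ ?_ hy
  · intro g hg
    have hgb : g = w ^ n g * (X.presheaf.map (homOfLE (le_top : X.basicOpen r ≤ ⊤)).op).hom (b g) := by
      rw [hb g, ← mul_assoc, ← mul_pow, hw, one_pow, one_mul]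
    rw [hgb]
    exact R.mul_mem (R.pow_mem hwR _) (h2 _ (Finset.mem_image_of_mem b hg))
  · intro s; exact h1 s
  · intro a c _ _ ha hc; exact R.add_mem ha hc
  · intro a c _ _ ha hc; exact R.mul_mem ha hc

theorem isClosedImmersion_chart {X A S : Scheme.{u}} (i : X ⟶ A) (p : A ⟶ S) [IsAffineHom p]
    (U : S.Opens) (hU : IsAffineOpen U) (c : Γ(A, ⊤))
    (hDa : IsAffineOpen (X.basicOpen (i.appTop c)))
    (hle : X.basicOpen (i.appTop c) ≤ (i ≫ p) ⁻¹ᵁ U)
    (T : Finset Γ(X, ⊤)) (hgen : Gen (i ≫ p) U (i.appTop c) T)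
    (hT : ∀ b ∈ T, ∃ a : Γ(A, ⊤), i.appTop a = b) :
    IsClosedImmersion (i ∣_ (p ⁻¹ᵁ U ⊓ A.basicOpen c)) := by
  have hPa : IsAffineOpen (p ⁻¹ᵁ U ⊓ A.basicOpen c) := by
    have h1 : IsAffineOpen (p ⁻¹ᵁ U) := hU.preimage p
    have h2 := h1.basicOpen ((A.presheaf.map (homOfLE (le_top : p ⁻¹ᵁ U ≤ ⊤)).op).hom c)
    rwa [Scheme.basicOpen_res] at h2
  have hpre : i ⁻¹ᵁ (p ⁻¹ᵁ U ⊓ A.basicOpen c) = X.basicOpen (i.appTop c) := by
    rw [Scheme.Hom.preimage_inf, ← Scheme.Hom.comp_preimage, Scheme.preimage_basicOpen_top]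
    exact inf_eq_right.mpr hle
  generalize hPdef : p ⁻¹ᵁ U ⊓ A.basicOpen c = P at hPa hpre ⊢
  have hPU : P ≤ p ⁻¹ᵁ U := by rw [← hPdef]; exact inf_le_left
  have hPc : P ≤ A.basicOpen c := by rw [← hPdef]; exact inf_le_right
  have hres : A.presheaf.map (homOfLE (le_top : P ≤ ⊤)).op ≫ i.app P =
      i.appLE ⊤ (i ⁻¹ᵁ P) le_top := by
    rw [← i.appLE_eq_app, Scheme.Hom.map_appLE]
  have hresa : ∀ a : Γ(A, ⊤), (i.app P).hom ((A.presheaf.map (homOfLE (le_top : P ≤ ⊤)).op).hom a) =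
      (X.presheaf.map (homOfLE (le_top : i ⁻¹ᵁ P ≤ ⊤)).op).hom (i.appTop a) := fun a =>
    ConcreteCategory.congr_hom hres a
  apply isClosedImmersion_restrict i P hPa (by rw [hpre]; exact hDa)
  have key : (i.app P).hom.range = ⊤ := by
    apply hgen (i ⁻¹ᵁ P) hpre (by rw [hpre]; exact hle)
    · intro s
      refine ⟨(p.appLE U P hPU).hom s, ?_⟩
      have e := Scheme.Hom.appLE_comp_appLE i p U P (i ⁻¹ᵁ P) hPU le_rfl
      rw [Scheme.Hom.appLE_eq_app] at e
      exact ConcreteCategory.congr_hom e s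
    · intro b hb
      obtain ⟨a, rfl⟩ := hT b hb
      exact ⟨(A.presheaf.map (homOfLE (le_top : P ≤ ⊤)).op).hom a, hresa a⟩
    · intro w hw
      have hunit : IsUnit ((A.presheaf.map (homOfLE (le_top : P ≤ ⊤)).op).hom c) := by
        have hu0 : IsUnit ((A.presheaf.map (homOfLE (A.basicOpen_le c)).op).hom c) :=
          A.toRingedSpace.isUnit_res_basicOpen c
        have hcomp : A.presheaf.map (homOfLE (le_top : P ≤ ⊤)).op =
            A.presheaf.map (homOfLE (A.basicOpen_le c)).op ≫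
              A.presheaf.map (homOfLE hPc).op := by
          rw [← Functor.map_comp]; rfl
        rw [hcomp]
        exact hu0.map (A.presheaf.map (homOfLE hPc).op).hom
      obtain ⟨z, hz⟩ := hunit.exists_left_inv
      have h1 : (i.app P).hom z *
          (i.app P).hom ((A.presheaf.map (homOfLE (le_top : P ≤ ⊤)).op).hom c) = 1 := by
        rw [← map_mul, hz, map_one]
      rw [hresa c] at h1
      have hwz : w = (i.app P).hom z :=
        left_inv_eq_right_inv hw (by rw [mul_comm]; exact h1)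
      exact ⟨z, hwz.symm⟩
  intro y
  have hy : y ∈ (i.app P).hom.range := by rw [key]; exact Subring.mem_top y
  exact hy

theorem isImmersion_homOfVector {X S : Scheme.{u}} (π : X ⟶ S) {n : Type u}
    (v : n → Γ(X, ⊤)) (t : Finset X) (U : X → S.Opens) (r : X → Γ(X, ⊤))
    (T : X → Finset Γ(X, ⊤))
    (hU : ∀ x, IsAffineOpen (U x)) (hr : ∀ x, IsAffineOpen (X.basicOpen (r x)))
    (hrU : ∀ x, X.basicOpen (r x) ≤ π ⁻¹ᵁ U x)
    (hcov : ∀ y : X, ∃ x ∈ t, y ∈ X.basicOpen (r x))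
    (hT : ∀ x, Gen π (U x) (r x) (T x))
    (hvr : ∀ x ∈ t, ∃ k, v k = r x)
    (hvT : ∀ x ∈ t, ∀ b ∈ T x, ∃ k, v k = b) :
    IsImmersion (AffineSpace.homOfVector π v) := by
  have hip : AffineSpace.homOfVector π v ≫ (𝔸(n; S) ↘ S) = π := AffineSpace.homOfVector_over π v
  have hchart : ∀ x ∈ t, ∃ P : (𝔸(n; S)).Opens,
      (AffineSpace.homOfVector π v) ⁻¹ᵁ P = X.basicOpen (r x) ∧
        IsClosedImmersion ((AffineSpace.homOfVector π v) ∣_ P) := by
    intro x hx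
    obtain ⟨k, hk⟩ := hvr x hx
    have hc : (AffineSpace.homOfVector π v).appTop (AffineSpace.coord S k) = r x := by
      rw [AffineSpace.homOfVector_appTop_coord, hk]
    refine ⟨(𝔸(n; S) ↘ S) ⁻¹ᵁ (U x) ⊓ (𝔸(n; S)).basicOpen (AffineSpace.coord S k), ?_, ?_⟩
    · rw [Scheme.Hom.preimage_inf, ← Scheme.Hom.comp_preimage, hip,
        Scheme.preimage_basicOpen_top, hc]
      exact inf_eq_right.mpr (hrU x)
    · apply isClosedImmersion_chart (AffineSpace.homOfVector π v) (𝔸(n; S) ↘ S) (U x) (hU x)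
        (AffineSpace.coord S k) (by rw [hc]; exact hr x) (by rw [hc, hip]; exact hrU x) (T x)
      · rw [hc, hip]; exact hT x
      · intro b hb
        obtain ⟨k', hk'⟩ := hvT x hx b hb
        exact ⟨AffineSpace.coord S k', by rw [AffineSpace.homOfVector_appTop_coord, hk']⟩
  choose! P hP1 hP2 using hchart
  haveI : MorphismProperty.RespectsRight @IsImmersion @IsOpenImmersion := ⟨fun j hj f hf => by
    haveI : IsOpenImmersion j := hj
    haveI : IsImmersion f := hf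
    infer_instance⟩
  apply IsZariskiLocalAtTarget.of_range_subset_iSup (P := @IsImmersion) (fun x : t => P x.1)
  · rintro _ ⟨y, rfl⟩
    obtain ⟨x, hx, hy⟩ := hcov y
    have hyP : y ∈ (AffineSpace.homOfVector π v) ⁻¹ᵁ P x := by rw [hP1 x hx]; exact hy
    exact Opens.mem_iSup.mpr ⟨⟨x, hx⟩, hyP⟩
  · intro x
    haveI := hP2 x.1 x.2
    infer_instance

open Classical in
theorem main {X S : Scheme.{u}} (π : X ⟶ S) [LocallyOfFiniteType π] [X.IsQuasiAffine] :
    ∃ (n : ℕ) (i : X ⟶ 𝔸(ULift.{u} (Fin n); S)),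
      IsImmersion i ∧ i ≫ (𝔸(ULift.{u} (Fin n); S) ↘ S) = π := by
  have hA : ∀ x : X, ∃ (U : S.Opens) (r : Γ(X, ⊤)), IsAffineOpen U ∧
      IsAffineOpen (X.basicOpen r) ∧ x ∈ X.basicOpen r ∧ X.basicOpen r ≤ π ⁻¹ᵁ U := by
    intro x
    obtain ⟨_, ⟨U, hU, rfl⟩, hxU, -⟩ :=
      S.isBasis_affineOpens.exists_subset_of_mem_open (Set.mem_univ (π x)) isOpen_univ
    obtain ⟨_, ⟨_, ⟨r, hr, rfl⟩, rfl⟩, hxr, hrU⟩ :=
      (Scheme.IsQuasiAffine.isBasis_basicOpen X).exists_subset_of_mem_open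
        (show x ∈ ((π ⁻¹ᵁ U : X.Opens) : Set X) from hxU) (π ⁻¹ᵁ U).2
    exact ⟨U, r, hU, hr, hxr, SetLike.coe_subset_coe.mp hrU⟩
  choose U r hU hr hxr hrU using hA
  obtain ⟨t, ht⟩ := isCompact_univ.elim_finite_subcover
    (fun x : X => ((X.basicOpen (r x) : X.Opens) : Set X))
    (fun x => (X.basicOpen (r x)).2) (fun x _ => Set.mem_iUnion.mpr ⟨x, hxr x⟩)
  have hG : ∀ x : X, ∃ T : Finset Γ(X, ⊤), Gen π (U x) (r x) T := fun x =>
    exists_gen π (U x) (hU x) (r x) (hr x) (hrU x)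
  choose T hT using hG
  let W : Finset Γ(X, ⊤) := t.image r ∪ t.biUnion T
  let e := W.equivFin
  let v : ULift.{u} (Fin W.card) → Γ(X, ⊤) := fun k => ((e.symm k.down : W) : Γ(X, ⊤))
  have hv : ∀ b ∈ W, ∃ k, v k = b := fun b hb =>
    ⟨⟨e ⟨b, hb⟩⟩, by simp [v]⟩
  refine ⟨W.card, AffineSpace.homOfVector π v, ?_, AffineSpace.homOfVector_over π v⟩
  apply isImmersion_homOfVector π v t U r T hU hr hrU
  · intro y
    have := ht (Set.mem_univ y)
    simp only [Set.mem_iUnion] at this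
    obtain ⟨x, hx, hy⟩ := this
    exact ⟨x, hx, hy⟩
  · exact hT
  · intro x hx
    exact hv _ (Finset.mem_union_left _ (Finset.mem_image_of_mem r hx))
  · intro x hx b hb
    exact hv b (Finset.mem_union_right _ (Finset.mem_biUnion.mpr ⟨x, hx, hb⟩))

end Groth.Agent.Lib.QAffImm_helper7
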