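import Mathlib
import Groth.Prelude.Def_CohB1
import Groth.Agent.Lib.ProjBCn2_helper5
import Groth.Agent.Lib.ProjMap_helper3
import Groth.Agent.Lib.ProjGamma_helper5

/-!
# Segre embedding, part A: graded ring homomorphisms and scaling invariance of `Proj.map` (helper7)
APPEND-ONLY once landed.
-/

set_option autoImplicit false
universe u
open CategoryTheory CategoryTheory.Limits AlgebraicGeometry HomogeneousLocalization MvPolynomial CohB1

namespace Groth.Agent.Lib.SegreA_helper7

section Scale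

variable {A B σ τ : Type u} [CommRing A] [SetLike σ A] [AddSubgroupClass σ A]
  [CommRing B] [SetLike τ B] [AddSubgroupClass τ B]
  {𝒜 : ℕ → σ} {ℬ : ℕ → τ} [GradedRing 𝒜] [GradedRing ℬ]

theorem awayι_map_eq_of_scale (f f' : 𝒜 →+*ᵍ ℬ)
    (hf : HomogeneousIdeal.irrelevant ℬ ≤ (HomogeneousIdeal.irrelevant 𝒜).map f)
    (hf' : HomogeneousIdeal.irrelevant ℬ ≤ (HomogeneousIdeal.irrelevant 𝒜).map f')
    (u v : B) (hv : v ∈ ℬ 0) (huv : u * v = 1)
    (h : ∀ (d : ℕ) (a : A), a ∈ 𝒜 d → f' a = u ^ d * f a)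
    {i : ℕ} (hi : 0 < i) (s : A) (hs : s ∈ 𝒜 i) :
    Proj.awayι ℬ (f s) (f.2 hs) hi ≫ Proj.map f' hf' =
      Proj.awayι ℬ (f s) (f.2 hs) hi ≫ Proj.map f hf := by
  rw [Proj.awayι_comp_map f hf hi s hs]
  have hx : f s = f' s * v ^ i := by
    rw [h _ _ hs, mul_comm (u ^ _), mul_assoc, ← mul_pow, huv, one_pow, mul_one]
  have hvd : v ^ i ∈ ℬ 0 := by
    have := SetLike.pow_mem_graded i hv
    simpa using this
  have key : Proj.awayι ℬ (f s) (f.2 hs) hi =
      Spec.map (CommRingCat.ofHom (awayMap ℬ hvd hx)) ≫ Proj.awayι ℬ (f' s) (f'.2 hs) hi :=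
    (Proj.SpecMap_awayMap_awayι (𝒜 := ℬ) (f'.2 hs) hi hvd hx).symm
  rw [key, Category.assoc, Proj.awayι_comp_map f' hf' hi s hs, ← Category.assoc,
    ← Spec.map_comp, ← CommRingCat.ofHom_comp]
  congr 3
  ext x
  obtain ⟨n, a, ha, rfl⟩ := Away.mk_surjective 𝒜 hs x
  rw [RingHom.comp_apply, Away.map_mk, Away.map_mk, awayMap_mk]
  simp only [Away.val_mk]
  congr 1
  rw [h _ _ ha, smul_eq_mul, ← pow_mul, mul_comm (u ^ _), mul_assoc, mul_comm n, ← mul_pow, huv,
    one_pow, mul_one]

set_option backward.isDefEq.respectTransparency false in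
/-- Two graded ring homomorphisms which differ by the scaling `u ^ deg` for a unit `u` of degree
zero induce the same morphism on `Proj`. -/
theorem map_eq_of_scale (f f' : 𝒜 →+*ᵍ ℬ)
    (hf : HomogeneousIdeal.irrelevant ℬ ≤ (HomogeneousIdeal.irrelevant 𝒜).map f)
    (hf' : HomogeneousIdeal.irrelevant ℬ ≤ (HomogeneousIdeal.irrelevant 𝒜).map f')
    (u v : B) (hv : v ∈ ℬ 0) (huv : u * v = 1)
    (h : ∀ (d : ℕ) (a : A), a ∈ 𝒜 d → f' a = u ^ d * f a) :
    Proj.map f' hf' = Proj.map f hf := by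
  refine (Proj.mapAffineOpenCover f hf).openCover.hom_ext _ _ fun s => ?_
  exact awayι_map_eq_of_scale f f' hf hf' u v hv huv h s.1.2 s.2 s.2.2

end Scale

section GHom

variable (n m : ℕ)

/-- The index bijection `[0,n] × [0,m] ≃ [0, nm+n+m]`. -/
def eqv : Fin (n + 1) × Fin (m + 1) ≃ Fin (n * m + n + m + 1) :=
  finProdFinEquiv.trans (finCongr (by ring))

variable {R B' : Type u} [CommRing R] [CommRing B'] (φ : R →+* B') (b : Fin (m + 1) → B')

/-- The ring homomorphism `R[z_{kl}] → B'[x_k]`, `z_{kl} ↦ b_l x_k`. -/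
noncomputable def gRing :
    MvPolynomial (Fin (n * m + n + m + 1)) R →+* MvPolynomial (Fin (n + 1)) B' :=
  MvPolynomial.eval₂Hom (MvPolynomial.C.comp φ)
    (fun q => C (b ((eqv n m).symm q).2) * X ((eqv n m).symm q).1)

theorem gRing_X (k : Fin (n + 1)) (l : Fin (m + 1)) :
    gRing n m φ b (X (eqv n m (k, l))) = C (b l) * X k := by
  simp [gRing]

theorem gRing_C (r : R) : gRing n m φ b (C r) = C (φ r) := by
  simp [gRing]

/-- The graded ring homomorphism `R[z_{kl}] → B'[x_k]`, `z_{kl} ↦ b_l x_k`. -/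
noncomputable def gHom : polyGrading (n * m + n + m) R →+*ᵍ polyGrading n B' where
  toRingHom := gRing n m φ b
  map_mem := fun {d p} hp => by
    have hp' : p.IsHomogeneous d := hp
    have h := hp'.eval₂ (MvPolynomial.C.comp φ)
      (fun q => C (b ((eqv n m).symm q).2) * X ((eqv n m).symm q).1)
      (fun r => isHomogeneous_C _ _) (fun q => (isHomogeneous_X _ _).C_mul _)
    rw [one_mul] at h
    exact h

theorem gHom_apply (p : MvPolynomial (Fin (n * m + n + m + 1)) R) :
    gHom n m φ b p = gRing n m φ b p := rfl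

theorem gHom_X (k : Fin (n + 1)) (l : Fin (m + 1)) :
    gHom n m φ b (X (eqv n m (k, l))) = C (b l) * X k := gRing_X n m φ b k l

theorem gHom_irr (j : Fin (m + 1)) (hj : b j = 1) :
    HomogeneousIdeal.irrelevant (polyGrading n B') ≤
      (HomogeneousIdeal.irrelevant (polyGrading (n * m + n + m) R)).map (gHom n m φ b) := by
  show (HomogeneousIdeal.irrelevant (polyGrading n B')).toIdeal ≤
    ((HomogeneousIdeal.irrelevant (polyGrading (n * m + n + m) R)).map (gHom n m φ b)).toIdeal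
  refine (Groth.Agent.ProjGamma5.irrelevant_le_span n B').trans ?_
  rw [Ideal.span_le]
  rintro _ ⟨k, rfl⟩
  rw [HomogeneousIdeal.toIdeal_map]
  have h1 : (X (eqv n m (k, j)) : MvPolynomial (Fin (n * m + n + m + 1)) R) ∈
      (HomogeneousIdeal.irrelevant (polyGrading (n * m + n + m) R)).toIdeal :=
    HomogeneousIdeal.mem_irrelevant_of_mem _ one_pos
      (Groth.Agent.ProjGamma5.X_mem (n * m + n + m) R _)
  have h2 := Ideal.mem_map_of_mem (gHom n m φ b) h1
  rw [gHom_X, hj, C_1, one_mul] at h2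
  exact h2

theorem polyMapH_comp_gHom {B'' : Type u} [CommRing B''] (ψ : B' →+* B'') :
    (Groth.Agent.ProjBCn.polyMapH n ψ).comp (gHom n m φ b) =
      gHom n m (ψ.comp φ) (fun l => ψ (b l)) := by
  refine GradedRingHom.ext fun p => ?_
  show MvPolynomial.map ψ (gRing n m φ b p) = gRing n m (ψ.comp φ) (fun l => ψ (b l)) p
  have h : (MvPolynomial.map ψ).comp (gRing n m φ b) =
      gRing n m (ψ.comp φ) (fun l => ψ (b l)) := by
    refine MvPolynomial.ringHom_ext (fun r => ?_) (fun q => ?_)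
    · simp [gRing]
    · simp [gRing]
  exact RingHom.congr_fun h p

theorem projMapH_comp_projMap {B'' : Type u} [CommRing B''] (ψ : B' →+* B'')
    (j : Fin (m + 1)) (hj : b j = 1) (hj' : ψ (b j) = 1) :
    Groth.Agent.ProjBCn.projMapH n ψ ≫ Proj.map (gHom n m φ b) (gHom_irr n m φ b j hj) =
      Proj.map (gHom n m (ψ.comp φ) (fun l => ψ (b l)))
        (gHom_irr n m (ψ.comp φ) (fun l => ψ (b l)) j hj') := by
  show (Proj.map (Groth.Agent.ProjBCn.polyMapH n ψ) (Groth.Agent.ProjBCn.polyMapH_irr n ψ) ≫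
    Proj.map (gHom n m φ b) (gHom_irr n m φ b j hj) :
      Proj (polyGrading n B'') ⟶ Proj (polyGrading (n * m + n + m) R)) = _
  rw [← Proj.map_comp]
  exact Groth.Agent.QCCons.projMap_congr (polyMapH_comp_gHom n m φ b ψ) _ _

/-- scaling the variables by `u`. -/
theorem tau_of_homog (u : B') {d : ℕ} {q : MvPolynomial (Fin (n + 1)) B'}
    (hq : q.IsHomogeneous d) :
    MvPolynomial.eval₂Hom (C : B' →+* MvPolynomial (Fin (n + 1)) B') (fun k => C u * X k) q =
      C u ^ d * q := by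
  conv_lhs => rw [q.as_sum]
  conv_rhs => rw [q.as_sum]
  rw [map_sum, Finset.mul_sum]
  refine Finset.sum_congr rfl fun s hs => ?_
  have hdeg : ∑ i ∈ s.support, s i = d := by
    have h1 := hq (MvPolynomial.mem_support_iff.mp hs)
    rw [Finsupp.weight_apply] at h1
    simpa [Finsupp.sum] using h1
  rw [MvPolynomial.eval₂Hom_monomial, MvPolynomial.monomial_eq]
  simp only [mul_pow, Finsupp.prod_mul]
  have h2 : (s.prod fun _ e => (C u : MvPolynomial (Fin (n + 1)) B') ^ e) = C u ^ d := by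
    rw [Finsupp.prod, Finset.prod_pow_eq_pow_sum, hdeg]
  rw [h2]
  ring

theorem gRing_scale (u : B') :
    gRing n m φ (fun l => u * b l) =
      (MvPolynomial.eval₂Hom (C : B' →+* MvPolynomial (Fin (n + 1)) B')
        (fun k => C u * X k)).comp (gRing n m φ b) := by
  refine MvPolynomial.ringHom_ext (fun r => ?_) (fun q => ?_)
  · simp [gRing]
  · simp [gRing]
    ring

theorem gHom_scale (u : B') {d : ℕ} {a : MvPolynomial (Fin (n * m + n + m + 1)) R}
    (ha : a ∈ polyGrading (n * m + n + m) R d) :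
    gHom n m φ (fun l => u * b l) a = C u ^ d * gHom n m φ b a := by
  show gRing n m φ (fun l => u * b l) a = C u ^ d * gRing n m φ b a
  rw [gRing_scale, RingHom.comp_apply]
  exact tau_of_homog n u ((gHom n m φ b).2 ha)

theorem projMap_scale (u v : B') (huv : u * v = 1) (j j' : Fin (m + 1)) (hj : b j = 1)
    (hj' : u * b j' = 1) :
    Proj.map (gHom n m φ (fun l => u * b l)) (gHom_irr n m φ (fun l => u * b l) j' hj') =
      Proj.map (gHom n m φ b) (gHom_irr n m φ b j hj) :=
  map_eq_of_scale _ _ _ _ (C u) (C v) (isHomogeneous_C _ _) (by rw [← C_mul, huv, C_1])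
    (fun d a ha => gHom_scale n m φ b u ha)

end GHom

end Groth.Agent.Lib.SegreA_helper7
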