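import Mathlib
import Groth.Prelude.Def_CohB1
import Groth.Agent.Lib.SegreA_helper7
import Groth.Agent.Lib.PnOver_helper5

/-!
# Segre embedding, part B: the charts `P^n_{B_t} ⟶ P^n_R ×_R P^m_R` and their overlaps (helper7)
APPEND-ONLY once landed.
-/

set_option autoImplicit false
universe u
open CategoryTheory CategoryTheory.Limits AlgebraicGeometry HomogeneousLocalization MvPolynomial CohB1

noncomputable section

namespace Groth.Agent.Lib.SegreB_helper7

open Groth.Agent.ProjBCn Groth.Agent.ProjBC

variable (n m : ℕ) (R : Type u) [CommRing R]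

/-- The product `P^n_R ×_R P^m_R`. -/
abbrev XX : Scheme.{u} := pullback (ProjSpace.toSpec n R) (ProjSpace.toSpec m R)

abbrev pr1 : XX n m R ⟶ ProjSpace n R := pullback.fst _ _
abbrev pr2 : XX n m R ⟶ ProjSpace m R := pullback.snd _ _

variable {m R}
variable {d : ℕ} (hd : 0 < d) (t : MvPolynomial (Fin (m + 1)) R) (ht : t ∈ polyGrading m R d)

/-- The chart `P^n_{B_t} ⟶ P^n_R ×_R P^m_R`, `B_t = R[y]_(t)`. -/
def ι : ProjSpace n (Away (polyGrading m R) t) ⟶ XX n m R :=
  pullback.lift (projMapH n (rho (polyGrading m R) t))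
    (ProjSpace.toSpec n (Away (polyGrading m R) t) ≫ chartι m R hd t ht)
    (by rw [projMapH_toSpec, Category.assoc, chartι_toSpec])

theorem ι_fst : ι n hd t ht ≫ pr1 n m R = projMapH n (rho (polyGrading m R) t) :=
  pullback.lift_fst _ _ _

theorem ι_snd : ι n hd t ht ≫ pr2 n m R =
    ProjSpace.toSpec n (Away (polyGrading m R) t) ≫ chartι m R hd t ht :=
  pullback.lift_snd _ _ _

theorem isPullback_ι :
    IsPullback (ι n hd t ht) (ProjSpace.toSpec n (Away (polyGrading m R) t)) (pr2 n m R)
      (chartι m R hd t ht) := by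
  refine IsPullback.of_right ?_ (ι_snd n hd t ht)
    (IsPullback.of_hasPullback (ProjSpace.toSpec n R) (ProjSpace.toSpec m R))
  rw [ι_fst, chartι_toSpec]
  exact isPullback_projMapH n (rho (polyGrading m R) t)

instance isOpenImmersion_ι : IsOpenImmersion (ι n hd t ht) :=
  MorphismProperty.of_isPullback (isPullback_ι n hd t ht).flip inferInstance

theorem opensRange_ι : (ι n hd t ht).opensRange =
    (pr2 n m R) ⁻¹ᵁ (Proj.basicOpen (polyGrading m R) t : (ProjSpace m R).Opens) := by
  ext x
  have h := Groth.Agent.PnOver.range_fst_of_isPullback (isPullback_ι n hd t ht)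
  have h2 : Set.range (chartι m R hd t ht) =
      ((chartι m R hd t ht).opensRange : Set (ProjSpace m R)) := rfl
  show x ∈ Set.range (ι n hd t ht) ↔ _
  rw [h, h2, opensRange_chartι]
  rfl

variable {d' : ℕ} (hd' : 0 < d') (t' : MvPolynomial (Fin (m + 1)) R) (ht' : t' ∈ polyGrading m R d')

/-- The localisation map `B_t → B_{tt'}`. -/
def αL : Away (polyGrading m R) t →+* Away (polyGrading m R) (t * t') :=
  awayMap (polyGrading m R) ht' rfl

/-- The localisation map `B_{t'} → B_{tt'}`. -/
def αR : Away (polyGrading m R) t' →+* Away (polyGrading m R) (t * t') :=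
  awayMap (polyGrading m R) ht (mul_comm t t')

theorem αL_comp_rho : (αL t t' ht').comp (rho (polyGrading m R) t) =
    rho (polyGrading m R) (t * t') :=
  RingHom.ext fun _ => awayMap_fromZeroRingHom (polyGrading m R) ht' rfl _

theorem αR_comp_rho : (αR t ht t').comp (rho (polyGrading m R) t') =
    rho (polyGrading m R) (t * t') :=
  RingHom.ext fun _ => awayMap_fromZeroRingHom (polyGrading m R) ht (mul_comm t t') _

theorem isPullback_Spec :
    IsPullback (Spec.map (CommRingCat.ofHom (αL t t' ht'))) (Spec.map (CommRingCat.ofHom (αR t ht t')))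
      (chartι m R hd t ht) (chartι m R hd' t' ht') := by
  have h1 := Proj.pullbackAwayιIso_inv_fst (polyGrading m R) ht hd ht' hd' rfl
  have h2 := Proj.pullbackAwayιIso_inv_snd (polyGrading m R) ht hd ht' hd' rfl
  refine IsPullback.of_iso_pullback ⟨?_⟩
    (Proj.pullbackAwayιIso (polyGrading m R) ht hd ht' hd' rfl).symm h1 h2
  show Spec.map (CommRingCat.ofHom (αL t t' ht')) ≫ Proj.awayι (polyGrading m R) t ht hd =
    Spec.map (CommRingCat.ofHom (αR t ht t')) ≫ Proj.awayι (polyGrading m R) t' ht' hd'
  have e1 : Spec.map (CommRingCat.ofHom (αL t t' ht')) =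
      (Proj.pullbackAwayιIso (polyGrading m R) ht hd ht' hd' rfl).inv ≫ pullback.fst _ _ := h1.symm
  have e2 : Spec.map (CommRingCat.ofHom (αR t ht t')) =
      (Proj.pullbackAwayιIso (polyGrading m R) ht hd ht' hd' rfl).inv ≫ pullback.snd _ _ := h2.symm
  rw [e1, e2, Category.assoc, Category.assoc, pullback.condition]

theorem overlap_comm :
    projMapH n (αL t t' ht') ≫ ι n hd t ht = projMapH n (αR t ht t') ≫ ι n hd' t' ht' := by
  refine pullback.hom_ext ?_ ?_
  · rw [Category.assoc, Category.assoc]
    erw [ι_fst, ι_fst]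
    rw [projMapH_comp, projMapH_comp, αL_comp_rho, αR_comp_rho]
  · rw [Category.assoc, Category.assoc]
    erw [ι_snd, ι_snd]
    rw [← Category.assoc, ← Category.assoc, projMapH_toSpec, projMapH_toSpec, Category.assoc,
      Category.assoc, (isPullback_Spec hd t ht hd' t' ht').w]

theorem isPullback_overlap :
    IsPullback (projMapH n (αL t t' ht')) (projMapH n (αR t ht t')) (ι n hd t ht)
      (ι n hd' t' ht') := by
  refine IsPullback.of_right ?_ (overlap_comm n hd t ht hd' t' ht') (isPullback_ι n hd t ht).flip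
  have h3 := ((isPullback_projMapH n (αR t ht t')).flip).paste_horiz
    (isPullback_Spec hd t ht hd' t' ht')
  rw [projMapH_toSpec]
  have e : ι n hd' t' ht' ≫ pullback.snd (ProjSpace.toSpec n R) (ProjSpace.toSpec m R) =
      ProjSpace.toSpec n (Away (polyGrading m R) t') ≫ chartι m R hd' t' ht' := ι_snd n hd' t' ht'
  rw [e]
  exact h3

end Groth.Agent.Lib.SegreB_helper7
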