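import Mathlib
import Groth.Prelude.Def_CohB1
import Groth.Agent.Lib.SegreA_helper7
import Groth.Agent.Lib.SegreB_helper7

/-!
# Segre embedding, part A2: identities in homogeneous localisations; chartwise surjectivity (helper7)
APPEND-ONLY once landed.
-/

set_option autoImplicit false
universe u
open CategoryTheory CategoryTheory.Limits AlgebraicGeometry HomogeneousLocalization MvPolynomial CohB1

noncomputable section

namespace Groth.Agent.Lib.SegreA2_helper7

open Groth.Agent.ProjBCn Groth.Agent.ProjBC Groth.Agent.Lib.SegreA_helper7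
  Groth.Agent.Lib.SegreB_helper7

section General

variable {A σ : Type u} [CommRing A] [SetLike σ A] [AddSubgroupClass σ A]
  {𝒜 : ℕ → σ} [GradedRing 𝒜]

theorem mk_mul_pow {f : A} {d : ℕ} (hf : f ∈ 𝒜 d) (c : A) (hc : c ∈ 𝒜 0) (e : ℕ)
    (h : c * f ^ e ∈ 𝒜 (e • d)) :
    Away.mk 𝒜 hf e (c * f ^ e) h = fromZeroRingHom 𝒜 _ ⟨c, hc⟩ := by
  rw [HomogeneousLocalization.ext_iff_val, Away.val_mk]
  show _ = Localization.mk c 1
  rw [Localization.mk_eq_mk_iff, Localization.r_iff_exists]
  exact ⟨1, by simp; ring⟩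

end General

variable (n m : ℕ) (R : Type u) [CommRing R]

theorem hX (j : Fin (m + 1)) : (X j : MvPolynomial (Fin (m + 1)) R) ∈ polyGrading m R 1 :=
  Groth.Agent.ProjGamma5.X_mem m R j

/-- `y_l / y_j ∈ R[y]_(y_j)`. -/
def bvec (j l : Fin (m + 1)) : Away (polyGrading m R) (X j : MvPolynomial (Fin (m + 1)) R) :=
  Away.isLocalizationElem (hX m R j) (hX m R l)

theorem bvec_self (j : Fin (m + 1)) : bvec m R j j = 1 := by
  rw [HomogeneousLocalization.ext_iff_val, bvec, Away.val_mk, val_one]
  exact Localization.mk_self (S := Submonoid.powers (X j : MvPolynomial (Fin (m + 1)) R))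
    ⟨X j ^ 1, 1, rfl⟩

theorem overlap_rel (j j' l : Fin (m + 1)) :
    αR (X j) (hX m R j) (X j') (bvec m R j' l) =
      αR (X j) (hX m R j) (X j') (bvec m R j' j) *
        αL (X j) (X j') (hX m R j') (bvec m R j l) := by
  simp only [αL, αR, bvec, awayMap_mk]
  rw [HomogeneousLocalization.ext_iff_val]
  simp only [val_mul, Away.val_mk, Localization.mk_mul]
  rw [Localization.mk_eq_mk_iff, Localization.r_iff_exists]
  exact ⟨1, by simp; ring⟩

theorem overlap_unit (j j' : Fin (m + 1)) :
    αR (X j) (hX m R j) (X j') (bvec m R j' j) *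
      αL (X j) (X j') (hX m R j') (bvec m R j j') = 1 := by
  rw [← overlap_rel, bvec_self, map_one]

section Surj

variable {n m R}

theorem adjoin_X_eq_top (k : ℕ) (S : Type u) [CommRing S] :
    Algebra.adjoin (polyGrading k S 0)
      (Set.range fun i : Fin (k + 1) => (X i : MvPolynomial (Fin (k + 1)) S)) = ⊤ := by
  rw [eq_top_iff]
  rintro p -
  induction p using MvPolynomial.induction_on with
  | C a =>
    exact Subalgebra.algebraMap_mem _ (⟨C a, isHomogeneous_C _ a⟩ : polyGrading k S 0)
  | add p q hp hq => exact Subalgebra.add_mem _ hp hq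
  | mul_X p i hp => exact Subalgebra.mul_mem _ hp (Algebra.subset_adjoin ⟨i, rfl⟩)

theorem exists_C_of_mem_zero (k : ℕ) (S : Type u) [CommRing S] (c : polyGrading k S 0) :
    ∃ r : S, c = ⟨C r, isHomogeneous_C _ r⟩ := by
  have h : (c : MvPolynomial (Fin (k + 1)) S) ∈
      MvPolynomial.homogeneousSubmodule (Fin (k + 1)) S 0 := c.2
  rw [MvPolynomial.homogeneousSubmodule_zero, Submodule.mem_one] at h
  obtain ⟨r, hr⟩ := h
  exact ⟨r, Subtype.ext hr.symm⟩

theorem prod_bvec (j : Fin (m + 1)) (e : ℕ) (β : Fin (m + 1) → ℕ) (hsum : ∑ l, β l = e)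
    (h : ∏ l, (X l : MvPolynomial (Fin (m + 1)) R) ^ β l ∈ polyGrading m R (e • 1)) :
    ∏ l, bvec m R j l ^ β l = Away.mk (polyGrading m R) (hX m R j) e (∏ l, X l ^ β l) h := by
  apply (show Function.Injective (algebraMap (Away (polyGrading m R) (X j))
    (Localization.Away (X j : MvPolynomial (Fin (m + 1)) R))) from val_injective _)
  simp only [map_prod, map_pow]
  simp only [HomogeneousLocalization.algebraMap_apply, bvec, Away.val_mk, Localization.mk_pow,
    Localization.mk_prod]
  congr 1
  · simp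
  · apply Subtype.ext
    simp [Finset.prod_pow_eq_pow_sum, hsum]

end Surj

section Surj2

/-- the graded homomorphism for the chart `j`. -/
abbrev gj (j : Fin (m + 1)) : polyGrading (n * m + n + m) R →+*ᵍ
    polyGrading n (Away (polyGrading m R) (X j : MvPolynomial (Fin (m + 1)) R)) :=
  gHom n m (rho (polyGrading m R) (X j : MvPolynomial (Fin (m + 1)) R)) (bvec m R j)

/-- the variable `z_{ij}`. -/
abbrev zz (i : Fin (n + 1)) (j : Fin (m + 1)) : MvPolynomial (Fin (n * m + n + m + 1)) R :=
  X (eqv n m (i, j))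

theorem hzz (i : Fin (n + 1)) (j : Fin (m + 1)) :
    zz n m R i j ∈ polyGrading (n * m + n + m) R 1 :=
  Groth.Agent.ProjGamma5.X_mem _ R _

theorem gj_zz (i : Fin (n + 1)) (j : Fin (m + 1)) : gj n m R j (zz n m R i j) = X i := by
  rw [gHom_X, bvec_self, C_1, one_mul]

variable {n m R}
variable (i : Fin (n + 1)) (j : Fin (m + 1))

theorem mono_mem_range (a : ℕ) (ai : Fin (n + 1) → ℕ) (hai : ∑ k, ai k • 1 = a • 1)
    (h : ∏ k, (X k : MvPolynomial (Fin (n + 1))
      (Away (polyGrading m R) (X j : MvPolynomial (Fin (m + 1)) R))) ^ ai k ∈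
        polyGrading n _ (a • 1)) :
    Away.mk (polyGrading n _) ((gj n m R j).2 (hzz n m R i j)) a (∏ k, X k ^ ai k) h ∈
      (Away.map (gj n m R j) (zz n m R i j)).range := by
  have hw : ∏ k, (X (eqv n m (k, j)) : MvPolynomial (Fin (n * m + n + m + 1)) R) ^ ai k ∈
      polyGrading (n * m + n + m) R (a • 1) := by
    have := SetLike.prod_pow_mem_graded (polyGrading (n * m + n + m) R) (fun _ => 1)
      (fun k => (X (eqv n m (k, j)) : MvPolynomial (Fin (n * m + n + m + 1)) R))
      (F := Finset.univ) ai (fun k _ => Groth.Agent.ProjGamma5.X_mem _ R _)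
    rw [hai] at this
    exact this
  refine ⟨Away.mk _ (hzz n m R i j) a _ hw, ?_⟩
  rw [Away.map_mk, HomogeneousLocalization.ext_iff_val, Away.val_mk, Away.val_mk]
  congr 1
  rw [map_prod]
  refine Finset.prod_congr rfl fun k _ => ?_
  rw [map_pow, gHom_X, bvec_self, C_1, one_mul]

theorem const_mem_range_R (r : R) :
    rho (polyGrading n (Away (polyGrading m R) (X j : MvPolynomial (Fin (m + 1)) R)))
      (gj n m R j (zz n m R i j)) (rho (polyGrading m R) (X j) r) ∈
        (Away.map (gj n m R j) (zz n m R i j)).range := by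
  refine ⟨rho (polyGrading (n * m + n + m) R) (zz n m R i j) r, ?_⟩
  have h := RingHom.congr_fun (Groth.Agent.Lib.ProjMap_helper3.away_map_comp_fromZero
    (polyGrading (n * m + n + m) R) (polyGrading n _) (gj n m R j) (zz n m R i j))
    (algebraMap R (polyGrading (n * m + n + m) R 0) r)
  simp only [RingHom.comp_apply] at h
  refine h.trans ?_
  show fromZeroRingHom _ _ _ = fromZeroRingHom _ _ _
  congr 1
  apply Subtype.ext
  exact gRing_C n m _ _ r

theorem const_mem_range_mono (e : ℕ) (β : Fin (m + 1) → ℕ) (hβ : ∑ l, β l • 1 = e • 1)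
    (h : ∏ l, (X l : MvPolynomial (Fin (m + 1)) R) ^ β l ∈ polyGrading m R (e • 1)) :
    rho (polyGrading n (Away (polyGrading m R) (X j : MvPolynomial (Fin (m + 1)) R)))
      (gj n m R j (zz n m R i j))
      (Away.mk (polyGrading m R) (hX m R j) e (∏ l, X l ^ β l) h) ∈
        (Away.map (gj n m R j) (zz n m R i j)).range := by
  have hsum : ∑ l, β l = e := by simpa using hβ
  have hw : ∏ l, (X (eqv n m (i, l)) : MvPolynomial (Fin (n * m + n + m + 1)) R) ^ β l ∈
      polyGrading (n * m + n + m) R (e • 1) := by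
    have := SetLike.prod_pow_mem_graded (polyGrading (n * m + n + m) R) (fun _ => 1)
      (fun l => (X (eqv n m (i, l)) : MvPolynomial (Fin (n * m + n + m + 1)) R))
      (F := Finset.univ) β (fun k _ => Groth.Agent.ProjGamma5.X_mem _ R _)
    rw [hβ] at this
    exact this
  refine ⟨Away.mk _ (hzz n m R i j) e _ hw, ?_⟩
  have hg : gj n m R j (∏ l, (X (eqv n m (i, l)) : MvPolynomial (Fin (n * m + n + m + 1)) R) ^ β l)
      = C (∏ l, bvec m R j l ^ β l) * (gj n m R j (zz n m R i j)) ^ e := by
    rw [map_prod, gj_zz]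
    simp only [map_pow, gHom_X, mul_pow]
    rw [Finset.prod_mul_distrib, Finset.prod_pow_eq_pow_sum, hsum, map_prod]
    simp only [map_pow]
  rw [← prod_bvec j e β hsum h, Away.map_mk, HomogeneousLocalization.ext_iff_val, Away.val_mk, hg,
    val_rho, Localization.mk_eq_mk_iff, Localization.r_iff_exists]
  exact ⟨1, by simp [MvPolynomial.algebraMap_eq]; ring⟩

theorem const_mem_range (b : Away (polyGrading m R) (X j : MvPolynomial (Fin (m + 1)) R)) :
    rho (polyGrading n (Away (polyGrading m R) (X j : MvPolynomial (Fin (m + 1)) R)))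
      (gj n m R j (zz n m R i j)) b ∈ (Away.map (gj n m R j) (zz n m R i j)).range := by
  have hspan := Away.span_mk_prod_pow_eq_top (hX m R j)
    (fun l : Fin (m + 1) => (X l : MvPolynomial (Fin (m + 1)) R)) (adjoin_X_eq_top m R)
    (fun _ => 1) (fun l => hX m R l)
  have hb : b ∈ Submodule.span (polyGrading m R 0) _ := hspan.symm ▸ Submodule.mem_top
  induction hb using Submodule.span_induction with
  | mem x hx =>
    obtain ⟨e, β, hβ, rfl⟩ := hx
    exact const_mem_range_mono i j e β hβ _
  | zero => rw [map_zero]; exact Subring.zero_mem _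
  | add x y _ _ hx hy => rw [map_add]; exact Subring.add_mem _ hx hy
  | smul c x _ hx =>
    obtain ⟨r, rfl⟩ := exists_C_of_mem_zero m R c
    rw [Algebra.smul_def, map_mul]
    exact Subring.mul_mem _ (const_mem_range_R i j r) hx

theorem away_map_surjective :
    Function.Surjective (Away.map (gj n m R j) (zz n m R i j)) := by
  intro y
  have hspan := Away.span_mk_prod_pow_eq_top ((gj n m R j).2 (hzz n m R i j))
    (fun k : Fin (n + 1) => (X k : MvPolynomial (Fin (n + 1))
      (Away (polyGrading m R) (X j : MvPolynomial (Fin (m + 1)) R))))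
    (adjoin_X_eq_top n _) (fun _ => 1) (fun k => Groth.Agent.ProjGamma5.X_mem n _ k)
  have hy : y ∈ Submodule.span (polyGrading n _ 0) _ := hspan.symm ▸ Submodule.mem_top
  suffices y ∈ (Away.map (gj n m R j) (zz n m R i j)).range from this
  induction hy using Submodule.span_induction with
  | mem x hx =>
    obtain ⟨a, ai, hai, rfl⟩ := hx
    exact mono_mem_range i j a ai hai _
  | zero => exact Subring.zero_mem _
  | add x y _ _ hx hy => exact Subring.add_mem _ hx hy
  | smul c x _ hx =>
    obtain ⟨b, rfl⟩ := exists_C_of_mem_zero n _ c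
    rw [Algebra.smul_def]
    exact Subring.mul_mem _ (const_mem_range i j b) hx

end Surj2

end Groth.Agent.Lib.SegreA2_helper7
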