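import Mathlib
import Groth.Prelude.Def_CohB1
import Groth.Agent.Lib.SegreA_helper7
import Groth.Agent.Lib.SegreA2_helper7
import Groth.Agent.Lib.SegreB_helper7

/-!
# Segre embedding, part C: the Segre morphism over a ring and its closed-immersion property (helper7)
APPEND-ONLY once landed.
-/

set_option autoImplicit false
universe u
open CategoryTheory CategoryTheory.Limits AlgebraicGeometry HomogeneousLocalization MvPolynomial CohB1

noncomputable section

namespace Groth.Agent.Lib.SegreC_helper7

open Groth.Agent.ProjBCn Groth.Agent.ProjBC Groth.Agent.Lib.SegreA_helper7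
  Groth.Agent.Lib.SegreB_helper7 Groth.Agent.Lib.SegreA2_helper7

theorem projMap_gHom_congr (n m : ℕ) {R B' : Type u} [CommRing R] [CommRing B']
    {φ φ' : R →+* B'} {b b' : Fin (m + 1) → B'} (hφ : φ = φ') (hb : b = b')
    (h : HomogeneousIdeal.irrelevant (polyGrading n B') ≤
      (HomogeneousIdeal.irrelevant (polyGrading (n * m + n + m) R)).map (gHom n m φ b))
    (h' : HomogeneousIdeal.irrelevant (polyGrading n B') ≤
      (HomogeneousIdeal.irrelevant (polyGrading (n * m + n + m) R)).map (gHom n m φ' b')) :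
    Proj.map (gHom n m φ b) h = Proj.map (gHom n m φ' b') h' := by
  subst hφ hb
  rfl

variable (n m : ℕ) (R : Type u) [CommRing R]

/-- the chart `P^n_{B_j}`. -/
abbrev Pj (j : Fin (m + 1)) : Scheme.{u} :=
  ProjSpace n (Away (polyGrading m R) (X j : MvPolynomial (Fin (m + 1)) R))

/-- the chart map `P^n_{B_j} ⟶ P^n ×_R P^m`. -/
abbrev ιj (j : Fin (m + 1)) : Pj n m R j ⟶ XX n m R := ι n one_pos (X j) (hX m R j)

/-- the local Segre morphism. -/
def σj (j : Fin (m + 1)) : Pj n m R j ⟶ ProjSpace (n * m + n + m) R :=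
  Proj.map (gj n m R j) (gHom_irr n m _ _ j (bvec_self m R j))

/-- the open cover of the product by the charts. -/
def coverX : (XX n m R).OpenCover :=
  Scheme.Cover.mkOfCovers (Fin (m + 1)) (fun j => Pj n m R j) (fun j => ιj n m R j) (fun x => by
    obtain ⟨j, hj⟩ := exists_mem_chart m R (pr2 n m R x)
    have h : x ∈ (ιj n m R j).opensRange := by
      rw [opensRange_ι]
      rw [opensRange_chartι] at hj
      exact hj
    obtain ⟨y, hy⟩ := h
    exact ⟨j, y, hy⟩)

theorem σ_compat (j j' : Fin (m + 1)) :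
    projMapH n (αL (X j) (X j') (hX m R j')) ≫ σj n m R j =
      projMapH n (αR (X j) (hX m R j) (X j')) ≫ σj n m R j' := by
  have e1 := projMapH_comp_projMap n m (rho (polyGrading m R) (X j)) (bvec m R j)
    (αL (X j) (X j') (hX m R j')) j (bvec_self m R j) (by rw [bvec_self, map_one])
  have e2 := projMapH_comp_projMap n m (rho (polyGrading m R) (X j')) (bvec m R j')
    (αR (X j) (hX m R j) (X j')) j' (bvec_self m R j') (by rw [bvec_self, map_one])
  refine e1.trans (Eq.trans ?_ e2.symm)
  have hφ : (αR (X j) (hX m R j) (X j')).comp (rho (polyGrading m R) (X j')) =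
      (αL (X j) (X j') (hX m R j')).comp (rho (polyGrading m R) (X j)) :=
    (αR_comp_rho (X j) (hX m R j) (X j')).trans (αL_comp_rho (X j) (X j') (hX m R j')).symm
  have hb : (fun l => αR (X j) (hX m R j) (X j') (bvec m R j' l)) =
      fun l => αR (X j) (hX m R j) (X j') (bvec m R j' j) *
        αL (X j) (X j') (hX m R j') (bvec m R j l) := funext fun l => overlap_rel m R j j' l
  symm
  refine (projMap_gHom_congr n m hφ hb _
    (gHom_irr n m _ _ j' (overlap_unit m R j j'))).trans ?_
  exact projMap_scale n m _ (fun l => αL (X j) (X j') (hX m R j') (bvec m R j l))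
    (αR (X j) (hX m R j) (X j') (bvec m R j' j)) (αL (X j) (X j') (hX m R j') (bvec m R j j'))
    (overlap_unit m R j j') j j' (by rw [bvec_self, map_one]) (overlap_unit m R j j')

/-- **The Segre morphism** `P^n_R ×_R P^m_R ⟶ P^{nm+n+m}_R`. -/
def σ : XX n m R ⟶ ProjSpace (n * m + n + m) R :=
  (coverX n m R).glueMorphisms (fun j => σj n m R j) (fun j j' => by
    have hpb := isPullback_overlap n one_pos (X j) (hX m R j) one_pos (X j') (hX m R j')
    show pullback.fst (ιj n m R j) (ιj n m R j') ≫ σj n m R j =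
      pullback.snd (ιj n m R j) (ιj n m R j') ≫ σj n m R j'
    rw [← cancel_epi hpb.isoPullback.hom, hpb.isoPullback_hom_fst_assoc,
      hpb.isoPullback_hom_snd_assoc]
    exact σ_compat n m R j j')

theorem ι_σ (j : Fin (m + 1)) : ιj n m R j ≫ σ n m R = σj n m R j :=
  (coverX n m R).ι_glueMorphisms _ _ j

theorem toSpec_mem_basicOpen (B' : Type u) [CommRing B'] (c : B') (p : ProjSpace n B')
    (hp : p ∈ (Proj.basicOpen (polyGrading n B') (C c) : (ProjSpace n B').Opens)) :
    c ∉ (ProjSpace.toSpec n B' p).asIdeal := by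
  obtain ⟨k, hk⟩ := exists_mem_chart n B' p
  rw [opensRange_chartι] at hk
  have hf : (C c * X k : MvPolynomial (Fin (n + 1)) B') ∈ polyGrading n B' 1 :=
    (MvPolynomial.isHomogeneous_X _ _).C_mul _
  have hp2 : p ∈ (Proj.basicOpen (polyGrading n B') (C c * X k) : (ProjSpace n B').Opens) := by
    rw [Proj.basicOpen_mul]
    exact ⟨hp, hk⟩
  rw [← opensRange_chartι n B' one_pos _ hf] at hp2
  obtain ⟨q, rfl⟩ := hp2
  rw [← Scheme.Hom.comp_apply, chartι_toSpec, Spec.map_apply]
  intro hmem
  have hmem' : rho (polyGrading n B') (C c * X k) c ∈ q.asIdeal := hmem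
  have hu : IsUnit (rho (polyGrading n B') (C c * X k) c) := by
    refine isUnit_iff_exists_inv.mpr ⟨Away.mk (polyGrading n B') hf 1 (X k)
      (by simpa using Groth.Agent.ProjGamma5.X_mem n B' k), ?_⟩
    rw [HomogeneousLocalization.ext_iff_val, val_mul, val_rho, Away.val_mk, val_one,
      Localization.mk_mul, ← Localization.mk_one, Localization.mk_eq_mk_iff,
      Localization.r_iff_exists]
    exact ⟨1, by simp [MvPolynomial.algebraMap_eq]⟩
  exact q.isPrime.ne_top (Ideal.eq_top_of_isUnit_mem _ hmem' hu)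

variable (i : Fin (n + 1)) (j : Fin (m + 1))

/-- the affine chart `Spec (B_j[x])_(x_i)` of the product. -/
abbrev Wij : Scheme.{u} :=
  Spec (CommRingCat.of (Away (polyGrading n (Away (polyGrading m R)
    (X j : MvPolynomial (Fin (m + 1)) R))) (gj n m R j (zz n m R i j))))

/-- `W_ij ⟶ P^n ×_R P^m`. -/
def aij : Wij n m R i j ⟶ XX n m R :=
  chartι n _ one_pos (gj n m R j (zz n m R i j)) ((gj n m R j).2 (hzz n m R i j)) ≫ ιj n m R j

instance : IsOpenImmersion (aij n m R i j) := by
  unfold aij
  infer_instance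

/-- `W_ij ⟶ D_+(z_ij)`. -/
def sij : Wij n m R i j ⟶
    Spec (CommRingCat.of (Away (polyGrading (n * m + n + m) R) (zz n m R i j))) :=
  Spec.map (CommRingCat.ofHom (Away.map (gj n m R j) (zz n m R i j)))

/-- `D_+(z_ij) ⟶ P^N`. -/
abbrev cij : Spec (CommRingCat.of (Away (polyGrading (n * m + n + m) R) (zz n m R i j))) ⟶
    ProjSpace (n * m + n + m) R :=
  chartι (n * m + n + m) R one_pos (zz n m R i j) (hzz n m R i j)

theorem aij_σ : aij n m R i j ≫ σ n m R = sij n m R i j ≫ cij n m R i j := by
  rw [aij, Category.assoc, ι_σ]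
  exact Proj.awayι_comp_map (gj n m R j) _ one_pos (zz n m R i j) (hzz n m R i j)

theorem σj_preimage (j' : Fin (m + 1)) :
    σj n m R j' ⁻¹ᵁ (Proj.basicOpen (polyGrading (n * m + n + m) R) (zz n m R i j) :
      (ProjSpace (n * m + n + m) R).Opens) =
      (Proj.basicOpen (polyGrading n _) (C (bvec m R j' j) * X i) : (Pj n m R j').Opens) := by
  have h := Proj.map_preimage_basicOpen (gj n m R j') (gHom_irr n m _ _ j' (bvec_self m R j'))
    (zz n m R i j)
  rw [gHom_X] at h
  exact h

theorem mem_range_ιj_of_σ_mem (x : XX n m R)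
    (hx : σ n m R x ∈ (Proj.basicOpen (polyGrading (n * m + n + m) R) (zz n m R i j) :
      (ProjSpace (n * m + n + m) R).Opens)) :
    x ∈ (ιj n m R j).opensRange := by
  obtain ⟨j', y, rfl⟩ := (coverX n m R).exists_eq x
  change σ n m R (ιj n m R j' y) ∈ _ at hx
  rw [← Scheme.Hom.comp_apply, ι_σ] at hx
  have h2 : y ∈ (Proj.basicOpen (polyGrading n _) (C (bvec m R j' j) * X i) :
      (Pj n m R j').Opens) := by
    rw [← σj_preimage]
    exact hx
  rw [Proj.basicOpen_mul] at h2
  have h4 := toSpec_mem_basicOpen n _ _ y h2.1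
  change ιj n m R j' y ∈ _
  rw [opensRange_ι]
  show pr2 n m R (ιj n m R j' y) ∈
    (Proj.basicOpen (polyGrading m R) (X j) : (ProjSpace m R).Opens)
  rw [← Scheme.Hom.comp_apply, ι_snd, Scheme.Hom.comp_apply]
  have h5 := Proj.awayι_preimage_basicOpen (polyGrading m R) (hX m R j') one_pos (hX m R j) one_pos
  have h6 : ProjSpace.toSpec n _ y ∈
      (chartι m R one_pos (X j') (hX m R j')) ⁻¹ᵁ
        (Proj.basicOpen (polyGrading m R) (X j) : (ProjSpace m R).Opens) := by
    erw [h5]
    exact h4
  exact h6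

theorem isPullback_chart :
    IsPullback (sij n m R i j) (aij n m R i j) (cij n m R i j) (σ n m R) := by
  refine IsOpenImmersion.isPullback _ _ _ _ (aij_σ n m R i j) ?_
  rw [opensRange_chartι]
  ext x
  constructor
  · intro hx
    have hx' : σ n m R x ∈ (Proj.basicOpen (polyGrading (n * m + n + m) R) (zz n m R i j) :
      (ProjSpace (n * m + n + m) R).Opens) := hx
    obtain ⟨w, rfl⟩ := mem_range_ιj_of_σ_mem n m R i j x hx'
    change σ n m R (ιj n m R j w) ∈ _ at hx'
    rw [← Scheme.Hom.comp_apply, ι_σ] at hx'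
    have h7 : w ∈ (Proj.basicOpen (polyGrading n _) (gj n m R j (zz n m R i j)) :
        (Pj n m R j).Opens) := hx'
    rw [← opensRange_chartι n _ one_pos (gj n m R j (zz n m R i j))
      ((gj n m R j).2 (hzz n m R i j))] at h7
    obtain ⟨q, rfl⟩ := h7
    exact ⟨q, rfl⟩
  · rintro ⟨q, rfl⟩
    show σ n m R (aij n m R i j q) ∈
      (Proj.basicOpen (polyGrading (n * m + n + m) R) (zz n m R i j) :
        (ProjSpace (n * m + n + m) R).Opens)
    rw [← Scheme.Hom.comp_apply, aij_σ, Scheme.Hom.comp_apply,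
      ← opensRange_chartι (n * m + n + m) R one_pos (zz n m R i j) (hzz n m R i j)]
    exact ⟨_, rfl⟩

theorem isClosedImmersion_σ : IsClosedImmersion (σ n m R) := by
  refine IsZariskiLocalAtTarget.of_openCover (P := @IsClosedImmersion)
    (Groth.Agent.ProjGamma5.cover (n * m + n + m) R) fun k => ?_
  obtain ⟨⟨i, j⟩, rfl⟩ := (eqv n m).surjective k
  have hpb := (isPullback_chart n m R i j).flip
  have h1 : hpb.isoPullback.hom ≫ pullback.snd _ _ = sij n m R i j := hpb.isoPullback_hom_snd
  have h2 : IsClosedImmersion (sij n m R i j) :=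
    IsClosedImmersion.spec_of_surjective _ (away_map_surjective i j)
  rw [← h1, MorphismProperty.cancel_left_of_respectsIso (P := @IsClosedImmersion)] at h2
  exact h2

end Groth.Agent.Lib.SegreC_helper7
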