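import Mathlib
import Groth.Prelude.Def_CohB1
import Groth.Agent.Lib.SegreC_helper7
import Groth.Agent.Lib.HProj5_helper5

/-!
# Segre embedding, part D: base change to an arbitrary base scheme (helper7)
APPEND-ONLY once landed.
-/

set_option autoImplicit false
universe u
open CategoryTheory CategoryTheory.Limits AlgebraicGeometry CohB1

noncomputable section

namespace Groth.Agent.Lib.SegreD_helper7

open Groth.Agent.HProj Groth.Agent.Lib.SegreB_helper7 Groth.Agent.Lib.SegreC_helper7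

variable (S : Scheme.{u})

/-- lifting into `P^k_S`. -/
def liftP (k : ℕ) {W : Scheme.{u}} (a : W ⟶ ProjSpace k (ULift.{u} ℤ)) (b : W ⟶ S) :
    W ⟶ ProjSpaceOver k S :=
  (isPullback_pfst k S).lift a b (specULiftZIsTerminal.hom_ext _ _)

theorem liftP_fst (k : ℕ) {W : Scheme.{u}} (a : W ⟶ ProjSpace k (ULift.{u} ℤ)) (b : W ⟶ S) :
    liftP S k a b ≫ pfst k S = a :=
  (isPullback_pfst k S).lift_fst _ _ _

theorem liftP_snd (k : ℕ) {W : Scheme.{u}} (a : W ⟶ ProjSpace k (ULift.{u} ℤ)) (b : W ⟶ S) :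
    liftP S k a b ≫ ProjSpaceOver.toBase k S = b :=
  (isPullback_pfst k S).lift_snd _ _ _

theorem P_hom_ext (k : ℕ) {W : Scheme.{u}} (f g : W ⟶ ProjSpaceOver k S)
    (h1 : f ≫ pfst k S = g ≫ pfst k S)
    (h2 : f ≫ ProjSpaceOver.toBase k S = g ≫ ProjSpaceOver.toBase k S) : f = g :=
  (isPullback_pfst k S).hom_ext h1 h2

variable (n m : ℕ)

/-- `P^n_S ×_S P^m_S`. -/
abbrev YY : Scheme.{u} := pullback (ProjSpaceOver.toBase n S) (ProjSpaceOver.toBase m S)

/-- `P^n_S ×_S P^m_S ⟶ P^n_ℤ × P^m_ℤ`. -/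
def qq : YY S n m ⟶ XX n m (ULift.{u} ℤ) :=
  pullback.lift (pullback.fst _ _ ≫ pfst n S) (pullback.snd _ _ ≫ pfst m S)
    (specULiftZIsTerminal.hom_ext _ _)

theorem qq_fst : qq S n m ≫ pr1 n m (ULift.{u} ℤ) = pullback.fst _ _ ≫ pfst n S :=
  pullback.lift_fst _ _ _

theorem qq_snd : qq S n m ≫ pr2 n m (ULift.{u} ℤ) = pullback.snd _ _ ≫ pfst m S :=
  pullback.lift_snd _ _ _

/-- the structure morphism of the product. -/
abbrev rr : YY S n m ⟶ S := pullback.fst _ _ ≫ ProjSpaceOver.toBase n S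

variable {S n m} in
/-- the lift into the product. -/
def bigLift {W : Scheme.{u}} (a : W ⟶ S) (b : W ⟶ XX n m (ULift.{u} ℤ)) : W ⟶ YY S n m :=
  pullback.lift (liftP S n (b ≫ pr1 n m _) a) (liftP S m (b ≫ pr2 n m _) a)
    ((liftP_snd S n _ a).trans (liftP_snd S m _ a).symm)

variable {S n m} in
theorem bigLift_rr {W : Scheme.{u}} (a : W ⟶ S) (b : W ⟶ XX n m (ULift.{u} ℤ)) :
    bigLift a b ≫ rr S n m = a := by
  unfold bigLift rr
  rw [← Category.assoc, pullback.lift_fst, liftP_snd]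

variable {S n m} in
theorem bigLift_qq {W : Scheme.{u}} (a : W ⟶ S) (b : W ⟶ XX n m (ULift.{u} ℤ)) :
    bigLift a b ≫ qq S n m = b := by
  refine pullback.hom_ext ?_ ?_
  · have e := qq_fst S n m
    rw [Category.assoc]
    refine (congrArg (fun t => bigLift a b ≫ t) e).trans ?_
    unfold bigLift
    rw [← Category.assoc, pullback.lift_fst, liftP_fst]
  · have e := qq_snd S n m
    rw [Category.assoc]
    refine (congrArg (fun t => bigLift a b ≫ t) e).trans ?_
    unfold bigLift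
    rw [← Category.assoc, pullback.lift_snd, liftP_fst]

variable {S n m} in
theorem big_uniq {W : Scheme.{u}} (a : W ⟶ S) (b : W ⟶ XX n m (ULift.{u} ℤ))
    (m' : W ⟶ YY S n m) (h1 : m' ≫ rr S n m = a) (h2 : m' ≫ qq S n m = b) :
    m' = bigLift a b := by
  have e1 : (m' ≫ pullback.fst _ _) ≫ pfst n S = b ≫ pr1 n m _ := by
    rw [Category.assoc, ← qq_fst, ← Category.assoc, h2]
  have e2 : (m' ≫ pullback.snd _ _) ≫ pfst m S = b ≫ pr2 n m _ := by
    rw [Category.assoc, ← qq_snd, ← Category.assoc, h2]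
  have e3 : (m' ≫ pullback.fst _ _) ≫ ProjSpaceOver.toBase n S = a := by
    rw [Category.assoc]; exact h1
  have e4 : (m' ≫ pullback.snd _ _) ≫ ProjSpaceOver.toBase m S = a := by
    rw [Category.assoc, ← pullback.condition]; exact h1
  unfold bigLift
  refine pullback.hom_ext ?_ ?_
  · rw [pullback.lift_fst]
    exact P_hom_ext S n _ _ (e1.trans (liftP_fst S n _ a).symm) (e3.trans (liftP_snd S n _ a).symm)
  · rw [pullback.lift_snd]
    exact P_hom_ext S m _ _ (e2.trans (liftP_fst S m _ a).symm) (e4.trans (liftP_snd S m _ a).symm)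

theorem isPullback_big :
    IsPullback (rr S n m) (qq S n m) (specULiftZIsTerminal.from S)
      (specULiftZIsTerminal.from (XX n m (ULift.{u} ℤ))) :=
  IsPullback.of_isLimit (PullbackCone.IsLimit.mk
    (specULiftZIsTerminal.hom_ext (rr S n m ≫ specULiftZIsTerminal.from S)
      (qq S n m ≫ specULiftZIsTerminal.from (XX n m (ULift.{u} ℤ))))
    (fun s => bigLift s.fst s.snd) (fun s => bigLift_rr s.fst s.snd)
    (fun s => bigLift_qq s.fst s.snd) (fun s m' h1 h2 => big_uniq s.fst s.snd m' h1 h2))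

/-- **The Segre morphism over `S`**. -/
def φ : YY S n m ⟶ ProjSpaceOver (n * m + n + m) S :=
  liftP S (n * m + n + m) (qq S n m ≫ σ n m (ULift.{u} ℤ)) (rr S n m)

theorem φ_fst : φ S n m ≫ pfst (n * m + n + m) S = qq S n m ≫ σ n m (ULift.{u} ℤ) :=
  liftP_fst _ _ _ _

theorem φ_snd : φ S n m ≫ ProjSpaceOver.toBase (n * m + n + m) S = rr S n m :=
  liftP_snd _ _ _ _

theorem isPullback_φ :
    IsPullback (φ S n m) (qq S n m) (pfst (n * m + n + m) S) (σ n m (ULift.{u} ℤ)) := by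
  refine IsPullback.of_right ?_ (φ_fst S n m) (isPullback_pfst (n * m + n + m) S).flip
  rw [φ_snd]
  have h : σ n m (ULift.{u} ℤ) ≫ ProjSpace.toSpec (n * m + n + m) (ULift.{u} ℤ) =
      specULiftZIsTerminal.from _ := specULiftZIsTerminal.hom_ext _ _
  rw [h]
  exact isPullback_big S n m

theorem main : ∃ φ : pullback (ProjSpaceOver.toBase n S) (ProjSpaceOver.toBase m S) ⟶
    ProjSpaceOver (n * m + n + m) S,
    IsClosedImmersion φ ∧ φ ≫ ProjSpaceOver.toBase (n * m + n + m) S =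
      pullback.fst (ProjSpaceOver.toBase n S) (ProjSpaceOver.toBase m S) ≫
        ProjSpaceOver.toBase n S :=
  ⟨φ S n m, MorphismProperty.of_isPullback (P := @IsClosedImmersion) (isPullback_φ S n m).flip
    (isClosedImmersion_σ n m _), φ_snd S n m⟩

end Groth.Agent.Lib.SegreD_helper7
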