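import Mathlib
import Groth.Prelude
import Groth.Agent.Lib.SegreD_helper7
import Groth.Agent.Lib.HProj5_helper5

/-!
# Composition of H-projective morphisms via the Segre embedding (helper7)
APPEND-ONLY once landed.
-/

set_option autoImplicit false
universe u
open CategoryTheory CategoryTheory.Limits AlgebraicGeometry CohB1

noncomputable section

namespace Groth.Agent.Lib.SegreE_helper7

open Groth.Agent.HProj

theorem isHProjective_comp {X Y Z : Scheme.{u}} (f : X ⟶ Y) (g : Y ⟶ Z)
    (hf : RelProj.IsHProjective f) (hg : RelProj.IsHProjective g) :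
    RelProj.IsHProjective (f ≫ g) := by
  obtain ⟨n, i, hi, hif⟩ := hf
  obtain ⟨m, i', hi', hig⟩ := hg
  obtain ⟨φ, hφ, hφb⟩ := Groth.Agent.Lib.SegreD_helper7.main Z n m
  have hc : overMap n g ≫ ProjSpaceOver.toBase n Z =
      (ProjSpaceOver.toBase n Y ≫ i') ≫ ProjSpaceOver.toBase m Z := by
    rw [overMap_toBase, Category.assoc, hig]
  let j : ProjSpaceOver n Y ⟶ pullback (ProjSpaceOver.toBase n Z) (ProjSpaceOver.toBase m Z) :=
    pullback.lift (overMap n g) (ProjSpaceOver.toBase n Y ≫ i') hc
  have hj1 : j ≫ pullback.fst _ _ = overMap n g := pullback.lift_fst _ _ _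
  have hj2 : j ≫ pullback.snd _ _ = ProjSpaceOver.toBase n Y ≫ i' := pullback.lift_snd _ _ _
  have hpb : IsPullback j (ProjSpaceOver.toBase n Y)
      (pullback.snd (ProjSpaceOver.toBase n Z) (ProjSpaceOver.toBase m Z)) i' := by
    refine IsPullback.of_right ?_ hj2
      (IsPullback.of_hasPullback (ProjSpaceOver.toBase n Z) (ProjSpaceOver.toBase m Z))
    rw [hj1, hig]
    exact isPullback_overMap n g
  haveI : IsClosedImmersion j :=
    MorphismProperty.of_isPullback (P := @IsClosedImmersion) hpb.flip hi'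
  haveI := hi
  haveI := hφ
  refine ⟨n * m + n + m, i ≫ j ≫ φ, inferInstance, ?_⟩
  rw [Category.assoc, Category.assoc, hφb, ← Category.assoc j, hj1, overMap_toBase,
    ← Category.assoc, hif]

end Groth.Agent.Lib.SegreE_helper7
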