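import Mathlib
import Groth.Prelude
import Groth.Agent.Lib.Dehom_helper4
import Groth.Agent.Lib.QAffImm_helper7
import Groth.Agent.Lib.HProj5_helper5
import Groth.Agent.Lib.SegreE_helper7
import Groth.Agent.Lib.ProjSpaceProper_helper4

/-!
# Chow's lemma, part A (helper7)

* `a n S : 𝔸(ULift (Fin n); S) ⟶ P^n_S`, an open immersion over `S`;
* `exists_immersion_projSpaceOver`: a quasi-affine scheme locally of finite type over `S`
  admits an immersion into some `P^n_S`;
* `isHProjective_id`;
* `exists_prod`: finite fibre products of projective spaces over `S` are H-projective.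
APPEND-ONLY once landed.
-/

set_option autoImplicit false
set_option linter.style.haveILetI false
universe u
open CategoryTheory CategoryTheory.Limits AlgebraicGeometry TopologicalSpace Opposite

noncomputable section

namespace Groth.Agent.Lib.ChowA_helper7

open CohB1 Groth.Agent.HProj

variable (n : ℕ)

/-- index equivalence -/
def eqv : ULift.{u} (Fin n) ≃ {j : Fin (n + 1) // j ≠ 0} :=
  Equiv.ulift.trans (finSuccAboveEquiv 0)

/-- The dehomogenisation isomorphism `ℤ[x_1..x_n] ≃ ℤ[T_0..T_n]_{(T_0)}`. -/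
def ρ : MvPolynomial (ULift.{u} (Fin n)) (ULift.{u} ℤ) ≃+*
    HomogeneousLocalization.Away (polyGrading n (ULift.{u} ℤ)) (MvPolynomial.X 0) :=
  (MvPolynomial.renameEquiv (ULift.{u} ℤ) (eqv.{u} n)).toRingEquiv.trans
    (RingEquiv.ofBijective (Groth.Agent.Lib.DehomH4.Φ n (ULift.{u} ℤ) 0)
      (Groth.Agent.Lib.DehomH4.bij n (ULift.{u} ℤ) 0))

/-- The standard chart `𝔸^n_ℤ ⟶ P^n_ℤ`. -/
def c : Spec (CommRingCat.of (MvPolynomial (ULift.{u} (Fin n)) (ULift.{u} ℤ))) ⟶
    ProjSpace n (ULift.{u} ℤ) :=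
  Spec.map ((ρ.{u} n).symm.toCommRingCatIso.hom) ≫
    Proj.awayι (polyGrading n (ULift.{u} ℤ)) (MvPolynomial.X 0)
      (MvPolynomial.isHomogeneous_X _ 0) one_pos

instance : IsOpenImmersion (c.{u} n) := by
  have h : IsOpenImmersion (Spec.map ((ρ.{u} n).symm.toCommRingCatIso.hom) ≫
    Proj.awayι (polyGrading n (ULift.{u} ℤ)) (MvPolynomial.X 0)
      (MvPolynomial.isHomogeneous_X _ 0) one_pos) := inferInstance
  exact h

variable (S : Scheme.{u})

/-- The open immersion `𝔸^n_S ⟶ P^n_S`. -/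
def a : 𝔸(ULift.{u} (Fin n); S) ⟶ ProjSpaceOver n S :=
  (isPullback_pfst n S).lift (AffineSpace.toSpecMvPoly (ULift.{u} (Fin n)) S ≫ c.{u} n)
    (𝔸(ULift.{u} (Fin n); S) ↘ S) (specULiftZIsTerminal.hom_ext _ _)

theorem a_fst : a n S ≫ pfst n S = AffineSpace.toSpecMvPoly (ULift.{u} (Fin n)) S ≫ c.{u} n :=
  (isPullback_pfst n S).lift_fst _ _ _

theorem a_toBase : a n S ≫ ProjSpaceOver.toBase n S = 𝔸(ULift.{u} (Fin n); S) ↘ S :=
  (isPullback_pfst n S).lift_snd _ _ _

theorem isPullback_affine (ν : Type u) {T : Scheme.{u}} (hT : IsTerminal T) :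
    IsPullback (𝔸(ν; S) ↘ S) (AffineSpace.toSpecMvPoly ν S) (hT.from S) (hT.from _) := by
  refine ⟨⟨hT.hom_ext _ _⟩, ⟨PullbackCone.IsLimit.mk _
    (fun s => pullback.lift s.fst s.snd (terminalIsTerminal.hom_ext _ _)) ?_ ?_ ?_⟩⟩
  · intro s; exact pullback.lift_fst _ _ _
  · intro s; exact pullback.lift_snd _ _ _
  · intro s m h1 h2
    exact pullback.hom_ext (h1.trans (pullback.lift_fst _ _ _).symm)
      (h2.trans (pullback.lift_snd _ _ _).symm)

theorem isPullback_a :
    IsPullback (a n S) (AffineSpace.toSpecMvPoly (ULift.{u} (Fin n)) S) (pfst n S) (c.{u} n) := by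
  refine IsPullback.of_right ?_ (a_fst n S) (isPullback_pfst n S).flip
  rw [a_toBase, show c.{u} n ≫ ProjSpace.toSpec n (ULift.{u} ℤ) = specULiftZIsTerminal.from _ from
    specULiftZIsTerminal.hom_ext _ _]
  exact isPullback_affine S _ specULiftZIsTerminal

instance : IsOpenImmersion (a n S) :=
  MorphismProperty.of_isPullback (P := @IsOpenImmersion) (isPullback_a n S).flip inferInstance

/-- A quasi-affine scheme locally of finite type over `S` admits an immersion into a
projective space over `S`. -/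
theorem exists_immersion_projSpaceOver {U S : Scheme.{u}} (g : U ⟶ S) [LocallyOfFiniteType g]
    [U.IsQuasiAffine] :
    ∃ (n : ℕ) (j : U ⟶ ProjSpaceOver n S), IsImmersion j ∧ j ≫ ProjSpaceOver.toBase n S = g := by
  obtain ⟨n, i, hi, hig⟩ := Groth.Agent.Lib.QAffImm_helper7.main g
  haveI := hi
  exact ⟨n, i ≫ a n S, inferInstance, by rw [Category.assoc, a_toBase, hig]⟩

theorem isHProjective_id : RelProj.IsHProjective (𝟙 S) := by
  haveI : IsIso (𝔸(ULift.{u} (Fin 0); S) ↘ S) := inferInstance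
  let s : S ⟶ ProjSpaceOver 0 S := inv (𝔸(ULift.{u} (Fin 0); S) ↘ S) ≫ a 0 S
  have hs : s ≫ ProjSpaceOver.toBase 0 S = 𝟙 S := by
    simp only [s, Category.assoc, a_toBase, IsIso.inv_hom_id]
  haveI := Groth.Agent.Lib.ProjSpaceProperH4.isProper_toBase 0 S
  haveI : IsClosedImmersion (s ≫ ProjSpaceOver.toBase 0 S) := by rw [hs]; infer_instance
  exact ⟨0, s, IsClosedImmersion.of_comp s (ProjSpaceOver.toBase 0 S), hs⟩

theorem isHProjective_toBase : RelProj.IsHProjective (ProjSpaceOver.toBase n S) :=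
  ⟨n, 𝟙 _, inferInstance, Category.id_comp _⟩

/-- Finite fibre products over `S` of projective spaces, with their universal property (existence
of lifts) and H-projectivity. -/
theorem exists_prod : ∀ (m : ℕ) (n : Fin m → ℕ),
    ∃ (P : Scheme.{u}) (pS : P ⟶ S) (p : ∀ i, P ⟶ ProjSpaceOver (n i) S),
      RelProj.IsHProjective pS ∧ (∀ i, p i ≫ ProjSpaceOver.toBase (n i) S = pS) ∧
      ∀ (T : Scheme.{u}) (tS : T ⟶ S) (t : ∀ i, T ⟶ ProjSpaceOver (n i) S),
        (∀ i, t i ≫ ProjSpaceOver.toBase (n i) S = tS) →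
          ∃ l : T ⟶ P, l ≫ pS = tS ∧ ∀ i, l ≫ p i = t i := by
  intro m
  induction m with
  | zero =>
    intro n
    exact ⟨S, 𝟙 S, fun i => i.elim0, isHProjective_id S, fun i => i.elim0,
      fun T tS t _ => ⟨tS, Category.comp_id _, fun i => i.elim0⟩⟩
  | succ m ih =>
    intro n
    obtain ⟨P', pS', p', hP', hp', hl'⟩ := ih (fun i => n i.succ)
    refine ⟨pullback (ProjSpaceOver.toBase (n 0) S) pS', pullback.snd _ _ ≫ pS',
      Fin.cases (motive := fun i => pullback (ProjSpaceOver.toBase (n 0) S) pS' ⟶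
        ProjSpaceOver (n i) S) (pullback.fst _ _) (fun i => pullback.snd _ _ ≫ p' i), ?_, ?_, ?_⟩
    · exact Groth.Agent.Lib.SegreE_helper7.isHProjective_comp _ _
        (isHProjective_baseChange _ _ (isHProjective_toBase (n 0) S)) hP'
    · intro i
      induction i using Fin.cases with
      | zero => simp only [Fin.cases_zero]; exact pullback.condition
      | succ i => simp only [Fin.cases_succ, Category.assoc, hp' i]
    · intro T tS t ht
      obtain ⟨l', hl1, hl2⟩ := hl' T tS (fun i => t i.succ) (fun i => ht i.succ)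
      refine ⟨pullback.lift (t 0) l' (by rw [ht 0, hl1]), ?_, ?_⟩
      · rw [pullback.lift_snd_assoc, hl1]
      · intro i
        induction i using Fin.cases with
        | zero => simp only [Fin.cases_zero]; exact pullback.lift_fst _ _ _
        | succ i => simp only [Fin.cases_succ]; rw [pullback.lift_snd_assoc, hl2 i]

end Groth.Agent.Lib.ChowA_helper7
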