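import Mathlib

/-!
# Chow's lemma, part B (helper7): dense affine open coverings

* `exists_dense_affine_nhd`: on a scheme with finitely many irreducible components every point has a
  dense affine open neighbourhood;
* `exists_dense_affine_cover`: a quasi-compact such scheme has a finite covering by dense affine opens;
* `dense_finset_inf`, `isCompact_finset_inf`.
APPEND-ONLY once landed.
-/

set_option autoImplicit false
set_option linter.style.haveILetI false
universe u
open CategoryTheory AlgebraicGeometry TopologicalSpace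

namespace Groth.Agent.Lib.ChowB_helper7

theorem subset_closure_of_irreducible {X : Type*} [TopologicalSpace X] {Z W : Set X}
    (hZ : IsIrreducible Z) (hW : IsOpen W) (h : (Z ∩ W).Nonempty) : Z ⊆ closure W :=
  (subset_closure_inter_of_isPreirreducible_of_isOpen hZ.isPreirreducible hW h).trans
    (closure_mono Set.inter_subset_right)

theorem compl_sUnion_diff_subset {X : Type*} [TopologicalSpace X] (Z : Set X) :
    (⋃₀ (irreducibleComponents X \ {Z}))ᶜ ⊆ Z := by
  intro y hy
  have hy' : y ∈ ⋃₀ irreducibleComponents X := by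
    rw [sUnion_irreducibleComponents]; trivial
  obtain ⟨Z', hZ', hyZ'⟩ := hy'
  by_cases hZZ : Z' = Z
  · exact hZZ ▸ hyZ'
  · exact (hy ⟨Z', ⟨hZ', hZZ⟩, hyZ'⟩).elim

open Classical in
theorem exists_dense_affine_nhd (X : Scheme.{u}) (hX : (irreducibleComponents X).Finite) (x : X) :
    ∃ A : X.Opens, IsAffineOpen A ∧ x ∈ A ∧ Dense (A : Set X) := by
  obtain ⟨_, ⟨V, hV, rfl⟩, hxV, -⟩ :=
    X.isBasis_affineOpens.exists_subset_of_mem_open (Set.mem_univ x) isOpen_univ
  have key : ∀ Z ∈ irreducibleComponents X, ∃ W : X.Opens, IsAffineOpen W ∧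
      (W : Set X) ⊆ (⋃₀ (irreducibleComponents X \ {Z}))ᶜ ∧
      ((Z ∩ (V : Set X)).Nonempty → W = ⊥) ∧ (¬ (Z ∩ (V : Set X)).Nonempty → (W : Set X).Nonempty) := by
    intro Z hZ
    by_cases hZV : (Z ∩ (V : Set X)).Nonempty
    · exact ⟨⊥, isAffineOpen_bot X, by simp, fun _ => rfl, fun h => absurd hZV h⟩
    · have hcl : IsClosed (⋃₀ (irreducibleComponents X \ {Z})) := by
        rw [Set.sUnion_eq_biUnion]
        exact (hX.sdiff).isClosed_biUnion (fun t ht => isClosed_of_mem_irreducibleComponents t ht.1)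
      have hne : ((⋃₀ (irreducibleComponents X \ {Z}))ᶜ).Nonempty := by
        by_contra hcon
        rw [Set.not_nonempty_iff_eq_empty, Set.compl_empty_iff] at hcon
        have := mem_of_subset_sUnion_irreducibleComponents Z hZ (irreducibleComponents X \ {Z})
          hX.sdiff Set.sdiff_subset (by rw [hcon]; exact Set.subset_univ _)
        exact this.2 rfl
      obtain ⟨y, hy⟩ := hne
      obtain ⟨_, ⟨W, hW, rfl⟩, hyW, hWsub⟩ :=
        X.isBasis_affineOpens.exists_subset_of_mem_open hy hcl.isOpen_compl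
      exact ⟨W, hW, hWsub, fun h => absurd h hZV, fun _ => ⟨y, hyW⟩⟩
  choose! W hWaff hWsub hWbot hWne using key
  have hWZ : ∀ Z ∈ irreducibleComponents X, (W Z : Set X) ⊆ Z := fun Z hZ =>
    (hWsub Z hZ).trans (compl_sUnion_diff_subset Z)
  have hdisjW : (irreducibleComponents X).Pairwise (Function.onFun Disjoint W) := by
    intro Z hZ Z' hZ' hne
    show Disjoint (W Z) (W Z')
    rw [← Opens.coe_disjoint, Set.disjoint_left]
    intro y hy hy'
    exact hWsub Z' hZ' hy' (Set.mem_sUnion.mpr ⟨Z, ⟨hZ, hne⟩, hWZ Z hZ hy⟩)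
  have hdisjV : Disjoint V (⨆ Z ∈ irreducibleComponents X, W Z) := by
    rw [disjoint_iSup₂_iff]
    intro Z hZ
    by_cases hZV : (Z ∩ (V : Set X)).Nonempty
    · rw [hWbot Z hZ hZV]; exact disjoint_bot_right
    · rw [← Opens.coe_disjoint, Set.disjoint_left]
      intro y hyV hyW
      exact hZV ⟨y, hWZ Z hZ hyW, hyV⟩
  have hAaff : IsAffineOpen (V ⊔ ⨆ Z ∈ irreducibleComponents X, W Z) :=
    IsAffineOpen.sup_of_disjoint hV
      (IsAffineOpen.biSup_of_disjoint hX (fun Z hZ => hWaff Z hZ) hdisjW) hdisjV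
  refine ⟨V ⊔ ⨆ Z ∈ irreducibleComponents X, W Z, hAaff, (le_sup_left : V ≤ _) hxV, ?_⟩
  rw [dense_iff_closure_eq, ← Set.univ_subset_iff, ← sUnion_irreducibleComponents]
  refine Set.sUnion_subset (fun Z hZ => ?_)
  by_cases hZV : (Z ∩ (V : Set X)).Nonempty
  · refine (subset_closure_of_irreducible (W := (V : Set X)) hZ.1 V.isOpen hZV).trans
      (closure_mono ?_)
    intro y hy
    exact (le_sup_left : V ≤ V ⊔ ⨆ Z ∈ irreducibleComponents X, W Z) hy
  · obtain ⟨y, hy⟩ := hWne Z hZ hZV
    refine (subset_closure_of_irreducible (W := (W Z : Set X)) hZ.1 (W Z).isOpen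
      ⟨y, hWZ Z hZ hy, hy⟩).trans (closure_mono ?_)
    intro y hy
    exact (le_sup_of_le_right (le_iSup₂ (f := fun Z _ => W Z) Z hZ) :
      W Z ≤ V ⊔ ⨆ Z ∈ irreducibleComponents X, W Z) hy

theorem exists_dense_affine_cover (X : Scheme.{u}) [CompactSpace X]
    (hX : (irreducibleComponents X).Finite) :
    ∃ (m : ℕ) (Ui : Fin m → X.Opens), (∀ i, IsAffineOpen (Ui i)) ∧ (⨆ i, Ui i = ⊤) ∧
      ∀ i, Dense (Ui i : Set X) := by
  choose A hAaff hxA hAd using exists_dense_affine_nhd X hX
  obtain ⟨t, ht⟩ := isCompact_univ.elim_finite_subcover (fun x : X => (A x : Set X))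
    (fun x => (A x).2) (fun x _ => Set.mem_iUnion.mpr ⟨x, hxA x⟩)
  refine ⟨t.card, fun k => A (t.equivFin.symm k).1, fun k => hAaff _, ?_, fun k => hAd _⟩
  rw [eq_top_iff]
  intro y _
  have := ht (Set.mem_univ y)
  simp only [Set.mem_iUnion] at this
  obtain ⟨x, hx, hy⟩ := this
  refine Opens.mem_iSup.mpr ⟨t.equivFin ⟨x, hx⟩, ?_⟩
  simpa using hy

theorem dense_finset_inf {X : Type*} [TopologicalSpace X] {ι : Type*} (s : Finset ι)
    (U : ι → Opens X) (h : ∀ i ∈ s, Dense (U i : Set X)) :
    Dense ((s.inf U : Opens X) : Set X) := by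
  classical
  induction s using Finset.induction_on with
  | empty => simp
  | insert a s ha ih =>
    rw [Finset.inf_insert, Opens.coe_inf]
    exact (h a (Finset.mem_insert_self a s)).inter_of_isOpen_left
      (ih fun i hi => h i (Finset.mem_insert_of_mem hi)) (U a).2

theorem isCompact_finset_inf {X : Type*} [TopologicalSpace X] [CompactSpace X]
    [QuasiSeparatedSpace X] {ι : Type*} (s : Finset ι)
    (U : ι → Opens X) (h : ∀ i ∈ s, IsCompact (U i : Set X)) :
    IsCompact ((s.inf U : Opens X) : Set X) := by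
  classical
  induction s using Finset.induction_on with
  | empty => simpa using isCompact_univ
  | insert a s ha ih =>
    rw [Finset.inf_insert, Opens.coe_inf]
    exact QuasiSeparatedSpace.inter_isCompact _ _ (U a).2 (h a (Finset.mem_insert_self a s))
      (s.inf U).2 (ih fun i hi => h i (Finset.mem_insert_of_mem hi))

end Groth.Agent.Lib.ChowB_helper7
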