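import Mathlib

/-!
# Base change of a cofiltered limit of schemes (helper7)

Given a diagram `D : I ⥤ Scheme`, an index `i`, and `xi : Xi ⟶ D.obj i`, we build the diagram
`j ↦ Xi ×_{D i} D j` on `Over i`, the cone over it from any `X` which is a base change of `Xi` to the
limit, and show it is a limit cone.
-/

set_option autoImplicit false
set_option backward.isDefEq.respectTransparency false
universe u
open CategoryTheory CategoryTheory.Limits AlgebraicGeometry

namespace Groth.Agent.Lib.LimBaseChangeH7

variable {I : Type u} [SmallCategory I] (D : I ⥤ Scheme.{u}) (i : I) {Xi : Scheme.{u}}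
  (xi : Xi ⟶ D.obj i)

/-- The diagram `j ↦ Xi ×_{D i} D j` indexed by `Over i`. -/
noncomputable def bcDiagram : Over i ⥤ Scheme.{u} where
  obj j := pullback xi (D.map j.hom)
  map {j k} g := pullback.lift (pullback.fst _ _) (pullback.snd _ _ ≫ D.map g.left)
    (by rw [pullback.condition, Category.assoc, ← D.map_comp, Over.w g])
  map_id j := by
    apply pullback.hom_ext <;> simp
  map_comp g h := by
    apply pullback.hom_ext <;> simp

@[simp] lemma bcDiagram_obj (j : Over i) : (bcDiagram D i xi).obj j = pullback xi (D.map j.hom) := rfl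

@[reassoc (attr := simp)] lemma bcDiagram_map_fst {j k : Over i} (g : j ⟶ k) :
    (bcDiagram D i xi).map g ≫ pullback.fst xi (D.map k.hom) = pullback.fst xi (D.map j.hom) := by
  simp [bcDiagram]

@[reassoc (attr := simp)] lemma bcDiagram_map_snd {j k : Over i} (g : j ⟶ k) :
    (bcDiagram D i xi).map g ≫ pullback.snd xi (D.map k.hom) =
      pullback.snd xi (D.map j.hom) ≫ D.map g.left := by
  simp [bcDiagram]

/-- The projection to the original diagram. -/
noncomputable def bcDiagramι : bcDiagram D i xi ⟶ Over.forget i ⋙ D where
  app j := pullback.snd xi (D.map j.hom)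
  naturality j k g := by simp

@[simp] lemma bcDiagramι_app (j : Over i) :
    (bcDiagramι D i xi).app j = pullback.snd xi (D.map j.hom) := rfl

/-- The structure map to the base stage `D i`. -/
noncomputable def bcDiagramBase : bcDiagram D i xi ⟶ (Functor.const (Over i)).obj (D.obj i) where
  app j := pullback.fst xi (D.map j.hom) ≫ xi
  naturality j k g := by simp

@[simp] lemma bcDiagramBase_app (j : Over i) :
    (bcDiagramBase D i xi).app j = pullback.fst xi (D.map j.hom) ≫ xi := rfl

lemma isPullback_map {j k : Over i} (g : j ⟶ k) :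
    IsPullback ((bcDiagram D i xi).map g) (pullback.snd xi (D.map j.hom))
      (pullback.snd xi (D.map k.hom)) (D.map g.left) := by
  refine IsPullback.of_right ?_ (by simp) (IsPullback.of_hasPullback xi (D.map k.hom))
  rw [bcDiagram_map_fst, ← D.map_comp, Over.w g]
  exact IsPullback.of_hasPullback xi (D.map j.hom)

instance isAffineHom_map [∀ (i j : I) (f : i ⟶ j), IsAffineHom (D.map f)] {j k : Over i}
    (g : j ⟶ k) : IsAffineHom ((bcDiagram D i xi).map g) :=
  MorphismProperty.of_isPullback (P := @IsAffineHom) (isPullback_map D i xi g).flip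
    (inferInstance : IsAffineHom (D.map g.left))

instance compactSpace_obj [∀ (i j : I) (f : i ⟶ j), IsAffineHom (D.map f)] [CompactSpace Xi]
    (j : Over i) : CompactSpace ((bcDiagram D i xi).obj j) :=
  QuasiCompact.compactSpace_of_compactSpace (pullback.fst xi (D.map j.hom))

instance quasiSeparatedSpace_obj [∀ (i j : I) (f : i ⟶ j), IsAffineHom (D.map f)]
    [QuasiSeparatedSpace Xi] (j : Over i) : QuasiSeparatedSpace ((bcDiagram D i xi).obj j) :=
  quasiSeparatedSpace_of_quasiSeparated (pullback.fst xi (D.map j.hom))

variable {D i xi} (c : Cone D) {X : Scheme.{u}} {qX : X ⟶ Xi} {pX : X ⟶ c.pt}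
  (hX : IsPullback qX pX xi (c.π.app i))

/-- The cone over `bcDiagram` with vertex a base change `X` of `Xi` to the limit. -/
noncomputable def bcCone : Cone (bcDiagram D i xi) where
  pt := X
  π :=
    { app j := pullback.lift qX (pX ≫ c.π.app j.left) (by rw [hX.w, Category.assoc, c.w])
      naturality j k g := by
        apply pullback.hom_ext <;> simp }

@[simp] lemma bcCone_pt : (bcCone c hX).pt = X := rfl

@[reassoc (attr := simp)] lemma bcCone_π_fst (j : Over i) :
    (bcCone c hX).π.app j ≫ pullback.fst xi (D.map j.hom) = qX := by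
  simp [bcCone]

@[reassoc (attr := simp)] lemma bcCone_π_snd (j : Over i) :
    (bcCone c hX).π.app j ≫ pullback.snd xi (D.map j.hom) = pX ≫ c.π.app j.left := by
  simp [bcCone]

lemma isPullback_bcCone_π (j : Over i) :
    IsPullback ((bcCone c hX).π.app j) pX (pullback.snd xi (D.map j.hom)) (c.π.app j.left) := by
  refine IsPullback.of_right ?_ (by simp) (IsPullback.of_hasPullback xi (D.map j.hom))
  rw [bcCone_π_fst, c.w]
  exact hX

attribute [local instance] CategoryTheory.isConnected_of_hasTerminal

/-- The base change of a limit cone is a limit cone. -/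
noncomputable def isLimitBcCone [IsCofiltered I] (hc : IsLimit c) : IsLimit (bcCone c hX) :=
  isLimitOfIsPullbackOfIsConnected (bcDiagramι D i xi) (bcCone c hX) (c.whisker (Over.forget i))
    { hom := pX
      w := fun j => by simp }
    (fun j => isPullback_bcCone_π c hX j)
    ((Functor.Initial.isLimitWhiskerEquiv (Over.forget i) c).symm hc)

end Groth.Agent.Lib.LimBaseChangeH7
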