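import Mathlib
import Groth.Agent.Lib.LimBaseChange_helper7

/-!
# Spreading-in of properties of base changes along cofiltered limits (helper7)

* `snd_snd_iff`, `snd_comp`, `snd_of_cover`: transfer lemmas for `P (pullback.snd f₀ h)`.
* `exists_isIso_snd_of_qcqs`: if the base change of a finitely presented `f₀ : X₀ ⟶ S_{i₀}` to the
  limit is an isomorphism and `S_{i₀}` is qcqs, then so is the base change to some stage.
* `exists_snd_of_compact`: localisation principle, from affine stages to quasi-compact stages.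
* `exists_isIso_snd_of_compact`.
-/

set_option autoImplicit false
set_option backward.isDefEq.respectTransparency false
universe u
open CategoryTheory CategoryTheory.Limits AlgebraicGeometry

namespace Groth.Agent.Lib.LimIsoH7
open Groth.Agent.Lib.LimBaseChangeH7

section Transfer
variable {P : MorphismProperty Scheme.{u}} [P.RespectsIso]

theorem snd_snd_iff {X Y Z W : Scheme.{u}} (f : X ⟶ Z) (g : Y ⟶ Z) (g' : W ⟶ Y) :
    P (pullback.snd (pullback.snd f g) g') ↔ P (pullback.snd f (g' ≫ g)) := by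
  rw [← pullbackLeftPullbackSndIso_hom_snd f g g', P.cancel_left_of_respectsIso]

theorem snd_comp [P.IsStableUnderBaseChange] {X Y Z W : Scheme.{u}} (f : X ⟶ Z) (g : Y ⟶ Z)
    (g' : W ⟶ Y) (h : P (pullback.snd f g)) : P (pullback.snd f (g' ≫ g)) :=
  (snd_snd_iff f g g').mp (P.pullback_snd _ _ h)

theorem snd_of_cover [IsZariskiLocalAtTarget P] {X Y Z : Scheme.{u}} (f : X ⟶ Z) (g : Y ⟶ Z)
    {ι : Type*} (V : ι → Y.Opens) (hV : iSup V = ⊤)
    (h : ∀ k, P (pullback.snd f ((V k).ι ≫ g))) : P (pullback.snd f g) := by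
  refine IsZariskiLocalAtTarget.of_iSup_eq_top V hV fun k => ?_
  rw [← P.cancel_left_of_respectsIso (pullbackRestrictIsoRestrict (pullback.snd f g) (V k)).hom,
    pullbackRestrictIsoRestrict_hom_morphismRestrict]
  exact (snd_snd_iff f g (V k).ι).mpr (h k)

end Transfer

section
variable {I : Type u} [SmallCategory I] [IsCofiltered I] (D : I ⥤ Scheme.{u}) (c : Cone D)
  (hc : IsLimit c) [∀ (i j : I) (f : i ⟶ j), IsAffineHom (D.map f)]

include hc in
theorem exists_isIso_snd_of_qcqs (i₀ : I) [CompactSpace (D.obj i₀)]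
    [QuasiSeparatedSpace (D.obj i₀)] {X₀ : Scheme.{u}} (f₀ : X₀ ⟶ D.obj i₀)
    [LocallyOfFinitePresentation f₀] [QuasiCompact f₀] [QuasiSeparated f₀]
    (hiso : IsIso (pullback.snd f₀ (c.π.app i₀))) :
    ∃ (j : I) (φ : j ⟶ i₀), IsIso (pullback.snd f₀ (D.map φ)) := by
  classical
  haveI := hiso
  haveI : CompactSpace X₀ := QuasiCompact.compactSpace_of_compactSpace f₀
  let a : c.pt ⟶ X₀ := inv (pullback.snd f₀ (c.π.app i₀)) ≫ pullback.fst f₀ (c.π.app i₀)
  have ha : a ≫ f₀ = c.π.app i₀ := by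
    simp only [a, Category.assoc, pullback.condition, IsIso.inv_hom_id_assoc]
  haveI : ∀ j : Over i₀, CompactSpace ((Over.forget i₀ ⋙ D).obj j) := fun j =>
    QuasiCompact.compactSpace_of_compactSpace (D.map j.hom)
  haveI : ∀ j : Over i₀, QuasiSeparatedSpace ((Over.forget i₀ ⋙ D).obj j) := fun j =>
    quasiSeparatedSpace_of_quasiSeparated (D.map j.hom)
  haveI : ∀ {j k : Over i₀} (g : j ⟶ k), IsAffineHom ((Over.forget i₀ ⋙ D).map g) := by
    intro j k g; dsimp; infer_instance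
  let t : Over.forget i₀ ⋙ D ⟶ (Functor.const (Over i₀)).obj (D.obj i₀) :=
    { app := fun j => D.map j.hom
      naturality := fun j k g => by
        dsimp
        rw [← D.map_comp, Over.w g, Category.comp_id] }
  have hcO := (Functor.Initial.isLimitWhiskerEquiv (Over.forget i₀) c).symm hc
  obtain ⟨j, aj, haj1, haj2⟩ := Scheme.exists_π_app_comp_eq_of_locallyOfFinitePresentation
    (Over.forget i₀ ⋙ D) t f₀ (c.whisker (Over.forget i₀)) hcO a (by
      ext k : 2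
      simp [t, ha])
  have haj1' : c.π.app j.left ≫ aj = a := haj1
  have haj2' : aj ≫ f₀ = D.map j.hom := haj2
  have hX := IsPullback.of_hasPullback f₀ (c.π.app i₀)
  have hcX := isLimitBcCone c hX hc
  obtain ⟨k, hkj, heq⟩ := Scheme.exists_hom_comp_eq_comp_of_locallyOfFiniteType
    (bcDiagram D i₀ f₀) (bcDiagramBase D i₀ f₀) f₀ (bcCone c hX) hcX (i := j)
    (pullback.snd f₀ (D.map j.hom) ≫ aj) (pullback.fst f₀ (D.map j.hom))
    (by rw [bcDiagramBase_app, Category.assoc, haj2', pullback.condition])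
    (by rw [bcDiagramBase_app])
    (by
      rw [bcCone_π_snd_assoc, bcCone_π_fst, haj1']
      simp only [a, IsIso.hom_inv_id_assoc])
  have hw : D.map hkj.left ≫ D.map j.hom = D.map k.hom := by rw [← D.map_comp, Over.w hkj]
  let sk : D.obj k.left ⟶ pullback f₀ (D.map k.hom) :=
    pullback.lift (D.map hkj.left ≫ aj) (𝟙 _)
      (by rw [Category.assoc, haj2', hw, Category.id_comp])
  refine ⟨k.left, k.hom, ⟨⟨sk, ?_, pullback.lift_snd _ _ _⟩⟩⟩
  apply pullback.hom_ext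
  · rw [Category.assoc, pullback.lift_fst, Category.id_comp]
    have h1 := heq
    rw [bcDiagram_map_snd_assoc, bcDiagram_map_fst] at h1
    exact h1
  · rw [Category.assoc, pullback.lift_snd, Category.comp_id, Category.id_comp]

end

section Loc
variable (P : MorphismProperty Scheme.{u})
  (H : ∀ {X Y : Scheme.{u}}, (X ⟶ Y) → Prop)

/-- The "spreading-in" property at affine stages. -/
def AffineStage : Prop :=
  ∀ {J : Type u} [SmallCategory J] [IsCofiltered J] (E : J ⥤ Scheme.{u}) (cE : Cone E)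
    (_ : IsLimit cE) [∀ (i j : J) (f : i ⟶ j), IsAffineHom (E.map f)] (j₀ : J)
    [IsAffine (E.obj j₀)] {X₀ : Scheme.{u}} (f₀ : X₀ ⟶ E.obj j₀), H f₀ →
      P (pullback.snd f₀ (cE.π.app j₀)) → ∃ (j : J) (φ : j ⟶ j₀), P (pullback.snd f₀ (E.map φ))

variable {P H} [P.RespectsIso] [P.IsStableUnderBaseChange] [IsZariskiLocalAtTarget P]

theorem exists_snd_of_compact (hA : AffineStage P H)
    (hH : ∀ {X Y Z : Scheme.{u}} (f : X ⟶ Z) (g : Y ⟶ Z), H f → H (pullback.snd f g))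
    {I : Type u} [SmallCategory I] [IsCofiltered I] (D : I ⥤ Scheme.{u}) (c : Cone D)
    (hc : IsLimit c) [∀ (i j : I) (f : i ⟶ j), IsAffineHom (D.map f)] (i₀ : I)
    [CompactSpace (D.obj i₀)] {X₀ : Scheme.{u}} (f₀ : X₀ ⟶ D.obj i₀) (hf₀ : H f₀)
    (hP : P (pullback.snd f₀ (c.π.app i₀))) :
    ∃ (j : I) (φ : j ⟶ i₀), P (pullback.snd f₀ (D.map φ)) := by
  classical
  have hcov : ∀ x : D.obj i₀, ∃ V : (D.obj i₀).Opens, IsAffineOpen V ∧ x ∈ V := fun x => by
    obtain ⟨_, ⟨(V : (D.obj i₀).Opens), hV, rfl⟩, hxV, -⟩ :=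
      (D.obj i₀).isBasis_affineOpens.exists_subset_of_mem_open (Set.mem_univ x) isOpen_univ
    exact ⟨V, hV, hxV⟩
  choose V hVaff hxV using hcov
  obtain ⟨t, ht⟩ := isCompact_univ.elim_finite_subcover (fun x => (V x : Set (D.obj i₀)))
    (fun x => (V x).isOpen) (fun x _ => Set.mem_iUnion.mpr ⟨x, hxV x⟩)
  let U : t → (D.obj i₀).Opens := fun k => V k.1
  have hUtop : iSup U = ⊤ := by
    rw [eq_top_iff]
    intro x _
    obtain ⟨y, hy⟩ := Set.mem_iUnion.mp (ht (Set.mem_univ x))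
    obtain ⟨hyt, hxy⟩ := Set.mem_iUnion.mp hy
    exact TopologicalSpace.Opens.mem_iSup.mpr ⟨⟨y, hyt⟩, hxy⟩
  have claim : ∀ k : t, ∃ (j : I) (φ : j ⟶ i₀),
      P (pullback.snd f₀ ((D.map φ ⁻¹ᵁ U k).ι ≫ D.map φ)) := by
    intro k
    have hUk : IsAffineOpen (U k) := hVaff k.1
    let j₀ : Over i₀ := Over.mk (𝟙 i₀)
    haveI : IsAffine ((opensDiagram D i₀ (U k)).obj j₀) := hUk.preimage (D.map j₀.hom)
    let ι₀ : (opensDiagram D i₀ (U k)).obj j₀ ⟶ D.obj i₀ := (D.map j₀.hom ⁻¹ᵁ U k).ι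
    have h1 : (opensCone D c i₀ (U k)).π.app j₀ ≫ ι₀ =
        (c.π.app i₀ ⁻¹ᵁ U k).ι ≫ c.π.app i₀ := by
      simp [opensCone, ι₀, j₀]
    have hP' : P (pullback.snd (pullback.snd f₀ ι₀) ((opensCone D c i₀ (U k)).π.app j₀)) := by
      rw [snd_snd_iff (P := P), h1]
      exact snd_comp f₀ _ _ hP
    obtain ⟨j', φ', hj'⟩ := hA (opensDiagram D i₀ (U k)) (opensCone D c i₀ (U k))
      (isLimitOpensCone D c hc i₀ (U k)) j₀ (pullback.snd f₀ ι₀) (hH f₀ ι₀ hf₀) hP'
    rw [snd_snd_iff (P := P)] at hj'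
    have hφ' : φ'.left = j'.hom := by simpa [j₀] using Over.w φ'
    have h2 : (opensDiagram D i₀ (U k)).map φ' ≫ ι₀ =
        (D.map j'.hom ⁻¹ᵁ U k).ι ≫ D.map j'.hom := by
      simp [opensDiagram, ι₀, hφ']
    rw [h2] at hj'
    exact ⟨j'.left, j'.hom, hj'⟩
  choose jk φk hk using claim
  obtain ⟨j, φ, ψ, hψ⟩ := IsCofiltered.wideCospan φk
  refine ⟨j, φ, snd_of_cover f₀ (D.map φ) (fun k : t => D.map φ ⁻¹ᵁ U k)
    ((D.map φ).iSup_preimage_eq_top hUtop) fun k => ?_⟩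
  have hle : D.map φ ⁻¹ᵁ U k ≤ D.map (ψ k) ⁻¹ᵁ (D.map (φk k) ⁻¹ᵁ U k) := by
    rw [← Scheme.Hom.comp_preimage, ← D.map_comp, hψ k]
  have h3 : (D.map φ ⁻¹ᵁ U k).ι ≫ D.map φ =
      (D.map (ψ k)).resLE _ _ hle ≫ (D.map (φk k) ⁻¹ᵁ U k).ι ≫ D.map (φk k) := by
    rw [Scheme.Hom.resLE_comp_ι_assoc, ← D.map_comp, hψ k]
  rw [h3]
  exact snd_comp f₀ _ _ (hk k)

end Loc

section
variable {I : Type u} [SmallCategory I] [IsCofiltered I] (D : I ⥤ Scheme.{u}) (c : Cone D)
  (hc : IsLimit c) [∀ (i j : I) (f : i ⟶ j), IsAffineHom (D.map f)]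

include hc in
theorem exists_isIso_snd_of_compact (i₀ : I) [CompactSpace (D.obj i₀)]
    {X₀ : Scheme.{u}} (f₀ : X₀ ⟶ D.obj i₀)
    [LocallyOfFinitePresentation f₀] [QuasiCompact f₀] [QuasiSeparated f₀]
    (hiso : IsIso (pullback.snd f₀ (c.π.app i₀))) :
    ∃ (j : I) (φ : j ⟶ i₀), IsIso (pullback.snd f₀ (D.map φ)) := by
  refine exists_snd_of_compact (P := MorphismProperty.isomorphisms Scheme.{u})
    (H := fun f => LocallyOfFinitePresentation f ∧ QuasiCompact f ∧ QuasiSeparated f)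
    ?_ ?_ D c hc i₀ f₀ ⟨inferInstance, inferInstance, inferInstance⟩ hiso
  · intro J _ _ E cE hcE _ j₀ _ X₀ g₀ hg₀ hP
    obtain ⟨h1, h2, h3⟩ := hg₀
    exact exists_isIso_snd_of_qcqs E cE hcE j₀ g₀ hP
  · intro X Y Z f g hf
    obtain ⟨h1, h2, h3⟩ := hf
    exact ⟨inferInstance, inferInstance, inferInstance⟩

end

end Groth.Agent.Lib.LimIsoH7
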