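import Mathlib
import Groth.Agent.Lib.LimIso_helper7

/-!
# Descending properties of base-changed morphisms to a stage of a cofiltered limit (helper7)

`exists_descend`: generic reduction (morphism `f₀ : X₀ ⟶ Y₀` over a stage, `Y₀` quasi-compact) to
the affine-stage statement `AffineStage P H` of `Lib/LimIso_helper7`.
`affineStage_isAffineHom`: the affine-stage statement for affine morphisms.
-/

set_option autoImplicit false
set_option backward.isDefEq.respectTransparency false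
universe u
open CategoryTheory CategoryTheory.Limits AlgebraicGeometry

namespace Groth.Agent.Lib.LimDescendH7
open Groth.Agent.Lib.LimBaseChangeH7 Groth.Agent.Lib.LimIsoH7

section Generic
variable {P : MorphismProperty Scheme.{u}} {H : ∀ {X Y : Scheme.{u}}, (X ⟶ Y) → Prop}
  [P.RespectsIso] [P.IsStableUnderBaseChange] [IsZariskiLocalAtTarget P]

theorem exists_descend (hA : AffineStage P H)
    (hH : ∀ {X Y Z : Scheme.{u}} (f : X ⟶ Z) (g : Y ⟶ Z), H f → H (pullback.snd f g))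
    {I : Type u} [SmallCategory I] [IsCofiltered I] (D : I ⥤ Scheme.{u}) (c : Cone D)
    (hc : IsLimit c) [∀ (i j : I) (f : i ⟶ j), IsAffineHom (D.map f)] (i₀ : I)
    {X₀ Y₀ : Scheme.{u}} (f₀ : X₀ ⟶ Y₀) (g₀ : Y₀ ⟶ D.obj i₀) [CompactSpace Y₀] (hf₀ : H f₀)
    {X Y : Scheme.{u}} (f : X ⟶ Y) (g : Y ⟶ c.pt) (qY : Y ⟶ Y₀) (qX : X ⟶ X₀)
    (hY : IsPullback qY g g₀ (c.π.app i₀)) (hX : IsPullback qX f f₀ qY) (hP : P f) :
    ∃ (i : I) (φ : i ⟶ i₀) (Xi Yi : Scheme.{u}) (fi : Xi ⟶ Yi) (gi : Yi ⟶ D.obj i) (pY : Yi ⟶ Y₀)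
      (pX : Xi ⟶ X₀), IsPullback pY gi g₀ (D.map φ) ∧ IsPullback pX fi f₀ pY ∧ P fi := by
  have hP' : P (pullback.snd (pullback.snd f₀ (pullback.fst g₀ (D.map (Over.mk (𝟙 i₀)).hom)))
      ((bcCone c hY).π.app (Over.mk (𝟙 i₀)))) := by
    rw [snd_snd_iff (P := P), bcCone_π_fst,
      ← P.cancel_left_of_respectsIso hX.isoPullback.hom, hX.isoPullback_hom_snd]
    exact hP
  obtain ⟨j', φ', hj'⟩ := exists_snd_of_compact hA hH (bcDiagram D i₀ g₀) (bcCone c hY)
    (isLimitBcCone c hY hc) (Over.mk (𝟙 i₀))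
    (pullback.snd f₀ (pullback.fst g₀ (D.map (Over.mk (𝟙 i₀)).hom)))
    (hH f₀ _ hf₀) hP'
  rw [snd_snd_iff (P := P), bcDiagram_map_fst] at hj'
  exact ⟨j'.left, j'.hom, _, _, pullback.snd f₀ (pullback.fst g₀ (D.map j'.hom)),
    pullback.snd g₀ (D.map j'.hom), pullback.fst g₀ (D.map j'.hom), pullback.fst f₀ _,
    IsPullback.of_hasPullback _ _, IsPullback.of_hasPullback _ _, hj'⟩

/-- Conversely, the property passes from a stage to the limit. -/
theorem of_stage {I : Type u} [SmallCategory I] (D : I ⥤ Scheme.{u}) (c : Cone D) (i₀ : I)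
    {X₀ Y₀ : Scheme.{u}} (f₀ : X₀ ⟶ Y₀) (g₀ : Y₀ ⟶ D.obj i₀)
    {X Y : Scheme.{u}} (f : X ⟶ Y) (g : Y ⟶ c.pt) (qY : Y ⟶ Y₀) (qX : X ⟶ X₀)
    (hY : IsPullback qY g g₀ (c.π.app i₀)) (hX : IsPullback qX f f₀ qY)
    {i : I} (φ : i ⟶ i₀) {Xi Yi : Scheme.{u}} (fi : Xi ⟶ Yi) (gi : Yi ⟶ D.obj i) (pY : Yi ⟶ Y₀)
    (pX : Xi ⟶ X₀) (h1 : IsPullback pY gi g₀ (D.map φ)) (h2 : IsPullback pX fi f₀ pY)
    (hP : P fi) : P f := by
  let a : Y ⟶ Yi := h1.lift qY (g ≫ c.π.app i) (by rw [hY.w, Category.assoc, c.w])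
  have ha : a ≫ pY = qY := h1.lift_fst _ _ _
  let b : X ⟶ Xi := h2.lift qX (f ≫ a) (by rw [hX.w, Category.assoc, ha])
  have hb1 : b ≫ pX = qX := h2.lift_fst _ _ _
  have hb2 : b ≫ fi = f ≫ a := h2.lift_snd _ _ _
  have hpb : IsPullback b f fi a := by
    refine IsPullback.of_right ?_ hb2 h2
    rw [hb1, ha]
    exact hX
  exact P.of_isPullback hpb hP

end Generic

theorem affineStage_isAffineHom :
    AffineStage @IsAffineHom (fun f => QuasiCompact f ∧ QuasiSeparated f) := by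
  intro J _ _ E cE hcE _ j₀ _ X₀ f₀ hf₀ hP
  obtain ⟨h1, h2⟩ := hf₀
  haveI := hP
  haveI : IsAffineHom (cE.π.app j₀) := isAffineHom_π_app E cE hcE j₀
  haveI hpt : IsAffine cE.pt := isAffine_of_isAffineHom (cE.π.app j₀)
  haveI : IsAffine (((Functor.const J).obj cE.pt).obj j₀) := hpt
  haveI : IsAffine (pullback f₀ (cE.π.app j₀)) :=
    isAffine_of_isAffineHom (pullback.snd f₀ (cE.π.app j₀))
  have hXpb := IsPullback.of_hasPullback f₀ (cE.π.app j₀)
  haveI : ∀ j, CompactSpace ((bcDiagram E j₀ f₀).obj j) := fun j => by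
    haveI : IsAffine (E.obj j.left) := isAffine_of_isAffineHom (E.map j.hom)
    exact QuasiCompact.compactSpace_of_compactSpace (pullback.snd f₀ (E.map j.hom))
  haveI : ∀ j, QuasiSeparatedSpace ((bcDiagram E j₀ f₀).obj j) := fun j => by
    haveI : IsAffine (E.obj j.left) := isAffine_of_isAffineHom (E.map j.hom)
    exact quasiSeparatedSpace_of_quasiSeparated (pullback.snd f₀ (E.map j.hom))
  haveI : IsAffine (bcCone cE hXpb).pt := by
    show IsAffine (pullback f₀ (cE.π.app j₀))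
    infer_instance
  obtain ⟨j, hj⟩ := Scheme.exists_isAffine_of_isLimit (bcDiagram E j₀ f₀) (bcCone cE hXpb)
    (isLimitBcCone cE hXpb hcE)
  haveI : IsAffine (pullback f₀ (E.map j.hom)) := hj
  haveI : IsAffine (E.obj j.left) := isAffine_of_isAffineHom (E.map j.hom)
  exact ⟨j.left, j.hom, inferInstance⟩

theorem hH_qcqs {X Y Z : Scheme.{u}} (f : X ⟶ Z) (g : Y ⟶ Z)
    (h : QuasiCompact f ∧ QuasiSeparated f) :
    QuasiCompact (pullback.snd f g) ∧ QuasiSeparated (pullback.snd f g) := by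
  obtain ⟨h1, h2⟩ := h
  exact ⟨inferInstance, inferInstance⟩

end Groth.Agent.Lib.LimDescendH7
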