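import Mathlib
import Groth.Agent.Lib.LimDescend_helper7

/-!
# Diagonals of base changes and descent to a stage of a limit (helper7)

* `lfp_of_comp`: `f ≫ g` locally of finite presentation and `g` locally of finite type implies
  `f` locally of finite presentation.
* `exists_descend_can`: canonical form of `LimDescendH7.exists_descend`.
* `conv`: a base change `u` of `u₀` along `e ≫ b'` is a base change of `pullback.snd u₀ b'`.
* `isPullback_map_snd`, `isPullback_diagonal`, `isPullback_map_base`: plumbing for the diagonal of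
  a base change.
* `exists_descend_diagonal`: descent of `P (pullback.diagonal f)`.
-/

set_option autoImplicit false
set_option backward.isDefEq.respectTransparency false
universe u
open CategoryTheory CategoryTheory.Limits AlgebraicGeometry

namespace Groth.Agent.Lib.LimDiagH7
open Groth.Agent.Lib.LimBaseChangeH7 Groth.Agent.Lib.LimIsoH7 Groth.Agent.Lib.LimDescendH7

theorem lfp_of_comp {X Y Z : Scheme.{u}} (f : X ⟶ Y) (g : Y ⟶ Z)
    [LocallyOfFinitePresentation (f ≫ g)] [LocallyOfFiniteType g] :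
    LocallyOfFinitePresentation f := by
  rw [HasRingHomProperty.iff_exists_appLE (P := @LocallyOfFinitePresentation)
    (RingHom.finitePresentation_stableUnderComposition.stableUnderCompositionWithLocalizationAway
      RingHom.finitePresentation_holdsForLocalizationAway).left]
  intro x
  obtain ⟨_, ⟨W, hW, rfl⟩, hxW, -⟩ := Z.isBasis_affineOpens.exists_subset_of_mem_open
    (Set.mem_univ (g (f x))) isOpen_univ
  obtain ⟨_, ⟨U, hU, rfl⟩, hxU, hUW⟩ := Y.isBasis_affineOpens.exists_subset_of_mem_open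
    (show f x ∈ g ⁻¹ᵁ W from hxW) (g ⁻¹ᵁ W).isOpen
  obtain ⟨_, ⟨V, hV, rfl⟩, hxV, hVU⟩ := X.isBasis_affineOpens.exists_subset_of_mem_open
    (show x ∈ f ⁻¹ᵁ U from hxU) (f ⁻¹ᵁ U).isOpen
  refine ⟨⟨U, hU⟩, ⟨V, hV⟩, hxV, hVU, ?_⟩
  have hVW : V ≤ (f ≫ g) ⁻¹ᵁ W := fun y hy => hUW (hVU hy)
  have h1 := HasRingHomProperty.appLE (P := @LocallyOfFinitePresentation) (f := f ≫ g)
    inferInstance ⟨W, hW⟩ ⟨V, hV⟩ hVW
  have h2 := HasRingHomProperty.appLE (P := @LocallyOfFiniteType) (f := g)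
    inferInstance ⟨W, hW⟩ ⟨U, hU⟩ hUW
  have h3 : (f ≫ g).appLE W V hVW = g.appLE W U hUW ≫ f.appLE U V hVU :=
    (Scheme.Hom.appLE_comp_appLE f g W U V hUW hVU).symm
  rw [h3, CommRingCat.hom_comp] at h1
  exact RingHom.FinitePresentation.of_comp_finiteType _ h1 h2

section Generic
variable {P : MorphismProperty Scheme.{u}} {H : ∀ {X Y : Scheme.{u}}, (X ⟶ Y) → Prop}

/-- A base change `u` of `u₀` along `e ≫ b'` is a base change of `pullback.snd u₀ b'`. -/
theorem conv [P.IsStableUnderBaseChange] {A B A₀ B₀ B' : Scheme.{u}} {a : A ⟶ A₀} {u : A ⟶ B}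
    {u₀ : A₀ ⟶ B₀} {b : B ⟶ B₀} (h : IsPullback a u u₀ b) (e : B ⟶ B') (b' : B' ⟶ B₀)
    (hb : e ≫ b' = b) (hP : P (pullback.snd u₀ b')) : P u := by
  let l : A ⟶ pullback u₀ b' := pullback.lift a (u ≫ e) (by rw [Category.assoc, hb, h.w])
  have hl1 : l ≫ pullback.fst u₀ b' = a := pullback.lift_fst _ _ _
  have hl2 : l ≫ pullback.snd u₀ b' = u ≫ e := pullback.lift_snd _ _ _
  have hpb : IsPullback l u (pullback.snd u₀ b') e := by
    refine IsPullback.of_right ?_ hl2 (IsPullback.of_hasPullback u₀ b')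
    rw [hl1, hb]
    exact h
  exact P.of_isPullback hpb hP

variable [P.RespectsIso] [P.IsStableUnderBaseChange] [IsZariskiLocalAtTarget P]

theorem exists_descend_can (hA : AffineStage P H)
    (hH : ∀ {X Y Z : Scheme.{u}} (f : X ⟶ Z) (g : Y ⟶ Z), H f → H (pullback.snd f g))
    {I : Type u} [SmallCategory I] [IsCofiltered I] (D : I ⥤ Scheme.{u}) (c : Cone D)
    (hc : IsLimit c) [∀ (i j : I) (f : i ⟶ j), IsAffineHom (D.map f)] (i₀ : I)
    {X₀ Y₀ : Scheme.{u}} (f₀ : X₀ ⟶ Y₀) (g₀ : Y₀ ⟶ D.obj i₀) [CompactSpace Y₀] (hf₀ : H f₀)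
    {X Y : Scheme.{u}} (f : X ⟶ Y) (g : Y ⟶ c.pt) (qY : Y ⟶ Y₀) (qX : X ⟶ X₀)
    (hY : IsPullback qY g g₀ (c.π.app i₀)) (hX : IsPullback qX f f₀ qY) (hP : P f) :
    ∃ (i : I) (φ : i ⟶ i₀), P (pullback.snd f₀ (pullback.fst g₀ (D.map φ))) := by
  have hP' : P (pullback.snd (pullback.snd f₀ (pullback.fst g₀ (D.map (Over.mk (𝟙 i₀)).hom)))
      ((bcCone c hY).π.app (Over.mk (𝟙 i₀)))) := by
    rw [snd_snd_iff (P := P), bcCone_π_fst,
      ← P.cancel_left_of_respectsIso hX.isoPullback.hom, hX.isoPullback_hom_snd]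
    exact hP
  obtain ⟨j', φ', hj'⟩ := exists_snd_of_compact hA hH (bcDiagram D i₀ g₀) (bcCone c hY)
    (isLimitBcCone c hY hc) (Over.mk (𝟙 i₀))
    (pullback.snd f₀ (pullback.fst g₀ (D.map (Over.mk (𝟙 i₀)).hom)))
    (hH f₀ _ hf₀) hP'
  rw [snd_snd_iff (P := P), bcDiagram_map_fst] at hj'
  exact ⟨j'.left, j'.hom, hj'⟩

end Generic

section Plumbing
variable {X Y X₀ Y₀ : Scheme.{u}} {f : X ⟶ Y} {f₀ : X₀ ⟶ Y₀} {qX : X ⟶ X₀} {qY : Y ⟶ Y₀}

/-- The map `X ×_Y X ⟶ X₀ ×_{Y₀} X₀`. -/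
noncomputable abbrev qW (hX : IsPullback qX f f₀ qY) : pullback f f ⟶ pullback f₀ f₀ :=
  pullback.map f f f₀ f₀ qX qX qY hX.w.symm hX.w.symm

theorem isPullback_map_snd (hX : IsPullback qX f f₀ qY) :
    IsPullback (qW hX) (pullback.snd f f) (pullback.snd f₀ f₀) qX := by
  have h1 : IsPullback (pullback.fst f f) (pullback.snd f f) f f := IsPullback.of_hasPullback f f
  have h2 : IsPullback (pullback.fst f₀ f₀) (pullback.snd f₀ f₀) f₀ f₀ :=
    IsPullback.of_hasPullback f₀ f₀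
  -- outer rectangle: (fst ≫ qX, snd; f₀, f ≫ qY)
  have houter : IsPullback (pullback.fst f f ≫ qX) (pullback.snd f f) f₀ (f ≫ qY) :=
    h1.paste_horiz hX
  have hfst : qW hX ≫ pullback.fst f₀ f₀ = pullback.fst f f ≫ qX := pullback.lift_fst _ _ _
  have hsnd : qW hX ≫ pullback.snd f₀ f₀ = pullback.snd f f ≫ qX := pullback.lift_snd _ _ _
  refine IsPullback.of_right ?_ hsnd h2
  rw [hfst, hX.w]
  exact houter

theorem isPullback_diagonal (hX : IsPullback qX f f₀ qY) :
    IsPullback qX (pullback.diagonal f) (pullback.diagonal f₀) (qW hX) := by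
  have hcomm : pullback.diagonal f ≫ qW hX = qX ≫ pullback.diagonal f₀ := by
    apply pullback.hom_ext
    · rw [Category.assoc, Category.assoc, pullback.lift_fst, pullback.diagonal_fst_assoc,
        pullback.diagonal_fst, Category.comp_id]
    · rw [Category.assoc, Category.assoc, pullback.lift_snd, pullback.diagonal_snd_assoc,
        pullback.diagonal_snd, Category.comp_id]
  refine IsPullback.of_bot ?_ hcomm.symm (isPullback_map_snd hX)
  rw [pullback.diagonal_snd, pullback.diagonal_snd]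
  exact IsPullback.of_vert_isIso ⟨by rw [Category.id_comp, Category.comp_id]⟩

theorem isPullback_map_base {T S₀ : Scheme.{u}} {g : Y ⟶ T} {g₀ : Y₀ ⟶ S₀} {h : T ⟶ S₀}
    (hY : IsPullback qY g g₀ h) (hX : IsPullback qX f f₀ qY) :
    IsPullback (qW hX) (pullback.snd f f ≫ f ≫ g) (pullback.snd f₀ f₀ ≫ f₀ ≫ g₀) h :=
  (isPullback_map_snd hX).paste_vert (hX.paste_vert hY)

end Plumbing

section Diag
variable {P : MorphismProperty Scheme.{u}} {H : ∀ {X Y : Scheme.{u}}, (X ⟶ Y) → Prop}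
  [P.RespectsIso] [P.IsStableUnderBaseChange] [IsZariskiLocalAtTarget P]

theorem exists_descend_diagonal (hA : AffineStage P H)
    (hH : ∀ {X Y Z : Scheme.{u}} (f : X ⟶ Z) (g : Y ⟶ Z), H f → H (pullback.snd f g))
    {I : Type u} [SmallCategory I] [IsCofiltered I] (D : I ⥤ Scheme.{u}) (c : Cone D)
    (hc : IsLimit c) [∀ (i j : I) (f : i ⟶ j), IsAffineHom (D.map f)] (i₀ : I)
    {X₀ Y₀ : Scheme.{u}} (f₀ : X₀ ⟶ Y₀) (g₀ : Y₀ ⟶ D.obj i₀) [CompactSpace ↑(pullback f₀ f₀)]
    (hΔ₀ : H (pullback.diagonal f₀))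
    {X Y : Scheme.{u}} (f : X ⟶ Y) (g : Y ⟶ c.pt) (qY : Y ⟶ Y₀) (qX : X ⟶ X₀)
    (hY : IsPullback qY g g₀ (c.π.app i₀)) (hX : IsPullback qX f f₀ qY)
    (hP : P (pullback.diagonal f)) :
    ∃ (i : I) (φ : i ⟶ i₀),
      P (pullback.diagonal (pullback.snd f₀ (pullback.fst g₀ (D.map φ)))) := by
  obtain ⟨i, φ, hi⟩ := exists_descend_can hA hH D c hc i₀ (pullback.diagonal f₀)
    (pullback.snd f₀ f₀ ≫ f₀ ≫ g₀) hΔ₀ (pullback.diagonal f) (pullback.snd f f ≫ f ≫ g)
    (qW hX) qX (isPullback_map_base hY hX) (isPullback_diagonal hX) hP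
  refine ⟨i, φ, ?_⟩
  have hYi := IsPullback.of_hasPullback g₀ (D.map φ)
  have hXi := IsPullback.of_hasPullback f₀ (pullback.fst g₀ (D.map φ))
  have hΔi := isPullback_diagonal hXi
  have hWi := isPullback_map_base hYi hXi
  exact conv hΔi (pullback.lift (qW hXi) _ hWi.w) (pullback.fst _ (D.map φ))
    (pullback.lift_fst _ _ _) hi

end Diag

theorem affineStage_isIso : AffineStage (MorphismProperty.isomorphisms Scheme.{u})
    (fun f => LocallyOfFinitePresentation f ∧ QuasiCompact f ∧ QuasiSeparated f) := by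
  intro J _ _ E cE hcE _ j₀ _ X₀ g₀ hg₀ hP
  obtain ⟨h1, h2, h3⟩ := hg₀
  exact exists_isIso_snd_of_qcqs E cE hcE j₀ g₀ hP

theorem hH_lfp {X Y Z : Scheme.{u}} (f : X ⟶ Z) (g : Y ⟶ Z)
    (h : LocallyOfFinitePresentation f ∧ QuasiCompact f ∧ QuasiSeparated f) :
    LocallyOfFinitePresentation (pullback.snd f g) ∧ QuasiCompact (pullback.snd f g) ∧
      QuasiSeparated (pullback.snd f g) := by
  obtain ⟨h1, h2, h3⟩ := h
  exact ⟨inferInstance, inferInstance, inferInstance⟩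

/-- The diagonal of a morphism locally of finite type is locally of finite presentation. -/
theorem lfp_diagonal {X Y : Scheme.{u}} (f : X ⟶ Y) [LocallyOfFiniteType f] :
    LocallyOfFinitePresentation (pullback.diagonal f) := by
  haveI : LocallyOfFinitePresentation (pullback.diagonal f ≫ pullback.fst f f) := by
    rw [pullback.diagonal_fst]; infer_instance
  exact lfp_of_comp (pullback.diagonal f) (pullback.fst f f)

end Groth.Agent.Lib.LimDiagH7
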