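import Mathlib
import Groth.Agent.Lib.LimDiag_helper7

/-!
# Surjectivity descends to a stage of a cofiltered limit (helper7)

* `exists_preimage_eq_empty`: a constructible subset of a stage with empty preimage in the limit
  has empty preimage at some stage.
* `affineStage_surjective`: the affine-stage statement for surjective morphisms of finite
  presentation (via Chevalley's theorem).
-/

set_option autoImplicit false
set_option backward.isDefEq.respectTransparency false
universe u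
open CategoryTheory CategoryTheory.Limits AlgebraicGeometry Topology

namespace Groth.Agent.Lib.LimSurjH7
open Groth.Agent.Lib.LimBaseChangeH7 Groth.Agent.Lib.LimIsoH7 Groth.Agent.Lib.LimDescendH7

theorem preimage_comp {X Y Z : Scheme.{u}} (f : X ⟶ Y) (g : Y ⟶ Z) (s : Set Z) :
    (f ≫ g) ⁻¹' s = f ⁻¹' (g ⁻¹' s) := by
  ext x
  simp only [Set.mem_preimage, Scheme.Hom.comp_apply]

theorem exists_preimage_eq_empty {J : Type u} [SmallCategory J] [IsCofiltered J]
    (E : J ⥤ Scheme.{u}) (cE : Cone E) (hcE : IsLimit cE)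
    [∀ (i j : J) (f : i ⟶ j), IsAffineHom (E.map f)] (j₀ : J) [CompactSpace (E.obj j₀)]
    {Z : Set (E.obj j₀)} (hZ : IsConstructible Z) (hempty : (cE.π.app j₀) ⁻¹' Z = ∅) :
    ∃ (j : J) (φ : j ⟶ j₀), (E.map φ) ⁻¹' Z = ∅ := by
  induction Z, hZ using BooleanSubalgebra.closure_sdiff_sup_induction with
  | isSublattice =>
    exact ⟨fun s hs t ht ↦ ⟨hs.1.union ht.1, hs.2.union ht.2⟩,
      fun s hs t ht ↦ ⟨hs.1.inter ht.1, hs.2.inter_isOpen ht.2 ht.1⟩⟩
  | bot_mem => exact ⟨isOpen_empty, .empty⟩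
  | top_mem => exact ⟨isOpen_univ, .univ⟩
  | sdiff U hU V hV =>
    let U' : (E.obj j₀).Opens := ⟨U, hU.1⟩
    let V' : (E.obj j₀).Opens := ⟨V, hV.1⟩
    have H : cE.π.app j₀ ⁻¹ᵁ U' ≤ cE.π.app j₀ ⁻¹ᵁ V' := by
      intro x hx
      by_contra hxV
      have : x ∈ (cE.π.app j₀) ⁻¹' (U \ V) := ⟨hx, hxV⟩
      rw [hempty] at this
      exact this
    obtain ⟨j, φ, hj⟩ := exists_map_preimage_le_map_preimage E cE hcE
      (U := U') (V := V') hU.2.isCompact H
    refine ⟨j, φ, ?_⟩
    ext x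
    simp only [Set.mem_preimage, Set.mem_diff, Set.mem_empty_iff_false, iff_false, not_and,
      not_not]
    intro hx
    exact hj hx
  | sup s _ t _ hs' ht' =>
    have h1 : (cE.π.app j₀) ⁻¹' s = ∅ := by
      rw [← Set.subset_empty_iff, ← hempty]
      exact Set.preimage_mono le_sup_left
    have h2 : (cE.π.app j₀) ⁻¹' t = ∅ := by
      rw [← Set.subset_empty_iff, ← hempty]
      exact Set.preimage_mono le_sup_right
    obtain ⟨j₁, φ₁, e₁⟩ := hs' h1
    obtain ⟨j₂, φ₂, e₂⟩ := ht' h2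
    obtain ⟨k, a, b, hab⟩ := IsCofiltered.cospan φ₁ φ₂
    refine ⟨k, a ≫ φ₁, ?_⟩
    show (E.map (a ≫ φ₁)) ⁻¹' (s ∪ t) = ∅
    rw [Set.preimage_union]
    have e₁' : (E.map (a ≫ φ₁)) ⁻¹' s = ∅ := by
      rw [E.map_comp, preimage_comp, e₁, Set.preimage_empty]
    have e₂' : (E.map (a ≫ φ₁)) ⁻¹' t = ∅ := by
      rw [hab, E.map_comp, preimage_comp, e₂, Set.preimage_empty]
    rw [e₁', e₂', Set.union_empty]

theorem affineStage_surjective : AffineStage @Surjective
    (fun f => LocallyOfFinitePresentation f ∧ QuasiCompact f ∧ QuasiSeparated f) := by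
  intro J _ _ E cE hcE _ j₀ _ X₀ f₀ hf₀ hP
  obtain ⟨h1, h2, h3⟩ := hf₀
  have hZ : IsConstructible (Set.range f₀)ᶜ := by
    rw [isConstructible_compl, ← Set.image_univ]
    exact f₀.isConstructible_image IsConstructible.univ
  have hempty : (cE.π.app j₀) ⁻¹' (Set.range f₀)ᶜ = ∅ := by
    rw [Set.preimage_compl, ← Scheme.Pullback.range_snd, hP.surj.range_eq, Set.compl_univ]
  obtain ⟨j, φ, hj⟩ := exists_preimage_eq_empty E cE hcE j₀ hZ hempty
  refine ⟨j, φ, ⟨?_⟩⟩
  rw [← Set.range_eq_univ, Scheme.Pullback.range_snd, ← Set.compl_empty_iff, ← Set.preimage_compl]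
  exact hj

end Groth.Agent.Lib.LimSurjH7
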