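import Mathlib
import Groth.Agent.Lib.LimSurj_helper7

/-!
# Constructible sets and cofiltered limits of schemes with affine transition maps (helper9)

* `isCompact_of_isConstructible`: constructible subsets of compact spaces are compact.
* `exists_constructible_preimage_eq`: every constructible subset of the limit comes from a stage.
* `exists_preimage_eq_of_preimage_eq`: equality of preimages of constructible sets descends.
* `exists_isOpen_preimage`, `exists_isLocallyClosed_preimage`: openness / local closedness of the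
  preimage of a constructible set descends to a stage (compact stage).
-/

set_option autoImplicit false
set_option backward.isDefEq.respectTransparency false
universe u
open CategoryTheory CategoryTheory.Limits AlgebraicGeometry Topology TopologicalSpace

namespace Groth.Agent.Lib.LimConstr

/-- A constructible subset of a compact space is compact. -/
theorem isCompact_of_isConstructible {X : Type*} [TopologicalSpace X] [CompactSpace X] {s : Set X}
    (hs : IsConstructible s) : IsCompact s := by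
  induction s, hs using BooleanSubalgebra.closure_sdiff_sup_induction with
  | isSublattice =>
    exact ⟨fun s hs t ht ↦ ⟨hs.1.union ht.1, hs.2.union ht.2⟩,
      fun s hs t ht ↦ ⟨hs.1.inter ht.1, hs.2.inter_isOpen ht.2 ht.1⟩⟩
  | bot_mem => exact ⟨isOpen_empty, .empty⟩
  | top_mem => exact ⟨isOpen_univ, .univ⟩
  | sdiff U hU V hV => exact hU.2.isCompact.diff hV.1
  | sup s _ t _ hs' ht' => exact hs'.union ht'

theorem isLocallyClosed_inter_union {X : Type*} [TopologicalSpace X] (s : Set X) {W W' : Set X}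
    (hW : IsOpen W) (hW' : IsOpen W') (h : IsLocallyClosed (s ∩ W))
    (h' : IsLocallyClosed (s ∩ W')) : IsLocallyClosed (s ∩ (W ∪ W')) := by
  refine ((isLocallyClosed_tfae _).out 0 3).mpr ?_
  have key : ∀ (V : Set X), IsOpen V → V ⊆ W ∪ W' → IsLocallyClosed (s ∩ V) → ∀ x ∈ s ∩ V,
      ∃ U, x ∈ U ∧ IsOpen U ∧ U ∩ closure (s ∩ (W ∪ W')) ⊆ s ∩ (W ∪ W') := by
    intro V hV hVW hl x hx
    have h4 := ((isLocallyClosed_tfae (s ∩ V)).out 0 3).mp hl
    obtain ⟨U, hxU, hU, hUs⟩ := h4 x hx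
    refine ⟨U ∩ V, ⟨hxU, hx.2⟩, hU.inter hV, ?_⟩
    rintro y ⟨⟨hyU, hyV⟩, hycl⟩
    have h1 : y ∈ closure (s ∩ V) := by
      have h2 := hV.inter_closure (t := s ∩ (W ∪ W')) ⟨hyV, hycl⟩
      refine closure_mono ?_ h2
      rintro z ⟨hzV, hzs, _⟩
      exact ⟨hzs, hzV⟩
    have h3 := hUs ⟨hyU, h1⟩
    exact ⟨h3.1, hVW h3.2⟩
  rintro x ⟨hxs, hxW | hxW'⟩
  · exact key W hW Set.subset_union_left h x ⟨hxs, hxW⟩
  · exact key W' hW' Set.subset_union_right h' x ⟨hxs, hxW'⟩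

/-- A locally closed constructible subset of a quasi-compact quasi-separated scheme is the
difference of two quasi-compact opens. -/
theorem exists_compact_opens_diff {X : Scheme.{u}} [CompactSpace X] [QuasiSeparatedSpace X]
    {Z : Set X} (hZ : IsConstructible Z) (hZ' : IsLocallyClosed Z) :
    ∃ U G : X.Opens, IsCompact (U : Set X) ∧ IsCompact (G : Set X) ∧ Z = (U : Set X) \ G := by
  have hZc : IsCompact Z := isCompact_of_isConstructible hZ
  have h4 := ((isLocallyClosed_tfae Z).out 0 3).mp hZ'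
  have h5 : ∀ x ∈ Z, ∃ V : X.Opens, x ∈ V ∧ IsCompact (V : Set X) ∧
      (V : Set X) ∩ closure Z ⊆ Z := by
    intro x hx
    obtain ⟨W, hxW, hW, hWZ⟩ := h4 x hx
    obtain ⟨_, ⟨V, hV : IsAffineOpen V, rfl⟩, hxV, hVW⟩ :=
      X.isBasis_affineOpens.exists_subset_of_mem_open hxW hW
    exact ⟨V, hxV, hV.isCompact, (Set.inter_subset_inter_left _ hVW).trans hWZ⟩
  choose! V hxV hVc hVZ using h5
  obtain ⟨t, htZ, htfin, ht⟩ := hZc.elim_finite_subcover_image (b := Z)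
    (c := fun x => (V x : Set X)) (fun x _ => (V x).2)
    (fun x hx => Set.mem_biUnion hx (hxV x hx))
  let U : X.Opens := ⟨⋃ x ∈ t, (V x : Set X), isOpen_biUnion fun x _ => (V x).2⟩
  have hUc : IsCompact (U : Set X) := htfin.isCompact_biUnion fun x hx => hVc x (htZ hx)
  have hUZ : (U : Set X) ∩ closure Z ⊆ Z := by
    rintro x ⟨hxU, hxcl⟩
    obtain ⟨y, hy, hxy⟩ := Set.mem_iUnion₂.mp hxU
    exact hVZ y (htZ hy) ⟨hxy, hxcl⟩
  let G : X.Opens := ⟨(U : Set X) \ closure Z, U.2.sdiff isClosed_closure⟩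
  have hG : (G : Set X) = (U : Set X) \ Z := by
    ext x
    constructor
    · rintro ⟨hxU, hx⟩
      exact ⟨hxU, fun h => hx (subset_closure h)⟩
    · rintro ⟨hxU, hx⟩
      exact ⟨hxU, fun h => hx (hUZ ⟨hxU, h⟩)⟩
  have hGc : IsCompact (G : Set X) := by
    rw [hG]
    exact isCompact_of_isConstructible ((hUc.isConstructible U.2).sdiff hZ)
  refine ⟨U, G, hUc, hGc, ?_⟩
  rw [hG]
  ext x
  constructor
  · intro hx
    exact ⟨ht hx, fun h => h.2 hx⟩
  · rintro ⟨hxU, hx⟩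
    by_contra hxZ
    exact hx ⟨hxU, hxZ⟩

section Limit

variable {I : Type u} [SmallCategory I] [IsCofiltered I] (D : I ⥤ Scheme.{u}) (c : Cone D)
  (hc : IsLimit c) [hA : ∀ (i j : I) (f : i ⟶ j), IsAffineHom (D.map f)]

omit [IsCofiltered I] hA in
theorem map_π_apply {i j : I} (φ : i ⟶ j) (x : c.pt) :
    (D.map φ) (c.π.app i x) = c.π.app j x := by
  have h := Scheme.Hom.comp_apply (c.π.app i) (D.map φ) x
  rw [c.w] at h
  exact h.symm

omit [IsCofiltered I] hA in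
theorem preimage_π_preimage_map {i j : I} (φ : i ⟶ j) (s : Set (D.obj j)) :
    (c.π.app i) ⁻¹' ((D.map φ) ⁻¹' s) = (c.π.app j) ⁻¹' s := by
  ext x
  simp only [Set.mem_preimage, map_π_apply]

omit [IsCofiltered I] hA in
theorem preimage_map_comp {i j k : I} (φ : i ⟶ j) (ψ : j ⟶ k) (s : Set (D.obj k)) :
    (D.map (φ ≫ ψ)) ⁻¹' s = (D.map φ) ⁻¹' ((D.map ψ) ⁻¹' s) := by
  rw [D.map_comp]
  ext x
  simp only [Set.mem_preimage, Scheme.Hom.comp_apply]

include hc in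
theorem compactSpace_pt (i : I) [CompactSpace (D.obj i)] : CompactSpace c.pt := by
  haveI hA' : ∀ {i j : I} (f : i ⟶ j), IsAffineHom (D.map f) := fun f => inferInstance
  haveI := isAffineHom_π_app D c hc i
  exact QuasiCompact.compactSpace_of_compactSpace (c.π.app i)

include hc in
theorem quasiSeparatedSpace_pt (i : I) [QuasiSeparatedSpace (D.obj i)] :
    QuasiSeparatedSpace c.pt := by
  haveI hA' : ∀ {i j : I} (f : i ⟶ j), IsAffineHom (D.map f) := fun f => inferInstance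
  haveI := isAffineHom_π_app D c hc i
  exact quasiSeparatedSpace_of_quasiSeparated (c.π.app i)

include hc in
/-- Every constructible subset of the limit is the preimage of a constructible subset of a
stage (some stage being qcqs). -/
theorem exists_constructible_preimage_eq (i₀ : I) [CompactSpace (D.obj i₀)]
    [QuasiSeparatedSpace (D.obj i₀)] (Z : Set c.pt) (hZ : IsConstructible Z) :
    ∃ (i : I) (_ : i ⟶ i₀) (Zi : Set (D.obj i)),
      IsConstructible Zi ∧ (c.π.app i) ⁻¹' Zi = Z := by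
  haveI hA' : ∀ {i j : I} (f : i ⟶ j), IsAffineHom (D.map f) := fun f => inferInstance
  haveI := compactSpace_pt D c hc i₀
  induction Z, hZ using BooleanSubalgebra.closure_sdiff_sup_induction with
  | isSublattice =>
    exact ⟨fun s hs t ht ↦ ⟨hs.1.union ht.1, hs.2.union ht.2⟩,
      fun s hs t ht ↦ ⟨hs.1.inter ht.1, hs.2.inter_isOpen ht.2 ht.1⟩⟩
  | bot_mem => exact ⟨isOpen_empty, .empty⟩
  | top_mem => exact ⟨isOpen_univ, .univ⟩
  | sdiff U hU V hV =>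
    obtain ⟨i₁, U₁, hU₁, e₁⟩ := exists_preimage_eq D c hc ⟨U, hU.1⟩ hU.2.isCompact
    obtain ⟨i₂, V₂, hV₂, e₂⟩ := exists_preimage_eq D c hc ⟨V, hV.1⟩ hV.2.isCompact
    let k₁ := IsCofiltered.min i₁ i₂
    let k := IsCofiltered.min k₁ i₀
    let a : k ⟶ i₁ := IsCofiltered.minToLeft k₁ i₀ ≫ IsCofiltered.minToLeft i₁ i₂
    let b : k ⟶ i₂ := IsCofiltered.minToLeft k₁ i₀ ≫ IsCofiltered.minToRight i₁ i₂
    let d : k ⟶ i₀ := IsCofiltered.minToRight k₁ i₀
    haveI : QuasiSeparatedSpace (D.obj k) := quasiSeparatedSpace_of_quasiSeparated (D.map d)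
    refine ⟨k, d, (D.map a) ⁻¹' (U₁ : Set _) \ (D.map b) ⁻¹' (V₂ : Set _), ?_, ?_⟩
    · exact ((QuasiCompact.isCompact_preimage (f := D.map a) _ U₁.2 hU₁).isConstructible
        (U₁.2.preimage (D.map a).continuous)).sdiff
        ((QuasiCompact.isCompact_preimage (f := D.map b) _ V₂.2 hV₂).isConstructible
        (V₂.2.preimage (D.map b).continuous))
    · rw [Set.preimage_sdiff, preimage_π_preimage_map, preimage_π_preimage_map]
      have h1 : (c.π.app i₁) ⁻¹' (U₁ : Set _) = U :=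
        congrArg (fun W : c.pt.Opens => (W : Set c.pt)) e₁
      have h2 : (c.π.app i₂) ⁻¹' (V₂ : Set _) = V :=
        congrArg (fun W : c.pt.Opens => (W : Set c.pt)) e₂
      rw [h1, h2]
  | sup s _ t _ hs' ht' =>
    obtain ⟨i, φ, Zi, hZi, ei⟩ := hs'
    obtain ⟨j, ψ, Zj, hZj, ej⟩ := ht'
    refine ⟨IsCofiltered.min i j, IsCofiltered.minToLeft i j ≫ φ,
      (D.map (IsCofiltered.minToLeft i j)) ⁻¹' Zi ∪ (D.map (IsCofiltered.minToRight i j)) ⁻¹' Zj,
      (Scheme.Hom.isConstructible_preimage _ hZi).union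
        (Scheme.Hom.isConstructible_preimage _ hZj), ?_⟩
    show _ = s ∪ t
    rw [Set.preimage_union, preimage_π_preimage_map, preimage_π_preimage_map, ei, ej]

include hc in
/-- Equality of the preimages in the limit of two constructible subsets of a compact stage
descends to a stage. -/
theorem exists_preimage_eq_of_preimage_eq (i₁ : I) [CompactSpace (D.obj i₁)]
    {Z₁ Z₂ : Set (D.obj i₁)} (h₁ : IsConstructible Z₁) (h₂ : IsConstructible Z₂)
    (h : (c.π.app i₁) ⁻¹' Z₁ = (c.π.app i₁) ⁻¹' Z₂) :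
    ∃ (j : I) (φ : j ⟶ i₁), (D.map φ) ⁻¹' Z₁ = (D.map φ) ⁻¹' Z₂ := by
  have hsd : IsConstructible ((Z₁ \ Z₂) ∪ (Z₂ \ Z₁)) := (h₁.sdiff h₂).union (h₂.sdiff h₁)
  have hempty : (c.π.app i₁) ⁻¹' ((Z₁ \ Z₂) ∪ (Z₂ \ Z₁)) = ∅ := by
    rw [Set.preimage_union, Set.preimage_sdiff, Set.preimage_sdiff, h, Set.sdiff_self,
      Set.union_self]
  obtain ⟨j, φ, hj⟩ := LimSurjH7.exists_preimage_eq_empty D c hc i₁ hsd hempty
  refine ⟨j, φ, ?_⟩
  rw [Set.preimage_union, Set.preimage_sdiff, Set.preimage_sdiff, Set.union_empty_iff,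
    Set.sdiff_eq_empty, Set.sdiff_eq_empty] at hj
  exact Set.Subset.antisymm hj.1 hj.2

include hc in
theorem exists_preimage_eq_diff (i₁ : I) [CompactSpace (D.obj i₁)]
    [QuasiSeparatedSpace (D.obj i₁)] {Z₁ : Set (D.obj i₁)} (hZ : IsConstructible Z₁)
    (j₁ j₂ : I) (U₁ : (D.obj j₁).Opens) (G₂ : (D.obj j₂).Opens)
    (hU₁ : IsCompact (U₁ : Set (D.obj j₁))) (hG₂ : IsCompact (G₂ : Set (D.obj j₂)))
    (h : (c.π.app i₁) ⁻¹' Z₁ = (c.π.app j₁) ⁻¹' (U₁ : Set _) \ (c.π.app j₂) ⁻¹' (G₂ : Set _)) :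
    ∃ (k : I) (φ : k ⟶ i₁) (a : k ⟶ j₁) (b : k ⟶ j₂),
      (D.map φ) ⁻¹' Z₁ = (D.map a) ⁻¹' (U₁ : Set _) \ (D.map b) ⁻¹' (G₂ : Set _) := by
  let k₁ := IsCofiltered.min j₁ j₂
  let k := IsCofiltered.min k₁ i₁
  let a : k ⟶ j₁ := IsCofiltered.minToLeft k₁ i₁ ≫ IsCofiltered.minToLeft j₁ j₂
  let b : k ⟶ j₂ := IsCofiltered.minToLeft k₁ i₁ ≫ IsCofiltered.minToRight j₁ j₂
  let φ : k ⟶ i₁ := IsCofiltered.minToRight k₁ i₁
  haveI : QuasiSeparatedSpace (D.obj k) := quasiSeparatedSpace_of_quasiSeparated (D.map φ)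
  haveI : CompactSpace (D.obj k) := QuasiCompact.compactSpace_of_compactSpace (D.map φ)
  have hZ₂ : IsConstructible ((D.map a) ⁻¹' (U₁ : Set _) \ (D.map b) ⁻¹' (G₂ : Set _)) :=
    ((QuasiCompact.isCompact_preimage (f := D.map a) _ U₁.2 hU₁).isConstructible
      (U₁.2.preimage (D.map a).continuous)).sdiff
      ((QuasiCompact.isCompact_preimage (f := D.map b) _ G₂.2 hG₂).isConstructible
      (G₂.2.preimage (D.map b).continuous))
  have hZ₁' : IsConstructible ((D.map φ) ⁻¹' Z₁) := Scheme.Hom.isConstructible_preimage _ hZ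
  have heq : (c.π.app k) ⁻¹' ((D.map φ) ⁻¹' Z₁) =
      (c.π.app k) ⁻¹' ((D.map a) ⁻¹' (U₁ : Set _) \ (D.map b) ⁻¹' (G₂ : Set _)) := by
    rw [Set.preimage_sdiff, preimage_π_preimage_map, preimage_π_preimage_map,
      preimage_π_preimage_map, h]
  obtain ⟨l, ψ, hl⟩ := exists_preimage_eq_of_preimage_eq D c hc k hZ₁' hZ₂ heq
  refine ⟨l, ψ ≫ φ, ψ ≫ a, ψ ≫ b, ?_⟩
  rw [preimage_map_comp, hl, Set.preimage_sdiff, ← preimage_map_comp, ← preimage_map_comp]

include hc in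
/-- qcqs stage: openness of the preimage of a constructible set descends. -/
theorem exists_isOpen_preimage_of_qcqs (i₁ : I) [CompactSpace (D.obj i₁)]
    [QuasiSeparatedSpace (D.obj i₁)] (Z₁ : Set (D.obj i₁)) (hZ : IsConstructible Z₁)
    (ho : IsOpen ((c.π.app i₁) ⁻¹' Z₁)) : ∃ (j : I) (φ : j ⟶ i₁), IsOpen ((D.map φ) ⁻¹' Z₁) := by
  haveI hA' : ∀ {i j : I} (f : i ⟶ j), IsAffineHom (D.map f) := fun f => inferInstance
  haveI := compactSpace_pt D c hc i₁
  have hcomp : IsCompact ((c.π.app i₁) ⁻¹' Z₁) :=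
    isCompact_of_isConstructible (X := c.pt)
      (Scheme.Hom.isConstructible_preimage (c.π.app i₁) hZ)
  obtain ⟨j₁, U₁, hU₁, e₁⟩ := exists_preimage_eq D c hc ⟨_, ho⟩ hcomp
  have h1 : (c.π.app j₁) ⁻¹' (U₁ : Set _) = (c.π.app i₁) ⁻¹' Z₁ :=
    congrArg (fun W : c.pt.Opens => (W : Set c.pt)) e₁
  obtain ⟨k, φ, a, b, hk⟩ := exists_preimage_eq_diff D c hc i₁ hZ j₁ j₁ U₁ ⊥ hU₁
    (by simp) (by rw [h1]; simp)
  refine ⟨k, φ, ?_⟩
  rw [hk]
  simp only [Opens.coe_bot, Set.preimage_empty, Set.sdiff_empty]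
  exact U₁.2.preimage (D.map a).continuous

include hc in
/-- qcqs stage: local closedness of the preimage of a constructible set descends. -/
theorem exists_isLocallyClosed_preimage_of_qcqs (i₁ : I) [CompactSpace (D.obj i₁)]
    [QuasiSeparatedSpace (D.obj i₁)] (Z₁ : Set (D.obj i₁)) (hZ : IsConstructible Z₁)
    (ho : IsLocallyClosed ((c.π.app i₁) ⁻¹' Z₁)) :
    ∃ (j : I) (φ : j ⟶ i₁), IsLocallyClosed ((D.map φ) ⁻¹' Z₁) := by
  haveI hA' : ∀ {i j : I} (f : i ⟶ j), IsAffineHom (D.map f) := fun f => inferInstance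
  haveI := compactSpace_pt D c hc i₁
  haveI := quasiSeparatedSpace_pt D c hc i₁
  obtain ⟨U, G, hU, hG, hUG⟩ :=
    exists_compact_opens_diff (X := c.pt)
      (Scheme.Hom.isConstructible_preimage (c.π.app i₁) hZ) ho
  obtain ⟨j₁, U₁, hU₁, e₁⟩ := exists_preimage_eq D c hc U hU
  obtain ⟨j₂, G₂, hG₂, e₂⟩ := exists_preimage_eq D c hc G hG
  have h1 : (c.π.app j₁) ⁻¹' (U₁ : Set _) = (U : Set c.pt) :=
    congrArg (fun W : c.pt.Opens => (W : Set c.pt)) e₁
  have h2 : (c.π.app j₂) ⁻¹' (G₂ : Set _) = (G : Set c.pt) :=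
    congrArg (fun W : c.pt.Opens => (W : Set c.pt)) e₂
  obtain ⟨k, φ, a, b, hk⟩ := exists_preimage_eq_diff D c hc i₁ hZ j₁ j₂ U₁ G₂ hU₁ hG₂
    (by rw [h1, h2]; exact hUG)
  refine ⟨k, φ, ?_⟩
  rw [hk, Set.sdiff_eq]
  exact ⟨_, _, U₁.2.preimage (D.map a).continuous,
    (G₂.2.preimage (D.map b).continuous).isClosed_compl, rfl⟩

end Limit

section Reduction

variable {I : Type u} [SmallCategory I] [IsCofiltered I] (D : I ⥤ Scheme.{u}) (c : Cone D)
  (hc : IsLimit c) [hA : ∀ (i j : I) (f : i ⟶ j), IsAffineHom (D.map f)]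

include hc in
/-- Reduction from a quasi-compact stage to affine pieces, for a local property `Q` of subsets. -/
theorem exists_of_compact_stage
    (Q : ∀ (X : Scheme.{u}), Set X → Prop)
    (Q1 : ∀ {X Y : Scheme.{u}} (f : X ⟶ Y) (s : Set Y), Q Y s → Q X (f ⁻¹' s))
    (Q2 : ∀ (X : Scheme.{u}) (s : Set X) (W W' : X.Opens), Q X (s ∩ W) → Q X (s ∩ W') →
      Q X (s ∩ ((W : Set X) ∪ W')))
    (Q3 : ∀ (X : Scheme.{u}) (W : X.Opens) (s : Set W.toScheme), Q W.toScheme s → Q X (W.ι '' s))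
    (Q5 : ∀ (X : Scheme.{u}), Q X ∅)
    (Q4 : ∀ {J : Type u} [SmallCategory J] [IsCofiltered J] (E : J ⥤ Scheme.{u}) (cE : Cone E)
      (_ : IsLimit cE) [∀ (i j : J) (f : i ⟶ j), IsAffineHom (E.map f)] (j₁ : J)
      [CompactSpace (E.obj j₁)] [QuasiSeparatedSpace (E.obj j₁)] (Z₁ : Set (E.obj j₁)),
      IsConstructible Z₁ → Q cE.pt ((cE.π.app j₁) ⁻¹' Z₁) →
      ∃ (j : J) (φ : j ⟶ j₁), Q (E.obj j) ((E.map φ) ⁻¹' Z₁))
    (i₁ : I) [CompactSpace (D.obj i₁)] (Z₁ : Set (D.obj i₁)) (hZ : IsConstructible Z₁)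
    (h : Q c.pt ((c.π.app i₁) ⁻¹' Z₁)) :
    ∃ (j : I) (φ : j ⟶ i₁), Q (D.obj j) ((D.map φ) ⁻¹' Z₁) := by
  haveI hA' : ∀ {i j : I} (f : i ⟶ j), IsAffineHom (D.map f) := fun f => inferInstance
  let P : (D.obj i₁).Opens → Prop := fun W =>
    ∃ (j : I) (φ : j ⟶ i₁), Q (D.obj j) ((D.map φ) ⁻¹' (Z₁ ∩ W))
  have hPaff : ∀ U : (D.obj i₁).affineOpens, P U := by
    intro U
    have hU : IsAffineOpen (U : (D.obj i₁).Opens) := U.2
    haveI : ∀ (j k : Over i₁) (f : j ⟶ k), IsAffineHom ((opensDiagram D i₁ U).map f) :=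
      fun j k f => inferInstance
    haveI : IsAffine ((opensDiagram D i₁ U).obj (Over.mk (𝟙 i₁))) := hU.preimage (D.map _)
    let Z₁' : Set ((opensDiagram D i₁ U).obj (Over.mk (𝟙 i₁))) := (D.map (𝟙 i₁) ⁻¹ᵁ U.1).ι ⁻¹' Z₁
    have hZ₁' : IsConstructible Z₁' := Scheme.Hom.isConstructible_preimage _ hZ
    have hQ : Q (opensCone D c i₁ U).pt (((opensCone D c i₁ U).π.app (Over.mk (𝟙 i₁))) ⁻¹' Z₁') := by
      have e : ((opensCone D c i₁ U).π.app (Over.mk (𝟙 i₁))) ⁻¹' Z₁' =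
          (c.π.app i₁ ⁻¹ᵁ U.1).ι ⁻¹' ((c.π.app i₁) ⁻¹' Z₁) := by
        have h3 : (opensCone D c i₁ U).π.app (Over.mk (𝟙 i₁)) ≫ (D.map (𝟙 i₁) ⁻¹ᵁ U.1).ι =
            (c.π.app i₁ ⁻¹ᵁ U.1).ι ≫ c.π.app i₁ := by
          simp
        have e1 := LimSurjH7.preimage_comp ((opensCone D c i₁ U).π.app (Over.mk (𝟙 i₁)))
          (D.map (𝟙 i₁) ⁻¹ᵁ U.1).ι Z₁
        have e2 := LimSurjH7.preimage_comp (c.π.app i₁ ⁻¹ᵁ U.1).ι (c.π.app i₁) Z₁
        rw [h3] at e1
        exact e1.symm.trans e2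
      rw [e]
      exact Q1 _ _ h
    obtain ⟨j, φ, hj⟩ := Q4 (opensDiagram D i₁ U) (opensCone D c i₁ U)
      (isLimitOpensCone D c hc i₁ U) (Over.mk (𝟙 i₁)) Z₁' hZ₁' hQ
    refine ⟨j.left, j.hom, ?_⟩
    have hj' := Q3 _ (D.map j.hom ⁻¹ᵁ U.1) _ hj
    have hφ : φ.left = j.hom := by simpa using Over.w φ
    have e : (D.map j.hom) ⁻¹' (Z₁ ∩ (U.1 : Set _)) =
        (D.map j.hom ⁻¹ᵁ U.1).ι '' (((opensDiagram D i₁ U).map φ) ⁻¹' Z₁') := by
      have h3 : (opensDiagram D i₁ U).map φ ≫ (D.map (𝟙 i₁) ⁻¹ᵁ U.1).ι =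
          (D.map j.hom ⁻¹ᵁ U.1).ι ≫ D.map j.hom := by
        simp [hφ]
      have e1 := LimSurjH7.preimage_comp ((opensDiagram D i₁ U).map φ)
        (D.map (𝟙 i₁) ⁻¹ᵁ U.1).ι Z₁
      have e2 := LimSurjH7.preimage_comp (D.map j.hom ⁻¹ᵁ U.1).ι (D.map j.hom) Z₁
      rw [h3] at e1
      have e3 : ((opensDiagram D i₁ U).map φ) ⁻¹' Z₁' =
          (D.map j.hom ⁻¹ᵁ U.1).ι ⁻¹' ((D.map j.hom) ⁻¹' Z₁) := e1.symm.trans e2
      rw [e3, Set.image_preimage_eq_inter_range, Scheme.Opens.range_ι, Set.preimage_inter]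
      rfl
    rw [e]
    exact hj'
  have hP : P ⊤ := by
    refine compact_open_induction_on (P := P) ⊤ (by simpa using isCompact_univ) ?_ ?_
    · refine ⟨i₁, 𝟙 _, ?_⟩
      have : (D.map (𝟙 i₁)) ⁻¹' (Z₁ ∩ ((⊥ : (D.obj i₁).Opens) : Set _)) = ∅ := by simp
      rw [this]
      exact Q5 _
    · rintro S - U ⟨j, φ, hj⟩
      obtain ⟨j', φ', hj'⟩ := hPaff U
      obtain ⟨k, a, b, hab⟩ := IsCofiltered.cospan φ φ'
      refine ⟨k, a ≫ φ, ?_⟩
      have e1 : (D.map (a ≫ φ)) ⁻¹' (Z₁ ∩ (S : Set _)) =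
          (D.map a) ⁻¹' ((D.map φ) ⁻¹' (Z₁ ∩ (S : Set _))) := preimage_map_comp D a φ _
      have e2 : (D.map (a ≫ φ)) ⁻¹' (Z₁ ∩ (U.1 : Set _)) =
          (D.map b) ⁻¹' ((D.map φ') ⁻¹' (Z₁ ∩ (U.1 : Set _))) := by
        rw [hab]
        exact preimage_map_comp D b φ' _
      have h1 : Q (D.obj k) ((D.map (a ≫ φ)) ⁻¹' Z₁ ∩ ((D.map (a ≫ φ)) ⁻¹ᵁ S : (D.obj k).Opens)) := by
        have := Q1 (D.map a) _ hj
        rw [← e1] at this
        exact this
      have h2 : Q (D.obj k) ((D.map (a ≫ φ)) ⁻¹' Z₁ ∩ ((D.map (a ≫ φ)) ⁻¹ᵁ U.1 : (D.obj k).Opens)) := by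
        have := Q1 (D.map b) _ hj'
        rw [← e2] at this
        exact this
      exact Q2 _ _ _ _ h1 h2
  obtain ⟨j, φ, hj⟩ := hP
  refine ⟨j, φ, ?_⟩
  have : Z₁ ∩ ((⊤ : (D.obj i₁).Opens) : Set _) = Z₁ := by simp
  rw [this] at hj
  exact hj

include hc in
/-- Compact stage: openness of the preimage of a constructible set descends. -/
theorem exists_isOpen_preimage (i₁ : I) [CompactSpace (D.obj i₁)]
    (Z₁ : Set (D.obj i₁)) (hZ : IsConstructible Z₁)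
    (ho : IsOpen ((c.π.app i₁) ⁻¹' Z₁)) : ∃ (j : I) (φ : j ⟶ i₁), IsOpen ((D.map φ) ⁻¹' Z₁) := by
  refine exists_of_compact_stage D c hc (fun X s => IsOpen s) ?_ ?_ ?_ ?_ ?_ i₁ Z₁ hZ ho
  · intro X Y f s hs
    exact hs.preimage f.continuous
  · intro X s W W' h h'
    rw [Set.inter_union_distrib_left]
    exact h.union h'
  · intro X W s hs
    exact W.ι.isOpenEmbedding.isOpenMap _ hs
  · intro X
    exact isOpen_empty
  · intro J _ _ E cE hcE _ j₁ _ _ Z₁ hZ₁ h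
    exact exists_isOpen_preimage_of_qcqs E cE hcE j₁ Z₁ hZ₁ h

include hc in
/-- Compact stage: local closedness of the preimage of a constructible set descends. -/
theorem exists_isLocallyClosed_preimage (i₁ : I) [CompactSpace (D.obj i₁)]
    (Z₁ : Set (D.obj i₁)) (hZ : IsConstructible Z₁)
    (ho : IsLocallyClosed ((c.π.app i₁) ⁻¹' Z₁)) :
    ∃ (j : I) (φ : j ⟶ i₁), IsLocallyClosed ((D.map φ) ⁻¹' Z₁) := by
  refine exists_of_compact_stage D c hc (fun X s => IsLocallyClosed s) ?_ ?_ ?_ ?_ ?_ i₁ Z₁ hZ ho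
  · intro X Y f s hs
    exact hs.preimage f.continuous
  · intro X s W W' h h'
    exact isLocallyClosed_inter_union s W.2 W'.2 h h'
  · intro X W s hs
    exact hs.image W.ι.isOpenEmbedding.isInducing W.ι.isOpenEmbedding.isOpen_range.isLocallyClosed
  · intro X
    exact isOpen_empty.isLocallyClosed
  · intro J _ _ E cE hcE _ j₁ _ _ Z₁ hZ₁ h
    exact exists_isLocallyClosed_preimage_of_qcqs E cE hcE j₁ Z₁ hZ₁ h

end Reduction

end Groth.Agent.Lib.LimConstr
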