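import Mathlib
import Groth.Agent.Lib.LimConstr_helper9

/-!
# Flatness of the projections of a cofiltered limit with flat affine transition maps (helper9)
-/

set_option autoImplicit false
set_option backward.isDefEq.respectTransparency false
universe u v
open CategoryTheory CategoryTheory.Limits AlgebraicGeometry Topology TopologicalSpace

namespace Groth.Agent.Lib.LimFlat

/-- A ring that is a "directed union of images" of flat algebras is flat (equational criterion). -/
theorem flat_of_stages {R B : Type u} [CommRing R] [CommRing B] (φ : R →+* B)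
    {J : Type v} (Bs : J → Type u) [∀ j, CommRing (Bs j)]
    (φs : ∀ j, R →+* Bs j) (ιs : ∀ j, Bs j →+* B)
    (hφ : ∀ j, (ιs j).comp (φs j) = φ)
    (hflat : ∀ j, (φs j).Flat)
    (hsurj : ∀ b : B, ∃ j, ∃ b' : Bs j, ιs j b' = b)
    (hdir : ∀ j j', ∃ k, ∃ (τ : Bs j →+* Bs k) (τ' : Bs j' →+* Bs k),
      (ιs k).comp τ = ιs j ∧ (ιs k).comp τ' = ιs j')
    (hzero : ∀ j (b : Bs j), ιs j b = 0 → ∃ k, ∃ τ : Bs j →+* Bs k,
      (ιs k).comp τ = ιs j ∧ τ.comp (φs j) = φs k ∧ τ b = 0) :
    φ.Flat := by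
  have hlift : ∀ (l : ℕ) (x : Fin l → B), ∃ j, ∃ x' : Fin l → Bs j, ∀ i, ιs j (x' i) = x i := by
    intro l
    induction l with
    | zero =>
      intro x
      obtain ⟨j, _, _⟩ := hsurj 0
      exact ⟨j, fun i => i.elim0, fun i => i.elim0⟩
    | succ l ih =>
      intro x
      obtain ⟨j₁, x₁, h₁⟩ := ih (fun i => x i.succ)
      obtain ⟨j₂, x₀, h₂⟩ := hsurj (x 0)
      obtain ⟨k, τ, τ', e, e'⟩ := hdir j₁ j₂
      refine ⟨k, Fin.cons (τ' x₀) (fun i => τ (x₁ i)), ?_⟩
      intro i
      refine Fin.cases ?_ (fun i => ?_) i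
      · rw [Fin.cons_zero, ← RingHom.comp_apply, e', h₂]
      · rw [Fin.cons_succ, ← RingHom.comp_apply, e, h₁]
  letI : Algebra R B := φ.toAlgebra
  show Module.Flat R B
  refine Module.Flat.of_forall_isTrivialRelation ?_
  intro l f x hfx
  obtain ⟨j, x', hx'⟩ := hlift l x
  have hb : ιs j (∑ i, φs j (f i) * x' i) = 0 := by
    rw [map_sum, ← hfx]
    refine Finset.sum_congr rfl fun i _ => ?_
    rw [map_mul, hx', ← RingHom.comp_apply, hφ, Algebra.smul_def]
    rfl
  obtain ⟨k, τ, e, eφ, hτ⟩ := hzero j _ hb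
  letI : Algebra R (Bs k) := (φs k).toAlgebra
  haveI : Module.Flat R (Bs k) := hflat k
  have hrel : ∑ i, f i • τ (x' i) = 0 := by
    rw [← hτ, map_sum]
    refine Finset.sum_congr rfl fun i _ => ?_
    rw [map_mul, ← RingHom.comp_apply, eφ, Algebra.smul_def]
    rfl
  obtain ⟨k', a, y, hxy, hfa⟩ := Module.Flat.isTrivialRelation_of_sum_smul_eq_zero
    (R := R) (M := Bs k) (f := f) (x := fun i => τ (x' i)) hrel
  refine ⟨k', a, fun j' => ιs k (y j'), ?_, hfa⟩
  intro i
  have hxy' : τ (x' i) = ∑ j, a i j • y j := hxy i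
  rw [← hx' i, ← e, RingHom.comp_apply, hxy', map_sum]
  refine Finset.sum_congr rfl fun j' _ => ?_
  show ιs k (a i j' • y j') = a i j' • ιs k (y j')
  rw [Algebra.smul_def, Algebra.smul_def, map_mul]
  congr 1
  show ιs k (φs k (a i j')) = φ (a i j')
  rw [← RingHom.comp_apply, hφ]

variable {I : Type u} [SmallCategory I] [IsCofiltered I] (D : I ⥤ Scheme.{u}) (c : Cone D)
  (hc : IsLimit c) [hA : ∀ (i j : I) (f : i ⟶ j), IsAffineHom (D.map f)]

include hc in
/-- S4764. -/
theorem flat_π (i : I) (hf : ∀ (j : I) (φ : j ⟶ i), Flat (D.map φ)) : Flat (c.π.app i) := by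
  haveI hA' : ∀ {i j : I} (f : i ⟶ j), IsAffineHom (D.map f) := fun f => inferInstance
  refine IsZariskiLocalAtSource.of_iSup_eq_top (P := @Flat)
    (fun V : (D.obj i).affineOpens => c.π.app i ⁻¹ᵁ V.1) ?_ ?_
  · rw [← Scheme.Hom.preimage_iSup, iSup_affineOpens_eq_top, Scheme.Hom.preimage_top]
  · intro V
    have hV : IsAffineOpen V.1 := V.2
    haveI : ∀ j, IsAffine ((opensDiagram D i V.1).obj j) := fun j => hV.preimage (D.map _)
    haveI : IsAffine (opensCone D c i V.1).pt :=
      Scheme.isAffine_of_isLimit _ (isLimitOpensCone D c hc i V.1)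
    haveI : IsAffine (((Functor.const (Over i)).obj (opensCone D c i V.1).pt).obj
        (Over.mk (𝟙 i))) := this
    have hflat : ((opensCone D c i V.1).π.app (Over.mk (𝟙 i))).appTop.hom.Flat := by
      refine flat_of_stages _ (J := Over i) (fun j => Γ((opensDiagram D i V.1).obj j, ⊤))
        (fun j => ((opensDiagram D i V.1).map (Over.mkIdTerminal.from j)).appTop.hom)
        (fun j => ((opensCone D c i V.1).π.app j).appTop.hom) ?_ ?_ ?_ ?_ ?_
      · intro j
        rw [← CommRingCat.hom_comp, ← Scheme.Hom.comp_appTop, (opensCone D c i V.1).w]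
      · intro j
        haveI : Flat ((opensDiagram D i V.1).map (Over.mkIdTerminal.from j)) := by
          haveI := hf j.left (Over.mkIdTerminal.from j).left
          rw [opensDiagram_map]
          infer_instance
        exact (HasRingHomProperty.iff_of_isAffine (P := @Flat)).mp inferInstance
      · intro b
        obtain ⟨j, t, ht⟩ := exists_appTop_π_eq_of_isAffine_of_isLimit (opensDiagram D i V.1)
          (opensCone D c i V.1) (isLimitOpensCone D c hc i V.1) b
        exact ⟨j, t, ht⟩
      · intro j j'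
        refine ⟨IsCofiltered.min j j',
          ((opensDiagram D i V.1).map (IsCofiltered.minToLeft j j')).appTop.hom,
          ((opensDiagram D i V.1).map (IsCofiltered.minToRight j j')).appTop.hom, ?_, ?_⟩
        · rw [← CommRingCat.hom_comp, ← Scheme.Hom.comp_appTop, (opensCone D c i V.1).w]
        · rw [← CommRingCat.hom_comp, ← Scheme.Hom.comp_appTop, (opensCone D c i V.1).w]
      · intro j b hb
        obtain ⟨k, f, hk⟩ := exists_appTop_map_eq_zero_of_isAffine_of_isLimit
          (opensDiagram D i V.1) (opensCone D c i V.1) (isLimitOpensCone D c hc i V.1) j b hb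
        refine ⟨k, ((opensDiagram D i V.1).map f).appTop.hom, ?_, ?_, hk⟩
        · rw [← CommRingCat.hom_comp, ← Scheme.Hom.comp_appTop, (opensCone D c i V.1).w]
        · rw [← CommRingCat.hom_comp, ← Scheme.Hom.comp_appTop, ← (opensDiagram D i V.1).map_comp,
            Over.mkIdTerminal.hom_ext (f ≫ Over.mkIdTerminal.from j) (Over.mkIdTerminal.from k)]
    haveI : Flat ((opensCone D c i V.1).π.app (Over.mk (𝟙 i))) :=
      (HasRingHomProperty.iff_of_isAffine (P := @Flat)).mpr hflat
    have h3 : (opensCone D c i V.1).π.app (Over.mk (𝟙 i)) ≫ (D.map (𝟙 i) ⁻¹ᵁ V.1).ι =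
        (c.π.app i ⁻¹ᵁ V.1).ι ≫ c.π.app i := by
      simp
    rw [← h3]
    infer_instance

end Groth.Agent.Lib.LimFlat
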