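import Mathlib
import Groth.Prelude
import Groth.Agent.Lib.Depth_helper5

/-!
# Schematically dense opens and associated points (helper5)
-/

universe u

open CategoryTheory IsLocalRing AlgebraicGeometry TopologicalSpace

namespace Groth.Agent.SchDense

open Groth.Agent.DepthLib

variable {X : Scheme.{u}} [IsLocallyNoetherian X]

/-- associated points of the structure sheaf in an affine open are the associated primes -/
theorem isAss_stalk_iff {W : X.Opens} (hW : IsAffineOpen W) {y : X} (hy : y ∈ W) :
    IsAssociatedPrime (maximalIdeal (X.presheaf.stalk y)) (X.presheaf.stalk y) ↔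
      (hW.primeIdealOf ⟨y, hy⟩).asIdeal ∈ associatedPrimes Γ(X, W) Γ(X, W) := by
  set p := (hW.primeIdealOf ⟨y, hy⟩).asIdeal with hp
  letI := TopCat.Presheaf.algebra_section_stalk X.presheaf (⟨y, hy⟩ : W)
  haveI : IsLocalization.AtPrime (X.presheaf.stalk y) p := hW.isLocalization_stalk ⟨y, hy⟩
  haveI : IsNoetherianRing Γ(X, W) := IsLocallyNoetherian.component_noetherian ⟨W, hW⟩
  haveI : IsLocalizedModule p.primeCompl (Algebra.linearMap Γ(X, W) (X.presheaf.stalk y)) :=
    inferInstance
  have h := Module.associatedPrimes.preimage_comap_associatedPrimes_eq_associatedPrimes_of_isLocalizedModule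
    (S := p.primeCompl) (R' := X.presheaf.stalk y)
    (f := Algebra.linearMap Γ(X, W) (X.presheaf.stalk y))
  have hcomap : (maximalIdeal (X.presheaf.stalk y)).comap
      (algebraMap Γ(X, W) (X.presheaf.stalk y)) = p := by
    rw [hp, hW.primeIdealOf_eq_map_closedPoint]
    rfl
  change maximalIdeal (X.presheaf.stalk y) ∈
    associatedPrimes (X.presheaf.stalk y) (X.presheaf.stalk y) ↔ _
  rw [← h, Set.mem_preimage, hcomap]

/-- an open is schematically dense iff it contains all associated points -/
theorem main (X : Scheme.{u}) [IsLocallyNoetherian X] (U : X.Opens) :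
    CInt.IsSchematicallyDense U ↔
      ∀ x : ↥X, IsAssociatedPrime (maximalIdeal (X.presheaf.stalk x)) (X.presheaf.stalk x) →
        x ∈ U := by
  constructor
  · intro hd x hx
    by_contra hxU
    obtain ⟨_, ⟨W, hW : IsAffineOpen W, rfl⟩, hxW, -⟩ :=
      (X.isBasis_affineOpens).exists_subset_of_mem_open (Set.mem_univ x) isOpen_univ
    have hxW' : x ∈ W := hxW
    haveI : IsNoetherianRing Γ(X, W) := IsLocallyNoetherian.component_noetherian ⟨W, hW⟩
    have hp := (isAss_stalk_iff hW hxW').mp hx
    obtain ⟨hprime, a, ha⟩ := isAssociatedPrime_iff.1 hp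
    have hane : a ≠ 0 := by
      rintro rfl
      apply hprime.ne_top
      rw [ha]
      ext r
      simp [Submodule.mem_colon_singleton]
    have hres : X.presheaf.map (homOfLE (inf_le_left : W ⊓ U ≤ W)).op a = 0 := by
      apply TopCat.Presheaf.section_ext X.sheaf (W ⊓ U)
      intro y hy
      have hyW : y ∈ W := hy.1
      have hyU : y ∈ U := hy.2
      have e0 : X.presheaf.germ (W ⊓ U) y hy
          (X.presheaf.map (homOfLE (inf_le_left : W ⊓ U ≤ W)).op a) =
          X.presheaf.germ W y hyW a :=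
        TopCat.Presheaf.germ_res_apply X.presheaf (homOfLE (inf_le_left : W ⊓ U ≤ W)) y hy a
      change X.presheaf.germ (W ⊓ U) y hy _ = X.presheaf.germ (W ⊓ U) y hy 0
      rw [e0, map_zero]
      have hnle : ¬ (hW.primeIdealOf ⟨x, hxW'⟩) ≤ (hW.primeIdealOf ⟨y, hyW⟩) := by
        intro hle
        have h1 := (PrimeSpectrum.le_iff_specializes _ _).mp hle
        have h2 := h1.map hW.fromSpec.continuous
        rw [hW.fromSpec_primeIdealOf, hW.fromSpec_primeIdealOf] at h2
        exact hxU (h2.mem_open U.isOpen hyU)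
      have hnle' : ¬ (hW.primeIdealOf ⟨x, hxW'⟩).asIdeal ≤ (hW.primeIdealOf ⟨y, hyW⟩).asIdeal :=
        hnle
      obtain ⟨t, htp, htq⟩ := SetLike.not_le_iff_exists.mp hnle'
      have hta : t * a = 0 := by
        have h3 : t ∈ (⊥ : Submodule Γ(X, W) Γ(X, W)).colon {a} := ha ▸ htp
        rw [Submodule.mem_colon_singleton, Submodule.mem_bot] at h3
        exact h3
      letI := TopCat.Presheaf.algebra_section_stalk X.presheaf (⟨y, hyW⟩ : W)
      haveI : IsLocalization.AtPrime (X.presheaf.stalk y)
          (hW.primeIdealOf ⟨y, hyW⟩).asIdeal := hW.isLocalization_stalk ⟨y, hyW⟩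
      have hu : IsUnit ((X.presheaf.germ W y hyW).hom t) :=
        IsLocalization.map_units (X.presheaf.stalk y)
          (⟨t, htq⟩ : (hW.primeIdealOf ⟨y, hyW⟩).asIdeal.primeCompl)
      have h4 : (X.presheaf.germ W y hyW).hom t * (X.presheaf.germ W y hyW).hom a = 0 := by
        rw [← map_mul, hta, map_zero]
      exact hu.mul_right_eq_zero.mp h4
    have h5 := hd W (by rw [hres, map_zero] :
      X.presheaf.map (homOfLE (inf_le_left : W ⊓ U ≤ W)).op a =
        X.presheaf.map (homOfLE (inf_le_left : W ⊓ U ≤ W)).op 0)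
    exact hane h5
  · intro h V
    refine (injective_iff_map_eq_zero _).mpr ?_
    intro s hs
    apply TopCat.Presheaf.section_ext X.sheaf V
    intro x hxV
    change X.presheaf.germ V x hxV s = X.presheaf.germ V x hxV 0
    rw [map_zero]
    by_contra hne
    obtain ⟨_, ⟨W, hW : IsAffineOpen W, rfl⟩, hxW, hWV⟩ :=
      (X.isBasis_affineOpens).exists_subset_of_mem_open hxV V.isOpen
    have hWV' : W ≤ V := hWV
    have hxW' : x ∈ W := hxW
    set a := X.presheaf.map (homOfLE hWV').op s with ha
    have hga : X.presheaf.germ W x hxW' a = X.presheaf.germ V x hxV s :=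
      TopCat.Presheaf.germ_res_apply X.presheaf (homOfLE hWV') x hxW' s
    have hane : a ≠ 0 := by
      intro h0
      apply hne
      rw [← hga, h0, map_zero]
    haveI : IsNoetherianRing Γ(X, W) := IsLocallyNoetherian.component_noetherian ⟨W, hW⟩
    obtain ⟨P, hPass, hPle⟩ := exists_le_isAssociatedPrime_of_isNoetherianRing Γ(X, W) a hane
    set Pp : PrimeSpectrum Γ(X, W) := ⟨P, hPass.isPrime⟩ with hPp
    have hyW : hW.fromSpec Pp ∈ W := by
      have h' : hW.fromSpec Pp ∈ hW.fromSpec.opensRange := ⟨Pp, rfl⟩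
      rwa [hW.opensRange_fromSpec] at h'
    have hPy : hW.primeIdealOf ⟨hW.fromSpec Pp, hyW⟩ = Pp :=
      hW.fromSpec.isOpenEmbedding.injective (hW.fromSpec_primeIdealOf ⟨_, hyW⟩)
    have hyass := (isAss_stalk_iff hW hyW).mpr (by rw [hPy]; exact hPass)
    have hyU := h _ hyass
    have hyV : hW.fromSpec Pp ∈ V := hWV' hyW
    have hy0 : X.presheaf.germ W (hW.fromSpec Pp) hyW a = 0 := by
      have e1 : X.presheaf.germ W (hW.fromSpec Pp) hyW a =
          X.presheaf.germ V (hW.fromSpec Pp) hyV s :=
        TopCat.Presheaf.germ_res_apply X.presheaf (homOfLE hWV') _ hyW s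
      have e2 : X.presheaf.germ (V ⊓ U) (hW.fromSpec Pp) ⟨hyV, hyU⟩
          (X.presheaf.map (homOfLE (inf_le_left : V ⊓ U ≤ V)).op s) =
          X.presheaf.germ V (hW.fromSpec Pp) hyV s :=
        TopCat.Presheaf.germ_res_apply X.presheaf (homOfLE (inf_le_left : V ⊓ U ≤ V)) _
          ⟨hyV, hyU⟩ s
      rw [e1, ← e2, hs, map_zero]
    letI := TopCat.Presheaf.algebra_section_stalk X.presheaf (⟨hW.fromSpec Pp, hyW⟩ : W)
    haveI : IsLocalization.AtPrime (X.presheaf.stalk (hW.fromSpec Pp))
        (hW.primeIdealOf ⟨hW.fromSpec Pp, hyW⟩).asIdeal := hW.isLocalization_stalk ⟨_, hyW⟩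
    have h1 : algebraMap Γ(X, W) (X.presheaf.stalk (hW.fromSpec Pp)) a = 0 := hy0
    rw [IsLocalization.map_eq_zero_iff
      (hW.primeIdealOf ⟨hW.fromSpec Pp, hyW⟩).asIdeal.primeCompl] at h1
    obtain ⟨t, ht⟩ := h1
    have htP : (t : Γ(X, W)) ∈ P := hPle (by
      rw [Submodule.mem_colon_singleton, Submodule.mem_bot]
      exact ht)
    have hmem : ∀ z : Γ(X, W), z ∈ P →
        z ∈ (hW.primeIdealOf ⟨hW.fromSpec Pp, hyW⟩).asIdeal := by
      intro z hz
      rw [hPy]
      exact hz
    exact t.2 (hmem _ htP)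

/-- depth at least one means the maximal ideal is not associated -/
theorem one_le_depth_iff (R : Type u) [CommRing R] [IsLocalRing R] [IsNoetherianRing R] :
    (1 : ℕ∞) ≤ LocCoh.depth R R ↔ ¬ IsAssociatedPrime (maximalIdeal R) R := by
  unfold LocCoh.depth
  constructor
  · intro h hass
    exact not_one_le_idealDepth_of_le_associatedPrime (maximalIdeal R) R _ hass le_rfl h
  · intro h
    by_contra hd
    obtain ⟨q, hq, hmq⟩ := exists_associatedPrime_of_not_one_le (maximalIdeal R) R hd
    have hqe : maximalIdeal R = q := (maximalIdeal.isMaximal R).eq_of_le hq.isPrime.ne_top hmq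
    exact h (hqe ▸ hq)

end Groth.Agent.SchDense
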