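import Mathlib
import Groth.Prelude
import Groth.Agent.Lib.SchDense_helper5
import Groth.Agent.Lib.Hartogs_helper5
import Groth.Agent.Lib.FLF1_helper8
import Groth.Agent.Lib.StalkLoc_helper8

/-!
# Schematically dense opens: nonzerodivisors and flat pullback (helper5)
-/

universe u

open CategoryTheory IsLocalRing AlgebraicGeometry TopologicalSpace Opposite

namespace Groth.Agent.SchDenseFlat

/-- in a Noetherian ring, an ideal contained in no associated prime contains a nonzerodivisor -/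
theorem exists_nzd {A : Type u} [CommRing A] [IsNoetherianRing A] (I : Ideal A)
    (h : ∀ P ∈ associatedPrimes A A, ¬ I ≤ P) : ∃ t ∈ I, t ∈ nonZeroDivisors A := by
  by_contra hno
  push Not at hno
  have hdisj : Disjoint (I : Set A) (nonZeroDivisors A) :=
    Set.disjoint_left.mpr (fun t ht => hno t ht)
  obtain ⟨P, hP, hIP⟩ : ∃ P ∈ associatedPrimes A A, I ≤ P :=
    (I.subset_union_prime_finite (associatedPrimes.finite ..) (f := id) 0 0
      fun _ h _ _ ↦ h.1).1 <|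
    biUnion_associatedPrimes_eq_compl_nonZeroDivisors A ▸ hdisj.subset_compl_right
  exact h P hP hIP

theorem res_res (X : Scheme.{u}) {U₁ U₂ U₃ : X.Opens} (h₁₂ : U₁ ≤ U₂) (h₂₃ : U₂ ≤ U₃)
    (s : Γ(X, U₃)) :
    X.presheaf.map (homOfLE h₁₂).op (X.presheaf.map (homOfLE h₂₃).op s) =
      X.presheaf.map (homOfLE (h₁₂.trans h₂₃)).op s := by
  rw [← ConcreteCategory.comp_apply, ← Functor.map_comp]
  rfl

section

variable {X : Scheme.{u}} [IsLocallyNoetherian X]

/-- a schematically dense open contains, in every affine open, the basic open of a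
nonzerodivisor -/
theorem exists_basicOpen_le (V : X.Opens) (hV : CInt.IsSchematicallyDense V) {W : X.Opens}
    (hW : IsAffineOpen W) :
    ∃ t : Γ(X, W), t ∈ nonZeroDivisors Γ(X, W) ∧ X.basicOpen t ≤ V := by
  haveI : IsNoetherianRing Γ(X, W) := IsLocallyNoetherian.component_noetherian ⟨W, hW⟩
  have hass := (Groth.Agent.SchDense.main X V).mp hV
  let S : Set (PrimeSpectrum Γ(X, W)) :=
    {p | ∃ (y : X) (hy : y ∈ W), y ∉ V ∧ hW.primeIdealOf ⟨y, hy⟩ = p}
  have hI : ∀ a ∈ PrimeSpectrum.vanishingIdeal S, X.basicOpen a ≤ V := by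
    intro a ha y hya
    by_contra hyV
    have hy : y ∈ W := X.basicOpen_le a hya
    have h1 := (PrimeSpectrum.mem_vanishingIdeal _ _).mp ha _ ⟨y, hy, hyV, rfl⟩
    exact (StalkLocH8.notMem_prime_of_mem_basicOpen hW hy hya) h1
  obtain ⟨t, htI, ht⟩ := exists_nzd (PrimeSpectrum.vanishingIdeal S) (by
    intro P hP hle
    haveI : P.IsPrime := hP.isPrime
    obtain ⟨y, hy, hPy⟩ := Groth.Agent.Hartogs.exists_point hW P
    have hyass : IsAssociatedPrime (maximalIdeal (X.presheaf.stalk y)) (X.presheaf.stalk y) :=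
      (Groth.Agent.SchDense.isAss_stalk_iff hW hy).mpr (by rw [hPy]; exact hP)
    have hyV : y ∈ V := hass y hyass
    obtain ⟨b, hbV, hyb⟩ := hW.exists_basicOpen_le (V := V) ⟨y, hyV⟩ hy
    have hbI : b ∈ PrimeSpectrum.vanishingIdeal S := by
      rw [PrimeSpectrum.mem_vanishingIdeal]
      rintro p ⟨z, hz, hzV, rfl⟩
      by_contra hbp
      exact hzV (hbV (FLFH8.mem_basicOpen_of_notMem_prime hW hz hbp))
    have hbP : b ∈ P := hle hbI
    rw [← hPy] at hbP
    exact (StalkLocH8.notMem_prime_of_mem_basicOpen hW hy hyb) hbP)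
  exact ⟨t, ht, hI t htI⟩

end

theorem main {X X' : Scheme.{u}} (f : X' ⟶ X) [Flat f] [IsLocallyNoetherian X] (V : X.Opens)
    (hV : CInt.IsSchematicallyDense V) : CInt.IsSchematicallyDense (f ⁻¹ᵁ V) := by
  intro V'
  rw [injective_iff_map_eq_zero]
  intro s hs
  have key : ∀ x' : X', x' ∈ V' → ∃ O' : X'.Opens, x' ∈ O' ∧ ∃ h : O' ≤ V',
      X'.presheaf.map (homOfLE h).op s = 0 := by
    intro x' hx'
    obtain ⟨_, ⟨W, hW : IsAffineOpen W, rfl⟩, hxW, -⟩ :=
      (X.isBasis_affineOpens).exists_subset_of_mem_open (Set.mem_univ (f x')) isOpen_univ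
    have hx'W : x' ∈ V' ⊓ f ⁻¹ᵁ W := ⟨hx', hxW⟩
    obtain ⟨_, ⟨O', hO' : IsAffineOpen O', rfl⟩, hx'O', hO'le⟩ :=
      (X'.isBasis_affineOpens).exists_subset_of_mem_open hx'W (V' ⊓ f ⁻¹ᵁ W).isOpen
    have hO'V' : O' ≤ V' := fun z hz => (hO'le hz).1
    have e : O' ≤ f ⁻¹ᵁ W := fun z hz => (hO'le hz).2
    refine ⟨O', hx'O', hO'V', ?_⟩
    obtain ⟨t, ht, htV⟩ := exists_basicOpen_le V hV hW
    letI : Algebra Γ(X, W) Γ(X', O') := (f.appLE W O' e).hom.toAlgebra
    haveI : Module.Flat Γ(X, W) Γ(X', O') :=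
      HasRingHomProperty.appLE (P := @Flat) f inferInstance ⟨W, hW⟩ ⟨O', hO'⟩ e
    have reg : IsSMulRegular Γ(X, W) t := by
      intro a b hab
      have hab' : t * a = t * b := hab
      have h1 : t * (a - b) = 0 := by rw [mul_sub]; exact sub_eq_zero.mpr hab'
      exact sub_eq_zero.mp ((mul_left_mem_nonZeroDivisors_eq_zero_iff ht).mp h1)
    have reg' : IsSMulRegular Γ(X', O') (algebraMap Γ(X, W) Γ(X', O') t) := reg.of_flat
    have hbo : X'.basicOpen (algebraMap Γ(X, W) Γ(X', O') t) ≤ V' ⊓ f ⁻¹ᵁ V := by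
      have h1 : X'.basicOpen (f.appLE W O' e t) = O' ⊓ f ⁻¹ᵁ (X.basicOpen t) :=
        Scheme.basicOpen_appLE f O' W e t
      intro z hz
      have hz' : z ∈ O' ⊓ f ⁻¹ᵁ (X.basicOpen t) := h1 ▸ hz
      exact ⟨hO'V' hz'.1, htV hz'.2⟩
    have H : X'.presheaf.map (homOfLE (X'.basicOpen_le
        (algebraMap Γ(X, W) Γ(X', O') t))).op (X'.presheaf.map (homOfLE hO'V').op s) = 0 := by
      rw [res_res]
      have h2 := res_res X' hbo (inf_le_left : V' ⊓ f ⁻¹ᵁ V ≤ V') s
      rw [hs, map_zero] at h2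
      exact h2.symm
    obtain ⟨n, hn⟩ := exists_pow_mul_eq_zero_of_res_basicOpen_eq_zero_of_isAffineOpen X' hO'
      (X'.presheaf.map (homOfLE hO'V').op s) (algebraMap Γ(X, W) Γ(X', O') t) H
    have reg'' := reg'.pow n
    exact reg'' (show (algebraMap Γ(X, W) Γ(X', O') t) ^ n • _ =
      (algebraMap Γ(X, W) Γ(X', O') t) ^ n • (0 : Γ(X', O')) by
        rw [smul_eq_mul, smul_eq_mul, hn, mul_zero])
  choose O hxO hOV hOs using key
  apply X'.sheaf.eq_of_locally_eq' (fun x' : V' => O x'.1 x'.2) V'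
    (fun x' => homOfLE (hOV x'.1 x'.2))
  · intro z hz
    exact Opens.mem_iSup.mpr ⟨⟨z, hz⟩, hxO z hz⟩
  · intro x'
    exact (hOs x'.1 x'.2).trans (map_zero _).symm

end Groth.Agent.SchDenseFlat
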