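import Groth.Agent.Lib.AlgSpQC2_helper7
import Groth.Prelude.Def_AlgSpCov
import Mathlib.AlgebraicGeometry.Morphisms.Flat
import Mathlib.AlgebraicGeometry.Limits

set_option autoImplicit false
universe u
open CategoryTheory CategoryTheory.Limits AlgebraicGeometry Opposite

namespace Groth.Agent.Lib.AlgSpFpqc_helper7

open AlgSp Groth.Agent.Lib.AlgSpPoints_helper7 Groth.Agent.Lib.AlgSpQC_helper7
  Groth.Agent.Lib.AlgSpUniv_helper7 Groth.Agent.Lib.AlgSpTop_helper7
  Groth.Agent.Lib.AlgSpPullback_helper7 Groth.Agent.Lib.AlgSpQC2_helper7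

/-- A finite jointly surjective family of flat morphisms from affine schemes to an affine scheme
is submersive: a subset is open as soon as all its preimages are. -/
theorem isOpen_of_forall_preimage_of_flat_cover {Z : Scheme.{u}} [IsAffine Z] {m : ℕ}
    (W : Fin m → Scheme.{u}) (c : ∀ j, W j ⟶ Z) [∀ j, IsAffine (W j)] [∀ j, Flat (c j)]
    (hs : ∀ z : Z, ∃ j, z ∈ Set.range (c j)) (A : Set Z) (h : ∀ j, IsOpen ((c j) ⁻¹' A)) :
    IsOpen A := by
  let σ : ∐ W ⟶ Z := Sigma.desc c
  have hσs : Surjective σ := by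
    refine ⟨fun z => ?_⟩
    obtain ⟨j, w, rfl⟩ := hs z
    refine ⟨Sigma.ι W j w, ?_⟩
    rw [← Scheme.Hom.comp_apply, Sigma.ι_desc]
  have hqc : QuasiCompact σ := inferInstance
  have hq := Flat.isQuotientMap_of_surjective σ
  rw [← hq.isOpen_preimage]
  have : σ ⁻¹' A = ⋃ j, Sigma.ι W j '' ((c j) ⁻¹' A) := by
    ext x
    obtain ⟨j, w, rfl⟩ := (AlgebraicGeometry.sigmaOpenCover W).exists_eq x
    simp only [Set.mem_preimage, Set.mem_iUnion, Set.mem_image]
    constructor
    · intro hx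
      refine ⟨j, w, ?_, rfl⟩
      have : σ (Sigma.ι W j w) = c j w := by
        rw [← Scheme.Hom.comp_apply, Sigma.ι_desc]
      rwa [← this]
    · rintro ⟨j', w', hw', e⟩
      have : σ (Sigma.ι W j' w') = c j' w' := by
        rw [← Scheme.Hom.comp_apply, Sigma.ι_desc]
      change σ ((AlgebraicGeometry.sigmaOpenCover W).f j w) ∈ A
      change Sigma.ι W j' w' = (AlgebraicGeometry.sigmaOpenCover W).f j w at e
      rw [← e, this]
      exact hw'
  rw [this]
  exact isOpen_iUnion fun j => (Sigma.ι W j).isOpenEmbedding.isOpenMap _ (h j)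

variable {S : Scheme.{u}}

/-- A jointly surjective family of morphisms of sheaves along which openness of subsets of
points can be tested. -/
structure SubmersiveFamily {Z : Sp S} {ι : Type*} (R : ι → Sp S) (r : ∀ i, R i ⟶ Z) : Prop where
  surj : ∀ z : Points Z, ∃ i, z ∈ Set.range (Points.map (r i))
  isOpen : ∀ A : Set (Points Z), (∀ i, IsOpen (Points.map (r i) ⁻¹' A)) → IsOpen A

theorem SubmersiveFamily.isClosed {Z : Sp S} {ι : Type*} {R : ι → Sp S} {r : ∀ i, R i ⟶ Z}
    (h : SubmersiveFamily R r) (A : Set (Points Z))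
    (hA : ∀ i, IsClosed (Points.map (r i) ⁻¹' A)) : IsClosed A := by
  rw [← isOpen_compl_iff]
  apply h.isOpen
  intro i
  rw [Set.preimage_compl, isOpen_compl_iff]
  exact hA i

section Descent

variable {Z' Z : Sp S} (q : Z' ⟶ Z) {ι : Type*} {R : ι → Sp S} {r : ∀ i, R i ⟶ Z}
  (hr : SubmersiveFamily R r)

include hr

theorem isOpenMap_of_submersiveFamily
    (h : ∀ i, ∃ (P : Sp S) (fst : P ⟶ Z') (snd : P ⟶ R i), IsPullback fst snd q (r i) ∧
      IsOpenMap (Points.map snd)) : IsOpenMap (Points.map q) := by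
  intro O hO
  apply hr.isOpen
  intro i
  obtain ⟨P, fst, snd, sq, ho⟩ := h i
  rw [preimage_map_image_map sq]
  exact ho _ (hO.preimage (Points.continuous_map fst))

theorem isClosedMap_of_submersiveFamily
    (h : ∀ i, ∃ (P : Sp S) (fst : P ⟶ Z') (snd : P ⟶ R i), IsPullback fst snd q (r i) ∧
      IsClosedMap (Points.map snd)) : IsClosedMap (Points.map q) := by
  intro O hO
  apply hr.isClosed
  intro i
  obtain ⟨P, fst, snd, sq, ho⟩ := h i
  rw [preimage_map_image_map sq]
  exact ho _ (hO.preimage (Points.continuous_map fst))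

theorem injective_of_submersiveFamily
    (h : ∀ i, ∃ (P : Sp S) (fst : P ⟶ Z') (snd : P ⟶ R i), IsPullback fst snd q (r i) ∧
      Function.Injective (Points.map snd)) : Function.Injective (Points.map q) := by
  intro x₁ x₂ hx
  obtain ⟨i, t, ht⟩ := hr.surj (Points.map q x₁)
  obtain ⟨P, fst, snd, sq, hi⟩ := h i
  obtain ⟨w₁, hw₁, hw₁'⟩ := exists_of_isPullback sq x₁ t ht.symm
  obtain ⟨w₂, hw₂, hw₂'⟩ := exists_of_isPullback sq x₂ t (hx ▸ ht.symm)
  have : w₁ = w₂ := hi (hw₁'.trans hw₂'.symm)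
  rw [← hw₁, ← hw₂, this]

theorem surjective_of_submersiveFamily
    (h : ∀ i, ∃ (P : Sp S) (fst : P ⟶ Z') (snd : P ⟶ R i), IsPullback fst snd q (r i) ∧
      Function.Surjective (Points.map snd)) : Function.Surjective (Points.map q) := by
  intro z
  obtain ⟨i, t, rfl⟩ := hr.surj z
  obtain ⟨P, fst, snd, sq, hs⟩ := h i
  obtain ⟨w, rfl⟩ := hs t
  exact ⟨Points.map fst w, by rw [← Points.map_comp, sq.w, Points.map_comp]⟩

theorem isQuotientMap_of_submersiveFamily
    (h : ∀ i, ∃ (P : Sp S) (fst : P ⟶ Z') (snd : P ⟶ R i), IsPullback fst snd q (r i) ∧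
      Topology.IsQuotientMap (Points.map snd)) : Topology.IsQuotientMap (Points.map q) := by
  have hsurj : Function.Surjective (Points.map q) :=
    surjective_of_submersiveFamily q hr fun i => by
      obtain ⟨P, fst, snd, sq, hq⟩ := h i
      exact ⟨P, fst, snd, sq, hq.surjective⟩
  refine ⟨Topology.isCoinducing_iff.2 fun A =>
    ⟨fun hA => ?_, fun hA => hA.preimage (Points.continuous_map q)⟩, hsurj⟩
  apply hr.isOpen
  intro i
  obtain ⟨P, fst, snd, sq, hq⟩ := h i
  rw [← hq.isOpen_preimage]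
  have : Points.map snd ⁻¹' (Points.map (r i) ⁻¹' A) = Points.map fst ⁻¹' (Points.map q ⁻¹' A) := by
    ext w
    simp only [Set.mem_preimage]
    rw [← Points.map_comp, ← Points.map_comp, sq.w]
  rw [this]
  exact hA.preimage (Points.continuous_map fst)

theorem isHomeomorph_of_submersiveFamily
    (h : ∀ i, ∃ (P : Sp S) (fst : P ⟶ Z') (snd : P ⟶ R i), IsPullback fst snd q (r i) ∧
      IsHomeomorph (Points.map snd)) : IsHomeomorph (Points.map q) := by
  refine ⟨Points.continuous_map q, ?_, ?_, ?_⟩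
  · exact isOpenMap_of_submersiveFamily q hr fun i => by
      obtain ⟨P, fst, snd, sq, hq⟩ := h i
      exact ⟨P, fst, snd, sq, hq.isOpenMap⟩
  · exact injective_of_submersiveFamily q hr fun i => by
      obtain ⟨P, fst, snd, sq, hq⟩ := h i
      exact ⟨P, fst, snd, sq, hq.injective⟩
  · exact surjective_of_submersiveFamily q hr fun i => by
      obtain ⟨P, fst, snd, sq, hq⟩ := h i
      exact ⟨P, fst, snd, sq, hq.surjective⟩

end Descent

/-- Jointly surjective étale charts form a submersive family. -/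
theorem submersiveFamily_of_charts {Z : Sp S} {ι : Type*} (T : ι → Over S)
    (r : ∀ i, (yon S).obj (T i) ⟶ Z) (hr : ∀ i, RepWith @Etale (r i))
    (hs : ∀ z : Points Z, ∃ (i : ι) (t : ↥(T i).left), Points.ofPt (r i) t = z) :
    SubmersiveFamily (fun i => (yon S).obj (T i)) r where
  surj z := by
    obtain ⟨i, t, rfl⟩ := hs z
    exact ⟨i, Points.ofScheme _ t, (Points.ofPt_eq_map_ofScheme _ _).symm⟩
  isOpen A hA := by
    apply isOpen_of_forall_chart T r hr hs
    intro i
    rw [ofPt_preimage_eq]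
    exact (hA i).preimage (continuous_ofScheme _)

/-- A standard fpqc covering of an affine scheme gives a submersive family. -/
theorem submersiveFamily_of_flat_cover {Z : Over S} (hZ : IsAffine Z.left) {m : ℕ}
    (W : Fin m → Over S) (c : ∀ j, W j ⟶ Z) (hW : ∀ j, IsAffine (W j).left)
    (hc : ∀ j, Flat (c j).left) (hs : ∀ z : ↥Z.left, ∃ j, z ∈ Set.range (c j).left) :
    SubmersiveFamily (fun j => (yon S).obj (W j)) (fun j => (yon S).map (c j)) where
  surj z := by
    obtain ⟨z₀, rfl⟩ := (Points.schemeHomeo Z).surjective z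
    obtain ⟨j, w, rfl⟩ := hs z₀
    exact ⟨j, Points.schemeHomeo (W j) w, Points.map_yon_map_apply (c j) w⟩
  isOpen A hA := by
    rw [← (Points.schemeHomeo Z).isOpen_preimage]
    refine isOpen_of_forall_preimage_of_flat_cover (fun j => (W j).left) (fun j => (c j).left)
      hs _ fun j => ?_
    have : (c j).left ⁻¹' (Points.schemeHomeo Z ⁻¹' A) =
        Points.schemeHomeo (W j) ⁻¹' (Points.map ((yon S).map (c j)) ⁻¹' A) := by
      ext w
      simp only [Set.mem_preimage]
      rw [Points.map_yon_map_apply]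
    rw [this]
    exact (hA j).preimage (Points.schemeHomeo (W j)).continuous

/-- `UnivSp T` is stable under base change. -/
theorem univSp_of_isPullback (T : MorphismProperty (Sp S)) {P X Y Z : Sp S} {fst : P ⟶ X}
    {snd : P ⟶ Z} {f : X ⟶ Y} {g : Z ⟶ Y} (sq : IsPullback fst snd f g) (hf : UnivSp T f) :
    UnivSp T snd := by
  intro Z₁ Z' hZ g' fst' snd' sq'
  exact hf hZ (g' ≫ g) (fst' ≫ fst) snd' (sq'.paste_horiz sq)

/-- Universal topological properties descending along submersive families are fpqc local on the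
base. -/
theorem univSp_isLocalOnBase_fpqc (T : MorphismProperty (Sp S))
    (hT₁ : ∀ {Z' Z : Sp S} (q : Z' ⟶ Z) {ι : Type u} {R : ι → Sp S} {r : ∀ i, R i ⟶ Z},
      SubmersiveFamily R r → (∀ i, ∃ (P : Sp S) (fst : P ⟶ Z') (snd : P ⟶ R i),
        IsPullback fst snd q (r i) ∧ T snd) → T q)
    (hT₂ : ∀ {Z' Z : Sp S} (q : Z' ⟶ Z) {m : ℕ} {R : Fin m → Sp S} {r : ∀ i, R i ⟶ Z},
      SubmersiveFamily R r → (∀ i, ∃ (P : Sp S) (fst : P ⟶ Z') (snd : P ⟶ R i),
        IsPullback fst snd q (r i) ∧ T snd) → T q) :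
    IsLocalOnBase (IsFpqcCover (S := S)) (UnivSp T) := by
  intro ι Y Yi g hY hYi hcov X f hX Xi p q hXi sqs
  constructor
  · intro hf i
    exact univSp_of_isPullback T (sqs i) hf
  · intro hp Z Z' hZ g' fst snd sq
    obtain ⟨κ, T', r, hT'aff, hr, hs⟩ := exists_affine_charts hZ
    apply hT₁ snd (submersiveFamily_of_charts T' r hr hs)
    intro k
    have sqk := IsPullback.of_hasPullback snd (r k)
    refine ⟨_, _, _, sqk, ?_⟩
    obtain ⟨m, W, c, hW, hc, hsurj, hl⟩ := hcov.2 (T' k) (hT'aff k) (r k ≫ g')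
    apply hT₂ (pullback.snd snd (r k))
      (submersiveFamily_of_flat_cover (hT'aff k) W c hW hc hsurj)
    intro j
    obtain ⟨i, l, hl⟩ := hl j
    have big : IsPullback (pullback.fst snd (r k) ≫ fst) (pullback.snd snd (r k)) f (r k ≫ g') :=
      (sqk.flip.paste_vert sq.flip).flip
    obtain ⟨l', sql⟩ := exists_isPullback_of_factor (sqs i) big ((yon S).map (c j)) l hl.symm
    exact ⟨_, _, _, IsPullback.of_hasPullback _ _, hp i (IsAlgSpace.yon_obj _) l l' _ sql⟩

theorem isLocalOnBase_fpqc_isUnivOpenMor :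
    IsLocalOnBase (IsFpqcCover (S := S)) IsUnivOpenMor :=
  univSp_isLocalOnBase_fpqc _ (fun q _ _ _ hr h => isOpenMap_of_submersiveFamily q hr h)
    (fun q _ _ _ hr h => isOpenMap_of_submersiveFamily q hr h)

theorem isLocalOnBase_fpqc_isUnivClosedMor :
    IsLocalOnBase (IsFpqcCover (S := S)) IsUnivClosedMor :=
  univSp_isLocalOnBase_fpqc _ (fun q _ _ _ hr h => isClosedMap_of_submersiveFamily q hr h)
    (fun q _ _ _ hr h => isClosedMap_of_submersiveFamily q hr h)

theorem isLocalOnBase_fpqc_isUnivInjectiveMor :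
    IsLocalOnBase (IsFpqcCover (S := S)) IsUnivInjectiveMor :=
  univSp_isLocalOnBase_fpqc _ (fun q _ _ _ hr h => injective_of_submersiveFamily q hr h)
    (fun q _ _ _ hr h => injective_of_submersiveFamily q hr h)

theorem isLocalOnBase_fpqc_isUnivSubmersiveMor :
    IsLocalOnBase (IsFpqcCover (S := S)) IsUnivSubmersiveMor :=
  univSp_isLocalOnBase_fpqc _ (fun q _ _ _ hr h => isQuotientMap_of_submersiveFamily q hr h)
    (fun q _ _ _ hr h => isQuotientMap_of_submersiveFamily q hr h)

theorem isLocalOnBase_fpqc_isUnivHomeoMor :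
    IsLocalOnBase (IsFpqcCover (S := S)) IsUnivHomeoMor :=
  univSp_isLocalOnBase_fpqc _ (fun q _ _ _ hr h => isHomeomorph_of_submersiveFamily q hr h)
    (fun q _ _ _ hr h => isHomeomorph_of_submersiveFamily q hr h)

theorem isQuasiCompactMor_of_isPullback {P X Y Z : Sp S} {fst : P ⟶ X}
    {snd : P ⟶ Z} {f : X ⟶ Y} {g : Z ⟶ Y} (sq : IsPullback fst snd f g)
    (hf : IsQuasiCompactMor f) : IsQuasiCompactMor snd := by
  intro Z₁ Z' hZ hZc g' fst' snd' sq'
  exact hf hZ hZc (g' ≫ g) (fst' ≫ fst) snd' (sq'.paste_horiz sq)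

/-- The data extracted from an fpqc covering for a base change of `f` to an affine scheme: a
standard fpqc covering over each member of which the base change of `f` is a base change of some
member of the given family of base changes. -/
theorem exists_flat_cover_of_isFpqcCover {ι : Type u} {Y : Sp S} {Yi : ι → Sp S}
    {g : ∀ i, Yi i ⟶ Y} (hcov : IsFpqcCover Yi g) {X : Sp S} {f : X ⟶ Y} {Xi : ι → Sp S}
    {p : ∀ i, Xi i ⟶ Yi i} {q : ∀ i, Xi i ⟶ X} (sqs : ∀ i, IsPullback (q i) (p i) f (g i))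
    {Z : Over S} (hZ : IsAffine Z.left) {h : (yon S).obj Z ⟶ Y} {P : Sp S} {fst : P ⟶ X}
    {snd : P ⟶ (yon S).obj Z} (sq : IsPullback fst snd f h) :
    ∃ (m : ℕ) (W : Fin m → Over S) (c : ∀ j, W j ⟶ Z),
      (∀ j, IsAffine (W j).left) ∧ (∀ j, Flat (c j).left) ∧
      (∀ z : ↥Z.left, ∃ j, z ∈ Set.range (c j).left) ∧
      ∀ j, ∃ (i : ι) (l : (yon S).obj (W j) ⟶ Yi i) (l' : pullback snd ((yon S).map (c j)) ⟶ Xi i),
        IsPullback l' (pullback.snd snd ((yon S).map (c j))) (p i) l := by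
  obtain ⟨m, W, c, hW, hc, hsurj, hl⟩ := hcov.2 Z hZ h
  refine ⟨m, W, c, hW, hc, hsurj, fun j => ?_⟩
  obtain ⟨i, l, hl⟩ := hl j
  obtain ⟨l', sql⟩ := exists_isPullback_of_factor (sqs i) sq ((yon S).map (c j)) l hl.symm
  exact ⟨i, l, l', sql⟩

theorem isLocalOnBase_fpqc_isQuasiCompactMor :
    IsLocalOnBase (IsFpqcCover (S := S)) IsQuasiCompactMor := by
  intro ι Y Yi g hY hYi hcov X f hX Xi p q hXi sqs
  constructor
  · intro hf i
    exact isQuasiCompactMor_of_isPullback (sqs i) hf
  · intro hp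
    apply isQuasiCompactMor_of_forall_affine hX hY.diag
    intro Z hZ h P fst snd sq
    have hP : IsAlgSpace P := isAlgSpace_of_isPullback hY.diag hX (IsAlgSpace.yon_obj Z) sq
    obtain ⟨m, W, c, hW, hc, hsurj, hl⟩ := exists_flat_cover_of_isFpqcCover hcov sqs hZ sq
    have : CompactSpace (Points P) := by
      refine compactSpace_of_charts snd W (fun j => (yon S).map (c j)) (fun z => ?_) (fun j => ?_)
      · obtain ⟨z₀, rfl⟩ := ofScheme_surjective Z z
        obtain ⟨j, w, rfl⟩ := hsurj z₀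
        exact ⟨j, w, ofPt_yon_map (c j) w⟩
      · obtain ⟨i, l, l', sql⟩ := hl j
        have : CompactSpace ↥(W j).left := by
          have := hW j
          infer_instance
        exact ⟨_, _, _, IsPullback.of_hasPullback _ _, compactSpace_of_isQuasiCompactSp
          (hp i (IsAlgSpace.yon_obj _) (isQuasiCompactSp_yon _) l l' _ sql)⟩
    exact isQuasiCompactSp_of_compactSpace hP

end Groth.Agent.Lib.AlgSpFpqc_helper7
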