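import Groth.Agent.Lib.AlgSpPoints_helper7
import Mathlib.AlgebraicGeometry.Morphisms.QuasiCompact

/-!
# Quasi-compactness for algebraic spaces (helper7)
-/

set_option autoImplicit false
universe u
open CategoryTheory CategoryTheory.Limits AlgebraicGeometry Opposite

namespace Groth.Agent.Lib.AlgSpQC_helper7

open AlgSp Groth.Agent.Lib.AlgSpPoints_helper7

variable {S : Scheme.{u}}

/-- base change of `RepWith P` -/
theorem repWith_snd_of_isPullback (P : MorphismProperty Scheme.{u}) {A B C D : Sp S}
    {fst : A ⟶ B} {snd : A ⟶ C} {f : B ⟶ D} {g : C ⟶ D} (sq : IsPullback fst snd f g)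
    (hf : RepWith P f) : RepWith P snd :=
  (RepWith (S := S) P).of_isPullback sq hf

theorem repWith_fst_of_isPullback (P : MorphismProperty Scheme.{u}) {A B C D : Sp S}
    {fst : A ⟶ B} {snd : A ⟶ C} {f : B ⟶ D} {g : C ⟶ D} (sq : IsPullback fst snd f g)
    (hg : RepWith P g) : RepWith P fst :=
  (RepWith (S := S) P).of_isPullback sq.flip hg

/-- If `Z' ⟶ Z` is representable quasi-compact and `Z` is quasi-compact then so is `Z'`. -/
theorem isQuasiCompactSp_of_repWith_quasiCompact {Z Z' : Sp S} (snd : Z' ⟶ Z)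
    (hsnd : RepWith @QuasiCompact snd) (hqc : IsQuasiCompactSp Z) : IsQuasiCompactSp Z' := by
  obtain ⟨U, p, hpe, hps, hU⟩ := hqc
  have sq := hsnd.rep.isPullback p
  refine ⟨hsnd.rep.pullback p, hsnd.rep.fst p, ?_, ?_, ?_⟩
  · exact repWith_fst_of_isPullback _ sq hpe
  · exact repWith_fst_of_isPullback _ sq hps
  · have : QuasiCompact (hsnd.rep.snd p).left := hsnd.property_snd p
    have : CompactSpace ↥U.left := hU
    exact QuasiCompact.compactSpace_of_compactSpace (hsnd.rep.snd p).left

theorem isQuasiCompactMor_of_repWith {F G : Sp S} (f : F ⟶ G) (hf : RepWith @QuasiCompact f) :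
    IsQuasiCompactMor f := by
  intro Z Z' _ hqc g fst snd sq
  exact isQuasiCompactSp_of_repWith_quasiCompact snd (repWith_snd_of_isPullback _ sq hf) hqc

/-- Restricting a represented pullback square along a morphism of schemes over `S`. -/
theorem isPullback_restrict {F G : Sp S} {f : F ⟶ G} {T V T' : Over S} {g : (yon S).obj T ⟶ G}
    {fst : (yon S).obj V ⟶ F} {snd : V ⟶ T} (sq : IsPullback fst ((yon S).map snd) f g)
    (j : T' ⟶ T) :
    IsPullback ((yon S).map (pullback.fst snd j) ≫ fst) ((yon S).map (pullback.snd snd j)) f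
      ((yon S).map j ≫ g) :=
  ((IsPullback.of_hasPullback snd j).map (yon S)).paste_horiz sq

/-- `h_T` is a quasi-compact sheaf when `T` is a quasi-compact scheme. -/
theorem isQuasiCompactSp_yon (T : Over S) [CompactSpace ↥T.left] :
    IsQuasiCompactSp ((yon S).obj T) :=
  ⟨T, 𝟙 _, repWith_id _ T, repWith_id _ T, inferInstance⟩

/-- If `h_T` is a quasi-compact sheaf then `T` is quasi-compact. -/
theorem compactSpace_of_isQuasiCompactSp_yon (T : Over S)
    (h : IsQuasiCompactSp ((yon S).obj T)) : CompactSpace ↥T.left := by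
  obtain ⟨U, p, _, hps, hU⟩ := h
  obtain ⟨φ, rfl⟩ := (yon S).map_surjective p
  have hφ : Surjective φ.left := (repWith_yon_map_iff _ _).1 hps
  have : CompactSpace ↥U.left := hU
  exact Function.Surjective.compactSpace φ.left.continuous hφ.surj

theorem isQuasiCompactSp_yon_iff (T : Over S) :
    IsQuasiCompactSp ((yon S).obj T) ↔ CompactSpace ↥T.left :=
  ⟨compactSpace_of_isQuasiCompactSp_yon T, fun _ => isQuasiCompactSp_yon T⟩

theorem repWith_quasiCompact_of_isQuasiCompactMor {F G : Sp S} (f : F ⟶ G)
    (hf : Representable f) (h : IsQuasiCompactMor f) : RepWith @QuasiCompact f := by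
  refine ⟨hf, fun T V g fst snd sq => ?_⟩
  change QuasiCompact snd.left
  rw [HasAffineProperty.iff_of_openCover (P := @QuasiCompact) T.left.affineCover]
  intro i
  let j : Over.mk (T.left.affineCover.f i ≫ T.hom) ⟶ T := Over.homMk (T.left.affineCover.f i) rfl
  have sq' := isPullback_restrict sq j
  have : CompactSpace ↥(Over.mk (T.left.affineCover.f i ≫ T.hom)).left := by
    dsimp; infer_instance
  have hc := h (IsAlgSpace.yon_obj _) (isQuasiCompactSp_yon _) _ _ _ sq'
  have hc' : CompactSpace ↥(pullback snd j).left := compactSpace_of_isQuasiCompactSp_yon _ hc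
  let e : (pullback snd j).left ≅ pullback snd.left (T.left.affineCover.f i) :=
    PreservesPullback.iso (Over.forget S) snd j
  exact (TopCat.homeoOfIso (asIso e.hom.base)).compactSpace

theorem repWith_quasiCompact_iff {F G : Sp S} (f : F ⟶ G) (hf : Representable f) :
    RepWith @QuasiCompact f ↔ IsQuasiCompactMor f :=
  ⟨isQuasiCompactMor_of_repWith f, repWith_quasiCompact_of_isQuasiCompactMor f hf⟩

end Groth.Agent.Lib.AlgSpQC_helper7
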