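import Mathlib
import Groth.Prelude.Def_AlgSpSub
import Groth.Agent.Lib.AlgSpFpqc_helper7
import Groth.Agent.Lib.AlgSpQC_helper7
import Groth.Agent.Lib.AlgSpPullback_helper7

/-!
# Schematic density vs. scheme theoretic dominance, and flat base change (helper7)
-/

set_option autoImplicit false
universe u
open CategoryTheory CategoryTheory.Limits AlgebraicGeometry Opposite

namespace Groth.Agent.Lib.SchDenseKerH7
open AlgSp Groth.Agent.Lib.AlgSpPullback_helper7 Groth.Agent.Lib.AlgSpQC_helper7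
  Groth.Agent.Lib.AlgSpFpqc_helper7

lemma injective_map_congr {X : Scheme.{u}} {V A B : X.Opens} (hAB : A = B) (hA : A ≤ V)
    (hB : B ≤ V) (h : Function.Injective (X.presheaf.map (homOfLE hA).op)) :
    Function.Injective (X.presheaf.map (homOfLE hB).op) := by
  subst hAB; exact h

lemma image_preimage_ι {X : Scheme.{u}} (W V : X.Opens) : W.ι ''ᵁ W.ι ⁻¹ᵁ V = V ⊓ W := by
  rw [Scheme.Hom.image_preimage_eq_opensRange_inf, Scheme.Opens.opensRange_ι, inf_comm]

theorem dominant_of_dense {X : Scheme.{u}} (W : X.Opens) (h : CInt.IsSchematicallyDense W) :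
    IsSchemeTheoreticallyDominant W.ι := by
  refine ⟨le_bot_iff.1 ?_⟩
  rw [Scheme.IdealSheafData.le_def]
  intro U
  refine (W.ι.ideal_ker_le U).trans ?_
  show RingHom.ker (W.ι.app U.1).hom ≤ ⊥
  rw [le_bot_iff, ← RingHom.injective_iff_ker_eq_bot]
  have h1 := injective_map_congr (image_preimage_ι W U.1).symm inf_le_left
    (Set.image_preimage_subset _ _) (h U.1)
  exact h1

theorem dense_of_dominant {X : Scheme.{u}} (W : X.Opens) [IsSchemeTheoreticallyDominant W.ι]
    [QuasiCompact W.ι] : CInt.IsSchematicallyDense W := by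
  intro V
  have h : Function.Injective (X.presheaf.map
      (homOfLE (x := W.ι ''ᵁ W.ι ⁻¹ᵁ V) (Set.image_preimage_subset _ _)).op) :=
    W.ι.app_injective V
  exact injective_map_congr (image_preimage_ι W V) _ inf_le_left h

variable {S : Scheme.{u}}

theorem isSchDense_of_flat {X Y V V' : Space S} (f : X ⟶ Y)
    (hf : LocP @Flat f.hom) (j : V ⟶ Y) (hj : IsSchDense j.hom) (hjq : IsQuasiCompactMor j.hom)
    (fst : V' ⟶ V) (jX : V' ⟶ X) (sq : IsPullback fst.hom jX.hom j.hom f.hom) :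
    IsSchDense jX.hom := by
  obtain ⟨hjo, U, φ, W, fstW, hφe, hφs, sqW, hW⟩ := hj
  obtain ⟨A, a, hae, has⟩ := X.property.atlas
  let U' : Over S := hφe.rep.pullback (a ≫ f.hom)
  let c : U' ⟶ U := hφe.rep.fst' (a ≫ f.hom)
  let e : U' ⟶ A := hφe.rep.snd (a ≫ f.hom)
  have sq1 : IsPullback ((yon S).map c) ((yon S).map e) φ (a ≫ f.hom) :=
    hφe.rep.isPullback' (a ≫ f.hom)
  have he : Etale e.left := hφe.property _ _ _ sq1
  have hes : Surjective e.left := hφs.property _ _ _ sq1
  let φ' : (yon S).obj U' ⟶ X.obj := (yon S).map e ≫ a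
  have hφ'e : RepWith @Etale φ' := repWith_comp @Etale ((repWith_yon_map_iff _ _).2 he) hae
  have hφ's : RepWith @Surjective φ' :=
    repWith_comp @Surjective ((repWith_yon_map_iff _ _).2 hes) has
  have hw : φ' ≫ f.hom = (yon S).map c ≫ φ := (Category.assoc _ _ _).trans sq1.w.symm
  haveI hcf : Flat c.left := hf _ _ c hφ'e hφe hw
  let W' : U'.left.Opens := c.left ⁻¹ᵁ W
  let ιW : Over.mk (W.ι ≫ U.hom) ⟶ U := Over.homMk W.ι rfl
  let ιW' : Over.mk (W'.ι ≫ U'.hom) ⟶ U' := Over.homMk W'.ι rfl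
  let cW : Over.mk (W'.ι ≫ U'.hom) ⟶ Over.mk (W.ι ≫ U.hom) := Over.homMk (c.left ∣_ W) (by
    show (c.left ∣_ W) ≫ W.ι ≫ U.hom = W'.ι ≫ U'.hom
    rw [← Category.assoc, morphismRestrict_ι, Category.assoc, Over.w c])
  have hP := isPullback_morphismRestrict c.left W
  have h0 : IsPullback cW ιW' ιW c :=
    IsPullback.of_map (Over.forget S) (by ext; exact morphismRestrict_ι c.left W) hP
  have h1 := h0.map (yon S)
  have big : IsPullback ((yon S).map cW ≫ fstW) ((yon S).map ιW') j.hom ((yon S).map c ≫ φ) :=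
    h1.paste_horiz sqW
  rw [← hw] at big
  have hcomm : ((yon S).map cW ≫ fstW) ≫ j.hom = ((yon S).map ιW' ≫ φ') ≫ f.hom :=
    big.w.trans (Category.assoc _ _ _).symm
  let fstW' := sq.lift ((yon S).map cW ≫ fstW) ((yon S).map ιW' ≫ φ') hcomm
  have hl1 : fstW' ≫ fst.hom = (yon S).map cW ≫ fstW := sq.lift_fst _ _ _
  have hl2 : fstW' ≫ jX.hom = (yon S).map ιW' ≫ φ' := sq.lift_snd _ _ _
  have sqL : IsPullback fstW' ((yon S).map ιW') jX.hom φ' := by
    refine IsPullback.of_right ?_ hl2 sq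
    rw [hl1]; exact big
  refine ⟨repWith_snd_of_isPullback @IsOpenImmersion sq hjo, U', φ', W', fstW', hφ'e, hφ's, sqL, ?_⟩
  haveI : IsSchemeTheoreticallyDominant W.ι := dominant_of_dense W hW
  haveI : QuasiCompact W.ι := by
    have h2 : IsQuasiCompactMor ((yon S).map ιW) := isQuasiCompactMor_of_isPullback sqW hjq
    have hoi : IsOpenImmersion ιW.left := inferInstanceAs (IsOpenImmersion W.ι)
    have h3 := repWith_quasiCompact_of_isQuasiCompactMor _
      ((repWith_yon_map_iff @IsOpenImmersion ιW).2 hoi).rep h2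
    exact (repWith_yon_map_iff _ _).1 h3
  haveI : IsSchemeTheoreticallyDominant W'.ι := IsSchemeTheoreticallyDominant.of_isPullback hP
  haveI : QuasiCompact W'.ι := MorphismProperty.of_isPullback (P := @QuasiCompact) hP inferInstance
  exact dense_of_dominant W'

end Groth.Agent.Lib.SchDenseKerH7
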