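import Mathlib
import Groth.Prelude
import Groth.Agent.Lib.SchDenseKer_helper7
import Groth.Agent.Lib.SchDenseFlat_helper5
import Groth.Agent.Lib.LimFlat_helper9
import Groth.Agent.Lib.LimIso_helper7

/-!
# Schematic density through cofiltered limits with flat affine transition maps (lead)

* `toImage_dominant`: `f.toImage` is scheme-theoretically dominant.
* `ker_fst_of_flat`: flat base change of the kernel of a quasi-compact morphism.
* `ker_preimage_ι`: the same for a quasi-compact open.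
* `main5107`.
-/

set_option autoImplicit false
set_option backward.isDefEq.respectTransparency false
universe u
open CategoryTheory CategoryTheory.Limits AlgebraicGeometry

namespace Groth.Agent.Lib.LimSchDense

theorem toImage_dominant {X Y : Scheme.{u}} (f : X ⟶ Y) :
    IsSchemeTheoreticallyDominant f.toImage := by
  have h1 : (f.toImage.ker.subschemeι ≫ f.imageι).ker = f.imageι.ker := by
    show f.toImage.ker.map f.imageι = _
    rw [← Scheme.Hom.ker_comp, Scheme.Hom.toImage_imageι, Scheme.IdealSheafData.ker_subschemeι]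
  haveI : IsIso f.toImage.ker.subschemeι :=
    IsClosedImmersion.isIso_of_ker_eq (f.toImage.ker.subschemeι ≫ f.imageι) f.imageι
      f.toImage.ker.subschemeι rfl h1
  exact ⟨(Scheme.isIso_subschemeι_iff_eq_bot _).mp inferInstance⟩

theorem ker_fst_of_flat {W Y Y' : Scheme.{u}} (f : W ⟶ Y) [QuasiCompact f] (φ : Y' ⟶ Y)
    [Flat φ] : (pullback.fst φ f).ker = f.ker.comap φ := by
  haveI := toImage_dominant f
  have hcomm : pullback.fst φ f ≫ φ = (pullback.snd φ f ≫ f.toImage) ≫ f.imageι := by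
    rw [Category.assoc, Scheme.Hom.toImage_imageι]; exact pullback.condition
  let ℓ : pullback φ f ⟶ pullback φ f.imageι :=
    pullback.lift (pullback.fst φ f) (pullback.snd φ f ≫ f.toImage) hcomm
  have hℓp : ℓ ≫ pullback.fst φ f.imageι = pullback.fst φ f := pullback.lift_fst _ _ _
  have hℓq : ℓ ≫ pullback.snd φ f.imageι = pullback.snd φ f ≫ f.toImage :=
    pullback.lift_snd _ _ _
  have hright : IsPullback (pullback.fst φ f.imageι) (pullback.snd φ f.imageι) φ f.imageι :=
    IsPullback.of_hasPullback φ f.imageι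
  have houter : IsPullback (ℓ ≫ pullback.fst φ f.imageι) (pullback.snd φ f) φ
      (f.toImage ≫ f.imageι) := by
    rw [hℓp, Scheme.Hom.toImage_imageι]
    exact IsPullback.of_hasPullback φ f
  have hleft : IsPullback ℓ (pullback.snd φ f) (pullback.snd φ f.imageι) f.toImage :=
    IsPullback.of_right houter hℓq hright
  haveI : Flat (pullback.snd φ f.imageι) := inferInstance
  haveI : IsSchemeTheoreticallyDominant ℓ :=
    IsSchemeTheoreticallyDominant.of_isPullback (f := f.toImage)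
      (g := pullback.snd φ f.imageι) hleft.flip
  calc (pullback.fst φ f).ker = (ℓ ≫ pullback.fst φ f.imageι).ker := by rw [hℓp]
    _ = ℓ.ker.map (pullback.fst φ f.imageι) := Scheme.Hom.ker_comp _ _
    _ = (pullback.fst φ f.imageι).ker := by
        rw [Scheme.Hom.ker_eq_bot ℓ, Scheme.IdealSheafData.map_bot]
    _ = f.ker.comap φ := rfl

theorem ker_preimage_ι {Y Y' : Scheme.{u}} (φ : Y' ⟶ Y) [Flat φ] (U : Y.Opens)
    [QuasiCompact U.ι] : (φ ⁻¹ᵁ U).ι.ker = U.ι.ker.comap φ := by
  have h := pullbackRestrictIsoRestrict_inv_fst φ U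
  calc (φ ⁻¹ᵁ U).ι.ker
      = ((pullbackRestrictIsoRestrict φ U).inv ≫ pullback.fst φ U.ι).ker := by rw [h]
    _ = (pullback.fst φ U.ι).ker := Scheme.Hom.ker_comp_of_isIso _ _
    _ = U.ι.ker.comap φ := ker_fst_of_flat U.ι φ

variable {I : Type u} [SmallCategory I] [IsCofiltered I] (D : I ⥤ Scheme.{u}) (c : Cone D)
  (hc : IsLimit c)

include hc in
theorem main5107 [∀ (i j : I) (g : i ⟶ j), IsAffineHom (D.map g)]
    [∀ (i j : I) (g : i ⟶ j), Flat (D.map g)]
    [∀ i : I, IsNoetherian (D.obj i)] [IsNoetherian c.pt] (i₀ : I) (U₀ : (D.obj i₀).Opens) :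
    CInt.IsSchematicallyDense ((c.π.app i₀) ⁻¹ᵁ U₀) ↔
      ∃ (i : I) (g : i ⟶ i₀), CInt.IsSchematicallyDense ((D.map g) ⁻¹ᵁ U₀) := by
  haveI hflatπ : ∀ i, Flat (c.π.app i) := fun i =>
    LimFlat.flat_π D c hc i (fun j φ => inferInstance)
  constructor
  · intro hU
    haveI := SchDenseKerH7.dominant_of_dense _ hU
    have h1 : (U₀.ι.ker).comap (c.π.app i₀) = ⊥ := by
      rw [← ker_preimage_ι (c.π.app i₀) U₀]
      exact Scheme.Hom.ker_eq_bot _
    haveI h2 : IsIso (pullback.fst (c.π.app i₀) U₀.ι.imageι) :=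
      IsClosedImmersion.isIso_iff_ker_eq_bot.mpr h1
    have h3 : IsIso (pullback.snd U₀.ι.imageι (c.π.app i₀)) := by
      rw [← pullbackSymmetry_hom_comp_fst]; infer_instance
    obtain ⟨j, φ, hj⟩ := LimIsoH7.exists_isIso_snd_of_compact D c hc i₀ U₀.ι.imageι h3
    refine ⟨j, φ, ?_⟩
    haveI := hj
    have h4 : IsIso (pullback.fst (D.map φ) U₀.ι.imageι) := by
      rw [← pullbackSymmetry_hom_comp_snd]; infer_instance
    have h5 : ((D.map φ) ⁻¹ᵁ U₀).ι.ker = ⊥ := by
      rw [ker_preimage_ι (D.map φ) U₀]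
      exact IsClosedImmersion.isIso_iff_ker_eq_bot.mp h4
    haveI : IsSchemeTheoreticallyDominant ((D.map φ) ⁻¹ᵁ U₀).ι := ⟨h5⟩
    exact SchDenseKerH7.dense_of_dominant _
  · rintro ⟨i, g, h⟩
    have h' := Groth.Agent.SchDenseFlat.main (c.π.app i) ((D.map g) ⁻¹ᵁ U₀) h
    have e : (c.π.app i) ⁻¹ᵁ ((D.map g) ⁻¹ᵁ U₀) = (c.π.app i₀) ⁻¹ᵁ U₀ := by
      rw [← Scheme.Hom.comp_preimage, c.w]
    rwa [e] at h'

end Groth.Agent.Lib.LimSchDense
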