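import Mathlib
import Groth.Prelude.Def_CInt

set_option autoImplicit false
set_option linter.style.haveILetI false

universe u

open CategoryTheory CategoryTheory.Limits AlgebraicGeometry

namespace Groth.Agent.Lib.SchBirH4

theorem injective_map_of_eq {X : Scheme.{u}} {W W₁ W₂ : X.Opens} (h₁ : W₁ ≤ W) (h₂ : W₂ ≤ W)
    (e : W₁ = W₂) (hinj : Function.Injective (X.presheaf.map (homOfLE h₁).op)) :
    Function.Injective (X.presheaf.map (homOfLE h₂).op) := by
  subst e; exact hinj

theorem isSchemeTheoreticallyDominant_of_isSchematicallyDense {X : Scheme.{u}} (V : X.Opens)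
    [QuasiCompact V.ι] (hV : CInt.IsSchematicallyDense V) : IsSchemeTheoreticallyDominant V.ι := by
  refine ⟨?_⟩
  apply Scheme.IdealSheafData.ext
  funext W
  rw [Scheme.Hom.ker_apply, Scheme.IdealSheafData.ideal_bot]
  refine (RingHom.injective_iff_ker_eq_bot _).mp ?_
  rw [Scheme.Opens.ι_app]
  refine injective_map_of_eq (W := W.1) inf_le_left _ ?_ (hV W.1)
  rw [Scheme.Hom.image_preimage_eq_opensRange_inf, Scheme.Opens.opensRange_ι, inf_comm]

set_option maxHeartbeats 800000 in
theorem main15993 {X S : Scheme.{u}} (f : X ⟶ S)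
    [Flat f] [Surjective f] [QuasiCompact f] [IsSeparated f]
    (U : S.Opens) (V : X.Opens) [QuasiCompact V.ι]
    (hV : CInt.IsSchematicallyDense V)
    (hle : V ≤ f ⁻¹ᵁ U) (hiso : IsIso (f.resLE U V hle)) : IsIso f := by
  haveI hVd : IsSchemeTheoreticallyDominant V.ι :=
    isSchemeTheoreticallyDominant_of_isSchematicallyDense V hV
  haveI : Flat (pullback.fst f f) := inferInstance
  haveI : Flat (pullback.snd f f) := inferInstance
  let W : (pullback f f).Opens := (pullback.snd f f) ⁻¹ᵁ V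
  haveI hW : IsSchemeTheoreticallyDominant W.ι :=
    IsSchemeTheoreticallyDominant.of_isPullback (isPullback_morphismRestrict (pullback.snd f f) V)
  haveI : Flat (W.ι ≫ pullback.fst f f) := inferInstance
  let W' : (W : Scheme.{u}).Opens := (W.ι ≫ pullback.fst f f) ⁻¹ᵁ V
  haveI hW' : IsSchemeTheoreticallyDominant W'.ι :=
    IsSchemeTheoreticallyDominant.of_isPullback
      (isPullback_morphismRestrict (W.ι ≫ pullback.fst f f) V)
  haveI : IsSchemeTheoreticallyDominant (W'.ι ≫ W.ι) := inferInstance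
  have h₁ : ((W.ι ≫ pullback.fst f f) ∣_ V) ≫ V.ι = (W'.ι ≫ W.ι) ≫ pullback.fst f f := by
    rw [morphismRestrict_ι, Category.assoc]
  have h₂ : (W'.ι ≫ (pullback.snd f f ∣_ V)) ≫ V.ι = (W'.ι ≫ W.ι) ≫ pullback.snd f f := by
    rw [Category.assoc, morphismRestrict_ι, Category.assoc]
  haveI : Mono (V.ι ≫ f) := by
    rw [← Scheme.Hom.resLE_comp_ι f hle]
    infer_instance
  have ha : ((W.ι ≫ pullback.fst f f) ∣_ V) = (W'.ι ≫ (pullback.snd f f ∣_ V)) := by
    rw [← cancel_mono (V.ι ≫ f), ← Category.assoc, ← Category.assoc, h₁, h₂, Category.assoc,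
      Category.assoc, pullback.condition]
    simp only [Category.assoc]
  have hj : (W'.ι ≫ W.ι) ≫ pullback.fst f f = (W'.ι ≫ W.ι) ≫ pullback.snd f f := by
    rw [← h₁, ← h₂, ha]
  have hjΔ : ((W'.ι ≫ W.ι) ≫ pullback.fst f f) ≫ pullback.diagonal f = W'.ι ≫ W.ι := by
    apply pullback.hom_ext
    · rw [Category.assoc, pullback.diagonal_fst, Category.comp_id]
    · rw [Category.assoc, pullback.diagonal_snd, Category.comp_id, hj]
  haveI : IsClosedImmersion (pullback.diagonal f) := inferInstance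
  have hker : (pullback.diagonal f).ker = ⊥ := by
    rw [eq_bot_iff]
    calc (pullback.diagonal f).ker
        ≤ (((W'.ι ≫ W.ι) ≫ pullback.fst f f) ≫ pullback.diagonal f).ker :=
          Scheme.Hom.le_ker_comp _ _
      _ = (W'.ι ≫ W.ι).ker := by rw [hjΔ]
      _ = ⊥ := IsSchemeTheoreticallyDominant.ker_eq_bot _
  haveI : IsIso (pullback.diagonal f) := IsClosedImmersion.isIso_iff_ker_eq_bot.mpr hker
  haveI : IsIso (pullback.fst f f) := by
    haveI : IsIso (pullback.diagonal f ≫ pullback.fst f f) := by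
      rw [pullback.diagonal_fst]; infer_instance
    exact IsIso.of_isIso_comp_left (pullback.diagonal f) (pullback.fst f f)
  exact MorphismProperty.of_isPullback_of_descendsAlong
    (P := MorphismProperty.isomorphisms Scheme.{u})
    (Q := @Surjective ⊓ @Flat ⊓ @QuasiCompact) (IsPullback.of_hasPullback f f)
    ⟨⟨‹_›, ‹_›⟩, ‹_›⟩ ‹IsIso (pullback.fst f f)›

end Groth.Agent.Lib.SchBirH4
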