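import Mathlib
import Groth.Prelude.Def_CInt
import Groth.Agent.Lib.SchBir_helper4

set_option autoImplicit false
set_option linter.style.haveILetI false

universe u

open CategoryTheory CategoryTheory.Limits AlgebraicGeometry

namespace Groth.Agent.Lib.SchDenseExtH4

theorem isSchemeTheoreticallyDominant_of_isSchematicallyDense {X : Scheme.{u}} (V : X.Opens)
    (hV : CInt.IsSchematicallyDense V) : IsSchemeTheoreticallyDominant V.ι := by
  refine ⟨?_⟩
  apply Scheme.IdealSheafData.ext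
  funext W
  rw [Scheme.IdealSheafData.ideal_bot]
  show (Scheme.Hom.ker V.ι).ideal W = (⊥ : Ideal _)
  have hinj : Function.Injective (V.ι.app W.1).hom := by
    rw [Scheme.Opens.ι_app]
    refine Groth.Agent.Lib.SchBirH4.injective_map_of_eq (W := W.1) inf_le_left _ ?_ (hV W.1)
    rw [Scheme.Hom.image_preimage_eq_opensRange_inf, Scheme.Opens.opensRange_ι, inf_comm]
  have hk : RingHom.ker (V.ι.app W.1).hom = ⊥ := (RingHom.injective_iff_ker_eq_bot _).mp hinj
  exact le_bot_iff.mp ((Scheme.Hom.ideal_ker_le V.ι W).trans hk.le)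

theorem ext_of_schDominant_of_isSeparated {W X Y Z : Scheme.{u}} {f g : X ⟶ Y} (s : Y ⟶ Z)
    [IsSeparated s] (h : f ≫ s = g ≫ s) (ι : W ⟶ X) [IsSchemeTheoreticallyDominant ι]
    (hU : ι ≫ f = ι ≫ g) : f = g := by
  let X' : Over Z := Over.mk (f ≫ s)
  let Y' : Over Z := Over.mk s
  let U' : Over Z := Over.mk (ι ≫ f ≫ s)
  let f' : X' ⟶ Y' := Over.homMk f rfl
  let g' : X' ⟶ Y' := Over.homMk g h.symm
  let ι' : U' ⟶ X' := Over.homMk ι rfl
  haveI : IsSeparated Y'.hom := ‹_›
  have hlift : ι' ≫ f' = ι' ≫ g' := by ext1; exact hU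
  have e : (equalizer.lift ι' hlift).left ≫ (equalizer.ι f' g').left = ι := by
    rw [← Over.comp_left, equalizer.lift_ι]; rfl
  have hker : (equalizer.ι f' g').left.ker = ⊥ := by
    rw [eq_bot_iff]
    calc (equalizer.ι f' g').left.ker
        ≤ ((equalizer.lift ι' hlift).left ≫ (equalizer.ι f' g').left).ker :=
          Scheme.Hom.le_ker_comp _ _
      _ = ι.ker := by rw [e]
      _ = ⊥ := IsSchemeTheoreticallyDominant.ker_eq_bot ι
  haveI : IsIso (equalizer.ι f' g').left := IsClosedImmersion.isIso_iff_ker_eq_bot.mpr hker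
  rw [← cancel_epi (equalizer.ι f' g').left]
  exact congr($(equalizer.condition f' g').left)

theorem main13106 {X Y Z T : Scheme.{u}} (f : X ⟶ Y)
    (U : Y.Opens) (hU : CInt.IsSchematicallyDense U) [IsIso (f ∣_ U)]
    (z : Z ⟶ T) [IsSeparated z] (v₁ v₂ : Y ⟶ Z) (hz : v₁ ≫ z = v₂ ≫ z) (h : f ≫ v₁ = f ≫ v₂) :
    v₁ = v₂ := by
  haveI := isSchemeTheoreticallyDominant_of_isSchematicallyDense U hU
  refine ext_of_schDominant_of_isSeparated z hz U.ι ?_
  have e : U.ι = inv (f ∣_ U) ≫ (f ⁻¹ᵁ U).ι ≫ f := by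
    rw [← morphismRestrict_ι, IsIso.inv_hom_id_assoc]
  rw [e, Category.assoc, Category.assoc, Category.assoc, Category.assoc, h]

end Groth.Agent.Lib.SchDenseExtH4
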