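import Mathlib
import Groth.Prelude
import Groth.Agent.Lib.SchDenseExt_helper4
import Groth.Agent.Lib.LimSchDense_lead

/-!
# Chow's lemma, part C (helper7): the core construction

Given `f : X ⟶ S` separated, a proper `pS : P ⟶ S`, opens `U ≤ Ui i` of `X` with `U` dense and
quasi-compact, immersions `ji i : Ui i ⟶ Pi i` over `S`, maps `p i : P ⟶ Pi i` over `S`
and `j : U ⟶ P` lifting the restrictions of the `ji i`, the scheme-theoretic image `X'` of
`U ⟶ X ×_S P` has `π : X' ⟶ X` proper surjective, an isomorphism over `U`, and `q : X' ⟶ P`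
an immersion.
APPEND-ONLY once landed.
-/

set_option autoImplicit false
set_option linter.style.haveILetI false
universe u
open CategoryTheory CategoryTheory.Limits AlgebraicGeometry TopologicalSpace

namespace Groth.Agent.Lib.ChowC_helper7

theorem isPullback_lift_of_mono {C : Type*} [Category C] {A B D : C} (r : A ⟶ D) (m : B ⟶ D)
    [Mono m] (l : A ⟶ B) (h : l ≫ m = r) : IsPullback (𝟙 A) l r m := by
  refine ⟨⟨by rw [Category.id_comp, h]⟩, ⟨PullbackCone.IsLimit.mk _ (fun s => s.fst)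
    (fun s => Category.comp_id _) (fun s => ?_) (fun s t h1 _ => by rw [← h1, Category.comp_id])⟩⟩
  rw [← cancel_mono m, Category.assoc, h, s.condition]

/-- restriction of a quasi-compact scheme-theoretically dominant map to an open through which
it factors. -/
theorem dominant_lift {A Y : Scheme.{u}} (r : A ⟶ Y) [QuasiCompact r]
    [IsSchemeTheoreticallyDominant r] (V : Y.Opens) (l : A ⟶ V.toScheme) (h : l ≫ V.ι = r) :
    IsSchemeTheoreticallyDominant l :=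
  IsSchemeTheoreticallyDominant.of_isPullback (f := r) (g := V.ι)
    (isPullback_lift_of_mono r V.ι l h)

section Core

variable {X S P X' : Scheme.{u}} (f : X ⟶ S) (pS : P ⟶ S) (π : X' ⟶ X) (q : X' ⟶ P)
  (hπq : π ≫ f = q ≫ pS) (U : X.Opens) (r : U.toScheme ⟶ X') (hrπ : r ≫ π = U.ι)

include hrπ in
theorem range_r_subset (V : X.Opens) (hUV : U ≤ V) :
    Set.range r ⊆ Set.range (π ⁻¹ᵁ V).ι := by
  rintro _ ⟨u, rfl⟩
  rw [Scheme.Opens.range_ι]
  show π (r u) ∈ V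
  rw [← Scheme.Hom.comp_apply, hrπ]
  exact hUV u.2

include hrπ in
theorem isIso_restrict [QuasiCompact r] [IsSchemeTheoreticallyDominant r] [IsSeparated π] :
    IsIso (π ∣_ U) := by
  let r₀ : U.toScheme ⟶ (π ⁻¹ᵁ U).toScheme :=
    IsOpenImmersion.lift (π ⁻¹ᵁ U).ι r (range_r_subset π U r hrπ U le_rfl)
  have hr₀ : r₀ ≫ (π ⁻¹ᵁ U).ι = r := IsOpenImmersion.lift_fac _ _ _
  haveI : IsSchemeTheoreticallyDominant r₀ := dominant_lift r _ r₀ hr₀
  have hsec : r₀ ≫ (π ∣_ U) = 𝟙 _ := by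
    rw [← cancel_mono U.ι, Category.assoc, morphismRestrict_ι, ← Category.assoc, hr₀, hrπ,
      Category.id_comp]
  haveI : IsClosedImmersion (r₀ ≫ (π ∣_ U)) := by rw [hsec]; infer_instance
  haveI : IsClosedImmersion r₀ := IsClosedImmersion.of_comp r₀ (π ∣_ U)
  haveI : IsIso r₀ := IsClosedImmersion.isIso_iff_ker_eq_bot.mpr
    (IsSchemeTheoreticallyDominant.ker_eq_bot r₀)
  exact IsIso.of_isIso_fac_left hsec

include hrπ in
theorem surjective_of_dense [UniversallyClosed π] (hUd : Dense (U : Set X)) : Surjective π := by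
  constructor
  have hcl : IsClosed (Set.range π) := π.isClosedMap.isClosed_range
  have hsub : (U : Set X) ⊆ Set.range π := by
    intro x hx
    refine ⟨r ⟨x, hx⟩, ?_⟩
    rw [← Scheme.Hom.comp_apply, hrπ]; rfl
  intro x
  exact (hcl.closure_subset_iff.mpr hsub) (hUd x)

variable {Q : Scheme.{u}} (V : X.Opens) (hUV : U ≤ V) (t : Q ⟶ S) (jV : V.toScheme ⟶ Q)
  (hjV : jV ≫ t = V.ι ≫ f) (pQ : P ⟶ Q) (hpQ : pQ ≫ t = pS)
  (hjQ : r ≫ q ≫ pQ = X.homOfLE hUV ≫ jV)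

include hrπ hjV hpQ hjQ in
theorem core_single [IsSeparated f] [IsSeparated t] [IsImmersion jV] [QuasiCompact r]
    [IsSchemeTheoreticallyDominant r] [IsClosedImmersion (pullback.lift π q hπq)] :
    (∀ x : X', π x ∈ V → q x ∈ pQ ⁻¹ᵁ jV.coborderRange) ∧
      IsImmersion ((q ⁻¹ᵁ (pQ ⁻¹ᵁ jV.coborderRange)).ι ≫ q) := by
  obtain ⟨ι', hι'⟩ : ∃ ι', ι' = pullback.lift π q hπq := ⟨_, rfl⟩
  haveI : IsClosedImmersion ι' := hι' ▸ inferInstance
  have hι'1 : ι' ≫ pullback.fst f pS = π := by rw [hι']; exact pullback.lift_fst _ _ _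
  have hι'2 : ι' ≫ pullback.snd f pS = q := by rw [hι']; exact pullback.lift_snd _ _ _
  obtain ⟨O, hO⟩ : ∃ O : (pullback f pS).Opens, O = pullback.fst f pS ⁻¹ᵁ V := ⟨_, rfl⟩
  have hmemVV : ∀ x : X', x ∈ ι' ⁻¹ᵁ O ↔ π x ∈ V := by
    intro x
    rw [hO, ← hι'1]
    rfl
  -- the restriction of `π`
  have hrange1 : Set.range ((ι' ⁻¹ᵁ O).ι ≫ π) ⊆ Set.range V.ι := by
    rintro _ ⟨x, rfl⟩
    rw [Scheme.Opens.range_ι]
    exact (hmemVV x.1).mp x.2
  let πV : (ι' ⁻¹ᵁ O).toScheme ⟶ V.toScheme := IsOpenImmersion.lift V.ι ((ι' ⁻¹ᵁ O).ι ≫ π) hrange1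
  have hπV : πV ≫ V.ι = (ι' ⁻¹ᵁ O).ι ≫ π := IsOpenImmersion.lift_fac _ _ _
  -- the restriction of `r`
  have hrange2 : Set.range r ⊆ Set.range (ι' ⁻¹ᵁ O).ι := by
    rintro _ ⟨u, rfl⟩
    rw [Scheme.Opens.range_ι]
    refine (hmemVV _).mpr ?_
    rw [← Scheme.Hom.comp_apply, hrπ]
    exact hUV u.2
  let rV : U.toScheme ⟶ (ι' ⁻¹ᵁ O).toScheme := IsOpenImmersion.lift (ι' ⁻¹ᵁ O).ι r hrange2
  have hrV : rV ≫ (ι' ⁻¹ᵁ O).ι = r := IsOpenImmersion.lift_fac _ _ _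
  haveI : IsSchemeTheoreticallyDominant rV := dominant_lift r (ι' ⁻¹ᵁ O) rV hrV
  have hrVπ : rV ≫ πV = X.homOfLE hUV := by
    rw [← cancel_mono V.ι, Category.assoc, hπV, ← Category.assoc, hrV, hrπ, Scheme.homOfLE_ι]
  -- (*)
  have star : (ι' ⁻¹ᵁ O).ι ≫ q ≫ pQ = πV ≫ jV := by
    refine Groth.Agent.Lib.SchDenseExtH4.ext_of_schDominant_of_isSeparated t ?_ rV ?_
    · simp only [Category.assoc]
      rw [hpQ, hjV, ← Category.assoc πV, hπV, Category.assoc, hπq]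
    · rw [← Category.assoc rV (ι' ⁻¹ᵁ O).ι, hrV, hjQ, ← Category.assoc rV πV, hrVπ]
  -- `k`
  let k : (ι' ⁻¹ᵁ O).toScheme ⟶ pullback jV pQ :=
    pullback.lift πV ((ι' ⁻¹ᵁ O).ι ≫ q) (by rw [Category.assoc]; exact star.symm)
  have hk1 : k ≫ pullback.fst jV pQ = πV := pullback.lift_fst _ _ _
  have hk2 : k ≫ pullback.snd jV pQ = (ι' ⁻¹ᵁ O).ι ≫ q := pullback.lift_snd _ _ _
  have hcond : (pullback.fst jV pQ ≫ V.ι) ≫ f = pullback.snd jV pQ ≫ pS := by
    rw [Category.assoc, ← hjV, ← Category.assoc, pullback.condition, Category.assoc, hpQ]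
  let n' : pullback jV pQ ⟶ pullback f pS :=
    pullback.lift (pullback.fst jV pQ ≫ V.ι) (pullback.snd jV pQ) hcond
  have hn'1 : n' ≫ pullback.fst f pS = pullback.fst jV pQ ≫ V.ι := pullback.lift_fst _ _ _
  have hn'2 : n' ≫ pullback.snd f pS = pullback.snd jV pQ := pullback.lift_snd _ _ _
  haveI : Mono n' := ⟨fun a b hab => by
    apply pullback.hom_ext
    · rw [← cancel_mono V.ι, Category.assoc, Category.assoc, ← hn'1, ← Category.assoc,
        ← Category.assoc, hab]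
    · rw [← hn'2, ← Category.assoc, ← Category.assoc, hab]⟩
  have hrange3 : Set.range n' ⊆ Set.range O.ι := by
    rintro _ ⟨z, rfl⟩
    rw [Scheme.Opens.range_ι, hO]
    show (pullback.fst f pS) (n' z) ∈ V
    rw [← Scheme.Hom.comp_apply, hn'1, Scheme.Hom.comp_apply]
    exact (pullback.fst jV pQ z).2
  let n : pullback jV pQ ⟶ O.toScheme := IsOpenImmersion.lift O.ι n' hrange3
  have hn : n ≫ O.ι = n' := IsOpenImmersion.lift_fac _ _ _
  haveI : Mono n := mono_of_mono_fac hn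
  have hkn : k ≫ n = ι' ∣_ O := by
    rw [← cancel_mono O.ι, Category.assoc, hn, morphismRestrict_ι]
    apply pullback.hom_ext
    · rw [Category.assoc, hn'1, ← Category.assoc, hk1, hπV, Category.assoc, hι'1]
    · rw [Category.assoc, hn'2, hk2, Category.assoc, hι'2]
  haveI : IsClosedImmersion (k ≫ n) := by rw [hkn]; infer_instance
  haveI : IsClosedImmersion k := IsClosedImmersion.of_comp k n
  -- the coborder
  obtain ⟨W, hW⟩ : ∃ W : Q.Opens, W = jV.coborderRange := ⟨_, rfl⟩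
  have hjW : Set.range jV ⊆ (W : Set Q) := by rw [hW]; exact subset_coborder
  obtain ⟨cV, hcV, hcVcl⟩ : ∃ cV : V.toScheme ⟶ W.toScheme, cV ≫ W.ι = jV ∧
      IsClosedImmersion cV := by
    subst hW; exact ⟨jV.liftCoborder, jV.liftCoborder_ι, inferInstance⟩
  haveI := hcVcl
  have B5 : ∀ x : X', π x ∈ V → q x ∈ pQ ⁻¹ᵁ W := by
    intro x hx
    have hx' : x ∈ ι' ⁻¹ᵁ O := (hmemVV x).mpr hx
    show pQ (q x) ∈ W
    have h1 : ((ι' ⁻¹ᵁ O).ι ≫ q ≫ pQ) ⟨x, hx'⟩ = (πV ≫ jV) ⟨x, hx'⟩ := by rw [star]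
    simp only [Scheme.Hom.comp_apply] at h1
    have h2 : pQ (q x) = jV (πV ⟨x, hx'⟩) := h1
    rw [h2]
    exact hjW ⟨_, rfl⟩
  -- `V'`
  obtain ⟨V', hV'⟩ : ∃ V' : X'.Opens, V' = q ⁻¹ᵁ (pQ ⁻¹ᵁ W) := ⟨_, rfl⟩
  have hmemV' : ∀ x : X', x ∈ V' ↔ pQ (q x) ∈ W := by intro x; rw [hV']; rfl
  have hrange4 : Set.range (V'.ι ≫ q ≫ pQ) ⊆ Set.range W.ι := by
    rintro _ ⟨x, rfl⟩
    rw [Scheme.Opens.range_ι]
    exact (hmemV' x.1).mp x.2
  let h : V'.toScheme ⟶ W.toScheme := IsOpenImmersion.lift W.ι (V'.ι ≫ q ≫ pQ) hrange4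
  have hh : h ≫ W.ι = V'.ι ≫ q ≫ pQ := IsOpenImmersion.lift_fac _ _ _
  have hrange5 : Set.range r ⊆ Set.range V'.ι := by
    rintro _ ⟨u, rfl⟩
    rw [Scheme.Opens.range_ι]
    refine (hmemV' _).mpr ?_
    have h1 : (r ≫ q ≫ pQ) u = (X.homOfLE hUV ≫ jV) u := by rw [hjQ]
    simp only [Scheme.Hom.comp_apply] at h1
    rw [h1]
    exact hjW ⟨_, rfl⟩
  let r' : U.toScheme ⟶ V'.toScheme := IsOpenImmersion.lift V'.ι r hrange5
  have hr' : r' ≫ V'.ι = r := IsOpenImmersion.lift_fac _ _ _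
  haveI : IsSchemeTheoreticallyDominant r' := dominant_lift r V' r' hr'
  have hcond2 : r' ≫ h = X.homOfLE hUV ≫ cV := by
    rw [← cancel_mono W.ι, Category.assoc, hh, ← Category.assoc, hr', hjQ, Category.assoc, hcV]
  let e : U.toScheme ⟶ pullback h cV := pullback.lift r' (X.homOfLE hUV) hcond2
  have he1 : e ≫ pullback.fst h cV = r' := pullback.lift_fst _ _ _
  have he2 : e ≫ pullback.snd h cV = X.homOfLE hUV := pullback.lift_snd _ _ _
  haveI : IsIso (pullback.fst h cV) := by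
    apply IsClosedImmersion.isIso_iff_ker_eq_bot.mpr
    rw [eq_bot_iff]
    calc (pullback.fst h cV).ker ≤ (e ≫ pullback.fst h cV).ker := Scheme.Hom.le_ker_comp _ _
      _ = r'.ker := by rw [he1]
      _ = ⊥ := IsSchemeTheoreticallyDominant.ker_eq_bot r'
  let ρ : V'.toScheme ⟶ V.toScheme := inv (pullback.fst h cV) ≫ pullback.snd h cV
  have hρ : ρ ≫ cV = h := by
    simp only [ρ, Category.assoc, ← pullback.condition, IsIso.inv_hom_id_assoc]
  have hρj : ρ ≫ jV = V'.ι ≫ q ≫ pQ := by rw [← hcV, ← Category.assoc, hρ, hh]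
  have hr'ρ : r' ≫ ρ = X.homOfLE hUV := by
    simp only [ρ]
    rw [← he1, Category.assoc, IsIso.hom_inv_id_assoc, he2]
  have hρπ : ρ ≫ V.ι = V'.ι ≫ π := by
    refine Groth.Agent.Lib.SchDenseExtH4.ext_of_schDominant_of_isSeparated f ?_ r' ?_
    · rw [Category.assoc, ← hjV, ← Category.assoc, hρj]
      simp only [Category.assoc]
      rw [hpQ, hπq]
    · rw [← Category.assoc, hr'ρ, Scheme.homOfLE_ι, ← Category.assoc, hr', hrπ]
  have B4 : V' ≤ ι' ⁻¹ᵁ O := by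
    intro x hx
    refine (hmemVV x).mpr ?_
    have h1 : (V'.ι ≫ π) ⟨x, hx⟩ = (ρ ≫ V.ι) ⟨x, hx⟩ := by rw [hρπ]
    simp only [Scheme.Hom.comp_apply] at h1
    have h2 : π x = (ρ ⟨x, hx⟩).1 := h1
    rw [h2]; exact (ρ ⟨x, hx⟩).2
  have hfinal : IsImmersion (V'.ι ≫ q) := by
    have : V'.ι ≫ q = X'.homOfLE B4 ≫ k ≫ pullback.snd jV pQ := by
      rw [hk2, Scheme.homOfLE_ι_assoc]
    rw [this]; infer_instance
  subst hV' hW
  exact ⟨B5, hfinal⟩

end Core

end Groth.Agent.Lib.ChowC_helper7
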