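import Mathlib
import Groth.Prelude
import Groth.Agent.Lib.ChowA_helper7
import Groth.Agent.Lib.ChowB_helper7
import Groth.Agent.Lib.ChowC_helper7

/-!
# Chow's lemma, part D (helper7): assembly

* `isImmersion_q`, `chow_core`: the abstract form;
* `chow_main`: for `S` qcqs, `f : X ⟶ S` separated of finite type, `X` with finitely many irreducible
  components: an H-projective `P/S`, `X'` closed in `X ×_S P`, `π : X' ⟶ X` proper surjective and an
  isomorphism over a dense open `U`, `q : X' ⟶ P` an immersion.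
APPEND-ONLY once landed.
-/

set_option autoImplicit false
set_option linter.style.haveILetI false
universe u
open CategoryTheory CategoryTheory.Limits AlgebraicGeometry TopologicalSpace

namespace Groth.Agent.Lib.ChowD_helper7

open Groth.Agent.Lib.ChowC_helper7 CohB1

section Family

variable {X S P X' : Scheme.{u}} (f : X ⟶ S) (pS : P ⟶ S) (π : X' ⟶ X) (q : X' ⟶ P)
  (hπq : π ≫ f = q ≫ pS) (U : X.Opens) (r : U.toScheme ⟶ X') (hrπ : r ≫ π = U.ι)

include hrπ in
theorem isImmersion_q {ι : Type*} (Ui : ι → X.Opens) (hcov : ⨆ i, Ui i = ⊤) (hU : ∀ i, U ≤ Ui i)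
    {Pi : ι → Scheme.{u}} (ti : ∀ i, Pi i ⟶ S) [∀ i, IsSeparated (ti i)]
    (ji : ∀ i, (Ui i).toScheme ⟶ Pi i) [∀ i, IsImmersion (ji i)]
    (hji : ∀ i, ji i ≫ ti i = (Ui i).ι ≫ f) (p : ∀ i, P ⟶ Pi i) (hp : ∀ i, p i ≫ ti i = pS)
    (hj : ∀ i, r ≫ q ≫ p i = X.homOfLE (hU i) ≫ ji i)
    [IsSeparated f] [QuasiCompact r] [IsSchemeTheoreticallyDominant r]
    [IsClosedImmersion (pullback.lift π q hπq)] :
    IsImmersion q := by
  haveI : MorphismProperty.RespectsRight @IsImmersion @IsOpenImmersion := ⟨fun j hj f hf => by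
    haveI : IsOpenImmersion j := hj
    haveI : IsImmersion f := hf
    infer_instance⟩
  have key := fun i => core_single f pS π q hπq U r hrπ (Ui i) (hU i) (ti i) (ji i) (hji i)
    (p i) (hp i) (hj i)
  apply IsZariskiLocalAtTarget.of_range_subset_iSup (P := @IsImmersion)
    (fun i => (p i) ⁻¹ᵁ (ji i).coborderRange)
  · rintro _ ⟨x, rfl⟩
    obtain ⟨i, hi⟩ : ∃ i, π x ∈ Ui i := by
      have : π x ∈ (⨆ i, Ui i : X.Opens) := by rw [hcov]; trivial
      exact Opens.mem_iSup.mp this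
    exact Opens.mem_iSup.mpr ⟨i, (key i).1 x hi⟩
  · intro i
    haveI : IsImmersion ((q ∣_ ((p i) ⁻¹ᵁ (ji i).coborderRange)) ≫
        ((p i) ⁻¹ᵁ (ji i).coborderRange).ι) := by
      rw [morphismRestrict_ι]; exact (key i).2
    exact IsImmersion.of_comp (q ∣_ _) (Scheme.Opens.ι _)

end Family

/-- The abstract form of Chow's lemma. -/
theorem chow_core {X S P : Scheme.{u}} (f : X ⟶ S) [IsSeparated f] [QuasiSeparatedSpace S]
    (pS : P ⟶ S) [IsProper pS] (U : X.Opens) [CompactSpace U.toScheme] (hUd : Dense (U : Set X))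
    {ι : Type*} (Ui : ι → X.Opens) (hcov : ⨆ i, Ui i = ⊤) (hU : ∀ i, U ≤ Ui i)
    {Pi : ι → Scheme.{u}} (ti : ∀ i, Pi i ⟶ S) [∀ i, IsSeparated (ti i)]
    (ji : ∀ i, (Ui i).toScheme ⟶ Pi i) [∀ i, IsImmersion (ji i)]
    (hji : ∀ i, ji i ≫ ti i = (Ui i).ι ≫ f) (p : ∀ i, P ⟶ Pi i) (hp : ∀ i, p i ≫ ti i = pS)
    (j : U.toScheme ⟶ P) (hjS : U.ι ≫ f = j ≫ pS)
    (hj : ∀ i, j ≫ p i = X.homOfLE (hU i) ≫ ji i) :
    ∃ (X' : Scheme.{u}) (π : X' ⟶ X) (q : X' ⟶ P) (r : U.toScheme ⟶ X') (hπq : π ≫ f = q ≫ pS),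
      IsClosedImmersion (pullback.lift π q hπq) ∧ IsProper π ∧ Surjective π ∧ IsImmersion q ∧
      IsIso (π ∣_ U) ∧ r ≫ π = U.ι ∧ QuasiCompact r ∧ IsSchemeTheoreticallyDominant r := by
  haveI : IsProper (pullback.fst f pS) := MorphismProperty.pullback_fst (P := @IsProper) f pS inferInstance
  haveI : QuasiSeparatedSpace (pullback f pS : Scheme.{u}) :=
    quasiSeparatedSpace_of_quasiSeparated (pullback.fst f pS ≫ f)
  obtain ⟨g, hg⟩ : ∃ g : U.toScheme ⟶ pullback f pS, g = pullback.lift U.ι j hjS := ⟨_, rfl⟩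
  have hg1 : g ≫ pullback.fst f pS = U.ι := by rw [hg]; exact pullback.lift_fst _ _ _
  have hg2 : g ≫ pullback.snd f pS = j := by rw [hg]; exact pullback.lift_snd _ _ _
  haveI : QuasiCompact g := inferInstance
  haveI : IsSchemeTheoreticallyDominant g.toImage := Groth.Agent.Lib.LimSchDense.toImage_dominant g
  have hπq : (g.imageι ≫ pullback.fst f pS) ≫ f = (g.imageι ≫ pullback.snd f pS) ≫ pS := by
    rw [Category.assoc, Category.assoc, pullback.condition]
  have hlift : pullback.lift (g.imageι ≫ pullback.fst f pS) (g.imageι ≫ pullback.snd f pS) hπq =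
      g.imageι := by
    apply pullback.hom_ext
    · rw [pullback.lift_fst]
    · rw [pullback.lift_snd]
  haveI : IsClosedImmersion (pullback.lift (g.imageι ≫ pullback.fst f pS)
      (g.imageι ≫ pullback.snd f pS) hπq) := by rw [hlift]; infer_instance
  have hrπ : g.toImage ≫ g.imageι ≫ pullback.fst f pS = U.ι := by
    rw [← Category.assoc, Scheme.Hom.toImage_imageι, hg1]
  have hrq : g.toImage ≫ g.imageι ≫ pullback.snd f pS = j := by
    rw [← Category.assoc, Scheme.Hom.toImage_imageι, hg2]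
  haveI : IsProper (g.imageι ≫ pullback.fst f pS) := inferInstance
  refine ⟨g.image, g.imageι ≫ pullback.fst f pS, g.imageι ≫ pullback.snd f pS, g.toImage, hπq,
    inferInstance, inferInstance, ?_, ?_, ?_, hrπ, inferInstance, inferInstance⟩
  · exact surjective_of_dense _ U g.toImage hrπ hUd
  · refine isImmersion_q f pS _ _ hπq U g.toImage hrπ Ui hcov hU ti ji hji p hp ?_
    intro i
    rw [← Category.assoc, hrq, hj i]
  · exact isIso_restrict _ U g.toImage hrπ

end Groth.Agent.Lib.ChowD_helper7
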