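import Mathlib
import Groth.Prelude
import Groth.Agent.Lib.ChowD_helper7

/-!
# Chow's lemma, part E (helper7): the main theorem

`chow_main`: for `S` qcqs, `f : X ⟶ S` separated of finite type, `X` with finitely many irreducible
components: an H-projective `P/S`, `X'` closed in `X ×_S P`, `π : X' ⟶ X` proper surjective and an
isomorphism over a dense open `U`, `q : X' ⟶ P` an immersion.
`chow_projSpace`: the same with an immersion into `P^n_S`.
APPEND-ONLY once landed.
-/

set_option autoImplicit false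
set_option linter.style.haveILetI false
universe u
open CategoryTheory CategoryTheory.Limits AlgebraicGeometry TopologicalSpace

namespace Groth.Agent.Lib.ChowE_helper7

open CohB1

theorem chow_main {X S : Scheme.{u}} (f : X ⟶ S) [CompactSpace S] [QuasiSeparatedSpace S]
    [IsSeparated f] [LocallyOfFiniteType f] [QuasiCompact f]
    (hirr : (irreducibleComponents X).Finite) :
    ∃ (P X' : Scheme.{u}) (pS : P ⟶ S) (π : X' ⟶ X) (q : X' ⟶ P) (U : X.Opens)
      (r : U.toScheme ⟶ X') (hπq : π ≫ f = q ≫ pS),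
      RelProj.IsHProjective pS ∧ IsClosedImmersion (pullback.lift π q hπq) ∧ IsProper π ∧
      Surjective π ∧ IsImmersion q ∧ Dense (U : Set X) ∧ IsIso (π ∣_ U) ∧ r ≫ π = U.ι ∧
      QuasiCompact r ∧ IsSchemeTheoreticallyDominant r := by
  haveI : CompactSpace X := QuasiCompact.compactSpace_of_compactSpace f
  haveI : QuasiSeparatedSpace X := quasiSeparatedSpace_of_quasiSeparated f
  obtain ⟨m, Ui, hUaff, hcov, hUd⟩ :=
    Groth.Agent.Lib.ChowB_helper7.exists_dense_affine_cover X hirr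
  obtain ⟨U, hUdef⟩ : ∃ U : X.Opens, U = Finset.univ.inf Ui := ⟨_, rfl⟩
  have hU : ∀ i, U ≤ Ui i := fun i => hUdef ▸ Finset.inf_le (Finset.mem_univ i)
  have hUdense : Dense (U : Set X) :=
    hUdef ▸ Groth.Agent.Lib.ChowB_helper7.dense_finset_inf _ Ui (fun i _ => hUd i)
  have hUc : IsCompact (U : Set X) :=
    hUdef ▸ Groth.Agent.Lib.ChowB_helper7.isCompact_finset_inf _ Ui
      (fun i _ => (hUaff i).isCompact)
  haveI : CompactSpace U.toScheme := isCompact_iff_compactSpace.mp hUc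
  haveI : ∀ i, IsAffine (Ui i).toScheme := fun i => hUaff i
  have himm : ∀ i, ∃ (n : ℕ) (j : (Ui i).toScheme ⟶ ProjSpaceOver n S),
      IsImmersion j ∧ j ≫ ProjSpaceOver.toBase n S = (Ui i).ι ≫ f :=
    fun i => Groth.Agent.Lib.ChowA_helper7.exists_immersion_projSpaceOver ((Ui i).ι ≫ f)
  choose n ji hjimm hji using himm
  obtain ⟨P, pS, p, hP, hp, hl⟩ := Groth.Agent.Lib.ChowA_helper7.exists_prod S m n
  obtain ⟨j, hjS, hj⟩ := hl U.toScheme (U.ι ≫ f) (fun i => X.homOfLE (hU i) ≫ ji i)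
    (fun i => by rw [Category.assoc, hji i, Scheme.homOfLE_ι_assoc])
  haveI : IsProper pS := ((Groth.Agent.Lib.ProjSpaceProperH4.main9705 pS).mp hP).2
  haveI : ∀ i, IsSeparated (ProjSpaceOver.toBase (n i) S) := fun i => by
    haveI := Groth.Agent.Lib.ProjSpaceProperH4.isProper_toBase (n i) S
    infer_instance
  haveI := hjimm
  obtain ⟨X', π, q, r, hπq, h1, h2, h3, h4, h5, h6, h7, h8⟩ :=
    Groth.Agent.Lib.ChowD_helper7.chow_core f pS U hUdense Ui hcov hU
      (fun i => ProjSpaceOver.toBase (n i) S) ji hji p hp j hjS.symm hj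
  exact ⟨P, X', pS, π, q, U, r, hπq, hP, h1, h2, h3, h4, hUdense, h5, h6, h7, h8⟩

/-- Chow's lemma with an immersion into a projective space over `S`. -/
theorem chow_projSpace {X S : Scheme.{u}} (f : X ⟶ S) [CompactSpace S] [QuasiSeparatedSpace S]
    [IsSeparated f] [LocallyOfFiniteType f] [QuasiCompact f]
    (hirr : (irreducibleComponents X).Finite) :
    ∃ (n : ℕ) (X' : Scheme.{u}) (π : X' ⟶ X) (j : X' ⟶ ProjSpaceOver n S) (U : X.Opens)
      (r : U.toScheme ⟶ X'),
      IsImmersion j ∧ j ≫ ProjSpaceOver.toBase n S = π ≫ f ∧ IsProper π ∧ Surjective π ∧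
      Dense (U : Set X) ∧ IsIso (π ∣_ U) ∧ r ≫ π = U.ι ∧ QuasiCompact r ∧
      IsSchemeTheoreticallyDominant r ∧ RelProj.IsHProjective π := by
  obtain ⟨P, X', pS, π, q, U, r, hπq, hP, h1, h2, h3, h4, h5, h6, h7, h8, h9⟩ := chow_main f hirr
  have hfst : RelProj.IsHProjective (pullback.fst f pS) :=
    Groth.Agent.HProj.isHProjective_of_isPullback (IsPullback.of_hasPullback f pS).flip hP
  obtain ⟨N, iP, hiP, hiPS⟩ := hP
  haveI := hiP
  haveI := h4
  refine ⟨N, X', π, q ≫ iP, U, r, inferInstance, ?_, h2, h3, h5, h6, h7, h8, h9, ?_⟩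
  · rw [Category.assoc, hiPS, hπq]
  · obtain ⟨M, iY, hiY, hiYX⟩ := hfst
    haveI := hiY
    haveI := h1
    exact ⟨M, pullback.lift π q hπq ≫ iY, inferInstance, by
      rw [Category.assoc, hiYX, pullback.lift_fst]⟩

end Groth.Agent.Lib.ChowE_helper7
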