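import Mathlib
import Groth.Prelude
import Groth.Agent.Lib.ProperFin6_helper9
import Groth.Agent.Lib.ProperFin7_helper9
import Groth.Agent.Lib.ProperFin8_helper9
import Groth.Agent.Lib.CohDev16_helper8
import Groth.Agent.S0025

/-!
# Finiteness of cohomology for proper schemes, IX: assembly (helper9)
APPEND-ONLY once landed.
-/

set_option autoImplicit false
universe u
open CategoryTheory CategoryTheory.Limits AlgebraicGeometry TopologicalSpace Opposite

namespace ProperFinH9

section Assembly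

open CohB1 Groth.Agent.PushEdgeNat Groth.Agent.Lib.PushEdge2_helper7

theorem isCoh_of_isInvertible {Y : Scheme.{u}} {L : Y.Modules} (hL : PicF.IsInvertible L) :
    Coh.IsCoh L := by
  have hflf := TensH8.isFinLocFree_of_isInvertible hL
  haveI := FLFH8.isQuasicoherent_of_finLocFree _ hflf
  haveI := FLFH8.isFinitePresentation_of_finLocFree _ hflf
  exact ⟨inferInstance, inferInstance⟩

variable (A : Type u) [CommRing A] [IsNoetherianRing A] (X : Scheme.{u})
  [X.Over (Spec (CommRingCat.of A))] [IsProper (X ↘ Spec (CommRingCat.of A))]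

theorem hgen (Z : Scheme.{u}) (i : Z ⟶ X) [IsClosedImmersion i] [IsIntegral Z] :
    ∃ H : Z.Modules, Coh.IsCoh H ∧ Nontrivial (H.presheaf.stalk (genericPoint Z)) ∧
      KK A ((Scheme.Modules.pushforward i).obj H) := by
  let g : Z ⟶ Spec (CommRingCat.of A) := i ≫ (X ↘ Spec (CommRingCat.of A))
  haveI : IsProper g := inferInstanceAs (IsProper (i ≫ (X ↘ Spec (CommRingCat.of A))))
  haveI : IsNoetherian Z :=
    { __ := LocallyOfFiniteType.isLocallyNoetherian g
      __ := QuasiCompact.compactSpace_of_compactSpace g }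
  obtain ⟨N, Z', π, j, hj, hcomm, hπ, hsurj, U, hU, hiso⟩ := Groth.Agent.S0025.result g
  obtain ⟨hjc, c, hc, hcπ⟩ := exists_closedImmersion_of_chow N g π j hcomm
  subst hcπ
  obtain ⟨G, hGinv, hGcoh, hGvan⟩ := exists_good_invertible N Z c
  have hG : Coh.IsCoh G := isCoh_of_isInvertible hGinv
  refine ⟨_, hGcoh, nontrivial_stalk_pushforward _ hsurj.surj U hU G hGinv, ?_⟩
  intro q
  letI : Z.Over (Spec (CommRingCat.of A)) := ⟨g⟩
  letI : Z'.Over (Spec (CommRingCat.of A)) := ⟨(c ≫ ProjSpaceOver.toBase N Z) ≫ g⟩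
  haveI : G.IsQuasicoherent := hG.1
  haveI : ((Scheme.Modules.pushforward (c ≫ ProjSpaceOver.toBase N Z)).obj G).IsQuasicoherent :=
    hGcoh.1
  -- on `P^N_A`
  haveI h1 : IsNoetherian A (Coh.HH _ ((Scheme.Modules.pushforward j).obj G) q) :=
    KK_projSpaceOver A N _ (CohDevH8.isCoh_pushforward_of_isFinite j hG) q
  -- on `Z'`
  have hf₁ : j ≫ (ProjSpaceOver N (Spec (CommRingCat.of A)) ↘ Spec (CommRingCat.of A)) =
      (Z' ↘ Spec (CommRingCat.of A)) := hcomm
  haveI h2 : IsNoetherian A (Coh.HH Z' G q) :=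
    isNoetherian_of_linearEquiv (pushEdgeEquiv j hf₁ G q)
  -- on `Z`
  have hf₂ : (c ≫ ProjSpaceOver.toBase N Z) ≫ (Z ↘ Spec (CommRingCat.of A)) =
      (Z' ↘ Spec (CommRingCat.of A)) := rfl
  have hacyc : Groth.Agent.Lib.FAcyc.acyc (CohTop.push (c ≫ ProjSpaceOver.toBase N Z).base) (Coh.toAb G) :=
    fun k hk => hGvan k hk
  let E₂ := LinearEquiv.ofBijective (pushEdgeLin (c ≫ ProjSpaceOver.toBase N Z) hf₂ G q)
    (pushEdge_bijective_of_acyc (c ≫ ProjSpaceOver.toBase N Z) G hacyc q)
  haveI h3 : IsNoetherian A (Coh.HH Z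
      ((Scheme.Modules.pushforward (c ≫ ProjSpaceOver.toBase N Z)).obj G) q) :=
    isNoetherian_of_linearEquiv E₂.symm
  -- on `X`
  have hf₃ : i ≫ (X ↘ Spec (CommRingCat.of A)) = (Z ↘ Spec (CommRingCat.of A)) := rfl
  exact isNoetherian_of_linearEquiv (pushEdgeEquiv i hf₃ _ q).symm

theorem isZero_toAb_of_isEmpty [IsEmpty X] (M : X.Modules) : IsZero (Coh.toAb M) :=
  PnOverVanH9.isZero_of_basis (Coh.toAb M) (fun _ => False) (fun _ y _ => isEmptyElim y)
    (fun _ hW => hW.elim)

theorem subsingleton_HH_of_isEmpty [IsEmpty X] (M : X.Modules) (n : ℕ) :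
    Subsingleton (Coh.HH X M n) := by
  have hz := isZero_toAb_of_isEmpty X M
  refine ⟨fun x y => ?_⟩
  have key : ∀ z : Coh.HH X M n, z = 0 := by
    intro z
    have h1 : (show Abelian.Ext _ (Coh.toAb M) n from z) =
        (show Abelian.Ext _ (Coh.toAb M) n from z).comp (Abelian.Ext.mk₀ (𝟙 (Coh.toAb M)))
          (add_zero n) := (Abelian.Ext.comp_mk₀_id _).symm
    have h2 : 𝟙 (Coh.toAb M) = 0 := hz.eq_of_src _ _
    rw [h2, Abelian.Ext.mk₀_zero, Abelian.Ext.comp_zero] at h1
    exact h1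
  rw [key x, key y]

/-- **Finiteness of coherent cohomology for proper schemes over a Noetherian ring.** -/
theorem finite_HH_of_proper (M : X.Modules) (hM : Coh.IsCoh M) (n : ℕ) :
    Module.Finite A (Coh.HH X M n) := by
  haveI : IsNoetherian X :=
    { __ := LocallyOfFiniteType.isLocallyNoetherian (X ↘ Spec (CommRingCat.of A))
      __ := QuasiCompact.compactSpace_of_compactSpace (X ↘ Spec (CommRingCat.of A)) }
  rcases isEmpty_or_nonempty X with hX | hX
  · haveI := subsingleton_HH_of_isEmpty X M n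
    exact Module.Finite.of_finite
  · let K : ObjectProperty X.Modules := fun F => KK A F
    haveI : K.IsClosedUnderIsomorphisms := ⟨fun e h => KK_of_iso A e h⟩
    have hK : K M := CohDevH8.devissage_weak X K
      (fun S hS _ _ _ => ⟨fun h₂ h₃ => KK_left A S hS h₂ h₃, fun h₁ h₃ => KK_mid A S hS h₁ h₃⟩)
      (fun F d hd _ h => KK_of_sigma A F d hd h)
      (fun Z i _ _ => hgen A X Z i) M hM
    haveI := hK n
    exact Module.IsNoetherian.finite A _

end Assembly

end ProperFinH9
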