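import Mathlib

/-!
# Comparison of two `Ext`-families by dimension shifting (helper8)

`R₁ : C ⥤ D₁`, `R₂ : C ⥤ D₂`; a family of additive maps
`κ F n : Ext A₁ (R₁ F) n →+ Ext A₂ (R₂ F) n`, natural in `F` and compatible with the connecting
maps of short exact sequences `0 → F → I → Q → 0` (`I` injective, `F` in a class `P`) that both
functors keep exact, is bijective on `P` as soon as it is in degree `0`, provided both functors
send injectives to acyclic objects.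
APPEND-ONLY once landed.
-/

set_option autoImplicit false
set_option backward.isDefEq.respectTransparency false
universe w₁ w₂ v v₁ v₂ u u₁ u₂
open CategoryTheory CategoryTheory.Limits Abelian

namespace Groth.Agent.Lib.ExtCmpH8

variable {C : Type u} [Category.{v} C] [Abelian C] [EnoughInjectives C]
  {D₁ : Type u₁} [Category.{v₁} D₁] [Abelian D₁] [HasExt.{w₁} D₁]
  {D₂ : Type u₂} [Category.{v₂} D₂] [Abelian D₂] [HasExt.{w₂} D₂]
  (R₁ : C ⥤ D₁) (R₂ : C ⥤ D₂) [R₁.Additive] [R₂.Additive] (A₁ : D₁) (A₂ : D₂)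
  (P : C → Prop)
  (hPinj : ∀ I : C, Injective I → P I)
  (hP : ∀ (S : ShortComplex C), S.ShortExact → Injective S.X₂ → P S.X₁ →
    P S.X₃ ∧ (S.map R₁).ShortExact ∧ (S.map R₂).ShortExact)
  (hacy₁ : ∀ (I : C), Injective I → ∀ (q : ℕ) (x : Ext.{w₁} A₁ (R₁.obj I) (q + 1)), x = 0)
  (hacy₂ : ∀ (I : C), Injective I → ∀ (q : ℕ) (x : Ext.{w₂} A₂ (R₂.obj I) (q + 1)), x = 0)
  (κ : ∀ (F : C) (n : ℕ), Ext.{w₁} A₁ (R₁.obj F) n →+ Ext.{w₂} A₂ (R₂.obj F) n)
  (κnat : ∀ {F F' : C} (φ : F ⟶ F') (n : ℕ) (x : Ext.{w₁} A₁ (R₁.obj F) n),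
    κ F' n (x.comp (Ext.mk₀ (R₁.map φ)) (add_zero n)) =
      (κ F n x).comp (Ext.mk₀ (R₂.map φ)) (add_zero n))
  (κδ : ∀ (S : ShortComplex C) (h₁ : (S.map R₁).ShortExact) (h₂ : (S.map R₂).ShortExact) (n : ℕ)
    (x : Ext.{w₁} A₁ (R₁.obj S.X₃) n),
    κ S.X₁ (n + 1) (x.comp h₁.extClass rfl) = (κ S.X₃ n x).comp h₂.extClass rfl)
  (κ0 : ∀ F : C, P F → Function.Bijective (κ F 0))

include hPinj hP hacy₁ hacy₂ κnat κδ κ0 in
theorem bijective (n : ℕ) : ∀ F : C, P F → Function.Bijective (κ F n) := by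
  induction n with
  | zero => exact κ0
  | succ n hn =>
    intro F hF
    let I : InjectivePresentation F := Classical.arbitrary _
    let S := ShortComplex.mk _ _ (cokernel.condition I.f)
    have hS : S.ShortExact := { exact := ShortComplex.exact_cokernel I.f }
    haveI hI : Injective S.X₂ := I.injective
    obtain ⟨hQ, h₁, h₂⟩ := hP S hS hI hF
    have hPI : P S.X₂ := hPinj _ hI
    constructor
    · intro x x' hxx'
      rw [← sub_eq_zero]
      have hx0 : κ S.X₁ (n + 1) (x - x') = 0 := by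
        rw [map_sub]; exact sub_eq_zero.2 hxx'
      generalize x - x' = x at hx0
      obtain ⟨y, hy⟩ : ∃ y : Ext.{w₁} A₁ (S.map R₁).X₃ n, y.comp h₁.extClass rfl = x :=
        Ext.covariant_sequence_exact₁ A₁ h₁ x (hacy₁ _ hI _ _) rfl
      have hx0' : (κ S.X₃ n y).comp h₂.extClass rfl = 0 :=
        (κδ S h₁ h₂ n y).symm.trans ((congrArg (κ S.X₁ (n + 1)) hy).trans hx0)
      obtain ⟨z, hz⟩ := Ext.covariant_sequence_exact₃ A₂ h₂ _ rfl hx0'
      obtain ⟨z', hz'⟩ := (hn S.X₂ hPI).2 z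
      have h3 : κ S.X₃ n (z'.comp (Ext.mk₀ (R₁.map S.g)) (add_zero n)) = κ S.X₃ n y :=
        (κnat S.g n z').trans
          ((congrArg (fun t => t.comp (Ext.mk₀ (R₂.map S.g)) (add_zero n)) hz').trans hz)
      have hy2 : z'.comp (Ext.mk₀ (R₁.map S.g)) (add_zero n) = y := (hn S.X₃ hQ).1 h3
      refine hy.symm.trans ?_
      refine (congrArg (fun t => t.comp h₁.extClass rfl) hy2).symm.trans ?_
      refine (Ext.comp_assoc_of_second_deg_zero z' (Ext.mk₀ (S.map R₁).g) h₁.extClass rfl).trans ?_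
      exact (congrArg (fun t => z'.comp t rfl) h₁.comp_extClass).trans (Ext.comp_zero _ _ _ _ _)
    · intro y
      obtain ⟨y₃, hy₃⟩ : ∃ y₃ : Ext.{w₂} A₂ (S.map R₂).X₃ n, y₃.comp h₂.extClass rfl = y :=
        Ext.covariant_sequence_exact₁ A₂ h₂ y (hacy₂ _ hI _ _) rfl
      obtain ⟨e, he⟩ := (hn S.X₃ hQ).2 y₃
      refine ⟨e.comp h₁.extClass rfl, ?_⟩
      refine (κδ S h₁ h₂ n e).trans ?_
      exact (congrArg (fun t => t.comp h₂.extClass rfl) he).trans hy₃

end Groth.Agent.Lib.ExtCmpH8
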