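import Mathlib
import Groth.Prelude.Def_CohTop
import Groth.Agent.Lib.ULiftSh_helper8
import Groth.Agent.Lib.ExtCmp_helper8
import Groth.Agent.Lib.EtExtFr_helper7

/-!
# Natural comparison of the cohomology of an abelian sheaf with that of its universe lift (helper8)
APPEND-ONLY once landed.
-/

set_option autoImplicit false
set_option backward.isDefEq.respectTransparency false
universe u
open CategoryTheory CategoryTheory.Limits Opposite Abelian TopologicalSpace

namespace Groth.Agent.Lib.ULiftCmpH8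

open Groth.Agent.Lib.ULiftShH8 Groth.Agent.Lib.EtExtFr_helper7

variable (X : TopCat.{u})
  [HasSheafify (Opens.grothendieckTopology X) AddCommGrpCat.{u + 1}]
  [HasExt.{u + 1} (Sheaf (Opens.grothendieckTopology X) AddCommGrpCat.{u + 1})]
  [EnoughInjectives (Sheaf (Opens.grothendieckTopology X) AddCommGrpCat.{u + 1})]

instance : PreservesFiniteColimits (L X) :=
  (Functor.preservesFiniteColimits_iff_forall_exact_map_and_epi (L X)).2
    (fun S hS => ⟨(shortExact_L X S hS).exact, (shortExact_L X S hS).epi_g⟩)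

/-- the constant sheaf `ℤ` with values in `AddCommGrpCat.{u}` -/
noncomputable abbrev Zu : Sheaf (Opens.grothendieckTopology X) AddCommGrpCat.{u} :=
  (constantSheaf (Opens.grothendieckTopology X) AddCommGrpCat.{u}).obj
    (AddCommGrpCat.of (ULift.{u} ℤ))

/-- the constant sheaf `ℤ` with values in `AddCommGrpCat.{u+1}` -/
noncomputable abbrev Zu' : Sheaf (Opens.grothendieckTopology X) AddCommGrpCat.{u + 1} :=
  (constantSheaf (Opens.grothendieckTopology X) AddCommGrpCat.{u + 1}).obj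
    (AddCommGrpCat.of (ULift.{u + 1} ℤ))

/-- the canonical global section of `ℤ` -/
noncomputable def oneU : (Zu X).obj.obj (op (⊤ : Opens X)) :=
  Sheaf.H.equiv₀ (Zu X) isTerminalTop (Ext.mk₀ (𝟙 (Zu X)))

/-- the comparison map `ℤ ⟶ L ℤ` -/
noncomputable def σ : Zu' X ⟶ (L X).obj (Zu X) :=
  Ext.addEquiv₀ ((Sheaf.H.equiv₀ ((L X).obj (Zu X)) isTerminalTop).symm (ULift.up (oneU X)))

lemma equiv₀_σ : Sheaf.H.equiv₀ ((L X).obj (Zu X)) isTerminalTop (Ext.mk₀ (σ X)) =
    ULift.up (oneU X) := by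
  unfold σ
  rw [Ext.mk₀_addEquiv₀_apply, AddEquiv.apply_symm_apply]

/-- the natural comparison map -/
noncomputable def κ (F : Sheaf (Opens.grothendieckTopology X) AddCommGrpCat.{u}) (n : ℕ) :
    CohTop.H (X := X) F n →+ Sheaf.H ((L X).obj F) n :=
  Ψ (L X) (σ X) F n

lemma κ_zero (F : Sheaf (Opens.grothendieckTopology X) AddCommGrpCat.{u})
    (x : CohTop.H (X := X) F 0) :
    Sheaf.H.equiv₀ ((L X).obj F) isTerminalTop (κ X F 0 x) =
      ULift.up (Sheaf.H.equiv₀ F isTerminalTop x) := by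
  obtain ⟨f, rfl⟩ := (Ext.mk₀_bijective _ _).2 x
  have h1 : κ X F 0 (Ext.mk₀ f) = Sheaf.H.map ((L X).map f) 0 (Ext.mk₀ (σ X)) := by
    show Ψ (L X) (σ X) F 0 (Ext.mk₀ f) = _
    rw [Ψ_mk₀, Sheaf.H.map_apply, Ext.mk₀_comp_mk₀]
  rw [h1, ← Sheaf.H.equiv₀_naturality, equiv₀_σ]
  have h2 : Ext.mk₀ f = Sheaf.H.map f 0 (Ext.mk₀ (𝟙 (Zu X))) := by
    rw [Sheaf.H.map_apply, Ext.mk₀_comp_mk₀, Category.id_comp]
  rw [h2, ← Sheaf.H.equiv₀_naturality]
  rfl

lemma κ_zero_bijective (F : Sheaf (Opens.grothendieckTopology X) AddCommGrpCat.{u}) :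
    Function.Bijective (κ X F 0) := by
  have h : ∀ x, κ X F 0 x = (Sheaf.H.equiv₀ ((L X).obj F) isTerminalTop).symm
      (ULift.up (Sheaf.H.equiv₀ F isTerminalTop x)) := by
    intro x
    rw [← κ_zero, AddEquiv.symm_apply_apply]
  have hb : Function.Bijective (fun x : CohTop.H (X := X) F 0 =>
      (Sheaf.H.equiv₀ ((L X).obj F) isTerminalTop).symm
        (ULift.up (Sheaf.H.equiv₀ F isTerminalTop x))) :=
    (Sheaf.H.equiv₀ ((L X).obj F) isTerminalTop).symm.bijective.comp
      (Equiv.ulift.symm.bijective.comp (Sheaf.H.equiv₀ F isTerminalTop).bijective)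
  have : (fun x => κ X F 0 x) = _ := funext h
  rw [show ⇑(κ X F 0) = fun x => κ X F 0 x from rfl, this]
  exact hb

/-- naturality of the comparison map -/
lemma κ_nat {F F' : Sheaf (Opens.grothendieckTopology X) AddCommGrpCat.{u}} (φ : F ⟶ F') (n : ℕ)
    (x : CohTop.H (X := X) F n) :
    κ X F' n (Sheaf.H.map φ n x) = Sheaf.H.map ((L X).map φ) n (κ X F n x) :=
  Ψ_comp_mk₀ (L X) (σ X) φ n x

/-- the comparison map is bijective -/
theorem κ_bijective (n : ℕ) (F : Sheaf (Opens.grothendieckTopology X) AddCommGrpCat.{u}) :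
    Function.Bijective (κ X F n) := by
  refine Groth.Agent.Lib.ExtCmpH8.bijective
    (𝟭 (Sheaf (Opens.grothendieckTopology X) AddCommGrpCat.{u})) (L X) (Zu X) (Zu' X)
    (fun _ => True) (fun _ _ => trivial) ?_ ?_ ?_ (κ X) ?_ ?_ (fun F _ => κ_zero_bijective X F)
    n F trivial
  · intro S hS _ _
    exact ⟨trivial, hS.map_of_exact _, shortExact_L X S hS⟩
  · intro I hI q x
    haveI : Injective ((𝟭 _).obj I) := hI
    exact Ext.eq_zero_of_injective x
  · intro I hI q x
    haveI := hI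
    exact L_acyclic X I q x
  · intro F F' φ n x
    exact Ψ_comp_mk₀ (L X) (σ X) φ n x
  · intro S h₁ h₂ n x
    have hS : S.ShortExact := h₁
    exact Ψ_comp_extClass (L X) (σ X) S hS n x

end Groth.Agent.Lib.ULiftCmpH8
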