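import Mathlib
import Groth.Prelude.Def_EtZar
import Groth.Agent.Lib.ZarCont_helper8
import Groth.Agent.Lib.ExtCmp_helper8
import Groth.Agent.Lib.EtExtFr_helper7
import Groth.Agent.Lib.EtZarAcyc_helper7
import Groth.Agent.Lib.EtZarEquiv_helper7
import Groth.Agent.Lib.ColimExt1_helper9

/-!
# Natural comparison of Zariski and étale cohomology for étale sheaves acyclic on affines (helper8)
APPEND-ONLY once landed.
-/

set_option autoImplicit false
set_option backward.isDefEq.respectTransparency false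
universe u
open CategoryTheory CategoryTheory.Limits AlgebraicGeometry Opposite Abelian TopologicalSpace

namespace Groth.Agent.Lib.ZarCmpH8

open Groth.Agent.Lib.EtSchSite_helper7 Groth.Agent.Lib.BigSmallZar_helper7
  Groth.Agent.Lib.EtZarAcyc_helper7 Groth.Agent.Lib.EtZarEquiv_helper7
  Groth.Agent.Lib.EtExtFr_helper7

variable (S : Scheme.{u}) [EtZar.ZarCont S]

/-- the constant Zariski sheaf `ℤ` -/
noncomputable abbrev Zzar : EtZar.Ab S :=
  (constantSheaf (Opens.grothendieckTopology S) AddCommGrpCat.{u + 1}).obj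
    (AddCommGrpCat.of (ULift.{u + 1} ℤ))

/-- the constant étale sheaf `ℤ` -/
noncomputable abbrev Zet : EtCoh.Ab S :=
  (constantSheaf S.smallEtaleTopology AddCommGrpCat.{u + 1}).obj
    (AddCommGrpCat.of (ULift.{u + 1} ℤ))

/-- the open `⊤` is terminal in the small étale site -/
noncomputable def hTet : IsTerminal ((EtZar.zarToEt S).obj ⊤) :=
  IsTerminal.ofIso (EtCore.topIsTerminal S) (jIso S)

instance : PreservesFiniteColimits (zarPull S) := by
  haveI : PreservesColimitsOfSize.{0, 0} (zarPull S) := (zarAdj S).leftAdjoint_preservesColimits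
  exact PreservesColimitsOfSize.preservesFiniteColimits _

instance : (zarPull S).Additive := Functor.additive_of_preserves_binary_products _

/-- the canonical global section of `ℤ` -/
noncomputable def oneZ : (Zzar S).obj.obj (op (⊤ : S.Opens)) :=
  Sheaf.H.equiv₀ (Zzar S) isTerminalTop (Ext.mk₀ (𝟙 (Zzar S)))

/-- the comparison map `ℤ ⟶ zarPull ℤ` -/
noncomputable def σ : Zet S ⟶ (zarPull S).obj (Zzar S) :=
  Ext.addEquiv₀ ((Sheaf.H.equiv₀ ((zarPull S).obj (Zzar S)) (hTet S)).symm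
    (((zarAdj S).unit.app (Zzar S)).hom.app (op (⊤ : S.Opens)) (oneZ S)))

lemma equiv₀_σ : Sheaf.H.equiv₀ ((zarPull S).obj (Zzar S)) (hTet S) (Ext.mk₀ (σ S)) =
    ((zarAdj S).unit.app (Zzar S)).hom.app (op (⊤ : S.Opens)) (oneZ S) := by
  unfold σ
  rw [Ext.mk₀_addEquiv₀_apply, AddEquiv.apply_symm_apply]

/-- the natural comparison map -/
noncomputable def κ (F : EtCoh.Ab S) (n : ℕ) :
    EtZar.H ((EtZar.resZar S).obj F) n →+ EtCoh.H S F n :=
  ((Ext.mk₀ ((zarAdj S).counit.app F)).postcomp (Zet S) (add_zero n)).comp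
    (Ψ (zarPull S) (σ S) ((EtZar.resZar S).obj F) n)

lemma κ_apply (F : EtCoh.Ab S) (n : ℕ) (x : EtZar.H ((EtZar.resZar S).obj F) n) :
    κ S F n x = (Ψ (zarPull S) (σ S) ((EtZar.resZar S).obj F) n x).comp
      (Ext.mk₀ ((zarAdj S).counit.app F)) (add_zero n) := rfl

lemma κ_nat' {F F' : EtCoh.Ab S} (φ : F ⟶ F') (n : ℕ)
    (x : EtZar.H ((EtZar.resZar S).obj F) n) :
    κ S F' n (x.comp (Ext.mk₀ ((EtZar.resZar S).map φ)) (add_zero n)) =
      (κ S F n x).comp (Ext.mk₀ φ) (add_zero n) := by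
  rw [κ_apply, κ_apply, Ψ_comp_mk₀, Ext.comp_assoc_of_third_deg_zero,
    Ext.comp_assoc_of_third_deg_zero, Ext.mk₀_comp_mk₀, Ext.mk₀_comp_mk₀]
  congr 2
  exact (zarAdj S).counit.naturality φ

/-- naturality of the comparison map -/
lemma κ_nat {F F' : EtCoh.Ab S} (φ : F ⟶ F') (n : ℕ)
    (x : EtZar.H ((EtZar.resZar S).obj F) n) :
    κ S F' n (Sheaf.H.map ((EtZar.resZar S).map φ) n x) = Sheaf.H.map φ n (κ S F n x) :=
  κ_nat' S φ n x

lemma κ_δ (Sx : ShortComplex (EtCoh.Ab S)) (h₁ : (Sx.map (EtZar.resZar S)).ShortExact)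
    (h₂ : (Sx.map (𝟭 (EtCoh.Ab S))).ShortExact) (n : ℕ)
    (x : EtZar.H ((EtZar.resZar S).obj Sx.X₃) n) :
    κ S Sx.X₁ (n + 1) (x.comp h₁.extClass rfl) = (κ S Sx.X₃ n x).comp h₂.extClass rfl := by
  rw [κ_apply, κ_apply]
  have h1 := Ψ_comp_extClass (zarPull S) (σ S) (Sx.map (EtZar.resZar S)) h₁ n x
  let f : (Sx.map (EtZar.resZar S)).map (zarPull S) ⟶ Sx.map (𝟭 (EtCoh.Ab S)) :=
    { τ₁ := (zarAdj S).counit.app Sx.X₁
      τ₂ := (zarAdj S).counit.app Sx.X₂
      τ₃ := (zarAdj S).counit.app Sx.X₃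
      comm₁₂ := ((zarAdj S).counit.naturality Sx.f).symm
      comm₂₃ := ((zarAdj S).counit.naturality Sx.g).symm }
  have h2 := ColimExt.comp_extClass_naturality (Zet S) (h₁.map_of_exact (zarPull S)) h₂ f
    (Ψ (zarPull S) (σ S) ((EtZar.resZar S).obj Sx.X₃) n x)
  refine Eq.trans ?_ h2
  exact congrArg (fun t => t.comp (Ext.mk₀ ((zarAdj S).counit.app Sx.X₁)) (add_zero (n + 1))) h1

end Groth.Agent.Lib.ZarCmpH8
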