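import Mathlib
import Groth.Agent.Lib.ZarCmp_helper8

/-!
# Natural comparison of Zariski and étale cohomology, part 2 (helper8)
APPEND-ONLY once landed.
-/

set_option autoImplicit false
set_option backward.isDefEq.respectTransparency false
universe u
open CategoryTheory CategoryTheory.Limits AlgebraicGeometry Opposite Abelian TopologicalSpace

namespace Groth.Agent.Lib.ZarCmpH8

open Groth.Agent.Lib.EtSchSite_helper7 Groth.Agent.Lib.BigSmallZar_helper7
  Groth.Agent.Lib.EtZarAcyc_helper7 Groth.Agent.Lib.EtZarEquiv_helper7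
  Groth.Agent.Lib.EtExtFr_helper7

variable (S : Scheme.{u}) [EtZar.ZarCont S]

lemma κ_zero (F : EtCoh.Ab S) (x : EtZar.H ((EtZar.resZar S).obj F) 0) :
    Sheaf.H.equiv₀ F (hTet S) (κ S F 0 x) =
      Sheaf.H.equiv₀ ((EtZar.resZar S).obj F) isTerminalTop x := by
  obtain ⟨f, rfl⟩ := (Ext.mk₀_bijective _ _).2 x
  have h1 : κ S F 0 (Ext.mk₀ f) =
      Sheaf.H.map ((zarPull S).map f ≫ (zarAdj S).counit.app F) 0 (Ext.mk₀ (σ S)) := by
    rw [κ_apply, Ψ_mk₀, Sheaf.H.map_apply, Ext.mk₀_comp_mk₀, Ext.mk₀_comp_mk₀, Category.assoc]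
  have h2 : Ext.mk₀ f = Sheaf.H.map f 0 (Ext.mk₀ (𝟙 (Zzar S))) := by
    rw [Sheaf.H.map_apply, Ext.mk₀_comp_mk₀, Category.id_comp]
  have h3 : (zarAdj S).unit.app (Zzar S) ≫
      (EtZar.resZar S).map ((zarPull S).map f ≫ (zarAdj S).counit.app F) = f := by
    have e1 : ((zarAdj S).homEquiv (Zzar S) F).symm f =
        (zarPull S).map f ≫ (zarAdj S).counit.app F := Adjunction.homEquiv_symm_apply _ _ _ _
    have e2 : ((zarAdj S).homEquiv (Zzar S) F) ((zarPull S).map f ≫ (zarAdj S).counit.app F) =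
        (zarAdj S).unit.app (Zzar S) ≫
          (EtZar.resZar S).map ((zarPull S).map f ≫ (zarAdj S).counit.app F) :=
      Adjunction.homEquiv_apply _ _ _ _
    rw [← e2, ← e1, Equiv.apply_symm_apply]
  have h4 := congrArg (fun m : Zzar S ⟶ (EtZar.resZar S).obj F =>
    m.hom.app (op (⊤ : S.Opens)) (oneZ S)) h3
  have h5 : Sheaf.H.equiv₀ F (hTet S) (κ S F 0 (Ext.mk₀ f)) =
      ((zarPull S).map f ≫ (zarAdj S).counit.app F).hom.app (op ((EtZar.zarToEt S).obj ⊤))
        (Sheaf.H.equiv₀ ((zarPull S).obj (Zzar S)) (hTet S) (Ext.mk₀ (σ S))) :=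
    (congrArg (Sheaf.H.equiv₀ F (hTet S)) h1).trans
      (Sheaf.H.equiv₀_naturality (hT := hTet S)
        ((zarPull S).map f ≫ (zarAdj S).counit.app F) (Ext.mk₀ (σ S))).symm
  have h5' : ((zarPull S).map f ≫ (zarAdj S).counit.app F).hom.app
        (op ((EtZar.zarToEt S).obj ⊤))
        (Sheaf.H.equiv₀ ((zarPull S).obj (Zzar S)) (hTet S) (Ext.mk₀ (σ S))) =
      ((zarPull S).map f ≫ (zarAdj S).counit.app F).hom.app (op ((EtZar.zarToEt S).obj ⊤))
        (((zarAdj S).unit.app (Zzar S)).hom.app (op (⊤ : S.Opens)) (oneZ S)) :=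
    congrArg (((zarPull S).map f ≫ (zarAdj S).counit.app F).hom.app
        (op ((EtZar.zarToEt S).obj ⊤))) (equiv₀_σ S)
  have h6 : Sheaf.H.equiv₀ ((EtZar.resZar S).obj F) isTerminalTop (Ext.mk₀ f) =
      f.hom.app (op (⊤ : S.Opens)) (oneZ S) :=
    (congrArg (Sheaf.H.equiv₀ ((EtZar.resZar S).obj F) isTerminalTop) h2).trans
      (Sheaf.H.equiv₀_naturality (hT := (isTerminalTop : IsTerminal (⊤ : S.Opens))) f
        (Ext.mk₀ (𝟙 (Zzar S)))).symm
  exact (h5.trans h5').trans (h4.trans h6.symm)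

lemma κ_zero_bijective (F : EtCoh.Ab S) : Function.Bijective (κ S F 0) := by
  have h : ∀ x, κ S F 0 x = (Sheaf.H.equiv₀ F (hTet S)).symm
      (Sheaf.H.equiv₀ ((EtZar.resZar S).obj F) isTerminalTop x) := by
    intro x
    rw [← κ_zero, AddEquiv.symm_apply_apply]
  have hb : Function.Bijective (fun x : EtZar.H ((EtZar.resZar S).obj F) 0 =>
      (Sheaf.H.equiv₀ F (hTet S)).symm
        (Sheaf.H.equiv₀ ((EtZar.resZar S).obj F) isTerminalTop x)) :=
    (Sheaf.H.equiv₀ F (hTet S)).symm.bijective.comp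
      (Sheaf.H.equiv₀ ((EtZar.resZar S).obj F) isTerminalTop).bijective
  have : (fun x => κ S F 0 x) = _ := funext h
  rw [show ⇑(κ S F 0) = fun x => κ S F 0 x from rfl, this]
  exact hb

/-- the comparison map is bijective on sheaves acyclic on affines -/
theorem κ_bijective (n : ℕ) (F : EtCoh.Ab S) (hF : AffAcy S F) :
    Function.Bijective (κ S F n) := by
  refine Groth.Agent.Lib.ExtCmpH8.bijective
    (EtZar.resZar S) (𝟭 (EtCoh.Ab S)) (Zzar S) (Zet S)
    (AffAcy S) ?_ ?_ ?_ ?_ (κ S) ?_ ?_ (fun F _ => κ_zero_bijective S F)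
    n F hF
  · intro I hI W hW q hq x
    obtain ⟨m, rfl⟩ : ∃ m, q = m + 1 := ⟨q - 1, by omega⟩
    haveI := hI
    exact Ext.eq_zero_of_injective x
  · intro Sx hS hI h1
    exact ⟨@affAcy_X₃ S Sx hS hI h1, shortExact_res Sx hS h1, hS.map_of_exact _⟩
  · intro I hI q x
    haveI := hI
    haveI : Injective ((EtZar.resZar S).obj I) := (EtZar.resZar S).injective_obj I
    exact Ext.eq_zero_of_injective x
  · intro I hI q x
    haveI : Injective ((𝟭 _).obj I) := hI
    exact Ext.eq_zero_of_injective x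
  · intro F F' φ n x
    exact κ_nat' S φ n x
  · intro Sx h₁ h₂ n x
    exact κ_δ S Sx h₁ h₂ n x

end Groth.Agent.Lib.ZarCmpH8
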