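import Mathlib
import Groth.Agent.Lib.ZarCmp2_helper8
import Groth.Agent.Lib.ULiftCmp_helper8
import Groth.Agent.Lib.ASZar_helper8
import Groth.Agent.Lib.FrobSurj_helper8
import Groth.Agent.Lib.ProperFin9_helper9
import Groth.Agent.Lib.CohDev8_helper8
import Groth.Agent.Lib.ASCoh2_helper8

/-!
# Artin–Schreier on the cohomology of `G_a` of a proper scheme over a separably closed field
(helper8)
APPEND-ONLY once landed.
-/

set_option autoImplicit false
set_option backward.isDefEq.respectTransparency false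
universe u
open CategoryTheory CategoryTheory.Limits AlgebraicGeometry Opposite Abelian TopologicalSpace

namespace Groth.Agent.Lib.ASMainH8

open Groth.Agent.Lib.ULiftShH8 Groth.Agent.Lib.GaZarH8 Groth.Agent.Lib.ASZarH8

variable (X : Scheme.{u})

lemma affAcy_Ga : Groth.Agent.Lib.EtZarAcyc_helper7.AffAcy X (EtCoh.Ga X) := by
  intro W hW n hn x
  obtain ⟨m, rfl⟩ : ∃ m, n = m + 1 := ⟨n - 1, by omega⟩
  exact Groth.Agent.Lib.EtCartanH8.ext_vanish m _ (Groth.Agent.Lib.EtCartanH8.affCech_Ga X) W hW x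

instance : EtZar.ZarCont X := Groth.Agent.Lib.ZarContH8.zarCont X

/-- the comparison `H^q(X, O_X) → H^q(X_ét, G_a)` -/
noncomputable def θ (q : ℕ) :
    Coh.HH X (Coh.structureModule X) q →+ EtCoh.H X (EtCoh.Ga X) q :=
  (Groth.Agent.Lib.ZarCmpH8.κ X (EtCoh.Ga X) q).comp
    ((Sheaf.H.map (gaIso X).inv q).comp
      (Groth.Agent.Lib.ULiftCmpH8.κ X.carrier (Coh.toAb (Coh.structureModule X)) q))

lemma θ_apply (q : ℕ) (x : Coh.HH X (Coh.structureModule X) q) :
    θ X q x = Groth.Agent.Lib.ZarCmpH8.κ X (EtCoh.Ga X) q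
      (Sheaf.H.map (gaIso X).inv q
        (Groth.Agent.Lib.ULiftCmpH8.κ X.carrier (Coh.toAb (Coh.structureModule X)) q x)) := rfl

lemma H_map_iso_bijective {C : Type*} [Category C] {J : GrothendieckTopology C}
    [HasSheafify J AddCommGrpCat.{u + 1}] [HasExt.{u + 1} (Sheaf J AddCommGrpCat.{u + 1})]
    {F G : Sheaf J AddCommGrpCat.{u + 1}} (e : F ≅ G) (q : ℕ) :
    Function.Bijective (Sheaf.H.map e.hom q) := by
  refine Function.bijective_iff_has_inverse.2 ⟨Sheaf.H.map e.inv q, fun x => ?_, fun x => ?_⟩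
  · rw [← Sheaf.H.map_comp_apply, e.hom_inv_id, Sheaf.H.map_id_apply]
  · rw [← Sheaf.H.map_comp_apply, e.inv_hom_id, Sheaf.H.map_id_apply]

theorem θ_bijective (q : ℕ) : Function.Bijective (θ X q) := by
  have h1 := Groth.Agent.Lib.ULiftCmpH8.κ_bijective X.carrier q
    (Coh.toAb (Coh.structureModule X))
  have h2 := H_map_iso_bijective (gaIso X).symm q
  have h3 := Groth.Agent.Lib.ZarCmpH8.κ_bijective X q (EtCoh.Ga X) (affAcy_Ga X)
  exact h3.comp (h2.comp h1)

variable (p : ℕ) (hp : p.Prime) (h0 : (p : Γ(X, ⊤)) = 0)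

theorem θ_nat (q : ℕ) (x : Coh.HH X (Coh.structureModule X) q) :
    θ X q (Sheaf.H.map (asZar X p hp h0) q x) =
      Sheaf.H.map (W4c5etcohweilstudent.artinSchreierEndo X p hp h0) q (θ X q x) := by
  rw [θ_apply, θ_apply, Groth.Agent.Lib.ULiftCmpH8.κ_nat, ← Sheaf.H.map_comp_apply,
    gaIso_AS', Sheaf.H.map_comp_apply, Groth.Agent.Lib.ZarCmpH8.κ_nat]

lemma H_asZar (q : ℕ) (x : Coh.HH X (Coh.structureModule X) q) :
    Sheaf.H.map (asZar X p hp h0) q x = Sheaf.H.map (frobZar X p hp h0) q x - x := by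
  have h : frobZar X p hp h0 = asZar X p hp h0 + 𝟙 _ := (sub_add_cancel _ _).symm
  rw [h, Sheaf.H.map_add_apply, Sheaf.H.map_id_apply, add_sub_cancel_right]

section Field

variable {k : Type u} [Field k] [Fact p.Prime] [CharP k p]
  (f : X ⟶ Spec (CommRingCat.of k))
include f

/-- semilinearity of Frobenius on cohomology -/
lemma frob_smul (q : ℕ) :
    letI : X.Over (Spec (CommRingCat.of k)) := ⟨f⟩
    ∀ (r : k) (v : Coh.HH X (Coh.structureModule X) q),
      Sheaf.H.map (frobZar X p hp h0) q (r • v) =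
        r ^ p • Sheaf.H.map (frobZar X p hp h0) q v := by
  letI : X.Over (Spec (CommRingCat.of k)) := ⟨f⟩
  intro r v
  change Sheaf.H.map (frobZar X p hp h0) q
      (Sheaf.H.map (Coh.smulAb (Coh.structureModule X) (Coh.toGlobal f r)) q v) =
    Sheaf.H.map (Coh.smulAb (Coh.structureModule X) (Coh.toGlobal f (r ^ p))) q
      (Sheaf.H.map (frobZar X p hp h0) q v)
  rw [← Sheaf.H.map_comp_apply, ← Sheaf.H.map_comp_apply, smulAb_frobZar, map_pow]

variable [IsProper f]

theorem surjective_asZar [IsSepClosed k] (q : ℕ) :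
    Function.Surjective (Sheaf.H.map (asZar X p hp h0) q) := by
  letI : X.Over (Spec (CommRingCat.of k)) := ⟨f⟩
  haveI : IsProper (X ↘ Spec (CommRingCat.of k)) := ‹IsProper f›
  haveI : Module.Finite k (Coh.HH X (Coh.structureModule X) q) :=
    ProperFinH9.finite_HH_of_proper k X _ (CohDevH8.isCoh_structureModule X) q
  have h := Groth.Agent.Lib.FrobSurjH8.surjective_sub' p
    (Sheaf.H.map (frobZar X p hp h0) q) (frob_smul X p hp h0 f q)
  intro y
  obtain ⟨x, hx⟩ := h y
  exact ⟨x, (H_asZar X p hp h0 q x).trans hx⟩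

/-- **Artin–Schreier is surjective on `H^q(X_ét, G_a)`** -/
theorem surjective_AS [IsSepClosed k] (q : ℕ) :
    Function.Surjective
      (Sheaf.H.map (W4c5etcohweilstudent.artinSchreierEndo X p hp h0) q) := by
  intro y
  obtain ⟨x, rfl⟩ := (θ_bijective X q).2 y
  obtain ⟨x', rfl⟩ := surjective_asZar X p hp h0 f q x
  exact ⟨θ X q x', (θ_nat X p hp h0 q x').symm⟩

/-- the kernel of Artin–Schreier on `H^q(X_ét, G_a)` is finite -/
theorem finite_ker_AS (q : ℕ) :
    Finite {y : EtCoh.H X (EtCoh.Ga X) q //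
      Sheaf.H.map (W4c5etcohweilstudent.artinSchreierEndo X p hp h0) q y = 0} := by
  letI : X.Over (Spec (CommRingCat.of k)) := ⟨f⟩
  haveI : IsProper (X ↘ Spec (CommRingCat.of k)) := ‹IsProper f›
  haveI : Module.Finite k (Coh.HH X (Coh.structureModule X) q) :=
    ProperFinH9.finite_HH_of_proper k X _ (CohDevH8.isCoh_structureModule X) q
  haveI h := Groth.Agent.Lib.FrobSurjH8.finite_fixed p
    (Sheaf.H.map (frobZar X p hp h0) q) (frob_smul X p hp h0 f q)
  let g : {v : Coh.HH X (Coh.structureModule X) q //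
      Sheaf.H.map (frobZar X p hp h0) q v = v} →
      {y : EtCoh.H X (EtCoh.Ga X) q //
        Sheaf.H.map (W4c5etcohweilstudent.artinSchreierEndo X p hp h0) q y = 0} :=
    fun v => ⟨θ X q v.1, by
      rw [← θ_nat, H_asZar, v.2, sub_self, map_zero]⟩
  refine Finite.of_surjective g ?_
  rintro ⟨y, hy⟩
  obtain ⟨x, rfl⟩ := (θ_bijective X q).2 y
  rw [← θ_nat] at hy
  have hx : Sheaf.H.map (asZar X p hp h0) q x = 0 :=
    (θ_bijective X q).1 (hy.trans (map_zero _).symm)
  rw [H_asZar, sub_eq_zero] at hx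
  exact ⟨⟨x, hx⟩, rfl⟩

end Field

end Groth.Agent.Lib.ASMainH8
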