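import Mathlib
import Groth.Agent.Lib.ASMain_helper8
import Groth.Agent.Lib.ULiftSite_helper8

/-!
# Consequences of Artin–Schreier surjectivity for `H^q(X_ét, ℤ/p)` (helper8)
APPEND-ONLY once landed.
-/

set_option autoImplicit false
set_option backward.isDefEq.respectTransparency false
universe u
open CategoryTheory CategoryTheory.Limits AlgebraicGeometry Opposite Abelian TopologicalSpace

namespace Groth.Agent.Lib.ASMainH8

open Groth.Agent.Lib.ASCoh2H8

variable (X : Scheme.{u}) (p : ℕ) [hp : Fact p.Prime]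

lemma natCast_eq_zero_of_charP {k : Type u} [Field k] [CharP k p]
    (f : X ⟶ Spec (CommRingCat.of k)) : (p : Γ(X, ⊤)) = 0 := by
  have h := map_natCast (Coh.toGlobal f) p
  rw [CharP.cast_eq_zero k p, map_zero] at h
  exact h.symm

variable (h0 : (p : Γ(X, ⊤)) = 0)

/-- a class of `H^{n+1}(K)` dying in `H^{n+1}(G_a)` vanishes when Artin–Schreier is onto in
degree `n` -/
lemma eq_zero_of_comp_eq_zero (n : ℕ)
    (hs : Function.Surjective (Sheaf.H.map (AS X p h0) n))
    (x : EtCoh.H X (K X p h0) (n + 1))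
    (hx : x.comp (Ext.mk₀ (kernel.ι (AS X p h0))) (add_zero (n + 1)) = 0) : x = 0 := by
  obtain ⟨x₃, hx₃⟩ := Ext.covariant_sequence_exact₁ _ (shortExact_Sx X p h0) x hx
    (rfl : n + 1 = n + 1)
  obtain ⟨x₂, rfl⟩ := hs x₃
  rw [← hx₃, Sheaf.H.map_apply]
  refine (Ext.comp_assoc_of_second_deg_zero x₂ (Ext.mk₀ (Sx X p h0).g)
    (shortExact_Sx X p h0).extClass rfl).trans ?_
  exact (congrArg (fun t => x₂.comp t rfl) (shortExact_Sx X p h0).comp_extClass).trans
    (Ext.comp_zero _ _ _ _ _)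

/-- `H^q(K) → H^q(G_a)` is injective when Artin–Schreier is onto in degree `q - 1` -/
lemma injective_ι (q : ℕ)
    (hs : ∀ n, n + 1 = q → Function.Surjective (Sheaf.H.map (AS X p h0) n)) :
    Function.Injective (Sheaf.H.map (kernel.ι (AS X p h0)) q) := by
  rcases q with _ | n
  · exact Ext.postcomp_mk₀_injective_of_mono _ (kernel.ι (AS X p h0))
  · intro x x' hxx'
    rw [← sub_eq_zero]
    apply eq_zero_of_comp_eq_zero X p h0 n (hs n rfl)
    have : Sheaf.H.map (kernel.ι (AS X p h0)) (n + 1) (x - x') = 0 := by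
      rw [map_sub, hxx', sub_self]
    exact this

lemma ι_comp_AS (q : ℕ) (x : EtCoh.H X (K X p h0) q) :
    Sheaf.H.map (AS X p h0) q (Sheaf.H.map (kernel.ι (AS X p h0)) q x) = 0 := by
  rw [← Sheaf.H.map_comp_apply, kernel.condition, Sheaf.H.map_apply, Ext.mk₀_zero, Ext.comp_zero]

section Field

variable {k : Type u} [Field k] [CharP k p] (f : X ⟶ Spec (CommRingCat.of k)) [IsProper f]
include f h0

/-- vanishing of `H^q(X_ét, ℤ/p)` above the dimension -/
theorem subsingleton_H_const [IsSepClosed k] (d : ℕ) (hd : topologicalKrullDim X = d) (q : ℕ)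
    (hq : d + 1 ≤ q) : Subsingleton (EtCoh.H X (EtCoh.const X (ZMod p)) q) := by
  haveI : CompactSpace X := QuasiCompact.compactSpace_of_compactSpace f
  haveI : QuasiSeparatedSpace X := quasiSeparatedSpace_of_quasiSeparated f
  haveI : SpectralSpace X := {}
  have hGaV : ∀ n, d < n + 1 → ∀ x : EtCoh.H X (EtCoh.Ga X) (n + 1), x = 0 := fun n hn =>
    Groth.Agent.Lib.ZarContH8.et_vanish_of_zar X _ (affAcy_Ga X) n
      (Groth.Agent.Lib.ULiftSiteH8.zar_vanish_of_dim X d hd.le _ n hn)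
  obtain ⟨n, rfl⟩ : ∃ n, q = n + 1 := ⟨q - 1, by omega⟩
  have key : ∀ x : EtCoh.H X (K X p h0) (n + 1), x = 0 := fun x =>
    eq_zero_of_comp_eq_zero X p h0 n (surjective_AS X p hp.out h0 f n) x
      (hGaV n (by omega) _)
  obtain ⟨e⟩ := nonempty_kernel_iso X p h0
  haveI h2 : Subsingleton ↑((EtCoh.HF X (n + 1)).obj (K X p h0)) :=
    ⟨fun a b => (key a).trans (key b).symm⟩
  let e' := ((EtCoh.HF X (n + 1)).mapIso e).addCommGroupIsoToAddEquiv
  exact e'.symm.toEquiv.subsingleton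

/-- finiteness of `H^q(X_ét, ℤ/p)` -/
theorem finite_H_const [IsSepClosed k] (q : ℕ) :
    Finite (EtCoh.H X (EtCoh.const X (ZMod p)) q) := by
  haveI := finite_ker_AS X p hp.out h0 f q
  have hinj := injective_ι X p h0 q (fun n _ => surjective_AS X p hp.out h0 f n)
  let g : EtCoh.H X (K X p h0) q → {y : EtCoh.H X (EtCoh.Ga X) q //
      Sheaf.H.map (W4c5etcohweilstudent.artinSchreierEndo X p hp.out h0) q y = 0} :=
    fun x => ⟨Sheaf.H.map (kernel.ι (AS X p h0)) q x, ι_comp_AS X p h0 q x⟩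
  have hg : Function.Injective g := fun x x' h => hinj (congrArg Subtype.val h)
  haveI : Finite ↑((EtCoh.HF X q).obj (K X p h0)) := Finite.of_injective g hg
  obtain ⟨e⟩ := nonempty_kernel_iso X p h0
  let e' := ((EtCoh.HF X q).mapIso e).addCommGroupIsoToAddEquiv
  exact Finite.of_equiv _ e'.toEquiv

end Field

end Groth.Agent.Lib.ASMainH8
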