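import Mathlib
import Groth.Agent.Lib.FrobSurj_helper8

/-!
# The number of fixed points of a `p`-linear endomorphism is at most `p ^ dim` (helper8)
APPEND-ONLY once landed.
-/

namespace Groth.Agent.Lib.FrobSurjH8

open Polynomial

universe u v

variable {k : Type u} [Field k] (p : ℕ) [hp : Fact p.Prime] [CharP k p]
variable {V : Type v} [AddCommGroup V] [Module k V]

omit [CharP k p] in
lemma card_roots_le : Nat.card {x : k | x ^ p = x} ≤ p := by
  classical
  have hne : (X ^ p - X : k[X]) ≠ 0 := by
    intro h
    have := congrArg (fun q => q.coeff p) h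
    have hp1 : (1 : ℕ) ≠ p := hp.out.ne_one.symm
    simp [coeff_X, hp1] at this
  have hsub : {x : k | x ^ p = x} ⊆ ((X ^ p - X : k[X]).roots.toFinset : Set k) := by
    intro x hx
    have hx : x ^ p = x := hx
    simp only [Finset.mem_coe, Multiset.mem_toFinset, mem_roots hne, IsRoot, eval_sub, eval_pow,
      eval_X]
    rw [hx, sub_self]
  calc Nat.card {x : k | x ^ p = x} = Set.ncard {x : k | x ^ p = x} := rfl
    _ ≤ Set.ncard ((X ^ p - X : k[X]).roots.toFinset : Set k) :=
        Set.ncard_le_ncard hsub (Finset.finite_toSet _)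
    _ = (X ^ p - X : k[X]).roots.toFinset.card := Set.ncard_coe_finset _
    _ ≤ Multiset.card (X ^ p - X : k[X]).roots := Multiset.toFinset_card_le _
    _ ≤ (X ^ p - X : k[X]).natDegree := Polynomial.card_roots' _
    _ = p := FiniteField.X_pow_card_sub_X_natDegree_eq k hp.out.one_lt

/-- The number of fixed points is at most `p ^ dim`. -/
theorem card_fixed_le [FiniteDimensional k V] (F : V →+ V)
    (hF : ∀ (r : k) (v : V), F (r • v) = r ^ p • F v) :
    Nat.card {v : V // F v = v} ≤ p ^ Module.finrank k V := by
  classical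
  obtain ⟨b, hbt, hspan, hli⟩ := exists_linearIndependent k {v : V | F v = v}
  haveI : Finite b := hli.finite
  haveI : Fintype b := Fintype.ofFinite b
  have hRfin : Set.Finite {x : k | x ^ p = x} := by
    have hne : (X ^ p - X : k[X]) ≠ 0 := by
      intro h
      have := congrArg (fun q => q.coeff p) h
      have hp1 : (1 : ℕ) ≠ p := hp.out.ne_one.symm
      simp [coeff_X, hp1] at this
    refine Set.Finite.subset ((X ^ p - X : k[X]).roots.toFinset.finite_toSet) ?_
    intro x hx
    have hx : x ^ p = x := hx
    simp only [Finset.mem_coe, Multiset.mem_toFinset, mem_roots hne, IsRoot, eval_sub, eval_pow,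
      eval_X]
    rw [hx, sub_self]
  haveI : Finite {x : k | x ^ p = x} := hRfin.to_subtype
  let g : (b → {x : k | x ^ p = x}) → V := fun l => ∑ i, ((l i : k)) • (i : V)
  have hsub : ∀ v : {v : V // F v = v}, ∃ l, g l = v.1 := by
    rintro ⟨v, hv⟩
    have hv' : v ∈ Submodule.span k (Set.range ((↑) : b → V)) := by
      rw [Subtype.range_coe, hspan]
      exact Submodule.subset_span hv
    obtain ⟨l, hl⟩ := (Submodule.mem_span_range_iff_exists_fun k).mp hv'
    have hFv : F v = ∑ i, (l i)^p • (i : V) := by
      rw [← hl, map_sum]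
      refine Finset.sum_congr rfl (fun i _ => ?_)
      rw [hF, hbt i.2]
    have hzero : ∑ i, ((l i)^p - l i) • (i : V) = 0 := by
      simp only [sub_smul, Finset.sum_sub_distrib]
      rw [← hFv, hl, hv, sub_self]
    have hcoef := Fintype.linearIndependent_iff.mp hli _ hzero
    exact ⟨fun i => ⟨l i, sub_eq_zero.mp (hcoef i)⟩, hl⟩
  choose c hc using hsub
  have hcinj : Function.Injective c := by
    intro v v' h
    apply Subtype.ext
    rw [← hc v, ← hc v', h]
  have h1 : Nat.card {v : V // F v = v} ≤ Nat.card (b → {x : k | x ^ p = x}) :=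
    Nat.card_le_card_of_injective c hcinj
  have h2 : Nat.card (b → {x : k | x ^ p = x}) = Nat.card {x : k | x ^ p = x} ^ Nat.card b :=
    Nat.card_fun
  have h3 : Nat.card b ≤ Module.finrank k V := by
    rw [Nat.card_eq_fintype_card]
    exact hli.fintype_card_le_finrank
  calc Nat.card {v : V // F v = v} ≤ Nat.card {x : k | x ^ p = x} ^ Nat.card b := h2 ▸ h1
    _ ≤ p ^ Nat.card b := Nat.pow_le_pow_left (card_roots_le p) _
    _ ≤ p ^ Module.finrank k V := Nat.pow_le_pow_right hp.out.pos h3

end Groth.Agent.Lib.FrobSurjH8
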