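import Mathlib
import Groth.Agent.Lib.ASMain2_helper8
import Groth.Agent.Lib.FrobSurj2_helper8

/-!
# Order bound for `H^q(X_ét, ℤ/p)` of a proper scheme over a separably closed field (helper8)
APPEND-ONLY once landed.
-/

set_option autoImplicit false
set_option backward.isDefEq.respectTransparency false
universe u
open CategoryTheory CategoryTheory.Limits AlgebraicGeometry Opposite Abelian TopologicalSpace

namespace Groth.Agent.Lib.ASMainH8

open Groth.Agent.Lib.ASCoh2H8 Groth.Agent.Lib.ASZarH8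

variable (X : Scheme.{u}) (p : ℕ) [hp : Fact p.Prime] (h0 : (p : Γ(X, ⊤)) = 0)
  {k : Type u} [Field k] [CharP k p] (f : X ⟶ Spec (CommRingCat.of k)) [IsProper f]

theorem card_ker_AS_le (q : ℕ) :
    letI : X.Over (Spec (CommRingCat.of k)) := ⟨f⟩
    Nat.card {y : EtCoh.H X (EtCoh.Ga X) q //
      Sheaf.H.map (W4c5etcohweilstudent.artinSchreierEndo X p hp.out h0) q y = 0} ≤
      p ^ Module.finrank k (Coh.HH X (Coh.structureModule X) q) := by
  letI : X.Over (Spec (CommRingCat.of k)) := ⟨f⟩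
  haveI : IsProper (X ↘ Spec (CommRingCat.of k)) := ‹IsProper f›
  haveI : Module.Finite k (Coh.HH X (Coh.structureModule X) q) :=
    ProperFinH9.finite_HH_of_proper k X _ (CohDevH8.isCoh_structureModule X) q
  have h1 := Groth.Agent.Lib.FrobSurjH8.card_fixed_le p
    (Sheaf.H.map (frobZar X p hp.out h0) q) (frob_smul X p hp.out h0 f q)
  haveI h := Groth.Agent.Lib.FrobSurjH8.finite_fixed p
    (Sheaf.H.map (frobZar X p hp.out h0) q) (frob_smul X p hp.out h0 f q)
  let g : {v : Coh.HH X (Coh.structureModule X) q //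
      Sheaf.H.map (frobZar X p hp.out h0) q v = v} →
      {y : EtCoh.H X (EtCoh.Ga X) q //
        Sheaf.H.map (W4c5etcohweilstudent.artinSchreierEndo X p hp.out h0) q y = 0} :=
    fun v => ⟨θ X q v.1, by
      rw [← θ_nat, H_asZar, v.2, sub_self, map_zero]⟩
  have hg : Function.Surjective g := by
    rintro ⟨y, hy⟩
    obtain ⟨x, rfl⟩ := (θ_bijective X q).2 y
    rw [← θ_nat] at hy
    have hx : Sheaf.H.map (asZar X p hp.out h0) q x = 0 :=
      (θ_bijective X q).1 (hy.trans (map_zero _).symm)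
    rw [H_asZar, sub_eq_zero] at hx
    exact ⟨⟨x, hx⟩, rfl⟩
  exact (Nat.card_le_card_of_surjective g hg).trans h1

include h0 in
theorem card_H_const_le [IsSepClosed k] (q : ℕ) :
    letI : X.Over (Spec (CommRingCat.of k)) := ⟨f⟩
    Nat.card (EtCoh.H X (EtCoh.const X (ZMod p)) q) ≤
      p ^ Module.finrank k (Coh.HH X (Coh.structureModule X) q) := by
  letI : X.Over (Spec (CommRingCat.of k)) := ⟨f⟩
  haveI := finite_ker_AS X p hp.out h0 f q
  have hinj := injective_ι X p h0 q (fun n _ => surjective_AS X p hp.out h0 f n)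
  let g : EtCoh.H X (K X p h0) q → {y : EtCoh.H X (EtCoh.Ga X) q //
      Sheaf.H.map (W4c5etcohweilstudent.artinSchreierEndo X p hp.out h0) q y = 0} :=
    fun x => ⟨Sheaf.H.map (kernel.ι (AS X p h0)) q x, ι_comp_AS X p h0 q x⟩
  have hg : Function.Injective g := fun x x' h => hinj (congrArg Subtype.val h)
  have h1 : Nat.card (EtCoh.H X (K X p h0) q) ≤ _ := Nat.card_le_card_of_injective g hg
  obtain ⟨e⟩ := nonempty_kernel_iso X p h0
  let e' := ((EtCoh.HF X q).mapIso e).addCommGroupIsoToAddEquiv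
  have h2 : Nat.card (EtCoh.H X (EtCoh.const X (ZMod p)) q) = Nat.card (EtCoh.H X (K X p h0) q) :=
    Nat.card_congr e'.symm.toEquiv
  rw [h2]
  exact h1.trans (card_ker_AS_le X p h0 f q)

end Groth.Agent.Lib.ASMainH8
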