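import Mathlib

/-!
# Additive Hilbert 90 for Galois extensions of degree `p` in characteristic `p` (helper8)
-/

set_option autoImplicit false
universe u

namespace Groth.Agent.Lib.ASNormH8

open Module

section h90

variable {F E : Type u} [Field F] [Field E] [Algebra F E] [FiniteDimensional F E] [IsGalois F E]
  (p : ℕ) [hp : Fact p.Prime] [CharP F p]

include hp in
theorem exists_generator (hdeg : finrank F E = p) :
    ∃ σ : E ≃ₐ[F] E, orderOf σ = p ∧ ∀ τ : E ≃ₐ[F] E, ∃ i : ℕ, i < p ∧ τ = σ ^ i := by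
  classical
  have hcard : Nat.card (E ≃ₐ[F] E) = p := by
    rw [IsGalois.card_aut_eq_finrank, hdeg]
  haveI : IsCyclic (E ≃ₐ[F] E) := isCyclic_of_prime_card hcard
  obtain ⟨σ, hσ⟩ := IsCyclic.exists_generator (α := E ≃ₐ[F] E)
  have hord : orderOf σ = p := by
    rw [orderOf_eq_card_of_forall_mem_zpowers hσ, hcard]
  refine ⟨σ, hord, fun τ => ?_⟩
  obtain ⟨k, hk⟩ := (hσ τ)
  have hk' : τ = σ ^ k := hk.symm
  refine ⟨(k % (p : ℤ)).toNat, ?_, ?_⟩
  · have h1 : (0 : ℤ) ≤ k % (p : ℤ) := Int.emod_nonneg _ (by exact_mod_cast hp.out.ne_zero)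
    have h2 : k % (p : ℤ) < p := Int.emod_lt_of_pos _ (by exact_mod_cast hp.out.pos)
    omega
  · have h1 : (0 : ℤ) ≤ k % (p : ℤ) := Int.emod_nonneg _ (by exact_mod_cast hp.out.ne_zero)
    rw [hk', ← zpow_natCast, Int.toNat_of_nonneg h1, ← hord, zpow_mod_orderOf]

include hp in
theorem trace_eq_sum_pow (hdeg : finrank F E = p) (σ : E ≃ₐ[F] E) (hord : orderOf σ = p)
    (θ : E) :
    algebraMap F E (Algebra.trace F E θ) = ∑ i ∈ Finset.range p, (σ ^ i) θ := by
  classical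
  have hcard : Nat.card (E ≃ₐ[F] E) = p := by
    rw [IsGalois.card_aut_eq_finrank, hdeg]
  rw [trace_eq_sum_automorphisms]
  let φ : Fin p → (E ≃ₐ[F] E) := fun i => σ ^ (i : ℕ)
  have hinj : Function.Injective φ := by
    intro i j hij
    have h1 : σ ^ (i : ℕ) = σ ^ (j : ℕ) := hij
    apply Fin.ext
    exact pow_injOn_Iio_orderOf (x := σ)
      (show (i : ℕ) ∈ Set.Iio (orderOf σ) by rw [hord]; exact i.2)
      (show (j : ℕ) ∈ Set.Iio (orderOf σ) by rw [hord]; exact j.2) h1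
  have hbij : Function.Bijective φ := by
    rw [Fintype.bijective_iff_injective_and_card]
    refine ⟨hinj, ?_⟩
    rw [Fintype.card_fin, ← Nat.card_eq_fintype_card, hcard]
  rw [← Fintype.sum_bijective φ hbij (fun i => (σ ^ (i : ℕ)) θ) (fun τ => τ θ) (fun _ => rfl)]
  exact Fin.sum_univ_eq_sum_range (fun i => (σ ^ i) θ) p

theorem sum_shift {M : Type*} [AddCommGroup M] (f : ℕ → M) (n : ℕ) :
    ∑ i ∈ Finset.range n, f (i + 1) = ∑ i ∈ Finset.range n, f i + f n - f 0 := by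
  have h1 := Finset.sum_range_succ' f n
  have h2 := Finset.sum_range_succ f n
  rw [h2] at h1
  rw [h1]
  abel

include hp in
/-- **Additive Hilbert 90** in degree `p`. -/
theorem exists_sub_eq_one (hdeg : finrank F E = p) (σ : E ≃ₐ[F] E) (hord : orderOf σ = p) :
    ∃ x : E, σ x - x = 1 := by
  haveI : CharP E p := charP_of_injective_algebraMap (algebraMap F E).injective p
  obtain ⟨θ, hθ⟩ : ∃ θ : E, Algebra.trace F E θ ≠ 0 := by
    obtain ⟨θ, hθ⟩ := Algebra.trace_surjective F E 1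
    exact ⟨θ, by rw [hθ]; exact one_ne_zero⟩
  obtain ⟨T, hT⟩ : ∃ T : E, T = algebraMap F E (Algebra.trace F E θ) := ⟨_, rfl⟩
  have hT0 : T ≠ 0 := by
    rw [hT]
    exact fun h => hθ ((map_eq_zero _).mp h)
  have hσT : σ T = T := by rw [hT]; exact σ.commutes _
  have hTsum : T = ∑ i ∈ Finset.range p, (σ ^ i) θ := by
    rw [hT]; exact trace_eq_sum_pow p hdeg σ hord θ
  obtain ⟨S, hS⟩ : ∃ S : E, S = ∑ j ∈ Finset.range p, (j : E) * (σ ^ j) θ := ⟨_, rfl⟩
  have hσp : σ ^ p = 1 := by rw [← hord]; exact pow_orderOf_eq_one σ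
  have hσS : σ S = S - T := by
    rw [hS, map_sum]
    have h1 : ∀ j ∈ Finset.range p, σ ((j : E) * (σ ^ j) θ) =
        ((j + 1 : ℕ) : E) * (σ ^ (j + 1)) θ - (σ ^ (j + 1)) θ := by
      intro j _
      rw [map_mul, map_natCast, pow_succ', AlgEquiv.mul_apply]
      push_cast
      ring
    rw [Finset.sum_congr rfl h1, Finset.sum_sub_distrib,
      sum_shift (fun j => ((j : ℕ) : E) * (σ ^ j) θ) p, sum_shift (fun j => (σ ^ j) θ) p, ← hTsum]
    simp only [hσp, pow_zero, CharP.cast_eq_zero, zero_mul, Nat.cast_zero, add_zero, sub_zero]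
    rw [add_sub_cancel_right]
  refine ⟨-S / T, ?_⟩
  rw [map_div₀, map_neg, hσS, hσT]
  field_simp
  ring

end h90

end Groth.Agent.Lib.ASNormH8
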