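import Mathlib

/-!
# Artin–Schreier normal form in `K((t))` (helper8)
-/

set_option autoImplicit false
universe u

namespace Groth.Agent.Lib.ASNormH8

open Module PowerSeries

section nf

variable (p : ℕ) [hp : Fact p.Prime] (K : Type u) [Field K] [CharP K p] [PerfectField K]

local notation "A" => PowerSeries K
local notation "FF" => FractionRing (PowerSeries K)

instance charP_frac : CharP FF p :=
  charP_of_injective_ringHom (f := (algebraMap A FF).comp (PowerSeries.C : K →+* A))
    ((IsFractionRing.injective A FF).comp (PowerSeries.C_injective)) p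

/-- the Artin–Schreier operator -/
noncomputable def wp (y : FF) : FF := y ^ p - y

theorem wp_add (y z : FF) : wp p K (y + z) = wp p K y + wp p K z := by
  unfold wp
  rw [add_pow_char y z]
  ring

theorem wp_zero : wp p K 0 = 0 := by
  unfold wp
  rw [zero_pow hp.out.ne_zero, sub_zero]

/-- the alternative of the normal form -/
def NF (β : FF) : Prop :=
  ∃ y : FF, (∃ a' : A, β + wp p K y = algebraMap A FF a') ∨
    (∃ (m : ℕ) (a' : A), 0 < m ∧ ¬ p ∣ m ∧ constantCoeff a' ≠ 0 ∧
      β + wp p K y = algebraMap A FF a' / algebraMap A FF (X ^ m))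

theorem t_ne_zero : algebraMap A FF (X : A) ≠ 0 := by
  intro h
  have := (IsFractionRing.injective A FF) (h.trans (map_zero _).symm)
  exact PowerSeries.X_ne_zero this

include hp in
theorem nf_of_pole (n : ℕ) : ∀ a : A, NF p K (algebraMap A FF a / algebraMap A FF (X ^ n)) := by
  induction n with
  | zero =>
    intro a
    refine ⟨0, Or.inl ⟨a, ?_⟩⟩
    rw [wp_zero, add_zero, pow_zero, map_one, div_one]
  | succ n ih =>
    intro a
    have ht := t_ne_zero K
    by_cases hc : constantCoeff a = 0
    · obtain ⟨a', ha'⟩ := (PowerSeries.X_dvd_iff.mpr hc)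
      have : algebraMap A FF a / algebraMap A FF (X ^ (n + 1)) =
          algebraMap A FF a' / algebraMap A FF (X ^ n) := by
        rw [ha', map_mul, map_pow, map_pow, pow_succ]
        field_simp
      rw [this]
      exact ih a'
    · by_cases hpn : p ∣ n + 1
      · obtain ⟨n', hn'⟩ := hpn
        have hn'pos : 0 < n' := by
          rcases Nat.eq_zero_or_pos n' with h | h
          · rw [h, mul_zero] at hn'; omega
          · exact h
        have hlt : n' < n + 1 := by
          have := hp.out.two_le
          nlinarith
        haveI : PerfectRing K p := PerfectField.toPerfectRing p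
        obtain ⟨b, hb⟩ := surjective_frobenius K p (constantCoeff a)
        have hb' : b ^ p = constantCoeff a := hb
        -- the correction term
        obtain ⟨y₀, hy₀⟩ : ∃ y₀ : FF, y₀ = -(algebraMap A FF (C b) / algebraMap A FF (X ^ n')) :=
          ⟨_, rfl⟩
        have hwp0 : wp p K y₀ = -(algebraMap A FF (C (constantCoeff a)) /
            algebraMap A FF (X ^ (n + 1))) + algebraMap A FF (C b) / algebraMap A FF (X ^ n') := by
          unfold wp
          rw [hy₀, neg_pow, neg_one_pow_char FF p, div_pow, ← map_pow, ← map_pow, ← map_pow,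
            ← pow_mul, mul_comm n' p, ← hn', ← hb']
          ring
        -- the new numerator
        obtain ⟨a₁, ha₁⟩ : ∃ a₁ : A, a₁ = a - C (constantCoeff a) + C b * X ^ (n + 1 - n') :=
          ⟨_, rfl⟩
        have hc1 : constantCoeff a₁ = 0 := by
          rw [ha₁, map_add, map_sub, constantCoeff_C, sub_self, zero_add, map_mul, map_pow,
            constantCoeff_X, zero_pow (by omega), mul_zero]
        obtain ⟨a₂, ha₂⟩ := (PowerSeries.X_dvd_iff.mpr hc1)
        have hsum : algebraMap A FF a / algebraMap A FF (X ^ (n + 1)) + wp p K y₀ =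
            algebraMap A FF a₂ / algebraMap A FF (X ^ n) := by
          have e1 : algebraMap A FF (X ^ (n + 1)) =
              algebraMap A FF (X ^ n') * algebraMap A FF (X ^ (n + 1 - n')) := by
            rw [← map_mul, ← pow_add]
            congr 2
            omega
          have e2 : algebraMap A FF (X ^ (n + 1)) = algebraMap A FF (X ^ n) * algebraMap A FF X := by
            rw [← map_mul, ← pow_succ]
          have hn0 : algebraMap A FF (X ^ n') ≠ 0 := by
            rw [map_pow]; exact pow_ne_zero _ ht
          have hn1 : algebraMap A FF (X ^ (n + 1 - n')) ≠ 0 := by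
            rw [map_pow]; exact pow_ne_zero _ ht
          have hn2 : algebraMap A FF (X ^ n) ≠ 0 := by
            rw [map_pow]; exact pow_ne_zero _ ht
          have e3 : algebraMap A FF a₁ = algebraMap A FF X * algebraMap A FF a₂ := by
            rw [← map_mul, ← ha₂]
          have e4 : algebraMap A FF a₁ = algebraMap A FF a - algebraMap A FF (C (constantCoeff a)) +
              algebraMap A FF (C b) * algebraMap A FF (X ^ (n + 1 - n')) := by
            rw [ha₁, map_add, map_sub, map_mul]
          rw [hwp0]
          have key : algebraMap A FF a / algebraMap A FF (X ^ (n + 1)) +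
              (-(algebraMap A FF (C (constantCoeff a)) / algebraMap A FF (X ^ (n + 1))) +
                algebraMap A FF (C b) / algebraMap A FF (X ^ n')) =
              algebraMap A FF a₁ / algebraMap A FF (X ^ (n + 1)) := by
            rw [e4]
            have hne : algebraMap A FF (X ^ (n + 1)) ≠ 0 := by
              rw [map_pow]; exact pow_ne_zero _ ht
            rw [div_add' _ _ _ hne, eq_div_iff hne, e1]
            field_simp
            ring
          rw [key, e3, e2]
          field_simp
        obtain ⟨y₁, hy₁⟩ := ih a₂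
        refine ⟨y₀ + y₁, ?_⟩
        rw [wp_add, ← add_assoc, hsum]
        exact hy₁
      · refine ⟨0, Or.inr ⟨n + 1, a, Nat.succ_pos n, hpn, hc, ?_⟩⟩
        rw [wp_zero, add_zero]

include hp in
theorem nf_all (β : FF) : NF p K β := by
  obtain ⟨a₀, b₀, hb₀, rfl⟩ := IsFractionRing.div_surjective (PowerSeries K) β
  have hb0 : b₀ ≠ 0 := nonZeroDivisors.ne_zero hb₀
  obtain ⟨u, hu⟩ := PowerSeries.isUnit_divided_by_X_pow_order hb0
  have hdec : b₀ = X ^ b₀.order.toNat * (u : A) := by
    rw [hu]; exact (PowerSeries.X_pow_order_mul_divXPowOrder (f := b₀)).symm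
  have : algebraMap A FF a₀ / algebraMap A FF b₀ =
      algebraMap A FF (a₀ * ((u⁻¹ : Aˣ) : A)) / algebraMap A FF (X ^ b₀.order.toNat) := by
    have hne : algebraMap A FF b₀ ≠ 0 := fun h =>
      hb0 ((IsFractionRing.injective A FF) (h.trans (map_zero _).symm))
    have hne2 : algebraMap A FF (X ^ b₀.order.toNat) ≠ 0 := by
      rw [map_pow]; exact pow_ne_zero _ (t_ne_zero K)
    rw [div_eq_div_iff hne hne2, ← map_mul, ← map_mul]
    congr 1
    conv_rhs => rw [hdec]
    have huu : ((u⁻¹ : Aˣ) : A) * (u : A) = 1 := by
      rw [← Units.val_mul, inv_mul_cancel, Units.val_one]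
    symm
    calc a₀ * ((u⁻¹ : Aˣ) : A) * (X ^ b₀.order.toNat * (u : A))
        = a₀ * X ^ b₀.order.toNat * (((u⁻¹ : Aˣ) : A) * (u : A)) := by ring
      _ = a₀ * X ^ b₀.order.toNat := by rw [huu, mul_one]
  rw [this]
  exact nf_of_pole p K _ _

end nf

end Groth.Agent.Lib.ASNormH8
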