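import Mathlib

/-!
# Totally ramified primes have trivial residue extension (helper8)
-/

set_option autoImplicit false
universe u

namespace Groth.Agent.Lib.ASNormH8

open Module

section res

variable {A B : Type u} [CommRing A] [IsDedekindDomain A]
  [CommRing B] [IsDedekindDomain B] [Algebra A B] [Module.Finite A B] [Module.IsTorsionFree A B]

/-- if `e(M) = rank`, then the residue field extension at `M` is trivial -/
theorem exists_sub_mem_of_ramificationIdx_eq (M : Ideal B) [M.IsMaximal]
    (hram : M.ramificationIdx A = Module.finrank A B) (hpos : 0 < Module.finrank A B) (b : B) :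
    ∃ c : A, b - algebraMap A B c ∈ M := by
  classical
  haveI : Algebra.IsIntegral A B := Algebra.IsIntegral.of_finite A B
  haveI hPmax : (M.under A).IsMaximal := inferInstance
  haveI : M.LiesOver (M.under A) := inferInstance
  letI : Fintype ((M.under A).primesOver B) :=
    (Algebra.QuasiFinite.finite_primesOver (M.under A)).fintype
  have hsum := Ideal.sum_ramification_inertia_eq_finrank (R := A) (S := B) (M.under A)
  let q0 : (M.under A).primesOver B := ⟨M, ⟨inferInstance, inferInstance⟩⟩
  have hle : q0.1.ramificationIdx A * q0.1.inertiaDeg A ≤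
      ∑ q : (M.under A).primesOver B, q.1.ramificationIdx A * q.1.inertiaDeg A :=
    Finset.single_le_sum (f := fun q : (M.under A).primesOver B =>
      q.1.ramificationIdx A * q.1.inertiaDeg A) (fun _ _ => Nat.zero_le _) (Finset.mem_univ q0)
  rw [hsum] at hle
  have hf1 : M.inertiaDeg A = 1 := by
    have h1 : 0 < M.inertiaDeg A := Ideal.inertiaDeg_pos (R := A) M
    have h2 : M.ramificationIdx A * M.inertiaDeg A ≤ Module.finrank A B := hle
    rw [hram] at h2
    nlinarith
  rw [Ideal.inertiaDeg_eq_of_isMaximal (M.under A) M] at hf1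
  letI : Field (A ⧸ M.under A) := Ideal.Quotient.field _
  letI : Field (B ⧸ M) := Ideal.Quotient.field _
  have hbij := (Algebra.finrank_eq_one_iff_bijective_algebraMap (F := A ⧸ M.under A)
    (E := B ⧸ M)).mp hf1
  obtain ⟨c', hc'⟩ := hbij.2 (Ideal.Quotient.mk M b)
  obtain ⟨c, rfl⟩ := Ideal.Quotient.mk_surjective c'
  refine ⟨c, ?_⟩
  rw [← Ideal.Quotient.eq_zero_iff_mem, map_sub, ← hc']
  exact sub_self _

end res

end Groth.Agent.Lib.ASNormH8
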