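import Mathlib
import Groth.Agent.Lib.ASNorm1_helper8
import Groth.Agent.Lib.ASNorm2_helper8
import Groth.Agent.Lib.ASNorm3_helper8

/-!
# S11093: Artin–Schreier normal form for totally ramified degree `p` extensions of `K((t))` (helper8)
-/

set_option autoImplicit false
universe u
attribute [local instance] FractionRing.liftAlgebra

namespace Groth.Agent.Lib.ASNormH8

open Module PowerSeries

section main

variable (p : ℕ) [hp : Fact p.Prime] (K : Type u) [Field K] [CharP K p] [PerfectField K]
  (B : Type u) [CommRing B] [IsDedekindDomain B]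
  [Algebra (PowerSeries K) B] [Module.Finite (PowerSeries K) B]
  [Module.IsTorsionFree (PowerSeries K) B]

local notation "AA" => PowerSeries K
local notation "FF" => FractionRing (PowerSeries K)
local notation "EE" => FractionRing B

include hp in
/-- Hensel: `z ^ p - z = a` is solvable in `K⟦X⟧` when `a` has zero constant term. -/
theorem exists_wp_eq (a : AA) (ha : a ∈ Ideal.span {(X : AA)}) : ∃ z : AA, z ^ p - z = a := by
  let f : Polynomial AA := Polynomial.X ^ p - Polynomial.X - Polynomial.C a
  have hmonic : f.Monic := by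
    have h1 : (Polynomial.X ^ p - Polynomial.X - Polynomial.C a : Polynomial AA) =
        Polynomial.X ^ p - (Polynomial.X + Polynomial.C a) := by ring
    show (Polynomial.X ^ p - Polynomial.X - Polynomial.C a : Polynomial AA).Monic
    rw [h1]
    apply Polynomial.monic_X_pow_sub
    refine lt_of_le_of_lt (Polynomial.degree_X_add_C a).le ?_
    exact_mod_cast hp.out.one_lt
  have h0 : f.eval 0 ∈ Ideal.span {(X : AA)} := by
    simp only [f, Polynomial.eval_sub, Polynomial.eval_pow, Polynomial.eval_X, Polynomial.eval_C,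
      zero_pow hp.out.ne_zero, sub_zero, zero_sub]
    exact (Ideal.neg_mem_iff _).mpr ha
  have hd : IsUnit (Ideal.Quotient.mk (Ideal.span {(X : AA)}) (f.derivative.eval 0)) := by
    have : f.derivative.eval 0 = -1 := by
      simp only [f, Polynomial.derivative_sub, Polynomial.derivative_X_pow, Polynomial.derivative_X,
        Polynomial.derivative_C, Polynomial.eval_sub, Polynomial.eval_mul, Polynomial.eval_pow,
        Polynomial.eval_X, Polynomial.eval_C, Polynomial.eval_one, sub_zero]
      have hp1 : p - 1 ≠ 0 := by have := hp.out.two_le; omega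
      rw [zero_pow hp1, mul_zero, zero_sub]
    rw [this, map_neg, map_one]
    exact (isUnit_one (M := AA ⧸ Ideal.span {(X : AA)})).neg
  obtain ⟨z, hz, -⟩ := HenselianRing.is_henselian (I := Ideal.span {(X : AA)}) f hmonic 0 h0 hd
  refine ⟨z, ?_⟩
  have : f.eval z = 0 := hz
  simp only [f, Polynomial.eval_sub, Polynomial.eval_pow, Polynomial.eval_X,
    Polynomial.eval_C] at this
  exact sub_eq_zero.mp this

theorem under_eq (M : Ideal B) [M.IsMaximal] : M.under AA = Ideal.span {(X : AA)} := by
  haveI : Algebra.IsIntegral AA B := Algebra.IsIntegral.of_finite AA B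
  haveI hPmax : (M.under AA).IsMaximal := inferInstance
  rw [← PowerSeries.maximalIdeal_eq_span_X]
  exact IsLocalRing.eq_maximalIdeal hPmax

include hp in
set_option maxHeartbeats 1600000 in
theorem mem_range_of_wp_mem (hdeg : finrank FF EE = p) (M : Ideal B) [M.IsMaximal]
    (hram : M.ramificationIdx AA = p) (x : EE) (a' : AA)
    (hx : x ^ p - x = algebraMap FF EE (algebraMap AA FF a')) :
    x ∈ Set.range (algebraMap FF EE) := by
  haveI : CharP FF p := charP_frac p K
  haveI : CharP EE p := charP_of_injective_algebraMap (algebraMap FF EE).injective p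
  haveI : CharP B p := ((algebraMap B EE).charP_iff (IsFractionRing.injective B EE) p).mpr inferInstance
  haveI : CharP AA p := ((algebraMap AA FF).charP_iff (IsFractionRing.injective AA FF) p).mpr inferInstance
  have hrank : Module.finrank AA B = p := by
    rw [← hdeg]; exact (IsFractionRing.finrank_eq AA FF B EE).symm
  have htower : ∀ c : AA, algebraMap FF EE (algebraMap AA FF c) = algebraMap B EE (algebraMap AA B c) := by
    intro c
    rw [← IsScalarTower.algebraMap_apply AA FF EE, ← IsScalarTower.algebraMap_apply AA B EE]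
  -- `x` lies in `B`
  have hint : IsIntegral B x := by
    refine ⟨Polynomial.X ^ p - Polynomial.X - Polynomial.C (algebraMap AA B a'), ?_, ?_⟩
    · have h1 : (Polynomial.X ^ p - Polynomial.X - Polynomial.C (algebraMap AA B a') : Polynomial B) =
          Polynomial.X ^ p - (Polynomial.X + Polynomial.C (algebraMap AA B a')) := by ring
      rw [h1]
      apply Polynomial.monic_X_pow_sub
      refine lt_of_le_of_lt (Polynomial.degree_X_add_C _).le ?_
      exact_mod_cast hp.out.one_lt
    · rw [Polynomial.eval₂_sub, Polynomial.eval₂_sub, Polynomial.eval₂_pow, Polynomial.eval₂_X,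
        Polynomial.eval₂_C, hx, htower, sub_self]
  obtain ⟨b, hb⟩ := IsIntegrallyClosed.algebraMap_eq_of_integral hint
  have hb2 : b ^ p - b = algebraMap AA B a' := by
    apply IsFractionRing.injective B EE
    rw [map_sub, map_pow, hb, hx, htower]
  obtain ⟨c, hc⟩ := exists_sub_mem_of_ramificationIdx_eq (A := PowerSeries K) M (by rw [hram, hrank])
    (by rw [hrank]; exact hp.out.pos) b
  -- the correction of `a'`
  obtain ⟨a'', ha''⟩ : ∃ a'' : AA, a'' = a' - (c ^ p - c) := ⟨_, rfl⟩
  have hb3 : (b - algebraMap AA B c) ^ p - (b - algebraMap AA B c) = algebraMap AA B a'' := by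
    rw [sub_pow_char, ha'', map_sub, map_sub, map_pow, ← hb2]
    ring
  have hmem : a'' ∈ Ideal.span {(X : AA)} := by
    rw [← under_eq K B M, Ideal.under_def, Ideal.mem_comap, ← hb3]
    exact M.sub_mem (M.pow_mem_of_mem hc p hp.out.pos) hc
  obtain ⟨z, hz⟩ := exists_wp_eq p K a'' hmem
  -- `w = x - (c + z)` is in the prime field
  have hw : (x - algebraMap FF EE (algebraMap AA FF (c + z))) ^ p =
      x - algebraMap FF EE (algebraMap AA FF (c + z)) := by
    rw [sub_pow_char, ← map_pow, ← map_pow, add_pow_char]
    have h1 : x ^ p = x + algebraMap FF EE (algebraMap AA FF a') := by rw [← hx]; ring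
    have h2 : a' = a'' + (c ^ p - c) := by rw [ha'']; ring
    have h3 : z ^ p = z + a'' := by rw [← hz]; ring
    rw [h1, h2, h3]
    simp only [map_add, map_sub, map_pow]
    ring
  have hwbot := (Subfield.mem_bot_iff_pow_eq_self (F := EE) (p := p)).mpr hw
  have hle : (⊥ : Subfield EE) ≤ (algebraMap FF EE).fieldRange := bot_le
  obtain ⟨w', hw'⟩ := hle hwbot
  refine ⟨w' + algebraMap AA FF (c + z), ?_⟩
  rw [map_add, hw']
  ring

include hp in
set_option maxHeartbeats 1600000 in
theorem main11093 [IsGalois FF EE] (hdeg : finrank FF EE = p) (M : Ideal B) [M.IsMaximal]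
    (hram : M.ramificationIdx AA = p) :
    ∃ x : EE, ∃ m : ℕ, ∃ a : AA,
      IntermediateField.adjoin FF {x} = ⊤ ∧ 0 < m ∧ ¬ p ∣ m ∧
      PowerSeries.constantCoeff a ≠ 0 ∧
      x ^ p - x + algebraMap FF EE
        (algebraMap AA FF a / algebraMap AA FF (PowerSeries.X ^ m)) = 0 := by
  haveI : CharP FF p := charP_frac p K
  haveI : CharP EE p := charP_of_injective_algebraMap (algebraMap FF EE).injective p
  haveI : FiniteDimensional FF EE := Module.finite_of_finrank_pos (by rw [hdeg]; exact hp.out.pos)
  obtain ⟨σ, hord, hgen⟩ := exists_generator (F := FF) (E := EE) p hdeg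
  obtain ⟨x₀, hx₀⟩ := exists_sub_eq_one (F := FF) (E := EE) p hdeg σ hord
  have hσx₀ : σ x₀ = x₀ + 1 := by rw [← hx₀]; ring
  -- `x₀ ^ p - x₀` lies in the base field
  have hfix : ∀ τ : EE ≃ₐ[FF] EE, τ (x₀ ^ p - x₀) = x₀ ^ p - x₀ := by
    have h1 : σ (x₀ ^ p - x₀) = x₀ ^ p - x₀ := by
      rw [map_sub, map_pow, hσx₀, add_pow_char, one_pow]
      ring
    intro τ
    obtain ⟨i, -, rfl⟩ := hgen τ
    induction i with
    | zero => rw [pow_zero]; rfl
    | succ i ih => rw [pow_succ, AlgEquiv.mul_apply, h1, ih]
  obtain ⟨β, hβ⟩ := (IsGalois.mem_range_algebraMap_iff_fixed (F := FF) (E := EE) _).mpr hfix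
  -- general facts about `x = x₀ + y`
  have hgenx : ∀ y : FF, IntermediateField.adjoin FF {x₀ + algebraMap FF EE y} = ⊤ := by
    intro y
    haveI : IsSimpleOrder (IntermediateField FF EE) :=
      IntermediateField.isSimpleOrder_of_finrank_prime FF EE (by rw [hdeg]; exact hp.out)
    rcases eq_bot_or_eq_top (IntermediateField.adjoin FF {x₀ + algebraMap FF EE y}) with h | h
    · exfalso
      have hmem : x₀ + algebraMap FF EE y ∈ IntermediateField.adjoin FF {x₀ + algebraMap FF EE y} :=
        IntermediateField.mem_adjoin_simple_self FF _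
      rw [h, IntermediateField.mem_bot] at hmem
      obtain ⟨c, hc⟩ := hmem
      have h2 : σ (x₀ + algebraMap FF EE y) = x₀ + algebraMap FF EE y := by
        rw [← hc]; exact σ.commutes c
      rw [map_add, hσx₀, σ.commutes] at h2
      have : (1 : EE) = 0 := by linear_combination h2
      exact one_ne_zero this
    · exact h
  have hwpx : ∀ y : FF, (x₀ + algebraMap FF EE y) ^ p - (x₀ + algebraMap FF EE y) =
      algebraMap FF EE (β + wp p K y) := by
    intro y
    rw [add_pow_char, map_add, hβ]
    unfold wp
    rw [map_sub, map_pow]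
    ring
  obtain ⟨y, hy⟩ := nf_all p K β
  rcases hy with ⟨a', ha'⟩ | ⟨m, a', hm, hpm, hca', ha'⟩
  · exfalso
    have hx := hwpx y
    rw [ha'] at hx
    obtain ⟨c, hc⟩ := mem_range_of_wp_mem p K B hdeg M hram _ a' hx
    have h2 : σ (x₀ + algebraMap FF EE y) = x₀ + algebraMap FF EE y := by
      rw [← hc]; exact σ.commutes c
    rw [map_add, hσx₀, σ.commutes] at h2
    have : (1 : EE) = 0 := by linear_combination h2
    exact one_ne_zero this
  · refine ⟨x₀ + algebraMap FF EE y, m, -a', hgenx y, hm, hpm, ?_, ?_⟩
    · rw [map_neg]; exact neg_ne_zero.mpr hca'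
    · rw [hwpx y, ha', map_neg, neg_div, map_neg, add_neg_cancel]

end main

end Groth.Agent.Lib.ASNormH8
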