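import Mathlib

open TensorProduct

namespace Groth.Agent.Lib.ASTorsH8

universe u

section Descent

variable {A B : Type*} [CommRing A] [CommRing B] [Algebra A B]

/-- Faithfully flat descent of membership in the range of a linear map. -/
theorem mem_range_of_tmul_mem_range [Module.FaithfullyFlat A B] {M N : Type*} [AddCommGroup M]
    [Module A M] [AddCommGroup N] [Module A N] (f : M →ₗ[A] N) (y : N)
    (h : (1 : B) ⊗ₜ[A] y ∈ LinearMap.range (f.lTensor B)) : y ∈ LinearMap.range f := by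
  obtain ⟨w, hw⟩ := h
  have h1 : ((LinearMap.range f).mkQ.lTensor B) ((f.lTensor B) w) = 0 := by
    rw [← LinearMap.comp_apply, ← LinearMap.lTensor_comp]
    have : (LinearMap.range f).mkQ ∘ₗ f = 0 := by
      ext x
      simp
    rw [this, LinearMap.lTensor_zero, LinearMap.zero_apply]
  rw [hw, LinearMap.lTensor_tmul] at h1
  have h2 := Module.FaithfullyFlat.tensorProduct_mk_injective (A := A) (B := B)
    (N ⧸ LinearMap.range f)
  have h3 : (LinearMap.range f).mkQ y = 0 := by
    apply h2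
    simpa using h1
  simpa using h3

end Descent

section Torsor

variable {A B : Type u} [CommRing A] [CommRing B] [Algebra A B]
variable {G : Type} [AddGroup G] [Fintype G] [DecidableEq G]
variable (σ : G → (B →ₐ[A] B))

/-- `x ⊗ y ↦ x * σ g y`. -/
noncomputable def Phi (g : G) : B ⊗[A] B →ₐ[A] B :=
  Algebra.TensorProduct.productMap (AlgHom.id A B) (σ g)

@[simp] theorem Phi_tmul (g : G) (x y : B) : Phi σ g (x ⊗ₜ[A] y) = x * σ g y := by
  simp [Phi]

/-- `id ⊗ σ g`. -/
noncomputable def tau (g : G) : B ⊗[A] B →ₐ[A] B ⊗[A] B :=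
  Algebra.TensorProduct.map (AlgHom.id A B) (σ g)

@[simp] theorem tau_tmul (g : G) (x y : B) : tau σ g (x ⊗ₜ[A] y) = x ⊗ₜ[A] σ g y := by
  simp [tau]

variable (hσ0 : σ 0 = AlgHom.id A B) (hσadd : ∀ g h, σ (g + h) = (σ g).comp (σ h))

include hσadd in
theorem Phi_tau (h k : G) (w : B ⊗[A] B) : Phi σ h (tau σ k w) = Phi σ (h + k) w := by
  induction w using TensorProduct.induction_on with
  | zero => simp
  | tmul x y => simp [hσadd]
  | add x y hx hy => simp [hx, hy]

include hσ0 in
theorem Phi_zero (w : B ⊗[A] B) : Phi σ 0 w = Algebra.TensorProduct.lmul' A w := by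
  induction w using TensorProduct.induction_on with
  | zero => simp
  | tmul x y => simp [hσ0]
  | add x y hx hy => simp [hx, hy]

variable [Algebra.FormallyUnramified A B] [Algebra.EssFiniteType A B]

/-- The translated separability idempotents. -/
noncomputable def eG (g : G) : B ⊗[A] B := tau σ (-g) (Algebra.FormallyUnramified.elem A B)

include hσ0 hσadd in
theorem one_tmul_mul_eG (g : G) (s : B) :
    ((1 : B) ⊗ₜ[A] s) * eG σ g = ((σ g s) ⊗ₜ[A] (1 : B)) * eG σ g := by
  have h1 := Algebra.FormallyUnramified.one_tmul_mul_elem (R := A) (S := B) (σ g s)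
  have h2 := congrArg (tau σ (-g)) h1
  rw [map_mul, map_mul, tau_tmul, tau_tmul, map_one] at h2
  have h3 : σ (-g) (σ g s) = s := by
    have := hσadd (-g) g
    rw [neg_add_cancel, hσ0] at this
    have h4 := congrArg (fun f => f s) this
    simpa using h4.symm
  rw [h3] at h2
  exact h2

include hσ0 hσadd in
theorem mul_eG (g : G) (w : B ⊗[A] B) :
    w * eG σ g = ((Phi σ g w) ⊗ₜ[A] (1 : B)) * eG σ g := by
  induction w using TensorProduct.induction_on with
  | zero => simp
  | tmul x y =>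
    have h1 : x ⊗ₜ[A] y = (x ⊗ₜ[A] (1 : B)) * ((1 : B) ⊗ₜ[A] y) := by simp
    rw [h1, mul_assoc, one_tmul_mul_eG σ hσ0 hσadd, ← mul_assoc, ← h1, Phi_tmul]
    simp
  | add x y hx hy => rw [add_mul, hx, hy, map_add, TensorProduct.add_tmul, add_mul]

theorem elem_isIdempotent : (Algebra.FormallyUnramified.elem A B) * (Algebra.FormallyUnramified.elem A B)
    = Algebra.FormallyUnramified.elem A B := by
  have key : ∀ w : B ⊗[A] B, w * Algebra.FormallyUnramified.elem A B =
      ((Algebra.TensorProduct.lmul' A w) ⊗ₜ[A] (1 : B)) * Algebra.FormallyUnramified.elem A B := by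
    intro w
    induction w using TensorProduct.induction_on with
    | zero => simp
    | tmul x y =>
      have h1 : x ⊗ₜ[A] y = (x ⊗ₜ[A] (1 : B)) * ((1 : B) ⊗ₜ[A] y) := by simp
      rw [h1, mul_assoc, Algebra.FormallyUnramified.one_tmul_mul_elem, ← mul_assoc]
      simp
    | add x y hx hy => rw [add_mul, hx, hy, map_add, TensorProduct.add_tmul, add_mul]
  rw [key, Algebra.FormallyUnramified.lmul_elem]
  rw [← Algebra.TensorProduct.one_def, one_mul]

theorem eG_isIdempotent (g : G) : eG σ g * eG σ g = eG σ g := by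
  unfold eG
  rw [← map_mul, elem_isIdempotent]


/-- Geometric torsor condition. -/
def IsGeomTorsor (σ : G → (B →ₐ[A] B)) : Prop :=
  ∀ (Ω : Type u) [Field Ω] [IsAlgClosed Ω] (s t : B →+* Ω),
    s.comp (algebraMap A B) = t.comp (algebraMap A B) →
    ∃! g : G, s.comp (σ g).toRingHom = t

include hσ0 hσadd in
theorem span_sub_eq_top (htors : IsGeomTorsor σ) (g h : G) (hgh : g ≠ h) :
    Ideal.span (Set.range fun s : B => σ g s - σ h s) = ⊤ := by
  by_contra hne
  obtain ⟨m, hm, hJm⟩ := Ideal.exists_le_maximal _ hne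
  letI : Field (B ⧸ m) := Ideal.Quotient.field m
  let Ω := AlgebraicClosure (B ⧸ m)
  let s : B →+* Ω := (algebraMap (B ⧸ m) Ω).comp (Ideal.Quotient.mk m)
  have hs : ∀ x, s (σ g x) = s (σ h x) := by
    intro x
    have h1 : σ g x - σ h x ∈ m := hJm (Ideal.subset_span ⟨x, rfl⟩)
    have h2 : s (σ g x - σ h x) = 0 := by
      simp only [s, RingHom.comp_apply]
      rw [Ideal.Quotient.eq_zero_iff_mem.mpr h1, map_zero]
    rw [map_sub, sub_eq_zero] at h2
    exact h2
  let s' : B →+* Ω := s.comp (σ h).toRingHom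
  obtain ⟨k, -, hk⟩ := htors Ω s' s' rfl
  have h0 : s'.comp (σ 0).toRingHom = s' := by
    rw [hσ0]; rfl
  have h1 : s'.comp (σ (-h + g)).toRingHom = s' := by
    ext x
    simp only [s', RingHom.comp_apply, AlgHom.toRingHom_eq_coe, RingHom.coe_coe]
    have h2 : σ h (σ (-h + g) x) = σ g x := by
      have := hσadd h (-h + g)
      rw [add_neg_cancel_left] at this
      rw [this]; rfl
    rw [h2, hs]
  have h4 : -h + g = 0 := (hk (-h + g) h1).trans (hk 0 h0).symm
  exact hgh (neg_add_eq_zero.mp h4).symm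

include hσ0 hσadd in
theorem eG_mul_eG (htors : IsGeomTorsor σ) (g h : G) (hgh : g ≠ h) : eG σ g * eG σ h = 0 := by
  have h1 : ∀ s : B, ((σ g s - σ h s) ⊗ₜ[A] (1 : B)) * (eG σ g * eG σ h) = 0 := by
    intro s
    rw [TensorProduct.sub_tmul, sub_mul, ← mul_assoc, ← one_tmul_mul_eG σ hσ0 hσadd g s,
      mul_comm (eG σ g) (eG σ h), ← mul_assoc (σ h s ⊗ₜ[A] (1 : B)),
      ← one_tmul_mul_eG σ hσ0 hσadd h s]
    ring
  have h2 : ∀ b ∈ Ideal.span (Set.range fun s : B => σ g s - σ h s),
      (b ⊗ₜ[A] (1 : B)) * (eG σ g * eG σ h) = 0 := by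
    intro b hb
    induction hb using Submodule.span_induction with
    | mem x hx =>
      obtain ⟨s, rfl⟩ := hx
      exact h1 s
    | zero => simp
    | add x y _ _ hx hy => rw [TensorProduct.add_tmul, add_mul, hx, hy, add_zero]
    | smul a x _ hx =>
      have : (a • x) ⊗ₜ[A] (1 : B) = (a ⊗ₜ[A] (1 : B)) * (x ⊗ₜ[A] (1 : B)) := by simp
      rw [this, mul_assoc, hx, mul_zero]
  have h3 := h2 1 (by rw [span_sub_eq_top σ hσ0 hσadd htors g h hgh]; trivial)
  rwa [← Algebra.TensorProduct.one_def, one_mul] at h3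

include hσ0 hσadd in
theorem sum_eG (htors : IsGeomTorsor σ) : ∑ g, eG σ g = 1 := by
  set E := ∑ g, eG σ g with hE
  have hmulE : ∀ g, eG σ g * E = eG σ g := by
    intro g
    rw [hE, Finset.mul_sum, Finset.sum_eq_single g]
    · exact eG_isIdempotent σ g
    · intro h _ hne
      exact eG_mul_eG σ hσ0 hσadd htors g h (Ne.symm hne)
    · intro h; exact absurd (Finset.mem_univ g) h
  have hEE : E * E = E := by
    conv_lhs => rw [hE, Finset.sum_mul]
    rw [hE]
    exact Finset.sum_congr rfl fun g _ => hmulE g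
  by_contra hne
  have hnu : ¬ IsUnit E := by
    intro hu
    apply hne
    have := hu.mul_left_cancel (a := E) (b := E) (c := 1) (by rw [hEE, mul_one])
    exact this
  obtain ⟨𝔮, h𝔮, hE𝔮⟩ := exists_max_ideal_of_mem_nonunits (mem_nonunits_iff.mpr hnu)
  have hmem : ∀ g, eG σ g ∈ 𝔮 := by
    intro g
    rw [← hmulE g]
    exact 𝔮.mul_mem_left _ hE𝔮
  letI : Field ((B ⊗[A] B) ⧸ 𝔮) := Ideal.Quotient.field 𝔮
  let Ω := AlgebraicClosure ((B ⊗[A] B) ⧸ 𝔮)
  let π : B ⊗[A] B →+* Ω := (algebraMap ((B ⊗[A] B) ⧸ 𝔮) Ω).comp (Ideal.Quotient.mk 𝔮)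
  have hπ : ∀ x ∈ 𝔮, π x = 0 := by
    intro x hx
    simp only [π, RingHom.comp_apply]
    rw [Ideal.Quotient.eq_zero_iff_mem.mpr hx, map_zero]
  let s : B →+* Ω := π.comp (Algebra.TensorProduct.includeLeftRingHom)
  let t : B →+* Ω := π.comp (Algebra.TensorProduct.includeRight (R := A) (A := B) (B := B)).toRingHom
  have hst : t.comp (algebraMap A B) = s.comp (algebraMap A B) := by
    ext a
    simp only [s, t, RingHom.comp_apply, AlgHom.toRingHom_eq_coe, RingHom.coe_coe,
      Algebra.TensorProduct.includeLeftRingHom_apply, Algebra.TensorProduct.includeRight_apply]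
    congr 1
    rw [Algebra.algebraMap_eq_smul_one, TensorProduct.smul_tmul]
  obtain ⟨g, hg, -⟩ := htors Ω t s hst
  have hkey : ∀ w : B ⊗[A] B, π (tau σ g w) = s (Algebra.TensorProduct.lmul' A w) := by
    intro w
    induction w using TensorProduct.induction_on with
    | zero => simp
    | tmul x y =>
      have h1 : x ⊗ₜ[A] σ g y = (x ⊗ₜ[A] (1 : B)) * ((1 : B) ⊗ₜ[A] σ g y) := by simp
      rw [tau_tmul, h1, map_mul, Algebra.TensorProduct.lmul'_apply_tmul, map_mul]
      have h2 : π ((1 : B) ⊗ₜ[A] σ g y) = s y := by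
        rw [← hg]; rfl
      rw [h2]; rfl
    | add x y hx hy => rw [map_add, map_add, hx, hy, map_add, map_add]
  have h1 : π (eG σ (-g)) = 1 := by
    unfold eG
    rw [neg_neg, hkey, Algebra.FormallyUnramified.lmul_elem, map_one]
  rw [hπ _ (hmem (-g))] at h1
  exact zero_ne_one h1

include hσ0 hσadd in
theorem Phi_eG (htors : IsGeomTorsor σ) (g h : G) :
    Phi σ h (eG σ g) = if g = h then 1 else 0 := by
  have hself : ∀ k, Phi σ k (eG σ k) = 1 := by
    intro k
    unfold eG
    rw [Phi_tau σ hσadd, add_neg_cancel, Phi_zero σ hσ0, Algebra.FormallyUnramified.lmul_elem]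
  split_ifs with hgh
  · subst hgh; exact hself g
  · have h1 : Phi σ h (eG σ g * eG σ h) = 0 := by
      rw [eG_mul_eG σ hσ0 hσadd htors g h hgh, map_zero]
    rwa [map_mul, hself h, mul_one] at h1

include hσ0 hσadd in
theorem Phi_injective (htors : IsGeomTorsor σ) (w w' : B ⊗[A] B)
    (h : ∀ g, Phi σ g w = Phi σ g w') : w = w' := by
  have key : ∀ v : B ⊗[A] B, v = ∑ g, ((Phi σ g v) ⊗ₜ[A] (1 : B)) * eG σ g := by
    intro v
    conv_lhs => rw [← mul_one v, ← sum_eG σ hσ0 hσadd htors, Finset.mul_sum]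
    exact Finset.sum_congr rfl fun g _ => mul_eG σ hσ0 hσadd g v
  rw [key w, key w']
  exact Finset.sum_congr rfl fun g _ => by rw [h g]

include hσ0 hσadd in
theorem Phi_surjective (htors : IsGeomTorsor σ) (c : G → B) :
    ∃ w : B ⊗[A] B, ∀ g, Phi σ g w = c g := by
  refine ⟨∑ g, ((c g) ⊗ₜ[A] (1 : B)) * eG σ g, fun h => ?_⟩
  rw [map_sum, Finset.sum_eq_single h]
  · rw [map_mul, Phi_eG σ hσ0 hσadd htors, if_pos rfl, Phi_tmul]
    simp
  · intro g _ hne
    rw [map_mul, Phi_eG σ hσ0 hσadd htors, if_neg hne, mul_zero]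
  · intro hh; exact absurd (Finset.mem_univ h) hh

end Torsor

end Groth.Agent.Lib.ASTorsH8
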