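import Groth.Agent.Lib.ASTors1_helper8
import Groth.Prelude.Def_SGA1t

open TensorProduct Polynomial

namespace Groth.Agent.Lib.ASTorsH8

universe u

section AS

variable {A B : Type u} [CommRing A] [CommRing B] [Algebra A B]
variable (p : ℕ) [Fact p.Prime] [CharP A p]
variable (σ : ZMod p → (B →ₐ[A] B))
variable (hσ0 : σ 0 = AlgHom.id A B) (hσadd : ∀ g h, σ (g + h) = (σ g).comp (σ h))

/-- the cast `ZMod p → B`. -/
noncomputable def cB (j : ZMod p) : B := algebraMap A B (ZMod.castHom (dvd_refl p) A j)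

theorem cB_add (j k : ZMod p) : cB (B := B) (A := A) p (j + k) = cB (A := A) p j + cB (A := A) p k := by
  simp [cB]

theorem cB_one : cB (B := B) (A := A) p 1 = 1 := by simp [cB]

theorem cB_zero : cB (B := B) (A := A) p 0 = 0 := by simp [cB]

theorem cB_pow (j : ZMod p) : (cB (B := B) (A := A) p j) ^ p = cB (A := A) p j := by
  unfold cB
  rw [← map_pow, ← map_pow, ZMod.pow_card]

theorem lTensor_eq_tau (g : ZMod p) (w : B ⊗[A] B) :
    (σ g).toLinearMap.lTensor B w = tau σ g w := by
  induction w using TensorProduct.induction_on with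
  | zero => simp
  | tmul x y => simp
  | add x y hx hy => rw [map_add, map_add, hx, hy]

variable [Algebra.FormallyUnramified A B] [Algebra.EssFiniteType A B] [Module.FaithfullyFlat A B]

include hσ0 hσadd in
theorem exists_T (htors : IsGeomTorsor σ) : ∃ T : B, σ 1 T = T + 1 := by
  obtain ⟨w, hw⟩ := Phi_surjective σ hσ0 hσadd htors (cB (A := A) p)
  let D : B →ₗ[A] B := (σ 1).toLinearMap - LinearMap.id
  have h1 : (1 : B) ⊗ₜ[A] (1 : B) ∈ LinearMap.range (D.lTensor B) := by
    refine ⟨w, ?_⟩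
    apply Phi_injective σ hσ0 hσadd htors
    intro g
    have h2 : D.lTensor B w = tau σ 1 w - w := by
      simp only [D]
      rw [LinearMap.lTensor_sub, LinearMap.sub_apply, lTensor_eq_tau, LinearMap.lTensor_id,
        LinearMap.id_apply]
    rw [h2, map_sub, Phi_tau σ hσadd, hw, hw, cB_add, cB_one, Phi_tmul]
    simp
  obtain ⟨T, hT⟩ := mem_range_of_tmul_mem_range (B := B) D 1 h1
  refine ⟨T, ?_⟩
  simp only [D, LinearMap.sub_apply, AlgHom.toLinearMap_apply, LinearMap.id_apply] at hT
  rw [← hT]; ring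

include hσ0 hσadd in
theorem sigma_T (T : B) (hT : σ 1 T = T + 1) (j : ZMod p) : σ j T = T + cB (A := A) p j := by
  have key : ∀ n : ℕ, σ (n : ZMod p) T = T + cB (A := A) p (n : ZMod p) := by
    intro n
    induction n with
    | zero => rw [Nat.cast_zero, hσ0, cB_zero]; simp
    | succ n ih =>
      rw [Nat.cast_succ, hσadd, AlgHom.comp_apply, hT, map_add, map_one, ih, cB_add, cB_one]
      ring
  have := key j.val
  rwa [ZMod.natCast_zmod_val] at this

include hσ0 hσadd in
theorem exists_a (htors : IsGeomTorsor σ) (T : B) (hT : σ 1 T = T + 1) :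
    ∃ a : A, algebraMap A B a = T ^ p - T := by
  haveI : CharP B p := charP_of_injective_algebraMap (FaithfulSMul.algebraMap_injective A B) p
  have hinv : ∀ g, σ g (T ^ p - T) = T ^ p - T := by
    intro g
    rw [map_sub, map_pow, sigma_T p σ hσ0 hσadd T hT, add_pow_char, cB_pow]
    ring
  have h1 : (1 : B) ⊗ₜ[A] (T ^ p - T) = (T ^ p - T) ⊗ₜ[A] (1 : B) := by
    apply Phi_injective σ hσ0 hσadd htors
    intro g
    rw [Phi_tmul, Phi_tmul, hinv, map_one]
    ring
  have h2 : (1 : B) ⊗ₜ[A] (T ^ p - T) ∈ LinearMap.range ((Algebra.linearMap A B).lTensor B) := by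
    refine ⟨(T ^ p - T) ⊗ₜ[A] (1 : A), ?_⟩
    rw [LinearMap.lTensor_tmul, h1]
    simp
  obtain ⟨a, ha⟩ := mem_range_of_tmul_mem_range (B := B) (Algebra.linearMap A B) _ h2
  exact ⟨a, ha⟩


/-- nonzero elements of `ZMod p` become units. -/
theorem isUnit_cB (j : ZMod p) (hj : j ≠ 0) : IsUnit (cB (B := B) (A := A) p j) := by
  unfold cB
  exact ((isUnit_iff_ne_zero.mpr hj).map (ZMod.castHom (dvd_refl p) A)).map (algebraMap A B)

/-- the points `T + i`. -/
noncomputable def rr (T : B) (i : Fin p) : B := T + cB (A := A) p ((i : ℕ) : ZMod p)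

theorem isUnit_det_vandermonde (T : B) :
    IsUnit (Matrix.vandermonde (rr (A := A) p T)).det := by
  rw [Matrix.det_vandermonde]
  refine IsUnit.prod_univ_iff.mpr fun i => ?_
  rw [← Finset.prod_attach]
  refine IsUnit.prod_univ_iff.mpr fun j => ?_
  have hij : i < j.1 := Finset.mem_Ioi.mp j.2
  have h1 : rr (A := A) p T j.1 - rr (A := A) p T i =
      cB (A := A) p (((j.1 : ℕ) : ZMod p) - ((i : ℕ) : ZMod p)) := by
    unfold rr cB
    rw [map_sub, map_sub]; ring
  rw [h1]
  apply isUnit_cB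
  intro h0
  rw [sub_eq_zero] at h0
  have h2 := congrArg ZMod.val h0
  rw [ZMod.val_natCast_of_lt j.1.2, ZMod.val_natCast_of_lt i.2] at h2
  exact absurd (Fin.ext h2) (ne_of_gt hij)

include hσ0 hσadd in
theorem coeff_eq_zero (T : B) (hT : σ 1 T = T + 1) (c : Fin p → A)
    (h : ∑ i : Fin p, c i • T ^ (i : ℕ) = 0) : c = 0 := by
  have hinj : Function.Injective (algebraMap A B) := FaithfulSMul.algebraMap_injective A B
  let V := Matrix.vandermonde (rr (A := A) p T)
  have hV : IsUnit V := (Matrix.isUnit_iff_isUnit_det _).mpr (isUnit_det_vandermonde p T)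
  have h1 : V.mulVec (fun i => algebraMap A B (c i)) = 0 := by
    ext k
    have h2 := congrArg (σ ((k : ℕ) : ZMod p)) h
    rw [map_sum, map_zero] at h2
    simp only [Matrix.mulVec, dotProduct, V, Matrix.vandermonde_apply, Pi.zero_apply]
    rw [← h2]
    refine Finset.sum_congr rfl fun i _ => ?_
    rw [map_smul, map_pow, sigma_T p σ hσ0 hσadd T hT, Algebra.smul_def]
    unfold rr
    ring
  have h3 : (fun i => algebraMap A B (c i)) = 0 := by
    have := congrArg (V⁻¹.mulVec) h1
    rwa [Matrix.mulVec_mulVec, Matrix.nonsing_inv_mul _ ((Matrix.isUnit_iff_isUnit_det _).mp hV),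
      Matrix.one_mulVec, Matrix.mulVec_zero] at this
  ext i
  apply hinj
  rw [Pi.zero_apply, map_zero]
  exact congrFun h3 i

include hσ0 hσadd in
theorem exists_coeff (htors : IsGeomTorsor σ) (T : B) (hT : σ 1 T = T + 1) (y : B) :
    ∃ c : Fin p → A, ∑ i : Fin p, c i • T ^ (i : ℕ) = y := by
  let V := Matrix.vandermonde (rr (A := A) p T)
  have hV : IsUnit V := (Matrix.isUnit_iff_isUnit_det _).mpr (isUnit_det_vandermonde p T)
  let u : Fin p → B := fun k => σ ((k : ℕ) : ZMod p) y
  let v : Fin p → B := V⁻¹.mulVec u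
  have hv : V.mulVec v = u := by
    simp only [v]
    rw [Matrix.mulVec_mulVec, Matrix.mul_nonsing_inv _ ((Matrix.isUnit_iff_isUnit_det _).mp hV),
      Matrix.one_mulVec]
  let ψ : (Fin p → A) →ₗ[A] B :=
    { toFun := fun c => ∑ i : Fin p, c i • T ^ (i : ℕ)
      map_add' := by
        intro c d
        simp only [Pi.add_apply, add_smul, Finset.sum_add_distrib]
      map_smul' := by
        intro a c
        simp only [Pi.smul_apply, smul_eq_mul, mul_smul, Finset.smul_sum, RingHom.id_apply] }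
  have hψ : ∀ i : Fin p, ψ (Pi.single i 1) = T ^ (i : ℕ) := by
    intro i
    simp only [ψ, LinearMap.coe_mk, AddHom.coe_mk]
    rw [Finset.sum_eq_single i]
    · simp
    · intro j _ hj
      simp [Pi.single_eq_of_ne hj]
    · intro h; exact absurd (Finset.mem_univ i) h
  have h1 : (1 : B) ⊗ₜ[A] y ∈ LinearMap.range (ψ.lTensor B) := by
    refine ⟨∑ i : Fin p, v i ⊗ₜ[A] (Pi.single i (1 : A)), ?_⟩
    apply Phi_injective σ hσ0 hσadd htors
    intro g
    rw [map_sum, map_sum]
    simp only [LinearMap.lTensor_tmul, hψ, Phi_tmul, map_pow, one_mul]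
    have hg : g = (((⟨g.val, ZMod.val_lt g⟩ : Fin p) : ℕ) : ZMod p) := by
      simp
    have h2 := congrFun hv ⟨g.val, ZMod.val_lt g⟩
    simp only [Matrix.mulVec, dotProduct, V, Matrix.vandermonde_apply, u] at h2
    rw [← hg] at h2
    rw [← h2]
    refine Finset.sum_congr rfl fun i _ => ?_
    rw [sigma_T p σ hσ0 hσadd T hT]
    unfold rr
    rw [← hg]
    ring
  obtain ⟨c, hc⟩ := mem_range_of_tmul_mem_range (B := B) ψ y h1
  exact ⟨c, hc⟩


theorem asPoly_monic (a : A) : ((X : A[X]) ^ p - X - C a).Monic := by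
  have hp : 1 < p := (Fact.out : p.Prime).one_lt
  rw [sub_sub]
  apply monic_X_pow_sub
  refine lt_of_le_of_lt (degree_add_le _ _) ?_
  refine max_lt ?_ ?_
  · exact lt_of_le_of_lt degree_X_le (by exact_mod_cast hp)
  · exact lt_of_le_of_lt degree_C_le (by exact_mod_cast (Fact.out : p.Prime).pos)

theorem asPoly_natDegree [Nontrivial A] (a : A) : ((X : A[X]) ^ p - X - C a).natDegree = p := by
  have hp : 1 < p := (Fact.out : p.Prime).one_lt
  rw [sub_sub]
  have h1 : ((X : A[X]) + C a).natDegree < ((X : A[X]) ^ p).natDegree := by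
    rw [natDegree_X_pow]
    exact lt_of_le_of_lt (natDegree_add_le _ _) (by
      rw [natDegree_X, natDegree_C]; simpa using hp)
  rw [natDegree_sub_eq_left_of_natDegree_lt h1, natDegree_X_pow]

include hσ0 hσadd in
theorem as_core (htors : IsGeomTorsor σ) :
    ∃ (a : A) (φ : SGA1t.artinSchreier A p a ≃ₐ[A] B),
      ∀ (j : ZMod p) (x : SGA1t.artinSchreier A p a),
        φ (SGA1t.artinSchreierShift A p a j x) = σ j (φ x) := by
  obtain ⟨T, hT⟩ := exists_T p σ hσ0 hσadd htors
  obtain ⟨a, ha⟩ := exists_a p σ hσ0 hσadd htors T hT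
  have hker : ∀ q ∈ Ideal.span {((X : A[X]) ^ p - X - C a)}, aeval T q = 0 := by
    intro q hq
    obtain ⟨r, rfl⟩ := Ideal.mem_span_singleton'.mp hq
    rw [map_mul, map_sub, map_sub, map_pow, aeval_X, aeval_C, ha]
    ring
  let φ₀ : SGA1t.artinSchreier A p a →ₐ[A] B := Ideal.Quotient.liftₐ _ (aeval T) hker
  have hφ₀ : ∀ q : A[X], φ₀ (Ideal.Quotient.mk _ q) = aeval T q := fun q => rfl
  have hinj : Function.Injective φ₀ := by
    rw [injective_iff_map_eq_zero]
    intro x hx
    obtain ⟨q, rfl⟩ := Ideal.Quotient.mk_surjective x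
    by_cases hA : Nontrivial A
    · have hm := asPoly_monic p a
      have hq : Ideal.Quotient.mk (Ideal.span {((X : A[X]) ^ p - X - C a)}) q =
          Ideal.Quotient.mk _ (q %ₘ ((X : A[X]) ^ p - X - C a)) := by
        rw [Ideal.Quotient.eq, Ideal.mem_span_singleton']
        refine ⟨q /ₘ ((X : A[X]) ^ p - X - C a), ?_⟩
        have := modByMonic_add_div q (q := ((X : A[X]) ^ p - X - C a))
        rw [mul_comm]
        linear_combination this
      rw [hq] at hx ⊢
      set r := q %ₘ ((X : A[X]) ^ p - X - C a) with hr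
      have hdeg : r.natDegree < p := by
        have := natDegree_modByMonic_lt q hm (by
          intro h1
          have := asPoly_natDegree p a
          rw [h1, natDegree_one] at this
          exact (Fact.out : p.Prime).ne_zero this.symm)
        rwa [asPoly_natDegree p a] at this
      rw [hφ₀, aeval_eq_sum_range' hdeg, ← Fin.sum_univ_eq_sum_range (fun i => r.coeff i • T ^ i)] at hx
      have h0 := coeff_eq_zero p σ hσ0 hσadd T hT (fun i : Fin p => r.coeff i) hx
      have hr0 : r = 0 := by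
        ext n
        by_cases hn : n < p
        · exact congrFun h0 ⟨n, hn⟩
        · rw [coeff_eq_zero_of_natDegree_lt (lt_of_lt_of_le hdeg (not_lt.mp hn))]; simp
      rw [hr0, map_zero]
    · rw [not_nontrivial_iff_subsingleton] at hA
      haveI : Subsingleton A[X] := inferInstance
      exact Subsingleton.elim _ _
  have hsurj : Function.Surjective φ₀ := by
    intro y
    obtain ⟨c, hc⟩ := exists_coeff p σ hσ0 hσadd htors T hT y
    refine ⟨Ideal.Quotient.mk _ (∑ i : Fin p, C (c i) * X ^ (i : ℕ)), ?_⟩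
    rw [hφ₀, map_sum, ← hc]
    refine Finset.sum_congr rfl fun i _ => ?_
    rw [map_mul, aeval_C, map_pow, aeval_X, Algebra.smul_def]
  refine ⟨a, AlgEquiv.ofBijective φ₀ ⟨hinj, hsurj⟩, ?_⟩
  intro j x
  obtain ⟨q, rfl⟩ := Ideal.Quotient.mk_surjective x
  show φ₀ (SGA1t.artinSchreierShift A p a j (Ideal.Quotient.mk _ q)) = σ j (φ₀ (Ideal.Quotient.mk _ q))
  have h1 : SGA1t.artinSchreierShift A p a j (Ideal.Quotient.mk _ q) =
      Ideal.Quotient.mk _ (aeval (X + C ((ZMod.castHom (dvd_refl p) A) j)) q) := rfl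
  rw [h1, hφ₀, hφ₀]
  clear h1
  induction q using Polynomial.induction_on' with
  | add q r hq hr => rw [map_add, map_add, map_add, map_add, hq, hr]
  | monomial n c =>
    rw [← C_mul_X_pow_eq_monomial]
    simp only [map_mul, map_pow, aeval_C, aeval_X, map_add, AlgHom.commutes]
    rw [sigma_T p σ hσ0 hσadd T hT]
    rfl

end AS

end Groth.Agent.Lib.ASTorsH8
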