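import Groth.Agent.Lib.ASTors2_helper8

open CategoryTheory CategoryTheory.Limits AlgebraicGeometry

namespace Groth.Agent.Lib.ASTorsH8

universe u

section Gen

theorem hom_eq' {X : Scheme.{u}} [IsAffine X] (R : CommRingCat.{u}) (f : X ⟶ Spec R) :
    f = X.isoSpec.hom ≫ Spec.map ((Scheme.ΓSpecIso R).inv ≫ f.appTop) := by
  have h1 := Scheme.isoSpec_hom_naturality f
  rw [Scheme.isoSpec_Spec_hom] at h1
  rw [Spec.map_comp, ← Category.assoc, h1, Category.assoc, ← Spec.map_comp, Iso.inv_hom_id,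
    Spec.map_id, Category.comp_id]

theorem aut_eq' {X : Scheme.{u}} [IsAffine X] (g : X ⟶ X) :
    g = X.isoSpec.hom ≫ Spec.map g.appTop ≫ X.isoSpec.inv := by
  rw [← Category.assoc, Scheme.isoSpec_hom_naturality, Category.assoc, Iso.hom_inv_id,
    Category.comp_id]

end Gen

section Sch

variable (A : Type u) [CommRing A] (p : ℕ) [Fact p.Prime] [CharP A p]
variable (P : FEt.Cat (Spec (CommRingCat.of A))) (ρ : Multiplicative (ZMod p) →* Aut P)

/-- the structure morphism with its plain type. -/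
abbrev sh : P.left ⟶ Spec (CommRingCat.of A) := P.hom

/-- the structure ring map `A → Γ(P)`. -/
noncomputable def str : CommRingCat.of A ⟶ Γ(P.left, ⊤) :=
  (Scheme.ΓSpecIso (CommRingCat.of A)).inv ≫ (sh A P).appTop

instance : IsFinite (sh A P) := P.prop.1
instance : Etale (sh A P) := P.prop.2
instance : IsAffine P.left := isAffine_of_isAffineHom (sh A P)

theorem hom_eq : sh A P = P.left.isoSpec.hom ≫ Spec.map (str A P) := hom_eq' _ _


theorem rho_one_appTop : (ρ 1).hom.left.appTop = 𝟙 _ := by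
  rw [map_one]
  rfl

theorem rho_mul_appTop (x y : Multiplicative (ZMod p)) :
    (ρ (x * y)).hom.left.appTop = (ρ x).hom.left.appTop ≫ (ρ y).hom.left.appTop := by
  rw [map_mul, Aut.Aut_mul_def]
  rfl

theorem str_comp (g : Aut P) : str A P ≫ g.hom.left.appTop = str A P := by
  have h1 : g.hom.left ≫ sh A P = sh A P := Over.w g.hom.hom
  have h2 := congrArg Scheme.Hom.appTop h1
  rw [Scheme.Hom.comp_appTop] at h2
  unfold str
  rw [Category.assoc, h2]


set_option maxHeartbeats 1600000 in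
theorem main3721 (hP : SGA1t.IsPrincipal (Multiplicative (ZMod p)) P ρ) :
    ∃ (a : A) (e : P.left ≅ Spec (CommRingCat.of (SGA1t.artinSchreier A p a))),
      e.hom ≫ Spec.map (CommRingCat.ofHom (algebraMap A (SGA1t.artinSchreier A p a))) = P.hom ∧
      ∀ j : ZMod p, (ρ (Multiplicative.ofAdd j)).hom.left ≫ e.hom =
        e.hom ≫ Spec.map (CommRingCat.ofHom (SGA1t.artinSchreierShift A p a j)) := by
  letI : Algebra A Γ(P.left, ⊤) := (str A P).hom.toAlgebra
  have halg : algebraMap A Γ(P.left, ⊤) = (str A P).hom := rfl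
  have hfinS : IsFinite (Spec.map (str A P)) := by
    have h1 : IsFinite (sh A P) := inferInstance
    rw [hom_eq] at h1
    exact (MorphismProperty.cancel_left_of_respectsIso @IsFinite _ _).mp h1
  have hetS : Etale (Spec.map (str A P)) := by
    have h1 : Etale (sh A P) := inferInstance
    rw [hom_eq] at h1
    exact (MorphismProperty.cancel_left_of_respectsIso @Etale _ _).mp h1
  haveI hfin : Module.Finite A Γ(P.left, ⊤) := (IsFinite.SpecMap_iff _).mp hfinS
  haveI het : Algebra.Etale A Γ(P.left, ⊤) := (HasRingHomProperty.Spec_iff (P := @Etale)).mp hetS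
  haveI hff : Module.FaithfullyFlat A Γ(P.left, ⊤) := by
    apply Module.FaithfullyFlat.of_comap_surjective
    intro x
    obtain ⟨y, hy⟩ := hP.1 x
    refine ⟨(P.left.isoSpec.hom).base y, ?_⟩
    have h1 : (sh A P).base y = x := hy
    rw [hom_eq] at h1
    exact h1
  let σ : ZMod p → (Γ(P.left, ⊤) →ₐ[A] Γ(P.left, ⊤)) := fun g =>
    { toRingHom := ((ρ (Multiplicative.ofAdd g)).hom.left.appTop).hom
      commutes' := by
        intro a
        have h1 := str_comp A P (ρ (Multiplicative.ofAdd g))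
        have h2 := congrArg (fun f => f.hom a) h1
        exact h2 }
  have hσapp : ∀ g x, σ g x = ((ρ (Multiplicative.ofAdd g)).hom.left.appTop).hom x := fun g x => rfl
  have hσ0 : σ 0 = AlgHom.id A Γ(P.left, ⊤) := by
    ext x
    rw [hσapp, ofAdd_zero, rho_one_appTop]
    rfl
  have hσadd : ∀ g h, σ (g + h) = (σ g).comp (σ h) := by
    intro g h
    ext x
    rw [AlgHom.comp_apply, hσapp, hσapp, hσapp, add_comm, ofAdd_add, rho_mul_appTop]
    rfl
  have htors : IsGeomTorsor σ := by
    intro Ω _ _ s t hst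
    let ξ : Spec (CommRingCat.of Ω) ⟶ Spec (CommRingCat.of A) :=
      Spec.map (str A P ≫ CommRingCat.ofHom s)
    have hs : (Spec.map (CommRingCat.ofHom s) ≫ P.left.isoSpec.inv) ≫ P.hom = ξ := by
      show (Spec.map (CommRingCat.ofHom s) ≫ P.left.isoSpec.inv) ≫ sh A P = ξ
      rw [hom_eq, Category.assoc, Iso.inv_hom_id_assoc, ← Spec.map_comp]
    have ht : (Spec.map (CommRingCat.ofHom t) ≫ P.left.isoSpec.inv) ≫ P.hom = ξ := by
      show (Spec.map (CommRingCat.ofHom t) ≫ P.left.isoSpec.inv) ≫ sh A P = ξ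
      rw [hom_eq, Category.assoc, Iso.inv_hom_id_assoc, ← Spec.map_comp]
      congr 1
      ext a
      exact (congrArg (fun f => f a) hst).symm
    have key : ∀ g : ZMod p,
        ((FEt.fiber ξ).map (ρ (Multiplicative.ofAdd g)).hom ⟨_, hs⟩ = (⟨_, ht⟩ : FEt.fiberObj ξ P)) ↔
          s.comp (σ g).toRingHom = t := by
      intro g
      refine Iff.trans Subtype.ext_iff ?_
      show (Spec.map (CommRingCat.ofHom s) ≫ P.left.isoSpec.inv) ≫ (ρ (Multiplicative.ofAdd g)).hom.left =
        Spec.map (CommRingCat.ofHom t) ≫ P.left.isoSpec.inv ↔ _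
      rw [Category.assoc, ← Scheme.isoSpec_inv_naturality, ← Category.assoc, ← Spec.map_comp,
        cancel_mono, Spec.map_inj]
      constructor
      · intro h
        ext x
        exact congrArg (fun f => f.hom x) h
      · intro h
        ext x
        exact congrArg (fun f => f x) h
    obtain ⟨g, hg, hguniq⟩ := hP.2 Ω ξ ⟨_, hs⟩ ⟨_, ht⟩
    refine ⟨Multiplicative.toAdd g, (key _).mp hg, ?_⟩
    intro g' hg'
    have := hguniq (Multiplicative.ofAdd g') ((key g').mpr hg')
    rw [← this]; rfl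
  obtain ⟨a, φ, hφ⟩ := as_core p σ hσ0 hσadd htors
  let ψ : CommRingCat.of (SGA1t.artinSchreier A p a) ⟶ Γ(P.left, ⊤) :=
    CommRingCat.ofHom (φ : SGA1t.artinSchreier A p a →+* Γ(P.left, ⊤))
  let ψ' : Γ(P.left, ⊤) ⟶ CommRingCat.of (SGA1t.artinSchreier A p a) :=
    CommRingCat.ofHom (φ.symm : Γ(P.left, ⊤) →+* SGA1t.artinSchreier A p a)
  have h1 : ψ ≫ ψ' = 𝟙 _ := by
    refine CommRingCat.hom_ext (RingHom.ext fun x => ?_)
    exact φ.symm_apply_apply x
  have h2 : ψ' ≫ ψ = 𝟙 _ := by
    ext x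
    exact φ.apply_symm_apply x
  let e : P.left ≅ Spec (CommRingCat.of (SGA1t.artinSchreier A p a)) :=
    { hom := P.left.isoSpec.hom ≫ Spec.map ψ
      inv := Spec.map ψ' ≫ P.left.isoSpec.inv
      hom_inv_id := by
        rw [Category.assoc, ← Category.assoc (Spec.map ψ), ← Spec.map_comp, h2, Spec.map_id,
          Category.id_comp, Iso.hom_inv_id]
      inv_hom_id := by
        rw [Category.assoc, ← Category.assoc P.left.isoSpec.inv, Iso.inv_hom_id, Category.id_comp,
          ← Spec.map_comp, h1, Spec.map_id] }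
  refine ⟨a, e, ?_, ?_⟩
  · show (P.left.isoSpec.hom ≫ Spec.map ψ) ≫ _ = sh A P
    rw [hom_eq, Category.assoc, ← Spec.map_comp]
    congr 2
    ext x
    exact φ.commutes x
  · intro j
    show (ρ (Multiplicative.ofAdd j)).hom.left ≫ (P.left.isoSpec.hom ≫ Spec.map ψ) =
      (P.left.isoSpec.hom ≫ Spec.map ψ) ≫ _
    rw [← Category.assoc, ← Scheme.isoSpec_hom_naturality, Category.assoc, Category.assoc,
      ← Spec.map_comp, ← Spec.map_comp]
    congr 2
    refine CommRingCat.hom_ext (RingHom.ext fun x => ?_)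
    exact (hφ j x).symm

end Sch

end Groth.Agent.Lib.ASTorsH8
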