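import Mathlib

/-! # Constructible sets are finite unions of locally closed sets (lead) -/

set_option linter.unusedVariables false
set_option linter.style.longLine false

open Topology Set

namespace Groth.Agent.Lib.ConstrNF

variable {X : Type*} [TopologicalSpace X]

/-- finite unions of locally closed subsets -/
inductive FinLC : Set X → Prop
  | empty : FinLC ∅
  | union {s L : Set X} : FinLC s → IsLocallyClosed L → FinLC (s ∪ L)

theorem FinLC.of_lc {L : Set X} (h : IsLocallyClosed L) : FinLC L := by
  have := FinLC.union FinLC.empty h
  rwa [Set.empty_union] at this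

theorem FinLC.union' {s t : Set X} (hs : FinLC s) (ht : FinLC t) : FinLC (s ∪ t) := by
  induction ht with
  | empty => rwa [Set.union_empty]
  | union _ hL ih => rw [← Set.union_assoc]; exact FinLC.union ih hL

theorem FinLC.inter_lc {s L : Set X} (hs : FinLC s) (hL : IsLocallyClosed L) : FinLC (s ∩ L) := by
  induction hs with
  | empty => rw [Set.empty_inter]; exact FinLC.empty
  | union _ hL' ih => rw [Set.union_inter_distrib_right]; exact FinLC.union ih (hL'.inter hL)

theorem FinLC.inter {s t : Set X} (hs : FinLC s) (ht : FinLC t) : FinLC (s ∩ t) := by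
  induction ht with
  | empty => rw [Set.inter_empty]; exact FinLC.empty
  | union _ hL ih => rw [Set.inter_union_distrib_left]; exact ih.union' (hs.inter_lc hL)

theorem FinLC.compl {s : Set X} (hs : FinLC s) : FinLC sᶜ := by
  induction hs with
  | empty => rw [Set.compl_empty]; exact FinLC.of_lc isOpen_univ.isLocallyClosed
  | union _ hL ih =>
    rw [Set.compl_union]
    refine ih.inter ?_
    obtain ⟨U, Z, hU, hZ, rfl⟩ := hL
    rw [Set.compl_inter]
    exact (FinLC.of_lc hU.isClosed_compl.isLocallyClosed).union'
      (FinLC.of_lc hZ.isOpen_compl.isLocallyClosed)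

theorem finLC_of_isConstructible {s : Set X} (hs : IsConstructible s) : FinLC s := by
  induction hs using IsConstructible.empty_union_induction with
  | open_retrocompact U hU _ => exact FinLC.of_lc hU.isLocallyClosed
  | union s _ t _ hs ht => exact hs.union' ht
  | compl s _ hs => exact hs.compl

/-- a nonempty finite union of locally closed sets contains a nonempty open subset of its
closure -/
theorem FinLC.exists_open {s : Set X} (hs : FinLC s) (hne : s.Nonempty) :
    ∃ U₀ : Set X, IsOpen U₀ ∧ (closure s ∩ U₀).Nonempty ∧ closure s ∩ U₀ ⊆ s := by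
  induction hs with
  | empty => exact absurd hne Set.not_nonempty_empty
  | @union s' L hs' hL ih =>
    by_cases hsub : L ⊆ closure s'
    · have hs'ne : s'.Nonempty := by
        by_contra h
        rw [Set.not_nonempty_iff_eq_empty] at h
        subst h
        rw [closure_empty, Set.subset_empty_iff] at hsub
        subst hsub
        simp at hne
      obtain ⟨U₀, hU₀, hne', hsub'⟩ := ih hs'ne
      have hcl : closure (s' ∪ L) = closure s' := by
        rw [closure_union]
        exact Set.union_eq_left.2 (closure_minimal hsub isClosed_closure)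
      refine ⟨U₀, hU₀, ?_, ?_⟩
      · rwa [hcl]
      · rw [hcl]; exact hsub'.trans Set.subset_union_left
    · obtain ⟨x, hxL, hxs'⟩ := Set.not_subset.1 hsub
      obtain ⟨U, Z, hU, hZ, rfl⟩ := hL
      refine ⟨(closure s')ᶜ ∩ U, isClosed_closure.isOpen_compl.inter hU,
        ⟨x, subset_closure (Or.inr hxL), hxs', hxL.1⟩, ?_⟩
      rintro y ⟨hy, hy1, hy2⟩
      rw [closure_union] at hy
      rcases hy with hy | hy
      · exact absurd hy hy1
      · exact Or.inr ⟨hy2, closure_minimal Set.inter_subset_right hZ hy⟩

theorem FinLC.exists_lc {s : Set X} (hs : FinLC s) (hne : s.Nonempty) :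
    ∃ L : Set X, L ⊆ s ∧ IsLocallyClosed L ∧ L.Nonempty := by
  induction hs with
  | empty => exact absurd hne Set.not_nonempty_empty
  | @union s' L hs' hL ih =>
    by_cases hLne : L.Nonempty
    · exact ⟨L, Set.subset_union_right, hL, hLne⟩
    · rw [Set.not_nonempty_iff_eq_empty] at hLne
      subst hLne
      rw [Set.union_empty] at hne ⊢
      exact ih hne

/-- in a Jacobson space, a constructible set containing all closed points is everything -/
theorem eq_univ_of_closedPoints_subset [JacobsonSpace X] {s : Set X} (hs : IsConstructible s)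
    (h : closedPoints X ⊆ s) : s = Set.univ := by
  by_contra hne
  have hne' : (sᶜ).Nonempty := Set.nonempty_compl.2 hne
  obtain ⟨L, hL1, hL2, hL3⟩ := (finLC_of_isConstructible hs).compl.exists_lc hne'
  obtain ⟨x, hxL, hxc⟩ := nonempty_inter_closedPoints hL3 hL2
  exact hL1 hxL (h hxc)

end Groth.Agent.Lib.ConstrNF
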