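import Groth.Statements.S8008
import Groth.Statements.S14645
import Groth.Statements.S15596
import Groth.Statements.S7984
import Groth.Agent.Lib.GenFlatHom_lead
import Groth.Agent.Lib.ConstrNF_lead

/-! # Points with values in an algebraically closed field; orbits are locally closed (lead) -/

set_option backward.isDefEq.respectTransparency false
set_option backward.isDefEq.respectTransparency.types false
set_option linter.unusedSimpArgs false
set_option linter.unusedVariables false
set_option linter.unusedSectionVars false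
set_option linter.style.longLine false
set_option linter.style.haveILetI false
set_option maxHeartbeats 800000

universe u

open CategoryTheory CategoryTheory.Limits MonoidalCategory CartesianMonoidalCategory MonObj GrpObj
  AlgebraicGeometry Opposite Topology

namespace Groth.Agent.Lib.KPtsOrbit

open Groth.Agent.Lib.AssocBundle Groth.Agent.Lib.GenFlatHom Groth.Agent.Lib.TorsorSeq

section kpts

variable (k K : Type u) [Field k] [Field K] [Algebra k K] [IsAlgClosed K]

/-- a closed point of a `k`-scheme locally of finite type is the image of a `K`-point -/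
theorem exists_Kpt {Y : Over (Spec (CommRingCat.of k))} [LocallyOfFiniteType Y.hom] (y : ↥Y.left)
    (hy : IsClosed ({y} : Set ↥Y.left)) :
    ∃ yt : Over.mk (Spec.map (CommRingCat.ofHom (algebraMap k K))) ⟶ Y, ∀ pt, yt.left pt = y := by
  haveI : Subsingleton ↥(Spec (CommRingCat.of k)) :=
    inferInstanceAs (Subsingleton (PrimeSpectrum k))
  obtain ⟨pt₀⟩ : Nonempty ↥(Spec (CommRingCat.of K)) := inferInstanceAs (Nonempty (PrimeSpectrum K))
  have hf : Surjective (Spec.map (CommRingCat.ofHom (algebraMap k K))) :=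
    ⟨fun x => ⟨pt₀, Subsingleton.elim _ _⟩⟩
  haveI : Surjective (pullback.fst Y.hom (Spec.map (CommRingCat.ofHom (algebraMap k K)))) :=
    MorphismProperty.pullback_fst (P := @Surjective) _ _ hf
  haveI : LocallyOfFiniteType
      (pullback.snd Y.hom (Spec.map (CommRingCat.ofHom (algebraMap k K)))) :=
    MorphismProperty.pullback_snd (P := @LocallyOfFiniteType) _ _ inferInstance
  haveI : JacobsonSpace ↥(pullback Y.hom (Spec.map (CommRingCat.ofHom (algebraMap k K)))) :=
    LocallyOfFiniteType.jacobsonSpace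
      (pullback.snd Y.hom (Spec.map (CommRingCat.ofHom (algebraMap k K))))
  obtain ⟨z₀, hz₀⟩ :=
    (pullback.fst Y.hom (Spec.map (CommRingCat.ofHom (algebraMap k K)))).surjective y
  have hZcl : IsClosed ((pullback.fst Y.hom (Spec.map (CommRingCat.ofHom (algebraMap k K)))) ⁻¹'
      ({y} : Set ↥Y.left)) := hy.preimage (Scheme.Hom.continuous _)
  obtain ⟨z, hzy, hz⟩ := nonempty_inter_closedPoints ⟨z₀, hz₀⟩ hZcl.isLocallyClosed
  have hp := pointOfClosedPoint_comp
    (pullback.snd Y.hom (Spec.map (CommRingCat.ofHom (algebraMap k K)))) z hz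
  refine ⟨Over.homMk (pointOfClosedPoint
    (pullback.snd Y.hom (Spec.map (CommRingCat.ofHom (algebraMap k K)))) z hz ≫
      pullback.fst Y.hom (Spec.map (CommRingCat.ofHom (algebraMap k K)))) ?_, ?_⟩
  · show (_ ≫ pullback.fst Y.hom _) ≫ Y.hom = Spec.map (CommRingCat.ofHom (algebraMap k K))
    rw [Category.assoc, pullback.condition, ← Category.assoc, hp, Category.id_comp]
  · intro pt
    show (pointOfClosedPoint _ z hz ≫ pullback.fst Y.hom _) pt = y
    rw [Scheme.Hom.comp_apply, pointOfClosedPoint_apply]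
    exact hzy

/-- `K`-points lift along surjective morphisms locally of finite type -/
theorem lift_Kpt {G Q : Over (Spec (CommRingCat.of k))} [LocallyOfFiniteType G.hom] (q : G ⟶ Q)
    [Surjective q.left] (y : Over.mk (Spec.map (CommRingCat.ofHom (algebraMap k K))) ⟶ Q) :
    ∃ g : Over.mk (Spec.map (CommRingCat.ofHom (algebraMap k K))) ⟶ G, g ≫ q = y := by
  haveI : LocallyOfFiniteType q.left := lft_hom q
  haveI : Surjective (pullback.snd q.left y.left) :=
    MorphismProperty.pullback_snd (P := @Surjective) _ _ inferInstance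
  haveI : LocallyOfFiniteType (pullback.snd q.left y.left) :=
    MorphismProperty.pullback_snd (P := @LocallyOfFiniteType) _ _ inferInstance
  haveI : JacobsonSpace ↥(pullback q.left y.left) :=
    LocallyOfFiniteType.jacobsonSpace (Y := Spec (CommRingCat.of K)) (pullback.snd q.left y.left)
  obtain ⟨pt₀⟩ : Nonempty ↥(Spec (CommRingCat.of K)) := inferInstanceAs (Nonempty (PrimeSpectrum K))
  obtain ⟨z₀, -⟩ := (pullback.snd q.left y.left).surjective pt₀
  obtain ⟨z, -, hz⟩ := nonempty_inter_closedPoints (X := ↥(pullback q.left y.left))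
    ⟨z₀, Set.mem_univ _⟩ isOpen_univ.isLocallyClosed
  have hp : pointOfClosedPoint (K := K) (pullback.snd q.left y.left) z hz ≫
      pullback.snd q.left y.left = 𝟙 _ :=
    pointOfClosedPoint_comp (K := K) (pullback.snd q.left y.left) z hz
  refine ⟨Over.homMk (pointOfClosedPoint (K := K) (pullback.snd q.left y.left) z hz ≫
    pullback.fst q.left y.left) ?_, ?_⟩
  · show (_ ≫ pullback.fst q.left y.left) ≫ G.hom = Spec.map (CommRingCat.ofHom (algebraMap k K))
    rw [Category.assoc, ← Over.w q, ← Category.assoc (pullback.fst q.left y.left),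
      pullback.condition, Category.assoc, ← Category.assoc, hp, Category.id_comp]
    exact Over.w y
  · apply Over.OverMorphism.ext
    show (_ ≫ pullback.fst q.left y.left) ≫ q.left = y.left
    rw [Category.assoc, pullback.condition, ← Category.assoc, hp]
    exact Category.id_comp _

/-- surjectivity can be tested on closed points of the target, each hit by a `K`-point -/
theorem surjective_of_Kpts {A B : Over (Spec (CommRingCat.of k))} [LocallyOfFiniteType A.hom]
    [QuasiCompact A.hom] [LocallyOfFiniteType B.hom] [QuasiCompact B.hom] (φ : A ⟶ B)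
    (h : ∀ y : Over.mk (Spec.map (CommRingCat.ofHom (algebraMap k K))) ⟶ B,
      ∃ x : Over.mk (Spec.map (CommRingCat.ofHom (algebraMap k K))) ⟶ A, x ≫ φ = y) :
    Surjective φ.left := by
  haveI : IsNoetherian A.left := isNoetherian_of_ft A
  haveI : IsNoetherian B.left := isNoetherian_of_ft B
  haveI : LocallyOfFiniteType φ.left := lft_hom φ
  haveI : JacobsonSpace ↥B.left := LocallyOfFiniteType.jacobsonSpace B.hom
  have hc : IsConstructible (Set.range φ.left) := by
    rw [← Set.image_univ]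
    exact φ.left.isConstructible_image IsConstructible.univ
  have huniv : Set.range φ.left = Set.univ := by
    refine ConstrNF.eq_univ_of_closedPoints_subset hc (fun y hy => ?_)
    obtain ⟨yt, hyt⟩ := exists_Kpt k K y hy
    obtain ⟨xt, hxt⟩ := h yt
    obtain ⟨pt₀⟩ : Nonempty ↥(Spec (CommRingCat.of K)) :=
      inferInstanceAs (Nonempty (PrimeSpectrum K))
    refine ⟨xt.left pt₀, ?_⟩
    rw [← Scheme.Hom.comp_apply, ← Over.comp_left, hxt]
    exact hyt pt₀
  exact ⟨fun y => by
    have : y ∈ Set.range φ.left := by rw [huniv]; trivial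
    exact this⟩

theorem main8008 (G H N Q : Over (Spec (CommRingCat.of k))) [GrpObj G] [GrpObj H] [GrpObj N]
    [GrpObj Q] [LocallyOfFiniteType G.hom] [LocallyOfFiniteType H.hom] [QuasiCompact H.hom]
    [LocallyOfFiniteType Q.hom] [QuasiCompact Q.hom] [Smooth Q.hom]
    (iH : H ⟶ G) [IsMonHom iH] (iN : N ⟶ G) [IsMonHom iN]
    (q : G ⟶ Q) [IsMonHom q] [Surjective q.left] (hq : AlgGrp.IsKernel iN q)
    (hpts : ∀ g : Over.mk (Spec.map (CommRingCat.ofHom (algebraMap k K))) ⟶ G,
      ∃ (h : Over.mk (Spec.map (CommRingCat.ofHom (algebraMap k K))) ⟶ H)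
        (n : Over.mk (Spec.map (CommRingCat.ofHom (algebraMap k K))) ⟶ N),
        g = (h ≫ iH) * (n ≫ iN)) :
    Flat (iH ≫ q).left ∧ Surjective (iH ≫ q).left := by
  have hsurj : Surjective (iH ≫ q).left := by
    refine surjective_of_Kpts k K (iH ≫ q) (fun y => ?_)
    obtain ⟨g, hg⟩ := lift_Kpt k K q y
    obtain ⟨h, n, hgn⟩ := hpts g
    have hn : (n ≫ iN) ≫ q = 1 := by
      rw [Category.assoc, hq.w, ← Category.assoc, Hom.one_def]
      congr 1
      exact toUnit_unique _ _
    refine ⟨h, ?_⟩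
    rw [← hg, hgn, MonObj.mul_comp, hn, _root_.mul_one, Category.assoc]
  haveI := hsurj
  haveI : IsReduced Q.left := isReduced_of_smooth Q
  exact ⟨flat_hom (iH ≫ q), hsurj⟩

theorem main14645 (G X : Over (Spec (CommRingCat.of k))) [GrpObj G] [LocallyOfFiniteType G.hom]
    [QuasiCompact G.hom] [LocallyOfFiniteType X.hom] [QuasiCompact X.hom]
    (a : AlgGrp.Action G X) :
    Surjective (lift (snd G X) a.act).left ↔
      ∀ x y : Over.mk (Spec.map (CommRingCat.ofHom (algebraMap k K))) ⟶ X,
        ∃ g : Over.mk (Spec.map (CommRingCat.ofHom (algebraMap k K))) ⟶ G,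
          lift g x ≫ a.act = y := by
  haveI : LocallyOfFiniteType (fst G X).left := by
    show LocallyOfFiniteType (pullback.fst G.hom X.hom)
    infer_instance
  haveI : QuasiCompact (fst G X).left := by
    show QuasiCompact (pullback.fst G.hom X.hom)
    infer_instance
  haveI : LocallyOfFiniteType (G ⊗ X).hom := by rw [← Over.w (fst G X)]; infer_instance
  haveI : QuasiCompact (G ⊗ X).hom := by rw [← Over.w (fst G X)]; infer_instance
  haveI : LocallyOfFiniteType (fst X X).left := by
    show LocallyOfFiniteType (pullback.fst X.hom X.hom)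
    infer_instance
  haveI : QuasiCompact (fst X X).left := by
    show QuasiCompact (pullback.fst X.hom X.hom)
    infer_instance
  haveI : LocallyOfFiniteType (X ⊗ X).hom := by rw [← Over.w (fst X X)]; infer_instance
  haveI : QuasiCompact (X ⊗ X).hom := by rw [← Over.w (fst X X)]; infer_instance
  constructor
  · intro hs x y
    haveI := hs
    obtain ⟨m, hm⟩ := lift_Kpt k K (lift (snd G X) a.act) (lift x y)
    have h1 : m ≫ snd G X = x := by
      have := congrArg (fun t => t ≫ fst X X) hm
      simpa only [Category.assoc, lift_fst] using this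
    have h2 : m ≫ a.act = y := by
      have := congrArg (fun t => t ≫ snd X X) hm
      simpa only [Category.assoc, lift_snd] using this
    refine ⟨m ≫ fst G X, ?_⟩
    rw [← h1, lift_comp_fst_snd, h2]
  · intro h
    refine surjective_of_Kpts k K (lift (snd G X) a.act) (fun w => ?_)
    obtain ⟨g, hg⟩ := h (w ≫ fst X X) (w ≫ snd X X)
    refine ⟨lift g (w ≫ fst X X), ?_⟩
    apply CartesianMonoidalCategory.hom_ext
    · rw [Category.assoc, lift_fst, lift_snd]
    · rw [Category.assoc, lift_snd, hg]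

end kpts

section dense

variable (k : Type u) [Field k] [IsAlgClosed k]

theorem main15596 (H : Over (Spec (CommRingCat.of k))) [GrpObj H] [LocallyOfFiniteType H.hom]
    (U : H.left.Opens) (hU : Dense (U : Set ↥H.left))
    (h : 𝟙_ (Over (Spec (CommRingCat.of k))) ⟶ H) :
    ∃ u₁ u₂ : 𝟙_ (Over (Spec (CommRingCat.of k))) ⟶ H,
      u₁.left (IsLocalRing.closedPoint k) ∈ U ∧ u₂.left (IsLocalRing.closedPoint k) ∈ U ∧
        h = u₂ * u₁⁻¹ := by
  -- left translation by `h`
  obtain ⟨Lh, hLh⟩ : ∃ Lh : H ⟶ H, Lh = (toUnit H ≫ h) * 𝟙 H := ⟨_, rfl⟩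
  obtain ⟨Lh', hLh'⟩ : ∃ Lh' : H ⟶ H, Lh' = (toUnit H ≫ h)⁻¹ * 𝟙 H := ⟨_, rfl⟩
  have e1 : Lh ≫ Lh' = 𝟙 H := by
    rw [hLh', MonObj.comp_mul, GrpObj.comp_inv, ← Category.assoc, toUnit_unique (Lh ≫ toUnit H) (toUnit H),
      Category.comp_id, hLh, inv_mul_cancel_left]
  have e2 : Lh' ≫ Lh = 𝟙 H := by
    rw [hLh, MonObj.comp_mul, ← Category.assoc, toUnit_unique (Lh' ≫ toUnit H) (toUnit H),
      Category.comp_id, hLh', mul_inv_cancel_left]
  haveI : IsIso Lh := ⟨Lh', e1, e2⟩
  haveI : IsIso Lh.left := inferInstanceAs (IsIso ((Over.forget _).map Lh))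
  have hopen : IsOpenMap Lh.left := Lh.left.isOpenEmbedding.isOpenMap
  have hd : Dense ((U : Set ↥H.left) ∩ Lh.left ⁻¹' (U : Set ↥H.left)) :=
    hU.inter_of_isOpen_left (hU.preimage hopen) U.isOpen
  haveI : Nonempty ↥H.left := ⟨(η[H]).left (IsLocalRing.closedPoint k)⟩
  haveI : JacobsonSpace ↥H.left := LocallyOfFiniteType.jacobsonSpace H.hom
  have hVopen : IsOpen ((U : Set ↥H.left) ∩ Lh.left ⁻¹' (U : Set ↥H.left)) :=
    U.isOpen.inter (U.isOpen.preimage Lh.left.continuous)
  obtain ⟨x, ⟨hxU, hxL⟩, hx⟩ := nonempty_inter_closedPoints hd.nonempty hVopen.isLocallyClosed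
  have hp := pointOfClosedPoint_comp H.hom x hx
  obtain ⟨u₁, hu₁⟩ : ∃ u₁ : 𝟙_ (Over (Spec (CommRingCat.of k))) ⟶ H,
      u₁.left = pointOfClosedPoint H.hom x hx := ⟨Over.homMk (pointOfClosedPoint H.hom x hx) hp, rfl⟩
  have hu₁x : u₁.left (IsLocalRing.closedPoint k) = x := by
    rw [hu₁]
    exact pointOfClosedPoint_apply H.hom x hx _
  have hu₂ : u₁ ≫ Lh = h * u₁ := by
    rw [hLh, MonObj.comp_mul, Category.comp_id, ← Category.assoc,
      toUnit_unique (u₁ ≫ toUnit H) (𝟙 _), Category.id_comp]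
  refine ⟨u₁, h * u₁, ?_, ?_, ?_⟩
  · rw [hu₁x]; exact hxU
  · rw [← hu₂, Over.comp_left, Scheme.Hom.comp_apply, hu₁x]
    exact hxL
  · rw [mul_inv_cancel_right]

end dense

section orbit

variable {S : Scheme.{u}}

/-- transfer of membership in the image of `o` along a pointwise relation -/
theorem mem_range_transfer {G X W : Over S} (o : G ⟶ X) (A B : W ⟶ X)
    (h : ∀ (T : Over S) (m : T ⟶ W) (g : T ⟶ G), m ≫ A = g ≫ o → ∃ g' : T ⟶ G, m ≫ B = g' ≫ o)
    (w : ↥W.left) (hw : A.left w ∈ Set.range o.left) : B.left w ∈ Set.range o.left := by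
  obtain ⟨g₀, hg₀⟩ := hw
  obtain ⟨π, hπ1, hπ2⟩ := Scheme.Pullback.exists_preimage_pullback (f := A.left) (g := o.left)
    w g₀ hg₀.symm
  have hcond : pullback.snd A.left o.left ≫ G.hom = pullback.fst A.left o.left ≫ W.hom := by
    rw [← Over.w o, ← Over.w A, ← Category.assoc, ← Category.assoc, pullback.condition]
  let πt := (pullback A.left o.left).fromSpecResidueField π
  let T : Over S := Over.mk (πt ≫ pullback.fst A.left o.left ≫ W.hom)
  let m : T ⟶ W := Over.homMk (πt ≫ pullback.fst A.left o.left) (Category.assoc _ _ _)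
  let g : T ⟶ G := Over.homMk (πt ≫ pullback.snd A.left o.left)
    ((Category.assoc _ _ _).trans (by rw [hcond]; rfl))
  have hmg : m ≫ A = g ≫ o := by
    apply Over.OverMorphism.ext
    show (πt ≫ pullback.fst A.left o.left) ≫ A.left = (πt ≫ pullback.snd A.left o.left) ≫ o.left
    rw [Category.assoc, Category.assoc, pullback.condition]
  obtain ⟨g', hg'⟩ := h T m g hmg
  obtain ⟨pt⟩ : Nonempty ↥(Spec ((pullback A.left o.left).residueField π)) :=
    inferInstanceAs (Nonempty (PrimeSpectrum ((pullback A.left o.left).residueField π)))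
  have hπt : πt pt = π := Scheme.fromSpecResidueField_apply π pt
  have hmpt : m.left pt = w := by
    show (πt ≫ pullback.fst A.left o.left) pt = w
    rw [Scheme.Hom.comp_apply, hπt, hπ1]
  refine ⟨g'.left pt, ?_⟩
  rw [← Scheme.Hom.comp_apply, ← Over.comp_left, ← hg', Over.comp_left, Scheme.Hom.comp_apply, hmpt]

end orbit

section orbit2

variable (k : Type u) [Field k]

theorem main7984 (G X : Over (Spec (CommRingCat.of k))) [GrpObj G] [LocallyOfFiniteType G.hom]
    [QuasiCompact G.hom] [LocallyOfFiniteType X.hom] [QuasiCompact X.hom] (a : AlgGrp.Action G X)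
    (x : 𝟙_ (Over (Spec (CommRingCat.of k))) ⟶ X) :
    IsLocallyClosed (Set.range (a.orbitMap x).left) := by
  obtain ⟨o, ho⟩ : ∃ o : G ⟶ X, o = a.orbitMap x := ⟨_, rfl⟩
  rw [← ho]
  have omul : ∀ {T : Over (Spec (CommRingCat.of k))} (g h : T ⟶ G),
      (g * h) ≫ o = lift g (h ≫ o) ≫ a.act := by
    intro T g h
    rw [ho]
    exact orbit_mul a x g h
  haveI : IsNoetherian G.left := isNoetherian_of_ft G
  haveI : IsNoetherian X.left := isNoetherian_of_ft X
  haveI : LocallyOfFiniteType o.left := lft_hom o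
  have hc : IsConstructible (Set.range o.left) := by
    rw [← Set.image_univ]
    exact o.left.isConstructible_image IsConstructible.univ
  haveI : Subsingleton ↥(Spec (CommRingCat.of k)) :=
    inferInstanceAs (Subsingleton (PrimeSpectrum k))
  obtain ⟨ptk⟩ : Nonempty ↥(Spec (CommRingCat.of k)) :=
    inferInstanceAs (Nonempty (PrimeSpectrum k))
  have hne : (Set.range o.left).Nonempty := ⟨_, ⟨(η[G]).left ptk, rfl⟩⟩
  obtain ⟨U₀, hU₀, ⟨u₀, hu₀cl, hu₀U⟩, hsub₀⟩ :=
    (ConstrNF.finLC_of_isConstructible hc).exists_open hne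
  -- open maps
  haveI : UniversallyOpen G.hom := inferInstance
  haveI : UniversallyOpen a.act.left :=
    prop_act a.act (fun T x => act_one' a x) (fun T g h x => act_mul' a g h x) @UniversallyOpen
      inferInstance
  have hact_open : IsOpenMap a.act.left := a.act.left.isOpenMap
  have hsnd_open : IsOpenMap (snd G X).left := by
    show IsOpenMap (pullback.snd G.hom X.hom)
    exact (pullback.snd G.hom X.hom).isOpenMap
  -- stability
  have hS1a : ∀ w : ↥(G ⊗ X).left, (snd G X).left w ∈ Set.range o.left →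
      a.act.left w ∈ Set.range o.left := by
    refine mem_range_transfer o (snd G X) a.act (fun T m g hmg => ⟨(m ≫ fst G X) * g, ?_⟩)
    rw [omul, ← hmg, lift_comp_fst_snd]
  have hS1b : ∀ w : ↥(G ⊗ X).left, a.act.left w ∈ Set.range o.left →
      (snd G X).left w ∈ Set.range o.left := by
    refine mem_range_transfer o a.act (snd G X) (fun T m g hmg => ⟨(m ≫ fst G X)⁻¹ * g, ?_⟩)
    rw [omul, ← hmg]
    calc m ≫ snd G X = lift (1 : T ⟶ G) (m ≫ snd G X) ≫ a.act := (act_one' a _).symm
      _ = lift ((m ≫ fst G X)⁻¹ * (m ≫ fst G X)) (m ≫ snd G X) ≫ a.act := by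
          rw [_root_.inv_mul_cancel]
      _ = lift ((m ≫ fst G X)⁻¹) (lift (m ≫ fst G X) (m ≫ snd G X) ≫ a.act) ≫ a.act :=
          act_mul' a _ _ _
      _ = lift ((m ≫ fst G X)⁻¹) (m ≫ a.act) ≫ a.act := by rw [lift_comp_fst_snd]
  have hS1 : (snd G X).left ⁻¹' Set.range o.left = a.act.left ⁻¹' Set.range o.left :=
    Set.ext fun w => ⟨hS1a w, hS1b w⟩
  have hS2 : (snd G X).left ⁻¹' closure (Set.range o.left) =
      a.act.left ⁻¹' closure (Set.range o.left) := by
    rw [hsnd_open.preimage_closure_eq_closure_preimage (snd G X).left.continuous,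
      hact_open.preimage_closure_eq_closure_preimage a.act.left.continuous, hS1]
  -- the open set
  have hV₀ : IsOpen (a.act.left '' ((snd G X).left ⁻¹' U₀)) :=
    hact_open _ (hU₀.preimage (snd G X).left.continuous)
  refine ⟨a.act.left '' ((snd G X).left ⁻¹' U₀), closure (Set.range o.left), hV₀, isClosed_closure,
    ?_⟩
  apply Set.Subset.antisymm
  · rintro y ⟨g₂, rfl⟩
    refine ⟨?_, subset_closure ⟨g₂, rfl⟩⟩
    obtain ⟨g₁, hg₁⟩ := hsub₀ ⟨hu₀cl, hu₀U⟩
    obtain ⟨π, hπ1, hπ2⟩ := Scheme.Pullback.exists_preimage_pullback (f := G.hom) (g := G.hom)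
      g₂ g₁ (Subsingleton.elim _ _)
    let πt := (pullback G.hom G.hom).fromSpecResidueField π
    let T : Over (Spec (CommRingCat.of k)) := Over.mk (πt ≫ (G ⊗ G).hom)
    let mT : T ⟶ G ⊗ G := Over.homMk πt rfl
    obtain ⟨pt⟩ : Nonempty ↥(Spec ((pullback G.hom G.hom).residueField π)) :=
      inferInstanceAs (Nonempty (PrimeSpectrum ((pullback G.hom G.hom).residueField π)))
    have hπt : πt pt = π := Scheme.fromSpecResidueField_apply π pt
    have haT : (mT ≫ fst G G).left pt = g₂ := by
      show (πt ≫ pullback.fst G.hom G.hom) pt = g₂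
      rw [Scheme.Hom.comp_apply, hπt, hπ1]
    have hbT : (mT ≫ snd G G).left pt = g₁ := by
      show (πt ≫ pullback.snd G.hom G.hom) pt = g₁
      rw [Scheme.Hom.comp_apply, hπt, hπ2]
    obtain ⟨m, hm⟩ : ∃ m : T ⟶ G ⊗ X,
        m = lift ((mT ≫ fst G G) * (mT ≫ snd G G)⁻¹) ((mT ≫ snd G G) ≫ o) := ⟨_, rfl⟩
    have hm1 : m ≫ snd G X = (mT ≫ snd G G) ≫ o := by rw [hm, lift_snd]
    have hm2 : m ≫ a.act = (mT ≫ fst G G) ≫ o := by
      rw [hm, ← omul, inv_mul_cancel_right]
    refine ⟨m.left pt, ?_, ?_⟩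
    · show (snd G X).left (m.left pt) ∈ U₀
      rw [← Scheme.Hom.comp_apply, ← Over.comp_left, hm1, Over.comp_left, Scheme.Hom.comp_apply,
        hbT, hg₁]
      exact hu₀U
    · rw [← Scheme.Hom.comp_apply, ← Over.comp_left, hm2, Over.comp_left, Scheme.Hom.comp_apply,
        haT]
  · rintro y ⟨⟨w, hwU, rfl⟩, hycl⟩
    have h1 : w ∈ (snd G X).left ⁻¹' closure (Set.range o.left) := by
      rw [hS2]; exact hycl
    exact hS1a w (hsub₀ ⟨h1, hwU⟩)

end orbit2

end Groth.Agent.Lib.KPtsOrbit
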