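import Groth.Statements.S14586
import Groth.Agent.Lib.KPtsOrbit_lead

/-! # Existence of a closed orbit over an algebraically closed field (lead) -/

set_option backward.isDefEq.respectTransparency false
set_option backward.isDefEq.respectTransparency.types false
set_option linter.unusedSimpArgs false
set_option linter.unusedVariables false
set_option linter.unusedSectionVars false
set_option linter.style.longLine false
set_option linter.style.haveILetI false
set_option maxHeartbeats 800000

universe u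

open CategoryTheory CategoryTheory.Limits MonoidalCategory CartesianMonoidalCategory MonObj GrpObj
  AlgebraicGeometry Opposite Topology TopologicalSpace

namespace Groth.Agent.Lib.ClosedOrbit

open Groth.Agent.Lib.AssocBundle Groth.Agent.Lib.TorsorSeq Groth.Agent.Lib.GenFlatHom

theorem exists_of_isPullback {P A B C : Scheme.{u}} {f : P ⟶ A} {g : P ⟶ B} {h : A ⟶ C} {i : B ⟶ C}
    (sq : IsPullback f g h i) (a : A) (b : B) (hab : h a = i b) : ∃ r : P, f r = a ∧ g r = b := by
  obtain ⟨w, hw1, hw2⟩ := Scheme.Pullback.exists_preimage_pullback a b hab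
  refine ⟨sq.isoPullback.inv w, ?_, ?_⟩
  · rw [← Scheme.Hom.comp_apply, sq.isoPullback_inv_fst]; exact hw1
  · rw [← Scheme.Hom.comp_apply, sq.isoPullback_inv_snd]; exact hw2

variable {S : Scheme.{u}}

theorem comp_pt {A B C : Over S} (φ : A ⟶ B) (ψ : B ⟶ C) (p : A.left) :
    (φ ≫ ψ).left p = ψ.left (φ.left p) := rfl

variable {G X : Over S} [GrpObj G]

theorem sq_whisker {X' : Over S} (φ : X' ⟶ X) : IsPullback (G ◁ φ) (snd G X') (snd G X) φ := by
  apply isPullback_of_exists_unique
  · rw [whiskerLeft_snd]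
  · intro T b c hbc
    refine ⟨lift (b ≫ fst G X) c, ?_, lift_snd _ _⟩
    apply CartesianMonoidalCategory.hom_ext
    · rw [Category.assoc, whiskerLeft_fst, lift_fst]
    · rw [Category.assoc, whiskerLeft_snd, lift_snd_assoc, hbc]
  · intro T l l' h1 h2
    apply CartesianMonoidalCategory.hom_ext
    · have := congrArg (fun t => t ≫ fst G X) h1
      simpa only [Category.assoc, whiskerLeft_fst] using this
    · exact h2

/-- `S` is stable under the action -/
def Stable (a : AlgGrp.Action G X) (s : Set X.left) : Prop :=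
  ∀ p : (G ⊗ X).left, (snd G X).left p ∈ s → a.act.left p ∈ s

variable (a : AlgGrp.Action G X)

theorem st_closure (hopen : IsOpenMap (snd G X).left) {s : Set X.left} (h : Stable a s) :
    Stable a (closure s) := by
  intro p hp
  have h1 : p ∈ closure ((snd G X).left ⁻¹' s) := by
    rw [← hopen.preimage_closure_eq_closure_preimage (snd G X).left.continuous]; exact hp
  have h2 : a.act.left '' ((snd G X).left ⁻¹' s) ⊆ s := by
    rintro _ ⟨q, hq, rfl⟩; exact h q hq
  exact closure_mono h2 (image_closure_subset_closure_image a.act.left.continuous ⟨p, h1, rfl⟩)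

theorem st_inter {s t : Set X.left} (hs : Stable a s) (ht : Stable a t) : Stable a (s ∩ t) :=
  fun p hp => ⟨hs p hp.1, ht p hp.2⟩

theorem st_compl {s : Set X.left} (h : Stable a s) : Stable a sᶜ := by
  intro p hp hact
  obtain ⟨σ, hσ⟩ : ∃ σ : G ⊗ X ⟶ G ⊗ X, σ = lift (fst G X)⁻¹ a.act := ⟨_, rfl⟩
  have h1 : σ ≫ snd G X = a.act := by rw [hσ, lift_snd]
  have h2 : σ ≫ a.act = snd G X := by
    have h3 := act_mul' a (fst G X)⁻¹ (fst G X) (snd G X)
    rw [lift_fst_snd, Category.id_comp, _root_.inv_mul_cancel, act_one'] at h3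
    rw [hσ]; exact h3.symm
  have e1 : (snd G X).left (σ.left p) = a.act.left p := by rw [← comp_pt, h1]
  have e2 : a.act.left (σ.left p) = (snd G X).left p := by rw [← comp_pt, h2]
  exact hp (e2 ▸ h (σ.left p) (e1 ▸ hact))

theorem st_orbit (x : 𝟙_ (Over S) ⟶ X) : Stable a (Set.range (a.orbitMap x).left) := by
  rintro p ⟨g₀, hg₀⟩
  obtain ⟨o, ho⟩ : ∃ o : G ⟶ X, o = a.orbitMap x := ⟨_, rfl⟩
  rw [← ho] at hg₀ ⊢
  have sq : IsPullback (G ◁ o).left (snd G G).left (snd G X).left o.left :=
    (sq_whisker o).map (Over.forget _)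
  obtain ⟨r, hr1, hr2⟩ := exists_of_isPullback sq p g₀ hg₀.symm
  have e : (G ◁ o) ≫ a.act = μ[G] ≫ o := by
    have h := orbit_mul a x (fst G G) (snd G G)
    rw [← ho] at h
    have e1 : fst G G * snd G G = μ[G] := by rw [Hom.mul_def, lift_fst_snd, Category.id_comp]
    have e2 : lift (fst G G) (snd G G ≫ o) = G ◁ o := by
      apply CartesianMonoidalCategory.hom_ext
      · rw [lift_fst, whiskerLeft_fst]
      · rw [lift_snd, whiskerLeft_snd]
    rw [e1, e2] at h
    exact h.symm
  refine ⟨(μ[G]).left r, ?_⟩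
  rw [← comp_pt, ← e, comp_pt, hr1]

section field

variable {k : Type u} [Field k] {G X : Over (Spec (CommRingCat.of k))} [GrpObj G]
  (a : AlgGrp.Action G X)

theorem orbit_sub {F : Set X.left} (hF : Stable a F)
    (x : 𝟙_ (Over (Spec (CommRingCat.of k))) ⟶ X)
    (hx : ∀ t : (𝟙_ (Over (Spec (CommRingCat.of k)))).left, x.left t ∈ F) :
    Set.range (a.orbitMap x).left ⊆ F := by
  rintro _ ⟨g, rfl⟩
  have e : a.orbitMap x = lift (𝟙 G) (toUnit G ≫ x) ≫ a.act := by
    have := orbit_pt a x (𝟙 G); rwa [Category.id_comp] at this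
  rw [e, comp_pt]
  apply hF
  rw [← comp_pt, lift_snd, comp_pt]
  exact hx _

theorem main14586 [IsAlgClosed k] [Smooth G.hom] [QuasiCompact G.hom]
    [LocallyOfFiniteType X.hom] [QuasiCompact X.hom] [Nonempty ↥X.left] :
    ∃ x : 𝟙_ (Over (Spec (CommRingCat.of k))) ⟶ X,
      IsClosed (Set.range (a.orbitMap x).left) := by
  haveI : LocallyOfFiniteType G.hom := inferInstance
  haveI : IsNoetherian X.left := isNoetherian_of_ft X
  haveI : NoetherianSpace X.left := inferInstance
  haveI : Subsingleton ↥(Spec (CommRingCat.of k)) :=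
    inferInstanceAs (Subsingleton (PrimeSpectrum k))
  have hopen : IsOpenMap (snd G X).left := by
    haveI : UniversallyOpen G.hom := inferInstance
    haveI : UniversallyOpen (pullback.snd G.hom X.hom) := inferInstance
    exact (pullback.snd G.hom X.hom).isOpenMap
  -- a minimal closed stable nonempty set
  let 𝓕 : Set (Closeds X.left) :=
    {F | Stable a (F : Set X.left) ∧ (F : Set X.left).Nonempty}
  have hne : 𝓕.Nonempty := ⟨⊤, fun p _ => trivial, Set.univ_nonempty⟩
  obtain ⟨F, ⟨hFst, hFne⟩, hFmin⟩ := (wellFounded_lt (α := Closeds X.left)).has_min 𝓕 hne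
  obtain ⟨x₁, hx₁F, hx₁cl⟩ := F.isClosed.exists_closed_singleton hFne
  obtain ⟨x, hx⟩ : ∃ x : 𝟙_ (Over (Spec (CommRingCat.of k))) ⟶ X,
      ∀ t : (𝟙_ (Over (Spec (CommRingCat.of k)))).left, x.left t = x₁ :=
    ⟨Over.homMk (pointOfClosedPoint X.hom x₁ hx₁cl)
      (by simpa using pointOfClosedPoint_comp X.hom x₁ hx₁cl),
      fun t => pointOfClosedPoint_apply X.hom x₁ hx₁cl t⟩
  refine ⟨x, ?_⟩
  obtain ⟨O, hO⟩ : ∃ O : Set X.left, O = Set.range (a.orbitMap x).left := ⟨_, rfl⟩
  rw [← hO]
  have hOst : Stable a O := by rw [hO]; exact st_orbit a x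
  have hOF : O ⊆ F := by
    rw [hO]; exact orbit_sub a hFst x (fun t => by rw [hx t]; exact hx₁F)
  have hOne : O.Nonempty := by
    rw [hO]
    obtain ⟨t⟩ : Nonempty ↥(Spec (CommRingCat.of k)) :=
      inferInstanceAs (Nonempty (PrimeSpectrum k))
    exact ⟨_, ⟨(η[G]).left t, rfl⟩⟩
  have hcl : closure O = (F : Set X.left) := by
    have h1 : closure O ⊆ F := closure_minimal hOF F.isClosed
    by_contra hne'
    apply hFmin ⟨closure O, isClosed_closure⟩ ⟨st_closure a hopen hOst, hOne.closure⟩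
    exact lt_of_le_of_ne (show (⟨closure O, isClosed_closure⟩ : Closeds X.left) ≤ F from h1)
      (fun h => hne' (congrArg (fun C : Closeds X.left => (C : Set X.left)) h))
  have hlc : IsLocallyClosed O := by
    rw [hO]; exact Groth.Agent.Lib.KPtsOrbit.main7984 k G X a x
  obtain ⟨U, Z, hU, hZ, hUZ⟩ := hlc
  have hFZ : (F : Set X.left) ⊆ Z := by
    rw [← hcl]; exact closure_minimal (hUZ ▸ Set.inter_subset_right) hZ
  have hD : (F : Set X.left) ∩ Oᶜ = (F : Set X.left) ∩ Uᶜ := by
    ext y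
    constructor
    · rintro ⟨hy, hyO⟩
      exact ⟨hy, fun hyU => hyO (hUZ ▸ ⟨hyU, hFZ hy⟩)⟩
    · rintro ⟨hy, hyU⟩
      exact ⟨hy, fun hyO => hyU (by rw [hUZ] at hyO; exact hyO.1)⟩
  have hDcl : IsClosed ((F : Set X.left) ∩ Oᶜ) := by
    rw [hD]; exact F.isClosed.inter hU.isClosed_compl
  have hDst : Stable a ((F : Set X.left) ∩ Oᶜ) := st_inter a hFst (st_compl a hOst)
  have hDempty : (F : Set X.left) ∩ Oᶜ = ∅ := by
    by_contra hne'
    have hDne : ((F : Set X.left) ∩ Oᶜ).Nonempty := Set.nonempty_iff_ne_empty.2 hne'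
    apply hFmin ⟨_, hDcl⟩ ⟨hDst, hDne⟩
    refine lt_of_le_of_ne (show (⟨_, hDcl⟩ : Closeds X.left) ≤ F from Set.inter_subset_left) ?_
    intro h
    obtain ⟨y, hy⟩ := hOne
    have h' : (F : Set X.left) ∩ Oᶜ = F := congrArg (fun C : Closeds X.left => (C : Set X.left)) h
    have : y ∈ (F : Set X.left) ∩ Oᶜ := by rw [h']; exact hOF hy
    exact this.2 hy
  have hFO : (F : Set X.left) ⊆ O := by
    intro y hy
    by_contra hyO
    have : y ∈ (F : Set X.left) ∩ Oᶜ := ⟨hy, hyO⟩
    rw [hDempty] at this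
    exact this
  have hOeq : O = F := Set.Subset.antisymm hOF hFO
  rw [hOeq]; exact F.isClosed

end field

end Groth.Agent.Lib.ClosedOrbit
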