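import Mathlib
import Groth.Agent.Lib.GrpConnIrr_helper4

set_option autoImplicit false
set_option linter.style.haveILetI false
set_option linter.unusedSectionVars false

universe u

open CategoryTheory CategoryTheory.Limits AlgebraicGeometry MonoidalCategory
  CartesianMonoidalCategory MonObj

namespace Groth.Agent.Lib.GrpConnCompH4

open Groth.Agent.Lib.GrpConnIrrH4

/-- The union of the irreducible components meeting an affine open `U`. -/
def Wp {K : Type u} [Field K] (G : Over (Spec (CommRingCat.of K))) (U : G.left.Opens) :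
    Set G.left :=
  {g | ∃ Z' ∈ irreducibleComponents ↥G.left, g ∈ Z' ∧ (Z' ∩ (U : Set G.left)).Nonempty}

set_option maxHeartbeats 1600000 in
theorem clopen_compact (K : Type u) [Field K] (G : Over (Spec (CommRingCat.of K))) [GrpObj G]
    (U : G.left.Opens) (hU : IsAffineOpen U) :
    IsClopen (Wp G U) ∧ IsCompact (Wp G U) := by
  haveI hsub : Subsingleton ↥(Spec (CommRingCat.of K)) :=
    (inferInstance : Subsingleton (PrimeSpectrum K))
  haveI hsep : IsSeparated G.hom := GrpSepDiscH4.main5331 (Spec (CommRingCat.of K)) G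
  haveI hqs : QuasiSeparatedSpace ↥G.left := by
    have h : ∀ (gk : G.left ⟶ Spec (CommRingCat.of K)), IsSeparated gk →
        QuasiSeparatedSpace ↥G.left :=
      fun gk _ => quasiSeparatedSpace_of_quasiSeparated gk
    exact h G.hom hsep
  obtain ⟨-, Z, ⟨hZ, heZ⟩, hZuniq⟩ := GrpPtIrrH4.main0350 K G
  have hZcl : IsClosed Z := isClosed_of_mem_irreducibleComponents Z hZ
  have hsq : IsPullback (snd G G).left (fst G G * (snd G G ≫ 𝟙 G)).left (toUnit G).left
      (toUnit G).left :=
    (MaxOpenSubH4.isPullback_mulRight (𝟙 G)).map (Over.forget _)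
  have eμ : fst G G * (snd G G ≫ 𝟙 G) = μ[G] := by
    rw [Category.comp_id, Hom.mul_def, lift_fst_snd, Category.id_comp]
  rw [eμ] at hsq
  obtain ⟨V, hV, heV, -⟩ := exists_isAffineOpen_mem_and_subset (U := ⊤)
    (x := η[G].left (IsLocalRing.closedPoint K)) (by simp)
  let M : Set G.left :=
    μ[G].left '' ((fst G G).left ⁻¹' (U : Set G.left) ∩ (snd G G).left ⁻¹' Z)
  let M₁ : Set G.left :=
    μ[G].left '' (((fst G G).left ⁻¹' (U : Set G.left) ∩
      (snd G G).left ⁻¹' (V : Set G.left)) ∩ (snd G G).left ⁻¹' Z)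
  have ha : M ⊆ Wp G U := by
    rintro _ ⟨z, ⟨hz1, hz2⟩, rfl⟩
    refine ⟨irreducibleComponent ((fst G G).left z),
      irreducibleComponent_mem_irreducibleComponents _, ?_,
      ⟨(fst G G).left z, mem_irreducibleComponent, hz1⟩⟩
    exact mul_mem_comp G Z _ hZ heZ (irreducibleComponent_mem_irreducibleComponents _) z
      mem_irreducibleComponent hz2
  have hb : Wp G U ⊆ M₁ := by
    rintro g ⟨Z', hZ', hgZ', ⟨u', hu'Z', hu'U⟩⟩
    obtain ⟨ξ', hξ'⟩ := QuasiSober.sober hZ'.1 (isClosed_of_mem_irreducibleComponents Z' hZ')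
    have hξu : ξ' ⤳ u' := by rw [specializes_iff_mem_closure, hξ'.def]; exact hu'Z'
    have hξg : ξ' ⤳ g := by rw [specializes_iff_mem_closure, hξ'.def]; exact hgZ'
    have hξU : ξ' ∈ (U : Set G.left) := hξu.mem_open U.2 hu'U
    obtain ⟨z, hz1, hz2, hz3⟩ := exists_factor G (IsLocalRing.closedPoint K) g ξ' hξg
    refine ⟨z, ⟨⟨?_, ?_⟩, ?_⟩, hz1⟩
    · show (fst G G).left z ∈ (U : Set G.left)
      rw [hz2]; exact hξU
    · exact hz3.mem_open V.2 heV
    · have h1 : η[G].left (IsLocalRing.closedPoint K) ∈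
          irreducibleComponent ((snd G G).left z) :=
        hz3.mem_closed isClosed_irreducibleComponent mem_irreducibleComponent
      have h2 := hZuniq _ ⟨irreducibleComponent_mem_irreducibleComponents _, h1⟩
      show (snd G G).left z ∈ Z
      rw [← h2]; exact mem_irreducibleComponent
  have hc : M₁ ⊆ M := by
    rintro _ ⟨z, ⟨⟨hz1, -⟩, hz3⟩, rfl⟩
    exact ⟨z, ⟨hz1, hz3⟩, rfl⟩
  have hWM : Wp G U = M := Set.Subset.antisymm (hb.trans hc) ha
  have hWM₁ : Wp G U = M₁ := Set.Subset.antisymm hb (hc.trans ha)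
  have hopen : IsOpen (Wp G U) := by
    rw [hWM]
    exact isOpen_image_of_isPullback (k := K) (snd G G).left μ[G].left (toUnit G).left hsq Z
      hZcl _ (U.2.preimage (fst G G).left.continuous)
  have hcomp : IsCompact (Wp G U) := by
    rw [hWM₁]
    have hbox : IsCompact ((fst G G).left ⁻¹' (U : Set G.left) ∩
        (snd G G).left ⁻¹' (V : Set G.left)) :=
      GrpQCH4.isCompact_box G.hom G.hom U V hU hV
    exact (hbox.inter_right (hZcl.preimage (snd G G).left.continuous)).image
      μ[G].left.continuous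
  have hspec : StableUnderSpecialization (Wp G U) := by
    rintro x y hxy ⟨Z', hZ', hx, hne⟩
    exact ⟨Z', hZ', hxy.mem_closed (isClosed_of_mem_irreducibleComponents Z' hZ') hx, hne⟩
  have hclosed : IsClosed (Wp G U) := isClosed_of_compact_open ⟨Wp G U, hopen⟩ hcomp hspec
  exact ⟨⟨hclosed, hopen⟩, hcomp⟩

theorem subset_Wp {K : Type u} [Field K] (G : Over (Spec (CommRingCat.of K)))
    (U : G.left.Opens) : (U : Set G.left) ⊆ Wp G U := fun u hu =>
  ⟨irreducibleComponent u, irreducibleComponent_mem_irreducibleComponents u,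
    mem_irreducibleComponent, ⟨u, mem_irreducibleComponent, hu⟩⟩

theorem main0355 (K : Type u) [Field K] (G : Over (Spec (CommRingCat.of K))) [GrpObj G] :
    IsIrreducible (connectedComponent (η[G].left (IsLocalRing.closedPoint K))) ∧
      IsCompact (connectedComponent (η[G].left (IsLocalRing.closedPoint K))) := by
  obtain ⟨-, Z, ⟨hZ, heZ⟩, hZuniq⟩ := GrpPtIrrH4.main0350 K G
  have hZcl : IsClosed Z := isClosed_of_mem_irreducibleComponents Z hZ
  have h1 : Z ⊆ connectedComponent (η[G].left (IsLocalRing.closedPoint K)) :=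
    hZ.1.isConnected.isPreconnected.subset_connectedComponent heZ
  have h2 : connectedComponent (η[G].left (IsLocalRing.closedPoint K)) ⊆ Z := by
    intro x hx
    rw [← hZcl.closure_eq, mem_closure_iff]
    intro O hO hxO
    obtain ⟨_, ⟨U, hU, rfl⟩, hxU, hUO⟩ :=
      G.left.isBasis_affineOpens.exists_subset_of_mem_open hxO hO
    have hcl := (clopen_compact K G U hU).1
    have hxW : x ∈ Wp G U := subset_Wp G U hxU
    have hsubset : connectedComponent x ⊆ Wp G U := hcl.connectedComponent_subset hxW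
    have heq : connectedComponent (η[G].left (IsLocalRing.closedPoint K)) =
        connectedComponent x := connectedComponent_eq hx
    have he : η[G].left (IsLocalRing.closedPoint K) ∈ Wp G U := by
      apply hsubset
      rw [← heq]
      exact mem_connectedComponent
    obtain ⟨Z', hZ', heZ', ⟨w, hwZ', hwU⟩⟩ := he
    have hZZ := hZuniq Z' ⟨hZ', heZ'⟩
    rw [hZZ] at hwZ'
    exact ⟨w, hUO hwU, hwZ'⟩
  have heq : connectedComponent (η[G].left (IsLocalRing.closedPoint K)) = Z :=
    Set.Subset.antisymm h2 h1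
  refine ⟨by rw [heq]; exact hZ.1, ?_⟩
  obtain ⟨V, hV, heV, -⟩ := exists_isAffineOpen_mem_and_subset (U := ⊤)
    (x := η[G].left (IsLocalRing.closedPoint K)) (by simp)
  obtain ⟨hcl, hcomp⟩ := clopen_compact K G V hV
  exact hcomp.of_isClosed_subset isClosed_connectedComponent
    (hcl.connectedComponent_subset (subset_Wp G V heV))

end Groth.Agent.Lib.GrpConnCompH4
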