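import Groth.Statements.S15352
import Groth.Agent.Lib.GrpConnComp_helper4
import Groth.Agent.S0347

/-! # `U · U⁻¹` covers the identity component (lead) -/

set_option backward.isDefEq.respectTransparency false
set_option backward.isDefEq.respectTransparency.types false
set_option linter.unusedSimpArgs false
set_option linter.unusedVariables false
set_option linter.unusedSectionVars false
set_option linter.style.longLine false
set_option linter.style.haveILetI false
set_option maxHeartbeats 800000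

universe u

open CategoryTheory CategoryTheory.Limits MonoidalCategory CartesianMonoidalCategory MonObj GrpObj
  AlgebraicGeometry Opposite Topology

namespace Groth.Agent.Lib.UUinv

section general

variable {S : Scheme.{u}}

theorem comp_pt {A B C : Over S} (φ : A ⟶ B) (ψ : B ⟶ C) (p : A.left) :
    (φ ≫ ψ).left p = ψ.left (φ.left p) := rfl

variable {G : Over S} [GrpObj G]

/-- left translation by a section -/
noncomputable def ltr (x : 𝟙_ (Over S) ⟶ G) : G ⟶ G := (toUnit G ≫ x) * 𝟙 G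

theorem ltr_pt (x y : 𝟙_ (Over S) ⟶ G) : y ≫ ltr x = x * y := by
  unfold ltr
  rw [MonObj.comp_mul, Category.comp_id, ← Category.assoc,
    toUnit_unique (y ≫ toUnit G) (𝟙 _), Category.id_comp]

theorem ltr_inv (x : 𝟙_ (Over S) ⟶ G) : ltr x⁻¹ ≫ ltr x = 𝟙 G ∧ ltr x ≫ ltr x⁻¹ = 𝟙 G := by
  have hconst : ∀ (y : 𝟙_ (Over S) ⟶ G) (φ : G ⟶ G), φ ≫ (toUnit G ≫ y) = toUnit G ≫ y := by
    intro y φ
    rw [← Category.assoc, toUnit_unique (φ ≫ toUnit G) (toUnit G)]
  have hinv : toUnit G ≫ x⁻¹ = (toUnit G ≫ x)⁻¹ := GrpObj.comp_inv _ _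
  constructor
  · unfold ltr
    rw [MonObj.comp_mul, Category.comp_id, hconst, hinv, _root_.mul_inv_cancel_left]
  · unfold ltr
    rw [MonObj.comp_mul, Category.comp_id, hconst, hinv, _root_.inv_mul_cancel_left]

theorem eta_eq_one : η[G] = (1 : 𝟙_ (Over S) ⟶ G) := by
  rw [Hom.one_def, show toUnit (𝟙_ (Over S)) = 𝟙 _ from toUnit_unique _ _, Category.id_comp]

theorem inv_inv_id : ι[G] ≫ ι[G] = 𝟙 G := by
  have h1 : ι[G] = (𝟙 G)⁻¹ := by rw [Hom.inv_def, Category.id_comp]
  have h2 : ι[G] ≫ ι[G] = (ι[G])⁻¹ := by rw [Hom.inv_def]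
  rw [h2, h1, _root_.inv_inv]

theorem conn_image {X : Type*} [TopologicalSpace X] {f : X → X} (hf : Continuous f) {e₀ : X}
    (ha : f e₀ ∈ connectedComponent e₀) : ∀ c ∈ connectedComponent e₀, f c ∈ connectedComponent e₀ := by
  intro c hc
  have h1 : _root_.IsPreconnected (f '' connectedComponent e₀) :=
    isPreconnected_connectedComponent.image _ hf.continuousOn
  have h2 : f '' connectedComponent e₀ ⊆ connectedComponent (f e₀) :=
    h1.subset_connectedComponent ⟨e₀, mem_connectedComponent, rfl⟩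
  rw [connectedComponent_eq ha]
  exact h2 ⟨c, hc, rfl⟩

end general

variable {k : Type u} [Field k]

theorem exists_rat [IsAlgClosed k] (G : Over (Spec (CommRingCat.of k))) [LocallyOfFiniteType G.hom]
    (x : G.left) (hx : IsClosed ({x} : Set G.left)) :
    ∃ x' : 𝟙_ (Over (Spec (CommRingCat.of k))) ⟶ G,
      ∀ t : (𝟙_ (Over (Spec (CommRingCat.of k)))).left, x'.left t = x :=
  ⟨Over.homMk (pointOfClosedPoint G.hom x hx) (by simpa using pointOfClosedPoint_comp G.hom x hx),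
    fun t => pointOfClosedPoint_apply G.hom x hx t⟩

theorem lift_U (G : Over (Spec (CommRingCat.of k))) (U : G.left.Opens)
    (p : 𝟙_ (Over (Spec (CommRingCat.of k))) ⟶ G)
    (hp : ∀ t : (𝟙_ (Over (Spec (CommRingCat.of k)))).left, p.left t ∈ U) :
    ∃ pU : 𝟙_ (Over (Spec (CommRingCat.of k))) ⟶ Over.mk (U.ι ≫ G.hom),
      pU ≫ (Over.homMk U.ι rfl : Over.mk (U.ι ≫ G.hom) ⟶ G) = p := by
  have hr : Set.range p.left ⊆ Set.range U.ι := by
    rintro _ ⟨t, rfl⟩
    rw [Scheme.Opens.range_ι]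
    exact hp t
  refine ⟨Over.homMk (IsOpenImmersion.lift U.ι p.left hr) ?_, ?_⟩
  · show IsOpenImmersion.lift U.ι p.left hr ≫ U.ι ≫ G.hom = _
    rw [IsOpenImmersion.lift_fac_assoc]
    exact Over.w p
  · ext
    show IsOpenImmersion.lift U.ι p.left hr ≫ U.ι = p.left
    exact IsOpenImmersion.lift_fac _ _ _

theorem main15352 [IsAlgClosed k] (G : Over (Spec (CommRingCat.of k))) [GrpObj G]
    [LocallyOfFiniteType G.hom] (U : G.left.Opens) (hne : (U : Set ↥G.left).Nonempty)
    (hU : (U : Set ↥G.left) ⊆ connectedComponent ((η[G]).left (IsLocalRing.closedPoint k))) :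
    connectedComponent ((η[G]).left (IsLocalRing.closedPoint k)) ⊆ Set.range
      ((((Over.homMk U.ι rfl : Over.mk (U.ι ≫ G.hom) ⟶ G) ⊗ₘ
          ((Over.homMk U.ι rfl : Over.mk (U.ι ≫ G.hom) ⟶ G) ≫ ι[G])) ≫ μ[G]).left) := by
  haveI : Subsingleton ↥(Spec (CommRingCat.of k)) :=
    inferInstanceAs (Subsingleton (PrimeSpectrum k))
  haveI : JacobsonSpace ↥G.left := LocallyOfFiniteType.jacobsonSpace G.hom
  have hCirr : IsIrreducible (connectedComponent ((η[G]).left (IsLocalRing.closedPoint k))) :=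
    (GrpConnCompH4.main0355 k G).1
  obtain ⟨e₀, he₀⟩ : ∃ e₀ : G.left, e₀ = (η[G]).left (IsLocalRing.closedPoint k) := ⟨_, rfl⟩
  rw [← he₀] at hU hCirr ⊢
  obtain ⟨j, hj⟩ : ∃ j : Over.mk (U.ι ≫ G.hom) ⟶ G, j = Over.homMk U.ι rfl := ⟨_, rfl⟩
  rw [← hj]
  obtain ⟨m', hm'⟩ : ∃ m' : Over.mk (U.ι ≫ G.hom) ⊗ Over.mk (U.ι ≫ G.hom) ⟶ G,
      m' = (j ⊗ₘ (j ≫ ι[G])) ≫ μ[G] := ⟨_, rfl⟩
  rw [← hm']
  have hη : ∀ t : (𝟙_ (Over (Spec (CommRingCat.of k)))).left, (η[G]).left t = e₀ := by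
    intro t
    rw [he₀]
    congr 1
    exact Subsingleton.elim (α := PrimeSpectrum k) _ _
  obtain ⟨t₀⟩ : Nonempty (𝟙_ (Over (Spec (CommRingCat.of k)))).left :=
    ⟨(IsLocalRing.closedPoint k : PrimeSpectrum k)⟩
  -- Step 1: the image is open
  have hWopen : IsOpen (Set.range m'.left) := by
    haveI : IsIso ι[G] := ⟨ι[G], inv_inv_id, inv_inv_id⟩
    haveI : IsIso (ι[G]).left := (Over.forget _).map_isIso ι[G]
    haveI : IsOpenImmersion j.left := by rw [hj]; exact (inferInstance : IsOpenImmersion U.ι)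
    haveI : IsOpenImmersion (j ≫ ι[G]).left := by rw [Over.comp_left]; infer_instance
    haveI : IsOpenImmersion (j ⊗ₘ (j ≫ ι[G])).left := by
      rw [Over.tensorHom_left]; infer_instance
    have h1 : IsOpenMap m'.left := by
      intro s hs
      have e : m'.left '' s = (μ[G]).left '' ((j ⊗ₘ (j ≫ ι[G])).left '' s) := by
        rw [Set.image_image, hm']; rfl
      rw [e]
      exact (Groth.Agent.S0347.result k G) _
        ((j ⊗ₘ (j ≫ ι[G])).left.isOpenEmbedding.isOpenMap _ hs)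
    exact h1.isOpen_range
  -- Step 2: closed points of the identity component are in the image
  have hstep2 : ∀ x : G.left, IsClosed ({x} : Set G.left) → x ∈ connectedComponent e₀ →
      x ∈ Set.range m'.left := by
    intro x hxcl hxC
    obtain ⟨x', hx'⟩ := exists_rat G x hxcl
    obtain ⟨hL'L, hLL'⟩ := ltr_inv x'
    have hinv_e : (ι[G]).left e₀ = e₀ := by
      rw [← hη t₀, ← comp_pt]
      have : η[G] ≫ ι[G] = η[G] := by
        rw [← Hom.inv_def, eta_eq_one, _root_.inv_one]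
      rw [this]
    have hinvC := conn_image (f := (ι[G]).left) (ι[G]).left.continuous (e₀ := e₀)
      (by rw [hinv_e]; exact mem_connectedComponent)
    have hL'e : (ltr x'⁻¹).left e₀ = (ι[G]).left x := by
      rw [← hη t₀, ← comp_pt, ltr_pt, eta_eq_one, _root_.mul_one, Hom.inv_def, comp_pt, hx' t₀]
    have hL'C := conn_image (f := (ltr x'⁻¹).left) (ltr x'⁻¹).left.continuous (e₀ := e₀)
      (by rw [hL'e]; exact hinvC x hxC)
    obtain ⟨u₀, hu₀⟩ := hne
    have hV : (connectedComponent e₀ ∩ ((U : Set G.left) ∩ (ltr x').left ⁻¹' (U : Set G.left))).Nonempty := by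
      refine hCirr.isPreirreducible _ _ U.2 (U.2.preimage (ltr x').left.continuous)
        ⟨u₀, hU hu₀, hu₀⟩ ⟨(ltr x'⁻¹).left u₀, hL'C u₀ (hU hu₀), ?_⟩
      show (ltr x').left ((ltr x'⁻¹).left u₀) ∈ (U : Set G.left)
      rw [← comp_pt, hL'L]
      exact hu₀
    have hVne : ((U : Set G.left) ∩ (ltr x').left ⁻¹' (U : Set G.left)).Nonempty := by
      obtain ⟨v, -, hv⟩ := hV
      exact ⟨v, hv⟩
    have hVopen : IsOpen ((U : Set G.left) ∩ (ltr x').left ⁻¹' (U : Set G.left)) :=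
      U.2.inter (U.2.preimage (ltr x').left.continuous)
    obtain ⟨h₁, ⟨hh₁U, hh₁L⟩, hh₁cl⟩ := nonempty_inter_closedPoints hVne hVopen.isLocallyClosed
    obtain ⟨h, hh⟩ := exists_rat G h₁ hh₁cl
    have hgpt : ∀ t : (𝟙_ (Over (Spec (CommRingCat.of k)))).left, (x' * h).left t ∈ U := by
      intro t
      rw [← ltr_pt, comp_pt, hh t]
      exact hh₁L
    obtain ⟨gU, hgU⟩ := lift_U G U (x' * h) hgpt
    obtain ⟨hU', hhU'⟩ := lift_U G U h (fun t => by rw [hh t]; exact hh₁U)
    rw [← hj] at hgU hhU'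
    have hP : lift gU hU' ≫ m' = x' := by
      rw [hm', ← Category.assoc, lift_map, ← Hom.mul_def, hgU, ← Category.assoc, hhU',
        ← Hom.inv_def, _root_.mul_inv_cancel_right]
    refine ⟨(lift gU hU').left t₀, ?_⟩
    rw [← comp_pt, hP, hx' t₀]
  -- Step 3
  intro c hc
  by_contra hcW
  have hDne : (connectedComponent e₀ ∩ (Set.range m'.left)ᶜ).Nonempty := ⟨c, hc, hcW⟩
  have hDcl : IsClosed (connectedComponent e₀ ∩ (Set.range m'.left)ᶜ) :=
    isClosed_connectedComponent.inter hWopen.isClosed_compl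
  obtain ⟨x, ⟨hxC, hxW⟩, hxcl⟩ := nonempty_inter_closedPoints hDne hDcl.isLocallyClosed
  exact hxW (hstep2 x hxcl hxC)

end Groth.Agent.Lib.UUinv
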