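import Groth.Statements.S14577
import Groth.Statements.S11395
import Groth.Agent.Lib.AAKunneth_lead
import Groth.Agent.Lib.AMonDense_lead
import Groth.Agent.Lib.UUinv_lead
import Groth.Agent.Lib.ClosedOrbit_lead

/-! # The rigidity lemma (lead)

`X` quasi-compact quasi-separated over a field `k` with `O(X) = k`, `f : X × Y ⟶ Z` with `Z` separated,
`f` constant on `X × y₀`: then `f` factors through the second projection
(`Y` integral locally noetherian, or `Y` connected of finite type over an algebraically closed field).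
-/

set_option backward.isDefEq.respectTransparency false
set_option backward.isDefEq.respectTransparency.types false
set_option linter.unusedSimpArgs false
set_option linter.unusedVariables false
set_option linter.unusedSectionVars false
set_option linter.style.longLine false
set_option linter.style.haveILetI false
set_option maxHeartbeats 800000

universe u

open CategoryTheory CategoryTheory.Limits MonoidalCategory CartesianMonoidalCategory MonObj GrpObj
  AlgebraicGeometry Opposite Topology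

namespace Groth.Agent.Lib.Rigidity

open Groth.Agent.Lib.AssocBundle Groth.Agent.Lib.IsogKernel Groth.Agent.Lib.AntiAffine

/-! ### Algebra -/

section Algebra

open TensorProduct

theorem exists_s {R : Type u} [CommRing R] [IsNoetherianRing R] (m : Ideal R) :
    ∃ s : R, s - 1 ∈ m ∧ ∀ x : R, (∀ n : ℕ, x ∈ m ^ (n + 1)) → s * x = 0 := by
  obtain ⟨N, hNdef⟩ : ∃ N : Ideal R, N = ⨅ i : ℕ, m ^ i := ⟨_, rfl⟩
  have hN : N ≤ m • N := by
    intro x hx
    have hx0 : x ∈ (⨅ i : ℕ, m ^ i : Ideal R) := hNdef ▸ hx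
    have hx' : x ∈ (⨅ i : ℕ, m ^ i • ⊤ : Submodule R R) := by
      rw [Submodule.mem_iInf] at hx0 ⊢
      intro i
      rw [smul_eq_mul, ← Ideal.one_eq_top, _root_.mul_one]
      exact hx0 i
    obtain ⟨r, hr⟩ := (m.mem_iInf_smul_pow_eq_bot_iff x).mp hx'
    rw [← hr]
    exact Submodule.smul_mem_smul r.2 hx
  obtain ⟨s, hs1, hs2⟩ := Submodule.exists_sub_one_mem_and_smul_eq_zero_of_fg_of_le_smul m N
    (IsNoetherian.noetherian N) hN
  refine ⟨s, hs1, fun x hx => hs2 x ?_⟩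
  rw [hNdef, Submodule.mem_iInf]
  intro i
  cases i with
  | zero => simp
  | succ i => exact hx i

theorem subsingleton_spec_quot {R : Type u} [CommRing R] (m : Ideal R) [hm : m.IsMaximal] (n : ℕ) :
    Subsingleton (PrimeSpectrum (R ⧸ m ^ (n + 1))) := by
  have key : ∀ P : PrimeSpectrum (R ⧸ m ^ (n + 1)),
      P.asIdeal.comap (Ideal.Quotient.mk (m ^ (n + 1))) = m := by
    intro P
    haveI hP : (P.asIdeal.comap (Ideal.Quotient.mk (m ^ (n + 1)))).IsPrime :=
      Ideal.comap_isPrime _ _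
    have h1 : m ^ (n + 1) ≤ P.asIdeal.comap (Ideal.Quotient.mk (m ^ (n + 1))) := by
      intro x hx
      rw [Ideal.mem_comap, Ideal.Quotient.eq_zero_iff_mem.mpr hx]
      exact zero_mem _
    exact (hm.eq_of_le hP.ne_top (Ideal.IsPrime.le_of_pow_le h1)).symm
  refine ⟨fun P Q => ?_⟩
  apply PrimeSpectrum.ext
  apply Ideal.comap_injective_of_surjective (Ideal.Quotient.mk (m ^ (n + 1)))
    Ideal.Quotient.mk_surjective
  rw [key P, key Q]

theorem iso_hom_inj {A B : CommRingCat.{u}} (e : A ≅ B) : Function.Injective e.hom.hom := by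
  intro x y h
  have hx : e.inv.hom (e.hom.hom x) = x := by
    change (e.hom ≫ e.inv).hom x = x
    rw [e.hom_inv_id]; rfl
  have hy : e.inv.hom (e.hom.hom y) = y := by
    change (e.hom ≫ e.inv).hom y = y
    rw [e.hom_inv_id]; rfl
  calc x = e.inv.hom (e.hom.hom x) := hx.symm
    _ = e.inv.hom (e.hom.hom y) := by rw [h]
    _ = y := hy

/-- elements of `R ⊗ B` dying in all `R/Iₙ ⊗ B` are killed by any `s` killing `⋂ Iₙ` (`B` free) -/
theorem key_tensor {K : Type u} [CommRing K] {B R : Type u} [CommRing B] [CommRing R]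
    [Algebra K B] [Algebra K R] [Module.Free K B] {Rn : ℕ → Type u} [∀ n, CommRing (Rn n)]
    [∀ n, Algebra K (Rn n)] (q : ∀ n, R →ₐ[K] Rn n) (s : R)
    (hs : ∀ x : R, (∀ n, q n x = 0) → s * x = 0) (d : R ⊗[K] B)
    (hd : ∀ n, Algebra.TensorProduct.map (q n) (AlgHom.id K B) d = 0) :
    (s ⊗ₜ[K] (1 : B)) * d = 0 := by
  classical
  obtain ⟨bs⟩ : Nonempty (Module.Basis (Module.Free.ChooseBasisIndex K B) K B) :=
    ⟨Module.Free.chooseBasis K B⟩
  have hrepr : ∀ (n : ℕ) (x : R ⊗[K] B) (i : Module.Free.ChooseBasisIndex K B),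
      (Algebra.TensorProduct.basis (Rn n) bs).repr
        (Algebra.TensorProduct.map (q n) (AlgHom.id K B) x) i =
      q n ((Algebra.TensorProduct.basis R bs).repr x i) := by
    intro n x i
    induction x using TensorProduct.induction_on with
    | zero => simp
    | tmul r b =>
      simp only [Algebra.TensorProduct.map_tmul, Algebra.TensorProduct.basis_repr_tmul,
        AlgHom.coe_id, id_eq, Finsupp.smul_apply, Finsupp.mapRange_apply, smul_eq_mul, map_mul,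
        AlgHom.commutes]
    | add x y hx hy => simp only [map_add, Finsupp.add_apply, hx, hy]
  have hc : ∀ i, s * (Algebra.TensorProduct.basis R bs).repr d i = 0 := by
    intro i
    apply hs
    intro n
    rw [← hrepr, hd n, map_zero, Finsupp.zero_apply]
  have h1 : ∀ x : R ⊗[K] B, (s ⊗ₜ[K] (1 : B)) * x = s • x := by
    intro x
    induction x using TensorProduct.induction_on with
    | zero => simp
    | tmul r b =>
      rw [Algebra.TensorProduct.tmul_mul_tmul, _root_.one_mul, TensorProduct.smul_tmul', smul_eq_mul]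
    | add x y hx hy => rw [mul_add, smul_add, hx, hy]
  rw [h1]
  apply (Algebra.TensorProduct.basis R bs).repr.injective
  ext i
  rw [map_smul, Finsupp.smul_apply, smul_eq_mul, hc i, map_zero, Finsupp.zero_apply]

/-- the same for abstract pushouts of commutative rings over a field -/
theorem key_pushout {K B R D : CommRingCat.{u}} (hK : IsField K) (r : K ⟶ R) (b : K ⟶ B)
    (i₂ : R ⟶ D) (i₁ : B ⟶ D) (hpo : IsPushout r b i₂ i₁)
    {Rn Dn : ℕ → CommRingCat.{u}} (q : ∀ n, R ⟶ Rn n) (j₂ : ∀ n, Rn n ⟶ Dn n)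
    (j₁ : ∀ n, B ⟶ Dn n) (hpon : ∀ n, IsPushout (r ≫ q n) b (j₂ n) (j₁ n))
    (ψ : ∀ n, D ⟶ Dn n) (h₁ : ∀ n, i₁ ≫ ψ n = j₁ n) (h₂ : ∀ n, i₂ ≫ ψ n = q n ≫ j₂ n)
    (s : R) (hs : ∀ x : R, (∀ n, (q n).hom x = 0) → s * x = 0)
    (d : D) (hd : ∀ n, (ψ n).hom d = 0) : i₂.hom s * d = 0 := by
  letI : Algebra K R := r.hom.toAlgebra
  letI : Algebra K B := b.hom.toAlgebra
  letI algn : ∀ n, Algebra K (Rn n) := fun n => (r ≫ q n).hom.toAlgebra
  haveI : Module.Free K B := by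
    letI := hK.toField
    exact Module.Free.of_divisionRing K B
  let qa : ∀ n, R →ₐ[K] Rn n := fun n => { (q n).hom with commutes' := fun x => rfl }
  have hT := CommRingCat.isPushout_tensorProduct K R B
  have hTn := fun n => CommRingCat.isPushout_tensorProduct K (Rn n) B
  have hpo' : IsPushout (CommRingCat.ofHom (algebraMap K R)) (CommRingCat.ofHom (algebraMap K B))
      i₂ i₁ := hpo
  have hpon' : ∀ n, IsPushout (CommRingCat.ofHom (algebraMap K (Rn n)))
      (CommRingCat.ofHom (algebraMap K B)) (j₂ n) (j₁ n) := hpon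
  let e := hT.isoIsPushout _ _ hpo'
  let en := fun n => (hTn n).isoIsPushout _ _ (hpon' n)
  have he1 : ∀ x : R, e.hom.hom (x ⊗ₜ[K] (1 : B)) = i₂.hom x := fun x =>
    congrArg (fun φ => φ.hom x) (hT.inl_isoIsPushout_hom _ _ hpo')
  have he2 : ∀ y : B, e.hom.hom ((1 : R) ⊗ₜ[K] y) = i₁.hom y := fun y =>
    congrArg (fun φ => φ.hom y) (hT.inr_isoIsPushout_hom _ _ hpo')
  have hen1 : ∀ n (x : Rn n), (en n).hom.hom (x ⊗ₜ[K] (1 : B)) = (j₂ n).hom x := fun n x =>
    congrArg (fun φ => φ.hom x) ((hTn n).inl_isoIsPushout_hom _ _ (hpon' n))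
  have hen2 : ∀ n (y : B), (en n).hom.hom ((1 : Rn n) ⊗ₜ[K] y) = (j₁ n).hom y := fun n y =>
    congrArg (fun φ => φ.hom y) ((hTn n).inr_isoIsPushout_hom _ _ (hpon' n))
  have hF1 : ∀ n (x : R ⊗[K] B), (ψ n).hom (e.hom.hom x) =
      (en n).hom.hom (Algebra.TensorProduct.map (qa n) (AlgHom.id K B) x) := by
    intro n x
    induction x using TensorProduct.induction_on with
    | zero => simp only [map_zero]
    | tmul x y =>
      have e0 : x ⊗ₜ[K] y = (x ⊗ₜ[K] (1 : B)) * ((1 : R) ⊗ₜ[K] y) := by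
        rw [Algebra.TensorProduct.tmul_mul_tmul, _root_.mul_one, _root_.one_mul]
      have e0' : (qa n x) ⊗ₜ[K] y = ((qa n x) ⊗ₜ[K] (1 : B)) * ((1 : Rn n) ⊗ₜ[K] y) := by
        rw [Algebra.TensorProduct.tmul_mul_tmul, _root_.mul_one, _root_.one_mul]
      have a1 : (ψ n).hom (i₂.hom x) = (j₂ n).hom (qa n x) := congrArg (fun φ => φ.hom x) (h₂ n)
      have a2 : (ψ n).hom (i₁.hom y) = (j₁ n).hom y := congrArg (fun φ => φ.hom y) (h₁ n)
      have l1 : (ψ n).hom (e.hom.hom (x ⊗ₜ[K] y)) = (ψ n).hom (i₂.hom x) * (ψ n).hom (i₁.hom y) := by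
        rw [e0, map_mul, map_mul, he1, he2]
      have l2 : (en n).hom.hom (Algebra.TensorProduct.map (qa n) (AlgHom.id K B) (x ⊗ₜ[K] y)) =
          (j₂ n).hom (qa n x) * (j₁ n).hom y := by
        have : Algebra.TensorProduct.map (qa n) (AlgHom.id K B) (x ⊗ₜ[K] y) = (qa n x) ⊗ₜ[K] y := by
          rw [Algebra.TensorProduct.map_tmul]; rfl
        rw [this, e0', map_mul, hen1, hen2]
      rw [l1, l2, a1, a2]
    | add x y hx hy => simp only [map_add, hx, hy]
  have hed : e.hom.hom (e.inv.hom d) = d := by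
    change (e.inv ≫ e.hom).hom d = d
    rw [e.inv_hom_id]; rfl
  have hd' : ∀ n, Algebra.TensorProduct.map (qa n) (AlgHom.id K B) (e.inv.hom d) = 0 := by
    intro n
    apply iso_hom_inj (en n)
    rw [← hF1, map_zero, hed]
    exact hd n
  have hkey := key_tensor qa s (fun x hx => hs x (fun n => hx n)) (e.inv.hom d) hd'
  have h3 := congrArg (fun t => e.hom.hom t) hkey
  simp only [map_mul, map_zero] at h3
  rw [he1, hed] at h3
  exact h3

end Algebra

/-! ### Generalities -/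

variable {k : Type u} [Field k]

theorem sq_whisker' {S : Scheme.{u}} {X Y Y' : Over S} (φ : Y' ⟶ Y) :
    IsPullback (X ◁ φ) (snd X Y') (snd X Y) φ := by
  apply isPullback_of_exists_unique
  · rw [whiskerLeft_snd]
  · intro T b c hbc
    refine ⟨lift (b ≫ fst X Y) c, ?_, lift_snd _ _⟩
    apply CartesianMonoidalCategory.hom_ext
    · rw [Category.assoc, whiskerLeft_fst, lift_fst]
    · rw [Category.assoc, whiskerLeft_snd, lift_snd_assoc, hbc]
  · intro T l l' h1 h2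
    apply CartesianMonoidalCategory.hom_ext
    · have := congrArg (fun t => t ≫ fst X Y) h1
      simpa only [Category.assoc, whiskerLeft_fst] using this
    · exact h2

theorem nonempty_of_aa (G : Over (Spec (CommRingCat.of k))) (hG : AA G) : Nonempty G.left := by
  by_contra hne
  haveI : IsEmpty G.left := not_nonempty_iff.mp hne
  haveI : IsIso G.hom.appTop := hG
  haveI h0 : Subsingleton Γ(G.left, ⊤) := inferInstance
  haveI h1 : Subsingleton Γ(Spec (CommRingCat.of k), ⊤) :=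
    (asIso G.hom.appTop).commRingCatIsoToRingEquiv.toEquiv.subsingleton
  have h2 : Subsingleton k :=
    (Scheme.ΓSpecIso (CommRingCat.of k)).commRingCatIsoToRingEquiv.symm.toEquiv.subsingleton
  exact not_subsingleton k h2

/-- an anti-affine scheme is connected -/
theorem connected_of_aa (G : Over (Spec (CommRingCat.of k))) (hG : AA G) :
    ConnectedSpace G.left := by
  haveI : IsIso G.hom.appTop := hG
  haveI hsub : Subsingleton ↥(Spec (CommRingCat.of k)) :=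
    inferInstanceAs (Subsingleton (PrimeSpectrum k))
  haveI := nonempty_of_aa G hG
  rw [connectedSpace_iff_clopen]
  refine ⟨inferInstance, fun s hs => ?_⟩
  by_contra hcon
  rw [not_or] at hcon
  obtain ⟨hne1, hne2⟩ := hcon
  obtain ⟨u, hu⟩ := Set.nonempty_iff_ne_empty.mpr hne1
  obtain ⟨v, hv⟩ : ∃ v, v ∉ s := by
    by_contra h
    push Not at h
    exact hne2 (Set.eq_univ_of_forall h)
  let U : G.left.Opens := ⟨s, hs.isOpen⟩
  let V : G.left.Opens := ⟨sᶜ, hs.compl.isOpen⟩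
  have hUV : IsCompl U.ι.opensRange V.ι.opensRange := by
    rw [Scheme.Opens.opensRange_ι, Scheme.Opens.opensRange_ι]
    simp only [isCompl_iff, disjoint_iff, codisjoint_iff, ← TopologicalSpace.Opens.coe_inj]
    exact ⟨Set.inter_compl_self s, Set.union_compl_self s⟩
  obtain ⟨hcol⟩ := nonempty_isColimit_binaryCofanMk_of_isCompl U.ι V.ι hUV
  let n : G.left ⟶ (Spec (CommRingCat.of k) ⨿ Spec (CommRingCat.of k)) :=
    hcol.desc (BinaryCofan.mk (U.ι ≫ G.hom ≫ coprod.inl) (V.ι ≫ G.hom ≫ coprod.inr))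
  have hn1 : U.ι ≫ n = U.ι ≫ G.hom ≫ coprod.inl := hcol.fac _ ⟨WalkingPair.left⟩
  have hn2 : V.ι ≫ n = V.ι ≫ G.hom ≫ coprod.inr := hcol.fac _ ⟨WalkingPair.right⟩
  obtain ⟨c, hc⟩ := factor_affine G.hom n
  have e1 : n u = (coprod.inl : Spec (CommRingCat.of k) ⟶
      Spec (CommRingCat.of k) ⨿ Spec (CommRingCat.of k)) (G.hom u) :=
    congrArg (fun φ : (U : Scheme) ⟶ _ => φ (⟨u, hu⟩ : U)) hn1
  have e2 : n v = (coprod.inr : Spec (CommRingCat.of k) ⟶
      Spec (CommRingCat.of k) ⨿ Spec (CommRingCat.of k)) (G.hom v) :=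
    congrArg (fun φ : (V : Scheme) ⟶ _ => φ (⟨v, hv⟩ : V)) hn2
  have e3 : n u = c (G.hom u) := by rw [hc]; rfl
  have e4 : n v = c (G.hom v) := by rw [hc]; rfl
  have e5 : G.hom u = G.hom v := Subsingleton.elim _ _
  have e6 : (coprod.inl : Spec (CommRingCat.of k) ⟶
      Spec (CommRingCat.of k) ⨿ Spec (CommRingCat.of k)) (G.hom u) =
      (coprod.inr : Spec (CommRingCat.of k) ⟶
      Spec (CommRingCat.of k) ⨿ Spec (CommRingCat.of k)) (G.hom v) := by
    rw [← e1, ← e2, e3, e4, e5]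
  exact inl_ne_inr _ _ _ _ e6

theorem factor_snd' (A T N : Over (Spec (CommRingCat.of k))) (hA : AA A)
    [CompactSpace A.left] [QuasiSeparatedSpace A.left] [IsAffine T.left] [IsAffine N.left]
    (x₀ : 𝟙_ (Over (Spec (CommRingCat.of k))) ⟶ A) (n : A ⊗ T ⟶ N) :
    n = snd A T ≫ (lift (toUnit T ≫ x₀) (𝟙 T) ≫ n) := by
  haveI := Groth.Agent.Lib.AAKunneth.isIso_snd_appTop A T hA
  obtain ⟨c₀, hc₀⟩ := factor_affine (snd A T).left n.left
  have hs : (lift (toUnit T ≫ x₀) (𝟙 T)).left ≫ (snd A T).left = 𝟙 _ := by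
    rw [← Over.comp_left, lift_snd]; rfl
  ext
  show n.left = (snd A T).left ≫ (lift (toUnit T ≫ x₀) (𝟙 T)).left ≫ n.left
  rw [hc₀, ← Category.assoc (lift (toUnit T ≫ x₀) (𝟙 T)).left, hs, Category.id_comp]

theorem sec_nat {X Y T : Over (Spec (CommRingCat.of k))}
    (x₀ : 𝟙_ (Over (Spec (CommRingCat.of k))) ⟶ X) (c : T ⟶ Y) :
    lift (toUnit T ≫ x₀) (𝟙 T) ≫ (X ◁ c) = c ≫ lift (toUnit Y ≫ x₀) (𝟙 Y) := by
  apply CartesianMonoidalCategory.hom_ext
  · rw [Category.assoc, whiskerLeft_fst, lift_fst, Category.assoc, lift_fst, ← Category.assoc,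
      comp_toUnit]
  · rw [Category.assoc, whiskerLeft_snd, lift_snd_assoc, Category.assoc, lift_snd,
      Category.comp_id, Category.id_comp]

/-- topological constancy on a thickening forces factorisation through the second projection -/
theorem inf_factor (X T T₁ Z : Over (Spec (CommRingCat.of k))) (hX : AA X)
    [CompactSpace X.left] [QuasiSeparatedSpace X.left] [IsAffine T.left]
    (x₀ : 𝟙_ (Over (Spec (CommRingCat.of k))) ⟶ X) (c : T₁ ⟶ T) [Surjective c.left]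
    (h : X ⊗ T ⟶ Z) (zpt : Z.left) (hc : ∀ p, ((X ◁ c) ≫ h).left p = zpt) :
    h = snd X T ≫ lift (toUnit T ≫ x₀) (𝟙 T) ≫ h := by
  have sq : IsPullback (X ◁ c).left (snd X T₁).left (snd X T).left c.left :=
    (sq_whisker' (X := X) c).map (Over.forget _)
  haveI hsurj : Surjective (X ◁ c).left :=
    MorphismProperty.of_isPullback (P := @Surjective) sq.flip ‹Surjective c.left›
  obtain ⟨W, hW, hzW, -⟩ : ∃ W : Z.left.Opens, W ∈ Z.left.affineOpens ∧ zpt ∈ W ∧
      W ≤ (⊤ : Z.left.Opens) :=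
    (TopologicalSpace.Opens.isBasis_iff_nbhd.mp Z.left.isBasis_affineOpens)
      (TopologicalSpace.Opens.mem_top zpt)
  have hmem : ∀ p, h.left p ∈ W := by
    intro p
    obtain ⟨p', rfl⟩ := hsurj.surj p
    have h2 : h.left ((X ◁ c).left p') = zpt := hc p'
    rw [h2]; exact hzW
  have hr : Set.range h.left ⊆ Set.range W.ι := by
    rintro _ ⟨p, rfl⟩
    rw [Scheme.Opens.range_ι]
    exact hmem p
  let WO : Over (Spec (CommRingCat.of k)) := Over.mk (W.ι ≫ Z.hom)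
  haveI : IsAffine WO.left := hW
  let hO : X ⊗ T ⟶ WO := Over.homMk (IsOpenImmersion.lift W.ι h.left hr) (by
    show IsOpenImmersion.lift W.ι h.left hr ≫ W.ι ≫ Z.hom = _
    rw [IsOpenImmersion.lift_fac_assoc]; exact Over.w h)
  let ιW : WO ⟶ Z := Over.homMk W.ι rfl
  have hfac : hO ≫ ιW = h := by
    ext
    show IsOpenImmersion.lift W.ι h.left hr ≫ W.ι = h.left
    exact IsOpenImmersion.lift_fac _ _ _
  have h1 := factor_snd' X T WO hX x₀ hO
  calc h = hO ≫ ιW := hfac.symm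
    _ = (snd X T ≫ lift (toUnit T ≫ x₀) (𝟙 T) ≫ hO) ≫ ιW := by rw [← h1]
    _ = snd X T ≫ lift (toUnit T ≫ x₀) (𝟙 T) ≫ h := by
      rw [Category.assoc, Category.assoc, hfac]

theorem isUnit_of_basicOpen_eq_top {W : Scheme.{u}} (t : Γ(W, ⊤)) (h : W.basicOpen t = ⊤) :
    IsUnit t := by
  apply W.toRingedSpace.isUnit_of_isUnit_germ ⊤ t
  intro x hx
  have hx' : x ∈ W.basicOpen t := by rw [h]; trivial
  exact (W.mem_basicOpen_top t x).mp hx'

theorem isoSpec_inv_appTop' (W : Scheme.{u}) [IsAffine W] :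
    W.isoSpec.inv.appTop = (Scheme.ΓSpecIso Γ(W, ⊤)).inv := by
  have h : W.isoSpec.inv ≫ W.toSpecΓ = 𝟙 _ := Scheme.isoSpec_inv_toSpecΓ W
  have h2 := congrArg (fun φ => Scheme.Hom.appTop φ) h
  simp only [Scheme.Hom.comp_appTop, Scheme.toSpecΓ_appTop, Scheme.Hom.id_appTop] at h2
  have h3 := (Iso.eq_inv_comp (Scheme.ΓSpecIso Γ(W, ⊤))).mpr h2
  rw [h3, Category.comp_id]

/-! ### Infinitesimal neighbourhoods of a rational point of an affine scheme -/

section Thick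

variable (Y : Over (Spec (CommRingCat.of k))) [IsAffine Y.left]

/-- closed subscheme of the affine `Y` cut out by an ideal of global sections -/
noncomputable def TI (I : Ideal Γ(Y.left, ⊤)) : Over (Spec (CommRingCat.of k)) :=
  Over.mk (Spec.map (CommRingCat.ofHom (Ideal.Quotient.mk I)) ≫ Y.left.isoSpec.inv ≫ Y.hom)

instance (I : Ideal Γ(Y.left, ⊤)) : IsAffine (TI Y I).left :=
  inferInstanceAs (IsAffine (Spec (CommRingCat.of (Γ(Y.left, ⊤) ⧸ I))))

noncomputable def cI (I : Ideal Γ(Y.left, ⊤)) : TI Y I ⟶ Y :=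
  Over.homMk (Spec.map (CommRingCat.ofHom (Ideal.Quotient.mk I)) ≫ Y.left.isoSpec.inv)
    (by rw [Category.assoc]; rfl)

theorem cI_appTop (I : Ideal Γ(Y.left, ⊤)) :
    (cI Y I).left.appTop = CommRingCat.ofHom (Ideal.Quotient.mk I) ≫
      (Scheme.ΓSpecIso (CommRingCat.of (Γ(Y.left, ⊤) ⧸ I))).inv := by
  show (Spec.map (CommRingCat.ofHom (Ideal.Quotient.mk I)) ≫ Y.left.isoSpec.inv).appTop = _
  rw [Scheme.Hom.comp_appTop, isoSpec_inv_appTop']
  exact (Scheme.ΓSpecIso_inv_naturality _).symm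

variable (y₀ : 𝟙_ (Over (Spec (CommRingCat.of k))) ⟶ Y)

/-- evaluation of functions at a rational point -/
noncomputable def evC : Γ(Y.left, ⊤) ⟶ CommRingCat.of k :=
  (y₀.left : Spec (CommRingCat.of k) ⟶ Y.left).appTop ≫ (Scheme.ΓSpecIso (CommRingCat.of k)).hom

theorem evC_surj : Function.Surjective (evC Y y₀).hom := by
  intro a
  have hw : (y₀.left : Spec (CommRingCat.of k) ⟶ Y.left) ≫ Y.hom =
      𝟙 (Spec (CommRingCat.of k)) := Over.w y₀
  have e : Y.hom.appTop ≫ (y₀.left : Spec (CommRingCat.of k) ⟶ Y.left).appTop =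
      𝟙 Γ(Spec (CommRingCat.of k), ⊤) := by
    rw [← Scheme.Hom.comp_appTop, hw]; rfl
  have h : ((Scheme.ΓSpecIso (CommRingCat.of k)).inv ≫ Y.hom.appTop) ≫ evC Y y₀ = 𝟙 _ := by
    unfold evC
    rw [Category.assoc, ← Category.assoc Y.hom.appTop, e, Category.id_comp, Iso.inv_hom_id]
  exact ⟨((Scheme.ΓSpecIso (CommRingCat.of k)).inv ≫ Y.hom.appTop).hom a,
    congrArg (fun φ => φ.hom a) h⟩

theorem evC_spec : Spec.map (evC Y y₀) ≫ Y.left.isoSpec.inv =
    (y₀.left : Spec (CommRingCat.of k) ⟶ Y.left) := by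
  have h1 : Spec.map (evC Y y₀) =
      (y₀.left : Spec (CommRingCat.of k) ⟶ Y.left) ≫ Y.left.toSpecΓ := by
    unfold evC
    rw [Spec.map_comp, SpecMap_ΓSpecIso_hom]
    exact (Scheme.toSpecΓ_naturality _).symm
  rw [h1, Category.assoc, Scheme.toSpecΓ_isoSpec_inv, Category.comp_id]

theorem dI_aux (I : Ideal Γ(Y.left, ⊤)) (hI : I ≤ RingHom.ker (evC Y y₀).hom) :
    Spec.map (CommRingCat.ofHom (Ideal.Quotient.lift I (evC Y y₀).hom (fun a ha => hI ha))) ≫
      (cI Y I).left = (y₀.left : Spec (CommRingCat.of k) ⟶ Y.left) := by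
  show Spec.map _ ≫ Spec.map (CommRingCat.ofHom (Ideal.Quotient.mk I)) ≫ Y.left.isoSpec.inv = _
  rw [← Category.assoc, ← Spec.map_comp]
  have : CommRingCat.ofHom (Ideal.Quotient.mk I) ≫
      CommRingCat.ofHom (Ideal.Quotient.lift I (evC Y y₀).hom (fun a ha => hI ha)) = evC Y y₀ := by
    ext x
    simp
  rw [this]
  exact evC_spec Y y₀

/-- the rational point, as a point of the thickening -/
noncomputable def dI (I : Ideal Γ(Y.left, ⊤)) (hI : I ≤ RingHom.ker (evC Y y₀).hom) :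
    𝟙_ (Over (Spec (CommRingCat.of k))) ⟶ TI Y I :=
  Over.homMk (Spec.map (CommRingCat.ofHom
    (Ideal.Quotient.lift I (evC Y y₀).hom (fun a ha => hI ha)))) (by
      rw [← Over.w (cI Y I), ← Category.assoc, dI_aux]
      exact Over.w y₀)

theorem dI_comp (I : Ideal Γ(Y.left, ⊤)) (hI : I ≤ RingHom.ker (evC Y y₀).hom) :
    dI Y y₀ I hI ≫ cI Y I = y₀ := by
  ext
  exact dI_aux Y y₀ I hI

end Thick

/-! ### The affine local step -/

theorem aff_step (X' Y Z V : Over (Spec (CommRingCat.of k))) [IsAffine X'.left] [IsAffine Y.left]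
    [IsSeparated Z.hom] (a a' : X' ⊗ Y ⟶ Z) (T : ℕ → Over (Spec (CommRingCat.of k)))
    [∀ n, IsAffine (T n).left] (c : ∀ n, T n ⟶ Y)
    (hc : ∀ n, (X' ◁ c n) ≫ a = (X' ◁ c n) ≫ a')
    (s : Γ(Y.left, ⊤)) (hs : ∀ x : Γ(Y.left, ⊤), (∀ n, (c n).left.appTop.hom x = 0) → s * x = 0)
    (j : V ⟶ Y) (hj : ∀ v : V.left, j.left v ∈ Y.left.basicOpen s) :
    (X' ◁ j) ≫ a = (X' ◁ j) ≫ a' := by
  haveI : IsAffine (X' ⊗ Y).left := (inferInstance : IsAffine (pullback X'.hom Y.hom))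
  haveI hci : IsClosedImmersion (equalizer.ι a a').left := inferInstance
  have hK : IsField Γ(Spec (CommRingCat.of k), ⊤) :=
    MulEquiv.isField (Field.toIsField k)
      (Scheme.ΓSpecIso (CommRingCat.of k)).commRingCatIsoToRingEquiv.toMulEquiv
  have hmain : ∀ d : Γ((X' ⊗ Y).left, ⊤), (equalizer.ι a a').left.appTop.hom d = 0 →
      (X' ◁ j).left.appTop.hom d = 0 := by
    intro d hd
    have hψ : ∀ n, (X' ◁ c n).left.appTop.hom d = 0 := by
      intro n
      have e1 : equalizer.lift (X' ◁ c n) (hc n) ≫ equalizer.ι a a' = X' ◁ c n :=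
        equalizer.lift_ι _ _
      have e2 : (X' ◁ c n).left.appTop = (equalizer.ι a a').left.appTop ≫
          (equalizer.lift (X' ◁ c n) (hc n)).left.appTop := by
        rw [← Scheme.Hom.comp_appTop, ← Over.comp_left, e1]
      rw [e2]
      show (equalizer.lift (X' ◁ c n) (hc n)).left.appTop.hom
        ((equalizer.ι a a').left.appTop.hom d) = 0
      rw [hd, map_zero]
    have hpo : IsPushout Y.hom.appTop X'.hom.appTop (snd X' Y).left.appTop
        (fst X' Y).left.appTop := (Groth.Agent.Lib.AAKunneth.isPushout_appTop X' Y).flip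
    have hpon : ∀ n, IsPushout (Y.hom.appTop ≫ (c n).left.appTop) X'.hom.appTop
        (snd X' (T n)).left.appTop (fst X' (T n)).left.appTop := by
      intro n
      have e : (T n).hom.appTop = Y.hom.appTop ≫ (c n).left.appTop := by
        rw [← Scheme.Hom.comp_appTop, Over.w]
      rw [← e]
      exact (Groth.Agent.Lib.AAKunneth.isPushout_appTop X' (T n)).flip
    have h₁ : ∀ n, (fst X' Y).left.appTop ≫ (X' ◁ c n).left.appTop =
        (fst X' (T n)).left.appTop := by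
      intro n
      have e : (X' ◁ c n) ≫ fst X' Y = fst X' (T n) := whiskerLeft_fst _ _
      have e' := congrArg (fun φ => φ.left.appTop) e
      simpa only [Over.comp_left, Scheme.Hom.comp_appTop] using e'
    have h₂ : ∀ n, (snd X' Y).left.appTop ≫ (X' ◁ c n).left.appTop =
        (c n).left.appTop ≫ (snd X' (T n)).left.appTop := by
      intro n
      have e : (X' ◁ c n) ≫ snd X' Y = snd X' (T n) ≫ c n := whiskerLeft_snd _ _
      have e' := congrArg (fun φ => φ.left.appTop) e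
      simpa only [Over.comp_left, Scheme.Hom.comp_appTop] using e'
    have hkey := key_pushout hK Y.hom.appTop X'.hom.appTop (snd X' Y).left.appTop
      (fst X' Y).left.appTop hpo (fun n => (c n).left.appTop)
      (fun n => (snd X' (T n)).left.appTop) (fun n => (fst X' (T n)).left.appTop) hpon
      (fun n => (X' ◁ c n).left.appTop) h₁ h₂ s hs d hψ
    have h3 := congrArg (fun t => (X' ◁ j).left.appTop.hom t) hkey
    simp only [map_mul, map_zero] at h3
    have hu : IsUnit ((X' ◁ j).left.appTop.hom ((snd X' Y).left.appTop.hom s)) := by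
      apply isUnit_of_basicOpen_eq_top
      have e : (snd X' V ≫ j).left.appTop = (snd X' Y).left.appTop ≫ (X' ◁ j).left.appTop := by
        have e0 : (X' ◁ j) ≫ snd X' Y = snd X' V ≫ j := whiskerLeft_snd _ _
        have e' := congrArg (fun φ => φ.left.appTop) e0
        simpa only [Over.comp_left, Scheme.Hom.comp_appTop] using e'.symm
      have e2 : (X' ◁ j).left.appTop.hom ((snd X' Y).left.appTop.hom s) =
          (snd X' V ≫ j).left.appTop.hom s := by
        rw [e]; rfl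
      rw [e2]
      refine Eq.trans (Scheme.preimage_basicOpen_top (snd X' V ≫ j).left s).symm ?_
      apply top_unique
      intro p _
      exact hj ((snd X' V).left p)
    exact hu.mul_right_eq_zero.mp h3
  have hker : (equalizer.ι a a').left.ker ≤ (X' ◁ j).left.ker := by
    rw [Scheme.ker_of_isAffine (equalizer.ι a a').left, Scheme.ker_of_isAffine (X' ◁ j).left]
    apply Scheme.IdealSheafData.le_of_isAffine
    simp only [Scheme.IdealSheafData.ofIdealTop_ideal]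
    apply Ideal.map_mono
    intro d hd
    rw [RingHom.mem_ker] at hd ⊢
    exact hmain d hd
  have hl := IsClosedImmersion.lift_fac (equalizer.ι a a').left (X' ◁ j).left hker
  have e0 : (equalizer.ι a a').left ≫ a.left = (equalizer.ι a a').left ≫ a'.left := by
    rw [← Over.comp_left, ← Over.comp_left, equalizer.condition]
  apply Over.OverMorphism.ext
  rw [Over.comp_left, Over.comp_left, ← hl, Category.assoc, Category.assoc, e0]

theorem spread_aux (X X' Y Z V : Over (Spec (CommRingCat.of k))) [IsAffine X'.left]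
    [IsAffine Y.left] [IsSeparated Z.hom] (ι' : X' ⟶ X) (f f' : X ⊗ Y ⟶ Z)
    (m : Ideal Γ(Y.left, ⊤))
    (hinf : ∀ n : ℕ, (X ◁ cI Y (m ^ (n + 1))) ≫ f = (X ◁ cI Y (m ^ (n + 1))) ≫ f')
    (s : Γ(Y.left, ⊤))
    (hs' : ∀ x : Γ(Y.left, ⊤),
      (∀ n : ℕ, (cI Y (m ^ (n + 1))).left.appTop.hom x = 0) → s * x = 0)
    (j : V ⟶ Y) (hj : ∀ v : V.left, j.left v ∈ Y.left.basicOpen s) :
    (ι' ▷ V) ≫ (X ◁ j) ≫ f = (ι' ▷ V) ≫ (X ◁ j) ≫ f' := by
  have hstep := aff_step X' Y Z V ((ι' ▷ Y) ≫ f) ((ι' ▷ Y) ≫ f')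
    (fun n => TI Y (m ^ (n + 1))) (fun n => cI Y (m ^ (n + 1)))
    (fun n => by
      show (X' ◁ cI Y (m ^ (n + 1))) ≫ (ι' ▷ Y) ≫ f = (X' ◁ cI Y (m ^ (n + 1))) ≫ (ι' ▷ Y) ≫ f'
      rw [← Category.assoc, ← Category.assoc, whisker_exchange, Category.assoc, Category.assoc,
        hinf n])
    s hs' j hj
  calc (ι' ▷ V) ≫ (X ◁ j) ≫ f = (X' ◁ j) ≫ (ι' ▷ Y) ≫ f := by
        rw [← Category.assoc, ← whisker_exchange, Category.assoc]
    _ = (X' ◁ j) ≫ (ι' ▷ Y) ≫ f' := hstep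
    _ = (ι' ▷ V) ≫ (X ◁ j) ≫ f' := by
        rw [← Category.assoc, whisker_exchange, Category.assoc]

theorem spread (X Y Z : Over (Spec (CommRingCat.of k))) [IsAffine Y.left] [IsSeparated Z.hom]
    (f f' : X ⊗ Y ⟶ Z) (m : Ideal Γ(Y.left, ⊤))
    (hinf : ∀ n : ℕ, (X ◁ cI Y (m ^ (n + 1))) ≫ f = (X ◁ cI Y (m ^ (n + 1))) ≫ f')
    (s : Γ(Y.left, ⊤)) (hs2 : ∀ x : Γ(Y.left, ⊤), (∀ n : ℕ, x ∈ m ^ (n + 1)) → s * x = 0)
    (V : Over (Spec (CommRingCat.of k))) (j : V ⟶ Y)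
    (hj : ∀ v : V.left, j.left v ∈ Y.left.basicOpen s) :
    (X ◁ j) ≫ f = (X ◁ j) ≫ f' := by
  have hs' : ∀ x : Γ(Y.left, ⊤),
      (∀ n : ℕ, (cI Y (m ^ (n + 1))).left.appTop.hom x = 0) → s * x = 0 := by
    intro x hx
    apply hs2
    intro n
    have h1 := hx n
    rw [cI_appTop] at h1
    have h2 : (Scheme.ΓSpecIso (CommRingCat.of (Γ(Y.left, ⊤) ⧸ m ^ (n + 1)))).symm.hom.hom
        (Ideal.Quotient.mk (m ^ (n + 1)) x) =
        (Scheme.ΓSpecIso (CommRingCat.of (Γ(Y.left, ⊤) ⧸ m ^ (n + 1)))).symm.hom.hom 0 := by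
      rw [map_zero]; exact h1
    exact Ideal.Quotient.eq_zero_iff_mem.mp (iso_hom_inj _ h2)
  apply Over.OverMorphism.ext
  refine Scheme.Cover.hom_ext (Scheme.Pullback.openCoverOfLeft X.left.affineCover X.hom V.hom) _ _
    (fun i => ?_)
  haveI : IsAffine (Over.mk (X.left.affineCover.f i ≫ X.hom)).left :=
    (inferInstance : IsAffine (X.left.affineCover.X i))
  have h := spread_aux X (Over.mk (X.left.affineCover.f i ≫ X.hom)) Y Z V
    (Over.homMk (X.left.affineCover.f i) rfl) f f' m hinf s hs' j hj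
  exact congrArg (fun φ => φ.left) h

/-! ### The local statement -/

theorem local_rigid_aff (X Y Z : Over (Spec (CommRingCat.of k))) (hX : AA X) [CompactSpace X.left]
    [QuasiSeparatedSpace X.left] [IsAffine Y.left] [IsNoetherianRing Γ(Y.left, ⊤)]
    [IsSeparated Z.hom] (x₀ : 𝟙_ (Over (Spec (CommRingCat.of k))) ⟶ X)
    (y₀ : 𝟙_ (Over (Spec (CommRingCat.of k))) ⟶ Y) (f : X ⊗ Y ⟶ Z) (zpt : Z.left)
    (hf : ∀ p, ((X ◁ y₀) ≫ f).left p = zpt) :
    ∃ s : Γ(Y.left, ⊤), (∀ t, y₀.left t ∈ Y.left.basicOpen s) ∧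
      ∀ (V : Over (Spec (CommRingCat.of k))) (j : V ⟶ Y),
        (∀ v, j.left v ∈ Y.left.basicOpen s) →
        (X ◁ j) ≫ f = (X ◁ j) ≫ snd X Y ≫ lift (toUnit Y ≫ x₀) (𝟙 Y) ≫ f := by
  have hsurj := evC_surj Y y₀
  obtain ⟨m, hm⟩ : ∃ m : Ideal Γ(Y.left, ⊤), m = RingHom.ker (evC Y y₀).hom := ⟨_, rfl⟩
  haveI hmax : m.IsMaximal := by
    rw [hm]
    exact RingHom.ker_isMaximal_of_surjective ((evC Y y₀).hom : Γ(Y.left, ⊤) →+* k) hsurj
  obtain ⟨s, hs1, hs2⟩ := exists_s m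
  have hI : ∀ n : ℕ, m ^ (n + 1) ≤ RingHom.ker (evC Y y₀).hom := fun n => by
    rw [← hm]; exact Ideal.pow_le_self (Nat.succ_ne_zero n)
  have hinf : ∀ n : ℕ, (X ◁ cI Y (m ^ (n + 1))) ≫ f =
      (X ◁ cI Y (m ^ (n + 1))) ≫ snd X Y ≫ lift (toUnit Y ≫ x₀) (𝟙 Y) ≫ f := by
    intro n
    haveI : Surjective (dI Y y₀ (m ^ (n + 1)) (hI n)).left := by
      haveI : Subsingleton ↥(TI Y (m ^ (n + 1))).left :=
        (subsingleton_spec_quot m n : Subsingleton (PrimeSpectrum (Γ(Y.left, ⊤) ⧸ m ^ (n + 1))))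
      obtain ⟨pt₀⟩ : Nonempty ↥(𝟙_ (Over (Spec (CommRingCat.of k)))).left :=
        (inferInstance : Nonempty (PrimeSpectrum k))
      exact ⟨fun y => ⟨pt₀, Subsingleton.elim _ _⟩⟩
    have h0 := inf_factor X (TI Y (m ^ (n + 1))) (𝟙_ _) Z hX x₀ (dI Y y₀ (m ^ (n + 1)) (hI n))
      ((X ◁ cI Y (m ^ (n + 1))) ≫ f) zpt (by
        intro p
        have e : (X ◁ dI Y y₀ (m ^ (n + 1)) (hI n)) ≫ (X ◁ cI Y (m ^ (n + 1))) ≫ f =
            (X ◁ y₀) ≫ f := by
          rw [← Category.assoc, ← MonoidalCategory.whiskerLeft_comp, dI_comp]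
        rw [e]; exact hf p)
    calc (X ◁ cI Y (m ^ (n + 1))) ≫ f
        = snd X (TI Y (m ^ (n + 1))) ≫ lift (toUnit (TI Y (m ^ (n + 1))) ≫ x₀) (𝟙 _) ≫
            (X ◁ cI Y (m ^ (n + 1))) ≫ f := h0
      _ = snd X (TI Y (m ^ (n + 1))) ≫ (cI Y (m ^ (n + 1)) ≫ lift (toUnit Y ≫ x₀) (𝟙 Y)) ≫ f := by
          rw [← Category.assoc (lift (toUnit (TI Y (m ^ (n + 1))) ≫ x₀) (𝟙 _)), sec_nat]
      _ = (X ◁ cI Y (m ^ (n + 1))) ≫ snd X Y ≫ lift (toUnit Y ≫ x₀) (𝟙 Y) ≫ f := by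
          rw [Category.assoc, whiskerLeft_snd_assoc]
  refine ⟨s, ?_, fun V j hj => spread X Y Z f _ m hinf s hs2 V j hj⟩
  intro t
  have hev : (evC Y y₀).hom s = 1 := by
    have h : s - 1 ∈ RingHom.ker (evC Y y₀).hom := by rw [← hm]; exact hs1
    rw [RingHom.mem_ker, map_sub, map_one, sub_eq_zero] at h
    exact h
  have e1 : (y₀.left : Spec (CommRingCat.of k) ⟶ Y.left).appTop.hom s = 1 := by
    apply iso_hom_inj (Scheme.ΓSpecIso (CommRingCat.of k))
    rw [map_one]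
    exact hev
  have e2 : (y₀.left : Spec (CommRingCat.of k) ⟶ Y.left) ⁻¹ᵁ Y.left.basicOpen s = ⊤ := by
    refine (Scheme.preimage_basicOpen_top _ s).trans ?_
    apply Scheme.basicOpen_of_isUnit
    have : IsUnit ((y₀.left : Spec (CommRingCat.of k) ⟶ Y.left).appTop.hom s) := by
      rw [e1]; exact isUnit_one
    exact this
  have h3 : t ∈ (y₀.left : Spec (CommRingCat.of k) ⟶ Y.left) ⁻¹ᵁ Y.left.basicOpen s := by
    rw [e2]; trivial
  exact h3

theorem local_rigid (X Y Z : Over (Spec (CommRingCat.of k))) (hX : AA X) [CompactSpace X.left]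
    [QuasiSeparatedSpace X.left] [IsLocallyNoetherian Y.left] [IsSeparated Z.hom]
    (x₀ : 𝟙_ (Over (Spec (CommRingCat.of k))) ⟶ X)
    (y₀ : 𝟙_ (Over (Spec (CommRingCat.of k))) ⟶ Y) (f : X ⊗ Y ⟶ Z) (zpt : Z.left)
    (hf : ∀ p, ((X ◁ y₀) ≫ f).left p = zpt) :
    ∃ (V : Over (Spec (CommRingCat.of k))) (j : V ⟶ Y)
      (v₀ : 𝟙_ (Over (Spec (CommRingCat.of k))) ⟶ V), IsOpenImmersion j.left ∧ v₀ ≫ j = y₀ ∧
      (X ◁ j) ≫ f = (X ◁ j) ≫ snd X Y ≫ lift (toUnit Y ≫ x₀) (𝟙 Y) ≫ f := by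
  obtain ⟨pt₀⟩ : Nonempty ↥(𝟙_ (Over (Spec (CommRingCat.of k)))).left :=
    (inferInstance : Nonempty (PrimeSpectrum k))
  haveI hsub : Subsingleton ↥(𝟙_ (Over (Spec (CommRingCat.of k)))).left :=
    (inferInstance : Subsingleton (PrimeSpectrum k))
  obtain ⟨V₀, hV₀, hyV₀, -⟩ : ∃ V₀ : Y.left.Opens, V₀ ∈ Y.left.affineOpens ∧ y₀.left pt₀ ∈ V₀ ∧
      V₀ ≤ (⊤ : Y.left.Opens) :=
    (TopologicalSpace.Opens.isBasis_iff_nbhd.mp Y.left.isBasis_affineOpens)
      (TopologicalSpace.Opens.mem_top (y₀.left pt₀))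
  have hp : ∀ t, y₀.left t ∈ V₀ := fun t => by rw [Subsingleton.elim t pt₀]; exact hyV₀
  obtain ⟨y₀', hy₀'⟩ := Groth.Agent.Lib.UUinv.lift_U Y V₀ y₀ hp
  haveI : IsAffine (Over.mk (V₀.ι ≫ Y.hom)).left := hV₀
  haveI : IsLocallyNoetherian (Over.mk (V₀.ι ≫ Y.hom)).left :=
    isLocallyNoetherian_of_isOpenImmersion V₀.ι
  haveI : IsNoetherianRing Γ((Over.mk (V₀.ι ≫ Y.hom)).left, ⊤) :=
    IsLocallyNoetherian.component_noetherian ⟨⊤, isAffineOpen_top _⟩
  obtain ⟨s, hs0, hs⟩ := local_rigid_aff X (Over.mk (V₀.ι ≫ Y.hom)) Z hX x₀ y₀'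
    ((X ◁ (Over.homMk V₀.ι rfl : Over.mk (V₀.ι ≫ Y.hom) ⟶ Y)) ≫ f) zpt (by
      intro p
      have e : (X ◁ y₀') ≫ (X ◁ (Over.homMk V₀.ι rfl : Over.mk (V₀.ι ≫ Y.hom) ⟶ Y)) ≫ f =
          (X ◁ y₀) ≫ f := by
        rw [← Category.assoc, ← MonoidalCategory.whiskerLeft_comp, hy₀']
      rw [e]; exact hf p)
  obtain ⟨j', hj'⟩ : ∃ j' : Over.mk (V₀.ι ≫ Y.hom) ⟶ Y, j' = Over.homMk V₀.ι rfl := ⟨_, rfl⟩
  rw [← hj'] at hs hy₀'
  obtain ⟨v₀, hv₀⟩ := Groth.Agent.Lib.UUinv.lift_U (Over.mk (V₀.ι ≫ Y.hom))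
    ((Over.mk (V₀.ι ≫ Y.hom)).left.basicOpen s) y₀' hs0
  obtain ⟨j'', hj''⟩ : ∃ j'' : Over.mk (((Over.mk (V₀.ι ≫ Y.hom)).left.basicOpen s).ι ≫
      (Over.mk (V₀.ι ≫ Y.hom)).hom) ⟶ Over.mk (V₀.ι ≫ Y.hom),
      j'' = Over.homMk ((Over.mk (V₀.ι ≫ Y.hom)).left.basicOpen s).ι rfl := ⟨_, rfl⟩
  rw [← hj''] at hv₀
  have h1 := hs _ j'' (fun v => by rw [hj'']; exact v.2)
  refine ⟨_, j'' ≫ j', v₀, ?_, ?_, ?_⟩
  · rw [hj'', hj']
    show IsOpenImmersion (((Over.mk (V₀.ι ≫ Y.hom)).left.basicOpen s).ι ≫ V₀.ι)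
    infer_instance
  · rw [← Category.assoc, hv₀, hy₀']
  · calc (X ◁ (j'' ≫ j')) ≫ f = (X ◁ j'') ≫ (X ◁ j') ≫ f := by
          rw [MonoidalCategory.whiskerLeft_comp, Category.assoc]
      _ = (X ◁ j'') ≫ snd X _ ≫ lift (toUnit _ ≫ x₀) (𝟙 _) ≫ (X ◁ j') ≫ f := h1
      _ = (X ◁ j'') ≫ snd X _ ≫ (j' ≫ lift (toUnit Y ≫ x₀) (𝟙 Y)) ≫ f := by
          rw [← Category.assoc (lift (toUnit (Over.mk (V₀.ι ≫ Y.hom)) ≫ x₀) (𝟙 _)), sec_nat]
      _ = (X ◁ (j'' ≫ j')) ≫ snd X Y ≫ lift (toUnit Y ≫ x₀) (𝟙 Y) ≫ f := by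
          simp only [MonoidalCategory.whiskerLeft_comp, Category.assoc, whiskerLeft_snd_assoc]

/-! ### The rigidity lemma over an integral base -/

theorem rigid_int (X Y Z : Over (Spec (CommRingCat.of k))) (hX : AA X) [CompactSpace X.left]
    [QuasiSeparatedSpace X.left] [IsLocallyNoetherian Y.left] [IrreducibleSpace ↥Y.left]
    [IsReduced Y.left] [IsSeparated Z.hom] (x₀ : 𝟙_ (Over (Spec (CommRingCat.of k))) ⟶ X)
    (y₀ : 𝟙_ (Over (Spec (CommRingCat.of k))) ⟶ Y) (f : X ⊗ Y ⟶ Z) (zpt : Z.left)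
    (hf : ∀ p, ((X ◁ y₀) ≫ f).left p = zpt) :
    f = snd X Y ≫ lift (toUnit Y ≫ x₀) (𝟙 Y) ≫ f := by
  obtain ⟨V, j, v₀, hj, hv₀, hVf⟩ := local_rigid X Y Z hX x₀ y₀ f zpt hf
  haveI := hj
  haveI hsub : Subsingleton ↥(Spec (CommRingCat.of k)) :=
    inferInstanceAs (Subsingleton (PrimeSpectrum k))
  obtain ⟨pt₀⟩ : Nonempty ↥(𝟙_ (Over (Spec (CommRingCat.of k)))).left :=
    (inferInstance : Nonempty (PrimeSpectrum k))
  haveI : IsDominant j.left := by
    refine ⟨?_⟩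
    have hopen : IsOpen (Set.range j.left) := j.left.isOpenEmbedding.isOpen_range
    have hne : (Set.range j.left).Nonempty := ⟨j.left (v₀.left pt₀), ⟨_, rfl⟩⟩
    exact hopen.dense hne
  haveI : IsSchemeTheoreticallyDominant j.left :=
    IsSchemeTheoreticallyDominant.of_isDominant j.left
  haveI : QuasiCompact j.left := inferInstance
  haveI : Flat X.hom := inferInstance
  haveI : Flat (snd X Y).left := (inferInstance : Flat (pullback.snd X.hom Y.hom))
  have sq : IsPullback (X ◁ j).left (snd X V).left (snd X Y).left j.left :=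
    (sq_whisker' (X := X) j).map (Over.forget _)
  haveI : IsSchemeTheoreticallyDominant (X ◁ j).left :=
    IsSchemeTheoreticallyDominant.of_isPullback sq.flip
  exact Groth.Agent.Lib.AMonDense.eq_of_dense (X ◁ j) f _ hVf

theorem main14577 (k : Type u) [Field k]
    (X Y Z : Over (Spec (CommRingCat.of k))) [QuasiCompact X.hom] [IsSeparated X.hom]
    (hX : Function.Bijective ((Scheme.ΓSpecIso (CommRingCat.of k)).inv ≫ X.hom.appTop).hom)
    [IsSeparated Y.hom] [IsLocallyNoetherian Y.left] [IrreducibleSpace ↥Y.left] [IsReduced Y.left]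
    [IsSeparated Z.hom]
    (x₀ : 𝟙_ (Over (Spec (CommRingCat.of k))) ⟶ X) (y₀ : 𝟙_ (Over (Spec (CommRingCat.of k))) ⟶ Y)
    (f : X ⊗ Y ⟶ Z)
    (hf : (X ◁ y₀) ≫ f = toUnit _ ≫ lift x₀ y₀ ≫ f) :
    f = snd X Y ≫ lift (toUnit Y ≫ x₀) (𝟙 Y) ≫ f := by
  have hA : AA X := (aa_iff X).mp hX
  haveI : CompactSpace X.left := QuasiCompact.compactSpace_of_compactSpace X.hom
  haveI : QuasiSeparatedSpace X.left := quasiSeparatedSpace_of_quasiSeparated X.hom
  obtain ⟨pt₀⟩ : Nonempty ↥(𝟙_ (Over (Spec (CommRingCat.of k)))).left :=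
    (inferInstance : Nonempty (PrimeSpectrum k))
  haveI hsub : Subsingleton ↥(𝟙_ (Over (Spec (CommRingCat.of k)))).left :=
    (inferInstance : Subsingleton (PrimeSpectrum k))
  refine rigid_int X Y Z hA x₀ y₀ f ((lift x₀ y₀ ≫ f).left pt₀) (fun p => ?_)
  rw [hf]
  exact congrArg (fun t => (lift x₀ y₀ ≫ f).left t) (Subsingleton.elim _ pt₀)

/-! ### The rigidity lemma over a connected base of finite type, `k` algebraically closed -/

/-- the locus of `Y` over a neighbourhood of which `f` and `f'` agree -/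
def good (X Y Z : Over (Spec (CommRingCat.of k))) (f f' : X ⊗ Y ⟶ Z) : Set Y.left :=
  {y | ∃ (V : Over (Spec (CommRingCat.of k))) (j : V ⟶ Y), IsOpenImmersion j.left ∧
    y ∈ Set.range j.left ∧ (X ◁ j) ≫ f = (X ◁ j) ≫ f'}

theorem rigid_conn [IsAlgClosed k] (X Y Z : Over (Spec (CommRingCat.of k))) (hX : AA X)
    [CompactSpace X.left] [QuasiSeparatedSpace X.left] [LocallyOfFiniteType Y.hom]
    [QuasiCompact Y.hom] [ConnectedSpace ↥Y.left] [IsSeparated Z.hom]
    (x₀ : 𝟙_ (Over (Spec (CommRingCat.of k))) ⟶ X)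
    (y₀ : 𝟙_ (Over (Spec (CommRingCat.of k))) ⟶ Y) (f : X ⊗ Y ⟶ Z) (zpt : Z.left)
    (hf : ∀ p, ((X ◁ y₀) ≫ f).left p = zpt) :
    f = snd X Y ≫ lift (toUnit Y ≫ x₀) (𝟙 Y) ≫ f := by
  haveI hsub : Subsingleton ↥(Spec (CommRingCat.of k)) :=
    inferInstanceAs (Subsingleton (PrimeSpectrum k))
  obtain ⟨pt₀⟩ : Nonempty ↥(𝟙_ (Over (Spec (CommRingCat.of k)))).left :=
    (inferInstance : Nonempty (PrimeSpectrum k))
  haveI : IsNoetherianRing (CommRingCat.of k) := inferInstanceAs (IsNoetherianRing k)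
  haveI : IsLocallyNoetherian Y.left := LocallyOfFiniteType.isLocallyNoetherian Y.hom
  haveI : CompactSpace Y.left := QuasiCompact.compactSpace_of_compactSpace Y.hom
  obtain ⟨f', hf'⟩ : ∃ f' : X ⊗ Y ⟶ Z, f' = snd X Y ≫ lift (toUnit Y ≫ x₀) (𝟙 Y) ≫ f :=
    ⟨_, rfl⟩
  rw [← hf']
  have hopen : IsOpen (good X Y Z f f') := by
    rw [isOpen_iff_forall_mem_open]
    rintro y ⟨V, j, hj, hy, hjf⟩
    haveI := hj
    exact ⟨Set.range j.left, fun y' hy' => ⟨V, j, hj, hy', hjf⟩,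
      j.left.isOpenEmbedding.isOpen_range, hy⟩
  have hloc : ∀ (y₁ : 𝟙_ (Over (Spec (CommRingCat.of k))) ⟶ Y) (z₁ : Z.left),
      (∀ p, ((X ◁ y₁) ≫ f).left p = z₁) → y₁.left pt₀ ∈ good X Y Z f f' := by
    intro y₁ z₁ h
    obtain ⟨V, j, v₀, hj, hv₀, hVf⟩ := local_rigid X Y Z hX x₀ y₁ f z₁ h
    refine ⟨V, j, hj, ⟨v₀.left pt₀, ?_⟩, by rw [hf']; exact hVf⟩
    rw [← hv₀]; rfl
  have hy₀ : y₀.left pt₀ ∈ good X Y Z f f' := hloc y₀ zpt hf
  haveI hci : IsClosedImmersion (equalizer.ι f f').left := inferInstance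
  have hEcl : IsClosed (Set.range (equalizer.ι f f').left) :=
    (equalizer.ι f f').left.isClosedEmbedding.isClosed_range
  have hE : ∀ q ∈ Set.range (equalizer.ι f f').left, f.left q = f'.left q := by
    rintro _ ⟨ε, rfl⟩
    exact congrArg (fun φ => φ.left ε) (equalizer.condition f f')
  have hpre : (snd X Y).left ⁻¹' (good X Y Z f f') ⊆ Set.range (equalizer.ι f f').left := by
    rintro p ⟨V, j, hj, ⟨v, hv⟩, hjf⟩
    have sq : IsPullback (X ◁ j).left (snd X V).left (snd X Y).left j.left :=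
      (sq_whisker' (X := X) j).map (Over.forget _)
    obtain ⟨p', hp', -⟩ := Groth.Agent.Lib.ClosedOrbit.exists_of_isPullback sq p v hv.symm
    refine ⟨(equalizer.lift (X ◁ j) hjf).left p', ?_⟩
    have e1 : equalizer.lift (X ◁ j) hjf ≫ equalizer.ι f f' = X ◁ j := equalizer.lift_ι _ _
    have e2 := congrArg (fun φ => φ.left p') e1
    exact e2.trans hp'
  haveI : UniversallyOpen X.hom := inferInstance
  have hom : IsOpenMap (snd X Y).left := (pullback.snd X.hom Y.hom).isOpenMap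
  have hcl : (snd X Y).left ⁻¹' (closure (good X Y Z f f')) ⊆
      Set.range (equalizer.ι f f').left :=
    (hom.preimage_closure_subset_closure_preimage).trans (hEcl.closure_subset_iff.mpr hpre)
  have hclpt : ∀ y₁ : Y.left, IsClosed ({y₁} : Set Y.left) → y₁ ∈ closure (good X Y Z f f') →
      y₁ ∈ good X Y Z f f' := by
    intro y₁ hy₁ hmem
    obtain ⟨y₁', hy₁'⟩ := Groth.Agent.Lib.UUinv.exists_rat Y y₁ hy₁
    have esnd : ∀ p, (snd X Y).left ((X ◁ y₁').left p) = y₁'.left ((snd X (𝟙_ _)).left p) :=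
      fun p => congrArg (fun φ => φ.left p) (whiskerLeft_snd X y₁')
    have h := hloc y₁' ((lift (toUnit Y ≫ x₀) (𝟙 Y) ≫ f).left y₁) (by
      intro p
      have hq : (X ◁ y₁').left p ∈ Set.range (equalizer.ι f f').left := by
        apply hcl
        show (snd X Y).left ((X ◁ y₁').left p) ∈ closure (good X Y Z f f')
        rw [esnd, hy₁']; exact hmem
      have h1 := hE _ hq
      show f.left ((X ◁ y₁').left p) = _
      rw [h1, hf']
      show (lift (toUnit Y ≫ x₀) (𝟙 Y) ≫ f).left ((snd X Y).left ((X ◁ y₁').left p)) = _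
      rw [esnd, hy₁'])
    rw [hy₁'] at h; exact h
  have hclosed : IsClosed (good X Y Z f f') := by
    rw [← closure_subset_iff_isClosed]
    by_contra hne
    have hne' : (closure (good X Y Z f f') \ good X Y Z f f').Nonempty := by
      rw [Set.not_subset] at hne
      obtain ⟨a, ha1, ha2⟩ := hne
      exact ⟨a, ha1, ha2⟩
    have hcl2 : IsClosed (closure (good X Y Z f f') \ good X Y Z f f') :=
      isClosed_closure.sdiff hopen
    obtain ⟨y₁, ⟨hy1, hy2⟩, hy₁⟩ := hcl2.exists_closed_singleton hne'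
    exact hy2 (hclpt y₁ hy₁ hy1)
  have huniv : good X Y Z f f' = Set.univ := IsClopen.eq_univ ⟨hclosed, hopen⟩ ⟨_, hy₀⟩
  apply Over.OverMorphism.ext
  apply Scheme.hom_ext_of_forall
  intro p
  have hp : (snd X Y).left p ∈ good X Y Z f f' := by rw [huniv]; trivial
  obtain ⟨V, j, hj, ⟨v, hv⟩, hjf⟩ := hp
  haveI := hj
  have sq : IsPullback (X ◁ j).left (snd X V).left (snd X Y).left j.left :=
    (sq_whisker' (X := X) j).map (Over.forget _)
  haveI : IsOpenImmersion (X ◁ j).left :=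
    MorphismProperty.of_isPullback (P := @IsOpenImmersion) sq.flip hj
  obtain ⟨p', hp', -⟩ := Groth.Agent.Lib.ClosedOrbit.exists_of_isPullback sq p v hv.symm
  refine ⟨(X ◁ j).left.opensRange, ⟨p', hp'⟩, ?_⟩
  rw [← Scheme.Hom.isoOpensRange_inv_comp, Category.assoc, Category.assoc, ← Over.comp_left,
    ← Over.comp_left, hjf]

theorem main11395 (k : Type u) [Field k] [IsAlgClosed k]
    (X Y Z : Over (Spec (CommRingCat.of k))) [LocallyOfFiniteType X.hom] [QuasiCompact X.hom]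
    [LocallyOfFiniteType Y.hom] [QuasiCompact Y.hom] [LocallyOfFiniteType Z.hom]
    [QuasiCompact Z.hom]
    (hX : Function.Bijective ((Scheme.ΓSpecIso (CommRingCat.of k)).inv ≫ X.hom.appTop).hom)
    [ConnectedSpace ↥Y.left] [IsSeparated Z.hom]
    (f : X ⊗ Y ⟶ Z) (y₀ : 𝟙_ (Over (Spec (CommRingCat.of k))) ⟶ Y)
    (z₀ : 𝟙_ (Over (Spec (CommRingCat.of k))) ⟶ Z)
    (hf : (X ◁ y₀) ≫ f = toUnit _ ≫ z₀) :
    ∃! g : Y ⟶ Z, f = snd X Y ≫ g := by
  have hA : AA X := (aa_iff X).mp hX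
  obtain ⟨hc, hq⟩ := qcqs X
  haveI := hc
  haveI := hq
  haveI : Nonempty X.left := nonempty_of_aa X hA
  obtain ⟨x, -, hx⟩ := (isClosed_univ (X := X.left)).exists_closed_singleton Set.univ_nonempty
  obtain ⟨x₀, -⟩ := Groth.Agent.Lib.UUinv.exists_rat X x hx
  obtain ⟨pt₀⟩ : Nonempty ↥(𝟙_ (Over (Spec (CommRingCat.of k)))).left :=
    (inferInstance : Nonempty (PrimeSpectrum k))
  haveI hsub : Subsingleton ↥(𝟙_ (Over (Spec (CommRingCat.of k)))).left :=
    (inferInstance : Subsingleton (PrimeSpectrum k))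
  have hfp : ∀ p, ((X ◁ y₀) ≫ f).left p = z₀.left pt₀ := by
    intro p
    rw [hf]
    exact congrArg (fun t => z₀.left t) (Subsingleton.elim _ pt₀)
  have key := rigid_conn X Y Z hA x₀ y₀ f (z₀.left pt₀) hfp
  refine ⟨lift (toUnit Y ≫ x₀) (𝟙 Y) ≫ f, key, ?_⟩
  intro g hg
  have h2 : lift (toUnit Y ≫ x₀) (𝟙 Y) ≫ snd X Y ≫ g = g := by
    rw [← Category.assoc, lift_snd, Category.id_comp]
  rw [← h2, ← hg]

end Groth.Agent.Lib.Rigidity
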