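import Mathlib
import Groth.Prelude.Def_AlgGrp
import Groth.Agent.Lib.FlatPtBC_helper4
import Groth.Agent.Lib.UnramLoc_helper4
import Groth.Agent.Lib.GrpShear_helper7

set_option autoImplicit false
set_option linter.style.haveILetI false

universe v u

open CategoryTheory CategoryTheory.Limits AlgebraicGeometry MonoidalCategory
  CartesianMonoidalCategory MonObj

namespace Groth.Agent.Lib.GrpFlatHomH4

section abstract

variable {C : Type u} [Category.{v} C] [CartesianMonoidalCategory C] {G X : C} [GrpObj G]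
variable (act : G ⊗ X ⟶ X)

/-- `(g, g') ↦ (g, g g')` -/
def sG (G : C) [GrpObj G] : G ⊗ G ⟶ G ⊗ G := lift (fst G G) (fst G G * snd G G)
/-- `(g, g') ↦ (g, g⁻¹ g')` -/
def sGinv (G : C) [GrpObj G] : G ⊗ G ⟶ G ⊗ G := lift (fst G G) ((fst G G)⁻¹ * snd G G)
/-- `(g, x) ↦ (g, g x)` -/
def sX : G ⊗ X ⟶ G ⊗ X := lift (fst G X) act
/-- `(g, x) ↦ (g, g⁻¹ x)` -/
def sXinv : G ⊗ X ⟶ G ⊗ X := lift (fst G X) (lift (fst G X)⁻¹ (snd G X) ≫ act)
/-- `(g, g') ↦ (g, φ g')` -/
def Phi (φ : G ⟶ X) : G ⊗ G ⟶ G ⊗ X := lift (fst G G) (snd G G ≫ φ)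
/-- `(a, b) ↦ (a b⁻¹, b)` -/
def rho (G : C) [GrpObj G] : G ⊗ G ⟶ G ⊗ G := lift (fst G G * (snd G G)⁻¹) (snd G G)

lemma sG_sGinv : sG G ≫ sGinv G = 𝟙 _ := by
  unfold sG sGinv
  apply CartesianMonoidalCategory.hom_ext
  · rw [Category.assoc, lift_fst, lift_fst, Category.id_comp]
  · rw [Category.assoc, lift_snd, MonObj.comp_mul, GrpObj.comp_inv, lift_fst, lift_snd,
      Category.id_comp]
    group

lemma sGinv_sG : sGinv G ≫ sG G = 𝟙 _ := by
  unfold sG sGinv
  apply CartesianMonoidalCategory.hom_ext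
  · rw [Category.assoc, lift_fst, lift_fst, Category.id_comp]
  · rw [Category.assoc, lift_snd, MonObj.comp_mul, lift_fst, lift_snd, Category.id_comp]
    group

lemma rho_snd : rho G ≫ snd G G = snd G G := lift_snd _ _

lemma rho_sG_snd : rho G ≫ sG G ≫ snd G G = fst G G := by
  unfold rho sG
  rw [lift_snd, MonObj.comp_mul, lift_fst, lift_snd]
  group

variable (hone : ∀ {T : C} (x : T ⟶ X), lift (1 : T ⟶ G) x ≫ act = x)
  (hmul : ∀ {T : C} (g h : T ⟶ G) (x : T ⟶ X),
    lift (g * h) x ≫ act = lift g (lift h x ≫ act) ≫ act)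

include hone hmul in
lemma sX_sXinv : sX act ≫ sXinv act = 𝟙 _ := by
  unfold sX sXinv
  apply CartesianMonoidalCategory.hom_ext
  · rw [Category.assoc, lift_fst, lift_fst, Category.id_comp]
  · rw [Category.assoc, lift_snd, ← Category.assoc, comp_lift, GrpObj.comp_inv, lift_fst,
      lift_snd, Category.id_comp]
    have h2 : lift (fst G X)⁻¹ act ≫ act =
        lift (fst G X)⁻¹ (lift (fst G X) (snd G X) ≫ act) ≫ act := by
      rw [lift_fst_snd, Category.id_comp]
    rw [h2, ← hmul, inv_mul_cancel, hone]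

include hone hmul in
lemma sXinv_sX : sXinv act ≫ sX act = 𝟙 _ := by
  unfold sX sXinv
  apply CartesianMonoidalCategory.hom_ext
  · rw [Category.assoc, lift_fst, lift_fst, Category.id_comp]
  · rw [Category.assoc, lift_snd, Category.id_comp, ← hmul, mul_inv_cancel, hone]

include hmul in
lemma comm (s₀ : 𝟙_ C ⟶ X) :
    sG G ≫ Phi (lift (𝟙 G) (toUnit G ≫ s₀) ≫ act) =
      Phi (lift (𝟙 G) (toUnit G ≫ s₀) ≫ act) ≫ sX act := by
  have hφ : ∀ {T : C} (g : T ⟶ G), g ≫ lift (𝟙 G) (toUnit G ≫ s₀) ≫ act =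
      lift g (toUnit T ≫ s₀) ≫ act := by
    intro T g
    rw [← Category.assoc, comp_lift, Category.comp_id, ← Category.assoc,
      toUnit_unique (g ≫ toUnit G) (toUnit T)]
  unfold sG Phi sX
  apply CartesianMonoidalCategory.hom_ext
  · rw [Category.assoc, lift_fst, lift_fst, Category.assoc, lift_fst, lift_fst]
  · rw [Category.assoc, lift_snd, ← Category.assoc, lift_snd, Category.assoc, lift_snd, hφ, hφ,
      ← hmul]

omit [GrpObj G] in
lemma isPullback_Phi (φ : G ⟶ X) : IsPullback (snd G G) (Phi φ) φ (snd G X) := by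
  have w : snd G G ≫ φ = Phi φ ≫ snd G X := by unfold Phi; rw [lift_snd]
  refine ⟨⟨w⟩, ⟨PullbackCone.IsLimit.mk w (fun s => lift (s.snd ≫ fst G X) s.fst) ?_ ?_ ?_⟩⟩
  · intro s
    exact lift_snd _ _
  · intro s
    unfold Phi
    apply CartesianMonoidalCategory.hom_ext
    · rw [Category.assoc, lift_fst, lift_fst]
    · rw [Category.assoc, lift_snd, ← Category.assoc, lift_snd, s.condition]
  · intro s m h1 h2
    apply CartesianMonoidalCategory.hom_ext
    · rw [lift_fst, ← h2]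
      unfold Phi
      rw [Category.assoc, lift_fst]
    · rw [lift_snd, ← h1]

end abstract

set_option maxHeartbeats 1600000 in
theorem core {S : Scheme.{u}} [Subsingleton S] (G X : Over S) [GrpObj G] [Flat G.hom]
    (act : G ⊗ X ⟶ X)
    (hone : ∀ {T : Over S} (x : T ⟶ X), lift (1 : T ⟶ G) x ≫ act = x)
    (hmul : ∀ {T : Over S} (g h : T ⟶ G) (x : T ⟶ X),
      lift (g * h) x ≫ act = lift g (lift h x ≫ act) ≫ act)
    (s₀ : 𝟙_ (Over S) ⟶ X)
    (h : ∃ g : G.left, ((lift (𝟙 G) (toUnit G ≫ s₀) ≫ act).left.stalkMap g).hom.Flat) :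
    Flat (lift (𝟙 G) (toUnit G ≫ s₀) ≫ act).left := by
  set φ : G ⟶ X := lift (𝟙 G) (toUnit G ≫ s₀) ≫ act with hφ
  rw [Flat.iff_flat_stalkMap]
  intro y
  obtain ⟨x₀, hx₀⟩ := h
  obtain ⟨z₀, hz1, hz2⟩ := Scheme.Pullback.exists_preimage_pullback (f := G.hom) (g := G.hom)
    y x₀ (Subsingleton.elim _ _)
  have hz1' : (fst G G).left z₀ = y := hz1
  have hz2' : (snd G G).left z₀ = x₀ := hz2
  set w : ↥(G ⊗ G).left := (rho G).left z₀ with hw
  have hw_snd : (snd G G).left w = x₀ := by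
    rw [hw, ← Scheme.Hom.comp_apply, ← Over.comp_left, rho_snd]; exact hz2'
  have hw_mul : (snd G G).left ((sG G).left w) = y := by
    rw [hw, ← Scheme.Hom.comp_apply, ← Scheme.Hom.comp_apply, ← Over.comp_left,
      ← Over.comp_left, rho_sG_snd]
    exact hz1'
  have sq : IsPullback (snd G G).left (Phi φ).left φ.left (snd G X).left :=
    (isPullback_Phi φ).map (Over.forget S)
  haveI : Flat (snd G X).left := (inferInstance : Flat (pullback.snd G.hom X.hom))
  haveI : IsIso (sG G) := ⟨sGinv G, sG_sGinv, sGinv_sG⟩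
  haveI : IsIso (sX act) := ⟨sXinv act, sX_sXinv act hone hmul, sXinv_sX act hone hmul⟩
  haveI : IsIso (sG G).left := inferInstanceAs (IsIso ((Over.forget S).map (sG G)))
  haveI : IsIso (sX act).left := inferInstanceAs (IsIso ((Over.forget S).map (sX act)))
  have hcomm : (sG G).left ≫ (Phi φ).left = (Phi φ).left ≫ (sX act).left := by
    rw [← Over.comp_left, ← Over.comp_left, hφ, comm act hmul s₀]
  -- step 1
  have h1 : ((Phi φ).left.stalkMap w).hom.Flat := by
    rw [Groth.Agent.Lib.FlatPtBCH4.main5223 sq w]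
    exact (Groth.Agent.Lib.UnramLocH4.stalk_congr_point (P := @RingHom.Flat) φ.left hw_snd).mpr hx₀
  -- step 2
  have h2 : ((Phi φ).left.stalkMap ((sG G).left w)).hom.Flat :=
    (Groth.Agent.Lib.UnramLocH4.stalk_transfer (P := @RingHom.Flat) RingHom.Flat.respectsIso
      (sG G).left (Phi φ).left (Phi φ).left (sX act).left hcomm w).mp h1
  -- step 3
  have h3 := (Groth.Agent.Lib.FlatPtBCH4.main5223 sq ((sG G).left w)).mp h2
  exact (Groth.Agent.Lib.UnramLocH4.stalk_congr_point (P := @RingHom.Flat) φ.left hw_mul).mp h3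

theorem subsingleton_spec_of_artinian_local (A : Type u) [CommRing A] [IsArtinianRing A]
    [IsLocalRing A] : Subsingleton ↥(Spec (CommRingCat.of A)) := by
  refine ⟨fun p q => PrimeSpectrum.ext ?_⟩
  haveI := p.2
  haveI := q.2
  rw [IsLocalRing.eq_maximalIdeal (IsArtinianRing.isMaximal_of_isPrime p.asIdeal),
    IsLocalRing.eq_maximalIdeal (IsArtinianRing.isMaximal_of_isPrime q.asIdeal)]

theorem main5347 (A : Type u) [CommRing A] [IsArtinianRing A] [IsLocalRing A]
    (G X : Over (Spec (CommRingCat.of A))) [GrpObj G] [Flat G.hom]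
    (a : AlgGrp.Action G X) (s₀ : 𝟙_ (Over (Spec (CommRingCat.of A))) ⟶ X)
    (h : ∃ g : G.left, ((a.orbitMap s₀).left.stalkMap g).hom.Flat) :
    Flat (a.orbitMap s₀).left := by
  haveI := subsingleton_spec_of_artinian_local A
  exact core G X a.act (fun x => Groth.Agent.Lib.GrpShearH7.act_one a.act a.one_act x)
    (fun g h x => Groth.Agent.Lib.GrpShearH7.act_mul a.act a.mul_act g h x) s₀ h

theorem main5336 (A : Type u) [CommRing A] [IsArtinianRing A] [IsLocalRing A]
    (G H : Over (Spec (CommRingCat.of A))) [GrpObj G] [GrpObj H]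
    [Flat G.hom] (u : G ⟶ H) [IsMonHom u]
    (h : ∃ x : G.left, (u.left.stalkMap x).hom.Flat) : Flat u.left := by
  haveI := subsingleton_spec_of_artinian_local A
  let act : G ⊗ H ⟶ H := lift (fst G H ≫ u) (snd G H) ≫ μ[H]
  have hact : ∀ {T : Over (Spec (CommRingCat.of A))} (g : T ⟶ G) (x : T ⟶ H),
      lift g x ≫ act = (g ≫ u) * x := by
    intro T g x
    show lift g x ≫ lift (fst G H ≫ u) (snd G H) ≫ μ[H] = (g ≫ u) * x
    rw [← Category.assoc, comp_lift, ← Category.assoc, lift_fst, lift_snd, Hom.mul_def]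
  have hone : ∀ {T : Over (Spec (CommRingCat.of A))} (x : T ⟶ H),
      lift (1 : T ⟶ G) x ≫ act = x := by
    intro T x
    rw [hact, MonObj.one_comp, _root_.one_mul]
  have hmul : ∀ {T : Over (Spec (CommRingCat.of A))} (g h : T ⟶ G) (x : T ⟶ H),
      lift (g * h) x ≫ act = lift g (lift h x ≫ act) ≫ act := by
    intro T g h x
    rw [hact, hact, hact, MonObj.mul_comp, _root_.mul_assoc]
  have hu : lift (𝟙 G) (toUnit G ≫ η[H]) ≫ act = u := by
    rw [hact, Category.id_comp, ← Hom.one_def, _root_.mul_one]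
  have := core G H act hone hmul η[H] (by rw [hu]; exact h)
  rwa [hu] at this

end Groth.Agent.Lib.GrpFlatHomH4
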