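import Mathlib

set_option autoImplicit false
set_option linter.style.haveILetI false

universe u

open CategoryTheory CategoryTheory.Limits AlgebraicGeometry MonoidalCategory
  CartesianMonoidalCategory MonObj

namespace Groth.Agent.Lib.GrpLocClosedH4

variable {S : Scheme.{u}}

set_option maxHeartbeats 800000 in
lemma closure_slice_left [IsIntegral S] [Subsingleton S] (X Y : Over S) (a : X.left)
    (B : Set Y.left) (z : ↥(X ⊗ Y).left) (h1 : (fst X Y).left z = a)
    (h2 : (snd X Y).left z ∈ closure B) :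
    z ∈ closure ((fst X Y).left ⁻¹' {a} ∩ (snd X Y).left ⁻¹' B) := by
  let Ka : Over S := Over.mk (X.left.fromSpecResidueField a ≫ X.hom)
  let ca : Ka ⟶ X := Over.homMk (X.left.fromSpecResidueField a) rfl
  let m : Ka ⊗ Y ⟶ X ⊗ Y := ca ⊗ₘ 𝟙 Y
  have hm_fst : m ≫ fst X Y = fst Ka Y ≫ ca := tensorHom_fst _ _
  have hm_snd : m ≫ snd X Y = snd Ka Y := by
    show (ca ⊗ₘ 𝟙 Y) ≫ snd X Y = snd Ka Y
    rw [tensorHom_snd, Category.comp_id]
  have hrange : Set.range m.left = (fst X Y).left ⁻¹' Set.range ca.left ∩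
      (snd X Y).left ⁻¹' Set.range (𝟙 Y : Y ⟶ Y).left :=
    Scheme.Pullback.range_map (f := Ka.hom) (g := Y.hom) X.hom Y.hom ca.left (𝟙 Y : Y ⟶ Y).left
      (𝟙 S) (by simp) (by simp)
  have hz : z ∈ Set.range m.left := by
    rw [hrange]
    refine ⟨?_, ?_⟩
    · show (fst X Y).left z ∈ Set.range (X.left.fromSpecResidueField a)
      rw [Scheme.range_fromSpecResidueField, h1]
      rfl
    · exact ⟨(snd X Y).left z, by simp⟩
  obtain ⟨w, rfl⟩ := hz
  have hsnd_open : IsOpenMap (snd Ka Y).left := by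
    haveI : UniversallyOpen Ka.hom := inferInstance
    haveI : UniversallyOpen (snd Ka Y).left :=
      (inferInstance : UniversallyOpen (pullback.snd Ka.hom Y.hom))
    exact (snd Ka Y).left.isOpenMap
  have e2 : (snd X Y).left (m.left w) = (snd Ka Y).left w := by
    rw [← Scheme.Hom.comp_apply, ← Over.comp_left, hm_snd]
  have hw : w ∈ closure ((snd Ka Y).left ⁻¹' B) := by
    rw [← hsnd_open.preimage_closure_eq_closure_preimage (snd Ka Y).left.continuous]
    show (snd Ka Y).left w ∈ closure B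
    rw [← e2]
    exact h2
  have h3 := image_closure_subset_closure_image m.left.continuous (Set.mem_image_of_mem _ hw)
  refine closure_mono ?_ h3
  rintro _ ⟨w', hw', rfl⟩
  refine ⟨?_, ?_⟩
  · show (fst X Y).left (m.left w') = a
    rw [← Scheme.Hom.comp_apply, ← Over.comp_left, hm_fst, Over.comp_left, Scheme.Hom.comp_apply]
    exact Scheme.fromSpecResidueField_apply _ _
  · show (snd X Y).left (m.left w') ∈ B
    rw [← Scheme.Hom.comp_apply, ← Over.comp_left, hm_snd]
    exact hw'

set_option maxHeartbeats 800000 in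
lemma closure_slice_right [IsIntegral S] [Subsingleton S] (X Y : Over S) (A : Set X.left)
    (b : Y.left) (z : ↥(X ⊗ Y).left) (h1 : (fst X Y).left z ∈ closure A)
    (h2 : (snd X Y).left z = b) :
    z ∈ closure ((fst X Y).left ⁻¹' A ∩ (snd X Y).left ⁻¹' {b}) := by
  let Kb : Over S := Over.mk (Y.left.fromSpecResidueField b ≫ Y.hom)
  let cb : Kb ⟶ Y := Over.homMk (Y.left.fromSpecResidueField b) rfl
  let m : X ⊗ Kb ⟶ X ⊗ Y := 𝟙 X ⊗ₘ cb
  have hm_snd : m ≫ snd X Y = snd X Kb ≫ cb := tensorHom_snd _ _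
  have hm_fst : m ≫ fst X Y = fst X Kb := by
    show (𝟙 X ⊗ₘ cb) ≫ fst X Y = fst X Kb
    rw [tensorHom_fst, Category.comp_id]
  have hrange : Set.range m.left = (fst X Y).left ⁻¹' Set.range (𝟙 X : X ⟶ X).left ∩
      (snd X Y).left ⁻¹' Set.range cb.left :=
    Scheme.Pullback.range_map (f := X.hom) (g := Kb.hom) X.hom Y.hom (𝟙 X : X ⟶ X).left cb.left
      (𝟙 S) (by simp) (by simp)
  have hz : z ∈ Set.range m.left := by
    rw [hrange]
    refine ⟨?_, ?_⟩
    · exact ⟨(fst X Y).left z, by simp⟩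
    · show (snd X Y).left z ∈ Set.range (Y.left.fromSpecResidueField b)
      rw [Scheme.range_fromSpecResidueField, h2]
      rfl
  obtain ⟨w, rfl⟩ := hz
  have hfst_open : IsOpenMap (fst X Kb).left := by
    haveI : UniversallyOpen Kb.hom := inferInstance
    haveI : UniversallyOpen (fst X Kb).left :=
      (inferInstance : UniversallyOpen (pullback.fst X.hom Kb.hom))
    exact (fst X Kb).left.isOpenMap
  have e2 : (fst X Y).left (m.left w) = (fst X Kb).left w := by
    rw [← Scheme.Hom.comp_apply, ← Over.comp_left, hm_fst]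
  have hw : w ∈ closure ((fst X Kb).left ⁻¹' A) := by
    rw [← hfst_open.preimage_closure_eq_closure_preimage (fst X Kb).left.continuous]
    show (fst X Kb).left w ∈ closure A
    rw [← e2]
    exact h1
  have h3 := image_closure_subset_closure_image m.left.continuous (Set.mem_image_of_mem _ hw)
  refine closure_mono ?_ h3
  rintro _ ⟨w', hw', rfl⟩
  refine ⟨?_, ?_⟩
  · show (fst X Y).left (m.left w') ∈ A
    rw [← Scheme.Hom.comp_apply, ← Over.comp_left, hm_fst]
    exact hw'
  · show (snd X Y).left (m.left w') = b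
    rw [← Scheme.Hom.comp_apply, ← Over.comp_left, hm_snd, Over.comp_left, Scheme.Hom.comp_apply]
    exact Scheme.fromSpecResidueField_apply _ _

/-- Over a one-point integral base, the product of closures is contained in the closure of the
product. -/
theorem prod_closure [IsIntegral S] [Subsingleton S] (X Y : Over S) (A : Set X.left)
    (B : Set Y.left) :
    (fst X Y).left ⁻¹' closure A ∩ (snd X Y).left ⁻¹' closure B ⊆
      closure ((fst X Y).left ⁻¹' A ∩ (snd X Y).left ⁻¹' B) := by
  rintro z ⟨hz1, hz2⟩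
  have h2 := closure_slice_right X Y A ((snd X Y).left z) z hz1 rfl
  refine closure_minimal ?_ isClosed_closure h2
  rintro z' ⟨hz'1, hz'2⟩
  have hz'2' : (snd X Y).left z' = (snd X Y).left z := hz'2
  have h1 := closure_slice_left X Y ((fst X Y).left z') B z' rfl (by rw [hz'2']; exact hz2)
  refine closure_mono ?_ h1
  rintro z'' ⟨h1'', h2''⟩
  have h1''' : (fst X Y).left z'' = (fst X Y).left z' := h1''
  exact ⟨by rw [Set.mem_preimage, h1''']; exact hz'1, h2''⟩

section grp

variable (H G : Over S) [GrpObj H] [GrpObj G] (ψ : H ⟶ G) [IsMonHom ψ]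

lemma mul_mem_range (z : ↥(G ⊗ G).left) (h1 : (fst G G).left z ∈ Set.range ψ.left)
    (h2 : (snd G G).left z ∈ Set.range ψ.left) : μ[G].left z ∈ Set.range ψ.left := by
  have hrange : Set.range (ψ ⊗ₘ ψ).left = (fst G G).left ⁻¹' Set.range ψ.left ∩
      (snd G G).left ⁻¹' Set.range ψ.left :=
    Scheme.Pullback.range_map (f := H.hom) (g := H.hom) G.hom G.hom ψ.left ψ.left
      (𝟙 S) (by simp) (by simp)
  have hz : z ∈ Set.range (ψ ⊗ₘ ψ).left := by
    rw [hrange]; exact ⟨h1, h2⟩
  obtain ⟨w, rfl⟩ := hz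
  refine ⟨μ[H].left w, ?_⟩
  rw [← Scheme.Hom.comp_apply, ← Scheme.Hom.comp_apply, ← Over.comp_left, ← Over.comp_left,
    IsMonHom.mul_hom]

lemma inv_mem_range (x : G.left) (h : x ∈ Set.range ψ.left) :
    ι[G].left x ∈ Set.range ψ.left := by
  obtain ⟨w, rfl⟩ := h
  refine ⟨ι[H].left w, ?_⟩
  rw [← Scheme.Hom.comp_apply, ← Scheme.Hom.comp_apply, ← Over.comp_left, ← Over.comp_left,
    GrpObj.inv_hom]

lemma one_mem_range (pt : ↥(𝟙_ (Over S)).left) : η[G].left pt ∈ Set.range ψ.left := by
  refine ⟨η[H].left pt, ?_⟩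
  rw [← Scheme.Hom.comp_apply, ← Over.comp_left, IsMonHom.one_hom]

set_option maxHeartbeats 1600000 in
theorem isClosed_range_of_isLocallyClosed [IsIntegral S] [Subsingleton S]
    (h : IsLocallyClosed (Set.range ψ.left)) : IsClosed (Set.range ψ.left) := by
  set O : Set G.left := Set.range ψ.left with hO
  obtain ⟨U, F, hUo, hFc, hUF⟩ := h
  have hZF : closure O ⊆ F := closure_minimal (by rw [hUF]; exact Set.inter_subset_right) hFc
  have hOU : O ⊆ U := by rw [hUF]; exact Set.inter_subset_left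
  have hZU : closure O ∩ U ⊆ O := by
    rintro x ⟨hx1, hx2⟩
    rw [hUF]; exact ⟨hx2, hZF hx1⟩
  -- Step A
  have hA : ∀ z : ↥(G ⊗ G).left, (fst G G).left z ∈ closure O → (snd G G).left z ∈ closure O →
      μ[G].left z ∈ closure O := by
    intro z hz1 hz2
    have := prod_closure G G O O ⟨hz1, hz2⟩
    refine map_mem_closure μ[G].left.continuous this ?_
    rintro z' ⟨h1', h2'⟩
    exact mul_mem_range H G ψ z' h1' h2'
  -- Step B
  have hB : ∀ x : G.left, x ∈ closure O → ι[G].left x ∈ closure O := by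
    intro x hx
    exact map_mem_closure ι[G].left.continuous hx (fun y hy => inv_mem_range H G ψ y hy)
  rw [← closure_subset_iff_isClosed]
  intro g hg
  let Kobj : Over S := Over.mk (G.left.fromSpecResidueField g ≫ G.hom)
  let c0 : Kobj ⟶ G := Over.homMk (G.left.fromSpecResidueField g) rfl
  let T : Over S := G ⊗ Kobj
  let p : T ⟶ G := fst G Kobj
  let q : T ⟶ Kobj := snd G Kobj
  let cc : T ⟶ G := q ≫ c0
  let θ : T ⟶ G := cc⁻¹ * p
  have hcc : ∀ t : T.left, cc.left t = g := by
    intro t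
    show (q ≫ c0).left t = g
    rw [Over.comp_left, Scheme.Hom.comp_apply]
    exact Scheme.fromSpecResidueField_apply _ _
  have hp_open : IsOpenMap p.left := by
    haveI : UniversallyOpen Kobj.hom := inferInstance
    haveI : UniversallyOpen p.left :=
      (inferInstance : UniversallyOpen (pullback.fst G.hom Kobj.hom))
    exact p.left.isOpenMap
  -- C1
  have hC1 : ∀ t : T.left, p.left t ∈ closure O → θ.left t ∈ closure O := by
    intro t ht
    have e1 : (lift cc⁻¹ p).left ≫ (fst G G).left = cc.left ≫ ι[G].left := by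
      rw [← Over.comp_left, ← Over.comp_left, lift_fst, Hom.inv_def]
    have e2 : (lift cc⁻¹ p).left ≫ (snd G G).left = p.left := by
      rw [← Over.comp_left, lift_snd]
    have e3 : (lift cc⁻¹ p).left ≫ μ[G].left = θ.left := by
      rw [← Over.comp_left, ← Hom.mul_def]
    have := hA ((lift cc⁻¹ p).left t)
      (by rw [← Scheme.Hom.comp_apply, e1, Scheme.Hom.comp_apply, hcc]; exact hB g hg)
      (by rw [← Scheme.Hom.comp_apply, e2]; exact ht)
    rwa [← Scheme.Hom.comp_apply, e3] at this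
  let pt : ↥Kobj.left := IsLocalRing.closedPoint (G.left.residueField g)
  let t₀ : T.left := (lift c0 (𝟙 Kobj)).left pt
  have hpt₀ : p.left t₀ = g := by
    show p.left ((lift c0 (𝟙 Kobj)).left pt) = g
    rw [← Scheme.Hom.comp_apply, ← Over.comp_left, lift_fst]
    exact Scheme.fromSpecResidueField_apply _ _
  have hθt₀ : θ.left t₀ ∈ O := by
    have e : lift c0 (𝟙 Kobj) ≫ θ = toUnit Kobj ≫ η[G] := by
      show lift c0 (𝟙 Kobj) ≫ (cc⁻¹ * p) = toUnit Kobj ≫ η[G]
      rw [MonObj.comp_mul, GrpObj.comp_inv]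
      have e' : lift c0 (𝟙 Kobj) ≫ cc = c0 := by
        show lift c0 (𝟙 Kobj) ≫ q ≫ c0 = c0
        rw [← Category.assoc, lift_snd, Category.id_comp]
      rw [e', lift_fst, inv_mul_cancel, Hom.one_def]
    show θ.left ((lift c0 (𝟙 Kobj)).left pt) ∈ O
    rw [← Scheme.Hom.comp_apply, ← Over.comp_left, e, Over.comp_left, Scheme.Hom.comp_apply]
    exact one_mem_range H G ψ _
  have hC2 : t₀ ∈ closure (p.left ⁻¹' O) := by
    rw [← hp_open.preimage_closure_eq_closure_preimage p.left.continuous]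
    show p.left t₀ ∈ closure O
    rw [hpt₀]; exact hg
  have hBo : IsOpen (θ.left ⁻¹' U) := hUo.preimage θ.left.continuous
  obtain ⟨w, hw1, hw2⟩ := mem_closure_iff.mp hC2 _ hBo (hOU hθt₀)
  have hw1' : θ.left w ∈ U := hw1
  have hw2' : p.left w ∈ O := hw2
  have hθw : θ.left w ∈ O := hZU ⟨hC1 w (subset_closure hw2'), hw1'⟩
  have e1 : (lift p θ⁻¹).left ≫ (fst G G).left = p.left := by rw [← Over.comp_left, lift_fst]
  have e2 : (lift p θ⁻¹).left ≫ (snd G G).left = θ.left ≫ ι[G].left := by
    rw [← Over.comp_left, ← Over.comp_left, lift_snd, Hom.inv_def]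
  have e3 : (lift p θ⁻¹).left ≫ μ[G].left = cc.left := by
    rw [← Over.comp_left, ← Hom.mul_def]
    congr 1
    show p * (cc⁻¹ * p)⁻¹ = cc
    group
  have := mul_mem_range H G ψ ((lift p θ⁻¹).left w)
    (by rw [← Scheme.Hom.comp_apply, e1]; exact hw2')
    (by rw [← Scheme.Hom.comp_apply, e2, Scheme.Hom.comp_apply]; exact inv_mem_range H G ψ _ hθw)
  rwa [← Scheme.Hom.comp_apply, e3, hcc] at this

end grp

theorem main0352 (K : Type u) [Field K] (H G : Over (Spec (CommRingCat.of K))) [GrpObj H]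
    [GrpObj G] (ψ : H ⟶ G) [IsMonHom ψ] (h : IsOpen (Set.range ψ.left)) :
    IsClosed (Set.range ψ.left) := by
  haveI : Subsingleton ↥(Spec (CommRingCat.of K)) :=
    (inferInstance : Subsingleton (PrimeSpectrum K))
  exact isClosed_range_of_isLocallyClosed H G ψ h.isLocallyClosed

theorem main0351 (K : Type u) [Field K] (H G : Over (Spec (CommRingCat.of K))) [GrpObj H]
    [GrpObj G] (i : H ⟶ G) [IsMonHom i] [IsImmersion i.left] : IsClosedImmersion i.left := by
  haveI : Subsingleton ↥(Spec (CommRingCat.of K)) :=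
    (inferInstance : Subsingleton (PrimeSpectrum K))
  exact IsClosedImmersion.of_isPreimmersion i.left
    (isClosed_range_of_isLocallyClosed H G i i.left.isLocallyClosed_range)

end Groth.Agent.Lib.GrpLocClosedH4
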