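import Mathlib
import Groth.Agent.Lib.GrpLocClosed_helper4
import Groth.Agent.Lib.GrpFlatHom_helper4

set_option autoImplicit false
set_option linter.style.haveILetI false

universe u

open CategoryTheory CategoryTheory.Limits AlgebraicGeometry MonoidalCategory
  CartesianMonoidalCategory MonObj

namespace Groth.Agent.Lib.GrpMaxPtH4

lemma exists_maximal_point (X : Type*) [TopologicalSpace X] [QuasiSober X] [Nonempty X] :
    ∃ ξ : X, closure {ξ} ∈ irreducibleComponents X := by
  obtain ⟨t₀⟩ := ‹Nonempty X›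
  obtain ⟨ξ, hξ⟩ := QuasiSober.sober (isIrreducible_irreducibleComponent (x := t₀))
    isClosed_irreducibleComponent
  exact ⟨ξ, by rw [hξ.def]; exact irreducibleComponent_mem_irreducibleComponents t₀⟩

lemma closure_mem_irreducibleComponents_of_generalizing {X Y : Type*} [TopologicalSpace X]
    [TopologicalSpace Y] [QuasiSober Y] {f : X → Y} (hf : Continuous f) (hg : GeneralizingMap f)
    {ξ : X} (h : closure {ξ} ∈ irreducibleComponents X) :
    closure {f ξ} ∈ irreducibleComponents Y := by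
  refine ⟨isIrreducible_singleton.closure, ?_⟩
  intro s hs hle
  obtain ⟨y₀, hy⟩ := QuasiSober.sober hs.closure isClosed_closure
  have h1 : y₀ ⤳ f ξ := by
    rw [specializes_iff_mem_closure, hy.def]
    exact subset_closure (hle (subset_closure rfl))
  obtain ⟨ξ', hξ', rfl⟩ := hg h1
  have h0 : closure {ξ} ⊆ closure {ξ'} :=
    closure_minimal (Set.singleton_subset_iff.2 (specializes_iff_mem_closure.1 hξ'))
      isClosed_closure
  have h2 : closure {ξ'} ⊆ closure {ξ} := h.2 isIrreducible_singleton.closure h0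
  have h3 : ξ' ∈ closure {ξ} := h2 (subset_closure rfl)
  have h4 : f ξ' ∈ closure {f ξ} :=
    map_mem_closure hf h3 (by rintro _ rfl; exact Set.mem_singleton _)
  calc s ⊆ closure s := subset_closure
    _ = closure {f ξ'} := hy.def.symm
    _ ⊆ closure {f ξ} := closure_minimal (Set.singleton_subset_iff.2 h4) isClosed_closure

set_option maxHeartbeats 1600000 in
theorem exists_translation {S : Scheme.{u}} [IsIntegral S] [Subsingleton S] (G : Over S)
    [GrpObj G] (g : G.left) :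
    ∃ (T : Scheme.{u}) (p θ : T ⟶ G.left) (Φ : T ⟶ (G ⊗ G).left),
      Nonempty T ∧ Flat p ∧ Flat θ ∧ Φ ≫ (fst G G).left = p ∧ Φ ≫ (snd G G).left = θ ∧
      ∀ t : T, μ[G].left (Φ t) = g := by
  let Kobj : Over S := Over.mk (G.left.fromSpecResidueField g ≫ G.hom)
  let c0 : Kobj ⟶ G := Over.homMk (G.left.fromSpecResidueField g) rfl
  let T : Over S := G ⊗ Kobj
  let p : T ⟶ G := fst G Kobj
  let q : T ⟶ Kobj := snd G Kobj
  let cc : T ⟶ G := q ≫ c0
  let θ : T ⟶ G := p⁻¹ * cc
  let τ : T ⟶ T := lift θ q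
  let τ' : T ⟶ T := lift (cc * p⁻¹) q
  have hτp : τ ≫ p = θ := lift_fst _ _
  have hτq : τ ≫ q = q := lift_snd _ _
  have hτcc : τ ≫ cc = cc := by
    show τ ≫ q ≫ c0 = q ≫ c0
    rw [← Category.assoc, hτq]
  have hτ'p : τ' ≫ p = cc * p⁻¹ := lift_fst _ _
  have hτ'q : τ' ≫ q = q := lift_snd _ _
  have hτ'cc : τ' ≫ cc = cc := by
    show τ' ≫ q ≫ c0 = q ≫ c0
    rw [← Category.assoc, hτ'q]
  have hττ' : τ ≫ τ' = 𝟙 T := by
    apply CartesianMonoidalCategory.hom_ext
    · rw [Category.assoc, lift_fst, MonObj.comp_mul, GrpObj.comp_inv, hτcc, hτp, Category.id_comp]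
      show cc * (p⁻¹ * cc)⁻¹ = p
      group
    · rw [Category.assoc, lift_snd, hτq, Category.id_comp]
  have hτ'τ : τ' ≫ τ = 𝟙 T := by
    apply CartesianMonoidalCategory.hom_ext
    · rw [Category.assoc, lift_fst, Category.id_comp]
      show τ' ≫ (p⁻¹ * cc) = p
      rw [MonObj.comp_mul, GrpObj.comp_inv, hτ'cc, hτ'p]
      group
    · rw [Category.assoc, lift_snd, hτ'q, Category.id_comp]
  haveI : IsIso τ := ⟨τ', hττ', hτ'τ⟩
  haveI : IsIso τ.left := inferInstanceAs (IsIso ((Over.forget _).map τ))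
  haveI hpflat : Flat p.left := by
    haveI : Flat Kobj.hom := inferInstance
    exact (inferInstance : Flat (pullback.fst G.hom Kobj.hom))
  have hθ : τ.left ≫ p.left = θ.left := by rw [← Over.comp_left, hτp]
  have hθflat : Flat θ.left := by
    rw [← hθ]; infer_instance
  have e1 : (lift p θ).left ≫ (fst G G).left = p.left := by rw [← Over.comp_left, lift_fst]
  have e2 : (lift p θ).left ≫ (snd G G).left = θ.left := by rw [← Over.comp_left, lift_snd]
  have e3 : (lift p θ).left ≫ μ[G].left = q.left ≫ c0.left := by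
    rw [← Over.comp_left, ← Over.comp_left, ← Hom.mul_def]
    congr 1
    show p * (p⁻¹ * cc) = cc
    group
  refine ⟨T.left, p.left, θ.left, (lift p θ).left,
    ⟨(lift c0 (𝟙 Kobj)).left (IsLocalRing.closedPoint (G.left.residueField g))⟩,
    hpflat, hθflat, e1, e2, ?_⟩
  intro t
  rw [← Scheme.Hom.comp_apply, e3, Scheme.Hom.comp_apply]
  exact Scheme.fromSpecResidueField_apply _ _

theorem prod_of_maximal {S : Scheme.{u}} [IsIntegral S] [Subsingleton S] (G : Over S) [GrpObj G]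
    (x : G.left) :
    ∃ z : ↥(G ⊗ G).left, μ[G].left z = x ∧
      closure {(fst G G).left z} ∈ irreducibleComponents ↥G.left ∧
      closure {(snd G G).left z} ∈ irreducibleComponents ↥G.left := by
  obtain ⟨T, p, θ, Φ, hne, hp, hθ, e1, e2, e3⟩ := exists_translation G x
  obtain ⟨ξ, hξ⟩ := exists_maximal_point T
  refine ⟨Φ ξ, e3 ξ, ?_, ?_⟩
  · have : (fst G G).left (Φ ξ) = p ξ := by rw [← Scheme.Hom.comp_apply, e1]
    rw [this]
    exact closure_mem_irreducibleComponents_of_generalizing p.continuous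
      (Flat.generalizingMap p) hξ
  · have : (snd G G).left (Φ ξ) = θ ξ := by rw [← Scheme.Hom.comp_apply, e2]
    rw [this]
    exact closure_mem_irreducibleComponents_of_generalizing θ.continuous
      (Flat.generalizingMap θ) hξ

theorem main5354 (k : Type u) [Field k] (G : Over (Spec (CommRingCat.of k))) [GrpObj G]
    (x : G.left) :
    ∃ z : ↥(G ⊗ G).left, μ[G].left.base z = x ∧
      closure {(fst G G).left.base z} ∈ irreducibleComponents ↥G.left ∧
      closure {(snd G G).left.base z} ∈ irreducibleComponents ↥G.left := by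
  haveI : Subsingleton ↥(Spec (CommRingCat.of k)) :=
    (inferInstance : Subsingleton (PrimeSpectrum k))
  exact prod_of_maximal G x

set_option maxHeartbeats 1600000 in
/-- A quasi-compact dominant morphism hits every maximal point. -/
theorem mem_range_of_maximal {X Y : Scheme.{u}} (f : X ⟶ Y) [QuasiCompact f]
    (hf : DenseRange f) (y₀ : Y) (hy : closure {y₀} ∈ irreducibleComponents Y) :
    y₀ ∈ Set.range f := by
  obtain ⟨V, hV, hyV, -⟩ := exists_isAffineOpen_mem_and_subset (U := ⊤) (x := y₀) (by simp)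
  have hcpt : IsCompact (f ⁻¹ᵁ V : Set X) := f.isCompact_preimage hV.isCompact
  obtain ⟨s, hsfin, hs⟩ :=
    (isCompact_and_isOpen_iff_finite_and_eq_biUnion_affineOpens).mp ⟨hcpt, (f ⁻¹ᵁ V).2⟩
  have h1 : y₀ ∈ closure ((V : Set Y) ∩ Set.range f) :=
    hf.open_subset_closure_inter V.2 hyV
  have h2 : (V : Set Y) ∩ Set.range f ⊆ ⋃ i ∈ s, f '' ((i : X.Opens) : Set X) := by
    rintro _ ⟨hyV, x, rfl⟩
    have hx : x ∈ (f ⁻¹ᵁ V : Set X) := hyV
    rw [hs] at hx
    obtain ⟨i, his, hxi⟩ := Set.mem_iUnion₂.mp hx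
    exact Set.mem_iUnion₂.mpr ⟨i, his, x, hxi, rfl⟩
  have h1' := closure_mono h2 h1
  rw [hsfin.closure_biUnion] at h1'
  obtain ⟨U, hUs, hU⟩ := Set.mem_iUnion₂.mp h1'
  have hUV : (U : X.Opens) ≤ f ⁻¹ᵁ V := by
    intro x hx
    have : x ∈ (f ⁻¹ᵁ V : Set X) := by rw [hs]; exact Set.mem_biUnion hUs hx
    exact this
  have hcomp := IsAffineOpen.SpecMap_appLE_fromSpec f hV U.2 hUV
  set φ := f.appLE V U hUV with hφ
  obtain ⟨y₁, rfl⟩ : y₀ ∈ Set.range hV.fromSpec := by rw [hV.range_fromSpec]; exact hyV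
  have h3 : f '' ((U : X.Opens) : Set X) ⊆ hV.fromSpec '' Set.range (Spec.map φ) := by
    rintro _ ⟨x, hx, rfl⟩
    obtain ⟨x', rfl⟩ : x ∈ Set.range U.2.fromSpec := by rw [U.2.range_fromSpec]; exact hx
    refine ⟨Spec.map φ x', ⟨x', rfl⟩, ?_⟩
    rw [← Scheme.Hom.comp_apply, hcomp, Scheme.Hom.comp_apply]
  have h4 : y₁ ∈ closure (Set.range (Spec.map φ)) := by
    rw [hV.fromSpec.isOpenEmbedding.isInducing.closure_eq_preimage_closure_image]
    exact closure_mono h3 hU
  have h5' : (y₁ : PrimeSpectrum Γ(Y, V)) ∈ closure (Set.range (PrimeSpectrum.comap φ.hom)) := h4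
  rw [PrimeSpectrum.closure_range_comap] at h5'
  have h6 := (PrimeSpectrum.mem_zeroLocus _ _).mp h5'
  have h5 : RingHom.ker φ.hom ≤ y₁.asIdeal := fun a ha => h6 ha
  have hmin : y₁.asIdeal ∈ (RingHom.ker φ.hom).minimalPrimes := by
    refine ⟨⟨y₁.2, h5⟩, ?_⟩
    rintro q ⟨hq, -⟩ hle
    let ζ' : PrimeSpectrum Γ(Y, V) := ⟨q, hq⟩
    have hspec : ζ' ⤳ y₁ := (PrimeSpectrum.le_iff_specializes ζ' y₁).mp hle
    have hspec2 : hV.fromSpec ζ' ⤳ hV.fromSpec y₁ := hspec.map hV.fromSpec.continuous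
    have hcl : closure {hV.fromSpec y₁} ⊆ closure {hV.fromSpec ζ'} :=
      specializes_iff_closure_subset.mp hspec2
    have hcl' := hy.2 isIrreducible_singleton.closure hcl
    have hspec3 : hV.fromSpec y₁ ⤳ hV.fromSpec ζ' := specializes_iff_closure_subset.mpr hcl'
    have hspec4 : y₁ ⤳ ζ' := hV.fromSpec.isOpenEmbedding.isInducing.specializes_iff.mp hspec3
    exact (PrimeSpectrum.le_iff_specializes y₁ ζ').mpr hspec4
  obtain ⟨p', hp', -, hcomap⟩ := Ideal.exists_comap_eq_of_mem_minimalPrimes (I := ⊥) φ.hom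
    y₁.asIdeal (by rw [← RingHom.ker_eq_comap_bot]; exact hmin)
  let x' : ↥(Spec Γ(X, (U : X.Opens))) := ⟨p', hp'⟩
  have hx' : Spec.map φ x' = y₁ := PrimeSpectrum.ext hcomap
  refine ⟨U.2.fromSpec x', ?_⟩
  rw [← Scheme.Hom.comp_apply, ← hcomp, Scheme.Hom.comp_apply, hx']

theorem main5355 (k : Type u) [Field k] (G H : Over (Spec (CommRingCat.of k))) [GrpObj G]
    [GrpObj H] (f : G ⟶ H) [IsMonHom f] [QuasiCompact f.left] (hf : DenseRange f.left.base) :
    Surjective f.left ∧ (IsReduced H.left → Flat f.left) := by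
  haveI : Subsingleton ↥(Spec (CommRingCat.of k)) :=
    (inferInstance : Subsingleton (PrimeSpectrum k))
  have hf' : DenseRange f.left := hf
  refine ⟨⟨fun h => ?_⟩, fun hred => ?_⟩
  · obtain ⟨z, hz, h1, h2⟩ := prod_of_maximal H h
    rw [← hz]
    exact Groth.Agent.Lib.GrpLocClosedH4.mul_mem_range G H f z
      (mem_range_of_maximal f.left hf' _ h1) (mem_range_of_maximal f.left hf' _ h2)
  · haveI : Nonempty H.left := ⟨η[H].left (IsLocalRing.closedPoint k)⟩
    obtain ⟨y₀, hy⟩ := exists_maximal_point H.left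
    obtain ⟨x, rfl⟩ := mem_range_of_maximal f.left hf' y₀ hy
    have hfield := isField_stalk_of_closure_mem_irreducibleComponents H.left (f.left x) hy
    exact Groth.Agent.Lib.GrpFlatHomH4.main5336 k G H f
      ⟨x, RingHom.Flat.of_isField hfield _⟩

end Groth.Agent.Lib.GrpMaxPtH4
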