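import Mathlib
import Groth.Agent.Lib.MaxOpenSub_helper4
import Groth.Agent.Lib.GrpMaxPt_helper4
set_option autoImplicit false
set_option linter.style.haveILetI false

universe v u

open CategoryTheory CategoryTheory.Limits AlgebraicGeometry MonoidalCategory
  CartesianMonoidalCategory MonObj

namespace SchImGrpH4

section abstract

variable {C : Type u} [Category.{v} C] [CartesianMonoidalCategory C]

lemma isPullback_whiskerLeft_snd' (A : C) {X Y : C} (f : X ⟶ Y) :
    IsPullback (snd A X) (A ◁ f) f (snd A Y) := by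
  have w : snd A X ≫ f = (A ◁ f) ≫ snd A Y := (whiskerLeft_snd A f).symm
  refine ⟨⟨w⟩, ⟨PullbackCone.IsLimit.mk w (fun s => lift (s.snd ≫ fst A Y) s.fst) ?_ ?_ ?_⟩⟩
  · intro s
    exact lift_snd _ _
  · intro s
    apply CartesianMonoidalCategory.hom_ext
    · rw [Category.assoc, whiskerLeft_fst, lift_fst]
    · rw [Category.assoc, whiskerLeft_snd, ← Category.assoc, lift_snd, s.condition]
  · intro s m h1 h2
    apply CartesianMonoidalCategory.hom_ext
    · rw [lift_fst, ← h2, Category.assoc, whiskerLeft_fst]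
    · rw [lift_snd, h1]

variable {G K : C} [GrpObj G]

lemma comp_eta {T : C} (x : T ⟶ 𝟙_ C) : x ≫ η[G] = 1 := by
  rw [Hom.one_def, toUnit_unique x (toUnit T)]

lemma key (i : K ⟶ G) (mul' : K ⊗ K ⟶ K) (hm : mul' ≫ i = (i ⊗ₘ i) ≫ μ[G]) {T : C}
    (φ : T ⟶ K ⊗ K) : φ ≫ mul' ≫ i = (φ ≫ fst K K ≫ i) * (φ ≫ snd K K ≫ i) := by
  rw [hm, Hom.mul_def, ← Category.assoc φ]
  congr 1
  apply CartesianMonoidalCategory.hom_ext
  · simp
  · simp

/-- Group object structure on a subobject closed under the group operations. -/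
@[reducible] noncomputable def grpObjOfMono (i : K ⟶ G) [Mono i]
    (one' : 𝟙_ C ⟶ K) (h1 : one' ≫ i = η[G])
    (mul' : K ⊗ K ⟶ K) (hm : mul' ≫ i = (i ⊗ₘ i) ≫ μ[G])
    (inv' : K ⟶ K) (hi : inv' ≫ i = i ≫ ι[G]) : GrpObj K where
  one := one'
  mul := mul'
  inv := inv'
  one_mul := by
    rw [← cancel_mono i]
    simp only [Category.assoc, key i mul' hm, whiskerRight_fst_assoc, whiskerRight_snd_assoc, h1,
      comp_eta, _root_.one_mul, leftUnitor_hom]
  mul_one := by
    rw [← cancel_mono i]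
    simp only [Category.assoc, key i mul' hm, whiskerLeft_fst_assoc, whiskerLeft_snd_assoc, h1,
      comp_eta, _root_.mul_one, rightUnitor_hom]
  mul_assoc := by
    rw [← cancel_mono i]
    simp only [Category.assoc, key i mul' hm, MonObj.comp_mul, whiskerRight_fst_assoc,
      whiskerRight_snd_assoc, whiskerLeft_fst_assoc, whiskerLeft_snd_assoc,
      associator_hom_fst_assoc, associator_hom_snd_fst_assoc, associator_hom_snd_snd_assoc,
      _root_.mul_assoc]
  left_inv := by
    rw [← cancel_mono i]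
    simp only [Category.assoc, key i mul' hm, lift_fst_assoc, lift_snd_assoc, hi,
      Category.id_comp, h1, comp_eta, ← Hom.inv_def, inv_mul_cancel]
  right_inv := by
    rw [← cancel_mono i]
    simp only [Category.assoc, key i mul' hm, lift_fst_assoc, lift_snd_assoc, hi,
      Category.id_comp, h1, comp_eta, ← Hom.inv_def, mul_inv_cancel]

end abstract

section scheme

lemma ker_toImage_eq_bot {X Y : Scheme.{u}} (f : X ⟶ Y) [QuasiCompact f] :
    f.toImage.ker = ⊥ := by
  refine Scheme.IdealSheafData.ext_of_iSup_eq_top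
    (fun U : Y.affineOpens ↦
      (⟨f.imageι ⁻¹ᵁ U.1, U.2.preimage f.imageι⟩ : f.image.affineOpens)) ?_ ?_
  · show ⨆ U : Y.affineOpens, f.imageι ⁻¹ᵁ U.1 = ⊤
    rw [← Scheme.Hom.preimage_iSup, iSup_affineOpens_eq_top, Scheme.Hom.preimage_top]
  · intro U
    rw [Scheme.Hom.ker_apply, Scheme.IdealSheafData.ideal_bot, Pi.bot_apply]
    exact (RingHom.injective_iff_ker_eq_bot _).mp (f.toImage_app_injective U)

variable {S : Scheme.{u}}

set_option maxHeartbeats 1600000 in
theorem main_general (H G : Over S) [GrpObj H] [GrpObj G] (f : H ⟶ G) [IsMonHom f]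
    [QuasiCompact f.left] (hflat : ∀ Z : Over S, Flat Z.hom) :
    ∃ (H' : Over S) (_ : GrpObj H') (i : H' ⟶ G) (f' : H ⟶ H'),
      IsMonHom i ∧ IsMonHom f' ∧ f' ≫ i = f ∧ IsClosedImmersion i.left ∧
      f'.left.ker = ⊥ ∧ QuasiCompact f'.left := by
  let H' : Over S := Over.mk (f.left.imageι ≫ G.hom)
  let i : H' ⟶ G := Over.homMk f.left.imageι rfl
  let f' : H ⟶ H' := Over.homMk f.left.toImage (by
    show f.left.toImage ≫ f.left.imageι ≫ G.hom = H.hom
    rw [Scheme.Hom.toImage_imageι_assoc, Over.w])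
  have hfac : f' ≫ i = f := by
    ext1
    exact f.left.toImage_imageι
  haveI hci : IsClosedImmersion i.left := (inferInstance : IsClosedImmersion f.left.imageι)
  haveI : Mono i.left := inferInstance
  haveI : Mono i := Over.mono_of_mono_left i
  haveI hqc : QuasiCompact f'.left := (inferInstance : QuasiCompact f.left.toImage)
  haveI hsd : IsSchemeTheoreticallyDominant f'.left := ⟨ker_toImage_eq_bot f.left⟩
  have hker_i : i.left.ker = f.left.ker := Scheme.IdealSheafData.ker_subschemeι _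
  haveI hflatfst : ∀ A B : Over S, Flat (fst A B).left := fun A B => by
    haveI := hflat B
    exact (inferInstance : Flat (pullback.fst A.hom B.hom))
  haveI hflatsnd : ∀ A B : Over S, Flat (snd A B).left := fun A B => by
    haveI := hflat A
    exact (inferInstance : Flat (pullback.snd A.hom B.hom))
  haveI hd1 : IsSchemeTheoreticallyDominant (f' ▷ H).left :=
    IsSchemeTheoreticallyDominant.of_isPullback (f := f'.left) (g := (fst H' H).left)
      ((MaxOpenSubH4.isPullback_whiskerRight f' H).map (Over.forget S))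
  haveI hd2 : IsSchemeTheoreticallyDominant (H' ◁ f').left :=
    IsSchemeTheoreticallyDominant.of_isPullback (f := f'.left) (g := (snd H' H').left)
      ((isPullback_whiskerLeft_snd' H' f').map (Over.forget S))
  haveI hd3 : IsSchemeTheoreticallyDominant (f' ⊗ₘ f').left := by
    rw [MonoidalCategory.tensorHom_def, Over.comp_left]
    infer_instance
  -- multiplication
  have hmker : i.left.ker ≤ ((i ⊗ₘ i) ≫ μ[G]).left.ker := by
    have e : (f' ⊗ₘ f') ≫ (i ⊗ₘ i) ≫ μ[G] = μ[H] ≫ f := by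
      rw [tensorHom_comp_tensorHom_assoc, hfac]
      exact (IsMonHom.mul_hom f).symm
    have e' : (f' ⊗ₘ f').left ≫ ((i ⊗ₘ i) ≫ μ[G]).left = μ[H].left ≫ f.left := by
      rw [← Over.comp_left, e, Over.comp_left]
    calc i.left.ker = f.left.ker := hker_i
      _ ≤ (μ[H].left ≫ f.left).ker := Scheme.Hom.le_ker_comp _ _
      _ = ((f' ⊗ₘ f').left ≫ ((i ⊗ₘ i) ≫ μ[G]).left).ker := by rw [e']
      _ = ((i ⊗ₘ i) ≫ μ[G]).left.ker := by
          rw [Scheme.Hom.ker_comp, Scheme.Hom.ker_eq_bot, Scheme.IdealSheafData.map_bot]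
  let mul' : H' ⊗ H' ⟶ H' :=
    Over.homMk (IsClosedImmersion.lift i.left ((i ⊗ₘ i) ≫ μ[G]).left hmker) (by
      show _ ≫ i.left ≫ G.hom = _
      rw [IsClosedImmersion.lift_fac_assoc, Over.w])
  have hm : mul' ≫ i = (i ⊗ₘ i) ≫ μ[G] := by
    ext1
    exact IsClosedImmersion.lift_fac _ _ _
  -- inverse
  have hiker : i.left.ker ≤ (i ≫ ι[G]).left.ker := by
    have e : f' ≫ i ≫ ι[G] = ι[H] ≫ f := by
      rw [reassoc_of% hfac]
      exact (GrpObj.inv_hom f).symm
    have e' : f'.left ≫ (i ≫ ι[G]).left = ι[H].left ≫ f.left := by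
      rw [← Over.comp_left, e, Over.comp_left]
    calc i.left.ker = f.left.ker := hker_i
      _ ≤ (ι[H].left ≫ f.left).ker := Scheme.Hom.le_ker_comp _ _
      _ = (f'.left ≫ (i ≫ ι[G]).left).ker := by rw [e']
      _ = (i ≫ ι[G]).left.ker := by
          rw [Scheme.Hom.ker_comp, Scheme.Hom.ker_eq_bot, Scheme.IdealSheafData.map_bot]
  let inv' : H' ⟶ H' :=
    Over.homMk (IsClosedImmersion.lift i.left (i ≫ ι[G]).left hiker) (by
      show _ ≫ i.left ≫ G.hom = _
      rw [IsClosedImmersion.lift_fac_assoc, Over.w])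
  have hi : inv' ≫ i = i ≫ ι[G] := by
    ext1
    exact IsClosedImmersion.lift_fac _ _ _
  have h1 : (η[H] ≫ f') ≫ i = η[G] := by
    rw [Category.assoc, hfac]
    exact IsMonHom.one_hom f
  letI grp : GrpObj H' := grpObjOfMono i (η[H] ≫ f') h1 mul' hm inv' hi
  have hf'mon : IsMonHom f' := by
    refine ⟨rfl, ?_⟩
    rw [← cancel_mono i, Category.assoc, hfac, Category.assoc]
    show μ[H] ≫ f = (f' ⊗ₘ f') ≫ mul' ≫ i
    rw [hm, tensorHom_comp_tensorHom_assoc, hfac]
    exact IsMonHom.mul_hom f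
  exact ⟨H', grp, i, f', ⟨h1, hm⟩, hf'mon, hfac, hci, ker_toImage_eq_bot f.left, hqc⟩

theorem main3024 (k : Type u) [Field k] (H G : Over (Spec (CommRingCat.of k))) [GrpObj H]
    [GrpObj G] (f : H ⟶ G) [IsMonHom f] [QuasiCompact f.left] :
    ∃ (H' : Over (Spec (CommRingCat.of k))) (_ : GrpObj H') (i : H' ⟶ G) (f' : H ⟶ H'),
      IsMonHom i ∧ IsMonHom f' ∧ f' ≫ i = f ∧ IsClosedImmersion i.left ∧
      f'.left.ker = ⊥ ∧ QuasiCompact f'.left ∧ Surjective f'.left := by
  haveI : Subsingleton ↥(Spec (CommRingCat.of k)) :=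
    (inferInstance : Subsingleton (PrimeSpectrum k))
  obtain ⟨H', grp, i, f', h1, h2, h3, h4, h5, h6⟩ :=
    main_general H G f (fun Z => inferInstance)
  refine ⟨H', grp, i, f', h1, h2, h3, h4, h5, h6, ?_⟩
  haveI := h2
  haveI := h6
  haveI : IsSchemeTheoreticallyDominant f'.left := ⟨h5⟩
  exact (Groth.Agent.Lib.GrpMaxPtH4.main5355 k H H' f' f'.left.denseRange).1

end scheme

end SchImGrpH4
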