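import Groth.Statements.S19703
import Groth.Statements.S11421
import Groth.Agent.Lib.Rigidity_lead
import Groth.Agent.Lib.SchImGrp_helper4
import Groth.Agent.Lib.GrpSepDisc_helper4

/-! # Consequences of the rigidity lemma for anti-affine groups (lead) -/

set_option backward.isDefEq.respectTransparency false
set_option backward.isDefEq.respectTransparency.types false
set_option linter.unusedSimpArgs false
set_option linter.unusedVariables false
set_option linter.unusedSectionVars false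
set_option linter.style.longLine false
set_option linter.style.haveILetI false
set_option maxHeartbeats 800000

universe u

open CategoryTheory CategoryTheory.Limits MonoidalCategory CartesianMonoidalCategory MonObj GrpObj
  AlgebraicGeometry Opposite Topology

namespace Groth.Agent.Lib.Rigidity

open Groth.Agent.Lib.AssocBundle Groth.Agent.Lib.IsogKernel Groth.Agent.Lib.AntiAffine

variable {k : Type u} [Field k]

section Pointed

variable (G H : Over (Spec (CommRingCat.of k))) [GrpObj G] [GrpObj H]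

/-- the obstruction to multiplicativity, on points -/
theorem phi_pt (ψ : G ⟶ H) {T : Over (Spec (CommRingCat.of k))} (a b : T ⟶ G) :
    lift a b ≫ ((fst G G ≫ ψ)⁻¹ * ((fst G G * snd G G) ≫ ψ) * (snd G G ≫ ψ)⁻¹) =
      (a ≫ ψ)⁻¹ * ((a * b) ≫ ψ) * (b ≫ ψ)⁻¹ := by
  have e0 : lift a b ≫ (fst G G * snd G G) = a * b := by
    rw [MonObj.comp_mul, lift_fst, lift_snd]
  have e0' : lift a b ≫ (fst G G * snd G G) ≫ ψ = (a * b) ≫ ψ := by
    rw [← Category.assoc, e0]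
  rw [MonObj.comp_mul, MonObj.comp_mul, GrpObj.comp_inv, GrpObj.comp_inv, lift_fst_assoc,
    lift_snd_assoc, e0']

theorem one_comp' (ψ : G ⟶ H) (hψ : η[G] ≫ ψ = η[H]) (T : Over (Spec (CommRingCat.of k))) :
    (1 : T ⟶ G) ≫ ψ = 1 := by
  rw [Hom.one_def, Category.assoc, hψ, ← Hom.one_def]

/-- a pointed morphism from a smooth anti-affine group to a group scheme is a homomorphism -/
theorem hom_of_pointed [Smooth G.hom] [QuasiCompact G.hom] (hG : AA G) (ψ : G ⟶ H)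
    (hψ : η[G] ≫ ψ = η[H]) : IsMonHom ψ := by
  haveI hsub : Subsingleton ↥(Spec (CommRingCat.of k)) :=
    inferInstanceAs (Subsingleton (PrimeSpectrum k))
  haveI : LocallyOfFiniteType G.hom := inferInstance
  obtain ⟨hc, hq⟩ := qcqs G
  haveI := hc
  haveI := hq
  haveI : IsNoetherianRing (CommRingCat.of k) := inferInstanceAs (IsNoetherianRing k)
  haveI : IsLocallyNoetherian G.left := LocallyOfFiniteType.isLocallyNoetherian G.hom
  haveI : ConnectedSpace G.left := connected_of_aa G hG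
  haveI : IrreducibleSpace G.left := GrpConnIrrH4.main0348 k G
  haveI : IsReduced G.left := Groth.Agent.Lib.GenFlatHom.isReduced_of_smooth G
  haveI : IsSeparated H.hom := GrpSepDiscH4.main5331 (Spec (CommRingCat.of k)) H
  obtain ⟨pt₀⟩ : Nonempty ↥(𝟙_ (Over (Spec (CommRingCat.of k)))).left :=
    (inferInstance : Nonempty (PrimeSpectrum k))
  haveI hsub' : Subsingleton ↥(𝟙_ (Over (Spec (CommRingCat.of k)))).left :=
    (inferInstance : Subsingleton (PrimeSpectrum k))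
  obtain ⟨Φ, hΦ⟩ : ∃ Φ : G ⊗ G ⟶ H,
      Φ = (fst G G ≫ ψ)⁻¹ * ((fst G G * snd G G) ≫ ψ) * (snd G G ≫ ψ)⁻¹ := ⟨_, rfl⟩
  -- `Φ` is trivial on `G × e`
  have ew : G ◁ η[G] = lift (fst G (𝟙_ _)) (snd G (𝟙_ _) ≫ η[G]) := by
    apply CartesianMonoidalCategory.hom_ext
    · rw [whiskerLeft_fst, lift_fst]
    · rw [whiskerLeft_snd, lift_snd]
  have hone : snd G (𝟙_ (Over (Spec (CommRingCat.of k)))) ≫ η[G] =
      (1 : G ⊗ 𝟙_ (Over (Spec (CommRingCat.of k))) ⟶ G) := by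
    rw [Hom.one_def]
    congr 1
    exact toUnit_unique _ _
  have h1 : (G ◁ η[G]) ≫ Φ = 1 := by
    rw [hΦ, ew, phi_pt, hone, _root_.mul_one, one_comp' G H ψ hψ, _root_.inv_one, _root_.mul_one,
      _root_.inv_mul_cancel]
  have hfp : ∀ p, ((G ◁ η[G]) ≫ Φ).left p = (η[H]).left pt₀ := by
    intro p
    rw [h1, Hom.one_def]
    exact congrArg (fun t => (η[H]).left t)
      (Subsingleton.elim ((toUnit (G ⊗ 𝟙_ (Over (Spec (CommRingCat.of k))))).left p) pt₀)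
  have key := rigid_int G G H hG η[G] η[G] Φ ((η[H]).left pt₀) hfp
  have h2 : lift (toUnit G ≫ η[G]) (𝟙 G) ≫ Φ = 1 := by
    rw [hΦ, phi_pt, ← Hom.one_def, _root_.one_mul, one_comp' G H ψ hψ, _root_.inv_one,
      _root_.one_mul, _root_.mul_inv_cancel]
  have h3 : Φ = 1 := by
    rw [key, h2, MonObj.comp_one]
  have h4 : (fst G G ≫ ψ)⁻¹ * ((fst G G * snd G G) ≫ ψ) * (snd G G ≫ ψ)⁻¹ = 1 := by
    rw [← hΦ]; exact h3
  have h5 : (fst G G ≫ ψ)⁻¹ * ((fst G G * snd G G) ≫ ψ) = snd G G ≫ ψ :=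
    _root_.mul_inv_eq_one.mp h4
  have h6 : (fst G G * snd G G) ≫ ψ = (fst G G ≫ ψ) * (snd G G ≫ ψ) :=
    _root_.inv_mul_eq_iff_eq_mul.mp h5
  refine ⟨hψ, ?_⟩
  have e1 : μ[G] = fst G G * snd G G := by
    rw [Hom.mul_def, lift_fst_snd, Category.id_comp]
  have e2 : (ψ ⊗ₘ ψ) ≫ μ[H] = (fst G G ≫ ψ) * (snd G G ≫ ψ) := by
    rw [Hom.mul_def]
    congr 1
  rw [e1, e2]
  exact h6

end Pointed

theorem main19703 (k : Type u) [Field k]
    (G H : Over (Spec (CommRingCat.of k))) [GrpObj G] [Smooth G.hom] [QuasiCompact G.hom]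
    (hG : Function.Bijective ((Scheme.ΓSpecIso (CommRingCat.of k)).inv ≫ G.hom.appTop).hom)
    [GrpObj H] [LocallyOfFiniteType H.hom] [QuasiCompact H.hom] [ConnectedSpace ↥H.left]
    (M : Over (Spec (CommRingCat.of k))) [GrpObj M] [LocallyOfFiniteType M.hom]
    [QuasiCompact M.hom] (j : M ⟶ H) [IsMonHom j] [IsClosedImmersion j.left]
    (hM : Function.Bijective ((Scheme.ΓSpecIso (CommRingCat.of k)).inv ≫ M.hom.appTop).hom)
    (hMmax : ∀ (M₁ : Over (Spec (CommRingCat.of k))) [GrpObj M₁] [LocallyOfFiniteType M₁.hom]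
      [QuasiCompact M₁.hom] (j₁ : M₁ ⟶ H) [IsMonHom j₁] [IsClosedImmersion j₁.left],
      Function.Bijective ((Scheme.ΓSpecIso (CommRingCat.of k)).inv ≫ M₁.hom.appTop).hom →
        ∃ g : M₁ ⟶ M, g ≫ j = j₁)
    (f : G ⟶ H) (hf : η[G] ≫ f = η[H]) :
    ∃ g : G ⟶ M, g ≫ j = f := by
  have hA : AA G := (aa_iff G).mp hG
  haveI : IsMonHom f := hom_of_pointed G H hA f hf
  haveI hsub : Subsingleton ↥(Spec (CommRingCat.of k)) :=
    inferInstanceAs (Subsingleton (PrimeSpectrum k))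
  haveI : IsSeparated H.hom := GrpSepDiscH4.main5331 (Spec (CommRingCat.of k)) H
  haveI : QuasiCompact f.left := qc_left f
  obtain ⟨M₁, grp, i, f', hi, hf', hfac, hci, hker, hqc, hsurj⟩ := SchImGrpH4.main3024 k G H f
  letI : GrpObj M₁ := grp
  haveI : IsMonHom i := hi
  haveI := hci
  haveI := hqc
  haveI : IsSchemeTheoreticallyDominant f'.left := ⟨hker⟩
  haveI : LocallyOfFiniteType M₁.hom := by rw [← Over.w i]; infer_instance
  haveI : QuasiCompact M₁.hom := by rw [← Over.w i]; infer_instance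
  have hM₁ : Function.Bijective
      ((Scheme.ΓSpecIso (CommRingCat.of k)).inv ≫ M₁.hom.appTop).hom := by
    have hinj : Function.Injective f'.left.appTop.hom := f'.left.app_injective ⊤
    have hcomp : ((Scheme.ΓSpecIso (CommRingCat.of k)).inv ≫ M₁.hom.appTop) ≫ f'.left.appTop =
        (Scheme.ΓSpecIso (CommRingCat.of k)).inv ≫ G.hom.appTop := by
      rw [Category.assoc, ← Scheme.Hom.comp_appTop, Over.w f']
    have hcomp' : ∀ a, f'.left.appTop.hom
        (((Scheme.ΓSpecIso (CommRingCat.of k)).inv ≫ M₁.hom.appTop).hom a) =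
        ((Scheme.ΓSpecIso (CommRingCat.of k)).inv ≫ G.hom.appTop).hom a :=
      fun a => congrArg (fun φ => φ.hom a) hcomp
    constructor
    · intro a b hab
      apply hG.1
      rw [← hcomp', ← hcomp', hab]
    · intro y
      obtain ⟨c, hc⟩ := hG.2 (f'.left.appTop.hom y)
      refine ⟨c, hinj ?_⟩
      rw [hcomp', hc]
  obtain ⟨g₁, hg₁⟩ := hMmax M₁ i hM₁
  exact ⟨f' ≫ g₁, by rw [Category.assoc, hg₁, hfac]⟩

theorem main11421 (k : Type u) [Field k] [IsAlgClosed k]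
    (G H S : Over (Spec (CommRingCat.of k))) [GrpObj G] [Smooth G.hom] [QuasiCompact G.hom]
    (hG : Function.Bijective ((Scheme.ΓSpecIso (CommRingCat.of k)).inv ≫ G.hom.appTop).hom)
    [GrpObj H] [Smooth H.hom] [QuasiCompact H.hom] [ConnectedSpace ↥H.left]
    [LocallyOfFiniteType S.hom] [QuasiCompact S.hom] [ConnectedSpace ↥S.left]
    (f : G ⊗ S ⟶ H) :
    ∃ (φ : S ⟶ H) (ψ : G ⟶ H), IsMonHom ψ ∧ f = (snd G S ≫ φ) * (fst G S ≫ ψ) ∧
      ∀ (φ' : S ⟶ H) (ψ' : G ⟶ H), IsMonHom ψ' → f = (snd G S ≫ φ') * (fst G S ≫ ψ') →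
        φ' = φ ∧ ψ' = ψ := by
  have hA : AA G := (aa_iff G).mp hG
  haveI hsub : Subsingleton ↥(Spec (CommRingCat.of k)) :=
    inferInstanceAs (Subsingleton (PrimeSpectrum k))
  haveI : LocallyOfFiniteType G.hom := inferInstance
  obtain ⟨hc, hq⟩ := qcqs G
  haveI := hc
  haveI := hq
  haveI : IsSeparated H.hom := GrpSepDiscH4.main5331 (Spec (CommRingCat.of k)) H
  obtain ⟨pt₀⟩ : Nonempty ↥(𝟙_ (Over (Spec (CommRingCat.of k)))).left :=
    (inferInstance : Nonempty (PrimeSpectrum k))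
  haveI hsub' : Subsingleton ↥(𝟙_ (Over (Spec (CommRingCat.of k)))).left :=
    (inferInstance : Subsingleton (PrimeSpectrum k))
  -- a rational point of `S`
  haveI : CompactSpace S.left := QuasiCompact.compactSpace_of_compactSpace S.hom
  obtain ⟨s₁, -, hs₁⟩ := (isClosed_univ (X := S.left)).exists_closed_singleton Set.univ_nonempty
  obtain ⟨s₀, -⟩ := Groth.Agent.Lib.UUinv.exists_rat S s₁ hs₁
  obtain ⟨sS, hsS⟩ : ∃ sS : S ⟶ G ⊗ S, sS = lift (toUnit S ≫ η[G]) (𝟙 S) := ⟨_, rfl⟩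
  obtain ⟨i₀, hi₀⟩ : ∃ i₀ : G ⟶ G ⊗ S, i₀ = lift (𝟙 G) (toUnit G ≫ s₀) := ⟨_, rfl⟩
  obtain ⟨φ, hφ⟩ : ∃ φ : S ⟶ H, φ = sS ≫ f := ⟨_, rfl⟩
  obtain ⟨ψ, hψ⟩ : ∃ ψ : G ⟶ H, ψ = (toUnit G ≫ s₀ ≫ φ)⁻¹ * (i₀ ≫ f) := ⟨_, rfl⟩
  have ha : s₀ ≫ sS = lift η[G] s₀ := by
    rw [hsS]
    apply CartesianMonoidalCategory.hom_ext
    · rw [Category.assoc, lift_fst, lift_fst, ← Category.assoc, comp_toUnit, toUnit_unit,
        Category.id_comp]
    · rw [Category.assoc, lift_snd, lift_snd, Category.comp_id]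
  have hb : η[G] ≫ i₀ = lift η[G] s₀ := by
    rw [hi₀]
    apply CartesianMonoidalCategory.hom_ext
    · rw [Category.assoc, lift_fst, lift_fst, Category.comp_id]
    · rw [Category.assoc, lift_snd, lift_snd, ← Category.assoc, comp_toUnit, toUnit_unit,
        Category.id_comp]
  have hc1 : η[G] ≫ ψ = η[H] := by
    have e1 : η[G] ≫ toUnit G ≫ s₀ ≫ φ = lift η[G] s₀ ≫ f := by
      rw [← Category.assoc, comp_toUnit, toUnit_unit, Category.id_comp, hφ, ← Category.assoc, ha]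
    have e2 : η[G] ≫ i₀ ≫ f = lift η[G] s₀ ≫ f := by rw [← Category.assoc, hb]
    rw [hψ, MonObj.comp_mul, GrpObj.comp_inv, e1, e2, _root_.inv_mul_cancel, Hom.one_def,
      toUnit_unit, Category.id_comp]
  haveI hmon : IsMonHom ψ := hom_of_pointed G H hA ψ hc1
  obtain ⟨F₂, hF₂⟩ : ∃ F₂ : G ⊗ S ⟶ H, F₂ = (snd G S ≫ φ)⁻¹ * f * (fst G S ≫ ψ)⁻¹ := ⟨_, rfl⟩
  have hw : G ◁ s₀ = fst G (𝟙_ _) ≫ i₀ := by
    rw [hi₀]
    apply CartesianMonoidalCategory.hom_ext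
    · rw [whiskerLeft_fst, Category.assoc, lift_fst, Category.comp_id]
    · rw [whiskerLeft_snd, Category.assoc, lift_snd, ← Category.assoc]
      congr 1
      exact toUnit_unique _ _
  have e3 : (G ◁ s₀) ≫ snd G S ≫ φ = fst G (𝟙_ _) ≫ toUnit G ≫ s₀ ≫ φ := by
    rw [whiskerLeft_snd_assoc, ← Category.assoc (fst G (𝟙_ _))]
    congr 1
    exact toUnit_unique _ _
  have e4 : (G ◁ s₀) ≫ f = fst G (𝟙_ _) ≫ i₀ ≫ f := by rw [hw, Category.assoc]
  have e5 : (G ◁ s₀) ≫ fst G S ≫ ψ = fst G (𝟙_ _) ≫ ψ := by rw [whiskerLeft_fst_assoc]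
  have e6 : fst G (𝟙_ (Over (Spec (CommRingCat.of k)))) ≫ ψ =
      (fst G (𝟙_ _) ≫ toUnit G ≫ s₀ ≫ φ)⁻¹ * (fst G (𝟙_ _) ≫ i₀ ≫ f) := by
    rw [hψ, MonObj.comp_mul, GrpObj.comp_inv]
  have hF : (G ◁ s₀) ≫ F₂ = 1 := by
    rw [hF₂, MonObj.comp_mul, MonObj.comp_mul, GrpObj.comp_inv, GrpObj.comp_inv, e3, e4, e5, e6,
      _root_.mul_inv_cancel]
  have hfp : ∀ p, ((G ◁ s₀) ≫ F₂).left p = (η[H]).left pt₀ := by
    intro p
    rw [hF, Hom.one_def]
    exact congrArg (fun t => (η[H]).left t)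
      (Subsingleton.elim ((toUnit (G ⊗ 𝟙_ (Over (Spec (CommRingCat.of k))))).left p) pt₀)
  have key := rigid_conn G S H hA η[G] s₀ F₂ ((η[H]).left pt₀) hfp
  have e7 : sS ≫ F₂ = 1 := by
    have a1 : sS ≫ snd G S ≫ φ = φ := by
      rw [hsS, lift_snd_assoc, Category.id_comp]
    have a2 : sS ≫ f = φ := hφ.symm
    have a3 : sS ≫ fst G S ≫ ψ = 1 := by
      rw [hsS, lift_fst_assoc, Category.assoc, hc1, ← Hom.one_def]
    rw [hF₂, MonObj.comp_mul, MonObj.comp_mul, GrpObj.comp_inv, GrpObj.comp_inv, a1, a2, a3,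
      _root_.inv_mul_cancel, _root_.inv_one, _root_.mul_one]
  have hF1 : F₂ = 1 := by
    calc F₂ = snd G S ≫ sS ≫ F₂ := by rw [hsS]; exact key
      _ = snd G S ≫ (1 : S ⟶ H) := by rw [e7]
      _ = 1 := MonObj.comp_one _
  have h9 : (snd G S ≫ φ)⁻¹ * f * (fst G S ≫ ψ)⁻¹ = 1 := by rw [← hF₂]; exact hF1
  have h10 : (snd G S ≫ φ)⁻¹ * f = fst G S ≫ ψ := _root_.mul_inv_eq_one.mp h9
  have h11 : f = (snd G S ≫ φ) * (fst G S ≫ ψ) := _root_.inv_mul_eq_iff_eq_mul.mp h10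
  refine ⟨φ, ψ, hmon, h11, ?_⟩
  intro φ' ψ' hψ' hf'
  haveI := hψ'
  have e8 : sS ≫ ((snd G S ≫ φ') * (fst G S ≫ ψ')) = φ' := by
    have b1 : sS ≫ snd G S ≫ φ' = φ' := by
      rw [hsS, lift_snd_assoc, Category.id_comp]
    have b2 : sS ≫ fst G S ≫ ψ' = 1 := by
      rw [hsS, lift_fst_assoc, Category.assoc, IsMonHom.one_hom ψ', ← Hom.one_def]
    rw [MonObj.comp_mul, b1, b2, _root_.mul_one]
  have hφ' : φ' = φ := by
    rw [hφ, hf']
    exact e8.symm
  have e9 : fst G S ≫ ψ' = fst G S ≫ ψ := by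
    have h12 := hf'.symm.trans h11
    rw [hφ'] at h12
    exact mul_left_cancel h12
  have e10 : i₀ ≫ fst G S ≫ ψ' = i₀ ≫ fst G S ≫ ψ := by rw [e9]
  rw [hi₀, lift_fst_assoc, lift_fst_assoc, Category.id_comp, Category.id_comp] at e10
  exact ⟨hφ', e10⟩

end Groth.Agent.Lib.Rigidity
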