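import Groth.Statements.S14578
import Groth.Statements.S3293
import Groth.Statements.S7996
import Groth.Statements.S11404
import Groth.Agent.Lib.Rigidity_lead
import Groth.Agent.Lib.RigidityGrp_lead
import Groth.Agent.Lib.GrpSepDisc_helper4
import Groth.Agent.Lib.AutFix_lead

/-! # The rigidity lemma over an arbitrary field, at closed points (lead)

`X` quasi-compact quasi-separated over a field `k` with `O(X) = k`, `Y` locally noetherian, quasi-compact
and connected, `Z` separated, `f : X × Y ⟶ Z` topologically constant on the fibre of `X × Y → Y` over a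
closed point `y` of `Y`: then `f` factors through the second projection.  Consequences for anti-affine
groups (not necessarily smooth): pointed morphisms are homomorphisms, anti-affine groups are
commutative, and homomorphisms from anti-affine groups to connected groups are central.
-/

set_option backward.isDefEq.respectTransparency false
set_option backward.isDefEq.respectTransparency.types false
set_option linter.unusedSimpArgs false
set_option linter.unusedVariables false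
set_option linter.unusedSectionVars false
set_option linter.style.longLine false
set_option linter.style.haveILetI false
set_option maxHeartbeats 800000

universe u

open CategoryTheory CategoryTheory.Limits MonoidalCategory CartesianMonoidalCategory MonObj GrpObj
  AlgebraicGeometry Opposite Topology

namespace Groth.Agent.Lib.Rigidity

open Groth.Agent.Lib.AssocBundle Groth.Agent.Lib.IsogKernel Groth.Agent.Lib.AntiAffine

theorem spec_quot_comap {R : Type u} [CommRing R] (m : Ideal R) [hm : m.IsMaximal] (n : ℕ)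
    (P : PrimeSpectrum (R ⧸ m ^ (n + 1))) :
    P.asIdeal.comap (Ideal.Quotient.mk (m ^ (n + 1))) = m := by
  haveI hP : (P.asIdeal.comap (Ideal.Quotient.mk (m ^ (n + 1)))).IsPrime :=
    Ideal.comap_isPrime _ _
  have h1 : m ^ (n + 1) ≤ P.asIdeal.comap (Ideal.Quotient.mk (m ^ (n + 1))) := by
    intro x hx
    rw [Ideal.mem_comap, Ideal.Quotient.eq_zero_iff_mem.mpr hx]
    exact zero_mem _
  exact (hm.eq_of_le hP.ne_top (Ideal.IsPrime.le_of_pow_le h1)).symm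

variable {k : Type u} [Field k]

theorem inf_factor2 (X T Z : Over (Spec (CommRingCat.of k))) (hX : AA X)
    [CompactSpace X.left] [QuasiSeparatedSpace X.left] [IsAffine T.left]
    (x₀ : 𝟙_ (Over (Spec (CommRingCat.of k))) ⟶ X)
    (h : X ⊗ T ⟶ Z) (zpt : Z.left) (hc : ∀ p, h.left p = zpt) :
    h = snd X T ≫ lift (toUnit T ≫ x₀) (𝟙 T) ≫ h := by
  haveI : Surjective (𝟙 T : T ⟶ T).left := ⟨fun y => ⟨y, rfl⟩⟩
  refine inf_factor X T T Z hX x₀ (𝟙 T) h zpt (fun p => ?_)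
  rw [MonoidalCategory.whiskerLeft_id, Category.id_comp]
  exact hc p

/-- the affine local step at a closed point -/
theorem local_rigid_aff2 (X Y Z : Over (Spec (CommRingCat.of k))) (hX : AA X) [CompactSpace X.left]
    [QuasiSeparatedSpace X.left] [IsAffine Y.left] [IsNoetherianRing Γ(Y.left, ⊤)]
    [IsSeparated Z.hom] (x₀ : 𝟙_ (Over (Spec (CommRingCat.of k))) ⟶ X)
    (y : Y.left) (hy : IsClosed ({y} : Set Y.left)) (f : X ⊗ Y ⟶ Z) (zpt : Z.left)
    (hf : ∀ p, (snd X Y).left p = y → f.left p = zpt) :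
    ∃ s : Γ(Y.left, ⊤), y ∈ Y.left.basicOpen s ∧
      ∀ (V : Over (Spec (CommRingCat.of k))) (j : V ⟶ Y),
        (∀ v, j.left v ∈ Y.left.basicOpen s) →
        (X ◁ j) ≫ f = (X ◁ j) ≫ snd X Y ≫ lift (toUnit Y ≫ x₀) (𝟙 Y) ≫ f := by
  have hinvhom : ∀ q : ↥(Spec Γ(Y.left, ⊤)), Y.left.isoSpec.hom (Y.left.isoSpec.inv q) = q :=
    fun q => congrArg (fun φ : Spec Γ(Y.left, ⊤) ⟶ Spec Γ(Y.left, ⊤) => φ q)
      Y.left.isoSpec.inv_hom_id
  have hhominv : ∀ q : Y.left, Y.left.isoSpec.inv (Y.left.isoSpec.hom q) = q :=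
    fun q => congrArg (fun φ : Y.left ⟶ Y.left => φ q) Y.left.isoSpec.hom_inv_id
  obtain ⟨P, hP⟩ : ∃ P : PrimeSpectrum Γ(Y.left, ⊤), P = Y.left.isoSpec.hom y := ⟨_, rfl⟩
  have hPcl : IsClosed ({P} : Set (PrimeSpectrum Γ(Y.left, ⊤))) := by
    have h1 : IsClosed (Y.left.isoSpec.inv ⁻¹' ({y} : Set Y.left)) :=
      hy.preimage Y.left.isoSpec.inv.continuous
    have h2 : (Y.left.isoSpec.inv ⁻¹' ({y} : Set Y.left)) = {Y.left.isoSpec.hom y} := by
      ext q
      simp only [Set.mem_preimage, Set.mem_singleton_iff]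
      constructor
      · intro h; rw [← h, hinvhom]
      · intro h; rw [h, hhominv]
    rw [h2] at h1
    rw [hP]; exact h1
  obtain ⟨m, hm⟩ : ∃ m : Ideal Γ(Y.left, ⊤), m = P.asIdeal := ⟨_, rfl⟩
  haveI hmax : m.IsMaximal := by
    rw [hm]; exact (PrimeSpectrum.isClosed_singleton_iff_isMaximal P).mp hPcl
  obtain ⟨s, hs1, hs2⟩ := exists_s m
  have hpt : ∀ (n : ℕ) (q : (TI Y (m ^ (n + 1))).left), (cI Y (m ^ (n + 1))).left q = y := by
    intro n q
    have e1 : (Spec.map (CommRingCat.ofHom (Ideal.Quotient.mk (m ^ (n + 1))))) q =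
        Y.left.isoSpec.hom y := by
      rw [← hP]
      apply PrimeSpectrum.ext
      rw [← hm]
      exact spec_quot_comap m n q
    show Y.left.isoSpec.inv ((Spec.map (CommRingCat.ofHom (Ideal.Quotient.mk (m ^ (n + 1))))) q) = y
    rw [e1, hhominv]
  have hinf : ∀ n : ℕ, (X ◁ cI Y (m ^ (n + 1))) ≫ f =
      (X ◁ cI Y (m ^ (n + 1))) ≫ snd X Y ≫ lift (toUnit Y ≫ x₀) (𝟙 Y) ≫ f := by
    intro n
    have h0 := inf_factor2 X (TI Y (m ^ (n + 1))) Z hX x₀ ((X ◁ cI Y (m ^ (n + 1))) ≫ f) zpt (by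
        intro p
        show f.left ((X ◁ cI Y (m ^ (n + 1))).left p) = zpt
        apply hf
        have e : (snd X Y).left ((X ◁ cI Y (m ^ (n + 1))).left p) =
            (cI Y (m ^ (n + 1))).left ((snd X (TI Y (m ^ (n + 1)))).left p) :=
          congrArg (fun φ => φ.left p) (whiskerLeft_snd X (cI Y (m ^ (n + 1))))
        rw [e]; exact hpt n _)
    calc (X ◁ cI Y (m ^ (n + 1))) ≫ f
        = snd X (TI Y (m ^ (n + 1))) ≫ lift (toUnit (TI Y (m ^ (n + 1))) ≫ x₀) (𝟙 _) ≫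
            (X ◁ cI Y (m ^ (n + 1))) ≫ f := h0
      _ = snd X (TI Y (m ^ (n + 1))) ≫ (cI Y (m ^ (n + 1)) ≫ lift (toUnit Y ≫ x₀) (𝟙 Y)) ≫ f := by
          rw [← Category.assoc (lift (toUnit (TI Y (m ^ (n + 1))) ≫ x₀) (𝟙 _)), sec_nat]
      _ = (X ◁ cI Y (m ^ (n + 1))) ≫ snd X Y ≫ lift (toUnit Y ≫ x₀) (𝟙 Y) ≫ f := by
          rw [Category.assoc, whiskerLeft_snd_assoc]
  refine ⟨s, ?_, fun V j hj => spread X Y Z f _ m hinf s hs2 V j hj⟩
  have hsP : s ∉ P.asIdeal := by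
    intro hs
    have hsm : s ∈ m := by rw [hm]; exact hs
    have h1 : (1 : Γ(Y.left, ⊤)) ∈ m := by
      have := m.sub_mem hsm hs1
      rwa [sub_sub_cancel] at this
    exact hmax.ne_top ((Ideal.eq_top_iff_one m).mpr h1)
  rw [← Scheme.toSpecΓ_preimage_basicOpen]
  show Y.left.toSpecΓ y ∈ PrimeSpectrum.basicOpen s
  rw [PrimeSpectrum.mem_basicOpen]
  have e : Y.left.toSpecΓ y = P := by rw [hP]; rfl
  rw [e]; exact hsP

theorem local_rigid2 (X Y Z : Over (Spec (CommRingCat.of k))) (hX : AA X) [CompactSpace X.left]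
    [QuasiSeparatedSpace X.left] [IsLocallyNoetherian Y.left] [IsSeparated Z.hom]
    (x₀ : 𝟙_ (Over (Spec (CommRingCat.of k))) ⟶ X)
    (y : Y.left) (hy : IsClosed ({y} : Set Y.left)) (f : X ⊗ Y ⟶ Z) (zpt : Z.left)
    (hf : ∀ p, (snd X Y).left p = y → f.left p = zpt) :
    ∃ (V : Over (Spec (CommRingCat.of k))) (j : V ⟶ Y), IsOpenImmersion j.left ∧
      y ∈ Set.range j.left ∧
      (X ◁ j) ≫ f = (X ◁ j) ≫ snd X Y ≫ lift (toUnit Y ≫ x₀) (𝟙 Y) ≫ f := by
  obtain ⟨V₀, hV₀, hyV₀, -⟩ : ∃ V₀ : Y.left.Opens, V₀ ∈ Y.left.affineOpens ∧ y ∈ V₀ ∧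
      V₀ ≤ (⊤ : Y.left.Opens) :=
    (TopologicalSpace.Opens.isBasis_iff_nbhd.mp Y.left.isBasis_affineOpens)
      (TopologicalSpace.Opens.mem_top y)
  haveI : IsAffine (Over.mk (V₀.ι ≫ Y.hom)).left := hV₀
  haveI : IsLocallyNoetherian (Over.mk (V₀.ι ≫ Y.hom)).left :=
    isLocallyNoetherian_of_isOpenImmersion V₀.ι
  haveI : IsNoetherianRing Γ((Over.mk (V₀.ι ≫ Y.hom)).left, ⊤) :=
    IsLocallyNoetherian.component_noetherian ⟨⊤, isAffineOpen_top _⟩
  obtain ⟨j', hj'⟩ : ∃ j' : Over.mk (V₀.ι ≫ Y.hom) ⟶ Y, j' = Over.homMk V₀.ι rfl := ⟨_, rfl⟩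
  have hj'l : j'.left = V₀.ι := by rw [hj']; rfl
  obtain ⟨y', hy'⟩ : ∃ y' : (Over.mk (V₀.ι ≫ Y.hom)).left, j'.left y' = y :=
    ⟨(⟨y, hyV₀⟩ : ↥V₀), by rw [hj'l]; rfl⟩
  have hy'cl : IsClosed ({y'} : Set (Over.mk (V₀.ι ≫ Y.hom)).left) := by
    have h1 : IsClosed (j'.left ⁻¹' ({y} : Set Y.left)) := hy.preimage j'.left.continuous
    have hinj : Function.Injective j'.left := by
      rw [hj'l]; exact V₀.ι.isOpenEmbedding.injective
    have h2 : j'.left ⁻¹' ({y} : Set Y.left) = {y'} := by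
      ext q
      simp only [Set.mem_preimage, Set.mem_singleton_iff]
      constructor
      · intro h; exact hinj (h.trans hy'.symm)
      · intro h; rw [h, hy']
    rw [← h2]; exact h1
  obtain ⟨s, hs0, hs⟩ := local_rigid_aff2 X (Over.mk (V₀.ι ≫ Y.hom)) Z hX x₀ y' hy'cl
    ((X ◁ j') ≫ f) zpt (by
      intro p hp
      show f.left ((X ◁ j').left p) = zpt
      apply hf
      have e : (snd X Y).left ((X ◁ j').left p) = j'.left ((snd X _).left p) :=
        congrArg (fun φ => φ.left p) (whiskerLeft_snd X j')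
      rw [e, hp, hy'])
  obtain ⟨j'', hj''⟩ : ∃ j'' : Over.mk (((Over.mk (V₀.ι ≫ Y.hom)).left.basicOpen s).ι ≫
      (Over.mk (V₀.ι ≫ Y.hom)).hom) ⟶ Over.mk (V₀.ι ≫ Y.hom),
      j'' = Over.homMk ((Over.mk (V₀.ι ≫ Y.hom)).left.basicOpen s).ι rfl := ⟨_, rfl⟩
  have h1 := hs _ j'' (fun v => by rw [hj'']; exact v.2)
  refine ⟨_, j'' ≫ j', ?_, ?_, ?_⟩
  · rw [hj'', hj']
    show IsOpenImmersion (((Over.mk (V₀.ι ≫ Y.hom)).left.basicOpen s).ι ≫ V₀.ι)
    infer_instance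
  · refine ⟨(⟨y', hs0⟩ : ↥((Over.mk (V₀.ι ≫ Y.hom)).left.basicOpen s)), ?_⟩
    show j'.left (j''.left _) = y
    rw [hj'']
    exact hy'
  · calc (X ◁ (j'' ≫ j')) ≫ f = (X ◁ j'') ≫ (X ◁ j') ≫ f := by
          rw [MonoidalCategory.whiskerLeft_comp, Category.assoc]
      _ = (X ◁ j'') ≫ snd X _ ≫ lift (toUnit _ ≫ x₀) (𝟙 _) ≫ (X ◁ j') ≫ f := h1
      _ = (X ◁ j'') ≫ snd X _ ≫ (j' ≫ lift (toUnit Y ≫ x₀) (𝟙 Y)) ≫ f := by
          rw [← Category.assoc (lift (toUnit (Over.mk (V₀.ι ≫ Y.hom)) ≫ x₀) (𝟙 _)), sec_nat]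
      _ = (X ◁ (j'' ≫ j')) ≫ snd X Y ≫ lift (toUnit Y ≫ x₀) (𝟙 Y) ≫ f := by
          simp only [MonoidalCategory.whiskerLeft_comp, Category.assoc, whiskerLeft_snd_assoc]

/-- the rigidity lemma at a closed point of a connected quasi-compact locally noetherian base,
over an arbitrary field -/
theorem rigid_conn2 (X Y Z : Over (Spec (CommRingCat.of k))) (hX : AA X)
    [CompactSpace X.left] [QuasiSeparatedSpace X.left] [IsLocallyNoetherian Y.left]
    [CompactSpace Y.left] [ConnectedSpace ↥Y.left] [IsSeparated Z.hom]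
    (x₀ : 𝟙_ (Over (Spec (CommRingCat.of k))) ⟶ X)
    (y : Y.left) (hy : IsClosed ({y} : Set Y.left)) (f : X ⊗ Y ⟶ Z) (zpt : Z.left)
    (hf : ∀ p, (snd X Y).left p = y → f.left p = zpt) :
    f = snd X Y ≫ lift (toUnit Y ≫ x₀) (𝟙 Y) ≫ f := by
  haveI hsub : Subsingleton ↥(Spec (CommRingCat.of k)) :=
    inferInstanceAs (Subsingleton (PrimeSpectrum k))
  obtain ⟨f', hf'⟩ : ∃ f' : X ⊗ Y ⟶ Z, f' = snd X Y ≫ lift (toUnit Y ≫ x₀) (𝟙 Y) ≫ f :=
    ⟨_, rfl⟩
  rw [← hf']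
  have hopen : IsOpen (good X Y Z f f') := by
    rw [isOpen_iff_forall_mem_open]
    rintro y ⟨V, j, hj, hy, hjf⟩
    haveI := hj
    exact ⟨Set.range j.left, fun y' hy' => ⟨V, j, hj, hy', hjf⟩,
      j.left.isOpenEmbedding.isOpen_range, hy⟩
  have hloc : ∀ (y₁ : Y.left) (z₁ : Z.left), IsClosed ({y₁} : Set Y.left) →
      (∀ p, (snd X Y).left p = y₁ → f.left p = z₁) → y₁ ∈ good X Y Z f f' := by
    intro y₁ z₁ hcl h
    obtain ⟨V, j, hj, hmem, hVf⟩ := local_rigid2 X Y Z hX x₀ y₁ hcl f z₁ h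
    exact ⟨V, j, hj, hmem, by rw [hf']; exact hVf⟩
  have hy₀ : y ∈ good X Y Z f f' := hloc y zpt hy hf
  haveI hci : IsClosedImmersion (equalizer.ι f f').left := inferInstance
  have hEcl : IsClosed (Set.range (equalizer.ι f f').left) :=
    (equalizer.ι f f').left.isClosedEmbedding.isClosed_range
  have hE : ∀ q ∈ Set.range (equalizer.ι f f').left, f.left q = f'.left q := by
    rintro _ ⟨ε, rfl⟩
    exact congrArg (fun φ => φ.left ε) (equalizer.condition f f')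
  have hpre : (snd X Y).left ⁻¹' (good X Y Z f f') ⊆ Set.range (equalizer.ι f f').left := by
    rintro p ⟨V, j, hj, ⟨v, hv⟩, hjf⟩
    have sq : IsPullback (X ◁ j).left (snd X V).left (snd X Y).left j.left :=
      (sq_whisker' (X := X) j).map (Over.forget _)
    obtain ⟨p', hp', -⟩ := Groth.Agent.Lib.ClosedOrbit.exists_of_isPullback sq p v hv.symm
    refine ⟨(equalizer.lift (X ◁ j) hjf).left p', ?_⟩
    have e1 : equalizer.lift (X ◁ j) hjf ≫ equalizer.ι f f' = X ◁ j := equalizer.lift_ι _ _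
    have e2 := congrArg (fun φ => φ.left p') e1
    exact e2.trans hp'
  haveI : UniversallyOpen X.hom := inferInstance
  have hom : IsOpenMap (snd X Y).left := (pullback.snd X.hom Y.hom).isOpenMap
  have hcl : (snd X Y).left ⁻¹' (closure (good X Y Z f f')) ⊆
      Set.range (equalizer.ι f f').left :=
    (hom.preimage_closure_subset_closure_preimage).trans (hEcl.closure_subset_iff.mpr hpre)
  have hclpt : ∀ y₁ : Y.left, IsClosed ({y₁} : Set Y.left) → y₁ ∈ closure (good X Y Z f f') →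
      y₁ ∈ good X Y Z f f' := by
    intro y₁ hy₁ hmem
    refine hloc y₁ ((lift (toUnit Y ≫ x₀) (𝟙 Y) ≫ f).left y₁) hy₁ (fun p hp => ?_)
    have hq : p ∈ Set.range (equalizer.ι f f').left := by
      apply hcl
      show (snd X Y).left p ∈ closure (good X Y Z f f')
      rw [hp]; exact hmem
    have h1 := hE _ hq
    rw [h1, hf']
    show (lift (toUnit Y ≫ x₀) (𝟙 Y) ≫ f).left ((snd X Y).left p) = _
    rw [hp]
  have hclosed : IsClosed (good X Y Z f f') := by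
    rw [← closure_subset_iff_isClosed]
    by_contra hne
    have hne' : (closure (good X Y Z f f') \ good X Y Z f f').Nonempty := by
      rw [Set.not_subset] at hne
      obtain ⟨a, ha1, ha2⟩ := hne
      exact ⟨a, ha1, ha2⟩
    have hcl2 : IsClosed (closure (good X Y Z f f') \ good X Y Z f f') :=
      isClosed_closure.sdiff hopen
    obtain ⟨y₁, ⟨hy1, hy2⟩, hy₁⟩ := hcl2.exists_closed_singleton hne'
    exact hy2 (hclpt y₁ hy₁ hy1)
  have huniv : good X Y Z f f' = Set.univ := IsClopen.eq_univ ⟨hclosed, hopen⟩ ⟨_, hy₀⟩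
  apply Over.OverMorphism.ext
  apply Scheme.hom_ext_of_forall
  intro p
  have hp : (snd X Y).left p ∈ good X Y Z f f' := by rw [huniv]; trivial
  obtain ⟨V, j, hj, ⟨v, hv⟩, hjf⟩ := hp
  haveI := hj
  have sq : IsPullback (X ◁ j).left (snd X V).left (snd X Y).left j.left :=
    (sq_whisker' (X := X) j).map (Over.forget _)
  haveI : IsOpenImmersion (X ◁ j).left :=
    MorphismProperty.of_isPullback (P := @IsOpenImmersion) sq.flip hj
  obtain ⟨p', hp', -⟩ := Groth.Agent.Lib.ClosedOrbit.exists_of_isPullback sq p v hv.symm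
  refine ⟨(X ◁ j).left.opensRange, ⟨p', hp'⟩, ?_⟩
  rw [← Scheme.Hom.isoOpensRange_inv_comp, Category.assoc, Category.assoc, ← Over.comp_left,
    ← Over.comp_left, hjf]

/-- rational points of a scheme over a field are closed -/
theorem rat_closed (Y : Over (Spec (CommRingCat.of k)))
    (y₀ : 𝟙_ (Over (Spec (CommRingCat.of k))) ⟶ Y)
    (pt₀ : ↥(𝟙_ (Over (Spec (CommRingCat.of k)))).left) :
    IsClosed ({y₀.left pt₀} : Set Y.left) := by
  haveI hsub : Subsingleton ↥(Spec (CommRingCat.of k)) :=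
    inferInstanceAs (Subsingleton (PrimeSpectrum k))
  haveI hsub' : Subsingleton ↥(𝟙_ (Over (Spec (CommRingCat.of k)))).left :=
    (inferInstance : Subsingleton (PrimeSpectrum k))
  have hw : (y₀.left : Spec (CommRingCat.of k) ⟶ Y.left) ≫ Y.hom =
      𝟙 (Spec (CommRingCat.of k)) := Over.w y₀
  haveI : IsClosedImmersion (y₀.left : Spec (CommRingCat.of k) ⟶ Y.left) :=
    GrpSepDiscH4.isClosedImmersion_of_section_of_discrete Y.hom _ hw
  have h1 : IsClosed (Set.range (y₀.left : Spec (CommRingCat.of k) ⟶ Y.left)) :=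
    (y₀.left : Spec (CommRingCat.of k) ⟶ Y.left).isClosedEmbedding.isClosed_range
  have h2 : Set.range (y₀.left : Spec (CommRingCat.of k) ⟶ Y.left) = {y₀.left pt₀} := by
    ext q
    constructor
    · rintro ⟨t, rfl⟩
      rw [Subsingleton.elim t pt₀]
      rfl
    · intro h
      exact ⟨pt₀, h.symm⟩
  rw [← h2]; exact h1

/-- the rigidity lemma at a rational point, arbitrary field -/
theorem rigid_rat (X Y Z : Over (Spec (CommRingCat.of k))) (hX : AA X)
    [CompactSpace X.left] [QuasiSeparatedSpace X.left] [IsLocallyNoetherian Y.left]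
    [CompactSpace Y.left] [ConnectedSpace ↥Y.left] [IsSeparated Z.hom]
    (x₀ : 𝟙_ (Over (Spec (CommRingCat.of k))) ⟶ X)
    (y₀ : 𝟙_ (Over (Spec (CommRingCat.of k))) ⟶ Y) (f : X ⊗ Y ⟶ Z) (zpt : Z.left)
    (hf : ∀ p, ((X ◁ y₀) ≫ f).left p = zpt) :
    f = snd X Y ≫ lift (toUnit Y ≫ x₀) (𝟙 Y) ≫ f := by
  obtain ⟨pt₀⟩ : Nonempty ↥(𝟙_ (Over (Spec (CommRingCat.of k)))).left :=
    (inferInstance : Nonempty (PrimeSpectrum k))
  refine rigid_conn2 X Y Z hX x₀ (y₀.left pt₀) (rat_closed Y y₀ pt₀) f zpt (fun p hp => ?_)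
  have sq : IsPullback (X ◁ y₀).left (snd X (𝟙_ _)).left (snd X Y).left y₀.left :=
    (sq_whisker' (X := X) y₀).map (Over.forget _)
  obtain ⟨p', hp', -⟩ := Groth.Agent.Lib.ClosedOrbit.exists_of_isPullback sq p pt₀ hp
  rw [← hp']
  exact hf p'

section Grp

variable (H G : Over (Spec (CommRingCat.of k))) [GrpObj H] [GrpObj G]

/-- a pointed morphism from an anti-affine group of finite type to a group scheme is a
homomorphism -/
theorem hom_of_pointed2 [LocallyOfFiniteType H.hom] [QuasiCompact H.hom] (hH : AA H) (ψ : H ⟶ G)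
    (hψ : η[H] ≫ ψ = η[G]) : IsMonHom ψ := by
  haveI hsub : Subsingleton ↥(Spec (CommRingCat.of k)) :=
    inferInstanceAs (Subsingleton (PrimeSpectrum k))
  obtain ⟨hc, hq⟩ := qcqs H
  haveI := hc
  haveI := hq
  haveI : IsNoetherianRing (CommRingCat.of k) := inferInstanceAs (IsNoetherianRing k)
  haveI : IsLocallyNoetherian H.left := LocallyOfFiniteType.isLocallyNoetherian H.hom
  haveI : ConnectedSpace H.left := connected_of_aa H hH
  haveI : IsSeparated G.hom := GrpSepDiscH4.main5331 (Spec (CommRingCat.of k)) G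
  obtain ⟨pt₀⟩ : Nonempty ↥(𝟙_ (Over (Spec (CommRingCat.of k)))).left :=
    (inferInstance : Nonempty (PrimeSpectrum k))
  haveI hsub' : Subsingleton ↥(𝟙_ (Over (Spec (CommRingCat.of k)))).left :=
    (inferInstance : Subsingleton (PrimeSpectrum k))
  obtain ⟨Φ, hΦ⟩ : ∃ Φ : H ⊗ H ⟶ G,
      Φ = (fst H H ≫ ψ)⁻¹ * ((fst H H * snd H H) ≫ ψ) * (snd H H ≫ ψ)⁻¹ := ⟨_, rfl⟩
  have ew : H ◁ η[H] = lift (fst H (𝟙_ _)) (snd H (𝟙_ _) ≫ η[H]) := by
    apply CartesianMonoidalCategory.hom_ext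
    · rw [whiskerLeft_fst, lift_fst]
    · rw [whiskerLeft_snd, lift_snd]
  have hone : snd H (𝟙_ (Over (Spec (CommRingCat.of k)))) ≫ η[H] =
      (1 : H ⊗ 𝟙_ (Over (Spec (CommRingCat.of k))) ⟶ H) := by
    rw [Hom.one_def]
    congr 1
    exact toUnit_unique _ _
  have h1 : (H ◁ η[H]) ≫ Φ = 1 := by
    rw [hΦ, ew, phi_pt, hone, _root_.mul_one, one_comp' H G ψ hψ, _root_.inv_one, _root_.mul_one,
      _root_.inv_mul_cancel]
  have hfp : ∀ p, ((H ◁ η[H]) ≫ Φ).left p = (η[G]).left pt₀ := by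
    intro p
    rw [h1, Hom.one_def]
    exact congrArg (fun t => (η[G]).left t)
      (Subsingleton.elim ((toUnit (H ⊗ 𝟙_ (Over (Spec (CommRingCat.of k))))).left p) pt₀)
  have key := rigid_rat H H G hH η[H] η[H] Φ ((η[G]).left pt₀) hfp
  have h2 : lift (toUnit H ≫ η[H]) (𝟙 H) ≫ Φ = 1 := by
    rw [hΦ, phi_pt, ← Hom.one_def, _root_.one_mul, one_comp' H G ψ hψ, _root_.inv_one,
      _root_.one_mul, _root_.mul_inv_cancel]
  have h3 : Φ = 1 := by
    rw [key, h2, MonObj.comp_one]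
  have h4 : (fst H H ≫ ψ)⁻¹ * ((fst H H * snd H H) ≫ ψ) * (snd H H ≫ ψ)⁻¹ = 1 := by
    rw [← hΦ]; exact h3
  have h5 : (fst H H ≫ ψ)⁻¹ * ((fst H H * snd H H) ≫ ψ) = snd H H ≫ ψ :=
    _root_.mul_inv_eq_one.mp h4
  have h6 : (fst H H * snd H H) ≫ ψ = (fst H H ≫ ψ) * (snd H H ≫ ψ) :=
    _root_.inv_mul_eq_iff_eq_mul.mp h5
  refine ⟨hψ, ?_⟩
  have e1 : μ[H] = fst H H * snd H H := by
    rw [Hom.mul_def, lift_fst_snd, Category.id_comp]
  have e2 : (ψ ⊗ₘ ψ) ≫ μ[G] = (fst H H ≫ ψ) * (snd H H ≫ ψ) := by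
    rw [Hom.mul_def]
    congr 1
  rw [e1, e2]
  exact h6

/-- the commutator of `φ(h)` and `g`, on points -/
theorem comm2_pt (φ : H ⟶ G) {T : Over (Spec (CommRingCat.of k))} (a : T ⟶ H) (b : T ⟶ G) :
    lift a b ≫ ((fst H G ≫ φ) * snd H G * (fst H G ≫ φ)⁻¹ * (snd H G)⁻¹) =
      (a ≫ φ) * b * (a ≫ φ)⁻¹ * b⁻¹ := by
  rw [MonObj.comp_mul, MonObj.comp_mul, MonObj.comp_mul, GrpObj.comp_inv, GrpObj.comp_inv,
    lift_fst_assoc, lift_snd]

/-- a homomorphism from an anti-affine group to a connected group of finite type is central -/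
theorem central [LocallyOfFiniteType H.hom] [QuasiCompact H.hom] [LocallyOfFiniteType G.hom]
    [QuasiCompact G.hom] [ConnectedSpace G.left] (hH : AA H) (φ : H ⟶ G) [IsMonHom φ] :
    (fst H G ≫ φ) * snd H G = snd H G * (fst H G ≫ φ) := by
  haveI hsub : Subsingleton ↥(Spec (CommRingCat.of k)) :=
    inferInstanceAs (Subsingleton (PrimeSpectrum k))
  obtain ⟨hc, hq⟩ := qcqs H
  haveI := hc
  haveI := hq
  obtain ⟨hc', hq'⟩ := qcqs G
  haveI := hc'
  haveI : IsNoetherianRing (CommRingCat.of k) := inferInstanceAs (IsNoetherianRing k)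
  haveI : IsLocallyNoetherian G.left := LocallyOfFiniteType.isLocallyNoetherian G.hom
  haveI : IsSeparated G.hom := GrpSepDiscH4.main5331 (Spec (CommRingCat.of k)) G
  obtain ⟨pt₀⟩ : Nonempty ↥(𝟙_ (Over (Spec (CommRingCat.of k)))).left :=
    (inferInstance : Nonempty (PrimeSpectrum k))
  haveI hsub' : Subsingleton ↥(𝟙_ (Over (Spec (CommRingCat.of k)))).left :=
    (inferInstance : Subsingleton (PrimeSpectrum k))
  obtain ⟨c, hc0⟩ : ∃ c : H ⊗ G ⟶ G,
      c = (fst H G ≫ φ) * snd H G * (fst H G ≫ φ)⁻¹ * (snd H G)⁻¹ := ⟨_, rfl⟩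
  have ew : H ◁ η[G] = lift (fst H (𝟙_ _)) (snd H (𝟙_ _) ≫ η[G]) := by
    apply CartesianMonoidalCategory.hom_ext
    · rw [whiskerLeft_fst, lift_fst]
    · rw [whiskerLeft_snd, lift_snd]
  have hone : snd H (𝟙_ (Over (Spec (CommRingCat.of k)))) ≫ η[G] =
      (1 : H ⊗ 𝟙_ (Over (Spec (CommRingCat.of k))) ⟶ G) := by
    rw [Hom.one_def]
    congr 1
    exact toUnit_unique _ _
  have h1 : (H ◁ η[G]) ≫ c = 1 := by
    rw [hc0, ew, comm2_pt, hone, _root_.mul_one, _root_.inv_one, _root_.mul_one,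
      _root_.mul_inv_cancel]
  have hfp : ∀ p, ((H ◁ η[G]) ≫ c).left p = (η[G]).left pt₀ := by
    intro p
    rw [h1, Hom.one_def]
    exact congrArg (fun t => (η[G]).left t)
      (Subsingleton.elim ((toUnit (H ⊗ 𝟙_ (Over (Spec (CommRingCat.of k))))).left p) pt₀)
  have key := rigid_rat H G G hH η[H] η[G] c ((η[G]).left pt₀) hfp
  have h2 : lift (toUnit G ≫ η[H]) (𝟙 G) ≫ c = 1 := by
    rw [hc0, comm2_pt, ← Hom.one_def, one_comp' H G φ (IsMonHom.one_hom φ), _root_.one_mul,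
      _root_.inv_one, _root_.mul_one, _root_.mul_inv_cancel]
  have h3 : c = 1 := by
    rw [key, h2, MonObj.comp_one]
  have h4 : (fst H G ≫ φ) * snd H G * (fst H G ≫ φ)⁻¹ * (snd H G)⁻¹ = 1 := by
    rw [← hc0]; exact h3
  have h5 : (fst H G ≫ φ) * snd H G * (fst H G ≫ φ)⁻¹ = snd H G := _root_.mul_inv_eq_one.mp h4
  exact _root_.mul_inv_eq_iff_eq_mul.mp h5

end Grp

theorem main14578 (k : Type u) [Field k]
    (H G : Over (Spec (CommRingCat.of k))) [GrpObj H] [GrpObj G] [LocallyOfFiniteType H.hom]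
    [QuasiCompact H.hom] [LocallyOfFiniteType G.hom] [QuasiCompact G.hom]
    (hH : Function.Bijective ((Scheme.ΓSpecIso (CommRingCat.of k)).inv ≫ H.hom.appTop).hom)
    (f : H ⟶ G) (hf : η[H] ≫ f = η[G]) : IsMonHom f :=
  hom_of_pointed2 H G ((aa_iff H).mp hH) f hf

theorem main3293 (k : Type u) [Field k]
    (G : Over (Spec (CommRingCat.of k))) [GrpObj G] [LocallyOfFiniteType G.hom] [QuasiCompact G.hom]
    (hO : Function.Bijective ((Scheme.ΓSpecIso (CommRingCat.of k)).inv ≫ G.hom.appTop).hom) :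
    ConnectedSpace G.left ∧ IsCommMonObj G := by
  have hA : AA G := (aa_iff G).mp hO
  haveI hconn : ConnectedSpace G.left := connected_of_aa G hA
  refine ⟨hconn, ?_⟩
  have hcomm := central G G hA (𝟙 G)
  rw [Category.comp_id] at hcomm
  have e1 : μ[G] = fst G G * snd G G := by
    rw [Hom.mul_def, lift_fst_snd, Category.id_comp]
  refine ⟨?_⟩
  rw [e1, MonObj.comp_mul, braiding_hom_fst, braiding_hom_snd]
  exact hcomm.symm

theorem main7996 (k : Type u) [Field k]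
    (H G : Over (Spec (CommRingCat.of k))) [GrpObj H] [GrpObj G]
    [LocallyOfFiniteType H.hom] [QuasiCompact H.hom] [LocallyOfFiniteType G.hom] [QuasiCompact G.hom]
    [ConnectedSpace G.left]
    (hO : Function.Bijective ((Scheme.ΓSpecIso (CommRingCat.of k)).inv ≫ H.hom.appTop).hom)
    (φ : H ⟶ G) [IsMonHom φ] (X : Over (Spec (CommRingCat.of k))) (h : X ⟶ H)
    (X' : Over (Spec (CommRingCat.of k))) (x : X' ⟶ X) (g : X' ⟶ G) :
    (x ≫ h ≫ φ) * g = g * (x ≫ h ≫ φ) := by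
  have hA : AA H := (aa_iff H).mp hO
  have hcomm := central H G hA φ
  have h1 : lift (x ≫ h) g ≫ ((fst H G ≫ φ) * snd H G) =
      lift (x ≫ h) g ≫ (snd H G * (fst H G ≫ φ)) := by rw [hcomm]
  rw [MonObj.comp_mul, MonObj.comp_mul, lift_fst_assoc, lift_snd, Category.assoc] at h1
  exact h1

section Aut

variable (A S : Over (Spec (CommRingCat.of k))) [GrpObj A]

theorem comp_aux (f₁ f₂ : A ⊗ S ⟶ A ⊗ S) (hf₁ : f₁ ≫ snd A S = snd A S)
    (h12 : f₁ ≫ f₂ = 𝟙 _) (g₁ g₂ : S ⟶ A) (h₁ h₂ : A ⟶ A) [IsMonHom h₁] [IsMonHom h₂]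
    (e₁ : f₁ ≫ fst A S = (snd A S ≫ g₁) * (fst A S ≫ h₁))
    (e₂ : f₂ ≫ fst A S = (snd A S ≫ g₂) * (fst A S ≫ h₂))
    (s₀ : 𝟙_ (Over (Spec (CommRingCat.of k))) ⟶ S) : h₁ ≫ h₂ = 𝟙 A := by
  have E1 : fst A S = (snd A S ≫ g₂) * ((snd A S ≫ g₁ ≫ h₂) * (fst A S ≫ h₁ ≫ h₂)) := by
    have h0 : f₁ ≫ f₂ ≫ fst A S = fst A S := by rw [← Category.assoc, h12, Category.id_comp]
    rw [e₂, MonObj.comp_mul, ← Category.assoc f₁ (snd A S), hf₁, ← Category.assoc f₁ (fst A S), e₁,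
      MonObj.mul_comp] at h0
    simp only [Category.assoc] at h0
    exact h0.symm
  obtain ⟨sS, hsS⟩ : ∃ sS : S ⟶ A ⊗ S, sS = lift (toUnit S ≫ η[A]) (𝟙 S) := ⟨_, rfl⟩
  have a1 : sS ≫ fst A S = 1 := by rw [hsS, lift_fst, ← Hom.one_def]
  have a2 : sS ≫ snd A S = 𝟙 S := by rw [hsS, lift_snd]
  have b1 : sS ≫ snd A S ≫ g₂ = g₂ := by rw [← Category.assoc, a2, Category.id_comp]
  have b2 : sS ≫ snd A S ≫ g₁ ≫ h₂ = g₁ ≫ h₂ := by rw [← Category.assoc, a2, Category.id_comp]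
  have b3 : sS ≫ fst A S ≫ h₁ ≫ h₂ = 1 := by
    rw [← Category.assoc, a1, ← Category.assoc, one_comp' A A h₁ (IsMonHom.one_hom h₁),
      one_comp' A A h₂ (IsMonHom.one_hom h₂)]
  have E2 : (1 : S ⟶ A) = g₂ * (g₁ ≫ h₂) := by
    have h0 : sS ≫ fst A S =
        sS ≫ ((snd A S ≫ g₂) * ((snd A S ≫ g₁ ≫ h₂) * (fst A S ≫ h₁ ≫ h₂))) :=
      congrArg (fun t => sS ≫ t) E1
    rw [a1, MonObj.comp_mul, MonObj.comp_mul, b1, b2, b3, _root_.mul_one] at h0
    exact h0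
  have E3 : (snd A S ≫ g₂) * (snd A S ≫ g₁ ≫ h₂) = 1 := by
    rw [← MonObj.comp_mul, ← E2, MonObj.comp_one]
  have E4 : fst A S = fst A S ≫ h₁ ≫ h₂ := by
    rw [← _root_.mul_assoc, E3, _root_.one_mul] at E1
    exact E1
  have E5 : lift (𝟙 A) (toUnit A ≫ s₀) ≫ fst A S =
      lift (𝟙 A) (toUnit A ≫ s₀) ≫ fst A S ≫ h₁ ≫ h₂ :=
    congrArg (fun t => lift (𝟙 A) (toUnit A ≫ s₀) ≫ t) E4
  rw [lift_fst_assoc, lift_fst, Category.id_comp] at E5
  exact E5.symm

end Aut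

theorem main11404 (k : Type u) [Field k] [IsAlgClosed k]
    (A S : Over (Spec (CommRingCat.of k))) [GrpObj A] [IsProper A.hom] [Smooth A.hom]
    [ConnectedSpace ↥A.left]
    [LocallyOfFiniteType S.hom] [QuasiCompact S.hom] [ConnectedSpace ↥S.left]
    (f : A ⊗ S ≅ A ⊗ S) (hf : f.hom ≫ snd A S = snd A S) :
    ∃ (g : S ⟶ A) (h : A ⟶ A), IsMonHom h ∧ IsIso h ∧
      f.hom ≫ fst A S = (snd A S ≫ g) * (fst A S ≫ h) ∧
      ∀ (g' : S ⟶ A) (h' : A ⟶ A), IsMonHom h' →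
        f.hom ≫ fst A S = (snd A S ≫ g') * (fst A S ≫ h') → g' = g ∧ h' = h := by
  haveI : IrreducibleSpace A.left := GrpConnIrrH4.main0348 k A
  haveI : IsReduced A.left := Groth.Agent.Lib.GenFlatHom.isReduced_of_smooth A
  haveI : IsIntegral A.left := isIntegral_of_irreducibleSpace_of_isReduced A.left
  have hAA : AA A := Groth.Agent.Lib.AutFix.aa_of_proper A
  have hbij := (aa_iff A).mpr hAA
  haveI : CompactSpace S.left := QuasiCompact.compactSpace_of_compactSpace S.hom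
  obtain ⟨s₁, -, hs₁⟩ := (isClosed_univ (X := S.left)).exists_closed_singleton Set.univ_nonempty
  obtain ⟨s₀, -⟩ := Groth.Agent.Lib.UUinv.exists_rat S s₁ hs₁
  have hf' : f.inv ≫ snd A S = snd A S := by
    calc f.inv ≫ snd A S = f.inv ≫ f.hom ≫ snd A S := by rw [hf]
      _ = snd A S := by rw [← Category.assoc, Iso.inv_hom_id, Category.id_comp]
  obtain ⟨g, h, hmon, hfh, huniq⟩ := main11421 k A A S hbij (f.hom ≫ fst A S)
  obtain ⟨g', h', hmon', hfh', -⟩ := main11421 k A A S hbij (f.inv ≫ fst A S)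
  haveI := hmon
  haveI := hmon'
  have c1 : h ≫ h' = 𝟙 A := comp_aux A S f.hom f.inv hf f.hom_inv_id g g' h h' hfh hfh' s₀
  have c2 : h' ≫ h = 𝟙 A := comp_aux A S f.inv f.hom hf' f.inv_hom_id g' g h' h hfh' hfh s₀
  exact ⟨g, h, hmon, ⟨⟨h', c1, c2⟩⟩, hfh, huniq⟩

end Groth.Agent.Lib.Rigidity
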