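import Groth.Statements.S11893
import Groth.Statements.S8118
import Groth.Statements.S14826
import Groth.Agent.Lib.Rigidity2_lead

/-! # Rigidity for abelian varieties over arbitrary fields (lead) -/

set_option backward.isDefEq.respectTransparency false
set_option backward.isDefEq.respectTransparency.types false
set_option linter.unusedSimpArgs false
set_option linter.unusedVariables false
set_option linter.unusedSectionVars false
set_option linter.style.longLine false
set_option linter.style.haveILetI false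
set_option maxHeartbeats 800000

universe u

open CategoryTheory CategoryTheory.Limits MonoidalCategory CartesianMonoidalCategory MonObj GrpObj
  AlgebraicGeometry Opposite Topology

namespace Groth.Agent.Lib.Rigidity

open Groth.Agent.Lib.AssocBundle Groth.Agent.Lib.IsogKernel Groth.Agent.Lib.AntiAffine

variable {k : Type u} [Field k]

/-- a proper integral scheme over a field with a rational point has only constant functions -/
theorem aa_of_proper_rat (Q : Over (Spec (CommRingCat.of k))) [IsProper Q.hom]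
    [IsIntegral Q.left] (q₀ : 𝟙_ (Over (Spec (CommRingCat.of k))) ⟶ Q) : AA Q := by
  rw [← aa_iff]
  let F : k →+* Γ(Q.left, ⊤) := ((Scheme.ΓSpecIso (CommRingCat.of k)).inv ≫ Q.hom.appTop).hom
  have hint : F.IsIntegral := by
    apply RingHom.isIntegral_respectsIso.2
      (e := (Scheme.ΓSpecIso (CommRingCat.of k)).symm.commRingCatIsoToRingEquiv)
    exact isIntegral_appTop_of_universallyClosed Q.hom
  obtain ⟨evm, hevm⟩ : ∃ evm : Γ(Q.left, ⊤) ⟶ CommRingCat.of k,
      evm = (q₀.left : Spec (CommRingCat.of k) ⟶ Q.left).appTop ≫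
        (Scheme.ΓSpecIso (CommRingCat.of k)).hom := ⟨_, rfl⟩
  have hw : (q₀.left : Spec (CommRingCat.of k) ⟶ Q.left) ≫ Q.hom =
      𝟙 (Spec (CommRingCat.of k)) := Over.w q₀
  have e : Q.hom.appTop ≫ (q₀.left : Spec (CommRingCat.of k) ⟶ Q.left).appTop =
      𝟙 Γ(Spec (CommRingCat.of k), ⊤) := by
    rw [← Scheme.Hom.comp_appTop, hw]; rfl
  have hcomp : ((Scheme.ΓSpecIso (CommRingCat.of k)).inv ≫ Q.hom.appTop) ≫ evm = 𝟙 _ := by
    rw [hevm, Category.assoc, ← Category.assoc Q.hom.appTop, e, Category.id_comp, Iso.inv_hom_id]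
  have hevF : ∀ c : k, evm.hom (F c) = c := fun c => congrArg (fun φ => φ.hom c) hcomp
  haveI hdom : IsDomain Γ(Q.left, ⊤) := inferInstance
  have hfield : IsField Γ(Q.left, ⊤) := by
    letI := F.toAlgebra
    haveI : Algebra.IsIntegral k Γ(Q.left, ⊤) := ⟨hint⟩
    exact isField_of_isIntegral_of_isField' (Field.toIsField k)
  have hinj : Function.Injective evm.hom := by
    rw [injective_iff_map_eq_zero]
    intro x hx
    by_contra hne
    obtain ⟨y, hy⟩ := hfield.mul_inv_cancel hne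
    have h1 := congrArg evm.hom hy
    rw [map_mul, hx, zero_mul, map_one] at h1
    exact zero_ne_one h1
  show Function.Bijective F
  refine ⟨fun a b hab => ?_, fun x => ⟨evm.hom x, hinj (hevF (evm.hom x))⟩⟩
  have h1 := congrArg evm.hom hab
  rwa [hevF, hevF] at h1

theorem integral_of_geomIntegral (V : Over (Spec (CommRingCat.of k)))
    [GeometricallyIntegral V.hom] : IsIntegral V.left := by
  haveI hsub : Subsingleton ↥(Spec (CommRingCat.of k)) :=
    inferInstanceAs (Subsingleton (PrimeSpectrum k))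
  haveI : IsDomain (CommRingCat.of k) := inferInstanceAs (IsDomain k)
  haveI : IsIntegral (Spec (CommRingCat.of k)) := inferInstance
  exact GeometricallyIntegral.isIntegral_of_subsingleton V.hom

theorem main11893 (k : Type u) [Field k] [IsAlgClosed k]
    (A B C : Over (Spec (CommRingCat.of k))) [GrpObj A] [GrpObj B] [GrpObj C]
    [IsCommMonObj A] [IsCommMonObj B] [IsCommMonObj C]
    [Smooth A.hom] [IsProper A.hom] [ConnectedSpace ↥A.left]
    [Smooth B.hom] [ConnectedSpace ↥B.left] [IsAffine B.left]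
    [Smooth C.hom] [QuasiCompact C.hom]
    (i : B ⟶ C) [IsMonHom i] [IsClosedImmersion i.left]
    (α : C ⟶ A) [IsMonHom α] [Surjective α.left] [Flat α.left] (hker : AlgGrp.IsKernel i α)
    (s : A ⟶ C) (hs : s ≫ α = 𝟙 A) :
    ∃ t : A ⟶ C, IsMonHom t ∧ t ≫ α = 𝟙 A := by
  haveI : IrreducibleSpace A.left := GrpConnIrrH4.main0348 k A
  haveI : IsReduced A.left := Groth.Agent.Lib.GenFlatHom.isReduced_of_smooth A
  haveI : IsIntegral A.left := isIntegral_of_irreducibleSpace_of_isReduced A.left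
  have hAA : AA A := Groth.Agent.Lib.AutFix.aa_of_proper A
  obtain ⟨t, ht⟩ : ∃ t : A ⟶ C, t = s * (toUnit A ≫ η[A] ≫ s)⁻¹ := ⟨_, rfl⟩
  have h1 : η[A] ≫ t = η[C] := by
    have e1 : η[A] ≫ toUnit A ≫ η[A] ≫ s = η[A] ≫ s := by
      rw [← Category.assoc, comp_toUnit, toUnit_unit, Category.id_comp]
    rw [ht, MonObj.comp_mul, GrpObj.comp_inv, e1, _root_.mul_inv_cancel, Hom.one_def, toUnit_unit,
      Category.id_comp]
  have hmon : IsMonHom t := hom_of_pointed2 A C hAA t h1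
  refine ⟨t, hmon, ?_⟩
  rw [ht, MonObj.mul_comp, GrpObj.inv_comp, Category.assoc, Category.assoc, hs, Category.comp_id,
    ← Hom.one_def, _root_.inv_one, _root_.mul_one]

theorem main8118 (K : Type u) [Field K] (V W A : Over (Spec (CommRingCat.of K)))
    [IsProper V.hom] [GeometricallyIntegral V.hom] [IsProper W.hom] [GeometricallyIntegral W.hom]
    [GrpObj A] [IsProper A.hom] [GeometricallyIntegral A.hom]
    (v₀ : 𝟙_ (Over (Spec (CommRingCat.of K))) ⟶ V) (w₀ : 𝟙_ (Over (Spec (CommRingCat.of K))) ⟶ W)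
    (h : V ⊗ W ⟶ A) (h0 : lift v₀ w₀ ≫ h = η[A]) :
    h = (fst V W ≫ lift (𝟙 V) (toUnit V ≫ w₀) ≫ h) * (snd V W ≫ lift (toUnit W ≫ v₀) (𝟙 W) ≫ h) ∧
      ∀ (f' : V ⟶ A) (g' : W ⟶ A), v₀ ≫ f' = η[A] → w₀ ≫ g' = η[A] →
        h = (fst V W ≫ f') * (snd V W ≫ g') →
          f' = lift (𝟙 V) (toUnit V ≫ w₀) ≫ h ∧ g' = lift (toUnit W ≫ v₀) (𝟙 W) ≫ h := by
  haveI hsub : Subsingleton ↥(Spec (CommRingCat.of K)) :=
    inferInstanceAs (Subsingleton (PrimeSpectrum K))
  haveI : IsIntegral V.left := integral_of_geomIntegral V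
  haveI : IsIntegral W.left := integral_of_geomIntegral W
  have hAV : AA V := aa_of_proper_rat V v₀
  obtain ⟨hcV, hqV⟩ := qcqs V
  obtain ⟨hcW, hqW⟩ := qcqs W
  haveI := hcV
  haveI := hqV
  haveI := hcW
  haveI : IsNoetherianRing (CommRingCat.of K) := inferInstanceAs (IsNoetherianRing K)
  haveI : IsLocallyNoetherian W.left := LocallyOfFiniteType.isLocallyNoetherian W.hom
  haveI : ConnectedSpace W.left := inferInstance
  haveI : IsSeparated A.hom := inferInstance
  obtain ⟨pt₀⟩ : Nonempty ↥(𝟙_ (Over (Spec (CommRingCat.of K)))).left :=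
    (inferInstance : Nonempty (PrimeSpectrum K))
  haveI hsub' : Subsingleton ↥(𝟙_ (Over (Spec (CommRingCat.of K)))).left :=
    (inferInstance : Subsingleton (PrimeSpectrum K))
  obtain ⟨a, ha⟩ : ∃ a : V ⊗ W ⟶ A, a = fst V W ≫ lift (𝟙 V) (toUnit V ≫ w₀) ≫ h := ⟨_, rfl⟩
  obtain ⟨b, hb⟩ : ∃ b : V ⊗ W ⟶ A, b = snd V W ≫ lift (toUnit W ≫ v₀) (𝟙 W) ≫ h := ⟨_, rfl⟩
  obtain ⟨F, hF⟩ : ∃ F : V ⊗ W ⟶ A, F = a⁻¹ * h * b⁻¹ := ⟨_, rfl⟩
  have hpt : ∀ {T : Over (Spec (CommRingCat.of K))} (v : T ⟶ V) (w : T ⟶ W),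
      lift v w ≫ F = (lift v (toUnit T ≫ w₀) ≫ h)⁻¹ * (lift v w ≫ h) *
        (lift (toUnit T ≫ v₀) w ≫ h)⁻¹ := by
    intro T v w
    have ea : lift v w ≫ a = lift v (toUnit T ≫ w₀) ≫ h := by
      rw [ha, lift_fst_assoc, ← Category.assoc]
      congr 1
      apply CartesianMonoidalCategory.hom_ext
      · rw [Category.assoc, lift_fst, lift_fst, Category.comp_id]
      · rw [Category.assoc, lift_snd, lift_snd, ← Category.assoc, comp_toUnit]
    have eb : lift v w ≫ b = lift (toUnit T ≫ v₀) w ≫ h := by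
      rw [hb, lift_snd_assoc, ← Category.assoc]
      congr 1
      apply CartesianMonoidalCategory.hom_ext
      · rw [Category.assoc, lift_fst, lift_fst, ← Category.assoc, comp_toUnit]
      · rw [Category.assoc, lift_snd, lift_snd, Category.comp_id]
    rw [hF, MonObj.comp_mul, MonObj.comp_mul, GrpObj.comp_inv, GrpObj.comp_inv, ea, eb]
  have ew : V ◁ w₀ = lift (fst V (𝟙_ _)) (toUnit (V ⊗ 𝟙_ _) ≫ w₀) := by
    apply CartesianMonoidalCategory.hom_ext
    · rw [whiskerLeft_fst, lift_fst]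
    · rw [whiskerLeft_snd, lift_snd]
      congr 1
      exact toUnit_unique _ _
  have h00 : ∀ (T : Over (Spec (CommRingCat.of K))),
      lift (toUnit T ≫ v₀) (toUnit T ≫ w₀) ≫ h = 1 := by
    intro T
    have e : lift (toUnit T ≫ v₀) (toUnit T ≫ w₀) = toUnit T ≫ lift v₀ w₀ := by rw [comp_lift]
    rw [e, Category.assoc, h0, ← Hom.one_def]
  have h1 : (V ◁ w₀) ≫ F = 1 := by
    rw [ew, hpt, h00, _root_.inv_mul_cancel, _root_.inv_one, _root_.mul_one]
  have hfp : ∀ p, ((V ◁ w₀) ≫ F).left p = (η[A]).left pt₀ := by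
    intro p
    rw [h1, Hom.one_def]
    exact congrArg (fun t => (η[A]).left t)
      (Subsingleton.elim ((toUnit (V ⊗ 𝟙_ (Over (Spec (CommRingCat.of K))))).left p) pt₀)
  have key := rigid_rat V W A hAV v₀ w₀ F ((η[A]).left pt₀) hfp
  have h2 : lift (toUnit W ≫ v₀) (𝟙 W) ≫ F = 1 := by
    rw [hpt, h00, _root_.inv_one, _root_.one_mul, _root_.mul_inv_cancel]
  have h3 : F = 1 := by
    rw [key, h2, MonObj.comp_one]
  have h4 : a⁻¹ * h * b⁻¹ = 1 := by rw [← hF]; exact h3
  have h5 : a⁻¹ * h = b := _root_.mul_inv_eq_one.mp h4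
  have h6 : h = a * b := _root_.inv_mul_eq_iff_eq_mul.mp h5
  refine ⟨?_, ?_⟩
  · rw [← ha, ← hb]; exact h6
  · intro f' g' hf' hg' hfg
    constructor
    · rw [hfg, MonObj.comp_mul, lift_fst_assoc, lift_snd_assoc, Category.id_comp, Category.assoc,
        hg', ← Hom.one_def, _root_.mul_one]
    · rw [hfg, MonObj.comp_mul, lift_fst_assoc, lift_snd_assoc, Category.id_comp, Category.assoc,
        hf', ← Hom.one_def, _root_.one_mul]

/-- morphisms to abelian varieties factor through the Albanese up to translation -/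
theorem alb_aux (XO A : Over (Spec (CommRingCat.of k))) [GrpObj A] [IsProper A.hom]
    [GeometricallyIntegral A.hom] (x₀ : 𝟙_ (Over (Spec (CommRingCat.of k))) ⟶ XO)
    (alb : XO ⟶ A) (halb : x₀ ≫ alb = η[A])
    (A' : Over (Spec (CommRingCat.of k))) [GrpObj A'] (φ : XO ⟶ A')
    (huniv' : ∀ g : XO ⟶ A', x₀ ≫ g = η[A'] → ∃! h : A ⟶ A', IsMonHom h ∧ alb ≫ h = g) :
    ∃ h : A ⟶ A', IsMonHom h ∧ (alb ≫ h) * (toUnit XO ≫ x₀ ≫ φ) = φ ∧
      ∀ g : A ⟶ A', alb ≫ g = φ → g = h * (toUnit A ≫ x₀ ≫ φ) := by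
  haveI : IsIntegral A.left := integral_of_geomIntegral A
  have hAA : AA A := aa_of_proper_rat A η[A]
  obtain ⟨c, hc⟩ : ∃ c : 𝟙_ (Over (Spec (CommRingCat.of k))) ⟶ A', c = x₀ ≫ φ := ⟨_, rfl⟩
  obtain ⟨φ', hφ'⟩ : ∃ φ' : XO ⟶ A', φ' = φ * (toUnit XO ≫ c)⁻¹ := ⟨_, rfl⟩
  have e1 : x₀ ≫ φ' = η[A'] := by
    have e : x₀ ≫ toUnit XO ≫ c = c := by
      rw [← Category.assoc, comp_toUnit, toUnit_unit, Category.id_comp]
    rw [hφ', MonObj.comp_mul, GrpObj.comp_inv, e, ← hc, _root_.mul_inv_cancel, Hom.one_def,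
      toUnit_unit, Category.id_comp]
  obtain ⟨h, ⟨hmon, hh⟩, huq⟩ := huniv' φ' e1
  haveI := hmon
  refine ⟨h, hmon, ?_, ?_⟩
  · rw [hh, hφ', ← hc, _root_.inv_mul_cancel_right]
  · intro g hg
    obtain ⟨g', hg'⟩ : ∃ g' : A ⟶ A', g' = g * (toUnit A ≫ c)⁻¹ := ⟨_, rfl⟩
    have e2 : η[A] ≫ g' = η[A'] := by
      have e : η[A] ≫ toUnit A ≫ c = c := by
        rw [← Category.assoc, comp_toUnit, toUnit_unit, Category.id_comp]
      have e' : η[A] ≫ g = c := by rw [← halb, Category.assoc, hg, hc]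
      rw [hg', MonObj.comp_mul, GrpObj.comp_inv, e, e', _root_.mul_inv_cancel, Hom.one_def,
        toUnit_unit, Category.id_comp]
    haveI hmon' : IsMonHom g' := hom_of_pointed2 A A' hAA g' e2
    have e3 : alb ≫ g' = φ' := by
      have e : alb ≫ toUnit A ≫ c = toUnit XO ≫ c := by rw [← Category.assoc, comp_toUnit]
      rw [hg', MonObj.comp_mul, GrpObj.comp_inv, e, hg, hφ']
    have e4 : g' = h := huq g' ⟨hmon', e3⟩
    rw [← hc, ← e4, hg', _root_.inv_mul_cancel_right]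

end Groth.Agent.Lib.Rigidity
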