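import Mathlib
import Groth.Agent.Lib.HtTrdeg_helper8
import Groth.Agent.Lib.DimEqSch_helper8
import Groth.Agent.Lib.ClosHt_helper8
import Groth.Agent.Lib.DimIneq_helper8

/-! Irreducible schemes locally of finite type over a field:
`dim O_{X,x} + trdeg_k κ(x) = dim X` at every point. -/

universe u

open CategoryTheory CategoryTheory.Limits AlgebraicGeometry

namespace Groth.Agent.IrrDimH8

variable (k : Type u) [Field k] (X : Scheme.{u}) [X.Over (Spec (CommRingCat.of k))]
  [LocallyOfFiniteType (X ↘ (Spec (CommRingCat.of k)))]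

/-- dimension of a scheme with a generic point is the height of that point -/
theorem topDim_eq_height_generic (X : Scheme.{u}) (ξ : X) (hξ : ∀ x' : X, ξ ⤳ x') :
    topologicalKrullDim X = ((Order.height ξ : ℕ∞) : WithBot ℕ∞) := by
  rw [Groth.Agent.ClosHtH8.topologicalKrullDim_eq_iSup_height]
  apply le_antisymm
  · refine iSup_le fun z => ?_
    have hz : z ≤ ξ := hξ z
    exact_mod_cast WithBot.coe_le_coe.mpr (Order.height_mono hz)
  · exact le_iSup (fun a : X => ((Order.height a : ℕ∞) : WithBot ℕ∞)) ξ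

theorem irr_dim (ξ : X) (hξ : ∀ x' : X, ξ ⤳ x') (x : X) :
    ∃ a r : ℕ, ringKrullDim (X.presheaf.stalk x) = a ∧
      @Algebra.trdeg k (X.residueField x) _ _ (Curv2.resAlgebra k X x) = r ∧
      topologicalKrullDim X = ((a + r : ℕ) : WithBot ℕ∞) := by
  classical
  obtain ⟨U, hU, hxU⟩ := Groth.Agent.HtTrdegH8.exists_affine X x
  have hξU : ξ ∈ U := (hξ x).mem_open U.2 hxU
  letI := Groth.Agent.SchFTH8.secAlgebra k X U
  haveI := Groth.Agent.SchFTH8.finiteType_sec k X U hU
  haveI hBn : IsNoetherianRing Γ(X, U) := Algebra.FiniteType.isNoetherianRing k Γ(X, U)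
  set p := (hU.primeIdealOf ⟨x, hxU⟩).asIdeal with hp
  haveI hpp : p.IsPrime := (hU.primeIdealOf ⟨x, hxU⟩).2
  set q0 := (hU.primeIdealOf ⟨ξ, hξU⟩).asIdeal with hq0
  haveI hq0p : q0.IsPrime := (hU.primeIdealOf ⟨ξ, hξU⟩).2
  have hq0all := Groth.Agent.DimEqSchH8.primeIdealOf_le_of_generic hU ξ hξU hξ
  have hqp : q0 ≤ p := hq0all p hpp
  -- the generic point
  obtain ⟨N, hN, hhN⟩ := Groth.Agent.HtTrdegH8.height_eq_trdeg k X ξ
  have hdim : topologicalKrullDim X = (N : WithBot ℕ∞) := by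
    rw [topDim_eq_height_generic X ξ hξ, hhN]; rfl
  have hNB : Algebra.trdeg k (Γ(X, U) ⧸ q0) = N := by
    rw [← Groth.Agent.SchFTH8.trdeg_residueField k hU ξ hξU]; exact hN
  haveI : Algebra.FiniteType k (Γ(X, U) ⧸ q0) :=
    Algebra.FiniteType.of_surjective (Ideal.Quotient.mkₐ k q0) (Ideal.Quotient.mkₐ_surjective k q0)
  have hker : RingHom.ker (Ideal.Quotient.mk q0) ≤ p := by rwa [Ideal.mk_ker]
  haveI hp' : (p.map (Ideal.Quotient.mk q0)).IsPrime :=
    Ideal.map_isPrime_of_surjective Ideal.Quotient.mk_surjective hker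
  obtain ⟨r, hr, hsum⟩ := Groth.Agent.DimFT3H8.height_add_trdeg_quotient N k (Γ(X, U) ⧸ q0) hNB
    (p.map (Ideal.Quotient.mk q0))
  have hht : (p.map (Ideal.Quotient.mk q0)).height = p.height :=
    Groth.Agent.DimEqSchH8.height_map_mk_of_le_all q0 p hq0all
  rw [hht] at hsum
  -- height of p is a natural number
  have hfin : p.height ≠ ⊤ := Ideal.height_ne_top (by exact hpp.ne_top)
  obtain ⟨a, ha⟩ := ENat.ne_top_iff_exists.mp hfin
  refine ⟨a, r, ?_, ?_, ?_⟩
  · rw [Groth.Agent.SchFTH8.ringKrullDim_stalk_eq_height hU x hxU, ← hp, ← ha]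
    rfl
  · rw [Groth.Agent.SchFTH8.trdeg_residueField k hU x hxU, ← hp, ← hr]
    symm
    refine Groth.Agent.DimIneqH8.trdeg_eq_of_ringEquiv (RingEquiv.refl k)
      (DoubleQuot.quotQuotEquivQuotOfLE hqp) ?_
    intro c
    rfl
  · rw [hdim]
    have : a + r = N := by
      rw [← ha] at hsum
      exact_mod_cast hsum
    rw [this]

end Groth.Agent.IrrDimH8
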