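import Mathlib
import Groth.Agent.Lib.IrrDim_helper8
import Groth.Agent.Lib.DimFT2_helper8

/-! Schemes locally of finite type over a field (not nec. irreducible):
`dim O_{X,x} + trdeg_k κ(x)` is the dimension of some irreducible component through `x`. -/

universe u

open CategoryTheory CategoryTheory.Limits AlgebraicGeometry

namespace Groth.Agent.IrrDim2H8

variable (k : Type u) [Field k] (X : Scheme.{u}) [X.Over (Spec (CommRingCat.of k))]
  [LocallyOfFiniteType (X ↘ (Spec (CommRingCat.of k)))]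

theorem irr_dim2 (x : X) :
    ∃ (ξ : X) (a r : ℕ), closure {ξ} ∈ irreducibleComponents ↥X ∧ ξ ⤳ x ∧
      ringKrullDim (X.presheaf.stalk x) = a ∧
      @Algebra.trdeg k (X.residueField x) _ _ (Curv2.resAlgebra k X x) = r ∧
      topologicalKrullDim ↥(closure ({ξ} : Set X)) = ((a + r : ℕ) : WithBot ℕ∞) := by
  classical
  obtain ⟨U, hU, hxU⟩ := Groth.Agent.HtTrdegH8.exists_affine X x
  letI := Groth.Agent.SchFTH8.secAlgebra k X U
  haveI := Groth.Agent.SchFTH8.finiteType_sec k X U hU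
  haveI hBn : IsNoetherianRing Γ(X, U) := Algebra.FiniteType.isNoetherianRing k Γ(X, U)
  set p := (hU.primeIdealOf ⟨x, hxU⟩).asIdeal with hp
  haveI hpp : p.IsPrime := (hU.primeIdealOf ⟨x, hxU⟩).2
  obtain ⟨q0, hq0min, hq0q, hht⟩ := Groth.Agent.DimFT2H8.exists_minimalPrimes_height_map_eq p
  haveI hq0p : q0.IsPrime := hq0min.1.1
  set ξ : X := hU.fromSpec ⟨q0, hq0p⟩ with hξ
  have hξU : ξ ∈ U := Groth.Agent.SchFTH8.fromSpec_mem hU _
  have hpξ : hU.primeIdealOf ⟨ξ, hξU⟩ = ⟨q0, hq0p⟩ :=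
    Groth.Agent.SchFTH8.primeIdealOf_fromSpec hU _ hξU
  have hξx : ξ ⤳ x := by
    rw [Groth.Agent.SchFTH8.specializes_iff_primeIdealOf_le hU ξ x hξU hxU, hpξ]
    exact hq0q
  have hξcomp : closure ({ξ} : Set X) ∈ irreducibleComponents ↥X := by
    rw [Groth.Agent.SchFTH8.closure_mem_irreducibleComponents_iff]
    intro z hz
    have hzU : z ∈ U := hz.mem_open U.2 hξU
    have h1 := (Groth.Agent.SchFTH8.specializes_iff_primeIdealOf_le hU z ξ hzU hξU).mp hz
    rw [hpξ] at h1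
    have h2 : q0 ≤ (hU.primeIdealOf ⟨z, hzU⟩).asIdeal :=
      hq0min.2 ⟨(hU.primeIdealOf ⟨z, hzU⟩).2, bot_le⟩ h1
    have h3 : hU.primeIdealOf ⟨z, hzU⟩ = hU.primeIdealOf ⟨ξ, hξU⟩ := by
      rw [hpξ]
      exact PrimeSpectrum.ext (le_antisymm h1 h2)
    have h4 := congrArg hU.fromSpec h3
    rw [hU.fromSpec_primeIdealOf, hU.fromSpec_primeIdealOf] at h4
    exact h4
  -- the generic point
  obtain ⟨N, hN, hhN⟩ := Groth.Agent.HtTrdegH8.height_eq_trdeg k X ξ
  have hdim : topologicalKrullDim ↥(closure ({ξ} : Set X)) = (N : WithBot ℕ∞) := by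
    rw [Groth.Agent.ClosHtH8.topologicalKrullDim_closure_singleton X ξ, hhN]; rfl
  have hq0eq : (hU.primeIdealOf ⟨ξ, hξU⟩).asIdeal = q0 := by rw [hpξ]
  have hNB : Algebra.trdeg k (Γ(X, U) ⧸ q0) = N := by
    have := Groth.Agent.SchFTH8.trdeg_residueField k hU ξ hξU
    rw [hq0eq] at this
    rw [← this]; exact hN
  haveI : Algebra.FiniteType k (Γ(X, U) ⧸ q0) :=
    Algebra.FiniteType.of_surjective (Ideal.Quotient.mkₐ k q0) (Ideal.Quotient.mkₐ_surjective k q0)
  have hker : RingHom.ker (Ideal.Quotient.mk q0) ≤ p := by rwa [Ideal.mk_ker]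
  haveI hp' : (p.map (Ideal.Quotient.mk q0)).IsPrime :=
    Ideal.map_isPrime_of_surjective Ideal.Quotient.mk_surjective hker
  haveI : IsDomain (Γ(X, U) ⧸ q0) := Ideal.Quotient.isDomain q0
  obtain ⟨r, hr, hsum⟩ := Groth.Agent.DimFT3H8.height_add_trdeg_quotient N k (Γ(X, U) ⧸ q0) hNB
    (p.map (Ideal.Quotient.mk q0))
  rw [hht] at hsum
  have hfin : p.height ≠ ⊤ := Ideal.height_ne_top (by exact hpp.ne_top)
  obtain ⟨a, ha⟩ := ENat.ne_top_iff_exists.mp hfin
  refine ⟨ξ, a, r, hξcomp, hξx, ?_, ?_, ?_⟩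
  · rw [Groth.Agent.SchFTH8.ringKrullDim_stalk_eq_height hU x hxU, ← hp, ← ha]
    rfl
  · rw [Groth.Agent.SchFTH8.trdeg_residueField k hU x hxU, ← hp, ← hr]
    symm
    refine Groth.Agent.DimIneqH8.trdeg_eq_of_ringEquiv (RingEquiv.refl k)
      (DoubleQuot.quotQuotEquivQuotOfLE hq0q) ?_
    intro c
    rfl
  · rw [hdim]
    have : a + r = N := by
      rw [← ha] at hsum
      exact_mod_cast hsum
    rw [this]

/-- dimension of an irreducible component via its generic point. -/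
theorem dim_closure_eq_trdeg (ξ : X) :
    ∃ N : ℕ, @Algebra.trdeg k (X.residueField ξ) _ _ (Curv2.resAlgebra k X ξ) = N ∧
      topologicalKrullDim ↥(closure ({ξ} : Set X)) = (N : WithBot ℕ∞) := by
  obtain ⟨N, hN, hhN⟩ := Groth.Agent.HtTrdegH8.height_eq_trdeg k X ξ
  refine ⟨N, hN, ?_⟩
  rw [Groth.Agent.ClosHtH8.topologicalKrullDim_closure_singleton X ξ, hhN]; rfl

end Groth.Agent.IrrDim2H8
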