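import Mathlib
import Groth.Prelude.Def_Flat
import Groth.Agent.Lib.FieldExt1_helper8
import Groth.Agent.Lib.FlatFibDim_helper8
import Groth.Agent.Lib.LocDimSch_helper8
import Groth.Agent.Lib.IrrDim2_helper8

/-! Dimension formula for a base field extension. -/

universe u
open AlgebraicGeometry CategoryTheory CategoryTheory.Limits
attribute [local instance] Curv2.stalkAlgebra Curv2.resAlgebra

namespace FieldExtH8

/-- flat local dimension formula at scheme level, with the closed fibre ring as a quotient. -/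
theorem flat_stalk_dim_add_quot {X Y : Scheme.{u}} (f : X ⟶ Y) [IsLocallyNoetherian X]
    [IsLocallyNoetherian Y] [Flat f] (x : X) :
    ringKrullDim (X.presheaf.stalk x) = ringKrullDim (Y.presheaf.stalk (f x)) +
      ringKrullDim (↥(X.presheaf.stalk x) ⧸ Ideal.map (f.stalkMap x).hom
        (IsLocalRing.maximalIdeal ↥(Y.presheaf.stalk (f x)))) := by
  letI : Algebra (Y.presheaf.stalk (f x)) (X.presheaf.stalk x) := (f.stalkMap x).hom.toAlgebra
  haveI : IsLocalHom (algebraMap (Y.presheaf.stalk (f x)) (X.presheaf.stalk x)) :=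
    inferInstanceAs (IsLocalHom (f.stalkMap x).hom)
  haveI : Module.Flat (Y.presheaf.stalk (f x)) (X.presheaf.stalk x) := Flat.stalkMap f x
  have hyp : Groth.Agent.FibDim.Hyp (Y.presheaf.stalk (f x)) (X.presheaf.stalk x) := by
    apply Groth.Agent.FibDim.hyp_of_flat_module (Y.presheaf.stalk (f x))
      (X.presheaf.stalk x) (X.presheaf.stalk x)
    rw [Module.support_eq_zeroLocus, Module.annihilator_eq_bot.mpr inferInstance]
    simp
  exact Groth.Agent.FibDim.dim_eq (Y.presheaf.stalk (f x)) (X.presheaf.stalk x) hyp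

theorem exists_stalk_dim_nat (k : Type u) [Field k] (X : Scheme.{u})
    [X.Over (Spec (CommRingCat.of k))] [LocallyOfFiniteType (X ↘ Spec (CommRingCat.of k))]
    (x : X) : ∃ b : ℕ, ringKrullDim (X.presheaf.stalk x) = b := by
  obtain ⟨ξ, a, r, -, -, h, -, -⟩ := Groth.Agent.IrrDim2H8.irr_dim2 k X x
  exact ⟨a, h⟩

/-- `dim O_{X_K,y} + trdeg_K κ(y) = dim O_{X,x} + trdeg_k κ(x)` in an arbitrary pullback
square along a field extension. -/
theorem stalk_dim_add_trdeg (κ κ' : Type u) [Field κ] [Field κ'] {Z' Z : Scheme.{u}}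
    (π : Z' ⟶ Z) (q : Z' ⟶ Spec (CommRingCat.of κ')) (p : Z ⟶ Spec (CommRingCat.of κ))
    (ψ : CommRingCat.of κ ⟶ CommRingCat.of κ') (sq : IsPullback π q p (Spec.map ψ))
    [LocallyOfFiniteType p] (z' : Z') (a a' : ℕ)
    (ha : letI : Z.Over (Spec (CommRingCat.of κ)) := ⟨p⟩
      Algebra.trdeg κ (Z.residueField (π z')) = a)
    (ha' : letI : Z'.Over (Spec (CommRingCat.of κ')) := ⟨q⟩
      Algebra.trdeg κ' (Z'.residueField z') = a') :
    ∃ b b' : ℕ, ringKrullDim (Z'.presheaf.stalk z') = b' ∧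
      ringKrullDim (Z.presheaf.stalk (π z')) = b ∧ b' + a' = b + a := by
  letI ovZ : Z.Over (Spec (CommRingCat.of κ)) := ⟨p⟩
  letI ovZ' : Z'.Over (Spec (CommRingCat.of κ')) := ⟨q⟩
  haveI : LocallyOfFiniteType (Z ↘ Spec (CommRingCat.of κ)) := ‹LocallyOfFiniteType p›
  haveI hq : LocallyOfFiniteType q := MorphismProperty.of_isPullback sq inferInstance
  haveI : LocallyOfFiniteType (Z' ↘ Spec (CommRingCat.of κ')) := hq
  obtain ⟨b, hb⟩ := exists_stalk_dim_nat κ Z (π z')
  obtain ⟨b', hb'⟩ := exists_stalk_dim_nat κ' Z' z'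
  refine ⟨b, b', hb', hb, ?_⟩
  have h1 := Groth.Agent.LocDimSchH8.localDim_scheme κ Z (π z') a b ha hb
  have h2 := Groth.Agent.LocDimSchH8.localDim_scheme κ' Z' z' a' b' ha' hb'
  have h3 := localDim_of_isPullback_field κ κ' π q p ψ sq z'
  rw [h1, h2] at h3
  have h4 : a' + b' = a + b := by exact_mod_cast h3
  omega

end FieldExtH8
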