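import Mathlib
import Groth.Prelude.Def_Flat
import Groth.Agent.Lib.FieldExt2_helper8
import Groth.Agent.Lib.IrrDim2_helper8

/-! Generic points of fibres of a base field extension: transcendence degree is preserved. -/

universe u
open AlgebraicGeometry CategoryTheory CategoryTheory.Limits
attribute [local instance] Curv2.stalkAlgebra Curv2.resAlgebra

namespace FieldGenH8

/-- a local ring hom `R → S`; if the only prime of `S` containing `m_R S` is `m_S`, then
`S/m_R S` has dimension zero. -/
theorem dim_quot_eq_zero {S : Type u} [CommRing S] [IsLocalRing S] (I : Ideal S)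
    (hI : I ≤ IsLocalRing.maximalIdeal S)
    (h : ∀ P : Ideal S, P.IsPrime → I ≤ P → P = IsLocalRing.maximalIdeal S) :
    ringKrullDim (S ⧸ I) = 0 := by
  haveI : Nontrivial (S ⧸ I) := by
    apply Ideal.Quotient.nontrivial_iff.mpr
    rintro rfl
    exact (IsLocalRing.maximalIdeal.isMaximal S).ne_top (top_le_iff.mp hI)
  haveI : Ring.KrullDimLE 0 (S ⧸ I) := by
    rw [Ring.krullDimLE_zero_iff]
    intro Q hQ
    have h1 : (Q.comap (Ideal.Quotient.mk I)) = IsLocalRing.maximalIdeal S := by
      apply h _ (Ideal.comap_isPrime _ _)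
      intro x hx
      rw [Ideal.mem_comap, Ideal.Quotient.eq_zero_iff_mem.mpr hx]
      exact Q.zero_mem
    have : Q = (IsLocalRing.maximalIdeal S).map (Ideal.Quotient.mk I) := by
      rw [← h1, Ideal.map_comap_of_surjective _ Ideal.Quotient.mk_surjective]
    rw [this]
    rcases Ideal.map_eq_top_or_isMaximal_of_surjective (Ideal.Quotient.mk I)
      Ideal.Quotient.mk_surjective (IsLocalRing.maximalIdeal.isMaximal S) with h2 | h2
    · exfalso
      have h3 := congrArg (Ideal.comap (Ideal.Quotient.mk I)) h2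
      rw [Ideal.comap_map_of_surjective _ Ideal.Quotient.mk_surjective, Ideal.comap_top,
        ← RingHom.ker_eq_comap_bot, Ideal.mk_ker, sup_eq_left.mpr hI] at h3
      exact (IsLocalRing.maximalIdeal.isMaximal S).ne_top h3
    · exact h2
  exact ringKrullDimZero_iff_ringKrullDim_eq_zero.mp inferInstance

/-- a point that is maximal (for generalization) in its fibre: the fibre local ring at the point
has dimension zero. -/
theorem dim_quot_stalk_eq_zero {Z' Z : Scheme.{u}} (π : Z' ⟶ Z) (z' : Z')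
    (hmax : ∀ w : Z', w ⤳ z' → π w = π z' → w = z') :
    ringKrullDim (↥(Z'.presheaf.stalk z') ⧸ Ideal.map (π.stalkMap z').hom
        (IsLocalRing.maximalIdeal ↥(Z.presheaf.stalk (π z')))) = 0 := by
  apply dim_quot_eq_zero
  · rw [Ideal.map_le_iff_le_comap]
    intro a ha
    rw [Ideal.mem_comap]
    exact (IsLocalRing.mem_maximalIdeal _).mpr
      (fun hu => (IsLocalRing.mem_maximalIdeal _).mp ha
        (isUnit_of_map_unit (π.stalkMap z').hom a hu))
  · intro P hP hIP
    let pt : ↥(Spec (Z'.presheaf.stalk z')) := ⟨P, hP⟩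
    set w : Z' := Z'.fromSpecStalk z' pt with hw
    have hwz : w ⤳ z' := by
      have : w ∈ Set.range (Z'.fromSpecStalk z') := ⟨pt, rfl⟩
      rw [Scheme.range_fromSpecStalk] at this
      exact this
    have hπw : π w = π z' := by
      have h1 : π w = (Z.fromSpecStalk (π z')) ((Spec.map (π.stalkMap z')) pt) := by
        rw [hw, ← Scheme.Hom.comp_apply, ← Scheme.Hom.comp_apply,
          Scheme.SpecMap_stalkMap_fromSpecStalk]
      rw [h1]
      have h2 : (Spec.map (π.stalkMap z')) pt = IsLocalRing.closedPoint _ := by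
        apply PrimeSpectrum.ext
        have hle : IsLocalRing.maximalIdeal ↥(Z.presheaf.stalk (π z')) ≤
            Ideal.comap (π.stalkMap z').hom P := Ideal.map_le_iff_le_comap.mp hIP
        exact ((IsLocalRing.maximalIdeal.isMaximal _).eq_of_le
          (Ideal.comap_isPrime _ _).ne_top hle).symm
      rw [h2, Scheme.fromSpecStalk_closedPoint]
    have h3 := hmax w hwz hπw
    have h4 : Z'.fromSpecStalk z' pt = Z'.fromSpecStalk z' (IsLocalRing.closedPoint _) := by
      rw [Scheme.fromSpecStalk_closedPoint]; exact h3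
    have h5 := (Z'.fromSpecStalk z').isEmbedding.injective h4
    exact congrArg PrimeSpectrum.asIdeal h5

/-- **Lemma A.** In a pullback square along a field extension, a point which is maximal in its
fibre has the same transcendence degree as its image. -/
theorem trdeg_eq_of_isMax_fibre (κ κ' : Type u) [Field κ] [Field κ'] {Z' Z : Scheme.{u}}
    (π : Z' ⟶ Z) (q : Z' ⟶ Spec (CommRingCat.of κ')) (p : Z ⟶ Spec (CommRingCat.of κ))
    (ψ : CommRingCat.of κ ⟶ CommRingCat.of κ') (sq : IsPullback π q p (Spec.map ψ))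
    [LocallyOfFiniteType p] (z' : Z')
    (hmax : ∀ w : Z', w ⤳ z' → π w = π z' → w = z') :
    ∃ n : ℕ, (letI : Z.Over (Spec (CommRingCat.of κ)) := ⟨p⟩
      Algebra.trdeg κ (Z.residueField (π z')) = n) ∧
      (letI : Z'.Over (Spec (CommRingCat.of κ')) := ⟨q⟩
      Algebra.trdeg κ' (Z'.residueField z') = n) ∧
      Order.height (π z') = n ∧ Order.height z' = n := by
  letI ovZ : Z.Over (Spec (CommRingCat.of κ)) := ⟨p⟩
  letI ovZ' : Z'.Over (Spec (CommRingCat.of κ')) := ⟨q⟩
  haveI : LocallyOfFiniteType (Z ↘ Spec (CommRingCat.of κ)) := ‹LocallyOfFiniteType p›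
  haveI hq : LocallyOfFiniteType q := MorphismProperty.of_isPullback sq inferInstance
  haveI : LocallyOfFiniteType (Z' ↘ Spec (CommRingCat.of κ')) := hq
  haveI : IsLocallyNoetherian Z := LocallyOfFiniteType.isLocallyNoetherian p
  haveI : IsLocallyNoetherian Z' := LocallyOfFiniteType.isLocallyNoetherian q
  haveI : Flat (Spec.map ψ) := inferInstance
  haveI : Flat π := MorphismProperty.of_isPullback sq.flip inferInstance
  obtain ⟨a, ha, hha⟩ := Groth.Agent.HtTrdegH8.height_eq_trdeg κ Z (π z')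
  obtain ⟨a', ha', hha'⟩ := Groth.Agent.HtTrdegH8.height_eq_trdeg κ' Z' z'
  obtain ⟨b, b', hb', hb, hsum⟩ := FieldExtH8.stalk_dim_add_trdeg κ κ' π q p ψ sq z' a a' ha ha'
  have h1 := FieldExtH8.flat_stalk_dim_add_quot π z'
  rw [dim_quot_stalk_eq_zero π z' hmax, add_zero, hb', hb] at h1
  have h2 : b' = b := by exact_mod_cast h1
  have h3 : a' = a := by omega
  subst h3
  exact ⟨a', ha, ha', hha, hha'⟩

/-- **Lemma B.** In a pullback square along a field extension, let `C` be an irreducible closed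
subset of the base and `w` a maximal point of the inverse image of `C`. Then `π w` is the generic
point of `C` and `dim closure {w} = dim C`. -/
theorem dim_closure_eq_of_isMax_preimage (κ κ' : Type u) [Field κ] [Field κ'] {Z' Z : Scheme.{u}}
    (π : Z' ⟶ Z) (q : Z' ⟶ Spec (CommRingCat.of κ')) (p : Z ⟶ Spec (CommRingCat.of κ))
    (ψ : CommRingCat.of κ ⟶ CommRingCat.of κ') (sq : IsPullback π q p (Spec.map ψ))
    [LocallyOfFiniteType p] (C : Set Z) (hCc : IsClosed C) (hCi : IsIrreducible C)
    (w : Z') (hw : π w ∈ C) (hmax : ∀ w₁ : Z', π w₁ ∈ C → w₁ ⤳ w → w₁ = w) :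
    IsGenericPoint (π w) C ∧
      topologicalKrullDim ↥(closure ({w} : Set Z')) = topologicalKrullDim ↥C := by
  haveI : Flat (Spec.map ψ) := inferInstance
  haveI : Flat π := MorphismProperty.of_isPullback sq.flip inferInstance
  obtain ⟨ζ, hζ⟩ := QuasiSober.sober hCi hCc
  have h1 : ζ ⤳ π w := by
    rw [specializes_iff_mem_closure, hζ.def]; exact hw
  obtain ⟨w₁, hw₁, hπw₁⟩ := Flat.generalizingMap π h1
  have hζC : ζ ∈ C := hζ.def ▸ subset_closure rfl
  have h2 : w₁ = w := hmax w₁ (hπw₁ ▸ hζC) hw₁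
  subst h2
  have hmaxf : ∀ w₂ : Z', w₂ ⤳ w₁ → π w₂ = π w₁ → w₂ = w₁ := by
    intro w₂ h3 h4
    exact hmax w₂ (h4 ▸ hw) h3
  obtain ⟨n, -, -, hn1, hn2⟩ := trdeg_eq_of_isMax_fibre κ κ' π q p ψ sq w₁ hmaxf
  refine ⟨hπw₁ ▸ hζ, ?_⟩
  rw [Groth.Agent.ClosHtH8.topologicalKrullDim_closure_singleton Z' w₁, hn2, ← hζ.def, ← hπw₁,
    Groth.Agent.ClosHtH8.topologicalKrullDim_closure_singleton Z (π w₁), hn1]
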