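import Mathlib
import Groth.Agent.Lib.ResNat_helper8

/-! Tower additivity of transcendence degrees of residue fields for morphisms of `k`-schemes. -/

universe u

open CategoryTheory CategoryTheory.Limits AlgebraicGeometry

namespace Groth.Agent.ResTowerH8

theorem trdeg_tower (k : Type u) [Field k] {X Y : Scheme.{u}}
    [X.Over (Spec (CommRingCat.of k))] [Y.Over (Spec (CommRingCat.of k))] (f : X ⟶ Y)
    (hf : f ≫ (Y ↘ Spec (CommRingCat.of k)) = (X ↘ Spec (CommRingCat.of k))) (x : X) :
    @Algebra.trdeg k (Y.residueField (f.base x)) _ _ (Curv2.resAlgebra k Y (f.base x)) +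
      @Algebra.trdeg (Y.residueField (f.base x)) (X.residueField x) _ _
        (f.residueFieldMap x).hom.toAlgebra =
    @Algebra.trdeg k (X.residueField x) _ _ (Curv2.resAlgebra k X x) := by
  letI a1 : Algebra k (Y.residueField (f.base x)) := Curv2.resAlgebra k Y (f.base x)
  letI a2 : Algebra (Y.residueField (f.base x)) (X.residueField x) :=
    (f.residueFieldMap x).hom.toAlgebra
  letI a3 : Algebra k (X.residueField x) := Curv2.resAlgebra k X x
  haveI : IsScalarTower k (Y.residueField (f.base x)) (X.residueField x) :=
    IsScalarTower.of_algebraMap_eq fun c =>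
      (Groth.Agent.ResNatH8.resMap_comp k f hf x c).symm
  haveI : FaithfulSMul k (Y.residueField (f.base x)) :=
    (faithfulSMul_iff_algebraMap_injective _ _).mpr
      (algebraMap k (Y.residueField (f.base x))).injective
  haveI : FaithfulSMul (Y.residueField (f.base x)) (X.residueField x) :=
    (faithfulSMul_iff_algebraMap_injective _ _).mpr
      (algebraMap (Y.residueField (f.base x)) (X.residueField x)).injective
  exact _root_.trdeg_add_eq k (Y.residueField (f.base x)) (A := X.residueField x)

end Groth.Agent.ResTowerH8
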