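import Mathlib
import Groth.Prelude.Def_Flat
import Groth.Agent.Lib.FieldGen_helper8
import Groth.Agent.Lib.FibRes2_helper8
import Groth.Agent.Lib.ResTower_helper8
import Groth.Agent.Lib.HtTrdeg_helper8

/-! Dimension of products over a field. -/

universe u
open AlgebraicGeometry CategoryTheory CategoryTheory.Limits
attribute [local instance] Curv2.stalkAlgebra Curv2.resAlgebra

namespace ProdDimH8

/-- **Lemma C.** For a maximal point `z` of `X ×_k Y`:
`height z = height (p z) + height (q z)`. -/
theorem height_eq_add {k : Type u} [Field k] {X Y : Scheme.{u}}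
    (f : X ⟶ Spec (CommRingCat.of k)) (g : Y ⟶ Spec (CommRingCat.of k))
    [LocallyOfFiniteType f] [LocallyOfFiniteType g] (z : ↥(pullback f g))
    (hz : ∀ z' : ↥(pullback f g), z' ⤳ z → z' = z) :
    Order.height z = Order.height ((pullback.fst f g) z) + Order.height ((pullback.snd f g) z) := by
  set p := pullback.fst f g with hp
  set ξ := p z with hξ
  haveI : LocallyOfFiniteType p := MorphismProperty.pullback_fst _ _ inferInstance
  -- k-structures
  letI ovX : X.Over (Spec (CommRingCat.of k)) := ⟨f⟩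
  letI ovP : (pullback f g).Over (Spec (CommRingCat.of k)) := ⟨p ≫ f⟩
  haveI : LocallyOfFiniteType (X ↘ Spec (CommRingCat.of k)) := ‹LocallyOfFiniteType f›
  haveI : LocallyOfFiniteType ((pullback f g) ↘ Spec (CommRingCat.of k)) :=
    inferInstanceAs (LocallyOfFiniteType (p ≫ f))
  obtain ⟨n, hn, hhn⟩ := Groth.Agent.HtTrdegH8.height_eq_trdeg k X ξ
  obtain ⟨N, hN, hhN⟩ := Groth.Agent.HtTrdegH8.height_eq_trdeg k (pullback f g) z
  obtain ⟨m, hm, hhm⟩ := Groth.Agent.FibRes2H8.height_asFiber p z
  have htower := Groth.Agent.ResTowerH8.trdeg_tower k p rfl z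
  rw [hm, hN] at htower
  have hn' : Algebra.trdeg k (X.residueField (p.base z)) = n := hn
  rw [hn'] at htower
  have hNnm : n + m = N := by exact_mod_cast htower
  -- the fibre as a base change of `Y`
  set F := p.fiber ξ with hF
  have sqL : IsPullback (p.fiberι ξ) (p.fiberToSpecResidueField ξ) p
      (X.fromSpecResidueField ξ) := IsPullback.of_hasPullback _ _
  have sqR : IsPullback (pullback.snd f g) p g f := (IsPullback.of_hasPullback f g).flip
  have sq := sqL.paste_horiz sqR
  obtain ⟨ψ, hψ⟩ : ∃ ψ : CommRingCat.of k ⟶ CommRingCat.of (X.residueField ξ),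
      Spec.map ψ = X.fromSpecResidueField ξ ≫ f := ⟨Spec.preimage _, Spec.map_preimage _⟩
  rw [← hψ] at sq
  -- `asFiber z` is maximal
  have hmaxF : ∀ w₁ : ↥F, (p.fiberι ξ ≫ pullback.snd f g) w₁ ∈
      closure ({(pullback.snd f g) z} : Set Y) → w₁ ⤳ p.asFiber z → w₁ = p.asFiber z := by
    intro w₁ _ hw₁
    have h1 : (p.fiberι ξ) w₁ ⤳ (p.fiberι ξ) (p.asFiber z) := hw₁.map (p.fiberι ξ).continuous
    rw [Scheme.Hom.fiberι_asFiber] at h1
    have h2 := hz _ h1
    apply (p.fiberι ξ).isEmbedding.injective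
    rw [h2, Scheme.Hom.fiberι_asFiber]
  have hmem : (p.fiberι ξ ≫ pullback.snd f g) (p.asFiber z) ∈
      closure ({(pullback.snd f g) z} : Set Y) := by
    rw [Scheme.Hom.comp_apply, Scheme.Hom.fiberι_asFiber]
    exact subset_closure rfl
  obtain ⟨-, hdim⟩ := FieldGenH8.dim_closure_eq_of_isMax_preimage k (X.residueField ξ)
    (p.fiberι ξ ≫ pullback.snd f g) (p.fiberToSpecResidueField ξ) g ψ sq
    (closure {(pullback.snd f g) z}) isClosed_closure isIrreducible_singleton.closure
    (p.asFiber z) hmem hmaxF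
  rw [Groth.Agent.ClosHtH8.topologicalKrullDim_closure_singleton,
    Groth.Agent.ClosHtH8.topologicalKrullDim_closure_singleton] at hdim
  have hdim' : Order.height (p.asFiber z) = Order.height ((pullback.snd f g) z) := by
    exact_mod_cast hdim
  rw [hhN, hhn, ← hdim', hhm, ← hNnm]
  push_cast
  rfl

theorem flat_fst {k : Type u} [Field k] {X Y : Scheme.{u}}
    (f : X ⟶ Spec (CommRingCat.of k)) (g : Y ⟶ Spec (CommRingCat.of k)) :
    Flat (pullback.fst f g) := by
  haveI : Flat g := inferInstance
  exact MorphismProperty.pullback_fst _ _ inferInstance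

theorem flat_snd {k : Type u} [Field k] {X Y : Scheme.{u}}
    (f : X ⟶ Spec (CommRingCat.of k)) (g : Y ⟶ Spec (CommRingCat.of k)) :
    Flat (pullback.snd f g) := by
  haveI : Flat f := inferInstance
  exact MorphismProperty.pullback_snd _ _ inferInstance

/-- a generalizing map sends maximal points to maximal points. -/
theorem isMax_map_of_generalizing {A B : Type*} [TopologicalSpace A] [TopologicalSpace B]
    (h : A → B) (hg : GeneralizingMap h) (a : A) (ha : ∀ a' : A, a' ⤳ a → a' = a) :
    ∀ b' : B, b' ⤳ h a → b' = h a := by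
  intro b' hb'
  obtain ⟨a', ha', hfa'⟩ := hg hb'
  rw [← hfa', ha a' ha']

/-- every point of a scheme is a specialization of a maximal point. -/
theorem exists_max_ge {T : Scheme.{u}} (t : T) :
    ∃ t₀ : T, t₀ ⤳ t ∧ ∀ t' : T, t' ⤳ t₀ → t' = t₀ := by
  obtain ⟨s, hs⟩ := QuasiSober.sober (isIrreducible_irreducibleComponent (x := t))
    isClosed_irreducibleComponent
  refine ⟨s, ?_, ?_⟩
  · rw [specializes_iff_mem_closure, hs.def]; exact mem_irreducibleComponent
  · intro s' hs'
    have hsub : closure ({s} : Set T) ⊆ closure {s'} :=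
      closure_minimal (Set.singleton_subset_iff.mpr (specializes_iff_mem_closure.mp hs'))
        isClosed_closure
    have h2 := (irreducibleComponent_mem_irreducibleComponents t).2
      isIrreducible_singleton.closure (hs.def ▸ hsub)
    have h3 : s' ∈ irreducibleComponent t := h2 (subset_closure rfl)
    rw [← hs.def] at h3
    exact ((specializes_iff_mem_closure.mpr h3).antisymm hs').eq.symm

/-- maximal points of the product over given maximal points of the factors. -/
theorem exists_max_over {k : Type u} [Field k] {X Y : Scheme.{u}}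
    (f : X ⟶ Spec (CommRingCat.of k)) (g : Y ⟶ Spec (CommRingCat.of k))
    (ξ : X) (η : Y) (hξ : ∀ x' : X, x' ⤳ ξ → x' = ξ) (hη : ∀ y' : Y, y' ⤳ η → y' = η) :
    ∃ z : ↥(pullback f g), (∀ z' : ↥(pullback f g), z' ⤳ z → z' = z) ∧
      (pullback.fst f g) z = ξ ∧ (pullback.snd f g) z = η := by
  obtain ⟨z₀, h1, h2⟩ := Scheme.Pullback.exists_preimage_pullback (f := f) (g := g) ξ η
    (Subsingleton.elim (α := ↥(Spec (CommRingCat.of k))) _ _)
  obtain ⟨z, hz, hzmax⟩ := exists_max_ge z₀
  refine ⟨z, hzmax, ?_, ?_⟩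
  · apply hξ
    rw [← h1]
    exact hz.map (pullback.fst f g).continuous
  · apply hη
    rw [← h2]
    exact hz.map (pullback.snd f g).continuous

/-- dimension as a supremum of heights of maximal points. -/
theorem topDim_le_iff {T : Scheme.{u}} (d : WithBot ℕ∞) :
    topologicalKrullDim ↥T ≤ d ↔
      ∀ t : T, (∀ t' : T, t' ⤳ t → t' = t) → ((Order.height t : ℕ∞) : WithBot ℕ∞) ≤ d := by
  rw [Groth.Agent.ClosHtH8.topologicalKrullDim_eq_iSup_height]
  constructor
  · intro h t _
    exact le_trans (le_iSup (fun a : T => ((Order.height a : ℕ∞) : WithBot ℕ∞)) t) h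
  · intro h
    refine iSup_le fun t => ?_
    obtain ⟨t₀, h1, h2⟩ := exists_max_ge t
    have hle : t ≤ t₀ := h1
    exact le_trans (by exact_mod_cast WithBot.coe_le_coe.mpr (Order.height_mono hle)) (h t₀ h2)

theorem height_le_topDim {T : Scheme.{u}} (t : T) :
    ((Order.height t : ℕ∞) : WithBot ℕ∞) ≤ topologicalKrullDim ↥T := by
  rw [Groth.Agent.ClosHtH8.topologicalKrullDim_eq_iSup_height]
  exact le_iSup (fun a : T => ((Order.height a : ℕ∞) : WithBot ℕ∞)) t
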