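import Mathlib
import Groth.Prelude.Def_Flat
import Groth.Agent.Lib.IrrDim2_helper8
import Groth.Agent.Lib.LocDimSch_helper8
import Groth.Agent.Lib.ProdDim_helper8
import Groth.Agent.Lib.ProdGen_helper8
import Groth.Agent.Lib.FieldExt2_helper8

/-! Local dimension of schemes locally of finite type over a field via heights of maximal points;
local dimension of products. -/

universe u
open AlgebraicGeometry CategoryTheory CategoryTheory.Limits
attribute [local instance] Curv2.stalkAlgebra Curv2.resAlgebra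

namespace LocDimProdH8

variable (k : Type u) [Field k]

/-- `dim_x X = coheight x + height x`. -/
theorem localDim_eq (T : Scheme.{u}) [T.Over (Spec (CommRingCat.of k))]
    [LocallyOfFiniteType (T ↘ Spec (CommRingCat.of k))] (t : T) :
    FlatMor.localDim ↥T t = ((Order.coheight t + Order.height t : ℕ∞) : WithBot ℕ∞) := by
  obtain ⟨n, hn, hhn⟩ := Groth.Agent.HtTrdegH8.height_eq_trdeg k T t
  obtain ⟨b, hb⟩ := FieldExtH8.exists_stalk_dim_nat k T t
  rw [Groth.Agent.LocDimSchH8.localDim_scheme k T t n b hn hb, hhn]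
  rw [AlgebraicGeometry.ringKrullDim_stalk_eq_coheight] at hb
  have hb' : Order.coheight t = (b : ℕ∞) := by exact_mod_cast hb
  rw [hb', add_comm]
  rfl

/-- **Lemma L.** `height ξ ≤ coheight t + height t` for a generalization `ξ` of `t`. -/
theorem height_le_of_specializes (T : Scheme.{u}) [T.Over (Spec (CommRingCat.of k))]
    [LocallyOfFiniteType (T ↘ Spec (CommRingCat.of k))] (t ξ : T) (h : ξ ⤳ t) :
    Order.height ξ ≤ Order.coheight t + Order.height t := by
  obtain ⟨Z, i, hi, hrange⟩ :=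
    ProdGenH8.exists_closedImmersion_range T (closure {ξ}) isClosed_closure
  letI ovZ : Z.Over (Spec (CommRingCat.of k)) := ⟨i ≫ (T ↘ Spec (CommRingCat.of k))⟩
  haveI : LocallyOfFiniteType (Z ↘ Spec (CommRingCat.of k)) :=
    inferInstanceAs (LocallyOfFiniteType (i ≫ (T ↘ Spec (CommRingCat.of k))))
  obtain ⟨ξ'', hξ''⟩ : ξ ∈ Set.range i := hrange ▸ subset_closure rfl
  obtain ⟨x'', hx''⟩ : t ∈ Set.range i := hrange ▸ h.mem_closure
  have hemb : Topology.IsClosedEmbedding i := i.isClosedEmbedding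
  have hgen : ∀ z : Z, ξ'' ⤳ z := by
    intro z
    rw [← hemb.isInducing.specializes_iff, hξ'', specializes_iff_mem_closure, ← hrange]
    exact Set.mem_range_self z
  obtain ⟨a, r, ha, hr, hdim⟩ := Groth.Agent.IrrDimH8.irr_dim k Z ξ'' hgen x''
  -- dim Z = height ξ
  have h1 : topologicalKrullDim ↥Z = ((Order.height ξ : ℕ∞) : WithBot ℕ∞) := by
    rw [← Groth.Agent.ClosHtH8.topologicalKrullDim_closure_singleton T ξ, ← hrange]
    exact (hemb.isEmbedding.toHomeomorph).isHomeomorph.topologicalKrullDim_eq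
  obtain ⟨n, hn, hhn⟩ := Groth.Agent.HtTrdegH8.height_eq_trdeg k Z x''
  have hrn : r = n := by
    have : ((r : ℕ) : Cardinal) = ((n : ℕ) : Cardinal) := by rw [← hr, ← hn]
    exact_mod_cast this
  rw [AlgebraicGeometry.ringKrullDim_stalk_eq_coheight] at ha
  have ha' : Order.coheight x'' = (a : ℕ∞) := by exact_mod_cast ha
  rw [h1] at hdim
  have h2 : Order.height ξ = ((a + r : ℕ) : ℕ∞) := by exact_mod_cast hdim
  have hmono : StrictMono (fun z : Z => i z) := by
    intro p q hpq
    have hle : q ⤳ p := hpq.le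
    have hne : ¬ p ⤳ q := fun hc => hpq.not_ge hc
    refine lt_of_le_not_ge ?_ ?_
    · exact hle.map i.continuous
    · intro hc
      apply hne
      have hc' : i p ⤳ i q := hc
      exact hemb.isInducing.specializes_iff.mp hc'
  have h3 : Order.coheight x'' ≤ Order.coheight t := by
    have := Order.coheight_le_coheight_apply_of_strictMono _ hmono x''
    rw [hx''] at this
    exact this
  have h4 : Order.height x'' ≤ Order.height t := by
    have := Order.height_le_height_apply_of_strictMono _ hmono x''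
    rw [hx''] at this
    exact this
  rw [h2]
  push_cast
  rw [← ha', hrn, ← hhn]
  exact add_le_add h3 h4

/-- (ii) the local dimension is attained by a maximal point. -/
theorem exists_max_height_eq (T : Scheme.{u}) [T.Over (Spec (CommRingCat.of k))]
    [LocallyOfFiniteType (T ↘ Spec (CommRingCat.of k))] (t : T) :
    ∃ ξ : T, ξ ⤳ t ∧ (∀ ξ' : T, ξ' ⤳ ξ → ξ' = ξ) ∧
      Order.height ξ = Order.coheight t + Order.height t := by
  obtain ⟨ξ, a, r, hcomp, hsp, ha, hr, hdim⟩ := Groth.Agent.IrrDim2H8.irr_dim2 k T t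
  refine ⟨ξ, hsp, (Groth.Agent.SchFTH8.closure_mem_irreducibleComponents_iff ξ).mp hcomp, ?_⟩
  rw [Groth.Agent.ClosHtH8.topologicalKrullDim_closure_singleton T ξ] at hdim
  have h2 : Order.height ξ = ((a + r : ℕ) : ℕ∞) := by exact_mod_cast hdim
  obtain ⟨n, hn, hhn⟩ := Groth.Agent.HtTrdegH8.height_eq_trdeg k T t
  have hrn : r = n := by
    have : ((r : ℕ) : Cardinal) = ((n : ℕ) : Cardinal) := by rw [← hr, ← hn]
    exact_mod_cast this
  rw [AlgebraicGeometry.ringKrullDim_stalk_eq_coheight] at ha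
  have ha' : Order.coheight t = (a : ℕ∞) := by exact_mod_cast ha
  rw [h2, ha', hhn, hrn]
  push_cast
  rfl

/-- lifting a pair of maximal generalizations to the product. -/
theorem exists_max_over_generalizing {X Y : Scheme.{u}}
    (f : X ⟶ Spec (CommRingCat.of k)) (g : Y ⟶ Spec (CommRingCat.of k))
    (z : ↥(pullback f g)) (ξ : X) (η : Y) (hξz : ξ ⤳ (pullback.fst f g) z)
    (hηz : η ⤳ (pullback.snd f g) z)
    (hξ : ∀ x' : X, x' ⤳ ξ → x' = ξ) (hη : ∀ y' : Y, y' ⤳ η → y' = η) :
    ∃ ζ : ↥(pullback f g), ζ ⤳ z ∧ (∀ z' : ↥(pullback f g), z' ⤳ ζ → z' = ζ) ∧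
      (pullback.fst f g) ζ = ξ ∧ (pullback.snd f g) ζ = η := by
  have sq : IsPullback (pullback.fst f g) (pullback.snd f g) f g := IsPullback.of_hasPullback f g
  obtain ⟨w₁, hw₁, hpw₁, hqw₁⟩ := ProdGenH8.exists_generalization sq (closure {η})
    isClosed_closure z hηz.mem_closure ξ hξz
  have hηw₁ : η ⤳ (pullback.snd f g) w₁ := specializes_iff_mem_closure.mpr hqw₁
  obtain ⟨w₂, hw₂, hqw₂, hpw₂⟩ := ProdGenH8.exists_generalization sq.flip (closure {ξ})
    isClosed_closure w₁ (hpw₁ ▸ subset_closure rfl) η hηw₁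
  have hpw₂' : (pullback.fst f g) w₂ = ξ := by
    apply hξ
    rw [← hpw₁]
    exact hw₂.map (pullback.fst f g).continuous
  obtain ⟨ζ, hζ, hζmax⟩ := ProdDimH8.exists_max_ge w₂
  refine ⟨ζ, hζ.trans (hw₂.trans hw₁), hζmax, ?_, ?_⟩
  · apply hξ
    rw [← hpw₂']
    exact hζ.map (pullback.fst f g).continuous
  · apply hη
    rw [← hqw₂]
    exact hζ.map (pullback.snd f g).continuous

/-- local dimension of a product over a field. -/
theorem localDim_pullback {X Y : Scheme.{u}}
    (f : X ⟶ Spec (CommRingCat.of k)) (g : Y ⟶ Spec (CommRingCat.of k))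
    [LocallyOfFiniteType f] [LocallyOfFiniteType g] (z : ↥(pullback f g)) :
    FlatMor.localDim ↥(pullback f g) z =
      FlatMor.localDim ↥X ((pullback.fst f g) z) + FlatMor.localDim ↥Y ((pullback.snd f g) z) := by
  letI ovX : X.Over (Spec (CommRingCat.of k)) := ⟨f⟩
  letI ovY : Y.Over (Spec (CommRingCat.of k)) := ⟨g⟩
  letI ovP : (pullback f g).Over (Spec (CommRingCat.of k)) := ⟨pullback.fst f g ≫ f⟩
  haveI : LocallyOfFiniteType (X ↘ Spec (CommRingCat.of k)) := ‹LocallyOfFiniteType f›
  haveI : LocallyOfFiniteType (Y ↘ Spec (CommRingCat.of k)) := ‹LocallyOfFiniteType g›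
  haveI : LocallyOfFiniteType (pullback.fst f g) := MorphismProperty.pullback_fst _ _ inferInstance
  haveI : LocallyOfFiniteType ((pullback f g) ↘ Spec (CommRingCat.of k)) :=
    inferInstanceAs (LocallyOfFiniteType (pullback.fst f g ≫ f))
  haveI := ProdDimH8.flat_fst f g
  haveI := ProdDimH8.flat_snd f g
  rw [localDim_eq k (pullback f g) z, localDim_eq k X, localDim_eq k Y, ← WithBot.coe_add,
    WithBot.coe_inj]
  apply le_antisymm
  · obtain ⟨ζ, hζz, hζmax, hζ⟩ := exists_max_height_eq k (pullback f g) z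
    rw [← hζ, ProdDimH8.height_eq_add f g ζ hζmax]
    exact add_le_add
      (height_le_of_specializes k X _ _ (hζz.map (pullback.fst f g).continuous))
      (height_le_of_specializes k Y _ _ (hζz.map (pullback.snd f g).continuous))
  · obtain ⟨ξ, hξz, hξmax, hξ⟩ := exists_max_height_eq k X ((pullback.fst f g) z)
    obtain ⟨η, hηz, hηmax, hη⟩ := exists_max_height_eq k Y ((pullback.snd f g) z)
    obtain ⟨ζ, hζz, hζmax, hpζ, hqζ⟩ :=
      exists_max_over_generalizing k f g z ξ η hξz hηz hξmax hηmax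
    rw [← hξ, ← hη, ← hpζ, ← hqζ, ← ProdDimH8.height_eq_add f g ζ hζmax]
    exact height_le_of_specializes k (pullback f g) z ζ hζz

end LocDimProdH8
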