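import Mathlib
import Groth.Prelude.Def_Flat
import Groth.Agent.Lib.LocDimProd_helper8
import Groth.Agent.Lib.FibLoc_helper8
import Groth.Agent.Lib.TopDimLoc_helper8
import Groth.Agent.Lib.FlatFibDim_helper8

/-! Local dimension in arbitrary pullback squares over a field; constant local dimension implies
equidimensional. -/

universe u
open AlgebraicGeometry CategoryTheory CategoryTheory.Limits

namespace LocDimProdH8

theorem localDim_of_isPullback (k : Type u) [Field k] {P X Y : Scheme.{u}}
    {p : P ⟶ X} {q : P ⟶ Y} {f : X ⟶ Spec (CommRingCat.of k)} {g : Y ⟶ Spec (CommRingCat.of k)}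
    [LocallyOfFiniteType f] [LocallyOfFiniteType g] (sq : IsPullback p q f g) (z : P) :
    FlatMor.localDim ↥P z = FlatMor.localDim ↥X (p z) + FlatMor.localDim ↥Y (q z) := by
  have h1 := Groth.Agent.FibLocH8.localDim_homeomorph (Scheme.homeoOfIso sq.isoPullback) z
  have h2 : (Scheme.homeoOfIso sq.isoPullback) z = sq.isoPullback.hom z := rfl
  rw [← h1, h2, localDim_pullback k f g]
  congr 2
  · rw [← Scheme.Hom.comp_apply, sq.isoPullback_hom_fst]
  · rw [← Scheme.Hom.comp_apply, sq.isoPullback_hom_snd]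

/-- constant local dimension implies equidimensionality. -/
theorem equidim_of_localDim_const (k : Type u) [Field k] (T : Scheme.{u})
    (f : T ⟶ Spec (CommRingCat.of k)) [LocallyOfFiniteType f]
    (h : ∀ a b : T, FlatMor.localDim ↥T a = FlatMor.localDim ↥T b) :
    (∀ Z ∈ irreducibleComponents ↥T, topologicalKrullDim ↥Z = topologicalKrullDim ↥T) ∧
      ∀ t : T, FlatMor.localDim ↥T t = topologicalKrullDim ↥T := by
  letI ovT : T.Over (Spec (CommRingCat.of k)) := ⟨f⟩
  haveI : LocallyOfFiniteType (T ↘ Spec (CommRingCat.of k)) := ‹LocallyOfFiniteType f›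
  have key : ∀ t : T, FlatMor.localDim ↥T t = topologicalKrullDim ↥T := by
    intro t
    apply le_antisymm (TopDimLocH8.localDim_le_topDim T t)
    rw [TopDimLocH8.topDim_le_iff_forall_localDim]
    intro u
    exact (h u t).le
  refine ⟨?_, key⟩
  intro Z hZ
  obtain ⟨ζ, -, hζmax, hdim⟩ :=
    Groth.Agent.FlatFibDimH8.exists_generic_of_mem_irreducibleComponents T Z hZ
  rw [hdim, ← key ζ, localDim_eq k T ζ, Order.coheight_eq_zero.mpr hζmax, zero_add]

/-- local dimensions are finite. -/
theorem exists_localDim_nat (k : Type u) [Field k] (T : Scheme.{u})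
    (f : T ⟶ Spec (CommRingCat.of k)) [LocallyOfFiniteType f] (t : T) :
    ∃ n : ℕ, FlatMor.localDim ↥T t = ((n : ℕ) : WithBot ℕ∞) := by
  letI ovT : T.Over (Spec (CommRingCat.of k)) := ⟨f⟩
  haveI : LocallyOfFiniteType (T ↘ Spec (CommRingCat.of k)) := ‹LocallyOfFiniteType f›
  obtain ⟨n, hn, -⟩ := Groth.Agent.HtTrdegH8.height_eq_trdeg k T t
  obtain ⟨b, hb⟩ := FieldExtH8.exists_stalk_dim_nat k T t
  exact ⟨n + b, Groth.Agent.LocDimSchH8.localDim_scheme k T t n b hn hb⟩

end LocDimProdH8
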