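import Mathlib

/-!
# Connected components of Noetherian spaces are open; homeomorphisms and components (helper3)
-/

set_option autoImplicit false
open TopologicalSpace

namespace Groth.Agent.Lib.NoethConn_helper3

theorem isOpen_connectedComponent_of_noetherianSpace {X : Type*} [TopologicalSpace X]
    [NoetherianSpace X] (x : X) : IsOpen (connectedComponent x) := by
  have hfin := NoetherianSpace.finite_irreducibleComponents (α := X)
  have hcompl : (connectedComponent x)ᶜ =
      ⋃ Z ∈ {Z ∈ irreducibleComponents X | ¬ Z ⊆ connectedComponent x}, Z := by
    ext y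
    simp only [Set.mem_compl_iff, Set.mem_iUnion, Set.mem_setOf_eq, exists_prop]
    constructor
    · intro hy
      exact ⟨irreducibleComponent y, ⟨irreducibleComponent_mem_irreducibleComponents y,
        fun h => hy (h mem_irreducibleComponent)⟩, mem_irreducibleComponent⟩
    · rintro ⟨Z, ⟨hZ, hZx⟩, hyZ⟩ hy
      apply hZx
      have h1 : Z ⊆ connectedComponent y :=
        hZ.1.isPreirreducible.isPreconnected.subset_connectedComponent hyZ
      rwa [connectedComponent_eq hy]
  rw [← isClosed_compl_iff, hcompl]
  exact (hfin.subset (fun Z hZ => hZ.1)).isClosed_biUnion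
    fun Z hZ => isClosed_of_mem_irreducibleComponents Z hZ.1

theorem Homeomorph.image_connectedComponent' {X Y : Type*} [TopologicalSpace X]
    [TopologicalSpace Y] (h : X ≃ₜ Y) (x : X) :
    h '' connectedComponent x = connectedComponent (h x) := by
  apply subset_antisymm (h.continuous.image_connectedComponent_subset x)
  intro y hy
  have h1 := h.symm.continuous.image_connectedComponent_subset (h x) ⟨y, hy, rfl⟩
  rw [h.symm_apply_apply] at h1
  exact ⟨h.symm y, h1, h.apply_symm_apply y⟩

end Groth.Agent.Lib.NoethConn_helper3
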