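import Groth.Agent.Lib.AbVarTranslate_helper4
import Groth.Agent.Lib.AbVarRigid_lead
import Groth.Agent.Lib.FieldExt3_helper8
import Groth.Agent.Lib.FlatFibDim_helper8
import Groth.Agent.Lib.LocDimProd_helper8
import Groth.Agent.Lib.LocDimProd2_helper8
import Groth.Agent.Lib.SubLocDim_helper8
import Groth.Agent.Lib.FibLoc_helper8
import Groth.Agent.Lib.FibRes2_helper8
import Groth.Agent.Lib.NoethConn_helper3
import Groth.Agent.Lib.ClosedOrbit_lead
import Groth.Prelude.Def_ActBC
import Groth.Statements.S7799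

/-! # Fibres of a morphism from an abelian variety are equidimensional of constant dimension (lead) -/

set_option backward.isDefEq.respectTransparency false
set_option backward.isDefEq.respectTransparency.types false
set_option linter.unusedSimpArgs false
set_option linter.unusedVariables false
set_option linter.unusedSectionVars false
set_option linter.style.longLine false
set_option linter.style.haveILetI false
set_option linter.unnecessarySimpa false
set_option maxHeartbeats 800000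

universe u

open CategoryTheory CategoryTheory.Limits MonoidalCategory CartesianMonoidalCategory MonObj GrpObj
  AlgebraicGeometry Opposite Topology TopologicalSpace

namespace Groth.Agent.Lib.AbFibDim

/-- fibre dimension as local dimension of the set-theoretic fibre -/
theorem fibreDimAt_eq_preimage {X Y : Scheme.{u}} (f : X ⟶ Y) (x : X) :
    FlatMor.fibreDimAt f x = FlatMor.localDim ↥(f ⁻¹' {f x}) ⟨x, rfl⟩ := by
  have h := Groth.Agent.FibLocH8.localDim_homeomorph (f.fiberHomeo (f x)) (f.asFiber x)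
  have e : f.fiberHomeo (f x) (f.asFiber x) = ⟨x, rfl⟩ := by
    apply Subtype.ext
    rw [Scheme.Hom.fiberHomeo_apply]
    exact f.fiberι_asFiber x
  rw [← FieldExtH8.localDim_fiber_eq_fibreDimAt f (f x) (f.asFiber x) x (f.fiberι_asFiber x),
    ← h, e]

theorem localDim_cc {T : Type*} [TopologicalSpace T] [NoetherianSpace T] (F : Set T) (x : T)
    (hx : x ∈ F) :
    FlatMor.localDim ↥(connectedComponentIn F x) ⟨x, mem_connectedComponentIn hx⟩ =
      FlatMor.localDim ↥F ⟨x, hx⟩ := by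
  have hop : IsOpen (connectedComponent (⟨x, hx⟩ : ↥F)) :=
    Groth.Agent.Lib.NoethConn_helper3.isOpen_connectedComponent_of_noetherianSpace _
  obtain ⟨U, hU, hUe⟩ := isOpen_induced_iff.mp hop
  have hcc : connectedComponentIn F x = Subtype.val '' connectedComponent (⟨x, hx⟩ : ↥F) :=
    connectedComponentIn_eq_image hx
  refine SubLocDimH8.localDim_eq_of_nhd (connectedComponentIn F x) F
    (connectedComponentIn_subset F x) x (mem_connectedComponentIn hx) U hU ?_ ?_
  · have : (⟨x, hx⟩ : ↥F) ∈ Subtype.val ⁻¹' U := by rw [hUe]; exact mem_connectedComponent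
    exact this
  · rintro z ⟨hzU, hzF⟩
    rw [hcc]
    refine ⟨⟨z, hzF⟩, ?_, rfl⟩
    rw [← hUe]; exact hzU

/-- fibre dimension as the local dimension of the connected component of the fibre -/
theorem fibreDimAt_eq_cc {X Y : Scheme.{u}} (f : X ⟶ Y) [NoetherianSpace X] (x : X) :
    FlatMor.fibreDimAt f x =
      FlatMor.localDim ↥(connectedComponentIn (f ⁻¹' {f x}) x)
        ⟨x, mem_connectedComponentIn (show x ∈ f ⁻¹' {f x} from rfl)⟩ := by
  rw [fibreDimAt_eq_preimage]
  exact (localDim_cc (f ⁻¹' {f x}) x rfl).symm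

section core

variable {k : Type u} [Field k]

theorem transl_comp (A : Over (Spec (CommRingCat.of k))) [GrpObj A]
    (c d : 𝟙_ (Over (Spec (CommRingCat.of k))) ⟶ A) :
    ((toUnit A ≫ c) * 𝟙 A) ≫ ((toUnit A ≫ d) * 𝟙 A) = (toUnit A ≫ (d * c)) * 𝟙 A := by
  have h7 : ((toUnit A ≫ c) * 𝟙 A) ≫ toUnit A = toUnit A := toUnit_unique _ _
  rw [MonObj.comp_mul, Category.comp_id, ← Category.assoc, h7, ← _root_.mul_assoc,
    ← MonObj.comp_mul]

theorem transl_one (A : Over (Spec (CommRingCat.of k))) [GrpObj A] :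
    (toUnit A ≫ (1 : 𝟙_ (Over (Spec (CommRingCat.of k))) ⟶ A)) * 𝟙 A = 𝟙 A := by
  rw [MonObj.comp_one, _root_.one_mul]

/-- the fibre dimension of a morphism from an abelian variety to a separated scheme is the same
at any two rational points -/
theorem core (A : Over (Spec (CommRingCat.of k))) [GrpObj A] [IsProper A.hom] [IsIntegral A.left]
    {Y : Scheme.{u}} (q : Y ⟶ Spec (CommRingCat.of k)) [IsSeparated q] (f : A.left ⟶ Y)
    (hf : f ≫ q = A.hom) (a b : 𝟙_ (Over (Spec (CommRingCat.of k))) ⟶ A)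
    (pt : ↥(𝟙_ (Over (Spec (CommRingCat.of k)))).left) :
    FlatMor.fibreDimAt f (a.left pt) = FlatMor.fibreDimAt f (b.left pt) := by
  haveI : IsNoetherianRing (CommRingCat.of k) := inferInstanceAs (IsNoetherianRing k)
  haveI : IsLocallyNoetherian A.left := LocallyOfFiniteType.isLocallyNoetherian A.hom
  haveI : CompactSpace A.left := QuasiCompact.compactSpace_of_compactSpace A.hom
  haveI : IsNoetherian A.left := {}
  haveI : NoetherianSpace A.left := inferInstance
  obtain ⟨c, hc⟩ : ∃ c : 𝟙_ (Over (Spec (CommRingCat.of k))) ⟶ A, c = b * a⁻¹ := ⟨_, rfl⟩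
  have hca : c * a = b := by rw [hc, _root_.inv_mul_cancel_right]
  have hcb : c⁻¹ * b = a := by rw [← hca, _root_.inv_mul_cancel_left]
  obtain ⟨τ, hτ⟩ : ∃ τ : A ⟶ A, τ = (toUnit A ≫ c) * 𝟙 A := ⟨_, rfl⟩
  obtain ⟨τ', hτ'⟩ : ∃ τ' : A ⟶ A, τ' = (toUnit A ≫ c⁻¹) * 𝟙 A := ⟨_, rfl⟩
  have h1 := Groth.Agent.Lib.AbVarTranslateH4.translate_subset A q f hf a c pt
  have h2 := Groth.Agent.Lib.AbVarTranslateH4.translate_subset A q f hf b c⁻¹ pt
  rw [hca, ← hτ] at h1
  rw [hcb, ← hτ'] at h2
  have hττ' : τ ≫ τ' = 𝟙 A := by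
    rw [hτ, hτ', transl_comp, _root_.inv_mul_cancel, transl_one]
  have hτ'τ : τ' ≫ τ = 𝟙 A := by
    rw [hτ, hτ', transl_comp, _root_.mul_inv_cancel, transl_one]
  have haτ : a ≫ τ = b := by
    have h0 : a ≫ toUnit A = 𝟙 _ := toUnit_unique _ _
    rw [hτ, MonObj.comp_mul, Category.comp_id, ← Category.assoc, h0, Category.id_comp, hca]
  have hτa : τ.left (a.left pt) = b.left pt := congrArg (fun t => t.left pt) haτ
  let φ : ↥(connectedComponentIn (f ⁻¹' {f (a.left pt)}) (a.left pt)) ≃ₜ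
      ↥(connectedComponentIn (f ⁻¹' {f (b.left pt)}) (b.left pt)) :=
    { toFun := fun z => ⟨τ.left z.1, h1 ⟨z.1, z.2, rfl⟩⟩
      invFun := fun z => ⟨τ'.left z.1, h2 ⟨z.1, z.2, rfl⟩⟩
      left_inv := fun z => Subtype.ext (congrArg (fun t => t.left z.1) hττ')
      right_inv := fun z => Subtype.ext (congrArg (fun t => t.left z.1) hτ'τ)
      continuous_toFun :=
        Continuous.subtype_mk (τ.left.continuous.comp continuous_subtype_val) _
      continuous_invFun :=
        Continuous.subtype_mk (τ'.left.continuous.comp continuous_subtype_val) _ }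
  rw [fibreDimAt_eq_cc f (a.left pt), fibreDimAt_eq_cc f (b.left pt)]
  have h3 := Groth.Agent.FibLocH8.localDim_homeomorph φ
    ⟨a.left pt, mem_connectedComponentIn (show a.left pt ∈ f ⁻¹' {f (a.left pt)} from rfl)⟩
  have e : φ ⟨a.left pt,
      mem_connectedComponentIn (show a.left pt ∈ f ⁻¹' {f (a.left pt)} from rfl)⟩ =
      ⟨b.left pt, mem_connectedComponentIn (show b.left pt ∈ f ⁻¹' {f (b.left pt)} from rfl)⟩ :=
    Subtype.ext hτa
  rw [e] at h3
  exact h3.symm

end core

section bc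

variable {k : Type u} [Field k]

theorem const_pts (X : Over (Spec (CommRingCat.of k))) [GrpObj X] [IsProper X.hom]
    [GeometricallyIntegral X.hom] {Y : Scheme.{u}} (q : Y ⟶ Spec (CommRingCat.of k))
    [IsSeparated q] (f : X.left ⟶ Y) (hf : f ≫ q = X.hom) (K : Type u) [Field K]
    (p₁ p₂ : Spec (CommRingCat.of K) ⟶ X.left) (hp : p₁ ≫ X.hom = p₂ ≫ X.hom)
    (pt : ↥(Spec (CommRingCat.of K))) :
    FlatMor.fibreDimAt f (p₁ pt) = FlatMor.fibreDimAt f (p₂ pt) := by
  haveI : LocallyOfFiniteType f := by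
    haveI : LocallyOfFiniteType (f ≫ q) := by rw [hf]; infer_instance
    exact locallyOfFiniteType_of_comp f q
  obtain ⟨g, hg⟩ : ∃ g : Spec (CommRingCat.of K) ⟶ Spec (CommRingCat.of k), g = p₁ ≫ X.hom :=
    ⟨_, rfl⟩
  haveI : IsProper (Red.bc g X).hom := inferInstanceAs (IsProper (pullback.snd X.hom g))
  haveI : GeometricallyIntegral (Red.bc g X).hom :=
    inferInstanceAs (GeometricallyIntegral (pullback.snd X.hom g))
  haveI : IsIntegral (Red.bc g X).left :=
    Groth.Agent.Lib.Rigidity.integral_of_geomIntegral _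
  obtain ⟨f', hf'⟩ : ∃ f' : (Red.bc g X).left ⟶ pullback q g,
      f' = pullback.lift (pullback.fst X.hom g ≫ f) (pullback.snd X.hom g)
        (by rw [Category.assoc, hf, pullback.condition]) := ⟨_, rfl⟩
  have hf'1 : f' ≫ pullback.fst q g = pullback.fst X.hom g ≫ f := by
    rw [hf', pullback.lift_fst]
  have hf'2 : f' ≫ pullback.snd q g = pullback.snd X.hom g := by
    rw [hf', pullback.lift_snd]
  have sq : IsPullback (pullback.fst X.hom g) f' f (pullback.fst q g) := by
    refine IsPullback.of_bot ?_ hf'1.symm (IsPullback.of_hasPullback q g)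
    rw [hf'2, hf]
    exact IsPullback.of_hasPullback X.hom g
  have h01 : p₁ ≫ X.hom = 𝟙 _ ≫ g := by rw [Category.id_comp, hg]
  have h02 : p₂ ≫ X.hom = 𝟙 _ ≫ g := by rw [Category.id_comp, hg, hp]
  have h11 : pullback.lift p₁ (𝟙 _) h01 ≫ pullback.snd X.hom g = 𝟙 _ := pullback.lift_snd _ _ _
  have h12 : pullback.lift p₂ (𝟙 _) h02 ≫ pullback.snd X.hom g = 𝟙 _ := pullback.lift_snd _ _ _
  obtain ⟨a₁, ha₁⟩ : ∃ a₁ : 𝟙_ (Over (Spec (CommRingCat.of K))) ⟶ Red.bc g X,
      a₁.left ≫ pullback.fst X.hom g = p₁ :=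
    ⟨Over.homMk (pullback.lift p₁ (𝟙 _) h01) h11, pullback.lift_fst _ _ _⟩
  obtain ⟨a₂, ha₂⟩ : ∃ a₂ : 𝟙_ (Over (Spec (CommRingCat.of K))) ⟶ Red.bc g X,
      a₂.left ≫ pullback.fst X.hom g = p₂ :=
    ⟨Over.homMk (pullback.lift p₂ (𝟙 _) h02) h12, pullback.lift_fst _ _ _⟩
  have e1 : FlatMor.fibreDimAt f' (a₁.left pt) = FlatMor.fibreDimAt f (p₁ pt) := by
    rw [FieldExtH8.fibreDimAt_baseChange f (pullback.fst q g) (pullback.fst X.hom g) f' sq
      (a₁.left pt), ← ha₁]
    rfl
  have e2 : FlatMor.fibreDimAt f' (a₂.left pt) = FlatMor.fibreDimAt f (p₂ pt) := by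
    rw [FieldExtH8.fibreDimAt_baseChange f (pullback.fst q g) (pullback.fst X.hom g) f' sq
      (a₂.left pt), ← ha₂]
    rfl
  have key := core (Red.bc g X) (pullback.snd q g) f' hf'2 a₁ a₂ pt
  rw [← e1, ← e2]
  exact key

theorem const (X : Over (Spec (CommRingCat.of k))) [GrpObj X] [IsProper X.hom]
    [GeometricallyIntegral X.hom] {Y : Scheme.{u}} (q : Y ⟶ Spec (CommRingCat.of k))
    [IsSeparated q] (f : X.left ⟶ Y) (hf : f ≫ q = X.hom) (x₁ x₂ : X.left) :
    FlatMor.fibreDimAt f x₁ = FlatMor.fibreDimAt f x₂ := by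
  haveI hsub : Subsingleton ↥(Spec (CommRingCat.of k)) :=
    inferInstanceAs (Subsingleton (PrimeSpectrum k))
  obtain ⟨w, hw1, hw2⟩ := Groth.Agent.Lib.ClosedOrbit.exists_of_isPullback
    (IsPullback.of_hasPullback X.hom X.hom) x₁ x₂ (Subsingleton.elim _ _)
  obtain ⟨pt⟩ : Nonempty ↥(Spec (CommRingCat.of ((pullback X.hom X.hom).residueField w))) :=
    (inferInstance : Nonempty (PrimeSpectrum ((pullback X.hom X.hom).residueField w)))
  have h := const_pts X q f hf ((pullback X.hom X.hom).residueField w)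
    ((pullback X.hom X.hom).fromSpecResidueField w ≫ pullback.fst X.hom X.hom)
    ((pullback X.hom X.hom).fromSpecResidueField w ≫ pullback.snd X.hom X.hom)
    (by rw [Category.assoc, Category.assoc, pullback.condition]) pt
  have hpt : (pullback X.hom X.hom).fromSpecResidueField w pt = w :=
    Scheme.fromSpecResidueField_apply w pt
  have e1 : ((pullback X.hom X.hom).fromSpecResidueField w ≫ pullback.fst X.hom X.hom) pt = x₁ := by
    rw [Scheme.Hom.comp_apply, hpt, hw1]
  have e2 : ((pullback X.hom X.hom).fromSpecResidueField w ≫ pullback.snd X.hom X.hom) pt = x₂ := by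
    rw [Scheme.Hom.comp_apply, hpt, hw2]
  exact (congrArg (FlatMor.fibreDimAt f) e1).symm.trans
    (h.trans (congrArg (FlatMor.fibreDimAt f) e2))

end bc

theorem main7799 (k : Type u) [Field k] (X : Over (Spec (CommRingCat.of k)))
    [GrpObj X] [IsProper X.hom] [GeometricallyIntegral X.hom]
    {Y : Scheme.{u}} (q : Y ⟶ Spec (CommRingCat.of k)) [IsSeparated q] (f : X.left ⟶ Y)
    (hf : f ≫ q = X.hom) :
    ∃ d : ℕ, ∀ (y : Y) (Z : Set ↥(f.fiber y)), Z ∈ irreducibleComponents ↥(f.fiber y) →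
      topologicalKrullDim ↥Z = d := by
  haveI : LocallyOfFiniteType f := by
    haveI : LocallyOfFiniteType (f ≫ q) := by rw [hf]; infer_instance
    exact locallyOfFiniteType_of_comp f q
  obtain ⟨pt₀⟩ : Nonempty ↥(𝟙_ (Over (Spec (CommRingCat.of k)))).left :=
    (inferInstance : Nonempty (PrimeSpectrum k))
  obtain ⟨x₀, hx₀⟩ : ∃ x₀ : X.left, x₀ = η[X].left pt₀ := ⟨_, rfl⟩
  haveI := Groth.Agent.FibRes2H8.lft_fiber f (f x₀)
  obtain ⟨d, hd⟩ := LocDimProdH8.exists_localDim_nat (Y.residueField (f x₀)) (f.fiber (f x₀))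
    (f.fiberToSpecResidueField (f x₀)) (f.asFiber x₀)
  have hd' : FlatMor.fibreDimAt f x₀ = d := by
    rw [← FieldExtH8.localDim_fiber_eq_fibreDimAt f (f x₀) (f.asFiber x₀) x₀
      (f.fiberι_asFiber x₀)]
    exact hd
  refine ⟨d, fun y Z hZ => ?_⟩
  obtain ⟨z₀, -, hmax, hdim⟩ :=
    Groth.Agent.FlatFibDimH8.exists_generic_of_mem_irreducibleComponents (f.fiber y) Z hZ
  rw [hdim]
  letI ov : (f.fiber y).Over (Spec (CommRingCat.of (Y.residueField y))) :=
    ⟨f.fiberToSpecResidueField y⟩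
  haveI : LocallyOfFiniteType ((f.fiber y) ↘ Spec (CommRingCat.of (Y.residueField y))) :=
    Groth.Agent.FibRes2H8.lft_fiber f y
  have h1 := LocDimProdH8.localDim_eq (Y.residueField y) (f.fiber y) z₀
  rw [Order.coheight_eq_zero.mpr hmax, zero_add] at h1
  rw [← h1, FieldExtH8.localDim_fiber_eq_fibreDimAt f y z₀ _ rfl, const X q f hf _ x₀, hd']

end Groth.Agent.Lib.AbFibDim
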