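import Mathlib
import Groth.Prelude

/-!
# Subobjects in abelian categories: preimages, intersections and sums (helper6)

* `le_pre_iff`, `pre_strictMono`, `pre_bot`, `pre_top`, `preFactorIso`: preimages of subobjects
  under an epimorphism (`Subobject.pullback`) and the induced isomorphisms on factors.
* `diffMap`, `imageSubobject_diffMap`, `kernelDiffMapIso`: the sequence
  `0 → S ⊓ T → S ⊞ T → S ⊔ T → 0`.
* `kerImSC`, `cokerSC`, `biprodSC` and their exactness.
APPEND-ONLY once landed.
-/

set_option autoImplicit false
set_option linter.all false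
set_option maxHeartbeats 1600000

universe u v
open CategoryTheory CategoryTheory.Limits

namespace Groth.Agent.Lib.AbFilt

variable {C : Type u} [Category.{v} C] [Abelian C]

theorem factors_iff_comp_cokernel {E : C} (T : Subobject E) {W : C} (f : W ⟶ E) :
    T.Factors f ↔ f ≫ cokernel.π T.arrow = 0 := by
  constructor
  · intro h
    rw [← Subobject.factorThru_arrow T f h, Category.assoc, cokernel.condition, comp_zero]
  · intro h
    have hk := Abelian.monoIsKernelOfCokernel (f := T.arrow) _ (cokernelIsCokernel T.arrow)
    let l := hk.lift (KernelFork.ofι f h)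
    have hl : l ≫ T.arrow = f := hk.fac (KernelFork.ofι f h) WalkingParallelPair.zero
    rw [← hl]
    exact Subobject.factors_comp_arrow l

theorem exists_lift_of_comp_cokernel {A B : C} (m : A ⟶ B) [Mono m] {W : C} (x : W ⟶ B)
    (hx : x ≫ cokernel.π m = 0) : ∃ y : W ⟶ A, y ≫ m = x := by
  have hk := Abelian.monoIsKernelOfCokernel (f := m) _ (cokernelIsCokernel m)
  exact ⟨hk.lift (KernelFork.ofι x hx), hk.fac (KernelFork.ofι x hx) WalkingParallelPair.zero⟩

theorem le_iff_factors {E : C} (R S : Subobject E) : R ≤ S ↔ S.Factors R.arrow := by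
  constructor
  · intro h; exact Subobject.factors_of_le _ h (Subobject.factors_self R)
  · intro h
    exact Subobject.le_of_comm (S.factorThru R.arrow h) (Subobject.factorThru_arrow _ _ _)

/-- a morphism into `B` factors through `ofLE A B` iff its composite with `B.arrow` factors
through `A`. -/
theorem exists_lift_ofLE {E : C} {A B : Subobject E} (h : A ≤ B) {W : C} (x : W ⟶ (B : C))
    (hx : A.Factors (x ≫ B.arrow)) : ∃ z : W ⟶ (A : C), z ≫ Subobject.ofLE A B h = x := by
  refine ⟨A.factorThru _ hx, ?_⟩
  rw [← cancel_mono B.arrow, Category.assoc, Subobject.ofLE_arrow, Subobject.factorThru_arrow]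

section Pre

variable {E Q : C} (π : E ⟶ Q)

theorem le_pre_iff (R : Subobject E) (T : Subobject Q) :
    R ≤ (Subobject.pullback π).obj T ↔ T.Factors (R.arrow ≫ π) := by
  rw [le_iff_factors, Limits.pullback_factors_iff]

theorem pre_mono {T T' : Subobject Q} (h : T ≤ T') :
    (Subobject.pullback π).obj T ≤ (Subobject.pullback π).obj T' :=
  (Subobject.pullback π).monotone h

instance epi_pullbackπ [Epi π] (T : Subobject Q) : Epi (Subobject.pullbackπ π T) :=
  Abelian.epi_fst_of_isLimit _ _ (Subobject.isPullback π T).isLimit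

theorem pullbackπ_arrow (T : Subobject Q) :
    Subobject.pullbackπ π T ≫ T.arrow = ((Subobject.pullback π).obj T).arrow ≫ π :=
  (Subobject.isPullback π T).w

theorem le_of_pre_le [Epi π] {T T' : Subobject Q}
    (h : (Subobject.pullback π).obj T' ≤ (Subobject.pullback π).obj T) : T' ≤ T := by
  rw [le_iff_factors, factors_iff_comp_cokernel]
  rw [← cancel_epi (Subobject.pullbackπ π T'), comp_zero, ← Category.assoc,
    pullbackπ_arrow, ← factors_iff_comp_cokernel, ← le_pre_iff]
  exact h

theorem pre_strictMono [Epi π] : StrictMono (Subobject.pullback π).obj := by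
  intro T T' h
  refine lt_of_le_of_ne (pre_mono π h.le) ?_
  intro he
  exact absurd (le_of_pre_le π he.ge) (not_le_of_gt h)

theorem pre_top : (Subobject.pullback π).obj ⊤ = ⊤ := Subobject.pullback_top π

theorem pre_bot (S : Subobject E) :
    (Subobject.pullback (cokernel.π S.arrow)).obj ⊥ = S := by
  apply le_antisymm
  · rw [le_iff_factors, factors_iff_comp_cokernel, ← Subobject.bot_factors_iff_zero,
      ← le_pre_iff]
  · rw [le_pre_iff, Subobject.bot_factors_iff_zero, cokernel.condition]

/-- the induced isomorphism on factors of a pulled back pair. -/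
noncomputable def preFactorIso [Epi π] {T T' : Subobject Q} (h : T ≤ T') :
    cokernel (Subobject.ofLE _ _ (pre_mono π h)) ≅ cokernel (Subobject.ofLE T T' h) := by
  let u' := Subobject.pullbackπ π T'
  let u := Subobject.pullbackπ π T
  let c := cokernel.π (Subobject.ofLE T T' h)
  have hsq : Subobject.ofLE _ _ (pre_mono π h) ≫ u' = u ≫ Subobject.ofLE T T' h := by
    rw [← cancel_mono T'.arrow, Category.assoc, Category.assoc, Subobject.ofLE_arrow]
    show _ ≫ Subobject.pullbackπ π T' ≫ T'.arrow = Subobject.pullbackπ π T ≫ T.arrow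
    rw [pullbackπ_arrow, pullbackπ_arrow, ← Category.assoc, Subobject.ofLE_arrow]
  have w : Subobject.ofLE _ _ (pre_mono π h) ≫ (u' ≫ c) = 0 := by
    rw [← Category.assoc, hsq, Category.assoc, cokernel.condition, comp_zero]
  have hlim : IsLimit (KernelFork.ofι (Subobject.ofLE _ _ (pre_mono π h)) w) := by
    apply KernelFork.IsLimit.ofι'
    intro A x hx
    have hx' : (x ≫ u') ≫ cokernel.π (Subobject.ofLE T T' h) = 0 := by
      rw [Category.assoc]; exact hx
    have hfac : ((Subobject.pullback π).obj T).Factors
        (x ≫ ((Subobject.pullback π).obj T').arrow) := by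
      obtain ⟨y, hy⟩ := exists_lift_of_comp_cokernel (Subobject.ofLE T T' h) (x ≫ u') hx'
      rw [Limits.pullback_factors_iff]
      have : (x ≫ ((Subobject.pullback π).obj T').arrow) ≫ π = y ≫ T.arrow := by
        rw [Category.assoc, ← pullbackπ_arrow, ← Category.assoc]
        show (x ≫ u') ≫ T'.arrow = _
        rw [← hy, Category.assoc, Subobject.ofLE_arrow]
      rw [this]
      exact Subobject.factors_comp_arrow y
    exact ⟨Classical.choose (exists_lift_ofLE (pre_mono π h) x hfac),
      Classical.choose_spec (exists_lift_ofLE (pre_mono π h) x hfac)⟩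
  haveI : Epi (u' ≫ c) := epi_comp _ _
  have hcolim := Abelian.epiIsCokernelOfKernel _ hlim
  exact (cokernelIsCokernel _).coconePointUniqueUpToIso hcolim

end Pre

section Lattice

variable {E : C} (S T : Subobject E)

/-- the difference map `S ⊞ T ⟶ E`. -/
noncomputable def diffMap : (S : C) ⊞ (T : C) ⟶ E := biprod.desc S.arrow (-T.arrow)

theorem imageSubobject_diffMap : imageSubobject (diffMap S T) = S ⊔ T := by
  apply le_antisymm
  · refine imageSubobject_le (diffMap S T)
      (biprod.desc (Subobject.ofLE S (S ⊔ T) le_sup_left)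
        (-(Subobject.ofLE T (S ⊔ T) le_sup_right))) ?_
    apply biprod.hom_ext'
    · simp [diffMap]
    · simp [diffMap]
  · apply sup_le
    · refine Subobject.le_of_comm (biprod.inl ≫ factorThruImageSubobject (diffMap S T)) ?_
      rw [Category.assoc, imageSubobject_arrow_comp]
      simp [diffMap]
    · refine Subobject.le_of_comm ((-biprod.inr) ≫ factorThruImageSubobject (diffMap S T)) ?_
      rw [Category.assoc, imageSubobject_arrow_comp]
      simp [diffMap]

/-- first projection from the kernel of the difference map. -/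
noncomputable def kerFst : kernel (diffMap S T) ⟶ (S : C) := kernel.ι _ ≫ biprod.fst
/-- second projection from the kernel of the difference map. -/
noncomputable def kerSnd : kernel (diffMap S T) ⟶ (T : C) := kernel.ι _ ≫ biprod.snd

theorem comp_diffMap {W : C} (x : W ⟶ (S : C) ⊞ (T : C)) :
    x ≫ diffMap S T = (x ≫ biprod.fst) ≫ S.arrow - (x ≫ biprod.snd) ≫ T.arrow := by
  have : x = biprod.lift (x ≫ biprod.fst) (x ≫ biprod.snd) := by
    apply biprod.hom_ext <;> simp
  conv_lhs => rw [this]
  unfold diffMap
  rw [biprod.lift_desc, Preadditive.comp_neg, sub_eq_add_neg]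

theorem kerFst_arrow : kerFst S T ≫ S.arrow = kerSnd S T ≫ T.arrow := by
  have h : kernel.ι (diffMap S T) ≫ diffMap S T = 0 := kernel.condition _
  rw [comp_diffMap] at h
  exact sub_eq_zero.mp h

instance mono_kerFst_arrow : Mono (kerFst S T ≫ S.arrow) := by
  rw [Preadditive.mono_iff_cancel_zero]
  intro W x hx
  have h1 : x ≫ kerFst S T = 0 := by
    rw [← cancel_mono S.arrow, Category.assoc, hx, zero_comp]
  have h2 : x ≫ kerSnd S T = 0 := by
    rw [← cancel_mono T.arrow, Category.assoc, ← kerFst_arrow, hx, zero_comp]
  rw [← cancel_mono (kernel.ι (diffMap S T)), zero_comp]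
  apply biprod.hom_ext
  · rw [Category.assoc, zero_comp]; exact h1
  · rw [Category.assoc, zero_comp]; exact h2

theorem mk_kerFst_arrow : Subobject.mk (kerFst S T ≫ S.arrow) = S ⊓ T := by
  apply le_antisymm
  · apply le_inf
    · exact Subobject.mk_le_of_comm (kerFst S T) rfl
    · exact Subobject.mk_le_of_comm (kerSnd S T) (kerFst_arrow S T).symm
  · have hz : biprod.lift (Subobject.ofLE (S ⊓ T) S inf_le_left)
        (Subobject.ofLE (S ⊓ T) T inf_le_right) ≫ diffMap S T = 0 := by
      rw [comp_diffMap, biprod.lift_fst, biprod.lift_snd, Subobject.ofLE_arrow,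
        Subobject.ofLE_arrow, sub_self]
    refine Subobject.le_mk_of_comm (kernel.lift _ _ hz) ?_
    unfold kerFst
    rw [← Category.assoc, ← Category.assoc, kernel.lift_ι, biprod.lift_fst, Subobject.ofLE_arrow]

/-- the kernel of the difference map is the intersection. -/
noncomputable def kernelDiffMapIso : kernel (diffMap S T) ≅ ((S ⊓ T : Subobject E) : C) :=
  (Subobject.underlyingIso (kerFst S T ≫ S.arrow)).symm ≪≫
    Subobject.isoOfEq _ _ (mk_kerFst_arrow S T)

/-- the image of the difference map is the sum. -/
noncomputable def imageDiffMapIso :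
    ((imageSubobject (diffMap S T) : Subobject E) : C) ≅ ((S ⊔ T : Subobject E) : C) :=
  Subobject.isoOfEq _ _ (imageSubobject_diffMap S T)

end Lattice

/-- kernel–image short complex of a morphism (with `imageSubobject`). -/
noncomputable def kerImSC {A E : C} (φ : A ⟶ E) : ShortComplex C :=
  ShortComplex.mk (kernel.ι φ) (factorThruImageSubobject φ) (by
    rw [← cancel_mono (imageSubobject φ).arrow, Category.assoc, imageSubobject_arrow_comp,
      kernel.condition, zero_comp])

theorem kerImSC_shortExact {A E : C} (φ : A ⟶ E) : (kerImSC φ).ShortExact := by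
  have hlim : IsLimit (KernelFork.ofι (kerImSC φ).f (kerImSC φ).zero) := by
    apply KernelFork.IsLimit.ofι' (hi := inferInstanceAs (Mono (kernel.ι φ)))
    intro W x hx
    have key : ∀ (x' : W ⟶ A), x' ≫ factorThruImageSubobject φ = 0 → x' ≫ φ = 0 := by
      intro x' h1
      have h2 : x' ≫ φ = (x' ≫ factorThruImageSubobject φ) ≫ (imageSubobject φ).arrow := by
        rw [Category.assoc, imageSubobject_arrow_comp]
      rw [h2, h1, zero_comp]
    exact ⟨kernel.lift φ x (key x hx), kernel.lift_ι _ _ _⟩
  exact ShortComplex.ShortExact.mk' ((kerImSC φ).exact_of_f_is_kernel hlim)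
    (inferInstanceAs (Mono (kernel.ι φ))) (inferInstanceAs (Epi (factorThruImageSubobject φ)))

/-- cokernel short complex of a monomorphism. -/
noncomputable def cokerSC {A B : C} (f : A ⟶ B) : ShortComplex C :=
  ShortComplex.mk f (cokernel.π f) (cokernel.condition f)

theorem cokerSC_shortExact {A B : C} (f : A ⟶ B) [Mono f] : (cokerSC f).ShortExact :=
  ShortComplex.ShortExact.mk' ((cokerSC f).exact_of_g_is_cokernel (cokernelIsCokernel _))
    (inferInstanceAs (Mono f)) (inferInstanceAs (Epi (cokernel.π f)))

/-- the split short complex of a biproduct. -/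
noncomputable def biprodSC (A B : C) : ShortComplex C :=
  ShortComplex.mk (biprod.inl : A ⟶ A ⊞ B) (biprod.snd : A ⊞ B ⟶ B) (by simp)

theorem biprodSC_shortExact (A B : C) : (biprodSC A B).ShortExact :=
  (ShortComplex.Splitting.ofHasBinaryBiproduct A B).shortExact

/-! ### subobjects and zero objects -/

theorem eq_bot_iff_isZero {E : C} (S : Subobject E) : S = ⊥ ↔ IsZero (S : C) := by
  constructor
  · rintro rfl
    exact IsZero.of_iso (isZero_zero C) Subobject.botCoeIsoZero
  · intro h
    apply le_antisymm _ bot_le
    rw [le_iff_factors, Subobject.bot_factors_iff_zero]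
    exact h.eq_of_src _ _

theorem eq_top_iff_isIso {E : C} (S : Subobject E) : S = ⊤ ↔ IsIso S.arrow :=
  (Subobject.isIso_arrow_iff_eq_top S).symm

/-- the cokernel of a morphism out of a zero object. -/
noncomputable def cokernelIsoOfIsZero {A B : C} (f : A ⟶ B) (hA : IsZero A) : cokernel f ≅ B := by
  have hf : f = 0 := hA.eq_of_src _ _
  haveI : Mono f := ⟨fun g h _ => hA.eq_of_tgt g h⟩
  haveI : IsIso (cokernel.π f) := by
    have hmono : Mono (cokernel.π f) := by
      apply Preadditive.mono_of_kernel_zero
      obtain ⟨y, hy⟩ := exists_lift_of_comp_cokernel f (kernel.ι (cokernel.π f))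
        (kernel.condition _)
      rw [← hy, hA.eq_of_tgt y 0, zero_comp]
    exact isIso_of_mono_of_epi _
  exact (asIso (cokernel.π f)).symm

end Groth.Agent.Lib.AbFilt
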