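import Mathlib
import Groth.Prelude

/-!
# The eventual order on reduced polynomials (helper6)

Pure polynomial calculus for `StabCat.RedLE`, `StabCat.RedLT`, `StabCat.RedEq`:
eventual signs of polynomials, trichotomy, transitivity for positive multiplicities, and the
"mean" lemmas for `P = P₁ + P₂`.
APPEND-ONLY once landed.
-/

set_option autoImplicit false
set_option linter.all false
set_option maxHeartbeats 1600000

open Polynomial StabCat Filter

namespace Groth.Agent.Lib.PolyOrd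

theorem eventually_pos_of_leadingCoeff_pos {P : ℚ[X]} (h : 0 < P.leadingCoeff) :
    ∃ N : ℕ, ∀ m : ℕ, N ≤ m → 0 < P.eval (m : ℚ) := by
  by_cases hdeg : 0 < P.degree
  · have h1 := Polynomial.tendsto_atTop_of_leadingCoeff_nonneg P hdeg h.le
    have h2 : Tendsto (fun m : ℕ => P.eval (m : ℚ)) atTop atTop :=
      h1.comp tendsto_natCast_atTop_atTop
    have h3 := h2.eventually_gt_atTop 0
    obtain ⟨N, hN⟩ := Filter.eventually_atTop.1 h3
    exact ⟨N, hN⟩
  · have h1 : P.degree ≤ 0 := not_lt.mp hdeg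
    have h2 := eq_C_of_degree_le_zero h1
    refine ⟨0, fun m _ => ?_⟩
    rw [h2, eval_C]
    rw [h2, leadingCoeff_C] at h
    exact h

theorem eventually_neg_of_leadingCoeff_neg {P : ℚ[X]} (h : P.leadingCoeff < 0) :
    ∃ N : ℕ, ∀ m : ℕ, N ≤ m → P.eval (m : ℚ) < 0 := by
  have h1 : 0 < (-P).leadingCoeff := by rw [leadingCoeff_neg]; linarith
  obtain ⟨N, hN⟩ := eventually_pos_of_leadingCoeff_pos h1
  refine ⟨N, fun m hm => ?_⟩
  have := hN m hm
  rw [eval_neg] at this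
  linarith

/-- a polynomial is zero, eventually positive or eventually negative. -/
theorem sign_trichotomy (P : ℚ[X]) :
    P = 0 ∨ (∃ N : ℕ, ∀ m : ℕ, N ≤ m → 0 < P.eval (m : ℚ)) ∨
      (∃ N : ℕ, ∀ m : ℕ, N ≤ m → P.eval (m : ℚ) < 0) := by
  by_cases h0 : P = 0
  · exact Or.inl h0
  · rcases lt_trichotomy P.leadingCoeff 0 with h | h | h
    · exact Or.inr (Or.inr (eventually_neg_of_leadingCoeff_neg h))
    · exact absurd (leadingCoeff_eq_zero.mp h) h0
    · exact Or.inr (Or.inl (eventually_pos_of_leadingCoeff_pos h))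

/-- the cross-multiplied difference. -/
noncomputable def cross (d : ℕ) (P Q : ℚ[X]) : ℚ[X] := alpha d Q • P - alpha d P • Q

theorem eval_cross (d : ℕ) (P Q : ℚ[X]) (x : ℚ) :
    (cross d P Q).eval x = alpha d Q * P.eval x - alpha d P * Q.eval x := by
  unfold cross
  rw [eval_sub, eval_smul, eval_smul, smul_eq_mul, smul_eq_mul]

theorem redLE_iff {d : ℕ} {P Q : ℚ[X]} :
    RedLE d P Q ↔ ∃ N : ℕ, ∀ m : ℕ, N ≤ m → (cross d P Q).eval (m : ℚ) ≤ 0 := by
  unfold RedLE PolyLE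
  constructor
  · rintro ⟨N, hN⟩
    refine ⟨N, fun m hm => ?_⟩
    have := hN m hm
    rw [eval_smul, eval_smul, smul_eq_mul, smul_eq_mul] at this
    rw [eval_cross]; linarith
  · rintro ⟨N, hN⟩
    refine ⟨N, fun m hm => ?_⟩
    have := hN m hm
    rw [eval_cross] at this
    rw [eval_smul, eval_smul, smul_eq_mul, smul_eq_mul]; linarith

theorem redLT_iff {d : ℕ} {P Q : ℚ[X]} :
    RedLT d P Q ↔ ∃ N : ℕ, ∀ m : ℕ, N ≤ m → (cross d P Q).eval (m : ℚ) < 0 := by
  unfold RedLT PolyLT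
  constructor
  · rintro ⟨N, hN⟩
    refine ⟨N, fun m hm => ?_⟩
    have := hN m hm
    rw [eval_smul, eval_smul, smul_eq_mul, smul_eq_mul] at this
    rw [eval_cross]; linarith
  · rintro ⟨N, hN⟩
    refine ⟨N, fun m hm => ?_⟩
    have := hN m hm
    rw [eval_cross] at this
    rw [eval_smul, eval_smul, smul_eq_mul, smul_eq_mul]; linarith

theorem redEq_iff {d : ℕ} {P Q : ℚ[X]} : RedEq d P Q ↔ cross d P Q = 0 := by
  unfold RedEq cross
  rw [sub_eq_zero]

theorem cross_swap (d : ℕ) (P Q : ℚ[X]) : cross d Q P = - cross d P Q := by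
  unfold cross; ring

theorem redEq_symm {d : ℕ} {P Q : ℚ[X]} (h : RedEq d P Q) : RedEq d Q P := by
  unfold RedEq at *; exact h.symm

theorem redEq_refl (d : ℕ) (P : ℚ[X]) : RedEq d P P := rfl

/-- trichotomy of the reduced comparison. -/
theorem red_trichotomy (d : ℕ) (P Q : ℚ[X]) : RedLT d P Q ∨ RedEq d P Q ∨ RedLT d Q P := by
  rcases sign_trichotomy (cross d P Q) with h | h | h
  · exact Or.inr (Or.inl (redEq_iff.mpr h))
  · right; right
    rw [redLT_iff]
    obtain ⟨N, hN⟩ := h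
    refine ⟨N, fun m hm => ?_⟩
    rw [cross_swap, eval_neg]
    linarith [hN m hm]
  · exact Or.inl (redLT_iff.mpr h)

theorem redLE_of_redLT {d : ℕ} {P Q : ℚ[X]} (h : RedLT d P Q) : RedLE d P Q := by
  obtain ⟨N, hN⟩ := h
  exact ⟨N, fun m hm => (hN m hm).le⟩

theorem redLE_of_redEq {d : ℕ} {P Q : ℚ[X]} (h : RedEq d P Q) : RedLE d P Q := by
  refine ⟨0, fun m _ => ?_⟩
  unfold RedEq at h
  rw [h]

theorem redLE_of_redEq' {d : ℕ} {P Q : ℚ[X]} (h : RedEq d P Q) : RedLE d Q P :=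
  redLE_of_redEq (redEq_symm h)

theorem redLE_refl (d : ℕ) (P : ℚ[X]) : RedLE d P P := ⟨0, fun m _ => le_rfl⟩

theorem not_redLT_of_redLE {d : ℕ} {P Q : ℚ[X]} (h : RedLE d P Q) : ¬ RedLT d Q P := by
  rintro ⟨N2, hN2⟩
  obtain ⟨N1, hN1⟩ := h
  have a1 := hN1 (max N1 N2) (le_max_left _ _)
  have a2 := hN2 (max N1 N2) (le_max_right _ _)
  exact absurd a2 (not_lt.mpr a1)

theorem redLT_irrefl (d : ℕ) (P : ℚ[X]) : ¬ RedLT d P P :=
  not_redLT_of_redLE (redLE_refl d P)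

theorem not_redLE_iff {d : ℕ} {P Q : ℚ[X]} : ¬ RedLE d P Q ↔ RedLT d Q P := by
  constructor
  · intro h
    rcases red_trichotomy d P Q with h1 | h1 | h1
    · exact absurd (redLE_of_redLT h1) h
    · exact absurd (redLE_of_redEq h1) h
    · exact h1
  · intro h h'
    exact not_redLT_of_redLE h' h

theorem not_redLT_iff {d : ℕ} {P Q : ℚ[X]} : ¬ RedLT d P Q ↔ RedLE d Q P := by
  rw [← not_redLE_iff, not_not]

theorem redLE_total (d : ℕ) (P Q : ℚ[X]) : RedLE d P Q ∨ RedLE d Q P := by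
  rcases red_trichotomy d P Q with h1 | h1 | h1
  · exact Or.inl (redLE_of_redLT h1)
  · exact Or.inl (redLE_of_redEq h1)
  · exact Or.inr (redLE_of_redLT h1)

theorem redEq_of_redLE_of_redLE {d : ℕ} {P Q : ℚ[X]} (h1 : RedLE d P Q) (h2 : RedLE d Q P) :
    RedEq d P Q := by
  rcases red_trichotomy d P Q with h | h | h
  · exact absurd h (not_redLT_of_redLE h2)
  · exact h
  · exact absurd h (not_redLT_of_redLE h1)

theorem redLT_or_redEq_of_redLE {d : ℕ} {P Q : ℚ[X]} (h1 : RedLE d P Q) :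
    RedLT d P Q ∨ RedEq d P Q := by
  rcases red_trichotomy d P Q with h | h | h
  · exact Or.inl h
  · exact Or.inr h
  · exact absurd h (not_redLT_of_redLE h1)

theorem not_redLT_of_redEq {d : ℕ} {P Q : ℚ[X]} (h : RedEq d P Q) : ¬ RedLT d P Q :=
  not_redLT_of_redLE (redLE_of_redEq' h)

/-! ### transitivity (positive middle multiplicity) -/

theorem redLE_trans {d : ℕ} {P Q R : ℚ[X]} (hP : 0 ≤ alpha d P) (hQ : 0 < alpha d Q)
    (hR : 0 ≤ alpha d R) (h1 : RedLE d P Q) (h2 : RedLE d Q R) : RedLE d P R := by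
  obtain ⟨N1, hN1⟩ := h1
  obtain ⟨N2, hN2⟩ := h2
  refine ⟨max N1 N2, fun m hm => ?_⟩
  have a1 := hN1 m (le_trans (le_max_left _ _) hm)
  have a2 := hN2 m (le_trans (le_max_right _ _) hm)
  simp only [eval_smul, smul_eq_mul] at a1 a2 ⊢
  have b1 : alpha d R * (alpha d Q * P.eval (m : ℚ)) ≤ alpha d R * (alpha d P * Q.eval (m : ℚ)) :=
    mul_le_mul_of_nonneg_left a1 hR
  have b2 : alpha d P * (alpha d R * Q.eval (m : ℚ)) ≤ alpha d P * (alpha d Q * R.eval (m : ℚ)) :=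
    mul_le_mul_of_nonneg_left a2 hP
  have b3 : alpha d Q * (alpha d R * P.eval (m : ℚ)) ≤ alpha d Q * (alpha d P * R.eval (m : ℚ)) := by
    nlinarith
  exact le_of_mul_le_mul_left b3 hQ

theorem redLT_of_lt_of_le {d : ℕ} {P Q R : ℚ[X]} (hP : 0 ≤ alpha d P) (hQ : 0 < alpha d Q)
    (hR : 0 < alpha d R) (h1 : RedLT d P Q) (h2 : RedLE d Q R) : RedLT d P R := by
  obtain ⟨N1, hN1⟩ := h1
  obtain ⟨N2, hN2⟩ := h2
  refine ⟨max N1 N2, fun m hm => ?_⟩
  have a1 := hN1 m (le_trans (le_max_left _ _) hm)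
  have a2 := hN2 m (le_trans (le_max_right _ _) hm)
  simp only [eval_smul, smul_eq_mul] at a1 a2 ⊢
  have b1 : alpha d R * (alpha d Q * P.eval (m : ℚ)) < alpha d R * (alpha d P * Q.eval (m : ℚ)) :=
    mul_lt_mul_of_pos_left a1 hR
  have b2 : alpha d P * (alpha d R * Q.eval (m : ℚ)) ≤ alpha d P * (alpha d Q * R.eval (m : ℚ)) :=
    mul_le_mul_of_nonneg_left a2 hP
  have b3 : alpha d Q * (alpha d R * P.eval (m : ℚ)) < alpha d Q * (alpha d P * R.eval (m : ℚ)) := by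
    nlinarith
  exact lt_of_mul_lt_mul_left b3 hQ.le

theorem redLT_of_le_of_lt {d : ℕ} {P Q R : ℚ[X]} (hP : 0 < alpha d P) (hQ : 0 < alpha d Q)
    (hR : 0 ≤ alpha d R) (h1 : RedLE d P Q) (h2 : RedLT d Q R) : RedLT d P R := by
  obtain ⟨N1, hN1⟩ := h1
  obtain ⟨N2, hN2⟩ := h2
  refine ⟨max N1 N2, fun m hm => ?_⟩
  have a1 := hN1 m (le_trans (le_max_left _ _) hm)
  have a2 := hN2 m (le_trans (le_max_right _ _) hm)
  simp only [eval_smul, smul_eq_mul] at a1 a2 ⊢
  have b1 : alpha d R * (alpha d Q * P.eval (m : ℚ)) ≤ alpha d R * (alpha d P * Q.eval (m : ℚ)) :=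
    mul_le_mul_of_nonneg_left a1 hR
  have b2 : alpha d P * (alpha d R * Q.eval (m : ℚ)) < alpha d P * (alpha d Q * R.eval (m : ℚ)) :=
    mul_lt_mul_of_pos_left a2 hP
  have b3 : alpha d Q * (alpha d R * P.eval (m : ℚ)) < alpha d Q * (alpha d P * R.eval (m : ℚ)) := by
    nlinarith
  exact lt_of_mul_lt_mul_left b3 hQ.le

theorem redLT_trans {d : ℕ} {P Q R : ℚ[X]} (hP : 0 < alpha d P) (hQ : 0 < alpha d Q)
    (hR : 0 < alpha d R) (h1 : RedLT d P Q) (h2 : RedLT d Q R) : RedLT d P R :=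
  redLT_of_lt_of_le hP.le hQ hR h1 (redLE_of_redLT h2)

theorem alpha_add (d : ℕ) (P Q : ℚ[X]) : alpha d (P + Q) = alpha d P + alpha d Q := by
  unfold alpha; rw [coeff_add]; ring

theorem alpha_zero (d : ℕ) : alpha d (0 : ℚ[X]) = 0 := by
  unfold alpha; rw [coeff_zero, mul_zero]

theorem alpha_smul (d : ℕ) (c : ℚ) (P : ℚ[X]) : alpha d (c • P) = c * alpha d P := by
  unfold alpha; rw [coeff_smul, smul_eq_mul]; ring

theorem redEq_trans {d : ℕ} {P Q R : ℚ[X]} (hQ : alpha d Q ≠ 0)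
    (h1 : RedEq d P Q) (h2 : RedEq d Q R) : RedEq d P R := by
  unfold RedEq at *
  -- αQ P = αP Q ; αR Q = αQ R ⊢ αR P = αP R
  have h3 : alpha d Q • (alpha d R • P) = alpha d Q • (alpha d P • R) := by
    rw [smul_comm, h1, smul_comm, h2, smul_comm]
  exact smul_right_injective _ hQ h3

theorem redLE_congr_left {d : ℕ} {P P' Q : ℚ[X]} (hP : 0 < alpha d P) (hP' : 0 < alpha d P')
    (hQ : 0 ≤ alpha d Q) (he : RedEq d P P') (h : RedLE d P Q) : RedLE d P' Q :=
  redLE_trans hP'.le hP hQ (redLE_of_redEq' he) h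

theorem redLE_congr_right {d : ℕ} {P Q Q' : ℚ[X]} (hP : 0 ≤ alpha d P) (hQ : 0 < alpha d Q)
    (hQ' : 0 < alpha d Q') (he : RedEq d Q Q') (h : RedLE d P Q) : RedLE d P Q' :=
  redLE_trans hP hQ hQ'.le h (redLE_of_redEq he)

/-! ### mean lemmas -/

/-- the key inequality for sums and intersections: from `p(F) ≤ p(G)` and `p(F + G) < p(F)` one
gets `p(G) < p(F ∩ G)`. -/
theorem redLT_inf_of_sup {d : ℕ} {PF PG PI PU : ℚ[X]} (hsum : PF + PG = PI + PU)
    (aF : 0 < alpha d PF) (aG : 0 < alpha d PG) (hIG : alpha d PI ≤ alpha d PG)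
    (h1 : RedLE d PF PG) (h2 : RedLT d PU PF) : RedLT d PG PI := by
  obtain ⟨N1, hN1⟩ := h1
  obtain ⟨N2, hN2⟩ := h2
  refine ⟨max N1 N2, fun m hm => ?_⟩
  have a1 := hN1 m (le_trans (le_max_left _ _) hm)
  have a2 := hN2 m (le_trans (le_max_right _ _) hm)
  simp only [eval_smul, smul_eq_mul] at a1 a2 ⊢
  have hα : alpha d PF + alpha d PG = alpha d PI + alpha d PU := by
    rw [← alpha_add, ← alpha_add, hsum]
  have hev : PF.eval (m : ℚ) + PG.eval (m : ℚ) = PI.eval (m : ℚ) + PU.eval (m : ℚ) := by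
    rw [← eval_add, ← eval_add, hsum]
  set f := PF.eval (m : ℚ)
  set g := PG.eval (m : ℚ)
  set i := PI.eval (m : ℚ)
  set u := PU.eval (m : ℚ)
  set af := alpha d PF
  set ag := alpha d PG
  set ai := alpha d PI
  set au := alpha d PU
  -- a1 : ag * f ≤ af * g ; a2 : af * u < au * f ; goal : ai * g < ag * i
  have key : af * (ai * g - ag * i) = ag * (af * u - au * f) + (ag - ai) * (ag * f - af * g) := by
    have hi : i = f + g - u := by linarith
    have hai : ai = af + ag - au := by linarith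
    rw [hi, hai]; ring
  have t1 : ag * (af * u - au * f) < 0 := mul_neg_of_pos_of_neg aG (by linarith)
  have t2 : (ag - ai) * (ag * f - af * g) ≤ 0 :=
    mul_nonpos_of_nonneg_of_nonpos (by linarith) (by linarith)
  have t3 : af * (ai * g - ag * i) < 0 := by rw [key]; linarith
  have t4 : ai * g - ag * i < 0 := by
    by_contra hcon
    have hcon' : 0 ≤ ai * g - ag * i := not_lt.mp hcon
    have := mul_nonneg aF.le hcon'
    linarith
  linarith

/-- if `P = P₁ + P₂` and `p(P) < p(P₁)` then `p(P₂) < p(P₁)`. -/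
theorem redLT_of_add_left {d : ℕ} {P P1 P2 : ℚ[X]} (h : P = P1 + P2) (a1 : 0 < alpha d P1)
    (h1 : RedLT d P P1) : RedLT d P2 P1 := by
  obtain ⟨N, hN⟩ := h1
  refine ⟨N, fun m hm => ?_⟩
  have b := hN m hm
  simp only [eval_smul, smul_eq_mul] at b ⊢
  have hα : alpha d P = alpha d P1 + alpha d P2 := by rw [h, alpha_add]
  have hev : P.eval (m : ℚ) = P1.eval (m : ℚ) + P2.eval (m : ℚ) := by rw [h, eval_add]
  rw [hα, hev] at b
  nlinarith

/-- if `P = P₁ + P₂` and `p(P) ≤ p(P₁)` then `p(P₂) ≤ p(P₁)`. -/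
theorem redLE_of_add_left {d : ℕ} {P P1 P2 : ℚ[X]} (h : P = P1 + P2)
    (h1 : RedLE d P P1) : RedLE d P2 P1 := by
  obtain ⟨N, hN⟩ := h1
  refine ⟨N, fun m hm => ?_⟩
  have b := hN m hm
  simp only [eval_smul, smul_eq_mul] at b ⊢
  have hα : alpha d P = alpha d P1 + alpha d P2 := by rw [h, alpha_add]
  have hev : P.eval (m : ℚ) = P1.eval (m : ℚ) + P2.eval (m : ℚ) := by rw [h, eval_add]
  rw [hα, hev] at b
  nlinarith

/-- if `P = P₁ + P₂` and `p(P₁) ≤ p(P)` then `p(P) ≤ p(P₂)`. -/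
theorem redLE_quot {d : ℕ} {P P1 P2 : ℚ[X]} (h : P = P1 + P2) (h1 : RedLE d P1 P) :
    RedLE d P P2 := by
  obtain ⟨N, hN⟩ := h1
  refine ⟨N, fun m hm => ?_⟩
  have b := hN m hm
  simp only [eval_smul, smul_eq_mul] at b ⊢
  have hα : alpha d P = alpha d P1 + alpha d P2 := by rw [h, alpha_add]
  have hev : P.eval (m : ℚ) = P1.eval (m : ℚ) + P2.eval (m : ℚ) := by rw [h, eval_add]
  rw [hα, hev] at b ⊢
  nlinarith

/-- if `P = P₁ + P₂` and `p(P₁) < p(P)` then `p(P) < p(P₂)`. -/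
theorem redLT_quot {d : ℕ} {P P1 P2 : ℚ[X]} (h : P = P1 + P2) (h1 : RedLT d P1 P) :
    RedLT d P P2 := by
  obtain ⟨N, hN⟩ := h1
  refine ⟨N, fun m hm => ?_⟩
  have b := hN m hm
  simp only [eval_smul, smul_eq_mul] at b ⊢
  have hα : alpha d P = alpha d P1 + alpha d P2 := by rw [h, alpha_add]
  have hev : P.eval (m : ℚ) = P1.eval (m : ℚ) + P2.eval (m : ℚ) := by rw [h, eval_add]
  rw [hα, hev] at b ⊢
  nlinarith

/-- if `P = P₁ + P₂` and `p(P) ≤ p(P₂)` then `p(P₁) ≤ p(P)`. -/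
theorem redLE_sub_of_quot {d : ℕ} {P P1 P2 : ℚ[X]} (h : P = P1 + P2) (h1 : RedLE d P P2) :
    RedLE d P1 P := by
  obtain ⟨N, hN⟩ := h1
  refine ⟨N, fun m hm => ?_⟩
  have b := hN m hm
  simp only [eval_smul, smul_eq_mul] at b ⊢
  have hα : alpha d P = alpha d P1 + alpha d P2 := by rw [h, alpha_add]
  have hev : P.eval (m : ℚ) = P1.eval (m : ℚ) + P2.eval (m : ℚ) := by rw [h, eval_add]
  rw [hα, hev] at b ⊢
  nlinarith

/-- equal multiplicities and an eventually positive difference give a strict comparison. -/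
theorem redLT_of_alpha_eq {d : ℕ} {P Q R : ℚ[X]} (h : Q = P + R) (hα : alpha d P = alpha d Q)
    (hP : 0 < alpha d P) (hR : PolyLT 0 R) : RedLT d P Q := by
  obtain ⟨N, hN⟩ := hR
  refine ⟨N, fun m hm => ?_⟩
  have b := hN m hm
  simp only [eval_smul, smul_eq_mul, eval_zero] at b ⊢
  have hev : Q.eval (m : ℚ) = P.eval (m : ℚ) + R.eval (m : ℚ) := by rw [h, eval_add]
  rw [← hα, hev]
  nlinarith

/-- if `P = P₁ + P₂` and `p(P₁) = p(P)` then `p(P₂) = p(P)`. -/
theorem redEq_quot {d : ℕ} {P P1 P2 : ℚ[X]} (h : P = P1 + P2) (h1 : RedEq d P1 P) :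
    RedEq d P2 P := by
  unfold RedEq at *
  have hα : alpha d P = alpha d P1 + alpha d P2 := by rw [h, alpha_add]
  have h2 : alpha d P • P2 = alpha d P • P - alpha d P • P1 := by
    rw [← smul_sub]; congr 1; rw [h]; ring
  rw [h2, h1]
  rw [← sub_smul]
  congr 1
  rw [hα]; ring

theorem redEq_of_eq {d : ℕ} {P Q : ℚ[X]} (h : P = Q) : RedEq d P Q := by
  subst h; rfl

/-- if `P = P₁ + P₂` and `p(P) < p(P₂)` then `p(P₁) < p(P)`. -/
theorem redLT_sub_of_quot {d : ℕ} {P P1 P2 : ℚ[X]} (h : P = P1 + P2) (h1 : RedLT d P P2) :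
    RedLT d P1 P := by
  obtain ⟨N, hN⟩ := h1
  refine ⟨N, fun m hm => ?_⟩
  have b := hN m hm
  simp only [eval_smul, smul_eq_mul] at b ⊢
  have hα : alpha d P = alpha d P1 + alpha d P2 := by rw [h, alpha_add]
  have hev : P.eval (m : ℚ) = P1.eval (m : ℚ) + P2.eval (m : ℚ) := by rw [h, eval_add]
  rw [hα, hev] at b ⊢
  nlinarith

/-! ### sums with a fixed reduced polynomial -/

theorem redEq_zero_left (d : ℕ) (P : ℚ[X]) : RedEq d 0 P := by
  unfold RedEq
  rw [smul_zero, alpha_zero, zero_smul]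

theorem redEq_add {d : ℕ} {P1 P2 PE : ℚ[X]} (h1 : RedEq d P1 PE) (h2 : RedEq d P2 PE) :
    RedEq d (P1 + P2) PE := by
  unfold RedEq at *
  rw [smul_add, h1, h2, alpha_add, add_smul]

theorem redEq_sub {d : ℕ} {P P1 P2 PE : ℚ[X]} (h : P = P1 + P2) (h1 : RedEq d P1 PE)
    (hP : RedEq d P PE) : RedEq d P2 PE := by
  unfold RedEq at *
  have hα : alpha d P = alpha d P1 + alpha d P2 := by rw [h, alpha_add]
  have h2 : alpha d PE • P2 = alpha d PE • P - alpha d PE • P1 := by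
    rw [← smul_sub]; congr 1; rw [h]; ring
  rw [h2, hP, h1, ← sub_smul]
  congr 1
  rw [hα]; ring

/-- if `P_S + P_T = P_I + P_U`, the outer terms have the reduced polynomial of `E` and the inner
ones at most, then all have. -/
theorem redEq_of_sum {d : ℕ} {PS PT PI PU PE : ℚ[X]} (hsum : PS + PT = PI + PU)
    (hS : RedEq d PS PE) (hT : RedEq d PT PE) (hI : RedLE d PI PE) (hU : RedLE d PU PE) :
    RedEq d PI PE ∧ RedEq d PU PE := by
  have hα : alpha d PS + alpha d PT = alpha d PI + alpha d PU := by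
    rw [← alpha_add, ← alpha_add, hsum]
  have key : ∀ m : ℕ, alpha d PE * (PI.eval (m : ℚ) + PU.eval (m : ℚ)) =
      (alpha d PI + alpha d PU) * PE.eval (m : ℚ) := by
    intro m
    have e1 := congrArg (fun Q : ℚ[X] => Q.eval (m : ℚ)) hS
    have e2 := congrArg (fun Q : ℚ[X] => Q.eval (m : ℚ)) hT
    simp only [eval_smul, smul_eq_mul] at e1 e2
    have e3 : PS.eval (m : ℚ) + PT.eval (m : ℚ) = PI.eval (m : ℚ) + PU.eval (m : ℚ) := by
      rw [← eval_add, ← eval_add, hsum]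
    rw [← e3, ← hα]
    linarith
  obtain ⟨N1, hN1⟩ := hI
  obtain ⟨N2, hN2⟩ := hU
  constructor
  · apply redEq_of_redLE_of_redLE ⟨N1, hN1⟩
    refine ⟨N2, fun m hm => ?_⟩
    have a2 := hN2 m hm
    have k := key m
    simp only [eval_smul, smul_eq_mul] at a2 ⊢
    linarith
  · apply redEq_of_redLE_of_redLE ⟨N2, hN2⟩
    refine ⟨N1, fun m hm => ?_⟩
    have a1 := hN1 m hm
    have k := key m
    simp only [eval_smul, smul_eq_mul] at a1 ⊢
    linarith

theorem redLE_zero_left {d : ℕ} (P : ℚ[X]) : RedLE d 0 P :=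
  redLE_of_redEq (redEq_zero_left d P)

end Groth.Agent.Lib.PolyOrd
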