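import Mathlib
import Groth.Prelude
import Groth.Agent.Lib.AbFilt2_helper6

/-!
# The maximal destabilising subobject (helper6)

`exists_maxDestabSub`: in the setting of `Ax`, a nonzero pure object has a maximal destabilising
subobject; `exists_isMaxDestabWith`: the same in the form of `StabCat.IsMaxDestabWith`.
APPEND-ONLY once landed.
-/

set_option autoImplicit false
set_option linter.all false
set_option maxHeartbeats 1600000

universe u v
open CategoryTheory CategoryTheory.Limits Polynomial StabCat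

namespace Groth.Agent.Lib.AbFilt

open Groth.Agent.Lib.PolyOrd

variable {C : Type u} [Category.{v} C] [Abelian C]

theorem le_of_isZero_cokernel_ofLE {E : C} {S T : Subobject E} (h : S ≤ T)
    (hz : IsZero (cokernel (Subobject.ofLE S T h))) : T ≤ S := by
  haveI : Epi (Subobject.ofLE S T h) := Preadditive.epi_of_isZero_cokernel _ hz
  haveI : IsIso (Subobject.ofLE S T h) := isIso_of_mono_of_epi _
  refine Subobject.le_of_comm (inv (Subobject.ofLE S T h)) ?_
  rw [IsIso.inv_comp_eq, Subobject.ofLE_arrow]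

section MaxDestab

variable {ok : C → Prop} {HP : C → ℚ[X] → Prop} {Pure D : C → Prop} {d : ℕ}
  (ax : Ax ok HP Pure D d) {E : C} (hE : ok E) (hne : ¬ IsZero E) (hp : Pure E)

include ax hE hne hp

theorem D_sub' (S : Subobject E) : D (S : C) :=
  ax.D_sub S.arrow inferInstance (ax.D_of_pure hE hne hp)

theorem alpha_pos_sub {S : Subobject E} (hS : ok (S : C)) (hS0 : S ≠ ⊥) :
    0 < alpha d (hpf HP (S : C)) :=
  ax.pure_pos S.arrow hp inferInstance hS (fun hz => hS0 ((eq_bot_iff_isZero S).mpr hz))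
    (hpf_spec ax hS)

theorem alpha_mono {S T : Subobject E} (h : S ≤ T) (hS : ok (S : C)) (hT : ok (T : C)) :
    alpha d (hpf HP (S : C)) ≤ alpha d (hpf HP (T : C)) := by
  rw [hpf_quot ax h hS hT, alpha_add]
  have hq : D (cokernel (Subobject.ofLE S T h)) :=
    ax.D_quot (cokernel.π _) inferInstance hT (ok_quot ax h hS hT) (D_sub' ax hE hne hp T)
  have := ax.alpha_nonneg (ok_quot ax h hS hT) hq (hpf_spec ax (ok_quot ax h hS hT))
  linarith

theorem redLT_of_lt_of_alpha_eq {S T : Subobject E} (h : S < T) (hS : ok (S : C))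
    (hT : ok (T : C)) (hS0 : S ≠ ⊥)
    (hα : alpha d (hpf HP (S : C)) = alpha d (hpf HP (T : C))) :
    RedLT d (hpf HP (S : C)) (hpf HP (T : C)) := by
  have hq := ok_quot ax h.le hS hT
  have hqne : ¬ IsZero (cokernel (Subobject.ofLE S T h.le)) := fun hz =>
    absurd (le_of_isZero_cokernel_ofLE h.le hz) (not_le_of_gt h)
  exact redLT_of_alpha_eq (hpf_quot ax h.le hS hT) hα (alpha_pos_sub ax hE hne hp hS hS0)
    (hpf_pos ax hq hqne)

/-- `F` is maximal below `B` for the order "contained, with smaller or equal reduced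
polynomial". -/
def IsMaxl (HP : C → ℚ[X] → Prop) (ok : C → Prop) (d : ℕ) (B F : Subobject E) : Prop :=
  ok (F : C) ∧ F ≠ ⊥ ∧ F ≤ B ∧
    ∀ T : Subobject E, ok (T : C) → F < T → T ≤ B → RedLT d (hpf HP (T : C)) (hpf HP (F : C))

theorem exists_isMaxl (B : Subobject E) (S : Subobject E) (hS : ok (S : C)) (hS0 : S ≠ ⊥)
    (hSB : S ≤ B) :
    ∃ F : Subobject E, IsMaxl HP ok d B F ∧ S ≤ F ∧ RedLE d (hpf HP (S : C)) (hpf HP (F : C)) := by
  have key : ∀ S' : {S : Subobject E // ok (S : C)}, S'.1 ≠ ⊥ → S'.1 ≤ B →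
      ∃ F : Subobject E, IsMaxl HP ok d B F ∧ S'.1 ≤ F ∧
        RedLE d (hpf HP (S'.1 : C)) (hpf HP (F : C)) := by
    intro S'
    induction S' using (ax.acc E hE).induction with
    | _ S' ih =>
      intro h0 hB
      by_cases hmax : ∀ T : Subobject E, ok (T : C) → S'.1 < T → T ≤ B →
          RedLT d (hpf HP (T : C)) (hpf HP (S'.1 : C))
      · exact ⟨S'.1, ⟨S'.2, h0, hB, hmax⟩, le_rfl, redLE_refl d _⟩
      · push Not at hmax
        obtain ⟨T, hT, hlt, hTB, hnlt⟩ := hmax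
        have hT0 : T ≠ ⊥ := by
          rintro rfl
          exact absurd hlt (not_lt_bot)
        obtain ⟨F, hF, hTF, hle⟩ := ih ⟨T, hT⟩ hlt hT0 hTB
        refine ⟨F, hF, hlt.le.trans hTF, ?_⟩
        exact redLE_trans (alpha_pos_sub ax hE hne hp S'.2 h0).le
          (alpha_pos_sub ax hE hne hp hT hT0) (alpha_pos_sub ax hE hne hp hF.1 hF.2.1).le
          (not_redLT_iff.mp hnlt) hle
  exact key ⟨S, hS⟩ hS0 hSB

/-- the key inequality for a maximal `F` and a subobject `G` not contained in `F`. -/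
theorem redLT_inf {F G : Subobject E} (hF : IsMaxl HP ok d ⊤ F) (hG : ok (G : C))
    (hG0 : G ≠ ⊥) (hGF : ¬ G ≤ F) (hle : RedLE d (hpf HP (F : C)) (hpf HP (G : C))) :
    F ⊓ G ≠ ⊥ ∧ RedLT d (hpf HP (G : C)) (hpf HP ((F ⊓ G : Subobject E) : C)) := by
  have hU : ok ((F ⊔ G : Subobject E) : C) := ok_sup ax hE hF.1 hG
  have hI : ok ((F ⊓ G : Subobject E) : C) := ok_inf ax hE hF.1 hG
  have hlt : F < F ⊔ G := lt_of_le_of_ne le_sup_left (fun h => hGF (h ▸ le_sup_right))
  have h2 := hF.2.2.2 (F ⊔ G) hU hlt le_top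
  have h3 := redLT_inf_of_sup (hpf_inf_sup ax hE hF.1 hG)
    (alpha_pos_sub ax hE hne hp hF.1 hF.2.1) (alpha_pos_sub ax hE hne hp hG hG0)
    (alpha_mono ax hE hne hp inf_le_right hI hG) hle h2
  refine ⟨?_, h3⟩
  intro h0
  have hz : hpf HP ((F ⊓ G : Subobject E) : C) = 0 :=
    hpf_of_isZero ax hI ((eq_bot_iff_isZero _).mp h0)
  rw [hz] at h3
  obtain ⟨N, hN⟩ := h3
  have := hN N le_rfl
  simp only [alpha_zero, zero_smul, smul_zero, eval_zero, lt_self_iff_false] at this

/-- existence of the maximal destabilising subobject. -/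
theorem exists_maxDestabSub :
    ∃ F : Subobject E, ok (F : C) ∧ F ≠ ⊥ ∧
      ∀ G : Subobject E, ok (G : C) → G ≠ ⊥ →
        RedLE d (hpf HP (G : C)) (hpf HP (F : C)) ∧
          (RedEq d (hpf HP (G : C)) (hpf HP (F : C)) → G ≤ F) := by
  classical
  have htop0 : (⊤ : Subobject E) ≠ ⊥ := by
    intro h
    apply hne
    have hz := (eq_bot_iff_isZero (⊤ : Subobject E)).mp h
    exact IsZero.of_iso hz (asIso (⊤ : Subobject E).arrow).symm
  -- multiplicities are natural numbers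
  have hint : ∀ S : Subobject E, ok (S : C) → ∃ n : ℤ, alpha d (hpf HP (S : C)) = n :=
    fun S hS => ax.alpha_int hS (D_sub' ax hE hne hp S) (hpf_spec ax hS)
  -- the set of maximal subobjects is nonempty
  have hex : ∃ n : ℕ, ∃ F : Subobject E, IsMaxl HP ok d ⊤ F ∧
      alpha d (hpf HP (F : C)) = (n : ℚ) := by
    have hmax : IsMaxl HP ok d ⊤ (⊤ : Subobject E) :=
      ⟨ok_top ax hE, htop0, le_rfl, fun T _ hlt _ => absurd hlt not_top_lt⟩
    obtain ⟨n, hn⟩ := hint ⊤ (ok_top ax hE)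
    have hpos := alpha_pos_sub ax hE hne hp (ok_top ax hE) htop0
    refine ⟨n.toNat, ⊤, hmax, ?_⟩
    rw [hn]
    have : 0 < n := by
      rw [hn] at hpos; exact_mod_cast hpos
    have h2 : ((n.toNat : ℤ) : ℚ) = (n : ℚ) := by
      rw [Int.toNat_of_nonneg this.le]
    rw [← h2]; norm_cast
  obtain ⟨F, hF, hFn⟩ := Nat.find_spec hex
  have hmin : ∀ F' : Subobject E, IsMaxl HP ok d ⊤ F' →
      alpha d (hpf HP (F : C)) ≤ alpha d (hpf HP (F' : C)) := by
    intro F' hF'
    obtain ⟨n', hn'⟩ := hint F' hF'.1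
    have hpos := alpha_pos_sub ax hE hne hp hF'.1 hF'.2.1
    have hn'pos : 0 < n' := by rw [hn'] at hpos; exact_mod_cast hpos
    have h2 : alpha d (hpf HP (F' : C)) = ((n'.toNat : ℕ) : ℚ) := by
      rw [hn']
      have : ((n'.toNat : ℤ) : ℚ) = (n' : ℚ) := by rw [Int.toNat_of_nonneg hn'pos.le]
      rw [← this]; norm_cast
    have h3 := Nat.find_min' hex ⟨F', hF', h2⟩
    rw [hFn, h2]
    exact_mod_cast h3
  have aF := alpha_pos_sub ax hE hne hp hF.1 hF.2.1
  -- Claim A: no subobject of `F` has strictly bigger reduced polynomial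
  have claimA : ∀ G : Subobject E, ok (G : C) → G ≠ ⊥ → G ≤ F →
      ¬ RedLT d (hpf HP (F : C)) (hpf HP (G : C)) := by
    intro G₀ hG₀ hG₀0 hG₀F hlt₀
    -- replace `G₀` by a maximal one inside `F`
    obtain ⟨G, hG, hG₀G, hle₀⟩ := exists_isMaxl ax hE hne hp F G₀ hG₀ hG₀0 hG₀F
    have aG₀ := alpha_pos_sub ax hE hne hp hG₀ hG₀0
    have aG := alpha_pos_sub ax hE hne hp hG.1 hG.2.1
    have hlt : RedLT d (hpf HP (F : C)) (hpf HP (G : C)) :=
      redLT_of_lt_of_le aF.le aG₀ aG hlt₀ hle₀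
    -- a maximal `G'` in `E` above `G`
    obtain ⟨G', hG', hGG', hle'⟩ := exists_isMaxl ax hE hne hp ⊤ G hG.1 hG.2.1 le_top
    have aG' := alpha_pos_sub ax hE hne hp hG'.1 hG'.2.1
    have hlt' : RedLT d (hpf HP (F : C)) (hpf HP (G' : C)) :=
      redLT_of_lt_of_le aF.le aG aG' hlt hle'
    by_cases hG'F : G' ≤ F
    · have hne' : G' ≠ F := by
        rintro rfl
        exact redLT_irrefl d _ hlt'
      have hlt'' : G' < F := lt_of_le_of_ne hG'F hne'
      have hαle := alpha_mono ax hE hne hp hG'F hG'.1 hF.1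
      rcases lt_or_eq_of_le hαle with hα | hα
      · exact absurd (hmin G' hG') (not_le_of_gt hα)
      · exact not_redLT_of_redLE (redLE_of_redLT
          (redLT_of_lt_of_alpha_eq ax hE hne hp hlt'' hG'.1 hF.1 hG'.2.1 hα)) hlt'
    · obtain ⟨hI0, hI⟩ := redLT_inf ax hE hne hp hF hG'.1 hG'.2.1 hG'F (redLE_of_redLT hlt')
      have hIok : ok ((F ⊓ G' : Subobject E) : C) := ok_inf ax hE hF.1 hG'.1
      have aI := alpha_pos_sub ax hE hne hp hIok hI0
      have hGI : G ≤ F ⊓ G' := le_inf hG.2.2.1 hGG'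
      have hltGI : RedLT d (hpf HP (G : C)) (hpf HP ((F ⊓ G' : Subobject E) : C)) :=
        redLT_of_le_of_lt aG aG' aI.le hle' hI
      rcases eq_or_lt_of_le hGI with heq | hlt3
      · rw [← heq] at hltGI
        exact redLT_irrefl d _ hltGI
      · exact not_redLT_of_redLE (redLE_of_redLT (hG.2.2.2 _ hIok hlt3 inf_le_left)) hltGI
  -- Claim B
  have claimB : ∀ G : Subobject E, ok (G : C) → G ≠ ⊥ → ¬ G ≤ F →
      RedLT d (hpf HP (G : C)) (hpf HP (F : C)) := by
    intro G hG hG0 hGF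
    by_contra hcon
    have hle : RedLE d (hpf HP (F : C)) (hpf HP (G : C)) := not_redLT_iff.mp hcon
    obtain ⟨hI0, hI⟩ := redLT_inf ax hE hne hp hF hG hG0 hGF hle
    have hIok : ok ((F ⊓ G : Subobject E) : C) := ok_inf ax hE hF.1 hG
    have aG := alpha_pos_sub ax hE hne hp hG hG0
    have aI := alpha_pos_sub ax hE hne hp hIok hI0
    exact claimA _ hIok hI0 inf_le_left (redLT_of_le_of_lt aF aG aI.le hle hI)
  refine ⟨F, hF.1, hF.2.1, fun G hG hG0 => ?_⟩
  by_cases hGF : G ≤ F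
  · exact ⟨not_redLT_iff.mp (claimA G hG hG0 hGF), fun _ => hGF⟩
  · have := claimB G hG hG0 hGF
    exact ⟨redLE_of_redLT this, fun he => absurd this (not_redLT_of_redEq he)⟩

/-- existence of the maximal destabilising subobject, in the form of `IsMaxDestabWith`. -/
theorem exists_isMaxDestabWith : ∃ (F : C) (ι : F ⟶ E), IsMaxDestabWith ok HP d E F ι := by
  obtain ⟨F, hF, hF0, h⟩ := exists_maxDestabSub ax hE hne hp
  refine ⟨(F : C), F.arrow, inferInstance, hF, fun hz => hF0 ((eq_bot_iff_isZero F).mpr hz), ?_⟩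
  intro G κ hκ hG hG0 pF pG hpF hpG
  haveI := hκ
  have hGs : ok ((Subobject.mk κ : Subobject E) : C) :=
    ax.ok_iso (Subobject.underlyingIso κ).symm hG
  have hGs0 : Subobject.mk κ ≠ ⊥ := fun h0 =>
    hG0 (IsZero.of_iso ((eq_bot_iff_isZero _).mp h0) (Subobject.underlyingIso κ).symm)
  have e1 : hpf HP ((Subobject.mk κ : Subobject E) : C) = pG :=
    hpf_eq ax hGs (ax.hp_iso (Subobject.underlyingIso κ).symm hpG)
  have e2 : hpf HP (F : C) = pF := hpf_eq ax hF hpF
  obtain ⟨h1, h2⟩ := h (Subobject.mk κ) hGs hGs0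
  rw [e1, e2] at h1 h2
  refine ⟨h1, fun he => ?_⟩
  have hle := h2 he
  exact ⟨Subobject.ofMkLE κ F hle, Subobject.ofMkLE_arrow hle⟩

end MaxDestab

end Groth.Agent.Lib.AbFilt
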